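import Cfsg.Statements.S0917
import Cfsg.Agent.Lib.Block.SecondMain
import Cfsg.Agent.Lib.Block.Brauer
import Cfsg.Agent.Lib.Block.Defect

set_option autoImplicit false
open Cfsg

namespace Cfsg.Agent.S0917

open Cfsg.Agent.Block Cfsg.Agent.Char

/-- Let H be a subgroup of the finite group G, p a prime and M a maximal ideal of the algebraic integers containing p. If the block b of H induces the block B of G relative to M, then every defect group of b (a subgroup of H, viewed in G) is contained in some defect group of B. -/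
theorem result {G : Type*} [Group G] [Finite G] (p : ℕ) [Fact p.Prime] (M : Ideal Cfsg.AlgInt) (hM : Cfsg.IsPModular p M) (H : Subgroup G) (b : Set (Cfsg.IrrCharacter H)) (hb : Cfsg.IsPBlock M b) (B : Set (Cfsg.IrrCharacter G)) (hB : Cfsg.IsPBlock M B) (hind : Cfsg.IsInducedBlock M H b B) (D : Subgroup H) (hD : Cfsg.IsDefectGroup p M b D) : ∃ E : Subgroup G, Cfsg.IsDefectGroup p M B E ∧ D.map H.subtype ≤ E := by
  haveI := prime_of_isPModular hM
  classical
  haveI := Fintype.ofFinite G
  haveI := Fintype.ofFinite H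
  haveI := Fintype.ofFinite (ConjClasses H)
  obtain ⟨g, hg⟩ := exists_isDefectClass (M := M) hB
  obtain ⟨ξ, hξ⟩ := isPBlock_nonempty hb
  obtain ⟨χ, hχ⟩ := isPBlock_nonempty hB
  have hnot : ¬ MemLocalIdeal M (inducedCentralChar H (ξ : H → ℂ) g) := fun h => hg.2.2 χ hχ (by
    have := memLocalIdeal_add (memLocalIdeal_neg (hind.2.2 ξ hξ χ hχ g)) h
    simpa using this)
  rw [inducedCentralChar_eq_omega, omega_eq_sum_classes ξ (isCentralElt_resH H (isCentralElt_classSum g))] at hnot
  have hex : ∃ C : ConjClasses H, IsConj g ((classRep C : H) : G) ∧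
      ¬ MemLocalIdeal M (centralChar (ξ : H → ℂ) (classRep C)) := by
    by_contra hcon
    push Not at hcon
    refine hnot (memLocalIdeal_sum _ _ fun C _ => ?_)
    by_cases hC : IsConj g ((classRep C : H) : G)
    · exact memLocalIdeal_mul_left (isLocElt_resH H (isLocElt_classSum g) _) (hcon C hC)
    · rw [isConj_iff] at hC; simp [classSum, hC, memLocalIdeal_zero]
  obtain ⟨C, hgC, hu⟩ := hex
  set h : H := classRep C
  obtain ⟨S⟩ : Nonempty (Sylow p (Subgroup.centralizer ({h} : Set H))) := inferInstance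
  obtain ⟨x, hx⟩ := exists_conj_le_of_centralChar_unit hM hb hD ⟨ξ, hξ, hu⟩ S
  obtain ⟨t, ht⟩ := isConj_iff.1 hgC.symm
  have hDp : IsPGroup p D := by
    obtain ⟨g', hg', S', rfl⟩ := id hD
    exact S'.2.map _
  set Q : Subgroup G := (D.map H.subtype).map (MulAut.conj (t * (x : G))).toMonoidHom with hQ
  have hQp : IsPGroup p Q := (hDp.map _).map _
  have hQg : Q ≤ Subgroup.centralizer ({g} : Set G) := by
    rintro _ ⟨_, ⟨d, hd, rfl⟩, rfl⟩
    have h1 := sylowImage_le S (hx ⟨d, hd, rfl⟩)
    rw [mem_centralizer_singleton] at h1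
    have h2 : Commute ((x : G) * (d : G) * (x : G)⁻¹) (h : G) := by
      have h3 := h1.map H.subtype
      first
        | simpa using h3
        | simpa using h3.symm
    have h4 := h2.map (MulAut.conj t).toMonoidHom
    rw [mem_centralizer_singleton]
    simp only [MulEquiv.coe_toMonoidHom, MulAut.conj_apply, ht] at h4 ⊢
    have e : t * (x : G) * (d : G) * (t * (x : G))⁻¹ = t * ((x : G) * (d : G) * (x : G)⁻¹) * t⁻¹ := by group
    first
      | (rw [Subgroup.coe_subtype, e]; exact h4)
      | (rw [Subgroup.coe_subtype, e]; exact h4.symm)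
  obtain ⟨T, hT⟩ := (show IsPGroup p (Q.subgroupOf (Subgroup.centralizer ({g} : Set G))) from hQp.comap_subtype).exists_le_sylow
  set E0 : Subgroup G := (T : Subgroup (Subgroup.centralizer ({g} : Set G))).map (Subgroup.centralizer ({g} : Set G)).subtype
  have hE0 : IsDefectGroup p M B E0 := ⟨g, hg, T, rfl⟩
  have hQE : Q ≤ E0 := by
    intro q hq
    exact ⟨⟨q, hQg hq⟩, hT hq, rfl⟩
  refine ⟨_, isDefectGroup_map_conj hE0 (t * (x : G))⁻¹, fun d hd => ?_⟩
  exact ⟨MulAut.conj (t * (x : G)) d, hQE ⟨d, hd, rfl⟩, by simp [mul_assoc]⟩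

end Cfsg.Agent.S0917
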