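import Cfsg.Statements.S0209
import Cfsg.Agent.Lib.Inv.Dihedral

set_option autoImplicit false
open Cfsg

namespace Cfsg.Agent.S0209

/-- If x, y are involutions whose product has even order n, the element (xy)^(n/2) is an involution that commutes with x and with y. -/
theorem result {G : Type*} [Group G] [Finite G] (x y : G) (hx : orderOf x = 2) (hy : orderOf y = 2) (heven : Even (orderOf (x * y))) : orderOf ((x * y) ^ (orderOf (x * y) / 2)) = 2 ∧ Commute ((x * y) ^ (orderOf (x * y) / 2)) x ∧ Commute ((x * y) ^ (orderOf (x * y) / 2)) y := by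
  have h2 := Cfsg.Agent.Inv.orderOf_pow_half (x * y) heven
  have hc : Commute ((x * y) ^ (orderOf (x * y) / 2)) x := by
    have e := Cfsg.Agent.Inv.x_mul_zpow hx hy ((orderOf (x * y) / 2 : ℕ) : ℤ)
    rw [zpow_neg, zpow_natCast, Cfsg.Agent.Inv.inv_eq_self_of_orderOf_two h2] at e
    exact e.symm
  refine ⟨h2, hc, ?_⟩
  have := hc.inv_right.mul_right (Commute.pow_self (x * y) (orderOf (x * y) / 2))
  rwa [inv_mul_cancel_left] at this

end Cfsg.Agent.S0209
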