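import Cfsg.Statements.S1505
import Cfsg.Agent.Lib.Char.CyclicTI

set_option autoImplicit false
open Cfsg

namespace Cfsg.Agent.S1505

open Cfsg Cfsg.Agent.Char

open Classical in
/-- Let W₁, W₂ ≤ G form a self-normalising cyclic subgroup W = W₁ ⊔ W₂. For nontrivial linear characters φ, φ' of W trivial on W₂ and ψ, ψ' trivial on W₁, put α = (1 − φ)(1 − ψ) and α' = (1 − φ')(1 − ψ'). Then the function induced from α to G has inner product 1 with the principal character, and the inner product of the functions induced from α and α' is 1 + a + b + ab where a = 1 if φ = φ' (else 0) and b = 1 if ψ = ψ' (else 0). -/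
theorem result {G : Type*} [Group G] [Fintype G] (W₁ W₂ : Subgroup G) (hW : Cfsg.IsSelfNormalizingCyclic W₁ W₂) (φ φ' ψ ψ' : ↥(W₁ ⊔ W₂) →* ℂˣ) (hφ : φ ≠ 1) (hφ' : φ' ≠ 1) (hψ : ψ ≠ 1) (hψ' : ψ' ≠ 1) (hφ₂ : ∀ w : ↥(W₁ ⊔ W₂), (w : G) ∈ W₂ → φ w = 1 ∧ φ' w = 1) (hψ₁ : ∀ w : ↥(W₁ ⊔ W₂), (w : G) ∈ W₁ → ψ w = 1 ∧ ψ' w = 1) : Cfsg.classInner (Cfsg.indFun (W₁ ⊔ W₂) (fun w => 1 - (φ w : ℂ) - (ψ w : ℂ) + (φ w : ℂ) * (ψ w : ℂ))) (fun _ => 1) = 1 ∧ Cfsg.classInner (Cfsg.indFun (W₁ ⊔ W₂) (fun w => 1 - (φ w : ℂ) - (ψ w : ℂ) + (φ w : ℂ) * (ψ w : ℂ))) (Cfsg.indFun (W₁ ⊔ W₂) (fun w => 1 - (φ' w : ℂ) - (ψ' w : ℂ) + (φ' w : ℂ) * (ψ' w : ℂ))) = 1 + (if φ = φ' then 1 else 0) + (if ψ = ψ' then 1 else 0) + (if φ = φ' then 1 else 0) * (if ψ = ψ' then 1 else 0) := by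
  classical
  haveI := Fintype.ofFinite ↥(W₁ ⊔ W₂)
  have hext := @cyclicTI_hom_ext G _ W₁ W₂ hW
  have e : ∀ f f' : ↥(W₁ ⊔ W₂) →* ℂˣ,
      (fun w : ↥(W₁ ⊔ W₂) => 1 - (f w : ℂ) - (f' w : ℂ) + (f w : ℂ) * (f' w : ℂ)) =
        (fun w => ((1 : ↥(W₁ ⊔ W₂) →* ℂˣ) w : ℂ)) - (fun w => (f w : ℂ)) -
          (fun w => (f' w : ℂ)) + (fun w => ((f * f' : ↥(W₁ ⊔ W₂) →* ℂˣ) w : ℂ)) := by
    intro f f'
    funext w
    simp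
  -- comparisons of the characters occurring
  have hne1 : ∀ a b : ↥(W₁ ⊔ W₂) →* ℂˣ,
      (∀ w : ↥(W₁ ⊔ W₂), (w : G) ∈ W₂ → a w = 1) →
      (∀ w : ↥(W₁ ⊔ W₂), (w : G) ∈ W₁ → b w = 1) →
      (a * b = 1 ↔ a = 1 ∧ b = 1) ∧
      ∀ a' b' : ↥(W₁ ⊔ W₂) →* ℂˣ,
        (∀ w : ↥(W₁ ⊔ W₂), (w : G) ∈ W₂ → a' w = 1) →
        (∀ w : ↥(W₁ ⊔ W₂), (w : G) ∈ W₁ → b' w = 1) →
        (a * b = a' * b' → a = a' ∧ b = b') := by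
    intro a b ha hb
    have main : ∀ a' b' : ↥(W₁ ⊔ W₂) →* ℂˣ,
        (∀ w : ↥(W₁ ⊔ W₂), (w : G) ∈ W₂ → a' w = 1) →
        (∀ w : ↥(W₁ ⊔ W₂), (w : G) ∈ W₁ → b' w = 1) →
        (a * b = a' * b' → a = a' ∧ b = b') := by
      intro a' b' ha' hb' h
      constructor <;> refine hext fun w hw => ?_
      · rcases hw with hw | hw
        · have := DFunLike.congr_fun h w
          simpa [hb w hw, hb' w hw] using this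
        · rw [ha w hw, ha' w hw]
      · rcases hw with hw | hw
        · rw [hb w hw, hb' w hw]
        · have := DFunLike.congr_fun h w
          simpa [ha w hw, ha' w hw] using this
    refine ⟨⟨fun h => main 1 1 (fun _ _ => rfl) (fun _ _ => rfl) (h.trans ?_), ?_⟩, main⟩
    · exact MonoidHom.ext fun w => by simp
    · rintro ⟨rfl, rfl⟩
      exact MonoidHom.ext fun w => by simp
  have h1x : ∀ a : ↥(W₁ ⊔ W₂) →* ℂˣ, a * 1 = a := fun a => MonoidHom.ext fun w => by simp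
  have h1y : ∀ a : ↥(W₁ ⊔ W₂) →* ℂˣ, 1 * a = a := fun a => MonoidHom.ext fun w => by simp
  have p2 : ∀ w : ↥(W₁ ⊔ W₂), (w : G) ∈ W₂ → φ w = 1 := fun w h => (hφ₂ w h).1
  have p2' : ∀ w : ↥(W₁ ⊔ W₂), (w : G) ∈ W₂ → φ' w = 1 := fun w h => (hφ₂ w h).2
  have q1 : ∀ w : ↥(W₁ ⊔ W₂), (w : G) ∈ W₁ → ψ w = 1 := fun w h => (hψ₁ w h).1
  have q1' : ∀ w : ↥(W₁ ⊔ W₂), (w : G) ∈ W₁ → ψ' w = 1 := fun w h => (hψ₁ w h).2
  have o : ∀ w : ↥(W₁ ⊔ W₂), (w : G) ∈ W₂ → (1 : ↥(W₁ ⊔ W₂) →* ℂˣ) w = 1 := fun _ _ => rfl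
  have o' : ∀ w : ↥(W₁ ⊔ W₂), (w : G) ∈ W₁ → (1 : ↥(W₁ ⊔ W₂) →* ℂˣ) w = 1 := fun _ _ => rfl
  have A1 : ∀ a b a' b' : ↥(W₁ ⊔ W₂) →* ℂˣ,
      (∀ w : ↥(W₁ ⊔ W₂), (w : G) ∈ W₂ → a w = 1) →
      (∀ w : ↥(W₁ ⊔ W₂), (w : G) ∈ W₁ → b w = 1) →
      (∀ w : ↥(W₁ ⊔ W₂), (w : G) ∈ W₂ → a' w = 1) →
      (∀ w : ↥(W₁ ⊔ W₂), (w : G) ∈ W₁ → b' w = 1) →
      (a ≠ a' ∨ b ≠ b') →
      classInner (fun w : ↥(W₁ ⊔ W₂) => ((a * b : ↥(W₁ ⊔ W₂) →* ℂˣ) w : ℂ))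
        (fun w => ((a' * b' : ↥(W₁ ⊔ W₂) →* ℂˣ) w : ℂ)) = 0 := by
    intro a b a' b' ha hb ha' hb' hor
    rw [classInner_monoidHom, if_neg]
    intro h
    obtain ⟨r, s⟩ := (hne1 a b ha hb).2 a' b' ha' hb' h
    rcases hor with h' | h'
    · exact h' r
    · exact h' s
  have hone : (fun _ : ↥(W₁ ⊔ W₂) => (1 : ℂ)) =
      fun w => (((1 : ↥(W₁ ⊔ W₂) →* ℂˣ) * 1 : ↥(W₁ ⊔ W₂) →* ℂˣ) w : ℂ) := by
    funext w; simp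
  constructor
  · rw [classInner_indFun _ _ (fun _ _ => rfl), e,
      classInner_add_left, classInner_sub_left, classInner_sub_left, hone]
    conv_lhs => arg 1; arg 1; arg 2; rw [← h1x φ]
    conv_lhs => arg 1; arg 2; rw [← h1y ψ]
    rw [A1 φ 1 1 1 p2 o' o o' (Or.inl hφ), A1 1 ψ 1 1 o q1 o o' (Or.inr hψ),
      A1 φ ψ 1 1 p2 q1 o o' (Or.inl hφ), h1x, classInner_monoidHom, if_pos rfl]
    ring
  · have hvan : ∀ f f' : ↥(W₁ ⊔ W₂) →* ℂˣ,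
        (∀ w : ↥(W₁ ⊔ W₂), (w : G) ∈ W₂ → f w = 1) →
        (∀ w : ↥(W₁ ⊔ W₂), (w : G) ∈ W₁ → f' w = 1) →
        ∀ w : ↥(W₁ ⊔ W₂), (w : G) ∉ tiSet W₁ W₂ →
          (fun w : ↥(W₁ ⊔ W₂) => 1 - (f w : ℂ) - (f' w : ℂ) + (f w : ℂ) * (f' w : ℂ)) w = 0 := by
      intro f f' hf hf' w hw
      have : (w : G) ∈ W₁ ∨ (w : G) ∈ W₂ := by
        by_contra hh
        exact hw ⟨w.2, hh⟩
      rcases this with h | h
      · simp [hf' w h]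
      · simp [hf w h]
    have hcls : ∀ F : ↥(W₁ ⊔ W₂) → ℂ, IsClassFunction ↥(W₁ ⊔ W₂) F := by
      intro F x y
      congr 1
      refine Subtype.ext ?_
      show (y : G) * x * (y : G)⁻¹ = x
      rw [cyclicTI_comm hW y.2 x.2]
      group
    rw [classInner_indFun_ti (tiSet W₁ W₂) (W₁ ⊔ W₂) (cyclicTI_ti hW) (hcls _)
      (hvan φ ψ p2 q1) (hvan φ' ψ' p2' q1') (by simp)]
    rw [e φ ψ, e φ' ψ']
    simp only [classInner_add_left, classInner_sub_left, classInner_add_right,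
      classInner_sub_right]
    have P : ∀ a b a' b' : ↥(W₁ ⊔ W₂) →* ℂˣ,
      (∀ w : ↥(W₁ ⊔ W₂), (w : G) ∈ W₂ → a w = 1) →
      (∀ w : ↥(W₁ ⊔ W₂), (w : G) ∈ W₁ → b w = 1) →
      (∀ w : ↥(W₁ ⊔ W₂), (w : G) ∈ W₂ → a' w = 1) →
      (∀ w : ↥(W₁ ⊔ W₂), (w : G) ∈ W₁ → b' w = 1) →
      classInner (fun w : ↥(W₁ ⊔ W₂) => ((a * b : ↥(W₁ ⊔ W₂) →* ℂˣ) w : ℂ))
        (fun w => ((a' * b' : ↥(W₁ ⊔ W₂) →* ℂˣ) w : ℂ)) =
        (if a = a' then (1 : ℂ) else 0) * (if b = b' then 1 else 0) := by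
      intro a b a' b' ha hb ha' hb'
      by_cases h : a = a' ∧ b = b'
      · obtain ⟨rfl, rfl⟩ := h
        rw [classInner_monoidHom, if_pos rfl, if_pos rfl, if_pos rfl, mul_one]
      · rw [A1 a b a' b' ha hb ha' hb' (not_and_or.mp h)]
        rcases not_and_or.mp h with h | h <;> simp [h]
    have r00 := P 1 1 1 1 o o' o o'
    have r01 := P 1 1 φ' 1 o o' p2' o'
    have r02 := P 1 1 1 ψ' o o' o q1'
    have r03 := P 1 1 φ' ψ' o o' p2' q1'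
    have r10 := P φ 1 1 1 p2 o' o o'
    have r11 := P φ 1 φ' 1 p2 o' p2' o'
    have r12 := P φ 1 1 ψ' p2 o' o q1'
    have r13 := P φ 1 φ' ψ' p2 o' p2' q1'
    have r20 := P 1 ψ 1 1 o q1 o o'
    have r21 := P 1 ψ φ' 1 o q1 p2' o'
    have r22 := P 1 ψ 1 ψ' o q1 o q1'
    have r23 := P 1 ψ φ' ψ' o q1 p2' q1'
    have r30 := P φ ψ 1 1 p2 q1 o o'
    have r31 := P φ ψ φ' 1 p2 q1 p2' o'
    have r32 := P φ ψ 1 ψ' p2 q1 o q1'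
    have r33 := P φ ψ φ' ψ' p2 q1 p2' q1'
    simp only [h1x, h1y, Ne.symm hφ', Ne.symm hψ', hφ, hψ, if_true, if_false, mul_one, mul_zero,
      zero_mul, one_mul] at r00 r01 r02 r03 r10 r11 r12 r13 r20 r21 r22 r23 r30 r31 r32 r33
    rw [r00, r01, r02, r03, r10, r11, r12, r13, r20, r21, r22, r23, r30, r31, r32, r33]
    ring

end Cfsg.Agent.S1505
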