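import Cfsg.Statements.S1498


set_option autoImplicit false
open Cfsg

namespace Cfsg.Agent.S1498

/-- Under the Dade hypothesis for (A, L, H): for a ∈ A and x ∈ L, the subgroup attached to x * a * x⁻¹ is the conjugate of H a by x. -/
theorem result {G : Type*} [Group G] [Finite G] (A : Set G) (L : Subgroup G) (H : G → Subgroup G) (hD : Cfsg.DadeHypothesis A L H) (a : G) (ha : a ∈ A) (x : G) (hx : x ∈ L) : H (x * a * x⁻¹) = (H a).map (MulAut.conj x).toMonoidHom := by
  have hb : x * a * x⁻¹ ∈ A := hD.conj_mem x hx a ha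
  have key : ∀ a ∈ A, ∀ K : Subgroup G, K ≤ Subgroup.centralizer ({a} : Set G) →
      Nat.Coprime (Nat.card K) (Nat.card ↥(L ⊓ Subgroup.centralizer ({a} : Set G))) →
      K ≤ H a := by
    intro a ha K hK hcop u hu
    have hnorm : Subgroup.centralizer ({a} : Set G) ≤ Subgroup.normalizer (H a : Set G) := by
      intro c hc
      rw [Subgroup.mem_normalizer_iff]
      intro n
      refine ⟨fun hn => hD.conj_mem_H a ha c hc n hn, fun hn => ?_⟩
      have := hD.conj_mem_H a ha c⁻¹ (inv_mem hc) _ hn
      simpa [mul_assoc] using this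
    have hu' : u ∈ H a ⊔ (L ⊓ Subgroup.centralizer ({a} : Set G)) := by
      rw [hD.sup_eq a ha]
      exact hK hu
    rw [← SetLike.mem_coe, Subgroup.coe_mul_of_right_le_normalizer_left _ _
      (le_trans inf_le_right hnorm)] at hu'
    obtain ⟨h, hh, l, hl, rfl⟩ := hu'
    have hlN : l ∈ Subgroup.normalizer (H a : Set G) := hnorm hl.2
    have hpow : ∀ n : ℕ, ∃ h' ∈ H a, (h * l) ^ n = h' * l ^ n := by
      intro n
      induction n with
      | zero => exact ⟨1, one_mem _, by simp⟩
      | succ n ih =>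
        obtain ⟨h', hh', e⟩ := ih
        refine ⟨h' * (l ^ n * h * (l ^ n)⁻¹), mul_mem hh' ?_, ?_⟩
        · exact (Subgroup.mem_normalizer_iff.mp (pow_mem hlN n) h).mp hh
        · rw [pow_succ, e, pow_succ]
          group
    obtain ⟨h', hh', e⟩ := hpow (Nat.card K)
    rw [orderOf_dvd_iff_pow_eq_one.mp (K.orderOf_dvd_natCard hu)] at e
    have hl1 : l ^ Nat.card K = 1 := by
      rw [← Subgroup.mem_bot, ← hD.inf_eq_bot a ha]
      refine ⟨?_, pow_mem hl _⟩
      have : l ^ Nat.card K = h'⁻¹ := by
        rw [eq_inv_iff_mul_eq_one]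
        have := congrArg (fun z => h'⁻¹ * z * h') e
        simpa [mul_assoc] using this.symm
      rw [this]
      exact (H a).inv_mem hh'
    have : l = 1 := by
      have h1 : orderOf l ∣ Nat.card K := orderOf_dvd_of_pow_eq_one hl1
      have h2 : orderOf l ∣ Nat.card ↥(L ⊓ Subgroup.centralizer ({a} : Set G)) :=
        Subgroup.orderOf_dvd_natCard _ hl
      exact orderOf_eq_one_iff.mp (Nat.eq_one_of_dvd_coprimes hcop h1 h2)
    simpa [this] using hh
  refine le_antisymm ?_ ?_
  · have h2 : (H (x * a * x⁻¹)).map (MulAut.conj x⁻¹).toMonoidHom ≤ H a := by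
      refine key a ha _ ?_ ?_
      · rintro _ ⟨u, hu, rfl⟩
        have := hD.le_centralizer _ hb hu
        rw [Subgroup.mem_centralizer_singleton_iff] at this ⊢
        simp only [MulEquiv.coe_toMonoidHom, MulAut.conj_apply]
        have e := congrArg (fun z => x⁻¹ * z * x) this
        simpa [mul_assoc] using e
      · rw [Subgroup.card_map_of_injective (MulEquiv.injective _)]
        exact hD.coprime _ hb a ha
    intro u hu
    refine ⟨x⁻¹ * u * x, h2 ⟨u, hu, by simp⟩, ?_⟩
    simp [mul_assoc]
  · refine key _ hb _ ?_ ?_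
    · rintro _ ⟨u, hu, rfl⟩
      have := hD.le_centralizer _ ha hu
      rw [Subgroup.mem_centralizer_singleton_iff] at this ⊢
      simp only [MulEquiv.coe_toMonoidHom, MulAut.conj_apply]
      have e := congrArg (fun z => x * z * x⁻¹) this
      simpa [mul_assoc] using e
    · rw [Subgroup.card_map_of_injective (MulEquiv.injective _)]
      exact hD.coprime a ha _ hb

end Cfsg.Agent.S1498
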