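import Cfsg.Statements.S0897
import Cfsg.Agent.Lib.Char.DadeDetect
import Cfsg.Agent.Lib.Char.ExtendDetect
import Cfsg.Agent.Lib.Struct.SchurLift
import Mathlib.GroupTheory.NoncommCoprod
import Mathlib.GroupTheory.Sylow
import Mathlib.GroupTheory.Complement
-- import your own Cfsg.Agent.* helpers here

set_option autoImplicit false
set_option linter.style.haveILetI false
open Cfsg

namespace Cfsg.Agent.S0897

/-- Let N be a normal subgroup of the finite group G with the index of N a power of the prime p, and P a Sylow p-subgroup of G such that P ⊓ N lies in the centre of P and every character of degree 1 of P ⊓ N is the restriction of a character of degree 1 of P. Then every irreducible character of N invariant under conjugation by G is the restriction of an irreducible character of G. -/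
theorem result {G : Type*} [Group G] [Fintype G] (p : ℕ) [Fact p.Prime] (N : Subgroup G) [hN : N.Normal] (hind : ∃ k : ℕ, N.index = p ^ k) (P : Sylow p G) (hcent : ∀ x ∈ (P : Subgroup G) ⊓ N, ∀ y ∈ (P : Subgroup G), x * y = y * x) (hlin : ∀ lam : ↥((P : Subgroup G) ⊓ N) → ℂ, Cfsg.IsCharacter ↥((P : Subgroup G) ⊓ N) lam → lam 1 = 1 → ∃ μ : ↥(P : Subgroup G) → ℂ, Cfsg.IsCharacter ↥(P : Subgroup G) μ ∧ μ 1 = 1 ∧ ∀ x : ↥((P : Subgroup G) ⊓ N), μ ⟨(x : G), x.2.1⟩ = lam x) (ϑ : N → ℂ) (hϑ : Cfsg.IsIrrCharacter N ϑ) (hinv : ∀ (g : G) (n : N), ϑ ⟨g * n * g⁻¹, hN.conj_mem (n : G) n.2 g⟩ = ϑ n) : ∃ χ : G → ℂ, Cfsg.IsIrrCharacter G χ ∧ ∀ n : N, χ n = ϑ n := by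
  classical
  have hp : p.Prime := Fact.out
  obtain ⟨k, hk⟩ := hind
  have hinv' : ∀ g, Cfsg.Agent.Char.conjChar N g ϑ = ϑ := fun g => funext (hinv g)
  obtain ⟨E, φ, hE, htop, hφ, -, m, hpm, hinner⟩ :=
    Cfsg.Agent.Char.dade_detection N hp ⟨k, hk⟩ hϑ hinv'
  haveI := Fintype.ofFinite (N.subgroupOf E)
  obtain ⟨x, hxc, hxp, kx, hkx⟩ := hE
  let C : Subgroup E := Subgroup.zpowers x
  haveI : C.Normal := ⟨fun c hc a => by
    rwa [Subgroup.mem_center_iff.mp (Subgroup.zpowers_le.mpr hxc hc) a, mul_inv_cancel_right]⟩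
  have hindD : (N.subgroupOf E).index = p ^ k := by
    show N.relIndex E = _
    rw [← Subgroup.relIndex_sup_right E N, htop, Subgroup.relIndex_top_right, hk]
  have hxN : x ∈ N.subgroupOf E := Cfsg.Agent.Char.mem_of_coprime_index hindD hxp
  let Q : Sylow p E := default
  have hCQcop : Nat.Coprime (Nat.card C) (Nat.card (Q : Subgroup E)) := by
    rw [Nat.card_zpowers, Q.card_eq_multiplicity]
    exact hxp.pow_right _
  have hQcard : Nat.card (Q : Subgroup E) = p ^ kx := by
    have h1 : C.index * Nat.card C = Nat.card E := C.index_mul_card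
    rw [Q.card_eq_multiplicity, ← h1, hkx, Nat.factorization_mul (pow_ne_zero _ hp.ne_zero)
      Nat.card_pos.ne']
    simp only [Finsupp.add_apply, hp.factorization_pow, Finsupp.single_eq_same]
    rw [Nat.factorization_eq_zero_of_not_dvd (hp.coprime_iff_not_dvd.mp (by
      rw [Nat.card_zpowers]; exact hxp.symm)), add_zero]
  have hcompl : Subgroup.IsComplement' C (Q : Subgroup E) :=
    Subgroup.isComplement'_of_coprime (by rw [hQcard, ← hkx, mul_comm, C.index_mul_card]) hCQcop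
  have hcomm : ∀ (c : C) (q : (Q : Subgroup E)), Commute (c : E) (q : E) := fun c q =>
    (Subgroup.mem_center_iff.mp (Subgroup.zpowers_le.mpr hxc c.2) (q : E)).symm
  obtain ⟨g, hg⟩ : ∃ g : G, ∀ q ∈ (Q : Subgroup E), g * (q : G) * g⁻¹ ∈ (P : Subgroup G) := by
    obtain ⟨P₀, hP₀⟩ := (Q.isPGroup'.map E.subtype).exists_le_sylow
    obtain ⟨g, rfl⟩ := MulAction.exists_smul_eq G P₀ P
    exact ⟨g, fun q hq => ⟨(q : G), hP₀ ⟨q, hq, rfl⟩, rfl⟩⟩
  let ψ : (Q : Subgroup E) →* (P : Subgroup G) :=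
    { toFun := fun q => ⟨g * ((q : E) : G) * g⁻¹, hg _ q.2⟩
      map_one' := by ext; simp
      map_mul' := fun a b => by ext; simp [mul_assoc] }
  have hψinj : Function.Injective ψ := fun a b h => by
    have h1 := congrArg Subtype.val h
    simp only [ψ, MonoidHom.coe_mk, OneHom.coe_mk] at h1
    exact Subtype.ext (Subtype.ext (mul_left_cancel (mul_right_cancel h1)))
  have hψN : ∀ q : (Q : Subgroup E), (q : E) ∈ N.subgroupOf E → (ψ q : G) ∈ (P : Subgroup G) ⊓ N :=
    fun q hq => ⟨(ψ q).2, hN.conj_mem _ (Subgroup.mem_subgroupOf.mp hq) g⟩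
  have hdec : ∀ e : E, ∃ c : C, ∃ q : (Q : Subgroup E), (c : E) * q = e := fun e => by
    obtain ⟨⟨c, q⟩, h⟩ := hcompl.2 e
    exact ⟨c, q, h⟩
  have hqN : ∀ (c : C) (q : (Q : Subgroup E)), (c : E) * q ∈ N.subgroupOf E →
      (q : E) ∈ N.subgroupOf E := fun c q h =>
    (Subgroup.mul_mem_cancel_left _ (Subgroup.zpowers_le.mpr hxN c.2)).mp h
  have habD : ∀ a b : N.subgroupOf E, a * b = b * a := by
    intro a b
    obtain ⟨c, q, hcq⟩ := hdec a.1
    obtain ⟨c', q', hcq'⟩ := hdec b.1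
    have h1 := hψN q (hqN c q (hcq ▸ a.2))
    have hqq : Commute (q : E) (q' : E) := by
      have h2 : ψ (q * q') = ψ (q' * q) := by
        rw [map_mul, map_mul]
        exact Subtype.ext (hcent _ h1 _ (ψ q').2)
      exact congrArg Subtype.val (hψinj h2)
    have hcc : Commute (c : E) (c' : E) :=
      (Subgroup.mem_center_iff.mp (Subgroup.zpowers_le.mpr hxc c'.2) (c : E))
    apply Subtype.ext
    show a.1 * b.1 = b.1 * a.1
    rw [← hcq, ← hcq']
    exact ((hcc.mul_right (hcomm c q')).mul_left ((hcomm c' q).symm.mul_right hqq))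
  have hφ1 : φ 1 = 1 := Cfsg.Agent.Char.IsIrrCharacter.degree_one_of_comm hφ habD
  obtain ⟨l, rfl⟩ := Cfsg.Agent.Char.IsCharacter.exists_monoidHom
    (Cfsg.Agent.Char.IsIrrCharacter.isCharacter hφ) hφ1
  -- extend `l` on the Sylow part through `P`
  obtain ⟨μQ, hμQ⟩ : ∃ μQ : (Q : Subgroup E) →* ℂˣ, ∀ (q : (Q : Subgroup E))
      (hq : (q : E) ∈ N.subgroupOf E), μQ q = l ⟨(q : E), hq⟩ := by
    let Qn : Subgroup (Q : Subgroup E) := (N.subgroupOf E).comap (Q : Subgroup E).subtype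
    let j : Qn →* ↥((P : Subgroup G) ⊓ N) :=
      { toFun := fun q => ⟨(ψ q.1 : G), hψN q.1 q.2⟩
        map_one' := by ext; simp
        map_mul' := fun a b => by ext; simp }
    have hj : Function.Injective j := fun a b h =>
      Subtype.ext (hψinj (Subtype.ext (show ((ψ a.1 : G)) = (ψ b.1 : G) from
        congrArg (fun z : ↥((P : Subgroup G) ⊓ N) => (z : G)) h)))
    letI : CommGroup ↥((P : Subgroup G) ⊓ N) :=
      { (inferInstance : Group ↥((P : Subgroup G) ⊓ N)) with
        mul_comm := fun a b => Subtype.ext (hcent _ a.2 _ b.2.1) }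
    letI : CommGroup Qn :=
      { (inferInstance : Group Qn) with mul_comm := fun a b => hj (by rw [map_mul, map_mul, mul_comm]) }
    let l' : Qn →* ℂˣ := l.comp
      { toFun := fun q => (⟨(q.1 : E), q.2⟩ : N.subgroupOf E)
        map_one' := rfl
        map_mul' := fun _ _ => rfl }
    obtain ⟨L, hL⟩ := Cfsg.Agent.Struct.Schur.exists_extend
      Cfsg.Agent.Struct.Schur.complexUnits_divisible j hj l'
    obtain ⟨μ, hμc, hμ1, hμL⟩ := hlin (fun z => (L z : ℂ))
      (Cfsg.Agent.Char.IsIrrCharacter.isCharacter (Cfsg.Agent.Char.isIrrCharacter_monoidHom L))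
      (by simp)
    obtain ⟨μh, rfl⟩ := Cfsg.Agent.Char.IsCharacter.exists_monoidHom hμc hμ1
    refine ⟨μh.comp ψ, fun q hq => Units.ext ?_⟩
    have h1 := DFunLike.congr_fun hL (⟨q, hq⟩ : Qn)
    exact (hμL (j ⟨q, hq⟩)).trans (congrArg Units.val h1)
  -- glue with the central part
  let lC : C →* ℂˣ := l.comp
    { toFun := fun c => (⟨(c : E), Subgroup.zpowers_le.mpr hxN c.2⟩ : N.subgroupOf E)
      map_one' := rfl
      map_mul' := fun _ _ => rfl }
  let e : C × (Q : Subgroup E) →* E := C.subtype.noncommCoprod (Q : Subgroup E).subtype hcomm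
  let eeq : C × (Q : Subgroup E) ≃* E := MulEquiv.ofBijective e hcompl
  let μ : E →* ℂˣ := (lC.coprod μQ).comp eeq.symm.toMonoidHom
  have hμ : ∀ d : N.subgroupOf E, μ d.1 = l d := by
    intro d
    obtain ⟨c, q, hcq⟩ := hdec d.1
    have h2 : eeq.symm d.1 = (c, q) := eeq.symm_apply_eq.mpr hcq.symm
    show lC (eeq.symm d.1).1 * μQ (eeq.symm d.1).2 = l d
    rw [h2, hμQ q (hqN c q (hcq ▸ d.2))]
    show l _ * l _ = l d
    rw [← map_mul]
    exact congrArg l (Subtype.ext hcq)
  refine Cfsg.Agent.Char.exists_extension_of_detection N hp hk hϑ hinv' E htop μ m hpm ?_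
  rw [finsum_eq_sum_of_fintype] at hinner
  simp only [hμ]
  exact hinner

end Cfsg.Agent.S0897
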