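import Cfsg.Statements.S1523
import Cfsg.Agent.Lib.Char.Galois
import Cfsg.Agent.Lib.Char.Orthogonality

set_option autoImplicit false
open Cfsg

namespace Cfsg.Agent.S1523

open Cfsg.Agent.Char Representation Module

/-- A sum of an invariant function over a free orbit-closed set is divisible by the order. -/
theorem orbit_sum {P X : Type*} [Group P] [Fintype P] [DecidableEq X] (act : P → X → X)
    (hmul : ∀ p q x, act (p * q) x = act p (act q x)) (hone : ∀ x, act 1 x = x) (f : X → ℂ)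
    (hf : ∀ p x, f (act p x) = f x) (hint : ∀ x, IsIntegral ℤ (f x)) :
    ∀ S : Finset X, (∀ p, ∀ x ∈ S, act p x ∈ S) → (∀ x ∈ S, ∀ p, act p x = x → p = 1) →
      ∃ w, IsIntegral ℤ w ∧ ∑ x ∈ S, f x = (Nat.card P : ℂ) * w := by
  intro S
  induction S using Finset.strongInduction with
  | _ S ih =>
    intro hS hfree
    by_cases h0 : S = ∅
    · exact ⟨0, isIntegral_zero, by simp [h0]⟩
    obtain ⟨x, hx⟩ := Finset.nonempty_iff_ne_empty.mpr h0
    let O := Finset.univ.image fun p => act p x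
    have hOS : O ⊆ S := fun y hy => by
      obtain ⟨p, -, rfl⟩ := Finset.mem_image.mp hy
      exact hS p x hx
    have hinj : Function.Injective fun p => act p x := fun p q e => by
      have : act (q⁻¹ * p) x = x := by
        rw [hmul, show act p x = act q x from e, ← hmul, inv_mul_cancel, hone]
      exact (inv_mul_eq_one.mp (hfree x hx _ this)).symm
    have hxO : x ∈ O := Finset.mem_image.mpr ⟨1, Finset.mem_univ _, hone x⟩
    obtain ⟨w, hw, e⟩ := ih (S \ O) (Finset.sdiff_ssubset hOS ⟨x, hxO⟩)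
      (fun p y hy => by
        rw [Finset.mem_sdiff] at hy ⊢
        refine ⟨hS p y hy.1, fun h => hy.2 ?_⟩
        obtain ⟨q, -, hq⟩ := Finset.mem_image.mp h
        refine Finset.mem_image.mpr ⟨p⁻¹ * q, Finset.mem_univ _, ?_⟩
        rw [hmul, hq, ← hmul, inv_mul_cancel, hone])
      (fun y hy => hfree y (Finset.mem_sdiff.mp hy).1)
    refine ⟨w + f x, hw.add (hint x), ?_⟩
    rw [← Finset.sum_sdiff hOS, e, Finset.sum_image hinj.injOn,
      Finset.sum_congr rfl fun p _ => hf p x]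
    simp [Nat.card_eq_fintype_card]
    ring

/-- Let G be a finite group, p a prime, P a Sylow p-subgroup whose underlying set is a TI-subset of G, with L the set normaliser of P of odd order. Let Z ≠ ⊥ be a subgroup of P, normal in L and central in P, such that the centralisers in L of any two non-identity elements of Z have the same order. If ψ is an irreducible character of G taking the same value at all non-identity elements of Z, then for z ∈ Z, z ≠ 1, the value ψ z is an integer n with Nat.card P dividing ψ(1) − n (as integers, ψ 1 being the degree). -/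
theorem result {G : Type*} [Group G] [Finite G] (p : ℕ) [Fact p.Prime] (P : Sylow p G) (hTI : Cfsg.IsTISubset ((P : Subgroup G) : Set G)) (hodd : Odd (Nat.card (Subgroup.normalizer ((P : Subgroup G) : Set G)))) (Z : Subgroup G) (hZ1 : Z ≠ ⊥) (hZP : Z ≤ P) (hZn : ∀ x ∈ Subgroup.normalizer ((P : Subgroup G) : Set G), ∀ z ∈ Z, x * z * x⁻¹ ∈ Z) (hZc : ∀ z ∈ Z, ∀ y ∈ (P : Subgroup G), z * y = y * z) (hCL : ∀ z ∈ Z, ∀ z' ∈ Z, z ≠ 1 → z' ≠ 1 → Nat.card ↥(Subgroup.normalizer ((P : Subgroup G) : Set G) ⊓ Subgroup.centralizer ({z} : Set G)) = Nat.card ↥(Subgroup.normalizer ((P : Subgroup G) : Set G) ⊓ Subgroup.centralizer ({z'} : Set G))) (ψ : G → ℂ) (hψ : Cfsg.IsIrrCharacter G ψ) (hconst : ∀ z ∈ Z, ∀ z' ∈ Z, z ≠ 1 → z' ≠ 1 → ψ z = ψ z') (z : G) (hz : z ∈ Z) (hz1 : z ≠ 1) : ∃ n d : ℤ, ψ z = n ∧ ψ 1 = d ∧ (Nat.card (P : Subgroup G) : ℤ) ∣ d - n := by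
  classical
  haveI := Fintype.ofFinite G
  let q₀ := p
  set L := Subgroup.normalizer ((P : Subgroup G) : Set G) with hL
  set c := ψ z with hc
  have hgen := IsIrrCharacter.isGeneralized hψ
  have hclass := IsCharacter.isClassFunction (IsIrrCharacter.isCharacter hψ)
  -- the value is an integer
  obtain ⟨n, hn⟩ : ∃ n : ℤ, c = n := exists_int_of_apply_pow_eq hgen z fun m hm => by
    refine hconst _ (Z.pow_mem hz m) z hz (fun e => hz1 ?_) hz1
    obtain ⟨j, hj⟩ := exists_pow_eq_self_of_coprime hm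
    rw [← hj, e, one_pow]
  obtain ⟨d, hd⟩ := IsCharacter.exists_degree (IsIrrCharacter.isCharacter hψ)
  -- conjugates in `P` come from `L`
  have hTI' : ∀ g x : G, x ∈ (P : Subgroup G) → g * x * g⁻¹ ∈ (P : Subgroup G) → x ≠ 1 → g ∈ L :=
    fun g x hx hgx hx1 => by_contra fun hg => hx1 (hTI g hg x hx hgx)
  -- a conjugate of `z` centralized by a non-identity element of `P` lies in `Z`
  have hfree : ∀ w ∈ Z, w ≠ 1 → ∀ a, IsConj w a → ∀ p : ↥(P : Subgroup G),
      (p : G) * a * (p : G)⁻¹ = a → p = 1 ∨ a ∈ Z := by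
    intro w hw hw1 a ha p hp
    by_cases hp1 : p = 1
    · exact Or.inl hp1
    refine Or.inr ?_
    obtain ⟨g, rfl⟩ := isConj_iff.mp ha
    let Q : Sylow q₀ G := g • P
    have hQ : ∀ x, x ∈ (Q : Subgroup G) ↔ g⁻¹ * x * g ∈ (P : Subgroup G) := by
      intro x
      constructor
      · intro hx
        rw [Sylow.coe_subgroup_smul, Subgroup.mem_pointwise_smul_iff_inv_smul_mem] at hx
        simpa [MulAut.smul_def] using hx
      · intro hx
        rw [Sylow.coe_subgroup_smul, Subgroup.mem_pointwise_smul_iff_inv_smul_mem]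
        simpa [MulAut.smul_def] using hx
    -- `p` normalizes `Q`
    have hN : (g⁻¹ * (p : G) * g) ∈ L := by
      refine hTI' _ w (hZP hw) ?_ hw1
      have e : g⁻¹ * (p : G) * g * w * (g⁻¹ * (p : G) * g)⁻¹ =
          g⁻¹ * ((p : G) * (g * w * g⁻¹) * (p : G)⁻¹) * g := by group
      rw [e, hp]
      simpa [mul_assoc] using hZP hw
    have hpQ : (p : G) ∈ (Q : Subgroup G) := by
      obtain ⟨k, hk⟩ := P.2 p
      have hk' : (g⁻¹ * (p : G) * g) ^ q₀ ^ k = 1 := by
        have := congrArg Subtype.val hk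
        rw [SubgroupClass.coe_pow, OneMemClass.coe_one] at this
        have e := conj_pow (i := q₀ ^ k) (a := g⁻¹) (b := (p : G))
        rw [inv_inv] at e
        rw [e, this]; group
      rw [hQ]
      have hsup : IsPGroup q₀ ↥((P : Subgroup G) ⊔ Subgroup.zpowers (g⁻¹ * (p : G) * g)) := by
        refine IsPGroup.to_sup_of_normal_left' P.2 ?_ ?_
        · intro x
          obtain ⟨j, hj⟩ := Subgroup.mem_zpowers_iff.mp x.2
          refine ⟨k, Subtype.ext ?_⟩
          rw [SubgroupClass.coe_pow, OneMemClass.coe_one, ← hj, ← zpow_natCast, ← zpow_mul,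
            mul_comm, zpow_mul, zpow_natCast, hk', one_zpow]
        · rwa [Subgroup.zpowers_le]
      have := P.3 hsup le_sup_left
      exact this.le (Subgroup.mem_sup_right (Subgroup.mem_zpowers _))
    have hg : g ∈ L := by
      refine hTI' g (g⁻¹ * (p : G) * g) ((hQ _).mp hpQ) ?_ ?_
      · rw [show g * (g⁻¹ * (p : G) * g) * g⁻¹ = (p : G) by group]; exact p.2
      · intro e
        refine hp1 (Subtype.ext ?_)
        have : g * (g⁻¹ * (p : G) * g) * g⁻¹ = g * 1 * g⁻¹ := by rw [e]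
        simpa [mul_assoc] using this
    exact hZn g hg w hw
  -- `z` is not conjugate to its inverse
  have hreal : ¬ IsConj z z⁻¹ := by
    intro h
    obtain ⟨g, hg⟩ := isConj_iff.mp h
    have hgL : g ∈ L := hTI' g z (hZP hz) (by rw [hg]; exact hZP (Z.inv_mem hz)) hz1
    have key : ∀ j : ℕ, g ^ j * z * (g ^ j)⁻¹ = z ^ ((-1 : ℤ) ^ j) := by
      intro j
      induction j with
      | zero => simp
      | succ j ih =>
        rw [pow_succ' g, show g * g ^ j * z * (g * g ^ j)⁻¹ = g * (g ^ j * z * (g ^ j)⁻¹) * g⁻¹ by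
          group, ih, ← conj_zpow, hg, inv_zpow', pow_succ, mul_neg_one]
    have ho : Odd (orderOf g) := Odd.of_dvd_nat hodd (Subgroup.orderOf_dvd_natCard L hgL)
    have hk := key (orderOf g)
    rw [pow_orderOf_eq_one, ho.neg_one_pow, one_mul, inv_one, mul_one, zpow_neg_one] at hk
    have hz2 : orderOf z ∣ 2 := orderOf_dvd_of_pow_eq_one (by
      rw [pow_two]; nth_rewrite 2 [hk]; exact mul_inv_cancel z)
    have hoz : Odd (orderOf z) := Odd.of_dvd_nat hodd
      (Subgroup.orderOf_dvd_natCard L (Subgroup.le_normalizer (hZP hz)))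
    rcases (Nat.dvd_prime Nat.prime_two).mp hz2 with h | h
    · exact hz1 (orderOf_eq_one_iff.mp h)
    · rw [h] at hoz; exact absurd hoz (by decide)
  -- class sums
  let C : G → Finset G := fun w => Finset.univ.filter (IsConj w)
  have hC : ∀ w x, x ∈ C w ↔ IsConj w x := fun w x => by simp [C]
  have hzc : ψ z⁻¹ = c := hconst _ (Z.inv_mem hz) z hz (inv_ne_one.mpr hz1) hz1
  obtain ⟨m, ρ, hρ, hψρ⟩ := hψ
  have hsum : ∀ w ∈ ({z, z⁻¹} : Finset G), ∃ s : ℂ,
      (∑ x ∈ C w, ρ x) = s • (LinearMap.id : (Fin m → ℂ) →ₗ[ℂ] _) ∧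
      s * (finrank ℂ (Fin m → ℂ) : ℂ) =
        ((Subgroup.centralizer ({z} : Set G)).index : ℂ) * c := by
    intro w hw
    obtain ⟨s, -, h1, h2⟩ := exists_isIntegral_class_scalar ρ w
    refine ⟨s, h1, h2.trans ?_⟩
    rw [congrFun hψρ w]
    simp only [Finset.mem_insert, Finset.mem_singleton] at hw
    rcases hw with rfl | rfl
    · rfl
    · rw [hzc, show Subgroup.centralizer ({z⁻¹} : Set G) = Subgroup.centralizer ({z} : Set G) by
        ext x; simp only [Subgroup.mem_centralizer_singleton_iff]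
        exact ⟨fun h => by simpa using (Commute.inv_right (show Commute x z⁻¹ from h)).eq,
          fun h => (Commute.inv_right (show Commute x z from h)).eq⟩]
  obtain ⟨s, hs1, hs2⟩ := hsum z (by simp)
  obtain ⟨s', hs1', hs2'⟩ := hsum z⁻¹ (by simp)
  have hdd : (finrank ℂ (Fin m → ℂ) : ℂ) = d := by
    rw [← hd, ← congrFun hψρ 1, ρ.char_one]
  have hss : s = s' := by
    refine mul_right_cancel₀ (Nat.cast_ne_zero.mpr ?_) (hs2.trans hs2'.symm)
    haveI := nontrivial_of_irreducible ρ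
    exact Module.finrank_pos.ne'
  have hpair : ∀ (w : G) (t : ℂ), (∑ x ∈ C w, ρ x) = t • (LinearMap.id : (Fin m → ℂ) →ₗ[ℂ] _) →
      ∑ x ∈ C z ×ˢ C w, ψ (x.1 * x.2) = s * t * d := by
    intro w t ht
    have h := congrArg (LinearMap.trace ℂ (Fin m → ℂ))
      (congrArg₂ (fun A B : Module.End ℂ (Fin m → ℂ) => A * B) hs1 ht)
    simp only [Finset.sum_mul_sum, map_sum, ← map_mul] at h
    rw [Finset.sum_product]
    simp only [← congrFun hψρ]
    refine h.trans ?_
    rw [show (s • (LinearMap.id : (Fin m → ℂ) →ₗ[ℂ] _) : Module.End ℂ (Fin m → ℂ)) *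
      (t • LinearMap.id) = (s * t) • LinearMap.id by
      rw [smul_mul_smul_comm]; rfl, map_smul, LinearMap.trace_id, hdd, smul_eq_mul]
  -- reduce modulo the order of `P`
  let act : ↥(P : Subgroup G) → G × G → G × G := fun p x =>
    ((p : G) * x.1 * (p : G)⁻¹, (p : G) * x.2 * (p : G)⁻¹)
  have hPZ : ∀ (p : ↥(P : Subgroup G)) a, a ∈ Z → (p : G) * a * (p : G)⁻¹ = a := fun p a ha => by
    rw [← hZc a ha _ p.2]; group
  have hmod : ∀ w ∈ Z, w ≠ 1 → ∃ v, IsIntegral ℤ v ∧ ∑ x ∈ C z ×ˢ C w, ψ (x.1 * x.2) =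
      ∑ x ∈ (C z).filter (· ∈ Z) ×ˢ (C w).filter (· ∈ Z), ψ (x.1 * x.2) +
        (Nat.card (P : Subgroup G) : ℂ) * v := by
    intro w hw hw1
    have hsub : (C z).filter (· ∈ Z) ×ˢ (C w).filter (· ∈ Z) ⊆ C z ×ˢ C w :=
      Finset.product_subset_product (Finset.filter_subset _ _) (Finset.filter_subset _ _)
    obtain ⟨v, hv, e⟩ := orbit_sum act
      (fun p q x => by simp [act, mul_assoc]) (fun x => by simp [act])
      (fun x => ψ (x.1 * x.2))
      (fun p x => by
        show ψ ((p : G) * x.1 * (p : G)⁻¹ * ((p : G) * x.2 * (p : G)⁻¹)) = _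
        rw [show (p : G) * x.1 * (p : G)⁻¹ * ((p : G) * x.2 * (p : G)⁻¹) =
          (p : G) * (x.1 * x.2) * (p : G)⁻¹ by group]
        exact hclass _ _)
      (fun x => IsGeneralizedCharacter.isIntegral hgen _)
      ((C z ×ˢ C w) \ ((C z).filter (· ∈ Z) ×ˢ (C w).filter (· ∈ Z)))
      (fun p x hx => by
        simp only [Finset.mem_sdiff, Finset.mem_product, Finset.mem_filter, hC, act] at hx ⊢
        have hcj : ∀ a : G, IsConj a ((p : G) * a * (p : G)⁻¹) := fun a =>
          isConj_iff.mpr ⟨(p : G), rfl⟩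
        refine ⟨⟨hx.1.1.trans (hcj _), hx.1.2.trans (hcj _)⟩, fun hmem => hx.2 ?_⟩
        have back : ∀ a, (p : G) * a * (p : G)⁻¹ ∈ Z → a ∈ Z := fun a ha => by
          have h' := hPZ p⁻¹ _ ha
          rw [show ((p⁻¹ : ↥(P : Subgroup G)) : G) * ((p : G) * a * (p : G)⁻¹) *
            ((p⁻¹ : ↥(P : Subgroup G)) : G)⁻¹ = a by push_cast; group] at h'
          rw [h']; exact ha
        exact ⟨⟨hx.1.1, back _ hmem.1.2⟩, hx.1.2, back _ hmem.2.2⟩)
      (fun x hx p hp => by
        simp only [Finset.mem_sdiff, Finset.mem_product, Finset.mem_filter, hC] at hx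
        rw [Prod.ext_iff] at hp
        rcases hfree z hz hz1 _ hx.1.1 p hp.1 with h | h1
        · exact h
        rcases hfree w hw hw1 _ hx.1.2 p hp.2 with h | h2
        · exact h
        exact absurd ⟨⟨hx.1.1, h1⟩, hx.1.2, h2⟩ hx.2)
    exact ⟨v, hv, by rw [← e, add_comm, Finset.sum_sdiff hsub]⟩
  obtain ⟨v₁, hv₁, e₁⟩ := hmod z hz hz1
  obtain ⟨v₂, hv₂, e₂⟩ := hmod z⁻¹ (Z.inv_mem hz) (inv_ne_one.mpr hz1)
  rw [hpair z s hs1] at e₁
  rw [hpair z⁻¹ s' hs1', ← hss] at e₂
  set A := (C z).filter (· ∈ Z) with hA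
  have hA' : (C z⁻¹).filter (· ∈ Z) = A.map (Equiv.inv G).toEmbedding := by
    ext x
    simp only [A, Finset.mem_map_equiv, Finset.mem_filter, hC, Equiv.inv_symm, Equiv.inv_apply,
      inv_mem_iff]
    refine and_congr_left fun _ => ⟨fun h => ?_, fun h => ?_⟩
    · obtain ⟨g, hg⟩ := isConj_iff.mp h
      exact isConj_iff.mpr ⟨g, by rw [← hg]; group⟩
    · obtain ⟨g, hg⟩ := isConj_iff.mp h
      exact isConj_iff.mpr ⟨g, by rw [← inv_inv x, ← hg]; group⟩
  have hval : ∀ a ∈ A, ∀ b ∈ A, ψ (a * b) = c ∧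
      ψ (a * b⁻¹) = if b = a then (d : ℂ) else c := by
    intro a ha b hb
    simp only [A, Finset.mem_filter, hC] at ha hb
    refine ⟨hconst _ (Z.mul_mem ha.2 hb.2) z hz (fun e => hreal ?_) hz1, ?_⟩
    · rw [mul_eq_one_iff_eq_inv] at e
      obtain ⟨g, hg⟩ := isConj_iff.mp hb.1
      refine ha.1.trans (IsConj.symm (isConj_iff.mpr ⟨g, ?_⟩))
      rw [e, ← hg]; group
    · split_ifs with e
      · rw [e, mul_inv_cancel, hd]
      · refine hconst _ (Z.mul_mem ha.2 (Z.inv_mem hb.2)) z hz (fun h => e ?_) hz1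
        rw [mul_inv_eq_one] at h
        exact h.symm
  have s₁ : ∑ x ∈ A ×ˢ A, ψ (x.1 * x.2) = (A.card : ℂ) * A.card * c := by
    rw [Finset.sum_congr rfl fun x hx => (hval x.1 (Finset.mem_product.mp hx).1 x.2
      (Finset.mem_product.mp hx).2).1, Finset.sum_const, Finset.card_product, nsmul_eq_mul]
    push_cast; ring
  have s₂ : ∑ x ∈ A ×ˢ (C z⁻¹).filter (· ∈ Z), ψ (x.1 * x.2) =
      (A.card : ℂ) * A.card * c + (A.card : ℂ) * ((d : ℂ) - c) := by
    rw [hA', Finset.sum_product]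
    have inner : ∀ a ∈ A, ∑ y ∈ A.map (Equiv.inv G).toEmbedding, ψ (a * y) =
        (A.card : ℂ) * c + ((d : ℂ) - c) := by
      intro a ha
      rw [Finset.sum_map]
      simp only [Equiv.coe_toEmbedding, Equiv.inv_apply]
      rw [Finset.sum_congr rfl fun b hb => (hval a ha b hb).2, ← Finset.add_sum_erase _ _ ha,
        if_pos rfl, Finset.sum_congr rfl fun b hb => if_neg (Finset.ne_of_mem_erase hb),
        Finset.sum_const, Finset.card_erase_of_mem ha, nsmul_eq_mul,
        Nat.cast_sub (Finset.card_pos.mpr ⟨a, ha⟩)]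
      push_cast; ring
    rw [Finset.sum_congr rfl inner, Finset.sum_const, nsmul_eq_mul]
    ring
  rw [s₁] at e₁
  rw [s₂] at e₂
  have hmain : (A.card : ℂ) * ((d : ℂ) - c) = (Nat.card (P : Subgroup G) : ℂ) * (v₁ - v₂) := by
    linear_combination e₁ - e₂
  -- `A.card` is prime to `p`
  have hAcop : Nat.Coprime (Nat.card (P : Subgroup G)) A.card := by
    obtain ⟨w, hw, e⟩ := orbit_sum (P := ↥(P : Subgroup G))
      (fun p a => (p : G) * a * (p : G)⁻¹) (fun p q a => by simp [mul_assoc])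
      (fun a => by simp) (fun _ => (1 : ℂ)) (fun _ _ => rfl) (fun _ => isIntegral_one)
      (C z \ A)
      (fun p a ha => by
        simp only [A, Finset.mem_sdiff, Finset.mem_filter, hC] at ha ⊢
        refine ⟨ha.1.trans (isConj_iff.mpr ⟨(p : G), rfl⟩), fun h => ha.2 ⟨ha.1, ?_⟩⟩
        have h' := hPZ p⁻¹ _ h.2
        rw [show ((p⁻¹ : ↥(P : Subgroup G)) : G) * ((p : G) * a * (p : G)⁻¹) *
          ((p⁻¹ : ↥(P : Subgroup G)) : G)⁻¹ = a by push_cast; group] at h'
        rw [h']; exact h.2)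
      (fun a ha p hp => by
        simp only [A, Finset.mem_sdiff, Finset.mem_filter, hC] at ha
        exact (hfree z hz hz1 a ha.1 p hp).resolve_right fun h => ha.2 ⟨ha.1, h⟩)
    have hAC : A ⊆ C z := Finset.filter_subset _ _
    simp only [Finset.sum_const, nsmul_eq_mul, mul_one, Finset.card_sdiff_of_subset hAC,
      Nat.cast_sub (Finset.card_le_card hAC)] at e
    have hCz : (C z).card = (Subgroup.centralizer ({z} : Set G)).index := by
      rw [← card_isConj_eq_index, Nat.card_eq_fintype_card, Fintype.card_subtype]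
    obtain ⟨k, hk⟩ := IsPGroup.iff_card.mp P.2
    rw [hk]
    refine Nat.Coprime.pow_left _ ((Fact.out : q₀.Prime).coprime_iff_not_dvd.mpr fun hdvd => ?_)
    rcases Nat.eq_zero_or_pos k with rfl | hk0
    · have : (P : Subgroup G) = ⊥ := Subgroup.card_eq_one.mp (by rw [hk, pow_zero])
      exact hz1 (by simpa [this] using hZP hz)
    obtain ⟨a, b, hab⟩ : ∃ a b : ℤ, (b : ℂ) = w ∧ a = ((C z).card : ℤ) - A.card := by
      have hne : (Nat.card (P : Subgroup G) : ℂ) ≠ 0 := Nat.cast_ne_zero.mpr Nat.card_pos.ne'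
      have hq : w = ((((C z).card : ℚ) - A.card) / Nat.card (P : Subgroup G) : ℚ) := by
        push_cast
        rw [eq_div_iff hne, e]; ring
      obtain ⟨b, hb⟩ := rat_eq_int_of_isIntegral (hq ▸ hw)
      exact ⟨_, b, by rw [hq, hb]; norm_num, rfl⟩
    have e' : ((C z).card : ℤ) - A.card = (Nat.card (P : Subgroup G) : ℤ) * b := by
      have : ((((C z).card : ℤ) - A.card : ℤ) : ℂ) =
          (((Nat.card (P : Subgroup G) : ℤ) * b : ℤ) : ℂ) := by
        push_cast; rw [e, hab.1]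
      exact_mod_cast this
    have hdc : (q₀ : ℤ) ∣ ((C z).card : ℤ) := by
      have h1 : (q₀ : ℤ) ∣ (Nat.card (P : Subgroup G) : ℤ) := by
        rw [hk]; push_cast; exact dvd_pow_self _ hk0.ne'
      have : ((C z).card : ℤ) = (Nat.card (P : Subgroup G) : ℤ) * b + A.card := by omega
      rw [this]
      exact dvd_add (h1.mul_right b) (Int.natCast_dvd_natCast.mpr hdvd)
    refine P.not_dvd_index ?_
    refine dvd_trans ?_ (Subgroup.index_dvd_of_le (show (P : Subgroup G) ≤
      Subgroup.centralizer ({z} : Set G) from fun y hy =>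
        Subgroup.mem_centralizer_singleton_iff.mpr (hZc z hz y hy).symm))
    rw [← hCz]
    exact Int.natCast_dvd_natCast.mp hdc
  refine ⟨n, d, hn, by rw [hd]; simp, ?_⟩
  have hP0 : (Nat.card (P : Subgroup G) : ℂ) ≠ 0 := Nat.cast_ne_zero.mpr Nat.card_pos.ne'
  have hq : v₁ - v₂ =
      (((A.card : ℚ) * ((d : ℚ) - n)) / Nat.card (P : Subgroup G) : ℚ) := by
    push_cast
    rw [eq_div_iff hP0, ← hn, hmain]; ring
  obtain ⟨b, hb⟩ := rat_eq_int_of_isIntegral (hq ▸ hv₁.sub hv₂)
  rw [div_eq_iff (by exact_mod_cast Nat.card_pos.ne')] at hb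
  have hb' : (A.card : ℤ) * ((d : ℤ) - n) = b * (Nat.card (P : Subgroup G) : ℤ) := by
    exact_mod_cast hb
  have hcp : IsCoprime (Nat.card (P : Subgroup G) : ℤ) (A.card : ℤ) :=
    Int.isCoprime_iff_nat_coprime.mpr (by simpa only [Int.natAbs_natCast] using hAcop)
  exact hcp.dvd_of_dvd_mul_left ⟨b, by rw [hb', mul_comm]⟩

end Cfsg.Agent.S1523
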