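import Cfsg.Statements.S1531
import Cfsg.Agent.Lib.Char.Coherence
import Cfsg.Agent.Lib.Char.Signed

set_option autoImplicit false
open Cfsg

namespace Cfsg.Agent.S1531

open Cfsg Cfsg.Agent.Char
open scoped ComplexConjugate

theorem signed_orth {G : Type*} [Group G] [Fintype G] (a b c d : G → ℂ)
    (ha : IsIrrCharacter G a ∨ IsIrrCharacter G (-a)) (hb : IsIrrCharacter G b ∨ IsIrrCharacter G (-b))
    (hc : IsIrrCharacter G c ∨ IsIrrCharacter G (-c)) (hd : IsIrrCharacter G d ∨ IsIrrCharacter G (-d))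
    (p q r s : ℕ) (hp : p ≠ 0) (hq : q ≠ 0) (hr : r ≠ 0) (hs : s ≠ 0)
    (hab : classInner a b = 0) (hcd : classInner c d = 0)
    (hmix : classInner ((p : ℂ) • a - (q : ℂ) • b) ((r : ℂ) • c - (s : ℂ) • d) = 0)
    (h1 : (p : ℂ) * a 1 = (q : ℂ) * b 1) (h2 : (r : ℂ) * c 1 = (s : ℂ) * d 1) :
    classInner a c = 0 := by
  rcases classInner_signed ha hc with h | ⟨g, hg, hac, hg'⟩
  · exact h
  exfalso
  have hg0 : g ≠ 0 := by rcases hg with rfl | rfl <;> norm_num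
  have had : classInner a d = 0 := by rw [hac, classInner_smul_left, hcd, mul_zero]
  have hbc : classInner b c = 0 := by
    have hba : classInner b a = 0 := by rw [← classInner_conj_symm, hab, map_zero]
    rw [hac, classInner_smul_right] at hba
    exact (mul_eq_zero.mp hba).resolve_left (by simpa using hg0)
  simp only [classInner_sub_left, classInner_sub_right, classInner_smul_left, classInner_smul_right,
    had, hbc, hg', Complex.conj_natCast, mul_zero, sub_zero, zero_sub, sub_neg_eq_add] at hmix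
  rcases classInner_signed hb hd with h | ⟨t, ht, hbd, ht'⟩
  · rw [h] at hmix
    have : (p : ℂ) * ((r : ℂ) * g) = 0 := by linear_combination hmix
    simp [hp, hr, hg0] at this
  rw [ht'] at hmix
  have hc1 : c 1 ≠ 0 := by
    rcases hc with hc | hc
    · exact IsIrrCharacter.apply_one_ne_zero hc
    · simpa using IsIrrCharacter.apply_one_ne_zero hc
  rw [hac, hbd] at h1
  simp only [Pi.smul_apply, smul_eq_mul] at h1
  have e : ((p : ℂ) * g * s - (q : ℂ) * t * r) * c 1 = 0 := by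
    linear_combination (s : ℂ) * h1 - (q : ℂ) * t * h2
  have e' := (mul_eq_zero.mp e).resolve_right hc1
  have : ((r : ℂ) ^ 2 + (s : ℂ) ^ 2) * ((p : ℂ) * g) = 0 := by
    linear_combination (r : ℂ) * hmix + (s : ℂ) * e'
  have h3 : (r : ℂ) ^ 2 + (s : ℂ) ^ 2 ≠ 0 := by
    have : ((r ^ 2 + s ^ 2 : ℕ) : ℂ) ≠ 0 := Nat.cast_ne_zero.mpr (by positivity)
    simpa using this
  simp [h3, hp, hg0] at this

/-- Let N be a subgroup of the finite group G, S a set of irreducible characters of N, and α a linear isometry on the integer combinations of S vanishing at 1 with values virtual characters of G vanishing at 1. Let X, Y ⊆ S be disjoint, each with at least two members, and σ, τ linear isometries on ℤ[X], ℤ[Y] into virtual characters agreeing with α on the members vanishing at 1. Then ⟨σ χ, τ η⟩ = 0 for χ ∈ X, η ∈ Y; and if for some χ₀ ∈ X, η₀ ∈ Y with degrees c = χ₀ 1, e = η₀ 1 one has α (c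 • η₀ − e • χ₀) = c • τ η₀ − e • σ χ₀, then (X ∪ Y, N minus 1, α) is coherent. -/
theorem result {G : Type*} [Group G] [Fintype G] (N : Subgroup G) [Fintype N] (S X Y : Set (N → ℂ)) (hirr : ∀ ξ ∈ S, Cfsg.IsIrrCharacter N ξ) (hXS : X ⊆ S) (hYS : Y ⊆ S) (hXY : Disjoint X Y) (hX2 : ∃ a ∈ X, ∃ b ∈ X, a ≠ b) (hY2 : ∃ a ∈ Y, ∃ b ∈ Y, a ≠ b) (α : (N → ℂ) → (G → ℂ)) (hα : Cfsg.IsLinearIsometryOn (Cfsg.zspanOn S {1}ᶜ) α) (hα1 : ∀ θ ∈ Cfsg.zspanOn S {1}ᶜ, α θ 1 = 0) (σ τ : (N → ℂ) → (G → ℂ)) (hσ : Cfsg.IsLinearIsometryOn (Cfsg.zspan X) σ) (hσα : ∀ θ ∈ Cfsg.zspanOn X {1}ᶜ, σ θ = α θ) (hτ : Cfsg.IsLinearIsometryOn (Cfsg.zspan Y) τ) (hτα : ∀ θ ∈ Cfsg.zspanOn Y {1}ᶜ, τ θ = α θ) : (∀ χ ∈ X, ∀ η ∈ Y, Cfsg.classInner (σ χ) (τ η) = 0) ∧ ((∃ χ₀ ∈ X, ∃ η₀ ∈ Y, α (χ₀ 1 • η₀ - η₀ 1 • χ₀) = χ₀ 1 • τ η₀ - η₀ 1 • σ χ₀) → Cfsg.IsCoherent (X ∪ Y) {1}ᶜ α) := by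
  classical
  have hdeg : ∀ ξ ∈ S, ∃ k : ℕ, k ≠ 0 ∧ ξ 1 = k := fun ξ hξ => by
    obtain ⟨k, hk, e⟩ := IsIrrCharacter.degree_pos (hirr ξ hξ)
    exact ⟨k, by omega, e⟩
  choose! d hd0 hd using hdeg
  have hsig : ∀ (Z : Set (N → ℂ)) (ρ : (N → ℂ) → (G → ℂ)), Z ⊆ S →
      IsLinearIsometryOn (zspan Z) ρ → ∀ ξ ∈ Z, IsIrrCharacter G (ρ ξ) ∨ IsIrrCharacter G (-ρ ξ) :=
    fun Z ρ hZ hρ ξ hξ => IsGeneralizedCharacter.irr_or_neg
      (hρ.2.2.2 ξ (Submodule.subset_span hξ))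
      (by rw [hρ.2.2.1 ξ (Submodule.subset_span hξ) ξ (Submodule.subset_span hξ),
        IsIrrCharacter.classInner_self (hirr ξ (hZ hξ))])
  -- two members of a part
  have pair : ∀ (Z : Set (N → ℂ)) (ρ : (N → ℂ) → (G → ℂ)), Z ⊆ S →
      IsLinearIsometryOn (zspan Z) ρ → (∀ θ ∈ zspanOn Z {1}ᶜ, ρ θ = α θ) →
      ∀ ξ ∈ Z, ∀ η ∈ Z, ((d η : ℤ) • ξ - (d ξ : ℤ) • η ∈ zspanOn Z {1}ᶜ ∧
        (d η : ℤ) • ξ - (d ξ : ℤ) • η ∈ zspanOn S {1}ᶜ ∧
        α ((d η : ℤ) • ξ - (d ξ : ℤ) • η) = (d η : ℂ) • ρ ξ - (d ξ : ℂ) • ρ η ∧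
        (d η : ℂ) * ρ ξ 1 = (d ξ : ℂ) * ρ η 1) := by
    intro Z ρ hZ hρ hρα ξ hξ η hη
    have h0 : ((d η : ℤ) • ξ - (d ξ : ℤ) • η) 1 = 0 := by
      rw [Pi.sub_apply, Pi.smul_apply, Pi.smul_apply, zsmul_eq_mul, zsmul_eq_mul,
        hd ξ (hZ hξ), hd η (hZ hη)]
      push_cast; ring
    have hm : (d η : ℤ) • ξ - (d ξ : ℤ) • η ∈ zspanOn Z {1}ᶜ := mem_zspanOn_compl_one.mpr
      ⟨Submodule.sub_mem _ (Submodule.smul_mem _ _ (Submodule.subset_span hξ))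
        (Submodule.smul_mem _ _ (Submodule.subset_span hη)), h0⟩
    have hmS : (d η : ℤ) • ξ - (d ξ : ℤ) • η ∈ zspanOn S {1}ᶜ :=
      mem_zspanOn_compl_one.mpr ⟨zspan_mono hZ hm.1, h0⟩
    have e : α ((d η : ℤ) • ξ - (d ξ : ℤ) • η) = (d η : ℂ) • ρ ξ - (d ξ : ℂ) • ρ η := by
      rw [← hρα _ hm, IsLinearIsometryOn.map_sub (P := Submodule.span ℤ Z) hρ
        (Submodule.smul_mem _ _ (Submodule.subset_span hξ))
        (Submodule.smul_mem _ _ (Submodule.subset_span hη)),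
        hρ.2.1 ξ (Submodule.subset_span hξ), hρ.2.1 η (Submodule.subset_span hη),
        ← Int.cast_smul_eq_zsmul ℂ, ← Int.cast_smul_eq_zsmul ℂ, Int.cast_natCast, Int.cast_natCast]
    refine ⟨hm, hmS, e, ?_⟩
    have h1 := hα1 _ hmS
    rw [e, Pi.sub_apply, sub_eq_zero] at h1
    exact h1
  have part1 : ∀ χ ∈ X, ∀ η ∈ Y, classInner (σ χ) (τ η) = 0 := by
    intro χ hχ η hη
    obtain ⟨χ', hχ', hne⟩ : ∃ χ' ∈ X, χ' ≠ χ := by
      obtain ⟨a, ha, b, hb, hab⟩ := hX2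
      by_cases h : a = χ
      · exact ⟨b, hb, fun h' => hab (h.trans h'.symm)⟩
      · exact ⟨a, ha, h⟩
    obtain ⟨η', hη', hne'⟩ : ∃ η' ∈ Y, η' ≠ η := by
      obtain ⟨a, ha, b, hb, hab⟩ := hY2
      by_cases h : a = η
      · exact ⟨b, hb, fun h' => hab (h.trans h'.symm)⟩
      · exact ⟨a, ha, h⟩
    obtain ⟨-, m1, e1, u1⟩ := pair X σ hXS hσ hσα χ hχ χ' hχ'
    obtain ⟨-, m2, e2, u2⟩ := pair Y τ hYS hτ hτα η hη η' hη'
    refine signed_orth (σ χ) (σ χ') (τ η) (τ η') (hsig X σ hXS hσ χ hχ) (hsig X σ hXS hσ χ' hχ')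
      (hsig Y τ hYS hτ η hη) (hsig Y τ hYS hτ η' hη') (d χ') (d χ) (d η') (d η)
      (hd0 _ (hXS hχ')) (hd0 _ (hXS hχ)) (hd0 _ (hYS hη')) (hd0 _ (hYS hη)) ?_ ?_ ?_ u1 u2
    · rw [hσ.2.2.1 χ (Submodule.subset_span hχ) χ' (Submodule.subset_span hχ'),
        IsIrrCharacter.classInner_eq_zero (hirr _ (hXS hχ)) (hirr _ (hXS hχ')) (Ne.symm hne)]
    · rw [hτ.2.2.1 η (Submodule.subset_span hη) η' (Submodule.subset_span hη'),
        IsIrrCharacter.classInner_eq_zero (hirr _ (hYS hη)) (hirr _ (hYS hη')) (Ne.symm hne')]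
    · rw [← e1, ← e2, hα.2.2.1 _ m1 _ m2]
      have hz : ∀ a ∈ X, ∀ b ∈ Y, classInner a b = 0 := fun a ha b hb =>
        IsIrrCharacter.classInner_eq_zero (hirr a (hXS ha)) (hirr b (hYS hb))
          (fun h => Set.disjoint_left.mp hXY ha (h ▸ hb))
      simp only [← Int.cast_smul_eq_zsmul ℂ, classInner_sub_left, classInner_sub_right,
        classInner_smul_left, classInner_smul_right, hz χ hχ η hη, hz χ hχ η' hη',
        hz χ' hχ' η hη, hz χ' hχ' η' hη', mul_zero, sub_zero]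
  refine ⟨part1, ?_⟩
  rintro ⟨χ₀, hχ₀, η₀, hη₀, hlink⟩
  obtain ⟨a, ha, b, hb, hab⟩ := hX2
  have hSX : ∀ ξ ∈ X ∪ Y, ξ ∈ S := fun ξ h => h.elim (fun h => hXS h) (fun h => hYS h)
  let T : (N → ℂ) → (G → ℂ) := fun ξ => if ξ ∈ X then σ ξ else τ ξ
  have hTX : ∀ ξ ∈ X, T ξ = σ ξ := fun ξ h => if_pos h
  have hTY : ∀ ξ ∈ Y, T ξ = τ ξ := fun ξ h => if_neg fun h' => Set.disjoint_left.mp hXY h' h
  obtain ⟨τ₂, hτ₂, hT⟩ := exists_isometry_extension (X ∪ Y)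
    (fun ξ h => by rw [IsIrrCharacter.classInner_self (hirr ξ (hSX ξ h))]; exact one_ne_zero)
    (fun ξ h η h' hne => IsIrrCharacter.classInner_eq_zero (hirr ξ (hSX ξ h)) (hirr η (hSX η h')) hne)
    T (by
      intro ξ h
      rcases h with h | h
      · rw [hTX ξ h]; exact hσ.2.2.2 ξ (Submodule.subset_span h)
      · rw [hTY ξ h]; exact hτ.2.2.2 ξ (Submodule.subset_span h))
    (by
      intro ξ h η h'
      rcases h with h | h <;> rcases h' with h' | h'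
      · rw [hTX ξ h, hTX η h', hσ.2.2.1 ξ (Submodule.subset_span h) η (Submodule.subset_span h')]
      · rw [hTX ξ h, hTY η h', part1 ξ h η h', IsIrrCharacter.classInner_eq_zero (hirr ξ (hXS h))
          (hirr η (hYS h')) (fun e => Set.disjoint_left.mp hXY h (e ▸ h'))]
      · rw [hTY ξ h, hTX η h', ← classInner_conj_symm, part1 η h' ξ h, map_zero,
          IsIrrCharacter.classInner_eq_zero (hirr ξ (hYS h)) (hirr η (hXS h'))
            (fun e => Set.disjoint_left.mp hXY h' (e ▸ h))]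
      · rw [hTY ξ h, hTY η h', hτ.2.2.1 ξ (Submodule.subset_span h) η (Submodule.subset_span h')])
  obtain ⟨mab, -, -, -⟩ := pair X σ hXS hσ hσα a ha b hb
  refine ⟨⟨_, mem_zspanOn_compl_one.mpr
    ⟨zspan_mono Set.subset_union_left mab.1, (mem_zspanOn_compl_one.mp mab).2⟩, ?_⟩,
    τ₂, hτ₂, fun θ hθ => ?_⟩
  · intro h
    have h1 := congrArg (fun f => classInner f a) h
    simp only [← Int.cast_smul_eq_zsmul ℂ, classInner_sub_left, classInner_smul_left,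
      IsIrrCharacter.classInner_self (hirr a (hXS ha)),
      IsIrrCharacter.classInner_eq_zero (hirr b (hXS hb)) (hirr a (hXS ha)) (Ne.symm hab),
      classInner_zero_left, mul_zero, sub_zero, mul_one, Int.cast_natCast] at h1
    exact hd0 b (hXS hb) (by exact_mod_cast h1)
  have hint : ∀ Z ⊆ S, ∀ z ∈ zspan Z, ∃ k : ℤ, z 1 = k := by
    intro Z hZ z hz
    induction hz using Submodule.span_induction with
    | mem ξ hξ => exact ⟨d ξ, by rw [hd ξ (hZ hξ)]; simp⟩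
    | zero => exact ⟨0, by simp⟩
    | add x y _ _ ihx ihy =>
      obtain ⟨k, hk⟩ := ihx; obtain ⟨l, hl⟩ := ihy
      exact ⟨k + l, by simp [hk, hl]⟩
    | smul c x _ ih =>
      obtain ⟨k, hk⟩ := ih
      exact ⟨c * k, by simp [hk]⟩
  have hθ' := mem_zspanOn_compl_one.mp hθ
  have hsplit : θ ∈ Submodule.span ℤ X ⊔ Submodule.span ℤ Y := by
    rw [← Submodule.span_union]; exact hθ'.1
  obtain ⟨x, hx, y, hy, rfl⟩ := Submodule.mem_sup.mp hsplit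
  obtain ⟨k, hk⟩ := hint X hXS x hx
  have hy1 : y 1 = -(k : ℂ) := by
    have := hθ'.2
    rw [Pi.add_apply, hk] at this
    linear_combination this
  set c : ℤ := (d χ₀ : ℤ)
  set e : ℤ := (d η₀ : ℤ)
  have hc : (χ₀ 1 : ℂ) = (c : ℂ) := by rw [hd χ₀ (hXS hχ₀)]; simp [c]
  have he : (η₀ 1 : ℂ) = (e : ℂ) := by rw [hd η₀ (hYS hη₀)]; simp [e]
  have hxm : c • x - k • χ₀ ∈ zspanOn X {1}ᶜ := mem_zspanOn_compl_one.mpr
    ⟨Submodule.sub_mem _ (Submodule.smul_mem _ _ hx) (Submodule.smul_mem _ _ (Submodule.subset_span hχ₀)),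
      by simp [hk, hc, mul_comm]⟩
  have hym : e • y + k • η₀ ∈ zspanOn Y {1}ᶜ := mem_zspanOn_compl_one.mpr
    ⟨Submodule.add_mem _ (Submodule.smul_mem _ _ hy) (Submodule.smul_mem _ _ (Submodule.subset_span hη₀)),
      by simp [hy1, he, mul_comm]⟩
  have hωm : c • η₀ - e • χ₀ ∈ zspanOn (X ∪ Y) {1}ᶜ := mem_zspanOn_compl_one.mpr
    ⟨Submodule.sub_mem _ (Submodule.smul_mem _ _ (Submodule.subset_span (Or.inr hη₀)))
      (Submodule.smul_mem _ _ (Submodule.subset_span (Or.inl hχ₀))),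
      by simp [hc, he, mul_comm]⟩
  have toS : ∀ {Z : Set (N → ℂ)}, Z ⊆ S → ∀ {z : N → ℂ}, z ∈ zspanOn Z {1}ᶜ → z ∈ zspanOn S {1}ᶜ :=
    fun hZ z hz => mem_zspanOn_compl_one.mpr ⟨zspan_mono hZ hz.1, (mem_zspanOn_compl_one.mp hz).2⟩
  have aX : τ₂ (c • x - k • χ₀) = α (c • x - k • χ₀) := by
    rw [← hσα _ hxm]
    exact eq_on_span (P := Submodule.span ℤ X) (Q := Submodule.span ℤ (X ∪ Y)) hσ hτ₂
      Submodule.subset_span (fun z hz => Submodule.subset_span (Or.inl hz))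
      (fun z hz => by rw [hT z (Or.inl hz), hTX z hz]) hxm.1
  have aY : τ₂ (e • y + k • η₀) = α (e • y + k • η₀) := by
    rw [← hτα _ hym]
    exact eq_on_span (P := Submodule.span ℤ Y) (Q := Submodule.span ℤ (X ∪ Y)) hτ hτ₂
      Submodule.subset_span (fun z hz => Submodule.subset_span (Or.inr hz))
      (fun z hz => by rw [hT z (Or.inr hz), hTY z hz]) hym.1
  have aω : τ₂ (c • η₀ - e • χ₀) = α (c • η₀ - e • χ₀) := by
    rw [IsLinearIsometryOn.map_sub (P := Submodule.span ℤ (X ∪ Y)) hτ₂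
      (Submodule.smul_mem _ _ (Submodule.subset_span (Or.inr hη₀)))
      (Submodule.smul_mem _ _ (Submodule.subset_span (Or.inl hχ₀))),
      hτ₂.2.1 η₀ (Submodule.subset_span (Or.inr hη₀)), hτ₂.2.1 χ₀ (Submodule.subset_span (Or.inl hχ₀)),
      hT η₀ (Or.inr hη₀), hT χ₀ (Or.inl hχ₀), hTX χ₀ hχ₀, hTY η₀ hη₀]
    rw [← Int.cast_smul_eq_zsmul ℂ c, ← Int.cast_smul_eq_zsmul ℂ e, ← Int.cast_smul_eq_zsmul ℂ c,
      ← Int.cast_smul_eq_zsmul ℂ e, ← hc, ← he]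
    exact hlink.symm
  have hsub : X ∪ Y ⊆ S := hSX
  let E := zspanOnSub S ({1}ᶜ : Set N)
  have key : (e * c) • (x + y) = e • (c • x - k • χ₀) + c • (e • y + k • η₀) -
      k • (c • η₀ - e • χ₀) := by
    simp only [smul_sub, smul_add, smul_smul]
    rw [mul_comm c e, mul_comm k c, mul_comm k e]
    abel
  have hA1 : e • (c • x - k • χ₀) ∈ E := E.smul_mem _ (toS hXS hxm)
  have hA2 : c • (e • y + k • η₀) ∈ E := E.smul_mem _ (toS hYS hym)
  have hA3 : k • (c • η₀ - e • χ₀) ∈ E := E.smul_mem _ (toS hsub hωm)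
  have hB1 := Submodule.smul_mem (Submodule.span ℤ (X ∪ Y)) e (zspan_mono Set.subset_union_left hxm.1)
  have hB2 := Submodule.smul_mem (Submodule.span ℤ (X ∪ Y)) c (zspan_mono Set.subset_union_right hym.1)
  have hB3 := Submodule.smul_mem (Submodule.span ℤ (X ∪ Y)) k hωm.1
  have hfin : (e * c) • τ₂ (x + y) = (e * c) • α (x + y) := by
    rw [← hτ₂.2.1 _ hθ'.1, ← hα.2.1 _ (toS hsub hθ), key,
      IsLinearIsometryOn.map_sub (P := Submodule.span ℤ (X ∪ Y)) hτ₂ (Submodule.add_mem _ hB1 hB2) hB3,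
      hτ₂.1 _ hB1 _ hB2, hτ₂.2.1 _ (zspan_mono Set.subset_union_left hxm.1),
      hτ₂.2.1 _ (zspan_mono Set.subset_union_right hym.1), hτ₂.2.1 _ hωm.1, aX, aY, aω,
      IsLinearIsometryOn.map_sub (P := E) hα (E.add_mem hA1 hA2) hA3,
      hα.1 _ hA1 _ hA2, hα.2.1 _ (toS hXS hxm), hα.2.1 _ (toS hYS hym), hα.2.1 _ (toS hsub hωm)]
  rw [← Int.cast_smul_eq_zsmul ℂ, ← Int.cast_smul_eq_zsmul ℂ] at hfin
  have hne : ((e * c : ℤ) : ℂ) ≠ 0 := by
    simp [c, e, hd0 _ (hXS hχ₀), hd0 _ (hYS hη₀)]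
  exact smul_right_injective _ hne hfin

end Cfsg.Agent.S1531
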