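import Cfsg.Statements.S0898
import Cfsg.Agent.Lib.Char.Central
import Cfsg.Agent.Lib.Char.Extension
import Cfsg.Agent.Lib.Char.Generalized
import Cfsg.Agent.Lib.Char.Linear
import Cfsg.Agent.Lib.Char.Clifford
import Cfsg.Agent.Lib.Char.Perm

set_option autoImplicit false
open Cfsg

namespace Cfsg.Agent.S0898

open Cfsg.Agent.Char
open scoped ComplexConjugate

/-- Multiplying by a central element scales an irreducible character by a number of modulus one. -/
theorem central_scale {G : Type*} [Group G] [Fintype G] {χ : G → ℂ} (hχ : Cfsg.IsIrrCharacter G χ)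
    {z : G} (hz : z ∈ Subgroup.center G) : ∃ w : ℂ, ‖w‖ = 1 ∧ ∀ g, χ (z * g) = w * χ g := by
  classical
  obtain ⟨n, ρ, hρ, rfl⟩ := hχ
  haveI := hρ
  obtain ⟨w, hw⟩ := isScalar_of_commute ρ (ρ z) fun g => by
    rw [← map_mul, ← map_mul, Subgroup.mem_center_iff.mp hz g]
  have hval : ∀ g, ρ.character (z * g) = w * ρ.character g := fun g => by
    simp [Representation.character, map_mul, hw]
  refine ⟨w, ?_, hval⟩
  have hp : ∀ k : ℕ, ρ.character (z ^ k) = w ^ k * ρ.character 1 := by
    intro k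
    induction k with
    | zero => simp
    | succ k ih => rw [pow_succ', hval, ih, pow_succ', mul_assoc]
  have h := hp (orderOf z)
  rw [pow_orderOf_eq_one] at h
  have hne := IsIrrCharacter.apply_one_ne_zero (isIrrCharacter_character ρ)
  refine Complex.norm_eq_one_of_pow_eq_one ?_ (orderOf_pos z).ne'
  exact mul_right_cancel₀ hne (h.symm.trans (one_mul _).symm)

/-- The first inequality. -/
theorem first {G : Type*} [Group G] [Fintype G] (H : Subgroup G) [Fintype H]
    (hab : ∀ a ∈ H, ∀ b ∈ H, a * b = b * a) (hZ : H ⊓ Subgroup.center G = ⊥)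
    (hone : ∀ g : G, g ∉ Subgroup.center G → ∀ a b : G, Subgroup.centralizer ({g} : Set G) ⊓ H.map (MulAut.conj a).toMonoidHom ≠ ⊥ → Subgroup.centralizer ({g} : Set G) ⊓ H.map (MulAut.conj b).toMonoidHom ≠ ⊥ → H.map (MulAut.conj a).toMonoidHom = H.map (MulAut.conj b).toMonoidHom)
    (χ : G → ℂ) (hχ : Cfsg.IsIrrCharacter G χ) (hker : ∃ h ∈ H, χ h ≠ χ 1) :
    (χ 1).re ^ 2 > (Nat.card H : ℝ) * (Cfsg.classInner (fun h : H => χ h) (fun _ => 1)).re ^ 2 := by
  classical
  set N : Subgroup G := Subgroup.normalizer (H : Set G) with hNdef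
  set Z : Subgroup G := Subgroup.center G with hZdef
  obtain ⟨k, hk, hkne⟩ := hker
  have hk1 : k ≠ 1 := fun h => hkne (by rw [h])
  set c : ℂ := Cfsg.classInner (fun h : H => χ h) (fun _ => 1) with hc
  obtain ⟨cz, hcz⟩ := classInner_int_of_isGeneralized
    (IsGeneralizedCharacter.restrict (IsIrrCharacter.isGeneralized hχ) H)
    (IsIrrCharacter.isGeneralized (isIrrCharacter_one (G := H)))
  change c = _ at hcz
  have havg : (Nat.card H : ℂ)⁻¹ * ∑ h : H, χ h = c := by
    rw [hc, Cfsg.classInner]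
    simp
  have hcl : IsClassFunction G χ := IsCharacter.isClassFunction (IsIrrCharacter.isCharacter hχ)
  have hHN : H ≤ N := Subgroup.le_normalizer
  have hconjH : ∀ g ∈ N, ∀ h ∈ H, g * h * g⁻¹ ∈ H := fun g hg h hh =>
    (Subgroup.mem_normalizer_iff.mp hg h).mp hh
  -- the part on the fixed space of the subgroup
  let χ₀ : N → ℂ := fun g => (Nat.card H : ℂ)⁻¹ * ∑ h : H, χ (g * h)
  have hinv : ∀ (g : N) (h : H), χ₀ (g * ⟨h, hHN h.2⟩) = χ₀ g := fun g h => by
    simp only [χ₀]
    congr 1
    refine Fintype.sum_equiv (Equiv.mulLeft h) _ _ fun y => ?_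
    simp [mul_assoc]
  have hfpf : ∀ g : N, (∀ h ∈ H, (g : G) * h = h * g → h = 1) → χ g = χ₀ g := by
    intro g hg
    have hχh : ∀ h : H, χ ((g : G) * h) = χ g := by
      let φ : H → H := fun y => ⟨(g : G)⁻¹ * y * g * (y : G)⁻¹, by
        refine H.mul_mem ?_ (H.inv_mem y.2)
        have := hconjH (g : G)⁻¹ (N.inv_mem g.2) y y.2
        rwa [inv_inv] at this⟩
      have hinj : Function.Injective φ := by
        intro x y hxy
        have e := congrArg Subtype.val hxy
        simp only [φ] at e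
        have h1 : (y : G)⁻¹ * x = 1 := by
          refine hg _ (H.mul_mem (H.inv_mem y.2) x.2) ?_
          have e2 : (g : G)⁻¹ * x * g = ((g : G)⁻¹ * y * g * (y : G)⁻¹) * x := by rw [← e]; group
          have e3 : (g : G)⁻¹ * ((y : G)⁻¹ * x) * g = (y : G)⁻¹ * x := by
            calc (g : G)⁻¹ * ((y : G)⁻¹ * x) * g = ((g : G)⁻¹ * y * g)⁻¹ * ((g : G)⁻¹ * x * g) := by group
              _ = ((g : G)⁻¹ * y * g)⁻¹ * (((g : G)⁻¹ * y * g * (y : G)⁻¹) * x) := by rw [← e2]
              _ = _ := by group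
          nth_rw 1 [← e3]
          group
        exact Subtype.ext (inv_mul_eq_one.mp h1).symm
      intro h
      obtain ⟨y, rfl⟩ := (Finite.injective_iff_surjective.mp hinj) h
      simp only [φ]
      rw [show (g : G) * ((g : G)⁻¹ * y * g * (y : G)⁻¹) = (y : G) * g * (y : G)⁻¹ by group]
      exact hcl g y
    show χ g = (Nat.card H : ℂ)⁻¹ * ∑ h : H, χ ((g : G) * h)
    rw [Finset.sum_congr rfl fun h _ => hχh h, Finset.sum_const, Finset.card_univ, nsmul_eq_mul,
      ← Nat.card_eq_fintype_card, ← mul_assoc, inv_mul_cancel₀ (Nat.cast_ne_zero.mpr Nat.card_pos.ne'), one_mul]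
  let χ₁ : N → ℂ := fun g => χ g - χ₀ g
  have horth : ∑ g : N, χ₀ g * conj (χ₁ g) = 0 := by
    have e : ∑ g : N, χ₀ g * conj (χ₀ g) = ∑ g : N, χ₀ g * conj (χ g) := by
      have e1 : ∀ h : H, ∑ g : N, χ₀ g * conj (χ ((g : G) * h)) = ∑ g : N, χ₀ g * conj (χ g) := fun h =>
        Fintype.sum_equiv (Equiv.mulRight (⟨h, hHN h.2⟩ : N)) _ _ fun g => by simp [hinv]
      calc ∑ g : N, χ₀ g * conj (χ₀ g)
          = (Nat.card H : ℂ)⁻¹ * ∑ h : H, ∑ g : N, χ₀ g * conj (χ ((g : G) * h)) := by
            simp only [Finset.mul_sum]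
            rw [Finset.sum_comm]
            refine Finset.sum_congr rfl fun g _ => ?_
            simp only [χ₀, map_mul, map_inv₀, Complex.conj_natCast, map_sum, Finset.mul_sum]
            exact Finset.sum_congr rfl fun h _ => by ring
        _ = _ := by
            rw [Finset.sum_congr rfl fun h _ => e1 h, Finset.sum_const, Finset.card_univ, nsmul_eq_mul,
              ← Nat.card_eq_fintype_card, ← mul_assoc, inv_mul_cancel₀ (Nat.cast_ne_zero.mpr Nat.card_pos.ne'),
              one_mul]
    simp only [χ₁, map_sub, mul_sub, Finset.sum_sub_distrib]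
    rw [← e, sub_self]
  have hsplit : ∑ g : N, Complex.normSq (χ g) =
      (∑ g : N, Complex.normSq (χ₀ g)) + ∑ g : N, Complex.normSq (χ₁ g) := by
    rw [← Finset.sum_add_distrib]
    have e : ∀ g : N, Complex.normSq (χ g) =
        Complex.normSq (χ₀ g) + Complex.normSq (χ₁ g) + 2 * (χ₀ g * conj (χ₁ g)).re := fun g => by
      rw [← Complex.normSq_add]
      simp [χ₁]
    rw [Finset.sum_congr rfl fun g _ => e g, Finset.sum_add_distrib, ← Finset.mul_sum, ← Complex.re_sum,
      horth]
    simp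
  -- a constituent not trivial on the subgroup
  haveI := Fintype.ofFinite (Cfsg.IrrCharacter N)
  have hres : IsCharacter N (fun g : N => χ g) := IsCharacter.restrict (IsIrrCharacter.isCharacter hχ) N
  obtain ⟨ψ, hψne, hψH⟩ : ∃ ψ : Cfsg.IrrCharacter N, Cfsg.classInner (fun g : N => χ g) (ψ : N → ℂ) ≠ 0 ∧
      (ψ : N → ℂ) ⟨k, hHN hk⟩ ≠ (ψ : N → ℂ) 1 := by
    by_contra hh
    push Not at hh
    refine hkne ?_
    have e1 := congrFun (IsClassFunction.eq_sum (IsCharacter.isClassFunction hres)) ⟨k, hHN hk⟩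
    have e2 := congrFun (IsClassFunction.eq_sum (IsCharacter.isClassFunction hres)) 1
    simp only [Finset.sum_apply, Pi.smul_apply, smul_eq_mul] at e1 e2
    have e3 : χ k = χ ((1 : N) : G) := e1.trans (Eq.trans (Finset.sum_congr rfl fun ψ _ => ?_) e2.symm)
    · simpa using e3
    · by_cases h0 : Cfsg.classInner (fun g : N => χ g) (ψ : N → ℂ) = 0
      · rw [h0, zero_mul, zero_mul]
      · rw [hh ψ h0]
  have hψavg : ∀ g : N, ∑ h : H, (ψ : N → ℂ) (g * ⟨h, hHN h.2⟩) = 0 := by
    obtain ⟨n, ρ, hρ, hρe⟩ := ψ.2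
    haveI := hρ
    rw [← hρe] at hψH
    let f : N → ℂ := fun x => if (x : G) ∈ H then 1 else 0
    have hf : IsClassFunction N f := fun x y => by
      have : ((y * x * y⁻¹ : N) : G) ∈ H ↔ (x : G) ∈ H :=
        (Subgroup.mem_normalizer_iff.mp y.2 x).symm
      simp only [f, this]
    have hT := sum_smul_rep_eq_smul_id ρ hf
    have hsum : ∀ F : N → ℂ, ∑ x : N, f x * F x = ∑ h : H, F ⟨h, hHN h.2⟩ := by
      intro F
      simp only [f, ite_mul, one_mul, zero_mul]
      rw [← Finset.sum_filter]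
      refine Finset.sum_bij (fun x hx => (⟨x, (Finset.mem_filter.mp hx).2⟩ : H)) (fun _ _ => Finset.mem_univ _)
        (fun x _ y _ e => Subtype.ext (congrArg (fun z : H => (z : G)) e))
        (fun h _ => ⟨⟨h, hHN h.2⟩, Finset.mem_filter.mpr ⟨Finset.mem_univ _, h.2⟩, rfl⟩) (fun _ _ => rfl)
    have hzero : ∑ x : N, f x * ρ.character x = 0 := by
      by_contra hne
      -- the averaged operator is then an invertible scalar fixed by the subgroup
      set t := (∑ x : N, f x * ρ.character x) / (Module.finrank ℂ (Fin n → ℂ) : ℂ) with ht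
      have ht0 : t ≠ 0 := by
        refine div_ne_zero hne (Nat.cast_ne_zero.mpr ?_)
        intro h0
        have := IsIrrCharacter.apply_one_ne_zero (isIrrCharacter_character ρ)
        rw [ρ.char_one, h0] at this
        simp at this
      have hk' : ρ ⟨k, hHN hk⟩ * (∑ x : N, f x • ρ x) = ∑ x : N, f x • ρ x := by
        rw [Finset.mul_sum]
        refine Fintype.sum_equiv (Equiv.mulLeft (⟨k, hHN hk⟩ : N)) _ _ fun x => ?_
        have : ((⟨k, hHN hk⟩ * x : N) : G) ∈ H ↔ (x : G) ∈ H :=
          ⟨fun h => by simpa using H.mul_mem (H.inv_mem hk) h, fun h => H.mul_mem hk h⟩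
        simp only [Equiv.coe_mulLeft, mul_smul_comm, ← map_mul, f, this]
      rw [hT] at hk'
      apply hψH
      have hid : ρ ⟨k, hHN hk⟩ = ρ 1 := by
        rw [map_one]
        apply smul_right_injective (Module.End ℂ (Fin n → ℂ)) ht0
        simp only
        rw [show (1 : Module.End ℂ (Fin n → ℂ)) = LinearMap.id from rfl]
        refine Eq.trans ?_ hk'
        rw [mul_smul_comm, show (LinearMap.id : Module.End ℂ (Fin n → ℂ)) = 1 from rfl, mul_one]
      simp [Representation.character, hid]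
    intro g
    rw [← hρe, ← hsum (fun x => ρ.character (g * x))]
    have e : ρ g * (∑ x : N, f x • ρ x) = 0 := by rw [hT, hzero, zero_div, zero_smul, mul_zero]
    have e' := congrArg (LinearMap.trace ℂ (Fin n → ℂ)) e
    rw [Finset.mul_sum, map_sum, map_zero] at e'
    refine Eq.trans ?_ e'
    refine Finset.sum_congr rfl fun x _ => ?_
    simp [Representation.character, map_mul]
  have hχ₀ψ : Cfsg.classInner χ₀ (ψ : N → ℂ) = 0 := by
    rw [Cfsg.classInner]
    refine mul_eq_zero_of_right _ ?_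
    have e : ∀ h : H, ∑ g : N, χ ((g : G) * h) * conj ((ψ : N → ℂ) g) =
        ∑ g : N, χ g * conj ((ψ : N → ℂ) (g * (⟨h, hHN h.2⟩ : N)⁻¹)) := fun h =>
      Fintype.sum_equiv (Equiv.mulRight (⟨h, hHN h.2⟩ : N)) _ _ fun g => by simp
    calc ∑ g : N, χ₀ g * conj ((ψ : N → ℂ) g)
        = (Nat.card H : ℂ)⁻¹ * ∑ h : H, ∑ g : N, χ ((g : G) * h) * conj ((ψ : N → ℂ) g) := by
          rw [Finset.sum_comm, Finset.mul_sum]
          exact Finset.sum_congr rfl fun g _ => by simp only [χ₀, mul_assoc, Finset.sum_mul]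
      _ = (Nat.card H : ℂ)⁻¹ * ∑ g : N, χ g * conj (∑ h : H, (ψ : N → ℂ) (g * (⟨h, hHN h.2⟩ : N)⁻¹)) := by
          rw [Finset.sum_congr rfl fun h _ => e h, Finset.sum_comm]
          simp only [map_sum, Finset.mul_sum]
      _ = 0 := by
          rw [Finset.sum_eq_zero fun g _ => ?_, mul_zero]
          rw [show ∑ h : H, (ψ : N → ℂ) (g * (⟨h, hHN h.2⟩ : N)⁻¹) = ∑ h : H, (ψ : N → ℂ) (g * ⟨h, hHN h.2⟩) from
            Fintype.sum_equiv (Equiv.inv H) _ _ fun h => rfl, hψavg, map_zero, mul_zero]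
  have hχ₁ : (Nat.card N : ℝ) ≤ ∑ g : N, Complex.normSq (χ₁ g) := by
    obtain ⟨m, hm⟩ := classInner_int_of_isGeneralized
      (IsGeneralizedCharacter.restrict (IsIrrCharacter.isGeneralized hχ) N) (IsIrrCharacter.isGeneralized ψ.2)
    change Cfsg.classInner (fun g : N => χ g) (ψ : N → ℂ) = _ at hm
    have hm0 : m ≠ 0 := fun h => hψne (by rw [hm, h, Int.cast_zero])
    have h1 : Cfsg.classInner χ₁ (ψ : N → ℂ) = (m : ℂ) := by
      rw [show χ₁ = (fun g : N => χ g) - χ₀ from rfl, classInner_sub_left, hm, hχ₀ψ, sub_zero]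
    have h2 := classInner_self_re_nonneg (χ₁ - (m : ℂ) • (ψ : N → ℂ))
    rw [classInner_sub_left, classInner_sub_right, classInner_sub_right, classInner_smul_left,
      classInner_smul_left, classInner_smul_right, classInner_smul_right, h1,
      ← classInner_conj_symm χ₁ (ψ : N → ℂ), h1, IsIrrCharacter.classInner_self ψ.2] at h2
    simp only [map_intCast, Complex.sub_re, Complex.mul_re, Complex.intCast_re, Complex.intCast_im,
      mul_zero, sub_zero, mul_one] at h2
    have h3 : (Cfsg.classInner χ₁ χ₁).re = (Nat.card N : ℝ)⁻¹ * ∑ g : N, Complex.normSq (χ₁ g) := by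
      simp only [Cfsg.classInner, Complex.mul_conj]
      rw [← Complex.ofReal_sum, ← Complex.ofReal_natCast, ← Complex.ofReal_inv, ← Complex.ofReal_mul,
        Complex.ofReal_re]
    have hm1 : (1 : ℝ) ≤ (m : ℝ) * m := by
      have : 1 ≤ m * m := by nlinarith [Int.one_le_abs hm0, abs_mul_abs_self m]
      exact_mod_cast this
    have hN : (0 : ℝ) < Nat.card N := by exact_mod_cast Nat.card_pos
    have h4 : (1 : ℝ) ≤ (Nat.card N : ℝ)⁻¹ * ∑ g : N, Complex.normSq (χ₁ g) := by linarith
    rwa [inv_mul_eq_div, le_div_iff₀ hN, one_mul] at h4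
  -- the elements commuting with a nontrivial member of the subgroup
  let U : Finset G := Finset.univ.filter fun g => g ∈ N ∧ ∃ h ∈ H, h ≠ 1 ∧ g * h = h * g
  let D : Finset G := U.filter fun g => g ∉ Z
  obtain ⟨d, hd0, hd⟩ := IsIrrCharacter.degree_pos hχ
  have hZsum : ∑ g ∈ U.filter (fun g => g ∈ Z), Complex.normSq (χ g) = (Nat.card Z : ℝ) * (d : ℝ) ^ 2 := by
    have : U.filter (fun g => g ∈ Z) = Finset.univ.filter fun g => g ∈ Z := by
      ext g
      simp only [U, Finset.mem_filter, Finset.mem_univ, true_and, and_iff_right_iff_imp]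
      intro hg
      refine ⟨Subgroup.mem_normalizer_iff.mpr fun x => ?_, k, hk, hk1, (Subgroup.mem_center_iff.mp hg k).symm⟩
      rw [← Subgroup.mem_center_iff.mp hg x, mul_inv_cancel_right]
    rw [this, Finset.sum_congr rfl fun g hg => (by
      obtain ⟨w, hw, hw'⟩ := central_scale hχ (Finset.mem_filter.mp hg).2
      rw [show χ g = w * χ 1 by rw [← hw' 1, mul_one], Complex.normSq_mul, Complex.normSq_eq_norm_sq, hw,
        one_pow, one_mul, hd, Complex.normSq_natCast] : Complex.normSq (χ g) = (d : ℝ) * d),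
      Finset.sum_const, nsmul_eq_mul, ← Fintype.card_subtype, ← Nat.card_eq_fintype_card, sq]
  have hUN : (Nat.card N : ℝ) + (Nat.card H : ℝ) * Nat.card Z * (cz : ℝ) ^ 2 ≤
      ∑ g ∈ U, Complex.normSq (χ g) := by
    let U' : Finset N := Finset.univ.filter fun g => (g : G) ∈ U
    have hU' : ∑ g ∈ U, Complex.normSq (χ g) = ∑ g ∈ U', Complex.normSq (χ g) := by
      refine Finset.sum_bij (fun g hg => (⟨g, (Finset.mem_filter.mp hg).2.1⟩ : N)) (fun g hg => ?_)
        (fun x _ y _ e => congrArg (fun z : N => (z : G)) e)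
        (fun g hg => ⟨g, (Finset.mem_filter.mp hg).2, rfl⟩) (fun _ _ => rfl)
      exact Finset.mem_filter.mpr ⟨Finset.mem_univ _, hg⟩
    have hcompl : ∑ g ∈ U'ᶜ, Complex.normSq (χ g) = ∑ g ∈ U'ᶜ, Complex.normSq (χ₀ g) := by
      refine Finset.sum_congr rfl fun g hg => ?_
      rw [hfpf g fun h hh hgh => by
        by_contra h1
        exact (Finset.mem_compl.mp hg) (Finset.mem_filter.mpr ⟨Finset.mem_univ _,
          Finset.mem_filter.mpr ⟨Finset.mem_univ _, g.2, h, hh, h1, hgh⟩⟩)]
    have hlow : (Nat.card H : ℝ) * Nat.card Z * (cz : ℝ) ^ 2 ≤ ∑ g ∈ U', Complex.normSq (χ₀ g) := by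
      let ι : H × Z → N := fun p => ⟨(p.2 : G) * p.1, N.mul_mem
        (Subgroup.mem_normalizer_iff.mpr fun x => by
          rw [← Subgroup.mem_center_iff.mp p.2.2 x, mul_inv_cancel_right]) (hHN p.1.2)⟩
      have hinj : Function.Injective ι := by
        rintro ⟨h, z⟩ ⟨h', z'⟩ e
        have e' : (z : G) * h = z' * h' := congrArg (fun x : N => (x : G)) e
        have hmem : (z' : G)⁻¹ * z ∈ H ⊓ Z := by
          refine ⟨?_, Z.mul_mem (Z.inv_mem z'.2) z.2⟩
          rw [show (z' : G)⁻¹ * z = (h' : G) * (h : G)⁻¹ by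
            rw [eq_mul_inv_iff_mul_eq, mul_assoc, e', inv_mul_cancel_left]]
          exact H.mul_mem h'.2 (H.inv_mem h.2)
        rw [hZ, Subgroup.mem_bot, inv_mul_eq_one] at hmem
        have hz : z = z' := Subtype.ext hmem.symm
        subst hz
        exact Prod.ext (Subtype.ext (mul_left_cancel e')) rfl
      have hval : ∀ p : H × Z, Complex.normSq (χ₀ (ι p)) = (cz : ℝ) ^ 2 := by
        rintro ⟨h, z⟩
        obtain ⟨w, hw, hw'⟩ := central_scale hχ z.2
        have e : χ₀ (ι (h, z)) = w * c := by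
          rw [← havg]
          simp only [χ₀, ι, mul_assoc, hw', ← Finset.mul_sum]
          rw [← mul_assoc, mul_comm _ w, mul_assoc]
          exact congrArg _ (congrArg _ (Fintype.sum_equiv (Equiv.mulLeft h) _ _ fun y => by simp))
        rw [e, Complex.normSq_mul, Complex.normSq_eq_norm_sq, hw, one_pow, one_mul, hcz,
          Complex.normSq_intCast, sq]
      calc (Nat.card H : ℝ) * Nat.card Z * (cz : ℝ) ^ 2 = ∑ p : H × Z, Complex.normSq (χ₀ (ι p)) := by
            rw [Finset.sum_congr rfl fun p _ => hval p, Finset.sum_const, Finset.card_univ, nsmul_eq_mul,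
              Fintype.card_prod, ← Nat.card_eq_fintype_card, ← Nat.card_eq_fintype_card, Nat.cast_mul]
        _ = ∑ g ∈ Finset.univ.image ι, Complex.normSq (χ₀ g) := by
            rw [Finset.sum_image fun x _ y _ e => hinj e]
        _ ≤ _ := by
            refine Finset.sum_le_sum_of_subset_of_nonneg ?_ fun g _ _ => Complex.normSq_nonneg _
            intro g hg
            obtain ⟨⟨h, z⟩, -, rfl⟩ := Finset.mem_image.mp hg
            refine Finset.mem_filter.mpr ⟨Finset.mem_univ _, Finset.mem_filter.mpr ⟨Finset.mem_univ _,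
              (ι (h, z)).2, k, hk, hk1, ?_⟩⟩
            show (z : G) * h * k = k * ((z : G) * h)
            rw [mul_assoc, hab h h.2 k hk, ← mul_assoc, ← Subgroup.mem_center_iff.mp z.2 k, mul_assoc]
    have e1 := Finset.sum_add_sum_compl U' fun g : N => Complex.normSq (χ g)
    have e2 := Finset.sum_add_sum_compl U' fun g : N => Complex.normSq (χ₀ g)
    rw [hU']
    linarith
  have hD : ∑ g ∈ U, Complex.normSq (χ g) =
      (Nat.card Z : ℝ) * (d : ℝ) ^ 2 + ∑ g ∈ D, Complex.normSq (χ g) := by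
    rw [← hZsum, Finset.sum_filter_add_sum_filter_not]
  -- the conjugates are disjoint
  have htot : (N.index : ℝ) * ∑ g ∈ D, Complex.normSq (χ g) + (Nat.card Z : ℝ) * (d : ℝ) ^ 2 ≤
      (Nat.card G : ℝ) := by
    have hG : ∑ g : G, Complex.normSq (χ g) = (Nat.card G : ℝ) := by
      have h := IsIrrCharacter.classInner_self hχ
      rw [Cfsg.classInner, inv_mul_eq_iff_eq_mul₀ (Nat.cast_ne_zero.mpr Nat.card_pos.ne'), mul_one] at h
      have := congrArg Complex.re h
      rw [Complex.re_sum, Complex.natCast_re] at this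
      rw [← this]
      exact Finset.sum_congr rfl fun g _ => by rw [Complex.mul_conj, Complex.ofReal_re]
    haveI := Fintype.ofFinite (G ⧸ N)
    let Φ : (G ⧸ N) × G → G := fun p => p.1.out * p.2 * p.1.out⁻¹
    let P := (Finset.univ : Finset (G ⧸ N)) ×ˢ D
    have hΦinj : Set.InjOn Φ P := by
      rintro ⟨q, u⟩ hu ⟨q', u'⟩ hu' e
      simp only [P, Finset.coe_product, Set.mem_prod, Finset.coe_univ, Set.mem_univ, true_and,
        Finset.mem_coe, D, U, Finset.mem_filter, Finset.mem_univ] at hu hu'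
      obtain ⟨⟨-, h, hh, hh1, huh⟩, huZ⟩ := hu
      obtain ⟨⟨-, h', hh', hh1', huh'⟩, -⟩ := hu'
      simp only [Φ] at e
      set a := q.out
      set b := q'.out
      have hxZ : a * u * a⁻¹ ∉ Subgroup.center G := fun hx => huZ (by
        have := (Subgroup.Normal.conj_mem inferInstance _ hx a⁻¹ : _ ∈ Subgroup.center G)
        simpa [mul_assoc] using this)
      have hmem : ∀ (s : G) (x v : G), v ∈ H → v ≠ 1 → x * v = v * x →
          Subgroup.centralizer ({s * x * s⁻¹} : Set G) ⊓ H.map (MulAut.conj s).toMonoidHom ≠ ⊥ := by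
        intro s x v hv hv1 hxv hbot
        have : s * v * s⁻¹ ∈ Subgroup.centralizer ({s * x * s⁻¹} : Set G) ⊓ H.map (MulAut.conj s).toMonoidHom :=
          ⟨Subgroup.mem_centralizer_singleton_iff.mpr (by
            calc s * v * s⁻¹ * (s * x * s⁻¹) = s * (v * x) * s⁻¹ := by group
              _ = s * (x * v) * s⁻¹ := by rw [hxv]
              _ = _ := by group), ⟨v, hv, rfl⟩⟩
        rw [hbot, Subgroup.mem_bot] at this
        exact hv1 (conj_eq_one_iff.mp this)
      have heq := hone (a * u * a⁻¹) hxZ a b (hmem a u h hh hh1 huh) (e ▸ hmem b u' h' hh' hh1' huh')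
      have hba : b⁻¹ * a ∈ N := by
        refine Subgroup.mem_normalizer_iff.mpr fun x => ?_
        have := congrArg (fun S : Subgroup G => a * x * a⁻¹ ∈ S) heq
        simp only [eq_iff_iff] at this
        refine ⟨fun hx => ?_, fun hx => ?_⟩
        · obtain ⟨y, hy, hye⟩ := this.mp ⟨x, hx, rfl⟩
          simp only [MulEquiv.coe_toMonoidHom, MulAut.conj_apply] at hye
          rw [show b⁻¹ * a * x * (b⁻¹ * a)⁻¹ = b⁻¹ * (a * x * a⁻¹) * b by group, ← hye]
          simpa [mul_assoc] using hy
        · obtain ⟨y, hy, hye⟩ := this.mpr ⟨_, hx, by simp only [MulEquiv.coe_toMonoidHom, MulAut.conj_apply]; group⟩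
          simp only [MulEquiv.coe_toMonoidHom, MulAut.conj_apply, mul_left_inj, mul_right_inj] at hye
          exact hye ▸ hy
      have hq : q = q' := by
        rw [← QuotientGroup.out_eq' q, ← QuotientGroup.out_eq' q', QuotientGroup.eq]
        simpa using N.inv_mem hba
      subst hq
      exact Prod.ext rfl (mul_left_cancel (mul_right_cancel e))
    have hdisj : Disjoint (P.image Φ) (Finset.univ.filter fun g => g ∈ Z) := by
      rw [Finset.disjoint_left]
      rintro g hg hgZ
      obtain ⟨⟨q, u⟩, hu, rfl⟩ := Finset.mem_image.mp hg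
      refine (Finset.mem_filter.mp (Finset.mem_product.mp hu).2).2 ?_
      have := (Subgroup.Normal.conj_mem inferInstance _ (Finset.mem_filter.mp hgZ).2 q.out⁻¹ : _ ∈ Subgroup.center G)
      simpa [Φ, mul_assoc] using this
    rw [← hG]
    refine le_trans ?_ (Finset.sum_le_sum_of_subset_of_nonneg (Finset.subset_univ
      (P.image Φ ∪ Finset.univ.filter fun g => g ∈ Z)) fun g _ _ => Complex.normSq_nonneg _)
    rw [Finset.sum_union hdisj, Finset.sum_image hΦinj, Finset.sum_product]
    refine add_le_add (le_of_eq ?_) (le_of_eq ?_)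
    · rw [Finset.sum_congr rfl fun q _ => Finset.sum_congr rfl fun u _ => by
        rw [show χ (Φ (q, u)) = χ u from hcl u q.out], Finset.sum_const, Finset.card_univ, nsmul_eq_mul,
        Subgroup.index_eq_card, Nat.card_eq_fintype_card]
    · rw [← hZsum]
      refine Finset.sum_congr ?_ fun _ _ => rfl
      ext g
      simp only [U, Finset.mem_filter, Finset.mem_univ, true_and, and_iff_right_iff_imp]
      intro hg
      refine ⟨Subgroup.mem_normalizer_iff.mpr fun x => ?_, k, hk, hk1, (Subgroup.mem_center_iff.mp hg k).symm⟩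
      rw [← Subgroup.mem_center_iff.mp hg x, mul_inv_cancel_right]
  rw [hd, hcz, Complex.natCast_re, Complex.intCast_re]
  have hidx : (Nat.card G : ℝ) = (N.index : ℝ) * Nat.card N := by exact_mod_cast N.index_mul_card.symm
  have hm : (0 : ℝ) < N.index := by exact_mod_cast Nat.pos_of_ne_zero Subgroup.index_ne_zero_of_finite
  have hZpos : (0 : ℝ) < Nat.card Z := by exact_mod_cast Nat.card_pos
  have hdpos : (0 : ℝ) < (d : ℝ) ^ 2 := by positivity
  by_contra hcon
  have h1 : (d : ℝ) ^ 2 * Nat.card Z ≤ (Nat.card H : ℝ) * Nat.card Z * (cz : ℝ) ^ 2 := by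
    rw [mul_right_comm]
    exact mul_le_mul_of_nonneg_right (not_lt.mp hcon) hZpos.le
  have h2 := mul_le_mul_of_nonneg_left hUN hm.le
  rw [hD] at h2
  nlinarith [mul_pos hZpos hdpos, mul_le_mul_of_nonneg_left h1 hm.le]

/-- Let H be an abelian subgroup of the finite group G meeting the centre of G trivially, such that for every non-central g the centralizer of g has nontrivial intersection with at most one conjugate of H. Let χ be an irreducible character of G with χ h ≠ χ 1 for some h in H, and let c be the inner product of the restriction of χ to H with the principal character. Then χ(1)² > (order of H)·c²; and if in addition χ 1 ≠ 1 and no proper normal subgroup of G contains H, then (1 + χ 1)² > order of H (both sides read as real numbers). -/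
theorem result {G : Type*} [Group G] [Fintype G] (H : Subgroup G) [Fintype H] (hab : ∀ a ∈ H, ∀ b ∈ H, a * b = b * a) (hZ : H ⊓ Subgroup.center G = ⊥) (hone : ∀ g : G, g ∉ Subgroup.center G → ∀ a b : G, Subgroup.centralizer ({g} : Set G) ⊓ H.map (MulAut.conj a).toMonoidHom ≠ ⊥ → Subgroup.centralizer ({g} : Set G) ⊓ H.map (MulAut.conj b).toMonoidHom ≠ ⊥ → H.map (MulAut.conj a).toMonoidHom = H.map (MulAut.conj b).toMonoidHom) (χ : G → ℂ) (hχ : Cfsg.IsIrrCharacter G χ) (hker : ∃ h ∈ H, χ h ≠ χ 1) : (χ 1).re ^ 2 > (Nat.card H : ℝ) * (Cfsg.classInner (fun h : H => χ h) (fun _ => 1)).re ^ 2 ∧ (χ 1 ≠ 1 → (∀ M : Subgroup G, M.Normal → H ≤ M → M = ⊤) → (1 + (χ 1).re) ^ 2 > (Nat.card H : ℝ)) := by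
  classical
  refine ⟨first H hab hZ hone χ hχ hker, fun hd1 hclos => ?_⟩
  obtain ⟨d, hd0, hd⟩ := IsIrrCharacter.degree_pos hχ
  haveI := Fintype.ofFinite (Cfsg.IrrCharacter G)
  haveI := Fintype.ofFinite (Cfsg.IrrCharacter H)
  set s := Real.sqrt (Nat.card H : ℝ) with hs
  let one' : Cfsg.IrrCharacter G := ⟨1, isIrrCharacter_one⟩
  let F : G → ℂ := fun g => χ g * conj (χ g)
  have hF : IsCharacter G F :=
    isCharacter_mul (IsIrrCharacter.isCharacter hχ) (isCharacter_conj (IsIrrCharacter.isCharacter hχ))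
  -- constituents other than the principal one
  have hbound : ∀ ξ : Cfsg.IrrCharacter G, ξ ≠ one' →
      (Cfsg.classInner (fun h : H => (ξ : G → ℂ) h) (fun _ => 1)).re * s < ((ξ : G → ℂ) 1).re := by
    intro ξ hξ
    obtain ⟨dξ, hdξ0, hdξ⟩ := IsIrrCharacter.degree_pos ξ.2
    have hkξ : ∃ h ∈ H, (ξ : G → ℂ) h ≠ (ξ : G → ℂ) 1 := by
      by_contra hh
      push Not at hh
      obtain ⟨n, ρ, hρ, hρe⟩ := ξ.2
      haveI := hρ
      have hM : ρ.ker = ⊤ := hclos ρ.ker inferInstance fun h hh' => by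
        have := hh h hh'
        rw [← hρe, ρ.char_one, character_eq_finrank_iff] at this
        exact MonoidHom.mem_ker.mpr this
      refine hξ (Subtype.ext ?_)
      have hconst : (ξ : G → ℂ) = fun _ => (ξ : G → ℂ) 1 := by
        funext g
        have := MonoidHom.mem_ker.mp (hM.ge (Subgroup.mem_top g))
        rw [← hρe]
        simp [Representation.character, this]
      by_contra hne
      have h0 := IsIrrCharacter.classInner_eq_zero ξ.2 isIrrCharacter_one hne
      rw [hconst, Cfsg.classInner] at h0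
      simp only [Pi.one_apply, map_one, mul_one, Finset.sum_const, Finset.card_univ, nsmul_eq_mul,
        ← Nat.card_eq_fintype_card, ← mul_assoc, inv_mul_cancel₀ (show (Nat.card G : ℂ) ≠ 0 from Nat.cast_ne_zero.mpr Nat.card_pos.ne'),
        one_mul] at h0
      exact IsIrrCharacter.apply_one_ne_zero ξ.2 h0
    have h := first H hab hZ hone _ ξ.2 hkξ
    have hs2 : s ^ 2 = (Nat.card H : ℝ) := Real.sq_sqrt (Nat.cast_nonneg _)
    rw [hdξ, Complex.natCast_re] at h ⊢
    by_contra hcon
    have := pow_le_pow_left₀ (Nat.cast_nonneg dξ) (not_lt.mp hcon) 2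
    rw [mul_pow, hs2] at this
    linarith
  have hn : ∀ ξ : Cfsg.IrrCharacter G, ∃ m : ℕ, Cfsg.classInner F (ξ : G → ℂ) = (m : ℂ) := by
    intro ξ
    obtain ⟨m, hm⟩ := classInner_int_of_isGeneralized
      (isGeneralizedCharacter_mul (IsIrrCharacter.isGeneralized hχ)
        (isGeneralizedCharacter_conj (IsIrrCharacter.isGeneralized hχ))) (IsIrrCharacter.isGeneralized ξ.2)
    change Cfsg.classInner F (ξ : G → ℂ) = _ at hm
    have h0 := classInner_re_nonneg hF (IsIrrCharacter.isCharacter ξ.2)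
    rw [hm, Complex.intCast_re] at h0
    refine ⟨m.toNat, ?_⟩
    rw [hm, ← Int.cast_natCast, Int.toNat_of_nonneg (by exact_mod_cast h0)]
  choose m hm using hn
  have hm1 : m one' = 1 := by
    have h := hm one'
    have e : Cfsg.classInner F (one' : G → ℂ) = Cfsg.classInner χ χ := by
      simp [Cfsg.classInner, F, one']
    rw [e, IsIrrCharacter.classInner_self hχ] at h
    exact_mod_cast h.symm
  have hexp := IsClassFunction.eq_sum (IsCharacter.isClassFunction hF)
  have e1 : (d : ℝ) ^ 2 = ∑ ξ : Cfsg.IrrCharacter G, (m ξ : ℝ) * ((ξ : G → ℂ) 1).re := by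
    have h := congrArg Complex.re (congrFun hexp 1)
    simp only [F, hd, Complex.conj_natCast, Finset.sum_apply, Pi.smul_apply, smul_eq_mul, hm, Complex.re_sum,
      Complex.mul_re, Complex.natCast_re, Complex.natCast_im, mul_zero, zero_mul, sub_zero] at h
    rw [sq, h]
  have e2 : (Cfsg.classInner (fun h : H => χ h) (fun h : H => χ h)).re =
      ∑ ξ : Cfsg.IrrCharacter G, (m ξ : ℝ) * (Cfsg.classInner (fun h : H => (ξ : G → ℂ) h) (fun _ => 1)).re := by
    have h : (fun h : H => F h) = ∑ ξ : Cfsg.IrrCharacter G, Cfsg.classInner F (ξ : G → ℂ) • (fun h : H => (ξ : G → ℂ) h) := by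
      funext h
      rw [congrFun hexp h]
      simp
    have h2 := congrArg (fun f => Cfsg.classInner f (fun _ : H => (1 : ℂ))) h
    simp only [classInner_sum_left, classInner_smul_left, hm] at h2
    have h3 : Cfsg.classInner (fun h : H => F h) (fun _ : H => (1 : ℂ)) =
        Cfsg.classInner (fun h : H => χ h) (fun h : H => χ h) := by
      simp [Cfsg.classInner, F]
    rw [h3] at h2
    rw [h2, Complex.re_sum]
    exact Finset.sum_congr rfl fun ξ _ => by simp
  have e3 : (d : ℝ) ≤ (Cfsg.classInner (fun h : H => χ h) (fun h : H => χ h)).re := by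
    have hres : IsCharacter H (fun h : H => χ h) := IsCharacter.restrict (IsIrrCharacter.isCharacter hχ) H
    choose z hz using fun lam : Cfsg.IrrCharacter H => classInner_int_of_isGeneralized
      (IsGeneralizedCharacter.restrict (IsIrrCharacter.isGeneralized hχ) H) (IsIrrCharacter.isGeneralized lam.2)
    have hz' : ∀ lam : Cfsg.IrrCharacter H, Cfsg.classInner (fun h : H => χ h) (lam : H → ℂ) = z lam := hz
    have hsq := IsGeneralizedCharacter.classInner_self_eq_sum_sq
      (IsGeneralizedCharacter.restrict (IsIrrCharacter.isGeneralized hχ) H) z hz'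
    change Cfsg.classInner (fun h : H => χ h) (fun h : H => χ h) = _ at hsq
    have h1 := congrFun (IsClassFunction.eq_sum (IsCharacter.isClassFunction hres)) 1
    simp only [Finset.sum_apply, Pi.smul_apply, smul_eq_mul, hz', OneMemClass.coe_one, hd] at h1
    rw [Finset.sum_congr rfl fun (lam : Cfsg.IrrCharacter H) _ => by
      rw [IsIrrCharacter.degree_one_of_comm lam.2 fun a b => Subtype.ext (hab a a.2 b b.2), mul_one]] at h1
    have h2 : (d : ℤ) = ∑ lam, z lam := by exact_mod_cast h1
    rw [hsq, Complex.intCast_re, ← Int.cast_natCast, h2]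
    exact_mod_cast Finset.sum_le_sum fun lam _ => Int.le_self_sq (z lam)
  have hs0 : 0 ≤ s := Real.sqrt_nonneg _
  have hd2 : (2 : ℝ) ≤ d := by
    have : d ≠ 1 := fun h => hd1 (by rw [hd, h, Nat.cast_one])
    exact_mod_cast (show 2 ≤ d by omega)
  have hone1 : (Cfsg.classInner (fun h : H => (one' : G → ℂ) h) (fun _ => 1)).re = 1 := by
    have : (fun h : H => (one' : G → ℂ) h) = fun _ : H => (1 : ℂ) := rfl
    rw [this, show Cfsg.classInner (fun _ : H => (1 : ℂ)) (fun _ => 1) = 1 from
      IsIrrCharacter.classInner_self isIrrCharacter_one, Complex.one_re]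
  have hkey : ((d : ℝ) - 1) * s < (d : ℝ) ^ 2 - 1 := by
    have hsplit1 := Finset.add_sum_erase Finset.univ (fun ξ => (m ξ : ℝ) * ((ξ : G → ℂ) 1).re)
      (Finset.mem_univ one')
    have hsplit2 := Finset.add_sum_erase Finset.univ
      (fun ξ => (m ξ : ℝ) * (Cfsg.classInner (fun h : H => (ξ : G → ℂ) h) (fun _ => 1)).re) (Finset.mem_univ one')
    have hone0 : ((one' : G → ℂ) 1).re = 1 := by simp [one']
    simp only [hm1, Nat.cast_one, one_mul, hone1, hone0] at hsplit1 hsplit2
    rw [← e1] at hsplit1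
    rw [← e2] at hsplit2
    have hlt : (∑ ξ ∈ Finset.univ.erase one', (m ξ : ℝ) *
        (Cfsg.classInner (fun h : H => (ξ : G → ℂ) h) (fun _ => 1)).re) * s <
        ∑ ξ ∈ Finset.univ.erase one', (m ξ : ℝ) * ((ξ : G → ℂ) 1).re := by
      rw [Finset.sum_mul]
      refine Finset.sum_lt_sum (fun ξ hξ => ?_) ?_
      · rw [mul_assoc]
        exact mul_le_mul_of_nonneg_left (hbound ξ (Finset.ne_of_mem_erase hξ)).le (Nat.cast_nonneg _)
      · by_contra hh
        push Not at hh
        have hz0 : ∀ ξ ∈ Finset.univ.erase one', (m ξ : ℝ) * ((ξ : G → ℂ) 1).re = 0 := by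
          intro ξ hξ
          rcases Nat.eq_zero_or_pos (m ξ) with h0 | h0
          · rw [h0]; simp
          · exfalso
            have := mul_lt_mul_of_pos_left (hbound ξ (Finset.ne_of_mem_erase hξ))
              (show (0 : ℝ) < m ξ by exact_mod_cast h0)
            linarith [hh ξ hξ]
        rw [Finset.sum_eq_zero hz0] at hsplit1
        nlinarith
    have := mul_le_mul_of_nonneg_right e3 hs0
    nlinarith
  have hlt : s < 1 + d := by nlinarith
  rw [hd, Complex.natCast_re, gt_iff_lt, ← Real.sq_sqrt (Nat.cast_nonneg (Nat.card H))]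
  exact pow_lt_pow_left₀ hlt hs0 two_ne_zero

end Cfsg.Agent.S0898
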