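import Cfsg.Statements.S0319
import Cfsg.Agent.Lib.BN.Basic

set_option autoImplicit false
open Cfsg

namespace Cfsg.Agent.S0319

/-- Simplicity criterion for groups with a (B,N)-pair: if the distinguished generators admit no
splitting into two non-empty mutually commuting parts, `B` is solvable, `G` is perfect and the intersection
of all conjugates of `B` is trivial, then `G` is simple. -/
theorem result {G : Type*} [Group G] [Nontrivial G]
    (P : Cfsg.BNPair G) (hirr : P.Irreducible) (hsolv : Group.IsSolvable P.B) (hperf : commutator G = ⊤)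
    (hcore : P.B.normalCore = ⊥) : IsSimpleGroup G := by
  obtain ⟨a⟩ := (inferInstance : Nonempty G)
  refine { eq_bot_or_eq_top_of_normal := fun Z hZ => ?_ }
  set J := BN.gensIn P (P.B ⊔ Z) with hJdef
  have hJ : J ⊆ P.S := fun s hs => hs.1
  have hpar : P.B ⊔ Z = P.parabolic J := BN.eq_parabolic le_sup_left
  by_cases hJ0 : J = ∅
  · left
    rw [hJ0, BN.parabolic_empty] at hpar
    have hle : Z ≤ P.B := by rw [← hpar]; exact le_sup_right
    rw [eq_bot_iff, ← hcore]
    exact Subgroup.normal_le_normalCore.mpr hle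
  · right
    have hJS : J = P.S := by
      by_contra hne
      have hout : (P.S \ J).Nonempty :=
        Set.nonempty_of_not_subset fun h => hne (Set.Subset.antisymm hJ h)
      obtain ⟨r, hr, s, hs, hrs⟩ := hirr J hJ (Set.nonempty_iff_ne_empty.mpr hJ0) hout
      refine hrs ?_
      -- find an element of `Z` in the double coset of `r`
      have hrZ : r ∈ P.B ⊔ Z := hr.2
      rw [← SetLike.mem_coe, Subgroup.mul_normal] at hrZ
      obtain ⟨b, hb, z, hz, e⟩ := hrZ
      have hzr : BN.InDC P z r :=
        BN.inDC_iff.mpr ⟨b⁻¹, inv_mem hb, 1, one_mem _, by simp [← e]⟩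
      have hrN := P.subset hr.1
      have hwr : r ∈ BN.wSub P hJ := BN.le_wSub hJ hr
      have hszs : s * z * s⁻¹ ∈ P.parabolic J := by
        rw [← hpar]; exact Subgroup.mem_sup_right (hZ.conj_mem z hz s)
      have hsJ := hs.2
      have hup : BN.InDC P (s * z) (s * r) := by
        obtain ⟨c, hc, d, hd, rfl⟩ := BN.inDC_iff.mp hzr
        have hle : BN.len P r ≤ BN.len P (s * r) := by
          by_contra hlt
          push Not at hlt
          refine hsJ (BN.mem_of_mem_parabolic hJ hs.1 (BN.mem_of_down hs.1 hrN hlt le_sup_left ?_))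
          intro x hx
          have hrP : r ∈ P.parabolic J := Subgroup.mem_sup_right (Subgroup.subset_closure hr)
          exact mul_mem (mul_mem hrP (Subgroup.mem_sup_left hx)) (inv_mem hrP)
        rw [show s * (c * r * d) = s * c * r * d by simp [mul_assoc]]
        exact BN.inDC_mul_right hd (BN.mul_up _ s r hs.1 hrN rfl hle c hc)
      have hzs : BN.InDC P (s * z * s⁻¹) (s * r * s) ∨ BN.InDC P (s * z * s⁻¹) (s * r) := by
        rw [show s * z * s⁻¹ = s * z * s * (s * s)⁻¹ by simp [mul_assoc]]
        exact (BN.mul_cases_right hs.1 (mul_mem (P.subset hs.1) hrN) hup).imp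
          (BN.inDC_mul_right (inv_mem (P.sq_mem s hs.1))) (BN.inDC_mul_right (inv_mem (P.sq_mem s hs.1)))
      rw [← BN.pSub_eq hJ] at hszs
      obtain ⟨m, hm, hm'⟩ := hszs
      rcases hzs with h | h
      · have hw : s * r * s ∈ BN.wSub P hJ := BN.mem_wSub_of_mem_pSub
          (mul_mem (mul_mem (P.subset hs.1) hrN) (P.subset hs.1))
          ⟨m, hm, BN.inDC_trans (BN.inDC_symm h) hm'⟩
        have hc := BN.comm_of_normalizes hJ hs.1 hr hsJ hw
        -- now the commutator
        have h1 : BN.Eqv P (r * s * r⁻¹ * s⁻¹) 1 := by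
          have hsN := P.subset hs.1
          have h2 : BN.Eqv P (s * (s * r * s)) (s * r) := BN.eqv_mul_left s hc
          have h3 : BN.Eqv P (r * s) (s * r) := BN.eqv_trans (BN.eqv_symm (by
            simpa [mul_assoc] using BN.eqv_sq hs.1 (mul_mem hrN hsN))) h2
          have h4 := BN.eqv_mul_right (inv_mem (mul_mem hsN hrN)) h3
          simpa [mul_assoc] using h4
        simpa [BN.Eqv] using inv_mem (Subgroup.mem_inf.mp h1).1
      · exfalso
        have hw : s * r ∈ BN.wSub P hJ := BN.mem_wSub_of_mem_pSub (mul_mem (P.subset hs.1) hrN)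
          ⟨m, hm, BN.inDC_trans (BN.inDC_symm h) hm'⟩
        have : s ∈ BN.wSub P hJ := by simpa using mul_mem hw (inv_mem hwr)
        refine hsJ (BN.mem_of_mem_parabolic hJ hs.1 ?_)
        rw [← BN.pSub_eq hJ]
        exact ⟨s, this, BN.inDC_self s⟩
    rw [hJS, BN.parabolic_top] at hpar
    have hsurj : Function.Surjective ((QuotientGroup.mk' Z).comp P.B.subtype) := by
      intro q
      obtain ⟨g, rfl⟩ := QuotientGroup.mk'_surjective Z q
      have hg : g ∈ P.B ⊔ Z := hpar ▸ Subgroup.mem_top g
      rw [← SetLike.mem_coe, Subgroup.mul_normal] at hg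
      obtain ⟨b, hb, z, hz, rfl⟩ := hg
      refine ⟨⟨b, hb⟩, ?_⟩
      simp [QuotientGroup.eq, SetLike.mem_coe.mp hz]
    haveI := hsolv
    haveI : Group.IsSolvable (G ⧸ Z) := Group.isSolvable_of_surjective hsurj
    haveI : Subsingleton (G ⧸ Z) := by
      by_contra hns
      haveI : Nontrivial (G ⧸ Z) := not_subsingleton_iff_nontrivial.mp hns
      have h1 := Group.IsSolvable.commutator_lt_top_of_nontrivial (G ⧸ Z)
      rw [commutator_def, ← Subgroup.map_top_of_surjective _ (QuotientGroup.mk'_surjective Z),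
        ← Subgroup.map_commutator, ← commutator_def, hperf] at h1
      exact lt_irrefl _ h1
    exact QuotientGroup.subsingleton_iff.mp ‹_›

end Cfsg.Agent.S0319
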