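import Cfsg.Statements.S2397
import Cfsg.Agent.Lib.Chev.StFin

set_option autoImplicit false
open Cfsg

namespace Cfsg.Agent.S2397

/-- Over a finite field the relators (R3) h̄_r(t₁) h̄_r(t₂) = h̄_r(t₁ t₂) are consequences of (R1) and (R2): for each of the types G₂, B₂, D₄, F₄, E₆, E₇, E₈ (for types B₂ and G₂ the field must have more than two elements — the cases where the Chevalley group is not simple are set aside) the group presented by (R1), (R2) is canonically isomorphic to the one presented by (R1)–(R3), by an isomorphism matching the generators x̄_r(t). -/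
theorem result {K : Type*} [Field K] [Finite K] (D : Cfsg.Lie.ChevalleyDatum) (hD : D ∈ [Cfsg.Lie.chevG2, Cfsg.Lie.chevB2, Cfsg.Lie.chevD4, Cfsg.Lie.chevF4, Cfsg.Lie.chevE6, Cfsg.Lie.chevE7, Cfsg.Lie.chevE8]) (hK : D ∈ [Cfsg.Lie.chevB2, Cfsg.Lie.chevG2] → ∃ x : K, x ≠ 0 ∧ x ≠ 1) :
    ∃ e : D.SteinbergCover K ≃* D.SteinbergGroup K, ∀ (r : ℕ) (t : K), e (D.scGen K r t) = D.stGen K r t := by
  obtain ⟨T, ok, ⟨hdn, hwit⟩, -⟩ := Cfsg.Agent.Chev.exists_stcow hD
  have st := ok.presented_hyp (R := D.steinbergRelsAB K) (Set.Subset.refl _) hdn hwit ok.scHom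
    fun r hr t => ok.scHom_gen hr t
  let f : Fin D.nroots × K → D.SteinbergCover K := fun p => PresentedGroup.of p
  have hf : FreeGroup.lift f = PresentedGroup.mk (D.steinbergRelsAB K) := FreeGroup.ext_hom _ _ fun p => by
    rw [FreeGroup.lift_apply_of]; rfl
  have hrel : ∀ g ∈ D.steinbergRels K, FreeGroup.lift f g = 1 := by
    intro g hg
    rw [hf]
    rcases hg with h | ⟨r, a, b, hr, ha, hb, rfl⟩
    · exact PresentedGroup.one_of_mem h
    · rw [map_mul, map_mul, map_inv, mul_inv_eq_one]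
      have h := st.hY_mul r hr a b ha hb
      simpa [Cfsg.Agent.Chev.StHyp.hY, Cfsg.Agent.Chev.StHyp.nY, Cfsg.Lie.ChevalleyDatum.stH,
        Cfsg.Lie.ChevalleyDatum.stWord, Cfsg.Lie.ChevalleyDatum.hWord, Cfsg.Lie.ChevalleyDatum.nWord,
        ok.toOK.neg_eq hr, mul_assoc] using h
  have hsub : ∀ g ∈ D.steinbergRelsAB K,
      FreeGroup.lift (fun p : Fin D.nroots × K => (PresentedGroup.of p : D.SteinbergGroup K)) g = 1 := by
    intro g hg
    have : FreeGroup.lift (fun p : Fin D.nroots × K => (PresentedGroup.of p : D.SteinbergGroup K)) =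
        PresentedGroup.mk (D.steinbergRels K) := FreeGroup.ext_hom _ _ fun p => by rw [FreeGroup.lift_apply_of]; rfl
    rw [this]
    exact PresentedGroup.one_of_mem (Or.inl hg)
  refine ⟨MonoidHom.toMulEquiv (PresentedGroup.toGroup hsub) (PresentedGroup.toGroup hrel)
    (PresentedGroup.ext fun p => ?_) (PresentedGroup.ext fun p => ?_), fun r t => ?_⟩
  · simp [f]
  · simp [f]
  · show PresentedGroup.toGroup hsub (D.scGen K r t) = D.stGen K r t
    unfold Cfsg.Lie.ChevalleyDatum.scGen Cfsg.Lie.ChevalleyDatum.stGen Cfsg.Lie.ChevalleyDatum.stX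
    split_ifs with h
    · exact PresentedGroup.toGroup.of hsub
    · simp

end Cfsg.Agent.S2397
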