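import Cfsg.Statements.S0753
import Cfsg.Agent.Lib.Classical.Quad

set_option autoImplicit false
open Cfsg

open Cfsg.Agent.Classical

namespace Cfsg.Agent.S0753

/-- If σ is a ring endomorphism of the field F other than the identity and B is a σ-sesquilinear conjugate-symmetric form with B v v = 0 for every v, then B = 0. -/
theorem result {F V : Type*} [Field F] [AddCommGroup V] [Module F V] (σ : F →+* F) (hσ : σ ≠ RingHom.id F) (B : V →ₛₗ[σ] V →ₗ[F] F) (hS : B.IsSymm) (h0 : ∀ v : V, B v v = 0) : B = 0 := by
  classical
  refine LinearMap.ext fun v => LinearMap.ext fun w => ?_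
  show B v w = 0
  by_contra hne
  have hadd : ∀ a b : V, B a b + B b a = 0 := fun a b => by
    have := h0 (a + b)
    simpa [map_add, LinearMap.add_apply, h0 a, h0 b, add_comm] using this
  have key : ∀ a : F, a + σ a = 0 := fun a => by
    have h := hadd v ((a * (B v w)⁻¹) • w)
    rw [← hS.eq v ((a * (B v w)⁻¹) • w)] at h
    simpa [map_smul, hne] using h
  have h2 : (1 : F) + 1 = 0 := by simpa using key 1
  apply hσ
  refine RingHom.ext fun a => ?_
  have := key a
  show σ a = a
  linear_combination this - a * h2

end Cfsg.Agent.S0753
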