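import Cfsg.Statements.S1012
import Cfsg.Agent.Lib.Classical.SimpleOrder

set_option autoImplicit false
open Cfsg

open Cfsg.Agent.Classical

namespace Cfsg.Agent.S1012

/-- A group of order 24 containing no element of order 6 is isomorphic to the symmetric group of degree 4. -/
theorem result {G : Type*} [Group G] [Finite G] (h : Nat.card G = 24) (h6 : ∀ g : G, orderOf g ≠ 6) : Nonempty (G ≃* Equiv.Perm (Fin 4)) := by
  classical
  haveI : Fact (Nat.Prime 3) := ⟨Nat.prime_three⟩
  have hP3 : ∀ P : Sylow 3 G, Nat.card P = 3 := fun P => by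
    simpa using SimpleOrder.card_sylow_eq P (k := 1) (m := 8) (by rw [h]; norm_num) (by norm_num)
  have hcent : ∀ P : Sylow 3 G, ∀ z : G, orderOf z = 2 →
      z ∉ Subgroup.centralizer ((P : Subgroup G) : Set G) := by
    intro P z hz hzc
    obtain ⟨⟨x, hxP⟩, hx⟩ := exists_prime_orderOf_dvd_card' (G := (P : Subgroup G)) 3 (by rw [hP3 P])
    rw [Subgroup.orderOf_mk] at hx
    have hcomm : Commute x z := Subgroup.mem_centralizer_iff.1 hzc x hxP
    apply h6 (x * z)
    rw [hcomm.orderOf_mul_eq_mul_orderOf_of_coprime (by rw [hx, hz]; norm_num), hx, hz]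
  obtain ⟨P⟩ : Nonempty (Sylow 3 G) := inferInstance
  have hn : Nat.card (Sylow 3 G) = 4 := by
    have hd := P.card_dvd_index
    have hidx : (P : Subgroup G).index = 8 := by
      have h1 := Subgroup.card_mul_index (P : Subgroup G)
      rw [hP3 P, h] at h1
      omega
    rw [hidx] at hd
    have hmod := card_sylow_modEq_one 3 G
    have hle := Nat.le_of_dvd (by norm_num) hd
    unfold Nat.ModEq at hmod
    interval_cases hc : Nat.card (Sylow 3 G) <;> simp_all
    -- a normal Sylow 3-subgroup is centralised by an involution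
    exfalso
    rw [P.card_eq_index_normalizer, Subgroup.index_eq_one] at hc
    haveI : (P : Subgroup G).Normal := Subgroup.normalizer_eq_top_iff.1 hc
    have hdvd : Subgroup.index (Subgroup.centralizer ((P : Subgroup G) : Set G)) ∣ 2 := by
      have hk := Subgroup.normalizerMonoidHom_ker (P : Subgroup G)
      have hi : Subgroup.index (Subgroup.normalizerMonoidHom (P : Subgroup G)).ker ∣
          Nat.card (MulAut (P : Subgroup G)) := by
        rw [Subgroup.index_ker]; exact Subgroup.card_subgroup_dvd_card _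
      haveI : IsCyclic (P : Subgroup G) := isCyclic_of_prime_card (hP3 P)
      rw [hk, IsCyclic.card_mulAut, hP3 P, Nat.totient_prime Nat.prime_three] at hi
      rw [← Subgroup.relIndex_top_right, ← hc]
      exact hi
    have h12 : 2 ∣ Nat.card (Subgroup.centralizer ((P : Subgroup G) : Set G)) := by
      have h1 := Subgroup.index_mul_card (Subgroup.centralizer ((P : Subgroup G) : Set G))
      rw [h] at h1
      rcases (Nat.dvd_prime Nat.prime_two).1 hdvd with hh | hh <;> rw [hh] at h1
      · exact ⟨12, by omega⟩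
      · exact ⟨6, by omega⟩
    haveI : Fact (Nat.Prime 2) := ⟨Nat.prime_two⟩
    obtain ⟨⟨z, hz⟩, hz2⟩ := exists_prime_orderOf_dvd_card' 2 h12
    rw [Subgroup.orderOf_mk] at hz2
    exact hcent P z hz2 hz
  haveI : Fintype (Sylow 3 G) := Fintype.ofFinite _
  let e : Sylow 3 G ≃ Fin 4 := Fintype.equivFinOfCardEq (by rw [← Nat.card_eq_fintype_card, hn])
  let f : G →* Equiv.Perm (Fin 4) := e.permCongrHom.toMonoidHom.comp (MulAction.toPermHom G (Sylow 3 G))
  have hNcard : ∀ Q : Sylow 3 G,
      Nat.card (Subgroup.normalizer ((Q : Subgroup G) : Set G)) = 6 := fun Q => by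
    have := SimpleOrder.card_normalizer_mul Q
    rw [hn, h] at this
    omega
  have hker : (MulAction.toPermHom G (Sylow 3 G)).ker = ⊥ := by
    set K := (MulAction.toPermHom G (Sylow 3 G)).ker with hKdef
    have hKN : ∀ Q : Sylow 3 G, K ≤ Subgroup.normalizer ((Q : Subgroup G) : Set G) := by
      intro Q k hk
      exact Sylow.smul_eq_iff_mem_normalizer.1
        (congrFun (congrArg DFunLike.coe (MonoidHom.mem_ker.1 hk)) Q)
    have h3 : ¬ 3 ∣ Nat.card K := by
      intro hd
      obtain ⟨⟨k, hk⟩, hk3⟩ := exists_prime_orderOf_dvd_card' 3 hd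
      rw [Subgroup.orderOf_mk] at hk3
      have hall : ∀ Q : Sylow 3 G, k ∈ (Q : Subgroup G) := by
        intro Q
        have hp : IsPGroup 3 (Subgroup.zpowers k) :=
          IsPGroup.of_card (n := 1) (by rw [Nat.card_zpowers, hk3, pow_one])
        have hle := IsPGroup.inf_normalizer_sylow hp Q
        have hm : k ∈ Subgroup.zpowers k ⊓ Subgroup.normalizer ((Q : Subgroup G) : Set G) :=
          ⟨Subgroup.mem_zpowers k, hKN Q hk⟩
        exact (hle.le hm).2
      have hgen : ∀ Q : Sylow 3 G, (Q : Subgroup G) = Subgroup.zpowers k := fun Q =>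
        (Subgroup.eq_of_le_of_card_ge (Subgroup.zpowers_le.2 (hall Q))
          (by rw [Nat.card_zpowers, hk3, hP3 Q])).symm
      haveI : Subsingleton (Sylow 3 G) := ⟨fun A B => Sylow.ext ((hgen A).trans (hgen B).symm)⟩
      have := Nat.card_eq_one_iff_unique.2 ⟨this, ⟨P⟩⟩
      omega
    have hd6 : Nat.card K ∣ 6 := hNcard P ▸ Subgroup.card_dvd_of_le (hKN P)
    have hle := Nat.le_of_dvd (by norm_num) hd6
    have hpos : 0 < Nat.card K := Nat.card_pos
    rcases (show Nat.card K = 1 ∨ Nat.card K = 2 by
      interval_cases hc : Nat.card K <;> simp_all) with hc | hc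
    · exact Subgroup.eq_bot_of_card_eq _ hc
    · exfalso
      haveI : K.Normal := MonoidHom.normal_ker _
      haveI : Fact (Nat.Prime 2) := ⟨Nat.prime_two⟩
      obtain ⟨⟨z, hz⟩, hz2⟩ := exists_prime_orderOf_dvd_card' 2 (dvd_of_eq hc.symm)
      rw [Subgroup.orderOf_mk] at hz2
      apply hcent P z hz2
      rw [Subgroup.mem_centralizer_iff]
      intro x _
      have hKz : Subgroup.zpowers z = K :=
        Subgroup.eq_of_le_of_card_ge (Subgroup.zpowers_le.2 hz) (by rw [Nat.card_zpowers, hz2, hc])
      have hconj : x * z * x⁻¹ ∈ Subgroup.zpowers z :=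
        hKz ▸ (inferInstance : K.Normal).conj_mem z hz x
      obtain ⟨i, hi⟩ := Subgroup.mem_zpowers_iff.1 hconj
      rw [← zpow_mod_orderOf, hz2] at hi
      rcases Int.emod_two_eq_zero_or_one i with h0 | h0 <;>
        simp only [Nat.cast_ofNat, h0, zpow_zero, zpow_one] at hi
      · exfalso
        have : z = 1 := by
          have := congrArg (fun y => x⁻¹ * y * x) hi
          simpa [mul_assoc] using this.symm
        rw [this, orderOf_one] at hz2
        omega
      · calc x * z = x * z * x⁻¹ * x := by group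
          _ = z * x := by rw [← hi]
  have hf : Function.Injective f :=
    e.permCongrHom.injective.comp ((MonoidHom.ker_eq_bot_iff _).1 hker)
  refine ⟨MulEquiv.ofBijective f ((Nat.bijective_iff_injective_and_card f).2 ⟨hf, ?_⟩)⟩
  rw [h, Nat.card_perm, Nat.card_fin]
  decide

end Cfsg.Agent.S1012
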