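import Cfsg.Statements.S0287
import Cfsg.Agent.Lib.Classical.OrthOrder

set_option autoImplicit false
open Cfsg

open Cfsg.Agent.Classical
open Module QuadraticMap

namespace Cfsg.Agent.S0287

variable {F : Type*} [Field F] [Fintype F]

theorem zeros (k : ℕ) : Nat.card (QuadZeros.T (⇑(0 : QuadraticForm F (Fin 0 → F))) (k + 1)) - 1 =
    (Fintype.card F ^ (k + 1) - 1) * (Fintype.card F ^ k + 1) := by
  have h := QuadZeros.card_eq (⇑(0 : QuadraticForm F (Fin 0 → F))) (k + 1)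
  rw [show Nat.card (Fin 0 → F) = 1 from Nat.card_unique, show Nat.card {d : Fin 0 → F // (0 : QuadraticForm F (Fin 0 → F)) d = 0} = 1 by
    rw [Nat.card_eq_one_iff_unique]; exact ⟨inferInstance, ⟨⟨0, rfl⟩⟩⟩] at h
  set T := Nat.card (QuadZeros.T (⇑(0 : QuadraticForm F (Fin 0 → F))) (k + 1))
  set q := Fintype.card F with hq
  have hq0 : 0 < q := Fintype.card_pos
  have h1 : 1 ≤ q ^ (k + 1) := Nat.one_le_pow _ _ hq0
  have key : T = (q ^ (k + 1) - 1) * (q ^ k + 1) + 1 := by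
    refine Nat.eq_of_mul_eq_mul_left hq0 ?_
    zify [h1]
    rw [show 2 * (k + 1) = k + k + 2 by omega] at h
    push_cast at h
    linear_combination h
  omega

theorem order : ∀ k : ℕ, Nat.card (OrthOrder.Iso (OrthOrder.Qk (0 : QuadraticForm F (Fin 0 → F)) (k + 1))) =
    2 * Fintype.card F ^ ((k + 1) * k) * (Fintype.card F ^ (k + 1) - 1) *
      ∏ i ∈ Finset.range k, (Fintype.card F ^ (2 * (i + 1)) - 1) := by
  have hG : (polarBilin (0 : QuadraticForm F (Fin 0 → F))).Nondegenerate :=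
    ⟨fun x _ => Subsingleton.elim _ _, fun x _ => Subsingleton.elim _ _⟩
  have h0 : Nat.card (OrthOrder.Iso (OrthOrder.Qk (0 : QuadraticForm F (Fin 0 → F)) 0)) = 1 := by
    rw [OrthOrder.card_zero, Nat.card_eq_one_iff_unique]
    exact ⟨⟨fun a b => Subtype.ext (LinearEquiv.ext fun v => Subsingleton.elim _ _)⟩, ⟨⟨LinearEquiv.refl F _, fun v => rfl⟩⟩⟩
  intro k
  induction k with
  | zero =>
    rw [OrthOrder.card_succ _ hG, zeros, h0]
    simp; ring
  | succ k ih =>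
    rw [OrthOrder.card_succ _ hG, zeros, ih, Finset.prod_range_succ,
      show Fintype.card F ^ (2 * (k + 1)) - 1 = (Fintype.card F ^ (k + 1) - 1) * (Fintype.card F ^ (k + 1) + 1) by
        rw [mul_comm 2, pow_mul, mul_comm (_ - 1), ← Nat.sq_sub_sq, one_pow]]
    generalize (Fintype.card F ^ (k + 1) - 1) = A
    generalize (Fintype.card F ^ (k + 1 + 1) - 1) = B
    ring

end Cfsg.Agent.S0287

namespace Cfsg.Agent.S0287

/-- |GO^+_{2m}(q)| = 2 q^(m(m-1)) (q^m - 1) prod_{i=1}^{m-1} (q^(2i) - 1), m at least 1, all q. -/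
theorem result {F : Type*} [Field F] [Fintype F] {q : ℕ} (hF : Fintype.card F = q) (m : ℕ) (hm : 1 ≤ m) : Nat.card (Cfsg.isometryGroup F (Cfsg.quadFormPlus m F)) = 2 * q ^ (m * (m - 1)) * (q ^ m - 1) * ∏ i ∈ Finset.range (m - 1), (q ^ (2 * (i + 1)) - 1) := by
  subst hF
  obtain ⟨k, rfl⟩ : ∃ k, m = k + 1 := ⟨m - 1, by omega⟩
  obtain ⟨φ, hφ⟩ := WittDec.QP_decomp (F := F) (k + 1)
  show Nat.card (Cfsg.isometryGroup F ⇑(PlusMax.QP (F := F) (m := k + 1))) = _
  rw [OrthOrder.card_isometryGroup, OrthOrder.card_iso_congr _ (OrthOrder.Qk (0 : QuadraticForm F (Fin 0 → F)) (k + 1)) φ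
    (fun p => (hφ p).trans (OrthOrder.Qk_apply _ _ p).symm), Nat.add_sub_cancel]
  exact Cfsg.Agent.S0287.order k

end Cfsg.Agent.S0287
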