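import Cfsg.Statements.S0288
import Cfsg.Agent.Lib.Classical.OrthOrder

set_option autoImplicit false
open Cfsg

open Cfsg.Agent.Classical
open Module QuadraticMap

namespace Cfsg.Agent.S0288

variable {F : Type*} [Field F] [Fintype F] (a b : F)
  (hab : ∀ z₁ z₂ : F, z₁ ^ 2 + a * z₁ * z₂ + b * z₂ ^ 2 = 0 → z₁ = 0 ∧ z₂ = 0)

include hab

theorem zeros (k : ℕ) : Nat.card (QuadZeros.T (⇑(WittDec.plane a b)) (k + 1)) - 1 =
    (Fintype.card F ^ (k + 2) + 1) * (Fintype.card F ^ (k + 1) - 1) := by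
  have h := QuadZeros.card_eq (⇑(WittDec.plane a b)) (k + 1)
  rw [Nat.card_fun, Nat.card_fin, Nat.card_eq_fintype_card (α := F),
    show Nat.card {d : Fin 2 → F // WittDec.plane a b d = 0} = 1 by
    rw [Nat.card_eq_one_iff_unique]
    exact ⟨⟨fun x y => Subtype.ext ((WittDec.plane_aniso a b hab x.1 x.2).trans (WittDec.plane_aniso a b hab y.1 y.2).symm)⟩,
      ⟨⟨0, QuadraticMap.map_zero _⟩⟩⟩] at h
  set T := Nat.card (QuadZeros.T (⇑(WittDec.plane a b)) (k + 1))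
  set q := Fintype.card F with hq
  have hq0 : 0 < q := Fintype.card_pos
  have h1 : 1 ≤ q ^ (k + 1) := Nat.one_le_pow _ _ hq0
  have key : T = (q ^ (k + 2) + 1) * (q ^ (k + 1) - 1) + 1 := by
    refine Nat.eq_of_mul_eq_mul_left hq0 ?_
    zify [h1]
    push_cast at h
    linear_combination h
  omega

theorem order : ∀ k : ℕ, Nat.card (OrthOrder.Iso (OrthOrder.Qk (WittDec.plane a b) k)) =
    2 * Fintype.card F ^ ((k + 1) * k) * (Fintype.card F ^ (k + 1) + 1) *
      ∏ i ∈ Finset.range k, (Fintype.card F ^ (2 * (i + 1)) - 1) := by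
  have hG := WittDec.plane_nondeg a b hab
  intro k
  induction k with
  | zero =>
    rw [OrthOrder.card_zero, OrthOrder.card_iso_plane a b hab]
    simp
  | succ k ih =>
    rw [OrthOrder.card_succ _ hG, zeros a b hab, ih, Finset.prod_range_succ,
      show Fintype.card F ^ (2 * (k + 1)) - 1 = (Fintype.card F ^ (k + 1) - 1) * (Fintype.card F ^ (k + 1) + 1) by
        rw [mul_comm 2, pow_mul, mul_comm (_ - 1), ← Nat.sq_sub_sq, one_pow]]
    generalize (Fintype.card F ^ (k + 1) - 1) = A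
    ring

end Cfsg.Agent.S0288

namespace Cfsg.Agent.S0288

/-- |GO^-_{2m}(q)| = 2 q^(m(m-1)) (q^m + 1) prod_{i=1}^{m-1} (q^(2i) - 1), m at least 1, all q; the form is quadFormMinus (m-1) with an anisotropic binary part. -/
theorem result {F : Type*} [Field F] [Fintype F] {q : ℕ} (hF : Fintype.card F = q) (m : ℕ) (hm : 1 ≤ m) (a b : F) (hab : ∀ z₁ z₂ : F, z₁ ^ 2 + a * z₁ * z₂ + b * z₂ ^ 2 = 0 → z₁ = 0 ∧ z₂ = 0) : Nat.card (Cfsg.isometryGroup F (Cfsg.quadFormMinus (m - 1) F a b)) = 2 * q ^ (m * (m - 1)) * (q ^ m + 1) * ∏ i ∈ Finset.range (m - 1), (q ^ (2 * (i + 1)) - 1) := by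
  subst hF
  obtain ⟨k, rfl⟩ : ∃ k, m = k + 1 := ⟨m - 1, by omega⟩
  simp only [Nat.add_sub_cancel]
  show Nat.card (Cfsg.isometryGroup F (Cfsg.quadFormMinus k F a b)) = _
  obtain ⟨φ, hφ⟩ := WittDec.QM_decomp k a b
  rw [show Cfsg.quadFormMinus k F a b = ⇑(WittDec.QM k a b) from funext fun v => (WittDec.QM_apply k a b v).symm,
    OrthOrder.card_isometryGroup, OrthOrder.card_iso_congr _ (OrthOrder.Qk (WittDec.plane a b) k) φ
    (fun p => (hφ p).trans (OrthOrder.Qk_apply _ _ p).symm)]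
  exact Cfsg.Agent.S0288.order a b hab k

end Cfsg.Agent.S0288
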