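import Cfsg.Statements.S0781
import Cfsg.Agent.Lib.Classical.UnitarySylow

set_option autoImplicit false
open Cfsg
open scoped Matrix commutatorElement

namespace Cfsg.Agent.S0781

/-- In SU_n(q) with n ≥ 4, or n = 3 and q > 2, every element whose matrix is a unitary transvection x ↦ x + c h(x, v) v (v isotropic) is a commutator ⁅B, C⁆ of two elements of SU_n(q). -/
theorem result {F : Type*} [Field F] [Fintype F] {q : ℕ} (hF : Fintype.card F = q ^ 2) (n : ℕ) (hn : 4 ≤ n ∨ (n = 3 ∧ 3 ≤ q)) (A : ↥(Cfsg.SU n F q)) (v : Fin n → F) (c : F) (hv0 : Cfsg.hermForm n F q v v = 0) (hA : ((A : Matrix.SpecialLinearGroup (Fin n) F) : Matrix (Fin n) (Fin n) F) = Cfsg.unitaryTransvection n q v c) : A ∈ commutatorSet ↥(Cfsg.SU n F q) := by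
  have hn3 : 3 ≤ n := by omega
  have C : PSUAut.Ctx F n q := ⟨hF, hn3⟩
  have hAx : ∀ x, PSUAut.mat A *ᵥ x = x + (c * Cfsg.hermForm n F q x v) • v := by
    intro x
    show ((A : Matrix.SpecialLinearGroup (Fin n) F) : Matrix (Fin n) (Fin n) F) *ᵥ x = _
    rw [hA, Cfsg.unitaryTransvection, Matrix.add_mulVec, Matrix.one_mulVec, Matrix.smul_mulVec,
      Matrix.vecMulVec_mulVec]
    funext i
    simp [dotProduct, Cfsg.hermForm]
    rw [Finset.sum_congr rfl fun j _ => mul_comm (x j) (v j ^ q)]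
    ring
  rw [mem_commutatorSet_iff]
  by_cases hv : v = 0
  · refine ⟨1, 1, ?_⟩
    rw [commutatorElement_one_left]
    refine PSUAut.mat_inj (PSUAut.mat_ext fun x => ?_)
    rw [PSUAut.mat_one, Matrix.one_mulVec, hAx, hv, smul_zero, add_zero]
  obtain ⟨y, hy⟩ := PSUAut.exists_dual C hv
  have hcs : c + c ^ q = 0 := by
    have e := PSUAut.mat_pres A y y
    rw [hAx, hy, mul_one] at e
    simp only [PSUAut.add_left, PSUAut.add_right C, PSUAut.smul_left, PSUAut.smul_right, hy,
      PSUAut.one_symm C hy, hv0, mul_zero, mul_one, add_zero] at e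
    linear_combination e
  -- a non-isotropic vector orthogonal to `v`
  obtain ⟨w, hwv, hww⟩ : ∃ w, Cfsg.hermForm n F q w v = 0 ∧ Cfsg.hermForm n F q w w ≠ 0 := by
    obtain ⟨Pf, hPf⟩ := PSUAut.exists_frame C (⟨hv, hv0⟩ : PSUAut.Iso q v)
    subst hPf
    by_contra! hc
    obtain ⟨x, hx0, hxe, hxf⟩ := PSUAut.exists_orth_two C Pf.e Pf.f
    have hiso : ∀ a b, Cfsg.hermForm n F q a Pf.e = 0 → Cfsg.hermForm n F q b Pf.e = 0 →
        Cfsg.hermForm n F q a b = 0 := by
      intro a b ha hb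
      have e : ∀ k : F, k * Cfsg.hermForm n F q a b + (k * Cfsg.hermForm n F q a b) ^ q = 0 := by
        intro k
        have h1 := hc (k • a + b) (by rw [PSUAut.add_left, PSUAut.smul_left, ha, hb, mul_zero, add_zero])
        simp only [PSUAut.add_left, PSUAut.add_right C, PSUAut.smul_left, PSUAut.smul_right, hc a ha, hc b hb,
          mul_zero, zero_add, add_zero] at h1
        rw [mul_pow, PSUAut.pow_symm C]
        linear_combination h1
      by_contra hne
      obtain ⟨t, ht⟩ := PSUAut.exists_not_fixed C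
      have e1 := e (Cfsg.hermForm n F q a b)⁻¹
      have e2 := e (t * (Cfsg.hermForm n F q a b)⁻¹)
      rw [inv_mul_cancel₀ hne, one_pow] at e1
      rw [mul_assoc, inv_mul_cancel₀ hne, mul_one] at e2
      exact ht (by linear_combination e2 - t * e1)
    refine hx0 (PSUAut.eq_zero_of_orth C fun z => ?_)
    have h1 : Cfsg.hermForm n F q (z - Cfsg.hermForm n F q z Pf.e • Pf.f) Pf.e = 0 := by
      rw [PSUAut.sub_left, PSUAut.smul_left, Pf.hfe, mul_one, sub_self]
    have h2 := hiso _ x h1 hxe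
    rw [PSUAut.sub_left, PSUAut.smul_left, PSUAut.orth_symm C hxf, mul_zero, sub_zero] at h2
    exact h2
  obtain ⟨t, ht⟩ := PSUAut.exists_trace C (c := (1 : F)) (one_pow q)
  obtain ⟨l, hl⟩ : ∃ l, l * Cfsg.hermForm n F q w w = c * t := ⟨_, div_mul_cancel₀ (c * t) hww⟩
  obtain ⟨d, hd⟩ := PSUAut.exists_val C hv0 (w := l • w) (by rw [PSUAut.smul_left, hwv, mul_zero])
  obtain ⟨d', hd'⟩ := PSUAut.exists_val C hv0 hwv
  refine ⟨PSUAut.el C hd, PSUAut.el C hd', ?_⟩
  have key : PSUAut.el C hd * PSUAut.el C hd' = A * (PSUAut.el C hd' * PSUAut.el C hd) := by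
    refine PSUAut.mat_inj ?_
    rw [PSUAut.mat_mul, PSUAut.mat_mul, PSUAut.mat_mul, PSUAut.mat_el, PSUAut.mat_el,
      PSUAut.EM_comp C hd hd', PSUAut.EM_comp C hd' hd]
    have hAE : PSUAut.mat A = PSUAut.EM q v 0 c := PSUAut.mat_ext fun x => by
      rw [hAx, PSUAut.EM_apply, PSUAut.zero_right C, smul_zero, add_zero, sub_zero]
    have hsum := PSUAut.val_mul C hd' hd
    rw [hAE, PSUAut.EM_comp C (PSUAut.val_zero C hv0 hcs) hsum, zero_add, add_comm (l • w) w,
      PSUAut.smul_left, PSUAut.smul_right, PSUAut.zero_right C]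
    congr 1
    have hlq : l ^ q * Cfsg.hermForm n F q w w = -c * t ^ q := by
      have e := congrArg (fun z => z ^ q) hl
      simp only [mul_pow, PSUAut.self_fixed C] at e
      rw [e]
      linear_combination (t ^ q) * hcs
    linear_combination hl - hlq + c * ht
  rw [commutatorElement_def, key]
  group

end Cfsg.Agent.S0781
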