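import Cfsg.Statements.S0263
import Cfsg.Agent.Lib.Classical.Linear

set_option autoImplicit false
open Cfsg

namespace Cfsg.Agent.S0263

/-- A Sylow p-subgroup of GL_n(q), p the characteristic, has order q^(n(n-1)/2). -/
theorem result {F : Type*} [Field F] [Fintype F] {q : ℕ} (hF : Fintype.card F = q) (p : ℕ) [Fact p.Prime] [CharP F p] (n : ℕ) (P : Sylow p (Matrix.GeneralLinearGroup (Fin n) F)) : Nat.card P = q ^ (n * (n - 1) / 2) := by
  subst hF
  obtain ⟨f, hp, hf⟩ := FiniteField.card F p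
  rw [Sylow.card_eq_multiplicity, Matrix.card_GL_field]
  have e : ∀ i : Fin n, Fintype.card F ^ n - Fintype.card F ^ (i : ℕ) =
      Fintype.card F ^ (i : ℕ) * (Fintype.card F ^ (n - i) - 1) := fun i => by
    rw [Nat.mul_sub, ← pow_add, mul_one, Nat.add_sub_cancel' i.2.le]
  simp only [e]
  rw [Finset.prod_mul_distrib, Finset.prod_pow_eq_pow_sum]
  have hsum : (∑ i : Fin n, (i : ℕ)) = n * (n - 1) / 2 := by
    rw [Fin.sum_univ_eq_sum_range (fun i => i), Finset.sum_range_id]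
  rw [hsum, hf, ← pow_mul]
  have h1 : ∀ i : Fin n, ¬ p ∣ (p ^ (f : ℕ)) ^ (n - i) - 1 := fun i hd => by
    have hk : (f : ℕ) * (n - i) ≠ 0 := mul_ne_zero f.ne_zero (by omega)
    have h2 : p ∣ p ^ ((f : ℕ) * (n - i)) := dvd_pow_self p hk
    rw [← pow_mul] at hd
    have h3 := Nat.dvd_sub h2 hd
    rw [Nat.sub_sub_self (Nat.one_le_pow _ _ hp.pos)] at h3
    exact hp.one_lt.ne' (Nat.dvd_one.1 h3)
  have hnd : ¬ p ∣ ∏ i : Fin n, ((p ^ (f : ℕ)) ^ (n - i) - 1) := by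
    rw [hp.prime.dvd_finsetProd_iff]
    rintro ⟨i, -, hi⟩
    exact h1 i hi
  have hne : (∏ i : Fin n, ((p ^ (f : ℕ)) ^ (n - i) - 1)) ≠ 0 := fun h => hnd (h ▸ dvd_zero p)
  rw [Nat.factorization_mul (pow_ne_zero _ hp.ne_zero) hne, Finsupp.add_apply,
    Nat.factorization_pow, Finsupp.smul_apply, hp.factorization_self,
    Nat.factorization_eq_zero_of_not_dvd hnd, smul_eq_mul, mul_one, add_zero]

end Cfsg.Agent.S0263
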