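import Cfsg.Statements.S0269
import Cfsg.Agent.Lib.Classical.SymplecticMatrix

set_option autoImplicit false
open Cfsg

open Cfsg.Agent.Classical.Sp

namespace Cfsg.Agent.S0269

/-- Sp_{2m}(q) is perfect except for Sp_2(2), Sp_2(3) and Sp_4(2): stated as m at least 3, or m = 2 and q at least 3, or q at least 4. -/
theorem result {F : Type*} [Field F] [Fintype F] (m : ℕ) (h : 3 ≤ m ∨ (m = 2 ∧ 3 ≤ Fintype.card F) ∨ 4 ≤ Fintype.card F) : commutator (Matrix.symplecticGroup (Fin m) F) = ⊤ := by
  haveI : Group.IsPerfect (Grp (sympB F m)) :=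
    ⟨commutator_eq_top _ (sympB_isAlt m) (sympB_nondeg m) (perfect_hyp m h)⟩
  have := congrArg (Subgroup.map (spEquiv (F := F) m).symm.toMonoidHom)
    (Group.IsPerfect.commutator_eq_top (G := Grp (sympB F m)))
  rw [Subgroup.map_top_of_surjective _ (spEquiv m).symm.surjective, commutator_def,
    Subgroup.map_commutator, Subgroup.map_top_of_surjective _ (spEquiv m).symm.surjective] at this
  rw [commutator_def]
  exact this

end Cfsg.Agent.S0269
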