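import Cfsg.Statements.S0270
import Cfsg.Agent.Lib.Classical.SymplecticMatrix

set_option autoImplicit false
open Cfsg

open Cfsg.Agent.Classical.Sp

namespace Cfsg.Agent.S0270

/-- PSp_{2m}(q) is simple for m at least 2 and (m, q) other than (2, 2). -/
theorem result {F : Type*} [Field F] [Fintype F] (m : ℕ) (hm : 2 ≤ m) (h : m = 2 → 3 ≤ Fintype.card F) : IsSimpleGroup (Cfsg.PSp m F) := by
  haveI : Nonempty (Fin m) := ⟨⟨0, by omega⟩⟩
  have hp : 3 ≤ m ∨ (m = 2 ∧ 3 ≤ Fintype.card F) ∨ 4 ≤ Fintype.card F := by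
    rcases Nat.lt_or_ge m 3 with h3 | h3
    · exact Or.inr (Or.inl ⟨by omega, h (by omega)⟩)
    · exact Or.inl h3
  haveI := simple_quotient (sympB F m) (sympB_isAlt m) (sympB_nondeg m) (perfect_hyp m hp)
  haveI : Nontrivial (Cfsg.PSp m F) := (pspEquiv m).toEquiv.nontrivial
  exact IsSimpleGroup.isSimpleGroup_of_surjective (pspEquiv m).symm.toMonoidHom (pspEquiv m).symm.surjective

end Cfsg.Agent.S0270
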