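import Cfsg.Statements.S0286
import Cfsg.Agent.Lib.Classical.OrthOrder
import Cfsg.Agent.Lib.Classical.Disc

set_option autoImplicit false
open Cfsg

open Cfsg.Agent.Classical
open Module QuadraticMap

namespace Cfsg.Agent.S0286

variable {F : Type*} [Field F] [Fintype F]

/-- The square form on a line. -/
def G : QuadraticForm F (Fin 1 → F) :=
  (QuadraticMap.sq (R := F)).comp (LinearMap.proj (R := F) (φ := fun _ : Fin 1 => F) 0)

omit [Fintype F] in
theorem G_apply (v : Fin 1 → F) : (G : QuadraticForm F _) v = v 0 ^ 2 := by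
  show v 0 * v 0 = _
  ring

theorem zeros (k : ℕ) : Nat.card (QuadZeros.T (⇑(G (F := F))) (k + 1)) - 1 = Fintype.card F ^ (2 * (k + 1)) - 1 := by
  have h := QuadZeros.card_eq (⇑(G (F := F))) (k + 1)
  rw [Nat.card_fun, Nat.card_fin, pow_one, Nat.card_eq_fintype_card (α := F),
    show Nat.card {d : Fin 1 → F // G d = 0} = 1 by
    rw [Nat.card_eq_one_iff_unique]
    refine ⟨⟨fun x y => Subtype.ext (funext fun i => ?_)⟩, ⟨⟨0, QuadraticMap.map_zero _⟩⟩⟩
    have hx := x.2; have hy := y.2
    rw [G_apply, sq_eq_zero_iff] at hx hy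
    fin_cases i
    exact hx.trans hy.symm] at h
  set T := Nat.card (QuadZeros.T (⇑(G (F := F))) (k + 1))
  set q := Fintype.card F with hq
  have hq0 : 0 < q := Fintype.card_pos
  have key : T = q ^ (2 * (k + 1)) := by
    refine Nat.eq_of_mul_eq_mul_left hq0 ?_
    zify
    push_cast at h
    linear_combination h
  omega

theorem order (h2 : (2 : F) ≠ 0) : ∀ k : ℕ, Nat.card (OrthOrder.Iso (OrthOrder.Qk (G (F := F)) k)) =
    2 * Fintype.card F ^ (k ^ 2) * ∏ i ∈ Finset.range k, (Fintype.card F ^ (2 * (i + 1)) - 1) := by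
  have hG : (polarBilin (G (F := F))).Nondegenerate := by
    have h1 : ∀ x, (∀ y, polar (G (F := F)) x y = 0) → x = 0 := fun x hx => funext fun i => by
      fin_cases i
      have := hx (fun _ => 1)
      simp [polar, G_apply] at this
      exact (mul_eq_zero.1 (show (2 : F) * x 0 = 0 by linear_combination this)).resolve_left h2
    exact ⟨h1, fun y hy => h1 y fun x => by rw [polar_comm]; exact hy x⟩
  intro k
  induction k with
  | zero =>
    rw [OrthOrder.card_zero, OrthOrder.card_iso_line 1 one_ne_zero h2 G fun v => by rw [G_apply, one_mul]]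
    simp
  | succ k ih =>
    rw [OrthOrder.card_succ _ hG, zeros, ih, Finset.prod_range_succ]
    generalize (Fintype.card F ^ (2 * (k + 1)) - 1) = A
    ring

end Cfsg.Agent.S0286

namespace Cfsg.Agent.S0286

/-- |GO_{2m+1}(q)| = 2 q^(m^2) prod_{i=1}^{m} (q^(2i) - 1) for q odd. -/
theorem result {F : Type*} [Field F] [Fintype F] {q : ℕ} (hF : Fintype.card F = q) (hodd : Odd q) (m : ℕ) : Nat.card (Cfsg.isometryGroup F (Cfsg.quadFormOdd m F)) = 2 * q ^ (m ^ 2) * ∏ i ∈ Finset.range m, (q ^ (2 * (i + 1)) - 1) := by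
  subst hF
  have h2 := Disc.two_ne_zero_of_odd hodd
  let Q : QuadraticForm F (Unit ⊕ (Fin m ⊕ Fin m) → F) :=
    (QuadraticMap.sq (R := F)).comp (LinearMap.proj (R := F) (φ := fun _ : Unit ⊕ (Fin m ⊕ Fin m) => F) (Sum.inl ())) +
      (PlusMax.QP (F := F) (m := m)).comp (LinearMap.funLeft F F Sum.inr)
  have hQ : Cfsg.quadFormOdd m F = ⇑Q := funext fun v => by
    show _ = v (Sum.inl ()) * v (Sum.inl ()) + PlusMax.QP (fun i => v (Sum.inr i))
    rw [← pow_two]; rfl
  let φ : ((Fin m ⊕ Fin m → F) × (Fin 1 → F)) ≃ₗ[F] (Unit ⊕ (Fin m ⊕ Fin m) → F) :=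
    { toFun := fun p => Sum.elim (fun _ => p.2 0) p.1
      map_add' := fun p p' => funext fun s => by rcases s with u | i <;> rfl
      map_smul' := fun c p => funext fun s => by rcases s with u | i <;> rfl
      invFun := fun v => (fun i => v (Sum.inr i), fun _ => v (Sum.inl ()))
      left_inv := fun p => Prod.ext rfl (funext fun i => by fin_cases i; rfl)
      right_inv := fun v => funext fun s => by rcases s with u | i <;> rfl }
  rw [hQ, OrthOrder.card_isometryGroup, OrthOrder.card_iso_congr Q (OrthOrder.Qk (Cfsg.Agent.S0286.G) m) φ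
    (fun p => by rw [← hQ, OrthOrder.Qk_apply, Cfsg.Agent.S0286.G_apply, add_comm]; rfl)]
  exact Cfsg.Agent.S0286.order h2 m

end Cfsg.Agent.S0286
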