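import Cfsg.Statements.S0301
import Cfsg.Agent.Lib.Classical.Klein
import Cfsg.Agent.S0245
import Cfsg.Agent.S0246
import Cfsg.Agent.S0269
import Cfsg.Agent.S0270
import Cfsg.Agent.S0286

set_option autoImplicit false
open Cfsg

open Cfsg.Agent.Classical
open Matrix QuadraticMap
set_option maxHeartbeats 1000000

namespace Cfsg.Agent.S0301

variable {F : Type*} [Field F]

/-- Embedding of the five-space as the hyperplane orthogonal to the symplectic bivector. -/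
def Lf (u : Unit ⊕ (Fin 2 ⊕ Fin 2) → F) : Fin 3 ⊕ Fin 3 → F :=
  Sum.elim ![u (.inr (.inl 0)), u (.inl ()), u (.inr (.inl 1))] ![u (.inr (.inr 0)), -u (.inl ()), u (.inr (.inr 1))]

/-- The projection back. -/
def Rf (v : Fin 3 ⊕ Fin 3 → F) : Unit ⊕ (Fin 2 ⊕ Fin 2) → F :=
  Sum.elim (fun _ => v (.inl 1)) (Sum.elim ![v (.inl 0), v (.inl 2)] ![v (.inr 0), v (.inr 2)])

def Lm : Matrix (Fin 3 ⊕ Fin 3) (Unit ⊕ (Fin 2 ⊕ Fin 2)) F := Matrix.of fun i j => Lf (Pi.single j 1) i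

def Rm : Matrix (Unit ⊕ (Fin 2 ⊕ Fin 2)) (Fin 3 ⊕ Fin 3) F := Matrix.of fun i j => Rf (Pi.single j 1) i

theorem Lm_mulVec (u : Unit ⊕ (Fin 2 ⊕ Fin 2) → F) : Lm *ᵥ u = Lf u := by
  funext i
  rcases i with i | i <;> fin_cases i <;>
    simp [Lm, Lf, Matrix.mulVec, dotProduct, Fintype.sum_sum_type, Fin.sum_univ_two, Pi.single_apply]

theorem Rm_mulVec (v : Fin 3 ⊕ Fin 3 → F) : Rm *ᵥ v = Rf v := by
  funext i
  rcases i with i | i | i
  · simp [Rm, Rf, Matrix.mulVec, dotProduct, Fintype.sum_sum_type, Pi.single_apply]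
  · fin_cases i <;> simp [Rm, Rf, Matrix.mulVec, dotProduct, Fintype.sum_sum_type, Pi.single_apply]
  · fin_cases i <;> simp [Rm, Rf, Matrix.mulVec, dotProduct, Fintype.sum_sum_type, Pi.single_apply]

theorem Rf_Lf (u : Unit ⊕ (Fin 2 ⊕ Fin 2) → F) : Rf (Lf u) = u := by
  funext i
  rcases i with i | i | i
  · rfl
  · fin_cases i <;> rfl
  · fin_cases i <;> rfl

theorem Lf_Rf (v : Fin 3 ⊕ Fin 3 → F) (h : v (.inl 1) + v (.inr 1) = 0) : Lf (Rf v) = v := by
  funext i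
  rcases i with i | i <;> fin_cases i <;> try rfl
  show -v (.inl 1) = v (.inr 1)
  exact neg_eq_of_add_eq_zero_right h

theorem pf_Lf (u : Unit ⊕ (Fin 2 ⊕ Fin 2) → F) :
    Cfsg.Agent.S0256.pf (Lf u) = Cfsg.quadFormOdd 2 F u := by
  simp [Cfsg.Agent.S0256.pf, Lf, Cfsg.quadFormOdd, Fin.sum_univ_two]
  ring

/-- The symplectic bivector. -/
def om : Fin 3 ⊕ Fin 3 → F := Sum.elim ![0, 1, 0] ![0, 1, 0]

/-- The index identification. -/
def e4 : Fin 2 ⊕ Fin 2 ≃ Fin 4 := finSumFinEquiv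

/-- A symplectic matrix as a four by four matrix. -/
def four (A : Matrix (Fin 2 ⊕ Fin 2) (Fin 2 ⊕ Fin 2) F) : Matrix (Fin 4) (Fin 4) F :=
  A.submatrix e4.symm e4.symm

theorem four_one : four (1 : Matrix (Fin 2 ⊕ Fin 2) (Fin 2 ⊕ Fin 2) F) = 1 :=
  Matrix.submatrix_one_equiv _

theorem four_mul (A B : Matrix (Fin 2 ⊕ Fin 2) (Fin 2 ⊕ Fin 2) F) : four (A * B) = four A * four B :=
  (Matrix.submatrix_mul_equiv A B _ _ _).symm

theorem four_neg_one : four (-1 : Matrix (Fin 2 ⊕ Fin 2) (Fin 2 ⊕ Fin 2) F) = (-1 : F) • 1 := by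
  ext a b
  simp [four, Matrix.one_apply]
  split_ifs <;> simp

theorem wedge_om {A : Matrix (Fin 2 ⊕ Fin 2) (Fin 2 ⊕ Fin 2) F} (hA : A ∈ Matrix.symplecticGroup (Fin 2) F) :
    Cfsg.Agent.S0256.wedge (four A) *ᵥ om = om := by
  have h := SymplecticGroup.mem_iff.1 hA
  have hab : ∀ a b, (A * Matrix.J (Fin 2) F * Aᵀ) a b = Matrix.J (Fin 2) F a b := fun a b => by rw [h]
  have s0 : e4.symm (0 : Fin 4) = (Sum.inl 0 : Fin 2 ⊕ Fin 2) := rfl
  have s1 : e4.symm (1 : Fin 4) = (Sum.inl 1 : Fin 2 ⊕ Fin 2) := rfl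
  have s2 : e4.symm (2 : Fin 4) = (Sum.inr 0 : Fin 2 ⊕ Fin 2) := rfl
  have s3 : e4.symm (3 : Fin 4) = (Sum.inr 1 : Fin 2 ⊕ Fin 2) := rfl
  funext i
  rcases i with i | i <;> fin_cases i <;>
    simp [Cfsg.Agent.S0256.wedge, Cfsg.Agent.S0256.pr, Matrix.mulVec, dotProduct, Fintype.sum_sum_type,
      Fin.sum_univ_three, om, four, s0, s1, s2, s3]
  · have := hab (Sum.inl 0) (Sum.inl 1)
    simp [Matrix.mul_apply, Matrix.J, Fintype.sum_sum_type, Fin.sum_univ_two, Matrix.fromBlocks,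
      Matrix.one_apply] at this
    linear_combination -this
  · have := hab (Sum.inl 0) (Sum.inr 0)
    simp [Matrix.mul_apply, Matrix.J, Fintype.sum_sum_type, Fin.sum_univ_two, Matrix.fromBlocks,
      Matrix.one_apply] at this
    linear_combination -this
  · have := hab (Sum.inl 0) (Sum.inr 1)
    simp [Matrix.mul_apply, Matrix.J, Fintype.sum_sum_type, Fin.sum_univ_two, Matrix.fromBlocks,
      Matrix.one_apply] at this
    linear_combination -this
  · have := hab (Sum.inr 0) (Sum.inr 1)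
    simp [Matrix.mul_apply, Matrix.J, Fintype.sum_sum_type, Fin.sum_univ_two, Matrix.fromBlocks,
      Matrix.one_apply] at this
    linear_combination -this
  · have := hab (Sum.inl 1) (Sum.inr 1)
    simp [Matrix.mul_apply, Matrix.J, Fintype.sum_sum_type, Fin.sum_univ_two, Matrix.fromBlocks,
      Matrix.one_apply] at this
    linear_combination -this
  · have := hab (Sum.inl 1) (Sum.inr 0)
    simp [Matrix.mul_apply, Matrix.J, Fintype.sum_sum_type, Fin.sum_univ_two, Matrix.fromBlocks,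
      Matrix.one_apply] at this
    linear_combination -this

theorem det_four {A : Matrix (Fin 2 ⊕ Fin 2) (Fin 2 ⊕ Fin 2) F} (hA : A ∈ Matrix.symplecticGroup (Fin 2) F) :
    (four A).det = 1 := by
  have h := Cfsg.Agent.S0256.pf_wedge (four A) (om (F := F))
  rw [wedge_om hA] at h
  simp [Cfsg.Agent.S0256.pf, om] at h
  exact h.symm

theorem perp_wedge {A : Matrix (Fin 2 ⊕ Fin 2) (Fin 2 ⊕ Fin 2) F} (hA : A ∈ Matrix.symplecticGroup (Fin 2) F)
    (x : Fin 3 ⊕ Fin 3 → F) (hx : x (.inl 1) + x (.inr 1) = 0) :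
    (Cfsg.Agent.S0256.wedge (four A) *ᵥ x) (.inl 1) + (Cfsg.Agent.S0256.wedge (four A) *ᵥ x) (.inr 1) = 0 := by
  have h1 := Cfsg.Agent.S0256.pf_wedge (four A) (x + om)
  have h2 := Cfsg.Agent.S0256.pf_wedge (four A) x
  rw [Matrix.mulVec_add, wedge_om hA, det_four hA, one_mul] at h1
  rw [det_four hA, one_mul] at h2
  generalize Cfsg.Agent.S0256.wedge (four A) *ᵥ x = y at h1 h2 ⊢
  simp [Cfsg.Agent.S0256.pf, om] at h1 h2
  linear_combination -h1 + h2 + hx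

/-- The five-dimensional representation. -/
def rep5 : Matrix.symplecticGroup (Fin 2) F →* Matrix (Unit ⊕ (Fin 2 ⊕ Fin 2)) (Unit ⊕ (Fin 2 ⊕ Fin 2)) F where
  toFun g := (Rm : Matrix (Unit ⊕ (Fin 2 ⊕ Fin 2)) (Fin 3 ⊕ Fin 3) F) *
    Cfsg.Agent.S0256.wedge (four (g : Matrix (Fin 2 ⊕ Fin 2) (Fin 2 ⊕ Fin 2) F)) *
    (Lm : Matrix (Fin 3 ⊕ Fin 3) (Unit ⊕ (Fin 2 ⊕ Fin 2)) F)
  map_one' := by
    rw [OneMemClass.coe_one, four_one, Cfsg.Agent.S0256.wedge_one, Matrix.mul_one]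
    refine Matrix.toLin'.injective (LinearMap.ext fun u => ?_)
    rw [Matrix.toLin'_apply, Matrix.toLin'_apply, ← Matrix.mulVec_mulVec, Lm_mulVec, Rm_mulVec, Rf_Lf, Matrix.one_mulVec]
  map_mul' g h := by
    rw [MulMemClass.coe_mul, four_mul, Cfsg.Agent.S0256.wedge_mul]
    refine Matrix.toLin'.injective (LinearMap.ext fun u => ?_)
    simp only [Matrix.toLin'_apply, ← Matrix.mulVec_mulVec, Lm_mulVec, Rm_mulVec]
    rw [Lf_Rf _ (perp_wedge h.2 _ (add_neg_cancel (u (.inl ()))))]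

theorem rep5_mulVec (g : Matrix.symplecticGroup (Fin 2) F) (u : Unit ⊕ (Fin 2 ⊕ Fin 2) → F) :
    rep5 g *ᵥ u = Rf (Cfsg.Agent.S0256.wedge (four (g : Matrix (Fin 2 ⊕ Fin 2) (Fin 2 ⊕ Fin 2) F)) *ᵥ Lf u) := by
  unfold rep5
  rw [MonoidHom.coe_mk, OneHom.coe_mk, ← Matrix.mulVec_mulVec, ← Matrix.mulVec_mulVec, Lm_mulVec, Rm_mulVec]

theorem rep5_pres (g : Matrix.symplecticGroup (Fin 2) F) (u : Unit ⊕ (Fin 2 ⊕ Fin 2) → F) :
    Cfsg.quadFormOdd 2 F (rep5 g *ᵥ u) = Cfsg.quadFormOdd 2 F u := by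
  rw [rep5_mulVec, ← pf_Lf, Lf_Rf _ (perp_wedge g.2 _ (add_neg_cancel (u (.inl ())))), Cfsg.Agent.S0256.pf_wedge,
    det_four g.2, one_mul, pf_Lf]

/-- The map to the orthogonal group. -/
def toO5 : Matrix.symplecticGroup (Fin 2) F →* Cfsg.isometryGroup F (Cfsg.quadFormOdd 2 F) :=
  (rep5 (F := F)).toHomUnits.codRestrict _ fun g => Klein.mem_isometryGroup_of _ _ fun u => by
    rw [MonoidHom.coe_toHomUnits]
    exact rep5_pres g u

theorem coe_toO5 (g : Matrix.symplecticGroup (Fin 2) F) :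
    ((toO5 g : GL (Unit ⊕ (Fin 2 ⊕ Fin 2)) F) : Matrix (Unit ⊕ (Fin 2 ⊕ Fin 2)) (Unit ⊕ (Fin 2 ⊕ Fin 2)) F) = rep5 g := by
  unfold toO5
  rw [MonoidHom.codRestrict_apply, MonoidHom.coe_toHomUnits]

theorem neg_one_mem : (-1 : Matrix (Fin 2 ⊕ Fin 2) (Fin 2 ⊕ Fin 2) F) ∈ Matrix.symplecticGroup (Fin 2) F := by
  rw [SymplecticGroup.mem_iff]
  simp

/-- Minus the identity. -/
def negOne : Matrix.symplecticGroup (Fin 2) F := ⟨-1, neg_one_mem⟩

theorem toO5_negOne : toO5 (negOne : Matrix.symplecticGroup (Fin 2) F) = 1 := by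
  apply Subtype.ext
  apply Units.ext
  rw [coe_toO5, OneMemClass.coe_one, Units.val_one]
  refine Matrix.toLin'.injective (LinearMap.ext fun u => ?_)
  rw [Matrix.toLin'_apply, Matrix.toLin'_apply, rep5_mulVec, Matrix.one_mulVec]
  show Rf (Cfsg.Agent.S0256.wedge (four (-1)) *ᵥ Lf u) = u
  rw [four_neg_one, Klein.wedge_smul, Cfsg.Agent.S0256.wedge_one, neg_one_mul, neg_neg,
        one_smul, Matrix.one_mulVec, Rf_Lf]

theorem exists_ne_one : ∃ g : Matrix.symplecticGroup (Fin 2) F, toO5 g ≠ 1 := by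
  have hmem : Matrix.fromBlocks (1 : Matrix (Fin 2) (Fin 2) F) (Matrix.diagonal ![1, 0]) 0 1 ∈
      Matrix.symplecticGroup (Fin 2) F := by
    rw [SymplecticGroup.mem_iff]
    simp [Matrix.J, Matrix.fromBlocks_multiply, Matrix.fromBlocks_transpose]
  refine ⟨⟨_, hmem⟩, fun h => ?_⟩
  have h' := congrFun (congrArg (fun X => X *ᵥ Pi.single (Sum.inr (Sum.inr 1)) (1 : F))
    (show rep5 ⟨_, hmem⟩ = 1 by rw [← coe_toO5, h, OneMemClass.coe_one, Units.val_one])) (Sum.inr (Sum.inl 0))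
  have s0 : e4.symm (0 : Fin 4) = (Sum.inl 0 : Fin 2 ⊕ Fin 2) := rfl
  have s1 : e4.symm (1 : Fin 4) = (Sum.inl 1 : Fin 2 ⊕ Fin 2) := rfl
  have s2 : e4.symm (2 : Fin 4) = (Sum.inr 0 : Fin 2 ⊕ Fin 2) := rfl
  have s3 : e4.symm (3 : Fin 4) = (Sum.inr 1 : Fin 2 ⊕ Fin 2) := rfl
  simp only [rep5_mulVec, Matrix.one_mulVec] at h'
  simp [Rf, Lf, Cfsg.Agent.S0256.wedge, Cfsg.Agent.S0256.pr, Matrix.mulVec, dotProduct,
    Fintype.sum_sum_type, Fin.sum_univ_three, four, s0, s1, s2, s3, Pi.single_apply] at h'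

end Cfsg.Agent.S0301

namespace Cfsg.Agent.S0301

/-- PΩ_5(q) is isomorphic to PSp_4(q) for q odd. -/
theorem result {F : Type*} [Field F] [Fintype F] (hodd : Odd (Fintype.card F)) : Nonempty (Cfsg.POmega F (Cfsg.quadFormOdd 2 F) ≃* Cfsg.PSp 2 F) := by
  classical
  have h2 := Disc.two_ne_zero_of_odd hodd
  have hq3 : 3 ≤ Fintype.card F := by
    have := Fintype.one_lt_card (α := F)
    have := Nat.odd_iff.1 hodd
    omega
  have hs : IsSimpleGroup (Cfsg.PSp 2 F) := Cfsg.Agent.S0270.result 2 le_rfl fun _ => hq3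
  have hperf := Cfsg.Agent.S0269.result (F := F) 2 (Or.inr (Or.inl ⟨rfl, hq3⟩))
  have hZ : Nat.card (Subgroup.center (Matrix.symplecticGroup (Fin 2) F)) = 2 := by
    rw [Cfsg.Agent.S0246.result (F := F) rfl 2 (by norm_num)]
    exact Nat.gcd_eq_left (Nat.dvd_of_mod_eq_zero (by have := Nat.odd_iff.1 hodd; omega))
  have hc : ∀ z ∈ Subgroup.center (Matrix.symplecticGroup (Fin 2) F),
      ∃ c : F, ((toO5 z : GL (Unit ⊕ (Fin 2 ⊕ Fin 2)) F) :
        Matrix (Unit ⊕ (Fin 2 ⊕ Fin 2)) (Unit ⊕ (Fin 2 ⊕ Fin 2)) F) = c • 1 := by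
    intro z hz
    refine ⟨1, ?_⟩
    rw [one_smul]
    have hn : (negOne : Matrix.symplecticGroup (Fin 2) F) ∈ Subgroup.center _ := Subgroup.mem_center_iff.2 fun y =>
      Subtype.ext (show (y : Matrix (Fin 2 ⊕ Fin 2) (Fin 2 ⊕ Fin 2) F) * -1 = -1 * y by simp)
    have hne : (⟨1, Subgroup.one_mem _⟩ : Subgroup.center (Matrix.symplecticGroup (Fin 2) F)) ≠ ⟨negOne, hn⟩ := fun e => by
      have e' := congrFun (congrFun (congrArg (fun x : Subgroup.center (Matrix.symplecticGroup (Fin 2) F) =>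
        ((x : Matrix.symplecticGroup (Fin 2) F) : Matrix (Fin 2 ⊕ Fin 2) (Fin 2 ⊕ Fin 2) F)) e) (Sum.inl 0)) (Sum.inl 0)
      simp [negOne] at e'
      exact h2 (by linear_combination e')
    obtain ⟨x, y, hxy, hall⟩ := Nat.card_eq_two_iff.1 hZ
    have hcase : ∀ w : Subgroup.center (Matrix.symplecticGroup (Fin 2) F),
        w = ⟨1, Subgroup.one_mem _⟩ ∨ w = ⟨negOne, hn⟩ := fun w => by
      have hw : w ∈ ({x, y} : Set _) := hall ▸ Set.mem_univ w
      have h1 : (⟨1, Subgroup.one_mem _⟩ : Subgroup.center (Matrix.symplecticGroup (Fin 2) F)) ∈ ({x, y} : Set _) :=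
        hall ▸ Set.mem_univ _
      have h3 : (⟨negOne, hn⟩ : Subgroup.center (Matrix.symplecticGroup (Fin 2) F)) ∈ ({x, y} : Set _) :=
        hall ▸ Set.mem_univ _
      simp only [Set.mem_insert_iff, Set.mem_singleton_iff] at hw h1 h3
      grind
    rcases hcase ⟨z, hz⟩ with e | e
    · rw [show z = 1 from congrArg Subtype.val e, map_one, OneMemClass.coe_one, Units.val_one]
    · rw [show z = negOne from congrArg Subtype.val e, toO5_negOne, OneMemClass.coe_one, Units.val_one]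
  refine Klein.pomega_equiv_of _ toO5 hperf hs hc exists_ne_one ?_
  have hSp := Cfsg.Agent.S0245.result (F := F) rfl 2
  rw [Subgroup.card_eq_card_quotient_mul_card_subgroup (Subgroup.center (Matrix.symplecticGroup (Fin 2) F)), hZ] at hSp
  have hO := Cfsg.Agent.S0286.result (F := F) rfl hodd 2
  let Q : QuadraticForm F (Unit ⊕ (Fin 2 ⊕ Fin 2) → F) :=
    (QuadraticMap.sq (R := F)).comp (LinearMap.proj (R := F) (φ := fun _ : Unit ⊕ (Fin 2 ⊕ Fin 2) => F) (Sum.inl ())) +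
      (PlusMax.QP (F := F) (m := 2)).comp (LinearMap.funLeft F F Sum.inr)
  have eQ : Cfsg.quadFormOdd 2 F = ⇑Q := funext fun v => by
    show _ = v (Sum.inl ()) * v (Sum.inl ()) + PlusMax.QP (fun i => v (Sum.inr i))
    rw [← pow_two]; rfl
  have hnd : (polarBilin Q).Nondegenerate := by
    have hp : ∀ u v, polar Q u v = 2 * (u (Sum.inl ()) * v (Sum.inl ())) +
        polar (PlusMax.QP (F := F) (m := 2)) (fun i => u (Sum.inr i)) (fun i => v (Sum.inr i)) := fun u v => by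
      simp only [polar, ← eQ, Cfsg.quadFormOdd, PlusMax.QP_apply, Cfsg.quadFormPlus, Pi.add_apply]
      ring
    have h1 : ∀ u, (∀ v, polar Q u v = 0) → u = 0 := fun u hu => by
      have e1 : u (Sum.inl ()) = 0 := by
        have h := hu (Sum.elim (fun _ => 1) 0)
        rw [hp] at h
        simp [PlusMax.polar_QP] at h
        exact h.resolve_left h2
      have e2 : (fun i => u (Sum.inr i)) = 0 := PlusMax.nondeg.1 _ fun y => by
        have h := hu (Sum.elim (fun _ => 0) y)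
        rw [hp] at h
        simp at h
        exact h
      funext s
      rcases s with x | i
      · exact e1
      · exact congrFun e2 i
    exact ⟨h1, fun y hy => h1 y fun x => by rw [polar_comm]; exact hy x⟩
  rw [eQ] at hO ⊢
  have h := Refl.card_POmega_odd_dim Q hnd (by simp) h2 (by rw [show Fintype.card (Unit ⊕ (Fin 2 ⊕ Fin 2)) = 5 by simp]; decide)
  rw [hO] at h
  change Nat.card (Cfsg.POmega F ⇑Q) * 4 = _ at h
  linarith

end Cfsg.Agent.S0301
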