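import Cfsg.Statements.S0303
import Cfsg.Agent.Lib.Classical.KleinMinus
import Cfsg.Agent.S0280

set_option autoImplicit false
open Cfsg

open Cfsg.Agent.Classical Matrix Module
open Cfsg.Agent.S0256 (wedge pf wedge_one wedge_mul pf_wedge)
open Cfsg.Agent.Classical.KleinMinus
set_option maxHeartbeats 2000000

namespace Cfsg.Agent.S0303

/-- PΩ^-_6(q) is isomorphic to PSU_4(q). -/
theorem result {F K : Type*} [Field F] [Fintype F] [Field K] [Fintype K] {q : ℕ} (hF : Fintype.card F = q) (hK : Fintype.card K = q ^ 2) (a b : F) (hab : ∀ z₁ z₂ : F, z₁ ^ 2 + a * z₁ * z₂ + b * z₂ ^ 2 = 0 → z₁ = 0 ∧ z₂ = 0) : Nonempty (Cfsg.POmega F (Cfsg.quadFormMinus 2 F a b) ≃* Cfsg.PSU 4 K q) := by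
  classical
  obtain ⟨E⟩ := MinusFour.exists_ext hF hK a b hab
  obtain ⟨σ, hσ, hσ1, hσ2⟩ := Unitary.exists_frob hK
  have hσe : ∀ x, σ (E.emb x) = E.emb x := fun x => by rw [hσ, ← map_pow, ← hF, FiniteField.pow_card]
  have hsw : σ E.w = E.sig E.w := by
    have hw : E.w ^ 2 - E.emb a * E.w + E.emb b = 0 := by rw [← E.w_add, ← E.w_mul]; ring
    have hs : σ E.w ^ 2 - E.emb a * σ E.w + E.emb b = 0 := by
      have := congrArg σ hw
      simpa [hσe] using this
    have h0 : (σ E.w - E.w) * (σ E.w - E.sig E.w) = 0 := by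
      rw [← E.w_add, ← E.w_mul] at hs
      linear_combination hs
    refine sub_eq_zero.1 ((mul_eq_zero.1 h0).resolve_left fun h => hσ1 (RingHom.ext fun z => ?_))
    obtain ⟨s, t, rfl⟩ := exists_pl E z
    rw [RingHom.id_apply, pl, map_add, map_mul, hσe, hσe, sub_eq_zero.1 h]
  have hsig : σ = E.sig := RingHom.ext fun z => by
    obtain ⟨s, t, rfl⟩ := exists_pl E z
    simp only [pl, map_add, map_mul, hσe, E.sig_emb, hsw]
  have hσq : ∀ z, E.sig z = z ^ q := fun z => by rw [← hsig]; exact hσ z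
  obtain ⟨l, hl⟩ : ∃ l : K, l * E.sig l = -1 := by
    obtain ⟨l, hl⟩ := Unitary.exists_scale hK (a := (-1 : K)) (neg_ne_zero.2 one_ne_zero) (by rw [← hσ, map_neg, map_one])
    exact ⟨l, by rw [hσq]; exact hl⟩
  have hl0 : l ≠ 0 := fun h => by rw [h, zero_mul] at hl; exact neg_ne_zero.2 one_ne_zero hl.symm
  have hD : 4 * b - a ^ 2 ≠ 0 := fun h => by
    have h1 := congrArg E.emb h
    rw [map_sub, map_mul, map_pow, map_zero, ← E.w_add, ← E.w_mul] at h1
    simp only [map_ofNat] at h1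
    exact pow_ne_zero 2 (sub_ne_zero.2 E.w_ne) (by linear_combination -h1)
  have hSU : ∀ g : Cfsg.SU 4 K q, ((g : Matrix.SpecialLinearGroup (Fin 4) K) : Matrix (Fin 4) (Fin 4) K)ᵀ *
      ((g : Matrix.SpecialLinearGroup (Fin 4) K) : Matrix (Fin 4) (Fin 4) K).map E.sig = 1 := fun g => by
    have hg : Matrix.SpecialLinearGroup.toGL (g : Matrix.SpecialLinearGroup (Fin 4) K) ∈ Cfsg.GU 4 K q := g.2
    ext i j
    have h := (Unitary.mem_GU_iff hK _).1 hg i j
    rw [Matrix.mul_apply, Matrix.one_apply, ← h]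
    simp only [Cfsg.hermForm, Matrix.transpose_apply, Matrix.map_apply, hσq]
    rfl
  let W : Cfsg.SU 4 K q → Matrix (Fin 3 ⊕ Fin 3) (Fin 3 ⊕ Fin 3) K := fun g =>
    wedge ((g : Matrix.SpecialLinearGroup (Fin 4) K) : Matrix (Fin 4) (Fin 4) K)
  have hex : ∀ (g : Cfsg.SU 4 K q) (v : (Fin 2 ⊕ Fin 2) ⊕ Fin 2 → F), ∃ u, T E l u = W g *ᵥ T E l v := fun g v =>
    T_surj E l hD hl0 (star_wedge E.sig (g : Matrix.SpecialLinearGroup (Fin 4) K).2 (hSU g) (T_fixed E l v))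
  choose f hf using hex
  let Lf : Cfsg.SU 4 K q → (((Fin 2 ⊕ Fin 2) ⊕ Fin 2 → F) →ₗ[F] ((Fin 2 ⊕ Fin 2) ⊕ Fin 2 → F)) := fun g =>
    { toFun := f g
      map_add' := fun u v => T_inj E l hD hl0 (by simp only [hf, T_add, Matrix.mulVec_add])
      map_smul' := fun c v => T_inj E l hD hl0 (by simp only [hf, T_smul, Matrix.mulVec_smul, RingHom.id_apply]) }
  have hM : ∀ g v, T E l (LinearMap.toMatrix' (Lf g) *ᵥ v) = W g *ᵥ T E l v := fun g v => by
    rw [LinearMap.toMatrix'_mulVec]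
    exact hf g v
  have hMext : ∀ A B : Matrix ((Fin 2 ⊕ Fin 2) ⊕ Fin 2) ((Fin 2 ⊕ Fin 2) ⊕ Fin 2) F,
      (∀ v, T E l (A *ᵥ v) = T E l (B *ᵥ v)) → A = B := fun A B h =>
    Matrix.toLin'.injective (LinearMap.ext fun v => by
      rw [Matrix.toLin'_apply, Matrix.toLin'_apply]; exact T_inj E l hD hl0 (h v))
  let M : Cfsg.SU 4 K q →* Matrix ((Fin 2 ⊕ Fin 2) ⊕ Fin 2) ((Fin 2 ⊕ Fin 2) ⊕ Fin 2) F :=
    { toFun := fun g => LinearMap.toMatrix' (Lf g)
      map_one' := hMext _ _ fun v => by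
        rw [hM, Matrix.one_mulVec]
        show wedge ((1 : Matrix.SpecialLinearGroup (Fin 4) K) : Matrix (Fin 4) (Fin 4) K) *ᵥ _ = _
        rw [Matrix.SpecialLinearGroup.coe_one, wedge_one, Matrix.one_mulVec]
      map_mul' := fun g h => hMext _ _ fun v => by
        rw [hM, ← Matrix.mulVec_mulVec, hM, hM, Matrix.mulVec_mulVec]
        show wedge (((g : Matrix.SpecialLinearGroup (Fin 4) K) * (h : Matrix.SpecialLinearGroup (Fin 4) K) :
          Matrix.SpecialLinearGroup (Fin 4) K) : Matrix (Fin 4) (Fin 4) K) *ᵥ _ = _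
        rw [Matrix.SpecialLinearGroup.coe_mul, wedge_mul] }
  have hMv : ∀ g v, T E l (M g *ᵥ v) = W g *ᵥ T E l v := fun g v => hM g v
  have hpres : ∀ g v, Cfsg.quadFormMinus 2 F a b (M g *ᵥ v) = Cfsg.quadFormMinus 2 F a b v := fun g v => by
    apply E.emb.injective
    rw [← pf_T E l hD hl, ← pf_T E l hD hl, hMv, pf_wedge, (g : Matrix.SpecialLinearGroup (Fin 4) K).2, one_mul]
  let r : Cfsg.SU 4 K q →* Cfsg.isometryGroup F (Cfsg.quadFormMinus 2 F a b) :=
    M.toHomUnits.codRestrict _ fun g => Klein.mem_isometryGroup_of _ _ fun u => by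
      rw [MonoidHom.coe_toHomUnits]; exact hpres g u
  have hr : ∀ g, ((r g : GL ((Fin 2 ⊕ Fin 2) ⊕ Fin 2) F) : Matrix _ _ F) = M g := fun g => MonoidHom.coe_toHomUnits M g
  have hperf : commutator (Cfsg.SU 4 K q) = ⊤ := UnitarySimple.perfect ⟨hK, by norm_num⟩ (Or.inl le_rfl)
  have hs : IsSimpleGroup (Cfsg.PSU 4 K q) := UnitarySimple.isSimple ⟨hK, by norm_num⟩ (Or.inl le_rfl)
  refine Klein.pomega_equiv_of _ r hperf hs (fun z hz => ?_) ?_ ?_
  · obtain ⟨c, hc⟩ := Unitary.scalar_of_comm hK (by norm_num : 2 ≤ 4) ((z : Matrix.SpecialLinearGroup (Fin 4) K) : Matrix (Fin 4) (Fin 4) K)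
      fun g => congrArg (fun x : Cfsg.SU 4 K q => ((x : Matrix.SpecialLinearGroup (Fin 4) K) : Matrix (Fin 4) (Fin 4) K))
        (Subgroup.mem_center_iff.1 hz g)
    have hd := (z : Matrix.SpecialLinearGroup (Fin 4) K).2
    rw [hc, Matrix.det_smul, Matrix.det_one, mul_one, Fintype.card_fin] at hd
    obtain ⟨e, he⟩ : ∃ e : F, E.emb e = c * c := by
      rcases mul_self_eq_one_iff.1 (by linear_combination hd : (c * c) * (c * c) = 1) with h | h
      · exact ⟨1, by rw [map_one, h]⟩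
      · exact ⟨-1, by rw [map_neg, map_one, h]⟩
    refine ⟨e, ?_⟩
    rw [hr]
    refine hMext _ _ fun v => ?_
    rw [hMv, Matrix.smul_mulVec, Matrix.one_mulVec, T_smul]
    show wedge ((z : Matrix.SpecialLinearGroup (Fin 4) K) : Matrix (Fin 4) (Fin 4) K) *ᵥ _ = _
    rw [hc, Klein.wedge_smul, wedge_one, Matrix.smul_mulVec, Matrix.one_mulVec, he]
  · have hw0 : E.w ≠ 0 := fun h => E.w_ne (by rw [h, map_zero])
    have hw1 : E.sig E.w ≠ 0 := (map_ne_zero E.sig).2 hw0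
    let u : K := E.sig E.w / E.w
    let d : Fin 4 → K := ![u, u⁻¹, 1, 1]
    have hu : u * u ^ q = 1 := by
      rw [← hσq]
      show E.sig E.w / E.w * E.sig (E.sig E.w / E.w) = 1
      rw [map_div₀, E.sig_sig]
      field_simp
    have hdn : ∀ i, d i * d i ^ q = 1 := fun i => by
      fin_cases i <;> simp [d, hu, ← mul_inv, inv_pow]
    let g : Cfsg.SU 4 K q := ⟨⟨Matrix.diagonal d, by
      rw [Matrix.det_diagonal, Fin.prod_univ_four]
      simp [d, u, hw0, hw1]⟩, Unitary.diag_mem hK d hdn _ rfl⟩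
    refine ⟨g, fun h => ?_⟩
    obtain ⟨v, hv⟩ := T_surj E l hD hl0 (x := (Sum.elim ![0, 1, 0] ![0, -1, 0] : Fin 3 ⊕ Fin 3 → K)) (by
      funext i
      rcases i with i | i
      · rw [Function.comp_apply, pol_inl]; fin_cases i <;> simp
      · rw [Function.comp_apply, pol_inr]; fin_cases i <;> simp)
    have h1 := hMv g v
    rw [← hr, h, OneMemClass.coe_one, Units.val_one, Matrix.one_mulVec, hv] at h1
    have h2 := congrFun h1 (Sum.inl 1)
    simp [W, g, d, wedge, Cfsg.Agent.S0256.pr, Matrix.mulVec, dotProduct, Fintype.sum_sum_type, Fin.sum_univ_three,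
      Matrix.diagonal_apply] at h2
    apply E.w_ne
    have h3 : E.sig E.w / E.w = 1 := h2.symm
    rwa [div_eq_one_iff_eq hw0] at h3
  · have h1 := Cfsg.Agent.S0280.result hK 4 (by norm_num)
    have h2 := KleinMinus.card_POmega_minus 3 le_rfl a b hab
    rw [hF] at h2
    simp only [Finset.prod_range_succ, Finset.prod_range_zero, show 3 - 1 = 2 from rfl] at h1 h2
    norm_num [-Nat.card_eq_fintype_card, parity_simps] at h1 h2
    have hq2 : 2 ≤ q := hF ▸ Fintype.one_lt_card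
    have hg : Nat.gcd 4 (q ^ 3 + 1) = Nat.gcd 4 (q + 1) := by
      rcases Nat.even_or_odd q with he | ho
      · have h4 : ∀ x : ℕ, x % 2 = 1 → Nat.gcd 4 x = 1 := fun x hx => by
          rw [Nat.gcd_rec]
          rcases (by omega : x % 4 = 1 ∨ x % 4 = 3) with h | h <;> rw [h] <;> rfl
        have := Nat.even_iff.1 he
        have : q ^ 3 % 2 = 0 := by rw [Nat.pow_mod, this]
        rw [h4 _ (by omega), h4 _ (by omega)]
      · obtain ⟨k, rfl⟩ := ho
        rw [show (2 * k + 1) ^ 3 + 1 = (2 * k + 1 + 1) + 4 * (2 * k ^ 3 + 3 * k ^ 2 + k) by ring, Nat.gcd_add_mul_left_right]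
    rw [hg] at h2
    have hpos : 0 < Nat.gcd 4 (q + 1) * (q + 1) := Nat.mul_pos (Nat.gcd_pos_of_pos_left _ (by norm_num)) (by omega)
    apply Nat.eq_of_mul_eq_mul_left hpos
    show Nat.gcd 4 (q + 1) * (q + 1) * Nat.card (Cfsg.PSU 4 K q) = _
    linear_combination h1 - (q + 1) * h2

end Cfsg.Agent.S0303
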