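import Cfsg.Statements.S0013
import Cfsg.Agent.Lib.Solv.Misc

set_option autoImplicit false
open scoped Pointwise
open Cfsg

namespace Cfsg.Agent.S0013

/-- In a finite p-group the Frattini subgroup is the smallest normal subgroup with elementary abelian quotient: it lies below any normal subgroup containing all commutators and all p-th powers. -/
theorem result {G : Type*} [Group G] [Finite G] (p : ℕ) [Fact p.Prime]
    (hG : IsPGroup p G) (N : Subgroup G) [N.Normal] (hcomm : commutator G ≤ N) (hpow : ∀ x : G, x ^ p ∈ N) :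
    frattini G ≤ N := by
  intro x hx
  by_contra hxN
  obtain ⟨M, hM⟩ := (Set.toFinite {M : Subgroup G | N ≤ M ∧ x ∉ M}).exists_maximal ⟨N, le_rfl, hxN⟩
  haveI : M.Normal := Subgroup.Normal.of_commutator_le G (hcomm.trans hM.1.1)
  have key : ∀ y, y ∉ M → y ∈ M ⊔ Subgroup.zpowers x := by
    intro y hy
    have hlt : M < M ⊔ Subgroup.zpowers y :=
      lt_of_le_of_ne le_sup_left fun h => hy (h ▸ Subgroup.mem_sup_right (Subgroup.mem_zpowers y))
    have hx' : x ∈ M ⊔ Subgroup.zpowers y := by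
      by_contra hh
      exact hlt.not_ge (hM.2 ⟨hM.1.1.trans le_sup_left, hh⟩ hlt.le)
    obtain ⟨m, hm, z, hz, rfl⟩ := Subgroup.mem_sup_of_normal_left.mp hx'
    obtain ⟨k, rfl⟩ := Subgroup.mem_zpowers_iff.mp hz
    have hyp : y ^ (p : ℤ) ∈ M := by rw [zpow_natCast]; exact hM.1.1 (hpow y)
    have hkp : IsCoprime k (p : ℤ) := by
      refine ((Nat.prime_iff_prime_int.mp (Fact.out : p.Prime)).coprime_iff_not_dvd.mpr ?_).symm
      rintro ⟨c, rfl⟩
      exact hM.1.2 (M.mul_mem hm (by rw [zpow_mul]; exact M.zpow_mem hyp c))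
    obtain ⟨a, b, hab⟩ := hkp
    have h1 : y = (y ^ k) ^ a * (y ^ (p : ℤ)) ^ b := by
      rw [← zpow_mul, ← zpow_mul, ← zpow_add, mul_comm k a, mul_comm (p : ℤ) b, hab, zpow_one]
    refine (congrArg (· ∈ M ⊔ Subgroup.zpowers (m * y ^ k)) h1).mpr ?_
    refine mul_mem (zpow_mem ?_ a) (Subgroup.mem_sup_left (M.zpow_mem hyp b))
    simpa only [inv_mul_cancel_left] using mul_mem
      (Subgroup.mem_sup_left (M.inv_mem hm) : _ ∈ M ⊔ Subgroup.zpowers (m * y ^ k))
      (Subgroup.mem_sup_right (Subgroup.mem_zpowers _))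
  have hco : IsCoatom M := by
    refine ⟨fun h => hM.1.2 (h ▸ Subgroup.mem_top x), fun H hH => ?_⟩
    have hxH : x ∈ H := by
      by_contra hh
      exact hH.not_ge (hM.2 ⟨hM.1.1.trans hH.le, hh⟩ hH.le)
    rw [eq_top_iff]
    intro y _
    by_cases hy : y ∈ M
    · exact hH.le hy
    · exact sup_le hH.le (Subgroup.zpowers_le.mpr hxH) (key y hy)
  exact hM.1.2 (frattini_le_coatom hco hx)

end Cfsg.Agent.S0013
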