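import Cfsg.Statements.S0121
import Cfsg.Agent.Lib.Solv.Misc

set_option autoImplicit false
open scoped Pointwise
open Cfsg

namespace Cfsg.Agent.S0121

/-- A p'-automorphism of a p-group acting trivially on a critical subgroup is trivial. -/
theorem result {G : Type*} [Group G] [Finite G] {p : ℕ} [Fact p.Prime] (hG : IsPGroup p G) (H : Subgroup G) (hH : H.Characteristic) (h1 : (frattini H).map H.subtype ≤ Subgroup.centralizer (H : Set G)) (h2 : ⁅H, (⊤ : Subgroup G)⁆ ≤ H ⊓ Subgroup.centralizer (H : Set G)) (h3 : Subgroup.centralizer (H : Set G) ≤ H) (a : MulAut G) (ha : Nat.Coprime (orderOf a) p) (h : ∀ x ∈ H, a x = x) : a = 1 := by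
  haveI := hH
  refine MulEquiv.ext fun x => ?_
  set c := x⁻¹ * a x with hc
  have hcF : c ∈ H := by
    refine h3 fun f hf => ?_
    have h4 := h _ ((inferInstance : H.Normal).conj_mem f hf x)
    rw [map_mul, map_mul, map_inv, h f hf] at h4
    calc f * c = x⁻¹ * (x * f * x⁻¹) * a x := by rw [hc]; group
      _ = x⁻¹ * (a x * f * (a x)⁻¹) * a x := by rw [h4]
      _ = c * f := by rw [hc]; group
  have hn : ∀ n : ℕ, (a ^ n) x = x * c ^ n := by
    intro n
    induction n with
    | zero => simp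
    | succ n ih =>
      rw [pow_succ', MulAut.mul_apply, ih, map_mul, map_pow, h c hcF, pow_succ', ← mul_assoc]
      congr 1
      rw [hc]; group
  have h5 := hn (orderOf a)
  rw [pow_orderOf_eq_one, MulAut.one_apply, left_eq_mul] at h5
  obtain ⟨k, hk⟩ := hG c
  have hd : orderOf c ∣ Nat.gcd (orderOf a) (p ^ k) :=
    Nat.dvd_gcd (orderOf_dvd_of_pow_eq_one h5) (orderOf_dvd_of_pow_eq_one hk)
  rw [(ha.pow_right k).gcd_eq_one, Nat.dvd_one, orderOf_eq_one_iff, hc, inv_mul_eq_one] at hd
  exact hd.symm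

end Cfsg.Agent.S0121
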