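import Cfsg.Statements.S0056
import Cfsg.Agent.Lib.Solv.Misc

set_option autoImplicit false
open scoped Pointwise commutatorElement
open Cfsg

namespace Cfsg.Agent.S0056

/-- A coprime action on an abelian group that fixes all elements of prime order is trivial. -/
theorem result {G : Type*} [Group G] [Finite G] (A V : Subgroup G) [IsMulCommutative V]
    (hAV : A ≤ Subgroup.normalizer (V : Set G)) (hcop : (Nat.card A).Coprime (Nat.card V))
    (hΩ : ∀ v ∈ V, (orderOf v).Prime → ∀ a ∈ A, a * v = v * a) : A ≤ Subgroup.centralizer (V : Set G) := by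
  classical
  haveI := Fintype.ofFinite A
  letI : CommGroup V := { (inferInstance : Group V) with mul_comm := fun a b => mul_comm' a b }
  have hn : ∀ a : A, ∀ v : V, (a : G) * v * (a : G)⁻¹ ∈ V := fun a v =>
    (Subgroup.mem_normalizer_iff.mp (hAV a.2) _).mp v.2
  let φ : A → (V →* V) := fun a => MonoidHom.mk' (fun v => ⟨_, hn a v⟩) (fun u v => by
    apply Subtype.ext
    change (a : G) * ((u : G) * v) * (a : G)⁻¹ = ((a : G) * u * (a : G)⁻¹) * ((a : G) * v * (a : G)⁻¹)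
    group)
  let θ : V →* V := ∏ a : A, φ a
  have hθ : ∀ a : A, ∀ v : V, θ (φ a v) = θ v := fun a v => by
    simp only [θ, MonoidHom.finset_prod_apply]
    refine Fintype.prod_equiv (Equiv.mulRight a) _ _ (fun b => Subtype.ext ?_)
    change (b : G) * ((a : G) * v * (a : G)⁻¹) * (b : G)⁻¹ = ((b : G) * a) * v * ((b : G) * a)⁻¹
    group
  have hW : ⁅V, A⁆ ≤ θ.ker.map V.subtype := Subgroup.commutator_le.mpr fun v hv a ha => by
    refine ⟨⟨v, hv⟩ * (φ ⟨a, ha⟩ ⟨v, hv⟩)⁻¹, ?_, ?_⟩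
    · change θ _ = 1
      rw [map_mul, map_inv, hθ, mul_inv_cancel]
    · change v * (a * v * a⁻¹)⁻¹ = ⁅v, a⁆
      rw [commutatorElement_def]; group
  rw [← Subgroup.commutator_eq_bot_iff_le_centralizer, Subgroup.commutator_comm]
  by_contra hne
  obtain ⟨⟨w, hw⟩, hw1⟩ := Subgroup.ne_bot_iff_exists_ne_one.mp hne
  obtain ⟨q, hq, hqd⟩ := Nat.exists_prime_and_dvd (n := Nat.card ↥⁅V, A⁆) (fun h => hne (Subgroup.card_eq_one.mp h))
  haveI : Fact q.Prime := ⟨hq⟩
  obtain ⟨⟨c, hc⟩, hco⟩ := exists_prime_orderOf_dvd_card' q hqd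
  rw [← Subgroup.orderOf_coe] at hco
  have hcV : c ∈ V := Cfsg.Agent.Solv.commutator_normalizer_le A V hAV hc
  have hfix : ∀ a : A, φ a ⟨c, hcV⟩ = ⟨c, hcV⟩ := fun a => Subtype.ext (by
    change (a : G) * c * (a : G)⁻¹ = c
    rw [hΩ c hcV (hco.symm ▸ hq) a a.2, mul_assoc, mul_inv_cancel, mul_one])
  have hpow : (⟨c, hcV⟩ : V) ^ Nat.card A = 1 := by
    obtain ⟨k, hk, hkc⟩ := hW hc
    have h1 : θ ⟨c, hcV⟩ = 1 := by
      have : k = ⟨c, hcV⟩ := Subtype.ext hkc
      exact this ▸ hk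
    rw [← h1]
    simp only [θ, MonoidHom.finset_prod_apply, hfix, Finset.prod_const, Finset.card_univ, Nat.card_eq_fintype_card]
  have hd : orderOf (⟨c, hcV⟩ : V) ∣ Nat.gcd (Nat.card A) (Nat.card V) :=
    Nat.dvd_gcd (orderOf_dvd_of_pow_eq_one hpow) (orderOf_dvd_natCard _)
  rw [hcop, Subgroup.orderOf_mk, hco, Nat.dvd_one] at hd
  exact hq.one_lt.ne' hd

end Cfsg.Agent.S0056
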