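import Cfsg.Statements.S0646
import Cfsg.Agent.Lib.Solv.CyclicIndexP

set_option autoImplicit false
open scoped Pointwise
open Cfsg

namespace Cfsg.Agent.S0646

/-- Classification of non-abelian 2-groups with a cyclic maximal subgroup: dihedral, generalized quaternion, and for order at least 16 the modular group and the semidihedral group, each given by generators a (of index 2) and b with the stated relations. -/
theorem result {G : Type*} [Group G] [Finite G] (n : ℕ) (hn : 3 ≤ n) (hG : Nat.card G = 2 ^ n) (C : Subgroup G) (hC : IsCyclic C) (hCi : C.index = 2) (hna : ∃ x y : G, x * y ≠ y * x) : ∃ a b : G, orderOf a = 2 ^ (n - 1) ∧ b ∉ Subgroup.zpowers a ∧ ((b ^ 2 = 1 ∧ b * a * b⁻¹ = a⁻¹) ∨ (b ^ 2 = a ^ (2 ^ (n - 2)) ∧ b * a * b⁻¹ = a⁻¹) ∨ (4 ≤ n ∧ b ^ 2 = 1 ∧ b * a * b⁻¹ = a ^ (1 + 2 ^ (n - 2))) ∨ (4 ≤ n ∧ b ^ 2 = 1 ∧ b * a * b⁻¹ = a ^ (2 ^ (n - 2) - 1))) := by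
  obtain ⟨k, rfl⟩ : ∃ k, n = k + 3 := ⟨n - 3, by omega⟩
  haveI : Fact (Nat.Prime 2) := ⟨Nat.prime_two⟩
  haveI := Solv.CycP.normal_of_index_prime (IsPGroup.of_card hG) C hCi
  obtain ⟨⟨c, hcC⟩, hgen⟩ := isCyclic_iff_exists_zpowers_eq_top.mp hC
  have hCc : C = Subgroup.zpowers c := by
    have := congrArg (Subgroup.map C.subtype) hgen
    rw [MonoidHom.map_zpowers, ← MonoidHom.range_eq_map, Subgroup.range_subtype] at this
    exact this.symm
  have hc : orderOf c = 2 ^ (k + 2) := by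
    have h1 := C.card_mul_index
    rw [hCi, hG, hCc, Nat.card_zpowers, pow_succ] at h1
    exact Nat.eq_of_mul_eq_mul_right two_pos h1
  obtain ⟨g, hg⟩ : ∃ g, g ∉ C := by
    by_contra hno
    simp only [not_exists, not_not] at hno
    rw [(Subgroup.eq_top_iff' C).mpr hno, Subgroup.index_top] at hCi
    norm_num at hCi
  obtain ⟨r, hr⟩ := Subgroup.mem_zpowers_iff.mp
    (hCc ▸ Subgroup.Normal.conj_mem inferInstance c hcC g)
  obtain ⟨j, hj⟩ := Subgroup.mem_zpowers_iff.mp (hCc ▸ (C.sq_mem_of_index_two hCi g))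
  have key : ∀ x y : ℤ, (2 : ℤ) ^ (k + 2) ∣ x - y → c ^ x = c ^ y := fun x y h => by
    rw [← mul_inv_eq_one, ← zpow_neg, ← zpow_add, ← orderOf_dvd_iff_zpow_eq_one, hc, ← sub_eq_add_neg]
    exact_mod_cast h
  have key' : ∀ x y : ℤ, c ^ x = c ^ y → (2 : ℤ) ^ (k + 2) ∣ x - y := fun x y h => by
    rw [← mul_inv_eq_one, ← zpow_neg, ← zpow_add, ← orderOf_dvd_iff_zpow_eq_one, hc, ← sub_eq_add_neg] at h
    exact_mod_cast h
  have hjr : (2 : ℤ) ^ (k + 2) ∣ r * j - j := key' _ _ (by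
    rw [zpow_mul, hr, conj_zpow, hj]; group)
  have hrr : (2 : ℤ) ^ (k + 2) ∣ r * r - 1 := key' _ _ (by
    rw [zpow_one, zpow_mul, hr, conj_zpow, hr,
      show g * (g * c * g⁻¹) * g⁻¹ = g ^ 2 * c * (g ^ 2)⁻¹ by simp [pow_two, mul_assoc], ← hj]
    group)
  have hne : ¬ (2 : ℤ) ^ (k + 2) ∣ r - 1 := by
    intro h
    obtain ⟨x, y, hxy⟩ := hna
    have hgc : Commute g c := by
      have := (key r 1 h).symm.trans hr
      rw [zpow_one] at this
      exact (eq_mul_inv_iff_mul_eq.mp this).symm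
    have hdec : ∀ w : G, ∃ e : ℕ, ∃ i : ℤ, w = g ^ e * c ^ i := by
      intro w
      by_cases hw : w ∈ C
      · obtain ⟨i, rfl⟩ := Subgroup.mem_zpowers_iff.mp (hCc ▸ hw)
        exact ⟨0, i, by simp⟩
      · have h2 : g⁻¹ * w ∈ C := (Subgroup.mul_mem_iff_of_index_two hCi).mpr
          (by simp only [inv_mem_iff]; exact ⟨fun h => absurd h hg, fun h => absurd h hw⟩)
        obtain ⟨i, hi⟩ := Subgroup.mem_zpowers_iff.mp (hCc ▸ h2)
        exact ⟨1, i, by rw [hi, pow_one, mul_inv_cancel_left]⟩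
    obtain ⟨e, i, rfl⟩ := hdec x
    obtain ⟨e', i', rfl⟩ := hdec y
    exact hxy ((((Commute.refl g).pow_pow e e').mul_right ((hgc.pow_left e).zpow_right i')).mul_left
      ((((hgc.pow_left e').zpow_right i)).symm.mul_right ((Commute.refl c).zpow_zpow i i'))).eq
  have hsq : ∀ i : ℤ, (c ^ i * g) ^ 2 = c ^ (i + r * i + j) := fun i => by
    rw [pow_two, show c ^ i * g * (c ^ i * g) = c ^ i * (g * c ^ i * g⁻¹) * (g * g) by group,
      ← conj_zpow, ← hr, ← zpow_mul, ← pow_two, ← hj, ← zpow_add, ← zpow_add]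
  have hcj : ∀ i : ℤ, c ^ i * g * c * (c ^ i * g)⁻¹ = c ^ r := fun i => by
    rw [show c ^ i * g * c * (c ^ i * g)⁻¹ = c ^ i * (g * c * g⁻¹) * (c ^ i)⁻¹ by group, ← hr]
    group
  have hout : ∀ i : ℤ, c ^ i * g ∉ Subgroup.zpowers c := fun i h => hg (hCc ▸ by
    have := Subgroup.mul_mem _ (Subgroup.inv_mem _ (Subgroup.zpow_mem _ (Subgroup.mem_zpowers c) i)) h
    rwa [inv_mul_cancel_left] at this)
  have h2k : ((2 : ℕ) : ℤ) ^ (k + 1) = (2 : ℤ) ^ (k + 1) := by norm_num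
  have hpow : c ^ (2 ^ (k + 1) : ℕ) = c ^ ((2 : ℤ) ^ (k + 1)) := by rw [← zpow_natCast]; norm_num
  refine ⟨c, ?_⟩
  rw [show k + 3 - 1 = k + 2 from rfl, show k + 3 - 2 = k + 1 from rfl]
  have hodd : ∃ u : ℤ, r = 2 * u + 1 := by
    obtain ⟨u, hu | hu⟩ := Int.even_or_odd' r
    · exfalso
      obtain ⟨t, ht⟩ := hrr
      rw [hu, pow_succ] at ht
      have : (2 : ℤ) ∣ 1 := ⟨2 * u * u - 2 ^ (k + 1) * t, by linarith⟩
      norm_num at this
    · exact ⟨u, hu⟩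
  obtain ⟨u, rfl⟩ := hodd
  have hprod : (2 : ℤ) ^ k ∣ u * (u + 1) := by
    obtain ⟨t, ht⟩ := hrr
    exact ⟨t, by rw [pow_succ, pow_succ] at ht; linarith⟩
  have hcop : ∀ w : ℤ, IsCoprime ((2 : ℤ) ^ k) (2 * w + 1) := fun w =>
    IsCoprime.pow_left ⟨-w, 1, by ring⟩
  obtain ⟨w, hw | hw⟩ := Int.even_or_odd' u
  · -- `r ≡ 1 + 2^(k+1)`
    subst hw
    obtain ⟨t, ht⟩ : (2 : ℤ) ^ k ∣ 2 * w := (hcop w).dvd_of_dvd_mul_right hprod
    obtain ⟨s, hs | hs⟩ := Int.even_or_odd' t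
    · exact absurd ⟨s, by rw [ht, hs, pow_succ, pow_succ]; ring⟩ hne
    have hk : 1 ≤ k := by
      rcases Nat.eq_zero_or_pos k with rfl | h
      · exfalso
        rw [hs, pow_zero] at ht
        omega
      · exact h
    obtain ⟨q, hq⟩ : (2 : ℤ) ∣ j := by
      obtain ⟨z, hz⟩ := hjr
      have : (2 : ℤ) ^ (k + 1) * ((2 * s + 1) * j) = 2 ^ (k + 1) * (2 * z) := by
        rw [show (2 * (2 * w) + 1) * j - j = 2 * (2 * w) * j by ring, ht, hs, pow_succ, pow_succ] at hz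
        rw [pow_succ]; linear_combination hz
      have h2 := mul_left_cancel₀ (pow_ne_zero _ two_ne_zero) this
      exact ⟨z - s * j, by linarith⟩
    obtain ⟨a', b', hab⟩ : IsCoprime ((2 : ℤ) ^ (k + 1)) (2 * w + 1) :=
      IsCoprime.pow_left ⟨-w, 1, by ring⟩
    refine ⟨c ^ (-(q * b')) * g, hc, hout _, Or.inr (Or.inr (Or.inl ⟨by omega, ?_, ?_⟩))⟩
    · rw [hsq, ← zpow_zero c]
      refine key _ _ ⟨q * a' + 0, ?_⟩
      obtain ⟨k', rfl⟩ : ∃ k', k = k' + 1 := ⟨k - 1, by omega⟩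
      have e : 2 * q - 2 * q * b' * (2 * w + 1) = 2 * q * a' * 2 ^ (k' + 1 + 1) := by
        linear_combination (-2 * q) * hab
      rw [hq]
      simp only [pow_succ] at e ⊢
      linear_combination e
    · rw [hcj, ← zpow_natCast]
      refine key _ _ ⟨s, ?_⟩
      push_cast
      rw [ht, hs, pow_succ, pow_succ]; ring
  · -- `r ≡ -1` or `r ≡ -1 + 2^(k+1)`
    subst hw
    obtain ⟨t, ht⟩ : (2 : ℤ) ^ k ∣ 2 * w + 1 + 1 := (hcop w).dvd_of_dvd_mul_left hprod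
    obtain ⟨z, hz⟩ : (2 : ℤ) ^ (k + 1) ∣ j := by
      obtain ⟨z, hz⟩ := hjr
      have h1 : (2 : ℤ) ^ (k + 1) ∣ (2 * w + 1) * j := ⟨z, by rw [pow_succ (2 : ℤ) (k + 1)] at hz; linarith⟩
      exact (IsCoprime.pow_left ⟨-w, 1, by ring⟩).dvd_of_dvd_mul_left h1
    obtain ⟨s, hs | hs⟩ := Int.even_or_odd' t
    · have hinv : c ^ (2 * (2 * w + 1) + 1 : ℤ) = c⁻¹ := by
        rw [← zpow_neg_one]
        refine key _ _ ⟨s, ?_⟩
        rw [pow_succ, pow_succ, show (2 * (2 * w + 1) + 1 : ℤ) - -1 = 2 * (2 * w + 1 + 1) by ring, ht, hs]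
        ring
      refine ⟨c ^ (0 : ℤ) * g, hc, hout _, ?_⟩
      obtain ⟨q, hq | hq⟩ := Int.even_or_odd' z
      · refine Or.inl ⟨?_, (hcj 0).trans hinv⟩
        rw [hsq, ← zpow_zero c]
        exact key _ _ ⟨q, by rw [hz, hq, pow_succ _ (k + 1)]; ring⟩
      · refine Or.inr (Or.inl ⟨?_, (hcj 0).trans hinv⟩)
        rw [hsq, ← zpow_natCast]
        exact key _ _ ⟨q, by push_cast; rw [hz, hq, pow_succ _ (k + 1)]; ring⟩
    · have hk : 1 ≤ k := by
        rcases Nat.eq_zero_or_pos k with rfl | h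
        · exfalso
          rw [hs, pow_zero] at ht
          omega
        · exact h
      refine ⟨c ^ z * g, hc, hout _, Or.inr (Or.inr (Or.inr ⟨by omega, ?_, ?_⟩))⟩
      · rw [hsq, ← zpow_zero c]
        refine key _ _ ⟨z * s + z, ?_⟩
        rw [hz, show z + (2 * (2 * w + 1) + 1) * z = 2 * (2 * w + 1 + 1) * z by ring, ht, hs]
        ring
      · rw [hcj, ← zpow_natCast]
        refine key _ _ ⟨s, ?_⟩
        rw [Nat.cast_sub Nat.one_le_two_pow]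
        push_cast
        rw [show (2 * (2 * w + 1) + 1 : ℤ) - (2 ^ (k + 1) - 1) = 2 * (2 * w + 1 + 1) - 2 ^ (k + 1) by ring,
          ht, hs]
        ring

end Cfsg.Agent.S0646
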