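import Cfsg.Statements.S4399
import Cfsg.Agent.Lib.Solv.MaxClassTwo
import Cfsg.Agent.Lib.Struct.UniqueOrderP
import Cfsg.Agent.Lib.Classical.DihedralRecog
import Cfsg.Agent.Lib.Solv.CyclicIndexP
import Cfsg.Agent.S0646

set_option autoImplicit false
open scoped Pointwise
open scoped commutatorElement
open Cfsg

namespace Cfsg.Agent.S4399

/-- Let S be a finite 2-group whose commutator quotient S/[S,S] is a Klein four-group (order 4 and exponent 2). Then S itself has order 4, or S is dihedral of order at least 8, semidihedral of order at least 16 (order 2^(k+4) with an element a of order 2^(k+3) and an involution b with b a b⁻¹ = a^(2^(k+2)−1)), or generalized quaternion of order at least 8. -/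
theorem result {S : Type*} [Group S] [Finite S] (h2 : IsPGroup 2 S) (hab : Nat.card (Abelianization S) = 4)
    (hexp : ∀ x : Abelianization S, x ^ 2 = 1) :
    Nat.card S = 4 ∨
    ((∃ k : ℕ, Nonempty (S ≃* DihedralGroup (2 ^ (k + 2)))) ∨
      (∃ k : ℕ, Nat.card S = 2 ^ (k + 4) ∧ ∃ a b : S, orderOf a = 2 ^ (k + 3) ∧ orderOf b = 2 ∧ b * a * b⁻¹ = a ^ (2 ^ (k + 2) - 1)) ∨
      (∃ k : ℕ, Nonempty (S ≃* QuaternionGroup (2 ^ (k + 1))))) := by
  open Subgroup in
  obtain ⟨n, hn⟩ := IsPGroup.iff_card.1 h2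
  have h4 : (commutator S).index = 4 := by rw [index_eq_card]; exact hab
  by_cases h8 : n ≤ 2
  · left
    have h := Subgroup.card_mul_index (commutator S)
    rw [h4, hn] at h
    have h' : Nat.card (commutator S) ≤ 1 := by
      have : (2 : ℕ) ^ n ≤ 2 ^ 2 := Nat.pow_le_pow_right two_pos h8
      omega
    have : 0 < Nat.card (commutator S) := Nat.card_pos
    rw [hn, ← h, show Nat.card (commutator S) = 1 by omega]
  right
  have hn3 : 3 ≤ n := by omega
  haveI : Fact (Nat.Prime 2) := ⟨Nat.prime_two⟩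
  have hna := Cfsg.Agent.Solv.MaxClass.not_comm_of_index_four hn3 hn h4
  obtain ⟨c, hc⟩ := Cfsg.Agent.Solv.MaxClass.exists_cyclic_index_two n hn3 S hn h4
  obtain ⟨a, b, ha, hb, hcase⟩ := Cfsg.Agent.S0646.result n hn3 hn (zpowers c) inferInstance hc hna
  obtain ⟨k, rfl⟩ : ∃ k, n = k + 3 := ⟨n - 3, by omega⟩
  rw [show k + 3 - 1 = k + 2 from rfl] at ha
  rw [show k + 3 - 2 = k + 1 from rfl] at hcase
  have hai : (zpowers a).index = 2 := by
    have h1 := (zpowers a).card_mul_index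
    rw [Nat.card_zpowers, ha, hn, pow_succ 2 (k + 2)] at h1
    exact Nat.eq_of_mul_eq_mul_left (pow_pos two_pos _) h1
  have hall : ∀ g : S, (∃ i : ℤ, g = a ^ i) ∨ ∃ i : ℤ, g = a ^ i * b := by
    intro g
    by_cases hg : g ∈ zpowers a
    · exact Or.inl ((mem_zpowers_iff.1 hg).imp fun i hi => hi.symm)
    · have h1 : g * b⁻¹ ∈ zpowers a := (mul_mem_iff_of_index_two hai).2
        ⟨fun h => absurd h hg, fun h => absurd ((inv_mem_iff).1 h) hb⟩
      obtain ⟨i, hi⟩ := mem_zpowers_iff.1 h1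
      exact Or.inr ⟨i, by rw [hi, inv_mul_cancel_right]⟩
  have hz : orderOf (a ^ 2 ^ (k + 1)) = 2 := by
    rw [orderOf_pow_of_dvd (pow_ne_zero _ two_ne_zero) (ha ▸ pow_dvd_pow 2 (by omega)), ha,
      pow_succ 2 (k + 1), Nat.mul_div_cancel_left _ (pow_pos two_pos _)]
  rcases hcase with ⟨hb2, hba⟩ | ⟨hb2, hba⟩ | ⟨hk, hb2, hba⟩ | ⟨hk, hb2, hba⟩
  · refine Or.inl ⟨k, ?_⟩
    have key := Cfsg.Agent.Classical.nonempty_dihedral (zpowers a).subtype
      (zpowers a).subtype_injective b (by rw [← pow_two, hb2])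
      (fun c hc => hb (hc ▸ c.2)) ?_ ?_
    · rwa [Nat.card_zpowers, ha] at key
    · rintro ⟨c, hc⟩
      obtain ⟨i, rfl⟩ := mem_zpowers_iff.1 hc
      have h1 : b⁻¹ = b := inv_eq_of_mul_eq_one_right (by rw [← pow_two, hb2])
      have h2 := conj_zpow (a := b) (b := a) (i := i)
      rw [hba, inv_zpow, h1] at h2
      exact h2.symm
    · intro g
      rcases hall g with ⟨i, rfl⟩ | ⟨i, rfl⟩
      · exact ⟨⟨_, zpow_mem (mem_zpowers a) i⟩, Or.inl rfl⟩
      · exact ⟨⟨_, zpow_mem (mem_zpowers a) i⟩, Or.inr rfl⟩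
  · refine Or.inr (Or.inr ⟨k, ?_⟩)
    have hout : ∀ i : ℤ, (a ^ i * b) ^ 2 ≠ 1 := by
      intro i h
      rw [pow_two, show a ^ i * b * (a ^ i * b) = a ^ i * (b * a ^ i * b⁻¹) * b ^ 2 by
        rw [pow_two]; group, ← conj_zpow, hba, inv_zpow, mul_inv_cancel, one_mul, hb2] at h
      rw [h, orderOf_one] at hz
      exact absurd hz (by norm_num)
    rcases Cfsg.Agent.Struct.cyclic_or_quaternion h2 (fun x y hx hy => by
      rcases hall x with ⟨i, rfl⟩ | ⟨i, rfl⟩
      swap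
      · exact absurd (hx ▸ pow_orderOf_eq_one _) (hout i)
      rcases hall y with ⟨j, rfl⟩ | ⟨j, rfl⟩
      swap
      · exact absurd hy (hout j)
      have h1 : ∀ l : ℤ, (a ^ l) ^ 2 = 1 → a ^ l ∈ zpowers (a ^ 2 ^ (k + 1)) := fun l hl =>
        Cfsg.Agent.Solv.CycP.root_mem (p := 2) ha (zpow_mem (mem_zpowers a) l) hl
      have h2 : zpowers (a ^ i) = zpowers (a ^ 2 ^ (k + 1)) :=
        eq_of_le_of_card_ge (zpowers_le.2 (h1 i (hx ▸ pow_orderOf_eq_one _)))
          (by rw [Nat.card_zpowers, Nat.card_zpowers, hx, hz])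
      rw [h2]
      exact h1 j hy) with hcyc | ⟨-, l, -, ⟨e⟩⟩
    · obtain ⟨x, y, hxy⟩ := hna
      exact absurd (@mul_comm' S _ _ x y) hxy
    · have h := Nat.card_congr e.toEquiv
      rw [hn, Nat.card_eq_fintype_card, QuaternionGroup.card, show 4 * 2 ^ l = 2 ^ (l + 2) by ring] at h
      have := Nat.pow_right_injective le_rfl h
      exact ⟨(show k + 1 = l by omega) ▸ e⟩
  · exfalso
    obtain ⟨k, rfl⟩ : ∃ j, k = j + 1 := ⟨k - 1, by omega⟩
    have hw : ⁅b, a⁆ = a ^ 2 ^ (k + 1 + 1) := by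
      rw [commutatorElement_def, hba, add_comm 1, pow_succ, mul_inv_cancel_right]
    have h1 := Cfsg.Agent.Solv.MaxClass.commutator_le_zpowers (g := b) (c := a)
      (by rw [hb2]; exact Commute.one_left a) (by rw [hw]; exact (Commute.refl a).pow_right _) (fun x => mem_sup_left <| by
        rcases hall x with ⟨i, rfl⟩ | ⟨i, rfl⟩
        · exact zpow_mem (subset_closure (by simp)) i
        · exact mul_mem (zpow_mem (subset_closure (by simp)) i) (subset_closure (by simp)))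
    have h2 := card_le_of_le h1
    rw [hw, Nat.card_zpowers, hz] at h2
    have h3 := Subgroup.card_mul_index (commutator S)
    rw [h4, hn] at h3
    have : (2 : ℕ) ^ 4 ≤ 2 ^ (k + 1 + 3) := Nat.pow_le_pow_right two_pos (by omega)
    omega
  · obtain ⟨k, rfl⟩ : ∃ j, k = j + 1 := ⟨k - 1, by omega⟩
    refine Or.inr (Or.inl ⟨k, hn, a, b, ha, ?_, hba⟩)
    exact orderOf_eq_prime hb2 fun e => hb (e ▸ one_mem _)

end Cfsg.Agent.S4399
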