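import Cfsg.Statements.S4398
import Cfsg.Agent.S4399
import Cfsg.Agent.Lib.Local.PGroup
import Cfsg.Agent.Lib.Solv.MaxClass

set_option autoImplicit false
open Cfsg

namespace Cfsg.Agent.S4398

/-- Let S be a finite 2-group of sectional 2-rank at most 2 that contains a subgroup isomorphic to the dihedral group of order 8 or to the quaternion group of order 8. Then S is dihedral of order at least 8, semidihedral of order at least 16 (order 2^(k+4) with an element a of order 2^(k+3) and an involution b with b a b⁻¹ = a^(2^(k+2)−1)), or generalized quaternion of order at least 8. -/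
theorem result {S : Type*} [Group S] [Finite S] (h2 : IsPGroup 2 S) (hr : Cfsg.SectionalPRankLE 2 2 S)
    (hsub : ∃ H : Subgroup S, Nonempty (↥H ≃* DihedralGroup 4) ∨ Nonempty (↥H ≃* QuaternionGroup 2)) :
    ((∃ k : ℕ, Nonempty (S ≃* DihedralGroup (2 ^ (k + 2)))) ∨
      (∃ k : ℕ, Nat.card S = 2 ^ (k + 4) ∧ ∃ a b : S, orderOf a = 2 ^ (k + 3) ∧ orderOf b = 2 ∧ b * a * b⁻¹ = a ^ (2 ^ (k + 2) - 1)) ∨
      (∃ k : ℕ, Nonempty (S ≃* QuaternionGroup (2 ^ (k + 1))))) := by
  classical
  haveI : Fact (Nat.Prime 2) := ⟨Nat.prime_two⟩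
  -- the small subgroup by generators
  obtain ⟨i, j, z, hz1, hz2, hi2, hji, hj2, hcases⟩ : ∃ i j z : S, z ≠ 1 ∧ z * z = 1 ∧ i * i = z ∧
      j * i * j⁻¹ = i⁻¹ ∧ (j * j = 1 ∨ j * j = z) ∧ True := by
    obtain ⟨H, hH | hH⟩ := hsub
    · obtain ⟨e⟩ := hH
      let f : DihedralGroup 4 →* S := H.subtype.comp e.symm.toMonoidHom
      have hf : Function.Injective f := H.subtype_injective.comp e.symm.injective
      refine ⟨f (DihedralGroup.r 1), f (DihedralGroup.sr 0), f (DihedralGroup.r 2), fun h => absurd (hf (h.trans (map_one f).symm)) (by decide),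
        ?_, ?_, ?_, Or.inl ?_, trivial⟩ <;> simp only [← map_mul, ← map_inv] <;>
        first
          | exact congrArg f (by decide)
          | exact (congrArg f (by decide : _ = (1 : DihedralGroup 4))).trans (map_one f)
    · obtain ⟨e⟩ := hH
      let f : QuaternionGroup 2 →* S := H.subtype.comp e.symm.toMonoidHom
      have hf : Function.Injective f := H.subtype_injective.comp e.symm.injective
      refine ⟨f (QuaternionGroup.a 1), f (QuaternionGroup.xa 0), f (QuaternionGroup.a 2), fun h => absurd (hf (h.trans (map_one f).symm)) (by decide),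
        ?_, ?_, ?_, Or.inr ?_, trivial⟩ <;> simp only [← map_mul, ← map_inv] <;>
        first
          | exact congrArg f (by decide)
          | exact (congrArg f (by decide : _ = (1 : QuaternionGroup 2))).trans (map_one f)
  have hzi : Commute z i := by rw [← hi2]; exact (Commute.refl i).mul_left (Commute.refl i)
  have hi4 : i⁻¹ = i * z := inv_eq_of_mul_eq_one_right (by rw [← mul_assoc, hi2, hz2])
  have hji' : j * i = i * z * j := by rw [← hi4, ← hji]; group
  have hzj : Commute z j := by
    have h1 : j * z * j⁻¹ = z := by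
      rw [← hi2, show j * (i * i) * j⁻¹ = (j * i * j⁻¹) * (j * i * j⁻¹) by group, hji, ← mul_inv_rev, hi2,
        inv_eq_of_mul_eq_one_right hz2]
    exact (mul_inv_eq_iff_eq_mul.mp h1).symm
  have hiz : i ≠ 1 ∧ i ≠ z := by
    refine ⟨fun h => hz1 (by rw [← hi2, h, mul_one]), fun h => hz1 ?_⟩
    rw [h, hz2] at hi2; exact hi2.symm
  have hij : ¬ Commute i j := fun h => by
    rw [← h.eq, mul_inv_cancel_right] at hji
    exact hz1 (by rw [← hi2]; exact mul_eq_one_iff_eq_inv.mpr hji)
  -- elementary sections
  have small : ∀ (u v w : S) (N : Subgroup S), (∀ n ∈ N, n = 1 ∨ n = z) →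
      (∀ x ∈ ({u, v, w} : Set S), ∀ n ∈ N, Commute x n) → u * u ∈ N → v * v ∈ N → w * w ∈ N →
      u * v * u⁻¹ * v⁻¹ ∈ N → u * w * u⁻¹ * w⁻¹ ∈ N → v * w * v⁻¹ * w⁻¹ ∈ N →
      ¬ (u ∉ N ∧ v ∉ N ∧ v * u ∉ N ∧ ∀ n ∈ N, w ≠ n ∧ w ≠ u * n ∧ w ≠ v * n ∧ w ≠ v * u * n) := by
    rintro u v w N hN hcen hu hv hw huv huw hvw ⟨a1, a2, a3, a4⟩
    let K : Subgroup S := Subgroup.closure ({u, v, w} : Set S) ⊔ N
    have hNK : N ≤ K := le_sup_right
    have hNc : ∀ x ∈ K, ∀ n ∈ N, Commute x n := by
      intro x hx n hn
      have : K ≤ Subgroup.centralizer ({n} : Set S) := sup_le ((Subgroup.closure_le _).mpr fun y hy =>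
        Subgroup.mem_centralizer_singleton_iff.mpr (hcen y hy n hn))
        (fun y hy => Subgroup.mem_centralizer_singleton_iff.mpr (by
          rcases hN y hy with rfl | rfl
          · simp
          · rcases hN n hn with rfl | rfl
            · simp
            · rfl))
      exact Subgroup.mem_centralizer_singleton_iff.mp (this hx)
    haveI : (N.subgroupOf K).Normal := ⟨fun n hn x => by
      rw [Subgroup.mem_subgroupOf] at hn ⊢
      push_cast
      rw [(hNc x x.2 n hn).eq, mul_inv_cancel_right]; exact hn⟩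
    let f : K →* K ⧸ N.subgroupOf K := QuotientGroup.mk' _
    have hf : ∀ x : K, f x = 1 ↔ (x : S) ∈ N := fun x => (QuotientGroup.eq_one_iff _).trans Subgroup.mem_subgroupOf
    have mu : u ∈ K := Subgroup.mem_sup_left (Subgroup.subset_closure (by simp))
    have mv : v ∈ K := Subgroup.mem_sup_left (Subgroup.subset_closure (by simp))
    have mw : w ∈ K := Subgroup.mem_sup_left (Subgroup.subset_closure (by simp))
    set U := f ⟨u, mu⟩ with hU
    set W := f ⟨w, mw⟩ with hW
    set V := f ⟨v, mv⟩ with hV
    have sq : ∀ (x : K), (x : S) * x ∈ N → f x * f x = 1 := fun x hx => by rw [← map_mul, hf]; exact hx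
    have cm : ∀ (x y : K), (x : S) * y * (x : S)⁻¹ * (y : S)⁻¹ ∈ N → Commute (f x) (f y) := fun x y h => by
      have h1 : f (x * y * x⁻¹ * y⁻¹) = 1 := (hf _).mpr h
      rw [map_mul, map_mul, map_mul, map_inv, map_inv, mul_inv_eq_one, mul_inv_eq_iff_eq_mul] at h1
      exact h1
    let gen : Set (K ⧸ N.subgroupOf K) := {U, V, W}
    have hgen : ∀ x ∈ gen, x ^ 2 = 1 ∧ ∀ y ∈ gen, Commute x y := by
      have c1 := cm ⟨u, mu⟩ ⟨v, mv⟩ huv
      have c2 := cm ⟨u, mu⟩ ⟨w, mw⟩ huw
      have c3 := cm ⟨v, mv⟩ ⟨w, mw⟩ hvw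
      rintro x (rfl | rfl | rfl) <;> refine ⟨by rw [pow_two]; first | exact sq ⟨u, mu⟩ hu | exact sq ⟨v, mv⟩ hv | exact sq ⟨w, mw⟩ hw, ?_⟩ <;>
        rintro y (rfl | rfl | rfl) <;> first | exact Commute.refl _ | assumption | exact Commute.symm (by assumption)
    let A := Subgroup.closure gen
    letI hA : CommGroup A := Subgroup.closureCommGroupOfComm fun x hx y hy => (hgen x hx).2 y hy
    have hA2 : ∀ x ∈ A, x ^ 2 = 1 := by
      intro x hx
      induction hx using Subgroup.closure_induction with
      | mem x hx => exact (hgen x hx).1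
      | one => exact one_pow _
      | mul x y hx hy h h' =>
        have : Commute x y := congrArg Subtype.val (mul_comm (⟨x, hx⟩ : A) ⟨y, hy⟩)
        rw [this.mul_pow, h, h', one_mul]
      | inv x _ h => rw [inv_pow, h, inv_one]
    have hle := hr K (N.subgroupOf K) A ⟨⟨fun x y => mul_comm x y⟩⟩ hA2
    have gU : U ∈ A := Subgroup.subset_closure (by simp [gen])
    have gV : V ∈ A := Subgroup.subset_closure (by simp [gen])
    have gW : W ∈ A := Subgroup.subset_closure (by simp [gen])
    have hne : ∀ (x y : K), (y : S)⁻¹ * x ∉ N → f x ≠ f y := fun x y h e => h (by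
      have := (hf (y⁻¹ * x)).mp (by rw [map_mul, map_inv, e, inv_mul_cancel]); exact this)
    have hfive : ({⟨1, A.one_mem⟩, ⟨U, gU⟩, ⟨V, gV⟩, ⟨V * U, A.mul_mem gV gU⟩, ⟨W, gW⟩} : Finset A).card ≤ 4 := by
      haveI : Fintype A := Fintype.ofFinite A
      refine (Finset.card_le_univ _).trans ?_
      rw [← Nat.card_eq_fintype_card]
      exact hle.trans (by norm_num)
    have n1 : U ≠ 1 := fun e => a1 ((hf ⟨u, mu⟩).mp e)
    have n2 : V ≠ 1 := fun e => a2 ((hf ⟨v, mv⟩).mp e)
    have n3 : V * U ≠ 1 := fun e => a3 ((hf (⟨v, mv⟩ * ⟨u, mu⟩)).mp (by rw [map_mul]; exact e))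
    have n4 : W ≠ 1 := fun e => (a4 w ((hf ⟨w, mw⟩).mp e)).1 rfl
    have n5 : U ≠ V := fun e => by
      refine n3 ?_
      rw [e]; exact sq ⟨v, mv⟩ hv
    have n6 : V * U ≠ U := fun e => n2 (mul_eq_right.mp e)
    have n7 : V * U ≠ V := fun e => n1 (mul_eq_left.mp e)
    have n8 : W ≠ U := hne ⟨w, mw⟩ ⟨u, mu⟩ fun h => (a4 _ h).2.1 (by simp)
    have n9 : W ≠ V := hne ⟨w, mw⟩ ⟨v, mv⟩ fun h => (a4 _ h).2.2.1 (by simp)
    have n10 : W ≠ V * U := by
      rw [← map_mul]
      exact hne ⟨w, mw⟩ _ fun h => (a4 _ h).2.2.2 (by push_cast; group)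
    have h5 : ({⟨1, A.one_mem⟩, ⟨U, gU⟩, ⟨V, gV⟩, ⟨V * U, A.mul_mem gV gU⟩, ⟨W, gW⟩} : Finset A).card = 5 := by
      rw [Finset.card_insert_of_notMem (by simp [n1.symm, n2.symm, n3.symm, n4.symm]),
        Finset.card_insert_of_notMem (by simp [n5, n6.symm, n8.symm]),
        Finset.card_insert_of_notMem (by simp [n7.symm, n9.symm]),
        Finset.card_pair (by simpa using n10.symm)]
    omega
  -- only 1 and z commute with both generators
  have hC : ∀ c : S, Commute c i → Commute c j → c = 1 ∨ c = z := by
    by_contra hcon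
    push Not at hcon
    obtain ⟨c₀, hci, hcj, hc1, hcz⟩ := hcon
    obtain ⟨k, hk⟩ := h2 c₀
    have hex : ∃ m, c₀ ^ 2 ^ m = 1 ∨ c₀ ^ 2 ^ m = z := ⟨k, Or.inl hk⟩
    have hm0 : Nat.find hex ≠ 0 := fun e => by
      have := Nat.find_spec hex
      rw [e, pow_zero, pow_one] at this
      exact this.elim hc1 hcz
    obtain ⟨m, hm⟩ : ∃ m, Nat.find hex = m + 1 := ⟨Nat.find hex - 1, by omega⟩
    have hsq := Nat.find_spec hex
    rw [hm, pow_succ, pow_mul, pow_two] at hsq
    have hmin := Nat.find_min hex (show m < Nat.find hex by omega)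
    rw [not_or] at hmin
    generalize hc : c₀ ^ 2 ^ m = c at hsq hmin
    have ci : Commute c i := hc ▸ hci.pow_left _
    have cj : Commute c j := hc ▸ hcj.pow_left _
    have cz : Commute c z := by rw [← hi2]; exact ci.mul_right ci
    have hzmem : ∀ n ∈ Subgroup.zpowers z, n = 1 ∨ n = z := by
      intro n hn
      obtain ⟨e, rfl⟩ := Subgroup.mem_zpowers_iff.mp hn
      rcases Int.even_or_odd e with ⟨r, rfl⟩ | ⟨r, rfl⟩
      · left; rw [← two_mul, zpow_mul, zpow_two, hz2, one_zpow]
      · right; rw [zpow_add, zpow_mul, zpow_two, hz2, one_zpow, one_mul, zpow_one]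
    refine small i j c (Subgroup.zpowers z) hzmem ?_ (hi2 ▸ Subgroup.mem_zpowers z) ?_ ?_ ?_ ?_ ?_ ⟨?_, ?_, ?_, ?_⟩
    · rintro x (rfl | rfl | rfl) n hn <;> rcases hzmem n hn with rfl | rfl <;>
        first | exact Commute.one_right _ | exact hzi.symm | exact hzj.symm | exact cz
    · rcases hj2 with e | e <;> rw [e] <;> simp
    · rcases hsq with e | e <;> rw [e] <;> simp
    · rw [show i * j * i⁻¹ * j⁻¹ = i * (j * i * j⁻¹)⁻¹ by group, hji, inv_inv, hi2]; simp
    · rw [← ci.eq, mul_inv_cancel_right, mul_inv_cancel]; simp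
    · rw [← cj.eq, mul_inv_cancel_right, mul_inv_cancel]; simp
    · intro h; exact (hzmem i h).elim hiz.1 hiz.2
    · intro h; rcases hzmem j h with rfl | rfl
      · exact hij (Commute.one_right i)
      · exact hij hzi.symm
    · intro h; rcases hzmem _ h with e | e
      · exact hij ((eq_inv_of_mul_eq_one_left e) ▸ (Commute.refl i).inv_right)
      · exact hij ((eq_mul_inv_of_mul_eq e) ▸ hzi.symm.mul_right (Commute.refl i).inv_right)
    · intro n hn
      have cn : Commute j n := by rcases hzmem n hn with rfl | rfl; exacts [Commute.one_right _, hzj.symm]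
      have cn' : Commute i n := by rcases hzmem n hn with rfl | rfl; exacts [Commute.one_right _, hzi.symm]
      refine ⟨fun e => (hzmem n hn).elim (fun h => hmin.1 (e.trans h)) (fun h => hmin.2 (e.trans h)), fun e => hij ?_, fun e => hij ?_, fun e => hij ?_⟩
      · have := (e ▸ cj : Commute (i * n) j).mul_left (Commute.inv_left cn.symm)
        rwa [mul_inv_cancel_right] at this
      · have := (e ▸ ci : Commute (j * n) i).mul_left (Commute.inv_left cn'.symm)
        rw [mul_inv_cancel_right] at this
        exact this.symm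
      · have := (e ▸ ci : Commute (j * i * n) i).mul_left (Commute.inv_left cn'.symm)
        rw [mul_inv_cancel_right] at this
        have h' := this.mul_left (Commute.refl i).inv_left
        rw [mul_inv_cancel_right] at h'
        exact h'.symm
  -- a proper centralizer yields a root
  have root : ∀ A : Subgroup S, (∀ a ∈ A, ∀ b ∈ A, Commute a b) → Subgroup.centralizer (A : Set S) ≠ A →
      ∃ c, c ∉ A ∧ c * c ∈ A ∧ (∀ a ∈ A, Commute c a) ∧
        ∀ g ∈ Subgroup.normalizer (A : Set S), c⁻¹ * (g * c * g⁻¹) ∈ A := by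
    intro A hA hne
    have hAC : A ≤ Subgroup.centralizer (A : Set S) := fun a ha b hb => hA b hb a ha
    set M := Subgroup.normalizer (A : Set S)
    have hAM : A ≤ M := Subgroup.le_normalizer
    have hCM : Subgroup.centralizer (A : Set S) ≤ M := Subgroup.centralizer_le_normalizer _
    haveI : (A.subgroupOf M).Normal := Subgroup.normal_subgroupOf_iff_le_normalizer hAM |>.mpr le_rfl
    haveI : ((Subgroup.centralizer (A : Set S)).subgroupOf M).Normal := ⟨fun c hc g => by
      rw [Subgroup.mem_subgroupOf, Subgroup.mem_centralizer_iff] at hc ⊢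
      intro a ha
      have h1 := hc ((g : S)⁻¹ * a * g) (by
        have := (Subgroup.mem_normalizer_iff.mp (inv_mem g.2) a).mp ha
        simpa using this)
      push_cast
      calc a * ((g : S) * c * (g : S)⁻¹) = (g : S) * ((g : S)⁻¹ * a * g * c) * (g : S)⁻¹ := by group
        _ = (g : S) * (c * ((g : S)⁻¹ * a * g)) * (g : S)⁻¹ := by rw [h1]
        _ = _ := by group⟩
    let π := QuotientGroup.mk' (A.subgroupOf M)
    let I := ((Subgroup.centralizer (A : Set S)).subgroupOf M).map π
    haveI : I.Normal := Subgroup.Normal.map inferInstance π (QuotientGroup.mk'_surjective _)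
    have hI : I ≠ ⊥ := by
      intro e
      refine hne (le_antisymm (fun c hc => ?_) hAC)
      have : π ⟨c, hCM hc⟩ ∈ I := Subgroup.mem_map_of_mem π (Subgroup.mem_subgroupOf.mpr hc)
      rw [e, Subgroup.mem_bot] at this
      exact Subgroup.mem_subgroupOf.mp ((QuotientGroup.eq_one_iff _).mp this)
    have hJ := Cfsg.Agent.Local.inf_center_ne_bot ((h2.to_subgroup M).to_quotient (A.subgroupOf M)) I hI
    obtain ⟨x, hx⟩ := exists_prime_orderOf_dvd_card' (G := ↥(I ⊓ Subgroup.center (M ⧸ A.subgroupOf M))) 2 (by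
      haveI := (Subgroup.nontrivial_iff_ne_bot _).mpr hJ
      obtain ⟨e, he, hc⟩ := ((h2.to_subgroup M).to_quotient (A.subgroupOf M)).to_subgroup
        (I ⊓ Subgroup.center _) |>.nontrivial_iff_card.mp inferInstance
      rw [hc]; exact dvd_pow_self 2 (by omega))
    obtain ⟨⟨c, hcm, hcx⟩, hxc⟩ := x.2
    refine ⟨(c : S), fun h => ?_, ?_, fun a ha => (Subgroup.mem_subgroupOf.mp hcm a ha).symm, fun g hg => ?_⟩
    · have : (x : M ⧸ A.subgroupOf M) = 1 := hcx ▸ (QuotientGroup.eq_one_iff c).mpr (Subgroup.mem_subgroupOf.mpr h)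
      rw [Subtype.ext this (a2 := (1 : ↥(I ⊓ Subgroup.center (M ⧸ A.subgroupOf M)))), orderOf_one] at hx
      omega
    · have : π (c * c) = 1 := by
        rw [map_mul, hcx, ← pow_two, ← SubmonoidClass.coe_pow, ← hx, pow_orderOf_eq_one]; rfl
      exact Subgroup.mem_subgroupOf.mp ((QuotientGroup.eq_one_iff _).mp this)
    · have : π (c⁻¹ * (⟨g, hg⟩ * c * ⟨g, hg⟩⁻¹)) = 1 := by
        simp only [map_mul, map_inv, hcx]
        rw [(Subgroup.mem_center_iff.mp hxc (π ⟨g, hg⟩)), mul_inv_cancel_right, inv_mul_cancel]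
      exact Subgroup.mem_subgroupOf.mp ((QuotientGroup.eq_one_iff _).mp this)
  -- a self-centralizing subgroup of order four
  obtain ⟨A, hA4, hAC⟩ : ∃ A : Subgroup S, Nat.card A = 2 ^ 2 ∧ Subgroup.centralizer (A : Set S) = A := by
    by_contra hno
    push Not at hno
    rcases hj2 with hj2 | hj2
    · -- the dihedral case: A = {1, z, j, j z}
      let A : Subgroup S :=
        { carrier := {1, z, j, j * z}
          one_mem' := Or.inl rfl
          mul_mem' := by
            have f1 : z * j = j * z := hzj.eq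
            have f2 : j * z * z = j := by rw [mul_assoc, hz2, mul_one]
            have f3 : j * (j * z) = z := by rw [← mul_assoc, hj2, one_mul]
            have f4 : z * (j * z) = j := by rw [← mul_assoc, f1, f2]
            have f5 : j * z * j = z := by rw [mul_assoc, f1, f3]
            have f6 : j * z * (j * z) = 1 := by rw [← mul_assoc, f5, hz2]
            intro x y hx hy
            simp only [Set.mem_insert_iff, Set.mem_singleton_iff] at hx hy ⊢
            rcases hx with h | h | h | h <;> rcases hy with h' | h' | h' | h' <;> rw [h, h'] <;>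
              simp only [one_mul, mul_one, hz2, hj2, f1, f2, f3, f4, f5, f6, true_or, or_true]
          inv_mem' := by
            rintro x (rfl | rfl | rfl | rfl)
            · exact Or.inl inv_one
            · exact Or.inr (Or.inl (inv_eq_of_mul_eq_one_right hz2))
            · exact Or.inr (Or.inr (Or.inl (inv_eq_of_mul_eq_one_right hj2)))
            · refine Or.inr (Or.inr (Or.inr (inv_eq_of_mul_eq_one_right ?_)))
              rw [show j * z * (j * z) = j * (z * j) * z by group, hzj.eq, show j * (j * z) * z = (j * j) * (z * z) by group,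
                hj2, hz2, one_mul] }
      have hA : Nat.card A = 2 ^ 2 := by
        show Nat.card ({1, z, j, j * z} : Set S) = 2 ^ 2
        have e1 : (1 : S) ≠ j := fun e => hij (e ▸ Commute.one_right i)
        have e2 : (1 : S) ≠ j * z := fun e => hij ((eq_inv_of_mul_eq_one_left e.symm) ▸ hzi.symm.inv_right)
        have e3 : z ≠ j := fun e => hij (e ▸ hzi.symm)
        have e4 : z ≠ j * z := fun e => e1 (mul_eq_right.mp e.symm).symm
        have e5 : j ≠ j * z := fun e => hz1 (mul_eq_left.mp e.symm)
        rw [Nat.card_coe_set_eq, Set.ncard_insert_of_notMem (by simp [hz1.symm, e1, e2]) (Set.toFinite _),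
          Set.ncard_insert_of_notMem (by simp [e3, e4]) (Set.toFinite _), Set.ncard_pair e5]
        norm_num
      have hAcomm : ∀ a ∈ A, ∀ b ∈ A, Commute a b := by
        intro a ha b hb
        rcases ha with h | h | h | h <;> rcases hb with h' | h' | h' | h' <;> rw [h, h'] <;>
          first
            | exact Commute.one_left _
            | exact Commute.one_right _
            | exact Commute.refl _
            | exact hzj
            | exact hzj.symm
            | exact hzj.mul_right (Commute.refl z)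
            | exact (hzj.mul_right (Commute.refl z)).symm
            | exact (Commute.refl j).mul_right hzj.symm
            | exact ((Commute.refl j).mul_right hzj.symm).symm
      obtain ⟨c, hcA, hc2, hcc, hcn⟩ := root A hAcomm (hno A hA)
      have hconjj : i * j * i⁻¹ = j * z := by
        rw [show i * j * i⁻¹ = i * (j * i * j⁻¹)⁻¹ * j by group, hji, inv_inv, hi2, hzj.eq]
      have hfw : ∀ a ∈ A, i * a * i⁻¹ ∈ A := by
        intro a ha
        rcases ha with h | h | h | h <;> rw [h]
        · exact Or.inl (by group)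
        · exact Or.inr (Or.inl (by rw [← hzi.eq, mul_inv_cancel_right]))
        · exact Or.inr (Or.inr (Or.inr hconjj))
        · refine Or.inr (Or.inr (Or.inl ?_))
          rw [show i * (j * z) * i⁻¹ = i * j * i⁻¹ * (i * z * i⁻¹) by group, hconjj, ← hzi.eq,
            mul_inv_cancel_right, mul_assoc, hz2, mul_one]
      have hiN : i ∈ Subgroup.normalizer (A : Set S) := by
        refine Subgroup.mem_normalizer_iff.mpr fun a => ⟨hfw a, fun h => ?_⟩
        have e : A.map (MulAut.conj i).toMonoidHom = A := Subgroup.eq_of_le_of_card_ge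
          (fun _ ⟨b, hb, hb'⟩ => hb' ▸ hfw b hb) (Subgroup.card_map_of_injective (MulAut.conj i).injective).ge
        obtain ⟨b, hb, hb'⟩ := e.ge h
        rwa [← (MulAut.conj i).injective hb']
      obtain ⟨v, hv, hcv⟩ : ∃ v ∈ A, i * c * i⁻¹ = c * v := ⟨_, hcn i hiN, (mul_inv_cancel_left c _).symm⟩
      have hjc : Commute c j := hcc j (Or.inr (Or.inr (Or.inl rfl)))
      have hzc : Commute c z := hcc z (Or.inr (Or.inl rfl))
      have hsq : i * (c * c) * i⁻¹ = c * c * (v * v) := by
        rw [show i * (c * c) * i⁻¹ = (i * c * i⁻¹) * (i * c * i⁻¹) by group, hcv, mul_assoc c v, ← mul_assoc v c,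
          ← (hcc v hv).eq]
        simp only [mul_assoc]
      have hvv : v * v = 1 := by
        rcases hv with h | h | h | h <;> rw [h]
        · exact mul_one 1
        · exact hz2
        · exact hj2
        · rw [mul_assoc, ← mul_assoc z, hzj.eq, mul_assoc j z, hz2, mul_one, hj2]
      rw [hvv, mul_one] at hsq
      have hne : c ≠ 1 ∧ c ≠ z ∧ c ≠ j ∧ c ≠ j * z :=
        ⟨fun e => hcA (Or.inl e), fun e => hcA (Or.inr (Or.inl e)), fun e => hcA (Or.inr (Or.inr (Or.inl e))),
          fun e => hcA (Or.inr (Or.inr (Or.inr e)))⟩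
      have hfix : c * c = 1 ∨ c * c = z := by
        rcases hc2 with e | e | e | e
        · exact Or.inl e
        · exact Or.inr e
        · rw [e, hconjj] at hsq; exact absurd (mul_eq_left.mp hsq) hz1
        · rw [e, show i * (j * z) * i⁻¹ = i * j * i⁻¹ * (i * z * i⁻¹) by group, hconjj, ← hzi.eq,
            mul_inv_cancel_right, mul_assoc, hz2, mul_one] at hsq
          exact absurd (mul_eq_left.mp hsq.symm) hz1
      rcases hfix with e | e
      · -- an elementary abelian subgroup of order eight
        refine small z j c ⊥ (fun n hn => Or.inl (Subgroup.mem_bot.mp hn))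
          (fun x _ n hn => Subgroup.mem_bot.mp hn ▸ Commute.one_right x) (Subgroup.mem_bot.mpr hz2)
          (Subgroup.mem_bot.mpr hj2) (Subgroup.mem_bot.mpr e)
          (Subgroup.mem_bot.mpr (by rw [hzj.eq]; group)) (Subgroup.mem_bot.mpr (by rw [← hzc.eq]; group))
          (Subgroup.mem_bot.mpr (by rw [← hjc.eq]; group)) ⟨?_, ?_, ?_, ?_⟩
        · exact fun h => hz1 (Subgroup.mem_bot.mp h)
        · exact fun h => hij (Subgroup.mem_bot.mp h ▸ Commute.one_right i)
        · exact fun h => hij ((eq_inv_of_mul_eq_one_left (Subgroup.mem_bot.mp h)) ▸ hzi.symm.inv_right)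
        · intro n hn
          rw [Subgroup.mem_bot.mp hn, mul_one, mul_one, mul_one]
          exact hne
      · -- conjugation by `i` twice fixes `c`
        have hiz' : i * z * i⁻¹ = z := by rw [← hzi.eq, mul_inv_cancel_right]
        have htwice : i * (i * c * i⁻¹) * i⁻¹ = c := by
          rw [show i * (i * c * i⁻¹) * i⁻¹ = (i * i) * c * (i * i)⁻¹ by group, hi2, ← hzc.eq, mul_inv_cancel_right]
        rw [hcv, show i * (c * v) * i⁻¹ = i * c * i⁻¹ * (i * v * i⁻¹) by group, hcv, mul_assoc] at htwice
        have hv1 := mul_eq_left.mp htwice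
        rcases hv with h | h | h | h <;> rw [h] at hcv hv1
        · rw [mul_one] at hcv
          exact (hC c (mul_inv_eq_iff_eq_mul.mp hcv).symm hjc).elim hne.1 hne.2.1
        · have hcj' : i * (c * j) * i⁻¹ = c * j := by
            rw [show i * (c * j) * i⁻¹ = i * c * i⁻¹ * (i * j * i⁻¹) by group, hcv, hconjj,
              show c * z * (j * z) = c * (z * j) * z by group, hzj.eq]
            simp only [mul_assoc, hz2, mul_one]
          rcases hC (c * j) (mul_inv_eq_iff_eq_mul.mp hcj').symm (hjc.mul_left (Commute.refl j)) with h | h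
          · exact hne.2.2.1 (by rw [eq_inv_of_mul_eq_one_left h]; exact inv_eq_of_mul_eq_one_right hj2)
          · refine hne.2.2.2 ?_
            rw [eq_mul_inv_of_mul_eq h, inv_eq_of_mul_eq_one_right hj2, hzj.eq]
        · rw [hconjj, ← mul_assoc, hj2, one_mul] at hv1
          exact hz1 hv1
        · rw [show i * (j * z) * i⁻¹ = i * j * i⁻¹ * (i * z * i⁻¹) by group, hconjj, hiz', mul_assoc j z z, hz2,
            mul_one, show j * z * j = j * (z * j) by group, hzj.eq, ← mul_assoc, hj2, one_mul] at hv1
          exact hz1 hv1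
    · -- the quaternion case
      have Q : ∀ u v : S, u * u = z → v * v = z → v * u * v⁻¹ = u⁻¹ → (∀ c, Commute c u → Commute c v → c = 1 ∨ c = z) →
          ∃ g : S, g * u * g⁻¹ = u ∧ (g * v * g⁻¹ = u * v ∨ g * v * g⁻¹ = (u * v)⁻¹) := by
        intro u v hu hv hvu hCuv
        have hu1 : u ≠ 1 := fun e => hz1 (by rw [← hu, e, mul_one])
        have huz : u ≠ z := fun e => hz1 (by rw [e, hz2] at hu; exact hu.symm)
        have hu4 : orderOf u = 2 ^ 2 := orderOf_eq_prime_pow (n := 1)
          (by rw [pow_one, pow_two, hu]; exact hz1)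
          (by rw [show 2 ^ (1 + 1) = 4 by norm_num, show u ^ 4 = (u * u) * (u * u) by simp only [pow_succ, pow_zero, one_mul, mul_assoc], hu, hz2])
        have huinv : u⁻¹ = u * z := inv_eq_of_mul_eq_one_right (by rw [← mul_assoc, hu, hz2])
        have hzu : Commute z u := by rw [← hu]; exact (Commute.refl u).mul_left (Commute.refl u)
        have hzv : Commute z v := by rw [← hv]; exact (Commute.refl v).mul_left (Commute.refl v)
        have hel : ∀ a ∈ Subgroup.zpowers u, a = 1 ∨ a = z ∨ a = u ∨ a = u⁻¹ := by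
          intro a ha
          rw [← mem_powers_iff_mem_zpowers] at ha
          obtain ⟨k, rfl⟩ := Submonoid.mem_powers_iff _ _ |>.mp ha
          rw [← pow_mod_orderOf, hu4]
          have hk : k % 4 < 4 := Nat.mod_lt _ (by norm_num)
          norm_num
          interval_cases k % 4
          · simp
          · simp
          · rw [pow_two, hu]; simp
          · rw [pow_succ, pow_two, hu, hzu.eq, ← huinv]; simp
        have hvN : v ∈ Subgroup.normalizer (Subgroup.zpowers u : Set S) := by
          have e : (Subgroup.zpowers u).map (MulAut.conj v).toMonoidHom = Subgroup.zpowers u := by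
            rw [MonoidHom.map_zpowers]
            show Subgroup.zpowers (v * u * v⁻¹) = _
            rw [hvu, Subgroup.zpowers_inv]
          refine Subgroup.mem_normalizer_iff.mpr fun a => ⟨fun ha => e.le ⟨a, ha, rfl⟩, fun h => ?_⟩
          obtain ⟨b, hb, hb'⟩ := e.ge h
          rwa [← (MulAut.conj v).injective hb']
        obtain ⟨c, hcA, hc2, hcc, hcn⟩ := root (Subgroup.zpowers u)
          (fun a ha b hb => by
            obtain ⟨m, rfl⟩ := Subgroup.mem_zpowers_iff.mp ha
            obtain ⟨m', rfl⟩ := Subgroup.mem_zpowers_iff.mp hb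
            exact (Commute.refl u).zpow_zpow m m')
          (hno _ (by rw [Nat.card_zpowers, hu4]))
        have hcu : Commute c u := hcc u (Subgroup.mem_zpowers u)
        obtain ⟨a, ha, hca⟩ : ∃ a ∈ Subgroup.zpowers u, v * c * v⁻¹ = c * a :=
          ⟨_, hcn v hvN, (mul_inv_cancel_left c _).symm⟩
        have hcv' : c⁻¹ * v * c = a * v := by
          rw [show a = c⁻¹ * (v * c * v⁻¹) by rw [hca, inv_mul_cancel_left]]; group
        rcases hel a ha with e | e | e | e
        · rw [e, mul_one] at hca
          exact absurd ((hCuv c hcu (mul_inv_eq_iff_eq_mul.mp hca).symm).elim (fun h => h ▸ (Subgroup.zpowers u).one_mem)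
            (fun h => h ▸ hu ▸ (Subgroup.zpowers u).mul_mem (Subgroup.mem_zpowers u) (Subgroup.mem_zpowers u))) hcA
        · have h1 : v * (c * u) * v⁻¹ = c * u := by
            rw [show v * (c * u) * v⁻¹ = v * c * v⁻¹ * (v * u * v⁻¹) by group, hca, e, hvu, huinv,
              show c * z * (u * z) = c * (z * u) * z by group, hzu.eq]
            simp only [mul_assoc, hz2, mul_one]
          refine absurd ?_ hcA
          have hm : c * u ∈ Subgroup.zpowers u := (hCuv (c * u) (hcu.mul_left (Commute.refl u))
            (mul_inv_eq_iff_eq_mul.mp h1).symm).elim (fun h => h ▸ (Subgroup.zpowers u).one_mem)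
            (fun h => h ▸ hu ▸ (Subgroup.zpowers u).mul_mem (Subgroup.mem_zpowers u) (Subgroup.mem_zpowers u))
          simpa using (Subgroup.zpowers u).mul_mem hm ((Subgroup.zpowers u).inv_mem (Subgroup.mem_zpowers u))
        · refine ⟨c⁻¹, ?_, Or.inl ?_⟩
          · rw [inv_inv, mul_assoc, ← hcu.eq, inv_mul_cancel_left]
          · rw [inv_inv, hcv', e]
        · refine ⟨c⁻¹, ?_, Or.inr ?_⟩
          · rw [inv_inv, mul_assoc, ← hcu.eq, inv_mul_cancel_left]
          · rw [inv_inv, hcv', e, mul_inv_rev]
            have h4 : v⁻¹ = v * z := inv_eq_of_mul_eq_one_right (by rw [← mul_assoc, hv, hz2])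
            have h5 : v⁻¹ * u⁻¹ = u * v⁻¹ := by rw [← hvu]; group
            rw [h5, h4, ← hzv.eq, ← mul_assoc, huinv]
      have hjinv : j⁻¹ = j * z := inv_eq_of_mul_eq_one_right (by rw [← mul_assoc, hj2, hz2])
      have hij' : i * j * i⁻¹ = j⁻¹ := by
        rw [show i * j * i⁻¹ = i * (j * i * j⁻¹)⁻¹ * j by group, hji, inv_inv, hi2, hjinv, hzj.eq]
      obtain ⟨g₁, hg1i, hg1j⟩ := Q i j hi2 hj2 hji hC
      obtain ⟨g₂, hg2j, hg2i⟩ := Q j i hj2 hi2 hij' (fun c h h' => hC c h' h)
      let x := g₁ * g₂
      let cl : ℕ → S → Prop := fun k w => match k % 3 with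
        | 0 => w = i ∨ w = i⁻¹
        | 1 => w = j ∨ w = j⁻¹
        | _ => w = i * j ∨ w = (i * j)⁻¹
      have hji2 : j * i = (i * j)⁻¹ := by
        rw [mul_inv_rev, hi4, hjinv, show j * z * (i * z) = j * (z * i) * z by group, hzi.eq]
        simp only [mul_assoc, hz2, mul_one]
      have s1 : ∀ w, cl 0 w → cl 0 (g₁ * w * g₁⁻¹) := by
        intro w hw
        rcases hw with h | h <;> rw [h]
        · exact Or.inl hg1i
        · right; rw [← conj_inv, hg1i]
      have s2 : ∀ w, cl 1 w → cl 2 (g₁ * w * g₁⁻¹) := by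
        intro w hw
        rcases hw with h | h <;> rw [h]
        · exact hg1j
        · rw [← conj_inv]
          rcases hg1j with h | h <;> rw [h]
          · exact Or.inr rfl
          · exact Or.inl (inv_inv _)
      have t1 : ∀ w, cl 1 w → cl 1 (g₂ * w * g₂⁻¹) := by
        intro w hw
        rcases hw with h | h <;> rw [h]
        · exact Or.inl hg2j
        · right; rw [← conj_inv, hg2j]
      have t2 : ∀ w, cl 0 w → cl 2 (g₂ * w * g₂⁻¹) := by
        rw [hji2, inv_inv] at hg2i
        intro w hw
        rcases hw with h | h <;> rw [h]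
        · exact hg2i.symm
        · rw [← conj_inv]
          rcases hg2i with h | h <;> rw [h]
          · exact Or.inl (inv_inv _)
          · exact Or.inr rfl
      have hneg : ∀ w, (w = i * j ∨ w = (i * j)⁻¹) → ∀ g u v : S, g * i * g⁻¹ = u → g * j * g⁻¹ = v →
          g * w * g⁻¹ = u * v ∨ g * w * g⁻¹ = (u * v)⁻¹ := by
        intro w hw g u v hu hv
        rcases hw with h | h <;> rw [h]
        · left; rw [← hu, ← hv]; group
        · right; rw [← hu, ← hv]; group
      have s3 : ∀ w, cl 2 w → cl 1 (g₁ * w * g₁⁻¹) := by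
        intro w hw
        have key : i * (i * j) = j⁻¹ ∧ i * (i * j)⁻¹ = j := by
          constructor
          · rw [← mul_assoc, hi2, hjinv, hzj.eq]
          · rw [← hji2, ← mul_assoc, show i * j * i = (i * j * i⁻¹) * (i * i) by group, hij', hi2, hjinv,
              mul_assoc, hz2, mul_one]
        rcases hg1j with h | h <;> rcases hneg w hw g₁ _ _ hg1i h with e | e <;> rw [e]
        · exact Or.inr key.1
        · exact Or.inl (by rw [key.1, inv_inv])
        · exact Or.inl key.2
        · exact Or.inr (by rw [key.2])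
      have t3 : ∀ w, cl 2 w → cl 0 (g₂ * w * g₂⁻¹) := by
        intro w hw
        have key : j * i * j = i ∧ (j * i)⁻¹ * j = i⁻¹ := by
          constructor
          · rw [hji', mul_assoc, hj2, mul_assoc, hz2, mul_one]
          · group
        rcases hg2i with h | h <;> rcases hneg w hw g₂ _ _ h hg2j with e | e <;> rw [e]
        · exact Or.inl key.1
        · exact Or.inr (by rw [key.1])
        · exact Or.inr key.2
        · exact Or.inl (by rw [key.2, inv_inv])
      have hx : ∀ k : ℕ, cl k (x ^ k * i * (x ^ k)⁻¹) := by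
        intro k
        induction k with
        | zero => exact Or.inl (by simp)
        | succ k ih =>
          rw [pow_succ', show x * x ^ k * i * (x * x ^ k)⁻¹ = g₁ * (g₂ * (x ^ k * i * (x ^ k)⁻¹) * g₂⁻¹) * g₁⁻¹ by
            simp only [x, mul_inv_rev, mul_assoc]]
          rcases (by omega : k % 3 = 0 ∨ k % 3 = 1 ∨ k % 3 = 2) with h | h | h
          · simp only [cl, h] at ih
            have := s3 _ (t2 _ ih)
            simpa only [cl, show (k + 1) % 3 = 1 by omega] using this
          · simp only [cl, h] at ih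
            have := s2 _ (t1 _ ih)
            simpa only [cl, show (k + 1) % 3 = 2 by omega] using this
          · simp only [cl, h] at ih
            have := s1 _ (t3 _ ih)
            simpa only [cl, show (k + 1) % 3 = 0 by omega] using this
      obtain ⟨m, hm⟩ := h2 x
      have hfin := hx (2 ^ m)
      rw [hm, one_mul, inv_one, mul_one] at hfin
      have h3 : 2 ^ m % 3 ≠ 0 := fun h => by
        have := Nat.prime_three.dvd_of_dvd_pow (Nat.dvd_of_mod_eq_zero h)
        omega
      rcases (by omega : 2 ^ m % 3 = 1 ∨ 2 ^ m % 3 = 2) with h | h <;> simp only [cl, h] at hfin <;>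
        rcases hfin with e | e
      · exact hij (e ▸ Commute.refl _)
      · exact hij (by rw [e]; exact (Commute.refl j).inv_left)
      · exact hij (by rw [show j = 1 from mul_eq_left.mp e.symm]; exact Commute.one_right i)
      · exact hij (by
          have : j = i⁻¹ * i⁻¹ := by conv_rhs => arg 2; rw [e, inv_inv]
                                     group
          rw [this]; exact ((Commute.refl i).inv_right.mul_right (Commute.refl i).inv_right))
  have hn : ∃ n, Nat.card S = 2 ^ n := IsPGroup.iff_card.mp h2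
  obtain ⟨n, hn⟩ := hn
  haveI := h2.isNilpotent
  have hclass := Cfsg.Agent.Solv.MaxClass.class_eq_of_self_centralizing n S A hn hA4 hAC
  have hn3 : 3 ≤ n := by
    by_contra hlt
    refine hij ?_
    rcases Nat.lt_or_ge n 2 with h | h
    · haveI : IsCyclic S := by
        interval_cases n
        · haveI := (Nat.card_eq_one_iff_unique.mp (hn.trans (pow_zero 2))).1
          infer_instance
        · exact isCyclic_of_prime_card (hn.trans (pow_one 2))
      letI := IsCyclic.commGroup (α := S)
      exact mul_comm i j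
    · exact IsPGroup.commutative_of_card_eq_prime_sq (hn.trans (by rw [show n = 2 by omega])) i j
  have hidx := Cfsg.Agent.Solv.MaxClass.index_lcs_eq hn hn3 hclass (i := 1) le_rfl (by omega)
  have hcom : (⊤ : Subgroup S).lowerCentralSeries 1 = commutator S := by
    rw [Subgroup.lowerCentralSeries_succ, Subgroup.lowerCentralSeries_zero]; rfl
  rw [hcom] at hidx
  have hab : Nat.card (Abelianization S) = 4 := by
    rw [show Nat.card (Abelianization S) = (commutator S).index from rfl, hidx]; norm_num
  have hexp : ∀ x : Abelianization S, x ^ 2 = 1 := by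
    intro x
    have h1 : orderOf x ∣ 2 ^ 2 := by rw [show (2:ℕ) ^ 2 = 4 by norm_num, ← hab]; exact orderOf_dvd_natCard x
    obtain ⟨e, he, hxe⟩ := (Nat.dvd_prime_pow Nat.prime_two).mp h1
    rw [← orderOf_dvd_iff_pow_eq_one, hxe]
    rcases Nat.lt_or_ge e 2 with h | h
    · exact pow_dvd_pow 2 (show e ≤ 1 by omega) |>.trans (by norm_num)
    · exfalso
      have he2 : e = 2 := by omega
      refine Cfsg.Agent.Solv.MaxClass.noncyclic_abelianization h2 ⟨i, j, hij⟩ ?_
      exact isCyclic_of_orderOf_eq_card (α := Abelianization S) x (by rw [hxe, he2, hab]; norm_num)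
  refine (Cfsg.Agent.S4399.result h2 hab hexp).resolve_left fun h => ?_
  exact hij (IsPGroup.commutative_of_card_eq_prime_sq (p := 2) (h.trans (by norm_num)) i j)

end Cfsg.Agent.S4398
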