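import Cfsg.Statements.S0012
import Cfsg.Agent.Lib.Solv.Misc

set_option autoImplicit false
open scoped Pointwise
open Cfsg

namespace Cfsg.Agent.S0012

/-- In a finite p-group every commutator and every p-th power lies in the Frattini subgroup, so the Frattini quotient is elementary abelian. -/
theorem result {G : Type*} [Group G] [Finite G] (p : ℕ) [Fact p.Prime]
    (hG : IsPGroup p G) : commutator G ≤ frattini G ∧ ∀ x : G, x ^ p ∈ frattini G := by
  have key : ∀ M : Subgroup G, IsCoatom M → commutator G ≤ M ∧ ∀ x : G, x ^ p ∈ M := by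
    intro M hM
    haveI := Cfsg.Agent.Solv.coatom_normal_of_isNilpotent hG.isNilpotent M hM
    have hpr := Cfsg.Agent.Solv.prime_index_of_coatom_normal M hM
    have hp : M.index = p := by
      obtain ⟨k, hk⟩ := IsPGroup.iff_card.mp hG
      exact (Nat.prime_dvd_prime_iff_eq hpr (Fact.out : p.Prime)).mp
        (hpr.dvd_of_dvd_pow (hk ▸ M.index_dvd_card))
    haveI : Fact M.index.Prime := ⟨hpr⟩
    haveI : IsCyclic (G ⧸ M) := isCyclic_of_prime_card (p := M.index) (by rw [Subgroup.index_eq_card])
    refine ⟨(Subgroup.Normal.quotient_commutative_iff_commutator_le).mp inferInstance, fun x => ?_⟩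
    rw [← QuotientGroup.eq_one_iff, QuotientGroup.mk_pow, ← hp, Subgroup.index_eq_card]
    exact pow_card_eq_one'
  exact ⟨le_iInf fun M => le_iInf fun hM => (key M hM).1,
    fun x => Subgroup.mem_iInf.mpr fun M => Subgroup.mem_iInf.mpr fun hM => (key M hM).2 x⟩

end Cfsg.Agent.S0012
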