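import Cfsg.Statements.S1924
import Cfsg.Agent.Lib.Fusion.FactorHyperfocal
import Cfsg.Agent.Lib.Solv.NormalPComplement
-- import your own Cfsg.Agent.* helpers here

set_option autoImplicit false
open Cfsg

namespace Cfsg.Agent.S1924
open Subgroup

theorem sign_fpf {α : Type*} [Fintype α] [DecidableEq α] (σ : Equiv.Perm α) (k m : ℕ) (hm : Odd m)
    (h1 : σ ^ (2 ^ (k + 1)) = 1) (h2 : ∀ x, (σ ^ (2 ^ k)) x ≠ x) (hcard : Fintype.card α = 2 ^ (k + 1) * m) :
    Equiv.Perm.sign σ = -1 := by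
  have hall : ∀ n ∈ σ.cycleType, n = 2 ^ (k + 1) := by
    intro n hn
    rw [Equiv.Perm.cycleType_def] at hn
    obtain ⟨c, hc, rfl⟩ := Multiset.mem_map.1 hn
    have hcm := Equiv.Perm.mem_cycleFactorsFinset_iff.1 hc
    obtain ⟨x, hx⟩ := hcm.1.nonempty_support
    have hcx : c = σ.cycleOf x := Equiv.Perm.cycle_is_cycleOf hx hc
    have ho := hcm.1.orderOf
    have hd : orderOf c ∣ 2 ^ (k + 1) := by
      refine (Equiv.Perm.dvd_of_mem_cycleType ?_).trans (orderOf_dvd_of_pow_eq_one h1)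
      rw [ho, Equiv.Perm.cycleType_def]
      exact Multiset.mem_map.2 ⟨c, hc, rfl⟩
    obtain ⟨i, hi, he⟩ := (Nat.dvd_prime_pow Nat.prime_two).1 hd
    show c.support.card = _
    rw [← ho, he]
    rcases hi.lt_or_eq with hlt | heq
    · exfalso
      apply h2 x
      obtain ⟨j, hj⟩ : orderOf c ∣ 2 ^ k := he ▸ Nat.pow_dvd_pow 2 (Nat.lt_succ_iff.1 hlt)
      rw [← Equiv.Perm.cycleOf_pow_apply_self σ x, ← hcx, hj, pow_mul, pow_orderOf_eq_one, one_pow]
      rfl
    · rw [heq]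
  have hsum : σ.cycleType.sum = Fintype.card α := by
    rw [Equiv.Perm.sum_cycleType, Finset.card_eq_iff_eq_univ]
    ext x
    simp only [Equiv.Perm.mem_support, Finset.mem_univ, iff_true]
    intro hx
    apply h2 x
    exact Function.IsFixedPt.perm_pow (e := σ) hx _
  have hrep : σ.cycleType = Multiset.replicate (Multiset.card σ.cycleType) (2 ^ (k + 1)) :=
    Multiset.eq_replicate.2 ⟨rfl, hall⟩
  have hc : Multiset.card σ.cycleType = m := by
    rw [hrep, Multiset.sum_replicate, smul_eq_mul, hcard, mul_comm] at hsum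
    exact Nat.eq_of_mul_eq_mul_left (Nat.two_pow_pos _) hsum
  rw [Equiv.Perm.sign_of_cycleType, hsum, hc, hcard]
  refine Odd.neg_one_pow ?_
  exact Even.add_odd ((Nat.even_pow.2 ⟨even_two, by omega⟩).mul_right m) hm

theorem not_residual {K : Type*} [Group K] [Finite K] (H : Subgroup K) (y : K) (k m : ℕ) (hm : Odd m)
    (hy : y ^ (2 ^ (k + 1)) = 1) (hidx : H.index = 2 ^ (k + 1) * m)
    (hfree : ∀ g : K, g⁻¹ * y ^ (2 ^ k) * g ∉ H) : y ∉ Cfsg.pResidual 2 K := by
  classical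
  haveI : Fact (Nat.Prime 2) := ⟨Nat.prime_two⟩
  haveI : Fintype (K ⧸ H) := Fintype.ofFinite _
  intro hmem
  let f : K →* ℤˣ := (Equiv.Perm.sign).comp (MulAction.toPermHom K (K ⧸ H))
  have h2 : IsPGroup 2 ℤˣ := IsPGroup.of_card (n := 1) (by rw [Nat.card_eq_fintype_card]; decide)
  have h := Cfsg.Agent.Solv.pResidual_le_ker_of_isPGroup h2 f hmem
  rw [MonoidHom.mem_ker] at h
  have h' : f y = -1 := by
    refine sign_fpf _ k m hm ?_ ?_ ?_
    · rw [← map_pow, hy, map_one]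
    · intro x
      rw [← map_pow]
      induction x using QuotientGroup.induction_on with
      | _ g =>
        intro hx
        have hx' : ((y ^ 2 ^ k * g : K) : K ⧸ H) = g := hx
        rw [eq_comm, QuotientGroup.eq, ← mul_assoc] at hx'
        exact hfree g hx'
    · rw [← Nat.card_eq_fintype_card, ← index_eq_card, hidx]
  rw [h] at h'
  exact absurd h' (by decide)

theorem dihedral_out {n : ℕ} (hn : 2 ≤ n) (C : Subgroup (DihedralGroup n)) (hC : IsCyclic C)
    (hidx : C.index = 2) (d : DihedralGroup n) (hd : d ∉ C) : d ^ 2 = 1 := by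
  haveI : NeZero n := ⟨by omega⟩
  have hcard : Nat.card C = n := by
    have := C.card_mul_index
    rw [hidx, DihedralGroup.nat_card] at this
    omega
  rcases d with i | i
  swap
  · rw [pow_two, DihedralGroup.sr_mul_self]
  rcases eq_or_lt_of_le hn with h2 | h3
  · subst h2
    rw [pow_two, DihedralGroup.r_mul_r, DihedralGroup.one_def]
    congr 1
    exact (by decide : ∀ i : ZMod 2, i + i = 0) i
  exfalso
  obtain ⟨g, hg⟩ := hC.exists_generator
  have hgo : orderOf g = n := by rw [orderOf_eq_card_of_forall_mem_zpowers hg, hcard]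
  have hgo' : orderOf (g : DihedralGroup n) = n := by rw [Subgroup.orderOf_coe, hgo]
  obtain ⟨g, hgC⟩ := g
  rcases g with j | j
  swap
  · rw [DihedralGroup.orderOf_sr] at hgo'
    omega
  apply hd
  have hle : C ≤ zpowers (DihedralGroup.r (1 : ZMod n)) := by
    intro c hc
    obtain ⟨l, hl⟩ := mem_zpowers_iff.1 (hg ⟨c, hc⟩)
    have e : c = (DihedralGroup.r j) ^ l := (congrArg Subtype.val hl).symm
    rw [e]
    refine zpow_mem ?_ l
    exact ⟨(j.val : ℤ), by simp⟩
  have heq : C = zpowers (DihedralGroup.r (1 : ZMod n)) := eq_of_le_of_card_ge hle (by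
    rw [hcard, Nat.card_zpowers, DihedralGroup.orderOf_r_one])
  rw [heq]
  exact ⟨(i.val : ℤ), by simp⟩

theorem residual_residual (G : Type*) [Group G] : Cfsg.pResidual 2 ↥(Cfsg.pResidual 2 G) = ⊤ := by
  refine map_injective (Cfsg.pResidual 2 G).subtype_injective ?_
  rw [← MonoidHom.range_eq_map, range_subtype]
  refine le_antisymm (map_subtype_le _) ?_
  refine (closure_le _).2 fun g hg => ⟨⟨g, subset_closure hg⟩, subset_closure ?_, rfl⟩
  show (orderOf (⟨g, _⟩ : ↥(Cfsg.pResidual 2 G))).Coprime 2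
  rw [← Subgroup.orderOf_coe]
  exact hg


/-- A consequence of Thompson's transfer lemma. Let G be a finite group, L a subgroup with O²(L) = L, T a Sylow 2-subgroup of L and S a Sylow 2-subgroup of G containing T. Suppose D ≤ S is a dihedral subgroup of order at least 4 (the four-group counts) with D ∩ T = 1 and S = TD as a set of products (so |S| = |T|·|D|), and C ≤ D is cyclic of index 2 in D. If no involution of D outside C is G-conjugate to an involution of the subgroup generated by T and C, and the involution of C is not G-conjugate to any involution of T, then G has a normal subgroup K, containing every Sylow 2-subgroup of L as a Sylow 2-subgroup, with G = KD. -/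
theorem result {G : Type*} [Group G] [Finite G] (L T S D C : Subgroup G) (hL : Cfsg.pResidual 2 ↥L = ⊤)
    (hTL : T ≤ L) (hT2 : IsPGroup 2 T) (hTsyl : ¬ 2 ∣ T.relIndex L)
    (hS2 : IsPGroup 2 S) (hSsyl : ¬ 2 ∣ S.index) (hTS : T ≤ S)
    (hDS : D ≤ S) (hDih : ∃ n : ℕ, 2 ≤ n ∧ Nonempty (↥D ≃* DihedralGroup n)) (hDT : D ⊓ T = ⊥) (hTD : T ⊔ D = S) (hTDc : Nat.card T * Nat.card D = Nat.card S)
    (hCD : C ≤ D) (hC : IsCyclic ↥C) (hCi : C.relIndex D = 2)
    (h1 : ∀ x ∈ D, x ∉ C → orderOf x = 2 → ∀ g : G, g * x * g⁻¹ ∈ T ⊔ C → False)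
    (h2 : ∀ c ∈ C, orderOf c = 2 → ∀ g : G, g * c * g⁻¹ ∈ T → False) :
    ∃ K : Subgroup G, K.Normal ∧ K ⊔ D = ⊤ ∧
      ∀ T' : Subgroup G, T' ≤ L → IsPGroup 2 T' → ¬ 2 ∣ T'.relIndex L → T' ≤ K ∧ ¬ 2 ∣ T'.relIndex K := by
  skip
  classical
  haveI : Fact (Nat.Prime 2) := ⟨Nat.prime_two⟩
  set K := Cfsg.pResidual 2 G with hKdef
  haveI hKn : K.Normal := by
    haveI := Cfsg.Agent.Solv.pResidual_characteristic 2 G
    infer_instance
  have hLK : L ≤ K := by
    have h := Cfsg.Agent.Fusion.map_pResidual_le (p := 2) L.subtype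
    rw [hL, ← MonoidHom.range_eq_map, range_subtype] at h
    exact h
  obtain ⟨r, hr⟩ := Cfsg.Agent.Solv.exists_pResidual_index (p := 2) (G := G)
  rw [← hKdef] at hr
  let Sy : Sylow 2 G := hS2.toSylow hSsyl
  have hSK : S ⊔ K = ⊤ := Cfsg.Agent.Solv.sup_pResidual_eq_top Sy
  have hTK : T ≤ K := hTL.trans hLK
  have hKD : K ⊔ D = ⊤ := by
    rw [eq_top_iff, ← hSK, ← hTD]
    exact sup_le (sup_le (hTK.trans le_sup_left) le_sup_right) le_sup_left
  -- products
  have hTD' : ∀ s ∈ S, ∃ t ∈ T, ∃ d ∈ D, s = t * d := by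
    intro s hs
    let f : ↥T × ↥D → ↥S := fun q => ⟨q.1 * q.2, mul_mem (hTS q.1.2) (hDS q.2.2)⟩
    have hinj : Function.Injective f := by
      intro a b hab
      have h' : (a.1 : G) * a.2 = b.1 * b.2 := congrArg Subtype.val hab
      have hm : (b.1 : G)⁻¹ * a.1 = b.2 * (a.2 : G)⁻¹ := by
        rw [inv_mul_eq_iff_eq_mul, ← mul_assoc, ← h', mul_inv_cancel_right]
      have h1 : (b.1 : G)⁻¹ * a.1 ∈ D ⊓ T :=
        mem_inf.2 ⟨hm ▸ mul_mem b.2.2 (inv_mem a.2.2), mul_mem (inv_mem b.1.2) a.1.2⟩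
      rw [hDT, mem_bot, inv_mul_eq_one] at h1
      refine Prod.ext (Subtype.ext h1.symm) (Subtype.ext ?_)
      rw [← h1] at h'
      exact mul_left_cancel h'
    haveI : Fintype ↥T := Fintype.ofFinite _
    haveI : Fintype ↥D := Fintype.ofFinite _
    haveI : Fintype ↥S := Fintype.ofFinite _
    have hbij : Function.Bijective f := (Fintype.bijective_iff_injective_and_card f).2 ⟨hinj, by
      rw [Fintype.card_prod, ← Nat.card_eq_fintype_card, ← Nat.card_eq_fintype_card, ← Nat.card_eq_fintype_card, hTDc]⟩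
    obtain ⟨q, hq⟩ := hbij.2 ⟨s, hs⟩
    exact ⟨q.1, q.1.2, q.2, q.2.2, (congrArg Subtype.val hq).symm⟩
  have hprod : ∀ X : Subgroup G, X ≤ D → ∀ Y : Subgroup G, T ≤ Y → X ≤ Y →
      Nat.card T * Nat.card X ≤ Nat.card Y := by
    intro X hX Y hTY hXY
    rw [← Nat.card_prod]
    refine Nat.card_le_card_of_injective
      (fun q : ↥T × ↥X => (⟨q.1 * q.2, mul_mem (hTY q.1.2) (hXY q.2.2)⟩ : Y)) ?_
    intro a b hab
    have h' : (a.1 : G) * a.2 = b.1 * b.2 := congrArg Subtype.val hab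
    have hm : (b.1 : G)⁻¹ * a.1 = b.2 * (a.2 : G)⁻¹ := by
      rw [inv_mul_eq_iff_eq_mul, ← mul_assoc, ← h', mul_inv_cancel_right]
    have h1 : (b.1 : G)⁻¹ * a.1 ∈ D ⊓ T :=
      mem_inf.2 ⟨hm ▸ mul_mem (hX b.2.2) (inv_mem (hX a.2.2)), mul_mem (inv_mem b.1.2) a.1.2⟩
    rw [hDT, mem_bot, inv_mul_eq_one] at h1
    refine Prod.ext (Subtype.ext h1.symm) (Subtype.ext ?_)
    rw [← h1] at h'
    exact mul_left_cancel h'
  have hoddS : Odd S.index := Nat.not_even_iff_odd.1 fun h => hSsyl h.two_dvd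
  -- step one: `D ∩ K ≤ C`
  have hinv : ∀ d ∈ D, d ∉ C → d ^ 2 = 1 := by
    intro d hd hdC
    obtain ⟨n, hn, ⟨e⟩⟩ := hDih
    let C' : Subgroup (DihedralGroup n) := (C.subgroupOf D).map e.toMonoidHom
    have hcyc : IsCyclic C' := by
      haveI := hC
      haveI : IsCyclic (C.subgroupOf D) := isCyclic_of_surjective (subgroupOfEquivOfLe hCD).symm (MulEquiv.surjective _)
      exact isCyclic_of_surjective (e.subgroupMap (C.subgroupOf D)) (MulEquiv.surjective _)
    have hi : C'.index = 2 := by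
      rw [show C' = (C.subgroupOf D).map (e : ↥D →* DihedralGroup n) from rfl, index_map_equiv]
      exact hCi
    have h := dihedral_out hn C' hcyc hi (e ⟨d, hd⟩) (fun h => by
      obtain ⟨x, hx, hxe⟩ := h
      have : x = ⟨d, hd⟩ := e.injective hxe
      subst this
      exact hdC hx)
    rw [← map_pow, MulEquiv.map_eq_one_iff] at h
    exact congrArg Subtype.val h
  have hCK : D ⊓ K ≤ C := by
    intro d hd
    obtain ⟨hdD, hdK⟩ := mem_inf.1 hd
    by_contra hdC
    have hd1 : d ≠ 1 := fun h => hdC (h ▸ one_mem C)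
    have hord : orderOf d = 2 := orderOf_eq_prime (hinv d hdD hdC) hd1
    have hne : T ⊔ C ≠ S := fun h => h1 d hdD hdC hord 1 (by simpa [h] using hDS hdD)
    have hle : T ⊔ C ≤ S := sup_le hTS (hCD.trans hDS)
    have hcardC : Nat.card D = 2 * Nat.card C := by
      have h0 := relIndex_mul_relIndex ⊥ C D bot_le hCD
      rw [relIndex_bot_left, relIndex_bot_left, hCi] at h0
      rw [← h0, mul_comm]
    have hi : (T ⊔ C).relIndex S = 2 := by
      have h0 := relIndex_mul_relIndex ⊥ (T ⊔ C) S bot_le hle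
      rw [relIndex_bot_left, relIndex_bot_left] at h0
      have h2 := hprod C hCD (T ⊔ C) le_sup_left le_sup_right
      have h3 : (T ⊔ C).relIndex S ≠ 1 := fun h => hne (le_antisymm hle (relIndex_eq_one.1 h))
      have h4 : 0 < Nat.card ↥(T ⊔ C) := Nat.card_pos
      have h5 : (T ⊔ C).relIndex S ≠ 0 := fun h => by
        rw [h, mul_zero] at h0
        exact Nat.card_pos.ne h0
      rw [← hTDc, hcardC] at h0
      nlinarith [Nat.two_le_iff _ |>.2 ⟨h5, h3⟩]
    refine not_residual (T ⊔ C) d 0 S.index hoddS ?_ ?_ ?_ hdK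
    · simpa using hinv d hdD hdC
    · rw [← relIndex_mul_index hle, hi]; norm_num
    · intro g hg
      rw [pow_zero, pow_one] at hg
      refine h1 d hdD hdC hord g⁻¹ ?_
      simpa using hg
  -- step two: `S ∩ K = T`
  have hSKT : ∀ x ∈ S ⊓ K, ∃ t ∈ T, ∃ c ∈ D ⊓ K, x = t * c := by
    intro x hx
    obtain ⟨t, ht, c, hc, rfl⟩ := hTD' x (mem_inf.1 hx).1
    refine ⟨t, ht, c, mem_inf.2 ⟨hc, ?_⟩, rfl⟩
    simpa using mul_mem (inv_mem (hTK ht)) (mem_inf.1 hx).2
  have hcardK : Nat.card K = Nat.card ↥(S ⊓ K) * S.index := by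
    have a1 := K.card_mul_index
    have a2 := S.card_mul_index
    have a3 : K.relIndex S = K.index := by
      rw [← relIndex_top_right, ← hSK, relIndex_sup_right]
    have a4 := relIndex_mul_relIndex ⊥ (S ⊓ K) S bot_le inf_le_left
    rw [relIndex_bot_left, relIndex_bot_left, inf_relIndex_left, a3] at a4
    refine Nat.eq_of_mul_eq_mul_right (Nat.pos_of_ne_zero (index_ne_zero_of_finite (H := K))) ?_
    rw [a1, ← a2, ← a4]
    ring
  obtain ⟨o, ho, hcardL⟩ : ∃ o, Odd o ∧ Nat.card L = Nat.card T * o := by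
    refine ⟨T.relIndex L, Nat.not_even_iff_odd.1 fun h => hTsyl h.two_dvd, ?_⟩
    have h0 := relIndex_mul_relIndex ⊥ T L bot_le hTL
    rw [relIndex_bot_left, relIndex_bot_left] at h0
    exact h0.symm
  have hcardSK : Nat.card ↥(S ⊓ K) = Nat.card T * Nat.card ↥(D ⊓ K) := by
    refine le_antisymm ?_ (hprod (D ⊓ K) inf_le_left _ (le_inf hTS hTK) (inf_le_inf_right K hDS))
    rw [← Nat.card_prod]
    refine Nat.card_le_card_of_surjective (fun q : ↥T × ↥(D ⊓ K) =>
      (⟨q.1 * q.2, mem_inf.2 ⟨mul_mem (hTS q.1.2) (hDS (mem_inf.1 q.2.2).1),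
        mul_mem (hTK q.1.2) (mem_inf.1 q.2.2).2⟩⟩ : ↥(S ⊓ K))) ?_
    intro x
    obtain ⟨t, ht, c, hc, e⟩ := hSKT x x.2
    exact ⟨(⟨t, ht⟩, ⟨c, hc⟩), Subtype.ext e.symm⟩
  have hbot : D ⊓ K = ⊥ := by
    by_contra hne
    haveI hcyc : IsCyclic ↥(D ⊓ K) := by
      haveI := hC
      exact isCyclic_of_injective (inclusion hCK) (inclusion_injective hCK)
    obtain ⟨y, hy⟩ := hcyc.exists_generator
    obtain ⟨e, he⟩ := IsPGroup.iff_card.1 (hS2.to_le (inf_le_left.trans hDS : D ⊓ K ≤ S))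
    obtain ⟨k, rfl⟩ : ∃ k, e = k + 1 := by
      refine Nat.exists_eq_add_one.2 (Nat.pos_of_ne_zero fun h => hne ?_)
      rw [h, pow_zero] at he
      exact card_eq_one.1 he
    have hoy : orderOf (y : G) = 2 ^ (k + 1) := by
      rw [Subgroup.orderOf_coe, orderOf_eq_card_of_forall_mem_zpowers hy, he]
    have hord : orderOf ((y : G) ^ 2 ^ k) = 2 := by
      rw [orderOf_pow' _ (by positivity), hoy,
        Nat.gcd_eq_right (Nat.pow_dvd_pow 2 (Nat.le_succ k)), pow_succ, Nat.mul_div_cancel_left _ (Nat.two_pow_pos k)]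
    have hK2 : Cfsg.pResidual 2 ↥K = ⊤ := residual_residual G
    have hrel : (L.subgroupOf K).index * o = 2 ^ (k + 1) * S.index := by
      have h0 := (L.subgroupOf K).card_mul_index
      rw [Nat.card_congr (subgroupOfEquivOfLe hLK).toEquiv, hcardK, hcardSK, he, hcardL] at h0
      refine Nat.eq_of_mul_eq_mul_left (Nat.card_pos (α := T)) ?_
      calc Nat.card T * ((L.subgroupOf K).index * o) = Nat.card T * o * (L.subgroupOf K).index := by ring
        _ = Nat.card T * 2 ^ (k + 1) * S.index := h0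
        _ = _ := by ring
    obtain ⟨m, hm⟩ : 2 ^ (k + 1) ∣ (L.subgroupOf K).index :=
      (Nat.Coprime.pow_left _ (Nat.coprime_two_left.2 ho)).dvd_of_dvd_mul_right ⟨S.index, hrel⟩
    have hmodd : Odd m := by
      rw [hm, mul_assoc] at hrel
      have := Nat.eq_of_mul_eq_mul_left (Nat.two_pow_pos _) hrel
      exact (Nat.odd_mul.1 (this ▸ hoddS)).1
    refine not_residual (L.subgroupOf K) ⟨y, (mem_inf.1 y.2).2⟩ k m hmodd ?_ hm ?_ (hK2 ▸ mem_top _)
    · exact Subtype.ext (by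
        show (y : G) ^ 2 ^ (k + 1) = 1
        rw [← hoy, pow_orderOf_eq_one])
    · intro g hg
      rw [mem_subgroupOf] at hg
      change (g : G)⁻¹ * (y : G) ^ 2 ^ k * g ∈ L at hg
      -- conjugate into the Sylow subgroup `T` of `L`
      have hu2 : IsPGroup 2 (zpowers (⟨_, hg⟩ : L)) := IsPGroup.of_card (n := 1) (by
        rw [Nat.card_zpowers, ← orderOf_injective L.subtype L.subtype_injective, pow_one]
        show orderOf ((g : G)⁻¹ * (y : G) ^ 2 ^ k * g) = 2
        refine Eq.trans ?_ hord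
        exact (show SemiconjBy (g : G)⁻¹ ((y : G) ^ 2 ^ k) ((g : G)⁻¹ * (y : G) ^ 2 ^ k * g) by
          unfold SemiconjBy; group).orderOf_eq.symm)
      obtain ⟨Q, hQ⟩ := hu2.exists_le_sylow
      have hT2' : IsPGroup 2 ↥(T.subgroupOf L) := hT2.of_equiv (subgroupOfEquivOfLe hTL).symm
      obtain ⟨l, hl⟩ := MulAction.exists_smul_eq L Q (hT2'.toSylow hTsyl)
      have hm' : l * ⟨_, hg⟩ * l⁻¹ ∈ T.subgroupOf L := by
        have h0 : (MulAut.conj l) ⟨_, hg⟩ ∈ ((l • Q : Sylow 2 L) : Subgroup L) := by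
          rw [Sylow.coe_subgroup_smul]
          exact Subgroup.smul_mem_pointwise_smul _ _ _ (hQ (mem_zpowers _))
        rw [hl] at h0
        exact h0
      rw [mem_subgroupOf] at hm'
      refine h2 _ (hCK (pow_mem y.2 _)) hord ((l : G) * (g : G)⁻¹) ?_
      convert hm' using 1
      simp only [Subgroup.coe_mul, Subgroup.coe_inv]
      group
  refine ⟨K, hKn, hKD, fun T' hT'L hT'2 hT's => ⟨hT'L.trans hLK, ?_⟩⟩
  have hTT : Nat.card T' = Nat.card T := by
    have e1 := relIndex_mul_relIndex ⊥ T' L bot_le hT'L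
    rw [relIndex_bot_left, relIndex_bot_left, hcardL] at e1
    obtain ⟨a, ha⟩ := IsPGroup.iff_card.1 hT'2
    obtain ⟨b, hb⟩ := IsPGroup.iff_card.1 hT2
    rw [ha, hb] at e1 ⊢
    congr 1
    have c1 : Nat.Coprime (2 ^ a) o := Nat.Coprime.pow_left a (Nat.coprime_two_left.2 ho)
    have c2 : Nat.Coprime (2 ^ b) (T'.relIndex L) := Nat.Coprime.pow_left b
      (Nat.coprime_two_left.2 (Nat.not_even_iff_odd.1 fun h => hT's h.two_dvd))
    refine le_antisymm ((Nat.pow_dvd_pow_iff_le_right (by norm_num)).1 (c1.dvd_of_dvd_mul_right ⟨_, e1.symm⟩)) ?_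
    exact (Nat.pow_dvd_pow_iff_le_right (by norm_num)).1 (c2.dvd_of_dvd_mul_right ⟨o, e1⟩)
  have e2 := relIndex_mul_relIndex ⊥ T' K bot_le (hT'L.trans hLK)
  rw [relIndex_bot_left, relIndex_bot_left, hcardK, hcardSK, hbot, card_bot, mul_one, hTT] at e2
  rw [Nat.eq_of_mul_eq_mul_left Nat.card_pos e2]
  exact hSsyl

end Cfsg.Agent.S1924
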