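import Cfsg.Statements.S0262
import Cfsg.Agent.Lib.Classical.SL2
import Cfsg.Agent.Lib.Classical.SmallAlt

set_option autoImplicit false
open Cfsg

open Cfsg.Agent.Classical

namespace Cfsg.Agent.S0262

/-- For an odd prime r different from the characteristic, the Sylow r-subgroups of SL_2(q) are cyclic. -/
theorem result {F : Type*} [Field F] [Fintype F] (p : ℕ) [Fact p.Prime] [CharP F p] (r : ℕ) [Fact r.Prime] (hr : r ≠ 2) (hrp : r ≠ p) (R : Sylow r (Matrix.SpecialLinearGroup (Fin 2) F)) : IsCyclic (R : Subgroup (Matrix.SpecialLinearGroup (Fin 2) F)) := by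
  classical
  haveI : Fintype (R : Subgroup (Matrix.SpecialLinearGroup (Fin 2) F)) := Fintype.ofFinite _
  rcases subsingleton_or_nontrivial (R : Subgroup (Matrix.SpecialLinearGroup (Fin 2) F)) with hs | hnt
  · exact isCyclic_of_subsingleton
  haveI := R.2.center_nontrivial
  obtain ⟨z, hz⟩ := exists_ne (1 : Subgroup.center (R : Subgroup (Matrix.SpecialLinearGroup (Fin 2) F)))
  refine SL2.isCyclic_of_central p (R : Subgroup (Matrix.SpecialLinearGroup (Fin 2) F)) ?_ z.1.1 ?_ ?_
  · obtain ⟨k, hk⟩ := IsPGroup.iff_card.1 R.2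
    rw [hk]
    exact Nat.Coprime.pow_left k ((Nat.coprime_primes Fact.out Fact.out).2 hrp)
  · rintro ⟨a, ha⟩
    have hd := z.1.1.2
    rw [ha, Matrix.det_smul, Matrix.det_one, mul_one, Fintype.card_fin] at hd
    have h2 : (z.1 : Matrix.SpecialLinearGroup (Fin 2) F) ^ 2 = 1 := Subtype.ext (by
      rw [SL2.coe_pow', ha, smul_pow, one_pow, hd, one_smul]
      rfl)
    obtain ⟨k, hk⟩ := IsPGroup.iff_orderOf.1 R.2 z.1
    apply hz
    refine Subtype.ext (orderOf_eq_one_iff.1 ?_)
    have hd2 : r ^ k ∣ 2 := hk ▸ orderOf_dvd_of_pow_eq_one (Subtype.ext h2)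
    rcases k with _ | k
    · exact hk
    · exfalso
      exact hr ((Nat.prime_dvd_prime_iff_eq Fact.out Nat.prime_two).1
        ((dvd_pow_self r k.succ_ne_zero).trans hd2))
  · intro h hh
    exact (congrArg Subtype.val (Subgroup.mem_center_iff.1 z.2 ⟨h, hh⟩)).symm

end Cfsg.Agent.S0262
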