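import Cfsg.Statements.S3961
import Cfsg.Agent.Lib.Struct.SchurPerfect

set_option autoImplicit false
universe u v
open Cfsg
open Cfsg.Agent.Struct.Schur
open scoped commutatorElement

namespace Cfsg.Agent.S3961

/-- Let `π : G →* Q` be a surjective homomorphism with central kernel from a finite perfect group `G` (a perfect cover of `Q`). Then `π` is universal, in the sense that every surjective homomorphism `ξ : X →* Q` with central kernel from a group `X` in the universe of `G` admits a homomorphism `η : G →* X` with `ξ ∘ η = π`, if and only if `G` has trivial Schur multiplier. -/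
theorem result {G : Type u} {Q : Type v} [Group G] [Group Q] [Finite G] (hG : Group.IsPerfect G) (π : G →* Q) (hπ : Function.Surjective π) (hker : π.ker ≤ Subgroup.center G) : (∀ (X : Type u) [Group X] (ξ : X →* Q), Function.Surjective ξ → ξ.ker ≤ Subgroup.center X → ∃ η : G →* X, ξ.comp η = π) ↔ Cfsg.HasCyclicSchurMultiplier G 1 := by
  constructor
  · intro huniv
    refine hasCyclic_one_of_ker_bot G fun Δ _ _ τ hτ => ?_
    obtain ⟨hτs, hτc, hτd⟩ := hτ
    have hΔ : Group.IsPerfect Δ := by
      refine ⟨eq_top_iff.2 fun d _ => ?_⟩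
      have h1 : τ d ∈ (commutator Δ).map τ := by
        rw [commutator_def, Subgroup.map_commutator, Subgroup.map_top_of_surjective _ hτs,
          ← commutator_def, hG.commutator_eq_top]
        exact Subgroup.mem_top _
      obtain ⟨e, he, hed⟩ := h1
      have : e⁻¹ * d ∈ commutator Δ := hτd (by
        rw [MonoidHom.mem_ker, map_mul, map_inv, hed, inv_mul_cancel])
      simpa using mul_mem he this
    have hcc : (π.comp τ).ker ≤ Subgroup.center Δ := fun z hz =>
      mem_center_of_comm_mem_center hΔ z fun x => hτc (by
        rw [MonoidHom.mem_ker, map_commutatorElement, commutatorElement_eq_one_iff_mul_comm]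
        exact (Subgroup.mem_center_iff.1 (hker hz) (τ x)).symm)
    obtain ⟨η, hη⟩ := huniv Δ (π.comp τ) (hπ.comp hτs) hcc
    have hid : τ.comp η = MonoidHom.id G :=
      hom_ext_of_perfect hG π hker _ _ (by rw [← MonoidHom.comp_assoc, hη, MonoidHom.comp_id])
    have htop : η.range ⊔ τ.ker = ⊤ :=
      range_sup_ker_eq_top η τ (by rw [hid]; exact fun g => ⟨g, rfl⟩)
    have hη' : Function.Surjective η := by
      rw [← MonoidHom.range_eq_top, eq_top_iff, ← hΔ.commutator_eq_top,
        commutator_eq_map_of_range_sup_center η (eq_top_iff.2 (htop.symm.le.trans (sup_le_sup_left hτc _)))]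
      exact Subgroup.map_le_range _ _
    rw [eq_bot_iff]
    intro d hd
    obtain ⟨g, rfl⟩ := hη' d
    have : τ (η g) = g := DFunLike.congr_fun hid g
    rw [MonoidHom.mem_ker, this] at hd
    rw [Subgroup.mem_bot, hd, map_one]
  · intro hM X _ ξ hξ hξc
    let E : Subgroup (G × X) := MonoidHom.eqLocus (π.comp (MonoidHom.fst G X)) (ξ.comp (MonoidHom.snd G X))
    let p : E →* G := (MonoidHom.fst G X).comp E.subtype
    have hp : Function.Surjective p := fun g => by
      obtain ⟨x, hx⟩ := hξ (π g)
      exact ⟨⟨(g, x), hx.symm⟩, rfl⟩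
    have hpc : p.ker ≤ Subgroup.center E := by
      rintro ⟨⟨g, x⟩, hgx⟩ hp'
      have hg : g = 1 := hp'
      subst hg
      have hx : x ∈ ξ.ker := by
        have h1 : π 1 = ξ x := hgx
        rw [map_one] at h1
        exact h1.symm
      refine Subgroup.mem_center_iff.2 fun y => Subtype.ext (Prod.ext ?_ ?_)
      · simp
      · exact Subgroup.mem_center_iff.1 (hξc hx) _
    obtain ⟨q, hq⟩ := exists_surj_of_central G hM p hp hpc
    have hsub : Subsingleton (Multiplicative (ZMod 1)) := Multiplicative.toAdd.subsingleton
    have hsub' : Subsingleton ↥(p.ker ⊓ commutator E) := hq.subsingleton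
    let f : commutator E →* G := p.comp (Subgroup.subtype _)
    have hf : Function.Bijective f := by
      constructor
      · rw [← MonoidHom.ker_eq_bot_iff, eq_bot_iff]
        intro z hz
        have := Subsingleton.elim (⟨z.1, hz, z.2⟩ : ↥(p.ker ⊓ commutator E)) 1
        exact Subgroup.mem_bot.2 (Subtype.ext (congrArg (fun t => t.1) this :))
      · rw [← MonoidHom.range_eq_top, MonoidHom.range_comp, Subgroup.range_subtype, commutator_def,
          Subgroup.map_commutator, Subgroup.map_top_of_surjective _ hp, ← commutator_def]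
        exact hG.commutator_eq_top
    let e := MulEquiv.ofBijective f hf
    refine ⟨((MonoidHom.snd G X).comp E.subtype).comp ((Subgroup.subtype _).comp e.symm.toMonoidHom), ?_⟩
    refine MonoidHom.ext fun g => ?_
    have h1 : π (p (e.symm g).1) = ξ ((MonoidHom.snd G X) (e.symm g).1.1) := (e.symm g).1.2
    have h2 : p (e.symm g).1 = g := e.apply_symm_apply g
    rw [h2] at h1
    exact h1.symm

end Cfsg.Agent.S3961
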