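import Cfsg.Statements.S1226
import Cfsg.Agent.Lib.Inv.StronglyEmbedded
import Mathlib
-- import your own Cfsg.Agent.* helpers here

set_option autoImplicit false
open Cfsg

namespace Cfsg.Agent.S1226

/-- Let G be a finite group with a Sylow 2-subgroup T that is neither cyclic nor normal, such that the centralizer of every involution is an elementary abelian 2-group. Then N_G(T) is a strongly embedded subgroup of G. -/
theorem result {G : Type*} [Group G] [Finite G] (T : Sylow 2 G) (hnc : ¬ IsCyclic (T : Subgroup G)) (hnn : ¬ (T : Subgroup G).Normal) (hC : ∀ t : G, orderOf t = 2 → IsMulCommutative (Subgroup.centralizer ({t} : Set G)) ∧ ∀ c ∈ Subgroup.centralizer ({t} : Set G), c ^ 2 = 1) : Cfsg.IsStronglyEmbedded (Subgroup.normalizer ((T : Subgroup G) : Set G)) := by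
  open Cfsg.Agent.Inv in
  classical
  haveI : Fact (Nat.Prime 2) := ⟨Nat.prime_two⟩
  haveI hTn : Nontrivial (T : Subgroup G) := by
    by_contra h
    rw [not_nontrivial_iff_subsingleton] at h
    exact hnc inferInstance
  obtain ⟨n, hn, hcard⟩ := T.isPGroup'.nontrivial_iff_card.1 hTn
  haveI := T.isPGroup'.center_nontrivial
  obtain ⟨m, hm, hmcard⟩ :=
    (T.isPGroup'.to_subgroup (Subgroup.center _)).nontrivial_iff_card.1 ‹_›
  obtain ⟨⟨⟨z, hzT⟩, hzc⟩, hz⟩ :=
    exists_prime_orderOf_dvd_card' (G := Subgroup.center (T : Subgroup G)) 2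
      (by rw [hmcard]; exact dvd_pow_self 2 hm.ne')
  rw [Subgroup.orderOf_mk, Subgroup.orderOf_mk] at hz
  have hTC : (T : Subgroup G) ≤ Subgroup.centralizer ({z} : Set G) := fun x hx =>
    Subgroup.mem_centralizer_singleton_iff.2
      (congrArg Subtype.val (Subgroup.mem_center_iff.1 hzc ⟨x, hx⟩))
  -- every centralizer of an involution of T equals T
  have hCT : ∀ t ∈ (T : Subgroup G), orderOf t = 2 →
      Subgroup.centralizer ({t} : Set G) = T := by
    intro t htT ht
    refine T.is_maximal' ?_ fun x hx => ?_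
    · intro x
      exact ⟨1, Subtype.ext (by simpa using (hC t ht).2 x.1 x.2)⟩
    · haveI := (hC z hz).1
      rw [Subgroup.mem_centralizer_singleton_iff]
      exact congrArg Subtype.val (IsMulCommutative.is_comm.comm
        (⟨x, hTC hx⟩ : Subgroup.centralizer ({z} : Set G)) ⟨t, hTC htT⟩)
  have hTN : (T : Subgroup G) ≤ Subgroup.normalizer ((T : Subgroup G) : Set G) :=
    Subgroup.le_normalizer
  refine isStronglyEmbedded_of (fun e => hnn (Subgroup.normalizer_eq_top_iff.1 e)) ?_ ?_
  · refine even_iff_two_dvd.2 (((hcard ▸ dvd_pow_self 2 hn.ne') : 2 ∣ Nat.card T).trans ?_)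
    exact Subgroup.card_dvd_of_le hTN
  · intro g t ht htN htg
    have hin : ∀ u : G, orderOf u = 2 → u ∈ Subgroup.normalizer ((T : Subgroup G) : Set G) →
        u ∈ (T : Subgroup G) := by
      intro u hu huN
      have hp : IsPGroup 2 ↥(Subgroup.zpowers u) :=
        IsPGroup.of_card (n := 1) (by rw [Nat.card_zpowers, hu, pow_one])
      have hs : IsPGroup 2 ↥((T : Subgroup G) ⊔ Subgroup.zpowers u) :=
        T.isPGroup'.to_sup_of_normal_left' hp (Subgroup.zpowers_le.2 huN)
      rw [← T.is_maximal' hs le_sup_left]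
      exact Subgroup.mem_sup_right (Subgroup.mem_zpowers u)
    have ht' : orderOf (g⁻¹ * t * g) = 2 := by rw [← ht]; simpa using orderOf_conj g⁻¹ t
    have hA := hin t ht htN
    have hB := hin _ ht' htg
    refine Subgroup.mem_normalizer_fintype fun x hx => ?_
    show g * x * g⁻¹ ∈ ((T : Subgroup G) : Set G)
    rw [SetLike.mem_coe] at hx ⊢
    rw [← hCT _ hB ht', Subgroup.mem_centralizer_singleton_iff] at hx
    rw [← hCT t hA ht, Subgroup.mem_centralizer_singleton_iff]
    calc g * x * g⁻¹ * t = g * (x * (g⁻¹ * t * g)) * g⁻¹ := by group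
      _ = g * ((g⁻¹ * t * g) * x) * g⁻¹ := by rw [hx]
      _ = t * (g * x * g⁻¹) := by group

end Cfsg.Agent.S1226
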