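import Cfsg.Statements.S2822
import Cfsg.Agent.Lib.Local.SylowCenter
-- import your own Cfsg.Agent.* helpers here

set_option autoImplicit false
open Cfsg

namespace Cfsg.Agent.S2822

/-- Let H be a finite group, p a prime, T a Sylow p-subgroup, and L, M subgroups of characteristic p containing T, with largest p-reduced normal subgroups Y_L, Y_M. If L·C_H(Y_M) = M·C_H(Y_M), then Y_M ≤ Y_L. -/
theorem result {H : Type*} [Group H] [Finite H] {p : ℕ} [Fact p.Prime] (T : Sylow p H) (L M : Subgroup H) (hTL : (T : Subgroup H) ≤ L) (hTM : (T : Subgroup H) ≤ M) (hL : Subgroup.centralizer (Cfsg.pCore p ↥L : Set ↥L) ≤ Cfsg.pCore p ↥L) (hM : Subgroup.centralizer (Cfsg.pCore p ↥M : Set ↥M) ≤ Cfsg.pCore p ↥M) : L ⊔ Subgroup.centralizer (((Cfsg.largestPReducedOf p M) : Subgroup H) : Set H) = M ⊔ Subgroup.centralizer (((Cfsg.largestPReducedOf p M) : Subgroup H) : Set H) → (Cfsg.largestPReducedOf p M) ≤ (Cfsg.largestPReducedOf p L) := by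
  intro hjoin
  set Y := Cfsg.largestPReducedOf p M with hY
  set C := Subgroup.centralizer ((Y : Subgroup H) : Set H) with hC
  set T' : Subgroup H := (T : Subgroup H) with hT'
  have hMY : M ≤ Subgroup.normalizer (Y : Set H) := by
    refine Solv.le_normalizer_of_conj_mem ?_
    rintro a ha _ ⟨y, hy, rfl⟩
    exact ⟨⟨a, ha⟩ * y * ⟨a, ha⟩⁻¹, (Local.LargestPR.largest_normal).conj_mem y hy _, rfl⟩
  have hLN : L ≤ Subgroup.normalizer (Y : Set H) :=
    le_sup_left.trans (hjoin.le.trans (sup_le hMY (Subgroup.centralizer_le_normalizer _)))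
  have hYT : Y ≤ T' := by
    rintro _ ⟨y, hy, rfl⟩
    exact Solv.pCore_le_sylow (T.subtype hTM) (Local.LargestPR.le_pCore Local.LargestPR.largest_spec hy)
  have hYL : Y ≤ L := hYT.trans hTL
  intro y hy
  refine ⟨⟨y, hYL hy⟩, Local.LargestPR.le_largest (V := Y.subgroupOf L) ?_ hy, rfl⟩
  refine Local.PReduced.isPReducedNormal_of_forall
    ((Subgroup.normal_subgroupOf_iff_le_normalizer hYL).2 hLN)
    (Solv.elemAbelian_subgroupOf (Solv.elemAbelian_map _ Local.LargestPR.largest_spec.2.1)) fun N hN h => ?_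
  haveI := hN
  have hMred := (Local.LargestPR.largest_spec (L := M) (p := p))
  -- `p'`-elements of `N` centralize `Y`
  set N' : Subgroup H := N.map L.subtype with hN'
  have hNp : ∀ x ∈ N', (orderOf x).Coprime p → x ∈ C := by
    rintro _ ⟨x, hx, rfl⟩ hco
    rw [Subgroup.mem_centralizer_iff]
    intro v hv
    exact congrArg Subtype.val (Subgroup.mem_centralizer_iff.1
      (h x hx (by rwa [← Subgroup.orderOf_coe])) ⟨v, hYL hv⟩ hv)
  set K := L ⊔ C with hK
  haveI hCn : (C.subgroupOf K).Normal := by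
    rw [Subgroup.normal_subgroupOf_iff_le_normalizer le_sup_right]
    refine sup_le ?_ Subgroup.le_normalizer
    refine Solv.le_normalizer_of_conj_mem fun a ha c hc => ?_
    rw [Subgroup.mem_centralizer_iff]
    intro v hv
    have h1 := Subgroup.mem_centralizer_iff.1 hc _ ((Subgroup.mem_normalizer_iff''.1 (hLN ha) v).1 hv)
    calc v * (a * c * a⁻¹) = a * ((a⁻¹ * v * a) * c) * a⁻¹ := by group
      _ = a * (c * (a⁻¹ * v * a)) * a⁻¹ := by rw [h1]
      _ = a * c * a⁻¹ * v := by group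
  -- `N'C` is normalized by `M`
  have hNC : K ≤ Subgroup.normalizer ((N' ⊔ C : Subgroup H) : Set H) := by
    refine sup_le (fun a ha => Subgroup.mem_normalizer_iff_map_conj_eq.2 ?_)
      (le_sup_right.trans Subgroup.le_normalizer)
    have e1 : a ∈ Subgroup.normalizer (N' : Set H) :=
      Solv.le_normalizer_of_conj_mem (X := L) (by
        rintro b hb _ ⟨x, hx, rfl⟩
        exact ⟨⟨b, hb⟩ * x * ⟨b, hb⟩⁻¹, hN.conj_mem x hx _, rfl⟩) ha
    have e2 : a ∈ Subgroup.normalizer (C : Set H) :=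
      (Subgroup.normal_subgroupOf_iff_le_normalizer le_sup_right).1 hCn (le_sup_left (b := C) ha)
    rw [Subgroup.map_sup, Subgroup.mem_normalizer_iff_map_conj_eq.1 e1,
      Subgroup.mem_normalizer_iff_map_conj_eq.1 e2]
  haveI hDn : ((N' ⊔ C).subgroupOf M).Normal := by
    refine ⟨fun x hx m => ?_⟩
    have hmK : (m : H) ∈ K := hjoin.ge (Subgroup.mem_sup_left m.2)
    exact (Subgroup.mem_normalizer_iff.1 (hNC hmK) _).1 hx
  have hD : (N' ⊔ C).subgroupOf M ≤ Subgroup.centralizer (Cfsg.largestPReduced p M : Set M) := by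
    refine Local.PReduced.le_centralizer_of_subnormal hMred (Subgroup.Normal.isSubnormal hDn) fun x hx hco => ?_
    suffices hxC : (x : H) ∈ C by
      rw [Subgroup.mem_centralizer_iff]
      intro v hv
      exact Subtype.ext (Subgroup.mem_centralizer_iff.1 hxC v ⟨v, hv, rfl⟩)
    have hxK : (x : H) ∈ K := hjoin.ge (Subgroup.mem_sup_left x.2)
    have hN'K : N' ≤ K := (Subgroup.map_subtype_le _).trans le_sup_left
    set f := QuotientGroup.mk' (C.subgroupOf K)
    have hp' : IsPGroup p ((N'.subgroupOf K).map f) := by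
      rintro ⟨_, z, hz, rfl⟩
      obtain ⟨a, m, hm, he⟩ := Nat.exists_eq_pow_mul_and_not_dvd (orderOf_pos (z : H)).ne' p
        (Fact.out : p.Prime).one_lt.ne'
      refine ⟨a, Subtype.ext ?_⟩
      show (f z) ^ p ^ a = 1
      rw [← map_pow]
      refine (QuotientGroup.eq_one_iff (N := C.subgroupOf K) _).2 ?_
      show ((z ^ p ^ a : K) : H) ∈ C
      refine hNp _ (pow_mem hz _) ?_
      refine Nat.Coprime.coprime_dvd_left (orderOf_dvd_of_pow_eq_one ?_)
        ((Fact.out : p.Prime).coprime_iff_not_dvd.2 hm).symm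
      rw [SubmonoidClass.coe_pow, ← pow_mul, ← he, pow_orderOf_eq_one]
    have hmem : f ⟨x, hxK⟩ ∈ (N'.subgroupOf K).map f := by
      have h1 : (⟨x, hxK⟩ : K) ∈ (N' ⊔ C).subgroupOf K := hx
      rw [Subgroup.subgroupOf_sup hN'K le_sup_right] at h1
      have h2 := Subgroup.mem_map_of_mem f h1
      rwa [Subgroup.map_sup, show (C.subgroupOf K).map f = ⊥ from
        (Subgroup.map_eq_bot_iff _).2 (QuotientGroup.ker_mk' _).ge, sup_bot_eq] at h2
    obtain ⟨k, hk⟩ := IsPGroup.iff_card.1 hp'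
    have h3 : f ⟨x, hxK⟩ = 1 := orderOf_eq_one_iff.1 (Nat.eq_one_of_dvd_coprimes (hco.pow_right k)
      ((orderOf_map_dvd f _).trans (dvd_of_eq (by rw [← Subgroup.orderOf_coe, ← Subgroup.orderOf_coe])))
      (hk ▸ Subgroup.orderOf_dvd_natCard _ hmem))
    exact (QuotientGroup.eq_one_iff (N := C.subgroupOf K) _).1 h3
  -- `N` is generated by its trace on `T` and its `p'`-elements
  have h1 : ((C.subgroupOf L).subgroupOf N).index = 1 := by
    by_contra hne
    obtain ⟨q, hq, hd⟩ := Nat.exists_prime_and_dvd hne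
    haveI : Fact q.Prime := ⟨hq⟩
    by_cases hqp : q = p
    · subst hqp
      refine Local.SylowCenter.not_dvd_relIndex_normal (T.subtype hTL) N
        (hd.trans (Subgroup.index_dvd_of_le fun x hx => ?_))
      have hxT : ((x : L) : H) ∈ T' := hx
      rw [Subgroup.mem_subgroupOf, Subgroup.mem_subgroupOf, Subgroup.mem_centralizer_iff]
      rintro _ ⟨v, hv, rfl⟩
      exact congrArg Subtype.val (Subgroup.mem_centralizer_iff.1
        (hD (show (⟨_, hTM hxT⟩ : M) ∈ (N' ⊔ C).subgroupOf M from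
          Subgroup.mem_sup_left ⟨x, x.2, rfl⟩)) v hv)
    · obtain ⟨Q⟩ := Sylow.nonempty (p := q) (G := N)
      refine Q.not_dvd_index (hd.trans (Subgroup.index_dvd_of_le fun x hx => ?_))
      obtain ⟨k, hk⟩ := Q.isPGroup' ⟨x, hx⟩
      rw [Subgroup.mem_subgroupOf, Subgroup.mem_subgroupOf]
      refine hNp _ ⟨x, x.2, rfl⟩ ?_
      show (orderOf ((x : L) : H)).Coprime p
      rw [Subgroup.orderOf_coe, Subgroup.orderOf_coe]
      exact Nat.Coprime.coprime_dvd_left (orderOf_dvd_of_pow_eq_one (congrArg Subtype.val hk))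
        (((Nat.coprime_primes hq (Fact.out : p.Prime)).2 hqp).pow_left k)
  intro x hx
  have h2 : (⟨x, hx⟩ : N) ∈ (C.subgroupOf L).subgroupOf N := by
    rw [Subgroup.index_eq_one.1 h1]; trivial
  rw [Subgroup.mem_centralizer_iff]
  intro v hv
  exact Subtype.ext (Subgroup.mem_centralizer_iff.1 (show ((x : L) : H) ∈ C from h2) v hv)

end Cfsg.Agent.S2822
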