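import Cfsg.Statements.S2824
import Cfsg.Agent.S2822
import Cfsg.Agent.Lib.Local.LargestPReduced
import Cfsg.Agent.Lib.Local.SylowCenter
import Cfsg.Agent.Lib.Local.ExtendedLayer
import Cfsg.Agent.Lib.Solv.SchurZassenhaus
import Cfsg.Agent.Lib.Solv.NormalPComplement
import Cfsg.Agent.Lib.Struct.CoprimeMinimal
-- import your own Cfsg.Agent.* helpers here

set_option autoImplicit false
open Cfsg

namespace Cfsg.Agent.S2824
open Cfsg.Agent


/-- Let H be a finite group, p a prime, T a Sylow p-subgroup, L and M subgroups of characteristic p containing T, Y_L the largest p-reduced normal subgroup of L and T₀ = C_T(Y_L). If M·C_H(Y_L) = L·C_H(Y_L), then L* := N_M(T₀) has Y_{L*} = Y_L and L·C_H(Y_L) = L*·C_H(Y_L). -/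
theorem result {H : Type*} [Group H] [Finite H] {p : ℕ} [Fact p.Prime] (T : Sylow p H) (L M : Subgroup H) (hTL : (T : Subgroup H) ≤ L) (hTM : (T : Subgroup H) ≤ M) (hL : Subgroup.centralizer (Cfsg.pCore p ↥L : Set ↥L) ≤ Cfsg.pCore p ↥L) (hM : Subgroup.centralizer (Cfsg.pCore p ↥M : Set ↥M) ≤ Cfsg.pCore p ↥M) (T₀ : Subgroup H) (hT₀ : T₀ = (T : Subgroup H) ⊓ Subgroup.centralizer (((Cfsg.largestPReducedOf p L) : Subgroup H) : Set H)) (hfac : M ⊔ Subgroup.centralizer (((Cfsg.largestPReducedOf p L) : Subgroup H) : Set H) = L ⊔ Subgroup.centralizer (((Cfsg.largestPReducedOf p L) : Subgroup H) : Set H)) (Ls : Subgroup H) (hLs : Ls = M ⊓ Subgroup.normalizer ((T₀ : Subgroup H) : Set H)) : (Cfsg.largestPReducedOf p Ls) = (Cfsg.largestPReducedOf p L) ∧ L ⊔ Subgroup.centralizer (((Cfsg.largestPReducedOf p L) : Subgroup H) : Set H) = Ls ⊔ Subgroup.centralizer (((Cfsg.largestPReducedOf p L) : Subgroup H) : Set H) := by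
  set Y := Cfsg.largestPReducedOf p L with hYdef
  set C := Subgroup.centralizer ((Y : Subgroup H) : Set H) with hC
  set T' : Subgroup H := (T : Subgroup H) with hT'
  have hLY : L ≤ Subgroup.normalizer (Y : Set H) := by
    refine Solv.le_normalizer_of_conj_mem ?_
    rintro a ha _ ⟨y, hy, rfl⟩
    exact ⟨⟨a, ha⟩ * y * ⟨a, ha⟩⁻¹, (Local.LargestPR.largest_normal).conj_mem y hy _, rfl⟩
  have hNC : Subgroup.normalizer (Y : Set H) ≤ Subgroup.normalizer (C : Set H) :=
    Local.ExtLayer.normalizer_le_normalizer_centralizer' Y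
  have hLC : L ≤ Subgroup.normalizer (C : Set H) := hLY.trans hNC
  have hMY : M ≤ Subgroup.normalizer (Y : Set H) :=
    le_sup_left.trans (hfac.le.trans (sup_le hLY (Subgroup.centralizer_le_normalizer _)))
  have hT₀T : T₀ ≤ T' := hT₀.le.trans inf_le_left
  have hT₀C : T₀ ≤ C := hT₀.le.trans inf_le_right
  have hTN : T' ≤ Subgroup.normalizer (T₀ : Set H) := by
    rw [hT₀]
    exact Solv.le_normalizer_inf Subgroup.le_normalizer (hTL.trans hLC)
  have hTLs : T' ≤ Ls := hLs ▸ le_inf hTM hTN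
  have hLsM : Ls ≤ M := hLs.le.trans inf_le_left
  have hLsT₀ : Ls ≤ Subgroup.normalizer (T₀ : Set H) := hLs.le.trans inf_le_right
  -- Frattini argument
  have hfrat : M ≤ Ls ⊔ C := by
    haveI hNn : (C.subgroupOf M).Normal := Subgroup.normal_subgroupOf_of_le_normalizer (hMY.trans hNC)
    set N := C.subgroupOf M with hN
    set TM : Subgroup ↥M := ((T.subtype hTM : Sylow p M) : Subgroup M) with hTMdef
    have hnd := Local.SylowCenter.not_dvd_relIndex_normal (T.subtype hTM) N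
    have hp0 : IsPGroup p ↥(TM.subgroupOf N) := (T.subtype hTM).isPGroup'.comap_subtype
    have hnd' : ¬ p ∣ (TM.subgroupOf N).index := hnd
    have h := Sylow.normalizer_sup_eq_top (hp0.toSylow hnd')
    rw [IsPGroup.toSylow_coe, Subgroup.subgroupOf_map_subtype] at h
    have hmap : (TM ⊓ N).map M.subtype = T₀ := by
      refine le_antisymm ?_ fun x hx => ⟨⟨x, hTM (hT₀T hx)⟩, ⟨hT₀T hx, hT₀C hx⟩, rfl⟩
      rintro _ ⟨x, ⟨hx1, hx2⟩, rfl⟩
      rw [hT₀]
      exact ⟨hx1, hx2⟩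
    intro m hm
    obtain ⟨n, hn, c, hc, hnc⟩ := Subgroup.mem_sup_of_normal_right.1
      (h ▸ Subgroup.mem_top (⟨m, hm⟩ : M))
    rw [show m = (n : H) * (c : H) from congrArg Subtype.val hnc.symm]
    refine Subgroup.mul_mem_sup ?_ hc
    rw [hLs]
    refine ⟨n.2, ?_⟩
    have h2 := Subgroup.le_normalizer_map (H := TM ⊓ N) M.subtype (Subgroup.mem_map_of_mem M.subtype hn)
    rwa [hmap] at h2
  have hKeq : L ⊔ C = Ls ⊔ C :=
    le_antisymm (hfac.ge.trans (sup_le hfrat le_sup_right))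
      ((sup_le_sup_right hLsM C).trans hfac.le)
  refine ⟨?_, hKeq⟩
  -- `Ls` has characteristic `p`
  have hOLs : Cfsg.pCoreOf p M ≤ Ls := by
    rintro _ ⟨x, hx, rfl⟩
    exact hTLs (Solv.pCore_le_sylow (T.subtype hTM) hx)
  have hOn : ((Cfsg.pCoreOf p M).subgroupOf Ls).Normal := by
    refine Subgroup.normal_subgroupOf_of_le_normalizer (hLsM.trans ?_)
    exact Struct.CoprimeMinimal.le_normalizer_map_char M M Subgroup.le_normalizer _
  have hOp : (Cfsg.pCoreOf p M).subgroupOf Ls ≤ Cfsg.pCore p ↥Ls :=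
    haveI := hOn
    Solv.le_pCore (((Solv.isPGroup_pCore p ↥M).map M.subtype).comap_subtype)
  have hcharLs : Subgroup.centralizer (Cfsg.pCore p ↥Ls : Set ↥Ls) ≤ Cfsg.pCore p ↥Ls := by
    intro x hx
    have hxM : (⟨(x : H), hLsM x.2⟩ : M) ∈ Cfsg.pCore p ↥M := by
      refine hM (Subgroup.mem_centralizer_iff.2 fun o ho => Subtype.ext ?_)
      have hoH : (o : H) ∈ Cfsg.pCoreOf p M := ⟨o, ho, rfl⟩
      have h2 : (⟨(o : H), hOLs hoH⟩ : Ls) ∈ Cfsg.pCore p ↥Ls := hOp hoH
      have h3 := congrArg Subtype.val (Subgroup.mem_centralizer_iff.1 hx _ h2)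
      exact h3
    exact hOp (show (x : H) ∈ Cfsg.pCoreOf p M from ⟨_, hxM, rfl⟩)
  set Y' := Cfsg.largestPReducedOf p Ls with hY'def
  have hYY' : Y ≤ Y' := Cfsg.Agent.S2822.result T Ls L hTLs hTL hcharLs hL hKeq.symm
  refine le_antisymm ?_ hYY'
  have hY'T : Y' ≤ T' := by
    rintro _ ⟨y, hy, rfl⟩
    exact Solv.pCore_le_sylow (T.subtype hTLs) (Local.LargestPR.le_pCore Local.LargestPR.largest_spec hy)
  have hT₀Ls : T₀ ≤ Ls := hT₀T.trans hTLs
  have hT₀O : T₀.subgroupOf Ls ≤ Cfsg.pCore p ↥Ls :=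
    haveI : (T₀.subgroupOf Ls).Normal := Subgroup.normal_subgroupOf_of_le_normalizer hLsT₀
    Solv.le_pCore ((T.isPGroup'.to_le hT₀T).comap_subtype)
  have hT₀Y' : ∀ t ∈ T₀, ∀ y ∈ Y', y * t = t * y := by
    rintro t ht _ ⟨y, hy, rfl⟩
    exact congrArg Subtype.val (Subgroup.mem_centralizer_iff.1
      (Local.LargestPR.pCore_le_centralizer Local.LargestPR.largest_spec
        (hT₀O (show (⟨t, hT₀Ls ht⟩ : Ls) ∈ T₀.subgroupOf Ls from ht))) y hy)
  -- in `L`
  set TL : Subgroup ↥L := ((T.subtype hTL : Sylow p L) : Subgroup L) with hTLdef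
  set W := Y'.subgroupOf L with hWdef
  set O := Cfsg.pCore p ↥L with hOdef
  have hWc : W ≤ Subgroup.centralizer (O : Set ↥L) := by
    intro w hw
    rw [Subgroup.mem_centralizer_iff]
    intro o ho
    refine Subtype.ext (hT₀Y' (o : H) ?_ (w : H) hw).symm
    rw [hT₀]
    refine ⟨Solv.pCore_le_sylow (T.subtype hTL) ho, ?_⟩
    refine Subgroup.mem_centralizer_iff.2 ?_
    rintro _ ⟨y, hy, rfl⟩
    exact congrArg Subtype.val (Subgroup.mem_centralizer_iff.1
      (Local.LargestPR.pCore_le_centralizer Local.LargestPR.largest_spec ho) y hy)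
  have hWpow : ∀ w ∈ W, w ^ p = 1 := fun w hw => by
    obtain ⟨y, hy, hyw⟩ := hw
    refine Subtype.ext ?_
    rw [SubmonoidClass.coe_pow, OneMemClass.coe_one,
      show (w : H) = (y : H) from hyw.symm]
    exact congrArg Subtype.val ((Local.LargestPR.largest_spec (p := p)).2.1.2 y hy)
  set V := Subgroup.normalClosure (W : Set ↥L) with hVdef
  let E : Subgroup ↥L :=
    { carrier := {x | x ∈ O ⊓ Subgroup.centralizer (O : Set ↥L) ∧ x ^ p = 1}
      one_mem' := ⟨one_mem _, one_pow p⟩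
      mul_mem' := fun {a b} ha hb => ⟨mul_mem ha.1 hb.1, by
        have hab : Commute a b := (Subgroup.mem_centralizer_iff.1 hb.1.2 a ha.1.1)
        rw [hab.mul_pow, ha.2, hb.2, one_mul]⟩
      inv_mem' := fun {a} ha => ⟨inv_mem ha.1, by rw [inv_pow, ha.2, inv_one]⟩ }
  haveI hEn : E.Normal := ⟨fun x hx g =>
    ⟨(inferInstance : (O ⊓ Subgroup.centralizer (O : Set ↥L)).Normal).conj_mem x hx.1 g, by
      rw [← MulAut.conj_apply, ← map_pow, hx.2, map_one]⟩⟩
  have hEe : Cfsg.IsElementaryAbelian p E :=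
    ⟨⟨⟨fun a b => Subtype.ext (Subgroup.mem_centralizer_iff.1 b.2.1.2 (a : ↥L) a.2.1.1)⟩⟩,
      fun x hx => hx.2⟩
  have hWE : W ≤ E := fun w hw => ⟨⟨hL (hWc hw), hWc hw⟩, hWpow w hw⟩
  have hVred : Cfsg.IsPReducedNormal p V := by
    refine Local.PReduced.isPReducedNormal_of_forall Subgroup.normalClosure_normal
      (Solv.elemAbelian_of_le hEe (Subgroup.normalClosure_le_normal hWE)) fun N hN hNp => ?_
    haveI := hN
    have hYV : Cfsg.largestPReduced p ↥L ≤ V := fun y hy =>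
      Subgroup.le_normalClosure (H := W) (hYY' ⟨y, hy, rfl⟩)
    have hNY : N ≤ Subgroup.centralizer (Cfsg.largestPReduced p ↥L : Set ↥L) :=
      Local.PReduced.le_centralizer_of_subnormal Local.LargestPR.largest_spec hN.isSubnormal
        fun x hx hco => Subgroup.centralizer_le (SetLike.coe_subset_coe.2 hYV) (hNp x hx hco)
    have hnd := Local.SylowCenter.not_dvd_relIndex_normal (T.subtype hTL) N
    have hp0 : IsPGroup p ↥(TL.subgroupOf N) := (T.subtype hTL).isPGroup'.comap_subtype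
    have hnd' : ¬ p ∣ (TL.subgroupOf N).index := hnd
    have hgen := Solv.sup_pResidual_eq_top (hp0.toSylow hnd')
    have hle : (⊤ : Subgroup ↥N) ≤ (Subgroup.centralizer (W : Set ↥L)).subgroupOf N := by
      rw [← hgen, IsPGroup.toSylow_coe]
      refine sup_le ?_ ?_
      · intro n hn
        rw [Subgroup.mem_subgroupOf, Subgroup.mem_centralizer_iff]
        intro w hw
        refine Subtype.ext (hT₀Y' ((n : ↥L) : H) ?_ (w : H) hw)
        rw [hT₀]
        refine ⟨hn, Subgroup.mem_centralizer_iff.2 ?_⟩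
        rintro _ ⟨y, hy, rfl⟩
        exact congrArg Subtype.val (Subgroup.mem_centralizer_iff.1 (hNY n.2) y hy)
      · rw [Cfsg.pResidual, Subgroup.closure_le]
        intro n hn
        exact Subgroup.centralizer_le (Subgroup.le_normalClosure (H := W))
          (hNp n n.2 (by rw [Subgroup.orderOf_coe]; exact hn))
    have hNW : N ≤ Subgroup.centralizer (W : Set ↥L) := fun n hn =>
      hle (Subgroup.mem_top (⟨n, hn⟩ : ↥N))
    haveI : (Subgroup.centralizer (N : Set ↥L)).Normal := Subgroup.normal_centralizer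
    exact Subgroup.le_centralizer_iff.1
      (Subgroup.normalClosure_le_normal (Subgroup.le_centralizer_iff.1 hNW))
  intro y hy
  exact ⟨⟨y, hTL (hY'T hy)⟩, Local.LargestPR.le_largest hVred
    (Subgroup.le_normalClosure (H := W) hy), rfl⟩

end Cfsg.Agent.S2824
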