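import Cfsg.Statements.S2477
import Mathlib.GroupTheory.Perm.Cycle.PossibleTypes
import Mathlib.GroupTheory.Perm.Cycle.Type

set_option autoImplicit false
open Cfsg

namespace Cfsg.Agent.S2477

---pre
/-- possible (lcm, parity) of cycle types of bounded sum -/
def poss : ℕ → ℕ → List (ℕ × ℕ)
  | 0, _ => [(1, 0)]
  | f + 1, N => (1, 0) :: ((List.range (N + 1)).filter (fun a => decide (2 ≤ a))).flatMap
      (fun a => (poss f (N - a)).map fun lp => (Nat.lcm a lp.1, (lp.2 + a + 1) % 2))

theorem mem_poss : ∀ (f N : ℕ) (m : Multiset ℕ), (∀ a ∈ m, 2 ≤ a) → m.sum ≤ N → N ≤ 2 * f + 1 →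
    (m.lcm, (m.sum + Multiset.card m) % 2) ∈ poss f N := by
  intro f
  induction f with
  | zero =>
    intro N m h2 hs hN
    have h0 : m = 0 := by
      by_contra hne
      obtain ⟨a, ha⟩ := Multiset.exists_mem_of_ne_zero hne
      have := (h2 a ha).trans (Multiset.le_sum_of_mem ha)
      omega
    simp [h0, poss]
  | succ f ih =>
    intro N m h2 hs hN
    rcases Multiset.empty_or_exists_mem m with h0 | ⟨a, ha⟩
    · simp [h0, poss]
    · obtain ⟨m', rfl⟩ := Multiset.exists_cons_of_mem ha
      rw [Multiset.sum_cons] at hs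
      have ha2 := h2 a ha
      have := ih (N - a) m' (fun b hb => h2 b (Multiset.mem_cons_of_mem hb)) (by omega) (by omega)
      simp only [poss, List.mem_cons, List.mem_flatMap, List.mem_filter, List.mem_range, List.mem_map]
      refine Or.inr ⟨a, ⟨by omega, by simpa using ha2⟩, _, this, Prod.ext ?_ ?_⟩
      · rw [Multiset.lcm_cons]; rfl
      · simp only [Multiset.sum_cons, Multiset.card_cons]; omega

theorem witness (m : Multiset ℕ) (h : m.sum ≤ 10 ∧ ∀ a ∈ m, 2 ≤ a)
    (he : Even (m.sum + Multiset.card m)) :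
    m.lcm ∈ Set.range (orderOf : alternatingGroup (Fin 10) → ℕ) := by
  obtain ⟨g, hg⟩ := (Equiv.Perm.exists_with_cycleType_iff (Fin 10) (m := m)).2 (by simpa using h)
  have hsign : Equiv.Perm.sign g = 1 := by
    rw [Equiv.Perm.sign_of_cycleType, hg]; exact he.neg_one_pow
  exact ⟨⟨g, Equiv.Perm.mem_alternatingGroup.2 hsign⟩, by
    rw [Subgroup.orderOf_mk, ← Equiv.Perm.lcm_cycleType, hg]⟩

/-- The set of element orders of the alternating group of degree 10 is {1, 2, 3, 4, 5, 6, 7, 8, 9, 10, 12, 15, 21}. -/
theorem result : Set.range (orderOf : alternatingGroup (Fin 10) → ℕ) = {1, 2, 3, 4, 5, 6, 7, 8, 9, 10, 12, 15, 21} := by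
  apply Set.Subset.antisymm
  · rintro o ⟨g, rfl⟩
    rw [← Subgroup.orderOf_coe, ← Equiv.Perm.lcm_cycleType]
    have hsg := Equiv.Perm.mem_alternatingGroup.1 g.2
    rw [Equiv.Perm.sign_of_cycleType] at hsg
    set m := (g : Equiv.Perm (Fin 10)).cycleType with hm
    have hev : (m.sum + Multiset.card m) % 2 = 0 := by
      rcases Nat.even_or_odd (m.sum + Multiset.card m) with h | h
      · exact Nat.even_iff.1 h
      · rw [h.neg_one_pow] at hsg; exact absurd hsg (by decide)
    have hsum : m.sum ≤ 10 := by
      rw [hm, Equiv.Perm.sum_cycleType]; simpa using Finset.card_le_univ (g : Equiv.Perm (Fin 10)).support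
    have hmem := mem_poss 5 10 m (fun a ha => Equiv.Perm.two_le_of_mem_cycleType ha) hsum (by norm_num)
    rw [hev] at hmem
    have hall : ∀ lp ∈ poss 5 10, lp.2 = 0 → lp.1 ∈ [1, 2, 3, 4, 5, 6, 7, 8, 9, 10, 12, 15, 21] := by
      decide +kernel
    have := hall _ hmem rfl
    simpa using this
  · intro o ho
    simp only [Set.mem_insert_iff, Set.mem_singleton_iff] at ho
    rcases ho with rfl | rfl | rfl | rfl | rfl | rfl | rfl | rfl | rfl | rfl | rfl | rfl | rfl
    · exact witness {} (by decide) (by decide)
    · exact witness {2, 2} (by decide) (by decide)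
    · exact witness {3} (by decide) (by decide)
    · exact witness {4, 2} (by decide) (by decide)
    · exact witness {5} (by decide) (by decide)
    · exact witness {3, 2, 2} (by decide) (by decide)
    · exact witness {7} (by decide) (by decide)
    · exact witness {8, 2} (by decide) (by decide)
    · exact witness {9} (by decide) (by decide)
    · exact witness {5, 2, 2} (by decide) (by decide)
    · exact witness {4, 3, 2} (by decide) (by decide)
    · exact witness {5, 3} (by decide) (by decide)
    · exact witness {7, 3} (by decide) (by decide)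

end Cfsg.Agent.S2477
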