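import Cfsg.Statements.S0675
import Mathlib
import Cfsg.Agent.Lib.Perm.PrimeDegree

set_option autoImplicit false
open Cfsg

namespace Cfsg.Agent.S0675

---pre
open Cfsg.Agent.Perm MulAction

/-- Burnside's Theorem on permutation groups of prime degree: a transitive permutation group of prime degree that is not solvable is doubly transitive. -/
theorem result {α : Type*} [Fintype α] [DecidableEq α] (hα : (Fintype.card α).Prime) (G : Subgroup (Equiv.Perm α)) [MulAction.IsPretransitive G α] : Group.IsSolvable G ∨ MulAction.IsMultiplyPretransitive G α 2 := by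
  classical
  refine or_iff_not_imp_right.2 fun hn2 => ?_
  set p := Fintype.card α with hp'
  have : Fact p.Prime := ⟨hα⟩
  obtain ⟨e, g, hg⟩ := exists_coord (p := p) rfl G
  let π : G →* Equiv.Perm (ZMod p) :=
    { toFun := fun h => e.trans (((h : Equiv.Perm α)).trans e.symm)
      map_one' := Equiv.ext fun j => by simp
      map_mul' := fun x y => Equiv.ext fun j => by simp }
  have hπ : ∀ (h : G) j, e (π h j) = (h : Equiv.Perm α) (e j) := fun h j => by simp [π]
  have hπg : ∀ j, π g j = j + 1 := fun j => e.injective (by rw [hπ, hg])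
  have hπinj : Function.Injective π := fun x y h => Subtype.ext (Equiv.ext fun a => by
    obtain ⟨j, rfl⟩ := e.surjective a
    rw [← hπ, ← hπ, h])
  -- small degrees
  by_cases h3 : p ≤ 3
  · have hP : Group.IsSolvable (Equiv.Perm (ZMod p)) := by
      rcases (show p = 2 ∨ p = 3 by have := hα.two_le; omega) with h | h
      · have : Fact (Nat.Prime 2) := ⟨Nat.prime_two⟩
        have hPG : IsPGroup 2 (Equiv.Perm (ZMod p)) := IsPGroup.of_card (n := 1) (by
          rw [Nat.card_perm, Nat.card_zmod, h]; rfl)
        have := hPG.isNilpotent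
        infer_instance
      · have : Fact (Nat.Prime 3) := ⟨Nat.prime_three⟩
        let A := alternatingGroup (ZMod p)
        have hA : Nat.card A = 3 := by
          have : Nontrivial (ZMod p) := ⟨⟨0, 1, zero_ne_one⟩⟩
          have h1 := two_mul_nat_card_alternatingGroup (α := ZMod p)
          rw [Nat.card_perm, Nat.card_zmod] at h1
          have h6 : p.factorial = 6 := by rw [h]; rfl
          show Nat.card (alternatingGroup (ZMod p)) = 3
          omega
        have hcA : IsCyclic A := isCyclic_of_prime_card hA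
        have hsA : Group.IsSolvable A := Group.isSolvable_of_comm fun x y =>
          (IsCyclic.isMulCommutative (α := A)).is_comm.comm x y
        exact Group.isSolvable_of_ker_le_range A.subtype Equiv.Perm.sign (by
          rw [Subgroup.range_subtype]; exact le_refl _)
    exact Group.isSolvable_of_ker_le_range (⊥ : Subgroup G).subtype π (by simp [MonoidHom.ker_eq_bot_iff _ |>.2 hπinj])
  -- an orbital different from the diagonal and from the whole
  obtain ⟨b, c, hb, hc, hbc⟩ : ∃ b c : ZMod p, b ≠ 0 ∧ c ≠ 0 ∧ ∀ h : G, π h 0 = 0 → π h b ≠ c := by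
    by_contra hno
    push Not at hno
    apply hn2
    rw [is_two_pretransitive_iff]
    intro x y z w hxy hzw
    obtain ⟨h1, hh1⟩ := exists_smul_eq G x (e 0)
    obtain ⟨h2, hh2⟩ := exists_smul_eq G z (e 0)
    have hy : e.symm (h1 • y) ≠ 0 := fun h => hxy (MulAction.injective h1 (hh1.trans ((Equiv.symm_apply_eq e).1 h).symm))
    have hw : e.symm (h2 • w) ≠ 0 := fun h => hzw (MulAction.injective h2 (hh2.trans ((Equiv.symm_apply_eq e).1 h).symm))
    obtain ⟨f, hf0, hfb⟩ := hno _ _ hy hw
    have e0 : f • e 0 = e 0 := (hπ f 0).symm.trans (congrArg e hf0)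
    have eb : f • h1 • y = h2 • w := by
      have h5 := congrArg e hfb
      rw [hπ, e.apply_symm_apply, e.apply_symm_apply] at h5
      exact h5
    refine ⟨h2⁻¹ * f * h1, ?_, ?_⟩
    · rw [mul_smul, mul_smul, hh1, e0, inv_smul_eq_iff, hh2]
    · rw [mul_smul, mul_smul, eb, inv_smul_smul]
  let F := ZMod p
  let M : ZMod p → ZMod p → F := fun x y => if ∃ h : G, π h 0 = x ∧ π h b = y then 1 else 0
  have hMinv : ∀ (h : G) x y, M (π h x) (π h y) = M x y := by
    intro h x y
    have hh : (∃ f : G, π f 0 = π h x ∧ π f b = π h y) ↔ ∃ f : G, π f 0 = x ∧ π f b = y := by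
      constructor
      · rintro ⟨f, h1, h2⟩
        exact ⟨h⁻¹ * f, by rw [map_mul, Equiv.Perm.mul_apply, h1, map_inv]; exact (π h).symm_apply_apply x,
          by rw [map_mul, Equiv.Perm.mul_apply, h2, map_inv]; exact (π h).symm_apply_apply y⟩
      · rintro ⟨f, h1, h2⟩
        exact ⟨h * f, by rw [map_mul, Equiv.Perm.mul_apply, h1], by rw [map_mul, Equiv.Perm.mul_apply, h2]⟩
    simp only [M, hh]
  let N : (ZMod p → F) →ₗ[F] (ZMod p → F) :=
    { toFun := fun f x => ∑ y, M x y * (f y - f x)
      map_add' := fun f f' => funext fun x => by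
        simp only [Pi.add_apply]; rw [← Finset.sum_add_distrib]; exact Finset.sum_congr rfl fun y _ => by ring
      map_smul' := fun a f => funext fun x => by
        simp only [Pi.smul_apply, smul_eq_mul, RingHom.id_apply]; rw [Finset.mul_sum]; exact Finset.sum_congr rfl fun y _ => by ring }
  have hN : ∀ f x, N f x = ∑ y, M x y * (f y - f x) := fun f x => rfl
  have hNeq : ∀ (h : G) f, N (fun j => f (π h j)) = fun j => N f (π h j) := by
    intro h f
    funext x
    rw [hN, hN, ← Equiv.sum_comp (π h) (fun y => M (π h x) y * (f y - f (π h x)))]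
    exact Finset.sum_congr rfl fun y _ => by rw [hMinv]
  let W1 := LinearMap.range N
  let W2 := LinearMap.range (N ∘ₗ N)
  have hinv1 : ∀ (h : G), ∀ f ∈ W1, (fun j => f (π h j)) ∈ W1 := by
    rintro h _ ⟨f, rfl⟩
    exact ⟨_, hNeq h f⟩
  have hinv2 : ∀ (h : G), ∀ f ∈ W2, (fun j => f (π h j)) ∈ W2 := by
    rintro h _ ⟨f, rfl⟩
    exact ⟨fun j => f (π h j), by simp only [LinearMap.comp_apply]; rw [hNeq, hNeq]⟩
  suffices ∃ W : Submodule F (ZMod p → F), (∀ (h : G), ∀ f ∈ W, (fun j => f (π h j)) ∈ W) ∧
      2 ≤ Module.finrank F W ∧ Module.finrank F W + 2 ≤ p by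
    obtain ⟨W, hW, h2, hp2⟩ := this
    obtain ⟨-, hWe⟩ := eq_polyBelow W (fun f hf => by
      have e1 : (fun j => f (j + 1)) = fun j => f (π g j) := funext fun j => by rw [hπg]
      rw [e1]; exact hW g f hf)
    refine isSolvable_of_affine π hπinj fun h j => ?_
    refine affine_of_invariant (K := F) (r := Module.finrank F W) h2 hp2 (π h) (fun f hf => ?_) (fun f hf => ?_) j
    · rw [← hWe] at hf ⊢; exact hW h f hf
    · rw [← hWe] at hf ⊢
      have h5 := hW h⁻¹ f hf
      rwa [map_inv] at h5
  -- the number of points in the orbital row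
  let U : Finset (ZMod p) := Finset.univ.filter fun y => ∃ h : G, π h c = c ∧ ∃ h' : G, π h' 0 = c ∧ π h' b = y
  have hrow : ∀ x, (∑ y, M x y) = (Finset.univ.filter fun y => ∃ h : G, π h 0 = x ∧ π h b = y).card := by
    intro x; simp only [M, Finset.sum_boole]
  have hrow0 : (∑ y, M c y) ≠ 0 := by
    rw [hrow, Ne, ZMod.natCast_eq_zero_iff]
    intro hd
    set S := Finset.univ.filter fun y => ∃ h : G, π h 0 = c ∧ π h b = y
    have hpos : 0 < S.card := by
      have ht : ∃ h : G, π h 0 = c := by
        obtain ⟨h, hh⟩ := exists_smul_eq G (e 0) (e c)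
        exact ⟨h, e.injective (by rw [hπ]; exact hh)⟩
      obtain ⟨h, hh⟩ := ht
      exact Finset.card_pos.2 ⟨π h b, by simp only [S, Finset.mem_filter, Finset.mem_univ, true_and]; exact ⟨h, hh, rfl⟩⟩
    have hlt : S.card < p := by
      refine lt_of_lt_of_eq (Finset.card_lt_univ_of_notMem (x := c) ?_) (ZMod.card p)
      simp only [S, Finset.mem_filter, Finset.mem_univ, true_and]
      rintro ⟨h, h1, h2⟩
      exact hb ((π h).injective (h2.trans h1.symm))
    exact absurd (Nat.le_of_dvd hpos hd) (by omega)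
  have hnc : ¬ ∀ f, ∀ x, N f x = N f 0 := by
    intro h
    have h1 := h (fun j => if j = c then 1 else 0) c
    rw [hN, hN] at h1
    have h0 : ∑ y, M 0 y * ((if y = c then (1 : F) else 0) - if (0 : ZMod p) = c then 1 else 0) = M 0 c := by
      simp [Ne.symm hc]
    rw [h0] at h1
    have hM0 : M 0 c = 0 := if_neg fun ⟨f, hf0, hfb⟩ => hbc f hf0 hfb
    rw [hM0] at h1
    have hMc : M c c = 0 := if_neg fun ⟨f, hf0, hfb⟩ => hb ((π f).injective (hfb.trans hf0.symm))
    simp only [if_true, mul_sub, Finset.sum_sub_distrib, mul_one, mul_ite, mul_zero, Finset.sum_ite_eq', Finset.mem_univ,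
      hMc, zero_sub, neg_eq_zero] at h1
    exact hrow0 h1
  have hshift : ∀ W : Submodule F (ZMod p → F), (∀ (h : G), ∀ f ∈ W, (fun j => f (π h j)) ∈ W) →
      W = polyBelow (Module.finrank F W) ∧ Module.finrank F W ≤ p := fun W hW => by
    obtain ⟨h1, h2⟩ := eq_polyBelow W (fun f hf => by
      have e1 : (fun j => f (j + 1)) = fun j => f (π g j) := funext fun j => by rw [hπg]
      rw [e1]; exact hW g f hf)
    exact ⟨h2, h1⟩
  obtain ⟨hW1, hr1⟩ := hshift W1 hinv1
  have hp4 : 5 ≤ p := by
    rcases (show p = 4 ∨ 5 ≤ p by omega) with h | h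
    · rw [h] at hα; norm_num at hα
    · exact h
  have hconst : N (fun _ => 1) = 0 := funext fun x => by rw [hN]; simp
  have hge : 2 ≤ Module.finrank F W1 := by
    by_contra hlt
    apply hnc
    intro f x
    have hmem : N f ∈ polyBelow (p := p) (K := F) (Module.finrank F W1) := hW1 ▸ ⟨f, rfl⟩
    obtain ⟨P, hP, hPf⟩ := mem_polyBelow.1 hmem
    have : P.natDegree = 0 := by
      by_cases h0 : P = 0
      · simp [h0]
      rw [Polynomial.degree_eq_natDegree h0] at hP
      have : P.natDegree < Module.finrank F W1 := by exact_mod_cast hP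
      omega
    rw [← hPf, Polynomial.eq_C_of_natDegree_eq_zero this]
    simp [polyFun_apply]
  by_cases hle : Module.finrank F W1 + 2 ≤ p
  · exact ⟨W1, hinv1, hge, hle⟩
  have hker : LinearMap.ker N ≠ ⊥ := fun h => by
    have : (fun _ => 1 : ZMod p → F) ∈ LinearMap.ker N := LinearMap.mem_ker.2 hconst
    rw [h, Submodule.mem_bot] at this
    exact one_ne_zero (congrFun this 0)
  have hrn := LinearMap.finrank_range_add_finrank_ker N
  rw [Module.finrank_pi, ZMod.card] at hrn
  have hkpos : 0 < Module.finrank F (LinearMap.ker N) := Nat.pos_of_ne_zero fun h => hker (Submodule.finrank_eq_zero.1 h)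
  have hW1def : Module.finrank F W1 = Module.finrank F (LinearMap.range N) := rfl
  have hr1' : Module.finrank F W1 = p - 1 := by omega
  refine ⟨W2, hinv2, ?_⟩
  have h2eq : W2 = W1.map N := LinearMap.range_comp N N
  let Nr : W1 →ₗ[F] (ZMod p → F) := N.comp W1.subtype
  have hrange : LinearMap.range Nr = W2 := by rw [h2eq, LinearMap.range_comp, Submodule.range_subtype]
  have hrn2 := LinearMap.finrank_range_add_finrank_ker Nr
  rw [hrange] at hrn2
  have hk1 : Module.finrank F (LinearMap.ker Nr) ≤ Module.finrank F (LinearMap.ker N) := by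
    refine LinearMap.finrank_le_finrank_of_injective
      (f := LinearMap.codRestrict (LinearMap.ker N) (W1.subtype.comp (LinearMap.ker Nr).subtype) (fun x => x.2)) ?_
    intro x y h
    have h5 := congrArg (fun z : LinearMap.ker N => (z : ZMod p → F)) h
    exact Subtype.ext (Subtype.ext h5)
  have hk2 : 1 ≤ Module.finrank F (LinearMap.ker Nr) := by
    have hmem : (fun _ => 1 : ZMod p → F) ∈ W1 := by
      rw [hW1, mem_polyBelow]
      exact ⟨1, by rw [Polynomial.degree_one]; exact_mod_cast (by omega : 0 < Module.finrank F W1), funext fun j => Polynomial.eval_one⟩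
    have : LinearMap.ker Nr ≠ ⊥ := fun h => by
      have h5 : (⟨_, hmem⟩ : W1) ∈ LinearMap.ker Nr := LinearMap.mem_ker.2 hconst
      rw [h, Submodule.mem_bot] at h5
      exact one_ne_zero (congrFun (congrArg Subtype.val h5) 0)
    exact Nat.pos_of_ne_zero fun h => this (Submodule.finrank_eq_zero.1 h)
  omega

end Cfsg.Agent.S0675
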