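import Cfsg.Statements.S0713
import Mathlib
import Cfsg.Agent.Lib.Perm.Multi

set_option autoImplicit false
open Cfsg

namespace Cfsg.Agent.S0713

---pre
open Equiv Equiv.Perm MulAction

/-- Jordan's Theorem: a primitive permutation group of degree `n ≥ 5` containing a `p`-cycle for a prime `p ≤ n - 3` contains the alternating group. -/
theorem result {α : Type*} [Fintype α] [DecidableEq α] (G : Subgroup (Equiv.Perm α)) (hG : MulAction.IsPreprimitive G α) {p : ℕ} (hp : p.Prime) (hn : 5 ≤ Fintype.card α) (hpn : p + 3 ≤ Fintype.card α) {g : Equiv.Perm α} (hgc : g.IsCycle) (hgp : g.support.card = p) (hg : g ∈ G) : alternatingGroup α ≤ G := by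
  have hpf : Fact p.Prime := ⟨hp⟩
  let Γ : Set α := ((g.support : Set α))ᶜ
  have memΓ : ∀ x, x ∈ Γ ↔ g x = x := fun x => by simp [Γ]
  obtain ⟨c, hc⟩ : ∃ c, Fintype.card α = p + (c + 1) := ⟨Fintype.card α - p - 1, by omega⟩
  have hncard : Γ.ncard = c + 1 := by
    apply Nat.add_left_cancel
    rw [Set.ncard_add_ncard_compl, Set.ncard_coe_finset, Nat.card_eq_fintype_card, hgp, hc]
  have htr := isPretransitive_of_isCycle_mem hgc hg
  have hprim : IsPreprimitive (fixingSubgroup G Γ) (SubMulAction.ofFixingSubgroup G Γ) := by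
    apply IsPreprimitive.of_prime_card
    classical
    convert! hp
    rw [Nat.card_eq_fintype_card, Fintype.card_subtype, ← hgp]
    congr 1
    ext x
    simp [SubMulAction.mem_ofFixingSubgroup_iff, Γ]
  have hmul := hG.isMultiplyPreprimitive (n := c) hncard (by rw [Nat.card_eq_fintype_card, hc]; have := hp.two_le; omega) hprim
  have htrans : IsMultiplyPretransitive G α (c + 2) := IsMultiplyPreprimitive.isMultiplyPretransitive ..
  have htr1 : IsMultiplyPretransitive G α (c + 1) := isMultiplyPretransitive_of_le (n := c + 2) (by omega)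
    (by have := hp.two_le; rw [Nat.card_eq_fintype_card]; omega)
  rw [isMultiplyPretransitive_iff] at htr1
  -- the fixer of `Γ` has a Sylow subgroup generated by `g`
  let H : Subgroup (Perm α) := G ⊓ fixingSubgroup (Perm α) Γ
  have hgH : g ∈ H := ⟨hg, (mem_fixingSubgroup_iff _).2 fun x hx => (memΓ x).1 hx⟩
  have hfact : ¬ p ^ 2 ∣ Nat.card H := by
    intro hd
    have h1 : Nat.card (fixingSubgroup (Perm α) Γ) = p.factorial := by
      have e : Perm {x // x ∈ g.support} ≃ fixingSubgroup (Perm α) Γ :=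
        (Equiv.Perm.subtypeEquivSubtypePerm (fun x => x ∈ g.support)).trans
          (Equiv.subtypeEquivRight fun f => by
            rw [mem_fixingSubgroup_iff]
            exact ⟨fun h x hx => h x (by simpa [Γ] using hx), fun h x hx => h x (by simpa [Γ] using hx)⟩)
      rw [← Nat.card_congr e, Nat.card_perm, Nat.card_eq_fintype_card, Fintype.card_coe, hgp]
    have h2 : p ^ 2 ∣ p.factorial := h1 ▸ hd.trans (Subgroup.card_dvd_of_le inf_le_right)
    rw [← Nat.mul_factorial_pred hp.ne_zero, sq, Nat.mul_dvd_mul_iff_left hp.pos, hp.dvd_factorial] at h2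
    have := hp.pos; omega
  have hord : orderOf g = p := by rw [hgc.orderOf, hgp]
  have hsyl : ∀ z : H, orderOf z = p → ∃ S : Sylow p H, Subgroup.zpowers z = S := by
    intro z hz
    have hfac : (Nat.card H).factorization p = 1 := by
      apply le_antisymm
      · by_contra h
        exact hfact ((pow_dvd_pow p (by omega : 2 ≤ (Nat.card H).factorization p)).trans (Nat.ordProj_dvd _ _))
      · exact hp.factorization_pos_of_dvd Nat.card_pos.ne' (hz ▸ orderOf_dvd_natCard z)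
    exact ⟨Sylow.ofCard (Subgroup.zpowers z) (by rw [Nat.card_zpowers, hz, hfac, pow_one]), rfl⟩
  have hext : ∀ σ : Perm α, (∀ x, σ x ∈ Γ ↔ x ∈ Γ) →
      ∃ f ∈ G, (∀ x ∈ Γ, f x = σ x) ∧ f * g * f⁻¹ ∈ Subgroup.zpowers g := by
    intro σ hσ
    have := Fintype.ofFinite Γ
    let e : Fin (c + 1) ↪ α := (Fintype.equivFinOfCardEq (α := Γ) (by
      rw [← Nat.card_eq_fintype_card, Nat.card_coe_set_eq, hncard])).symm.toEmbedding.trans (Function.Embedding.subtype _)
    obtain ⟨⟨f, hf⟩, hfe⟩ := htr1 e (e.trans σ.toEmbedding)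
    have hfσ : ∀ x ∈ Γ, f x = σ x := by
      intro x hx
      obtain ⟨i, rfl⟩ : ∃ i, e i = x := ⟨Fintype.equivFinOfCardEq (α := Γ) (by
        rw [← Nat.card_eq_fintype_card, Nat.card_coe_set_eq, hncard]) ⟨x, hx⟩, by simp [e]⟩
      exact DFunLike.congr_fun hfe i
    have hz : f * g * f⁻¹ ∈ H := by
      refine Subgroup.mem_inf.2 ⟨mul_mem (mul_mem hf hg) (inv_mem hf), (mem_fixingSubgroup_iff _).2 fun x hx => ?_⟩
      have hx' : σ.symm x ∈ Γ := (hσ _).1 (by rwa [Equiv.apply_symm_apply])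
      have hfx : f (σ.symm x) = x := by rw [hfσ _ hx', Equiv.apply_symm_apply]
      have hfx' : f⁻¹ x = σ.symm x := (Equiv.symm_apply_eq f).2 hfx.symm
      show f (g (f⁻¹ x)) = x
      rw [hfx', (memΓ _).1 hx', hfx]
    have hordz : orderOf (f * g * f⁻¹) = p := by
      rw [← MulAut.conj_apply, MulEquiv.orderOf_eq, hord]
    obtain ⟨S, hS⟩ := hsyl ⟨g, hgH⟩ (by rw [Subgroup.orderOf_mk, hord])
    obtain ⟨T, hT⟩ := hsyl ⟨_, hz⟩ (by rw [Subgroup.orderOf_mk, hordz])
    obtain ⟨h, hh⟩ := MulAction.exists_smul_eq H T S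
    refine ⟨(h : Perm α) * f, mul_mem h.2.1 hf, fun x hx => ?_, ?_⟩
    · show (h : Perm α) (f x) = σ x
      rw [hfσ x hx]
      exact (mem_fixingSubgroup_iff _).1 h.2.2 _ ((hσ x).2 hx)
    · have h1 : (h * ⟨_, hz⟩ * h⁻¹ : H) ∈ ((h • T : Sylow p H) : Subgroup H) :=
        ⟨⟨_, hz⟩, hT ▸ Subgroup.mem_zpowers _, rfl⟩
      rw [hh, ← hS] at h1
      obtain ⟨i, hi⟩ := h1
      refine ⟨i, ?_⟩
      have := congrArg (fun y : H => (y : Perm α)) hi
      simp only [Subgroup.coe_mul, Subgroup.coe_inv, SubgroupClass.coe_zpow] at this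
      simpa [mul_assoc] using this
  have h3 : 2 < Γ.ncard := by omega
  obtain ⟨x, y, z, hx, hy, hz, hxy, hxz, hyz⟩ := (Set.two_lt_ncard_iff (Set.toFinite Γ)).1 h3
  have hswap : ∀ u v, u ∈ Γ → v ∈ Γ → ∀ w, Equiv.swap u v w ∈ Γ ↔ w ∈ Γ := by
    intro u v hu hv w
    rw [Equiv.swap_apply_def]
    split_ifs with h1 h2 <;> simp_all
  obtain ⟨f1, hf1, hf1σ, i, hi⟩ := hext (Equiv.swap y x) (hswap y x hy hx)
  obtain ⟨f2, hf2, hf2σ, j, hj⟩ := hext (Equiv.swap y z) (hswap y z hy hz)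
  have hc1 : ∀ n : ℤ, f1 * g ^ n * f1⁻¹ = g ^ (i * n) := fun n => by
    rw [← MulAut.conj_apply, map_zpow, MulAut.conj_apply, ← hi, zpow_mul]
  have hc2 : ∀ n : ℤ, f2 * g ^ n * f2⁻¹ = g ^ (j * n) := fun n => by
    rw [← MulAut.conj_apply, map_zpow, MulAut.conj_apply, ← hj, zpow_mul]
  set u := (f2 * f1)⁻¹ * (f1 * f2) with hu
  have hcomm : u * g = g * u := by
    have e1 : (f1 * f2) * g * (f1 * f2)⁻¹ = g ^ (i * j) := by
      rw [← hc1, show g ^ j = f2 * g * f2⁻¹ from hj]; group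
    have e2 : (f2 * f1) * g * (f2 * f1)⁻¹ = g ^ (j * i) := by
      rw [← hc2, show g ^ i = f1 * g * f1⁻¹ from hi]; group
    calc u * g = (f2 * f1)⁻¹ * ((f1 * f2) * g * (f1 * f2)⁻¹) * (f1 * f2) := by rw [hu]; group
      _ = (f2 * f1)⁻¹ * ((f2 * f1) * g * (f2 * f1)⁻¹) * (f1 * f2) := by rw [e1, e2, mul_comm i j]
      _ = g * u := by rw [hu]; group
  let τ : Perm α := (Equiv.swap y x * Equiv.swap y z) * (Equiv.swap y x * Equiv.swap y z)
  have hτ : τ.IsThreeCycle := (isThreeCycle_swap_mul_swap_same (Ne.symm hxy) hyz hxz).isThreeCycle_sq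
  have huΓ : ∀ w ∈ Γ, u w = τ w := by
    intro w hw
    have a1 : f2 w = Equiv.swap y z w := hf2σ w hw
    have a2 : f1 (f2 w) = Equiv.swap y x (Equiv.swap y z w) := by
      rw [a1, hf1σ _ ((hswap y z hy hz w).2 hw)]
    have w'Γ : τ w ∈ Γ := by
      simp only [τ, Equiv.Perm.mul_apply]
      exact (hswap y x hy hx _).2 ((hswap y z hy hz _).2 ((hswap y x hy hx _).2 ((hswap y z hy hz _).2 hw)))
    show (f2 * f1)⁻¹ ((f1 * f2) w) = τ w
    refine (Equiv.symm_apply_eq (f2 * f1)).2 ?_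
    show f1 (f2 w) = f2 (f1 (τ w))
    rw [a2, hf1σ _ w'Γ, hf2σ _ ((hswap y x hy hx _).2 w'Γ)]
    simp [τ]
  obtain ⟨d0, hd0, hd⟩ := id hgc
  have hgu : ∀ (k : ℤ) (v : α), u ((g ^ k) v) = (g ^ k) (u v) := fun k v =>
    DFunLike.congr_fun ((show Commute u g from hcomm).zpow_right k) v
  have hud : g (u d0) ≠ u d0 := by
    intro e
    apply hd0
    have := hgu 1 d0
    rw [zpow_one, e] at this
    exact u.injective this
  obtain ⟨k, hk⟩ := hd hud
  refine alternatingGroup_le_of_isPreprimitive_of_isThreeCycle_mem hG hτ ?_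
  have hτu : τ = u * g ^ (-k) := by
    refine Equiv.ext fun w => ?_
    show τ w = u ((g ^ (-k)) w)
    by_cases hw : g w = w
    · rw [Equiv.Perm.zpow_apply_eq_self_of_apply_eq_self hw, huΓ w ((memΓ w).2 hw)]
    · obtain ⟨l, rfl⟩ := hd hw
      conv_rhs => rw [← Equiv.Perm.mul_apply (g ^ (-k)), ← zpow_add, hgu, ← hk, ← Equiv.Perm.mul_apply, ← zpow_add,
        show -k + l + k = l by ring]
      have hnot : ∀ v ∈ Γ, (g ^ l) d0 ≠ v := fun v hv e => hw (by rw [e]; exact (memΓ v).1 hv)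
      simp only [τ, Equiv.Perm.mul_apply]
      rw [Equiv.swap_apply_of_ne_of_ne (hnot y hy) (hnot z hz), Equiv.swap_apply_of_ne_of_ne (hnot y hy) (hnot x hx),
        Equiv.swap_apply_of_ne_of_ne (hnot y hy) (hnot z hz), Equiv.swap_apply_of_ne_of_ne (hnot y hy) (hnot x hx)]
  rw [hτu]
  exact mul_mem (mul_mem (inv_mem (mul_mem hf2 hf1)) (mul_mem hf1 hf2)) (Subgroup.zpow_mem G hg _)

end Cfsg.Agent.S0713
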