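import Cfsg.Statements.S5059
-- import your own Cfsg.Agent.* helpers here

set_option autoImplicit false
universe u
open Cfsg

namespace Cfsg.Agent.S5059

/-- Let k be a field of characteristic not 2 with k not of order 3, M a finite-dimensional k-vector space and G ≤ GL(M) such that (G, M) is a quadratic pair (M irreducible for G, and G generated by its quadratically acting elements σ whose scalar family 1 + c(σ − 1), c ∈ k, lies in G). Write 𝒬_d for the quadratic elements of G of minimal commutator rank, E(σ) for the subgroup generated by the members of 𝒬_d with the same fixed space and commutator space as σ, and Σ for the set of these subgroups. Then for σ ∈ 𝒬_d the subgroup E(σ) consists exactly of those members together with the identity, it is abelian, and if k has prime characteristic p every element of E(σ) has order dividing p. -/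
theorem result {k : Type u} [Field k] (hk2 : ringChar k ≠ 2) (hk3 : Nat.card k ≠ 3)
    {M : Type u} [AddCommGroup M] [Module k M] [FiniteDimensional k M]
    {G : Subgroup (LinearMap.GeneralLinearGroup k M)} (hG : Cfsg.IsQuadraticPair G)
    {σ : LinearMap.GeneralLinearGroup k M} (hσ : σ ∈ Cfsg.minimalQuadraticElements G) :
    (Cfsg.sameActionSubgroup G σ : Set (LinearMap.GeneralLinearGroup k M)) = Cfsg.sameActionClass G σ ∪ {1} ∧
    IsMulCommutative ↥(Cfsg.sameActionSubgroup G σ) ∧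
    (∀ p : ℕ, p.Prime → ringChar k = p → ∀ x ∈ Cfsg.sameActionSubgroup G σ, x ^ p = 1) := by
  obtain ⟨⟨hσG, hσq, hσs⟩, hσmin⟩ := hσ
  set α : M →ₗ[k] M := (σ : M →ₗ[k] M) - 1 with hα
  have hsq : α * α = 0 := hσq.1
  have hRK : LinearMap.range α ≤ LinearMap.ker α := by
    rintro _ ⟨m, rfl⟩
    rw [LinearMap.mem_ker]
    exact LinearMap.congr_fun hsq m
  set T : Set (LinearMap.GeneralLinearGroup k M) := {τ | τ ∈ G ∧
    LinearMap.ker α ≤ LinearMap.ker ((τ : M →ₗ[k] M) - 1) ∧
    LinearMap.range ((τ : M →ₗ[k] M) - 1) ≤ LinearMap.range α ∧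
    Cfsg.scalarFamily τ ⊆ (G : Set (LinearMap.GeneralLinearGroup k M))}
  have mul0 : ∀ {τ ρ : LinearMap.GeneralLinearGroup k M}, τ ∈ T → ρ ∈ T →
      ((τ : M →ₗ[k] M) - 1) * ((ρ : M →ₗ[k] M) - 1) = 0 := by
    intro τ ρ hτ hρ
    ext m
    exact LinearMap.mem_ker.1 (hτ.2.1 (hRK (hρ.2.2.1 ⟨m, rfl⟩)))
  have hprod : ∀ {τ ρ : LinearMap.GeneralLinearGroup k M}, τ ∈ T → ρ ∈ T →
      ((τ * ρ : LinearMap.GeneralLinearGroup k M) : M →ₗ[k] M) - 1 =
        ((τ : M →ₗ[k] M) - 1) + ((ρ : M →ₗ[k] M) - 1) := by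
    intro τ ρ hτ hρ
    have h := mul0 hτ hρ
    rw [Units.val_mul]
    calc (τ : M →ₗ[k] M) * (ρ : M →ₗ[k] M) - 1
        = ((τ : M →ₗ[k] M) - 1) * ((ρ : M →ₗ[k] M) - 1) + (((τ : M →ₗ[k] M) - 1) + ((ρ : M →ₗ[k] M) - 1)) := by
          noncomm_ring
      _ = _ := by rw [h, zero_add]
  -- the unit `1 + c (τ - 1)`
  have hunit : ∀ (τ : LinearMap.GeneralLinearGroup k M), τ ∈ T → ∀ c : k,
      ∃ μ : LinearMap.GeneralLinearGroup k M, (μ : M →ₗ[k] M) = 1 + c • ((τ : M →ₗ[k] M) - 1) ∧ μ ∈ G := by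
    intro τ hτ c
    have h := mul0 hτ hτ
    set D := (τ : M →ₗ[k] M) - 1
    have h1 : (1 + c • D) * (1 + (-c) • D) = 1 := by
      rw [mul_add, add_mul, add_mul, one_mul, one_mul, mul_one, smul_mul_smul_comm, h, smul_zero, add_zero,
        add_assoc, ← add_smul, add_neg_cancel, zero_smul, add_zero]
    have h2 : (1 + (-c) • D) * (1 + c • D) = 1 := by
      rw [mul_add, add_mul, add_mul, one_mul, one_mul, mul_one, smul_mul_smul_comm, h, smul_zero, add_zero,
        add_assoc, ← add_smul, neg_add_cancel, zero_smul, add_zero]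
    exact ⟨⟨1 + c • D, 1 + (-c) • D, h1, h2⟩, rfl, hτ.2.2.2 ⟨c, rfl⟩⟩
  have hTone : (1 : LinearMap.GeneralLinearGroup k M) ∈ T := by
    refine ⟨one_mem G, by simp, by simp, ?_⟩
    rintro μ ⟨c, hc⟩
    have : μ = 1 := Units.ext (by simpa using hc)
    rw [this]; exact one_mem G
  have hTmul : ∀ τ ∈ T, ∀ ρ ∈ T, τ * ρ ∈ T := by
    intro τ hτ ρ hρ
    refine ⟨mul_mem hτ.1 hρ.1, ?_, ?_, ?_⟩
    · rw [hprod hτ hρ]
      intro m hm
      rw [LinearMap.mem_ker, LinearMap.add_apply, LinearMap.mem_ker.1 (hτ.2.1 hm),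
        LinearMap.mem_ker.1 (hρ.2.1 hm), add_zero]
    · rw [hprod hτ hρ]
      rintro _ ⟨m, rfl⟩
      exact add_mem (hτ.2.2.1 ⟨m, rfl⟩) (hρ.2.2.1 ⟨m, rfl⟩)
    · rintro μ ⟨c, hc⟩
      obtain ⟨μ₁, e1, g1⟩ := hunit τ hτ c
      obtain ⟨μ₂, e2, g2⟩ := hunit ρ hρ c
      have : μ = μ₁ * μ₂ := by
        refine Units.ext ?_
        rw [hc, hprod hτ hρ, Units.val_mul, e1, e2, mul_add, add_mul, add_mul, one_mul, one_mul, mul_one,
          smul_mul_smul_comm, mul0 hτ hρ, smul_zero, add_zero, smul_add, add_assoc]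
      rw [this]
      exact mul_mem g1 g2
  have hcomm : ∀ τ ∈ T, ∀ ρ ∈ T, τ * ρ = ρ * τ := by
    intro τ hτ ρ hρ
    have h := (hprod hτ hρ).trans ((add_comm _ _).trans (hprod hρ hτ).symm)
    exact Units.ext (sub_left_injective h)
  have hTinv : ∀ τ ∈ T, τ⁻¹ ∈ T := by
    intro τ hτ
    obtain ⟨μ, e, g⟩ := hunit τ hτ (-1)
    have hsub : (μ : M →ₗ[k] M) - 1 = -((τ : M →ₗ[k] M) - 1) := by rw [e, neg_one_smul]; abel
    have hμT : μ ∈ T := by
      refine ⟨g, ?_, ?_, ?_⟩
      · rw [hsub, LinearMap.ker_neg]; exact hτ.2.1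
      · rw [hsub, LinearMap.range_neg]; exact hτ.2.2.1
      · rintro ν ⟨c, hc⟩
        obtain ⟨μ', e', g'⟩ := hunit τ hτ (-c)
        have : ν = μ' := Units.ext (by rw [hc, e', hsub, smul_neg, neg_smul])
        rw [this]; exact g'
    have h1 : τ * μ = 1 := by
      refine Units.ext ?_
      have h := hprod hτ hμT
      rw [hsub, add_neg_cancel, sub_eq_zero] at h
      rw [h, Units.val_one]
    rw [← eq_inv_of_mul_eq_one_right h1]
    exact hμT
  let H : Subgroup (LinearMap.GeneralLinearGroup k M) :=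
    { carrier := T, mul_mem' := fun ha hb => hTmul _ ha _ hb, one_mem' := hTone, inv_mem' := fun ha => hTinv _ ha }
  have hclass : Cfsg.sameActionClass G σ ⊆ T := by
    rintro τ ⟨⟨⟨hτG, hτq, hτs⟩, -⟩, hker, hrange⟩
    exact ⟨hτG, hker.ge, hrange.le, hτs⟩
  have hle : Cfsg.sameActionSubgroup G σ ≤ H := (Subgroup.closure_le H).2 hclass
  refine ⟨?_, ?_, ?_⟩
  · apply Set.Subset.antisymm
    · intro τ hτ
      by_cases h1 : τ = 1
      · exact Or.inr h1
      left
      have hT : τ ∈ T := hle hτ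
      have hne : (τ : M →ₗ[k] M) - 1 ≠ 0 := fun e => h1 (Units.ext (sub_eq_zero.1 e))
      have hq : τ ∈ Cfsg.quadraticElements G := ⟨hT.1, ⟨mul0 hT hT, hne⟩, hT.2.2.2⟩
      have hrle : Cfsg.commutatorRank τ ≤ Cfsg.commutatorRank σ := Submodule.finrank_mono hT.2.2.1
      have hrange : LinearMap.range ((τ : M →ₗ[k] M) - 1) = LinearMap.range α :=
        Submodule.eq_of_le_of_finrank_le hT.2.2.1 (hσmin τ hq)
      refine ⟨⟨hq, fun ρ hρ => hrle.trans (hσmin ρ hρ)⟩, (Submodule.eq_of_le_of_finrank_le hT.2.1 ?_).symm, hrange⟩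
      have d1 := LinearMap.finrank_range_add_finrank_ker α
      have d2 := LinearMap.finrank_range_add_finrank_ker ((τ : M →ₗ[k] M) - 1)
      rw [hrange] at d2
      omega
    · rintro τ (hτ | rfl)
      · exact Subgroup.subset_closure hτ
      · exact one_mem _
  · exact ⟨⟨fun x y => Subtype.ext (hcomm _ (hle x.2) _ (hle y.2))⟩⟩
  · intro p hp hchar x hx
    have hT : x ∈ T := hle hx
    have hpow : ∀ n : ℕ, ((x ^ n : LinearMap.GeneralLinearGroup k M) : M →ₗ[k] M) - 1 =
        (n : k) • ((x : M →ₗ[k] M) - 1) := by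
      intro n
      induction n with
      | zero => simp
      | succ n ih => rw [pow_succ, hprod (H.pow_mem hT n) hT, ih, Nat.cast_succ, add_smul, one_smul]
    have hp0 : (p : k) = 0 := by rw [← hchar]; exact ringChar.Nat.cast_ringChar
    have := hpow p
    rw [hp0, zero_smul, sub_eq_zero] at this
    exact Units.ext this

end Cfsg.Agent.S5059
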