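import Cfsg.Statements.S1119
import Cfsg.Agent.Lib.Recog.RankOneSetup
-- import your own Cfsg.Agent.* helpers here

set_option autoImplicit false
open Cfsg

namespace Cfsg.Agent.S1119

/-- In the rank-one set-up (`G` finite and doubly transitive on `Ω`, `t` an involution moving `a`, `Q` normal in `G_a` with `G_a = Q D`, `Q ⊓ D = 1` for the two-point stabiliser `D = G_a ⊓ G_{t • a}`, `|Q|` even, `|D|` odd): `Q` acts regularly on `Ω` minus `a`; hence `|Ω| = |Q| + 1`, `|G| = |Q| |D| (|Q| + 1)`, some Sylow 2-subgroup of `G` lies in `Q`, and each `g ∉ G_a` is uniquely `x t y` with `x ∈ G_a`, `y ∈ Q` (canonical form). -/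
theorem result {G Ω : Type*} [Group G] [Finite G] [MulAction G Ω] {a : Ω} {t : G} {Q : Subgroup G}
    (hS : Cfsg.IsRankOneSetup G Ω a t Q) :
    (∀ b c : Ω, b ≠ a → c ≠ a → ∃! x : Q, (x : G) • b = c) ∧
      Nat.card Ω = Nat.card Q + 1 ∧
      Nat.card G = Nat.card Q * Nat.card ↥(MulAction.stabilizer G a ⊓ MulAction.stabilizer G (t • a)) * (Nat.card Q + 1) ∧
      (∃ P : Sylow 2 G, (P : Subgroup G) ≤ Q) ∧
      ∀ g : G, g ∉ MulAction.stabilizer G a → ∃! p : G × G, p.1 ∈ MulAction.stabilizer G a ∧ p.2 ∈ Q ∧ g = p.1 * t * p.2 := by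
  open Cfsg.Agent.Recog in
  set D := MulAction.stabilizer G a ⊓ MulAction.stabilizer G (t • a)
  have hreg : ∀ b c : Ω, b ≠ a → c ≠ a → ∃! x : Q, (x : G) • b = c := fun b c hb hc => regular hS hb hc
  have hsurj : Function.Surjective (fun g : G => g • a) := by
    intro b
    by_cases hb : b = a
    · exact ⟨1, by rw [hb]; exact one_smul _ _⟩
    · obtain ⟨x, -, e⟩ := transitive_Q hS hb
      exact ⟨x * t, by show (x * t) • a = b; rw [mul_smul]; exact e⟩
  haveI : Finite Ω := Finite.of_surjective _ hsurj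
  have hΩ : Nat.card Ω = Nat.card Q + 1 := by
    classical
    rw [← Finite.card_option]
    refine (Nat.card_eq_of_bijective (fun o : Option Q => Option.elim o a (fun x => (x : G) • (t • a))) ⟨?_, ?_⟩).symm
    · have hne : ∀ x : Q, (x : G) • (t • a) ≠ a := fun x e => ta_ne hS (by
        rw [← inv_smul_smul (x : G) (t • a), e, MulAction.mem_stabilizer_iff.1 (inv_mem (hS.le x.2))])
      rintro (_ | x) (_ | y) e
      · rfl
      · exact absurd e.symm (hne y)
      · exact absurd e (hne x)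
      · exact congrArg some ((hreg _ _ (ta_ne hS) (hne y)).unique e rfl)
    · intro b
      by_cases hb : b = a
      · exact ⟨none, hb.symm⟩
      · obtain ⟨x, hx, e⟩ := transitive_Q hS hb
        exact ⟨some ⟨x, hx⟩, e⟩
  have hGa : Nat.card ↥(MulAction.stabilizer G a) = Nat.card Q * Nat.card ↥D := by
    rw [← Nat.card_prod]
    refine (Nat.card_eq_of_bijective
      (fun p : ↥Q × ↥D => (⟨(p.1 : G) * p.2, mul_mem (hS.le p.1.2) p.2.2.1⟩ : ↥(MulAction.stabilizer G a))) ⟨?_, ?_⟩).symm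
    · rintro ⟨⟨x, hx⟩, ⟨d, hd⟩⟩ ⟨⟨y, hy⟩, ⟨e, he⟩⟩ h
      have h' : x * d = y * e := congrArg Subtype.val h
      have h1 := form_unique hS hx hy hd he (one_mem Q) (one_mem Q) (by rw [h'])
      obtain ⟨rfl, rfl, -⟩ := h1
      rfl
    · rintro ⟨h, hh⟩
      obtain ⟨x, hx, d, hd, e⟩ := stab_eq hS h hh
      exact ⟨(⟨x, hx⟩, ⟨d, hd⟩), Subtype.ext e.symm⟩
  have hG : Nat.card G = Nat.card Q * Nat.card ↥D * (Nat.card Q + 1) := by
    haveI : MulAction.IsPretransitive G Ω := by
      constructor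
      intro x y
      obtain ⟨g, hg⟩ := hsurj x
      obtain ⟨k, hk⟩ := hsurj y
      exact ⟨k * g⁻¹, by rw [← hg, ← hk]; simp [mul_smul]⟩
    rw [← (MulAction.stabilizer G a).card_mul_index, MulAction.index_stabilizer_of_transitive, hΩ, hGa]
  refine ⟨hreg, hΩ, hG, ?_, ?_⟩
  · haveI : Fact (Nat.Prime 2) := ⟨Nat.prime_two⟩
    let P₀ : Sylow 2 Q := default
    obtain ⟨P, hP⟩ := (P₀.2.map Q.subtype).exists_le_sylow
    refine ⟨P, ?_⟩
    have hodd : ¬ 2 ∣ Nat.card ↥D * (Nat.card Q + 1) := by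
      intro h
      rcases (Nat.Prime.dvd_mul Nat.prime_two).1 h with h | h
      · exact (Nat.not_even_iff_odd.2 hS.odd_card) (even_iff_two_dvd.2 h)
      · have := hS.even_card
        rw [even_iff_two_dvd] at this
        omega
    obtain ⟨n, hn⟩ := IsPGroup.iff_card.1 P.isPGroup'
    have hdvd : 2 ^ n ∣ Nat.card Q := by
      have : 2 ^ n ∣ Nat.card Q * (Nat.card ↥D * (Nat.card Q + 1)) := by
        rw [← mul_assoc, ← hG, ← hn]; exact Subgroup.card_subgroup_dvd_card _
      exact ((Nat.prime_two.coprime_iff_not_dvd.2 hodd).pow_left n).dvd_of_dvd_mul_right this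
    have hle : Nat.card ↥(P : Subgroup G) ≤ Nat.card ↥((P₀ : Subgroup ↥Q).map Q.subtype) := by
      rw [Subgroup.card_map_of_injective Q.subtype_injective, hn]
      exact Nat.le_of_dvd Nat.card_pos (P₀.pow_dvd_card_of_pow_dvd_card hdvd)
    rw [← Subgroup.eq_of_le_of_card_ge hP hle]
    exact Subgroup.map_subtype_le _
  · intro g hg
    have hne : g⁻¹ • a ≠ a := fun e => hg (by
      rw [inv_smul_eq_iff] at e; exact MulAction.mem_stabilizer_iff.2 e.symm)
    obtain ⟨y, hy, ey⟩ := transitive_Q hS hne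
    have hx : g * y * t ∈ MulAction.stabilizer G a := by
      rw [MulAction.mem_stabilizer_iff, mul_smul, mul_smul, ey, smul_inv_smul]
    refine ⟨(g * y * t, y⁻¹), ⟨hx, inv_mem hy, ?_⟩, ?_⟩
    · show g = g * y * t * t * y⁻¹
      rw [mul_assoc (g * y), hS.mul_self, mul_one, mul_inv_cancel_right]
    · rintro ⟨p, q⟩ ⟨hp, hq, e⟩
      simp only at hp hq e
      have e2 : q⁻¹ • (t • a) = g⁻¹ • a := by
        rw [e, mul_inv_rev, mul_inv_rev, t_inv hS, mul_smul, mul_smul,
          MulAction.mem_stabilizer_iff.1 (inv_mem hp)]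
      obtain rfl : q = y⁻¹ := by
        have h1 := (hreg _ _ (ta_ne hS) hne).unique (y₁ := ⟨q⁻¹, inv_mem hq⟩) (y₂ := ⟨y, hy⟩) e2 ey
        rw [← inv_inv q]; exact congrArg (fun z : Q => (z : G)⁻¹) h1
      refine Prod.ext ?_ rfl
      show p = g * y * t
      rw [e, inv_mul_cancel_right, mul_assoc, hS.mul_self, mul_one]

end Cfsg.Agent.S1119
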