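import Cfsg.Statements.S1121
import Cfsg.Agent.Lib.Recog.RankOneSetup
-- import your own Cfsg.Agent.* helpers here

set_option autoImplicit false
open Cfsg

namespace Cfsg.Agent.S1121

/-- In the rank-one set-up (`G` finite and doubly transitive on `Ω`, `t` an involution moving `a`, `Q` normal in `G_a` with `G_a = Q D`, `Q ⊓ D = 1` for the two-point stabiliser `D = G_a ⊓ G_{t • a}`, `|Q|` even, `|D|` odd): if `s` is an involution of `G_a` and `u` an involution outside `G_a`, then `s u` has odd order; and any two involutions of `G` are conjugate. -/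
theorem result {G Ω : Type*} [Group G] [Finite G] [MulAction G Ω] {a : Ω} {t : G} {Q : Subgroup G}
    (hS : Cfsg.IsRankOneSetup G Ω a t Q) :
    (∀ s u : G, s ∈ MulAction.stabilizer G a → s ≠ 1 → s * s = 1 → u ∉ MulAction.stabilizer G a → u ≠ 1 → u * u = 1 → Odd (orderOf (s * u))) ∧
      ∀ u v : G, u ≠ 1 → u * u = 1 → v ≠ 1 → v * v = 1 → ∃ g : G, g * u * g⁻¹ = v := by
  open Cfsg.Agent.Recog in
  have hinQ : ∀ s ∈ MulAction.stabilizer G a, s * s = 1 → s ∈ Q := by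
    intro s hs hs2
    set Q' := Q.subgroupOf (MulAction.stabilizer G a)
    haveI : Q'.Normal := ⟨fun n hn g => hS.conj_mem (g : G) g.2 n hn⟩
    obtain ⟨m, hm⟩ : Odd Q'.index := by
      refine hS.odd_card.of_dvd_nat ?_
      show Nat.card (↥(MulAction.stabilizer G a) ⧸ Q') ∣ _
      let φ : ↥(MulAction.stabilizer G a ⊓ MulAction.stabilizer G (t • a)) →* ↥(MulAction.stabilizer G a) ⧸ Q' :=
        (QuotientGroup.mk' Q').comp (Subgroup.inclusion inf_le_left)
      refine Subgroup.card_dvd_of_surjective φ ?_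
      intro q
      obtain ⟨⟨h, hh⟩, rfl⟩ := QuotientGroup.mk_surjective q
      obtain ⟨x, hx, d, hd, e⟩ := stab_eq hS h hh
      refine ⟨⟨d, hd⟩, (QuotientGroup.eq (s := Q')).2 ?_⟩
      show (d⁻¹ * h : G) ∈ Q
      rw [e, ← mul_assoc]
      have := hS.conj_mem d⁻¹ (inv_mem hd.1) x hx
      rwa [inv_inv] at this
    have h := Q'.pow_index_mem ⟨s, hs⟩
    have h' : s ^ Q'.index ∈ Q := h
    rwa [hm, pow_succ, pow_mul, pow_two, hs2, one_pow, one_mul] at h'
  have part1 : ∀ s u : G, s ∈ MulAction.stabilizer G a → s ≠ 1 → s * s = 1 → u ∉ MulAction.stabilizer G a →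
      u ≠ 1 → u * u = 1 → Odd (orderOf (s * u)) := by
    intro s u hs hs1 hs2 hu _ hu2
    rw [← Nat.not_even_iff_odd]
    intro hev
    obtain ⟨m, hm⟩ := hev
    have hpos := orderOf_pos (s * u)
    set n := s * u
    have hsi : s⁻¹ = s := inv_eq_of_mul_eq_one_right hs2
    have hui : u⁻¹ = u := inv_eq_of_mul_eq_one_right hu2
    have hn1 : s * n * s⁻¹ = n⁻¹ := by
      rw [hsi, ← mul_assoc s s u, hs2, one_mul, mul_inv_rev, hsi, hui]
    set z := n ^ m with hz
    have hz2 : z * z = 1 := by rw [hz, ← pow_add, ← hm, pow_orderOf_eq_one]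
    have hz1 : z ≠ 1 := fun e => by
      have := orderOf_le_of_pow_eq_one (by omega) e; omega
    have hcs : s * z * s⁻¹ = z := by
      rw [hz, ← conj_pow, hn1, inv_pow]; exact inv_eq_of_mul_eq_one_right hz2
    have hcs' : z * s * z⁻¹ = s := by
      rw [mul_inv_eq_iff_eq_mul] at hcs ⊢; exact hcs.symm
    have hzmem : z ∈ MulAction.stabilizer G a := conj_stays hS (hinQ s hs hs2) hs1 (by rw [hcs']; exact hs)
    apply hu
    refine conj_stays hS (hinQ z hzmem hz2) hz1 ?_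
    have hc : Commute z n := (Commute.self_pow n m).symm
    have hcz : Commute z s := by
      show z * s = s * z
      exact mul_inv_eq_iff_eq_mul.1 hcs'
    have : Commute z u := by
      have := hcz.mul_right hc
      rwa [← mul_assoc, hs2, one_mul] at this
    rw [← this.eq, mul_inv_cancel_right]; exact hzmem
  refine ⟨part1, ?_⟩
  have hodd : ∀ s u : G, s * s = 1 → u * u = 1 → Odd (orderOf (s * u)) → ∃ g : G, g * s * g⁻¹ = u := by
    intro s u hs2 hu2 ⟨m, hm⟩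
    have hsi : s⁻¹ = s := inv_eq_of_mul_eq_one_right hs2
    set n := s * u
    have hn1 : s * n * s⁻¹ = n⁻¹ := by
      rw [hsi, ← mul_assoc s s u, hs2, one_mul, mul_inv_rev, hsi, inv_eq_of_mul_eq_one_right hu2]
    have hnm : n⁻¹ = n ^ m * n ^ m := inv_eq_of_mul_eq_one_left (by
      rw [← pow_add, ← pow_succ, ← two_mul, ← hm, pow_orderOf_eq_one])
    have hflip : s * (n ^ m)⁻¹ = n ^ m * s := by
      have := congrArg (· ^ m) hn1
      simp only [conj_pow, inv_pow] at this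
      rw [← this, ← mul_assoc, ← mul_assoc, hs2, one_mul, hsi]
    refine ⟨n ^ m, ?_⟩
    calc n ^ m * s * (n ^ m)⁻¹ = n ^ m * (s * (n ^ m)⁻¹) := mul_assoc _ _ _
      _ = (n ^ m * n ^ m) * s := by rw [hflip, mul_assoc]
      _ = n⁻¹ * s := by rw [← hnm]
      _ = u := by rw [mul_inv_rev, hsi, inv_eq_of_mul_eq_one_right hu2, mul_assoc, hs2, mul_one]
  obtain ⟨s₀, hs₀Q, hs₀1, hs₀2⟩ : ∃ s ∈ Q, s ≠ 1 ∧ s * s = 1 := by
    haveI : Fact (Nat.Prime 2) := ⟨Nat.prime_two⟩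
    obtain ⟨⟨s, hs⟩, ho⟩ := exists_prime_orderOf_dvd_card' (G := Q) 2 (even_iff_two_dvd.1 hS.even_card)
    refine ⟨s, hs, fun e => ?_, ?_⟩
    · subst e; rw [show (⟨1, hs⟩ : Q) = 1 from rfl, orderOf_one] at ho; omega
    · have := pow_orderOf_eq_one (⟨s, hs⟩ : Q)
      rw [ho, pow_two] at this
      exact congrArg Subtype.val this
  have toS : ∀ u : G, u ≠ 1 → u * u = 1 → ∃ g : G, g * s₀ * g⁻¹ = u := by
    intro u hu1 hu2
    by_cases hu : u ∈ MulAction.stabilizer G a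
    · obtain ⟨g, hg⟩ := hodd u t hu2 hS.mul_self (part1 u t hu hu1 hu2 hS.not_mem hS.ne_one hS.mul_self)
      obtain ⟨k, hk⟩ := hodd s₀ t hs₀2 hS.mul_self
        (part1 s₀ t (hS.le hs₀Q) hs₀1 hs₀2 hS.not_mem hS.ne_one hS.mul_self)
      refine ⟨g⁻¹ * k, ?_⟩
      calc g⁻¹ * k * s₀ * (g⁻¹ * k)⁻¹ = g⁻¹ * (k * s₀ * k⁻¹) * g := by group
        _ = g⁻¹ * (g * u * g⁻¹) * g := by rw [hk, hg]
        _ = u := by group
    · exact hodd s₀ u hs₀2 hu2 (part1 s₀ u (hS.le hs₀Q) hs₀1 hs₀2 hu hu1 hu2)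
  intro u v hu1 hu2 hv1 hv2
  obtain ⟨g, hg⟩ := toS u hu1 hu2
  obtain ⟨k, hk⟩ := toS v hv1 hv2
  refine ⟨k * g⁻¹, ?_⟩
  rw [← hg, ← hk]; group

end Cfsg.Agent.S1121
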