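import Cfsg.Statements.S1124
import Mathlib

set_option autoImplicit false
open scoped Pointwise
open Cfsg

namespace Cfsg.Agent.S1124

/-- Let `t` be an element of order 2 of a finite group normalising a subgroup `X` of odd order, `Y = C_X(t)` and `Z` the set of elements of `X` inverted by `t`. Then `(y, z) ↦ y z` is a bijection `Y × Z → X`, so `|X| = |Y| |Z|`, and the subgroup generated by `Z` is normal in `X`. -/
theorem result {M : Type*} [Group M] [Finite M]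
    (t : M) (ht : orderOf t = 2) (X : Subgroup M) (hodd : Odd (Nat.card X))
    (hnorm : ∀ x ∈ X, t * x * t⁻¹ ∈ X) :
    (∀ x ∈ X, ∃! p : M × M, p.1 ∈ X ⊓ Subgroup.centralizer {t} ∧ p.2 ∈ Cfsg.invertedBy X t ∧ x = p.1 * p.2) ∧
      Nat.card X = Nat.card ↥(X ⊓ Subgroup.centralizer {t}) * Nat.card (Cfsg.invertedBy X t) ∧
      ∀ x ∈ X, MulAut.conj x • Subgroup.closure (Cfsg.invertedBy X t) = Subgroup.closure (Cfsg.invertedBy X t) := by
  classical
  have htt : t * t = 1 := by rw [← pow_two, ← ht, pow_orderOf_eq_one]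
  have hti : t⁻¹ = t := inv_eq_of_mul_eq_one_right htt
  have hsqrt : ∀ g ∈ X, ∃ n : ℕ, (g ^ n) ^ 2 = g := by
    intro g hg
    have h1 : Odd (orderOf g) := Odd.of_dvd_nat hodd (Subgroup.orderOf_mk g hg ▸ orderOf_dvd_natCard _)
    obtain ⟨n, hn⟩ := exists_pow_eq_self_of_coprime (x := g) (n := 2) (Nat.coprime_two_left.mpr h1)
    exact ⟨n, by rw [← pow_mul, mul_comm, pow_mul]; exact hn⟩
  have hinj : ∀ a ∈ X, ∀ b ∈ X, a ^ 2 = b ^ 2 → a = b := by
    intro a ha b hb h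
    obtain ⟨k, hk⟩ := hodd
    have hpa : a ^ Nat.card ↥X = 1 := congrArg Subtype.val (pow_card_eq_one' (x := (⟨a, ha⟩ : ↥X)))
    have hpb : b ^ Nat.card ↥X = 1 := congrArg Subtype.val (pow_card_eq_one' (x := (⟨b, hb⟩ : ↥X)))
    calc a = (a ^ 2) ^ (k + 1) := by
          rw [← pow_mul, show 2 * (k + 1) = (2 * k + 1) + 1 by ring, pow_succ, ← hk, hpa, one_mul]
      _ = (b ^ 2) ^ (k + 1) := by rw [h]
      _ = b := by rw [← pow_mul, show 2 * (k + 1) = (2 * k + 1) + 1 by ring, pow_succ, ← hk, hpb, one_mul]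
  have hconjconj : ∀ x : M, t * (t * x * t⁻¹) * t⁻¹ = x := by
    intro x
    calc t * (t * x * t⁻¹) * t⁻¹ = (t * t) * x * (t * t)⁻¹ := by group
      _ = x := by rw [htt]; group
  have hex : ∀ x ∈ X, ∃! p : M × M, p.1 ∈ X ⊓ Subgroup.centralizer {t} ∧ p.2 ∈ Cfsg.invertedBy X t ∧ x = p.1 * p.2 := by
    intro x hx
    set g := (t * x * t⁻¹)⁻¹ * x with hg
    have hgX : g ∈ X := X.mul_mem (X.inv_mem (hnorm x hx)) hx
    have hginv : t * g * t⁻¹ = g⁻¹ := by
      calc t * g * t⁻¹ = (t * (t * x * t⁻¹) * t⁻¹)⁻¹ * (t * x * t⁻¹) := by rw [hg]; simp [mul_assoc]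
        _ = g⁻¹ := by rw [hconjconj, hg]; group
    obtain ⟨n, hn⟩ := hsqrt g hgX
    set z := g ^ n with hz
    have hzX : z ∈ X := X.pow_mem hgX n
    have hzinv : t * z * t⁻¹ = z⁻¹ := by rw [hz, ← conj_pow, hginv, inv_pow]
    have hy : t * (x * z⁻¹) * t⁻¹ = x * z⁻¹ := by
      calc t * (x * z⁻¹) * t⁻¹ = (t * x * t⁻¹) * (t * z * t⁻¹)⁻¹ := by group
        _ = (t * x * t⁻¹) * z := by rw [hzinv, inv_inv]
        _ = (t * x * t⁻¹) * z ^ 2 * z⁻¹ := by group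
        _ = x * z⁻¹ := by rw [hn, hg]; group
    refine ⟨(x * z⁻¹, z), ⟨⟨X.mul_mem hx (X.inv_mem hzX),
      Subgroup.mem_centralizer_singleton_iff.mpr (mul_inv_eq_iff_eq_mul.mp hy).symm⟩, ⟨hzX, hzinv⟩, by group⟩, ?_⟩
    rintro ⟨y, w⟩ ⟨⟨hyX, hyt⟩, ⟨hwX, hwinv⟩, hxyw⟩
    have hyt' : t * y * t⁻¹ = y := by
      rw [← Subgroup.mem_centralizer_singleton_iff.mp hyt, mul_inv_cancel_right]
    have hw : w = z := by
      apply hinj w hwX z hzX
      rw [hn, hg, show x = y * w from hxyw,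
        show t * (y * w) * t⁻¹ = (t * y * t⁻¹) * (t * w * t⁻¹) by group, hyt', hwinv]
      simp [pow_two, mul_assoc]
    subst hw
    have : y = x * z⁻¹ := by rw [show x = y * z from hxyw, mul_inv_cancel_right]
    rw [this]
  refine ⟨hex, ?_, ?_⟩
  · rw [← Nat.card_prod]
    symm
    refine Nat.card_congr (Equiv.ofBijective (fun p : ↥(X ⊓ Subgroup.centralizer {t}) × ↥(Cfsg.invertedBy X t) =>
      (⟨(p.1 : M) * p.2, X.mul_mem p.1.2.1 p.2.2.1⟩ : ↥X)) ⟨?_, ?_⟩)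
    · intro p q h
      have h' : (p.1 : M) * p.2 = q.1 * q.2 := congrArg Subtype.val h
      have h2 := (hex _ (X.mul_mem p.1.2.1 p.2.2.1)).unique (y₁ := ((p.1 : M), (p.2 : M))) (y₂ := ((q.1 : M), (q.2 : M)))
        ⟨p.1.2, p.2.2, rfl⟩ ⟨q.1.2, q.2.2, h'⟩
      exact Prod.ext (Subtype.ext (congrArg Prod.fst h2)) (Subtype.ext (congrArg Prod.snd h2))
    · rintro ⟨x, hx⟩
      obtain ⟨⟨y, z⟩, ⟨hy, hz, h⟩, -⟩ := hex x hx
      exact ⟨(⟨y, hy⟩, ⟨z, hz⟩), Subtype.ext h.symm⟩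
  · intro x hx
    have hle : X ≤ Subgroup.normalizer ((Subgroup.closure (Cfsg.invertedBy X t) : Subgroup M) : Set M) := by
      intro x hx
      obtain ⟨⟨y, z⟩, ⟨⟨hyX, hyt⟩, hz, rfl⟩, -⟩ := hex x hx
      refine Subgroup.mul_mem _ ?_ (Subgroup.le_normalizer (Subgroup.subset_closure hz))
      have hyt' : t * y * t⁻¹ = y := by
        rw [← Subgroup.mem_centralizer_singleton_iff.mp hyt, mul_inv_cancel_right]
      have key : ∀ c : M, c ∈ X → t * c * t⁻¹ = c → ∀ w ∈ Cfsg.invertedBy X t, c * w * c⁻¹ ∈ Cfsg.invertedBy X t := by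
        rintro c hcX hct w ⟨hwX, hw⟩
        refine ⟨X.mul_mem (X.mul_mem hcX hwX) (X.inv_mem hcX), ?_⟩
        rw [show t * (c * w * c⁻¹) * t⁻¹ = (t * c * t⁻¹) * (t * w * t⁻¹) * (t * c * t⁻¹)⁻¹ by group, hct, hw]
        group
      have key2 : ∀ c : M, c ∈ X → t * c * t⁻¹ = c → ∀ w ∈ Subgroup.closure (Cfsg.invertedBy X t),
          c * w * c⁻¹ ∈ Subgroup.closure (Cfsg.invertedBy X t) := by
        intro c hcX hct w hw
        have : (Subgroup.closure (Cfsg.invertedBy X t)).map (MulAut.conj c).toMonoidHom ≤ Subgroup.closure (Cfsg.invertedBy X t) := by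
          rw [MonoidHom.map_closure, Subgroup.closure_le]
          rintro _ ⟨u, hu, rfl⟩
          exact Subgroup.subset_closure (key c hcX hct u hu)
        exact this ⟨w, hw, rfl⟩
      rw [Subgroup.mem_normalizer_iff]
      intro w
      refine ⟨key2 y hyX hyt' w, fun h => ?_⟩
      have h3 := key2 y⁻¹ (X.inv_mem hyX) (by
        calc t * y⁻¹ * t⁻¹ = (t * y * t⁻¹)⁻¹ := by group
          _ = y⁻¹ := by rw [hyt']) _ h
      simpa [mul_assoc] using h3
    ext w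
    rw [Subgroup.mem_pointwise_smul_iff_inv_smul_mem, MulAut.smul_def, MulAut.inv_apply, MulAut.conj_symm_apply]
    have := Subgroup.mem_normalizer_iff''.mp (hle hx) w
    exact this.symm

end Cfsg.Agent.S1124
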