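import Cfsg.Statements.S1125
import Cfsg.Agent.Lib.Recog.RankOneInv

set_option autoImplicit false
open Cfsg

namespace Cfsg.Agent.S1125

open Cfsg.Agent.Recog Cfsg.Agent.Recog.RankOneInv

/-- In the rank-one set-up (`G` finite and doubly transitive on `Ω`, `t` an involution moving `a`, `Q` normal in `G_a` with `G_a = Q D`, `Q ⊓ D = 1` for the two-point stabiliser `D = G_a ⊓ G_{t • a}`, `|Q|` even, `|D|` odd), let `X ⊆ D` fix at least three points of `Ω`. Then `C_G(X)` is doubly transitive on the fixed-point set of `X`, `|C_Q(X)|` is even, and `C_{G_a}(X) = C_Q(X) C_D(X)`. -/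
theorem result {G Ω : Type*} [Group G] [Finite G] [MulAction G Ω] {a : Ω} {t : G} {Q : Subgroup G}
    (hS : Cfsg.IsRankOneSetup G Ω a t Q)
    (X : Set G) (hX : X ⊆ ((MulAction.stabilizer G a ⊓ MulAction.stabilizer G (t • a)) : Set G))
    (h3 : ∃ b c d : Ω, b ≠ c ∧ b ≠ d ∧ c ≠ d ∧ ∀ x ∈ X, x • b = b ∧ x • c = c ∧ x • d = d) :
    (∀ b₁ b₂ c₁ c₂ : Ω, (∀ x ∈ X, x • b₁ = b₁ ∧ x • b₂ = b₂ ∧ x • c₁ = c₁ ∧ x • c₂ = c₂) →
        b₁ ≠ b₂ → c₁ ≠ c₂ → ∃ g ∈ Subgroup.centralizer X, g • b₁ = c₁ ∧ g • b₂ = c₂) ∧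
      Even (Nat.card ↥(Subgroup.centralizer X ⊓ Q)) ∧
      (Subgroup.centralizer X ⊓ Q) ⊔ (Subgroup.centralizer X ⊓ (MulAction.stabilizer G a ⊓ MulAction.stabilizer G (t • a))) = Subgroup.centralizer X ⊓ MulAction.stabilizer G a := by
  classical
  obtain ⟨u, hu1, hu2, hua, huc⟩ := exists_swap hS hX h3
  have hxa : ∀ x ∈ X, x • a = a := fun x hx => MulAction.mem_stabilizer_iff.1 (hX hx).1
  have hxt : ∀ x ∈ X, x • t • a = t • a := fun x hx => MulAction.mem_stabilizer_iff.1 (hX hx).2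
  have hCQ : ∀ b : Ω, b ≠ a → (∀ x ∈ X, x • b = b) → ∃ y ∈ Subgroup.centralizer X ⊓ Q, y • t • a = b := by
    intro b hb hfix
    obtain ⟨y, hy, hyb⟩ := transitive_Q hS hb
    exact ⟨y, ⟨Subgroup.mem_centralizer_iff.2 fun x hx => centralizer_commute hS hy (hX hx) (by rw [hyb]; exact hfix x hx), hy⟩, hyb⟩
  have hfixC : ∀ g ∈ Subgroup.centralizer X, ∀ b : Ω, (∀ x ∈ X, x • b = b) → ∀ x ∈ X, x • g • b = g • b := by
    intro g hg b hb x hx
    rw [← mul_smul, Subgroup.mem_centralizer_iff.1 hg x hx, mul_smul, hb x hx]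
  have huC : u ∈ Subgroup.centralizer X := Subgroup.mem_centralizer_iff.2 huc
  have hpair : ∀ b c : Ω, b ≠ c → (∀ x ∈ X, x • b = b) → (∀ x ∈ X, x • c = c) →
      ∃ g ∈ Subgroup.centralizer X, g • a = b ∧ g • t • a = c := by
    intro b c hbc hb hc
    obtain ⟨g₀, hg₀, hg₀b⟩ : ∃ g₀ ∈ Subgroup.centralizer X, g₀ • a = b := by
      by_cases hba : b = a
      · exact ⟨1, Subgroup.one_mem _, by rw [one_smul, hba]⟩
      · obtain ⟨y, ⟨hyC, -⟩, hyb⟩ := hCQ b hba hb
        exact ⟨y * u, mul_mem hyC huC, by rw [mul_smul, hua, hyb]⟩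
    obtain ⟨z, ⟨hzC, hzQ⟩, hzc⟩ := hCQ (g₀⁻¹ • c) (fun e => hbc (by rw [← hg₀b, ← e, smul_inv_smul]))
      (hfixC _ (inv_mem hg₀) c hc)
    refine ⟨g₀ * z, mul_mem hg₀ hzC, ?_, ?_⟩
    · rw [mul_smul, MulAction.mem_stabilizer_iff.1 (hS.le hzQ), hg₀b]
    · rw [mul_smul, hzc, smul_inv_smul]
  refine ⟨?_, ?_, ?_⟩
  · intro b₁ b₂ c₁ c₂ hf hb hc
    obtain ⟨g, hg, hg1, hg2⟩ := hpair b₁ b₂ hb (fun x hx => (hf x hx).1) (fun x hx => (hf x hx).2.1)
    obtain ⟨h, hh, hh1, hh2⟩ := hpair c₁ c₂ hc (fun x hx => (hf x hx).2.2.1) (fun x hx => (hf x hx).2.2.2)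
    exact ⟨h * g⁻¹, mul_mem hh (inv_mem hg), by rw [mul_smul, ← hg1, inv_smul_smul, hh1],
      by rw [mul_smul, ← hg2, inv_smul_smul, hh2]⟩
  · -- the fixed points other than `a`
    have hsurj : Function.Surjective (fun g : G => g • a) := fun b => by
      by_cases hb : b = a
      · exact ⟨1, by rw [hb]; exact one_smul _ _⟩
      · obtain ⟨x, -, e⟩ := transitive_Q hS hb
        exact ⟨x * t, by show (x * t) • a = b; rw [mul_smul]; exact e⟩
    haveI : Finite Ω := Finite.of_surjective _ hsurj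
    let F := {b : Ω // ∀ x ∈ X, x • b = b}
    haveI := Fintype.ofFinite F
    let σ : Equiv.Perm F :=
      { toFun := fun b => ⟨u • b.1, hfixC u huC b.1 b.2⟩
        invFun := fun b => ⟨u • b.1, hfixC u huC b.1 b.2⟩
        left_inv := fun b => Subtype.ext (by show u • u • b.1 = b.1; rw [← mul_smul, hu2, one_smul])
        right_inv := fun b => Subtype.ext (by show u • u • b.1 = b.1; rw [← mul_smul, hu2, one_smul]) }
    have hσ : σ ^ 2 ^ 1 = 1 := Equiv.ext fun b => Subtype.ext (by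
      rw [pow_one, pow_two]
      show u • u • b.1 = b.1
      rw [← mul_smul, hu2, one_smul])
    haveI : Fact (Nat.Prime 2) := ⟨Nat.prime_two⟩
    have hmod := Equiv.Perm.card_compl_support_modEq (p := 2) (n := 1) hσ
    obtain ⟨b₀, hb₀, hbu⟩ := existsUnique_fixed hS hu1 hu2
    have hb₀F : ∀ x ∈ X, x • b₀ = b₀ := fun x hx => smul_fixed_of_commute hS hu1 hu2 hb₀ (huc x hx)
    have hone : σ.supportᶜ = {(⟨b₀, hb₀F⟩ : F)} := by
      ext b
      rw [Finset.mem_compl, Equiv.Perm.mem_support, not_not, Finset.mem_singleton]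
      exact ⟨fun h => Subtype.ext (hbu b.1 (congrArg Subtype.val h)), fun h => h ▸ Subtype.ext hb₀⟩
    rw [hone, Finset.card_singleton, ← Nat.card_eq_fintype_card] at hmod
    have hcard : Nat.card F = Nat.card ↥(Subgroup.centralizer X ⊓ Q) + 1 := by
      rw [← Finite.card_option]
      refine (Nat.card_congr (Equiv.ofBijective (fun o : Option ↥(Subgroup.centralizer X ⊓ Q) =>
        o.elim (⟨a, hxa⟩ : F) fun y => ⟨(y : G) • t • a, hfixC _ y.2.1 _ hxt⟩) ⟨?_, ?_⟩)).symm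
      · have hne : ∀ y : ↥(Subgroup.centralizer X ⊓ Q), (y : G) • t • a ≠ a := fun y e => ta_ne hS (by
          rw [← inv_smul_smul (y : G) (t • a), e, MulAction.mem_stabilizer_iff.1 (inv_mem (hS.le y.2.2))])
        rintro (_ | y) (_ | z) h
        · rfl
        · exact absurd (congrArg Subtype.val h).symm (hne z)
        · exact absurd (congrArg Subtype.val h) (hne y)
        · have h' : (y : G) • t • a = (z : G) • t • a := congrArg Subtype.val h
          exact congrArg some (Subtype.ext (inv_mul_eq_one.1 (fixes_only hS (Q.mul_mem (Q.inv_mem z.2.2) y.2.2) (ta_ne hS)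
            (by rw [mul_smul, h', inv_smul_smul]))).symm)
      · rintro ⟨b, hb⟩
        by_cases hba : b = a
        · exact ⟨none, Subtype.ext hba.symm⟩
        · obtain ⟨y, hy, hyb⟩ := hCQ b hba hb
          exact ⟨some ⟨y, hy⟩, Subtype.ext hyb⟩
    rw [hcard] at hmod
    have : (1 : ℕ) % 2 = (Nat.card ↥(Subgroup.centralizer X ⊓ Q) + 1) % 2 := hmod
    exact Nat.even_iff.2 (by omega)
  · refine le_antisymm (sup_le (inf_le_inf_left _ hS.le) (inf_le_inf_left _ inf_le_left)) ?_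
    rintro h ⟨hhC, hha⟩
    obtain ⟨x, hxQ, d, hd, rfl⟩ := stab_eq hS h hha
    have hxC : x ∈ Subgroup.centralizer X := Subgroup.mem_centralizer_iff.2 fun y hy => by
      refine centralizer_commute hS hxQ (hX hy) ?_
      have := hfixC _ hhC (t • a) hxt y hy
      rwa [mul_smul, MulAction.mem_stabilizer_iff.1 hd.2] at this
    refine mul_mem (Subgroup.mem_sup_left ⟨hxC, hxQ⟩) (Subgroup.mem_sup_right ⟨?_, hd⟩)
    exact ((Subgroup.centralizer X).mul_mem_cancel_left hxC).1 hhC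

end Cfsg.Agent.S1125
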