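import Cfsg.Statements.S0015
import Cfsg.Agent.Lib.Solv.Misc

set_option autoImplicit false
open scoped Pointwise
open Cfsg

namespace Cfsg.Agent.S0015

/-- In a finite nilpotent group, an abelian normal subgroup that is maximal among abelian normal subgroups equals its own centralizer. -/
theorem result {G : Type*} [Group G] [Finite G] [Group.IsNilpotent G]
    (N : Subgroup G) [N.Normal] [IsMulCommutative N]
    (hmax : ∀ M : Subgroup G, M.Normal → IsMulCommutative M → N ≤ M → M = N) :
    Subgroup.centralizer (N : Set G) = N := by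
  set C := Subgroup.centralizer (N : Set G) with hC
  have hNC : N ≤ C := Subgroup.le_centralizer N
  refine le_antisymm (by_contra fun hne => ?_) hNC
  haveI : C.Normal := hC ▸ inferInstance
  haveI : (C.map (QuotientGroup.mk' N)).Normal :=
    Subgroup.Normal.map inferInstance _ (QuotientGroup.mk'_surjective N)
  have hD : C.map (QuotientGroup.mk' N) ≠ ⊥ := fun h => hne (by
    rwa [Subgroup.map_eq_bot_iff, QuotientGroup.ker_mk'] at h)
  obtain ⟨⟨y, hy⟩, hy1⟩ := (Subgroup.ne_bot_iff_exists_ne_one).mp (Cfsg.Agent.Solv.inf_center_ne_bot _ hD)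
  obtain ⟨x, hx, rfl⟩ := hy.1
  have hcent : ∀ g : G, x⁻¹ * (g * x * g⁻¹) ∈ N := fun g => by
    rw [← QuotientGroup.eq_one_iff]
    have h2 := Subgroup.mem_center_iff.mp hy.2 (g : G ⧸ N)
    simp only [QuotientGroup.mk'_apply] at h2
    simp only [QuotientGroup.mk_mul, QuotientGroup.mk_inv, h2]
    group
  have hM : (N ⊔ Subgroup.zpowers x).Normal := by
    refine Subgroup.normalizer_eq_top_iff.mp (top_le_iff.mp fun g _ => ?_)
    apply Cfsg.Agent.Solv.le_normalizer_of_conj_mem (X := (⊤ : Subgroup G)) ?_ (Subgroup.mem_top g)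
    intro a _ k hk
    have : N ⊔ Subgroup.zpowers x ≤ (N ⊔ Subgroup.zpowers x).comap (MulAut.conj a).toMonoidHom := by
      refine sup_le (fun n hn => Subgroup.mem_sup_left ((inferInstance : N.Normal).conj_mem n hn a))
        ((Subgroup.zpowers_le).mpr ?_)
      have h3 := Subgroup.mul_mem (N ⊔ Subgroup.zpowers x)
        (Subgroup.mem_sup_right (Subgroup.mem_zpowers x)) (Subgroup.mem_sup_left (hcent a))
      simpa [mul_assoc] using h3
    exact this hk
  have hab : IsMulCommutative ↥(N ⊔ Subgroup.zpowers x : Subgroup G) := by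
    rw [← Subgroup.le_centralizer_iff_isMulCommutative]
    have hz : Subgroup.zpowers x ≤ Subgroup.centralizer (N : Set G) := Subgroup.zpowers_le.mpr hx
    refine sup_le ?_ ?_ <;> rw [Subgroup.le_centralizer_iff] <;> refine sup_le ?_ ?_
    · exact Subgroup.le_centralizer N
    · exact hz
    · exact Subgroup.le_centralizer_iff.mp hz
    · exact Subgroup.le_centralizer (Subgroup.zpowers x)
  have hxN : x ∈ N := by
    rw [← hmax _ hM hab le_sup_left]
    exact Subgroup.mem_sup_right (Subgroup.mem_zpowers x)
  exact hy1 (Subtype.ext ((QuotientGroup.eq_one_iff x).mpr hxN))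

end Cfsg.Agent.S0015
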