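import Cfsg.Statements.S0068
import Cfsg.Agent.Lib.Struct.FrobeniusConj

set_option autoImplicit false
open Cfsg
open Cfsg.Agent.Struct
namespace Cfsg.Agent.S0068

/-- Frobenius complements of even order: if H complements a nontrivial normal subgroup K, each nonidentity element of H has trivial centraliser in K, and H has even order, then H contains a unique involution s, K is abelian, and s inverts every element of K. -/
theorem result {G : Type*} [Group G] [Finite G] (K H : Subgroup G) [K.Normal]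
    (hc : Subgroup.IsComplement' K H) (hK : K ≠ ⊥) (hfpf : ∀ h ∈ H, h ≠ 1 → K ⊓ Subgroup.centralizer {h} = ⊥)
    (heven : 2 ∣ Nat.card H) :
    (∃ s ∈ H, orderOf s = 2 ∧ (∀ t ∈ H, orderOf t = 2 → t = s) ∧ ∀ k ∈ K, s * k * s⁻¹ = k⁻¹) ∧ IsMulCommutative K := by
  have hH : H ≠ ⊥ := fun e => by rw [e, Subgroup.card_bot] at heven; norm_num at heven
  have hinv : ∀ s ∈ H, orderOf s = 2 → ∀ k ∈ K, s * k * s⁻¹ = k⁻¹ := by
    intro s hs hs2 k hk
    have hs1 : s ≠ 1 := fun e => by rw [e, orderOf_one] at hs2; norm_num at hs2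
    have hss : s * s = 1 := by rw [← sq, ← hs2, pow_orderOf_eq_one]
    have hsi : s⁻¹ = s := inv_eq_of_mul_eq_one_right hss
    let f : K → K := fun x => ⟨(x : G)⁻¹ * (s * x * s⁻¹),
      mul_mem (inv_mem x.2) (Subgroup.Normal.conj_mem inferInstance _ x.2 s)⟩
    have hf : Function.Surjective f := by
      refine Finite.surjective_of_injective fun x y e => ?_
      have e : (x : G)⁻¹ * (s * x * s⁻¹) = (y : G)⁻¹ * (s * y * s⁻¹) := congrArg Subtype.val e
      have h1 : (y : G) * (x : G)⁻¹ ∈ K ⊓ Subgroup.centralizer {s} := by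
        refine Subgroup.mem_inf.2 ⟨mul_mem y.2 (inv_mem x.2),
          Subgroup.mem_centralizer_singleton_iff.2 ?_⟩
        calc (y : G) * (x : G)⁻¹ * s = (y : G) * ((x : G)⁻¹ * (s * x * s⁻¹)) * s * (x : G)⁻¹ := by group
          _ = (y : G) * ((y : G)⁻¹ * (s * y * s⁻¹)) * s * (x : G)⁻¹ := by rw [e]
          _ = s * ((y : G) * (x : G)⁻¹) := by group
      rw [hfpf s hs hs1, Subgroup.mem_bot, mul_inv_eq_one] at h1
      exact Subtype.ext h1.symm
    obtain ⟨x, hx⟩ := hf ⟨k, hk⟩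
    have e : (x : G)⁻¹ * (s * x * s⁻¹) = k := congrArg Subtype.val hx
    rw [← e, hsi]
    calc s * ((x : G)⁻¹ * (s * x * s)) * s = s * (x : G)⁻¹ * s * x * (s * s) := by group
      _ = ((x : G)⁻¹ * (s * x * s))⁻¹ := by rw [hss, mul_one, mul_inv_rev, mul_inv_rev, mul_inv_rev, hsi]; group
  obtain ⟨s, hs⟩ := exists_prime_orderOf_dvd_card' (G := H) 2 heven
  rw [← Subgroup.orderOf_coe] at hs
  have hcomm : ∀ a ∈ K, ∀ b ∈ K, a * b = b * a := fun a ha b hb => by
    have h := hinv s s.2 hs (a * b) (mul_mem ha hb)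
    rw [show (s : G) * (a * b) * (s : G)⁻¹ = (s : G) * a * (s : G)⁻¹ * ((s : G) * b * (s : G)⁻¹) by group,
      hinv s s.2 hs a ha, hinv s s.2 hs b hb, mul_inv_rev] at h
    have := congrArg Inv.inv h
    rw [mul_inv_rev, mul_inv_rev] at this
    simpa using this.symm
  refine ⟨⟨s, s.2, hs, fun t ht ht2 => ?_, hinv s s.2 hs⟩,
    ⟨⟨fun a b => Subtype.ext (hcomm a a.2 b b.2)⟩⟩⟩
  obtain ⟨k, hk, hk1⟩ := (Subgroup.bot_or_exists_ne_one K).resolve_left hK
  by_contra hne
  refine hk1 ((Subgroup.eq_bot_iff_forall _).1 (hfpf ((s : G)⁻¹ * t) (mul_mem (inv_mem s.2) ht)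
    fun e => hne (inv_mul_eq_one.1 e).symm) k (Subgroup.mem_inf.2 ⟨hk,
      Subgroup.mem_centralizer_singleton_iff.2 ?_⟩))
  have h1 := hinv s s.2 hs k hk
  have h2 := hinv t ht ht2 k hk
  calc k * ((s : G)⁻¹ * t) = (s : G)⁻¹ * ((s : G) * k * (s : G)⁻¹) * t := by group
    _ = (s : G)⁻¹ * (t * k * t⁻¹) * t := by rw [h1, h2]
    _ = (s : G)⁻¹ * t * k := by group

end Cfsg.Agent.S0068
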