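import Cfsg.Statements.S0118
import Cfsg.Agent.Lib.Solv.ZJApps

set_option autoImplicit false
open scoped Pointwise
open Cfsg

namespace Cfsg.Agent.S0118

/-- Glauberman's ZJ-Theorem, in the case of groups with no section isomorphic to SL(2,p), p odd: conjugation of subsets of a Sylow p-subgroup P inside P is always induced from the normalizer of Z(J(P)). -/
theorem result {G : Type*} [Group G] [Finite G] {p : ℕ} [Fact p.Prime] (hp : p ≠ 2) (hfree : ¬ ∃ (H K : Subgroup G) (hK : (K.subgroupOf H).Normal), Nonempty ((H ⧸ K.subgroupOf H) ≃* Matrix.SpecialLinearGroup (Fin 2) (ZMod p))) (P : Sylow p G) (A : Set G) (hA : A ⊆ (P : Set G)) (g : G) (hAg : (fun a => g⁻¹ * a * g) '' A ⊆ (P : Set G)) : ∃ n ∈ Subgroup.normalizer (Cfsg.centerThompsonOf p (P : Subgroup G) : Set G), ∀ a ∈ A, n⁻¹ * a * n = g⁻¹ * a * g := by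
  have hno : ¬ Agent.Solv.Quad.InvSL p G := fun h => hfree (by
    obtain ⟨K, L, hL, -, hiso⟩ := (h.of_surjective
      (Subgroup.topEquiv : (⊤ : Subgroup G) ≃* G).toMonoidHom Subgroup.topEquiv.surjective).section_subgroup
    exact ⟨K, L, hL, hiso⟩)
  have hctrl := Agent.Local.FusionRed.ctrl_of_hyp (fun W hW => by
    rw [Set.mem_singleton_iff] at hW
    subst hW
    exact Agent.Solv.ZJ.isCharPFunctor_WE) G (Agent.Solv.ZJ.controls_of_free hp hno) P A g⁻¹ hA (by
    rintro _ ⟨a, ha, rfl⟩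
    simpa using hAg ⟨a, ha, rfl⟩)
  rw [Agent.Local.FusionRed.ind, Set.image_singleton] at hctrl
  obtain ⟨x, hx, he⟩ := hctrl.exists_single
  rw [Agent.Solv.ZJ.inducedFunctor_WE] at hx
  refine ⟨x⁻¹, inv_mem hx, fun a ha => ?_⟩
  have h1 := he a ha
  rw [inv_inv] at h1 ⊢
  exact h1

end Cfsg.Agent.S0118
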