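import Cfsg.Statements.S1458
import Cfsg.Agent.Lib.Solv.ZJApps
import Cfsg.Agent.Lib.Solv.PSolvable

set_option autoImplicit false
open scoped Pointwise
open Cfsg

namespace Cfsg.Agent.S1458

/-- Let G be a solvable group of odd order, p a prime and S a Sylow p-subgroup of G. Then the subgroup generated by the centre of the Thompson subgroup of S and O_{p'}(G) is normal in G. -/
theorem result {G : Type*} [Group G] [Finite G] [Group.IsSolvable G] (hodd : Odd (Nat.card G)) (p : ℕ) [Fact p.Prime] (S : Sylow p G) :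
    (Cfsg.centerThompsonOf p (S : Subgroup G) ⊔ Cfsg.pPrimeCore p G).Normal := by
  classical
  set O := Cfsg.pPrimeCore p G with hOdef
  set π := QuotientGroup.mk' O with hπdef
  have hπ : Function.Surjective π := QuotientGroup.mk'_surjective O
  by_cases hp2 : p = 2
  · subst hp2
    have hS : (S : Subgroup G) = ⊥ := by
      refine Subgroup.eq_bot_of_card_eq _ ?_
      obtain ⟨k, hk⟩ := IsPGroup.iff_card.mp S.isPGroup'
      cases k with
      | zero => simpa using hk
      | succ k =>
        exfalso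
        have h2 : 2 ∣ Nat.card G := ((dvd_pow_self 2 k.succ_ne_zero).trans hk.symm.dvd).trans (Subgroup.card_subgroup_dvd_card _)
        exact Nat.not_even_iff_odd.mpr hodd (even_iff_two_dvd.mpr h2)
    have hZ : Cfsg.centerThompsonOf 2 (S : Subgroup G) = ⊥ := by
      refine le_bot_iff.mp (le_trans ?_ hS.le)
      exact inf_le_left.trans (Subgroup.map_subtype_le _)
    rw [hZ, bot_sup_eq]
    infer_instance
  set Sb := S.mapSurjective hπ with hSb
  have hinj : Function.Injective (π.comp (S : Subgroup G).subtype) := by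
    rw [injective_iff_map_eq_one]
    intro x hx
    refine Subtype.ext ?_
    show (x : G) = 1
    rw [← Subgroup.mem_bot, ← Cfsg.Agent.Solv.inf_eq_bot_of_isPGroup S.isPGroup' (Cfsg.Agent.Solv.card_pPrimeCore_coprime p G)]
    exact ⟨x.2, (QuotientGroup.eq_one_iff (x : G)).mp hx⟩
  have hX : ¬ Cfsg.Agent.Solv.Quad.InvSL p (G ⧸ O) := by
    intro h
    obtain ⟨U⟩ : Nonempty (Sylow 2 (G ⧸ O)) := inferInstance
    refine h.not_comm_sylow hp2 U ?_
    have hU : (U : Subgroup (G ⧸ O)) = ⊥ := by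
      refine Subgroup.eq_bot_of_card_eq _ ?_
      obtain ⟨k, hk⟩ := IsPGroup.iff_card.mp U.isPGroup'
      cases k with
      | zero => simpa using hk
      | succ k =>
        exfalso
        have h2 : 2 ∣ Nat.card G := ((dvd_pow_self 2 k.succ_ne_zero).trans hk.symm.dvd).trans ((Subgroup.card_subgroup_dvd_card _).trans O.card_quotient_dvd_card)
        exact Nat.not_even_iff_odd.mpr hodd (even_iff_two_dvd.mpr h2)
    refine ⟨⟨fun a b => Subtype.ext ?_⟩⟩
    have ha : (a : G ⧸ O) = 1 := Subgroup.mem_bot.mp (hU.le a.2)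
    have hb : (b : G ⧸ O) = 1 := Subgroup.mem_bot.mp (hU.le b.2)
    rw [Subgroup.coe_mul, Subgroup.coe_mul, ha, hb]
  haveI : Group.IsSolvable (G ⧸ O) := Group.isSolvable_of_surjective hπ
  have hc : Subgroup.centralizer (Cfsg.pCore p (G ⧸ O) : Set (G ⧸ O)) ≤ Cfsg.pCore p (G ⧸ O) :=
    Cfsg.Agent.Solv.centralizer_pCore_le_of_isPSolvable Cfsg.Agent.Solv.isPSolvable_of_isSolvable (Cfsg.Agent.Solv.pPrimeCore_quotient_pPrimeCore p)
  haveI hn := Cfsg.Agent.Solv.ZJ.centerThompsonOf_normal hp2 (Cfsg.Agent.Solv.ZJ.stab_of_isPStableOn fun B _ hB => Cfsg.Agent.Solv.Quad.isPStableOn_of_free hp2 hX B hB) hc Sb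
  have hmap : Cfsg.centerThompsonOf p (Sb : Subgroup (G ⧸ O)) = (Cfsg.centerThompsonOf p (S : Subgroup G)).map π := by
    have e1 : (⊤ : Subgroup (S : Subgroup G)).map (π.comp (S : Subgroup G).subtype) = (S : Subgroup G).map π := by
      rw [← Subgroup.map_map, ← MonoidHom.range_eq_map, Subgroup.range_subtype]
    rw [Sylow.coe_mapSurjective, ← e1, Cfsg.Agent.Solv.ZJ.centerThompsonOf_map _ hinj, ← Subgroup.map_map, ← Cfsg.Agent.Solv.ZJ.centerThompsonOf_map _ (S : Subgroup G).subtype_injective, ← MonoidHom.range_eq_map, Subgroup.range_subtype]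
  have h2 : Cfsg.centerThompsonOf p (S : Subgroup G) ⊔ O = (Cfsg.centerThompsonOf p (Sb : Subgroup (G ⧸ O))).comap π := by
    rw [hmap, Subgroup.comap_map_eq, hπdef, QuotientGroup.ker_mk']
  rw [h2]
  exact hn.comap π

end Cfsg.Agent.S1458
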