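import Cfsg.Statements.S0095
import Cfsg.Agent.Lib.Solv.Basic

set_option autoImplicit false
open scoped Pointwise
open scoped commutatorElement
open Cfsg

namespace Cfsg.Agent.S0095

/-- The order of an extraspecial p-group is an odd power p^(2n+1) of p with n ≥ 1. -/
theorem result {P : Type*} [Group P] [Finite P] {p : ℕ} [Fact p.Prime] (h : Cfsg.IsExtraspecial p P) : ∃ n : ℕ, 1 ≤ n ∧ Nat.card P = p ^ (2 * n + 1) := by
  obtain ⟨⟨hPp, -, hcomm⟩, hZc⟩ := h
  set Z := Subgroup.center P with hZ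
  have hp : p.Prime := Fact.out
  have hcz : ∀ a b : P, ⁅a, b⁆ ∈ Subgroup.center P := fun a b => by
    refine hcomm.le ?_
    exact Subgroup.commutator_mem_commutator (Subgroup.mem_top a) (Subgroup.mem_top b)
  have hmul : ∀ x a b : P, ⁅x, a * b⁆ = ⁅x, a⁆ * ⁅x, b⁆ := fun x a b => by
    have h1 := Subgroup.mem_center_iff.mp (hcz x b) a
    calc ⁅x, a * b⁆ = ⁅x, a⁆ * (a * ⁅x, b⁆ * a⁻¹) := by simp only [commutatorElement_def]; group
      _ = _ := by rw [h1, mul_inv_cancel_right]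
  suffices main : ∀ (k : ℕ) (H : Subgroup P), Nat.card H ≤ k → Z ≤ H →
      (∀ h ∈ H, (∀ g ∈ H, g * h = h * g) → h ∈ Z) → ∃ n : ℕ, Nat.card H = p ^ (2 * n + 1) by
    obtain ⟨n, hn⟩ := main _ ⊤ le_rfl le_top (fun h _ hh => Subgroup.mem_center_iff.mpr fun g => hh g trivial)
    rw [Subgroup.card_top] at hn
    refine ⟨n, Nat.one_le_iff_ne_zero.mpr ?_, hn⟩
    rintro rfl
    rw [mul_zero, zero_add, pow_one] at hn
    haveI := isCyclic_of_prime_card hn
    have h1 : commutator P = ⊥ := by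
      rw [commutator_def, eq_bot_iff, Subgroup.commutator_le]
      intro a _ b _
      rw [Subgroup.mem_bot, commutatorElement_eq_one_iff_mul_comm]
      exact (IsCyclic.commGroup (α := P)).mul_comm a b
    have h2 : Z = ⊥ := hcomm ▸ h1
    rw [h2, Subgroup.card_bot] at hZc
    exact hp.one_lt.ne hZc
  intro k
  induction k with
  | zero => intro H hH; exact absurd hH (not_le.mpr Nat.card_pos)
  | succ k ih =>
    intro H hH hZH hc
    by_cases hab : ∀ x ∈ H, ∀ y ∈ H, x * y = y * x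
    · refine ⟨0, ?_⟩
      rw [mul_zero, zero_add, pow_one, ← hZc,
        show H = Z from le_antisymm (fun x hx => hc x hx fun g hg => hab g hg x hx) hZH]
    simp only [not_forall] at hab
    obtain ⟨x, hx, y, hy, hne⟩ := hab
    let f : H →* Z × Z := MonoidHom.mk' (fun h => (⟨⁅x, (h : P)⁆, hcz _ _⟩, ⟨⁅y, (h : P)⁆, hcz _ _⟩))
      fun a b => Prod.ext (Subtype.ext (hmul x a b)) (Subtype.ext (hmul y a b))
    have hc0 : ⁅x, y⁆ ≠ 1 := fun e => hne (commutatorElement_eq_one_iff_mul_comm.mp e)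
    have hc1 : ⁅y, x⁆ ≠ 1 := fun e => hne (commutatorElement_eq_one_iff_mul_comm.mp e).symm
    haveI : Fact (Nat.card Z).Prime := ⟨hZc.symm ▸ hp⟩
    have hgen : ∀ c : Z, (c : P) ≠ 1 → ∀ d : Z, d ∈ Subgroup.zpowers c := fun c hc d =>
      mem_zpowers_of_prime_card (p := Nat.card Z) rfl (fun e => hc (congrArg Subtype.val e))
    have hsurj : Function.Surjective f := by
      rintro ⟨c, d⟩
      obtain ⟨i, hi⟩ := Subgroup.mem_zpowers_iff.mp (hgen ⟨⁅x, y⁆, hcz x y⟩ hc0 c)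
      obtain ⟨j, hj⟩ := Subgroup.mem_zpowers_iff.mp (hgen ⟨⁅y, x⁆, hcz y x⟩ hc1 d)
      refine ⟨⟨y, hy⟩ ^ i * ⟨x, hx⟩ ^ j, ?_⟩
      rw [map_mul, map_zpow, map_zpow]
      have ex : f ⟨x, hx⟩ = (1, ⟨⁅y, x⁆, hcz y x⟩) :=
        Prod.ext (Subtype.ext (commutatorElement_self x)) rfl
      have ey : f ⟨y, hy⟩ = (⟨⁅x, y⁆, hcz x y⟩, 1) :=
        Prod.ext rfl (Subtype.ext (commutatorElement_self y))
      rw [ex, ey]
      ext : 1 <;> simp [hi, hj]
    set K := f.ker.map H.subtype with hK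
    have hKH : K ≤ H := Subgroup.map_subtype_le _
    have hmem : ∀ a : P, a ∈ K ↔ a ∈ H ∧ ⁅x, a⁆ = 1 ∧ ⁅y, a⁆ = 1 := by
      intro a
      constructor
      · rintro ⟨b, hb, rfl⟩
        exact ⟨b.2, congrArg (fun z : Z × Z => (z.1 : P)) hb, congrArg (fun z : Z × Z => (z.2 : P)) hb⟩
      · rintro ⟨ha, h1, h2⟩
        exact ⟨⟨a, ha⟩, Prod.ext (Subtype.ext h1) (Subtype.ext h2), rfl⟩
    have hcard : Nat.card H = p ^ 2 * Nat.card K := by
      rw [hK, Subgroup.card_map_of_injective H.subtype_injective, sq]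
      have h1 := Subgroup.card_mul_index f.ker
      rw [Subgroup.index_ker, MonoidHom.range_eq_top.mpr hsurj, Subgroup.card_top, Nat.card_prod, hZc] at h1
      rw [← h1, mul_comm]
    have hlt : Nat.card K < Nat.card H := by
      rw [hcard]; exact lt_mul_of_one_lt_left Nat.card_pos (Nat.one_lt_pow (by norm_num) hp.one_lt)
    obtain ⟨n, hn⟩ := ih K (by omega) (fun z hz => (hmem z).mpr ⟨hZH hz,
        commutatorElement_eq_one_iff_mul_comm.mpr (Subgroup.mem_center_iff.mp hz x),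
        commutatorElement_eq_one_iff_mul_comm.mpr (Subgroup.mem_center_iff.mp hz y)⟩) (by
      intro a ha hcom
      obtain ⟨haH, hax, hay⟩ := (hmem a).mp ha
      refine hc a haH fun g hg => ?_
  
      obtain ⟨i, hi⟩ := Subgroup.mem_zpowers_iff.mp (hgen ⟨⁅x, y⁆, hcz x y⟩ hc0 (f ⟨g, hg⟩).1)
      obtain ⟨j, hj⟩ := Subgroup.mem_zpowers_iff.mp (hgen ⟨⁅y, x⁆, hcz y x⟩ hc1 (f ⟨g, hg⟩).2)
      have ex : f ⟨x, hx⟩ = (1, ⟨⁅y, x⁆, hcz y x⟩) :=
        Prod.ext (Subtype.ext (commutatorElement_self x)) rfl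
      have ey : f ⟨y, hy⟩ = (⟨⁅x, y⁆, hcz x y⟩, 1) :=
        Prod.ext rfl (Subtype.ext (commutatorElement_self y))
      have hk : (⟨g, hg⟩ : H) * (⟨y, hy⟩ ^ i * ⟨x, hx⟩ ^ j)⁻¹ ∈ f.ker := by
        rw [MonoidHom.mem_ker, map_mul, map_inv, map_mul, map_zpow, map_zpow, ex, ey, mul_inv_eq_one]
        ext : 1 <;> simp [hi, hj]
      have h3 : Commute (g * (y ^ i * x ^ j)⁻¹) a := by
        have := hcom _ ⟨_, hk, rfl⟩
        simpa [Commute, SemiconjBy] using this
      have h4 : Commute (y ^ i * x ^ j) a :=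
        Commute.mul_left (Commute.zpow_left (commutatorElement_eq_one_iff_mul_comm.mp hay) i)
          (Commute.zpow_left (commutatorElement_eq_one_iff_mul_comm.mp hax) j)
      have := h3.mul_left h4
      rwa [inv_mul_cancel_right] at this)
    exact ⟨n + 1, by rw [hcard, hn, ← pow_add]; congr 1; ring⟩

end Cfsg.Agent.S0095
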