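import Cfsg.Statements.S5434
import Cfsg.Agent.Lib.Solv.ExtraspecialModels
import Cfsg.Agent.Lib.Solv.LargeBasics
import Cfsg.Agent.Lib.Solv.Coprime
-- import your own Cfsg.Agent.* helpers here

set_option autoImplicit false
open Cfsg

namespace Cfsg.Agent.S5434

open Subgroup Cfsg.Agent.Solv Cfsg.Agent.Solv.ESClass
open scoped commutatorElement

theorem factor_extraspecial {G : Type*} [Group G] [Finite G] (Q : Subgroup G) (D : ES 2 Q) (R C : Subgroup G)
    (hR : R ≤ Q) (hC : C ≤ Q) (hRC : R ⊔ C = Q) (hcomm : ∀ x ∈ R, ∀ y ∈ C, x * y = y * x)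
    {x : G} (hx : x ∈ R) (hxz : x ∉ (zpowers D.z).map Q.subtype) : IsExtraspecial 2 R := by
  haveI : Fact (Nat.Prime 2) := ⟨Nat.prime_two⟩
  have hcen : ∀ u ∈ R, (∀ v ∈ R, u * v = v * u) → u ∈ (zpowers D.z).map Q.subtype := by
    intro u hu h
    refine ⟨⟨u, hR hu⟩, D.nd _ fun y => ?_, rfl⟩
    have hy : (y : G) ∈ R ⊔ C := by rw [hRC]; exact y.2
    refine Subtype.ext ?_
    have hle : R ⊔ C ≤ centralizer ({u} : Set G) := sup_le
      (fun v hv => mem_centralizer_singleton_iff.mpr (h v hv).symm)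
      (fun v hv => mem_centralizer_singleton_iff.mpr (hcomm u hu v hv).symm)
    exact (mem_centralizer_singleton_iff.mp (hle hy)).symm
  obtain ⟨y, hy, hne⟩ : ∃ y ∈ R, x * y ≠ y * x := by
    by_contra! h
    exact hxz (hcen x hx h)
  have hzR : ((D.z : Q) : G) ∈ R := by
    obtain ⟨i, hi, he⟩ := D.exists_lt _ (D.comm ⟨x, hR hx⟩ ⟨y, hR hy⟩)
    interval_cases i
    · rw [pow_zero] at he
      exact absurd (congrArg Subtype.val (commutatorElement_eq_one_iff_mul_comm.mp he.symm)) hne
    · rw [pow_one] at he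
      rw [he]
      show ((⁅(⟨x, hR hx⟩ : Q), (⟨y, hR hy⟩ : Q)⁆ : Q) : G) ∈ R
      simp only [commutatorElement_def, Subgroup.coe_mul, Subgroup.coe_inv]
      exact R.mul_mem (R.mul_mem (R.mul_mem hx hy) (R.inv_mem hx)) (R.inv_mem hy)
  have back : ∀ (u : R) (w : Q), (u : G) = w → w ∈ zpowers D.z → u ∈ zpowers (⟨_, hzR⟩ : R) := by
    intro u w e hw
    obtain ⟨i, rfl⟩ := mem_zpowers_iff.mp hw
    exact ⟨i, Subtype.ext (by simp [e])⟩
  let DR : ES 2 R :=
    { z := ⟨_, hzR⟩
      hz := by rw [Subgroup.orderOf_mk, Subgroup.orderOf_coe, D.hz]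
      cent := fun g => Subtype.ext (congrArg Subtype.val (D.cent ⟨g, hR g.2⟩) :)
      comm := fun u v => back _ _ (by simp [commutatorElement_def]) (D.comm ⟨u, hR u.2⟩ ⟨v, hR v.2⟩)
      pw := fun u => back _ _ (by simp) (D.pw ⟨u, hR u.2⟩)
      nd := fun u h => by
        obtain ⟨w, hw, e⟩ := hcen u u.2 fun v hv => congrArg Subtype.val (h ⟨v, hv⟩)
        exact back u w e.symm hw }
  exact DR.isExtraspecial (a := ⟨x, hx⟩) (b := ⟨y, hy⟩) fun h => hne (congrArg Subtype.val h)


/-- Let Q be a large extraspecial 2-subgroup of the finite group G (extraspecial; centralizer equal to its centre; normal in the centralizer of its centre; normalizing no non-trivial subgroup of odd order), and A a non-trivial subgroup of odd order of the normalizer of Q. Then Q is the central product of the centralizer of A in Q and the commutator subgroup [Q, A] (they generate Q and commute elementwise), [Q, A] is extraspecial, and the centralizer of A in Q is either the centre of Q or extraspecial. -/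
theorem result {G : Type*} [Group G] [Finite G] (Q : Subgroup G) (hQ : Cfsg.IsLargeExtraspecial Q) (A : Subgroup G) (hA : A ≤ Subgroup.normalizer (Q : Set G)) (hAodd : Odd (Nat.card ↥A)) (hA1 : A ≠ ⊥) : (Q ⊓ Subgroup.centralizer (A : Set G)) ⊔ ⁅Q, A⁆ = Q ∧ (∀ x ∈ Q ⊓ Subgroup.centralizer (A : Set G), ∀ y ∈ ⁅Q, A⁆, x * y = y * x) ∧ Cfsg.IsExtraspecial 2 ↥⁅Q, A⁆ ∧ (Q ⊓ Subgroup.centralizer (A : Set G) = ((Subgroup.center ↥Q).map Q.subtype) ∨ Cfsg.IsExtraspecial 2 ↥(Q ⊓ Subgroup.centralizer (A : Set G))) := by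
  haveI : Fact (Nat.Prime 2) := ⟨Nat.prime_two⟩
  obtain ⟨hE, hC, hN, -⟩ := hQ
  obtain ⟨D⟩ := ES.exists_of hE
  have hzZ : (center Q).map Q.subtype = (zpowers D.z).map Q.subtype := by rw [D.center_eq]
  have hcop : (Nat.card A).Coprime (Nat.card Q) := by
    obtain ⟨i, hi⟩ := IsPGroup.iff_card.mp hE.1.1
    rw [hi]; exact hAodd.coprime_two_right.pow_right i
  haveI := hE.1.1.isNilpotent
  have hsolv : Group.IsSolvable A ∨ Group.IsSolvable Q := Or.inr inferInstance
  set C := Q ⊓ centralizer (A : Set G)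
  set R := ⁅Q, A⁆
  have hsup : C ⊔ R = Q := by rw [sup_comm]; exact commutator_sup_centralizer A Q hA hcop hsolv
  have hAz : ∀ u ∈ (zpowers D.z).map Q.subtype, ∀ a ∈ A, u * a = a * u := by
    rintro _ ⟨w, hw, rfl⟩ a ha
    let φ : MulAut Q :=
      { toFun := fun q => ⟨a * q * a⁻¹, (mem_normalizer_iff.mp (hA ha) q).mp q.2⟩
        invFun := fun q => ⟨a⁻¹ * q * a, (mem_normalizer_iff''.mp (hA ha) q).mp q.2⟩
        left_inv := fun q => Subtype.ext (by simp [mul_assoc])
        right_inv := fun q => Subtype.ext (by simp [mul_assoc])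
        map_mul' := fun q r => Subtype.ext (by simp [mul_assoc]) }
    obtain ⟨i, hi, he⟩ := D.exists_lt w hw
    interval_cases i
    · rw [pow_zero] at he; simp [← he]
    · rw [pow_one] at he
      subst he
      have h1 : φ D.z ∈ zpowers D.z := D.nd _ fun q => by
        obtain ⟨r, rfl⟩ := φ.surjective q
        rw [← map_mul, ← map_mul, D.cent]
      obtain ⟨j, hj, hje⟩ := D.exists_lt _ h1
      interval_cases j
      · exfalso
        have h2 : φ D.z = φ 1 := by rw [map_one, ← hje, pow_zero]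
        exact z_ne D (φ.injective h2)
      · rw [pow_one] at hje
        exact (mul_inv_eq_iff_eq_mul.mp (congrArg Subtype.val hje.symm : a * (D.z : G) * a⁻¹ = (D.z : G))).symm
  have hcomm : ∀ x ∈ C, ∀ y ∈ R, x * y = y * x := by
    have h : ⁅⁅Q, A⁆, C⁆ = ⊥ := by
      refine commutator_commutator_eq_bot_of_rotate ?_ ?_
      · have : ⁅A, C⁆ = ⊥ := commutator_eq_bot_iff_le_centralizer.mpr (le_centralizer_iff.mp inf_le_right)
        rw [this, commutator_bot_left]
      · rw [commutator_eq_bot_iff_le_centralizer]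
        refine (commutator_mono (inf_le_left : C ≤ Q) le_rfl).trans ?_
        rw [commutator_le]
        intro u hu v hv
        rw [mem_centralizer_iff]
        intro a ha
        exact (hAz _ ⟨_, D.comm ⟨u, hu⟩ ⟨v, hv⟩, by simp [commutatorElement_def]⟩ a ha).symm
    intro x hx y hy
    exact (mem_centralizer_iff.mp (commutator_eq_bot_iff_le_centralizer.mp h hy) x hx)
  have hRQ : R ≤ Q := commutator_normalizer_le A Q hA
  refine ⟨hsup, hcomm, ?_, ?_⟩
  · obtain ⟨x, hx, hxz⟩ : ∃ x ∈ R, x ∉ (zpowers D.z).map Q.subtype := by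
      by_contra! hle
      have h1 : ⁅R, A⁆ = ⊥ := commutator_eq_bot_iff_le_centralizer.mpr fun u hu =>
        mem_centralizer_iff.mpr fun a ha => (hAz u (hle u hu) a ha).symm
      rw [commutator_commutator_eq A Q hA hcop hsolv, commutator_comm, commutator_eq_bot_iff_le_centralizer, hC] at h1
      exact hA1 (card_eq_one.mp (Nat.eq_one_of_dvd_coprimes hcop dvd_rfl
        (card_dvd_of_le (h1.trans (map_subtype_le _)))))
    exact factor_extraspecial Q D R C hRQ inf_le_left (by rw [sup_comm]; exact hsup)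
      (fun u hu v hv => (hcomm v hv u hu).symm) hx hxz
  · by_cases h : C ≤ (zpowers D.z).map Q.subtype
    · left
      rw [hzZ]
      refine le_antisymm h (le_inf (map_subtype_le _) fun u hu => ?_)
      exact mem_centralizer_iff.mpr fun a ha => (hAz u hu a ha).symm
    · right
      obtain ⟨x, hx, hxz⟩ := SetLike.not_le_iff_exists.mp h
      exact factor_extraspecial Q D C R inf_le_left hRQ hsup hcomm hx hxz

end Cfsg.Agent.S5434
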