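import Cfsg.Statements.S0638
import Cfsg.Agent.Lib.Solv.CyclicIndexP

set_option autoImplicit false
open scoped Pointwise
open Cfsg

namespace Cfsg.Agent.S0638

/-- For odd p, in a non-cyclic metacyclic p-group the elements of order dividing p generate an elementary abelian subgroup of order p². -/
theorem result {R : Type*} [Group R] [Finite R] {p : ℕ} [Fact p.Prime] (hp : p ≠ 2) (hR : IsPGroup p R) (hm : Cfsg.IsMetacyclic R) (hnc : ¬ IsCyclic R) : Cfsg.IsElementaryAbelian p (Cfsg.omegaOne p (⊤ : Subgroup R)) ∧ Nat.card ↥(Cfsg.omegaOne p (⊤ : Subgroup R)) = p ^ 2 := by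
  have hp' : p.Prime := Fact.out
  obtain ⟨K, hKn, hKc, hQc⟩ := hm
  haveI := hKn
  obtain ⟨A, -, -, hA, hAc⟩ := Solv.CycP.exists_normal_rank_two hp hR ⊤ inferInstance
    (fun h => hnc (Subgroup.topEquiv.isCyclic.mp h))
  have hnc' : ∀ H : Subgroup R, A ≤ H → ¬ IsCyclic H := by
    intro H hAH hc
    haveI := hc
    haveI : IsCyclic A := isCyclic_of_injective _ (Subgroup.inclusion_injective hAH)
    obtain ⟨a, ha⟩ := IsCyclic.exists_ofOrder_eq_natCard (α := A)
    have h1 : (a : R) ^ p = 1 := hA.2 a a.2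
    have h2 : orderOf a ∣ p := orderOf_dvd_of_pow_eq_one (Subtype.ext h1)
    rw [ha, hAc] at h2
    exact absurd (Nat.le_of_dvd hp'.pos h2) (not_le.mpr (by
      calc p = p ^ 1 := (pow_one p).symm
        _ < p ^ 2 := Nat.pow_lt_pow_right hp'.one_lt one_lt_two))
  have hKt : K ≠ ⊤ := fun e => hnc' K (e ▸ le_top) hKc
  obtain ⟨u, hu⟩ := IsCyclic.exists_ofOrder_eq_natCard (α := R ⧸ K)
  obtain ⟨k, hk⟩ := IsPGroup.iff_card.mp (hR.to_quotient K)
  obtain ⟨k', rfl⟩ := Nat.exists_eq_succ_of_ne_zero (show k ≠ 0 from fun e => hKt (by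
    rw [← Subgroup.index_eq_one, Subgroup.index_eq_card, hk, e, pow_zero]))
  rw [hk] at hu
  set Q := Subgroup.zpowers (u ^ p ^ k') with hQ
  set L := Q.comap (QuotientGroup.mk' K) with hL
  have hKL : K ≤ L := fun x hx => by
    show QuotientGroup.mk' K x ∈ Q
    rw [show QuotientGroup.mk' K x = 1 from (QuotientGroup.eq_one_iff x).mpr hx]
    exact Q.one_mem
  have hgen : ∀ z : R ⧸ K, z ∈ Subgroup.zpowers u := by
    have h1 : Subgroup.zpowers u = ⊤ := Subgroup.eq_top_of_card_eq _ (by rw [Nat.card_zpowers, hu, hk])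
    exact fun z => h1 ▸ Subgroup.mem_top z
  have hOL : ∀ x : R, x ^ p = 1 → x ∈ L := fun x hx =>
    Solv.CycP.root_mem hu (hgen _) (by rw [← map_pow, hx, map_one])
  have hQcard : Nat.card Q = p := by
    rw [hQ, Nat.card_zpowers, orderOf_pow' _ (pow_ne_zero _ hp'.ne_zero), hu,
      Nat.gcd_eq_right (Nat.pow_dvd_pow p (Nat.le_succ k')), Nat.succ_eq_add_one, pow_succ,
      Nat.mul_div_cancel_left _ (pow_pos hp'.pos k')]
  have hLi : (K.subgroupOf L).index = p := by
    have h1 := Subgroup.card_mul_index (K.subgroupOf L)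
    rw [Nat.card_congr (Subgroup.subgroupOfEquivOfLe hKL).toEquiv] at h1
    rw [hL, Solv.card_comap_mk', hQcard] at h1
    exact Nat.eq_of_mul_eq_mul_left Nat.card_pos h1
  have hAL : A ≤ L := fun a ha => hOL a (hA.2 a ha)
  haveI : IsCyclic (K.subgroupOf L) :=
    (Subgroup.subgroupOfEquivOfLe hKL).isCyclic.mpr hKc
  obtain ⟨h1, h2⟩ := Solv.CycP.omega hp (hR.to_subgroup L) (hnc' L hAL) (K.subgroupOf L) inferInstance hLi
  have he : Cfsg.omegaOne p (⊤ : Subgroup R) = (Subgroup.closure {x : L | x ^ p = 1}).map L.subtype := by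
    rw [MonoidHom.map_closure, Cfsg.omegaOne]
    congr 1
    ext x
    constructor
    · rintro ⟨-, hx⟩
      exact ⟨⟨x, hOL x hx⟩, Subtype.ext hx, rfl⟩
    · rintro ⟨y, hy, rfl⟩
      exact ⟨Subgroup.mem_top _, by rw [← map_pow, hy, map_one]⟩
  rw [he]
  exact ⟨Solv.elemAbelian_map _ h1,
    (Subgroup.card_map_of_injective L.subtype_injective).trans h2⟩

end Cfsg.Agent.S0638
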