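import Cfsg.Statements.S0100
import Cfsg.Agent.Lib.Solv.AlperinCentralizer

set_option autoImplicit false
open scoped Pointwise
open Cfsg

namespace Cfsg.Agent.S0100

/-- For odd p, a p-group without normal elementary abelian subgroups of order p^3 has p-rank at most 2. -/
theorem result {P : Type*} [Group P] [Finite P] {p : ℕ} [Fact p.Prime] (hp : p ≠ 2) (hP : IsPGroup p P) (h : ∀ A : Subgroup P, A.Normal → IsMulCommutative A → (∀ a ∈ A, a ^ p = 1) → Nat.card A ≠ p ^ 3) (E : Subgroup P) (hE : IsMulCommutative E) (hEe : ∀ e ∈ E, e ^ p = 1) : Nat.card E ≤ p ^ 2 := by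
  have hp' : p.Prime := Fact.out
  haveI := hE
  obtain ⟨A, hA⟩ := (Set.toFinite {A : Subgroup P | A.Normal ∧ IsMulCommutative A ∧ ∀ a ∈ A, a ^ p = 1}).exists_maximal
    ⟨⊥, inferInstance, inferInstance, fun a ha => by rw [Subgroup.mem_bot.mp ha, one_pow]⟩
  obtain ⟨hAn, hAc, hAe⟩ := hA.1
  haveI := hAn
  haveI := hAc
  obtain ⟨a, ha⟩ := IsPGroup.iff_card.mp (hP.to_subgroup A)
  have ha2 : a ≤ 2 := by
    by_contra hlt
    obtain ⟨M, hMn, hMA, hMc⟩ := Solv.AlperinC.exists_normal_card hP (a - 3) 3 A hAn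
      (ha.trans (by congr 1; omega))
    exact h M hMn ⟨⟨fun u v => Subtype.ext (show (u : P) * v = v * u from
      congrArg Subtype.val (mul_comm' (⟨(u : P), hMA u.2⟩ : A) ⟨(v : P), hMA v.2⟩))⟩⟩
      (fun u hu => hAe u (hMA hu)) hMc
  set C := Subgroup.centralizer (A : Set P) with hC
  have hle : E ⊓ C ≤ A := fun x hx => Solv.AlperinC.centralizer_omega_le hP 1 (by rwa [pow_one]) A hAc
    (fun u hu => by rw [pow_one]; exact hAe u hu)
    (fun B hB hBc hBe hAB => le_antisymm (hA.2 ⟨hB, hBc, fun u hu => by simpa using hBe u hu⟩ hAB) hAB)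
    x hx.2 (by rw [pow_one]; exact hEe x hx.1)
  have hidx : C.index ≤ p ^ (a * (a - 1) / 2) := Solv.AlperinC.index_centralizer_le hP a A hAn ha
  have hmul : Nat.card E = Nat.card ↥(E ⊓ C) * C.relIndex E := by
    rw [← Subgroup.inf_relIndex_right, inf_comm C E, ← Subgroup.relIndex_bot_left,
      ← Subgroup.relIndex_bot_left, Subgroup.relIndex_mul_relIndex ⊥ (E ⊓ C) E bot_le inf_le_left]
  have hrel : C.relIndex E ≤ C.index := by
    rw [← Subgroup.relIndex_top_right]
    exact Subgroup.relIndex_le_of_le_right le_top (by rw [Subgroup.relIndex_top_right]; exact Subgroup.index_ne_zero_of_finite)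
  rcases Nat.lt_or_ge a 2 with ha1 | ha1
  · rw [show a * (a - 1) / 2 = 0 by interval_cases a <;> rfl, pow_zero] at hidx
    calc Nat.card E = Nat.card ↥(E ⊓ C) * C.relIndex E := hmul
      _ ≤ Nat.card A * 1 := Nat.mul_le_mul (Nat.le_of_dvd Nat.card_pos (Subgroup.card_dvd_of_le hle))
        (hrel.trans hidx)
      _ ≤ p ^ 2 := by rw [mul_one, ha]; exact Nat.pow_le_pow_right hp'.pos (by omega)
  obtain rfl : a = 2 := le_antisymm ha2 ha1
  rcases hle.lt_or_eq with hlt | heq
  · obtain ⟨i, -, hi⟩ := (Nat.dvd_prime_pow hp').mp (ha ▸ Subgroup.card_dvd_of_le hlt.le)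
    have hi1 : i ≤ 1 := by
      by_contra h2
      refine hlt.ne (Subgroup.eq_of_le_of_card_ge hlt.le ?_)
      rw [ha, hi]
      exact Nat.pow_le_pow_right hp'.pos (by omega)
    calc Nat.card E = Nat.card ↥(E ⊓ C) * C.relIndex E := hmul
      _ ≤ p ^ 1 * p ^ 1 := Nat.mul_le_mul (hi ▸ Nat.pow_le_pow_right hp'.pos hi1) (hrel.trans hidx)
      _ = p ^ 2 := by ring
  · have hEC : E ≤ C := fun e he u hu => by
      have huE : u ∈ E := by rw [← heq] at hu; exact hu.1
      exact congrArg Subtype.val (mul_comm' (⟨u, huE⟩ : E) ⟨e, he⟩)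
    have : Nat.card E ≤ Nat.card A := Nat.le_of_dvd Nat.card_pos (Subgroup.card_dvd_of_le (fun e he => hle ⟨he, hEC he⟩))
    rwa [ha] at this

end Cfsg.Agent.S0100
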