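import Cfsg.Statements.S3889
import Mathlib

set_option autoImplicit false
open Cfsg

namespace Cfsg.Agent.S3889

/-- A finite abelian group that is the union of a family of proper subgroups any two of which intersect trivially is elementary abelian: its exponent is a prime. -/
theorem result {G : Type*} [CommGroup G] [Finite G] (𝓑 : Set (Subgroup G)) (hprop : ∀ B ∈ 𝓑, B ≠ ⊤)
    (hcov : ∀ g : G, ∃ B ∈ 𝓑, g ∈ B) (hdisj : ∀ B ∈ 𝓑, ∀ C ∈ 𝓑, B ≠ C → B ⊓ C = ⊥) :
    (Monoid.exponent G).Prime := by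
  classical
  haveI : Nontrivial G := by
    by_contra hn
    rw [not_nontrivial_iff_subsingleton] at hn
    obtain ⟨B, hB, -⟩ := hcov 1
    exact hprop B hB (Subsingleton.elim _ _)
  obtain ⟨p, hp, hpd⟩ := Nat.exists_prime_and_dvd (n := Nat.card G) Finite.one_lt_card.ne'
  haveI : Fact p.Prime := ⟨hp⟩
  obtain ⟨x, hx⟩ := exists_prime_orderOf_dvd_card' (G := G) p hpd
  obtain ⟨B, hB, hxB⟩ := hcov x
  have hx1 : x ≠ 1 := fun e => hp.ne_one (by rw [← hx, e, orderOf_one])
  have key : ∀ (B C : Subgroup G) (u v : G), B ∈ 𝓑 → C ∈ 𝓑 → B ≠ C → u ∈ B → v ∈ C → u ≠ 1 → v ≠ 1 →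
      v ^ orderOf u = 1 := by
    intro B C u v hB hC hne hu hv hu1 hv1
    obtain ⟨D, hD, huvD⟩ := hcov (u * v)
    have hDC : D ≠ C := fun e => by
      have : u ∈ B ⊓ C := ⟨hu, by
        have h := C.mul_mem (e ▸ huvD) (C.inv_mem hv)
        rwa [mul_inv_cancel_right] at h⟩
      rw [hdisj B hB C hC hne, Subgroup.mem_bot] at this
      exact hu1 this
    have h1 : v ^ orderOf u ∈ D ⊓ C := by
      refine ⟨?_, pow_mem hv _⟩
      have := pow_mem huvD (orderOf u)
      rwa [mul_pow, pow_orderOf_eq_one, one_mul] at this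
    rwa [hdisj D hD C hC hDC, Subgroup.mem_bot] at h1
  have hout : ∀ C ∈ 𝓑, C ≠ B → ∀ v ∈ C, v ^ p = 1 := fun C hC hne v hv => by
    by_cases hv1 : v = 1
    · rw [hv1, one_pow]
    · rw [← hx]; exact key B C x v hB hC hne.symm hxB hv hx1 hv1
  obtain ⟨w, hw⟩ : ∃ w, w ∉ B := by
    by_contra hall
    push Not at hall
    exact hprop B hB (eq_top_iff.2 fun g _ => hall g)
  obtain ⟨C, hC, hwC⟩ := hcov w
  have hw1 : w ≠ 1 := fun e => hw (e ▸ B.one_mem)
  have hwp : orderOf w = p := orderOf_eq_prime (hout C hC (fun e => hw (e ▸ hwC)) w hwC) hw1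
  have hall : ∀ g : G, g ^ p = 1 := fun g => by
    obtain ⟨D, hD, hgD⟩ := hcov g
    by_cases hDB : D = B
    · by_cases hg1 : g = 1
      · rw [hg1, one_pow]
      rw [← hwp]
      exact key C B w g hC hB (fun e => hw (e ▸ hwC)) hwC (hDB ▸ hgD) hw1 hg1
    · exact hout D hD hDB g hgD
  have he : Monoid.exponent G = p := by
    refine Nat.dvd_antisymm (Monoid.exponent_dvd_of_forall_pow_eq_one hall) ?_
    rw [← hx]; exact Monoid.order_dvd_exponent x
  exact he ▸ hp

end Cfsg.Agent.S3889
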