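import Cfsg.Statements.S2420
import Mathlib

set_option autoImplicit false
open scoped MatrixGroups
open Cfsg
open Matrix
set_option maxHeartbeats 1000000

namespace Cfsg.Agent.S2420

theorem gl_card (q : ℕ) (hq : 1 < q) : ∀ m : ℕ, ∏ i : Fin m, (q ^ m - q ^ (i : ℕ)) =
    (q - 1) ^ m * q ^ m.choose 2 * ∏ j ∈ Finset.range m, ∑ l ∈ Finset.range (j + 1), q ^ l
  | 0 => by simp
  | m + 1 => by
    rw [Fin.prod_univ_succ]
    simp only [Fin.val_zero, pow_zero, Fin.val_succ]
    have h1 : ∀ i : ℕ, q ^ (m + 1) - q ^ (i + 1) = q * (q ^ m - q ^ i) := fun i => by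
      rw [Nat.mul_sub, ← pow_succ', ← pow_succ']
    simp only [h1, Finset.prod_mul_distrib, Finset.prod_const, Finset.card_univ, Fintype.card_fin]
    rw [gl_card q hq m, Finset.prod_range_succ, Nat.choose_succ_succ', Nat.choose_one_right]
    have h2 : q ^ (m + 1) - 1 = (∑ l ∈ Finset.range (m + 1), q ^ l) * (q - 1) := by
      have h := geom_sum_mul_add (q - 1) (m + 1)
      rw [Nat.sub_add_cancel hq.le] at h
      rw [← h, Nat.add_sub_cancel]
    rw [h2]
    ring

theorem lab {n : ℕ} (μ : Fin n → ℕ) (hμ : ∑ i, μ i = n) (x : (a : Fin n) × Fin (μ a)) :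
    Cfsg.compLabel μ ((finSigmaFinEquiv.trans (finCongr hμ)) x) = (x.1 : ℕ) := by
  obtain ⟨a, k⟩ := x
  have hsum : ∀ j : Fin n, (∑ l : Fin (j : ℕ), μ (Fin.castLE j.2.le l)) = ∑ l ∈ Finset.univ.filter (fun l : Fin n => l < j), μ l := fun j => by
    refine Finset.sum_bij' (fun l _ => Fin.castLE j.2.le l) (fun l hl => ⟨l, by simpa using hl⟩) ?_ ?_ ?_ ?_ ?_
    · intro l _
      simp only [Finset.mem_filter, Finset.mem_univ, true_and]
      exact l.2
    · intros; exact Finset.mem_univ _
    · intros; rfl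
    · intros; rfl
    · intros; rfl
  have hval : (((finSigmaFinEquiv.trans (finCongr hμ)) ⟨a, k⟩ : Fin n) : ℕ) =
      (∑ l ∈ Finset.univ.filter (fun l : Fin n => l < a), μ l) + k := by
    rw [← hsum]
    simp [finSigmaFinEquiv_apply]
  unfold Cfsg.compLabel
  rw [hval]
  have hset : (Finset.univ.filter fun j : Fin n => (∑ l ∈ Finset.univ.filter (fun l : Fin n => l ≤ j), μ l) ≤
      (∑ l ∈ Finset.univ.filter (fun l : Fin n => l < a), μ l) + k) = Finset.Iio a := by
    ext j
    simp only [Finset.mem_filter, Finset.mem_univ, true_and, Finset.mem_Iio]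
    refine ⟨fun h => ?_, fun h => ?_⟩
    · by_contra hj
      have hsub : insert a (Finset.univ.filter (fun l : Fin n => l < a)) ⊆ Finset.univ.filter (fun l : Fin n => l ≤ j) := by
        intro l hl
        simp only [Finset.mem_insert, Finset.mem_filter, Finset.mem_univ, true_and] at hl ⊢
        rcases hl with rfl | hl
        · exact not_lt.1 hj
        · exact hl.le.trans (not_lt.1 hj)
      have h2 := Finset.sum_le_sum_of_subset (f := μ) hsub
      rw [Finset.sum_insert (by simp)] at h2
      have := k.2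
      omega
    · refine le_trans (Finset.sum_le_sum_of_subset (f := μ) fun l hl => ?_) (Nat.le_add_right _ _)
      simp only [Finset.mem_filter, Finset.mem_univ, true_and] at hl ⊢
      exact lt_of_le_of_lt hl h
  rw [hset, Fin.card_Iio]


/-- The number of partial flags of a given type: for a composition `μ` of `n` (with `n` parts, zeros allowed) and a field with `q` elements, the index of the standard parabolic subgroup `P_μ` in `GL_n(q)` times `∏_i {μ_i}` equals `{n}`, where `{r}` denotes the product over `k = 1, …, r` of the q-integers `1 + q + ⋯ + q^(k−1)`. -/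
theorem result {F : Type*} [Field F] [Fintype F] {q : ℕ} (hq : Fintype.card F = q) {n : ℕ} (μ : Fin n → ℕ) (hμ : ∑ i, μ i = n) :
    Nat.card (GL (Fin n) F ⧸ Cfsg.parabolicGL n F μ) * ∏ i : Fin n, ∏ j ∈ Finset.range (μ i), ∑ l ∈ Finset.range (j + 1), q ^ l =
      ∏ j ∈ Finset.range n, ∑ l ∈ Finset.range (j + 1), q ^ l := by
  classical
  subst hq
  set q := Fintype.card F
  have hq1 : 1 < q := Fintype.one_lt_card
  let ι := (a : Fin n) × Fin (μ a)
  let e : ι ≃ Fin n := finSigmaFinEquiv.trans (finCongr hμ)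
  have he : ∀ x : ι, Cfsg.compLabel μ (e x) = (x.1 : ℕ) := lab μ hμ
  let Up := {xy : ι × ι // xy.1.1 < xy.2.1}
  let B := (a : Fin n) → GL (Fin (μ a)) F
  have hcardP : Nat.card (Cfsg.parabolicGL n F μ) = Nat.card B * q ^ Nat.card Up := by
    let T := {M : Matrix ι ι F // M.BlockTriangular Sigma.fst ∧ M.det ≠ 0}
    let f : Cfsg.parabolicGL n F μ ≃ T :=
      { toFun := fun g => ⟨((g : GL (Fin n) F) : Matrix (Fin n) (Fin n) F).submatrix e e, fun x y h => g.2 (by rw [he, he]; exact h), by
          rw [det_submatrix_equiv_self]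
          exact ((Matrix.isUnit_iff_isUnit_det _).1 (g : GL (Fin n) F).isUnit).ne_zero⟩
        invFun := fun M => ⟨Matrix.GeneralLinearGroup.mkOfDetNeZero (M.1.submatrix e.symm e.symm) (by
            rw [det_submatrix_equiv_self]; exact M.2.2), fun i j h => by
          refine M.2.1 ?_
          rw [← e.apply_symm_apply i, ← e.apply_symm_apply j, he, he] at h
          exact h⟩
        left_inv := fun g => Subtype.ext (Units.ext (by
          show (((g : GL (Fin n) F) : Matrix (Fin n) (Fin n) F).submatrix e e).submatrix e.symm e.symm = _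
          ext i j; simp))
        right_inv := fun M => Subtype.ext (by
          show (M.1.submatrix e.symm e.symm).submatrix e e = M.1
          ext i j; simp) }
    rw [Nat.card_congr f]
    have hblk : ∀ (M : Matrix ι ι F) (a : Fin n), (M.toSquareBlock Sigma.fst a).det =
        (Matrix.of fun k l : Fin (μ a) => M ⟨a, k⟩ ⟨a, l⟩).det := fun M a => by
      let eb : Fin (μ a) ≃ {x : ι // x.1 = a} :=
        { toFun := fun k => ⟨⟨a, k⟩, rfl⟩
          invFun := fun x => x.2 ▸ x.1.2
          left_inv := fun k => rfl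
          right_inv := fun x => by obtain ⟨⟨b, k⟩, h⟩ := x; cases h; rfl }
      rw [← det_submatrix_equiv_self eb]
      rfl
    have hdet : ∀ (M : Matrix ι ι F), M.BlockTriangular Sigma.fst →
        M.det = ∏ a : Fin n, (Matrix.of fun k l : Fin (μ a) => M ⟨a, k⟩ ⟨a, l⟩).det := fun M hM => by
      rw [hM.det_fintype]
      exact Finset.prod_congr rfl fun a _ => hblk M a
    let mkM : B → (Up → F) → Matrix ι ι F := fun A u => Matrix.blockDiagonal' (fun a => ((A a : GL (Fin (μ a)) F) : Matrix (Fin (μ a)) (Fin (μ a)) F)) +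
      Matrix.of fun x y => if h : x.1 < y.1 then u ⟨(x, y), h⟩ else 0
    have hmk : ∀ A u, (mkM A u).BlockTriangular Sigma.fst ∧ ∀ a, (Matrix.of fun k l : Fin (μ a) => mkM A u ⟨a, k⟩ ⟨a, l⟩) = ((A a : GL (Fin (μ a)) F) : Matrix (Fin (μ a)) (Fin (μ a)) F) := by
      refine fun A u => ⟨fun x y h => ?_, fun a => ?_⟩
      · obtain ⟨a, k⟩ := x
        obtain ⟨b, l⟩ := y
        simp only [mkM, Matrix.add_apply, Matrix.of_apply]
        rw [Matrix.blockDiagonal'_apply_ne _ _ _ (ne_of_gt h), dif_neg (not_lt.2 (le_of_lt h)), add_zero]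
      · ext k l
        simp [mkM, Matrix.blockDiagonal'_apply_eq]
    let g : B × (Up → F) → T := fun p => ⟨mkM p.1 p.2, (hmk p.1 p.2).1, by
      rw [hdet _ (hmk p.1 p.2).1]
      exact Finset.prod_ne_zero_iff.2 fun a _ => by
        rw [(hmk p.1 p.2).2 a]
        exact ((Matrix.isUnit_iff_isUnit_det _).1 (p.1 a).isUnit).ne_zero⟩
    have hg : Function.Bijective g := by
      refine ⟨fun p p' h => ?_, ?_⟩
      · have h' : mkM p.1 p.2 = mkM p'.1 p'.2 := congrArg Subtype.val h
        refine Prod.ext (funext fun a => Units.ext ?_) (funext fun xy => ?_)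
        · rw [← (hmk p.1 p.2).2 a, h', (hmk p'.1 p'.2).2 a]
        · obtain ⟨⟨⟨a, k⟩, ⟨b, l⟩⟩, hab⟩ := xy
          have h2 := congrFun (congrFun h' ⟨a, k⟩) ⟨b, l⟩
          simp only [mkM, Matrix.add_apply, Matrix.of_apply] at h2
          rw [Matrix.blockDiagonal'_apply_ne _ _ _ (ne_of_lt hab), Matrix.blockDiagonal'_apply_ne _ _ _ (ne_of_lt hab),
            zero_add, zero_add, dif_pos (show (⟨a, k⟩ : ι).1 < (⟨b, l⟩ : ι).1 from hab),
            dif_pos (show (⟨a, k⟩ : ι).1 < (⟨b, l⟩ : ι).1 from hab)] at h2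
          exact h2
      · rintro ⟨M, hM, hd⟩
        rw [hdet M hM, Finset.prod_ne_zero_iff] at hd
        refine ⟨(fun a => Matrix.GeneralLinearGroup.mkOfDetNeZero _ (hd a (Finset.mem_univ a)), fun xy => M xy.1.1 xy.1.2), Subtype.ext ?_⟩
        ext ⟨a, k⟩ ⟨b, l⟩
        simp only [g, mkM, Matrix.add_apply, Matrix.of_apply]
        rcases lt_trichotomy a b with h | h | h
        · rw [Matrix.blockDiagonal'_apply_ne _ _ _ (ne_of_lt h), dif_pos (show (⟨a, k⟩ : ι).1 < (⟨b, l⟩ : ι).1 from h), zero_add]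
        · subst h
          rw [Matrix.blockDiagonal'_apply_eq, dif_neg (lt_irrefl _), add_zero]
          rfl
        · rw [Matrix.blockDiagonal'_apply_ne _ _ _ (ne_of_gt h), dif_neg (not_lt.2 (le_of_lt h)), add_zero]
          exact (hM h).symm
    rw [← Nat.card_eq_of_bijective g hg, Nat.card_prod]
    congr 1
    rw [Nat.card_fun, Nat.card_eq_fintype_card]
  have hUp : Nat.card Up + ∑ a, (μ a).choose 2 = n.choose 2 := by
    have hsplit : (Finset.univ : Finset (ι × ι)).card = (Finset.univ.filter fun xy : ι × ι => xy.1.1 < xy.2.1).card +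
        ((Finset.univ.filter fun xy : ι × ι => xy.2.1 < xy.1.1).card + (Finset.univ.filter fun xy : ι × ι => xy.1.1 = xy.2.1).card) := by
      rw [← Finset.card_union_of_disjoint, ← Finset.card_union_of_disjoint]
      · congr 1
        ext xy
        simp only [Finset.mem_univ, Finset.mem_union, Finset.mem_filter, true_and, true_iff]
        rcases lt_trichotomy xy.1.1 xy.2.1 with h | h | h <;> simp [h]
      · rw [Finset.disjoint_left]
        intro xy h1 h2
        simp only [Finset.mem_union, Finset.mem_filter, Finset.mem_univ, true_and] at h1 h2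
        omega
      · rw [Finset.disjoint_left]
        intro xy h1 h2
        simp only [Finset.mem_filter, Finset.mem_univ, true_and] at h1 h2
        omega
    have hsw : (Finset.univ.filter fun xy : ι × ι => xy.2.1 < xy.1.1).card = (Finset.univ.filter fun xy : ι × ι => xy.1.1 < xy.2.1).card :=
      Finset.card_equiv (Equiv.prodComm ι ι) (fun xy => by simp)
    have heq : (Finset.univ.filter fun xy : ι × ι => xy.1.1 = xy.2.1).card = ∑ a, μ a * μ a := by
      rw [← Fintype.card_subtype]
      let eq' : {xy : ι × ι // xy.1.1 = xy.2.1} ≃ (a : Fin n) × (Fin (μ a) × Fin (μ a)) :=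
        { toFun := fun xy => ⟨xy.1.1.1, xy.1.1.2, xy.2 ▸ xy.1.2.2⟩
          invFun := fun x => ⟨(⟨x.1, x.2.1⟩, ⟨x.1, x.2.2⟩), rfl⟩
          left_inv := fun xy => by obtain ⟨⟨⟨a, k⟩, ⟨b, l⟩⟩, h⟩ := xy; cases h; rfl
          right_inv := fun x => rfl }
      rw [Fintype.card_congr eq', Fintype.card_sigma]
      simp
    rw [hsw, heq, Finset.card_univ, Fintype.card_prod, Fintype.card_congr e, Fintype.card_fin] at hsplit
    have hc2 : ∀ m : ℕ, 2 * m.choose 2 + m = m * m := fun m => by
      induction m with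
      | zero => rfl
      | succ m ih => rw [Nat.choose_succ_succ', Nat.choose_one_right]; linarith
    have hs : 2 * (∑ a, (μ a).choose 2) + n = ∑ a, μ a * μ a := by
      have h := Finset.sum_congr (s₁ := (Finset.univ : Finset (Fin n))) rfl fun a _ => hc2 (μ a)
      rwa [Finset.sum_add_distrib, ← Finset.mul_sum, hμ] at h
    have := hc2 n
    rw [Nat.card_eq_fintype_card, Fintype.card_subtype]
    omega
  have hB : Nat.card B = ∏ a, ((q - 1) ^ μ a * q ^ (μ a).choose 2 * ∏ j ∈ Finset.range (μ a), ∑ l ∈ Finset.range (j + 1), q ^ l) := by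
    rw [Nat.card_pi]
    exact Finset.prod_congr rfl fun a _ => by rw [Matrix.card_GL_field, gl_card q hq1]
  have hmain := Subgroup.card_eq_card_quotient_mul_card_subgroup (Cfsg.parabolicGL n F μ)
  rw [Matrix.card_GL_field, gl_card q hq1, hcardP, hB, Finset.prod_mul_distrib, Finset.prod_mul_distrib,
    Finset.prod_pow_eq_pow_sum, Finset.prod_pow_eq_pow_sum, hμ, ← hUp, pow_add] at hmain
  have hpos : 0 < (q - 1) ^ n * q ^ (∑ a, (μ a).choose 2) * q ^ Nat.card Up := by
    have : 0 < q - 1 := by omega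
    positivity
  refine Nat.eq_of_mul_eq_mul_left hpos ?_
  calc (q - 1) ^ n * q ^ (∑ a, (μ a).choose 2) * q ^ Nat.card Up *
        (Nat.card (GL (Fin n) F ⧸ Cfsg.parabolicGL n F μ) * ∏ i : Fin n, ∏ j ∈ Finset.range (μ i), ∑ l ∈ Finset.range (j + 1), q ^ l)
      = Nat.card (GL (Fin n) F ⧸ Cfsg.parabolicGL n F μ) * ((q - 1) ^ n * q ^ (∑ a, (μ a).choose 2) * (∏ i : Fin n, ∏ j ∈ Finset.range (μ i), ∑ l ∈ Finset.range (j + 1), q ^ l) * q ^ Nat.card Up) := by ring
    _ = _ := by rw [← hmain]; ring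

end Cfsg.Agent.S2420
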