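import Cfsg.Statements.S0018
import Cfsg.Agent.Lib.Solv.Basic

set_option autoImplicit false
open scoped Pointwise
open Cfsg

namespace Cfsg.Agent.S0018

/-- A finite solvable group whose Sylow p-subgroups are abelian has p-length one: a Sylow p-subgroup together with the largest normal subgroup of order prime to p generates a normal subgroup. -/
theorem result {G : Type*} [Group G] [Finite G] [Group.IsSolvable G]
    (p : ℕ) [Fact p.Prime] (P : Sylow p G) (hP : IsMulCommutative P) :
    ((P : Subgroup G) ⊔ Cfsg.pPrimeCore p G).Normal := by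
  set N := Cfsg.pPrimeCore p G with hN
  set f := QuotientGroup.mk' N with hf
  haveI : Group.IsSolvable (G ⧸ N) := Group.isSolvable_of_surjective (f := f) (QuotientGroup.mk'_surjective N)
  have hle := Cfsg.Agent.Solv.pCore_le_sylow (P.mapSurjective (QuotientGroup.mk'_surjective N))
  rw [Sylow.coe_mapSurjective] at hle
  haveI : IsMulCommutative ↥((P : Subgroup G).map f) := haveI := hP; Subgroup.map_isMulCommutative _ _
  have h1 : (P : Subgroup G).map f ≤ Cfsg.pCore p (G ⧸ N) :=
    ((Subgroup.le_centralizer _).trans (Subgroup.centralizer_le hle)).trans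
      (Cfsg.Agent.Solv.centralizer_pCore_le_of_isSolvable (Cfsg.Agent.Solv.pPrimeCore_quotient_pPrimeCore p))
  have h2 : ((P : Subgroup G).map f).comap f = (P : Subgroup G) ⊔ N := by
    rw [Subgroup.comap_map_eq, hf, QuotientGroup.ker_mk']
  rw [← h2, le_antisymm h1 hle]
  exact Subgroup.Normal.comap inferInstance f

end Cfsg.Agent.S0018
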