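import Cfsg.Statements.S0020
import Cfsg.Agent.Lib.Solv.SylowSystem

set_option autoImplicit false
open Pointwise
open Cfsg

namespace Cfsg.Agent.S0020

/-- A finite solvable group admits a Sylow system: Sylow subgroups, one for each prime, that pairwise permute as sets. -/
theorem result {G : Type*} [Group G] [Finite G] [Group.IsSolvable G] :
    ∃ S : (p : Nat.Primes) → Sylow (p : ℕ) G,
      ∀ p q : Nat.Primes, (S p : Set G) * (S q : Set G) = (S q : Set G) * (S p : Set G) := by
  classical
  have hcomp : ∀ p : Nat.Primes, ∃ H : Subgroup G, H.index = (p : ℕ) ^ (Nat.card G).factorization p := by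
    intro p
    have hG : Nat.card G = (Nat.card G / (p : ℕ) ^ (Nat.card G).factorization p) * (p : ℕ) ^ (Nat.card G).factorization p :=
      (Nat.div_mul_cancel (Nat.ordProj_dvd _ _)).symm
    obtain ⟨H, hH⟩ := Cfsg.Agent.Solv.hall_exists hG ((Nat.coprime_ordCompl p.2 Nat.card_pos.ne').symm.pow_right _)
    refine ⟨H, Nat.eq_of_mul_eq_mul_left (Nat.card_pos (α := H)) ?_⟩
    rw [H.card_mul_index, hH, ← hG]
  choose K hK using hcomp
  set T : Finset Nat.Primes := (Nat.card G).primeFactors.subtype Nat.Prime with hT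
  set L : Finset Nat.Primes → Subgroup G := fun U => U.inf K with hL
  have hidx : ∀ U : Finset Nat.Primes, (L U).index = ∏ q ∈ U, (q : ℕ) ^ (Nat.card G).factorization q := by
    intro U
    induction U using Finset.induction with
    | empty => simp [hL]
    | @insert q U hq ih =>
      have hc : (K q).index.Coprime (L U).index := by
        rw [hK, ih]
        exact Nat.Coprime.prod_right fun r hr => Nat.coprime_pow_primes _ _ q.2 r.2 fun h => hq (Subtype.ext h ▸ hr)
      rw [Finset.prod_insert hq, ← hK, ← ih, ← (Cfsg.Agent.Solv.index_inf_of_coprime _ _ hc).1]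
      simp [hL]
  have hprod : ∏ q ∈ T, (q : ℕ) ^ (Nat.card G).factorization q = Nat.card G := by
    refine (Finset.prod_subtype_of_mem (fun q => q ^ (Nat.card G).factorization q) (fun x hx => Nat.prime_of_mem_primeFactors hx)).trans ?_
    conv_rhs => rw [← Nat.prod_factorization_pow_eq_self (n := Nat.card G) Nat.card_pos.ne', Finsupp.prod, Nat.support_factorization]
  have hzero : ∀ q : Nat.Primes, q ∉ T → (q : ℕ) ^ (Nat.card G).factorization q = 1 := fun q hq => by
    have : (Nat.card G).factorization q = 0 := by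
      rw [← Finsupp.notMem_support_iff, Nat.support_factorization]
      exact fun h => hq (Finset.mem_subtype.mpr h)
    rw [this, pow_zero]
  have hcard : ∀ U : Finset Nat.Primes, Nat.card ↥(L (T \ U)) = ∏ q ∈ U, (q : ℕ) ^ (Nat.card G).factorization q := by
    intro U
    refine Nat.eq_of_mul_eq_mul_right (Nat.pos_of_ne_zero (Subgroup.index_ne_zero_of_finite (H := L (T \ U)))) ?_
    rw [(L (T \ U)).card_mul_index, hidx]
    have e1 : ∏ q ∈ U, (q : ℕ) ^ (Nat.card G).factorization q = ∏ q ∈ T ∩ U, (q : ℕ) ^ (Nat.card G).factorization q := by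
      refine (Finset.prod_subset Finset.inter_subset_right fun q hq hq' => hzero q fun h => hq' (Finset.mem_inter.mpr ⟨h, hq⟩)).symm
    rw [e1, Finset.prod_inter_mul_prod_diff, hprod]
  have hsyl : ∀ p : Nat.Primes, Nat.card ↥(L (T \ {p})) = (p : ℕ) ^ (Nat.card G).factorization p := fun p => by rw [hcard, Finset.prod_singleton]
  let S : (p : Nat.Primes) → Sylow (p : ℕ) G := fun p => haveI := Fact.mk p.2; Sylow.ofCard (L (T \ {p})) (hsyl p)
  refine ⟨S, fun p q => ?_⟩
  rcases eq_or_ne p q with rfl | hne
  · rfl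
  have key : ∀ p q : Nat.Primes, p ≠ q → ((L (T \ {p}) : Subgroup G) : Set G) * (L (T \ {q}) : Subgroup G) = (L (T \ {p, q}) : Subgroup G) := by
    intro p q hne
    set A := L (T \ {p})
    set B := L (T \ {q})
    have hA : A ≤ L (T \ {p, q}) := Finset.inf_mono (Finset.sdiff_subset_sdiff subset_rfl (by simp))
    have hB : B ≤ L (T \ {p, q}) := Finset.inf_mono (Finset.sdiff_subset_sdiff subset_rfl (by simp))
    have hc : (Nat.card A).Coprime (Nat.card B) := by
      rw [hsyl, hsyl]
      exact Nat.coprime_pow_primes _ _ p.2 q.2 fun h => hne (Subtype.ext h)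
    let f : A × B → ↥(L (T \ {p, q})) := fun x => ⟨x.1 * x.2, Subgroup.mul_mem _ (hA x.1.2) (hB x.2.2)⟩
    have hinj : Function.Injective f := fun x y hxy =>
      Subgroup.mul_injective_of_disjoint (disjoint_iff.mpr (Cfsg.Agent.Solv.inf_eq_bot_of_coprime_card A B hc)) (congrArg Subtype.val hxy)
    have hb : Function.Bijective f := (Nat.bijective_iff_injective_and_card f).mpr ⟨hinj, by
      rw [Nat.card_prod, hsyl, hsyl, hcard, Finset.prod_pair hne]⟩
    refine Set.Subset.antisymm (Set.mul_subset_iff.mpr fun a ha b hb => Subgroup.mul_mem _ (hA ha) (hB hb)) fun z hz => ?_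
    obtain ⟨⟨a, b⟩, hab⟩ := hb.2 ⟨z, hz⟩
    exact ⟨a, a.2, b, b.2, congrArg Subtype.val hab⟩
  change ((L (T \ {p}) : Subgroup G) : Set G) * (L (T \ {q}) : Subgroup G) = ((L (T \ {q}) : Subgroup G) : Set G) * (L (T \ {p}) : Subgroup G)
  rw [key p q hne, key q p hne.symm, Finset.pair_comm]

end Cfsg.Agent.S0020
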