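import Cfsg.Statements.S0021
import Cfsg.Agent.Lib.Solv.SylowSystem

set_option autoImplicit false
open Pointwise
open Cfsg

namespace Cfsg.Agent.S0021

/-- A finite group with a family of pairwise permuting Sylow subgroups, one for each prime, is solvable (this direction rests on Burnside's two-prime Theorem). -/
theorem result {G : Type*} [Group G] [Finite G]
    (S : (p : Nat.Primes) → Sylow (p : ℕ) G)
    (hS : ∀ p q : Nat.Primes, (S p : Set G) * (S q : Set G) = (S q : Set G) * (S p : Set G)) :
    Group.IsSolvable G := by
  classical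
  refine Cfsg.Agent.Solv.solvable_of_complements fun p hp => ?_
  have hcopS : ∀ q r : Nat.Primes, q ≠ r → (Nat.card (S q : Subgroup G)).Coprime (Nat.card (S r : Subgroup G)) := by
    intro q r hne
    haveI := Fact.mk q.2
    haveI := Fact.mk r.2
    rw [(S q).card_eq_multiplicity, (S r).card_eq_multiplicity]
    exact Nat.coprime_pow_primes _ _ q.2 r.2 fun h => hne (Subtype.ext h)
  have key : ∀ T : Finset Nat.Primes, ∃ K : Subgroup G,
      Nat.card K = ∏ q ∈ T, Nat.card (S q : Subgroup G) ∧
      ∀ r : Nat.Primes, (K : Set G) * (S r : Set G) = (S r : Set G) * (K : Set G) := by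
    intro T
    induction T using Finset.induction with
    | empty => exact ⟨⊥, by rw [Subgroup.card_bot, Finset.prod_empty], fun r => by simp⟩
    | @insert q T hq ih =>
      obtain ⟨K, hK, hperm⟩ := ih
      have hc : (Nat.card K).Coprime (Nat.card (S q : Subgroup G)) := by
        rw [hK]
        exact Nat.Coprime.prod_left fun r hr => hcopS r q fun h => hq (h ▸ hr)
      refine ⟨K ⊔ (S q : Subgroup G), ?_, fun r => ?_⟩
      · rw [Cfsg.Agent.Solv.card_sup_of_permute (hperm q) hc, hK, Finset.prod_insert hq, mul_comm]
      · rw [Cfsg.Agent.Solv.coe_sup_of_permute (hperm q)]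
        calc (K : Set G) * (S q : Set G) * (S r : Set G) = (K : Set G) * ((S q : Set G) * (S r : Set G)) := mul_assoc _ _ _
          _ = (K : Set G) * (S r : Set G) * (S q : Set G) := by rw [hS q r, mul_assoc]
          _ = (S r : Set G) * ((K : Set G) * (S q : Set G)) := by rw [hperm r, mul_assoc]
  set T : Finset Nat.Primes := ((Nat.card G).primeFactors.erase p).subtype Nat.Prime with hT
  obtain ⟨K, hK, -⟩ := key T
  refine ⟨K, Nat.eq_of_mul_eq_mul_left (Nat.card_pos (α := K)) ?_⟩
  rw [K.card_mul_index, hK]
  have e : ∏ q ∈ T, Nat.card (S q : Subgroup G) = ∏ q ∈ (Nat.card G).primeFactors.erase p, q ^ (Nat.card G).factorization q := by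
    rw [hT, ← Finset.prod_subtype_of_mem (fun q => q ^ (Nat.card G).factorization q) (p := Nat.Prime) (fun x hx => Nat.prime_of_mem_primeFactors (Finset.mem_of_mem_erase hx))]
    exact Finset.prod_congr rfl fun q _ => by
      haveI := Fact.mk q.2
      exact (S q).card_eq_multiplicity
  rw [e]
  have hprod := Nat.prod_factorization_pow_eq_self (n := Nat.card G) Nat.card_pos.ne'
  rw [Finsupp.prod, Nat.support_factorization] at hprod
  by_cases hm : p ∈ (Nat.card G).primeFactors
  · conv_lhs => rw [← hprod, ← Finset.prod_erase_mul _ _ hm]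
  · rw [Finset.erase_eq_of_notMem hm, hprod]
    have : (Nat.card G).factorization p = 0 := by
      rw [← Finsupp.notMem_support_iff, Nat.support_factorization]; exact hm
    rw [this, pow_zero, mul_one]

end Cfsg.Agent.S0021
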