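import Cfsg.Statements.S0039
import Cfsg.Agent.Lib.Struct.Frobenius
import Cfsg.Agent.Lib.Perm.Frobenius

set_option autoImplicit false
open Cfsg
open Cfsg.Agent.Struct
namespace Cfsg.Agent.S0039

/-- In a finite group that is a semidirect product of a normal subgroup K by a nontrivial subgroup H, H is a Frobenius complement exactly when each nonidentity element of H acts without nonidentity fixed points on K by conjugation. -/
theorem result {G : Type*} [Group G] [Finite G] (K H : Subgroup G) [K.Normal]
    (hc : Subgroup.IsComplement' K H) (hK : K ≠ ⊥) (hH : H ≠ ⊥) :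
    Cfsg.IsFrobeniusComplement H ↔ ∀ h ∈ H, h ≠ 1 → K ⊓ Subgroup.centralizer {h} = ⊥ := by
  constructor
  · intro h x hx hx1
    rw [Subgroup.eq_bot_iff_forall]
    intro n hn
    obtain ⟨hn1, hn2⟩ := Subgroup.mem_inf.1 hn
    exact Frobenius.fpf_of_complement h hc.disjoint hx hx1 hn1
      (Subgroup.mem_centralizer_singleton_iff.1 hn2)
  · intro h
    refine (Cfsg.Agent.Perm.isFrobeniusComplement_of_fpf K H hc.sup_eq_top hK hH
      fun x hx n hn hcm => ?_).1
    by_cases hx1 : x = 1
    · exact Or.inl hx1
    · refine Or.inr ((Subgroup.eq_bot_iff_forall _).1 (h x hx hx1) n (Subgroup.mem_inf.2 ⟨hn, ?_⟩))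
      exact Subgroup.mem_centralizer_singleton_iff.2 hcm.symm

end Cfsg.Agent.S0039
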