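import Cfsg.Statements.S0040
import Cfsg.Agent.Lib.Struct.FpfComplement

set_option autoImplicit false
open Cfsg
open Cfsg.Agent.Struct
namespace Cfsg.Agent.S0040

/-- Sylow subgroups of Frobenius complements: if H complements a nontrivial normal subgroup K and every nonidentity element of H has trivial centraliser in K, then each Sylow subgroup of H is cyclic or isomorphic to a generalized quaternion group. -/
theorem result {G : Type*} [Group G] [Finite G] (K H : Subgroup G) [K.Normal]
    (hc : Subgroup.IsComplement' K H) (hK : K ≠ ⊥) (hfpf : ∀ h ∈ H, h ≠ 1 → K ⊓ Subgroup.centralizer {h} = ⊥)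
    (p : ℕ) [Fact p.Prime] (P : Sylow p H) :
    IsCyclic P ∨ ∃ n : ℕ, Nonempty (P ≃* QuaternionGroup (2 ^ n)) := by
  set A : Subgroup G := (P : Subgroup H).map H.subtype with hA
  let e : (P : Subgroup H) ≃* A :=
    Subgroup.equivMapOfInjective _ _ H.subtype_injective
  have hle : A ≤ H := Subgroup.map_subtype_le _
  rcases Frobenius.sylow_cyclic_or_quaternion (A := A) hK
    (fun a _ => by rw [Subgroup.normalizer_eq_top]; trivial)
    (Nat.Coprime.coprime_dvd_left (Subgroup.card_dvd_of_le hle)
      (Frobenius.coprime_kernel_complement hc hK hfpf))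
    (fun a ha => hfpf a (hle ha)) (P.isPGroup'.map H.subtype) with h | ⟨-, n, -, ⟨f⟩⟩
  · exact Or.inl (e.isCyclic.2 h)
  · exact Or.inr ⟨n, ⟨e.trans f⟩⟩

end Cfsg.Agent.S0040
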