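import Cfsg.Statements.S0041
import Cfsg.Agent.Lib.Solv.AbelianAction

set_option autoImplicit false
open scoped Pointwise
open Cfsg

namespace Cfsg.Agent.S0041

/-- A group acting on a nontrivial abelian group so that no nonidentity element has a nonidentity fixed point is cyclic, provided it is abelian or its order is a product of two (possibly equal) primes. -/
theorem result {G : Type*} [Group G] [Finite G] (A V : Subgroup G) [IsMulCommutative V]
    (hV : V ≠ ⊥) (hAV : A ≤ Subgroup.normalizer (V : Set G)) (hfpf : ∀ a ∈ A, a ≠ 1 → V ⊓ Subgroup.centralizer {a} = ⊥)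
    (hA : IsMulCommutative A ∨ ∃ p q : ℕ, p.Prime ∧ q.Prime ∧ Nat.card A = p * q) : IsCyclic A := by
  classical
  by_contra hnc
  haveI := Fintype.ofFinite A
  letI : CommGroup V := { (inferInstance : Group V) with mul_comm := fun a b => mul_comm' a b }
  let φ : A →* MulAut V := Cfsg.Agent.Solv.conjHom A V hAV
  have hfix : ∀ a : A, a ≠ 1 → ∀ w : V, φ a w = w → w = 1 := fun a ha w hw => by
    apply Subtype.ext
    rw [Subgroup.coe_one, ← Subgroup.mem_bot, ← hfpf a a.2 fun h => ha (Subtype.ext h)]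
    refine ⟨w.2, Subgroup.mem_centralizer_singleton_iff.mpr ?_⟩
    have h1 := congrArg Subtype.val hw
    rw [Cfsg.Agent.Solv.conjHom_apply, mul_inv_eq_iff_eq_mul] at h1
    exact h1.symm
  suffices H : ∃ p : ℕ, p.Prime ∧ (∀ v : V, v ^ p = 1) ∧ ∃ a : A, a ≠ 1 ∧ a ^ p = 1 by
    obtain ⟨p, hp, hpow, a, ha, hap⟩ := H
    haveI := Fact.mk hp
    have hVp : IsPGroup p V := fun v => ⟨1, by rw [pow_one]; exact hpow v⟩
    letI : MulAction (Subgroup.zpowers a) V := MulAction.compHom V (φ.comp (Subgroup.zpowers a).subtype)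
    have hz : IsPGroup p (Subgroup.zpowers a) := IsPGroup.of_card (n := 1) (by rw [Nat.card_zpowers, orderOf_eq_prime hap ha, pow_one])
    obtain ⟨k, hk⟩ := IsPGroup.iff_card.mp hVp
    have hdvd : p ∣ Nat.card V := by
      rcases k with _ | k
      · exact absurd (Subgroup.card_eq_one.mp (by rw [hk, pow_zero])) hV
      · rw [hk]; exact dvd_pow_self p (Nat.succ_ne_zero k)
    haveI := Fintype.ofFinite V
    obtain ⟨w, hw, hw1⟩ := hz.exists_fixed_point_of_prime_dvd_card_of_fixed_point V hdvd (a := (1 : V)) (fun z => map_one (φ (z : A)))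
    exact hw1 (hfix a ha w (hw ⟨a, Subgroup.mem_zpowers a⟩)).symm
  by_cases hab : IsMulCommutative A
  · letI : CommGroup A := { (inferInstance : Group A) with mul_comm := fun a b => hab.is_comm.comm a b }
    obtain ⟨p, hp, hgt⟩ := Cfsg.Agent.Solv.exists_card_powKer_gt hnc
    haveI := Fact.mk hp
    set K := (powMonoidHom p : A →* A).ker with hK
    have hKp : IsPGroup p K := fun x => ⟨1, Subtype.ext (by rw [pow_one]; exact x.2)⟩
    obtain ⟨k, hk⟩ := IsPGroup.iff_card.mp hKp
    have hk2 : 2 ≤ k := by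
      by_contra h
      interval_cases k
      · rw [hk, pow_zero] at hgt; exact absurd hgt (not_lt.mpr hp.pos)
      · rw [hk, pow_one] at hgt; exact lt_irrefl _ hgt
    obtain ⟨E, hE⟩ := Sylow.exists_subgroup_card_pow_prime p (G := K) (n := 2) (hk ▸ pow_dvd_pow p hk2)
    obtain ⟨ι, _, _, B, hpart, hcard, hne⟩ := Cfsg.Agent.Solv.exists_partition_of_card_sq hE (fun e => Subtype.ext (Subtype.ext (e : K).2))
    let ψ : E →* MulAut V := φ.comp (K.subtype.comp E.subtype)
    haveI := Fintype.ofFinite E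
    have hinj : ∀ e : E, e ≠ 1 → ((e : K) : A) ≠ 1 := fun e he h => he (Subtype.ext (Subtype.ext h))
    refine ⟨p, hp, fun v => ?_, ?_⟩
    · have h := Cfsg.Agent.Solv.pow_eq_one_of_partition ψ B hpart (fun i w hw => ?_) (fun w hw => ?_) v
      · rwa [hcard, Nat.add_sub_cancel] at h
      · obtain ⟨b, hb1, hb⟩ := hne i
        exact hfix _ (hinj b hb1) w (hw b hb)
      · haveI : Nontrivial E := Finite.one_lt_card_iff_nontrivial.mp (by rw [hE]; exact Nat.one_lt_pow two_ne_zero hp.one_lt)
        obtain ⟨b, hb1⟩ := exists_ne (1 : E)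
        exact hfix _ (hinj b hb1) w (hw b)
    · haveI : Nontrivial E := Finite.one_lt_card_iff_nontrivial.mp (by rw [hE]; exact Nat.one_lt_pow two_ne_zero hp.one_lt)
      obtain ⟨b, hb1⟩ := exists_ne (1 : E)
      exact ⟨_, hinj b hb1, ((b : K) : _).2⟩
  obtain ⟨p0, q0, hp0, hq0, hpq⟩ := hA.resolve_left hab
  obtain ⟨p, hp, q, hq, hlt, hcard⟩ : ∃ p, p.Prime ∧ ∃ q, q.Prime ∧ q < p ∧ Nat.card A = p * q := by
    rcases lt_trichotomy p0 q0 with h | h | h
    · exact ⟨q0, hq0, p0, hp0, h, by rw [hpq, mul_comm]⟩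
    · exfalso
      haveI := Fact.mk hp0
      exact hab (IsPGroup.isMulCommutative_of_card_eq_prime_sq (p := p0) (by rw [hpq, ← h, sq]))
    · exact ⟨p0, hp0, q0, hq0, h, hpq⟩
  haveI := Fact.mk hp
  haveI := Fact.mk hq
  obtain ⟨P⟩ : Nonempty (Sylow p A) := inferInstance
  have hPc : Nat.card (P : Subgroup A) = p := by
    rw [P.card_eq_multiplicity, hcard, Nat.factorization_mul hp.ne_zero hq.ne_zero, Finsupp.add_apply, hp.factorization_self, Nat.factorization_eq_zero_of_not_dvd (fun h => hlt.ne' ((Nat.prime_dvd_prime_iff_eq hp hq).mp h)), add_zero, pow_one]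
  have hPi : (P : Subgroup A).index = q := by
    have e := (P : Subgroup A).card_mul_index
    rw [hPc, hcard] at e
    exact Nat.eq_of_mul_eq_mul_left hp.pos e
  have hsub : Subsingleton (Sylow p A) := by
    rw [← Finite.card_le_one_iff_subsingleton]
    have h1 := card_sylow_modEq_one p A
    have h2 := hPi ▸ P.card_dvd_index
    rcases hq.eq_one_or_self_of_dvd _ h2 with h3 | h3
    · exact h3.le
    · rw [h3, Nat.ModEq, Nat.mod_eq_of_lt hlt, Nat.mod_eq_of_lt hp.one_lt] at h1
      exact absurd h1 hq.one_lt.ne'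
  have hord : ∀ a : A, a ≠ 1 → Nat.card (Subgroup.zpowers a) = p ∨ Nat.card (Subgroup.zpowers a) = q := fun a ha => by
    rw [Nat.card_zpowers]
    obtain ⟨y, z, hy, hz, he⟩ := Nat.dvd_mul.mp (hcard ▸ orderOf_dvd_natCard a : orderOf a ∣ p * q)
    rcases hp.eq_one_or_self_of_dvd _ hy with rfl | rfl <;> rcases hq.eq_one_or_self_of_dvd _ hz with rfl | rfl
    · exact absurd (orderOf_eq_one_iff.mp (by rw [← he, mul_one])) ha
    · right; rw [← he, one_mul]
    · left; rw [← he, mul_one]
    · exact absurd (isCyclic_of_orderOf_eq_card a (by rw [← he, hcard])) hnc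
  have huniqP : ∀ B : Subgroup A, Nat.card B = p → B = P := fun B hB => by
    obtain ⟨R, hR⟩ := (IsPGroup.of_card (n := 1) (by rw [hB, pow_one]) : IsPGroup p B).exists_le_sylow
    rw [Subsingleton.elim R P] at hR
    exact Subgroup.eq_of_le_of_card_ge hR (by rw [hB, hPc])
  let S := {B : Subgroup A // Nat.card B = p ∨ Nat.card B = q}
  haveI := Fintype.ofFinite S
  haveI : Nonempty S := ⟨⟨P, Or.inl hPc⟩⟩
  have hpart : ∀ a : A, a ≠ 1 → ∃! B : S, a ∈ B.1 := fun a ha =>
    ⟨⟨Subgroup.zpowers a, hord a ha⟩, Subgroup.mem_zpowers a, fun B hB => Subtype.ext (by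
      refine (Subgroup.eq_of_le_of_card_ge (Subgroup.zpowers_le.mpr hB) ?_).symm
      have hd := Subgroup.card_dvd_of_le (Subgroup.zpowers_le.mpr hB : Subgroup.zpowers a ≤ B.1)
      have hne : Nat.card (Subgroup.zpowers a) ≠ 1 := by rw [Nat.card_zpowers]; exact fun h => ha (orderOf_eq_one_iff.mp h)
      rcases B.2 with h | h <;> rw [h] at hd ⊢
      · exact ((hp.eq_one_or_self_of_dvd _ hd).resolve_left hne).ge
      · exact ((hq.eq_one_or_self_of_dvd _ hd).resolve_left hne).ge)⟩
  have hn : Fintype.card S = p + 1 := by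
    let T : S → Finset A := fun B => Finset.univ.filter fun a => a ∈ B.1 ∧ a ≠ 1
    have hT : ∀ B, (T B).card = Nat.card B.1 - 1 := fun B => by
      have : T B = (Finset.univ.filter fun a => a ∈ B.1).erase 1 := by
        ext a; simp [T, and_comm]
      rw [this, Finset.card_erase_of_mem (by simp [B.1.one_mem]), ← Fintype.card_subtype, ← Nat.card_eq_fintype_card]
    have hU : Finset.univ.biUnion T = Finset.univ.erase (1 : A) := by
      ext a
      simp only [T, Finset.mem_biUnion, Finset.mem_univ, Finset.mem_filter, true_and, Finset.mem_erase, and_true]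
      exact ⟨fun ⟨_, _, h⟩ => h, fun h => ⟨_, (hpart a h).choose_spec.1, h⟩⟩
    have hc := congrArg Finset.card hU
    rw [Finset.card_biUnion, Finset.sum_congr rfl (fun B _ => hT B), Finset.card_erase_of_mem (Finset.mem_univ _), Finset.card_univ, ← Nat.card_eq_fintype_card (α := A), hcard] at hc
    · rw [← Finset.sum_erase_add _ _ (Finset.mem_univ (⟨P, Or.inl hPc⟩ : S)), Finset.sum_congr rfl (fun B hB => ?_), Finset.sum_const, Finset.card_erase_of_mem (Finset.mem_univ _), Finset.card_univ, smul_eq_mul, hPc] at hc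
      rotate_left
      · have hBP : B.1 ≠ (P : Subgroup A) := fun h => (Finset.mem_erase.mp hB).1 (Subtype.ext h)
        rw [(B.2.resolve_left fun h => hBP (huniqP _ h) : Nat.card B.1 = q)]
      · obtain ⟨r, rfl⟩ : ∃ r, q = r + 2 := ⟨q - 2, (Nat.sub_add_cancel hq.two_le).symm⟩
        have hpos : 0 < Fintype.card S := Fintype.card_pos
        obtain ⟨m, hm⟩ : ∃ m, Fintype.card S = m + 1 := ⟨Fintype.card S - 1, by omega⟩
        rw [hm, Nat.add_sub_cancel, show r + 2 - 1 = r + 1 by omega] at hc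
        rw [hm]
        have e2 : p * (r + 2) = p * (r + 1) + p := by ring
        congr 1
        refine Nat.eq_of_mul_eq_mul_right (Nat.succ_pos r) ?_
        have := hp.one_lt
        change m * (r + 1) = p * (r + 1)
        have e3 : Nat.card ↥((⟨P, Or.inl hPc⟩ : S) : Subgroup A) = p := hPc
        omega
    · intro B _ B' _ hne
      rw [Function.onFun, Finset.disjoint_left]
      intro a h1 h2
      simp only [T, Finset.mem_filter, Finset.mem_univ, true_and] at h1 h2
      exact hne ((hpart a h1.2).unique h1.1 h2.1)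
  have hnon : ∀ B : S, ∃ b : A, b ≠ 1 ∧ b ∈ B.1 := fun B => by
    by_contra! h
    have : B.1 = ⊥ := (Subgroup.eq_bot_iff_forall _).mpr fun x hx => by_contra fun hx1 => h x hx1 hx
    rcases B.2 with h2 | h2 <;> rw [this, Subgroup.card_bot] at h2
    · exact hp.one_lt.ne h2
    · exact hq.one_lt.ne h2
  refine ⟨p, hp, fun v => ?_, ?_⟩
  · have h := Cfsg.Agent.Solv.pow_eq_one_of_partition φ (fun B : S => B.1) hpart (fun B w hw => ?_) (fun w hw => ?_) v
    · rwa [hn, Nat.add_sub_cancel] at h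
    · obtain ⟨b, hb1, hb⟩ := hnon B
      exact hfix b hb1 w (hw b hb)
    · obtain ⟨b, hb1, hb⟩ := hnon ⟨P, Or.inl hPc⟩
      exact hfix b hb1 w (hw b)
  · obtain ⟨a, ha⟩ := exists_prime_orderOf_dvd_card' p (hcard ▸ dvd_mul_right p q : p ∣ Nat.card A)
    exact ⟨a, fun h => by rw [h, orderOf_one] at ha; exact hp.one_lt.ne ha, ha ▸ pow_orderOf_eq_one a⟩

end Cfsg.Agent.S0041
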