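import Cfsg.Statements.S0042
import Cfsg.Agent.Lib.Solv.FpfNilpotent
import Cfsg.Agent.Lib.Struct.Frobenius

set_option autoImplicit false
open scoped Pointwise
open Cfsg

namespace Cfsg.Agent.S0042

/-- In a finite Frobenius group, the Frobenius kernel is (the carrier of) a normal subgroup which is nilpotent. -/
theorem result {G : Type*} [Group G] [Finite G] (H : Subgroup G) (hH : Cfsg.IsFrobeniusComplement H) :
    ∃ N : Subgroup G, (N : Set G) = Cfsg.frobeniusKernel H ∧ N.Normal ∧ Group.IsNilpotent N := by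
  obtain ⟨N, hset, hn, hc⟩ := Cfsg.Agent.Struct.Frobenius.exists_kernel hH
  haveI := hn
  refine ⟨N, hset, hn, ?_⟩
  obtain ⟨p, hp, hpd⟩ := Nat.exists_prime_and_dvd (n := Nat.card H)
    fun h => hH.1 (Subgroup.card_eq_one.mp h)
  haveI := Fact.mk hp
  obtain ⟨h, hh⟩ := exists_prime_orderOf_dvd_card' p hpd
  have h1 : (h : G) ≠ 1 := fun e => by
    rw [← Subgroup.orderOf_coe, e, orderOf_one] at hh; exact hp.one_lt.ne hh
  refine Cfsg.Agent.Solv.isNilpotent_of_fpf (φ := MulAut.conjNormal (h : G)) (p := p) ?_ hp ?_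
  · intro x hx
    have e : (h : G) * x * (h : G)⁻¹ = x := by
      rw [← MulAut.conjNormal_apply]; exact congrArg Subtype.val hx
    exact Subtype.ext (Cfsg.Agent.Struct.Frobenius.fpf_of_complement hH
      hc.disjoint h.2 h1 x.2 (mul_inv_eq_iff_eq_mul.mp e).symm)
  · intro x
    have h2 : ∀ i, (MulAut.conjNormal (h : G) : N → N)^[i] x = MulAut.conjNormal ((h : G) ^ i) x := by
      intro i
      induction i with
      | zero => simp
      | succ i ih => rw [Function.iterate_succ_apply', ih, pow_succ', map_mul]; rfl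
    rw [h2, ← hh, ← Subgroup.orderOf_coe, pow_orderOf_eq_one, map_one]
    rfl

end Cfsg.Agent.S0042
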