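import Cfsg.Statements.S0572
import Cfsg.Agent.Lib.Solv.Misc

set_option autoImplicit false
open scoped Pointwise commutatorElement
open Cfsg

namespace Cfsg.Agent.S0572

/-- Itô's Theorem: if a group G is the product AB of two abelian subgroups, then the commutator subgroup of G is abelian, i.e. the second term of the derived series is trivial. -/
theorem result {G : Type*} [Group G] (A B : Subgroup G) [IsMulCommutative A] [IsMulCommutative B] (hAB : ∀ g : G, ∃ a ∈ A, ∃ b ∈ B, g = a * b) : derivedSeries G 2 = ⊥ := by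
  have hBA : ∀ g : G, ∃ b ∈ B, ∃ a ∈ A, g = b * a := fun g => by
    obtain ⟨a, ha, b, hb, h⟩ := hAB g⁻¹
    exact ⟨b⁻¹, B.inv_mem hb, a⁻¹, A.inv_mem ha, by rw [← mul_inv_rev, ← h, inv_inv]⟩
  have cA : ∀ a ∈ A, ∀ a' ∈ A, a * a' = a' * a := fun a ha a' ha' =>
    congrArg Subtype.val (mul_comm' (⟨a, ha⟩ : A) ⟨a', ha'⟩)
  have cB : ∀ a ∈ B, ∀ a' ∈ B, a * a' = a' * a := fun a ha a' ha' =>
    congrArg Subtype.val (mul_comm' (⟨a, ha⟩ : B) ⟨a', ha'⟩)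
  have k1 : ∀ x ∈ A, ∀ b ∈ B, ∃ b2 ∈ B, ∀ a ∈ A, x * ⁅a, b⁆ * x⁻¹ = ⁅a, b2⁆ := by
    intro x hx b hb
    obtain ⟨b2, hb2, a2, ha2, h⟩ := hBA (x * b * x⁻¹)
    refine ⟨b2, hb2, fun a ha => ?_⟩
    calc x * ⁅a, b⁆ * x⁻¹ = (x * a) * b * (x * a)⁻¹ * (x * b * x⁻¹)⁻¹ := by rw [commutatorElement_def]; group
      _ = a * (x * b * x⁻¹) * a⁻¹ * (x * b * x⁻¹)⁻¹ := by rw [cA x hx a ha]; group
      _ = a * b2 * (a2 * a⁻¹) * a2⁻¹ * b2⁻¹ := by rw [h]; group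
      _ = ⁅a, b2⁆ := by rw [cA a2 ha2 a⁻¹ (A.inv_mem ha), commutatorElement_def]; group
  have k2 : ∀ y ∈ B, ∀ a ∈ A, ∃ a3 ∈ A, ∀ b ∈ B, y * ⁅a, b⁆ * y⁻¹ = ⁅a3, b⁆ := by
    intro y hy a ha
    obtain ⟨a3, ha3, b3, hb3, h⟩ := hAB (y * a * y⁻¹)
    refine ⟨a3, ha3, fun b hb => ?_⟩
    calc y * ⁅a, b⁆ * y⁻¹ = (y * a * y⁻¹) * (y * b) * a⁻¹ * (y * b)⁻¹ := by rw [commutatorElement_def]; group
      _ = (y * a * y⁻¹) * (b * y) * a⁻¹ * (b * y)⁻¹ := by rw [cB y hy b hb]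
      _ = (y * a * y⁻¹) * b * (y * a * y⁻¹)⁻¹ * b⁻¹ := by group
      _ = a3 * (b3 * b) * b3⁻¹ * a3⁻¹ * b⁻¹ := by rw [h]; group
      _ = ⁅a3, b⁆ := by rw [cB b3 hb3 b hb, commutatorElement_def]; group
  set S := {z : G | ∃ a ∈ A, ∃ b ∈ B, ⁅a, b⁆ = z} with hS
  have hcomm : ∀ s ∈ S, ∀ t ∈ S, s * t = t * s := by
    rintro _ ⟨a, ha, b, hb, rfl⟩ _ ⟨x, hx, y, hy, rfl⟩
    obtain ⟨b2, hb2, h1⟩ := k1 x⁻¹ (A.inv_mem hx) b hb
    obtain ⟨a3, ha3, h2⟩ := k2 y⁻¹ (B.inv_mem hy) a ha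
    have e1 : (y⁻¹ * x⁻¹) * ⁅a, b⁆ * (y⁻¹ * x⁻¹)⁻¹ = ⁅a3, b2⁆ := by
      rw [← h2 b2 hb2, ← h1 a ha]; group
    have e2 : (x⁻¹ * y⁻¹) * ⁅a, b⁆ * (x⁻¹ * y⁻¹)⁻¹ = ⁅a3, b2⁆ := by
      rw [← h1 a3 ha3, ← h2 b hb]; group
    rw [← e2] at e1
    calc ⁅a, b⁆ * ⁅x, y⁆ = (x * y) * (y⁻¹ * x⁻¹ * ⁅a, b⁆ * (y⁻¹ * x⁻¹)⁻¹) * (x⁻¹ * y⁻¹) := by
          rw [commutatorElement_def x y]; group
      _ = (x * y) * (x⁻¹ * y⁻¹ * ⁅a, b⁆ * (x⁻¹ * y⁻¹)⁻¹) * (x⁻¹ * y⁻¹) := by rw [e1]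
      _ = ⁅x, y⁆ * ⁅a, b⁆ := by rw [commutatorElement_def x y]; group
  haveI hab : IsMulCommutative (Subgroup.closure S) := Subgroup.isMulCommutative_closure hcomm
  haveI hn : (Subgroup.closure S).Normal := by
    refine ⟨fun k hk z => ?_⟩
    obtain ⟨x, hx, y, hy, rfl⟩ := hAB z
    have hs : Subgroup.closure S ≤ (Subgroup.closure S).comap (MulAut.conj (x * y)).toMonoidHom := by
      rw [Subgroup.closure_le]
      rintro _ ⟨a, ha, b, hb, rfl⟩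
      obtain ⟨a3, ha3, h2⟩ := k2 y hy a ha
      obtain ⟨b2, hb2, h1⟩ := k1 x hx b hb
      refine Subgroup.subset_closure ⟨a3, ha3, b2, hb2, ?_⟩
      change _ = x * y * ⁅a, b⁆ * (x * y)⁻¹
      rw [← h1 a3 ha3, ← h2 b hb]; group
    exact hs hk
  have hG' : ⁅(⊤ : Subgroup G), ⊤⁆ ≤ Subgroup.closure S := by
    have hq : ∀ a ∈ A, ∀ b ∈ B, (QuotientGroup.mk' (Subgroup.closure S) a) * QuotientGroup.mk' _ b = QuotientGroup.mk' _ b * QuotientGroup.mk' _ a := fun a ha b hb => by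
      rw [← commutatorElement_eq_one_iff_mul_comm, ← map_commutatorElement, QuotientGroup.mk'_apply, QuotientGroup.eq_one_iff]
      exact Subgroup.subset_closure ⟨a, ha, b, hb, rfl⟩
    refine Subgroup.commutator_le.mpr fun g _ g' _ => ?_
    rw [← QuotientGroup.eq_one_iff, ← QuotientGroup.mk'_apply, map_commutatorElement, commutatorElement_eq_one_iff_mul_comm]
    obtain ⟨a, ha, b, hb, rfl⟩ := hAB g
    obtain ⟨a', ha', b', hb', rfl⟩ := hAB g'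
    simp only [map_mul]
    have c1 : Commute (QuotientGroup.mk' (Subgroup.closure S) a) (QuotientGroup.mk' _ a') := (show Commute a a' from cA a ha a' ha').map _
    have c2 : Commute (QuotientGroup.mk' (Subgroup.closure S) b) (QuotientGroup.mk' _ b') := (show Commute b b' from cB b hb b' hb').map _
    exact (Commute.mul_right c1 (hq a ha b' hb')).mul_left (Commute.mul_right (Commute.symm (hq a' ha' b hb)) c2)
  rw [derivedSeries_succ, derivedSeries_succ, derivedSeries_zero, Subgroup.commutator_eq_bot_iff_le_centralizer]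
  exact hG'.trans ((Subgroup.le_centralizer (Subgroup.closure S)).trans (Subgroup.centralizer_le hG'))

end Cfsg.Agent.S0572
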