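import Cfsg.Statements.S0048
import Cfsg.Agent.Lib.Solv.Misc

set_option autoImplicit false
open scoped Pointwise
open Cfsg

namespace Cfsg.Agent.S0048

/-- In a finite solvable group every maximal subgroup has index a prime power. -/
theorem result {G : Type*} [Group G] [Finite G] [Group.IsSolvable G]
    (M : Subgroup G) (hM : IsCoatom M) : IsPrimePow M.index := by
  set K := M.normalCore with hK
  have hKM : K ≤ M := M.normalCore_le
  have hne : (⊤ : Subgroup (G ⧸ K)) ≠ ⊥ := by
    intro h
    have h2 := congrArg (Subgroup.comap (QuotientGroup.mk' K)) h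
    rw [Subgroup.comap_top, MonoidHom.comap_bot, QuotientGroup.ker_mk'] at h2
    exact hM.1 (top_le_iff.mp (h2.le.trans hKM))
  obtain ⟨L, hLn, -, hL0, hLmin⟩ := Cfsg.Agent.Solv.exists_minimal_normal_le hne
  haveI := hLn
  obtain ⟨hLc, r, hr, hexp⟩ := Cfsg.Agent.Solv.minimal_normal_elementary L hL0 hLmin
  haveI := hLc
  haveI : Fact r.Prime := ⟨hr⟩
  set Mb := M.map (QuotientGroup.mk' K)
  have hback : Mb.comap (QuotientGroup.mk' K) = M :=
    Subgroup.comap_map_eq_self (by rwa [QuotientGroup.ker_mk'])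
  have hnot : ¬ L ≤ Mb := by
    intro h
    haveI : (L.comap (QuotientGroup.mk' K)).Normal := Subgroup.Normal.comap inferInstance _
    have h2 : L.comap (QuotientGroup.mk' K) ≤ K :=
      Subgroup.normal_le_normalCore.mpr ((Subgroup.comap_mono h).trans hback.le)
    refine hL0 ?_
    rw [← Subgroup.map_comap_eq_self_of_surjective (QuotientGroup.mk'_surjective K) L,
      Subgroup.map_eq_bot_iff, QuotientGroup.ker_mk']
    exact h2
  have hMb : IsCoatom Mb := by
    refine ⟨fun h => hnot (h ▸ le_top), fun H hH => ?_⟩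
    have h2 : M < H.comap (QuotientGroup.mk' K) := by
      refine lt_of_le_of_ne (hback.ge.trans (Subgroup.comap_mono hH.le)) fun he => hH.ne ?_
      rw [← Subgroup.map_comap_eq_self_of_surjective (QuotientGroup.mk'_surjective K) H, ← he]
    rw [← Subgroup.map_comap_eq_self_of_surjective (QuotientGroup.mk'_surjective K) H, hM.2 _ h2,
      Subgroup.map_top_of_surjective _ (QuotientGroup.mk'_surjective K)]
  have htop : Mb ⊔ L = ⊤ :=
    hMb.2 _ (lt_of_le_of_ne le_sup_left fun h => hnot (h ▸ le_sup_right))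
  have hn : (L ⊓ Mb).Normal := by
    refine Subgroup.normalizer_eq_top_iff.mp (top_le_iff.mp (htop.ge.trans (sup_le ?_ ?_)))
    · exact Cfsg.Agent.Solv.le_normalizer_inf Subgroup.le_normalizer_of_normal Subgroup.le_normalizer
    · intro l hl
      refine Subgroup.centralizer_le_normalizer _ (Subgroup.mem_centralizer_iff.mpr fun x hx => ?_)
      exact congrArg Subtype.val (mul_comm' (⟨x, hx.1⟩ : L) ⟨l, hl⟩)
  have hinf : L ⊓ Mb = ⊥ :=
    (hLmin _ hn inf_le_left).resolve_right fun h => hnot (h.ge.trans inf_le_right)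
  have hidx : Mb.index = Nat.card L := by
    rw [← Subgroup.relIndex_top_right, ← htop, Subgroup.relIndex, ← Nat.mul_left_inj (Nat.card_pos (α := Mb)).ne']
    have e1 := (Mb.subgroupOf (Mb ⊔ L)).card_mul_index
    rw [Cfsg.Agent.Solv.card_subgroupOf le_sup_left] at e1
    have e2 := Cfsg.Agent.Solv.card_sup_mul_card_inf L Mb Subgroup.le_normalizer_of_normal
    rw [hinf, Subgroup.card_bot, mul_one, sup_comm, ← e1] at e2
    rw [mul_comm, e2]
  have hMi : M.index = Nat.card L := by
    rw [← hidx]
    exact (congrArg Subgroup.index hback).symm.trans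
      (Subgroup.index_comap_of_surjective _ (QuotientGroup.mk'_surjective K))
  obtain ⟨k, hk⟩ := IsPGroup.iff_card.mp
    (fun x => ⟨1, by rw [pow_one]; exact Subtype.ext (hexp _ x.2)⟩ : IsPGroup r L)
  rw [hMi, hk]
  refine hr.isPrimePow.pow ?_
  rintro rfl
  exact ((Subgroup.one_lt_card_iff_ne_bot L).mpr hL0).ne' (by simpa using hk)

end Cfsg.Agent.S0048
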