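import Cfsg.Statements.S0049
import Cfsg.Agent.Lib.Solv.Misc

set_option autoImplicit false
open scoped Pointwise
open Cfsg

namespace Cfsg.Agent.S0049

/-- A prime divisor of the order of a finite group also divides the index of the Frattini subgroup. -/
theorem result {G : Type*} [Group G] [Finite G] (p : ℕ) (hp : p.Prime) (hdvd : p ∣ Nat.card G) :
    p ∣ (frattini G).index := by
  haveI : Fact p.Prime := ⟨hp⟩
  by_contra hnd
  obtain ⟨P⟩ := Sylow.nonempty (p := p) (G := ↥(frattini G))
  set P' := (P : Subgroup ↥(frattini G)).map (frattini G).subtype with hP'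
  haveI hfn : Group.IsNilpotent ↥(frattini G) := frattini_nilpotent
  haveI hPn : (P : Subgroup ↥(frattini G)).Normal :=
    ((Group.isNilpotent_of_finite_tfae (G := ↥(frattini G))).out 0 3 rfl rfl).mp hfn p ⟨hp⟩ P
  haveI : (P : Subgroup ↥(frattini G)).Characteristic := Sylow.characteristic_of_normal P hPn
  haveI : P'.Normal := inferInstance
  have hidx : ¬ p ∣ P'.index := by
    rw [hP', Subgroup.index_map_subtype]
    exact fun h => (hp.dvd_mul.mp h).elim P.not_dvd_index hnd
  have hcop : (Nat.card P').Coprime P'.index :=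
    Cfsg.Agent.Solv.coprime_card_of_isPGroup (P.isPGroup'.map _)
      ((hp.coprime_iff_not_dvd.mpr hidx).symm)
  obtain ⟨H, hH⟩ := Subgroup.exists_right_complement'_of_coprime hcop
  have htop : H = ⊤ := frattini_nongenerating (top_le_iff.mp (hH.sup_eq_top.ge.trans
    (sup_le (le_sup_of_le_right (Subgroup.map_subtype_le _)) le_sup_left)))
  rw [htop, Subgroup.isComplement'_top_right] at hH
  rw [hH, Subgroup.index_bot] at hidx
  exact hidx hdvd

end Cfsg.Agent.S0049
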