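import Cfsg.Statements.S0053
import Cfsg.Agent.Lib.Solv.Misc

set_option autoImplicit false
open scoped Pointwise
open Cfsg

namespace Cfsg.Agent.S0053

/-- An abelian minimal normal subgroup N of a finite group is complemented exactly when N is not inside the Frattini subgroup. -/
theorem result {G : Type*} [Group G] [Finite G]
    (N : Subgroup G) [N.Normal] [IsMulCommutative N] (hN : N ≠ ⊥)
    (hmin : ∀ M : Subgroup G, M.Normal → M ≤ N → M = ⊥ ∨ M = N) :
    (∃ H : Subgroup G, Subgroup.IsComplement' N H) ↔ ¬ N ≤ frattini G := by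
  constructor
  · rintro ⟨H, hH⟩ hle
    have htop : H = ⊤ := frattini_nongenerating (top_le_iff.mp (hH.sup_eq_top.ge.trans
      (sup_le (le_sup_of_le_right hle) le_sup_left)))
    rw [htop, Subgroup.isComplement'_top_right] at hH
    exact hN hH
  · intro hnle
    obtain ⟨M, hM, hNM⟩ : ∃ M : Subgroup G, IsCoatom M ∧ ¬ N ≤ M := by
      by_contra hcon
      push Not at hcon
      exact hnle (le_iInf fun M => le_iInf fun hM => hcon M hM)
    have htop : N ⊔ M = ⊤ :=
      hM.2 _ (lt_of_le_of_ne le_sup_right fun h => hNM (h.symm ▸ le_sup_left))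
    have hn : (N ⊓ M).Normal := by
      refine Subgroup.normalizer_eq_top_iff.mp (top_le_iff.mp (htop.ge.trans (sup_le ?_ ?_)))
      · intro l hl
        refine Subgroup.centralizer_le_normalizer _ (Subgroup.mem_centralizer_iff.mpr fun x hx => ?_)
        exact congrArg Subtype.val (mul_comm' (⟨x, hx.1⟩ : N) ⟨l, hl⟩)
      · exact Cfsg.Agent.Solv.le_normalizer_inf Subgroup.le_normalizer_of_normal Subgroup.le_normalizer
    have hinf : N ⊓ M = ⊥ :=
      (hmin _ hn inf_le_left).resolve_right fun h => hNM (h.ge.trans inf_le_right)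
    refine ⟨M, Subgroup.isComplement'_of_disjoint_and_mul_eq_univ (disjoint_iff.mpr hinf) ?_⟩
    rw [← Subgroup.normal_mul, htop]
    rfl

end Cfsg.Agent.S0053
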