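import Cfsg.Statements.S0054
import Cfsg.Agent.Lib.Solv.Basic

set_option autoImplicit false
open scoped Pointwise
open Cfsg

namespace Cfsg.Agent.S0054

/-- A regular normal subgroup of a finite 2-transitive group is elementary abelian: it is commutative and all its elements have order dividing one prime. -/
theorem result {G : Type*} [Group G] [Finite G]
    {X : Type*} [Nonempty X] [MulAction G X] (h2 : MulAction.IsMultiplyPretransitive G X 2)
    (N : Subgroup G) [N.Normal] (htrans : MulAction.IsPretransitive N X) (hreg : ∀ x : X, MulAction.stabilizer N x = ⊥) :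
    IsMulCommutative N ∧ ∃ p : ℕ, p.Prime ∧ ∀ n ∈ N, n ^ p = 1 := by
  rcases eq_or_ne N ⊥ with rfl | hNb
  · exact ⟨inferInstance, 2, Nat.prime_two, fun n hn => by rw [Subgroup.mem_bot.mp hn, one_pow]⟩
  obtain ⟨x⟩ := (inferInstance : Nonempty X)
  have hfree : ∀ n ∈ N, n • x = x → n = 1 := fun n hn e => by
    have h1 : (⟨n, hn⟩ : N) ∈ MulAction.stabilizer N x := MulAction.mem_stabilizer_iff.mpr e
    rw [hreg x, Subgroup.mem_bot] at h1
    exact congrArg Subtype.val h1
  have hconj : ∀ n ∈ N, n ≠ 1 → ∀ m ∈ N, m ≠ 1 → ∃ g : G, g * n * g⁻¹ = m := by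
    intro n hn hn1 m hm hm1
    obtain ⟨g, hg1, hg2⟩ := MulAction.is_two_pretransitive_iff.mp h2
      (show x ≠ n • x from fun e => hn1 (hfree n hn e.symm))
      (show x ≠ m • x from fun e => hm1 (hfree m hm e.symm))
    refine ⟨g, ?_⟩
    have h3 : (g * n * g⁻¹) • x = m • x := by
      rw [mul_smul, mul_smul, inv_smul_eq_iff.mpr hg1.symm, hg2]
    have h4 := hfree _ (N.mul_mem (N.inv_mem hm) (Subgroup.Normal.conj_mem inferInstance n hn g))
      (by rw [mul_smul, h3, inv_smul_smul])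
    exact (inv_mul_eq_one.mp h4).symm
  obtain ⟨p, hp, hpd⟩ := Nat.exists_prime_and_dvd (n := Nat.card N) fun h => hNb (Subgroup.eq_bot_of_card_eq N h)
  haveI := Fact.mk hp
  obtain ⟨⟨n0, hn0⟩, hn0o⟩ := exists_prime_orderOf_dvd_card' (G := N) p hpd
  have hn0p : n0 ^ p = 1 := by
    have := congrArg Subtype.val (pow_orderOf_eq_one (⟨n0, hn0⟩ : N))
    rwa [hn0o] at this
  have hn01 : n0 ≠ 1 := fun e => by
    have : (⟨n0, hn0⟩ : N) = 1 := Subtype.ext e
    rw [this, orderOf_one] at hn0o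
    exact hp.one_lt.ne hn0o
  have hexp : ∀ m ∈ N, m ^ p = 1 := by
    intro m hm
    by_cases hm1 : m = 1
    · rw [hm1, one_pow]
    obtain ⟨g, rfl⟩ := hconj n0 hn0 hn01 m hm hm1
    rw [conj_pow, hn0p, mul_one, mul_inv_cancel]
  refine ⟨?_, p, hp, hexp⟩
  have hNp : IsPGroup p N := fun m => ⟨1, by rw [pow_one]; exact Subtype.ext (hexp m m.2)⟩
  haveI : Nontrivial N := (Subgroup.nontrivial_iff_ne_bot N).mpr hNb
  haveI := hNp.center_nontrivial
  obtain ⟨⟨⟨z, hz⟩, hzc⟩, hz1⟩ := exists_ne (1 : Subgroup.center N)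
  refine ⟨⟨fun a b => ?_⟩⟩
  by_cases ha : (a : G) = 1
  · exact Subtype.ext (by simp [ha])
  obtain ⟨g, hg⟩ := hconj z hz (fun e => hz1 (Subtype.ext (Subtype.ext e))) a a.2 ha
  have hb' : g⁻¹ * (b : G) * g ∈ N := by
    simpa using Subgroup.Normal.conj_mem inferInstance (b : G) b.2 g⁻¹
  have h1 := congrArg Subtype.val (Subgroup.mem_center_iff.mp hzc ⟨_, hb'⟩)
  simp only [Subgroup.coe_mul] at h1
  apply Subtype.ext
  simp only [Subgroup.coe_mul]
  rw [← hg]
  calc g * z * g⁻¹ * b = g * (z * (g⁻¹ * b * g)) * g⁻¹ := by group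
    _ = g * (g⁻¹ * b * g * z) * g⁻¹ := by rw [h1]
    _ = b * (g * z * g⁻¹) := by group

end Cfsg.Agent.S0054
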