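import Cfsg.Statements.S0055
import Cfsg.Agent.Lib.Solv.Coprime

set_option autoImplicit false
open scoped Pointwise
open Cfsg

namespace Cfsg.Agent.S0055

/-- If A normalises an abelian subgroup V of coprime order, then V is the internal direct product of its A-fixed points and its commutator with A: the two meet trivially and generate V. -/
theorem result {G : Type*} [Group G] [Finite G] (A V : Subgroup G) [IsMulCommutative V]
    (hAV : A ≤ Subgroup.normalizer (V : Set G)) (hcop : (Nat.card A).Coprime (Nat.card V)) :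
    (V ⊓ Subgroup.centralizer (A : Set G)) ⊓ ⁅V, A⁆ = ⊥ ∧ (V ⊓ Subgroup.centralizer (A : Set G)) ⊔ ⁅V, A⁆ = V := by
  haveI : Group.IsSolvable V := Group.isSolvable_of_comm fun a b => mul_comm' a b
  refine ⟨?_, ?_⟩
  · classical
    haveI : Fintype A := Fintype.ofFinite _
    let cV : CommGroup V := { (inferInstance : Group V) with mul_comm := mul_comm' }
    let θ : V →* V :=
      { toFun := fun v => ∏ a : A, ⟨(a : G) * v * (a : G)⁻¹,
          (Subgroup.mem_normalizer_iff.mp (hAV a.2) v).mp v.2⟩
        map_one' := Finset.prod_eq_one fun a _ => Subtype.ext (by simp)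
        map_mul' := fun x y => by
          rw [← Finset.prod_mul_distrib]
          exact Finset.prod_congr rfl fun a _ => Subtype.ext (by simp [mul_assoc]) }
    have hle : ⁅V, A⁆ ≤ θ.ker.map V.subtype := by
      rw [Subgroup.commutator_le]
      intro v hv a ha
      have hmem : a * v⁻¹ * a⁻¹ ∈ V :=
        (Subgroup.mem_normalizer_iff.mp (hAV ha) _).mp (V.inv_mem hv)
      refine ⟨⟨v, hv⟩ * ⟨_, hmem⟩, ?_, by simp [commutatorElement_def, mul_assoc]⟩
      rw [SetLike.mem_coe, MonoidHom.mem_ker, map_mul]
      have hshift : θ ⟨_, hmem⟩ = θ ⟨v⁻¹, V.inv_mem hv⟩ := by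
        refine Fintype.prod_equiv (Equiv.mulRight (⟨a, ha⟩ : A)) _ _ fun b => Subtype.ext ?_
        simp [mul_assoc]
      rw [hshift, ← map_mul, show (⟨v, hv⟩ : V) * ⟨v⁻¹, V.inv_mem hv⟩ = 1 from
        Subtype.ext (mul_inv_cancel v), map_one]
    rw [eq_bot_iff]
    rintro x ⟨⟨hxV, hxC⟩, hx⟩
    obtain ⟨w, hw, rfl⟩ := hle hx
    have hfix : θ w = w ^ Nat.card A := by
      have h1 : ∀ a : A, (⟨(a : G) * w * (a : G)⁻¹,
          (Subgroup.mem_normalizer_iff.mp (hAV a.2) w).mp w.2⟩ : V) = w := fun a => Subtype.ext (by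
        rw [Subgroup.coe_mk, show (a : G) * w = w * a from Subgroup.mem_centralizer_iff.mp hxC a a.2]
        simp)
      change (∏ a : A, _) = _
      rw [Finset.prod_congr rfl fun a _ => h1 a, Finset.prod_const, Finset.card_univ,
        Nat.card_eq_fintype_card]
    rw [SetLike.mem_coe, MonoidHom.mem_ker, hfix] at hw
    have h2 : powCoprime hcop.symm w = powCoprime hcop.symm 1 := by
      rw [powCoprime_apply, powCoprime_apply, one_pow]; exact hw
    rw [(powCoprime hcop.symm).injective h2]
    simp
  · rw [sup_comm]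
    exact Cfsg.Agent.Solv.commutator_sup_centralizer A V hAV hcop (Or.inr inferInstance)

end Cfsg.Agent.S0055
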