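import Cfsg.Statements.S0057
import Cfsg.Agent.Lib.Solv.AbelianAction
import Cfsg.Agent.Lib.Solv.Misc

set_option autoImplicit false
open scoped Pointwise commutatorElement
open Cfsg

namespace Cfsg.Agent.S0057

/-- Under coprime action, if the centraliser of A in K has prime index p in K then the commutator subgroup [K, A] has order exactly p. -/
theorem result {G : Type*} [Group G] [Finite G] (A K : Subgroup G) (hAK : A ≤ Subgroup.normalizer (K : Set G))
    (hcop : (Nat.card A).Coprime (Nat.card K)) (hsolv : Group.IsSolvable A ∨ Group.IsSolvable K)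
    (p : ℕ) (hp : p.Prime) (hidx : (K ⊓ Subgroup.centralizer (A : Set G)).relIndex K = p) :
    Nat.card (⁅K, A⁆ : Subgroup G) = p := by
  haveI := Fact.mk hp
  set C := K ⊓ Subgroup.centralizer (A : Set G) with hC
  obtain ⟨P0, hP0⟩ := Cfsg.Agent.Solv.exists_invariant_sylow A K hAK hcop hsolv p
  set P := (P0 : Subgroup K).map K.subtype with hP
  have hPK : P ≤ K := Subgroup.map_subtype_le _
  have hPp : IsPGroup p P := P0.isPGroup'.map _
  set D := P ⊓ C with hD
  have hDA : A ≤ Subgroup.centralizer (D : Set G) :=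
    Subgroup.le_centralizer_iff.mp (inf_le_right.trans inf_le_right)
  have hidx' : C.relIndex P = p := by
    have h1 : C.relIndex P ≤ p := hidx ▸ Subgroup.relIndex_le_of_le_right hPK Subgroup.index_ne_zero_of_finite
    obtain ⟨j, hj⟩ : ∃ j, C.relIndex P = p ^ j := by
      obtain ⟨k, hk⟩ := IsPGroup.iff_card.mp hPp
      obtain ⟨j, -, hj⟩ := (Nat.dvd_prime_pow hp).mp (hk ▸ Subgroup.index_dvd_card (C.subgroupOf P))
      exact ⟨j, hj⟩
    rcases j with _ | _ | j
    · exfalso
      have h2 : P ≤ C := Subgroup.relIndex_eq_one.mp (by rw [hj, pow_zero])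
      have h3 : C.relIndex K ∣ P.relIndex K := Subgroup.relIndex_dvd_of_le_left _ h2
      have h4 : P.relIndex K = (P0 : Subgroup K).index := by
        rw [hP]
        change (((P0 : Subgroup K).map K.subtype).subgroupOf K).index = _
        congr 1
        exact Subgroup.comap_map_eq_self_of_injective K.subtype_injective _
      rw [hidx, h4] at h3
      exact P0.not_dvd_index h3
    · rw [hj, pow_one]
    · rw [hj] at h1
      have : p < p ^ (j + 2) := by
        calc p = p ^ 1 := (pow_one p).symm
          _ < p ^ (j + 2) := Nat.pow_lt_pow_right hp.one_lt (by omega)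
      exact absurd (lt_of_lt_of_le this h1) (lt_irrefl p)
  have hDidx : D.relIndex P = p := by rw [hD, Subgroup.inf_relIndex_left, hidx']
  have hDn : (D.subgroupOf P).Normal := by
    haveI := hPp.isNilpotent
    refine Cfsg.Agent.Solv.coatom_normal_of_isNilpotent inferInstance _ ?_
    refine ⟨fun h => hp.one_lt.ne ?_, fun L hL => ?_⟩
    · rw [← hDidx]; change 1 = (D.subgroupOf P).index; rw [h, Subgroup.index_top]
    · have h1 : L.index ∣ p := by
        rw [← hDidx]; exact Subgroup.index_dvd_of_le hL.le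
      rcases hp.eq_one_or_self_of_dvd _ h1 with h2 | h2
      · exact Subgroup.index_eq_one.mp h2
      · exfalso
        refine hL.ne (Subgroup.eq_of_le_of_card_ge hL.le (le_of_eq ?_))
        have e1 := L.card_mul_index
        have e2 := (D.subgroupOf P).card_mul_index
        rw [h2] at e1
        change Nat.card ↥(D.subgroupOf P) * D.relIndex P = _ at e2
        rw [hDidx] at e2
        exact Nat.eq_of_mul_eq_mul_right hp.pos (e1.trans e2.symm)
  have hPD : P ≤ Subgroup.normalizer (D : Set G) :=
    (Subgroup.normal_subgroupOf_iff_le_normalizer inf_le_left).mp hDn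
  set W := P ⊓ Subgroup.centralizer (D : Set G) with hW
  have hPA : ⁅P, A⁆ ≤ W := by
    refine le_inf (Cfsg.Agent.Solv.commutator_normalizer_le A P hP0) ?_
    rw [← Subgroup.commutator_eq_bot_iff_le_centralizer]
    refine Subgroup.commutator_commutator_eq_bot_of_rotate ?_ ?_
    · rw [Subgroup.commutator_eq_bot_iff_le_centralizer.mpr hDA, Subgroup.commutator_bot_left]
    · rw [Subgroup.commutator_eq_bot_iff_le_centralizer]
      exact (Subgroup.le_normalizer_iff_commutator_le_left.mp hPD).trans (inf_le_right.trans inf_le_right)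
  have hWA : A ≤ Subgroup.normalizer (W : Set G) :=
    Cfsg.Agent.Solv.le_normalizer_inf hP0 (hDA.trans Subgroup.le_normalizer)
  haveI hWc : IsMulCommutative W := by
    haveI := hDn
    let g : W →* P ⧸ D.subgroupOf P := (QuotientGroup.mk' _).comp (Subgroup.inclusion inf_le_left)
    haveI : IsCyclic (P ⧸ D.subgroupOf P) := isCyclic_of_prime_card (p := p) (by
      rw [← Subgroup.index_eq_card]; exact hDidx)
    refine ⟨⟨commutative_of_cyclic_center_quotient g fun x hx => Subgroup.mem_center_iff.mpr fun y => Subtype.ext ?_⟩⟩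
    have hxD : (x : G) ∈ D := by
      have := (QuotientGroup.eq_one_iff (Subgroup.inclusion (inf_le_left : W ≤ P) x)).mp hx
      exact this
    exact (y.2.2 (x : G) hxD).symm
  have hcopP : (Nat.card A).Coprime (Nat.card P) := hcop.coprime_dvd_right (Subgroup.card_dvd_of_le hPK)
  have hsolP : Group.IsSolvable A ∨ Group.IsSolvable P := Or.inr (haveI := hPp.isNilpotent; inferInstance)
  have heq : ⁅P, A⁆ = ⁅W, A⁆ := by
    refine le_antisymm ?_ (Subgroup.commutator_mono inf_le_left le_rfl)
    conv_lhs => rw [← Cfsg.Agent.Solv.commutator_commutator_eq A P hP0 hcopP hsolP]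
    exact Subgroup.commutator_mono hPA le_rfl
  have hcW : (Nat.card A).Coprime (Nat.card W) := hcopP.coprime_dvd_right (Subgroup.card_dvd_of_le inf_le_left)
  have hcard := Cfsg.Agent.Solv.card_commutator_mul_centralizer A W hWA hcW
  have hle : Nat.card ↥⁅P, A⁆ ≤ p := by
    rw [heq]
    refine Nat.le_of_mul_le_mul_right (c := Nat.card ↥(W ⊓ Subgroup.centralizer (A : Set G))) ?_ Nat.card_pos
    rw [hcard]
    have e := ((Subgroup.centralizer (A : Set G)).subgroupOf W).card_mul_index
    rw [← Subgroup.inf_subgroupOf_right, inf_comm, Cfsg.Agent.Solv.card_subgroupOf inf_le_left] at e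
    rw [← e, mul_comm p]
    refine Nat.mul_le_mul_left _ ?_
    change (W ⊓ Subgroup.centralizer (A : Set G)).relIndex W ≤ p
    rw [Subgroup.inf_relIndex_left, ← hidx']
    have hCK : C.relIndex P = (Subgroup.centralizer (A : Set G)).relIndex P := by
      rw [hC, inf_comm K, ← Subgroup.inf_relIndex_right (Subgroup.centralizer (A : Set G) ⊓ K) P, inf_assoc, inf_eq_right.mpr hPK, Subgroup.inf_relIndex_right]
    rw [hCK]
    exact Subgroup.relIndex_le_of_le_right inf_le_left Subgroup.index_ne_zero_of_finite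
  have hne : ⁅P, A⁆ ≠ ⊥ := fun h => by
    have hPC : P ≤ C := le_inf hPK (Subgroup.commutator_eq_bot_iff_le_centralizer.mp h)
    rw [Subgroup.relIndex_eq_one.mpr hPC] at hidx'
    exact hp.one_lt.ne hidx'
  have hPAcard : Nat.card ↥⁅P, A⁆ = p := by
    obtain ⟨j, hj⟩ := IsPGroup.iff_card.mp (hPp.to_le (Cfsg.Agent.Solv.commutator_normalizer_le A P hP0))
    rcases j with _ | j
    · exact absurd (Subgroup.card_eq_one.mp (by rw [hj, pow_zero])) hne
    · refine le_antisymm hle (hj ▸ ?_)
      exact Nat.le_self_pow (Nat.succ_ne_zero j) p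
  suffices h : ⁅K, A⁆ = ⁅P, A⁆ by rw [h, hPAcard]
  refine le_antisymm (Subgroup.commutator_le.mpr fun k hk a ha => ?_) (Subgroup.commutator_mono hPK le_rfl)
  obtain ⟨x, hx, c, hc, he⟩ := Cfsg.Agent.Solv.exists_mul_eq_of_relIndex (P.subgroupOf K) (C.subgroupOf K) (by
    rw [Subgroup.relIndex_subgroupOf hPK, hidx']; exact hidx.symm) ⟨k, hk⟩
  have he' : k = (x : G) * c := congrArg Subtype.val he
  have hca : a * (c : G) = (c : G) * a := (hc : (c : G) ∈ C).2 a ha
  have : ⁅k, a⁆ = ⁅(x : G), a⁆ := by
    rw [he', commutatorElement_def, commutatorElement_def, mul_inv_rev]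
    calc (x : G) * c * a * ((c : G)⁻¹ * (x : G)⁻¹) * a⁻¹ = x * (c * a) * (c : G)⁻¹ * (x : G)⁻¹ * a⁻¹ := by group
      _ = x * a * (x : G)⁻¹ * a⁻¹ := by rw [← hca]; group
  rw [this]
  exact Subgroup.commutator_mem_commutator hx ha

end Cfsg.Agent.S0057
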