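import Cfsg.Statements.S0058
import Cfsg.Agent.Lib.Solv.AbelianAction
import Cfsg.Agent.Lib.Solv.Misc

set_option autoImplicit false
open scoped Pointwise commutatorElement
open Cfsg

namespace Cfsg.Agent.S0058

/-- Generation by centralisers: when a noncyclic abelian group A normalises K with coprime orders, K is generated by the fixed-point subgroups of the nonidentity elements of A. -/
theorem result {G : Type*} [Group G] [Finite G] (A K : Subgroup G)
    [IsMulCommutative A] (hA : ¬ IsCyclic A) (hAK : A ≤ Subgroup.normalizer (K : Set G)) (hcop : (Nat.card A).Coprime (Nat.card K)) :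
    (⨆ a ∈ {a : G | a ∈ A ∧ a ≠ 1}, K ⊓ Subgroup.centralizer {a}) = K := by
  classical
  have hsolv : Group.IsSolvable A ∨ Group.IsSolvable K := Or.inl (Group.isSolvable_of_comm fun a b => mul_comm' a b)
  set J := ⨆ a ∈ {a : G | a ∈ A ∧ a ≠ 1}, K ⊓ Subgroup.centralizer {a} with hJ
  have hJK : J ≤ K := iSup₂_le fun _ _ => inf_le_left
  letI : CommGroup A := { (inferInstance : Group A) with mul_comm := fun a b => mul_comm' a b }
  obtain ⟨r, hr, hgt⟩ := Cfsg.Agent.Solv.exists_card_powKer_gt hA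
  haveI := Fact.mk hr
  set R := (powMonoidHom r : A →* A).ker with hR
  have hRp : IsPGroup r R := fun x => ⟨1, Subtype.ext (by rw [pow_one]; exact x.2)⟩
  obtain ⟨k, hk⟩ := IsPGroup.iff_card.mp hRp
  have hk2 : 2 ≤ k := by
    by_contra h
    interval_cases k
    · rw [hk, pow_zero] at hgt; exact absurd hgt (not_lt.mpr hr.pos)
    · rw [hk, pow_one] at hgt; exact lt_irrefl _ hgt
  obtain ⟨E, hE⟩ := Sylow.exists_subgroup_card_pow_prime r (G := R) (n := 2) (hk ▸ pow_dvd_pow r hk2)
  obtain ⟨ι, _, _, B, hpart, hcard, hne⟩ := Cfsg.Agent.Solv.exists_partition_of_card_sq hE (fun e => Subtype.ext (Subtype.ext (e : R).2))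
  haveI := Fintype.ofFinite E
  have hrd : r ∣ Nat.card A := by
    refine dvd_trans ?_ (Subgroup.card_subgroup_dvd_card R)
    rw [hk]; exact dvd_pow_self r (by omega)
  suffices hQ : ∀ Q : Subgroup G, Q ≤ K → A ≤ Subgroup.normalizer (Q : Set G) → Group.IsNilpotent Q → Q ≤ J by
    refine le_antisymm hJK ?_
    suffices hidx : J.relIndex K = 1 from Subgroup.relIndex_eq_one.mp hidx
    by_contra hne
    obtain ⟨q, hq, hqd⟩ := Nat.exists_prime_and_dvd hne
    haveI := Fact.mk hq
    obtain ⟨Q, hQA⟩ := Cfsg.Agent.Solv.exists_invariant_sylow A K hAK hcop hsolv q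
    have hle := hQ _ (Subgroup.map_subtype_le _) hQA (Q.isPGroup'.map _).isNilpotent
    refine Q.not_dvd_index (hqd.trans ?_)
    refine (Subgroup.relIndex_dvd_of_le_left K hle).trans (dvd_of_eq ?_)
    change (((Q : Subgroup K).map K.subtype).subgroupOf K).index = _
    congr 1
    exact Subgroup.comap_map_eq_self_of_injective K.subtype_injective _
  intro Q
  induction Q using WellFoundedLT.induction with
  | _ Q ih =>
    intro hQK hQA hQn
    rcases eq_or_ne Q ⊥ with rfl | hQ0
    · exact bot_le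
    set D := ⁅Q, Q⁆ with hD
    have hDQ : D < Q := Cfsg.Agent.Solv.commutator_lt_of_nilpotent hQn le_rfl Subgroup.le_normalizer hQ0
    have hDA : A ≤ Subgroup.normalizer (D : Set G) := (le_inf hQA hQA).trans (Cfsg.Agent.Solv.normalizer_le_normalizer_commutator Q Q)
    have hDJ : D ≤ J := ih D hDQ (hDQ.le.trans hQK) hDA (haveI := hQn; (Group.isNilpotent_congr (Subgroup.subgroupOfEquivOfLe hDQ.le)).mp (Subgroup.isNilpotent _))
    set N := Subgroup.normalizer (D : Set G) with hN
    have hQN : Q ≤ N := (le_inf Subgroup.le_normalizer Subgroup.le_normalizer).trans (Cfsg.Agent.Solv.normalizer_le_normalizer_commutator Q Q)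
    let f := QuotientGroup.mk' (D.subgroupOf N)
    set V := (Q.subgroupOf N).map f with hV
    set A' := (A.subgroupOf N).map f with hA'
    have hA'V : A' ≤ Subgroup.normalizer (V : Set _) := by
      refine le_trans (Subgroup.map_mono ?_) (Subgroup.le_normalizer_map f)
      exact (Subgroup.comap_mono hQA).trans (Subgroup.le_normalizer_comap N.subtype)
    haveI : IsMulCommutative V := by
      refine ⟨⟨?_⟩⟩
      rintro ⟨_, u, hu, rfl⟩ ⟨_, w, hw, rfl⟩
      apply Subtype.ext
      change f u * f w = f w * f u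
      rw [← commutatorElement_eq_one_iff_mul_comm, ← map_commutatorElement]
      exact (QuotientGroup.eq_one_iff _).mpr (Subgroup.commutator_mem_commutator (G := G) hu hw)
    letI : CommGroup V := { (inferInstance : Group V) with mul_comm := fun a b => mul_comm' a b }
    let g : E →* A' := (f.comp ((Subgroup.inclusion hDA).comp (R.subtype.comp E.subtype))).codRestrict A' (fun e => ⟨Subgroup.inclusion hDA ((e : R) : A), ((e : R) : A).2, rfl⟩)
    let φ : E →* MulAut V := (Cfsg.Agent.Solv.conjHom A' V hA'V).comp g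
    have hQD : ∀ e : E, e ≠ 1 → ∀ x : N, ∀ hx : (x : G) ∈ Q, ((Cfsg.Agent.Solv.conjHom A' V hA'V) (g e) ⟨f x, x, hx, rfl⟩ : V) = ⟨f x, x, hx, rfl⟩ → (x : G) ∈ J := by
      intro e he x hx hfix
      set a : G := (((e : R) : A) : G) with ha
      have hae : a ∈ A := ((e : R) : A).2
      have ha1 : a ≠ 1 := fun h => he (Subtype.ext (Subtype.ext (Subtype.ext h)))
      have hfixD : a * x * a⁻¹ * (x : G)⁻¹ ∈ D := by
        have h1 := congrArg Subtype.val hfix
        rw [Cfsg.Agent.Solv.conjHom_apply] at h1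
        have h2 : f (Subgroup.inclusion hDA ((e : R) : A) * x * (Subgroup.inclusion hDA ((e : R) : A))⁻¹ * x⁻¹) = 1 := by
          rw [map_mul, map_mul, map_mul, map_inv, map_inv, mul_inv_eq_one]
          exact h1
        exact (QuotientGroup.eq_one_iff (N := D.subgroupOf N) _).mp h2
      have haN : Subgroup.zpowers a ≤ A := Subgroup.zpowers_le.mpr hae
      have hcopz : (Nat.card (Subgroup.zpowers a)).Coprime (Nat.card Q) :=
        (hcop.coprime_dvd_left (Subgroup.card_dvd_of_le haN)).coprime_dvd_right (Subgroup.card_dvd_of_le hQK)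
      obtain ⟨c, hc, hxc⟩ := Cfsg.Agent.Solv.exists_centralizer_lift (Subgroup.zpowers a) Q (haN.trans hQA) hcopz
        (Or.inr (haveI := hQn; inferInstance)) D hDQ.le hQN (haN.trans hDA) x hx (fun b hb => by
          let S0 : Submonoid G :=
            { carrier := {b | b ∈ N ∧ b * x * b⁻¹ * (x : G)⁻¹ ∈ D}
              one_mem' := ⟨N.one_mem, by simp⟩
              mul_mem' := fun {b b'} hb hb' => ⟨N.mul_mem hb.1 hb'.1, by
                have h3 := D.mul_mem ((Subgroup.mem_normalizer_iff.mp hb.1 _).mp hb'.2) hb.2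
                simpa [mul_assoc] using h3⟩ }
          let S1 : Subgroup G :=
            { S0 with
              inv_mem' := fun {b} hb => ⟨N.inv_mem hb.1, by
                have h3 := (Subgroup.mem_normalizer_iff.mp (N.inv_mem hb.1) _).mp (D.inv_mem hb.2)
                simpa [mul_assoc] using h3⟩ }
          have hle : Subgroup.zpowers a ≤ S1 := Subgroup.zpowers_le.mpr ⟨hDA hae, hfixD⟩
          exact (hle hb).2)
      have hcJ : c ∈ J := by
        refine le_iSup₂ (f := fun a (_ : a ∈ {a : G | a ∈ A ∧ a ≠ 1}) => K ⊓ Subgroup.centralizer {a}) a ⟨hae, ha1⟩ ⟨hQK hc.1, ?_⟩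
        exact Subgroup.mem_centralizer_singleton_iff.mpr (hc.2 a (Subgroup.mem_zpowers a)).symm
      have h4 := J.mul_mem hcJ (J.inv_mem (hDJ hxc))
      simpa using h4
    intro x hx
    have hxN : x ∈ N := hQN hx
    set v : V := ⟨f ⟨x, hxN⟩, ⟨x, hxN⟩, hx, rfl⟩ with hv
    have key := Cfsg.Agent.Solv.orbitProd_partition φ B hpart v
    rw [hcard, Nat.add_sub_cancel] at key
    let J' : Subgroup V := ((J.subgroupOf N ⊓ Q.subgroupOf N).map f).subgroupOf V
    have hmemJ : ∀ (C : Subgroup E) (e : E), e ≠ 1 → e ∈ C → Cfsg.Agent.Solv.orbitProd φ C v ∈ J' := by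
      intro C e he heC
      obtain ⟨y, hy, hye⟩ := (Cfsg.Agent.Solv.orbitProd φ C v).2
      have hfx : φ e ⟨f y, y, hy, rfl⟩ = ⟨f y, y, hy, rfl⟩ := by
        have : (⟨f y, y, hy, rfl⟩ : V) = Cfsg.Agent.Solv.orbitProd φ C v := Subtype.ext hye
        rw [this, Cfsg.Agent.Solv.orbitProd_fixed φ C v heC]
      exact ⟨y, ⟨hQD e he y hy hfx, hy⟩, hye⟩
    obtain ⟨e0, he0⟩ : ∃ e : E, e ≠ 1 := by
      obtain ⟨b, hb1, -⟩ := hne (Classical.arbitrary ι)
      exact ⟨b, hb1⟩
    have hpowJ : v ^ r ∈ J' := by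
      have h1 : ∏ i, Cfsg.Agent.Solv.orbitProd φ (B i) v ∈ J' := prod_mem fun i _ => by
        obtain ⟨b, hb1, hb⟩ := hne i
        exact hmemJ _ b hb1 hb
      rw [key] at h1
      exact (J'.mul_mem_cancel_left (hmemJ ⊤ e0 he0 (Subgroup.mem_top _))).mp h1
    have hcopv : (orderOf v).Coprime r := by
      refine Nat.Coprime.coprime_dvd_left ?_ ((hcop.coprime_dvd_left hrd).symm)
      refine (orderOf_dvd_natCard v).trans ?_
      refine (Subgroup.card_map_dvd _ _).trans ?_
      rw [Cfsg.Agent.Solv.card_subgroupOf hQN]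
      exact Subgroup.card_dvd_of_le hQK
    obtain ⟨m, hm⟩ := exists_pow_eq_self_of_coprime hcopv.symm
    have hvJ : v ∈ J' := hm ▸ J'.pow_mem hpowJ m
    obtain ⟨y, hy, hye⟩ := hvJ
    have h5 : (y : G)⁻¹ * x ∈ D := (QuotientGroup.eq (s := D.subgroupOf N) (a := y) (b := ⟨x, hxN⟩)).mp hye
    simpa using J.mul_mem hy.1 (hDJ h5)

end Cfsg.Agent.S0058
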