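import Cfsg.Statements.S0060
import Cfsg.Agent.Lib.Solv.Misc

set_option autoImplicit false
open Pointwise
open Cfsg

namespace Cfsg.Agent.S0060

/-- Brodkey's Theorem: in a finite group with abelian Sylow p-subgroups and no nontrivial normal p-subgroup, some conjugate of a Sylow p-subgroup meets it trivially. -/
theorem result {G : Type*} [Group G] [Finite G] (p : ℕ) [Fact p.Prime]
    (S : Sylow p G) (hS : IsMulCommutative S) (hOp : Cfsg.pCore p G = ⊥) :
    ∃ g : G, (S : Subgroup G) ⊓ MulAut.conj g • (S : Subgroup G) = ⊥ := by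
  obtain ⟨T, hT, hmin⟩ := Set.exists_min_image (Set.univ : Set (Sylow p G))
    (fun T => Nat.card ↥((S : Subgroup G) ⊓ (T : Subgroup G))) (Set.toFinite _) ⟨S, trivial⟩
  set D := (S : Subgroup G) ⊓ (T : Subgroup G) with hD
  obtain ⟨t, htS⟩ := MulAction.exists_smul_eq G S T
  have hTab : IsMulCommutative ↥(T : Subgroup G) := by
    rw [← htS, Sylow.coe_subgroup_smul]
    haveI := hS
    exact Subgroup.map_isMulCommutative _ _
  set N := Subgroup.normalizer (D : Set G) with hN
  have hSN : (S : Subgroup G) ≤ N := le_trans (Subgroup.le_centralizer_iff.mp ((inf_le_left : D ≤ _).trans (haveI := hS; Subgroup.le_centralizer _))) (Subgroup.centralizer_le_normalizer _)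
  have hTN : (T : Subgroup G) ≤ N := le_trans (Subgroup.le_centralizer_iff.mp ((inf_le_right : D ≤ _).trans (haveI := hTab; Subgroup.le_centralizer _))) (Subgroup.centralizer_le_normalizer _)
  have key : D ≤ Cfsg.pCore p G := by
    rw [Cfsg.Agent.Solv.pCore_eq_iInf_sylow]
    refine le_iInf fun R => ?_
    obtain ⟨SN, hSNe⟩ : ∃ Q : Sylow p N, (Q : Subgroup N) = (S : Subgroup G).subgroupOf N := ⟨S.subtype hSN, rfl⟩
    obtain ⟨Q, hQ⟩ := (R.isPGroup'.comap_subtype (K := N)).exists_le_sylow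
    obtain ⟨x, hx⟩ := MulAction.exists_smul_eq N Q SN
    have hle : ∀ r ∈ ((x : G) • R : Sylow p G), r ∈ (T : Subgroup G) → r ∈ D := by
      intro r hr hrT
      refine ⟨?_, hrT⟩
      have hrN : r ∈ N := hTN hrT
      have h1 : (⟨r, hrN⟩ : N) ∈ x • Q := by
        change r ∈ (((x : G) • R : Sylow p G) : Subgroup G) at hr
        change (⟨r, hrN⟩ : N) ∈ ((x • Q : Sylow p N) : Subgroup N)
        rw [Sylow.coe_subgroup_smul] at hr ⊢
        rw [Cfsg.Agent.Solv.mem_conj_smul] at hr ⊢
        exact hQ hr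
      rw [hx] at h1
      change (⟨r, hrN⟩ : N) ∈ (SN : Subgroup N) at h1
      rw [hSNe] at h1
      exact h1
    have hsub : ((x : G) • R : Sylow p G).1 ⊓ (T : Subgroup G) ≤ D := fun r hr => hle r hr.1 hr.2
    obtain ⟨s, hs⟩ := MulAction.exists_smul_eq G ((x : G) • R) S
    have hcard : Nat.card D ≤ Nat.card ↥(((x : G) • R : Sylow p G).1 ⊓ (T : Subgroup G)) := by
      refine (hmin (s • T) trivial).trans_eq ?_
      rw [show (S : Subgroup G) ⊓ ((s • T : Sylow p G) : Subgroup G) = MulAut.conj s • (((x : G) • R : Sylow p G).1 ⊓ (T : Subgroup G)) by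
        rw [Subgroup.smul_inf, ← Sylow.coe_subgroup_smul, ← Sylow.coe_subgroup_smul, hs]]
      exact Cfsg.Agent.Solv.card_conj_smul _ _
    have heq := Subgroup.eq_of_le_of_card_ge hsub hcard
    intro d hd
    have h2 : (x : G) * d * (x : G)⁻¹ ∈ D := (Subgroup.mem_normalizer_iff.mp x.2 d).mp hd
    rw [← heq] at h2
    have h3 := h2.1
    rw [Sylow.coe_subgroup_smul] at h3
    replace h3 := Cfsg.Agent.Solv.mem_conj_smul.mp h3
    simpa [mul_assoc] using h3
  refine ⟨t, le_bot_iff.mp ?_⟩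
  rw [← Sylow.coe_subgroup_smul, htS, ← hOp]
  exact key

end Cfsg.Agent.S0060
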