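import Cfsg.Statements.S0063
import Cfsg.Agent.Lib.Solv.Misc

set_option autoImplicit false
open scoped Pointwise
open Cfsg

namespace Cfsg.Agent.S0063

/-- A finite group of prime-power order p ^ m with m > 1 is nilpotent of class at most m - 1. -/
theorem result {G : Type*} [Group G] [Finite G] (p m : ℕ) [Fact p.Prime]
    (hG : Nat.card G = p ^ m) (hm : 1 < m) : Group.nilpotencyClass G ≤ m - 1 := by
  suffices H : ∀ (m : ℕ) (G : Type u_1) [Group G] [Finite G], Nat.card G = p ^ m → Group.nilpotencyClass G ≤ max 1 (m - 1) by
    have := H m G hG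
    omega
  clear hG hm m
  intro m
  induction m using Nat.strong_induction_on with
  | _ m ih =>
    intro G _ _ hG
    haveI : Group.IsNilpotent G := (IsPGroup.of_card hG).isNilpotent
    by_cases hc : IsMulCommutative G
    · exact (Group.IsNilpotent.nilpotencyClass_le_one_iff.mpr hc).trans (le_max_left _ _)
    have hncy : ¬ IsCyclic (G ⧸ Subgroup.center G) := fun h =>
      hc ⟨⟨fun a b => commutative_of_cyclic_center_quotient (QuotientGroup.mk' (Subgroup.center G))
        (by rw [QuotientGroup.ker_mk']) a b⟩⟩
    haveI : Nontrivial G := not_subsingleton_iff_nontrivial.mp fun h => hc ⟨⟨fun a b => Subsingleton.elim _ _⟩⟩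
    obtain ⟨k, hk, hkc⟩ := (Nat.dvd_prime_pow (Fact.out : p.Prime)).mp (hG ▸ (Subgroup.center G).card_quotient_dvd_card)
    have hkm : k < m := by
      refine lt_of_le_of_ne hk fun h => ?_
      have h2 := Subgroup.card_eq_card_quotient_mul_card_subgroup (Subgroup.center G)
      rw [hG, hkc, h] at h2
      have h3 : 1 < Nat.card (Subgroup.center G) := by
        rw [Finite.one_lt_card_iff_nontrivial]
        exact IsPGroup.center_nontrivial (IsPGroup.of_card hG)
      have : 0 < p ^ m := pow_pos (Fact.out : p.Prime).pos m
      nlinarith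
    have hk2 : 2 ≤ k := by
      rcases k with _ | _ | k
      · exact absurd (isCyclic_of_card_dvd_prime (p := p) (by rw [hkc, pow_zero]; exact one_dvd _)) hncy
      · exact absurd (isCyclic_of_prime_card (p := p) (by rw [hkc, pow_one])) hncy
      · omega
    have := ih k hkm (G ⧸ Subgroup.center G) hkc
    have h5 := Group.nilpotencyClass_eq_quotient_center_plus_one (G := G)
    omega

end Cfsg.Agent.S0063
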