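import Cfsg.Statements.S0064
import Cfsg.Agent.Lib.Solv.Misc

set_option autoImplicit false
open scoped Pointwise
open Cfsg

namespace Cfsg.Agent.S0064

/-- A finite group is nilpotent exactly when each of its subgroups is subnormal. -/
theorem result {G : Type*} [Group G] [Finite G] :
    Group.IsNilpotent G ↔ ∀ H : Subgroup G, H.IsSubnormal := by
  constructor
  · intro h H
    induction H using WellFoundedGT.induction with
    | _ H ih =>
      by_cases hH : H = ⊤
      · subst hH; exact Subgroup.IsSubnormal.top
      · exact Subgroup.IsSubnormal.step H (Subgroup.normalizer (H : Set G)) Subgroup.le_normalizer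
          (ih _ (Group.normalizerCondition_of_isNilpotent H (lt_top_iff_ne_top.mpr hH)))
          Subgroup.normal_in_normalizer
  · intro h
    refine ((Group.isNilpotent_of_finite_tfae (G := G)).out 0 2 rfl rfl).mpr fun M hM => ?_
    obtain ⟨K, hKn, hle, hlt⟩ := ((h M).lt_normal).resolve_left hM.1
    have : M = K := hle.eq_or_lt.resolve_right fun h1 => hlt.ne (hM.2 K h1)
    exact this ▸ hKn

end Cfsg.Agent.S0064
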