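import Cfsg.Statements.S0069
import Cfsg.Agent.Lib.Struct.FpfCenter

set_option autoImplicit false
open Cfsg
open Cfsg.Agent.Struct
namespace Cfsg.Agent.S0069

/-- A Frobenius complement has nontrivial centre: if H ≠ 1 complements a nontrivial normal subgroup K and every nonidentity element of H has trivial centraliser in K, then the centre of H is nontrivial. -/
theorem result {G : Type*} [Group G] [Finite G] (K H : Subgroup G) [K.Normal]
    (hc : Subgroup.IsComplement' K H) (hK : K ≠ ⊥) (hH : H ≠ ⊥) (hfpf : ∀ h ∈ H, h ≠ 1 → K ⊓ Subgroup.centralizer {h} = ⊥) :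
    Subgroup.center H ≠ ⊥ := by
  by_cases h2 : 2 ∣ Nat.card H
  · obtain ⟨⟨s, hs, hs2, huniq, -⟩, -⟩ := Cfsg.Agent.S0068.result K H hc hK hfpf h2
    intro hbot
    have hmem : (⟨s, hs⟩ : H) ∈ Subgroup.center H := by
      refine Subgroup.mem_center_iff.2 fun g => ?_
      have h := huniq ((g : G) * s * (g : G)⁻¹) (mul_mem (mul_mem g.2 hs) (inv_mem g.2))
        ((orderOf_injective (MulAut.conj (g : G) : G ≃* G).toMonoidHom
          (MulAut.conj (g : G)).injective s).trans hs2)
      exact Subtype.ext (mul_inv_eq_iff_eq_mul.1 h)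
    rw [hbot, Subgroup.mem_bot] at hmem
    have : s = 1 := congrArg Subtype.val hmem
    rw [this, orderOf_one] at hs2
    norm_num at hs2
  · exact Frobenius.center_ne_bot_of_odd hK (fun a _ => by rw [Subgroup.normalizer_eq_top]; trivial)
      (Frobenius.coprime_kernel_complement hc hK hfpf) hfpf hH h2

end Cfsg.Agent.S0069
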