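import Cfsg.Statements.S0070
import Cfsg.Agent.Lib.Solv.Misc

set_option autoImplicit false
open scoped Pointwise
open Cfsg

namespace Cfsg.Agent.S0070

/-- The Fitting subgroup commutes with passing to the Frattini quotient: the Fitting subgroup of G modulo its Frattini subgroup is the image of the Fitting subgroup of G. -/
theorem result {G : Type*} [Group G] [Finite G] :
    Cfsg.fittingSubgroup (G ⧸ frattini G) = (Cfsg.fittingSubgroup G).map (QuotientGroup.mk' (frattini G)) := by
  set f := QuotientGroup.mk' (frattini G) with hf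
  refine le_antisymm ?_ ?_
  · set A := (Cfsg.fittingSubgroup (G ⧸ frattini G)).comap f with hA
    have hle : frattini G ≤ A := fun x hx => by
      rw [hA, Subgroup.mem_comap, hf, QuotientGroup.mk'_apply, (QuotientGroup.eq_one_iff x).mpr hx]
      exact one_mem _
    haveI : A.Normal := Subgroup.Normal.comap inferInstance f
    have hnil : Group.IsNilpotent (↥A ⧸ (frattini G).subgroupOf A) := by
      let g : A →* Cfsg.fittingSubgroup (G ⧸ frattini G) := f.subgroupComap _
      have hg : Function.Surjective g := fun ⟨y, hy⟩ => by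
        obtain ⟨x, rfl⟩ := QuotientGroup.mk'_surjective _ y
        exact ⟨⟨x, hy⟩, rfl⟩
      have hk : g.ker = (frattini G).subgroupOf A := by
        ext x
        rw [MonoidHom.mem_ker, Subgroup.mem_subgroupOf, ← QuotientGroup.eq_one_iff, Subtype.ext_iff]
        rfl
      exact (Group.isNilpotent_congr ((QuotientGroup.quotientMulEquivOfEq hk.symm).trans
        (QuotientGroup.quotientKerEquivOfSurjective g hg))).mpr (Cfsg.Agent.Solv.fittingSubgroup_isNilpotent _)
    have hAF : A ≤ Cfsg.fittingSubgroup G := Cfsg.Agent.Solv.le_fittingSubgroup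
      (Cfsg.Agent.Solv.isNilpotent_of_quotient_frattini A (frattini G) hle le_rfl hnil)
    intro y hy
    obtain ⟨x, rfl⟩ := QuotientGroup.mk'_surjective _ y
    exact ⟨x, hAF hy, rfl⟩
  · haveI := Cfsg.Agent.Solv.fittingSubgroup_normal G
    haveI : ((Cfsg.fittingSubgroup G).map f).Normal := Subgroup.Normal.map inferInstance _ (QuotientGroup.mk'_surjective _)
    haveI := Cfsg.Agent.Solv.fittingSubgroup_isNilpotent G
    exact Cfsg.Agent.Solv.le_fittingSubgroup (Group.nilpotent_of_surjective _ (f.subgroupMap_surjective _))

end Cfsg.Agent.S0070
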