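import Cfsg.Statements.S0071
import Cfsg.Agent.Lib.Solv.NormalPComplement

set_option autoImplicit false
open scoped Pointwise
open Cfsg

namespace Cfsg.Agent.S0071

/-- The Frobenius normal p-complement Theorem states that a Sylow p-subgroup has a normal complement exactly when, for each of its subgroups Q, every element of the normalizer of Q of order prime to p centralizes Q. -/
theorem result {G : Type*} [Group G] [Finite G] {p : ℕ} [Fact p.Prime] (P : Sylow p G) : (∃ N : Subgroup G, N.Normal ∧ N.IsComplement' (P : Subgroup G)) ↔ ∀ Q : Subgroup G, Q ≤ (P : Subgroup G) → ∀ g ∈ Subgroup.normalizer (Q : Set G), Nat.Coprime (orderOf g) p → g ∈ Subgroup.centralizer (Q : Set G) := by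
  constructor
  · intro h Q hQ g hg hgc
    exact Cfsg.Agent.Solv.frobeniusCond_of_hasNormalPComplement ⟨P, h⟩ Q
      (P.isPGroup'.to_le hQ) g hg hgc
  · intro h
    have hF : Cfsg.Agent.Solv.FrobeniusCond p G := by
      intro Q hQ g hg hgc
      obtain ⟨R, hR⟩ := hQ.exists_le_sylow
      obtain ⟨x, hx⟩ := MulAction.exists_smul_eq G R P
      have hle : MulAut.conj x • Q ≤ (P : Subgroup G) := by
        rw [← hx, Sylow.coe_subgroup_smul]
        exact Subgroup.pointwise_smul_le_pointwise_smul_iff.mpr hR
      have hg' : x * g * x⁻¹ ∈ Subgroup.normalizer ((MulAut.conj x • Q : Subgroup G) : Set G) := by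
        rw [Subgroup.mem_normalizer_iff]
        intro y
        rw [Cfsg.Agent.Solv.mem_conj_smul, Cfsg.Agent.Solv.mem_conj_smul,
          Subgroup.mem_normalizer_iff.mp hg (x⁻¹ * y * x)]
        simp [mul_assoc]
      have ho : (orderOf (x * g * x⁻¹)).Coprime p := by
        rw [← MulAut.conj_apply, MulEquiv.orderOf_eq]
        exact hgc
      have h1 := Subgroup.mem_centralizer_iff.mp (h _ hle _ hg' ho)
      rw [Subgroup.mem_centralizer_iff]
      intro q hq
      have h2 := h1 (x * q * x⁻¹) (by
        rw [SetLike.mem_coe, Cfsg.Agent.Solv.mem_conj_smul]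
        simpa [mul_assoc] using hq)
      calc q * g = x⁻¹ * (x * q * x⁻¹ * (x * g * x⁻¹)) * x := by group
        _ = g * q := by rw [h2]; group
    exact ⟨_, inferInstance,
      Cfsg.Agent.Solv.isComplement'_pPrimeCore hF.hasNormalPComplement P⟩

end Cfsg.Agent.S0071
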