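import Cfsg.Statements.S0073
import Cfsg.Agent.Lib.Solv.SmallSylow

set_option autoImplicit false
open scoped Pointwise
open Cfsg

namespace Cfsg.Agent.S0073

/-- For a finite non-abelian simple group, either the cube of the least prime divisor of the order divides the order, or 12 does. -/
theorem result {G : Type*} [Group G] [Finite G] [IsSimpleGroup G] (hG : ∃ x y : G, x * y ≠ y * x) : (Nat.card G).minFac ^ 3 ∣ Nat.card G ∨ 12 ∣ Nat.card G := by
  obtain ⟨x0, y0, hxy⟩ := hG
  set p := (Nat.card G).minFac with hpdef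
  have hne : Nat.card G ≠ 1 := fun h => by
    haveI := (Nat.card_eq_one_iff_unique.mp h).1
    exact hxy (Subsingleton.elim _ _)
  have hp : p.Prime := Nat.minFac_prime hne
  haveI := Fact.mk hp
  by_contra hcon
  obtain ⟨hp3, h12⟩ := not_or.mp hcon
  obtain ⟨T⟩ : Nonempty (Sylow p G) := inferInstance
  obtain ⟨k, hk⟩ := IsPGroup.iff_card.mp T.isPGroup'
  have hk0 : k ≠ 0 := fun h => T.ne_bot_of_dvd_card (Nat.minFac_dvd _)
    (Subgroup.eq_bot_of_card_eq _ (by rw [hk, h, pow_zero]))
  have hk3 : k < 3 := by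
    by_contra h
    exact hp3 ((pow_dvd_pow p (not_lt.mp h)).trans (hk ▸ Subgroup.card_subgroup_dvd_card _))
  have hab : ∀ a ∈ (T : Subgroup G), ∀ b ∈ (T : Subgroup G), a * b = b * a := by
    intro a ha b hb
    have hcomm : ∀ u v : T, u * v = v * u := by
      interval_cases k
      · omega
      · haveI := isCyclic_of_prime_card (p := p) (hk.trans (pow_one p))
        exact (IsCyclic.commGroup (α := T)).mul_comm
      · exact IsPGroup.commutative_of_card_eq_prime_sq hk
    exact congrArg Subtype.val (hcomm ⟨a, ha⟩ ⟨b, hb⟩)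
  have hnpc : Cfsg.HasNormalPComplement p G := by
    refine Solv.Small.npc_of_not_dvd T hab hk ?_
    intro r hr hrd hrp j hj hdvd
    have hlt : p < r := lt_of_le_of_ne (Nat.minFac_le_of_dvd hr.two_le hrd) (Ne.symm hrp)
    have hnp : ¬ r ∣ p := fun h => hrp ((Nat.prime_dvd_prime_iff_eq hr hp).mp h)
    have hnp1 : ¬ r ∣ p - 1 := fun h => by
      have := Nat.le_of_dvd (by have := hp.two_le; omega) h
      omega
    obtain rfl | rfl : k = 1 ∨ k = 2 := by omega
    · interval_cases j
      exact hnp1 (by simpa using hdvd)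
    · interval_cases j
      · have h1 : p ^ 2 - p ^ 0 = (p + 1) * (p - 1) := by
          obtain ⟨m, hm⟩ : ∃ m, p = m + 1 := ⟨p - 1, by have := hp.pos; omega⟩
          rw [hm, Nat.add_sub_cancel, pow_zero, show (m + 1) ^ 2 = (m + 1 + 1) * m + 1 by ring, Nat.add_sub_cancel]
        rw [h1] at hdvd
        have hr1 : r = p + 1 := by
          have := Nat.le_of_dvd (by omega) (((Nat.Prime.dvd_mul hr).mp hdvd).resolve_right hnp1)
          omega
        have hp2 : p = 2 := by
          by_contra h
          obtain ⟨m, hm⟩ := hp.odd_of_ne_two h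
          have h2 : 2 ∣ r := ⟨m + 1, by omega⟩
          have := (Nat.prime_dvd_prime_iff_eq Nat.prime_two hr).mp h2
          have := hp.two_le
          omega
        have hT4 : Nat.card T = 4 := hk.trans (by rw [hp2]; norm_num)
        have hr3 : r = 3 := by omega
        exact h12 (Nat.Coprime.mul_dvd_of_dvd_of_dvd (m := 4) (n := 3) (by norm_num)
          (hT4 ▸ Subgroup.card_subgroup_dvd_card _)
          (hr3 ▸ hrd))
      · have h1 : p ^ 2 - p ^ 1 = p * (p - 1) := by rw [pow_one, Nat.mul_sub, mul_one, sq]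
        rw [h1] at hdvd
        rcases (Nat.Prime.dvd_mul hr).mp hdvd with h | h
        · exact hnp h
        · exact hnp1 h
  obtain ⟨P, N, hN, hc⟩ := hnpc
  haveI := hN
  have hcommP : ∀ u v : (P : Subgroup G), u * v = v * u := fun u v => by
    obtain ⟨g, hg⟩ := MulAction.exists_smul_eq G T P
    have := congrArg (fun S : Sylow p G => (S : Subgroup G)) hg
    simp only [Sylow.coe_subgroup_smul] at this
    have hu : (u : G) ∈ MulAut.conj g • (T : Subgroup G) := this.symm ▸ u.2
    have hv : (v : G) ∈ MulAut.conj g • (T : Subgroup G) := this.symm ▸ v.2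
    obtain ⟨a, ha, ha'⟩ := hu
    obtain ⟨b, hb, hb'⟩ := hv
    apply Subtype.ext
    simp only [Subgroup.coe_mul, ← ha', ← hb']
    exact (Commute.map (show Commute a b from hab a ha b hb) _).eq
  rcases hN.eq_bot_or_eq_top with h | h
  · subst h
    have htop : (P : Subgroup G) = ⊤ := by simpa using hc.sup_eq_top
    exact hxy (congrArg Subtype.val (hcommP ⟨x0, htop.ge (Subgroup.mem_top _)⟩ ⟨y0, htop.ge (Subgroup.mem_top _)⟩))
  · subst h
    exact P.ne_bot_of_dvd_card (Nat.minFac_dvd _) (by simpa using disjoint_iff.mp hc.disjoint)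

end Cfsg.Agent.S0073
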