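import Cfsg.Statements.S0076
import Cfsg.Agent.Lib.Solv.TransferApps

set_option autoImplicit false
open scoped Pointwise
open Cfsg

namespace Cfsg.Agent.S0076

/-- Two P-invariant subsets of a Sylow p-subgroup P that are conjugate in G are conjugate under the normalizer of P. -/
theorem result {G : Type*} [Group G] [Finite G] {p : ℕ} [Fact p.Prime] (P : Sylow p G) (X Y : Set G) (hXP : X ⊆ P) (hYP : Y ⊆ P) (hX : ∀ x ∈ P, (fun y => x * y * x⁻¹) '' X = X) (hY : ∀ x ∈ P, (fun y => x * y * x⁻¹) '' Y = Y) (g : G) (hg : (fun y => g * y * g⁻¹) '' X = Y) : ∃ n ∈ Subgroup.normalizer (P : Set G), (fun y => n * y * n⁻¹) '' X = Y := by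
  have hPX : (P : Subgroup G) ≤ Subgroup.normalizer X := fun x hx => Subgroup.mem_set_normalizer_iff.mpr fun y =>
    ⟨fun hy => (hX x hx).subset ⟨y, hy, rfl⟩, fun hy => by
      have h1 := (hX x⁻¹ (inv_mem hx)).subset ⟨_, hy, rfl⟩
      simpa [mul_assoc] using h1⟩
  have hQX : ((g⁻¹ • P : Sylow p G) : Subgroup G) ≤ Subgroup.normalizer X := by
    intro x hx
    rw [Sylow.coe_subgroup_smul, Cfsg.Agent.Solv.mem_conj_smul, inv_inv] at hx
    have key : ∀ z ∈ P, ∀ y ∈ X, (g⁻¹ * z * g) * y * (g⁻¹ * z * g)⁻¹ ∈ X := by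
      intro z hz y hy
      have h1 : z * (g * y * g⁻¹) * z⁻¹ ∈ Y := (hY z hz).subset ⟨_, hg.subset ⟨y, hy, rfl⟩, rfl⟩
      rw [← hg] at h1
      obtain ⟨w, hw, he⟩ := h1
      have e : (g⁻¹ * z * g) * y * (g⁻¹ * z * g)⁻¹ = g⁻¹ * (z * (g * y * g⁻¹) * z⁻¹) * g := by group
      rw [e, ← show g * w * g⁻¹ = z * (g * y * g⁻¹) * z⁻¹ from he]
      simpa [mul_assoc] using hw
    refine Subgroup.mem_set_normalizer_iff.mpr fun y => ⟨fun hy => ?_, fun hy => ?_⟩
    · simpa [mul_assoc] using key _ hx y hy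
    · simpa [mul_assoc] using key _ (inv_mem hx) _ hy
  obtain ⟨h, hh⟩ := MulAction.exists_smul_eq (Subgroup.normalizer X) (P.subtype hPX) ((g⁻¹ • P).subtype hQX)
  simp_rw [Sylow.smul_subtype, Subgroup.smul_def] at hh
  refine ⟨g * h, Sylow.smul_eq_iff_mem_normalizer.mp ?_, ?_⟩
  · rw [mul_smul, Sylow.subtype_injective hh, smul_inv_smul]
  · rw [← hg]
    have hh' := Subgroup.mem_set_normalizer_iff.mp h.2
    refine Set.ext fun w => ⟨?_, ?_⟩
    · rintro ⟨y, hy, rfl⟩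
      exact ⟨_, (hh' y).mp hy, by simp [mul_assoc]⟩
    · rintro ⟨y, hy, rfl⟩
      exact ⟨(h : G)⁻¹ * y * h, (hh' _).mpr (by simpa [mul_assoc] using hy), by simp [mul_assoc]⟩

end Cfsg.Agent.S0076
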