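import Cfsg.Statements.S0077
import Cfsg.Agent.Lib.Solv.TransferApps
import Cfsg.Agent.Lib.Inv.WeaklyClosed

set_option autoImplicit false
open scoped Pointwise
open Cfsg

namespace Cfsg.Agent.S0077

/-- If a subgroup Z of the centre of a Sylow p-subgroup P is weakly closed in P, then P meets the derived subgroup of G exactly where it meets the derived subgroup of the normalizer of Z. -/
theorem result {G : Type*} [Group G] [Finite G] {p : ℕ} [Fact p.Prime] (P : Sylow p G) (Z : Subgroup G) (hZ : Z ≤ Subgroup.centralizer (P : Set G)) (hW : Cfsg.IsWeaklyClosed Z P) : commutator G ⊓ (P : Subgroup G) = ⁅Subgroup.normalizer (Z : Set G), Subgroup.normalizer (Z : Set G)⁆ ⊓ (P : Subgroup G) := by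
  refine le_antisymm (le_inf ?_ inf_le_right) (inf_le_inf_right _ (Subgroup.commutator_mono le_top le_top))
  rw [Subgroup.commutator_inf_eq_focalSubgroup]
  have hPN : (P : Subgroup G) ≤ Subgroup.normalizer (Z : Set G) :=
    (Subgroup.le_centralizer_iff.mp hZ).trans (Subgroup.centralizer_le_normalizer _)
  refine (Cfsg.Agent.Solv.focalSubgroup_le_of_control P _ fun x hx u hu => ?_).trans
    (Subgroup.commutator_mono hPN le_rfl)
  have hK : Z ≤ Subgroup.centralizer ({x} : Set G) := fun z hz => Subgroup.mem_centralizer_iff.mpr fun w hw => by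
    rw [Set.mem_singleton_iff.mp hw]; exact Subgroup.mem_centralizer_iff.mp (hZ hz) x hx
  obtain ⟨k, hk, hn⟩ := Cfsg.Agent.Inv.weaklyClosed_exists_mul_mem_normalizer hW _ hK u fun w hw => by
    refine Subgroup.mem_centralizer_iff.mpr fun v hv => ?_
    rw [Set.mem_singleton_iff.mp hv]
    have h1 := Subgroup.mem_centralizer_iff.mp (hZ hw) _ hu
    calc x * (u⁻¹ * w * u) = u⁻¹ * ((u * x * u⁻¹) * w) * u := by group
      _ = u⁻¹ * (w * (u * x * u⁻¹)) * u := by rw [h1]
      _ = u⁻¹ * w * u * x := by group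
  refine ⟨u * k, hn, ?_⟩
  have h2 := Subgroup.mem_centralizer_iff.mp hk x rfl
  calc u * x * u⁻¹ = u * (x * k) * k⁻¹ * u⁻¹ := by group
    _ = u * (k * x) * k⁻¹ * u⁻¹ := by rw [h2]
    _ = u * k * x * (u * k)⁻¹ := by group

end Cfsg.Agent.S0077
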