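import Cfsg.Statements.S0078
import Cfsg.Agent.Lib.Solv.TransferApps
import Cfsg.Agent.Lib.Inv.WeaklyClosed

set_option autoImplicit false
open scoped Pointwise
open Cfsg

namespace Cfsg.Agent.S0078

/-- In a p-normal group, a Sylow p-subgroup P meets O^p(G) exactly where it meets O^p(V), for any subgroup V containing the normalizer of the centre of P. -/
theorem result {G : Type*} [Group G] [Finite G] {p : ℕ} [Fact p.Prime] (P : Sylow p G) (hn : ∀ Q : Sylow p G, (P : Subgroup G) ⊓ Subgroup.centralizer (P : Set G) ≤ (Q : Subgroup G) → (Q : Subgroup G) ⊓ Subgroup.centralizer (Q : Set G) = (P : Subgroup G) ⊓ Subgroup.centralizer (P : Set G)) (V : Subgroup G) (hV : Subgroup.normalizer (((P : Subgroup G) ⊓ Subgroup.centralizer (P : Set G) : Subgroup G) : Set G) ≤ V) : (P : Subgroup G) ⊓ Cfsg.pResidual p G = (P : Subgroup G) ⊓ (Cfsg.pResidual p V).map V.subtype := by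
  set Z := (P : Subgroup G) ⊓ Subgroup.centralizer (P : Set G) with hZ
  have hcen : ∀ g : G, MulAut.conj g • Z = ((g • P : Sylow p G) : Subgroup G) ⊓
      Subgroup.centralizer ((g • P : Sylow p G) : Set G) := by
    intro g
    ext x
    rw [Cfsg.Agent.Solv.mem_conj_smul]
    simp only [hZ, Subgroup.mem_inf, Subgroup.mem_centralizer_iff, SetLike.mem_coe]
    have e : ∀ y : G, y ∈ (g • P : Sylow p G) ↔ g⁻¹ * y * g ∈ P := fun y => Cfsg.Agent.Solv.mem_conj_smul
    have e2 : x ∈ ((g • P : Sylow p G) : Subgroup G) ↔ g⁻¹ * x * g ∈ P := Cfsg.Agent.Solv.mem_conj_smul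
    rw [e2]
    refine and_congr Iff.rfl ⟨fun h y hy => ?_, fun h y hy => ?_⟩
    · have h1 := congrArg (fun t => g * t * g⁻¹) (h _ ((e y).mp hy))
      simpa [mul_assoc] using h1
    · have h1 := congrArg (fun t => g⁻¹ * t * g) (h (g * y * g⁻¹) ((e _).mpr (by simpa [mul_assoc] using hy)))
      simpa [mul_assoc] using h1
  have hW : Cfsg.IsWeaklyClosed Z (P : Subgroup G) := by
    refine ⟨inf_le_left, fun g hg => ?_⟩
    have hle : Z ≤ ((g⁻¹ • P : Sylow p G) : Subgroup G) := fun z hz => by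
      rw [Sylow.coe_subgroup_smul, Cfsg.Agent.Solv.mem_conj_smul, inv_inv]
      exact hg ⟨z, hz, rfl⟩
    have h1 : MulAut.conj g⁻¹ • Z = Z := (hcen g⁻¹).trans (hn _ hle)
    change MulAut.conj g • Z = Z
    conv_lhs => rw [← h1]
    rw [Cfsg.Agent.Solv.conj_smul_conj_smul, mul_inv_cancel, map_one, one_smul]
  have hPN : (P : Subgroup G) ≤ Subgroup.normalizer (Z : Set G) := by
    refine (Subgroup.le_centralizer_iff.mp ?_).trans (Subgroup.centralizer_le_normalizer _)
    exact inf_le_right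
  refine Cfsg.Agent.Solv.inf_pResidual_of_control P V (hPN.trans hV) fun Q hQ g hg => ?_
  obtain ⟨k, hk, hn'⟩ := Cfsg.Agent.Inv.weaklyClosed_exists_mul_mem_normalizer hW
    (Subgroup.centralizer (Q : Set G)) (inf_le_right.trans (Subgroup.centralizer_le hQ)) g fun w hw => by
    refine Subgroup.mem_centralizer_iff.mpr fun y hy => ?_
    have h1 := Subgroup.mem_centralizer_iff.mp hw.2 _ (hQ ((Subgroup.mem_normalizer_iff.mp hg y).mp hy))
    calc y * (g⁻¹ * w * g) = g⁻¹ * ((g * y * g⁻¹) * w) * g := by group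
      _ = g⁻¹ * (w * (g * y * g⁻¹)) * g := by rw [h1]
      _ = g⁻¹ * w * g * y := by group
  refine ⟨g * k, hV hn', fun x hx => ?_⟩
  have h2 := Subgroup.mem_centralizer_iff.mp hk x hx
  calc g * x * g⁻¹ = g * (x * k) * k⁻¹ * g⁻¹ := by group
    _ = g * (k * x) * k⁻¹ * g⁻¹ := by rw [h2]
    _ = g * k * x * (g * k)⁻¹ := by group

end Cfsg.Agent.S0078
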