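import Cfsg.Statements.S0080
import Cfsg.Agent.Lib.Solv.TransferApps

set_option autoImplicit false
open scoped Pointwise commutatorElement
open Cfsg

namespace Cfsg.Agent.S0080

/-- When the index of H is prime to the order of H/H', the focal subgroup of H is G' ∩ H, and H/(G' ∩ H) has a normal complement. -/
theorem result {G : Type*} [Group G] [Finite G] (H : Subgroup G) (h : Nat.Coprime H.index (⁅H, H⁆.relIndex H)) : Subgroup.focalSubgroup H = commutator G ⊓ H ∧ ∃ N : Subgroup G, N.Normal ∧ N ⊓ H = commutator G ⊓ H ∧ N ⊔ H = ⊤ := by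
  obtain ⟨f, hf⟩ : ∃ f : G →* H ⧸ H.focalSubgroupOf,
      ∀ x : H, f x = (x : H ⧸ H.focalSubgroupOf) ^ H.index :=
    ⟨H.transferFocal, Subgroup.transferFocal_eq_pow H⟩
  have hcomm : commutator G ≤ f.ker := Subgroup.commutator_le.mpr fun a _ b _ => by
    rw [MonoidHom.mem_ker, map_commutatorElement, commutatorElement_eq_one_iff_mul_comm]
    exact mul_comm' _ _
  have hker : f.ker ⊓ H ≤ Subgroup.focalSubgroup H := by
    rintro x ⟨hx, hxH⟩
    have h1 := hf ⟨x, hxH⟩
    rw [MonoidHom.mem_ker.mp hx] at h1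
    have h2 : orderOf (QuotientGroup.mk' H.focalSubgroupOf ⟨x, hxH⟩) ∣ ⁅H, H⁆.relIndex H := by
      refine (orderOf_dvd_natCard _).trans ?_
      rw [← Subgroup.index_eq_card]
      exact Subgroup.index_dvd_of_le fun z hz => Subgroup.commutator_le_focalSubgroup H hz
    have h3 := Nat.eq_one_of_dvd_coprimes h (orderOf_dvd_of_pow_eq_one h1.symm) h2
    rw [orderOf_eq_one_iff] at h3
    exact (QuotientGroup.eq_one_iff (⟨x, hxH⟩ : H)).mp h3
  have hfoc : Subgroup.focalSubgroup H = commutator G ⊓ H :=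
    le_antisymm (le_inf (Subgroup.focalSubgroup_le_commutator H) (Subgroup.focalSubgroup_le H))
      ((inf_le_inf_right _ hcomm).trans hker)
  refine ⟨hfoc, f.ker, inferInstance, le_antisymm (hker.trans hfoc.le)
    (inf_le_inf_right _ hcomm), ?_⟩
  rw [eq_top_iff]
  intro g _
  have hco : (Nat.card (H ⧸ H.focalSubgroupOf)).Coprime H.index := by
    rw [← Subgroup.index_eq_card]
    exact h.symm.coprime_dvd_left
      (Subgroup.index_dvd_of_le fun z hz => Subgroup.commutator_le_focalSubgroup H hz)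
  obtain ⟨y, hy⟩ := (powCoprime hco).surjective (f g)
  obtain ⟨x, rfl⟩ := QuotientGroup.mk'_surjective _ y
  rw [← inv_mul_cancel_right g (x : G)]
  refine Subgroup.mul_mem_sup ?_ x.2
  rw [MonoidHom.mem_ker, map_mul, map_inv, hf]
  exact mul_inv_eq_one.mpr (Eq.symm hy)

end Cfsg.Agent.S0080
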