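import Cfsg.Statements.S0082
import Cfsg.Agent.Lib.Solv.TransferApps

set_option autoImplicit false
open scoped Pointwise
open Cfsg

namespace Cfsg.Agent.S0082

/-- With a cyclic Sylow p-subgroup, either there is a normal p-complement or the elements of order prime to p generate the whole group. -/
theorem result {G : Type*} [Group G] [Finite G] {p : ℕ} [Fact p.Prime] (P : Sylow p G) (hP : IsCyclic P) : Cfsg.HasNormalPComplement p G ∨ Cfsg.pResidual p G = ⊤ := by
  haveI := hP
  haveI hab : IsMulCommutative (P : Subgroup G) := ⟨⟨fun a b => IsCyclic.commGroup.mul_comm a b⟩⟩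
  have hco : (Nat.card (P : Subgroup G)).Coprime ((P : Subgroup G).relIndex (Subgroup.normalizer (P : Set G))) :=
    P.card_coprime_index.coprime_dvd_right (Subgroup.relIndex_dvd_index_of_le Subgroup.le_normalizer)
  obtain ⟨hinf, hsup⟩ := Cfsg.Agent.Solv.abelian_hall_decomp (P : Subgroup G)
    (Subgroup.normalizer (P : Set G)) Subgroup.le_normalizer le_rfl hco
  by_cases hb : ⁅(P : Subgroup G), Subgroup.normalizer (P : Set G)⁆ = ⊥
  · left
    exact Cfsg.Agent.Solv.hasNormalPComplement_of_burnside P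
      (Subgroup.le_centralizer_iff.mp (Subgroup.commutator_eq_bot_iff_le_centralizer.mp hb))
  right
  have hCb : (P : Subgroup G) ⊓ Subgroup.centralizer (Subgroup.normalizer (P : Set G) : Set G) = ⊥ := by
    have hle : ⁅(P : Subgroup G), Subgroup.normalizer (P : Set G)⁆ ≤ (P : Subgroup G) :=
      le_sup_left.trans hsup.le
    have hel : ∀ S : Subgroup G, S ≠ ⊥ → S ≤ (P : Subgroup G) → ∃ z : (P : Subgroup G), (z : G) ∈ S ∧ orderOf z = p := by
      intro S hS hSP
      have hd : p ∣ Nat.card S := by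
        obtain ⟨k, hk⟩ := IsPGroup.iff_card.mp (P.isPGroup'.to_le hSP)
        rw [hk]
        exact dvd_pow_self p fun h0 => hS (Subgroup.card_eq_one.mp (by rw [hk, h0, pow_zero]))
      obtain ⟨z, hz⟩ := exists_prime_orderOf_dvd_card' p hd
      exact ⟨⟨z, hSP z.2⟩, z.2, by rw [Subgroup.orderOf_mk, Subgroup.orderOf_coe, hz]⟩
    by_contra hne
    obtain ⟨a, ha, hao⟩ := hel _ hb hle
    obtain ⟨b, hbm, hbo⟩ := hel _ hne inf_le_left
    letI := IsCyclic.commGroup (α := (P : Subgroup G))
    have hk : Nat.card (powMonoidHom (α := (P : Subgroup G)) p).ker ≤ p := by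
      rw [IsCyclic.card_powMonoidHom_ker]; exact Nat.gcd_le_right _ (Nat.Prime.pos Fact.out)
    have hz : ∀ c : (P : Subgroup G), orderOf c = p → Subgroup.zpowers c = (powMonoidHom (α := (P : Subgroup G)) p).ker :=
      fun c hc => by
        refine Subgroup.eq_of_le_of_card_ge (Subgroup.zpowers_le.mpr ?_) (by rw [Nat.card_zpowers, hc]; exact hk)
        change c ^ p = 1
        have h := pow_orderOf_eq_one c
        rwa [hc] at h
    have hmem : a ∈ Subgroup.zpowers b := by rw [hz b hbo, ← hz a hao]; exact Subgroup.mem_zpowers a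
    obtain ⟨i, hi⟩ := hmem
    have h1 : (a : G) ∈ ⁅(P : Subgroup G), Subgroup.normalizer (P : Set G)⁆ ⊓
        Subgroup.centralizer (Subgroup.normalizer (P : Set G) : Set G) :=
      ⟨ha, by rw [← hi]; simpa using Subgroup.zpow_mem _ hbm.2 i⟩
    rw [hinf, Subgroup.mem_bot] at h1
    rw [show a = 1 from Subtype.ext h1, orderOf_one] at hao
    exact (Nat.Prime.one_lt Fact.out).ne hao
  rw [hCb, sup_bot_eq] at hsup
  have hPle : (P : Subgroup G) ≤ Cfsg.pResidual p G := by
    rw [← hsup, ← Cfsg.Agent.Solv.focalSubgroup_eq_of_abelian P hab]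
    exact (Subgroup.focalSubgroup_le_commutator _).trans (Cfsg.Agent.Solv.commutator_le_pResidual_of_abelian P hab)
  rw [← Cfsg.Agent.Solv.sup_pResidual_eq_top P, sup_eq_right.mpr hPle]

end Cfsg.Agent.S0082
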