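import Cfsg.Statements.S0083
import Cfsg.Agent.Lib.Solv.TransferApps

set_option autoImplicit false
open scoped Pointwise
open Cfsg

namespace Cfsg.Agent.S0083

/-- For an abelian Sylow p-subgroup P, a normal p-complement exists exactly when the normalizer of P is an internal direct product of P with some subgroup. -/
theorem result {G : Type*} [Group G] [Finite G] {p : ℕ} [Fact p.Prime] (P : Sylow p G) (hP : IsMulCommutative P) : Cfsg.HasNormalPComplement p G ↔ ∃ Q : Subgroup G, Q ≤ Subgroup.centralizer (P : Set G) ∧ Q ⊓ (P : Subgroup G) = ⊥ ∧ Q ⊔ (P : Subgroup G) = Subgroup.normalizer (P : Set G) := by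
  constructor
  · intro hN
    have hK := Cfsg.Agent.Solv.isComplement'_pPrimeCore hN
    refine ⟨Cfsg.pPrimeCore p G ⊓ Subgroup.normalizer (P : Set G), ?_, ?_, ?_⟩
    · refine Subgroup.commutator_eq_bot_iff_le_centralizer.mp (eq_bot_iff.mpr ?_)
      refine le_trans (le_inf ?_ ?_) (Cfsg.Agent.Solv.inf_eq_bot_of_coprime_card (Cfsg.pPrimeCore p G) (P : Subgroup G) ?_).le
      · exact (Subgroup.commutator_mono inf_le_left le_rfl).trans (Subgroup.commutator_le_left _ _)
      · rw [Subgroup.commutator_comm]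
        exact Subgroup.le_normalizer_iff_commutator_le_left.mp inf_le_right
      · exact (Cfsg.Agent.Solv.coprime_card_of_isPGroup P.isPGroup' (Cfsg.Agent.Solv.card_pPrimeCore_coprime p G)).symm
    · refine eq_bot_iff.mpr ((inf_le_inf_right _ inf_le_left).trans ?_)
      exact (Cfsg.Agent.Solv.inf_eq_bot_of_coprime_card _ (P : Subgroup G)
        (Cfsg.Agent.Solv.coprime_card_of_isPGroup P.isPGroup' (Cfsg.Agent.Solv.card_pPrimeCore_coprime p G)).symm).le
    · refine le_antisymm (sup_le inf_le_right Subgroup.le_normalizer) fun g hg => ?_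
      obtain ⟨k, hk, y, hy, rfl⟩ := Subgroup.mem_sup_of_normal_left.mp ((hK P).sup_eq_top ▸ Subgroup.mem_top g)
      refine Subgroup.mul_mem_sup ⟨hk, ?_⟩ hy
      simpa using Subgroup.mul_mem _ hg (inv_mem (Subgroup.le_normalizer hy))
  · rintro ⟨Q, hQ, -, hQP⟩
    refine Cfsg.Agent.Solv.hasNormalPComplement_of_burnside P ?_
    refine (le_of_eq hQP.symm).trans ?_
    haveI := hP
    exact sup_le hQ (Subgroup.le_centralizer _)

end Cfsg.Agent.S0083
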