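import Cfsg.Statements.S0084
import Cfsg.Agent.Lib.Solv.SmallSylow

set_option autoImplicit false
open scoped Pointwise
open Cfsg

namespace Cfsg.Agent.S0084

/-- A group whose Sylow 2-subgroups are Klein four-groups and whose order is prime to 3 has a normal 2-complement. -/
theorem result {G : Type*} [Group G] [Finite G] (T : Sylow 2 G) (hT : IsKleinFour T) (h3 : ¬ 3 ∣ Nat.card G) : Cfsg.HasNormalPComplement 2 G := by
  haveI : Fact (Nat.Prime 2) := ⟨Nat.prime_two⟩
  haveI := hT
  refine Solv.Small.npc_of_not_dvd T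
    (fun a ha b hb => congrArg Subtype.val (mul_comm_of_exponent_two IsKleinFour.exponent_two (⟨a, ha⟩ : T) ⟨b, hb⟩)) (k := 2)
    (by rw [IsKleinFour.card_four]; norm_num) ?_
  intro r hr hrd hr2 j hj hdvd
  interval_cases j
  · exact h3 ((Nat.prime_dvd_prime_iff_eq hr Nat.prime_three).mp hdvd ▸ hrd)
  · exact hr2 ((Nat.prime_dvd_prime_iff_eq hr Nat.prime_two).mp hdvd)

end Cfsg.Agent.S0084
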