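import Cfsg.Statements.S0085
import Cfsg.Agent.Lib.Solv.SmallSylow

set_option autoImplicit false
open scoped Pointwise
open Cfsg

namespace Cfsg.Agent.S0085

/-- A group whose Sylow 2-subgroups are elementary abelian of order 8 and whose order is prime to 3 and to 7 has a normal 2-complement. -/
theorem result {G : Type*} [Group G] [Finite G] (T : Sylow 2 G) (h8 : Nat.card T = 8) (he : ∀ x : T, x * x = 1) (h3 : ¬ 3 ∣ Nat.card G) (h7 : ¬ 7 ∣ Nat.card G) : Cfsg.HasNormalPComplement 2 G := by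
  haveI : Fact (Nat.Prime 2) := ⟨Nat.prime_two⟩
  have hexp : ∀ a b : T, a * b = b * a := fun a b => by
    have hi : ∀ a : T, a⁻¹ = a := fun a => inv_eq_of_mul_eq_one_right (he a)
    calc a * b = (a * b)⁻¹ := (hi _).symm
      _ = b⁻¹ * a⁻¹ := mul_inv_rev a b
      _ = b * a := by rw [hi, hi]
  refine Solv.Small.npc_of_not_dvd T
    (fun a ha b hb => congrArg Subtype.val (hexp ⟨a, ha⟩ ⟨b, hb⟩)) (k := 3) (by rw [h8]; norm_num) ?_
  intro r hr hrd hr2 j hj hdvd
  interval_cases j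
  · have h7' : r ∣ 7 := by simpa using hdvd
    exact h7 ((Nat.prime_dvd_prime_iff_eq hr (by norm_num : Nat.Prime 7)).mp h7' ▸ hrd)
  · have h6 : r ∣ 2 * 3 := by simpa using hdvd
    rcases (Nat.Prime.dvd_mul hr).mp h6 with h | h
    · exact hr2 ((Nat.prime_dvd_prime_iff_eq hr Nat.prime_two).mp h)
    · exact h3 ((Nat.prime_dvd_prime_iff_eq hr Nat.prime_three).mp h ▸ hrd)
  · have h4 : r ∣ 2 ^ 2 := by simpa using hdvd
    exact hr2 ((Nat.prime_dvd_prime_iff_eq hr Nat.prime_two).mp (hr.dvd_of_dvd_pow h4))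

end Cfsg.Agent.S0085
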