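import Cfsg.Statements.S0089
import Cfsg.Agent.Lib.Solv.TransferApps

set_option autoImplicit false
open scoped Pointwise
open Cfsg

namespace Cfsg.Agent.S0089

/-- When all Sylow subgroups are abelian, the derived subgroup meets the centre trivially. -/
theorem result {G : Type*} [Group G] [Finite G] (h : ∀ p : ℕ, p.Prime → ∀ P : Sylow p G, IsMulCommutative P) : commutator G ⊓ Subgroup.center G = ⊥ := by
  refine eq_bot_iff.mpr fun x hx => ?_
  by_contra hne
  rw [Subgroup.mem_bot, ← orderOf_eq_one_iff] at hne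
  obtain ⟨p, hp, hd⟩ := Nat.exists_prime_and_dvd hne
  haveI := Fact.mk hp
  obtain ⟨y, hy, hyo⟩ : ∃ y ∈ commutator G ⊓ Subgroup.center G, orderOf y = p :=
    ⟨x ^ (orderOf x / p), Subgroup.pow_mem _ hx _, orderOf_pow_orderOf_div (orderOf_pos x).ne' hd⟩
  have hpg : IsPGroup p (Subgroup.zpowers y) := IsPGroup.of_card (n := 1) (by rw [Nat.card_zpowers, hyo, pow_one])
  obtain ⟨P, hP⟩ := hpg.exists_le_sylow
  have h1 : y ∈ (P : Subgroup G) ⊓ commutator G ⊓ Subgroup.center G :=
    ⟨⟨hP (Subgroup.mem_zpowers y), hy.1⟩, hy.2⟩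
  rw [Cfsg.Agent.Solv.inf_commutator_center_eq_bot (P : Subgroup G) (h p hp P) P.card_coprime_index,
    Subgroup.mem_bot] at h1
  rw [h1, orderOf_one] at hyo
  exact hp.one_lt.ne hyo

end Cfsg.Agent.S0089
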