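import Cfsg.Statements.S0090
import Cfsg.Agent.Lib.Solv.TransferApps

set_option autoImplicit false
open scoped Pointwise
open Cfsg

namespace Cfsg.Agent.S0090

/-- An abelian normal Hall subgroup A splits as the internal direct product of G' ∩ A and Z(G) ∩ A, and [A, G] = G' ∩ A. -/
theorem result {G : Type*} [Group G] [Finite G] (A : Subgroup G) [A.Normal] (hc : IsMulCommutative A) (hHall : Nat.Coprime (Nat.card A) A.index) : ⁅A, (⊤ : Subgroup G)⁆ = commutator G ⊓ A ∧ (commutator G ⊓ A) ⊓ (Subgroup.center G ⊓ A) = ⊥ ∧ (commutator G ⊓ A) ⊔ (Subgroup.center G ⊓ A) = A := by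
  haveI := hc
  obtain ⟨-, hsup⟩ := Cfsg.Agent.Solv.abelian_hall_decomp A ⊤ le_top
    Subgroup.le_normalizer_of_normal (by rwa [Subgroup.relIndex_top_right])
  rw [Subgroup.coe_top, Subgroup.centralizer_univ] at hsup
  have h0 : (commutator G ⊓ A) ⊓ (Subgroup.center G ⊓ A) = ⊥ := eq_bot_iff.mpr fun x hx => by
    rw [← Cfsg.Agent.Solv.inf_commutator_center_eq_bot A hc hHall]
    exact ⟨⟨hx.1.2, hx.1.1⟩, hx.2.1⟩
  have hle : ⁅A, (⊤ : Subgroup G)⁆ ≤ commutator G ⊓ A :=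
    le_inf (Subgroup.commutator_mono le_top le_rfl) (Subgroup.commutator_le_left _ _)
  refine ⟨le_antisymm hle fun x hx => ?_, h0, le_antisymm (sup_le inf_le_right inf_le_right) ?_⟩
  · obtain ⟨a, ha, c, hc', rfl⟩ := Subgroup.mem_sup_of_normal_left.mp (hsup.symm ▸ hx.2 : x ∈ _)
    have h1 : c ∈ (commutator G ⊓ A) ⊓ (Subgroup.center G ⊓ A) :=
      ⟨by simpa using Subgroup.mul_mem _ (inv_mem (hle ha)) hx, hc'.2, hc'.1⟩
    rw [h0, Subgroup.mem_bot] at h1
    rwa [h1, mul_one]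
  · calc A = ⁅A, (⊤ : Subgroup G)⁆ ⊔ (A ⊓ Subgroup.center G) := hsup.symm
      _ ≤ _ := sup_le_sup hle (le_of_eq (inf_comm _ _))

end Cfsg.Agent.S0090
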