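import Cfsg.Statements.S0091
import Cfsg.Agent.Lib.Solv.TransferApps

set_option autoImplicit false
open scoped Pointwise
open Cfsg

namespace Cfsg.Agent.S0091

/-- If a nontrivial Sylow p-subgroup controls its own fusion then it is not contained in the derived subgroup. -/
theorem result {G : Type*} [Group G] [Finite G] {p : ℕ} [Fact p.Prime] (P : Sylow p G) (hp : p ∣ Nat.card G) (h : ∀ x ∈ P, ∀ y ∈ P, (∃ g : G, g * x * g⁻¹ = y) → ∃ z ∈ P, z * x * z⁻¹ = y) : ¬ (P : Subgroup G) ≤ commutator G := by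
  intro hle
  have h1 : (P : Subgroup G) ≤ ⁅(P : Subgroup G), (P : Subgroup G)⁆ := by
    calc (P : Subgroup G) = commutator G ⊓ (P : Subgroup G) := (inf_eq_right.mpr hle).symm
      _ = (P : Subgroup G).focalSubgroup := Subgroup.commutator_inf_eq_focalSubgroup P
      _ ≤ _ := Cfsg.Agent.Solv.focalSubgroup_le_of_control P _ fun x hx u hu => by
        obtain ⟨z, hz, he⟩ := h x hx _ hu ⟨u, rfl⟩
        exact ⟨z, hz, he.symm⟩
  exact (Cfsg.Agent.Solv.commutator_lt_of_isNilpotent P.isPGroup'.isNilpotent le_rfl Subgroup.le_normalizer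
    (P.ne_bot_of_dvd_card hp)).not_ge h1

end Cfsg.Agent.S0091
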