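import Cfsg.Statements.S0092
import Cfsg.Agent.Lib.Solv.Supersolvable
import Cfsg.Agent.Lib.Solv.TransferApps
import Cfsg.Agent.Lib.Solv.Carter
import Cfsg.Agent.Lib.Solv.SchurZassenhaus

set_option autoImplicit false
open scoped Pointwise
open Cfsg

namespace Cfsg.Agent.S0092

/-- If the Sylow p-subgroups of O^p(G) are abelian then G splits over O^p(G). -/
theorem result {G : Type*} [Group G] [Finite G] {p : ℕ} [Fact p.Prime] (h : ∀ Q : Sylow p (Cfsg.pResidual p G), IsMulCommutative Q) : ∃ K : Subgroup G, K.IsComplement' (Cfsg.pResidual p G) := by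
  set K := Cfsg.pResidual p G with hK
  haveI := Cfsg.Agent.Solv.pResidual_characteristic p G
  obtain ⟨Q⟩ := Sylow.nonempty (p := p) (G := K)
  haveI hQc := h Q
  set Q' := (Q : Subgroup K).map K.subtype with hQ'
  have hQK : Q' ≤ K := Subgroup.map_subtype_le _
  haveI : IsMulCommutative Q' := inferInstance
  have hQp : IsPGroup p Q' := Q.isPGroup'.map _
  -- `Q` is its own commutator with its normalizer in `K`
  have hco : (Nat.card (Q : Subgroup K)).Coprime ((Q : Subgroup K).relIndex (Subgroup.normalizer (Q : Set K))) :=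
    Q.card_coprime_index.coprime_dvd_right (Subgroup.relIndex_dvd_index_of_le Subgroup.le_normalizer)
  obtain ⟨hinf, -⟩ := Cfsg.Agent.Solv.abelian_hall_decomp (Q : Subgroup K)
    (Subgroup.normalizer (Q : Set K)) Subgroup.le_normalizer le_rfl hco
  rw [← Cfsg.Agent.Solv.focalSubgroup_eq_of_abelian Q hQc,
    Cfsg.Agent.Solv.focalSubgroup_eq_of_pResidual_eq_top Q Cfsg.Agent.Solv.pResidual_eq_top_of_map] at hinf
  set M := K ⊓ Subgroup.normalizer (Q' : Set G) with hM
  have hQM : Q' ≤ M := le_inf hQK Subgroup.le_normalizer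
  haveI : (Q'.subgroupOf M).Normal := Subgroup.normal_subgroupOf_of_le_normalizer inf_le_right
  have hMK : M.subgroupOf K = Subgroup.normalizer ((Q : Subgroup K) : Set K) := by
    ext x
    rw [Subgroup.mem_subgroupOf]
    have e : ∀ y : K, (y : G) ∈ Q' ↔ y ∈ (Q : Subgroup K) :=
      fun y => Subgroup.mem_map_iff_mem K.subtype_injective
    constructor
    · intro hx
      refine Subgroup.mem_normalizer_iff.mpr fun y => ?_
      rw [← e, ← e]
      exact Subgroup.mem_normalizer_iff.mp hx.2 (y : G)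
    · intro hx
      refine ⟨x.2, Cfsg.Agent.Solv.mem_normalizer_conj_iff.mpr ?_⟩
      have h1 := congrArg (Subgroup.map K.subtype) (Cfsg.Agent.Solv.mem_normalizer_conj_iff.mp hx)
      rwa [Cfsg.Agent.Solv.map_conj_smul, Subgroup.coe_subtype] at h1
  have hcoM : (Nat.card (Q'.subgroupOf M)).Coprime (Q'.subgroupOf M).index := by
    rw [Cfsg.Agent.Solv.card_subgroupOf hQM, hQ', Cfsg.Agent.Solv.card_map_subtype]
    refine Q.card_coprime_index.coprime_dvd_right ?_
    have h1 : Q'.relIndex M ∣ Q'.relIndex K := by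
      rw [← Subgroup.relIndex_mul_relIndex Q' M K hQM inf_le_left]; exact dvd_mul_right _ _
    refine h1.trans (dvd_of_eq ?_)
    rw [hQ', Subgroup.relIndex, Subgroup.subgroupOf, Subgroup.comap_map_eq_self_of_injective K.subtype_injective]
  obtain ⟨H₀, hH₀⟩ := Subgroup.exists_right_complement'_of_coprime hcoM
  set H := H₀.map M.subtype with hH
  have hHM : H ≤ M := Subgroup.map_subtype_le _
  have hsupM : Q' ⊔ H = M := by
    have h1 := congrArg (Subgroup.map M.subtype) hH₀.sup_eq_top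
    rwa [Subgroup.map_sup, Subgroup.map_subgroupOf_eq_of_le hQM, ← MonoidHom.range_eq_map,
      Subgroup.range_subtype] at h1
  have hHcard : (Nat.card Q').Coprime (Nat.card H) := by
    rw [hH, Cfsg.Agent.Solv.card_map_subtype M H₀, ← hH₀.symm.index_eq_card, ← Cfsg.Agent.Solv.card_subgroupOf hQM]
    exact hcoM
  have hQH : Q' ⊓ H = ⊥ := Cfsg.Agent.Solv.inf_eq_bot_of_coprime_card _ _ hHcard
  set L := Subgroup.normalizer (Q' : Set G) ⊓ Subgroup.normalizer (H : Set G) with hL
  -- `G = K L`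
  have hKL : K ⊔ L = ⊤ := by
    have hF := Q.normalizer_sup_eq_top
    rw [eq_top_iff]
    intro g _
    obtain ⟨n, hn, k, hk, rfl⟩ := Subgroup.mem_sup_of_normal_right.mp (hF.symm ▸ Subgroup.mem_top g)
    refine Subgroup.mul_mem _ ?_ (Subgroup.mem_sup_left hk)
    have hnM : ∀ x ∈ M, n * x * n⁻¹ ∈ M := fun x hx =>
      ⟨(inferInstance : K.Normal).conj_mem x hx.1 n, Subgroup.mul_mem _ (Subgroup.mul_mem _ hn hx.2) (inv_mem hn)⟩
    obtain ⟨q, hq, hqH⟩ := Cfsg.Agent.Solv.conj_of_card_eq Q' H (MulAut.conj n • H)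
      (Or.inl (Group.isSolvable_of_comm fun a b => mul_comm' a b))
      (hHM.trans inf_le_right) (fun y hy => by
        rw [Cfsg.Agent.Solv.mem_conj_smul] at hy
        rw [hsupM]
        simpa [mul_assoc] using hnM _ (hHM hy))
      (Cfsg.Agent.Solv.card_conj_smul _ _) hHcard
    have h1 : q⁻¹ * n ∈ L := by
      refine ⟨Subgroup.mul_mem _ (inv_mem (Subgroup.le_normalizer hq)) hn, Cfsg.Agent.Solv.mem_normalizer_conj_iff.mpr ?_⟩
      rw [map_mul, mul_smul, ← hqH, ← mul_smul, ← map_mul, inv_mul_cancel, map_one, one_smul]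
    rw [← mul_inv_cancel_left q n]
    exact Subgroup.mul_mem _ (Subgroup.mem_sup_left (hQK hq)) (Subgroup.mem_sup_right h1)
  -- `Q ∩ L = 1`
  have hQL : Q' ⊓ L = ⊥ := by
    rw [eq_bot_iff]
    rintro x ⟨hxQ, hxL⟩
    obtain ⟨z, hz, rfl⟩ := hxQ
    have hzQ : (z : G) ∈ Q' := Subgroup.mem_map_of_mem _ hz
    have hc : ∀ y ∈ H, Commute (z : G) y := by
      intro y hy
      have h1 : (z : G) * y * (z : G)⁻¹ * y⁻¹ ∈ Q' ⊓ H := by
        refine ⟨?_, H.mul_mem ((Subgroup.mem_normalizer_iff.mp hxL.2 y).mp hy) (H.inv_mem hy)⟩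
        rw [mul_assoc (z : G) y, mul_assoc (z : G)]
        exact Q'.mul_mem hzQ ((Subgroup.mem_normalizer_iff.mp (hHM hy).2 _).mp (Q'.inv_mem hzQ))
      rw [hQH, Subgroup.mem_bot] at h1
      exact commutatorElement_eq_one_iff_mul_comm.mp (by rw [commutatorElement_def]; exact h1)
    have h1 : z ∈ (Q : Subgroup K) ⊓ Subgroup.centralizer (Subgroup.normalizer (Q : Set K) : Set K) := by
      refine ⟨hz, Subgroup.mem_centralizer_iff.mpr fun w hw => ?_⟩
      have hwM : (w : G) ∈ Q' ⊔ H := by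
        rw [hsupM]
        exact (hMK.symm ▸ hw : w ∈ M.subgroupOf K)
      have hle : Q' ⊔ H ≤ Subgroup.centralizer ({(z : G)} : Set G) := sup_le
        (fun a ha => Subgroup.mem_centralizer_iff.mpr fun v hv => by
          rw [Set.mem_singleton_iff.mp hv]
          exact congrArg Subtype.val (mul_comm' (⟨_, hzQ⟩ : Q') ⟨a, ha⟩))
        (fun a ha => Subgroup.mem_centralizer_iff.mpr fun v hv => by
          rw [Set.mem_singleton_iff.mp hv]; exact hc a ha)
      exact Subtype.ext ((Subgroup.mem_centralizer_iff.mp (hle hwM) (z : G) rfl).symm)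
    rw [hinf, Subgroup.mem_bot] at h1
    rw [h1]; exact Subgroup.mem_bot.mpr rfl
  -- a Sylow subgroup of `L` is a complement
  obtain ⟨S₀⟩ := Sylow.nonempty (p := p) (G := L)
  set S := (S₀ : Subgroup L).map L.subtype with hS
  have hSK : S ⊓ K = ⊥ := by
    refine eq_bot_iff.mpr fun x hx => ?_
    have hxL : x ∈ L := Subgroup.map_subtype_le _ hx.1
    set z : K := ⟨x, hx.2⟩ with hz
    have hzN : z ∈ Subgroup.normalizer ((Q : Subgroup K) : Set K) := hMK ▸ (⟨hx.2, hxL.1⟩ : x ∈ M)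
    have hzp : IsPGroup p (Subgroup.zpowers z) := by
      obtain ⟨k, hk⟩ := IsPGroup.iff_orderOf.mp (S₀.isPGroup'.map L.subtype) ⟨x, hx.1⟩
      rw [Subgroup.orderOf_mk] at hk
      exact IsPGroup.of_card (n := k) (by rw [Nat.card_zpowers, hz, Subgroup.orderOf_mk, hk])
    have hsup := Q.is_maximal' (hzp.to_sup_of_normal_right' Q.isPGroup'
      (Subgroup.zpowers_le.mpr hzN)) le_sup_right
    have hzQ : z ∈ (Q : Subgroup K) := by
      have h2 : z ∈ Subgroup.zpowers z ⊔ (Q : Subgroup K) := Subgroup.mem_sup_left (Subgroup.mem_zpowers z)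
      rwa [hsup] at h2
    rw [← hQL]
    exact ⟨⟨z, hzQ, rfl⟩, hxL⟩
  have hsup : S ⊔ K = ⊤ := by
    rw [← Subgroup.index_eq_one]
    obtain ⟨k, hk⟩ := Cfsg.Agent.Solv.exists_pResidual_index (p := p) (G := G)
    have h1 : (S ⊔ K).index ∣ p ^ k := hk ▸ Subgroup.index_dvd_of_le le_sup_right
    have h2 : (S ⊔ K).index ∣ (S₀ : Subgroup L).index := by
      have h3 : ∀ g : G, ∃ a ∈ L, ∃ b ∈ S ⊔ K, g = a * b := fun g => by
        obtain ⟨a, ha, b, hb, rfl⟩ := Subgroup.mem_sup_of_normal_right.mp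
          ((sup_comm L K).trans hKL ▸ Subgroup.mem_top g : g ∈ L ⊔ K)
        exact ⟨a, ha, b, Subgroup.mem_sup_right hb, rfl⟩
      rw [← Cfsg.Agent.Solv.relIndex_eq_index_of_mul h3]
      exact Subgroup.index_dvd_of_le fun y hy => Subgroup.mem_sup_left (Subgroup.mem_map_of_mem _ hy)
    have hco : (p ^ k).Coprime (S₀ : Subgroup L).index :=
      Nat.Coprime.pow_left _ ((Nat.Prime.coprime_iff_not_dvd Fact.out).mpr S₀.not_dvd_index)
    exact Nat.eq_one_of_dvd_coprimes hco h1 h2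
  refine ⟨S, Subgroup.isComplement'_of_disjoint_and_mul_eq_univ (disjoint_iff.mpr hSK) ?_⟩
  rw [← Subgroup.mul_normal, hsup, Subgroup.coe_top]

end Cfsg.Agent.S0092
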