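import Cfsg.Statements.S0093
import Cfsg.Agent.Lib.Fusion.Critical
-- import your own Cfsg.Agent.* helpers here

set_option autoImplicit false
open Cfsg

namespace Cfsg.Agent.S0093

/-- Every finite p-group has a critical subgroup: a characteristic subgroup H whose Frattini subgroup and whose commutator with the whole group lie in the centre of H, and whose centralizer is contained in H. -/
theorem result {P : Type*} [Group P] [Finite P] {p : ℕ} [Fact p.Prime] (hP : IsPGroup p P) : ∃ H : Subgroup P, H.Characteristic ∧ (frattini H).map H.subtype ≤ Subgroup.centralizer (H : Set P) ∧ ⁅H, (⊤ : Subgroup P)⁆ ≤ H ⊓ Subgroup.centralizer (H : Set P) ∧ Subgroup.centralizer (H : Set P) ≤ H := by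
    obtain ⟨C, hC1, hC2, hC3, hC4⟩ := Fusion.exists_critical hP
    refine ⟨C, hC1, Fusion.frattini_le_centralizer hP hC2 hC3, ?_, hC4⟩
    rw [Subgroup.commutator_le]
    exact fun a ha g _ => ⟨(hC3 a ha g).1, Subgroup.mem_centralizer_iff.2 fun b hb => ((hC3 a ha g).2 b hb).symm⟩

end Cfsg.Agent.S0093
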