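import Cfsg.Statements.S0094
import Cfsg.Agent.Lib.Solv.Misc


set_option autoImplicit false
open scoped Pointwise commutatorElement
open Cfsg

namespace Cfsg.Agent.S0094

/-- In a special p-group every central element has order dividing p. -/
theorem result {P : Type*} [Group P] [Finite P] {p : ℕ} [Fact p.Prime] (h : Cfsg.IsSpecial p P) (z : P) (hz : z ∈ Subgroup.center P) : z ^ p = 1 := by
  have hz' : z ∈ commutator P := h.2.2.symm ▸ hz
  have hkey : ∀ a b : P, ⁅a, b⁆ ^ p = 1 := by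
    intro a b
    have hc : ∀ g, g * ⁅a, b⁆ = ⁅a, b⁆ * g := Subgroup.mem_center_iff.mp
      (h.2.2 ▸ Subgroup.commutator_mem_commutator (Subgroup.mem_top a) (Subgroup.mem_top b))
    have hap : a ^ p ∈ Subgroup.center P := by
      rw [← h.2.1, show frattini P = ⨅ M ∈ {M : Subgroup P | IsCoatom M}, M from rfl]
      refine Subgroup.mem_iInf.mpr fun M => Subgroup.mem_iInf.mpr fun hM => ?_
      haveI := h.1.isNilpotent
      haveI := Cfsg.Agent.Solv.coatom_normal_of_isNilpotent inferInstance M hM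
      obtain ⟨k, hk⟩ := IsPGroup.iff_card.mp h.1
      have hpr := Cfsg.Agent.Solv.prime_index_of_coatom_normal M hM
      have hd : M.index ∣ p ^ k := hk ▸ M.index_dvd_card
      rw [← (Nat.prime_dvd_prime_iff_eq hpr Fact.out).mp (hpr.dvd_of_dvd_pow hd)]
      exact M.pow_index_mem a
    have hkey' : ∀ n : ℕ, ⁅a, b⁆ ^ n = ⁅a ^ n, b⁆ := by
      intro n
      induction n with
      | zero => simp
      | succ n ih =>
        rw [pow_succ ⁅a, b⁆, ih]
        have e : ⁅a ^ (n + 1), b⁆ = a * ⁅a ^ n, b⁆ * a⁻¹ * ⁅a, b⁆ := by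
          rw [pow_succ']; simp [commutatorElement_def]; group
        rw [e, ← ih, Subgroup.mem_center_iff.mp (Subgroup.pow_mem _ (Subgroup.mem_center_iff.mpr hc) n) a,
          mul_inv_cancel_right]
    rw [hkey', commutatorElement_eq_one_iff_mul_comm]
    exact (Subgroup.mem_center_iff.mp hap b).symm
  rw [commutator_eq_closure] at hz'
  refine (Subgroup.closure_induction (p := fun x _ => x ^ p = 1 ∧ x ∈ Subgroup.center P) ?_ ?_ ?_ ?_ hz').1
  · rintro _ ⟨a, b, rfl⟩
    exact ⟨hkey a b, h.2.2 ▸ Subgroup.commutator_mem_commutator (Subgroup.mem_top a) (Subgroup.mem_top b)⟩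
  · exact ⟨one_pow _, Subgroup.one_mem _⟩
  · intro x y _ _ hx hy
    exact ⟨by rw [Commute.mul_pow (Subgroup.mem_center_iff.mp hy.2 x), hx.1, hy.1, one_mul], Subgroup.mul_mem _ hx.2 hy.2⟩
  · intro x _ hx
    exact ⟨by rw [inv_pow, hx.1, inv_one], Subgroup.inv_mem _ hx.2⟩

end Cfsg.Agent.S0094
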