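import Cfsg.Statements.S0096
import Cfsg.Agent.Lib.Solv.Replacement

set_option autoImplicit false
open scoped Pointwise
open scoped commutatorElement
open Cfsg

namespace Cfsg.Agent.S0096

/-- For odd p, in a p-group of class at most two the elements of order dividing p generate a subgroup of exponent dividing p. -/
theorem result {P : Type*} [Group P] [Finite P] {p : ℕ} [Fact p.Prime] (hp : p ≠ 2) (hP : IsPGroup p P) (h2 : ⁅commutator P, (⊤ : Subgroup P)⁆ = ⊥) (g : P) (hg : g ∈ Subgroup.closure {x : P | x ^ p = 1}) : g ^ p = 1 := by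
  have hc : ∀ a b : P, ⁅a, b⁆ ∈ Subgroup.center P := fun a b => by
    rw [Subgroup.mem_center_iff]
    intro z
    have h1 : ⁅⁅a, b⁆, z⁆ ∈ ⁅commutator P, (⊤ : Subgroup P)⁆ :=
      Subgroup.commutator_mem_commutator
        (Subgroup.commutator_mem_commutator (Subgroup.mem_top a) (Subgroup.mem_top b)) (Subgroup.mem_top z)
    rw [h2, Subgroup.mem_bot, commutatorElement_eq_one_iff_mul_comm] at h1
    exact h1.symm
  have hch : p ∣ p.choose 2 := (Fact.out : p.Prime).dvd_choose_self (by norm_num)
    (lt_of_le_of_ne (Fact.out : p.Prime).two_le (Ne.symm hp))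
  have hcomm_pow : ∀ (m : ℕ) (a b : P), ⁅a ^ m, b⁆ = ⁅a, b⁆ ^ m := by
    intro m a b
    induction m with
    | zero => simp
    | succ m ih =>
      rw [pow_succ' a, show ⁅a * a ^ m, b⁆ = a * ⁅a ^ m, b⁆ * a⁻¹ * ⁅a, b⁆ by
        simp only [commutatorElement_def]; group, ih,
        (Subgroup.mem_center_iff.mp (Subgroup.pow_mem _ (hc a b) m) a), mul_inv_cancel_right, pow_succ]
  induction hg using Subgroup.closure_induction with
  | mem x hx => exact hx
  | one => exact one_pow p
  | mul x y _ _ hx hy =>
    obtain ⟨t, ht⟩ := hch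
    rw [Solv.Repl.mul_pow_of_central (x := x) (y := y) (c := ⁅y, x⁆)
      (by simp only [commutatorElement_def]; group)
      (Subgroup.mem_center_iff.mp (hc y x) x).symm (Subgroup.mem_center_iff.mp (hc y x) y).symm,
      ht, pow_mul, ← hcomm_pow, hx, hy, commutatorElement_one_left, one_pow, mul_one, mul_one]
  | inv x _ hx => rw [inv_pow, hx, inv_one]

end Cfsg.Agent.S0096
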