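import Cfsg.Statements.S0097
import Cfsg.Agent.Lib.Solv.BurnsideBasis
import Cfsg.Agent.Lib.Solv.Replacement

set_option autoImplicit false
open scoped Pointwise
open scoped commutatorElement
open Cfsg

namespace Cfsg.Agent.S0097

/-- For odd p and E extraspecial, the subgroup generated by the elements of order dividing p has exponent dividing p and index at most p. -/
theorem result {E : Type*} [Group E] [Finite E] {p : ℕ} [Fact p.Prime] (hp : p ≠ 2) (h : Cfsg.IsExtraspecial p E) : (Subgroup.closure {x : E | x ^ p = 1}).index ≤ p ∧ ∀ g ∈ Subgroup.closure {x : E | x ^ p = 1}, g ^ p = 1 := by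
  obtain ⟨⟨hEp, hΦ, hD⟩, hZ⟩ := h
  have hc : ∀ a b : E, ⁅a, b⁆ ∈ Subgroup.center E := fun a b => by
    rw [← hD]; exact Subgroup.commutator_mem_commutator (Subgroup.mem_top a) (Subgroup.mem_top b)
  have hcp : ∀ a b : E, ⁅a, b⁆ ^ p = 1 := fun a b => by
    have h1 : (⟨⁅a, b⁆, hc a b⟩ : Subgroup.center E) ^ Nat.card (Subgroup.center E) = 1 := pow_card_eq_one'
    rw [hZ] at h1
    exact congrArg Subtype.val h1
  have hch : p ∣ p.choose 2 := (Fact.out : p.Prime).dvd_choose_self (by norm_num)
    (lt_of_le_of_ne (Fact.out : p.Prime).two_le (Ne.symm hp))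
  let φ : E →* E := MonoidHom.mk' (fun x => x ^ p) fun x y => by
    obtain ⟨t, ht⟩ := hch
    show (x * y) ^ p = x ^ p * y ^ p
    rw [Solv.Repl.mul_pow_of_central (x := x) (y := y) (c := ⁅y, x⁆)
      (by simp only [commutatorElement_def]; group)
      (Subgroup.mem_center_iff.mp (hc y x) x).symm (Subgroup.mem_center_iff.mp (hc y x) y).symm,
      ht, pow_mul, hcp, one_pow, mul_one]
  have hle : φ.range ≤ Subgroup.center E := by
    rintro _ ⟨x, rfl⟩
    exact hΦ ▸ Struct.CoprimeMinimal.pow_mem_frattini hEp x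
  have hker : Subgroup.closure {x : E | x ^ p = 1} = φ.ker :=
    le_antisymm ((Subgroup.closure_le _).mpr fun x hx => hx) fun x hx => Subgroup.subset_closure hx
  rw [hker]
  refine ⟨?_, fun g hg => hg⟩
  rw [Subgroup.index_ker]
  exact hZ ▸ Nat.le_of_dvd Nat.card_pos (Subgroup.card_dvd_of_le hle)

end Cfsg.Agent.S0097
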