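import Cfsg.Statements.S0099
import Cfsg.Agent.Lib.Solv.ExtraspecialTwo
-- import your own Cfsg.Agent.* helpers here

set_option autoImplicit false
open Cfsg

namespace Cfsg.Agent.S0099

/-- Among three extraspecial 2-groups of equal order, some two are isomorphic. -/
theorem result {E₁ : Type*} {E₂ : Type*} {E₃ : Type*} [Group E₁] [Group E₂] [Group E₃] [Finite E₁] [Finite E₂] [Finite E₃] (h₁ : Cfsg.IsExtraspecial 2 E₁) (h₂ : Cfsg.IsExtraspecial 2 E₂) (h₃ : Cfsg.IsExtraspecial 2 E₃) (h12 : Nat.card E₁ = Nat.card E₂) (h23 : Nat.card E₂ = Nat.card E₃) : Nonempty (E₁ ≃* E₂) ∨ Nonempty (E₂ ≃* E₃) ∨ Nonempty (E₁ ≃* E₃) := by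
  obtain ⟨D₁⟩ := Cfsg.Agent.Solv.ESClass.ES.exists_of h₁
  obtain ⟨D₂⟩ := Cfsg.Agent.Solv.ESClass.ES.exists_of h₂
  obtain ⟨D₃⟩ := Cfsg.Agent.Solv.ESClass.ES.exists_of h₃
  obtain ⟨n, -, hn⟩ := Cfsg.Agent.Solv.ESClass.exists_n h₁
  have s1 := Cfsg.Agent.Solv.ESClass.summary D₁ n hn
  have s2 := Cfsg.Agent.Solv.ESClass.summary D₂ n (h12 ▸ hn)
  have s3 := Cfsg.Agent.Solv.ESClass.summary D₃ n (h23 ▸ h12 ▸ hn)
  rcases s1 with ⟨a, -⟩ | ⟨-, a, -⟩ <;> rcases s2 with ⟨b, -⟩ | ⟨-, b, -⟩ <;> rcases s3 with ⟨c, -⟩ | ⟨-, c, -⟩ <;>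
  first
    | exact Or.inl (Cfsg.Agent.Solv.ESClass.iso_of_sqN h12 (by omega) D₁ D₂)
    | exact Or.inr (Or.inl (Cfsg.Agent.Solv.ESClass.iso_of_sqN h23 (by omega) D₂ D₃))
    | exact Or.inr (Or.inr (Cfsg.Agent.Solv.ESClass.iso_of_sqN (h12.trans h23) (by omega) D₁ D₃))

end Cfsg.Agent.S0099
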