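import Cfsg.Statements.S0101
import Cfsg.Agent.Lib.Solv.StructMisc

set_option autoImplicit false
open scoped Pointwise
open Cfsg

namespace Cfsg.Agent.S0101

/-- In a perfect central extension, the kernel meets each Sylow p-subgroup P inside the Frattini subgroup of P. -/
theorem result {H : Type*} {G : Type*} [Group H] [Group G] [Finite H] (σ : H →* G) (hσ : Function.Surjective σ) (hc : σ.ker ≤ Subgroup.center H) (hH : commutator H = ⊤) {p : ℕ} [Fact p.Prime] (P : Sylow p H) : σ.ker ⊓ (P : Subgroup H) ≤ (frattini P).map (P : Subgroup H).subtype := by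
  rintro z ⟨hz, hzP⟩
  have hzc : ∀ g : H, g * z = z * g := Subgroup.mem_center_iff.mp (hc hz)
  let ϕ : ↥(P : Subgroup H) →* Abelianization ↥(P : Subgroup H) := Abelianization.of
  have key : ∀ (k : ℕ) (g₀ : H), g₀⁻¹ * z ^ k * g₀ ∈ (P : Subgroup H) → g₀⁻¹ * z ^ k * g₀ = z ^ k := by
    intro k g₀ _
    rw [mul_assoc, ← ((Commute.pow_right (show Commute g₀ z from hzc g₀) k)).eq, inv_mul_cancel_left]
  have h1 := MonoidHom.transfer_eq_pow ϕ z key
  have h2 : MonoidHom.transfer ϕ z = 1 := by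
    rw [← MonoidHom.mem_ker]
    exact Abelianization.commutator_subset_ker _ (hH ▸ Subgroup.mem_top z)
  rw [h2, eq_comm] at h1
  have h3 : (⟨z, hzP⟩ : ↥(P : Subgroup H)) ^ (P : Subgroup H).index ∈ commutator ↥(P : Subgroup H) := by
    rw [← Abelianization.ker_of, MonoidHom.mem_ker]
    exact h1
  haveI := P.isPGroup'.isNilpotent
  obtain ⟨k, hk⟩ := P.isPGroup' ⟨z, hzP⟩
  obtain ⟨j, hj⟩ := exists_pow_eq_self_of_coprime (x := (⟨z, hzP⟩ : ↥(P : Subgroup H))) (n := (P : Subgroup H).index)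
    (Nat.Coprime.coprime_dvd_right (orderOf_dvd_of_pow_eq_one hk)
      (((Fact.out : p.Prime).coprime_iff_not_dvd.mpr P.not_dvd_index).symm.pow_right k))
  refine ⟨⟨z, hzP⟩, ?_, rfl⟩
  rw [← hj]
  exact Subgroup.pow_mem _ (Solv.commutator_le_frattini h3) j

end Cfsg.Agent.S0101
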