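import Cfsg.Statements.S0102
import Cfsg.Agent.Lib.Solv.Basic

set_option autoImplicit false
open scoped Pointwise
open Cfsg

namespace Cfsg.Agent.S0102

/-- A finite perfect group with cyclic Sylow p-subgroups has no perfect central extension whose kernel has order divisible by p. -/
theorem result {G : Type*} {H : Type*} [Group G] [Group H] [Finite G] [Finite H] (hG : commutator G = ⊤) {p : ℕ} [Fact p.Prime] (hcyc : ∀ P : Sylow p G, IsCyclic P) (σ : H →* G) (hσ : Function.Surjective σ) (hz : σ.ker ≤ Subgroup.center H) (hH : commutator H = ⊤) : ¬ p ∣ Nat.card σ.ker := by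
  intro hd
  obtain ⟨⟨z, hzk⟩, hzo⟩ := exists_prime_orderOf_dvd_card' p hd
  rw [← Subgroup.orderOf_coe] at hzo
  have hzc : z ∈ Subgroup.center H := hz hzk
  obtain ⟨P, hP⟩ := (IsPGroup.of_card (n := 1) (by rw [Nat.card_zpowers, hzo, pow_one]) : IsPGroup p (Subgroup.zpowers z)).exists_le_sylow
  have hzP : z ∈ (P : Subgroup H) := hP (Subgroup.mem_zpowers z)
  let g := σ.subgroupMap (P : Subgroup H)
  haveI : IsCyclic ↥((P : Subgroup H).map σ) := by
    have := hcyc (P.mapSurjective hσ)
    rwa [Sylow.coe_mapSurjective] at this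
  have hker : g.ker ≤ Subgroup.center ↥(P : Subgroup H) := fun x hx =>
    Subgroup.mem_center_iff.mpr fun y => Subtype.ext (Subgroup.mem_center_iff.mp (hz (show (x : H) ∈ σ.ker from congrArg Subtype.val hx)) y)
  letI : CommGroup ↥(P : Subgroup H) := { (inferInstance : Group ↥(P : Subgroup H)) with
    mul_comm := commutative_of_cyclic_center_quotient g hker }
  let t : H →* ↥(P : Subgroup H) := MonoidHom.transfer (MonoidHom.id _)
  have ht : t.ker = ⊤ := top_le_iff.mp (hH ▸ Abelianization.commutator_subset_ker t)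
  have h1 : t z = 1 := MonoidHom.mem_ker.mp (ht ▸ Subgroup.mem_top z)
  have h1' := (MonoidHom.transfer_eq_pow (MonoidHom.id ↥(P : Subgroup H)) z (fun k g₀ _ => by
    rw [mul_assoc, ← Subgroup.mem_center_iff.mp (Subgroup.pow_mem _ hzc k) g₀, inv_mul_cancel_left])).symm.trans h1
  have h2 : z ^ (P : Subgroup H).index = 1 := congrArg Subtype.val h1'
  exact P.not_dvd_index ((dvd_of_eq hzo.symm).trans (orderOf_dvd_of_pow_eq_one h2))

end Cfsg.Agent.S0102
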