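import Cfsg.Statements.S0104
import Cfsg.Agent.Lib.Solv.TransferApps
import Cfsg.Agent.Lib.Solv.Carter

set_option autoImplicit false
open scoped Pointwise
open Cfsg

namespace Cfsg.Agent.S0104

/-- A subgroup Z of a Sylow p-subgroup P that is normalized by N_G(P) is weakly closed in P exactly when it is normal in every Sylow p-subgroup containing it. -/
theorem result {G : Type*} [Group G] [Finite G] {p : ℕ} [Fact p.Prime] (P : Sylow p G) (Z : Subgroup G) (hZP : Z ≤ (P : Subgroup G)) (hZN : Subgroup.normalizer (P : Set G) ≤ Subgroup.normalizer (Z : Set G)) : Cfsg.IsWeaklyClosed Z P ↔ ∀ R : Sylow p G, Z ≤ (R : Subgroup G) → (R : Subgroup G) ≤ Subgroup.normalizer (Z : Set G) := by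
  constructor
  · intro hW R hR
    obtain ⟨g, rfl⟩ := MulAction.exists_smul_eq G P R
    have hgz : Z.map (MulAut.conj g⁻¹).toMonoidHom = Z := by
      refine hW.2 g⁻¹ ?_
      rintro _ ⟨z, hz, rfl⟩
      have h1 := hR hz
      rw [Sylow.coe_subgroup_smul, Cfsg.Agent.Solv.mem_conj_smul] at h1
      simpa using h1
    have hgN : g⁻¹ ∈ Subgroup.normalizer (Z : Set G) := Cfsg.Agent.Solv.mem_normalizer_conj_iff.mpr hgz
    intro r hr
    rw [Sylow.coe_subgroup_smul, Cfsg.Agent.Solv.mem_conj_smul] at hr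
    have h2 := Subgroup.mul_mem _ (Subgroup.mul_mem _ (inv_mem hgN) (hZN (Subgroup.le_normalizer hr))) hgN
    simpa [mul_assoc] using h2
  · refine fun h => ⟨hZP, fun g hg => ?_⟩
    have hR : ((g⁻¹ • P : Sylow p G) : Subgroup G) ≤ Subgroup.normalizer (Z : Set G) := by
      refine h _ fun z hz => ?_
      rw [Sylow.coe_subgroup_smul, Cfsg.Agent.Solv.mem_conj_smul, inv_inv]
      exact hg ⟨z, hz, rfl⟩
    obtain ⟨k, hk⟩ := MulAction.exists_smul_eq (Subgroup.normalizer (Z : Set G))
      (P.subtype (Subgroup.le_normalizer.trans hZN)) ((g⁻¹ • P).subtype hR)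
    simp_rw [Sylow.smul_subtype, Subgroup.smul_def] at hk
    have hgk : g * k ∈ Subgroup.normalizer (Z : Set G) := hZN (Sylow.smul_eq_iff_mem_normalizer.mp (by
      rw [mul_smul, Sylow.subtype_injective hk, smul_inv_smul]))
    refine Cfsg.Agent.Solv.mem_normalizer_conj_iff.mp ?_
    simpa using Subgroup.mul_mem _ hgk (inv_mem k.2)

end Cfsg.Agent.S0104
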