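import Cfsg.Statements.S0105
import Cfsg.Agent.Lib.Solv.TransferApps

set_option autoImplicit false
open scoped Pointwise
open Cfsg

namespace Cfsg.Agent.S0105

/-- With an abelian Sylow p-subgroup P, some quotient of G is isomorphic to the part of P central in N_G(P). -/
theorem result {G : Type*} [Group G] [Finite G] {p : ℕ} [Fact p.Prime] (P : Sylow p G) (hP : IsMulCommutative P) : ∃ (N : Subgroup G) (hN : N.Normal), Nonempty (G ⧸ N ≃* ((P : Subgroup G) ⊓ Subgroup.centralizer (Subgroup.normalizer (P : Set G) : Set G) : Subgroup G)) := by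
  haveI := hP
  set N := Subgroup.normalizer (P : Set G)
  set C := (P : Subgroup G) ⊓ Subgroup.centralizer (N : Set G)
  obtain ⟨hinf, hsup⟩ := Cfsg.Agent.Solv.abelian_hall_decomp (P : Subgroup G) N Subgroup.le_normalizer le_rfl
    (P.card_coprime_index.coprime_dvd_right (Subgroup.relIndex_dvd_index_of_le Subgroup.le_normalizer))
  rw [← Cfsg.Agent.Solv.focalSubgroup_eq_of_abelian P hP] at hinf hsup
  set f : C →* (P : Subgroup G) ⧸ (P : Subgroup G).focalSubgroupOf :=
    (QuotientGroup.mk' _).comp (Subgroup.inclusion (inf_le_left : C ≤ (P : Subgroup G)))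
  have hf : Function.Bijective f := by
    constructor
    · rw [injective_iff_map_eq_one]
      intro c hc
      have h1 : (c : G) ∈ (P : Subgroup G).focalSubgroup ⊓ Subgroup.centralizer (N : Set G) :=
        ⟨((QuotientGroup.eq_one_iff (Subgroup.inclusion inf_le_left c)).mp hc : _), c.2.2⟩
      rw [hinf, Subgroup.mem_bot] at h1
      exact Subtype.ext h1
    · intro y
      obtain ⟨x, rfl⟩ := QuotientGroup.mk'_surjective _ y
      obtain ⟨a, ha, c, hc, he⟩ : ∃ a ∈ (P : Subgroup G).focalSubgroup, ∃ c ∈ C, a * c = (x : G) := by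
        have h1 : (x : G) ∈ (P : Subgroup G).focalSubgroup ⊔ C := hsup.symm ▸ x.2
        rw [← SetLike.mem_coe, Subgroup.coe_mul_of_right_le_normalizer_left] at h1
        · exact h1
        · exact (inf_le_left.trans (Subgroup.le_centralizer _)).trans
            ((Subgroup.centralizer_le (Subgroup.focalSubgroup_le _)).trans (Subgroup.centralizer_le_normalizer _))
      refine ⟨⟨c, hc⟩, QuotientGroup.eq.mpr ?_⟩
      have haP := Subgroup.focalSubgroup_le _ ha
      have : ((⟨c, hc.1⟩ : (P : Subgroup G))⁻¹ * x : (P : Subgroup G)) = ⟨a, haP⟩ := by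
        rw [inv_mul_eq_iff_eq_mul, mul_comm']
        exact Subtype.ext he.symm
      exact this ▸ ha
  exact ⟨_, inferInstance, ⟨(Subgroup.transferFocal.quotientKerMulEquivQuotientFocalSubroupOf P).trans
    (MulEquiv.ofBijective f hf).symm⟩⟩

end Cfsg.Agent.S0105
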