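import Cfsg.Statements.S0106
import Cfsg.Agent.Lib.Solv.NormalPComplement
import Cfsg.Agent.Lib.Local.SL2Three
import Mathlib

set_option autoImplicit false
open Cfsg

namespace Cfsg.Agent.S0106

open Subgroup

theorem two_torsion {N : ℕ} [NeZero N] (z : ZMod (2 * N)) (h : z + z = 0) : z = 0 ∨ z = (N : ZMod (2 * N)) := by
  have h1 : ((z.val + z.val : ℕ) : ZMod (2 * N)) = 0 := by rw [Nat.cast_add, ZMod.natCast_zmod_val]; exact h
  rw [ZMod.natCast_eq_zero_iff] at h1
  obtain ⟨c, hc⟩ := h1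
  have hlt := z.val_lt
  rcases c with _ | _ | c
  · left; rw [← ZMod.natCast_zmod_val z, show z.val = 0 by omega, Nat.cast_zero]
  · right; rw [← ZMod.natCast_zmod_val z, show z.val = N by omega]
  · exfalso
    have : 2 * N * 2 ≤ 2 * N * (c + 1 + 1) := Nat.mul_le_mul_left _ (by omega)
    omega

/-- Automorphisms of odd order of subgroups of generalized quaternion groups. -/
theorem auto {Q : Type*} [Group Q] [Finite Q] (hQ : IsPGroup 2 Q) {N : ℕ} [NeZero N] (ι : Q →* QuaternionGroup N)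
    (hι : Function.Injective ι) (σ : MulAut Q) {m : ℕ} (hm : Odd m) (hσ : σ ^ m = 1) (hne : σ ≠ 1) :
    ∃ x y : Q, σ x = y ∧ σ y = x * y ∧ σ (x * y) = x ∧ x ^ 4 = 1 ∧ y * y = x * x ∧ y * x = x ^ 3 * y ∧
      (∀ q : Q, ∃ (a : Fin 4) (b : Fin 2), q = x ^ (a : ℕ) * y ^ (b : ℕ)) ∧ Nat.card Q = 8 := by
  classical
  set C : Subgroup Q := (zpowers (QuaternionGroup.a 1 : QuaternionGroup N)).comap ι with hC
  have hmem : ∀ q, q ∈ C ↔ ∃ i, ι q = QuaternionGroup.a i := by
    intro q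
    rw [hC, mem_comap, ← mem_powers_iff_mem_zpowers, Submonoid.mem_powers_iff]
    exact ⟨fun ⟨k, hk⟩ => ⟨k, by rw [← hk, QuaternionGroup.a_one_pow]⟩,
      fun ⟨i, hi⟩ => ⟨i.val, by rw [hi, QuaternionGroup.a_one_pow, ZMod.natCast_zmod_val]⟩⟩
  have hout : ∀ q, q ∉ C → ∃ i, ι q = QuaternionGroup.xa i := fun q hq => by
    rcases h : ι q with i | i
    · exact absurd ((hmem q).2 ⟨i, h⟩) hq
    · exact ⟨i, rfl⟩
  have hprod : ∀ q r, q ∉ C → r ∉ C → q⁻¹ * r ∈ C ∧ r * q⁻¹ ∈ C := by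
    intro q r hq hr
    obtain ⟨j, hj⟩ := hout r hr
    obtain ⟨i, hi⟩ := hout q⁻¹ (fun h => hq (inv_mem_iff.1 h))
    exact ⟨(hmem _).2 ⟨_, by rw [map_mul, hi, hj]; rfl⟩, (hmem _).2 ⟨_, by rw [map_mul, hi, hj]; rfl⟩⟩
  let ιC : C →* zpowers (QuaternionGroup.a 1 : QuaternionGroup N) := (ι.comp C.subtype).codRestrict _ fun q => q.2
  haveI : IsCyclic C := isCyclic_of_injective ιC fun a b h => Subtype.ext (hι (congrArg Subtype.val h))
  obtain ⟨⟨c, hcC⟩, hgen⟩ := IsCyclic.exists_generator (α := C)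
  have hgen' : ∀ q ∈ C, ∃ k : ℕ, c ^ k = q := by
    intro q hq
    obtain ⟨k, hk⟩ := Submonoid.mem_powers_iff _ _ |>.1 (mem_powers_iff_mem_zpowers.2 (hgen ⟨q, hq⟩))
    exact ⟨k, congrArg Subtype.val hk⟩
  have hiter : ∀ q : Q, σ (σ q) = q → σ q = q := by
    intro q h
    obtain ⟨t, ht⟩ := hm
    have h2 : ∀ t : ℕ, (σ ^ (2 * t)) q = q := by
      intro t
      induction t with
      | zero => simp
      | succ t ih => rw [show 2 * (t + 1) = 2 * t + 1 + 1 by ring, pow_succ, pow_succ, MulAut.mul_apply, MulAut.mul_apply, h, ih]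
    have h1 : (σ ^ m) q = q := by rw [hσ]; rfl
    rwa [ht, pow_succ', MulAut.mul_apply, h2 t] at h1
  have hiter4 : ∀ q : Q, σ (σ (σ (σ q))) = q → σ q = q := fun q h => by
    refine hiter q ?_
    obtain ⟨t, ht⟩ := hm
    have h4 : ∀ t : ℕ, (σ ^ (4 * t)) q = q := by
      intro t
      induction t with
      | zero => simp
      | succ t ih => rw [show 4 * (t + 1) = 4 * t + 1 + 1 + 1 + 1 by ring, pow_succ, pow_succ, pow_succ, pow_succ,
          MulAut.mul_apply, MulAut.mul_apply, MulAut.mul_apply, MulAut.mul_apply, h, ih]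
    have h1 : (σ ^ (2 * m)) q = q := by rw [mul_comm, pow_mul, hσ, one_pow]; rfl
    rw [ht, show 2 * (2 * t + 1) = 2 + 4 * t by ring, pow_add, MulAut.mul_apply, h4 t, sq, MulAut.mul_apply] at h1
    exact h1
  by_cases hσc : σ c ∈ C
  · exfalso
    apply hne
    obtain ⟨k, hk⟩ := IsPGroup.iff_orderOf.1 hQ c
    obtain ⟨j, hj⟩ := hgen' _ hσc
    have ht : ∀ t : ℕ, (σ ^ t) c = c ^ (j ^ t) := by
      intro t
      induction t with
      | zero => simp
      | succ t ih => rw [pow_succ', MulAut.mul_apply, ih, map_pow, ← hj, ← pow_mul, pow_succ']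
    have hmod : j ^ m ≡ 1 [MOD 2 ^ k] := by
      rw [← hk, ← pow_eq_pow_iff_modEq, ← ht m, hσ, pow_one]; rfl
    have hj1 : (j : ZMod (2 ^ k)) = 1 := by
      have h1 : (j : ZMod (2 ^ k)) ^ m = 1 := by
        rw [← Nat.cast_pow, ← Nat.cast_one, ZMod.natCast_eq_natCast_iff]; exact hmod
      have hu : IsUnit (j : ZMod (2 ^ k)) := IsUnit.of_pow_eq_one h1 (Nat.ne_of_odd_add (n := 0) (by simpa using hm))
      obtain ⟨u, hu'⟩ := hu
      have h2 : u ^ m = 1 := Units.ext (by rw [Units.val_pow_eq_pow_val, hu', h1, Units.val_one])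
      have h3 : orderOf u ∣ 2 ^ k := by
        haveI : NeZero (2 ^ k) := ⟨pow_ne_zero _ two_ne_zero⟩
        refine (orderOf_dvd_natCard u).trans ?_
        rw [Nat.card_eq_fintype_card, ZMod.card_units_eq_totient]
        rcases k with _ | k
        · simp
        · rw [Nat.totient_prime_pow Nat.prime_two (Nat.succ_pos k)]
          simp only [Nat.add_sub_cancel, show (2 : ℕ) - 1 = 1 from rfl, mul_one]
          exact pow_dvd_pow 2 (Nat.le_succ k)
      have h4 : orderOf u = 1 := Nat.eq_one_of_dvd_coprimes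
        (((Nat.coprime_two_left.2 hm).pow_left k)) h3 (orderOf_dvd_of_pow_eq_one h2)
      rw [← hu', orderOf_eq_one_iff.1 h4, Units.val_one]
    have hfixc : σ c = c := by
      rw [← hj]
      conv_rhs => rw [← pow_one c]
      rw [pow_eq_pow_iff_modEq, hk, ← ZMod.natCast_eq_natCast_iff, hj1, Nat.cast_one]
    have hfixC : ∀ q ∈ C, σ q = q := fun q hq => by
      obtain ⟨l, rfl⟩ := hgen' q hq
      rw [map_pow, hfixc]
    refine MulEquiv.ext fun q => ?_
    by_cases hq : q ∈ C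
    · exact hfixC q hq
    have hq' : σ q ∉ C := fun h => hq (by
      have := hfixC _ h
      rwa [σ.injective this] at h)
    have hd := (hprod q (σ q) hq hq').1
    have hpow : ∀ t : ℕ, (σ ^ t) q = q * (q⁻¹ * σ q) ^ t := by
      intro t
      induction t with
      | zero => simp
      | succ t ih => rw [pow_succ', MulAut.mul_apply, ih, map_mul, map_pow, hfixC _ hd, pow_succ', ← mul_assoc, mul_inv_cancel_left]
    have h1 := hpow m
    rw [hσ] at h1
    have h2 : (q⁻¹ * σ q) ^ m = 1 := mul_eq_left.1 h1.symm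
    obtain ⟨l, hl⟩ := IsPGroup.iff_orderOf.1 hQ (q⁻¹ * σ q)
    have h3 : orderOf (q⁻¹ * σ q) = 1 := Nat.eq_one_of_dvd_coprimes
      ((Nat.coprime_two_left.2 hm).pow_left l) (dvd_of_eq hl) (orderOf_dvd_of_pow_eq_one h2)
    exact (inv_mul_eq_one.1 (orderOf_eq_one_iff.1 h3)).symm
  -- now `Q` is quaternion of order eight
  have facts : ∀ x : Q, x ∈ C → σ x ∉ C → orderOf x = 4 ∧ σ x * σ x = x * x ∧ σ x * x = x ^ 3 * σ x := by
    intro x hx hy
    obtain ⟨i, hi⟩ := (hmem x).1 hx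
    obtain ⟨j, hj⟩ := hout _ hy
    have hord : orderOf x = 4 := by
      rw [← MulEquiv.orderOf_eq σ x, ← orderOf_injective ι hι, hj, QuaternionGroup.orderOf_xa]
    have h4 : (i + i) + (i + i) = 0 := by
      have h : ι (x ^ 4) = 1 := by rw [← hord, pow_orderOf_eq_one, map_one]
      rw [map_pow, hi, show (4 : ℕ) = 2 * 2 from rfl, pow_mul, sq, sq, QuaternionGroup.a_mul_a, QuaternionGroup.a_mul_a] at h
      exact QuaternionGroup.a.inj h
    have h2 : i + i ≠ 0 := fun h => by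
      have h' : x ^ 2 = 1 := hι (by rw [map_pow, hi, sq, QuaternionGroup.a_mul_a, h, map_one]; rfl)
      have := orderOf_dvd_of_pow_eq_one h'
      rw [hord] at this
      norm_num at this
    refine ⟨hord, hι ?_, hι ?_⟩
    · rw [map_mul, map_mul, hi, hj, QuaternionGroup.xa_mul_xa, QuaternionGroup.a_mul_a, (two_torsion _ h4).resolve_left h2,
        add_sub_cancel_right]
    · rw [map_mul, map_mul, map_pow, hi, hj, QuaternionGroup.xa_mul_a, pow_succ, sq, QuaternionGroup.a_mul_a,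
        QuaternionGroup.a_mul_a, QuaternionGroup.a_mul_xa]
      refine congrArg _ (eq_sub_iff_add_eq.2 ?_)
      rw [add_assoc, show i + (i + i + i) = i + i + (i + i) by abel, h4, add_zero]
  obtain ⟨hord, hyy, hyx⟩ := facts c hcC hσc
  have hC4 : ∀ q ∈ C, ∃ a : Fin 4, q = c ^ (a : ℕ) := fun q hq => by
    obtain ⟨k, rfl⟩ := hgen' q hq
    refine ⟨⟨k % 4, Nat.mod_lt _ (by norm_num)⟩, ?_⟩
    have h := pow_mod_orderOf c k
    rw [hord] at h
    exact h.symm
  have hdec : ∀ q : Q, ∃ (a : Fin 4) (b : Fin 2), q = c ^ (a : ℕ) * (σ c) ^ (b : ℕ) := by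
    intro q
    by_cases hq : q ∈ C
    · obtain ⟨a, ha⟩ := hC4 q hq
      exact ⟨a, 0, by simp [← ha]⟩
    · obtain ⟨a, ha⟩ := hC4 _ (hprod (σ c) q hσc hq).2
      exact ⟨a, 1, by rw [show ((1 : Fin 2) : ℕ) = 1 from rfl, pow_one, ← ha, inv_mul_cancel_right]⟩
  have hcard : Nat.card Q = 8 := by
    have : Function.Bijective (fun u : Fin 4 × Fin 2 => c ^ (u.1 : ℕ) * (σ c) ^ (u.2 : ℕ)) := by
      refine ⟨?_, fun q => by obtain ⟨a, b, h⟩ := hdec q; exact ⟨(a, b), h.symm⟩⟩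
      rintro ⟨a, b⟩ ⟨a', b'⟩ h
      have hb : b = b' := by
        fin_cases b <;> fin_cases b' <;> simp only [Fin.mk_one, Fin.zero_eta] <;> exfalso <;>
          simp only [Fin.val_zero, Fin.val_one, pow_zero, pow_one, mul_one, Fin.mk_one, Fin.zero_eta] at h
        · exact hσc (by rw [show σ c = (c ^ (a' : ℕ))⁻¹ * c ^ (a : ℕ) by rw [h]; group]; exact mul_mem (inv_mem (pow_mem hcC _)) (pow_mem hcC _))
        · exact hσc (by rw [show σ c = (c ^ (a : ℕ))⁻¹ * c ^ (a' : ℕ) by rw [← h]; group]; exact mul_mem (inv_mem (pow_mem hcC _)) (pow_mem hcC _))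
      subst hb
      have h' : c ^ (a : ℕ) = c ^ (a' : ℕ) := mul_right_cancel h
      exact Prod.ext (Fin.ext (pow_injOn_Iio_orderOf (by rw [Set.mem_Iio, hord]; exact a.2) (by rw [Set.mem_Iio, hord]; exact a'.2) h')) rfl
    rw [← Nat.card_congr (Equiv.ofBijective _ this)]
    simp
  have hne1 : σ c ≠ c := fun h => hσc (by rw [h]; exact hcC)
  have hx4 : c ^ 4 = 1 := by rw [← hord]; exact pow_orderOf_eq_one c
  have hoy : orderOf (σ (σ c)) = 4 := by rw [MulEquiv.orderOf_eq, MulEquiv.orderOf_eq, hord]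
  obtain ⟨a, b, hz⟩ := hdec (σ (σ c))
  fin_cases a <;> fin_cases b <;> simp only [Fin.val_zero, Fin.val_one, Fin.val_two, pow_zero, pow_one, mul_one, one_mul, Fin.mk_one, Fin.zero_eta, Fin.reduceFinMk] at hz
  · exfalso; rw [hz, orderOf_one] at hoy; omega
  · exfalso; exact hne1 (σ.injective hz)
  · exfalso; exact hne1 (hiter c hz)
  · -- the good orientation
    refine ⟨c, σ c, rfl, hz, ?_, hx4, hyy, hyx, hdec, hcard⟩
    calc σ (c * σ c) = σ c * (c * σ c) := by rw [map_mul, hz]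
      _ = c ^ 3 * (σ c * σ c) := by rw [← mul_assoc, hyx, mul_assoc]
      _ = c ^ 4 * c := by rw [hyy]; group
      _ = c := by rw [hx4, one_mul]
  · exfalso
    have h2 : (σ (σ c)) ^ 2 = 1 := by rw [hz, ← pow_mul]; exact hx4
    have := orderOf_dvd_of_pow_eq_one h2
    rw [hoy] at this
    norm_num at this
  · exfalso
    have h3 : σ (σ c) = (σ c) ^ 3 := by rw [hz, show (σ c) ^ 3 = σ c * σ c * σ c by rw [pow_succ, sq], hyy, sq]
    have h4 : σ (σ c) = σ c := by
      refine hiter (σ c) ?_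
      rw [h3, map_pow, h3, ← pow_mul, show 3 * 3 = 4 * 2 + 1 from rfl, pow_succ, pow_mul,
        show (σ c) ^ 4 = 1 by rw [← map_pow, hx4, map_one], one_pow, one_mul]
    exact hne1 (σ.injective h4)
  · exfalso
    have h2 : σ (σ (σ (σ c))) = c := by
      rw [hz, map_pow, map_pow, hz, ← pow_mul, show 3 * 3 = 4 * 2 + 1 from rfl, pow_succ, pow_mul, hx4, one_pow, one_mul]
    exact hne1 (hiter4 c h2)
  · -- the other orientation: use the inverse of `c`
    have hinv : σ c⁻¹ ∉ C := fun h => hσc (by rwa [map_inv, inv_mem_iff] at h)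
    obtain ⟨hord', hyy', hyx'⟩ := facts c⁻¹ (inv_mem hcC) hinv
    have hx4' : c⁻¹ ^ 4 = 1 := by rw [inv_pow, hx4, inv_one]
    have hz' : σ (σ c⁻¹) = c⁻¹ * σ c⁻¹ := by
      rw [map_inv, map_inv, hz, mul_inv_rev]
      have h5 : (σ c * c)⁻¹ = (c ^ 3 * σ c)⁻¹ := by rw [hyx]
      rw [mul_inv_rev, mul_inv_rev] at h5
      exact h5.symm
    refine ⟨c⁻¹, σ c⁻¹, rfl, hz', ?_, hx4', hyy', hyx', ?_, hcard⟩
    · calc σ (c⁻¹ * σ c⁻¹) = σ c⁻¹ * (c⁻¹ * σ c⁻¹) := by rw [map_mul, hz']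
        _ = c⁻¹ ^ 3 * (σ c⁻¹ * σ c⁻¹) := by rw [← mul_assoc, hyx', mul_assoc]
        _ = c⁻¹ ^ 4 * c⁻¹ := by rw [hyy']; group
        _ = c⁻¹ := by rw [hx4', one_mul]
    · intro q
      obtain ⟨a, b, rfl⟩ := hdec q
      have e : ∀ l : ℕ, c⁻¹ ^ (l % 4) = c⁻¹ ^ l := fun l => by
        have h := pow_mod_orderOf c⁻¹ l
        rwa [hord'] at h
      have e3 : c⁻¹ ^ 3 = c := by rw [inv_pow, inv_eq_iff_mul_eq_one, ← pow_succ, hx4]
      fin_cases b
      · refine ⟨⟨3 * (a : ℕ) % 4, Nat.mod_lt _ (by norm_num)⟩, 0, ?_⟩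
        simp only [Fin.val_zero, pow_zero, mul_one, Fin.zero_eta]
        rw [e, pow_mul, e3]
      · refine ⟨⟨(3 * (a : ℕ) + 2) % 4, Nat.mod_lt _ (by norm_num)⟩, 1, ?_⟩
        simp only [Fin.val_one, pow_one, Fin.mk_one]
        rw [e, pow_add, pow_mul, e3, mul_assoc]
        congr 1
        rw [inv_pow, map_inv, ← mul_inv_rev, eq_inv_iff_mul_eq_one, sq, ← mul_assoc, hyy, ← mul_assoc]
        calc c * c * c * c = c ^ 4 := by rw [pow_succ, pow_succ, sq]
          _ = 1 := hx4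

/-- A finite group with generalized quaternion Sylow 2-subgroups either has a normal 2-complement or has a section isomorphic to SL(2,3). -/
theorem result {G : Type*} [Group G] [Finite G] (T : Sylow 2 G) (n : ℕ) (hn : 1 ≤ n) (hT : Nonempty ((T : Subgroup G) ≃* QuaternionGroup (2 ^ n))) : Cfsg.HasNormalPComplement 2 G ∨ ∃ (H K : Subgroup G) (hK : (K.subgroupOf H).Normal), Nonempty ((H ⧸ K.subgroupOf H) ≃* Matrix.SpecialLinearGroup (Fin 2) (ZMod 3)) := by
  classical
  by_cases hnpc : Cfsg.HasNormalPComplement 2 G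
  · exact Or.inl hnpc
  right
  haveI : Fact (Nat.Prime 2) := ⟨Nat.prime_two⟩
  obtain ⟨Q, hQ, g, hg, hgc, hgn⟩ : ∃ Q : Subgroup G, IsPGroup 2 Q ∧ ∃ g ∈ Subgroup.normalizer (Q : Set G),
      (orderOf g).Coprime 2 ∧ g ∉ Subgroup.centralizer (Q : Set G) := by
    by_contra h
    push Not at h
    exact hnpc (Cfsg.Agent.Solv.FrobeniusCond.hasNormalPComplement fun Q hQ g hg hc => h Q hQ g hg hc)
  obtain ⟨T', hT'⟩ := hQ.exists_le_sylow
  obtain ⟨e⟩ := hT
  haveI : NeZero (2 ^ n) := ⟨pow_ne_zero _ two_ne_zero⟩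
  let ι : Q →* QuaternionGroup (2 ^ n) := (((Sylow.equiv T' T).trans e).toMonoidHom).comp (Subgroup.inclusion hT')
  have hι : Function.Injective ι := ((Sylow.equiv T' T).trans e).injective.comp (Subgroup.inclusion_injective hT')
  let σ : MulAut Q :=
    { toFun := fun q => ⟨g * q * g⁻¹, (Subgroup.mem_normalizer_iff.1 hg q).1 q.2⟩
      invFun := fun q => ⟨g⁻¹ * q * g, (Subgroup.mem_normalizer_iff''.1 hg q).1 q.2⟩
      left_inv := fun q => Subtype.ext (by show g⁻¹ * (g * (q : G) * g⁻¹) * g = q; group)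
      right_inv := fun q => Subtype.ext (by show g * (g⁻¹ * (q : G) * g) * g⁻¹ = q; group)
      map_mul' := fun q r => Subtype.ext (by show g * ((q : G) * r) * g⁻¹ = g * q * g⁻¹ * (g * r * g⁻¹); group) }
  have hσt : ∀ (t : ℕ) (q : Q), ((σ ^ t) q : G) = g ^ t * q * (g ^ t)⁻¹ := by
    intro t
    induction t with
    | zero => intro q; simp
    | succ t ih =>
      intro q
      rw [pow_succ', MulAut.mul_apply]
      show g * ((σ ^ t) q : G) * g⁻¹ = _
      rw [ih, pow_succ']; group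
  set m := orderOf g with hm
  have hmodd : Odd m := Nat.coprime_two_right.1 hgc
  have hσm : σ ^ m = 1 := MulEquiv.ext fun q => Subtype.ext (by rw [hσt, hm, pow_orderOf_eq_one]; simp)
  have hσ1 : σ ≠ 1 := fun h => hgn (Subgroup.mem_centralizer_iff.2 fun q hq => by
    have h1 : g * q * g⁻¹ = q := congrArg (fun τ : MulAut Q => ((τ ⟨q, hq⟩ : Q) : G)) h
    exact (mul_inv_eq_iff_eq_mul.1 h1).symm)
  obtain ⟨x, y, hx, hy, hxy, hx4, hyy, hyx, hdec, hcard⟩ := auto hQ ι hι σ hmodd hσm hσ1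
  have h3 : σ ^ 3 = 1 := MulEquiv.ext fun q => by
    obtain ⟨a, b, rfl⟩ := hdec q
    have e1 : (σ ^ 3) x = x := by rw [pow_succ, sq, MulAut.mul_apply, MulAut.mul_apply, hx, hy, hxy]
    have e2 : (σ ^ 3) y = y := by rw [pow_succ, sq, MulAut.mul_apply, MulAut.mul_apply, hy, hxy, hx]
    rw [map_mul, map_pow, map_pow, e1, e2]; rfl
  have hg3 : ∀ q : Q, g ^ 3 * (q : G) = q * g ^ 3 := fun q => by
    have h := hσt 3 q
    rw [h3] at h
    exact mul_inv_eq_iff_eq_mul.1 h.symm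
  have h3m : 3 ∣ m := by
    by_contra hne
    apply hσ1
    have h1 : orderOf σ ∣ Nat.gcd 3 m := Nat.dvd_gcd (orderOf_dvd_of_pow_eq_one h3) (orderOf_dvd_of_pow_eq_one hσm)
    rw [(Nat.prime_three.coprime_iff_not_dvd.2 hne).gcd_eq_one, Nat.dvd_one] at h1
    exact orderOf_eq_one_iff.1 h1
  set H := Q ⊔ Subgroup.zpowers g with hH
  set K := Subgroup.zpowers (g ^ 3) with hK
  have hgH : g ∈ H := Subgroup.mem_sup_right (Subgroup.mem_zpowers g)
  have hKH : K ≤ H := Subgroup.zpowers_le.2 (pow_mem hgH 3)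
  have hKn : (K.subgroupOf H).Normal := by
    refine (Subgroup.normal_subgroupOf_iff_le_normalizer hKH).2 (sup_le ?_ ?_)
    · refine le_trans ?_ (Subgroup.centralizer_le_normalizer (K : Set G))
      intro q hq
      rw [hK, Subgroup.zpowers_eq_closure, Subgroup.centralizer_closure, Subgroup.mem_centralizer_iff]
      intro w hw
      rw [Set.mem_singleton_iff.1 hw]
      exact hg3 ⟨q, hq⟩
    · rw [Subgroup.zpowers_le]
      refine Subgroup.centralizer_le_normalizer (K : Set G) ?_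
      rw [hK, Subgroup.zpowers_eq_closure, Subgroup.centralizer_closure, Subgroup.mem_centralizer_iff]
      intro w hw
      rw [Set.mem_singleton_iff.1 hw]
      exact (Commute.pow_self g 3).eq
  refine ⟨H, K, hKn, ?_⟩
  set π := QuotientGroup.mk' (K.subgroupOf H)
  let xb := π ⟨x, Subgroup.mem_sup_left x.2⟩
  let yb := π ⟨y, Subgroup.mem_sup_left y.2⟩
  let fb := π ⟨g, hgH⟩
  have hgx : g * (x : G) = (y : G) * g := by
    have h : g * (x : G) * g⁻¹ = y := congrArg Subtype.val hx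
    exact mul_inv_eq_iff_eq_mul.1 h
  have hgy : g * (y : G) = (x : G) * y * g := by
    have h : g * (y : G) * g⁻¹ = (x : G) * y := congrArg Subtype.val hy
    exact mul_inv_eq_iff_eq_mul.1 h
  have hrels : Cfsg.Agent.Local.SL2Three.Rels xb yb fb := by
    constructor
    · show π _ ^ 4 = 1
      rw [← map_pow, ← map_one π]
      exact congrArg π (Subtype.ext (congrArg Subtype.val hx4 : ((x : G)) ^ 4 = 1))
    · show π _ * π _ = π _ * π _
      rw [← map_mul, ← map_mul]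
      exact congrArg π (Subtype.ext (congrArg Subtype.val hyy :))
    · show π _ * π _ = π _ ^ 3 * π _
      rw [← map_pow, ← map_mul, ← map_mul]
      exact congrArg π (Subtype.ext (congrArg Subtype.val hyx :))
    · show π _ ^ 3 = 1
      rw [← map_pow]
      exact (QuotientGroup.eq_one_iff _).2 (Subgroup.mem_zpowers (g ^ 3))
    · show π _ * π _ = π _ * π _
      rw [← map_mul, ← map_mul]
      exact congrArg π (Subtype.ext hgx)
    · show π _ * π _ = π _ * π _ * π _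
      rw [← map_mul, ← map_mul, ← map_mul]
      exact congrArg π (Subtype.ext hgy)
  have hgQ : Subgroup.zpowers g ≤ Subgroup.normalizer (Q : Set G) := Subgroup.zpowers_le.2 hg
  have hdis : Disjoint Q (Subgroup.zpowers g) := by
    rw [disjoint_iff]
    refine Subgroup.inf_eq_bot_of_coprime ?_
    rw [Nat.card_zpowers, hcard, show (8 : ℕ) = 2 ^ 3 from rfl]
    exact (Nat.coprime_two_left.2 hmodd).pow_left 3
  have hsurj : Function.Surjective (Cfsg.Agent.Local.SL2Three.val xb yb fb) := by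
    intro w
    obtain ⟨⟨w', hw⟩, rfl⟩ := QuotientGroup.mk'_surjective _ w
    have hw2 := hw
    rw [← SetLike.mem_coe, hH, Subgroup.coe_mul_of_right_le_normalizer_left _ _ hgQ] at hw2
    obtain ⟨q, hq, _, ⟨i, rfl⟩, hqi⟩ := hw2
    obtain ⟨a, b, hab⟩ := hdec ⟨q, hq⟩
    refine ⟨(a, b, ⟨(i % 3).toNat, by omega⟩), ?_⟩
    show (xb ^ (a : ℕ) * yb ^ (b : ℕ)) * fb ^ (i % 3).toNat = _
    rw [← map_pow, ← map_pow, ← map_pow, ← map_mul, ← map_mul]
    refine (QuotientGroup.eq.2 ?_)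
    rw [Subgroup.mem_subgroupOf]
    have hqab : q = (x : G) ^ (a : ℕ) * (y : G) ^ (b : ℕ) := congrArg Subtype.val hab
    show ((x : G) ^ (a : ℕ) * (y : G) ^ (b : ℕ) * g ^ (i % 3).toNat)⁻¹ * w' ∈ K
    rw [← hqi, hqab]
    refine ⟨i / 3, ?_⟩
    show (g ^ 3) ^ (i / 3) = ((x : G) ^ (a : ℕ) * (y : G) ^ (b : ℕ) * g ^ (i % 3).toNat)⁻¹ * ((x : G) ^ (a : ℕ) * (y : G) ^ (b : ℕ) * g ^ i)
    rw [mul_inv_rev, mul_assoc, inv_mul_cancel_left, ← zpow_natCast g (i % 3).toNat, Int.toNat_of_nonneg (Int.emod_nonneg i (by norm_num)),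
      ← zpow_neg, ← zpow_add, ← zpow_natCast g 3, ← zpow_mul]
    congr 1
    have := Int.emod_add_mul_ediv i 3
    push_cast
    omega
  have hcardH : Nat.card (H ⧸ K.subgroupOf H) = 24 := by
    have h1 : Nat.card H = 8 * m := by
      have hb : Function.Bijective (fun u : Q × Subgroup.zpowers g =>
          (⟨(u.1 : G) * u.2, mul_mem (Subgroup.mem_sup_left u.1.2) (Subgroup.mem_sup_right u.2.2)⟩ : H)) := by
        refine ⟨?_, ?_⟩
        · rintro ⟨a, b⟩ ⟨a', b'⟩ h
          have h' : (a : G) * b = a' * b' := congrArg Subtype.val h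
          have h'' := (Subgroup.mul_injective_of_disjoint hdis) (a₁ := (a, b)) (a₂ := (a', b')) h'
          exact h''
        · rintro ⟨w, hw⟩
          have hw2 := hw
          rw [← SetLike.mem_coe, hH, Subgroup.coe_mul_of_right_le_normalizer_left _ _ hgQ] at hw2
          obtain ⟨q, hq, i, hi, rfl⟩ := hw2
          exact ⟨(⟨q, hq⟩, ⟨i, hi⟩), rfl⟩
      rw [← Nat.card_congr (Equiv.ofBijective _ hb), Nat.card_prod, hcard, Nat.card_zpowers]
    have h2 : Nat.card (K.subgroupOf H) = m / 3 := by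
      rw [Nat.card_congr (Subgroup.subgroupOfEquivOfLe hKH).toEquiv, hK, Nat.card_zpowers, orderOf_pow_of_dvd (by norm_num) h3m]
    have h4 := (K.subgroupOf H).card_eq_card_quotient_mul_card_subgroup
    rw [h1, h2] at h4
    obtain ⟨k, hk⟩ := h3m
    rw [hk, Nat.mul_div_cancel_left _ (by norm_num : 0 < 3), ← mul_assoc] at h4
    have hk0 : 0 < k := by
      rcases Nat.eq_zero_or_pos k with h | h
      · rw [h, mul_zero] at hk
        exact absurd hk (orderOf_pos g).ne'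
      · exact h
    exact (Nat.eq_of_mul_eq_mul_right hk0 h4).symm
  exact Cfsg.Agent.Local.SL2Three.nonempty_equiv hrels hsurj hcardH

end Cfsg.Agent.S0106
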