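import Cfsg.Statements.S0107
import Cfsg.Agent.Lib.Fusion.DihedralRows

set_option autoImplicit false
open Cfsg

namespace Cfsg.Agent.S0107

/-- A finite group with no nontrivial 2-group quotient and dihedral Sylow 2-subgroups of order at least 8 has a single class of involutions. -/
theorem result {G : Type*} [Group G] [Finite G] (T : Sylow 2 G) (n : ℕ) (hn : 2 ≤ n) (hT : Nonempty ((T : Subgroup G) ≃* DihedralGroup (2 ^ n))) (hO : Cfsg.pResidual 2 G = ⊤) (x y : G) (hx : orderOf x = 2) (hy : orderOf y = 2) : ∃ g : G, g * x * g⁻¹ = y := by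
  obtain ⟨e⟩ := hT
  have hm : 2 ≤ 2 ^ n := le_trans (by norm_num) (Nat.pow_le_pow_right (by norm_num : 0 < 2) hn)
  have hno : ∀ H : Subgroup G, H.index ≠ 2 := fun H hH => by
    have : H.Normal := Subgroup.normal_of_index_eq_two hH
    have : Fact (Nat.Prime 2) := ⟨Nat.prime_two⟩
    have h1 := Cfsg.Agent.Solv.pResidual_le_of_index (p := 2) H ⟨1, hH⟩
    rw [hO, top_le_iff] at h1
    rw [h1, Subgroup.index_top] at hH
    omega
  rcases Fusion.DihedralModel.cases T _ hm e with ⟨-, h4⟩ | ⟨k, D, rfl, -⟩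
  · rw [Nat.card_congr e.toEquiv, DihedralGroup.nat_card] at h4
    have := Nat.pow_le_pow_right (show 0 < 2 by norm_num) hn
    omega
  · have h3 : ∀ ε, 3 ∣ Nat.card (D.U ε).normalizerMonoidHom.range := fun ε => by
      by_contra h
      obtain ⟨H, hH⟩ := D.exists_index_two h
      exact hno H hH
    exact isConj_iff.1 ((D.one_class h3 hx).trans (D.one_class h3 hy).symm)

end Cfsg.Agent.S0107
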