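import Cfsg.Statements.S0110
import Cfsg.Agent.Lib.Solv.BurnsideBasis

set_option autoImplicit false
open scoped Pointwise
open scoped commutatorElement
open Cfsg

namespace Cfsg.Agent.S0110

/-- In a p-group G, an extraspecial subgroup E with [G, E] ≤ Z(E) satisfies G = E C_G(E). -/
theorem result {G : Type*} [Group G] [Finite G] {p : ℕ} [Fact p.Prime] (hG : IsPGroup p G) (E : Subgroup G) (hE : Cfsg.IsExtraspecial p E) (h : ⁅(⊤ : Subgroup G), E⁆ ≤ E ⊓ Subgroup.centralizer (E : Set G)) : E ⊔ Subgroup.centralizer (E : Set G) = ⊤ := by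
  obtain ⟨⟨hEp, hΦ, -⟩, hZ⟩ := hE
  obtain ⟨n, hn⟩ : ∃ n, (frattini ↥E).index = p ^ n := by
    obtain ⟨m, hm⟩ := IsPGroup.iff_card.mp (hEp.to_quotient (frattini ↥E))
    exact ⟨m, (Subgroup.index_eq_card _).trans hm⟩
  obtain ⟨T, hTc, hT⟩ := Solv.Basis.exists_generators hEp hn
  set W := E ⊓ Subgroup.centralizer (E : Set G) with hW
  have hWc : Nat.card W = p := by
    have e : W = (Subgroup.center ↥E).map E.subtype := by
      ext x
      constructor
      · rintro ⟨hx, hxc⟩
        exact ⟨⟨x, hx⟩, Subgroup.mem_center_iff.mpr fun y => Subtype.ext (hxc y y.2), rfl⟩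
      · rintro ⟨y, hy, rfl⟩
        exact ⟨y.2, fun z hz => congrArg Subtype.val (Subgroup.mem_center_iff.mp hy ⟨z, hz⟩)⟩
    rw [e, Subgroup.card_map_of_injective E.subtype_injective, hZ]
  set C := Subgroup.centralizer (E : Set G) with hC
  have hidx : C.index ≤ p ^ n := by
    let φ : G ⧸ C → (T → W) := fun q t =>
      ⟨⁅(Quotient.out q : G), ((t : ↥E) : G)⁆,
        h (Subgroup.commutator_mem_commutator (Subgroup.mem_top _) (t : ↥E).2)⟩
    have hinj : Function.Injective φ := by
      intro q q' hq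
      rw [← QuotientGroup.out_eq' q, ← QuotientGroup.out_eq' q', QuotientGroup.eq]
      have hle : E ≤ Subgroup.centralizer ({(Quotient.out q : G)⁻¹ * Quotient.out q'} : Set G) := by
        rw [← E.range_subtype, MonoidHom.range_eq_map, ← hT, MonoidHom.map_closure, Subgroup.closure_le]
        rintro _ ⟨t, ht, rfl⟩
        have h1 := congrArg Subtype.val (congrFun hq ⟨t, ht⟩)
        simp only [φ, commutatorElement_def, mul_left_inj] at h1
        rw [SetLike.mem_coe, Subgroup.mem_centralizer_singleton_iff, Subgroup.coe_subtype]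
        generalize (Quotient.out q : G) = u at h1 ⊢
        generalize (Quotient.out q' : G) = v at h1 ⊢
        generalize ((t : ↥E) : G) = a at h1 ⊢
        calc a * (u⁻¹ * v) = u⁻¹ * (u * a * u⁻¹) * v := by group
          _ = u⁻¹ * (v * a * v⁻¹) * v := by rw [h1]
          _ = u⁻¹ * v * a := by group
      exact fun y hy => Subgroup.mem_centralizer_singleton_iff.mp (hle hy)
    rw [Subgroup.index_eq_card]
    refine (Nat.card_le_card_of_injective φ hinj).trans (le_of_eq ?_)
    rw [Nat.card_fun, hWc, Nat.card_eq_fintype_card, Fintype.card_coe, hTc]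
  have hcardE : Nat.card E = p * p ^ n := by
    have h1 := (frattini ↥E).card_mul_index
    rw [hn, hΦ, hZ] at h1
    exact h1.symm
  have hk := Solv.card_sup_mul_card_inf E C (hC ▸ Subgroup.centralizer_le_normalizer _)
  rw [← hW, hWc, hcardE] at hk
  refine Subgroup.eq_top_of_le_card _ ?_
  rw [← C.card_mul_index]
  calc Nat.card C * C.index ≤ Nat.card C * p ^ n := Nat.mul_le_mul le_rfl hidx
    _ = Nat.card ↥(E ⊔ C) := Nat.eq_of_mul_eq_mul_right (Fact.out : p.Prime).pos (by rw [hk]; ring)

end Cfsg.Agent.S0110
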