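import Cfsg.Statements.S0111
import Cfsg.Agent.Lib.Solv.Basic

set_option autoImplicit false
open scoped Pointwise
open Cfsg

namespace Cfsg.Agent.S0111

/-- The Thompson transfer lemma states that an involution of a Sylow 2-subgroup P lying outside a subgroup Q of index 2 in P either lies outside some normal subgroup of index 2 in G or is conjugate to an element of Q. -/
theorem result {G : Type*} [Group G] [Finite G] (P : Sylow 2 G) (Q : Subgroup G) (hQP : Q ≤ (P : Subgroup G)) (hQi : Q.relIndex (P : Subgroup G) = 2) (u : G) (hu : orderOf u = 2) (huP : u ∈ (P : Subgroup G)) (huQ : u ∉ Q) : (∃ M : Subgroup G, M.Normal ∧ M.index = 2 ∧ u ∉ M) ∨ ∃ g : G, g * u * g⁻¹ ∈ Q := by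
  classical
  refine or_iff_not_imp_right.mpr fun hno => ?_
  push_neg at hno
  haveI := Fintype.ofFinite (G ⧸ Q)
  let ψ : G →* Equiv.Perm (G ⧸ Q) := MulAction.toPermHom G (G ⧸ Q)
  have hu2 : u ^ 2 = 1 := hu ▸ pow_orderOf_eq_one u
  have hsupp : (ψ u).support = Finset.univ := by
    refine Finset.eq_univ_of_forall fun q => Equiv.Perm.mem_support.mpr fun h => ?_
    obtain ⟨g, rfl⟩ := QuotientGroup.mk_surjective q
    refine hno g⁻¹ ?_
    have h1 : (u * g)⁻¹ * g ∈ Q := QuotientGroup.eq.mp h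
    have h2 := Q.inv_mem h1
    simpa [mul_assoc] using h2
  have hψ2 : ψ u ^ 2 = 1 := by rw [← map_pow, hu2, map_one]
  have hcard : ∃ k, Fintype.card (G ⧸ Q) = 2 * k ∧ Odd k := by
    refine ⟨(P : Subgroup G).index, ?_, Nat.odd_iff.mpr (Nat.two_dvd_ne_zero.mp P.not_dvd_index)⟩
    rw [Fintype.card_eq_nat_card]
    change Q.index = _
    rw [← Subgroup.relIndex_mul_index hQP, hQi]
  obtain ⟨k, hk, hodd⟩ := hcard
  have hne : ψ u ≠ 1 := fun h => by
    rw [h, Equiv.Perm.support_one] at hsupp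
    have h3 := congrArg Finset.card hsupp
    rw [Finset.card_empty, Finset.card_univ, hk] at h3
    obtain ⟨j, rfl⟩ := hodd
    omega
  obtain ⟨m, hm⟩ := Equiv.Perm.cycleType_prime_order (σ := ψ u) (by rw [orderOf_eq_prime hψ2 hne]; exact Nat.prime_two)
  rw [orderOf_eq_prime hψ2 hne] at hm
  have hsum := Equiv.Perm.sum_cycleType (ψ u)
  rw [hm, hsupp, Finset.card_univ, hk, Multiset.sum_replicate, smul_eq_mul] at hsum
  have hsign : Equiv.Perm.sign (ψ u) = -1 := by
    rw [Equiv.Perm.sign_of_cycleType, hm, Multiset.sum_replicate, Multiset.card_replicate, smul_eq_mul]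
    refine Odd.neg_one_pow ?_
    obtain ⟨j, rfl⟩ := hodd
    exact ⟨3 * j + 1, by omega⟩
  let χ : G →* ℤˣ := Equiv.Perm.sign.comp ψ
  refine ⟨χ.ker, inferInstance, ?_, fun h => ?_⟩
  · rw [Subgroup.index_ker, MonoidHom.range_eq_top.mpr, Subgroup.card_top, Nat.card_eq_fintype_card]
    · rfl
    intro z
    rcases Int.units_eq_one_or z with rfl | rfl
    · exact ⟨1, map_one _⟩
    · exact ⟨u, hsign⟩
  · have h4 : Equiv.Perm.sign (ψ u) = 1 := h
    rw [hsign] at h4
    exact absurd h4 (by decide)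

end Cfsg.Agent.S0111
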