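import Cfsg.Statements.S0115
import Cfsg.Agent.Lib.Solv.MaxClassTwo

set_option autoImplicit false
open scoped Pointwise
open Cfsg

namespace Cfsg.Agent.S0115

/-- A 2-group of order 2^n, n ≥ 3, is of maximal class exactly when its commutator quotient is a Klein four-group. -/
theorem result {X : Type*} [Group X] [Finite X] (n : ℕ) (hn : 3 ≤ n) (hX : Nat.card X = 2 ^ n) : Group.nilpotencyClass X = n - 1 ↔ IsKleinFour (X ⧸ commutator X) := by
  haveI : Fact (Nat.Prime 2) := ⟨Nat.prime_two⟩
  haveI := (IsPGroup.of_card hX).isNilpotent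
  constructor
  · intro hc
    have h4 : (commutator X).index = 4 :=
      Solv.MaxClass.index_lcs_eq hX hn hc (i := 1) le_rfl (by omega)
    have hQ : Nat.card (X ⧸ commutator X) = 4 := (Subgroup.index_eq_card _).symm.trans h4
    have hnc := Solv.MaxClass.noncyclic_abelianization (IsPGroup.of_card hX)
      (Solv.MaxClass.not_comm_of_two_le (by omega))
    refine ⟨hQ, ?_⟩
    have hall : ∀ x : X ⧸ commutator X, x ^ 2 = 1 := by
      intro x
      obtain ⟨k, hk2, hk⟩ := (Nat.dvd_prime_pow Nat.prime_two (m := 2)).mp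
        (show orderOf x ∣ 2 ^ 2 by rw [show (2 : ℕ) ^ 2 = 4 by norm_num, ← hQ]; exact orderOf_dvd_natCard x)
      rw [← orderOf_dvd_iff_pow_eq_one, hk]
      interval_cases k
      · simp
      · simp
      · exact absurd (isCyclic_of_orderOf_eq_card x (hk.trans (by rw [hQ]; norm_num))) hnc
    rcases (Nat.dvd_prime Nat.prime_two).mp (Monoid.exponent_dvd_of_forall_pow_eq_one hall) with h | h
    · haveI := Monoid.exp_eq_one_iff.mp h
      rw [Nat.card_of_subsingleton (1 : X ⧸ commutator X)] at hQ
      omega
    · exact h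
  · intro hk
    exact Solv.MaxClass.class_of_index_four n hn X hX
      ((Subgroup.index_eq_card _).trans hk.card_four)

end Cfsg.Agent.S0115
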