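import Cfsg.Statements.S0119
import Cfsg.Agent.Lib.Struct.ClassTwoBasic
import Cfsg.Agent.Lib.Solv.StructMisc
import Mathlib

set_option autoImplicit false
open Cfsg

namespace Cfsg.Agent.S0119

/-- If a p'-group A of automorphisms of a p-group G satisfies G = [G, A] and acts trivially on every characteristic abelian subgroup, then G is special with centre equal to the fixed points of A. -/
theorem result {G : Type*} [Group G] [Finite G] {p : ℕ} [Fact p.Prime] (hG : IsPGroup p G) (A : Subgroup (MulAut G)) (hA : Nat.Coprime (Nat.card A) p) (hGA : Subgroup.closure {x : G | ∃ g : G, ∃ a ∈ A, x = g⁻¹ * a g} = ⊤) (hchar : ∀ H : Subgroup G, H.Characteristic → IsMulCommutative H → ∀ a ∈ A, ∀ h ∈ H, a h = h) : Cfsg.IsSpecial p G ∧ (∀ g : G, (g ∈ Subgroup.center G ↔ ∀ a ∈ A, a g = g)) := by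
  classical
  haveI := hG.isNilpotent
  haveI := Fintype.ofFinite A
  have hp : p.Prime := Fact.out
  -- characteristic abelian subgroups are central
  have hcen : ∀ H : Subgroup G, H.Characteristic → IsMulCommutative H → H ≤ Subgroup.center G := by
    intro H hH hc h hh
    haveI := hH
    rw [Subgroup.mem_center_iff]
    intro g
    have hg : g ∈ Subgroup.centralizer ({h} : Set G) := by
      have htop : g ∈ Subgroup.closure {x : G | ∃ g : G, ∃ a ∈ A, x = g⁻¹ * a g} := hGA ▸ Subgroup.mem_top g
      refine (Subgroup.closure_le _).2 ?_ htop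
      rintro _ ⟨u, a, ha, rfl⟩
      show u⁻¹ * a u ∈ Subgroup.centralizer ({h} : Set G)
      rw [Subgroup.mem_centralizer_iff]
      intro y hy
      rw [Set.mem_singleton_iff.1 hy]
      have h1 : u * h * u⁻¹ ∈ H := (inferInstance : H.Normal).conj_mem h hh u
      have h2 := hchar H hH hc a ha _ h1
      rw [map_mul, map_mul, map_inv, hchar H hH hc a ha h hh] at h2
      calc h * (u⁻¹ * a u) = u⁻¹ * (u * h * u⁻¹) * a u := by group
        _ = u⁻¹ * (a u * h * (a u)⁻¹) * a u := by rw [h2]
        _ = _ := by group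
    exact ((Subgroup.mem_centralizer_iff.1 hg) h rfl).symm
  have hZfix : ∀ z ∈ Subgroup.center G, ∀ a ∈ A, a z = z := fun z hz a ha =>
    hchar _ inferInstance inferInstance a ha z hz
  -- class at most two
  have hcomm : commutator G ≤ Subgroup.center G := by
    set Z := Subgroup.center G
    let H : Subgroup G := commutator G ⊓ (Subgroup.center (G ⧸ Z)).comap (QuotientGroup.mk' Z)
    have hmem : ∀ u ∈ H, ∀ g : G, u * g * u⁻¹ * g⁻¹ ∈ Z := by
      intro u hu g
      have h : (u : G ⧸ Z) ∈ Subgroup.center (G ⧸ Z) := hu.2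
      rw [← QuotientGroup.eq_one_iff, QuotientGroup.mk_mul, QuotientGroup.mk_mul, QuotientGroup.mk_mul, QuotientGroup.mk_inv,
        QuotientGroup.mk_inv, ← Subgroup.mem_center_iff.1 h]
      group
    have hHc : IsMulCommutative H := ⟨⟨fun u v => Subtype.ext (by
      let ψ : G →* Z :=
        { toFun := fun g => ⟨_, hmem u u.2 g⟩
          map_one' := Subtype.ext (by simp)
          map_mul' := fun g k => Subtype.ext (by
            show (u : G) * (g * k) * (u : G)⁻¹ * (g * k)⁻¹ = ((u : G) * g * (u : G)⁻¹ * g⁻¹) * ((u : G) * k * (u : G)⁻¹ * k⁻¹)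
            have e := Subgroup.mem_center_iff.1 (hmem u u.2 k) g
            calc (u : G) * (g * k) * (u : G)⁻¹ * (g * k)⁻¹
                = (u : G) * g * (u : G)⁻¹ * ((u : G) * k * (u : G)⁻¹ * k⁻¹) * g⁻¹ := by group
              _ = (u : G) * g * (u : G)⁻¹ * g⁻¹ * (g * ((u : G) * k * (u : G)⁻¹ * k⁻¹)) * g⁻¹ := by group
              _ = _ := by rw [e]; group) }
      have hv : ψ v = 1 := by
        letI : CommGroup Z := { (inferInstance : Group Z) with mul_comm := fun a b => mul_comm' a b }
        exact MonoidHom.mem_ker.1 (Abelianization.commutator_subset_ker ψ v.2.1)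
      have h := congrArg Subtype.val hv
      show (u : G) * v = v * u
      exact mul_inv_eq_iff_eq_mul.1 (mul_inv_eq_one.1 h))⟩⟩
    haveI hHchar : H.Characteristic := by
      rw [Subgroup.characteristic_iff_map_le]
      rintro e _ ⟨u, hu, rfl⟩
      refine ⟨(Subgroup.characteristic_iff_map_le.1 inferInstance e) ⟨u, hu.1, rfl⟩, ?_⟩
      show (e u : G ⧸ Z) ∈ Subgroup.center (G ⧸ Z)
      rw [Subgroup.mem_center_iff]
      intro y
      obtain ⟨w, rfl⟩ := QuotientGroup.mk_surjective y
      rw [← QuotientGroup.mk_mul, ← QuotientGroup.mk_mul, QuotientGroup.eq]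
      have h2 : (w * e u)⁻¹ * (e u * w) = e ((e.symm w * u)⁻¹ * (u * e.symm w)) := by simp
      have h1 : (e.symm w * u)⁻¹ * (u * e.symm w) ∈ Z := by
        rw [← QuotientGroup.eq_one_iff, QuotientGroup.mk_mul, QuotientGroup.mk_inv, QuotientGroup.mk_mul, QuotientGroup.mk_mul,
          Subgroup.mem_center_iff.1 (show (u : G ⧸ Z) ∈ Subgroup.center (G ⧸ Z) from hu.2), inv_mul_cancel]
      rw [h2]
      exact (Subgroup.characteristic_iff_map_le.1 (inferInstance : Z.Characteristic) e) ⟨_, h1, rfl⟩
    have hHZ := hcen H hHchar hHc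
    by_contra hne
    set N := (commutator G).map (QuotientGroup.mk' Z)
    haveI : Nontrivial N := (Subgroup.nontrivial_iff_ne_bot _).2 (by
      rw [Ne, Subgroup.map_eq_bot_iff, QuotientGroup.ker_mk']; exact hne)
    haveI : N.Normal := Subgroup.Normal.map inferInstance _ (QuotientGroup.mk'_surjective Z)
    haveI hQn : Group.IsNilpotent (G ⧸ Z) := inferInstance
    obtain ⟨y, ⟨hy, hyc⟩, hy1⟩ := (Subgroup.bot_or_exists_ne_one (N ⊓ Subgroup.center (G ⧸ Z))).resolve_left (by
      intro hb
      have hQp : IsPGroup p (G ⧸ Z) := hG.to_quotient Z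
      have hd : p ∣ Nat.card N := by
        obtain ⟨j, hj, hjc⟩ := (hQp.to_subgroup N).nontrivial_iff_card.1 inferInstance
        exact hjc ▸ dvd_pow_self p (by omega)
      obtain ⟨w, hw, hw1⟩ := (hQp.of_equiv ConjAct.toConjAct).exists_fixed_point_of_prime_dvd_card_of_fixed_point (α := N) hd
        (a := (1 : N)) (fun g => by simp)
      apply hw1
      have hwc : (w : G ⧸ Z) ∈ N ⊓ Subgroup.center (G ⧸ Z) := ⟨w.2, Subgroup.mem_center_iff.2 fun g => by
        have h := congrArg Subtype.val (hw (ConjAct.toConjAct g))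
        rw [ConjAct.Subgroup.val_conj_smul, ConjAct.toConjAct_smul] at h
        exact mul_inv_eq_iff_eq_mul.1 h⟩
      rw [hb] at hwc
      exact (Subtype.ext (Subgroup.mem_bot.1 hwc).symm))
    obtain ⟨u, hu, rfl⟩ := hy
    exact hy1 ((QuotientGroup.eq_one_iff u).2 (hHZ ⟨hu, hyc⟩))
  -- fixed points lie in the derived subgroup
  have hfix : ∀ u : G, (∀ a ∈ A, a u = u) → u ∈ commutator G := by
    intro u hu
    let φ : G →* Abelianization G :=
      { toFun := fun g => ∏ a : A, Abelianization.of ((a : MulAut G) g)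
        map_one' := by simp
        map_mul' := fun g k => by rw [← Finset.prod_mul_distrib]; exact Finset.prod_congr rfl fun a _ => by rw [map_mul, map_mul] }
    have hker : (⊤ : Subgroup G) ≤ φ.ker := by
      rw [← hGA, Subgroup.closure_le]
      rintro _ ⟨g, a, ha, rfl⟩
      rw [SetLike.mem_coe, MonoidHom.mem_ker, map_mul, map_inv, inv_mul_eq_one]
      exact (Fintype.prod_equiv (Equiv.mulRight (⟨a, ha⟩ : A)) _ _ fun b => rfl).symm
    have h1 : (Abelianization.of u) ^ Fintype.card A = 1 := by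
      have h := MonoidHom.mem_ker.1 (hker (Subgroup.mem_top u))
      show _ = _
      rw [← Finset.card_univ, ← Finset.prod_const]
      refine (Finset.prod_congr rfl fun a _ => ?_).trans h
      rw [hu (a : MulAut G) a.2]
    rw [← Abelianization.ker_of, MonoidHom.mem_ker, ← orderOf_eq_one_iff]
    obtain ⟨j, hj⟩ := IsPGroup.iff_orderOf.1 (hG.of_surjective (Abelianization.of (G := G)) (QuotientGroup.mk_surjective)) (Abelianization.of u)
    refine Nat.eq_one_of_dvd_coprimes ((?_ : (Fintype.card A).Coprime (p ^ j))) (orderOf_dvd_of_pow_eq_one h1) (dvd_of_eq hj)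
    rw [← Nat.card_eq_fintype_card]
    exact hA.pow_right j
  have hZG : Subgroup.center G = commutator G := le_antisymm (fun z hz => hfix z (hZfix z hz)) hcomm
  refine ⟨⟨hG, ?_, hZG.symm⟩, fun g => ⟨fun hg => hZfix g hg, fun hg => hcomm (hfix g hg)⟩⟩
  rw [hZG]
  -- the abelianization has exponent `p`
  have hex : ∃ e : ℕ, ∀ x : G, x ^ p ^ e ∈ commutator G := by
    obtain ⟨j, hj⟩ := IsPGroup.iff_card.1 hG
    exact ⟨j, fun x => by rw [← hj, pow_card_eq_one']; exact one_mem _⟩
  set e := Nat.find hex with he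
  have hespec := Nat.find_spec hex
  have he1 : e ≤ 1 := by
    by_contra h2
    obtain ⟨x, hx⟩ : ∃ x : G, x ^ p ^ (e - 1) ∉ commutator G := by
      simpa using Nat.find_min hex (show e - 1 < Nat.find hex by omega)
    let K : Subgroup G := (powMonoidHom (p ^ (e - 1)) : Abelianization G →* Abelianization G).range.comap Abelianization.of
    haveI hKchar : K.Characteristic := by
      rw [Subgroup.characteristic_iff_map_le]
      rintro f _ ⟨u, hu, rfl⟩
      obtain ⟨v, hv⟩ := hu
      obtain ⟨w, rfl⟩ := QuotientGroup.mk_surjective v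
      refine ⟨Abelianization.of (f w), ?_⟩
      show Abelianization.of (f w) ^ p ^ (e - 1) = Abelianization.of (f u)
      have hv' : Abelianization.of (w ^ p ^ (e - 1)) = Abelianization.of u := by rw [map_pow]; exact hv
      rw [← map_pow, ← map_pow f]
      have hm : u⁻¹ * w ^ p ^ (e - 1) ∈ commutator G := by
        rw [← Abelianization.ker_of, MonoidHom.mem_ker, map_mul, map_inv, hv', inv_mul_cancel]
      have hm2 : f (u⁻¹ * w ^ p ^ (e - 1)) ∈ commutator G :=
        (Subgroup.characteristic_iff_map_le.1 inferInstance f) ⟨_, hm, rfl⟩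
      rw [← Abelianization.ker_of, MonoidHom.mem_ker, map_mul, map_mul, map_inv, map_inv, inv_mul_eq_one] at hm2
      exact hm2.symm
    have hrep : ∀ u ∈ K, ∃ c ∈ commutator G, ∃ w : G, u = c * w ^ p ^ (e - 1) := by
      intro u hu
      obtain ⟨v, hv⟩ := hu
      obtain ⟨w, rfl⟩ := QuotientGroup.mk_surjective v
      refine ⟨u * (w ^ p ^ (e - 1))⁻¹, ?_, w, by group⟩
      rw [← Abelianization.ker_of, MonoidHom.mem_ker, map_mul, map_inv, map_pow, mul_inv_eq_one]
      exact hv.symm
    have hbil : ∀ a b : G, Commute (a ^ p ^ (e - 1)) (b ^ p ^ (e - 1)) := by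
      intro a b
      let ψ : G → G →* Subgroup.center G := fun y =>
        { toFun := fun g => ⟨g * y * g⁻¹ * y⁻¹, hcomm (Subgroup.commutator_mem_commutator (Subgroup.mem_top g) (Subgroup.mem_top y))⟩
          map_one' := Subtype.ext (by simp)
          map_mul' := fun g k => Subtype.ext (by
            show g * k * y * (g * k)⁻¹ * y⁻¹ = (g * y * g⁻¹ * y⁻¹) * (k * y * k⁻¹ * y⁻¹)
            have hz : g * y * g⁻¹ * y⁻¹ ∈ Subgroup.center G := hcomm (Subgroup.commutator_mem_commutator (Subgroup.mem_top g) (Subgroup.mem_top y))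
            have hw : k * y * k⁻¹ * y⁻¹ ∈ Subgroup.center G := hcomm (Subgroup.commutator_mem_commutator (Subgroup.mem_top k) (Subgroup.mem_top y))
            calc g * k * y * (g * k)⁻¹ * y⁻¹ = g * (k * y * k⁻¹ * y⁻¹) * (y * g⁻¹ * y⁻¹) := by group
              _ = (k * y * k⁻¹ * y⁻¹) * g * (y * g⁻¹ * y⁻¹) := by rw [Subgroup.mem_center_iff.1 hw g]
              _ = (k * y * k⁻¹ * y⁻¹) * (g * y * g⁻¹ * y⁻¹) := by group
              _ = _ := (Subgroup.mem_center_iff.1 hz _)) }
      have hone : ∀ y g : G, ψ y g = 1 ↔ Commute g y := fun y g => by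
        constructor
        · intro h
          exact mul_inv_eq_iff_eq_mul.1 (mul_inv_eq_one.1 (congrArg Subtype.val h))
        · intro h
          refine Subtype.ext ?_
          show g * y * g⁻¹ * y⁻¹ = 1
          rw [h.eq]; group
      have h1 : ψ b (a ^ p ^ e) = 1 := (hone _ _).2 (Subgroup.mem_center_iff.1 (hcomm (hespec a)) b).symm
      have h3 : Commute b (a ^ (p ^ (e - 1) * p ^ (e - 1))) := by
        refine ((hone _ _).1 ?_).symm
        obtain ⟨c, hc⟩ : p ^ e ∣ p ^ (e - 1) * p ^ (e - 1) := by rw [← pow_add]; exact pow_dvd_pow p (by omega)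
        rw [hc, pow_mul, map_pow, h1, one_pow]
      refine (hone _ _).1 ?_
      rw [map_pow]
      have h4 : ψ (b ^ p ^ (e - 1)) (a ^ (p ^ (e - 1))) = 1 := by
        have h5 : ψ a (b ^ p ^ (e - 1)) ^ p ^ (e - 1) = 1 := by
          rw [map_pow, ← pow_mul, ← map_pow]
          refine (hone _ _).2 ?_
          have h6 := h3
          have h7 : ψ a (b ^ (p ^ (e - 1) * p ^ (e - 1))) = 1 := by
            obtain ⟨c, hc⟩ : p ^ e ∣ p ^ (e - 1) * p ^ (e - 1) := by rw [← pow_add]; exact pow_dvd_pow p (by omega)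
            rw [hc, pow_mul, map_pow, (hone _ _).2 (Subgroup.mem_center_iff.1 (hcomm (hespec b)) a).symm, one_pow]
          exact (hone _ _).1 h7
        have h8 : ψ (b ^ p ^ (e - 1)) a = (ψ a (b ^ p ^ (e - 1)))⁻¹ := Subtype.ext (by
          show a * b ^ p ^ (e - 1) * a⁻¹ * (b ^ p ^ (e - 1))⁻¹ = (b ^ p ^ (e - 1) * a * (b ^ p ^ (e - 1))⁻¹ * a⁻¹)⁻¹
          group)
        rw [map_pow, h8, inv_pow, h5, inv_one]
      rwa [map_pow] at h4
    have hKc : IsMulCommutative K := ⟨⟨fun u v => Subtype.ext (by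
      obtain ⟨c, hc, a, hua⟩ := hrep u u.2
      obtain ⟨d, hd, b, hvb⟩ := hrep v v.2
      show (u : G) * v = v * u
      rw [hua, hvb]
      have hc' : ∀ g : G, Commute c g := fun g => (Subgroup.mem_center_iff.1 (hcomm hc) g).symm
      have hd' : ∀ g : G, Commute g d := fun g => Subgroup.mem_center_iff.1 (hcomm hd) g
      exact ((hc' _).mul_left ((hd' _).mul_right (hbil a b))).eq)⟩⟩
    apply hx
    rw [← hZG]
    exact hcen K hKchar hKc ⟨Abelianization.of x, (map_pow Abelianization.of x _).symm⟩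
  refine le_antisymm (Cfsg.Agent.Struct.ClassTwo.frattini_le hp le_rfl fun x => ?_) Cfsg.Agent.Solv.commutator_le_frattini
  have h : x ^ p ^ e ∈ commutator G := hespec x
  rcases Nat.le_one_iff_eq_zero_or_eq_one.1 he1 with h0 | h1
  · rw [h0, pow_zero, pow_one] at h
    exact pow_mem h p
  · rw [h1, pow_one] at h
    exact h

end Cfsg.Agent.S0119
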