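import Cfsg.Statements.S0120
import Cfsg.Agent.Lib.Solv.Misc

set_option autoImplicit false
open scoped Pointwise
open Cfsg

namespace Cfsg.Agent.S0120

/-- For odd p, a p'-automorphism of a p-group acting trivially on the elements of order dividing p is trivial. -/
theorem result {G : Type*} [Group G] [Finite G] {p : ℕ} [Fact p.Prime] (hp : p ≠ 2) (hG : IsPGroup p G) (a : MulAut G) (ha : Nat.Coprime (orderOf a) p) (h : ∀ x : G, x ^ p = 1 → a x = x) : a = 1 := by
  suffices H : ∀ (n : ℕ) (G : Type u_1) [Group G] [Finite G], Nat.card G ≤ n → IsPGroup p G → ∀ a : MulAut G,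
      Nat.Coprime (orderOf a) p → (∀ x : G, x ^ p = 1 → a x = x) → ∀ x : G, a x = x from MulEquiv.ext (H _ G le_rfl hG a ha h)
  clear ha h a hG
  intro n
  induction n with
  | zero => intro G _ _ hn; exact absurd hn (not_le.mpr Nat.card_pos)
  | succ n ih =>
    intro G _ _ hn hG a ha h
    by_cases hsub : Subsingleton G
    · intro x; exact Subsingleton.elim _ _
    haveI : Nontrivial G := not_subsingleton_iff_nontrivial.mp hsub
    have hiter : ∀ x : G, a (x⁻¹ * a x) = x⁻¹ * a x → a x = x := by
      intro x hc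
      have hn : ∀ k : ℕ, (a ^ k) x = x * (x⁻¹ * a x) ^ k := by
        intro k
        induction k with
        | zero => simp
        | succ k ihk => rw [pow_succ', MulAut.mul_apply, ihk, map_mul, map_pow, hc, pow_succ', ← mul_assoc, ← mul_assoc, mul_inv_cancel, one_mul]
      have h5 := hn (orderOf a)
      rw [pow_orderOf_eq_one, MulAut.one_apply, left_eq_mul] at h5
      obtain ⟨k, hk⟩ := hG (x⁻¹ * a x)
      have hd : orderOf (x⁻¹ * a x) ∣ Nat.gcd (orderOf a) (p ^ k) :=
        Nat.dvd_gcd (orderOf_dvd_of_pow_eq_one h5) (orderOf_dvd_of_pow_eq_one hk)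
      rw [(ha.pow_right k).gcd_eq_one, Nat.dvd_one, orderOf_eq_one_iff, inv_mul_eq_one] at hd
      exact hd.symm
    have hres : ∀ K : Subgroup G, K.Characteristic → K ≠ ⊤ → ∀ y ∈ K, a y = y := by
      intro K hK hKt y hy
      have hmem : ∀ (b : MulAut G) (z : G), z ∈ K → b z ∈ K := fun b z hz =>
        Subgroup.characteristic_iff_map_le.mp hK b ⟨z, hz, rfl⟩
      let r : MulAut G →* MulAut K :=
        { toFun := fun b =>
            { toFun := fun z => ⟨b z, hmem b z z.2⟩
              invFun := fun z => ⟨b.symm z, hmem b.symm z z.2⟩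
              left_inv := fun z => Subtype.ext (b.symm_apply_apply z)
              right_inv := fun z => Subtype.ext (b.apply_symm_apply z)
              map_mul' := fun z w => Subtype.ext (map_mul b (z : G) w) }
          map_one' := MulEquiv.ext fun z => Subtype.ext rfl
          map_mul' := fun b b' => MulEquiv.ext fun z => Subtype.ext rfl }
      have hlt : Nat.card K < Nat.card G :=
        lt_of_le_of_ne (Subgroup.card_le_card_group _) fun h' => hKt (Subgroup.eq_top_of_card_eq _ h')
      exact congrArg Subtype.val (ih K (by omega) (hG.to_subgroup K) (r a) (ha.coprime_dvd_left (orderOf_map_dvd r a))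
        (fun z hz => Subtype.ext (h z (congrArg Subtype.val hz))) ⟨y, hy⟩)
    haveI : Group.IsNilpotent G := hG.isNilpotent
    set Φ := frattini G with hΦdef
    have hΦ : Φ ≠ ⊤ := by
      obtain ⟨M, hM, -⟩ := Cfsg.Agent.Solv.exists_coatom_ge (H := (⊥ : Subgroup G)) bot_ne_top
      exact fun e => hM.1 (top_le_iff.mp (e ▸ frattini_le_coatom hM))
    have hΦfix : ∀ y ∈ Φ, a y = y := hres Φ inferInstance hΦ
    have hcomm : ∀ x f : G, f ∈ Φ → f * (x⁻¹ * a x) = (x⁻¹ * a x) * f := by
      intro x f hf
      have h4 := hΦfix _ ((inferInstance : Φ.Normal).conj_mem f hf x)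
      rw [map_mul, map_mul, map_inv, hΦfix f hf] at h4
      calc f * (x⁻¹ * a x) = x⁻¹ * (x * f * x⁻¹) * a x := by group
        _ = x⁻¹ * (a x * f * (a x)⁻¹) * a x := by rw [h4]
        _ = (x⁻¹ * a x) * f := by group
    have hC : Subgroup.centralizer (Φ : Set G) = ⊤ ∨ ∀ x : G, a x = x := by
      by_cases hCt : Subgroup.centralizer (Φ : Set G) = ⊤
      · exact Or.inl hCt
      · exact Or.inr fun x => hiter x (hres _ inferInstance hCt _ fun f hf => hcomm x f hf)
    rcases hC with hC | hC
    swap
    · exact hC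
    have hZ : ∀ f ∈ Φ, ∀ g : G, f * g = g * f := fun f hf g => (hC.symm ▸ Subgroup.mem_top g : g ∈ Subgroup.centralizer (Φ : Set G)) f hf
    have hpow : ∀ x : G, x ^ p ∈ Φ := by
      intro x
      refine Subgroup.mem_iInf.mpr fun M => Subgroup.mem_iInf.mpr fun hM => ?_
      haveI := Cfsg.Agent.Solv.coatom_normal_of_isNilpotent inferInstance M hM
      have hq := Cfsg.Agent.Solv.prime_index_of_coatom_normal M hM
      obtain ⟨k, hk⟩ := IsPGroup.iff_card.mp hG
      have e : M.index = p := (Nat.prime_dvd_prime_iff_eq hq Fact.out).mp (hq.dvd_of_dvd_pow (hk ▸ M.index_dvd_card))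
      exact e ▸ Subgroup.pow_index_mem M x
    have hder : ∀ x y : G, x * y * x⁻¹ * y⁻¹ ∈ Φ := by
      intro x y
      refine Subgroup.mem_iInf.mpr fun M => Subgroup.mem_iInf.mpr fun hM => ?_
      haveI := Cfsg.Agent.Solv.coatom_normal_of_isNilpotent inferInstance M hM
      haveI : IsCyclic (G ⧸ M) := by
        haveI := Fact.mk (Cfsg.Agent.Solv.prime_index_of_coatom_normal M hM)
        exact isCyclic_of_prime_card (p := M.index) (Subgroup.index_eq_card M).symm
      rw [← QuotientGroup.eq_one_iff]
      simp only [QuotientGroup.mk_mul, QuotientGroup.mk_inv]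
      rw [IsCyclic.commGroup.mul_comm (x : G ⧸ M) (y : G ⧸ M)]
      group
    intro x
    refine hiter x (h _ ?_)
    set c := x⁻¹ * a x with hc
    set d := c * x * c⁻¹ * x⁻¹ with hd
    have hdc : ∀ g, d * g = g * d := hZ d (hder c x)
    have hcx : c * x = d * (x * c) := by rw [hd]; group
    have hswap : ∀ k : ℕ, c ^ k * x = d ^ k * (x * c ^ k) := by
      intro k
      induction k with
      | zero => simp
      | succ k ihk =>
        calc c ^ (k + 1) * x = c * (c ^ k * x) := by rw [pow_succ', mul_assoc]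
          _ = c * (d ^ k * (x * c ^ k)) := by rw [ihk]
          _ = d ^ k * (c * x) * c ^ k := by rw [← mul_assoc c, ← ((show Commute d c from hdc c).pow_left k).eq]; group
          _ = d ^ (k + 1) * (x * c ^ (k + 1)) := by rw [hcx, pow_succ' c, pow_succ]; group
    have hdp : d ^ p = 1 := by
      have h1 := hswap p
      rw [hZ _ (hpow c) x] at h1
      exact (mul_eq_right.mp h1.symm)
    have hform : ∀ k : ℕ, (x * c) ^ k = d ^ (k.choose 2) * (x ^ k * c ^ k) := by
      intro k
      induction k with
      | zero => simp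
      | succ k ihk =>
        have hcomm' : ∀ (j : ℕ) (g : G), Commute (d ^ j) g := fun j g => (show Commute d g from hdc g).pow_left j
        calc (x * c) ^ (k + 1) = d ^ (k.choose 2) * (x ^ k * (c ^ k * x) * c) := by rw [pow_succ, ihk]; group
          _ = d ^ (k.choose 2) * ((x ^ k * d ^ k) * (x * c ^ k) * c) := by rw [hswap k]; group
          _ = d ^ (k.choose 2) * d ^ k * (x ^ k * x * (c ^ k * c)) := by rw [← (hcomm' k (x ^ k)).eq]; group
          _ = d ^ ((k + 1).choose 2) * (x ^ (k + 1) * c ^ (k + 1)) := by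
            have e : (k + 1).choose 2 = k.choose 2 + k := by rw [Nat.choose_succ_succ', Nat.choose_one_right, add_comm]
            rw [← pow_add, ← pow_succ, ← pow_succ, e]
    have h2 := hform p
    obtain ⟨j, hj⟩ : p ∣ p.choose 2 := (Fact.out : p.Prime).dvd_choose_self two_ne_zero
      (lt_of_le_of_ne (Fact.out : p.Prime).two_le (Ne.symm hp))
    rw [hj, pow_mul, hdp, one_pow, one_mul, hc, mul_inv_cancel_left, ← map_pow, hΦfix _ (hpow x)] at h2
    exact mul_eq_left.mp h2.symm

end Cfsg.Agent.S0120
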