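import Cfsg.Statements.S0123
import Cfsg.Agent.Lib.Solv.ClassThree
import Cfsg.Agent.S0096

set_option autoImplicit false
open scoped Pointwise
open scoped commutatorElement
open Cfsg

namespace Cfsg.Agent.S0123

/-- For a p-group of small class relative to p (class ≤ 2 with p odd, or class ≤ 3 with p > 3) whose derived subgroup is generated by elements of order dividing p, the p-th power map is multiplicative. -/
theorem result {R : Type*} [Group R] [Finite R] {p : ℕ} [Fact p.Prime] (hR : IsPGroup p R) (hcl : (p ≠ 2 ∧ ⁅commutator R, (⊤ : Subgroup R)⁆ = ⊥) ∨ (3 < p ∧ ⁅⁅commutator R, (⊤ : Subgroup R)⁆, (⊤ : Subgroup R)⁆ = ⊥)) (hder : commutator R ≤ Subgroup.closure {x : R | x ^ p = 1}) (x y : R) : (x * y) ^ p = x ^ p * y ^ p := by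
  have hmem : ∀ a b : R, ⁅a, b⁆ ∈ commutator R := fun a b => by
    rw [_root_.commutator_def]; exact Subgroup.commutator_mem_commutator (Subgroup.mem_top a) (Subgroup.mem_top b)
  rcases hcl with ⟨hp, h2⟩ | ⟨hp, h3⟩
  · have hc : ∀ a b : R, ⁅a, b⁆ ∈ Subgroup.center R := fun a b => by
      rw [Subgroup.mem_center_iff]
      intro z
      exact Subgroup.mem_centralizer_iff.mp
        (Subgroup.commutator_eq_bot_iff_le_centralizer.mp h2 (hmem a b)) z (Subgroup.mem_top z)
    obtain ⟨t, ht⟩ := (Fact.out : p.Prime).dvd_choose_self (by norm_num : 2 ≠ 0)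
      (lt_of_le_of_ne (Fact.out : p.Prime).two_le (Ne.symm hp))
    rw [Solv.Repl.mul_pow_of_central (x := x) (y := y) (c := ⁅y, x⁆)
      (by simp only [commutatorElement_def]; group)
      (Subgroup.mem_center_iff.mp (hc y x) x).symm (Subgroup.mem_center_iff.mp (hc y x) y).symm,
      ht, pow_mul, S0096.result hp hR h2 _ (hder (hmem y x)), one_pow, mul_one]
  · have he : ∀ a b : R, ⁅a, b⁆ ^ p = 1 := fun a b =>
      Solv.ClassThree.omega_exponent hp h3 (hder (hmem a b))
    exact Solv.ClassThree.pow_mul hp h3 y x (he _ _) (he _ _) (he _ _)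

end Cfsg.Agent.S0123
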