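import Cfsg.Statements.S0125
import Cfsg.Agent.Lib.Solv.NormalPComplement
import Cfsg.Agent.Lib.Solv.ZJ

set_option autoImplicit false
open scoped Pointwise
open Cfsg

namespace Cfsg.Agent.S0125

/-- The centralizer of a self-centralizing normal subgroup A of a Sylow p-subgroup is the direct product of A with a normal p'-subgroup. -/
theorem result {G : Type*} [Group G] [Finite G] {p : ℕ} [Fact p.Prime] (R : Sylow p G) (A : Subgroup G) (hAR : A ≤ (R : Subgroup G)) (hAn : (R : Subgroup G) ≤ Subgroup.normalizer (A : Set G)) (hC : (R : Subgroup G) ⊓ Subgroup.centralizer (A : Set G) = A) : ∃ H : Subgroup G, H ≤ Subgroup.centralizer (A : Set G) ∧ Nat.Coprime (Nat.card H) p ∧ Subgroup.centralizer (A : Set G) ≤ Subgroup.normalizer (H : Set G) ∧ H ⊓ A = ⊥ ∧ H ⊔ A = Subgroup.centralizer (A : Set G) := by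
  set C := Subgroup.centralizer (A : Set G) with hCdef
  have hAC : A ≤ C := by
    intro a ha
    have : a ∈ (R : Subgroup G) ⊓ C := by rw [hC]; exact ha
    exact this.2
  have hAp : IsPGroup p A := R.isPGroup'.to_le hAR
  have hidx : ¬ p ∣ (A.subgroupOf C).index := by
    set N := Subgroup.normalizer (A : Set G)
    have h1 := (R.subtype hAn).not_dvd_index
    rw [Sylow.coe_subtype] at h1
    have hCN : C ≤ N := Subgroup.centralizer_le_normalizer _
    intro hd
    apply h1
    have e : (A.subgroupOf C).index = (R : Subgroup G).relIndex C := by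
      rw [← Subgroup.inf_relIndex_right (R : Subgroup G) C, hC]
      rfl
    rw [e] at hd
    haveI : (C.subgroupOf N).Normal := by
      rw [hCdef]
      exact ⟨fun c hc x => by
        show ((x : G) * (c : G) * (x : G)⁻¹) ∈ Subgroup.centralizer (A : Set G)
        rw [Subgroup.mem_centralizer_iff]
        intro a ha
        have hxa : (x : G)⁻¹ * a * (x : G) ∈ A := by
          simpa using (Subgroup.mem_normalizer_iff.mp (Subgroup.inv_mem _ x.2) a).mp ha
        have : (x : G)⁻¹ * a * (x : G) * (c : G) = (c : G) * ((x : G)⁻¹ * a * (x : G)) :=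
          Subgroup.mem_centralizer_iff.mp hc _ hxa
        calc a * ((x : G) * c * (x : G)⁻¹) = x * ((x : G)⁻¹ * a * x * c) * (x : G)⁻¹ := by group
          _ = _ := by rw [this]; group⟩
    have e2 : ((R : Subgroup G).subgroupOf N).relIndex (C.subgroupOf N) = (R : Subgroup G).relIndex C :=
      Subgroup.relIndex_subgroupOf hCN
    rw [← e2] at hd
    exact absurd hd (Local.FusionRed.not_dvd_relIndex_normal (R.subtype hAn) (C.subgroupOf N))
  let P : Sylow p C := (hAp.of_equiv (Subgroup.subgroupOfEquivOfLe hAC).symm).toSylow hidx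
  have hP : (P : Subgroup C) = A.subgroupOf C := IsPGroup.toSylow_coe _ _
  obtain ⟨Q, K, hK, hc⟩ := Solv.hasNormalPComplement_of_burnside P (by
    intro x _ a ha
    rw [SetLike.mem_coe, hP, Subgroup.mem_subgroupOf] at ha
    exact Subtype.ext (x.2 (a : G) ha))
  haveI := hK
  have hKc : (Nat.card K).Coprime p := by
    have h1 := hc.card_mul
    have h2 : Nat.card K = (Q : Subgroup C).index := by
      rw [← (Q : Subgroup C).card_mul_index, mul_comm (Nat.card K)] at h1
      exact Nat.eq_of_mul_eq_mul_left Nat.card_pos h1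
    rw [h2]
    exact ((Fact.out : p.Prime).coprime_iff_not_dvd.mpr Q.not_dvd_index).symm
  set H := K.map C.subtype
  have hHc : Nat.card H = Nat.card K := Subgroup.card_map_of_injective C.subtype_injective
  have hHA : H ⊓ A = ⊥ := by
    rw [inf_comm]
    exact Solv.inf_eq_bot_of_isPGroup hAp (by rw [hHc]; exact hKc)
  refine ⟨H, Subgroup.map_subtype_le K, by rw [hHc]; exact hKc, ?_, hHA, ?_⟩
  · refine le_trans (le_of_eq ?_) (Subgroup.le_normalizer_map C.subtype)
    rw [Subgroup.normalizer_eq_top_iff.mpr hK, ← MonoidHom.range_eq_map, Subgroup.range_subtype]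
  · refine Subgroup.eq_of_le_of_card_ge (sup_le (Subgroup.map_subtype_le K) hAC) ?_
    have h3 := Solv.card_sup_mul_card_inf H A (by
      intro a ha
      refine le_trans (le_of_eq ?_) (Subgroup.le_normalizer_map C.subtype) (hAC ha)
      rw [Subgroup.normalizer_eq_top_iff.mpr hK, ← MonoidHom.range_eq_map, Subgroup.range_subtype])
    rw [hHA, Subgroup.card_bot, mul_one, hHc] at h3
    have h4 := hc.card_mul
    have h5 : Nat.card Q = Nat.card A := by
      rw [Q.card_eq_multiplicity, ← P.card_eq_multiplicity, show Nat.card P = Nat.card (A.subgroupOf C) by rw [← hP],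
        Nat.card_congr (Subgroup.subgroupOfEquivOfLe hAC).toEquiv]
    rw [h3, ← h4, h5]

end Cfsg.Agent.S0125
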