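import Cfsg.Statements.S0129
import Cfsg.Agent.Lib.Solv.CyclicIndexP
import Cfsg.Agent.S0015

set_option autoImplicit false
open scoped Pointwise
open scoped commutatorElement
open Cfsg

namespace Cfsg.Agent.S0129

/-- The order of a p-group is bounded by p^(a(a+1)/2) when it has a maximal normal abelian subgroup of order p^a. -/
theorem result {G : Type*} [Group G] [Finite G] {p : ℕ} [Fact p.Prime] (hG : IsPGroup p G) (A : Subgroup G) [A.Normal] (hA : IsMulCommutative A) (hmax : ∀ B : Subgroup G, B.Normal → IsMulCommutative B → A ≤ B → B = A) (a : ℕ) (ha : Nat.card A = p ^ a) : Nat.card G ≤ p ^ (a * (a + 1) / 2) := by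
  have hp' : p.Prime := Fact.out
  haveI := hG.isNilpotent
  haveI := hA
  have hC : Subgroup.centralizer (A : Set G) = A := S0015.result A (fun M hM hab hle => hmax M hM hab hle)
  have main : ∀ (b : ℕ) (B : Subgroup G), B.Normal → B ≤ A → Nat.card B = p ^ b →
      (Subgroup.centralizer (B : Set G)).index ≤ p ^ (b * (b - 1) / 2) := by
    intro b
    induction b with
    | zero =>
      intro B _ _ hB
      rw [Subgroup.eq_bot_of_card_eq B (hB.trans (pow_zero p)), Subgroup.coe_bot,
        show Subgroup.centralizer ({1} : Set G) = ⊤ from eq_top_iff.mpr fun x _ =>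
          Subgroup.mem_centralizer_singleton_iff.mpr (by rw [one_mul, mul_one])]
      simp
    | succ b ih =>
      intro B hBn hBA hB
      haveI := hBn
      have hB1 : B ≠ ⊥ := fun e => by
        rw [e, Subgroup.card_bot] at hB
        exact (Nat.one_lt_pow (Nat.succ_ne_zero b) hp'.one_lt).ne hB
      have hlt : ⁅B, (⊤ : Subgroup G)⁆ < B := Solv.commutator_lt_of_nilpotent inferInstance le_top
        (by rw [Subgroup.normalizer_eq_top_iff.mpr hBn]) hB1
      obtain ⟨M, hM, hle⟩ := Solv.exists_coatom_ge (G := B) (H := (⁅B, (⊤ : Subgroup G)⁆).subgroupOf B)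
        (fun e => hlt.not_ge (Subgroup.subgroupOf_eq_top.mp e))
      have hMi := Solv.CycP.index_eq_of_coatom (hG.to_subgroup B) M hM
      set B0 := M.map B.subtype with hB0
      have hB0B : B0 ≤ B := Subgroup.map_subtype_le M
      have hleM : ⁅B, (⊤ : Subgroup G)⁆ ≤ B0 := by
        rw [← Subgroup.map_subgroupOf_eq_of_le hlt.le]
        exact Subgroup.map_mono hle
      haveI : B0.Normal := ⟨fun m hm x => by
        have h1 : ⁅m, x⁆ ∈ B0 := hleM (Subgroup.commutator_mem_commutator (hB0B hm) (Subgroup.mem_top x))
        have h2 := B0.mul_mem (B0.inv_mem h1) hm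
        rwa [show ⁅m, x⁆⁻¹ * m = x * m * x⁻¹ by simp only [commutatorElement_def]; group] at h2⟩
      have hB0c : Nat.card B0 = p ^ b := by
        have h1 := M.card_mul_index
        rw [hMi, hB, pow_succ] at h1
        rw [hB0, Subgroup.card_map_of_injective B.subtype_injective]
        exact Nat.eq_of_mul_eq_mul_right hp'.pos h1
      obtain ⟨⟨x, hx⟩, hxM⟩ : ∃ x : B, x ∉ M := by
        by_contra hno
        simp only [not_exists, not_not] at hno
        exact hM.1 ((Subgroup.eq_top_iff' M).mpr hno)
      set C0 := Subgroup.centralizer (B0 : Set G)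
      set C1 := Subgroup.centralizer (B : Set G)
      have h10 : C1 ≤ C0 := Subgroup.centralizer_le (SetLike.coe_subset_coe.mpr hB0B)
      have hgen : B0 ⊔ Subgroup.zpowers x = B := by
        refine le_antisymm (sup_le hB0B (Subgroup.zpowers_le.mpr hx)) ?_
        have h1 : M ⊔ Subgroup.zpowers ⟨x, hx⟩ = ⊤ := hM.2 _ (lt_of_le_of_ne le_sup_left fun e =>
          hxM (e.ge (Subgroup.mem_sup_right (Subgroup.mem_zpowers _))))
        have h2 := congrArg (Subgroup.map B.subtype) h1
        rw [Subgroup.map_sup, ← hB0, MonoidHom.map_zpowers, ← MonoidHom.range_eq_map,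
          Subgroup.range_subtype] at h2
        exact h2.ge
      have hrel : C1.relIndex C0 ≤ p ^ b := by
        rw [← hB0c]
        let φ : C0 ⧸ C1.subgroupOf C0 → B0 := fun q =>
          ⟨⁅((Quotient.out q : C0) : G), x⁆, by
            have h1 := B0.inv_mem (hleM (Subgroup.commutator_mem_commutator hx
              (Subgroup.mem_top ((Quotient.out q : C0) : G))))
            rwa [commutatorElement_inv] at h1⟩
        refine Nat.card_le_card_of_injective φ fun q q' hq => ?_
        rw [← QuotientGroup.out_eq' q, ← QuotientGroup.out_eq' q', QuotientGroup.eq]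
        have h1 := congrArg Subtype.val hq
        simp only [φ, commutatorElement_def, mul_left_inj] at h1
        have hle2 : B ≤ Subgroup.centralizer
            ({((Quotient.out q : C0) : G)⁻¹ * ((Quotient.out q' : C0) : G)} : Set G) := by
          rw [← hgen]
          refine sup_le (fun y hy => Subgroup.mem_centralizer_singleton_iff.mpr ?_) (Subgroup.zpowers_le.mpr ?_)
          · exact (C0.mul_mem (C0.inv_mem (Quotient.out q).2) (Quotient.out q').2) y hy
          · rw [Subgroup.mem_centralizer_singleton_iff]
            generalize ((Quotient.out q : C0) : G) = u at h1 ⊢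
            generalize ((Quotient.out q' : C0) : G) = v at h1 ⊢
            calc x * (u⁻¹ * v) = u⁻¹ * (u * x * u⁻¹) * v := by group
              _ = u⁻¹ * (v * x * v⁻¹) * v := by rw [h1]
              _ = u⁻¹ * v * x := by group
        exact fun y hy => Subgroup.mem_centralizer_singleton_iff.mp (hle2 hy)
      rw [← Subgroup.relIndex_mul_index h10]
      refine (Nat.mul_le_mul hrel (ih B0 inferInstance (hB0B.trans hBA) hB0c)).trans ?_
      rw [← pow_add]
      refine Nat.pow_le_pow_right hp'.pos (le_of_eq ?_)
      rcases b with _ | c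
      · rfl
      · rw [show (c + 1 + 1) * (c + 1 + 1 - 1) = (c + 1) * (c + 1 - 1) + (c + 1) * 2 by
          simp only [Nat.add_sub_cancel]; ring, Nat.add_mul_div_right _ _ two_pos, add_comm]
  have h := main a A inferInstance le_rfl ha
  rw [hC] at h
  rw [← A.card_mul_index, ha]
  refine (Nat.mul_le_mul le_rfl h).trans ?_
  rw [← pow_add]
  refine Nat.pow_le_pow_right hp'.pos (le_of_eq ?_)
  rcases a with _ | c
  · rfl
  · rw [show (c + 1) * (c + 1 + 1) = (c + 1) * (c + 1 - 1) + (c + 1) * 2 by
      simp only [Nat.add_sub_cancel]; ring, Nat.add_mul_div_right _ _ two_pos, add_comm]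

end Cfsg.Agent.S0129
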