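import Cfsg.Statements.S0155
import Cfsg.Agent.Lib.Char.Basic

set_option autoImplicit false
open Cfsg

namespace Cfsg.Agent.S0155

theorem leftRegular_character {G : Type*} [Group G] [Fintype G] [DecidableEq G] (g : G) :
    (Representation.leftRegular ℂ G).character g = if g = 1 then (Nat.card G : ℂ) else 0 := by
  let b : Module.Basis G ℂ (MonoidAlgebra ℂ G) :=
    Module.Basis.ofRepr (MonoidAlgebra.coeffLinearEquiv ℂ)
  have e : (Representation.leftRegular ℂ G).character g =
      (LinearMap.toMatrix b b ((Representation.leftRegular ℂ G) g)).trace :=
    LinearMap.trace_eq_matrix_trace ℂ b _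
  rw [e]
  by_cases hg : g = 1
  · simp [hg, Matrix.trace, Nat.card_eq_fintype_card, LinearMap.toMatrix_apply, b]
  · simp [hg, Matrix.trace, LinearMap.toMatrix_apply, b, Finsupp.single_apply]

/-- The character of the left regular representation of a finite group takes the value |G| at the identity and 0 at every other element. -/
theorem result {G : Type*} [Group G] [Fintype G] [DecidableEq G] (g : G) : (Representation.leftRegular ℂ G).character g = if g = 1 then (Nat.card G : ℂ) else 0 := by
  exact leftRegular_character g

end Cfsg.Agent.S0155
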