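import Cfsg.Statements.S0165
import Cfsg.Agent.Lib.Block.Regular
import Cfsg.Agent.Lib.Block.RegInner

set_option autoImplicit false
open Cfsg

namespace Cfsg.Agent.S0165

/-- If p ^ n is the exact power of the prime p dividing the order of a finite group and p ^ n divides the degree of an irreducible complex representation, then its character vanishes at every element of order divisible by p. -/
theorem result {G : Type*} [Group G] [Finite G] {V : Type*} [AddCommGroup V] [Module ℂ V] [FiniteDimensional ℂ V] (ρ : Representation ℂ G V) [ρ.IsIrreducible] (p n : ℕ) (hp : p.Prime) (hn : p ^ n ∣ Nat.card G) (hn' : ¬ p ^ (n + 1) ∣ Nat.card G) (hdeg : p ^ n ∣ Module.finrank ℂ V) (x : G) (hx : p ∣ orderOf x) : ρ.character x = 0 := by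
  obtain ⟨M, hM⟩ := Cfsg.Agent.Block.exists_isPModular hp
  let χ : Cfsg.IrrCharacter G := ⟨ρ.character, Cfsg.Agent.Char.isIrrCharacter_character ρ⟩
  have hd : Cfsg.charDegree (χ : G → ℂ) = Module.finrank ℂ V := by
    have := Cfsg.Agent.Block.charDegree_cast (Cfsg.Agent.Char.IsIrrCharacter.isCharacter χ.2)
    rw [show (χ : G → ℂ) 1 = (Module.finrank ℂ V : ℂ) from ρ.char_one] at this
    exact_mod_cast this
  refine Cfsg.Agent.Block.apply_eq_zero_of_singleton (χ := χ) hM
    (Cfsg.Agent.Block.blockOf_eq_singleton hM χ ?_) hx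
  rw [hd]
  intro hdvd
  apply hn'
  obtain ⟨m, hm⟩ := hdeg
  obtain ⟨k, hk⟩ : Module.finrank ℂ V ∣ Nat.card G :=
    Cfsg.Agent.Char.degree_dvd_card χ.2 _ ρ.char_one
  have h0 : 0 < Module.finrank ℂ V := by
    haveI := Cfsg.Agent.Char.nontrivial_of_irreducible ρ
    exact Module.finrank_pos
  rw [hk, Nat.mul_div_cancel_left _ h0] at hdvd
  obtain ⟨j, hj⟩ := hdvd
  exact ⟨m * j, by rw [hk, hm, hj]; ring⟩

end Cfsg.Agent.S0165
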