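import Cfsg.Statements.S0167
import Cfsg.Agent.Lib.Char.Commutator

set_option autoImplicit false
open Cfsg

namespace Cfsg.Agent.S0167

/-- An element g of a finite group is a commutator if and only if the sum over the irreducible characters χ of χ g / χ 1 is nonzero. -/
theorem result {G : Type*} [Group G] [Finite G] (g : G) : (∃ a b : G, g = a * b * a⁻¹ * b⁻¹) ↔ ∑ᶠ χ : Cfsg.IrrCharacter G, (χ : G → ℂ) g / (χ : G → ℂ) 1 ≠ 0 := by
  classical
  haveI := Fintype.ofFinite G
  haveI := Fintype.ofFinite (Cfsg.IrrCharacter G)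
  rw [finsum_eq_sum_of_fintype]
  have h := Cfsg.Agent.Char.card_commutator_fiber g
  constructor
  · rintro ⟨a, b, hab⟩ h0
    rw [h0, mul_zero, Nat.cast_eq_zero, Finset.card_eq_zero] at h
    have hm : (a, b) ∈ Finset.univ.filter fun p : G × G => p.1 * p.2 * p.1⁻¹ * p.2⁻¹ = g := by
      simp [hab]
    rw [h] at hm
    simp at hm
  · intro h0
    have hne : ((Finset.univ.filter fun p : G × G => p.1 * p.2 * p.1⁻¹ * p.2⁻¹ = g).card : ℂ) ≠ 0 := by
      rw [h]
      exact mul_ne_zero (Nat.cast_ne_zero.mpr Nat.card_pos.ne') h0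
    rw [Nat.cast_ne_zero, Finset.card_ne_zero] at hne
    obtain ⟨⟨a, b⟩, hab⟩ := hne
    exact ⟨a, b, (Finset.mem_filter.mp hab).2.symm⟩

end Cfsg.Agent.S0167
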