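import Cfsg.Statements.S0169
import Cfsg.Agent.Lib.Char.DegreeIndex
import Cfsg.Agent.Lib.Char.Linear

set_option autoImplicit false
open Cfsg

namespace Cfsg.Agent.S0169

/-- Itô's Theorem on character degrees: the degree of an irreducible complex representation of a finite group divides the index of any abelian normal subgroup. -/
theorem result {G : Type*} [Group G] [Finite G] {V : Type*} [AddCommGroup V] [Module ℂ V] [FiniteDimensional ℂ V] (ρ : Representation ℂ G V) [ρ.IsIrreducible] (H : Subgroup G) [H.Normal] (hH : ∀ a ∈ H, ∀ b ∈ H, a * b = b * a) : Module.finrank ℂ V ∣ H.index := by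
  haveI := Fintype.ofFinite G
  haveI := Fintype.ofFinite H
  haveI := Cfsg.Agent.Char.nontrivial_of_irreducible ρ
  have hχ := Cfsg.Agent.Char.isIrrCharacter_character ρ
  have hne : (fun h : H => ρ.character h) ≠ 0 := fun e =>
    Cfsg.Agent.Char.IsIrrCharacter.apply_one_ne_zero hχ (congrFun e 1)
  obtain ⟨θ, hθ, hcon⟩ := Cfsg.Agent.Char.IsCharacter.exists_irr_constituent
    (Cfsg.Agent.Char.IsCharacter.restrict (Cfsg.Agent.Char.isCharacter_character ρ) H) hne
  have h1 : θ 1 = ((1 : ℕ) : ℂ) := by
    rw [Nat.cast_one]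
    exact Cfsg.Agent.Char.IsIrrCharacter.degree_one_of_comm hθ fun a b =>
      Subtype.ext (hH a a.2 b b.2)
  simpa using (Cfsg.Agent.Char.degree_ratio_dvd_index hχ hθ hcon (ρ.char_one) h1).2

end Cfsg.Agent.S0169
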