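import Cfsg.Statements.S0173
import Cfsg.Agent.Lib.Char.Perm
import Cfsg.Agent.Lib.Char.Clifford

set_option autoImplicit false
open Cfsg

namespace Cfsg.Agent.S0173

/-- Brauer's permutation lemma for a single automorphism: the number of conjugacy classes mapped to themselves equals the number of irreducible complex characters χ with χ ∘ α = χ. -/
theorem result {G : Type*} [Group G] [Finite G] (α : G ≃* G) : Nat.card {C : ConjClasses G // ConjClasses.map α.toMonoidHom C = C} = Nat.card {χ : Cfsg.IrrCharacter G // (χ : G → ℂ) ∘ α = (χ : G → ℂ)} := by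
  let π : Cfsg.IrrCharacter G ≃ Cfsg.IrrCharacter G :=
    { toFun := fun χ => ⟨(χ : G → ℂ) ∘ α.symm, Cfsg.Agent.Char.isIrrCharacter_comp_mulEquiv α.symm χ.2⟩
      invFun := fun χ => ⟨(χ : G → ℂ) ∘ α, Cfsg.Agent.Char.isIrrCharacter_comp_mulEquiv α χ.2⟩
      left_inv := fun χ => Subtype.ext (funext fun g => by simp)
      right_inv := fun χ => Subtype.ext (funext fun g => by simp) }
  let σ : ConjClasses G ≃ ConjClasses G :=
    { toFun := ConjClasses.map α.toMonoidHom
      invFun := ConjClasses.map α.symm.toMonoidHom
      left_inv := fun C => Quotient.inductionOn C fun g => congrArg ConjClasses.mk (α.symm_apply_apply g)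
      right_inv := fun C => Quotient.inductionOn C fun g => congrArg ConjClasses.mk (α.apply_symm_apply g) }
  refine Eq.trans (Cfsg.Agent.Char.card_fixed_irr π σ fun χ g g' hg => ?_).symm
    (Nat.card_congr (Equiv.subtypeEquivRight fun χ => ?_))
  · have h1 : IsConj g' (α g) := ConjClasses.mk_eq_mk_iff_isConj.mp hg
    show (χ : G → ℂ) (α.symm g') = (χ : G → ℂ) g
    exact Cfsg.Agent.Char.IsIrrCharacter.apply_isConj χ.2
      (by simpa using α.symm.toMonoidHom.map_isConj h1)
  · constructor
    · intro e
      conv_lhs => rw [← e]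
      funext g
      simp [π]
    · intro e
      refine Subtype.ext ?_
      show (χ : G → ℂ) ∘ α.symm = χ
      conv_lhs => rw [← e]
      funext g
      simp

end Cfsg.Agent.S0173
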