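import Cfsg.Statements.S0177
import Cfsg.Agent.Lib.Char.Generalized
import Cfsg.Agent.Lib.Char.Linear
import Cfsg.Agent.Lib.Char.PermChar
import Cfsg.Agent.Lib.Block.Rational

set_option autoImplicit false
open Cfsg

namespace Cfsg.Agent.S0177

/-- The Artin induction Theorem: for a character χ of a finite group, |G| • χ is a ℤ-linear combination of functions induced from homomorphisms of cyclic subgroups into ℂˣ. -/
theorem result {G : Type*} [Group G] [Fintype G] (χ : G → ℂ) (hχ : Cfsg.IsCharacter G χ) : ∃ l : List ((A : Subgroup G) × ((A →* ℂˣ) × ℤ)), (∀ t ∈ l, IsCyclic t.1) ∧ (Nat.card G : ℂ) • χ = (l.map fun t => (t.2.2 : ℂ) • Cfsg.indFun t.1 (fun a => (t.2.1 a : ℂ))).sum := by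
  classical
  let cyc : Finset (Subgroup G) := Finset.univ.image fun g : G => Subgroup.zpowers g
  let θ : (C : Subgroup G) → C → ℂ := fun C x =>
    if Subgroup.zpowers (x : G) = C then (Nat.card C : ℂ) else 0
  have hgen : ∀ C ∈ cyc, Cfsg.IsGeneralizedCharacter C (fun x : C => χ x * θ C x) := by
    intro C hC
    obtain ⟨g, -, rfl⟩ := Finset.mem_image.mp hC
    refine Cfsg.Agent.Char.isGeneralizedCharacter_mul
      (Cfsg.Agent.Char.IsCharacter.isGeneralized (Cfsg.Agent.Char.IsCharacter.restrict hχ _)) ?_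
    have hcf : Cfsg.IsClassFunction (Subgroup.zpowers g) (θ _) := fun x y => by
      have e : y * x * y⁻¹ = x := by
        obtain ⟨i, hi⟩ := Subgroup.mem_zpowers_iff.mp x.2
        obtain ⟨j, hj⟩ := Subgroup.mem_zpowers_iff.mp y.2
        refine mul_inv_eq_iff_eq_mul.mpr (Subtype.ext ?_)
        show (y : G) * x = x * y
        rw [← hi, ← hj]
        exact Commute.zpow_zpow_self g j i
      rw [e]
    refine Cfsg.Agent.Char.isGeneralizedCharacter_of_classInner_int hcf fun ψ hψ => ?_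
    obtain ⟨z, hz⟩ := Cfsg.Agent.Block.sum_mem_int_of_stable
      (Cfsg.Agent.Char.isCharacter_conj (Cfsg.Agent.Char.IsIrrCharacter.isCharacter hψ))
      (Finset.univ.filter fun x : Subgroup.zpowers g => Subgroup.zpowers (x : G) = Subgroup.zpowers g)
      fun x y hxy hx => by
        refine Finset.mem_filter.mpr ⟨Finset.mem_univ _, ?_⟩
        have := congrArg (Subgroup.map (Subgroup.zpowers g).subtype) hxy
        rw [MonoidHom.map_zpowers, MonoidHom.map_zpowers] at this
        rw [show Subgroup.zpowers (y : G) = Subgroup.zpowers (x : G) from this.symm]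
        exact (Finset.mem_filter.mp hx).2
    refine ⟨z, ?_⟩
    rw [← hz, Finset.sum_filter, classInner, Finset.mul_sum]
    refine Finset.sum_congr rfl fun x _ => ?_
    simp only [θ]
    split_ifs with h
    · rw [← mul_assoc, inv_mul_cancel₀ (Nat.cast_ne_zero.mpr Nat.card_pos.ne'), one_mul]
    · simp
  have hid : (Nat.card G : ℂ) • χ = ∑ C ∈ cyc, Cfsg.indFun C (fun x : C => χ x * θ C x) := by
    funext g
    simp only [Pi.smul_apply, smul_eq_mul, Finset.sum_apply]
    have hterm : ∀ C ∈ cyc, Cfsg.indFun C (fun x : C => χ x * θ C x) g =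
        χ g * ∑ x : G, if Subgroup.zpowers (x⁻¹ * g * x) = C then (1 : ℂ) else 0 := by
      intro C _
      rw [Cfsg.Agent.Char.indFun_mul C (θ C) (Cfsg.Agent.Char.IsCharacter.isClassFunction hχ),
        Pi.mul_apply, Cfsg.Agent.Char.indFun_apply, Finset.mul_sum]
      congr 1
      refine Finset.sum_congr rfl fun x _ => ?_
      by_cases hm : x⁻¹ * g * x ∈ C
      · rw [Cfsg.Agent.Char.extendByZero_of_mem _ _ hm]
        simp only [θ]
        split_ifs
        · exact inv_mul_cancel₀ (Nat.cast_ne_zero.mpr Nat.card_pos.ne')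
        · exact mul_zero _
      · rw [Cfsg.Agent.Char.extendByZero_of_notMem _ _ hm, mul_zero, if_neg]
        intro e
        exact hm (e ▸ Subgroup.mem_zpowers _)
    rw [Finset.sum_congr rfl hterm, ← Finset.mul_sum, Finset.sum_comm,
      Finset.sum_congr rfl fun x _ => by
        rw [Finset.sum_ite_eq cyc (Subgroup.zpowers (x⁻¹ * g * x)) (fun _ => (1 : ℂ)),
          if_pos (Finset.mem_image.mpr ⟨_, Finset.mem_univ _, rfl⟩)],
      Finset.sum_const, Finset.card_univ, nsmul_eq_mul, mul_one, ← Nat.card_eq_fintype_card, mul_comm]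
  let P : (G → ℂ) → Prop := fun f => ∃ l : List ((A : Subgroup G) × ((A →* ℂˣ) × ℤ)),
    (∀ t ∈ l, IsCyclic t.1) ∧
      f = (l.map fun t => (t.2.2 : ℂ) • Cfsg.indFun t.1 (fun a => (t.2.1 a : ℂ))).sum
  have hadd : ∀ f f', P f → P f' → P (f + f') := by
    rintro f f' ⟨l, hl, rfl⟩ ⟨l', hl', rfl⟩
    exact ⟨l ++ l', fun t ht => (List.mem_append.mp ht).elim (hl t) (hl' t), by simp⟩
  have hzero : P 0 := ⟨[], by simp, by simp⟩
  show P _
  rw [hid]
  refine Finset.sum_induction _ P hadd hzero fun C hC => ?_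
  haveI := Fintype.ofFinite (Cfsg.IrrCharacter C)
  obtain ⟨c, hc, -⟩ := Cfsg.Agent.Char.IsGeneralizedCharacter.exists_intCoeff (hgen C hC)
  rw [hc, Cfsg.Agent.Char.indFun_sum]
  refine Finset.sum_induction _ P hadd hzero fun ψ _ => ?_
  obtain ⟨g, -, rfl⟩ := Finset.mem_image.mp hC
  have h1 : (ψ : Subgroup.zpowers g → ℂ) 1 = 1 :=
    Cfsg.Agent.Char.IsIrrCharacter.degree_one_of_comm ψ.2 fun x y => by
      obtain ⟨i, hi⟩ := Subgroup.mem_zpowers_iff.mp x.2
      obtain ⟨j, hj⟩ := Subgroup.mem_zpowers_iff.mp y.2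
      refine Subtype.ext ?_
      show (x : G) * y = y * x
      rw [← hi, ← hj]
      exact Commute.zpow_zpow_self g i j
  obtain ⟨l, hl⟩ := Cfsg.Agent.Char.IsCharacter.exists_monoidHom
    (Cfsg.Agent.Char.IsIrrCharacter.isCharacter ψ.2) h1
  refine ⟨[⟨Subgroup.zpowers g, l, c ψ⟩], ?_, ?_⟩
  · intro t ht
    rw [List.mem_singleton] at ht
    subst ht
    exact isCyclic_iff_exists_zpowers_eq_top.mpr ⟨⟨g, Subgroup.mem_zpowers g⟩, by
      rw [eq_top_iff]
      rintro ⟨x, hx⟩ -
      obtain ⟨i, rfl⟩ := Subgroup.mem_zpowers_iff.mp hx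
      exact ⟨i, Subtype.ext (by simp)⟩⟩
  · simp [Cfsg.Agent.Char.indFun_smul, hl]

end Cfsg.Agent.S0177
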