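import Cfsg.Statements.S0178
import Cfsg.Agent.Lib.Char.DegreeIndex
import Cfsg.Agent.Lib.Char.Linear

set_option autoImplicit false
open Cfsg

namespace Cfsg.Agent.S0178

/-- The degree of an irreducible complex representation of a finite group is at most the index of any abelian subgroup. -/
theorem result {G : Type*} [Group G] [Finite G] {V : Type*} [AddCommGroup V] [Module ℂ V] [FiniteDimensional ℂ V] (ρ : Representation ℂ G V) [ρ.IsIrreducible] (A : Subgroup G) (hA : ∀ a ∈ A, ∀ b ∈ A, a * b = b * a) : Module.finrank ℂ V ≤ A.index := by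
  haveI := Fintype.ofFinite G
  haveI := Fintype.ofFinite A
  have hχ := Cfsg.Agent.Char.isIrrCharacter_character ρ
  have hne : (fun h : A => ρ.character h) ≠ 0 := fun e =>
    Cfsg.Agent.Char.IsIrrCharacter.apply_one_ne_zero hχ (congrFun e 1)
  obtain ⟨θ, hθ, hcon⟩ := Cfsg.Agent.Char.IsCharacter.exists_irr_constituent
    (Cfsg.Agent.Char.IsCharacter.restrict (Cfsg.Agent.Char.isCharacter_character ρ) A) hne
  have hθc := Cfsg.Agent.Char.IsIrrCharacter.isCharacter hθ
  have hne2 : classInner (Cfsg.indFun A θ) ρ.character ≠ 0 := by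
    rw [Cfsg.Agent.Char.classInner_indFun A θ (Cfsg.Agent.Char.IsCharacter.isClassFunction
      (Cfsg.Agent.Char.isCharacter_character ρ))]
    intro h
    apply hcon
    rw [← Cfsg.Agent.Char.classInner_conj_symm, h, map_zero]
  obtain ⟨r, hr, e⟩ := Cfsg.Agent.Char.exists_add_of_classInner_ne_zero
    (Cfsg.Agent.Char.isCharacter_indFun A hθc) hχ hne2
  obtain ⟨k, hk⟩ := Cfsg.Agent.Char.IsCharacter.exists_degree hr
  have h1 := congrFun e 1
  rw [Pi.add_apply, Cfsg.Agent.Char.indFun_one_apply, hk, ρ.char_one,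
    Cfsg.Agent.Char.IsIrrCharacter.degree_one_of_comm hθ fun a b =>
      Subtype.ext (hA a a.2 b b.2), mul_one] at h1
  have h2 : A.index = Module.finrank ℂ V + k := by exact_mod_cast h1
  omega

end Cfsg.Agent.S0178
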