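import Cfsg.Statements.S0180
import Cfsg.Agent.Lib.Char.Galois
import Cfsg.Agent.Lib.Char.Orthogonality

set_option autoImplicit false
open Cfsg

namespace Cfsg.Agent.S0180

open Cfsg.Agent.Char

/-- Every irreducible complex character of a finite group takes only rational values if and only if g is conjugate to g ^ m for every element g and every m coprime to the group order. -/
theorem result {G : Type*} [Group G] [Finite G] : (∀ χ : Cfsg.IrrCharacter G, ∀ g : G, ∃ q : ℚ, (χ : G → ℂ) g = (q : ℂ)) ↔ ∀ m : ℕ, m.Coprime (Nat.card G) → ∀ g : G, IsConj g (g ^ m) := by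
  haveI := Fintype.ofFinite G
  constructor
  · intro h m hm g
    refine (isConj_iff_irr g _).mpr fun χ => ?_
    obtain ⟨q, hq⟩ := h χ g
    exact (apply_pow_eq_of_rat (IsIrrCharacter.isGeneralized χ.2) g hq
      (hm.coprime_dvd_right (orderOf_dvd_natCard g))).symm
  · intro h χ g
    refine exists_rat_of_apply_pow_eq (IsIrrCharacter.isGeneralized χ.2) g fun m hm => ?_
    obtain ⟨k, hk, hkm⟩ := exists_coprime_lift Nat.card_pos.ne' (orderOf_dvd_natCard g) hm
    rw [← pow_eq_pow_iff_modEq.mpr hkm]
    obtain ⟨c, hc⟩ := isConj_iff.mp (h k hk g)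
    rw [← hc]
    exact IsCharacter.isClassFunction (IsIrrCharacter.isCharacter χ.2) g c

end Cfsg.Agent.S0180
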