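import Cfsg.Statements.S1527
import Mathlib

set_option autoImplicit false
open Cfsg

namespace Cfsg.Agent.S1527

/-- Let G be a finite group and H i (i in a finite index type) subgroups of pairwise coprime orders, each of whose underlying sets is a TI-subset of G, such that every non-identity element of G is conjugate to an element of some H i. Then Nat.card G − 1 = Σ_i [G : N_G(H i)] · (Nat.card (H i) − 1). -/
theorem result {G : Type*} [Group G] [Finite G] {ι : Type*} [Fintype ι] (H : ι → Subgroup G) (hcop : ∀ i j, i ≠ j → Nat.Coprime (Nat.card (H i)) (Nat.card (H j))) (hTI : ∀ i, Cfsg.IsTISubset (H i : Set G)) (hcover : ∀ g : G, g ≠ 1 → ∃ i, ∃ x : G, x * g * x⁻¹ ∈ H i) : Nat.card G - 1 = ∑ i, (Subgroup.normalizer (H i : Set G)).index * (Nat.card (H i) - 1) := by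
  classical
  haveI := Fintype.ofFinite G
  have huniq : ∀ i j, ∀ h ∈ H i, ∀ h' ∈ H j, h ≠ 1 → ∀ x : G, x * h * x⁻¹ = h' → i = j := by
    intro i j h hh h' hh' h1 x e
    by_contra hij
    have hd1 : orderOf h ∣ Nat.card (H i) := (H i).orderOf_dvd_natCard hh
    have hd2 : orderOf h' ∣ Nat.card (H j) := (H j).orderOf_dvd_natCard hh'
    have ho : orderOf h' = orderOf h := by
      rw [← e]
      exact orderOf_injective (MulAut.conj x).toMonoidHom (MulEquiv.injective _) h
    rw [ho] at hd2
    exact h1 (orderOf_eq_one_iff.mp (Nat.eq_one_of_dvd_coprimes (hcop i j hij) hd1 hd2))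
  let T := Σ i : ι, (G ⧸ Subgroup.normalizer (H i : Set G)) × {h : H i // h ≠ 1}
  let f : T → {g : G // g ≠ 1} := fun t =>
    ⟨t.2.1.out * (t.2.2.1 : G) * t.2.1.out⁻¹, by
      intro h
      refine t.2.2.2 (Subtype.ext ?_)
      simpa [mul_assoc] using congrArg (fun z => t.2.1.out⁻¹ * z * t.2.1.out) h⟩
  have hf : Function.Bijective f := by
    constructor
    · rintro ⟨i, q, ⟨h, hh⟩, h1⟩ ⟨j, r, ⟨h', hh'⟩, h1'⟩ e
      have e' : q.out * h * q.out⁻¹ = r.out * h' * r.out⁻¹ := congrArg Subtype.val e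
      have hne : h ≠ 1 := fun e => h1 (Subtype.ext e)
      have e2 : (r.out⁻¹ * q.out) * h * (r.out⁻¹ * q.out)⁻¹ = h' := by
        calc (r.out⁻¹ * q.out) * h * (r.out⁻¹ * q.out)⁻¹
            = r.out⁻¹ * (q.out * h * q.out⁻¹) * r.out := by group
          _ = h' := by rw [e']; group
      obtain rfl := huniq i j h hh h' hh' hne _ e2
      have hN : r.out⁻¹ * q.out ∈ Subgroup.normalizer (H i : Set G) := by
        by_contra hn
        exact hne (hTI i _ hn h hh (e2 ▸ hh'))
      have hqr : r = q := by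
        rw [← QuotientGroup.out_eq' r, ← QuotientGroup.out_eq' q]
        exact QuotientGroup.eq.mpr hN
      subst hqr
      have : h = h' := mul_left_cancel (mul_right_cancel e')
      subst this
      rfl
    · rintro ⟨g, hg⟩
      obtain ⟨i, x, hx⟩ := hcover g hg
      let q : G ⧸ Subgroup.normalizer (H i : Set G) := (x⁻¹ : G)
      obtain ⟨n, hn⟩ := QuotientGroup.mk_out_eq_mul (Subgroup.normalizer (H i : Set G)) x⁻¹
      have hout : q.out = x⁻¹ * n := hn
      have hmem : q.out⁻¹ * g * q.out ∈ H i := by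
        rw [hout]
        have e : (x⁻¹ * (n : G))⁻¹ * g * (x⁻¹ * n) = (n : G)⁻¹ * (x * g * x⁻¹) * n := by group
        rw [e]
        exact (Subgroup.mem_normalizer_iff''.mp n.2 _).mp hx
      refine ⟨⟨i, q, ⟨_, hmem⟩, fun h => hg ?_⟩, ?_⟩
      · have h' : q.out⁻¹ * g * q.out = 1 := congrArg Subtype.val h
        simpa [mul_assoc] using congrArg (fun z => q.out * z * q.out⁻¹) h'
      · exact Subtype.ext (show q.out * (q.out⁻¹ * g * q.out) * q.out⁻¹ = g by group)
  have e := Nat.card_eq_of_bijective f hf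
  have hc : ∀ (X : Type _) [Finite X] (a : X), Nat.card {x : X // x ≠ a} = Nat.card X - 1 := by
    intro X _ a
    haveI := Fintype.ofFinite X
    rw [Nat.card_eq_fintype_card, Nat.card_eq_fintype_card,
      Fintype.card_subtype_compl, Fintype.card_subtype_eq]
  rw [hc G 1, Nat.card_sigma] at e
  rw [← e]
  refine Finset.sum_congr rfl fun i _ => ?_
  rw [Nat.card_prod, hc, Subgroup.index_eq_card]

end Cfsg.Agent.S1527
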