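import Cfsg.Statements.S1526
import Cfsg.Agent.Lib.Char.FrobPartition
import Cfsg.Agent.Lib.Char.FrobPartitionNum
import Cfsg.Agent.S1527

set_option autoImplicit false
open Cfsg

namespace Cfsg.Agent.S1526

/-- Let G be a finite group of odd order and (L i, H i), i in a finite index type with at least two elements, pairs of subgroups with H i a nontrivial proper normal subgroup of L i such that every non-identity element of H i has its centraliser within L i contained in H i (L i is a Frobenius group with kernel H i), the orders of the H i pairwise coprime, and the underlying set of each H i a TI-subset of G with normaliser L i. If every non-identity element of G is conjugate to an element of some H i, we reach a contradiction. -/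
theorem result {G : Type*} [Group G] [Finite G] (hodd : Odd (Nat.card G)) {ι : Type*} [Fintype ι] (hι : 2 ≤ Fintype.card ι) (L H : ι → Subgroup G) (hHL : ∀ i, H i < L i) (hH1 : ∀ i, H i ≠ ⊥) (hHn : ∀ i, ∀ x ∈ L i, ∀ h ∈ H i, x * h * x⁻¹ ∈ H i) (hfrob : ∀ i, ∀ h ∈ H i, h ≠ 1 → L i ⊓ Subgroup.centralizer ({h} : Set G) ≤ H i) (hcop : ∀ i j, i ≠ j → Nat.Coprime (Nat.card (H i)) (Nat.card (H j))) (hTI : ∀ i, Cfsg.IsTISubset (H i : Set G) ∧ Subgroup.normalizer (H i : Set G) = L i) (hcover : ∀ g : G, g ≠ 1 → ∃ i, ∃ x : G, x * g * x⁻¹ ∈ H i) : False := by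
  classical
  haveI := Fintype.ofFinite G
  have hTI' : ∀ i, ∀ g : G, g ∉ L i → ∀ x ∈ (H i : Set G), g * x * g⁻¹ ∈ (H i : Set G) → x = 1 :=
    fun i g hg => (hTI i).1 g ((hTI i).2.symm ▸ hg)
  choose F hFe hFn hFe3 hFeo hFd hFs using fun i => Char.FrobFamily.exists_fam hodd (L i) (H i)
    (hHL i) (hH1 i) (hHn i) (hfrob i) (hTI' i)
  have hD : Char.FrobPartition.Disj (X := fun i => (H i : Set G)) := by
    intro i m him g hg ⟨x, hx⟩ ⟨y, hy⟩
    have h1 : orderOf g ∣ Nat.card (H i) := by
      rw [← MulEquiv.orderOf_eq (MulAut.conj x) g]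
      exact Subgroup.orderOf_dvd_natCard _ hx
    have h2 : orderOf g ∣ Nat.card (H m) := by
      rw [← MulEquiv.orderOf_eq (MulAut.conj y) g]
      exact Subgroup.orderOf_dvd_natCard _ hy
    exact hg (orderOf_eq_one_iff.mp (Nat.eq_one_of_dvd_coprimes (hcop i m him) h1 h2))
  have hcount := Cfsg.Agent.S1527.result H hcop (fun i => (hTI i).1) hcover
  have hGpos : (0 : ℝ) < Nat.card G := Nat.cast_pos.mpr Nat.card_pos
  have hidx : ∀ i, Nat.card G = (L i).index * ((F i).e * Nat.card (H i)) := fun i => by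
    rw [hFe i, mul_comm ((H i).relIndex (L i)), ← Subgroup.relIndex_bot_left,
      Subgroup.relIndex_mul_relIndex ⊥ (H i) (L i) bot_le (hHL i).le, Subgroup.relIndex_bot_left,
      Subgroup.index_mul_card]
  refine Char.FrobPartition.numeric (fun i => (F i).n) (fun i => (F i).e) (fun i => Nat.card (H i))
    (fun i m => Char.FrobPartition.cc (F := F) i m ≠ 0) (1 / (Nat.card G : ℝ)) (by positivity) ?_
    (fun i => ⟨(F i).two_le, hFn i⟩) (fun i => ⟨hFe3 i, hFeo i⟩)
    (fun i => Nat.le_of_dvd Nat.card_pos (hFd i)) hFs ?_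
    (fun i m him => Char.FrobPartition.cc_or hD hodd him)
    (fun i s hs hc => Char.FrobPartition.sum_in_le hD i s hs hc)
    (fun m s hs hc => Char.FrobPartition.sum_out_le hD m s hs hc) ?_
  · obtain ⟨i⟩ : Nonempty ι := Fintype.card_pos_iff.mp (by omega)
    have h1 : 1 < Nat.card (H i) := Subgroup.one_lt_card_iff_ne_bot _ |>.mpr (hH1 i)
    have h2 : 1 < Nat.card G := h1.trans_le (Subgroup.card_le_card_group _)
    rw [div_lt_one hGpos]
    exact_mod_cast h2
  · intro i j hij h
    have h1 : (F i).n * (F i).e + 1 ∣ Nat.card (H j) := h ▸ hFd j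
    have h2 := Nat.eq_one_of_dvd_coprimes (hcop i j hij) (hFd i) h1
    have h3 : 0 < (F i).n * (F i).e := Nat.mul_pos (lt_of_lt_of_le Nat.zero_lt_two (F i).two_le)
      (lt_of_lt_of_le (by norm_num) (hFe3 i))
    omega
  · have hc : ((Nat.card G : ℝ) - 1) = ∑ i, ((L i).index : ℝ) * ((Nat.card (H i) : ℝ) - 1) := by
      have h' := congrArg (fun k : ℕ => (k : ℝ)) hcount
      simp only [Nat.cast_sum, Nat.cast_mul, Nat.cast_sub (show 1 ≤ Nat.card G from Nat.card_pos),
        Nat.cast_one] at h'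
      rw [h']
      refine Finset.sum_congr rfl fun i _ => ?_
      rw [(hTI i).2, Nat.cast_sub (show 1 ≤ Nat.card (H i) from Nat.card_pos), Nat.cast_one]
    have hterm : ∀ i, 1 / ((F i).e : ℝ) * (1 - 1 / (Nat.card (H i) : ℝ)) =
        ((L i).index : ℝ) * ((Nat.card (H i) : ℝ) - 1) / (Nat.card G : ℝ) := fun i => by
      have h1 : (Nat.card G : ℝ) = (L i).index * ((F i).e * Nat.card (H i)) := by
        exact_mod_cast hidx i
      have h2 : ((L i).index : ℝ) ≠ 0 := Nat.cast_ne_zero.mpr Subgroup.index_ne_zero_of_finite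
      have h3 : (Nat.card (H i) : ℝ) ≠ 0 := Nat.cast_ne_zero.mpr Nat.card_pos.ne'
      have h4 : ((F i).e : ℝ) ≠ 0 := Nat.cast_ne_zero.mpr (by have := hFe3 i; omega)
      rw [h1]
      field_simp
    rw [Finset.sum_congr rfl fun i _ => hterm i, ← Finset.sum_div, ← hc, sub_div,
      div_self hGpos.ne']

end Cfsg.Agent.S1526
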