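import Cfsg.Statements.S0183
import Cfsg.Agent.S1473
import Cfsg.Agent.S1477
import Cfsg.Agent.S1479
import Cfsg.Agent.S1484
import Cfsg.Agent.S1526
import Cfsg.Agent.Lib.Solv.CNMinimal

set_option autoImplicit false
open Cfsg

namespace Cfsg.Agent.S0183

universe u

open Subgroup in
/-- No minimal simple group of odd order has all centralizers nilpotent. -/
theorem no_minSimple {G : Type u} [Group G] [Finite G] (hG : IsMinSimpleOddOrder G)
    (hCN : IsCNGroup G) : False := by
  classical
  let s : Setoid {M : Subgroup G // IsCoatom M} :=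
    { r := fun A B => ∃ g : G, B.1 = A.1.map (MulAut.conj g).toMonoidHom
      iseqv := by
        refine ⟨fun A => ⟨1, by ext x; simp⟩, ?_, ?_⟩
        · rintro A B ⟨g, hg⟩
          refine ⟨g⁻¹, ?_⟩
          rw [hg, map_map]
          ext x
          simp [MulAut.conj_apply, mul_assoc]
        · rintro A B C ⟨g, hg⟩ ⟨g', hg'⟩
          refine ⟨g' * g, ?_⟩
          rw [hg', hg, map_map]
          congr 1
          ext x
          simp [MulAut.conj_apply, mul_assoc] }
  haveI := Fintype.ofFinite (Quotient s)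
  let e := Fintype.equivFin (Quotient s)
  let Mrep : Fin (Fintype.card (Quotient s)) → Subgroup G := fun i => (e.symm i).out.1
  have hmax : ∀ i, IsCoatom (Mrep i) := fun i => (e.symm i).out.2
  have hnc : ∀ i j, i ≠ j → ∀ g : G, Mrep j ≠ (Mrep i).map (MulAut.conj g).toMonoidHom := by
    intro i j hij g h
    refine hij (e.symm.injective ?_)
    rw [← Quotient.out_eq (e.symm i), ← Quotient.out_eq (e.symm j)]
    exact Quotient.sound ⟨g, h⟩
  have hall : ∀ M : Subgroup G, IsCoatom M → ∃ i, ∃ g : G, M = (Mrep i).map (MulAut.conj g).toMonoidHom := by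
    intro M hM
    refine ⟨e (Quotient.mk s ⟨M, hM⟩), ?_⟩
    obtain ⟨g, hg⟩ := Quotient.exact (Quotient.out_eq (Quotient.mk s ⟨M, hM⟩))
    exact ⟨g, by simpa [Mrep] using hg⟩
  obtain ⟨hcop, hprod, hcov⟩ := Cfsg.Agent.S1484.result hG hCN _ Mrep hmax hnc hall
  choose Hs hHn hHmax hHN hHK using fun i => Cfsg.Agent.Solv.CNMinimal.coatom_facts hG hCN (hmax i)
  simp only [hHK] at hcop hprod hcov
  have hne1 : ∀ i, Hs i ≠ ⊥ := fun i => Cfsg.Agent.Solv.CNMinimal.max_ne_bot hG (hHmax i)
  have hTI : ∀ i, ∀ g : G, g ∉ normalizer (Hs i : Set G) → ∀ x ∈ (Hs i : Set G),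
      g * x * g⁻¹ ∈ (Hs i : Set G) → x = 1 := by
    intro i g hg x hx hgx
    have hne : (Hs i).map (MulAut.conj g).toMonoidHom ≠ Hs i := fun h =>
      hg (mem_normalizer_iff_map_conj_eq.mpr h)
    have h1 := ((Cfsg.Agent.S1479.result hG hCN).1 (Hs i) (hHn i) (hHmax i)).2.1 g hne
    have h2 : g * x * g⁻¹ ∈ Hs i ⊓ (Hs i).map (MulAut.conj g).toMonoidHom :=
      ⟨hgx, x, hx, rfl⟩
    rw [h1, mem_bot] at h2
    exact conj_eq_one_iff.mp h2
  have hk : 2 ≤ Fintype.card (Quotient s) := by
    by_contra hlt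
    push Not at hlt
    haveI hsub : Subsingleton (Fin (Fintype.card (Quotient s))) :=
      Fin.subsingleton_iff_le_one.mpr (by omega)
    rcases isEmpty_or_nonempty (Fin (Fintype.card (Quotient s))) with hemp | ⟨⟨i⟩⟩
    · rw [Finset.univ_eq_empty, Finset.prod_empty] at hprod
      haveI := hG.2.1.toNontrivial
      exact absurd hprod.symm (Finite.one_lt_card (α := G)).ne'
    · rw [Fintype.prod_subsingleton _ i] at hprod
      exact Cfsg.Agent.Solv.CNMinimal.nilpotent_ne_top hG (hHn i) ((Subgroup.card_eq_iff_eq_top _).mp hprod)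
  refine Cfsg.Agent.S1526.result hG.1 (ι := Fin (Fintype.card (Quotient s))) (by simpa using hk)
    (fun i => normalizer (Hs i : Set G)) Hs (fun i => ?_) hne1
    (fun i x hx h hh => (mem_normalizer_iff.mp hx h).mp hh) (fun i h hh h1 => ?_) hcop
    (fun i => ⟨hTI i, rfl⟩) (fun g _ => hcov g)
  · refine lt_of_le_of_ne le_normalizer fun h => ?_
    obtain ⟨-, -, -, E, hE, hE1, -⟩ := (Cfsg.Agent.S1479.result hG hCN).1 (Hs i) (hHn i) (hHmax i)
    refine hE1 (le_bot_iff.mp ?_)
    rw [← hE.2.2.1]
    exact le_inf (h.symm ▸ hE.2.1) le_rfl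
  · exact inf_le_right.trans ((Cfsg.Agent.S1477.result hCN (Hs i) (hHn i) (hHmax i)).2.2
      (((Cfsg.Agent.S1479.result hG hCN).1 (Hs i) (hHn i) (hHmax i)).2.1) h hh h1)

/-- The odd order theorem for groups with nilpotent centralizers, by induction on the order. -/
theorem solvable_aux : ∀ (n : ℕ) (G : Type u) [Group G] [Finite G], Nat.card G = n →
    Odd (Nat.card G) → IsCNGroup G → Group.IsSolvable G := by
  intro n
  induction n using Nat.strong_induction_on with
  | _ n ih =>
    intro G _ _ hn hodd hCN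
    by_contra hns
    have hsub : ∀ M : Subgroup G, M ≠ ⊤ → Group.IsSolvable M := fun M hM =>
      ih (Nat.card M) (hn ▸ lt_of_le_of_ne (Subgroup.card_le_card_group M)
        fun h => hM ((Subgroup.card_eq_iff_eq_top M).mp h)) M rfl
        (Odd.of_dvd_nat hodd M.card_subgroup_dvd_card)
        (Cfsg.Agent.Solv.CNMinimal.isCNGroup_subgroup hCN M)
    haveI : Nontrivial G := by
      by_contra h
      rw [not_nontrivial_iff_subsingleton] at h
      exact hns inferInstance
    refine no_minSimple ⟨hodd, ⟨fun N hN => ?_⟩, fun hc => ?_, hsub⟩ hCN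
    · by_contra hh
      push Not at hh
      haveI := hN
      haveI := hsub N hh.2
      have hlt : Nat.card (G ⧸ N) < n := by
        rw [← hn, N.card_eq_card_quotient_mul_card_subgroup]
        exact lt_mul_of_one_lt_right Nat.card_pos ((Subgroup.one_lt_card_iff_ne_bot N).mpr hh.1)
      haveI := ih _ hlt (G ⧸ N) rfl (Odd.of_dvd_nat hodd (Subgroup.card_quotient_dvd_card N))
        (Cfsg.Agent.S1473.result hCN N inferInstance)
      exact hns (solvable_of_ker_le_range N.subtype (QuotientGroup.mk' N) (by simp))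
    · exact hns (Group.isSolvable_of_comm fun a b => hc.is_comm.comm a b)

/-- The CN-Theorem for odd order: a finite group of odd order in which every non-identity element has a nilpotent centralizer (a CN-group) is solvable. -/
theorem result {G : Type*} [Group G] [Finite G] (hodd : Odd (Nat.card G)) (hCN : Cfsg.IsCNGroup G) : Group.IsSolvable G := solvable_aux _ G rfl hodd hCN

end Cfsg.Agent.S0183
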