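import Cfsg.Statements.S0184
import Cfsg.Agent.Lib.Char.Clifford
import Cfsg.Agent.Lib.Char.Extension
import Cfsg.Agent.Lib.Local.PGroup
import Mathlib.RingTheory.IntegralDomain
import Mathlib.GroupTheory.SpecificGroups.Cyclic

set_option autoImplicit false
open Cfsg

namespace Cfsg.Agent.S0184

/-- A finite p-group admits a faithful irreducible complex representation if and only if its centre is cyclic. -/
theorem result {G : Type*} [Group G] [Finite G] (p : ℕ) [Fact p.Prime] (hG : IsPGroup p G) : (∃ (n : ℕ) (ρ : Representation ℂ G (Fin n → ℂ)), ρ.IsIrreducible ∧ Function.Injective ρ) ↔ IsCyclic (Subgroup.center G) := by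
  constructor
  · rintro ⟨n, ρ, hρ, hinj⟩
    haveI := hρ
    haveI := Cfsg.Agent.Char.nontrivial_of_irreducible ρ
    have hz : ∀ z : Subgroup.center G, ∃ c : ℂ, ρ z = c • (1 : (Fin n → ℂ) →ₗ[ℂ] (Fin n → ℂ)) :=
      fun z => Cfsg.Agent.Char.isScalar_of_commute ρ (ρ z) fun g => by
        rw [← map_mul, ← map_mul, Subgroup.mem_center_iff.mp z.2 g]
    choose c hc using hz
    obtain ⟨v, hv⟩ := exists_ne (0 : Fin n → ℂ)
    have hinj' : ∀ a b : ℂ, a • (1 : (Fin n → ℂ) →ₗ[ℂ] (Fin n → ℂ)) = b • 1 → a = b := fun a b h =>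
      smul_left_injective ℂ hv (by simpa using LinearMap.congr_fun h v)
    let f : Subgroup.center G →* ℂ :=
      { toFun := c
        map_one' := hinj' _ _ (by rw [← hc, Subgroup.coe_one, map_one, one_smul])
        map_mul' := fun a b => hinj' _ _
          (by rw [← hc, Subgroup.coe_mul, map_mul, hc, hc, smul_mul_smul_comm, one_mul]) }
    refine isCyclic_of_subgroup_isDomain f fun a b h => Subtype.ext (hinj ?_)
    rw [hc, hc, show c a = c b from h]
  · intro hcyc
    classical
    haveI := Fintype.ofFinite G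
    by_cases htriv : ∀ g : G, g = 1
    · obtain ⟨n, ρ, hρ, -⟩ := Cfsg.Agent.Char.isIrrCharacter_one (G := G)
      exact ⟨n, ρ, hρ, fun a b _ => (htriv a).trans (htriv b).symm⟩
    haveI : Nontrivial G := by
      push Not at htriv
      obtain ⟨g, hg⟩ := htriv
      exact ⟨⟨g, 1, hg⟩⟩
    haveI : Nontrivial (Subgroup.center G) := hG.center_nontrivial
    obtain ⟨k, hk⟩ := (hG.to_subgroup (Subgroup.center G)).exists_card_eq
    have hk0 : k ≠ 0 := by
      rintro rfl
      exact absurd hk (by rw [pow_zero]; exact (Finite.one_lt_card).ne')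
    obtain ⟨z, hz⟩ := exists_prime_orderOf_dvd_card' (G := Subgroup.center G) p
      (hk ▸ dvd_pow_self p hk0)
    have hz1 : (z : G) ≠ 1 := fun h => (Fact.out : p.Prime).ne_one (by
      rw [← hz, orderOf_eq_one_iff]; exact Subtype.ext h)
    have hnc : ¬ IsConj (1 : G) z := fun h => hz1 (isConj_one_right.mp h)
    obtain ⟨χ, hχ⟩ := not_forall.mp fun h => hnc ((Cfsg.Agent.Char.isConj_iff_irr 1 (z : G)).mpr h)
    obtain ⟨n, ρ, hρ, hρc⟩ := χ.2
    refine ⟨n, ρ, hρ, ?_⟩
    by_contra hni
    let K : Subgroup G := (MonoidHom.toHomUnits ρ).ker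
    have hK : K ≠ ⊥ := fun hb => hni fun a b h => by
      have : MonoidHom.toHomUnits ρ a = MonoidHom.toHomUnits ρ b := Units.ext h
      exact (MonoidHom.ker_eq_bot_iff _).mp hb this
    have hI := Cfsg.Agent.Local.inf_center_ne_bot hG K hK
    haveI : Nontrivial ↥(K ⊓ Subgroup.center G) := (Subgroup.nontrivial_iff_ne_bot _).mpr hI
    obtain ⟨k', hk'⟩ := (hG.to_subgroup (K ⊓ Subgroup.center G)).exists_card_eq
    have hk0' : k' ≠ 0 := by
      rintro rfl
      exact absurd hk' (by rw [pow_zero]; exact (Finite.one_lt_card).ne')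
    obtain ⟨w, hw⟩ := exists_prime_orderOf_dvd_card' (G := ↥(K ⊓ Subgroup.center G)) p
      (hk' ▸ dvd_pow_self p hk0')
    let w' : Subgroup.center G := ⟨w, w.2.2⟩
    have hw' : orderOf w' = p := by
      rw [← Subgroup.orderOf_coe w'] ; rw [← hw, ← Subgroup.orderOf_coe w]
    haveI := Fintype.ofFinite (Subgroup.center G)
    have hsub : (Finset.univ.filter fun x : Subgroup.center G => x ∈ Subgroup.zpowers w') =
        Finset.univ.filter fun x : Subgroup.center G => x ^ p = 1 := by
      refine Finset.eq_of_subset_of_card_le (fun x hx => ?_) ?_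
      · obtain ⟨i, rfl⟩ := Subgroup.mem_zpowers_iff.mp (Finset.mem_filter.mp hx).2
        refine Finset.mem_filter.mpr ⟨Finset.mem_univ _, ?_⟩
        rw [← zpow_natCast, ← zpow_mul, mul_comm, zpow_mul, zpow_natCast, ← hw', pow_orderOf_eq_one,
          one_zpow]
      · refine (IsCyclic.card_pow_eq_one_le (Fact.out : p.Prime).pos).trans (le_of_eq ?_)
        rw [← Fintype.card_subtype, ← Nat.card_eq_fintype_card, ← hw', ← Nat.card_zpowers]
    have hzmem : z ∈ Subgroup.zpowers w' := by
      have : z ∈ Finset.univ.filter fun x : Subgroup.center G => x ^ p = 1 :=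
        Finset.mem_filter.mpr ⟨Finset.mem_univ _, hz ▸ pow_orderOf_eq_one z⟩
      rw [← hsub] at this
      exact (Finset.mem_filter.mp this).2
    obtain ⟨i, hi⟩ := Subgroup.mem_zpowers_iff.mp hzmem
    have hzK : (z : G) ∈ K := by
      rw [← hi, Subgroup.coe_zpow]
      exact K.zpow_mem w.2.1 i
    have hρz : ρ (z : G) = 1 := congrArg Units.val (MonoidHom.mem_ker.mp hzK)
    apply hχ
    rw [← hρc]
    show LinearMap.trace ℂ _ (ρ 1) = LinearMap.trace ℂ _ (ρ z)
    rw [hρz, map_one]

end Cfsg.Agent.S0184
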