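import Cfsg.Statements.S0185
import Cfsg.Agent.Lib.Char.Clifford
import Cfsg.Agent.Lib.Char.Linear

set_option autoImplicit false
open Cfsg

namespace Cfsg.Agent.S0185

/-- If a finite group has a faithful complex representation of degree less than the smallest prime dividing its order, the group is abelian. -/
theorem result {G : Type*} [Group G] [Finite G] {V : Type*} [AddCommGroup V] [Module ℂ V] [FiniteDimensional ℂ V] (ρ : Representation ℂ G V) (hfaithful : Function.Injective ρ) (hdeg : ∀ p : ℕ, p.Prime → p ∣ Nat.card G → Module.finrank ℂ V < p) (a b : G) : a * b = b * a := by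
  haveI := Fintype.ofFinite G
  have key : ∀ g : G, ρ.character g = (Module.finrank ℂ V : ℂ) → ρ g = LinearMap.id := fun g hg =>
    (Cfsg.Agent.Char.character_eq_finrank_iff ρ g).mp hg
  have hdeg1 : ∀ χ : G → ℂ, Cfsg.IsIrrCharacter G χ → classInner ρ.character χ ≠ 0 →
      χ (a * b * a⁻¹ * b⁻¹) = χ 1 := by
    intro χ hχ hne
    obtain ⟨d, hd0, hd⟩ := Cfsg.Agent.Char.IsIrrCharacter.degree_pos hχ
    obtain ⟨r, hr, e⟩ := Cfsg.Agent.Char.exists_add_of_classInner_ne_zero
      (Cfsg.Agent.Char.isCharacter_character ρ) hχ hne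
    obtain ⟨k, hk⟩ := Cfsg.Agent.Char.IsCharacter.exists_degree hr
    have hle : d ≤ Module.finrank ℂ V := by
      have := congrFun e 1
      rw [ρ.char_one, Pi.add_apply, hd, hk] at this
      have h' : Module.finrank ℂ V = d + k := by exact_mod_cast this
      omega
    have hd1 : d = 1 := by
      by_contra h1
      obtain ⟨p, hp, hpd⟩ := Nat.exists_prime_and_dvd h1
      have hpG := hpd.trans (Cfsg.Agent.Char.degree_dvd_card hχ d hd)
      have := Nat.le_of_dvd hd0 hpd
      have := hdeg p hp hpG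
      omega
    obtain ⟨l, rfl⟩ := Cfsg.Agent.Char.IsCharacter.exists_monoidHom
      (Cfsg.Agent.Char.IsIrrCharacter.isCharacter hχ) (by rw [hd, hd1, Nat.cast_one])
    simp [mul_comm (l a) (l b)]
  have hcomm : ρ.character (a * b * a⁻¹ * b⁻¹) = (Module.finrank ℂ V : ℂ) := by
    haveI := Fintype.ofFinite (Cfsg.IrrCharacter G)
    have e := Cfsg.Agent.Char.IsClassFunction.eq_sum
      (Cfsg.Agent.Char.IsCharacter.isClassFunction (Cfsg.Agent.Char.isCharacter_character ρ))
    rw [← ρ.char_one]
    conv_lhs => rw [e]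
    conv_rhs => rw [e]
    simp only [Finset.sum_apply, Pi.smul_apply, smul_eq_mul]
    refine Finset.sum_congr rfl fun χ _ => ?_
    by_cases h : classInner ρ.character (χ : G → ℂ) = 0
    · simp [h]
    · rw [hdeg1 χ χ.2 h]
  have h1 : a * b * a⁻¹ * b⁻¹ = 1 := hfaithful (by rw [key _ hcomm, map_one]; rfl)
  calc a * b = a * b * a⁻¹ * b⁻¹ * (b * a) := by group
    _ = b * a := by rw [h1, one_mul]

end Cfsg.Agent.S0185
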