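import Cfsg.Statements.S0187
import Cfsg.Agent.Lib.Char.Linear

set_option autoImplicit false
open Cfsg

namespace Cfsg.Agent.S0187

/-- A finite group is commutative if and only if every irreducible complex character has degree 1. -/
theorem result {G : Type*} [Group G] [Finite G] : (∀ a b : G, a * b = b * a) ↔ ∀ χ : Cfsg.IrrCharacter G, (χ : G → ℂ) 1 = 1 := by
  refine ⟨fun h χ => Cfsg.Agent.Char.IsIrrCharacter.degree_one_of_comm χ.2 h, fun h a b => ?_⟩
  haveI := Fintype.ofFinite (Cfsg.IrrCharacter G)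
  have h1 := Cfsg.Agent.Char.sum_sq_degree (G := G)
  simp only [h, one_pow, Finset.sum_const, Finset.card_univ, nsmul_eq_mul, mul_one,
    ← Nat.card_eq_fintype_card, Cfsg.Agent.Char.card_irrCharacter, Nat.cast_inj] at h1
  have hinj : Function.Injective (ConjClasses.mk : G → ConjClasses G) :=
    ((Nat.bijective_iff_surjective_and_card _).mpr ⟨ConjClasses.mk_surjective, h1.symm⟩).1
  have h2 : b * a * b⁻¹ = a :=
    hinj (ConjClasses.mk_eq_mk_iff_isConj.mpr (isConj_iff.mpr ⟨b, rfl⟩).symm)
  rw [mul_inv_eq_iff_eq_mul] at h2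
  exact h2.symm

end Cfsg.Agent.S0187
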