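import Cfsg.Statements.S0192
import Cfsg.Agent.Lib.Char.Zero

set_option autoImplicit false
open Cfsg

namespace Cfsg.Agent.S0192

/-- Brauer's generation criterion. Let G be a finite simple group, H₁ and H₂ subgroups, and χ a non-principal irreducible character. If the multiplicity of the principal character in χ restricted to H₁ ⊓ H₂ is less than the sum of the corresponding multiplicities for H₁ and H₂, then H₁ and H₂ do not generate G. -/
theorem result {G : Type*} [Group G] [Fintype G] [IsSimpleGroup G] (H₁ H₂ : Subgroup G) [Fintype H₁] [Fintype H₂] [Fintype ↥(H₁ ⊓ H₂)] (χ : G → ℂ) (hχ : Cfsg.IsIrrCharacter G χ) (hχ1 : χ ≠ fun _ => 1) (hlt : (Cfsg.classInner (fun x : ↥(H₁ ⊓ H₂) => χ x) (fun _ => 1)).re < (Cfsg.classInner (fun x : H₁ => χ x) (fun _ => 1)).re + (Cfsg.classInner (fun x : H₂ => χ x) (fun _ => 1)).re) : H₁ ⊔ H₂ ≠ ⊤ := by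
  intro htop
  obtain ⟨n, ρ, hρ, rfl⟩ := hχ
  haveI := hρ
  rw [Cfsg.Agent.Char.finrank_invariants_cast H₁ ρ, Cfsg.Agent.Char.finrank_invariants_cast H₂ ρ,
    Cfsg.Agent.Char.finrank_invariants_cast (H₁ ⊓ H₂) ρ] at hlt
  simp only [Complex.natCast_re] at hlt
  have hlt' : Module.finrank ℂ (Representation.invariants (ρ.comp (H₁ ⊓ H₂).subtype : Representation ℂ ↥(H₁ ⊓ H₂) (Fin n → ℂ))) <
      Module.finrank ℂ (Representation.invariants (ρ.comp H₁.subtype : Representation ℂ H₁ (Fin n → ℂ))) +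
      Module.finrank ℂ (Representation.invariants (ρ.comp H₂.subtype : Representation ℂ H₂ (Fin n → ℂ))) := by
    exact_mod_cast hlt
  set A := Representation.invariants (ρ.comp H₁.subtype : Representation ℂ H₁ (Fin n → ℂ)) with hA
  set B := Representation.invariants (ρ.comp H₂.subtype : Representation ℂ H₂ (Fin n → ℂ)) with hB
  set C := Representation.invariants (ρ.comp (H₁ ⊓ H₂).subtype : Representation ℂ ↥(H₁ ⊓ H₂) (Fin n → ℂ))
  have hAC : A ≤ C := fun v hv h => hv ⟨h, (Subgroup.mem_inf.mp h.2).1⟩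
  have hBC : B ≤ C := fun v hv h => hv ⟨h, (Subgroup.mem_inf.mp h.2).2⟩
  have h2 := Submodule.finrank_sup_add_finrank_inf_eq A B
  have h3 := Submodule.finrank_mono (sup_le hAC hBC)
  have hne : A ⊓ B ≠ ⊥ := by
    intro e
    rw [e, finrank_bot] at h2
    omega
  obtain ⟨v, hv, hv0⟩ := Submodule.exists_mem_ne_zero_of_ne_bot hne
  have hfix : ∀ g : G, ρ g v = v := by
    let K : Subgroup G :=
      { carrier := {g | ρ g v = v}
        mul_mem' := fun {a b} (ha : ρ a v = v) (hb : ρ b v = v) => by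
          show ρ (a * b) v = v
          rw [map_mul, Module.End.mul_apply, hb, ha]
        one_mem' := by show ρ 1 v = v; rw [map_one]; rfl
        inv_mem' := fun {a} (ha : ρ a v = v) => by
          show ρ a⁻¹ v = v
          conv_lhs => rw [← ha]
          rw [← Module.End.mul_apply, ← map_mul, inv_mul_cancel, map_one]; rfl }
    have hK : H₁ ⊔ H₂ ≤ K := sup_le (fun h hh => hv.1 ⟨h, hh⟩) (fun h hh => hv.2 ⟨h, hh⟩)
    exact fun g => (htop ▸ hK) (Subgroup.mem_top g)
  let W : Subrepresentation ρ := ⟨Submodule.span ℂ {v}, fun g w hw => by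
    obtain ⟨c, rfl⟩ := Submodule.mem_span_singleton.mp hw
    rw [map_smul, hfix]
    exact hw⟩
  have hW : W = ⊤ := by
    refine (hρ.eq_bot_or_eq_top W).resolve_left fun e => hv0 ?_
    have : v ∈ W.toSubmodule := Submodule.mem_span_singleton_self v
    rw [e] at this
    exact (Submodule.mem_bot ℂ).mp this
  refine hχ1 (funext fun g => ?_)
  have hg : ρ g = LinearMap.id := LinearMap.ext fun w => by
    have : w ∈ W.toSubmodule := by rw [hW]; exact Submodule.mem_top
    obtain ⟨c, rfl⟩ := Submodule.mem_span_singleton.mp this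
    rw [map_smul, hfix]; rfl
  have hn : Module.finrank ℂ (Fin n → ℂ) = 1 := by
    have hW' : Submodule.span ℂ {v} = ⊤ := congrArg Subrepresentation.toSubmodule hW
    rw [← finrank_top ℂ (Fin n → ℂ), ← hW', finrank_span_singleton hv0]
  show LinearMap.trace ℂ _ (ρ g) = 1
  rw [hg, LinearMap.trace_id, hn, Nat.cast_one]

end Cfsg.Agent.S0192
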