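import Cfsg.Statements.S0194
import Cfsg.Agent.Lib.Char.Clifford
import Cfsg.Agent.Lib.Char.Perm

set_option autoImplicit false
open scoped ComplexConjugate
open Cfsg

namespace Cfsg.Agent.S0194

/-- Let G have odd order, H be a normal subgroup and θ a non-principal irreducible character of H. Then the function induced from θ is orthogonal to its complex conjugate. -/
theorem result {G : Type*} [Group G] [Fintype G] (hodd : Odd (Nat.card G)) (H : Subgroup G) [H.Normal] (θ : H → ℂ) (hθ : Cfsg.IsIrrCharacter H θ) (hθ1 : θ ≠ fun _ => 1) : Cfsg.classInner (fun g => conj (Cfsg.indFun H θ g)) (Cfsg.indFun H θ) = 0 := by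
  classical
  haveI := Fintype.ofFinite H
  have e : (fun g => (starRingEnd ℂ) (Cfsg.indFun H θ g)) = Cfsg.indFun H (fun h => (starRingEnd ℂ) (θ h)) := by
    funext g
    simp only [Cfsg.Agent.Char.indFun_apply, map_mul, map_inv₀, map_natCast, map_sum]
    congr 1
    refine Finset.sum_congr rfl fun x _ => ?_
    by_cases hm : x⁻¹ * g * x ∈ H
    · rw [Cfsg.Agent.Char.extendByZero_of_mem _ _ hm, Cfsg.Agent.Char.extendByZero_of_mem _ _ hm]
    · rw [Cfsg.Agent.Char.extendByZero_of_notMem _ _ hm,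
        Cfsg.Agent.Char.extendByZero_of_notMem _ _ hm, map_zero]
  rw [e, Cfsg.Agent.Char.classInner_indFun_indFun H hθ (Cfsg.Agent.Char.IsIrrCharacter.conj hθ)]
  rw [Finset.filter_eq_empty_iff.mpr fun g _ hg => ?_, Finset.card_empty, Nat.cast_zero, zero_div]
  have hsq : g * g ∈ Cfsg.Agent.Char.inertia H θ := by
    rw [Cfsg.Agent.Char.mem_inertia, ← Cfsg.Agent.Char.conjChar_mul, hg]
    funext n
    have := congrFun hg n
    simp only [Cfsg.Agent.Char.conjChar] at this ⊢
    rw [this, Complex.conj_conj]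
  obtain ⟨m, hm⟩ := Odd.of_dvd_nat hodd (orderOf_dvd_natCard g)
  have hmem : g ∈ Cfsg.Agent.Char.inertia H θ := by
    have h1 : g = (g * g) ^ (m + 1) := by
      rw [← pow_two, ← pow_mul, show 2 * (m + 1) = orderOf g + 1 by omega, pow_succ,
        pow_orderOf_eq_one, one_mul]
    rw [h1]
    exact Subgroup.pow_mem _ hsq _
  rw [Cfsg.Agent.Char.mem_inertia, hg] at hmem
  refine hθ1 (Cfsg.Agent.Char.real_irr_eq_one ?_ ⟨θ, hθ⟩ fun n => Complex.conj_eq_iff_im.mp (congrFun hmem n))
  exact Odd.of_dvd_nat hodd (Subgroup.card_subgroup_dvd_card H)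

end Cfsg.Agent.S0194
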