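import Cfsg.Statements.S0196
import Cfsg.Agent.S0195
import Mathlib.GroupTheory.GroupAction.Quotient
import Mathlib.GroupTheory.GroupAction.ConjAct
import Mathlib.Algebra.BigOperators.Ring.Finset

set_option autoImplicit false
open Cfsg

namespace Cfsg.Agent.S0196

/-- Let A be a subgroup of a finite group G that equals the centralizer of each of its non-identity elements, and let N be its normalizer. Then the index of A in N divides |A| − 1 (N/A permutes the non-identity elements of A in orbits of full length). -/
theorem result {G : Type*} [Group G] [Finite G] (A : Subgroup G) (hA : ∀ x ∈ A, x ≠ 1 → Subgroup.centralizer ({x} : Set G) = A) : (A.subgroupOf (Subgroup.normalizer (A : Set G))).index ∣ Nat.card A - 1 := by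
  classical
  let N := Subgroup.normalizer (A : Set G)
  letI : MulAction N {x : A // x ≠ 1} :=
    { smul := fun n x => ⟨⟨(n : G) * x.1 * (n : G)⁻¹, (Subgroup.mem_normalizer_iff.mp n.2 _).mp x.1.2⟩,
        fun h => x.2 (Subtype.ext (by
          have h' : (n : G) * x.1 * (n : G)⁻¹ = 1 := congrArg Subtype.val h
          calc ((x.1 : A) : G) = (n : G)⁻¹ * ((n : G) * x.1 * (n : G)⁻¹) * n := by group
            _ = 1 := by rw [h']; group))⟩
      one_smul := fun x => Subtype.ext (Subtype.ext (show (1 : G) * x.1 * (1 : G)⁻¹ = x.1 by group))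
      mul_smul := fun a b x => Subtype.ext (Subtype.ext
        (show (a : G) * b * x.1 * ((a : G) * b)⁻¹ = a * (b * x.1 * (b : G)⁻¹) * (a : G)⁻¹ by group)) }
  have hst : ∀ x : {x : A // x ≠ 1}, MulAction.stabilizer N x = A.subgroupOf N := by
    intro x
    ext n
    rw [MulAction.mem_stabilizer_iff, Subgroup.mem_subgroupOf]
    conv_rhs => rw [← hA x.1 x.1.2 (fun h => x.2 (Subtype.ext h)), Subgroup.mem_centralizer_singleton_iff]
    constructor
    · intro h
      have h' : (n : G) * x.1 * (n : G)⁻¹ = x.1 := congrArg (fun y : {x : A // x ≠ 1} => ((y.1 : A) : G)) h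
      exact mul_inv_eq_iff_eq_mul.mp h'
    · intro h
      refine Subtype.ext (Subtype.ext ?_)
      show (n : G) * x.1 * (n : G)⁻¹ = x.1
      rw [h, mul_inv_cancel_right]
  have h1 : Nat.card {x : A // x ≠ 1} = Nat.card A - 1 := by
    haveI := Fintype.ofFinite A
    rw [Nat.card_eq_fintype_card, Fintype.card_subtype_compl, Fintype.card_subtype_eq,
      Nat.card_eq_fintype_card]
  rw [← h1, Nat.card_congr (MulAction.selfEquivSigmaOrbits N {x : A // x ≠ 1})]
  haveI := Fintype.ofFinite (Quotient (MulAction.orbitRel N {x : A // x ≠ 1}))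
  rw [Nat.card_sigma]
  refine Finset.dvd_sum fun q _ => dvd_of_eq ?_
  show (A.subgroupOf N).index = _
  rw [Nat.card_congr (MulAction.orbitEquivQuotientStabilizer N q.out), hst]
  rfl

end Cfsg.Agent.S0196
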