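import Cfsg.Statements.S0198
import Cfsg.Agent.Lib.Char.Generalized

set_option autoImplicit false
open Cfsg

namespace Cfsg.Agent.S0198

open Cfsg.Agent.Char in
theorem gram_structure {G : Type*} [Group G] [Fintype G] {ι : Type*} [DecidableEq ι] (i₀ : ι)
    (τ : ι → (G → ℂ)) (h0 : τ i₀ = 0) (hgen : ∀ i, Cfsg.IsGeneralizedCharacter G (τ i))
    (hone : ∀ i, τ i 1 = 0)
    (hgram : ∀ i j, i ≠ i₀ → j ≠ i₀ → Cfsg.classInner (τ i) (τ j) = if i = j then 2 else 1) :
    ∃ ε : ℂ, (ε = 1 ∨ ε = -1) ∧ ∃ μ : ι → (G → ℂ), (∀ i, Cfsg.IsIrrCharacter G (μ i)) ∧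
      Function.Injective μ ∧ ∀ i, τ i = ε • (μ i - μ i₀) := by
  classical
  have hpair : ∀ i, ∃ a b : Cfsg.IrrCharacter G, i ≠ i₀ → a ≠ b ∧ τ i = (a : G → ℂ) - b := by
    intro i
    by_cases hi : i = i₀
    · exact ⟨⟨1, isIrrCharacter_one⟩, ⟨1, isIrrCharacter_one⟩, fun h => absurd hi h⟩
    · obtain ⟨a, b, hab, e⟩ := IsGeneralizedCharacter.exists_sub_of_norm_two (hgen i)
        (by rw [hgram i i hi hi, if_pos rfl]) (hone i)
      exact ⟨a, b, fun _ => ⟨hab, e⟩⟩
  choose a b hab using hpair
  by_cases hex : ∃ i₁, i₁ ≠ i₀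
  swap
  · push Not at hex
    exact ⟨1, Or.inl rfl, fun _ => 1, fun _ => isIrrCharacter_one,
      fun x y _ => (hex x).trans (hex y).symm, fun i => by simp [hex i, h0]⟩
  obtain ⟨i₁, hi₁⟩ := hex
  have hinner : ∀ i j, i ≠ i₀ → j ≠ i₀ →
      ((if a i = a j then 1 else 0) - (if a i = b j then 1 else 0) -
        ((if b i = a j then 1 else 0) - (if b i = b j then 1 else 0)) : ℤ) =
        (if i = j then 2 else 1) := by
    intro i j hi hj
    have h := hgram i j hi hj
    rw [(hab i hi).2, (hab j hj).2] at h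
    simp only [classInner_sub_left, classInner_sub_right, classInner_irr] at h
    apply Int.cast_injective (α := ℂ)
    split_ifs at h ⊢ <;> push_cast <;> linear_combination h
  have huniq : ∀ i j, i ≠ i₀ → j ≠ i₀ → a i = a j → b i = b j → i = j := by
    intro i j hi hj e1 e2
    by_contra hne
    have h := hinner i j hi hj
    have h3 := (hab i hi).1
    have h4 := (hab j hj).1
    rw [if_pos e1, if_pos e2, if_neg hne, if_neg (fun e => h4 (e1.symm.trans e)),
      if_neg (fun e => h4 (e.symm.trans e2))] at h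
    omega
  have hone' : ∀ i j, i ≠ i₀ → j ≠ i₀ → a i = a j ∨ b i = b j := by
    intro i j hi hj
    by_contra hh
    push Not at hh
    have h := hinner i j hi hj
    rw [if_neg hh.1, if_neg hh.2] at h
    split_ifs at h <;> omega
  by_cases hA : ∀ i, i ≠ i₀ → b i = b i₁
  · refine ⟨1, Or.inl rfl, fun i => if i = i₀ then (b i₁ : G → ℂ) else (a i : G → ℂ),
      fun i => by dsimp only; split_ifs <;> exact Subtype.prop _, ?_, ?_⟩
    · intro i j h
      simp only at h
      by_cases hi : i = i₀ <;> by_cases hj : j = i₀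
      · exact hi.trans hj.symm
      · rw [if_pos hi, if_neg hj] at h
        exact absurd ((Subtype.ext h).symm.trans (hA j hj).symm) (hab j hj).1
      · rw [if_neg hi, if_pos hj] at h
        exact absurd ((Subtype.ext h).trans (hA i hi).symm) (hab i hi).1
      · rw [if_neg hi, if_neg hj] at h
        exact huniq i j hi hj (Subtype.ext h) ((hA i hi).trans (hA j hj).symm)
    · intro i
      by_cases hi : i = i₀
      · subst hi; simp [h0]
      · simp only [if_neg hi, if_pos rfl, one_smul]
        rw [(hab i hi).2, hA i hi]; simp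
  · push Not at hA
    obtain ⟨k, hk, hbk⟩ := hA
    have hak : a k = a i₁ := (hone' k i₁ hk hi₁).resolve_right hbk
    have hB : ∀ i, i ≠ i₀ → a i = a i₁ := by
      intro i hi
      by_contra hne
      have hbi := (hone' i i₁ hi hi₁).resolve_left hne
      rcases hone' i k hi hk with h | h
      · exact hne (h.trans hak)
      · exact hbk (h.symm.trans hbi)
    refine ⟨-1, Or.inr rfl, fun i => if i = i₀ then (a i₁ : G → ℂ) else (b i : G → ℂ),
      fun i => by dsimp only; split_ifs <;> exact Subtype.prop _, ?_, ?_⟩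
    · intro i j h
      simp only at h
      by_cases hi : i = i₀ <;> by_cases hj : j = i₀
      · exact hi.trans hj.symm
      · rw [if_pos hi, if_neg hj] at h
        exact absurd ((hB j hj).trans (Subtype.ext h)) (hab j hj).1
      · rw [if_neg hi, if_pos hj] at h
        exact absurd ((hB i hi).trans (Subtype.ext h).symm) (hab i hi).1
      · rw [if_neg hi, if_neg hj] at h
        exact huniq i j hi hj ((hB i hi).trans (hB j hj).symm) (Subtype.ext h)
    · intro i
      by_cases hi : i = i₀
      · subst hi; simp [h0]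
      · simp only [if_neg hi, if_pos rfl]
        rw [(hab i hi).2, hB i hi]; simp

/-- The isometry lemma behind exceptional characters. Let τ be a family of generalized characters of a finite group G indexed by Fin n, with τ i₀ = 0, every τ i vanishing at the identity, and inner products ⟨τ i, τ j⟩ = 2 if i = j and 1 otherwise for i, j ≠ i₀. Then there are a sign ε and pairwise distinct irreducible characters μ i with τ i = ε (μ i − μ i₀) for all i. -/
theorem result {G : Type*} [Group G] [Fintype G] (n : ℕ) (i₀ : Fin n) (τ : Fin n → (G → ℂ)) (h0 : τ i₀ = 0) (hgen : ∀ i, Cfsg.IsGeneralizedCharacter G (τ i)) (hone : ∀ i, τ i 1 = 0) (hgram : ∀ i j, i ≠ i₀ → j ≠ i₀ → Cfsg.classInner (τ i) (τ j) = if i = j then 2 else 1) : ∃ ε : ℂ, (ε = 1 ∨ ε = -1) ∧ ∃ μ : Fin n → (G → ℂ), (∀ i, Cfsg.IsIrrCharacter G (μ i)) ∧ Function.Injective μ ∧ ∀ i, τ i = ε • (μ i - μ i₀) := by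
  exact gram_structure i₀ τ h0 hgen hone hgram

end Cfsg.Agent.S0198
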