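import Cfsg.Statements.S0200
import Cfsg.Agent.Lib.Inv.BaerSuzuki
import Cfsg.Agent.Lib.Inv.Dihedral
import Mathlib
-- import your own Cfsg.Agent.* helpers here

set_option autoImplicit false
open Cfsg
open Pointwise

namespace Cfsg.Agent.S0200

/-- An involution lying in no normal 2-subgroup of a finite group inverts a nontrivial element of odd order (a consequence of the Baer–Suzuki Theorem). -/
theorem result {G : Type*} [Group G] [Finite G] (t : G) (ht : orderOf t = 2) (hO : ∀ N : Subgroup G, N.Normal → IsPGroup 2 N → t ∉ N) : ∃ h : G, h ≠ 1 ∧ Odd (orderOf h) ∧ t * h * t⁻¹ = h⁻¹ := by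
  open Cfsg.Agent.Inv in
  classical
  haveI : Fact (Nat.Prime 2) := ⟨Nat.prime_two⟩
  by_contra! hcon
  have hX : IsPGroup 2 ↥(Subgroup.zpowers t) :=
    IsPGroup.of_card (n := 1) (by rw [Nat.card_zpowers, ht, pow_one])
  obtain ⟨N, hN, hN2, hle⟩ := baerSuzuki (Subgroup.zpowers t) hX (fun g => by
    set w := g * t * g⁻¹ with hw
    have hw2 : orderOf w = 2 := (orderOf_conj g t).trans ht
    obtain ⟨e, o, ho, heo⟩ : ∃ e o : ℕ, ¬ 2 ∣ o ∧ orderOf (t * w) = 2 ^ e * o :=
      Nat.exists_eq_pow_mul_and_not_dvd (orderOf_pos (t * w)).ne' 2 (by norm_num)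
    have ho1 : o = 1 := by
      by_contra ho1
      have hord : orderOf ((t * w) ^ 2 ^ e) = o := by
        rw [orderOf_pow, heo, Nat.gcd_eq_right (dvd_mul_right _ _),
          Nat.mul_div_cancel_left _ (pow_pos (by norm_num) e)]
      refine hcon ((t * w) ^ 2 ^ e) (fun h1 => ho1 (by rw [← hord, h1, orderOf_one])) ?_ ?_
      · rw [hord, ← Nat.not_even_iff_odd, even_iff_two_dvd]
        exact ho
      · have h2 := conj_zpow_mul ht hw2 ((2 ^ e : ℕ) : ℤ)
        rw [zpow_neg, zpow_natCast] at h2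
        exact h2
    rw [ho1, mul_one] at heo
    have hsup : Subgroup.zpowers t ⊔ MulAut.conj g • Subgroup.zpowers t =
        Subgroup.closure ({t, w} : Set G) := by
      show _ ⊔ (Subgroup.zpowers t).map (MulAut.conj g).toMonoidHom = _
      rw [MonoidHom.map_zpowers, Subgroup.zpowers_eq_closure, Subgroup.zpowers_eq_closure,
        ← Subgroup.closure_union, Set.singleton_union]
      rfl
    rw [hsup]
    obtain ⟨φ⟩ := dihedral_equiv ht hw2
    refine IsPGroup.of_card (n := e + 1) ?_
    rw [Nat.card_congr φ.toEquiv, DihedralGroup.nat_card, heo, pow_succ, mul_comm])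
  exact hO N hN hN2 (hle (Subgroup.mem_zpowers t))

end Cfsg.Agent.S0200
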