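import Cfsg.Statements.S0201
import Cfsg.Agent.Lib.Inv.ZStarCor

set_option autoImplicit false
open Cfsg

namespace Cfsg.Agent.S0201

/-- Brauer–Suzuki Theorem: if a Sylow 2-subgroup of a finite group is generalized quaternion (of order at least 8) and the group has no nontrivial normal subgroup of odd order, then its centre has order 2. -/
theorem result {G : Type*} [Group G] [Finite G] (S : Sylow 2 G) (n : ℕ) (e : (S : Subgroup G) ≃* QuaternionGroup (2 ^ (n + 1))) (hO : ∀ N : Subgroup G, N.Normal → Odd (Nat.card N) → N = ⊥) : Nat.card (Subgroup.center G) = 2 := by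
  classical
  haveI : Fact (Nat.Prime 2) := ⟨Nat.prime_two⟩
  haveI : NeZero (2 ^ (n + 1)) := ⟨by positivity⟩
  have hcore : oddCore G = ⊥ := hO _ inferInstance Local.oddCore_card_odd
  have huniq : ∀ s t : (S : Subgroup G), orderOf s = 2 → orderOf t = 2 → s = t := fun s t hs ht =>
    e.injective ((Inv.quaternion_involution_unique (by rwa [MulEquiv.orderOf_eq])).trans
      (Inv.quaternion_involution_unique (by rwa [MulEquiv.orderOf_eq])).symm)
  have hconj : ∀ s t : G, orderOf s = 2 → orderOf t = 2 → Commute s t → s = t := by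
    intro s t hs ht hc
    by_contra hne
    obtain ⟨E, hE, hsE, htE⟩ := Inv.exists_klein hs ht hc hne
    haveI := hE
    obtain ⟨Q, hQ⟩ := (IsPGroup.of_card (G := E) (p := 2) (n := 2)
      (by rw [IsKleinFour.card_four]; rfl)).exists_le_sylow
    obtain ⟨c, hcQ⟩ := MulAction.exists_smul_eq G Q S
    have hmem : ∀ x ∈ E, c * x * c⁻¹ ∈ S := fun x hx => hcQ ▸ ⟨x, hQ hx, rfl⟩
    have := congrArg Subtype.val (huniq ⟨_, hmem s hsE⟩ ⟨_, hmem t htE⟩
      (by rw [← Subgroup.orderOf_coe]; exact (Inv.orderOf_conj c s).trans hs)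
      (by rw [← Subgroup.orderOf_coe]; exact (Inv.orderOf_conj c t).trans ht))
    exact hne (mul_left_cancel (mul_right_cancel this))
  obtain ⟨z, hz, -⟩ : ∃ z : G, orderOf z = 2 ∧ z ∈ S := by
    refine ⟨((e.symm (QuaternionGroup.xa 0) ^ 2 : (S : Subgroup G)) : G), ?_, Subtype.prop _⟩
    rw [Subgroup.orderOf_coe, ← map_pow, MulEquiv.orderOf_eq, orderOf_pow,
      QuaternionGroup.orderOf_xa]
    rfl
  have hzc : z ∈ Subgroup.center G :=
    Inv.isolated_mem_center hcore (Inv.TwoRankOne.isolated hconj hz)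
  -- the centre is a 2-group
  set Z := Subgroup.center G
  have hZp : IsPGroup 2 Z := by
    obtain ⟨k, m, hm, hcard⟩ := Nat.exists_eq_two_pow_mul_odd (n := Nat.card Z) Nat.card_pos.ne'
    refine IsPGroup.of_card (n := k) ?_
    rw [hcard]
    suffices m = 1 by rw [this, mul_one]
    by_contra hm1
    obtain ⟨q, hq, hqm⟩ := Nat.exists_prime_and_dvd hm1
    haveI := Fact.mk hq
    obtain ⟨x, hx⟩ := exists_prime_orderOf_dvd_card' (G := Z) q (hcard ▸ dvd_mul_of_dvd_right hqm _)
    have hn : (Subgroup.zpowers (x : G)).Normal := ⟨fun a ha g => by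
      rw [Subgroup.mem_center_iff.1 (Subgroup.zpowers_le.2 x.2 ha) g, mul_inv_cancel_right]
      exact ha⟩
    have hodd : Odd (Nat.card (Subgroup.zpowers (x : G))) := by
      rw [Nat.card_zpowers, Subgroup.orderOf_coe, hx]
      exact hm.of_dvd_nat hqm
    have := hO _ hn hodd
    rw [Subgroup.zpowers_eq_bot] at this
    rw [← Subgroup.orderOf_coe, this, orderOf_one] at hx
    exact hq.ne_one hx.symm
  -- hence it lies in `S`
  have hZS : Z ≤ (S : Subgroup G) := by
    obtain ⟨Q, hQ⟩ := hZp.exists_le_sylow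
    obtain ⟨c, hcQ⟩ := MulAction.exists_smul_eq G Q S
    intro x hx
    have : c * x * c⁻¹ ∈ S := hcQ ▸ ⟨x, hQ hx, rfl⟩
    rwa [Subgroup.mem_center_iff.1 hx c, mul_inv_cancel_right] at this
  -- central elements of a generalized quaternion group have order at most 2
  have hexp : ∀ x ∈ Z, x ^ 2 = 1 := by
    intro x hx
    have hS : ∀ q : QuaternionGroup (2 ^ (n + 1)), q * e ⟨x, hZS hx⟩ = e ⟨x, hZS hx⟩ * q := by
      intro q
      rw [← e.apply_symm_apply q, ← map_mul, ← map_mul]
      exact congrArg e (Subtype.ext (Subgroup.mem_center_iff.1 hx _))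
    suffices h : e ⟨x, hZS hx⟩ ^ 2 = 1 by
      rw [← map_pow, EmbeddingLike.map_eq_one_iff] at h
      exact congrArg Subtype.val h
    generalize e ⟨x, hZS hx⟩ = q at hS
    cases q with
    | a i =>
      have h := hS (QuaternionGroup.xa 0)
      rw [QuaternionGroup.xa_mul_a, QuaternionGroup.a_mul_xa, QuaternionGroup.xa.injEq] at h
      rw [pow_two, QuaternionGroup.a_mul_a, show i + i = 0 by linear_combination h]
      rfl
    | xa i =>
      exfalso
      have h := hS (QuaternionGroup.a 1)
      rw [QuaternionGroup.xa_mul_a, QuaternionGroup.a_mul_xa, QuaternionGroup.xa.injEq] at h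
      have h2 : ((2 : ℕ) : ZMod (2 * 2 ^ (n + 1))) = 0 := by push_cast; linear_combination -h
      rw [ZMod.natCast_eq_zero_iff] at h2
      have := Nat.le_of_dvd two_pos h2
      have : 2 ^ 1 ≤ 2 ^ (n + 1) := Nat.pow_le_pow_right two_pos (by omega)
      omega
  refine le_antisymm ?_ ?_
  · refine (Nat.card_le_card_of_injective (β := Bool) (fun x : Z => decide ((x : G) = 1)) ?_).trans
      (by simp)
    intro x y hxy
    simp only [decide_eq_decide] at hxy
    by_cases hx1 : (x : G) = 1
    · exact Subtype.ext (hx1.trans (hxy.1 hx1).symm)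
    · have hy1 : ¬ (y : G) = 1 := fun h => hx1 (hxy.2 h)
      have ho : ∀ w : Z, (w : G) ≠ 1 → orderOf (w : G) = 2 := fun w hw =>
        Inv.orderOf_eq_two_of_mul_self (by rw [← pow_two]; exact hexp w w.2) hw
      exact Subtype.ext (hconj x y (ho x hx1) (ho y hy1) (Subgroup.mem_center_iff.1 y.2 x))
  · refine Nat.le_of_dvd Nat.card_pos ?_
    have := Subgroup.orderOf_dvd_natCard Z hzc
    rwa [hz] at this

end Cfsg.Agent.S0201
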