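import Cfsg.Statements.S0203
import Cfsg.Agent.Lib.Inv.KleinSylow

set_option autoImplicit false
open Cfsg

namespace Cfsg.Agent.S0203

/-- If a Sylow 2-subgroup P of a finite group G is a Klein four-group, then G has three classes of involutions if and only if P has a normal complement in G. -/
theorem result {G : Type*} [Group G] [Finite G] (P : Sylow 2 G) (hP : IsKleinFour (P : Subgroup G)) : Nat.card {C : ConjClasses G // ∃ t : G, orderOf t = 2 ∧ ConjClasses.mk t = C} = 3 ↔ ∃ N : Subgroup G, N.Normal ∧ Subgroup.IsComplement' N (P : Subgroup G) := by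
  have hab := KleinSylow.isMulCommutative hP
  constructor
  · intro h
    rcases KleinSylow.dichotomy hP with h' | h'
    · rw [KleinSylow.card_eq_one hP h'] at h; omega
    · obtain ⟨Q, N, hN, hc⟩ := Solv.hasNormalPComplement_of_burnside P h'.2
      obtain ⟨-, hcop, hidx⟩ := Solv.complement_eq_pPrimeCore hc
      exact ⟨N, hN, Solv.isComplement'_sylow_of_card P N hcop hidx⟩
  · rintro ⟨N, hN, hc⟩
    refine KleinSylow.card_eq_three hP fun a ha b hb h => ?_
    obtain ⟨g, rfl⟩ := isConj_iff.1 h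
    obtain ⟨⟨⟨m, hm⟩, ⟨q, hq⟩⟩, hg⟩ := hc.2 g
    simp only at hg
    have hqa : q * a * q⁻¹ = a := by
      rw [mul_inv_eq_iff_eq_mul]
      exact congrArg Subtype.val (hab.is_comm.comm (⟨q, hq⟩ : (P : Subgroup G)) ⟨a, ha⟩)
    have e : g * a * g⁻¹ = m * a * m⁻¹ := by
      rw [← hg, show m * q * a * (m * q)⁻¹ = m * (q * a * q⁻¹) * m⁻¹ by group, hqa]
    rw [e] at hb ⊢
    have h1 : m * a * m⁻¹ * a⁻¹ ∈ N ⊓ (P : Subgroup G) := ⟨by
      have := mul_mem hm (hN.conj_mem _ (inv_mem hm) a)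
      simpa [mul_assoc] using this, Subgroup.mul_mem _ hb (Subgroup.inv_mem _ ha)⟩
    rw [hc.disjoint.eq_bot, Subgroup.mem_bot, mul_inv_eq_one] at h1
    exact h1.symm

end Cfsg.Agent.S0203
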