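import Cfsg.Statements.S0210
import Cfsg.Agent.Lib.Inv.Dihedral

set_option autoImplicit false
open Cfsg

namespace Cfsg.Agent.S0210

/-- If x, y are involutions whose product has even order, no element of the subgroup generated by x and y conjugates x to y. -/
theorem result {G : Type*} [Group G] [Finite G] (x y : G) (hx : orderOf x = 2) (hy : orderOf y = 2) (heven : Even (orderOf (x * y))) (d : G) (hd : d ∈ Subgroup.closure ({x, y} : Set G)) : d * x * d⁻¹ ≠ y := by
  open Cfsg.Agent.Inv in
  intro h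
  have key : ∀ k : ℤ, (x * y) ^ k * x * ((x * y) ^ k)⁻¹ ≠ y := by
    intro k hk
    rw [mul_assoc, ← zpow_neg, x_mul_zpow hx hy, ← mul_assoc, ← zpow_add, neg_neg] at hk
    conv_rhs at hk => rw [y_eq hx hy]
    have h2 := zpow_eq_zpow_iff_modEq.1 (mul_right_cancel hk)
    rw [Int.modEq_iff_dvd] at h2
    obtain ⟨m, hm⟩ := heven
    obtain ⟨c, hc⟩ := h2
    rw [hm] at hc
    have : ((-1 : ℤ) - (k + k)) % 2 = 0 := by
      rw [hc]; push_cast; rw [← two_mul, mul_assoc]; simp
    omega
  obtain ⟨k, rfl | rfl⟩ := (mem_closure_pair hx hy).1 hd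
  · exact key k h
  · apply key k
    refine Eq.trans ?_ h
    rw [mul_inv_rev, inv_eq_self_of_orderOf_two hx]
    simp only [mul_assoc, Cfsg.Agent.Inv.mul_self_of_orderOf_two hx, mul_one]

end Cfsg.Agent.S0210
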