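import Cfsg.Statements.S0211
import Mathlib
import Cfsg.Agent.Lib.Inv.Dihedral

set_option autoImplicit false
open Cfsg

namespace Cfsg.Agent.S0211

/-- Let x, y be involutions with xy of even order n and z = (xy)^(n/2). Then xz is conjugate to x by an element of the subgroup generated by x, y if and only if 4 divides n. -/
theorem result {G : Type*} [Group G] [Finite G] (x y : G) (hx : orderOf x = 2) (hy : orderOf y = 2) (heven : Even (orderOf (x * y))) : (∃ d ∈ Subgroup.closure ({x, y} : Set G), d * x * d⁻¹ = x * (x * y) ^ (orderOf (x * y) / 2)) ↔ 4 ∣ orderOf (x * y) := by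
  open Cfsg.Agent.Inv in
  obtain ⟨m, hm⟩ := heven
  have h2 : orderOf (x * y) / 2 = m := by omega
  rw [h2]
  have hpos := orderOf_pos (x * y)
  have hr : x * (x * y) ^ m = (x * y) ^ (-(m : ℤ)) * x := by
    rw [← x_mul_zpow hx hy, zpow_natCast]
  constructor
  · rintro ⟨d, hd, he⟩
    have key : ∃ k : ℤ, (x * y) ^ k * x * ((x * y) ^ k)⁻¹ = x * (x * y) ^ m := by
      obtain ⟨k, rfl | rfl⟩ := (mem_closure_pair hx hy).1 hd
      · exact ⟨k, he⟩
      · refine ⟨k, ?_⟩
        refine Eq.trans ?_ he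
        simp only [mul_inv_rev, inv_eq_self_of_orderOf_two hx, mul_assoc,
          mul_self_of_orderOf_two hx, mul_one]
    obtain ⟨k, hk⟩ := key
    rw [mul_assoc, ← zpow_neg, x_mul_zpow hx hy, ← mul_assoc, ← zpow_add, neg_neg, hr] at hk
    have h3 := zpow_eq_zpow_iff_modEq.1 (mul_right_cancel hk)
    rw [Int.modEq_iff_dvd, hm] at h3
    obtain ⟨c, hc⟩ := h3
    push_cast at hc
    have h4 : (m : ℤ) * (2 * c + 1) = -2 * k := by linarith
    have h6 : (2 : ℤ) ∣ m := by
      have h5 : (2 : ℤ) ∣ (m : ℤ) * (2 * c + 1) := ⟨-k, by linarith⟩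
      rcases Int.prime_two.dvd_or_dvd h5 with h | h
      · exact h
      · omega
    omega
  · intro h4
    have hl : ∃ l, m = l + l := ⟨m / 2, by omega⟩
    obtain ⟨l, rfl⟩ := hl
    refine ⟨(x * y) ^ (-(l : ℤ)), (mem_closure_pair hx hy).2 ⟨_, Or.inl rfl⟩, ?_⟩
    rw [mul_assoc, ← zpow_neg, x_mul_zpow hx hy, ← mul_assoc, ← zpow_add, neg_neg, hr]
    congr 2
    push_cast
    ring

end Cfsg.Agent.S0211
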