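import Cfsg.Statements.S0233
import Cfsg.Agent.Lib.Inv.Dihedral
import Mathlib
-- import your own Cfsg.Agent.* helpers here

set_option autoImplicit false
open Cfsg

namespace Cfsg.Agent.S0233

/-- Let G be a finite group of even order with exactly n involutions whose centre has odd order, and put a = |G|/n. Then G has a proper subgroup H with |G : H| = 2 or |G : H| < a(a+1)/2; over ℕ the latter reads 2·|G:H|·n² < |G|·(|G| + n). -/
theorem result {G : Type*} [Group G] [Finite G] (heven : Even (Nat.card G)) (hZ : Odd (Nat.card (Subgroup.center G))) : ∃ H : Subgroup G, H ≠ ⊤ ∧ (H.index = 2 ∨ 2 * H.index * (Nat.card {t : G // orderOf t = 2}) ^ 2 < Nat.card G * (Nat.card G + Nat.card {t : G // orderOf t = 2})) := by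
  open Cfsg.Agent.Inv in
  classical
  haveI : Fintype G := Fintype.ofFinite G
  haveI : Fact (Nat.Prime 2) := ⟨Nat.prime_two⟩
  by_cases hidx : ∃ H : Subgroup G, H.index = 2
  · obtain ⟨H, hH⟩ := hidx
    exact ⟨H, fun e => by rw [e, Subgroup.index_top] at hH; omega, Or.inl hH⟩
  push Not at hidx
  -- the extended centralizer
  let E : G → Subgroup G := fun x =>
    { carrier := {g | g * x * g⁻¹ = x ∨ g * x * g⁻¹ = x⁻¹}
      one_mem' := Or.inl (by simp)
      mul_mem' := by
        intro a b ha hb
        have e : a * b * x * (a * b)⁻¹ = a * (b * x * b⁻¹) * a⁻¹ := by group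
        rcases hb with hb | hb
        · show _ ∨ _
          rw [e, hb]; exact ha
        · show _ ∨ _
          rw [e, hb, ← conj_inv]
          rcases ha with ha | ha
          · right; rw [ha]
          · left; rw [ha, inv_inv]
      inv_mem' := by
        intro a ha
        show _ ∨ _
        rcases ha with ha | ha
        · left
          conv_lhs => rw [← ha]
          group
        · right
          have h2 : a * x⁻¹ * a⁻¹ = x := by rw [← conj_inv, ha, inv_inv]
          conv_lhs => rw [← h2]
          group }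
  have hEmem : ∀ {x g : G}, g ∈ E x ↔ g * x * g⁻¹ = x ∨ g * x * g⁻¹ = x⁻¹ := Iff.rfl
  have hproper : ∀ x : G, x ≠ 1 → ∀ u : G, u * x * u⁻¹ = x⁻¹ → E x ≠ ⊤ := by
    intro x hx u hu htop
    by_cases hxx : x⁻¹ = x
    · have hc : x ∈ Subgroup.center G := Subgroup.mem_center_iff.2 fun g => by
        rcases hEmem.1 (htop ▸ Subgroup.mem_top g) with h | h
        · exact mul_inv_eq_iff_eq_mul.1 h
        · rw [hxx] at h; exact mul_inv_eq_iff_eq_mul.1 h
      have ho : orderOf x = 2 := orderOf_eq_two_of_mul_self (inv_eq_iff_mul_eq_one.1 hxx) hx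
      have hd : 2 ∣ Nat.card (Subgroup.center G) := ho ▸ Subgroup.orderOf_dvd_natCard _ hc
      exact Nat.not_even_iff_odd.2 hZ (even_iff_two_dvd.2 hd)
    · refine hidx (Subgroup.centralizer ({x} : Set G)) ?_
      rw [Subgroup.index_eq_two_iff]
      refine ⟨u, fun b => ?_⟩
      simp only [Subgroup.mem_centralizer_singleton_iff, ← mul_inv_eq_iff_eq_mul]
      have hbu : b * u * x * (b * u)⁻¹ = b * x⁻¹ * b⁻¹ := by rw [← hu]; group
      rw [hbu, ← conj_inv]
      rcases hEmem.1 (htop ▸ Subgroup.mem_top b) with h | h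
      · exact Or.inr ⟨h, by rw [h]; exact hxx⟩
      · exact Or.inl ⟨by rw [h, inv_inv], by rw [h]; exact hxx⟩
  let I : Finset G := Finset.univ.filter fun g => orderOf g = 2
  have hI : Nat.card {t : G // orderOf t = 2} = I.card := by
    rw [Nat.card_eq_fintype_card, Fintype.card_subtype]
  obtain ⟨⟨t, ht⟩⟩ : Nonempty {t : G // orderOf t = 2} := by
    obtain ⟨t, ht⟩ := exists_prime_orderOf_dvd_card' (G := G) 2 (even_iff_two_dvd.1 heven)
    exact ⟨⟨t, ht⟩⟩
  have htI : t ∈ I := Finset.mem_filter.2 ⟨Finset.mem_univ _, ht⟩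
  let R : Finset G := Finset.univ.filter fun x => x ≠ 1 ∧ ∃ u : G, u * x * u⁻¹ = x⁻¹
  have htR : t ∈ R := Finset.mem_filter.2 ⟨Finset.mem_univ _, ne_one_of_orderOf_two ht, 1, by
    rw [inv_eq_self_of_orderOf_two ht]; simp⟩
  obtain ⟨x₀, hx₀, hmax⟩ := R.exists_max_image (fun x => Nat.card (E x)) ⟨t, htR⟩
  obtain ⟨-, hx1, u₀, hu₀⟩ := Finset.mem_filter.1 hx₀
  refine ⟨E x₀, hproper x₀ hx1 u₀ hu₀, Or.inr ?_⟩
  rw [hI]
  set h := Nat.card (E x₀) with hh
  have hh1 : 1 ≤ h := Nat.card_pos
  let β : G → Finset G := fun x => I.filter fun u => u * x ∈ I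
  have hsum : ∑ x : G, (β x).card = I.card * I.card := by
    simp only [β, Finset.card_filter]
    rw [Finset.sum_comm, Finset.sum_const_nat fun u hu => ?_]
    rw [← Finset.card_filter]
    refine Finset.card_bij' (fun x _ => u * x) (fun v _ => u⁻¹ * v) ?_ ?_ ?_ ?_
    · exact fun x hx => (Finset.mem_filter.1 hx).2
    · exact fun v hv => Finset.mem_filter.2 ⟨Finset.mem_univ _, by rwa [mul_inv_cancel_left]⟩
    · exact fun x _ => inv_mul_cancel_left u x
    · exact fun v _ => mul_inv_cancel_left u v
  have hinv : ∀ u x : G, u ∈ I → u * x ∈ I → u * x * u⁻¹ = x⁻¹ := by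
    intro u x hu hux
    have hu2 := (Finset.mem_filter.1 hu).2
    have h2 := inv_eq_self_of_orderOf_two (Finset.mem_filter.1 hux).2
    rw [mul_inv_rev] at h2
    rw [← h2, inv_eq_self_of_orderOf_two hu2, mul_assoc, mul_self_of_orderOf_two hu2, mul_one]
  have hbound : ∀ x : G, x ≠ 1 →
      2 * (β x).card ≤ h + (if x ∈ I then h - 4 else 0) ∧
      (x ∈ I → 2 * (β x).card + 4 ≤ 2 * h) := by
    intro x hx
    rcases (β x).eq_empty_or_nonempty with hβ | ⟨u, hu⟩
    · rw [hβ, Finset.card_empty]
      refine ⟨Nat.zero_le _, fun hxI => ?_⟩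
      have hxR : x ∈ R := Finset.mem_filter.2 ⟨Finset.mem_univ _, hx, 1, by
        rw [inv_eq_self_of_orderOf_two (Finset.mem_filter.1 hxI).2]; simp⟩
      have h2 : 2 ≤ h := by
        refine le_trans ?_ (hmax x hxR)
        have hd := Subgroup.orderOf_dvd_natCard (E x)
          (hEmem.2 (Or.inl (mul_inv_cancel_right x x)))
        rw [(Finset.mem_filter.1 hxI).2] at hd
        exact Nat.le_of_dvd Nat.card_pos hd
      omega
    obtain ⟨huI, huxI⟩ := Finset.mem_filter.1 hu
    have hxR : x ∈ R := Finset.mem_filter.2 ⟨Finset.mem_univ _, hx, u, hinv u x huI huxI⟩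
    have hle := hmax x hxR
    have hEf : Nat.card (E x) = (Finset.univ.filter fun g => g ∈ E x).card := by
      rw [Nat.card_eq_fintype_card, Fintype.card_subtype]
    by_cases hxI : x ∈ I
    · have hx2 := (Finset.mem_filter.1 hxI).2
      have hsub : β x ∪ {1, x} ⊆ Finset.univ.filter fun g => g ∈ E x := by
        intro g hg
        simp only [Finset.mem_union, Finset.mem_insert, Finset.mem_singleton] at hg
        refine Finset.mem_filter.2 ⟨Finset.mem_univ _, hEmem.2 ?_⟩
        rcases hg with hg | rfl | rfl
        · exact Or.inr (hinv g x (Finset.mem_filter.1 hg).1 (Finset.mem_filter.1 hg).2)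
        · left; simp
        · left; exact mul_inv_cancel_right _ _
      have hdis : Disjoint (β x) {1, x} := by
        rw [Finset.disjoint_left]
        intro g hg hg'
        simp only [Finset.mem_insert, Finset.mem_singleton] at hg'
        obtain ⟨h1, h2⟩ := Finset.mem_filter.1 hg
        rcases hg' with rfl | rfl
        · exact absurd (Finset.mem_filter.1 h1).2 (by simp)
        · rw [mul_self_of_orderOf_two hx2] at h2
          exact absurd (Finset.mem_filter.1 h2).2 (by simp)
      have hc := Finset.card_le_card hsub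
      rw [Finset.card_union_of_disjoint hdis, Finset.card_pair hx.symm, ← hEf] at hc
      rw [if_pos hxI]
      omega
    · rw [if_neg hxI]
      refine ⟨?_, fun e => absurd e hxI⟩
      have hxx : x⁻¹ ≠ x := fun e =>
        hxI (Finset.mem_filter.2 ⟨Finset.mem_univ _,
          orderOf_eq_two_of_mul_self (inv_eq_iff_mul_eq_one.1 e) hx⟩)
      -- u * β x is disjoint from β x inside E x
      have hsub : β x ∪ (β x).image (u * ·) ⊆ Finset.univ.filter fun g => g ∈ E x := by
        intro g hg
        refine Finset.mem_filter.2 ⟨Finset.mem_univ _, ?_⟩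
        have hin : ∀ v ∈ β x, v ∈ E x := fun v hv =>
          hEmem.2 (Or.inr (hinv v x (Finset.mem_filter.1 hv).1 (Finset.mem_filter.1 hv).2))
        rcases Finset.mem_union.1 hg with hg | hg
        · exact hin g hg
        · obtain ⟨v, hv, rfl⟩ := Finset.mem_image.1 hg
          exact mul_mem (hin u hu) (hin v hv)
      have hdis : Disjoint (β x) ((β x).image (u * ·)) := by
        rw [Finset.disjoint_left]
        intro g hg hg'
        obtain ⟨v, hv, rfl⟩ := Finset.mem_image.1 hg'
        have h1 := hinv v x (Finset.mem_filter.1 hv).1 (Finset.mem_filter.1 hv).2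
        have h2 := hinv u x huI huxI
        have h3 := hinv (u * v) x (Finset.mem_filter.1 hg).1 (Finset.mem_filter.1 hg).2
        apply hxx
        rw [← h3]
        calc u * v * x * (u * v)⁻¹ = u * (v * x * v⁻¹) * u⁻¹ := by group
          _ = u * x⁻¹ * u⁻¹ := by rw [h1]
          _ = (u * x * u⁻¹)⁻¹ := by group
          _ = x := by rw [h2, inv_inv]
      have hc := Finset.card_le_card hsub
      rw [Finset.card_union_of_disjoint hdis, Finset.card_image_of_injective _
        (mul_right_injective u), ← hEf] at hc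
      omega
  -- add up
  have htot : 2 * (I.card * I.card) + 2 * I.card + h ≤ h * (Fintype.card G + I.card) := by
    have hstep : ∀ x : G, 2 * (β x).card + (if x ∈ I then 4 else 0) + (if x = 1 then h else 0) ≤
        h + (if x ∈ I then h else 0) + (if x = 1 then 2 * I.card else 0) := by
      intro x
      by_cases hx : x = 1
      · subst hx
        have hle : (β 1).card ≤ I.card := Finset.card_le_card (Finset.filter_subset _ _)
        have h1I : (1 : G) ∉ I := fun e => absurd (Finset.mem_filter.1 e).2 (by simp)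
        simp only [if_neg h1I, if_true]
        omega
      · obtain ⟨b1, b2⟩ := hbound x hx
        simp only [if_neg hx]
        by_cases hxI : x ∈ I
        · have := b2 hxI
          simp only [if_pos hxI] at b1 ⊢
          omega
        · simp only [if_neg hxI] at b1 ⊢
          omega
    have hle := Finset.sum_le_sum (s := Finset.univ) fun x _ => hstep x
    simp only [Finset.sum_add_distrib, Finset.sum_ite_eq', Finset.mem_univ, if_true,
      ← Finset.mul_sum, hsum, Finset.sum_ite_mem, Finset.univ_inter, Finset.sum_const,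
      smul_eq_mul, Finset.card_univ] at hle
    nlinarith
  have hmul : (E x₀).index * h = Nat.card G := by rw [mul_comm]; exact (E x₀).card_mul_index
  have hpos : 0 < (E x₀).index := Nat.pos_of_ne_zero Subgroup.index_ne_zero_of_finite
  rw [← Nat.card_eq_fintype_card] at htot
  have hlt : 2 * (I.card * I.card) < h * (Nat.card G + I.card) := by omega
  calc 2 * (E x₀).index * I.card ^ 2 = (E x₀).index * (2 * (I.card * I.card)) := by ring
    _ < (E x₀).index * (h * (Nat.card G + I.card)) := Nat.mul_lt_mul_of_pos_left hlt hpos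
    _ = Nat.card G * (Nat.card G + I.card) := by rw [← mul_assoc, hmul]

end Cfsg.Agent.S0233
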