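import Cfsg.Statements.S0212
import Cfsg.Agent.Lib.Inv.Conj
import Cfsg.Agent.S0233
import Mathlib
-- import your own Cfsg.Agent.* helpers here

set_option autoImplicit false
open Cfsg

namespace Cfsg.Agent.S0212

/-- The Brauer–Fowler bound: if G is a finite simple group and t an involution of G whose centralizer has order n, then |G| ≤ (2n^2)!. -/
theorem result {G : Type*} [Group G] [Finite G] [IsSimpleGroup G] (t : G) (ht : orderOf t = 2) : Nat.card G ≤ Nat.factorial (2 * (Nat.card (Subgroup.centralizer ({t} : Set G))) ^ 2) := by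
  open Cfsg.Agent.Inv in
  classical
  set c := Nat.card (Subgroup.centralizer ({t} : Set G)) with hc
  have hcpos : 0 < c := Nat.card_pos
  by_cases hG : ∀ x : G, orderOf x = 2 → x = t
  · -- then t is central, and |G| = c
    have htop : Subgroup.centralizer ({t} : Set G) = ⊤ := eq_top_iff.2 fun g _ =>
      Subgroup.mem_centralizer_singleton_iff.2
        (mul_inv_eq_iff_eq_mul.1 (hG _ ((orderOf_conj g t).trans ht)))
    rw [htop, Subgroup.card_top] at hc
    rw [← hc]
    exact le_trans (by nlinarith) (Nat.self_le_factorial _)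
  push Not at hG
  obtain ⟨x, hx, hxt⟩ := hG
  have hZ : Subgroup.center G = ⊥ :=
    (inferInstance : (Subgroup.center G).Normal).eq_bot_or_eq_top.resolve_right fun h =>
      notMem_center_of_simple hx ht hxt (h ▸ Subgroup.mem_top t)
  have heven : Even (Nat.card G) := even_iff_two_dvd.2 (ht ▸ orderOf_dvd_natCard t)
  obtain ⟨H, hH, hidx⟩ := S0233.result heven (by rw [hZ, Subgroup.card_bot]; exact odd_one)
  set I := Nat.card {v : G // orderOf v = 2} with hI
  have hGI : Nat.card G ≤ c * I := by
    rw [card_eq_centralizer_mul_card_isConj t, hc]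
    refine Nat.mul_le_mul_left _ (Nat.card_le_card_of_injective
      (fun v => ⟨v.1, by obtain ⟨g, hg⟩ := isConj_iff.1 v.2; rw [← hg, orderOf_conj, ht]⟩) ?_)
    intro a b e
    exact Subtype.ext (congrArg Subtype.val e :)
  have hle : H.index ≤ 2 * c ^ 2 := by
    rcases hidx with h | h
    · rw [h]; nlinarith
    · by_contra hgt
      push Not at hgt
      have h1 : Nat.card G * (Nat.card G + I) ≤ c * I * (c * I + I) :=
        Nat.mul_le_mul hGI (Nat.add_le_add_right hGI I)
      have h2 : 2 * (2 * c ^ 2) * I ^ 2 ≤ 2 * H.index * I ^ 2 :=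
        Nat.mul_le_mul_right _ (Nat.mul_le_mul_left _ hgt.le)
      have h3 : c * (I * I) ≤ c * c * (I * I) := Nat.mul_le_mul_right _ (Nat.le_mul_self c)
      nlinarith
  have hcore : H.normalCore = ⊥ :=
    (Subgroup.normalCore_normal H).eq_bot_or_eq_top.resolve_right fun h =>
      hH (top_le_iff.1 (h ▸ Subgroup.normalCore_le H))
  rw [Subgroup.normalCore_eq_ker, MonoidHom.ker_eq_bot_iff] at hcore
  calc Nat.card G ≤ Nat.card (Equiv.Perm (G ⧸ H)) := Nat.card_le_card_of_injective _ hcore
    _ = H.index.factorial := by rw [Nat.card_perm]; rfl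
    _ ≤ _ := Nat.factorial_le hle

end Cfsg.Agent.S0212
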