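import Cfsg.Statements.S0213
import Cfsg.Agent.Lib.Inv.Conj
import Mathlib
-- import your own Cfsg.Agent.* helpers here

set_option autoImplicit false
open Cfsg

namespace Cfsg.Agent.S0213

/-- Thompson Order Formula, two-class case: if every involution of the finite group G is conjugate to exactly one of the non-conjugate involutions x₁, x₂, and nᵢ is the number of pairs (u, v) with u conjugate to x₁, v conjugate to x₂ and xᵢ in the cyclic group generated by uv, then |G| = |C(x₂)| n₁ + |C(x₁)| n₂. -/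
theorem result {G : Type*} [Group G] [Finite G] (x₁ x₂ : G) (h₁ : orderOf x₁ = 2) (h₂ : orderOf x₂ = 2) (hnc : ¬ IsConj x₁ x₂) (hall : ∀ t : G, orderOf t = 2 → IsConj x₁ t ∨ IsConj x₂ t) : Nat.card G = Nat.card (Subgroup.centralizer ({x₂} : Set G)) * Nat.card {p : G × G // IsConj x₁ p.1 ∧ IsConj x₂ p.2 ∧ x₁ ∈ Subgroup.zpowers (p.1 * p.2)} + Nat.card (Subgroup.centralizer ({x₁} : Set G)) * Nat.card {p : G × G // IsConj x₁ p.1 ∧ IsConj x₂ p.2 ∧ x₂ ∈ Subgroup.zpowers (p.1 * p.2)} := by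
  open Cfsg.Agent.Inv in
  classical
  let Z : G → Type _ := fun z =>
    {p : G × G // IsConj x₁ p.1 ∧ IsConj x₂ p.2 ∧ z ∈ Subgroup.zpowers (p.1 * p.2)}
  let P := {p : G × G // IsConj x₁ p.1 ∧ IsConj x₂ p.2}
  let C₁ := {v : G // IsConj x₁ v}
  let C₂ := {v : G // IsConj x₂ v}
  -- the central involution of a pair
  have hc : ∀ p : P, ∃ z : G, orderOf z = 2 ∧ z ∈ Subgroup.zpowers (p.1.1 * p.1.2) ∧
      ∀ y : G, orderOf y = 2 → y ∈ Subgroup.zpowers (p.1.1 * p.1.2) → y = z := by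
    rintro ⟨⟨u, v⟩, hu, hv⟩
    dsimp only at hu hv ⊢
    obtain ⟨a, rfl⟩ := isConj_iff.1 hu
    obtain ⟨b, rfl⟩ := isConj_iff.1 hv
    set d := a * x₁ * a⁻¹ * (b * x₂ * b⁻¹) with hd
    have heven : Even (orderOf d) := by
      by_contra hodd
      obtain ⟨c, -, hc⟩ := S0208.result _ _ ((orderOf_conj a x₁).trans h₁)
        ((orderOf_conj b x₂).trans h₂) (Nat.not_even_iff_odd.1 hodd)
      exact hnc ((isConj_iff.2 ⟨a, rfl⟩).trans
        ((isConj_iff.2 ⟨c, hc⟩).trans (isConj_iff.2 ⟨b, rfl⟩).symm))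
    refine ⟨d ^ (orderOf d / 2), orderOf_pow_half d heven, pow_mem (Subgroup.mem_zpowers d) _,
      fun y hy hmem => ?_⟩
    obtain ⟨k, rfl⟩ := (mem_powers_iff_mem_zpowers).2 hmem
    obtain ⟨m, hm⟩ := heven
    have hdvd : orderOf d ∣ 2 * k :=
      orderOf_dvd_of_pow_eq_one (by
        rw [mul_comm, pow_mul, ← hy]
        exact pow_orderOf_eq_one _)
    obtain ⟨j, hj⟩ : m ∣ k := by
      rw [hm, ← two_mul] at hdvd
      exact Nat.dvd_of_mul_dvd_mul_left (by norm_num) hdvd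
    have hj2 : ¬ Even j := by
      rintro ⟨i, rfl⟩
      have : d ^ k = 1 := by
        rw [hj, show m * (i + i) = orderOf d * i by rw [hm]; ring, pow_mul, pow_orderOf_eq_one,
          one_pow]
      exact ne_one_of_orderOf_two hy this
    obtain ⟨i, rfl⟩ := Nat.not_even_iff_odd.1 hj2
    show d ^ k = _
    rw [hj, show orderOf d / 2 = m by omega, show m * (2 * i + 1) = orderOf d * i + m by rw [hm]; ring,
      pow_add, pow_mul, pow_orderOf_eq_one, one_pow, one_mul]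
  choose ζ hζ1 hζ2 hζ3 using hc
  have hsplit : Nat.card P = Nat.card (Σ z : C₁, Z z.1) + Nat.card (Σ z : C₂, Z z.1) := by
    rw [← Nat.card_sum]
    refine Nat.card_congr (Equiv.ofBijective (Sum.elim
      (fun q : Σ z : C₁, Z z.1 => (⟨q.2.1, q.2.2.1, q.2.2.2.1⟩ : P))
      (fun q : Σ z : C₂, Z z.1 => (⟨q.2.1, q.2.2.1, q.2.2.2.1⟩ : P))) ⟨?_, ?_⟩).symm
    · have hord : ∀ {x z : G}, orderOf x = 2 → IsConj x z → orderOf z = 2 := by
        intro x z hx hz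
        obtain ⟨a, rfl⟩ := isConj_iff.1 hz
        exact (orderOf_conj a x).trans hx
      have hex : ∀ z : C₁, ∀ z' : C₂, ∀ q : Z z.1, ∀ q' : Z z'.1, q.1 ≠ q'.1 := by
        rintro ⟨z, hz⟩ ⟨z', hz'⟩ ⟨p, hp1, hp2, hp3⟩ ⟨p', hp1', hp2', hp3'⟩ e
        obtain rfl : p = p' := e
        have e1 := hζ3 ⟨p, hp1, hp2⟩ z (hord h₁ hz) hp3
        have e2 := hζ3 ⟨p, hp1, hp2⟩ z' (hord h₂ hz') hp3'
        have e3 : z = z' := e1.trans e2.symm
        exact hnc (hz.trans ((e3 ▸ hz' : IsConj x₂ z)).symm)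
      rintro (⟨⟨z, hz⟩, ⟨p, hp1, hp2, hp3⟩⟩ | ⟨⟨z, hz⟩, ⟨p, hp1, hp2, hp3⟩⟩)
        (⟨⟨z', hz'⟩, ⟨p', hp1', hp2', hp3'⟩⟩ | ⟨⟨z', hz'⟩, ⟨p', hp1', hp2', hp3'⟩⟩) e
      all_goals
        simp only [Sum.elim_inl, Sum.elim_inr, Subtype.mk.injEq] at e
        subst e
      · obtain rfl : z = z' := (hζ3 ⟨p, hp1, hp2⟩ z (hord h₁ hz) hp3).trans
          (hζ3 ⟨p, hp1, hp2⟩ z' (hord h₁ hz') hp3').symm
        rfl
      · exact absurd rfl (hex ⟨z, hz⟩ ⟨z', hz'⟩ ⟨p, hp1, hp2, hp3⟩ ⟨p, hp1', hp2', hp3'⟩)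
      · exact absurd rfl (hex ⟨z', hz'⟩ ⟨z, hz⟩ ⟨p, hp1', hp2', hp3'⟩ ⟨p, hp1, hp2, hp3⟩)
      · obtain rfl : z = z' := (hζ3 ⟨p, hp1, hp2⟩ z (hord h₂ hz) hp3).trans
          (hζ3 ⟨p, hp1, hp2⟩ z' (hord h₂ hz') hp3').symm
        rfl
    · intro p
      rcases hall _ (hζ1 p) with h | h
      · exact ⟨Sum.inl ⟨⟨ζ p, h⟩, ⟨p.1, p.2.1, p.2.2, hζ2 p⟩⟩, rfl⟩
      · exact ⟨Sum.inr ⟨⟨ζ p, h⟩, ⟨p.1, p.2.1, p.2.2, hζ2 p⟩⟩, rfl⟩
  have hconst : ∀ x z : G, IsConj x z → Nat.card (Z z) = Nat.card (Z x) := by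
    intro x z hxz
    obtain ⟨g, rfl⟩ := isConj_iff.1 hxz
    let f := MulAut.conj g
    have hf : ∀ a b : G, IsConj a (f b) ↔ IsConj a b := fun a b =>
      ⟨fun h => h.trans (isConj_iff.2 ⟨g⁻¹, by simp [f, mul_assoc]⟩),
        fun h => h.trans (isConj_iff.2 ⟨g, rfl⟩)⟩
    refine (Nat.card_congr (Equiv.subtypeEquiv (f.toEquiv.prodCongr f.toEquiv) fun p => ?_)).symm
    show _ ↔ IsConj x₁ (f p.1) ∧ IsConj x₂ (f p.2) ∧ f x ∈ Subgroup.zpowers (f p.1 * f p.2)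
    rw [hf, hf, ← map_mul, Subgroup.mem_zpowers_iff, Subgroup.mem_zpowers_iff]
    refine and_congr_right fun _ => and_congr_right fun _ => exists_congr fun k => ?_
    rw [← map_zpow]
    exact f.injective.eq_iff.symm
  have hsig : ∀ x : G, Nat.card (Σ z : {v : G // IsConj x v}, Z z.1) =
      Nat.card {v : G // IsConj x v} * Nat.card (Z x) := by
    intro x
    haveI : Fintype {v : G // IsConj x v} := Fintype.ofFinite _
    rw [Nat.card_sigma, Finset.sum_congr rfl fun z _ => hconst x z.1 z.2, Finset.sum_const,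
      Finset.card_univ, smul_eq_mul, Nat.card_eq_fintype_card (α := {v : G // IsConj x v})]
  have hP : Nat.card P = Nat.card C₁ * Nat.card C₂ := by
    rw [← Nat.card_prod]
    exact Nat.card_congr
      { toFun := fun p => (⟨p.1.1, p.2.1⟩, ⟨p.1.2, p.2.2⟩)
        invFun := fun q => ⟨(q.1.1, q.2.1), q.1.2, q.2.2⟩ }
  have e1 := card_eq_centralizer_mul_card_isConj x₁
  have e2 := card_eq_centralizer_mul_card_isConj x₂
  rw [hsig x₁, hsig x₂, hP] at hsplit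
  set c₁ := Nat.card (Subgroup.centralizer ({x₁} : Set G))
  set c₂ := Nat.card (Subgroup.centralizer ({x₂} : Set G))
  refine Nat.eq_of_mul_eq_mul_left (Nat.card_pos (α := G)) ?_
  show Nat.card G * Nat.card G = Nat.card G * (c₂ * Nat.card (Z x₁) + c₁ * Nat.card (Z x₂))
  calc Nat.card G * Nat.card G = c₁ * c₂ * (Nat.card C₁ * Nat.card C₂) := by
        conv_lhs => arg 1; rw [e1]
        conv_lhs => arg 2; rw [e2]
        ring
    _ = c₁ * c₂ * (Nat.card C₁ * Nat.card (Z x₁) + Nat.card C₂ * Nat.card (Z x₂)) := by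
        rw [hsplit]
    _ = (c₁ * Nat.card C₁) * (c₂ * Nat.card (Z x₁)) + (c₂ * Nat.card C₂) * (c₁ * Nat.card (Z x₂)) := by
        ring
    _ = _ := by rw [← e1, ← e2]; ring

end Cfsg.Agent.S0213
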