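import Cfsg.Statements.S0214
import Cfsg.Agent.Lib.Inv.StronglyEmbedded
import Mathlib
-- import your own Cfsg.Agent.* helpers here

set_option autoImplicit false
open Cfsg

namespace Cfsg.Agent.S0214

/-- Let H be a proper subgroup of the finite group G and P a nontrivial Sylow 2-subgroup of H. Then H is strongly embedded in G if and only if N_G(X) ≤ H for every nontrivial subgroup X of P. -/
theorem result {G : Type*} [Group G] [Finite G] (H : Subgroup G) (hH : H ≠ ⊤) (P : Sylow 2 ↥H) (hP : (P : Subgroup ↥H) ≠ ⊥) : Cfsg.IsStronglyEmbedded H ↔ (∀ X : Subgroup ↥H, X ≤ (P : Subgroup ↥H) → X ≠ ⊥ → Subgroup.normalizer ((X.map H.subtype : Subgroup G) : Set G) ≤ H) := by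
  open Cfsg.Agent.Inv in
  classical
  haveI : Fact (Nat.Prime 2) := ⟨Nat.prime_two⟩
  constructor
  · intro h X hXP hX g hg
    haveI : Nontrivial X := (Subgroup.nontrivial_iff_ne_bot X).2 hX
    obtain ⟨n, hn, hcard⟩ := (P.isPGroup'.to_le hXP).nontrivial_iff_card.1 ‹_›
    obtain ⟨⟨⟨t, htH⟩, htX⟩, ht⟩ := exists_prime_orderOf_dvd_card' (G := ↥X) 2
      (by rw [hcard]; exact dvd_pow_self 2 hn.ne')
    rw [Subgroup.orderOf_mk, Subgroup.orderOf_mk] at ht
    refine stronglyEmbedded_mem h ht htH ?_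
    have h1 := (Subgroup.mem_normalizer_iff.1 (inv_mem hg) t).1 ⟨⟨t, htH⟩, htX, rfl⟩
    rw [inv_inv] at h1
    obtain ⟨⟨s, hs⟩, -, e⟩ := h1
    exact e ▸ hs
  · intro h
    -- every nontrivial 2-subgroup of a conjugate of H has its normalizer in that conjugate
    have hall : ∀ (a : G) (D : Subgroup G), IsPGroup 2 D → D ≠ ⊥ →
        D ≤ H.map (MulAut.conj a).toMonoidHom →
        Subgroup.normalizer (D : Set G) ≤ H.map (MulAut.conj a).toMonoidHom := by
      intro a D hD hD1 hDle
      let ι : ↥H →* G := (MulAut.conj a).toMonoidHom.comp H.subtype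
      have hι : Function.Injective ι := (MulAut.conj a).injective.comp H.subtype_injective
      have hιr : ι.range = H.map (MulAut.conj a).toMonoidHom := by
        simp only [ι, MonoidHom.range_comp, Subgroup.range_subtype]
      obtain ⟨Q, hQ⟩ := (hD.comap_of_injective ι hι).exists_le_sylow
      obtain ⟨k, hk⟩ := MulAction.exists_smul_eq ↥H Q P
      let X : Subgroup ↥H := (D.comap ι).map (MulAut.conj k).toMonoidHom
      have hXP : X ≤ P := by
        rintro _ ⟨x, hx, rfl⟩
        exact hk ▸ ⟨x, hQ hx, rfl⟩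
      have hback : (X.map H.subtype).map (MulAut.conj (a * (k : G)⁻¹)).toMonoidHom = D := by
        rw [Subgroup.map_map, Subgroup.map_map]
        have e : ((MulAut.conj (a * (k : G)⁻¹)).toMonoidHom.comp H.subtype).comp
            (MulAut.conj k).toMonoidHom = ι := by
          ext x
          simp [ι, mul_assoc]
        rw [MonoidHom.comp_assoc] at e ⊢
        rw [e, Subgroup.map_comap_eq, hιr, inf_eq_right.2 hDle]
      have hX1 : X ≠ ⊥ := by
        intro e
        rw [e, Subgroup.map_bot, Subgroup.map_bot] at hback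
        exact hD1 hback.symm
      intro g hg
      have hn := h X hXP hX1
      set c := a * (k : G)⁻¹ with hc
      have hmem : c⁻¹ * g * c ∈ Subgroup.normalizer ((X.map H.subtype : Subgroup G) : Set G) := by
        refine Subgroup.mem_normalizer_iff.2 fun x => ?_
        have hcx : ∀ y : G, y ∈ X.map H.subtype ↔ c * y * c⁻¹ ∈ D := by
          intro y
          rw [← hback]
          exact (Subgroup.mem_map_iff_mem (f := (MulAut.conj c).toMonoidHom)
            (MulAut.conj c).injective).symm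
        rw [hcx, hcx, Subgroup.mem_normalizer_iff.1 hg]
        refine iff_of_eq (congrArg (· ∈ D) ?_)
        group
      refine ⟨(k : G)⁻¹ * (c⁻¹ * g * c) * k, ?_, ?_⟩
      · exact mul_mem (mul_mem (inv_mem k.2) (hn hmem)) k.2
      · simp [hc, mul_assoc]
    have h1 : H.map (MulAut.conj (1 : G)).toMonoidHom = H := by ext x; simp [Subgroup.mem_map]
    have heven : Even (Nat.card H) := by
      haveI : Nontrivial P := (Subgroup.nontrivial_iff_ne_bot _).2 hP
      obtain ⟨n, hn, hcard⟩ := P.isPGroup'.nontrivial_iff_card.1 ‹_›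
      refine even_iff_two_dvd.2 ((hcard ▸ dvd_pow_self 2 hn.ne').trans ?_)
      exact Subgroup.card_subgroup_dvd_card _
    refine isStronglyEmbedded_of hH heven fun g t ht htH htg => ?_
    -- a maximal 2-subgroup of H ⊓ gHg⁻¹
    set K := H ⊓ H.map (MulAut.conj g).toMonoidHom with hK
    have htK : t ∈ K := ⟨htH, g⁻¹ * t * g, htg, by simp [mul_assoc]⟩
    obtain ⟨R, hR⟩ := (IsPGroup.of_card (p := 2) (n := 1)
      (G := Subgroup.zpowers (⟨t, htK⟩ : K))
      (by rw [Nat.card_zpowers, Subgroup.orderOf_mk, ht, pow_one])).exists_le_sylow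
    set D := (R : Subgroup K).map K.subtype with hD
    have hDp : IsPGroup 2 D := R.isPGroup'.map _
    have htD : t ∈ D := ⟨_, hR (Subgroup.mem_zpowers _), rfl⟩
    have hD1 : D ≠ ⊥ := fun e => ne_one_of_orderOf_two ht (Subgroup.mem_bot.1 (e ▸ htD))
    have hDK : D ≤ K := Subgroup.map_subtype_le _
    have hN : Subgroup.normalizer (D : Set G) ≤ K :=
      le_inf (h1 ▸ hall 1 D hDp hD1 (h1.symm ▸ hDK.trans inf_le_left))
        (hall g D hDp hD1 (hDK.trans inf_le_right))
    -- so D is a Sylow 2-subgroup of G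
    obtain ⟨S, hS⟩ := hDp.exists_le_sylow
    have hDS : D = S := by
      by_contra hne
      haveI := S.isPGroup'.isNilpotent
      have hlt' : D.subgroupOf (S : Subgroup G) < ⊤ := by
        rw [lt_top_iff_ne_top, Ne, Subgroup.subgroupOf_eq_top]
        exact fun e => hne (le_antisymm hS e)
      obtain ⟨s, hs, hsn⟩ := SetLike.exists_of_lt (Group.normalizerCondition_of_isNilpotent _ hlt')
      have hsN : (s : G) ∈ Subgroup.normalizer (D : Set G) := by
        refine Subgroup.mem_normalizer_iff.2 fun x => ⟨fun hx => ?_, fun hx => ?_⟩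
        · exact (Subgroup.mem_normalizer_iff.1 hs ⟨x, hS hx⟩).1 hx
        · have hxS : x ∈ (S : Subgroup G) := by
            have := mul_mem (mul_mem (inv_mem s.2) (hS hx)) s.2
            simpa [mul_assoc] using this
          exact (Subgroup.mem_normalizer_iff.1 hs ⟨x, hxS⟩).2 hx
      -- a bigger 2-subgroup of K
      have hbig : D ⊔ Subgroup.zpowers (s : G) ≤ K :=
        sup_le hDK (Subgroup.zpowers_le.2 (hN hsN))
      have hbigp : IsPGroup 2 ↥(D ⊔ Subgroup.zpowers (s : G)) :=
        S.isPGroup'.to_le (sup_le hS (Subgroup.zpowers_le.2 s.2))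
      have hmax := R.is_maximal' (hbigp.comap_of_injective K.subtype K.subtype_injective)
        (fun x hx => Subgroup.mem_comap.2 (Subgroup.mem_sup_left ⟨x, hx, rfl⟩))
      apply hsn
      show (s : G) ∈ D
      refine ⟨⟨s, hN hsN⟩, ?_, rfl⟩
      rw [← hmax]
      exact Subgroup.mem_comap.2 (Subgroup.mem_sup_right (Subgroup.mem_zpowers _))
    -- g normalises a conjugate by an element of H of this Sylow subgroup
    have hDH : D ≤ H := hDK.trans inf_le_left
    let S₁ : Sylow 2 ↥H := S.subtype (hDS ▸ hDH)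
    let S₂ : Sylow 2 ↥H := (g⁻¹ • S).subtype (by
      rintro _ ⟨x, hx, rfl⟩
      obtain ⟨y, hy, hxy⟩ := (hDK (hDS ▸ hx : x ∈ D)).2
      show g⁻¹ * x * g⁻¹⁻¹ ∈ H
      rw [← hxy]
      simpa [mul_assoc] using hy)
    obtain ⟨k, hk⟩ := MulAction.exists_smul_eq ↥H S₁ S₂
    have hgk : g * k ∈ Subgroup.normalizer (D : Set G) := by
      have hmem : ∀ y ∈ D, g * (k * y * (k : G)⁻¹) * g⁻¹ ∈ D := by
        intro y hy
        have hy1 : (⟨y, hDH hy⟩ : ↥H) ∈ (S₁ : Subgroup ↥H) := by
          show y ∈ (S : Subgroup G)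
          exact hDS ▸ hy
        have h2 : (k * ⟨y, hDH hy⟩ * k⁻¹ : ↥H) ∈ (S₂ : Subgroup ↥H) := hk ▸ ⟨_, hy1, rfl⟩
        obtain ⟨z, hz, e⟩ := (h2 : ((k * ⟨y, hDH hy⟩ * k⁻¹ : ↥H) : G) ∈
          ((g⁻¹ • S : Sylow 2 G) : Subgroup G))
        rw [hDS]
        have e' : g⁻¹ * z * g⁻¹⁻¹ = k * y * (k : G)⁻¹ := e
        have e'' : g * (k * y * (k : G)⁻¹) * g⁻¹ = z := by rw [← e']; group
        rw [e'']
        exact hz
      refine Subgroup.mem_normalizer_fintype fun y hy => ?_
      have := hmem y hy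
      have e : g * k * y * (g * k)⁻¹ = g * (k * y * (k : G)⁻¹) * g⁻¹ := by group
      rw [SetLike.mem_coe, e]
      exact this
    have := mul_mem (Subgroup.mem_inf.1 (hN hgk)).1 (inv_mem k.2)
    simpa [mul_assoc] using this

end Cfsg.Agent.S0214
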