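import Cfsg.Statements.S0216
import Cfsg.Agent.Lib.Inv.Isolated
import Mathlib
-- import your own Cfsg.Agent.* helpers here

set_option autoImplicit false
open Cfsg

namespace Cfsg.Agent.S0216

/-- For an involution u in a Sylow 2-subgroup P of a finite group G, the following are equivalent: no G-conjugate of u other than u lies in P; every commutator of u with an element of G has odd order. -/
theorem result {G : Type*} [Group G] [Finite G] (P : Sylow 2 G) (u : G) (hu : orderOf u = 2) (huP : u ∈ P) : (∀ g : G, g * u * g⁻¹ ∈ P → g * u * g⁻¹ = u) ↔ (∀ g : G, Odd (orderOf (u * g * u⁻¹ * g⁻¹))) := by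
  open Cfsg.Agent.Inv in
  rw [← isolated_iff_sylow hu P huP]
  constructor
  · intro h g
    have h1 := isolated_odd_aux h g
    rwa [inv_eq_self_of_orderOf_two hu, show u * g * u * g⁻¹ = u * (g * u * g⁻¹) by group]
  · intro h
    refine isolated_of_odd hu fun g => ?_
    have h1 := h g
    rwa [inv_eq_self_of_orderOf_two hu, show u * g * u * g⁻¹ = u * (g * u * g⁻¹) by group] at h1

end Cfsg.Agent.S0216
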