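import Cfsg.Statements.S0218
import Mathlib

set_option autoImplicit false
open Cfsg

namespace Cfsg.Agent.S0218

/-- The generalized quaternion group of order 2^(n+3) contains exactly one element of order 2. -/
theorem result (n : ℕ) : Nat.card {x : QuaternionGroup (2 ^ (n + 1)) // orderOf x = 2} = 1 := by
  set N := 2 ^ (n + 1) with hN
  haveI : NeZero N := ⟨by positivity⟩
  have hNpos : 0 < N := by positivity
  have hval : ((N : ZMod (2 * N))).val = N := ZMod.val_natCast_of_lt (by omega)
  rw [Nat.card_eq_one_iff_unique]
  have hord : ∀ z : QuaternionGroup N, orderOf z = 2 ↔ z = QuaternionGroup.a (N : ZMod (2 * N)) := by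
    intro z
    constructor
    · intro hz
      rcases z with i | i
      · rw [QuaternionGroup.orderOf_a] at hz
        have hd := Nat.gcd_dvd_left (2 * N) i.val
        have hg : Nat.gcd (2 * N) i.val = N := by
          have := Nat.div_mul_cancel hd
          rw [hz] at this
          omega
        have hi := Nat.gcd_dvd_right (2 * N) i.val
        rw [hg] at hi
        obtain ⟨c, hc⟩ := hi
        have := ZMod.val_lt i
        have hc2 : c < 2 := by nlinarith
        interval_cases c
        · rw [mul_zero] at hc
          rw [hc, Nat.gcd_zero_right] at hg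
          omega
        · rw [mul_one] at hc
          rw [← ZMod.natCast_zmod_val i, hc]
      · rw [QuaternionGroup.orderOf_xa] at hz
        omega
    · rintro rfl
      rw [QuaternionGroup.orderOf_a, hval, Nat.gcd_eq_right (dvd_mul_left N 2),
        Nat.mul_div_cancel _ hNpos]
  exact ⟨⟨fun a b => Subtype.ext (((hord _).1 a.2).trans ((hord _).1 b.2).symm)⟩,
    ⟨⟨QuaternionGroup.a (N : ZMod (2 * N)), (hord _).2 rfl⟩⟩⟩

end Cfsg.Agent.S0218
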