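import Cfsg.Statements.S0220
import Cfsg.Agent.Lib.Inv.CyclicSylow

set_option autoImplicit false
open Cfsg

namespace Cfsg.Agent.S0220

/-- If x is an involution of a finite group G and a Sylow 2-subgroup of the centralizer of x is cyclic, then G has a subgroup of index 2; in particular G is not simple unless it has order 2. -/
theorem result {G : Type*} [Group G] [Finite G] (x : G) (hx : orderOf x = 2) (S : Sylow 2 ↥(Subgroup.centralizer ({x} : Set G))) (hS : IsCyclic (S : Subgroup ↥(Subgroup.centralizer ({x} : Set G)))) : ∃ H : Subgroup G, H.index = 2 := by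
  haveI : Fact (Nat.Prime 2) := ⟨Nat.prime_two⟩
  have h2 : IsPGroup 2 (Subgroup.zpowers x) := IsPGroup.of_card (n := 1) (by rw [Nat.card_zpowers, hx]; rfl)
  obtain ⟨T, hT⟩ := h2.exists_le_sylow
  have hxT : x ∈ (T : Subgroup G) := hT (Subgroup.mem_zpowers x)
  let D : Subgroup ↥(Subgroup.centralizer ({x} : Set G)) :=
    (T : Subgroup G).subgroupOf (Subgroup.centralizer ({x} : Set G))
  have hD : IsPGroup 2 D := T.isPGroup'.comap_of_injective _ (Subgroup.subtype_injective _)
  obtain ⟨S', hS'⟩ := hD.exists_le_sylow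
  obtain ⟨g, hg⟩ := MulAction.exists_smul_eq ↥(Subgroup.centralizer ({x} : Set G)) S S'
  have hS'c : IsCyclic (S' : Subgroup ↥(Subgroup.centralizer ({x} : Set G))) := by
    have e : (S : Subgroup ↥(Subgroup.centralizer ({x} : Set G))) ≃*
        (S' : Subgroup ↥(Subgroup.centralizer ({x} : Set G))) := hg ▸ S.equivSMul g
    exact e.isCyclic.1 hS
  have hDc : IsCyclic D := Subgroup.isCyclic_of_le hS'
  have hx' : orderOf (⟨x, hxT⟩ : (T : Subgroup G)) = 2 := by rw [← Subgroup.orderOf_coe]; exact hx
  let f : Subgroup.centralizer ({(⟨x, hxT⟩ : (T : Subgroup G))} : Set (T : Subgroup G)) →* D :=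
    { toFun := fun t => ⟨⟨(t.1 : G), Subgroup.mem_centralizer_singleton_iff.2
        (congrArg Subtype.val (Subgroup.mem_centralizer_singleton_iff.1 t.2))⟩, t.1.2⟩
      map_one' := rfl
      map_mul' := fun _ _ => rfl }
  have hfi : Function.Injective f := fun a b h => by
    apply Subtype.ext; apply Subtype.ext
    exact congrArg (fun z : D => ((z : ↥(Subgroup.centralizer ({x} : Set G))) : G)) h
  have hc := isCyclic_of_injective f hfi
  refine Cfsg.Agent.Inv.exists_index_two_of_cyclic_sylow ?_ T
    (Cfsg.Agent.Inv.isCyclic_of_centralizer_cyclic T.isPGroup' _ hx' hc)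
  exact even_iff_two_dvd.2 (hx ▸ orderOf_dvd_natCard x)

end Cfsg.Agent.S0220
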