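import Cfsg.Statements.S0221
import Cfsg.Agent.Lib.Solv.NormalRankTwoAny
import Cfsg.Agent.S0111

set_option autoImplicit false
open Cfsg

namespace Cfsg.Agent.S0221

/-- Let G be a finite group with no subgroup of index 2 whose 2-rank is at least 3 (it contains an elementary abelian subgroup of order 8). Then the centralizer of every involution of G also contains an elementary abelian subgroup of order 8. -/
theorem result {G : Type*} [Group G] [Finite G] (hno : ∀ H : Subgroup G, H.index ≠ 2) (hrank : ∃ E : Subgroup G, Nat.card E = 8 ∧ ∀ e ∈ E, e ^ 2 = 1) (x : G) (hx : orderOf x = 2) : ∃ E : Subgroup G, E ≤ Subgroup.centralizer ({x} : Set G) ∧ Nat.card E = 8 ∧ ∀ e ∈ E, e ^ 2 = 1 := by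
  classical
  haveI : Fact (Nat.Prime 2) := ⟨Nat.prime_two⟩
  obtain ⟨E, hEcard, hEe⟩ := hrank
  obtain ⟨S, hES⟩ := (IsPGroup.of_card (n := 3) (show Nat.card E = 2 ^ 3 by rw [hEcard]; norm_num)).exists_le_sylow
  have hr : ¬ Cfsg.PRankLE 2 2 (S : Subgroup G) := by
    intro hle
    have h1 := hle (E.subgroupOf S) ⟨⟨fun a b => by
      have hab : ∀ u ∈ E, ∀ v ∈ E, u * v = v * u := fun u hu v hv => by
        have h1 : u⁻¹ = u := inv_eq_of_mul_eq_one_right (by rw [← pow_two]; exact hEe u hu)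
        have h2 : v⁻¹ = v := inv_eq_of_mul_eq_one_right (by rw [← pow_two]; exact hEe v hv)
        have h3 : (u * v)⁻¹ = u * v := inv_eq_of_mul_eq_one_right (by rw [← pow_two]; exact hEe _ (mul_mem hu hv))
        rw [mul_inv_rev, h1, h2] at h3
        exact h3.symm
      exact Subtype.ext (Subtype.ext (hab _ a.2 _ b.2))⟩⟩ (fun a ha => Subtype.ext (hEe a.1 ha))
    rw [Nat.card_congr (Subgroup.subgroupOfEquivOfLe hES).toEquiv, hEcard] at h1
    norm_num at h1
  obtain ⟨U, hUn, hUe, hU4, hcomp⟩ := Cfsg.Agent.Solv.RankThreeComp.component S.2 hr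
  set T := Subgroup.centralizer (U : Set (S : Subgroup G)) with hT
  -- it suffices to look at an involution of `T`
  have main : ∀ y : (S : Subgroup G), y ∈ T → y ^ 2 = 1 → y ≠ 1 →
      ∃ E : Subgroup G, E ≤ Subgroup.centralizer ({(y : G)} : Set G) ∧ Nat.card E = 8 ∧ ∀ e ∈ E, e ^ 2 = 1 := by
    intro y hy hy2 hy1
    obtain ⟨Y, hYC, hYe, hYcard⟩ : ∃ Y : Subgroup (S : Subgroup G),
        Y ≤ Subgroup.centralizer ({y} : Set (S : Subgroup G)) ∧ Cfsg.IsElementaryAbelian 2 Y ∧ 4 < Nat.card Y := by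
      by_cases hyU : y ∈ U
      · obtain ⟨Y, hYC, hYe, hYcard⟩ := Cfsg.Agent.Solv.RankThreeComp.exists_big
          ((hcomp U hUe hU4.ge).mp Relation.ReflTransGen.refl)
        refine ⟨Y, fun z hz => Subgroup.mem_centralizer_singleton_iff.mpr ((hYC hz) y hyU).symm, hYe, ?_⟩
        norm_num at hYcard
        exact hYcard
      · have hze : Cfsg.IsElementaryAbelian 2 (Subgroup.zpowers y) := by
          refine ⟨inferInstance, fun a ha => ?_⟩
          obtain ⟨k, rfl⟩ := Subgroup.mem_zpowers_iff.mp ha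
          rw [← zpow_natCast, ← zpow_mul, mul_comm, zpow_mul, zpow_natCast, hy2, one_zpow]
        have hc : ∀ a ∈ U, ∀ b ∈ Subgroup.zpowers y, a * b = b * a := fun a ha b hb => by
          obtain ⟨k, rfl⟩ := Subgroup.mem_zpowers_iff.mp hb
          exact (show Commute a y from hy a ha).zpow_right k
        have hJ := Cfsg.Agent.Solv.RankThreeComp.elementary_join hUe hze hc
        refine ⟨U ⊔ Subgroup.zpowers y, fun z hz => Subgroup.mem_centralizer_singleton_iff.mpr
          (congrArg Subtype.val (hJ.1.is_comm.comm ⟨z, hz⟩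
            ⟨y, Subgroup.mem_sup_right (Subgroup.mem_zpowers y)⟩)), hJ, ?_⟩
        by_contra hh
        push Not at hh
        have h4 := Subgroup.eq_of_le_of_card_ge (le_sup_left : U ≤ U ⊔ Subgroup.zpowers y)
          (by rw [hU4]; exact hh.trans (by norm_num))
        exact hyU (h4 ▸ Subgroup.mem_sup_right (Subgroup.mem_zpowers y))
    obtain ⟨k, hk⟩ := (S.2.to_subgroup Y).exists_card_eq
    have h3 : 3 ≤ k := by
      by_contra h
      have := Nat.pow_le_pow_right (show 0 < 2 by norm_num) (show k ≤ 2 by omega)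
      omega
    obtain ⟨W, hW⟩ := Sylow.exists_subgroup_card_pow_prime 2 (n := 3) (G := Y)
      (hk ▸ Nat.pow_dvd_pow 2 h3)
    refine ⟨(W.map Y.subtype).map (S : Subgroup G).subtype, ?_, ?_, ?_⟩
    · rintro _ ⟨_, ⟨w, -, rfl⟩, rfl⟩
      exact Subgroup.mem_centralizer_singleton_iff.mpr
        (congrArg Subtype.val (Subgroup.mem_centralizer_singleton_iff.mp (hYC w.2)))
    · rw [Subgroup.card_map_of_injective (Subgroup.subtype_injective _),
        Subgroup.card_map_of_injective (Subgroup.subtype_injective _), hW]; norm_num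
    · rintro _ ⟨_, ⟨w, -, rfl⟩, rfl⟩
      exact congrArg Subtype.val (hYe.2 w w.2)
  -- conjugate `x` into `T`
  obtain ⟨h, hh⟩ : ∃ h : G, ∃ y : (S : Subgroup G), y ∈ T ∧ h * x * h⁻¹ = (y : G) := by
    obtain ⟨S', hxS'⟩ := (IsPGroup.of_card (n := 1)
      (show Nat.card (Subgroup.zpowers x) = 2 ^ 1 by rw [Nat.card_zpowers, hx, pow_one])).exists_le_sylow
    obtain ⟨c, hc⟩ := MulAction.exists_smul_eq G S' S
    have hxS : c * x * c⁻¹ ∈ (S : Subgroup G) := by
      rw [← hc, Sylow.coe_subgroup_smul]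
      exact ⟨x, hxS' (Subgroup.mem_zpowers x), rfl⟩
    by_cases hT1 : (⟨c * x * c⁻¹, hxS⟩ : (S : Subgroup G)) ∈ T
    · exact ⟨c, _, hT1, rfl⟩
    have hTi : (T.map (S : Subgroup G).subtype).relIndex (S : Subgroup G) = 2 := by
      have h1 : T.index ≤ 2 := by
        have := Cfsg.Agent.Solv.AlperinC.index_centralizer_le S.2 2 U hUn hU4
        simpa using this
      have h2 : T.index ≠ 1 := fun e => hT1 (Subgroup.index_eq_one.mp e ▸ Subgroup.mem_top _)
      have h3 : T.index ≠ 0 := Subgroup.index_ne_zero_of_finite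
      rw [Subgroup.relIndex, Subgroup.subgroupOf, Subgroup.comap_map_eq_self_of_injective
        (Subgroup.subtype_injective _)]
      omega
    rcases Cfsg.Agent.S0111.result S (T.map (S : Subgroup G).subtype) (Subgroup.map_subtype_le T) hTi
      (c * x * c⁻¹) ((MulEquiv.orderOf_eq (MulAut.conj c) x).trans hx) hxS
      (fun ⟨z, hz, e⟩ => hT1 (by
        have : z = (⟨c * x * c⁻¹, hxS⟩ : (S : Subgroup G)) := Subtype.ext e
        exact this ▸ hz)) with ⟨M, -, hM, -⟩ | ⟨g, z, hz, e⟩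
    · exact absurd hM (hno M)
    · refine ⟨g * c, z, hz, ?_⟩
      show _ = (S : Subgroup G).subtype z
      rw [e]; group
  obtain ⟨y, hyT, hxy⟩ := hh
  obtain ⟨W, hWC, hW8, hWe⟩ := main y hyT
    (Subtype.ext (by
      show (y : G) ^ 2 = 1
      rw [← hxy, conj_pow, ← hx, pow_orderOf_eq_one, mul_one, mul_inv_cancel]))
    (fun e => by
      rw [e] at hxy
      have : x = 1 := conj_eq_one_iff.mp hxy
      rw [this, orderOf_one] at hx
      omega)
  refine ⟨W.map (MulAut.conj h⁻¹).toMonoidHom, ?_, ?_, ?_⟩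
  · rintro _ ⟨w, hw, rfl⟩
    have := Subgroup.mem_centralizer_singleton_iff.mp (hWC hw)
    rw [Subgroup.mem_centralizer_singleton_iff]
    show h⁻¹ * w * h⁻¹⁻¹ * x = x * (h⁻¹ * w * h⁻¹⁻¹)
    calc h⁻¹ * w * h⁻¹⁻¹ * x = h⁻¹ * (w * (y : G)) * h := by rw [← hxy]; group
      _ = h⁻¹ * ((y : G) * w) * h := by rw [this]
      _ = _ := by rw [← hxy]; group
  · rw [Subgroup.card_map_of_injective (MulEquiv.injective _), hW8]
  · rintro _ ⟨w, hw, rfl⟩
    rw [← map_pow, hWe w hw, map_one]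

end Cfsg.Agent.S0221
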