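import Cfsg.Statements.S0223
import Cfsg.Agent.Lib.Inv.StronglyEmbedded
import Mathlib
-- import your own Cfsg.Agent.* helpers here

set_option autoImplicit false
open Cfsg

namespace Cfsg.Agent.S0223

/-- Let H be a proper subgroup of even order of the finite group G. Then H is strongly embedded if and only if (i) C_G(t) ≤ H for every involution t of H and (ii) H controls fusion of its involutions: involutions of H conjugate in G are conjugate in H. -/
theorem result {G : Type*} [Group G] [Finite G] (H : Subgroup G) (hH : H ≠ ⊤) (heven : Even (Nat.card H)) : Cfsg.IsStronglyEmbedded H ↔ ((∀ t ∈ H, orderOf t = 2 → Subgroup.centralizer ({t} : Set G) ≤ H) ∧ (∀ t ∈ H, ∀ s ∈ H, orderOf t = 2 → orderOf s = 2 → IsConj t s → ∃ h ∈ H, h * t * h⁻¹ = s)) := by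
  open Cfsg.Agent.Inv in
  constructor
  · intro h
    refine ⟨fun t htH ht => stronglyEmbedded_centralizer_le h ht htH, fun t htH s hsH ht _ hst => ?_⟩
    obtain ⟨g, hg⟩ := isConj_iff.1 hst
    have hs : orderOf s = 2 := by rw [← hg, orderOf_conj, ht]
    exact ⟨g, stronglyEmbedded_mem h hs hsH (by rw [← hg]; simpa [mul_assoc] using htH), hg⟩
  · rintro ⟨hC, hF⟩
    refine isStronglyEmbedded_of hH heven fun g t ht htH htg => ?_
    have ht' : orderOf (g⁻¹ * t * g) = 2 := by rw [← ht]; simpa using orderOf_conj g⁻¹ t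
    obtain ⟨k, hk, hkt⟩ := hF _ htg t htH ht' ht (isConj_iff.2 ⟨g, by group⟩)
    have hc : k * g⁻¹ ∈ Subgroup.centralizer ({t} : Set G) := by
      rw [Subgroup.mem_centralizer_singleton_iff]
      calc k * g⁻¹ * t = (k * (g⁻¹ * t * g) * k⁻¹) * (k * g⁻¹) := by group
        _ = t * (k * g⁻¹) := by rw [hkt]
    have h2 := mul_mem (inv_mem hk) (hC t htH ht hc)
    rw [inv_mul_cancel_left] at h2
    simpa using inv_mem h2

end Cfsg.Agent.S0223
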