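import Cfsg.Statements.S0224
import Cfsg.Agent.Lib.Inv.StronglyEmbedded
import Mathlib
-- import your own Cfsg.Agent.* helpers here

set_option autoImplicit false
open Cfsg

namespace Cfsg.Agent.S0224

/-- Let H be a proper subgroup of even order of the finite group G. Then H is strongly embedded if and only if each involution of H fixes exactly one point (namely the coset H) in the action of G on the cosets of H. -/
theorem result {G : Type*} [Group G] [Finite G] (H : Subgroup G) (hH : H ≠ ⊤) (heven : Even (Nat.card H)) : Cfsg.IsStronglyEmbedded H ↔ ∀ t ∈ H, orderOf t = 2 → Nat.card {c : G ⧸ H // t • c = c} = 1 := by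
  open Cfsg.Agent.Inv in
  have hfix : ∀ t g : G, t • (g : G ⧸ H) = (g : G ⧸ H) ↔ g⁻¹ * t * g ∈ H := by
    intro t g
    rw [eq_comm, MulAction.Quotient.smul_coe, QuotientGroup.eq, smul_eq_mul, mul_assoc]
  constructor
  · intro h t htH ht
    rw [Nat.card_eq_one_iff_unique]
    refine ⟨⟨fun ⟨a, ha⟩ ⟨b, hb⟩ => Subtype.ext ?_⟩,
      ⟨⟨((1 : G) : G ⧸ H), (hfix t 1).2 (by simpa using htH)⟩⟩⟩
    have key : ∀ c : G ⧸ H, t • c = c → c = ((1 : G) : G ⧸ H) := by
      intro c hc
      induction c using QuotientGroup.induction_on with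
      | H c =>
        rw [QuotientGroup.eq, mul_one]
        exact inv_mem (stronglyEmbedded_mem h ht htH ((hfix t c).1 hc))
    exact (key a ha).trans (key b hb).symm
  · intro h
    refine isStronglyEmbedded_of hH heven fun g t ht htH htg => ?_
    have := (Nat.card_eq_one_iff_unique.1 (h t htH ht)).1
    have e : (g : G ⧸ H) = ((1 : G) : G ⧸ H) := congrArg Subtype.val (this.elim
      (⟨(g : G ⧸ H), (hfix t g).2 htg⟩ : {c : G ⧸ H // t • c = c})
      ⟨((1 : G) : G ⧸ H), (hfix t 1).2 (by simpa using htH)⟩)
    rw [QuotientGroup.eq, mul_one] at e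
    simpa using inv_mem e

end Cfsg.Agent.S0224
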