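import Cfsg.Statements.S0226
import Mathlib
import Cfsg.Agent.Lib.Inv.Dihedral

set_option autoImplicit false
open Cfsg

namespace Cfsg.Agent.S0226

/-- A finite group of even order has an odd number of involutions. -/
theorem result {G : Type*} [Group G] [Finite G] (heven : Even (Nat.card G)) : Odd (Nat.card {t : G // orderOf t = 2}) := by
  classical
  haveI := Fintype.ofFinite G
  rw [Nat.card_eq_fintype_card, Fintype.card_subtype]
  rw [Nat.card_eq_fintype_card] at heven
  set F := Finset.univ.filter (fun g : G => g * g = 1) with hF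
  have hmoved : (((Finset.univ.filter (fun g : G => ¬ g * g = 1)).card : ℕ) : ZMod 2) = 0 := by
    rw [Finset.card_eq_sum_ones, Nat.cast_sum]
    refine Finset.sum_involution (fun g _ => g⁻¹) (fun g _ => by decide) ?_ ?_ (fun g _ => inv_inv g)
    · intro g hg _ h
      exact (Finset.mem_filter.1 hg).2 (mul_eq_one_iff_eq_inv.2 h.symm)
    · intro g hg
      refine Finset.mem_filter.2 ⟨Finset.mem_univ _, fun h => (Finset.mem_filter.1 hg).2 ?_⟩
      rw [← inv_inj, mul_inv_rev, inv_one]; exact h
  have hsplit := Finset.card_filter_add_card_filter_not (s := (Finset.univ : Finset G)) (fun g : G => g * g = 1)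
  have h1 : F = insert 1 (Finset.univ.filter (fun t : G => orderOf t = 2)) := by
    ext g
    simp only [hF, Finset.mem_filter, Finset.mem_univ, true_and, Finset.mem_insert]
    constructor
    · intro h
      by_cases hg : g = 1
      · exact Or.inl hg
      · exact Or.inr (Cfsg.Agent.Inv.orderOf_eq_two_of_mul_self h hg)
    · rintro (rfl | h)
      · simp
      · exact Cfsg.Agent.Inv.mul_self_of_orderOf_two h
  have h2 : F.card = (Finset.univ.filter (fun t : G => orderOf t = 2)).card + 1 := by
    rw [h1, Finset.card_insert_of_notMem (by simp)]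
  rw [ZMod.natCast_eq_zero_iff_even] at hmoved
  rw [Finset.card_univ, ← hF, h2] at hsplit
  rw [← hsplit] at heven
  rw [Nat.even_add] at heven
  have h3 := heven.2 hmoved
  rw [Nat.even_add_one] at h3
  exact Nat.not_even_iff_odd.1 h3

end Cfsg.Agent.S0226
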