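import Cfsg.Statements.S0228
import Mathlib

set_option autoImplicit false
open Cfsg

namespace Cfsg.Agent.S0228

/-- A group of order 12 in which no involution is central is isomorphic to the alternating group on four letters. -/
theorem result {G : Type*} [Group G] [Finite G] (hG : Nat.card G = 12) (hz : ∀ z : G, orderOf z = 2 → z ∉ Subgroup.center G) : Nonempty (G ≃* alternatingGroup (Fin 4)) := by
  classical
  haveI : Fact (Nat.Prime 3) := ⟨Nat.prime_three⟩
  haveI : Fact (Nat.Prime 2) := ⟨Nat.prime_two⟩
  let P : Sylow 3 G := default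
  let T : Sylow 2 G := default
  have f3 : (12 : ℕ).factorization 3 = 1 := by
    rw [show (12 : ℕ) = 3 * 4 from rfl, Nat.factorization_mul (by norm_num) (by norm_num),
      Finsupp.add_apply, Nat.prime_three.factorization_self,
      Nat.factorization_eq_zero_of_not_dvd (by norm_num : ¬ 3 ∣ 4)]
  have f2 : (12 : ℕ).factorization 2 = 2 := by
    rw [show (12 : ℕ) = 2 ^ 2 * 3 from rfl, Nat.factorization_mul (by norm_num) (by norm_num),
      Finsupp.add_apply, Nat.factorization_pow_self Nat.prime_two,
      Nat.factorization_eq_zero_of_not_dvd (by norm_num : ¬ 2 ∣ 3)]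
  have hP : Nat.card (P : Subgroup G) = 3 := by
    rw [Sylow.card_eq_multiplicity, hG, f3, pow_one]
  have hT : Nat.card (T : Subgroup G) = 2 ^ 2 := by
    rw [Sylow.card_eq_multiplicity, hG, f2]
  have hn : Nat.card (Sylow 3 G) = (Subgroup.normalizer ((P : Subgroup G) : Set G)).index := Sylow.card_eq_index_normalizer P
  have hnP : ¬ (P : Subgroup G).Normal := by
    intro hPn
    have hTP : (P : Subgroup G) ⊔ (T : Subgroup G) = ⊤ := by
      apply Subgroup.eq_top_of_card_eq
      refine Nat.dvd_antisymm (Subgroup.card_subgroup_dvd_card _) ?_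
      have d1 : 3 ∣ Nat.card ↥((P : Subgroup G) ⊔ (T : Subgroup G)) :=
        (dvd_of_eq hP.symm).trans (Subgroup.card_dvd_of_le le_sup_left)
      have d2 : 2 ^ 2 ∣ Nat.card ↥((P : Subgroup G) ⊔ (T : Subgroup G)) :=
        (dvd_of_eq hT.symm).trans (Subgroup.card_dvd_of_le le_sup_right)
      rw [hG]
      exact Nat.Coprime.mul_dvd_of_dvd_of_dvd (by norm_num : Nat.Coprime 3 (2 ^ 2)) d1 d2
    let C := Subgroup.centralizer ((P : Subgroup G) : Set G)
    have hC : Even (Nat.card C) := by
      have h1 : C.relIndex (Subgroup.normalizer ((P : Subgroup G) : Set G)) ∣ Nat.card (MulAut (P : Subgroup G)) := by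
        have key := Subgroup.card_dvd_of_injective _ (QuotientGroup.kerLift_injective (P : Subgroup G).normalizerMonoidHom)
        rwa [Subgroup.normalizerMonoidHom_ker, ← Subgroup.index, ← Subgroup.relIndex] at key
      have htop : Subgroup.normalizer ((P : Subgroup G) : Set G) = ⊤ := Subgroup.normalizer_eq_top_iff.2 hPn
      rw [htop, Subgroup.relIndex_top_right] at h1
      haveI : IsCyclic (P : Subgroup G) := isCyclic_of_prime_card hP
      rw [IsCyclic.card_mulAut, hP, Nat.totient_prime Nat.prime_three] at h1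
      have h2 := C.card_mul_index
      rw [hG] at h2
      have : C.index ≤ 2 := Nat.le_of_dvd (by norm_num) h1
      interval_cases hh : C.index
      · omega
      · rw [mul_one] at h2; rw [h2]; decide
      · exact ⟨3, by omega⟩
    obtain ⟨⟨t, htC⟩, ht⟩ := exists_prime_orderOf_dvd_card' (G := C) 2 (even_iff_two_dvd.1 hC)
    rw [Subgroup.orderOf_mk] at ht
    obtain ⟨g, hg⟩ : ∃ g : G, g * t * g⁻¹ ∈ (T : Subgroup G) := by
      obtain ⟨S, hS⟩ := (IsPGroup.of_card (p := 2) (n := 1) (G := Subgroup.zpowers t) (by rw [Nat.card_zpowers, ht]; rfl)).exists_le_sylow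
      obtain ⟨g, hg⟩ := MulAction.exists_smul_eq G S T
      exact ⟨g, hg ▸ ⟨t, hS (Subgroup.mem_zpowers t), rfl⟩⟩
    apply hz (g * t * g⁻¹) ((MulAut.conj g).orderOf_eq t |>.trans ht)
    rw [Subgroup.mem_center_iff]
    have hmem : ∀ a ∈ (P : Subgroup G) ⊔ (T : Subgroup G), a * (g * t * g⁻¹) = (g * t * g⁻¹) * a := by
      intro a ha
      have : (P : Subgroup G) ⊔ (T : Subgroup G) ≤ Subgroup.centralizer {g * t * g⁻¹} := by
        refine sup_le (fun p hp => Subgroup.mem_centralizer_singleton_iff.2 ?_) (fun u hu => Subgroup.mem_centralizer_singleton_iff.2 ?_)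
        · have hp' := hPn.conj_mem p hp g⁻¹
          rw [inv_inv] at hp'
          have := Subgroup.mem_centralizer_iff.1 htC _ hp'
          calc p * (g * t * g⁻¹) = g * ((g⁻¹ * p * g) * t) * g⁻¹ := by group
            _ = g * (t * (g⁻¹ * p * g)) * g⁻¹ := by rw [this]
            _ = (g * t * g⁻¹) * p := by group
        · exact congrArg Subtype.val ((IsPGroup.isMulCommutative_of_card_eq_prime_sq hT).is_comm.comm (⟨u, hu⟩ : (T : Subgroup G)) ⟨_, hg⟩)
      exact Subgroup.mem_centralizer_singleton_iff.1 (this ha)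
    intro a
    exact hmem a (hTP ▸ Subgroup.mem_top a)
  have h4 : Nat.card (Sylow 3 G) = 4 := by
    have hmod := card_sylow_modEq_one 3 G
    have hdvd := P.card_dvd_index
    have hi : (P : Subgroup G).index = 4 := by
      have := (P : Subgroup G).card_mul_index
      rw [hP, hG] at this; omega
    rw [hi] at hdvd
    have hle := Nat.le_of_dvd (by norm_num) hdvd
    have hne1 : Nat.card (Sylow 3 G) ≠ 1 := by
      intro h1
      rw [hn, Subgroup.index_eq_one] at h1
      exact hnP (Subgroup.normalizer_eq_top_iff.1 h1)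
    have hne0 : 0 < Nat.card (Sylow 3 G) := Nat.card_pos
    unfold Nat.ModEq at hmod
    omega
  haveI := Fintype.ofFinite (Sylow 3 G)
  let e : Sylow 3 G ≃ Fin 4 := (Finite.equivFinOfCardEq h4)
  let f : G →* Equiv.Perm (Fin 4) := (e.permCongrHom.toMonoidHom).comp (MulAction.toPermHom G (Sylow 3 G))
  have hker : f.ker = ⊥ := by
    rw [eq_bot_iff]
    intro g hg
    have hfix : ∀ Q : Sylow 3 G, g • Q = Q := by
      intro Q
      have := congrArg (fun σ : Equiv.Perm (Fin 4) => e.symm (σ (e Q))) (MonoidHom.mem_ker.1 hg)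
      simpa [f] using this
    have hmem : ∀ Q : Sylow 3 G, g ∈ (Q : Subgroup G) := by
      intro Q
      have h1 : (Q : Subgroup G) = Subgroup.normalizer ((Q : Subgroup G) : Set G) := by
        apply Subgroup.eq_of_le_of_card_ge Subgroup.le_normalizer
        have h2 := (Subgroup.normalizer ((Q : Subgroup G) : Set G)).card_mul_index
        have h5 : Nat.card (Sylow 3 G) = (Subgroup.normalizer ((Q : Subgroup G) : Set G)).index :=
          Sylow.card_eq_index_normalizer Q
        rw [← h5, h4, hG] at h2
        have hQ : Nat.card (Q : Subgroup G) = 3 := by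
          rw [Sylow.card_eq_multiplicity, hG, f3, pow_one]
        omega
      rw [h1]
      exact Sylow.smul_eq_iff_mem_normalizer.1 (hfix Q)
    by_contra hne
    have hsub : Subsingleton (Sylow 3 G) := by
      constructor
      intro Q R
      apply Sylow.ext
      have hg3 : ∀ Q : Sylow 3 G, Subgroup.zpowers g = (Q : Subgroup G) := by
        intro Q
        apply Subgroup.eq_of_le_of_card_ge (Subgroup.zpowers_le.2 (hmem Q))
        have hQ : Nat.card (Q : Subgroup G) = 3 := by
          rw [Sylow.card_eq_multiplicity, hG, f3, pow_one]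
        have hd : orderOf g ∣ Nat.card (Q : Subgroup G) := Subgroup.orderOf_dvd_natCard _ (hmem Q)
        rw [hQ, Nat.dvd_prime Nat.prime_three] at hd
        rcases hd with h | h
        · exact absurd (orderOf_eq_one_iff.1 h) (by simpa using hne)
        · rw [hQ, Nat.card_zpowers, h]
      rw [← hg3 Q, hg3 R]
    have := Finite.card_le_one_iff_subsingleton.2 hsub
    omega
  have hinj : Function.Injective f := (MonoidHom.ker_eq_bot_iff f).1 hker
  have hidx : f.range.index = 2 := by
    have h := f.range.card_mul_index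
    rw [Nat.card_congr (MonoidHom.ofInjective hinj).toEquiv.symm, hG, Nat.card_perm, Nat.card_fin] at h
    norm_num [Nat.factorial] at h
    omega
  exact ⟨(MonoidHom.ofInjective hinj).trans (MulEquiv.subgroupCongr (Equiv.Perm.eq_alternatingGroup_of_index_eq_two hidx))⟩

end Cfsg.Agent.S0228
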