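import Cfsg.Statements.S0229
import Mathlib
import Cfsg.Agent.Lib.Inv.Dihedral

set_option autoImplicit false
open Cfsg

namespace Cfsg.Agent.S0229

/-- Let t be an involution of a Sylow 2-subgroup S of a finite group G, conjugate in G to no other element of S, and let s be an involution of G not conjugate to t. Then the order of st is twice an odd number. -/
theorem result {G : Type*} [Group G] [Finite G] (S : Sylow 2 G) (t : G) (ht : orderOf t = 2) (htS : t ∈ S) (hiso : ∀ g : G, g * t * g⁻¹ ∈ S → g * t * g⁻¹ = t) (s : G) (hs : orderOf s = 2) (hns : ¬ IsConj s t) : orderOf (s * t) % 4 = 2 := by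
  open Cfsg.Agent.Inv in
  have hne : s ≠ t := fun h => hns (h ▸ IsConj.refl s)
  have hpos := orderOf_pos (s * t)
  have heven : Even (orderOf (s * t)) := by
    by_contra hodd
    obtain ⟨m, hm⟩ := Nat.not_even_iff_odd.1 hodd
    apply hns
    rw [isConj_iff]
    refine ⟨(s * t) ^ (m : ℤ), ?_⟩
    rw [mul_assoc, ← zpow_neg, x_mul_zpow hs ht, ← mul_assoc, ← zpow_add, neg_neg]
    conv_rhs => rw [y_eq hs ht]
    congr 1
    rw [zpow_eq_zpow_iff_modEq, hm, Int.modEq_iff_dvd]
    exact ⟨-1, by push_cast; ring⟩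
  obtain ⟨e, o, ho, heo⟩ : ∃ e o : ℕ, ¬ 2 ∣ o ∧ orderOf (t * s) = 2 ^ e * o :=
    Nat.exists_eq_pow_mul_and_not_dvd (orderOf_pos (t * s)).ne' 2 (by norm_num)
  have hts : orderOf (t * s) = orderOf (s * t) := by rw [← inv_mul_two hs ht, orderOf_inv]
  by_contra hmod
  have he : 2 ≤ e := by
    by_contra he
    obtain ⟨m, hm⟩ := heven
    interval_cases e <;> omega
  set b := (t * s) ^ o with hb
  have hbord : orderOf b = 2 ^ e := by
    rw [hb, orderOf_pow, heo, Nat.gcd_eq_right (dvd_mul_left o _), Nat.mul_div_cancel _ (by omega)]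
  have htb : t * b = b⁻¹ * t := by
    rw [hb, ← zpow_natCast, x_mul_zpow ht hs, zpow_neg]
  have hy1 : (t * b) * (t * b) = 1 := by
    calc (t * b) * (t * b) = (b⁻¹ * t) * (t * b) := by nth_rewrite 1 [htb]; rfl
      _ = b⁻¹ * (t * t) * b := by group
      _ = 1 := by rw [mul_self_of_orderOf_two ht, mul_one, inv_mul_cancel]
  have hy2 : t * b ≠ 1 := by
    intro h
    apply not_mem_zpowers ht hs
    have hm : b⁻¹ ∈ Subgroup.zpowers (t * s) := inv_mem (pow_mem (Subgroup.mem_zpowers _) _)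
    rwa [← eq_inv_of_mul_eq_one_left h] at hm
  have hy := orderOf_eq_two_of_mul_self hy1 hy2
  have htab : t * (t * b) = b := by rw [← mul_assoc, mul_self_of_orderOf_two ht, one_mul]
  obtain ⟨φ⟩ := dihedral_equiv ht hy
  have hcard : Nat.card (Subgroup.closure ({t, t * b} : Set G)) = 2 ^ (e + 1) := by
    rw [Nat.card_congr φ.toEquiv, DihedralGroup.nat_card, htab, hbord]; ring
  obtain ⟨P, hP⟩ := (IsPGroup.of_card (p := 2) hcard).exists_le_sylow
  haveI : Fact (Nat.Prime 2) := ⟨Nat.prime_two⟩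
  obtain ⟨g, hg⟩ := MulAction.exists_smul_eq G P S
  have h1 : g * t * g⁻¹ ∈ S := hg ▸ ⟨t, hP (Subgroup.subset_closure (by simp)), rfl⟩
  have hbm : b ∈ Subgroup.closure ({t, t * b} : Set G) := by
    have h0 : t * (t * b) ∈ Subgroup.closure ({t, t * b} : Set G) :=
      mul_mem (Subgroup.subset_closure (by simp)) (Subgroup.subset_closure (by simp))
    rwa [htab] at h0
  have h2 : g * (b * t * b⁻¹) * g⁻¹ ∈ S :=
    hg ▸ ⟨b * t * b⁻¹, hP (mul_mem (mul_mem hbm (Subgroup.subset_closure (by simp))) (inv_mem hbm)), rfl⟩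
  have h3 := hiso (g * b) (by rw [mul_inv_rev]; simpa [mul_assoc] using h2)
  have h4 := hiso g h1
  rw [mul_inv_rev] at h3
  have h5 : g * (b * t * b⁻¹) * g⁻¹ = g * t * g⁻¹ := by rw [h4]; simpa [mul_assoc] using h3
  have h6 : b * t * b⁻¹ = t := mul_left_cancel (mul_right_cancel h5)
  have h7 : b * b = 1 := by
    have h8 : b * t = t * b := by rw [mul_inv_eq_iff_eq_mul] at h6; exact h6
    rw [htb] at h8
    exact mul_eq_one_iff_eq_inv.2 (mul_right_cancel h8)
  have h9 : orderOf b ∣ 2 := orderOf_dvd_of_pow_eq_one (by rw [pow_two, h7])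
  rw [hbord] at h9
  have h10 := Nat.le_of_dvd (by norm_num) h9
  have h11 : 2 ^ 2 ≤ 2 ^ e := Nat.pow_le_pow_right (by norm_num) he
  omega

end Cfsg.Agent.S0229
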