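import Cfsg.Statements.S0230
import Cfsg.Agent.Lib.Inv.Conj
import Mathlib
-- import your own Cfsg.Agent.* helpers here

set_option autoImplicit false
open Cfsg

namespace Cfsg.Agent.S0230

/-- Let G be a finite group with two non-conjugate involutions, and let t be an involution whose centralizer has maximal order among centralizers of involutions. Then |G| < |C_G(t)|^3. -/
theorem result {G : Type*} [Group G] [Finite G] (s t : G) (hs : orderOf s = 2) (ht : orderOf t = 2) (hnc : ¬ IsConj s t) (hmax : ∀ u : G, orderOf u = 2 → Nat.card (Subgroup.centralizer ({u} : Set G)) ≤ Nat.card (Subgroup.centralizer ({t} : Set G))) : Nat.card G < Nat.card (Subgroup.centralizer ({t} : Set G)) ^ 3 := by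
  open Cfsg.Agent.Inv in
  classical
  haveI : Fintype G := Fintype.ofFinite G
  set ct := Nat.card (Subgroup.centralizer ({t} : Set G)) with hct
  set Cs := Finset.univ.filter fun z : G => z ∈ Subgroup.centralizer ({s} : Set G) with hCs
  set Z := Cs.filter fun z => orderOf z = 2 with hZ
  set T := Finset.univ.filter fun v : G => IsConj t v with hT
  have hsub : T ⊆ Z.biUnion fun z =>
      Finset.univ.filter fun v : G => v ∈ Subgroup.centralizer ({z} : Set G) := by
    intro v hv
    have hv' := (Finset.mem_filter.1 hv).2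
    obtain ⟨g, hg⟩ := isConj_iff.1 hv'
    obtain ⟨z, hz, -, -, hzs, hzv⟩ := exists_commuting_of_not_isConj hs
      (by rw [← hg, orderOf_conj, ht]) (fun h => hnc (h.trans hv'.symm))
    exact Finset.mem_biUnion.2 ⟨z, Finset.mem_filter.2 ⟨Finset.mem_filter.2 ⟨Finset.mem_univ _,
      Subgroup.mem_centralizer_singleton_iff.2 hzs.eq⟩, hz⟩,
      Finset.mem_filter.2 ⟨Finset.mem_univ _,
        Subgroup.mem_centralizer_singleton_iff.2 hzv.eq.symm⟩⟩
  have h1 : T.card ≤ Z.card * ct := by
    refine (Finset.card_le_card hsub).trans (Finset.card_biUnion_le_card_mul _ _ _ fun z hz => ?_)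
    refine le_trans (le_of_eq ?_) (hmax z (Finset.mem_filter.1 hz).2)
    rw [Nat.card_eq_fintype_card, Fintype.card_subtype]
  have h2 : Z.card < ct := by
    refine lt_of_lt_of_le (b := Cs.card) ?_ (le_trans (le_of_eq ?_) (hmax s hs))
    · refine Finset.card_lt_card ⟨Finset.filter_subset _ _, fun h => ?_⟩
      have h1 : (1 : G) ∈ Cs := Finset.mem_filter.2 ⟨Finset.mem_univ _, one_mem _⟩
      exact absurd (Finset.mem_filter.1 (h h1)).2 (by simp)
    · rw [hCs, Nat.card_eq_fintype_card, Fintype.card_subtype]
  have h3 : Nat.card G = T.card * ct := by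
    rw [card_eq_centralizer_mul_card_isConj t, mul_comm, Nat.card_eq_fintype_card (α := {v : G // IsConj t v}),
      Fintype.card_subtype]
  rw [h3, show ct ^ 3 = ct * ct * ct by ring]
  have hpos : 0 < ct := Nat.card_pos
  refine Nat.mul_lt_mul_of_pos_right (lt_of_le_of_lt h1 ?_) hpos
  exact Nat.mul_lt_mul_of_pos_right h2 hpos

end Cfsg.Agent.S0230
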