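import Cfsg.Statements.S0231
import Cfsg.Agent.Lib.Inv.StronglyEmbedded
import Mathlib
-- import your own Cfsg.Agent.* helpers here

set_option autoImplicit false
open scoped Pointwise
open Cfsg

namespace Cfsg.Agent.S0231

/-- Let T be a Sylow 2-subgroup of the finite group G which is not normal and which intersects every other Sylow 2-subgroup trivially. Then G has a single conjugacy class of involutions. -/
theorem result {G : Type*} [Group G] [Finite G] (T : Sylow 2 G) (hnn : ¬ (T : Subgroup G).Normal) (hTI : ∀ g : G, MulAut.conj g • (T : Subgroup G) ≠ T → MulAut.conj g • (T : Subgroup G) ⊓ T = ⊥) (s t : G) (hs : orderOf s = 2) (ht : orderOf t = 2) : IsConj s t := by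
  open Cfsg.Agent.Inv in
  classical
  haveI : Fact (Nat.Prime 2) := ⟨Nat.prime_two⟩
  have huniq : ∀ u : G, orderOf u = 2 → ∀ A B : Sylow 2 G, u ∈ (A : Subgroup G) →
      u ∈ (B : Subgroup G) → A = B := by
    intro u hu A B hA hB
    obtain ⟨a, ha⟩ := MulAction.exists_smul_eq G A T
    by_contra hne
    have hne' : a • B ≠ T := fun e => hne (MulAction.injective a (ha.trans e.symm))
    obtain ⟨b, hb⟩ := MulAction.exists_smul_eq G T (a • B)
    have h1 : MulAut.conj b • (T : Subgroup G) ⊓ T = ⊥ := by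
      apply hTI
      intro e
      apply hne'
      apply Sylow.ext
      rw [← hb, Sylow.coe_subgroup_smul, e]
    have hm : a * u * a⁻¹ ∈ MulAut.conj b • (T : Subgroup G) ⊓ T := by
      refine ⟨?_, ?_⟩
      · rw [← Sylow.coe_subgroup_smul, hb]; exact ⟨u, hB, rfl⟩
      · rw [← ha]; exact ⟨u, hA, rfl⟩
    rw [h1, Subgroup.mem_bot, conj_eq_one_iff] at hm
    exact ne_one_of_orderOf_two hu hm
  have hex : ∀ a b : G, orderOf a = 2 → orderOf b = 2 → Commute a b →
      ∃ A : Sylow 2 G, a ∈ (A : Subgroup G) ∧ b ∈ (A : Subgroup G) := by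
    intro a b ha hb hab
    have hp : IsPGroup 2 ↥(Subgroup.closure ({a, b} : Set G)) := by
      rintro ⟨x, hx⟩
      refine ⟨1, Subtype.ext ?_⟩
      show x ^ 2 ^ 1 = 1
      obtain ⟨k, rfl | rfl⟩ := (mem_closure_pair ha hb).1 hx
      · rw [pow_one, ← zpow_natCast, ← zpow_mul, mul_comm, zpow_mul, zpow_natCast, hab.mul_pow,
          pow_two, pow_two, mul_self_of_orderOf_two ha, mul_self_of_orderOf_two hb, one_mul,
          one_zpow]
      · rw [pow_one, pow_two, mul_self_of_orderOf_two (orderOf_zpow_mul ha hb k)]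
    obtain ⟨A, hA⟩ := hp.exists_le_sylow
    exact ⟨A, hA (Subgroup.subset_closure (by simp)), hA (Subgroup.subset_closure (by simp))⟩
  have key : ∀ a b : G, orderOf a = 2 → orderOf b = 2 → ∀ A : Sylow 2 G, a ∈ (A : Subgroup G) →
      b ∉ (A : Subgroup G) → IsConj a b := by
    intro a b ha hb A haA hbA
    by_contra hne
    obtain ⟨u, hu, -, -, hua, hub⟩ := exists_commuting_of_not_isConj ha hb hne
    obtain ⟨B, hB1, hB2⟩ := hex u a hu ha hua
    obtain ⟨C, hC1, hC2⟩ := hex u b hu hb hub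
    have e1 := huniq a ha A B haA hB2
    have e2 := huniq u hu B C hB1 hC1
    exact hbA (e1 ▸ e2 ▸ hC2)
  obtain ⟨g, hg⟩ : ∃ g : G, g • T ≠ T := by
    by_contra! h
    exact hnn (Subgroup.normalizer_eq_top_iff.1 (eq_top_iff.2 fun g _ =>
      Sylow.smul_eq_iff_mem_normalizer.1 (h g)))
  obtain ⟨A, hA, -⟩ := hex s s hs hs (Commute.refl s)
  by_cases htA : t ∈ (A : Subgroup G)
  · obtain ⟨r, hr, hrA⟩ : ∃ r : G, orderOf r = 2 ∧ r ∉ (A : Subgroup G) := by
      obtain ⟨B, hB⟩ : ∃ B : Sylow 2 G, B ≠ A := by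
        by_contra! h
        exact hg ((h _).trans (h T).symm)
      obtain ⟨c, hc⟩ := MulAction.exists_smul_eq G A B
      refine ⟨c * s * c⁻¹, (orderOf_conj c s).trans hs, fun h => hB ?_⟩
      exact (huniq _ ((orderOf_conj c s).trans hs) A B h (hc ▸ ⟨s, hA, rfl⟩)).symm
    exact (key s r hs hr A hA hrA).trans (key t r ht hr A htA hrA).symm
  · exact key s t hs ht A hA htA

end Cfsg.Agent.S0231
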