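import Cfsg.Statements.S0232
import Cfsg.Agent.Lib.Inv.Conj
import Cfsg.Agent.S0233
import Cfsg.Agent.S0230
import Cfsg.Agent.Lib.Inv.CyclicSylow
import Mathlib
-- import your own Cfsg.Agent.* helpers here

set_option autoImplicit false
open Cfsg

namespace Cfsg.Agent.S0232

/-- A finite group G of even order greater than 2 has a proper subgroup H with |G| < |H|^3. -/
theorem result {G : Type*} [Group G] [Finite G] (heven : Even (Nat.card G)) (hgt : 2 < Nat.card G) : ∃ H : Subgroup G, H ≠ ⊤ ∧ Nat.card G < (Nat.card H) ^ 3 := by
  open Cfsg.Agent.Inv in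
  induction hn : Nat.card G using Nat.strong_induction_on generalizing G with
  | _ n ih =>
  classical
  subst hn
  haveI : Fact (Nat.Prime 2) := ⟨Nat.prime_two⟩
  have hindex2 : ∀ H : Subgroup G, H.index = 2 → H ≠ ⊤ ∧ Nat.card G < Nat.card H ^ 3 := by
    intro H hH
    refine ⟨fun e => by rw [e, Subgroup.index_top] at hH; omega, ?_⟩
    have h := H.card_mul_index
    rw [hH] at h
    rw [← h]
    have h2 : 2 ≤ Nat.card H := by omega
    calc Nat.card H * 2 < Nat.card H * (2 * 2) := by omega
      _ ≤ Nat.card H * (Nat.card H * Nat.card H) := Nat.mul_le_mul_left _ (Nat.mul_le_mul h2 h2)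
      _ = Nat.card H ^ 3 := by ring
  by_cases hidx : ∃ H : Subgroup G, H.index = 2
  · obtain ⟨H, hH⟩ := hidx
    exact ⟨H, hindex2 H hH⟩
  push Not at hidx
  by_cases hZ : Subgroup.center G = ⊥
  · by_cases hcls : ∃ s t : G, orderOf s = 2 ∧ orderOf t = 2 ∧ ¬ IsConj s t
    · obtain ⟨s₀, t₀, hs₀, ht₀, hnc⟩ := hcls
      haveI : Nonempty {u : G // orderOf u = 2} := ⟨⟨s₀, hs₀⟩⟩
      obtain ⟨⟨t, ht⟩, hmax⟩ := Finite.exists_max fun u : {u : G // orderOf u = 2} =>
        Nat.card (Subgroup.centralizer ({u.1} : Set G))
      obtain ⟨s, hs, hst⟩ : ∃ s : G, orderOf s = 2 ∧ ¬ IsConj s t := by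
        by_contra! h
        exact hnc ((h s₀ hs₀).trans (h t₀ ht₀).symm)
      refine ⟨_, ?_, S0230.result s t hs ht hst fun u hu => hmax ⟨u, hu⟩⟩
      intro e
      have hc : t ∈ Subgroup.center G := Subgroup.mem_center_iff.2 fun g =>
        Subgroup.mem_centralizer_singleton_iff.1 (e ▸ Subgroup.mem_top g)
      rw [hZ, Subgroup.mem_bot] at hc
      exact ne_one_of_orderOf_two ht hc
    · push Not at hcls
      obtain ⟨t, ht⟩ := exists_prime_orderOf_dvd_card' (G := G) 2 (even_iff_two_dvd.1 heven)
      obtain ⟨H, hH, h⟩ := S0233.result heven (by rw [hZ, Subgroup.card_bot]; exact odd_one)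
      replace h := h.resolve_left (hidx H)
      have hI : Nat.card {v : G // orderOf v = 2} = Nat.card {v : G // IsConj t v} :=
        Nat.card_congr (Equiv.subtypeEquivRight fun v => ⟨fun hv => hcls t v ht hv, fun hv => by
          obtain ⟨g, hg⟩ := isConj_iff.1 hv
          rw [← hg, orderOf_conj, ht]⟩)
      have hG := card_eq_centralizer_mul_card_isConj t
      rw [← hI] at hG
      set c := Nat.card (Subgroup.centralizer ({t} : Set G))
      set I := Nat.card {v : G // orderOf v = 2}
      have hIpos : 0 < I := by
        haveI : Nonempty {v : G // orderOf v = 2} := ⟨⟨t, ht⟩⟩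
        exact Nat.card_pos
      have hcpos : 0 < c := Nat.card_pos
      have hHmul := H.card_mul_index
      have hne : Subgroup.centralizer ({t} : Set G) ≠ ⊤ := fun e => by
        have hc : t ∈ Subgroup.center G := Subgroup.mem_center_iff.2 fun g =>
          Subgroup.mem_centralizer_singleton_iff.1 (e ▸ Subgroup.mem_top g)
        rw [hZ, Subgroup.mem_bot] at hc
        exact ne_one_of_orderOf_two ht hc
      -- 2 |G| < |H| c (c + 1)
      have key : 2 * Nat.card G < Nat.card H * (c * (c + 1)) := by
        by_contra hle
        push Not at hle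
        have h1 : Nat.card H * (2 * H.index * I ^ 2) < Nat.card H * (Nat.card G * (Nat.card G + I)) :=
          Nat.mul_lt_mul_of_pos_left h Nat.card_pos
        rw [show Nat.card H * (2 * H.index * I ^ 2) = 2 * (Nat.card H * H.index) * I ^ 2 by ring,
          hHmul] at h1
        have h2 : Nat.card H * (c * (c + 1)) * (c * I * (I * I)) ≤ 2 * Nat.card G * (c * I * (I * I)) :=
          Nat.mul_le_mul_right _ hle
        rw [hG] at h1 h2
        nlinarith
      rcases le_total c (Nat.card H) with hle | hle
      · refine ⟨H, hH, ?_⟩
        have : c * (c + 1) ≤ 2 * (Nat.card H * Nat.card H) := by nlinarith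
        calc Nat.card G < Nat.card H * (Nat.card H * Nat.card H) := by nlinarith
          _ = Nat.card H ^ 3 := by ring
      · refine ⟨_, hne, ?_⟩
        have : Nat.card H * (c * (c + 1)) ≤ c * (2 * (c * c)) :=
          Nat.mul_le_mul hle (by nlinarith)
        calc Nat.card G < c * (c * c) := by nlinarith
          _ = c ^ 3 := by ring
  · -- a nontrivial centre
    have hZlt : Nat.card (G ⧸ Subgroup.center G) < Nat.card G := by
      have h := Subgroup.card_eq_card_quotient_mul_card_subgroup (Subgroup.center G)
      have h1 : 1 < Nat.card (Subgroup.center G) := Subgroup.one_lt_card_iff_ne_bot _ |>.2 hZ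
      have h2 : 0 < Nat.card (G ⧸ Subgroup.center G) := Nat.card_pos
      nlinarith
    by_cases hq : Even (Nat.card (G ⧸ Subgroup.center G)) ∧ 2 < Nat.card (G ⧸ Subgroup.center G)
    · obtain ⟨K, hK, hKc⟩ := ih _ hZlt hq.1 hq.2 rfl
      refine ⟨K.comap (QuotientGroup.mk' (Subgroup.center G)), fun e => hK ?_, ?_⟩
      · rw [← Subgroup.map_comap_eq_self_of_surjective (QuotientGroup.mk'_surjective _) K, e,
          Subgroup.map_top_of_surjective _ (QuotientGroup.mk'_surjective _)]
      · set L := K.comap (QuotientGroup.mk' (Subgroup.center G)) with hL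
        have hcard : Nat.card L = Nat.card K * Nat.card (Subgroup.center G) := by
          have h1 : L.index = K.index := Subgroup.index_comap_of_surjective _
            (QuotientGroup.mk'_surjective _)
          have h2 := L.card_mul_index
          rw [h1, Subgroup.card_eq_card_quotient_mul_card_subgroup (Subgroup.center G),
            ← K.card_mul_index, mul_right_comm] at h2
          exact Nat.eq_of_mul_eq_mul_right (Nat.pos_of_ne_zero Subgroup.index_ne_zero_of_finite) h2
        rw [Subgroup.card_eq_card_quotient_mul_card_subgroup (Subgroup.center G), hcard, mul_pow]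
        calc Nat.card (G ⧸ Subgroup.center G) * Nat.card (Subgroup.center G)
            < Nat.card K ^ 3 * Nat.card (Subgroup.center G) :=
              Nat.mul_lt_mul_of_pos_right hKc Nat.card_pos
          _ ≤ Nat.card K ^ 3 * Nat.card (Subgroup.center G) ^ 3 :=
              Nat.mul_le_mul_left _ (Nat.le_self_pow (by norm_num) _)
    · exfalso
      push Not at hq
      by_cases he : Even (Nat.card (G ⧸ Subgroup.center G))
      · have h2 : Nat.card (G ⧸ Subgroup.center G) = 2 := by
          have h0 : 0 < Nat.card (G ⧸ Subgroup.center G) := Nat.card_pos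
          obtain ⟨k, hk⟩ := he
          have := hq ⟨k, hk⟩
          omega
        exact hidx _ ((Subgroup.index_eq_card _).trans h2)
      · -- the Sylow 2-subgroup is central, so a 2-power element outside an index two subgroup
        let f : G →* Subgroup.center G := MonoidHom.transferCenterPow G
        have hodd : Odd (Subgroup.center G).index := by
          rw [Subgroup.index_eq_card]; exact Nat.not_even_iff_odd.1 he
        have hZ2 : Even (Nat.card (Subgroup.center G)) := by
          rw [Subgroup.card_eq_card_quotient_mul_card_subgroup (Subgroup.center G)] at heven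
          exact (Nat.even_mul.1 heven).resolve_left he
        obtain ⟨K, hK⟩ : ∃ K : Subgroup (Subgroup.center G), K.index = 2 := by
          let S : Sylow 2 (Subgroup.center G) := default
          have hcomm : ∀ a b : Subgroup.center G, Commute a b := fun a b =>
            Subtype.ext (Subgroup.mem_center_iff.1 b.2 a)
          haveI : (S : Subgroup (Subgroup.center G)).Normal :=
            ⟨fun a ha g => by rwa [(hcomm g a).eq, mul_inv_cancel_right]⟩
          let φ : Subgroup.center G →* Subgroup.center G :=
            MonoidHom.mk' (fun z => z ^ (S : Subgroup (Subgroup.center G)).index)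
              fun a b => (hcomm a b).mul_pow _
          have hφ : ∀ z, φ z ∈ (S : Subgroup (Subgroup.center G)) := fun z =>
            Subgroup.pow_index_mem _ z
          let ψ := φ.codRestrict (S : Subgroup (Subgroup.center G)).toSubmonoid hφ
          have hψ : Function.Surjective ψ := by
            intro s
            have hcop : (Nat.card (S : Subgroup (Subgroup.center G))).Coprime
                (S : Subgroup (Subgroup.center G)).index := S.card_coprime_index
            obtain ⟨r, hr⟩ := (powCoprime hcop).surjective s
            exact ⟨r.1, Subtype.ext (congrArg Subtype.val hr :)⟩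
          have hne : Nat.card (S : Subgroup (Subgroup.center G)) ≠ 1 := by
            intro h1
            have h2 := S.dvd_card_of_dvd_card (even_iff_two_dvd.1 hZ2)
            rw [h1] at h2
            omega
          obtain ⟨H, hH⟩ := exists_index_two_of_pgroup S.isPGroup' hne
          exact ⟨H.comap ψ, by rw [Subgroup.index_comap_of_surjective _ hψ]; exact hH⟩
        refine hidx (K.comap f) ?_
        have hd : (K.comap f).index ∣ 2 := by
          rw [Subgroup.index_comap, ← hK]
          exact Subgroup.relIndex_dvd_index_of_normal K f.range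
        refine ((Nat.dvd_prime Nat.prime_two).1 hd).resolve_left fun h1 => ?_
        rw [Subgroup.index_eq_one] at h1
        -- the index is odd, so the image of the centre is the centre
        have hall : ∀ z : Subgroup.center G, z ∈ K := by
          intro z
          have h3 : f (z : G) ∈ K := by
            rw [← Subgroup.mem_comap, h1]; exact Subgroup.mem_top _
          have h4 : f (z : G) = z ^ (Subgroup.center G).index :=
            Subtype.ext (MonoidHom.transferCenterPow_apply (z : G))
          obtain ⟨m, hm⟩ := hodd
          rw [h4, hm, pow_succ, pow_mul] at h3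
          have h5 : z * z ∈ K := by
            rw [Subgroup.mul_mem_iff_of_index_two hK]
          rw [← pow_two] at h5
          exact (Subgroup.mul_mem_cancel_left K (pow_mem h5 m)).1 h3
        rw [show K = ⊤ from eq_top_iff.2 fun z _ => hall z, Subgroup.index_top] at hK
        omega

end Cfsg.Agent.S0232
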