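import Cfsg.Statements.S0234
import Mathlib
import Cfsg.Agent.Lib.Solv.InvolutionCount
import Cfsg.Agent.Lib.Char.Linear

set_option autoImplicit false
open Cfsg

namespace Cfsg.Agent.S0234

/-- In a finite simple group G of even order greater than 2, the number n of involutions satisfies 3n < |G|. -/
theorem result {G : Type*} [Group G] [Finite G] [IsSimpleGroup G] (heven : Even (Nat.card G)) (hgt : 2 < Nat.card G) : 3 * Nat.card {t : G // orderOf t = 2} < Nat.card G := by
  classical
  haveI : Fintype G := Fintype.ofFinite G
  haveI : Fintype (Cfsg.IrrCharacter G) := Fintype.ofFinite _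
  obtain ⟨t, ht⟩ := exists_prime_orderOf_dvd_card' (G := G) 2 (even_iff_two_dvd.mp heven)
  have hnc : Subgroup.center G = ⊥ := by
    rcases (inferInstance : (Subgroup.center G).Normal).eq_bot_or_eq_top with h | h
    · exact h
    · exfalso
      letI : CommGroup G := { (inferInstance : Group G) with
        mul_comm := fun a b => (Subgroup.mem_center_iff.mp (h ▸ Subgroup.mem_top b : b ∈ Subgroup.center G) a) }
      have hp := (IsSimpleGroup.prime_card (α := G))
      rcases (Nat.dvd_prime hp).mp (even_iff_two_dvd.mp heven) with h2 | h2 <;> omega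
  have hperf : commutator G = ⊤ := by
    rcases (inferInstance : (commutator G).Normal).eq_bot_or_eq_top with h | h
    · exfalso
      have : Subgroup.center G = ⊤ := by
        rw [eq_top_iff]
        intro a _
        rw [Subgroup.mem_center_iff]
        intro b
        exact commutatorElement_eq_one_iff_mul_comm.mp (Subgroup.mem_bot.mp (h ▸ Subgroup.commutator_mem_commutator (Subgroup.mem_top b) (Subgroup.mem_top a)))
      rw [hnc] at this
      exact bot_ne_top this
    · exact h
  have hlin : ∀ l : G →* ℂˣ, ∀ g, l g = 1 := fun l g =>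
    Abelianization.commutator_subset_ker l (hperf ▸ Subgroup.mem_top g)
  -- nonprincipal irreducible characters have degree at least three
  have hdeg : ∀ χ : Cfsg.IrrCharacter G, (χ : G → ℂ) ≠ (fun _ => 1) → ∃ d : ℕ, 3 ≤ d ∧ (χ : G → ℂ) 1 = d := by
    intro χ hne
    obtain ⟨m, hm, hd⟩ := Cfsg.Agent.Char.IsIrrCharacter.degree_pos χ.2
    refine ⟨m, ?_, hd⟩
    by_contra hlt
    rcases (show m = 1 ∨ m = 2 by omega) with rfl | rfl
    · obtain ⟨l, hl⟩ := Cfsg.Agent.Char.IsCharacter.exists_monoidHom
        (Cfsg.Agent.Char.IsIrrCharacter.isCharacter χ.2) (by simpa using hd)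
      apply hne
      rw [hl]; funext g; simp [hlin l g]
    · obtain ⟨n, ρ, hρ, hχ⟩ := χ.2
      have hn : n = 2 := by
        rw [← hχ, ρ.char_one, Module.finrank_fin_fun] at hd
        exact_mod_cast hd
      subst hn
      let A : G →* Matrix (Fin 2) (Fin 2) ℂ := LinearMap.toMatrixAlgEquiv'.toMonoidHom.comp ρ
      have hdet : ∀ g, (A g).det = 1 := fun g => by
        have := congrArg Units.val (hlin (Matrix.detMonoidHom.comp A).toHomUnits g)
        simpa using this
      have hker : ∀ g, A g = 1 → g = 1 := by
        intro g hg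
        let f : G →* (Matrix (Fin 2) (Fin 2) ℂ)ˣ := A.toHomUnits
        rcases (inferInstance : f.ker.Normal).eq_bot_or_eq_top with h | h
        · exact Subgroup.mem_bot.mp (h ▸ (Units.ext hg : f g = 1))
        · exfalso
          have hall : ∀ x, A x = 1 := fun x => congrArg Units.val (h ▸ Subgroup.mem_top x : x ∈ f.ker)
          have hval : ∀ x, (χ : G → ℂ) x = 2 := fun x => by
            rw [← hχ, Representation.character, LinearMap.trace_eq_matrix_trace ℂ (Pi.basisFun ℂ (Fin 2)),
              LinearMap.toMatrix_eq_toMatrix']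
            change (A x).trace = 2
            rw [hall x]; simp
          have h1 := Cfsg.Agent.Char.IsIrrCharacter.classInner_self χ.2
          have h4 : Cfsg.classInner (χ : G → ℂ) (χ : G → ℂ) = 4 := by
            unfold Cfsg.classInner
            simp only [hval, map_ofNat, Finset.sum_const, Finset.card_univ, nsmul_eq_mul, Nat.card_eq_fintype_card]
            field_simp
            norm_num
          rw [h4] at h1
          norm_num at h1
      have ht2 : A t * A t = 1 := by
        have := pow_orderOf_eq_one t
        rw [ht, pow_two] at this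
        rw [← map_mul, this, map_one]
      have hadj : Matrix.adjugate (A t) = A t := by
        have h1 := Matrix.adjugate_mul (A t)
        rw [hdet, one_smul] at h1
        calc Matrix.adjugate (A t) = Matrix.adjugate (A t) * (A t * A t) := by rw [ht2, mul_one]
          _ = A t := by rw [← mul_assoc, h1, one_mul]
      rw [Matrix.adjugate_fin_two] at hadj
      have e00 : A t 1 1 = A t 0 0 := by simpa using congrFun (congrFun hadj 0) 0
      have e01 : A t 0 1 = 0 := by
        have := congrFun (congrFun hadj 0) 1
        simp at this; linear_combination -(1/2 : ℂ) * this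
      have e10 : A t 1 0 = 0 := by
        have := congrFun (congrFun hadj 1) 0
        simp at this; linear_combination -(1/2 : ℂ) * this
      have hscal : A t = A t 0 0 • (1 : Matrix (Fin 2) (Fin 2) ℂ) := by
        ext i j; fin_cases i <;> fin_cases j <;> simp [e00, e01, e10]
      have htc : t ∈ Subgroup.center G := by
        rw [Subgroup.mem_center_iff]
        intro g
        have : A (g * t * g⁻¹ * t⁻¹) = 1 := by
          have hg1 : A g * A g⁻¹ = 1 := by rw [← map_mul, mul_inv_cancel, map_one]
          have ht1 : A t * A t⁻¹ = 1 := by rw [← map_mul, mul_inv_cancel, map_one]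
          rw [map_mul, map_mul, map_mul, hscal, Matrix.mul_smul, Matrix.smul_mul, mul_one, hg1, ← hscal, ht1]
        exact mul_inv_eq_iff_eq_mul.mp (mul_inv_eq_one.mp (hker _ this))
      rw [hnc, Subgroup.mem_bot] at htc
      simp [htc] at ht
  have hsum := Cfsg.Agent.Solv.FS.sqCount_le (G := G)
  have hcount : Nat.card {x : G // x ^ 2 = 1} = Nat.card {x : G // orderOf x = 2} + 1 := by
    rw [Nat.card_eq_fintype_card, Nat.card_eq_fintype_card, Fintype.card_subtype, Fintype.card_subtype]
    have : (Finset.univ.filter fun x : G => x ^ 2 = 1) = insert (1 : G) (Finset.univ.filter fun x : G => orderOf x = 2) := by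
      ext x
      simp only [Finset.mem_filter, Finset.mem_univ, true_and, Finset.mem_insert]
      constructor
      · intro h
        by_cases hx : x = 1
        · exact Or.inl hx
        · exact Or.inr (orderOf_eq_prime h hx)
      · rintro (rfl | h)
        · simp
        · rw [← h]; exact pow_orderOf_eq_one x
    rw [this, Finset.card_insert_of_notMem (by simp)]
  let e : Cfsg.IrrCharacter G := ⟨fun _ => 1, Cfsg.Agent.Char.isIrrCharacter_one⟩
  have hd : ∀ χ : Cfsg.IrrCharacter G, ∃ d : ℕ, (χ : G → ℂ) 1 = d := fun χ => by
    obtain ⟨d, -, hd⟩ := Cfsg.Agent.Char.IsIrrCharacter.degree_pos χ.2; exact ⟨d, hd⟩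
  choose d hd using hd
  have hd3 : ∀ χ ∈ (Finset.univ : Finset (Cfsg.IrrCharacter G)).erase e, 3 * d χ ≤ d χ ^ 2 := by
    intro χ hχ
    obtain ⟨d', h3, hd'⟩ := hdeg χ (fun h => Finset.ne_of_mem_erase hχ (Subtype.ext h))
    have : d χ = d' := by exact_mod_cast (hd χ).symm.trans hd'
    rw [pow_two]; exact Nat.mul_le_mul_right _ (this ▸ h3)
  have hde : d e = 1 := by
    have := hd e
    change (1 : ℂ) = d e at this
    exact_mod_cast this.symm
  have hsq : ∑ χ : Cfsg.IrrCharacter G, d χ ^ 2 = Nat.card G := by
    have := Cfsg.Agent.Char.sum_sq_degree (G := G)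
    simp only [hd] at this
    exact_mod_cast this
  have hle : Nat.card {x : G // x ^ 2 = 1} ≤ ∑ χ : Cfsg.IrrCharacter G, d χ := by
    have h1 : (Nat.card {x : G // x ^ 2 = 1} : ℝ) ≤ ((∑ χ : Cfsg.IrrCharacter G, d χ : ℕ) : ℝ) := by
      refine hsum.trans ?_
      push_cast
      refine (Finset.sum_le_sum_of_subset_of_nonneg (Finset.filter_subset _ _) (fun χ _ _ => ?_)).trans (le_of_eq ?_)
      · rw [hd]; simp
      · exact Finset.sum_congr rfl (fun χ _ => by rw [hd]; simp)
    exact_mod_cast h1
  rw [← Finset.add_sum_erase _ _ (Finset.mem_univ e), hde] at hle hsq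
  have := Finset.sum_le_sum hd3
  rw [← Finset.mul_sum] at this
  simp only [one_pow] at hsq
  omega

end Cfsg.Agent.S0234
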