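import Cfsg.Statements.S0236
import Mathlib
import Cfsg.Agent.Lib.Inv.Dihedral

set_option autoImplicit false
open Cfsg

namespace Cfsg.Agent.S0236

/-- If x is an involution, the number of ordered pairs (u, v) of involutions with uv = x, plus one, equals the number of involutions in the centralizer of x. -/
theorem result {G : Type*} [Group G] [Finite G] (x : G) (hx : orderOf x = 2) : Nat.card {p : G × G // orderOf p.1 = 2 ∧ orderOf p.2 = 2 ∧ p.1 * p.2 = x} + 1 = Nat.card {t : G // orderOf t = 2 ∧ Commute t x} := by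
  open Cfsg.Agent.Inv in
  classical
  haveI := Fintype.ofFinite G
  have e : {p : G × G // orderOf p.1 = 2 ∧ orderOf p.2 = 2 ∧ p.1 * p.2 = x} ≃
      {t : G // (orderOf t = 2 ∧ Commute t x) ∧ t ≠ x} :=
    { toFun := fun p => ⟨p.1.1, ⟨p.2.1, by
        obtain ⟨⟨a, b⟩, ha, hb, rfl⟩ := p
        have := conj_mul_two ha hb
        rw [inv_eq_self_of_orderOf_two hx, mul_inv_eq_iff_eq_mul] at this
        exact this⟩, by
        obtain ⟨⟨a, b⟩, ha, hb, rfl⟩ := p
        exact fun h => ne_one_of_orderOf_two hb (mul_eq_left.1 h.symm)⟩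
      invFun := fun t => ⟨(t.1, t.1 * x), t.2.1.1, by
        obtain ⟨t, ⟨ht, hc⟩, hne⟩ := t
        apply orderOf_eq_two_of_mul_self
        · rw [mul_assoc, ← mul_assoc x t x, ← hc.eq, mul_assoc t x x, mul_self_of_orderOf_two hx,
            mul_one, mul_self_of_orderOf_two ht]
        · intro h
          exact hne (eq_inv_of_mul_eq_one_left h |>.trans (inv_eq_self_of_orderOf_two hx)), by
        show t.1 * (t.1 * x) = x
        rw [← mul_assoc, mul_self_of_orderOf_two t.2.1.1, one_mul]⟩
      left_inv := by
        rintro ⟨⟨a, b⟩, ha, hb, rfl⟩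
        apply Subtype.ext
        show (a, a * (a * b)) = (a, b)
        rw [← mul_assoc, mul_self_of_orderOf_two ha, one_mul]
      right_inv := fun t => rfl }
  rw [Nat.card_congr e, Nat.card_eq_fintype_card, Nat.card_eq_fintype_card, Fintype.card_subtype,
    Fintype.card_subtype, ← Finset.filter_filter, Finset.filter_ne',
    Finset.card_erase_add_one (by simp [hx, Commute.refl])]

end Cfsg.Agent.S0236
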