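import Cfsg.Statements.S0238
import Mathlib
import Cfsg.Agent.Lib.Inv.Dihedral

set_option autoImplicit false
open Cfsg

namespace Cfsg.Agent.S0238

/-- For every x in a finite group G, the number c of ordered pairs (u, v) of involutions with uv = x is at most |C_G(x)|; c = 0 when x is not conjugate to x⁻¹; and c + 2 ≤ |C_G(x)| when x is an involution. -/
theorem result {G : Type*} [Group G] [Finite G] (x : G) : Nat.card {p : G × G // orderOf p.1 = 2 ∧ orderOf p.2 = 2 ∧ p.1 * p.2 = x} ≤ Nat.card (Subgroup.centralizer ({x} : Set G)) ∧ (¬ IsConj x x⁻¹ → Nat.card {p : G × G // orderOf p.1 = 2 ∧ orderOf p.2 = 2 ∧ p.1 * p.2 = x} = 0) ∧ (orderOf x = 2 → Nat.card {p : G × G // orderOf p.1 = 2 ∧ orderOf p.2 = 2 ∧ p.1 * p.2 = x} + 2 ≤ Nat.card (Subgroup.centralizer ({x} : Set G))) := by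
  open Cfsg.Agent.Inv in
  classical
  haveI := Fintype.ofFinite G
  let A := {p : G × G // orderOf p.1 = 2 ∧ orderOf p.2 = 2 ∧ p.1 * p.2 = x}
  have hinv : ∀ p : A, p.1.1 * x * p.1.1⁻¹ = x⁻¹ := by
    rintro ⟨⟨a, b⟩, ha, hb, rfl⟩
    exact conj_mul_two ha hb
  have hinj : Function.Injective (fun p : A => p.1.1) := by
    rintro ⟨⟨a, b⟩, h⟩ ⟨⟨a', b'⟩, h'⟩ (heq : a = a')
    subst heq
    have : b = b' := mul_left_cancel (h.2.2.trans h'.2.2.symm)
    subst this; rfl
  refine ⟨?_, ?_, ?_⟩
  · by_cases hne : Nonempty A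
    · obtain ⟨p₀⟩ := hne
      refine Nat.card_le_card_of_injective
        (fun p : A => (⟨p₀.1.1 * p.1.1, Subgroup.mem_centralizer_singleton_iff.2 ?_⟩ :
          Subgroup.centralizer ({x} : Set G))) ?_
      · have h1 := hinv p₀
        have h2 := hinv p
        rw [inv_eq_self_of_orderOf_two p₀.2.1] at h1
        rw [mul_inv_eq_iff_eq_mul] at h2
        have h3 : p₀.1.1 * x⁻¹ = x * p₀.1.1 := by
          rw [← h1, ← mul_assoc, ← mul_assoc, mul_self_of_orderOf_two p₀.2.1, one_mul]
        calc p₀.1.1 * p.1.1 * x = p₀.1.1 * (p.1.1 * x) := mul_assoc _ _ _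
          _ = p₀.1.1 * x⁻¹ * p.1.1 := by rw [h2, mul_assoc]
          _ = x * (p₀.1.1 * p.1.1) := by rw [h3, mul_assoc]
      · intro p q h
        exact hinj (mul_left_cancel (congrArg Subtype.val h))
    · haveI := not_nonempty_iff.1 hne
      show Nat.card A ≤ _
      rw [Nat.card_of_isEmpty]
      exact Nat.zero_le _
  · intro h
    haveI : IsEmpty A := ⟨fun p => h (isConj_iff.2 ⟨_, hinv p⟩)⟩
    exact Nat.card_of_isEmpty
  · intro hx
    show Nat.card A + 2 ≤ _
    let C := Subgroup.centralizer ({x} : Set G)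
    let f : A → C := fun p => ⟨p.1.1, Subgroup.mem_centralizer_singleton_iff.2 (by
      have := hinv p
      rw [inv_eq_self_of_orderOf_two hx, mul_inv_eq_iff_eq_mul] at this
      exact this)⟩
    have hf : Function.Injective f := fun p q h => hinj (congrArg Subtype.val h)
    have hx' : x ∈ C := Subgroup.mem_centralizer_singleton_iff.2 rfl
    rw [Nat.card_eq_fintype_card, Nat.card_eq_fintype_card]
    have hcard : Fintype.card A = (Finset.univ.image f).card := by
      rw [Finset.card_image_of_injective _ hf, Finset.card_univ]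
    have hne : (1 : C) ≠ ⟨x, hx'⟩ := fun h => ne_one_of_orderOf_two hx (congrArg Subtype.val h).symm
    have hnot : ∀ c ∈ ({1, ⟨x, hx'⟩} : Finset C), c ∉ Finset.univ.image f := by
      intro c hc hm
      simp only [Finset.mem_image, Finset.mem_univ, true_and] at hm
      obtain ⟨⟨⟨a, b⟩, ha, hb, hab⟩, rfl⟩ := hm
      simp only [Finset.mem_insert, Finset.mem_singleton, f, Subtype.ext_iff, OneMemClass.coe_one] at hc
      rcases hc with rfl | rfl
      · simp at ha
      · exact ne_one_of_orderOf_two hb (mul_eq_left.1 hab)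
    have hd : Disjoint (Finset.univ.image f) ({1, ⟨x, hx'⟩} : Finset C) :=
      Finset.disjoint_right.2 hnot
    have := Finset.card_union_of_disjoint hd
    rw [Finset.card_pair hne] at this
    rw [hcard, ← this]
    exact Finset.card_le_univ _

end Cfsg.Agent.S0238
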