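import Cfsg.Statements.S0239
import Mathlib
import Cfsg.Agent.Lib.Inv.Dihedral

set_option autoImplicit false
open Cfsg

namespace Cfsg.Agent.S0239

/-- If some nontrivial element x of a finite group G is conjugate to x⁻¹, then |G| is even. -/
theorem result {G : Type*} [Group G] [Finite G] (x : G) (hx : x ≠ 1) (hreal : IsConj x x⁻¹) : Even (Nat.card G) := by
  open Cfsg.Agent.Inv in
  by_contra hodd
  rw [Nat.not_even_iff_odd] at hodd
  obtain ⟨g, hg⟩ := isConj_iff.1 hreal
  have hg2 : Commute (g ^ 2) x := by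
    show g ^ 2 * x = x * g ^ 2
    rw [mul_inv_eq_iff_eq_mul] at hg
    have hg' : g * x⁻¹ = x * g := by
      rw [← mul_inv_eq_iff_eq_mul]
      rw [← mul_inv_eq_iff_eq_mul] at hg
      rw [← inv_inj, mul_inv_rev, mul_inv_rev, inv_inv, inv_inv, ← mul_assoc, hg]
    calc g ^ 2 * x = g * (g * x) := by rw [pow_two, mul_assoc]
      _ = g * x⁻¹ * g := by rw [hg, mul_assoc]
      _ = x * g ^ 2 := by rw [hg', pow_two, mul_assoc]
  obtain ⟨m, hm⟩ := hodd.of_dvd_nat (orderOf_dvd_natCard g)
  have : Commute g x := by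
    have := hg2.pow_left (m + 1)
    rwa [← pow_mul, show 2 * (m + 1) = orderOf g + 1 by omega, pow_succ, pow_orderOf_eq_one,
      one_mul] at this
  rw [this.eq, mul_inv_cancel_right] at hg
  have h2 : orderOf x = 2 := orderOf_eq_two_of_mul_self (mul_eq_one_iff_eq_inv.2 hg) hx
  exact Nat.not_even_iff_odd.2 hodd (even_iff_two_dvd.2 (h2 ▸ orderOf_dvd_natCard x))

end Cfsg.Agent.S0239
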