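import Cfsg.Statements.S0240
import Mathlib
import Cfsg.Agent.Lib.Inv.Dihedral

set_option autoImplicit false
open Cfsg

namespace Cfsg.Agent.S0240

/-- Let G be a finite group with n involutions and H a subgroup with |H|·(n+1) > |G|. Then some nontrivial h ∈ H is strongly real in G: an involution t of G satisfies t h t⁻¹ = h⁻¹. -/
theorem result {G : Type*} [Group G] [Finite G] (H : Subgroup G) (hH : Nat.card G < Nat.card H * (Nat.card {t : G // orderOf t = 2} + 1)) : ∃ h : G, h ∈ H ∧ h ≠ 1 ∧ ∃ t : G, orderOf t = 2 ∧ t * h * t⁻¹ = h⁻¹ := by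
  open Cfsg.Agent.Inv in
  classical
  haveI := Fintype.ofFinite G
  let A := H × Option {t : G // orderOf t = 2}
  let f : A → G := fun p => (p.1 : G) * (p.2.elim 1 Subtype.val)
  have hn : ¬ Function.Injective f := by
    intro hi
    have h1 := Nat.card_le_card_of_injective f hi
    rw [Nat.card_prod, Finite.card_option] at h1
    omega
  simp only [Function.Injective, not_forall] at hn
  obtain ⟨⟨h₁, t₁⟩, ⟨h₂, t₂⟩, heq, hne⟩ := hn
  simp only [f] at heq
  have hsame : t₁ ≠ t₂ := by
    rintro rfl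
    exact hne (by rw [Subtype.ext (mul_right_cancel heq)])
  rcases t₁ with _ | ⟨a, ha⟩ <;> rcases t₂ with _ | ⟨b, hb⟩
  · exact absurd rfl hsame
  · simp only [Option.elim, mul_one] at heq
    refine ⟨b, ?_, ne_one_of_orderOf_two hb, b, hb, ?_⟩
    · have : b = (h₂ : G)⁻¹ * h₁ := by rw [heq, inv_mul_cancel_left]
      rw [this]; exact mul_mem (inv_mem h₂.2) h₁.2
    · rw [mul_inv_cancel_right, inv_eq_self_of_orderOf_two hb]
  · simp only [Option.elim, mul_one] at heq
    refine ⟨a, ?_, ne_one_of_orderOf_two ha, a, ha, ?_⟩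
    · have : a = (h₁ : G)⁻¹ * h₂ := by rw [← heq, inv_mul_cancel_left]
      rw [this]; exact mul_mem (inv_mem h₁.2) h₂.2
    · rw [mul_inv_cancel_right, inv_eq_self_of_orderOf_two ha]
  · simp only [Option.elim] at heq
    have hab : a ≠ b := fun h => hsame (by subst h; rfl)
    refine ⟨a * b, ?_, orderOf_mul_ne_zero_of_ne hb hab, a, ha, conj_mul_two ha hb⟩
    have h1 : a = (h₁ : G)⁻¹ * h₂ * b := by rw [mul_assoc, ← heq, inv_mul_cancel_left]
    rw [h1, mul_assoc, mul_self_of_orderOf_two hb, mul_one]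
    exact mul_mem (inv_mem h₁.2) h₂.2

end Cfsg.Agent.S0240
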