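import Cfsg.Statements.S0241
import Mathlib
import Cfsg.Agent.Lib.Inv.Dihedral

set_option autoImplicit false
open Cfsg

namespace Cfsg.Agent.S0241

/-- If x ≠ 1 is conjugate to x⁻¹ in a finite group G and |C_G(x)| is odd, then some involution t satisfies t x t⁻¹ = x⁻¹. -/
theorem result {G : Type*} [Group G] [Finite G] (x : G) (hx : x ≠ 1) (hreal : IsConj x x⁻¹) (hodd : Odd (Nat.card (Subgroup.centralizer ({x} : Set G)))) : ∃ t : G, orderOf t = 2 ∧ t * x * t⁻¹ = x⁻¹ := by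
  open Cfsg.Agent.Inv in
  have hxx : ¬ x * x = 1 := by
    intro h
    have h2 := orderOf_eq_two_of_mul_self h hx
    have hxc : x ∈ Subgroup.centralizer ({x} : Set G) := Subgroup.mem_centralizer_singleton_iff.2 rfl
    exact Nat.not_even_iff_odd.2 hodd (even_iff_two_dvd.2 (h2 ▸ Subgroup.orderOf_dvd_natCard _ hxc))
  obtain ⟨g, hg⟩ := isConj_iff.1 hreal
  obtain ⟨a, m, hm, ham⟩ : ∃ a m : ℕ, ¬ 2 ∣ m ∧ orderOf g = 2 ^ a * m :=
    Nat.exists_eq_pow_mul_and_not_dvd (orderOf_pos g).ne' 2 (by norm_num)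
  have key : ∀ k : ℕ, g ^ k * x * (g ^ k)⁻¹ = if Even k then x else x⁻¹ := by
    intro k
    induction k with
    | zero => simp
    | succ k ih =>
      rw [pow_succ', mul_inv_rev, show g * g ^ k * x * ((g ^ k)⁻¹ * g⁻¹)
        = g * (g ^ k * x * (g ^ k)⁻¹) * g⁻¹ by group, ih]
      by_cases hk : Even k
      · rw [if_pos hk, if_neg (by simp [Nat.even_add_one, hk]), hg]
      · rw [if_neg hk, if_pos (Nat.even_add_one.2 hk), ← conj_inv, hg, inv_inv]
  have hmodd : ¬ Even m := fun h => hm (even_iff_two_dvd.1 h)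
  have htx := key m
  rw [if_neg hmodd] at htx
  have ht1 : g ^ m ≠ 1 := by
    intro h
    rw [h] at htx
    simp at htx
    exact hxx (mul_eq_one_iff_eq_inv.2 htx)
  have hc : (g ^ m) ^ 2 ∈ Subgroup.centralizer ({x} : Set G) := by
    rw [Subgroup.mem_centralizer_singleton_iff, ← pow_mul]
    have := key (m * 2)
    rw [if_pos ⟨m, by ring⟩, mul_inv_eq_iff_eq_mul] at this
    exact this
  have h2 : (g ^ m) ^ 2 = 1 := by
    rw [← orderOf_eq_one_iff]
    have hd1 : orderOf ((g ^ m) ^ 2) ∣ 2 ^ a := by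
      refine (orderOf_pow_dvd (x := g ^ m) 2).trans (orderOf_dvd_of_pow_eq_one ?_)
      rw [← pow_mul, mul_comm, ← ham, pow_orderOf_eq_one]
    have hd2 := Subgroup.orderOf_dvd_natCard _ hc
    obtain ⟨j, -, hj⟩ := (Nat.dvd_prime_pow Nat.prime_two).1 hd1
    rcases j with _ | j
    · simpa using hj
    · exfalso
      refine Nat.not_even_iff_odd.2 hodd (even_iff_two_dvd.2 (dvd_trans ?_ hd2))
      rw [hj, pow_succ]; exact dvd_mul_left _ _
  exact ⟨g ^ m, orderOf_eq_two_of_mul_self (by rw [← pow_two, h2]) ht1, htx⟩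

end Cfsg.Agent.S0241
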