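import Cfsg.Statements.S0247
import Cfsg.Agent.Lib.Classical.SmallIso
import Cfsg.Agent.S0245

set_option autoImplicit false
open Cfsg

open Cfsg.Agent.Classical
open Matrix

namespace Cfsg.Agent.S0247

abbrev I4 := Fin 2 ⊕ Fin 2
abbrev Z := ZMod 2

/-- The columns: even vectors representing a symplectic basis modulo the all-ones vector. -/
def Bm : Matrix (Fin 6) I4 Z := Matrix.of fun k =>
  Sum.elim ![![1, 1, 0, 0, 0, 0] k, ![0, 0, 0, 1, 1, 0] k] ![![0, 1, 1, 0, 0, 0] k, ![0, 0, 0, 0, 1, 1] k]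

/-- Coordinates by pairing with the dual basis. -/
def Cm : Matrix I4 (Fin 6) Z := Matrix.of
  (Sum.elim ![![0, 1, 1, 0, 0, 0], ![0, 0, 0, 0, 1, 1]] ![![1, 1, 0, 0, 0, 0], ![0, 0, 0, 1, 1, 0]])

def Pm (σ : Equiv.Perm (Fin 6)) : Matrix (Fin 6) (Fin 6) Z := Matrix.of fun i j => if σ j = i then 1 else 0

theorem Pm_mul (σ τ : Equiv.Perm (Fin 6)) : Pm (σ * τ) = Pm σ * Pm τ := by
  ext i j
  simp [Pm, Matrix.mul_apply]
  try (split_ifs <;> simp_all)

theorem cb : Cm * Bm = 1 := by decide +kernel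
theorem row_sum : ∀ k : I4, ∑ i, Cm k i = 0 := by decide +kernel
theorem Pm_one : Pm 1 = 1 := by decide +kernel

def Dm (τ : Equiv.Perm (Fin 6)) : Matrix (Fin 6) I4 Z := Bm * (Cm * (Pm τ * Bm)) - Pm τ * Bm

def Em : Matrix (Fin 6) (Fin 6) Z := Bm * Cm - 1

theorem proj_rows : ∀ i k : Fin 6, Em i k - Em 0 k = Em i 0 - Em 0 0 := by
  decide +kernel

theorem col_sum : ∀ j : I4, ∑ k, Bm k j = 0 := by decide +kernel

theorem Pm_Bm (τ : Equiv.Perm (Fin 6)) (k : Fin 6) (j : I4) : (Pm τ * Bm) (τ k) j = Bm k j := by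
  rw [Matrix.mul_apply, Finset.sum_eq_single k]
  · simp [Pm]
  · intro b _ hb; simp [Pm, hb]
  · simp

theorem defect' (τ : Equiv.Perm (Fin 6)) : Dm τ = Matrix.of fun _ j => Dm τ 0 j := by
  have hD : Dm τ = Em * (Pm τ * Bm) := by rw [Dm, Em, Matrix.sub_mul, Matrix.one_mul, Matrix.mul_assoc Bm Cm]
  ext i j
  rw [Matrix.of_apply, hD, ← sub_eq_zero, Matrix.mul_apply, Matrix.mul_apply, ← Finset.sum_sub_distrib]
  simp only [← sub_mul, proj_rows i]
  rw [← Finset.mul_sum, ← Equiv.sum_comp τ fun k => (Pm τ * Bm) k j]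
  simp only [Pm_Bm, col_sum, mul_zero]

theorem defect (τ : Equiv.Perm (Fin 6)) (i : Fin 6) (j : I4) : (Bm * (Cm * (Pm τ * Bm)) - Pm τ * Bm) i j =
    (Bm * (Cm * (Pm τ * Bm)) - Pm τ * Bm) 0 j := congrFun (congrFun (defect' τ) i) j

def Mh : Equiv.Perm (Fin 6) →* Matrix I4 I4 Z where
  toFun σ := Cm * (Pm σ * Bm)
  map_one' := by rw [Pm_one, Matrix.one_mul, cb]
  map_mul' σ τ := by
    have h0 : Cm * (Pm σ * (Bm * (Cm * (Pm τ * Bm)) - Pm τ * Bm)) = 0 := by
      have hrows : Pm σ * (Bm * (Cm * (Pm τ * Bm)) - Pm τ * Bm) =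
          Matrix.of fun _ j => (Bm * (Cm * (Pm τ * Bm)) - Pm τ * Bm) 0 j := by
        ext i j
        rw [Matrix.mul_apply, Finset.sum_eq_single (σ⁻¹ i), Matrix.of_apply, defect τ]
        · simp [Pm]
        · intro b _ hb
          have : σ b ≠ i := fun e => hb (by rw [← e]; simp)
          simp [Pm, this]
        · simp
      rw [hrows]
      ext k j
      simp only [Matrix.mul_apply, Matrix.of_apply, ← Finset.sum_mul, row_sum, zero_mul, Matrix.zero_apply]
    rw [Matrix.mul_sub, Matrix.mul_sub, sub_eq_zero] at h0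
    rw [Pm_mul]
    simp only [Matrix.mul_assoc] at h0 ⊢
    exact h0.symm

theorem shift_zero : ∀ d : Fin 4 → Z,
    (∀ k, ∃ l, ∀ j : I4, Bm l j + d (Sum.elim ![0, 1] ![2, 3] j) = Bm k j) → d = 0 := by decide +kernel

theorem row_inj : ∀ k l : Fin 6, (fun j => Bm k j) = (fun j => Bm l j) → k = l := by decide +kernel

theorem Mh_inj (σ : Equiv.Perm (Fin 6)) (h : Mh σ = 1) : σ = 1 := by
  have h' : Cm * (Pm σ * Bm) = 1 := h
  set d : Fin 4 → Z := fun a => - Dm σ 0 (![Sum.inl 0, Sum.inl 1, Sum.inr 0, Sum.inr 1] a) with hd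
  have key : ∀ k j, Bm (σ k) j + d (Sum.elim ![0, 1] ![2, 3] j) = Bm k j := by
    intro k j
    have hj : d (Sum.elim ![0, 1] ![2, 3] j) = - Dm σ 0 j := by
      rcases j with i | i <;> fin_cases i <;> rfl
    have h2 := congrFun (congrFun (defect' σ) (σ k)) j
    rw [Matrix.of_apply] at h2
    rw [hj, ← h2, Dm, Matrix.sub_apply, h', Matrix.mul_one, Pm_Bm]
    ring
  have hd0 : d = 0 := by
    refine shift_zero d fun k => ⟨σ k, fun j => key k j⟩
  refine Equiv.ext fun k => row_inj _ _ (funext fun j => ?_)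
  have := key k j
  rwa [hd0, Pi.zero_apply, add_zero] at this

theorem Mh_swap : ∀ a b : Fin 6,
    Mh (Equiv.swap a b) * Matrix.J (Fin 2) Z * (Mh (Equiv.swap a b))ᵀ = Matrix.J (Fin 2) Z := by
  decide +kernel

theorem Mh_symp (σ : Equiv.Perm (Fin 6)) : Mh σ * Matrix.J (Fin 2) Z * (Mh σ)ᵀ = Matrix.J (Fin 2) Z := by
  induction σ using Equiv.Perm.swap_induction_on with
  | one => rw [map_one, Matrix.transpose_one, Matrix.one_mul, Matrix.mul_one]
  | swap_mul f x y _ ih =>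
    have h1 := Mh_swap x y
    rw [map_mul, Matrix.transpose_mul]
    calc Mh (Equiv.swap x y) * Mh f * Matrix.J (Fin 2) Z * ((Mh f)ᵀ * (Mh (Equiv.swap x y))ᵀ)
        = Mh (Equiv.swap x y) * (Mh f * Matrix.J (Fin 2) Z * (Mh f)ᵀ) * (Mh (Equiv.swap x y))ᵀ := by
          simp only [Matrix.mul_assoc]
      _ = Matrix.J (Fin 2) Z := by rw [ih, h1]

end Cfsg.Agent.S0247


namespace Cfsg.Agent.S0247

/-- Sp_4(2) is isomorphic to the symmetric group S_6. -/
theorem result {F : Type*} [Field F] [Fintype F] (hF : Fintype.card F = 2) : Nonempty (Matrix.symplecticGroup (Fin 2) F ≃* Equiv.Perm (Fin 6)) := by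
  classical
  haveI : Fact (Nat.Prime 2) := ⟨Nat.prime_two⟩
  obtain ⟨e⟩ := SmallIso.exists_zmod (p := 2) hF
  let Φ : Matrix.symplecticGroup (Fin 2) F →* Matrix.symplecticGroup (Fin 2) Z :=
    { toFun := fun M => ⟨(e : F →+* Z).mapMatrix M.1, by
        have h := M.2
        rw [SymplecticGroup.mem_iff] at h ⊢
        have hJ : (e : F →+* Z).mapMatrix (Matrix.J (Fin 2) F) = Matrix.J (Fin 2) Z := by
          ext i j; rcases i with i | i <;> rcases j with j | j <;> simp [Matrix.J, Matrix.one_apply, apply_ite e, map_neg]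
        rw [← hJ, show ((e : F →+* Z).mapMatrix M.1)ᵀ = (e : F →+* Z).mapMatrix M.1ᵀ from rfl, ← map_mul, ← map_mul, h]⟩
      map_one' := Subtype.ext (map_one _)
      map_mul' := fun a b => Subtype.ext (map_mul _ _ _) }
  have hΦ : Function.Injective Φ := fun a b h => Subtype.ext (Matrix.ext fun i j =>
    e.injective (congrFun (congrFun (congrArg Subtype.val h) i) j))
  let f : Equiv.Perm (Fin 6) →* Matrix.symplecticGroup (Fin 2) Z :=
    Mh.codRestrict _ fun σ => SymplecticGroup.mem_iff.2 (Mh_symp σ)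
  have hinj : Function.Injective f := (injective_iff_map_eq_one f).2 fun σ hσ =>
    Mh_inj σ (congrArg Subtype.val hσ)
  have hc2 : Nat.card (Matrix.symplecticGroup (Fin 2) F) = 720 := by
    rw [Cfsg.Agent.S0245.result hF 2, Finset.prod_range_succ, Finset.prod_range_one]
    norm_num
  have hc3 : Nat.card (Matrix.symplecticGroup (Fin 2) Z) = 720 := by
    rw [Cfsg.Agent.S0245.result (F := Z) (q := 2) (ZMod.card 2) 2, Finset.prod_range_succ, Finset.prod_range_one]
    norm_num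
  obtain ⟨j⟩ := SmallIso.of_hom f hinj (by rw [hc3, Nat.card_perm, Nat.card_fin]; rfl)
  exact ⟨(MulEquiv.ofBijective Φ (hΦ.bijective_of_nat_card_le (by rw [hc2, hc3]))).trans j⟩

end Cfsg.Agent.S0247
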