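import Cfsg.Statements.S0250
import Cfsg.Agent.Lib.Classical.SL2
import Cfsg.Agent.Lib.Classical.SmallAlt

set_option autoImplicit false
open Cfsg

open Cfsg.Agent.Classical

namespace Cfsg.Agent.S0250

/-- SL_2(2) is isomorphic to S_3. -/
theorem result {F : Type*} [Field F] [Fintype F] (hF : Fintype.card F = 2) : Nonempty (Matrix.SpecialLinearGroup (Fin 2) F ≃* Equiv.Perm (Fin 3)) := by
  classical
  let f : Matrix.SpecialLinearGroup (Fin 2) F →* Equiv.Perm (Fin 3) :=
    (SL2.pointsHom (F := F) (n := 3) (by omega)).comp (QuotientGroup.mk' _)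
  have hc : Nat.card (Subgroup.center (Matrix.SpecialLinearGroup (Fin 2) F)) = 1 := by
    rw [card_center_SL, hF]; rfl
  have hf : Function.Injective f := by
    refine (SL2.pointsHom_injective (F := F) (n := 3) (by omega)).comp ?_
    rw [← MonoidHom.ker_eq_bot_iff, QuotientGroup.ker_mk']
    exact Subgroup.eq_bot_of_card_eq _ hc
  refine ⟨MulEquiv.ofBijective f ?_⟩
  refine (Nat.bijective_iff_injective_and_card f).2 ⟨hf, ?_⟩
  rw [SL2.card_SL2, hF, Nat.card_perm, Nat.card_fin]
  decide

end Cfsg.Agent.S0250
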