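import Cfsg.Statements.S0253
import Cfsg.Agent.Lib.Classical.SL2
import Cfsg.Agent.Lib.Classical.SmallAlt

set_option autoImplicit false
open Cfsg

open Cfsg.Agent.Classical

namespace Cfsg.Agent.S0253

/-- PSL_2(5) is isomorphic to A_5. -/
theorem result {F : Type*} [Field F] [Fintype F] (hF : Fintype.card F = 5) : Nonempty (Matrix.ProjectiveSpecialLinearGroup (Fin 2) F ≃* alternatingGroup (Fin 5)) := by
  classical
  haveI := Matrix.ProjectiveSpecialLinearGroup.rank_two_simple (F := F)
    (by rw [Nat.card_eq_fintype_card]; omega)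
  refine SmallAlt.simple_sixty ?_
  have h := SL2.card_PSL2_mul (F := F)
  rw [hF] at h
  rw [show Nat.gcd 2 (5 - 1) = 2 from rfl] at h
  omega

end Cfsg.Agent.S0253
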