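import Cfsg.Statements.S0254
import Cfsg.Agent.Lib.Classical.FieldNine
import Cfsg.Agent.Lib.Classical.FieldFour
import Cfsg.Agent.Lib.Classical.SmallAlt
import Cfsg.Agent.Lib.Classical.SL2
import Cfsg.Agent.S0242

set_option autoImplicit false
open Cfsg

open Cfsg.Agent.Classical

namespace Cfsg.Agent.S0254

abbrev S := Matrix.SpecialLinearGroup (Fin 2) F9

def el (c : ℕ) : F9 := ⟨((c % 3 : ℕ) : ZMod 3), ((c / 3 % 3 : ℕ) : ZMod 3)⟩

def fromCode (c : ℕ) : F9 × F9 × F9 × F9 := (el (c % 9), el (c / 9 % 9), el (c / 81 % 9), el (c / 729 % 9))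

def codes : List ℕ := [730, 171, 3087, 1460, 1496, 2108, 6518, 99, 5931, 107, 5993, 3015, 6182, 1862, 802, 1054, 3313, 766, 1129, 3262, 1378, 5824, 5464, 3073, 103, 175, 3118, 6003, 3577, 1417, 179, 3149, 6061, 3601, 6250, 5548, 3338, 2663, 5818, 1532, 2150, 6497, 1784, 4007, 4367, 6038, 2183, 6548, 1823, 4001, 4364, 6230, 4094, 4208, 5657, 6278, 5540, 5962, 3050, 3509, 4292, 6421, 4990, 4022, 6206, 3534, 4281, 6476, 5009, 5476, 2807, 5746, 4829, 4101, 3390, 1096, 3292, 1456, 5812, 5389, 3940, 3562, 4273, 5461, 3634, 5729, 5396, 3929, 3364, 2644, 5668, 547, 4846, 277, 2824, 4352, 6303, 5556, 5736, 6447, 2598, 4782, 4084, 4201, 4440, 4422, 275, 2256, 2193, 545, 4944, 4185, 5643, 3915, 270, 2760, 2238, 540, 4377, 5373]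

def parents : List (ℕ × ℕ) := [(0, 0), (0, 0), (0, 1), (1, 0), (1, 1), (2, 0), (2, 1), (3, 0), (3, 1), (4, 0), (4, 1), (5, 1), (6, 0), (6, 1), (7, 1), (8, 0), (8, 1), (9, 1), (10, 0), (10, 1), (11, 0), (11, 1), (12, 1), (13, 0), (13, 1), (14, 0), (14, 1), (15, 1), (16, 0), (16, 1), (17, 0), (17, 1), (18, 1), (19, 0), (21, 0), (21, 1), (22, 0), (22, 1), (23, 1), (25, 1), (26, 0), (26, 1), (27, 0), (27, 1), (28, 1), (29, 0), (31, 0), (31, 1), (32, 0), (32, 1), (33, 1), (34, 1), (35, 0), (37, 0), (37, 1), (38, 0), (38, 1), (39, 1), (40, 1), (43, 0), (43, 1), (44, 0), (44, 1), (45, 1), (47, 0), (49, 0), (49, 1), (50, 0), (50, 1), (51, 1), (52, 1), (53, 1), (54, 0), (56, 0), (56, 1), (57, 0), (57, 1), (58, 0), (58, 1), (62, 0), (62, 1), (63, 0), (63, 1), (64, 1), (65, 1), (66, 0), (68, 0), (68, 1), (69, 0), (69, 1), (70, 0), (70, 1), (71, 1), (72, 1), (73, 1), (74, 0), (78, 0), (78, 1), (82, 0), (82, 1), (83, 1), (85, 1), (86, 1), (89, 0), (91, 0), (91, 1),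 (92, 1), (93, 0), (93, 1), (94, 1), (95, 1), (100, 0), (100, 1), (101, 0), (101, 1), (102, 1), (106, 0), (108, 0), (109, 1), (110, 0)]

def qmul (p q : F9 × F9 × F9 × F9) : F9 × F9 × F9 × F9 :=
  (p.1 * q.1 + p.2.1 * q.2.2.1, p.1 * q.2.1 + p.2.1 * q.2.2.2,
    p.2.2.1 * q.1 + p.2.2.2 * q.2.2.1, p.2.2.1 * q.2.1 + p.2.2.2 * q.2.2.2)

def qa : F9 × F9 × F9 × F9 := fromCode 171
def qb : F9 × F9 × F9 × F9 := fromCode 3087

def qgen (j : ℕ) : F9 × F9 × F9 × F9 := if j = 0 then qa else qb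

def elts : List (F9 × F9 × F9 × F9) := codes.map fromCode

theorem closed : (elts.all fun p => elts.contains (qmul p qa) && elts.contains (qmul p qb)) = true := by decide +kernel

theorem reach : ((List.range 119).all fun k =>
    let pr := parents.getD (k + 1) (0, 0)
    decide (pr.1 < k + 1) && elts.getD (k + 1) qa == qmul (elts.getD pr.1 qa) (qgen pr.2)) = true := by decide +kernel

theorem elts_nodup : elts.Nodup := by decide +kernel

theorem elts_zero : elts.getD 0 qa = (1, 0, 0, 1) ∧ elts.length = 120 ∧ elts.contains (-1, 0, 0, -1) = true := by decide +kernel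

def quad (g : S) : F9 × F9 × F9 × F9 := (g.1 0 0, g.1 0 1, g.1 1 0, g.1 1 1)

theorem quad_mul (g h : S) : quad (g * h) = qmul (quad g) (quad h) := by
  simp [quad, qmul, Matrix.mul_apply, Fin.sum_univ_two]

theorem quad_inj : Function.Injective quad := fun g h e => by
  simp only [quad, Prod.mk.injEq] at e
  obtain ⟨e1, e2, e3, e4⟩ := e
  refine Subtype.ext (Matrix.ext fun i j => ?_)
  fin_cases i <;> fin_cases j <;> assumption

def mk (p : F9 × F9 × F9 × F9) (h : p.1 * p.2.2.2 - p.2.1 * p.2.2.1 = 1) : S :=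
  ⟨!![p.1, p.2.1; p.2.2.1, p.2.2.2], by rw [Matrix.det_fin_two_of]; exact h⟩

def ga : S := mk qa (by decide +kernel)
def gb : S := mk qb (by decide +kernel)

theorem quad_ga : quad ga = qa ∧ quad gb = qb := by decide +kernel

/-- The binary icosahedral subgroup. -/
def H : Subgroup S := Subgroup.closure {ga, gb}

theorem mem_elts {g : S} (hg : g ∈ H) : quad g ∈ elts := by
  have hg' : g ∈ Submonoid.closure ({ga, gb} : Set S) := by
    rwa [← Subgroup.closure_toSubmonoid_of_finite]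
  refine Submonoid.closure_induction_right ?_ ?_ hg'
  · decide +kernel
  · rintro x - y hy ih
    have h := List.all_eq_true.1 closed _ ih
    simp only [Bool.and_eq_true, List.contains_iff_mem] at h
    rcases hy with rfl | rfl
    · rw [quad_mul, quad_ga.1]; exact h.1
    · rw [quad_mul, quad_ga.2]; exact h.2

theorem elts_mem : ∀ k, k < 120 → ∃ g ∈ H, quad g = elts.getD k qa := by
  intro k
  induction k using Nat.strong_induction_on with
  | _ k ih =>
    intro hk
    rcases Nat.eq_zero_or_pos k with rfl | hpos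
    · exact ⟨1, H.one_mem, by rw [elts_zero.1]; decide +kernel⟩
    · obtain ⟨j, rfl⟩ : ∃ j, k = j + 1 := ⟨k - 1, by omega⟩
      have h := List.all_eq_true.1 reach j (List.mem_range.2 (by omega))
      simp only [Bool.and_eq_true, decide_eq_true_eq, beq_iff_eq] at h
      obtain ⟨g, hg, e⟩ := ih _ h.1 (by omega)
      by_cases hj : (parents.getD (j + 1) (0, 0)).2 = 0
      · exact ⟨g * ga, H.mul_mem hg (Subgroup.subset_closure (Or.inl rfl)), by rw [quad_mul, quad_ga.1, e, h.2, qgen, if_pos hj]⟩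
      · exact ⟨g * gb, H.mul_mem hg (Subgroup.subset_closure (Or.inr rfl)), by rw [quad_mul, quad_ga.2, e, h.2, qgen, if_neg hj]⟩

theorem exists_of_elts {p : F9 × F9 × F9 × F9} (hp : p ∈ elts) : ∃ g ∈ H, quad g = p := by
  obtain ⟨i, hi⟩ := List.mem_iff_get.1 hp
  obtain ⟨g, hg, e⟩ := elts_mem i.val (i.2.trans_eq elts_zero.2.1)
  exact ⟨g, hg, by rw [e, List.getD_eq_getElem _ _ i.2]; exact hi⟩

theorem card_H : Nat.card H = 120 := by
  have e : H ≃ {p // p ∈ elts} := Equiv.ofBijective (fun g => ⟨quad g.1, mem_elts g.2⟩)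
    ⟨fun a b h => Subtype.ext (quad_inj (Subtype.mk.inj h)), fun ⟨p, hp⟩ => by
      obtain ⟨g, hg, e⟩ := exists_of_elts hp
      exact ⟨⟨g, hg⟩, Subtype.ext e⟩⟩
  rw [Nat.card_congr e, Nat.card_congr (elts_nodup.getEquiv elts).symm, Nat.card_fin, elts_zero.2.1]

theorem center_le : Subgroup.center S ≤ H := by
  intro z hz
  obtain ⟨c, hc, e⟩ := Matrix.SpecialLinearGroup.mem_center_iff.1 hz
  rw [Fintype.card_fin] at hc
  rcases sq_eq_one_iff.1 hc with rfl | rfl
  · rw [show z = 1 from Subtype.ext (by rw [← e, map_one]; rfl)]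
    exact H.one_mem
  · obtain ⟨g, hg, hgq⟩ := exists_of_elts (List.contains_iff_mem.1 elts_zero.2.2)
    have : z = g := quad_inj (by rw [hgq]; simp [quad, ← e])
    rwa [this]

end Cfsg.Agent.S0254


namespace Cfsg.Agent.S0254

/-- PSL_2(9) is isomorphic to A_6. -/
theorem result {F : Type*} [Field F] [Fintype F] (hF : Fintype.card F = 9) : Nonempty (Matrix.ProjectiveSpecialLinearGroup (Fin 2) F ≃* alternatingGroup (Fin 6)) := by
  classical
  obtain ⟨e⟩ := F9.nonempty_ringEquiv hF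
  obtain ⟨E⟩ := psl_congr (n := Fin 2) e
  haveI := Matrix.ProjectiveSpecialLinearGroup.rank_two_simple (F := F9)
    (by rw [Nat.card_eq_fintype_card, F9.card_eq]; omega)
  have hcard : Nat.card (Matrix.ProjectiveSpecialLinearGroup (Fin 2) F9) = 360 := by
    have h := SL2.card_PSL2_mul (F := F9)
    rw [F9.card_eq] at h
    rw [show Nat.gcd 2 (9 - 1) = 2 from rfl] at h
    omega
  let K : Subgroup (Matrix.ProjectiveSpecialLinearGroup (Fin 2) F9) := H.map (QuotientGroup.mk' _)
  have hidx : K.index = 6 := by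
    have h1 : K.index = H.index := H.index_map_eq (QuotientGroup.mk'_surjective _) (by rw [QuotientGroup.ker_mk']; exact center_le)
    have h2 := H.index_mul_card
    have h3 : Nat.card S = 720 := by
      have h := Cfsg.Agent.S0242.result (F := F9) F9.card_eq 2 (by norm_num)
      rw [Fin.prod_univ_two] at h
      norm_num [-Nat.card_eq_fintype_card] at h
      show Nat.card (Matrix.SpecialLinearGroup (Fin 2) F9) = 720
      omega
    rw [card_H, h3] at h2
    omega
  obtain ⟨f, hf⟩ := SmallAlt.exists_embedding K (fun e => by rw [e, Subgroup.index_top] at hidx; omega)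
  obtain ⟨f, hf⟩ : ∃ f : Matrix.ProjectiveSpecialLinearGroup (Fin 2) F9 →* Equiv.Perm (Fin 6), Function.Injective f := by
    rw [← hidx]; exact ⟨f, hf⟩
  obtain ⟨k⟩ := SmallAlt.equiv_alternating f hf (by rw [hcard]; rfl)
  exact ⟨E.trans k⟩

end Cfsg.Agent.S0254
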