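import Cfsg.Statements.S0255
import Cfsg.Agent.Lib.Classical.Order168Unique
import Cfsg.Agent.Lib.Classical.SL2
import Cfsg.Agent.S0249
import Cfsg.Agent.S0243

set_option autoImplicit false
open Cfsg

open Cfsg.Agent.Classical

namespace Cfsg.Agent.S0255

/-- PSL_2(7) is isomorphic to PSL_3(2). -/
theorem result {F K : Type*} [Field F] [Fintype F] [Field K] [Fintype K] (hF : Fintype.card F = 7) (hK : Fintype.card K = 2) : Nonempty (Matrix.ProjectiveSpecialLinearGroup (Fin 2) F ≃* Matrix.ProjectiveSpecialLinearGroup (Fin 3) K) := by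
  classical
  haveI := Matrix.ProjectiveSpecialLinearGroup.rank_two_simple (F := F)
    (by rw [Nat.card_eq_fintype_card]; omega)
  haveI := Cfsg.Agent.S0249.result (F := K) 3 le_rfl
  refine Order168.nonempty_mulEquiv ?_ ?_
  · have h' := SL2.card_PSL2_mul (F := F)
    rw [hF] at h'
    rw [show Nat.gcd 2 (7 - 1) = 2 from rfl] at h'
    omega
  · have h' := Cfsg.Agent.S0243.result (F := K) hK 3 (by norm_num)
    rw [Fin.prod_univ_three] at h'
    norm_num at h'
    rw [Nat.card_eq_fintype_card]
    exact h'

end Cfsg.Agent.S0255
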