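import Cfsg.Statements.S0256
import Cfsg.Agent.Lib.Classical.PlusSixTwo
import Cfsg.Agent.Lib.Classical.FieldFour
import Cfsg.Agent.Lib.Classical.SmallAlt
import Cfsg.Agent.S0249
import Cfsg.Agent.S0243

set_option autoImplicit false
open Cfsg

open Cfsg.Agent.Classical
open Matrix

namespace Cfsg.Agent.S0256

/-- Index pairs, in the order `01, 02, 03` and `23, 13, 12`. -/
def pr : Fin 3 ⊕ Fin 3 → Fin 4 × Fin 4 := Sum.elim ![(0, 1), (0, 2), (0, 3)] ![(2, 3), (1, 3), (1, 2)]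

/-- The exterior square. -/
def wedge {R : Type*} [CommRing R] (g : Matrix (Fin 4) (Fin 4) R) : Matrix (Fin 3 ⊕ Fin 3) (Fin 3 ⊕ Fin 3) R :=
  Matrix.of fun a b => g (pr a).1 (pr b).1 * g (pr a).2 (pr b).2 - g (pr a).1 (pr b).2 * g (pr a).2 (pr b).1

theorem wedge_one {R : Type*} [CommRing R] : wedge (1 : Matrix (Fin 4) (Fin 4) R) = 1 := by
  ext a b
  rcases a with a | a <;> rcases b with b | b <;> fin_cases a <;> fin_cases b <;> simp [wedge, pr, Matrix.one_apply]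

theorem wedge_mul {R : Type*} [CommRing R] (g h : Matrix (Fin 4) (Fin 4) R) : wedge (g * h) = wedge g * wedge h := by
  ext a b
  simp only [wedge, Matrix.mul_apply, Matrix.of_apply, Fin.sum_univ_four, Fintype.sum_sum_type, Fin.sum_univ_three,
    pr, Sum.elim_inl, Sum.elim_inr, Matrix.cons_val_zero, Matrix.cons_val_one, Matrix.cons_val_two,
    Matrix.tail_cons, Matrix.head_cons]
  generalize (Sum.elim ![((0 : Fin 4), (1 : Fin 4)), (0, 2), (0, 3)] ![(2, 3), (1, 3), (1, 2)] a) = p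
  generalize (Sum.elim ![((0 : Fin 4), (1 : Fin 4)), (0, 2), (0, 3)] ![(2, 3), (1, 3), (1, 2)] b) = r
  ring

/-- The signed hyperbolic form. -/
def pf {R : Type*} [CommRing R] (v : Fin 3 ⊕ Fin 3 → R) : R :=
  v (.inl 0) * v (.inr 0) - v (.inl 1) * v (.inr 1) + v (.inl 2) * v (.inr 2)

theorem pf_wedge {R : Type*} [CommRing R] (g : Matrix (Fin 4) (Fin 4) R) (v : Fin 3 ⊕ Fin 3 → R) :
    pf (wedge g *ᵥ v) = g.det * pf v := by
  simp [pf, wedge, pr, Matrix.mulVec, dotProduct, Fintype.sum_sum_type, Fin.sum_univ_three, Matrix.det_succ_row_zero,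
    Fin.sum_univ_succ, Fin.succAbove]
  ring

theorem wedge_pres {F : Type*} [Field F] [CharP F 2] (g : Matrix (Fin 4) (Fin 4) F) (hd : g.det = 1)
    (v : Fin 3 ⊕ Fin 3 → F) :
    Cfsg.quadFormPlus 3 F (wedge g *ᵥ v) = Cfsg.quadFormPlus 3 F v := by
  have h : ∀ u : Fin 3 ⊕ Fin 3 → F, Cfsg.quadFormPlus 3 F u = pf u := fun u => by
    simp [Cfsg.quadFormPlus, pf, Fin.sum_univ_three, CharTwo.sub_eq_add]
  rw [h, h, pf_wedge, hd, one_mul]

/-- An elementary transvection. -/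
def tv : Matrix (Fin 4) (Fin 4) (ZMod 2) := !![1, 1, 0, 0; 0, 1, 0, 0; 0, 0, 1, 0; 0, 0, 0, 1]

theorem tv_det : tv.det = 1 := by simp [tv, Matrix.det_succ_row_zero, Fin.sum_univ_succ]

theorem tv_wedge : wedge tv (.inl 1) (.inr 2) ≠ (1 : Matrix (Fin 3 ⊕ Fin 3) (Fin 3 ⊕ Fin 3) (ZMod 2)) (.inl 1) (.inr 2) := by
  decide +kernel

theorem witness : ∃ g : Matrix.SpecialLinearGroup (Fin 4) (ZMod 2), wedge (g : Matrix (Fin 4) (Fin 4) (ZMod 2)) ≠ 1 :=
  ⟨⟨tv, tv_det⟩, fun e => tv_wedge (congrFun (congrFun e _) _)⟩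

theorem zmod2_cases : ∀ c : ZMod 2, c = 0 ∨ c = 1 := by decide

end Cfsg.Agent.S0256


namespace Cfsg.Agent.S0256

/-- PSL_4(2) is isomorphic to A_8. -/
theorem result {F : Type*} [Field F] [Fintype F] (hF : Fintype.card F = 2) : Nonempty (Matrix.ProjectiveSpecialLinearGroup (Fin 4) F ≃* alternatingGroup (Fin 8)) := by
  classical
  haveI : Fact (Nat.Prime 2) := ⟨Nat.prime_two⟩
  obtain ⟨e⟩ := SmallIso.exists_zmod (p := 2) hF
  obtain ⟨E⟩ := psl_congr (n := Fin 4) e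
  haveI := Cfsg.Agent.S0249.result (F := ZMod 2) 4 (by norm_num)
  obtain ⟨j⟩ := PlusSixTwo.equiv_perm
  let w : Matrix.SpecialLinearGroup (Fin 4) (ZMod 2) →* Matrix (Fin 3 ⊕ Fin 3) (Fin 3 ⊕ Fin 3) (ZMod 2) :=
    { toFun := fun g => wedge (g : Matrix (Fin 4) (Fin 4) (ZMod 2))
      map_one' := wedge_one
      map_mul' := fun g h => wedge_mul _ _ }
  let f : Matrix.SpecialLinearGroup (Fin 4) (ZMod 2) →* Equiv.Perm (Fin 8) :=
    j.toMonoidHom.comp (w.toHomUnits.codRestrict (Cfsg.isometryGroup (ZMod 2) (Cfsg.quadFormPlus 3 (ZMod 2)))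
      fun g => fun u _ => wedge_pres _ g.2 u)
  have hcenter : ∀ z : Matrix.SpecialLinearGroup (Fin 4) (ZMod 2), z ∈ Subgroup.center _ → z = 1 := by
    intro z hz
    obtain ⟨c, hc, e⟩ := Matrix.SpecialLinearGroup.mem_center_iff.1 hz
    apply Subtype.ext
    have : c = 1 := by
      rcases zmod2_cases c with rfl | rfl
      · simp at hc
      · rfl
    show (z : Matrix (Fin 4) (Fin 4) (ZMod 2)) = 1
    rw [← e, this, map_one]
  let g : Matrix.ProjectiveSpecialLinearGroup (Fin 4) (ZMod 2) →* Equiv.Perm (Fin 8) :=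
    QuotientGroup.lift _ f fun z hz => by rw [MonoidHom.mem_ker, hcenter z hz, map_one]
  have hinj : Function.Injective g := by
    rw [← MonoidHom.ker_eq_bot_iff]
    rcases (MonoidHom.normal_ker g).eq_bot_or_eq_top with h | h
    · exact h
    · exfalso
      obtain ⟨u, hu⟩ := witness
      apply hu
      have h0 : (u : Matrix.ProjectiveSpecialLinearGroup (Fin 4) (ZMod 2)) ∈ g.ker := by rw [h]; exact Subgroup.mem_top _
      have h1 : f u = 1 := MonoidHom.mem_ker.1 h0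
      have h2 := j.injective (h1.trans j.map_one.symm)
      exact congrArg (fun x : Cfsg.isometryGroup (ZMod 2) (Cfsg.quadFormPlus 3 (ZMod 2)) => ((x : GL (Fin 3 ⊕ Fin 3) (ZMod 2)) : Matrix (Fin 3 ⊕ Fin 3) (Fin 3 ⊕ Fin 3) (ZMod 2))) h2
  have hcard : Nat.card (Matrix.ProjectiveSpecialLinearGroup (Fin 4) (ZMod 2)) = 20160 := by
    have h := Cfsg.Agent.S0243.result (F := ZMod 2) (q := 2) (ZMod.card 2) 4 (by norm_num)
    rw [Fin.prod_univ_four] at h
    norm_num [-Nat.card_eq_fintype_card] at h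
    exact h
  obtain ⟨k⟩ := SmallAlt.equiv_alternating g hinj (by rw [hcard]; rfl)
  exact ⟨E.trans k⟩

end Cfsg.Agent.S0256
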