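import Cfsg.Statements.S0257
import Cfsg.Agent.Lib.Classical.SL2Two

set_option autoImplicit false
open Cfsg

open Cfsg.Agent.Classical

namespace Cfsg.Agent.S0257

/-- SL_2(3) has a normal subgroup of index 3 isomorphic to the quaternion group of order 8, and its centre has order 2. -/
theorem result {F : Type*} [Field F] [Fintype F] (hF : Fintype.card F = 3) : (∃ Q : Subgroup (Matrix.SpecialLinearGroup (Fin 2) F), Q.Normal ∧ Q.index = 3 ∧ Nonempty (Q ≃* QuaternionGroup 2)) ∧ Nat.card (Subgroup.center (Matrix.SpecialLinearGroup (Fin 2) F)) = 2 := by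
  classical
  have h2 : (2 : F) ≠ 0 := SL2Two.two_ne_zero' (by rw [hF]; decide)
  haveI : Fact (Nat.Prime 2) := ⟨Nat.prime_two⟩
  haveI : Fintype (Matrix.SpecialLinearGroup (Fin 2) F) := Fintype.ofFinite _
  have hG : Nat.card (Matrix.SpecialLinearGroup (Fin 2) F) = 24 := by rw [SL2.card_SL2, hF]; norm_num
  refine ⟨?_, ?_⟩
  · obtain ⟨P⟩ : Nonempty (Sylow 2 (Matrix.SpecialLinearGroup (Fin 2) F)) := inferInstance
    have hP : Nat.card P = 8 := by
      rw [P.card_eq_multiplicity, hG, show (24 : ℕ) = 2 ^ 3 * 3 by norm_num,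
        Nat.factorization_mul (by norm_num) (by norm_num), Finsupp.add_apply,
        Nat.prime_two.factorization_pow, Finsupp.single_eq_same,
        Nat.factorization_eq_zero_of_not_dvd (by norm_num : ¬ 2 ∣ 3)]
      norm_num
    -- the elements of 2-power order
    let T : Set (Matrix.SpecialLinearGroup (Fin 2) F) := {g | orderOf g = 1 ∨ orderOf g = 2 ∨ orderOf g = 4}
    have hT : T.ncard ≤ 8 := by
      have hsub : T ⊆ ({1, SL2Two.negOne} : Set _) ∪ {g | (g : Matrix (Fin 2) (Fin 2) F).trace = 0} := by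
        rintro g (hg | hg | hg)
        · exact Or.inl (Or.inl (orderOf_eq_one_iff.1 hg))
        · exact Or.inl (Or.inr ((SL2Two.orderOf_two_iff h2 g).1 hg))
        · exact Or.inr ((SL2Two.orderOf_four_iff h2 g).1 hg)
      refine (Set.ncard_le_ncard hsub (Set.toFinite _)).trans ((Set.ncard_union_le _ _).trans ?_)
      have h1 := (Set.ncard_insert_le (1 : Matrix.SpecialLinearGroup (Fin 2) F) {SL2Two.negOne}).trans_eq (by rw [Set.ncard_singleton])
      have h2' : Set.ncard {g : Matrix.SpecialLinearGroup (Fin 2) F | (g : Matrix (Fin 2) (Fin 2) F).trace = 0} = 6 := by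
        rw [← Nat.card_coe_set_eq]
        exact ((SL2Two.card_trace_zero h2).2 (by rw [hF])).trans (by rw [hF])
      omega
    have hsub : ∀ S : Sylow 2 (Matrix.SpecialLinearGroup (Fin 2) F), ((S : Subgroup (Matrix.SpecialLinearGroup (Fin 2) F)) : Set (Matrix.SpecialLinearGroup (Fin 2) F)) ⊆ T := by
      intro S g hg
      have hcard : Nat.card S = 8 := by rw [← hP]; exact Nat.card_congr (S.equiv P).toEquiv
      have hd : orderOf g ∣ 2 ^ 3 := by
        rw [show 2 ^ 3 = 8 by norm_num, ← hcard]; exact Subgroup.orderOf_dvd_natCard (S : Subgroup (Matrix.SpecialLinearGroup (Fin 2) F)) hg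
      obtain ⟨k, hk, e⟩ := (Nat.dvd_prime_pow Nat.prime_two).1 hd
      have h8 : orderOf g ≠ 2 ^ 3 := fun e => by
        rcases SL2Two.two_pow_dvd_order h2 g e with h | h <;> rw [hF] at h <;> norm_num at h
      show orderOf g = 1 ∨ _ ∨ _
      interval_cases k <;> simp_all
    have heq : ∀ S : Sylow 2 (Matrix.SpecialLinearGroup (Fin 2) F), ((S : Subgroup (Matrix.SpecialLinearGroup (Fin 2) F)) : Set (Matrix.SpecialLinearGroup (Fin 2) F)) = T := fun S =>
      Set.eq_of_subset_of_ncard_le (hsub S) (by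
        rw [← Nat.card_coe_set_eq ((S : Subgroup (Matrix.SpecialLinearGroup (Fin 2) F)) : Set (Matrix.SpecialLinearGroup (Fin 2) F))]
        refine hT.trans_eq ?_
        rw [← hP]; exact Nat.card_congr (P.equiv S).toEquiv) (Set.toFinite _)
    haveI : Subsingleton (Sylow 2 (Matrix.SpecialLinearGroup (Fin 2) F)) :=
      ⟨fun A B => Sylow.ext (SetLike.coe_injective ((heq A).trans (heq B).symm))⟩
    refine ⟨P, Sylow.normal_of_subsingleton P, ?_, ?_⟩
    · have := (P : Subgroup (Matrix.SpecialLinearGroup (Fin 2) F)).card_mul_index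
      rw [hP, hG] at this
      omega
    · obtain ⟨k, hk, ⟨e⟩⟩ := SL2Two.sylow_quaternion h2 P
      have := Nat.card_congr e.toEquiv
      rw [hP, Nat.card_eq_fintype_card, QuaternionGroup.card] at this
      have hk1 : k = 1 := Nat.pow_right_injective (le_refl 2) (show 2 ^ k = 2 ^ 1 by omega)
      subst hk1
      exact ⟨e⟩
  · rw [Nat.card_congr (Equiv.subtypeEquivRight (q := fun g => g = 1 ∨ g = SL2Two.negOne) SL2Two.mem_center_iff)]
    show Nat.card ({g | g = 1 ∨ g = SL2Two.negOne} : Set (Matrix.SpecialLinearGroup (Fin 2) F)) = 2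
    rw [Nat.card_coe_set_eq, show {g : Matrix.SpecialLinearGroup (Fin 2) F | g = 1 ∨ g = SL2Two.negOne} = {1, SL2Two.negOne} by ext; simp]
    exact Set.ncard_pair (Ne.symm (SL2Two.negOne_ne_one h2))

end Cfsg.Agent.S0257
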