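import Cfsg.Statements.S0259
import Cfsg.Agent.Lib.Classical.SL2
import Cfsg.Agent.Lib.Classical.SmallAlt

set_option autoImplicit false
open Cfsg

open Cfsg.Agent.Classical

namespace Cfsg.Agent.S0259

/-- Distinct Sylow p-subgroups of GL_2(q), p the characteristic, intersect trivially. -/
theorem result {F : Type*} [Field F] [Fintype F] (p : ℕ) [Fact p.Prime] [CharP F p] (P Q : Sylow p (Matrix.GeneralLinearGroup (Fin 2) F)) (h : P ≠ Q) : (P : Subgroup (Matrix.GeneralLinearGroup (Fin 2) F)) ⊓ (Q : Subgroup (Matrix.GeneralLinearGroup (Fin 2) F)) = ⊥ := by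
  classical
  obtain ⟨g, hg⟩ := SL2.exists_conj_sylow p P
  obtain ⟨k, hk⟩ := SL2.exists_conj_sylow p Q
  rw [eq_bot_iff]
  intro x hx
  obtain ⟨hxP, hxQ⟩ := Subgroup.mem_inf.1 hx
  rw [hg] at hxP
  rw [hk] at hxQ
  obtain ⟨u, hu, rfl⟩ := hxP
  obtain ⟨v, hv, hvu⟩ := hxQ
  by_contra h1
  have hu1 : u ≠ 1 := by rintro rfl; simp at h1
  change k * v * k⁻¹ = g * u * g⁻¹ at hvu
  have hn : k⁻¹ * g ∈ Subgroup.normalizer (SL2.U F : Set (Matrix.GeneralLinearGroup (Fin 2) F)) := by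
    rw [SL2.mem_normalizer_U_iff]
    refine SL2.lower_eq_zero hu hu1 ?_
    have e : k⁻¹ * g * u * (k⁻¹ * g)⁻¹ = v := by
      calc k⁻¹ * g * u * (k⁻¹ * g)⁻¹ = k⁻¹ * (g * u * g⁻¹) * k := by group
        _ = v := by rw [← hvu]; group
    rw [e]; exact hv
  apply h
  refine Sylow.ext ?_
  rw [hg, hk]
  ext y
  simp only [Subgroup.mem_map, MulEquiv.coe_toMonoidHom, MulAut.conj_apply]
  constructor
  · rintro ⟨w, hw, rfl⟩
    exact ⟨k⁻¹ * g * w * (k⁻¹ * g)⁻¹, (Subgroup.mem_normalizer_iff.1 hn w).1 hw, by group⟩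
  · rintro ⟨w, hw, rfl⟩
    refine ⟨(k⁻¹ * g)⁻¹ * w * (k⁻¹ * g), (Subgroup.mem_normalizer_iff.1 hn _).2 ?_, by group⟩
    have : k⁻¹ * g * ((k⁻¹ * g)⁻¹ * w * (k⁻¹ * g)) * (k⁻¹ * g)⁻¹ = w := by group
    rw [this]; exact hw

end Cfsg.Agent.S0259
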