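import Cfsg.Statements.S0260
import Cfsg.Agent.Lib.Classical.SL2

set_option autoImplicit false
open Cfsg

open Cfsg.Agent.Classical
open Matrix

namespace Cfsg.Agent.S0260

variable {F : Type*} [Field F]

theorem det_U {u : GL (Fin 2) F} (hu : u ∈ SL2.U F) : ((u : Matrix (Fin 2) (Fin 2) F)).det = 1 := by
  obtain ⟨h1, h2, h3⟩ := (SL2.mem_U_iff u).1 hu
  rw [Matrix.det_fin_two, h1, h2, h3]; ring

/-- Conjugation by an element of `GL` on `SL`. -/
def conjGL (k : GL (Fin 2) F) : SpecialLinearGroup (Fin 2) F →* SpecialLinearGroup (Fin 2) F where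
  toFun s := ⟨((k * SpecialLinearGroup.toGL s * k⁻¹ : GL (Fin 2) F) : Matrix _ _ F), by
    rw [Matrix.GeneralLinearGroup.coe_mul, Matrix.GeneralLinearGroup.coe_mul, Matrix.det_mul, Matrix.det_mul,
      mul_right_comm, ← Matrix.det_mul, ← Matrix.GeneralLinearGroup.coe_mul, mul_inv_cancel,
      Matrix.GeneralLinearGroup.coe_one, Matrix.det_one, one_mul]
    exact s.2⟩
  map_one' := Subtype.ext (by simp)
  map_mul' a b := Subtype.ext (by
    show ((k * SpecialLinearGroup.toGL (a * b) * k⁻¹ : GL (Fin 2) F) : Matrix (Fin 2) (Fin 2) F) = _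
    rw [map_mul, show k * (SpecialLinearGroup.toGL a * SpecialLinearGroup.toGL b) * k⁻¹ =
      (k * SpecialLinearGroup.toGL a * k⁻¹) * (k * SpecialLinearGroup.toGL b * k⁻¹) by group]
    rfl)

theorem toGL_conjGL (k : GL (Fin 2) F) (s : SpecialLinearGroup (Fin 2) F) :
    SpecialLinearGroup.toGL (conjGL k s) = k * SpecialLinearGroup.toGL s * k⁻¹ := Units.ext rfl

theorem toGL_injective : Function.Injective (SpecialLinearGroup.toGL : SpecialLinearGroup (Fin 2) F → GL (Fin 2) F) :=
  fun a b e => Subtype.ext (congrArg Units.val e)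

theorem conjGL_surjective (k : GL (Fin 2) F) : Function.Surjective (conjGL k) := fun s =>
  ⟨conjGL k⁻¹ s, toGL_injective (by rw [toGL_conjGL, toGL_conjGL]; group)⟩

variable [Fintype F] (p : ℕ) [Fact p.Prime] [CharP F p]

theorem exists_map_eq (P : Sylow p (SpecialLinearGroup (Fin 2) F)) :
    ∃ g : GL (Fin 2) F, (P : Subgroup (SpecialLinearGroup (Fin 2) F)).map SpecialLinearGroup.toGL =
      (SL2.U F).map (MulAut.conj g).toMonoidHom := by
  obtain ⟨R, hR⟩ := (P.isPGroup'.map SpecialLinearGroup.toGL).exists_le_sylow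
  obtain ⟨g, hg⟩ := SL2.exists_conj_sylow p R
  refine ⟨g, hg ▸ le_antisymm hR fun x hx => ?_⟩
  have hdet : ((x : Matrix (Fin 2) (Fin 2) F)).det = 1 := by
    rw [hg] at hx
    obtain ⟨u, hu, rfl⟩ := hx
    show ((g * u * g⁻¹ : GL (Fin 2) F) : Matrix (Fin 2) (Fin 2) F).det = 1
    rw [Matrix.GeneralLinearGroup.coe_mul, Matrix.GeneralLinearGroup.coe_mul, Matrix.det_mul, Matrix.det_mul,
      mul_right_comm, ← Matrix.det_mul, ← Matrix.GeneralLinearGroup.coe_mul, mul_inv_cancel,
      Matrix.GeneralLinearGroup.coe_one, Matrix.det_one, one_mul, det_U hu]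
  have hle : (P : Subgroup (SpecialLinearGroup (Fin 2) F)) ≤ (R : Subgroup (GL (Fin 2) F)).comap SpecialLinearGroup.toGL :=
    Subgroup.map_le_iff_le_comap.1 hR
  have := P.is_maximal' (R.isPGroup'.comap_of_injective _ toGL_injective) hle
  have e : SpecialLinearGroup.toGL (⟨_, hdet⟩ : SpecialLinearGroup (Fin 2) F) = x := Units.ext rfl
  refine ⟨⟨_, hdet⟩, ?_, e⟩
  rw [← this]
  show SpecialLinearGroup.toGL _ ∈ (R : Subgroup (GL (Fin 2) F))
  rw [e]; exact hx

end Cfsg.Agent.S0260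


namespace Cfsg.Agent.S0260

/-- Any two distinct Sylow p-subgroups of SL_2(q), p the characteristic, generate SL_2(q). -/
theorem result {F : Type*} [Field F] [Fintype F] (p : ℕ) [Fact p.Prime] [CharP F p] (P Q : Sylow p (Matrix.SpecialLinearGroup (Fin 2) F)) (h : P ≠ Q) : (P : Subgroup (Matrix.SpecialLinearGroup (Fin 2) F)) ⊔ (Q : Subgroup (Matrix.SpecialLinearGroup (Fin 2) F)) = ⊤ := by
  obtain ⟨g, hg⟩ := Cfsg.Agent.S0260.exists_map_eq p P
  obtain ⟨g', hg'⟩ := Cfsg.Agent.S0260.exists_map_eq p Q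
  have hne : ((g⁻¹ * g' : GL (Fin 2) F) : Matrix (Fin 2) (Fin 2) F) 1 0 ≠ 0 := by
    intro h0
    apply h
    refine Sylow.ext (Subgroup.map_injective Cfsg.Agent.S0260.toGL_injective ?_)
    rw [hg, hg']
    have hn := (SL2.mem_normalizer_U_iff _).2 h0
    rw [Subgroup.mem_normalizer_iff] at hn
    ext x
    simp only [Subgroup.mem_map, MulEquiv.coe_toMonoidHom, MulAut.conj_apply]
    constructor
    · rintro ⟨u, hu, rfl⟩
      refine ⟨(g⁻¹ * g')⁻¹ * u * (g⁻¹ * g'), (hn _).2 ?_, by group⟩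
      simpa [mul_assoc] using hu
    · rintro ⟨u, hu, rfl⟩
      exact ⟨_, (hn u).1 hu, by group⟩
  set k := g⁻¹ * g' with hk
  set c := (k : Matrix (Fin 2) (Fin 2) F) 0 0 / (k : Matrix (Fin 2) (Fin 2) F) 1 0 with hc
  set u := SL2.uT (Multiplicative.ofAdd c) with hu
  set k' := u⁻¹ * k with hk'
  have h00 : (k' : Matrix (Fin 2) (Fin 2) F) 0 0 = 0 := by
    rw [hk', SL2.mul_apply_GL, hu, ← map_inv]
    simp [SL2.uT, hc]
    field_simp
    ring
  have h10 : (k' : Matrix (Fin 2) (Fin 2) F) 1 0 ≠ 0 := by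
    rw [hk', SL2.mul_apply_GL, hu, ← map_inv]
    simpa [SL2.uT] using hne
  set H := (P : Subgroup (SpecialLinearGroup (Fin 2) F)) ⊔ Q
  suffices hH : H.comap (Cfsg.Agent.S0260.conjGL (g * u)) = ⊤ by
    rw [eq_top_iff]
    intro s _
    obtain ⟨t, rfl⟩ := Cfsg.Agent.S0260.conjGL_surjective (g * u) s
    exact (Subgroup.mem_comap.1 (hH ▸ Subgroup.mem_top t : t ∈ H.comap _))
  rw [eq_top_iff, ← closure_transvection_eq_top, Subgroup.closure_le]
  rintro _ ⟨i, j, hij, x, rfl⟩
  fin_cases i <;> fin_cases j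
  · exact absurd rfl hij
  · refine Subgroup.mem_sup_left ?_
    have : SpecialLinearGroup.toGL (Cfsg.Agent.S0260.conjGL (g * u) (SpecialLinearGroup.transvection hij x)) ∈
        (P : Subgroup (SpecialLinearGroup (Fin 2) F)).map SpecialLinearGroup.toGL := by
      rw [hg, Cfsg.Agent.S0260.toGL_conjGL]
      refine ⟨u * SL2.uT (Multiplicative.ofAdd x) * u⁻¹, mul_mem (mul_mem ⟨_, rfl⟩ ⟨_, rfl⟩) (inv_mem ⟨_, rfl⟩), ?_⟩
      rw [show SpecialLinearGroup.toGL (SpecialLinearGroup.transvection hij x) = SL2.uT (Multiplicative.ofAdd x) from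
        Units.ext (by
          show (SpecialLinearGroup.transvection hij x : Matrix (Fin 2) (Fin 2) F) = _
          apply SL2.coord <;> simp [SpecialLinearGroup.transvection, Matrix.transvection, SL2.uT, Matrix.single])]
      simp only [MulEquiv.coe_toMonoidHom, MulAut.conj_apply]
      group
    obtain ⟨s, hs, he⟩ := this
    exact Cfsg.Agent.S0260.toGL_injective he ▸ hs
  · refine Subgroup.mem_sup_right ?_
    have : SpecialLinearGroup.toGL (Cfsg.Agent.S0260.conjGL (g * u) (SpecialLinearGroup.transvection hij x)) ∈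
        (Q : Subgroup (SpecialLinearGroup (Fin 2) F)).map SpecialLinearGroup.toGL := by
      rw [hg', Cfsg.Agent.S0260.toGL_conjGL]
      set y := x * (k' : Matrix (Fin 2) (Fin 2) F) 0 1 / (k' : Matrix (Fin 2) (Fin 2) F) 1 0 with hy
      refine ⟨SL2.uT (Multiplicative.ofAdd y), ⟨_, rfl⟩, ?_⟩
      have hl : (SpecialLinearGroup.toGL (SpecialLinearGroup.transvection hij x) : Matrix (Fin 2) (Fin 2) F) = !![1, 0; x, 1] := by
        show (SpecialLinearGroup.transvection hij x : Matrix (Fin 2) (Fin 2) F) = _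
        apply SL2.coord <;> simp [SpecialLinearGroup.transvection, Matrix.transvection, Matrix.single]
      clear_value y
      have e : SpecialLinearGroup.toGL (SpecialLinearGroup.transvection hij x) * k' = k' * SL2.uT (Multiplicative.ofAdd y) :=
        Units.ext (by
          clear_value k'
          apply SL2.coord <;> rw [SL2.mul_apply_GL, SL2.mul_apply_GL, hl, SL2.uT_apply] <;>
            simp [h00, hy] <;> field_simp <;> ring)
      simp only [MulEquiv.coe_toMonoidHom, MulAut.conj_apply]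
      rw [show g' = g * u * k' by rw [hk', hk]; group]
      rw [show g * u * k' * SL2.uT (Multiplicative.ofAdd y) * (g * u * k')⁻¹ =
        g * u * (k' * SL2.uT (Multiplicative.ofAdd y)) * k'⁻¹ * (g * u)⁻¹ by group, ← e]
      group
    obtain ⟨s, hs, he⟩ := this
    exact Cfsg.Agent.S0260.toGL_injective he ▸ hs
  · exact absurd rfl hij

end Cfsg.Agent.S0260
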