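import Cfsg.Statements.S0266
import Cfsg.Agent.Lib.Classical.ProjLine

set_option autoImplicit false
open scoped MatrixGroups
open Cfsg

open Cfsg.Agent.Classical
open Matrix

namespace Cfsg.Agent.S0266

/-- PGL_2(F) is sharply 3-transitive on the projective line: it is 3-transitive and the stabiliser of three distinct points is trivial. -/
theorem result {F : Type*} [Field F] : MulAction.IsMultiplyPretransitive (Matrix.ProjGenLinGroup (Fin 2) F) (Projectivization F (Fin 2 → F)) 3 ∧ ∀ (g : Matrix.ProjGenLinGroup (Fin 2) F) (a b c : Projectivization F (Fin 2 → F)), a ≠ b → a ≠ c → b ≠ c → g • a = a → g • b = b → g • c = c → g = 1 := by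
  have act : ∀ (g : GL (Fin 2) F) (v : Fin 2 → F), g • v = (g : Matrix (Fin 2) (Fin 2) F) *ᵥ v := fun _ _ => rfl
  have h3 : MulAction.IsMultiplyPretransitive (Matrix.ProjGenLinGroup (Fin 2) F) (Projectivization F (Fin 2 → F)) 3 := by
    refine ProjLine.three_transitive fun x => ?_
    obtain ⟨A, hA, hx⟩ := ProjLine.exists_mat x
    refine ⟨Matrix.ProjGenLinGroup.mk (Matrix.GeneralLinearGroup.mkOfDetNeZero A hA), fun i => ?_⟩
    rw [Projectivization.PGL.mk_smul_mk, ← hx i]
    exact Projectivization.mk_eq_mk_iff' _ _ _ _ _ |>.2 ⟨1, by rw [one_smul, act]; rfl⟩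
  refine ⟨h3, fun g a b c hab hac hbc ha hb hc => ?_⟩
  let x : Fin 3 ↪ Projectivization F (Fin 2 → F) := ⟨![a, b, c], by
    intro i j h
    fin_cases i <;> fin_cases j <;> first | rfl | (exfalso; simp at h; first | exact hab h | exact hab h.symm | exact hac h | exact hac h.symm | exact hbc h | exact hbc h.symm)⟩
  let std : Fin 3 ↪ Projectivization F (Fin 2 → F) := ⟨fun i => Projectivization.mk F (ProjLine.stdVec i) (ProjLine.stdVec_ne i), by
    intro i j h
    rw [Projectivization.mk_eq_mk_iff'] at h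
    obtain ⟨t, ht⟩ := h
    have h0 := congrFun ht 0
    have h1 := congrFun ht 1
    fin_cases i <;> fin_cases j <;> simp [ProjLine.stdVec] at h0 h1 ⊢ <;> simp_all⟩
  obtain ⟨k, hk⟩ := MulAction.isMultiplyPretransitive_iff.1 h3 std x
  have hfix : ∀ i, (k⁻¹ * g * k) • std i = std i := fun i => by
    have hki : k • std i = x i := congrArg (fun e : Fin 3 ↪ _ => e i) hk
    rw [mul_smul, mul_smul, hki, inv_smul_eq_iff, hki]
    fin_cases i
    · exact ha
    · exact hb
    · exact hc
  suffices k⁻¹ * g * k = 1 by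
    have e : g = k * (k⁻¹ * g * k) * k⁻¹ := by group
    rw [e, this]; group
  obtain ⟨u, hu⟩ := Matrix.ProjGenLinGroup.mk_surjective (k⁻¹ * g * k)
  rw [← hu] at hfix ⊢
  obtain ⟨l, hl⟩ := ProjLine.scalar_of_fix (u : Matrix (Fin 2) (Fin 2) F) fun i => by
    have : Matrix.ProjGenLinGroup.mk u • Projectivization.mk F (ProjLine.stdVec i) (ProjLine.stdVec_ne i) =
      Projectivization.mk F (ProjLine.stdVec i) (ProjLine.stdVec_ne i) := hfix i
    rw [Projectivization.PGL.mk_smul_mk, Projectivization.mk_eq_mk_iff'] at this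
    obtain ⟨l, hl⟩ := this
    exact ⟨l, by rw [hl, act]⟩
  rw [Matrix.ProjGenLinGroup.mk_eq_one, Subgroup.mem_center_iff]
  intro v
  apply Units.ext
  rw [Matrix.GeneralLinearGroup.coe_mul, Matrix.GeneralLinearGroup.coe_mul, hl]
  simp

end Cfsg.Agent.S0266
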