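import Cfsg.Statements.S0267
import Cfsg.Agent.Lib.Classical.ProjLine

set_option autoImplicit false
open Cfsg

open Cfsg.Agent.Classical
open Matrix

namespace Cfsg.Agent.S0267

/-- SL_2(q) is 3-transitive on the q+1 points of the projective line if and only if q is even. -/
theorem result {F : Type*} [Field F] [Fintype F] : MulAction.IsMultiplyPretransitive (Matrix.SpecialLinearGroup (Fin 2) F) (Projectivization F (Fin 2 → F)) 3 ↔ ringChar F = 2 := by
  have act : ∀ (g : Matrix.SpecialLinearGroup (Fin 2) F) (v : Fin 2 → F), g • v = (g : Matrix (Fin 2) (Fin 2) F) *ᵥ v := fun _ _ => rfl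
  constructor
  · intro h
    by_contra h2
    obtain ⟨ε, hε⟩ := FiniteField.exists_nonsquare h2
    have hε0 : ε ≠ 0 := fun e => hε (e ▸ IsSquare.zero)
    let w : Fin 3 → (Fin 2 → F) := ![![1, 0], ![0, 1], ![ε, 1]]
    have hw : ∀ i, w i ≠ 0 := fun i e => by
      have h0 := congrFun e 0
      have h1 := congrFun e 1
      fin_cases i <;> simp [w] at h0 h1
    let std : Fin 3 ↪ Projectivization F (Fin 2 → F) := ⟨fun i => Projectivization.mk F (ProjLine.stdVec i) (ProjLine.stdVec_ne i), by
      intro i j h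
      rw [Projectivization.mk_eq_mk_iff'] at h
      obtain ⟨t, ht⟩ := h
      have h0 := congrFun ht 0
      have h1 := congrFun ht 1
      fin_cases i <;> fin_cases j <;> simp [ProjLine.stdVec] at h0 h1 ⊢ <;> simp_all⟩
    let y : Fin 3 ↪ Projectivization F (Fin 2 → F) := ⟨fun i => Projectivization.mk F (w i) (hw i), by
      intro i j h
      rw [Projectivization.mk_eq_mk_iff'] at h
      obtain ⟨t, ht⟩ := h
      have h0 := congrFun ht 0
      have h1 := congrFun ht 1
      fin_cases i <;> fin_cases j <;> simp [w, hε0] at h0 h1 ⊢ <;> simp_all⟩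
    obtain ⟨g, hg⟩ := MulAction.isMultiplyPretransitive_iff.1 h std y
    have e : ∀ i, ∃ t : F, t • w i = (g : Matrix (Fin 2) (Fin 2) F) *ᵥ ProjLine.stdVec i := fun i => by
      have : g • Projectivization.mk F (ProjLine.stdVec i) (ProjLine.stdVec_ne i) = Projectivization.mk F (w i) (hw i) :=
        congrArg (fun e : Fin 3 ↪ _ => e i) hg
      rw [Projectivization.smul_mk, Projectivization.mk_eq_mk_iff'] at this
      obtain ⟨t, ht⟩ := this
      exact ⟨t, by rw [ht, act]⟩
    obtain ⟨l, e0⟩ := e 0
    obtain ⟨m, e1⟩ := e 1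
    obtain ⟨n, e2⟩ := e 2
    have a0 := congrFun e0 0
    have a1 := congrFun e0 1
    have b0 := congrFun e1 0
    have b1 := congrFun e1 1
    have c0 := congrFun e2 0
    have c1 := congrFun e2 1
    simp [w, ProjLine.stdVec, mulVec, dotProduct, Fin.sum_univ_two] at a0 a1 b0 b1 c0 c1
    have hd := g.2
    rw [Matrix.det_fin_two] at hd
    apply hε
    have hlm : l * m = 1 := by rw [a0, b1]; linear_combination hd - (g : Matrix (Fin 2) (Fin 2) F) 0 1 * a1
    have hεe : ε * m = l := by
      have hn : n = m := by linear_combination c1 + a1.symm - b1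
      rw [← hn]
      linear_combination c0 - a0 + b0.symm
    have hm0 : m ≠ 0 := fun e => by rw [e, mul_zero] at hlm; exact zero_ne_one hlm
    refine ⟨m⁻¹, ?_⟩
    field_simp
    linear_combination m * hεe + hlm
  · intro h2
    refine ProjLine.three_transitive fun x => ?_
    obtain ⟨A, hA, hx⟩ := ProjLine.exists_mat x
    obtain ⟨t, ht⟩ := FiniteField.isSquare_of_char_two h2 A.det
    have ht0 : t ≠ 0 := fun e => hA (by rw [ht, e, mul_zero])
    have hdet : (t⁻¹ • A).det = 1 := by rw [Matrix.det_smul, Fintype.card_fin, ht]; field_simp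
    let g : Matrix.SpecialLinearGroup (Fin 2) F := ⟨t⁻¹ • A, hdet⟩
    refine ⟨g, fun i => ?_⟩
    rw [Projectivization.smul_mk, ← hx i, Projectivization.mk_eq_mk_iff']
    exact ⟨t⁻¹, by rw [act, show (g : Matrix (Fin 2) (Fin 2) F) = t⁻¹ • A from rfl, Matrix.smul_mulVec]⟩

end Cfsg.Agent.S0267
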