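import Cfsg.Statements.S0268
import Cfsg.Agent.Lib.Classical.SL2
import Cfsg.Agent.Lib.Classical.SmallAlt

set_option autoImplicit false
open Cfsg

open Cfsg.Agent.Classical

namespace Cfsg.Agent.S0268

/-- For q odd, -1 is the unique involution of SL_2(q). -/
theorem result {F : Type*} [Field F] [Fintype F] (hF : Odd (Fintype.card F)) (g : Matrix.SpecialLinearGroup (Fin 2) F) (h1 : g ≠ 1) (h2 : g * g = 1) : (g : Matrix (Fin 2) (Fin 2) F) = -1 := by
  classical
  have h2g : g * g = 1 := h2
  clear h2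
  have h2 : (2 : F) ≠ 0 := Ring.two_ne_zero (by
    intro h
    have := FiniteField.even_card_of_char_two (F := F) h
    rw [Nat.odd_iff] at hF; omega)
  have hsq : ((g : Matrix (Fin 2) (Fin 2) F)) * g =
      (g : Matrix (Fin 2) (Fin 2) F).trace • (g : Matrix (Fin 2) (Fin 2) F) - 1 := by
    have := SL2.sq_eq (g : Matrix (Fin 2) (Fin 2) F)
    rwa [g.2, one_smul] at this
  set t := (g : Matrix (Fin 2) (Fin 2) F).trace with ht
  rw [← SL2.coe_mul', h2g] at hsq
  have h1' : t • (g : Matrix (Fin 2) (Fin 2) F) = (2 : F) • 1 := by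
    have : t • (g : Matrix (Fin 2) (Fin 2) F) - 1 = 1 := hsq.symm
    rw [two_smul]
    exact sub_eq_iff_eq_add.1 this
  have ht0 : t ≠ 0 := by
    intro h
    have := congrFun (congrFun h1' 0) 0
    simp [h] at this
    exact h2 this.symm
  have hg : (g : Matrix (Fin 2) (Fin 2) F) = (t⁻¹ * 2) • 1 := by
    rw [mul_smul, ← h1', inv_smul_smul₀ ht0]
  have hd := g.2
  rw [hg, Matrix.det_smul, Matrix.det_one, mul_one, Fintype.card_fin] at hd
  rcases sq_eq_one_iff.1 hd with h | h
  · exact absurd (Subtype.ext (by rw [hg, h, one_smul]; rfl)) h1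
  · rw [hg, h, neg_smul, one_smul]

end Cfsg.Agent.S0268
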