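import Cfsg.Statements.S0273
import Cfsg.Agent.Lib.Classical.SL2
import Cfsg.Agent.Lib.Classical.SmallAlt

set_option autoImplicit false
open Cfsg

open Cfsg.Agent.Classical

namespace Cfsg.Agent.S0273

/-- In GL_2(q) the centraliser of a non-trivial element of a Sylow p-subgroup (p the characteristic) has order q (q-1): the Sylow subgroup times the scalars. -/
theorem result {F : Type*} [Field F] [Fintype F] {q : ℕ} (hF : Fintype.card F = q) (p : ℕ) [Fact p.Prime] [CharP F p] (P : Sylow p (Matrix.GeneralLinearGroup (Fin 2) F)) (a : Matrix.GeneralLinearGroup (Fin 2) F) (ha : a ∈ P) (ha1 : a ≠ 1) : Nat.card (Subgroup.centralizer ({a} : Set (Matrix.GeneralLinearGroup (Fin 2) F))) = q * (q - 1) := by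
  classical
  obtain ⟨g, hg⟩ := SL2.exists_conj_sylow p P
  have ha' : a ∈ (P : Subgroup (Matrix.GeneralLinearGroup (Fin 2) F)) := ha
  rw [hg] at ha'
  obtain ⟨u, hu, rfl⟩ := ha'
  have hu1 : u ≠ 1 := by rintro rfl; simp at ha1
  rw [← hF, ← SL2.card_centralizer_U hu hu1]
  refine Nat.card_congr (Equiv.subtypeEquiv (MulAut.conj g⁻¹).toEquiv fun x => ?_)
  rw [Subgroup.mem_centralizer_singleton_iff, Subgroup.mem_centralizer_singleton_iff]
  show x * (g * u * g⁻¹) = g * u * g⁻¹ * x ↔ g⁻¹ * x * g⁻¹⁻¹ * u = u * (g⁻¹ * x * g⁻¹⁻¹)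
  constructor <;> intro h
  · calc g⁻¹ * x * g⁻¹⁻¹ * u = g⁻¹ * (x * (g * u * g⁻¹)) * g := by group
      _ = _ := by rw [h]; group
  · calc x * (g * u * g⁻¹) = g * (g⁻¹ * x * g⁻¹⁻¹ * u) * g⁻¹ := by group
      _ = _ := by rw [h]; group

end Cfsg.Agent.S0273
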