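import Cfsg.Statements.S0274
import Cfsg.Agent.Lib.Solv.DicksonSL2

set_option autoImplicit false
open Cfsg

open Cfsg.Agent.Solv
open scoped Pointwise

namespace Cfsg.Agent.S0274

variable {F : Type*} [Field F] [Fintype F] {p : ℕ} [Fact p.Prime] [CharP F p]

theorem pow_p_of_pgroup (hp : p ≠ 2) {P : Subgroup (Matrix.SpecialLinearGroup (Fin 2) F)}
    (hP : IsPGroup p P) {x : Matrix.SpecialLinearGroup (Fin 2) F} (hx : x ∈ P) : x ^ p = 1 := by
  obtain ⟨k, hk⟩ := hP ⟨x, hx⟩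
  have hk' : x ^ p ^ k = 1 := congrArg Subtype.val hk
  have h1 : ((x : Matrix (Fin 2) (Fin 2) F)) ^ p ^ k = 1 := by
    rw [← Matrix.SpecialLinearGroup.coe_pow, hk']; rfl
  have hnil : IsNilpotent ((x : Matrix (Fin 2) (Fin 2) F) - 1) := ⟨p ^ k, by
    rw [sub_pow_char_pow_of_commute p k (Commute.one_right _), h1, one_pow, sub_self]⟩
  have ht := isNilpotent_iff_eq_zero.1 (Matrix.isNilpotent_trace_of_isNilpotent hnil)
  rw [Matrix.trace_sub, Matrix.trace_one, Fintype.card_fin, Nat.cast_ofNat, sub_eq_zero] at ht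
  exact (Dickson.pow_p_eq_one_iff hp x).2 ht

theorem exists_noncommuting (hp : p ≠ 2) (H : Subgroup (Matrix.SpecialLinearGroup (Fin 2) F))
    (hH : 1 < Nat.card (Sylow p H)) :
    ∃ x ∈ H, ∃ y ∈ H, x ^ p = 1 ∧ y ^ p = 1 ∧ ¬ Commute x y := by
  haveI : Nontrivial (Sylow p H) := Finite.one_lt_card_iff_nontrivial.1 hH
  obtain ⟨P, Q, hne⟩ := exists_pair_ne (Sylow p H)
  by_contra hcon
  push Not at hcon
  have hle : (Q : Subgroup H) ≤ Subgroup.normalizer ((P : Subgroup H) : Set H) := by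
    refine fun y hy => Subgroup.centralizer_le_normalizer _ (Subgroup.mem_centralizer_iff.2 fun x hx => ?_)
    refine Subtype.ext (hcon x.1 x.2 y.1 y.2 ?_ ?_).eq
    · exact pow_p_of_pgroup hp (P.2.map H.subtype) ⟨x, hx, rfl⟩
    · exact pow_p_of_pgroup hp (Q.2.map H.subtype) ⟨y, hy, rfl⟩
  have hsup : IsPGroup p ((Q : Subgroup H) ⊔ (P : Subgroup H) : Subgroup H) := Q.2.to_sup_of_normal_right' P.2 hle
  have h1 := P.3 hsup le_sup_right
  have h2 := Q.3 hsup le_sup_left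
  exact hne (Sylow.ext (h1.symm.trans h2))

end Cfsg.Agent.S0274

namespace Cfsg.Agent.S0274

/-- Dickson's Theorem for SL_2: if p is odd and H is a subgroup of SL_2(q), q a power of p, with more than one Sylow p-subgroup, then H contains a copy of SL_2(p). -/
theorem result {F : Type*} [Field F] [Fintype F] (p : ℕ) [Fact p.Prime] [CharP F p] (hp : p ≠ 2) (H : Subgroup (Matrix.SpecialLinearGroup (Fin 2) F)) (hH : 1 < Nat.card (Sylow p H)) : ∃ K : Subgroup (Matrix.SpecialLinearGroup (Fin 2) F), K ≤ H ∧ Nonempty (K ≃* Matrix.SpecialLinearGroup (Fin 2) (ZMod p)) := by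
  obtain ⟨x, hx, y, hy, hxp, hyp, hnc⟩ := S0274.exists_noncommuting hp H hH
  obtain ⟨f, hf, hle⟩ := Dickson.exists_SL2 hp H hx hy hxp hyp hnc
  exact ⟨f.range, hle, ⟨(MonoidHom.ofInjective hf).symm⟩⟩

end Cfsg.Agent.S0274
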