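import Cfsg.Statements.S0275
import Cfsg.Agent.Lib.Classical.SL2Two
import Cfsg.Agent.S0274

set_option autoImplicit false
open Cfsg

open Cfsg.Agent.Classical Cfsg.Agent.Solv

namespace Cfsg.Agent.S0275

/-- If p is odd and H is a subgroup of SL_2(q), q a power of p, with more than one Sylow p-subgroup, then the Sylow 2-subgroups of H are generalised quaternion. -/
theorem result {F : Type*} [Field F] [Fintype F] (p : ℕ) [Fact p.Prime] [CharP F p] (hp : p ≠ 2) (H : Subgroup (Matrix.SpecialLinearGroup (Fin 2) F)) (hH : 1 < Nat.card (Sylow p H)) (S : Sylow 2 H) : ∃ k : ℕ, 1 ≤ k ∧ Nonempty ((S : Subgroup H) ≃* QuaternionGroup (2 ^ k)) := by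
  classical
  haveI : Fact (Nat.Prime 2) := ⟨Nat.prime_two⟩
  have h2 : (2 : F) ≠ 0 := Dickson.two_ne hp
  have h2p : (2 : ZMod p) ≠ 0 := Dickson.two_ne (F := ZMod p) hp
  have huniq : ∀ x y : (S : Subgroup H), orderOf x = 2 → y ^ 2 = 1 → y ∈ Subgroup.zpowers x := by
    intro x y hx hy
    have hx' : (((x : H) : Matrix.SpecialLinearGroup (Fin 2) F)) = SL2Two.negOne := by
      rw [← SL2Two.orderOf_two_iff h2, Subgroup.orderOf_coe, Subgroup.orderOf_coe, hx]
    have hy' : ((y : H) : Matrix.SpecialLinearGroup (Fin 2) F) * (y : H) = 1 := by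
      rw [← sq]; exact congrArg (fun z : (S : Subgroup H) => ((z : H) : Matrix.SpecialLinearGroup (Fin 2) F)) hy
    rcases (SL2Two.sq_eq_one_iff h2 _).1 hy' with e | e
    · rw [show y = 1 from Subtype.ext (Subtype.ext e)]; exact one_mem _
    · rw [show y = x from Subtype.ext (Subtype.ext (e.trans hx'.symm))]; exact Subgroup.mem_zpowers x
  rcases Struct.cyclic_or_quaternion (p := 2) S.2 huniq with hc | ⟨-, n, hn, e⟩
  · exfalso
    obtain ⟨x, hx, y, hy, hxp, hyp, hnc⟩ := S0274.exists_noncommuting hp H hH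
    obtain ⟨f, hf, hle⟩ := Dickson.exists_SL2 hp H hx hy hxp hyp hnc
    obtain ⟨P⟩ : Nonempty (Sylow 2 (Matrix.SpecialLinearGroup (Fin 2) (ZMod p))) := inferInstance
    let g : Matrix.SpecialLinearGroup (Fin 2) (ZMod p) →* H := f.codRestrict H fun a => hle ⟨a, rfl⟩
    have hg : Function.Injective g := fun a b h => hf (congrArg Subtype.val h)
    obtain ⟨T, hT⟩ := (P.2.map g).exists_le_sylow
    obtain ⟨c, rfl⟩ := MulAction.exists_smul_eq H S T
    haveI : IsCyclic ((c • S : Sylow 2 H) : Subgroup H) :=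
      isCyclic_of_surjective (S.equiv (c • S)).toMonoidHom (S.equiv (c • S)).surjective
    haveI : IsCyclic ((P : Subgroup _).map g) := isCyclic_of_injective (Subgroup.inclusion hT) (Subgroup.inclusion_injective hT)
    exact SL2Two.sylow_not_cyclic h2p P
      (isCyclic_of_surjective ((P : Subgroup _).equivMapOfInjective g hg).symm.toMonoidHom
        ((P : Subgroup _).equivMapOfInjective g hg).symm.surjective)
  · exact ⟨n, hn, e⟩

end Cfsg.Agent.S0275
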