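import Cfsg.Statements.S0276
import Cfsg.Agent.Lib.Classical.SL2Two

set_option autoImplicit false
open Cfsg

open Cfsg.Agent.Classical

namespace Cfsg.Agent.S0276

/-- For q = 3 or 5 mod 8 the Sylow 2-subgroups of PSL_2(q) are elementary abelian of order 4. -/
theorem result {F : Type*} [Field F] [Fintype F] {q : ℕ} (hF : Fintype.card F = q) (hq : q % 8 = 3 ∨ q % 8 = 5) (P : Sylow 2 (Matrix.ProjectiveSpecialLinearGroup (Fin 2) F)) : IsKleinFour (P : Subgroup (Matrix.ProjectiveSpecialLinearGroup (Fin 2) F)) := by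
  have hodd : Odd (Fintype.card F) := Nat.odd_iff.2 (by omega)
  have h2 := SL2Two.two_ne_zero' hodd
  haveI : Fact (Nat.Prime 2) := ⟨Nat.prime_two⟩
  have hc := SL2.card_PSL2_mul (F := F)
  have hg : Nat.gcd 2 (Fintype.card F - 1) = 2 :=
    Nat.gcd_eq_left (Nat.dvd_of_mod_eq_zero (by omega))
  obtain ⟨t, m, hm, ht⟩ : ∃ t m : ℕ, m % 2 = 1 ∧
      Nat.card (Matrix.ProjectiveSpecialLinearGroup (Fin 2) F) = 2 ^ 2 * m := by
    refine ⟨0, Fintype.card F * (((Fintype.card F) ^ 2 - 1) / 8), ?_, ?_⟩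
    · obtain ⟨j, hj⟩ : ∃ j, Fintype.card F = 8 * j + 3 ∨ Fintype.card F = 8 * j + 5 := ⟨Fintype.card F / 8, by omega⟩
      rcases hj with hj | hj <;> rw [hj]
      · rw [show (8 * j + 3) ^ 2 - 1 = 8 * (8 * j ^ 2 + 6 * j + 1) by ring_nf; omega, Nat.mul_div_cancel_left _ (by norm_num : 0 < 8)]
        rw [Nat.mul_mod]; simp [Nat.add_mod, Nat.mul_mod]
      · rw [show (8 * j + 5) ^ 2 - 1 = 8 * (8 * j ^ 2 + 10 * j + 3) by ring_nf; omega, Nat.mul_div_cancel_left _ (by norm_num : 0 < 8)]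
        rw [Nat.mul_mod]; simp [Nat.add_mod, Nat.mul_mod]
    · rw [hg] at hc
      have h8 : 8 ∣ Fintype.card F ^ 2 - 1 := by
        obtain ⟨j, hj⟩ : ∃ j, Fintype.card F = 2 * j + 1 := hodd
        obtain ⟨s, hs⟩ := Nat.even_mul_succ_self j
        exact ⟨s, by rw [hj, show (2 * j + 1) ^ 2 = 4 * (j * (j + 1)) + 1 by ring, hs]; omega⟩
      obtain ⟨s, hs⟩ := h8
      rw [hs, Nat.mul_div_cancel_left _ (by norm_num : 0 < 8)]
      rw [hs] at hc
      exact Nat.eq_of_mul_eq_mul_left two_pos (hc.trans (by ring))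
  have hP : Nat.card P = 4 := by
    rw [P.card_eq_multiplicity, ht]
    have hm0 : m ≠ 0 := by omega
    rw [Nat.factorization_mul (by norm_num) hm0, Finsupp.add_apply, Nat.prime_two.factorization_pow,
      Finsupp.single_eq_same, Nat.factorization_eq_zero_of_not_dvd (by omega : ¬ 2 ∣ m)]
    norm_num
  refine ⟨hP, ?_⟩
  have hsq : ∀ x : P, x ^ 2 = 1 := by
    intro x
    have hd : orderOf x ∣ 2 ^ 2 := by rw [show 2 ^ 2 = 4 by norm_num, ← hP]; exact orderOf_dvd_natCard x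
    obtain ⟨k, hk, e⟩ := (Nat.dvd_prime_pow Nat.prime_two).1 hd
    have h4 := SL2Two.psl_no_four h2 (by omega) (x : Matrix.ProjectiveSpecialLinearGroup (Fin 2) F)
    rw [Subgroup.orderOf_coe, e] at h4
    rw [← orderOf_dvd_iff_pow_eq_one, e]
    interval_cases k <;> simp_all
  haveI : Nontrivial (P : Subgroup (Matrix.ProjectiveSpecialLinearGroup (Fin 2) F)) :=
    Finite.one_lt_card_iff_nontrivial.1 (by rw [hP]; norm_num)
  refine Monoid.exponent_eq_prime_iff Nat.prime_two |>.2 fun x hx => ?_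
  exact orderOf_eq_prime (hsq x) hx

end Cfsg.Agent.S0276
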