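import Cfsg.Statements.S0281
import Cfsg.Agent.Lib.Classical.SL2
import Cfsg.Agent.Lib.Classical.Unitary

set_option autoImplicit false
open Cfsg

open Cfsg.Agent.Classical
open Matrix

namespace Cfsg.Agent.S0281

variable {F : Type*} [Field F] [Fintype F] {q : ℕ}

theorem mem_iff (hF : Fintype.card F = q ^ 2) (σ : F →+* F) (hσ : ∀ a, σ a = a ^ q)
    (g : SpecialLinearGroup (Fin 2) F) :
    g ∈ Cfsg.SU 2 F q ↔ (g : Matrix (Fin 2) (Fin 2) F)ᵀ * (g : Matrix (Fin 2) (Fin 2) F).map σ = 1 := by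
  refine Iff.trans (Unitary.mem_GU_iff hF (SpecialLinearGroup.toGL g)) ?_
  rw [← Matrix.ext_iff]
  refine forall_congr' fun i => forall_congr' fun j => ?_
  simp [Cfsg.hermForm, Matrix.mul_apply, Matrix.one_apply, hσ, Matrix.SpecialLinearGroup.toGL]

theorem card_SU_two (hF : Fintype.card F = q ^ 2) : Nat.card (Cfsg.SU 2 F q) = q * (q ^ 2 - 1) := by
  have h := Unitary.card_SU_mul hF (show 1 ≤ 2 by norm_num)
  rw [Unitary.card_GU hF] at h
  simp [Finset.prod_range_succ] at h
  exact Nat.eq_of_mul_eq_mul_left (show 0 < q + 1 by omega) (h.trans (by ring))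

theorem exists_basis (hF : Fintype.card F = q ^ 2) (σ : F →+* F) (hσ : ∀ a, σ a = a ^ q) :
    ∃ (P : Matrix (Fin 2) (Fin 2) F) (d : F), d ≠ 0 ∧ Pᵀ * P.map σ = !![0, d; -d, 0] := by
  classical
  obtain ⟨σ', hσ', hne, hinv⟩ := Unitary.exists_frob hF
  have hσe : σ' = σ := RingHom.ext fun a => by rw [hσ, hσ']
  subst hσe
  obtain ⟨a, ha⟩ : ∃ a, σ' a ≠ a := by
    by_contra h; push_neg at h; exact hne (RingHom.ext h)
  set d := σ' a - a with hd
  have hd0 : d ≠ 0 := sub_ne_zero.2 ha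
  have hsd : σ' d = -d := by rw [hd, map_sub, hinv]; ring
  obtain ⟨c, hc⟩ := OrthBasis.exists_norm hne hinv (a := (-1 : F)) (by simp) (by simp)
  obtain ⟨u, hu, hu1⟩ : ∃ u : F, σ' u * u = 1 ∧ u ≠ 1 := by
    haveI : Nontrivial (Unitary.normOne F q) := Finite.one_lt_card_iff_nontrivial.1 (by
      rw [Unitary.card_normOne hF]; have := Unitary.one_lt_q hF; omega)
    obtain ⟨⟨u, hu⟩, hu1⟩ := exists_ne (1 : Unitary.normOne F q)
    refine ⟨u, ?_, fun e => hu1 (Subtype.ext (Units.ext e))⟩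
    rw [hσ', ← pow_succ, ← Units.val_pow_eq_pow_val, show u ^ (q + 1) = 1 from hu, Units.val_one]
  have hcu : 1 + σ' (c * u) * c ≠ 0 := by
    intro h
    apply hu1
    have h1 : σ' u = 1 := by
      rw [map_mul] at h
      have : -σ' u + 1 = 0 := by linear_combination h - σ' u * hc
      linear_combination -this
    have := congrArg σ' h1
    rwa [hinv, map_one] at this
  have hcu' : 1 + σ' c * (c * u) ≠ 0 := fun h => hcu (by
    have := congrArg σ' h
    rw [map_add, map_one, map_mul, hinv, map_zero] at this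
    linear_combination this)
  set l := σ' (d / (1 + σ' (c * u) * c)) with hl
  have hl1 : σ' l * (1 + σ' (c * u) * c) = d := by
    rw [hl, hinv]; exact div_mul_cancel₀ d hcu
  have hl2 : l * (1 + σ' c * (c * u)) = -d := by
    have := congrArg σ' hl1
    rw [map_mul, hinv, hsd, map_add, map_one, map_mul, hinv] at this
    linear_combination this
  clear_value l d
  refine ⟨!![1, l; c, l * (c * u)], d, hd0, ?_⟩
  ext i j
  fin_cases i <;> fin_cases j <;> simp [Matrix.mul_apply, Fin.sum_univ_two]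
  · linear_combination hc
  · rw [map_mul] at hl1; linear_combination hl1
  · linear_combination hl2
  · linear_combination l * σ' l * (σ' c * c) * hu + l * σ' l * hc

end Cfsg.Agent.S0281


namespace Cfsg.Agent.S0281

/-- SU_2(q) is isomorphic to SL_2(q). -/
theorem result {F K : Type*} [Field F] [Fintype F] [Field K] [Fintype K] {q : ℕ} (hF : Fintype.card F = q ^ 2) (hK : Fintype.card K = q) : Nonempty (Cfsg.SU 2 F q ≃* Matrix.SpecialLinearGroup (Fin 2) K) := by
  classical
  obtain ⟨σ, hσ, -, -⟩ := Unitary.exists_frob hF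
  obtain ⟨P, d, hd, hP⟩ := Cfsg.Agent.S0281.exists_basis hF σ hσ
  obtain ⟨ι⟩ : Nonempty (K →+* F) := by
    set r := ringChar K with hr
    obtain ⟨k, hrp, hk⟩ := FiniteField.card K r
    haveI : Fact r.Prime := ⟨hrp⟩
    haveI : CharP F r := by
      obtain ⟨m, hsp, hm⟩ := FiniteField.card F (ringChar F)
      have : ringChar F = r := by
        have h1 : ringChar F ^ (m : ℕ) = r ^ ((k : ℕ) * 2) := by rw [← hm, hF, ← hK, hk, pow_mul]
        have h2 : ringChar F ∣ r ^ ((k : ℕ) * 2) := h1 ▸ dvd_pow_self _ m.pos.ne'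
        exact (Nat.prime_dvd_prime_iff_eq hsp hrp).1 (hsp.dvd_of_dvd_pow h2)
      exact this ▸ ringChar.charP F
    letI := ZMod.algebra K r
    letI := ZMod.algebra F r
    refine (FiniteField.nonempty_algHom_of_finrank_dvd (F := ZMod r) (K := K) (L := F) ?_).map AlgHom.toRingHom
    have h1 := FiniteField.pow_finrank_eq_card r K
    have h2 := FiniteField.pow_finrank_eq_card r F
    rw [hF, ← hK, ← h1, ← pow_mul] at h2
    exact ⟨2, Nat.pow_right_injective hrp.two_le h2⟩
  have hfix : ∀ x, σ (ι x) = ι x := fun x => by rw [hσ, ← map_pow, ← hK, FiniteField.pow_card]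
  have hPdet : P.det ≠ 0 := fun h => by
    have := congrArg Matrix.det hP
    rw [Matrix.det_mul, Matrix.det_transpose, h, zero_mul, Matrix.det_fin_two_of] at this
    simp [hd] at this
  have hu : IsUnit P.det := isUnit_iff_ne_zero.2 hPdet
  have hmem : ∀ g : SpecialLinearGroup (Fin 2) K, (P * (g : Matrix (Fin 2) (Fin 2) K).map ι * P⁻¹).det = 1 := fun g => by
    rw [Matrix.det_mul, Matrix.det_mul, mul_right_comm, ← Matrix.det_mul, Matrix.mul_nonsing_inv _ hu,
      Matrix.det_one, one_mul, ← RingHom.mapMatrix_apply, ← RingHom.map_det, g.2, map_one]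
  let f : SpecialLinearGroup (Fin 2) K → SpecialLinearGroup (Fin 2) F := fun g => ⟨_, hmem g⟩
  have hf : ∀ g, f g ∈ Cfsg.SU 2 F q := fun g => by
    rw [Cfsg.Agent.S0281.mem_iff hF σ hσ]
    show (P * (g : Matrix (Fin 2) (Fin 2) K).map ι * P⁻¹)ᵀ * (P * (g : Matrix (Fin 2) (Fin 2) K).map ι * P⁻¹).map σ = 1
    set G := (g : Matrix (Fin 2) (Fin 2) K).map ι with hG
    have hGs : G.map σ = G := by ext i j; simp [hG, hfix]
    have hGd : G.det = 1 := by rw [hG, ← RingHom.mapMatrix_apply, ← RingHom.map_det, g.2, map_one]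
    have hJ : Gᵀ * !![0, d; -d, 0] * G = !![0, d; -d, 0] := by
      rw [Matrix.det_fin_two] at hGd
      clear_value G
      ext i j
      fin_cases i <;> fin_cases j <;> simp [Matrix.mul_apply, Fin.sum_univ_two] <;>
        first | ring1 | linear_combination d * hGd | linear_combination -d * hGd
    simp only [Matrix.map_mul, Matrix.transpose_mul, hGs]
    calc (P⁻¹)ᵀ * (Gᵀ * Pᵀ) * (P.map σ * G * (P⁻¹).map σ)
        = (P⁻¹)ᵀ * (Gᵀ * (Pᵀ * P.map σ) * G) * (P⁻¹).map σ := by simp only [Matrix.mul_assoc]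
      _ = (P⁻¹)ᵀ * (Pᵀ * P.map σ) * (P⁻¹).map σ := by rw [hP, hJ]
      _ = ((P⁻¹)ᵀ * Pᵀ) * (P.map σ * (P⁻¹).map σ) := by simp only [Matrix.mul_assoc]
      _ = 1 := by
        rw [← Matrix.transpose_mul, ← Matrix.map_mul, Matrix.mul_nonsing_inv _ hu]
        simp
  let φ : SpecialLinearGroup (Fin 2) K →* Cfsg.SU 2 F q :=
    MonoidHom.mk' (fun g => ⟨f g, hf g⟩) (fun g h => Subtype.ext (Subtype.ext (by
      show P * ((g : Matrix (Fin 2) (Fin 2) K) * (h : Matrix (Fin 2) (Fin 2) K)).map ι * P⁻¹ =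
        (P * (g : Matrix (Fin 2) (Fin 2) K).map ι * P⁻¹) * (P * (h : Matrix (Fin 2) (Fin 2) K).map ι * P⁻¹)
      rw [Matrix.map_mul]
      simp only [Matrix.mul_assoc]
      rw [← Matrix.mul_assoc P⁻¹ P, Matrix.nonsing_inv_mul _ hu, Matrix.one_mul])))
  have hinj : Function.Injective φ := fun g h e => by
    have e' : P * (g : Matrix (Fin 2) (Fin 2) K).map ι * P⁻¹ = P * (h : Matrix (Fin 2) (Fin 2) K).map ι * P⁻¹ :=
      congrArg (fun x : Cfsg.SU 2 F q => ((x : SpecialLinearGroup (Fin 2) F) : Matrix (Fin 2) (Fin 2) F)) e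
    have e'' := congrArg (fun M => P⁻¹ * M * P) e'
    simp only [Matrix.mul_assoc, Matrix.nonsing_inv_mul _ hu, Matrix.mul_one] at e''
    rw [← Matrix.mul_assoc, Matrix.nonsing_inv_mul _ hu, Matrix.one_mul, ← Matrix.mul_assoc,
      Matrix.nonsing_inv_mul _ hu, Matrix.one_mul] at e''
    exact Subtype.ext (Matrix.map_injective ι.injective e'')
  refine ⟨(MulEquiv.ofBijective φ ((Nat.bijective_iff_injective_and_card φ).2 ⟨hinj, ?_⟩)).symm⟩
  rw [Cfsg.Agent.S0281.card_SU_two hF, SL2.card_SL2, hK]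

end Cfsg.Agent.S0281
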