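import Cfsg.Statements.S0282
import Cfsg.Agent.Lib.Classical.Unitary
import Cfsg.Agent.Lib.Char.Burnside

set_option autoImplicit false
open Cfsg

open Cfsg.Agent.Classical

namespace Cfsg.Agent.S0282

/-- PSU_3(2) is a solvable group of order 72. -/
theorem result {F : Type*} [Field F] [Fintype F] (hF : Fintype.card F = 4) : Nat.card (Cfsg.PSU 3 F 2) = 72 ∧ Group.IsSolvable (Cfsg.PSU 3 F 2) := by
  have hF' : Fintype.card F = 2 ^ 2 := by rw [hF]; norm_num
  have h : Nat.card (Cfsg.PSU 3 F 2) = 72 := by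
    have h1 := Unitary.card_SU_mul hF' (show 1 ≤ 3 by norm_num)
    rw [Unitary.card_GU hF' 3, Subgroup.card_eq_card_quotient_mul_card_subgroup (Subgroup.center (Cfsg.SU 3 F 2)),
      Unitary.card_center_SU hF' (show 2 ≤ 3 by norm_num)] at h1
    simp only [Finset.prod_range_succ, Finset.prod_range_zero] at h1
    norm_num [Nat.even_iff] at h1
    show Nat.card (↥(Cfsg.SU 3 F 2) ⧸ Subgroup.center (Cfsg.SU 3 F 2)) = 72
    omega
  refine ⟨h, Cfsg.Agent.Char.solvable_of_card_prime_pow_mul 2 3 Nat.prime_two Nat.prime_three 72 _ h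
    ⟨3, 2, by norm_num⟩⟩

end Cfsg.Agent.S0282
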