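import Cfsg.Statements.S0289
import Cfsg.Agent.Lib.Classical.QuadZeros

set_option autoImplicit false
open Cfsg

open Cfsg.Agent.Classical

namespace Cfsg.Agent.S0289

/-- The hyperbolic quadratic form on F^(2m), m at least 1, has q^(2m-1) + q^m - q^(m-1) zeros (that is, (q^m - 1)(q^(m-1) + 1) non-zero isotropic vectors). -/
theorem result {F : Type*} [Field F] [Fintype F] {q : ℕ} (hF : Fintype.card F = q) (m : ℕ) (hm : 1 ≤ m) : Nat.card {v : Fin m ⊕ Fin m → F // Cfsg.quadFormPlus m F v = 0} = q ^ (2 * m - 1) + q ^ m - q ^ (m - 1) := by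
  classical
  let G : Unit → F := fun _ => 0
  let e : {v : Fin m ⊕ Fin m → F // Cfsg.quadFormPlus m F v = 0} ≃ QuadZeros.T G m :=
    { toFun := fun v => ⟨((), fun i => (v.1 (.inl i), v.1 (.inr i))), by
        simpa [G, Cfsg.quadFormPlus] using v.2⟩
      invFun := fun p => ⟨Sum.elim (fun i => (p.1.2 i).1) (fun i => (p.1.2 i).2), by
        simpa [G, Cfsg.quadFormPlus] using p.2⟩
      left_inv := fun v => Subtype.ext (funext fun i => by rcases i with i | i <;> rfl)
      right_inv := fun p => rfl }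
  have h := QuadZeros.card_eq G m
  rw [← Nat.card_congr e, hF, show Nat.card {d : Unit // G d = 0} = 1 by
    rw [Nat.card_eq_one_iff_unique]; exact ⟨inferInstance, ⟨⟨(), rfl⟩⟩⟩, show Nat.card Unit = 1 from Nat.card_unique] at h
  obtain ⟨k, rfl⟩ : ∃ k, m = k + 1 := ⟨m - 1, by omega⟩
  have hq : 1 < q := hF ▸ Fintype.one_lt_card
  rw [show 2 * (k + 1) - 1 = 2 * k + 1 by omega, show k + 1 - 1 = k by omega]
  have hle : q ^ k ≤ q ^ (2 * k + 1) + q ^ (k + 1) :=
    le_add_left (Nat.pow_le_pow_right (by omega) (by omega))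
  zify [hle]
  refine mul_left_cancel₀ (show (q : ℤ) ≠ 0 by omega) (h.trans ?_)
  push_cast
  ring

end Cfsg.Agent.S0289
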