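import Cfsg.Statements.S0290
import Cfsg.Agent.Lib.Classical.QuadZeros

set_option autoImplicit false
open Cfsg

open Cfsg.Agent.Classical

namespace Cfsg.Agent.S0290

/-- The minus-type quadratic form on F^(2m), m at least 1, has q^(2m-1) + q^(m-1) - q^m zeros (that is, (q^m + 1)(q^(m-1) - 1) non-zero isotropic vectors). -/
theorem result {F : Type*} [Field F] [Fintype F] {q : ℕ} (hF : Fintype.card F = q) (m : ℕ) (hm : 1 ≤ m) (a b : F) (hab : ∀ z₁ z₂ : F, z₁ ^ 2 + a * z₁ * z₂ + b * z₂ ^ 2 = 0 → z₁ = 0 ∧ z₂ = 0) : Nat.card {v : (Fin (m - 1) ⊕ Fin (m - 1)) ⊕ Fin 2 → F // Cfsg.quadFormMinus (m - 1) F a b v = 0} = q ^ (2 * m - 1) + q ^ (m - 1) - q ^ m := by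
  classical
  let G : F × F → F := fun z => z.1 ^ 2 + a * z.1 * z.2 + b * z.2 ^ 2
  let e : {v : (Fin (m - 1) ⊕ Fin (m - 1)) ⊕ Fin 2 → F // Cfsg.quadFormMinus (m - 1) F a b v = 0} ≃ QuadZeros.T G (m - 1) :=
    { toFun := fun v => ⟨((v.1 (.inr 0), v.1 (.inr 1)), fun i => (v.1 (.inl (.inl i)), v.1 (.inl (.inr i)))), by
        simpa [G, Cfsg.quadFormMinus, add_comm] using v.2⟩
      invFun := fun p => ⟨Sum.elim (Sum.elim (fun i => (p.1.2 i).1) (fun i => (p.1.2 i).2)) ![p.1.1.1, p.1.1.2], by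
        simpa [G, Cfsg.quadFormMinus, add_comm] using p.2⟩
      left_inv := fun v => Subtype.ext (funext fun i => by
        rcases i with (i | i) | i
        · rfl
        · rfl
        · fin_cases i <;> rfl)
      right_inv := fun p => rfl }
  have h := QuadZeros.card_eq G (m - 1)
  rw [← Nat.card_congr e, hF, show Nat.card {d : F × F // G d = 0} = 1 by
    rw [Nat.card_eq_one_iff_unique]
    exact ⟨⟨fun x y => Subtype.ext ((Prod.ext (hab _ _ x.2).1 (hab _ _ x.2).2 : x.1 = (0, 0)).trans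
      (Prod.ext (hab _ _ y.2).1 (hab _ _ y.2).2 : y.1 = (0, 0)).symm)⟩, ⟨⟨(0, 0), by simp [G]⟩⟩⟩,
    Nat.card_prod, Nat.card_eq_fintype_card (α := F), hF] at h
  obtain ⟨k, rfl⟩ : ∃ k, m = k + 1 := ⟨m - 1, by omega⟩
  simp only [Nat.add_sub_cancel] at h ⊢
  have hq : 1 < q := hF ▸ Fintype.one_lt_card
  have hle : q ^ (k + 1) ≤ q ^ (2 * (k + 1) - 1) + q ^ k :=
    le_add_right (Nat.pow_le_pow_right (by omega) (by omega))
  zify [hle]
  refine mul_left_cancel₀ (show (q : ℤ) ≠ 0 by omega) (h.trans ?_)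
  rw [show 2 * (k + 1) - 1 = 2 * k + 1 by omega]
  push_cast
  ring

end Cfsg.Agent.S0290
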