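import Cfsg.Statements.S0291
import Cfsg.Agent.Lib.Classical.QuadZeros

set_option autoImplicit false
open Cfsg

open Cfsg.Agent.Classical

namespace Cfsg.Agent.S0291

/-- For q odd, the form x_0^2 + sum_{i<m} x_i y_i on F^(2m+1) has exactly q^(2m) zeros. -/
theorem result {F : Type*} [Field F] [Fintype F] {q : ℕ} (hF : Fintype.card F = q) (hodd : Odd q) (m : ℕ) : Nat.card {v : Unit ⊕ (Fin m ⊕ Fin m) → F // Cfsg.quadFormOdd m F v = 0} = q ^ (2 * m) := by
  classical
  let G : F → F := fun z => z ^ 2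
  let e : {v : Unit ⊕ (Fin m ⊕ Fin m) → F // Cfsg.quadFormOdd m F v = 0} ≃ QuadZeros.T G m :=
    { toFun := fun v => ⟨(v.1 (.inl ()), fun i => (v.1 (.inr (.inl i)), v.1 (.inr (.inr i)))), by
        simpa [G, Cfsg.quadFormOdd] using v.2⟩
      invFun := fun p => ⟨Sum.elim (fun _ => p.1.1) (Sum.elim (fun i => (p.1.2 i).1) (fun i => (p.1.2 i).2)), by
        simpa [G, Cfsg.quadFormOdd] using p.2⟩
      left_inv := fun v => Subtype.ext (funext fun i => by rcases i with i | i | i <;> rfl)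
      right_inv := fun p => rfl }
  have h := QuadZeros.card_eq G m
  rw [← Nat.card_congr e, hF, show Nat.card {d : F // G d = 0} = 1 by
    rw [Nat.card_eq_one_iff_unique]
    exact ⟨⟨fun x y => Subtype.ext ((sq_eq_zero_iff.1 x.2).trans (sq_eq_zero_iff.1 y.2).symm)⟩, ⟨⟨0, by simp [G]⟩⟩⟩,
    Nat.card_eq_fintype_card (α := F), hF] at h
  have hq : 1 < q := hF ▸ Fintype.one_lt_card
  zify
  refine mul_left_cancel₀ (show (q : ℤ) ≠ 0 by omega) (h.trans ?_)
  ring

end Cfsg.Agent.S0291
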