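import Cfsg.Statements.S0292
import Cfsg.Agent.Lib.Classical.OmegaCenter
import Cfsg.Agent.S0286

set_option autoImplicit false
open Cfsg

open Cfsg.Agent.Classical
open Module QuadraticMap

namespace Cfsg.Agent.S0292

/-- 2 |PΩ_{2m+1}(q)| = q^(m^2) prod_{i=1}^{m} (q^(2i) - 1), for q odd and m at least 3 (type B_m). -/
theorem result {F : Type*} [Field F] [Fintype F] {q : ℕ} (hF : Fintype.card F = q) (hodd : Odd q) (m : ℕ) (hm : 3 ≤ m) : 2 * Nat.card (Cfsg.POmega F (Cfsg.quadFormOdd m F)) = q ^ (m ^ 2) * ∏ i ∈ Finset.range m, (q ^ (2 * (i + 1)) - 1) := by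
  classical
  subst hF
  have h2 := Disc.two_ne_zero_of_odd hodd
  have hO := Cfsg.Agent.S0286.result (F := F) rfl hodd m
  let Q : QuadraticForm F (Unit ⊕ (Fin m ⊕ Fin m) → F) :=
    (QuadraticMap.sq (R := F)).comp (LinearMap.proj (R := F) (φ := fun _ : Unit ⊕ (Fin m ⊕ Fin m) => F) (Sum.inl ())) +
      (PlusMax.QP (F := F) (m := m)).comp (LinearMap.funLeft F F Sum.inr)
  have eQ : Cfsg.quadFormOdd m F = ⇑Q := funext fun v => by
    show _ = v (Sum.inl ()) * v (Sum.inl ()) + PlusMax.QP (fun i => v (Sum.inr i))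
    rw [← pow_two]; rfl
  have hnd : (polarBilin Q).Nondegenerate := by
    have hp : ∀ u v, polar Q u v = 2 * (u (Sum.inl ()) * v (Sum.inl ())) +
        polar (PlusMax.QP (F := F) (m := m)) (fun i => u (Sum.inr i)) (fun i => v (Sum.inr i)) := fun u v => by
      simp only [polar, ← eQ, Cfsg.quadFormOdd, PlusMax.QP_apply, Cfsg.quadFormPlus, Pi.add_apply]
      ring
    have h1 : ∀ u, (∀ v, polar Q u v = 0) → u = 0 := fun u hu => by
      have e1 : u (Sum.inl ()) = 0 := by
        have h := hu (Sum.elim (fun _ => 1) 0)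
        rw [hp] at h
        simp [PlusMax.polar_QP] at h
        exact h.resolve_left h2
      have e2 : (fun i => u (Sum.inr i)) = 0 := PlusMax.nondeg.1 _ fun y => by
        have h := hu (Sum.elim (fun _ => 0) y)
        rw [hp] at h
        simp at h
        exact h
      funext s
      rcases s with x | i
      · exact e1
      · exact congrFun e2 i
    exact ⟨h1, fun y hy => h1 y fun x => by rw [polar_comm]; exact hy x⟩
  rw [eQ] at hO ⊢
  change 2 * Nat.card (commutator (Refl.O Q) ⧸ Subgroup.center _) = _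
  have h := Refl.card_POmega_odd_dim Q hnd (by simp; omega) h2 (by simp [parity_simps])
  rw [hO] at h
  linarith

end Cfsg.Agent.S0292
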