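import Cfsg.Statements.S0293
import Cfsg.Agent.Lib.Classical.OmegaCenter
import Cfsg.Agent.S0287

set_option autoImplicit false
open Cfsg

open Cfsg.Agent.Classical
open Module QuadraticMap

namespace Cfsg.Agent.S0293

/-- gcd(4, q^m - 1) |PΩ^+_{2m}(q)| = q^(m(m-1)) (q^m - 1) prod_{i=1}^{m-1} (q^(2i) - 1), m at least 4 (type D_m). -/
theorem result {F : Type*} [Field F] [Fintype F] {q : ℕ} (hF : Fintype.card F = q) (m : ℕ) (hm : 4 ≤ m) : Nat.gcd 4 (q ^ m - 1) * Nat.card (Cfsg.POmega F (Cfsg.quadFormPlus m F)) = q ^ (m * (m - 1)) * (q ^ m - 1) * ∏ i ∈ Finset.range (m - 1), (q ^ (2 * (i + 1)) - 1) := by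
  classical
  subst hF
  have hO := Cfsg.Agent.S0287.result (F := F) rfl m (by omega)
  change Nat.card (Cfsg.isometryGroup F ⇑(PlusMax.QP (F := F) (m := m))) = _ at hO
  have hn : 5 ≤ Fintype.card (Fin m ⊕ Fin m) := by simp; omega
  change Nat.gcd 4 _ * Nat.card (commutator (Refl.O (PlusMax.QP (F := F) (m := m))) ⧸ Subgroup.center _) = _
  have hq2 : 2 ≤ Fintype.card F := Fintype.one_lt_card
  have hpm : 1 ≤ Fintype.card F ^ m := Nat.one_le_pow _ _ (by omega)
  by_cases h2 : (2 : F) = 0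
  · have hch : ringChar F = 2 := CharP.ringChar_of_prime_eq_zero Nat.prime_two (by exact_mod_cast h2)
    haveI : CharP F 2 := ringChar.of_eq hch
    have he := FiniteField.even_card_iff_char_two.1 hch
    have hg : Nat.gcd 4 (Fintype.card F ^ m - 1) = 1 := by
      have hem : Even (Fintype.card F ^ m) := (Nat.even_iff.2 he).pow_of_ne_zero (by omega)
      rw [Nat.gcd_rec]
      have := Nat.even_iff.1 hem
      rcases (by omega : (Fintype.card F ^ m - 1) % 4 = 1 ∨ (Fintype.card F ^ m - 1) % 4 = 3) with h | h <;> rw [h] <;> rfl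
    have h := Refl.card_POmega_char_two (PlusMax.QP (F := F) (m := m)) PlusMax.nondeg hn
    rw [hO] at h
    rw [hg, one_mul]
    linarith
  · have hodd : Odd (Fintype.card F) := Nat.odd_iff.2 (FiniteField.odd_card_of_char_ne_two (Refl.ringChar_ne_two h2))
    obtain ⟨hsq, hns⟩ := Refl.card_POmega_even_dim (PlusMax.QP (F := F) (m := m)) PlusMax.nondeg hn h2 (by simp)
    rw [Disc.disc_QP, Disc.isSquare_neg_one_pow h2, ← (Disc.pow_mod_four hodd m).1] at hsq hns
    rw [Nat.gcd_rec]
    by_cases h4 : Fintype.card F ^ m % 4 = 1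
    · have h := hsq h4
      rw [hO] at h
      rw [show (Fintype.card F ^ m - 1) % 4 = 0 by omega, Nat.gcd_zero_left]
      linarith
    · have h := hns h4
      rw [hO] at h
      have := Nat.odd_iff.1 (hodd.pow : Odd (Fintype.card F ^ m))
      rw [show (Fintype.card F ^ m - 1) % 4 = 2 by omega, show Nat.gcd 2 4 = 2 from rfl]
      linarith

end Cfsg.Agent.S0293
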