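import Cfsg.Statements.S0295
import Cfsg.Agent.Lib.Classical.OddSimple

set_option autoImplicit false
open Cfsg

namespace Cfsg.Agent.S0295

/-- PΩ_{2m+1}(q) is simple for q odd and m at least 3. -/
theorem result {F : Type*} [Field F] [Fintype F] (hodd : Odd (Fintype.card F)) (m : ℕ) (hm : 3 ≤ m) : IsSimpleGroup (Cfsg.POmega F (Cfsg.quadFormOdd m F)) := by
  refine Cfsg.Agent.OddAut.pomega_simple (fun h => ?_) hm
  have hch : ringChar F = 2 := CharP.ringChar_of_prime_eq_zero Nat.prime_two (by exact_mod_cast h)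
  have := FiniteField.even_card_of_char_two hch
  rw [Nat.odd_iff] at hodd
  omega

end Cfsg.Agent.S0295
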