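import Cfsg.Statements.S0298
import Cfsg.Agent.S0286
import Cfsg.Agent.Lib.Classical.Linear

set_option autoImplicit false
open Cfsg

open Matrix
open scoped commutatorElement

namespace Cfsg.Agent.S0298

/-- Index type of the three coordinates. -/
abbrev I3 := Unit ⊕ (Fin 1 ⊕ Fin 1)

variable {F : Type*} [Field F]

/-- Trace zero matrix of a vector. -/
def toM : (I3 → F) →ₗ[F] Matrix (Fin 2) (Fin 2) F where
  toFun v := !![v (.inl ()), v (.inr (.inl 0)); v (.inr (.inr 0)), -v (.inl ())]
  map_add' u v := by ext i j; fin_cases i <;> fin_cases j <;> simp <;> ring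
  map_smul' c v := by ext i j; fin_cases i <;> fin_cases j <;> simp

/-- Coordinates of a matrix. -/
def ofM : Matrix (Fin 2) (Fin 2) F →ₗ[F] (I3 → F) where
  toFun M := Sum.elim (fun _ => M 0 0) (Sum.elim (fun _ => M 0 1) (fun _ => M 1 0))
  map_add' M N := by funext i; rcases i with _ | _ | _ <;> simp
  map_smul' c M := by funext i; rcases i with _ | _ | _ <;> simp

theorem ofM_toM (v : I3 → F) : ofM (toM v) = v := by
  funext i
  rcases i with _ | i | i
  · simp [ofM, toM]
  · simp [ofM, toM, Subsingleton.elim i 0]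
  · simp [ofM, toM, Subsingleton.elim i 0]

theorem toM_ofM {M : Matrix (Fin 2) (Fin 2) F} (h : M.trace = 0) : toM (ofM M) = M := by
  rw [Matrix.trace_fin_two] at h
  ext i j
  fin_cases i <;> fin_cases j <;> simp [toM, ofM]
  linear_combination -h

theorem trace_toM (v : I3 → F) : (toM v).trace = 0 := by
  simp [toM, Matrix.trace_fin_two]

theorem form_eq (v : I3 → F) : Cfsg.quadFormOdd 1 F v = -(toM v).det := by
  simp [Cfsg.quadFormOdd, toM, Matrix.det_fin_two]
  ring

/-- Conjugation. -/
def L (g : GL (Fin 2) F) : (I3 → F) →ₗ[F] (I3 → F) :=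
  ofM ∘ₗ (LinearMap.mulRight F ((g⁻¹ : GL (Fin 2) F) : Matrix (Fin 2) (Fin 2) F)) ∘ₗ
    (LinearMap.mulLeft F (g : Matrix (Fin 2) (Fin 2) F)) ∘ₗ toM

theorem L_apply (g : GL (Fin 2) F) (v : I3 → F) : L g v =
    ofM ((g : Matrix (Fin 2) (Fin 2) F) * toM v * ((g⁻¹ : GL (Fin 2) F) : Matrix (Fin 2) (Fin 2) F)) := rfl

theorem toM_L (g : GL (Fin 2) F) (v : I3 → F) : toM (L g v) =
    (g : Matrix (Fin 2) (Fin 2) F) * toM v * ((g⁻¹ : GL (Fin 2) F) : Matrix (Fin 2) (Fin 2) F) := by
  rw [L_apply, toM_ofM]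
  rw [Matrix.trace_mul_comm, ← Matrix.mul_assoc, Units.inv_mul, Matrix.one_mul, trace_toM]

theorem toM_inj {u v : I3 → F} (h : toM u = toM v) : u = v := by
  rw [← ofM_toM u, h, ofM_toM]

/-- The adjoint representation. -/
noncomputable def Ad : GL (Fin 2) F →* Matrix I3 I3 F where
  toFun g := LinearMap.toMatrix' (L g)
  map_one' := by
    rw [show L (1 : GL (Fin 2) F) = LinearMap.id from LinearMap.ext fun v => toM_inj (by simp [toM_L]),
      LinearMap.toMatrix'_id]
  map_mul' g h := by
    rw [← LinearMap.toMatrix'_comp]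
    congr 1
    exact LinearMap.ext fun v => toM_inj (by simp [toM_L, mul_assoc])

theorem Ad_mulVec (g : GL (Fin 2) F) (v : I3 → F) : Ad g *ᵥ v = L g v :=
  LinearMap.toMatrix'_mulVec (L g) v

/-- The adjoint representation into the isometry group. -/
noncomputable def rho : GL (Fin 2) F →* Cfsg.isometryGroup F (Cfsg.quadFormOdd 1 F) :=
  (Ad (F := F)).toHomUnits.codRestrict _ fun g => fun u _ => by
    show Cfsg.quadFormOdd 1 F (Ad g *ᵥ u) = Cfsg.quadFormOdd 1 F u
    rw [Ad_mulVec, form_eq, form_eq, toM_L, Matrix.det_units_conj]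

theorem rho_val (g : GL (Fin 2) F) :
    ((rho g : GL I3 F) : Matrix I3 I3 F) = Ad g := rfl

/-- Minus the identity. -/
noncomputable def eps : Cfsg.isometryGroup F (Cfsg.quadFormOdd 1 F) :=
  ⟨-1, fun u _ => by
    show Cfsg.quadFormOdd 1 F (((-1 : GL I3 F) : Matrix I3 I3 F) *ᵥ u) = Cfsg.quadFormOdd 1 F u
    rw [Units.val_neg, Units.val_one, Matrix.neg_mulVec, Matrix.one_mulVec, form_eq, form_eq, map_neg]
    simp [Matrix.det_neg]⟩

theorem eps_central (x : Cfsg.isometryGroup F (Cfsg.quadFormOdd 1 F)) : eps * x = x * eps :=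
  Subtype.ext (by show (-1 : GL I3 F) * _ = _ * (-1 : GL I3 F); simp)

theorem eps_sq : (eps : Cfsg.isometryGroup F (Cfsg.quadFormOdd 1 F)) * eps = 1 :=
  Subtype.ext (by show (-1 : GL I3 F) * (-1) = 1; simp)

theorem commute_of_rho_eq_one {g : GL (Fin 2) F} (h : rho g = 1) (v : I3 → F) :
    (g : Matrix (Fin 2) (Fin 2) F) * toM v = toM v * (g : Matrix (Fin 2) (Fin 2) F) := by
  have h1 : Ad g = 1 := congrArg (fun x : Cfsg.isometryGroup F (Cfsg.quadFormOdd 1 F) =>
    ((x : GL I3 F) : Matrix I3 I3 F)) h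
  have h2 : toM (L g v) = toM v := by rw [← Ad_mulVec, h1, Matrix.one_mulVec]
  rw [toM_L] at h2
  calc (g : Matrix (Fin 2) (Fin 2) F) * toM v =
      (g : Matrix (Fin 2) (Fin 2) F) * toM v * ((g⁻¹ : GL (Fin 2) F) : Matrix (Fin 2) (Fin 2) F) *
        (g : Matrix (Fin 2) (Fin 2) F) := by rw [Units.inv_mul_cancel_right]
    _ = _ := by rw [h2]

theorem scalar_of_commute {g : Matrix (Fin 2) (Fin 2) F}
    (h1 : g * !![0, 1; 0, 0] = !![0, 1; 0, 0] * g) (h2 : g * !![0, 0; 1, 0] = !![0, 0; 1, 0] * g) :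
    g 0 1 = 0 ∧ g 1 0 = 0 ∧ g 0 0 = g 1 1 := by
  have a := congrFun (congrFun h1 0) 0
  have b := congrFun (congrFun h1 0) 1
  have c := congrFun (congrFun h2 0) 0
  simp [Matrix.mul_apply, Fin.sum_univ_two] at a b c
  exact ⟨c, a.symm, b⟩

theorem ker_rho : (rho (F := F)).ker = Subgroup.center (GL (Fin 2) F) := by
  ext g
  constructor
  · intro h
    have hv : ∀ v, (g : Matrix (Fin 2) (Fin 2) F) * toM v = toM v * (g : Matrix (Fin 2) (Fin 2) F) :=
      commute_of_rho_eq_one h
    obtain ⟨a, b, c⟩ := scalar_of_commute (g := (g : Matrix (Fin 2) (Fin 2) F))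
      (by have := hv (Sum.elim (fun _ => 0) (Sum.elim (fun _ => 1) (fun _ => 0))); simpa [toM] using this)
      (by have := hv (Sum.elim (fun _ => 0) (Sum.elim (fun _ => 0) (fun _ => 1))); simpa [toM] using this)
    have hg : (g : Matrix (Fin 2) (Fin 2) F) = (g : Matrix (Fin 2) (Fin 2) F) 0 0 • 1 := by
      ext i j
      fin_cases i <;> fin_cases j <;> simp [a, b, c]
    refine Subgroup.mem_center_iff.2 fun x => Units.ext ?_
    rw [Units.val_mul, Units.val_mul, hg]
    simp
  · intro h
    refine Subtype.ext (Units.ext ?_)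
    show Ad g = 1
    refine Matrix.toLin'.injective (LinearMap.ext fun v => ?_)
    rw [Matrix.toLin'_apply, Matrix.toLin'_apply, Matrix.one_mulVec, Ad_mulVec]
    refine toM_inj ?_
    rw [toM_L]
    have hc : (g : Matrix (Fin 2) (Fin 2) F) * toM v = toM v * (g : Matrix (Fin 2) (Fin 2) F) := by
      have hc1 : ∀ t : F, ∀ M : GL (Fin 2) F, (g : Matrix (Fin 2) (Fin 2) F) * M = M * (g : Matrix (Fin 2) (Fin 2) F) :=
        fun t M => by rw [← Units.val_mul, ← Units.val_mul, Subgroup.mem_center_iff.1 h M]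
      rw [GeneralLinearGroup.center_eq_range_scalar] at h
      obtain ⟨u, rfl⟩ := h
      rw [GeneralLinearGroup.coe_scalar]
      exact Matrix.scalar_commute _ (fun r => Commute.all _ r) _
    rw [hc, Units.mul_inv_cancel_right]

/-- PΩ_3(q) is isomorphic to PSL_2(q) for q odd. -/
theorem result {F : Type*} [Field F] [Fintype F] (hodd : Odd (Fintype.card F)) : Nonempty (Cfsg.POmega F (Cfsg.quadFormOdd 1 F) ≃* Matrix.ProjectiveSpecialLinearGroup (Fin 2) F) := by
  classical
  have h2 : (2 : F) ≠ 0 := Classical.Disc.two_ne_zero_of_odd hodd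
  have hq3 : 3 ≤ Fintype.card F := by
    have := Fintype.one_lt_card (α := F)
    obtain ⟨k, hk⟩ := hodd
    omega
  -- eps is not in the range
  have heps : eps ∉ (rho (F := F)).range := by
    rintro ⟨g, hg⟩
    have hv : ∀ v, (g : Matrix (Fin 2) (Fin 2) F) * toM v = -(toM v * (g : Matrix (Fin 2) (Fin 2) F)) := by
      intro v
      have h1 : Ad g = -1 := congrArg (fun x : Cfsg.isometryGroup F (Cfsg.quadFormOdd 1 F) =>
        ((x : GL I3 F) : Matrix I3 I3 F)) hg
      have h3 : toM (L g v) = -toM v := by rw [← Ad_mulVec, h1, Matrix.neg_mulVec, Matrix.one_mulVec, map_neg]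
      rw [toM_L] at h3
      rw [← Matrix.neg_mul, ← h3, Units.inv_mul_cancel_right]
    have a := hv (Sum.elim (fun _ => 1) (Sum.elim (fun _ => 0) (fun _ => 0)))
    have b := hv (Sum.elim (fun _ => 0) (Sum.elim (fun _ => 1) (fun _ => 0)))
    have a00 := congrFun (congrFun a 0) 0
    have a11 := congrFun (congrFun a 1) 1
    have b00 := congrFun (congrFun b 0) 0
    simp only [Matrix.mul_apply, Matrix.neg_apply, Fin.sum_univ_two] at a00 a11 b00
    simp [toM] at a00 a11 b00
    have e00 : (g : Matrix (Fin 2) (Fin 2) F) 0 0 = 0 :=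
      (mul_eq_zero.1 (show (2 : F) * _ = 0 by linear_combination a00)).resolve_left h2
    have e11 : (g : Matrix (Fin 2) (Fin 2) F) 1 1 = 0 :=
      (mul_eq_zero.1 (show (2 : F) * _ = 0 by linear_combination -a11)).resolve_left h2
    have hdet := (Matrix.isUnit_iff_isUnit_det _).1 g.isUnit
    rw [Matrix.det_fin_two, e00, e11, b00] at hdet
    simp at hdet
  -- surjectivity
  have hsurj : ∀ x : Cfsg.isometryGroup F (Cfsg.quadFormOdd 1 F), ∃ g, x = rho g ∨ x = rho g * eps := by
    let f : (rho (F := F)).range × Bool → Cfsg.isometryGroup F (Cfsg.quadFormOdd 1 F) :=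
      fun p => if p.2 then (p.1 : Cfsg.isometryGroup F (Cfsg.quadFormOdd 1 F)) * eps else p.1
    have finj : Function.Injective f := by
      rintro ⟨⟨a, ha⟩, i⟩ ⟨⟨b, hb⟩, j⟩ h
      cases i <;> cases j <;> simp [f] at h ⊢
      · exact h
      · exact (heps (by
          have := mul_mem (inv_mem hb) ha
          rwa [h, inv_mul_cancel_left] at this)).elim
      · exact (heps (by
          have := mul_mem (inv_mem ha) hb
          rwa [← h, inv_mul_cancel_left] at this)).elim
      · exact h
    have hr : (Fintype.card F - 1) * Nat.card (rho (F := F)).range =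
        (Fintype.card F ^ 2 - 1) * (Fintype.card F ^ 2 - Fintype.card F) := by
      have h := (rho (F := F)).ker.card_mul_index
      rw [Subgroup.index_ker, ker_rho, Classical.card_center_GL, Matrix.card_GL_field] at h
      simpa [Fin.prod_univ_two] using h
    have hcard : Nat.card ((rho (F := F)).range × Bool) =
        Nat.card (Cfsg.isometryGroup F (Cfsg.quadFormOdd 1 F)) := by
      rw [Nat.card_prod, Cfsg.Agent.S0286.result rfl hodd 1, Nat.card_eq_fintype_card (α := Bool)]
      refine Nat.eq_of_mul_eq_mul_left (show 0 < Fintype.card F - 1 by omega) ?_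
      rw [← mul_assoc, hr]
      simp only [Finset.prod_range_one, Fintype.card_bool]
      rw [show Fintype.card F ^ 2 - Fintype.card F = Fintype.card F * (Fintype.card F - 1) by
        rw [Nat.mul_sub, mul_one, sq]]
      norm_num
      ring
    have fbij := (Nat.bijective_iff_injective_and_card f).2 ⟨finj, hcard⟩
    intro x
    obtain ⟨⟨⟨_, g, rfl⟩, i⟩, hx⟩ := fbij.2 x
    refine ⟨g, ?_⟩
    cases i
    · exact Or.inl (by simpa [f] using hx.symm)
    · exact Or.inr (by simpa [f] using hx.symm)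
  -- the commutator subgroup
  have hGL : commutator (GL (Fin 2) F) = (GeneralLinearGroup.det : GL (Fin 2) F →* Fˣ).ker :=
    Classical.GL_commutator_eq_ker_det fun _ => by
      by_contra hc
      push Not at hc
      have : (Finset.univ : Finset F) ⊆ {0, 1} := fun a _ => by
        by_cases ha : a = 0
        · simp [ha]
        · simp [hc a ha]
      have := (Finset.card_le_card this).trans Finset.card_le_two
      simp at this
      omega
  have hcentral : ∀ (a : Cfsg.isometryGroup F (Cfsg.quadFormOdd 1 F)), Commute eps a := eps_central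
  have hOm : Cfsg.Omega F (Cfsg.quadFormOdd 1 F) =
      ((rho (F := F)).comp (Matrix.SpecialLinearGroup.toGL)).range := by
    rw [MonoidHom.range_comp, Classical.range_toGL, ← hGL]
    refine le_antisymm ?_ ?_
    · refine Subgroup.commutator_le.2 ?_
      intro x _ y _
      obtain ⟨g, hg⟩ := hsurj x
      obtain ⟨k, hk⟩ := hsurj y
      refine ⟨⁅g, k⁆, Subgroup.commutator_mem_commutator (Subgroup.mem_top g) (Subgroup.mem_top k), ?_⟩
      rw [map_commutatorElement]
      have e1 : ∀ a : Cfsg.isometryGroup F (Cfsg.quadFormOdd 1 F),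
          ⁅a * eps, rho k⁆ = ⁅a, rho k⁆ := fun a => by
        rw [commutatorElement_def, commutatorElement_def, _root_.mul_inv_rev, mul_assoc a, (hcentral (rho k)).eq]
        simp only [mul_assoc, mul_inv_cancel_left]
      have e2 : ∀ a : Cfsg.isometryGroup F (Cfsg.quadFormOdd 1 F),
          ⁅a, rho k * eps⁆ = ⁅a, rho k⁆ := fun a => by
        rw [← _root_.inv_inj, commutatorElement_inv, commutatorElement_inv,
          commutatorElement_def, commutatorElement_def, _root_.mul_inv_rev, mul_assoc (rho k), (hcentral a).eq]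
        simp only [mul_assoc, mul_inv_cancel_left]
      rcases hg with rfl | rfl <;> rcases hk with rfl | rfl <;> simp only [e1, e2]
    · rw [commutator_def, Subgroup.map_commutator]
      exact Subgroup.commutator_mono le_top le_top
  let φ : Matrix.SpecialLinearGroup (Fin 2) F →* Cfsg.Omega F (Cfsg.quadFormOdd 1 F) :=
    ((rho (F := F)).comp Matrix.SpecialLinearGroup.toGL).codRestrict _ fun a => by
      rw [hOm]; exact ⟨a, rfl⟩
  have φsurj : Function.Surjective φ := by
    rintro ⟨x, hx⟩
    rw [hOm] at hx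
    obtain ⟨a, ha⟩ := hx
    exact ⟨a, Subtype.ext ha⟩
  have φker : φ.ker = Subgroup.center (Matrix.SpecialLinearGroup (Fin 2) F) := by
    ext a
    have e : a ∈ φ.ker ↔ Matrix.SpecialLinearGroup.toGL a ∈ (rho (F := F)).ker :=
      Subtype.ext_iff
    rw [e, ker_rho]
    constructor
    · intro h
      refine Subgroup.mem_center_iff.2 fun b => Matrix.SpecialLinearGroup.toGL_injective ?_
      rw [map_mul, map_mul]
      exact Subgroup.mem_center_iff.1 h _
    · intro h
      rw [GeneralLinearGroup.center_eq_range_scalar]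
      obtain ⟨r, hr, hra⟩ := Matrix.SpecialLinearGroup.mem_center_iff.1 h
      have hr0 : r ≠ 0 := by rintro rfl; simp at hr
      exact ⟨Units.mk0 r hr0, Units.ext (by rw [GeneralLinearGroup.coe_scalar]; exact hra)⟩
  have hcen : Subgroup.center (Cfsg.Omega F (Cfsg.quadFormOdd 1 F)) = ⊥ := by
    rw [eq_bot_iff]
    intro z hz
    obtain ⟨a, rfl⟩ := φsurj z
    rw [Subgroup.mem_bot, ← MonoidHom.mem_ker, φker, Subgroup.mem_center_iff]
    have key : ∀ t : Matrix.SpecialLinearGroup (Fin 2) F, (t : Matrix (Fin 2) (Fin 2) F).trace = 2 →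
        t * a = a * t := by
      intro t ht
      have h1 : t⁻¹ * (a * t * a⁻¹) ∈ φ.ker := by
        rw [MonoidHom.mem_ker, map_mul, map_mul, map_mul, map_inv, map_inv,
          ← Subgroup.mem_center_iff.1 hz (φ t)]
        simp [mul_assoc]
      rw [φker, Matrix.SpecialLinearGroup.mem_center_iff] at h1
      obtain ⟨r, hr, hr'⟩ := h1
      have h2' : (a : Matrix (Fin 2) (Fin 2) F) * t * (a⁻¹ : Matrix.SpecialLinearGroup (Fin 2) F) =
          r • (t : Matrix (Fin 2) (Fin 2) F) := by
        have e : (a : Matrix (Fin 2) (Fin 2) F) * t * (a⁻¹ : Matrix.SpecialLinearGroup (Fin 2) F) =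
            ((t * (t⁻¹ * (a * t * a⁻¹)) : Matrix.SpecialLinearGroup (Fin 2) F) : Matrix (Fin 2) (Fin 2) F) := by
          rw [mul_inv_cancel_left]; simp
        rw [e, Matrix.SpecialLinearGroup.coe_mul, ← hr', Matrix.scalar_apply, ← Matrix.smul_one_eq_diagonal,
          mul_smul_comm, mul_one]
      have h3 := congrArg Matrix.trace h2'
      rw [Matrix.trace_mul_comm, ← mul_assoc, ← Matrix.SpecialLinearGroup.coe_mul, inv_mul_cancel,
        Matrix.SpecialLinearGroup.coe_one, one_mul, Matrix.trace_smul, ht, smul_eq_mul] at h3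
      have hr1 : r = 1 := mul_right_cancel₀ h2 (by rw [one_mul]; exact h3.symm)
      rw [hr1, one_smul] at h2'
      have h4 : a * t * a⁻¹ = t := Subtype.ext (by simpa using h2')
      calc t * a = a * t * a⁻¹ * a := by rw [h4]
        _ = a * t := by group
    intro b
    let u : Matrix.SpecialLinearGroup (Fin 2) F := ⟨!![1, 1; 0, 1], by simp [Matrix.det_fin_two]⟩
    let l : Matrix.SpecialLinearGroup (Fin 2) F := ⟨!![1, 0; 1, 1], by simp [Matrix.det_fin_two]⟩
    have hu : (u : Matrix (Fin 2) (Fin 2) F) * (a : Matrix (Fin 2) (Fin 2) F) =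
        (a : Matrix (Fin 2) (Fin 2) F) * (u : Matrix (Fin 2) (Fin 2) F) :=
      congrArg Subtype.val (key u (by simp [u, Matrix.trace_fin_two]; norm_num))
    have hl : (l : Matrix (Fin 2) (Fin 2) F) * (a : Matrix (Fin 2) (Fin 2) F) =
        (a : Matrix (Fin 2) (Fin 2) F) * (l : Matrix (Fin 2) (Fin 2) F) :=
      congrArg Subtype.val (key l (by simp [l, Matrix.trace_fin_two]; norm_num))
    have hu1 := congrFun (congrFun hu 0) 0
    have hu2 := congrFun (congrFun hu 0) 1
    have hl1 := congrFun (congrFun hl 0) 0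
    simp only [Matrix.mul_apply, Fin.sum_univ_two] at hu1 hu2 hl1
    simp [u, l] at hu1 hu2 hl1
    apply Subtype.ext
    ext i j
    fin_cases i <;> fin_cases j <;> simp [Matrix.mul_apply, Fin.sum_univ_two, hu1, hl1] <;>
      grind
  exact ⟨((QuotientGroup.quotientMulEquivOfEq hcen).trans QuotientGroup.quotientBot).trans
    ((QuotientGroup.quotientKerEquivOfSurjective φ φsurj).symm.trans
      (QuotientGroup.quotientMulEquivOfEq φker))⟩

end Cfsg.Agent.S0298
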