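import Cfsg.Statements.S0299
import Cfsg.Agent.Lib.Classical.PlusFour

set_option autoImplicit false
open Cfsg

open Cfsg.Agent.Classical Matrix
open scoped commutatorElement

namespace Cfsg.Agent.S0299

/-- PΩ^+_4(q) is isomorphic to PSL_2(q) x PSL_2(q) for q at least 3. -/
theorem result {F : Type*} [Field F] [Fintype F] (hF : 3 ≤ Fintype.card F) : Nonempty (Cfsg.POmega F (Cfsg.quadFormPlus 2 F) ≃* Matrix.ProjectiveSpecialLinearGroup (Fin 2) F × Matrix.ProjectiveSpecialLinearGroup (Fin 2) F) := by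
  classical
  let S := Matrix.SpecialLinearGroup (Fin 2) F
  have hr := PlusFour.range_eq hF
  have hQ : Cfsg.quadFormPlus 2 F = ⇑(PlusMax.QP (F := F) (m := 2)) := funext fun v => (PlusMax.QP_apply v).symm
  rw [hQ]
  let φ : S × S →* Cfsg.Omega F ⇑(PlusMax.QP (F := F) (m := 2)) :=
    (PlusFour.rho (F := F)).codRestrict _ (fun p => hr.le ⟨p, rfl⟩)
  have hφ : Function.Surjective φ := by
    rintro ⟨x, hx⟩
    have hx' : x ∈ (PlusFour.rho (F := F)).range := hr.symm ▸ hx
    obtain ⟨p, hp⟩ := hx'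
    exact ⟨p, Subtype.ext hp⟩
  let f : S × S →* Cfsg.POmega F ⇑(PlusMax.QP (F := F) (m := 2)) := (QuotientGroup.mk' _).comp φ
  let π : S × S →* Matrix.ProjectiveSpecialLinearGroup (Fin 2) F × Matrix.ProjectiveSpecialLinearGroup (Fin 2) F :=
    (QuotientGroup.mk' (Subgroup.center S)).prodMap (QuotientGroup.mk' (Subgroup.center S))
  have hπ : Function.Surjective π := (QuotientGroup.mk'_surjective _).prodMap (QuotientGroup.mk'_surjective _)
  have hfs : Function.Surjective f := (QuotientGroup.mk'_surjective _).comp hφ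
  have hone : ∀ a : S, PlusFour.rho (F := F) (a, 1) = 1 → a = 1 := by
    intro a ha
    have h1 := PlusFour.toM_rho (a, 1) (PlusFour.toV (1 : Matrix (Fin 2) (Fin 2) F))
    rw [ha, Refl.act_one, PlusFour.toM_toV] at h1
    refine Subtype.ext ?_
    simpa using h1.symm
  have hone' : ∀ a : S, PlusFour.rho (F := F) (1, a) = 1 → a = 1 := by
    intro a ha
    have h1 := PlusFour.toM_rho (1, a) (PlusFour.toV (1 : Matrix (Fin 2) (Fin 2) F))
    rw [ha, Refl.act_one, PlusFour.toM_toV] at h1
    refine inv_eq_one.1 (Subtype.ext ?_)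
    show ((a⁻¹ : S) : Matrix (Fin 2) (Fin 2) F) = 1
    rw [Matrix.SpecialLinearGroup.coe_inv]
    simpa using h1.symm
  have hker : f.ker = π.ker := by
    ext ⟨g, h⟩
    rw [MonoidHom.mem_ker, MonoidHom.mem_ker]
    show (QuotientGroup.mk' _ (φ (g, h))) = 1 ↔ (QuotientGroup.mk' _ g, QuotientGroup.mk' _ h) = (1, 1)
    rw [Prod.mk.injEq, QuotientGroup.mk'_apply, QuotientGroup.eq_one_iff, QuotientGroup.mk'_apply, QuotientGroup.eq_one_iff,
      QuotientGroup.mk'_apply, QuotientGroup.eq_one_iff]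
    constructor
    · intro hc
      have key : ∀ r : S × S, PlusFour.rho (F := F) ⁅(g, h), r⁆ = 1 := fun r => by
        rw [map_commutatorElement, commutatorElement_eq_one_iff_mul_comm]
        exact (congrArg Subtype.val (Subgroup.mem_center_iff.1 hc (φ r))).symm
      refine ⟨Subgroup.mem_center_iff.2 fun s => ?_, Subgroup.mem_center_iff.2 fun s => ?_⟩
      · have h1 := key (s, 1)
        rw [show ⁅((g, h) : S × S), ((s, 1) : S × S)⁆ = (⁅g, s⁆, 1) from Prod.ext rfl (commutatorElement_one_right h)] at h1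
        exact (commutatorElement_eq_one_iff_mul_comm.1 (hone _ h1)).symm
      · have h1 := key (1, s)
        rw [show ⁅((g, h) : S × S), ((1, s) : S × S)⁆ = (1, ⁅h, s⁆) from Prod.ext (commutatorElement_one_right g) rfl] at h1
        exact (commutatorElement_eq_one_iff_mul_comm.1 (hone' _ h1)).symm
    · rintro ⟨hg, hh⟩
      refine Subgroup.mem_center_iff.2 fun x => ?_
      obtain ⟨r, rfl⟩ := hφ x
      rw [← map_mul, ← map_mul]
      congr 1
      exact Prod.ext (Subgroup.mem_center_iff.1 hg r.1) (Subgroup.mem_center_iff.1 hh r.2)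
  exact ⟨((QuotientGroup.quotientKerEquivOfSurjective f hfs).symm.trans
    (QuotientGroup.quotientMulEquivOfEq hker)).trans (QuotientGroup.quotientKerEquivOfSurjective π hπ)⟩

end Cfsg.Agent.S0299
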