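import Cfsg.Statements.S0300
import Cfsg.Agent.Lib.Classical.MinusFour

set_option autoImplicit false
open Cfsg

open Cfsg.Agent.Classical Matrix
open scoped commutatorElement
set_option maxHeartbeats 1000000

namespace Cfsg.Agent.S0300

theorem central_of_comm {G : Type*} [Group G] (hperf : commutator G = ⊤) (g : G)
    (hZ : ∀ s : G, ⁅g, s⁆ ∈ Subgroup.center G) : g ∈ Subgroup.center G := by
  let ψ : G →* Subgroup.center G := MonoidHom.mk' (fun s => ⟨⁅g, s⁆, hZ s⟩) (fun s t => Subtype.ext (by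
    show ⁅g, s * t⁆ = ⁅g, s⁆ * ⁅g, t⁆
    have ht := Subgroup.mem_center_iff.1 (hZ t) s
    calc ⁅g, s * t⁆ = ⁅g, s⁆ * (s * ⁅g, t⁆ * s⁻¹) := by simp only [commutatorElement_def]; group
      _ = ⁅g, s⁆ * ⁅g, t⁆ := by rw [ht, mul_inv_cancel_right]))
  have hψ : ψ.ker = ⊤ := by
    refine top_le_iff.1 ?_
    rw [← hperf, commutator_def, Subgroup.commutator_le]
    intro x _ y _
    rw [MonoidHom.mem_ker, map_commutatorElement, commutatorElement_eq_one_iff_mul_comm]
    exact Subtype.ext (Subgroup.mem_center_iff.1 (ψ y).2 (ψ x : G))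
  refine Subgroup.mem_center_iff.2 fun s => ?_
  have hs : s ∈ ψ.ker := by rw [hψ]; exact Subgroup.mem_top s
  have h1 : ⁅g, s⁆ = 1 := congrArg Subtype.val hs
  exact (commutatorElement_eq_one_iff_mul_comm.1 h1).symm

end Cfsg.Agent.S0300

namespace Cfsg.Agent.S0300

/-- PΩ^-_4(q) is isomorphic to PSL_2(q^2). -/
theorem result {F K : Type*} [Field F] [Fintype F] [Field K] [Fintype K] {q : ℕ} (hF : Fintype.card F = q) (hK : Fintype.card K = q ^ 2) (a b : F) (hab : ∀ z₁ z₂ : F, z₁ ^ 2 + a * z₁ * z₂ + b * z₂ ^ 2 = 0 → z₁ = 0 ∧ z₂ = 0) : Nonempty (Cfsg.POmega F (Cfsg.quadFormMinus 1 F a b) ≃* Matrix.ProjectiveSpecialLinearGroup (Fin 2) K) := by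
  classical
  obtain ⟨E⟩ := MinusFour.exists_ext hF hK a b hab
  have hq2 : 2 ≤ q := hF ▸ Fintype.one_lt_card
  have hK4 : 4 ≤ Fintype.card K := by rw [hK]; nlinarith
  have hr : (MinusFour.rho E).range = commutator (Refl.O (Cfsg.Agent.PGOMinus.QMc 1 a b)) := by
    refine le_antisymm (MinusFour.range_le E hK4) ?_
    by_cases h2 : q = 2
    · exact MinusFour.commutator_le_two E hab (hF.trans h2) (by rw [hK, h2]; norm_num)
    · exact MinusFour.commutator_le_of_gen E hab (by omega)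
  have hQ : Cfsg.quadFormMinus 1 F a b = ⇑(Cfsg.Agent.PGOMinus.QMc 1 a b) := rfl
  rw [hQ]
  let S := Matrix.SpecialLinearGroup (Fin 2) K
  let φ : S →* Cfsg.Omega F ⇑(Cfsg.Agent.PGOMinus.QMc 1 a b) :=
    (MinusFour.rho E).codRestrict _ (fun p => hr.le ⟨p, rfl⟩)
  have hφ : Function.Surjective φ := by
    rintro ⟨x, hx⟩
    obtain ⟨p, hp⟩ := hr.ge hx
    exact ⟨p, Subtype.ext hp⟩
  let f : S →* Cfsg.POmega F ⇑(Cfsg.Agent.PGOMinus.QMc 1 a b) := (QuotientGroup.mk' _).comp φ
  have hfs : Function.Surjective f := (QuotientGroup.mk'_surjective _).comp hφ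
  obtain ⟨z, hz0, hz1⟩ := MinusFour.exists_sq_ne_one hK4
  have hker : f.ker = Subgroup.center S := by
    ext g
    rw [MonoidHom.mem_ker]
    show QuotientGroup.mk' _ (φ g) = 1 ↔ _
    rw [QuotientGroup.mk'_apply, QuotientGroup.eq_one_iff]
    constructor
    · intro hc
      have hZ : ∀ s : S, ⁅g, s⁆ ∈ Subgroup.center S := fun s => MinusFour.eq_scalar E (by
        rw [map_commutatorElement, commutatorElement_eq_one_iff_mul_comm]
        exact (congrArg Subtype.val (Subgroup.mem_center_iff.1 hc (φ s))).symm)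
      exact Cfsg.Agent.S0300.central_of_comm (Matrix.SL2.commutator_eq_top hz0 hz1) g hZ
    · intro hg
      refine Subgroup.mem_center_iff.2 fun x => ?_
      obtain ⟨r, rfl⟩ := hφ x
      rw [← map_mul, ← map_mul, Subgroup.mem_center_iff.1 hg r]
  exact ⟨(QuotientGroup.quotientKerEquivOfSurjective f hfs).symm.trans (QuotientGroup.quotientMulEquivOfEq hker)⟩

end Cfsg.Agent.S0300
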