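import Cfsg.Statements.S0302
import Cfsg.Agent.Lib.Classical.Klein
import Cfsg.Agent.S0243
import Cfsg.Agent.S0248
import Cfsg.Agent.S0249

set_option autoImplicit false
open Cfsg

open Cfsg.Agent.Classical

namespace Cfsg.Agent.S0302

/-- PΩ^+_6(q) is isomorphic to PSL_4(q). -/
theorem result {F : Type*} [Field F] [Fintype F] : Nonempty (Cfsg.POmega F (Cfsg.quadFormPlus 3 F) ≃* Matrix.ProjectiveSpecialLinearGroup (Fin 4) F) := by
  classical
  haveI hs := Cfsg.Agent.S0249.result (F := F) 4 (by norm_num)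
  refine Klein.pomega_equiv_of _ (Klein.toO (F := F)) (Cfsg.Agent.S0248.result 4 (by norm_num)) hs Klein.toO_center
    Klein.exists_wedge_ne_one ?_
  have h1 := Cfsg.Agent.S0243.result (F := F) rfl 4 (by norm_num)
  have h2 := Klein.card_POmega_plus (F := F) 3 le_rfl
  rw [Fin.prod_univ_four] at h1
  simp only [Finset.prod_range_succ, Finset.prod_range_zero, show 3 - 1 = 2 from rfl] at h2
  generalize hq : Fintype.card F = q at h1 h2
  have hq2 : 2 ≤ q := hq ▸ Fintype.one_lt_card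
  have e3 : q ^ 3 % 4 = q % 4 ∨ q % 2 = 0 := by
    rcases Nat.even_or_odd q with he | ho
    · exact Or.inr (Nat.even_iff.1 he)
    · left
      obtain ⟨k, rfl⟩ := ho
      rw [show (2 * k + 1) ^ 3 = (2 * k + 1) + 4 * (2 * k ^ 3 + 3 * k ^ 2 + k) by ring, Nat.add_mul_mod_self_left]
  have hp3 : 1 ≤ q ^ 3 := Nat.one_le_pow _ _ (by omega)
  have hg : Nat.gcd 4 (q ^ 3 - 1) = Nat.gcd 4 (q - 1) := by
    rcases e3 with e | e
    · rw [Nat.gcd_rec, Nat.gcd_rec 4 (q - 1), show (q ^ 3 - 1) % 4 = (q - 1) % 4 by omega]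
    · have e' : q ^ 3 % 2 = 0 := by rw [Nat.pow_mod, e]
      have h4 : ∀ x : ℕ, x % 2 = 1 → Nat.gcd 4 x = 1 := fun x hx => by
        rw [Nat.gcd_rec]
        rcases (by omega : x % 4 = 1 ∨ x % 4 = 3) with h | h <;> rw [h] <;> rfl
      rw [h4 _ (by omega), h4 _ (by omega)]
  rw [hg] at h2
  have hpos : 0 < Nat.gcd 4 (q - 1) * (q - 1) := Nat.mul_pos (Nat.gcd_pos_of_pos_left _ (by norm_num)) (by omega)
  have f0 : q ^ 4 - q ^ 1 = q * (q ^ 3 - 1) := by rw [Nat.mul_sub, ← pow_succ']; simp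
  have f1 : q ^ 4 - q ^ 2 = q ^ 2 * (q ^ 2 - 1) := by rw [Nat.mul_sub, ← pow_add]; simp
  have f2 : q ^ 4 - q ^ 3 = q ^ 3 * (q - 1) := by rw [Nat.mul_sub, ← pow_succ]; simp
  simp only [Fin.val_zero, Fin.val_one, Fin.val_two, show ((3 : Fin 4) : ℕ) = 3 from rfl, pow_zero] at h1
  rw [f0, f1, f2] at h1
  apply Nat.eq_of_mul_eq_mul_left hpos
  norm_num [-Nat.card_eq_fintype_card] at h2
  calc Nat.gcd 4 (q - 1) * (q - 1) * Nat.card (Matrix.ProjectiveSpecialLinearGroup (Fin 4) F)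
      = (q ^ 4 - 1) * (q * (q ^ 3 - 1)) * (q ^ 2 * (q ^ 2 - 1)) * (q ^ 3 * (q - 1)) := by rw [← h1]; ring
    _ = q ^ 6 * (q ^ 3 - 1) * ((q ^ 2 - 1) * (q ^ 4 - 1)) * (q - 1) := by ring
    _ = Nat.gcd 4 (q - 1) * (q - 1) * Nat.card (Cfsg.POmega F (Cfsg.quadFormPlus 3 F)) := by rw [← h2]; ring

end Cfsg.Agent.S0302
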