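import Cfsg.Statements.S0304
import Cfsg.Agent.Lib.Classical.CharTwoForms
import Cfsg.Agent.Lib.Classical.OrthCommutator

set_option autoImplicit false
open Cfsg

open Cfsg.Agent.Classical
open Module QuadraticMap Matrix

namespace Cfsg.Agent.S0304

/-- In characteristic 2, O_{2m+1}(q) is isomorphic to Sp_{2m}(q). -/
theorem result {F : Type*} [Field F] [Fintype F] [CharP F 2] (m : ℕ) : Nonempty (Cfsg.isometryGroup F (Cfsg.quadFormOdd m F) ≃* Matrix.symplecticGroup (Fin m) F) := by
  classical
  have two := Cfsg.Agent.Classical.CharTwo.two_zero (F := F)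
  let Q : QuadraticForm F (Unit ⊕ (Fin m ⊕ Fin m) → F) :=
    (QuadraticMap.sq (R := F)).comp (LinearMap.proj (R := F) (φ := fun _ : Unit ⊕ (Fin m ⊕ Fin m) => F) (Sum.inl ())) +
      (PlusMax.QP (F := F) (m := m)).comp (LinearMap.funLeft F F Sum.inr)
  have eQ : Cfsg.quadFormOdd m F = ⇑Q := funext fun v => by
    show _ = v (Sum.inl ()) * v (Sum.inl ()) + PlusMax.QP (fun i => v (Sum.inr i))
    rw [← pow_two]; rfl
  have hQv : ∀ v, Q v = v (Sum.inl ()) ^ 2 + PlusMax.QP (fun i => v (Sum.inr i)) := fun v => by rw [← eQ]; rfl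
  have hpol : ∀ u v, polar Q u v = polar (PlusMax.QP (F := F) (m := m)) (fun i => u (Sum.inr i)) (fun i => v (Sum.inr i)) := fun u v => by
    simp only [polar, hQv, Pi.add_apply]
    rw [show (fun i => u (Sum.inr i) + v (Sum.inr i)) = (fun i => u (Sum.inr i)) + (fun i => v (Sum.inr i)) from rfl]
    linear_combination (u (Sum.inl ()) * v (Sum.inl ())) * two
  set e₀ : Unit ⊕ (Fin m ⊕ Fin m) → F := Pi.single (Sum.inl ()) 1 with he₀
  have hfix : ∀ g : Refl.O Q, Refl.act Q g e₀ = e₀ := fun g => by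
    set z := Refl.act Q g e₀
    have hr : (fun i => z (Sum.inr i)) = 0 := PlusMax.nondeg.1 _ fun y => by
      obtain ⟨x, hx⟩ : ∃ x, Refl.act Q g x = Sum.elim (0 : Unit → F) y := ⟨_, Refl.act_inv Q g (Sum.elim (0 : Unit → F) y)⟩
      have h := Refl.polar_act Q g e₀ x
      rw [hx, hpol, hpol] at h
      rw [show (fun i => e₀ (Sum.inr i)) = 0 from funext fun i => by simp [e₀], polar_zero_left] at h
      exact h
    have h := Refl.Q_act Q g e₀
    rw [hQv, hQv, hr, show (fun i => e₀ (Sum.inr i)) = 0 from funext fun i => by simp [e₀], QuadraticMap.map_zero,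
      add_zero, add_zero] at h
    have h' := Cfsg.Agent.Classical.CharTwo.sq_inj h
    funext s
    rcases s with u | i
    · exact h'
    · rw [show z (Sum.inr i) = 0 from congrFun hr i]; simp [e₀]
  let M : Refl.O Q → Matrix (Unit ⊕ (Fin m ⊕ Fin m)) (Unit ⊕ (Fin m ⊕ Fin m)) F := fun g => g.1.val
  have hcol : ∀ g i, (M g) (Sum.inr i) (Sum.inl ()) = 0 := fun g i => by
    have := congrFun (hfix g) (Sum.inr i)
    simpa [Refl.act, e₀, M] using this
  have hcol0 : ∀ g, (M g) (Sum.inl ()) (Sum.inl ()) = 1 := fun g => by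
    have := congrFun (hfix g) (Sum.inl ())
    simpa [Refl.act, e₀, M] using this
  let A : Refl.O Q → Matrix (Fin m ⊕ Fin m) (Fin m ⊕ Fin m) F := fun g => (M g).toBlocks₂₂
  have hA : ∀ g v, (fun i => Refl.act Q g v (Sum.inr i)) = A g *ᵥ (fun i => v (Sum.inr i)) := fun g v => funext fun i => by
    show ∑ j, (M g) (Sum.inr i) j * v j = ∑ j, (M g) (Sum.inr i) (Sum.inr j) * v (Sum.inr j)
    rw [Fintype.sum_sum_type, Fintype.sum_unique]
    rw [show (M g) (Sum.inr i) (Sum.inl default) = 0 from hcol g i, zero_mul, zero_add]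
  have hmem : ∀ g, A g ∈ Matrix.symplecticGroup (Fin m) F := fun g => (Sp.mem_symplectic_iff m _).2 fun u v => by
    have h := Refl.polar_act Q g (Sum.elim (0 : Unit → F) u) (Sum.elim (0 : Unit → F) v)
    rw [hpol, hpol, hA, hA, Cfsg.Agent.Classical.CharTwo.polar_QP_eq_sympB, Cfsg.Agent.Classical.CharTwo.polar_QP_eq_sympB] at h
    exact h
  let φ : Refl.O Q →* Matrix.symplecticGroup (Fin m) F := MonoidHom.mk' (fun g => ⟨A g, hmem g⟩) fun g h =>
    Subtype.ext (Matrix.toLin'.injective (LinearMap.ext fun u => by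
      rw [Matrix.toLin'_apply, Matrix.toLin'_apply]
      show A (g * h) *ᵥ u = (A g * A h) *ᵥ u
      rw [← mulVec_mulVec]
      have e1 := hA (g * h) (Sum.elim (0 : Unit → F) u)
      have e2 := hA g (Refl.act Q h (Sum.elim (0 : Unit → F) u))
      have e3 := hA h (Sum.elim (0 : Unit → F) u)
      rw [Refl.act_mul] at e1
      rw [e3] at e2
      simp only [Sum.elim_inr] at e1 e2 e3
      exact e1.symm.trans e2))
  rw [eQ]
  refine ⟨MulEquiv.ofBijective φ ⟨fun g h e => ?_, fun S => ?_⟩⟩
  · refine Refl.act_ext Q fun v => ?_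
    have hr : (fun i => Refl.act Q g v (Sum.inr i)) = (fun i => Refl.act Q h v (Sum.inr i)) := by
      rw [hA, hA, show A g = A h from congrArg Subtype.val e]
    have h0 : Refl.act Q g v (Sum.inl ()) = Refl.act Q h v (Sum.inl ()) := by
      have h1 := Refl.Q_act Q g v
      have h2 := Refl.Q_act Q h v
      rw [hQv] at h1 h2
      rw [hr] at h1
      exact Cfsg.Agent.Classical.CharTwo.sq_inj (add_right_cancel (h1.trans h2.symm))
    funext s
    rcases s with u | i
    · exact h0
    · exact congrFun hr i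
  · set P := PlusMax.QP (F := F) (m := m)
    have hS : ∀ u v, polar P (S.1 *ᵥ u) (S.1 *ᵥ v) = polar P u v := fun u v => by
      rw [Cfsg.Agent.Classical.CharTwo.polar_QP_eq_sympB, Cfsg.Agent.Classical.CharTwo.polar_QP_eq_sympB]; exact (Sp.mem_symplectic_iff m S.1).1 S.2 u v
    obtain ⟨lam, hlam⟩ := Cfsg.Agent.Classical.CharTwo.exists_sqrt_linear (fun v => P (S.1 *ᵥ v) + P v) (fun u v => by
      have h := hS u v
      simp only [polar] at h
      rw [mulVec_add]
      linear_combination h + (P (u + v) - P u - P v) * two) (fun c v => by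
      rw [mulVec_smul, QuadraticMap.map_smul, QuadraticMap.map_smul, smul_eq_mul, smul_eq_mul]; ring)
    let L : (Unit ⊕ (Fin m ⊕ Fin m) → F) →ₗ[F] (Unit ⊕ (Fin m ⊕ Fin m) → F) :=
      { toFun := fun v => Sum.elim (fun _ => v (Sum.inl ()) + lam (fun i => v (Sum.inr i))) (S.1 *ᵥ fun i => v (Sum.inr i))
        map_add' := fun u v => by
          rw [show (fun i => (u + v) (Sum.inr i)) = (fun i => u (Sum.inr i)) + (fun i => v (Sum.inr i)) from rfl]
          funext s; rcases s with x | i <;> simp [mulVec_add, add_assoc, add_left_comm]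
        map_smul' := fun c v => by
          rw [show (fun i => (c • v) (Sum.inr i)) = c • (fun i => v (Sum.inr i)) from rfl]
          funext s; rcases s with x | i <;> simp [mulVec_smul, mul_add] }
    have hLi : Function.Injective L := by
      rw [← LinearMap.ker_eq_bot, LinearMap.ker_eq_bot']
      intro v hv
      have h2' : S.1 *ᵥ (fun i => v (Sum.inr i)) = 0 := funext fun i => congrFun hv (Sum.inr i)
      have hr : (fun i => v (Sum.inr i)) = 0 := by
        have := congrArg (fun x => ((S⁻¹ : Matrix.symplecticGroup (Fin m) F)).1 *ᵥ x) h2'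
        simp only [mulVec_zero, mulVec_mulVec] at this
        rwa [show ((S⁻¹ : Matrix.symplecticGroup (Fin m) F)).1 * S.1 = 1 from congrArg Subtype.val (inv_mul_cancel S), one_mulVec] at this
      have h1' : v (Sum.inl ()) + lam (fun i => v (Sum.inr i)) = 0 := congrFun hv (Sum.inl ())
      rw [hr, map_zero, add_zero] at h1'
      funext s
      rcases s with x | i
      · exact h1'
      · exact congrFun hr i
    let e := LinearEquiv.ofBijective L ⟨hLi, LinearMap.injective_iff_surjective.1 hLi⟩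
    have heQ : ∀ v, Q (e v) = Q v := fun v => by
      show Q (L v) = Q v
      rw [hQv, hQv]
      show (v (Sum.inl ()) + lam (fun i => v (Sum.inr i))) ^ 2 + P (S.1 *ᵥ fun i => v (Sum.inr i)) = _
      linear_combination hlam (fun i => v (Sum.inr i)) +
        (v (Sum.inl ()) * lam (fun i => v (Sum.inr i)) + P (S.1 *ᵥ fun i => v (Sum.inr i))) * two
    refine ⟨Refl.ofLin Q e heQ, Subtype.ext (Matrix.toLin'.injective (LinearMap.ext fun u => ?_))⟩
    rw [Matrix.toLin'_apply, Matrix.toLin'_apply]
    show A _ *ᵥ u = S.1 *ᵥ u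
    have := hA (Refl.ofLin Q e heQ) (Sum.elim (0 : Unit → F) u)
    rw [Refl.act_ofLin] at this
    simp only [Sum.elim_inr] at this
    rw [← this]
    rfl

end Cfsg.Agent.S0304
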