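import Cfsg.Statements.S0305
import Cfsg.Agent.Lib.Classical.DihedralRecog

set_option autoImplicit false
open Cfsg

open Cfsg.Agent.Classical
open Matrix

namespace Cfsg.Agent.S0305

variable {F : Type*} [Field F]

abbrev I2 := Fin 1 ⊕ Fin 1
abbrev O2 (F : Type*) [Field F] := Cfsg.isometryGroup F (Cfsg.quadFormPlus 1 F)

theorem quad_eq (v : I2 → F) : Cfsg.quadFormPlus 1 F v = v (.inl 0) * v (.inr 0) := by
  simp [Cfsg.quadFormPlus]

def rotMat : Fˣ →* Matrix I2 I2 F where
  toFun t := Matrix.diagonal (Sum.elim (fun _ => (t : F)) (fun _ => ((t⁻¹ : Fˣ) : F)))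
  map_one' := by ext i j; rcases i with i | i <;> rcases j with j | j <;> fin_cases i <;> fin_cases j <;> simp
  map_mul' a b := by
    rw [Matrix.diagonal_mul_diagonal]
    congr 1
    funext i
    rcases i with i | i <;> simp [mul_comm]

theorem rot_pres (t : Fˣ) (u : I2 → F) : Cfsg.quadFormPlus 1 F (rotMat t *ᵥ u) = Cfsg.quadFormPlus 1 F u := by
  have : (t : F) * ((t⁻¹ : Fˣ) : F) = 1 := t.mul_inv
  simp only [quad_eq, rotMat, MonoidHom.coe_mk, OneHom.coe_mk, Matrix.mulVec_diagonal, Sum.elim_inl, Sum.elim_inr]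
  linear_combination (u (.inl 0) * u (.inr 0)) * this

def rot : Fˣ →* O2 F := (rotMat (F := F)).toHomUnits.codRestrict (O2 F) fun t u _ => rot_pres t u

def swapMat (F : Type*) [Field F] : Matrix I2 I2 F := Matrix.of fun i j => if i.swap = j then 1 else 0

theorem swap_sq : swapMat F * swapMat F = 1 := by
  ext i j
  rcases i with i | i <;> rcases j with j | j <;> fin_cases i <;> fin_cases j <;>
    simp [swapMat, Matrix.mul_apply, Fintype.sum_sum_type]

theorem swap_mulVec (u : I2 → F) : swapMat F *ᵥ u = fun i => u i.swap := by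
  funext i
  rcases i with i | i <;> fin_cases i <;> simp [swapMat, Matrix.mulVec, dotProduct, Fintype.sum_sum_type]

def sw (F : Type*) [Field F] : O2 F := ⟨⟨swapMat F, swapMat F, swap_sq, swap_sq⟩, fun u _ => by
  show Cfsg.quadFormPlus 1 F (swapMat F *ᵥ u) = Cfsg.quadFormPlus 1 F u
  rw [swap_mulVec, quad_eq, quad_eq]
  exact mul_comm _ _⟩

def entry (g : O2 F) (i j : I2) : F := ((g : GL I2 F) : Matrix I2 I2 F) i j

theorem entry_ext {g h : O2 F} (e : ∀ i j, entry g i j = entry h i j) : g = h :=
  Subtype.ext (Units.ext (Matrix.ext e))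

theorem classify (g : O2 F) : ∃ c : Fˣ, g = rot c ∨ g = rot c * sw F := by
  have hg : ∀ u, Cfsg.quadFormPlus 1 F (((g : GL I2 F) : Matrix I2 I2 F) *ᵥ u) = Cfsg.quadFormPlus 1 F u := fun u => g.2 u u
  have h1 := hg (Pi.single (.inl 0) 1)
  have h2 := hg (Pi.single (.inr 0) 1)
  have h3 := hg (fun _ => 1)
  simp [quad_eq, Matrix.mulVec, dotProduct, Fintype.sum_sum_type, Pi.single_apply] at h1 h2 h3
  by_cases ha : entry g (.inl 0) (.inl 0) = 0
  · have hp : entry g (.inl 0) (.inr 0) * entry g (.inr 0) (.inl 0) = 1 := by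
      rcases h2 with h | h
      · simp [entry] at ha
        rw [ha, h] at h3; simp at h3
      · simp [entry] at ha ⊢
        rw [ha, h] at h3; simpa using h3
    have hd : entry g (.inr 0) (.inr 0) = 0 := by
      rcases h2 with h | h
      · exact absurd (show entry g (.inl 0) (.inr 0) = 0 from h) (left_ne_zero_of_mul_eq_one hp)
      · exact h
    refine ⟨Units.mk0 _ (left_ne_zero_of_mul_eq_one hp), Or.inr (entry_ext fun i j => ?_)⟩
    have hinv := (inv_eq_of_mul_eq_one_right hp).symm
    rcases i with i | i <;> rcases j with j | j <;> fin_cases i <;> fin_cases j <;>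
      simp_all [entry, rot, sw, rotMat, swapMat, MonoidHom.codRestrict, Matrix.mul_apply, Fintype.sum_sum_type]
  · have hc : entry g (.inr 0) (.inl 0) = 0 := by
      rcases h1 with h | h
      · exact absurd h ha
      · exact h
    simp [entry] at hc ha
    rw [hc, zero_add] at h3
    have hd : ((g : GL I2 F) : Matrix I2 I2 F) (.inr 0) (.inr 0) ≠ 0 := by
      intro h; rw [h, mul_zero] at h3; exact zero_ne_one h3
    have hb : ((g : GL I2 F) : Matrix I2 I2 F) (.inl 0) (.inr 0) = 0 := h2.resolve_right hd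
    rw [hb, add_zero] at h3
    refine ⟨Units.mk0 _ ha, Or.inl (entry_ext fun i j => ?_)⟩
    have hinv := (inv_eq_of_mul_eq_one_right h3).symm
    rcases i with i | i <;> rcases j with j | j <;> fin_cases i <;> fin_cases j <;>
      simp_all [entry, rot, rotMat, MonoidHom.codRestrict]

end Cfsg.Agent.S0305


namespace Cfsg.Agent.S0305

/-- GO^+_2(q) is dihedral of order 2(q-1). -/
theorem result {F : Type*} [Field F] [Fintype F] {q : ℕ} (hF : Fintype.card F = q) : Nonempty (Cfsg.isometryGroup F (Cfsg.quadFormPlus 1 F) ≃* DihedralGroup (q - 1)) := by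
  classical
  haveI : Finite (Cfsg.isometryGroup F (Cfsg.quadFormPlus 1 F)) := inferInstance
  have hinj : Function.Injective (rot : Fˣ →* O2 F) := fun a b e => by
    have := congrArg (fun g => entry g (.inl 0) (.inl 0)) e
    simp [entry, rot, rotMat, MonoidHom.codRestrict] at this
    exact Units.ext this
  obtain ⟨e⟩ := nonempty_dihedral rot hinj (sw F) (Subtype.ext (Units.ext swap_sq))
    (fun c e => by
      have := congrArg (fun g => entry g (.inl 0) (.inl 0)) e
      simp [entry, rot, rotMat, sw, swapMat, MonoidHom.codRestrict] at this)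
    (fun c => entry_ext fun i j => by
      rcases i with i | i <;> rcases j with j | j <;> fin_cases i <;> fin_cases j <;>
        simp [-map_inv, entry, rot, rotMat, sw, swapMat, MonoidHom.codRestrict, Matrix.mul_apply, Fintype.sum_sum_type])
    classify
  have hc : Nat.card Fˣ = q - 1 := by rw [Nat.card_units, Nat.card_eq_fintype_card, hF]
  rw [hc] at e
  exact ⟨e⟩

end Cfsg.Agent.S0305
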