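import Cfsg.Statements.S0306
import Cfsg.Agent.Lib.Classical.DihedralRecog
import Cfsg.Agent.Lib.Classical.OrthBasis

set_option autoImplicit false
open Cfsg

open Cfsg.Agent.Classical
open Matrix

namespace Cfsg.Agent.S0306

variable {F : Type*} [Field F] [Finite F] (a b : F)

abbrev J := (Fin 0 ⊕ Fin 0) ⊕ Fin 2
abbrev Q (a b : F) := Cfsg.quadFormMinus 0 F a b

theorem quad_eq (v : J → F) : Q a b v = v (.inr 0) ^ 2 + a * v (.inr 0) * v (.inr 1) + b * v (.inr 1) ^ 2 := by
  simp [Cfsg.quadFormMinus]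

/-- Entry by entry description of a matrix on the two coordinates. -/
def m2 (x y z w : F) : Matrix J J F := (Matrix.of fun i j => (!![x, y; z, w] : Matrix (Fin 2) (Fin 2) F)
  (Sum.elim (fun _ => 0) id i) (Sum.elim (fun _ => 0) id j))

theorem m2_ext {A B : Matrix J J F} (h : ∀ i j, A (.inr i) (.inr j) = B (.inr i) (.inr j)) : A = B := by
  ext i j
  rcases i with i | i
  · rcases i with i | i <;> exact i.elim0
  rcases j with j | j
  · rcases j with j | j <;> exact j.elim0
  exact h i j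

theorem m2_mul (x y z w x' y' z' w' : F) :
    m2 x y z w * m2 x' y' z' w' = m2 (x * x' + y * z') (x * y' + y * w') (z * x' + w * z') (z * y' + w * w') := by
  refine m2_ext fun i j => ?_
  fin_cases i <;> fin_cases j <;> simp [m2, Matrix.mul_apply, Fintype.sum_sum_type]

theorem m2_one : (m2 1 0 0 1 : Matrix J J F) = 1 := by
  refine m2_ext fun i j => ?_
  fin_cases i <;> fin_cases j <;> simp [m2]

theorem m2_mulVec (x y z w : F) (v : J → F) :
    (m2 x y z w *ᵥ v) (.inr 0) = x * v (.inr 0) + y * v (.inr 1) ∧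
    (m2 x y z w *ᵥ v) (.inr 1) = z * v (.inr 0) + w * v (.inr 1) := by
  simp [m2, Matrix.mulVec, dotProduct, Fintype.sum_sum_type]

/-- The rotation by an element of the quadratic extension. -/
def rotMat : QuadraticAlgebra F (-b) a →* Matrix J J F where
  toFun z := m2 z.re (-b * z.im) z.im (z.re + a * z.im)
  map_one' := by rw [QuadraticAlgebra.re_one, QuadraticAlgebra.im_one, mul_zero, mul_zero, add_zero, m2_one]
  map_mul' z w := by
    rw [m2_mul]
    simp only [QuadraticAlgebra.re_mul, QuadraticAlgebra.im_mul]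
    congr 1 <;> ring

theorem rot_pres (z : QuadraticAlgebra F (-b) a) (hz : QuadraticAlgebra.norm z = 1) (v : J → F) :
    Q a b (rotMat a b z *ᵥ v) = Q a b v := by
  rw [QuadraticAlgebra.norm_def] at hz
  obtain ⟨e0, e1⟩ := m2_mulVec z.re (-b * z.im) z.im (z.re + a * z.im) v
  rw [quad_eq, quad_eq]
  show (m2 _ _ _ _ *ᵥ v) (.inr 0) ^ 2 + a * (m2 _ _ _ _ *ᵥ v) (.inr 0) * (m2 _ _ _ _ *ᵥ v) (.inr 1) +
    b * (m2 _ _ _ _ *ᵥ v) (.inr 1) ^ 2 = _
  rw [e0, e1]
  linear_combination (v (.inr 0) ^ 2 + a * v (.inr 0) * v (.inr 1) + b * v (.inr 1) ^ 2) * hz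

/-- Norm one elements. -/
abbrev C (a b : F) : Subgroup (QuadraticAlgebra F (-b) a)ˣ :=
  ((QuadraticAlgebra.norm (a := -b) (b := a)).comp (Units.coeHom _)).ker

abbrev O2 (a b : F) := Cfsg.isometryGroup F (Q a b)

def rot : C a b →* O2 a b :=
  (((rotMat a b).comp (Units.coeHom _)).comp (C a b).subtype).toHomUnits.codRestrict (O2 a b)
    fun z v _ => rot_pres a b _ z.2 v

def refl : O2 a b := ⟨⟨m2 1 a 0 (-1), m2 1 a 0 (-1),
    by rw [m2_mul, ← m2_one]; congr 1 <;> ring, by rw [m2_mul, ← m2_one]; congr 1 <;> ring⟩, fun v _ => by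
  show Q a b (m2 1 a 0 (-1) *ᵥ v) = Q a b v
  obtain ⟨e0, e1⟩ := m2_mulVec 1 a 0 (-1) v
  rw [quad_eq, quad_eq, e0, e1]
  ring⟩

def mat (g : O2 a b) : Matrix J J F := ((g : GL J F) : Matrix J J F)

theorem mat_inj {g h : O2 a b} (e : mat a b g = mat a b h) : g = h := Subtype.ext (Units.ext e)

theorem mat_mul (g h : O2 a b) : mat a b (g * h) = mat a b g * mat a b h := rfl

theorem mat_rot (z : C a b) : mat a b (rot a b z) =
    m2 (z.1.val.re) (-b * z.1.val.im) z.1.val.im (z.1.val.re + a * z.1.val.im) := rfl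

variable (hab : ∀ z₁ z₂ : F, z₁ ^ 2 + a * z₁ * z₂ + b * z₂ ^ 2 = 0 → z₁ = 0 ∧ z₂ = 0)

include hab in
theorem no_root : ∀ r : F, r ^ 2 ≠ -b + a * r := fun r h => by
  have := (hab (-r) 1 (by linear_combination h)).2
  exact one_ne_zero this

include hab in
theorem disc_ne_zero : a ^ 2 - 4 * b ≠ 0 := by
  intro h
  by_cases h2 : (2 : F) = 0
  · have ha : a = 0 := by
      have : a ^ 2 = 0 := by linear_combination h + 2 * b * h2
      exact pow_eq_zero_iff (two_ne_zero (α := ℕ)) |>.1 this
    by_cases hF : ∃ r, r ^ 2 = b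
    · obtain ⟨r, hr⟩ := hF
      exact one_ne_zero (hab r 1 (by rw [ha]; linear_combination hr + b * h2)).2
    · haveI : CharP F 2 := CharTwo.of_one_ne_zero_of_two_eq_zero one_ne_zero h2
      obtain ⟨c, hc⟩ := FiniteField.isSquare_of_char_two (ringChar.eq F 2) b
      exact hF ⟨c, by rw [hc, sq]⟩
  · have := (hab (-a / 2) 1 (by field_simp; linear_combination -h)).2
    exact one_ne_zero this

include hab in
theorem classify (g : O2 a b) : ∃ z : C a b, g = rot a b z ∨ g = rot a b z * refl a b := by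
  have hg : ∀ (h : O2 a b) u, Q a b (mat a b h *ᵥ u) = Q a b u := fun h u => h.2 u u
  let u := mat a b g (.inr 0) (.inr 0)
  let v := mat a b g (.inr 1) (.inr 0)
  have h1 := hg g (Pi.single (.inr 0) 1)
  simp [quad_eq, Matrix.mulVec_single] at h1
  haveI : Fact (∀ r : F, r ^ 2 ≠ -b + a * r) := ⟨no_root a b hab⟩
  let z : QuadraticAlgebra F (-b) a := ⟨u, v⟩
  have hz : QuadraticAlgebra.norm z = 1 := by
    rw [QuadraticAlgebra.norm_def]; simp only [z, u, v]; linear_combination h1
  have hz0 : z ≠ 0 := fun e => by rw [e, QuadraticAlgebra.norm_zero] at hz; exact zero_ne_one hz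
  let zc : C a b := ⟨Units.mk0 z hz0, hz⟩
  refine ⟨zc, ?_⟩
  set h := (rot a b zc)⁻¹ * g with hh
  have hgh : g = rot a b zc * h := by rw [hh, mul_inv_cancel_left]
  have hcol := congrArg (mat a b) hgh
  rw [mat_mul, mat_rot] at hcol
  obtain ⟨p, p', r, r', hm⟩ : ∃ p p' r r', mat a b h = m2 p' p r' r := ⟨_, _, _, _, m2_ext fun i j => by
    fin_cases i <;> fin_cases j <;> simp only [m2] <;> rfl⟩
  rw [hm, m2_mul] at hcol
  have c0 : u = u * p' + -b * v * r' := congrFun (congrFun hcol (.inr 0)) (.inr 0)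
  have c1 : v = v * p' + (u + a * v) * r' := congrFun (congrFun hcol (.inr 1)) (.inr 0)
  rw [QuadraticAlgebra.norm_def] at hz
  have hp' : p' = 1 := by linear_combination -(u + a * v) * c0 + (-b * v) * c1 + (1 - p') * hz
  have hr' : r' = 0 := by linear_combination v * c0 - u * c1 - r' * hz
  subst hp'; subst hr'
  have e1 := hg h (Pi.single (.inr 1) 1)
  have e2 := hg h (fun _ => 1)
  rw [quad_eq, quad_eq] at e1 e2
  rw [hm, (m2_mulVec _ _ _ _ _).1, (m2_mulVec _ _ _ _ _).2] at e1 e2
  simp at e1 e2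
  have hA : a * r = a - 2 * p := by linear_combination e2 - e1
  have hr : (a ^ 2 - 4 * b) * (1 - r) * (1 + r) = 0 := by
    linear_combination 4 * e1 - (a * r + a + 2 * p) * hA
  have hr1 : r = 1 ∨ r = -1 := by
    rcases mul_eq_zero.1 hr with hr | hr
    · left
      have := (mul_eq_zero.1 hr).resolve_left (disc_ne_zero a b hab)
      linear_combination -this
    · right; linear_combination hr
  have key : (r = 1 ∧ p = 0) ∨ (r = -1 ∧ p = a) := by
    by_cases h2 : (2 : F) = 0
    · have hr2 : r = 1 := by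
        rcases hr1 with e | e
        · exact e
        · rw [e]; linear_combination -h2
      have hp2 : p * (p + a) = 0 := by rw [hr2] at e1; linear_combination e1
      rcases mul_eq_zero.1 hp2 with hp | hp
      · exact Or.inl ⟨hr2, hp⟩
      · exact Or.inr ⟨by rw [hr2]; linear_combination h2, by linear_combination hp - a * h2⟩
    · rcases hr1 with e | e
      · exact Or.inl ⟨e, mul_left_cancel₀ h2 (by rw [e] at hA; linear_combination hA)⟩
      · exact Or.inr ⟨e, mul_left_cancel₀ h2 (by rw [e] at hA; linear_combination hA)⟩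
  rcases key with ⟨hr2, hp⟩ | ⟨hr2, hp⟩
  · left
    rw [hgh, show h = 1 from mat_inj a b (by rw [hm, hr2, hp, m2_one]; rfl), mul_one]
  · right
    rw [hgh, show h = refl a b from mat_inj a b (by rw [hm, hr2, hp]; rfl)]

end Cfsg.Agent.S0306


namespace Cfsg.Agent.S0306

/-- GO^-_2(q) is dihedral of order 2(q+1). -/
theorem result {F : Type*} [Field F] [Fintype F] {q : ℕ} (hF : Fintype.card F = q) (a b : F) (hab : ∀ z₁ z₂ : F, z₁ ^ 2 + a * z₁ * z₂ + b * z₂ ^ 2 = 0 → z₁ = 0 ∧ z₂ = 0) : Nonempty (Cfsg.isometryGroup F (Cfsg.quadFormMinus 0 F a b) ≃* DihedralGroup (q + 1)) := by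
  classical
  haveI : Fact (∀ r : F, r ^ 2 ≠ -b + a * r) := ⟨no_root a b hab⟩
  haveI : Finite (QuadraticAlgebra F (-b) a) := Finite.of_equiv _ (QuadraticAlgebra.equivProd (-b) a).symm
  have hinj : Function.Injective (rot a b) := fun z w e => by
    have h0 := congrFun (congrFun (congrArg (mat a b) e) (.inr 0)) (.inr 0)
    have h1 := congrFun (congrFun (congrArg (mat a b) e) (.inr 1)) (.inr 0)
    exact Subtype.ext (Units.ext (QuadraticAlgebra.ext h0 h1))
  have hsR : ∀ z, rot a b z ≠ refl a b := fun z e => by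
    have h0 : (z : (QuadraticAlgebra F (-b) a)ˣ).val.re = 1 := congrFun (congrFun (congrArg (mat a b) e) (.inr 0)) (.inr 0)
    have h1 : (z : (QuadraticAlgebra F (-b) a)ˣ).val.im = 0 := congrFun (congrFun (congrArg (mat a b) e) (.inr 1)) (.inr 0)
    have h01 : -b * (z : (QuadraticAlgebra F (-b) a)ˣ).val.im = a := congrFun (congrFun (congrArg (mat a b) e) (.inr 0)) (.inr 1)
    have h11 : (z : (QuadraticAlgebra F (-b) a)ˣ).val.re + a * (z : (QuadraticAlgebra F (-b) a)ˣ).val.im = -1 :=
      congrFun (congrFun (congrArg (mat a b) e) (.inr 1)) (.inr 1)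
    rw [h0, h1] at h11
    rw [h1] at h01
    apply disc_ne_zero a b hab
    linear_combination -a * h01 - 2 * b * h11
  have hinv : ∀ z, refl a b * rot a b z * refl a b = rot a b z⁻¹ := by
    intro z
    rw [map_inv, eq_inv_iff_mul_eq_one]
    refine mat_inj a b ?_
    have hz := z.2
    rw [MonoidHom.mem_ker, MonoidHom.comp_apply, QuadraticAlgebra.norm_def] at hz
    show m2 1 a 0 (-1) * mat a b (rot a b z) * m2 1 a 0 (-1) * mat a b (rot a b z) = 1
    rw [mat_rot, m2_mul, m2_mul, m2_mul, ← m2_one]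
    simp only [Units.coeHom_apply] at hz
    congr 1 <;> first | ring1 | linear_combination hz | linear_combination (-1 : F) * hz | linear_combination a * hz
  obtain ⟨e⟩ := nonempty_dihedral (rot a b) hinj (refl a b) (mat_inj a b (by
    show m2 1 a 0 (-1) * m2 1 a 0 (-1) = 1
    rw [m2_mul, ← m2_one]; congr 1 <;> ring)) hsR hinv (classify a b hab)
  have hc : Nat.card (C a b) = q + 1 := by
    let Φ : (QuadraticAlgebra F (-b) a)ˣ →* Fˣ := Units.map (QuadraticAlgebra.norm (a := -b) (b := a))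
    have hsurj : Function.Surjective Φ := by
      intro t
      have hσ1 : starRingEnd (QuadraticAlgebra F (-b) a) ≠ RingHom.id _ := by
        intro e
        have h := DFunLike.congr_fun e (⟨0, 1⟩ : QuadraticAlgebra F (-b) a)
        rw [starRingEnd_apply, QuadraticAlgebra.ext_iff] at h
        simp at h
        apply disc_ne_zero a b hab
        linear_combination a * h.1 + 2 * b * h.2
      obtain ⟨z, hz⟩ := OrthBasis.exists_norm hσ1 (fun x => star_star x)
        (a := algebraMap F (QuadraticAlgebra F (-b) a) (t : F)) (by simp) (by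
          rw [starRingEnd_apply]; ext <;> simp [QuadraticAlgebra.algebraMap_eq])
      have hn : QuadraticAlgebra.norm z = (t : F) := by
        apply (algebraMap F (QuadraticAlgebra F (-b) a)).injective
        rw [QuadraticAlgebra.algebraMap_norm_eq_mul_star, ← hz, starRingEnd_apply, mul_comm]
      have hz0 : z ≠ 0 := fun e => by rw [e, QuadraticAlgebra.norm_zero] at hn; exact t.ne_zero hn.symm
      exact ⟨Units.mk0 z hz0, Units.ext hn⟩
    have hker : Φ.ker = C a b := by
      ext z
      simp [Φ, MonoidHom.mem_ker, Units.ext_iff]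
    have h := Φ.ker.index_mul_card
    rw [Subgroup.index_ker, MonoidHom.range_eq_top.2 hsurj, Subgroup.card_top, hker, Nat.card_units, Nat.card_units,
      Nat.card_congr (QuadraticAlgebra.equivProd (-b) a), Nat.card_prod, Nat.card_eq_fintype_card, hF] at h
    have hq : 1 < q := hF ▸ Fintype.one_lt_card
    obtain ⟨k, rfl⟩ : ∃ k, q = k + 2 := ⟨q - 2, by omega⟩
    rw [show (k + 2) * (k + 2) - 1 = (k + 2 - 1) * (k + 2 + 1) by
      rw [show k + 2 - 1 = k + 1 by omega, Nat.sub_eq_iff_eq_add (by nlinarith)]; ring] at h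
    exact Nat.eq_of_mul_eq_mul_left (by omega) h
  rw [hc] at e
  exact ⟨e⟩

end Cfsg.Agent.S0306
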