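import Cfsg.Statements.S0307
import Cfsg.Agent.Lib.Classical.Linear

set_option autoImplicit false
open Cfsg

namespace Cfsg.Agent.S0307

/-- PSL_n(q) is normal in PGL_n(q) with cyclic quotient of order gcd(n, q-1): the image of the natural map PSL_n → PGL_n is the kernel of a surjective homomorphism onto the cyclic group of that order. -/
theorem result {F : Type*} [Field F] [Fintype F] {q : ℕ} (hF : Fintype.card F = q) (n : ℕ) (hn : 1 ≤ n) : ∃ g : Matrix.ProjGenLinGroup (Fin n) F →* Multiplicative (ZMod (Nat.gcd n (q - 1))), Function.Surjective g ∧ g.ker = (Matrix.ProjectiveSpecialLinearGroup.toPGL : Matrix.ProjectiveSpecialLinearGroup (Fin n) F →* Matrix.ProjGenLinGroup (Fin n) F).range := by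
  classical
  haveI : Nonempty (Fin n) := ⟨⟨0, hn⟩⟩
  subst hF
  set d := Nat.gcd n (Fintype.card F - 1) with hd
  let R : Subgroup Fˣ := (powMonoidHom n : Fˣ →* Fˣ).range
  have hRcard : Nat.card (Fˣ ⧸ R) = d := by
    rw [← Subgroup.index_eq_card, IsCyclic.index_powMonoidHom_range,
      Cfsg.Agent.Classical.card_units_eq, Nat.gcd_comm]
  haveI : IsCyclic (Fˣ ⧸ R) :=
    isCyclic_of_surjective (QuotientGroup.mk' R) (QuotientGroup.mk'_surjective R)
  let e : Multiplicative (ZMod d) ≃* Fˣ ⧸ R :=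
    (MulEquiv.cast (M := fun k => Multiplicative (ZMod k)) hRcard.symm).trans
      (zmodCyclicMulEquiv inferInstance)
  let φ : Matrix.GeneralLinearGroup (Fin n) F →* Fˣ ⧸ R :=
    (QuotientGroup.mk' R).comp Matrix.GeneralLinearGroup.det
  have hker : Subgroup.center (Matrix.GeneralLinearGroup (Fin n) F) ≤ φ.ker := by
    rw [Matrix.GeneralLinearGroup.center_eq_range_scalar]
    rintro _ ⟨u, rfl⟩
    exact (QuotientGroup.eq_one_iff _).2 ⟨u, by simp⟩
  let ψ : Matrix.ProjGenLinGroup (Fin n) F →* Fˣ ⧸ R :=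
    QuotientGroup.lift (Subgroup.center (Matrix.GeneralLinearGroup (Fin n) F)) φ hker
  have hψ : ∀ g, ψ (Matrix.ProjGenLinGroup.mk g) = φ g := fun g => rfl
  refine ⟨e.symm.toMonoidHom.comp ψ, ?_, ?_⟩
  · intro x
    obtain ⟨u, hu⟩ := QuotientGroup.mk'_surjective R (e x)
    obtain ⟨g, rfl⟩ := Matrix.GeneralLinearGroup.det_surjective (n := Fin n) u
    refine ⟨Matrix.ProjGenLinGroup.mk g, ?_⟩
    show e.symm (ψ _) = x
    rw [hψ]
    show e.symm (QuotientGroup.mk' R _) = x
    rw [hu, MulEquiv.symm_apply_apply]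
  · have h1 : (e.symm.toMonoidHom.comp ψ).ker = ψ.ker := by
      ext y; simp [MonoidHom.mem_ker]
    rw [h1]
    ext y
    induction y using Matrix.ProjGenLinGroup.induction_on with
    | mk g =>
    rw [MonoidHom.mem_ker, hψ]
    constructor
    · intro hg
      obtain ⟨u, hu⟩ := (QuotientGroup.eq_one_iff _).1 hg
      rw [powMonoidHom_apply] at hu
      have hg' : g * Matrix.GeneralLinearGroup.scalar (Fin n) u⁻¹ ∈
          (Matrix.GeneralLinearGroup.det : Matrix.GeneralLinearGroup (Fin n) F →* Fˣ).ker := by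
        rw [MonoidHom.mem_ker, map_mul, Matrix.GeneralLinearGroup.det_scalar, Fintype.card_fin,
          ← hu, ← mul_pow, mul_inv_cancel, one_pow]
      rw [← Cfsg.Agent.Classical.range_toGL] at hg'
      obtain ⟨A, hA⟩ := hg'
      refine ⟨(A : Matrix.ProjectiveSpecialLinearGroup (Fin n) F), ?_⟩
      rw [Matrix.ProjectiveSpecialLinearGroup.toPGL_mk, Matrix.ProjGenLinGroup.mk_eq_mk_iff]
      refine ⟨u, ?_⟩
      rw [hA, mul_assoc, ← map_mul, inv_mul_cancel, map_one, mul_one]
    · rintro ⟨A, hA⟩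
      obtain ⟨A, rfl⟩ := QuotientGroup.mk_surjective A
      rw [Matrix.ProjectiveSpecialLinearGroup.toPGL_mk] at hA
      rw [← hψ, ← hA, hψ]
      show QuotientGroup.mk' R _ = 1
      rw [Matrix.SpecialLinearGroup.coeToGL_det, map_one]

end Cfsg.Agent.S0307
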