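import Cfsg.Statements.S0310
import Cfsg.Agent.Lib.BN.Basic

set_option autoImplicit false
open Cfsg

namespace Cfsg.Agent.S0310

/-- For a set `J` of distinguished generators, the subgroup generated by `B` and `J` is exactly the union of
the double cosets `B n B` with `n` in the subgroup generated by `J` (so `B W_J B` is a subgroup). -/
theorem result {G : Type*} [Group G] (P : Cfsg.BNPair G) {J : Set G}
    (hJ : J ⊆ P.S) (g : G) :
    g ∈ P.parabolic J ↔ ∃ n ∈ Subgroup.closure J, g ∈ DoubleCoset.doubleCoset n (P.B : Set G) P.B := by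
  rw [← BN.pSub_eq hJ]
  constructor
  · rintro ⟨n, hn, h⟩
    rw [BN.wSub_eq] at hn
    obtain ⟨a, ha, t, ht, rfl⟩ : ∃ a ∈ Subgroup.closure J, ∃ t ∈ P.B ⊓ P.N, a * t = n := by
      have hw : n ∈ BN.wSub P hJ := by rw [BN.wSub_eq]; exact hn
      obtain ⟨l, hl, e⟩ := hw
      exact ⟨l.prod, list_prod_mem fun x hx => Subgroup.subset_closure (hl x hx), l.prod⁻¹ * n, e,
        mul_inv_cancel_left _ _⟩
    exact ⟨a, ha, BN.inDC_trans h (BN.inDC_iff.mpr ⟨1, one_mem _, t, ht.1, by simp⟩)⟩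
  · rintro ⟨n, hn, h⟩
    exact ⟨n, by rw [BN.wSub_eq]; exact Subgroup.mem_sup_left hn, h⟩

end Cfsg.Agent.S0310
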