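import Cfsg.Statements.S0312
import Cfsg.Agent.Lib.BN.Basic

set_option autoImplicit false
open Cfsg

namespace Cfsg.Agent.S0312

/-- Every standard parabolic subgroup of a group with a (B,N)-pair equals its own normaliser. -/
theorem result {G : Type*} [Group G] (P : Cfsg.BNPair G) {J : Set G}
    (hJ : J ⊆ P.S) : Subgroup.normalizer (P.parabolic J : Set G) = P.parabolic J := by
  refine le_antisymm (fun g hg => ?_) Subgroup.le_normalizer
  obtain ⟨n, hn, h⟩ := BN.exists_inDC (P := P) g
  obtain ⟨a, ha, b, hb, rfl⟩ := BN.inDC_iff.mp h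
  have hle : P.B ≤ P.parabolic J := le_sup_left
  have hnn : n ∈ Subgroup.normalizer (P.parabolic J : Set G) := by
    have h1 : a ∈ Subgroup.normalizer (P.parabolic J : Set G) := Subgroup.le_normalizer (hle ha)
    have h2 : b ∈ Subgroup.normalizer (P.parabolic J : Set G) := Subgroup.le_normalizer (hle hb)
    have := mul_mem (mul_mem (inv_mem h1) hg) (inv_mem h2)
    simpa [mul_assoc] using this
  exact mul_mem (mul_mem (hle ha) (BN.mem_parabolic_of_conj hJ hn fun c hc =>
    (Subgroup.mem_normalizer_iff.mp hnn c).mp (hle hc))) (hle hb)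

end Cfsg.Agent.S0312
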