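import Cfsg.Statements.S0313
import Cfsg.Agent.Lib.BN.Basic

set_option autoImplicit false
open Cfsg

namespace Cfsg.Agent.S0313

/-- Two standard parabolic subgroups of a group with a (B,N)-pair which are conjugate in `G` coincide. -/
theorem result {G : Type*} [Group G] (P : Cfsg.BNPair G) {J K : Set G}
    (hJ : J ⊆ P.S) (hK : K ⊆ P.S) (g : G)
    (h : (P.parabolic J).map (MulAut.conj g).toMonoidHom = P.parabolic K) :
    P.parabolic J = P.parabolic K := by
  obtain ⟨n, hn, hg⟩ := BN.exists_inDC (P := P) g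
  obtain ⟨a, ha, b, hb, rfl⟩ := BN.inDC_iff.mp hg
  have hJB : P.B ≤ P.parabolic J := le_sup_left
  have hKB : P.B ≤ P.parabolic K := le_sup_left
  have hK' : ∀ x ∈ P.parabolic J, n * x * n⁻¹ ∈ P.parabolic K := by
    intro x hx
    have hm : MulAut.conj (a * n * b) (b⁻¹ * x * b) ∈ P.parabolic K := by
      rw [← h]
      exact Subgroup.mem_map_of_mem _ (mul_mem (mul_mem (inv_mem (hJB hb)) hx) (hJB hb))
    have := mul_mem (mul_mem (inv_mem (hKB ha)) hm) (hKB ha)
    simpa [mul_assoc] using this
  have hnK : n ∈ P.parabolic K := BN.mem_parabolic_of_conj hK hn fun c hc => hK' c (hJB hc)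
  have hgK : a * n * b ∈ P.parabolic K := mul_mem (mul_mem (hKB ha) hnK) (hKB hb)
  apply le_antisymm
  · intro x hx
    have := mul_mem (mul_mem (inv_mem hnK) (hK' x hx)) hnK
    simpa [mul_assoc] using this
  · intro x hx
    have hm : MulAut.conj (a * n * b) x ∈ P.parabolic K := mul_mem (mul_mem hgK hx) (inv_mem hgK)
    rw [← h] at hm
    obtain ⟨y, hy, e⟩ := Subgroup.mem_map.mp hm
    rwa [show y = x from (MulAut.conj (a * n * b)).injective e] at hy

end Cfsg.Agent.S0313
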