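import Cfsg.Statements.S0316
import Cfsg.Agent.Lib.BN.Basic

set_option autoImplicit false
open Cfsg

namespace Cfsg.Agent.S0316

/-- The map `J ↦ P_J` is a lattice isomorphism from the power set of the set of distinguished generators onto the
subgroups containing `B`. -/
theorem result {G : Type*} [Group G] (P : Cfsg.BNPair G) :
    ∃ e : Set P.S ≃o {M : Subgroup G // P.B ≤ M},
      ∀ J : Set P.S, ((e J : {M : Subgroup G // P.B ≤ M}) : Subgroup G) = P.parabolic (Subtype.val '' J) := by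
  have hsub : ∀ J : Set P.S, Subtype.val '' J ⊆ P.S := fun J => by rintro _ ⟨x, -, rfl⟩; exact x.2
  let f : Set P.S → {M : Subgroup G // P.B ≤ M} := fun J =>
    ⟨P.parabolic (Subtype.val '' J), le_sup_left⟩
  let g : {M : Subgroup G // P.B ≤ M} → Set P.S := fun M => {s | (s : G) ∈ M.1}
  have hgf : ∀ J, g (f J) = J := fun J => by
    ext s
    refine ⟨fun hs => ?_, fun hs => Subgroup.mem_sup_right (Subgroup.subset_closure ⟨s, hs, rfl⟩)⟩
    obtain ⟨x, hx, e⟩ := BN.mem_of_mem_parabolic (hsub J) s.2 hs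
    rwa [← Subtype.ext e]
  have hfg : ∀ M, f (g M) = M := fun M => by
    apply Subtype.ext
    show P.parabolic _ = M.1
    conv_rhs => rw [BN.eq_parabolic (P := P) M.2]
    congr 1
    ext s
    exact ⟨fun ⟨x, hx, e⟩ => e ▸ ⟨x.2, hx⟩, fun hs => ⟨⟨s, hs.1⟩, hs.2, rfl⟩⟩
  refine ⟨{ toFun := f, invFun := g, left_inv := hgf, right_inv := hfg, map_rel_iff' := ?_ },
    fun J => rfl⟩
  intro J K
  show (f J).1 ≤ (f K).1 ↔ J ⊆ K
  refine ⟨fun h => ?_, fun h => BN.parabolic_mono (Set.image_mono h)⟩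
  rw [← hgf J, ← hgf K]
  exact fun s hs => h hs

end Cfsg.Agent.S0316
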