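import Cfsg.Statements.S0318
import Cfsg.Agent.Lib.BN.Basic

set_option autoImplicit false
open Cfsg

namespace Cfsg.Agent.S0318

/-- For `n ∈ N`, the subgroup generated by `B` and `n` coincides with the subgroup generated by `B` and the
conjugate `n B n⁻¹`. -/
theorem result {G : Type*} [Group G] (P : Cfsg.BNPair G) {n : G}
    (hn : n ∈ P.N) :
    P.B ⊔ Subgroup.closure {n} = P.B ⊔ P.B.map (MulAut.conj n).toMonoidHom := by
  apply le_antisymm
  · refine sup_le le_sup_left ((Subgroup.closure_le _).mpr ?_)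
    rintro x rfl
    set M := P.B ⊔ P.B.map (MulAut.conj x).toMonoidHom with hM
    obtain ⟨l, hl, e⟩ := BN.mem_of_conj _ x hn rfl M le_sup_left fun c hc =>
      Subgroup.mem_sup_right (Subgroup.mem_map_of_mem (MulAut.conj x).toMonoidHom hc)
    have := mul_mem (list_prod_mem (S := M) fun y hy => (hl y hy).2)
      (Subgroup.mem_sup_left e.1 : l.prod⁻¹ * x ∈ M)
    simpa using this
  · refine sup_le le_sup_left ?_
    rintro _ ⟨b, hb, rfl⟩
    have hn' : n ∈ P.B ⊔ Subgroup.closure {n} :=
      Subgroup.mem_sup_right (Subgroup.subset_closure rfl)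
    exact mul_mem (mul_mem hn' (Subgroup.mem_sup_left hb)) (inv_mem hn')

end Cfsg.Agent.S0318
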