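import Cfsg.Statements.S0321
import Cfsg.Agent.Lib.BN.Basic

set_option autoImplicit false
open Cfsg

namespace Cfsg.Agent.S0321

/-- For `n ∈ N` not in `B`, the union `B ∪ B n B` is (the underlying set of) a subgroup exactly when `n` agrees
modulo `B ⊓ N` with one of the distinguished representatives; thus the distinguished involutions are
determined by `B` and `N`. -/
theorem result {G : Type*} [Group G] (P : Cfsg.BNPair G) {n : G}
    (hn : n ∈ P.N) (hnB : n ∉ P.B) :
    (∃ H : Subgroup G, (H : Set G) = (P.B : Set G) ∪ DoubleCoset.doubleCoset n (P.B : Set G) P.B) ↔ ∃ s ∈ P.S, s⁻¹ * n ∈ P.B := by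
  constructor
  · rintro ⟨H, hH⟩
    have hB : P.B ≤ H := fun b hb => by
      rw [← SetLike.mem_coe, hH]; exact Or.inl hb
    have hnH : n ∈ H := by
      rw [← SetLike.mem_coe, hH]; exact Or.inr (DoubleCoset.mem_doubleCoset_self _ _ _)
    by_cases hJ : BN.gensIn P H = ∅
    · have := BN.eq_parabolic (P := P) hB
      rw [hJ, BN.parabolic_empty] at this
      exact absurd (this ▸ hnH) hnB
    · obtain ⟨s, hs, hsH⟩ := Set.nonempty_iff_ne_empty.mpr hJ
      refine ⟨s, hs, ?_⟩
      rw [← SetLike.mem_coe, hH] at hsH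
      rcases hsH with h | h
      · exact absurd h (BN.not_mem_B hs)
      · exact (BN.eqv_of_inDC (P.subset hs) hn h).1
  · rintro ⟨s, hs, hsn⟩
    have hJ : ({s} : Set G) ⊆ P.S := Set.singleton_subset_iff.mpr hs
    refine ⟨P.parabolic {s}, ?_⟩
    have hsn' : BN.InDC P s n := BN.inDC_iff.mpr ⟨1, one_mem _, (s⁻¹ * n)⁻¹, inv_mem hsn, by simp⟩
    ext g
    constructor
    · intro hg
      rw [SetLike.mem_coe, ← BN.pSub_eq hJ] at hg
      obtain ⟨m, ⟨l, hl, e⟩, hm⟩ := hg
      have hlp : BN.Eqv P l.prod 1 ∨ BN.Eqv P l.prod s := by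
        clear e hm
        induction l with
        | nil => exact Or.inl (BN.eqv_refl 1)
        | cons x l ih =>
          obtain rfl : x = s := hl x List.mem_cons_self
          rw [List.prod_cons]
          rcases ih (fun y hy => hl y (List.mem_cons_of_mem _ hy)) with h | h
          · exact Or.inr (by simpa using BN.eqv_mul_left x h)
          · refine Or.inl (BN.eqv_trans (BN.eqv_mul_left x h) ?_)
            simpa [BN.Eqv] using inv_mem (BN.sq_tor hs)
      have hml : BN.InDC P g l.prod := BN.inDC_trans hm (BN.eqv_inDC e)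
      rcases hlp with h | h
      · exact Or.inl (BN.mem_B_of_inDC_one (BN.inDC_trans hml (BN.inDC_symm (BN.eqv_inDC h))))
      · exact Or.inr (BN.inDC_trans (BN.inDC_trans hml (BN.inDC_symm (BN.eqv_inDC h))) hsn')
    · rintro (hg | hg)
      · exact Subgroup.mem_sup_left hg
      · rw [SetLike.mem_coe, ← BN.pSub_eq hJ]
        exact ⟨s, BN.le_wSub hJ rfl, BN.inDC_trans hg (BN.inDC_symm hsn')⟩

end Cfsg.Agent.S0321
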