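import Cfsg.Statements.S0322
import Cfsg.Agent.Lib.BN.Basic

set_option autoImplicit false
open Cfsg

namespace Cfsg.Agent.S0322

/-- A group with a (B,N)-pair of rank one acts doubly transitively on the left cosets of `B`. -/
theorem result {G : Type*} [Group G] (P : Cfsg.BNPair G) (h : P.rank = 1) : MulAction.IsMultiplyPretransitive G (G ⧸ P.B) 2 := by
  obtain ⟨s, hS⟩ : ∃ s, P.S = {s} := by
    rw [Cfsg.BNPair.rank, Nat.card_coe_set_eq, Set.ncard_eq_one] at h
    exact h
  have hs : s ∈ P.S := hS ▸ rfl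
  have key : ∀ g : G, g ∉ P.B → BN.InDC P g s := by
    intro g hg
    obtain ⟨n, hn, hgn⟩ := BN.exists_inDC (P := P) g
    obtain ⟨l, hl, e⟩ := BN.exists_word hn
    have hlp : BN.Eqv P l.prod 1 ∨ BN.Eqv P l.prod s := by
      clear e
      induction l with
      | nil => exact Or.inl (BN.eqv_refl 1)
      | cons x l ih =>
        have hx := hl x List.mem_cons_self
        rw [hS, Set.mem_singleton_iff] at hx
        subst hx
        rw [List.prod_cons]
        rcases ih (fun y hy => hl y (List.mem_cons_of_mem _ hy)) with h' | h'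
        · exact Or.inr (by simpa using BN.eqv_mul_left x h')
        · refine Or.inl (BN.eqv_trans (BN.eqv_mul_left x h') ?_)
          simpa [BN.Eqv] using inv_mem (BN.sq_tor hs)
    have hml : BN.InDC P g l.prod := BN.inDC_trans hgn (BN.eqv_inDC e)
    rcases hlp with h' | h'
    · exact absurd (BN.mem_B_of_inDC_one (BN.inDC_trans hml (BN.inDC_symm (BN.eqv_inDC h')))) hg
    · exact BN.inDC_trans hml (BN.inDC_symm (BN.eqv_inDC h'))
  rw [MulAction.is_two_pretransitive_iff]
  have main : ∀ u v : G ⧸ P.B, u ≠ v →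
      ∃ g : G, g • ((1 : G) : G ⧸ P.B) = u ∧ g • (s : G ⧸ P.B) = v := by
    intro u v huv
    obtain ⟨x, rfl⟩ := QuotientGroup.mk_surjective u
    obtain ⟨y, rfl⟩ := QuotientGroup.mk_surjective v
    have hxy : x⁻¹ * y ∉ P.B := fun hmem => huv (QuotientGroup.eq.mpr hmem)
    obtain ⟨a, ha, b, hb, e⟩ := BN.inDC_iff.mp (key _ hxy)
    refine ⟨x * a, QuotientGroup.eq.mpr (by simpa using inv_mem ha), QuotientGroup.eq.mpr ?_⟩
    have : y = x * (a * s * b) := by rw [← e]; simp
    simp [this, mul_assoc, hb]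
  intro a b c d hab hcd
  obtain ⟨g₁, h1, h2⟩ := main a b hab
  obtain ⟨g₂, h3, h4⟩ := main c d hcd
  exact ⟨g₂ * g₁⁻¹, by rw [← h1, mul_smul, inv_smul_smul, h3], by rw [← h2, mul_smul, inv_smul_smul, h4]⟩

end Cfsg.Agent.S0322
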