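import Cfsg.Statements.S0323
import Cfsg.Agent.Lib.BN.Basic

set_option autoImplicit false
open scoped Pointwise
open Cfsg

namespace Cfsg.Agent.S0323

/-- A doubly transitive action on a set with at least three points yields a (B,N)-pair of rank one:
`B` is the stabiliser of a point `x`, `N` the setwise stabiliser of a pair `{x, y}`. -/
theorem result {G Ω : Type*} [Group G] [MulAction G Ω]
    (h2 : MulAction.IsMultiplyPretransitive G Ω 2) {x y z : Ω} (hxy : x ≠ y) (hyz : y ≠ z) (hxz : x ≠ z) :
    ∃ P : Cfsg.BNPair G, P.B = MulAction.stabilizer G x ∧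
      P.N = MulAction.stabilizer G ({x, y} : Set Ω) ∧ P.rank = 1 := by
  rw [MulAction.is_two_pretransitive_iff] at h2
  obtain ⟨s, hsx, hsy⟩ := h2 hxy hxy.symm
  obtain ⟨u, hux, huy⟩ := h2 hxy hxz
  have hN : ∀ g : G, g ∈ MulAction.stabilizer G ({x, y} : Set Ω) ↔
      (g • x = x ∧ g • y = y) ∨ (g • x = y ∧ g • y = x) := by
    intro g
    rw [MulAction.mem_stabilizer_iff, Set.smul_set_insert, Set.smul_set_singleton, Set.pair_eq_pair_iff]
  have key : ∀ g : G, g • x ≠ x → g ∈ DoubleCoset.doubleCoset s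
      (MulAction.stabilizer G x : Set G) (MulAction.stabilizer G x) := by
    intro g hg
    obtain ⟨b, hb1, hb2⟩ := h2 hxy (Ne.symm hg)
    refine DoubleCoset.mem_doubleCoset.mpr ⟨b, hb1, s⁻¹ * b⁻¹ * g, ?_, by simp [mul_assoc]⟩
    show (s⁻¹ * b⁻¹ * g) • x = x
    rw [mul_smul, mul_smul, ← hb2, inv_smul_smul, ← hsx, inv_smul_smul]
  have hss : (s * s) • x = x := by rw [mul_smul, hsx, hsy]
  refine ⟨{
    B := MulAction.stabilizer G x
    N := MulAction.stabilizer G ({x, y} : Set Ω)
    S := {s}
    sup_eq_top := ?_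
    conj_mem := ?_
    subset := ?_
    sq_mem := ?_
    inj := ?_
    closure_sup := ?_
    mul_mem_union := ?_
    conj_ne := ?_ }, rfl, rfl, ?_⟩
  · rw [eq_top_iff]
    intro g _
    by_cases hg : g • x = x
    · exact Subgroup.mem_sup_left hg
    · obtain ⟨a, ha, b, hb, rfl⟩ := DoubleCoset.mem_doubleCoset.mp (key g hg)
      exact mul_mem (mul_mem (Subgroup.mem_sup_left ha)
        (Subgroup.mem_sup_right ((hN s).mpr (Or.inr ⟨hsx, hsy⟩)))) (Subgroup.mem_sup_left hb)
  · rintro n hn t ⟨ht, htN⟩
    have htx : t • x = x := ht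
    have hty : t • y = y := by
      rcases (hN t).mp htN with h | h
      · exact h.2
      · exact absurd (htx.symm.trans h.1) hxy
    show (n * t * n⁻¹) • x = x
    rcases (hN n).mp hn with h | h
    · have : n⁻¹ • x = x := inv_smul_eq_iff.mpr h.1.symm
      rw [mul_smul, mul_smul, this, htx, h.1]
    · have : n⁻¹ • x = y := inv_smul_eq_iff.mpr h.2.symm
      rw [mul_smul, mul_smul, this, hty, h.2]
  · intro t ht
    replace ht : t = s := ht
    subst t
    exact (hN s).mpr (Or.inr ⟨hsx, hsy⟩)
  · intro t ht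
    replace ht : t = s := ht
    subst t
    exact hss
  · rintro _ rfl _ rfl _
    rfl
  · apply le_antisymm
    · refine sup_le ((Subgroup.closure_le _).mpr ?_) inf_le_right
      intro t ht
      replace ht : t = s := ht
      subst t
      exact (hN s).mpr (Or.inr ⟨hsx, hsy⟩)
    · intro n hn
      rcases (hN n).mp hn with h | h
      · exact Subgroup.mem_sup_right (Subgroup.mem_inf.mpr ⟨h.1, hn⟩)
      · have e : n = s * (s⁻¹ * n) := by simp
        rw [e]
        refine mul_mem (Subgroup.mem_sup_left (Subgroup.subset_closure rfl)) (Subgroup.mem_sup_right (Subgroup.mem_inf.mpr ⟨?_, ?_⟩))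
        · show (s⁻¹ * n) • x = x
          rw [mul_smul, h.1, ← hsx, inv_smul_smul]
        · exact mul_mem (inv_mem ((hN s).mpr (Or.inr ⟨hsx, hsy⟩))) hn
  · rintro t ht n hn b hb
    replace ht : t = s := ht
    subst t
    by_cases hg : (s * b * n) • x = x
    · rcases (hN n).mp hn with h | h
      · exfalso
        rw [mul_smul, mul_smul, h.1, show b • x = x from hb, hsx] at hg
        exact hxy hg.symm
      · left
        have hsn : (s * n) • x = x := by rw [mul_smul, h.1, hsy]
        exact DoubleCoset.mem_doubleCoset.mpr ⟨1, one_mem _, (s * n)⁻¹ * (s * b * n),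
          mul_mem (inv_mem hsn) hg, by simp [mul_assoc]⟩
    · obtain ⟨a, ha, c, hc, e⟩ := DoubleCoset.mem_doubleCoset.mp (key _ hg)
      rcases (hN n).mp hn with h | h
      · left
        refine DoubleCoset.mem_doubleCoset.mpr ⟨a, ha, n⁻¹ * c, mul_mem (inv_mem h.1) hc, ?_⟩
        rw [e]; simp [mul_assoc]
      · right
        have hns : (n⁻¹ * s) • x = x := by rw [mul_smul, hsx, inv_smul_eq_iff, h.1]
        refine DoubleCoset.mem_doubleCoset.mpr ⟨a, ha, n⁻¹ * s * c, mul_mem hns hc, ?_⟩
        rw [e]; simp [mul_assoc]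
  · intro t ht heq
    replace ht : t = s := ht
    subst t
    have hu : s * u * s ∈ (fun b : G => s * b * s) '' (MulAction.stabilizer G x : Set G) := ⟨u, hux, rfl⟩
    rw [heq] at hu
    have hu' : (s * u * s) • x = x := hu
    rw [mul_smul, mul_smul, hsx, huy] at hu'
    have : s • z = s • y := hu'.trans hsy.symm
    exact hyz (MulAction.injective s this).symm
  · show Nat.card ({s} : Set G) = 1
    simp

end Cfsg.Agent.S0323
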