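import Cfsg.Statements.S0740
import Mathlib

set_option autoImplicit false
open Cfsg

namespace Cfsg.Agent.S0740

---pre
open MulAction

/-- In a finite Zassenhaus group any two points `a ≠ b` are swapped by an involution; every such involution has exactly one fixed point when the degree is odd and 0 or 2 fixed points when the degree is even; and if the two-point stabiliser has even order, some such involution has exactly 2 fixed points. -/
theorem result {G Ω : Type*} [Group G] [Finite G] [MulAction G Ω] [Fintype Ω] (hZ : Cfsg.IsZassenhausGroup G Ω) {a b : Ω} (hab : a ≠ b) : (∃ s : G, orderOf s = 2 ∧ s • a = b ∧ s • b = a) ∧ (∀ s : G, orderOf s = 2 → s • a = b → s • b = a → (Odd (Fintype.card Ω) → Nat.card (MulAction.fixedBy Ω s) = 1) ∧ (Even (Fintype.card Ω) → Nat.card (MulAction.fixedBy Ω s) = 0 ∨ Nat.card (MulAction.fixedBy Ω s) = 2)) ∧ (Even (Fintype.card Ω) → Even (Nat.card ↥(MulAction.stabilizer G a ⊓ MulAction.stabilizer G b)) → ∃ s : G, orderOf s = 2 ∧ s • a =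 b ∧ s • b = a ∧ Nat.card (MulAction.fixedBy Ω s) = 2) := by
  classical
  obtain ⟨hfaith, h2, h3fix, -, -⟩ := hZ
  have h2t : ∀ {x y z w : Ω}, x ≠ y → z ≠ w → ∃ g : G, g • x = z ∧ g • y = w := is_two_pretransitive_iff.1 h2
  have : Fact (Nat.Prime 2) := ⟨Nat.prime_two⟩
  have conjswap : ∀ t : G, orderOf t = 2 → ∃ g : G, (g * t * g⁻¹) • a = b ∧ (g * t * g⁻¹) • b = a := by
    intro t ht
    obtain ⟨x, hx⟩ : ∃ x : Ω, t • x ≠ x := by
      by_contra hno
      push Not at hno
      have : t = 1 := FaithfulSMul.eq_of_smul_eq_smul (α := Ω) fun x => by rw [hno, one_smul]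
      rw [this, orderOf_one] at ht
      omega
    obtain ⟨g, hga, hgb⟩ := h2t (Ne.symm hx) hab
    have htt : t • t • x = x := by rw [← mul_smul, ← sq, ← ht, pow_orderOf_eq_one, one_smul]
    refine ⟨g, ?_, ?_⟩
    · rw [mul_smul, mul_smul, inv_smul_eq_iff.2 hga.symm, hgb]
    · rw [mul_smul, mul_smul, inv_smul_eq_iff.2 hgb.symm, htt, hga]
  have hfix : ∀ s : G, orderOf s = 2 → Nat.card (fixedBy Ω s) ≤ 2 ∧
      Nat.card (fixedBy Ω s) % 2 = Fintype.card Ω % 2 := by
    intro s hs
    refine ⟨?_, ?_⟩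
    · by_contra h
      push Not at h
      rw [Nat.card_coe_set_eq, Set.two_lt_ncard_iff (Set.toFinite _)] at h
      obtain ⟨x, y, z, hx, hy, hz, hxy, hxz, hyz⟩ := h
      have := h3fix s x y z hxy hyz hxz hx hy hz
      rw [this, orderOf_one] at hs
      omega
    · have hP : IsPGroup 2 (Subgroup.zpowers s) := IsPGroup.of_card (n := 1) (by rw [Nat.card_zpowers, pow_one, hs])
      have h := hP.card_modEq_card_fixedPoints (α := Ω)
      have e : fixedPoints (Subgroup.zpowers s) Ω ≃ fixedBy Ω s := Equiv.subtypeEquivRight fun x =>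
        ⟨fun h => h ⟨s, Subgroup.mem_zpowers s⟩, fun h y => (Subgroup.zpowers_le.2 h : Subgroup.zpowers s ≤ stabilizer G x) y.2⟩
      rw [Nat.card_congr e, Nat.card_eq_fintype_card (α := Ω)] at h
      exact h.symm
  have ordconj : ∀ g t : G, orderOf (g * t * g⁻¹) = orderOf t := fun g t => MulEquiv.orderOf_eq (MulAut.conj g) t
  refine ⟨?_, fun s hs _ _ => ⟨fun ho => ?_, fun he => ?_⟩, fun he hH => ?_⟩
  · obtain ⟨g, hga, hgb⟩ := h2t hab (Ne.symm hab)
    have hg2 : 2 ∣ orderOf g := by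
      by_contra hodd
      obtain ⟨j, hj⟩ := Nat.odd_iff.2 (by omega : orderOf g % 2 = 1)
      have h1 : ∀ j : ℕ, (g ^ (2 * j + 1)) • a = b := by
        intro j
        induction j with
        | zero => simpa using hga
        | succ j ih => rw [show 2 * (j + 1) + 1 = 2 + (2 * j + 1) by ring, pow_add, mul_smul, ih, sq, mul_smul, hgb, hga]
      have := h1 j
      rw [← hj, pow_orderOf_eq_one, one_smul] at this
      exact hab this
    obtain ⟨t, ht⟩ := exists_prime_orderOf_dvd_card' (G := G) 2 (hg2.trans (orderOf_dvd_natCard g))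
    obtain ⟨f, hf⟩ := conjswap t ht
    exact ⟨_, by rw [ordconj, ht], hf⟩
  · have := hfix s hs; rw [Nat.odd_iff] at ho; omega
  · have := hfix s hs; rw [Nat.even_iff] at he; omega
  · obtain ⟨⟨z, hz⟩, hzo⟩ := exists_prime_orderOf_dvd_card' (G := ↥(stabilizer G a ⊓ stabilizer G b)) 2 hH.two_dvd
    rw [Subgroup.orderOf_mk] at hzo
    obtain ⟨f, hf⟩ := conjswap z hzo
    refine ⟨_, by rw [ordconj, hzo], hf.1, hf.2, ?_⟩
    obtain ⟨hza, hzb⟩ := Subgroup.mem_inf.1 hz
    have h1 := hfix (f * z * f⁻¹) (by rw [ordconj, hzo])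
    have h2 : ({f • a, f • b} : Set Ω).ncard ≤ (fixedBy Ω (f * z * f⁻¹)).ncard := by
      refine Set.ncard_le_ncard ?_ (Set.toFinite _)
      rintro x (rfl | rfl) <;> show (f * z * f⁻¹) • _ = _ <;> rw [mul_smul, mul_smul, inv_smul_smul]
      · rw [mem_stabilizer_iff.1 hza]
      · rw [mem_stabilizer_iff.1 hzb]
    rw [Set.ncard_pair (fun e => hab (MulAction.injective f e)), ← Nat.card_coe_set_eq] at h2
    omega

end Cfsg.Agent.S0740
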