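import Cfsg.Statements.S0338
import Cfsg.Agent.Lib.Solv.ZassNormal
import Cfsg.Agent.S0740

set_option autoImplicit false
open Cfsg

namespace Cfsg.Agent.S0338

/-- A Zassenhaus group of odd degree is a simple group. -/
theorem result {G Ω : Type*} [Group G] [MulAction G Ω] [Fintype Ω]
    (hZ : Cfsg.IsZassenhausGroup G Ω) (hodd : Odd (Fintype.card Ω)) : IsSimpleGroup G := by
  classical
  have := Cfsg.Agent.Solv.ZassNormal.finite_of_zass hZ
  have := hZ.1
  have hn := Cfsg.Agent.Solv.ZassNormal.three_le hZ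
  have hnt : Nontrivial G := by
    obtain ⟨g, hg, -⟩ := hZ.2.2.2.1
    exact ⟨g, 1, hg⟩
  refine ⟨fun N hN => ?_⟩
  by_cases hN1 : N = ⊥
  · exact Or.inl hN1
  right
  have h2 := Cfsg.Agent.Solv.ZassNormal.two_pretransitive hZ N hN1
  obtain ⟨a, b, hab⟩ : ∃ a b : Ω, a ≠ b := Fintype.exists_pair_of_one_lt_card (by omega)
  obtain ⟨⟨s, hs2, hsa, hsb⟩, hsfix, -⟩ := Cfsg.Agent.S0740.result hZ hab
  have h1 := (hsfix s hs2 hsa hsb).1 hodd
  obtain ⟨hu, ⟨⟨c, hc⟩⟩⟩ := Nat.card_eq_one_iff_unique.mp h1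
  have honly : ∀ d : Ω, s • d = d → d = c := fun d hd =>
    congrArg Subtype.val (hu.elim (⟨d, hd⟩ : MulAction.fixedBy Ω s) ⟨c, hc⟩)
  have hca : c ≠ a := fun e => hab (by
    have h : s • a = a := e ▸ hc
    exact h.symm.trans hsa)
  have hcb : c ≠ b := fun e => hab (by
    have h : s • b = b := e ▸ hc
    exact hsb.symm.trans h)
  obtain ⟨H, hHa, hHcard, hHfix⟩ := Cfsg.Agent.Char.Zass.exists_kernel hZ hca hn
  have hsN : s ∈ N := Cfsg.Agent.Solv.ZassNormal.kernel_le hZ N hN1 hca H hHa hHcard hHfix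
    (Cfsg.Agent.Char.Zass.mem_kernel_of_fix hZ hca H hHa hHcard hHfix hn
      (MulAction.mem_stabilizer_iff.mpr hc) honly)
  let T := Cfsg.Agent.Char.Zass.two G a b
  have hsT : ∀ u ∈ T, s * u * s⁻¹ ∈ T := by
    intro u hu'
    obtain ⟨hua, hub⟩ := Cfsg.Agent.Char.Zass.mem_two.mp hu'
    refine Cfsg.Agent.Char.Zass.mem_two.mpr ⟨?_, ?_⟩
    · rw [mul_smul, mul_smul, inv_smul_eq_iff.mpr hsb.symm, hub, hsb]
    · rw [mul_smul, mul_smul, inv_smul_eq_iff.mpr hsa.symm, hua, hsa]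
  let F : T → T := fun u => ⟨(u : G)⁻¹ * (s * u * s⁻¹), T.mul_mem (T.inv_mem u.2) (hsT u u.2)⟩
  have hF : Function.Injective F := by
    intro u v e
    have e' : (u : G)⁻¹ * (s * u * s⁻¹) = (v : G)⁻¹ * (s * v * s⁻¹) := congrArg Subtype.val e
    have hcomm : ((v : G) * (u : G)⁻¹) * s = s * ((v : G) * (u : G)⁻¹) := by
      calc ((v : G) * (u : G)⁻¹) * s = (v : G) * ((u : G)⁻¹ * (s * u * s⁻¹)) * s * (u : G)⁻¹ := by group
        _ = _ := by rw [e']; group
    have hfix : s • (((v : G) * (u : G)⁻¹) • c) = ((v : G) * (u : G)⁻¹) • c := by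
      rw [← mul_smul, ← hcomm, mul_smul]
      exact congrArg _ hc
    by_contra huv
    rcases Cfsg.Agent.Char.Zass.only_two hZ hab (T.mul_mem v.2 (T.inv_mem u.2))
      (fun h => huv (Subtype.ext (mul_inv_eq_one.mp h).symm)) (honly _ hfix) with h | h
    · exact hca h
    · exact hcb h
  have hTN : T ≤ N := by
    intro w hw
    obtain ⟨u, hu'⟩ := Finite.surjective_of_injective hF ⟨w, hw⟩
    rw [← show (u : G)⁻¹ * (s * u * s⁻¹) = w from congrArg Subtype.val hu',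
      show (u : G)⁻¹ * (s * u * s⁻¹) = ((u : G)⁻¹ * s * u) * s⁻¹ by group]
    refine N.mul_mem ?_ (N.inv_mem hsN)
    simpa using hN.conj_mem s hsN (u : G)⁻¹
  rw [Subgroup.eq_top_iff']
  intro g
  have hgab : g • a ≠ g • b := fun e => hab (MulAction.injective g e)
  obtain ⟨h, hha, hhb⟩ := (MulAction.is_two_pretransitive_iff.mp h2) hab hgab
  have hT : (h : G)⁻¹ * g ∈ T := Cfsg.Agent.Char.Zass.mem_two.mpr
    ⟨by rw [mul_smul, inv_smul_eq_iff]; exact hha.symm,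
     by rw [mul_smul, inv_smul_eq_iff]; exact hhb.symm⟩
  have := N.mul_mem h.2 (hTN hT)
  rwa [mul_inv_cancel_left] at this

end Cfsg.Agent.S0338
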