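import Cfsg.Statements.S0341
import Cfsg.Agent.S0042
import Cfsg.Agent.Lib.Solv.CNSolvable

set_option autoImplicit false
open Cfsg

namespace Cfsg.Agent.S0341

/-- If a finite group acts faithfully and doubly transitively, no non-identity element fixes three points, some
non-identity element fixes two points, and some normal subgroup acts regularly, then the number of points
is `2^p` with `p` prime. -/
theorem result {G Ω : Type*} [Group G]
    [MulAction G Ω] [Fintype Ω] [FaithfulSMul G Ω] (h2 : MulAction.IsMultiplyPretransitive G Ω 2)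
    (h3 : ∀ g : G, ∀ a b c : Ω, a ≠ b → b ≠ c → a ≠ c → g • a = a → g • b = b → g • c = c → g = 1)
    (hfix : ∃ g : G, g ≠ 1 ∧ ∃ a b : Ω, a ≠ b ∧ g • a = a ∧ g • b = b)
    (N : Subgroup G) [N.Normal] (hNt : MulAction.IsPretransitive N Ω)
    (hNr : ∀ a : Ω, MulAction.stabilizer N a = ⊥) :
    ∃ p : ℕ, p.Prime ∧ Fintype.card Ω = 2 ^ p := by
  classical
  haveI : Finite G := Finite.of_injective (fun g (x : Ω) => g • x) fun g g' h => eq_of_smul_eq_smul (congrFun h)
  haveI := hNt
  obtain ⟨g₁, hg₁, p₁, q₁, hpq, hp₁, hq₁⟩ := hfix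
  let a : Ω := p₁
  set H := MulAction.stabilizer G a with hH
  have hinj : ∀ m n : N, (m : G) • a = (n : G) • a → m = n := by
    intro m n h
    have : n⁻¹ * m ∈ MulAction.stabilizer N a := by
      show ((n : G)⁻¹ * m) • a = a
      rw [mul_smul, h, inv_smul_smul]
    rw [hNr, Subgroup.mem_bot, inv_mul_eq_one] at this
    exact this.symm
  have hsurj : ∀ x : Ω, ∃ n : N, (n : G) • a = x := fun x => MulAction.exists_smul_eq N a x
  have hconj : ∀ (h : H) (n : N), ((MulAut.conjNormal (h : G) n : N) : G) • a = (h : G) • (n : G) • a := by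
    intro h n
    rw [MulAut.conjNormal_apply, mul_smul, mul_smul]
    congr 2
    exact inv_smul_eq_iff.mpr h.2.symm
  let φ : H →* MulAut N := (MulAut.conjNormal (H := N)).comp H.subtype
  have hφ : ∀ (h : H) (n : N), ((φ h n : N) : G) • a = (h : G) • (n : G) • a := hconj
  have hthree : ∀ (h : H) (m n : N), m ≠ 1 → n ≠ 1 → m ≠ n → φ h m = m → φ h n = n → h = 1 := by
    intro h m n hm hn hmn e1 e2
    refine Subtype.ext (h3 h a ((m : G) • a) ((n : G) • a) (fun e => hm (hinj m 1 (by rw [← e, OneMemClass.coe_one, one_smul])))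
      (fun e => hmn (hinj m n e)) (fun e => hn (hinj n 1 (by rw [← e, OneMemClass.coe_one, one_smul]))) h.2 ?_ ?_)
    · rw [← hφ, e1]
    · rw [← hφ, e2]
  have hfaith : ∀ h : H, (∀ n, φ h n = n) → h = 1 := by
    intro h hh
    refine Subtype.ext (eq_of_smul_eq_smul (α := Ω) fun x => ?_)
    obtain ⟨n, rfl⟩ := hsurj x
    rw [← hφ, hh, OneMemClass.coe_one, one_smul]
  have htr : ∀ m n : N, m ≠ 1 → n ≠ 1 → ∃ h : H, φ h m = n := by
    intro m n hm hn
    have hP : ∀ {a b c d : Ω}, a ≠ b → c ≠ d → ∃ g : G, g • a = c ∧ g • b = d := MulAction.is_two_pretransitive_iff.mp h2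
    obtain ⟨g, hg1, hg2⟩ := @hP a ((m : G) • a) a ((n : G) • a)
      (fun e => hm (hinj m 1 (by rw [← e, OneMemClass.coe_one, one_smul])))
      (fun e => hn (hinj n 1 (by rw [← e, OneMemClass.coe_one, one_smul])))
    exact ⟨⟨g, hg1⟩, hinj _ _ (by rw [hφ]; exact hg2)⟩
  obtain ⟨v, hv⟩ := hsurj q₁
  let k₁ : H := ⟨g₁, hp₁⟩
  have hk₁v : φ k₁ v = v := hinj _ _ (by rw [hφ, hv]; exact hq₁)
  have hv1 : v ≠ 1 := fun e => hpq (by rw [← hv, e, OneMemClass.coe_one, one_smul])
  have hk₁ : k₁ ≠ 1 := fun e => hg₁ (congrArg Subtype.val e)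
  have hvv : v * v = 1 := by
    by_contra hne
    exact hk₁ (hthree k₁ v v⁻¹ hv1 (by simpa using hv1) (fun e => hne (eq_inv_iff_mul_eq_one.mp e)) hk₁v
      (by rw [map_inv, hk₁v]))
  have hexp : ∀ n : N, n * n = 1 := by
    intro n
    rcases eq_or_ne n 1 with rfl | hn
    · exact one_mul 1
    · obtain ⟨h, rfl⟩ := htr v n hv1 hn
      rw [← map_mul, hvv, map_one]
  letI : CommGroup N := { (inferInstance : Group N) with
    mul_comm := fun x y => by
      have hi : ∀ n : N, n⁻¹ = n := fun n => inv_eq_of_mul_eq_one_right (hexp n)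
      calc x * y = (x * y)⁻¹ := (hi _).symm
        _ = y⁻¹ * x⁻¹ := mul_inv_rev x y
        _ = y * x := by rw [hi, hi] }
  have hcardN : Nat.card N = Fintype.card Ω := by
    rw [← Nat.card_eq_fintype_card]
    exact Nat.card_congr (Equiv.ofBijective (fun n : N => (n : G) • a) ⟨fun m n => hinj m n, hsurj⟩)
  -- the Frobenius group
  let K : Subgroup H :=
    { carrier := {h | φ h v = v}
      one_mem' := by simp
      mul_mem' := fun {x y} (hx : φ x v = v) (hy : φ y v = v) => by
        show φ (x * y) v = v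
        rw [map_mul, MulAut.mul_apply, hy, hx]
      inv_mem' := fun {x} (hx : φ x v = v) => by
        show φ x⁻¹ v = v
        conv_lhs => rw [← hx]
        rw [← MulAut.mul_apply, ← map_mul, inv_mul_cancel, map_one, MulAut.one_apply] }
  have hKne : K ≠ ⊥ := fun e => hk₁ ((Subgroup.eq_bot_iff_forall K).mp e k₁ hk₁v)
  have hKtop : K ≠ ⊤ := by
    intro e
    refine hk₁ (hfaith k₁ fun n => ?_)
    rcases eq_or_ne n 1 with rfl | hn
    · exact map_one _
    · obtain ⟨h, rfl⟩ := htr v n hv1 hn
      rw [show φ h v = v from e.ge (Subgroup.mem_top h)]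
      exact hk₁v
  have hFC : IsFrobeniusComplement K := by
    refine ⟨hKne, hKtop, fun g hg => ?_⟩
    rw [Subgroup.eq_bot_iff_forall]
    rintro x ⟨hx, hx'⟩
    have hx'' : φ (g⁻¹ * x * g) v = v := Cfsg.Agent.Struct.Frobenius.mem_conj_smul.mp hx'
    refine hthree x v (φ g v) hv1 (by simpa using hv1) (fun e => hg e.symm) hx ?_
    have := congrArg (φ g) hx''
    rwa [← MulAut.mul_apply, ← map_mul, show g * (g⁻¹ * x * g) = x * g by group, map_mul, MulAut.mul_apply] at this
  obtain ⟨F, hFset, hFn, hFc⟩ := Cfsg.Agent.Struct.Frobenius.exists_kernel hFC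
  haveI hFnil : Group.IsNilpotent F := by
    obtain ⟨F', hF', -, hnil⟩ := Cfsg.Agent.S0042.result K hFC
    rwa [SetLike.coe_injective (hFset.trans hF'.symm)]
  have hFK : ∀ f ∈ F, φ f v = v → f = 1 := fun f hf hfv => Subgroup.disjoint_def.mp hFc.disjoint hf hfv
  have hFex : ∀ n : N, n ≠ 1 → ∃ f : F, φ f v = n := by
    intro n hn
    obtain ⟨h, hh⟩ := htr v n hv1 hn
    obtain ⟨⟨f, k⟩, rfl⟩ := hFc.2 h
    refine ⟨f, ?_⟩
    rw [map_mul, MulAut.mul_apply, show φ (k : H) v = v from k.2] at hh
    exact hh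
  choose fv hfv using hFex
  have huniq : ∀ f f' : F, φ f v = φ f' v → f = f' := by
    intro f f' h
    have := hFK ((f' : H)⁻¹ * f) (F.mul_mem (F.inv_mem f'.2) f.2) (by
      rw [map_mul, MulAut.mul_apply, h, ← MulAut.mul_apply, ← map_mul, inv_mul_cancel, map_one, MulAut.one_apply])
    exact Subtype.ext (inv_mul_eq_one.mp this).symm
  have hfpf : ∀ (f : F) (n : N), n ≠ 1 → φ f n = n → f = 1 := by
    intro f n hn hfn
    have h1 := hfn
    rw [← hfv n hn, ← MulAut.mul_apply, ← map_mul] at h1
    have h2 := huniq (f * fv n hn) (fv n hn) h1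
    simpa using h2
  have hFcard : Nat.card F + 1 = Nat.card N := by
    have hb : Nat.card F = Nat.card {n : N // n ≠ 1} := Nat.card_congr (Equiv.ofBijective
      (fun f : F => (⟨φ f v, by simpa using hv1⟩ : {n : N // n ≠ 1}))
      ⟨fun f f' h => huniq f f' (congrArg Subtype.val h), fun n => ⟨fv n n.2, Subtype.ext (hfv n n.2)⟩⟩)
    haveI := Fintype.ofFinite N
    rw [hb, Nat.card_eq_fintype_card, Nat.card_eq_fintype_card, Fintype.card_subtype_compl, Fintype.card_subtype_eq]
    have := Fintype.card_pos (α := N)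
    omega
  have hNtwo : 2 ∣ Nat.card N := by
    rw [← orderOf_eq_prime (p := 2) (by rw [pow_two]; exact hvv) hv1]
    exact orderOf_dvd_natCard v
  haveI : IsZGroup F := by
    refine ⟨fun r hr R => ?_⟩
    haveI := Fact.mk hr
    let i : F →* G := H.subtype.comp F.subtype
    have hi : Function.Injective i := H.subtype_injective.comp F.subtype_injective
    let e := Subgroup.equivMapOfInjective (R : Subgroup F) i hi
    have hA : Nat.card i.range = Nat.card F := (Nat.card_congr (MonoidHom.ofInjective hi).toEquiv).symm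
    rcases eq_or_ne r 2 with rfl | hr2
    · have hR1 : Nat.card (R : Subgroup F) = 1 := by
        obtain ⟨k, hk⟩ := IsPGroup.iff_card.mp R.isPGroup'
        rcases Nat.eq_zero_or_pos k with h | h
        · rw [hk, h, pow_zero]
        · exfalso
          have h2F : 2 ∣ Nat.card F := (dvd_pow_self 2 h.ne').trans (hk ▸ Subgroup.card_subgroup_dvd_card _)
          omega
      haveI := (Nat.card_eq_one_iff_unique.mp hR1).1
      infer_instance
    haveI := Cfsg.Agent.Solv.CNSolvable.sylow_cyclic_of_odd (K := N) (A := i.range)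
      (fun e => hv1 (by ext; exact (Subgroup.eq_bot_iff_forall N).mp e v v.2))
      (by rw [hA, ← hFcard]; simp)
      (by
        rintro _ ⟨f, rfl⟩ hf1
        rw [Subgroup.eq_bot_iff_forall]
        rintro x ⟨hxN, hxc⟩
        by_contra hx1
        have h1 : φ (f : H) ⟨x, hxN⟩ = ⟨x, hxN⟩ := by
          apply Subtype.ext
          show ((f : H) : G) * x * ((f : H) : G)⁻¹ = x
          rw [show ((f : H) : G) * x = x * ((f : H) : G) from
            (Subgroup.mem_centralizer_singleton_iff.mp hxc).symm, mul_inv_cancel_right]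
        exact hf1 (by rw [hfpf f ⟨x, hxN⟩ (fun e => hx1 (congrArg Subtype.val e)) h1, map_one]))
      (R.isPGroup'.map i) (by rintro _ ⟨f, -, rfl⟩; exact ⟨f, rfl⟩) hr2
    exact isCyclic_of_surjective e.symm e.symm.surjective
  haveI : IsCyclic F := inferInstance
  have hFcomm : ∀ f f' : F, f * f' = f' * f := fun f f' => by
    letI := IsCyclic.commGroup (α := F)
    exact mul_comm f f'
  -- the field
  let T : N → (N →* N) := fun u => if h : u = 1 then 1 else (φ (fv u h : H)).toMonoidHom
  have hT1 : ∀ w, T 1 w = 1 := fun w => by simp [T]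
  have hTne : ∀ u (h : u ≠ 1) w, T u w = φ (fv u h : H) w := fun u h w => by simp [T, h]
  have hTv : ∀ u, T u v = u := fun u => by
    rcases eq_or_ne u 1 with rfl | h
    · exact hT1 v
    · rw [hTne u h, hfv]
  have hTT : ∀ u u' w, T u (T u' w) = T u' (T u w) := by
    intro u u' w
    rcases eq_or_ne u 1 with rfl | h
    · rw [hT1, hT1, map_one]
    rcases eq_or_ne u' 1 with rfl | h'
    · rw [hT1, hT1, map_one]
    rw [hTne u h, hTne u' h', hTne u' h', hTne u h, ← MulAut.mul_apply, ← MulAut.mul_apply, ← map_mul, ← map_mul]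
    have := congrArg Subtype.val (hFcomm (fv u h) (fv u' h'))
    simp only [Subgroup.coe_mul] at this
    rw [this]
  have hcomm : ∀ u w, T u w = T w u := fun u w => by
    conv_lhs => rw [← hTv w]
    rw [hTT, hTv]
  have hone : ∀ w, T v w = w := fun w => by rw [hcomm, hTv]
  letI R : CommRing (Additive N) :=
    { (inferInstance : AddCommGroup (Additive N)) with
      mul := fun u w => Additive.ofMul (T u.toMul w.toMul)
      one := Additive.ofMul v
      one_mul := fun w => congrArg Additive.ofMul (hone w.toMul)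
      mul_one := fun w => congrArg Additive.ofMul (hTv w.toMul)
      zero_mul := fun w => congrArg Additive.ofMul (hT1 w.toMul)
      mul_zero := fun w => congrArg Additive.ofMul (map_one (T w.toMul))
      left_distrib := fun u x y => congrArg Additive.ofMul (map_mul (T u.toMul) x.toMul y.toMul)
      right_distrib := fun x y u => congrArg Additive.ofMul (by
        show T (x.toMul * y.toMul) u.toMul = T x.toMul u.toMul * T y.toMul u.toMul
        rw [hcomm, map_mul, hcomm u.toMul, hcomm u.toMul])
      mul_assoc := fun x y z => congrArg Additive.ofMul (by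
        show T (T x.toMul y.toMul) z.toMul = T x.toMul (T y.toMul z.toMul)
        rw [hcomm, hTT, hcomm z.toMul])
      mul_comm := fun x y => congrArg Additive.ofMul (hcomm x.toMul y.toMul) }
  have hField : IsField (Additive N) :=
    ⟨⟨Additive.ofMul v, 0, fun e => hv1 e⟩, mul_comm, fun {u} hu => by
      have h : u.toMul ≠ 1 := hu
      refine ⟨Additive.ofMul (φ (fv u.toMul h : H)⁻¹ v), congrArg Additive.ofMul ?_⟩
      show T u.toMul (φ (fv u.toMul h : H)⁻¹ v) = v
      rw [hTne _ h, ← MulAut.mul_apply, ← map_mul, mul_inv_cancel, map_one, MulAut.one_apply]⟩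
  letI : Field (Additive N) := hField.toField
  obtain ⟨p, hp, hpd⟩ := Nat.exists_prime_and_dvd (n := Nat.card K) fun e => hKne (Subgroup.card_eq_one.mp e)
  haveI := Fact.mk hp
  obtain ⟨k, hk⟩ := exists_prime_orderOf_dvd_card' p hpd
  let σ : Additive N ≃+* Additive N :=
    { (φ (k : H)).toAdditive with
      map_mul' := fun x y => congrArg Additive.ofMul (by
        show φ (k : H) (T x.toMul y.toMul) = T (φ (k : H) x.toMul) (φ (k : H) y.toMul)
        rcases eq_or_ne x.toMul 1 with h | h
        · rw [h, hT1, map_one, hT1]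
        have h' : φ (k : H) x.toMul ≠ 1 := by simpa using h
        have hf : fv _ h' = ⟨(k : H) * (fv _ h : H) * (k : H)⁻¹, hFn.conj_mem _ (fv _ h).2 _⟩ := huniq _ _ (by
          rw [hfv, map_mul, map_mul, MulAut.mul_apply, MulAut.mul_apply,
            show φ (k : H)⁻¹ v = v from K.inv_mem k.2, hfv])
        rw [hTne _ h, hTne _ h', hf]
        simp only [map_mul, map_inv, MulAut.mul_apply, MulAut.inv_apply, MulEquiv.symm_apply_apply]) }
  let L := Additive N
  have hσpow : ∀ (j : ℕ) (x : L), ((σ : RingAut L) ^ j) x = Additive.ofMul (φ ((k : H) ^ j) x.toMul) := by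
    intro j
    induction j with
    | zero => intro x; simp
    | succ j ih =>
      intro x
      rw [pow_succ', pow_succ', map_mul, MulAut.mul_apply]
      show σ (((σ : RingAut L) ^ j) x) = _
      rw [ih]; rfl
  have hkH : (k : H) ≠ 1 := fun e => by
    rw [show k = 1 from Subtype.ext e, orderOf_one] at hk; exact hp.one_lt.ne hk
  have hσ1 : (σ : RingAut L) ≠ 1 := fun e => hkH (hfaith _ fun n =>
    congrArg Additive.toMul (RingEquiv.congr_fun e (Additive.ofMul n)))
  have hσp : (σ : RingAut L) ^ p = 1 := by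
    apply RingEquiv.ext
    intro x
    rw [hσpow, show (k : H) ^ p = 1 from by rw [← hk, ← Subgroup.orderOf_coe, pow_orderOf_eq_one], map_one]
    rfl
  let S : Subgroup (RingAut L) := Subgroup.zpowers σ
  haveI : Finite L := inferInstanceAs (Finite N)
  haveI : Finite (RingAut L) := Finite.of_injective (fun f : RingAut L => (f : L → L)) DFunLike.coe_injective
  haveI := Fintype.ofFinite S
  have hfin := FixedPoints.finrank_eq_card S L
  have hS : Fintype.card S = p := by
    rw [← Nat.card_eq_fintype_card, Nat.card_zpowers, orderOf_eq_prime hσp hσ1]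
  have hfix2 : Nat.card (FixedPoints.subfield S L) = 2 := by
    have hset : ((FixedPoints.subfield S L : Subfield L) : Set L) = {0, 1} := by
      refine Set.eq_of_subset_of_subset (fun x hx => ?_) ?_
      · by_contra hcon
        simp only [Set.mem_insert_iff, Set.mem_singleton_iff, not_or] at hcon
        exact hkH (hthree (k : H) v x.toMul hv1 hcon.1 (fun e => hcon.2 (congrArg Additive.ofMul e.symm)) k.2
          (congrArg Additive.toMul (hx ⟨σ, Subgroup.mem_zpowers _⟩)))
      · rintro x (rfl | rfl)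
        · exact zero_mem _
        · exact one_mem _
    rw [← SetLike.coe_sort_coe, hset, Nat.card_coe_set_eq, Set.ncard_pair (zero_ne_one (α := L))]
  refine ⟨p, hp, ?_⟩
  rw [← hcardN, show Nat.card N = Nat.card L from rfl, Module.natCard_eq_pow_finrank (K := FixedPoints.subfield S L) (V := L),
    hfix2, hfin, hS]

end Cfsg.Agent.S0341
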