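import Cfsg.Statements.S0371
import Cfsg.Agent.Lib.Golay.Basic

set_option autoImplicit false
open Cfsg

namespace Cfsg.Agent.S0371

/-- Multiplication by a nonzero square residue modulo 23, fixing the extra point, lies in the group of the length-24 code. -/
theorem result (u : (ZMod 23)ˣ) (hu : IsSquare u) : Equiv.optionCongr (Units.mulLeft u) ∈ Cfsg.M24 := by
  have key : ∀ u : (ZMod 23)ˣ, IsSquare u → ∀ t : ZMod 23,
      Cfsg.Agent.Golay.inC (Cfsg.Agent.Golay.mask fun p => Cfsg.qrWord t (Option.map (fun x => (u : ZMod 23) * x) p)) = true := by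
    unfold IsSquare
    decide +kernel
  rw [← inv_inv (Equiv.optionCongr (Units.mulLeft u))]
  refine inv_mem (Cfsg.Agent.Golay.mem_M24_of_forall (Cfsg.Agent.Golay.comp_mem_of_qr _ fun t => ?_))
  exact key u hu t

end Cfsg.Agent.S0371
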