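import Cfsg.Statements.S0381
import Cfsg.Agent.Lib.Golay.ChainFive

set_option autoImplicit false
open Cfsg

namespace Cfsg.Agent.S0381

open Cfsg.Agent.Golay
open scoped Pointwise


/-- The pointwise stabiliser of an octad in the group of the length-24 code has order 16 and every element of it squares to the identity. -/
theorem result (o : Finset Cfsg.GolayPt) (ho : o ∈ Cfsg.octads) : Nat.card ↥(Cfsg.M24 ⊓ fixingSubgroup (Equiv.Perm Cfsg.GolayPt) (o : Set Cfsg.GolayPt)) = 16 ∧ ∀ g ∈ Cfsg.M24 ⊓ fixingSubgroup (Equiv.Perm Cfsg.GolayPt) (o : Set Cfsg.GolayPt), g * g = 1 := by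
  obtain ⟨σ, hσ, rfl⟩ := octad_transitive ((base5_unique _).mpr rfl).1 ho
  have hiff : ∀ g, g ∈ Cfsg.M24 ⊓ fixingSubgroup (Equiv.Perm Cfsg.GolayPt) ((σ • supp baseOct : Finset Cfsg.GolayPt) : Set Cfsg.GolayPt) ↔
      σ⁻¹ * g * σ ∈ Cfsg.M24 ∧ ∀ p ∈ supp baseOct, (σ⁻¹ * g * σ) p = p := by
    intro g
    rw [Subgroup.mem_inf, mem_fixingSubgroup_iff]
    refine and_congr ⟨fun h => mul_mem (mul_mem (inv_mem hσ) h) hσ, fun h => ?_⟩ ⟨fun h p hp => ?_, fun h p hp => ?_⟩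
    · have := mul_mem (mul_mem hσ h) (inv_mem hσ)
      simpa [mul_assoc] using this
    · have := h (σ p) (Finset.mem_coe.mpr (Finset.smul_mem_smul_finset hp))
      rw [Equiv.Perm.smul_def] at this
      simp [Equiv.Perm.mul_apply, this]
    · obtain ⟨q, hq, rfl⟩ := Finset.mem_smul_finset.mp (Finset.mem_coe.mp hp)
      have := h q hq
      simp only [Equiv.Perm.mul_apply, Equiv.Perm.smul_def] at this ⊢
      rwa [Equiv.Perm.coe_inv, Equiv.symm_apply_eq] at this
  refine ⟨?_, fun g hg => ?_⟩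
  · rw [← card_fix_baseOct.1]
    refine Nat.card_congr
      { toFun := fun g => ⟨σ⁻¹ * g.1 * σ, (hiff g.1).mp g.2⟩
        invFun := fun h => ⟨σ * h.1 * σ⁻¹, (hiff _).mpr (by simpa [mul_assoc] using h.2)⟩
        left_inv := fun g => by simp [mul_assoc]
        right_inv := fun h => by simp [mul_assoc] }
  · obtain ⟨h1, h2⟩ := (hiff g).mp hg
    have := card_fix_baseOct.2 _ h1 h2
    have h3 : σ * ((σ⁻¹ * g * σ) * (σ⁻¹ * g * σ)) * σ⁻¹ = σ * 1 * σ⁻¹ := by rw [this]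
    simpa [mul_assoc] using h3

end Cfsg.Agent.S0381
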