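import Cfsg.Statements.S0394
import Cfsg.Agent.Lib.Leech.Basic
import Cfsg.Agent.Lib.Golay.OctStab
-- import your own Cfsg.Agent.* helpers here

set_option autoImplicit false
open Cfsg

namespace Cfsg.Agent.S0394
set_option linter.constructorNameAsVariable false

open Cfsg Cfsg.Agent.Golay Cfsg.Agent.Leech

theorem even_subsets {α : Type*} [DecidableEq α] (c : Finset α) (h : c.card = 8) :
    (c.powerset.filter fun s => Even s.card).card = 128 := by
  let e : Fin 8 ↪ α := ((c.equivFinOfCardEq h).symm.toEmbedding).trans (Function.Embedding.subtype _)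
  have hc : (Finset.univ : Finset (Fin 8)).map e = c := by
    ext x
    simp only [Finset.mem_map, Finset.mem_univ, true_and, e, Function.Embedding.trans_apply,
      Equiv.coe_toEmbedding, Function.Embedding.coe_subtype]
    exact ⟨fun ⟨a, ha⟩ => ha ▸ Subtype.prop _, fun hx => ⟨c.equivFinOfCardEq h ⟨x, hx⟩, by simp⟩⟩
  have h1 : (c.powerset.filter fun s => Even s.card) =
      ((Finset.univ : Finset (Finset (Fin 8))).filter fun s => Even s.card).map (Finset.mapEmbedding e).toEmbedding := by
    ext s
    simp only [Finset.mem_filter, Finset.mem_powerset, Finset.mem_map, Finset.mem_univ, true_and,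
      RelEmbedding.coe_toEmbedding, Finset.mapEmbedding_apply]
    constructor
    · rintro ⟨hs, he⟩
      obtain ⟨u, -, rfl⟩ := Finset.subset_map_iff.1 (hc.symm ▸ hs : s ⊆ Finset.univ.map e)
      exact ⟨u, by simpa using he, rfl⟩
    · rintro ⟨u, hu, rfl⟩
      exact ⟨hc ▸ Finset.map_subset_map.2 (Finset.subset_univ u), by simpa using hu⟩
  rw [h1, Finset.card_map]
  decide +kernel

/-- Shape (±4)² 0²². -/
def f0 (p : (_ : Finset GolayPt) × Finset GolayPt) : GolayPt → ℤ :=
  fun i => if i ∈ p.2 then -4 else if i ∈ p.1 then 4 else 0

/-- Shape (±2)⁸ 0¹⁶. -/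
def f1 (p : (_ : Finset GolayPt) × Finset GolayPt) : GolayPt → ℤ :=
  fun i => if i ∈ p.2 then -2 else if i ∈ p.1 then 2 else 0

/-- Shape ±3, (±1)²³. -/
def f2 (p : (GolayPt → ZMod 2) × GolayPt) : GolayPt → ℤ :=
  fun j => if j = p.2 then (if p.1 j = 0 then -3 else 3) else (if p.1 j = 0 then 1 else -1)

theorem sum_two (a : ℤ) {c s : Finset GolayPt} (h : s ⊆ c) :
    ∑ i, (if i ∈ s then -a else if i ∈ c then a else 0) = a * c.card - 2 * a * s.card := by
  have e : ∀ i, (if i ∈ s then -a else if i ∈ c then a else 0) =
      (if i ∈ c then a else 0) - (if i ∈ s then 2 * a else 0) := fun i => by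
    by_cases hs : i ∈ s
    · simp [hs, h hs]; ring
    · simp [hs]
  rw [Finset.sum_congr rfl fun i _ => e i, Finset.sum_sub_distrib, Finset.sum_ite_mem, Finset.sum_ite_mem]
  simp; ring

theorem sq_two (a : ℤ) {c s : Finset GolayPt} (h : s ⊆ c) :
    ∑ i, (if i ∈ s then -a else if i ∈ c then a else 0) ^ 2 = a ^ 2 * c.card := by
  have e : ∀ i, (if i ∈ s then -a else if i ∈ c then a else 0) ^ 2 = (if i ∈ c then a ^ 2 else 0) := fun i => by
    by_cases hs : i ∈ s
    · simp [hs, h hs]
    · by_cases hc : i ∈ c <;> simp [hs, hc]
  rw [Finset.sum_congr rfl fun i _ => e i, Finset.sum_ite_mem]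
  simp; ring


/-- Exactly 196560 lattice vectors have sum of squares 32. -/
theorem result : {x : Cfsg.GolayPt → ℤ | x ∈ Cfsg.leechLattice ∧ Cfsg.sqNorm x = 32}.ncard = 196560 := by
  skip
  classical
  let B : Finset (Finset GolayPt) := (Set.toFinite octads).toFinset
  let C : Finset (GolayPt → ZMod 2) := (Set.toFinite (golayCode : Set (GolayPt → ZMod 2))).toFinset
  let F0 := (((Finset.univ : Finset GolayPt).powersetCard 2).sigma fun c => c.powerset).image f0
  let F1 := (B.sigma fun c => c.powerset.filter fun s => Even s.card).image f1
  let F2 := (C ×ˢ (Finset.univ : Finset GolayPt)).image f2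
  have hB : ∀ c, c ∈ B ↔ c ∈ octads := fun c => Set.Finite.mem_toFinset _
  have hC : ∀ w, w ∈ C ↔ w ∈ golayCode := fun w => Set.Finite.mem_toFinset _
  have oct8 : ∀ c ∈ B, c.card = 8 := fun c hc => ((hB c).1 hc).2
  have c0 : F0.card = 1104 := by
    rw [Finset.card_image_of_injOn, Finset.card_sigma, Finset.sum_congr rfl (g := fun _ => 4)]
    · rw [Finset.sum_const, Finset.card_powersetCard]
      rfl
    · intro c hc
      rw [Finset.card_powerset, (Finset.mem_powersetCard.1 hc).2]; rfl
    · rintro ⟨c, s⟩ h ⟨c', s'⟩ h' e
      simp only [Finset.coe_sigma, Set.mem_sigma_iff, Finset.mem_coe, Finset.mem_powerset] at h h'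
      have e1 : c = c' := by
        ext i
        have := congrFun e i
        simp only [f0] at this
        constructor
        · intro hi; by_contra hn
          simp [hn, show i ∉ s' from fun q => hn (h'.2 q)] at this
          split_ifs at this <;> omega
        · intro hi; by_contra hn
          simp [hn, show i ∉ s from fun q => hn (h.2 q)] at this
          split_ifs at this <;> omega
      subst e1
      have e2 : s = s' := by
        ext i
        have := congrFun e i
        simp only [f0] at this
        by_cases h1 : i ∈ s <;> by_cases h2 : i ∈ s' <;> simp [h1, h2] at this ⊢ <;> split_ifs at this <;> omega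
      subst e2
      rfl
  have c1 : F1.card = 97152 := by
    rw [Finset.card_image_of_injOn, Finset.card_sigma, Finset.sum_congr rfl (g := fun _ => 128)]
    · rw [Finset.sum_const, ← Set.ncard_eq_toFinset_card octads (Set.toFinite octads), ncard_octads]
      rfl
    · intro c hc; exact even_subsets c (oct8 c hc)
    · rintro ⟨c, s⟩ h ⟨c', s'⟩ h' e
      simp only [Finset.coe_sigma, Set.mem_sigma_iff, Finset.mem_coe, Finset.mem_powerset,
        Finset.mem_filter] at h h'
      have e1 : c = c' := by
        ext i
        have := congrFun e i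
        simp only [f1] at this
        constructor
        · intro hi; by_contra hn
          simp [hn, show i ∉ s' from fun q => hn (h'.2.1 q)] at this
          split_ifs at this <;> omega
        · intro hi; by_contra hn
          simp [hn, show i ∉ s from fun q => hn (h.2.1 q)] at this
          split_ifs at this <;> omega
      subst e1
      have e2 : s = s' := by
        ext i
        have := congrFun e i
        simp only [f1] at this
        by_cases h1 : i ∈ s <;> by_cases h2 : i ∈ s' <;> simp [h1, h2] at this ⊢ <;> split_ifs at this <;> omega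
      subst e2
      rfl
  have c2 : F2.card = 98304 := by
    rw [Finset.card_image_of_injOn, Finset.card_product]
    · rw [← Set.ncard_eq_toFinset_card _ (Set.toFinite _), ← Nat.card_coe_set_eq,
        show Nat.card (↑(golayCode : Set (GolayPt → ZMod 2))) = 4096 from card_golayCode]
      rfl
    · rintro ⟨w, i⟩ - ⟨w', i'⟩ - e
      have e1 : i = i' := by
        by_contra hne
        have := congrFun e i
        simp only [f2, if_true, if_neg hne] at this
        split_ifs at this <;> omega
      subst e1
      have e2 : w = w' := by
        funext j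
        have := congrFun e j
        simp only [f2] at this
        have key : ∀ a b : ZMod 2, (a = 0 ↔ b = 0) → a = b := by decide
        refine key _ _ ?_
        split_ifs at this <;> simp_all
      subst e2
      rfl
  have hset : {x : GolayPt → ℤ | x ∈ leechLattice ∧ sqNorm x = 32} = ↑(F0 ∪ F1 ∪ F2) := by
    ext x
    simp only [Set.mem_ofPred_eq, Finset.coe_union, Set.mem_union, Finset.mem_coe, F0, F1, F2,
      Finset.mem_image, Finset.mem_sigma, Finset.mem_product, Finset.mem_powersetCard, Finset.mem_powerset,
      Finset.mem_filter, Finset.subset_univ, true_and, Finset.mem_univ, and_true]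
    constructor
    · rintro ⟨hx, hn⟩
      obtain ⟨m, w, t, hm, hw, he, ht⟩ := exists_split hx
      rcases hm with rfl | rfl
      · by_cases hw0 : w = 0
        · subst hw0
          have e : ∀ i, x i = 4 * t i := fun i => by simpa [lift] using he i
          have h1 : ∑ i, t i ^ 2 = 2 := by
            have h2 : sqNorm x = 16 * ∑ i, t i ^ 2 := by
              rw [sqNorm, Finset.mul_sum]
              exact Finset.sum_congr rfl fun i _ => by rw [e i]; ring
            omega
          have hb : ∀ i, t i = -1 ∨ t i = 0 ∨ t i = 1 := fun i => by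
            have := Finset.single_le_sum (fun j _ => sq_nonneg (t j)) (Finset.mem_univ i)
            rw [h1] at this
            have h3 : -1 ≤ t i := by nlinarith
            have h4 : t i ≤ 1 := by nlinarith
            omega
          refine Or.inl (Or.inl ⟨⟨Finset.univ.filter fun i => t i ≠ 0, Finset.univ.filter fun i => t i = -1⟩,
            ⟨?_, fun i => by simp; intro h; omega⟩, ?_⟩)
          · have h5 : ∀ i, t i ^ 2 = if t i ≠ 0 then 1 else 0 := fun i => by
              rcases hb i with h | h | h <;> simp [h]
            rw [Finset.sum_congr rfl fun i _ => h5 i, Finset.sum_boole] at h1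
            exact_mod_cast h1
          · funext i
            simp only [f0, Finset.mem_filter, Finset.mem_univ, true_and]
            rw [e i]
            rcases hb i with h | h | h <;> simp [h]
        · have h0 : ∀ i, 4 * lift w i ≤ x i ^ 2 := fun i => by
            rw [he i]
            by_cases h : w i = 0
            · simp only [lift, h, if_true]; nlinarith
            · simp only [lift, h, if_false]
              have : t i ≤ -1 ∨ 0 ≤ t i := by omega
              rcases this with h' | h' <;> nlinarith
          have h8 := eight_le_weight hw hw0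
          have hn' : ∑ i, x i ^ 2 = 32 := hn
          have hle := Finset.sum_le_sum fun i (_ : i ∈ Finset.univ) => h0 i
          rw [← Finset.mul_sum] at hle
          have hw8 : ∑ i, lift w i = 8 := by omega
          have heq : ∀ i, 4 * lift w i = x i ^ 2 := fun i => by
            have := (Finset.sum_eq_sum_iff_of_le fun i (_ : i ∈ Finset.univ) => h0 i).1
              (by rw [← Finset.mul_sum]; omega) i (Finset.mem_univ i)
            exact this
          have ht' : ∀ i, (w i = 0 ∧ t i = 0) ∨ (w i ≠ 0 ∧ (t i = 0 ∨ t i = -1)) := fun i => by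
            have h1 := heq i
            rw [he i] at h1
            by_cases h : w i = 0
            · simp only [lift, h, if_true] at h1
              exact Or.inl ⟨h, by nlinarith⟩
            · simp only [lift, h, if_false] at h1
              have h2 : -1 ≤ t i := by nlinarith
              have h3 : t i ≤ 0 := by nlinarith
              exact Or.inr ⟨h, by omega⟩
          refine Or.inl (Or.inr ⟨⟨support₂ w, Finset.univ.filter fun i => t i = -1⟩,
            ⟨(hB _).2 ⟨⟨w, hw, rfl⟩, ?_⟩, ?_, ?_⟩, ?_⟩)
          · rw [sum_lift] at hw8
            have : hammingNorm w = 8 := by exact_mod_cast hw8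
            exact this
          · intro i hi
            simp only [Finset.mem_filter, Finset.mem_univ, true_and] at hi
            simp only [support₂, Finset.mem_filter, Finset.mem_univ, true_and]
            rcases ht' i with ⟨-, h⟩ | ⟨h, -⟩
            · omega
            · exact h
          · have h5 : ∀ i, t i = -(if t i = -1 then (1 : ℤ) else 0) := fun i => by
              rcases ht' i with ⟨-, h⟩ | ⟨-, h | h⟩ <;> simp [h]
            rw [Finset.sum_congr rfl fun i _ => h5 i, Finset.sum_neg_distrib, Finset.sum_boole, sub_zero,
              dvd_neg] at ht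
            exact even_iff_two_dvd.2 (by exact_mod_cast ht)
          · funext i
            simp only [f1, support₂, Finset.mem_filter, Finset.mem_univ, true_and]
            rw [he i]
            rcases ht' i with ⟨h, h'⟩ | ⟨h, h' | h'⟩ <;> simp [lift, h, h']
      · have hodd : ∀ i, x i % 2 ≠ 0 := fun i => by rw [he i]; omega
        have h1 : ∀ i, 1 ≤ x i ^ 2 := fun i => by
          have : x i ≠ 0 := fun h => hodd i (by rw [h]; rfl)
          have := sq_pos_of_ne_zero this
          omega
        have hn' : ∑ i, x i ^ 2 = 32 := hn
        obtain ⟨i₀, hi₀⟩ : ∃ i, x i ^ 2 ≠ 1 := by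
          by_contra h
          push Not at h
          rw [Finset.sum_congr rfl fun i _ => h i, Finset.sum_const,
            show (Finset.univ : Finset GolayPt).card = 24 from rfl] at hn'
          norm_num at hn'
        have h9 : 9 ≤ x i₀ ^ 2 := by
          have := hodd i₀
          have : x i₀ ≤ -3 ∨ 3 ≤ x i₀ := by
            by_contra hc
            push Not at hc
            have : x i₀ = -1 ∨ x i₀ = 1 := by omega
            rcases this with h | h <;> exact hi₀ (by rw [h]; rfl)
          rcases this with h | h <;> nlinarith
        have hsplit := Finset.add_sum_erase Finset.univ (fun i => x i ^ 2) (Finset.mem_univ i₀)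
        have hcard : (Finset.univ.erase i₀).card = 23 := by
          rw [Finset.card_erase_of_mem (Finset.mem_univ i₀)]; rfl
        have hlow := Finset.sum_le_sum (f := fun _ : GolayPt => (1 : ℤ)) (g := fun i => x i ^ 2)
          fun i (_ : i ∈ Finset.univ.erase i₀) => h1 i
        rw [Finset.sum_const, hcard] at hlow
        simp only [nsmul_eq_mul, mul_one, Nat.cast_ofNat] at hlow
        beta_reduce at hsplit hlow
        have hi9 : x i₀ ^ 2 = 9 := by omega
        have hoth : ∀ j, j ≠ i₀ → x j ^ 2 = 1 := fun j hj => by
          have := (Finset.sum_eq_sum_iff_of_le (f := fun _ : GolayPt => (1 : ℤ)) (g := fun i => x i ^ 2)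
            fun i (_ : i ∈ Finset.univ.erase i₀) => h1 i).1
            (by rw [Finset.sum_const, hcard]; simp only [nsmul_eq_mul, mul_one, Nat.cast_ofNat]; omega) j (Finset.mem_erase.2 ⟨hj, Finset.mem_univ j⟩)
          exact this.symm
        refine Or.inr ⟨(w, i₀), (hC w).2 hw, funext fun j => ?_⟩
        simp only [f2]
        by_cases hj : j = i₀
        · subst hj
          rw [if_pos rfl]
          have : (x j - 3) * (x j + 3) = 0 := by nlinarith
          have h3 := mul_eq_zero.1 this
          have := he j
          by_cases hwj : w j = 0 <;> simp only [lift, hwj, if_true, if_false] at this ⊢ <;> omega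
        · rw [if_neg hj]
          have : (x j - 1) * (x j + 1) = 0 := by nlinarith [hoth j hj]
          have h3 := mul_eq_zero.1 this
          have := he j
          by_cases hwj : w j = 0 <;> simp only [lift, hwj, if_true, if_false] at this ⊢ <;> omega
    · rintro ((⟨⟨c, s⟩, ⟨hc, hs⟩, rfl⟩ | ⟨⟨c, s⟩, ⟨hc, hs, hev⟩, rfl⟩) | ⟨⟨w, i⟩, hw, rfl⟩)
      · refine ⟨(mem_lattice_iff _).2 ⟨0, 0, Submodule.zero_mem _, fun i => ?_, ?_⟩, ?_⟩
        · simp only [f0, lift, Pi.zero_apply, if_true]
          unfold Int.ModEq
          split_ifs <;> rfl
        · simp only [f0]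
          rw [sum_two 4 hs, hc]
          unfold Int.ModEq
          push_cast
          omega
        · simp only [sqNorm, f0]
          rw [sq_two 4 hs, hc]; rfl
      · obtain ⟨⟨w, hw, rfl⟩, hc8⟩ := (hB c).1 hc
        refine ⟨(mem_lattice_iff _).2 ⟨0, w, hw, fun i => ?_, ?_⟩, ?_⟩
        · simp only [f1, lift]
          have hiff : i ∈ support₂ w ↔ w i ≠ 0 := by simp [support₂]
          by_cases h : w i = 0
          · simp [h, hiff, show i ∉ s from fun q => (hiff.1 (hs q)) h, Int.ModEq]
          · by_cases hq : i ∈ s <;> simp [h, hiff, hq, Int.ModEq]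
        · simp only [f1]
          rw [sum_two 2 hs, hc8]
          obtain ⟨r, hr⟩ := hev
          rw [hr]
          unfold Int.ModEq
          push_cast
          omega
        · simp only [sqNorm, f1]
          rw [sq_two 2 hs, hc8]; rfl
      · have hw' := (hC w).1 hw
        have hsum : ∑ j, f2 (w, i) j = (24 - 2 * ∑ j, lift w j) - (if w i = 0 then 4 else -4) := by
          have e : ∀ j, f2 (w, i) j = (1 - 2 * lift w j) - (if j = i then (if w i = 0 then 4 else -4) else 0) := by
            intro j
            simp only [f2, lift]
            by_cases hj : j = i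
            · subst hj; by_cases h : w j = 0 <;> simp [h]
            · by_cases h : w j = 0 <;> simp [hj, h]
          rw [Finset.sum_congr rfl fun j _ => e j, Finset.sum_sub_distrib, Finset.sum_ite_eq',
            if_pos (Finset.mem_univ i), Finset.sum_sub_distrib, ← Finset.mul_sum, Finset.sum_const,
            show (Finset.univ : Finset GolayPt).card = 24 from rfl]
          norm_num
        refine ⟨(mem_lattice_iff _).2 ⟨1, w, hw', fun j => ?_, ?_⟩, ?_⟩
        · simp only [f2, lift]
          unfold Int.ModEq
          split_ifs <;> rfl
        · obtain ⟨r, hr⟩ := four_dvd_weight hw'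
          rw [hsum, hr]
          unfold Int.ModEq
          split_ifs <;> omega
        · have e : ∀ j, f2 (w, i) j ^ 2 = 1 + (if j = i then 8 else 0) := fun j => by
            simp only [f2]
            split_ifs <;> norm_num
          rw [sqNorm, Finset.sum_congr rfl fun j _ => e j, Finset.sum_add_distrib, Finset.sum_ite_eq',
            if_pos (Finset.mem_univ i), Finset.sum_const, show (Finset.univ : Finset GolayPt).card = 24 from rfl]
          norm_num
  have d01 : Disjoint F0 F1 := by
    rw [Finset.disjoint_left]
    intro x h0 h1
    simp only [F0, F1, Finset.mem_image, Finset.mem_sigma, Finset.mem_powersetCard, Finset.mem_powerset,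
      Finset.mem_filter] at h0 h1
    obtain ⟨⟨c, s⟩, ⟨⟨-, hc⟩, hs⟩, rfl⟩ := h0
    obtain ⟨⟨c', s'⟩, ⟨hc', -⟩, e⟩ := h1
    obtain ⟨i, hi⟩ := Finset.card_pos.1 (show 0 < c.card by rw [hc]; norm_num)
    have := congrFun e i
    simp only [f0, f1, hi, if_true] at this
    split_ifs at this <;> omega
  have d2 : Disjoint (F0 ∪ F1) F2 := by
    rw [Finset.disjoint_left]
    intro x h h2
    simp only [F0, F1, F2, Finset.mem_union, Finset.mem_image] at h h2
    obtain ⟨⟨w, i⟩, -, e⟩ := h2
    rcases h with ⟨⟨c, s⟩, -, rfl⟩ | ⟨⟨c, s⟩, -, rfl⟩ <;>
    · have := congrFun e i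
      simp only [f0, f1, f2, if_true] at this
      split_ifs at this <;> omega
  rw [hset, Set.ncard_coe_finset, Finset.card_union_of_disjoint d2, Finset.card_union_of_disjoint d01, c0, c1, c2]

end Cfsg.Agent.S0394
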