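import Cfsg.Statements.S0395
import Cfsg.Agent.Lib.Leech.Basic
import Cfsg.Agent.Lib.Golay.OctStab
import Cfsg.Agent.S0361
-- import your own Cfsg.Agent.* helpers here

set_option autoImplicit false
open Cfsg

namespace Cfsg.Agent.S0395
set_option linter.constructorNameAsVariable false

open Cfsg Cfsg.Agent.Golay Cfsg.Agent.Leech

theorem card_parity {α : Type*} [DecidableEq α] (c : Finset α) (h : c.Nonempty) :
    (c.powerset.filter fun s => Even s.card).card = 2 ^ (c.card - 1) ∧
      (c.powerset.filter fun s => Odd s.card).card = 2 ^ (c.card - 1) := by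
  obtain ⟨d, hd⟩ := h
  have h2 : 2 ^ c.card = 2 * 2 ^ (c.card - 1) := by
    rw [← pow_succ', Nat.sub_add_cancel (Finset.card_pos.2 ⟨d, hd⟩)]
  have e : (c.powerset.filter fun s => Even s.card).card = 2 ^ (c.card - 1) := by
    rw [← Finset.card_erase_of_mem hd, ← Finset.card_powerset]
    refine Finset.card_nbij' (fun s => s.erase d) (fun t => if Even t.card then t else insert d t) ?_ ?_ ?_ ?_
    · intro s hs
      simp only [Finset.coe_filter, Set.mem_ofPred_eq, Finset.mem_coe, Finset.mem_powerset, Finset.mem_filter] at hs ⊢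
      exact Finset.erase_subset_erase d hs.1
    · intro t ht
      simp only [Finset.mem_coe, Finset.mem_powerset] at ht
      have hdt : d ∉ t := fun q => Finset.notMem_erase d c (ht q)
      simp only [Finset.coe_filter, Set.mem_ofPred_eq, Finset.mem_coe, Finset.mem_powerset, Finset.mem_filter]
      split_ifs with he
      · exact ⟨ht.trans (Finset.erase_subset _ _), he⟩
      · refine ⟨Finset.insert_subset hd (ht.trans (Finset.erase_subset _ _)), ?_⟩
        rw [Finset.card_insert_of_notMem hdt, Nat.even_add_one]
        exact he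
    · intro s hs
      simp only [Finset.coe_filter, Set.mem_ofPred_eq, Finset.mem_coe, Finset.mem_powerset, Finset.mem_filter] at hs
      by_cases hds : d ∈ s
      · have : ¬ Even (s.erase d).card := by
          rw [Finset.card_erase_of_mem hds]
          have := Finset.card_pos.2 ⟨d, hds⟩
          have := Nat.even_iff.1 hs.2
          rw [Nat.even_iff]
          omega
        simp only [this, if_false]
        exact Finset.insert_erase hds
      · simp only [Finset.erase_eq_of_notMem hds, hs.2, if_true]
    · intro t ht
      simp only [Finset.mem_coe, Finset.mem_powerset] at ht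
      have hdt : d ∉ t := fun q => Finset.notMem_erase d c (ht q)
      beta_reduce
      split_ifs
      · exact Finset.erase_eq_of_notMem hdt
      · exact Finset.erase_insert hdt
  refine ⟨e, ?_⟩
  have := Finset.card_filter_add_card_filter_not (s := c.powerset) (fun s => Even s.card)
  rw [e, Finset.card_powerset, h2] at this
  simp only [Nat.not_even_iff_odd] at this
  omega

abbrev Dom0 := (_ : Finset GolayPt) × (Finset GolayPt × (GolayPt × ℤ))

/-- Shape (±4)(±2)⁸ 0¹⁵. -/
def f0 (p : Dom0) : GolayPt → ℤ :=
  fun i => if i = p.2.2.1 then p.2.2.2 else if i ∈ p.2.1 then -2 else if i ∈ p.1 then 2 else 0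

/-- Shape (±2)¹² 0¹². -/
def f1 (p : (_ : Finset GolayPt) × Finset GolayPt) : GolayPt → ℤ :=
  fun i => if i ∈ p.2 then -2 else if i ∈ p.1 then 2 else 0

/-- Odd shape. -/
def f2 (a : ℤ) (p : (GolayPt → ZMod 2) × Finset GolayPt) : GolayPt → ℤ :=
  fun j => if j ∈ p.2 then (if p.1 j = 0 then a else -a) else (if p.1 j = 0 then 1 else -1)

theorem sum_two {c s : Finset GolayPt} (h : s ⊆ c) :
    ∑ i, (if i ∈ s then (-2 : ℤ) else if i ∈ c then 2 else 0) = 2 * c.card - 4 * s.card := by
  have e : ∀ i, (if i ∈ s then (-2 : ℤ) else if i ∈ c then 2 else 0) =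
      (if i ∈ c then 2 else 0) - (if i ∈ s then 4 else 0) := fun i => by
    by_cases hs : i ∈ s
    · simp [hs, h hs]
    · simp [hs]
  rw [Finset.sum_congr rfl fun i _ => e i, Finset.sum_sub_distrib, Finset.sum_ite_mem, Finset.sum_ite_mem]
  simp; ring

theorem sq_two {c s : Finset GolayPt} (h : s ⊆ c) :
    ∑ i, (if i ∈ s then (-2 : ℤ) else if i ∈ c then 2 else 0) ^ 2 = 4 * c.card := by
  have e : ∀ i, (if i ∈ s then (-2 : ℤ) else if i ∈ c then 2 else 0) ^ 2 = (if i ∈ c then 4 else 0) := fun i => by
    by_cases hs : i ∈ s
    · simp [hs, h hs]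
    · by_cases hc : i ∈ c <;> simp [hs, hc]
  rw [Finset.sum_congr rfl fun i _ => e i, Finset.sum_ite_mem]
  simp; ring

theorem card24 : (Finset.univ : Finset GolayPt).card = 24 := rfl

theorem f2_mem {a : ℤ} {n : ℕ} (ha : a = -3 ∨ a = 5) (hn : (a ^ 2 - 1) * n = 24) (hnodd : n % 2 = 1)
    {w : GolayPt → ZMod 2} (hw : w ∈ golayCode) {T : Finset GolayPt} (hT : T.card = n) :
    f2 a (w, T) ∈ leechLattice ∧ sqNorm (f2 a (w, T)) = 48 := by
  refine ⟨(mem_lattice_iff _).2 ⟨1, w, hw, fun j => ?_, ?_⟩, ?_⟩
  · simp only [f2, lift]
    unfold Int.ModEq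
    rcases ha with rfl | rfl <;> split_ifs <;> rfl
  · have e : ∀ j, f2 a (w, T) j ≡ 1 - 2 * lift w j + 4 * (if j ∈ T then 1 else 0) [ZMOD 8] := fun j => by
      simp only [f2, lift]
      unfold Int.ModEq
      rcases ha with rfl | rfl <;> by_cases h1 : j ∈ T <;> by_cases h2 : w j = 0 <;>
        simp [h1, h2]
    have := Int.ModEq.sum (s := Finset.univ) fun j _ => e j
    rw [Finset.sum_add_distrib, Finset.sum_sub_distrib, Finset.sum_const, ← Finset.mul_sum, ← Finset.mul_sum,
      Finset.sum_boole, Finset.filter_mem_eq_inter, Finset.univ_inter, card24, hT] at this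
    simp only [nsmul_eq_mul, mul_one, Nat.cast_ofNat] at this
    obtain ⟨r, hr⟩ := four_dvd_weight hw
    rw [hr] at this
    unfold Int.ModEq at *
    omega
  · have e : ∀ j, f2 a (w, T) j ^ 2 = 1 + (if j ∈ T then a ^ 2 - 1 else 0) := fun j => by
      simp only [f2]
      split_ifs <;> ring
    rw [sqNorm, Finset.sum_congr rfl fun j _ => e j, Finset.sum_add_distrib, Finset.sum_ite_mem,
      Finset.univ_inter, Finset.sum_const, Finset.sum_const, card24, hT]
    simp only [nsmul_eq_mul, mul_one, Nat.cast_ofNat]
    rw [mul_comm (n : ℤ), hn]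
    norm_num


/-- Exactly 16773120 lattice vectors have sum of squares 48. -/
theorem result : {x : Cfsg.GolayPt → ℤ | x ∈ Cfsg.leechLattice ∧ Cfsg.sqNorm x = 48}.ncard = 16773120 := by
  skip
  classical
  let B : Finset (Finset GolayPt) := (Set.toFinite octads).toFinset
  let D : Finset (Finset GolayPt) := (Set.toFinite dodecads).toFinset
  let C : Finset (GolayPt → ZMod 2) := (Set.toFinite (golayCode : Set (GolayPt → ZMod 2))).toFinset
  have hB : ∀ c, c ∈ B ↔ c ∈ octads := fun c => Set.Finite.mem_toFinset _
  have hD : ∀ c, c ∈ D ↔ c ∈ dodecads := fun c => Set.Finite.mem_toFinset _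
  have hC : ∀ w, w ∈ C ↔ w ∈ golayCode := fun w => Set.Finite.mem_toFinset _
  have oct8 : ∀ c ∈ B, c.card = 8 := fun c hc => ((hB c).1 hc).2
  have dod12 : ∀ c ∈ D, c.card = 12 := fun c hc => ((hD c).1 hc).2
  have hC4 : C.card = 4096 := by
    rw [← card_golayCode, ← Nat.card_eq_card_finite_toFinset]
    rfl
  let A0 := B.sigma fun c => (c.powerset.filter fun s => Odd s.card) ×ˢ ((Finset.univ \ c) ×ˢ ({4, -4} : Finset ℤ))
  let A1 := D.sigma fun c => c.powerset.filter fun s => Even s.card
  let A2 := fun n => C ×ˢ ((Finset.univ : Finset GolayPt).powersetCard n)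
  have char0 : ∀ p ∈ A0, ∀ i, (i ∈ p.1 ↔ f0 p i = 2 ∨ f0 p i = -2) ∧ (i ∈ p.2.1 ↔ f0 p i = -2) ∧
      (i = p.2.2.1 ↔ f0 p i = 4 ∨ f0 p i = -4) := by
    rintro ⟨c, s, k, a⟩ hp i
    simp only [A0, Finset.mem_sigma, Finset.mem_product, Finset.mem_filter, Finset.mem_powerset,
      Finset.mem_sdiff, Finset.mem_univ, true_and, Finset.mem_insert, Finset.mem_singleton] at hp
    obtain ⟨-, ⟨hs, -⟩, hk, ha⟩ := hp
    simp only [f0]
    by_cases h1 : i = k
    · subst h1
      have : i ∉ s := fun q => hk (hs q)
      rcases ha with rfl | rfl <;> simp [hk, this]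
    · by_cases h2 : i ∈ s
      · simp [h1, h2, hs h2]
      · by_cases h3 : i ∈ c <;> simp [h1, h2, h3]
  have char1 : ∀ p ∈ A1, ∀ i, (i ∈ p.1 ↔ f1 p i = 2 ∨ f1 p i = -2) ∧ (i ∈ p.2 ↔ f1 p i = -2) := by
    rintro ⟨c, s⟩ hp i
    simp only [A1, Finset.mem_sigma, Finset.mem_filter, Finset.mem_powerset] at hp
    simp only [f1]
    by_cases h2 : i ∈ s
    · simp [h2, hp.2.1 h2]
    · by_cases h3 : i ∈ c <;> simp [h2, h3]
  have char2 : ∀ a : ℤ, (a = -3 ∨ a = 5) → ∀ (p : (GolayPt → ZMod 2) × Finset GolayPt) i,
      (i ∈ p.2 ↔ f2 a p i = a ∨ f2 a p i = -a) ∧ (p.1 i = 0 ↔ f2 a p i = 1 ∨ f2 a p i = a) := by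
    intro a ha p i
    simp only [f2]
    rcases ha with rfl | rfl <;> by_cases h1 : i ∈ p.2 <;> by_cases h2 : p.1 i = 0 <;> simp [h1, h2]
  let F0 := A0.image f0
  let F1 := A1.image f1
  let F2 := (A2 3).image (f2 (-3))
  let F3 := (A2 1).image (f2 5)
  have c0 : F0.card = 3108864 := by
    rw [Finset.card_image_of_injOn, Finset.card_sigma, Finset.sum_congr rfl (g := fun _ => 4096)]
    · rw [Finset.sum_const, ← Set.ncard_eq_toFinset_card octads (Set.toFinite octads), ncard_octads]
      rfl
    · intro c hc
      rw [Finset.card_product, Finset.card_product, (card_parity c (Finset.card_pos.1 (by rw [oct8 c hc]; norm_num))).2,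
        Finset.card_univ_diff, oct8 c hc]
      rfl
    · intro p hp q hq e
      obtain ⟨c, s, k, a⟩ := p
      obtain ⟨c', s', k', a'⟩ := q
      have e1 : c = c' := Finset.ext fun i => by
        rw [(char0 _ hp i).1, e, ← (char0 _ hq i).1]
      have e2 : s = s' := Finset.ext fun i => by
        rw [(char0 _ hp i).2.1, e, ← (char0 _ hq i).2.1]
      have e3 : k = k' := by
        have := (char0 _ hp k).2.2.1 rfl
        rw [e] at this
        exact (char0 _ hq k).2.2.2 this
      subst e1 e2 e3
      have e4 := congrFun e k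
      simp only [f0, if_true] at e4
      subst e4
      rfl
  have c1 : F1.card = 5275648 := by
    rw [Finset.card_image_of_injOn, Finset.card_sigma, Finset.sum_congr rfl (g := fun _ => 2048)]
    · rw [Finset.sum_const, ← Set.ncard_eq_toFinset_card dodecads (Set.toFinite dodecads), Cfsg.Agent.S0361.result]
      rfl
    · intro c hc
      rw [(card_parity c (Finset.card_pos.1 (by rw [dod12 c hc]; norm_num))).1, dod12 c hc]
      rfl
    · intro p hp q hq e
      obtain ⟨c, s⟩ := p
      obtain ⟨c', s'⟩ := q
      have e1 : c = c' := Finset.ext fun i => by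
        rw [(char1 _ hp i).1, e, ← (char1 _ hq i).1]
      have e2 : s = s' := Finset.ext fun i => by
        rw [(char1 _ hp i).2, e, ← (char1 _ hq i).2]
      subst e1 e2
      rfl
  have inj2 : ∀ a : ℤ, (a = -3 ∨ a = 5) → Function.Injective (f2 a) := by
    intro a ha p q e
    refine Prod.ext (funext fun i => ?_) (Finset.ext fun i => ?_)
    · have key : ∀ a b : ZMod 2, (a = 0 ↔ b = 0) → a = b := by decide
      refine key _ _ ?_
      rw [(char2 a ha p i).2, e, ← (char2 a ha q i).2]
    · rw [(char2 a ha p i).1, e, ← (char2 a ha q i).1]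
  have c2 : F2.card = 8290304 := by
    rw [Finset.card_image_of_injective _ (inj2 _ (Or.inl rfl)), Finset.card_product, hC4,
      Finset.card_powersetCard, card24]
    rfl
  have c3 : F3.card = 98304 := by
    rw [Finset.card_image_of_injective _ (inj2 _ (Or.inr rfl)), Finset.card_product, hC4,
      Finset.card_powersetCard, card24]
    rfl
  have hset : {x : GolayPt → ℤ | x ∈ leechLattice ∧ sqNorm x = 48} = ↑(F0 ∪ F1 ∪ F2 ∪ F3) := by
    ext x
    simp only [Set.mem_ofPred_eq, Finset.coe_union, Set.mem_union, Finset.mem_coe, F0, F1, F2, F3, A0, A1, A2,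
      Finset.mem_image, Finset.mem_sigma, Finset.mem_product, Finset.mem_powersetCard, Finset.mem_powerset,
      Finset.mem_filter, Finset.subset_univ, true_and, Finset.mem_univ, and_true, Finset.mem_sdiff,
      Finset.mem_insert, Finset.mem_singleton]
    constructor
    · rintro ⟨hx, hn⟩
      obtain ⟨m, w, t, hm, hw, he, ht⟩ := exists_split hx
      rcases hm with rfl | rfl
      · let g : GolayPt → ℤ := fun i => t i ^ 2 + t i * lift w i
        have hg : ∀ i, 0 ≤ g i ∧ x i ^ 2 = 4 * lift w i + 16 * g i := fun i => by
          rw [he i]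
          simp only [g, lift]
          by_cases h : w i = 0
          · simp only [h, if_true]
            exact ⟨by nlinarith, by ring⟩
          · simp only [h, if_false]
            refine ⟨?_, by ring⟩
            have : t i ≤ -1 ∨ 0 ≤ t i := by omega
            rcases this with h' | h' <;> nlinarith
        have hn' : 4 * (hammingNorm w : ℤ) + 16 * ∑ i, g i = 48 := by
          rw [← hn, sqNorm, Finset.sum_congr rfl fun i _ => (hg i).2, ← sum_lift w, Finset.mul_sum,
            Finset.mul_sum, ← Finset.sum_add_distrib]
        have hg0 : 0 ≤ ∑ i, g i := Finset.sum_nonneg fun i _ => (hg i).1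
        have hzero : ∀ i, g i = 0 → (w i = 0 ∧ t i = 0) ∨ (w i ≠ 0 ∧ (t i = 0 ∨ t i = -1)) := fun i h => by
          simp only [g, lift] at h
          by_cases hwi : w i = 0
          · simp only [hwi, if_true] at h
            exact Or.inl ⟨hwi, by nlinarith⟩
          · simp only [hwi, if_false] at h
            have : t i * (t i + 1) = 0 := by linarith [h, sq (t i)]
            rcases mul_eq_zero.1 this with q | q
            · exact Or.inr ⟨hwi, Or.inl q⟩
            · exact Or.inr ⟨hwi, Or.inr (by omega)⟩
        have hwt : hammingNorm w = 0 ∨ hammingNorm w = 8 ∨ hammingNorm w = 12 := by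
          have := List.all_eq_true.mp weights_ok _ (mask_mem_codeList hw)
          simp only [← hammingNorm_eq, List.contains_eq_mem, List.mem_cons, List.not_mem_nil, or_false,
            decide_eq_true_eq] at this
          omega
        rcases hwt with h | h | h
        · exfalso
          have hw0 : w = 0 := hammingNorm_eq_zero.1 h
          have e : ∀ i, g i = t i ^ 2 := fun i => by simp [g, lift, hw0]
          have h1 : (2 : ℤ) ∣ (∑ i, g i) - ∑ i, t i := by
            rw [← Finset.sum_sub_distrib]
            refine Finset.dvd_sum fun j _ => ?_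
            rw [e, show t j ^ 2 - t j = t j * (t j - 1) by ring]
            exact (Int.even_mul_pred_self (t j)).two_dvd
          omega
        · have hs1 : ∑ i, g i = 1 := by omega
          obtain ⟨k, hk⟩ : ∃ k, g k ≠ 0 := by
            by_contra q
            push Not at q
            rw [Finset.sum_eq_zero fun i _ => q i] at hs1
            exact zero_ne_one hs1
          have hk1 : g k = 1 ∧ ∀ i, i ≠ k → g i = 0 := by
            have hsp := Finset.add_sum_erase Finset.univ g (Finset.mem_univ k)
            have h0 : 0 ≤ ∑ i ∈ Finset.univ.erase k, g i := Finset.sum_nonneg fun i _ => (hg i).1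
            have := (hg k).1
            refine ⟨by omega, fun i hi => ?_⟩
            have := Finset.single_le_sum (fun j _ => (hg j).1) (Finset.mem_erase.2 ⟨hi, Finset.mem_univ i⟩)
              (f := g)
            have := (hg i).1
            omega
          have hwk : w k = 0 ∧ (t k = 1 ∨ t k = -1) := by
            have := hk1.1
            simp only [g, lift] at this
            by_cases hwi : w k = 0
            · simp only [hwi, if_true] at this
              have : (t k - 1) * (t k + 1) = 0 := by linarith [this, sq (t k)]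
              rcases mul_eq_zero.1 this with q | q
              · exact ⟨hwi, Or.inl (by omega)⟩
              · exact ⟨hwi, Or.inr (by omega)⟩
            · simp only [hwi, if_false] at this
              have hev := (Int.even_mul_succ_self (t k)).two_dvd
              have e : t k * (t k + 1) = 1 := by linarith [this, sq (t k)]
              rw [e] at hev
              omega
          refine Or.inl (Or.inl (Or.inl ⟨⟨support₂ w, (Finset.univ.filter fun i => w i ≠ 0 ∧ t i = -1), k, 4 * t k⟩,
            ⟨(hB _).2 ⟨⟨w, hw, rfl⟩, h⟩, ⟨fun i hi => ?_, ?_⟩, ?_, ?_⟩, ?_⟩))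
          · simp only [Finset.mem_filter, Finset.mem_univ, true_and] at hi
            simp only [support₂, Finset.mem_filter, Finset.mem_univ, true_and]
            exact hi.1
          · have h5 : ∀ i, t i = (if i = k then t k else 0) - (if w i ≠ 0 ∧ t i = -1 then (1 : ℤ) else 0) := fun i => by
              by_cases hik : i = k
              · subst hik; simp [hwk.1]
              · rcases hzero i (hk1.2 i hik) with ⟨q, r⟩ | ⟨q, r | r⟩ <;> simp [hik, q, r]
            rw [Finset.sum_congr rfl fun i _ => h5 i, Finset.sum_sub_distrib, Finset.sum_boole,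
              Finset.sum_ite_eq', if_pos (Finset.mem_univ k), sub_zero] at ht
            rw [Nat.odd_iff]
            dsimp only
            rcases hwk.2 with q | q <;> rw [q] at ht <;> omega
          · simp [support₂, hwk.1]
          · rcases hwk.2 with q | q <;> simp [q]
          · funext i
            simp only [f0, support₂, Finset.mem_filter, Finset.mem_univ, true_and]
            rw [he i]
            by_cases hik : i = k
            · subst hik; simp [lift, hwk.1]
            · rcases hzero i (hk1.2 i hik) with ⟨q, r⟩ | ⟨q, r | r⟩ <;> simp [lift, hik, q, r]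
        · have hall : ∀ i, g i = 0 := fun i =>
            (Finset.sum_eq_zero_iff_of_nonneg fun j _ => (hg j).1).1 (by omega) i (Finset.mem_univ i)
          refine Or.inl (Or.inl (Or.inr ⟨⟨support₂ w, Finset.univ.filter fun i => t i = -1⟩,
            ⟨(hD _).2 ⟨⟨w, hw, rfl⟩, h⟩, fun i hi => ?_, ?_⟩, ?_⟩))
          · simp only [Finset.mem_filter, Finset.mem_univ, true_and] at hi
            simp only [support₂, Finset.mem_filter, Finset.mem_univ, true_and]
            rcases hzero i (hall i) with ⟨-, r⟩ | ⟨q, -⟩
            · omega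
            · exact q
          · have h5 : ∀ i, t i = -(if t i = -1 then (1 : ℤ) else 0) := fun i => by
              rcases hzero i (hall i) with ⟨-, r⟩ | ⟨-, r | r⟩ <;> simp [r]
            rw [Finset.sum_congr rfl fun i _ => h5 i, Finset.sum_neg_distrib, Finset.sum_boole, sub_zero,
              dvd_neg] at ht
            exact even_iff_two_dvd.2 (by exact_mod_cast ht)
          · funext i
            simp only [f1, support₂, Finset.mem_filter, Finset.mem_univ, true_and]
            rw [he i]
            rcases hzero i (hall i) with ⟨q, r⟩ | ⟨q, r | r⟩ <;> simp [lift, q, r]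
      · have hg : ∀ i, ∃ q : ℤ, 0 ≤ q ∧ x i ^ 2 = 1 + 8 * q ∧ q ≠ 2 ∧
            (q = 0 → x i = if w i = 0 then 1 else -1) ∧ (q = 1 → x i = if w i = 0 then -3 else 3) ∧
            (q = 3 → x i = if w i = 0 then 5 else -5) := by
          intro i
          have h1 := he i
          simp only [lift] at h1
          by_cases hwi : w i = 0
          · simp only [hwi, if_true] at h1 ⊢
            refine ⟨t i + 2 * t i ^ 2, ?_, by rw [h1]; ring, ?_, ?_, ?_, ?_⟩
            · have : t i ≤ -1 ∨ 0 ≤ t i := by omega
              rcases this with q | q <;> nlinarith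
            all_goals
              intro q
              have : -2 < t i ∧ t i < 2 := ⟨by nlinarith, by nlinarith⟩
              obtain ⟨b1, b2⟩ := this
              interval_cases h : t i <;> omega
          · simp only [hwi, if_false] at h1 ⊢
            refine ⟨1 + 3 * t i + 2 * t i ^ 2, ?_, by rw [h1]; ring, ?_, ?_, ?_, ?_⟩
            · have : t i ≤ -1 ∨ 0 ≤ t i := by omega
              rcases this with q | q <;> nlinarith
            all_goals
              intro q
              have : -3 < t i ∧ t i < 1 := ⟨by nlinarith, by nlinarith⟩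
              obtain ⟨b1, b2⟩ := this
              interval_cases h : t i <;> omega
        choose q hq0 hq1 hq2 hqz hqo hqt using hg
        have hsum : ∑ i, q i = 3 := by
          have : sqNorm x = 24 + 8 * ∑ i, q i := by
            rw [sqNorm, Finset.sum_congr rfl fun i _ => hq1 i, Finset.sum_add_distrib, ← Finset.mul_sum,
              Finset.sum_const, card24]
            norm_num
          omega
        by_cases hbig : ∃ k, 2 ≤ q k
        · obtain ⟨k, hk⟩ := hbig
          have hsp := Finset.add_sum_erase Finset.univ q (Finset.mem_univ k)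
          have h0 : 0 ≤ ∑ i ∈ Finset.univ.erase k, q i := Finset.sum_nonneg fun i _ => hq0 i
          have hk3 : q k = 3 := by have := hq2 k; omega
          refine Or.inr ⟨(w, {k}), ⟨(hC w).2 hw, Finset.card_singleton k⟩, funext fun i => ?_⟩
          simp only [f2, Finset.mem_singleton]
          by_cases hik : i = k
          · subst hik
            rw [if_pos rfl, hqt i hk3]
          · have := Finset.single_le_sum (fun j _ => hq0 j) (Finset.mem_erase.2 ⟨hik, Finset.mem_univ i⟩)
              (f := q)
            have := hq0 i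
            rw [if_neg hik, hqz i (by omega)]
        · push Not at hbig
          refine Or.inl (Or.inr ⟨(w, Finset.univ.filter fun i => q i = 1), ⟨(hC w).2 hw, ?_⟩, funext fun i => ?_⟩)
          · have e : ∀ i, q i = if q i = 1 then 1 else 0 := fun i => by
              have := hq0 i
              have := hbig i
              split_ifs <;> omega
            rw [Finset.sum_congr rfl fun i _ => e i, Finset.sum_boole] at hsum
            exact_mod_cast hsum
          · simp only [f2, Finset.mem_filter, Finset.mem_univ, true_and]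
            have := hq0 i
            have := hbig i
            by_cases h : q i = 1
            · rw [if_pos h, hqo i h]; split_ifs <;> rfl
            · rw [if_neg h, hqz i (by omega)]
    · rintro (((⟨⟨c, s, k, a⟩, ⟨hc, ⟨hs, hodd⟩, hk, ha⟩, rfl⟩ | ⟨⟨c, s⟩, ⟨hc, hs, hev⟩, rfl⟩) |
        ⟨⟨w, T⟩, ⟨hw, hT⟩, rfl⟩) | ⟨⟨w, T⟩, ⟨hw, hT⟩, rfl⟩)
      · obtain ⟨⟨w, hw, rfl⟩, hc8⟩ := (hB c).1 hc
        have e : ∀ i, f0 ⟨support₂ w, s, k, a⟩ i =
            (if i ∈ s then (-2 : ℤ) else if i ∈ support₂ w then 2 else 0) + (if i = k then a else 0) := fun i => by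
          simp only [f0]
          by_cases h : i = k
          · subst h; simp [show i ∉ s from fun q => hk (hs q), hk]
          · simp [h]
        have e' : ∀ i, f0 ⟨support₂ w, s, k, a⟩ i ^ 2 =
            (if i ∈ s then (-2 : ℤ) else if i ∈ support₂ w then 2 else 0) ^ 2 + (if i = k then a ^ 2 else 0) := fun i => by
          rw [e i]
          by_cases h : i = k
          · subst h; simp [show i ∉ s from fun q => hk (hs q), hk]
          · simp [h]
        refine ⟨(mem_lattice_iff _).2 ⟨0, w, hw, fun i => ?_, ?_⟩, ?_⟩
        · have hiff : i ∈ support₂ w ↔ w i ≠ 0 := by simp [support₂]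
          rw [e i]
          simp only [lift]
          by_cases h : w i = 0
          · by_cases hik : i = k
            · rcases ha with rfl | rfl <;>
                simp [hik ▸ h, hik, show k ∉ s from fun q => hk (hs q), hk, Int.ModEq]
            · simp [h, hik, hiff, show i ∉ s from fun q => (hiff.1 (hs q)) h, Int.ModEq]
          · have hik : i ≠ k := fun q => hk (q ▸ hiff.2 h)
            by_cases hq : i ∈ s <;> simp [h, hik, hiff, hq, Int.ModEq]
        · rw [Finset.sum_congr rfl fun i _ => e i, Finset.sum_add_distrib, sum_two hs, hc8,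
            Finset.sum_ite_eq', if_pos (Finset.mem_univ k)]
          rw [Nat.odd_iff] at hodd
          unfold Int.ModEq
          rcases ha with rfl | rfl <;> omega
        · rw [sqNorm, Finset.sum_congr rfl fun i _ => e' i, Finset.sum_add_distrib, sq_two hs, hc8,
            Finset.sum_ite_eq', if_pos (Finset.mem_univ k)]
          rcases ha with rfl | rfl <;> norm_num
      · obtain ⟨⟨w, hw, rfl⟩, hc8⟩ := (hD c).1 hc
        refine ⟨(mem_lattice_iff _).2 ⟨0, w, hw, fun i => ?_, ?_⟩, ?_⟩
        · simp only [f1, lift]
          have hiff : i ∈ support₂ w ↔ w i ≠ 0 := by simp [support₂]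
          by_cases h : w i = 0
          · simp [h, hiff, show i ∉ s from fun q => (hiff.1 (hs q)) h, Int.ModEq]
          · by_cases hq : i ∈ s <;> simp [h, hiff, hq, Int.ModEq]
        · simp only [f1]
          rw [sum_two hs, hc8]
          obtain ⟨r, hr⟩ := hev
          rw [hr]
          unfold Int.ModEq
          push_cast
          omega
        · simp only [sqNorm, f1]
          rw [sq_two hs, hc8]; rfl
      · exact f2_mem (n := 3) (Or.inl rfl) (by norm_num) rfl ((hC w).1 hw) hT
      · exact f2_mem (n := 1) (Or.inr rfl) (by norm_num) rfl ((hC w).1 hw) hT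
  have d01 : Disjoint F0 F1 := by
    rw [Finset.disjoint_left]
    intro x h0 h1
    simp only [F0, F1, Finset.mem_image] at h0 h1
    obtain ⟨⟨c, s, k, a⟩, hp, rfl⟩ := h0
    obtain ⟨q, hq, e⟩ := h1
    have h4 := (char0 _ hp k).2.2.1 rfl
    rw [← e] at h4
    simp only [f1] at h4
    revert h4
    split_ifs <;> norm_num
  have d2 : Disjoint (F0 ∪ F1) F2 := by
    rw [Finset.disjoint_left]
    intro x h h2
    simp only [F0, F1, F2, Finset.mem_union, Finset.mem_image] at h h2
    obtain ⟨⟨w, T⟩, -, e⟩ := h2
    rcases h with ⟨⟨c, s, k, a⟩, hp, rfl⟩ | ⟨⟨c, s⟩, -, rfl⟩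
    · have h4 := (char0 _ hp k).2.2.1 rfl
      rw [← e] at h4
      simp only [f2] at h4
      revert h4
      split_ifs <;> norm_num
    · have := congrFun e none
      simp only [f1, f2] at this
      split_ifs at this <;> omega
  have d3 : Disjoint (F0 ∪ F1 ∪ F2) F3 := by
    rw [Finset.disjoint_left]
    intro x h h3
    simp only [F0, F1, F2, F3, A2, Finset.mem_union, Finset.mem_image, Finset.mem_product,
      Finset.mem_powersetCard] at h h3
    obtain ⟨⟨w, T⟩, ⟨-, -, hT⟩, e⟩ := h3
    rcases h with (⟨⟨c, s, k, a⟩, hp, rfl⟩ | ⟨⟨c, s⟩, -, rfl⟩) | ⟨⟨w', T'⟩, -, rfl⟩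
    · have h4 := (char0 _ hp k).2.2.1 rfl
      rw [← e] at h4
      simp only [f2] at h4
      revert h4
      split_ifs <;> norm_num
    · have := congrFun e none
      simp only [f1, f2] at this
      split_ifs at this <;> omega
    · obtain ⟨j, hj⟩ := Finset.card_eq_one.1 hT
      have := congrFun e j
      have hj' : j ∈ T := by
        simp only at hj
        rw [hj]; exact Finset.mem_singleton_self j
      simp only [f2, hj', if_true] at this
      revert this
      split_ifs <;> norm_num
  rw [hset, Set.ncard_coe_finset, Finset.card_union_of_disjoint d3, Finset.card_union_of_disjoint d2,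
    Finset.card_union_of_disjoint d01, c0, c1, c2, c3]

end Cfsg.Agent.S0395
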