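import Cfsg.Statements.S0396
import Cfsg.Agent.Lib.Leech.Basic
import Cfsg.Agent.Lib.Golay.OctStab
-- import your own Cfsg.Agent.* helpers here

set_option autoImplicit false
open Cfsg

namespace Cfsg.Agent.S0396
set_option linter.constructorNameAsVariable false

open Cfsg Cfsg.Agent.Golay Cfsg.Agent.Leech

theorem card_parity {α : Type*} [DecidableEq α] (c : Finset α) (h : c.Nonempty) :
    (c.powerset.filter fun s => Even s.card).card = 2 ^ (c.card - 1) ∧
      (c.powerset.filter fun s => Odd s.card).card = 2 ^ (c.card - 1) := by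
  obtain ⟨d, hd⟩ := h
  have h2 : 2 ^ c.card = 2 * 2 ^ (c.card - 1) := by
    rw [← pow_succ', Nat.sub_add_cancel (Finset.card_pos.2 ⟨d, hd⟩)]
  have e : (c.powerset.filter fun s => Even s.card).card = 2 ^ (c.card - 1) := by
    rw [← Finset.card_erase_of_mem hd, ← Finset.card_powerset]
    refine Finset.card_nbij' (fun s => s.erase d) (fun t => if Even t.card then t else insert d t) ?_ ?_ ?_ ?_
    · intro s hs
      simp only [Finset.coe_filter, Set.mem_ofPred_eq, Finset.mem_coe, Finset.mem_powerset, Finset.mem_filter] at hs ⊢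
      exact Finset.erase_subset_erase d hs.1
    · intro t ht
      simp only [Finset.mem_coe, Finset.mem_powerset] at ht
      have hdt : d ∉ t := fun q => Finset.notMem_erase d c (ht q)
      simp only [Finset.coe_filter, Set.mem_ofPred_eq, Finset.mem_coe, Finset.mem_powerset, Finset.mem_filter]
      split_ifs with he
      · exact ⟨ht.trans (Finset.erase_subset _ _), he⟩
      · refine ⟨Finset.insert_subset hd (ht.trans (Finset.erase_subset _ _)), ?_⟩
        rw [Finset.card_insert_of_notMem hdt, Nat.even_add_one]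
        exact he
    · intro s hs
      simp only [Finset.coe_filter, Set.mem_ofPred_eq, Finset.mem_coe, Finset.mem_powerset, Finset.mem_filter] at hs
      by_cases hds : d ∈ s
      · have : ¬ Even (s.erase d).card := by
          rw [Finset.card_erase_of_mem hds]
          have := Finset.card_pos.2 ⟨d, hds⟩
          have := Nat.even_iff.1 hs.2
          rw [Nat.even_iff]
          omega
        simp only [this, if_false]
        exact Finset.insert_erase hds
      · simp only [Finset.erase_eq_of_notMem hds, hs.2, if_true]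
    · intro t ht
      simp only [Finset.mem_coe, Finset.mem_powerset] at ht
      have hdt : d ∉ t := fun q => Finset.notMem_erase d c (ht q)
      beta_reduce
      split_ifs
      · exact Finset.erase_eq_of_notMem hdt
      · exact Finset.erase_insert hdt
  refine ⟨e, ?_⟩
  have := Finset.card_filter_add_card_filter_not (s := c.powerset) (fun s => Even s.card)
  rw [e, Finset.card_powerset, h2] at this
  simp only [Nat.not_even_iff_odd] at this
  omega

theorem sum_two {c s : Finset GolayPt} (h : s ⊆ c) :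
    ∑ i, (if i ∈ s then (-2 : ℤ) else if i ∈ c then 2 else 0) = 2 * c.card - 4 * s.card := by
  have e : ∀ i, (if i ∈ s then (-2 : ℤ) else if i ∈ c then 2 else 0) =
      (if i ∈ c then 2 else 0) - (if i ∈ s then 4 else 0) := fun i => by
    by_cases hs : i ∈ s
    · simp [hs, h hs]
    · simp [hs]
  rw [Finset.sum_congr rfl fun i _ => e i, Finset.sum_sub_distrib, Finset.sum_ite_mem, Finset.sum_ite_mem]
  simp; ring

theorem sq_two {c s : Finset GolayPt} (h : s ⊆ c) :
    ∑ i, (if i ∈ s then (-2 : ℤ) else if i ∈ c then 2 else 0) ^ 2 = 4 * c.card := by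
  have e : ∀ i, (if i ∈ s then (-2 : ℤ) else if i ∈ c then 2 else 0) ^ 2 = (if i ∈ c then 4 else 0) := fun i => by
    by_cases hs : i ∈ s
    · simp [hs, h hs]
    · by_cases hc : i ∈ c <;> simp [hs, hc]
  rw [Finset.sum_congr rfl fun i _ => e i, Finset.sum_ite_mem]
  simp; ring

theorem card24 : (Finset.univ : Finset GolayPt).card = 24 := rfl

abbrev DomE := (_ : Finset GolayPt) × (Finset GolayPt × ((_ : Finset GolayPt) × Finset GolayPt))

/-- Shape (±4)^r (±2)^n. -/
def fE (p : DomE) : GolayPt → ℤ :=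
  fun i => if i ∈ p.2.2.1 then (if i ∈ p.2.2.2 then -4 else 4)
    else if i ∈ p.2.1 then -2 else if i ∈ p.1 then 2 else 0

/-- The supports of weight n, as a finset. -/
noncomputable def K (n : ℕ) : Finset (Finset GolayPt) :=
  (Set.toFinite (wordsOfWeight (golayCode : Set (GolayPt → ZMod 2)) n)).toFinset

theorem mem_K {n : ℕ} {c : Finset GolayPt} :
    c ∈ K n ↔ c ∈ wordsOfWeight (golayCode : Set (GolayPt → ZMod 2)) n := Set.Finite.mem_toFinset _

theorem card_K (n : ℕ) : (K n).card = (wtList n).length := by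
  rw [K, ← Set.ncard_eq_toFinset_card _ (Set.toFinite _), ncard_wordsOfWeight]

theorem K_mem {n : ℕ} {c : Finset GolayPt} (h : c ∈ K n) :
    c.card = n ∧ ∃ w ∈ golayCode, support₂ w = c := by
  rw [mem_K] at h
  obtain ⟨⟨w, hw, rfl⟩, hc⟩ := h
  exact ⟨hc, w, hw, rfl⟩

/-- The domain of fE. -/
noncomputable def AE (n r : ℕ) : Finset DomE :=
  (K n).sigma fun c => (c.powerset.filter fun s => s.card % 2 = r % 2) ×ˢ
    (((Finset.univ \ c).powersetCard r).sigma fun T => T.powerset)

theorem mem_AE {n r : ℕ} {c s T u : Finset GolayPt} :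
    (⟨c, s, T, u⟩ : DomE) ∈ AE n r ↔ c ∈ K n ∧ (s ⊆ c ∧ s.card % 2 = r % 2) ∧
      (T ⊆ Finset.univ \ c ∧ T.card = r) ∧ u ⊆ T := by
  simp [AE, Finset.mem_powersetCard]

theorem charE {n r : ℕ} {c s T u : Finset GolayPt} (hp : (⟨c, s, T, u⟩ : DomE) ∈ AE n r) (i : GolayPt) :
    (i ∈ c ↔ fE ⟨c, s, T, u⟩ i = 2 ∨ fE ⟨c, s, T, u⟩ i = -2) ∧ (i ∈ s ↔ fE ⟨c, s, T, u⟩ i = -2) ∧
      (i ∈ T ↔ fE ⟨c, s, T, u⟩ i = 4 ∨ fE ⟨c, s, T, u⟩ i = -4) ∧ (i ∈ u ↔ fE ⟨c, s, T, u⟩ i = -4) := by
  obtain ⟨-, ⟨hs, -⟩, ⟨hT, -⟩, hu⟩ := mem_AE.1 hp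
  simp only [fE]
  by_cases h1 : i ∈ T
  · have hc : i ∉ c := (Finset.mem_sdiff.1 (hT h1)).2
    have hs' : i ∉ s := fun q => hc (hs q)
    by_cases h4 : i ∈ u <;> simp [h1, h4, hc, hs']
  · have h4 : i ∉ u := fun q => h1 (hu q)
    by_cases h2 : i ∈ s
    · simp [h1, h4, h2, hs h2]
    · by_cases h3 : i ∈ c <;> simp [h1, h4, h2, h3]

/-- Invariant separating the shapes. -/
def key (x : GolayPt → ℤ) : ℕ × ℕ × ℕ :=
  ((Finset.univ.filter fun i => x i = 2 ∨ x i = -2).card,
    (Finset.univ.filter fun i => x i = 4 ∨ x i = -4).card,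
    (Finset.univ.filter fun i => x i = 3 ∨ x i = -3).card)

theorem fE_facts {n r : ℕ} (hn : n % 4 = 0) (hnr : 4 * n + 16 * r = 64) {p : DomE} (hp : p ∈ AE n r) :
    (fE p ∈ leechLattice ∧ sqNorm (fE p) = 64) ∧ key (fE p) = (n, r, 0) := by
  obtain ⟨c, s, T, u⟩ := p
  have hch := charE hp
  obtain ⟨hc, ⟨hs, hpar⟩, ⟨hT, hTr⟩, hu⟩ := mem_AE.1 hp
  obtain ⟨hcn, w, hw, rfl⟩ := K_mem hc
  have e : ∀ i, fE ⟨support₂ w, s, T, u⟩ i =
      (if i ∈ s then (-2 : ℤ) else if i ∈ support₂ w then 2 else 0) +
        ((if i ∈ T then 4 else 0) - (if i ∈ u then 8 else 0)) := fun i => by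
    simp only [fE]
    by_cases h1 : i ∈ T
    · have hc' : i ∉ support₂ w := (Finset.mem_sdiff.1 (hT h1)).2
      have hs' : i ∉ s := fun q => hc' (hs q)
      by_cases h4 : i ∈ u <;> simp [h1, h4, hc', hs']
    · simp [h1, show i ∉ u from fun q => h1 (hu q)]
  have e' : ∀ i, fE ⟨support₂ w, s, T, u⟩ i ^ 2 =
      (if i ∈ s then (-2 : ℤ) else if i ∈ support₂ w then 2 else 0) ^ 2 + (if i ∈ T then 16 else 0) := fun i => by
    simp only [fE]
    by_cases h1 : i ∈ T
    · have hc' : i ∉ support₂ w := (Finset.mem_sdiff.1 (hT h1)).2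
      have hs' : i ∉ s := fun q => hc' (hs q)
      by_cases h4 : i ∈ u <;> simp [h1, h4, hc', hs']
    · simp [h1]
  refine ⟨⟨(mem_lattice_iff _).2 ⟨0, w, hw, fun i => ?_, ?_⟩, ?_⟩, ?_⟩
  · have hiff : i ∈ support₂ w ↔ w i ≠ 0 := by simp [support₂]
    rw [e i]
    simp only [lift]
    unfold Int.ModEq
    by_cases h : w i = 0
    · simp only [h, if_true, hiff, ne_eq, not_true_eq_false, if_false,
        show i ∉ s from fun q => (hiff.1 (hs q)) h]
      split_ifs <;> norm_num
    · simp only [h, if_false, hiff, ne_eq, not_false_eq_true, if_true]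
      split_ifs <;> norm_num
  · rw [Finset.sum_congr rfl fun i _ => e i, Finset.sum_add_distrib, Finset.sum_sub_distrib, sum_two hs, hcn,
      Finset.sum_ite_mem, Finset.sum_ite_mem, Finset.univ_inter, Finset.univ_inter, Finset.sum_const,
      Finset.sum_const, hTr]
    simp only [nsmul_eq_mul]
    unfold Int.ModEq
    omega
  · rw [sqNorm, Finset.sum_congr rfl fun i _ => e' i, Finset.sum_add_distrib, sq_two hs, hcn,
      Finset.sum_ite_mem, Finset.univ_inter, Finset.sum_const, hTr]
    simp only [nsmul_eq_mul]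
    omega
  · simp only [key, Prod.mk.injEq]
    refine ⟨?_, ?_, ?_⟩
    · rw [← hcn]; congr 1; ext i; simp [(hch i).1]
    · rw [← hTr]; congr 1; ext i; simp [(hch i).2.2.1]
    · rw [Finset.card_eq_zero, Finset.filter_eq_empty_iff]
      intro i _
      simp only [fE]
      split_ifs <;> norm_num

theorem card_FE {n r : ℕ} (h : n ≠ 0 ∨ r % 2 = 0) :
    ((AE n r).image fE).card =
      (wtList n).length * (2 ^ (n - 1) * ((24 - n).choose r * 2 ^ r)) := by
  rw [Finset.card_image_of_injOn, AE, Finset.card_sigma, ← card_K]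
  · rw [Finset.sum_congr rfl (g := fun _ => 2 ^ (n - 1) * ((24 - n).choose r * 2 ^ r)), Finset.sum_const,
      smul_eq_mul]
    intro c hc
    rw [Finset.card_product, Finset.card_sigma]
    congr 1
    · by_cases h0 : n = 0
      · have hr := h.resolve_left (not_not.2 h0)
        have : c = ∅ := Finset.card_eq_zero.1 ((K_mem hc).1.trans h0)
        subst this
        rw [h0, hr]
        rfl
      · have hne : c.Nonempty := Finset.card_pos.1 (by rw [(K_mem hc).1]; omega)
        rw [← (K_mem hc).1]
        rcases Nat.mod_two_eq_zero_or_one r with q | q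
        · rw [← (card_parity c hne).1]
          congr 1; ext s; simp [q, Nat.even_iff]
        · rw [← (card_parity c hne).2]
          congr 1; ext s; simp [q, Nat.odd_iff]
    · rw [Finset.sum_congr rfl (g := fun _ => 2 ^ r) (fun T hT => by
        rw [Finset.card_powerset, (Finset.mem_powersetCard.1 hT).2]), Finset.sum_const, smul_eq_mul,
        Finset.card_powersetCard, Finset.card_univ_diff, (K_mem hc).1,
        show Fintype.card GolayPt = 24 from rfl]
  · intro p hp q hq e
    obtain ⟨c, s, T, u⟩ := p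
    obtain ⟨c', s', T', u'⟩ := q
    have e1 : c = c' := Finset.ext fun i => by rw [(charE hp i).1, e, ← (charE hq i).1]
    have e2 : s = s' := Finset.ext fun i => by rw [(charE hp i).2.1, e, ← (charE hq i).2.1]
    have e3 : T = T' := Finset.ext fun i => by rw [(charE hp i).2.2.1, e, ← (charE hq i).2.2.1]
    have e4 : u = u' := Finset.ext fun i => by rw [(charE hp i).2.2.2, e, ← (charE hq i).2.2.2]
    subst e1 e2 e3 e4
    rfl

/-- Shape ±8 0²³. -/
def f8 (p : GolayPt × ℤ) : GolayPt → ℤ := fun i => if i = p.1 then p.2 else 0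

/-- Shape ±6 (±2)⁷ 0¹⁶. -/
def f6 (p : (_ : Finset GolayPt) × (Finset GolayPt × GolayPt)) : GolayPt → ℤ :=
  fun i => (if i = p.2.2 then -3 else 1) * (if i ∈ p.2.1 then -2 else if i ∈ p.1 then 2 else 0)

/-- The domain of f6. -/
noncomputable def A6 : Finset ((_ : Finset GolayPt) × (Finset GolayPt × GolayPt)) :=
  (K 8).sigma fun c => (c.powerset.filter fun s => s.card % 2 = 0) ×ˢ c

theorem char6 {c s : Finset GolayPt} {k : GolayPt} (hp : ⟨c, s, k⟩ ∈ A6) (i : GolayPt) :
    (i ∈ c ↔ f6 ⟨c, s, k⟩ i ≠ 0) ∧ (i ∈ s ↔ f6 ⟨c, s, k⟩ i = -2 ∨ f6 ⟨c, s, k⟩ i = 6) ∧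
      (i = k ↔ f6 ⟨c, s, k⟩ i = 6 ∨ f6 ⟨c, s, k⟩ i = -6) := by
  simp only [A6, Finset.mem_sigma, Finset.mem_product, Finset.mem_filter, Finset.mem_powerset] at hp
  obtain ⟨-, ⟨hs, -⟩, hk⟩ := hp
  simp only [f6]
  by_cases h2 : i ∈ s
  · by_cases h1 : i = k
    · subst h1; simp [h2, hk]
    · simp [h1, h2, hs h2]
  · by_cases h1 : i = k
    · subst h1; simp [h2, hk]
    · by_cases h3 : i ∈ c <;> simp [h1, h2, h3]

/-- Odd shapes. -/
def fO (p : (GolayPt → ZMod 2) × ((_ : Finset GolayPt) × Finset GolayPt)) : GolayPt → ℤ :=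
  fun j => (if p.1 j = 0 then 1 else -1) * (if j ∈ p.2.1 then 5 else if j ∈ p.2.2 then -3 else 1)

/-- The domain of fO. -/
noncomputable def AO (r n : ℕ) : Finset ((GolayPt → ZMod 2) × ((_ : Finset GolayPt) × Finset GolayPt)) :=
  (Set.toFinite (golayCode : Set (GolayPt → ZMod 2))).toFinset ×ˢ
    ((Finset.univ.powersetCard r).sigma fun F => (Finset.univ \ F).powersetCard n)

theorem mem_AO {r n : ℕ} {w : GolayPt → ZMod 2} {F T : Finset GolayPt} :
    (w, ⟨F, T⟩) ∈ AO r n ↔ w ∈ golayCode ∧ F.card = r ∧ T ⊆ Finset.univ \ F ∧ T.card = n := by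
  simp [AO, Finset.mem_powersetCard]

theorem charO {r n : ℕ} {w : GolayPt → ZMod 2} {F T : Finset GolayPt} (hp : (w, ⟨F, T⟩) ∈ AO r n) (i : GolayPt) :
    (w i = 0 ↔ fO (w, ⟨F, T⟩) i = 5 ∨ fO (w, ⟨F, T⟩) i = -3 ∨ fO (w, ⟨F, T⟩) i = 1) ∧
      (i ∈ F ↔ fO (w, ⟨F, T⟩) i = 5 ∨ fO (w, ⟨F, T⟩) i = -5) ∧
      (i ∈ T ↔ fO (w, ⟨F, T⟩) i = 3 ∨ fO (w, ⟨F, T⟩) i = -3) := by
  obtain ⟨-, -, hT, -⟩ := mem_AO.1 hp
  simp only [fO]
  by_cases h1 : i ∈ F
  · have : i ∉ T := fun q => (Finset.mem_sdiff.1 (hT q)).2 h1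
    by_cases h2 : w i = 0 <;> simp [h1, h2, this]
  · by_cases h3 : i ∈ T <;> by_cases h2 : w i = 0 <;> simp [h1, h2, h3]

theorem fO_facts {r n : ℕ} (hrn : 3 * r + n = 5) {p : (GolayPt → ZMod 2) × ((_ : Finset GolayPt) × Finset GolayPt)}
    (hp : p ∈ AO r n) : (fO p ∈ leechLattice ∧ sqNorm (fO p) = 64) ∧ key (fO p) = (0, 0, n) := by
  obtain ⟨w, F, T⟩ := p
  have hch := charO hp
  obtain ⟨hw, hF, hT, hTn⟩ := mem_AO.1 hp
  refine ⟨⟨(mem_lattice_iff _).2 ⟨1, w, hw, fun j => ?_, ?_⟩, ?_⟩, ?_⟩
  · simp only [fO, lift]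
    unfold Int.ModEq
    split_ifs <;> norm_num
  · have e : ∀ j, fO (w, ⟨F, T⟩) j ≡
        1 - 2 * lift w j + 4 * ((if j ∈ F then 1 else 0) + (if j ∈ T then 1 else 0)) [ZMOD 8] := fun j => by
      simp only [fO, lift]
      unfold Int.ModEq
      by_cases h1 : j ∈ F
      · have : j ∉ T := fun q => (Finset.mem_sdiff.1 (hT q)).2 h1
        by_cases h2 : w j = 0 <;> simp [h1, this, h2]
      · by_cases h3 : j ∈ T <;> by_cases h2 : w j = 0 <;> simp [h1, h2, h3]
    have := Int.ModEq.sum (s := Finset.univ) fun j _ => e j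
    rw [Finset.sum_add_distrib, Finset.sum_sub_distrib, Finset.sum_const, ← Finset.mul_sum, ← Finset.mul_sum,
      Finset.sum_add_distrib, Finset.sum_boole, Finset.sum_boole, Finset.filter_mem_eq_inter, Finset.univ_inter,
      Finset.filter_mem_eq_inter, Finset.univ_inter, card24, hTn, hF] at this
    simp only [nsmul_eq_mul, mul_one, Nat.cast_ofNat] at this
    obtain ⟨a, ha⟩ := four_dvd_weight hw
    rw [ha] at this
    unfold Int.ModEq at *
    omega
  · have e : ∀ j, fO (w, ⟨F, T⟩) j ^ 2 = 1 + ((if j ∈ F then 24 else 0) + (if j ∈ T then 8 else 0)) := fun j => by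
      simp only [fO]
      by_cases h1 : j ∈ F
      · have : j ∉ T := fun q => (Finset.mem_sdiff.1 (hT q)).2 h1
        by_cases h2 : w j = 0 <;> simp [h1, this, h2]
      · by_cases h3 : j ∈ T <;> by_cases h2 : w j = 0 <;> simp [h1, h2, h3]
    rw [sqNorm, Finset.sum_congr rfl fun j _ => e j, Finset.sum_add_distrib, Finset.sum_add_distrib,
      Finset.sum_ite_mem, Finset.sum_ite_mem, Finset.univ_inter, Finset.univ_inter, Finset.sum_const,
      Finset.sum_const, Finset.sum_const, card24, hTn, hF]
    simp only [nsmul_eq_mul, mul_one, Nat.cast_ofNat]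
    omega
  · simp only [key, Prod.mk.injEq]
    refine ⟨?_, ?_, ?_⟩
    · rw [Finset.card_eq_zero, Finset.filter_eq_empty_iff]
      intro i _
      simp only [fO]
      split_ifs <;> norm_num
    · rw [Finset.card_eq_zero, Finset.filter_eq_empty_iff]
      intro i _
      simp only [fO]
      split_ifs <;> norm_num
    · rw [← hTn]; congr 1; ext i; simp [(hch i).2.2]

theorem card_FO (r n : ℕ) :
    ((AO r n).image fO).card = 4096 * ((Nat.choose 24 r) * Nat.choose (24 - r) n) := by
  rw [Finset.card_image_of_injOn, AO, Finset.card_product, Finset.card_sigma]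
  · congr 1
    · rw [← card_golayCode, ← Nat.card_eq_card_finite_toFinset]
      rfl
    · rw [Finset.sum_congr rfl (g := fun _ => Nat.choose (24 - r) n) (fun F hF => by
        rw [Finset.card_powersetCard, Finset.card_univ_diff, (Finset.mem_powersetCard.1 hF).2,
          show Fintype.card GolayPt = 24 from rfl]), Finset.sum_const, smul_eq_mul, Finset.card_powersetCard, card24]
  · intro p hp q hq e
    obtain ⟨w, F, T⟩ := p
    obtain ⟨w', F', T'⟩ := q
    have key2 : ∀ a b : ZMod 2, (a = 0 ↔ b = 0) → a = b := by decide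
    have e1 : w = w' := funext fun i => key2 _ _ (by rw [(charO hp i).1, e, ← (charO hq i).1])
    have e2 : F = F' := Finset.ext fun i => by rw [(charO hp i).2.1, e, ← (charO hq i).2.1]
    have e3 : T = T' := Finset.ext fun i => by rw [(charO hp i).2.2, e, ← (charO hq i).2.2]
    subst e1 e2 e3
    rfl

theorem lengths : (wtList 0).length = 1 ∧ (wtList 8).length = 759 ∧ (wtList 12).length = 2576 ∧
    (wtList 16).length = 759 := by decide +kernel

/-- The eight shapes. -/
noncomputable def shapes : Fin 8 → Finset (GolayPt → ℤ) :=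
  ![((Finset.univ : Finset GolayPt) ×ˢ ({8, -8} : Finset ℤ)).image f8, (AE 0 4).image fE, (AE 8 2).image fE,
    A6.image f6, (AE 12 1).image fE, (AE 16 0).image fE, (AO 0 5).image fO, (AO 1 2).image fO]

/-- The invariants of the eight shapes. -/
def keys : Fin 8 → ℕ × ℕ × ℕ :=
  ![(0, 0, 0), (0, 4, 0), (8, 2, 0), (7, 0, 0), (12, 1, 0), (16, 0, 0), (0, 0, 5), (0, 0, 2)]

theorem keys_inj : Function.Injective keys := by decide

theorem shapes_facts : ∀ j, ∀ x ∈ shapes j, (x ∈ leechLattice ∧ sqNorm x = 64) ∧ key x = keys j := by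
  classical
  intro j x hx
  fin_cases j <;>
    simp only [shapes, keys, Fin.zero_eta, Fin.mk_one, Fin.reduceFinMk, Matrix.cons_val, Matrix.cons_val_zero,
      Matrix.cons_val_one, Finset.mem_image] at hx ⊢
  · obtain ⟨⟨k, a⟩, hp, rfl⟩ := hx
    simp only [Finset.mem_product, Finset.mem_univ, true_and, Finset.mem_insert, Finset.mem_singleton] at hp
    refine ⟨⟨(mem_lattice_iff _).2 ⟨0, 0, Submodule.zero_mem _, fun i => ?_, ?_⟩, ?_⟩, ?_⟩
    · simp only [f8, lift, Pi.zero_apply, if_true]
      unfold Int.ModEq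
      rcases hp with rfl | rfl <;> split_ifs <;> rfl
    · simp only [f8, Finset.sum_ite_eq', Finset.mem_univ, if_true]
      unfold Int.ModEq
      rcases hp with rfl | rfl <;> rfl
    · simp only [sqNorm, f8, ite_pow, ne_eq, OfNat.ofNat_ne_zero, not_false_eq_true, zero_pow,
        Finset.sum_ite_eq', Finset.mem_univ, if_true]
      rcases hp with rfl | rfl <;> norm_num
    · simp only [key, Prod.mk.injEq, Finset.card_eq_zero, Finset.filter_eq_empty_iff, f8]
      refine ⟨fun i _ => ?_, fun i _ => ?_, fun i _ => ?_⟩ <;>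
        rcases hp with rfl | rfl <;> split_ifs <;> norm_num
  · obtain ⟨p, hp, rfl⟩ := hx; exact fE_facts (by norm_num) (by norm_num) hp
  · obtain ⟨p, hp, rfl⟩ := hx; exact fE_facts (by norm_num) (by norm_num) hp
  · obtain ⟨⟨c, s, k⟩, hp, rfl⟩ := hx
    have hch := char6 hp
    simp only [A6, Finset.mem_sigma, Finset.mem_product, Finset.mem_filter, Finset.mem_powerset] at hp
    obtain ⟨hc, ⟨hs, hev⟩, hk⟩ := hp
    obtain ⟨hcn, w, hw, rfl⟩ := K_mem hc
    have e : ∀ i, f6 ⟨support₂ w, s, k⟩ i =
        (if i ∈ s then (-2 : ℤ) else if i ∈ support₂ w then 2 else 0) +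
          (if i = k then (if k ∈ s then 8 else -8) else 0) := fun i => by
      simp only [f6]
      by_cases h1 : i = k
      · subst h1
        by_cases h2 : i ∈ s <;> simp [h2, hk]
      · simp [h1]
    have e' : ∀ i, f6 ⟨support₂ w, s, k⟩ i ^ 2 =
        (if i ∈ s then (-2 : ℤ) else if i ∈ support₂ w then 2 else 0) ^ 2 + (if i = k then 32 else 0) := fun i => by
      simp only [f6]
      by_cases h1 : i = k
      · subst h1
        by_cases h2 : i ∈ s <;> simp [h2, hk]
      · simp [h1]
    refine ⟨⟨(mem_lattice_iff _).2 ⟨0, w, hw, fun i => ?_, ?_⟩, ?_⟩, ?_⟩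
    · have hiff : i ∈ support₂ w ↔ w i ≠ 0 := by simp [support₂]
      rw [e i]
      simp only [lift]
      unfold Int.ModEq
      by_cases h : w i = 0
      · simp only [h, if_true, hiff, ne_eq, not_true_eq_false, if_false,
          show i ∉ s from fun q => (hiff.1 (hs q)) h]
        split_ifs <;> norm_num
      · simp only [h, if_false, hiff, ne_eq, not_false_eq_true, if_true]
        split_ifs <;> norm_num
    · rw [Finset.sum_congr rfl fun i _ => e i, Finset.sum_add_distrib, sum_two hs, hcn,
        Finset.sum_ite_eq', if_pos (Finset.mem_univ k)]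
      unfold Int.ModEq
      split_ifs <;> omega
    · rw [sqNorm, Finset.sum_congr rfl fun i _ => e' i, Finset.sum_add_distrib, sq_two hs, hcn,
        Finset.sum_ite_eq', if_pos (Finset.mem_univ k)]
      norm_num
    · simp only [key, Prod.mk.injEq]
      refine ⟨?_, ?_, ?_⟩
      · have h7 : ((support₂ w).erase k).card = 7 := by rw [Finset.card_erase_of_mem hk, hcn]
        rw [← h7]
        congr 1
        ext i
        simp only [Finset.mem_filter, Finset.mem_univ, true_and, Finset.mem_erase, f6]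
        by_cases h1 : i = k
        · subst h1; by_cases h2 : i ∈ s <;> simp [h2, hk]
        · by_cases h2 : i ∈ s
          · simp [h1, h2, hs h2]
          · by_cases h3 : i ∈ support₂ w <;> simp [h1, h2, h3]
      · rw [Finset.card_eq_zero, Finset.filter_eq_empty_iff]
        intro i _
        simp only [f6]
        split_ifs <;> norm_num
      · rw [Finset.card_eq_zero, Finset.filter_eq_empty_iff]
        intro i _
        simp only [f6]
        split_ifs <;> norm_num
  · obtain ⟨p, hp, rfl⟩ := hx; exact fE_facts (by norm_num) (by norm_num) hp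
  · obtain ⟨p, hp, rfl⟩ := hx; exact fE_facts (by norm_num) (by norm_num) hp
  · obtain ⟨p, hp, rfl⟩ := hx; exact fO_facts (by norm_num) hp
  · obtain ⟨p, hp, rfl⟩ := hx; exact fO_facts (by norm_num) hp

theorem complete {x : GolayPt → ℤ} (hx : x ∈ leechLattice) (hn : sqNorm x = 64) : ∃ j, x ∈ shapes j := by
  classical
  obtain ⟨m, w, t, hm, hw, he, ht⟩ := exists_split hx
  rcases hm with rfl | rfl
  · let g : GolayPt → ℤ := fun i => t i ^ 2 + t i * lift w i
    have hg : ∀ i, 0 ≤ g i ∧ x i ^ 2 = 4 * lift w i + 16 * g i := fun i => by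
      rw [he i]
      simp only [g, lift]
      by_cases h : w i = 0
      · simp only [h, if_true]
        exact ⟨by nlinarith, by ring⟩
      · simp only [h, if_false]
        refine ⟨?_, by ring⟩
        have : t i ≤ -1 ∨ 0 ≤ t i := by omega
        rcases this with h' | h' <;> nlinarith
    have hn' : 4 * (hammingNorm w : ℤ) + 16 * ∑ i, g i = 64 := by
      rw [← hn, sqNorm, Finset.sum_congr rfl fun i _ => (hg i).2, ← sum_lift w, Finset.mul_sum,
        Finset.mul_sum, ← Finset.sum_add_distrib]
    have hg0 : 0 ≤ ∑ i, g i := Finset.sum_nonneg fun i _ => (hg i).1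
    have hle : ∀ i, g i ≤ ∑ i, g i := fun i => Finset.single_le_sum (fun j _ => (hg j).1) (Finset.mem_univ i)
    have hwt : hammingNorm w = 0 ∨ hammingNorm w = 8 ∨ hammingNorm w = 12 ∨ hammingNorm w = 16 := by
      have := List.all_eq_true.mp weights_ok _ (mask_mem_codeList hw)
      simp only [← hammingNorm_eq, List.contains_eq_mem, List.mem_cons, List.not_mem_nil, or_false,
        decide_eq_true_eq] at this
      omega
    have small : ∀ n r : ℕ, hammingNorm w = n → ∑ i, g i = r → (∀ i, g i ≤ 1) → x ∈ (AE n r).image fE := by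
      intro n r hwn hsum h1
      have hcase : ∀ i, (w i = 0 ∧ t i = 0 ∧ g i = 0) ∨ (w i = 0 ∧ (t i = 1 ∨ t i = -1) ∧ g i = 1) ∨
          (w i ≠ 0 ∧ (t i = 0 ∨ t i = -1) ∧ g i = 0) := fun i => by
        have h0 := (hg i).1
        have h2 := h1 i
        simp only [g, lift] at h0 h2 ⊢
        by_cases hwi : w i = 0
        · simp only [hwi, if_true, mul_zero, add_zero] at h0 h2 ⊢
          have : -1 ≤ t i ∧ t i ≤ 1 := ⟨by nlinarith, by nlinarith⟩
          obtain ⟨b1, b2⟩ := this
          interval_cases h : t i <;> simp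
        · simp only [hwi, if_false] at h0 h2 ⊢
          have : -2 ≤ t i ∧ t i ≤ 1 := ⟨by nlinarith, by nlinarith⟩
          obtain ⟨b1, b2⟩ := this
          interval_cases h : t i <;> simp_all
      rw [Finset.mem_image]
      refine ⟨⟨support₂ w, Finset.univ.filter (fun i => w i ≠ 0 ∧ t i = -1),
        Finset.univ.filter (fun i => g i = 1), Finset.univ.filter (fun i => w i = 0 ∧ t i = -1)⟩, mem_AE.2
        ⟨mem_K.2 ⟨⟨w, hw, rfl⟩, hwn⟩, ⟨fun i hi => ?_, ?_⟩, ⟨fun i hi => ?_, ?_⟩, fun i hi => ?_⟩, ?_⟩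
      · simp only [Finset.mem_filter, Finset.mem_univ, true_and] at hi
        simp only [support₂, Finset.mem_filter, Finset.mem_univ, true_and]
        exact hi.1
      · have h5 : ∀ i, t i = g i - 2 * (if w i = 0 ∧ t i = -1 then (1 : ℤ) else 0) -
            (if w i ≠ 0 ∧ t i = -1 then (1 : ℤ) else 0) := fun i => by
          rcases hcase i with ⟨a, b, c⟩ | ⟨a, b | b, c⟩ | ⟨a, b | b, c⟩ <;> simp [a, b, c]
        rw [Finset.sum_congr rfl fun i _ => h5 i, Finset.sum_sub_distrib, Finset.sum_sub_distrib,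
          ← Finset.mul_sum, Finset.sum_boole, Finset.sum_boole, hsum] at ht
        omega
      · simp only [Finset.mem_filter, Finset.mem_univ, true_and] at hi
        simp only [Finset.mem_sdiff, Finset.mem_univ, true_and, support₂, Finset.mem_filter]
        rcases hcase i with ⟨a, b, c⟩ | ⟨a, b, c⟩ | ⟨a, b, c⟩
        · omega
        · exact not_not.2 a
        · omega
      · have e : ∀ i, g i = if g i = 1 then 1 else 0 := fun i => by
          have := (hg i).1
          have := h1 i
          split_ifs <;> omega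
        rw [Finset.sum_congr rfl fun i _ => e i, Finset.sum_boole] at hsum
        exact_mod_cast hsum
      · simp only [Finset.mem_filter, Finset.mem_univ, true_and] at hi ⊢
        rcases hcase i with ⟨a, b, c⟩ | ⟨a, b, c⟩ | ⟨a, b, c⟩
        · omega
        · exact c
        · exact absurd hi.1 a
      · funext i
        simp only [fE, support₂, Finset.mem_filter, Finset.mem_univ, true_and]
        rw [he i]
        rcases hcase i with ⟨a, b, c⟩ | ⟨a, b | b, c⟩ | ⟨a, b | b, c⟩ <;> simp [lift, a, b, c]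
    rcases hwt with h | h | h | h
    · have hw0 : w = 0 := hammingNorm_eq_zero.1 h
      have e : ∀ i, g i = t i ^ 2 := fun i => by simp [g, lift, hw0]
      by_cases hb : ∀ i, g i ≤ 1
      · exact ⟨1, small 0 4 h (by omega) hb⟩
      · push Not at hb
        obtain ⟨k, hk⟩ := hb
        have hk2 : t k ^ 2 = 4 := by
          have := hle k
          have : -2 ≤ t k ∧ t k ≤ 2 := by
            rw [e] at this
            constructor <;> nlinarith
          obtain ⟨b1, b2⟩ := this
          rw [e] at hk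
          interval_cases h' : t k <;> simp_all
        have hz : ∀ i, i ≠ k → t i = 0 := fun i hi => by
          have hsp := Finset.add_sum_erase Finset.univ g (Finset.mem_univ k)
          have := Finset.single_le_sum (fun j _ => (hg j).1) (Finset.mem_erase.2 ⟨hi, Finset.mem_univ i⟩)
            (f := g)
          rw [e] at this
          rw [e k] at hsp
          have h0 : t i ^ 2 ≤ 0 := by omega
          nlinarith
        refine ⟨0, Finset.mem_image.2 ⟨(k, 4 * t k), ?_, funext fun i => ?_⟩⟩
        · simp only [Finset.mem_product, Finset.mem_univ, true_and, Finset.mem_insert, Finset.mem_singleton]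
          have : (t k - 2) * (t k + 2) = 0 := by linarith [hk2, sq (t k)]
          rcases mul_eq_zero.1 this with q | q
          · left; omega
          · right; omega
        · simp only [f8]
          rw [he i]
          by_cases hi : i = k
          · subst hi; simp [lift, hw0]
          · simp [lift, hw0, hi, hz i hi]
    · by_cases hb : ∀ i, g i ≤ 1
      · exact ⟨2, small 8 2 h (by omega) hb⟩
      · push Not at hb
        obtain ⟨k, hk⟩ := hb
        have hgk : g k = 2 := by have := hle k; omega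
        have hz : ∀ i, i ≠ k → g i = 0 := fun i hi => by
          have hsp := Finset.add_sum_erase Finset.univ g (Finset.mem_univ k)
          have := Finset.single_le_sum (fun j _ => (hg j).1) (Finset.mem_erase.2 ⟨hi, Finset.mem_univ i⟩)
            (f := g)
          have := (hg i).1
          omega
        have htk : w k ≠ 0 ∧ (t k = 1 ∨ t k = -2) := by
          simp only [g, lift] at hgk
          by_cases hwi : w k = 0
          · simp only [hwi, if_true] at hgk
            have : -1 ≤ t k ∧ t k ≤ 1 := ⟨by nlinarith, by nlinarith⟩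
            obtain ⟨b1, b2⟩ := this
            interval_cases h' : t k <;> simp_all
          · simp only [hwi, if_false] at hgk
            have : (t k - 1) * (t k + 2) = 0 := by linarith [hgk, sq (t k)]
            rcases mul_eq_zero.1 this with q | q
            · exact ⟨hwi, Or.inl (by omega)⟩
            · exact ⟨hwi, Or.inr (by omega)⟩
        have hcase : ∀ i, i ≠ k → (w i = 0 ∧ t i = 0) ∨ (w i ≠ 0 ∧ (t i = 0 ∨ t i = -1)) := fun i hi => by
          have h0 := hz i hi
          simp only [g, lift] at h0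
          by_cases hwi : w i = 0
          · simp only [hwi, if_true] at h0
            exact Or.inl ⟨hwi, by nlinarith⟩
          · simp only [hwi, if_false] at h0
            have : t i * (t i + 1) = 0 := by linarith [h0, sq (t i)]
            rcases mul_eq_zero.1 this with q | q
            · exact Or.inr ⟨hwi, Or.inl q⟩
            · exact Or.inr ⟨hwi, Or.inr (by omega)⟩
        refine ⟨3, Finset.mem_image.2 ⟨⟨support₂ w, Finset.univ.filter
          (fun i => w i ≠ 0 ∧ (t i = -1 ∨ (i = k ∧ t i = 1))), k⟩, ?_, funext fun i => ?_⟩⟩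
        · simp only [A6, Finset.mem_sigma, Finset.mem_product, Finset.mem_filter, Finset.mem_powerset]
          refine ⟨mem_K.2 ⟨⟨w, hw, rfl⟩, h⟩, ⟨fun i hi => ?_, ?_⟩, ?_⟩
          · simp only [Finset.mem_filter, Finset.mem_univ, true_and] at hi
            simp only [support₂, Finset.mem_filter, Finset.mem_univ, true_and]
            exact hi.1
          · have h5 : ∀ i, t i = (if i = k then (if t k = 1 then 2 else -2) else 0) -
                (if w i ≠ 0 ∧ (t i = -1 ∨ (i = k ∧ t i = 1)) then (1 : ℤ) else 0) := fun i => by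
              by_cases hi : i = k
              · subst hi; rcases htk.2 with q | q <;> simp [htk.1, q]
              · rcases hcase i hi with ⟨a, b⟩ | ⟨a, b | b⟩ <;> simp [hi, a, b]
            rw [Finset.sum_congr rfl fun i _ => h5 i, Finset.sum_sub_distrib, Finset.sum_boole,
              Finset.sum_ite_eq', if_pos (Finset.mem_univ k)] at ht
            split_ifs at ht <;> omega
          · simp [support₂, htk.1]
        · simp only [f6, support₂, Finset.mem_filter, Finset.mem_univ, true_and]
          rw [he i]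
          by_cases hi : i = k
          · subst hi; rcases htk.2 with q | q <;> simp [lift, htk.1, q]
          · rcases hcase i hi with ⟨a, b⟩ | ⟨a, b | b⟩ <;> simp [lift, hi, a, b]
    · exact ⟨4, small 12 1 h (by omega) fun i => by have := hle i; omega⟩
    · exact ⟨5, small 16 0 h (by omega) fun i => by have := hle i; omega⟩
  · have hg : ∀ i, ∃ q : ℤ, 0 ≤ q ∧ x i ^ 2 = 1 + 8 * q ∧ (q ≤ 5 →
        (q = 0 ∧ x i = if w i = 0 then 1 else -1) ∨ (q = 1 ∧ x i = if w i = 0 then -3 else 3) ∨
          (q = 3 ∧ x i = if w i = 0 then 5 else -5)) := by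
      intro i
      have h1 := he i
      simp only [lift] at h1
      by_cases hwi : w i = 0
      · simp only [hwi, if_true] at h1 ⊢
        refine ⟨t i + 2 * t i ^ 2, ?_, by rw [h1]; ring, fun hq => ?_⟩
        · have : t i ≤ -1 ∨ 0 ≤ t i := by omega
          rcases this with q | q <;> nlinarith
        · have : -2 ≤ t i ∧ t i ≤ 1 := ⟨by nlinarith, by nlinarith⟩
          obtain ⟨b1, b2⟩ := this
          rw [h1]
          interval_cases h : t i <;> first | (exfalso; omega) | norm_num
      · simp only [hwi, if_false] at h1 ⊢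
        refine ⟨1 + 3 * t i + 2 * t i ^ 2, ?_, by rw [h1]; ring, fun hq => ?_⟩
        · have : t i ≤ -1 ∨ 0 ≤ t i := by omega
          rcases this with q | q <;> nlinarith
        · have : -2 ≤ t i ∧ t i ≤ 1 := ⟨by nlinarith, by nlinarith⟩
          obtain ⟨b1, b2⟩ := this
          rw [h1]
          interval_cases h : t i <;> first | (exfalso; omega) | norm_num
    choose q hq0 hq1 hqc using hg
    have hsum : ∑ i, q i = 5 := by
      have : sqNorm x = 24 + 8 * ∑ i, q i := by
        rw [sqNorm, Finset.sum_congr rfl fun i _ => hq1 i, Finset.sum_add_distrib, ← Finset.mul_sum,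
          Finset.sum_const, card24]
        norm_num
      omega
    have hc : ∀ i, _ := fun i => hqc i (hsum ▸ Finset.single_le_sum (fun j _ => hq0 j) (Finset.mem_univ i))
    have e : ∀ i, q i = 3 * (if q i = 3 then 1 else 0) + (if q i = 1 then 1 else 0) := fun i => by
      rcases hc i with ⟨a, -⟩ | ⟨a, -⟩ | ⟨a, -⟩ <;> simp [a]
    rw [Finset.sum_congr rfl fun i _ => e i, Finset.sum_add_distrib, ← Finset.mul_sum, Finset.sum_boole,
      Finset.sum_boole] at hsum
    set F := Finset.univ.filter fun i => q i = 3 with hF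
    set T := Finset.univ.filter fun i => q i = 1 with hT
    have hsub : T ⊆ Finset.univ \ F := fun i hi => by
      simp only [hT, hF, Finset.mem_filter, Finset.mem_univ, true_and, Finset.mem_sdiff] at hi ⊢
      omega
    have hx' : fO (w, ⟨F, T⟩) = x := funext fun i => by
      simp only [fO, hT, hF, Finset.mem_filter, Finset.mem_univ, true_and]
      rcases hc i with ⟨a, b⟩ | ⟨a, b⟩ | ⟨a, b⟩ <;> rw [b] <;> simp [a] <;> split_ifs <;> rfl
    have hcases : (F.card = 0 ∧ T.card = 5) ∨ (F.card = 1 ∧ T.card = 2) := by omega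
    rcases hcases with ⟨a, b⟩ | ⟨a, b⟩
    · exact ⟨6, Finset.mem_image.2 ⟨_, mem_AO.2 ⟨hw, a, hsub, b⟩, hx'⟩⟩
    · exact ⟨7, Finset.mem_image.2 ⟨_, mem_AO.2 ⟨hw, a, hsub, b⟩, hx'⟩⟩

theorem card_F6 : (A6.image f6).card = 777216 := by
  rw [Finset.card_image_of_injOn, A6, Finset.card_sigma, Finset.sum_congr rfl (g := fun _ => 1024)]
  · rw [Finset.sum_const, card_K, lengths.2.1]
    rfl
  · intro c hc
    have h8 := (K_mem hc).1
    rw [Finset.card_product, h8]
    have := (card_parity c (Finset.card_pos.1 (by omega))).1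
    rw [h8] at this
    simp only [Nat.even_iff] at this
    rw [this]; rfl
  · intro p hp q hq e
    obtain ⟨c, s, k⟩ := p
    obtain ⟨c', s', k'⟩ := q
    have e1 : c = c' := Finset.ext fun i => by rw [(char6 hp i).1, e, ← (char6 hq i).1]
    have e2 : s = s' := Finset.ext fun i => by rw [(char6 hp i).2.1, e, ← (char6 hq i).2.1]
    have e3 : k = k' := by
      have := (char6 hp k).2.2.1 rfl
      rw [e] at this
      exact (char6 hq k).2.2.2 this
    subst e1 e2 e3
    rfl

theorem card_F8 : (((Finset.univ : Finset GolayPt) ×ˢ ({8, -8} : Finset ℤ)).image f8).card = 48 := by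
  rw [Finset.card_image_of_injOn, Finset.card_product]
  · rfl
  · rintro ⟨k, a⟩ hp ⟨k', a'⟩ - e
    simp only [Finset.coe_product, Set.mem_prod, Finset.coe_insert, Finset.coe_singleton, Set.mem_insert_iff,
      Set.mem_singleton_iff] at hp
    have h := congrFun e k
    simp only [f8, if_true] at h
    by_cases hk : k = k'
    · subst hk; simp at h; rw [h]
    · rw [if_neg hk] at h
      rcases hp.2 with q | q <;> omega


/-- Exactly 398034000 lattice vectors have sum of squares 64. -/
theorem result : {x : Cfsg.GolayPt → ℤ | x ∈ Cfsg.leechLattice ∧ Cfsg.sqNorm x = 64}.ncard = 398034000 := by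
  skip
  classical
  have hset : {x : GolayPt → ℤ | x ∈ leechLattice ∧ sqNorm x = 64} = ↑(Finset.univ.biUnion shapes) := by
    ext x
    simp only [Set.mem_ofPred_eq, Finset.mem_coe, Finset.mem_biUnion, Finset.mem_univ, true_and]
    exact ⟨fun h => complete h.1 h.2, fun ⟨j, hj⟩ => (shapes_facts j x hj).1⟩
  rw [hset, Set.ncard_coe_finset, Finset.card_biUnion]
  · rw [Fin.sum_univ_eight]
    obtain ⟨l0, l8, l12, l16⟩ := lengths
    simp only [shapes, Matrix.cons_val, Matrix.cons_val_zero, Matrix.cons_val_one, card_F8, card_F6, card_FO,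
      card_FE (n := 0) (r := 4) (Or.inr rfl), card_FE (n := 8) (r := 2) (Or.inl (by norm_num)),
      card_FE (n := 12) (r := 1) (Or.inl (by norm_num)), card_FE (n := 16) (r := 0) (Or.inl (by norm_num)),
      l0, l8, l12, l16]
    rfl
  · intro i _ j _ hij
    exact Finset.disjoint_left.2 fun x hi hj =>
      hij (keys_inj ((shapes_facts i x hi).2.symm.trans (shapes_facts j x hj).2))

end Cfsg.Agent.S0396
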