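import Cfsg.Statements.S0398
import Cfsg.Agent.Lib.Leech.Basic
import Cfsg.Agent.Lib.Golay.M24
-- import your own Cfsg.Agent.* helpers here

set_option autoImplicit false
open Cfsg

namespace Cfsg.Agent.S0398


open Cfsg.Agent.Leech Cfsg.Agent.Golay

theorem single_mem (j : GolayPt) : (Pi.single j 8 : GolayPt → ℤ) ∈ leechLattice := by
  refine (mem_lattice_iff _).mpr ⟨0, 0, Submodule.zero_mem _, fun i => ?_, ?_⟩
  · rcases eq_or_ne i j with rfl | h
    · simp [lift, Int.ModEq]
    · simp [lift, Int.ModEq, Pi.single_eq_of_ne h]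
  · rw [Finset.sum_pi_single']; simp [Int.ModEq]

def ev (j : GolayPt) : ↥leechLattice := ⟨Pi.single j 8, single_mem j⟩

theorem eight_smul (x : ↥leechLattice) : (8 : ℤ) • x = ∑ j, (x : GolayPt → ℤ) j • ev j := by
  apply Subtype.ext
  funext i
  rw [AddSubgroup.val_finsetSum, Finset.sum_apply, Fintype.sum_eq_single i (fun l hl => ?_)]
  · simp [ev, mul_comm]
  · simp [ev, Pi.single_eq_of_ne hl.symm]

def act (g : ↥Co0) : ↥leechLattice →+ (GolayPt → ℤ) :=
  AddMonoidHom.mk' (fun v => (((g : Equiv.Perm ↥leechLattice) v : ↥leechLattice) : GolayPt → ℤ))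
    (fun v w => by rw [g.2.1]; rfl)

theorem separated : ∀ i j : GolayPt, i ≠ j → ∃ t, qrWord t i ≠ qrWord t j := by decide +kernel

noncomputable def flip (c : Finset GolayPt)
    (hc : c ∈ supports (golayCode : Set (GolayPt → ZMod 2))) : ↥Co0 := by
  refine ⟨Function.Involutive.toPerm
    (fun v : ↥leechLattice => (⟨fun i => if i ∈ c then -(v : GolayPt → ℤ) i else (v : GolayPt → ℤ) i,
      neg_on_mem hc v.2⟩ : ↥leechLattice)) (fun v => Subtype.ext (funext fun i => ?_)), fun v w => ?_, fun v => ?_⟩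
  · by_cases h : i ∈ c <;> simp [h]
  · refine Subtype.ext (funext fun i => ?_)
    show (if i ∈ c then -((v : GolayPt → ℤ) i + (w : GolayPt → ℤ) i) else (v : GolayPt → ℤ) i + (w : GolayPt → ℤ) i) =
      (if i ∈ c then -(v : GolayPt → ℤ) i else (v : GolayPt → ℤ) i) +
      (if i ∈ c then -(w : GolayPt → ℤ) i else (w : GolayPt → ℤ) i)
    split_ifs <;> ring
  · refine Finset.sum_congr rfl fun i _ => ?_
    show (if i ∈ c then -(v : GolayPt → ℤ) i else (v : GolayPt → ℤ) i) ^ 2 = _
    split_ifs <;> ring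

noncomputable def permEl (σ : Equiv.Perm GolayPt) (hσ : σ ∈ M24) : ↥Co0 := by
  refine ⟨⟨fun v => ⟨fun i => (v : GolayPt → ℤ) (σ i), perm_mem hσ v.2⟩,
    fun v => ⟨fun i => (v : GolayPt → ℤ) (σ⁻¹ i), perm_mem (inv_mem hσ) v.2⟩,
    fun v => Subtype.ext (funext fun i => ?_), fun v => Subtype.ext (funext fun i => ?_)⟩, fun v w => ?_, fun v => ?_⟩
  · simp
  · simp
  · rfl
  · exact Equiv.sum_comp σ (fun i => (v : GolayPt → ℤ) i ^ 2)

noncomputable def negEl : ↥Co0 :=
  ⟨Equiv.neg ↥leechLattice, fun v w => neg_add v w, fun v => Finset.sum_congr rfl fun i _ => by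
    show (-(v : GolayPt → ℤ) i) ^ 2 = _
    ring⟩

theorem negEl_central (g : ↥Co0) : g * negEl = negEl * g := by
  refine Subtype.ext (Equiv.ext fun v => Subtype.ext ?_)
  show act g (-v) = -act g v
  exact map_neg _ _

theorem comm_apply {z g : ↥Co0} (h : g * z = z * g) (v : ↥leechLattice) :
    act g ((z : Equiv.Perm ↥leechLattice) v) = act z ((g : Equiv.Perm ↥leechLattice) v) :=
  congrArg Subtype.val (DFunLike.congr_fun (congrArg Subtype.val h) v)

theorem offdiag {z : ↥Co0} (hz : z ∈ Subgroup.center ↥Co0) {i j : GolayPt} (hij : i ≠ j) :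
    act z (ev j) i = 0 := by
  obtain ⟨t, ht⟩ := separated i j hij
  set c : Finset GolayPt := support₂ (qrWord t) with hcdef
  have hc : c ∈ supports (golayCode : Set (GolayPt → ZMod 2)) :=
    ⟨qrWord t, Submodule.subset_span (Or.inl ⟨t, rfl⟩), rfl⟩
  have hne : ¬ (i ∈ c ↔ j ∈ c) := by
    simp only [hcdef, support₂, Finset.mem_filter, Finset.mem_univ, true_and]
    revert ht
    generalize qrWord t i = a
    generalize qrWord t j = b
    revert a b
    decide
  have hev : (flip c hc : Equiv.Perm ↥leechLattice) (ev j) = if j ∈ c then -ev j else ev j := by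
    refine Subtype.ext (funext fun l => ?_)
    show (if l ∈ c then -(Pi.single j 8 : GolayPt → ℤ) l else (Pi.single j 8 : GolayPt → ℤ) l) = _
    rcases eq_or_ne l j with rfl | hl
    · split_ifs <;> simp [ev]
    · split_ifs <;> simp [ev, Pi.single_eq_of_ne hl]
  have h := congrFun (comm_apply (Subgroup.mem_center_iff.mp hz (flip c hc)) (ev j)) i
  rw [hev] at h
  change (if i ∈ c then -act z (ev j) i else act z (ev j) i) = _ at h
  by_cases hi : i ∈ c
  · have hj : j ∉ c := fun hj => hne (iff_of_true hi hj)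
    rw [if_pos hi, if_neg hj] at h
    linarith
  · have hj : j ∈ c := by_contra fun hj => hne (iff_of_false hi hj)
    rw [if_neg hi, if_pos hj, map_neg, Pi.neg_apply] at h
    linarith

theorem diag_const {z : ↥Co0} (hz : z ∈ Subgroup.center ↥Co0) (i j : GolayPt) :
    act z (ev i) i = act z (ev j) j := by
  have h5 := Cfsg.Agent.Golay.five_transitive
  have h1 : MulAction.IsMultiplyPretransitive M24 GolayPt 1 :=
    MulAction.isMultiplyPretransitive_of_le (n := 5) (by norm_num) (by
      rw [Nat.card_eq_fintype_card, Fintype.card_option, ZMod.card]; norm_num)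
  have h0 := MulAction.is_one_pretransitive_iff.mp h1
  obtain ⟨σ, hσ⟩ := MulAction.exists_smul_eq M24 i j
  have hσ' : (σ : Equiv.Perm GolayPt) i = j := hσ
  have hev : (permEl σ σ.2 : Equiv.Perm ↥leechLattice) (ev j) = ev i := by
    refine Subtype.ext (funext fun l => ?_)
    show (Pi.single j 8 : GolayPt → ℤ) ((σ : Equiv.Perm GolayPt) l) = (Pi.single i 8 : GolayPt → ℤ) l
    rcases eq_or_ne l i with rfl | hl
    · rw [hσ', Pi.single_eq_same, Pi.single_eq_same]
    · rw [Pi.single_eq_of_ne hl, Pi.single_eq_of_ne (fun e => hl ((σ : Equiv.Perm GolayPt).injective (e.trans hσ'.symm)))]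
  have h := congrFun (comm_apply (Subgroup.mem_center_iff.mp hz (permEl σ σ.2)) (ev j)) i
  rw [hev] at h
  change act z (ev j) ((σ : Equiv.Perm GolayPt) i) = _ at h
  rw [hσ'] at h
  exact h.symm

theorem central_eq {z : ↥Co0} (hz : z ∈ Subgroup.center ↥Co0) : z = 1 ∨ z = negEl := by
  set a := act z (ev none) none with ha
  have hsq : a ^ 2 = 64 := by
    have h1 : sqNorm (act z (ev none)) = sqNorm (Pi.single none 8 : GolayPt → ℤ) := z.2.2 (ev none)
    rw [sqNorm, sqNorm, Fintype.sum_eq_single none (fun l hl => by rw [offdiag hz hl]; norm_num),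
      Fintype.sum_eq_single none (fun l hl => by rw [Pi.single_eq_of_ne hl]; norm_num), Pi.single_eq_same] at h1
    exact h1
  have hall : ∀ v : ↥leechLattice, ∀ i, 8 * act z v i = a * (v : GolayPt → ℤ) i := by
    intro v i
    have hh := congrArg (fun w => act z w i) (eight_smul v)
    simp only [map_zsmul, map_sum, Finset.sum_apply, Pi.smul_apply, smul_eq_mul] at hh
    rw [Fintype.sum_eq_single i (fun l hl => by rw [offdiag hz hl.symm, mul_zero]), diag_const hz i none] at hh
    rw [hh, mul_comm]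
  rcases (sq_eq_sq_iff_eq_or_eq_neg (a := a) (b := 8)).mp (by rw [hsq]; norm_num) with h | h
  · left
    refine Subtype.ext (Equiv.ext fun v => Subtype.ext (funext fun i => ?_))
    have := hall v i
    rw [h] at this
    show act z v i = (v : GolayPt → ℤ) i
    linarith
  · right
    refine Subtype.ext (Equiv.ext fun v => Subtype.ext (funext fun i => ?_))
    have := hall v i
    rw [h] at this
    show act z v i = -(v : GolayPt → ℤ) i
    linarith

/-- The centre of the lattice's automorphism group has order 2. -/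
theorem result : Nat.card (Subgroup.center Cfsg.Co0) = 2 := by
  refine Nat.card_eq_two_iff.mpr ⟨1, ⟨negEl, Subgroup.mem_center_iff.mpr negEl_central⟩, ?_, ?_⟩
  · intro h
    have h1 : (ev none : GolayPt → ℤ) none = -(ev none : GolayPt → ℤ) none :=
      congrArg (fun g : ↥(Subgroup.center ↥Co0) => act (g : ↥Co0) (ev none) none) h
    simp [ev] at h1
  · refine Set.eq_univ_iff_forall.mpr fun z => ?_
    rcases central_eq z.2 with h | h
    · exact Or.inl (Subtype.ext h)
    · exact Or.inr (Subtype.ext h)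

end Cfsg.Agent.S0398
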