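import Cfsg.Statements.S0425
import Cfsg.Agent.Lib.Steiner.Twelve
import Cfsg.Agent.Lib.Golay.OrbPQ

set_option autoImplicit false
open Cfsg

namespace Cfsg.Agent.S0425

set_option maxRecDepth 100000

open Cfsg.Agent.Steiner.Twelve
open scoped Pointwise

/-- the six upper positions moved by a list -/
def moveUp (L : List (Fin 12)) (i : Fin 12) : Fin 12 := if i.val < 6 then i else L.getD (i.val - 6) 0

theorem moveUp_rigid : ((([6, 7, 8, 9, 10, 11] : List (Fin 12)).permutations').all fun L =>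
    L == [6, 7, 8, 9, 10, 11] || stdBlocks.any fun m => !stdBlocks.contains (pull12 (moveUp L) m)) = true := by
  decide +kernel

theorem low_six : ∀ m ∈ stdBlocks, (∀ i : Fin 12, i.val < 5 → m.testBit i.val = true) → m = 63 := by decide +kernel

theorem std_real : ∀ m ∈ stdBlocks, m < 4096 := by decide +kernel

theorem std_has63 : 63 ∈ stdBlocks := by decide +kernel

theorem mk_set {m : ℕ} (h : m < 4096) : mk12 (set12 m) = m := by
  refine Nat.eq_of_testBit_eq fun i => ?_
  by_cases hi : i < 12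
  · have := mk12_bit (set12 m) ⟨i, hi⟩
    simp only at this
    rw [this]
    simp [set12]
  · have h2 : 4096 ≤ 2 ^ i := le_trans (by norm_num) (Nat.pow_le_pow_right (by norm_num) (not_lt.mp hi))
    rw [Nat.testBit_eq_false_of_lt (lt_of_lt_of_le (mk12_lt _) h2), Nat.testBit_eq_false_of_lt (lt_of_lt_of_le h h2)]

theorem rigid_std (π : Equiv.Perm (Fin 12))
    (hπ : ∀ b : Finset (Fin 12), mk12 b ∈ stdBlocks → mk12 (π • b) ∈ stdBlocks)
    (h5 : ∀ i : Fin 12, i.val < 5 → π i = i) : π = 1 := by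
  have hmask : ∀ b : Finset (Fin 12), mk12 (π • b) = pull12 (⇑π⁻¹) (mk12 b) := by
    intro b
    unfold pull12
    conv_lhs => unfold mk12
    congr 1
    funext i
    rw [mk12_bit]
    refine decide_eq_decide.mpr ?_
    rw [← Finset.inv_smul_mem_iff]; rfl
  have hp : ∀ m ∈ stdBlocks, pull12 (⇑π⁻¹) m ∈ stdBlocks := by
    intro m hm
    rw [← mk_set (std_real m hm), ← hmask]
    exact hπ _ (by rw [mk_set (std_real m hm)]; exact hm)
  set f : Fin 12 → Fin 12 := ⇑π⁻¹ with hf
  have f5 : ∀ i : Fin 12, i.val < 5 → f i = i := fun i hi => by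
    show π⁻¹ i = i
    rw [Equiv.Perm.coe_inv, Equiv.symm_apply_eq, h5 i hi]
  have h63 : pull12 f 63 = 63 := by
    refine low_six _ (hp 63 std_has63) fun i hi => ?_
    rw [pull12, Nat.testBit_ofBits_lt _ _ i.isLt, Fin.eta, f5 i hi, show (63 : ℕ) = 2 ^ 6 - 1 from rfl,
      Nat.testBit_two_pow_sub_one, decide_eq_true_eq]
    omega
  have hlow : ∀ i : Fin 12, i.val < 6 ↔ (f i).val < 6 := fun i => by
    have := congrArg (fun m => m.testBit i.val) h63
    simp only [pull12, Nat.testBit_ofBits_lt _ _ i.isLt, Fin.eta] at this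
    rw [show (63 : ℕ) = 2 ^ 6 - 1 from rfl, Nat.testBit_two_pow_sub_one, Nat.testBit_two_pow_sub_one] at this
    simp only [decide_eq_decide] at this
    exact this.symm
  have f6 : ∀ i : Fin 12, i.val < 6 → f i = i := by
    intro i hi
    by_cases h : i.val < 5
    · exact f5 i h
    · have hfi := (hlow i).mp hi
      by_cases h' : (f i).val < 5
      · exact absurd ((π⁻¹).injective (f5 _ h' : π⁻¹ (f i) = π⁻¹ i)) (fun e => h (e ▸ h'))
      · exact Fin.ext (by omega)
  set L := ([6, 7, 8, 9, 10, 11] : List (Fin 12)).map f with hL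
  have hperm : L.Perm [6, 7, 8, 9, 10, 11] := by
    have hsub : L ⊆ ([6, 7, 8, 9, 10, 11] : List (Fin 12)) := by
      intro y hy
      obtain ⟨x, hx, rfl⟩ := List.mem_map.mp hy
      have hxv : 6 ≤ x.val := (by decide +kernel : ∀ z ∈ ([6, 7, 8, 9, 10, 11] : List (Fin 12)), 6 ≤ z.val) x hx
      have hfx : 6 ≤ (f x).val := not_lt.mp fun h => absurd ((hlow x).mpr h) (not_lt.mpr hxv)
      have key : ∀ y : Fin 12, 6 ≤ y.val → y ∈ ([6, 7, 8, 9, 10, 11] : List (Fin 12)) := by decide +kernel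
      exact key _ hfx
    exact (List.subperm_of_subset ((List.Nodup.map (π⁻¹).injective (by decide +kernel))) hsub).perm_of_length_le (by simp [hL])
  have hff : moveUp L = f := by
    funext i
    unfold moveUp
    split_ifs with h
    · exact (f6 i h).symm
    · have hlt : i.val - 6 < 6 := by omega
      rw [← List.getElem_eq_getD (h := by rw [hL, List.length_map]; exact hlt)]
      simp only [hL, List.getElem_map]
      congr 1
      have key : ∀ i : Fin 12, 6 ≤ i.val → ([6, 7, 8, 9, 10, 11] : List (Fin 12)).getD (i.val - 6) 0 = i := by decide +kernel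
      rw [List.getElem_eq_getD (fallback := 0)]
      exact key i (not_lt.mp h)
  have := List.all_eq_true.mp moveUp_rigid L (List.mem_permutations'.mpr hperm)
  simp only [Bool.or_eq_true, beq_iff_eq, List.any_eq_true, Bool.not_eq_true', List.contains_eq_mem, decide_eq_false_iff_not] at this
  rcases this with h | ⟨m, hm, h⟩
  · have hid : ∀ i, f i = i := fun i => by
      rw [← hff, h]; revert i; decide +kernel
    refine Equiv.ext fun i => ?_
    conv_lhs => rw [← hid i]
    simp [hf]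
  · exact absurd (hp m hm) (hff ▸ h)

/-- the twelve points -/
abbrev D12 : Type := {p : Cfsg.GolayPt // p ∈ Cfsg.Agent.Golay.D0}

/-- their hexads -/
def sysD : Set (Finset D12) :=
  {h : Finset D12 | ∃ o ∈ Cfsg.octads, (o ∩ Cfsg.Agent.Golay.D0).card = 6 ∧ h = Finset.subtype (fun p => p ∈ Cfsg.Agent.Golay.D0) o}

/-- restriction -/
noncomputable def res : Cfsg.Agent.Golay.stabD →* Equiv.Perm D12 where
  toFun g := (g.1).subtypePerm (fun p => ((Cfsg.Agent.Golay.stabD_mem_iff.mp g.2).2 p).symm)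
  map_one' := rfl
  map_mul' a b := rfl

theorem res_pres (g : Cfsg.Agent.Golay.stabD) {h : Finset D12} (hh : h ∈ sysD) : res g • h ∈ sysD := by
  obtain ⟨o, ho, h6, rfl⟩ := hh
  obtain ⟨hgM, hgD⟩ := g.2
  have hgD' : g.1 • Cfsg.Agent.Golay.D0 = Cfsg.Agent.Golay.D0 := hgD
  refine ⟨g.1 • o, Cfsg.Agent.Golay.smul_mem_weight hgM ho, ?_, ?_⟩
  · conv_lhs => rw [← hgD']
    rw [← Finset.smul_finset_inter, Finset.card_smul_finset, h6]
  · ext p
    rw [← Finset.inv_smul_mem_iff, Finset.mem_subtype, Finset.mem_subtype, ← Finset.inv_smul_mem_iff]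
    rfl

theorem mem_aut_iff {α : Type*} [Fintype α] [DecidableEq α] {B : Set (Finset α)} (σ : Equiv.Perm α) :
    σ ∈ Cfsg.setSystemAut B ↔ ∀ t ∈ B, σ • t ∈ B := by
  rw [MulAction.mem_stabilizer_set_iff_smul_set_subset (Set.toFinite _)]
  exact ⟨fun h t ht => h (Set.smul_mem_smul_set ht), fun h _ ⟨t, ht, e⟩ => e ▸ h t ht⟩

/-- Aut of an S(5, 6, 12) is simple of order 95040 and sharply 5-transitive on points. -/
theorem result {α : Type*} [Fintype α] [DecidableEq α] (hα : Fintype.card α = 12) {B : Set (Finset α)} (hB : Cfsg.IsSteinerSystem 5 6 B) : Cfsg.IsM12 (Cfsg.setSystemAut B) ∧ MulAction.IsMultiplyPretransitive (Cfsg.setSystemAut B) α 5 ∧ ∀ x : Fin 5 ↪ α, MulAction.stabilizer (Cfsg.setSystemAut B) x = ⊥ := by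
  classical
  have hD : Fintype.card D12 = 12 := by
    rw [Fintype.card_coe]; exact Cfsg.Agent.Golay.D0_dodecad.2
  have hsys : Cfsg.IsSteinerSystem 5 6 sysD := Cfsg.Agent.Golay.dodecad_hexads Cfsg.Agent.Golay.D0_dodecad
  obtain ⟨e, he⟩ := standard hα hB
  obtain ⟨ψ, hψ⟩ := iso hD hα hsys hB
  let T : Cfsg.Agent.Golay.stabD →* Equiv.Perm α := ψ.permCongrHom.toMonoidHom.comp res
  have hT : ∀ g, T g ∈ Cfsg.setSystemAut B := by
    intro g
    rw [mem_aut_iff, ← hψ]
    rintro _ ⟨t, ht, rfl⟩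
    refine ⟨res g • t, res_pres g ht, ?_⟩
    ext a
    rw [← Finset.inv_smul_mem_iff]
    simp only [Finset.mem_image]
    constructor
    · rintro ⟨x, hx, rfl⟩
      refine ⟨(res g)⁻¹ x, Finset.inv_smul_mem_iff.mpr hx, ?_⟩
      simp [T, Equiv.permCongrHom, Equiv.permCongr_apply, Equiv.eq_symm_apply]
    · rintro ⟨x, hx, hxe⟩
      refine ⟨res g x, Finset.smul_mem_smul_finset hx, ?_⟩
      have h2 : a = T g (ψ x) := by rw [hxe]; simp
      rw [h2]; simp [T, Equiv.permCongrHom, Equiv.permCongr_apply]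
  have extend : ∀ x y : Fin 5 ↪ α, ∃ g, ∀ i, T g (x i) = y i := by
    intro x y
    let up : (Fin 5 ↪ α) → (Fin 5 ↪ Cfsg.GolayPt) := fun z => (z.trans ψ.symm.toEmbedding).trans (Function.Embedding.subtype _)
    obtain ⟨⟨⟨g, hgM⟩, hgd⟩, hg, -⟩ := Cfsg.Agent.Golay.sharply_five _ Cfsg.Agent.Golay.D0_dodecad (up x) (up y)
      (fun i => (ψ.symm (x i)).2) (fun i => (ψ.symm (y i)).2)
    refine ⟨⟨g, hgM, hgd⟩, fun i => ?_⟩
    show ψ (res _ (ψ.symm (x i))) = y i
    rw [← ψ.apply_symm_apply (y i)]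
    exact congrArg ψ (Subtype.ext (hg i))
  have rigid : ∀ σ ∈ Cfsg.setSystemAut B, ∀ x : Fin 5 ↪ α, (∀ i, σ (x i) = x i) → σ = 1 := by
    intro σ hσ x hx
    let b : Fin 5 ↪ α := ⟨fun i => e ⟨i.val, by omega⟩, fun i j h => by
      have := congrArg Fin.val (e.injective h); exact Fin.ext this⟩
    obtain ⟨g, hg⟩ := extend b x
    set τ := (T g)⁻¹ * σ * T g with hτ
    have hτm : τ ∈ Cfsg.setSystemAut B := mul_mem (mul_mem (inv_mem (hT g)) hσ) (hT g)
    let π : Equiv.Perm (Fin 12) := e.symm.permCongr τ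
    have hπ : π = 1 := by
      refine rigid_std π (fun c hc => ?_) (fun i hi => ?_)
      · have hc' : c ∈ pullSys e B := by rw [he]; exact hc
        have h2 : π • c ∈ pullSys e B := by
          show (π • c).image e ∈ B
          have : (π • c).image e = τ • c.image e := by
            ext a
            rw [← Finset.inv_smul_mem_iff, Finset.mem_image, Finset.mem_image]
            constructor
            · rintro ⟨z, hz, rfl⟩
              exact ⟨π⁻¹ z, Finset.inv_smul_mem_iff.mpr hz, by rw [Equiv.Perm.coe_inv, Equiv.Perm.smul_def]; show e (e.symm (τ.symm (e z))) = τ.symm (e z); exact e.apply_symm_apply _⟩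
            · rintro ⟨z, hz, hze⟩
              refine ⟨π z, Finset.smul_mem_smul_finset hz, ?_⟩
              have h2 : a = τ (e z) := by rw [hze]; simp
              rw [h2]; simp [π, Equiv.permCongr_apply]
          rw [this]
          exact (mem_aut_iff τ).mp hτm _ hc'
        rw [he] at h2
        exact h2
      · show e.symm (τ (e i)) = i
        have h3 : T g (e i) = x ⟨i.val, hi⟩ := hg ⟨i.val, hi⟩
        rw [hτ, Equiv.Perm.mul_apply, Equiv.Perm.mul_apply, h3, hx ⟨i.val, hi⟩, ← h3]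
        simp
    have h1 : τ = 1 := e.symm.permCongr.injective (hπ.trans (by ext; simp [Equiv.permCongr_apply]))
    have := congrArg (fun t => T g * t * (T g)⁻¹) h1
    simpa [hτ, mul_assoc] using this
  have unique : ∀ a b : Cfsg.setSystemAut B, ∀ x : Fin 5 ↪ α, (∀ i, a.1 (x i) = b.1 (x i)) → a = b := by
    intro a b x h
    refine Subtype.ext (inv_mul_eq_one.mp (rigid _ (mul_mem (inv_mem b.2) a.2) x fun i => ?_)).symm
    rw [Equiv.Perm.mul_apply, h i, Equiv.Perm.coe_inv, Equiv.symm_apply_apply]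
  obtain ⟨b0⟩ : Nonempty (Fin 5 ↪ α) := Function.Embedding.nonempty_of_card_le (by rw [hα]; simp)
  have hcard : Nat.card (Cfsg.setSystemAut B) = 95040 := by
    rw [Nat.card_eq_of_bijective (fun σ : Cfsg.setSystemAut B => b0.trans σ.1.toEmbedding) ⟨fun a b hab => ?_, fun y => ?_⟩,
      Nat.card_eq_fintype_card, Fintype.card_embedding_eq, Fintype.card_fin, hα]
    · decide +kernel
    · exact unique a b b0 fun i => congrFun (congrArg DFunLike.coe hab) i
    · obtain ⟨g, hg⟩ := extend b0 y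
      exact ⟨⟨T g, hT g⟩, DFunLike.ext _ _ fun i => hg i⟩
  let T' : Cfsg.Agent.Golay.stabD →* Cfsg.setSystemAut B := T.codRestrict _ hT
  have hsurj : Function.Surjective T' := by
    intro σ
    obtain ⟨g, hg⟩ := extend b0 (b0.trans σ.1.toEmbedding)
    exact ⟨g, unique _ _ b0 fun i => hg i⟩
  have hsimp : IsSimpleGroup (Cfsg.setSystemAut B) := by
    have : Nontrivial (Cfsg.setSystemAut B) := Finite.one_lt_card_iff_nontrivial.mp (by rw [hcard]; norm_num)
    haveI := Cfsg.Agent.Golay.stabD_simple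
    exact IsSimpleGroup.isSimpleGroup_of_surjective T' hsurj
  refine ⟨⟨hsimp, hcard⟩, ⟨fun x y => ?_⟩, fun x => ?_⟩
  · obtain ⟨g, hg⟩ := extend x y
    exact ⟨⟨T g, hT g⟩, DFunLike.ext _ _ fun i => hg i⟩
  · rw [Subgroup.eq_bot_iff_forall]
    intro σ hσ
    exact unique σ 1 x fun i => (congrFun (congrArg DFunLike.coe (MulAction.mem_stabilizer_iff.mp hσ)) i)

end Cfsg.Agent.S0425
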