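import Cfsg.Statements.S0411
import Cfsg.Agent.Lib.Steiner.Eleven
import Cfsg.Agent.S0425

set_option autoImplicit false
open Cfsg

namespace Cfsg.Agent.S0411

open scoped Pointwise

/-- Uniqueness of the Steiner system S(4, 5, 11) up to isomorphism. -/
theorem result {α β : Type*} [Fintype α] [DecidableEq α] [Fintype β] [DecidableEq β] (hα : Fintype.card α = 11) (hβ : Fintype.card β = 11) {B : Set (Finset α)} {B' : Set (Finset β)} (hB : Cfsg.IsSteinerSystem 4 5 B) (hB' : Cfsg.IsSteinerSystem 4 5 B') : Cfsg.SetSystemIso B B' := by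
  classical
  have hA : Fintype.card (Option α) = 12 := by rw [Fintype.card_option, hα]
  have hA' : Fintype.card (Option β) = 12 := by rw [Fintype.card_option, hβ]
  have sA := Cfsg.Agent.Steiner.Eleven.ext_steiner hα hB
  have sB := Cfsg.Agent.Steiner.Eleven.ext_steiner hβ hB'
  obtain ⟨ψ, hψ⟩ := Cfsg.Agent.Steiner.Twelve.iso hA hA' sA sB
  obtain ⟨-, hpre, -⟩ := Cfsg.Agent.S0425.result hA' sB
  haveI := hpre
  haveI : MulAction.IsPretransitive (Cfsg.setSystemAut (Cfsg.Agent.Steiner.Eleven.extSys B')) (Option β) :=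
    MulAction.isPretransitive_of_is_two_pretransitive
      (h2 := MulAction.isMultiplyPretransitive_of_le (n := 5) (by norm_num) (by rw [Nat.card_eq_fintype_card, hA']; norm_num))
  obtain ⟨g, hg⟩ := MulAction.exists_smul_eq (Cfsg.setSystemAut (Cfsg.Agent.Steiner.Eleven.extSys B')) (ψ none) (none : Option β)
  let χ : Option α ≃ Option β := ψ.trans g.1
  have hχn : χ none = none := hg
  have hpres : ∀ t : Finset (Option α), t ∈ Cfsg.Agent.Steiner.Eleven.extSys B ↔
      t.image χ ∈ Cfsg.Agent.Steiner.Eleven.extSys B' := by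
    intro t
    have hgs : g.1 • Cfsg.Agent.Steiner.Eleven.extSys B' = Cfsg.Agent.Steiner.Eleven.extSys B' := g.2
    have e1 : t.image χ = g.1 • t.image ψ := by
      rw [Finset.smul_finset_def, Finset.image_image]; rfl
    have e2 : ∀ x : Finset (Option β), g.1 • x ∈ Cfsg.Agent.Steiner.Eleven.extSys B' ↔ x ∈ Cfsg.Agent.Steiner.Eleven.extSys B' := fun x => by
      have h' := Set.smul_mem_smul_set_iff (a := g.1) (s := Cfsg.Agent.Steiner.Eleven.extSys B') (x := x)
      rwa [hgs] at h'
    rw [e1, e2, ← hψ]
    refine ⟨fun h => ⟨t, h, rfl⟩, ?_⟩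
    rintro ⟨u, hu, he⟩
    rwa [Finset.image_injective ψ.injective he] at hu
  refine ⟨Equiv.removeNone χ, Set.ext fun c => ?_⟩
  have himg : ∀ b : Finset α, b.insertNone.image χ = (b.image (Equiv.removeNone χ)).insertNone := by
    intro b
    ext o
    cases o with
    | none => exact ⟨fun _ => Finset.none_mem_insertNone, fun _ => Finset.mem_image.mpr ⟨none, Finset.none_mem_insertNone, hχn⟩⟩
    | some y =>
      simp only [Finset.mem_image, Finset.some_mem_insertNone]
      constructor
      · rintro ⟨o, ho, he⟩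
        cases o with
        | none => rw [hχn] at he; simp at he
        | some a =>
          refine ⟨a, by simpa using ho, Option.some_injective _ ?_⟩
          rw [Equiv.removeNone_some _ ⟨y, he⟩, he]
      · rintro ⟨a, ha, rfl⟩
        refine ⟨some a, by simpa using ha, ?_⟩
        have : χ (some a) ≠ none := fun h => by
          have := χ.injective (h.trans hχn.symm); simp at this
        obtain ⟨y, hy⟩ := Option.ne_none_iff_exists'.mp this
        rw [Equiv.removeNone_some _ ⟨y, hy⟩]
  constructor
  · rintro ⟨b, hb, rfl⟩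
    rw [← Cfsg.Agent.Steiner.Eleven.insertNone_mem, ← himg, ← hpres, Cfsg.Agent.Steiner.Eleven.insertNone_mem]
    exact hb
  · intro hc
    have hcc : (c.image (Equiv.removeNone χ).symm).image (Equiv.removeNone χ) = c := by
      rw [Finset.image_image, Equiv.self_comp_symm, Finset.image_id]
    refine ⟨c.image (Equiv.removeNone χ).symm, ?_, hcc⟩
    rwa [← Cfsg.Agent.Steiner.Eleven.insertNone_mem (B := B), hpres, himg, hcc, Cfsg.Agent.Steiner.Eleven.insertNone_mem]

end Cfsg.Agent.S0411
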