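import Cfsg.Statements.S0710
import Mathlib
import Cfsg.Agent.Lib.Perm.PrimeDegree

set_option autoImplicit false
open Cfsg

namespace Cfsg.Agent.S0710

---pre
open MulAction

/-- No transitive permutation group on 13 points has order `13 * 12 * 11 * 10 * 9 * 8`. -/
theorem result {α : Type*} [Fintype α] [DecidableEq α] (hα : Fintype.card α = 13) (G : Subgroup (Equiv.Perm α)) [MulAction.IsPretransitive G α] : Nat.card G ≠ 13 * 12 * 11 * 10 * 9 * 8 := by
  classical
  intro hG
  have : Fact (Nat.Prime 13) := ⟨by norm_num⟩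
  obtain ⟨e, g, hg⟩ := Cfsg.Agent.Perm.exists_coord (p := 13) hα G
  obtain ⟨P⟩ := (inferInstance : Nonempty (Sylow 13 G))
  have hcard : Nat.card G = 13 ^ 1 * 95040 := by rw [hG]; norm_num
  have hfac : (Nat.card G).factorization 13 = 1 := by
    apply le_antisymm
    · by_contra h
      have h1 := (pow_dvd_pow 13 (by omega : 2 ≤ (Nat.card G).factorization 13)).trans (Nat.ordProj_dvd _ _)
      rw [hG] at h1
      norm_num at h1
    · exact (Fact.out : Nat.Prime 13).factorization_pos_of_dvd Nat.card_pos.ne' (hcard ▸ by norm_num)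
  have hPc : Nat.card P = 13 := by rw [P.card_eq_multiplicity, hfac, pow_one]
  set N := Subgroup.normalizer ((P : Subgroup G) : Set G) with hN
  let φ := (P : Subgroup G).normalizerMonoidHom
  -- the kernel is semiregular
  have hPtr : ∀ a b : α, ∃ x ∈ (P : Subgroup G), x • a = b := by
    have hz : Nat.card (Subgroup.zpowers g) = 13 := by
      rw [Nat.card_zpowers]
      have hpow : ∀ (k : ℕ) j, (g ^ k : G) • e j = e (j + k) := by
        intro k
        induction k with
        | zero => intro j; simp
        | succ k ih =>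
          intro j; rw [pow_succ', mul_smul, ih]
          show (g : Equiv.Perm α) _ = _
          rw [hg]; push_cast; ring_nf
      refine orderOf_eq_prime (Subtype.ext (Equiv.ext fun a => ?_)) fun h => ?_
      · obtain ⟨j, rfl⟩ := e.surjective a
        show (g ^ 13 : G) • e j = e j
        rw [hpow, ZMod.natCast_self, add_zero]
      · have := hg 0
        rw [h] at this
        exact absurd (e.injective this) (by simp)
    let Q : Sylow 13 G := Sylow.ofCard (Subgroup.zpowers g) (by rw [hz, hfac, pow_one])
    obtain ⟨h, hh⟩ := MulAction.exists_smul_eq G Q P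
    intro a b
    have hpow : ∀ (k : ℕ) j, (g ^ k : G) • e j = e (j + k) := by
      intro k
      induction k with
      | zero => intro j; simp
      | succ k ih =>
        intro j; rw [pow_succ', mul_smul, ih]
        show (g : Equiv.Perm α) _ = _
        rw [hg]; push_cast; ring_nf
    set i := e.symm (h⁻¹ • a) with hi
    set j := e.symm (h⁻¹ • b) with hj
    refine ⟨h * g ^ (j - i).val * h⁻¹, hh ▸ ⟨_, Subgroup.pow_mem _ (Subgroup.mem_zpowers g) _, rfl⟩, ?_⟩
    rw [mul_smul, mul_smul, ← e.apply_symm_apply (h⁻¹ • a), ← hi, hpow, ZMod.natCast_zmod_val, add_sub_cancel, hj,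
      e.apply_symm_apply, smul_inv_smul]
  have hker : Nat.card φ.ker ≤ 13 := by
    obtain ⟨a⟩ : Nonempty α := ⟨e 0⟩
    have hinj : Function.Injective fun x : φ.ker => ((x : N) : G) • a := by
      intro x y hxy
      refine Subtype.ext (Subtype.ext (Subtype.ext (Equiv.ext fun b => ?_)))
      obtain ⟨z, hz, rfl⟩ := hPtr a b
      have hc : ∀ w : φ.ker, ((w : N) : G) * z = z * ((w : N) : G) := by
        rintro ⟨n, h1⟩
        rw [Subgroup.normalizerMonoidHom_ker, Subgroup.mem_subgroupOf] at h1
        exact (Subgroup.mem_centralizer_iff.1 h1 z hz).symm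
      show ((x : N) : G) • z • a = ((y : N) : G) • z • a
      rw [← mul_smul, ← mul_smul, hc, hc, mul_smul, mul_smul]
      exact congrArg _ hxy
    have := Nat.card_le_card_of_injective _ hinj
    rwa [Nat.card_eq_fintype_card (α := α), hα] at this
  have hPN : (P : Subgroup G) ≤ N := Subgroup.le_normalizer
  have hcN : Nat.card N ∣ 13 * 12 := by
    have hcyc : IsCyclic P := isCyclic_of_prime_card hPc
    have haut : Nat.card (MulAut P) = 12 := by rw [IsCyclic.card_mulAut, hPc]; rfl
    have h1 : φ.ker.index ∣ 12 := by rw [Subgroup.index_ker, ← haut]; exact Subgroup.card_subgroup_dvd_card _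
    have hPker : (P : Subgroup G).subgroupOf N ≤ φ.ker := by
      intro x hx
      rw [Subgroup.normalizerMonoidHom_ker, Subgroup.mem_subgroupOf, Subgroup.mem_centralizer_iff]
      intro y hy
      exact congrArg Subtype.val ((IsCyclic.isMulCommutative (α := P)).is_comm.comm ⟨y, hy⟩ ⟨_, hx⟩)
    have h13 : Nat.card ((P : Subgroup G).subgroupOf N) = 13 := by
      rw [Nat.card_congr (Subgroup.subgroupOfEquivOfLe hPN).toEquiv, hPc]
    have h2 : Nat.card φ.ker = 13 := le_antisymm hker (h13.ge.trans (Subgroup.card_le_of_le hPker))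
    rw [← Subgroup.card_mul_index φ.ker, h2]
    exact mul_dvd_mul_left 13 h1
  have h13N : 13 ∣ Nat.card N := hPc ▸ Subgroup.card_dvd_of_le hPN
  obtain ⟨d, hd⟩ := h13N
  have hd12 : d ∣ 12 := by rw [hd] at hcN; exact Nat.dvd_of_mul_dvd_mul_left (by norm_num) hcN
  have hn : Nat.card (Sylow 13 G) * d = 95040 := by
    have h1 := Subgroup.index_mul_card N
    rw [show N.index = Nat.card (Sylow 13 G) from P.card_eq_index_normalizer.symm, hd, hcard] at h1
    have : Nat.card (Sylow 13 G) * d * 13 = 95040 * 13 := by linarith [h1]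
    exact Nat.eq_of_mul_eq_mul_right (by norm_num) this
  have hmod := card_sylow_modEq_one 13 G
  have hdle : d ≤ 12 := Nat.le_of_dvd (by norm_num) hd12
  rw [Nat.ModEq] at hmod
  interval_cases d <;> omega

end Cfsg.Agent.S0710
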