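import Cfsg.Statements.S0417
import Cfsg.Agent.Lib.Perm.SharplyMultiple
import Cfsg.Agent.S0710

set_option autoImplicit false
open Cfsg

namespace Cfsg.Agent.S0417

open Cfsg.Agent.SharpMult MulAction

universe u

theorem six_ne_thirteen {G : Type*} [Group G] {Ω : Type u} [MulAction G Ω] [Finite Ω] (h : Sharp G Ω 6) :
    Nat.card Ω ≠ 13 := by
  classical
  intro h13
  haveI := Fintype.ofFinite Ω
  have h13' : Fintype.card Ω = 13 := by rwa [← Nat.card_eq_fintype_card]
  obtain ⟨e⟩ : Nonempty (Fin 6 ↪ Ω) := Function.Embedding.nonempty_of_card_le (by simp [h13'])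
  have hφ : Function.Injective (toPermHom G Ω) := (injective_iff_map_eq_one _).2 fun g hg =>
    h.faithful ⟨e⟩ fun x => Equiv.ext_iff.1 hg x
  have hG : Nat.card G = 13 * 12 * 11 * 10 * 9 * 8 := by
    have hb : Function.Bijective fun g : G => g • e := by
      constructor
      · intro g g' hgg
        have : g'⁻¹ * g ∈ stabilizer G e := by
          rw [mem_stabilizer_iff, mul_smul]
          exact inv_smul_eq_iff.2 hgg
        rw [h.uniq] at this
        exact (inv_mul_eq_one.1 (Subgroup.mem_bot.1 this)).symm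
      · exact h.trans.exists_smul_eq e
    rw [Nat.card_eq_of_bijective _ hb, Nat.card_eq_fintype_card, Fintype.card_embedding_eq, h13', Fintype.card_fin]
    rfl
  haveI : IsPretransitive (toPermHom G Ω).range Ω := by
    haveI := h.trans
    haveI : IsMultiplyPretransitive G Ω 1 := isMultiplyPretransitive_of_le' (n := 6) (by norm_num)
      (by rw [← Nat.cast_ofNat, ENat.card_eq_coe_natCard, h13]; exact_mod_cast (by norm_num : (6 : ℕ) ≤ 13))
    haveI : IsPretransitive G Ω := is_one_pretransitive_iff.1 inferInstance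
    exact ⟨fun x y => by
      obtain ⟨g, hg⟩ := exists_smul_eq G x y
      exact ⟨⟨_, g, rfl⟩, hg⟩⟩
  apply Cfsg.Agent.S0710.result h13' (toPermHom G Ω).range
  rw [← hG]
  exact (Nat.card_congr (MonoidHom.ofInjective hφ).toEquiv).symm

theorem degree_large : ∀ j : ℕ, ∀ (G : Type u) [Group G] (Ω : Type u) [MulAction G Ω] [Finite Ω],
    Sharp G Ω (6 + j) → 6 + j ≤ Nat.card Ω →
    Nat.card Ω = 6 + j ∨ Nat.card Ω = 6 + j + 1 ∨ Nat.card Ω = 6 + j + 2 := by
  intro j
  induction j with
  | zero =>
    intro G _ Ω _ _ h hn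
    obtain ⟨a⟩ := (Nat.card_pos_iff.1 (show 0 < Nat.card Ω by omega)).1
    have hc := card_ofStabilizer (G := G) a
    have := degree_five (h.stab a) (by omega)
    have := six_ne_thirteen h
    omega
  | succ j ih =>
    intro G _ Ω _ _ h hn
    obtain ⟨a⟩ := (Nat.card_pos_iff.1 (show 0 < Nat.card Ω by omega)).1
    have hc := card_ofStabilizer (G := G) a
    have := ih (stabilizer G a) (SubMulAction.ofStabilizer G a) (h.stab a) (by omega)
    omega


/-- For k ≥ 6, sharply k-transitive groups have degree k, k+1 or k+2. -/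
theorem result {α : Type*} [Fintype α] [DecidableEq α] (G : Subgroup (Equiv.Perm α)) (k : ℕ) (hk : 6 ≤ k) (hn : k ≤ Fintype.card α) [MulAction.IsMultiplyPretransitive G α k] (hsharp : ∀ x : Fin k ↪ α, MulAction.stabilizer G x = ⊥) : Fintype.card α = k ∨ Fintype.card α = k + 1 ∨ Fintype.card α = k + 2 := by
  obtain ⟨j, rfl⟩ : ∃ j, k = 6 + j := ⟨k - 6, by omega⟩
  have := degree_large j G α ⟨‹_›, hsharp⟩ (by rwa [Nat.card_eq_fintype_card])
  rwa [Nat.card_eq_fintype_card] at this

end Cfsg.Agent.S0417
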