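import Cfsg.Statements.S0426
import Cfsg.Agent.Lib.Steiner.Eleven
import Cfsg.Agent.S0425

set_option autoImplicit false
open Cfsg

namespace Cfsg.Agent.S0426

open scoped Pointwise
open Cfsg.Agent.Steiner Cfsg.Agent.Steiner.Eleven Cfsg.Agent.S0425

variable {α : Type*} [Fintype α] [DecidableEq α]

omit [Fintype α] [DecidableEq α] in
theorem symm_none (g : Equiv.Perm α) : (Equiv.optionCongr g).symm none = none := by
  rw [Equiv.symm_apply_eq]; rfl

omit [Fintype α] [DecidableEq α] in
theorem symm_some (g : Equiv.Perm α) (a : α) : (Equiv.optionCongr g).symm (some a) = some (g.symm a) := by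
  rw [Equiv.symm_apply_eq]; simp

theorem smul_insertNone (g : Equiv.Perm α) (c : Finset α) :
    (Equiv.optionCongr g : Equiv.Perm (Option α)) • c.insertNone = (g • c).insertNone := by
  ext o
  rw [← Finset.inv_smul_mem_iff]
  cases o with
  | none => simp [Equiv.Perm.smul_def, Equiv.Perm.coe_inv, symm_none, symm_some]
  | some a =>
    rw [Finset.some_mem_insertNone, ← Finset.inv_smul_mem_iff]
    simp [Equiv.Perm.smul_def, Equiv.Perm.coe_inv, symm_none, symm_some]

theorem smul_someMap (g : Equiv.Perm α) (c : Finset α) :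
    (Equiv.optionCongr g : Equiv.Perm (Option α)) • c.map Function.Embedding.some = (g • c).map Function.Embedding.some := by
  ext o
  rw [← Finset.inv_smul_mem_iff]
  cases o with
  | none => simp [Equiv.Perm.smul_def, Equiv.Perm.coe_inv, symm_none, symm_some]
  | some a =>
    have h : ∀ (d : Finset α) (b : α), some b ∈ d.map Function.Embedding.some ↔ b ∈ d := fun d b => by simp
    rw [h, ← Finset.inv_smul_mem_iff]
    simp [Equiv.Perm.smul_def, Equiv.Perm.coe_inv, symm_none, symm_some]

theorem mem_iff_fix (hα : Fintype.card α = 11) {B : Set (Finset α)} (hB : Cfsg.IsSteinerSystem 4 5 B) (g : Equiv.Perm α) :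
    g ∈ Cfsg.setSystemAut B ↔ (Equiv.optionCongr g : Equiv.Perm (Option α)) ∈ Cfsg.setSystemAut (extSys B) := by
  rw [mem_aut_iff, mem_aut_iff]
  constructor
  · rintro h t ⟨c, hc, rfl | rfl⟩
    · rw [smul_insertNone]; exact ⟨_, h c hc, Or.inl rfl⟩
    · rw [smul_someMap]
      refine ⟨_, h c hc, Or.inr ?_⟩
      congr 1
      ext a
      rw [← Finset.inv_smul_mem_iff, Finset.mem_compl, Finset.mem_compl, ← Finset.inv_smul_mem_iff]
  · intro h c hc
    have h' := h _ ((insertNone_mem c).mpr hc)
    rw [smul_insertNone, insertNone_mem] at h'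
    exact h'

/-- Aut of an S(4, 5, 11) is simple of order 7920 and sharply 4-transitive on points. -/
theorem result {α : Type*} [Fintype α] [DecidableEq α] (hα : Fintype.card α = 11) {B : Set (Finset α)} (hB : Cfsg.IsSteinerSystem 4 5 B) : Cfsg.IsM11 (Cfsg.setSystemAut B) ∧ MulAction.IsMultiplyPretransitive (Cfsg.setSystemAut B) α 4 ∧ ∀ x : Fin 4 ↪ α, MulAction.stabilizer (Cfsg.setSystemAut B) x = ⊥ := by
  classical
  have hA : Fintype.card (Option α) = 12 := by rw [Fintype.card_option, hα]
  have sA := ext_steiner hα hB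
  obtain ⟨⟨-, hcardA⟩, hpre, hrig⟩ := Cfsg.Agent.S0425.result hA sA
  have := hpre
  let A := Cfsg.setSystemAut (extSys B)
  have hone : MulAction.IsPretransitive A (Option α) :=
    MulAction.isPretransitive_of_is_two_pretransitive
      (h2 := MulAction.isMultiplyPretransitive_of_le (n := 5) (by norm_num) (by rw [Nat.card_eq_fintype_card, hA]; norm_num))
  let G0 := MulAction.stabilizer A (none : Option α)
  have hcard0 : Nat.card G0 = 7920 := by
    have h1 := MulAction.index_stabilizer_of_transitive A (none : Option α)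
    have h2 := Subgroup.card_mul_index G0
    rw [h1, Nat.card_eq_fintype_card (α := Option α), hA] at h2
    have h3 : Nat.card A = 95040 := hcardA
    rw [h3] at h2
    omega
  -- lifting
  let Φ : Cfsg.setSystemAut B →* G0 :=
    { toFun := fun g => ⟨⟨Equiv.optionCongr g.1, (mem_iff_fix hα hB g.1).mp g.2⟩, rfl⟩
      map_one' := Subtype.ext (Subtype.ext (Equiv.ext fun o => by cases o <;> rfl))
      map_mul' := fun a b => Subtype.ext (Subtype.ext (Equiv.ext fun o => by cases o <;> rfl)) }
  have hΦ : Function.Bijective Φ := by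
    refine ⟨fun a b h => ?_, fun a => ?_⟩
    · refine Subtype.ext (Equiv.ext fun x => ?_)
      have := congrArg (fun t : G0 => t.1.1 (some x)) h
      exact Option.some_injective _ this
    · have hfix : a.1.1 none = none := a.2
      have hc : Equiv.optionCongr (Equiv.removeNone a.1.1) = a.1.1 := by
        refine Equiv.ext fun o => ?_
        cases o with
        | none => simpa using hfix.symm
        | some x =>
          have hne : a.1.1 (some x) ≠ none := fun h => by
            have := a.1.1.injective (h.trans hfix.symm); simp at this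
          obtain ⟨y, hy⟩ := Option.ne_none_iff_exists'.mp hne
          simp only [Equiv.optionCongr_apply, Option.map_some]
          exact Equiv.removeNone_some _ ⟨y, hy⟩
      refine ⟨⟨Equiv.removeNone a.1.1, (mem_iff_fix hα hB _).mpr (by rw [hc]; exact a.1.2)⟩, ?_⟩
      exact Subtype.ext (Subtype.ext hc)
  have hcard : Nat.card (Cfsg.setSystemAut B) = 7920 := (Nat.card_eq_of_bijective Φ hΦ).trans hcard0
  -- simplicity
  let p0 : D12 := ⟨Cfsg.Agent.Golay.pt (Cfsg.Agent.Golay.bat Cfsg.Agent.Golay.baseL 0), Cfsg.Agent.Golay.base_mem_D0 0⟩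
  have hD : Fintype.card D12 = 12 := by
    rw [Fintype.card_coe]; exact Cfsg.Agent.Golay.D0_dodecad.2
  obtain ⟨ψ, hψ⟩ := Cfsg.Agent.Steiner.Twelve.iso hD hA (Cfsg.Agent.Golay.dodecad_hexads Cfsg.Agent.Golay.D0_dodecad) sA
  obtain ⟨g0, hg0⟩ := MulAction.exists_smul_eq A (ψ p0) (none : Option α)
  let φ : D12 ≃ Option α := ψ.trans g0.1
  have hφ0 : φ p0 = none := hg0
  let K := Cfsg.Agent.Golay.fixN Cfsg.Agent.Golay.stabD Cfsg.Agent.Golay.baseL 1
  have hKle : K ≤ Cfsg.Agent.Golay.stabD := fun x hx => hx.1
  let T : K →* Equiv.Perm (Option α) := φ.permCongrHom.toMonoidHom.comp (res.comp (Subgroup.inclusion hKle))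
  have hφB : ∀ t ∈ sysD, t.image φ ∈ extSys B := by
    intro t ht
    have h1 : t.image ψ ∈ extSys B := hψ ▸ ⟨t, ht, rfl⟩
    have h2 := (mem_aut_iff g0.1).mp g0.2 _ h1
    rw [Finset.smul_finset_def, Finset.image_image] at h2
    exact h2
  have hTm : ∀ g, T g ∈ A := by
    intro g
    refine (mem_aut_iff _).mpr fun s hs => ?_
    have h2 := (mem_aut_iff (g0.1)⁻¹).mp (inv_mem g0.2) s hs
    rw [← hψ] at h2
    obtain ⟨t, ht, hte⟩ := h2
    have hs' : s = t.image φ := by
      have h3 := congrArg (fun z : Finset (Option α) => g0.1 • z) hte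
      simp only [smul_inv_smul] at h3
      rw [← h3, Finset.smul_finset_def, Finset.image_image]; rfl
    have h4 := hφB _ (res_pres (Subgroup.inclusion hKle g) ht)
    convert h4 using 1
    rw [hs', Finset.smul_finset_def, Finset.smul_finset_def, Finset.image_image, Finset.image_image]
    congr 1
    funext x
    simp [T, Equiv.permCongrHom, Equiv.permCongr_apply]
  have hT0 : ∀ g, T g none = none := by
    intro g
    have h1 : res (Subgroup.inclusion hKle g) p0 = p0 := Subtype.ext (g.2.2 0 Nat.one_pos)
    have h2 : T g (φ p0) = φ (res (Subgroup.inclusion hKle g) p0) := by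
      simp [T, Equiv.permCongrHom, Equiv.permCongr_apply]
    rw [h1, hφ0] at h2
    exact h2
  let T0 : K →* G0 :=
    { toFun := fun g => ⟨⟨T g, hTm g⟩, hT0 g⟩
      map_one' := Subtype.ext (Subtype.ext (map_one T))
      map_mul' := fun a b => Subtype.ext (Subtype.ext (map_mul T a b)) }
  have hT0b : Function.Bijective T0 := by
    refine Function.Injective.bijective_of_nat_card_le ((injective_iff_map_eq_one T0).mpr fun g hg => ?_) ?_
    · have h1 : T g = 1 := congrArg (fun t : G0 => t.1.1) hg
      refine Subtype.ext (Cfsg.Agent.Golay.stabD_faithful g.2.1 fun p hp => ?_)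
      have h2 := congrArg (fun t : Equiv.Perm (Option α) => t (φ ⟨p, hp⟩)) h1
      simp [T, Equiv.permCongrHom, Equiv.permCongr_apply] at h2
      exact congrArg Subtype.val h2
    · rw [hcard0, show Nat.card K = 7920 from Cfsg.Agent.Golay.card_stabD.2]
  have hsimp : IsSimpleGroup (Cfsg.setSystemAut B) := by
    have := Cfsg.Agent.Golay.stabD1_simple
    have e : Cfsg.setSystemAut B ≃* K := (MulEquiv.ofBijective Φ hΦ).trans (MulEquiv.ofBijective T0 hT0b).symm
    exact e.isSimpleGroup
  -- sharp transitivity
  let lift : (Fin 4 ↪ α) → (Fin 5 ↪ Option α) := fun x =>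
    ⟨Fin.cons none (fun i => some (x i)), Fin.cons_injective_iff.mpr ⟨by simp, (Option.some_injective α).comp x.injective⟩⟩
  refine ⟨⟨hsimp, hcard⟩, ⟨fun x y => ?_⟩, fun x => ?_⟩
  · obtain ⟨a, ha⟩ := MulAction.exists_smul_eq A (lift x) (lift y)
    have hlast : a.1 none = none := by
      have := congrFun (congrArg DFunLike.coe ha) 0
      simp [lift] at this
      exact this
    obtain ⟨g, hg⟩ := hΦ.2 ⟨a, hlast⟩
    refine ⟨g, DFunLike.ext _ _ fun i => Option.some_injective _ ?_⟩
    have h1 := congrFun (congrArg DFunLike.coe ha) i.succ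
    simp [lift] at h1
    have h2 : a.1 (some (x i)) = some (g.1 (x i)) := by
      rw [show a = (Φ g).1 from by rw [hg]]; rfl
    exact h2.symm.trans h1
  · rw [Subgroup.eq_bot_iff_forall]
    intro g hg
    have h := hrig (lift x)
    rw [Subgroup.eq_bot_iff_forall] at h
    have h1 : (Φ g).1 = 1 := h _ (MulAction.mem_stabilizer_iff.mpr (DFunLike.ext _ _ fun i => by
      cases i using Fin.cases with
      | zero => simp [lift, Φ]
      | succ i =>
        have := congrFun (congrArg DFunLike.coe (MulAction.mem_stabilizer_iff.mp hg)) i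
        show (Φ g).1.1 (lift x i.succ) = _
        simp [lift, Φ]
        exact this))
    exact hΦ.1 (Subtype.ext (h1.trans (by rw [map_one]; rfl)))

end Cfsg.Agent.S0426
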