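import Cfsg.Statements.S0436
import Cfsg.Agent.Lib.Inv.Dihedral
-- import your own Cfsg.Agent.* helpers here

set_option autoImplicit false
open Cfsg

namespace Cfsg.Agent.S0436

/-- For distinct commuting members a, b of a set of 3-transpositions E, a member e of E centralises the product a * b if and only if it centralises both a and b. -/
theorem result {G : Type*} [Group G] {E : Set G} (hE : Cfsg.IsThreeTranspositionSet E) {a b e : G} (ha : a ∈ E) (hb : b ∈ E) (he : e ∈ E) (hab : a ≠ b) (hcomm : Commute a b) : Commute e (a * b) ↔ (Commute e a ∧ Commute e b) := by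
  have hsq : ∀ d ∈ E, d * d = 1 := fun d hd => Cfsg.Agent.Inv.mul_self_of_orderOf_two (hE.1 d hd)
  have hinv : ∀ d ∈ E, d⁻¹ = d := fun d hd => inv_eq_of_mul_eq_one_right (hsq d hd)
  have hbraid : ∀ d ∈ E, ∀ f ∈ E, ¬ Commute d f → d * f * d = f * d * f := by
    intro d hd f hf hn
    rcases hE.2 d hd f hf with h2 | h3
    · refine absurd ?_ hn
      have := inv_eq_of_mul_eq_one_right (by rw [← pow_two]; exact h2 : (d * f) * (d * f) = 1)
      rw [mul_inv_rev, hinv d hd, hinv f hf] at this
      exact this.symm
    · calc d * f * d = (d * f) ^ 3 * (f⁻¹ * d⁻¹ * f⁻¹) := by rw [pow_succ, pow_two]; group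
        _ = f * d * f := by rw [h3, one_mul, hinv d hd, hinv f hf]
  constructor
  · intro hc
    have key : Commute e a := by
      by_contra hna
      have hnb : ¬ Commute e b := by
        intro hb'
        have hh : Commute e (a * b * b) := hc.mul_right hb'
        rw [mul_assoc, hsq b hb, mul_one] at hh
        exact hna hh
      have h1 : (e * a * e) * (e * b * e) = a * b := by
        calc (e * a * e) * (e * b * e) = e * a * (e * e) * (b * e) := by group
          _ = e * (a * b) * e := by rw [hsq e he]; group
          _ = a * b := by rw [hc.eq, mul_assoc, hsq e he, mul_one]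
      rw [hbraid e he a ha hna, hbraid e he b hb hnb] at h1
      have h2 : (a * e * a) * (b * e * b) = 1 := by
        calc (a * e * a) * (b * e * b) = a * (e * (a * b)) * (e * b) := by group
          _ = a * ((a * b) * e) * (e * b) := by rw [hc.eq]
          _ = (a * a) * b * (e * e) * b := by group
          _ = 1 := by rw [hsq a ha, hsq e he, one_mul, mul_one, hsq b hb]
      rw [h2] at h1
      have := inv_eq_of_mul_eq_one_right h1.symm
      exact hab (by rw [hinv a ha] at this; exact this)
    refine ⟨key, ?_⟩
    have hh : Commute e (a * (a * b)) := key.mul_right hc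
    rw [← mul_assoc, hsq a ha, one_mul] at hh
    exact hh
  · rintro ⟨h1, h2⟩
    exact h1.mul_right h2

end Cfsg.Agent.S0436
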