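import Cfsg.Statements.S0437
import Cfsg.Agent.Lib.Inv.Dihedral
import Cfsg.Agent.S0436
-- import your own Cfsg.Agent.* helpers here

set_option autoImplicit false
open Cfsg

namespace Cfsg.Agent.S0437

/-- For three distinct, pairwise commuting members a, b, c of a set of 3-transpositions E, a member e of E centralises a * b * c if and only if it centralises each of a, b and c. -/
theorem result {G : Type*} [Group G] {E : Set G} (hE : Cfsg.IsThreeTranspositionSet E) {a b c e : G} (ha : a ∈ E) (hb : b ∈ E) (hc : c ∈ E) (he : e ∈ E) (hab : a ≠ b) (hac : a ≠ c) (hbc : b ≠ c) (h₁ : Commute a b) (h₂ : Commute a c) (h₃ : Commute b c) : Commute e (a * b * c) ↔ (Commute e a ∧ Commute e b ∧ Commute e c) := by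
  have hsq : ∀ d ∈ E, d * d = 1 := fun d hd => Cfsg.Agent.Inv.mul_self_of_orderOf_two (hE.1 d hd)
  have hinv : ∀ d ∈ E, d⁻¹ = d := fun d hd => inv_eq_of_mul_eq_one_right (hsq d hd)
  have hbraid : ∀ d ∈ E, ∀ f ∈ E, ¬ Commute d f → d * f * d = f * d * f := by
    intro d hd f hf hn
    rcases hE.2 d hd f hf with h2 | h3
    · refine absurd ?_ hn
      have := inv_eq_of_mul_eq_one_right (by rw [← pow_two]; exact h2 : (d * f) * (d * f) = 1)
      rw [mul_inv_rev, hinv d hd, hinv f hf] at this
      exact this.symm
    · calc d * f * d = (d * f) ^ 3 * (f⁻¹ * d⁻¹ * f⁻¹) := by rw [pow_succ, pow_two]; group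
        _ = f * d * f := by rw [h3, one_mul, hinv d hd, hinv f hf]
  constructor
  · intro hx
    -- the general form of the two-element criterion
    have two : ∀ u ∈ E, ∀ v ∈ E, u ≠ v → Commute u v → Commute e (u * v) → Commute e u ∧ Commute e v :=
      fun u hu v hv huv hcomm hc => (Cfsg.Agent.S0436.result hE hu hv he huv hcomm).1 hc
    by_cases hcc : Commute e c
    · have hh : Commute e (a * b * c * c) := hx.mul_right hcc
      rw [mul_assoc (a * b), hsq c hc, mul_one] at hh
      obtain ⟨ea, eb⟩ := two a ha b hb hab h₁ hh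
      exact ⟨ea, eb, hcc⟩
    by_cases hbb : Commute e b
    · have hh : Commute e (a * b * c * b) := hx.mul_right hbb
      rw [mul_assoc (a * b), h₃.symm.eq, ← mul_assoc, mul_assoc a, hsq b hb, mul_one] at hh
      exact absurd (two a ha c hc hac h₂ hh).2 hcc
    by_cases haa : Commute e a
    · have hh : Commute e (a * (a * b * c)) := haa.mul_right hx
      rw [← mul_assoc, ← mul_assoc, hsq a ha, one_mul] at hh
      exact absurd (two b hb c hc hbc h₃ hh).1 hbb
    exfalso
    apply haa
    have hae : a * e * a = e * a * e := (hbraid e he a ha haa).symm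
    have hce : c * e * c = e * c * e := (hbraid e he c hc hcc).symm
    have hbe : e * b * e = b * e * b := hbraid e he b hb hbb
    have h0 : (c * b) * (a * e * a) * (b * c) = e := by
      have hr : c * b * a = (a * b * c)⁻¹ := by rw [mul_inv_rev, mul_inv_rev, hinv a ha, hinv b hb, hinv c hc, mul_assoc]
      calc (c * b) * (a * e * a) * (b * c) = (c * b * a) * (e * (a * b * c)) := by group
        _ = (a * b * c)⁻¹ * ((a * b * c) * e) := by rw [hr, hx.eq]
        _ = e := inv_mul_cancel_left _ _
    rw [hae] at h0
    have hbc' : b * c = c * b := h₃.eq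
    have h1 : e * a * e = b * (e * c * e) * b := by
      calc e * a * e = (c * b)⁻¹ * ((c * b) * (e * a * e) * (b * c)) * (b * c)⁻¹ := by group
        _ = (b⁻¹ * c⁻¹) * e * (c⁻¹ * b⁻¹) := by rw [h0]; group
        _ = b * (c * e * c) * b := by rw [hinv b hb, hinv c hc]; group
        _ = b * (e * c * e) * b := by rw [hce]
    have h2 : a = e * a * e := by
      calc a = (e * e) * a * (e * e) := by rw [hsq e he, one_mul, mul_one]
        _ = e * (e * a * e) * e := by group
        _ = e * (b * (e * c * e) * b) * e := by rw [h1]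
        _ = (e * b * e) * c * (e * b * e) := by group
        _ = (b * e * b) * c * (b * e * b) := by rw [hbe]
        _ = b * e * (b * c) * b * e * b := by group
        _ = b * e * c * (b * b) * e * b := by rw [hbc']; group
        _ = b * (e * c * e) * b := by rw [hsq b hb, mul_one]; group
        _ = e * a * e := h1.symm
    show e * a = a * e
    calc e * a = e * a * (e * e) := by rw [hsq e he, mul_one]
      _ = (e * a * e) * e := by group
      _ = a * e := by rw [← h2]
  · rintro ⟨h1, h2, h3⟩
    exact (h1.mul_right h2).mul_right h3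

end Cfsg.Agent.S0437
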