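import Cfsg.Statements.S0438
import Cfsg.Agent.Lib.Inv.Dihedral
-- import your own Cfsg.Agent.* helpers here

set_option autoImplicit false
open Cfsg

namespace Cfsg.Agent.S0438

/-- Let E be a set of 3-transpositions closed under conjugation, and x an involutory automorphism of the group mapping E to itself. If some a in E fails to commute with its image x a, then x fixes an element of E. -/
theorem result {G : Type*} [Group G] {E : Set G} (hE : Cfsg.IsThreeTranspositionSet E) (hconj : ∀ g : G, ∀ d ∈ E, g * d * g⁻¹ ∈ E) (x : G ≃* G) (hx : ∀ g : G, x (x g) = g) (hxE : ∀ d ∈ E, x d ∈ E) {a : G} (ha : a ∈ E) (h : ¬ Commute a (x a)) : ∃ d ∈ E, x d = d := by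
  have hsq : ∀ d ∈ E, d * d = 1 := fun d hd => Cfsg.Agent.Inv.mul_self_of_orderOf_two (hE.1 d hd)
  have hinv : ∀ d ∈ E, d⁻¹ = d := fun d hd => inv_eq_of_mul_eq_one_right (hsq d hd)
  have hbraid : ∀ d ∈ E, ∀ f ∈ E, ¬ Commute d f → d * f * d = f * d * f := by
    intro d hd f hf hn
    rcases hE.2 d hd f hf with h2 | h3
    · refine absurd ?_ hn
      have := inv_eq_of_mul_eq_one_right (by rw [← pow_two]; exact h2 : (d * f) * (d * f) = 1)
      rw [mul_inv_rev, hinv d hd, hinv f hf] at this
      exact this.symm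
    · calc d * f * d = (d * f) ^ 3 * (f⁻¹ * d⁻¹ * f⁻¹) := by rw [pow_succ, pow_two]; group
        _ = f * d * f := by rw [h3, one_mul, hinv d hd, hinv f hf]
  refine ⟨a * x a * a, ?_, ?_⟩
  · have := hconj a (x a) (hxE a ha)
    rwa [hinv a ha] at this
  · rw [map_mul, map_mul, hx]
    exact (hbraid a ha (x a) (hxE a ha) h).symm

end Cfsg.Agent.S0438
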