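import Cfsg.Statements.S0439
-- import your own Cfsg.Agent.* helpers here

set_option autoImplicit false
open Cfsg

namespace Cfsg.Agent.S0439

/-- In the symmetric group of degree n ≥ 2, the set of transpositions is a conjugacy class of 3-transpositions which generates the group. -/
theorem result (n : ℕ) (hn : 2 ≤ n) : Cfsg.IsThreeTranspositionClass {σ : Equiv.Perm (Fin n) | σ.IsSwap} := by
  classical
  refine ⟨⟨fun d hd => ?_, fun d hd e he => ?_⟩, ?_, Equiv.Perm.closure_isSwap⟩
  · obtain ⟨x, y, hxy, rfl⟩ := hd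
    exact orderOf_eq_prime (by rw [pow_two, Equiv.swap_mul_self]) (by rw [Ne, Equiv.swap_eq_one_iff]; exact hxy)
  · obtain ⟨a, b, hab, rfl⟩ := hd
    obtain ⟨c, d, hcd, rfl⟩ := he
    have three : ∀ u v w : Fin n, u ≠ v → u ≠ w → v ≠ w →
        (Equiv.swap u v * Equiv.swap u w) ^ 3 = 1 := by
      intro u v w h1 h2 h3
      have := (Equiv.Perm.isThreeCycle_swap_mul_swap_same h1 h2 h3).orderOf
      rw [← this]; exact pow_orderOf_eq_one _
    by_cases hac : a = c
    · subst hac
      by_cases hbd : b = d
      · subst hbd; left; simp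
      · exact Or.inr (three a b d hab hcd hbd)
    by_cases had : a = d
    · subst had
      by_cases hbc : b = c
      · subst hbc; left; rw [Equiv.swap_comm b a]; simp
      · rw [Equiv.swap_comm c a]; exact Or.inr (three a b c hab (Ne.symm hcd) hbc)
    by_cases hbc : b = c
    · subst hbc
      rw [Equiv.swap_comm a b]; exact Or.inr (three b a d hab.symm hcd had)
    by_cases hbd : b = d
    · subst hbd
      rw [Equiv.swap_comm a b, Equiv.swap_comm c b]; exact Or.inr (three b a c hab.symm (Ne.symm hcd) hac)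
    left
    have hd : (Equiv.swap a b).Disjoint (Equiv.swap c d) := by
      intro x
      by_cases h1 : x = a
      · subst h1; right; exact Equiv.swap_apply_of_ne_of_ne hac had
      by_cases h2 : x = b
      · subst h2; right; exact Equiv.swap_apply_of_ne_of_ne hbc hbd
      left; exact Equiv.swap_apply_of_ne_of_ne h1 h2
    rw [hd.commute.mul_pow, pow_two, pow_two, Equiv.swap_mul_self, Equiv.swap_mul_self, one_mul]
  · have h0 : (⟨0, by omega⟩ : Fin n) ≠ ⟨1, by omega⟩ := by simp [Fin.ext_iff]
    refine ⟨_, ⟨_, _, h0, rfl⟩, ?_⟩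
    ext s
    show s.IsSwap ↔ IsConj _ s
    constructor
    · rintro ⟨x, y, hxy, rfl⟩
      exact Equiv.Perm.isConj_swap h0 hxy
    · intro hs
      obtain ⟨g, rfl⟩ := isConj_iff.1 hs
      exact ⟨g ⟨0, by omega⟩, g ⟨1, by omega⟩, g.injective.ne h0, by rw [Equiv.mul_swap_eq_swap_mul, mul_inv_cancel_right]⟩

end Cfsg.Agent.S0439
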