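import Cfsg.Statements.S0440
import Cfsg.Agent.Lib.Classical.SympTransvection
import Cfsg.Agent.Lib.Classical.RankOneDet

set_option autoImplicit false
open Cfsg

namespace Cfsg.Agent.S0440

/-- In the symplectic group in dimension 2n ≥ 2 over the field with two elements, the elements g for which g - 1 has rank one (the symplectic transvections) form a conjugacy class of 3-transpositions generating the group. -/
theorem result (n : ℕ) (hn : 1 ≤ n) : Cfsg.IsThreeTranspositionClass {g : Matrix.symplecticGroup (Fin n) (ZMod 2) | ((g : Matrix (Fin n ⊕ Fin n) (Fin n ⊕ Fin n) (ZMod 2)) - 1).rank = 1} := by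
  classical
  have hA := Classical.Sp.sympB_isAlt (F := ZMod 2) n
  have hB := Classical.Sp.sympB_nondeg (F := ZMod 2) n
  let B := Classical.Sp.sympB (ZMod 2) n
  let e := Classical.Sp.spEquiv (F := ZMod 2) n
  let T := fun v => Classical.Sp.T B hA v (1 : ZMod 2)
  let D : Set (Matrix.symplecticGroup (Fin n) (ZMod 2)) :=
    {g | ((g : Matrix (Fin n ⊕ Fin n) (Fin n ⊕ Fin n) (ZMod 2)) - 1).rank = 1}
  show Cfsg.IsThreeTranspositionClass D
  have hc01 : ∀ c : ZMod 2, c = 0 ∨ c = 1 := by decide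
  have hcast : ∀ v, ((e.symm (T v)) : Matrix (Fin n ⊕ Fin n) (Fin n ⊕ Fin n) (ZMod 2)) =
      Cfsg.sympTransvection n v 1 := fun v => Classical.Sp.spEquiv_symm_T n v 1
  -- the class consists of the transvections
  have hDT : ∀ g, g ∈ D ↔ ∃ v, v ≠ 0 ∧ g = e.symm (T v) := by
    intro g
    constructor
    · intro hg
      have hr : Module.finrank (ZMod 2) (LinearMap.range
          (((e g : Classical.Sp.Grp B) : (Fin n ⊕ Fin n → ZMod 2) ≃ₗ[ZMod 2] (Fin n ⊕ Fin n → ZMod 2)).toLinearMap -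
            LinearMap.id)) = 1 := by
        have hL : (((e g : Classical.Sp.Grp B) : (Fin n ⊕ Fin n → ZMod 2) ≃ₗ[ZMod 2] (Fin n ⊕ Fin n → ZMod 2)).toLinearMap -
            LinearMap.id) = ((g : Matrix (Fin n ⊕ Fin n) (Fin n ⊕ Fin n) (ZMod 2)) - 1).mulVecLin :=
          LinearMap.ext fun x => by
            rw [LinearMap.sub_apply, Matrix.mulVecLin_apply, Matrix.sub_mulVec, Matrix.one_mulVec]
            exact congrArg (· - x) (Classical.Sp.spEquiv_apply n g x)
        rw [hL]; exact hg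
      obtain ⟨v, c, hv, hc, he⟩ := Classical.Sp.exists_eq_T B hA hB (e g) hr
      obtain rfl : c = 1 := (hc01 c).resolve_left hc
      exact ⟨v, hv, (MulEquiv.eq_symm_apply e).2 he⟩
    · rintro ⟨v, hv, rfl⟩
      show (((e.symm (T v)) : Matrix (Fin n ⊕ Fin n) (Fin n ⊕ Fin n) (ZMod 2)) - 1).rank = 1
      rw [hcast, Cfsg.sympTransvection, add_sub_cancel_left, one_smul]
      refine le_antisymm (Matrix.rank_vecMulVec_le _ _) (Nat.one_le_iff_ne_zero.2 fun h0 => ?_)
      obtain ⟨w, hw⟩ := Classical.Sp.exists_pair B hB hv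
      have hz := Classical.RankOneDet.eq_zero_of_rank h0
      have e1 := Classical.Sp.transvection_mulVec n v (1 : ZMod 2) w
      rw [Cfsg.sympTransvection, one_smul, hz, add_zero, Matrix.one_mulVec, one_mul] at e1
      have hwv : B w v = 1 := by
        rw [Classical.Sp.alt_neg B hA v w, hw]; decide
      rw [show Classical.Sp.sympB (ZMod 2) n w v = 1 from hwv, one_smul, left_eq_add] at e1
      exact hv e1
  have hT2 : ∀ v, T v * T v = 1 := fun v => by
    show Classical.Sp.T B hA v 1 * Classical.Sp.T B hA v 1 = 1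
    rw [Classical.Sp.T_add, show (1 : ZMod 2) + 1 = 0 by decide, Classical.Sp.T_zero]
  have hTinv : ∀ v, (T v)⁻¹ = T v := fun v => inv_eq_of_mul_eq_one_right (hT2 v)
  have hconj : ∀ u v, T u * T v * T u = T (v + B v u • u) := fun u v => by
    have h1 := Classical.Sp.conj_T B hA (T u) v 1
    rw [hTinv] at h1
    rw [h1, Classical.Sp.T_apply, one_mul]
  have hne : ∀ v, v ≠ 0 → e.symm (T v) ∈ D := fun v hv => (hDT _).2 ⟨v, hv, rfl⟩
  obtain ⟨v₀, hv₀⟩ : ∃ v : Fin n ⊕ Fin n → ZMod 2, v ≠ 0 :=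
    ⟨Pi.single (Sum.inl ⟨0, by omega⟩) 1, fun h => by
      have := congrFun h (Sum.inl ⟨0, by omega⟩)
      simp at this⟩
  refine ⟨⟨fun d hd => ?_, fun d hd d' hd' => ?_⟩, ⟨_, hne v₀ hv₀, Set.ext fun g => ⟨fun hg => ?_, fun hg => ?_⟩⟩, ?_⟩
  · obtain ⟨v, hv, rfl⟩ := (hDT d).1 hd
    refine orderOf_eq_prime (by rw [pow_two, ← map_mul, hT2, map_one]) fun h => ?_
    have hd' : ((e.symm (T v) : Matrix.symplecticGroup (Fin n) (ZMod 2)) : Matrix (Fin n ⊕ Fin n) (Fin n ⊕ Fin n) (ZMod 2)) = 1 :=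
      congrArg Subtype.val h
    have hr : (((e.symm (T v)) : Matrix (Fin n ⊕ Fin n) (Fin n ⊕ Fin n) (ZMod 2)) - 1).rank = 1 := hd
    rw [hd', sub_self, Matrix.rank_zero] at hr
    exact zero_ne_one hr
  · obtain ⟨u, hu, rfl⟩ := (hDT d).1 hd
    obtain ⟨v, hv, rfl⟩ := (hDT d').1 hd'
    rw [← map_mul, ← map_pow, ← map_pow]
    rcases hc01 (B v u) with h | h
    · left
      have e1 := hconj u v
      rw [h, zero_smul, add_zero] at e1
      rw [show (T u * T v) ^ 2 = (T u * T v * T u) * T v by rw [pow_two]; group, e1, hT2, map_one]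
    · right
      have h' : B u v = 1 := by rw [Classical.Sp.alt_neg B hA v u, h]; decide
      have e1 := hconj u v
      have e2 := hconj v u
      rw [h, one_smul] at e1
      rw [h', one_smul, add_comm u] at e2
      rw [show (T u * T v) ^ 3 = (T u * T v * T u) * (T v * T u * T v) by rw [pow_succ, pow_two]; group,
        e1, e2, hT2, map_one]
  · obtain ⟨v, hv, rfl⟩ := (hDT g).1 hg
    obtain ⟨c, -, hc⟩ := Classical.Sp.move_top B hA hB hv₀ hv
    refine (isConj_iff.2 ⟨e.symm c, ?_⟩ : IsConj (e.symm (T v₀)) (e.symm (T v)))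
    rw [← map_inv, ← map_mul, ← map_mul, Classical.Sp.conj_T, hc]
  · replace hg : IsConj (e.symm (T v₀)) g := hg
    rw [isConj_iff] at hg
    obtain ⟨c, rfl⟩ := hg
    refine (hDT _).2 ⟨(e c : (Fin n ⊕ Fin n → ZMod 2) ≃ₗ[ZMod 2] (Fin n ⊕ Fin n → ZMod 2)) v₀,
      (LinearEquiv.map_ne_zero_iff _).2 hv₀, e.injective ?_⟩
    rw [map_mul, map_mul, map_inv, MulEquiv.apply_symm_apply, MulEquiv.apply_symm_apply, Classical.Sp.conj_T]
  · have h := Classical.Sp.closure_tSet B hA hB
    have h' := congrArg (Subgroup.map e.symm.toMonoidHom) h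
    rw [MonoidHom.map_closure, ← MonoidHom.range_eq_map, MonoidHom.range_eq_top.2 e.symm.surjective] at h'
    rw [eq_top_iff, ← h', Subgroup.closure_le]
    rintro _ ⟨_, ⟨v, -, c, rfl⟩, rfl⟩
    rcases hc01 c with rfl | rfl
    · rw [Classical.Sp.T_zero, map_one]; exact Subgroup.one_mem _
    · rcases eq_or_ne v 0 with rfl | hv
      · rw [Classical.Sp.T_zero_vec, map_one]; exact Subgroup.one_mem _
      · exact Subgroup.subset_closure (hne v hv)

end Cfsg.Agent.S0440
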