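import Cfsg.Statements.S0442
import Cfsg.Agent.Lib.Inv.Dihedral
-- import your own Cfsg.Agent.* helpers here

set_option autoImplicit false
open Cfsg

namespace Cfsg.Agent.S0442

/-- A standard trick for producing elements of an involution centraliser: for an involution a and an element g, let b be the conjugate g⁻¹ * a * g. If a * b has odd order 2m + 1 then g * (a * b) ^ m commutes with a; if a * b has even order 2m then (a * b) ^ m and (a * (g * a * g⁻¹)) ^ m commute with a. -/
theorem result {G : Type*} [Group G] (a g : G) (ha : orderOf a = 2) : (∀ m : ℕ, orderOf (a * (g⁻¹ * a * g)) = 2 * m + 1 → Commute (g * (a * (g⁻¹ * a * g)) ^ m) a) ∧ (∀ m : ℕ, orderOf (a * (g⁻¹ * a * g)) = 2 * m → Commute ((a * (g⁻¹ * a * g)) ^ m) a ∧ Commute ((a * (g * a * g⁻¹)) ^ m) a) := by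
  have ha2 : a * a = 1 := Cfsg.Agent.Inv.mul_self_of_orderOf_two ha
  have hai : a⁻¹ = a := inv_eq_of_mul_eq_one_right ha2
  have hb : orderOf (g⁻¹ * a * g) = 2 := by
    have := Cfsg.Agent.Inv.orderOf_conj g⁻¹ a
    rwa [inv_inv, ha] at this
  set r := a * (g⁻¹ * a * g) with hr
  have flip : ∀ k : ℕ, a * r ^ k = (r ^ k)⁻¹ * a := by
    intro k
    have := Cfsg.Agent.Inv.x_mul_zpow ha hb (k : ℤ)
    rwa [zpow_neg, zpow_natCast] at this
  constructor
  · intro m hm
    have hga : a * g = g * (a * r) := by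
      rw [hr, ← mul_assoc a a, ha2, one_mul]; group
    show g * r ^ m * a = a * (g * r ^ m)
    have h2 : (r ^ (m + 1))⁻¹ = r ^ m := inv_eq_of_mul_eq_one_right (by
      rw [← pow_add, show m + 1 + m = 2 * m + 1 by omega, ← hm, pow_orderOf_eq_one])
    calc g * r ^ m * a = g * (a * r ^ (m + 1)) := by rw [flip (m + 1), h2, mul_assoc]
      _ = g * (a * r) * r ^ m := by rw [pow_succ']; group
      _ = a * (g * r ^ m) := by rw [← hga, mul_assoc]
  · intro m hm
    have hp : (r ^ m)⁻¹ = r ^ m := inv_eq_of_mul_eq_one_right (by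
      rw [← pow_add, ← two_mul, ← hm, pow_orderOf_eq_one])
    have h1 : Commute (r ^ m) a := by
      show r ^ m * a = a * r ^ m
      rw [flip, hp]
    refine ⟨h1, ?_⟩
    have hb2 : orderOf (g * a * g⁻¹) = 2 := (Cfsg.Agent.Inv.orderOf_conj g a).trans ha
    set s := a * (g * a * g⁻¹) with hs
    have hconj : g * r * g⁻¹ = s⁻¹ := by
      rw [hr, hs, mul_inv_rev, mul_inv_rev, mul_inv_rev, inv_inv, hai]; group
    have hord : orderOf s = 2 * m := by
      rw [← orderOf_inv, ← hconj, Cfsg.Agent.Inv.orderOf_conj, hm]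
    have hp2 : (s ^ m)⁻¹ = s ^ m := inv_eq_of_mul_eq_one_right (by
      rw [← pow_add, ← two_mul, ← hord, pow_orderOf_eq_one])
    show s ^ m * a = a * s ^ m
    have := Cfsg.Agent.Inv.x_mul_zpow ha hb2 (m : ℤ)
    rw [zpow_neg, zpow_natCast] at this
    rw [this, hp2]

end Cfsg.Agent.S0442
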