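import Cfsg.Statements.S2758
import Cfsg.Agent.Lib.Inv.Dihedral
import Cfsg.Prelude.Def_LocalEven
-- import your own Cfsg.Agent.* helpers here

set_option autoImplicit false
open Cfsg

namespace Cfsg.Agent.S2758
open Cfsg.Agent

theorem inv_eq_self_of_mul {G : Type*} [Group G] {a : G} (h : a * a = 1) : a⁻¹⁻¹ = a⁻¹ := by
  rw [inv_inv]; exact (inv_eq_of_mul_eq_one_right h).symm


/-- For an odd prime p and a finite group G the following are equivalent: the dihedral group of order 2p is involved in G; some element of 2-power order normalizes but does not centralize some p-subgroup of G; some element of 2-power order inverts some nonidentity element of p-power order. -/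
theorem result {G : Type*} [Group G] [Finite G] {p : ℕ} [Fact p.Prime] (hp : p ≠ 2) : (Cfsg.Involves (DihedralGroup p) G ↔ ∃ (x : G) (P : Subgroup G), (∃ k : ℕ, orderOf x = 2 ^ k) ∧ IsPGroup p ↥P ∧ x ∈ Subgroup.normalizer (P : Set G) ∧ x ∉ Subgroup.centralizer (P : Set G)) ∧ (Cfsg.Involves (DihedralGroup p) G ↔ ∃ x y : G, (∃ k : ℕ, orderOf x = 2 ^ k) ∧ (∃ k : ℕ, orderOf y = p ^ k) ∧ y ≠ 1 ∧ x * y * x⁻¹ = y⁻¹) := by
  skip
  classical
  have hAB : Cfsg.Involves (DihedralGroup p) G → ∃ (x : G) (P : Subgroup G), (∃ k : ℕ, orderOf x = 2 ^ k) ∧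
      IsPGroup p ↥P ∧ x ∈ Subgroup.normalizer (P : Set G) ∧ x ∉ Subgroup.centralizer (P : Set G) := by
    rintro ⟨K, R, hn, ⟨e⟩⟩
    let f : ↥K →* DihedralGroup p := e.toMonoidHom.comp (QuotientGroup.mk' (R.subgroupOf K))
    have hf : Function.Surjective f := e.surjective.comp (QuotientGroup.mk'_surjective _)
    let Rot : Subgroup (DihedralGroup p) := Subgroup.zpowers (DihedralGroup.r 1)
    have hrot : ∀ d, d ∈ Rot ↔ ∃ i, d = DihedralGroup.r i := by
      intro d
      constructor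
      · rintro ⟨k, rfl⟩; exact ⟨k, DihedralGroup.r_one_zpow k⟩
      · rintro ⟨i, rfl⟩; exact ⟨i.cast, by simp [DihedralGroup.r_one_zpow]⟩
    haveI hRn : Rot.Normal := ⟨fun d hd g => by
      obtain ⟨i, rfl⟩ := (hrot d).1 hd
      refine (hrot _).2 ?_
      rcases g with j | j <;> simp [DihedralGroup.inv_r, DihedralGroup.inv_sr]⟩
    set K0 := Rot.comap f with hK0
    haveI : K0.Normal := Subgroup.Normal.comap hRn f
    obtain ⟨P⟩ := Sylow.nonempty (p := p) (G := ↥K0)
    obtain ⟨g, hg⟩ := hf (DihedralGroup.sr 0)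
    obtain ⟨n, hn', k, hk, hnk⟩ := Subgroup.mem_sup_of_normal_right.1
      (show g ∈ Subgroup.normalizer (((P : Subgroup K0).map K0.subtype : Subgroup K) : Set K) ⊔ K0 by
        rw [Sylow.normalizer_sup_eq_top P]; trivial)
    obtain ⟨i, hi⟩ := (hrot _).1 (Subgroup.mem_comap.1 hk)
    have hfn : ∃ j, f n = DihedralGroup.sr j := by
      refine ⟨-i, ?_⟩
      have h1 : f n * f k = DihedralGroup.sr 0 := by rw [← map_mul, hnk, hg]
      rw [eq_mul_inv_of_mul_eq h1, hi]; simp
    obtain ⟨j, hj⟩ := hfn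
    obtain ⟨a, m, hm, hcard⟩ := Nat.exists_eq_two_pow_mul_odd (orderOf_pos n).ne'
    have hfx : f (n ^ m) = DihedralGroup.sr j := by
      obtain ⟨t, ht⟩ := hm
      rw [map_pow, hj, ht, pow_succ, pow_mul, pow_two, DihedralGroup.sr_mul_self, one_pow, one_mul]
    have hxo : ∃ b, orderOf ((n : G) ^ m) = 2 ^ b := by
      obtain ⟨b, -, hb⟩ := (Nat.dvd_prime_pow Nat.prime_two).1 (orderOf_dvd_of_pow_eq_one (x := (n : G) ^ m) (n := 2 ^ a) (by
        rw [← pow_mul, mul_comm, ← hcard, ← Subgroup.orderOf_coe, pow_orderOf_eq_one]))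
      exact ⟨b, hb⟩
    refine ⟨(n : G) ^ m, ((P : Subgroup K0).map K0.subtype).map K.subtype, hxo, (P.isPGroup'.map _).map _, ?_, ?_⟩
    · exact Subgroup.le_normalizer_map K.subtype ⟨n ^ m, pow_mem hn' m, rfl⟩
    · intro hc
      obtain ⟨v, hv, hfv⟩ : ∃ v ∈ (P : Subgroup K0), f v ≠ 1 := by
        by_contra hall
        push Not at hall
        let φ : K0 →* DihedralGroup p := f.comp K0.subtype
        have h1 : (P : Subgroup K0) ≤ φ.ker := fun v hv => hall v hv
        have h2 : φ.ker.index = p := by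
          rw [Subgroup.index_ker, MonoidHom.range_comp, Subgroup.range_subtype, hK0,
            Subgroup.map_comap_eq_self_of_surjective hf, Nat.card_zpowers, DihedralGroup.orderOf_r_one]
        have h3 := Subgroup.index_dvd_of_le h1
        rw [h2] at h3
        exact P.not_dvd_index h3
      obtain ⟨l, hl⟩ := (hrot _).1 (Subgroup.mem_comap.1 v.2)
      have h3 : (v : K) * n ^ m = n ^ m * v := Subtype.ext (by
        simpa using Subgroup.mem_centralizer_iff.1 hc _ ⟨_, ⟨v, hv, rfl⟩, rfl⟩)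
      have h4 := congrArg f h3
      rw [map_mul, map_mul, hfx, hl, DihedralGroup.r_mul_sr, DihedralGroup.sr_mul_r] at h4
      have h5 : j - l = j + l := DihedralGroup.sr.inj h4
      have h6 : (2 : ℕ) • l = 0 := by rw [two_nsmul]; linear_combination -h5
      rw [nsmul_eq_mul] at h6
      have h7 : ((2 : ℕ) : ZMod p) ≠ 0 := fun h => hp ((Nat.prime_dvd_prime_iff_eq (Fact.out : p.Prime) Nat.prime_two).1
        ((ZMod.natCast_eq_zero_iff _ _).1 h))
      exact hfv (by rw [hl, (mul_eq_zero.1 h6).resolve_left h7]; rfl)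
  have hBC : (∃ (x : G) (P : Subgroup G), (∃ k : ℕ, orderOf x = 2 ^ k) ∧
      IsPGroup p ↥P ∧ x ∈ Subgroup.normalizer (P : Set G) ∧ x ∉ Subgroup.centralizer (P : Set G)) →
      ∃ x y : G, (∃ k : ℕ, orderOf x = 2 ^ k) ∧ (∃ k : ℕ, orderOf y = p ^ k) ∧ y ≠ 1 ∧ x * y * x⁻¹ = y⁻¹ := by
    rintro ⟨x, P, ⟨k, hk⟩, hP, hxN, hxC⟩
    induction k generalizing x with
    | zero => exact absurd (orderOf_eq_one_iff.1 (hk.trans (pow_zero 2)) ▸ one_mem _) hxC
    | succ k ih =>
      by_cases h2 : x ^ 2 ∈ Subgroup.centralizer (P : Set G)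
      · rw [Subgroup.mem_centralizer_iff] at hxC
        push Not at hxC
        obtain ⟨v, hv, hne⟩ := hxC
        refine ⟨x, v⁻¹ * (x * v * x⁻¹), ⟨_, hk⟩, ?_, ?_, ?_⟩
        · have h1 : v⁻¹ * (x * v * x⁻¹) ∈ P := mul_mem (inv_mem hv) ((Subgroup.mem_normalizer_iff.1 hxN v).1 hv)
          obtain ⟨e, he⟩ := (IsPGroup.iff_orderOf.1 hP) ⟨_, h1⟩
          exact ⟨e, by rwa [Subgroup.orderOf_mk] at he⟩
        · intro h1
          refine hne ?_
          calc v * x = x * v * x⁻¹ * x := by rw [show x * v * x⁻¹ = v from (inv_mul_eq_one.1 h1).symm]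
            _ = x * v := by group
        · have e := Subgroup.mem_centralizer_iff.1 h2 v hv
          calc x * (v⁻¹ * (x * v * x⁻¹)) * x⁻¹ = x * v⁻¹ * x⁻¹ * ((x ^ 2 * v) * (x ^ 2)⁻¹) := by rw [pow_two]; group
            _ = x * v⁻¹ * x⁻¹ * v := by rw [← e]; group
            _ = _ := by group
      · refine ih _ ?_ (pow_mem hxN 2) h2
        rw [orderOf_pow, hk, pow_succ, Nat.gcd_mul_left_left, Nat.mul_div_cancel _ two_pos]
  have hCA : (∃ x y : G, (∃ k : ℕ, orderOf x = 2 ^ k) ∧ (∃ k : ℕ, orderOf y = p ^ k) ∧ y ≠ 1 ∧ x * y * x⁻¹ = y⁻¹) →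
      Cfsg.Involves (DihedralGroup p) G := by
    rintro ⟨x, y0, ⟨k, hk⟩, ⟨l, hl⟩, hy0, hxy0⟩
    obtain ⟨y, hyo, hxy⟩ : ∃ y, orderOf y = p ∧ x * y * x⁻¹ = y⁻¹ := by
      refine ⟨y0 ^ (orderOf y0 / p), ?_, ?_⟩
      · refine orderOf_pow_orderOf_div (orderOf_pos y0).ne' ?_
        rcases l with _ | l
        · exact absurd (orderOf_eq_one_iff.1 (by simpa using hl)) hy0
        · rw [hl]; exact dvd_pow_self p l.succ_ne_zero
      · rw [← conj_pow, hxy0, inv_pow]
    have hy1 : y ≠ 1 := fun h => (Fact.out : p.Prime).ne_one (by rw [← hyo, h, orderOf_one])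
    have hsq : y * y ≠ 1 := fun h => by
      have h1 := orderOf_dvd_of_pow_eq_one ((pow_two y).trans h)
      rw [hyo] at h1
      exact hp ((Nat.prime_dvd_prime_iff_eq (Fact.out) Nat.prime_two).1 h1)
    have hcomm : Commute (x ^ 2) y := by
      have h1 : x * y⁻¹ * x⁻¹ = y := by rw [← conj_inv, hxy, inv_inv]
      have h2 : x ^ 2 * y * (x ^ 2)⁻¹ = y := by
        calc x ^ 2 * y * (x ^ 2)⁻¹ = x * (x * y * x⁻¹) * x⁻¹ := by rw [pow_two]; group
          _ = y := by rw [hxy, h1]
      exact mul_inv_eq_iff_eq_mul.1 h2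
    set K := Subgroup.closure ({x, y} : Set G) with hKdef
    set R := Subgroup.zpowers (x ^ 2) with hRdef
    have hKc : K ≤ Subgroup.centralizer ({x ^ 2} : Set G) := by
      rw [hKdef, Subgroup.closure_le]
      rintro _ (rfl | rfl)
      · exact Subgroup.mem_centralizer_singleton_iff.2 (Commute.pow_self _ 2).eq.symm
      · exact Subgroup.mem_centralizer_singleton_iff.2 hcomm.eq.symm
    haveI hn : (R.subgroupOf K).Normal := ⟨fun r hr g => by
      obtain ⟨t, ht⟩ := Subgroup.mem_subgroupOf.1 hr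
      have hc : Commute (g : G) (r : G) := ht ▸ Commute.zpow_right (Subgroup.mem_centralizer_singleton_iff.1 (hKc g.2)) t
      rw [Subgroup.mem_subgroupOf, Subgroup.coe_mul, Subgroup.coe_mul, Subgroup.coe_inv, hc.eq, mul_inv_cancel_right]
      exact ⟨t, ht⟩⟩
    let π := QuotientGroup.mk' (R.subgroupOf K)
    have hxK : x ∈ K := Subgroup.subset_closure (Or.inl rfl)
    have hyK : y ∈ K := Subgroup.subset_closure (Or.inr rfl)
    set a := π ⟨x, hxK⟩ with ha
    set c := π ⟨y, hyK⟩ with hc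
    have hπ : ∀ z : K, π z = 1 ↔ (z : G) ∈ R := fun z =>
      (QuotientGroup.eq_one_iff z).trans Subgroup.mem_subgroupOf
    have hxy' : a * c * a⁻¹ = c⁻¹ := by
      rw [ha, hc, ← map_inv, ← map_mul, ← map_mul, ← map_inv]
      exact congrArg π (Subtype.ext hxy)
    have ha2 : a * a = 1 := by
      rw [ha, ← map_mul, hπ]
      exact ⟨1, by simp [pow_two]⟩
    have ha1 : a ≠ 1 := fun h => by
      obtain ⟨t, ht⟩ := (hπ _).1 h
      have h1 : x ^ (2 * t - 1) = 1 := by
        rw [zpow_sub_one, zpow_mul]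
        change (x ^ (2 : ℤ)) ^ t * x⁻¹ = 1
        rw [mul_inv_eq_one, zpow_two, ← pow_two]
        exact ht
      have h2 := orderOf_dvd_iff_zpow_eq_one.2 h1
      rw [hk] at h2
      rcases k with _ | k
      · obtain rfl : x = 1 := orderOf_eq_one_iff.1 (by simpa using hk)
        exact hsq (mul_eq_one_iff_eq_inv.2 (by simpa using hxy))
      · have h3 : (2 : ℤ) ∣ 2 * t - 1 := dvd_trans (by rw [pow_succ, Nat.cast_mul]; exact dvd_mul_left _ _) h2
        omega
    have hc1 : c ≠ 1 := fun h => by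
      obtain ⟨t, ht⟩ := (hπ _).1 h
      have h1 : Commute x y := by
        have ht' : (x ^ 2) ^ t = y := ht
        rw [← ht']; exact (Commute.self_pow x 2).zpow_right t
      exact hsq (mul_eq_one_iff_eq_inv.2 (by rw [← hxy, h1.eq, mul_inv_cancel_right]))
    have hco : orderOf c = p := orderOf_eq_prime (by
      rw [hc, ← map_pow, hπ]
      have : ((⟨y, hyK⟩ : K) ^ p : K) = (1 : K) := Subtype.ext (by simp [← hyo, pow_orderOf_eq_one])
      rw [this]; exact one_mem _) hc1
    have hac2 : a * c * (a * c) = 1 := by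
      rw [← inv_eq_self_of_mul ha2] at hxy'
      calc a * c * (a * c) = (a * c * a) * c := by group
        _ = 1 := by rw [inv_inv] at hxy'; rw [hxy', inv_mul_cancel]
    have hac1 : a * c ≠ 1 := fun h => by
      have h1 : c = a⁻¹ := eq_inv_of_mul_eq_one_right h
      have h2 : c * c = 1 := by rw [h1, ← mul_inv_rev, ha2, inv_one]
      have h3 := orderOf_dvd_of_pow_eq_one ((pow_two c).trans h2)
      rw [hco] at h3
      exact hp ((Nat.prime_dvd_prime_iff_eq (Fact.out) Nat.prime_two).1 h3)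
    obtain ⟨e⟩ := Cfsg.Agent.Inv.dihedral_equiv (Cfsg.Agent.Inv.orderOf_eq_two_of_mul_self ha2 ha1)
      (Cfsg.Agent.Inv.orderOf_eq_two_of_mul_self hac2 hac1)
    rw [← mul_assoc, ha2, one_mul, hco] at e
    have htop : Subgroup.closure ({a, a * c} : Set (↥K ⧸ R.subgroupOf K)) = ⊤ := by
      rw [eq_top_iff]
      intro q _
      obtain ⟨z, rfl⟩ := QuotientGroup.mk'_surjective (R.subgroupOf K) q
      have hz : z ∈ Subgroup.closure (((↑) : ↥K → G) ⁻¹' {x, y}) :=
        (SetLike.ext_iff.1 (Subgroup.closure_closure_coe_preimage (k := ({x, y} : Set G))) z).2 trivial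
      have hle : Subgroup.closure (((↑) : ↥K → G) ⁻¹' {x, y}) ≤ (Subgroup.closure ({a, a * c} : Set _)).comap π := by
        rw [Subgroup.closure_le]
        rintro w (hw | hw)
        · obtain rfl : w = ⟨x, hxK⟩ := Subtype.ext hw
          exact Subgroup.subset_closure (Or.inl rfl)
        · obtain rfl : w = ⟨y, hyK⟩ := Subtype.ext hw
          show c ∈ Subgroup.closure ({a, a * c} : Set _)
          have h1 := Subgroup.mul_mem _ (Subgroup.subset_closure (Or.inl rfl) : a ∈ Subgroup.closure ({a, a * c} : Set _))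
            (Subgroup.subset_closure (Or.inr rfl) : a * c ∈ Subgroup.closure ({a, a * c} : Set _))
          rwa [← mul_assoc, ha2, one_mul] at h1
      exact hle hz
    exact ⟨K, R, hn, ⟨(Subgroup.topEquiv.symm.trans (MulEquiv.subgroupCongr htop.symm)).trans e⟩⟩
  exact ⟨⟨hAB, fun h => hCA (hBC h)⟩, ⟨fun h => hBC (hAB h), hCA⟩⟩

end Cfsg.Agent.S2758
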