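import Cfsg.Statements.S2759
import Cfsg.Agent.Lib.Local.InvolvesSymFour
import Cfsg.Agent.S2758
-- import your own Cfsg.Agent.* helpers here

set_option autoImplicit false
open Cfsg

namespace Cfsg.Agent.S2759
open Cfsg.Agent

def vp (σ : Equiv.Perm (Fin 4)) : Prop := σ = 1 ∨ (σ * σ = 1 ∧ ∀ i, σ i ≠ i)

instance : DecidablePred vp := fun σ => by unfold vp; infer_instance

theorem vp_one : vp 1 := Or.inl rfl

theorem vp_mul : ∀ a b, vp a → vp b → vp (a * b) := by decide +kernel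

theorem vp_inv : ∀ a, vp a → vp a⁻¹ := by decide +kernel

theorem vp_conj : ∀ g v, vp v → vp (g * v * g⁻¹) := by decide +kernel

theorem vp_centralizer : ∀ s, (∀ v, vp v → s * v = v * s) → vp s := by decide +kernel

def V4 : Subgroup (Equiv.Perm (Fin 4)) where
  carrier := {σ | vp σ}
  one_mem' := vp_one
  mul_mem' := fun {a b} ha hb => vp_mul a b ha hb
  inv_mem' := fun {a} ha => vp_inv a ha

theorem card_vp : Fintype.card {σ : Equiv.Perm (Fin 4) // vp σ} = 4 := by decide +kernel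

theorem card_V4 : Nat.card V4 = 4 := by
  rw [show Nat.card V4 = Nat.card {σ : Equiv.Perm (Fin 4) // vp σ} from rfl, Nat.card_eq_fintype_card, card_vp]

def pcls (x y : Fin 4) : Fin 3 := ![![0, 0, 1, 2], ![0, 0, 2, 1], ![1, 2, 0, 0], ![2, 1, 0, 0]] x y

def hfun (σ : Equiv.Perm (Fin 4)) (i : Fin 3) : Fin 3 := pcls (σ 0) (σ i.succ)

theorem hfun_inv : ∀ σ i, hfun σ⁻¹ (hfun σ i) = i := by decide +kernel

theorem hfun_mul : ∀ σ τ i, hfun (σ * τ) i = hfun σ (hfun τ i) := by decide +kernel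

theorem hfun_one : ∀ i, hfun 1 i = i := by decide +kernel

def h43 : Equiv.Perm (Fin 4) →* Equiv.Perm (Fin 3) where
  toFun σ := ⟨hfun σ, hfun σ⁻¹, hfun_inv σ, fun i => by
    have := hfun_inv σ⁻¹ i
    rwa [inv_inv] at this⟩
  map_one' := Equiv.ext hfun_one
  map_mul' σ τ := Equiv.ext (hfun_mul σ τ)

theorem hfun_vp : ∀ σ, vp σ → ∀ i, hfun σ i = i := by decide +kernel

theorem h43_eq_one (σ : Equiv.Perm (Fin 4)) (h : vp σ) : h43 σ = 1 := Equiv.ext (hfun_vp σ h)

theorem hfun_surj : ∀ π : Equiv.Perm (Fin 3), ∃ σ, ∀ i, hfun σ i = π i := by decide +kernel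

theorem h43_surj (π : Equiv.Perm (Fin 3)) : ∃ σ, h43 σ = π :=
  (hfun_surj π).imp fun _ h => Equiv.ext h

def epsFun : DihedralGroup 3 → Equiv.Perm (Fin 3)
  | .r i => (Equiv.swap 0 1 * Equiv.swap 1 2) ^ i.val
  | .sr i => Equiv.swap 0 1 * (Equiv.swap 0 1 * Equiv.swap 1 2) ^ i.val

theorem epsFun_mul : ∀ a b, epsFun (a * b) = epsFun a * epsFun b := by decide +kernel

theorem epsFun_bij : Function.Bijective epsFun := by
  unfold Function.Bijective Function.Injective Function.Surjective; decide +kernel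

noncomputable def eps : DihedralGroup 3 ≃* Equiv.Perm (Fin 3) :=
  MulEquiv.ofBijective (MonoidHom.mk' epsFun epsFun_mul) epsFun_bij

theorem mem_normalizer_of_maps {G : Type*} [Group G] [Finite G] (N : Subgroup G) {g : G}
    (h : ∀ n ∈ N, g * n * g⁻¹ ∈ N) : g ∈ Subgroup.normalizer (N : Set G) := by
  have he : N.map (MulAut.conj g).toMonoidHom = N :=
    Subgroup.eq_of_le_of_card_ge (by rintro _ ⟨n, hn, rfl⟩; exact h n hn)
      (by rw [Subgroup.card_map_of_injective (MulAut.conj g).injective])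
  rw [Subgroup.mem_normalizer_iff]
  refine fun n => ⟨h n, fun hn => ?_⟩
  obtain ⟨z, hz, e⟩ := he.symm ▸ hn
  rwa [(MulAut.conj g).injective (e : MulAut.conj g z = MulAut.conj g n)] at hz

theorem core {Q : Type*} [Group Q] [Finite Q] (V : Subgroup Q) [hV : V.Normal] (h2 : ∀ v ∈ V, v * v = 1)
    (a y : Q) (k : ℕ) (ha : a ^ 2 ^ k = 1) (hy3 : ∀ v ∈ V, Commute (y ^ 3) v)
    (hay : ∀ v ∈ V, Commute (a * y * a⁻¹ * y) v) (hne : ∃ v ∈ V, ¬ Commute y v) :
    Cfsg.Involves (Equiv.Perm (Fin 4)) Q := by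
  classical
  have hinv : ∀ v ∈ V, v⁻¹ = v := fun v hv => inv_eq_of_mul_eq_one_right (h2 v hv)
  have hc : ∀ u ∈ V, ∀ v ∈ V, u * v = v * u := fun u hu v hv => by
    have h := hinv _ (mul_mem hu hv)
    rw [mul_inv_rev, hinv u hu, hinv v hv] at h
    exact h.symm
  set cy : MulAut Q := MulAut.conj y with hcy
  set ca : MulAut Q := MulAut.conj a with hca
  have hcy3 : ∀ v ∈ V, cy (cy (cy v)) = v := fun v hv => by
    calc cy (cy (cy v)) = y ^ 3 * v * (y ^ 3)⁻¹ := by simp only [hcy, MulAut.conj_apply, pow_succ, pow_zero, one_mul]; group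
      _ = v := by rw [(hy3 v hv).eq, mul_inv_cancel_right]
  have hmemy : ∀ v ∈ V, cy v ∈ V := fun v hv => hV.conj_mem v hv y
  have hmema : ∀ v ∈ V, ca v ∈ V := fun v hv => hV.conj_mem v hv a
  have hay' : ∀ v ∈ V, cy (ca v) = ca (cy (cy v)) := fun v hv => by
    have h4 : a * y * a⁻¹ * y * (ca v) * (a * y * a⁻¹ * y)⁻¹ = ca v := by
      rw [(hay _ (hmema v hv)).eq, mul_inv_cancel_right]
    have h5 : ca (cy (ca.symm (cy (ca v)))) = ca v := by
      refine Eq.trans ?_ h4; simp only [hcy, hca, MulAut.conj_apply, MulAut.conj_symm_apply]; group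
    have h6 : cy (ca.symm (cy (ca v))) = v := ca.injective h5
    have h7 : ca.symm (cy (ca v)) ∈ V := by
      simp only [hca, MulAut.conj_symm_apply]
      exact hV.conj_mem' _ (hmemy _ (hmema v hv)) a
    have h8 : ca.symm (cy (ca v)) = cy (cy v) := by
      rw [← hcy3 _ h7, h6]
    rw [← h8, MulEquiv.apply_symm_apply]
  -- the fixed point free part
  let U : Q → Prop := fun v => v ∈ V ∧ v * cy v * cy (cy v) = 1
  have hU0 : ∃ u, U u ∧ u ≠ 1 := by
    obtain ⟨v, hv, hvc⟩ := hne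
    refine ⟨v⁻¹ * cy v, ⟨mul_mem (inv_mem hv) (hmemy v hv), ?_⟩, fun h => hvc ?_⟩
    · rw [map_mul, map_inv, map_mul, map_inv, hcy3 v hv]
      calc v⁻¹ * cy v * ((cy v)⁻¹ * cy (cy v)) * ((cy (cy v))⁻¹ * v) = v⁻¹ * v := by group
        _ = 1 := inv_mul_cancel v
    · have h1 : cy v = v := (inv_mul_eq_one.1 h).symm
      exact mul_inv_eq_iff_eq_mul.1 h1
  have hUa : ∀ u, U u → U (ca u) := fun u ⟨hu, hu1⟩ => by
    refine ⟨hmema u hu, ?_⟩
    rw [hay' u hu, hay' _ (hmemy _ (hmemy u hu)), hcy3 _ (hmemy u hu), ← map_mul, ← map_mul]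
    rw [mul_assoc, hc _ (hmemy _ (hmemy u hu)) _ (hmemy u hu), ← mul_assoc, hu1, map_one]
  have hUmul : ∀ p q, U p → U q → U (p * q) := fun p q hp hq => by
    refine ⟨mul_mem hp.1 hq.1, ?_⟩
    rw [map_mul, map_mul]
    have e1 := hc _ hq.1 _ (hmemy _ hp.1)
    have e2 := hc _ (mul_mem hq.1 (hmemy _ hq.1)) _ (hmemy _ (hmemy _ hp.1))
    calc p * q * (cy p * cy q) * (cy (cy p) * cy (cy q))
        = p * (q * cy p) * cy q * cy (cy p) * cy (cy q) := by group
      _ = p * cy p * ((q * cy q) * cy (cy p)) * cy (cy q) := by rw [e1]; group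
      _ = (p * cy p * cy (cy p)) * (q * cy q * cy (cy q)) := by rw [e2]; group
      _ = 1 := by rw [hp.2, hq.2, one_mul]
  have hUpow : ∀ (n : ℕ) w, U w → U ((ca ^ n) w) := by
    intro n
    induction n with
    | zero => intro w hw; simpa using hw
    | succ n ihn => intro w hw; rw [pow_succ]; exact ihn _ (hUa w hw)
  have hfix : ∀ j z, U z → z ≠ 1 → (ca ^ 2 ^ j) z = z → ∃ w, U w ∧ w ≠ 1 ∧ ca w = w := by
    intro j
    induction j with
    | zero => intro z hz hz1 hzf; exact ⟨z, hz, hz1, by simpa using hzf⟩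
    | succ i ihi =>
      intro z hz hz1 hzf
      by_cases hzi : (ca ^ 2 ^ i) z = z
      · exact ihi z hz hz1 hzi
      · have hcz := hUpow (2 ^ i) z hz
        have hz2 : (ca ^ 2 ^ i) ((ca ^ 2 ^ i) z) = z := by
          rw [← MulAut.mul_apply, ← pow_add, ← two_mul, ← pow_succ', hzf]
        refine ihi ((ca ^ 2 ^ i) z * z) (hUmul _ _ hcz hz)
          (fun h1 => hzi ((eq_inv_of_mul_eq_one_left h1).trans (hinv z hz.1))) ?_
        rw [map_mul, hz2, hc _ hz.1 _ hcz.1]
  obtain ⟨u0, hu0, hu01⟩ := hU0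
  obtain ⟨u, ⟨hu, hu3⟩, hu1, hau⟩ := hfix k u0 hu0 hu01 (by
    rw [hca, ← map_pow, ha, map_one]; rfl)
  set u1 := cy u with hu1def
  have hu1V : u1 ∈ V := hmemy u hu
  have hu2 : cy u1 = u * u1 := by
    have h1 : cy u1 = (u * u1)⁻¹ := (inv_eq_of_mul_eq_one_right hu3).symm
    rw [h1, hinv _ (mul_mem hu hu1V)]
  have hne1 : u1 ≠ u := fun h => hu1 (mul_right_cancel ((hu2.symm.trans (congrArg cy h)).trans (one_mul u1).symm))
  have hu11 : u1 ≠ 1 := fun h => hu1 ((cy.map_eq_one_iff).1 h)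
  have h12 : u * u1 ≠ 1 := fun h => hne1 ((eq_inv_of_mul_eq_one_right h).trans (hinv u hu))
  have h12' : u * u1 ≠ u := fun h => hu11 (mul_left_cancel (h.trans (mul_one u).symm))
  have h12'' : u * u1 ≠ u1 := fun h => hu1 (mul_right_cancel (h.trans (one_mul u1).symm))
  let W : Subgroup Q :=
    { carrier := {1, u, u1, u * u1}
      one_mem' := Or.inl rfl
      mul_mem' := by
        have e21 : u1 * u = u * u1 := hc u1 hu1V u hu
        have e3 : u * (u * u1) = u1 := by rw [← mul_assoc, h2 u hu, one_mul]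
        have e4 : u * u1 * u1 = u := by rw [mul_assoc, h2 u1 hu1V, mul_one]
        have e5 : u1 * (u * u1) = u := by rw [← mul_assoc, e21, e4]
        have e6 : u * u1 * u = u1 := by rw [mul_assoc, e21, e3]
        rintro z w (ez | ez | ez | ez) (ew | ew | ew | ew) <;> rw [ez, ew] <;>
          simp [ e21, e3, e4, e5, e6, h2 u hu, h2 u1 hu1V, h2 _ (mul_mem hu hu1V)]
      inv_mem' := by
        rintro z (e | e | e | e) <;> rw [e]
        · exact Or.inl inv_one
        · exact Or.inr (Or.inl (hinv u hu))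
        · exact Or.inr (Or.inr (Or.inl (hinv u1 hu1V)))
        · exact Or.inr (Or.inr (Or.inr (hinv _ (mul_mem hu hu1V)))) }
  have hWcard : Nat.card W = 4 := by
    rw [show Nat.card W = ({1, u, u1, u * u1} : Set Q).ncard from rfl,
      Set.ncard_insert_of_notMem (by simp [Ne.symm hu1, Ne.symm hu11, Ne.symm h12]),
      Set.ncard_insert_of_notMem (by simp [Ne.symm hne1, Ne.symm h12']), Set.ncard_pair (Ne.symm h12'')]
  have hWV : W ≤ V := by
    rintro z (e | e | e | e) <;> rw [e]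
    exacts [one_mem _, hu, hu1V, mul_mem hu hu1V]
  have hyW : y ∈ Subgroup.normalizer (W : Set Q) := mem_normalizer_of_maps W (by
    intro z hz
    show cy z ∈ W
    rcases hz with e | e | e | e <;> rw [e]
    · rw [map_one]; exact Or.inl rfl
    · exact Or.inr (Or.inr (Or.inl rfl))
    · exact Or.inr (Or.inr (Or.inr hu2))
    · rw [map_mul, ← hu1def, hu2, hc u1 hu1V _ (mul_mem hu hu1V), mul_assoc, h2 u1 hu1V, mul_one]
      exact Or.inr (Or.inl rfl))
  have hau1 : ca u1 = u * u1 := by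
    calc ca u1 = ca (cy (cy (cy (cy u)))) := by rw [hcy3 _ hu1V]
      _ = cy (ca (cy (cy u))) := (hay' _ (hmemy _ (hmemy u hu))).symm
      _ = cy (cy (ca u)) := by rw [hay' u hu]
      _ = u * u1 := by rw [hau, ← hu1def, hu2]
  have haW : a ∈ Subgroup.normalizer (W : Set Q) := mem_normalizer_of_maps W (by
    intro z hz
    show ca z ∈ W
    rcases hz with e | e | e | e <;> rw [e]
    · rw [map_one]; exact Or.inl rfl
    · exact Or.inr (Or.inl hau)
    · exact Or.inr (Or.inr (Or.inr hau1))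
    · rw [map_mul, hau, hau1, ← mul_assoc, h2 u hu, one_mul]
      exact Or.inr (Or.inr (Or.inl rfl)))
  set K := W ⊔ Subgroup.closure ({a, y} : Set Q) with hK
  have hKN : K ≤ Subgroup.normalizer (W : Set Q) := sup_le Subgroup.le_normalizer
    ((Subgroup.closure_le _).2 (by rintro _ (rfl | rfl) <;> assumption))
  haveI hWn : (W.subgroupOf K).Normal := (Subgroup.normal_subgroupOf_iff_le_normalizer (le_sup_left : W ≤ K)).2 hKN
  have hyK : y ∈ K := (le_sup_right : _ ≤ K) (Subgroup.subset_closure (Or.inr rfl))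
  have haK : a ∈ K := (le_sup_right : _ ≤ K) (Subgroup.subset_closure (Or.inl rfl))
  refine Cfsg.Agent.Local.involves_of_injective K.subtype K.subtype_injective
    (Cfsg.Agent.Local.involves_perm_four_of_inverted (W.subgroupOf K) ?_ ⟨y, hyK⟩ ⟨a, haK⟩ ?_ ?_ ?_ ?_)
  · rw [← hWcard]
    exact Nat.card_congr (Subgroup.subgroupOfEquivOfLe (le_sup_left : W ≤ K)).toEquiv
  · exact fun w hw => Subtype.ext (hy3 _ (hWV (Subgroup.mem_subgroupOf.1 hw)))
  · intro w hw hcw
    have h1 : cy (w : Q) = w := mul_inv_eq_iff_eq_mul.2 (congrArg Subtype.val hcw)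
    refine Subtype.ext ?_
    rcases Subgroup.mem_subgroupOf.1 hw with h | h | h | h
    · exact h
    · rw [h] at h1; exact absurd h1 hne1
    · rw [h, hu2] at h1; exact absurd h1 h12''
    · rw [h, map_mul, ← hu1def, hu2, hc u1 hu1V _ (mul_mem hu hu1V), mul_assoc, h2 u1 hu1V, mul_one] at h1
      exact absurd h1.symm h12'
  · exact fun w hw => Subtype.ext (hay _ (hWV (Subgroup.mem_subgroupOf.1 hw)))
  · let ψ : K →* MulAut (W.subgroupOf K) := MulAut.conjNormal
    let Y := ψ ⟨y, hyK⟩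
    have hYa : ψ ⟨a, haK⟩ * Y * (ψ ⟨a, haK⟩)⁻¹ = Y⁻¹ := by
      rw [eq_inv_iff_mul_eq_one, ← map_inv, ← map_mul, ← map_mul, ← map_mul]
      refine MulEquiv.ext fun w => Subtype.ext (Subtype.ext ?_)
      rw [MulAut.conjNormal_apply, MulAut.one_apply]
      have h1 := (hay _ (hWV (Subgroup.mem_subgroupOf.1 w.2))).eq
      show (a * y * a⁻¹ * y) * ((w : K) : Q) * (a * y * a⁻¹ * y)⁻¹ = _
      rw [h1, mul_inv_cancel_right]
    have hW1 : W ≤ ((ψ.ker).map K.subtype) := by
      intro w hw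
      refine ⟨⟨w, (le_sup_left : W ≤ K) hw⟩, MulEquiv.ext fun z => Subtype.ext (Subtype.ext ?_), rfl⟩
      rw [MulAut.conjNormal_apply, MulAut.one_apply]
      show w * ((z : K) : Q) * w⁻¹ = _
      rw [hc _ (hWV hw) _ (hWV (Subgroup.mem_subgroupOf.1 z.2)), mul_inv_cancel_right]
    have hle : K ≤ ((Subgroup.normalizer ((Subgroup.zpowers Y : Subgroup (MulAut (W.subgroupOf K))) : Set (MulAut (W.subgroupOf K)))).comap ψ).map K.subtype := by
      refine sup_le (hW1.trans (Subgroup.map_mono fun z hz => Subgroup.mem_comap.2 ((hz : ψ z = 1) ▸ one_mem _))) ((Subgroup.closure_le _).2 ?_)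
      rintro _ (e | e)
      · refine ⟨⟨a, haK⟩, Subgroup.mem_comap.2 (mem_normalizer_of_maps _ ?_), e.symm⟩
        intro n hn
        obtain ⟨t, rfl⟩ := hn
        show _ * Y ^ t * _ ∈ _
        rw [← conj_zpow, hYa]
        exact zpow_mem (inv_mem (Subgroup.mem_zpowers Y)) t
      · exact ⟨⟨y, hyK⟩, Subgroup.mem_comap.2 (Subgroup.le_normalizer (Subgroup.mem_zpowers Y)), e.symm⟩
    constructor
    intro z hz g
    obtain ⟨g', hg', e⟩ := hle g.2
    obtain rfl : g' = g := Subtype.ext e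
    rw [Subgroup.mem_comap, map_mul, map_mul, map_inv]
    exact (Subgroup.mem_normalizer_iff.1 hg' _).1 hz

theorem twolocal {G : Type*} [Group G] [Finite G] (T : Subgroup G) (hT : IsPGroup 2 T) (a y : G) (k : ℕ)
    (ha : a ^ 2 ^ k = 1) (haT : a ∈ Subgroup.normalizer (T : Set G)) (hyT : y ∈ Subgroup.normalizer (T : Set G))
    (hy3 : ∀ t ∈ T, Commute (y ^ 3) t) (hay : ∀ t ∈ T, Commute (a * y * a⁻¹ * y) t) (hne : ∃ t ∈ T, ¬ Commute y t) :
    Cfsg.Involves (Equiv.Perm (Fin 4)) G := by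
  classical
  let S : Set (Subgroup G) := {U | U ≤ T ∧ (∀ x ∈ U, a * x * a⁻¹ ∈ U) ∧ (∀ x ∈ U, y * x * y⁻¹ ∈ U) ∧ ∃ x ∈ U, ¬ Commute y x}
  obtain ⟨T1, ⟨hT1, haT1, hyT1, hne1⟩, hmin⟩ := wellFounded_lt.has_min S
    ⟨T, le_rfl, fun x hx => (Subgroup.mem_normalizer_iff.1 haT x).1 hx,
      fun x hx => (Subgroup.mem_normalizer_iff.1 hyT x).1 hx, hne⟩
  set N := Subgroup.closure {z : G | ∃ x ∈ T1, x ^ 2 = z} with hN
  have hNT : N ≤ T1 := (Subgroup.closure_le _).2 (by rintro _ ⟨x, hx, rfl⟩; exact pow_mem hx 2)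
  have hNinv : ∀ g : G, (∀ x ∈ T1, g * x * g⁻¹ ∈ T1) → ∀ z ∈ N, g * z * g⁻¹ ∈ N := by
    intro g hg z hz
    have h1 : N ≤ N.comap (MulAut.conj g).toMonoidHom := by
      rw [hN, Subgroup.closure_le]
      rintro _ ⟨x, hx, rfl⟩
      exact Subgroup.subset_closure ⟨g * x * g⁻¹, hg x hx, conj_pow⟩
    exact h1 hz
  have hNne : N < T1 := by
    refine lt_of_le_of_ne hNT fun e => ?_
    have hT1p : IsPGroup 2 T1 := hT.to_le hT1
    obtain ⟨n, hn⟩ := IsPGroup.iff_card.1 hT1p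
    rcases n with _ | n
    · obtain ⟨x, hx, hxc⟩ := hne1
      have hbot : T1 = ⊥ := Subgroup.card_eq_one.1 (by simpa using hn)
      rw [hbot] at hx
      rw [Subgroup.mem_bot.1 hx] at hxc
      exact hxc (Commute.one_right y)
    · obtain ⟨Kmax, hKmax⟩ := Sylow.exists_subgroup_card_pow_prime 2 (G := T1) (n := n) (hn ▸ pow_dvd_pow 2 n.le_succ)
      have hidx : Kmax.index = 2 := by
        have h1 := Kmax.card_mul_index
        rw [hKmax, hn, pow_succ] at h1
        exact Nat.eq_of_mul_eq_mul_left (by positivity) h1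
      have h2 : N ≤ Kmax.map T1.subtype := by
        rw [hN, Subgroup.closure_le]
        rintro _ ⟨x, hx, rfl⟩
        exact ⟨⟨x, hx⟩ ^ 2, Subgroup.sq_mem_of_index_two hidx _, rfl⟩
      rw [e] at h2
      have h3 := Subgroup.card_le_of_le h2
      rw [Subgroup.card_map_of_injective T1.subtype_injective, hKmax, hn, pow_succ] at h3
      have : 0 < 2 ^ n := by positivity
      omega
  have hNc : ∀ z ∈ N, Commute y z := by
    by_contra h
    push Not at h
    exact hmin N ⟨hNT.trans hT1, fun z hz => hNinv a haT1 z hz, fun z hz => hNinv y hyT1 z hz, h⟩ hNne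
  set H := T1 ⊔ Subgroup.closure ({a, y} : Set G) with hH
  have hT1H : T1 ≤ H := le_sup_left
  have hHle : ∀ U : Subgroup G, (∀ g ∈ T1, ∀ x ∈ U, g * x * g⁻¹ ∈ U) → (∀ x ∈ U, a * x * a⁻¹ ∈ U) →
      (∀ x ∈ U, y * x * y⁻¹ ∈ U) → H ≤ Subgroup.normalizer (U : Set G) := fun U h1 h2 h3 =>
    sup_le (fun g hg => mem_normalizer_of_maps U (h1 g hg)) ((Subgroup.closure_le _).2 (by
      rintro _ (rfl | rfl)
      · exact mem_normalizer_of_maps U h2
      · exact mem_normalizer_of_maps U h3))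
  haveI hNn : (N.subgroupOf H).Normal := (Subgroup.normal_subgroupOf_iff_le_normalizer (hNT.trans hT1H)).2
    (hHle N (fun g hg => hNinv g fun x hx => mul_mem (mul_mem hg hx) (inv_mem hg)) (hNinv a haT1) (hNinv y hyT1))
  haveI hTn : (T1.subgroupOf H).Normal := (Subgroup.normal_subgroupOf_iff_le_normalizer hT1H).2
    (hHle T1 (fun g hg x hx => mul_mem (mul_mem hg hx) (inv_mem hg)) haT1 hyT1)
  set π := QuotientGroup.mk' (N.subgroupOf H) with hπ
  have hπs : Function.Surjective π := QuotientGroup.mk'_surjective _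
  have hyH : y ∈ H := (le_sup_right : _ ≤ H) (Subgroup.subset_closure (Or.inr rfl))
  have haH : a ∈ H := (le_sup_right : _ ≤ H) (Subgroup.subset_closure (Or.inl rfl))
  refine Cfsg.Agent.Local.involves_of_injective H.subtype H.subtype_injective
    (Cfsg.Agent.Local.involves_of_surjective π hπs ?_)
  haveI : ((T1.subgroupOf H).map π).Normal := Subgroup.Normal.map hTn π hπs
  refine core ((T1.subgroupOf H).map π) ?_ (π ⟨a, haH⟩) (π ⟨y, hyH⟩) k ?_ ?_ ?_ ?_
  · rintro _ ⟨x, hx, rfl⟩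
    rw [← map_mul]
    exact (QuotientGroup.eq_one_iff _).2 (Subgroup.mem_subgroupOf.2
      (Subgroup.subset_closure ⟨x, Subgroup.mem_subgroupOf.1 hx, (pow_two (x : G))⟩))
  · rw [← map_pow, show (⟨a, haH⟩ : H) ^ 2 ^ k = 1 from Subtype.ext ha, map_one]
  · rintro _ ⟨x, hx, rfl⟩
    rw [← map_pow]
    exact Commute.map (show Commute ((⟨y, hyH⟩ : H) ^ 3) x from Subtype.ext (hy3 _ (hT1 (Subgroup.mem_subgroupOf.1 hx)))) π
  · rintro _ ⟨x, hx, rfl⟩
    rw [← map_inv, ← map_mul, ← map_mul, ← map_mul]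
    exact Commute.map (show Commute ((⟨a, haH⟩ : H) * ⟨y, hyH⟩ * ⟨a, haH⟩⁻¹ * ⟨y, hyH⟩) x from Subtype.ext (hay _ (hT1 (Subgroup.mem_subgroupOf.1 hx)))) π
  · by_contra hall
    push Not at hall
    obtain ⟨x, hx, hxc⟩ := hne1
    have h1 : π ⟨y * x * y⁻¹ * x⁻¹, mul_mem (mul_mem (mul_mem hyH (hT1H hx)) (inv_mem hyH)) (inv_mem (hT1H hx))⟩ = 1 := by
      have h := (hall _ ⟨⟨x, hT1H hx⟩, Subgroup.mem_subgroupOf.2 hx, rfl⟩).eq
      have e : (⟨y * x * y⁻¹ * x⁻¹, mul_mem (mul_mem (mul_mem hyH (hT1H hx)) (inv_mem hyH)) (inv_mem (hT1H hx))⟩ : H) =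
        ⟨y, hyH⟩ * ⟨x, hT1H hx⟩ * ⟨y, hyH⟩⁻¹ * ⟨x, hT1H hx⟩⁻¹ := rfl
      rw [e, map_mul, map_mul, map_mul, map_inv, map_inv, h, mul_inv_cancel_right, mul_inv_cancel]
    have hn : y * x * y⁻¹ * x⁻¹ ∈ N := Subgroup.mem_subgroupOf.1 ((QuotientGroup.eq_one_iff _).1 h1)
    set n := y * x * y⁻¹ * x⁻¹ with hndef
    have hcn : y * n * y⁻¹ = n := by rw [(hNc n hn).eq, mul_inv_cancel_right]
    have e1 : y * x * y⁻¹ = n * x := by rw [hndef]; group
    have e3 : y ^ 3 * x * (y ^ 3)⁻¹ = n * n * n * x := by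
      calc y ^ 3 * x * (y ^ 3)⁻¹ = y * (y * (n * x) * y⁻¹) * y⁻¹ := by
            rw [← e1]; simp only [pow_succ, pow_zero, one_mul]; group
        _ = y * ((y * n * y⁻¹) * (y * x * y⁻¹)) * y⁻¹ := by group
        _ = y * (n * (n * x)) * y⁻¹ := by rw [hcn, e1]
        _ = (y * n * y⁻¹) * (y * n * y⁻¹) * (y * x * y⁻¹) := by group
        _ = n * n * n * x := by rw [hcn, e1]; group
    rw [(hy3 x (hT1 hx)).eq, mul_inv_cancel_right] at e3
    have h3 : n ^ 3 = 1 := by
      have := mul_right_cancel (e3.symm.trans (one_mul x).symm)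
      rw [pow_succ, pow_two]; exact this
    obtain ⟨j, hj⟩ := (IsPGroup.iff_orderOf.1 hT) ⟨n, hT1 (hNT hn)⟩
    rw [Subgroup.orderOf_mk] at hj
    have h4 := orderOf_dvd_of_pow_eq_one h3
    rw [hj] at h4
    have h5 : n = 1 := by
      rcases j with _ | j
      · exact orderOf_eq_one_iff.1 (by simpa using hj)
      · have := (dvd_pow_self 2 j.succ_ne_zero).trans h4
        omega
    exact hxc (mul_inv_eq_iff_eq_mul.1 (mul_inv_eq_one.1 (hndef ▸ h5)))


/-- For a finite group G, the symmetric group of degree 4 is involved in G if and only if there is a 2-subgroup T of G such that the symmetric group of degree 3 is involved in N(T)/C(T). -/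
theorem result {G : Type*} [Group G] [Finite G] : Cfsg.Involves (Equiv.Perm (Fin 4)) G ↔ ∃ T : Subgroup G, IsPGroup 2 ↥T ∧ Cfsg.Involves (Equiv.Perm (Fin 3)) (↥(Subgroup.normalizer (T : Set G)) ⧸ (Subgroup.centralizer (T : Set G)).subgroupOf (Subgroup.normalizer (T : Set G))) := by
  skip
  classical
  constructor
  · rintro ⟨K, R, hn, ⟨e⟩⟩
    let f : ↥K →* Equiv.Perm (Fin 4) := e.toMonoidHom.comp (QuotientGroup.mk' (R.subgroupOf K))
    have hf : Function.Surjective f := e.surjective.comp (QuotientGroup.mk'_surjective _)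
    haveI : V4.Normal := ⟨fun v hv g => vp_conj g v hv⟩
    set M := V4.comap f with hMdef
    haveI : M.Normal := Subgroup.Normal.comap inferInstance f
    let φ : M →* V4 := f.subgroupComap V4
    have hφ : Function.Surjective φ := MonoidHom.subgroupComap_surjective_of_surjective f V4 hf
    obtain ⟨P⟩ := Sylow.nonempty (p := 2) (G := ↥M)
    set Pm := (P : Subgroup M).map M.subtype with hPm
    have hPtop : (P : Subgroup M).map φ = ⊤ := by
      have h1 := Subgroup.index_map_dvd (H := (P : Subgroup M)) (f := φ) hφ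
      have h2 := Subgroup.index_dvd_card (G := V4) (H := (P : Subgroup M).map φ)
      rw [card_V4] at h2
      have h3 : ¬ 2 ∣ ((P : Subgroup M).map φ).index := fun h => P.not_dvd_index (h.trans h1)
      have h4 : ((P : Subgroup M).map φ).index ≤ 4 := Nat.le_of_dvd (by norm_num) h2
      refine Subgroup.index_eq_one.1 ?_
      interval_cases hi : ((P : Subgroup M).map φ).index <;> simp_all
    set T := Pm.map K.subtype with hT
    refine ⟨T, (P.isPGroup'.map _).map _, ?_⟩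
    set N' := Subgroup.normalizer (Pm : Set K) with hN'
    have hle : ∀ n : N', ((n : K) : G) ∈ Subgroup.normalizer (T : Set G) := fun n =>
      Subgroup.le_normalizer_map K.subtype ⟨n, n.2, rfl⟩
    haveI : ((Subgroup.centralizer (T : Set G)).subgroupOf (Subgroup.normalizer (T : Set G))).Normal := inferInstance
    let ι : ↥N' →* ↥(Subgroup.normalizer (T : Set G)) :=
      MonoidHom.codRestrict ((K.subtype).comp (N'.subtype)) _ hle
    let θ := (QuotientGroup.mk' ((Subgroup.centralizer (T : Set G)).subgroupOf (Subgroup.normalizer (T : Set G)))).comp ι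
    let g : ↥N' →* Equiv.Perm (Fin 3) := h43.comp (f.comp N'.subtype)
    have hker : θ.ker ≤ g.ker := by
      intro n hn1
      have h1 : ((n : K) : G) ∈ Subgroup.centralizer (T : Set G) :=
        Subgroup.mem_subgroupOf.1 ((QuotientGroup.eq_one_iff (ι n)).1 hn1)
      refine h43_eq_one _ (vp_centralizer _ fun v hv => ?_)
      obtain ⟨x, hx, hxv⟩ : (⟨v, hv⟩ : V4) ∈ (P : Subgroup M).map φ := by rw [hPtop]; trivial
      have h2 : (x : K) * (n : K) = (n : K) * x := Subtype.ext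
        (Subgroup.mem_centralizer_iff.1 h1 _ ⟨_, ⟨x, hx, rfl⟩, rfl⟩)
      have h3 := congrArg f h2
      rw [map_mul, map_mul, show f (x : K) = v from congrArg Subtype.val hxv] at h3
      exact h3.symm
    have hg : Function.Surjective g := by
      intro π
      obtain ⟨σ, rfl⟩ := h43_surj π
      obtain ⟨x, rfl⟩ := hf σ
      obtain ⟨n, hn', m, hm, rfl⟩ := Subgroup.mem_sup_of_normal_right.1
        (show x ∈ N' ⊔ M by rw [hN', hPm, Sylow.normalizer_sup_eq_top P]; trivial)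
      refine ⟨⟨n, hn'⟩, ?_⟩
      show h43 (f n) = h43 (f (n * m))
      rw [map_mul, map_mul, h43_eq_one _ (Subgroup.mem_comap.1 hm), mul_one]
    refine Cfsg.Agent.Local.involves_of_hom (QuotientGroup.kerLift θ) (QuotientGroup.kerLift_injective θ)
      (QuotientGroup.lift θ.ker g hker) ?_
    intro π
    obtain ⟨n, rfl⟩ := hg π
    exact ⟨(n : ↥N' ⧸ θ.ker), rfl⟩
  · rintro ⟨T, hT, hinv⟩
    obtain ⟨K, R, hn, ⟨e⟩⟩ := hinv
    obtain ⟨x, y, ⟨k, hk⟩, ⟨l, hl⟩, hy1, hxy⟩ := (Cfsg.Agent.S2758.result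
      (G := ↥(Subgroup.normalizer (T : Set G)) ⧸ (Subgroup.centralizer (T : Set G)).subgroupOf (Subgroup.normalizer (T : Set G)))
      (p := 3) (by decide)).2.1 ⟨K, R, hn, ⟨e.trans eps.symm⟩⟩
    obtain ⟨y, hy3, hxy⟩ : ∃ y', orderOf y' = 3 ∧ x * y' * x⁻¹ = y'⁻¹ := by
      refine ⟨y ^ (orderOf y / 3), ?_, ?_⟩
      · refine orderOf_pow_orderOf_div (orderOf_pos y).ne' ?_
        rcases l with _ | l
        · exact absurd (orderOf_eq_one_iff.1 (by simpa using hl)) hy1
        · rw [hl]; exact dvd_pow_self 3 l.succ_ne_zero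
      · rw [← conj_pow, hxy, inv_pow]
    set π := QuotientGroup.mk' ((Subgroup.centralizer (T : Set G)).subgroupOf (Subgroup.normalizer (T : Set G))) with hπ
    have hπ1 : ∀ z, π z = 1 ↔ (z : G) ∈ Subgroup.centralizer (T : Set G) := fun z =>
      (QuotientGroup.eq_one_iff z).trans Subgroup.mem_subgroupOf
    obtain ⟨a0, rfl⟩ := QuotientGroup.mk'_surjective _ x
    obtain ⟨y0, rfl⟩ := QuotientGroup.mk'_surjective _ y
    obtain ⟨i, m, hm, hcard⟩ := Nat.exists_eq_two_pow_mul_odd (orderOf_pos a0).ne'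
    have hay : π (a0 ^ m * y0 * (a0 ^ m)⁻¹ * y0) = 1 := by
      obtain ⟨t, rfl⟩ := hm
      have h2 : Commute ((π a0) ^ 2) (π y0) := by
        have h1 : π a0 * (π y0)⁻¹ * (π a0)⁻¹ = π y0 := by rw [← conj_inv, hxy, inv_inv]
        refine mul_inv_eq_iff_eq_mul.1 ?_
        calc (π a0) ^ 2 * π y0 * ((π a0) ^ 2)⁻¹ = π a0 * (π a0 * π y0 * (π a0)⁻¹) * (π a0)⁻¹ := by rw [pow_two]; group
          _ = π y0 := by rw [hxy, h1]
      have h3 := (h2.pow_left t).eq
      rw [map_mul, map_mul, map_mul, map_inv, map_pow, pow_succ', pow_mul]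
      calc π a0 * (π a0 ^ 2) ^ t * π y0 * (π a0 * (π a0 ^ 2) ^ t)⁻¹ * π y0
          = π a0 * ((π a0 ^ 2) ^ t * π y0) * ((π a0 ^ 2) ^ t)⁻¹ * (π a0)⁻¹ * π y0 := by group
        _ = π a0 * π y0 * (π a0)⁻¹ * π y0 := by rw [h3]; group
        _ = 1 := by rw [hxy, inv_mul_cancel]
    set a : G := ((a0 ^ m : ↥(Subgroup.normalizer (T : Set G))) : G) with ha
    have hak : a ^ 2 ^ i = 1 := by
      rw [ha, ← SubgroupClass.coe_pow, ← pow_mul, mul_comm, ← hcard, pow_orderOf_eq_one]; rfl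
    refine twolocal T hT a (y0 : G) i hak (a0 ^ m).2 y0.2 ?_ ?_ ?_
    · have h1 : π (y0 ^ 3) = 1 := by
        have h := pow_orderOf_eq_one (π y0)
        rwa [hy3, ← map_pow] at h
      intro t ht
      have h2 := Subgroup.mem_centralizer_iff.1 ((hπ1 _).1 h1) t ht
      exact h2.symm
    · intro t ht
      exact (Subgroup.mem_centralizer_iff.1 ((hπ1 _).1 hay) t ht).symm
    · by_contra hall
      push Not at hall
      have h1 : π y0 = 1 := (hπ1 _).2 (Subgroup.mem_centralizer_iff.2 fun t ht => (hall t ht).eq.symm)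
      rw [h1, orderOf_one] at hy3
      omega

end Cfsg.Agent.S2759
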