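import Cfsg.Statements.S0444
import Cfsg.Agent.Lib.Inv.DihedralPos
import Cfsg.Agent.S2759
-- import your own Cfsg.Agent.* helpers here

set_option autoImplicit false
open Cfsg

namespace Cfsg.Agent.S0444

/-- Two members of a set of 3-transpositions which do not commute generate a subgroup isomorphic to the symmetric group on three letters. -/
theorem result {G : Type*} [Group G] {E : Set G} (hE : Cfsg.IsThreeTranspositionSet E) {d e : G} (hd : d ∈ E) (he : e ∈ E) (h : ¬ Commute d e) : Nonempty (Subgroup.closure ({d, e} : Set G) ≃* Equiv.Perm (Fin 3)) := by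
  have hd2 := hE.1 d hd
  have he2 := hE.1 e he
  haveI : Fact (Nat.Prime 3) := ⟨Nat.prime_three⟩
  have h3 : orderOf (d * e) = 3 := by
    rcases hE.2 d hd e he with h2 | h3
    · refine absurd ?_ h
      have := inv_eq_of_mul_eq_one_right (by rw [← pow_two]; exact h2 : (d * e) * (d * e) = 1)
      rw [Cfsg.Agent.Inv.inv_mul_two hd2 he2] at this
      exact this.symm
    · refine orderOf_eq_prime h3 fun h1 => h ?_
      have : d = e := by
        rw [eq_inv_of_mul_eq_one_left h1, Cfsg.Agent.Inv.inv_eq_self_of_orderOf_two he2]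
      subst this; exact Commute.refl _
  obtain ⟨φ⟩ := Cfsg.Agent.Inv.dihedral_equiv_of_pos hd2 he2 (by rw [h3]; norm_num)
  rw [h3] at φ
  exact ⟨φ.trans Cfsg.Agent.S2759.eps⟩

end Cfsg.Agent.S0444
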