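import Cfsg.Statements.S2572
import Cfsg.Agent.Lib.Struct.TransvectionGL

set_option autoImplicit false
open Cfsg
open Matrix

namespace Cfsg.Agent.S2572

/-- Centraliser of a transvection in GL_n(q), n ≥ 2: if t − 1 has rank one and square zero, the centraliser of t in GL_n(q) has order q^(2n−3) (q − 1) |GL_(n−2)(q)| (a group of order q^(2n−3) extended by GL_1(q) × GL_(n−2)(q)). -/
theorem result {F : Type*} [Field F] [Fintype F] {q n : ℕ} (hF : Fintype.card F = q) (hn : 2 ≤ n) (t : GL (Fin n) F) (ht : Cfsg.IsTransvection (t : Matrix (Fin n) (Fin n) F)) : Nat.card ↥(Subgroup.centralizer ({t} : Set (GL (Fin n) F))) = q ^ (2 * n - 3) * (q - 1) * ∏ i : Fin (n - 2), (q ^ (n - 2) - q ^ (i : ℕ)) := by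
  classical
  set T := (t : Matrix (Fin n) (Fin n) F)
  have hq : 1 < q := hF ▸ Fintype.one_lt_card
  have horb : Nat.card (MulAction.orbit (ConjAct (GL (Fin n) F)) t) =
      Nat.card {u : Matrix (Fin n) (Fin n) F // Cfsg.IsTransvection u} := by
    have hconj : ∀ (g : GL (Fin n) F) (u : Matrix (Fin n) (Fin n) F), Cfsg.IsTransvection u →
        Cfsg.IsTransvection ((g : Matrix (Fin n) (Fin n) F) * u * (g⁻¹ : GL (Fin n) F).val) := by
      intro g u hu
      have e : (g : Matrix (Fin n) (Fin n) F) * u * (g⁻¹ : GL (Fin n) F).val - 1 =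
          (g : Matrix (Fin n) (Fin n) F) * (u - 1) * (g⁻¹ : GL (Fin n) F).val := by
        rw [Matrix.mul_sub, Matrix.sub_mul, Matrix.mul_one, Units.mul_inv]
      refine ⟨?_, ?_⟩
      · rw [e, Matrix.rank_mul_eq_left_of_isUnit_det _ _ ((Matrix.isUnit_iff_isUnit_det _).1 (g⁻¹ : GL (Fin n) F).isUnit),
          Matrix.rank_mul_eq_right_of_isUnit_det _ _ ((Matrix.isUnit_iff_isUnit_det _).1 g.isUnit), hu.1]
      · rw [e]
        calc (g : Matrix (Fin n) (Fin n) F) * (u - 1) * (g⁻¹ : GL (Fin n) F).val * ((g : Matrix (Fin n) (Fin n) F) * (u - 1) * (g⁻¹ : GL (Fin n) F).val)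
            = (g : Matrix (Fin n) (Fin n) F) * (u - 1) * ((g⁻¹ : GL (Fin n) F).val * g) * ((u - 1) * (g⁻¹ : GL (Fin n) F).val) := by
              simp only [Matrix.mul_assoc]
          _ = (g : Matrix (Fin n) (Fin n) F) * ((u - 1) * (u - 1)) * (g⁻¹ : GL (Fin n) F).val := by
              rw [Units.inv_mul, Matrix.mul_one]; simp only [Matrix.mul_assoc]
          _ = 0 := by rw [hu.2, Matrix.mul_zero, Matrix.zero_mul]
    refine Nat.card_eq_of_bijective (fun x => ⟨((x : GL (Fin n) F) : Matrix (Fin n) (Fin n) F), by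
      obtain ⟨g, hg⟩ := isConj_iff.1 (ConjAct.mem_orbit_conjAct.1 x.2).symm
      rw [← hg, Units.val_mul, Units.val_mul]
      exact hconj g T ht⟩) ⟨fun a b h => Subtype.ext (Units.ext (congrArg Subtype.val h)), ?_⟩
    rintro ⟨u, hu⟩
    obtain ⟨g, hg, -⟩ := Cfsg.Agent.Struct.TransvectionGL.exists_conj T u ht hu
    refine ⟨⟨g * t * g⁻¹, ConjAct.mem_orbit_conjAct.2 (isConj_iff.2 ⟨g, rfl⟩).symm⟩, Subtype.ext ?_⟩
    show ((g * t * g⁻¹ : GL (Fin n) F) : Matrix (Fin n) (Fin n) F) = u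
    rw [Units.val_mul, Units.val_mul, hg, Matrix.mul_assoc, Units.mul_inv, Matrix.mul_one]
  have hcard := MulAction.card_orbit_mul_card_stabilizer_eq_card_group (ConjAct (GL (Fin n) F)) t
  rw [← Nat.card_eq_fintype_card, ← Nat.card_eq_fintype_card, ← Nat.card_eq_fintype_card, horb,
    Nat.card_congr (ConjAct.ofConjAct (G := GL (Fin n) F)).toEquiv, ConjAct.stabilizer_eq_centralizer,
    Matrix.card_GL_field] at hcard
  have hC : Nat.card ↥(Subgroup.centralizer ({t} : Set (GL (Fin n) F))) = _ := rfl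
  set X := Nat.card {u : Matrix (Fin n) (Fin n) F // Cfsg.IsTransvection u}
  have hX : X * (q - 1) = (q ^ n - 1) * (q ^ (n - 1) - 1) := hF ▸ Cfsg.Agent.Struct.TransvectionGL.card_transvection hn
  replace hcard : X * Nat.card ↥(Subgroup.centralizer ({t} : Set (GL (Fin n) F))) = ∏ i : Fin n, (q ^ n - q ^ (i : ℕ)) := by
    rw [← hF]; exact hcard
  obtain ⟨m, rfl⟩ : ∃ m, n = m + 2 := ⟨n - 2, by omega⟩
  have hpos : 0 < q ^ (m + 2) - 1 ∧ 0 < q ^ (m + 1) - 1 :=
    ⟨Nat.sub_pos_of_lt (Nat.one_lt_pow (by omega) hq), Nat.sub_pos_of_lt (Nat.one_lt_pow (by omega) hq)⟩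
  rw [Fin.prod_univ_succ, Fin.prod_univ_succ] at hcard
  simp only [Fin.val_zero, pow_zero, Fin.val_succ, zero_add, pow_one] at hcard
  have hfac : ∀ i : ℕ, q ^ (m + 2) - q ^ (i + 1 + 1) = q ^ 2 * (q ^ m - q ^ i) := fun i => by
    rw [Nat.mul_sub, ← pow_add, ← pow_add]; congr 2 <;> omega
  simp only [hfac, Finset.prod_mul_distrib, Finset.prod_const, Finset.card_univ, Fintype.card_fin] at hcard
  rw [show q ^ (m + 2) - q = q * (q ^ (m + 1) - 1) by rw [Nat.mul_sub, mul_one, ← pow_succ']] at hcard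
  rw [show m + 2 - 2 = m by omega, show 2 * (m + 2) - 3 = 2 * m + 1 by omega]
  refine Nat.eq_of_mul_eq_mul_left (Nat.mul_pos hpos.1 hpos.2) ?_
  rw [show m + 2 - 1 = m + 1 by omega] at hX
  rw [← hX]
  have hb : (q ^ 2) ^ m * q = q ^ (2 * m + 1) := by rw [← pow_mul, ← pow_succ]
  calc X * (q - 1) * Nat.card ↥(Subgroup.centralizer ({t} : Set (GL (Fin (m + 2)) F)))
      = (q - 1) * (X * Nat.card ↥(Subgroup.centralizer ({t} : Set (GL (Fin (m + 2)) F)))) := by ring
    _ = (q ^ (m + 2) - 1) * (q ^ (m + 1) - 1) * ((q ^ 2) ^ m * q * (q - 1) * ∏ i : Fin m, (q ^ m - q ^ (i : ℕ))) := by rw [hcard]; ring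
    _ = _ := by rw [hb, hX]

end Cfsg.Agent.S2572
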