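import Cfsg.Statements.S0445
import Cfsg.Agent.S2572

set_option autoImplicit false
open Cfsg
open Matrix

namespace Cfsg.Agent.S0445

/-- In the special linear group of dimension 5 over the field with two elements, the centraliser of a transvection has order 21504 = 2 ^ 7 · 168 (it is an extension of an extraspecial group of order 2 ^ 7 by the simple group of order 168). -/
theorem result (s : Matrix.SpecialLinearGroup (Fin 5) (ZMod 2)) (hs : (s : Matrix (Fin 5) (Fin 5) (ZMod 2)) = Matrix.transvection 0 1 1) : Nat.card (Subgroup.centralizer ({s} : Set (Matrix.SpecialLinearGroup (Fin 5) (ZMod 2)))) = 21504 := by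
  classical
  let t : GL (Fin 5) (ZMod 2) := Matrix.SpecialLinearGroup.toGL s
  have ht : Cfsg.IsTransvection (t : Matrix (Fin 5) (Fin 5) (ZMod 2)) := by
    show Cfsg.IsTransvection (s : Matrix (Fin 5) (Fin 5) (ZMod 2))
    rw [hs]
    refine ⟨?_, ?_⟩
    · rw [Matrix.transvection, add_sub_cancel_left]
      have e : (Matrix.single 0 1 1 : Matrix (Fin 5) (Fin 5) (ZMod 2)) = Matrix.vecMulVec (Pi.single 0 1) (Pi.single 1 1) := by
        decide
      refine le_antisymm (e ▸ Matrix.rank_vecMulVec_le _ _) (Nat.one_le_iff_ne_zero.2 fun h => ?_)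
      rw [Matrix.rank, Submodule.finrank_eq_zero, LinearMap.range_eq_bot] at h
      have := congrFun (LinearMap.congr_fun h (Pi.single 1 1)) 0
      simp at this
    · rw [Matrix.transvection, add_sub_cancel_left]; simp
  have h := Cfsg.Agent.S2572.result (ZMod.card 2) (by norm_num : 2 ≤ 5) t ht
  let e : Subgroup.centralizer ({s} : Set (Matrix.SpecialLinearGroup (Fin 5) (ZMod 2))) →
      Subgroup.centralizer ({t} : Set (GL (Fin 5) (ZMod 2))) := fun x =>
    ⟨Matrix.SpecialLinearGroup.toGL x.1, Subgroup.mem_centralizer_singleton_iff.2 (by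
      rw [← map_mul, ← map_mul, Subgroup.mem_centralizer_singleton_iff.1 x.2])⟩
  have he : Function.Bijective e := by
    refine ⟨fun a b hab => Subtype.ext (Matrix.SpecialLinearGroup.toGL_injective (congrArg Subtype.val hab)), ?_⟩
    rintro ⟨g, hg⟩
    have hd : (g : Matrix (Fin 5) (Fin 5) (ZMod 2)).det = 1 := by
      have h0 : IsUnit (g : Matrix (Fin 5) (Fin 5) (ZMod 2)).det := (Matrix.isUnit_iff_isUnit_det _).1 g.isUnit
      have h1 : ∀ a : ZMod 2, IsUnit a → a = 1 := fun a ha => by
        have h2 : ∀ b : ZMod 2, b ≠ 0 → b = 1 := by decide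
        exact h2 a ha.ne_zero
      exact h1 _ h0
    let g' : Matrix.SpecialLinearGroup (Fin 5) (ZMod 2) := ⟨(g : Matrix (Fin 5) (Fin 5) (ZMod 2)), hd⟩
    have e1 : Matrix.SpecialLinearGroup.toGL g' = g := by ext; rfl
    have hg' : g' ∈ Subgroup.centralizer ({s} : Set (Matrix.SpecialLinearGroup (Fin 5) (ZMod 2))) := by
      refine Subgroup.mem_centralizer_singleton_iff.2 (Matrix.SpecialLinearGroup.toGL_injective ?_)
      rw [map_mul, map_mul, e1]
      exact Subgroup.mem_centralizer_singleton_iff.1 hg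
    exact ⟨⟨g', hg'⟩, Subtype.ext e1⟩
  rw [Nat.card_eq_of_bijective e he, h, show (5 : ℕ) - 2 = 3 from rfl, Fin.prod_univ_three]
  norm_num [Fin.prod_univ_three]

end Cfsg.Agent.S0445
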