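import Cfsg.Statements.S0481
import Cfsg.Agent.Lib.Solv.LargeBasics
-- import your own Cfsg.Agent.* helpers here

set_option autoImplicit false
open Cfsg

namespace Cfsg.Agent.S0481

/-- Large extraspecial subgroups: let z be an involution of a finite group G whose centraliser C contains a normal 2-subgroup Q with centre of order 2 and all squares central, such that every element of G centralising Q lies in Q. Then C contains a Sylow 2-subgroup of G, and any involution of G whose centraliser contains a Sylow 2-subgroup of G is conjugate to z. -/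
theorem result {G : Type*} [Group G] [Finite G] (z : G) (hz : orderOf z = 2) (Q : Subgroup G) (hQC : Q ≤ Subgroup.centralizer ({z} : Set G)) (hQn : ∀ g ∈ Subgroup.centralizer ({z} : Set G), ∀ q ∈ Q, g * q * g⁻¹ ∈ Q) (hQ2 : IsPGroup 2 Q) (hZ : Nat.card (Subgroup.center Q) = 2) (hsq : ∀ x : Q, x ^ 2 ∈ Subgroup.center Q) (hlarge : Subgroup.centralizer (Q : Set G) ≤ Q) : (∃ P : Sylow 2 G, (P : Subgroup G) ≤ Subgroup.centralizer ({z} : Set G)) ∧ ∀ u : G, orderOf u = 2 → (∃ P : Sylow 2 G, (P : Subgroup G) ≤ Subgroup.centralizer ({u} : Set G)) → IsConj z u := by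
  haveI : Fact (Nat.Prime 2) := ⟨Nat.prime_two⟩
  have hzQ : z ∈ Q := hlarge (Subgroup.mem_centralizer_iff.mpr fun q hq =>
    Subgroup.mem_centralizer_singleton_iff.mp (hQC hq))
  have hzc : (⟨z, hzQ⟩ : Q) ∈ Subgroup.center Q := Subgroup.mem_center_iff.mpr fun q =>
    Subtype.ext (Subgroup.mem_centralizer_singleton_iff.mp (hQC q.2))
  have heq : Subgroup.zpowers (⟨z, hzQ⟩ : Q) = Subgroup.center Q :=
    Subgroup.eq_of_le_of_card_ge (Subgroup.zpowers_le.mpr hzc)
      (by rw [hZ, Nat.card_zpowers, Subgroup.orderOf_mk, hz])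
  have hC : ∀ x : G, (∀ q ∈ Q, q * x = x * q) → x ∈ Subgroup.zpowers z := by
    intro x hx
    have hxQ : x ∈ Q := hlarge (Subgroup.mem_centralizer_iff.mpr fun q hq => hx q hq)
    have h : (⟨x, hxQ⟩ : Q) ∈ Subgroup.zpowers (⟨z, hzQ⟩ : Q) := by
      rw [heq]; exact Subgroup.mem_center_iff.mpr fun q => Subtype.ext (hx q q.2)
    obtain ⟨i, hi⟩ := Subgroup.mem_zpowers_iff.mp h
    exact ⟨i, by simpa using congrArg Subtype.val hi⟩
  obtain ⟨T, hT⟩ := IsPGroup.exists_le_sylow hQ2
  obtain ⟨h1, h2⟩ := Cfsg.Agent.Solv.LargeBasics.sylow_le_centralizer hz hC T hT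
  refine ⟨⟨T, h1⟩, fun u hu ⟨P, hP⟩ => ?_⟩
  obtain ⟨g, rfl⟩ := MulAction.exists_smul_eq G P T
  have huP : u ∈ (P : Subgroup G) := by
    haveI : Fact (Nat.Prime 2) := ⟨Nat.prime_two⟩
    have hsup : Subgroup.zpowers u ⊔ (P : Subgroup G) = P := P.is_maximal'
      (IsPGroup.to_sup_of_normal_right' (IsPGroup.of_card (n := 1) (by rw [Nat.card_zpowers, hu, pow_one]))
        P.isPGroup' (Subgroup.zpowers_le.mpr (Subgroup.centralizer_le_normalizer _
          (Subgroup.mem_centralizer_iff.mpr fun q hq => Subgroup.mem_centralizer_singleton_iff.mp (hP hq)))))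
      le_sup_right
    exact hsup.le (Subgroup.mem_sup_left (Subgroup.mem_zpowers u))
  have hmem : ∀ t : G, t ∈ ((g • P : Sylow 2 G) : Subgroup G) → g⁻¹ * t * g ∈ (P : Subgroup G) := by
    intro t ht
    rw [Sylow.coe_subgroup_smul, Subgroup.mem_pointwise_smul_iff_inv_smul_mem] at ht
    simpa [MulAut.smul_def, MulAut.inv_def] using ht
  have hgu : g * u * g⁻¹ ∈ ((g • P : Sylow 2 G) : Subgroup G) := by
    rw [Sylow.coe_subgroup_smul]
    exact Subgroup.smul_mem_pointwise_smul u (MulAut.conj g) _ huP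
  have := h2 _ hgu (fun e => by rw [conj_eq_one_iff] at e; rw [e, orderOf_one] at hu; omega) fun t ht => by
    have h9 := congrArg (fun s => g * s * g⁻¹) (Subgroup.mem_centralizer_singleton_iff.mp (hP (hmem t ht)))
    simpa [mul_assoc] using h9
  exact (isConj_iff.mpr ⟨g, this⟩).symm

end Cfsg.Agent.S0481
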