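import Cfsg.Statements.S0493
import Cfsg.Agent.Lib.Classical.SimpleOrder
-- import your own Cfsg.Agent.* helpers here

set_option autoImplicit false
open Cfsg

namespace Cfsg.Agent.S0493

/-- A finite simple group of order at most 100 that is not cyclic has order 60. -/
theorem result {G : Type*} [Group G] [Finite G] [IsSimpleGroup G]
    (hG : ¬ IsCyclic G) (h : Nat.card G ≤ 100) : Nat.card G = 60 := by
  classical
  have hna : ¬ IsMulCommutative G := fun hc => hG (by
    let _ : CommGroup G := { (inferInstance : Group G) with mul_comm := fun a b => hc.is_comm.comm a b }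
    exact inferInstance)
  have key : ∀ n : Fin 101, n.val = 60 ∨ n.val ≤ 1 ∨ n.val % 4 = 2 ∨ n.val = 56 ∨
      ∃ p ∈ [2, 3, 5, 7, 11, 13, 17, 19, 23, 29, 31, 37, 41, 43, 47, 53, 59, 61, 67, 71, 73, 79, 83, 89, 97],
        ∃ k ∈ [1, 2, 3, 4, 5, 6], p ^ k ∣ n.val ∧ ¬ p ∣ n.val / p ^ k ∧
          ∀ d ∈ List.range (n.val / p ^ k + 1), d ∣ n.val / p ^ k → d % p = 1 → 1 < d →
            ¬ 2 * n.val ∣ d.factorial := by
    decide +kernel
  have hprimes : ∀ p ∈ [2, 3, 5, 7, 11, 13, 17, 19, 23, 29, 31, 37, 41, 43, 47, 53, 59, 61, 67, 71, 73, 79, 83, 89, 97],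
      Nat.Prime p := by
    simp only [List.forall_mem_cons, and_true, List.not_mem_nil, IsEmpty.forall_iff, implies_true]
    norm_num
  have h1 : 1 < Nat.card G := Finite.one_lt_card
  rcases key ⟨Nat.card G, by omega⟩ with h60 | h0 | h2 | h56 | ⟨p, hp, k, hk, hdvd, hnd, hcrit⟩
  · exact h60
  · simp only at h0; omega
  · exfalso
    simp only at h2
    have : Fact (Nat.Prime 2) := ⟨Nat.prime_two⟩
    obtain ⟨P⟩ : Nonempty (Sylow 2 G) := inferInstance
    have hc : Nat.card G = 2 ^ 1 * (Nat.card G / 2) := by omega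
    have hP : Nat.card P = 2 := by
      simpa using Cfsg.Agent.Classical.SimpleOrder.card_sylow_eq P hc (by omega)
    have h := Cfsg.Agent.Classical.SimpleOrder.relIndex_dvd_pred P hP
    exact Cfsg.Agent.Classical.SimpleOrder.not_normalizer_le_centralizer hna (by omega) P
      (Subgroup.relIndex_eq_one.mp (Nat.dvd_one.mp h))
  · exfalso
    simp only at h56
    have : Fact (Nat.Prime 7) := ⟨by norm_num⟩
    obtain ⟨P⟩ : Nonempty (Sylow 7 G) := inferInstance
    have hc : Nat.card G = 7 ^ 1 * 8 := by omega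
    obtain ⟨a, b, c, -⟩ := Cfsg.Agent.Classical.SimpleOrder.sylow_number (p := 7) hna hc one_pos (by norm_num)
    have ha := Nat.le_of_dvd (by norm_num) a
    have h8 : Nat.card (Sylow 7 G) = 8 := by omega
    have hN := Cfsg.Agent.Classical.SimpleOrder.card_normalizer_mul P
    rw [h8, h56] at hN
    have hP : Nat.card P = 7 := by
      simpa using Cfsg.Agent.Classical.SimpleOrder.card_sylow_eq P hc (by norm_num)
    have hle := Cfsg.Agent.Classical.SimpleOrder.le_centralizer_of_card_prime P hP
    have hPN : (P : Subgroup G) = Subgroup.normalizer ((P : Subgroup G) : Set G) :=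
      Subgroup.eq_of_le_of_card_ge Subgroup.le_normalizer
        (by rw [hP]; omega)
    exact Cfsg.Agent.Classical.SimpleOrder.not_normalizer_le_centralizer hna (by omega) P
      (le_of_eq_of_le hPN.symm hle)
  · exfalso
    simp only at hdvd hnd hcrit
    have : Fact p.Prime := ⟨hprimes p hp⟩
    have hk0 : 0 < k := by
      simp only [List.mem_cons, List.not_mem_nil, or_false] at hk
      omega
    obtain ⟨a, b, c, d⟩ := Cfsg.Agent.Classical.SimpleOrder.sylow_number (p := p) hna
      (Nat.mul_div_cancel' hdvd).symm hk0 hnd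
    exact hcrit _ (List.mem_range.mpr (Nat.lt_succ_of_le (Nat.le_of_dvd
      (Nat.div_pos (Nat.le_of_dvd (by omega) hdvd) (pow_pos (hprimes p hp).pos k)) a))) a b c d

end Cfsg.Agent.S0493
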