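import Cfsg.Statements.S0495
import Cfsg.Agent.Lib.Classical.Order168Unique
import Cfsg.Agent.Lib.Classical.SL2

set_option autoImplicit false
open Cfsg

open Cfsg.Agent.Classical

namespace Cfsg.Agent.S0495

/-- A simple group of order 168 is isomorphic to the projective special linear group of dimension 2 over the field with
7 elements. -/
theorem result {G : Type*} [Group G] [Finite G] [IsSimpleGroup G]
    (h : Nat.card G = 168) {F : Type*} [Field F] [Fintype F] (hF : Fintype.card F = 7) :
    Nonempty (G ≃* Matrix.ProjectiveSpecialLinearGroup (Fin 2) F) := by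
  classical
  haveI := Matrix.ProjectiveSpecialLinearGroup.rank_two_simple (F := F)
    (by rw [Nat.card_eq_fintype_card]; omega)
  refine Order168.nonempty_mulEquiv h ?_
  have h' := SL2.card_PSL2_mul (F := F)
  rw [hF] at h'
  rw [show Nat.gcd 2 (7 - 1) = 2 from rfl] at h'
  omega

end Cfsg.Agent.S0495
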