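import Cfsg.Statements.S0992
import Cfsg.Agent.Lib.Classical.SimpleOrder

set_option autoImplicit false
open Cfsg

open Cfsg.Agent.Classical
open scoped Pointwise

namespace Cfsg.Agent.S0992

/-- Let G be a non-abelian finite simple group of even order not divisible by 8, and T a Sylow 2-subgroup. Then T is a Klein four-group and the centralizer of T has index 3 in the normalizer of T. -/
theorem result {G : Type*} [Group G] [Finite G] [IsSimpleGroup G] (hG : ¬ IsMulCommutative G) (h2 : Even (Nat.card G)) (h8 : ¬ 8 ∣ Nat.card G) (T : Sylow 2 G) : IsKleinFour ↥(T : Subgroup G) ∧ (Subgroup.centralizer ((T : Subgroup G) : Set G)).relIndex (Subgroup.normalizer ((T : Subgroup G) : Set G)) = 3 := by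
  classical
  haveI : Fact (Nat.Prime 2) := ⟨Nat.prime_two⟩
  have h2' : 2 ∣ Nat.card G := even_iff_two_dvd.1 h2
  have hnle := SimpleOrder.not_normalizer_le_centralizer hG h2' T
  have hncyc : ¬ IsCyclic (T : Subgroup G) := fun hc => hnle
    (hc.normalizer_le_centralizer (Nat.minFac_eq_two_iff _ |>.2 h2'))
  have hT4 : Nat.card (T : Subgroup G) = 4 := by
    obtain ⟨k, hk⟩ := IsPGroup.iff_card.1 T.2
    have hd : 2 ^ k ∣ Nat.card G := hk ▸ Subgroup.card_subgroup_dvd_card _
    rcases k with _ | _ | _ | k
    · exact absurd (by haveI := (Nat.card_eq_one_iff_unique.1 (hk.trans (pow_zero 2))).1; exact isCyclic_of_subsingleton) hncyc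
    · exact absurd (isCyclic_of_prime_card (p := 2) (by simpa using hk)) hncyc
    · simpa using hk
    · exact absurd ((pow_dvd_pow 2 (by omega : 3 ≤ k + 3)).trans hd) h8
  have hK : IsKleinFour ↥(T : Subgroup G) := by
    refine ⟨hT4, ?_⟩
    exact (not_isCyclic_iff_exponent_eq_prime Nat.prime_two (by rw [hT4]; norm_num)).1 hncyc
  refine ⟨hK, ?_⟩
  have hTab : IsMulCommutative (T : Subgroup G) :=
    IsPGroup.isMulCommutative_of_card_eq_prime_sq (p := 2) (by rw [hT4]; norm_num)
  set N := Subgroup.normalizer ((T : Subgroup G) : Set G) with hNdef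
  set C := Subgroup.centralizer ((T : Subgroup G) : Set G) with hCdef
  have hTC : (T : Subgroup G) ≤ C := by
    intro t ht
    rw [hCdef, Subgroup.mem_centralizer_iff]
    intro s hs
    exact congrArg Subtype.val (hTab.is_comm.comm (⟨s, hs⟩ : (T : Subgroup G)) ⟨t, ht⟩)
  have hodd : ¬ 2 ∣ C.relIndex N := by
    intro h
    have h1 : C.relIndex N ∣ (T : Subgroup G).relIndex N := Subgroup.relIndex_dvd_of_le_left N hTC
    have h3 : (T : Subgroup G).relIndex N ∣ (T : Subgroup G).index :=
      Subgroup.relIndex_dvd_index_of_le Subgroup.le_normalizer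
    exact T.not_dvd_index (h.trans (h1.trans h3))
  have hsix : C.relIndex N ∣ 6 := by
    let φ : N →* Equiv.Perm {t : (T : Subgroup G) // t ≠ 1} :=
      { toFun := fun g => (((T : Subgroup G).normalizerMonoidHom g).toEquiv.subtypeEquiv fun t => by
          show t ≠ 1 ↔ ((T : Subgroup G).normalizerMonoidHom g) t ≠ 1
          rw [Ne, Ne, map_eq_one_iff _ (MulEquiv.injective _)])
        map_one' := Equiv.ext fun t => Subtype.ext (by simp)
        map_mul' := fun a b => Equiv.ext fun t => Subtype.ext (by simp) }
    have hker : φ.ker = C.subgroupOf N := by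
      rw [hCdef, ← Subgroup.normalizerMonoidHom_ker]
      ext g
      constructor
      · intro hg
        rw [MonoidHom.mem_ker]
        refine MulEquiv.ext fun t => ?_
        by_cases ht : t = 1
        · subst ht; simp
        · exact congrArg Subtype.val (Equiv.ext_iff.1 (MonoidHom.mem_ker.1 hg) ⟨t, ht⟩)
      · intro hg
        rw [MonoidHom.mem_ker] at hg ⊢
        exact Equiv.ext fun t => Subtype.ext (by simp [φ, hg])
    show (C.subgroupOf N).index ∣ 6
    rw [← hker, Subgroup.index_ker]
    refine (Subgroup.card_subgroup_dvd_card _).trans ?_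
    rw [Nat.card_perm]
    have : Nat.card {t : (T : Subgroup G) // t ≠ 1} = 3 := by
      haveI : Fintype (T : Subgroup G) := Fintype.ofFinite _
      rw [Nat.card_eq_fintype_card, Fintype.card_subtype_compl, Fintype.card_subtype_eq,
        ← Nat.card_eq_fintype_card, hT4]
    rw [this]
    exact dvd_refl 6
  have hne : C.relIndex N ≠ 1 := fun h => hnle (Subgroup.relIndex_eq_one.1 h)
  have hle := Nat.le_of_dvd (by norm_num) hsix
  interval_cases hc : C.relIndex N <;> simp_all

end Cfsg.Agent.S0992
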