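import Cfsg.Statements.S0499
import Cfsg.Agent.S0992
import Cfsg.Agent.Lib.Classical.SimpleOrder
import Cfsg.Agent.Lib.Solv.NormalPComplement

set_option autoImplicit false
open Cfsg

namespace Cfsg.Agent.S0499

theorem aut_prime {Q : Type*} [Group Q] [Finite Q] (hQ : Nat.card Q ∣ 8) (ψ : MulAut Q) {r : ℕ}
    (hr : r.Prime) (hψ : orderOf ψ = r) (hr2 : r ≠ 2) : r = 3 ∨ r = 7 := by
  classical
  have : Fintype Q := Fintype.ofFinite Q
  have : Fact r.Prime := ⟨hr⟩
  let f : MulAut Q →* Equiv.Perm Q :=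
    { toFun := fun e => e.toEquiv, map_one' := rfl, map_mul' := fun _ _ => rfl }
  have hf : Function.Injective f := fun a b h => MulEquiv.ext fun x => Equiv.congr_fun h x
  have hσ : orderOf (f ψ) = r := by rw [orderOf_injective f hf, hψ]
  have hsup : (f ψ).support.card = (f ψ).cycleType.sum := ((f ψ).sum_cycleType).symm
  let F : Subgroup Q :=
    { carrier := {x | ψ x = x}
      one_mem' := map_one ψ
      mul_mem' := fun {a b} ha hb => by show ψ (a * b) = a * b; rw [map_mul, ha, hb]
      inv_mem' := fun {a} ha => by show ψ a⁻¹ = a⁻¹; rw [map_inv, ha] }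
  have hF : Nat.card F + (f ψ).support.card = Nat.card Q := by
    have e : (Finset.univ.filter fun x : Q => ψ x = x) = (f ψ).supportᶜ := by
      ext x
      simp [f]
    rw [Nat.card_eq_fintype_card (α := Q), Nat.card_eq_fintype_card (α := F),
      show Fintype.card F = (Finset.univ.filter fun x : Q => ψ x = x).card from Fintype.card_subtype _,
      e, Finset.card_compl]
    have := (f ψ).support.card_le_univ
    omega
  have hFd := Subgroup.card_subgroup_dvd_card F
  have hF0 : 0 < Nat.card F := Nat.card_pos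
  obtain ⟨k, hk⟩ : r ∣ (f ψ).support.card := by
    rw [hsup]
    refine Multiset.dvd_sum fun m hm => ?_
    have h1 := Equiv.Perm.dvd_of_mem_cycleType hm
    have h2 := Equiv.Perm.two_le_of_mem_cycleType hm
    rw [hσ] at h1
    rcases hr.eq_one_or_self_of_dvd m h1 with h | h
    · omega
    · rw [h]
  have hk0 : k ≠ 0 := by
    rintro rfl
    rw [mul_zero, Finset.card_eq_zero, Equiv.Perm.support_eq_empty_iff] at hk
    rw [hk, orderOf_one] at hσ
    exact hr.ne_one hσ.symm
  have hQ8 : Nat.card Q ≤ 8 := Nat.le_of_dvd (by norm_num) hQ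
  have hr7 : r ≤ 7 := by
    have : r * 1 ≤ r * k := Nat.mul_le_mul_left _ (by omega)
    omega
  have h5 : r ≠ 5 := by
    rintro rfl
    have hk1 : k = 1 := by omega
    subst hk1
    have h8 : Nat.card Q = 1 ∨ Nat.card Q = 2 ∨ Nat.card Q = 4 ∨ Nat.card Q = 8 := by
      have := Nat.le_of_dvd (by norm_num) hQ
      interval_cases hq : Nat.card Q <;> omega
    rcases h8 with h | h | h | h <;> rw [h] at hF hFd <;> try omega
    rw [show Nat.card F = 3 by omega] at hFd
    norm_num at hFd
  have := hr.two_le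
  interval_cases r
  · exact absurd rfl hr2
  · exact Or.inl rfl
  · norm_num at hr
  · exact absurd rfl h5
  · norm_num at hr
  · exact Or.inr rfl

/-- A non-abelian finite simple group of even order has order divisible by 12, 16 or 56. -/
theorem result {G : Type*} [Group G] [Finite G] [IsSimpleGroup G]
    (hG : ¬ IsMulCommutative G) (h2 : Even (Nat.card G)) :
    12 ∣ Nat.card G ∨ 16 ∣ Nat.card G ∨ 56 ∣ Nat.card G := by
  classical
  have : Fact (Nat.Prime 2) := ⟨Nat.prime_two⟩
  obtain ⟨T⟩ := Sylow.nonempty (p := 2) (G := G)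
  by_cases h8 : 8 ∣ Nat.card G
  swap
  · left
    obtain ⟨hK, h3⟩ := Cfsg.Agent.S0992.result hG h2 h8 T
    have h4 : 4 ∣ Nat.card G := hK.card_four ▸ Subgroup.card_subgroup_dvd_card (T : Subgroup G)
    have h3' : 3 ∣ Nat.card G := by
      rw [← h3]
      exact (Subgroup.index_dvd_card _).trans (Subgroup.card_subgroup_dvd_card _)
    omega
  by_cases h16 : 16 ∣ Nat.card G
  · exact Or.inr (Or.inl h16)
  have hnc : ¬ Cfsg.HasNormalPComplement 2 G := by
    rintro ⟨P, N, hN, hc⟩
    have hP : (P : Subgroup G) ≠ ⊤ := Cfsg.Agent.Classical.SimpleOrder.sylow_ne_top hG P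
    rcases hN.eq_bot_or_eq_top with h | h
    · exact hP (by have := hc.sup_eq_top; rwa [h, bot_sup_eq] at this)
    · have := hc.disjoint.eq_bot
      rw [h, top_inf_eq] at this
      exact Cfsg.Agent.Classical.SimpleOrder.sylow_ne_bot h2.two_dvd P this
  have hfc : ¬ Cfsg.Agent.Solv.FrobeniusCond 2 G := fun h => hnc h.hasNormalPComplement
  unfold Cfsg.Agent.Solv.FrobeniusCond at hfc
  push Not at hfc
  obtain ⟨Q, hQ, g, hg, hcop, hgC⟩ := hfc
  have hQ8 : Nat.card Q ∣ 8 := by
    obtain ⟨k, hk⟩ := hQ.exists_card_eq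
    have hk3 : k ≤ 3 := by
      by_contra h
      exact h16 (((pow_dvd_pow 2 (show 4 ≤ k by omega)).trans (dvd_of_eq hk.symm)).trans
        (Subgroup.card_subgroup_dvd_card Q))
    rw [hk]
    exact pow_dvd_pow 2 hk3
  let φ : MulAut Q := Subgroup.normalizerMonoidHom Q ⟨g, hg⟩
  have hφd : orderOf φ ∣ orderOf g := by
    refine (orderOf_map_dvd (Subgroup.normalizerMonoidHom Q) ⟨g, hg⟩).trans ?_
    rw [Subgroup.orderOf_mk]
  have hφ1 : orderOf φ ≠ 1 := by
    intro h
    rw [orderOf_eq_one_iff] at h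
    apply hgC
    rw [Subgroup.mem_centralizer_iff]
    intro x hx
    have e : ((φ ⟨x, hx⟩ : Q) : G) = x := by rw [h]; rfl
    have e' : g * x * g⁻¹ = x := e
    calc x * g = (g * x * g⁻¹) * g := by rw [e']
      _ = g * x := by group
  set r := (orderOf φ).minFac
  have hr : r.Prime := Nat.minFac_prime hφ1
  have hψ : orderOf (φ ^ (orderOf φ / r)) = r :=
    orderOf_pow_orderOf_div (orderOf_pos φ).ne' (Nat.minFac_dvd _)
  have hrG : r ∣ Nat.card G :=
    ((Nat.minFac_dvd _).trans hφd).trans (orderOf_dvd_natCard g)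
  have hr2 : r ≠ 2 := by
    intro h
    have h1 : r ∣ orderOf g := (Nat.minFac_dvd _).trans hφd
    rw [h] at h1
    exact absurd (Nat.Coprime.eq_one_of_dvd hcop.symm h1) (by norm_num)
  rcases aut_prime hQ8 _ hr hψ hr2 with h | h
  · left
    rw [h] at hrG
    omega
  · right; right
    rw [h] at hrG
    omega

end Cfsg.Agent.S0499
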