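import Cfsg.Statements.S0502
import Cfsg.Agent.Lib.Struct.FourGraph
import Cfsg.Agent.Lib.Local.PGroup
-- import your own Cfsg.Agent.* helpers here

set_option autoImplicit false
open Cfsg

namespace Cfsg.Agent.S0502

/-- If a finite 2-group has a normal elementary abelian subgroup of order at least 8, then any two of its Klein
four-subgroups are joined by a chain of Klein four-subgroups with consecutive members commuting elementwise. -/
theorem result {P : Type*} [Group P] [Finite P] (hP : IsPGroup 2 P)
    (E : Subgroup P) [E.Normal] (hE : IsMulCommutative E) (hE2 : ∀ e ∈ E, e ^ 2 = 1) (hE8 : 8 ≤ Nat.card E) :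
    Cfsg.IsFourConnected P := by
  skip
  classical
  intro U V hU hV
  have hsq : ∀ e ∈ E, e * e = 1 := fun e he => by rw [← pow_two]; exact hE2 e he
  have hEc : ∀ a ∈ E, ∀ b ∈ E, a * b = b * a := fun a ha b hb =>
    congrArg Subtype.val (hE.is_comm.comm (⟨a, ha⟩ : E) ⟨b, hb⟩)
  have hEne : E ≠ ⊥ := fun h => by rw [h, Subgroup.card_bot] at hE8; omega
  haveI : Fact (Nat.Prime 2) := ⟨Nat.prime_two⟩
  obtain ⟨z, hz, hz1⟩ : ∃ z : P, z ∈ E ⊓ Subgroup.center P ∧ z ≠ 1 := by
    by_contra h
    apply Cfsg.Agent.Local.inf_center_ne_bot hP E hEne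
    rw [Subgroup.eq_bot_iff_forall]
    exact fun x hx => by_contra fun hx1 => h ⟨x, hx, hx1⟩
  have hzc : ∀ g : P, g * z = z * g := fun g => Subgroup.mem_center_iff.mp hz.2 g
  have key : ∀ U : Subgroup P, IsKleinFour U → ∃ W : Subgroup P, IsKleinFour W ∧ W ≤ E ∧
      Relation.ReflTransGen Cfsg.Agent.FourGraph.Edge U W := by
    intro U hU
    obtain ⟨u, huU, hu1, huz⟩ : ∃ u ∈ U, u ≠ 1 ∧ u ≠ z := by
      by_contra h
      push_neg at h
      have hs : (U : Set P) ⊆ {1, z} := fun x hx => by
        by_cases h1 : x = 1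
        · exact Or.inl h1
        · exact Or.inr (h x hx h1)
      have := Set.ncard_le_ncard hs
      have h4 : (U : Set P).ncard = 4 := by rw [← Nat.card_coe_set_eq]; exact hU.card_four
      have h2 : ({1, z} : Set P).ncard ≤ 2 := (Set.ncard_insert_le 1 {z}).trans (by simp)
      omega
    have hu2 := Cfsg.Agent.FourGraph.pow_two_of_four hU huU
    let A : Subgroup P := E ⊓ Subgroup.centralizer {u}
    have hu' : u⁻¹ = u := inv_eq_of_mul_eq_one_right hu2
    have hconj : ∀ e ∈ E, u * e * u ∈ E := fun e he => by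
      have := Subgroup.Normal.conj_mem (H := E) inferInstance e he u
      rwa [hu'] at this
    let φ : E →* E :=
      { toFun := fun e => ⟨e * (u * e * u), E.mul_mem e.2 (hconj e e.2)⟩
        map_one' := Subtype.ext (by simp [hu2])
        map_mul' := fun e f => Subtype.ext (by
          show (e : P) * f * (u * ((e : P) * f) * u) = (e : P) * (u * e * u) * ((f : P) * (u * f * u))
          have h1 : u * ((e : P) * f) * u = (u * e * u) * (u * f * u) := by
            calc u * ((e : P) * f) * u = u * e * 1 * f * u := by group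
              _ = u * e * (u * u) * f * u := by rw [hu2]
              _ = _ := by group
          rw [h1, mul_assoc (e : P) (f : P), ← mul_assoc (f : P), hEc _ f.2 _ (hconj e e.2)]
          group) }
    have hmem : ∀ x : P, x ∈ A ↔ x ∈ E ∧ u * x * u = x := by
      intro x
      show x ∈ E ∧ x ∈ Subgroup.centralizer {u} ↔ _
      rw [Subgroup.mem_centralizer_singleton_iff]
      refine and_congr_right fun _ => ⟨fun h => ?_, fun h => ?_⟩
      · rw [mul_assoc, h, ← mul_assoc, hu2, one_mul]
      · calc x * u = u * x * u * u := by rw [h]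
          _ = u * x := by rw [mul_assoc, hu2, mul_one]
    have hker : ∀ e : E, e ∈ φ.ker ↔ (e : P) ∈ A := by
      intro e
      rw [hmem, MonoidHom.mem_ker]
      refine ⟨fun h => ⟨e.2, ?_⟩, fun h => Subtype.ext ?_⟩
      · have := congrArg Subtype.val h
        calc u * e * u = (e : P)⁻¹ := (inv_eq_of_mul_eq_one_right this).symm
          _ = e := inv_eq_of_mul_eq_one_right (hsq _ e.2)
      · show (e : P) * (u * e * u) = 1
        rw [h.2, hsq _ e.2]
    have hrange : φ.range ≤ φ.ker := by
      rintro _ ⟨e, rfl⟩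
      rw [hker, hmem]
      refine ⟨(φ e).2, ?_⟩
      show u * ((e : P) * (u * e * u)) * u = (e : P) * (u * e * u)
      calc u * ((e : P) * (u * e * u)) * u = (u * e * u) * ((e : P) * (u * u)) := by group
        _ = (u * e * u) * e := by rw [hu2, mul_one]
        _ = _ := hEc _ (hconj e e.2) _ e.2
    have hcard : 3 ≤ Nat.card A := by
      have h1 := φ.ker.card_mul_index
      rw [Subgroup.index_ker] at h1
      have h2 := Subgroup.card_le_of_le hrange
      have h3 : Nat.card φ.ker ≤ Nat.card A := Nat.card_le_card_of_injective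
        (fun e => (⟨(e : E), (hker e).mp e.2⟩ : A))
        (fun a b h => Subtype.ext (Subtype.ext (by simpa using h)))
      by_contra hA
      have : Nat.card φ.ker * Nat.card φ.range ≤ 2 * 2 := Nat.mul_le_mul (by omega) (by omega)
      omega
    obtain ⟨W, hW, hWA⟩ := Cfsg.Agent.FourGraph.exists_four_le (A := A)
      ⟨⟨fun a b => Subtype.ext (hEc _ a.2.1 _ b.2.1)⟩⟩ (fun a ha => hE2 a ha.1) hcard
    have hzu : z * u = u * z := (hzc u).symm
    let X := Cfsg.Agent.FourGraph.pairFour z u (hsq z hz.1) hu2 hzu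
    have hX : IsKleinFour X := Cfsg.Agent.FourGraph.pairFour_isKleinFour _ _ _ hz1 hu1 (Ne.symm huz)
    refine ⟨W, hW, hWA.trans inf_le_left, (Relation.ReflTransGen.single ⟨hU, hX, ?_⟩).tail ⟨hX, hW, ?_⟩⟩
    · intro a ha b hb
      have hbu : b * u = u * b := Subgroup.mem_centralizer_singleton_iff.mp (hWA hb).2
      rcases Cfsg.Agent.FourGraph.mem_pairFour.mp ha with rfl | rfl | rfl | rfl
      · simp
      · exact (hzc b).symm
      · exact hbu.symm
      · rw [← mul_assoc b, hzc b, mul_assoc z b, hbu, mul_assoc]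
    · intro a ha b hb
      have hau := Cfsg.Agent.FourGraph.comm_of_four hU ha huU
      rcases Cfsg.Agent.FourGraph.mem_pairFour.mp hb with rfl | rfl | rfl | rfl
      · simp
      · exact hzc a
      · exact hau
      · rw [← mul_assoc, hzc a, mul_assoc, hau, ← mul_assoc]
  obtain ⟨W₁, hW₁, hW₁E, h₁⟩ := key U hU
  obtain ⟨W₂, hW₂, hW₂E, h₂⟩ := key V hV
  exact (h₁.tail ⟨hW₁, hW₂, fun a ha b hb => hEc a (hW₁E ha) b (hW₂E hb)⟩).trans
    (Cfsg.Agent.FourGraph.chain_symm h₂)

end Cfsg.Agent.S0502
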