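import Cfsg.Statements.S0505
import Mathlib
import Cfsg.Agent.Lib.Solv.PSolvable
import Cfsg.Agent.Lib.Solv.Coprime
-- import your own Cfsg.Agent.* helpers here

set_option autoImplicit false
open Cfsg

namespace Cfsg.Agent.S0505

/-- Let G be a finite group of even order in which the centralizer of every involution is solvable and has trivial
core (no nontrivial normal subgroup of odd order). Then G is of characteristic 2 type. -/
theorem result {G : Type*} [Group G] [Finite G]
    (h2 : Even (Nat.card G))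
    (hs : ∀ t : G, orderOf t = 2 → Group.IsSolvable (Subgroup.centralizer ({t} : Set G)))
    (hc : ∀ t : G, orderOf t = 2 → Cfsg.oddCore (Subgroup.centralizer ({t} : Set G)) = ⊥) :
    Cfsg.IsCharacteristicTwoType G := by
  skip
  classical
  haveI : Fact (Nat.Prime 2) := ⟨Nat.prime_two⟩
  refine ⟨h2, fun T hT hT1 => ?_⟩
  set N := Subgroup.normalizer (T : Set G) with hN
  haveI : Nontrivial T := (Subgroup.nontrivial_iff_ne_bot T).2 hT1
  haveI := hT.center_nontrivial
  have hcd : 2 ∣ Nat.card (Subgroup.center T) := by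
    obtain ⟨k, hk⟩ := IsPGroup.iff_card.1 (hT.to_subgroup (Subgroup.center T))
    have h1 : 1 < Nat.card (Subgroup.center T) := Finite.one_lt_card
    rcases k with _ | k
    · omega
    · rw [hk, pow_succ]; exact dvd_mul_left _ _
  obtain ⟨z', hz'⟩ := exists_prime_orderOf_dvd_card' (G := Subgroup.center T) 2 hcd
  set z : G := ((z' : T) : G) with hzdef
  have hzo : orderOf z = 2 := by rw [hzdef, Subgroup.orderOf_coe, Subgroup.orderOf_coe, hz']
  have hzT : z ∈ T := (z' : T).2
  have hTz : ∀ t ∈ T, t * z = z * t := fun t ht =>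
    congrArg Subtype.val (Subgroup.mem_center_iff.1 z'.2 ⟨t, ht⟩)
  set C := Subgroup.centralizer ({z} : Set G) with hC
  have hCs : Group.IsSolvable C := hs z hzo
  have hTC : T ≤ C := fun t ht => Subgroup.mem_centralizer_singleton_iff.2 (hTz t ht)
  have hCTC : Subgroup.centralizer (T : Set G) ≤ C := fun x hx =>
    Subgroup.mem_centralizer_singleton_iff.2 (Subgroup.mem_centralizer_iff.1 hx z hzT).symm
  have hTN : T ≤ N := Subgroup.le_normalizer
  have hCTN : Subgroup.centralizer (T : Set G) ≤ N := Subgroup.centralizer_le_normalizer _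
  -- the odd core of the local subgroup is trivial
  have hO : Cfsg.pPrimeCore 2 ↥N = ⊥ := by
    set X := (Cfsg.pPrimeCore 2 ↥N).map N.subtype with hX
    have hXc : (Nat.card X).Coprime 2 := by
      rw [hX, Subgroup.card_map_of_injective N.subtype_injective]
      exact Cfsg.Agent.Solv.card_pPrimeCore_coprime 2 _
    have hXn : ∀ n ∈ N, ∀ x ∈ X, n * x * n⁻¹ ∈ X := by
      rintro n hn _ ⟨x, hx, rfl⟩
      exact ⟨⟨n, hn⟩ * x * (⟨n, hn⟩)⁻¹, Subgroup.Normal.conj_mem inferInstance x hx _, rfl⟩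
    have hXN : X ≤ N := Subgroup.map_subtype_le _
    have hdisj : ∀ R : Subgroup G, IsPGroup 2 R → ∀ x ∈ X, x ∈ R → x = 1 := by
      intro R hR x hx hxR
      obtain ⟨k, hk⟩ := IsPGroup.iff_card.1 hR
      exact orderOf_eq_one_iff.1 (Nat.eq_one_of_dvd_coprimes ((hXc.pow_right k)) (Subgroup.orderOf_dvd_natCard _ hx)
        (hk ▸ Subgroup.orderOf_dvd_natCard _ hxR))
    have hXT : X ≤ Subgroup.centralizer (T : Set G) := by
      intro x hx
      rw [Subgroup.mem_centralizer_iff]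
      intro t ht
      have h1 : t * x * t⁻¹ * x⁻¹ ∈ X := X.mul_mem (hXn t (hTN ht) x hx) (X.inv_mem hx)
      have h2 : t * x * t⁻¹ * x⁻¹ ∈ T := by
        rw [show t * x * t⁻¹ * x⁻¹ = t * (x * t⁻¹ * x⁻¹) by group]
        exact T.mul_mem ht ((Subgroup.mem_normalizer_iff.1 (hXN hx) t⁻¹).1 (T.inv_mem ht))
      exact mul_inv_eq_iff_eq_mul.1 (mul_inv_eq_one.1 (hdisj T hT _ h1 h2))
    set R := (Cfsg.pCore 2 ↥C).map C.subtype with hR
    have hRp : IsPGroup 2 R := (Cfsg.Agent.Solv.isPGroup_pCore 2 ↥C).map _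
    have hCR : C ≤ Subgroup.normalizer (R : Set G) := by
      intro c hc
      refine Subgroup.mem_normalizer_iff.2 fun x => ⟨?_, ?_⟩
      · rintro ⟨y, hy, rfl⟩
        exact ⟨⟨c, hc⟩ * y * (⟨c, hc⟩)⁻¹, Subgroup.Normal.conj_mem inferInstance y hy _, rfl⟩
      · rintro ⟨y, hy, hyx⟩
        refine ⟨(⟨c, hc⟩)⁻¹ * y * ⟨c, hc⟩, by simpa using Subgroup.Normal.conj_mem inferInstance y hy (⟨c, hc⟩ : C)⁻¹, ?_⟩
        show c⁻¹ * (y : G) * c = x
        rw [show (y : G) = c * x * c⁻¹ from hyx]; group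
    have hXC : X ≤ C := hXT.trans hCTC
    have hXR : X ≤ Subgroup.centralizer (R : Set G) := by
      refine Cfsg.Agent.Solv.thompson_pq 2 T X R hT hXc hRp (Subgroup.le_centralizer_iff.1 hXT) (hTC.trans hCR) (hXC.trans hCR) ?_
      rintro r ⟨hrR, hrT⟩
      rw [Subgroup.mem_centralizer_iff]
      intro x hx
      have h1 : x * r * x⁻¹ * r⁻¹ ∈ X := by
        rw [show x * r * x⁻¹ * r⁻¹ = x * (r * x⁻¹ * r⁻¹) by group]
        exact X.mul_mem hx (hXn r (hCTN hrT) _ (X.inv_mem hx))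
      have h2 : x * r * x⁻¹ * r⁻¹ ∈ R :=
        R.mul_mem ((Subgroup.mem_normalizer_iff.1 (hCR (hXC hx)) r).1 hrR) (R.inv_mem hrR)
      exact mul_inv_eq_iff_eq_mul.1 (mul_inv_eq_one.1 (hdisj R hRp _ h1 h2))
    haveI := hCs
    have hcon := Cfsg.Agent.Solv.centralizer_pCore_le_of_isPSolvable (p := 2) (G := ↥C)
      Cfsg.Agent.Solv.isPSolvable_of_isSolvable (hc z hzo)
    rw [Subgroup.eq_bot_iff_forall]
    intro y hy
    have hyX : (y : G) ∈ X := ⟨y, hy, rfl⟩
    have hyR : (y : G) ∈ R := by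
      refine ⟨⟨y, hXC hyX⟩, hcon (Subgroup.mem_centralizer_iff.2 fun r hr => Subtype.ext ?_), rfl⟩
      exact Subgroup.mem_centralizer_iff.1 (hXR hyX) (r : G) ⟨r, hr, rfl⟩
    exact Subtype.ext (hdisj R hRp _ hyX hyR)
  refine Cfsg.Agent.Solv.centralizer_pCore_le hO ?_
  set D := Subgroup.centralizer (Cfsg.pCore 2 ↥N : Set ↥N)
  have hDC : ∀ d ∈ D, ((d : N) : G) ∈ C := by
    intro d hd
    haveI : (T.subgroupOf N).Normal := Subgroup.normal_in_normalizer
    have hle : T.subgroupOf N ≤ Cfsg.pCore 2 ↥N :=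
      Cfsg.Agent.Solv.le_pCore (hT.comap_of_injective N.subtype N.subtype_injective)
    exact Subgroup.mem_centralizer_singleton_iff.2
      (congrArg Subtype.val (Subgroup.mem_centralizer_iff.1 hd ⟨z, hTN hzT⟩ (hle hzT))).symm
  haveI := hCs
  let ι : D →* C := { toFun := fun d => ⟨((d : N) : G), hDC _ d.2⟩, map_one' := rfl, map_mul' := fun _ _ => rfl }
  haveI : Group.IsSolvable D := solvable_of_solvable_injective (f := ι)
    fun a b h => Subtype.ext (Subtype.ext (congrArg (fun c : C => (c : G)) h))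
  exact Cfsg.Agent.Solv.isPSolvable_of_isSolvable

end Cfsg.Agent.S0505
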