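import Cfsg.Statements.S0514
import Cfsg.Agent.Lib.Fusion.DihedralClasses

set_option autoImplicit false
open Cfsg

namespace Cfsg.Agent.S0514

/-- In a finite group whose Sylow 2-subgroups are dihedral of order at least 4, the centralizer of any involution has a
normal subgroup of odd order whose index in the centralizer is a power of 2. -/
theorem result {X : Type*} [Group X] [Finite X]
    (S : Sylow 2 X) (n : ℕ) (hn : 2 ≤ n) (hS : Nonempty ((S : Subgroup X) ≃* DihedralGroup n)) (t : X)
    (ht : orderOf t = 2) :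
    ∃ N : Subgroup (Subgroup.centralizer ({t} : Set X)), N.Normal ∧ Odd (Nat.card N) ∧ ∃ k : ℕ, N.index = 2 ^ k := by
  obtain ⟨e⟩ := hS
  set H := Subgroup.centralizer ({t} : Set X)
  have htH : t ∈ H := Subgroup.mem_centralizer_singleton_iff.2 rfl
  have : Fact (Nat.Prime 2) := ⟨Nat.prime_two⟩
  obtain ⟨T⟩ : Nonempty (Sylow 2 H) := inferInstance
  have hexists : ∃ m : ℕ, 2 ≤ m ∧ Nonempty ((T : Subgroup H) ≃* DihedralGroup m) := by
    have htc : (⟨t, htH⟩ : H) ∈ Subgroup.center H := Subgroup.mem_center_iff.2 fun h =>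
      Subtype.ext (Subgroup.mem_centralizer_singleton_iff.1 h.2)
    set T₀ := (T : Subgroup H).map H.subtype
    obtain ⟨g, hg⟩ := Fusion.exists_conj_le_sylow S (T.2.map H.subtype)
    set T₁ := T₀.map (MulAut.conj g).toMonoidHom
    set u := g * t * g⁻¹
    have htT : t ∈ T₀ := by
      obtain ⟨a, ha⟩ := Fusion.exists_conj_le_sylow T (IsPGroup.of_card (n := 1) (by
        rw [Nat.card_zpowers, ← Subgroup.orderOf_coe, pow_one]; exact ht) : IsPGroup 2 (Subgroup.zpowers (⟨t, htH⟩ : H)))
      have := ha ⟨_, Subgroup.mem_zpowers _, rfl⟩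
      change a * (⟨t, htH⟩ : H) * a⁻¹ ∈ (T : Subgroup H) at this
      rw [Subgroup.mem_center_iff.1 htc a, mul_inv_cancel_right] at this
      exact ⟨_, this, rfl⟩
    have huS : u ∈ (S : Subgroup X) := hg ⟨t, htT, rfl⟩
    have hT₁ : T₁ = (S : Subgroup X) ⊓ Subgroup.centralizer ({u} : Set X) := by
      refine le_antisymm (le_inf hg ?_) fun y hy => ?_
      · rintro _ ⟨_, ⟨w, -, rfl⟩, rfl⟩
        rw [Subgroup.mem_centralizer_singleton_iff]
        have h1 : (w : X) * t = t * w := Subgroup.mem_centralizer_singleton_iff.1 w.2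
        show g * w * g⁻¹ * (g * t * g⁻¹) = g * t * g⁻¹ * (g * w * g⁻¹)
        rw [show g * (w : X) * g⁻¹ * (g * t * g⁻¹) = g * ((w : X) * t) * g⁻¹ by group, h1]; group
      · set Y := ((S : Subgroup X) ⊓ Subgroup.centralizer ({u} : Set X)).comap (MulAut.conj g).toMonoidHom
        have hYH : Y ≤ H := fun w hw => by
          have h2 : g * w * g⁻¹ * u = u * (g * w * g⁻¹) := Subgroup.mem_centralizer_singleton_iff.1 hw.2
          rw [Subgroup.mem_centralizer_singleton_iff]
          have := congrArg (fun v => g⁻¹ * v * g) h2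
          simpa [u, mul_assoc] using this
        have hYp : IsPGroup 2 (Y.subgroupOf H) := by
          refine IsPGroup.of_equiv ?_ (Subgroup.subgroupOfEquivOfLe hYH).symm
          exact (S.2.to_le inf_le_left).comap_of_injective _ (MulAut.conj g).injective
        have hTY : (T : Subgroup H) ≤ Y.subgroupOf H := fun w hw => by
          rw [Subgroup.mem_subgroupOf]
          refine ⟨hg ⟨_, ⟨w, hw, rfl⟩, rfl⟩, Subgroup.mem_centralizer_singleton_iff.2 ?_⟩
          show g * w * g⁻¹ * (g * t * g⁻¹) = g * t * g⁻¹ * (g * w * g⁻¹)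
          rw [show g * (w : X) * g⁻¹ * (g * t * g⁻¹) = g * ((w : X) * t) * g⁻¹ by group,
            Subgroup.mem_centralizer_singleton_iff.1 w.2]; group
        have heq := T.3 hYp hTY
        have hyY : (MulAut.conj g).symm y ∈ Y := by
          rw [Subgroup.mem_comap, MulEquiv.coe_toMonoidHom, MulEquiv.apply_symm_apply]; exact hy
        have hmem : (⟨_, hYH hyY⟩ : H) ∈ (T : Subgroup H) := heq ▸ Subgroup.mem_subgroupOf.2 hyY
        exact ⟨_, ⟨_, hmem, rfl⟩, (MulAut.conj g).apply_symm_apply y⟩
    let eT : (T : Subgroup H) ≃* T₁ := ((T : Subgroup H).equivMapOfInjective H.subtype H.subtype_injective).trans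
      (T₀.equivMapOfInjective (MulAut.conj g).toMonoidHom (MulAut.conj g).injective)
    have huo : orderOf u = 2 := by rw [show u = MulAut.conj g t from rfl, MulEquiv.orderOf_eq, ht]
    have htop : (S : Subgroup X) ≤ Subgroup.centralizer ({u} : Set X) → ∃ m : ℕ, 2 ≤ m ∧ Nonempty ((T : Subgroup H) ≃* DihedralGroup m) := fun h =>
      ⟨n, hn, ⟨eT.trans ((MulEquiv.subgroupCongr (by rw [hT₁, inf_eq_left.2 h])).trans e)⟩⟩
    rcases Fusion.DihedralModel.cases S n hn e with ⟨hK, -⟩ | ⟨k, D, rfl, -⟩
    · refine htop fun y hy => Subgroup.mem_centralizer_singleton_iff.2 ?_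
      exact congrArg Subtype.val (mul_comm_of_exponent_two hK.exponent_two (⟨y, hy⟩ : (S : Subgroup X)) ⟨u, huS⟩)
    · obtain ⟨v, hv⟩ := D.exists_ι huS
      have hvo : orderOf v = 2 := by rw [← orderOf_injective D.ι D.ι_injective, hv, huo]
      rcases Fusion.DihedralModel.involution_cases (le_of_lt (Nat.lt_of_succ_le D.hk)) hvo with rfl | ⟨i, rfl⟩
      · refine htop fun y hy => Subgroup.mem_centralizer_singleton_iff.2 ?_
        obtain ⟨w, rfl⟩ := D.exists_ι hy
        rw [← hv, ← map_mul, ← map_mul, Subgroup.mem_center_iff.1 (Fusion.DihedralModel.half_mem_center (le_of_lt (Nat.lt_of_succ_le D.hk))) w]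
      · have hU : T₁ = (Fusion.DihedralModel.four D.hk i).map D.ι := by
          rw [hT₁]
          refine le_antisymm ?_ ?_
          · rintro y ⟨hyS, hyC⟩
            obtain ⟨w, rfl⟩ := D.exists_ι hyS
            refine ⟨w, ?_, rfl⟩
            have h1 := Subgroup.mem_centralizer_singleton_iff.1 hyC
            rw [← hv, ← map_mul, ← map_mul] at h1
            have h2 := D.ι_injective h1
            rw [SetLike.mem_coe, Fusion.DihedralModel.mem_four]
            cases w with
            | r j =>
              simp only [DihedralGroup.r_mul_sr, DihedralGroup.sr_mul_r, DihedralGroup.sr.injEq] at h2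
              rcases (Fusion.DihedralModel.two_mul_eq_zero_iff (le_of_lt (Nat.lt_of_succ_le D.hk)) j).1 (by linear_combination -h2) with rfl | rfl
              · exact Or.inl rfl
              · exact Or.inr (Or.inl rfl)
            | sr j =>
              simp only [DihedralGroup.sr_mul_sr, DihedralGroup.r.injEq] at h2
              rcases (Fusion.DihedralModel.two_mul_eq_zero_iff (le_of_lt (Nat.lt_of_succ_le D.hk)) (j - i)).1 (by linear_combination -h2) with h | h
              · exact Or.inr (Or.inr (Or.inl (congrArg DihedralGroup.sr (sub_eq_zero.1 h))))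
              · exact Or.inr (Or.inr (Or.inr (congrArg DihedralGroup.sr (by linear_combination h))))
          · rintro _ ⟨w, hw, rfl⟩
            refine ⟨D.ι_mem w, Subgroup.mem_centralizer_singleton_iff.2 ?_⟩
            rw [← hv, ← map_mul, ← map_mul]
            exact congrArg D.ι (congrArg Subtype.val (mul_comm_of_exponent_two (Fusion.DihedralModel.isKleinFour_four D.hk i).exponent_two
              (⟨w, hw⟩ : Fusion.DihedralModel.four D.hk i) ⟨DihedralGroup.sr i, (Fusion.DihedralModel.mem_four D.hk i).2 (Or.inr (Or.inr (Or.inl rfl)))⟩))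
        have : IsKleinFour (DihedralGroup 2) := inferInstance
        have := Fusion.DihedralModel.isKleinFour_four D.hk i
        obtain ⟨e₂⟩ : Nonempty (Fusion.DihedralModel.four D.hk i ≃* DihedralGroup 2) := IsKleinFour.nonempty_mulEquiv
        exact ⟨2, le_rfl, ⟨eT.trans ((MulEquiv.subgroupCongr hU).trans
          (((Fusion.DihedralModel.four D.hk i).equivMapOfInjective D.ι D.ι_injective).symm.trans e₂))⟩⟩
  obtain ⟨m, hm, ⟨eT⟩⟩ := hexists
  obtain ⟨P, N, hN, hc⟩ := Fusion.DihedralModel.npc_of_central T m hm eT ⟨t, htH⟩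
    (by rw [← Subgroup.orderOf_coe]; exact ht)
    (Subgroup.mem_center_iff.2 fun h => Subtype.ext (Subgroup.mem_centralizer_singleton_iff.1 h.2))
  obtain ⟨-, hcop, hidx⟩ := Solv.complement_eq_pPrimeCore hc
  exact ⟨N, hN, Nat.coprime_two_right.1 hcop, hidx⟩

end Cfsg.Agent.S0514
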