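import Cfsg.Statements.S0519
import Cfsg.Agent.Lib.Solv.CyclicIndexP
import Cfsg.Agent.Lib.Struct.UniqueOrderP
import Cfsg.Agent.Lib.Classical.DihedralRecog
import Cfsg.Agent.S0646
-- import your own Cfsg.Agent.* helpers here

set_option autoImplicit false
open Cfsg

namespace Cfsg.Agent.S0519

section Helpers
open Subgroup

universe u

variable {P : Type u} [Group P] [Finite P]

theorem not_isCyclic_of_two_involutions (V : Subgroup P) {x y : P} (hx : x ∈ V) (hy : y ∈ V)
    (hxo : orderOf x = 2) (hyo : orderOf y = 2) (hne : x ≠ y) : ¬ IsCyclic V := by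
  intro hc
  classical
  haveI := Fintype.ofFinite V
  have h1 := IsCyclic.card_pow_eq_one_le (α := V) two_pos
  have hsub : ({1, ⟨x, hx⟩, ⟨y, hy⟩} : Finset V) ⊆ Finset.univ.filter fun v : V => v ^ 2 = 1 := by
    intro v hv
    simp only [Finset.mem_insert, Finset.mem_singleton] at hv
    simp only [Finset.mem_filter, Finset.mem_univ, true_and]
    rcases hv with rfl | rfl | rfl
    · exact one_pow 2
    · exact Subtype.ext (by simpa using hxo ▸ pow_orderOf_eq_one x)
    · exact Subtype.ext (by simpa using hyo ▸ pow_orderOf_eq_one y)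
  have h2 : ({1, ⟨x, hx⟩, ⟨y, hy⟩} : Finset V).card = 3 := by
    have hx1 : x ≠ 1 := fun e => by rw [e, orderOf_one] at hxo; exact absurd hxo (by norm_num)
    have hy1 : y ≠ 1 := fun e => by rw [e, orderOf_one] at hyo; exact absurd hyo (by norm_num)
    rw [Finset.card_eq_three]
    refine ⟨1, ⟨x, hx⟩, ⟨y, hy⟩, ?_, ?_, ?_, rfl⟩
    · exact fun e => hx1 (congrArg Subtype.val e).symm
    · exact fun e => hy1 (congrArg Subtype.val e).symm
    · exact fun e => hne (congrArg Subtype.val e)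
  have h3 := Finset.card_le_card hsub
  omega

theorem isMulCommutative_closure_pair {x y : P} (h : Commute x y) :
    IsMulCommutative (closure ({x, y} : Set P)) := by
  have h1 : closure ({x, y} : Set P) ≤ centralizer ({x, y} : Set P) := by
    rw [closure_le]
    rintro z (rfl | rfl) <;> (rw [SetLike.mem_coe, mem_centralizer_iff]; rintro w (rfl | rfl))
    exacts [rfl, h.symm, h, rfl]
  refine ⟨⟨fun u v => Subtype.ext ?_⟩⟩
  have h2 : closure ({x, y} : Set P) ≤ centralizer {(u : P)} := by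
    rw [closure_le]
    intro z hz
    rw [SetLike.mem_coe, mem_centralizer_iff]
    intro w hw
    rw [Set.mem_singleton_iff.1 hw]
    exact (mem_centralizer_iff.1 (h1 u.2) z hz).symm
  exact mem_centralizer_iff.1 (h2 v.2) (u : P) rfl

/-- Normality of the subgroup generated by `x, y` from conjugates of the generators. -/
theorem normal_closure_pair {x y : P}
    (h : ∀ g : P, g * x * g⁻¹ ∈ closure ({x, y} : Set P) ∧ g * y * g⁻¹ ∈ closure ({x, y} : Set P)) :
    (closure ({x, y} : Set P)).Normal := by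
  refine ⟨fun v hv g => ?_⟩
  have h1 : closure ({x, y} : Set P) ≤ (closure ({x, y} : Set P)).comap (MulAut.conj g).toMonoidHom := by
    rw [closure_le]
    rintro z (rfl | rfl)
    exacts [(h g).1, (h g).2]
  exact h1 hv

/-- With all abelian normal subgroups cyclic and `P` not cyclic, some cyclic subgroup has index two. -/
theorem exists_cyclic_two (hP : IsPGroup 2 P)
    (hn : ∀ A : Subgroup P, A.Normal → IsMulCommutative A → IsCyclic A) (hnc : ¬ IsCyclic P) :
    ∃ C : Subgroup P, IsCyclic C ∧ C.index = 2 := by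
  haveI : Fact (Nat.Prime 2) := ⟨Nat.prime_two⟩
  obtain ⟨A, hAn, hAc, hAsc⟩ := Cfsg.Agent.Struct.exists_selfCentralizing_normal hP
  have hAcyc : IsCyclic A := hn A hAn ⟨⟨fun u v => Subtype.ext (hAc u u.2 v v.2).eq⟩⟩
  obtain ⟨a, rfl⟩ := (Subgroup.isCyclic_iff_exists_zpowers_eq_top A).1 hAcyc
  refine ⟨zpowers a, inferInstance, ?_⟩
  obtain ⟨m, hm⟩ := IsPGroup.iff_orderOf.1 hP a
  have key : ∀ x y : ℤ, a ^ x = a ^ y ↔ (2 : ℤ) ^ m ∣ x - y := fun x y => by
    rw [← mul_inv_eq_one, ← zpow_neg, ← zpow_add, ← orderOf_dvd_iff_zpow_eq_one, hm, ← sub_eq_add_neg]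
    norm_num
  have hconj : ∀ g : P, ∃ r : ℤ, g * a * g⁻¹ = a ^ r := fun g =>
    (mem_zpowers_iff.1 (hAn.conj_mem a (mem_zpowers a) g)).imp fun r hr => hr.symm
  choose r hr using hconj
  have hrz : ∀ (g : P) (i : ℤ), g * a ^ i * g⁻¹ = a ^ (r g * i) := fun g i => by
    rw [zpow_mul, ← hr, conj_zpow]
  have hmul : ∀ g h : P, (2 : ℤ) ^ m ∣ r (g * h) - r g * r h := fun g h => by
    rw [← key, ← hr, ← hrz, ← hr]
    group
  have hcent : ∀ g : P, (2 : ℤ) ^ m ∣ r g - 1 → g ∈ zpowers a := by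
    intro g hg
    refine hAsc g fun y hy => ?_
    obtain ⟨i, rfl⟩ := mem_zpowers_iff.1 hy
    have h1 : g * a * g⁻¹ = a := by rw [hr, (key _ _).2 hg, zpow_one]
    exact (show Commute g a from mul_inv_eq_iff_eq_mul.1 h1).zpow_right i
  have hrA : ∀ g ∈ zpowers a, (2 : ℤ) ^ m ∣ r g - 1 := by
    intro g hg
    obtain ⟨i, rfl⟩ := mem_zpowers_iff.1 hg
    rw [← key, ← hr, zpow_one]
    group
  -- no element acts like `a ↦ a^(1+2^(m-1))`
  have star : ∀ g : P, (4 : ℤ) ∣ r g - 1 → (2 : ℤ) ^ m ∣ r g * r g - 1 → (2 : ℤ) ^ m ∣ r g - 1 := by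
    intro g h4 hsq
    by_contra hne
    obtain ⟨s, hs⟩ := h4
    have hg : g ∉ zpowers a := fun h => hne (hrA g h)
    have hcop : IsCoprime ((2 : ℤ) ^ m) (2 * s + 1) := IsCoprime.pow_left ⟨-s, 1, by ring⟩
    obtain ⟨n, rfl⟩ : ∃ n, m = n + 1 := by
      refine ⟨m - 1, ?_⟩
      rcases Nat.eq_zero_or_pos m with rfl | h
      · exact absurd (by rw [pow_zero]; exact one_dvd _) hne
      · omega
    have hhalf : (2 : ℤ) ^ n ∣ r g - 1 := by
      have h1 : (2 : ℤ) ^ (n + 1) ∣ (2 * s + 1) * (2 * (r g - 1)) := by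
        rw [show (2 * s + 1) * (2 * (r g - 1)) = r g * r g - 1 by
          rw [show r g = 4 * s + 1 by linarith]; ring]
        exact hsq
      have h2 := hcop.dvd_of_dvd_mul_left h1
      rw [pow_succ'] at h2
      exact Int.dvd_of_mul_dvd_mul_left two_ne_zero h2
    obtain ⟨j, hj⟩ : ∃ j : ℤ, g ^ 2 = a ^ j :=
      (mem_zpowers_iff.1 (hcent _ (by
        have h1 := hmul g g
        rw [← sq] at h1
        have h2 := dvd_add h1 hsq
        rwa [show r (g ^ 2) - r g * r g + (r g * r g - 1) = r (g ^ 2) - 1 by ring] at h2))).imp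
        fun j hj => hj.symm
    have hjr : (2 : ℤ) ^ (n + 1) ∣ r g * j - j := by
      rw [← key, ← hrz, ← hj]
      group
    obtain ⟨j', hj'⟩ : (2 : ℤ) ∣ j := by
      obtain ⟨t, ht⟩ := hhalf
      by_contra h
      have hodd : IsCoprime ((2 : ℤ) ^ (n + 1)) j := by
        obtain ⟨w, hw | hw⟩ := Int.even_or_odd' j
        · exact absurd ⟨w, hw⟩ h
        · exact hw ▸ IsCoprime.pow_left ⟨-w, 1, by ring⟩
      refine hne (hodd.dvd_of_dvd_mul_left ?_)
      rwa [show j * (r g - 1) = r g * j - j by ring]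
    -- replace `g` by an involution `x`
    obtain ⟨i, hi⟩ : ∃ i : ℤ, (2 : ℤ) ^ (n + 1) ∣ i + r g * i + j := by
      obtain ⟨u, v, huv⟩ := hcop
      refine ⟨-(v * j'), u * j, ?_⟩
      rw [show r g = 4 * s + 1 by linarith, hj']
      linear_combination (-(2 * j')) * huv
    set x := a ^ i * g with hx
    have hx2 : x ^ 2 = 1 := by
      rw [hx, pow_two, show a ^ i * g * (a ^ i * g) = a ^ i * (g * a ^ i * g⁻¹) * g ^ 2 by
        rw [pow_two]; group, hrz, hj, ← zpow_add, ← zpow_add, ← zpow_zero a, key, sub_zero]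
      exact hi
    have hxA : x ∉ zpowers a := fun h => hg (by
      have := mul_mem (inv_mem (zpow_mem (mem_zpowers a) i)) h
      rwa [hx, inv_mul_cancel_left] at this)
    have hx1 : orderOf x = 2 := orderOf_eq_prime hx2 fun e => hxA (e ▸ one_mem _)
    set z := a ^ ((2 : ℤ) ^ n) with hz
    have hz1 : orderOf z = 2 := by
      refine orderOf_eq_prime ?_ fun e => ?_
      · rw [hz, ← zpow_natCast, ← zpow_mul, ← zpow_zero a, key, sub_zero]
        exact ⟨1, by ring⟩
      · rw [hz, ← zpow_zero a, key, sub_zero] at e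
        obtain ⟨t, ht⟩ := e
        rw [pow_succ, mul_assoc] at ht
        have : (1 : ℤ) = 2 * t :=
          mul_left_cancel₀ (pow_ne_zero n (two_ne_zero : (2 : ℤ) ≠ 0)) (by rw [mul_one]; exact ht)
        omega
    have hzc : ∀ h : P, h * z * h⁻¹ = z := by
      intro h
      rw [hz, hrz, key, ← sub_one_mul]
      obtain ⟨t, ht | ht⟩ := Int.even_or_odd' (r h)
      · exfalso
        obtain ⟨w, hw⟩ : (2 : ℤ) ∣ r h⁻¹ * r h - 1 := by
          have h1 := hmul h⁻¹ h
          have h2 := hrA (h⁻¹ * h) (by rw [inv_mul_cancel]; exact one_mem _)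
          have h3 := dvd_sub h2 h1
          rw [show r (h⁻¹ * h) - 1 - (r (h⁻¹ * h) - r h⁻¹ * r h) = r h⁻¹ * r h - 1 by ring] at h3
          exact (dvd_pow_self 2 (Nat.succ_ne_zero n)).trans h3
        rw [ht, mul_left_comm] at hw
        omega
      · exact ⟨t, by rw [ht]; ring⟩
    have hzA : z ∈ zpowers a := zpow_mem (mem_zpowers a) _
    have hnzx : z ≠ x := fun e => hxA (e ▸ hzA)
    have hN : (closure ({z, x} : Set P)).Normal := by
      refine normal_closure_pair fun h => ⟨?_, ?_⟩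
      · rw [hzc]; exact subset_closure (by simp)
      · obtain ⟨k, hk⟩ : ∃ k : ℤ, h * x * h⁻¹ * x⁻¹ = a ^ k := by
          refine (mem_zpowers_iff.1 (hcent _ ?_)).imp fun k hk => hk.symm
          have e1 := hmul (h * x * h⁻¹) x⁻¹
          have e2 := hmul (h * x) h⁻¹
          have e3 := hmul h x
          have e4 := hrA (h * h⁻¹) (by rw [mul_inv_cancel]; exact one_mem _)
          have e5 := hmul h h⁻¹
          have e6 := hrA (x * x⁻¹) (by rw [mul_inv_cancel]; exact one_mem _)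
          have e7 := hmul x x⁻¹
          have h1 := dvd_add (dvd_add (dvd_add e1 (dvd_mul_of_dvd_left e2 (r x⁻¹)))
            (dvd_mul_of_dvd_left e3 (r h⁻¹ * r x⁻¹)))
            (dvd_add (dvd_mul_of_dvd_left (dvd_sub e4 e5) (r x * r x⁻¹)) (dvd_sub e6 e7))
          ring_nf at h1 ⊢
          exact h1
        have hrx : (2 : ℤ) ^ (n + 1) ∣ r x - r g := by
          rw [← key, ← hr x, hx, show a ^ i * g * a * (a ^ i * g)⁻¹ = a ^ i * (g * a * g⁻¹) * (a ^ i)⁻¹ by
            group, hr g, ← zpow_neg, ← zpow_add, ← zpow_add]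
          congr 1
          ring
        have hk2 : (a ^ k * x) ^ 2 = 1 := by
          rw [← hk, inv_mul_cancel_right, conj_pow, hx2, mul_one, mul_inv_cancel]
        rw [pow_two, show a ^ k * x * (a ^ k * x) = a ^ k * (x * a ^ k * x⁻¹) * x ^ 2 by
          rw [pow_two]; group, hrz, hx2, mul_one, ← zpow_add, ← zpow_zero a, key, sub_zero] at hk2
        have hk3 : (2 : ℤ) ^ (n + 1) ∣ (2 * s + 1) * (2 * k) := by
          have := dvd_sub hk2 (dvd_mul_of_dvd_left hrx k)
          rw [show k + r x * k - (r x - r g) * k = (2 * s + 1) * (2 * k) by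
            rw [show r g = 4 * s + 1 by linarith]; ring] at this
          exact this
        have hk4 := (IsCoprime.pow_left ⟨-s, 1, by ring⟩ :
          IsCoprime ((2 : ℤ) ^ (n + 1)) (2 * s + 1)).dvd_of_dvd_mul_left hk3
        rw [pow_succ'] at hk4
        obtain ⟨t, ht⟩ := Int.dvd_of_mul_dvd_mul_left two_ne_zero hk4
        have e : h * x * h⁻¹ = z ^ t * x := by
          rw [hz, ← zpow_mul, ← ht, ← hk]
          group
        rw [e]
        exact mul_mem (zpow_mem (subset_closure (by simp)) t) (subset_closure (by simp))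
    have hzx : Commute z x := (mul_inv_eq_iff_eq_mul.1 (hzc x)).symm
    exact not_isCyclic_of_two_involutions _ (subset_closure (by simp)) (subset_closure (by simp))
      hz1 hx1 hnzx (hn _ hN (isMulCommutative_closure_pair hzx))
  -- every square lies in `⟨a⟩`
  have hsqA : ∀ g : P, g ^ 2 ∈ zpowers a := by
    intro g
    rcases Nat.lt_or_ge m 1 with hm0 | hm0
    · refine hcent _ ?_
      rw [show m = 0 by omega, pow_zero]
      exact one_dvd _
    by_contra hg
    obtain ⟨l, hl⟩ := IsPGroup.iff_orderOf.1 hP g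
    have hl1 : g ^ 2 ^ l = 1 := hl ▸ pow_orderOf_eq_one g
    classical
    have hex : ∃ k, g ^ 2 ^ k ∈ zpowers a := ⟨l, by rw [hl1]; exact one_mem _⟩
    have hk0 : 2 ≤ Nat.find hex := by
      by_contra h
      apply hg
      have h1 := Nat.find_spec hex
      rcases Nat.lt_or_ge (Nat.find hex) 1 with h2 | h2
      · rw [show Nat.find hex = 0 by omega, pow_zero, pow_one] at h1
        exact pow_mem h1 2
      · rw [show Nat.find hex = 1 by omega, pow_one] at h1
        exact h1
    obtain ⟨k, hk⟩ : ∃ k, Nat.find hex = k + 2 := ⟨Nat.find hex - 2, by omega⟩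
    have hmin : g ^ 2 ^ (k + 1) ∉ zpowers a := Nat.find_min hex (by omega)
    have hsp : g ^ 2 ^ (k + 2) ∈ zpowers a := hk ▸ Nat.find_spec hex
    refine hmin (hcent _ (star _ ?_ ?_))
    · set q := g ^ 2 ^ k
      have h1 : (2 : ℤ) ∣ (2 : ℤ) ^ m := dvd_pow_self 2 (by omega)
      have e : g ^ 2 ^ (k + 1) = q * q := by rw [← pow_add, pow_succ, mul_two]
      have h2 := hmul q q
      rcases Nat.lt_or_ge m 2 with hm1 | hm1
      · exfalso
        refine hmin (hcent _ ?_)
        rw [show m = 1 by omega, pow_one] at h1 ⊢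
        have h3 := hmul q⁻¹ q
        have h4 := hrA (q⁻¹ * q) (by rw [inv_mul_cancel]; exact one_mem _)
        rw [show m = 1 by omega, pow_one] at h2 h3 h4
        rw [← e] at h2
        obtain ⟨t, ht | ht⟩ := Int.even_or_odd' (r q)
        · rw [ht, mul_left_comm] at h3
          omega
        · rw [ht] at h2
          ring_nf at h2 ⊢
          omega
      · have h4d : (4 : ℤ) ∣ (2 : ℤ) ^ m := (show (4 : ℤ) = 2 ^ 2 by norm_num) ▸ pow_dvd_pow 2 hm1
        have h3 := dvd_sub (hrA (q⁻¹ * q) (by rw [inv_mul_cancel]; exact one_mem _)) (hmul q⁻¹ q)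
        rw [show r (q⁻¹ * q) - 1 - (r (q⁻¹ * q) - r q⁻¹ * r q) = r q⁻¹ * r q - 1 by ring] at h3
        rw [← e] at h2
        obtain ⟨t, ht | ht⟩ := Int.even_or_odd' (r q)
        · have := h1.trans h3
          rw [ht, mul_left_comm] at this
          omega
        · have h5 := h4d.trans h2
          rw [ht, show r (g ^ 2 ^ (k + 1)) - (2 * t + 1) * (2 * t + 1) =
            (r (g ^ 2 ^ (k + 1)) - 1) - 4 * (t * t + t) by ring] at h5
          omega
    · have h1 := hmul (g ^ 2 ^ (k + 1)) (g ^ 2 ^ (k + 1))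
      rw [← pow_add, ← mul_two, ← pow_succ] at h1
      have h2 := dvd_sub (hrA _ hsp) h1
      rwa [show r (g ^ 2 ^ (k + 2)) - 1 - (r (g ^ 2 ^ (k + 2)) - r (g ^ 2 ^ (k + 1)) * r (g ^ 2 ^ (k + 1))) =
        r (g ^ 2 ^ (k + 1)) * r (g ^ 2 ^ (k + 1)) - 1 by ring] at h2
  have hne : zpowers a ≠ ⊤ := fun e => hnc (isCyclic_iff_exists_zpowers_eq_top.2 ⟨a, e⟩)
  obtain ⟨g, hg⟩ : ∃ g, g ∉ zpowers a := by
    by_contra h
    exact hne ((eq_top_iff' _).2 (by simpa using h))
  have hrsq : ∀ g : P, (2 : ℤ) ^ m ∣ r g * r g - 1 := by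
    intro g
    have h2 := dvd_sub (hrA _ (sq g ▸ hsqA g : g * g ∈ zpowers a)) (hmul g g)
    rwa [show r (g * g) - 1 - (r (g * g) - r g * r g) = r g * r g - 1 by ring] at h2
  rw [index_eq_two_iff]
  refine ⟨g, fun h => ?_⟩
  by_cases hh : h ∈ zpowers a
  · refine Or.inr ⟨hh, fun h1 => hg ?_⟩
    have := mul_mem (inv_mem hh) h1
    rwa [inv_mul_cancel_left] at this
  · refine Or.inl ⟨hcent _ (star _ ?_ (hrsq _)), hh⟩
    have f1 : ¬ (4 : ℤ) ∣ r g - 1 := fun d => hg (hcent _ (star _ d (hrsq _)))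
    have f2 : ¬ (4 : ℤ) ∣ r h - 1 := fun d => hh (hcent _ (star _ d (hrsq _)))
    have hm2 : 2 ≤ m := by
      by_contra hm
      apply hg
      refine hcent g ?_
      have h1 := hrsq g
      rcases Nat.lt_or_ge m 1 with h0 | h0
      · rw [show m = 0 by omega, pow_zero]; exact one_dvd _
      · rw [show m = 1 by omega, pow_one] at h1 ⊢
        obtain ⟨t, ht | ht⟩ := Int.even_or_odd' (r g)
        · rw [ht, show 2 * t * (2 * t) = 2 * (2 * t * t) by ring] at h1
          omega
        · omega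
    have h4d : (4 : ℤ) ∣ (2 : ℤ) ^ m := (show (4 : ℤ) = 2 ^ 2 by norm_num) ▸ pow_dvd_pow 2 hm2
    have h5 := h4d.trans (hmul h g)
    have o1 := h4d.trans (hrsq g)
    have o2 := h4d.trans (hrsq h)
    obtain ⟨t, ht | ht⟩ := Int.even_or_odd' (r g)
    · rw [ht, show 2 * t * (2 * t) = 4 * (t * t) by ring] at o1; omega
    obtain ⟨w, hw | hw⟩ := Int.even_or_odd' (r h)
    · rw [hw, show 2 * w * (2 * w) = 4 * (w * w) by ring] at o2; omega
    obtain ⟨t', ht' | ht'⟩ := Int.even_or_odd' t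
    · omega
    obtain ⟨w', hw' | hw'⟩ := Int.even_or_odd' w
    · omega
    rw [ht, hw, ht', hw', show r (h * g) - (2 * (2 * w' + 1) + 1) * (2 * (2 * t' + 1) + 1) =
      r (h * g) - 1 - 4 * (4 * w' * t' + 3 * w' + 3 * t' + 2) by ring] at h5
    omega

end Helpers

open Subgroup in
/-- Let P be a finite p-group in which every abelian normal subgroup is cyclic, but which has a non-cyclic abelian
subgroup. Then p = 2 and P is generalized quaternion, dihedral of order at least 16, or quasi-dihedral. -/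
theorem result {P : Type*} [Group P] [Finite P] (p : ℕ) [Fact p.Prime]
    (hP : IsPGroup p P) (hn : ∀ A : Subgroup P, A.Normal → IsMulCommutative A → IsCyclic A)
    (hm : ∃ B : Subgroup P, IsMulCommutative B ∧ ¬ IsCyclic B) :
    p = 2 ∧ ((∃ n : ℕ, Nonempty (P ≃* QuaternionGroup n)) ∨ (∃ n : ℕ, 8 ≤ n ∧ Nonempty (P ≃* DihedralGroup n)) ∨
      Cfsg.IsQuasiDihedral P) := by
  obtain ⟨B, hBc, hBn⟩ := hm
  have hnc : ¬ IsCyclic P := fun h => hBn inferInstance
  have hp2 : p = 2 := by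
    by_contra hp2
    obtain ⟨A, -, hA, hAe, hA2⟩ := Cfsg.Agent.Solv.CycP.exists_normal_rank_two hp2 hP ⊤ inferInstance
      (fun h => hnc (Subgroup.topEquiv.isCyclic.1 h))
    haveI := hn A hA hAe.1
    obtain ⟨x, hx⟩ := IsCyclic.exists_ofOrder_eq_natCard (α := A)
    have h1 : orderOf x ∣ p := orderOf_dvd_of_pow_eq_one (Subtype.ext (by simpa using hAe.2 x x.2))
    rw [hx, hA2] at h1
    have := Nat.le_of_dvd (Fact.out : p.Prime).pos h1
    have := (Fact.out : p.Prime).two_le
    nlinarith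
  subst hp2
  refine ⟨rfl, ?_⟩
  obtain ⟨C, hC, hCi⟩ := exists_cyclic_two hP hn hnc
  obtain ⟨n, hcard⟩ := IsPGroup.iff_card.1 hP
  have hna : ∃ x y : P, x * y ≠ y * x := by
    by_contra h
    simp only [not_exists, not_not] at h
    exact hnc (Subgroup.topEquiv.isCyclic.1 (hn ⊤ inferInstance ⟨⟨fun u v => Subtype.ext (h u v)⟩⟩))
  have hn3 : 3 ≤ n := by
    by_contra hn3
    obtain ⟨x, y, hxy⟩ := hna
    haveI : IsMulCommutative P := by
      rcases (show n = 0 ∨ n = 1 ∨ n = 2 by omega) with h | h | h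
      · haveI := (Nat.card_eq_one_iff_unique.1 (hcard.trans (by rw [h, pow_zero]))).1
        exact ⟨⟨fun u v => Subsingleton.elim _ _⟩⟩
      · haveI := isCyclic_of_prime_card (α := P) (p := 2) (hcard.trans (by rw [h, pow_one]))
        infer_instance
      · exact IsPGroup.isMulCommutative_of_card_eq_prime_sq (p := 2) (hcard.trans (by rw [h]))
    exact hxy (mul_comm' x y)
  obtain ⟨a, b, ha, hb, hcase⟩ := Cfsg.Agent.S0646.result n hn3 hcard C hC hCi hna
  obtain ⟨k, rfl⟩ : ∃ k, n = k + 3 := ⟨n - 3, by omega⟩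
  rw [show k + 3 - 1 = k + 2 from rfl] at ha
  rw [show k + 3 - 2 = k + 1 from rfl] at hcase
  have hai : (zpowers a).index = 2 := by
    have h1 := (zpowers a).card_mul_index
    rw [Nat.card_zpowers, ha, hcard, pow_succ 2 (k + 2)] at h1
    exact Nat.eq_of_mul_eq_mul_left (pow_pos two_pos _) h1
  have hall : ∀ g : P, (∃ i : ℤ, g = a ^ i) ∨ ∃ i : ℤ, g = a ^ i * b := by
    intro g
    by_cases hg : g ∈ zpowers a
    · exact Or.inl ((mem_zpowers_iff.1 hg).imp fun i hi => hi.symm)
    · have h1 : g * b⁻¹ ∈ zpowers a := (mul_mem_iff_of_index_two hai).2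
        ⟨fun h => absurd h hg, fun h => absurd ((inv_mem_iff).1 h) hb⟩
      obtain ⟨i, hi⟩ := mem_zpowers_iff.1 h1
      exact Or.inr ⟨i, by rw [hi, inv_mul_cancel_right]⟩
  -- an involution `b` centralizing `a ^ 2` gives a noncyclic abelian normal subgroup
  have bad : b ^ 2 = 1 → (∀ r : ℤ, b * a * b⁻¹ = a ^ r → b * a ^ (2 : ℤ) * b⁻¹ = a ^ (2 : ℤ) →
      (2 : ℤ) ∣ r - 1 → False) := by
    intro hb2 r hr hc h2
    have hcc : Commute (a ^ (2 : ℤ)) b := (mul_inv_eq_iff_eq_mul.1 hc).symm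
    have hba : a * b * a⁻¹ = a ^ (1 - r) * b := by
      have e : b * a⁻¹ = a ^ (-r) * b := by rw [zpow_neg, ← hr]; group
      rw [mul_assoc, e, sub_eq_add_neg, zpow_add, zpow_one, mul_assoc]
    have hN : (closure ({a ^ (2 : ℤ), b} : Set P)).Normal := by
      obtain ⟨t, ht⟩ := h2
      have hmem : a ^ (1 - r) * b ∈ closure ({a ^ (2 : ℤ), b} : Set P) := by
        rw [show 1 - r = 2 * -t by linarith, zpow_mul]
        exact mul_mem (zpow_mem (subset_closure (by simp)) _) (subset_closure (by simp))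
      rw [← normalizer_eq_top_iff, eq_top_iff]
      have hgen : ∀ g ∈ ({a, b} : Set P), g ∈ normalizer (closure ({a ^ (2 : ℤ), b} : Set P) : Set P) := by
        intro g hg
        suffices h : (closure ({a ^ (2 : ℤ), b} : Set P)).map (MulAut.conj g).toMonoidHom =
            closure ({a ^ (2 : ℤ), b} : Set P) by
          rw [mem_normalizer_iff]
          intro v
          constructor
          · intro hv
            rw [← h]; exact ⟨v, hv, rfl⟩
          · intro hv
            rw [← h] at hv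
            obtain ⟨w, hw, e⟩ := hv
            simp only [MulEquiv.coe_toMonoidHom, MulAut.conj_apply, mul_right_cancel_iff, mul_left_cancel_iff] at e
            rwa [← e]
        refine eq_of_le_of_card_ge ?_ (card_map_of_injective (MulAut.conj g).injective).ge
        rw [MonoidHom.map_closure, closure_le, Set.image_pair]
        rintro v (rfl | rfl) <;> simp only [SetLike.mem_coe, MulEquiv.coe_toMonoidHom, MulAut.conj_apply]
        · rcases hg with rfl | rfl
          · rw [show g * g ^ (2 : ℤ) * g⁻¹ = g ^ (2 : ℤ) by group]; exact subset_closure (by simp)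
          · rw [hc]; exact subset_closure (by simp)
        · rcases hg with rfl | rfl
          · rw [hba]; exact hmem
          · rw [mul_inv_cancel_right]; exact subset_closure (by simp)
      intro g _
      rcases hall g with ⟨i, rfl⟩ | ⟨i, rfl⟩
      · exact zpow_mem (hgen a (by simp)) i
      · exact mul_mem (zpow_mem (hgen a (by simp)) i) (hgen b (by simp))
    have hb1 : orderOf b = 2 := orderOf_eq_prime hb2 fun e => hb (e ▸ one_mem _)
    refine not_isCyclic_of_two_involutions _ (x := (a ^ (2 : ℤ)) ^ (2 ^ k)) (y := b)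
      (pow_mem (subset_closure (by simp)) _) (subset_closure (by simp)) ?_ hb1 ?_
      (hn _ hN (isMulCommutative_closure_pair hcc))
    · rw [show (2 : ℤ) = ((2 : ℕ) : ℤ) from rfl, zpow_natCast, ← pow_mul, ← pow_succ',
        orderOf_pow_of_dvd (pow_ne_zero _ two_ne_zero) (ha ▸ pow_dvd_pow 2 (by omega)), ha,
        pow_succ 2 (k + 1), Nat.mul_div_cancel_left _ (pow_pos two_pos _)]
    · intro e
      exact hb (e ▸ pow_mem (zpow_mem (mem_zpowers a) _) _)
  rcases hcase with ⟨hb2, hba⟩ | ⟨hb2, hba⟩ | ⟨hk, hb2, hba⟩ | ⟨hk, hb2, hba⟩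
  · rcases Nat.eq_zero_or_pos k with rfl | hk
    · exact (bad hb2 (-1) (by rw [hba, zpow_neg_one]) (by
        rw [← conj_zpow, hba, inv_zpow, inv_eq_iff_mul_eq_one, ← zpow_add]
        have : a ^ (4 : ℕ) = 1 := by
          have := pow_orderOf_eq_one a
          rwa [ha] at this
        exact_mod_cast this) (by norm_num)).elim
    refine Or.inr (Or.inl ⟨2 ^ (k + 2), ?_, ?_⟩)
    · calc 8 = 2 ^ 3 := rfl
        _ ≤ _ := Nat.pow_le_pow_right two_pos (by omega)
    have key := Cfsg.Agent.Classical.nonempty_dihedral (zpowers a).subtype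
      (zpowers a).subtype_injective b (by rw [← pow_two, hb2])
      (fun c hc => hb (hc ▸ c.2)) ?_ ?_
    · rwa [Nat.card_zpowers, ha] at key
    · rintro ⟨c, hc⟩
      obtain ⟨i, rfl⟩ := mem_zpowers_iff.1 hc
      have h1 : b⁻¹ = b := inv_eq_of_mul_eq_one_right (by rw [← pow_two, hb2])
      have h2 := conj_zpow (a := b) (b := a) (i := i)
      rw [hba, inv_zpow, h1] at h2
      exact h2.symm
    · intro g
      rcases hall g with ⟨i, rfl⟩ | ⟨i, rfl⟩
      · exact ⟨⟨_, zpow_mem (mem_zpowers a) i⟩, Or.inl rfl⟩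
      · exact ⟨⟨_, zpow_mem (mem_zpowers a) i⟩, Or.inr rfl⟩
  · left
    have hz : orderOf (a ^ 2 ^ (k + 1)) = 2 := by
      rw [orderOf_pow_of_dvd (pow_ne_zero _ two_ne_zero) (ha ▸ pow_dvd_pow 2 (by omega)), ha,
        pow_succ 2 (k + 1), Nat.mul_div_cancel_left _ (pow_pos two_pos _)]
    have hout : ∀ i : ℤ, (a ^ i * b) ^ 2 ≠ 1 := by
      intro i h
      rw [pow_two, show a ^ i * b * (a ^ i * b) = a ^ i * (b * a ^ i * b⁻¹) * b ^ 2 by
        rw [pow_two]; group, ← conj_zpow, hba, inv_zpow, mul_inv_cancel, one_mul, hb2] at h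
      rw [h, orderOf_one] at hz
      exact absurd hz (by norm_num)
    rcases Cfsg.Agent.Struct.cyclic_or_quaternion hP (fun x y hx hy => by
      rcases hall x with ⟨i, rfl⟩ | ⟨i, rfl⟩
      swap
      · exact absurd (hx ▸ pow_orderOf_eq_one _) (hout i)
      rcases hall y with ⟨j, rfl⟩ | ⟨j, rfl⟩
      swap
      · exact absurd hy (hout j)
      have h1 : ∀ l : ℤ, (a ^ l) ^ 2 = 1 → a ^ l ∈ zpowers (a ^ 2 ^ (k + 1)) := fun l hl =>
        Cfsg.Agent.Solv.CycP.root_mem (p := 2) ha (zpow_mem (mem_zpowers a) l) hl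
      have h2 : zpowers (a ^ i) = zpowers (a ^ 2 ^ (k + 1)) :=
        eq_of_le_of_card_ge (zpowers_le.2 (h1 i (hx ▸ pow_orderOf_eq_one _)))
          (by rw [Nat.card_zpowers, Nat.card_zpowers, hx, hz])
      rw [h2]
      exact h1 j hy) with hcyc | ⟨-, l, -, hl⟩
    · exact absurd hcyc hnc
    · exact ⟨2 ^ l, hl⟩
  · refine (bad hb2 ((1 + 2 ^ (k + 1) : ℕ) : ℤ) (by rw [zpow_natCast]; exact hba) ?_ ⟨2 ^ k, ?_⟩).elim
    · have h1 : a ^ (2 ^ (k + 2)) = 1 := ha ▸ pow_orderOf_eq_one a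
      rw [← conj_zpow, hba, show (2 : ℤ) = ((2 : ℕ) : ℤ) from rfl, zpow_natCast, zpow_natCast,
        ← pow_mul, show (1 + 2 ^ (k + 1)) * 2 = 2 + 2 ^ (k + 2) by ring, pow_add, h1, mul_one]
    · push_cast
      ring
  · refine Or.inr (Or.inr ⟨k + 2, by omega, hcard, a, b, ha, ?_, ?_⟩)
    · exact orderOf_eq_prime hb2 fun e => hb (e ▸ one_mem _)
    · rw [show k + 2 - 1 = k + 1 from rfl]
      exact hba


end Cfsg.Agent.S0519
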