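import Cfsg.Statements.S0520
import Cfsg.Agent.Lib.Struct.FourGraph
-- import your own Cfsg.Agent.* helpers here

set_option autoImplicit false
open Cfsg

namespace Cfsg.Agent.S0520
open Cfsg.Agent.FourGraph
open scoped Pointwise

theorem mem_of_inter {G : Type*} [Group G] [Finite G] (S : Sylow 2 G) (K : Subgroup G)
    (hK : ∀ Q : Subgroup G, Q ≤ (S : Subgroup G) → (∃ U : Subgroup G, IsKleinFour U ∧ U ≤ Q) →
      Subgroup.normalizer (Q : Set G) ≤ K) :
    ∀ (n : ℕ) (g : G), Nat.card (S : Subgroup G) - Nat.card ((S : Subgroup G) ⊓ MulAut.conj g • (S : Subgroup G) : Subgroup G) = n →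
      (∃ U : Subgroup G, IsKleinFour U ∧ U ≤ (S : Subgroup G) ⊓ MulAut.conj g • (S : Subgroup G)) → g ∈ K := by
  classical
  haveI : Fact (Nat.Prime 2) := ⟨Nat.prime_two⟩
  intro n
  induction n using Nat.strong_induction_on with
  | _ n ih =>
    intro g hn hfour
    set S' : Subgroup G := MulAut.conj g • (S : Subgroup G) with hS'
    set P : Subgroup G := (S : Subgroup G) ⊓ S' with hP
    obtain ⟨U, hU, hUP⟩ := hfour
    have hmem : ∀ (a : G) (H : Subgroup G) (x : G), x ∈ MulAut.conj a • H ↔ a⁻¹ * x * a ∈ H := by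
      intro a H x
      rw [Subgroup.mem_pointwise_smul_iff_inv_smul_mem]
      simp [← map_inv, MulAut.conj_apply]
    have hS'p : IsPGroup 2 S' := S.isPGroup'.map _
    have hcardS' : Nat.card S' = Nat.card (S : Subgroup G) := Subgroup.card_map_of_injective (MulEquiv.injective _)
    by_cases htop : P = (S : Subgroup G)
    · have hle : (S : Subgroup G) ≤ S' := htop ▸ inf_le_right
      have he : (S : Subgroup G) = S' := Subgroup.eq_of_le_of_card_ge hle hcardS'.le
      apply hK (S : Subgroup G) le_rfl ⟨U, hU, hUP.trans inf_le_left⟩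
      rw [Subgroup.mem_normalizer_iff]
      intro x
      conv_rhs => rw [he, hS', hmem]
      simp [mul_assoc]
    · have hlt : P < (S : Subgroup G) := lt_of_le_of_ne inf_le_left htop
      have hlt' : P < S' := by
        refine lt_of_le_of_ne inf_le_right fun e => htop (Subgroup.eq_of_le_of_card_ge inf_le_left ?_)
        rw [e, hcardS']
      have grow : ∀ T : Subgroup G, IsPGroup 2 T → P < T → Nat.card P < Nat.card (T ⊓ Subgroup.normalizer (P : Set G) : Subgroup G) := by
        intro T hT hPT
        haveI : Group.IsNilpotent T := hT.isNilpotent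
        have h1 := normalizerCondition_of_isNilpotent (G := T) (P.subgroupOf T)
          (lt_top_iff_ne_top.mpr fun h => hPT.not_ge (Subgroup.subgroupOf_eq_top.mp h))
        rw [← Subgroup.subgroupOf_normalizer_eq hPT.le] at h1
        have h2 : P < T ⊓ Subgroup.normalizer (P : Set G) := by
          refine lt_of_le_of_ne (le_inf hPT.le Subgroup.le_normalizer) fun e => h1.ne ?_
          ext x
          exact ⟨fun h => Subgroup.le_normalizer h, fun h => e.symm ▸ (⟨x.2, h⟩ : (x : G) ∈ T ⊓ Subgroup.normalizer (P : Set G))⟩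
        by_contra hc
        exact h2.ne (Subgroup.eq_of_le_of_card_ge h2.le (by omega))
      set N := Subgroup.normalizer (P : Set G) with hN
      have hNK : N ≤ K := hK P inf_le_left ⟨U, hU, hUP⟩
      set T1 : Subgroup G := (S : Subgroup G) ⊓ N
      set T2 : Subgroup G := S' ⊓ N
      have c1 : Nat.card P < Nat.card T1 := grow _ S.isPGroup' hlt
      have c2 : Nat.card P < Nat.card T2 := grow _ hS'p hlt'
      obtain ⟨R, hR⟩ := IsPGroup.exists_le_sylow (P := T1.subgroupOf N)
        ((S.isPGroup'.to_le (inf_le_left : T1 ≤ _)).of_equiv (Subgroup.subgroupOfEquivOfLe inf_le_right).symm)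
      obtain ⟨R₂, hR₂⟩ := IsPGroup.exists_le_sylow (P := T2.subgroupOf N)
        ((hS'p.to_le (inf_le_left : T2 ≤ _)).of_equiv (Subgroup.subgroupOfEquivOfLe inf_le_right).symm)
      obtain ⟨m, hm⟩ := MulAction.exists_smul_eq N R₂ R
      obtain ⟨W, hW⟩ := IsPGroup.exists_le_sylow (P := (R : Subgroup N).map N.subtype) (R.isPGroup'.map _)
      obtain ⟨h, hh⟩ := MulAction.exists_smul_eq G S W
      have hWh : (W : Subgroup G) = MulAut.conj h • (S : Subgroup G) := by rw [← hh]; rfl
      have hT1W : T1 ≤ MulAut.conj h • (S : Subgroup G) := by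
        rw [← hWh]
        intro x hx
        exact hW ⟨⟨x, hx.2⟩, hR hx, rfl⟩
      have hU1 : U ≤ T1 := fun x hx => ⟨(hUP hx).1, Subgroup.le_normalizer (hUP hx)⟩
      have hPS : Nat.card P ≤ Nat.card (S : Subgroup G) := Subgroup.card_le_of_le inf_le_left
      have hle1 : T1 ≤ (S : Subgroup G) ⊓ MulAut.conj h • (S : Subgroup G) := le_inf inf_le_left hT1W
      have hPlt : Nat.card P < Nat.card (S : Subgroup G) := by
        have : Nat.card T1 ≤ Nat.card (S : Subgroup G) := Subgroup.card_le_of_le inf_le_left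
        omega
      have hhK : h ∈ K := by
        refine ih _ ?_ h rfl ⟨U, hU, hU1.trans hle1⟩
        have := Subgroup.card_le_of_le hle1
        omega
      let d : G := h⁻¹ * (m : G) * g
      have hle2 : MulAut.conj (h⁻¹ * (m : G)) • T2 ≤ (S : Subgroup G) ⊓ MulAut.conj d • (S : Subgroup G) := by
        intro x hx
        rw [hmem] at hx
        set y := (h⁻¹ * (m : G))⁻¹ * x * (h⁻¹ * (m : G)) with hy
        refine ⟨?_, ?_⟩
        · show x ∈ (S : Subgroup G)
          have hy2 : (⟨y, hx.2⟩ : N) ∈ (R₂ : Subgroup N) := hR₂ hx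
          have hy3 : m * (⟨y, hx.2⟩ : N) * m⁻¹ ∈ (R : Subgroup N) := by
            rw [← hm]
            show m * (⟨y, hx.2⟩ : N) * m⁻¹ ∈ MulAut.conj m • (R₂ : Subgroup N)
            rw [Subgroup.mem_pointwise_smul_iff_inv_smul_mem]
            simpa [← map_inv, MulAut.conj_apply, mul_assoc] using hy2
          have h4 : (m : G) * y * (m : G)⁻¹ ∈ (W : Subgroup G) := hW ⟨_, hy3, rfl⟩
          rw [hWh, hmem, hy] at h4
          simpa [mul_assoc] using h4
        · show x ∈ MulAut.conj d • (S : Subgroup G)
          rw [hmem]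
          have h5 : y ∈ S' := hx.1
          rw [hS', hmem, hy] at h5
          simpa [d, mul_assoc] using h5
      have hdK : d ∈ K := by
        refine ih _ ?_ d rfl ⟨MulAut.conj (h⁻¹ * (m : G)) • U, ?_, ?_⟩
        · have := Subgroup.card_le_of_le hle2
          rw [show Nat.card (MulAut.conj (h⁻¹ * (m : G)) • T2 : Subgroup G) = Nat.card T2 from Subgroup.card_map_of_injective (MulEquiv.injective _)] at this
          omega
        · exact four_map _ (MulEquiv.injective _) hU
        · exact le_trans (Subgroup.pointwise_smul_le_pointwise_smul_iff.mpr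
            (show U ≤ T2 from le_inf (hUP.trans inf_le_right) (hUP.trans Subgroup.le_normalizer))) hle2
      have : g = (m : G)⁻¹ * h * d := by simp [d, mul_assoc]
      rw [this]
      exact K.mul_mem (K.mul_mem (K.inv_mem (hNK m.2)) hhK) hdK


/-- Let G be a finite group of 2-rank at least 2 and S a Sylow 2-subgroup whose commuting graph of Klein four-subgroups is
connected. Then the commuting graph of Klein four-subgroups of G is disconnected if and only if the 2-generated core — the
subgroup generated by the normalizers N_G(Q) of the subgroups Q of S that contain a Klein four-group — is a proper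
subgroup of G. -/
theorem result {G : Type*} [Group G] [Finite G] (h2 : ¬ Cfsg.PRankLE 2 1 G)
    (S : Sylow 2 G) (hS : Cfsg.IsFourConnected (S : Subgroup G)) :
    ¬ Cfsg.IsFourConnected G ↔
      (⨆ Q : {Q : Subgroup G // Q ≤ (S : Subgroup G) ∧ ¬ Cfsg.PRankLE 2 1 Q},
          Subgroup.normalizer ((Q : Subgroup G) : Set G)) ≠ ⊤ := by
  skip
  classical
  haveI : Fact (Nat.Prime 2) := ⟨Nat.prime_two⟩
  set K : Subgroup G := ⨆ Q : {Q : Subgroup G // Q ≤ (S : Subgroup G) ∧ ¬ Cfsg.PRankLE 2 1 Q},
          Subgroup.normalizer ((Q : Subgroup G) : Set G) with hKdef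
  have hfourQ : ∀ Q : Subgroup G, (∃ U : Subgroup G, IsKleinFour U ∧ U ≤ Q) ↔ ¬ Cfsg.PRankLE 2 1 Q := by
    intro Q
    constructor
    · rintro ⟨U, hU, hUQ⟩ h
      have := h (U.subgroupOf Q)
        ⟨⟨fun a b => Subtype.ext (Subtype.ext (comm_of_four hU a.2 b.2))⟩⟩
        (fun a ha => Subtype.ext (by rw [Subgroup.coe_pow, pow_two]; exact pow_two_of_four hU ha))
      rw [Nat.card_congr (Subgroup.subgroupOfEquivOfLe hUQ).toEquiv, hU.card_four] at this
      omega
    · intro h
      simp only [Cfsg.PRankLE, not_forall] at h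
      obtain ⟨A, hA, hA2, hcard⟩ := h
      obtain ⟨U, hU, hUA⟩ := exists_four_le hA hA2 (by omega)
      exact ⟨U.map Q.subtype, four_map _ Q.subtype_injective hU, Subgroup.map_subtype_le _⟩
  have hK : ∀ Q : Subgroup G, Q ≤ (S : Subgroup G) → (∃ U : Subgroup G, IsKleinFour U ∧ U ≤ Q) →
      Subgroup.normalizer (Q : Set G) ≤ K := fun Q hQS hQ =>
    le_iSup (fun Q : {Q : Subgroup G // Q ≤ (S : Subgroup G) ∧ ¬ Cfsg.PRankLE 2 1 Q} =>
      Subgroup.normalizer ((Q : Subgroup G) : Set G)) ⟨Q, hQS, (hfourQ Q).mp hQ⟩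
  have hconj : ∀ U : Subgroup G, IsKleinFour U → ∃ k : G, MulAut.conj k • U ≤ (S : Subgroup G) := by
    intro U hU
    obtain ⟨R, hR⟩ := IsPGroup.exists_le_sylow (P := U)
      (IsPGroup.of_card (p := 2) (n := 2) (by rw [hU.card_four]; norm_num))
    obtain ⟨k, hk⟩ := MulAction.exists_smul_eq G R S
    refine ⟨k, ?_⟩
    rw [← hk]
    exact Subgroup.pointwise_smul_le_pointwise_smul_iff.mpr hR
  have hSconn : ∀ U V : Subgroup G, IsKleinFour U → IsKleinFour V → U ≤ (S : Subgroup G) →
      V ≤ (S : Subgroup G) → Relation.ReflTransGen Edge U V := by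
    intro U V hU hV hUS hVS
    have hf : ∀ W : Subgroup G, IsKleinFour W → W ≤ (S : Subgroup G) → IsKleinFour (W.subgroupOf (S : Subgroup G)) := by
      intro W hW hWS
      let e := Subgroup.subgroupOfEquivOfLe hWS
      exact ⟨(Nat.card_congr e.toEquiv).trans hW.card_four, (Monoid.exponent_eq_of_mulEquiv e).trans hW.exponent_two⟩
    have := chain_map (S : Subgroup G).subtype (S : Subgroup G).subtype_injective
      (hS _ _ (hf U hU hUS) (hf V hV hVS))
    rwa [Subgroup.subgroupOf_map_subtype, Subgroup.subgroupOf_map_subtype, inf_eq_left.mpr hUS,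
      inf_eq_left.mpr hVS] at this
  obtain ⟨U₀', hU₀'⟩ : ∃ U : Subgroup G, IsKleinFour U := by
    simp only [Cfsg.PRankLE, not_forall] at h2
    obtain ⟨A, hA, hA2, hcard⟩ := h2
    obtain ⟨U, hU, -⟩ := exists_four_le hA hA2 (by omega)
    exact ⟨U, hU⟩
  obtain ⟨k₀, hk₀⟩ := hconj U₀' hU₀'
  have hU₀ : IsKleinFour (MulAut.conj k₀ • U₀' : Subgroup G) := four_map _ (MulEquiv.injective _) hU₀'
  generalize MulAut.conj k₀ • U₀' = U₀ at hU₀ hk₀
  have hchain_conj : ∀ (g : G) {A B : Subgroup G}, Relation.ReflTransGen Edge A B →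
      Relation.ReflTransGen Edge (MulAut.conj g • A) (MulAut.conj g • B) := fun g A B h =>
    chain_map _ (MulEquiv.injective _) h
  constructor
  · intro hnot htop
    apply hnot
    let St : Subgroup G :=
      { carrier := {g | Relation.ReflTransGen Edge U₀ (MulAut.conj g • U₀)}
        one_mem' := by
          show Relation.ReflTransGen Edge U₀ (MulAut.conj (1 : G) • U₀)
          rw [map_one, one_smul]
        mul_mem' := fun {a b} ha hb => by
          show Relation.ReflTransGen Edge U₀ (MulAut.conj (a * b) • U₀)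
          rw [map_mul, mul_smul]
          exact ha.trans (hchain_conj a hb)
        inv_mem' := fun {a} ha => by
          have := hchain_conj a⁻¹ ha
          rw [← mul_smul, ← map_mul, inv_mul_cancel, map_one, one_smul] at this
          exact chain_symm this }
    have hKSt : K ≤ St := by
      refine iSup_le fun ⟨Q, hQS, hQ⟩ g hg => ?_
      obtain ⟨U, hU, hUQ⟩ := (hfourQ Q).mpr hQ
      have hgU : MulAut.conj g • U ≤ (S : Subgroup G) := by
        intro x hx
        rw [Subgroup.mem_pointwise_smul_iff_inv_smul_mem] at hx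
        apply hQS
        have := (Subgroup.mem_normalizer_iff.mp hg _).mp (hUQ hx)
        simpa [← map_inv, MulAut.conj_apply, mul_assoc] using this
      have hgU4 : IsKleinFour (MulAut.conj g • U : Subgroup G) := four_map _ (MulEquiv.injective _) hU
      have h1 := hSconn U₀ (MulAut.conj g • U) hU₀ hgU4 hk₀ hgU
      exact h1.trans (hchain_conj g (hSconn U U₀ hU hU₀ (hUQ.trans hQS) hk₀))
    have key : ∀ V : Subgroup G, IsKleinFour V → Relation.ReflTransGen Edge U₀ V := by
      intro V hV
      obtain ⟨k, hk⟩ := hconj V hV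
      have h1 := hSconn U₀ (MulAut.conj k • V) hU₀ (four_map _ (MulEquiv.injective _) hV) hk₀ hk
      have hmem : k⁻¹ ∈ St := hKSt (htop ▸ Subgroup.mem_top _)
      have h2 := hchain_conj k⁻¹ h1
      rw [← mul_smul, ← map_mul, inv_mul_cancel, map_one, one_smul] at h2
      exact Relation.ReflTransGen.trans hmem h2
    intro U V hU hV
    exact (chain_symm (key U hU)).trans (key V hV)
  · intro htop hG
    apply htop
    rw [eq_top_iff]
    intro g _
    have inK : ∀ x : G, (∃ U : Subgroup G, IsKleinFour U ∧ U ≤ (S : Subgroup G) ⊓ MulAut.conj x • (S : Subgroup G)) → x ∈ K :=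
      fun x hx => mem_of_inter S K hK _ x rfl hx
    have claim : ∀ V : Subgroup G, Relation.ReflTransGen Edge U₀ V →
        ∃ k ∈ K, V ≤ MulAut.conj k • (S : Subgroup G) := by
      intro V hV
      induction hV with
      | refl => exact ⟨1, K.one_mem, by rw [map_one, one_smul]; exact hk₀⟩
      | @tail B C _ hBC ih =>
        obtain ⟨k, hk, hBk⟩ := ih
        have hp : IsPGroup 2 (B ⊔ C : Subgroup G) := by
          refine IsPGroup.to_sup_of_normal_right' (IsPGroup.of_card (p := 2) (n := 2) (by rw [hBC.1.card_four]; norm_num))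
            (IsPGroup.of_card (p := 2) (n := 2) (by rw [hBC.2.1.card_four]; norm_num)) fun b hb => ?_
          rw [Subgroup.mem_normalizer_iff]
          intro c
          constructor
          · intro hc
            rw [hBC.2.2 b hb c hc, mul_inv_cancel_right]; exact hc
          · intro hc
            have h := hBC.2.2 b hb _ hc
            rw [inv_mul_cancel_right, mul_left_cancel_iff] at h
            rw [h] at hc
            exact hc
        obtain ⟨R, hR⟩ := hp.exists_le_sylow
        obtain ⟨r, hr⟩ := MulAction.exists_smul_eq G S R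
        have hr' : (R : Subgroup G) = MulAut.conj r • (S : Subgroup G) := by rw [← hr]; rfl
        have hx : k⁻¹ * r ∈ K := by
          refine inK _ ⟨MulAut.conj k⁻¹ • B, four_map _ (MulEquiv.injective _) hBC.1, le_inf ?_ ?_⟩
          · rw [map_inv, Subgroup.pointwise_smul_subset_iff, inv_inv]; exact hBk
          · rw [map_mul, mul_smul]
            exact Subgroup.pointwise_smul_le_pointwise_smul_iff.mpr ((le_sup_left.trans hR).trans_eq hr')
        refine ⟨r, ?_, (le_sup_right.trans hR).trans_eq hr'⟩
        simpa using K.mul_mem hk hx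
    obtain ⟨k, hk, hle⟩ := claim _ (hG U₀ (MulAut.conj g • U₀) hU₀ (four_map _ (MulEquiv.injective _) hU₀))
    have hx : k⁻¹ * g ∈ K := by
      refine inK _ ⟨MulAut.conj (k⁻¹ * g) • U₀, four_map _ (MulEquiv.injective _) hU₀, le_inf ?_ ?_⟩
      · rw [map_mul, mul_smul, map_inv, Subgroup.pointwise_smul_subset_iff, inv_inv]; exact hle
      · exact Subgroup.pointwise_smul_le_pointwise_smul_iff.mpr hk₀
    simpa using K.mul_mem hk hx

end Cfsg.Agent.S0520
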