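import Cfsg.Statements.S0521
import Mathlib
import Cfsg.Agent.Lib.Solv.QuadraticStable
import Cfsg.Agent.Lib.Solv.PSolvable
import Cfsg.Agent.Lib.Solv.Coprime
import Cfsg.Agent.Lib.Solv.StructMisc
import Cfsg.Agent.Lib.Local.CharPBasics
import Cfsg.Agent.Lib.Struct.CoprimeMinimal
-- import your own Cfsg.Agent.* helpers here

set_option autoImplicit false
open Cfsg

namespace Cfsg.Agent.S0521

/-- Let X be a finite solvable group of odd order, p a prime and S a Sylow p-subgroup of X whose commutator subgroup is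
cyclic. Then the product of the largest normal subgroup of X of order prime to p with S is a normal subgroup of X. -/
theorem result {X : Type*} [Group X] [Finite X] [Group.IsSolvable X]
    (hX : Odd (Nat.card X)) (p : ℕ) [Fact p.Prime] (S : Sylow p X) (hS : IsCyclic (commutator (S : Subgroup X))) :
    (Cfsg.pPrimeCore p X ⊔ (S : Subgroup X)).Normal := by
  skip
  classical
  rcases eq_or_ne p 2 with rfl | hp2
  · have hco : (Nat.card (⊤ : Subgroup X)).Coprime 2 := by
      rw [Subgroup.card_top]; exact Nat.coprime_two_right.2 hX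
    have htop : Cfsg.pPrimeCore 2 X = ⊤ := top_le_iff.1 (Cfsg.Agent.Solv.le_pPrimeCore hco)
    rw [htop, top_sup_eq]; infer_instance
  set O := Cfsg.pPrimeCore p X with hO
  set f := QuotientGroup.mk' O with hf
  have hfs : Function.Surjective f := QuotientGroup.mk'_surjective O
  set T := (S : Subgroup X).map f with hT
  suffices hTn : T = Cfsg.pCore p (X ⧸ O) by
    have h : (T.comap f).Normal := by rw [hTn]; infer_instance
    rwa [hT, Subgroup.comap_map_eq, QuotientGroup.ker_mk', sup_comm] at h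
  have hTp : IsPGroup p T := S.isPGroup'.map f
  set Q := Cfsg.pCore p (X ⧸ O) with hQ
  have hQp : IsPGroup p Q := Cfsg.Agent.Solv.isPGroup_pCore p _
  let S' : Sylow p (X ⧸ O) := S.mapSurjective hfs
  have hS' : (S' : Subgroup (X ⧸ O)) = T := rfl
  have hQT : Q ≤ T := hS' ▸ Cfsg.Agent.Solv.pCore_le_sylow S'
  have hodd : Odd (Nat.card (X ⧸ O)) := hX.of_dvd_nat (Subgroup.card_quotient_dvd_card O)
  have hfree : ¬ Cfsg.Agent.Solv.Quad.InvSL p (X ⧸ O) := by
    rintro ⟨R, ψ, hψ⟩
    have h1 : (-1 : Matrix.SpecialLinearGroup (Fin 2) (ZMod p)) ≠ 1 := by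
      intro h
      have h' := congrArg (fun M : Matrix.SpecialLinearGroup (Fin 2) (ZMod p) => (M : Matrix (Fin 2) (Fin 2) (ZMod p)) 0 0) h
      simp at h'
      have h2 : ((2 : ℕ) : ZMod p) = 0 := by push_cast; linear_combination -h'
      rw [ZMod.natCast_eq_zero_iff, Nat.prime_dvd_prime_iff_eq Fact.out Nat.prime_two] at h2
      exact hp2 h2
    have h2 : orderOf (-1 : Matrix.SpecialLinearGroup (Fin 2) (ZMod p)) = 2 :=
      orderOf_eq_prime (neg_one_sq) h1
    have h3 : 2 ∣ Nat.card (X ⧸ O) :=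
      (h2 ▸ orderOf_dvd_natCard _).trans ((Subgroup.card_dvd_of_surjective ψ hψ).trans R.card_subgroup_dvd_card)
    exact Nat.not_even_iff_odd.2 hodd (even_iff_two_dvd.2 h3)
  have hstab := (Cfsg.Agent.Solv.Quad.isActionPStable_of_free hp2 hfree).2.1
  have hcon : Subgroup.centralizer (Q : Set (X ⧸ O)) ≤ Q :=
    Cfsg.Agent.Solv.centralizer_pCore_le_of_isPSolvable Cfsg.Agent.Solv.isPSolvable_of_isSolvable
      (Cfsg.Agent.Solv.pPrimeCore_quotient_pPrimeCore p)
  set N := (frattini ↥Q).map Q.subtype with hN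
  haveI := hQp.isNilpotent
  set π := QuotientGroup.mk' N with hπ
  -- the image of the derived group of the Sylow subgroup in the Frattini quotient
  set W := (⁅T, T⁆ ⊓ Q).map π with hW
  have hTT : ⁅T, T⁆ ≤ T := Subgroup.commutator_le.2 fun a ha b hb =>
    T.mul_mem (T.mul_mem (T.mul_mem ha hb) (T.inv_mem ha)) (T.inv_mem hb)
  have hcycT : IsCyclic ↥⁅T, T⁆ := by
    have e : ⁅T, T⁆ = (commutator ↥(S : Subgroup X)).map (f.comp (S : Subgroup X).subtype) := by
      rw [commutator_def, Subgroup.map_commutator, ← Subgroup.map_map, ← MonoidHom.range_eq_map,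
        Subgroup.range_subtype, hT]
    rw [e]
    exact isCyclic_of_surjective _ ((f.comp (S : Subgroup X).subtype).subgroupMap_surjective _)
  have hcycW : IsCyclic W := by
    haveI := hcycT
    haveI : IsCyclic ↥(⁅T, T⁆ ⊓ Q) := isCyclic_of_injective (Subgroup.inclusion inf_le_left) (Subgroup.inclusion_injective inf_le_left)
    rw [hW]
    exact isCyclic_of_surjective _ (π.subgroupMap_surjective _)
  have hWp : ∀ w ∈ W, w ^ p = 1 := by
    rintro _ ⟨y, hy, rfl⟩
    rw [← map_pow, hπ, QuotientGroup.mk'_apply, QuotientGroup.eq_one_iff]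
    exact ⟨(⟨y, hy.2⟩ : Q) ^ p, Cfsg.Agent.Struct.CoprimeMinimal.pow_mem_frattini hQp _, rfl⟩
  have hWT : ⁅W, T.map π⁆ = ⊥ := by
    by_cases hW0 : W = ⊥
    · rw [hW0, Subgroup.commutator_bot_left]
    have hWle : W ≤ T.map π := Subgroup.map_mono (inf_le_right.trans hQT)
    have hn : T.map π ≤ Subgroup.normalizer (W : Set ((X ⧸ O) ⧸ N)) := by
      have h1 : T ≤ Subgroup.normalizer ((⁅T, T⁆ ⊓ Q : Subgroup (X ⧸ O)) : Set (X ⧸ O)) := by
        refine Cfsg.Agent.Solv.le_normalizer_of_conj_mem fun t ht y hy => ⟨?_, ?_⟩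
        · have h := Subgroup.commutator_mem_commutator ht (hTT hy.1)
          simpa [commutatorElement_def] using ⁅T, T⁆.mul_mem h hy.1
        · exact Subgroup.Normal.conj_mem inferInstance y hy.2 t
      exact (Subgroup.map_mono h1).trans (Subgroup.le_normalizer_map π)
    have hlt := Cfsg.Agent.Solv.commutator_lt_of_nilpotent (hTp.map π).isNilpotent hWle hn hW0
    obtain ⟨⟨w, hw⟩, hgen⟩ := hcycW.exists_generator
    have hcard : Nat.card W ∣ p := by
      rw [← orderOf_eq_card_of_forall_mem_zpowers hgen, Subgroup.orderOf_mk]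
      exact orderOf_dvd_of_pow_eq_one (hWp w hw)
    by_contra hne
    rcases (Nat.dvd_prime (Fact.out : p.Prime)).1 hcard with h | h
    · exact hW0 (Subgroup.eq_bot_of_card_eq _ h)
    · have hd := Subgroup.card_dvd_of_le hlt.le
      rw [h] at hd
      rcases (Nat.dvd_prime (Fact.out : p.Prime)).1 hd with h' | h'
      · exact hne (Subgroup.eq_bot_of_card_eq _ h')
      · exact hlt.ne (Subgroup.eq_of_le_of_card_ge hlt.le (by omega))
  refine le_antisymm (fun a ha => ?_) hQT
  have haz : Subgroup.zpowers a ≤ T := Subgroup.zpowers_le.2 ha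
  have hquad : ⁅⁅Q, Subgroup.zpowers a⁆, Subgroup.zpowers a⁆ ≤ N := by
    rw [← QuotientGroup.ker_mk' N, ← hπ, ← Subgroup.map_eq_bot_iff, Subgroup.map_commutator]
    refine le_bot_iff.1 ((Subgroup.commutator_mono (Subgroup.map_mono (le_inf ?_ ?_)) (Subgroup.map_mono haz)).trans hWT.le)
    · exact Subgroup.commutator_mono hQT haz
    · exact Subgroup.le_normalizer_iff_commutator_le_left.1 ((Subgroup.normalizer_eq_top Q).symm ▸ le_top)
  obtain ⟨D, hDn, hKD, ⟨k, hk⟩, haD⟩ := hstab a hquad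
  haveI := hDn
  have hK : IsPGroup p ↥(Cfsg.sectionKernel Q N) := by
    refine Cfsg.Agent.Local.CharPB.isPGroup_of_forall_eq_one fun c hc hco => ?_
    have hle : Subgroup.zpowers ((c : X ⧸ O)) ≤ Subgroup.centralizer (Q : Set (X ⧸ O)) := by
      refine Cfsg.Agent.Solv.centralizes_of_trivial_on_frattini_quotient _ Q ((Subgroup.normalizer_eq_top Q).symm ▸ le_top) ?_ ?_
      · rw [Nat.card_zpowers]
        obtain ⟨i, hi⟩ := IsPGroup.iff_card.1 (hQp.to_subgroup (frattini ↥Q))
        rw [hi]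
        exact (hco).pow_right i
      · intro y hy q hq
        have hyK : y ∈ Cfsg.sectionKernel Q N := (Subgroup.zpowers_le.2 hc) hy
        have h1 := Subgroup.mem_centralizer_iff.1 hyK (π q) ⟨q, hq, rfl⟩
        rw [← hN, ← QuotientGroup.ker_mk' N, MonoidHom.mem_ker]
        change π (y * q * y⁻¹ * q⁻¹) = 1
        rw [map_mul, map_mul, map_mul, map_inv, map_inv, show π y * π q = π q * π y from h1.symm]
        group
    have hcQ : (c : X ⧸ O) ∈ Q := hcon (hle (Subgroup.mem_zpowers _))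
    obtain ⟨i, hi⟩ := IsPGroup.iff_card.1 hQp
    refine orderOf_eq_one_iff.1 (Nat.eq_one_of_dvd_coprimes
      ((hco).pow_right i) dvd_rfl ?_)
    exact hi ▸ Subgroup.orderOf_dvd_natCard _ hcQ
  obtain ⟨i, hi⟩ := IsPGroup.iff_card.1 hK
  have hDp : IsPGroup p D := IsPGroup.of_card (n := i + k) (by
    rw [← Subgroup.card_mul_index ((Cfsg.sectionKernel Q N).subgroupOf D),
      Nat.card_congr (Subgroup.subgroupOfEquivOfLe hKD).toEquiv, hi, pow_add]
    exact congrArg _ hk)
  exact Cfsg.Agent.Solv.le_pCore hDp haD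

end Cfsg.Agent.S0521
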