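import Cfsg.Statements.S0530
import Cfsg.Agent.Lib.Solv.SupersolvableApps

set_option autoImplicit false
open scoped Pointwise
open Cfsg

namespace Cfsg.Agent.S0530

/-- A finite group whose order is twice a prime power is supersolvable. -/
theorem result {G : Type*} [Group G] [Finite G] (p n : ℕ) (hp : p.Prime) (hG : Nat.card G = 2 * p ^ n) : Cfsg.IsSupersolvable G := by
  haveI := Fact.mk hp
  by_cases h2 : p = 2
  · subst h2
    exact Cfsg.Agent.Solv.isSupersolvable_of_isPGroup (p := 2)
      (IsPGroup.of_card (n := n + 1) (by rw [hG, pow_succ']))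
  · exact Cfsg.Agent.Solv.isSupersolvable_two_mul_aux h2 _ G le_rfl n hG

end Cfsg.Agent.S0530
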