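import Cfsg.Statements.S0534
import Cfsg.Agent.Lib.Solv.Hall
import Mathlib

set_option autoImplicit false
open Cfsg

namespace Cfsg.Agent.S0534

open Subgroup

universe u

theorem abelian_sub (n : ℕ) : ∀ (A : Type u) [CommGroup A] [Finite A], Nat.card A = n → ∀ d, d ∣ n → ∃ H : Subgroup A, Nat.card H = d := by
  induction n using Nat.strong_induction_on with
  | _ n ih =>
  intro A _ _ hn d hd
  by_cases hd1 : d = 1
  · exact ⟨⊥, by rw [card_bot, hd1]⟩
  obtain ⟨q, hq, d', rfl⟩ := Nat.exists_prime_and_dvd hd1
  haveI := Fact.mk hq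
  obtain ⟨a, ha⟩ := exists_prime_orderOf_dvd_card' (G := A) q (hn ▸ (dvd_mul_right q d').trans hd)
  have hcard : Nat.card (A ⧸ zpowers a) * q = n := by
    rw [← ha, ← Nat.card_zpowers, ← card_eq_card_quotient_mul_card_subgroup, hn]
  have hlt : Nat.card (A ⧸ zpowers a) < n := by
    rw [← hcard]
    exact lt_mul_of_one_lt_right Nat.card_pos hq.one_lt
  obtain ⟨K, hK⟩ := ih _ hlt (A ⧸ zpowers a) rfl d' (Nat.dvd_of_mul_dvd_mul_left hq.pos (by rw [mul_comm q (Nat.card _), hcard]; exact hd))
  refine ⟨K.comap (QuotientGroup.mk' (zpowers a)), ?_⟩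
  have hle : zpowers a ≤ K.comap (QuotientGroup.mk' (zpowers a)) := fun x hx => by
    rw [mem_comap, show QuotientGroup.mk' (zpowers a) x = 1 from (QuotientGroup.eq_one_iff x).2 hx]; exact one_mem _
  have hi : (K.comap (QuotientGroup.mk' (zpowers a))).index = K.index := index_comap_of_surjective K (QuotientGroup.mk'_surjective _)
  have h1 := (K.comap (QuotientGroup.mk' (zpowers a))).card_mul_index
  have h2 := K.card_mul_index
  rw [hi] at h1
  have hpos : 0 < K.index := Nat.pos_of_ne_zero Subgroup.index_ne_zero_of_finite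
  have : Nat.card (K.comap (QuotientGroup.mk' (zpowers a))) * K.index = q * d' * K.index := by
    rw [h1, hn, ← hcard, ← h2, hK]; ring
  exact Nat.eq_of_mul_eq_mul_right hpos this

/-- Let G be a finite solvable group and A a finite abelian group such that every prime dividing the order of A divides the order of G and, for each prime p dividing the order of G, the exponent of p in the order of A is one less than its exponent in the order of G. Then G × A has a subgroup of every order dividing its order. -/
theorem result {G A : Type*} [Group G] [CommGroup A] [Finite G] [Finite A] [Group.IsSolvable G] (hA : ∀ p : ℕ, p.Prime → p ∣ Nat.card A → p ∣ Nat.card G) (hexp : ∀ p : ℕ, p.Prime → p ∣ Nat.card G → (Nat.card A).factorization p + 1 = (Nat.card G).factorization p) : Cfsg.HasSubgroupOfEveryOrder (G × A) := by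
  classical
  intro d hd
  rw [Nat.card_prod] at hd
  set S := (Nat.card G).primeFactors.filter fun p => (Nat.card G).factorization p ≤ d.factorization p with hS
  set m := ∏ p ∈ S, p ^ (Nat.card G).factorization p with hm
  set n := ∏ p ∈ (Nat.card G).primeFactors \ S, p ^ (Nat.card G).factorization p with hn
  have hsub : S ⊆ (Nat.card G).primeFactors := Finset.filter_subset _ _
  have hmn : Nat.card G = m * n := by
    rw [hm, hn, mul_comm, Finset.prod_sdiff hsub]
    exact Nat.prod_primeFactors_pow_factorization (Nat.card_pos (α := G)).ne'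
  have hcop : m.Coprime n := by
    refine Nat.Coprime.prod_left fun p hp => Nat.Coprime.prod_right fun p' hp' => ?_
    rw [Finset.mem_sdiff] at hp'
    exact Nat.coprime_pow_primes _ _ (Nat.prime_of_mem_primeFactors (hsub hp)) (Nat.prime_of_mem_primeFactors hp'.1)
      (fun e => hp'.2 (e ▸ hp))
  obtain ⟨H, hH⟩ := Cfsg.Agent.Solv.hall_exists hmn hcop
  have hd0 : d ≠ 0 := fun e => by
    rw [e, zero_dvd_iff] at hd
    exact (mul_ne_zero (Nat.card_pos (α := G)).ne' (Nat.card_pos (α := A)).ne') hd
  have hm0 : m ≠ 0 := fun e => by rw [e, zero_mul] at hmn; exact Nat.card_pos.ne' hmn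
  have hfac : ∀ p ∈ S, (p ^ (Nat.card G).factorization p) ∣ d := fun p hp =>
    ((Nat.prime_of_mem_primeFactors (hsub hp)).pow_dvd_iff_le_factorization hd0).2 (Finset.mem_filter.1 hp).2
  have hmd : m ∣ d := by
    refine Finset.prod_dvd_of_isRelPrime (fun a ha b hb hab => ?_) hfac
    exact Nat.coprime_iff_isRelPrime.1 (Nat.coprime_pow_primes _ _ (Nat.prime_of_mem_primeFactors (hsub ha)) (Nat.prime_of_mem_primeFactors (hsub hb)) hab)
  have hq : d / m ∣ Nat.card A := by
    rw [← Nat.factorization_le_iff_dvd (Nat.div_pos (Nat.le_of_dvd (Nat.pos_of_ne_zero hd0) hmd) (Nat.pos_of_ne_zero hm0)).ne' Nat.card_pos.ne']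
    intro p
    rw [Nat.factorization_div hmd, Finsupp.tsub_apply]
    have hdl : d.factorization p ≤ (Nat.card G).factorization p + (Nat.card A).factorization p := by
      have := (Nat.factorization_le_iff_dvd hd0 (mul_ne_zero Nat.card_pos.ne' Nat.card_pos.ne')).2 hd p
      rwa [Nat.factorization_mul Nat.card_pos.ne' Nat.card_pos.ne', Finsupp.add_apply] at this
    by_cases hp : p.Prime ∧ p ∣ Nat.card G
    swap
    · have h0 : (Nat.card G).factorization p = 0 := Nat.factorization_eq_zero_iff _ _ |>.2 (by tauto)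
      omega
    have he := hexp p hp.1 hp.2
    by_cases hpS : p ∈ S
    · have h1 : p ^ (Nat.card G).factorization p ∣ m := Finset.dvd_prod_of_mem (fun p => p ^ (Nat.card G).factorization p) hpS
      have h2 := (hp.1.pow_dvd_iff_le_factorization hm0).1 h1
      omega
    · have : ¬ (Nat.card G).factorization p ≤ d.factorization p := fun h => hpS (Finset.mem_filter.2
        ⟨Nat.mem_primeFactors.2 ⟨hp.1, hp.2, Nat.card_pos.ne'⟩, h⟩)
      omega
  obtain ⟨K, hK⟩ := abelian_sub _ A rfl (d / m) hq
  refine ⟨H.prod K, ?_⟩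
  rw [Nat.card_congr (Subgroup.prodEquiv H K).toEquiv, Nat.card_prod, hH, hK, Nat.mul_div_cancel' hmd]

end Cfsg.Agent.S0534
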