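import Cfsg.Statements.S0535
import Cfsg.Agent.Lib.Solv.SylowSystem
-- import your own Cfsg.Agent.* helpers here

set_option autoImplicit false
open Cfsg

namespace Cfsg.Agent.S0535

/-- Suppose that for every nontrivial subgroup H of a finite group and every prime p dividing the order of H there is a proper subgroup of H whose index in H is a power of p. Then the group is solvable. -/
theorem result {G : Type*} [Group G] [Finite G] (h : ∀ H : Subgroup G, H ≠ ⊥ → ∀ p : ℕ, p.Prime → p ∣ Nat.card H → ∃ K : Subgroup H, K ≠ ⊤ ∧ ∃ k : ℕ, K.index = p ^ k) : Group.IsSolvable G := by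
  refine Cfsg.Agent.Solv.solvable_of_complements fun p hp => ?_
  have main : ∀ n : ℕ, ∀ H : Subgroup G, Nat.card H = n → (∃ j, H.index = p ^ j) →
      ∃ L : Subgroup G, (∃ j, L.index = p ^ j) ∧ ¬ p ∣ Nat.card L := by
    intro n
    induction n using Nat.strong_induction_on with
    | _ n ih =>
      intro H hn hj
      by_cases hd : p ∣ Nat.card H
      · have hH : H ≠ ⊥ := by
          rintro rfl
          rw [Subgroup.card_bot] at hd
          exact hp.one_lt.ne' (Nat.dvd_one.mp hd)
        obtain ⟨K, hK, k, hk⟩ := h H hH p hp hd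
        obtain ⟨j, hj⟩ := hj
        refine ih (Nat.card (K.map H.subtype)) ?_ _ rfl ⟨k + j, ?_⟩
        · rw [← hn, Subgroup.card_map_of_injective H.subtype_injective]
          exact lt_of_le_of_ne (Subgroup.card_le_card_group K) fun e => hK (Subgroup.eq_top_of_card_eq K e)
        · rw [Subgroup.index_map_of_injective K H.subtype_injective, Subgroup.range_subtype, hk, hj, pow_add]
      · exact ⟨H, hj, hd⟩
  obtain ⟨L, ⟨j, hj⟩, hL⟩ := main _ ⊤ rfl ⟨0, by simp⟩
  refine ⟨L, ?_⟩
  rw [← L.card_mul_index, hj, Nat.factorization_mul Nat.card_pos.ne' (pow_ne_zero _ hp.ne_zero),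
    Finsupp.add_apply, Nat.factorization_eq_zero_of_not_dvd hL, hp.factorization_pow]
  simp

end Cfsg.Agent.S0535
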