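import Cfsg.Statements.S0540
import Cfsg.Agent.Lib.Solv.Subnormal

set_option autoImplicit false
open Pointwise
open Cfsg

namespace Cfsg.Agent.S0540

/-- A uniqueness lemma of zipper type. Let A be a subgroup of a finite group G and U a nonempty family of subgroups. For V in U write S(V) for the set of conjugates of A that lie in V and are subnormal in V. Assume: A belongs to S(V) for every V in U; a member of some S(W) that lies in V belongs to S(V); and for all V, W in U the normalizer of the join of S(V) ∩ S(W) lies in some member of U. Then U has a greatest element. -/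
theorem result {G : Type*} [Group G] [Finite G] (A : Subgroup G) (U : Set (Subgroup G)) (hU : U.Nonempty) (S : Subgroup G → Set (Subgroup G)) (hS : ∀ V B : Subgroup G, B ∈ S V ↔ (∃ g : G, B = MulAut.conj g • A) ∧ B ≤ V ∧ (B.subgroupOf V).IsSubnormal) (h1 : ∀ V ∈ U, A ∈ S V) (h2 : ∀ V ∈ U, ∀ W ∈ U, ∀ B ∈ S W, B ≤ V → B ∈ S V) (h3 : ∀ V ∈ U, ∀ W ∈ U, ∃ X ∈ U, Subgroup.normalizer ((sSup (S V ∩ S W) : Subgroup G) : Set G) ≤ X) : ∃ M ∈ U, ∀ V ∈ U, V ≤ M := by
  have hSconj : ∀ V : Subgroup G, ∀ B ∈ S V, ∀ g ∈ V, MulAut.conj g • B ∈ S V := by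
    intro V B hB g hg
    obtain ⟨⟨x, rfl⟩, hBV, hBs⟩ := (hS V B).mp hB
    have hVg : MulAut.conj g • V = V := Subgroup.conj_smul_eq_self_of_mem hg
    refine (hS V _).mpr ⟨⟨g * x, by rw [map_mul, mul_smul]⟩, ?_, ?_⟩
    · calc _ ≤ MulAut.conj g • V := smul_mono_right _ hBV
        _ = V := hVg
    · have := Cfsg.Agent.Solv.subnormal_subgroupOf_conj hBs g
      rwa [hVg] at this
  have hW : ∀ V : Subgroup G, ∀ D : Set (Subgroup G), D ⊂ S V →
      ∃ B ∈ S V, B ∉ D ∧ B ≤ Subgroup.normalizer ((sSup D : Subgroup G) : Set G) := fun V D hD =>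
    Cfsg.Agent.Solv.exists_mem_le_normalizer_sSup (fun B hB => ((hS V B).mp hB).2.1)
      (fun B hB => ((hS V B).mp hB).2.2) (hSconj V) hD
  have hSW : ∀ V : Subgroup G, ∀ g ∈ V, g ∈ Subgroup.normalizer ((sSup (S V) : Subgroup G) : Set G) := fun V g hg =>
    Cfsg.Agent.Solv.mem_normalizer_of_conj_le (by
      rw [Subgroup.pointwise_smul_subset_iff]
      exact sSup_le fun B hB => Subgroup.pointwise_smul_subset_iff.mp (le_sSup (hSconj V B hB g hg)))
  obtain ⟨M, hM⟩ := (Set.toFinite U).exists_maximal hU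
  refine ⟨M, hM.1, fun W0 hW0 => ?_⟩
  by_contra hcon
  set P := {D : Set (Subgroup G) | ∃ V W, Maximal (· ∈ U) V ∧ W ∈ U ∧ ¬ W ≤ V ∧ D = S V ∩ S W} with hP
  obtain ⟨D, hDmem, hDmax⟩ := (Set.toFinite P).exists_maximal ⟨_, M, W0, hM, hW0, hcon, rfl⟩
  obtain ⟨V, W, hV, hWU, hWV, rfl⟩ := hDmem
  obtain ⟨X, hX, hXn⟩ := h3 V hV.1 W hWU
  obtain ⟨X', hXX', hX'⟩ := (Set.toFinite U).exists_le_maximal hX
  have hNX' : Subgroup.normalizer ((sSup (S V ∩ S W) : Subgroup G) : Set G) ≤ X' := hXn.trans hXX'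
  have hNV : Subgroup.normalizer ((sSup (S V ∩ S W) : Subgroup G) : Set G) ≤ V := by
    have hVX : X' = V := by
      by_contra hne
      have hnle : ¬ X' ≤ V := fun h => hne (h.antisymm (hX'.2 hV.1 h))
      by_cases hDV : S V ∩ S W = S V
      · refine hne (le_antisymm ?_ ?_)
        · exact hV.2 hX'.1 (fun g hg => hNX' (hDV.symm ▸ hSW V g hg))
        · exact fun g hg => hNX' (hDV.symm ▸ hSW V g hg)
      obtain ⟨B, hB, hBD, hBn⟩ := hW V _ (lt_of_le_of_ne Set.inter_subset_left hDV)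
      have hsub : ∀ C ∈ S V, C ≤ X' → C ∈ S X' := fun C hC hCX => h2 X' hX'.1 V hV.1 C hC hCX
      have hle : S V ∩ S W ≤ S V ∩ S X' := fun C hC => ⟨hC.1, hsub C hC.1
        (((le_sSup hC : C ≤ sSup (S V ∩ S W)).trans Subgroup.le_normalizer).trans hNX')⟩
      exact hBD (hDmax ⟨V, X', hV, hX'.1, hnle, rfl⟩ hle ⟨hB, hsub B hB (hBn.trans hNX')⟩)
    exact hVX ▸ hNX'
  by_cases hDW : S V ∩ S W = S W
  · exact hWV fun g hg => hNV (hDW.symm ▸ hSW W g hg)
  obtain ⟨B, hB, hBD, hBn⟩ := hW W _ (lt_of_le_of_ne Set.inter_subset_right hDW)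
  exact hBD ⟨h2 V hV.1 W hWU B hB (hBn.trans hNV), hB⟩

end Cfsg.Agent.S0540
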