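import Cfsg.Statements.S0541
import Cfsg.Agent.Lib.Solv.SchurZassenhaus
import Cfsg.Agent.Lib.Solv.Basic

set_option autoImplicit false
open Pointwise
open Cfsg

namespace Cfsg.Agent.S0541

/-- Let Z and Y be subgroups of a finite group G and p a prime. Suppose that for every g in G the subgroup generated by the conjugates of g Z g⁻¹ under Y is a p-group. Then there is a Sylow p-subgroup P of G such that Y normalizes the subgroup generated by all conjugates of Z contained in P. -/
theorem result {G : Type*} [Group G] [Finite G] (p : ℕ) [Fact p.Prime] (Z Y : Subgroup G) (h : ∀ g : G, IsPGroup p ↥(⨆ y ∈ Y, MulAut.conj (y * g) • Z)) : ∃ P : Sylow p G, Y ≤ Subgroup.normalizer ((⨆ g ∈ {g : G | MulAut.conj g • Z ≤ (P : Subgroup G)}, MulAut.conj g • Z : Subgroup G) : Set G) := by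
  let T : Subgroup G → Subgroup G := fun H =>
    ⨆ g ∈ {g : G | MulAut.conj g • Z ≤ H}, MulAut.conj g • Z
  have hTle : ∀ H, T H ≤ H := fun H => iSup₂_le fun g hg => hg
  have hTgen : ∀ H g, MulAut.conj g • Z ≤ H → MulAut.conj g • Z ≤ T H := fun H g hg =>
    le_iSup₂_of_le (f := fun g (_ : g ∈ {g : G | MulAut.conj g • Z ≤ H}) => MulAut.conj g • Z) g hg le_rfl
  have hmem : ∀ (n : G) (H : Subgroup G), n ∈ Subgroup.normalizer (H : Set G) → MulAut.conj n • H = H := by
    intro n H hn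
    ext x
    rw [Solv.mem_conj_smul, Subgroup.mem_normalizer_iff.mp hn]
    simp [mul_assoc]
  have hnorm : ∀ (n : G) (H : Subgroup G), MulAut.conj n • H ≤ H → n ∈ Subgroup.normalizer (H : Set G) := by
    intro n H hle
    have he : MulAut.conj n • H = H := Subgroup.eq_of_le_of_card_ge hle (Solv.card_conj_smul n H).ge
    rw [Subgroup.mem_normalizer_iff]
    intro z
    conv_rhs => rw [← he, Solv.mem_conj_smul]
    simp [mul_assoc]
  have hTconj : ∀ (n : G) (M : Subgroup G), n ∈ Subgroup.normalizer (M : Set G) →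
      n ∈ Subgroup.normalizer (T M : Set G) := by
    intro n M hn
    refine hnorm n _ ?_
    rw [Subgroup.pointwise_smul_subset_iff]
    refine iSup₂_le fun g hg => ?_
    rw [← Subgroup.pointwise_smul_subset_iff, Solv.conj_smul_conj_smul]
    refine hTgen M _ ?_
    rw [← Solv.conj_smul_conj_smul, ← hmem n M hn, Subgroup.pointwise_smul_le_pointwise_smul_iff]
    exact hg
  obtain ⟨U, hU⟩ := (Set.toFinite {U : Subgroup G | IsPGroup p U ∧ T U = U ∧
    Y ≤ Subgroup.normalizer (U : Set G)}).exists_maximal ⟨⊥, IsPGroup.of_bot, le_bot_iff.mp (hTle ⊥),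
      fun y _ => hnorm y ⊥ (by rw [Subgroup.smul_bot])⟩
  obtain ⟨hUp, hUT, hUY⟩ := hU.1
  obtain ⟨P, hP⟩ := hUp.exists_le_sylow
  refine ⟨P, ?_⟩
  show Y ≤ Subgroup.normalizer (T (P : Subgroup G) : Set G)
  suffices T (P : Subgroup G) = U by rw [this]; exact hUY
  set W := T (P : Subgroup G) with hW
  have hUW : U ≤ W := hUT ▸ iSup₂_le fun g hg => hTgen _ g (le_trans hg hP)
  by_contra hne
  obtain ⟨M, hM⟩ := (Set.toFinite {M : Subgroup G | M ≤ W ∧ U ≤ M ∧ T M ≤ U}).exists_maximal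
    ⟨U, hUW, le_rfl, hTle U⟩
  obtain ⟨hMW, hUM, hTM⟩ := hM.1
  have hTMU : T M = U := le_antisymm hTM (hUT ▸ iSup₂_le fun g hg => hTgen _ g (le_trans hg hUM))
  have hWp : IsPGroup p W := P.isPGroup'.to_le (hTle _)
  have hMlt : M.subgroupOf W < ⊤ := lt_top_iff_ne_top.mpr fun h => hne (by
    rw [Subgroup.subgroupOf_eq_top] at h
    refine le_antisymm ?_ hUW
    calc W ≤ T W := iSup₂_le fun g hg => hTgen W g (hTgen _ g hg)
      _ ≤ T M := iSup₂_le fun g hg => hTgen M g (le_trans hg h)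
      _ ≤ U := hTM)
  haveI := hWp.isNilpotent
  have hlt := Group.normalizerCondition_of_isNilpotent (M.subgroupOf W) hMlt
  set M' := W ⊓ Subgroup.normalizer (M : Set G) with hM'
  have hMM' : M < M' := by
    refine lt_of_le_of_ne (le_inf hMW Subgroup.le_normalizer) fun he => hlt.ne ?_
    refine le_antisymm hlt.le ?_
    rw [← Subgroup.subgroupOf_normalizer_eq hMW]
    intro x hx
    show (x : G) ∈ M
    rw [he]
    exact ⟨x.2, hx⟩
  have hTM' : ¬ T M' ≤ U := fun h =>
    hMM'.not_ge (hM.2 ⟨inf_le_left, hUM.trans hMM'.le, h⟩ hMM'.le)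
  obtain ⟨g, hg, hgU⟩ : ∃ g, MulAut.conj g • Z ≤ M' ∧ ¬ MulAut.conj g • Z ≤ U := by
    by_contra hcon
    simp only [not_exists, not_and, not_not] at hcon
    exact hTM' (iSup₂_le fun g hg => hcon g hg)
  have hgN : MulAut.conj g • Z ≤ Subgroup.normalizer (U : Set G) := fun x hx =>
    hTMU ▸ hTconj x M (hg hx).2
  set X := ⨆ y ∈ Y, MulAut.conj (y * g) • Z with hX
  have hXgen : ∀ y ∈ Y, MulAut.conj (y * g) • Z ≤ X := fun y hy =>
    le_iSup₂_of_le (f := fun y (_ : y ∈ Y) => MulAut.conj (y * g) • Z) y hy le_rfl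
  have hXN : X ≤ Subgroup.normalizer (U : Set G) := by
    refine iSup₂_le fun y hy => ?_
    rw [← Solv.conj_smul_conj_smul,
      ← hmem y (Subgroup.normalizer (U : Set G)) (Subgroup.le_normalizer (hUY hy)),
      Subgroup.pointwise_smul_le_pointwise_smul_iff]
    exact hgN
  have hUXp : IsPGroup p ↥(U ⊔ X) := hUp.to_sup_of_normal_left' (h g) hXN
  have hXY : Y ≤ Subgroup.normalizer (X : Set G) := fun z hz => hnorm z X (by
    rw [Subgroup.pointwise_smul_subset_iff]
    refine iSup₂_le fun y hy => ?_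
    rw [← Subgroup.pointwise_smul_subset_iff, Solv.conj_smul_conj_smul, ← mul_assoc]
    exact hXgen _ (Y.mul_mem hz hy))
  have hbig : U ⊔ X ∈ {U : Subgroup G | IsPGroup p U ∧ T U = U ∧
      Y ≤ Subgroup.normalizer (U : Set G)} := by
    refine ⟨hUXp, le_antisymm (hTle _) (sup_le ?_ ?_), fun y hy => hnorm y _ ?_⟩
    · conv_lhs => rw [← hUT]
      exact iSup₂_le fun k hk => hTgen _ k (le_trans hk le_sup_left)
    · exact iSup₂_le fun y hy => hTgen _ _ ((hXgen y hy).trans le_sup_right)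
    · rw [Subgroup.smul_sup, hmem y U (hUY hy), hmem y X (hXY hy)]
  apply hgU
  calc MulAut.conj g • Z ≤ X := by simpa using hXgen 1 Y.one_mem
    _ ≤ U := le_sup_right.trans (hU.2 hbig le_sup_left)

end Cfsg.Agent.S0541
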