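import Cfsg.Statements.S0547
import Cfsg.Agent.Lib.Solv.Misc

set_option autoImplicit false
open scoped Pointwise
open Cfsg

namespace Cfsg.Agent.S0547

/-- Let a finite solvable group G act faithfully and primitively on a set, and let M be a minimal normal subgroup of G. Then M is transitive with trivial point stabilizers, and the number of points equals the order of M, which is a prime power p ^ d with d ≥ 1. -/
theorem result {G : Type*} [Group G] [Finite G] [Group.IsSolvable G] {Ω : Type*} [Nonempty Ω] [MulAction G Ω] [FaithfulSMul G Ω] (hprim : MulAction.IsPreprimitive G Ω) (M : Subgroup G) [M.Normal] (hM : M ≠ ⊥) (hmin : ∀ K : Subgroup G, K.Normal → K ≤ M → K = ⊥ ∨ K = M) : MulAction.IsPretransitive M Ω ∧ (∀ ω : Ω, MulAction.stabilizer M ω = ⊥) ∧ ∃ p d : ℕ, p.Prime ∧ 0 < d ∧ Nat.card Ω = p ^ d ∧ Nat.card M = p ^ d := by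
  obtain ⟨p, hp, hel, hord⟩ : ∃ p : ℕ, p.Prime ∧ IsPGroup p M ∧ IsMulCommutative M := by
    obtain ⟨hc, p, hp, hpow⟩ := Cfsg.Agent.Solv.minimal_normal_elementary M hM hmin
    exact ⟨p, hp, fun x => ⟨1, Subtype.ext (by simpa using hpow x x.2)⟩, hc⟩
  haveI := hord
  haveI : MulAction.IsPreprimitive G Ω := hprim
  haveI htr : MulAction.IsPretransitive M Ω := by
    refine MulAction.IsQuasiPreprimitive.isPretransitive_of_normal (G := G) fun h => hM ?_
    refine (Subgroup.eq_bot_iff_forall M).mpr fun m hm => FaithfulSMul.eq_of_smul_eq_smul fun ω : Ω => ?_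
    rw [one_smul]
    have h2 := h.symm ▸ Set.mem_univ ω
    exact h2 ⟨m, hm⟩
  have hreg : ∀ ω : Ω, MulAction.stabilizer M ω = ⊥ := fun ω => by
    refine (Subgroup.eq_bot_iff_forall _).mpr fun m hm => Subtype.ext ?_
    refine FaithfulSMul.eq_of_smul_eq_smul fun ω' : Ω => ?_
    obtain ⟨n, rfl⟩ := MulAction.exists_smul_eq M ω ω'
    change m • n • ω = (1 : G) • n • ω
    rw [one_smul, smul_smul, mul_comm' m n, mul_smul, MulAction.mem_stabilizer_iff.mp hm]
  haveI := Fact.mk hp
  obtain ⟨d, hd⟩ := IsPGroup.iff_card.mp hel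
  refine ⟨htr, hreg, p, d, hp, ?_, ?_, hd⟩
  · refine Nat.pos_of_ne_zero fun h => hM ?_
    rw [← Subgroup.card_eq_one, hd, h, pow_zero]
  · obtain ⟨ω⟩ := ‹Nonempty Ω›
    rw [← hd]
    refine (Nat.card_congr (Equiv.ofBijective (fun m : M => m • ω) ⟨fun a b h => ?_, fun x => MulAction.exists_smul_eq M ω x⟩)).symm
    have : b⁻¹ * a ∈ MulAction.stabilizer M ω := by
      rw [MulAction.mem_stabilizer_iff, mul_smul, show a • ω = b • ω from h, inv_smul_smul]
    rw [hreg, Subgroup.mem_bot, inv_mul_eq_one] at this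
    exact this.symm

end Cfsg.Agent.S0547
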