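import Cfsg.Statements.S0548
import Cfsg.Agent.Lib.Solv.Misc

set_option autoImplicit false
open scoped Pointwise
open Cfsg

namespace Cfsg.Agent.S0548

/-- Let a finite solvable group G act faithfully and primitively on a set, let M be a minimal normal subgroup and H the stabilizer of a point. Then H is a complement to M, no non-identity element of H centralizes M, and the only subgroups of M normalized by H are the trivial subgroup and M. -/
theorem result {G : Type*} [Group G] [Finite G] [Group.IsSolvable G] {Ω : Type*} [MulAction G Ω] [FaithfulSMul G Ω] (hprim : MulAction.IsPreprimitive G Ω) (M : Subgroup G) [M.Normal] (hM : M ≠ ⊥) (hmin : ∀ K : Subgroup G, K.Normal → K ≤ M → K = ⊥ ∨ K = M) (ω : Ω) : Subgroup.IsComplement' M (MulAction.stabilizer G ω) ∧ MulAction.stabilizer G ω ⊓ Subgroup.centralizer (M : Set G) = ⊥ ∧ ∀ K : Subgroup G, K ≤ M → MulAction.stabilizer G ω ≤ Subgroup.normalizer (K : Set G) → K = ⊥ ∨ K = M := by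
  haveI : IsMulCommutative M := Cfsg.Agent.Solv.minimal_normal_isMulCommutative M hM hmin
  haveI : MulAction.IsPreprimitive G Ω := hprim
  haveI htr : MulAction.IsPretransitive M Ω := by
    refine MulAction.IsQuasiPreprimitive.isPretransitive_of_normal (G := G) fun h => hM ?_
    refine (Subgroup.eq_bot_iff_forall M).mpr fun m hm => FaithfulSMul.eq_of_smul_eq_smul fun ω : Ω => ?_
    rw [one_smul]
    have h2 := h.symm ▸ Set.mem_univ ω
    exact h2 ⟨m, hm⟩
  have key : ∀ g : G, g ∈ MulAction.stabilizer G ω → (∀ m ∈ M, m * g = g * m) → g = 1 := fun g hg hc => by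
    refine FaithfulSMul.eq_of_smul_eq_smul fun ω' : Ω => ?_
    obtain ⟨⟨n, hn⟩, rfl⟩ := MulAction.exists_smul_eq M ω ω'
    change g • n • ω = (1 : G) • n • ω
    rw [one_smul, smul_smul, ← hc n hn, mul_smul, MulAction.mem_stabilizer_iff.mp hg]
  refine ⟨Subgroup.isComplement'_of_disjoint_and_mul_eq_univ ?_ ?_, ?_, ?_⟩
  · rw [Subgroup.disjoint_def]
    intro g hgM hg
    exact key g hg fun m hm => congrArg Subtype.val (mul_comm' (⟨m, hm⟩ : M) ⟨g, hgM⟩)
  · refine Set.eq_univ_of_forall fun g => ?_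
    obtain ⟨⟨n, hn⟩, h⟩ := MulAction.exists_smul_eq M ω (g • ω)
    refine ⟨n, hn, n⁻¹ * g, ?_, by group⟩
    rw [SetLike.mem_coe, MulAction.mem_stabilizer_iff, mul_smul, ← show n • ω = g • ω from h, inv_smul_smul]
  · exact (Subgroup.eq_bot_iff_forall _).mpr fun g hg => key g hg.1 fun m hm => hg.2 m hm
  · intro K hKM hK
    refine hmin K (Subgroup.normalizer_eq_top_iff.mp (top_le_iff.mp fun g _ => ?_)) hKM
    obtain ⟨⟨n, hn⟩, h⟩ := MulAction.exists_smul_eq M ω (g • ω)
    have h1 : n⁻¹ * g ∈ Subgroup.normalizer (K : Set G) := hK (by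
      rw [MulAction.mem_stabilizer_iff, mul_smul, ← show n • ω = g • ω from h, inv_smul_smul])
    have h2 : n ∈ Subgroup.normalizer (K : Set G) := by
      refine Subgroup.centralizer_le_normalizer (K : Set G) ?_
      exact fun k hk => congrArg Subtype.val (mul_comm' (⟨k, hKM hk⟩ : M) ⟨n, hn⟩)
    simpa using Subgroup.mul_mem _ h2 h1

end Cfsg.Agent.S0548
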