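import Cfsg.Statements.S0549
import Cfsg.Agent.Lib.Solv.Misc

set_option autoImplicit false
open scoped Pointwise
open Cfsg

namespace Cfsg.Agent.S0549

/-- Let U be a maximal subgroup of a finite group G whose normal core is trivial, and N a nontrivial normal subgroup with centralizer C. Then C ∩ U = 1, and either C = 1 or C is a minimal normal subgroup of G. -/
theorem result {G : Type*} [Group G] [Finite G] (U : Subgroup G) (hU : IsCoatom U) (hcore : U.normalCore = ⊥) (N : Subgroup G) [N.Normal] (hN : N ≠ ⊥) : Subgroup.centralizer (N : Set G) ⊓ U = ⊥ ∧ (Subgroup.centralizer (N : Set G) = ⊥ ∨ (Subgroup.centralizer (N : Set G) ≠ ⊥ ∧ ∀ K : Subgroup G, K.Normal → K ≤ Subgroup.centralizer (N : Set G) → K = ⊥ ∨ K = Subgroup.centralizer (N : Set G))) := by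
  set C := Subgroup.centralizer (N : Set G) with hC
  haveI : C.Normal := hC ▸ inferInstance
  have hNU : ¬ N ≤ U := fun h => hN (le_bot_iff.mp (hcore ▸ Subgroup.normal_le_normalCore.mpr h))
  have htop : ∀ K : Subgroup G, ¬ K ≤ U → K ⊔ U = ⊤ := fun K hK =>
    hU.2 _ (lt_of_le_of_ne le_sup_right fun h => hK (h ▸ le_sup_left))
  have hCU : C ⊓ U = ⊥ := by
    have hn : ⊤ ≤ Subgroup.normalizer ((C ⊓ U : Subgroup G) : Set G) := by
      rw [← htop N hNU]
      refine sup_le ?_ (Cfsg.Agent.Solv.le_normalizer_inf Subgroup.le_normalizer_of_normal Subgroup.le_normalizer)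
      exact fun n hn => Subgroup.centralizer_le_normalizer _ fun x hx => ((hx : x ∈ C ⊓ U).1 n hn).symm
    haveI := Subgroup.normalizer_eq_top_iff.mp (top_le_iff.mp hn)
    exact le_bot_iff.mp (hcore ▸ Subgroup.normal_le_normalCore.mpr inf_le_right)
  refine ⟨hCU, (em (C = ⊥)).imp_right fun hne => ⟨hne, fun K hK hKC => ?_⟩⟩
  haveI := hK
  by_cases hKU : K ≤ U
  · exact Or.inl (le_bot_iff.mp (hCU ▸ le_inf hKC hKU))
  · right
    have := Cfsg.Agent.Solv.dedekind_normal K U C hKC
    rw [htop K hKU, inf_top_eq, hCU, sup_bot_eq] at this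
    exact this.symm

end Cfsg.Agent.S0549
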