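import Cfsg.Statements.S0550
import Cfsg.Agent.Lib.Solv.StructMisc

set_option autoImplicit false
open scoped Pointwise
open Cfsg

namespace Cfsg.Agent.S0550

/-- Let U be a maximal subgroup with trivial normal core in a finite group G, and A ≠ B two minimal normal subgroups. Then A is the centralizer of B and B that of A, U complements each of them, A and B are non-abelian, and A, B and (A ⊔ B) ∩ U are pairwise isomorphic. -/
theorem result {G : Type*} [Group G] [Finite G] (U : Subgroup G) (hU : IsCoatom U) (hcore : U.normalCore = ⊥) (A B : Subgroup G) [A.Normal] [B.Normal] (hA : A ≠ ⊥) (hB : B ≠ ⊥) (hAmin : ∀ K : Subgroup G, K.Normal → K ≤ A → K = ⊥ ∨ K = A) (hBmin : ∀ K : Subgroup G, K.Normal → K ≤ B → K = ⊥ ∨ K = B) (hAB : A ≠ B) : Subgroup.centralizer (B : Set G) = A ∧ Subgroup.centralizer (A : Set G) = B ∧ Subgroup.IsComplement' A U ∧ Subgroup.IsComplement' B U ∧ ¬ IsMulCommutative A ∧ Nonempty (A ≃* B) ∧ Nonempty (A ≃* ↥((A ⊔ B) ⊓ U)) := by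
  have hni : ∀ N : Subgroup G, N.Normal → N ≠ ⊥ → N ⊔ U = ⊤ := fun N hN hb => by
    haveI := hN
    exact hU.2 _ (lt_of_le_of_ne le_sup_right fun e => hb (eq_bot_iff.mpr
      (hcore ▸ Subgroup.normal_le_normalCore.mpr (e ▸ le_sup_left))))
  have hAB0 : A ⊓ B = ⊥ := by
    rcases hAmin (A ⊓ B) inferInstance inf_le_left with h | h
    · exact h
    rcases hBmin A inferInstance (inf_eq_left.mp h) with h' | h'
    · exact absurd h' hA
    · exact absurd h' hAB
  have hcomm : ⁅A, B⁆ = ⊥ :=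
    eq_bot_iff.mpr (hAB0 ▸ Subgroup.commutator_le_inf A B)
  have key : ∀ A B : Subgroup G, A.Normal → B.Normal → A ≠ ⊥ → B ≠ ⊥ → ⁅A, B⁆ = ⊥ →
      Subgroup.centralizer (B : Set G) = A ∧ A ⊓ U = ⊥ := by
    intro A B hAn hBn hA hB hc
    haveI := hAn
    haveI := hBn
    have h1 : A ≤ Subgroup.centralizer (B : Set G) :=
      Subgroup.commutator_eq_bot_iff_le_centralizer.mp hc
    set X := Subgroup.centralizer (B : Set G) ⊓ U
    haveI : X.Normal := Subgroup.normalizer_eq_top_iff.mp (top_le_iff.mp (by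
      rw [← hni B hBn hB]
      refine sup_le (le_trans ?_ (Subgroup.centralizer_le_normalizer _))
        (Solv.le_normalizer_inf Subgroup.le_normalizer_of_normal Subgroup.le_normalizer)
      exact Subgroup.le_centralizer_iff.mp inf_le_left))
    have h2 : Subgroup.centralizer (B : Set G) ⊓ U = ⊥ := eq_bot_iff.mpr (hcore ▸ Subgroup.normal_le_normalCore.mpr inf_le_right)
    have h3 := Solv.dedekind_normal A U (Subgroup.centralizer (B : Set G)) h1
    rw [hni A hAn hA, inf_top_eq, h2, sup_bot_eq] at h3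
    exact ⟨h3, eq_bot_iff.mpr (h2 ▸ inf_le_inf_right U h1)⟩
  obtain ⟨hCB, hAU⟩ := key A B inferInstance inferInstance hA hB hcomm
  obtain ⟨hCA, hBU⟩ := key B A inferInstance inferInstance hB hA (by rw [Subgroup.commutator_comm]; exact hcomm)
  have hcompl : ∀ (N : Subgroup G) [N.Normal], N ≠ ⊥ → N ⊓ U = ⊥ → Subgroup.IsComplement' N U := by
    intro N hN hb hi
    refine Subgroup.isComplement'_of_disjoint_and_mul_eq_univ (disjoint_iff.mpr hi) ?_
    rw [← Subgroup.normal_mul, hni N hN hb, Subgroup.coe_top]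
  set D := (A ⊔ B) ⊓ U
  have hiso : ∀ (N : Subgroup G) [N.Normal] (X Y : Subgroup G), X ⊓ N = ⊥ → Y ⊓ N = ⊥ →
      N ⊔ X = N ⊔ Y → Nonempty (X ≃* Y) := by
    intro N hN X Y hX hY hXY
    set f := QuotientGroup.mk' N
    have hinj : ∀ Z : Subgroup G, Z ⊓ N = ⊥ → Function.Injective (f.comp Z.subtype) := fun Z hZ => by
      rw [← MonoidHom.ker_eq_bot_iff, eq_bot_iff]
      intro z hz
      have h1 : (z : G) ∈ Z ⊓ N := ⟨z.2, (QuotientGroup.eq_one_iff _).mp hz⟩
      rw [hZ, Subgroup.mem_bot] at h1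
      exact Subgroup.mem_bot.mpr (Subtype.ext h1)
    have he : (f.comp X.subtype).range = (f.comp Y.subtype).range := by
      rw [MonoidHom.range_comp, MonoidHom.range_comp, Subgroup.range_subtype, Subgroup.range_subtype]
      apply Subgroup.comap_injective (QuotientGroup.mk'_surjective N)
      rw [Subgroup.comap_map_eq, Subgroup.comap_map_eq, QuotientGroup.ker_mk', sup_comm, hXY, sup_comm]
    exact ⟨((MonoidHom.ofInjective (hinj X hX)).trans (MulEquiv.subgroupCongr he)).trans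
      (MonoidHom.ofInjective (hinj Y hY)).symm⟩
  have hDA : D ⊓ A = ⊥ := eq_bot_iff.mpr (hAU ▸ le_inf inf_le_right (inf_le_left.trans inf_le_right))
  have hDB : D ⊓ B = ⊥ := eq_bot_iff.mpr (hBU ▸ le_inf inf_le_right (inf_le_left.trans inf_le_right))
  have eA := Solv.dedekind_normal A U (A ⊔ B) le_sup_left
  rw [hni A inferInstance hA, inf_top_eq] at eA
  have eB := Solv.dedekind_normal B U (A ⊔ B) le_sup_right
  rw [hni B inferInstance hB, inf_top_eq] at eB
  obtain ⟨e1⟩ := hiso B A D hAB0 hDB (by rw [← eB, sup_comm])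
  obtain ⟨e2⟩ := hiso A B D (by rw [inf_comm]; exact hAB0) hDA eA
  refine ⟨hCB, hCA, hcompl A hA hAU, hcompl B hB hBU, fun hab => ?_, ⟨e1.trans e2.symm⟩, ⟨e1⟩⟩
  refine hA (eq_bot_iff.mpr (hAB0 ▸ le_inf le_rfl ?_))
  exact hCA ▸ Subgroup.le_centralizer_iff_isMulCommutative.mpr hab

end Cfsg.Agent.S0550
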