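import Cfsg.Statements.S0552
import Cfsg.Agent.Lib.Solv.Misc

set_option autoImplicit false
open scoped Pointwise
open Cfsg

namespace Cfsg.Agent.S0552

/-- Let σ be an automorphism of a finite solvable group G fixing every element of the Fitting subgroup. If σ is not the identity then the order of σ and the order of G have a common prime factor. -/
theorem result {G : Type*} [Group G] [Finite G] [Group.IsSolvable G] (σ : G ≃* G) (hσ : ∀ x ∈ Cfsg.fittingSubgroup G, σ x = x) (hne : σ ≠ MulEquiv.refl G) : ¬ (orderOf σ).Coprime (Nat.card G) := by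
  intro hcop
  haveI := Cfsg.Agent.Solv.fittingSubgroup_normal G
  refine hne (MulEquiv.ext fun x => ?_)
  set c := x⁻¹ * σ x with hc
  have hcF : c ∈ Cfsg.fittingSubgroup G := by
    refine Cfsg.Agent.Solv.centralizer_fittingSubgroup_le fun f hf => ?_
    have h1 := hσ _ ((inferInstance : (Cfsg.fittingSubgroup G).Normal).conj_mem f hf x)
    rw [map_mul, map_mul, map_inv, hσ f hf] at h1
    calc f * c = x⁻¹ * (x * f * x⁻¹) * σ x := by rw [hc]; group
      _ = x⁻¹ * (σ x * f * (σ x)⁻¹) * σ x := by rw [h1]
      _ = c * f := by rw [hc]; group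
  have hn : ∀ n : ℕ, ((σ : MulAut G) ^ n) x = x * c ^ n := by
    intro n
    induction n with
    | zero => simp
    | succ n ih =>
      rw [pow_succ', MulAut.mul_apply, ih, map_mul, map_pow, hσ c hcF, pow_succ', ← mul_assoc]
      congr 1
      rw [hc]; group
  have h1 := hn (orderOf σ)
  rw [pow_orderOf_eq_one, MulAut.one_apply, left_eq_mul] at h1
  have hd : orderOf c ∣ Nat.gcd (orderOf σ) (Nat.card G) :=
    Nat.dvd_gcd (orderOf_dvd_of_pow_eq_one h1) (orderOf_dvd_natCard _)
  rw [hcop, Nat.dvd_one, orderOf_eq_one_iff, hc, inv_mul_eq_one] at hd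
  exact hd.symm

end Cfsg.Agent.S0552
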