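import Cfsg.Statements.S0554
import Cfsg.Agent.Lib.Solv.Basic
-- import your own Cfsg.Agent.* helpers here

set_option autoImplicit false
open Cfsg

namespace Cfsg.Agent.S0554

/-- Let G be a finite solvable group and let S assign to each of t distinct primes, including every prime divisor of the order of G, a Sylow subgroup of G. Then every element of G is a product s_0 s_1 ⋯ s_(t-1) with s_i in S i, the factors taken in the given order. -/
theorem result {G : Type*} [Group G] [Finite G] [Group.IsSolvable G] (t : ℕ) (p : Fin t → ℕ) (hp : ∀ i, (p i).Prime) (hinj : Function.Injective p) (hall : ∀ q : ℕ, q.Prime → q ∣ Nat.card G → ∃ i, p i = q) (S : (i : Fin t) → Sylow (p i) G) : ∀ g : G, ∃ s : (i : Fin t) → G, (∀ i, s i ∈ (S i : Subgroup G)) ∧ g = (List.ofFn s).prod := by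
  suffices H : ∀ (n : ℕ) (G' : Type _) [Group G'] [Finite G'] [Group.IsSolvable G'], Nat.card G' ≤ n →
      (∀ q : ℕ, q.Prime → q ∣ Nat.card G' → ∃ i, p i = q) → ∀ (S' : (i : Fin t) → Sylow (p i) G') (g : G'),
        ∃ s : (i : Fin t) → G', (∀ i, s i ∈ (S' i : Subgroup G')) ∧ g = (List.ofFn s).prod from
    H _ G le_rfl hall S
  -- moving an element of a normal subgroup to a chosen factor
  have push : ∀ (m : ℕ) {G' : Type _} [Group G'] (N : Subgroup G') [N.Normal] (f : Fin m → G') (j : Fin m) (x : G'),
      x ∈ N → ∃ x' ∈ N, (List.ofFn f).prod * x = (List.ofFn (Function.update f j (f j * x'))).prod := by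
    intro m
    induction m with
    | zero => intro G' _ N _ f j; exact j.elim0
    | succ m ih =>
      intro G' _ N hN f j x hx
      refine Fin.cases ?_ (fun j' => ?_) j
      · refine ⟨(List.ofFn fun i => f (Fin.succ i)).prod * x * ((List.ofFn fun i => f (Fin.succ i)).prod)⁻¹,
          hN.conj_mem x hx _, ?_⟩
        rw [List.ofFn_succ, List.ofFn_succ, List.prod_cons, List.prod_cons, Function.update_self,
          show (fun i : Fin m => Function.update f 0 _ i.succ) = fun i => f i.succ from
            funext fun i => Function.update_of_ne (Fin.succ_ne_zero i) _ _]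
        group
      · obtain ⟨x', hx', e⟩ := ih N (fun i => f i.succ) j' x hx
        refine ⟨x', hx', ?_⟩
        rw [List.ofFn_succ, List.ofFn_succ, List.prod_cons, List.prod_cons, mul_assoc, e,
          Function.update_of_ne (Fin.succ_ne_zero j').symm]
        congr 3
        funext i
        by_cases hi : i = j'
        · subst hi; rw [Function.update_self, Function.update_self]
        · rw [Function.update_of_ne hi, Function.update_of_ne (fun e => hi (Fin.succ_injective _ e))]
  intro n
  induction n with
  | zero => intro G' _ _ _ h; have := Nat.card_pos (α := G'); omega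
  | succ n ih =>
    intro G' _ _ _ hcard hall' S' g
    by_cases htriv : (⊤ : Subgroup G') = ⊥
    · refine ⟨fun _ => 1, fun i => one_mem _, ?_⟩
      have : g ∈ (⊥ : Subgroup G') := htriv ▸ Subgroup.mem_top g
      rw [Subgroup.mem_bot] at this
      simp [this]
    obtain ⟨N, hN, -, hN1, hmin⟩ := Cfsg.Agent.Solv.exists_minimal_normal_le (N := (⊤ : Subgroup G')) htriv
    haveI := hN
    obtain ⟨-, q, hq, hNq⟩ := Cfsg.Agent.Solv.minimal_normal_elementary N hN1 hmin
    haveI : Fact q.Prime := ⟨hq⟩
    have hNp : IsPGroup q ↥N := fun x => ⟨1, Subtype.ext (by simpa using hNq x x.2)⟩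
    obtain ⟨k, hk⟩ := IsPGroup.iff_card.1 hNp
    have hk0 : k ≠ 0 := by
      rintro rfl
      exact hN1 (Subgroup.eq_bot_of_card_eq _ (by simpa using hk))
    have hqd : q ∣ Nat.card G' := (hk ▸ dvd_pow_self q hk0).trans N.card_subgroup_dvd_card
    obtain ⟨j, hj⟩ := hall' q hq hqd
    have hsmall : Nat.card (G' ⧸ N) ≤ n := by
      have h1 := N.card_mul_index
      have h3 : 1 < Nat.card ↥N := hk ▸ Nat.one_lt_pow hk0 hq.one_lt
      have h4 : 0 < N.index := Nat.pos_of_ne_zero Subgroup.index_ne_zero_of_finite
      show N.index ≤ n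
      nlinarith
    have hsur := QuotientGroup.mk'_surjective N
    haveI : ∀ i, Fact (p i).Prime := fun i => ⟨hp i⟩
    obtain ⟨sb, hsb, hgb⟩ := ih (G' ⧸ N) hsmall (fun r hr hrd => hall' r hr (hrd.trans (Subgroup.card_quotient_dvd_card N)))
      (fun i => (S' i).mapSurjective hsur) (g : G' ⧸ N)
    choose s hs hse using fun i => (show ∃ x ∈ (S' i : Subgroup G'), QuotientGroup.mk' N x = sb i from hsb i)
    have hx : (List.ofFn s).prod⁻¹ * g ∈ N := by
      rw [← QuotientGroup.eq]
      calc (((List.ofFn s).prod : G') : G' ⧸ N) = QuotientGroup.mk' N (List.ofFn s).prod := rfl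
        _ = (List.ofFn sb).prod := by
          rw [map_list_prod, List.map_ofFn]; congr 2; funext i; exact hse i
        _ = _ := hgb.symm
    obtain ⟨x', hx', e⟩ := push t N s j _ hx
    have hNle : N ≤ (S' j : Subgroup G') := by
      have hNp' : IsPGroup (p j) ↥N := hj.symm ▸ hNp
      have hmax := (S' j).is_maximal' (hNp'.to_sup_of_normal_left (S' j).isPGroup') le_sup_right
      exact le_sup_left.trans hmax.le
    refine ⟨_, fun i => ?_, ((mul_inv_cancel_left _ g).symm.trans e)⟩
    by_cases hi : i = j
    · subst hi; rw [Function.update_self]; exact mul_mem (hs i) (hNle hx')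
    · rw [Function.update_of_ne hi]; exact hs i

end Cfsg.Agent.S0554
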