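import Cfsg.Statements.S0555


set_option autoImplicit false
open scoped Pointwise
open scoped commutatorElement
open Cfsg

namespace Cfsg.Agent.S0555

/-- Let i ≥ 1. If in the derived series of a group the quotient of the i-th term by the (i+1)-st and the quotient of the (i+1)-st by the (i+2)-nd are both cyclic, then the (i+1)-st and (i+2)-nd terms coincide. -/
theorem result {G : Type*} [Group G] (i : ℕ) (hi : 1 ≤ i) (h₁ : IsCyclic (↥(derivedSeries G i) ⧸ (derivedSeries G (i + 1)).subgroupOf (derivedSeries G i))) (h₂ : IsCyclic (↥(derivedSeries G (i + 1)) ⧸ (derivedSeries G (i + 2)).subgroupOf (derivedSeries G (i + 1)))) : derivedSeries G (i + 1) = derivedSeries G (i + 2) := by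
  set W := derivedSeries G (i + 2) with hW
  set f := QuotientGroup.mk' W with hf
  set X := (derivedSeries G i).map f
  set Y := (derivedSeries G (i + 1)).map f
  have hYW : derivedSeries G (i + 2) ≤ derivedSeries G (i + 1) := derivedSeries_antitone G (by omega)
  haveI hYc : IsCyclic Y := by
    haveI := h₂
    refine isCyclic_of_surjective (QuotientGroup.lift ((W).subgroupOf (derivedSeries G (i + 1)))
      (f.subgroupMap (derivedSeries G (i + 1))) (fun x hx => ?_)) ?_
    · rw [MonoidHom.mem_ker]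
      exact Subtype.ext ((QuotientGroup.eq_one_iff _).mpr hx)
    · intro y
      obtain ⟨x, hx⟩ := f.subgroupMap_surjective (derivedSeries G (i + 1)) y
      exact ⟨QuotientGroup.mk x, hx⟩
  haveI : Y.Normal := Subgroup.Normal.map inferInstance f (QuotientGroup.mk'_surjective W)
  have hcent : commutator (G ⧸ W) ≤ (MulAut.conjNormal (H := Y)).ker := by
    rw [_root_.commutator_def, Subgroup.commutator_le]
    intro a _ b _
    rw [MonoidHom.mem_ker, map_commutatorElement, commutatorElement_eq_one_iff_mul_comm]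
    obtain ⟨m, hm⟩ := MonoidHom.map_cyclic ((MulAut.conjNormal (H := Y) a).toMonoidHom)
    obtain ⟨k, hk⟩ := MonoidHom.map_cyclic ((MulAut.conjNormal (H := Y) b).toMonoidHom)
    ext y
    have hm' : ∀ y, MulAut.conjNormal (H := Y) a y = y ^ m := hm
    have hk' : ∀ y, MulAut.conjNormal (H := Y) b y = y ^ k := hk
    simp only [MulAut.mul_apply, hm', hk', ← zpow_mul, mul_comm m k]
  have hXD : X ≤ commutator (G ⧸ W) := by
    rw [_root_.commutator_def, ← Subgroup.map_top_of_surjective f (QuotientGroup.mk'_surjective W),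
      ← Subgroup.map_commutator]
    exact Subgroup.map_mono (derivedSeries_antitone G hi)
  haveI := h₁
  obtain ⟨x0, hx0⟩ := IsCyclic.exists_generator
    (α := ↥(derivedSeries G i) ⧸ (derivedSeries G (i + 1)).subgroupOf (derivedSeries G i))
  obtain ⟨x0, rfl⟩ := QuotientGroup.mk_surjective x0
  have hdec : ∀ x ∈ X, ∃ (k : ℤ) (y : G ⧸ W), y ∈ Y ∧ x = f x0 ^ k * y := by
    rintro _ ⟨x, hx, rfl⟩
    obtain ⟨k, hk⟩ := Subgroup.mem_zpowers_iff.mp (hx0 (QuotientGroup.mk ⟨x, hx⟩))
    rw [← QuotientGroup.mk_zpow, QuotientGroup.eq] at hk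
    refine ⟨k, f (((x0 : G) ^ k)⁻¹ * x), ⟨_, hk, rfl⟩, ?_⟩
    rw [map_mul, map_inv, map_zpow, mul_inv_cancel_left]
  have hcomm : ∀ x ∈ X, ∀ y ∈ Y, Commute x y := by
    intro x hx y hy
    have h1 := MulEquiv.congr_fun (MonoidHom.mem_ker.mp (hcent (hXD hx))) ⟨y, hy⟩
    have h2 := congrArg Subtype.val h1
    rw [MulAut.conjNormal_apply] at h2
    exact mul_inv_eq_iff_eq_mul.mp h2
  have hbot : ⁅X, X⁆ = ⊥ := by
    rw [eq_bot_iff, Subgroup.commutator_le]
    intro a ha b hb
    rw [Subgroup.mem_bot, commutatorElement_eq_one_iff_commute]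
    obtain ⟨k, y, hy, rfl⟩ := hdec a ha
    obtain ⟨l, z, hz, rfl⟩ := hdec b hb
    have hx0X : f x0 ∈ X := ⟨x0, x0.2, rfl⟩
    have hYX : Y ≤ X := Subgroup.map_mono (derivedSeries_antitone G (by omega))
    exact (((Commute.refl (f x0)).zpow_zpow k l).mul_right ((hcomm _ hx0X z hz).zpow_left k)).mul_left
      ((((hcomm _ hx0X y hy).zpow_left l).symm).mul_right (hcomm y (hYX hy) z hz))
  rw [← Subgroup.map_commutator, Subgroup.map_eq_bot_iff, hf, QuotientGroup.ker_mk'] at hbot
  exact le_antisymm hbot hYW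

end Cfsg.Agent.S0555
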