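import Cfsg.Statements.S0560
import Cfsg.Agent.Lib.Solv.Misc

set_option autoImplicit false
open Pointwise
open Cfsg

namespace Cfsg.Agent.S0560

/-- Let the finite group G be the product HK of two subgroups and p a prime. Then there are Sylow p-subgroups P of H and Q of K and a Sylow p-subgroup R of G whose underlying set is the product set of P and Q. -/
theorem result {G : Type*} [Group G] [Finite G] (H K : Subgroup G) (hHK : ∀ g : G, ∃ h ∈ H, ∃ k ∈ K, g = h * k) (p : ℕ) [Fact p.Prime] : ∃ (P : Sylow p H) (Q : Sylow p K) (R : Sylow p G), ((R : Subgroup G) : Set G) = (((P : Subgroup H).map H.subtype : Subgroup G) : Set G) * (((Q : Subgroup K).map K.subtype : Subgroup G) : Set G) := by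
  obtain ⟨P0⟩ : Nonempty (Sylow p H) := inferInstance
  obtain ⟨Q0⟩ : Nonempty (Sylow p K) := inferInstance
  obtain ⟨R1, hR1⟩ := (P0.isPGroup'.map H.subtype).exists_le_sylow
  obtain ⟨R2, hR2⟩ := (Q0.isPGroup'.map K.subtype).exists_le_sylow
  obtain ⟨g, hg⟩ := MulAction.exists_smul_eq G R1 R2
  obtain ⟨h0, hh0, k0, hk0, hg0⟩ := hHK g⁻¹
  set P := (⟨h0⁻¹, H.inv_mem hh0⟩ : H) • P0 with hP
  set Q := (⟨k0, hk0⟩ : K) • Q0 with hQ
  have hgk : g = k0⁻¹ * h0⁻¹ := by rw [← mul_inv_rev, ← hg0, inv_inv]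
  set R := (h0⁻¹ : G) • R1 with hR
  have hPR : (P : Subgroup H).map H.subtype ≤ R := by
    rintro _ ⟨x, hx, rfl⟩
    rw [hP, Sylow.coe_subgroup_smul, SetLike.mem_coe, Cfsg.Agent.Solv.mem_conj_smul] at hx
    rw [hR, Sylow.coe_subgroup_smul, Cfsg.Agent.Solv.mem_conj_smul]
    exact hR1 ⟨_, hx, rfl⟩
  have hQR : (Q : Subgroup K).map K.subtype ≤ R := by
    rintro _ ⟨x, hx, rfl⟩
    rw [hQ, Sylow.coe_subgroup_smul, SetLike.mem_coe, Cfsg.Agent.Solv.mem_conj_smul] at hx
    have h := hR2 ⟨_, hx, rfl⟩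
    rw [← hg, hgk, Sylow.coe_subgroup_smul, map_mul, mul_smul, Cfsg.Agent.Solv.mem_conj_smul] at h
    rw [hR, Sylow.coe_subgroup_smul]
    simpa [mul_assoc] using h
  refine ⟨P, Q, R, ?_⟩
  set P' := (P : Subgroup H).map H.subtype with hP'
  set Q' := (Q : Subgroup K).map K.subtype with hQ'
  have hmul : ∀ r ∈ (R : Subgroup G), ∃ x ∈ P', ∃ y ∈ Q', r = x * y := by
    have hPQ : P'.subgroupOf R = (P'.subgroupOf (R : Subgroup G)) := rfl
    suffices hidx : (Q'.subgroupOf R).relIndex (P'.subgroupOf R) = (Q'.subgroupOf R).index by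
      intro r hr
      obtain ⟨x, hx, y, hy, he⟩ := Cfsg.Agent.Solv.exists_mul_eq_of_relIndex _ _ hidx ⟨r, hr⟩
      exact ⟨x, hx, y, hy, congrArg Subtype.val he⟩
    rw [Subgroup.relIndex_subgroupOf hPR, ← Subgroup.relIndex]
    -- cardinalities
    have hle1 : Q'.relIndex P' ≤ Q'.relIndex R := Subgroup.relIndex_le_of_le_right hPR Subgroup.index_ne_zero_of_finite
    refine le_antisymm hle1 ?_
    let φ : H ⧸ K.subgroupOf H → G ⧸ K :=
      Quotient.map' (Subtype.val) (fun a b hab => by
        rw [QuotientGroup.leftRel_apply] at hab ⊢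
        exact hab)
    have hsur : Function.Surjective φ := by
      intro q
      obtain ⟨z, rfl⟩ := QuotientGroup.mk_surjective q
      obtain ⟨h, hh, k, hk, rfl⟩ := hHK z
      exact ⟨((⟨h, hh⟩ : H) : H ⧸ K.subgroupOf H), QuotientGroup.eq.mpr (by simpa using hk)⟩
    have hinj : Function.Injective φ := by
      intro a b
      induction a using QuotientGroup.induction_on with
      | _ a =>
        induction b using QuotientGroup.induction_on with
        | _ b => exact fun hab => QuotientGroup.eq.mpr (QuotientGroup.eq (s := K).mp hab)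
    have hidx : K.relIndex H = K.index := Nat.card_eq_of_bijective φ ⟨hinj, hsur⟩
    have e1 := (K.subgroupOf H).card_mul_index
    change Nat.card ↥(K.subgroupOf H) * K.relIndex H = Nat.card H at e1
    rw [← Subgroup.inf_subgroupOf_right, Cfsg.Agent.Solv.card_subgroupOf inf_le_right, hidx] at e1
    have e2 := K.card_mul_index
    have e3 : Nat.card H * Nat.card K = Nat.card ↥(K ⊓ H : Subgroup G) * Nat.card G := by
      rw [← e1, ← e2]; ring
    have f1 : Nat.card P' = p ^ (Nat.card H).factorization p := by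
      rw [hP', Cfsg.Agent.Solv.card_map_subtype, P.card_eq_multiplicity]
    have f2 : Nat.card Q' = p ^ (Nat.card K).factorization p := by
      rw [hQ', Cfsg.Agent.Solv.card_map_subtype, Q.card_eq_multiplicity]
    obtain ⟨e, he⟩ := IsPGroup.iff_card.mp ((P.isPGroup'.map H.subtype).to_le (inf_le_right : Q' ⊓ P' ≤ P'))
    have hle : e ≤ (Nat.card ↥(K ⊓ H : Subgroup G)).factorization p := by
      refine ((Fact.out : p.Prime).pow_dvd_iff_le_factorization Nat.card_pos.ne').mp (he ▸ Subgroup.card_dvd_of_le ?_)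
      exact inf_le_inf (Subgroup.map_subtype_le _) (Subgroup.map_subtype_le _)
    have e4 := congrArg (fun n => n.factorization p) e3
    simp only [Nat.factorization_mul Nat.card_pos.ne' Nat.card_pos.ne', Finsupp.add_apply] at e4
    have g1 := (Q'.subgroupOf P').card_mul_index
    change Nat.card ↥(Q'.subgroupOf P') * Q'.relIndex P' = Nat.card P' at g1
    rw [← Subgroup.inf_subgroupOf_right, Cfsg.Agent.Solv.card_subgroupOf inf_le_right, he, f1] at g1
    have g2 := (Q'.subgroupOf R).card_mul_index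
    change Nat.card ↥(Q'.subgroupOf R) * Q'.relIndex R = Nat.card ↥(R : Subgroup G) at g2
    rw [Cfsg.Agent.Solv.card_subgroupOf hQR, f2, R.card_eq_multiplicity] at g2
    have hp0 : 0 < p := (Fact.out : p.Prime).pos
    refine _root_.le_of_mul_le_mul_left (a := p ^ (e + (Nat.card K).factorization p)) ?_ (pow_pos hp0 _)
    calc p ^ (e + (Nat.card K).factorization p) * Q'.relIndex R
        = p ^ (e + (Nat.card G).factorization p) := by rw [pow_add, mul_assoc, g2, ← pow_add]
      _ ≤ p ^ ((Nat.card H).factorization p + (Nat.card K).factorization p) := Nat.pow_le_pow_right hp0 (by omega)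
      _ = p ^ (e + (Nat.card K).factorization p) * Q'.relIndex P' := by rw [pow_add, pow_add, ← g1]; ring
  refine Set.Subset.antisymm (fun r hr => ?_) ?_
  · obtain ⟨x, hx, y, hy, rfl⟩ := hmul r hr
    exact Set.mul_mem_mul hx hy
  · rintro _ ⟨x, hx, y, hy, rfl⟩
    exact Subgroup.mul_mem _ (hPR hx) (hQR hy)

end Cfsg.Agent.S0560
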