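import Cfsg.Statements.S0561
import Cfsg.Agent.Lib.Solv.Hall
import Cfsg.Agent.Lib.Solv.Misc

set_option autoImplicit false
open Pointwise
open Cfsg
open scoped Pointwise

namespace Cfsg.Agent.S0561

/-- Let the finite solvable group G be the product HK of subgroups, and let A be normal in H and B normal in K, where A and B are Hall subgroups of G (order coprime to index). Then for all x, y the product set of xAx⁻¹ and yBy⁻¹ is a subgroup of G. -/
theorem result {G : Type*} [Group G] [Finite G] [Group.IsSolvable G] (H K A B : Subgroup G) (hHK : ∀ g : G, ∃ h ∈ H, ∃ k ∈ K, g = h * k) (hA : A ≤ H) (hAn : (A.subgroupOf H).Normal) (hB : B ≤ K) (hBn : (B.subgroupOf K).Normal) (hAh : (Nat.card A).Coprime A.index) (hBh : (Nat.card B).Coprime B.index) (x y : G) : ∃ S : Subgroup G, (S : Set G) = ((MulAut.conj x • A : Subgroup G) : Set G) * ((MulAut.conj y • B : Subgroup G) : Set G) := by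
  classical
  have hprodA : ∀ h ∈ H, MulAut.conj h • A = A := fun h hh =>
    Cfsg.Agent.Solv.conj_smul_eq_self_of_mem_normalizer
      ((Subgroup.normal_subgroupOf_iff_le_normalizer hA).mp hAn hh)
  have hprodB : ∀ k ∈ K, MulAut.conj k • B = B := fun k hk =>
    Cfsg.Agent.Solv.conj_smul_eq_self_of_mem_normalizer
      ((Subgroup.normal_subgroupOf_iff_le_normalizer hB).mp hBn hk)
  -- a Hall subgroup in which A and a conjugate of B permute
  obtain ⟨n, hn⟩ : Nat.lcm (Nat.card A) (Nat.card B) ∣ Nat.card G :=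
    Nat.lcm_dvd A.card_subgroup_dvd_card B.card_subgroup_dvd_card
  have hnA : n ∣ A.index := by
    obtain ⟨c, hc⟩ := Nat.dvd_lcm_left (Nat.card A) (Nat.card B)
    rw [hc, ← A.card_mul_index, mul_assoc] at hn
    exact Dvd.intro_left c (Nat.eq_of_mul_eq_mul_left Nat.card_pos hn).symm
  have hnB : n ∣ B.index := by
    obtain ⟨c, hc⟩ := Nat.dvd_lcm_right (Nat.card A) (Nat.card B)
    rw [hc, ← B.card_mul_index, mul_assoc] at hn
    exact Dvd.intro_left c (Nat.eq_of_mul_eq_mul_left Nat.card_pos hn).symm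
  have cA : (Nat.card A).Coprime n := hAh.coprime_dvd_right hnA
  have cB : (Nat.card B).Coprime n := hBh.coprime_dvd_right hnB
  have cm : (Nat.lcm (Nat.card A) (Nat.card B)).Coprime n :=
    (cA.mul_left cB).coprime_dvd_left (Nat.lcm_dvd_mul _ _)
  obtain ⟨M, hM, hAM⟩ := Cfsg.Agent.Solv.hall_contained hn cm A cA
  obtain ⟨g, hg⟩ := Cfsg.Agent.Solv.hall_conj_le hn cm B M cB hM
  have hcop : (A.subgroupOf M).index.Coprime ((MulAut.conj g • B).subgroupOf M).index := by
    have e : ∀ X : Subgroup G, X ≤ M →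
        (X.subgroupOf M).index = Nat.lcm (Nat.card A) (Nat.card B) / Nat.card X := fun X hX => by
      rw [← hM, ← (X.subgroupOf M).card_mul_index,
        Nat.card_congr (Subgroup.subgroupOfEquivOfLe hX).toEquiv, Nat.mul_div_cancel_left _ Nat.card_pos]
    rw [e A hAM, e _ hg, Cfsg.Agent.Solv.card_conj_smul]
    have h0 : 0 < Nat.gcd (Nat.card A) (Nat.card B) := Nat.gcd_pos_of_pos_left _ Nat.card_pos
    have e1 : Nat.lcm (Nat.card A) (Nat.card B) / Nat.card A = Nat.card B / Nat.gcd (Nat.card A) (Nat.card B) := by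
      rw [Nat.lcm, Nat.mul_div_assoc _ (Nat.gcd_dvd_right _ _), Nat.mul_div_cancel_left _ Nat.card_pos]
    have e2 : Nat.lcm (Nat.card A) (Nat.card B) / Nat.card B = Nat.card A / Nat.gcd (Nat.card A) (Nat.card B) := by
      rw [Nat.lcm, mul_comm (Nat.card A), Nat.mul_div_assoc _ (Nat.gcd_dvd_left _ _),
        Nat.mul_div_cancel_left _ Nat.card_pos]
    rw [e1, e2]
    exact (Nat.coprime_div_gcd_div_gcd h0).symm
  have hMeq : (M : Set G) = (A : Set G) * ((MulAut.conj g • B : Subgroup G) : Set G) := by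
    refine Set.Subset.antisymm (fun z hz => ?_) (Set.mul_subset_iff.mpr fun a ha b hb => M.mul_mem (hAM ha) (hg hb))
    obtain ⟨a, ha, b, hb, hab⟩ := Cfsg.Agent.Solv.exists_mul_eq_of_relIndex _ _
      (Cfsg.Agent.Solv.index_inf_of_coprime _ _ hcop).2 (⟨z, hz⟩ : M)
    exact ⟨a, ha, b, hb, (congrArg Subtype.val hab).symm⟩
  -- move the pair to `A`, `B` and on to any pair of conjugates
  have move : ∀ (c : G) (X Y : Subgroup G), (∃ S : Subgroup G, (S : Set G) = (X : Set G) * Y) →
      ∃ S : Subgroup G, (S : Set G) = ((MulAut.conj c • X : Subgroup G) : Set G) * ((MulAut.conj c • Y : Subgroup G) : Set G) := by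
    rintro c X Y ⟨S, hS⟩
    refine ⟨MulAut.conj c • S, ?_⟩
    rw [Subgroup.coe_pointwise_smul, Subgroup.coe_pointwise_smul, Subgroup.coe_pointwise_smul, hS, smul_mul']
  obtain ⟨h₁, hh₁, k₁, hk₁, rfl⟩ := hHK g
  have hAB : ∃ S : Subgroup G, (S : Set G) = (A : Set G) * B := by
    have h := move h₁⁻¹ A _ ⟨M, hMeq⟩
    rwa [hprodA _ (H.inv_mem hh₁), map_mul, mul_smul, hprodB _ hk₁, ← mul_smul, ← map_mul,
      inv_mul_cancel, map_one, one_smul] at h
  obtain ⟨h₂, hh₂, k₂, hk₂, he⟩ := hHK (x⁻¹ * y)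
  have h := move (x * h₂) A B hAB
  have e1 : MulAut.conj (x * h₂) • A = MulAut.conj x • A := by
    rw [map_mul, mul_smul, hprodA _ hh₂]
  have e2 : MulAut.conj (x * h₂) • B = MulAut.conj y • B := by
    rw [show y = x * h₂ * k₂ by rw [mul_assoc, ← he, mul_inv_cancel_left], map_mul _ (x * h₂) k₂, mul_smul,
      hprodB _ hk₂]
  rwa [e1, e2] at h

end Cfsg.Agent.S0561
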