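import Cfsg.Statements.S0562
import Cfsg.Agent.Lib.Solv.Misc

set_option autoImplicit false
open scoped Pointwise
open Cfsg

namespace Cfsg.Agent.S0562

/-- Let the finite group G be the product HK of subgroups, A normal in H, B normal in K, and L the normalizer of the subgroup generated by A and B. Then every element of L is a product of an element of L ∩ H and an element of L ∩ K. -/
theorem result {G : Type*} [Group G] [Finite G] (H K A B : Subgroup G) (hHK : ∀ g : G, ∃ h ∈ H, ∃ k ∈ K, g = h * k) (hA : A ≤ H) (hAn : (A.subgroupOf H).Normal) (hB : B ≤ K) (hBn : (B.subgroupOf K).Normal) : ∀ g ∈ Subgroup.normalizer ((A ⊔ B : Subgroup G) : Set G), ∃ h ∈ Subgroup.normalizer ((A ⊔ B : Subgroup G) : Set G) ⊓ H, ∃ k ∈ Subgroup.normalizer ((A ⊔ B : Subgroup G) : Set G) ⊓ K, g = h * k := by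
  intro g hg
  obtain ⟨h, hh, k, hk, rfl⟩ := hHK g
  set J := A ⊔ B with hJ
  have hA' := (Subgroup.normal_subgroupOf_iff hA).mp hAn
  have hB' := (Subgroup.normal_subgroupOf_iff hB).mp hBn
  have hle : J ≤ MulAut.conj h⁻¹ • J := by
    refine sup_le (fun a ha => ?_) (fun b hb => ?_)
    · rw [Cfsg.Agent.Solv.mem_conj_smul, inv_inv]
      exact Subgroup.mem_sup_left (hA' a h ha hh)
    · rw [Cfsg.Agent.Solv.mem_conj_smul, inv_inv]
      have h1 : k⁻¹ * b * k ∈ J := Subgroup.mem_sup_right (by simpa using hB' b k⁻¹ hb (K.inv_mem hk))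
      have h2 := (Subgroup.mem_normalizer_iff.mp hg _).mp h1
      convert h2 using 1
      group
  have heq : MulAut.conj h⁻¹ • J = J := (Subgroup.eq_of_le_of_card_ge hle (by rw [Cfsg.Agent.Solv.card_conj_smul])).symm
  have hn : h⁻¹ ∈ Subgroup.normalizer (J : Set G) := by
    refine Subgroup.mem_normalizer_iff.mpr fun z => ?_
    conv_rhs => rw [← heq, Cfsg.Agent.Solv.mem_conj_smul]
    simp [mul_assoc]
  refine ⟨h, ⟨by simpa using Subgroup.inv_mem _ hn, hh⟩, k, ⟨?_, hk⟩, rfl⟩
  have := Subgroup.mul_mem _ hn hg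
  simpa using this

end Cfsg.Agent.S0562
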