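import Cfsg.Statements.S0567
import Cfsg.Agent.Lib.Solv.Misc

set_option autoImplicit false
open scoped Pointwise commutatorElement
open Cfsg

namespace Cfsg.Agent.S0567

/-- A subgroup H of a group G is subnormal exactly when, for some m, the subgroup obtained from G by taking the commutator with H m times in succession is contained in H. -/
theorem result {G : Type*} [Group G] (H : Subgroup G) : H.IsSubnormal ↔ ∃ m : ℕ, (fun K : Subgroup G => ⁅K, H⁆)^[m] ⊤ ≤ H := by
  set f := fun K : Subgroup G => ⁅K, H⁆ with hf
  constructor
  · intro hH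
    have key : ∀ K : Subgroup G, K.IsSubnormal → H ≤ K → ∃ m : ℕ, f^[m] ⊤ ≤ K := by
      intro K hK
      induction hK with
      | top => exact fun _ => ⟨0, le_rfl⟩
      | step A B hle _ hN ih =>
        intro hA
        obtain ⟨m, hm⟩ := ih (hA.trans hle)
        refine ⟨m + 1, ?_⟩
        rw [Function.iterate_succ_apply']
        exact (Subgroup.commutator_mono hm hA).trans
          (Subgroup.le_normalizer_iff_commutator_le_right.mp
            ((Subgroup.normal_subgroupOf_iff_le_normalizer hle).mp hN))
    exact key H hH le_rfl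
  · rintro ⟨m, hm⟩
    have hX : ∀ n, H ≤ Subgroup.normalizer ((f^[n] ⊤ : Subgroup G) : Set G) := by
      intro n
      induction n with
      | zero =>
        rw [Function.iterate_zero_apply]
        exact Subgroup.le_normalizer_of_normal
      | succ n ih =>
        rw [Function.iterate_succ_apply']
        exact (le_inf ih Subgroup.le_normalizer).trans (Cfsg.Agent.Solv.normalizer_le_normalizer_commutator _ _)
    have hstep : ∀ n, (f^[n] ⊤ ⊔ H).IsSubnormal := by
      intro n
      induction n with
      | zero => rw [Function.iterate_zero_apply, top_sup_eq]; exact Subgroup.IsSubnormal.top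
      | succ n ih =>
        rw [Function.iterate_succ_apply']
        set X := f^[n] ⊤
        have hle : ⁅X, H⁆ ≤ X := Subgroup.le_normalizer_iff_commutator_le_left.mp (hX n)
        refine Subgroup.IsSubnormal.step _ (X ⊔ H) (sup_le_sup_right hle H) ih ?_
        rw [Subgroup.normal_subgroupOf_iff_le_normalizer (sup_le_sup_right hle H)]
        refine sup_le ?_ ((show H ≤ ⁅X, H⁆ ⊔ H from le_sup_right).trans Subgroup.le_normalizer)
        intro x hx
        suffices key : ∀ a ∈ X, ∀ k ∈ ⁅X, H⁆ ⊔ H, a * k * a⁻¹ ∈ ⁅X, H⁆ ⊔ H from
          Subgroup.mem_normalizer_iff.mpr fun k => ⟨key x hx k, fun hk => by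
            simpa [mul_assoc] using key x⁻¹ (X.inv_mem hx) _ hk⟩
        intro a ha k hk
        have h1 : ⁅X, H⁆ ⊔ H ≤ (⁅X, H⁆ ⊔ H).comap (MulAut.conj a).toMonoidHom := by
          refine sup_le (fun y hy => Subgroup.mem_sup_left ?_) (fun y hy => ?_)
          · exact (Subgroup.mem_normalizer_iff.mp (Subgroup.normalizer_commutator_ge_left X H ha) y).mp hy
          · have h2 := Subgroup.mul_mem (⁅X, H⁆ ⊔ H) (Subgroup.mem_sup_left (Subgroup.commutator_mem_commutator ha hy)) (Subgroup.mem_sup_right hy)
            rw [commutatorElement_def] at h2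
            simpa [mul_assoc] using h2
        exact h1 hk
    have := hstep m
    rwa [sup_eq_right.mpr hm] at this

end Cfsg.Agent.S0567
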