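import Cfsg.Statements.S0570
import Cfsg.Agent.Lib.Solv.SystemCarter

set_option autoImplicit false
open scoped Pointwise
open Cfsg

namespace Cfsg.Agent.S0570

/-- Let G be a finite group with a nilpotent normal subgroup F such that G modulo F is nilpotent (nilpotent length at most two). Then a subgroup of G is a Carter subgroup if and only if it is the system normalizer of some Hall complement system. -/
theorem result {G : Type*} [Group G] [Finite G] (F : Subgroup G) [F.Normal] (hF : Group.IsNilpotent F) (hGF : Group.IsNilpotent (G ⧸ F)) (C : Subgroup G) : Cfsg.IsCarterSubgroup C ↔ ∃ K : Nat.Primes → Subgroup G, Cfsg.IsComplementSystem K ∧ C = Cfsg.systemNormalizer K := by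
  haveI : Group.IsNilpotent F := hF
  haveI : Group.IsNilpotent (G ⧸ F) := hGF
  haveI : Group.IsSolvable F := inferInstance
  haveI : Group.IsSolvable (G ⧸ F) := inferInstance
  haveI : Group.IsSolvable G := Group.isSolvable_of_ker_le_range F.subtype (QuotientGroup.mk' F)
    (by rw [QuotientGroup.ker_mk', Subgroup.range_subtype])
  refine ⟨fun hC => ?_, ?_⟩
  · obtain ⟨K, hK, hR⟩ := Cfsg.Agent.Solv.exists_system_reduces C
    exact ⟨K, hK, Cfsg.Agent.Solv.carter_eq_systemNormalizer_aux _ G le_rfl F hF hGF K hK C hC hR⟩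
  · rintro ⟨K, hK, rfl⟩
    obtain ⟨D, hD⟩ := Cfsg.Agent.Solv.exists_carter (G := G)
    obtain ⟨K₀, hK₀, hR⟩ := Cfsg.Agent.Solv.exists_system_reduces D
    obtain ⟨g, hg⟩ := Cfsg.Agent.Solv.system_conj hK₀ hK
    rw [show K = fun p => MulAut.conj g • K₀ p from (funext hg).symm,
      Cfsg.Agent.Solv.systemNormalizer_conj,
      ← Cfsg.Agent.Solv.carter_eq_systemNormalizer_aux _ G le_rfl F hF hGF K₀ hK₀ D hD hR]
    exact Cfsg.Agent.Solv.isCarter_conj hD g

end Cfsg.Agent.S0570
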