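import Cfsg.Statements.S0576
import Cfsg.Agent.Lib.Solv.Misc

set_option autoImplicit false
open scoped Pointwise
open Cfsg

namespace Cfsg.Agent.S0576

/-- Let H be a normal subgroup of a finite group G with H contained in the Frattini subgroup of G. Then the group of inner automorphisms of H is contained in the Frattini subgroup of the automorphism group of H. -/
theorem result {G : Type*} [Group G] [Finite G] (H : Subgroup G) [H.Normal] (hH : H ≤ frattini G) : (MulAut.conj : ↥H →* MulAut ↥H).range ≤ frattini (MulAut ↥H) := by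
  refine le_iInf fun M => le_iInf fun hM => ?_
  by_contra hle
  set I := (MulAut.conj : ↥H →* MulAut ↥H).range with hI
  have hIn : I.Normal := by
    refine ⟨?_⟩
    rintro _ ⟨h, rfl⟩ φ
    refine ⟨φ h, MulEquiv.ext fun x => ?_⟩
    simp
  haveI := hIn
  have htop : I ⊔ M = ⊤ := hM.2 _ (lt_of_le_of_ne le_sup_right fun h => hle (h ▸ le_sup_left))
  let c : G →* MulAut H := MulAut.conjNormal
  have hc : ∀ h : H, c h = MulAut.conj h := fun h => MulEquiv.ext fun x => Subtype.ext (by
    change ((MulAut.conjNormal (h : G) x : H) : G) = _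
    rw [MulAut.conjNormal_apply]
    simp)
  have h0 : M.comap c = ⊤ := by
    refine frattini_nongenerating (top_le_iff.mp fun g _ => ?_)
    obtain ⟨i, ⟨h, rfl⟩, m, hm, he⟩ := Subgroup.mem_sup_of_normal_left.mp (htop ▸ Subgroup.mem_top (c g) : c g ∈ I ⊔ M)
    have h1 : (h : G)⁻¹ * g ∈ M.comap c := by
      rw [Subgroup.mem_comap, map_mul, map_inv, hc, ← he, inv_mul_cancel_left]
      exact hm
    have h2 := Subgroup.mul_mem (M.comap c ⊔ frattini G) (Subgroup.mem_sup_right (hH h.2)) (Subgroup.mem_sup_left h1)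
    simpa using h2
  refine hle ?_
  rintro _ ⟨h, rfl⟩
  rw [← hc]
  exact (h0.symm ▸ Subgroup.mem_top (h : G) : (h : G) ∈ M.comap c)

end Cfsg.Agent.S0576
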