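import Cfsg.Statements.S0578
import Cfsg.Agent.Lib.Solv.NormalPComplement
import Cfsg.Agent.Lib.Solv.Misc
import Cfsg.Agent.S0015

set_option autoImplicit false
open scoped Pointwise commutatorElement
open Cfsg

namespace Cfsg.Agent.S0578

/-- If in a finite group the normalizer of each abelian subgroup coincides with its centralizer, then the group is abelian. -/
theorem result {G : Type*} [Group G] [Finite G] (h : ∀ A : Subgroup G, IsMulCommutative A → Subgroup.normalizer (A : Set G) = Subgroup.centralizer (A : Set G)) : IsMulCommutative G := by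
  have hab : ∀ (p : ℕ) [Fact p.Prime] (P : Sylow p G), IsMulCommutative ↥(P : Subgroup G) := by
    intro p _ P
    obtain ⟨A, hA⟩ := (Set.toFinite {A : Subgroup ↥(P : Subgroup G) | A.Normal ∧ IsMulCommutative A}).exists_maximal
      ⟨⊥, Subgroup.normal_bot, inferInstance⟩
    haveI := hA.1.1
    haveI := hA.1.2
    haveI : Group.IsNilpotent ↥(P : Subgroup G) := P.isPGroup'.isNilpotent
    set A' := A.map (P : Subgroup G).subtype with hA'
    have hc : IsMulCommutative A' := Subgroup.map_isMulCommutative _ _
    have hle : (P : Subgroup G) ≤ Subgroup.centralizer (A' : Set G) := by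
      rw [← h A' hc]
      have := Subgroup.le_normalizer_map (H := A) (P : Subgroup G).subtype
      rwa [Subgroup.normalizer_eq_top_iff.mpr inferInstance, ← MonoidHom.range_eq_map, Subgroup.range_subtype] at this
    have hall : ∀ x : ↥(P : Subgroup G), x ∈ A := by
      have hC : Subgroup.centralizer (A : Set ↥(P : Subgroup G)) = A := by
        exact Cfsg.Agent.S0015.result A fun M hM1 hM2 hAM => le_antisymm (hA.2 ⟨hM1, hM2⟩ hAM) hAM
      intro x
      rw [← hC]
      exact fun a ha => Subtype.ext (hle x.2 a (Subgroup.mem_map_of_mem _ ha))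
    exact ⟨⟨fun x y => congrArg Subtype.val (mul_comm' (⟨x, hall x⟩ : A) ⟨y, hall y⟩)⟩⟩
  have hG' : commutator G = ⊥ := by
    rw [← Subgroup.card_eq_one]
    by_contra hne
    obtain ⟨q, hq, hqd⟩ := Nat.exists_prime_and_dvd hne
    haveI : Fact q.Prime := ⟨hq⟩
    obtain ⟨P⟩ : Nonempty (Sylow q G) := inferInstance
    haveI := hab q P
    have hN : Subgroup.normalizer (P : Set G) ≤ Subgroup.centralizer (P : Set G) := (h _ (hab q P)).le
    refine MonoidHom.not_dvd_card_ker_transferSylow P hN (hqd.trans (Subgroup.card_dvd_of_le ?_))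
    rw [commutator_def, Subgroup.commutator_le]
    intro x _ y _
    rw [MonoidHom.mem_ker, map_commutatorElement, commutatorElement_eq_one_iff_mul_comm]
    exact mul_comm' _ _
  exact ⟨⟨fun x y => commutatorElement_eq_one_iff_mul_comm.mp (by
    rw [← Subgroup.mem_bot, ← hG']; exact Subgroup.commutator_mem_commutator (Subgroup.mem_top x) (Subgroup.mem_top y))⟩⟩

end Cfsg.Agent.S0578
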