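import Cfsg.Statements.S0580
import Cfsg.Agent.Lib.Solv.Misc

set_option autoImplicit false
open scoped Pointwise
open Cfsg

namespace Cfsg.Agent.S0580

/-- If every maximal subgroup of a finite group has prime index, then the group is solvable. -/
theorem result {G : Type*} [Group G] [Finite G] (h : ∀ M : Subgroup G, IsCoatom M → M.index.Prime) : Group.IsSolvable G := by
  suffices H : ∀ (n : ℕ) (G : Type u_1) [Group G] [Finite G], Nat.card G ≤ n →
      (∀ M : Subgroup G, IsCoatom M → M.index.Prime) → Group.IsSolvable G from H _ G le_rfl h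
  clear h
  intro n
  induction n with
  | zero => intro G _ _ hn; exact absurd hn (not_le.mpr Nat.card_pos)
  | succ n ih =>
    intro G _ _ hn h
    by_cases hG : Nat.card G = 1
    · haveI := (Nat.card_eq_one_iff_unique.mp hG).1
      infer_instance
    set p := (Nat.card G).primeFactors.max' (Nat.nonempty_primeFactors.mpr (by have := Nat.card_pos (α := G); omega))
    have hp : p.Prime ∧ p ∣ Nat.card G := ⟨Nat.prime_of_mem_primeFactors (Finset.max'_mem _ _), Nat.dvd_of_mem_primeFactors (Finset.max'_mem _ _)⟩
    haveI := Fact.mk hp.1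
    obtain ⟨P⟩ : Nonempty (Sylow p G) := inferInstance
    have hPn : (P : Subgroup G).Normal := by
      by_contra hnn
      obtain ⟨M, hM, hNM⟩ := Cfsg.Agent.Solv.exists_coatom_ge (H := Subgroup.normalizer (P : Set G)) fun e => hnn (Subgroup.normalizer_eq_top_iff.mp e)
      have hq := h M hM
      have hPM : (P : Subgroup G) ≤ M := Subgroup.le_normalizer.trans hNM
      have c1 := card_sylow_modEq_one p G
      rw [P.card_eq_index_normalizer, ← Subgroup.relIndex_mul_index hNM] at c1
      have c2 := card_sylow_modEq_one p M
      rw [(P.subtype hPM).card_eq_index_normalizer] at c2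
      have e : Subgroup.normalizer ((P.subtype hPM : Sylow p M) : Set M) = (Subgroup.normalizer (P : Set G)).subgroupOf M := by
        change Subgroup.normalizer (((P : Subgroup G).subgroupOf M : Subgroup M) : Set M) = (Subgroup.normalizer ((P : Subgroup G) : Set G)).subgroupOf M
        rw [Subgroup.subgroupOf_normalizer_eq hPM]
      rw [e] at c2
      have h1 : M.index ≡ 1 [MOD p] := by
        have := Nat.ModEq.mul_right M.index c2
        rw [one_mul] at this
        exact this.symm.trans c1
      have hqle : M.index ≤ p := Finset.le_max' _ _ (Nat.mem_primeFactors.mpr ⟨hq, Subgroup.index_dvd_card M, Nat.card_pos.ne'⟩)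
      rcases hqle.eq_or_lt with he | hlt
      · rw [he, Nat.ModEq, Nat.mod_self, Nat.one_mod_eq_one.mpr hp.1.one_lt.ne'] at h1
        exact absurd h1 (by omega)
      · rw [Nat.ModEq, Nat.mod_eq_of_lt hlt, Nat.mod_eq_of_lt hp.1.one_lt] at h1
        exact hq.one_lt.ne' h1
    haveI := hPn
    haveI : Group.IsSolvable (G ⧸ (P : Subgroup G)) := by
      refine ih _ ?_ fun M hM => ?_
      · have e := Subgroup.card_eq_card_quotient_mul_card_subgroup (P : Subgroup G)
        have h2 : 2 ≤ Nat.card (P : Subgroup G) := hp.1.two_le.trans (Nat.le_of_dvd Nat.card_pos (P.dvd_card_of_dvd_card hp.2))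
        have h3 : 0 < Nat.card (G ⧸ (P : Subgroup G)) := Nat.card_pos
        nlinarith
      · have hs := QuotientGroup.mk'_surjective (P : Subgroup G)
        rw [← Subgroup.index_comap_of_surjective M hs]
        exact h _ (Subgroup.isCoatom_comap_of_surjective hs hM)
    haveI : Group.IsSolvable ↥(P : Subgroup G) := haveI := P.isPGroup'.isNilpotent; inferInstance
    exact (Group.isSolvable_iff_subgroup_quotient (P : Subgroup G)).mpr ⟨inferInstance, inferInstance⟩

end Cfsg.Agent.S0580
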