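import Cfsg.Statements.S0582
import Cfsg.Agent.Lib.Solv.Supersolvable
import Cfsg.Agent.Lib.Solv.Coprime

set_option autoImplicit false
open Pointwise
open Cfsg

namespace Cfsg.Agent.S0582

/-- Let H and K be supersolvable subgroups of a finite group G of the same order, that order being coprime to their index. Then H and K are conjugate in G. -/
theorem result {G : Type*} [Group G] [Finite G] (H K : Subgroup G) (hH : Cfsg.IsSupersolvable H) (hK : Cfsg.IsSupersolvable K) (hcard : Nat.card H = Nat.card K) (hHall : (Nat.card H).Coprime H.index) : ∃ x : G, MulAut.conj x • H = K := by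
  suffices main : ∀ (n : ℕ) (G : Type u_1) [Group G] [Finite G], Nat.card G ≤ n → ∀ H K : Subgroup G,
      Cfsg.IsSupersolvable H → Cfsg.IsSupersolvable K → Nat.card H = Nat.card K →
      (Nat.card H).Coprime H.index → ∃ x : G, MulAut.conj x • H = K from
    main _ G le_rfl H K hH hK hcard hHall
  intro n
  induction n with
  | zero => intro G _ _ hn; exact absurd hn (not_le.mpr Nat.card_pos)
  | succ n ih =>
    intro G _ _ hn H K hH hK hcard hHall
    by_cases hH1 : Nat.card H = 1
    · exact ⟨1, by rw [map_one, one_smul, Subgroup.eq_bot_of_card_eq H hH1,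
        Subgroup.eq_bot_of_card_eq K (hcard ▸ hH1)]⟩
    haveI : Nontrivial H := Finite.one_lt_card_iff_nontrivial.mp
      (lt_of_le_of_ne Nat.card_pos (Ne.symm hH1))
    obtain ⟨p, hp, hpd, hmax⟩ := Solv.exists_max_prime (G := H)
    haveI := Fact.mk hp
    have key : ∀ L : Subgroup G, Cfsg.IsSupersolvable L → Nat.card L = Nat.card H →
        ∃ P : Sylow p G, (P : Subgroup G) ≤ L ∧ L ≤ Subgroup.normalizer ((P : Subgroup G) : Set G) := by
      intro L hL hc
      obtain ⟨PL⟩ : Nonempty (Sylow p L) := inferInstance
      have hn := Solv.sylow_normal_of_prime_index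
        (fun M hM => Solv.index_prime_of_isSupersolvable hL M hM) (hc.symm ▸ hmax) PL
      have hi : ¬ p ∣ L.index := fun h => by
        have hLi : L.index = H.index := by
          have := L.card_mul_index.trans H.card_mul_index.symm
          rw [hc] at this
          exact Nat.eq_of_mul_eq_mul_left Nat.card_pos this
        rw [hLi] at h
        exact hp.one_lt.ne' (Nat.eq_one_of_dvd_coprimes hHall hpd h)
      let P : Sylow p G := (PL.isPGroup'.map L.subtype).toSylow (by
        rw [Subgroup.index_map_subtype]
        exact hp.not_dvd_mul PL.not_dvd_index hi)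
      refine ⟨P, Subgroup.map_subtype_le _, ?_⟩
      show L ≤ Subgroup.normalizer (((PL : Subgroup L).map L.subtype : Subgroup G) : Set G)
      refine le_trans ?_ (Subgroup.le_normalizer_map L.subtype)
      rw [Subgroup.normalizer_eq_top_iff.mpr hn, ← MonoidHom.range_eq_map, Subgroup.range_subtype]
    obtain ⟨P, hPH, hHN⟩ := key H hH rfl
    obtain ⟨Q, hQK, hKN⟩ := key K hK hcard.symm
    obtain ⟨g, hg⟩ := MulAction.exists_smul_eq G Q P
    replace hg := congrArg (fun S : Sylow p G => (S : Subgroup G)) hg
    simp only [Sylow.coe_subgroup_smul] at hg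
    set K' := MulAut.conj g • K with hK'
    have hPK : (P : Subgroup G) ≤ K' := hg ▸ Subgroup.pointwise_smul_le_pointwise_smul_iff.mpr hQK
    set N := Subgroup.normalizer ((P : Subgroup G) : Set G) with hN
    have hKN' : K' ≤ N := by
      intro x hx
      rw [hK', Solv.mem_conj_smul] at hx
      have h1 := hKN hx
      rw [hN, ← hg, Subgroup.mem_normalizer_iff]
      intro z
      rw [Solv.mem_conj_smul, Solv.mem_conj_smul,
        show g⁻¹ * (x * z * x⁻¹) * g = g⁻¹ * x * g * (g⁻¹ * z * g) * (g⁻¹ * x * g)⁻¹ by group]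
      exact Subgroup.mem_normalizer_iff.mp h1 _
    set P' := (P : Subgroup G).subgroupOf N with hP'
    haveI : P'.Normal := Subgroup.normal_in_normalizer
    set f := QuotientGroup.mk' P' with hf
    have hP1 : P' ≠ ⊥ := by
      intro h
      rw [hP', Subgroup.subgroupOf_eq_bot, disjoint_iff, inf_of_le_left (hPH.trans hHN)] at h
      exact P.ne_bot_of_dvd_card (hpd.trans (Subgroup.card_subgroup_dvd_card H)) h
    set H₁ := H.subgroupOf N
    set K₁ := K'.subgroupOf N
    have hPH₁ : P' ≤ H₁ := Subgroup.subgroupOf_mono N hPH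
    have hPK₁ : P' ≤ K₁ := Subgroup.subgroupOf_mono N hPK
    have hc1 : Nat.card H₁ = Nat.card K₁ := by
      rw [Nat.card_congr (Subgroup.subgroupOfEquivOfLe hHN).toEquiv,
        Nat.card_congr (Subgroup.subgroupOfEquivOfLe hKN').toEquiv, hK', Solv.card_conj_smul, hcard]
    have hcm : ∀ L : Subgroup N, P' ≤ L → Nat.card P' * Nat.card (L.map f) = Nat.card L := by
      intro L hL
      rw [← Solv.card_comap_mk', Subgroup.comap_map_eq, QuotientGroup.ker_mk', sup_eq_left.mpr hL]
    have hd : H₁.index ∣ H.index :=
      ⟨N.index, (Subgroup.relIndex_mul_index hHN).symm⟩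
    have hss : Cfsg.IsSupersolvable K' :=
      Solv.isSupersolvable_of_surjective (Subgroup.equivSMul (MulAut.conj g) K).toMonoidHom
        (Subgroup.equivSMul (MulAut.conj g) K).surjective hK
    obtain ⟨x, hx⟩ := ih (↥N ⧸ P')
      (by
        have h1 := Solv.card_quotient_lt hP1
        have h2 := Subgroup.card_le_card_group N
        omega) (H₁.map f) (K₁.map f)
      (Solv.isSupersolvable_of_surjective ((f.subgroupMap H₁).comp
        (Subgroup.subgroupOfEquivOfLe hHN).symm.toMonoidHom)
        ((f.subgroupMap_surjective H₁).comp (Subgroup.subgroupOfEquivOfLe hHN).symm.surjective) hH)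
      (Solv.isSupersolvable_of_surjective ((f.subgroupMap K₁).comp
        (Subgroup.subgroupOfEquivOfLe hKN').symm.toMonoidHom)
        ((f.subgroupMap_surjective K₁).comp (Subgroup.subgroupOfEquivOfLe hKN').symm.surjective) hss)
      (Nat.eq_of_mul_eq_mul_left Nat.card_pos
        ((hcm _ hPH₁).trans (hc1.trans (hcm _ hPK₁).symm)))
      (by
        rw [Subgroup.index_map_eq H₁ (QuotientGroup.mk'_surjective P') (by rwa [QuotientGroup.ker_mk'])]
        refine (hHall.coprime_dvd_left ?_).coprime_dvd_right hd
        rw [← Nat.card_congr (Subgroup.subgroupOfEquivOfLe hHN).toEquiv]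
        exact Subgroup.card_map_dvd _ f)
    obtain ⟨y, rfl⟩ := QuotientGroup.mk'_surjective P' x
    refine ⟨g⁻¹ * (y : G), ?_⟩
    have h2 : MulAut.conj (y : G) • H = K' := by
      apply Subgroup.eq_of_le_of_card_ge
      · intro z hz
        rw [Solv.mem_conj_smul] at hz
        have hzN : z ∈ N := by
          have := N.mul_mem (N.mul_mem y.2 (hHN hz)) (N.inv_mem y.2)
          simpa [mul_assoc] using this
        have h3 : f ⟨z, hzN⟩ ∈ K₁.map f := by
          rw [← hx, Solv.mem_conj_smul]
          exact ⟨y⁻¹ * ⟨z, hzN⟩ * y, hz, by rw [map_mul, map_mul, map_inv]⟩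
        rw [← Subgroup.mem_comap, Subgroup.comap_map_eq, QuotientGroup.ker_mk',
          sup_eq_left.mpr hPK₁] at h3
        exact h3
      · rw [hK', Solv.card_conj_smul, Solv.card_conj_smul, hcard]
    rw [← Solv.conj_smul_conj_smul, h2, hK', Solv.conj_smul_conj_smul, inv_mul_cancel, map_one, one_smul]

end Cfsg.Agent.S0582
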