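import Cfsg.Statements.S0583
import Cfsg.Agent.Lib.Solv.Misc

set_option autoImplicit false
open scoped Pointwise
open Cfsg

namespace Cfsg.Agent.S0583

/-- In a finite group the Fitting subgroup is contained in the centralizer of each minimal normal subgroup. -/
theorem result {G : Type*} [Group G] [Finite G] (M : Subgroup G) [M.Normal] (hM : M ≠ ⊥) (hmin : ∀ K : Subgroup G, K.Normal → K ≤ M → K = ⊥ ∨ K = M) : Cfsg.fittingSubgroup G ≤ Subgroup.centralizer (M : Set G) := by
  set F := Cfsg.fittingSubgroup G with hF
  haveI hFn : F.Normal := hF ▸ Cfsg.Agent.Solv.fittingSubgroup_normal G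
  rw [← Subgroup.commutator_eq_bot_iff_le_centralizer, Subgroup.commutator_comm]
  rcases hmin (M ⊓ F) inferInstance inf_le_left with h | h
  · exact le_bot_iff.mp ((Subgroup.commutator_le_inf M F).trans h.le)
  · by_contra hne
    have hMF : M ≤ F := inf_eq_left.mp h
    have hlt := Cfsg.Agent.Solv.commutator_lt_of_nilpotent (hF ▸ Cfsg.Agent.Solv.fittingSubgroup_isNilpotent G) hMF Subgroup.le_normalizer_of_normal hM
    exact (hmin _ (Subgroup.commutator_normal M F) hlt.le).elim hne hlt.ne

end Cfsg.Agent.S0583
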