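import Cfsg.Statements.S0585
import Cfsg.Agent.Lib.Solv.Misc

set_option autoImplicit false
open scoped Pointwise
open Cfsg

namespace Cfsg.Agent.S0585

/-- If the Frattini subgroup of a finite group G is trivial, then every abelian normal subgroup of G has a complement in G. -/
theorem result {G : Type*} [Group G] [Finite G] (hΦ : frattini G = ⊥) (A : Subgroup G) [A.Normal] [IsMulCommutative A] : ∃ H : Subgroup G, Subgroup.IsComplement' A H := by
  obtain ⟨H, hH⟩ := (Set.toFinite {H : Subgroup G | A ⊔ H = ⊤}).exists_minimal ⟨⊤, by simp⟩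
  have hn : (A ⊓ H).Normal := by
    refine Subgroup.normalizer_eq_top_iff.mp (top_le_iff.mp ?_)
    rw [← show A ⊔ H = ⊤ from hH.1]
    refine sup_le ?_ (Cfsg.Agent.Solv.le_normalizer_inf Subgroup.le_normalizer_of_normal Subgroup.le_normalizer)
    exact fun a ha => Subgroup.centralizer_le_normalizer _ fun x hx =>
      congrArg Subtype.val (mul_comm' (⟨x, (hx : x ∈ A ⊓ H).1⟩ : A) ⟨a, ha⟩)
  haveI := hn
  refine ⟨H, Subgroup.isComplement'_of_disjoint_and_mul_eq_univ (disjoint_iff.mpr (by_contra fun hne => ?_)) ?_⟩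
  · obtain ⟨M, hM, hnle⟩ : ∃ M : Subgroup G, IsCoatom M ∧ ¬ A ⊓ H ≤ M := by
      by_contra hall
      push_neg at hall
      exact hne (le_bot_iff.mp (hΦ ▸ (le_iInf fun M => le_iInf fun hM => hall M hM : A ⊓ H ≤ frattini G)))
    have htop : (A ⊓ H) ⊔ M = ⊤ := hM.2 _ (lt_of_le_of_ne le_sup_right fun h => hnle (h ▸ le_sup_left))
    have h1 := Cfsg.Agent.Solv.dedekind_normal (A ⊓ H) M H inf_le_right
    rw [htop, inf_top_eq] at h1
    have h2 : A ⊔ H ⊓ M = ⊤ := by
      rw [← show A ⊔ H = ⊤ from hH.1]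
      refine le_antisymm (sup_le_sup_left inf_le_left A) (sup_le le_sup_left ?_)
      calc H = A ⊓ H ⊔ H ⊓ M := h1
        _ ≤ A ⊔ H ⊓ M := sup_le_sup_right inf_le_left _
    exact hnle (inf_le_right.trans ((hH.2 h2 inf_le_left).trans inf_le_right))
  · rw [← Subgroup.normal_mul, hH.1, Subgroup.coe_top]

end Cfsg.Agent.S0585
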