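import Cfsg.Statements.S0587
import Cfsg.Agent.Lib.Solv.StructMisc
import Cfsg.Agent.Lib.Solv.Thompson

set_option autoImplicit false
open scoped Pointwise
open Cfsg

namespace Cfsg.Agent.S0587

/-- Let G be a finite group whose largest normal p-subgroup L is nontrivial, and M a maximal subgroup of G with trivial normal core. Then L is elementary abelian, M is a complement to L, L is a minimal normal subgroup of G, the centralizer of L is L, and for every prime q such that the largest normal q-subgroup of M is nontrivial, the order of L is congruent to 1 modulo q and q ≠ p. -/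
theorem result {G : Type*} [Group G] [Finite G] (p : ℕ) [Fact p.Prime] (hL : Cfsg.pCore p G ≠ ⊥) (M : Subgroup G) (hM : IsCoatom M) (hcore : M.normalCore = ⊥) : Cfsg.IsElementaryAbelian p (Cfsg.pCore p G) ∧ Subgroup.IsComplement' (Cfsg.pCore p G) M ∧ (∀ K : Subgroup G, K.Normal → K ≤ Cfsg.pCore p G → K = ⊥ ∨ K = Cfsg.pCore p G) ∧ Subgroup.centralizer ((Cfsg.pCore p G : Subgroup G) : Set G) = Cfsg.pCore p G ∧ ∀ (q : ℕ) [Fact q.Prime], Cfsg.pCore q ↥M ≠ ⊥ → Nat.card (Cfsg.pCore p G) % q = 1 % q ∧ q ≠ p := by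
  have hp : p.Prime := Fact.out
  set L := Cfsg.pCore p G with hLdef
  have hLp : IsPGroup p L := Solv.isPGroup_pCore p G
  haveI : Nontrivial L := (Subgroup.nontrivial_iff_ne_bot L).mpr hL
  haveI := hLp.center_nontrivial
  set N := (Subgroup.center L).map L.subtype with hN
  have hNb : N ≠ ⊥ := by
    rw [hN, Ne, Subgroup.map_eq_bot_iff_of_injective _ L.subtype_injective]
    exact (Subgroup.nontrivial_iff_ne_bot _).mp inferInstance
  haveI : N.Normal := inferInstance
  haveI : IsMulCommutative N := ⟨⟨fun a b => by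
    obtain ⟨a', ha', ea⟩ := a.2
    obtain ⟨b', hb', eb⟩ := b.2
    apply Subtype.ext
    simp only [Subgroup.coe_mul, ← ea, ← eb, ← map_mul]
    rw [Subgroup.mem_center_iff.mp hb' a']⟩⟩
  obtain ⟨-, -, hcen⟩ := Solv.coatom_minimal_normal_complement M N hM hcore hNb
  have hLN : L ≤ N := by
    rw [← hcen]
    intro x hx n hn
    obtain ⟨n', hn', rfl⟩ := hn
    exact congrArg Subtype.val (Subgroup.mem_center_iff.mp hn' ⟨x, hx⟩).symm
  haveI : IsMulCommutative L := ⟨⟨fun a b => Subtype.ext (show (a : G) * b = b * a from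
    congrArg Subtype.val (mul_comm' (⟨(a : G), hLN a.2⟩ : N) ⟨(b : G), hLN b.2⟩))⟩⟩
  obtain ⟨htop, hbot, hcL⟩ := Solv.coatom_minimal_normal_complement M L hM hcore hL
  have hmin : ∀ K : Subgroup G, K.Normal → K ≤ L → K = ⊥ ∨ K = L := by
    intro K hK hKL
    haveI := hK
    refine or_iff_not_imp_left.mpr fun hKb => ?_
    haveI : IsMulCommutative K := ⟨⟨fun a b => Subtype.ext (show (a : G) * b = b * a from
      congrArg Subtype.val (mul_comm' (⟨(a : G), hKL a.2⟩ : L) ⟨(b : G), hKL b.2⟩))⟩⟩
    obtain ⟨ht, -, -⟩ := Solv.coatom_minimal_normal_complement M K hM hcore hKb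
    have h1 := Solv.dedekind_normal K M L hKL
    rw [ht, inf_top_eq, hbot, sup_bot_eq] at h1
    exact h1.symm
  have helem : Cfsg.IsElementaryAbelian p L := by
    refine ⟨inferInstance, fun x hx => ?_⟩
    obtain ⟨k, hk, hkc⟩ := hLp.nontrivial_iff_card.mp inferInstance
    obtain ⟨⟨w, hw⟩, hwo⟩ := exists_prime_orderOf_dvd_card' (G := L) p (hkc ▸ dvd_pow_self p (by omega))
    let φ : L →* L := MonoidHom.mk' (fun x => x ^ p) fun a b => (Commute.mul_pow (mul_comm' a b) p)
    haveI : φ.ker.Characteristic := Subgroup.characteristic_iff_map_le.mpr fun σ => by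
      rintro _ ⟨a, ha, rfl⟩
      show (σ a) ^ p = 1
      rw [← map_pow, show a ^ p = 1 from ha, map_one]
    have hK := hmin (φ.ker.map L.subtype) inferInstance (Subgroup.map_subtype_le _)
    rcases hK with h | h
    · exfalso
      rw [Subgroup.map_eq_bot_iff_of_injective _ L.subtype_injective] at h
      have h2 : (⟨w, hw⟩ : L) ∈ φ.ker := show (⟨w, hw⟩ : L) ^ p = 1 by rw [← hwo, pow_orderOf_eq_one]
      rw [h, Subgroup.mem_bot] at h2
      rw [h2, orderOf_one] at hwo
      exact hp.one_lt.ne hwo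
    · obtain ⟨y, hy, rfl⟩ := h.ge hx
      exact congrArg Subtype.val (show y ^ p = 1 from hy)
  refine ⟨helem, ?_, hmin, hcL, fun q hq hQ => ?_⟩
  · refine Subgroup.isComplement'_of_disjoint_and_mul_eq_univ (disjoint_iff.mpr hbot) ?_
    rw [← Subgroup.normal_mul, htop, Subgroup.coe_top]
  haveI := hq
  set Q := (Cfsg.pCore q M).map M.subtype with hQdef
  have hQM : Q ≤ M := Subgroup.map_subtype_le _
  have hQq : IsPGroup q Q := (Solv.isPGroup_pCore q M).map _
  have hMQ : M ≤ Subgroup.normalizer (Q : Set G) := by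
    refine le_trans (le_of_eq ?_) (Subgroup.le_normalizer_map M.subtype)
    rw [Subgroup.normalizer_eq_top_iff.mpr inferInstance, ← MonoidHom.range_eq_map, Subgroup.range_subtype]
  set F := L ⊓ Subgroup.centralizer (Q : Set G) with hF
  have hfix : F = ⊥ := by
    haveI : F.Normal := Subgroup.normalizer_eq_top_iff.mp (top_le_iff.mp (by
      rw [← htop]
      refine sup_le (le_trans ?_ (Subgroup.centralizer_le_normalizer _))
        (Solv.le_normalizer_inf Subgroup.le_normalizer_of_normal ?_)
      · exact fun x hx y hy => congrArg Subtype.val (mul_comm' (⟨y, hy.1⟩ : L) ⟨x, hx⟩)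
      · refine Solv.le_normalizer_of_conj_mem fun m hm c hc => ?_
        rw [Subgroup.mem_centralizer_iff]
        intro y hy
        have h1 : m⁻¹ * y * m ∈ Q := by
          simpa using (Subgroup.mem_normalizer_iff.mp (hMQ (M.inv_mem hm)) y).mp hy
        have h2 := Subgroup.mem_centralizer_iff.mp hc _ h1
        calc y * (m * c * m⁻¹) = m * (m⁻¹ * y * m * c) * m⁻¹ := by group
          _ = _ := by rw [h2]; group))
    rcases hmin F inferInstance inf_le_left with h | h
    · exact h
    · exfalso
      have h1 : Q ≤ L := by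
        rw [← hcL]
        exact Subgroup.le_centralizer_iff.mp (inf_eq_left.mp h)
      have h2 : Q = ⊥ := eq_bot_iff.mpr (hbot ▸ le_inf h1 hQM)
      rw [hQdef, Subgroup.map_eq_bot_iff_of_injective _ M.subtype_injective] at h2
      exact hQ h2
  have hQN : Q ≤ Subgroup.normalizer (L : Set G) := by
    rw [Subgroup.normalizer_eq_top_iff.mpr inferInstance]; exact le_top
  let φ : Q →* MulAut L := L.normalizerMonoidHom.comp (Subgroup.inclusion hQN)
  letI : MulAction Q L := MulAction.compHom L φ
  have hmod := hQq.card_modEq_card_fixedPoints L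
  haveI : Subsingleton (MulAction.fixedPoints Q L) := by
    refine ⟨fun a b => ?_⟩
    have h1 : ∀ c : MulAction.fixedPoints Q L, ((c : L) : G) = 1 := by
      rintro ⟨c, hc⟩
      have hcF : (c : G) ∈ F := by
        refine ⟨c.2, ?_⟩
        intro y hy
        have := congrArg Subtype.val (hc ⟨y, hy⟩)
        exact mul_inv_eq_iff_eq_mul.mp this
      rwa [hfix, Subgroup.mem_bot] at hcF
    exact Subtype.ext (Subtype.ext ((h1 a).trans (h1 b).symm))
  have h1fix : (1 : L) ∈ MulAction.fixedPoints Q L := fun a => map_one (φ a)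
  rw [Nat.card_of_subsingleton (⟨1, h1fix⟩ : MulAction.fixedPoints Q L)] at hmod
  refine ⟨hmod, ?_⟩
  rintro rfl
  obtain ⟨k, hk, hkc⟩ := hLp.nontrivial_iff_card.mp inferInstance
  rw [Nat.ModEq, hkc, Nat.mod_eq_of_lt hp.one_lt, Nat.mod_eq_zero_of_dvd (dvd_pow_self _ (by omega))] at hmod
  exact zero_ne_one hmod

end Cfsg.Agent.S0587
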