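import Cfsg.Statements.S0590
import Cfsg.Agent.Lib.Solv.Thompson

set_option autoImplicit false
open scoped Pointwise commutatorElement
open Cfsg

namespace Cfsg.Agent.S0590

/-- Quadratic action on an elementary abelian p-group forces the acting group modulo the kernel of the action to be elementary abelian. -/
theorem result {G : Type*} [Group G] [Finite G] {p : ℕ} [Fact p.Prime] (V H : Subgroup G) (hV : Cfsg.IsElementaryAbelian p V) (hHV : H ≤ Subgroup.normalizer (V : Set G)) (hq : ⁅⁅V, H⁆, H⁆ = ⊥) : ⁅H, H⁆ ≤ Subgroup.centralizer (V : Set G) ∧ ∀ a ∈ H, a ^ p ∈ Subgroup.centralizer (V : Set G) := by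
  refine ⟨Subgroup.commutator_eq_bot_iff_le_centralizer.mp
    (Subgroup.commutator_commutator_eq_bot_of_rotate ?_ hq), fun a ha => ?_⟩
  · rw [Subgroup.commutator_comm H V]; exact hq
  intro v hv
  have h1 : ⁅a, v⁆ ∈ ⁅V, H⁆ := Subgroup.commutator_comm V H ▸ Subgroup.commutator_mem_commutator ha hv
  have hc : Commute a ⁅a, v⁆ := Subgroup.mem_centralizer_iff.mp (Subgroup.commutator_eq_bot_iff_le_centralizer.mp hq h1) a ha
  have h2 := Cfsg.Agent.Solv.conj_pow_of_commute hc p
  rw [hV.2 _ (Subgroup.le_normalizer_iff_commutator_le_left.mp hHV h1), one_mul, mul_inv_eq_iff_eq_mul] at h2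
  exact h2.symm

end Cfsg.Agent.S0590
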