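import Cfsg.Statements.S0591
import Cfsg.Agent.Lib.Solv.Thompson

set_option autoImplicit false
open scoped Pointwise commutatorElement
open Cfsg

namespace Cfsg.Agent.S0591

/-- For a quadratically acting element a on an elementary abelian p-group V, the fixed points C_V(a) have order at least the square root of the order of V. -/
theorem result {G : Type*} [Group G] [Finite G] {p : ℕ} [Fact p.Prime] (V : Subgroup G) (hV : Cfsg.IsElementaryAbelian p V) (a : G) (ha : a ∈ Subgroup.normalizer (V : Set G)) (hq : ⁅⁅V, Subgroup.zpowers a⁆, Subgroup.zpowers a⁆ = ⊥) : Nat.card V ≤ Nat.card ↥(V ⊓ Subgroup.centralizer (Subgroup.zpowers a : Set G)) ^ 2 := by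
  set C := V ⊓ Subgroup.centralizer (Subgroup.zpowers a : Set G) with hC
  have hmem : ∀ v : V, ⁅a, (v : G)⁆ ∈ V := fun v => by
    rw [commutatorElement_def]
    exact V.mul_mem ((Subgroup.mem_normalizer_iff.mp ha _).mp v.2) (V.inv_mem v.2)
  let φ : V →* V := MonoidHom.mk' (fun v => ⟨⁅a, (v : G)⁆, hmem v⟩) (fun x y => by
    apply Subtype.ext
    change ⁅a, (x : G) * (y : G)⁆ = ⁅a, (x : G)⁆ * ⁅a, (y : G)⁆
    have hc := Cfsg.Agent.Solv.comm_of_elemAbelian hV (hmem y) x.2
    calc ⁅a, (x : G) * y⁆ = ⁅a, (x : G)⁆ * ((x : G) * ⁅a, (y : G)⁆) * (x : G)⁻¹ := by simp only [commutatorElement_def]; group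
      _ = ⁅a, (x : G)⁆ * ⁅a, (y : G)⁆ := by rw [← hc]; group)
  have hφ : ∀ v : V, (φ v : G) = ⁅a, (v : G)⁆ := fun _ => rfl
  have hker : φ.ker.map V.subtype ≤ C := by
    rintro _ ⟨v, hv, rfl⟩
    rw [SetLike.mem_coe, MonoidHom.mem_ker] at hv
    refine ⟨v.2, ?_⟩
    have h1 : a * (v : G) = (v : G) * a := by
      rw [← commutatorElement_eq_one_iff_mul_comm, ← hφ, hv, Subgroup.coe_one]
    rintro _ ⟨k, rfl⟩
    exact ((show Commute a (v : G) from h1).zpow_left k).eq
  have hran : φ.range.map V.subtype ≤ C := by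
    rintro _ ⟨_, ⟨v, rfl⟩, rfl⟩
    rw [Subgroup.coe_subtype, hφ]
    exact ⟨hmem v, Subgroup.commutator_eq_bot_iff_le_centralizer.mp hq
      (Subgroup.commutator_comm V (Subgroup.zpowers a) ▸ Subgroup.commutator_mem_commutator (Subgroup.mem_zpowers a) v.2)⟩
  have h1 := Subgroup.card_le_of_le hker
  have h2 := Subgroup.card_le_of_le hran
  rw [Cfsg.Agent.Solv.card_map_subtype] at h1 h2
  rw [pow_two, Subgroup.card_eq_card_quotient_mul_card_subgroup φ.ker,
    Nat.card_congr (QuotientGroup.quotientKerEquivRange φ).toEquiv]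
  exact Nat.mul_le_mul h2 h1

end Cfsg.Agent.S0591
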