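import Cfsg.Statements.S0594
import Cfsg.Agent.Lib.Solv.QuadraticApps

set_option autoImplicit false
open scoped Pointwise
open Cfsg

namespace Cfsg.Agent.S0594

/-- For odd p, two quadratic generators of a faithful group that is not a p-group, one of which acts nontrivially on a normal subgroup of order prime to p, force p = 3 and a section isomorphic to SL(2,3). -/
theorem result {G : Type*} [Group G] [Finite G] {p : ℕ} [Fact p.Prime] (hp : p ≠ 2) (V H : Subgroup G) (hV : Cfsg.IsElementaryAbelian p V) (hHV : H ≤ Subgroup.normalizer (V : Set G)) (hf : H ⊓ Subgroup.centralizer (V : Set G) = ⊥) (a b : G) (hab : H = Subgroup.closure {a, b}) (ha : ⁅⁅V, Subgroup.zpowers a⁆, Subgroup.zpowers a⁆ = ⊥) (hb : ⁅⁅V, Subgroup.zpowers b⁆, Subgroup.zpowers b⁆ = ⊥) (hnp : ¬ IsPGroup p H) (Q : Subgroup G) (hQH : Q ≤ H) (hQn : H ≤ Subgroup.normalizer (Q : Set G)) (hQ : (Nat.card Q).Coprime p) (hQa : ⁅Q, Subgroup.zpowers a⁆ ≠ ⊥) : p = 3 ∧ ∃ (K L : Subgroup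 G) (hL : (L.subgroupOf K).Normal), K ≤ H ∧ Nonempty ((K ⧸ L.subgroupOf K) ≃* Matrix.SpecialLinearGroup (Fin 2) (ZMod 3)) := by
  have haH : a ∈ H := hab ▸ Subgroup.subset_closure (by simp)
  set A := Subgroup.zpowers a with hA
  have hAn : A ≤ Subgroup.normalizer (Q : Set G) := (Subgroup.zpowers_le.mpr haH).trans hQn
  have hX : Q ⊔ A ≤ H := sup_le hQH (Subgroup.zpowers_le.mpr haH)
  have hQX : (Q.subgroupOf (Q ⊔ A)).Normal :=
    Subgroup.normal_subgroupOf_iff_le_normalizer le_sup_left |>.mpr (sup_le Subgroup.le_normalizer hAn)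
  have hXV := hX.trans hHV
  have hXf : (Q ⊔ A) ⊓ Subgroup.centralizer (V : Set G) = ⊥ :=
    le_bot_iff.mp ((inf_le_inf_right _ hX).trans hf.le)
  have hap : a ^ p = 1 := by
    haveI := hV.1
    letI : CommGroup V := { (inferInstance : Group V) with mul_comm := fun x y => mul_comm' x y }
    exact congrArg Subtype.val ((Agent.Solv.Quad.quadAct_of_commutator hHV haH ha).pow_prime
      (fun v => Subtype.ext (by simpa using hV.2 _ v.2)) (Agent.Solv.Quad.conjHom_injective hHV hf))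
  have hna : a ∉ (Cfsg.pCore p ↥(Q ⊔ A)).map (Q ⊔ A).subtype := by
    rintro ⟨y, hy, hya⟩
    apply hQa
    rw [Subgroup.commutator_eq_bot_iff_le_centralizer, Subgroup.le_centralizer_iff, Subgroup.zpowers_le,
      Subgroup.mem_centralizer_iff]
    intro q hq
    have hd : Disjoint (Q.subgroupOf (Q ⊔ A)) (Cfsg.pCore p ↥(Q ⊔ A)) := by
      rw [disjoint_iff]
      refine Subgroup.inf_eq_bot_of_coprime ?_
      obtain ⟨k, hk⟩ := IsPGroup.iff_card.mp (Agent.Solv.isPGroup_pCore p ↥(Q ⊔ A))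
      rw [Agent.Solv.card_subgroupOf le_sup_left, hk]
      exact hQ.pow_right k
    have h := congrArg Subtype.val (Subgroup.commute_of_normal_of_disjoint _ _ hQX inferInstance hd
      ⟨q, Subgroup.mem_sup_left hq⟩ y hq hy).eq
    rw [Subgroup.coe_mul, Subgroup.coe_mul] at h
    rw [← hya]
    exact h
  have hsol : Cfsg.IsPSolvable p ↥(Q ⊔ A) := by
    haveI := hQX
    refine Agent.Solv.isPSolvable_of_extension (Q.subgroupOf (Q ⊔ A))
      (Agent.Solv.isPSolvable_of_coprime (by rwa [Agent.Solv.card_subgroupOf le_sup_left]))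
      (Agent.Solv.isPSolvable_of_isPGroup fun x => ⟨1, ?_⟩)
    obtain ⟨⟨g, hg⟩, rfl⟩ := QuotientGroup.mk_surjective x
    have hg' : g ∈ (↑Q * ↑A : Set G) := by
      rw [← Subgroup.coe_mul_of_right_le_normalizer_left Q A hAn]; exact hg
    obtain ⟨q, hq, w, hw, rfl⟩ := hg'
    have e : (⟨q * w, hg⟩ : ↥(Q ⊔ A)) = ⟨q, Subgroup.mem_sup_left hq⟩ * ⟨w, Subgroup.mem_sup_right hw⟩ := rfl
    obtain ⟨k, rfl⟩ := hw
    rw [e, QuotientGroup.mk_mul,
      (QuotientGroup.eq_one_iff (⟨q, Subgroup.mem_sup_left hq⟩ : ↥(Q ⊔ A))).mpr hq, one_mul, pow_one,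
      ← QuotientGroup.mk_pow]
    rw [QuotientGroup.eq_one_iff]
    have e2 : (⟨a ^ k, Subgroup.mem_sup_right ⟨k, rfl⟩⟩ : ↥(Q ⊔ A)) ^ p = 1 := Subtype.ext (by
      change (a ^ k) ^ p = 1
      rw [← zpow_natCast, zpow_comm, zpow_natCast, hap, one_zpow])
    rw [e2]
    exact one_mem _
  have hi := Agent.Solv.Quad.invSL_of_subgroup_action hp hV hXV hXf
    (Subgroup.mem_sup_right (Subgroup.mem_zpowers a)) ha hna
  have h3 := hi.eq_three hp hsol
  subst h3
  obtain ⟨K, L, hL, hKle, hiso⟩ := hi.section_subgroup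
  exact ⟨rfl, K, L, hL, hKle.trans hX, hiso⟩

end Cfsg.Agent.S0594
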