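import Cfsg.Statements.S0597
import Cfsg.Agent.Lib.Solv.Subnormal

set_option autoImplicit false
open scoped Pointwise commutatorElement
open Cfsg

namespace Cfsg.Agent.S0597

/-- If two subnormal subgroups of a faithful group on an elementary abelian p-group satisfy [V, E₁, E₂] = 1, then their commutator lies in the largest normal p-subgroup. -/
theorem result {G : Type*} [Group G] [Finite G] {p : ℕ} [Fact p.Prime] (V H : Subgroup G) (hV : Cfsg.IsElementaryAbelian p V) (hHV : H ≤ Subgroup.normalizer (V : Set G)) (hf : H ⊓ Subgroup.centralizer (V : Set G) = ⊥) (E₁ E₂ : Subgroup G) (h₁ : E₁ ≤ H) (h₂ : E₂ ≤ H) (hs₁ : (E₁.subgroupOf H).IsSubnormal) (hs₂ : (E₂.subgroupOf H).IsSubnormal) (hc : ⁅⁅V, E₁⁆, E₂⁆ = ⊥) : ⁅E₁, E₂⁆ ≤ (Cfsg.pCore p H).map H.subtype := by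
  set W := ⁅V, E₁⁆ with hW
  set D := ⁅E₁, E₂⁆ with hD
  have hWV : W ≤ V := Subgroup.le_normalizer_iff_commutator_le_left.mp (h₁.trans hHV)
  have hDH : D ≤ H := (Subgroup.commutator_mono h₁ h₂).trans (Subgroup.commutator_le_self H)
  set E := Subgroup.normalizer (W : Set G) with hE
  have h1E : E₁ ≤ E := Subgroup.normalizer_commutator_ge_right V E₁
  have h2W : E₂ ≤ Subgroup.centralizer (W : Set G) :=
    Subgroup.le_centralizer_iff.mp (Subgroup.commutator_eq_bot_iff_le_centralizer.mp hc)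
  have hcW : ∀ e ∈ E, ∀ f ∈ Subgroup.centralizer (W : Set G), ⁅e, f⁆ ∈ Subgroup.centralizer (W : Set G) := by
    intro e he f hf w hw
    have hw' : e⁻¹ * w * e ∈ W := by simpa using (Subgroup.mem_normalizer_iff.mp (E.inv_mem he) w).mp hw
    have h5 : ∀ u ∈ W, f * u * f⁻¹ = u := fun u hu => by rw [← hf u hu, mul_assoc, mul_inv_cancel, mul_one]
    have hf' : f⁻¹ * w * f = w := by rw [mul_assoc, hf w hw, ← mul_assoc, inv_mul_cancel, one_mul]
    calc w * ⁅e, f⁆ = e * (e⁻¹ * w * e) * f * e⁻¹ * f⁻¹ := by rw [commutatorElement_def]; group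
      _ = e * (f * (e⁻¹ * w * e) * f⁻¹) * f * e⁻¹ * f⁻¹ := by rw [h5 _ hw']
      _ = e * f * e⁻¹ * (f⁻¹ * (f * w * f⁻¹)) := by group
      _ = e * f * e⁻¹ * (f⁻¹ * w) := by rw [h5 w hw]
      _ = ⁅e, f⁆ * w := by rw [commutatorElement_def]; group
  have hDW : D ≤ Subgroup.centralizer (W : Set G) :=
    Subgroup.commutator_le.mpr fun e he f hf => hcW e (h1E he) f (h2W hf)
  have hDV : ⁅V, D⁆ ≤ W := by
    refine Subgroup.commutator_le.mpr fun v hv d hd => ?_
    have key : D ≤ (Subgroup.centralizer (W : Set G) ⊓ H) ∧ ∀ d ∈ D, ∀ v ∈ V, ⁅v, d⁆ ∈ W := by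
      refine ⟨le_inf hDW hDH, ?_⟩
      have hN1 : H ≤ Subgroup.normalizer (V : Set G) := hHV
      intro d hd
      induction hd using Subgroup.closure_induction with
      | mem x hx =>
        obtain ⟨e, he, f, hf, rfl⟩ := hx
        intro v hv
        set u := f⁻¹ * v * f
        have hu : u ∈ V := by simpa using (Subgroup.mem_normalizer_iff.mp (hHV (H.inv_mem (h₂ hf))) v).mp hv
        have hu2 : e⁻¹ * (f⁻¹ * v * f) * e ∈ V := by simpa using (Subgroup.mem_normalizer_iff.mp (hHV (H.inv_mem (h₁ he))) u).mp hu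
        have hu3 : f * (e⁻¹ * u * e) * f⁻¹ ∈ V := (Subgroup.mem_normalizer_iff.mp (hHV (h₂ hf)) _).mp hu2
        have w1 : ⁅u, e⁻¹⁆ ∈ W := Subgroup.commutator_mem_commutator hu (E₁.inv_mem he)
        have w2 : ⁅f * (e⁻¹ * u * e) * f⁻¹, e⁆ ∈ W := Subgroup.commutator_mem_commutator hu3 he
        have h5 : f * ⁅u, e⁻¹⁆ * f⁻¹ = ⁅u, e⁻¹⁆ := by
          rw [← h2W hf _ w1, mul_assoc, mul_inv_cancel, mul_one]
        have : ⁅v, ⁅e, f⁆⁆ = (f * ⁅u, e⁻¹⁆ * f⁻¹) * ⁅f * (e⁻¹ * u * e) * f⁻¹, e⁆ := by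
          simp only [u, commutatorElement_def]; group
        rw [this, h5]
        exact W.mul_mem w1 w2
      | one => intro v hv; rw [commutatorElement_def]; simp
      | mul x y hx hy ihx ihy =>
        intro v hv
        have hxE : x ∈ Subgroup.centralizer (W : Set G) := hDW hx
        have h6 : x * ⁅v, y⁆ * x⁻¹ = ⁅v, y⁆ := by rw [← hxE _ (ihy v hv), mul_assoc, mul_inv_cancel, mul_one]
        have : ⁅v, x * y⁆ = ⁅v, x⁆ * (x * ⁅v, y⁆ * x⁻¹) := by simp only [commutatorElement_def]; group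
        rw [this, h6]
        exact W.mul_mem (ihx v hv) (ihy v hv)
      | inv x hx ihx =>
        intro v hv
        have hxE : x⁻¹ ∈ Subgroup.centralizer (W : Set G) := (Subgroup.centralizer (W : Set G)).inv_mem (hDW hx)
        have h6 : x⁻¹ * ⁅v, x⁆⁻¹ * x = ⁅v, x⁆⁻¹ := by
          have := hxE _ (W.inv_mem (ihx v hv))
          rw [← this, mul_assoc, inv_mul_cancel, mul_one]
        have : ⁅v, x⁻¹⁆ = x⁻¹ * ⁅v, x⁆⁻¹ * x := by simp only [commutatorElement_def]; group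
        rw [this, h6]
        exact W.inv_mem (ihx v hv)
    exact key.2 d hd v hv
  have hDp : IsPGroup p D := fun d => by
    refine ⟨1, Subtype.ext ?_⟩
    rw [pow_one, Subgroup.coe_pow, Subgroup.coe_one, ← Subgroup.mem_bot, ← hf]
    refine ⟨pow_mem (hDH d.2) p, fun v hv => ?_⟩
    have h1 : ⁅(d : G), v⁆ ∈ W := by
      rw [← commutatorElement_inv]; exact W.inv_mem (hDV (Subgroup.commutator_mem_commutator hv d.2))
    have hc' : Commute (d : G) ⁅(d : G), v⁆ := (hDW d.2 _ h1).symm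
    have h2 := Cfsg.Agent.Solv.conj_pow_of_commute hc' p
    rw [hV.2 _ (hWV h1), one_mul, mul_inv_eq_iff_eq_mul] at h2
    exact h2.symm
  have hsn : (D.subgroupOf H).IsSubnormal := by
    refine Subgroup.IsSubnormal.step _ ((E₁ ⊔ E₂).subgroupOf H) ?_ (Cfsg.Agent.Solv.subnormal_subgroupOf_sup h₁ h₂ hs₁ hs₂) ?_
    · exact Subgroup.comap_mono (Subgroup.commutator_le_sup E₁ E₂)
    · refine (Subgroup.normal_subgroupOf_iff_le_normalizer (Subgroup.comap_mono (Subgroup.commutator_le_sup E₁ E₂))).mpr ?_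
      refine (Subgroup.comap_mono ?_).trans (Subgroup.le_normalizer_comap H.subtype)
      exact sup_le (Subgroup.normalizer_commutator_ge_left E₁ E₂) (Subgroup.normalizer_commutator_ge_right E₁ E₂)
  intro x hx
  exact ⟨⟨x, hDH hx⟩, Cfsg.Agent.Solv.le_pCore_of_isSubnormal hsn (hDp.comap_subtype) hx, rfl⟩

end Cfsg.Agent.S0597
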