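import Cfsg.Statements.S0599
import Cfsg.Agent.Lib.Solv.TimmesfeldReplacement
import Cfsg.Agent.Lib.Solv.Thompson

set_option autoImplicit false
open scoped Pointwise
open scoped commutatorElement
open Cfsg

namespace Cfsg.Agent.S0599

/-- The Timmesfeld replacement Theorem: replacing a best offender A by C_A([U, A]) gives a best offender with fixed points [U, A]C_V(A), still nontrivial on V if A was. -/
theorem result {G : Type*} [Group G] [Finite G] {p : ℕ} [Fact p.Prime] (V A : Subgroup G) (hV : Cfsg.IsElementaryAbelian p V) (hAV : A ≤ Subgroup.normalizer (V : Set G)) (hA : Cfsg.IsBestOffenderOn p V A) (U : Subgroup G) (hU : U ≤ V) : Cfsg.IsBestOffenderOn p V (A ⊓ Subgroup.centralizer ((⁅U, A⁆ : Subgroup G) : Set G)) ∧ V ⊓ Subgroup.centralizer ((A ⊓ Subgroup.centralizer ((⁅U, A⁆ : Subgroup G) : Set G) : Subgroup G) : Set G) = ⁅U, A⁆ ⊔ (V ⊓ Subgroup.centralizer (A : Set G)) ∧ (⁅V, A⁆ ≠ ⊥ → ⁅V, A ⊓ Subgroup.centralizer ((⁅U, A⁆ : Subgroup G)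 : Set G)⁆ ≠ ⊥) := by
  rcases Solv.Timm.replacement (fun x hx y hy => Solv.comm_of_elemAbelian hV hx hy) hAV hA.2.1 hU with
    ⟨B, hBA, h⟩ | ⟨h1, h2⟩
  · exact absurd h (not_lt.mpr (hA.1 B hBA))
  refine ⟨⟨fun B hB => (hA.1 B (hB.trans inf_le_left)).trans h1.le,
    (Subgroup.commutator_mono inf_le_left inf_le_left).trans hA.2.1, fun a ha => hA.2.2 a ha.1⟩, h2, ?_⟩
  intro hne hbot
  change V ⊓ Subgroup.centralizer (Solv.Timm.star A U : Set G) = _ at h2
  rw [inf_eq_left.mpr (Subgroup.commutator_eq_bot_iff_le_centralizer.mp hbot :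
    V ≤ Subgroup.centralizer (Solv.Timm.star A U : Set G))] at h2
  set W := ⁅V, A⁆ with hW
  have hWV : W ≤ V := Subgroup.le_normalizer_iff_commutator_le_left.mp hAV
  have hWA : W ≤ ⁅W, A⁆ := by
    have hUW : ⁅U, A⁆ ≤ W := Subgroup.commutator_mono hU le_rfl
    rw [hW, Subgroup.commutator_le]
    intro v hv a ha
    rw [h2] at hv
    have hn : V ⊓ Subgroup.centralizer (A : Set G) ≤ Subgroup.normalizer ((⁅U, A⁆ : Subgroup G) : Set G) :=
      Solv.le_normalizer_of_conj_mem fun c hc x hx => by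
        rw [Solv.Timm.commute_of_le_centralizer_self
          (fun x hx y hy => Solv.comm_of_elemAbelian hV hx hy) hc.1 (hWV (hUW hx))]
        exact hx
    rw [← SetLike.mem_coe, Subgroup.coe_mul_of_right_le_normalizer_left _ _ hn] at hv
    obtain ⟨x, hx, c, hc, rfl⟩ := hv
    have e : ⁅x * c, a⁆ = ⁅x, a⁆ := by
      have h0 : c * a = a * c := (hc.2 a ha).symm
      calc ⁅x * c, a⁆ = x * (c * a) * c⁻¹ * x⁻¹ * a⁻¹ := by
            simp only [commutatorElement_def]; group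
        _ = ⁅x, a⁆ := by rw [h0]; simp only [commutatorElement_def]; group
    rw [e]
    exact Subgroup.commutator_mem_commutator (hUW hx) ha
  obtain ⟨PA⟩ : Nonempty (Sylow p A) := inferInstance
  set P := (PA : Subgroup A).map A.subtype with hP
  have hVP : IsPGroup p ↥(V ⊔ P) := by
    have hVp : IsPGroup p V := fun x => ⟨1, by rw [pow_one]; exact Subtype.ext (hV.2 x x.2)⟩
    exact hVp.to_sup_of_normal_left' (PA.isPGroup'.map _) ((Subgroup.map_subtype_le _).trans hAV)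
  have hAP : ∀ Y : Subgroup G, Y ≤ V → ⁅Y, A⁆ ≤ ⁅Y, P⁆ := by
    intro Y hY
    rw [Subgroup.commutator_le]
    intro y hy a ha
    set K := (Subgroup.centralizer (V : Set G)).subgroupOf A
    haveI : K.Normal := ⟨fun k hk b => by
      intro v hv
      have h1 : (b : G)⁻¹ * v * (b : G) ∈ V := by
        simpa using (Subgroup.mem_normalizer_iff.mp (hAV (A.inv_mem b.2)) v).mp hv
      have h2 : (b : G)⁻¹ * v * (b : G) * (k : G) = (k : G) * ((b : G)⁻¹ * v * (b : G)) :=
        Subgroup.mem_centralizer_iff.mp hk _ h1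
      show v * ((b : G) * k * (b : G)⁻¹) = (b : G) * k * (b : G)⁻¹ * v
      calc v * ((b : G) * k * (b : G)⁻¹) = (b : G) * ((b : G)⁻¹ * v * (b : G) * k) * (b : G)⁻¹ := by group
        _ = _ := by rw [h2]; group⟩
    have hq : IsPGroup p (A ⧸ K) := fun z => by
      obtain ⟨b, rfl⟩ := QuotientGroup.mk_surjective z
      refine ⟨1, ?_⟩
      rw [pow_one, ← QuotientGroup.mk_pow, QuotientGroup.eq_one_iff]
      exact hA.2.2 b b.2
    have htop : ((PA.mapSurjective (QuotientGroup.mk'_surjective K) : Sylow p (A ⧸ K)) :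
        Subgroup (A ⧸ K)) = ⊤ :=
      ((PA.mapSurjective (QuotientGroup.mk'_surjective K)).is_maximal' (hq.to_subgroup ⊤) le_top).symm
    obtain ⟨z, hz, hzx⟩ := htop.ge (Subgroup.mem_top (QuotientGroup.mk' K ⟨a, ha⟩))
    have hk : z⁻¹ * ⟨a, ha⟩ ∈ K := QuotientGroup.eq.mp hzx
    have h0 : y * ((z : G)⁻¹ * a) = (z : G)⁻¹ * a * y :=
      Subgroup.mem_centralizer_iff.mp hk y (hY hy)
    have e : ⁅y, a⁆ = ⁅y, (z : G)⁆ := by
      calc ⁅y, a⁆ = y * z * ((z : G)⁻¹ * a) * y⁻¹ * ((z : G)⁻¹ * a)⁻¹ * (z : G)⁻¹ := by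
            simp only [commutatorElement_def]; group
        _ = y * z * (y⁻¹ * (y * ((z : G)⁻¹ * a))) * y⁻¹ * ((z : G)⁻¹ * a)⁻¹ * (z : G)⁻¹ := by group
        _ = ⁅y, (z : G)⁆ := by rw [h0]; simp only [commutatorElement_def]; group
    rw [e]
    exact Subgroup.commutator_mem_commutator hy ⟨z, hz, rfl⟩
  have hWn : V ⊔ P ≤ Subgroup.normalizer (W : Set G) :=
    sup_le (Subgroup.normalizer_commutator_ge_left V A)
      ((Subgroup.map_subtype_le _).trans (Subgroup.normalizer_commutator_ge_right V A))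
  have hlt := Solv.commutator_lt_of_nilpotent hVP.isNilpotent (hWV.trans le_sup_left) hWn hne
  exact hlt.not_ge (hWA.trans ((hAP W hWV).trans (Subgroup.commutator_mono le_rfl le_sup_right)))

end Cfsg.Agent.S0599
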