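import Cfsg.Statements.S0600
import Cfsg.Agent.Lib.Solv.Thompson

set_option autoImplicit false
open scoped Pointwise
open Cfsg

namespace Cfsg.Agent.S0600

/-- A normal elementary abelian p-subgroup generated by the fixed points of the Sylow p-subgroups admits no nontrivial normal p-subgroup of G modulo its centralizer. -/
theorem result {G : Type*} [Group G] [Finite G] {p : ℕ} [Fact p.Prime] (V : Subgroup G) [V.Normal] (hV : Cfsg.IsElementaryAbelian p V) (hgen : V = ⨆ S : Sylow p G, V ⊓ Subgroup.centralizer ((S : Subgroup G) : Set G)) : Cfsg.pCore p (G ⧸ Subgroup.centralizer (V : Set G)) = ⊥ := by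
  set C := Subgroup.centralizer (V : Set G) with hC
  haveI : C.Normal := hC ▸ inferInstance
  set D := (Cfsg.pCore p (G ⧸ C)).comap (QuotientGroup.mk' C) with hD
  suffices h : D ≤ C by
    rw [eq_bot_iff]
    intro x hx
    obtain ⟨g, rfl⟩ := QuotientGroup.mk'_surjective C x
    exact (QuotientGroup.eq_one_iff g).mpr (h hx)
  rw [hC, Subgroup.le_centralizer_iff, hgen]
  refine iSup_le fun S => ?_
  rw [Subgroup.le_centralizer_iff]
  have h1 : D ≤ (S : Subgroup G) ⊔ C := by
    have h2 := Cfsg.Agent.Solv.pCore_le_sylow (S.mapSurjective (QuotientGroup.mk'_surjective C))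
    rw [Sylow.coe_mapSurjective] at h2
    have h3 := Subgroup.comap_mono (f := QuotientGroup.mk' C) h2
    rwa [Subgroup.comap_map_eq, QuotientGroup.ker_mk'] at h3
  refine h1.trans (sup_le ?_ ?_)
  · exact Subgroup.le_centralizer_iff.mp inf_le_right
  · exact Subgroup.centralizer_le inf_le_left

end Cfsg.Agent.S0600
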