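import Cfsg.Statements.S0601
import Cfsg.Agent.Lib.Solv.Thompson
import Cfsg.Agent.Lib.Solv.PSolvable

set_option autoImplicit false
open scoped Pointwise
open Cfsg

namespace Cfsg.Agent.S0601

/-- When O_p(G) contains its centralizer, the normal closure of Ω₁(Z(S)) is elementary abelian and G has no nontrivial normal p-subgroup modulo its centralizer. -/
theorem result {G : Type*} [Group G] [Finite G] {p : ℕ} [Fact p.Prime] (hc : Subgroup.centralizer (Cfsg.pCore p G : Set G) ≤ Cfsg.pCore p G) : (⨆ S : Sylow p G, Cfsg.omegaOne p (((S : Subgroup G)) ⊓ Subgroup.centralizer ((S : Subgroup G) : Set G))).Normal ∧ Cfsg.IsElementaryAbelian p (⨆ S : Sylow p G, Cfsg.omegaOne p (((S : Subgroup G)) ⊓ Subgroup.centralizer ((S : Subgroup G) : Set G))) ∧ ∀ D : Subgroup G, D.Normal → Subgroup.centralizer ((⨆ S : Sylow p G, Cfsg.omegaOne p (((S : Subgroup G)) ⊓ Subgroup.centralizer ((S : Subgroup G) : Set G)) : Subgroup G) : Set G) ≤ D → (∃ k : ℕ, (Subgroup.centralizer ((⨆ S : Sylow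 p G, Cfsg.omegaOne p (((S : Subgroup G)) ⊓ Subgroup.centralizer ((S : Subgroup G) : Set G)) : Subgroup G) : Set G)).relIndex D = p ^ k) → D = Subgroup.centralizer ((⨆ S : Sylow p G, Cfsg.omegaOne p (((S : Subgroup G)) ⊓ Subgroup.centralizer ((S : Subgroup G) : Set G)) : Subgroup G) : Set G) := by
  set W : Sylow p G → Subgroup G := fun S => Cfsg.omegaOne p (((S : Subgroup G)) ⊓ Subgroup.centralizer ((S : Subgroup G) : Set G)) with hW
  set V := ⨆ S : Sylow p G, W S with hV
  change V.Normal ∧ Cfsg.IsElementaryAbelian p V ∧ ∀ D : Subgroup G, D.Normal → Subgroup.centralizer (V : Set G) ≤ D → (∃ k : ℕ, (Subgroup.centralizer (V : Set G)).relIndex D = p ^ k) → D = Subgroup.centralizer (V : Set G)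
  have hWZ : ∀ S, W S ≤ (S : Subgroup G) ⊓ Subgroup.centralizer ((S : Subgroup G) : Set G) := fun S =>
    (Subgroup.closure_le _).mpr fun x hx => hx.1
  have hn : V.Normal := by
    refine ⟨fun n hn g => ?_⟩
    have h1 : V ≤ V.comap (MulAut.conj g).toMonoidHom := by
      refine iSup_le fun S => ?_
      refine (Subgroup.closure_le _).mpr ?_
      rintro x ⟨⟨hxS, hxc⟩, hxp⟩
      refine Subgroup.mem_iSup_of_mem (g • S) (Subgroup.subset_closure ⟨⟨?_, ?_⟩, ?_⟩)
      · rw [Sylow.coe_subgroup_smul]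
        exact ⟨x, hxS, rfl⟩
      · intro y hy
        rw [Sylow.coe_subgroup_smul, SetLike.mem_coe, Cfsg.Agent.Solv.mem_conj_smul] at hy
        have h2 := hxc _ hy
        simp only [MulEquiv.coe_toMonoidHom, MulAut.conj_apply]
        calc y * (g * x * g⁻¹) = g * (g⁻¹ * y * g * x) * g⁻¹ := by group
          _ = g * x * g⁻¹ * y := by rw [h2]; group
      · simp only [MulEquiv.coe_toMonoidHom, MulAut.conj_apply]
        rw [conj_pow, hxp, mul_one, mul_inv_cancel]
    exact h1 hn
  have hall : ∀ S T : Sylow p G, ∀ x ∈ W S, ∀ y ∈ W T, x * y = y * x := by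
    intro S T x hx y hy
    have hy1 : y ∈ Cfsg.pCore p G := hc (Subgroup.centralizer_le (Cfsg.Agent.Solv.pCore_le_sylow T) (hWZ T hy).2)
    exact ((hWZ S hx).2 y (Cfsg.Agent.Solv.pCore_le_sylow S hy1)).symm
  have hVeq : V = Subgroup.closure (⋃ S : Sylow p G, {x : G | x ∈ (S : Subgroup G) ⊓ Subgroup.centralizer ((S : Subgroup G) : Set G) ∧ x ^ p = 1}) := by
    rw [hV, Subgroup.closure_iUnion]
    rfl
  have hV' : Cfsg.IsElementaryAbelian p V := by
    have hcomm : ∀ x ∈ (⋃ S : Sylow p G, {x : G | x ∈ (S : Subgroup G) ⊓ Subgroup.centralizer ((S : Subgroup G) : Set G) ∧ x ^ p = 1}), ∀ y ∈ (⋃ S : Sylow p G, {x : G | x ∈ (S : Subgroup G) ⊓ Subgroup.centralizer ((S : Subgroup G) : Set G) ∧ x ^ p = 1}), x * y = y * x := by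
      intro x hx y hy
      obtain ⟨S, hS⟩ := Set.mem_iUnion.mp hx
      obtain ⟨T, hT⟩ := Set.mem_iUnion.mp hy
      exact hall S T x (Subgroup.subset_closure hS) y (Subgroup.subset_closure hT)
    haveI hab := Subgroup.isMulCommutative_closure hcomm
    rw [hVeq]
    refine ⟨hab, fun a ha => ?_⟩
    induction ha using Subgroup.closure_induction with
    | mem x hx => obtain ⟨S, hS⟩ := Set.mem_iUnion.mp hx; exact hS.2
    | one => exact one_pow p
    | mul x y hx hy ihx ihy =>
      have hxy : Commute x y := congrArg Subtype.val (hab.is_comm.comm ⟨x, hx⟩ ⟨y, hy⟩)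
      rw [hxy.mul_pow, ihx, ihy, one_mul]
    | inv x _ ih => rw [inv_pow, ih, inv_one]
  refine ⟨hn, hV', fun D hD hCD hk => le_antisymm ?_ hCD⟩
  obtain ⟨k, hk⟩ := hk
  rw [Subgroup.le_centralizer_iff]
  refine iSup_le fun S => ?_
  rw [Subgroup.le_centralizer_iff]
  set C := Subgroup.centralizer (V : Set G) with hC
  haveI : C.Normal := hC ▸ inferInstance
  haveI := hD
  haveI : (D.map (QuotientGroup.mk' C)).Normal := hD.map _ (QuotientGroup.mk'_surjective C)
  have hp : IsPGroup p ↥(D.map (QuotientGroup.mk' C)) := by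
    refine IsPGroup.of_card (n := k) ?_
    rw [← Cfsg.Agent.Solv.relIndex_comap_mk' C, Subgroup.comap_map_eq, QuotientGroup.ker_mk', sup_eq_left.mpr hCD, hk]
  have h1 : D ≤ (S : Subgroup G) ⊔ C := by
    have h2 := (Cfsg.Agent.Solv.le_pCore hp).trans (Cfsg.Agent.Solv.pCore_le_sylow (S.mapSurjective (QuotientGroup.mk'_surjective C)))
    rw [Sylow.coe_mapSurjective] at h2
    have h3 := Subgroup.comap_mono (f := QuotientGroup.mk' C) h2
    rw [Subgroup.comap_map_eq, Subgroup.comap_map_eq, QuotientGroup.ker_mk'] at h3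
    exact le_sup_left.trans h3
  exact h1.trans (sup_le (Subgroup.le_centralizer_iff.mp ((hWZ S).trans inf_le_right)) (Subgroup.centralizer_le (le_iSup W S)))

end Cfsg.Agent.S0601
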