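import Cfsg.Statements.S0604
import Cfsg.Agent.Lib.Solv.Thompson

set_option autoImplicit false
open scoped Pointwise
open Cfsg

namespace Cfsg.Agent.S0604

/-- The Thompson subgroup of G is the join of the Thompson subgroups of its Sylow p-subgroups. -/
theorem result {G : Type*} [Group G] [Finite G] {p : ℕ} [Fact p.Prime] : Cfsg.thompsonSubgroup p G = ⨆ S : Sylow p G, Cfsg.thompsonSubgroupOf p (S : Subgroup G) := by
  obtain ⟨A, hA⟩ := Cfsg.Agent.Solv.exists_maxElemAbelian (G := G) p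
  obtain ⟨S0, hS0⟩ := (Cfsg.Agent.Solv.isPGroup_of_elemAbelian hA.1).exists_le_sylow
  refine le_antisymm (sSup_le fun B hB => ?_) (iSup_le fun S => ?_)
  · obtain ⟨S, hS⟩ := (Cfsg.Agent.Solv.isPGroup_of_elemAbelian hB.1).exists_le_sylow
    exact le_iSup_of_le S (Cfsg.Agent.Solv.le_thompsonOf hB hS)
  · obtain ⟨g, hg⟩ := MulAction.exists_smul_eq G S0 S
    refine Cfsg.Agent.Solv.thompsonOf_le (A := A.map (MulAut.conj g).toMonoidHom)
      (Cfsg.Agent.Solv.map_mem_maxElemAbelian (MulAut.conj g) hA) ?_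
    rw [← hg, Sylow.coe_subgroup_smul]
    exact Subgroup.map_mono hS0

end Cfsg.Agent.S0604
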