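import Cfsg.Statements.S0606
import Cfsg.Agent.Lib.Solv.Thompson

set_option autoImplicit false
open scoped Pointwise commutatorElement
open Cfsg

namespace Cfsg.Agent.S0606

/-- Elementary abelian p-subgroups of maximal order are best offenders on any normal elementary abelian p-subgroup. -/
theorem result {G : Type*} [Group G] [Finite G] {p : ℕ} [Fact p.Prime] (V : Subgroup G) [V.Normal] (hV : Cfsg.IsElementaryAbelian p V) (A : Subgroup G) (hA : A ∈ Cfsg.maxElementaryAbelianSubgroups p G) : Cfsg.IsBestOffenderOn p V A := by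
  refine ⟨fun B hB => ?_, ?_, fun a ha => by rw [hA.1.2 a ha]; exact one_mem _⟩
  · set W := V ⊓ Subgroup.centralizer (B : Set G) with hW
    have hBc : B ≤ Subgroup.centralizer (W : Set G) := Subgroup.le_centralizer_iff.mp inf_le_right
    have hsup := Cfsg.Agent.Solv.elemAbelian_sup (Cfsg.Agent.Solv.elemAbelian_of_le hA.1 hB)
      (Cfsg.Agent.Solv.elemAbelian_of_le hV inf_le_left) hBc
    have hcard := Cfsg.Agent.Solv.card_sup_mul_card_inf B W
      (hW ▸ inf_le_right.trans (Subgroup.centralizer_le_normalizer _))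
    calc Nat.card B * Nat.card W = Nat.card ↥(B ⊔ W : Subgroup G) * Nat.card ↥(B ⊓ W : Subgroup G) := hcard.symm
      _ ≤ Nat.card A * Nat.card ↥(V ⊓ Subgroup.centralizer (A : Set G)) := by
        refine Nat.mul_le_mul (hA.2 _ hsup) (Nat.le_of_dvd Nat.card_pos (Subgroup.card_dvd_of_le ?_))
        rintro x ⟨h1, h2, -⟩
        exact ⟨h2, fun a ha => Cfsg.Agent.Solv.comm_of_elemAbelian hA.1 ha (hB h1)⟩
  · exact Subgroup.commutator_le.mpr fun a ha b hb => by
      rw [commutatorElement_eq_one_iff_mul_comm.mpr (Cfsg.Agent.Solv.comm_of_elemAbelian hA.1 ha hb)]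
      exact one_mem _

end Cfsg.Agent.S0606
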