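import Cfsg.Statements.S0607
import Cfsg.Agent.S0599
import Cfsg.Agent.S0606

set_option autoImplicit false
open scoped Pointwise
open scoped commutatorElement
open Cfsg

namespace Cfsg.Agent.S0607

/-- The replacement Theorem for the Thompson subgroup: from A of maximal order among elementary abelian p-subgroups one obtains A₀ = [V, A] C_A([V, A]) of the same kind, quadratic on V and nontrivial on V when A is. -/
theorem result {G : Type*} [Group G] [Finite G] {p : ℕ} [Fact p.Prime] (V : Subgroup G) [V.Normal] (hV : Cfsg.IsElementaryAbelian p V) (A : Subgroup G) (hA : A ∈ Cfsg.maxElementaryAbelianSubgroups p G) : (⁅V, A⁆ ⊔ (A ⊓ Subgroup.centralizer ((⁅V, A⁆ : Subgroup G) : Set G))) ∈ Cfsg.maxElementaryAbelianSubgroups p G ∧ ⁅⁅V, ⁅V, A⁆ ⊔ (A ⊓ Subgroup.centralizer ((⁅V, A⁆ : Subgroup G) : Set G))⁆, ⁅V, A⁆ ⊔ (A ⊓ Subgroup.centralizer ((⁅V, A⁆ : Subgroup G) : Set G))⁆ = ⊥ ∧ (⁅V, A⁆ ≠ ⊥ → ⁅V, ⁅V, A⁆ ⊔ (A ⊓ Subgroup.centralizer ((⁅V, A⁆ : Subgroup G) : Set G))⁆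 ≠ ⊥) := by
  have hAV : A ≤ Subgroup.normalizer (V : Set G) := by
    rw [Subgroup.normalizer_eq_top_iff.mpr inferInstance]; exact le_top
  obtain ⟨-, h2, h3⟩ := S0599.result V A hV hAV (S0606.result V hV A hA) V le_rfl
  have hm : Solv.Timm.meas V A = Solv.Timm.meas V (Solv.Timm.star A V) := by
    rcases Solv.Timm.replacement (fun x hx y hy => Solv.comm_of_elemAbelian hV hx hy) hAV
      (S0606.result V hV A hA).2.1 (le_refl V) with ⟨B, hBA, h⟩ | ⟨h1, -⟩
    · exact absurd h (not_lt.mpr ((S0606.result V hV A hA).1 B hBA))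
    · exact h1
  set W := ⁅V, A⁆ with hW
  set B := A ⊓ Subgroup.centralizer (W : Set G) with hB
  set C := V ⊓ Subgroup.centralizer (A : Set G) with hC
  have hWV : W ≤ V := Subgroup.le_normalizer_iff_commutator_le_left.mp hAV
  have hBW : B ≤ Subgroup.centralizer (W : Set G) := inf_le_right
  have he : IsElementaryAbelian p (W ⊔ B : Subgroup G) :=
    Solv.elemAbelian_sup (Solv.elemAbelian_of_le hV hWV) (Solv.elemAbelian_of_le hA.1 inf_le_left)
      (Subgroup.le_centralizer_iff.mp hBW)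
  have hCA : C ≤ A := by
    have h1 : IsElementaryAbelian p (A ⊔ C : Subgroup G) :=
      Solv.elemAbelian_sup hA.1 (Solv.elemAbelian_of_le hV inf_le_left)
        (Subgroup.le_centralizer_iff.mp inf_le_right)
    exact le_sup_right.trans (Subgroup.eq_of_le_of_card_ge (le_sup_left : A ≤ A ⊔ C) (hA.2 _ h1)).ge
  have hinf : W ⊓ B = W ⊓ C := by
    refine le_antisymm (le_inf inf_le_left (le_inf (inf_le_left.trans hWV) ?_))
      (le_inf inf_le_left (le_inf (inf_le_right.trans hCA) ?_))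
    · exact fun x hx a ha => Solv.comm_of_elemAbelian hA.1 ha hx.2.1
    · exact fun x hx w hw => Solv.comm_of_elemAbelian hV (hWV hw) (hWV hx.1)
  have hCW : C ≤ Subgroup.normalizer (W : Set G) :=
    inf_le_left.trans (Subgroup.normalizer_commutator_ge_left V A)
  have hBWn : B ≤ Subgroup.normalizer (W : Set G) :=
    inf_le_left.trans (Subgroup.normalizer_commutator_ge_right V A)
  have k1 := Solv.card_sup_mul_card_inf W C hCW
  have k2 := Solv.card_sup_mul_card_inf W B hBWn
  have hcard : Nat.card ↥(W ⊔ B) = Nat.card A := by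
    unfold Solv.Timm.meas at hm
    change Nat.card A * Nat.card C = Nat.card B * Nat.card ↥(V ⊓ Subgroup.centralizer (B : Set G)) at hm
    rw [h2] at hm
    rw [hinf] at k2
    have h4 : Nat.card A * Nat.card C * Nat.card ↥(W ⊓ C) =
        Nat.card ↥(W ⊔ B) * Nat.card C * Nat.card ↥(W ⊓ C) := by
      rw [hm, mul_assoc, k1, mul_comm (Nat.card ↥(W ⊔ B)), mul_assoc (Nat.card C), k2]
      ring
    exact (Nat.eq_of_mul_eq_mul_right Nat.card_pos (Nat.eq_of_mul_eq_mul_right Nat.card_pos h4)).symm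
  refine ⟨⟨he, fun Y hY => hcard.symm ▸ hA.2 Y hY⟩, ?_, fun hne hbot => ?_⟩
  · rw [Subgroup.commutator_eq_bot_iff_le_centralizer]
    have h5 : ⁅V, W ⊔ B⁆ ≤ W := by
      rw [Subgroup.commutator_le]
      intro v hv x hx
      rw [← SetLike.mem_coe, Subgroup.coe_mul_of_right_le_normalizer_left _ _ hBWn] at hx
      obtain ⟨w, hw, b, hb, rfl⟩ := hx
      have e : ⁅v, w * b⁆ = ⁅v, w⁆ * (w * ⁅v, b⁆ * w⁻¹) := by
        simp only [commutatorElement_def]; group
      have hvb : ⁅v, b⁆ ∈ W := Subgroup.commutator_mem_commutator hv hb.1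
      rw [e, commutatorElement_eq_one_iff_mul_comm.mpr (Solv.comm_of_elemAbelian hV hv (hWV hw)),
        one_mul]
      exact W.mul_mem (W.mul_mem hw hvb) (W.inv_mem hw)
    refine h5.trans (Subgroup.le_centralizer_iff.mp (sup_le ?_ hBW))
    exact fun x hx w hw => Solv.comm_of_elemAbelian hV (hWV hw) (hWV hx)
  · refine h3 hne (le_bot_iff.mp ?_)
    rw [← hbot]
    exact Subgroup.commutator_mono le_rfl le_sup_right

end Cfsg.Agent.S0607
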