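import Cfsg.Statements.S0615
import Cfsg.Agent.Lib.Solv.Thompson

set_option autoImplicit false
open Cfsg

namespace Cfsg.Agent.S0615

open Subgroup
open scoped commutatorElement

variable {G : Type*} [Group G] [Finite G] {p : ℕ} [Fact p.Prime]

/-- Subnormality inside a subgroup. -/
def Sn (X E : Subgroup G) : Prop := X ≤ E ∧ (X.subgroupOf E).IsSubnormal

theorem Sn.trans {X J E : Subgroup G} (h₁ : Sn X J) (h₂ : Sn J E) : Sn X E := by
  refine ⟨h₁.1.trans h₂.1, ?_⟩
  have a : ((X.subgroupOf J).map (subgroupOfEquivOfLe h₂.1).symm.toMonoidHom).IsSubnormal :=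
    h₁.2.map (MulEquiv.surjective _)
  have b := a.trans' h₂.2
  convert b using 1
  ext y
  constructor
  · intro hy
    exact ⟨⟨y, show (y : G) ∈ J from h₁.1 hy⟩, ⟨⟨y, h₁.1 hy⟩, hy, rfl⟩, rfl⟩
  · rintro ⟨_, ⟨z, hz, rfl⟩, rfl⟩
    exact hz

theorem Sn.restrict {X J E : Subgroup G} (h : Sn X E) (hXJ : X ≤ J) (hJ : J ≤ E) : Sn X J := by
  refine ⟨hXJ, ?_⟩
  have : X.subgroupOf J = (X.subgroupOf E).comap (inclusion hJ) := rfl
  rw [this]
  exact h.2.comap _

theorem Sn.conj {X E : Subgroup G} (h : Sn X E) {g : G} (hg : g ∈ E) :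
    Sn (X.map (MulAut.conj g).toMonoidHom) E := by
  have hle : X.map (MulAut.conj g).toMonoidHom ≤ E := by
    rintro _ ⟨x, hx, rfl⟩
    exact E.mul_mem (E.mul_mem hg (h.1 hx)) (E.inv_mem hg)
  refine ⟨hle, ?_⟩
  have e : (X.map (MulAut.conj g).toMonoidHom).subgroupOf E =
      (X.subgroupOf E).map (MulAut.conj (⟨g, hg⟩ : E)).toMonoidHom := by
    ext y
    constructor
    · rintro ⟨x, hx, hxy⟩
      exact ⟨⟨x, h.1 hx⟩, hx, Subtype.ext hxy⟩
    · rintro ⟨x, hx, rfl⟩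
      exact ⟨x, hx, rfl⟩
  rw [e]
  exact h.2.map (MulEquiv.surjective _)

theorem sn_of_normal {X E : Subgroup G} (hXE : X ≤ E) (hE : E ≤ normalizer (X : Set G)) : Sn X E :=
  ⟨hXE, ((normal_subgroupOf_iff_le_normalizer hXE).2 hE).isSubnormal⟩

theorem conj_le_normalizer {X V : Subgroup G} {g : G} (hg : g ∈ normalizer (V : Set G))
    (h : X ≤ normalizer (V : Set G)) : X.map (MulAut.conj g).toMonoidHom ≤ normalizer (V : Set G) := by
  rintro _ ⟨x, hx, rfl⟩
  exact mul_mem (mul_mem hg (h hx)) (inv_mem hg)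

theorem map_conj_of_normalizer {H : Subgroup G} {g : G} (hg : g ∈ normalizer (H : Set G)) :
    H.map (MulAut.conj g).toMonoidHom = H := by
  ext x
  constructor
  · rintro ⟨y, hy, rfl⟩
    exact (mem_normalizer_iff.1 hg y).1 hy
  · intro hx
    refine ⟨g⁻¹ * x * g, ?_, show g * (g⁻¹ * x * g) * g⁻¹ = x by group⟩
    exact (mem_normalizer_iff.1 hg _).2 (by simpa [mul_assoc] using hx)

theorem normalizer_of_map_conj {H : Subgroup G} {g : G}
    (h : H.map (MulAut.conj g).toMonoidHom = H) : g ∈ normalizer (H : Set G) := by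
  refine mem_normalizer_iff.2 fun x => ⟨fun hx => h.le ⟨x, hx, rfl⟩, fun hx => ?_⟩
  obtain ⟨y, hy, hyx⟩ := h.ge hx
  exact (MulAut.conj g).injective hyx ▸ hy

/-- The hypotheses carried through the induction. -/
structure Hyp (p : ℕ) (V E E₁ E₂ : Subgroup G) : Prop where
  hV : Cfsg.IsElementaryAbelian p V
  hEV : E ≤ normalizer (V : Set G)
  hf : E ⊓ centralizer (V : Set G) = ⊥
  hs₁ : Sn E₁ E
  hs₂ : Sn E₂ E
  hOp : ∀ X : Subgroup G, Sn X E → IsPGroup p X → X = ⊥
  hirr₁ : ∀ U : Subgroup G, U ≤ ⁅V, E₁⁆ → E₁ ≤ normalizer (U : Set G) → U = ⊥ ∨ U = ⁅V, E₁⁆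
  hirr₂ : ∀ U : Subgroup G, U ≤ ⁅V, E₂⁆ → E₂ ≤ normalizer (U : Set G) → U = ⊥ ∨ U = ⁅V, E₂⁆
  h12 : ¬ ⁅V, E₁⁆ ≤ ⁅V, E₂⁆
  h21 : ¬ ⁅V, E₂⁆ ≤ ⁅V, E₁⁆
  hc₁ : 2 < Nat.card E₁
  hc₂ : 2 < Nat.card E₂

variable {V E E₁ E₂ : Subgroup G}

theorem Hyp.symm (h : Hyp p V E E₁ E₂) : Hyp p V E E₂ E₁ :=
  ⟨h.hV, h.hEV, h.hf, h.hs₂, h.hs₁, h.hOp, h.hirr₂, h.hirr₁, h.h21, h.h12, h.hc₂, h.hc₁⟩

theorem Hyp.commW_le (h : Hyp p V E E₁ E₂) : ⁅V, E₁⁆ ≤ V :=
  le_normalizer_iff_commutator_le_left.1 (h.hs₁.1.trans h.hEV)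

theorem Hyp.eq_one_of_fix (h : Hyp p V E E₁ E₂) {c : G} (hc : c ∈ E₁)
    (hfix : ∀ w ∈ ⁅V, E₁⁆, c * w * c⁻¹ = w) : c = 1 := by
  let C : Subgroup G := E₁ ⊓ centralizer ((⁅V, E₁⁆ : Subgroup G) : Set G)
  have hCsn : Sn C E := by
    refine (sn_of_normal inf_le_left fun e he => mem_normalizer_iff.2 fun x => ?_).trans h.hs₁
    have hn : e ∈ normalizer ((⁅V, E₁⁆ : Subgroup G) : Set G) := normalizer_commutator_ge_right _ _ he
    have key : ∀ a x : G, a ∈ E₁ → a ∈ normalizer ((⁅V, E₁⁆ : Subgroup G) : Set G) → x ∈ C → a * x * a⁻¹ ∈ C := by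
      rintro a x ha han ⟨hx, hxc⟩
      refine ⟨E₁.mul_mem (E₁.mul_mem ha hx) (E₁.inv_mem ha), mem_centralizer_iff.2 fun w hw => ?_⟩
      have h1 := mem_centralizer_iff.1 hxc (a⁻¹ * w * a)
        (by simpa using (mem_normalizer_iff.1 (inv_mem han) w).1 hw)
      calc w * (a * x * a⁻¹) = a * ((a⁻¹ * w * a) * x) * a⁻¹ := by group
        _ = a * (x * (a⁻¹ * w * a)) * a⁻¹ := by rw [h1]
        _ = a * x * a⁻¹ * w := by group
    refine ⟨key e x he hn, fun hx => ?_⟩
    have := key e⁻¹ _ (E₁.inv_mem he) (inv_mem hn) hx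
    have e2 : x = e⁻¹ * (e * x * e⁻¹) * e⁻¹⁻¹ := by group
    rw [e2]; exact this
  have hCp : IsPGroup p C := by
    rintro ⟨x, hx, hxc⟩
    refine ⟨1, Subtype.ext ?_⟩
    show x ^ p ^ 1 = 1
    rw [pow_one]
    have hpow : x ^ p ∈ E ⊓ centralizer (V : Set G) := by
      refine ⟨E.pow_mem (h.hs₁.1 hx) p, mem_centralizer_iff.2 fun v hv => ?_⟩
      have hu : ⁅v, x⁆ ∈ ⁅V, E₁⁆ := commutator_mem_commutator hv hx
      have hux : x * ⁅v, x⁆ * x⁻¹ = ⁅v, x⁆ := by rw [← mem_centralizer_iff.1 hxc _ hu, mul_inv_cancel_right]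
      have hxv : x * v * x⁻¹ = ⁅v, x⁆⁻¹ * v := by rw [commutatorElement_def]; group
      have hn : ∀ n : ℕ, x ^ n * v * (x ^ n)⁻¹ = (⁅v, x⁆⁻¹) ^ n * v := by
        intro n
        induction n with
        | zero => simp
        | succ n ih =>
          calc x ^ (n + 1) * v * (x ^ (n + 1))⁻¹ = x * (x ^ n * v * (x ^ n)⁻¹) * x⁻¹ := by
                rw [pow_succ']; group
            _ = (x * ⁅v, x⁆⁻¹ * x⁻¹) ^ n * (x * v * x⁻¹) := by rw [ih, conj_pow]; group
            _ = (⁅v, x⁆⁻¹) ^ (n + 1) * v := by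
                rw [← conj_inv, hux, hxv, pow_succ, mul_assoc]
      have h1 := hn p
      rw [inv_pow, h.hV.2 _ (h.commW_le hu), inv_one, one_mul, mul_inv_eq_iff_eq_mul] at h1
      exact h1.symm
    rw [h.hf] at hpow
    exact mem_bot.1 hpow
  have := h.hOp C hCsn hCp
  have hcC : c ∈ C := ⟨hc, mem_centralizer_iff.2 fun w hw => (mul_inv_eq_iff_eq_mul.1 (hfix w hw)).symm⟩
  rw [this] at hcC
  exact mem_bot.1 hcC

theorem Hyp.both_invariant (h : Hyp p V E E₁ E₂) (h₁ : E₁ ≤ normalizer ((⁅V, E₂⁆ : Subgroup G) : Set G))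
    (h₂ : E₂ ≤ normalizer ((⁅V, E₁⁆ : Subgroup G) : Set G)) : ⁅E₁, E₂⁆ = ⊥ ∧ ⁅V, E₁⁆ ⊓ ⁅V, E₂⁆ = ⊥ := by
  have hU : ⁅V, E₁⁆ ⊓ ⁅V, E₂⁆ = ⊥ := by
    rcases h.hirr₁ _ inf_le_left (fun e he => by
      have a : e ∈ normalizer ((⁅V, E₁⁆ : Subgroup G) : Set G) := normalizer_commutator_ge_right _ _ he
      have b := h₁ he
      refine mem_normalizer_iff.2 fun x => ?_
      simp only [mem_inf]
      exact and_congr (mem_normalizer_iff.1 a x) (mem_normalizer_iff.1 b x)) with e | e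
    · exact e
    · exact absurd (inf_eq_left.1 e) h.h12
  refine ⟨?_, hU⟩
  have a : ⁅⁅E₂, V⁆, E₁⁆ = ⊥ := by
    rw [commutator_comm E₂ V, eq_bot_iff, ← hU]
    exact le_inf (commutator_mono h.symm.commW_le le_rfl) (le_normalizer_iff_commutator_le_left.1 h₁)
  have b : ⁅⁅V, E₁⁆, E₂⁆ = ⊥ := by
    rw [eq_bot_iff, ← hU]
    exact le_inf (le_normalizer_iff_commutator_le_left.1 h₂) (commutator_mono h.commW_le le_rfl)
  have c := commutator_commutator_eq_bot_of_rotate a b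
  rw [commutator_eq_bot_iff_le_centralizer] at c
  rw [eq_bot_iff, ← h.hf]
  exact le_inf ((commutator_mono h.hs₁.1 h.hs₂.1).trans (commutator_le_self E)) c

theorem main : ∀ (n : ℕ) (E E₁ E₂ : Subgroup G), Nat.card E ≤ n → Hyp p V E E₁ E₂ →
    ⁅E₁, E₂⁆ = ⊥ ∧ ⁅V, E₁⁆ ⊓ ⁅V, E₂⁆ = ⊥ := by
  intro n
  induction n with
  | zero => intro E _ _ hn; exact absurd hn (not_le.2 Nat.card_pos)
  | succ n ih =>
    intro E E₁ E₂ hn h
    -- the dichotomy for conjugates of one of the two modules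
    have dich : ∀ A B : Subgroup G, Hyp p V E A B → ∀ g ∈ E,
        ⁅V, A⁆.map (MulAut.conj g).toMonoidHom ≠ ⁅V, A⁆ →
        (∀ a ∈ A, ∀ x ∈ ⁅V, A⁆.map (MulAut.conj g).toMonoidHom, a * x * a⁻¹ = x) ∧
          ⁅V, A⁆ ⊓ ⁅V, A⁆.map (MulAut.conj g).toMonoidHom = ⊥ := by
      intro A B hA g hg hne
      set A' := A.map (MulAut.conj g).toMonoidHom with hA'
      have hW : ⁅V, A'⁆ = ⁅V, A⁆.map (MulAut.conj g).toMonoidHom := by
        rw [map_commutator, map_conj_of_normalizer (hA.hEV hg)]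
      have hcard : Nat.card ↥⁅V, A'⁆ = Nat.card ↥⁅V, A⁆ := by
        rw [hW, card_map_of_injective (MulAut.conj g).injective]
      have hcA : Nat.card A' = Nat.card A := card_map_of_injective (MulAut.conj g).injective
      have hAne : A ≠ E := by
        rintro rfl
        exact hA.h21 (commutator_mono le_rfl hA.hs₂.1)
      rcases hA.hs₁.2.lt_normal with he | ⟨K, hKn, hAK, hK⟩
      · exact absurd (le_antisymm hA.hs₁.1 (subgroupOf_eq_top.1 he)) hAne
      set K' := K.map E.subtype with hK'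
      have hKE : K' ≤ E := map_subtype_le K
      have hA1 : A ≤ K' := fun x hx => ⟨⟨x, hA.hs₁.1 hx⟩, hAK hx, rfl⟩
      have hA2 : A' ≤ K' := by
        rintro _ ⟨x, hx, rfl⟩
        exact ⟨(⟨g, hg⟩ : E) * ⟨x, hA.hs₁.1 hx⟩ * (⟨g, hg⟩ : E)⁻¹, hKn.conj_mem _ (hAK hx) _, rfl⟩
      have hKsn : Sn K' E := by
        refine ⟨hKE, ?_⟩
        rw [show K'.subgroupOf E = K from comap_map_eq_self_of_injective E.subtype_injective K]
        exact hKn.isSubnormal
      have hKlt : Nat.card K' < Nat.card E := by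
        rw [hK', card_map_of_injective E.subtype_injective]
        exact lt_of_le_of_ne (card_le_card_group K) fun e => hK.ne (eq_top_of_card_eq K e)
      have hyp' : Hyp p V K' A A' := by
        refine ⟨hA.hV, hKE.trans hA.hEV, le_bot_iff.1 (hA.hf ▸ inf_le_inf_right _ hKE),
          hA.hs₁.restrict hA1 hKE, (hA.hs₁.conj hg).restrict hA2 hKE,
          fun X hX hXp => hA.hOp X (hX.trans hKsn) hXp, hA.hirr₁, ?_, ?_, ?_, hA.hc₁, hcA ▸ hA.hc₁⟩
        · intro U hU hn'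
          have hgU : ∀ u ∈ U, g⁻¹ * u * g ∈ ⁅V, A⁆ := fun u hu => by
            obtain ⟨w, hw, hwu⟩ := hW ▸ hU hu
            rw [← hwu]
            simpa [mul_assoc] using hw
          set U₀ := U.map (MulAut.conj g⁻¹).toMonoidHom with hU₀
          have hback : U₀.map (MulAut.conj g).toMonoidHom = U := by
            ext x
            constructor
            · rintro ⟨_, ⟨u, hu, rfl⟩, rfl⟩
              simpa [mul_assoc] using hu
            · exact fun hx => ⟨_, ⟨x, hx, rfl⟩, by simp [mul_assoc]⟩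
          rcases hA.hirr₁ U₀ (by rintro _ ⟨u, hu, rfl⟩; simpa using hgU u hu) (fun a ha => by
            refine normalizer_of_map_conj ?_
            have h1 := map_conj_of_normalizer (hn' ⟨a, ha, rfl⟩)
            rw [hU₀]
            conv_rhs => rw [← h1]
            rw [map_map, map_map]
            congr 1
            ext x
            simp [mul_assoc]) with e | e
          · exact Or.inl (by rw [← hback, e, Subgroup.map_bot])
          · exact Or.inr (by rw [← hback, e, hW])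
        · intro hle
          exact hne (hW ▸ (eq_of_le_of_card_ge hle hcard.le).symm)
        · intro hle
          exact hne (hW ▸ eq_of_le_of_card_ge hle hcard.ge)
      obtain ⟨hcomm, hint⟩ := ih K' A A' (by omega) hyp'
      refine ⟨fun a ha x hx => ?_, hW ▸ hint⟩
      have haW : a ∈ normalizer ((⁅V, A'⁆ : Subgroup G) : Set G) := by
        have hn1 : a ∈ normalizer (V : Set G) := hA.hEV (hA.hs₁.1 ha)
        refine normalizer_of_map_conj ?_
        rw [map_commutator, map_conj_of_normalizer hn1, map_conj_of_normalizer]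
        refine le_normalizer_iff_commutator_le_right.2 ?_ ha
        rw [hcomm]
        exact bot_le
      rw [← hW] at hx
      have h1 : a * x * a⁻¹ * x⁻¹ ∈ ⁅V, A⁆ ⊓ ⁅V, A'⁆ := by
        refine ⟨?_, Subgroup.mul_mem _ ((mem_normalizer_iff.1 haW x).1 hx) (Subgroup.inv_mem _ hx)⟩
        have := commutator_mem_commutator ha (hyp'.symm.commW_le hx)
        rw [commutator_comm] at this
        rw [← commutatorElement_def]
        exact this
      rw [hint, mem_bot, mul_inv_eq_one] at h1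
      exact h1
    -- a moving element forces one of the groups to have order two
    have inv : ∀ A B : Subgroup G, Hyp p V E A B → B ≤ normalizer ((⁅V, A⁆ : Subgroup G) : Set G) := by
      intro A B hA g hg
      by_contra hgn
      have hne : ⁅V, A⁆.map (MulAut.conj g).toMonoidHom ≠ ⁅V, A⁆ := fun e => hgn (normalizer_of_map_conj e)
      have hgE := hA.hs₂.1 hg
      obtain ⟨hfix, hint⟩ := dich A B hA g hgE hne
      have hd : ∀ w ∈ ⁅V, A⁆, w * (g * w⁻¹ * g⁻¹) ∈ ⁅V, B⁆ := fun w hw => by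
        have := commutator_mem_commutator (hA.commW_le hw) hg
        rwa [show w * (g * w⁻¹ * g⁻¹) = ⁅w, g⁆ by rw [commutatorElement_def]; group]
      have hfix0 : ∀ e ∈ A, (∀ a ∈ A, a ∈ normalizer ((⁅V, B⁆ : Subgroup G) : Set G)) → e = 1 := by
        intro e he hall
        have hU : ⁅V, A⁆ ⊓ ⁅V, B⁆ = ⊥ := by
          rcases hA.hirr₁ _ inf_le_left (fun a ha => by
            have a1 : a ∈ normalizer ((⁅V, A⁆ : Subgroup G) : Set G) := normalizer_commutator_ge_right _ _ ha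
            refine mem_normalizer_iff.2 fun x => ?_
            simp only [mem_inf]
            exact and_congr (mem_normalizer_iff.1 a1 x) (mem_normalizer_iff.1 (hall a ha) x)) with e1 | e1
          · exact e1
          · exact absurd (inf_eq_left.1 e1) hA.h12
        refine hA.eq_one_of_fix he fun w hw => ?_
        have hx : e * (g * w⁻¹ * g⁻¹) * e⁻¹ = g * w⁻¹ * g⁻¹ :=
          hfix e he _ ⟨w⁻¹, inv_mem hw, rfl⟩
        have h1 : e * w * e⁻¹ * w⁻¹ ∈ ⁅V, A⁆ ⊓ ⁅V, B⁆ := by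
          have hn1 : e ∈ normalizer ((⁅V, A⁆ : Subgroup G) : Set G) := normalizer_commutator_ge_right _ _ he
          refine ⟨Subgroup.mul_mem _ ((mem_normalizer_iff.1 hn1 w).1 hw) (Subgroup.inv_mem _ hw), ?_⟩
          have h2 := Subgroup.mul_mem _ ((mem_normalizer_iff.1 (hall e he) _).1 (hd w hw)) (Subgroup.inv_mem _ (hd w hw))
          have h3 : e * (w * (g * w⁻¹ * g⁻¹)) * e⁻¹ = e * w * e⁻¹ * (g * w⁻¹ * g⁻¹) := by
            calc e * (w * (g * w⁻¹ * g⁻¹)) * e⁻¹ = e * w * e⁻¹ * (e * (g * w⁻¹ * g⁻¹) * e⁻¹) := by group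
              _ = e * w * e⁻¹ * (g * w⁻¹ * g⁻¹) := by rw [hx]
          rw [h3] at h2
          show e * w * e⁻¹ * w⁻¹ ∈ ⁅V, B⁆
          convert h2 using 1
          group
        rw [hU, mem_bot, mul_inv_eq_one] at h1
        exact h1
      have hmov : ∀ e ∈ A, e ∉ normalizer ((⁅V, B⁆ : Subgroup G) : Set G) → ∀ w ∈ ⁅V, A⁆, e⁻¹ * w * e = w⁻¹ := by
        intro e he hen w hw
        have hne' : ⁅V, B⁆.map (MulAut.conj e⁻¹).toMonoidHom ≠ ⁅V, B⁆ := fun e1 =>
          hen (by simpa using inv_mem (normalizer_of_map_conj e1))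
        obtain ⟨hB, -⟩ := dich B A hA.symm e⁻¹ (E.inv_mem (hA.hs₁.1 he)) hne'
        have hd' := hd w hw
        have h1 : g * (e⁻¹ * (w * (g * w⁻¹ * g⁻¹)) * e) * g⁻¹ = e⁻¹ * (w * (g * w⁻¹ * g⁻¹)) * e :=
          hB g hg _ ⟨_, hd', by simp⟩
        have hew : e⁻¹ * w * e ∈ ⁅V, A⁆ := by
          have := (mem_normalizer_iff.1 ((normalizer_commutator_ge_right _ _) (A.inv_mem he) :
            e⁻¹ ∈ normalizer ((⁅V, A⁆ : Subgroup G) : Set G)) w).1 hw
          simpa using this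
        have hex : e⁻¹ * (g * w⁻¹ * g⁻¹) * e = g * w⁻¹ * g⁻¹ := by
          have := hfix e⁻¹ (A.inv_mem he) _ ⟨w⁻¹, inv_mem hw, rfl⟩
          simpa using this
        set a := g * (e⁻¹ * w * e) * g⁻¹ with ha
        set x := g * w⁻¹ * g⁻¹ with hx
        set z := g * x * g⁻¹ with hz
        have haW : a ∈ ⁅V, A⁆.map (MulAut.conj g).toMonoidHom := ⟨_, hew, rfl⟩
        have hxW : x ∈ ⁅V, A⁆.map (MulAut.conj g).toMonoidHom := ⟨_, inv_mem hw, rfl⟩
        have heq : w * x = a * (e * z * e⁻¹) := by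
          have h2 : e⁻¹ * (w * x) * e = (e⁻¹ * w * e) * x := by
            calc e⁻¹ * (w * x) * e = (e⁻¹ * w * e) * (e⁻¹ * x * e) := by group
              _ = _ := by rw [hex]
          rw [h2] at h1
          have h3 : e * (g * (e⁻¹ * w * e * x) * g⁻¹) * e⁻¹ = w * x := by
            rw [h1, ← h2]; group
          have h4 : e * a * e⁻¹ = a := hfix e he a haW
          rw [← h3, ← h4, ha, hz]
          group
        by_cases hWW : ⁅V, A⁆.map (MulAut.conj (g * g)).toMonoidHom = ⁅V, A⁆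
        · have hzW : z ∈ ⁅V, A⁆ := hWW.le ⟨w⁻¹, inv_mem hw, by simp [hz, hx, mul_assoc]⟩
          have hz' : e * z * e⁻¹ ∈ ⁅V, A⁆ :=
            (mem_normalizer_iff.1 ((normalizer_commutator_ge_right _ _) he : e ∈ normalizer ((⁅V, A⁆ : Subgroup G) : Set G)) z).1 hzW
          have hmem : a⁻¹ * x ∈ ⁅V, A⁆ ⊓ ⁅V, A⁆.map (MulAut.conj g).toMonoidHom := by
            refine ⟨?_, Subgroup.mul_mem _ (Subgroup.inv_mem _ haW) hxW⟩
            have hc : a⁻¹ * x = w⁻¹ * (e * z * e⁻¹) := by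
              have hab := hA.hV.1
              have hxV : x ∈ V := by
                rw [hx]; exact (mem_normalizer_iff.1 (hA.hEV hgE) _).1 (inv_mem (hA.commW_le hw))
              have haV : a ∈ V := by
                rw [ha]; exact (mem_normalizer_iff.1 (hA.hEV hgE) _).1 (hA.commW_le hew)
              have hc1 : w * x = x * w :=
                congrArg Subtype.val (hab.1.1 ⟨w, hA.commW_le hw⟩ ⟨x, hxV⟩)
              have hc2 : a⁻¹ * x = x * a⁻¹ :=
                congrArg Subtype.val (hab.1.1 ⟨a⁻¹, inv_mem haV⟩ ⟨x, hxV⟩)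
              have hc3 : a * (e * z * e⁻¹) = (e * z * e⁻¹) * a :=
                congrArg Subtype.val (hab.1.1 ⟨a, haV⟩ ⟨_, hA.commW_le hz'⟩)
              rw [eq_inv_mul_iff_mul_eq, hc2, ← mul_assoc, mul_inv_eq_iff_eq_mul, heq, hc3]
            rw [hc]
            exact Subgroup.mul_mem _ (Subgroup.inv_mem _ hw) hz'
          rw [hint, mem_bot, inv_mul_eq_one] at hmem
          have h5 : g * (e⁻¹ * w * e) * g⁻¹ = g * w⁻¹ * g⁻¹ := hmem
          exact mul_left_cancel (mul_right_cancel h5)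
        · exfalso
          obtain ⟨hfix2, -⟩ := dich A B hA (g * g) (E.mul_mem hgE hgE) hWW
          have hall : ∀ a' ∈ A, ∀ u ∈ ⁅V, A⁆, a' * u * a'⁻¹ = u := by
            intro a' ha' u hu
            -- the same identity for `u`
            have hne2 := hne'
            have hdu := hd u hu
            have h1u : g * (e⁻¹ * (u * (g * u⁻¹ * g⁻¹)) * e) * g⁻¹ = e⁻¹ * (u * (g * u⁻¹ * g⁻¹)) * e :=
              hB g hg _ ⟨_, hdu, by simp⟩
            have heu : e⁻¹ * u * e ∈ ⁅V, A⁆ := by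
              have := (mem_normalizer_iff.1 ((normalizer_commutator_ge_right _ _) (A.inv_mem he) :
                e⁻¹ ∈ normalizer ((⁅V, A⁆ : Subgroup G) : Set G)) u).1 hu
              simpa using this
            have hex' : e⁻¹ * (g * u⁻¹ * g⁻¹) * e = g * u⁻¹ * g⁻¹ := by
              have := hfix e⁻¹ (A.inv_mem he) _ ⟨u⁻¹, inv_mem hu, rfl⟩
              simpa using this
            set a₁ := g * (e⁻¹ * u * e) * g⁻¹
            set x₁ := g * u⁻¹ * g⁻¹
            have hz1 : g * x₁ * g⁻¹ ∈ ⁅V, A⁆.map (MulAut.conj (g * g)).toMonoidHom :=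
              ⟨u⁻¹, inv_mem hu, by simp [x₁, mul_assoc]⟩
            have hu' : u = a₁ * (g * x₁ * g⁻¹) * x₁⁻¹ := by
              have h2 : e⁻¹ * (u * x₁) * e = (e⁻¹ * u * e) * x₁ := by
                calc e⁻¹ * (u * x₁) * e = (e⁻¹ * u * e) * (e⁻¹ * x₁ * e) := by group
                  _ = _ := by rw [hex']
              have h3 : u * x₁ = e * (a₁ * (g * x₁ * g⁻¹)) * e⁻¹ := by
                rw [h2] at h1u
                calc u * x₁ = e * (e⁻¹ * u * e * x₁) * e⁻¹ := by rw [← h2]; group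
                  _ = e * (g * (e⁻¹ * u * e * x₁) * g⁻¹) * e⁻¹ := by rw [h1u]
                  _ = _ := by simp only [a₁]; group
              have h4 : e * (a₁ * (g * x₁ * g⁻¹)) * e⁻¹ = a₁ * (g * x₁ * g⁻¹) := by
                calc e * (a₁ * (g * x₁ * g⁻¹)) * e⁻¹ = (e * a₁ * e⁻¹) * (e * (g * x₁ * g⁻¹) * e⁻¹) := by group
                  _ = _ := by rw [hfix e he a₁ ⟨_, heu, rfl⟩, hfix2 e he _ hz1]
              rw [eq_mul_inv_iff_mul_eq, h3, h4]
            rw [hu']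
            calc a' * (a₁ * (g * x₁ * g⁻¹) * x₁⁻¹) * a'⁻¹
                = (a' * a₁ * a'⁻¹) * (a' * (g * x₁ * g⁻¹) * a'⁻¹) * (a' * x₁ * a'⁻¹)⁻¹ := by group
              _ = _ := by rw [hfix a' ha' a₁ ⟨_, heu, rfl⟩, hfix2 a' ha' _ hz1,
                  hfix a' ha' x₁ ⟨_, inv_mem hu, rfl⟩]
          have hbot : A = ⊥ := (eq_bot_iff_forall _).2 fun a' ha' => hA.eq_one_of_fix ha' (hall a' ha')
          have := hA.hc₁
          rw [hbot, card_bot] at this
          omega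
      obtain ⟨e₀, he₀, he₀n⟩ : ∃ e ∈ A, e ∉ normalizer ((⁅V, B⁆ : Subgroup G) : Set G) := by
        by_contra hc
        push Not at hc
        have hbot : A = ⊥ := (eq_bot_iff_forall _).2 fun a ha => hfix0 a ha hc
        have := hA.hc₁
        rw [hbot, card_bot] at this
        omega
      have hall : ∀ e ∈ A, e = 1 ∨ e = e₀ := by
        intro e he
        by_cases hen : e ∈ normalizer ((⁅V, B⁆ : Subgroup G) : Set G)
        · left
          have hm : e * e₀ ∉ normalizer ((⁅V, B⁆ : Subgroup G) : Set G) := fun hh => he₀n (by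
            simpa using mul_mem (inv_mem hen) hh)
          have hc : e⁻¹ = 1 := hA.eq_one_of_fix (A.inv_mem he) fun w hw => by
            have a1 := hmov _ (A.mul_mem he he₀) hm w hw
            have a2 := hmov e₀ he₀ he₀n w hw
            rw [← a2] at a1
            have : e₀⁻¹ * (e⁻¹ * w * e) * e₀ = e₀⁻¹ * w * e₀ := by rw [← a1]; group
            simpa using mul_left_cancel (mul_right_cancel this)
          exact inv_eq_one.1 hc
        · right
          have hc : e₀ * e⁻¹ = 1 := hA.eq_one_of_fix (A.mul_mem he₀ (A.inv_mem he)) fun w hw => by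
            have a1 := hmov e he hen w hw
            have a2 := hmov e₀ he₀ he₀n w hw
            rw [← a2] at a1
            calc e₀ * e⁻¹ * w * (e₀ * e⁻¹)⁻¹ = e₀ * (e⁻¹ * w * e) * e₀⁻¹ := by group
              _ = e₀ * (e₀⁻¹ * w * e₀) * e₀⁻¹ := by rw [a1]
              _ = w := by group
          exact (mul_inv_eq_one.1 hc).symm
      have hcard : Nat.card A ≤ 2 := by
        classical
        haveI := Fintype.ofFinite A
        rw [Nat.card_eq_fintype_card, ← Finset.card_univ]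
        refine (Finset.card_le_card (t := {1, ⟨e₀, he₀⟩}) fun a _ => ?_).trans Finset.card_le_two
        rcases hall a a.2 with h1 | h1
        · simp [show a = 1 from Subtype.ext h1]
        · simp [show a = ⟨e₀, he₀⟩ from Subtype.ext h1]
      have := hA.hc₁
      omega
    exact h.both_invariant (inv E₂ E₁ h.symm) (inv E₁ E₂ h)

/-- Two subnormal subgroups acting irreducibly on their incomparable commutator modules, in a faithful group with trivial largest normal p-subgroup, generate their direct product, and the commutator module splits accordingly. -/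
theorem result {G : Type*} [Group G] [Finite G] {p : ℕ} [Fact p.Prime] (V E E₁ E₂ : Subgroup G) (hV : Cfsg.IsElementaryAbelian p V) (hEV : E ≤ Subgroup.normalizer (V : Set G)) (hf : E ⊓ Subgroup.centralizer (V : Set G) = ⊥) (hgen : E = E₁ ⊔ E₂) (hs₁ : (E₁.subgroupOf E).IsSubnormal) (hs₂ : (E₂.subgroupOf E).IsSubnormal) (hOp : Cfsg.pCore p ↥E = ⊥) (hirr₁ : (∀ U : Subgroup G, U ≤ ⁅V, E₁⁆ → E₁ ≤ Subgroup.normalizer (U : Set G) → U = ⊥ ∨ U = ⁅V, E₁⁆)) (hirr₂ : (∀ U : Subgroup G, U ≤ ⁅V, E₂⁆ → E₂ ≤ Subgroup.normalizer (U : Set G) → U = ⊥ ∨ U = ⁅V, E₂⁆)) (h12 : ¬ ⁅V, E₁⁆ ≤ ⁅V, E₂⁆) (h21 : ¬ ⁅V, E₂⁆ ≤ ⁅V, E₁⁆) (hc₁ : 2 < Nat.card E₁) (hc₂ : 2 < Nat.card E₂) : ⁅E₁, E₂⁆ = ⊥ ∧ E₁ ⊓ E₂ = ⊥ ∧ ⁅V, E₁⁆ ⊓ ⁅V, E₂⁆ = ⊥ ∧ ⁅V, E⁆ = ⁅V, E₁⁆ ⊔ ⁅V, E₂⁆ := by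
  have hEV' := hEV
  have hsn₁ : Sn E₁ E := ⟨hgen ▸ le_sup_left, hs₁⟩
  have hsn₂ : Sn E₂ E := ⟨hgen ▸ le_sup_right, hs₂⟩
  have hOp' : ∀ X : Subgroup G, Sn X E → IsPGroup p X → X = ⊥ := by
    intro X hX hXp
    have h1 : X.subgroupOf E ≤ Cfsg.pCore p ↥E := Cfsg.Agent.Solv.le_pCore_of_isSubnormal hX.2
      (hXp.of_equiv (Subgroup.subgroupOfEquivOfLe hX.1).symm)
    rw [hOp, le_bot_iff, Subgroup.subgroupOf_eq_bot, disjoint_iff, inf_eq_left.2 hX.1] at h1
    exact h1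
  have h : Hyp p V E E₁ E₂ := ⟨hV, hEV, hf, hsn₁, hsn₂, hOp', hirr₁, hirr₂, h12, h21, hc₁, hc₂⟩
  obtain ⟨hcomm, hint⟩ := main (Nat.card E) E E₁ E₂ le_rfl h
  refine ⟨hcomm, ?_, hint, ?_⟩
  · refine (Subgroup.eq_bot_iff_forall _).2 fun x hx => ?_
    have : x ∈ E ⊓ Subgroup.centralizer (V : Set G) := by
      refine ⟨hsn₁.1 hx.1, Subgroup.mem_centralizer_iff.2 fun v hv => ?_⟩
      have h1 : ⁅v, x⁆ ∈ ⁅V, E₁⁆ ⊓ ⁅V, E₂⁆ :=
        ⟨Subgroup.commutator_mem_commutator hv hx.1, Subgroup.commutator_mem_commutator hv hx.2⟩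
      rw [hint, Subgroup.mem_bot, commutatorElement_eq_one_iff_mul_comm] at h1
      exact h1
    rw [hf] at this
    exact Subgroup.mem_bot.1 this
  · refine le_antisymm ?_ (sup_le (Subgroup.commutator_mono le_rfl hsn₁.1) (Subgroup.commutator_mono le_rfl hsn₂.1))
    set W := ⁅V, E₁⁆ ⊔ ⁅V, E₂⁆
    have hW : W ≤ V := sup_le h.commW_le h.symm.commW_le
    rw [Subgroup.commutator_le]
    intro v hv e he
    rw [hgen, Subgroup.sup_eq_closure] at he
    revert v
    induction he using Subgroup.closure_induction with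
    | mem y hy =>
      intro v hv
      rcases hy with hy | hy
      · exact Subgroup.mem_sup_left (Subgroup.commutator_mem_commutator hv hy)
      · exact Subgroup.mem_sup_right (Subgroup.commutator_mem_commutator hv hy)
    | one => intro v _; simp [commutatorElement_def]
    | mul a b ha _ iha ihb =>
      intro v hv
      have haE : a ∈ E := by
        rw [hgen, Subgroup.sup_eq_closure]; exact ha
      have hn := hEV' haE
      have hb' : a * ⁅v, b⁆ * a⁻¹ ∈ W := by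
        have hbW := ihb v hv
        have h2 := iha _ (inv_mem (hW hbW))
        have h3 : a * ⁅v, b⁆ * a⁻¹ = ⁅v, b⁆ * ⁅⁅v, b⁆⁻¹, a⁆ := by
          simp only [commutatorElement_def]; group
        rw [h3]; exact mul_mem hbW h2
      have : ⁅v, a * b⁆ = ⁅v, a⁆ * (a * ⁅v, b⁆ * a⁻¹) := by
        simp only [commutatorElement_def]; group
      rw [this]; exact mul_mem (iha v hv) hb'
    | inv a ha iha =>
      intro v hv
      have haE : a ∈ E := by
        rw [hgen, Subgroup.sup_eq_closure]; exact ha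
      have hv' : a⁻¹ * v * a ∈ V := by
        have := (Subgroup.mem_normalizer_iff.1 (inv_mem (hEV' haE)) v).1 hv
        simpa using this
      have : ⁅v, a⁻¹⁆ = ⁅a⁻¹ * v * a, a⁆⁻¹ := by
        simp only [commutatorElement_def]; group
      rw [this]; exact inv_mem (iha _ hv')

end Cfsg.Agent.S0615
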