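import Cfsg.Statements.S0627
import Cfsg.Agent.Lib.Solv.StableClosure
import Cfsg.Agent.S0625
import Cfsg.Agent.Lib.Solv.PSolvable

set_option autoImplicit false
open scoped Pointwise
open Cfsg

namespace Cfsg.Agent.S0627

/-- In a p-separable group with p at least 5, the normalizer of W(S) supplements the largest normal subgroup of order prime to p. -/
theorem result {G : Type*} [Group G] [Finite G] {p : ℕ} [Fact p.Prime] (hp : 5 ≤ p) (hsep : Cfsg.IsPSolvable p G) (S : Sylow p G) : Cfsg.pPrimeCore p G ⊔ Subgroup.normalizer (((Cfsg.stableNormalClosure p ↥(S : Subgroup G)).map (S : Subgroup G).subtype) : Set G) = ⊤ := by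
  classical
  set O := Cfsg.pPrimeCore p G with hOdef
  set π := QuotientGroup.mk' O with hπdef
  have hπ : Function.Surjective π := QuotientGroup.mk'_surjective O
  set Sb := S.mapSurjective hπ with hSb
  set W := ((Cfsg.stableNormalClosure p ↥(S : Subgroup G)).map (S : Subgroup G).subtype) with hW
  have hXs : Cfsg.IsPSolvable p (G ⧸ O) := Cfsg.Agent.Solv.isPSolvable_quotient hsep O
  haveI hn := Cfsg.Agent.Solv.SNC.normal_of_stable (Cfsg.Agent.S0625.result hp hXs) (Cfsg.Agent.Solv.centralizer_pCore_le_of_isPSolvable hXs (Cfsg.Agent.Solv.pPrimeCore_quotient_pPrimeCore p)) Sb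
  have hdisj : (S : Subgroup G) ⊓ O = ⊥ := Cfsg.Agent.Solv.inf_eq_bot_of_isPGroup S.isPGroup' (Cfsg.Agent.Solv.card_pPrimeCore_coprime p G)
  let f : (S : Subgroup G) →* G ⧸ O := π.comp (S : Subgroup G).subtype
  have hinj : Function.Injective f := by
    rw [injective_iff_map_eq_one]
    intro x hx
    refine Subtype.ext ?_
    show (x : G) = 1
    rw [← Subgroup.mem_bot, ← hdisj]
    exact ⟨x.2, (QuotientGroup.eq_one_iff (x : G)).mp hx⟩
  have hrange : f.range = (Sb : Subgroup (G ⧸ O)) := by
    rw [MonoidHom.range_comp, Subgroup.range_subtype]; rfl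
  let η : (S : Subgroup G) ≃* (Sb : Subgroup (G ⧸ O)) := (MonoidHom.ofInjective hinj).trans (MulEquiv.subgroupCongr hrange)
  have hWb : (Cfsg.stableNormalClosure p ↥(Sb : Subgroup (G ⧸ O))).map (Sb : Subgroup (G ⧸ O)).subtype = W.map π := by
    rw [hW, ← Cfsg.Agent.Solv.SNC.map_equiv η, Subgroup.map_map, Subgroup.map_map]
    rfl
  rw [hWb] at hn
  haveI hKn : (W ⊔ O).Normal := by
    have e : W ⊔ O = (W.map π).comap π := by rw [Subgroup.comap_map_eq, hπdef, QuotientGroup.ker_mk']
    rw [e]; exact hn.comap π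
  set K := W ⊔ O with hK
  have hWS : W ≤ (S : Subgroup G) := Subgroup.map_subtype_le _
  have hWp : IsPGroup p W := S.isPGroup'.to_le hWS
  have hidx : ¬ p ∣ W.relIndex K := by
    have h1 := Cfsg.Agent.Solv.card_sup_mul_card_inf O W Subgroup.le_normalizer_of_normal
    have hbot : O ⊓ W = ⊥ := by rw [eq_bot_iff, ← hdisj]; exact fun x hx => ⟨hWS hx.2, hx.1⟩
    rw [hbot, Subgroup.card_bot, mul_one, sup_comm] at h1
    have h2 := (W.subgroupOf K).card_mul_index
    rw [Cfsg.Agent.Solv.card_subgroupOf (show W ≤ K from le_sup_left), show Nat.card K = Nat.card O * Nat.card W from h1, mul_comm (Nat.card O)] at h2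
    rw [Subgroup.relIndex, Nat.eq_of_mul_eq_mul_left Nat.card_pos h2]
    exact (Nat.Prime.coprime_iff_not_dvd Fact.out).1 (Cfsg.Agent.Solv.card_pPrimeCore_coprime p G).symm
  let PK : Sylow p K := (hWp.of_equiv (Subgroup.subgroupOfEquivOfLe (show W ≤ K from le_sup_left)).symm).toSylow hidx
  have hfr := Sylow.normalizer_sup_eq_top PK
  rw [show ((PK : Subgroup K)).map K.subtype = W from Subgroup.map_subgroupOf_eq_of_le le_sup_left] at hfr
  rw [eq_top_iff, ← hfr]
  exact sup_le le_sup_right (sup_le (Subgroup.le_normalizer.trans le_sup_right) le_sup_left)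

end Cfsg.Agent.S0627
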