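import Cfsg.Statements.S0630
import Cfsg.Agent.Lib.Local.ConstrainedLocal

set_option autoImplicit false
open scoped Pointwise
open Cfsg

namespace Cfsg.Agent.S0630

/-- p-constraint passes to and from the quotient by the largest normal subgroup of order prime to p. -/
theorem result {G : Type*} [Group G] [Finite G] {p : ℕ} [Fact p.Prime] : Cfsg.IsPConstrained p G ↔ Cfsg.IsPConstrained p (G ⧸ Cfsg.pPrimeCore p G) := by
  let X := G ⧸ Cfsg.pPrimeCore p G
  have hO : Cfsg.pPrimeCore p X = ⊥ := Cfsg.Agent.Solv.pPrimeCore_quotient_pPrimeCore p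
  let e : X ≃* X ⧸ Cfsg.pPrimeCore p X := QuotientGroup.quotientBot.symm.trans (QuotientGroup.quotientMulEquivOfEq hO.symm)
  refine ⟨fun h => Cfsg.Agent.Local.isPConstrained_of_centralizer_le (Cfsg.Agent.Local.FusionRed.centralizer_pCore_le_of_equiv e (Cfsg.Agent.Local.ClassTwo.centralizer_pCore_le_of_isPConstrained h)), fun h => ?_⟩
  exact Cfsg.Agent.Local.isPConstrained_of_centralizer_le (Cfsg.Agent.Local.FusionRed.centralizer_pCore_le_of_equiv e.symm (Cfsg.Agent.Local.ClassTwo.centralizer_pCore_le_of_isPConstrained h))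

end Cfsg.Agent.S0630
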