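import Cfsg.Statements.S0632
import Cfsg.Agent.Lib.Solv.ZJApps

set_option autoImplicit false
open scoped Pointwise
open Cfsg

namespace Cfsg.Agent.S0632

/-- For a group with a nontrivial normal p-subgroup, p-stability passes to and from the quotient by the largest normal subgroup of order prime to p. -/
theorem result {G : Type*} [Group G] [Finite G] {p : ℕ} [Fact p.Prime] (hO : Cfsg.pCore p G ≠ ⊥) : Cfsg.IsPStable p G ↔ Cfsg.IsPStable p (G ⧸ Cfsg.pPrimeCore p G) := by
  have key : ∀ {G : Type u_1} [Group G] [Finite G] {G' : Type u_1} [Group G'] [Finite G']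
      (f : G →* G') (P A : Subgroup G) (B : Subgroup G') (A' : Subgroup G') [B.Normal],
      P.map f = B → A.map f = A' → f.ker ⊓ P = ⊥ →
      A'.map (QuotientGroup.mk' (Subgroup.centralizer (B : Set G')))
        ≤ Cfsg.pCore p (G' ⧸ Subgroup.centralizer (B : Set G')) →
      (A.subgroupOf (Subgroup.normalizer (P : Set G))).map
          (QuotientGroup.mk' ((Subgroup.centralizer (P : Set G)).subgroupOf
            (Subgroup.normalizer (P : Set G))))
        ≤ Cfsg.pCore p _ := by
    intro G _ _ G' _ _ f P A B A' hn hB hA' hk h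
    subst hB hA'
    set C := Subgroup.centralizer (P.map f : Set G') with hC
    set N := Subgroup.normalizer (P : Set G) with hN
    set C' := (Subgroup.centralizer (P : Set G)).subgroupOf N
    have hcc : C' = C.comap (f.comp N.subtype) := by
      ext ⟨n, hn'⟩
      simp only [C', Subgroup.mem_subgroupOf, Subgroup.mem_comap, hC, Subgroup.mem_centralizer_iff,
        MonoidHom.comp_apply, Subgroup.coe_subtype]
      constructor
      · rintro hc _ ⟨x, hx, rfl⟩
        rw [← map_mul, ← map_mul, hc x hx]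
      · intro hc x hx
        have h1 := hc (f x) ⟨x, hx, rfl⟩
        rw [← map_mul, ← map_mul] at h1
        have h2 : x * n * x⁻¹ * n⁻¹ ∈ f.ker ⊓ P := by
          refine Subgroup.mem_inf.mpr ⟨?_, ?_⟩
          · rw [MonoidHom.mem_ker]
            simp only [map_mul] at h1
            simp only [map_mul, map_inv, h1]
            group
          · have := (Subgroup.mem_normalizer_iff.mp hn' x⁻¹).mp (P.inv_mem hx)
            have := P.mul_mem hx this
            simpa only [mul_assoc] using this
        rw [hk, Subgroup.mem_bot, mul_inv_eq_one, mul_inv_eq_iff_eq_mul] at h2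
        exact h2
    let ψ : N ⧸ C' →* G' ⧸ C := QuotientGroup.map C' C (f.comp N.subtype) hcc.le
    have hinj : Function.Injective ψ := by
      rw [← MonoidHom.ker_eq_bot_iff, eq_bot_iff]
      intro z
      obtain ⟨z, rfl⟩ := QuotientGroup.mk_surjective z
      intro hz
      rw [MonoidHom.mem_ker] at hz
      erw [QuotientGroup.map_mk, QuotientGroup.eq_one_iff] at hz
      rw [Subgroup.mem_bot, QuotientGroup.eq_one_iff, hcc]
      exact hz
    refine le_trans ?_ (Solv.le_pCore
      ((Solv.isPGroup_pCore p (G' ⧸ C)).comap_of_injective ψ hinj))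
    rintro _ ⟨⟨a, ha⟩, haA, rfl⟩
    exact h ⟨f a, ⟨a, haA, rfl⟩, rfl⟩
  have hmk := QuotientGroup.mk'_surjective (Cfsg.pPrimeCore p G)
  have hd : ∀ P : Subgroup G, IsPGroup p P → (QuotientGroup.mk' (Cfsg.pPrimeCore p G)).ker ⊓ P = ⊥ := by
    intro P hP
    rw [QuotientGroup.ker_mk', inf_comm]
    exact Solv.inf_eq_bot_of_isPGroup hP (Solv.card_pPrimeCore_coprime p G)
  constructor
  · intro h
    refine ⟨h.1, fun hb => hO ?_, ?_⟩
    · have h1 := Solv.map_pCore_le_of_surjective p _ hmk
      rw [hb, le_bot_iff, Subgroup.map_eq_bot_iff] at h1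
      rw [← hd _ (Solv.isPGroup_pCore p G)]
      exact (inf_eq_right.mpr h1).symm
    · intro A P hA hP _ _ hn hq
      rw [Solv.pPrimeCore_quotient_pPrimeCore, bot_sup_eq] at hn
      haveI := hn
      have h1 := Solv.ZJ.stab_quotient h P hP A hA hq
      exact key (MonoidHom.id _) P A P A (Subgroup.map_id P) (Subgroup.map_id A) (by simp) h1
  · rintro ⟨ho, _, h⟩
    refine ⟨ho, hO, fun A P hA hP hAP hle hn hq => ?_⟩
    set f := QuotientGroup.mk' (Cfsg.pPrimeCore p G) with hf
    haveI hPn : (P.map f).Normal := by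
      have e : P.map f = (Cfsg.pPrimeCore p G ⊔ P).map f := by
        rw [Subgroup.map_sup, hf, QuotientGroup.map_mk'_self, bot_sup_eq]
      rw [e]
      exact hn.map _ hmk
    have hle' : P.map f ≤ Cfsg.pPrimePCore p (G ⧸ Cfsg.pPrimeCore p G) := by
      refine le_trans (Subgroup.map_mono hle) ?_
      rintro _ ⟨x, hx, rfl⟩
      exact Solv.map_pCore_le_of_surjective p _ (QuotientGroup.mk'_surjective _) ⟨_, hx, rfl⟩
    have h1 := h (A.map f) (P.map f) (hA.map _) (hP.map _)
      (fun _ ⟨a, ha, ea⟩ _ ⟨x, hx, ex⟩ => ⟨a * x * a⁻¹, hAP a ha x hx, by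
        rw [← ea, ← ex, map_mul, map_mul, map_inv]⟩) hle'
      (by rw [Solv.pPrimeCore_quotient_pPrimeCore, bot_sup_eq]; exact hPn)
      (by rw [← Subgroup.map_commutator, ← Subgroup.map_commutator, hq, Subgroup.map_bot])
    refine key f P A _ _ rfl rfl (hd P hP) ?_
    set N := Subgroup.normalizer (P.map f : Set (G ⧸ Cfsg.pPrimeCore p G))
    set C := Subgroup.centralizer (P.map f : Set (G ⧸ Cfsg.pPrimeCore p G))
    let ψ : N ⧸ C.subgroupOf N →* _ ⧸ C := QuotientGroup.map _ C N.subtype le_rfl
    have hψ : Function.Surjective ψ := fun z => by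
      obtain ⟨y, rfl⟩ := QuotientGroup.mk_surjective z
      exact ⟨QuotientGroup.mk ⟨y, by
        rw [show N = ⊤ from Subgroup.normalizer_eq_top_iff.mpr hPn]; trivial⟩, rfl⟩
    rintro _ ⟨y, hy, rfl⟩
    have hyN : y ∈ N := by rw [show N = ⊤ from Subgroup.normalizer_eq_top_iff.mpr hPn]; trivial
    exact Solv.map_pCore_le_of_surjective p ψ hψ ⟨_, h1 ⟨⟨y, hyN⟩, hy, rfl⟩, rfl⟩

end Cfsg.Agent.S0632
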