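import Cfsg.Statements.S0637
import Cfsg.Agent.Lib.Solv.OmegaMetacyclic
import Cfsg.Agent.S0638

set_option autoImplicit false
open Cfsg

namespace Cfsg.Agent.S0637

/-- For p greater than 3, the bound p² on the order of the subgroup generated by the elements of order dividing p passes from a p-group to all its quotients. -/
theorem result {R : Type*} [Group R] [Finite R] {p : ℕ} [Fact p.Prime] (hp : 3 < p) (hR : IsPGroup p R) (hO : Nat.card ↥(Cfsg.omegaOne p (⊤ : Subgroup R)) ≤ p ^ 2) (T : Subgroup R) [T.Normal] : Nat.card ↥(Cfsg.omegaOne p (⊤ : Subgroup (R ⧸ T))) ≤ p ^ 2 := by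
  have hm : Cfsg.IsMetacyclic R := Solv.OmegaMeta.metacyclic hp hR (by simpa [Cfsg.omegaOne] using hO)
  have hmq := Solv.OmegaMeta.isMetacyclic_quotient hm T
  have hp' : p.Prime := Fact.out
  by_cases hc : IsCyclic (R ⧸ T)
  · haveI := hc
    classical
    haveI := Fintype.ofFinite (R ⧸ T)
    have hle : (Cfsg.omegaOne p (⊤ : Subgroup (R ⧸ T)) : Set (R ⧸ T)) ⊆ {x | x ^ p = 1} := by
      intro x hx
      letI : CommGroup (R ⧸ T) := IsCyclic.commGroup
      refine Subgroup.closure_induction (p := fun x _ => x ^ p = 1) ?_ (one_pow p) ?_ ?_ hx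
      · exact fun y hy => hy.2
      · intro a b _ _ ha hb; rw [mul_pow, ha, hb, one_mul]
      · intro a _ ha; rw [inv_pow, ha, inv_one]
    calc Nat.card ↥(Cfsg.omegaOne p (⊤ : Subgroup (R ⧸ T)))
        ≤ Nat.card {x : R ⧸ T // x ^ p = 1} := Nat.card_le_card_of_injective
          (fun x => ⟨x.1, hle x.2⟩) (fun a b h => Subtype.ext (Subtype.ext_iff.1 h :))
      _ ≤ p := by
          rw [Nat.card_eq_fintype_card, Fintype.card_subtype]
          exact IsCyclic.card_pow_eq_one_le hp'.pos
      _ ≤ p ^ 2 := Nat.le_self_pow (by norm_num) p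
  · exact le_of_eq (Cfsg.Agent.S0638.result (by omega) (hR.to_quotient T) hmq hc).2

end Cfsg.Agent.S0637
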