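import Cfsg.Statements.S0640
import Cfsg.Agent.Lib.Solv.ClassThree
import Cfsg.Agent.Lib.Fusion.Critical

set_option autoImplicit false
open scoped Pointwise
open Cfsg

namespace Cfsg.Agent.S0640

/-- For odd p, a prime q ≠ p dividing the order of the automorphism group of a p-group of rank at most 2 divides p² - 1 and is less than p. -/
theorem result {R : Type*} [Group R] [Finite R] {p : ℕ} [Fact p.Prime] (hp : p ≠ 2) (hR : IsPGroup p R) (hrk : Cfsg.PRankLE p 2 R) (q : ℕ) (hq : q.Prime) (hqp : q ≠ p) (hdvd : q ∣ Nat.card (MulAut R)) : q ∣ p ^ 2 - 1 ∧ q < p := by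
  have hp' : p.Prime := Fact.out
  haveI := Fact.mk hq
  haveI : Finite (MulAut R) := Finite.of_injective (fun σ : MulAut R => (σ : R → R)) DFunLike.coe_injective
  obtain ⟨α, hα⟩ := exists_prime_orderOf_dvd_card' q hdvd
  obtain ⟨D, hDch, hDe, hDf⟩ := Fusion.exists_small_faithful (p := p) hR
  have hDe' : ∀ x ∈ D, x ^ p = 1 := fun x hx => (hDe x hx).resolve_right (fun h => hp h.1)
  have hα1 : α ≠ 1 := fun e => by rw [e, orderOf_one] at hα; exact hq.one_lt.ne hα
  obtain ⟨x0, hx0, hx0m⟩ : ∃ x ∈ D, α x ≠ x := by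
    by_contra h
    simp only [not_exists, not_and, not_not] at h
    exact hα1 (hDf α (by rw [hα]; exact (Nat.coprime_primes hq hp').mpr hqp) h)
  obtain ⟨k, hk⟩ := IsPGroup.iff_card.mp (hR.to_subgroup D)
  have hrkD : ∀ E : Subgroup D, Cfsg.IsElementaryAbelian p E → Nat.card E ≤ p ^ 2 := fun E hE => by
    rw [show Nat.card E = Nat.card (E.map D.subtype) from (Subgroup.card_map_of_injective D.subtype_injective).symm]
    exact hrk _ (Solv.elemAbelian_map _ hE).1 (Solv.elemAbelian_map _ hE).2
  have hk3 : k ≤ 3 := (Nat.pow_le_pow_iff_right hp'.one_lt).mp (hk ▸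
    Solv.ClassThree.card_le_of_exponent hp (fun x => Subtype.ext (hDe' x x.2)) hrkD)
  set H := Subgroup.zpowers α
  have hHq : IsPGroup q H := IsPGroup.of_card (n := 1) (by rw [pow_one, Nat.card_zpowers, hα])
  letI : MulAction H D :=
    { smul := fun σ d => ⟨(σ : MulAut R) d, Subgroup.characteristic_iff_le_comap.mp hDch (σ : MulAut R) d.2⟩
      one_smul := fun d => Subtype.ext rfl
      mul_smul := fun σ τ d => Subtype.ext rfl }
  have hmod := hHq.card_modEq_card_fixedPoints D
  let W : Subgroup D :=
    { carrier := {d | α (d : R) = d}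
      one_mem' := map_one α
      mul_mem' := fun {a b} ha hb => by
        show α ((a : R) * b) = (a : R) * b
        rw [map_mul, show α (a : R) = a from ha, show α (b : R) = b from hb]
      inv_mem' := fun {a} ha => by
        show α ((a : R)⁻¹) = (a : R)⁻¹
        rw [map_inv, show α (a : R) = a from ha] }
  have hW : Nat.card (MulAction.fixedPoints H D) = Nat.card W := Nat.card_congr
    (Equiv.subtypeEquivRight fun d => by
      constructor
      · intro h
        exact congrArg Subtype.val (h ⟨α, Subgroup.mem_zpowers α⟩)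
      · intro h σ
        apply Subtype.ext
        show (σ : MulAut R) (d : R) = d
        have hle : H ≤ MulAction.stabilizer (MulAut R) (d : R) := Subgroup.zpowers_le.mpr h
        exact hle σ.2)
  rw [hW, hk] at hmod
  obtain ⟨j, hjk, hj⟩ := (Nat.dvd_prime_pow hp').mp (hk ▸ W.card_subgroup_dvd_card)
  rw [hj] at hmod
  have hjlt : j < k := by
    rcases hjk.lt_or_eq with h | rfl
    · exact h
    · exfalso
      exact hx0m ((W.eq_top_of_card_eq (hj.trans hk.symm)).ge (Subgroup.mem_top (⟨x0, hx0⟩ : D)))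
  have hd1 : q ∣ p ^ (k - j) - 1 := by
    have h1 := (Nat.modEq_iff_dvd' (Nat.pow_le_pow_right hp'.pos hjk)).mp hmod.symm
    rw [show p ^ k - p ^ j = p ^ j * (p ^ (k - j) - 1) by
      rw [Nat.mul_sub, mul_one, ← pow_add]; congr 2; omega] at h1
    exact (Nat.Coprime.pow_right j ((Nat.coprime_primes hq hp').mpr hqp)).dvd_of_dvd_mul_left h1
  have hfin : q ∣ p ^ 2 - 1 := by
    have hone : q ∣ p - 1 → q ∣ p ^ 2 - 1 := fun h =>
      h.trans (by simpa using Nat.sub_dvd_pow_sub_pow p 1 2)
    rcases (show k - j = 1 ∨ k - j = 2 ∨ k - j = 3 by omega) with h | h | h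
    · rw [h, pow_one] at hd1; exact hone hd1
    · rwa [h] at hd1
    · -- then `j = 0`, and `α` moves the centre of `D`
      obtain rfl : j = 0 := by omega
      obtain rfl : k = 3 := by omega
      apply hone
      set Z := Subgroup.center D
      haveI : Nontrivial D := Finite.one_lt_card_iff_nontrivial.mp (hk ▸ Nat.one_lt_pow (by norm_num) hp'.one_lt)
      have hZne : Z ≠ ⊥ := (Subgroup.nontrivial_iff_ne_bot Z).mp (hR.to_subgroup D).center_nontrivial
      obtain ⟨i, hi3, hi⟩ := (Nat.dvd_prime_pow hp').mp (hk ▸ Z.card_subgroup_dvd_card)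
      have hna : ¬ ∀ a b : D, a * b = b * a := fun hab => by
        have := hrkD ⊤ ⟨⟨⟨fun a b => Subtype.ext (hab a b)⟩⟩, fun d _ => Subtype.ext (hDe' d d.2)⟩
        rw [Subgroup.card_top, hk] at this
        exact absurd this (not_le.mpr (Nat.pow_lt_pow_right hp'.one_lt (by norm_num)))
      have hi1 : Nat.card Z = p := by
        interval_cases i
        · exact absurd (Subgroup.eq_bot_of_card_eq Z (hi.trans (pow_zero p))) hZne
        · exact hi.trans (pow_one p)
        · exfalso
          have h1 := Z.card_mul_index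
          rw [hi, hk, Subgroup.index_eq_card, show p ^ 3 = p ^ 2 * p from pow_succ p 2] at h1
          haveI : IsCyclic (D ⧸ Z) := isCyclic_of_prime_card (Nat.eq_of_mul_eq_mul_left (pow_pos hp'.pos 2) h1)
          exact hna (commutative_of_cyclic_center_quotient (QuotientGroup.mk' Z) (by rw [QuotientGroup.ker_mk']))
        · exact absurd (fun a b => (Subgroup.mem_center_iff.mp
            ((Z.eq_top_of_card_eq (hi.trans hk.symm)).ge (Subgroup.mem_top a)) b).symm) hna
      letI : MulAction H Z :=
        { smul := fun σ z => ⟨σ • (z : D), Subgroup.mem_center_iff.mpr fun g => by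
            have h := congrArg (fun t : D => σ • t) (Subgroup.mem_center_iff.mp z.2 (σ⁻¹ • g))
            have hm : ∀ a b : D, σ • (a * b) = (σ • a) * (σ • b) := fun a b =>
              Subtype.ext (map_mul (σ : MulAut R) (a : R) b)
            simp only [hm, smul_inv_smul] at h
            exact h⟩
          one_smul := fun z => Subtype.ext (one_smul H (z : D))
          mul_smul := fun σ τ z => Subtype.ext (mul_smul σ τ (z : D)) }
      have hmod2 := hHq.card_modEq_card_fixedPoints Z
      haveI : Subsingleton (MulAction.fixedPoints H Z) := by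
        have hWb : W = ⊥ := Subgroup.eq_bot_of_card_eq W (hj.trans (pow_zero p))
        refine ⟨fun a b => ?_⟩
        have h1 : ∀ c : MulAction.fixedPoints H Z, ((c : Z) : D) = 1 := fun c => by
          have hcW : ((c : Z) : D) ∈ W := congrArg (fun z : Z => ((z : D) : R)) (c.2 ⟨α, Subgroup.mem_zpowers α⟩)
          rwa [hWb, Subgroup.mem_bot] at hcW
        exact Subtype.ext (Subtype.ext ((h1 a).trans (h1 b).symm))
      have h1fix : (1 : Z) ∈ MulAction.fixedPoints H Z := fun σ =>
        Subtype.ext (Subtype.ext (map_one (σ : MulAut R)))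
      rw [Nat.card_of_subsingleton (⟨1, h1fix⟩ : MulAction.fixedPoints H Z), hi1] at hmod2
      exact (Nat.modEq_iff_dvd' hp'.one_lt.le).mp hmod2.symm
  refine ⟨hfin, ?_⟩
  have hsq : p ^ 2 - 1 = (p + 1) * (p - 1) := by
    obtain ⟨m, hm⟩ : ∃ m, p = m + 1 := ⟨p - 1, by have := hp'.pos; omega⟩
    rw [hm, Nat.add_sub_cancel, show (m + 1) ^ 2 = (m + 1 + 1) * m + 1 by ring, Nat.add_sub_cancel]
  rw [hsq] at hfin
  have h2p := hp'.two_le
  rcases (Nat.Prime.dvd_mul hq).mp hfin with h | h
  · rcases (Nat.le_of_dvd (by omega) h).lt_or_eq with hlt | heq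
    · omega
    · exfalso
      obtain ⟨m, hm⟩ := hp'.odd_of_ne_two hp
      have := (Nat.prime_dvd_prime_iff_eq Nat.prime_two hq).mp ⟨m + 1, by omega⟩
      omega
  · have := Nat.le_of_dvd (by omega) h
    omega

end Cfsg.Agent.S0640
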