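import Cfsg.Statements.S0641
import Cfsg.Agent.Lib.Solv.Misc

set_option autoImplicit false
open scoped Pointwise
open Cfsg

namespace Cfsg.Agent.S0641

/-- Regularity of a p-group passes to quotient groups. -/
theorem result {G : Type*} [Group G] {p : ℕ} [Fact p.Prime] (hG : Cfsg.IsRegularPGroup p G) (N : Subgroup G) [N.Normal] : Cfsg.IsRegularPGroup p (G ⧸ N) := by
  refine ⟨hG.1.to_quotient N, fun a b n => ?_⟩
  obtain ⟨x, rfl⟩ := QuotientGroup.mk'_surjective N a
  obtain ⟨y, rfl⟩ := QuotientGroup.mk'_surjective N b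
  obtain ⟨c, hc, heq⟩ := hG.2 x y n
  refine ⟨QuotientGroup.mk' N c, ?_, by simpa using congrArg (QuotientGroup.mk' N) heq⟩
  have hmap : (Cfsg.powerClosure p n ⁅Subgroup.closure ({x, y} : Set G), Subgroup.closure ({x, y} : Set G)⁆).map (QuotientGroup.mk' N) ≤
      Cfsg.powerClosure p n ⁅Subgroup.closure ({QuotientGroup.mk' N x, QuotientGroup.mk' N y} : Set (G ⧸ N)), Subgroup.closure ({QuotientGroup.mk' N x, QuotientGroup.mk' N y} : Set (G ⧸ N))⁆ := by
    rw [Subgroup.map_le_iff_le_comap, Cfsg.powerClosure, Subgroup.closure_le]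
    rintro _ ⟨z, hz, rfl⟩
    refine Subgroup.subset_closure ⟨QuotientGroup.mk' N z, ?_, map_pow _ _ _⟩
    have h1 := Subgroup.mem_map_of_mem (QuotientGroup.mk' N) hz
    rwa [Subgroup.map_commutator, MonoidHom.map_closure, Set.image_pair] at h1
  exact hmap (Subgroup.mem_map_of_mem _ hc)

end Cfsg.Agent.S0641
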