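import Cfsg.Statements.S0642
import Cfsg.Agent.Lib.Solv.Regular

set_option autoImplicit false
open scoped Pointwise
open Cfsg

namespace Cfsg.Agent.S0642

/-- Among finite 2-groups the regular ones are exactly the abelian ones. -/
theorem result {G : Type*} [Group G] [Finite G] (hG : IsPGroup 2 G) : Cfsg.IsRegularPGroup 2 G ↔ ∀ a b : G, a * b = b * a := by
  constructor
  · intro h a b
    have h1 := Cfsg.Agent.Solv.Reg.commutator_le_pc_two (Cfsg.Agent.Solv.Reg.weak_of_regular h)
    haveI : Fact (Nat.Prime 2) := ⟨Nat.prime_two⟩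
    have h2 : _root_.commutator G = ⊥ := Cfsg.Agent.Solv.Reg.eq_bot_of_le_pc hG h1
    rw [_root_.commutator_def, Subgroup.commutator_eq_bot_iff_le_centralizer] at h2
    exact Subgroup.mem_centralizer_iff.1 (h2 (Subgroup.mem_top b)) a (Subgroup.mem_top a)
  · intro h
    refine ⟨hG, fun a b n => ⟨1, one_mem _, ?_⟩⟩
    rw [mul_one, Commute.mul_pow (h a b)]

end Cfsg.Agent.S0642
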