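import Cfsg.Statements.S0645
import Cfsg.Agent.Lib.Solv.CyclicIndexP

set_option autoImplicit false
open scoped Pointwise
open scoped commutatorElement
open Cfsg

namespace Cfsg.Agent.S0645

/-- Classification of p-groups with a cyclic maximal subgroup, odd p: a non-abelian one of order p^n has generators a of order p^(n-1) and b of order p, b outside the cyclic subgroup generated by a, with b a b⁻¹ = a^(1 + p^(n-2)). -/
theorem result {G : Type*} [Group G] [Finite G] {p : ℕ} [Fact p.Prime] (hp : p ≠ 2) (n : ℕ) (hn : 3 ≤ n) (hG : Nat.card G = p ^ n) (C : Subgroup G) (hC : IsCyclic C) (hCi : C.index = p) (hna : ∃ x y : G, x * y ≠ y * x) : ∃ a b : G, orderOf a = p ^ (n - 1) ∧ orderOf b = p ∧ b ∉ Subgroup.zpowers a ∧ b * a * b⁻¹ = a ^ (1 + p ^ (n - 2)) := by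
  have hp' : p.Prime := Fact.out
  have hR : IsPGroup p G := IsPGroup.of_card hG
  have hnc : ¬ IsCyclic G := fun h => by
    obtain ⟨x, y, hxy⟩ := hna
    exact hxy ((IsCyclic.commGroup (α := G)).mul_comm x y)
  obtain ⟨c, g, d⟩ := Solv.CycP.exists_data hp hR C hC hCi
  obtain ⟨hel, hcard⟩ := Solv.CycP.omega hp hR hnc C hC hCi
  set O := Subgroup.closure {x : G | x ^ p = 1}
  have hc : orderOf c = p ^ (n - 1) := by
    have h1 := C.card_mul_index
    rw [hCi, hG, d.gen, Nat.card_zpowers, show p ^ n = p ^ (n - 1) * p by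
      rw [← pow_succ]; congr 1; omega] at h1
    exact Nat.eq_of_mul_eq_mul_right hp'.pos h1
  have hc' : orderOf c = p ^ (n - 2 + 1) := hc.trans (by congr 1; omega)
  obtain ⟨b, hbO, hbC⟩ : ∃ b ∈ O, b ∉ C := by
    by_contra hno
    simp only [not_exists, not_and, not_not] at hno
    have hle : O ≤ Subgroup.zpowers (c ^ p ^ (n - 2)) := fun x hx =>
      Solv.CycP.root_mem hc' (d.gen ▸ hno x hx) (hel.2 x hx)
    have h1 := Nat.le_of_dvd Nat.card_pos (Subgroup.card_dvd_of_le hle)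
    rw [hcard, Nat.card_zpowers, orderOf_pow' _ (pow_ne_zero _ hp'.ne_zero), hc',
      Nat.gcd_eq_right (Nat.pow_dvd_pow p (Nat.le_succ (n - 2))), pow_succ p (n - 2),
      Nat.mul_div_cancel_left _ (pow_pos hp'.pos _)] at h1
    exact absurd h1 (not_le.mpr (by nlinarith [hp'.two_le]))
  have hb1 : b ≠ 1 := fun e => hbC (e ▸ C.one_mem)
  set z := ⁅b, c⁆ with hz
  obtain ⟨k, hk⟩ := Subgroup.mem_zpowers_iff.mp (d.derived b c)
  have hzp : z ^ p = 1 := by
    rw [hz, ← hk, ← zpow_natCast, ← zpow_mul, mul_comm, zpow_mul, zpow_natCast, d.comm_pow, one_zpow]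
  have hzc : z ∈ Subgroup.center G := by rw [hz, ← hk]; exact Subgroup.zpow_mem _ d.central k
  have hzC : z ∈ Subgroup.zpowers c := by rw [hz, ← hk]; exact Subgroup.zpow_mem _ d.comm_mem k
  have hz1 : z ≠ 1 := by
    intro e
    obtain ⟨x, y, hxy⟩ := hna
    apply hxy
    have hcb : Commute b c := commutatorElement_eq_one_iff_commute.mp e
    haveI : Fact (Nat.card (G ⧸ C)).Prime := ⟨by rw [← Subgroup.index_eq_card, hCi]; exact hp'⟩
    haveI := Solv.CycP.normal_of_index_prime hR C hCi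
    have hdec : ∀ w : G, ∃ i j : ℤ, w = b ^ i * c ^ j := by
      intro w
      obtain ⟨i, hi⟩ := Subgroup.mem_zpowers_iff.mp (mem_zpowers_of_prime_card (G := G ⧸ C)
        (p := Nat.card (G ⧸ C)) (g := (QuotientGroup.mk b : G ⧸ C)) (g' := QuotientGroup.mk w) rfl
        (fun e => hbC ((QuotientGroup.eq_one_iff b).mp e)))
      rw [← QuotientGroup.mk_zpow, QuotientGroup.eq, d.gen] at hi
      obtain ⟨j, hj⟩ := Subgroup.mem_zpowers_iff.mp hi
      exact ⟨i, j, by rw [hj, mul_inv_cancel_left]⟩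
    obtain ⟨i, j, rfl⟩ := hdec x
    obtain ⟨i', j', rfl⟩ := hdec y
    exact ((((Commute.refl b).zpow_zpow i i').mul_right (hcb.zpow_zpow i j')).mul_left
      (((hcb.symm.zpow_zpow j i')).mul_right ((Commute.refl c).zpow_zpow j j'))).eq
  have hzord : orderOf z = p := orderOf_eq_prime hzp hz1
  obtain ⟨j, hj⟩ := Subgroup.mem_zpowers_iff.mp (Solv.CycP.root_mem hc' hzC hzp)
  have hnd : ¬ (p : ℤ) ∣ j := by
    rintro ⟨t, rfl⟩
    refine hz1 ?_
    rw [← hj, zpow_mul, zpow_natCast, ← pow_mul, ← pow_succ, ← hc', pow_orderOf_eq_one, one_zpow]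
  obtain ⟨u, v, huv⟩ := ((Nat.prime_iff_prime_int.mp hp').coprime_iff_not_dvd.mpr hnd)
  have hzv : z ^ v = c ^ p ^ (n - 2) := by
    conv_rhs => rw [← zpow_one (c ^ p ^ (n - 2)), ← huv, zpow_add, mul_comm u, zpow_mul, zpow_natCast,
      ← pow_mul, ← pow_succ, ← hc', pow_orderOf_eq_one, one_zpow, one_mul, mul_comm v, zpow_mul, hj]
  have hconj : ∀ i : ℤ, b ^ i * c * (b ^ i)⁻¹ = z ^ i * c := by
    have hbz : Commute b z := Subgroup.mem_center_iff.mp hzc b
    have h1 : b * c * b⁻¹ = z * c := by rw [hz, commutatorElement_def]; group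
    intro i
    induction i using Int.induction_on with
    | zero => simp
    | succ i ih =>
      rw [add_comm, zpow_add, zpow_add, zpow_one, zpow_one, mul_inv_rev,
        show b * b ^ (i : ℤ) * c * ((b ^ (i : ℤ))⁻¹ * b⁻¹) = b * (b ^ (i : ℤ) * c * (b ^ (i : ℤ))⁻¹) * b⁻¹ by group,
        ih, show b * (z ^ (i : ℤ) * c) * b⁻¹ = b * z ^ (i : ℤ) * b⁻¹ * (b * c * b⁻¹) by group, h1,
        show b * z ^ (i : ℤ) * b⁻¹ = z ^ (i : ℤ) by rw [(hbz.zpow_right _).eq, mul_inv_cancel_right],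
        ← mul_assoc, ← zpow_add_one, add_comm, zpow_add, zpow_one]
    | pred i ih =>
      have h2 : b⁻¹ * c * b = z⁻¹ * c := by
        have h3 : c = b⁻¹ * (z * c) * b := by rw [← h1]; group
        conv_rhs => rw [h3]
        rw [show z⁻¹ * (b⁻¹ * (z * c) * b) = z⁻¹ * b⁻¹ * z * c * b by group,
          show z⁻¹ * b⁻¹ * z = b⁻¹ from by rw [mul_assoc, (hbz.inv_left).eq, inv_mul_cancel_left]]
      rw [sub_eq_add_neg, add_comm, zpow_add, zpow_add, zpow_neg_one, zpow_neg_one, mul_inv_rev, inv_inv,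
        show b⁻¹ * b ^ (-(i : ℤ)) * c * ((b ^ (-(i : ℤ)))⁻¹ * b) =
          b⁻¹ * (b ^ (-(i : ℤ)) * c * (b ^ (-(i : ℤ)))⁻¹) * b by group,
        ih, show b⁻¹ * (z ^ (-(i : ℤ)) * c) * b = b⁻¹ * z ^ (-(i : ℤ)) * b * (b⁻¹ * c * b) by group, h2,
        show b⁻¹ * z ^ (-(i : ℤ)) * b = z ^ (-(i : ℤ)) by
          rw [mul_assoc, ← (hbz.zpow_right _).eq, inv_mul_cancel_left],
        ← mul_assoc, ← zpow_neg_one z, ← zpow_add, ← zpow_add, add_comm]
  have hnv : ¬ (p : ℤ) ∣ v := by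
    rintro ⟨t, rfl⟩
    exact (Nat.prime_iff_prime_int.mp hp').not_dvd_one ⟨u + t * j, by rw [← huv]; ring⟩
  have hbv : b ^ v ∉ C := fun h => by
    obtain ⟨u', v', h'⟩ := ((Nat.prime_iff_prime_int.mp hp').coprime_iff_not_dvd.mpr hnv)
    refine hbC ?_
    have : b = (b ^ v) ^ v' := by
      conv_lhs => rw [← zpow_one b, ← h', zpow_add, mul_comm u', zpow_mul, zpow_natCast, hel.2 b hbO,
        one_zpow, one_mul, mul_comm v', zpow_mul]
    rw [this]; exact C.zpow_mem h v'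
  refine ⟨c, b ^ v, hc, orderOf_eq_prime ?_ (fun e => hbv (e ▸ C.one_mem)), d.gen ▸ hbv, ?_⟩
  · rw [← zpow_natCast, ← zpow_mul, mul_comm, zpow_mul, zpow_natCast, hel.2 b hbO, one_zpow]
  · rw [hconj, hzv, pow_add, pow_one, ← (Commute.self_pow c _).eq]

end Cfsg.Agent.S0645
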