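import Cfsg.Statements.S0647
import Cfsg.Agent.Lib.Solv.Misc

set_option autoImplicit false
open scoped Pointwise
open Cfsg

namespace Cfsg.Agent.S0647

/-- For a nonempty family of maximal abelian subgroups of a finite group, the intersection of the family is the centre of the subgroup it generates, which is also the full centralizer of that subgroup. -/
theorem result {S : Type*} [Group S] [Finite S] (𝒜 : Set (Subgroup S)) (hne : 𝒜.Nonempty) (hab : ∀ A ∈ 𝒜, IsMulCommutative A) (hmax : ∀ A ∈ 𝒜, ∀ B : Subgroup S, IsMulCommutative B → A ≤ B → B = A) : sInf 𝒜 = sSup 𝒜 ⊓ Subgroup.centralizer ((sSup 𝒜 : Subgroup S) : Set S) ∧ sInf 𝒜 = Subgroup.centralizer ((sSup 𝒜 : Subgroup S) : Set S) := by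
  have h1 : ∀ x ∈ Subgroup.centralizer ((sSup 𝒜 : Subgroup S) : Set S), x ∈ sInf 𝒜 := by
    intro x hx
    refine Subgroup.mem_sInf.mpr fun A hA => ?_
    have hab' := hab A hA
    have hxA : Subgroup.zpowers x ≤ Subgroup.centralizer (A : Set S) :=
      Subgroup.zpowers_le.mpr fun a ha => hx a ((le_sSup hA : A ≤ sSup 𝒜) ha)
    have hM : IsMulCommutative ↥(A ⊔ Subgroup.zpowers x : Subgroup S) := by
      rw [← Subgroup.le_centralizer_iff_isMulCommutative]
      refine sup_le ?_ ?_ <;> rw [Subgroup.le_centralizer_iff] <;> refine sup_le ?_ ?_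
      · exact Subgroup.le_centralizer A
      · exact hxA
      · exact Subgroup.le_centralizer_iff.mp hxA
      · exact Subgroup.le_centralizer (Subgroup.zpowers x)
    rw [← hmax A hA _ hM le_sup_left]
    exact Subgroup.mem_sup_right (Subgroup.mem_zpowers x)
  have h2 : sInf 𝒜 ≤ Subgroup.centralizer ((sSup 𝒜 : Subgroup S) : Set S) := by
    rw [Subgroup.le_centralizer_iff]
    refine sSup_le fun A hA => ?_
    haveI := hab A hA
    exact (Subgroup.le_centralizer A).trans (Subgroup.centralizer_le (sInf_le hA : sInf 𝒜 ≤ A))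
  have h3 : sInf 𝒜 = Subgroup.centralizer ((sSup 𝒜 : Subgroup S) : Set S) := le_antisymm h2 h1
  refine ⟨le_antisymm (le_inf ?_ h2) (inf_le_right.trans h3.ge), h3⟩
  obtain ⟨A, hA⟩ := hne
  exact (sInf_le hA).trans (le_sSup hA)

end Cfsg.Agent.S0647
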