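import Cfsg.Statements.S0655
import Cfsg.Agent.Lib.Solv.ZJ

set_option autoImplicit false
open scoped Pointwise
open Cfsg

namespace Cfsg.Agent.S0655

/-- In a p-group the intersection of all elementary abelian subgroups of largest order is the subgroup generated by the elements of order dividing p in the centre (equivalently the centralizer) of the elementary-version Thompson subgroup. -/
theorem result {S : Type*} [Group S] [Finite S] {p : ℕ} [Fact p.Prime] (hS : IsPGroup p S) : sInf (Cfsg.maxElementaryAbelianSubgroups p S) = Cfsg.omegaCenterThompson p S ∧ Cfsg.omegaCenterThompson p S = Cfsg.omegaOne p (Subgroup.centralizer (Cfsg.thompsonSubgroup p S : Set S)) := by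
  have key : ∀ x : S, x ^ p = 1 → x ∈ Subgroup.centralizer (Cfsg.thompsonSubgroup p S : Set S) →
      x ∈ sInf (Cfsg.maxElementaryAbelianSubgroups p S) := fun x hxp hx => Subgroup.mem_sInf.mpr fun A hA =>
    Agent.Solv.mem_of_centralizes_maxElemAbelian hA hxp (Subgroup.mem_centralizer_iff.mpr fun a ha =>
      Subgroup.mem_centralizer_iff.mp hx a (Agent.Solv.le_thompson hA ha))
  have h1 : sInf (Cfsg.maxElementaryAbelianSubgroups p S) ≤ Cfsg.omegaCenterThompson p S := by
    intro x hx
    obtain ⟨A, hA⟩ := Agent.Solv.exists_maxElemAbelian (G := S) p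
    have hxA := fun X hX => Subgroup.mem_sInf.mp hx X hX
    refine Subgroup.subset_closure ⟨⟨Agent.Solv.le_thompson hA (hxA A hA), ?_⟩, hA.1.2 x (hxA A hA)⟩
    have hle : Cfsg.thompsonSubgroup p S ≤ Subgroup.centralizer ({x} : Set S) :=
      sSup_le fun X hX a ha => Subgroup.mem_centralizer_iff.mpr fun z hz => by
        rw [Set.mem_singleton_iff] at hz; subst hz
        exact Agent.Solv.comm_of_elemAbelian hX.1 (hxA X hX) ha
    change x ∈ Subgroup.centralizer (Cfsg.thompsonSubgroup p S : Set S)
    exact Subgroup.mem_centralizer_iff.mpr fun a ha =>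
      (Subgroup.mem_centralizer_iff.mp (hle ha) x (Set.mem_singleton x)).symm
  have h2 : Cfsg.omegaCenterThompson p S ≤
      Cfsg.omegaOne p (Subgroup.centralizer (Cfsg.thompsonSubgroup p S : Set S)) :=
    Subgroup.closure_mono fun x hx => ⟨hx.1.2, hx.2⟩
  have h3 : Cfsg.omegaOne p (Subgroup.centralizer (Cfsg.thompsonSubgroup p S : Set S)) ≤
      sInf (Cfsg.maxElementaryAbelianSubgroups p S) := (Subgroup.closure_le _).mpr fun x hx => key x hx.2 hx.1
  exact ⟨le_antisymm h1 (h2.trans h3), le_antisymm h2 (h3.trans h1)⟩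

end Cfsg.Agent.S0655
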