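import Cfsg.Statements.S0657
import Cfsg.Agent.Lib.Solv.QuadraticStable
import Cfsg.Agent.Lib.Solv.Coprime

set_option autoImplicit false
open scoped Pointwise
open Cfsg

namespace Cfsg.Agent.S0657

/-- For odd p, a group that fails to be p-stable modulo its largest normal subgroup of order prime to p, and whose upper p-series does not stop there, has a section isomorphic to SL(2, p). -/
theorem result {G : Type*} [Group G] [Finite G] {p : ℕ} [Fact p.Prime] (hp : p ≠ 2) (hO : Cfsg.pPrimeCore p G < Cfsg.pPrimePCore p G) (hns : ¬ Cfsg.IsPStable p (G ⧸ Cfsg.pPrimeCore p G)) : ∃ (K L : Subgroup G) (hL : (L.subgroupOf K).Normal), K ≤ ⊤ ∧ Nonempty ((K ⧸ L.subgroupOf K) ≃* Matrix.SpecialLinearGroup (Fin 2) (ZMod p)) := by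
  by_contra hno
  apply hns
  have hfree : ¬ Agent.Solv.Quad.InvSL p (G ⧸ Cfsg.pPrimeCore p G) := fun h => hno
    (((h.of_surjective (QuotientGroup.mk' _) (QuotientGroup.mk'_surjective _)).of_surjective
      (Subgroup.topEquiv : (⊤ : Subgroup G) ≃* G).toMonoidHom (Subgroup.topEquiv).surjective).section_subgroup)
  refine ⟨(Fact.out : p.Prime).odd_of_ne_two hp, ?_, ?_⟩
  · intro hbot
    rw [Cfsg.pPrimePCore, hbot] at hO
    exact hO.ne (by simp [MonoidHom.comap_bot])
  · intro A P hA hP hnorm _ hn hq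
    have hbot : Cfsg.pPrimeCore p (G ⧸ Cfsg.pPrimeCore p G) = ⊥ := Agent.Solv.pPrimeCore_quotient_pPrimeCore p
    rw [hbot, bot_sup_eq] at hn
    haveI := hn
    rintro _ ⟨⟨a, haN⟩, haA, rfl⟩
    set X := Subgroup.normalizer (P : Set (G ⧸ Cfsg.pPrimeCore p G))
    let φ : X →* MulAut P := MulAut.conjNormal.comp X.subtype
    refine Agent.Solv.Quad.mk_mem_pCore hp (fun h => hfree h.of_subgroup) hP φ _ ?_
      (a := ⟨a, haN⟩) ?_
    · intro x hx
      have h1 : (x : G ⧸ Cfsg.pPrimeCore p G) ∈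
          (MulAut.conjNormal : G ⧸ Cfsg.pPrimeCore p G →* MulAut P).ker := hx
      rw [Agent.Solv.Quad.ker_conjNormal] at h1
      exact h1
    · refine Agent.Solv.Quad.quadGrp_conjNormal P (a := a) (le_bot_iff.mp ?_)
      rw [← hq]
      exact Subgroup.commutator_mono (Subgroup.commutator_mono le_rfl (Subgroup.zpowers_le.mpr haA))
        (Subgroup.zpowers_le.mpr haA)

end Cfsg.Agent.S0657
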