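import Cfsg.Statements.S0660
import Cfsg.Agent.Lib.Solv.Coprime

set_option autoImplicit false
open Cfsg

namespace Cfsg.Agent.S0660

/-- Under a coprime action on an abelian group, an invariant subgroup that is complemented admits an invariant complement. -/
theorem result {G : Type*} [Group G] [Finite G] (V A U : Subgroup G) (hVab : IsMulCommutative V) (hAV : A ≤ Subgroup.normalizer (V : Set G)) (hcop : (Nat.card A).Coprime (Nat.card V)) (hUV : U ≤ V) (hAU : A ≤ Subgroup.normalizer (U : Set G)) (W : Subgroup G) (hWV : W ≤ V) (hUW : U ⊓ W = ⊥) (hUWV : U ⊔ W = V) : ∃ W' : Subgroup G, W' ≤ V ∧ A ≤ Subgroup.normalizer (W' : Set G) ∧ U ⊓ W' = ⊥ ∧ U ⊔ W' = V := by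
  have hVn : V ⊔ A ≤ Subgroup.normalizer (V : Set G) := sup_le Subgroup.le_normalizer hAV
  have hUn : V ⊔ A ≤ Subgroup.normalizer (U : Set G) := by
    refine sup_le (fun v hv => Subgroup.centralizer_le_normalizer _ ?_) hAU
    exact fun u hu => congrArg Subtype.val (hVab.is_comm.comm (⟨u, hUV hu⟩ : V) ⟨v, hv⟩)
  haveI : (U.subgroupOf (V ⊔ A)).Normal := Subgroup.normal_subgroupOf_of_le_normalizer hUn
  have hUL : U ≤ V ⊔ A := hUV.trans le_sup_left
  haveI : IsMulCommutative U :=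
    ⟨⟨fun a b => Subtype.ext (show (a : G) * b = b * a from congrArg Subtype.val (hVab.is_comm.comm (⟨a, hUV a.2⟩ : V) ⟨b, hUV b.2⟩))⟩⟩
  have hidx : (V.subgroupOf (V ⊔ A)).index = Nat.card A := by
    have e := (V.subgroupOf (V ⊔ A)).card_mul_index
    rw [Cfsg.Agent.Solv.card_subgroupOf le_sup_left,
      Cfsg.Agent.Solv.card_sup_of_coprime hAV hcop.symm] at e
    exact Nat.eq_of_mul_eq_mul_left Nat.card_pos e
  obtain ⟨H, hH⟩ := Cfsg.Agent.Solv.gaschutz_exists (U.subgroupOf (V ⊔ A)) (V.subgroupOf (V ⊔ A))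
    (fun x hx => hUV hx)
    (by rw [hidx, Cfsg.Agent.Solv.card_subgroupOf hUL]
        exact (hcop.coprime_dvd_right (Subgroup.card_dvd_of_le hUV)).symm)
    (W.subgroupOf (V ⊔ A)) (fun x hx => hWV hx)
    (by rw [eq_bot_iff]
        intro x hx
        have : (x : G) ∈ U ⊓ W := ⟨hx.2, hx.1⟩
        rw [hUW, Subgroup.mem_bot] at this
        exact Subtype.ext this)
    (by rw [← Subgroup.subgroupOf_sup hUL (hWV.trans le_sup_left), hUWV])
  refine ⟨H.map (V ⊔ A).subtype ⊓ V, inf_le_right, ?_, ?_, ?_⟩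
  · refine Cfsg.Agent.Solv.le_normalizer_of_conj_mem fun a ha x hx => ?_
    obtain ⟨⟨y, hy, hyx⟩, hxV⟩ := hx
    have hmem : (⟨a, Subgroup.mem_sup_right ha⟩ : ↥(V ⊔ A)) ∈ U.subgroupOf (V ⊔ A) ⊔ H := by
      rw [hH.sup_eq_top]; trivial
    obtain ⟨u, hu, h, hh, huh⟩ := Subgroup.mem_sup_of_normal_left.mp hmem
    have hau : a = (u : G) * h := (congrArg Subtype.val huh).symm
    have hz : (h : G) * x * (h : G)⁻¹ ∈ V := by
      have : (h : G) ∈ Subgroup.normalizer (V : Set G) := hVn h.2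
      exact (Subgroup.mem_normalizer_iff.mp this x).mp hxV
    have hconj : a * x * a⁻¹ = (h : G) * x * (h : G)⁻¹ := by
      have hcomm : (u : G) * ((h : G) * x * (h : G)⁻¹) = (h : G) * x * (h : G)⁻¹ * u :=
        congrArg Subtype.val (hVab.is_comm.comm (⟨u, hUV hu⟩ : V) ⟨_, hz⟩)
      calc a * x * a⁻¹ = (u : G) * ((h : G) * x * (h : G)⁻¹) * (u : G)⁻¹ := by rw [hau]; group
        _ = (h : G) * x * (h : G)⁻¹ := by rw [hcomm]; group
    rw [hconj]
    exact ⟨⟨h * y * h⁻¹, H.mul_mem (H.mul_mem hh hy) (H.inv_mem hh), by simp [← hyx]⟩, hz⟩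
  · rw [eq_bot_iff]
    rintro x ⟨hxU, ⟨y, hy, rfl⟩, -⟩
    have : y ∈ U.subgroupOf (V ⊔ A) ⊓ H := ⟨hxU, hy⟩
    rw [disjoint_iff.mp hH.disjoint, Subgroup.mem_bot] at this
    simp [this]
  · refine le_antisymm (sup_le hUV inf_le_right) fun v hv => ?_
    have hmem : (⟨v, Subgroup.mem_sup_left hv⟩ : ↥(V ⊔ A)) ∈ U.subgroupOf (V ⊔ A) ⊔ H := by
      rw [hH.sup_eq_top]; trivial
    obtain ⟨u, hu, h, hh, huh⟩ := Subgroup.mem_sup_of_normal_left.mp hmem
    have hvu : v = (u : G) * h := (congrArg Subtype.val huh).symm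
    rw [hvu]
    refine Subgroup.mul_mem_sup hu ⟨⟨h, hh, rfl⟩, ?_⟩
    have := V.mul_mem (V.inv_mem (hUV hu)) hv
    simpa [hvu] using this

end Cfsg.Agent.S0660
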