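import Cfsg.Statements.S0661
import Cfsg.Agent.Lib.Solv.Coprime
import Cfsg.Agent.Lib.Local.QuotientLocal

set_option autoImplicit false
open scoped Pointwise
open Cfsg

namespace Cfsg.Agent.S0661

/-- If, modulo the largest normal subgroup of order prime to p, the largest normal p-subgroup contains its centralizer, then for every p-subgroup P the p'-core of N_G(P) is just O_p'(G) ∩ N_G(P). -/
theorem result {G : Type*} [Group G] [Finite G] {p : ℕ} [Fact p.Prime] (hc : Subgroup.centralizer (Cfsg.pCore p (G ⧸ Cfsg.pPrimeCore p G) : Set (G ⧸ Cfsg.pPrimeCore p G)) ≤ Cfsg.pCore p (G ⧸ Cfsg.pPrimeCore p G)) (P : Subgroup G) (hP : IsPGroup p P) : (Cfsg.pPrimeCore p ↥(Subgroup.normalizer (P : Set G))).map (Subgroup.normalizer (P : Set G)).subtype = Cfsg.pPrimeCore p G ⊓ Subgroup.normalizer (P : Set G) := by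
  set N := Subgroup.normalizer (P : Set G) with hN
  set O := Cfsg.pPrimeCore p G with hO
  set f := QuotientGroup.mk' O with hf
  set K := (Cfsg.pPrimeCore p ↥N).map N.subtype with hK
  have hKc : (Nat.card K).Coprime p := by
    rw [hK, Subgroup.card_map_of_injective N.subtype_injective]; exact Solv.card_pPrimeCore_coprime p N
  refine le_antisymm (le_inf ?_ (Subgroup.map_subtype_le _)) ?_
  · have hNK : N ≤ Subgroup.normalizer (K : Set G) := by
      rw [hK]
      exact (Subgroup.le_normalizer_map N.subtype).trans' (by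
        rw [Subgroup.normalizer_eq_top, ← MonoidHom.range_eq_map, Subgroup.range_subtype])
    set Q := Cfsg.pCore p (G ⧸ O) with hQdef
    have hQp : IsPGroup p Q := Solv.isPGroup_pCore p _
    have hPc : P.map f ≤ Subgroup.centralizer (K.map f : Set (G ⧸ O)) := by
      rw [← Subgroup.commutator_eq_bot_iff_le_centralizer, ← Subgroup.map_commutator]
      rw [Subgroup.map_eq_bot_iff]
      refine le_trans ?_ bot_le
      rw [← Solv.inf_eq_bot_of_isPGroup hP hKc]
      refine le_inf ?_ ?_
      · exact (Subgroup.commutator_mono le_rfl (Subgroup.map_subtype_le _)).trans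
          (Subgroup.le_normalizer_iff_commutator_le_left.mp le_rfl)
      · exact Subgroup.le_normalizer_iff_commutator_le_right.mp
          (Subgroup.le_normalizer.trans hNK)
    have hQn : ∀ H : Subgroup (G ⧸ O), H ≤ Subgroup.normalizer (Q : Set (G ⧸ O)) := fun H => by
      rw [Subgroup.normalizer_eq_top_iff.mpr inferInstance]; exact le_top
    have hKmc : (Nat.card (K.map f)).Coprime p := hKc.coprime_dvd_left (Subgroup.card_map_dvd _ f)
    have h1 := Solv.thompson_pq p (P.map f) (K.map f) Q (hP.map f) hKmc hQp hPc (hQn _) (hQn _) ?_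
    · have h2 : K.map f ≤ Q ⊓ K.map f := le_inf (h1.trans hc) le_rfl
      rw [Solv.inf_eq_bot_of_isPGroup hQp hKmc, le_bot_iff, Subgroup.map_eq_bot_iff, hf,
        QuotientGroup.ker_mk'] at h2
      exact h2
    · rintro y ⟨hyQ, hyP⟩
      have hyN : y ∈ Subgroup.normalizer (K.map f : Set (G ⧸ O)) := by
        refine Subgroup.le_normalizer_map f (Subgroup.map_mono hNK ?_)
        rw [hN, hf, Local.map_normalizer_eq hP O (Solv.card_pPrimeCore_coprime p G)]
        exact Subgroup.centralizer_le_normalizer _ hyP
      have h3 : ⁅Subgroup.zpowers y, K.map f⁆ = ⊥ := by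
        rw [eq_bot_iff, ← Solv.inf_eq_bot_of_isPGroup hQp hKmc]
        refine le_inf ?_ ?_
        · exact (Subgroup.commutator_mono (Subgroup.zpowers_le.mpr hyQ) le_rfl).trans
            (Subgroup.le_normalizer_iff_commutator_le_left.mp (hQn _))
        · exact Subgroup.le_normalizer_iff_commutator_le_right.mp (Subgroup.zpowers_le.mpr hyN)
      exact Subgroup.commutator_eq_bot_iff_le_centralizer.mp h3 (Subgroup.mem_zpowers y)
  · intro x hx
    refine Subgroup.mem_map_of_mem N.subtype (Solv.le_pPrimeCore ?_
      (show (⟨x, hx.2⟩ : N) ∈ O.subgroupOf N from hx.1))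
    refine (Solv.card_pPrimeCore_coprime p G).coprime_dvd_left ?_
    rw [← Subgroup.card_map_of_injective (f := N.subtype) N.subtype_injective, Subgroup.subgroupOf_map_subtype]
    exact Subgroup.card_dvd_of_le inf_le_left

end Cfsg.Agent.S0661
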