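import Cfsg.Statements.S0663
import Cfsg.Agent.Lib.Solv.NormalPComplement
import Mathlib

set_option autoImplicit false
open Cfsg

namespace Cfsg.Agent.S0663

open scoped commutatorElement

/-- A p-group acts uniserially on a p-group N of order p^n exactly when the iterated commutator chain from N has length n; in that case the chain terms are all the invariant subgroups of N and they are normal in N. -/
theorem result {L : Type*} [Group L] [Finite L] {p : ℕ} [Fact p.Prime] (N G : Subgroup L) (hN : IsPGroup p N) (hG : IsPGroup p G) (hGN : G ≤ Subgroup.normalizer (N : Set L)) (n : ℕ) (hn : Nat.card N = p ^ n) : ((∀ H : Subgroup L, H ≤ N → G ≤ Subgroup.normalizer (H : Set L) → H ≠ ⊥ → (⁅H, G⁆).relIndex H = p) ↔ Cfsg.iterCommutator N G (n - 1) ≠ ⊥ ∨ n = 0) ∧ ((∀ H : Subgroup L, H ≤ N → G ≤ Subgroup.normalizer (H : Set L) → H ≠ ⊥ → (⁅H, G⁆).relIndex H = p) → ∀ H : Subgroup L, H ≤ N → G ≤ Subgroup.normalizer (H : Set L) → (∃ i ≤ n, H = Cfsg.iterCommutator N G i) ∧ N ≤ Subgroup.normalizer (H : Set L)) := by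
  classical
  have hp : p.Prime := Fact.out
  set K : ℕ → Subgroup L := Cfsg.iterCommutator N G with hKdef
  have hK0 : K 0 = N := rfl
  have hKs : ∀ i, K (i + 1) = ⁅K i, G⁆ := fun i => rfl
  have hstrict : ∀ U P : Subgroup L, IsPGroup p P → U ≤ P → P ≤ Subgroup.normalizer (U : Set L) → U ≠ ⊥ → ⁅U, P⁆ < U :=
    fun U P hP hle hn hb => Cfsg.Agent.Solv.commutator_lt_of_isNilpotent hP.isNilpotent hle hn hb
  have hlt : ∀ U : Subgroup L, U ≤ N → G ≤ Subgroup.normalizer (U : Set L) → U ≠ ⊥ → ⁅U, G⁆ < U := by
    intro U hUN hn hb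
    have hM : IsPGroup p (U ⊔ G : Subgroup L) := (hN.to_le hUN).to_sup_of_normal_left' hG hn
    exact lt_of_le_of_lt (Subgroup.commutator_mono le_rfl le_sup_right)
      (hstrict U _ hM le_sup_left (sup_le Subgroup.le_normalizer hn) hb)
  have hKb : ∀ i, K i ≤ N ∧ G ≤ Subgroup.normalizer (K i : Set L) := by
    intro i
    induction i with
    | zero => exact ⟨le_rfl, hGN⟩
    | succ i ih =>
      have hle : K (i + 1) ≤ K i := Subgroup.le_normalizer_iff_commutator_le_left.1 ih.2
      refine ⟨hle.trans ih.1, Subgroup.le_normalizer_iff_commutator_le_left.2 ?_⟩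
      rw [hKs]
      exact Subgroup.commutator_mono hle le_rfl
  have hanti : ∀ i, K (i + 1) ≤ K i := fun i => Subgroup.le_normalizer_iff_commutator_le_left.1 (hKb i).2
  have hanti' : ∀ i j, i ≤ j → K j ≤ K i := fun i j hij => (antitone_nat_of_succ_le hanti) hij
  have hpow : ∀ U : Subgroup L, U ≤ N → ∃ a, Nat.card U = p ^ a := fun U hU => IsPGroup.iff_card.1 (hN.to_le hU)
  have hdrop : ∀ i, K i ≠ ⊥ → Nat.card (K (i + 1)) * p ≤ Nat.card (K i) := by
    intro i hb
    have hl := hlt _ (hKb i).1 (hKb i).2 hb
    obtain ⟨a, ha⟩ := hpow _ (hKb i).1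
    obtain ⟨b, hb'⟩ := hpow _ (hKb (i + 1)).1
    have hdvd := Subgroup.card_dvd_of_le (hanti i)
    rw [ha, hb'] at hdvd ⊢
    have hab := (Nat.pow_dvd_pow_iff_le_right hp.one_lt).1 hdvd
    rw [← hKs] at hl
    have hne : b ≠ a := fun e => hl.ne (Subgroup.eq_of_le_of_card_ge (hanti i) (by rw [ha, hb', e]))
    rw [← pow_succ]
    exact Nat.pow_le_pow_right hp.pos (by omega)
  have hup : ∀ i, K i = ⊥ ∨ Nat.card (K i) * p ^ i ≤ p ^ n := by
    intro i
    induction i with
    | zero => right; rw [pow_zero, mul_one, hK0, hn]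
    | succ i ih =>
      by_cases hb : K (i + 1) = ⊥
      · exact Or.inl hb
      right
      have hb' : K i ≠ ⊥ := fun e => hb (le_bot_iff.1 (e ▸ hanti i))
      rw [pow_succ', ← mul_assoc]
      exact (Nat.mul_le_mul_right _ (hdrop i hb')).trans (ih.resolve_left hb')
  have hrel : ∀ A B : Subgroup L, A ≤ B → A.relIndex B * Nat.card A = Nat.card B := fun A B h => by
    rw [Subgroup.relIndex, mul_comm, ← Nat.card_congr (Subgroup.subgroupOfEquivOfLe h).toEquiv]
    exact Subgroup.card_mul_index _
  -- the exact orders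
  have hcards : (K (n - 1) ≠ ⊥ ∨ n = 0) → ∀ i ≤ n, Nat.card (K i) = p ^ (n - i) := by
    intro h
    rcases Nat.eq_zero_or_pos n with hn0 | hn0
    · intro i hi
      have : i = 0 := by omega
      rw [this, hK0, hn, Nat.sub_zero]
    have hb : K (n - 1) ≠ ⊥ := h.resolve_right (by omega)
    have hlow : ∀ j, j ≤ n - 1 → p ^ (j + 1) ≤ Nat.card (K (n - 1 - j)) := by
      intro j hj
      induction j with
      | zero =>
        obtain ⟨a, ha⟩ := hpow _ (hKb (n - 1)).1
        rw [Nat.sub_zero, ha]
        refine Nat.pow_le_pow_right hp.pos ?_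
        rcases a with _ | a
        · exact absurd (Subgroup.card_eq_one.1 (by rw [ha, pow_zero])) hb
        · omega
      | succ j ih =>
        have e : n - 1 - j = n - 1 - (j + 1) + 1 := by omega
        have hb' : K (n - 1 - (j + 1)) ≠ ⊥ := fun e' => hb (le_bot_iff.1 (e' ▸ hanti' _ _ (by omega)))
        refine le_trans ?_ (hdrop _ hb')
        rw [pow_succ, ← e]
        exact Nat.mul_le_mul_right _ (ih (by omega))
    intro i hi
    rcases Nat.lt_or_ge i n with hin | hin
    · have hb' : K i ≠ ⊥ := fun e => hb (le_bot_iff.1 (e ▸ hanti' i (n - 1) (by omega)))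
      have h1 := hlow (n - 1 - i) (by omega)
      rw [show n - 1 - (n - 1 - i) = i by omega, show n - 1 - i + 1 = n - i by omega] at h1
      have h2 := (hup i).resolve_left hb'
      rw [show p ^ n = p ^ (n - i) * p ^ i by rw [← pow_add, Nat.sub_add_cancel hi]] at h2
      exact le_antisymm (Nat.le_of_mul_le_mul_right h2 (pow_pos hp.pos i)) h1
    · have hin' : i = n := by omega
      subst hin'
      rw [Nat.sub_self, pow_zero]
      have h3 := hdrop (i - 1) hb
      rw [Nat.sub_add_cancel hn0] at h3
      have h2 := (hup (i - 1)).resolve_left hb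
      have h4 : Nat.card (K i) * p ^ i ≤ p ^ i := by
        calc Nat.card (K i) * p ^ i = Nat.card (K i) * p * p ^ (i - 1) := by rw [mul_assoc, ← pow_succ', Nat.sub_add_cancel hn0]
          _ ≤ Nat.card (K (i - 1)) * p ^ (i - 1) := Nat.mul_le_mul_right _ h3
          _ ≤ p ^ i := h2
      have h5 : Nat.card (K i) * p ^ i ≤ 1 * p ^ i := by rw [one_mul]; exact h4
      exact le_antisymm (Nat.le_of_mul_le_mul_right h5 (pow_pos hp.pos i)) Nat.card_pos
  -- from the chain to uniseriality
  have hmain : (K (n - 1) ≠ ⊥ ∨ n = 0) → ∀ H : Subgroup L, H ≤ N → G ≤ Subgroup.normalizer (H : Set L) →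
      (∃ i ≤ n, H = K i) ∧ N ≤ Subgroup.normalizer (H : Set L) := by
    intro h
    have hc := hcards h
    have hbn : K n = ⊥ := Subgroup.card_eq_one.1 (by rw [hc n le_rfl, Nat.sub_self, pow_zero])
    have hidx : ∀ i < n, (K (i + 1)).relIndex (K i) = p := fun i hi => by
      have h1 := hrel _ _ (hanti i)
      rw [hc i hi.le, hc (i + 1) hi, show n - i = n - (i + 1) + 1 by omega, pow_succ'] at h1
      exact Nat.eq_of_mul_eq_mul_right (pow_pos hp.pos _) h1
    have hP : IsPGroup p (N ⊔ G : Subgroup L) := hN.to_sup_of_normal_left' hG hGN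
    have hnorm : ∀ i, i ≤ n → N ⊔ G ≤ Subgroup.normalizer (K i : Set L) := by
      intro i
      induction i with
      | zero => intro _; exact sup_le Subgroup.le_normalizer hGN
      | succ i ih =>
        intro hi
        have hb' : K i ≠ ⊥ := fun e => by
          have := hc i (by omega)
          rw [e, Subgroup.card_bot] at this
          exact (Nat.one_lt_pow (by omega) hp.one_lt).ne this
        have hl := hstrict (K i) _ hP ((hKb i).1.trans le_sup_left) (ih (by omega)) hb'
        have hle : K (i + 1) ≤ ⁅K i, N ⊔ G⁆ := Subgroup.commutator_mono le_rfl le_sup_right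
        have heq : K (i + 1) = ⁅K i, N ⊔ G⁆ := by
          refine Subgroup.eq_of_le_of_card_ge hle ?_
          obtain ⟨a, ha⟩ := hpow _ (hl.le.trans (hKb i).1)
          have hd := Subgroup.card_dvd_of_le hl.le
          rw [ha, hc i (by omega)] at hd
          rw [ha, hc (i + 1) hi]
          have := (Nat.pow_dvd_pow_iff_le_right hp.one_lt).1 hd
          have hne : a ≠ n - i := fun e => hl.ne (Subgroup.eq_of_le_of_card_ge hl.le (by rw [ha, hc i (by omega), e]))
          exact Nat.pow_le_pow_right hp.pos (by omega)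
        rw [heq, Subgroup.le_normalizer_iff_commutator_le_left]
        exact Subgroup.commutator_mono hl.le le_rfl
    intro H hH hHG
    obtain ⟨i, hin, hi⟩ : ∃ i ≤ n, H ≤ K i ∧ (i < n → ¬ H ≤ K (i + 1)) := by
      refine ⟨Nat.findGreatest (fun i => H ≤ K i) n, Nat.findGreatest_le n, Nat.findGreatest_spec (P := fun i => H ≤ K i) (Nat.zero_le n) hH, fun hlt' hle => ?_⟩
      exact Nat.findGreatest_is_greatest (P := fun i => H ≤ K i) (Nat.lt_succ_self _) hlt' hle
    obtain ⟨hHi, hmax⟩ := hi
    have heq : H = K i := by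
      rcases Nat.lt_or_ge i n with hlt' | hge
      swap
      · have hin' : i = n := by omega
        subst hin'
        rw [hbn] at hHi ⊢
        exact le_bot_iff.1 hHi
      -- every member of the chain below `K i` lies in `H` times the next one
      have hdesc : ∀ d, i + d < n → K (i + d) ≤ H ⊔ K (i + d + 1) := by
        intro d
        induction d with
        | zero =>
          intro _
          show K i ≤ H ⊔ K (i + 1)
          have hle : H ⊔ K (i + 1) ≤ K i := sup_le hHi (hanti i)
          obtain ⟨a, ha⟩ := hpow _ (hle.trans (hKb i).1)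
          have hne : a ≠ n - (i + 1) := fun e => hmax hlt'
            (le_sup_left.trans (Subgroup.eq_of_le_of_card_ge (le_sup_right : K (i + 1) ≤ H ⊔ K (i + 1)) (by rw [ha, hc (i + 1) hlt', e])).ge)
          have h1 := Subgroup.card_dvd_of_le hle
          have h2 := Subgroup.card_dvd_of_le (le_sup_right : K (i + 1) ≤ H ⊔ K (i + 1))
          rw [ha, hc i hlt'.le] at h1
          rw [ha, hc (i + 1) hlt'] at h2
          have h3 := (Nat.pow_dvd_pow_iff_le_right hp.one_lt).1 h1
          have h4 := (Nat.pow_dvd_pow_iff_le_right hp.one_lt).1 h2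
          refine (Subgroup.eq_of_le_of_card_ge hle ?_).ge
          rw [ha, hc i hlt'.le]
          exact Nat.pow_le_pow_right hp.pos (by omega)
        | succ d ihd =>
          intro hd
          show K (i + d + 1) ≤ H ⊔ K (i + d + 1 + 1)
          rw [hKs (i + d), Subgroup.commutator_le]
          intro x hx g hg
          have hx' := ihd (by omega) hx
          have hHn : H ≤ Subgroup.normalizer (K (i + d + 1) : Set L) := (hH.trans le_sup_left).trans (hnorm _ (by omega))
          rw [← SetLike.mem_coe, Subgroup.coe_mul_of_left_le_normalizer_right _ _ hHn] at hx'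
          obtain ⟨a, ha, b, hb, rfl⟩ := hx'
          show ⁅a * b, g⁆ ∈ _
          rw [show ⁅a * b, g⁆ = a * ⁅b, g⁆ * a⁻¹ * ⁅a, g⁆ by simp only [commutatorElement_def]; group]
          refine mul_mem (mul_mem (mul_mem (Subgroup.mem_sup_left ha) (Subgroup.mem_sup_right ?_)) (inv_mem (Subgroup.mem_sup_left ha))) (Subgroup.mem_sup_left ?_)
          · rw [hKs]; exact Subgroup.commutator_mem_commutator hb hg
          · exact (Subgroup.le_normalizer_iff_commutator_le_left.1 hHG) (Subgroup.commutator_mem_commutator ha hg)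
      have hall : ∀ e, e ≤ n - i → K (n - e) ≤ H := by
        intro e
        induction e with
        | zero => intro _; rw [Nat.sub_zero, hbn]; exact bot_le
        | succ e ihe =>
          intro he
          have h1 := hdesc (n - (e + 1) - i) (by omega)
          rw [show i + (n - (e + 1) - i) = n - (e + 1) by omega, show n - (e + 1) + 1 = n - e by omega] at h1
          exact h1.trans (sup_le le_rfl (ihe (by omega)))
      refine le_antisymm hHi ?_
      have := hall (n - i) le_rfl
      rwa [show n - (n - i) = i by omega] at this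
    refine ⟨⟨i, hin, heq⟩, ?_⟩
    rw [heq]
    exact le_sup_left.trans (hnorm i hin)
  have hback : (K (n - 1) ≠ ⊥ ∨ n = 0) → ∀ H : Subgroup L, H ≤ N → G ≤ Subgroup.normalizer (H : Set L) → H ≠ ⊥ → (⁅H, G⁆).relIndex H = p := by
    intro h H hH hHG hHb
    obtain ⟨i, hi, rfl⟩ := (hmain h H hH hHG).1
    have hc := hcards h
    have hi' : i < n := by
      rcases Nat.lt_or_ge i n with h' | h'
      · exact h'
      · exfalso
        apply hHb
        have hin' : i = n := by omega
        exact Subgroup.card_eq_one.1 (by rw [hc i hi, hin', Nat.sub_self, pow_zero])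
    have h1 := hrel _ _ (hanti i)
    rw [hc i hi'.le, hc (i + 1) hi', show n - i = n - (i + 1) + 1 by omega, pow_succ'] at h1
    exact Nat.eq_of_mul_eq_mul_right (pow_pos hp.pos _) h1
  have hfwd : (∀ H : Subgroup L, H ≤ N → G ≤ Subgroup.normalizer (H : Set L) → H ≠ ⊥ → (⁅H, G⁆).relIndex H = p) →
      (K (n - 1) ≠ ⊥ ∨ n = 0) := by
    intro h
    rcases Nat.eq_zero_or_pos n with hn0 | hn0
    · exact Or.inr hn0
    left
    have : ∀ i, i ≤ n → Nat.card (K i) = p ^ (n - i) := by
      intro i
      induction i with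
      | zero => intro _; rw [hK0, hn, Nat.sub_zero]
      | succ i ih =>
        intro hi
        have hb : K i ≠ ⊥ := fun e => by
          have := ih (by omega)
          rw [e, Subgroup.card_bot] at this
          exact (Nat.one_lt_pow (by omega) hp.one_lt).ne this
        have h1 := hrel _ _ (hanti i)
        rw [hKs i] at h1
        rw [h _ (hKb i).1 (hKb i).2 hb, ih (by omega), show n - i = n - (i + 1) + 1 by omega, pow_succ'] at h1
        exact Nat.eq_of_mul_eq_mul_left hp.pos h1
    intro e
    have h1 := this (n - 1) (by omega)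
    rw [e, Subgroup.card_bot] at h1
    exact (Nat.one_lt_pow (by omega) hp.one_lt).ne h1
  exact ⟨⟨hfwd, hback⟩, fun h => hmain (hfwd h)⟩

end Cfsg.Agent.S0663
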