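import Cfsg.Statements.S0666
import Cfsg.Agent.Lib.Solv.AbelianAction
import Cfsg.Agent.Lib.Struct.Frobenius
import Cfsg.Agent.Lib.Solv.Misc

set_option autoImplicit false
open scoped Pointwise
open Cfsg

namespace Cfsg.Agent.S0666

/-- A Frobenius group acting on a nontrivial abelian group of order prime to that of its kernel, with the kernel acting without nontrivial fixed points, has a complement with a nontrivial fixed point. -/
theorem result {G : Type*} [Group G] [Finite G] (V F : Subgroup G) (hVab : IsMulCommutative V) (hV1 : V ≠ ⊥) (hFV : F ≤ Subgroup.normalizer (V : Set G)) (H : Subgroup ↥F) (hH : Cfsg.IsFrobeniusComplement H) (hcop : (Nat.card V).Coprime (Nat.card (Cfsg.frobeniusKernel H))) (hCK : V ⊓ Subgroup.centralizer (Subtype.val '' Cfsg.frobeniusKernel H : Set G) = ⊥) : V ⊓ Subgroup.centralizer ((H.map F.subtype : Subgroup G) : Set G) ≠ ⊥ := by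
  classical
  haveI := Fintype.ofFinite F
  haveI := hVab
  letI : CommGroup V := { (inferInstance : Group V) with mul_comm := fun a b => mul_comm' a b }
  obtain ⟨K, hKset, hKn, hKc⟩ := Cfsg.Agent.Struct.Frobenius.exists_kernel hH
  haveI := Fintype.ofFinite K
  rw [← hKset] at hcop hCK
  intro hCH
  let φ : F →* MulAut V := Cfsg.Agent.Solv.conjHom F V hFV
  let B : Option K → Subgroup F := fun o => o.elim K fun k => MulAut.conj (k : F) • H
  have hpart : ∀ a : F, a ≠ 1 → ∃! i, a ∈ B i := by
    intro a ha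
    have huniq : ∀ k k' : K, a ∈ MulAut.conj (k : F) • H → a ∈ MulAut.conj (k' : F) • H → k = k' := by
      intro k k' h h'
      rw [Cfsg.Agent.Struct.Frobenius.mem_conj_smul] at h h'
      have hm := Cfsg.Agent.Struct.Frobenius.mem_of_conj_mem hH h
        (fun e => ha (by
          calc a = (k : F) * ((k : F)⁻¹ * a * k) * (k : F)⁻¹ := by group
            _ = 1 := by rw [e]; group))
        (g := (k : F)⁻¹ * k') (by simpa [mul_assoc] using h')
      have h1 := Subgroup.disjoint_def.mp hKc.disjoint (K.mul_mem (K.inv_mem k.2) k'.2) hm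
      exact Subtype.ext (inv_mul_eq_one.mp h1)
    by_cases hk : a ∈ K
    · refine ⟨none, hk, fun o ho => ?_⟩
      cases o with
      | none => rfl
      | some k =>
        have hk' : a ∈ Cfsg.frobeniusKernel H := hKset ▸ hk
        rcases hk' with h1 | h1
        · exact absurd h1 ha
        · exact absurd ho (h1 _)
    · have hk' : a ∉ Cfsg.frobeniusKernel H := hKset ▸ hk
      obtain ⟨-, g, hg⟩ := Cfsg.Agent.Struct.Frobenius.notMem_kernel.mp hk'
      obtain ⟨k, hk1, h, hh, rfl⟩ := Subgroup.mem_sup_of_normal_left.mp (hKc.sup_eq_top ▸ Subgroup.mem_top g)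
      have hak : a ∈ MulAut.conj k • H := by
        rw [Cfsg.Agent.Struct.Frobenius.mem_conj_smul]
        have := H.mul_mem (H.mul_mem hh hg) (H.inv_mem hh)
        simpa [mul_assoc] using this
      refine ⟨some ⟨k, hk1⟩, hak, fun o ho => ?_⟩
      cases o with
      | none => exact absurd ho hk
      | some k' => exact congrArg some (huniq k' ⟨k, hk1⟩ ho hak)
  have hfix : ∀ (L : Subgroup F) (w : V), (∀ b ∈ L, φ b w = w) →
      (w : G) ∈ Subgroup.centralizer ((L.map F.subtype : Subgroup G) : Set G) := by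
    intro L w hw
    rw [Subgroup.mem_centralizer_iff]
    rintro _ ⟨b, hb, rfl⟩
    have h1 : (b : G) * w * (b : G)⁻¹ = w := by
      rw [← Cfsg.Agent.Solv.conjHom_apply F V hFV b w]; exact congrArg Subtype.val (hw b hb)
    exact mul_inv_eq_iff_eq_mul.mp h1
  have hK1 : ∀ w : V, (∀ b ∈ K, φ b w = w) → w = 1 := by
    intro w hw
    have h : (w : G) ∈ V ⊓ Subgroup.centralizer (Subtype.val '' (K : Set F) : Set G) := by
      refine ⟨w.2, ?_⟩
      have := hfix K w hw
      rwa [Subgroup.coe_map, Subgroup.coe_subtype] at this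
    rw [hCK, Subgroup.mem_bot] at h
    exact Subtype.ext h
  have hB : ∀ i, ∀ w : V, (∀ b ∈ B i, φ b w = w) → w = 1 := by
    intro i w hw
    cases i with
    | none => exact hK1 w hw
    | some k =>
      have h2 : ∀ b ∈ H, φ b (φ (k : F)⁻¹ w) = φ (k : F)⁻¹ w := by
        intro b hb
        have h3 := hw ((k : F) * b * (k : F)⁻¹)
          (by show _ ∈ MulAut.conj (k : F) • H; rw [Cfsg.Agent.Struct.Frobenius.mem_conj_smul]; simpa [mul_assoc] using hb)
        have h4 := congrArg (φ (k : F)⁻¹) h3
        simpa [map_mul, map_inv] using h4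
      have h5 : ((φ (k : F)⁻¹ w : V) : G) ∈ V ⊓ Subgroup.centralizer ((H.map F.subtype : Subgroup G) : Set G) :=
        ⟨(φ (k : F)⁻¹ w).2, hfix H _ h2⟩
      rw [hCH, Subgroup.mem_bot] at h5
      exact (φ (k : F)⁻¹).injective ((Subtype.ext h5).trans (map_one _).symm)
  have hall : ∀ v : V, v = 1 := by
    intro v
    have h := Cfsg.Agent.Solv.pow_eq_one_of_partition φ B hpart hB
      (fun w hw => hK1 w fun b _ => hw b) v
    rw [Fintype.card_option, Nat.add_sub_cancel] at h
    refine orderOf_eq_one_iff.mp (Nat.eq_one_of_dvd_coprimes hcop (orderOf_dvd_natCard v) ?_)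
    refine (orderOf_dvd_of_pow_eq_one h).trans (dvd_of_eq ?_)
    rw [← Nat.card_eq_fintype_card]
    rfl
  exact hV1 (eq_bot_iff.mpr fun v hv => Subgroup.mem_bot.mpr (congrArg Subtype.val (hall ⟨v, hv⟩)))

end Cfsg.Agent.S0666
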