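import Cfsg.Statements.S0667
import Cfsg.Agent.Lib.Solv.ZJApps

set_option autoImplicit false
open scoped Pointwise
open Cfsg

namespace Cfsg.Agent.S0667

/-- Glauberman's Theorem in the p-constrained, p-stable vocabulary: for odd p such a group is the product of its largest normal subgroup of order prime to p with the normalizer of Z(J(P)), and Z(J(P)) is normal when that p'-subgroup is trivial. -/
theorem result {G : Type*} [Group G] [Finite G] {p : ℕ} [Fact p.Prime] (hp : p ≠ 2) (hc : Cfsg.IsPConstrained p G) (hs : Cfsg.IsPStable p G) (P : Sylow p G) : Cfsg.pPrimeCore p G ⊔ Subgroup.normalizer (Cfsg.centerThompsonAOf ((P : Subgroup G)) : Set G) = ⊤ ∧ (Cfsg.pPrimeCore p G = ⊥ → (Cfsg.centerThompsonAOf ((P : Subgroup G))).Normal) := by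
  rw [← Agent.Solv.ZJ.zj_zero]
  set O := Cfsg.pPrimeCore p G with hO
  set π := QuotientGroup.mk' O with hπdef
  set Pb := P.mapSurjective (QuotientGroup.mk'_surjective O) with hPb
  haveI hZb := Agent.Solv.ZJ.zj_normal (e := 0) hp (Agent.Solv.ZJ.stab_quotient hs)
    (Agent.Local.ClassTwo.centralizer_pCore_le_of_isPConstrained hc) Pb
  set Z := Agent.Solv.ZJ.zj 0 (P : Subgroup G) with hZdef
  have hbot : (P : Subgroup G) ⊓ O = ⊥ :=
    Agent.Solv.inf_eq_bot_of_isPGroup P.isPGroup' (Agent.Solv.card_pPrimeCore_coprime p G)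
  have hinj : Function.Injective (π.comp (P : Subgroup G).subtype) := by
    rw [← MonoidHom.ker_eq_bot_iff, eq_bot_iff]
    intro x hx
    have h1 : (x : G) ∈ (P : Subgroup G) ⊓ O := ⟨x.2, (QuotientGroup.eq_one_iff _).mp hx⟩
    rw [hbot, Subgroup.mem_bot] at h1
    exact Subgroup.mem_bot.mpr (Subtype.ext h1)
  have hmapZ : Z.map π = Agent.Solv.ZJ.zj 0 (Pb : Subgroup (G ⧸ O)) := by
    have e1 : (Pb : Subgroup (G ⧸ O)) = (⊤ : Subgroup (P : Subgroup G)).map (π.comp (P : Subgroup G).subtype) := by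
      rw [← Subgroup.map_map, ← MonoidHom.range_eq_map, Subgroup.range_subtype]
      rfl
    have e2 : Z = (Agent.Solv.ZJ.zj 0 (⊤ : Subgroup (P : Subgroup G))).map (P : Subgroup G).subtype := by
      rw [← Agent.Solv.ZJ.zj_map _ (P : Subgroup G).subtype_injective, ← MonoidHom.range_eq_map,
        Subgroup.range_subtype]
    rw [e1, Agent.Solv.ZJ.zj_map _ hinj, e2, Subgroup.map_map]
  set M := (Z.map π).comap π with hMdef
  haveI hMn : M.Normal := by
    rw [hMdef, hmapZ]; infer_instance
  have hZM : Z ≤ M := Subgroup.le_comap_map π Z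
  have hMeq : M = O ⊔ Z := by
    rw [hMdef, Subgroup.comap_map_eq, QuotientGroup.ker_mk', sup_comm]
  have hZP : Z ≤ (P : Subgroup G) := Agent.Solv.ZJ.zj_le _ _
  have hidx : ¬ p ∣ Z.relIndex M := by
    have h1 : Z.relIndex M = Nat.card O := by
      have hn : Z ≤ Subgroup.normalizer (O : Set G) := by rw [Subgroup.normalizer_eq_top]; exact le_top
      have h2 := Agent.Solv.card_sup_mul_card_inf O Z hn
      rw [le_bot_iff.mp ((inf_le_inf_left O hZP).trans (inf_comm O (P : Subgroup G) ▸ hbot).le),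
        Subgroup.card_bot, mul_one, ← hMeq] at h2
      have h3 := (Z.subgroupOf M).card_mul_index
      rw [Agent.Solv.card_subgroupOf hZM, h2, mul_comm (Nat.card O)] at h3
      exact Nat.eq_of_mul_eq_mul_left Nat.card_pos h3
    rw [h1]
    exact (Fact.out : p.Prime).coprime_iff_not_dvd.mp (Agent.Solv.card_pPrimeCore_coprime p G).symm
  let PM : Sylow p M :=
    ((P.isPGroup'.to_le hZP).of_equiv (Subgroup.subgroupOfEquivOfLe hZM).symm).toSylow hidx
  have hfr := Sylow.normalizer_sup_eq_top PM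
  rw [show (PM : Subgroup M).map M.subtype = Z from Subgroup.map_subgroupOf_eq_of_le hZM] at hfr
  have hmain : O ⊔ Subgroup.normalizer (Z : Set G) = ⊤ := by
    refine eq_top_iff.mpr (hfr ▸ sup_le le_sup_right ?_)
    rw [hMeq]
    exact sup_le le_sup_left (Subgroup.le_normalizer.trans le_sup_right)
  refine ⟨hmain, fun h1 => ?_⟩
  rw [h1, bot_sup_eq] at hmain
  exact Subgroup.normalizer_eq_top_iff.mp hmain

end Cfsg.Agent.S0667
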