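import Cfsg.Statements.S0668
import Mathlib

set_option autoImplicit false
open Cfsg

namespace Cfsg.Agent.S0668

---pre
open MulAction

/-- The equivariant linear maps between the permutation modules of two finite `G`-sets form a space whose dimension is the number of `G`-orbits on the product of the two sets. -/
theorem result {G : Type*} [Group G] {K : Type*} [Field K] {Ω₁ Ω₂ : Type*} [Fintype Ω₁] [Fintype Ω₂] [MulAction G Ω₁] [MulAction G Ω₂] : Module.finrank K ((Cfsg.permRep K G Ω₁).linHom (Cfsg.permRep K G Ω₂)).invariants = Nat.card (MulAction.orbitRel.Quotient G (Ω₁ × Ω₂)) := by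
  classical
  let e : ((Ω₁ → K) →ₗ[K] (Ω₂ → K)) ≃ₗ[K] Matrix Ω₂ Ω₁ K := LinearMap.toMatrix'
  let Q := MulAction.orbitRel.Quotient G (Ω₁ × Ω₂)
  let ρ := (Cfsg.permRep K G Ω₁).linHom (Cfsg.permRep K G Ω₂)
  have hsingle : ∀ (g : G) (x : Ω₁), Cfsg.permRep K G Ω₁ g (Pi.single x 1) = Pi.single (g • x) 1 := by
    intro g x; funext z
    show (Pi.single x 1 : Ω₁ → K) (g⁻¹ • z) = _
    simp only [Pi.single_apply, inv_smul_eq_iff]
  have hmem : ∀ L : (Ω₁ → K) →ₗ[K] (Ω₂ → K), L ∈ ρ.invariants ↔
      ∀ (g : G) x y, L (Pi.single (g • x) 1) (g • y) = L (Pi.single x 1) y := by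
    intro L
    constructor
    · intro h g x y
      have h1 := congrArg (fun M : (Ω₁ → K) →ₗ[K] (Ω₂ → K) => M (Pi.single (g • x) 1) (g • y)) (h g)
      simp only [ρ, Representation.linHom_apply, LinearMap.comp_apply, hsingle, inv_smul_smul] at h1
      rw [← h1]
      show L (Pi.single x 1) (g⁻¹ • g • y) = L (Pi.single x 1) y
      rw [inv_smul_smul]
    · intro h g
      refine LinearMap.pi_ext' fun x => LinearMap.ext_ring (funext fun y => ?_)
      simp only [ρ, Representation.linHom_apply, LinearMap.comp_apply, LinearMap.coe_single, hsingle]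
      show L (Pi.single (g⁻¹ • x) 1) (g⁻¹ • y) = _
      exact h g⁻¹ x y
  let fwd : ρ.invariants →ₗ[K] (Q → K) :=
    { toFun := fun L => Quotient.lift (fun z : Ω₁ × Ω₂ => (L : (Ω₁ → K) →ₗ[K] (Ω₂ → K)) (Pi.single z.1 1) z.2)
        (fun z w hzw => by
          obtain ⟨g, rfl⟩ := MulAction.orbitRel_apply.1 hzw
          exact (hmem L).1 L.2 g w.1 w.2)
      map_add' := fun L L' => funext fun q => by induction q using Quotient.ind with | _ z => rfl
      map_smul' := fun r L => funext fun q => by induction q using Quotient.ind with | _ z => rfl }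
  have hbij : Function.Bijective fwd := by
    constructor
    · intro L L' h
      refine Subtype.ext (LinearMap.pi_ext' fun x => LinearMap.ext_ring (funext fun y => ?_))
      exact congrFun h (Quotient.mk _ (x, y))
    · intro φ
      let L : (Ω₁ → K) →ₗ[K] (Ω₂ → K) := Matrix.toLin' (Matrix.of fun y x => φ (Quotient.mk _ (x, y)))
      have hL : ∀ x y, L (Pi.single x 1) y = φ (Quotient.mk _ (x, y)) := fun x y => by
        simp [L, Matrix.toLin'_apply, Matrix.mulVec_single]
      refine ⟨⟨L, (hmem L).2 fun g x y => ?_⟩, funext fun q => ?_⟩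
      · rw [hL, hL]
        exact congrArg φ (Quotient.sound ⟨g, rfl⟩)
      · induction q using Quotient.ind with | _ z =>
        exact hL z.1 z.2
  rw [(LinearEquiv.ofBijective fwd hbij).finrank_eq]
  let _ : Fintype Q := Fintype.ofFinite Q
  rw [Module.finrank_pi, Nat.card_eq_fintype_card]

end Cfsg.Agent.S0668
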