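import Cfsg.Statements.S0669
import Mathlib

set_option autoImplicit false
open Cfsg

namespace Cfsg.Agent.S0669

---pre
open MulAction

/-- The rank of a transitive action: orbits on ordered pairs correspond to orbits of a point stabiliser. -/
theorem result {G : Type*} [Group G] {Ω : Type*} [Finite Ω] [MulAction G Ω] [MulAction.IsPretransitive G Ω] (a : Ω) : Nat.card (MulAction.orbitRel.Quotient G (Ω × Ω)) = Nat.card (MulAction.orbitRel.Quotient (MulAction.stabilizer G a) Ω) := by
  symm
  let f : MulAction.orbitRel.Quotient (MulAction.stabilizer G a) Ω → MulAction.orbitRel.Quotient G (Ω × Ω) :=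
    Quotient.map (fun b => (a, b)) (by
      rintro x y ⟨⟨g, hg⟩, rfl⟩
      exact ⟨g, by show (g • a, g • y) = _; rw [MulAction.mem_stabilizer_iff.1 hg]; rfl⟩)
  refine Nat.card_congr (Equiv.ofBijective f ⟨?_, ?_⟩)
  · intro p q
    induction p using Quotient.ind with | _ x =>
    induction q using Quotient.ind with | _ y =>
    intro e
    obtain ⟨g, hg⟩ := Quotient.exact (s := MulAction.orbitRel G (Ω × Ω)) e
    obtain ⟨h1, h2⟩ := Prod.ext_iff.1 hg
    exact Quotient.sound ⟨⟨g, h1⟩, h2⟩
  · intro q
    induction q using Quotient.ind with | _ z =>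
    obtain ⟨g, hg⟩ := MulAction.exists_smul_eq G z.1 a
    refine ⟨Quotient.mk _ (g • z.2), Quotient.sound ⟨g, ?_⟩⟩
    show (g • z.1, g • z.2) = _
    rw [hg]

end Cfsg.Agent.S0669
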