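import Cfsg.Statements.S0670
import Mathlib

set_option autoImplicit false
open Cfsg

namespace Cfsg.Agent.S0670

---pre
open MulAction

/-- In characteristic `p`, the permutation module of a transitive action of degree `p ^ f` has the line of constant functions as its only irreducible submodule: every non-zero subrepresentation contains it. -/
theorem result {G : Type*} [Group G] [Finite G] {K : Type*} [Field K] {p f : ℕ} [Fact p.Prime] [CharP K p] {Ω : Type*} [Fintype Ω] [MulAction G Ω] [MulAction.IsPretransitive G Ω] (hf : 1 ≤ f) (hcard : Fintype.card Ω = p ^ f) (W : Subrepresentation (Cfsg.permRep K G Ω)) (hW : W.toSubmodule ≠ ⊥) : (Cfsg.permConstants K G Ω).toSubmodule ≤ W.toSubmodule := by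
  classical
  obtain ⟨w, hw, hw0⟩ := (Submodule.ne_bot_iff _).1 hW
  let P : Sylow p G := default
  -- `P` is transitive
  have htr : ∀ a : Ω, MulAction.orbit (P : Subgroup G) a = Set.univ := by
    intro a
    obtain ⟨j, hj⟩ := (P.isPGroup').card_orbit a
    have h1 : Nat.card (MulAction.orbit (P : Subgroup G) a) * Nat.card (stabilizer (P : Subgroup G) a) =
        Nat.card (P : Subgroup G) := by
      rw [← Nat.card_prod]; exact Nat.card_congr (MulAction.orbitProdStabilizerEquivGroup _ a)
    have h2 : Nat.card (stabilizer (P : Subgroup G) a) ∣ Nat.card (stabilizer G a) :=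
      Subgroup.card_dvd_of_injective
        (MonoidHom.codRestrict ((P : Subgroup G).subtype.comp (stabilizer (P : Subgroup G) a).subtype)
          (stabilizer G a) (fun x => x.2))
        (fun x y e => by have e2 := congrArg (fun z : stabilizer G a => (z : G)) e; exact Subtype.ext (Subtype.ext e2))
    have h3 : Nat.card G = p ^ f * Nat.card (stabilizer G a) := by
      rw [← hcard, ← Nat.card_eq_fintype_card, ← index_stabilizer_of_transitive G a, Subgroup.index_mul_card]
    obtain ⟨s, hs⟩ := (IsPGroup.iff_card.1 (P.isPGroup'.to_subgroup (stabilizer (P : Subgroup G) a)))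
    have hP := P.card_eq_multiplicity
    rw [hs] at h2
    have h4 : p ^ (f + s) ∣ Nat.card G := by rw [h3, pow_add]; exact mul_dvd_mul_left _ h2
    have h5 : f + s ≤ (Nat.card G).factorization p :=
      ((Fact.out : p.Prime).pow_dvd_iff_le_factorization Nat.card_pos.ne').1 h4
    rw [hP, hj, hs, ← pow_add] at h1
    have h6 := Nat.pow_right_injective (Fact.out : p.Prime).two_le h1
    refine Set.eq_univ_of_forall fun x => ?_
    by_contra hx
    have h7 : Nat.card (MulAction.orbit (P : Subgroup G) a) < Nat.card Ω :=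
      Finite.card_subtype_lt hx
    rw [hj, Nat.card_eq_fintype_card, hcard] at h7
    have := (Nat.pow_lt_pow_iff_right (Fact.out : p.Prime).one_lt).1 h7
    omega
  let _ := ZMod.algebra K p
  let ρ := Cfsg.permRep K G Ω
  let S : Submodule (ZMod p) (Ω → K) := Submodule.span (ZMod p) (Set.range fun g : G => ρ g w)
  have hSfin : Finite S := by
    have : Module.Finite (ZMod p) S := Module.Finite.span_of_finite _ (Set.finite_range _)
    exact Module.finite_of_finite (ZMod p)
  have hinv : ∀ (g : G) v, v ∈ S → ρ g v ∈ S := by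
    intro g v hv
    refine Submodule.span_induction ?_ ?_ ?_ ?_ hv
    · rintro _ ⟨f, rfl⟩
      refine Submodule.subset_span ⟨g * f, ?_⟩
      show ρ (g * f) w = _
      rw [map_mul]; rfl
    · rw [map_zero]; exact S.zero_mem
    · intro x y _ _ hx hy; rw [map_add]; exact add_mem hx hy
    · intro c x _ hx
      have : ρ g (c • x) = c • ρ g x := funext fun z => rfl
      rw [this]; exact S.smul_mem c hx
  have hSW : ∀ v ∈ S, v ∈ W.toSubmodule := by
    intro v hv
    refine Submodule.span_induction ?_ W.toSubmodule.zero_mem (fun x y _ _ hx hy => add_mem hx hy) ?_ hv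
    · rintro _ ⟨g, rfl⟩; exact W.apply_mem_toSubmodule g hw
    · intro c x _ hx
      have : c • x = (algebraMap (ZMod p) K c) • x := funext fun z => Algebra.smul_def c (x z)
      rw [this]; exact W.toSubmodule.smul_mem _ hx
  let _ : MulAction (P : Subgroup G) S :=
    { smul := fun g v => ⟨ρ g v, hinv g v v.2⟩
      one_smul := fun v => Subtype.ext (by show ρ ((1 : (P : Subgroup G)) : G) v.1 = v.1; rw [Subgroup.coe_one, map_one]; rfl)
      mul_smul := fun g h v => Subtype.ext (by show ρ ((g * h : (P : Subgroup G)) : G) v.1 = ρ g (ρ h v.1); rw [Subgroup.coe_mul, map_mul]; rfl) }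
  have hdvd : p ∣ Nat.card S := by
    rw [Module.natCard_eq_pow_finrank (K := ZMod p), Nat.card_zmod]
    have : Nontrivial S := ⟨⟨w, Submodule.subset_span ⟨1, by show ρ 1 w = w; rw [map_one]; rfl⟩⟩, 0,
      fun e => hw0 (congrArg Subtype.val e)⟩
    exact dvd_pow_self p (Module.finrank_pos (R := ZMod p) (M := S)).ne'
  obtain ⟨v, hv, hv0⟩ := P.isPGroup'.exists_fixed_point_of_prime_dvd_card_of_fixed_point S hdvd
    (a := (0 : S)) (fun g => Subtype.ext (map_zero (ρ g)))
  obtain ⟨a⟩ : Nonempty Ω := Fintype.card_pos_iff.1 (by rw [hcard]; exact pow_pos (Fact.out : p.Prime).pos f)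
  have hconst : ∀ x, (v : Ω → K) x = (v : Ω → K) a := by
    intro x
    obtain ⟨g, hg⟩ : x ∈ MulAction.orbit (P : Subgroup G) a := by rw [htr]; trivial
    have h1 : (v : Ω → K) ((g : G)⁻¹ • x) = (v : Ω → K) x := congrFun (congrArg Subtype.val (hv g)) x
    rw [← h1, ← hg]
    exact congrArg _ (inv_smul_smul (g : G) a)
  have hva : (v : Ω → K) a ≠ 0 := fun h0 => hv0 (Subtype.ext (funext fun x => (hconst x).trans h0).symm)
  rw [Cfsg.permConstants, Submodule.span_le]
  rintro _ rfl
  have : (fun _ => 1 : Ω → K) = ((v : Ω → K) a)⁻¹ • (v : Ω → K) := funext fun x => by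
    rw [Pi.smul_apply, hconst x, smul_eq_mul, inv_mul_cancel₀ hva]
  rw [this]
  exact W.toSubmodule.smul_mem _ (hSW _ v.2)

end Cfsg.Agent.S0670
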