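import Cfsg.Statements.S0671
import Mathlib
import Cfsg.Agent.S0670

set_option autoImplicit false
open Cfsg

namespace Cfsg.Agent.S0671

---pre
open MulAction

/-- If the heart of the permutation module in characteristic `p` of a transitive action of degree `p ^ f` has no trivial composition factor, the action is doubly transitive. The hypothesis is phrased without composition series: no invariant subspaces `W < W'` between the constants and the sum-zero functions with trivial action on the quotient. -/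
theorem result {G : Type*} [Group G] [Finite G] {K : Type*} [Field K] {p f : ℕ} [Fact p.Prime] [CharP K p] {Ω : Type*} [Fintype Ω] [MulAction G Ω] [MulAction.IsPretransitive G Ω] (hf : 1 ≤ f) (hcard : Fintype.card Ω = p ^ f) (h : ∀ W W' : Subrepresentation (Cfsg.permRep K G Ω), (Cfsg.permConstants K G Ω).toSubmodule ≤ W.toSubmodule → W.toSubmodule < W'.toSubmodule → W'.toSubmodule ≤ (Cfsg.permSumZero K G Ω).toSubmodule → ∃ g : G, ∃ v ∈ W'.toSubmodule, Cfsg.permRep K G Ω g v - v ∉ W.toSubmodule) : MulAction.IsMultiplyPretransitive G Ω 2 := by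
  classical
  by_contra hn2
  let V := Ω → K
  let ρ := Cfsg.permRep K G Ω
  have hp := (Fact.out : p.Prime)
  have hcardK : ((Fintype.card Ω : ℕ) : K) = 0 := by
    rw [hcard, Nat.cast_pow, CharP.cast_eq_zero, zero_pow (by omega)]
  -- every nonzero invariant subspace contains the constants
  have hconst : ∀ (S : Submodule K (Ω → K)), (∀ g : G, ∀ v ∈ S, ρ g v ∈ S) → S ≠ ⊥ →
      (Cfsg.permConstants K G Ω).toSubmodule ≤ S := fun S hS hne =>
    Cfsg.Agent.S0670.result hf hcard ⟨S, fun g v hv => hS g v hv⟩ hne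
  have hsumρ : ∀ (g : G) (v : Ω → K), ∑ x, ρ g v x = ∑ x, v x := fun g v =>
    Fintype.sum_equiv (MulAction.toPerm g⁻¹) _ _ (fun x => rfl)
  -- every proper invariant subspace lies in the sum-zero functions
  have hsub : ∀ (S : Submodule K (Ω → K)), (∀ g : G, ∀ v ∈ S, ρ g v ∈ S) → S ≠ ⊤ →
      ∀ v ∈ S, ∑ x, v x = 0 := by
    intro S hS hne v hv
    let T : Submodule K (Ω → K) :=
      { carrier := {u | ∀ w ∈ S, ∑ x, u x * w x = 0}
        add_mem' := fun {u u'} hu hu' w hw => by
          simp only [Pi.add_apply, add_mul, Finset.sum_add_distrib, hu w hw, hu' w hw, add_zero]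
        zero_mem' := fun w _ => by simp
        smul_mem' := fun c u hu w hw => by
          simp only [Pi.smul_apply, smul_eq_mul, mul_assoc, ← Finset.mul_sum, hu w hw, mul_zero] }
    have hT : ∀ g : G, ∀ u ∈ T, ρ g u ∈ T := by
      intro g u hu w hw
      rw [← hu _ (hS g⁻¹ w hw)]
      refine Fintype.sum_equiv (MulAction.toPerm g⁻¹) _ _ fun x => ?_
      show u (g⁻¹ • x) * w x = u (g⁻¹ • x) * w (g⁻¹⁻¹ • g⁻¹ • x)
      rw [inv_inv, smul_inv_smul]
    have hT0 : T ≠ ⊥ := by
      obtain ⟨φ, hφ0, hφ⟩ := Submodule.exists_le_ker_of_lt_top S (lt_top_iff_ne_top.2 hne)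
      intro hbot
      apply hφ0
      have hmem : (fun x => φ (Pi.single x 1)) ∈ T := fun w hw => by
        have h1 : φ w = ∑ x, φ (Pi.single x 1) * w x := by
          conv_lhs => rw [pi_eq_sum_univ' w]
          rw [map_sum]
          exact Finset.sum_congr rfl fun x _ => by rw [map_smul, smul_eq_mul, mul_comm]
        rw [← h1]; exact hφ hw
      rw [hbot, Submodule.mem_bot] at hmem
      refine LinearMap.ext fun w => ?_
      rw [pi_eq_sum_univ' w, map_sum]
      refine Finset.sum_eq_zero fun x _ => ?_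
      rw [map_smul, show φ (Pi.single x 1) = 0 from congrFun hmem x, smul_zero]
    have h1 : (fun _ => 1 : Ω → K) ∈ T := hconst T hT hT0 (Submodule.mem_span_singleton_self _)
    simpa using h1 v hv
  obtain ⟨a⟩ : Nonempty Ω := Fintype.card_pos_iff.1 (by rw [hcard]; exact pow_pos hp.pos f)
  let O : Ω → Finset Ω := fun b => Finset.univ.filter fun y => ∃ g : G, g • a = a ∧ g • b = y
  have memO : ∀ b y, y ∈ O b ↔ ∃ g : G, g • a = a ∧ g • b = y := fun b y => by simp [O]
  obtain ⟨b, hb, hbp⟩ : ∃ b : Ω, b ≠ a ∧ ¬ p ∣ (O b).card := by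
    by_contra hno
    push Not at hno
    have hsum := Finset.card_eq_sum_card_image O (Finset.univ.erase a)
    have hdiv : p ∣ (Finset.univ.erase a).card := by
      rw [hsum]
      refine Finset.dvd_sum fun S hS => ?_
      obtain ⟨z, hz, rfl⟩ := Finset.mem_image.1 hS
      have hz' : z ≠ a := Finset.ne_of_mem_erase hz
      have he : (Finset.univ.erase a).filter (fun y => O y = O z) = O z := by
        ext y
        rw [Finset.mem_filter, Finset.mem_erase]
        constructor
        · rintro ⟨-, h⟩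
          rw [← h, memO]
          exact ⟨1, one_smul G a, one_smul G y⟩
        · intro h
          obtain ⟨g, hga, hgy⟩ := (memO z y).1 h
          refine ⟨⟨fun e => hz' (MulAction.injective g (hgy.trans (e.trans hga.symm))), Finset.mem_univ y⟩, ?_⟩
          ext w
          rw [memO, memO]
          constructor
          · rintro ⟨g', h1, h2⟩; exact ⟨g' * g, by rw [mul_smul, hga, h1], by rw [mul_smul, hgy, h2]⟩
          · rintro ⟨g', h1, h2⟩
            exact ⟨g' * g⁻¹, by rw [mul_smul, inv_smul_eq_iff.2 hga.symm, h1], by rw [mul_smul, ← hgy, inv_smul_smul, h2]⟩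
      rw [he]; exact hno z hz'
    rw [Finset.card_erase_of_mem (Finset.mem_univ a), Finset.card_univ, hcard] at hdiv
    have h1 : p ∣ p ^ f := dvd_pow_self p (by omega)
    have h2 : p ^ f = (p ^ f - 1) + 1 := by have := pow_pos hp.pos f; omega
    rw [h2] at h1
    exact hp.one_lt.ne' (Nat.dvd_one.1 ((Nat.dvd_add_right hdiv).1 h1))
  obtain ⟨c, hc, hbc⟩ : ∃ c : Ω, c ≠ a ∧ ∀ g : G, g • a = a → g • b ≠ c := by
    by_contra hno
    push Not at hno
    apply hn2
    rw [is_two_pretransitive_iff]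
    intro x y z w hxy hzw
    obtain ⟨h1, hh1⟩ := exists_smul_eq G x a
    obtain ⟨h2, hh2⟩ := exists_smul_eq G z a
    obtain ⟨g1, hg1a, hg1b⟩ := hno (h1 • y) (fun e => hxy (MulAction.injective h1 (hh1.trans e.symm)))
    obtain ⟨g2, hg2a, hg2b⟩ := hno (h2 • w) (fun e => hzw (MulAction.injective h2 (hh2.trans e.symm)))
    exact ⟨h2⁻¹ * (g2 * g1⁻¹) * h1,
      by rw [mul_smul, mul_smul, mul_smul, hh1, inv_smul_eq_iff.2 hg1a.symm, hg2a, inv_smul_eq_iff, hh2],
      by rw [mul_smul, mul_smul, mul_smul, ← hg1b, inv_smul_smul, hg2b, inv_smul_smul]⟩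
  let M : Ω → Ω → K := fun x y => if ∃ g : G, g • a = x ∧ g • b = y then 1 else 0
  have hM : ∀ (g : G) x y, M (g • x) (g • y) = M x y := by
    intro g x y
    have hh : (∃ f : G, f • a = g • x ∧ f • b = g • y) ↔ ∃ f : G, f • a = x ∧ f • b = y :=
      ⟨fun ⟨f, h1, h2⟩ => ⟨g⁻¹ * f, by rw [mul_smul, h1, inv_smul_smul], by rw [mul_smul, h2, inv_smul_smul]⟩,
       fun ⟨f, h1, h2⟩ => ⟨g * f, by rw [mul_smul, h1], by rw [mul_smul, h2]⟩⟩
    simp only [M, hh]
  let N : (Ω → K) →ₗ[K] (Ω → K) :=
    { toFun := fun v x => ∑ y, M x y * (v y - v x)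
      map_add' := fun v v' => funext fun x => by
        simp only [Pi.add_apply]; rw [← Finset.sum_add_distrib]; exact Finset.sum_congr rfl fun y _ => by ring
      map_smul' := fun r v => funext fun x => by
        simp only [Pi.smul_apply, smul_eq_mul, RingHom.id_apply]; rw [Finset.mul_sum]; exact Finset.sum_congr rfl fun y _ => by ring }
  have hN : ∀ v x, N v x = ∑ y, M x y * (v y - v x) := fun v x => rfl
  have hNρ : ∀ g v, N (ρ g v) = ρ g (N v) := by
    intro g v
    funext x
    show ∑ y, M x y * (v (g⁻¹ • y) - v (g⁻¹ • x)) = N v (g⁻¹ • x)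
    rw [hN]
    exact Fintype.sum_equiv (MulAction.toPerm g⁻¹) _ _ fun y => by
      show _ = M (g⁻¹ • x) (g⁻¹ • y) * _
      rw [hM]; rfl
  -- `N` kills nothing outside the sum-zero functions and its image is not constant
  have hrowsum : ∀ x, ∑ y, M x y = ((Finset.univ.filter fun y => ∃ g : G, g • a = a ∧ g • b = y).card : K) := by
    intro x
    obtain ⟨g, rfl⟩ := exists_smul_eq G a x
    rw [← Equiv.sum_comp (MulAction.toPerm g) (fun y => M (g • a) y)]
    simp only [MulAction.toPerm_apply, hM, M, Finset.sum_boole]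
  have hMac : M a c = 0 := if_neg fun ⟨g, h1, h2⟩ => hbc g h1 h2
  have hMcc : M c c = 0 := if_neg fun ⟨g, h1, h2⟩ => hb (MulAction.injective g (h2.trans h1.symm))
  -- the row sum is nonzero: otherwise an orbit of the stabiliser would be as large as a Sylow orbit
  have hnc : ∀ r : K, ∃ x y : Ω, ∃ v : Ω → K, N v x ≠ N v y := by
    intro r
    refine ⟨c, a, Pi.single c 1, ?_⟩
    rw [hN, hN]
    have h1 : ∑ y, M a y * ((Pi.single c 1 : Ω → K) y - (Pi.single c 1 : Ω → K) a) = M a c := by
      simp [Pi.single_apply, Ne.symm hc]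
    have h2 : ∑ y, M c y * ((Pi.single c 1 : Ω → K) y - (Pi.single c 1 : Ω → K) c) = -(∑ y, M c y) := by
      simp [Pi.single_apply, mul_sub, Finset.sum_sub_distrib, hMcc]
    rw [h1, h2, hMac, Ne, neg_eq_zero]
    rw [hrowsum, CharP.cast_eq_zero_iff K p]
    exact hbp
  obtain ⟨x0, y0, v0, hv0⟩ := hnc 0
  have hN0 : LinearMap.ker N ≠ ⊤ := by
    intro h
    have h1 : v0 ∈ LinearMap.ker N := by rw [h]; exact Submodule.mem_top
    rw [LinearMap.mem_ker] at h1
    exact hv0 (by rw [h1]; rfl)
  have hkinv : ∀ g : G, ∀ v ∈ LinearMap.ker N, ρ g v ∈ LinearMap.ker N := fun g v hv => by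
    rw [LinearMap.mem_ker] at hv ⊢; rw [hNρ, hv, map_zero]
  have hkS := hsub _ hkinv hN0
  let S0 := (Cfsg.permSumZero K G Ω).toSubmodule
  have memS0 : ∀ v, v ∈ S0 ↔ ∑ x, v x = 0 := fun v => Iff.rfl
  have himg : ∀ g : G, ∀ v ∈ LinearMap.range N, ρ g v ∈ LinearMap.range N := by
    rintro g _ ⟨v, rfl⟩; exact ⟨ρ g v, hNρ g v⟩
  have hone : N (fun _ => 1) = 0 := funext fun x => by rw [hN]; simp
  have hmapinv : ∀ g : G, ∀ v ∈ S0.map N, ρ g v ∈ S0.map N := by
    rintro g _ ⟨v, hv, rfl⟩
    exact ⟨ρ g v, (memS0 _).2 (by rw [hsumρ]; exact hv), hNρ g v⟩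
  let W : Subrepresentation ρ := ⟨S0.map N, fun g v hv => hmapinv g v hv⟩
  let W' : Subrepresentation ρ := ⟨LinearMap.range N, fun g v hv => himg g v hv⟩
  have hWne : S0.map N ≠ ⊥ := by
    intro h
    -- otherwise the image would be spanned by the image of a single point mass
    have hNS : ∀ v, ∑ x, v x = 0 → N v = 0 := fun v hv => by
      have : N v ∈ S0.map N := ⟨v, (memS0 _).2 hv, rfl⟩
      rwa [h, Submodule.mem_bot] at this
    let w := N (Pi.single a 1)
    have hw : ∀ v, N v = (∑ x, v x) • w := fun v => by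
      have h1 := hNS (v - (∑ x, v x) • Pi.single a 1) (by
        simp [Finset.sum_sub_distrib, ← Finset.mul_sum, Pi.single_apply])
      rw [map_sub, map_smul, sub_eq_zero] at h1
      exact h1
    have hw0 : w ≠ 0 := fun e => hv0 (by rw [hw v0, e, smul_zero]; rfl)
    have hspan : ∀ g : G, ∀ v ∈ Submodule.span K {w}, ρ g v ∈ Submodule.span K {w} := by
      intro g v hv
      obtain ⟨r, rfl⟩ := Submodule.mem_span_singleton.1 hv
      have h1 : ρ g w = w := by
        show ρ g (N _) = w
        rw [← hNρ, hw, hsumρ, Finset.sum_pi_single', if_pos (Finset.mem_univ a), one_smul]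
      rw [map_smul, h1]; exact hv
    have h2 : (fun _ => 1 : Ω → K) ∈ Submodule.span K {w} := hconst _ hspan (by rwa [Ne, Submodule.span_singleton_eq_bot]) (Submodule.mem_span_singleton_self _)
    obtain ⟨r, hr⟩ := Submodule.mem_span_singleton.1 h2
    have hr0 : r ≠ 0 := fun e => by
      have := congrFun hr a
      rw [e, zero_smul] at this
      exact one_ne_zero this.symm
    have hwc : ∀ z z', w z = w z' := fun z z' => by
      have e1 := congrFun hr z
      have e2 := congrFun hr z'
      simp only [Pi.smul_apply, smul_eq_mul] at e1 e2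
      exact mul_left_cancel₀ hr0 (e1.trans e2.symm)
    apply hv0
    rw [hw v0]
    simp [hwc x0 y0]
  have hlt : W.toSubmodule < W'.toSubmodule := by
    have hle0 : W.toSubmodule ≤ W'.toSubmodule := by
      rintro _ ⟨u, _, rfl⟩; exact ⟨u, rfl⟩
    refine lt_of_le_of_ne hle0 fun e => ?_
    have hmem : N (Pi.single a 1) ∈ S0.map N := by
      show _ ∈ W.toSubmodule
      rw [e]; exact ⟨_, rfl⟩
    obtain ⟨u, hu, hue⟩ := hmem
    have h1 := hkS (Pi.single a 1 - u) (by rw [LinearMap.mem_ker, map_sub, hue, sub_self])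
    rw [show ∑ x, (Pi.single a 1 - u : Ω → K) x = 1 by simp [Finset.sum_sub_distrib, (memS0 u).1 hu]] at h1
    exact one_ne_zero h1
  have hle : W'.toSubmodule ≤ (Cfsg.permSumZero K G Ω).toSubmodule := by
    rintro _ ⟨v, rfl⟩
    refine hsub _ himg (fun e => ?_) _ ⟨v, rfl⟩
    have hsurj : Function.Surjective N := LinearMap.range_eq_top.1 e
    have hinj : Function.Injective N := LinearMap.injective_iff_surjective.2 hsurj
    exact one_ne_zero (congrFun (hinj (hone.trans (map_zero N).symm)) a)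
  obtain ⟨g, v, hv, hgv⟩ := h W W' (hconst _ hmapinv hWne) hlt hle
  obtain ⟨u, rfl⟩ := hv
  exact hgv ⟨ρ g u - u, (memS0 _).2 (by simp [Finset.sum_sub_distrib, hsumρ]), by rw [map_sub, hNρ]⟩

end Cfsg.Agent.S0671
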