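import Cfsg.Statements.S0672
import Mathlib

set_option autoImplicit false
open Cfsg

namespace Cfsg.Agent.S0672

---pre
open scoped Pointwise

/-- Let a finite group act faithfully and doubly transitively with point stabilisers of even order, and let `K` have characteristic `p` dividing the degree. If the heart of the permutation module admits no non-zero equivariant map to the permutation module on unordered pairs (phrased: every intertwining map from the sum-zero functions vanishing on the constants is zero), the action is triply transitive. -/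
theorem result {G : Type*} [Group G] [Finite G] {K : Type*} [Field K] {p : ℕ} [Fact p.Prime] [CharP K p] {Ω : Type*} [Fintype Ω] [DecidableEq Ω] [MulAction G Ω] [FaithfulSMul G Ω] (h2 : MulAction.IsMultiplyPretransitive G Ω 2) (hp : p ∣ Fintype.card Ω) (heven : ∀ a : Ω, Even (Nat.card (MulAction.stabilizer G a))) (h : ∀ f : Representation.IntertwiningMap (Cfsg.permSumZero K G Ω).toRepresentation (Cfsg.permRep K G (Set.powersetCard Ω 2)), (∀ v : (Cfsg.permSumZero K G Ω).toSubmodule, (v : Ω → K) ∈ (Cfsg.permConstants K G Ω).toSubmodule → f v = 0) → f = 0) : MulAction.IsMultiplyPretransitive G Ω 3 := by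
  classical
  have ht : ∀ {a b c d : Ω}, a ≠ b → c ≠ d → ∃ g : G, g • a = c ∧ g • b = d :=
    MulAction.is_two_pretransitive_iff.mp h2
  -- every point outside a pair is moved to every other one by an element fixing the pair setwise
  have key : ∀ a b c e : Ω, a ≠ b → c ≠ a → c ≠ b → e ≠ a → e ≠ b →
      ∃ g : G, (g • a = a ∧ g • b = b ∨ g • a = b ∧ g • b = a) ∧ g • c = e := by
    intro a b c e hab hca hcb hea heb
    by_contra hcon
    let s₀ : Set.powersetCard Ω 2 := ⟨{a, b}, Set.powersetCard.mem_iff.2 (Finset.card_pair hab)⟩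
    let R : Set.powersetCard Ω 2 → Ω → Prop := fun s x => ∃ g : G, g • s₀ = s ∧ g • c = x
    have hRe : ¬ R s₀ e := by
      rintro ⟨g, hg, hge⟩
      apply hcon
      refine ⟨g, ?_, hge⟩
      have h1 : g • ({a, b} : Finset Ω) = ({a, b} : Finset Ω) := by
        rw [show ({a, b} : Finset Ω) = (s₀ : Finset Ω) from rfl, ← Set.powersetCard.coe_smul, hg]
      have ha : g • a ∈ ({a, b} : Finset Ω) := by
        rw [← h1]; exact Finset.smul_mem_smul_finset (by simp)
      have hb : g • b ∈ ({a, b} : Finset Ω) := by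
        rw [← h1]; exact Finset.smul_mem_smul_finset (by simp)
      simp only [Finset.mem_insert, Finset.mem_singleton] at ha hb
      have hne : g • a ≠ g • b := fun e => hab (MulAction.injective g e)
      grind
    have hRc : R s₀ c := ⟨1, one_smul _ _, one_smul _ _⟩
    have hRs : ∀ s x, R s x → x ∉ (s : Finset Ω) := by
      rintro s x ⟨g, rfl, rfl⟩
      rw [Set.powersetCard.coe_smul, Finset.smul_mem_smul_finset_iff]
      simp [s₀, hca, hcb]
    have hRg : ∀ (g : G) s x, R (g • s) (g • x) ↔ R s x := by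
      intro g s x
      constructor
      · rintro ⟨k, h1, h2⟩
        exact ⟨g⁻¹ * k, by rw [mul_smul, h1, inv_smul_smul], by rw [mul_smul, h2, inv_smul_smul]⟩
      · rintro ⟨k, h1, h2⟩
        exact ⟨g * k, by rw [mul_smul, h1], by rw [mul_smul, h2]⟩
    let A (α β : K) (s : Set.powersetCard Ω 2) (x : Ω) : K :=
      if x ∈ (s : Finset Ω) then α else if R s x then β else 0
    have hA : ∀ α β (g : G) s x, A α β (g • s) (g • x) = A α β s x := by
      intro α β g s x
      simp only [A, Set.powersetCard.coe_smul, Finset.smul_mem_smul_finset_iff, hRg]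
    set m := (Finset.univ.filter fun x => R s₀ x).card with hm
    have hsum : ∀ α β, ∑ x, A α β s₀ x = 2 * α + m * β := by
      intro α β
      have h1 : ∀ x, A α β s₀ x = (if x ∈ ({a, b} : Finset Ω) then α else 0) + if R s₀ x then β else 0 := by
        intro x
        simp only [A]
        by_cases hx : x ∈ (s₀ : Finset Ω)
        · rw [if_pos hx, if_pos (show x ∈ ({a, b} : Finset Ω) from hx), if_neg fun h => hRs _ _ h hx, add_zero]
        · rw [if_neg hx, if_neg (show x ∉ ({a, b} : Finset Ω) from hx), zero_add]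
      rw [Finset.sum_congr rfl fun x _ => h1 x, Finset.sum_add_distrib, Finset.sum_ite_mem,
        Finset.univ_inter, Finset.sum_pair hab, ← Finset.sum_filter, Finset.sum_const, ← hm, nsmul_eq_mul,
        two_mul]
    obtain ⟨α, β, h0, x, y, hxy⟩ : ∃ α β : K, 2 * α + m * β = 0 ∧ ∃ x y, A α β s₀ x ≠ A α β s₀ y := by
      have hc' : c ∉ (s₀ : Finset Ω) := hRs _ _ hRc
      have he' : e ∉ (s₀ : Finset Ω) := by simp [s₀, hea, heb]
      by_cases h2 : (2 : K) = 0
      · by_cases hm0 : (m : K) = 0
        · exact ⟨0, 1, by rw [hm0]; ring, c, e, by simp [A, hc', hRc, he', hRe]⟩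
        · exact ⟨1, 0, by rw [h2]; ring, a, e, by simp [A, he', hRe, s₀]⟩
      · exact ⟨-(m / 2), 1, by field_simp; ring, c, e, by simp [A, hc', hRc, he', hRe]⟩
    let L : (Cfsg.permSumZero K G Ω).toSubmodule →ₗ[K] (Set.powersetCard Ω 2 → K) :=
      { toFun := fun v s => ∑ x, A α β s x * (v : Ω → K) x
        map_add' := fun u v => funext fun s => by simp [mul_add, Finset.sum_add_distrib]
        map_smul' := fun k v => funext fun s => by simp [Finset.mul_sum, mul_left_comm] }
    let F : Representation.IntertwiningMap (Cfsg.permSumZero K G Ω).toRepresentation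
        (Cfsg.permRep K G (Set.powersetCard Ω 2)) :=
      LinearMap.intertwiningMap_of_isIntertwiningMap _ _ L fun g v => funext fun s => by
        show ∑ x, A α β s x * (v : Ω → K) (g⁻¹ • x) = ∑ x, A α β (g⁻¹ • s) x * (v : Ω → K) x
        refine Fintype.sum_equiv (MulAction.toPerm g⁻¹) _ _ fun x => ?_
        rw [MulAction.toPerm_apply, hA]
    have hF : F = 0 := by
      refine h F fun v hv => funext fun s => ?_
      obtain ⟨k, hk⟩ := Submodule.mem_span_singleton.mp hv
      show ∑ x, A α β s x * (v : Ω → K) x = 0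
      obtain ⟨p', q', hpq, hs⟩ := Finset.card_eq_two.mp (Set.powersetCard.card_eq s)
      obtain ⟨g, hg1, hg2⟩ := ht hab hpq
      have hgs : g • s₀ = s := Subtype.ext (by
        rw [Set.powersetCard.coe_smul, hs]
        show g • ({a, b} : Finset Ω) = _
        rw [Finset.smul_finset_insert, Finset.smul_finset_singleton, hg1, hg2])
      rw [← hk, ← hgs]
      simp only [Pi.smul_apply, smul_eq_mul, mul_one]
      rw [← Finset.sum_mul, ← Fintype.sum_equiv (MulAction.toPerm g) _ _ (fun x => (hA α β g s₀ x).symm),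
        hsum, h0, zero_mul]
    have hv : (Pi.single x 1 - Pi.single y 1 : Ω → K) ∈ (Cfsg.permSumZero K G Ω).toSubmodule := by
      show ∑ z, (Pi.single x 1 - Pi.single y 1 : Ω → K) z = 0
      simp [Finset.sum_sub_distrib]
    have h1 : ∑ z, A α β s₀ z * (Pi.single x 1 - Pi.single y 1 : Ω → K) z = 0 :=
      congrFun (congrArg (fun T => T.toLinearMap ⟨_, hv⟩) hF) s₀
    simp [mul_sub, Finset.sum_sub_distrib, Pi.single_apply, sub_eq_zero] at h1
    exact hxy h1
  -- hence fixing both points
  have key2 : ∀ a b c e : Ω, a ≠ b → c ≠ a → c ≠ b → e ≠ a → e ≠ b →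
      ∃ g : G, g • a = a ∧ g • b = b ∧ g • c = e := by
    intro a b c e hab hca hcb hea heb
    obtain ⟨t, ht'⟩ := exists_prime_orderOf_dvd_card' 2 (heven c).two_dvd
    have ht1 : t ≠ 1 := fun e => by simp [e] at ht'
    have htc : (t : G) • c = c := MulAction.mem_stabilizer_iff.mp t.2
    have htG : (t : G) ≠ 1 := fun e => ht1 (Subtype.ext e)
    obtain ⟨z, hz⟩ : ∃ z : Ω, (t : G) • z ≠ z := by
      by_contra hall
      push Not at hall
      exact htG (eq_of_smul_eq_smul fun z => by rw [hall z, one_smul])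
    have htt : (t : G) • (t : G) • z = z := by
      have h := pow_orderOf_eq_one t
      rw [ht', pow_two] at h
      rw [← mul_smul, show (t : G) * t = 1 from congrArg Subtype.val h, one_smul]
    obtain ⟨k, hk1, hk2⟩ := ht (Ne.symm hz) hab
    -- an element swapping `a` and `b` with a fixed point `w` outside
    set w := k • c with hw
    have hwa : w ≠ a := by
      rw [hw, ← hk1]; intro e
      have := MulAction.injective k e
      subst this; exact hz htc
    have hwb : w ≠ b := by
      rw [hw, ← hk2]; intro e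
      have := MulAction.injective k e
      have e1 : (t : G) • (t : G) • z = (t : G) • z := by rw [← this]; exact htc
      exact hz (by rw [htt] at e1; exact e1.symm)
    have hsw : ∀ c', c' ≠ a → c' ≠ b → ∃ g : G, g • a = b ∧ g • b = a ∧ g • c' = c' := by
      intro c' h1 h2
      obtain ⟨u, hu, huc⟩ := key a b w c' hab hwa hwb h1 h2
      have s1 : (k * t * k⁻¹) • a = b := by
        rw [← hk1, mul_smul, mul_smul, inv_smul_smul]; exact hk2
      have s2 : (k * t * k⁻¹) • b = a := by
        rw [← hk2, mul_smul, mul_smul, inv_smul_smul, htt]; exact hk1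
      have s3 : (k * t * k⁻¹) • w = w := by
        rw [hw, mul_smul, mul_smul, inv_smul_smul, htc]
      have hu' : u⁻¹ • c' = w := by rw [← huc, inv_smul_smul]
      refine ⟨u * (k * t * k⁻¹) * u⁻¹, ?_, ?_, by rw [mul_smul, mul_smul, hu', s3, huc]⟩
      · rcases hu with ⟨ua, ub⟩ | ⟨ua, ub⟩
        · rw [mul_smul, mul_smul, show u⁻¹ • a = a by rw [inv_smul_eq_iff, ua], s1, ub]
        · rw [mul_smul, mul_smul, show u⁻¹ • a = b by rw [inv_smul_eq_iff, ub], s2, ua]
      · rcases hu with ⟨ua, ub⟩ | ⟨ua, ub⟩
        · rw [mul_smul, mul_smul, show u⁻¹ • b = b by rw [inv_smul_eq_iff, ub], s2, ua]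
        · rw [mul_smul, mul_smul, show u⁻¹ • b = a by rw [inv_smul_eq_iff, ua], s1, ub]
    obtain ⟨g, hg | hg, hge⟩ := key a b c e hab hca hcb hea heb
    · exact ⟨g, hg.1, hg.2, hge⟩
    · obtain ⟨s, s1, s2, s3⟩ := hsw c hca hcb
      exact ⟨g * s, by rw [mul_smul, s1, hg.2], by rw [mul_smul, s2, hg.1], by rw [mul_smul, s3, hge]⟩
  refine ⟨fun x y => ?_⟩
  have hx : ∀ i j : Fin 3, i ≠ j → x i ≠ x j := fun i j h e => h (x.injective e)
  have hy : ∀ i j : Fin 3, i ≠ j → y i ≠ y j := fun i j h e => h (y.injective e)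
  obtain ⟨g, g1, g2⟩ := ht (hx 0 1 (by decide)) (hy 0 1 (by decide))
  have h20 : g • x 2 ≠ y 0 := fun e => hx 2 0 (by decide) (MulAction.injective g (e.trans g1.symm))
  have h21 : g • x 2 ≠ y 1 := fun e => hx 2 1 (by decide) (MulAction.injective g (e.trans g2.symm))
  obtain ⟨k, k1, k2, k3⟩ := key2 (y 0) (y 1) (g • x 2) (y 2) (hy 0 1 (by decide)) h20 h21
    (hy 2 0 (by decide)) (hy 2 1 (by decide))
  refine ⟨k * g, DFunLike.ext _ _ fun i => ?_⟩
  show (k * g) • x i = y i
  rw [mul_smul]
  fin_cases i
  · show k • g • x 0 = y 0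
    rw [g1, k1]
  · show k • g • x 1 = y 1
    rw [g2, k2]
  · exact k3

end Cfsg.Agent.S0672
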