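import Cfsg.Statements.S0673
import Mathlib
import Cfsg.Agent.Lib.Perm.PrimeDegree

set_option autoImplicit false
open Cfsg

namespace Cfsg.Agent.S0673

---pre
open Cfsg.Agent.Perm

/-- In characteristic `p`, the translation-invariant subspaces of the space of functions on `ZMod p` are exactly the spaces of polynomial functions of degree less than `r`, one for each `r ≤ p`, of dimension `r`. -/
theorem result {p : ℕ} [Fact p.Prime] {K : Type*} [Field K] [CharP K p] (W : Submodule K (ZMod p → K)) (hW : ∀ f ∈ W, (fun j => f (j - 1)) ∈ W) : ∃ r : ℕ, r ≤ p ∧ Module.finrank K W = r ∧ ∀ f : ZMod p → K, f ∈ W ↔ ∃ P : Polynomial K, P.degree < r ∧ ∀ j : ZMod p, f j = P.eval (ZMod.cast j : K) := by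
  have hplus : ∀ f ∈ W, (fun j => f (j + 1)) ∈ W := by
    have h : ∀ (n : ℕ) (f : ZMod p → K), f ∈ W → (fun j => f (j - n)) ∈ W := by
      intro n
      induction n with
      | zero => intro f hf; simpa using hf
      | succ n ih =>
        intro f hf
        have h1 := hW _ (ih f hf)
        have e : (fun j : ZMod p => f (j - ((n + 1 : ℕ) : ZMod p))) = fun j => f (j - 1 - n) := by
          funext j; congr 1; push_cast; ring
        rw [e]; exact h1
    intro f hf
    have h1 := h (p - 1) f hf
    have e : (fun j : ZMod p => f (j - ((p - 1 : ℕ) : ZMod p))) = fun j => f (j + 1) := by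
      funext j; congr 1
      rw [Nat.cast_sub (Fact.out : p.Prime).one_le, ZMod.natCast_self]; push_cast; ring
    rwa [e] at h1
  obtain ⟨hle, hWe⟩ := eq_polyBelow W hplus
  refine ⟨_, hle, rfl, fun f => ?_⟩
  conv_lhs => rw [hWe]
  rw [mem_polyBelow]
  refine exists_congr fun P => and_congr_right fun _ => ⟨fun h j => ?_, fun h => funext fun j => ?_⟩
  · rw [← h]; rfl
  · exact (h j).symm

end Cfsg.Agent.S0673
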