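import Cfsg.Statements.S0674
import Mathlib
import Cfsg.Agent.Lib.Perm.PrimeDegree

set_option autoImplicit false
open Cfsg

namespace Cfsg.Agent.S0674

---pre
open Cfsg.Agent.Perm

/-- Let `G` be a non-solvable transitive permutation group of prime degree `p` and `K` a field of characteristic `p`. Then the heart of the permutation module is irreducible: an invariant subspace containing the constants and contained in the sum-zero functions is one or the other. -/
theorem result {α : Type*} [Fintype α] [DecidableEq α] {p : ℕ} [Fact p.Prime] (hα : Fintype.card α = p) (G : Subgroup (Equiv.Perm α)) [MulAction.IsPretransitive G α] (hG : ¬ Group.IsSolvable G) {K : Type*} [Field K] [CharP K p] (W : Subrepresentation (Cfsg.permRep K G α)) (h₁ : (Cfsg.permConstants K G α).toSubmodule ≤ W.toSubmodule) (h₂ : W.toSubmodule ≤ (Cfsg.permSumZero K G α).toSubmodule) : W = Cfsg.permConstants K G α ∨ W = Cfsg.permSumZero K G α := by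
  classical
  by_contra hne
  push Not at hne
  obtain ⟨e, g, hg⟩ := exists_coord hα G
  have hp := (Fact.out : p.Prime)
  let L : (α → K) ≃ₗ[K] (ZMod p → K) := LinearEquiv.funCongrLeft K K e
  have hL : ∀ f j, L f j = f (e j) := fun f j => rfl
  let W' : Submodule K (ZMod p → K) := W.toSubmodule.map L.toLinearMap
  have memW' : ∀ f, f ∈ W' ↔ (fun x => f (e.symm x)) ∈ W.toSubmodule := by
    intro f
    constructor
    · rintro ⟨w, hw, rfl⟩
      have : (fun x => L.toLinearMap w (e.symm x)) = w := funext fun x => by
        show w (e (e.symm x)) = w x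
        rw [e.apply_symm_apply]
      rwa [this]
    · intro h
      exact ⟨_, h, funext fun j => by show f (e.symm (e j)) = f j; rw [e.symm_apply_apply]⟩
  let π : G →* Equiv.Perm (ZMod p) :=
    { toFun := fun h => e.trans (((h : Equiv.Perm α)).trans e.symm)
      map_one' := Equiv.ext fun j => by simp
      map_mul' := fun x y => Equiv.ext fun j => by simp }
  have hπ : ∀ (h : G) j, e (π h j) = (h : Equiv.Perm α) (e j) := fun h j => by simp [π]
  have hinv : ∀ (h : G), ∀ f ∈ W', (fun j => f (π h j)) ∈ W' := by
    intro h f hf
    rw [memW'] at hf ⊢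
    have h1 := W.apply_mem_toSubmodule h⁻¹ hf
    have e1 : Cfsg.permRep K G α h⁻¹ (fun x => f (e.symm x)) = fun x => f (π h (e.symm x)) := by
      funext x
      show f (e.symm (h⁻¹⁻¹ • x)) = _
      rw [inv_inv]
      congr 1
      rw [Equiv.symm_apply_eq, hπ, e.apply_symm_apply]
      rfl
    rwa [e1] at h1
  have hshift : ∀ f ∈ W', (fun j => f (j + 1)) ∈ W' := by
    intro f hf
    have e1 : (fun j => f (j + 1)) = fun j => f (π g j) := by
      funext j; congr 1
      apply e.injective
      rw [hπ, hg]
    rw [e1]; exact hinv g f hf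
  obtain ⟨hle, hWe⟩ := eq_polyBelow W' hshift
  set r := Module.finrank K W' with hr
  have hrW : Module.finrank K W.toSubmodule = r := (LinearEquiv.finrank_map_eq L _).symm
  have hmap : ∀ (S : Submodule K (ZMod p → K)) (T : Submodule K (α → K)), (∀ f, f ∈ T ↔ L f ∈ S) →
      Module.finrank K T = Module.finrank K S := by
    intro S T h
    have : T.map L.toLinearMap = S := by
      ext v
      constructor
      · rintro ⟨w, hw, rfl⟩; exact (h w).1 hw
      · intro hv; exact ⟨L.symm v, (h _).2 (by rwa [L.apply_symm_apply]), L.apply_symm_apply v⟩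
    rw [← this]; exact (LinearEquiv.finrank_map_eq L T).symm
  have hz : Module.finrank K (Cfsg.permSumZero K G α).toSubmodule = p - 1 := by
    rw [hmap (polyBelow (p - 1)) _ (fun f => ?_), finrank_polyBelow (by omega)]
    rw [mem_polyBelow_pred]
    constructor
    · intro h
      rw [show ∑ j, L f j = ∑ x, f x from Equiv.sum_comp e f]
      exact h
    · intro h
      show ∑ x, f x = 0
      rw [← Equiv.sum_comp e f]
      exact h
  have hone : Module.finrank K (Cfsg.permConstants K G α).toSubmodule = 1 := by
    refine finrank_span_singleton ?_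
    intro h0
    obtain ⟨a⟩ : Nonempty α := ⟨e 0⟩
    exact one_ne_zero (congrFun h0 a)
  have h1 : (Cfsg.permConstants K G α).toSubmodule < W.toSubmodule :=
    lt_of_le_of_ne h₁ fun h => hne.1 (Subrepresentation.toSubmodule_injective h.symm)
  have h2 : W.toSubmodule < (Cfsg.permSumZero K G α).toSubmodule :=
    lt_of_le_of_ne h₂ fun h => hne.2 (Subrepresentation.toSubmodule_injective h)
  have hr2 := Submodule.finrank_lt_finrank_of_lt h1
  have hrp := Submodule.finrank_lt_finrank_of_lt h2
  apply hG
  refine isSolvable_of_affine π (fun x y h => Subtype.ext (Equiv.ext fun a => ?_)) fun h j => ?_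
  · obtain ⟨j, rfl⟩ := e.surjective a
    rw [← hπ, ← hπ, h]
  · refine affine_of_invariant (K := K) (r := r) (by omega) (by omega) (π h) (fun f hf => ?_) (fun f hf => ?_) j
    · rw [← hWe] at hf ⊢
      exact hinv h f hf
    · rw [← hWe] at hf ⊢
      have h5 := hinv h⁻¹ f hf
      rwa [map_inv] at h5

end Cfsg.Agent.S0674
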