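import Cfsg.Statements.S0678
import Cfsg.Agent.S0675
import Cfsg.Agent.Lib.Inv.CyclicSylow
import Mathlib.GroupTheory.GroupAction.Jordan
import Mathlib.GroupTheory.SpecificGroups.Alternating.Simple

set_option autoImplicit false
open Cfsg

namespace Cfsg.Agent.S0678

open MulAction Equiv.Perm

theorem solvable_of_quot {G : Type*} [Group G] (N : Subgroup G) [N.Normal] [Group.IsSolvable N]
    [Group.IsSolvable (G ⧸ N)] : Group.IsSolvable G :=
  solvable_of_ker_le_range N.subtype (QuotientGroup.mk' N) (by simp)

theorem index_pair {G α : Type*} [Group G] [MulAction G α] (h : IsMultiplyPretransitive G α 2) (x : Fin 2 ↪ α) :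
    (stabilizer G x).index = Nat.card (Fin 2 ↪ α) :=
  @index_stabilizer_of_transitive G (Fin 2 ↪ α) _ _ x h

variable {α : Type*} [Fintype α] [DecidableEq α]

/-- A group containing a full Sylow subgroup of the symmetric group contains a conjugate of each element. -/
theorem conj_mem (G : Subgroup (Equiv.Perm α)) {p k : ℕ} [Fact p.Prime]
    (hfull : (Fintype.card α).factorial.factorization p = k) (hdvd : p ^ k ∣ Nat.card G)
    (σ : Equiv.Perm α) (hσ : orderOf σ = p) : ∃ τ : Equiv.Perm α, τ * σ * τ⁻¹ ∈ G := by
  obtain ⟨Q⟩ := (inferInstance : Nonempty (Sylow p G))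
  have hQc : p ^ k ∣ Nat.card (Q : Subgroup G) := Sylow.pow_dvd_card_of_pow_dvd_card Q hdvd
  let R : Subgroup (Equiv.Perm α) := (Q : Subgroup G).map G.subtype
  have hR : Nat.card R = p ^ k := by
    have h1 : Nat.card R = Nat.card (Q : Subgroup G) :=
      (Nat.card_congr ((Q : Subgroup G).equivMapOfInjective G.subtype G.subtype_injective).toEquiv).symm
    rw [h1]
    refine Nat.dvd_antisymm ?_ hQc
    rw [Q.card_eq_multiplicity]
    apply Nat.pow_dvd_pow
    rw [← hfull]
    have hd : Nat.card G ∣ (Fintype.card α).factorial := by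
      rw [← Nat.card_eq_fintype_card, ← Nat.card_perm]; exact Subgroup.card_subgroup_dvd_card G
    exact (Nat.factorization_le_iff_dvd Nat.card_pos.ne' (Nat.factorial_ne_zero _)).2 hd p
  let P : Sylow p (Equiv.Perm α) := Sylow.ofCard R (by
    rw [hR, Nat.card_perm, Nat.card_eq_fintype_card, hfull])
  obtain ⟨S, hS⟩ := IsPGroup.exists_le_sylow (p := p) (P := Subgroup.zpowers σ)
    (IsPGroup.of_card (n := 1) (by rw [Nat.card_zpowers, hσ, pow_one]))
  obtain ⟨τ, hτ⟩ := MulAction.exists_smul_eq (Equiv.Perm α) S P
  refine ⟨τ, ?_⟩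
  have hmem : τ * σ * τ⁻¹ ∈ (P : Subgroup (Equiv.Perm α)) := by
    rw [← hτ, Sylow.coe_subgroup_smul, Subgroup.mem_pointwise_smul_iff_inv_smul_mem]
    rw [← map_inv, MulAut.smul_def, MulAut.conj_apply]
    rw [show τ⁻¹ * (τ * σ * τ⁻¹) * τ⁻¹⁻¹ = σ by group]
    exact hS (Subgroup.mem_zpowers σ)
  obtain ⟨x, -, hx⟩ := hmem
  rw [← hx]
  exact x.2


/-- A non-solvable transitive permutation group on 7 points that does not contain the alternating group is a simple group of order 168. -/
theorem result {α : Type*} [Fintype α] [DecidableEq α] (hα : Fintype.card α = 7) (G : Subgroup (Equiv.Perm α)) [MulAction.IsPretransitive G α] (hG : ¬ Group.IsSolvable G) (hA : ¬ alternatingGroup α ≤ G) : Nat.card G = 168 ∧ IsSimpleGroup G := by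
  classical
  have hcard : Nat.card α = 7 := by rw [Nat.card_eq_fintype_card, hα]
  haveI : Fact (Nat.Prime 7) := ⟨by norm_num⟩
  haveI : Fact (Nat.Prime 3) := ⟨Nat.prime_three⟩
  haveI : Fact (Nat.Prime 2) := ⟨Nat.prime_two⟩
  have h2 : IsMultiplyPretransitive G α 2 :=
    (Cfsg.Agent.S0675.result (by rw [hα]; norm_num) G).resolve_left hG
  have hprim : IsPreprimitive G α := MulAction.isPreprimitive_of_is_two_pretransitive h2
  -- the order is `42 e` with `e` dividing `120`
  obtain ⟨a, b, hab⟩ : ∃ a b : α, a ≠ b := by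
    haveI : Nontrivial α := Fintype.one_lt_card_iff_nontrivial.1 (by omega)
    exact exists_pair_ne α
  set x : Fin 2 ↪ α := ⟨![a, b], by intro i j; fin_cases i <;> fin_cases j <;> simp [hab, hab.symm]⟩ with hx
  have hGe : Nat.card G = 42 * Nat.card (stabilizer G x) := by
    have hi : (stabilizer G x).index = Nat.card (Fin 2 ↪ α) := index_pair h2 x
    have := (stabilizer G x).card_mul_index
    rw [hi, Nat.card_eq_fintype_card (α := Fin 2 ↪ α), Fintype.card_embedding_eq, hα, Fintype.card_fin,
      show Nat.descFactorial 7 2 = 42 from rfl] at this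
    omega
  have he : Nat.card (stabilizer G x) ∣ 120 := by
    have hfix : ∀ g : stabilizer G x, ((g : G) : Equiv.Perm α) a = a ∧ ((g : G) : Equiv.Perm α) b = b := fun g =>
      ⟨DFunLike.congr_fun (mem_stabilizer_iff.1 g.2) 0, DFunLike.congr_fun (mem_stabilizer_iff.1 g.2) 1⟩
    let φ : stabilizer G x →* Equiv.Perm {y : α // y ≠ a ∧ y ≠ b} :=
      { toFun := fun g => ((g : G) : Equiv.Perm α).subtypePerm fun y => by
          obtain ⟨ha, hb⟩ := hfix g
          exact and_congr (not_congr ⟨fun e => ((g : G) : Equiv.Perm α).injective (e.trans ha.symm), fun e => by rw [e, ha]⟩)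
            (not_congr ⟨fun e => ((g : G) : Equiv.Perm α).injective (e.trans hb.symm), fun e => by rw [e, hb]⟩)
        map_one' := Equiv.ext fun y => Subtype.ext rfl
        map_mul' := fun g h => Equiv.ext fun y => Subtype.ext rfl }
    have hφ : Function.Injective φ := by
      intro g h e
      refine Subtype.ext (Subtype.ext (Equiv.ext fun y => ?_))
      by_cases hya : y = a
      · rw [hya, (hfix g).1, (hfix h).1]
      by_cases hyb : y = b
      · rw [hyb, (hfix g).2, (hfix h).2]
      exact congrArg Subtype.val (Equiv.ext_iff.1 e ⟨y, hya, hyb⟩)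
    have := Subgroup.card_dvd_of_injective φ hφ
    have hc : Fintype.card {y : α // y ≠ a ∧ y ≠ b} = 5 := by
      rw [Fintype.card_subtype, show (Finset.univ.filter fun y => y ≠ a ∧ y ≠ b) = ({a, b} : Finset α)ᶜ by ext; simp,
        Finset.card_compl, Finset.card_pair hab, hα]
    rwa [Nat.card_perm, Nat.card_eq_fintype_card (α := {y : α // y ≠ a ∧ y ≠ b}), hc] at this
  -- Sylow `7`-subgroups
  have hP : ∀ P : Sylow 7 G, Nat.card (P : Subgroup G) = 7 := by
    intro P
    rw [P.card_eq_multiplicity]
    have h1 : (Nat.card G).factorization 7 = 1 := by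
      apply le_antisymm
      · by_contra h
        have h1 := (pow_dvd_pow 7 (by omega : 2 ≤ (Nat.card G).factorization 7)).trans (Nat.ordProj_dvd _ _)
        have h2 : Nat.card G ∣ 5040 := by
          have := Subgroup.card_subgroup_dvd_card G
          rwa [Nat.card_perm, hcard] at this
        exact absurd (h1.trans h2) (by norm_num)
      · exact (Fact.out : Nat.Prime 7).factorization_pos_of_dvd Nat.card_pos.ne' (by rw [hGe]; exact dvd_mul_of_dvd_left (by norm_num) _)
    rw [h1, pow_one]
  have hPne : ∀ P : Sylow 7 G, (P : Subgroup G) ≠ ⊥ := fun P h => by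
    have := hP P; rw [h, Subgroup.card_bot] at this; omega
  -- the normaliser of a Sylow subgroup
  have hN : ∀ P : Sylow 7 G, Nat.card (Subgroup.normalizer ((P : Subgroup G) : Set G)) ∣ 42 ∧
      Group.IsSolvable (Subgroup.normalizer ((P : Subgroup G) : Set G)) := by
    intro P
    set N := Subgroup.normalizer ((P : Subgroup G) : Set G) with hNdef
    have hPtr : ∀ c d : α, ∃ u ∈ (P : Subgroup G), (u : Equiv.Perm α) c = d := by
      haveI : IsCyclic (P : Subgroup G) := isCyclic_of_prime_card (p := 7) (hP P)
      obtain ⟨u, hu⟩ := IsCyclic.exists_generator (α := (P : Subgroup G))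
      have hord : orderOf ((u : G) : Equiv.Perm α) = 7 := by
        rw [Subgroup.orderOf_coe, Subgroup.orderOf_coe, orderOf_eq_card_of_forall_mem_zpowers hu, hP]
      have hcyc : ((u : G) : Equiv.Perm α).IsCycle := by
        refine Equiv.Perm.isCycle_of_prime_order (by rw [hord]; norm_num) ?_
        rw [hord]
        exact lt_of_le_of_lt (Finset.card_le_univ _) (by rw [hα]; norm_num)
      have hsup : ((u : G) : Equiv.Perm α).support = Finset.univ :=
        Finset.eq_univ_of_card _ (by rw [← hcyc.orderOf, hord, hα])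
      intro c d
      obtain ⟨i, hi⟩ := hcyc.sameCycle (Equiv.Perm.mem_support.1 (hsup ▸ Finset.mem_univ c))
        (Equiv.Perm.mem_support.1 (hsup ▸ Finset.mem_univ d))
      exact ⟨((u : (P : Subgroup G)) ^ i : (P : Subgroup G)), SetLike.coe_mem _, by simpa using hi⟩
    let ψ : N →* MulAut (P : Subgroup G) := (P : Subgroup G).normalizerMonoidHom
    have hker : ψ.ker.map N.subtype ≤ (P : Subgroup G) := by
      rintro _ ⟨g, hg, rfl⟩
      rw [SetLike.mem_coe, Subgroup.normalizerMonoidHom_ker] at hg
      have hg' : ∀ u ∈ (P : Subgroup G), u * (g : G) = g * u := Subgroup.mem_centralizer_iff.1 (Subgroup.mem_subgroupOf.1 hg)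
      obtain ⟨u, hu, hua⟩ := hPtr a (((g : G) : Equiv.Perm α) a)
      have : (g : G) = u := by
        refine Subtype.ext (Equiv.ext fun y => ?_)
        obtain ⟨v, hv, rfl⟩ := hPtr a y
        have e1 := congrArg (fun z : G => (z : Equiv.Perm α) a) (hg' v hv)
        simp only [Subgroup.coe_mul, Equiv.Perm.mul_apply] at e1
        haveI : IsCyclic (P : Subgroup G) := isCyclic_of_prime_card (p := 7) (hP P)
        have hc : v * u = u * v :=
          congrArg Subtype.val (IsCyclic.commGroup.mul_comm (⟨v, hv⟩ : (P : Subgroup G)) ⟨u, hu⟩)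
        have e2 := congrArg (fun z : G => (z : Equiv.Perm α) a) hc
        simp only [Subgroup.coe_mul, Equiv.Perm.mul_apply] at e2
        rw [← e1, ← hua, e2]
      show (g : G) ∈ _
      rw [this]; exact hu
    have hkc : Nat.card ψ.ker ∣ 7 := by
      have hle := Subgroup.card_dvd_of_le hker
      rwa [hP P, ← Nat.card_congr (ψ.ker.equivMapOfInjective N.subtype N.subtype_injective).toEquiv] at hle
    haveI : IsCyclic (P : Subgroup G) := isCyclic_of_prime_card (p := 7) (hP P)
    have haut : Nat.card (MulAut (P : Subgroup G)) = 6 := by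
      rw [IsCyclic.card_mulAut, hP, Nat.totient_prime (by norm_num)]
    refine ⟨?_, ?_⟩
    · rw [← ψ.ker.card_mul_index, Subgroup.index_ker, show (42 : ℕ) = 7 * 6 from rfl]
      exact Nat.mul_dvd_mul hkc (haut ▸ Subgroup.card_subgroup_dvd_card ψ.range)
    · haveI : Group.IsSolvable (P : Subgroup G) := isSolvable_of_comm fun u v => IsCyclic.commGroup.mul_comm u v
      haveI : Group.IsSolvable ψ.ker := solvable_of_solvable_injective
        (f := (Subgroup.inclusion hker).comp (ψ.ker.equivMapOfInjective N.subtype N.subtype_injective).toMonoidHom)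
        ((Subgroup.inclusion_injective hker).comp (ψ.ker.equivMapOfInjective N.subtype N.subtype_injective).injective)
      haveI : Group.IsSolvable (MulAut (P : Subgroup G)) :=
        isSolvable_of_comm fun u v => (IsCyclic.mulAutMulEquiv (P : Subgroup G)).injective (by rw [map_mul, map_mul, mul_comm])
      haveI : Group.IsSolvable (N ⧸ ψ.ker) :=
        solvable_of_solvable_injective (f := QuotientGroup.kerLift ψ) (QuotientGroup.kerLift_injective ψ)
      exact solvable_of_quot ψ.ker
  have hidxN : ∀ P : Sylow 7 G, Nat.card (Sylow 7 G) * Nat.card (Subgroup.normalizer ((P : Subgroup G) : Set G)) = Nat.card G := by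
    intro P
    rw [Sylow.card_eq_index_normalizer P, mul_comm]
    exact Subgroup.card_mul_index _
  have hmod : Nat.card (Sylow 7 G) % 7 = 1 := card_sylow_modEq_one 7 G
  have hnot1 : Nat.card (Sylow 7 G) ≠ 1 := by
    intro h1
    obtain ⟨P⟩ := (inferInstance : Nonempty (Sylow 7 G))
    have htop : Subgroup.normalizer ((P : Subgroup G) : Set G) = ⊤ := by
      apply Subgroup.eq_top_of_card_eq
      have := hidxN P
      rw [h1, one_mul] at this
      exact this
    have := (hN P).2
    rw [htop] at this
    exact hG (solvable_of_solvable_injective (f := (Subgroup.topEquiv (G := G)).symm.toMonoidHom) Subgroup.topEquiv.symm.injective)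
  -- forbidden orders
  have hno9 : ¬ 9 ∣ Nat.card G := by
    intro h9
    obtain ⟨p, q, r, hpq, hpr, hqr⟩ : ∃ p q r : α, p ≠ q ∧ p ≠ r ∧ q ≠ r :=
      Fintype.two_lt_card_iff.1 (by omega)
    have h3c : (Equiv.swap p q * Equiv.swap p r).IsThreeCycle := Equiv.Perm.isThreeCycle_swap_mul_swap_same hpq hpr hqr
    obtain ⟨τ, hτ⟩ := conj_mem G (p := 3) (k := 2) (by rw [hα]; decide +kernel) h9 _ h3c.orderOf
    exact hA (alternatingGroup_le_of_isPreprimitive_of_isThreeCycle_mem hprim
      (by rw [Equiv.Perm.IsThreeCycle, Equiv.Perm.cycleType_conj]; exact h3c) hτ)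
  have hno16 : ¬ 16 ∣ Nat.card G := by
    intro h16
    obtain ⟨τ, hτ⟩ := conj_mem G (p := 2) (k := 4) (by rw [hα]; decide +kernel) h16 (Equiv.swap a b)
      ((orderOf_eq_prime_iff).2 ⟨by rw [pow_two, Equiv.swap_mul_self], fun e => hab (Equiv.swap_eq_one_iff.1 e)⟩)
    apply hA
    rw [subgroup_eq_top_of_isPreprimitive_of_isSwap_mem hprim _ ⟨τ a, τ b, fun e => hab (τ.injective e), ?_⟩ hτ]
    · exact le_top
    · rw [← Equiv.swap_apply_apply]
  have hP' : Nat.card (Equiv.Perm α) = 5040 := by rw [Nat.card_perm, hcard]; rfl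
  have hno840 : ¬ 840 ≤ Nat.card G := by
    intro h840
    have hidx : G.index ≤ 6 := by
      have := G.card_mul_index
      rw [hP'] at this
      nlinarith
    set K := G.normalCore with hK
    have hKidx : K.index ≤ 720 := by
      rw [hK, Subgroup.normalCore_eq_ker, Subgroup.index_ker]
      have := Nat.le_of_dvd Nat.card_pos
        (Subgroup.card_subgroup_dvd_card (toPermHom (Equiv.Perm α) (Equiv.Perm α ⧸ G)).range)
      rw [Nat.card_perm, ← Subgroup.index_eq_card] at this
      exact this.trans (Nat.factorial_le hidx)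
    have hKc := K.card_mul_index
    rw [hP'] at hKc
    haveI : Nontrivial α := Fintype.one_lt_card_iff_nontrivial.1 (by omega)
    rcases alternatingGroup.normal_subgroup_eq_bot_or_eq_top (by rw [hcard]; norm_num)
      (N := K.subgroupOf (alternatingGroup α)) with h0 | h0
    · have hinj : Function.Injective fun y : K => Equiv.Perm.sign (y : Equiv.Perm α) := by
        intro y z hyz
        simp only at hyz
        have hm : (⟨(y : Equiv.Perm α)⁻¹ * z, by
            rw [Equiv.Perm.mem_alternatingGroup, map_mul, map_inv, hyz, inv_mul_cancel]⟩ : alternatingGroup α) ∈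
            K.subgroupOf (alternatingGroup α) := mul_mem (inv_mem y.2) z.2
        rw [h0, Subgroup.mem_bot] at hm
        exact Subtype.ext (inv_mul_eq_one.1 (congrArg Subtype.val hm))
      have hle := Nat.card_le_card_of_injective _ hinj
      rw [Nat.card_eq_fintype_card (α := ℤˣ), Fintype.card_units_int] at hle
      nlinarith
    · rw [Subgroup.subgroupOf_eq_top] at h0
      exact hA (h0.trans (Subgroup.normalCore_le G))
  have hno2mod4 : ¬ Nat.card G % 4 = 2 := by
    intro h4
    obtain ⟨T⟩ := (inferInstance : Nonempty (Sylow 2 G))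
    have hT : Nat.card (T : Subgroup G) = 2 := by
      obtain ⟨k, hk⟩ := (IsPGroup.iff_card).1 T.2
      have hd : Nat.card (T : Subgroup G) ∣ Nat.card G := Subgroup.card_subgroup_dvd_card _
      have h2 : 2 ^ 1 ∣ Nat.card (T : Subgroup G) := T.pow_dvd_card_of_pow_dvd_card (by omega)
      rw [hk] at hd h2 ⊢
      rcases k with _ | _ | k
      · norm_num at h2
      · rfl
      · have : 4 ∣ Nat.card G := (Dvd.intro_left _ (by ring : 2 ^ k * 4 = 2 ^ (k + 1 + 1))).trans hd
        omega
    obtain ⟨H, hH⟩ := Cfsg.Agent.Inv.exists_index_two_of_cyclic_sylow (Nat.even_iff.2 (by omega)) T (isCyclic_of_prime_card hT)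
    haveI : H.Normal := Subgroup.normal_of_index_eq_two hH
    have hHodd : Nat.card H % 2 = 1 := by
      have := H.card_mul_index
      rw [hH] at this
      omega
    haveI : IsPretransitive H α := by
      haveI := hprim
      refine IsQuasiPreprimitive.isPretransitive_of_normal (G := G) fun hfix => ?_
      have hbot : H = ⊥ := by
        rw [Subgroup.eq_bot_iff_forall]
        intro g hg
        refine Subtype.ext (Equiv.ext fun y => ?_)
        exact (Set.eq_univ_iff_forall.1 hfix y : _) ⟨g, hg⟩
      rw [hbot, Subgroup.index_bot] at hH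
      have := hGe
      omega
    haveI : IsPretransitive (H.map G.subtype) α := ⟨fun c d => by
      obtain ⟨h, hh⟩ := exists_smul_eq H c d
      exact ⟨⟨_, Subgroup.mem_map_of_mem _ h.2⟩, hh⟩⟩
    haveI : Group.IsSolvable H := by
      rcases Cfsg.Agent.S0675.result (by rw [hα]; norm_num) (H.map G.subtype) with h | h
      · exact solvable_of_solvable_injective
          (f := (H.equivMapOfInjective G.subtype G.subtype_injective).toMonoidHom)
          (H.equivMapOfInjective G.subtype G.subtype_injective).injective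
      · exfalso
        have hd := Subgroup.index_dvd_card (stabilizer (H.map G.subtype) x)
        have hidx : (stabilizer (H.map G.subtype) x).index = Nat.card (Fin 2 ↪ α) := index_pair h x
        rw [hidx, Nat.card_eq_fintype_card (α := Fin 2 ↪ α),
          Fintype.card_embedding_eq, hα, Fintype.card_fin, show Nat.descFactorial 7 2 = 42 from rfl,
          ← Nat.card_congr (H.equivMapOfInjective G.subtype G.subtype_injective).toEquiv] at hd
        omega
    haveI : IsCyclic (G ⧸ H) := isCyclic_of_prime_card (p := 2) (by rw [← Subgroup.index_eq_card]; exact hH)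
    haveI : Group.IsSolvable (G ⧸ H) := isSolvable_of_comm fun u v => IsCyclic.commGroup.mul_comm u v
    exact hG (solvable_of_quot H)
  -- the order is 168
  obtain ⟨P⟩ := (inferInstance : Nonempty (Sylow 7 G))
  have h168 : Nat.card G = 168 ∧ Nat.card (Sylow 7 G) = 8 := by
    have hN42 := (hN P).1
    have hidx := hidxN P
    generalize Nat.card (stabilizer G x) = e at he hGe
    generalize Nat.card (Subgroup.normalizer ((P : Subgroup G) : Set G)) = c at hN42 hidx
    generalize Nat.card (Sylow 7 G) = s at hmod hnot1 hidx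
    have hed : e ∈ Nat.divisors 120 := Nat.mem_divisors.2 ⟨he, by norm_num⟩
    have hcd : c ∈ Nat.divisors 42 := Nat.mem_divisors.2 ⟨hN42, by norm_num⟩
    rw [show Nat.divisors 120 = {1, 2, 3, 4, 5, 6, 8, 10, 12, 15, 20, 24, 30, 40, 60, 120} by decide +kernel] at hed
    rw [show Nat.divisors 42 = {1, 2, 3, 6, 7, 14, 21, 42} by decide +kernel] at hcd
    simp only [Finset.mem_insert, Finset.mem_singleton] at hed hcd
    rw [hGe] at hno9 hno16 hno840 hno2mod4 hidx
    rcases hed with rfl | rfl | rfl | rfl | rfl | rfl | rfl | rfl | rfl | rfl | rfl | rfl | rfl | rfl | rfl | rfl <;>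
      first
      | (exfalso; omega)
      | (rcases hcd with rfl | rfl | rfl | rfl | rfl | rfl | rfl | rfl <;> omega)
  refine ⟨h168.1, ?_⟩
  haveI : Nontrivial G := Finite.one_lt_card_iff_nontrivial.1 (by omega)
  refine ⟨fun K hK => ?_⟩
  by_contra hcon
  push Not at hcon
  obtain ⟨hK0, hKtop⟩ := hcon
  haveI : IsPretransitive K α := by
    haveI := hprim
    refine IsQuasiPreprimitive.isPretransitive_of_normal (G := G) fun hfix => hK0 ?_
    rw [Subgroup.eq_bot_iff_forall]
    intro g hg
    refine Subtype.ext (Equiv.ext fun y => ?_)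
    exact (Set.eq_univ_iff_forall.1 hfix y : _) ⟨g, hg⟩
  have h7K : 7 ∣ Nat.card K := by
    have := Subgroup.index_dvd_card (stabilizer K a)
    rwa [MulAction.index_stabilizer_of_transitive K a, hcard] at this
  -- all Sylow `7`-subgroups lie in `K`
  obtain ⟨R⟩ := (inferInstance : Nonempty (Sylow 7 K))
  have hPK : ∀ Q : Sylow 7 G, (Q : Subgroup G) ≤ K := by
    intro Q
    let R' : Subgroup G := (R : Subgroup K).map K.subtype
    have hRc : Nat.card R' = 7 := by
      rw [← Nat.card_congr ((R : Subgroup K).equivMapOfInjective K.subtype K.subtype_injective).toEquiv]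
      refine Nat.dvd_antisymm ?_ (by simpa using R.pow_dvd_card_of_pow_dvd_card (n := 1) (by simpa using h7K))
      obtain ⟨Q', hQ'⟩ := IsPGroup.exists_le_sylow (R.2.map K.subtype)
      have hle := Subgroup.card_dvd_of_le hQ'
      rwa [hP Q', ← Nat.card_congr ((R : Subgroup K).equivMapOfInjective K.subtype K.subtype_injective).toEquiv] at hle
    obtain ⟨Q', hQ'⟩ := IsPGroup.exists_le_sylow (R.2.map K.subtype)
    have hQ'K : (Q' : Subgroup G) ≤ K := by
      rw [← Subgroup.eq_of_le_of_card_ge hQ' (by rw [hP Q', hRc])]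
      exact Subgroup.map_subtype_le _
    obtain ⟨g, rfl⟩ := MulAction.exists_smul_eq G Q' Q
    rw [Sylow.coe_subgroup_smul]
    intro z hz
    rw [Subgroup.mem_pointwise_smul_iff_inv_smul_mem, ← map_inv, MulAut.smul_def, MulAut.conj_apply, inv_inv] at hz
    have := hK.conj_mem _ (hQ'K hz) g
    simpa [mul_assoc] using this
  have hsylK : Nat.card (Sylow 7 G) ≤ Nat.card (Sylow 7 K) :=
    Nat.card_le_card_of_injective (fun Q => Q.subtype (hPK Q)) fun Q Q' h => Sylow.subtype_injective h
  -- the orders `7·8` and `168`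
  have hdvd := Subgroup.card_subgroup_dvd_card K
  rw [h168.1] at hdvd
  have hlt : Nat.card K < 168 := by
    rcases (Nat.le_of_dvd (by norm_num) hdvd).lt_or_eq with h | h
    · exact h
    · exact absurd (Subgroup.eq_top_of_card_eq K (h.trans h168.1.symm)) hKtop
  have hKmod : Nat.card (Sylow 7 K) % 7 = 1 := card_sylow_modEq_one 7 K
  have hs8 : 8 ≤ Nat.card (Sylow 7 K) := h168.2 ▸ hsylK
  haveI : IsPretransitive (K.map G.subtype) α := ⟨fun c d => by
    obtain ⟨h, hh⟩ := exists_smul_eq K c d
    exact ⟨⟨_, Subgroup.mem_map_of_mem _ h.2⟩, hh⟩⟩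
  have hR7 : Nat.card (R : Subgroup K) = 7 := by
    refine Nat.dvd_antisymm ?_ (by simpa using R.pow_dvd_card_of_pow_dvd_card (n := 1) (by simpa using h7K))
    obtain ⟨Q', hQ'⟩ := IsPGroup.exists_le_sylow (R.2.map K.subtype)
    have hle := Subgroup.card_dvd_of_le hQ'
    rwa [hP Q', ← Nat.card_congr ((R : Subgroup K).equivMapOfInjective K.subtype K.subtype_injective).toEquiv] at hle
  rcases Cfsg.Agent.S0675.result (by rw [hα]; norm_num) (K.map G.subtype) with hs | hs
  · haveI : Group.IsSolvable K := solvable_of_solvable_injective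
      (f := (K.equivMapOfInjective G.subtype G.subtype_injective).toMonoidHom)
      (K.equivMapOfInjective G.subtype G.subtype_injective).injective
    -- the quotient is small
    have hsd : Nat.card (Sylow 7 K) ∣ (R : Subgroup K).index := R.card_dvd_index
    have h56 : 56 ≤ Nat.card K := by
      have := (R : Subgroup K).card_mul_index
      rw [hR7] at this
      have := Nat.le_of_dvd (Nat.pos_of_ne_zero (by intro h0; rw [h0, mul_zero] at this; exact Nat.card_pos.ne this)) hsd
      omega
    have hi : K.index = 3 ∨ K.index = 2 := by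
      have := K.card_mul_index
      rw [h168.1] at this
      have h1 : K.index ≠ 1 := fun h => hKtop (Subgroup.index_eq_one.1 h)
      have hile : K.index ≤ 3 := by nlinarith
      interval_cases hv : K.index <;> omega
    haveI : IsCyclic (G ⧸ K) := by
      rcases hi with hi | hi
      · exact isCyclic_of_prime_card (p := 3) (by rw [← Subgroup.index_eq_card]; exact hi)
      · exact isCyclic_of_prime_card (p := 2) (by rw [← Subgroup.index_eq_card]; exact hi)
    haveI : Group.IsSolvable (G ⧸ K) := isSolvable_of_comm fun u v => IsCyclic.commGroup.mul_comm u v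
    exact hG (solvable_of_quot K)
  · have hd := Subgroup.index_dvd_card (stabilizer (K.map G.subtype) x)
    have hidx : (stabilizer (K.map G.subtype) x).index = Nat.card (Fin 2 ↪ α) := index_pair hs x
    rw [hidx, Nat.card_eq_fintype_card (α := Fin 2 ↪ α),
      Fintype.card_embedding_eq, hα, Fintype.card_fin, show Nat.descFactorial 7 2 = 42 from rfl,
      ← Nat.card_congr (K.equivMapOfInjective G.subtype G.subtype_injective).toEquiv] at hd
    obtain ⟨t, ht⟩ := hd
    have hi := (R : Subgroup K).card_mul_index
    rw [hR7, ht] at hi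
    have hindex : (R : Subgroup K).index = 6 * t := by omega
    have hsd : Nat.card (Sylow 7 K) ∣ 6 * t := hindex ▸ R.card_dvd_index
    have hpos : 0 < Nat.card K := Nat.card_pos
    have h8 := Nat.le_of_dvd (by omega) hsd
    generalize Nat.card (Sylow 7 K) = s at hKmod hs8 hsd h8
    have ht3 : t ≤ 3 := by omega
    have hs18 : s ≤ 18 := by omega
    interval_cases t <;> interval_cases s <;> omega

end Cfsg.Agent.S0678
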