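import Cfsg.Statements.S0680
import Mathlib
import Cfsg.Agent.Lib.Perm.SharplyTwo

set_option autoImplicit false
open Cfsg

namespace Cfsg.Agent.S0680

---pre
open MulAction Cfsg.Agent.Perm

/-- A finite sharply doubly transitive permutation group has degree a prime power `p ^ j`; a Sylow `p`-subgroup is normal, elementary abelian and regular, and consists of the identity together with the elements without fixed points. (Frobenius' Theorem is not needed.) -/
theorem result {α : Type*} [Fintype α] [DecidableEq α] (G : Subgroup (Equiv.Perm α)) [MulAction.IsMultiplyPretransitive G α 2] (hsharp : ∀ x : Fin 2 ↪ α, MulAction.stabilizer G x = ⊥) (h2 : 2 ≤ Fintype.card α) : ∃ p j : ℕ, p.Prime ∧ 1 ≤ j ∧ Fintype.card α = p ^ j ∧ ∀ (hp : Fact p.Prime) (P : Sylow p G), (P : Subgroup G).Normal ∧ IsMulCommutative (P : Subgroup G) ∧ (∀ x ∈ (P : Subgroup G), x ^ p = 1) ∧ MulAction.IsPretransitive (P : Subgroup G) α ∧ (∀ a : α, MulAction.stabilizer (P : Subgroup G) a = ⊥) ∧ ∀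 g : G, g ∈ (P : Subgroup G) ↔ g = 1 ∨ ∀ a : α, g • a ≠ a := by
  have hc2 : 2 ≤ Nat.card α := by rw [Nat.card_eq_fintype_card]; exact h2
  obtain ⟨N, hNn, hmem, huniq, -, hcomm, p, hp, hexp, hpN, hidx⟩ := exists_regular_normal G hsharp hc2
  have hpf : Fact p.Prime := ⟨hp⟩
  have : Nontrivial α := Finite.one_lt_card_iff_nontrivial.1 hc2
  obtain ⟨a, b, hab⟩ := exists_pair_ne α
  have hcardN : Nat.card N = Nat.card α :=
    Nat.card_congr (Equiv.ofBijective (fun n : N => (n : G) • a)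
      ⟨fun m n e => (huniq a _).unique e rfl, fun b => (huniq a b).exists⟩)
  obtain ⟨j, hj⟩ := IsPGroup.iff_card.1 hpN
  rw [hcardN, Nat.card_eq_fintype_card] at hj
  have hj1 : 1 ≤ j := Nat.pos_of_ne_zero fun h0 => by rw [h0, pow_zero] at hj; omega
  refine ⟨p, j, hp, hj1, hj, fun _ P => ?_⟩
  have hndvd : ¬ p ∣ N.index := by
    rw [hidx a]
    intro hd
    have h3 := card_stabilizer_sharply_two G hsharp (a := a) (b := b) (Ne.symm hab)
    have h4 : p ∣ Fintype.card α := hj ▸ dvd_pow_self p (by omega)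
    rw [Nat.card_eq_fintype_card (α := α)] at h3
    rw [← h3] at h4
    exact hp.one_lt.ne' (Nat.dvd_one.1 ((Nat.dvd_add_right hd).1 h4))
  have hS : ((hpN.toSylow hndvd : Sylow p G) : Subgroup G) = N := rfl
  obtain ⟨g, hg⟩ := MulAction.exists_smul_eq G (hpN.toSylow hndvd) P
  have hPN : (P : Subgroup G) = N := by
    rw [← hg, Sylow.coe_subgroup_smul, hS]
    ext z
    rw [Subgroup.mem_pointwise_smul_iff_inv_smul_mem]
    show (MulAut.conj g)⁻¹ z ∈ N ↔ z ∈ N
    rw [← map_inv, MulAut.conj_apply, inv_inv]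
    refine ⟨fun h => ?_, fun h => by simpa using hNn.conj_mem z h g⁻¹⟩
    have := hNn.conj_mem _ h g
    simpa [mul_assoc] using this
  rw [hPN]
  refine ⟨hNn, hcomm, hexp, ⟨fun x y => ?_⟩, fun x => ?_, hmem⟩
  · obtain ⟨n, hn, -⟩ := huniq x y
    exact ⟨n, hn⟩
  · rw [Subgroup.eq_bot_iff_forall]
    intro n hn
    exact Subtype.ext ((hmem n).1 n.2 |>.resolve_right fun h => h x hn)

end Cfsg.Agent.S0680
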