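import Cfsg.Statements.S0681
import Mathlib

set_option autoImplicit false
open Cfsg

namespace Cfsg.Agent.S0681

---pre
open MulAction

/-- The affine maps `x ↦ x * a + b`, `a ≠ 0`, of a near-field form a sharply doubly transitive permutation group. -/
theorem result {F : Type*} [Cfsg.NearField F] : ∃ H : Subgroup (Equiv.Perm F), (∀ σ : Equiv.Perm F, σ ∈ H ↔ ∃ a b : F, a ≠ 0 ∧ ∀ x : F, σ x = x * a + b) ∧ MulAction.IsMultiplyPretransitive H F 2 ∧ ∀ x : Fin 2 ↪ F, MulAction.stabilizer H x = ⊥ := by
  have hmulz : ∀ a : F, (0 : F) * a = 0 := by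
    intro a
    have h1 := Cfsg.NearField.right_distrib (0 : F) 0 a
    rw [add_zero] at h1
    exact left_eq_add.1 h1
  have hneg : ∀ x a : F, (-x) * a = -(x * a) := by
    intro x a
    refine eq_neg_of_add_eq_zero_left ?_
    rw [← Cfsg.NearField.right_distrib, neg_add_cancel, hmulz]
  have hinv : ∀ a : F, a ≠ 0 → ∃ b : F, b ≠ 0 ∧ a * b = 1 ∧ b * a = 1 := by
    intro a ha
    obtain ⟨b, h1, h2⟩ := Cfsg.NearField.exists_inv a ha
    exact ⟨b, fun e => by rw [e, Cfsg.NearField.mul_zero] at h1; exact Cfsg.NearField.zero_ne_one h1, h1, h2⟩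
  let H : Subgroup (Equiv.Perm F) :=
    { carrier := {σ | ∃ a b : F, a ≠ 0 ∧ ∀ x : F, σ x = x * a + b}
      one_mem' := ⟨1, 0, Ne.symm Cfsg.NearField.zero_ne_one, fun x => by simp⟩
      mul_mem' := by
        rintro σ τ ⟨a, b, ha, hσ⟩ ⟨c, d, hc, hτ⟩
        refine ⟨c * a, d * a + b, fun e => ?_, fun x => ?_⟩
        · obtain ⟨a', -, h1, -⟩ := hinv a ha
          have := congrArg (· * a') e
          simp only [mul_assoc, h1, mul_one, hmulz] at this
          exact hc this
        · rw [Equiv.Perm.mul_apply, hσ, hτ, Cfsg.NearField.right_distrib, mul_assoc, add_assoc]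
      inv_mem' := by
        rintro σ ⟨a, b, ha, hσ⟩
        obtain ⟨a', ha', h1, h2⟩ := hinv a ha
        refine ⟨a', -b * a', ha', fun x => ?_⟩
        refine (Equiv.symm_apply_eq σ).2 ?_
        rw [hσ, ← Cfsg.NearField.right_distrib, mul_assoc, h2, mul_one, add_assoc, neg_add_cancel, add_zero] }
  refine ⟨H, fun σ => Iff.rfl, ?_, ?_⟩
  · rw [is_two_pretransitive_iff]
    intro x y u v hxy huv
    obtain ⟨d', hd', h1, h2⟩ := hinv (x + -y) (fun e => hxy (eq_of_add_neg_eq_zero e))
    set a := d' * (u + -v) with ha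
    have hxa : (x + -y) * a = u + -v := by rw [ha, ← mul_assoc, h1, one_mul]
    have ha0 : a ≠ 0 := fun e => by
      rw [e, Cfsg.NearField.mul_zero] at hxa
      exact huv (eq_of_add_neg_eq_zero hxa.symm)
    obtain ⟨a', -, h3, h4⟩ := hinv a ha0
    set b := -(x * a) + u with hb
    let σ : Equiv.Perm F :=
      { toFun := fun z => z * a + b
        invFun := fun z => (z + -b) * a'
        left_inv := fun z => by simp [mul_assoc, h3]
        right_inv := fun z => by simp [mul_assoc, h4] }
    refine ⟨⟨σ, a, b, ha0, fun z => rfl⟩, ?_, ?_⟩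
    · show x * a + b = u
      rw [hb, add_neg_cancel_left]
    · show y * a + b = v
      have h5 : y * a + -(x * a) = v + -u := by
        have := congrArg Neg.neg hxa
        rw [← hneg, neg_add_rev, neg_neg, neg_add_rev, neg_neg, Cfsg.NearField.right_distrib, hneg] at this
        exact this
      rw [hb, ← add_assoc, h5, neg_add_cancel_right]
  · intro x
    rw [Subgroup.eq_bot_iff_forall]
    rintro ⟨σ, a, b, ha, hσ⟩ hfix
    have hf : ∀ i, x i * a + b = x i := fun i => by
      rw [← hσ]; exact DFunLike.congr_fun hfix i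
    have hne : x 0 + -(x 1) ≠ 0 := fun e => by
      have := x.injective (eq_of_add_neg_eq_zero e); simp at this
    obtain ⟨d', -, h1, h2⟩ := hinv _ hne
    have h3 : (x 0 + -(x 1)) * a = x 0 + -(x 1) := by
      conv_rhs => rw [← hf 0, ← hf 1, neg_add_rev, add_assoc, add_neg_cancel_left]
      rw [Cfsg.NearField.right_distrib, hneg]
    have ha1 : a = 1 := by
      have := congrArg (d' * ·) h3
      simp only [← mul_assoc, h2, one_mul] at this
      exact this
    have hb0 : b = 0 := by
      have := hf 0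
      rw [ha1, mul_one] at this
      exact add_eq_left.1 this
    refine Subtype.ext (Equiv.ext fun z => ?_)
    show σ z = z
    rw [hσ, ha1, hb0, mul_one, add_zero]

end Cfsg.Agent.S0681
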