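import Cfsg.Statements.S0682
import Mathlib

set_option autoImplicit false
open Cfsg

namespace Cfsg.Agent.S0682

---pre
open Cfsg

/-- A finite near-field has prime-power order; its additive group is commutative of prime exponent. -/
theorem result {F : Type*} [Cfsg.NearField F] [Finite F] : ∃ p j : ℕ, p.Prime ∧ 1 ≤ j ∧ Nat.card F = p ^ j ∧ (∀ x y : F, x + y = y + x) ∧ ∀ x : F, p • x = 0 := by
  classical
  have hmulz : ∀ a : F, (0 : F) * a = 0 := by
    intro a
    have h1 := Cfsg.NearField.right_distrib (0 : F) 0 a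
    rw [add_zero] at h1
    exact left_eq_add.1 h1
  let R : F → F →+ F := fun a => AddMonoidHom.mk' (fun x => x * a) fun x y => Cfsg.NearField.right_distrib x y a
  have hsend : ∀ x y : F, x ≠ 0 → y ≠ 0 → ∃ f : F →+ F, f x = y := by
    intro x y hx hy
    obtain ⟨x', hx', -⟩ := Cfsg.NearField.exists_inv x hx
    exact ⟨R (x' * y), by show x * (x' * y) = y; rw [← mul_assoc, hx', one_mul]⟩
  have hne : Nontrivial F := ⟨0, 1, Cfsg.NearField.zero_ne_one⟩
  have hcard1 : 1 < Nat.card F := Finite.one_lt_card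
  obtain ⟨p, hp, hdvd⟩ := Nat.exists_prime_and_dvd hcard1.ne'
  have hpf : Fact p.Prime := ⟨hp⟩
  obtain ⟨e, he⟩ := exists_prime_addOrderOf_dvd_card' p hdvd
  have he0 : e ≠ 0 := fun h => by rw [h, addOrderOf_zero] at he; exact hp.one_lt.ne he
  have hexp : ∀ x : F, p • x = 0 := by
    intro x
    rcases eq_or_ne x 0 with rfl | hx
    · rw [smul_zero]
    · obtain ⟨f, rfl⟩ := hsend e x he0 hx
      rw [← map_nsmul, ← he, addOrderOf_nsmul_eq_zero, map_zero]
  have hpgroup : IsPGroup p (Multiplicative F) := fun x => ⟨1, by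
    rw [pow_one]
    exact congrArg Multiplicative.ofAdd (hexp x.toAdd)⟩
  obtain ⟨j, hj⟩ := IsPGroup.iff_card.1 hpgroup
  have hcardF : Nat.card F = p ^ j := by rw [← hj]; exact (Nat.card_congr Multiplicative.toAdd).symm
  refine ⟨p, j, hp, Nat.pos_of_ne_zero fun h0 => ?_, hcardF, ?_, hexp⟩
  · rw [hcardF, h0, pow_zero] at hcard1; exact lt_irrefl _ hcard1
  · have := hpgroup.center_nontrivial
    obtain ⟨⟨z, hz⟩, hz1⟩ := exists_ne (1 : Subgroup.center (Multiplicative F))
    have hz0 : z.toAdd ≠ 0 := fun h => hz1 (Subtype.ext (Multiplicative.toAdd.injective h))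
    have hzc : ∀ y : F, y + z.toAdd = z.toAdd + y := fun y =>
      congrArg Multiplicative.toAdd (Subgroup.mem_center_iff.1 hz (Multiplicative.ofAdd y))
    intro x y
    rcases eq_or_ne x 0 with rfl | hx
    · rw [zero_add, add_zero]
    · obtain ⟨x', hx', hx''⟩ := Cfsg.NearField.exists_inv x hx
      obtain ⟨z', hz', hz''⟩ := Cfsg.NearField.exists_inv z.toAdd hz0
      have hx_eq : x = z.toAdd * (z' * x) := by rw [← mul_assoc, hz', one_mul]
      have hu : (z' * x) * (x' * z.toAdd) = 1 := by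
        rw [mul_assoc, ← mul_assoc x, hx', one_mul, hz'']
      have hu' : (x' * z.toAdd) * (z' * x) = 1 := by
        rw [mul_assoc, ← mul_assoc z.toAdd, hz', one_mul, hx'']
      set c := z' * x with hc
      have hy_eq : y = (y * (x' * z.toAdd)) * c := by rw [mul_assoc, hu', mul_one]
      rw [hx_eq, hy_eq, ← Cfsg.NearField.right_distrib, ← Cfsg.NearField.right_distrib, hzc]

end Cfsg.Agent.S0682
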