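import Cfsg.Statements.S0683
import Mathlib
import Cfsg.Agent.Lib.Perm.SharplyTwo

set_option autoImplicit false
open Cfsg

namespace Cfsg.Agent.S0683

---pre
open MulAction Cfsg.Agent.Perm

/-- A finite sharply doubly transitive permutation group is the affine group of a near-field: the permuted set carries a near-field structure for which the group consists exactly of the maps `x ↦ x * a + b` with `a ≠ 0`. -/
theorem result {α : Type*} [Fintype α] [DecidableEq α] (H : Subgroup (Equiv.Perm α)) [MulAction.IsMultiplyPretransitive H α 2] (hsharp : ∀ x : Fin 2 ↪ α, MulAction.stabilizer H x = ⊥) (h2 : 2 ≤ Fintype.card α) : ∃ _ : Cfsg.NearField α, ∀ σ : Equiv.Perm α, σ ∈ H ↔ ∃ a b : α, a ≠ 0 ∧ ∀ x : α, σ x = x * a + b := by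
  classical
  have hc2 : 2 ≤ Nat.card α := by rw [Nat.card_eq_fintype_card]; exact h2
  obtain ⟨N, hNn, hmem, huniq, -, hcomm, -⟩ := exists_regular_normal H hsharp hc2
  have : Nontrivial α := Finite.one_lt_card_iff_nontrivial.1 hc2
  obtain ⟨o, e, hoe⟩ := exists_pair_ne α
  have h2t : ∀ {a b c d : α}, a ≠ b → c ≠ d → ∃ g : H, g • a = c ∧ g • b = d :=
    is_two_pretransitive_iff.1 inferInstance
  let T : N ≃ α := Equiv.ofBijective (fun n : N => (n : H) • o)
    ⟨fun m n he => (huniq o _).unique he rfl, fun b => (huniq o b).exists⟩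
  have hT : ∀ n : N, T n = (n : H) • o := fun n => rfl
  have hTs : ∀ x : α, ((T.symm x : N) : H) • o = x := fun x => T.apply_symm_apply x
  have hex : ∀ a : α, ∃ h : H, h • o = o ∧ (a ≠ o → h • e = a) := by
    intro a
    by_cases ha : a = o
    · exact ⟨1, one_smul H o, fun h => absurd ha h⟩
    · obtain ⟨g, hg1, hg2⟩ := h2t (a := o) (b := e) (c := o) (d := a) hoe (Ne.symm ha)
      exact ⟨g, hg1, fun _ => hg2⟩
  choose h hho hhe using hex
  have huh : ∀ (g : H) (a : α), g • o = o → g • e = a → a ≠ o → g = h a := by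
    intro g a hg1 hg2 ha
    let x : Fin 2 ↪ α := ⟨![o, e], by
      intro i j hij; fin_cases i <;> fin_cases j <;> first | rfl | exact absurd hij hoe | exact absurd hij.symm hoe⟩
    have : (h a)⁻¹ * g ∈ stabilizer H x := by
      rw [mem_stabilizer_iff]
      ext i; fin_cases i
      · show ((h a)⁻¹ * g) • o = o
        rw [mul_smul, hg1, inv_smul_eq_iff, hho]
      · show ((h a)⁻¹ * g) • e = e
        rw [mul_smul, hg2, inv_smul_eq_iff, hhe a ha]
    rw [hsharp, Subgroup.mem_bot, inv_mul_eq_one] at this
    exact this.symm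
  have hne_o : ∀ (g : H) (x : α), g • o = o → x ≠ o → g • x ≠ o := fun g x hg hx e' =>
    hx (MulAction.injective g (e'.trans hg.symm))
  have hcm : ∀ m n : N, m * n = n * m := hcomm.is_comm.comm
  let addα : α → α → α := fun x y => T (T.symm x * T.symm y)
  have hadd : ∀ x y, addα x y = ((T.symm x : N) : H) • y := by
    intro x y
    show ((T.symm x * T.symm y : N) : H) • o = _
    rw [Subgroup.coe_mul, mul_smul, hTs]
  have haddc : ∀ x y, addα x y = addα y x := fun x y => congrArg T (hcm _ _)
  have hlin : ∀ (g : H), g • o = o → ∀ x y, g • addα x y = addα (g • x) (g • y) := by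
    intro g hg x y
    rw [hadd, hadd]
    let n : N := ⟨g * (T.symm x : N) * g⁻¹, hNn.conj_mem _ (T.symm x).2 g⟩
    have hn : n = T.symm (g • x) := by
      rw [eq_comm, Equiv.symm_apply_eq, hT]
      show g • x = (g * ((T.symm x : N) : H) * g⁻¹) • o
      rw [mul_smul, mul_smul, inv_smul_eq_iff.2 hg.symm, hTs]
    rw [← hn]
    show g • _ = (g * ((T.symm x : N) : H) * g⁻¹) • g • y
    rw [mul_smul, mul_smul, inv_smul_smul]
  let mulα : α → α → α := fun x a => if a = o then o else h a • x
  have mul0 : ∀ x, mulα x o = o := fun x => if_pos rfl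
  have muln : ∀ x a, a ≠ o → mulα x a = h a • x := fun x a ha => if_neg ha
  have h0mul : ∀ a, mulα o a = o := by
    intro a
    by_cases ha : a = o
    · rw [ha, mul0]
    · rw [muln _ _ ha, hho]
  have he1 : h e = 1 := (huh 1 e (one_smul H o) (one_smul H e) (Ne.symm hoe)).symm
  have hzero : T 1 = o := by rw [hT, Subgroup.coe_one, one_smul]
  have hinv : ∀ a : α, a ≠ o → ∃ b : α, mulα a b = e ∧ mulα b a = e := by
    intro a ha
    have hg : (h a)⁻¹ • o = o := inv_smul_eq_iff.2 (hho a).symm
    have hb : (h a)⁻¹ • e ≠ o := hne_o _ _ hg (Ne.symm hoe)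
    refine ⟨(h a)⁻¹ • e, ?_, ?_⟩
    · rw [muln _ _ hb, ← huh _ _ hg rfl hb, inv_smul_eq_iff, hhe a ha]
    · rw [muln _ _ ha, smul_inv_smul]
  let iA : Add α := ⟨addα⟩
  let iZ : Zero α := ⟨o⟩
  let iN : Neg α := ⟨fun x => T (T.symm x)⁻¹⟩
  let iM : Mul α := ⟨mulα⟩
  let iO : One α := ⟨e⟩
  let NF : Cfsg.NearField α :=
    { add := addα
      zero := o
      neg := fun x => T (T.symm x)⁻¹
      nsmul := nsmulRec (M := α)
      zsmul := zsmulRec (G := α) (nsmulRec (M := α))
      add_assoc := fun x y z => by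
        show T (T.symm (T (T.symm x * T.symm y)) * T.symm z) = T (T.symm x * T.symm (T (T.symm y * T.symm z)))
        rw [Equiv.symm_apply_apply, Equiv.symm_apply_apply, mul_assoc]
      zero_add := fun x => by
        show T (T.symm o * T.symm x) = x
        rw [show T.symm o = 1 from (Equiv.symm_apply_eq T).2 hzero.symm, one_mul, Equiv.apply_symm_apply]
      add_zero := fun x => by
        show T (T.symm x * T.symm o) = x
        rw [show T.symm o = 1 from (Equiv.symm_apply_eq T).2 hzero.symm, mul_one, Equiv.apply_symm_apply]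
      neg_add_cancel := fun x => by
        show T (T.symm (T (T.symm x)⁻¹) * T.symm x) = o
        rw [Equiv.symm_apply_apply, inv_mul_cancel, hzero]
      mul := mulα
      one := e
      one_mul := fun a => by
        show mulα e a = a
        by_cases ha : a = o
        · rw [ha, mul0]
        · rw [muln _ _ ha, hhe a ha]
      mul_one := fun a => by
        show mulα a e = a
        rw [muln _ _ (Ne.symm hoe), he1, one_smul]
      npow := npowRec (M := α)
      mul_assoc := fun x a b => by
        show mulα (mulα x a) b = mulα x (mulα a b)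
        by_cases hb : b = o
        · rw [hb, mul0, mul0, mul0]
        by_cases ha : a = o
        · rw [ha, mul0, h0mul, mul0]
        · have hab : h b • a ≠ o := hne_o _ _ (hho b) ha
          rw [muln _ _ hb, muln _ _ ha, muln a _ hb, muln _ _ hab,
            ← huh (h b * h a) _ (by rw [mul_smul, hho, hho]) (by rw [mul_smul, hhe a ha]) hab, mul_smul]
      right_distrib := fun x y c => by
        show mulα (addα x y) c = addα (mulα x c) (mulα y c)
        by_cases hc : c = o
        · rw [hc, mul0, mul0, mul0]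
          show o = T (T.symm o * T.symm o)
          rw [show T.symm o = 1 from (Equiv.symm_apply_eq T).2 hzero.symm, mul_one, hzero]
        · rw [muln _ _ hc, muln _ _ hc, muln _ _ hc, hlin _ (hho c)]
      mul_zero := fun a => mul0 a
      zero_ne_one := hoe
      exists_inv := hinv }
  refine ⟨NF, fun σ => ⟨fun hσ => ?_, ?_⟩⟩
  · let b : α := σ o
    let g : H := ((T.symm b : N) : H)⁻¹ * ⟨σ, hσ⟩
    have hg : g • o = o := by
      show (((T.symm b : N) : H)⁻¹ * ⟨σ, hσ⟩) • o = o
      rw [mul_smul, inv_smul_eq_iff, hTs]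
      rfl
    have ha : g • e ≠ o := hne_o _ _ hg (Ne.symm hoe)
    refine ⟨g • e, b, ha, fun x => ?_⟩
    show σ x = addα (mulα x (g • e)) b
    rw [haddc, hadd, muln _ _ ha, ← huh g _ hg rfl ha, ← mul_smul]
    show σ x = (((T.symm b : N) : H) * (((T.symm b : N) : H)⁻¹ * ⟨σ, hσ⟩)) • x
    rw [mul_inv_cancel_left]
    rfl
  · rintro ⟨a, b, ha, hσ⟩
    have ha' : a ≠ o := ha
    have : σ = ((((T.symm b : N) : H) * h a : H) : Equiv.Perm α) := by
      refine Equiv.ext fun x => ?_
      rw [hσ]
      show addα (mulα x a) b = (((T.symm b : N) : H) * h a) • x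
      rw [haddc, hadd, muln _ _ ha', mul_smul]
    rw [this]
    exact SetLike.coe_mem _

end Cfsg.Agent.S0683
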