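import Cfsg.Statements.S0684
import Mathlib

set_option autoImplicit false
open Cfsg

namespace Cfsg.Agent.S0684

/-- Point stabiliser of a sharply doubly transitive group not of semilinear type: a maximal normal abelian subgroup `A` of a linear group `H` that is regular on non-zero vectors and has no irreducible cyclic normal subgroup is cyclic and reducible, and the order of `A` divides `p ^ k - 1` for `k` the dimension of a minimal `A`-invariant subspace. -/
theorem result {p : ℕ} [Fact p.Prime] {V : Type*} [AddCommGroup V] [Module (ZMod p) V] [Finite V] (H : Subgroup (V ≃ₗ[ZMod p] V)) (hreg : ∀ v w : V, v ≠ 0 → w ≠ 0 → ∃! h : H, (h : V ≃ₗ[ZMod p] V) v = w) (hI : ∀ A : Subgroup H, A.Normal → IsCyclic A → ∃ W : Submodule (ZMod p) V, W ≠ ⊥ ∧ W ≠ ⊤ ∧ ∀ a ∈ A, ∀ v ∈ W, ((a : H) : V ≃ₗ[ZMod p] V) v ∈ W) (A : Subgroup H) (hAn : A.Normal) (hAc : IsMulCommutative A) (hAmax : ∀ B : Subgroup H, B.Normal → IsMulCommutative B → A ≤ B → B = A) : IsCyclic A ∧ ∃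 W : Submodule (ZMod p) V, W ≠ ⊥ ∧ W ≠ ⊤ ∧ (∀ a ∈ A, ∀ v ∈ W, ((a : H) : V ≃ₗ[ZMod p] V) v ∈ W) ∧ (∀ W' : Submodule (ZMod p) V, W' ≤ W → (∀ a ∈ A, ∀ v ∈ W', ((a : H) : V ≃ₗ[ZMod p] V) v ∈ W') → W' = ⊥ ∨ W' = W) ∧ Nat.card A ∣ p ^ Module.finrank (ZMod p) W - 1 := by
  classical
  have hAc' : ∀ x ∈ A, ∀ y ∈ A, x * y = y * x := fun x hx y hy =>
    congrArg Subtype.val (hAc.is_comm.comm ⟨x, hx⟩ ⟨y, hy⟩)
  let toEnd : H →* Module.End (ZMod p) V :=
    { toFun := fun h => ((h : V ≃ₗ[ZMod p] V) : V →ₗ[ZMod p] V)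
      map_one' := rfl
      map_mul' := fun x y => rfl }
  have happ : ∀ (h : H) (v : V), toEnd h v = (h : V ≃ₗ[ZMod p] V) v := fun h v => rfl
  have hinj : Function.Injective toEnd := fun x y h =>
    Subtype.ext (LinearEquiv.toLinearMap_injective h)
  let S : Set (Module.End (ZMod p) V) := toEnd '' (A : Set H)
  let K : Subring (Module.End (ZMod p) V) := Subring.closure S
  haveI : Finite (Module.End (ZMod p) V) := Finite.of_injective (fun f : Module.End (ZMod p) V => (f : V → V))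
    DFunLike.coe_injective
  haveI : Finite H := Finite.of_injective toEnd hinj
  have hScomm : ∀ x ∈ S, ∀ y ∈ S, x * y = y * x := by
    rintro _ ⟨x, hx, rfl⟩ _ ⟨y, hy, rfl⟩
    rw [← map_mul, ← map_mul, hAc' x hx y hy]
  letI : CommRing K := Subring.closureCommRingOfComm hScomm
  have hAK : ∀ x ∈ A, toEnd x ∈ K := fun x hx => Subring.subset_closure ⟨x, hx, rfl⟩
  have hconjK : ∀ (h : H), ∀ k ∈ K, toEnd h * k * toEnd h⁻¹ ∈ K := by
    intro h k hk
    induction hk using Subring.closure_induction with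
    | mem x hx =>
      obtain ⟨a, ha, rfl⟩ := hx
      rw [← map_mul, ← map_mul]
      exact hAK _ (hAn.conj_mem a ha h)
    | zero => rw [mul_zero, zero_mul]; exact zero_mem _
    | one => rw [mul_one, ← map_mul, mul_inv_cancel, map_one]; exact one_mem _
    | add x y _ _ hx hy => rw [mul_add, add_mul]; exact add_mem hx hy
    | neg x _ hx => rw [mul_neg, neg_mul]; exact neg_mem hx
    | mul x y _ _ hx hy =>
      have h1 : toEnd h⁻¹ * toEnd h = 1 := by rw [← map_mul, inv_mul_cancel, map_one]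
      rw [show toEnd h * (x * y) * toEnd h⁻¹ = (toEnd h * x * toEnd h⁻¹) * (toEnd h * y * toEnd h⁻¹) by
        calc toEnd h * (x * y) * toEnd h⁻¹ = toEnd h * x * (toEnd h⁻¹ * toEnd h) * y * toEnd h⁻¹ := by
              rw [h1]; simp only [mul_one, mul_assoc]
          _ = _ := by simp only [mul_assoc]]
      exact mul_mem hx hy
  let O : V → Set V := fun v => Set.range fun k : K => (k : Module.End (ZMod p) V) v
  have hOself : ∀ v, v ∈ O v := fun v => ⟨1, by simp⟩
  have hOsub : ∀ u v, u ∈ O v → O u ⊆ O v := by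
    rintro u v ⟨k, rfl⟩ w ⟨j, rfl⟩
    exact ⟨j * k, rfl⟩
  have hOh : ∀ (h : H) (v : V), (O ((h : V ≃ₗ[ZMod p] V) v)).ncard = (O v).ncard := by
    intro h v
    rw [← Set.ncard_image_of_injective (O v) (h : V ≃ₗ[ZMod p] V).injective]
    congr 1
    have hback : ∀ z, toEnd h⁻¹ ((h : V ≃ₗ[ZMod p] V) z) = z := fun z => by
      rw [← happ, ← Module.End.mul_apply, ← map_mul, inv_mul_cancel, map_one, Module.End.one_apply]
    have hforw : ∀ z, toEnd h (toEnd h⁻¹ z) = z := fun z => by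
      rw [← Module.End.mul_apply, ← map_mul, mul_inv_cancel, map_one, Module.End.one_apply]
    ext w
    constructor
    · rintro ⟨k, rfl⟩
      refine ⟨toEnd h⁻¹ ((k : Module.End (ZMod p) V) ((h : V ≃ₗ[ZMod p] V) v)),
        ⟨⟨_, hconjK h⁻¹ k k.2⟩, ?_⟩, ?_⟩
      · show (toEnd h⁻¹ * (k : Module.End (ZMod p) V) * toEnd h⁻¹⁻¹) v = _
        rw [inv_inv]; rfl
      · rw [← happ, hforw]
    · rintro ⟨_, ⟨k, rfl⟩, rfl⟩
      refine ⟨⟨_, hconjK h k k.2⟩, ?_⟩
      show toEnd h ((k : Module.End (ZMod p) V) (toEnd h⁻¹ ((h : V ≃ₗ[ZMod p] V) v))) = _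
      rw [hback]; rfl
  have hmin : ∀ v : V, v ≠ 0 → ∀ u ∈ O v, u ≠ 0 → v ∈ O u := by
    intro v hv u hu hu0
    obtain ⟨h, hh, -⟩ := hreg v u hv hu0
    have h1 : (O u).ncard = (O v).ncard := by rw [← hh]; exact hOh h v
    rw [Set.eq_of_subset_of_ncard_le (hOsub u v hu) h1.ge (Set.toFinite _)]
    exact hOself v
  have hfield : ∀ (k : K) (v : V), v ≠ 0 → (k : Module.End (ZMod p) V) v = 0 → k = 0 := by
    intro k v hv hkv
    refine Subtype.ext (LinearMap.ext fun u => ?_)
    by_contra hu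
    change (k : Module.End (ZMod p) V) u ≠ 0 at hu
    have hkuv : (k : Module.End (ZMod p) V) (u + v) = (k : Module.End (ZMod p) V) u := by
      rw [map_add, hkv, add_zero]
    have hu0 : u ≠ 0 := fun e => hu (by rw [e, map_zero])
    have huv0 : u + v ≠ 0 := fun e => hu (by rw [← hkuv, e, map_zero])
    have h1 : u + v ∈ O ((k : Module.End (ZMod p) V) u) := hmin _ huv0 _ ⟨k, hkuv⟩ hu
    obtain ⟨j, hj⟩ := h1
    obtain ⟨i, hi⟩ : v ∈ O u := by
      refine ⟨j * k - 1, ?_⟩
      show (j : Module.End (ZMod p) V) ((k : Module.End (ZMod p) V) u) - u = v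
      simp only at hj
      rw [hj]; abel
    obtain ⟨l, hl⟩ := hmin u hu0 v ⟨i, hi⟩ hv
    apply hu
    rw [← hl]
    show (k : Module.End (ZMod p) V) ((l : Module.End (ZMod p) V) v) = 0
    rw [← Module.End.mul_apply, ← Subring.coe_mul, mul_comm k l, Subring.coe_mul, Module.End.mul_apply,
      hkv, map_zero]
  obtain ⟨v₀, hv₀⟩ : ∃ v : V, v ≠ 0 := by
    by_contra hh
    push Not at hh
    obtain ⟨W, hW1, -, -⟩ := hI ⊥ inferInstance inferInstance
    exact hW1 ((Submodule.eq_bot_iff W).mpr fun x _ => hh x)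
  haveI : Nontrivial K := ⟨⟨0, 1, fun e => hv₀ (by
    have := congrArg (fun k : K => (k : Module.End (ZMod p) V) v₀) e
    simpa using this.symm)⟩⟩
  haveI : NoZeroDivisors K := ⟨fun {a b} hab => by
    by_cases hb : (b : Module.End (ZMod p) V) v₀ = 0
    · exact Or.inr (hfield b v₀ hv₀ hb)
    · refine Or.inl (hfield a _ hb ?_)
      have := congrArg (fun k : K => (k : Module.End (ZMod p) V) v₀) hab
      simpa using this⟩
  haveI : IsDomain K := NoZeroDivisors.to_isDomain K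
  haveI hcyc : IsCyclic A := isCyclic_of_subgroup_isDomain (R := K)
    { toFun := fun a : A => (⟨toEnd (a : H), hAK a a.2⟩ : K)
      map_one' := Subtype.ext (map_one toEnd)
      map_mul' := fun a b => Subtype.ext (map_mul toEnd (a : H) (b : H)) }
    (fun a b h => Subtype.ext (hinj (congrArg Subtype.val h)))
  refine ⟨hcyc, ?_⟩
  obtain ⟨W₀, hW1, hW2, hWA⟩ := hI A hAn hcyc
  obtain ⟨w, hw, hw0⟩ := W₀.exists_mem_ne_zero_of_ne_bot hW1
  have hK' : ∀ (W' : Submodule (ZMod p) V), (∀ a ∈ A, ∀ v ∈ W', ((a : H) : V ≃ₗ[ZMod p] V) v ∈ W') →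
      ∀ k ∈ K, ∀ x ∈ W', k x ∈ W' := by
    intro W' hW' k hk
    induction hk using Subring.closure_induction with
    | mem x hx => obtain ⟨a, ha, rfl⟩ := hx; exact fun v hv => hW' a ha v hv
    | zero => exact fun v _ => zero_mem W'
    | one => exact fun v hv => hv
    | add x y _ _ hx hy => exact fun v hv => add_mem (hx v hv) (hy v hv)
    | neg x _ hx => exact fun v hv => neg_mem (hx v hv)
    | mul x y _ _ hx hy => exact fun v hv => hx _ (hy v hv)
  let φ : K →+ V := AddMonoidHom.mk' (fun k : K => (k : Module.End (ZMod p) V) w) (fun a b => rfl)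
  have hφ : Function.Injective φ := (injective_iff_map_eq_zero φ).mpr fun k hk => hfield k w hw0 hk
  let W : Submodule (ZMod p) V := AddSubgroup.toZModSubmodule p φ.range
  have hmem : ∀ v, v ∈ W ↔ ∃ k : K, (k : Module.End (ZMod p) V) w = v := fun v => AddMonoidHom.mem_range
  have hWle : W ≤ W₀ := fun v hv => by
    obtain ⟨k, rfl⟩ := (hmem v).mp hv
    exact hK' W₀ hWA k k.2 w hw
  have hWinv : ∀ a ∈ A, ∀ v ∈ W, ((a : H) : V ≃ₗ[ZMod p] V) v ∈ W := fun a ha v hv => by
    obtain ⟨k, rfl⟩ := (hmem v).mp hv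
    exact (hmem _).mpr ⟨⟨toEnd a, hAK a ha⟩ * k, rfl⟩
  refine ⟨W, fun e => hw0 ?_, fun e => hW2 (eq_top_iff.mpr (e ▸ hWle)), hWinv, fun W' hle hinv => ?_, ?_⟩
  · have : w ∈ W := (hmem w).mpr ⟨1, rfl⟩
    rwa [e, Submodule.mem_bot] at this
  · refine or_iff_not_imp_left.mpr fun hne => le_antisymm hle fun v hv => ?_
    obtain ⟨x, hx, hx0⟩ := W'.exists_mem_ne_zero_of_ne_bot hne
    obtain ⟨k, rfl⟩ := (hmem x).mp (hle hx)
    obtain ⟨j, hj⟩ := hmin w hw0 _ ⟨k, rfl⟩ hx0
    obtain ⟨l, rfl⟩ := (hmem v).mp hv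
    exact hK' W' hinv l l.2 w (hj ▸ hK' W' hinv j j.2 _ hx)
  · have hcard : p ^ Module.finrank (ZMod p) W = Nat.card K := by
      haveI : Fintype W := Fintype.ofFinite W
      rw [Nat.card_congr (AddMonoidHom.ofInjective hφ).toEquiv]
      change _ = Nat.card W
      rw [Nat.card_eq_fintype_card, Module.card_eq_pow_finrank (K := ZMod p), ZMod.card]
    rw [hcard]
    let ψ : A →* Kˣ := ({ toFun := fun a : A => (⟨toEnd (a : H), hAK a a.2⟩ : K)
                          map_one' := Subtype.ext (map_one toEnd)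
                          map_mul' := fun a b => Subtype.ext (map_mul toEnd (a : H) (b : H)) } : A →* K).toHomUnits
    have hψ : Function.Injective ψ := fun a b h => Subtype.ext (hinj (congrArg Subtype.val
      (congrArg Units.val h)))
    letI : Fintype K := Fintype.ofFinite K
    have hunits : Nat.card Kˣ = Nat.card K - 1 := by
      have e : Kˣ ≃ {k : K // k ≠ 0} := Equiv.ofBijective (fun u => ⟨(u : K), u.ne_zero⟩)
        ⟨fun u v h => Units.ext (congrArg Subtype.val h), fun k => by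
          obtain ⟨j, hj⟩ := (Finite.isField_of_domain K).mul_inv_cancel k.2
          exact ⟨⟨k, j, hj, by rw [mul_comm]; exact hj⟩, rfl⟩⟩
      rw [Nat.card_congr e, Nat.card_eq_fintype_card, Nat.card_eq_fintype_card, Fintype.card_subtype_compl,
        Fintype.card_subtype_eq]
    rw [← hunits]
    exact Subgroup.card_dvd_of_injective ψ hψ

end Cfsg.Agent.S0684
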