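import Cfsg.Statements.S0685
import Mathlib

set_option autoImplicit false
open Cfsg

namespace Cfsg.Agent.S0685

/-- In a linear group over the prime field that is regular on non-zero vectors and has no irreducible cyclic normal subgroup, a maximal normal abelian subgroup is properly contained in its centraliser, which is non-abelian. -/
theorem result {p : ℕ} [Fact p.Prime] {V : Type*} [AddCommGroup V] [Module (ZMod p) V] [Finite V] (H : Subgroup (V ≃ₗ[ZMod p] V)) (hreg : ∀ v w : V, v ≠ 0 → w ≠ 0 → ∃! h : H, (h : V ≃ₗ[ZMod p] V) v = w) (hI : ∀ A : Subgroup H, A.Normal → IsCyclic A → ∃ W : Submodule (ZMod p) V, W ≠ ⊥ ∧ W ≠ ⊤ ∧ ∀ a ∈ A, ∀ v ∈ W, ((a : H) : V ≃ₗ[ZMod p] V) v ∈ W) (A : Subgroup H) (hAn : A.Normal) (hAc : IsMulCommutative A) (hAmax : ∀ B : Subgroup H, B.Normal → IsMulCommutative B → A ≤ B → B = A) : A < Subgroup.centralizer (A : Set H) ∧ ¬ IsMulCommutative (Subgroup.centralizer (A : Set H)) := by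
  classical
  set C := Subgroup.centralizer (A : Set H) with hC
  have hAc' : ∀ x ∈ A, ∀ y ∈ A, x * y = y * x := fun x hx y hy =>
    congrArg Subtype.val (hAc.is_comm.comm ⟨x, hx⟩ ⟨y, hy⟩)
  have hAC : A ≤ C := fun x hx y hy => hAc' y hy x hx
  suffices hne : A ≠ C by
    refine ⟨lt_of_le_of_ne hAC hne, fun hCc => hne ?_⟩
    haveI := hAn
    exact (hAmax C inferInstance hCc hAC).symm
  intro hEq
  let toEnd : H →* Module.End (ZMod p) V :=
    { toFun := fun h => ((h : V ≃ₗ[ZMod p] V) : V →ₗ[ZMod p] V)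
      map_one' := rfl
      map_mul' := fun x y => rfl }
  have happ : ∀ (h : H) (v : V), toEnd h v = (h : V ≃ₗ[ZMod p] V) v := fun h v => rfl
  have hinj : Function.Injective toEnd := fun x y h =>
    Subtype.ext (LinearEquiv.toLinearMap_injective h)
  let S : Set (Module.End (ZMod p) V) := toEnd '' (A : Set H)
  let K : Subring (Module.End (ZMod p) V) := Subring.closure S
  haveI : Finite (Module.End (ZMod p) V) := Finite.of_injective (fun f : Module.End (ZMod p) V => (f : V → V))
    DFunLike.coe_injective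
  haveI : Finite H := Finite.of_injective toEnd hinj
  have hScomm : ∀ x ∈ S, ∀ y ∈ S, x * y = y * x := by
    rintro _ ⟨x, hx, rfl⟩ _ ⟨y, hy, rfl⟩
    rw [← map_mul, ← map_mul, hAc' x hx y hy]
  letI : CommRing K := Subring.closureCommRingOfComm hScomm
  have hAK : ∀ x ∈ A, toEnd x ∈ K := fun x hx => Subring.subset_closure ⟨x, hx, rfl⟩
  have hconjK : ∀ (h : H), ∀ k ∈ K, toEnd h * k * toEnd h⁻¹ ∈ K := by
    intro h k hk
    induction hk using Subring.closure_induction with
    | mem x hx =>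
      obtain ⟨a, ha, rfl⟩ := hx
      rw [← map_mul, ← map_mul]
      exact hAK _ (hAn.conj_mem a ha h)
    | zero => rw [mul_zero, zero_mul]; exact zero_mem _
    | one => rw [mul_one, ← map_mul, mul_inv_cancel, map_one]; exact one_mem _
    | add x y _ _ hx hy => rw [mul_add, add_mul]; exact add_mem hx hy
    | neg x _ hx => rw [mul_neg, neg_mul]; exact neg_mem hx
    | mul x y _ _ hx hy =>
      have h1 : toEnd h⁻¹ * toEnd h = 1 := by rw [← map_mul, inv_mul_cancel, map_one]
      rw [show toEnd h * (x * y) * toEnd h⁻¹ = (toEnd h * x * toEnd h⁻¹) * (toEnd h * y * toEnd h⁻¹) by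
        calc toEnd h * (x * y) * toEnd h⁻¹ = toEnd h * x * (toEnd h⁻¹ * toEnd h) * y * toEnd h⁻¹ := by
              rw [h1]; simp only [mul_one, mul_assoc]
          _ = _ := by simp only [mul_assoc]]
      exact mul_mem hx hy
  let O : V → Set V := fun v => Set.range fun k : K => (k : Module.End (ZMod p) V) v
  have hOself : ∀ v, v ∈ O v := fun v => ⟨1, by simp⟩
  have hOsub : ∀ u v, u ∈ O v → O u ⊆ O v := by
    rintro u v ⟨k, rfl⟩ w ⟨j, rfl⟩
    exact ⟨j * k, rfl⟩
  have hOh : ∀ (h : H) (v : V), (O ((h : V ≃ₗ[ZMod p] V) v)).ncard = (O v).ncard := by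
    intro h v
    rw [← Set.ncard_image_of_injective (O v) (h : V ≃ₗ[ZMod p] V).injective]
    congr 1
    have hback : ∀ z, toEnd h⁻¹ ((h : V ≃ₗ[ZMod p] V) z) = z := fun z => by
      rw [← happ, ← Module.End.mul_apply, ← map_mul, inv_mul_cancel, map_one, Module.End.one_apply]
    have hforw : ∀ z, toEnd h (toEnd h⁻¹ z) = z := fun z => by
      rw [← Module.End.mul_apply, ← map_mul, mul_inv_cancel, map_one, Module.End.one_apply]
    ext w
    constructor
    · rintro ⟨k, rfl⟩
      refine ⟨toEnd h⁻¹ ((k : Module.End (ZMod p) V) ((h : V ≃ₗ[ZMod p] V) v)),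
        ⟨⟨_, hconjK h⁻¹ k k.2⟩, ?_⟩, ?_⟩
      · show (toEnd h⁻¹ * (k : Module.End (ZMod p) V) * toEnd h⁻¹⁻¹) v = _
        rw [inv_inv]; rfl
      · rw [← happ, hforw]
    · rintro ⟨_, ⟨k, rfl⟩, rfl⟩
      refine ⟨⟨_, hconjK h k k.2⟩, ?_⟩
      show toEnd h ((k : Module.End (ZMod p) V) (toEnd h⁻¹ ((h : V ≃ₗ[ZMod p] V) v))) = _
      rw [hback]; rfl
  have hmin : ∀ v : V, v ≠ 0 → ∀ u ∈ O v, u ≠ 0 → v ∈ O u := by
    intro v hv u hu hu0
    obtain ⟨h, hh, -⟩ := hreg v u hv hu0
    have h1 : (O u).ncard = (O v).ncard := by rw [← hh]; exact hOh h v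
    rw [Set.eq_of_subset_of_ncard_le (hOsub u v hu) h1.ge (Set.toFinite _)]
    exact hOself v
  have hfield : ∀ (k : K) (v : V), v ≠ 0 → (k : Module.End (ZMod p) V) v = 0 → k = 0 := by
    intro k v hv hkv
    refine Subtype.ext (LinearMap.ext fun u => ?_)
    by_contra hu
    change (k : Module.End (ZMod p) V) u ≠ 0 at hu
    have hkuv : (k : Module.End (ZMod p) V) (u + v) = (k : Module.End (ZMod p) V) u := by
      rw [map_add, hkv, add_zero]
    have hu0 : u ≠ 0 := fun e => hu (by rw [e, map_zero])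
    have huv0 : u + v ≠ 0 := fun e => hu (by rw [← hkuv, e, map_zero])
    have h1 : u + v ∈ O ((k : Module.End (ZMod p) V) u) := hmin _ huv0 _ ⟨k, hkuv⟩ hu
    obtain ⟨j, hj⟩ := h1
    obtain ⟨i, hi⟩ : v ∈ O u := by
      refine ⟨j * k - 1, ?_⟩
      show (j : Module.End (ZMod p) V) ((k : Module.End (ZMod p) V) u) - u = v
      simp only at hj
      rw [hj]; abel
    obtain ⟨l, hl⟩ := hmin u hu0 v ⟨i, hi⟩ hv
    apply hu
    rw [← hl]
    show (k : Module.End (ZMod p) V) ((l : Module.End (ZMod p) V) v) = 0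
    rw [← Module.End.mul_apply, ← Subring.coe_mul, mul_comm k l, Subring.coe_mul, Module.End.mul_apply,
      hkv, map_zero]
  obtain ⟨v₀, hv₀⟩ : ∃ v : V, v ≠ 0 := by
    by_contra hh
    push Not at hh
    obtain ⟨W, hW1, -, -⟩ := hI ⊥ inferInstance inferInstance
    exact hW1 ((Submodule.eq_bot_iff W).mpr fun x _ => hh x)
  haveI : Nontrivial K := ⟨⟨0, 1, fun e => hv₀ (by
    have := congrArg (fun k : K => (k : Module.End (ZMod p) V) v₀) e
    simpa using this.symm)⟩⟩
  haveI : NoZeroDivisors K := ⟨fun {a b} hab => by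
    by_cases hb : (b : Module.End (ZMod p) V) v₀ = 0
    · exact Or.inr (hfield b v₀ hv₀ hb)
    · refine Or.inl (hfield a _ hb ?_)
      have := congrArg (fun k : K => (k : Module.End (ZMod p) V) v₀) hab
      simpa using this⟩
  haveI : IsDomain K := NoZeroDivisors.to_isDomain K
  haveI hcyc : IsCyclic A := isCyclic_of_subgroup_isDomain (R := K)
    { toFun := fun a : A => (⟨toEnd (a : H), hAK a a.2⟩ : K)
      map_one' := Subtype.ext (map_one toEnd)
      map_mul' := fun a b => Subtype.ext (map_mul toEnd (a : H) (b : H)) }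
    (fun a b h => Subtype.ext (hinj (congrArg Subtype.val h)))
  obtain ⟨W, hW1, hW2, hWA⟩ := hI A hAn hcyc
  obtain ⟨w, hw, hw0⟩ := W.exists_mem_ne_zero_of_ne_bot hW1
  obtain ⟨u, hu⟩ : ∃ u, u ∉ W := by
    by_contra hh
    push Not at hh
    exact hW2 (Submodule.eq_top_iff'.mpr hh)
  have hWK : ∀ k ∈ K, ∀ x ∈ W, k x ∈ W := by
    intro k hk
    induction hk using Subring.closure_induction with
    | mem x hx => obtain ⟨a, ha, rfl⟩ := hx; exact fun v hv => hWA a ha v hv
    | zero => exact fun v _ => zero_mem W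
    | one => exact fun v hv => hv
    | add x y _ _ hx hy => exact fun v hv => add_mem (hx v hv) (hy v hv)
    | neg x _ hx => exact fun v hv => neg_mem (hx v hv)
    | mul x y _ _ hx hy => exact fun v hv => hx _ (hy v hv)
  set q := Nat.card K with hq
  have hu0 : u ≠ 0 := fun e => hu (e ▸ zero_mem W)
  have hinj2 : Function.Injective fun jl : K × K =>
      (jl.1 : Module.End (ZMod p) V) w + (jl.2 : Module.End (ZMod p) V) u := by
    rintro ⟨j, l⟩ ⟨j', l'⟩ h
    simp only at h
    have h1 : ((l - l' : K) : Module.End (ZMod p) V) u = ((j' - j : K) : Module.End (ZMod p) V) w := by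
      simp only [AddSubgroupClass.coe_sub, LinearMap.sub_apply]
      rw [sub_eq_sub_iff_add_eq_add, add_comm]
      linear_combination (norm := module) h
    have h2 : l - l' = 0 := by
      by_contra hne
      have h3 : ((l - l' : K) : Module.End (ZMod p) V) u ≠ 0 := fun e => hne (hfield _ u hu0 e)
      obtain ⟨m, hm⟩ := hmin u hu0 _ ⟨l - l', rfl⟩ h3
      apply hu
      simp only at hm
      rw [← hm, h1]
      exact hWK _ m.2 _ (hWK _ (j' - j).2 w hw)
    rw [h2, ZeroMemClass.coe_zero, LinearMap.zero_apply] at h1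
    have h4 := hfield _ w hw0 h1.symm
    exact Prod.ext (sub_eq_zero.mp h4).symm (sub_eq_zero.mp h2)
  have hV : q * q ≤ Nat.card V := by
    rw [hq, ← Nat.card_prod]; exact Nat.card_le_card_of_injective _ hinj2
  -- the number of cosets and the size of `A`
  have hK0 : Nat.card {k : K // k ≠ 0} + 1 = q := by
    rw [hq]
    haveI : Fintype K := Fintype.ofFinite K
    rw [Nat.card_eq_fintype_card, Nat.card_eq_fintype_card, Fintype.card_subtype_compl,
      Fintype.card_subtype_eq]
    have := Fintype.card_pos (α := K)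
    omega
  have hne0 : ∀ (x : H) (hx : toEnd x ∈ K), (⟨toEnd x, hx⟩ : K) ≠ 0 := fun x hx e => hv₀ (by
    have h1 := congrArg (fun k : K => (k : Module.End (ZMod p) V) v₀) e
    simp only [ZeroMemClass.coe_zero, LinearMap.zero_apply] at h1
    exact (x : V ≃ₗ[ZMod p] V).injective (h1.trans (map_zero _).symm))
  have hA : Nat.card A ≤ Nat.card {k : K // k ≠ 0} :=
    Nat.card_le_card_of_injective (fun a : A => ⟨⟨toEnd (a : H), hAK a a.2⟩, hne0 a (hAK a a.2)⟩)
      (fun a b h => Subtype.ext (hinj (congrArg (fun k : {k : K // k ≠ 0} => ((k : K) : Module.End (ZMod p) V)) h)))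
  obtain ⟨a₀, ha₀⟩ := hcyc.exists_generator
  have hidx : A.index ≤ Nat.card {k : K // k ≠ 0} := by
    have hcomm : ∀ z : H, z ∈ A → z * (a₀ : H) * z⁻¹ = a₀ := fun z hz => by
      rw [hAc' z hz a₀ a₀.2, mul_inv_cancel_right]
    refine Nat.card_le_card_of_injective (α := H ⧸ A) (fun x => Quotient.liftOn' x
      (fun h : H => (⟨⟨toEnd (h * (a₀ : H) * h⁻¹), hAK _ (hAn.conj_mem a₀ a₀.2 h)⟩,
        hne0 _ (hAK _ (hAn.conj_mem a₀ a₀.2 h))⟩ : {k : K // k ≠ 0})) (fun h h' hh => ?_)) ?_
    · have hz : h⁻¹ * h' ∈ A := QuotientGroup.leftRel_apply.mp hh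
      refine Subtype.ext (Subtype.ext (congrArg toEnd ?_))
      calc h * (a₀ : H) * h⁻¹ = h * ((h⁻¹ * h') * a₀ * (h⁻¹ * h')⁻¹) * h⁻¹ := by rw [hcomm _ hz]
        _ = _ := by group
    · intro x y
      induction x using QuotientGroup.induction_on with | H h => ?_
      induction y using QuotientGroup.induction_on with | H h' => ?_
      intro e
      have e' : h * (a₀ : H) * h⁻¹ = h' * a₀ * h'⁻¹ :=
        hinj (congrArg (fun k : {k : K // k ≠ 0} => ((k : K) : Module.End (ZMod p) V)) e)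
      refine QuotientGroup.eq.mpr ?_
      rw [hEq]
      intro y hy
      obtain ⟨i, hi⟩ := Subgroup.mem_zpowers_iff.mp (ha₀ ⟨y, hy⟩)
      have hy' : (a₀ : H) ^ i = y := congrArg Subtype.val hi
      rw [← hy']
      refine (Commute.zpow_left ?_ i).eq
      calc (a₀ : H) * (h⁻¹ * h') = h⁻¹ * (h * a₀ * h⁻¹) * h' := by group
        _ = h⁻¹ * (h' * a₀ * h'⁻¹) * h' := by rw [e']
        _ = h⁻¹ * h' * a₀ := by group
  have hH : Nat.card V ≤ Nat.card H + 1 := by
    haveI : Fintype V := Fintype.ofFinite V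
    have h1 : Nat.card {v : V // v ≠ 0} ≤ Nat.card H :=
      Nat.card_le_card_of_surjective (fun h : H => (⟨(h : V ≃ₗ[ZMod p] V) v₀, fun e =>
        hv₀ ((h : V ≃ₗ[ZMod p] V).injective (e.trans (map_zero _).symm))⟩ : {v : V // v ≠ 0}))
        (fun v => ⟨(hreg v₀ v hv₀ v.2).choose, Subtype.ext (hreg v₀ v hv₀ v.2).choose_spec.1⟩)
    rw [Nat.card_eq_fintype_card, Fintype.card_subtype_compl, Fintype.card_subtype_eq] at h1
    rw [Nat.card_eq_fintype_card (α := V)]
    omega
  rw [← A.card_mul_index] at hH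
  have h2 := Nat.mul_le_mul hA hidx
  have h3 : 1 ≤ Nat.card {k : K // k ≠ 0} := hA.trans' Nat.card_pos
  nlinarith

end Cfsg.Agent.S0685
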