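import Cfsg.Statements.S0687
import Mathlib

set_option autoImplicit false
open Cfsg

namespace Cfsg.Agent.S0687

/-- In a linear group over the prime field that is regular on non-zero vectors and has no irreducible cyclic normal subgroup, a normal subgroup `N` minimal among the non-abelian normal subgroups centralising a maximal normal abelian subgroup `A` is irreducible on `V`, and its centraliser is `A`. -/
theorem result {p : ℕ} [Fact p.Prime] {V : Type*} [AddCommGroup V] [Module (ZMod p) V] [Finite V] (H : Subgroup (V ≃ₗ[ZMod p] V)) (hreg : ∀ v w : V, v ≠ 0 → w ≠ 0 → ∃! h : H, (h : V ≃ₗ[ZMod p] V) v = w) (hI : ∀ A : Subgroup H, A.Normal → IsCyclic A → ∃ W : Submodule (ZMod p) V, W ≠ ⊥ ∧ W ≠ ⊤ ∧ ∀ a ∈ A, ∀ v ∈ W, ((a : H) : V ≃ₗ[ZMod p] V) v ∈ W) (A : Subgroup H) (hAn : A.Normal) (hAc : IsMulCommutative A) (hAmax : ∀ B : Subgroup H, B.Normal → IsMulCommutative B → A ≤ B → B = A) (N : Subgroup H) (hNn : N.Normal) (hNle : N ≤ Subgroup.centralizer (A : Set H)) (hNna : ¬ IsMulCommutative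 N) (hNmin : ∀ M : Subgroup H, M.Normal → M ≤ N → ¬ IsMulCommutative M → M = N) : (∀ W : Submodule (ZMod p) V, (∀ n ∈ N, ∀ v ∈ W, ((n : H) : V ≃ₗ[ZMod p] V) v ∈ W) → W = ⊥ ∨ W = ⊤) ∧ Subgroup.centralizer (N : Set H) = A := by
  classical
  let toEnd : H →* Module.End (ZMod p) V :=
    { toFun := fun h => ((h : V ≃ₗ[ZMod p] V) : V →ₗ[ZMod p] V)
      map_one' := rfl
      map_mul' := fun x y => rfl }
  have happ : ∀ (h : H) (v : V), toEnd h v = (h : V ≃ₗ[ZMod p] V) v := fun h v => rfl
  have hinj : Function.Injective toEnd := fun x y h =>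
    Subtype.ext (LinearEquiv.toLinearMap_injective h)
  haveI : Finite (Module.End (ZMod p) V) := Finite.of_injective (fun f : Module.End (ZMod p) V => (f : V → V))
    DFunLike.coe_injective
  let S : Set (Module.End (ZMod p) V) := toEnd '' (N : Set H)
  let B : Subring (Module.End (ZMod p) V) := Subring.closure S
  have hNB : ∀ x ∈ N, toEnd x ∈ B := fun x hx => Subring.subset_closure ⟨x, hx, rfl⟩
  have hconjB : ∀ (h : H), ∀ k ∈ B, toEnd h * k * toEnd h⁻¹ ∈ B := by
    intro h k hk
    induction hk using Subring.closure_induction with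
    | mem x hx =>
      obtain ⟨a, ha, rfl⟩ := hx
      rw [← map_mul, ← map_mul]
      exact hNB _ (hNn.conj_mem a ha h)
    | zero => rw [mul_zero, zero_mul]; exact zero_mem _
    | one => rw [mul_one, ← map_mul, mul_inv_cancel, map_one]; exact one_mem _
    | add x y _ _ hx hy => rw [mul_add, add_mul]; exact add_mem hx hy
    | neg x _ hx => rw [mul_neg, neg_mul]; exact neg_mem hx
    | mul x y _ _ hx hy =>
      have h1 : toEnd h⁻¹ * toEnd h = 1 := by rw [← map_mul, inv_mul_cancel, map_one]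
      rw [show toEnd h * (x * y) * toEnd h⁻¹ = (toEnd h * x * toEnd h⁻¹) * (toEnd h * y * toEnd h⁻¹) by
        calc toEnd h * (x * y) * toEnd h⁻¹ = toEnd h * x * (toEnd h⁻¹ * toEnd h) * y * toEnd h⁻¹ := by
              rw [h1]; simp only [mul_one, mul_assoc]
          _ = _ := by simp only [mul_assoc]]
      exact mul_mem hx hy
  let O : V → Set V := fun v => Set.range fun k : B => (k : Module.End (ZMod p) V) v
  have hOself : ∀ v, v ∈ O v := fun v => ⟨1, by simp⟩
  have hOsub : ∀ u v, u ∈ O v → O u ⊆ O v := by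
    rintro u v ⟨k, rfl⟩ w ⟨j, rfl⟩
    exact ⟨j * k, rfl⟩
  have hOh : ∀ (h : H) (v : V), (O ((h : V ≃ₗ[ZMod p] V) v)).ncard = (O v).ncard := by
    intro h v
    rw [← Set.ncard_image_of_injective (O v) (h : V ≃ₗ[ZMod p] V).injective]
    congr 1
    have hback : ∀ z, toEnd h⁻¹ ((h : V ≃ₗ[ZMod p] V) z) = z := fun z => by
      rw [← happ, ← Module.End.mul_apply, ← map_mul, inv_mul_cancel, map_one, Module.End.one_apply]
    have hforw : ∀ z, toEnd h (toEnd h⁻¹ z) = z := fun z => by
      rw [← Module.End.mul_apply, ← map_mul, mul_inv_cancel, map_one, Module.End.one_apply]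
    ext w
    constructor
    · rintro ⟨k, rfl⟩
      refine ⟨toEnd h⁻¹ ((k : Module.End (ZMod p) V) ((h : V ≃ₗ[ZMod p] V) v)),
        ⟨⟨_, hconjB h⁻¹ k k.2⟩, ?_⟩, ?_⟩
      · show (toEnd h⁻¹ * (k : Module.End (ZMod p) V) * toEnd h⁻¹⁻¹) v = _
        rw [inv_inv]; rfl
      · rw [← happ, hforw]
    · rintro ⟨_, ⟨k, rfl⟩, rfl⟩
      refine ⟨⟨_, hconjB h k k.2⟩, ?_⟩
      show toEnd h ((k : Module.End (ZMod p) V) (toEnd h⁻¹ ((h : V ≃ₗ[ZMod p] V) v))) = _
      rw [hback]; rfl
  have hmin : ∀ v : V, v ≠ 0 → ∀ u ∈ O v, u ≠ 0 → v ∈ O u := by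
    intro v hv u hu hu0
    obtain ⟨h, hh, -⟩ := hreg v u hv hu0
    have h1 : (O u).ncard = (O v).ncard := by rw [← hh]; exact hOh h v
    rw [Set.eq_of_subset_of_ncard_le (hOsub u v hu) h1.ge (Set.toFinite _)]
    exact hOself v
  obtain ⟨v₀, hv₀⟩ : ∃ v : V, v ≠ 0 := by
    by_contra hh
    push Not at hh
    obtain ⟨W, hW1, -, -⟩ := hI ⊥ inferInstance inferInstance
    exact hW1 ((Submodule.eq_bot_iff W).mpr fun x _ => hh x)
  have hone : (1 : Module.End (ZMod p) V) ≠ 0 := fun e => hv₀ (by simpa using LinearMap.congr_fun e v₀)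
  -- irreducibility
  have hirr : ∀ W : Submodule (ZMod p) V, (∀ n ∈ N, ∀ v ∈ W, ((n : H) : V ≃ₗ[ZMod p] V) v ∈ W) →
      W = ⊥ ∨ W = ⊤ := by
    intro W hW
    by_contra hcon
    rw [not_or] at hcon
    obtain ⟨w, hw, hw0⟩ := W.exists_mem_ne_zero_of_ne_bot hcon.1
    obtain ⟨u₁, hu₁⟩ : ∃ u, u ∉ W := by
      by_contra hh
      push Not at hh
      exact hcon.2 (Submodule.eq_top_iff'.mpr hh)
    have hWB : ∀ k ∈ B, ∀ x ∈ W, k x ∈ W := by
      intro k hk
      induction hk using Subring.closure_induction with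
      | mem x hx => obtain ⟨a, ha, rfl⟩ := hx; exact fun v hv => hW a ha v hv
      | zero => exact fun v _ => zero_mem W
      | one => exact fun v hv => hv
      | add x y _ _ hx hy => exact fun v hv => add_mem (hx v hv) (hy v hv)
      | neg x _ hx => exact fun v hv => neg_mem (hx v hv)
      | mul x y _ _ hx hy => exact fun v hv => hx _ (hy v hv)
    -- every orbit space is proper
    have hproper : ∀ v, v ≠ 0 → ∃ u, u ∉ O v := by
      intro v hv
      obtain ⟨h, hh, -⟩ := hreg w v hw0 hv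
      by_contra hall
      push Not at hall
      have h1 : (O w).ncard = Nat.card V := by
        rw [← hOh h w, hh, Set.eq_univ_of_forall hall, Set.ncard_univ]
      rw [← Set.ncard_univ] at h1
      have h2 := (Set.eq_univ_iff_forall.mp (Set.eq_of_subset_of_ncard_le (Set.subset_univ _) h1.ge (Set.toFinite _))) u₁
      obtain ⟨k, hk⟩ := h2
      exact hu₁ (hk ▸ hWB k k.2 w hw)
    have hfield : ∀ (k : B) (v : V), v ≠ 0 → (k : Module.End (ZMod p) V) v = 0 → k = 0 := by
      intro k v hv hkv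
      have hout : ∀ u, u ∉ O v → (k : Module.End (ZMod p) V) u = 0 := by
        intro u hu
        by_contra hku
        have hu0 : u ≠ 0 := fun e => hku (by rw [e, map_zero])
        have huv0 : u + v ≠ 0 := fun e => hku (by
          rw [eq_neg_of_add_eq_zero_left e, map_neg, hkv, neg_zero])
        have hkuv : (k : Module.End (ZMod p) V) (u + v) = (k : Module.End (ZMod p) V) u := by
          rw [map_add, hkv, add_zero]
        obtain ⟨j, hj⟩ := hmin _ huv0 _ ⟨k, hkuv⟩ hku
        simp only at hj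
        have hvu : v ∈ O u := ⟨j * k - 1, by
          show (j : Module.End (ZMod p) V) ((k : Module.End (ZMod p) V) u) - u = v
          rw [hj]; abel⟩
        exact hu (hmin u hu0 v hvu hv)
      refine Subtype.ext (LinearMap.ext fun u => ?_)
      by_cases hu : u ∈ O v
      · obtain ⟨u', hu'⟩ := hproper v hv
        have h1 : u + u' ∉ O v := by
          rintro ⟨i, hi⟩
          obtain ⟨i', rfl⟩ := hu
          refine hu' ⟨i - i', ?_⟩
          simp only at hi
          show (i : Module.End (ZMod p) V) v - (i' : Module.End (ZMod p) V) v = u'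
          rw [hi]; abel
        simpa [hout u' hu'] using hout _ h1
      · exact hout u hu
    haveI : Nontrivial B := ⟨⟨0, 1, fun e => hone (congrArg Subtype.val e).symm⟩⟩
    haveI : NoZeroDivisors B := ⟨fun {a b} hab => by
      by_cases hb : (b : Module.End (ZMod p) V) v₀ = 0
      · exact Or.inr (hfield b v₀ hv₀ hb)
      · refine Or.inl (hfield a _ hb ?_)
        have := congrArg (fun k : B => (k : Module.End (ZMod p) V) v₀) hab
        simpa using this⟩
    haveI : IsDomain B := NoZeroDivisors.to_isDomain B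
    refine hNna ⟨⟨fun a b => ?_⟩⟩
    exact Subtype.ext (hinj ((map_mul toEnd _ _).trans ((congrArg Subtype.val
      ((Finite.isDomain_to_isField B).mul_comm ⟨_, hNB a a.2⟩ ⟨_, hNB b b.2⟩)).trans (map_mul toEnd _ _).symm)))
  refine ⟨hirr, ?_⟩
  haveI := hNn
  let D : Subring (Module.End (ZMod p) V) := Subring.centralizer S
  have hDinj : ∀ (d : D) (v : V), v ≠ 0 → (d : Module.End (ZMod p) V) v = 0 → d = 0 := by
    intro d v hv hdv
    have := (hirr (LinearMap.ker (d : Module.End (ZMod p) V)) fun n hn x hx => by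
      have hc := LinearMap.congr_fun (Subring.mem_centralizer_iff.mp d.2 _ ⟨n, hn, rfl⟩) x
      simp only [Module.End.mul_apply, happ, LinearMap.mem_ker.mp hx, map_zero] at hc
      exact LinearMap.mem_ker.mpr hc.symm).resolve_left (fun e => hv (by
        have : v ∈ LinearMap.ker (d : Module.End (ZMod p) V) := hdv
        rwa [e, Submodule.mem_bot] at this))
    exact Subtype.ext (LinearMap.ext fun x => LinearMap.mem_ker.mp (this ▸ Submodule.mem_top))
  haveI : Nontrivial D := ⟨⟨0, 1, fun e => hone (congrArg Subtype.val e).symm⟩⟩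
  haveI : NoZeroDivisors D := ⟨fun {a b} hab => by
    by_cases hb : (b : Module.End (ZMod p) V) v₀ = 0
    · exact Or.inr (hDinj b v₀ hv₀ hb)
    · refine Or.inl (hDinj a _ hb ?_)
      have := congrArg (fun k : D => (k : Module.End (ZMod p) V) v₀) hab
      simpa using this⟩
  haveI : IsDomain D := NoZeroDivisors.to_isDomain D
  have hCD : ∀ x ∈ Subgroup.centralizer (N : Set H), toEnd x ∈ D := by
    intro x hx
    rw [Subring.mem_centralizer_iff]
    rintro _ ⟨n, hn, rfl⟩
    rw [← map_mul, ← map_mul, hx n hn]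
  refine hAmax _ inferInstance ⟨⟨fun a b => ?_⟩⟩ fun a ha n hn => (hNle hn a ha).symm
  exact Subtype.ext (hinj ((map_mul toEnd _ _).trans ((congrArg Subtype.val
    ((Finite.isDomain_to_isField D).mul_comm ⟨_, hCD a a.2⟩ ⟨_, hCD b b.2⟩)).trans (map_mul toEnd _ _).symm)))

end Cfsg.Agent.S0687
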