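import Cfsg.Statements.S0691
import Cfsg.Agent.Lib.Perm.MatrixListGroup

set_option autoImplicit false
open Cfsg

namespace Cfsg.Agent.S0691

---pre
open Cfsg.Agent.Perm

def elems : List (Quad 5) :=
  [(1, 0, 0, 1), (2, 0, 0, 3), (0, 4, 1, 0), (1, 2, 1, 3), (4, 0, 0, 4), (0, 3, 3, 0), (2, 4, 3, 4), (0, 2, 2, 0), (4, 2, 1, 2), (2, 1, 2, 4), (3, 3, 4, 1), (3, 0, 0, 2), (0, 1, 4, 0), (4, 3, 4, 2), (3, 4, 3, 1), (1, 1, 2, 3), (3, 1, 2, 1), (1, 4, 3, 3), (1, 3, 4, 3), (3, 2, 1, 1), (2, 2, 1, 4), (2, 3, 4, 4), (4, 4, 3, 2), (4, 1, 2, 2)]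

def parent : List (ℕ × ℕ) :=
  [(0, 0), (0, 0), (0, 1), (0, 2), (1, 0), (1, 1), (1, 2), (2, 0), (2, 2), (3, 0), (3, 2), (4, 0), (4, 1), (4, 2), (5, 2), (6, 2), (8, 0), (8, 2), (9, 1), (9, 2), (13, 2), (14, 2), (16, 2), (18, 2)]

theorem elems_nodup : elems.Nodup := by decide +kernel
theorem elems_mul : ∀ x ∈ elems, ∀ y ∈ ([(2, 0, 0, 3), (0, 4, 1, 0), (1, 2, 1, 3)] : List (Quad 5)), qmul x y ∈ elems := by decide +kernel
theorem elems_word : ∀ k ∈ List.range 24, 0 < k → ((parent[k]?).bind fun ij =>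
    if ij.1 < k then (elems[ij.1]?).bind fun x => (([(2, 0, 0, 3), (0, 4, 1, 0), (1, 2, 1, 3)] : List (Quad 5))[ij.2]?).map (qmul x) else none) =
      elems[k]? := by decide +kernel
theorem elems_col0 : ((0, 0) : ZMod 5 × ZMod 5) ∉ elems.map fun x => (x.1, x.2.2.1) := by decide +kernel
theorem elems_col : (elems.map fun x => (x.1, x.2.2.1)).Nodup := by decide +kernel

/-- An exceptional sharply doubly transitive group of degree 5^2: the listed matrices generate a subgroup of GL(2,5) of order 24 acting regularly on the non-zero vectors. -/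
theorem result (A : Matrix.GeneralLinearGroup (Fin 2) (ZMod 5)) (B : Matrix.GeneralLinearGroup (Fin 2) (ZMod 5)) (C : Matrix.GeneralLinearGroup (Fin 2) (ZMod 5)) (hA : (A : Matrix (Fin 2) (Fin 2) (ZMod 5)) = !![2, 0; 0, -2]) (hB : (B : Matrix (Fin 2) (Fin 2) (ZMod 5)) = !![0, -1; 1, 0]) (hC : (C : Matrix (Fin 2) (Fin 2) (ZMod 5)) = !![1, 2; 1, -2]) : Nat.card (Subgroup.closure ({A, B, C} : Set (Matrix.GeneralLinearGroup (Fin 2) (ZMod 5)))) = 24 ∧ ∀ v w : Fin 2 → ZMod 5, v ≠ 0 → w ≠ 0 → ∃! h : Subgroup.closure ({A, B, C} : Set (Matrix.GeneralLinearGroup (Fin 2) (ZMod 5))), Matrix.mulVec ((h : Matrix.GeneralLinearGroup (Fin 2) (ZMod 5)) : Matrix (Fin 2) (Fin 2) (ZMod 5)) v = w := by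
  have hg : [A, B, C].map quad = ([(2, 0, 0, 3), (0, 4, 1, 0), (1, 2, 1, 3)] : List (Quad 5)) := by
    simp [quad, hA, hB, hC]
    decide +kernel
  have h := regular_of_list [A, B, C] elems parent elems_nodup rfl rfl
    (by rw [hg]; exact elems_mul)
    (fun k hk hpos => by
      rw [hg]
      have h1 := elems_word k (List.mem_range.2 hk) hpos
      rw [List.getElem?_eq_getElem hk, Option.bind_eq_some_iff] at h1
      obtain ⟨⟨i, j⟩, hij, h2⟩ := h1
      split at h2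
      · rw [Option.bind_eq_some_iff] at h2
        obtain ⟨x, hx, h3⟩ := h2
        rw [Option.map_eq_some_iff] at h3
        obtain ⟨y, hy, h4⟩ := h3
        exact ⟨i, j, hij, ‹_›, x, y, hx, hy, by rw [List.getElem?_eq_getElem hk, h4]⟩
      · simp at h2)
    elems_col0 elems_col rfl
  have hset : ({g | g ∈ [A, B, C]} : Set (Matrix.GeneralLinearGroup (Fin 2) (ZMod 5))) = {A, B, C} := by
    ext g; simp
  rw [hset] at h
  exact h

end Cfsg.Agent.S0691
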