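import Cfsg.Statements.S0693
import Mathlib

set_option autoImplicit false
open Cfsg

namespace Cfsg.Agent.S0693

open Matrix

abbrev Q := ℕ × ℕ × ℕ × ℕ

/-- The list of the 120 elements of the group generated by the first two matrices. -/
def els : List Q := [
  (1, 0, 0, 1), (0, 58, 1, 0), (9, 15, 49, 49), (58, 0, 0, 58), (10, 10, 9, 15), (15, 50, 49, 10),
  (49, 44, 10, 9), (0, 1, 58, 0), (50, 44, 10, 10), (10, 49, 15, 50), (49, 50, 49, 44), (48, 20, 46, 45),
  (44, 10, 9, 49), (49, 49, 50, 44), (44, 9, 10, 49), (10, 15, 49, 50), (13, 14, 48, 20), (50, 10, 44, 10),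
  (20, 11, 45, 13), (55, 48, 23, 4), (1, 29, 4, 58), (49, 10, 44, 9), (10, 9, 10, 15), (11, 39, 13, 14),
  (15, 49, 50, 10), (14, 46, 20, 11), (36, 55, 55, 48), (55, 1, 1, 29), (11, 13, 39, 14), (48, 4, 4, 36),
  (29, 58, 58, 55), (14, 20, 46, 11), (46, 45, 11, 39), (9, 49, 15, 49), (39, 48, 14, 46), (4, 11, 36, 55),
  (58, 30, 55, 1), (20, 45, 11, 13), (55, 23, 48, 4), (1, 4, 29, 58), (13, 48, 14, 20), (28, 35, 34, 32),
  (38, 31, 30, 54), (35, 32, 31, 25), (45, 13, 39, 48), (23, 4, 4, 11), (4, 58, 58, 30), (48, 46, 20, 45),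
  (11, 55, 55, 23), (30, 1, 1, 4), (45, 39, 13, 48), (25, 27, 28, 35), (29, 5, 38, 31), (28, 34, 35, 32),
  (35, 31, 32, 25), (31, 21, 54, 29), (32, 24, 25, 28), (54, 28, 29, 38), (39, 14, 48, 46), (4, 36, 11, 55),
  (58, 55, 30, 1), (46, 11, 45, 39), (31, 24, 25, 27), (21, 28, 29, 5), (24, 27, 28, 34), (27, 34, 35, 31),
  (5, 30, 31, 21), (34, 31, 32, 24), (30, 21, 54, 28), (5, 38, 38, 53), (10, 19, 19, 48), (28, 5, 38, 30),
  (34, 32, 31, 24), (30, 54, 21, 28), (31, 25, 24, 27), (24, 28, 27, 34), (28, 38, 5, 30), (27, 35, 34, 31),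
  (5, 31, 30, 21), (21, 6, 5, 38), (40, 11, 10, 19), (21, 29, 28, 5), (38, 54, 53, 21), (19, 49, 48, 40),
  (18, 19, 45, 41), (25, 16, 42, 34), (32, 25, 24, 28), (54, 29, 28, 38), (25, 28, 27, 35), (29, 38, 5, 31),
  (54, 21, 21, 6), (49, 40, 40, 11), (31, 54, 21, 29), (6, 38, 38, 54), (11, 19, 19, 49), (14, 18, 18, 19),
  (17, 25, 25, 16), (38, 30, 31, 54), (19, 41, 41, 14), (16, 34, 34, 17), (38, 53, 54, 21), (19, 48, 49, 40),
  (21, 5, 6, 38), (40, 10, 11, 19), (41, 40, 14, 18), (34, 43, 17, 25), (18, 45, 19, 41), (25, 42, 16, 34),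
  (42, 34, 34, 43), (56, 52, 52, 3), (40, 18, 18, 45), (53, 21, 21, 5), (48, 40, 40, 10), (45, 41, 41, 40),
  (43, 25, 25, 42), (7, 56, 56, 52), (41, 14, 40, 18), (34, 17, 43, 25), (52, 3, 3, 7), (3, 7, 7, 56)]

def mulN (a b : Q) : Q :=
  ((a.1 * b.1 + a.2.1 * b.2.2.1) % 59, (a.1 * b.2.1 + a.2.1 * b.2.2.2) % 59,
    (a.2.2.1 * b.1 + a.2.2.2 * b.2.2.1) % 59, (a.2.2.1 * b.2.1 + a.2.2.2 * b.2.2.2) % 59)

def gA : Q := (0, 58, 1, 0)
def gB : Q := (9, 15, 49, 49)

def M (m : Q) : Matrix (Fin 2) (Fin 2) (ZMod 59) := !![(m.1 : ZMod 59), (m.2.1 : ZMod 59); (m.2.2.1 : ZMod 59), (m.2.2.2 : ZMod 59)]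

theorem M_mul (a b : Q) : M (mulN a b) = M a * M b := by
  simp only [M, mulN, ZMod.natCast_mod, Nat.cast_add, Nat.cast_mul, Matrix.mul_fin_two]

theorem closedN : els.all (fun m => els.contains (mulN m gA) && els.contains (mulN m gB)) = true := by decide +kernel

theorem reachN : (List.range 119).all (fun k => (List.range (k + 1)).any fun j =>
    (els[k + 1]? == (els[j]?).map (mulN · gA)) || (els[k + 1]? == (els[j]?).map (mulN · gB))) = true := by
  decide +kernel

theorem len : els.length = 120 := by decide +kernel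

theorem fpfN : (List.range 29).all (fun i => els.all fun m =>
    let c := 4 ^ i % 59
    ((c * m.1 % 59 + 58) * (c * m.2.2.2 % 59 + 58) % 59 != c * c * m.2.1 * m.2.2.1 % 59) ||
      (i == 0 && m == (1, 0, 0, 1))) = true := by decide +kernel

theorem pow_inj : ∀ i j : Fin 29, (4 : ZMod 59) ^ (2 * i.1) = 4 ^ (2 * j.1) → i = j := by decide +kernel

theorem nodupN : els.Nodup := by decide +kernel

theorem small : els.all (fun m => decide (m.1 < 59) && decide (m.2.1 < 59) && decide (m.2.2.1 < 59) && decide (m.2.2.2 < 59)) = true := by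
  decide +kernel

theorem detN : els.all (fun m => m.1 * m.2.2.2 % 59 == (m.2.1 * m.2.2.1 + 1) % 59) = true := by decide +kernel

theorem det_M {m : Q} (hm : m ∈ els) : (M m).det = 1 := by
  have h := List.all_eq_true.1 detN m hm
  simp only [beq_iff_eq] at h
  have h' := congrArg (Nat.cast : ℕ → ZMod 59) h
  simp only [ZMod.natCast_mod, Nat.cast_add, Nat.cast_mul, Nat.cast_one] at h'
  rw [M, Matrix.det_fin_two_of]
  linear_combination h'

theorem M_inj {m m' : Q} (hm : m ∈ els) (hm' : m' ∈ els) (h : M m = M m') : m = m' := by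
  have e : ∀ i j, M m i j = M m' i j := fun i j => by rw [h]
  have s := List.all_eq_true.1 small m hm
  have s' := List.all_eq_true.1 small m' hm'
  simp only [Bool.and_eq_true, decide_eq_true_eq] at s s'
  have cast_inj : ∀ a b : ℕ, a < 59 → b < 59 → (a : ZMod 59) = b → a = b := fun a b ha hb hab => by
    have := congrArg ZMod.val hab
    rwa [ZMod.val_natCast_of_lt ha, ZMod.val_natCast_of_lt hb] at this
  exact Prod.ext (cast_inj _ _ s.1.1.1 s'.1.1.1 (e 0 0)) (Prod.ext (cast_inj _ _ s.1.1.2 s'.1.1.2 (e 0 1))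
    (Prod.ext (cast_inj _ _ s.1.2 s'.1.2 (e 1 0)) (cast_inj _ _ s.2 s'.2 (e 1 1))))

theorem pow29 : (4 : ZMod 59) ^ 29 = 1 := by decide +kernel

theorem c58 : (58 : ZMod 59) = -1 := by decide +kernel

theorem four_ne : (4 : ZMod 59) ≠ 0 := by decide +kernel

theorem mem_one : ((1, 0, 0, 1) : Q) ∈ els := by decide +kernel

theorem M_one : M (1, 0, 0, 1) = 1 := by
  ext i j; fin_cases i <;> fin_cases j <;> simp [M]

/-- An exceptional sharply doubly transitive group of degree 59^2: the listed matrices generate a subgroup of GL(2,59) of order 3480 acting regularly on the non-zero vectors. -/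
theorem result (A : Matrix.GeneralLinearGroup (Fin 2) (ZMod 59)) (B : Matrix.GeneralLinearGroup (Fin 2) (ZMod 59)) (C : Matrix.GeneralLinearGroup (Fin 2) (ZMod 59)) (hA : (A : Matrix (Fin 2) (Fin 2) (ZMod 59)) = !![0, -1; 1, 0]) (hB : (B : Matrix (Fin 2) (Fin 2) (ZMod 59)) = !![9, 15; -10, -10]) (hC : (C : Matrix (Fin 2) (Fin 2) (ZMod 59)) = !![4, 0; 0, 4]) : Nat.card (Subgroup.closure ({A, B, C} : Set (Matrix.GeneralLinearGroup (Fin 2) (ZMod 59)))) = 3480 ∧ ∀ v w : Fin 2 → ZMod 59, v ≠ 0 → w ≠ 0 → ∃! h : Subgroup.closure ({A, B, C} : Set (Matrix.GeneralLinearGroup (Fin 2) (ZMod 59))), Matrix.mulVec ((h : Matrix.GeneralLinearGroup (Fin 2) (ZMod 59)) : Matrix (Fin 2) (Fin 2) (ZMod 59)) v = w := by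
  classical
  haveI : Fact (Nat.Prime 59) := ⟨by norm_num⟩
  set H := Subgroup.closure ({A, B, C} : Set (Matrix.GeneralLinearGroup (Fin 2) (ZMod 59))) with hHdef
  have hAM : (A : Matrix (Fin 2) (Fin 2) (ZMod 59)) = M gA := by
    rw [hA]; ext i j; fin_cases i <;> fin_cases j <;> first | rfl | decide
  have hBM : (B : Matrix (Fin 2) (Fin 2) (ZMod 59)) = M gB := by
    rw [hB]; ext i j; fin_cases i <;> fin_cases j <;> first | rfl | decide
  have hCM : (C : Matrix (Fin 2) (Fin 2) (ZMod 59)) = (4 : ZMod 59) • 1 := by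
    rw [hC]; ext i j; fin_cases i <;> fin_cases j <;> simp
  have hAH : A ∈ H := Subgroup.subset_closure (by simp)
  have hBH : B ∈ H := Subgroup.subset_closure (by simp)
  have hCH : C ∈ H := Subgroup.subset_closure (by simp)
  have hclA : ∀ m ∈ els, mulN m gA ∈ els ∧ mulN m gB ∈ els := fun m hm => by
    simpa using List.all_eq_true.1 closedN m hm
  have hp := pow29
  -- every element has the standard form
  let T : Matrix.GeneralLinearGroup (Fin 2) (ZMod 59) → Prop := fun g =>
    ∃ i : ℕ, ∃ m ∈ els, (g : Matrix (Fin 2) (Fin 2) (ZMod 59)) = (4 : ZMod 59) ^ i • M m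
  have hstep : ∀ g, T g → ∀ x ∈ ({A, B, C} : Set (Matrix.GeneralLinearGroup (Fin 2) (ZMod 59))), T (g * x) := by
    rintro g ⟨i, m, hm, e⟩ x hx
    simp only [Set.mem_insert_iff, Set.mem_singleton_iff] at hx
    rcases hx with rfl | rfl | rfl
    · exact ⟨i, _, (hclA m hm).1, by rw [Units.val_mul, e, hAM, M_mul, smul_mul_assoc]⟩
    · exact ⟨i, _, (hclA m hm).2, by rw [Units.val_mul, e, hBM, M_mul, smul_mul_assoc]⟩
    · exact ⟨i + 1, m, hm, by rw [Units.val_mul, e, hCM, smul_mul_assoc, mul_smul_comm, mul_one, smul_smul, pow_succ]⟩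
  have hT : ∀ g ∈ H, T g := by
    intro g hg
    rw [hHdef, ← Subgroup.mem_toSubmonoid, Subgroup.closure_toSubmonoid_of_finite] at hg
    induction hg using Submonoid.closure_induction_right with
    | one => exact ⟨0, _, mem_one, by rw [pow_zero, one_smul, M_one]; rfl⟩
    | mul_right x _ y hy ih => exact hstep x ih y hy
  -- every standard form occurs
  have hmem : ∀ k, k < 120 → ∀ (hk : k < els.length), ∃ g ∈ H, (g : Matrix (Fin 2) (Fin 2) (ZMod 59)) = M els[k] := by
    intro k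
    induction k using Nat.strong_induction_on with
    | _ k ih =>
      intro hk hk'
      rcases k with _ | k
      · exact ⟨1, one_mem H, by rw [show els[0] = ((1, 0, 0, 1) : Q) from rfl, M_one]; rfl⟩
      · obtain ⟨j, hj, hjk⟩ := List.any_eq_true.1 (List.all_eq_true.1 reachN k (List.mem_range.2 (by omega)))
        rw [List.mem_range] at hj
        have hjl : j < els.length := by rw [len]; omega
        obtain ⟨g, hg, hgm⟩ := ih j (by omega) (by omega) hjl
        rw [List.getElem?_eq_getElem hk', List.getElem?_eq_getElem hjl] at hjk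
        simp only [Option.map_some, Bool.or_eq_true, beq_iff_eq, Option.some.injEq] at hjk
        rcases hjk with e | e
        · exact ⟨g * A, mul_mem hg hAH, by rw [Units.val_mul, hgm, hAM, e, M_mul]⟩
        · exact ⟨g * B, mul_mem hg hBH, by rw [Units.val_mul, hgm, hBM, e, M_mul]⟩
  -- no element but one fixes a non-zero vector
  have hfpf : ∀ g ∈ H, ∀ v : Fin 2 → ZMod 59, v ≠ 0 → (g : Matrix (Fin 2) (Fin 2) (ZMod 59)) *ᵥ v = v → g = 1 := by
    intro g hg v hv hgv
    obtain ⟨i, m, hm, e⟩ := hT g hg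
    rw [pow_eq_pow_mod i hp] at e
    have hdet : ((g : Matrix (Fin 2) (Fin 2) (ZMod 59)) - 1).det = 0 :=
      Matrix.exists_mulVec_eq_zero_iff.1 ⟨v, hv, by rw [Matrix.sub_mulVec, hgv, one_mulVec, sub_self]⟩
    have h58 := c58
    have hcases := List.all_eq_true.1 (List.all_eq_true.1 fpfN (i % 29) (List.mem_range.2 (Nat.mod_lt _ (by norm_num)))) m hm
    simp only [Bool.or_eq_true, Bool.and_eq_true, bne_iff_ne, beq_iff_eq] at hcases
    rcases hcases with hne | ⟨h0, hm1⟩
    · exfalso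
      apply hne
      have key : ((((4 ^ (i % 29) % 59) * m.1 % 59 + 58) * ((4 ^ (i % 29) % 59) * m.2.2.2 % 59 + 58) % 59 : ℕ) : ZMod 59) =
          (((4 ^ (i % 29) % 59) * (4 ^ (i % 29) % 59) * m.2.1 * m.2.2.1 % 59 : ℕ) : ZMod 59) := by
        simp only [ZMod.natCast_mod, Nat.cast_mul, Nat.cast_add, Nat.cast_pow, Nat.cast_ofNat, h58]
        rw [e, Matrix.det_fin_two] at hdet
        simp [M] at hdet
        linear_combination hdet
      have := congrArg ZMod.val key
      rwa [ZMod.val_natCast_of_lt (Nat.mod_lt _ (by norm_num)), ZMod.val_natCast_of_lt (Nat.mod_lt _ (by norm_num))] at this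
    · apply Units.ext
      rw [e, h0, hm1, pow_zero, one_smul, M_one]; rfl
  -- the order
  have hcard : Nat.card H = 3480 := by
    choose g hg hgm using fun k : Fin 120 => hmem k.1 k.2 (by rw [len]; exact k.2)
    let f : Fin 29 × Fin 120 → H := fun p => ⟨C ^ p.1.1 * g p.2, mul_mem (pow_mem hCH _) (hg p.2)⟩
    have hfval : ∀ p, ((f p : Matrix.GeneralLinearGroup (Fin 2) (ZMod 59)) : Matrix (Fin 2) (Fin 2) (ZMod 59)) =
        (4 : ZMod 59) ^ p.1.1 • M (els[p.2.1]'(by rw [len]; exact p.2.2)) := by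
      intro p
      simp only [f, Units.val_mul, Units.val_pow_eq_pow_val, hCM, smul_pow, one_pow, smul_mul_assoc, one_mul, hgm]
    have hb : Function.Bijective f := by
      constructor
      · intro p q h
        have h' := congrArg (fun x : H => ((x : Matrix.GeneralLinearGroup (Fin 2) (ZMod 59)) : Matrix (Fin 2) (Fin 2) (ZMod 59))) h
        simp only [hfval] at h'
        have hd := congrArg Matrix.det h'
        rw [Matrix.det_smul, Matrix.det_smul, det_M (List.getElem_mem _), det_M (List.getElem_mem _), Fintype.card_fin,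
          mul_one, mul_one, ← pow_mul, ← pow_mul, mul_comm p.1.1, mul_comm q.1.1] at hd
        have h1 := pow_inj _ _ hd
        rw [h1] at h'
        have h4 : (4 : ZMod 59) ^ q.1.1 ≠ 0 := pow_ne_zero _ four_ne
        have h2 := M_inj (List.getElem_mem _) (List.getElem_mem _) (smul_right_injective _ h4 h')
        exact Prod.ext h1 (Fin.ext ((nodupN.getElem_inj_iff).1 h2))
      · rintro ⟨x, hx⟩
        obtain ⟨i, m, hm, e⟩ := hT x hx
        obtain ⟨k, hk, rfl⟩ := List.getElem_of_mem hm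
        refine ⟨(⟨i % 29, Nat.mod_lt _ (by norm_num)⟩, ⟨k, by rw [len] at hk; exact hk⟩), Subtype.ext (Units.ext ?_)⟩
        rw [hfval, e, ← pow_eq_pow_mod i hp]
    rw [← Nat.card_eq_of_bijective f hb, Nat.card_prod, Nat.card_fin, Nat.card_fin]
  refine ⟨hcard, fun v w hv hw => ?_⟩
  let act : H → {u : Fin 2 → ZMod 59 // u ≠ 0} := fun h =>
    ⟨((h : Matrix.GeneralLinearGroup (Fin 2) (ZMod 59)) : Matrix (Fin 2) (Fin 2) (ZMod 59)) *ᵥ v, fun h0 => hv (by
      have e := congrArg ((((h : Matrix.GeneralLinearGroup (Fin 2) (ZMod 59))⁻¹ : Matrix.GeneralLinearGroup (Fin 2) (ZMod 59)) : Matrix (Fin 2) (Fin 2) (ZMod 59)) *ᵥ ·) h0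
      simp only [Matrix.mulVec_mulVec, ← Units.val_mul, inv_mul_cancel, Units.val_one, Matrix.one_mulVec, Matrix.mulVec_zero] at e
      exact e)⟩
  have hinj : Function.Injective act := by
    intro h h' e
    have e' := congrArg Subtype.val e
    simp only [act] at e'
    have := hfpf _ ((h⁻¹ * h' : H)).2 v hv (by
      simp only [Subgroup.coe_mul, Subgroup.coe_inv, Units.val_mul, ← Matrix.mulVec_mulVec]
      rw [← e', Matrix.mulVec_mulVec, ← Units.val_mul, inv_mul_cancel, Units.val_one, one_mulVec])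
    exact inv_mul_eq_one.1 (Subtype.ext this : h⁻¹ * h' = 1)
  have hbij : Function.Bijective act := by
    rw [Nat.bijective_iff_injective_and_card]
    refine ⟨hinj, ?_⟩
    rw [hcard, Nat.card_eq_fintype_card, Fintype.card_subtype_compl, Fintype.card_subtype_eq, Fintype.card_fun,
      ZMod.card, Fintype.card_fin]
    norm_num
  obtain ⟨h, hh⟩ := hbij.2 ⟨w, hw⟩
  exact ⟨h, congrArg Subtype.val hh, fun h' hh' => hinj (Subtype.ext (hh'.trans (congrArg Subtype.val hh).symm))⟩

end Cfsg.Agent.S0693
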