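import Mathlib
import Cfsg.Statements.S0694

set_option autoImplicit false
open Cfsg

namespace Cfsg.Agent.S0694

theorem sum_parity {q : ℕ} (hq : q % 2 = 1) : ∀ i : ℕ, (∑ j ∈ Finset.range i, q ^ j) % 2 = i % 2 := by
  intro i
  induction i with
  | zero => rfl
  | succ k ih =>
    rw [Finset.sum_range_succ, Nat.add_mod, ih, Nat.pow_mod, hq]
    simp [Nat.add_mod]

theorem sub_dvd (q i : ℕ) (hq : 1 ≤ q) : (q - 1) * ∑ j ∈ Finset.range i, q ^ j = q ^ i - 1 := by
  rw [mul_comm]
  exact geom_sum_mul_of_one_le hq i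

theorem val_ge (q r i : ℕ) (hr : r.Prime) (hq : 2 ≤ q) (hrm : r ∣ q - 1) (hi : i ≠ 0) :
    padicValNat r (q - 1) + padicValNat r i ≤ padicValNat r (q ^ i - 1) ∧
      ((r ≠ 2 ∨ 4 ∣ q - 1 ∨ Odd i) →
        padicValNat r (q ^ i - 1) = padicValNat r (q - 1) + padicValNat r i) ∧
      (r = 2 → ¬ 4 ∣ q - 1 → Even i →
        padicValNat r (q - 1) + padicValNat r i + 1 ≤ padicValNat r (q ^ i - 1)) := by
  haveI := Fact.mk hr
  have hrq : ¬ r ∣ q := fun h => by
    have := Nat.dvd_sub h hrm
    rw [show q - (q - 1) = 1 by omega] at this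
    exact hr.ne_one (Nat.dvd_one.1 this)
  by_cases h2 : r = 2
  · subst h2
    rcases Nat.even_or_odd i with he | ho
    · have h := padicValNat.pow_two_sub_pow (x := q) (y := 1) (by omega) hrm hrq hi he
      rw [one_pow] at h
      have hq1 : 1 ≤ padicValNat 2 (q + 1) := (padicValNat_dvd_iff_le (by omega)).1 (by rw [pow_one]; omega)
      have hq2 : ¬ 4 ∣ q - 1 → 2 ≤ padicValNat 2 (q + 1) := fun h4 =>
        (padicValNat_dvd_iff_le (by omega)).1 (by norm_num; omega)
      have hq3 : 4 ∣ q - 1 → padicValNat 2 (q + 1) ≤ 1 := fun h4 => by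
        by_contra hc
        have := (padicValNat_dvd_iff_le (p := 2) (show q + 1 ≠ 0 by omega)).2 (show 2 ≤ padicValNat 2 (q + 1) by omega)
        norm_num at this
        omega
      refine ⟨by omega, ?_, fun _ h4 _ => by have := hq2 h4; omega⟩
      rintro (h' | h' | h')
      · exact absurd rfl h'
      · have := hq3 h'; omega
      · exact absurd h' (Nat.not_odd_iff_even.2 he)
    · have he : padicValNat 2 (q ^ i - 1) = padicValNat 2 (q - 1) + padicValNat 2 i := by
        have hs : (∑ j ∈ Finset.range i, q ^ j) % 2 = 1 := by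
          rw [sum_parity (by omega) i]; exact Nat.odd_iff.1 ho
        rw [← sub_dvd q i (by omega), padicValNat.mul (by omega) (by omega)]
        rw [padicValNat.eq_zero_of_not_dvd (show ¬ 2 ∣ ∑ j ∈ Finset.range i, q ^ j by omega),
          padicValNat.eq_zero_of_not_dvd (show ¬ 2 ∣ i by have := Nat.odd_iff.1 ho; omega)]
      exact ⟨by omega, fun _ => he, fun _ _ h => absurd ho (Nat.not_odd_iff_even.2 h)⟩
  · have h := padicValNat.pow_sub_pow (p := r) (hr.odd_of_ne_two h2) (x := q) (y := 1) (by omega) hrm hrq hi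
    rw [one_pow] at h
    exact ⟨by omega, fun _ => h, fun h' => absurd h' h2⟩

theorem modEq_iff (q n i : ℕ) (hq : 2 ≤ q) :
    q ^ i ≡ 1 [MOD n * (q - 1)] ↔ n * (q - 1) ∣ q ^ i - 1 := by
  rw [Nat.ModEq.comm, Nat.modEq_iff_dvd' (Nat.one_le_pow _ _ (by omega))]

theorem dvd_criterion (q n i : ℕ) (hq : 2 ≤ q) (hn : n ≠ 0) (hi : i ≠ 0)
    (h : ∀ r : ℕ, r.Prime → r ∣ n →
      padicValNat r n + padicValNat r (q - 1) ≤ padicValNat r (q ^ i - 1)) :
    n * (q - 1) ∣ q ^ i - 1 := by
  have hne : q ^ i - 1 ≠ 0 := by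
    have := Nat.le_self_pow hi q; omega
  rw [Nat.dvd_iff_prime_pow_dvd_dvd]
  intro r k hr hk
  haveI := Fact.mk hr
  have hk' := (padicValNat_dvd_iff_le (Nat.mul_ne_zero hn (by omega))).1 hk
  rw [padicValNat.mul hn (by omega)] at hk'
  refine (padicValNat_dvd_iff_le hne).2 ?_
  by_cases hrn : r ∣ n
  · have := h r hr hrn; omega
  · rw [padicValNat.eq_zero_of_not_dvd hrn] at hk'
    refine le_trans (by omega) ((padicValNat_dvd_iff_le hne).1 (pow_padicValNat_dvd.trans (sub_dvd q i (by omega) ▸ dvd_mul_right _ _)))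

/-- The Dickson pair condition: for a prime power `q` and `n > 1`, (every prime factor of `n` divides `q - 1`, and `4 ∣ n → 4 ∣ q - 1`) holds exactly when `q ^ n ≡ 1` modulo `n * (q - 1)` but `q ^ i` is not, for `0 < i < n`. -/
theorem result (q n : ℕ) (hq : IsPrimePow q) (hn : 1 < n) : ((∀ r : ℕ, r.Prime → r ∣ n → r ∣ q - 1) ∧ (4 ∣ n → 4 ∣ q - 1)) ↔ (q ^ n ≡ 1 [MOD n * (q - 1)] ∧ ∀ i : ℕ, 0 < i → i < n → ¬ q ^ i ≡ 1 [MOD n * (q - 1)]) := by
  have hq2 : 2 ≤ q := hq.two_le
  have hn0 : n ≠ 0 := by omega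
  simp only [modEq_iff q n _ hq2]
  constructor
  · rintro ⟨hA, hB⟩
    refine ⟨dvd_criterion q n n hq2 hn0 hn0 fun r hr hrn => ?_, fun i hi hin hd => ?_⟩
    · have := (val_ge q r n hr hq2 (hA r hr hrn) hn0).1
      omega
    · have : n ∣ i := by
        rw [Nat.dvd_iff_prime_pow_dvd_dvd]
        intro r k hr hk
        rcases Nat.eq_zero_or_pos k with rfl | hk0
        · simp
        haveI := Fact.mk hr
        have hrn : r ∣ n := (dvd_pow_self r (by omega)).trans hk
        obtain ⟨-, he, -⟩ := val_ge q r i hr hq2 (hA r hr hrn) (by omega)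
        have hk1 := (padicValNat_dvd_iff_le hn0).1 hk
        have hne : q ^ i - 1 ≠ 0 := by
          have := Nat.le_self_pow (show i ≠ 0 by omega) q; omega
        have h1 : padicValNat r n + padicValNat r (q - 1) ≤ padicValNat r (q ^ i - 1) := by
          rw [← padicValNat.mul hn0 (by omega)]
          exact (padicValNat_dvd_iff_le hne).1 (pow_padicValNat_dvd.trans hd)
        refine (padicValNat_dvd_iff_le (by omega)).2 ?_
        by_cases hr2 : r ≠ 2 ∨ 4 ∣ q - 1 ∨ Odd i
        · have := he hr2; omega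
        · push Not at hr2
          obtain ⟨rfl, h4, hev⟩ := hr2
          have hn4 : ¬ 4 ∣ n := fun h => h4 (hB h)
          have : padicValNat 2 n ≤ 1 := by
            by_contra hc
            exact hn4 ((padicValNat_dvd_iff_le hn0).2 (show 2 ≤ padicValNat 2 n by omega))
          have : 1 ≤ padicValNat 2 i := (padicValNat_dvd_iff_le (by omega)).1 (by
            rw [pow_one]; have := Nat.even_iff.1 (Nat.not_odd_iff_even.1 hev); omega)
          omega
      have := Nat.le_of_dvd hi this
      omega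
  · rintro ⟨hd, hmin⟩
    have hA : ∀ r : ℕ, r.Prime → r ∣ n → r ∣ q - 1 := by
      intro r hr hrn
      by_contra hrm
      haveI := Fact.mk hr
      let N := n * (q - 1)
      have hco : Nat.Coprime q N := by
        by_contra hc
        obtain ⟨s, hs, hsq, hsN⟩ := Nat.Prime.not_coprime_iff_dvd.1 hc
        have h1 : s ∣ q ^ n - 1 := hsN.trans hd
        have h2 : s ∣ q ^ n := hsq.trans (dvd_pow_self q hn0)
        have h3 := Nat.dvd_sub h2 h1
        have := Nat.one_le_pow n q (by omega)
        rw [show q ^ n - (q ^ n - 1) = 1 by omega] at h3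
        exact hs.ne_one (Nat.dvd_one.1 h3)
      have hN1 : 2 ≤ N := by
        show 2 ≤ n * (q - 1)
        calc 2 ≤ n * 1 := by omega
          _ ≤ _ := Nat.mul_le_mul_left _ (by omega)
      have hrem : ∀ i : ℕ, ∃ j < n, q ^ i % N = 1 + j * (q - 1) := by
        intro i
        have h1 : (q - 1) ∣ q ^ i - 1 := sub_dvd q i (by omega) ▸ dvd_mul_right _ _
        have hlt : q ^ i % N < N := Nat.mod_lt _ (by omega)
        have hpos : q ^ i % N ≠ 0 := fun h0 => by
          have hdv : N ∣ q ^ i := Nat.dvd_of_mod_eq_zero h0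
          have := Nat.Coprime.eq_one_of_dvd (Nat.Coprime.pow_left i hco).symm hdv
          omega
        have h2 : (q - 1) ∣ q ^ i % N - 1 := by
          have hN : (q - 1) ∣ N := dvd_mul_left _ _
          have : q ^ i % N ≡ 1 [MOD q - 1] :=
            ((Nat.mod_modEq (q ^ i) N).of_dvd hN).trans
              ((Nat.modEq_iff_dvd' (Nat.one_le_pow _ _ (by omega))).2 h1).symm
          exact (Nat.modEq_iff_dvd' (by omega)).1 this.symm
        obtain ⟨j, hj⟩ := h2
        refine ⟨j, ?_, by rw [mul_comm]; omega⟩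
        by_contra hjn
        push Not at hjn
        have := Nat.mul_le_mul_left (q - 1) hjn
        have : N = (q - 1) * n := mul_comm _ _
        omega
      choose J hJn hJ using hrem
      let f : Fin n → Fin n := fun i => ⟨J i, hJn i⟩
      have hinj : Function.Injective f := by
        intro a b hab
        have e : q ^ (a : ℕ) % N = q ^ (b : ℕ) % N := by
          rw [hJ, hJ, show J a = J b from congrArg Fin.val hab]
        by_contra hne
        wlog hlt : (a : ℕ) < b generalizing a b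
        · exact this hab.symm e.symm (Ne.symm hne) (by
            have : (a : ℕ) ≠ b := fun h => hne (Fin.ext h); omega)
        refine hmin ((b : ℕ) - a) (by omega) (by have := b.isLt; omega) ?_
        have h3 : N ∣ q ^ (b : ℕ) - q ^ (a : ℕ) :=
          (Nat.modEq_iff_dvd' (Nat.pow_le_pow_right (by omega) hlt.le)).1 e
        rw [show q ^ (b : ℕ) - q ^ (a : ℕ) = q ^ (a : ℕ) * (q ^ ((b : ℕ) - a) - 1) by
          rw [Nat.mul_sub, mul_one, ← pow_add, Nat.add_sub_cancel' hlt.le]] at h3
        exact (Nat.Coprime.pow_left (a : ℕ) hco).symm.dvd_of_dvd_mul_left h3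
      -- some residue is divisible by r
      have hu : IsUnit ((q - 1 : ℕ) : ZMod r) :=
        (ZMod.isUnit_iff_coprime _ _).2 ((hr.coprime_iff_not_dvd.2 hrm).symm)
      obtain ⟨u, hu⟩ := hu
      let j0 : ℕ := ((-↑u⁻¹ : ZMod r)).val
      have hj0 : j0 < n := lt_of_lt_of_le (ZMod.val_lt _) (Nat.le_of_dvd (by omega) hrn)
      obtain ⟨i, hi⟩ := (Finite.injective_iff_surjective.1 hinj) ⟨j0, hj0⟩
      have hi' : J i = j0 := congrArg Fin.val hi
      have h0 : r ∣ 1 + j0 * (q - 1) := by
        rw [← ZMod.natCast_eq_zero_iff, Nat.cast_add, Nat.cast_mul, Nat.cast_one, ← hu,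
          ZMod.natCast_zmod_val, neg_mul, Units.inv_mul, add_neg_cancel]
      have h1 : r ∣ q ^ (i : ℕ) := by
        have hrN : r ∣ N := hrn.trans (dvd_mul_right _ _)
        rw [← Nat.dvd_mod_iff hrN, hJ, hi']
        exact h0
      have h2 := hr.dvd_of_dvd_pow h1
      exact hr.ne_one (Nat.Coprime.eq_one_of_dvd (Nat.Coprime.coprime_dvd_left h2 hco) (hrn.trans (dvd_mul_right _ _)))
    refine ⟨hA, fun h4 => ?_⟩
    by_contra h4m
    refine hmin (n / 2) (by omega) (by omega) (dvd_criterion q n (n / 2) hq2 hn0 (by omega) fun r hr hrn => ?_)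
    haveI := Fact.mk hr
    obtain ⟨hge, he, hev⟩ := val_ge q r (n / 2) hr hq2 (hA r hr hrn) (by omega)
    have hdiv : padicValNat r n = padicValNat r 2 + padicValNat r (n / 2) := by
      rw [← padicValNat.mul (by norm_num) (by omega), Nat.mul_div_cancel' (by omega)]
    by_cases hr2 : r = 2
    · subst hr2
      rw [padicValNat.self (by norm_num)] at hdiv
      have := hev rfl h4m (Nat.even_iff.2 (by omega))
      omega
    · rw [padicValNat.eq_zero_of_not_dvd (fun h => hr2 ((Nat.prime_dvd_prime_iff_eq hr Nat.prime_two).1 h))] at hdiv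
      omega

end Cfsg.Agent.S0694
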