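import Cfsg.Statements.S0695
import Mathlib
import Cfsg.Agent.Lib.Perm.RegularNormal

set_option autoImplicit false
open Cfsg

namespace Cfsg.Agent.S0695

---pre
open MulAction Cfsg.Agent.Perm

/-- A regular normal subgroup of a doubly primitive group of finite degree at least 2 is an elementary abelian 2-group (and the degree is a power of 2), unless the degree is 3. -/
theorem result {G : Type*} [Group G] {X : Type*} [Fintype X] [MulAction G X] (hX : 2 ≤ Fintype.card X) (h2 : MulAction.IsMultiplyPreprimitive G X 2) (N : Subgroup G) [N.Normal] (htrans : MulAction.IsPretransitive N X) (hreg : ∀ x : X, MulAction.stabilizer N x = ⊥) : Fintype.card X = 3 ∨ (IsMulCommutative N ∧ (∀ n ∈ N, n ^ 2 = 1) ∧ ∃ m : ℕ, Fintype.card X = 2 ^ m) := by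
  have hcard : Nat.card X = Fintype.card X := Nat.card_eq_fintype_card
  have hreg' : ∀ x y : X, ∃! n : N, (n : G) • x = y := by
    intro x y
    obtain ⟨n, hn⟩ := htrans.exists_smul_eq x y
    refine ⟨n, hn, fun m hm => ?_⟩
    have : n⁻¹ * m ∈ stabilizer N x := by
      rw [mem_stabilizer_iff, mul_smul, inv_smul_eq_iff]
      exact hm.trans hn.symm
    rw [hreg, Subgroup.mem_bot, inv_mul_eq_one] at this
    exact this.symm
  obtain ⟨a⟩ : Nonempty X := Fintype.card_pos_iff.1 (by omega)
  have hcN : Nat.card N = Fintype.card X := by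
    rw [← hcard]
    exact Nat.card_congr (Equiv.ofBijective (fun n : N => (n : G) • a)
      ⟨fun m n e => (hreg' a _).unique e rfl, fun b => (hreg' a b).exists⟩)
  have htrG : IsPretransitive G X := ⟨fun x y => (hreg' x y).exists.elim fun n hn => ⟨n, hn⟩⟩
  have hprim : IsPreprimitive (stabilizer G a) (SubMulAction.ofStabilizer G a) :=
    (is_one_preprimitive_iff _ _).1 ((isMultiplyPreprimitive_succ_iff_ofStabilizer G X le_rfl (a := a)).1 h2)
  by_cases h3 : Fintype.card X = 3
  · exact Or.inl h3
  right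
  have hexp : ∀ n ∈ N, n ^ 2 = 1 := by
    rcases card_le_three_or_exp_two N hreg' a hprim with h | h
    · intro n hn
      have h4 : Nat.card N = 2 := by omega
      have h5 := pow_card_eq_one' (G := N) (x := ⟨n, hn⟩)
      rw [h4] at h5
      exact congrArg Subtype.val h5
    · exact h
  refine ⟨⟨⟨fun x y => ?_⟩⟩, hexp, ?_⟩
  · have hinv : ∀ z : N, z⁻¹ = z := fun z => inv_eq_of_mul_eq_one_right (Subtype.ext (by
      show (z : G) * z = 1
      rw [← sq]; exact hexp _ z.2))
    calc x * y = (x * y)⁻¹ := (hinv _).symm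
      _ = y * x := by rw [mul_inv_rev, hinv, hinv]
  · have hp : IsPGroup 2 N := fun z => ⟨1, Subtype.ext (by
      rw [pow_one, Subgroup.coe_pow, Subgroup.coe_one]; exact hexp _ z.2)⟩
    have : Fact (Nat.Prime 2) := ⟨Nat.prime_two⟩
    have : Finite N := Nat.finite_of_card_ne_zero (by omega)
    obtain ⟨m, hm⟩ := IsPGroup.iff_card.1 hp
    exact ⟨m, hcN ▸ hm⟩

end Cfsg.Agent.S0695
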