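import Cfsg.Statements.S0696
import Mathlib
import Cfsg.Agent.Lib.Perm.RegularNormal

set_option autoImplicit false
open Cfsg

namespace Cfsg.Agent.S0696

---pre
open MulAction Cfsg.Agent.Perm

/-- A triply primitive group of degree at least 3 having a regular normal subgroup has degree 3 or 4. -/
theorem result {G : Type*} [Group G] {X : Type*} [Fintype X] [MulAction G X] (hX : 3 ≤ Fintype.card X) (h3 : MulAction.IsMultiplyPreprimitive G X 3) (N : Subgroup G) [N.Normal] (htrans : MulAction.IsPretransitive N X) (hreg : ∀ x : X, MulAction.stabilizer N x = ⊥) : Fintype.card X = 3 ∨ Fintype.card X = 4 := by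
  classical
  have hcard : Nat.card X = Fintype.card X := Nat.card_eq_fintype_card
  have hreg' : ∀ x y : X, ∃! n : N, (n : G) • x = y := by
    intro x y
    obtain ⟨n, hn⟩ := htrans.exists_smul_eq x y
    refine ⟨n, hn, fun m hm => ?_⟩
    have : n⁻¹ * m ∈ stabilizer N x := by
      rw [mem_stabilizer_iff, mul_smul, inv_smul_eq_iff]
      exact hm.trans hn.symm
    rw [hreg, Subgroup.mem_bot, inv_mul_eq_one] at this
    exact this.symm
  obtain ⟨a⟩ : Nonempty X := Fintype.card_pos_iff.1 (by omega)
  obtain ⟨b, hb⟩ : ∃ b, b ≠ a := Fintype.exists_ne_of_one_lt_card (by omega) a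
  have htrG : IsPretransitive G X := ⟨fun x y => (hreg' x y).exists.elim fun n hn => ⟨n, hn⟩⟩
  have h2 : IsMultiplyPreprimitive G X 2 := isMultiplyPreprimitive_of_le G X h3 (by norm_num)
    (by rw [ENat.card_eq_coe_fintype_card]; exact_mod_cast hX)
  have hprim : IsPreprimitive (stabilizer G a) (SubMulAction.ofStabilizer G a) :=
    (is_one_preprimitive_iff _ _).1 ((isMultiplyPreprimitive_succ_iff_ofStabilizer G X le_rfl (a := a)).1 h2)
  rcases card_le_three_or_exp_two N hreg' a hprim with h | h
  · left; omega
  · have hp2 : IsPreprimitive (fixingSubgroup G ({a, b} : Set X)) (SubMulAction.ofFixingSubgroup G ({a, b} : Set X)) := by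
      apply IsMultiplyPreprimitive.isPreprimitive_ofFixingSubgroup G 3
      rw [Set.encard_pair hb.symm]
      norm_num
    have := card_le_four N hreg' h hb.symm hp2
    omega

end Cfsg.Agent.S0696
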