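import Cfsg.Statements.S0697
import Mathlib
import Cfsg.Agent.Lib.Perm.NormalFix

set_option autoImplicit false
open Cfsg

namespace Cfsg.Agent.S0697

---pre
open MulAction Cfsg.Agent.Perm

/-- In a `k`-primitive permutation group which is not the whole symmetric group, a non-trivial non-regular normal subgroup is `k`-transitive. -/
theorem result {α : Type*} [Fintype α] [DecidableEq α] (G : Subgroup (Equiv.Perm α)) {k : ℕ} (hk : 1 ≤ k) (hkn : k ≤ Fintype.card α) (hG : MulAction.IsMultiplyPreprimitive G α k) (htop : G ≠ ⊤) (H : Subgroup G) [H.Normal] (hH : H ≠ ⊥) (hnr : ∃ a : α, MulAction.stabilizer H a ≠ ⊥) : MulAction.IsMultiplyPretransitive H α k := by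
  have hfixk : ∀ t : Finset α, t.card ≤ k → IsMultiplyPreprimitive (fixingSubgroup G (t : Set α))
      (SubMulAction.ofFixingSubgroup G (t : Set α)) (k - t.card) := fun t ht =>
    ofFixingSubgroup.isMultiplyPreprimitive (M := G) (α := α) (n := k) (by rw [Set.ncard_coe_finset]; omega)
  have hprim : ∀ t : Finset α, t.card + 1 ≤ k →
      IsPreprimitive (fixingSubgroup G (t : Set α)) (SubMulAction.ofFixingSubgroup G (t : Set α)) := by
    intro t ht
    have h1 := card_ofFixing (G := G) t
    exact (is_one_preprimitive_iff _ _).1 (isMultiplyPreprimitive_of_le _ _ (hfixk t (by omega)) (by omega)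
      (by rw [ENat.card_eq_coe_natCard]; exact_mod_cast (by omega : k - t.card ≤ Nat.card (SubMulAction.ofFixingSubgroup G (t : Set α)))))
  have hbig : k + 1 < Fintype.card α := by
    by_contra hle
    apply htop
    apply Equiv.Perm.eq_top_of_isMultiplyPretransitive
    have : IsMultiplyPretransitive G α k := IsMultiplyPreprimitive.isMultiplyPretransitive ..
    exact isMultiplyPretransitive_of_le (n := k) (by rw [Nat.card_eq_fintype_card]; omega) (by rw [Nat.card_eq_fintype_card]; omega)
  have main : ∀ j, ∀ s : Finset α, s.card = j → j + 1 ≤ k → NMoves H s := by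
    intro j
    induction j using Nat.strong_induction_on with
    | _ j ih =>
      intro s hs hjk
      by_contra hbot
      rcases s.eq_empty_or_nonempty with rfl | ⟨c, hc⟩
      · obtain ⟨⟨n, hn⟩, hn1⟩ := (Subgroup.ne_bot_iff_exists_ne_one).1 hH
        exact hn1 (Subtype.ext (not_nMoves hbot hn (fun x hx => absurd hx (Finset.notMem_empty x))))
      set t := s.erase c with ht
      have hct : c ∉ t := Finset.notMem_erase c s
      have hst : s = insert c t := (Finset.insert_erase hc).symm
      rw [hst] at hbot
      have htc : t.card + 1 = j := by rw [ht, Finset.card_erase_add_one hc, hs]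
      have hT : NTrans H t := fun a b ha hb =>
        exists_fix_smul_eq H t (hprim t (by omega)) (ih t.card (by omega) t rfl (by omega)) ha hb
      rcases t.eq_empty_or_nonempty with he | ⟨d, hd⟩
      · obtain ⟨a0, ha0⟩ := hnr
        obtain ⟨⟨⟨n, hn⟩, hna⟩, hn1⟩ := (Subgroup.ne_bot_iff_exists_ne_one).1 ha0
        refine hn1 (Subtype.ext (Subtype.ext ?_))
        exact eq_one_of_fix_regular hct hT hbot hn (by rw [he]; simp) (x := a0) (by rw [he]; simp) hna
      have hreg := regular_of_bot hct hT hbot
      have hX := card_ofFixing (G := G) t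
      let a : SubMulAction.ofFixingSubgroup G (t : Set α) := ⟨c, hct⟩
      have h2p : IsMultiplyPreprimitive (fixingSubgroup G (t : Set α)) (SubMulAction.ofFixingSubgroup G (t : Set α)) 2 :=
        isMultiplyPreprimitive_of_le _ _ (hfixk t (by omega)) (by omega)
          (by rw [ENat.card_eq_coe_natCard]; exact_mod_cast (by omega : k - t.card ≤ Nat.card (SubMulAction.ofFixingSubgroup G (t : Set α))))
      have hA1 : IsPretransitive (fixingSubgroup G (t : Set α)) (SubMulAction.ofFixingSubgroup G (t : Set α)) :=
        ⟨fun x y => (hreg x y).exists.elim fun n hn => ⟨n, hn⟩⟩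
      have hst1 := (is_one_preprimitive_iff _ _).1 ((isMultiplyPreprimitive_succ_iff_ofStabilizer _ _ le_rfl (a := a)).1 h2p)
      rcases card_le_three_or_exp_two _ hreg a hst1 with h | hexp
      · omega
      have hexp' : ∀ n ∈ H, (∀ x ∈ t, n • x = x) → n ^ 2 = 1 := fun n hn hf =>
        congrArg Subtype.val (hexp ⟨n, coe_fixing_mem.2 hf⟩ hn)
      set u := t.erase d with hu
      have htu : t = insert d u := (Finset.insert_erase hd).symm
      have huc : u.card + 1 = t.card := by rw [hu, Finset.card_erase_add_one hd]
      have hTu : NTrans H u := fun a b ha hb =>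
        exists_fix_smul_eq H u (hprim u (by omega)) (ih u.card (by omega) u rfl (by omega)) ha hb
      rw [htu] at hT hbot hexp' hct
      have := card_le_of_sharp (Finset.notMem_erase d t) hct hTu hT hbot hexp'
      have hu2 : (t.erase d).card = u.card := rfl
      omega
  exact isMultiplyPretransitive_of_fixTrans fun s hs => NTrans.fixTrans fun a b ha hb =>
    exists_fix_smul_eq H s (hprim s (by omega)) (main s.card s rfl (by omega)) ha hb

end Cfsg.Agent.S0697
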