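import Cfsg.Statements.S0698
import Mathlib
import Cfsg.Agent.Lib.Perm.NormalFix

set_option autoImplicit false
open Cfsg

namespace Cfsg.Agent.S0698

---pre
open MulAction Cfsg.Agent.Perm

/-- Jordan's Theorem on normal subgroups of multiply transitive groups: if `G` is `k`-transitive (`k > 1`) of degree greater than `k`, a non-trivial normal subgroup is `(k-1)`-transitive, except possibly for `k = 3` when it may be an elementary abelian 2-group. -/
theorem result {α : Type*} [Fintype α] [DecidableEq α] (G : Subgroup (Equiv.Perm α)) {k : ℕ} (hk : 1 < k) (hdeg : k < Fintype.card α) (hG : MulAction.IsMultiplyPretransitive G α k) (N : Subgroup G) [N.Normal] (hN : N ≠ ⊥) : MulAction.IsMultiplyPretransitive N α (k - 1) ∨ (k = 3 ∧ IsMulCommutative N ∧ ∀ n ∈ N, n ^ 2 = 1) := by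
  by_cases hex : k = 3 ∧ IsMulCommutative N ∧ ∀ n ∈ N, n ^ 2 = 1
  · exact Or.inr hex
  left
  have hle : ∀ j ≤ k, IsMultiplyPretransitive G α j := fun j hj =>
    isMultiplyPretransitive_of_le hj (by rw [Nat.card_eq_fintype_card]; omega)
  have hfixk : ∀ t : Finset α, t.card ≤ k → IsMultiplyPretransitive (fixingSubgroup G (t : Set α))
      (SubMulAction.ofFixingSubgroup G (t : Set α)) (k - t.card) := fun t ht =>
    SubMulAction.ofFixingSubgroup.isMultiplyPretransitive (G := G) (n := k) (t : Set α) (by rw [Set.ncard_coe_finset]; omega)
  have hprim : ∀ t : Finset α, t.card + 2 ≤ k →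
      IsPreprimitive (fixingSubgroup G (t : Set α)) (SubMulAction.ofFixingSubgroup G (t : Set α)) := by
    intro t ht
    have := hfixk t (by omega)
    refine isPreprimitive_of_is_two_pretransitive (isMultiplyPretransitive_of_le (n := k - t.card) (by omega) ?_)
    have := card_ofFixing (G := G) t
    omega
  have main : ∀ j, ∀ s : Finset α, s.card = j → j + 2 ≤ k → NMoves N s := by
    intro j
    induction j using Nat.strong_induction_on with
    | _ j ih =>
      intro s hs hjk
      by_contra hbot
      rcases s.eq_empty_or_nonempty with rfl | ⟨c, hc⟩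
      · obtain ⟨⟨n, hn⟩, hn1⟩ := (Subgroup.ne_bot_iff_exists_ne_one).1 hN
        exact hn1 (Subtype.ext (not_nMoves hbot hn (fun x hx => absurd hx (Finset.notMem_empty x))))
      set t := s.erase c with ht
      have hct : c ∉ t := Finset.notMem_erase c s
      have hst : s = insert c t := (Finset.insert_erase hc).symm
      rw [hst] at hbot
      have htc : t.card + 1 = j := by rw [ht, Finset.card_erase_add_one hc, hs]
      have hT : NTrans N t := fun a b ha hb =>
        exists_fix_smul_eq N t (hprim t (by omega)) (ih t.card (by omega) t rfl (by omega)) ha hb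
      have hreg := regular_of_bot hct hT hbot
      have hX := card_ofFixing (G := G) t
      let a : SubMulAction.ofFixingSubgroup G (t : Set α) := ⟨c, hct⟩
      have hA : IsMultiplyPretransitive (fixingSubgroup G (t : Set α)) (SubMulAction.ofFixingSubgroup G (t : Set α)) 3 := by
        have := hfixk t (by omega)
        exact isMultiplyPretransitive_of_le (n := k - t.card) (by omega) (by omega)
      have h2p : IsMultiplyPreprimitive (fixingSubgroup G (t : Set α)) (SubMulAction.ofFixingSubgroup G (t : Set α)) 2 :=
        isMultiplyPreprimitive_of_isMultiplyPretransitive_succ _ _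
          (by rw [ENat.card_eq_coe_natCard]; exact_mod_cast (by omega : 3 ≤ Nat.card (SubMulAction.ofFixingSubgroup G (t : Set α))))
      have hA1 : IsPretransitive (fixingSubgroup G (t : Set α)) (SubMulAction.ofFixingSubgroup G (t : Set α)) :=
        ⟨fun x y => (hreg x y).exists.elim fun n hn => ⟨n, hn⟩⟩
      have hst1 := (is_one_preprimitive_iff _ _).1 ((isMultiplyPreprimitive_succ_iff_ofStabilizer _ _ le_rfl (a := a)).1 h2p)
      rcases card_le_three_or_exp_two _ hreg a hst1 with h | hexp
      · omega
      have hexp' : ∀ n ∈ N, (∀ x ∈ t, n • x = x) → n ^ 2 = 1 := fun n hn hf =>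
        congrArg Subtype.val (hexp ⟨n, coe_fixing_mem.2 hf⟩ hn)
      by_cases h4 : 4 + t.card ≤ k
      · have hA4 : IsMultiplyPretransitive (fixingSubgroup G (t : Set α)) (SubMulAction.ofFixingSubgroup G (t : Set α)) 4 := by
          have := hfixk t (by omega)
          exact isMultiplyPretransitive_of_le (n := k - t.card) (by omega) (by omega)
        have h3p : IsMultiplyPreprimitive (fixingSubgroup G (t : Set α)) (SubMulAction.ofFixingSubgroup G (t : Set α)) 3 :=
          isMultiplyPreprimitive_of_isMultiplyPretransitive_succ _ _
            (by rw [ENat.card_eq_coe_natCard]; exact_mod_cast (by omega : 4 ≤ Nat.card (SubMulAction.ofFixingSubgroup G (t : Set α))))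
        obtain ⟨b, hb⟩ : ∃ b, b ≠ a := by
          have : Nontrivial (SubMulAction.ofFixingSubgroup G (t : Set α)) := Finite.one_lt_card_iff_nontrivial.1 (by omega)
          exact exists_ne a
        have := card_le_four _ hreg hexp hb.symm (by
          apply IsMultiplyPreprimitive.isPreprimitive_ofFixingSubgroup (fixingSubgroup G (t : Set α)) 3
          rw [Set.encard_pair hb.symm]
          norm_num)
        omega
      rcases t.eq_empty_or_nonempty with he | ⟨d, hd⟩
      · apply hex
        have hk3 : k = 3 := by rw [he, Finset.card_empty] at h4 htc; omega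
        have hsq : ∀ n ∈ N, n ^ 2 = 1 := fun n hn => hexp' n hn (by rw [he]; simp)
        refine ⟨hk3, ⟨⟨fun x y => ?_⟩⟩, hsq⟩
        have hinv : ∀ z : N, z⁻¹ = z := fun z => inv_eq_of_mul_eq_one_right (Subtype.ext (by
          show (z : G) * z = 1
          rw [← sq]; exact hsq _ z.2))
        calc x * y = (x * y)⁻¹ := (hinv _).symm
          _ = y * x := by rw [mul_inv_rev, hinv, hinv]
      · set u := t.erase d with hu
        have htu : t = insert d u := (Finset.insert_erase hd).symm
        have huc : u.card + 1 = t.card := by rw [hu, Finset.card_erase_add_one hd]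
        have hTu : NTrans N u := fun a b ha hb =>
          exists_fix_smul_eq N u (hprim u (by omega)) (ih u.card (by omega) u rfl (by omega)) ha hb
        rw [htu] at hT hbot hexp' hct
        have := card_le_of_sharp (Finset.notMem_erase d t) hct hTu hT hbot hexp'
        have hu2 : (t.erase d).card = u.card := rfl
        omega
  exact isMultiplyPretransitive_of_fixTrans fun s hs => NTrans.fixTrans fun a b ha hb =>
    exists_fix_smul_eq N s (hprim s (by omega)) (main s.card s rfl (by omega)) ha hb

end Cfsg.Agent.S0698
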