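import Cfsg.Statements.S0699
import Mathlib
import Cfsg.Agent.Lib.Perm.NormalFix
import Cfsg.Agent.S0698

set_option autoImplicit false
open Cfsg

namespace Cfsg.Agent.S0699

---pre
open MulAction
open scoped Pointwise

universe w

theorem wagner_aux : ∀ (n : ℕ) (A X : Type w) [Group A] [Finite A] [Fintype X] [MulAction A X] [FaithfulSMul A X]
    (N : Subgroup A) [N.Normal], Fintype.card X = n → Odd n →
    (∀ a b c x y z : X, a ≠ b → a ≠ c → b ≠ c → x ≠ y → x ≠ z → y ≠ z →
      ∃ g : A, g • a = x ∧ g • b = y ∧ g • c = z) →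
    (∀ a b x y : X, a ≠ b → x ≠ y → ∃ g ∈ N, g • a = x ∧ g • b = y) →
    ∀ a b c d : X, a ≠ b → c ≠ a → c ≠ b → d ≠ a → d ≠ b → ∃ g ∈ N, g • a = a ∧ g • b = b ∧ g • c = d := by
  intro n
  induction n using Nat.strong_induction_on with
  | _ n ih =>
  intro A X _ _ _ _ _ N _ hn hodd h3 h2 a b c d hab hca hcb hda hdb
  classical
  have : Fact (Nat.Prime 2) := ⟨Nat.prime_two⟩
  let K : X → X → Subgroup A := fun x y => N ⊓ stabilizer A x ⊓ stabilizer A y
  let K3 : X → X → X → Subgroup A := fun x y z => K x y ⊓ stabilizer A z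
  have memK : ∀ x y g, g ∈ K x y ↔ g ∈ N ∧ g • x = x ∧ g • y = y := fun x y g => by
    simp [K, Subgroup.mem_inf, and_assoc]
  have memK3 : ∀ x y z g, g ∈ K3 x y z ↔ g ∈ N ∧ g • x = x ∧ g • y = y ∧ g • z = z := fun x y z g => by
    simp [K3, Subgroup.mem_inf, memK, and_assoc]
  have conjK : ∀ (g : A) x y, (K x y).map (MulAut.conj g).toMonoidHom = K (g • x) (g • y) := by
    intro g x y
    ext h
    rw [Subgroup.mem_map_equiv, memK, memK, MulAut.conj_symm_apply]
    have hN : g⁻¹ * h * g ∈ N ↔ h ∈ N := by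
      refine ⟨fun h' => ?_, fun h' => by simpa using (inferInstance : N.Normal).conj_mem h h' g⁻¹⟩
      have := (inferInstance : N.Normal).conj_mem _ h' g
      simpa [mul_assoc] using this
    rw [hN]
    refine and_congr_right fun _ => and_congr ?_ ?_ <;> rw [mul_smul, mul_smul, inv_smul_eq_iff]
  obtain ⟨Q⟩ := (inferInstance : Nonempty (Sylow 2 (K a b)))
  let Q0 : Subgroup A := (Q : Subgroup (K a b)).map (K a b).subtype
  have hQ0 : IsPGroup 2 Q0 := Q.isPGroup'.map _
  have hQK : Q0 ≤ K a b := by rintro _ ⟨q, _, rfl⟩; exact q.2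
  have hQmax : ∀ x y : X, x ≠ y → ∀ P : Subgroup A, P ≤ K x y → IsPGroup 2 P → Nat.card P ≤ Nat.card Q0 := by
    intro x y hxy P hP hP2
    obtain ⟨g, -, hgx, hgy⟩ := h2 x y a b hxy hab
    have hle : P.map (MulAut.conj g).toMonoidHom ≤ K a b := by
      rw [← hgx, ← hgy, ← conjK]; exact Subgroup.map_mono hP
    obtain ⟨S, hS⟩ := IsPGroup.exists_le_sylow ((hP2.map (MulAut.conj g).toMonoidHom).comap_of_injective (K a b).subtype Subtype.val_injective)
    have h1 : Nat.card P = Nat.card ((P.map (MulAut.conj g).toMonoidHom).subgroupOf (K a b)) := by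
      rw [Nat.card_congr (Subgroup.subgroupOfEquivOfLe hle).toEquiv]
      exact Nat.card_congr (P.equivMapOfInjective _ (MulEquiv.injective _)).toEquiv
    have h2' : Nat.card Q0 = Nat.card S := by
      rw [Sylow.card_eq_multiplicity S, ← Sylow.card_eq_multiplicity Q]
      exact (Nat.card_congr ((Q : Subgroup (K a b)).equivMapOfInjective _ Subtype.val_injective).toEquiv).symm
    rw [h1, h2']
    exact Subgroup.card_le_of_le hS
  have hfixQ : ∀ (P : Subgroup A) (x y : X), P ≤ K x y → IsPGroup 2 P → x ≠ y → ∃ z, z ≠ x ∧ z ≠ y ∧ P ≤ K3 x y z := by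
    intro P x y hP hP2 hxy
    have hmod := hP2.card_modEq_card_fixedPoints (α := X)
    have hodd' : Odd (Nat.card (fixedPoints P X)) := by
      rw [Nat.card_eq_fintype_card, hn] at hmod
      rw [Nat.odd_iff] at hodd ⊢
      rw [Nat.ModEq, hodd] at hmod
      exact hmod.symm
    obtain ⟨z, hz, hzx, hzy⟩ : ∃ z ∈ fixedPoints P X, z ≠ x ∧ z ≠ y := by
      by_contra hno
      push Not at hno
      have hset : fixedPoints P X = {x, y} := by
        ext z
        refine ⟨fun hz => or_iff_not_imp_left.2 (hno z hz), ?_⟩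
        rintro (rfl | rfl) <;> intro p
        · exact ((memK _ _ _).1 (hP p.2)).2.1
        · exact ((memK _ _ _).1 (hP p.2)).2.2
      rw [hset, Nat.card_coe_set_eq, Set.ncard_pair hxy] at hodd'
      exact absurd hodd' (by decide)
    exact ⟨z, hzx, hzy, fun p hp => (memK3 _ _ _ _).2
      ⟨((memK _ _ _).1 (hP hp)).1, ((memK _ _ _).1 (hP hp)).2.1, ((memK _ _ _).1 (hP hp)).2.2, hz ⟨p, hp⟩⟩⟩
  -- it suffices to move every point to one set of points inside one orbit
  suffices hone : ∃ S : Set X, (∀ x ∈ S, ∀ y ∈ S, ∃ g ∈ K a b, g • x = y) ∧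
      (∀ x, x ≠ a → x ≠ b → ∃ g ∈ K a b, g • x ∈ S) by
    obtain ⟨S, hS, hcov⟩ := hone
    obtain ⟨g1, hg1, hc⟩ := hcov c hca hcb
    obtain ⟨g2, hg2, hd⟩ := hcov d hda hdb
    obtain ⟨g, hg, hgcd⟩ := hS _ hc _ hd
    obtain ⟨hN, ha', hb'⟩ := (memK a b (g2⁻¹ * g * g1)).1 (mul_mem (mul_mem (inv_mem hg2) hg) hg1)
    exact ⟨_, hN, ha', hb', by rw [mul_smul, mul_smul, hgcd, inv_smul_smul]⟩
  by_cases hQ1 : Q0 = ⊥
  · -- `K a b` has odd order: use the involutions interchanging `a` and `b`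
    have hodd1 : ∀ x y : X, x ≠ y → ∀ g ∈ K x y, g * g = 1 → g = 1 := by
      intro x y hxy g hg hgg
      by_contra hg1
      have hP : IsPGroup 2 (Subgroup.zpowers g) := IsPGroup.of_card (n := 1) (by
        rw [Nat.card_zpowers, pow_one]; exact orderOf_eq_prime (by rw [sq]; exact hgg) hg1)
      have h := hQmax x y hxy _ (by rwa [Subgroup.zpowers_le]) hP
      rw [hQ1, Subgroup.card_bot, Nat.card_zpowers, orderOf_eq_prime (by rw [sq]; exact hgg) hg1] at h
      omega
    let T : Subgroup A := N ⊓ stabilizer A ({a, b} : Set X)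
    let I : Set A := {s | s ∈ N ∧ s * s = 1 ∧ s • a = b ∧ s • b = a}
    have hconjI : ∀ s ∈ I, ∀ s' ∈ I, ∃ g ∈ K a b, g * s * g⁻¹ = s' := by
      intro s hs s' hs'
      -- `s` and `s'` generate Sylow 2-subgroups of `T`
      have memT : ∀ g, g ∈ T ↔ g ∈ N ∧ g • ({a, b} : Set X) = {a, b} := fun g => Iff.rfl
      have hsT : ∀ s ∈ I, s ∈ T := fun s hs => (memT s).2 ⟨hs.1, by
        rw [Set.smul_set_insert, Set.smul_set_singleton, hs.2.2.1, hs.2.2.2, Set.pair_comm]⟩
      have hcase : ∀ g ∈ T, (g • a = a ∧ g • b = b) ∨ (g • a = b ∧ g • b = a) := by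
        intro g hg
        have h1 : g • a ∈ ({a, b} : Set X) := ((memT g).1 hg).2 ▸ Set.smul_mem_smul_set (Or.inl rfl)
        have h2 : g • b ∈ ({a, b} : Set X) := ((memT g).1 hg).2 ▸ Set.smul_mem_smul_set (Or.inr rfl)
        simp only [Set.mem_insert_iff, Set.mem_singleton_iff] at h1 h2
        rcases h1 with h1 | h1 <;> rcases h2 with h2 | h2
        · exact absurd (MulAction.injective g (h1.trans h2.symm)) hab
        · exact Or.inl ⟨h1, h2⟩
        · exact Or.inr ⟨h1, h2⟩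
        · exact absurd (MulAction.injective g (h1.trans h2.symm)) hab
      have hgen : ∀ (s : A) (hs : s ∈ I), ∀ R : Sylow 2 T, (⟨s, hsT s hs⟩ : T) ∈ R →
          ∀ g ∈ R, (g : A) = 1 ∨ (g : A) = s := by
        intro s hs R hsR g hgR
        have key : ∀ h ∈ R, ((h : T) : A) • a = a → (h : A) = 1 := by
          intro h hh ha'
          by_contra h1
          have hb' : (h : A) • b = b := (hcase h h.2).elim (·.2) fun e => absurd (ha'.symm.trans e.1) hab
          have hle : (Subgroup.zpowers (h : A)) ≤ K a b := by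
            rw [Subgroup.zpowers_le, memK]; exact ⟨((memT _).1 h.2).1, ha', hb'⟩
          have hpg : IsPGroup 2 (Subgroup.zpowers (h : A)) := by
            refine (R.isPGroup'.map T.subtype).to_le ?_
            rw [Subgroup.zpowers_le]; exact ⟨h, hh, rfl⟩
          have hcard := hQmax a b hab _ hle hpg
          rw [hQ1, Subgroup.card_bot, Nat.card_zpowers] at hcard
          exact h1 (orderOf_eq_one_iff.1 (by have := orderOf_pos (h : A); omega))
        rcases hcase g g.2 with h | h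
        · exact Or.inl (key g hgR h.1)
        · right
          have := key (⟨s, hsT s hs⟩ * g) (mul_mem hsR hgR) (by
            show (s * (g : A)) • a = a
            rw [mul_smul, h.1, hs.2.2.2])
          have h' : s * (g : A) = 1 := this
          rw [← inv_eq_of_mul_eq_one_right h', inv_eq_of_mul_eq_one_right hs.2.1]
      have hpz : ∀ (s : A) (hs : s ∈ I), IsPGroup 2 (Subgroup.zpowers (⟨s, hsT s hs⟩ : T)) := fun s hs x => by
        obtain ⟨i, hi⟩ := Subgroup.mem_zpowers_iff.1 x.2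
        exact ⟨1, Subtype.ext (by
          rw [pow_one, sq, Subgroup.coe_mul, Subgroup.coe_one, ← hi, ← (Commute.refl _).mul_zpow,
            show (⟨s, hsT s hs⟩ : T) * ⟨s, hsT s hs⟩ = 1 from Subtype.ext hs.2.1, one_zpow])⟩
      obtain ⟨R, hR⟩ := (hpz s hs).exists_le_sylow
      obtain ⟨R', hR'⟩ := (hpz s' hs').exists_le_sylow
      obtain ⟨g, hg⟩ := MulAction.exists_smul_eq T R R'
      have hmem : (g * ⟨s, hsT s hs⟩ * g⁻¹ : T) ∈ R' :=
        hg ▸ ⟨⟨s, hsT s hs⟩, hR (Subgroup.mem_zpowers _), rfl⟩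
      have hgs : (g : A) * s * (g : A)⁻¹ = s' := by
        rcases hgen s' hs' R' (hR' (Subgroup.mem_zpowers _)) _ hmem with e | e
        · exfalso
          have e' : (g : A) * s * (g : A)⁻¹ = 1 := e
          have : s = 1 := by
            have := congrArg (fun z => (g : A)⁻¹ * z * g) e'
            simpa [mul_assoc] using this
          exact hab (by rw [← hs.2.2.1, this, one_smul])
        · exact e
      rcases hcase g g.2 with h | h
      · exact ⟨g, (memK _ _ _).2 ⟨((memT _).1 g.2).1, h.1, h.2⟩, hgs⟩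
      · refine ⟨g * s, (memK _ _ _).2 ⟨mul_mem ((memT _).1 g.2).1 hs.1, ?_, ?_⟩, ?_⟩
        · rw [mul_smul, hs.2.2.1, h.2]
        · rw [mul_smul, hs.2.2.2, h.1]
        · rw [← hgs]; group
    have hsfix : ∀ s ∈ I, ∀ x y : X, s • x = x → s • y = y → x = y := by
      intro s hs x y hx hy
      by_contra hxy
      have := hodd1 x y hxy s ((memK _ _ _).2 ⟨hs.1, hx, hy⟩) hs.2.1
      exact hab (by rw [← hs.2.2.1, this, one_smul])
    obtain ⟨s0, hs0⟩ : ∃ s, s ∈ I := by
      obtain ⟨t, ht, hta, htb⟩ := h2 a b b a hab (Ne.symm hab)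
      have ht2 : t * t ∈ K a b := (memK _ _ _).2
        ⟨mul_mem ht ht, by rw [mul_smul, hta, htb], by rw [mul_smul, htb, hta]⟩
      -- an odd power of `t` is an involution
      have hodd2 : Odd (orderOf (t * t)) := by
        rw [← Nat.not_even_iff_odd]
        intro he
        obtain ⟨j, hj⟩ := he.two_dvd
        have hj0 : 0 < j := by have := orderOf_pos (t * t); omega
        have h1 := hodd1 a b hab ((t * t) ^ j) (pow_mem ht2 j) (by rw [← pow_add, ← two_mul, ← hj, pow_orderOf_eq_one])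
        have := Nat.le_of_dvd hj0 (orderOf_dvd_of_pow_eq_one h1)
        omega
      refine ⟨t ^ orderOf (t * t), pow_mem ht _, ?_, ?_⟩
      · rw [← (Commute.refl t).mul_pow, pow_orderOf_eq_one]
      · obtain ⟨j, hj⟩ := hodd2
        rw [hj, pow_succ, pow_mul, sq, mul_smul, hta, mul_smul, htb]
        have h1 : ((t * t) ^ j) ∈ K a b := pow_mem ht2 j
        exact ⟨((memK _ _ _).1 h1).2.2, ((memK _ _ _).1 h1).2.1⟩
    obtain ⟨z0, hz0a, hz0b, hz0⟩ : ∃ z, z ≠ a ∧ z ≠ b ∧ s0 • z = z := by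
      have hP : IsPGroup 2 (Subgroup.zpowers s0) := by
        rintro ⟨x, hx⟩
        obtain ⟨i, rfl⟩ := Subgroup.mem_zpowers_iff.1 hx
        exact ⟨1, Subtype.ext (by
          rw [pow_one, sq, Subgroup.coe_mul, Subgroup.coe_one, ← (Commute.refl _).mul_zpow, hs0.2.1, one_zpow])⟩
      have hmod := hP.card_modEq_card_fixedPoints (α := X)
      have : (fixedPoints (Subgroup.zpowers s0) X).Nonempty := by
        rw [Set.nonempty_iff_ne_empty]
        intro e
        rw [Nat.card_eq_fintype_card, hn, e, Nat.card_coe_set_eq, Set.ncard_empty, Nat.ModEq, Nat.odd_iff.1 hodd] at hmod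
        exact absurd hmod (by decide)
      obtain ⟨z, hz⟩ := this
      have hz' : s0 • z = z := hz ⟨s0, Subgroup.mem_zpowers _⟩
      refine ⟨z, ?_, ?_, hz'⟩
      · rintro rfl; exact hab (hz'.symm.trans hs0.2.2.1)
      · rintro rfl; exact hab (hs0.2.2.2.symm.trans hz')
    refine ⟨{z | ∃ s ∈ I, s • z = z}, ?_, fun x hxa hxb => ⟨1, one_mem _, ?_⟩⟩
    · rintro x ⟨s, hs, hsx⟩ y ⟨s', hs', hsy⟩
      obtain ⟨g, hg, hgs⟩ := hconjI s hs s' hs'
      refine ⟨g, hg, hsfix s' hs' _ _ ?_ hsy⟩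
      rw [← hgs, mul_smul, mul_smul, inv_smul_smul, hsx]
    · rw [one_smul]
      obtain ⟨g, hga, hgb, hgz⟩ := h3 a b z0 a b x hab (Ne.symm hz0a) (Ne.symm hz0b) hab (Ne.symm hxa) (Ne.symm hxb)
      refine ⟨g * s0 * g⁻¹, ⟨(inferInstance : N.Normal).conj_mem _ hs0.1 g, ?_, ?_, ?_⟩, ?_⟩
      · calc g * s0 * g⁻¹ * (g * s0 * g⁻¹) = g * (s0 * s0) * g⁻¹ := by group
          _ = 1 := by rw [hs0.2.1, mul_one, mul_inv_cancel]
      · rw [mul_smul, mul_smul, inv_smul_eq_iff.2 hga.symm, hs0.2.2.1, hgb]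
      · rw [mul_smul, mul_smul, inv_smul_eq_iff.2 hgb.symm, hs0.2.2.2, hga]
      · rw [mul_smul, mul_smul, inv_smul_eq_iff.2 hgz.symm, hz0, hgz]
  · -- reduce to the fixed points of `Q0`
    let L : Subgroup A := Subgroup.normalizer (Q0 : Set A)
    have hΔinv : ∀ g ∈ L, ∀ x : X, (∀ q ∈ Q0, q • x = x) → ∀ q ∈ Q0, q • g • x = g • x := by
      intro g hg x hx q hq
      have := hx _ ((Subgroup.mem_normalizer_iff''.1 hg q).1 hq)
      rwa [mul_smul, mul_smul, inv_smul_eq_iff] at this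
    let Δ : SubMulAction L X :=
      { carrier := {x | ∀ q ∈ Q0, q • x = x}
        smul_mem' := fun g {x} hx => hΔinv g g.2 x hx }
    have haΔ : a ∈ Δ := fun q hq => ((memK _ _ _).1 (hQK hq)).2.1
    have hbΔ : b ∈ Δ := fun q hq => ((memK _ _ _).1 (hQK hq)).2.2
    -- Witt's lemma
    have witt : ∀ (x y z x' y' z' : Δ) (g : A), (x : X) ≠ y → g • (x : X) = x' → g • (y : X) = y' → g • (z : X) = z' →
        (∀ f ∈ K3 (x' : X) y' z', f ∈ N) → ∃ f ∈ N, f * g ∈ L ∧ (f * g) • (x : X) = x' ∧ (f * g) • (y : X) = y' ∧ (f * g) • (z : X) = z' := by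
      intro x y z x' y' z' g hxy hx hy hz _
      have hxy' : (x' : X) ≠ y' := fun e => hxy (MulAction.injective g (hx.trans (e.trans hy.symm)))
      have hle1 : Q0 ≤ K3 (x' : X) y' z' := fun q hq => (memK3 _ _ _ _).2
        ⟨((memK _ _ _).1 (hQK hq)).1, x'.2 q hq, y'.2 q hq, z'.2 q hq⟩
      let Q1 := Q0.map (MulAut.conj g).toMonoidHom
      have hle2 : Q1 ≤ K3 (x' : X) y' z' := by
        rintro _ ⟨q, hq, rfl⟩
        show g * q * g⁻¹ ∈ K3 _ _ _
        rw [memK3]
        refine ⟨(inferInstance : N.Normal).conj_mem _ ((memK _ _ _).1 (hQK hq)).1 g, ?_, ?_, ?_⟩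
        · rw [mul_smul, mul_smul, inv_smul_eq_iff.2 hx.symm, x.2 q hq, hx]
        · rw [mul_smul, mul_smul, inv_smul_eq_iff.2 hy.symm, y.2 q hq, hy]
        · rw [mul_smul, mul_smul, inv_smul_eq_iff.2 hz.symm, z.2 q hq, hz]
      have hK3 : K3 (x' : X) y' z' ≤ K (x' : X) y' := inf_le_left
      obtain ⟨S0, hS0⟩ := IsPGroup.exists_le_sylow (hQ0.comap_of_injective (K3 (x' : X) y' z').subtype Subtype.val_injective)
      obtain ⟨S1, hS1⟩ := IsPGroup.exists_le_sylow
        ((hQ0.map (MulAut.conj g).toMonoidHom).comap_of_injective (K3 (x' : X) y' z').subtype Subtype.val_injective)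
      have hmap : ∀ (P : Subgroup A), P ≤ K3 (x' : X) y' z' → Nat.card Q0 ≤ Nat.card P →
          ∀ S : Sylow 2 (K3 (x' : X) y' z'), P.subgroupOf (K3 (x' : X) y' z') ≤ S →
            (S : Subgroup (K3 (x' : X) y' z')).map (K3 (x' : X) y' z').subtype = P := by
        intro P hP hPc S hS
        symm
        refine Subgroup.eq_of_le_of_card_ge ?_ ?_
        · intro p hp
          exact ⟨⟨p, hP hp⟩, hS hp, rfl⟩
        · refine le_trans ?_ hPc
          refine hQmax _ _ hxy' _ ?_ (S.isPGroup'.map _)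
          rintro _ ⟨s, -, rfl⟩
          exact hK3 s.2
      have e0 := hmap Q0 hle1 le_rfl S0 hS0
      have e1 := hmap Q1 hle2 (Nat.card_congr (Q0.equivMapOfInjective _ (MulEquiv.injective _)).toEquiv).le S1 hS1
      obtain ⟨f, hf⟩ := MulAction.exists_smul_eq (K3 (x' : X) y' z') S1 S0
      obtain ⟨hfN, hfx, hfy, hfz⟩ := (memK3 _ _ _ _).1 f.2
      refine ⟨f, hfN, ?_, by rw [mul_smul, hx, hfx], by rw [mul_smul, hy, hfy], by rw [mul_smul, hz, hfz]⟩
      rw [Subgroup.mem_normalizer_iff_map_conj_eq]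
      have hc : ((f : A) * g) = (f : A) * g := rfl
      conv_rhs => rw [← e0, ← hf]
      have hcomp : ∀ P : Subgroup A, P.map (MulAut.conj ((f : A) * g)).toMonoidHom =
          (P.map (MulAut.conj g).toMonoidHom).map (MulAut.conj (f : A)).toMonoidHom := by
        intro P; rw [Subgroup.map_map]; congr 1; ext; simp [mul_assoc]
      refine (hcomp Q0).trans ?_
      show Q1.map (MulAut.conj (f : A)).toMonoidHom = _
      rw [← e1, Subgroup.map_map, Sylow.coe_subgroup_smul]
      ext w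
      constructor
      · rintro ⟨s, hs, rfl⟩
        exact ⟨f * s * f⁻¹, ⟨s, hs, rfl⟩, rfl⟩
      · rintro ⟨_, ⟨s, hs, rfl⟩, rfl⟩
        exact ⟨s, hs, rfl⟩
    have hA3 : ∀ x y z x' y' z' : Δ, x ≠ y → x ≠ z → y ≠ z → x' ≠ y' → x' ≠ z' → y' ≠ z' →
        ∃ g : L, g • x = x' ∧ g • y = y' ∧ g • z = z' := by
      intro x y z x' y' z' h1 h1' h1'' h4 h4' h4''
      obtain ⟨g, gx, gy, gz⟩ := h3 x y z x' y' z' (Subtype.coe_ne_coe.2 h1) (Subtype.coe_ne_coe.2 h1')
        (Subtype.coe_ne_coe.2 h1'') (Subtype.coe_ne_coe.2 h4) (Subtype.coe_ne_coe.2 h4') (Subtype.coe_ne_coe.2 h4'')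
      obtain ⟨f, -, hfL, fx, fy, fz⟩ := witt x y z x' y' z' g (Subtype.coe_ne_coe.2 h1) gx gy gz
        (fun f hf => ((memK3 _ _ _ _).1 hf).1)
      exact ⟨⟨f * g, hfL⟩, Subtype.ext fx, Subtype.ext fy, Subtype.ext fz⟩
    have hN2 : ∀ x y x' y' : Δ, x ≠ y → x' ≠ y' → ∃ g ∈ N.subgroupOf L, g • x = x' ∧ g • y = y' := by
      intro x y x' y' h1 h4
      obtain ⟨g, hgN, gx, gy⟩ := h2 x y x' y' (Subtype.coe_ne_coe.2 h1) (Subtype.coe_ne_coe.2 h4)
      obtain ⟨f, hfN, hfL, fx, fy, -⟩ := witt x y x x' y' x' g (Subtype.coe_ne_coe.2 h1) gx gy gx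
        (fun f hf => ((memK3 _ _ _ _).1 hf).1)
      exact ⟨⟨f * g, hfL⟩, mul_mem hfN hgN, Subtype.ext fx, Subtype.ext fy⟩
    have hsmall : Nat.card Δ < n := by
      rw [← hn, ← Nat.card_eq_fintype_card]
      obtain ⟨q, hq, hq1⟩ : ∃ q ∈ Q0, ∃ x : X, q • x ≠ x := by
        by_contra hno
        push Not at hno
        refine hQ1 ((Subgroup.eq_bot_iff_forall _).2 fun q hq => ?_)
        exact FaithfulSMul.eq_of_smul_eq_smul (α := X) fun x => by rw [hno q hq x, one_smul]
      obtain ⟨x, hx⟩ := hq1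
      exact Finite.card_subtype_lt (x := x) (fun h => hx (h q hq))
    have hoddΔ : Odd (Nat.card Δ) := by
      have hmod := hQ0.card_modEq_card_fixedPoints (α := X)
      rw [Nat.card_eq_fintype_card, hn, Nat.ModEq, Nat.odd_iff.1 hodd] at hmod
      have e : fixedPoints Q0 X ≃ Δ := Equiv.subtypeEquivRight fun x => ⟨fun h q hq => h ⟨q, hq⟩, fun h q => h q q.2⟩
      rw [Nat.card_congr e] at hmod
      exact Nat.odd_iff.2 hmod.symm
    refine ⟨{z | z ∈ Δ ∧ z ≠ a ∧ z ≠ b}, ?_, ?_⟩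
    · rintro x ⟨hx, hxa, hxb⟩ y ⟨hy, hya, hyb⟩
      have := Fintype.ofFinite Δ
      let φ := (MulAction.toPermHom L Δ).rangeRestrict
      have hN' : ((N.subgroupOf L).map φ).Normal :=
        Subgroup.Normal.map inferInstance φ (MonoidHom.rangeRestrict_surjective _)
      have hφ : ∀ (g : L) (v : Δ), φ g • v = g • v := fun g v => rfl
      obtain ⟨_, ⟨g, hg, rfl⟩, ga, gb, gx⟩ := ih _ (by rwa [Nat.card_eq_fintype_card] at hsmall)
        ((MulAction.toPermHom L Δ).range : Subgroup (Equiv.Perm Δ)) Δ ((N.subgroupOf L).map φ) rfl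
        (by rwa [Nat.card_eq_fintype_card] at hoddΔ)
        (fun a b c x y z h1 h2 h3 h4 h5 h6 => (hA3 a b c x y z h1 h2 h3 h4 h5 h6).elim fun g hg => ⟨φ g, hg⟩)
        (fun a b x y h1 h4 => (hN2 a b x y h1 h4).elim fun g hg => ⟨φ g, ⟨g, hg.1, rfl⟩, hg.2⟩)
        ⟨a, haΔ⟩ ⟨b, hbΔ⟩ ⟨x, hx⟩ ⟨y, hy⟩ (by simpa [Subtype.ext_iff] using hab) (by simpa [Subtype.ext_iff] using hxa) (by simpa [Subtype.ext_iff] using hxb) (by simpa [Subtype.ext_iff] using hya) (by simpa [Subtype.ext_iff] using hyb)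
      exact ⟨g, (memK _ _ _).2 ⟨hg, congrArg Subtype.val ga, congrArg Subtype.val gb⟩, congrArg Subtype.val gx⟩
    · intro x hxa hxb
      -- move a fixed point of `Q0` to `x`
      obtain ⟨z, hza, hzb, hQz⟩ := hfixQ Q0 a b hQK hQ0 hab
      obtain ⟨g, ga, gb, gz⟩ := h3 a b z a b x hab (Ne.symm hza) (Ne.symm hzb) hab (Ne.symm hxa) (Ne.symm hxb)
      let Q1 := Q0.map (MulAut.conj g).toMonoidHom
      have hQ1le : Q1 ≤ K a b := by
        have := conjK g a b
        rw [ga, gb] at this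
        rw [← this]; exact Subgroup.map_mono hQK
      obtain ⟨S1, hS1⟩ := IsPGroup.exists_le_sylow
        ((hQ0.map (MulAut.conj g).toMonoidHom).comap_of_injective (K a b).subtype Subtype.val_injective)
      obtain ⟨h, hh⟩ := MulAction.exists_smul_eq (K a b) Q S1
      refine ⟨h⁻¹, inv_mem h.2, ⟨fun q hq => ?_, ?_, ?_⟩⟩
      · -- `h • Q = S1`, and `S1` is the image of `Q0`, which fixes `x`
        have hS1eq : (S1 : Subgroup (K a b)).map (K a b).subtype = Q1 := by
          symm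
          refine Subgroup.eq_of_le_of_card_ge (fun p hp => ⟨⟨p, hQ1le hp⟩, hS1 hp, rfl⟩) ?_
          refine le_trans (hQmax a b hab _ ?_ (S1.isPGroup'.map _)) (Nat.card_congr (Q0.equivMapOfInjective _ (MulEquiv.injective _)).toEquiv).le
          rintro _ ⟨s, -, rfl⟩; exact s.2
        obtain ⟨q', hq', rfl⟩ := hq
        have hm : (h : A) * q' * (h : A)⁻¹ ∈ Q1 := by
          rw [← hS1eq, ← hh]
          exact ⟨h * q' * h⁻¹, ⟨q', hq', rfl⟩, rfl⟩
        obtain ⟨q0, hq0, hq0e⟩ := hm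
        have hfx : ((h : A) * q' * (h : A)⁻¹) • x = x := by
          rw [← hq0e, ← gz]
          show (g * q0 * g⁻¹) • g • z = g • z
          rw [mul_smul, mul_smul, inv_smul_smul, ((memK3 _ _ _ _).1 (hQz hq0)).2.2.2]
        rw [mul_smul, mul_smul] at hfx
        show (q' : A) • (h : A)⁻¹ • x = (h : A)⁻¹ • x
        exact eq_inv_smul_iff.2 hfx
      · intro e
        exact hxa ((inv_smul_eq_iff.1 e).trans ((memK _ _ _).1 h.2).2.1)
      · intro e
        exact hxb ((inv_smul_eq_iff.1 e).trans ((memK _ _ _).1 h.2).2.2)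

/-- Wagner's Theorem: a non-trivial normal subgroup of a triply transitive permutation group of odd degree at least 5 is triply transitive. -/
theorem result {α : Type*} [Fintype α] [DecidableEq α] (G : Subgroup (Equiv.Perm α)) (hodd : Odd (Fintype.card α)) (h5 : 5 ≤ Fintype.card α) (hG : MulAction.IsMultiplyPretransitive G α 3) (N : Subgroup G) [N.Normal] (hN : N ≠ ⊥) : MulAction.IsMultiplyPretransitive N α 3 := by
  have hne : Nontrivial α := Fintype.one_lt_card_iff_nontrivial.1 (by omega)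
  rcases Cfsg.Agent.S0698.result G (k := 3) (by norm_num) (by omega) hG N hN with h2 | ⟨-, hc, hexp⟩
  · have h2' : ∀ {a b x y : α}, a ≠ b → x ≠ y → ∃ g : N, g • a = x ∧ g • b = y := is_two_pretransitive_iff.1 h2
    refine Cfsg.Agent.Perm.isMultiplyPretransitive_of_fixTrans fun s hs => ?_
    by_cases hs2 : s.card + 1 ≤ 2
    · exact Cfsg.Agent.Perm.fixTrans_of_isMultiplyPretransitive h2 hs2 (by omega)
    · obtain ⟨a, b, hab, rfl⟩ := Finset.card_eq_two.1 (by omega : s.card = 2)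
      intro c d hc hd
      have h3 : ∀ a b c x y z : α, a ≠ b → a ≠ c → b ≠ c → x ≠ y → x ≠ z → y ≠ z →
          ∃ g : G, g • a = x ∧ g • b = y ∧ g • c = z := by
        intro a b c x y z h1 h2 h3 h4 h5 h6
        let e : Fin 3 ↪ α := ⟨![a, b, c], by intro i j h; fin_cases i <;> fin_cases j <;> simp_all⟩
        let f : Fin 3 ↪ α := ⟨![x, y, z], by intro i j h; fin_cases i <;> fin_cases j <;> simp_all⟩
        obtain ⟨g, hg⟩ := (isMultiplyPretransitive_iff.1 hG) e f
        exact ⟨g, DFunLike.congr_fun hg 0, DFunLike.congr_fun hg 1, DFunLike.congr_fun hg 2⟩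
      simp only [Finset.mem_insert, Finset.mem_singleton, not_or] at hc hd
      obtain ⟨g, hg, ga, gb, gc⟩ := wagner_aux (Fintype.card α) G α N rfl hodd h3
        (fun a b x y h1 h4 => (h2' h1 h4).elim fun g hg => ⟨g, g.2, hg⟩) a b c d hab hc.1 hc.2 hd.1 hd.2
      refine ⟨⟨g, hg⟩, fun x hx => ?_, gc⟩
      rcases Finset.mem_insert.1 hx with rfl | hx
      · exact ga
      · rw [Finset.mem_singleton.1 hx]; exact gb
  · -- an abelian group of exponent two has no transitive action of odd degree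
    exfalso
    have hG2 : IsMultiplyPretransitive G α 2 :=
      isMultiplyPretransitive_of_le (n := 3) (by norm_num) (by rw [Nat.card_eq_fintype_card]; omega)
    have hp : IsPreprimitive G α := isPreprimitive_of_is_two_pretransitive hG2
    have htr : IsPretransitive N α := IsQuasiPreprimitive.isPretransitive_of_normal fun e => by
      obtain ⟨⟨n, hn⟩, hn1⟩ := (Subgroup.ne_bot_iff_exists_ne_one).1 hN
      refine hn1 (Subtype.ext (Subtype.ext (Equiv.ext fun x => ?_)))
      have : x ∈ fixedPoints N α := by rw [e]; trivial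
      exact this ⟨n, hn⟩
    have : Fact (Nat.Prime 2) := ⟨Nat.prime_two⟩
    have hpN : IsPGroup 2 N := fun z => ⟨1, Subtype.ext (by
      rw [pow_one, Subgroup.coe_pow, Subgroup.coe_one]; exact hexp _ z.2)⟩
    obtain ⟨a⟩ : Nonempty α := inferInstance
    obtain ⟨j, hj⟩ := hpN.index (stabilizer N a)
    rw [index_stabilizer_of_transitive, Nat.card_eq_fintype_card] at hj
    rw [hj] at hodd
    cases j with
    | zero => rw [pow_zero] at hj; omega
    | succ j => rw [pow_succ] at hodd; exact absurd hodd (by simp [Nat.not_odd_iff_even])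

end Cfsg.Agent.S0699
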