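import Cfsg.Statements.S0700
import Mathlib
import Cfsg.Agent.Lib.Struct.Frobenius

set_option autoImplicit false
open Cfsg

namespace Cfsg.Agent.S0700

---pre
open MulAction
open scoped Pointwise

theorem p_group_of_same_order {H : Type*} [Group H] [Finite H] [Nontrivial H]
    (h : ∀ x y : H, x ≠ 1 → y ≠ 1 → orderOf x = orderOf y) :
    ∃ p : ℕ, p.Prime ∧ (∀ x : H, x ^ p = 1) ∧ IsPGroup p H := by
  obtain ⟨p, hp, hd⟩ := Nat.exists_prime_and_dvd (n := Nat.card H) (Finite.one_lt_card (α := H)).ne'
  have := Fact.mk hp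
  obtain ⟨e, he⟩ := exists_prime_orderOf_dvd_card' (G := H) p hd
  have hexp : ∀ x : H, x ^ p = 1 := by
    intro x
    by_cases hx : x = 1
    · rw [hx, one_pow]
    · rw [← he, h e x (fun e1 => hp.one_lt.ne (by rw [← he, e1, orderOf_one])) hx, pow_orderOf_eq_one]
  exact ⟨p, hp, hexp, fun x => ⟨1, by rw [pow_one]; exact hexp x⟩⟩

/-- Burnside's Theorem on doubly transitive groups: a minimal normal subgroup of a finite doubly transitive permutation group is elementary abelian and regular, or simple and primitive. -/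
theorem result {α : Type*} [Fintype α] [DecidableEq α] (G : Subgroup (Equiv.Perm α)) (hG : MulAction.IsMultiplyPretransitive G α 2) (N : Subgroup G) [N.Normal] (hN : N ≠ ⊥) (hmin : ∀ M : Subgroup G, M.Normal → M ≤ N → M = ⊥ ∨ M = N) : (IsMulCommutative N ∧ (∃ p : ℕ, p.Prime ∧ ∀ n ∈ N, n ^ p = 1) ∧ ∀ a : α, MulAction.stabilizer N a = ⊥) ∨ (IsSimpleGroup N ∧ MulAction.IsPreprimitive N α) := by
  classical
  have hne : Nontrivial α := by
    by_contra h
    have := not_nontrivial_iff_subsingleton.1 h
    exact hN (Subsingleton.elim _ _)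
  have h2t : ∀ {a b c d : α}, a ≠ b → c ≠ d → ∃ g : G, g • a = c ∧ g • b = d :=
    is_two_pretransitive_iff.1 hG
  have hprimG : IsPreprimitive G α := isPreprimitive_of_is_two_pretransitive hG
  have htrN : IsPretransitive N α := IsQuasiPreprimitive.isPretransitive_of_normal fun e => by
    obtain ⟨⟨n, hn⟩, hn1⟩ := (Subgroup.ne_bot_iff_exists_ne_one).1 hN
    refine hn1 (Subtype.ext (Subtype.ext (Equiv.ext fun x => ?_)))
    have : x ∈ fixedPoints N α := by rw [e]; trivial
    exact this ⟨n, hn⟩
  have hfa : ∀ (g : G), (∀ x : α, g • x = x) → g = 1 := fun g h => Subtype.ext (Equiv.ext h)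
  obtain ⟨a⟩ : Nonempty α := inferInstance
  by_cases hreg : ∀ a : α, stabilizer N a = ⊥
  · -- regular case
    left
    have hu : ∀ (x y : N), x • a = y • a → x = y := fun x y e => by
      have : y⁻¹ * x ∈ stabilizer N a := by rw [mem_stabilizer_iff, mul_smul, e, inv_smul_smul]
      rw [hreg, Subgroup.mem_bot, inv_mul_eq_one] at this
      exact this.symm
    have hNt : Nontrivial N := (Subgroup.nontrivial_iff_ne_bot N).2 hN
    have hord : ∀ x y : N, x ≠ 1 → y ≠ 1 → orderOf x = orderOf y := by
      intro x y hx hy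
      have hxa : x • a ≠ a := fun e => hx (hu x 1 (e.trans (one_smul N a).symm))
      have hya : y • a ≠ a := fun e => hy (hu y 1 (e.trans (one_smul N a).symm))
      obtain ⟨g, hga, hgx⟩ := h2t (Ne.symm hxa) (Ne.symm hya)
      have hc : (⟨g * (x : G) * g⁻¹, (inferInstance : N.Normal).conj_mem _ x.2 g⟩ : N) = y := by
        refine hu _ _ ?_
        show (g * (x : G) * g⁻¹) • a = y • a
        rw [mul_smul, mul_smul, inv_smul_eq_iff.2 hga.symm]
        exact hgx
      rw [← hc, ← Subgroup.orderOf_coe x]
      exact (MulEquiv.orderOf_eq (MulAut.conj g) (x : G)).symm.trans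
        (Subgroup.orderOf_coe (⟨g * (x : G) * g⁻¹, (inferInstance : N.Normal).conj_mem _ x.2 g⟩ : N))
    obtain ⟨p, hp, hexp, hpg⟩ := p_group_of_same_order hord
    have := Fact.mk hp
    have hc : Nontrivial (Subgroup.center N) := hpg.center_nontrivial
    have hcn : ((Subgroup.center N).map N.subtype).Normal := inferInstance
    rcases hmin _ hcn (Subgroup.map_subtype_le _) with h | h
    · rw [Subgroup.map_eq_bot_iff_of_injective _ N.subtype_injective] at h
      exact absurd h ((Subgroup.nontrivial_iff_ne_bot _).1 hc)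
    · refine ⟨⟨⟨fun x y => ?_⟩⟩, ⟨p, hp, fun n hn => congrArg Subtype.val (hexp ⟨n, hn⟩)⟩, hreg⟩
      obtain ⟨z, hz, hzx⟩ : (x : G) ∈ (Subgroup.center N).map N.subtype := by rw [h]; exact x.2
      obtain rfl : z = x := Subtype.ext hzx
      exact (Subgroup.mem_center_iff.1 hz y).symm
  · -- non-regular case
    right
    have hNa : stabilizer N a ≠ ⊥ := by
      intro e
      apply hreg
      intro b
      obtain ⟨n, rfl⟩ := MulAction.exists_smul_eq N a b
      rw [stabilizer_smul_eq_stabilizer_map_conj, e, Subgroup.map_bot]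
    have hprimN : IsPreprimitive N α := by
      by_contra hnp
      have hex : ∃ B : Set α, IsBlock N B ∧ 2 ≤ B.ncard ∧ B ≠ Set.univ := by
        by_contra hno
        push Not at hno
        refine hnp ⟨fun {B} hB => ?_⟩
        by_cases hs : B.ncard ≤ 1
        · exact Or.inl ((Set.ncard_le_one_iff_subsingleton (s := B)).1 hs)
        · exact Or.inr (hno B hB (by omega))
      obtain ⟨B, ⟨hB, hB2, hBu⟩, hBmin⟩ : ∃ B : Set α, (IsBlock N B ∧ 2 ≤ B.ncard ∧ B ≠ Set.univ) ∧
          ∀ B' : Set α, IsBlock N B' → 2 ≤ B'.ncard → B' ≠ Set.univ → B.ncard ≤ B'.ncard := by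
        let S : Finset (Set α) := Finset.univ.filter fun B => IsBlock N B ∧ 2 ≤ B.ncard ∧ B ≠ Set.univ
        obtain ⟨B, hB, hmin⟩ := S.exists_min_image (fun B => B.ncard)
          (hex.imp fun B hB => by simp [S, hB])
        exact ⟨B, (Finset.mem_filter.1 hB).2, fun B' h1 h2 h3 => hmin B' (by simp [S, h1, h2, h3])⟩
      -- the lines are the translates of `B`
      have hline : ∀ g : G, IsBlock N (g • B) := by
        intro g
        rw [isBlock_iff_smul_eq_of_mem]
        intro n x hx hnx
        let n' : N := ⟨g⁻¹ * (n : G) * g, by simpa using (inferInstance : N.Normal).conj_mem _ n.2 g⁻¹⟩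
        have hy : g⁻¹ • x ∈ B := Set.mem_smul_set_iff_inv_smul_mem.1 hx
        have hny : n' • g⁻¹ • x ∈ B := by
          show (g⁻¹ * (n : G) * g) • g⁻¹ • x ∈ B
          rw [mul_smul, mul_smul, smul_inv_smul]
          exact Set.mem_smul_set_iff_inv_smul_mem.1 hnx
        have h1 : n' • B = B := hB.smul_eq_of_mem hy hny
        calc n • g • B = g • n' • B := by
              show (n : G) • g • B = g • (g⁻¹ * (n : G) * g) • B
              rw [← mul_smul, ← mul_smul]; congr 1; group
          _ = g • B := by rw [h1]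
      have hcardL : ∀ g : G, (g • B).ncard = B.ncard := fun g => Set.ncard_smul_set g B
      have hmeet : ∀ (g h : G) (x y : α), x ≠ y → x ∈ g • B → y ∈ g • B → x ∈ h • B → y ∈ h • B → g • B = h • B := by
        intro g h x y hxy hx hy hx' hy'
        have hI : IsBlock N (g • B ∩ h • B) := (hline g).inter (hline h)
        have h1 : 2 ≤ (g • B ∩ h • B).ncard := (Set.one_lt_ncard_iff (Set.toFinite _)).2
          ⟨x, y, ⟨hx, hx'⟩, ⟨hy, hy'⟩, hxy⟩
        have h2 : g • B ∩ h • B ≠ Set.univ := fun e => hBu (by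
          have h5 : g • B = Set.univ := Set.eq_univ_of_univ_subset (e ▸ Set.inter_subset_left)
          rw [← inv_smul_smul g B, h5, Set.smul_set_univ])
        have h3 := hBmin _ hI h1 h2
        have e1 : g • B ∩ h • B = g • B :=
          Set.eq_of_subset_of_ncard_le Set.inter_subset_left (by rw [hcardL]; exact h3) (Set.toFinite _)
        have e2 : g • B ∩ h • B = h • B :=
          Set.eq_of_subset_of_ncard_le Set.inter_subset_right (by rw [hcardL]; exact h3) (Set.toFinite _)
        exact e1.symm.trans e2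
      obtain ⟨b1, b2, hb1, hb2, hb12⟩ := (Set.one_lt_ncard_iff (Set.toFinite B)).1 (by omega : 1 < B.ncard)
      have hjoin : ∀ x y : α, x ≠ y → ∃ g : G, x ∈ g • B ∧ y ∈ g • B := by
        intro x y hxy
        obtain ⟨g, hg1, hg2⟩ := h2t hb12 hxy
        exact ⟨g, hg1 ▸ Set.smul_mem_smul_set hb1, hg2 ▸ Set.smul_mem_smul_set hb2⟩
      have hoff : ∀ (n : N) (x y c : α) (g : G), x ≠ y → x ∈ g • B → y ∈ g • B → n • x = x → n • y = y →
          c ∉ g • B → n • c = c := by
        intro n x y c g hxy hx hy hnx hny hc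
        have hcx : x ≠ c := fun e => hc (e ▸ hx)
        have hcy : y ≠ c := fun e => hc (e ▸ hy)
        obtain ⟨g1, hx1, hc1⟩ := hjoin x c hcx
        obtain ⟨g2, hy2, hc2⟩ := hjoin y c hcy
        by_contra hnc
        have f1 : n • c ∈ g1 • B := by
          rw [← (hline g1).smul_eq_of_mem hx1 (by rw [hnx]; exact hx1)]
          exact Set.smul_mem_smul_set hc1
        have f2 : n • c ∈ g2 • B := by
          rw [← (hline g2).smul_eq_of_mem hy2 (by rw [hny]; exact hy2)]
          exact Set.smul_mem_smul_set hc2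
        have e12 := hmeet g1 g2 c (n • c) (Ne.symm hnc) hc1 f1 hc2 f2
        have hy1 : y ∈ g1 • B := e12 ▸ hy2
        exact hc (hmeet g1 g x y hxy hx1 hy1 hx hy ▸ hc1)
      have hfix2 : ∀ (n : N) (x y : α), x ≠ y → n • x = x → n • y = y → n = 1 := by
        intro n x y hxy hnx hny
        obtain ⟨g, hx, hy⟩ := hjoin x y hxy
        refine Subtype.ext (hfa _ fun c => ?_)
        show n • c = c
        by_cases hc : c ∈ g • B
        · by_cases hcx : c = x
          · rw [hcx, hnx]
          obtain ⟨d, hd⟩ : ∃ d, d ∉ g • B := by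
            by_contra hno
            push Not at hno
            have h5 : g • B = Set.univ := Set.eq_univ_of_forall hno
            exact hBu (by rw [← inv_smul_smul g B, h5, Set.smul_set_univ])
          have hdx : x ≠ d := fun e => hd (e ▸ hx)
          obtain ⟨g', hx', hd'⟩ := hjoin x d hdx
          refine hoff n x d c g' hdx hx' hd' hnx (hoff n x y d g hxy hx hy hnx hny hd) fun hc' => ?_
          exact hd (hmeet g' g x c (Ne.symm hcx) hx' hc' hx hc ▸ hd')
        · exact hoff n x y c g hxy hx hy hnx hny hc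
      have htop : stabilizer N a ≠ ⊤ := by
        intro e
        obtain ⟨b, hb⟩ := exists_ne a
        obtain ⟨n, hn⟩ := MulAction.exists_smul_eq N a b
        have : n ∈ stabilizer N a := e ▸ Subgroup.mem_top n
        exact hb (hn ▸ this)
      have hFC : Cfsg.IsFrobeniusComplement (stabilizer N a) := by
        refine ⟨hNa, htop, fun g hg => (Subgroup.eq_bot_iff_forall _).2 fun x hx => ?_⟩
        obtain ⟨hx1, hx2⟩ := Subgroup.mem_inf.1 hx
        rw [Cfsg.Agent.Struct.Frobenius.mem_conj_smul, mem_stabilizer_iff, mul_smul, mul_smul] at hx2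
        exact hfix2 x a (g • a) (Ne.symm hg) hx1 (inv_smul_eq_iff.1 hx2)
      obtain ⟨K, hK, hKn, hcompl⟩ := Cfsg.Agent.Struct.Frobenius.exists_kernel hFC
      have hKmem : ∀ k : N, k ∈ K ↔ k = 1 ∨ ∀ x : α, k • x ≠ x := by
        intro k
        rw [← SetLike.mem_coe, hK]
        refine or_congr Iff.rfl ⟨fun h x hx => ?_, fun h f hf => ?_⟩
        · obtain ⟨f, rfl⟩ := MulAction.exists_smul_eq N a x
          refine h f (Cfsg.Agent.Struct.Frobenius.mem_conj_smul.2 ?_)
          rw [mem_stabilizer_iff, mul_smul, mul_smul, hx, inv_smul_smul]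
        · rw [Cfsg.Agent.Struct.Frobenius.mem_conj_smul, mem_stabilizer_iff, mul_smul, mul_smul] at hf
          exact h (f • a) (inv_smul_eq_iff.1 hf)
      have hKG : (K.map N.subtype).Normal := by
        refine ⟨fun x hx g => ?_⟩
        obtain ⟨k, hk, rfl⟩ := hx
        refine ⟨⟨g * (k : G) * g⁻¹, (inferInstance : N.Normal).conj_mem _ k.2 g⟩, (hKmem _).2 ?_, rfl⟩
        rcases (hKmem k).1 hk with h | h
        · left; subst h; exact Subtype.ext (by simp)
        · right
          intro x hx
          apply h (g⁻¹ • x)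
          have hx' : (g * (k : G) * g⁻¹) • x = x := hx
          rw [mul_smul, mul_smul] at hx'
          exact eq_inv_smul_iff.2 hx'
      rcases hmin _ hKG (Subgroup.map_subtype_le _) with h | h
      · rw [Subgroup.map_eq_bot_iff_of_injective _ N.subtype_injective] at h
        rw [h] at hcompl
        exact htop (Subgroup.isComplement'_bot_left.1 hcompl)
      · have hKtop : K = ⊤ := by
          apply Subgroup.map_injective N.subtype_injective
          rw [h, ← MonoidHom.range_eq_map, Subgroup.range_subtype]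
        rw [hKtop] at hcompl
        exact hNa (Subgroup.isComplement'_top_left.1 hcompl)
    refine ⟨?_, hprimN⟩
    have hNt : Nontrivial N := (Subgroup.nontrivial_iff_ne_bot N).2 hN
    refine ⟨fun M hM => ?_⟩
    by_contra hMc
    push Not at hMc
    obtain ⟨hM0, hM1⟩ := hMc
    obtain ⟨T, hT⟩ := (Set.toFinite {L : Subgroup N | L.Normal ∧ L ≠ ⊥ ∧ L ≤ M}).exists_minimal ⟨M, hM, hM0, le_rfl⟩
    obtain ⟨⟨hTn, hT0, hTM⟩, hTmin⟩ := hT
    have hTtop : T ≠ ⊤ := fun e => hM1 (top_le_iff.1 (e ▸ hTM))
    have hTmin' : ∀ L : Subgroup N, L.Normal → L ≤ T → L = ⊥ ∨ L = T := fun L hL hLT => by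
      by_cases h0 : L = ⊥
      · exact Or.inl h0
      · exact Or.inr (le_antisymm hLT (hTmin ⟨hL, h0, hLT.trans hTM⟩ hLT))
    have htrans : ∀ L : Subgroup N, L.Normal → L ≠ ⊥ → IsPretransitive L α := by
      intro L hL hL0
      refine IsQuasiPreprimitive.isPretransitive_of_normal (G := N) fun e => hL0 ?_
      rw [Subgroup.eq_bot_iff_forall]
      intro l hl
      refine Subtype.ext (hfa _ fun x => ?_)
      have : x ∈ fixedPoints L α := by rw [e]; trivial
      exact this ⟨l, hl⟩
    let cj : G → (N ≃* N) := fun g => MulAut.conjNormal g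
    have hTg : ∀ g : G, (T.map (cj g).toMonoidHom).Normal := fun g => hTn.map _ (cj g).surjective
    have hcommTg : ∀ g : G, T.map (cj g).toMonoidHom ≠ T → ∀ t ∈ T, ∀ s ∈ T.map (cj g).toMonoidHom, t * s = s * t := by
      intro g hne t ht s hs
      have hd : Disjoint T (T.map (cj g).toMonoidHom) := by
        rw [disjoint_iff]
        rcases hTmin' (T ⊓ T.map (cj g).toMonoidHom) (Subgroup.normal_inf_normal _ _ (hH := hTn) (hK := hTg g)) inf_le_left with h | h
        · exact h
        · exfalso
          apply hne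
          refine (Subgroup.eq_of_le_of_card_ge (inf_eq_left.1 h) ?_).symm
          exact (Nat.card_congr (T.equivMapOfInjective _ (cj g).injective).toEquiv).symm.le
      exact (Subgroup.commute_of_normal_of_disjoint _ _ hTn (hTg g) hd t s ht hs).eq
    have hnn : ∀ g : G, ∀ (h : T.map (cj g).toMonoidHom = T), ∀ t ∈ T, cj g t ∈ T := fun g h t ht => by
      rw [← h]; exact ⟨t, ht, rfl⟩
    have hnotG : ∃ g : G, T.map (cj g).toMonoidHom ≠ T := by
      by_contra hno
      push Not at hno
      have hn : (T.map N.subtype).Normal := ⟨fun x hx g => by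
        obtain ⟨t, ht, rfl⟩ := hx
        exact ⟨cj g t, hnn g (hno g) t ht, rfl⟩⟩
      rcases hmin _ hn (Subgroup.map_subtype_le _) with h | h
      · exact hT0 ((Subgroup.map_eq_bot_iff_of_injective _ N.subtype_injective).1 h)
      · refine hTtop (Subgroup.map_injective N.subtype_injective ?_)
        rw [h, ← MonoidHom.range_eq_map, Subgroup.range_subtype]
    obtain ⟨g0, hg0⟩ := hnotG
    let C : Subgroup N := Subgroup.centralizer (T : Set N)
    have hC0 : C ≠ ⊥ := by
      intro e
      apply hT0
      rw [Subgroup.eq_bot_iff_forall]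
      intro t ht
      have : cj g0 t ∈ C := Subgroup.mem_centralizer_iff.2 fun s hs => hcommTg g0 hg0 s hs _ ⟨t, ht, rfl⟩
      rw [e, Subgroup.mem_bot, MulEquiv.map_eq_one_iff] at this
      exact this
    have hCtr : IsPretransitive C α := htrans C (inferInstance : (Subgroup.centralizer (T : Set N)).Normal) hC0
    have hTtr : IsPretransitive T α := htrans T hTn hT0
    have hTsemi : ∀ t ∈ T, ∀ x : α, t • x = x → t = 1 := by
      intro t ht x hx
      refine Subtype.ext (hfa _ fun y => ?_)
      obtain ⟨⟨c, hc⟩, rfl⟩ := MulAction.exists_smul_eq C x y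
      show t • c • x = c • x
      rw [← mul_smul, Subgroup.mem_centralizer_iff.1 hc t ht, mul_smul, hx]
    have hTu : ∀ s ∈ T, ∀ t ∈ T, s • a = t • a → s = t := fun s hs t ht e => by
      have := hTsemi (t⁻¹ * s) (mul_mem (inv_mem ht) hs) a (by rw [mul_smul, e, inv_smul_smul])
      exact (inv_mul_eq_one.1 this).symm
    have hgsemi : ∀ g : G, ∀ s ∈ T.map (cj g).toMonoidHom, ∀ x : α, s • x = x → s = 1 := by
      rintro g _ ⟨t, ht, rfl⟩ x hx
      have hx' : (g * (t : G) * g⁻¹) • x = x := hx
      rw [mul_smul, mul_smul] at hx'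
      have := hTsemi t ht (g⁻¹ • x) (eq_inv_smul_iff.2 hx')
      rw [this]; exact map_one _
    have hord : ∀ x y : T, x ≠ 1 → y ≠ 1 → orderOf x = orderOf y := by
      intro x y hx hy
      have hxa : (x : N) • a ≠ a := fun e => hx (Subtype.ext (hTsemi _ x.2 a e))
      have hya : (y : N) • a ≠ a := fun e => hy (Subtype.ext (hTsemi _ y.2 a e))
      obtain ⟨g, hga, hgx⟩ := h2t (Ne.symm hxa) (Ne.symm hya)
      have hsa : cj g x • a = (y : N) • a := by
        show (g * ((x : N) : G) * g⁻¹) • a = _
        rw [mul_smul, mul_smul, inv_smul_eq_iff.2 hga.symm]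
        exact hgx
      have ho : orderOf (cj g x) = orderOf (y : N) := by
        by_cases hT' : T.map (cj g).toMonoidHom = T
        · rw [hTu _ (hnn g hT' x x.2) _ y.2 hsa]
        · have hc : Commute (y : N) (cj g x) := hcommTg g hT' y y.2 _ ⟨x, x.2, rfl⟩
          have hk : ∀ k : ℕ, (cj g x) ^ k • a = (y : N) ^ k • a := by
            intro k
            induction k with
            | zero => simp
            | succ k ih => rw [pow_succ, mul_smul, hsa, ← mul_smul, ← (hc.pow_right k).eq, mul_smul, ih, ← mul_smul, ← pow_succ']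
          refine orderOf_eq_orderOf_iff.2 fun k => ⟨fun h => ?_, fun h => ?_⟩
          · refine hTsemi _ (pow_mem y.2 k) a ?_
            rw [← hk, h, one_smul]
          · refine hgsemi g _ (pow_mem (⟨x, x.2, rfl⟩ : cj g x ∈ T.map (cj g).toMonoidHom) k) a ?_
            rw [hk, h, one_smul]
      rw [← Subgroup.orderOf_coe x, ← Subgroup.orderOf_coe y, ← ho, MulEquiv.orderOf_eq]
    have hTnt : Nontrivial T := (Subgroup.nontrivial_iff_ne_bot T).2 hT0
    obtain ⟨p, hp, -, hpg⟩ := p_group_of_same_order hord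
    have := Fact.mk hp
    have hcz : Nontrivial (Subgroup.center T) := hpg.center_nontrivial
    have hTab : ∀ s ∈ T, ∀ t ∈ T, s * t = t * s := by
      rcases hTmin' _ (inferInstance : ((Subgroup.center T).map T.subtype).Normal) (Subgroup.map_subtype_le _) with h | h
      · rw [Subgroup.map_eq_bot_iff_of_injective _ T.subtype_injective] at h
        exact absurd h ((Subgroup.nontrivial_iff_ne_bot _).1 hcz)
      · intro s hs t ht
        obtain ⟨z, hz, rfl⟩ : s ∈ (Subgroup.center T).map T.subtype := by rw [h]; exact hs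
        exact (congrArg Subtype.val (Subgroup.mem_center_iff.1 hz ⟨t, ht⟩)).symm
    -- every element centralising `T` lies in `T`
    have hCT : ∀ c : N, (∀ t ∈ T, t * c = c * t) → c ∈ T := by
      intro c hc
      obtain ⟨⟨t, ht⟩, hta⟩ := MulAction.exists_smul_eq T a (c • a)
      have hta' : t • a = c • a := hta
      have : t⁻¹ * c = 1 := by
        refine Subtype.ext (hfa _ fun y => ?_)
        obtain ⟨⟨s, hs⟩, rfl⟩ := MulAction.exists_smul_eq T a y
        show (t⁻¹ * c) • s • a = s • a
        rw [← mul_smul, mul_assoc, ← hc s hs, ← mul_assoc, ← hTab s hs t⁻¹ (inv_mem ht), mul_assoc, mul_smul, mul_smul, ← hta', inv_smul_smul]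
      rw [← inv_mul_eq_one.1 this]
      exact ht
    apply hg0
    refine Subgroup.eq_of_le_of_card_ge ?_ (Nat.card_congr (T.equivMapOfInjective _ (cj g0).injective).toEquiv).le
    intro s hs
    exact hCT s fun t ht => hcommTg g0 hg0 t ht s hs

end Cfsg.Agent.S0700
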