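import Cfsg.Statements.S0701
import Mathlib

set_option autoImplicit false
open Cfsg

namespace Cfsg.Agent.S0701

---pre
open MulAction

/-- The centraliser in the full symmetric group of a transitive permutation group `G` is semiregular, and it is transitive if and only if `G` is regular. -/
theorem result {α : Type*} (G : Subgroup (Equiv.Perm α)) [MulAction.IsPretransitive G α] : (∀ c ∈ Subgroup.centralizer (G : Set (Equiv.Perm α)), ∀ a : α, c a = a → c = 1) ∧ (MulAction.IsPretransitive (Subgroup.centralizer (G : Set (Equiv.Perm α))) α ↔ ∀ a : α, MulAction.stabilizer G a = ⊥) := by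
  have hcomm : ∀ (c : Equiv.Perm α), c ∈ Subgroup.centralizer (G : Set (Equiv.Perm α)) →
      ∀ (g : G) (x : α), c (g • x) = g • c x := by
    intro c hc g x
    exact (DFunLike.congr_fun (Subgroup.mem_centralizer_iff.1 hc g g.2) x).symm
  refine ⟨fun c hc a ha => Equiv.ext fun x => ?_, ⟨fun htr a => ?_, fun hreg => ⟨fun a b => ?_⟩⟩⟩
  · obtain ⟨g, rfl⟩ := MulAction.exists_smul_eq G a x
    rw [hcomm c hc, ha]; rfl
  · rw [Subgroup.eq_bot_iff_forall]
    intro h hh
    refine Subtype.ext (Equiv.ext fun x => ?_)
    obtain ⟨⟨c, hc⟩, hcx⟩ := MulAction.exists_smul_eq (Subgroup.centralizer (G : Set (Equiv.Perm α))) a x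
    have hcx' : c a = x := hcx
    show h • x = x
    rw [← hcx', ← hcomm c hc, MulAction.mem_stabilizer_iff.1 hh]
  · have hb : ∀ c : α, Function.Bijective (fun g : G => g • c) := fun c =>
      ⟨fun g h e => by
        simp only at e
        have : h⁻¹ * g ∈ stabilizer G c := by
          rw [MulAction.mem_stabilizer_iff, mul_smul, e, inv_smul_smul]
        rw [hreg c, Subgroup.mem_bot, inv_mul_eq_one] at this
        exact this.symm,
      fun x => MulAction.exists_smul_eq G c x⟩
    let e : Equiv.Perm α := (Equiv.ofBijective _ (hb a)).symm.trans (Equiv.ofBijective _ (hb b))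
    have he : ∀ g : G, e (g • a) = g • b := by
      intro g
      show (Equiv.ofBijective _ (hb b)) ((Equiv.ofBijective _ (hb a)).symm (g • a)) = g • b
      rw [show g • a = Equiv.ofBijective _ (hb a) g from rfl, Equiv.symm_apply_apply]
      rfl
    refine ⟨⟨e, Subgroup.mem_centralizer_iff.2 fun g hg => Equiv.ext fun x => ?_⟩, ?_⟩
    · obtain ⟨h, rfl⟩ := MulAction.exists_smul_eq G a x
      show (⟨g, hg⟩ : G) • e (h • a) = e ((⟨g, hg⟩ : G) • h • a)
      rw [← mul_smul, he, he, mul_smul]
    · show e a = b
      simpa using he 1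

end Cfsg.Agent.S0701
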