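import Cfsg.Statements.S0702
import Mathlib

set_option autoImplicit false
open Cfsg

namespace Cfsg.Agent.S0702

---pre
open MulAction

/-- For a transitive permutation group `G` on a finite set, the centraliser of `G` in the symmetric group is isomorphic to `N_G(G_ω)/G_ω`, and its orbit of `ω` is the set of fixed points of `G_ω`. -/
theorem result {α : Type*} [Finite α] (G : Subgroup (Equiv.Perm α)) [MulAction.IsPretransitive G α] (a : α) : Nonempty (Subgroup.centralizer (G : Set (Equiv.Perm α)) ≃* Subgroup.normalizer ((MulAction.stabilizer G a : Subgroup G) : Set G) ⧸ (MulAction.stabilizer G a).subgroupOf (Subgroup.normalizer ((MulAction.stabilizer G a : Subgroup G) : Set G))) ∧ MulAction.orbit (Subgroup.centralizer (G : Set (Equiv.Perm α))) a = MulAction.fixedPoints (MulAction.stabilizer G a) α := by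
  classical
  have hcm : ∀ c ∈ Subgroup.centralizer (G : Set (Equiv.Perm α)), ∀ (g : G) (x : α), c (g • x) = g • c x := by
    intro c hc g x
    exact (DFunLike.congr_fun (Subgroup.mem_centralizer_iff.1 hc g g.2) x).symm
  set Ga := stabilizer G a with hGa
  set Nm := Subgroup.normalizer (Ga : Set G) with hNm
  have hstab : ∀ b ∈ fixedPoints Ga α, stabilizer G b = Ga := by
    intro b hb
    symm
    refine Subgroup.eq_of_le_of_card_ge (fun g hg => hb ⟨g, hg⟩) (le_of_eq ?_)
    obtain ⟨g, rfl⟩ := MulAction.exists_smul_eq G a b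
    rw [stabilizer_smul_eq_stabilizer_map_conj]
    exact (Nat.card_congr (Ga.equivMapOfInjective _ (MulEquiv.injective _)).toEquiv).symm
  have hmk : ∀ b ∈ fixedPoints Ga α, ∃ c ∈ Subgroup.centralizer (G : Set (Equiv.Perm α)), c a = b := by
    intro b hb
    choose r hr using fun x : α => MulAction.exists_smul_eq G a x
    have hwd : ∀ g : G, r (g • a) • b = g • b := by
      intro g
      have h1 : g⁻¹ * r (g • a) ∈ Ga := by rw [hGa, mem_stabilizer_iff, mul_smul, hr, inv_smul_smul]
      rw [← hstab b hb, mem_stabilizer_iff, mul_smul, inv_smul_eq_iff] at h1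
      exact h1
    have hinj : Function.Injective fun x => r x • b := by
      intro x y e
      simp only at e
      have h1 : (r y)⁻¹ * r x ∈ stabilizer G b := by rw [mem_stabilizer_iff, mul_smul, e, inv_smul_smul]
      rw [hstab b hb, hGa, mem_stabilizer_iff, mul_smul, inv_smul_eq_iff, hr, hr] at h1
      exact h1
    refine ⟨Equiv.ofBijective _ (Finite.injective_iff_bijective.1 hinj), ?_, ?_⟩
    · rw [Subgroup.mem_centralizer_iff]
      intro g hg
      refine Equiv.ext fun x => ?_
      obtain ⟨h, rfl⟩ := MulAction.exists_smul_eq G a x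
      show (⟨g, hg⟩ : G) • r (h • a) • b = r ((⟨g, hg⟩ : G) • h • a) • b
      rw [← mul_smul (⟨g, hg⟩ : G) h a, hwd, hwd, mul_smul]
    · show r a • b = b
      have := hwd 1
      rwa [one_smul, one_smul] at this
  have horb : MulAction.orbit (Subgroup.centralizer (G : Set (Equiv.Perm α))) a = fixedPoints Ga α := by
    ext b
    constructor
    · rintro ⟨⟨c, hc⟩, rfl⟩ ⟨g, hg⟩
      show g • c a = c a
      rw [← hcm c hc, mem_stabilizer_iff.1 hg]
    · intro hb
      obtain ⟨c, hc, hca⟩ := hmk b hb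
      exact ⟨⟨c, hc⟩, hca⟩
  refine ⟨?_, horb⟩
  have memN : ∀ n : G, n • a ∈ fixedPoints Ga α ↔ n ∈ Nm := by
    intro n
    rw [hNm, Subgroup.mem_normalizer_iff_map_conj_eq]
    constructor
    · intro h
      have := hstab _ h
      rw [stabilizer_smul_eq_stabilizer_map_conj] at this
      exact this
    · intro h g
      have : (g : G) ∈ stabilizer G (n • a) := by
        rw [stabilizer_smul_eq_stabilizer_map_conj]
        exact h.symm ▸ g.2
      exact this
  have hex : ∀ c : Subgroup.centralizer (G : Set (Equiv.Perm α)), ∃ n : Nm, (n : G)⁻¹ • a = (c : Equiv.Perm α) a := by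
    intro c
    obtain ⟨n, hn⟩ := MulAction.exists_smul_eq G a ((c : Equiv.Perm α) a)
    have hmem : n ∈ Nm := (memN n).1 (by rw [hn, ← horb]; exact ⟨c, rfl⟩)
    exact ⟨⟨n⁻¹, inv_mem hmem⟩, by show n⁻¹⁻¹ • a = _; rw [inv_inv, hn]⟩
  choose φ hφ using hex
  have hq : ∀ x y : Nm, (x : Nm ⧸ Ga.subgroupOf Nm) = y ↔ (x : G)⁻¹ • a = (y : G)⁻¹ • a := by
    intro x y
    rw [QuotientGroup.eq, Subgroup.mem_subgroupOf, hGa, mem_stabilizer_iff]
    show ((x : G)⁻¹ * y) • a = a ↔ _
    constructor
    · intro h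
      have hfix : (y : G)⁻¹ • a ∈ fixedPoints Ga α := (memN _).2 (inv_mem y.2)
      have h1 := hfix ⟨(x : G)⁻¹ * y, h⟩
      have h2 : ((x : G)⁻¹ * y) • (y : G)⁻¹ • a = (y : G)⁻¹ • a := h1
      rwa [mul_smul, smul_inv_smul] at h2
    · intro h
      have hfix : (y : G)⁻¹ • a ∈ fixedPoints Ga α := (memN _).2 (inv_mem y.2)
      have h2 : ((x : G)⁻¹ * y) • (y : G)⁻¹ • a = (y : G)⁻¹ • a := by rw [mul_smul, smul_inv_smul, h]
      have h3 : (x : G)⁻¹ * y ∈ stabilizer G ((y : G)⁻¹ • a) := h2
      rw [hstab _ hfix] at h3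
      exact h3
  refine ⟨MulEquiv.ofBijective (MonoidHom.mk' (fun c => (φ c : Nm ⧸ Ga.subgroupOf Nm)) fun c d => ?_)
    ⟨fun c d e => ?_, fun q => ?_⟩⟩
  · rw [← QuotientGroup.mk_mul, hq, hφ]
    simp only [Subgroup.coe_mul, mul_inv_rev, mul_smul, Equiv.Perm.mul_apply]
    rw [hφ c, ← hφ d]
    exact hcm c c.2 _ a
  · have h1 : (c : Equiv.Perm α) a = (d : Equiv.Perm α) a := by rw [← hφ c, ← hφ d]; exact (hq _ _).1 e
    refine Subtype.ext (Equiv.ext fun x => ?_)
    obtain ⟨g, rfl⟩ := MulAction.exists_smul_eq G a x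
    rw [hcm c c.2, hcm d d.2, h1]
  · induction q using QuotientGroup.induction_on with | _ n =>
    obtain ⟨c, hc, hca⟩ := hmk _ ((memN _).2 (inv_mem n.2))
    exact ⟨⟨c, hc⟩, (hq _ _).2 (by rw [hφ]; exact hca)⟩

end Cfsg.Agent.S0702
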