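import Cfsg.Statements.S0703
import Mathlib

set_option autoImplicit false
open Cfsg

namespace Cfsg.Agent.S0703

---pre
open MulAction

/-- An abelian transitive minimal normal subgroup `M` of a permutation group on a finite set is self-centralising in the symmetric group, regular, elementary abelian, and is the unique minimal normal subgroup. -/
theorem result {α : Type*} [Finite α] (G : Subgroup (Equiv.Perm α)) (M : Subgroup G) [M.Normal] (hM : M ≠ ⊥) (hmin : ∀ L : Subgroup G, L.Normal → L ≤ M → L = ⊥ ∨ L = M) (hab : IsMulCommutative M) (htrans : MulAction.IsPretransitive M α) : Subgroup.centralizer ((M.map G.subtype : Subgroup (Equiv.Perm α)) : Set (Equiv.Perm α)) = M.map G.subtype ∧ (∀ a : α, MulAction.stabilizer M a = ⊥) ∧ (∃ p : ℕ, p.Prime ∧ ∀ m ∈ M, m ^ p = 1) ∧ ∀ L : Subgroup G, L.Normal → L ≠ ⊥ → (∀ L' : Subgroup G, L'.Normal → L' ≤ L → L' = ⊥ ∨ L' = L) → L = M := by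
  obtain ⟨⟨m0, hm0⟩, hm01⟩ := (Subgroup.ne_bot_iff_exists_ne_one).1 hM
  have hne : Nonempty α := by
    by_contra h
    rw [not_nonempty_iff] at h
    exact hm01 (Subtype.ext (Subtype.ext (Equiv.ext fun x => isEmptyElim x)))
  obtain ⟨a⟩ := hne
  have hcm : ∀ m n : M, m * n = n * m := hab.is_comm.comm
  have hfix : ∀ (m : M) (b : α), m • b = b → m = 1 := by
    intro m b hb
    refine Subtype.ext (Subtype.ext (Equiv.ext fun x => ?_))
    obtain ⟨n, rfl⟩ := MulAction.exists_smul_eq M b x
    show m • n • b = n • b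
    rw [← mul_smul, hcm, mul_smul, hb]
  have hcent : Subgroup.centralizer ((M.map G.subtype : Subgroup (Equiv.Perm α)) : Set (Equiv.Perm α)) = M.map G.subtype := by
    refine le_antisymm (fun c hc => ?_) ?_
    · obtain ⟨m, hm⟩ := MulAction.exists_smul_eq M a (c a)
      refine ⟨m, m.2, Equiv.ext fun x => ?_⟩
      obtain ⟨n, rfl⟩ := MulAction.exists_smul_eq M a x
      have h1 := DFunLike.congr_fun (Subgroup.mem_centralizer_iff.1 hc _ ⟨(n : G), n.2, rfl⟩) a
      show m • n • a = c ((n : G) • a)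
      rw [← mul_smul, hcm, mul_smul, hm]
      exact h1
    · rintro _ ⟨x, hx, rfl⟩
      rw [Subgroup.mem_centralizer_iff]
      rintro _ ⟨y, hy, rfl⟩
      exact congrArg (fun z : M => ((z : G) : Equiv.Perm α)) (hcm ⟨y, hy⟩ ⟨x, hx⟩)
  refine ⟨hcent, fun b => (Subgroup.eq_bot_iff_forall _).2 fun m hm => hfix m b hm, ?_, ?_⟩
  · have : Nontrivial M := ⟨⟨⟨m0, hm0⟩, 1, hm01⟩⟩
    obtain ⟨p, hp, hd⟩ := Nat.exists_prime_and_dvd (n := Nat.card M) (Finite.one_lt_card (α := M)).ne'
    have := Fact.mk hp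
    obtain ⟨z, hz⟩ := exists_prime_orderOf_dvd_card' (G := M) p hd
    let A : Subgroup G :=
      { carrier := {x | x ∈ M ∧ x ^ p = 1}
        one_mem' := ⟨one_mem M, one_pow p⟩
        mul_mem' := fun {x y} hx hy => ⟨mul_mem hx.1 hy.1, by
          rw [(show Commute x y from congrArg Subtype.val (hcm ⟨x, hx.1⟩ ⟨y, hy.1⟩)).mul_pow, hx.2, hy.2, one_mul]⟩
        inv_mem' := fun {x} hx => ⟨inv_mem hx.1, by rw [inv_pow, hx.2, inv_one]⟩ }
    have hAn : A.Normal := ⟨fun x hx g => ⟨(inferInstance : M.Normal).conj_mem x hx.1 g, by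
      rw [conj_pow, hx.2, mul_one, mul_inv_cancel]⟩⟩
    rcases hmin A hAn (fun x hx => hx.1) with h | h
    · have hzA : (z : G) ∈ A := ⟨z.2, by rw [← hz, ← Subgroup.coe_pow, pow_orderOf_eq_one, Subgroup.coe_one]⟩
      rw [h, Subgroup.mem_bot] at hzA
      rw [show z = 1 from Subtype.ext hzA, orderOf_one] at hz
      exact absurd hz hp.one_lt.ne
    · refine ⟨p, hp, fun m hm => ?_⟩
      have : m ∈ A := h.symm ▸ hm
      exact this.2
  · intro L hLn hL hLmin
    by_contra hne'
    have hint : L ⊓ M = ⊥ := by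
      rcases hLmin (L ⊓ M) inferInstance inf_le_left with h | h
      · exact h
      · rcases hmin L hLn (h ▸ inf_le_right) with h' | h'
        · exact absurd h' hL
        · exact absurd h' hne'
    have hLC : L.map G.subtype ≤ M.map G.subtype := by
      rw [← hcent]
      rintro _ ⟨l, hl, rfl⟩
      rw [Subgroup.mem_centralizer_iff]
      rintro _ ⟨y, hy, rfl⟩
      exact congrArg G.subtype (Subgroup.commute_of_normal_of_disjoint M L inferInstance hLn
        (disjoint_iff.2 (inf_comm L M ▸ hint)) y l hy hl).eq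
    have hLM := (Subgroup.map_subtype_le_map_subtype).1 hLC
    exact hL (by rw [← hint]; exact (inf_eq_left.2 hLM).symm)

end Cfsg.Agent.S0703
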