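import Cfsg.Statements.S0704
import Mathlib

set_option autoImplicit false
open Cfsg

namespace Cfsg.Agent.S0704

---pre
open MulAction

/-- Two distinct transitive minimal normal subgroups `M`, `N` of a permutation group are regular, non-abelian, isomorphic, each other's centraliser in the symmetric group, and the only minimal normal subgroups. -/
theorem result {α : Type*} (G : Subgroup (Equiv.Perm α)) (M N : Subgroup G) [M.Normal] [N.Normal] (hM : M ≠ ⊥) (hN : N ≠ ⊥) (hMmin : ∀ L : Subgroup G, L.Normal → L ≤ M → L = ⊥ ∨ L = M) (hNmin : ∀ L : Subgroup G, L.Normal → L ≤ N → L = ⊥ ∨ L = N) (hMN : M ≠ N) (hMt : MulAction.IsPretransitive M α) (hNt : MulAction.IsPretransitive N α) : (∀ a : α, MulAction.stabilizer M a = ⊥) ∧ (∀ a : α, MulAction.stabilizer N a = ⊥) ∧ ¬ IsMulCommutative M ∧ Nonempty (M ≃* N) ∧ Subgroup.centralizer ((M.map G.subtype : Subgroup (Equiv.Perm α)) : Set (Equiv.Perm α)) = N.map G.subtype ∧ Subgroup.centralizer ((N.map G.subtype : Subgroup (Equiv.Perm α)) : Set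 (Equiv.Perm α)) = M.map G.subtype ∧ ∀ L : Subgroup G, L.Normal → L ≠ ⊥ → (∀ L' : Subgroup G, L'.Normal → L' ≤ L → L' = ⊥ ∨ L' = L) → L = M ∨ L = N := by
  obtain ⟨⟨m0, hm0⟩, hm01⟩ := (Subgroup.ne_bot_iff_exists_ne_one).1 hM
  have hne : Nonempty α := by
    by_contra h
    rw [not_nonempty_iff] at h
    exact hm01 (Subtype.ext (Subtype.ext (Equiv.ext fun x => isEmptyElim x)))
  obtain ⟨a⟩ := hne
  have hint : M ⊓ N = ⊥ := by
    rcases hMmin (M ⊓ N) inferInstance inf_le_left with h | h
    · exact h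
    · rcases hNmin M inferInstance (h ▸ inf_le_right) with h' | h'
      · exact absurd h' hM
      · exact absurd h' hMN
  have hcomm : ∀ (m : M) (n : N), (m : G) * n = n * m := fun m n =>
    (Subgroup.commute_of_normal_of_disjoint M N inferInstance inferInstance (disjoint_iff.2 hint) m n m.2 n.2).eq
  have hfixM : ∀ (m : M) (b : α), m • b = b → m = 1 := by
    intro m b hb
    refine Subtype.ext (Subtype.ext (Equiv.ext fun x => ?_))
    obtain ⟨n, rfl⟩ := MulAction.exists_smul_eq N b x
    show (m : G) • (n : G) • b = (n : G) • b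
    rw [← mul_smul, hcomm, mul_smul]
    exact congrArg _ hb
  have hfixN : ∀ (n : N) (b : α), n • b = b → n = 1 := by
    intro n b hb
    refine Subtype.ext (Subtype.ext (Equiv.ext fun x => ?_))
    obtain ⟨m, rfl⟩ := MulAction.exists_smul_eq M b x
    show (n : G) • (m : G) • b = (m : G) • b
    rw [← mul_smul, ← hcomm, mul_smul]
    exact congrArg _ hb
  have hcentM : Subgroup.centralizer ((M.map G.subtype : Subgroup (Equiv.Perm α)) : Set (Equiv.Perm α)) = N.map G.subtype := by
    refine le_antisymm (fun c hc => ?_) ?_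
    · obtain ⟨n, hn⟩ := MulAction.exists_smul_eq N a (c a)
      refine ⟨n, n.2, Equiv.ext fun x => ?_⟩
      obtain ⟨m, rfl⟩ := MulAction.exists_smul_eq M a x
      have h1 := DFunLike.congr_fun (Subgroup.mem_centralizer_iff.1 hc _ ⟨(m : G), m.2, rfl⟩) a
      show (n : G) • (m : G) • a = c ((m : G) • a)
      rw [← mul_smul, ← hcomm, mul_smul, show (n : G) • a = c a from hn]
      exact h1
    · rintro _ ⟨y, hy, rfl⟩
      rw [Subgroup.mem_centralizer_iff]
      rintro _ ⟨x, hx, rfl⟩
      exact congrArg G.subtype (hcomm ⟨x, hx⟩ ⟨y, hy⟩)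
  have hcentN : Subgroup.centralizer ((N.map G.subtype : Subgroup (Equiv.Perm α)) : Set (Equiv.Perm α)) = M.map G.subtype := by
    refine le_antisymm (fun c hc => ?_) ?_
    · obtain ⟨m, hm⟩ := MulAction.exists_smul_eq M a (c a)
      refine ⟨m, m.2, Equiv.ext fun x => ?_⟩
      obtain ⟨n, rfl⟩ := MulAction.exists_smul_eq N a x
      have h1 := DFunLike.congr_fun (Subgroup.mem_centralizer_iff.1 hc _ ⟨(n : G), n.2, rfl⟩) a
      show (m : G) • (n : G) • a = c ((n : G) • a)
      rw [← mul_smul, hcomm, mul_smul, show (m : G) • a = c a from hm]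
      exact h1
    · rintro _ ⟨x, hx, rfl⟩
      rw [Subgroup.mem_centralizer_iff]
      rintro _ ⟨y, hy, rfl⟩
      exact congrArg G.subtype (hcomm ⟨x, hx⟩ ⟨y, hy⟩).symm
  have hiso : Nonempty (M ≃* N) := by
    have hex : ∀ m : M, ∃ n : N, n • a = m⁻¹ • a := fun m => MulAction.exists_smul_eq N a _
    choose φ hφ using hex
    have hu : ∀ n n' : N, n • a = n' • a → n = n' := fun n n' e => by
      have := hfixN (n'⁻¹ * n) a (by rw [mul_smul, e, inv_smul_smul])
      exact (inv_mul_eq_one.1 this).symm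
    refine ⟨MulEquiv.ofBijective (MonoidHom.mk' φ fun m1 m2 => hu _ _ ?_) ⟨fun m1 m2 e => ?_, fun n => ?_⟩⟩
    · rw [hφ, mul_smul (φ m1), hφ, mul_inv_rev, mul_smul]
      show m2⁻¹ • m1⁻¹ • a = (φ m1 : G) • ((m2⁻¹ : M) : G) • a
      rw [← mul_smul (φ m1 : G), ← hcomm, mul_smul, show (φ m1 : G) • a = m1⁻¹ • a from hφ m1]
      rfl
    · have h1 : φ m1 = φ m2 := e
      have h2 : m1⁻¹ • a = m2⁻¹ • a := by rw [← hφ, ← hφ, h1]
      have := hfixM (m2 * m1⁻¹) a (by rw [mul_smul, h2, smul_inv_smul])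
      exact (mul_inv_eq_one.1 this).symm
    · obtain ⟨m, hm⟩ := MulAction.exists_smul_eq M a (n • a)
      refine ⟨m⁻¹, hu _ _ ?_⟩
      show φ m⁻¹ • a = n • a
      rw [hφ, inv_inv, hm]
  refine ⟨fun b => (Subgroup.eq_bot_iff_forall _).2 fun m hm => hfixM m b hm,
    fun b => (Subgroup.eq_bot_iff_forall _).2 fun n hn => hfixN n b hn, ?_, hiso, hcentM, hcentN, ?_⟩
  · intro hab
    have hle : M.map G.subtype ≤ N.map G.subtype := by
      rw [← hcentM]
      rintro _ ⟨x, hx, rfl⟩
      rw [Subgroup.mem_centralizer_iff]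
      rintro _ ⟨y, hy, rfl⟩
      exact congrArg (fun z : M => ((z : G) : Equiv.Perm α)) (hab.is_comm.comm ⟨y, hy⟩ ⟨x, hx⟩)
    have hle' := (Subgroup.map_subtype_le_map_subtype).1 hle
    exact hM (by rw [← hint]; exact (inf_eq_left.2 hle').symm)
  · intro L hLn hL hLmin
    by_contra hne'
    push Not at hne'
    have hintL : M ⊓ L = ⊥ := by
      rcases hMmin (M ⊓ L) inferInstance inf_le_left with h | h
      · exact h
      · rcases hLmin M inferInstance (h ▸ inf_le_right) with h' | h'
        · exact absurd h' hM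
        · exact absurd h'.symm hne'.1
    have hle : L.map G.subtype ≤ N.map G.subtype := by
      rw [← hcentM]
      rintro _ ⟨l, hl, rfl⟩
      rw [Subgroup.mem_centralizer_iff]
      rintro _ ⟨y, hy, rfl⟩
      exact congrArg G.subtype (Subgroup.commute_of_normal_of_disjoint M L inferInstance hLn
        (disjoint_iff.2 hintL) y l hy hl).eq
    rcases hNmin L hLn ((Subgroup.map_subtype_le_map_subtype).1 hle) with h | h
    · exact hL h
    · exact hne'.2 h

end Cfsg.Agent.S0704
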