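import Cfsg.Statements.S0705
import Mathlib
import Cfsg.Agent.Lib.Perm.Multi

set_option autoImplicit false
open scoped Pointwise
open Cfsg

namespace Cfsg.Agent.S0705

---pre
open MulAction Cfsg.Agent.Perm

/-- A generously `k`-transitive permutation group (every `(k+1)`-subset has its full symmetric group induced by the setwise stabiliser) of degree greater than `k` is `k`-transitive, and for a `k`-subset the setwise and pointwise stabilisers have the same orbits outside it. -/
theorem result {α : Type*} [Fintype α] [DecidableEq α] (G : Subgroup (Equiv.Perm α)) {k : ℕ} (hk : k < Fintype.card α) (hgen : ∀ s : Finset α, s.card = k + 1 → ∀ σ : Equiv.Perm ↥s, ∃ g ∈ G, ∀ x : ↥s, g (x : α) = σ x) : MulAction.IsMultiplyPretransitive G α k ∧ ∀ s : Finset α, s.card = k → ∀ a b : α, a ∉ s → b ∉ s → (∃ g ∈ G, g • s = s ∧ g a = b) → ∃ g ∈ G, (∀ x ∈ s, g x = x) ∧ g a = b := by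
  refine ⟨isMultiplyPretransitive_of_fixTrans fun s hs a b ha hb => ?_, ?_⟩
  · by_cases hab : a = b
    · exact ⟨1, fun x _ => one_smul G x, by rw [hab, one_smul]⟩
    · have hc : (insert a (insert b s)).card ≤ k + 1 := by
        have h1 := Finset.card_insert_le a (insert b s)
        have h2 := Finset.card_insert_le b s
        omega
      obtain ⟨u, hu, -, huc⟩ := Finset.exists_subsuperset_card_eq (n := k + 1)
        (Finset.subset_univ (insert a (insert b s))) hc (by rw [Finset.card_univ]; omega)
      have hau : a ∈ u := hu (Finset.mem_insert_self _ _)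
      have hbu : b ∈ u := hu (Finset.mem_insert_of_mem (Finset.mem_insert_self _ _))
      obtain ⟨g, hg, hgσ⟩ := hgen u huc (Equiv.swap ⟨a, hau⟩ ⟨b, hbu⟩)
      refine ⟨⟨g, hg⟩, fun x hx => ?_, ?_⟩
      · have hxu : x ∈ u := hu (Finset.mem_insert_of_mem (Finset.mem_insert_of_mem hx))
        show g x = x
        rw [hgσ ⟨x, hxu⟩, Equiv.swap_apply_of_ne_of_ne]
        · intro e; obtain rfl : x = a := congrArg Subtype.val e; exact ha hx
        · intro e; obtain rfl : x = b := congrArg Subtype.val e; exact hb hx
      · show g a = b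
        rw [hgσ ⟨a, hau⟩, Equiv.swap_apply_left]
  · rintro s hs a b ha hb ⟨g, hg, hgs, hga⟩
    have hgmem : ∀ x ∈ s, g x ∈ s := fun x hx => by
      rw [← hgs]; exact Finset.smul_mem_smul_finset hx
    let π : Equiv.Perm ↥(insert a s) := Equiv.ofBijective
      (fun x => if hx : (x : α) = a then x else
        ⟨g x, Finset.mem_insert_of_mem (hgmem _ ((Finset.mem_insert.1 x.2).resolve_left hx))⟩)
      (Finite.injective_iff_bijective.1 (by
        intro x y e
        have hxs : ∀ z : ↥(insert a s), (z : α) ≠ a → g z ≠ a := fun z hz e =>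
          ha (e ▸ hgmem _ ((Finset.mem_insert.1 z.2).resolve_left hz))
        by_cases hx : (x : α) = a <;> by_cases hy : (y : α) = a <;>
          simp only [hx, hy, dite_true, dite_false, ↓reduceDIte] at e
        · exact e
        · exact absurd ((congrArg Subtype.val e).symm.trans hx) (hxs y hy)
        · exact absurd ((congrArg Subtype.val e).trans hy) (hxs x hx)
        · exact Subtype.ext (g.injective (congrArg Subtype.val e))))
    obtain ⟨h, hh, hhπ⟩ := hgen (insert a s) (by rw [Finset.card_insert_of_notMem ha, hs]) π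
    refine ⟨g * h⁻¹, mul_mem hg (inv_mem hh), fun x hx => ?_, ?_⟩
    · obtain ⟨y, hy, rfl⟩ : ∃ y ∈ s, g y = x := by
        rw [← hgs] at hx
        obtain ⟨y, hy, rfl⟩ := Finset.mem_smul_finset.1 hx
        exact ⟨y, hy, rfl⟩
      have h1 := hhπ ⟨y, Finset.mem_insert_of_mem hy⟩
      have hya : y ≠ a := fun e => ha (e ▸ hy)
      simp only [π, Equiv.ofBijective_apply, dif_neg hya] at h1
      show g (h⁻¹ (g y)) = g y
      rw [show h⁻¹ (g y) = y from (Equiv.symm_apply_eq h).2 h1.symm]
    · have h1 := hhπ ⟨a, Finset.mem_insert_self a s⟩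
      simp only [π, Equiv.ofBijective_apply, ↓reduceDIte] at h1
      rw [Equiv.Perm.mul_apply]
      conv_lhs => rw [← h1, ← Equiv.Perm.mul_apply, ← Equiv.Perm.mul_apply, mul_assoc, inv_mul_cancel, mul_one]
      exact hga

end Cfsg.Agent.S0705
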