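import Cfsg.Statements.S0706
import Mathlib.GroupTheory.Sylow
import Mathlib.GroupTheory.Perm.Cycle.Type
import Mathlib.GroupTheory.Perm.ViaEmbedding
import Mathlib.GroupTheory.Perm.Fin

set_option autoImplicit false
open Cfsg

namespace Cfsg.Agent.S0706

/-- In a generously `k`-transitive permutation group, for a prime `p ≤ k` and a `k`-set `Γ`, there are no `p` points outside `Γ` lying in distinct orbits of the pointwise stabiliser of `Γ` all of length prime to `p` (at most `p - 1` such orbits). -/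
theorem result {α : Type*} [Fintype α] [DecidableEq α] (G : Subgroup (Equiv.Perm α)) {k : ℕ} (hk : k < Fintype.card α) (hgen : ∀ s : Finset α, s.card = k + 1 → ∀ σ : Equiv.Perm ↥s, ∃ g ∈ G, ∀ x : ↥s, g (x : α) = σ x) {p : ℕ} (hp : p.Prime) (hpk : p ≤ k) (Γ : Finset α) (hΓ : Γ.card = k) (f : Fin p → α) (hf : ∀ i, f i ∉ Γ) (hdist : ∀ i j, i ≠ j → f j ∉ MulAction.orbit (fixingSubgroup G (Γ : Set α)) (f i)) : ∃ i, p ∣ Nat.card (MulAction.orbit (fixingSubgroup G (Γ : Set α)) (f i)) := by
  classical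
  haveI := Fact.mk hp
  by_contra hno
  simp only [not_exists] at hno
  set H := fixingSubgroup G (Γ : Set α) with hH
  have memH : ∀ (A : Finset α) (g : G), g ∈ fixingSubgroup G (A : Set α) ↔ ∀ z ∈ A, (g : Equiv.Perm α) z = z := by
    intro A g
    rw [mem_fixingSubgroup_iff]
    rfl
  -- `G` moves `k`-sets around
  have hmove : ∀ (m : ℕ) (A : Finset α), A.card = k → (A \ Γ).card ≤ m →
      ∃ g : G, ∀ z, z ∈ A ↔ ((g⁻¹ : G) : Equiv.Perm α) z ∈ Γ := by
    intro m
    induction m with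
    | zero =>
      intro A hA hm
      have hAΓ : A = Γ := Finset.eq_of_subset_of_card_le
        (Finset.sdiff_eq_empty_iff_subset.1 (Finset.card_eq_zero.1 (Nat.le_zero.1 hm))) (by omega)
      exact ⟨1, fun z => by simp [hAΓ]⟩
    | succ m ih =>
      intro A hA hm
      rcases Finset.eq_empty_or_nonempty (A \ Γ) with h0 | ⟨a, ha⟩
      · exact ih A hA (by simp [h0])
      obtain ⟨b, hb⟩ : (Γ \ A).Nonempty := by
        rw [← Finset.card_pos]
        have := Finset.card_sdiff_add_card_inter A Γ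
        have := Finset.card_sdiff_add_card_inter Γ A
        have := Finset.card_pos.2 ⟨a, ha⟩
        rw [Finset.inter_comm Γ A] at *
        omega
      rw [Finset.mem_sdiff] at ha hb
      set B := insert b (A.erase a) with hB
      have hbA : b ∉ A.erase a := fun h => hb.2 (Finset.mem_of_mem_erase h)
      have hBc : B.card = k := by
        rw [hB, Finset.card_insert_of_notMem hbA, Finset.card_erase_of_mem ha.1]
        have := Finset.card_pos.2 ⟨a, ha.1⟩
        omega
      have hBm : (B \ Γ).card ≤ m := by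
        have : B \ Γ ⊆ (A \ Γ).erase a := by
          intro z hz
          simp only [hB, Finset.mem_sdiff, Finset.mem_insert, Finset.mem_erase] at hz ⊢
          rcases hz with ⟨rfl | h, h2⟩
          · exact absurd hb.1 h2
          · exact ⟨h.1, h.2, h2⟩
        refine (Finset.card_le_card this).trans ?_
        rw [Finset.card_erase_of_mem (Finset.mem_sdiff.2 ha)]
        omega
      obtain ⟨g, hg⟩ := ih B hBc hBm
      have hab : a ≠ b := fun e => hb.2 (e ▸ ha.1)
      set s := insert b A with hs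
      let σ : Equiv.Perm ↥s := Equiv.swap ⟨a, Finset.mem_insert_of_mem ha.1⟩ ⟨b, Finset.mem_insert_self b A⟩
      obtain ⟨t, ht, htx⟩ := hgen s (by rw [hs, Finset.card_insert_of_notMem hb.2, hA]) σ
      -- `t` exchanges `A` and `B`
      have ht1 : ∀ z ∈ B, t z ∈ A := by
        intro z hz
        have hzs : z ∈ s := by
          simp only [hB, hs, Finset.mem_insert, Finset.mem_erase] at hz ⊢
          tauto
        rw [show t z = (σ ⟨z, hzs⟩ : α) from htx ⟨z, hzs⟩]
        rcases Finset.mem_insert.1 hz with rfl | hz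
        · simp only [σ, Equiv.swap_apply_right]; exact ha.1
        · obtain ⟨hza, hzA⟩ := Finset.mem_erase.1 hz
          rw [show σ ⟨z, hzs⟩ = ⟨z, hzs⟩ from Equiv.swap_apply_of_ne_of_ne (fun e => hza (congrArg Subtype.val e))
            (fun e => hb.2 ((show z = b from congrArg Subtype.val e) ▸ hzA))]
          exact hzA
      have himg : B.image t = A := Finset.eq_of_subset_of_card_le
        (fun z hz => by obtain ⟨w, hw, rfl⟩ := Finset.mem_image.1 hz; exact ht1 w hw)
        (by rw [Finset.card_image_of_injective _ t.injective, hBc, hA])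
      refine ⟨⟨t, ht⟩ * g, fun z => ?_⟩
      rw [mul_inv_rev, Subgroup.coe_mul, Equiv.Perm.mul_apply, ← hg, ← himg, Finset.mem_image]
      constructor
      · rintro ⟨w, hw, rfl⟩
        rw [show (((⟨t, ht⟩ : G)⁻¹ : G) : Equiv.Perm α) (t w) = w from t.symm_apply_apply w]
        exact hw
      · intro h
        exact ⟨_, h, t.apply_symm_apply z⟩
  have hcard : ∀ A : Finset α, A.card = k →
      Nat.card (fixingSubgroup G (A : Set α)) = Nat.card H := by
    intro A hA
    obtain ⟨g, hg⟩ := hmove _ A hA le_rfl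
    refine (Nat.card_congr (Subgroup.equivMapOfInjective H (MulAut.conj g).toMonoidHom
      (MulAut.conj g).injective).toEquiv).trans (congrArg (fun K : Subgroup G => Nat.card K) ?_) |>.symm
    ext x
    rw [Subgroup.mem_map, memH]
    constructor
    · rintro ⟨y, hy, rfl⟩ z hz
      rw [hH, memH] at hy
      show (g : Equiv.Perm α) ((y : Equiv.Perm α) (((g⁻¹ : G) : Equiv.Perm α) z)) = z
      rw [hy _ ((hg z).1 hz)]
      exact (g : Equiv.Perm α).apply_symm_apply z
    · intro hx
      refine ⟨g⁻¹ * x * g, ?_, by simp [mul_assoc]⟩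
      rw [hH, memH]
      intro z hz
      have h2 : (g : Equiv.Perm α) z ∈ A := by
        rw [hg]
        rwa [show ((g⁻¹ : G) : Equiv.Perm α) ((g : Equiv.Perm α) z) = z from (g : Equiv.Perm α).symm_apply_apply z]
      show ((g⁻¹ : G) : Equiv.Perm α) ((x : Equiv.Perm α) ((g : Equiv.Perm α) z)) = z
      rw [hx _ h2]
      exact (g : Equiv.Perm α).symm_apply_apply z
  -- a Sylow subgroup of `H` and a good element of its normaliser
  obtain ⟨Q⟩ : Nonempty (Sylow p H) := inferInstance
  set Qg := (Q : Subgroup H).map H.subtype with hQg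
  have hQH : Qg ≤ H := Subgroup.map_subtype_le _
  obtain ⟨T, hTΓ, hTc⟩ := Finset.exists_subset_card_eq (s := Γ) (n := p) (by omega)
  let e : Fin p ↪ α := (T.equivFinOfCardEq hTc).symm.toEmbedding.trans (Function.Embedding.subtype _)
  set τ : Equiv.Perm α := (finRotate p).viaEmbedding e with hτ
  have heT : ∀ i, e i ∈ T := fun i => ((T.equivFinOfCardEq hTc).symm i).2
  have hTe : ∀ z ∈ T, ∃ i, e i = z := fun z hz => ⟨T.equivFinOfCardEq hTc ⟨z, hz⟩, by simp [e]⟩
  have hτout : ∀ z, z ∉ T → τ z = z := fun z hz =>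
    Equiv.Perm.viaEmbedding_apply_of_notMem _ _ z (fun ⟨i, hi⟩ => hz (hi ▸ heT i))
  have hτT : ∀ z ∈ T, τ z ∈ T := fun z hz => by
    obtain ⟨i, rfl⟩ := hTe z hz
    rw [hτ, Equiv.Perm.viaEmbedding_apply]; exact heT _
  have hτΓ : ∀ z, z ∈ Γ → τ z ∈ Γ := fun z hz => by
    by_cases h : z ∈ T
    · exact hTΓ (hτT z h)
    · rw [hτout z h]; exact hz
  have hext : ∀ x, x ∉ Γ → ∃ g : G, (g : Equiv.Perm α) x = x ∧ ∀ z ∈ Γ, (g : Equiv.Perm α) z = τ z := by
    intro x hx
    have hs : ∀ z, τ z ∈ insert x Γ ↔ z ∈ insert x Γ := by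
      have h1 : ∀ z ∈ insert x Γ, τ z ∈ insert x Γ := by
        intro z hz
        rcases Finset.mem_insert.1 hz with rfl | hz
        · rw [hτout z (fun h => hx (hTΓ h))]; exact Finset.mem_insert_self _ _
        · exact Finset.mem_insert_of_mem (hτΓ z hz)
      intro z
      refine ⟨fun h => ?_, h1 z⟩
      obtain ⟨w, hw, hwz⟩ := Finset.surj_on_of_inj_on_of_card_le (fun w (_ : w ∈ insert x Γ) => τ w)
        h1 (fun a b _ _ h => τ.injective h) le_rfl (τ z) h
      rw [τ.injective hwz]; exact hw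
    obtain ⟨g, hg, hgx⟩ := hgen (insert x Γ) (by rw [Finset.card_insert_of_notMem hx, hΓ]) (τ.subtypePerm hs)
    refine ⟨⟨g, hg⟩, ?_, fun z hz => hgx ⟨z, Finset.mem_insert_of_mem hz⟩⟩
    exact (hgx ⟨x, Finset.mem_insert_self _ _⟩).trans (hτout x (fun h => hx (hTΓ h)))
  obtain ⟨h0, -, hh0⟩ := hext (f ⟨0, hp.pos⟩) (hf _)
  -- elements inducing `τ` normalise `H`
  have hτinv : ∀ z ∈ Γ, ∃ w ∈ Γ, τ w = z := fun z hz => by
    obtain ⟨w, hw, hwz⟩ := Finset.surj_on_of_inj_on_of_card_le (fun w (_ : w ∈ Γ) => τ w)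
      hτΓ (fun a b _ _ h => τ.injective h) le_rfl z hz
    exact ⟨w, hw, hwz.symm⟩
  have hnormH : ∀ g : G, (∀ z ∈ Γ, (g : Equiv.Perm α) z = τ z) → ∀ y ∈ H, g * y * g⁻¹ ∈ H := by
    intro g hg y hy
    rw [hH, memH] at hy ⊢
    intro z hz
    obtain ⟨w, hw, rfl⟩ := hτinv z hz
    rw [← hg w hw]
    show (g : Equiv.Perm α) ((y : Equiv.Perm α) ((g : Equiv.Perm α).symm ((g : Equiv.Perm α) w))) = _
    rw [Equiv.symm_apply_apply, hy w hw]
  obtain ⟨h, hhτ, hhQ⟩ : ∃ h : G, (∀ z ∈ Γ, (h : Equiv.Perm α) z = τ z) ∧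
      h ∈ Subgroup.normalizer (Qg : Set G) := by
    have hle : Qg.map (MulAut.conj h0).toMonoidHom ≤ H := by
      rintro _ ⟨y, hy, rfl⟩; exact hnormH h0 hh0 y (hQH hy)
    set Q' := (Qg.map (MulAut.conj h0).toMonoidHom).subgroupOf H with hQ'
    have hQ'c : Nat.card Q' = Nat.card (Q : Subgroup H) := by
      rw [hQ', Nat.card_congr (Subgroup.subgroupOfEquivOfLe hle).toEquiv,
        ← Nat.card_congr (Subgroup.equivMapOfInjective Qg _ (MulAut.conj h0).injective).toEquiv,
        ← Nat.card_congr (Subgroup.equivMapOfInjective (Q : Subgroup H) _ H.subtype_injective).toEquiv]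
    let Q'' : Sylow p H := Sylow.ofCard Q' (by rw [hQ'c, Q.card_eq_multiplicity])
    obtain ⟨c, hc⟩ := MulAction.exists_smul_eq H Q'' Q
    refine ⟨(c : G) * h0, fun z hz => ?_, ?_⟩
    · have := (memH Γ (c : G)).1 c.2
      rw [Subgroup.coe_mul, Equiv.Perm.mul_apply, hh0 z hz]
      exact this _ (hτΓ z hz)
    · have hmap : ((Q'' : Subgroup H).map (MulAut.conj c).toMonoidHom) = (Q : Subgroup H) := by
        rw [← hc]; rfl
      rw [Subgroup.mem_normalizer_iff_map_conj_eq]
      conv_rhs => rw [hQg, ← hmap, Subgroup.map_map]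
      have e1 : (Q'' : Subgroup H).map H.subtype = Qg.map (MulAut.conj h0).toMonoidHom := by
        rw [Sylow.coe_ofCard, hQ', Subgroup.subgroupOf_map_subtype, inf_eq_left.2 hle]
      rw [show H.subtype.comp (MulAut.conj c).toMonoidHom = (MulAut.conj (c : G)).toMonoidHom.comp H.subtype by
        ext; simp, ← Subgroup.map_map, e1, Subgroup.map_map]
      rw [hQg, Subgroup.map_map, Subgroup.map_map]
      refine congrArg (fun φ : H →* G => (Q : Subgroup H).map φ) (MonoidHom.ext fun z => ?_)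
      simp [mul_assoc]
  -- its `p`-part
  obtain ⟨a, m, hpm, hord⟩ := Nat.exists_eq_pow_mul_and_not_dvd (orderOf_pos h).ne' p hp.ne_one
  set g := h ^ m with hg
  have hgp : g ^ p ^ a = 1 := by rw [hg, ← pow_mul, mul_comm, ← hord, pow_orderOf_eq_one]
  have hgτ : ∀ (j : ℕ), ∀ z ∈ Γ, ((h ^ j : G) : Equiv.Perm α) z = (τ ^ j) z ∧ (τ ^ j) z ∈ Γ := by
    intro j
    induction j with
    | zero => intro z hz; simp [hz]
    | succ j ih =>
      intro z hz
      rw [pow_succ' h, pow_succ' τ, Subgroup.coe_mul, Equiv.Perm.mul_apply, Equiv.Perm.mul_apply, (ih z hz).1,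
        hhτ _ (ih z hz).2]
      exact ⟨rfl, hτΓ _ (ih z hz).2⟩
  have hgQ : g ∈ Subgroup.normalizer (Qg : Set G) := pow_mem hhQ m
  -- fixed points in every orbit
  have horb : ∀ i, ∃ y, y ∈ MulAction.orbit H (f i) ∧ (g : Equiv.Perm α) y = y ∧
      ∀ q ∈ Qg, (q : Equiv.Perm α) y = y := by
    intro i
    obtain ⟨hi, hi1, hi2⟩ := hext (f i) (hf i)
    have hpres : ∀ y ∈ MulAction.orbit H (f i), (h : Equiv.Perm α) y ∈ MulAction.orbit H (f i) := by
      rintro _ ⟨k', rfl⟩
      have hd : h * hi⁻¹ ∈ H := by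
        rw [hH, memH]
        intro z hz
        obtain ⟨w, hw, rfl⟩ := hτinv z hz
        rw [← hi2 w hw]
        show (h : Equiv.Perm α) ((hi : Equiv.Perm α).symm ((hi : Equiv.Perm α) w)) = _
        rw [Equiv.symm_apply_apply, hhτ w hw, hi2 w hw]
      refine ⟨⟨h * k' * h⁻¹, hnormH h hhτ k' k'.2⟩ * ⟨h * hi⁻¹, hd⟩, ?_⟩
      show ((h * (k' : G) * h⁻¹ * (h * hi⁻¹) : G) : Equiv.Perm α) (f i) = _
      rw [show h * (k' : G) * h⁻¹ * (h * hi⁻¹) = h * (k' : G) * hi⁻¹ by group, Subgroup.coe_mul, Subgroup.coe_mul,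
        Equiv.Perm.mul_apply, Equiv.Perm.mul_apply]
      nth_rewrite 1 [← hi1]
      rw [show ((hi⁻¹ : G) : Equiv.Perm α) ((hi : Equiv.Perm α) (f i)) = f i from
        (hi : Equiv.Perm α).symm_apply_apply _]
      rfl
    let O := MulAction.orbit H (f i)
    let A := MulAction.fixedPoints (Q : Subgroup H) ↥O
    have hA : ¬ p ∣ Nat.card A := by
      have := Q.isPGroup'.card_modEq_card_fixedPoints ↥O
      exact fun hd => hno i ((Nat.ModEq.dvd_iff this dvd_rfl).2 hd)
    have hAmem : ∀ z : ↥O, z ∈ A ↔ ∀ q ∈ Qg, (q : Equiv.Perm α) z = z := by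
      intro z
      constructor
      · rintro hz _ ⟨q, hq, rfl⟩
        exact congrArg Subtype.val (hz ⟨q, hq⟩)
      · intro hz q
        exact Subtype.ext (hz _ ⟨q.1, q.2, rfl⟩)
    have hgmem : ∀ z : α, ∀ hz : z ∈ O, (∀ q ∈ Qg, (q : Equiv.Perm α) z = z) →
        (g : Equiv.Perm α) z ∈ O ∧ ∀ q ∈ Qg, (q : Equiv.Perm α) ((g : Equiv.Perm α) z) = (g : Equiv.Perm α) z := by
      intro z hz hfix
      constructor
      · have : ∀ j : ℕ, ((h ^ j : G) : Equiv.Perm α) z ∈ O := by
          intro j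
          induction j with
          | zero => simpa using hz
          | succ j ih => rw [pow_succ', Subgroup.coe_mul, Equiv.Perm.mul_apply]; exact hpres _ ih
        exact this m
      · intro q hq
        have h2 : g⁻¹ * q * g ∈ Qg := by
          have := (Subgroup.mem_normalizer_iff.1 (inv_mem hgQ) q).1 hq
          simpa using this
        have h3 := congrArg (g : Equiv.Perm α) (hfix _ h2)
        rw [← Equiv.Perm.mul_apply, ← Subgroup.coe_mul, show g * (g⁻¹ * q * g) = q * g by group,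
          Subgroup.coe_mul, Equiv.Perm.mul_apply] at h3
        exact h3
    haveI : Fintype A := Fintype.ofFinite _
    let π : A → A := fun z => ⟨⟨(g : Equiv.Perm α) z.1, (hgmem _ z.1.2 ((hAmem _).1 z.2)).1⟩,
      (hAmem _).2 (hgmem _ z.1.2 ((hAmem _).1 z.2)).2⟩
    have hπ : Function.Injective π := fun z w e => Subtype.ext (Subtype.ext
      ((g : Equiv.Perm α).injective (congrArg (fun u : A => ((u : ↥O) : α)) e)))
    let P : Equiv.Perm A := Equiv.ofBijective π (Finite.injective_iff_bijective.1 hπ)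
    have hP : P ^ p ^ a = 1 := by
      have : ∀ j (z : A), (((P ^ j) z : ↥O) : α) = ((g ^ j : G) : Equiv.Perm α) z := by
        intro j
        induction j with
        | zero => intro z; simp
        | succ j ih =>
          intro z
          rw [pow_succ' P, pow_succ' g, Equiv.Perm.mul_apply, Subgroup.coe_mul, Equiv.Perm.mul_apply, ← ih]
          rfl
      exact Equiv.Perm.ext fun z => Subtype.ext (Subtype.ext (by rw [this, hgp]; rfl))
    have hmod := Equiv.Perm.card_compl_support_modEq hP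
    rw [← Nat.card_eq_fintype_card] at hmod
    obtain ⟨z, hz⟩ : P.supportᶜ.Nonempty := by
      rw [← Finset.card_pos]
      by_contra h0
      exact hA ((Nat.ModEq.dvd_iff hmod dvd_rfl).1 (by simp [Nat.eq_zero_of_not_pos h0]))
    rw [Finset.mem_compl, Equiv.Perm.notMem_support] at hz
    exact ⟨_, z.1.2, congrArg (fun u : A => ((u : ↥O) : α)) hz, (hAmem _).1 z.2⟩
  choose y hy1 hy2 hy3 using horb
  have hyinj : Function.Injective y := by
    intro i j e
    by_contra hne
    refine hdist i j hne ?_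
    have h1 := MulAction.orbit_eq_iff.2 (hy1 i)
    have h2 := MulAction.orbit_eq_iff.2 (hy1 j)
    rw [e] at h1
    rw [← h1, h2]
    exact MulAction.mem_orbit_self _
  have hyΓ : ∀ i, y i ∉ Γ := by
    intro i hc
    obtain ⟨k', hk'⟩ := hy1 i
    have hk2 : (k' : G) ∈ fixingSubgroup G (Γ : Set α) := k'.2
    rw [memH] at hk2
    have h2 : ((k' : G) : Equiv.Perm α) (y i) = y i := hk2 _ hc
    have h3 : ((k' : G) : Equiv.Perm α) (f i) = y i := hk'
    exact hf i (((k' : G) : Equiv.Perm α).injective (h3.trans h2.symm) ▸ hc)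
  set Γ' := (Γ \ T) ∪ Finset.univ.image y with hΓ'
  have hΓ'c : Γ'.card = k := by
    rw [hΓ', Finset.card_union_of_disjoint, Finset.card_sdiff_of_subset hTΓ,
      Finset.card_image_of_injective _ hyinj, Finset.card_univ, Fintype.card_fin, hΓ, hTc]
    · omega
    · rw [Finset.disjoint_left]
      intro z hz hz'
      obtain ⟨i, -, rfl⟩ := Finset.mem_image.1 hz'
      exact hyΓ i (Finset.mem_sdiff.1 hz).1
  set K := fixingSubgroup G (Γ' : Set α) with hK
  have hQK : Qg ≤ K := by
    intro q hq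
    rw [hK, memH]
    intro z hz
    rcases Finset.mem_union.1 hz with hz | hz
    · have := hQH hq
      rw [hH, memH] at this
      exact this z (Finset.mem_sdiff.1 hz).1
    · obtain ⟨i, -, rfl⟩ := Finset.mem_image.1 hz
      exact hy3 i q hq
  have hgK : g ∈ K := by
    rw [hK, memH]
    intro z hz
    rcases Finset.mem_union.1 hz with hz | hz
    · obtain ⟨hz1, hz2⟩ := Finset.mem_sdiff.1 hz
      rw [hg, (hgτ m z hz1).1]
      exact Equiv.Perm.pow_apply_eq_self_of_apply_eq_self (hτout z hz2) m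
    · obtain ⟨i, -, rfl⟩ := Finset.mem_image.1 hz
      exact hy2 i
  have hgQg : g ∈ Qg := by
    have hz : IsPGroup p (Subgroup.zpowers g) := by
      obtain ⟨j, -, hj⟩ := (Nat.dvd_prime_pow hp).1 (orderOf_dvd_of_pow_eq_one hgp)
      exact IsPGroup.of_card (n := j) (by rw [Nat.card_zpowers, hj])
    have hP : IsPGroup p ↥(Qg ⊔ Subgroup.zpowers g) :=
      IsPGroup.to_sup_of_normal_left' (Q.isPGroup'.map _) hz (Subgroup.zpowers_le.2 hgQ)
    have hle : Qg ⊔ Subgroup.zpowers g ≤ K := sup_le hQK (Subgroup.zpowers_le.2 hgK)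
    obtain ⟨j, hj⟩ := IsPGroup.iff_card.1 hP
    have hd := Subgroup.card_dvd_of_le hle
    rw [hj, hK, hcard Γ' hΓ'c] at hd
    have hQc : Nat.card Qg = p ^ (Nat.card H).factorization p := by
      rw [← Q.card_eq_multiplicity, hQg,
        ← Nat.card_congr (Subgroup.equivMapOfInjective (Q : Subgroup H) _ H.subtype_injective).toEquiv]
    have : Qg = Qg ⊔ Subgroup.zpowers g := Subgroup.eq_of_le_of_card_ge le_sup_left (by
      rw [hj, hQc]
      exact Nat.pow_le_pow_right hp.pos ((hp.pow_dvd_iff_le_factorization Nat.card_pos.ne').1 hd))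
    rw [this]
    exact Subgroup.mem_sup_right (Subgroup.mem_zpowers g)
  -- but `g` moves a point of `Γ`
  have hgfix := hQH hgQg
  rw [hH, memH] at hgfix
  have h0 : e ⟨0, hp.pos⟩ ∈ Γ := hTΓ (heT _)
  have h1 := (hgτ m _ h0).1.symm.trans (hgfix _ h0)
  have hpow : ∀ j : ℕ, (τ ^ j) (e ⟨0, hp.pos⟩) = e ((finRotate p ^ j) ⟨0, hp.pos⟩) := by
    intro j
    induction j with
    | zero => rfl
    | succ j ih => rw [pow_succ', pow_succ', Equiv.Perm.mul_apply, Equiv.Perm.mul_apply, ih, hτ, Equiv.Perm.viaEmbedding_apply]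
  rw [hpow] at h1
  have h2 := e.injective h1
  obtain ⟨p', rfl⟩ : ∃ p', p = p' + 2 := ⟨p - 2, by have := hp.two_le; omega⟩
  have hrot : ∀ j : ℕ, ((finRotate (p' + 2) ^ j) ⟨0, hp.pos⟩ : Fin (p' + 2)) = ⟨j % (p' + 2), Nat.mod_lt _ (by omega)⟩ := by
    intro j
    induction j with
    | zero => exact Fin.ext (by simp)
    | succ j ih =>
      rw [pow_succ', Equiv.Perm.mul_apply, ih, finRotate_succ_apply]
      exact Fin.ext (by simp [Fin.val_add])
  rw [hrot] at h2
  have h3 : m % (p' + 2) = 0 := congrArg Fin.val h2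
  exact hpm (Nat.dvd_of_mod_eq_zero h3)

end Cfsg.Agent.S0706
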