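import Cfsg.Statements.S0707
import Mathlib

set_option autoImplicit false
open Cfsg

namespace Cfsg.Agent.S0707

---pre
open MulAction

/-- In a primitive permutation group, distinct points have distinct stabilisers unless the group is regular of prime degree. -/
theorem result {α : Type*} (G : Subgroup (Equiv.Perm α)) [MulAction.IsPreprimitive G α] (h : ¬ (Nat.card α).Prime ∨ ∃ a : α, MulAction.stabilizer G a ≠ ⊥) {a b : α} (hab : a ≠ b) : MulAction.stabilizer G a ≠ MulAction.stabilizer G b := by
  intro he
  have : Nontrivial α := ⟨a, b, hab⟩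
  have hmax : IsCoatom (stabilizer G a) := (isCoatom_stabilizer_iff_preprimitive G a).2 inferInstance
  obtain ⟨g, hg⟩ := MulAction.exists_smul_eq G a b
  have hnorm : g ∈ Subgroup.normalizer (stabilizer G a : Set G) := by
    rw [Subgroup.mem_normalizer_iff_map_conj_eq]
    conv_rhs => rw [he, ← hg, MulAction.stabilizer_smul_eq_stabilizer_map_conj]
    rfl
  have htop : Subgroup.normalizer (stabilizer G a : Set G) = ⊤ := by
    refine hmax.2 _ (lt_of_le_of_ne Subgroup.le_normalizer fun e => ?_)
    rw [← e, MulAction.mem_stabilizer_iff, hg] at hnorm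
    exact hab hnorm.symm
  have hn : (stabilizer G a).Normal := Subgroup.normalizer_eq_top_iff.1 htop
  have hbot : ∀ c : α, stabilizer G c = ⊥ := by
    have h0 : stabilizer G a = ⊥ := by
      rw [Subgroup.eq_bot_iff_forall]
      intro x hx
      refine Subtype.ext (Equiv.ext fun y => ?_)
      obtain ⟨f, rfl⟩ := MulAction.exists_smul_eq G a y
      have := hn.conj_mem x hx f⁻¹
      rw [MulAction.mem_stabilizer_iff, mul_smul, mul_smul, inv_inv] at this
      exact inv_smul_eq_iff.1 this
    intro c
    obtain ⟨f, rfl⟩ := MulAction.exists_smul_eq G a c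
    rw [MulAction.stabilizer_smul_eq_stabilizer_map_conj, h0, Subgroup.map_bot]
  rcases h with h | ⟨c, hc⟩
  · apply h
    have hcard : Nat.card G = Nat.card α := by
      have h1 := Subgroup.index_bot (G := G)
      rw [← hbot a, MulAction.index_stabilizer_of_transitive] at h1
      exact h1.symm
    rw [← hcard]
    rw [hbot a] at hmax
    have hne : Nontrivial G := by
      by_contra h'
      have := not_nontrivial_iff_subsingleton.1 h'
      exact hmax.1 (Subsingleton.elim _ _)
    obtain ⟨z, hz⟩ := exists_ne (1 : G)
    have hgen : Subgroup.zpowers z = ⊤ := hmax.2 _ (bot_lt_iff_ne_bot.2 (by simpa using hz))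
    let _ : CommGroup G := { (inferInstance : Group G) with
      mul_comm := fun x y => by
        obtain ⟨i, rfl⟩ := Subgroup.mem_zpowers_iff.1 (hgen ▸ Subgroup.mem_top x)
        obtain ⟨j, rfl⟩ := Subgroup.mem_zpowers_iff.1 (hgen ▸ Subgroup.mem_top y)
        rw [← zpow_add, ← zpow_add, add_comm] }
    have : IsSimpleGroup G := ⟨fun H _ => (eq_or_ne H ⊥).imp id fun hH => hmax.2 H (bot_lt_iff_ne_bot.2 hH)⟩
    exact IsSimpleGroup.prime_card
  · exact hc (hbot c)

end Cfsg.Agent.S0707
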