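import Cfsg.Statements.S0709
import Mathlib.GroupTheory.GroupAction.MultipleTransitivity

set_option autoImplicit false
open Cfsg

namespace Cfsg.Agent.S0709

open MulAction

variable {α : Type*}

/-- The hypotheses of the lemma. -/
structure Data (t : ℕ) (q : ℕ → α) (G : Subgroup (Equiv.Perm α)) (s : ℕ → Equiv.Perm α) : Prop where
  inj : ∀ i j : ℕ, 1 ≤ i → i ≤ t → 1 ≤ j → j ≤ t → q i = q j → i = j
  fix : ∀ g ∈ G, ∀ i : ℕ, 3 ≤ i → i ≤ t → g (q i) = q i
  two : ∀ a b c d : α, (∀ i, 3 ≤ i → i ≤ t → a ≠ q i ∧ b ≠ q i ∧ c ≠ q i ∧ d ≠ q i) →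
    a ≠ b → c ≠ d → ∃ g ∈ G, g a = c ∧ g b = d
  mem1 : s 1 ∈ G
  swap1 : s 1 (q 1) = q 2 ∧ s 1 (q 2) = q 1
  swap : ∀ i : ℕ, 2 ≤ i → i + 1 ≤ t → s i (q i) = q (i + 1) ∧ s i (q (i + 1)) = q i ∧
    ∀ j : ℕ, 1 ≤ j → j ≤ t → j ≠ i → j ≠ i + 1 → s i (q j) = q j
  sq : ∀ i : ℕ, 1 ≤ i → i + 1 ≤ t → s i ^ 2 ∈ G ∧ (s i ^ 2) (q 1) = q 1 ∧ (s i ^ 2) (q 2) = q 2
  braid : ∀ i : ℕ, 1 ≤ i → i + 2 ≤ t →
    (s i * s (i + 1)) ^ 3 ∈ G ∧ ((s i * s (i + 1)) ^ 3) (q 1) = q 1 ∧ ((s i * s (i + 1)) ^ 3) (q 2) = q 2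
  comm : ∀ i j : ℕ, 1 ≤ i → i + 2 ≤ j → j + 1 ≤ t →
    (s i * s j) ^ 2 ∈ G ∧ ((s i * s j) ^ 2) (q 1) = q 1 ∧ ((s i * s j) ^ 2) (q 2) = q 2
  norm : ∀ i : ℕ, 2 ≤ i → i + 1 ≤ t → ∀ g ∈ G, g (q 2) = q 2 →
    s i * g * (s i)⁻¹ ∈ G ∧ (s i * g * (s i)⁻¹) (q 2) = q 2

variable {t : ℕ} {q : ℕ → α} {G : Subgroup (Equiv.Perm α)} {s : ℕ → Equiv.Perm α}

theorem perm_inv_eq {g : Equiv.Perm α} {x y : α} (h : g x = y) : g⁻¹ y = x := by
  rw [← h]; exact g.symm_apply_apply x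

theorem Data.ne12 (D : Data t q G s) (ht : 2 ≤ t) : q 1 ≠ q 2 := fun e =>
  absurd (D.inj 1 2 le_rfl (by omega) (by omega) ht e) (by omega)

/-- Every element of `G` moving `q 2` lies in the double coset of `s 1`. -/
theorem Data.split (D : Data t q G s) (ht : 2 ≤ t) {g : Equiv.Perm α} (hg : g ∈ G) (hg2 : g (q 2) ≠ q 2) :
    ∃ k ∈ G, ∃ k' ∈ G, k (q 2) = q 2 ∧ k' (q 2) = q 2 ∧ g = k * s 1 * k' := by
  have hx : ∀ i, 3 ≤ i → i ≤ t → q 2 ≠ q i ∧ q 1 ≠ q i ∧ q 2 ≠ q i ∧ g (q 2) ≠ q i := fun i hi hit => by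
    refine ⟨fun e => ?_, fun e => ?_, fun e => ?_, fun e => ?_⟩
    · have := D.inj 2 i (by omega) ht (by omega) hit e; omega
    · have := D.inj 1 i le_rfl (by omega) (by omega) hit e; omega
    · have := D.inj 2 i (by omega) ht (by omega) hit e; omega
    · rw [← D.fix g hg i hi hit] at e
      have := D.inj 2 i (by omega) ht (by omega) hit (g.injective e); omega
  obtain ⟨k, hk, hk2, hk1⟩ := D.two (q 2) (q 1) (q 2) (g (q 2)) hx (D.ne12 ht).symm (Ne.symm hg2)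
  refine ⟨k, hk, (k * s 1)⁻¹ * g, mul_mem (inv_mem (mul_mem hk D.mem1)) hg, hk2, ?_, by group⟩
  rw [Equiv.Perm.mul_apply]
  exact perm_inv_eq (by rw [Equiv.Perm.mul_apply, D.swap1.2, hk1])

theorem main : ∀ (t : ℕ), 2 ≤ t → ∀ (q : ℕ → α) (G : Subgroup (Equiv.Perm α)) (s : ℕ → Equiv.Perm α), Data t q G s →
    (∀ f : ℕ → α, (∀ i j : ℕ, 1 ≤ i → i ≤ t → 1 ≤ j → j ≤ t → f i = f j → i = j) →
      ∃ w ∈ Subgroup.closure ((G : Set (Equiv.Perm α)) ∪ {x | ∃ i : ℕ, 2 ≤ i ∧ i + 1 ≤ t ∧ x = s i}),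
        ∀ i, 1 ≤ i → i ≤ t → w (f i) = q i) ∧
    ∀ w ∈ Subgroup.closure ((G : Set (Equiv.Perm α)) ∪ {x | ∃ i : ℕ, 2 ≤ i ∧ i + 1 ≤ t ∧ x = s i}),
      (∀ i, 1 ≤ i → i ≤ t → w (q i) = q i) → w ∈ G := by
  intro t ht
  induction t, ht using Nat.le_induction with
  | base =>
    intro q G s D
    constructor
    · intro f hf
      obtain ⟨g, hg, h1, h2⟩ := D.two (f 1) (f 2) (q 1) (q 2) (fun i h3 h2 => absurd h3 (by omega))
        (fun e => absurd (hf 1 2 le_rfl (by omega) (by omega) le_rfl e) (by omega)) (D.ne12 le_rfl)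
      refine ⟨g, Subgroup.subset_closure (Or.inl hg), fun i hi hit => ?_⟩
      obtain rfl | rfl : i = 1 ∨ i = 2 := by omega
      · exact h1
      · exact h2
    · intro w hw _
      refine (Subgroup.closure_le G).2 (Set.union_subset (fun x hx => hx) ?_) hw
      rintro x ⟨i, h1, h2, -⟩
      omega
  | succ n hn ih =>
    intro q G s D
    set σ := s 2 with hσ
    obtain ⟨hσ2, hσ3, hσj⟩ := D.swap 2 le_rfl (by omega)
    have hne : ∀ i j, 1 ≤ i → i ≤ n + 1 → 1 ≤ j → j ≤ n + 1 → i ≠ j → q i ≠ q j :=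
      fun i j a b c d h e => h (D.inj i j a b c d e)
    -- `σ⁻¹` lies in `G σ`
    obtain ⟨hsqG, hsq1, hsq2⟩ := D.sq 2 (by omega) (by omega)
    have hinvσ : σ⁻¹ = (σ ^ 2)⁻¹ * σ := by group
    -- conjugation by `σ⁻¹` fixes the stabiliser
    have hnorm' : ∀ g ∈ G, g (q 2) = q 2 → σ⁻¹ * g * σ ∈ G ∧ (σ⁻¹ * g * σ) (q 2) = q 2 := by
      intro g hg hg2
      have e : σ⁻¹ * g * σ = σ * ((σ ^ 2)⁻¹ * g * σ ^ 2) * σ⁻¹ := by group
      rw [e]
      refine D.norm 2 le_rfl (by omega) _ (mul_mem (mul_mem (inv_mem hsqG) hg) hsqG) ?_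
      rw [Equiv.Perm.mul_apply, Equiv.Perm.mul_apply, hsq2, hg2]
      exact perm_inv_eq hsq2
    -- the double coset group
    let S : Set (Equiv.Perm α) := {x | x ∈ G ∨ ∃ g ∈ G, ∃ g' ∈ G, x = g * σ * g'}
    have hS : ∀ {x}, x ∈ S → ∀ {a b}, a ∈ G → b ∈ G → a * x * b ∈ S := by
      rintro x (hx | ⟨g, hg, g', hg', rfl⟩) a b ha hb
      · exact Or.inl (mul_mem (mul_mem ha hx) hb)
      · exact Or.inr ⟨a * g, mul_mem ha hg, g' * b, mul_mem hg' hb, by group⟩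
    have hkey : ∀ g ∈ G, σ * g * σ ∈ S := by
      intro g hg
      by_cases hg2 : g (q 2) = q 2
      · left
        have e : σ * g * σ = σ * g * σ⁻¹ * σ ^ 2 := by group
        rw [e]
        exact mul_mem (D.norm 2 le_rfl (by omega) g hg hg2).1 hsqG
      · obtain ⟨k, hk, k', hk', hk2, hk'2, rfl⟩ := D.split (by omega) hg hg2
        obtain ⟨hh, -, -⟩ := D.braid 1 le_rfl (by omega)
        have e : σ * (k * s 1 * k') * σ = (σ * k * σ⁻¹ * ((s 1)⁻¹ * (s 1 * σ) ^ 3 * (σ ^ 2)⁻¹)) * σ *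
            ((s 1)⁻¹ * (σ⁻¹ * k' * σ)) := by simp only [pow_succ, pow_zero, one_mul]; group
        rw [e]
        exact Or.inr ⟨_, mul_mem (D.norm 2 le_rfl (by omega) k hk hk2).1
          (mul_mem (mul_mem (inv_mem D.mem1) hh) (inv_mem hsqG)), _,
          mul_mem (inv_mem D.mem1) (hnorm' k' hk' hk'2).1, rfl⟩
    let L : Subgroup (Equiv.Perm α) :=
      { carrier := S
        one_mem' := Or.inl (one_mem G)
        mul_mem' := by
          rintro x y hx hy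
          rcases hx with hx | ⟨g, hg, g', hg', rfl⟩
          · simpa using hS hy hx (one_mem G)
          rcases hy with hy | ⟨k, hk, k', hk', rfl⟩
          · exact Or.inr ⟨g, hg, g' * y, mul_mem hg' hy, by group⟩
          · have := hS (hkey _ (mul_mem hg' hk)) hg hk'
            convert this using 1
            group
        inv_mem' := by
          rintro x (hx | ⟨g, hg, g', hg', rfl⟩)
          · exact Or.inl (inv_mem hx)
          · refine Or.inr ⟨g'⁻¹ * (σ ^ 2)⁻¹, mul_mem (inv_mem hg') (inv_mem hsqG), g⁻¹, inv_mem hg, ?_⟩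
            group }
    have hGL : ∀ {g}, g ∈ G → g ∈ L := fun hg => Or.inl hg
    have hσL : σ ∈ L := Or.inr ⟨1, one_mem G, 1, one_mem G, by group⟩
    have hLfix : ∀ w ∈ L, ∀ i, 4 ≤ i → i ≤ n + 1 → w (q i) = q i := by
      rintro w (hw | ⟨g, hg, g', hg', rfl⟩) i hi hit
      · exact D.fix w hw i (by omega) hit
      · rw [Equiv.Perm.mul_apply, Equiv.Perm.mul_apply, D.fix g' hg' i (by omega) hit,
          hσj i (by omega) hit (by omega) (by omega), D.fix g hg i (by omega) hit]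
    have hLG : ∀ w ∈ L, w (q 3) = q 3 → w ∈ G := by
      rintro w (hw | ⟨g, hg, g', hg', rfl⟩) h3
      · exact hw
      · exfalso
        rw [Equiv.Perm.mul_apply, Equiv.Perm.mul_apply, D.fix g' hg' 3 le_rfl (by omega), hσ3] at h3
        rw [← D.fix g hg 3 le_rfl (by omega)] at h3
        exact hne 2 3 (by omega) (by omega) (by omega) (by omega) (by omega) (g.injective h3)
    -- double transitivity of the new group
    have hto : ∀ a : α, (∀ i, 4 ≤ i → i ≤ n + 1 → a ≠ q i) → ∃ w ∈ L, w a = q 3 := by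
      intro a ha
      by_cases ha3 : a = q 3
      · exact ⟨1, one_mem L, by simp [ha3]⟩
      have hY : ∀ b, (b = a ∨ b = q 1 ∨ b = q 2) → ∀ i, 3 ≤ i → i ≤ n + 1 → b ≠ q i := by
        rintro b (rfl | rfl | rfl) i hi hit
        · rcases hi.lt_or_eq with h | h
          · exact ha i h hit
          · exact h ▸ ha3
        · exact hne 1 i le_rfl (by omega) (by omega) hit (by omega)
        · exact hne 2 i (by omega) (by omega) (by omega) hit (by omega)
      obtain ⟨o, ho, hoa⟩ : ∃ o, (o = q 1 ∨ o = q 2) ∧ a ≠ o := by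
        by_cases h : a = q 1
        · exact ⟨q 2, Or.inr rfl, h ▸ D.ne12 (by omega)⟩
        · exact ⟨q 1, Or.inl rfl, h⟩
      obtain ⟨g, hg, hga, -⟩ := D.two a o (q 2) (q 1)
        (fun i hi hit => ⟨hY a (Or.inl rfl) i hi hit, hY o (Or.inr ho) i hi hit,
          hY _ (Or.inr (Or.inr rfl)) i hi hit, hY _ (Or.inr (Or.inl rfl)) i hi hit⟩) hoa (D.ne12 (by omega)).symm
      exact ⟨σ * g, mul_mem hσL (hGL hg), by rw [Equiv.Perm.mul_apply, hga, hσ2]⟩
    have hpair : ∀ a b : α, (∀ i, 4 ≤ i → i ≤ n + 1 → a ≠ q i) → (∀ i, 4 ≤ i → i ≤ n + 1 → b ≠ q i) → a ≠ b →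
        ∃ w ∈ L, w a = q 3 ∧ w b = q 2 := by
      intro a b ha hb hab
      obtain ⟨w, hw, hwa⟩ := hto a ha
      have hwb : ∀ i, 3 ≤ i → i ≤ n + 1 → w b ≠ q i := by
        intro i hi hit e
        rcases hi.lt_or_eq with h | h
        · rw [← hLfix w hw i h hit] at e
          exact hb i h hit (w.injective e)
        · subst h
          exact hab (w.injective (hwa.trans e.symm))
      by_cases h2 : w b = q 2
      · exact ⟨w, hw, hwa, h2⟩
      obtain ⟨g, hg, hg1, -⟩ := D.two (w b) (q 2) (q 2) (w b)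
        (fun i hi hit => ⟨hwb i hi hit, hne 2 i (by omega) (by omega) (by omega) hit (by omega),
          hne 2 i (by omega) (by omega) (by omega) hit (by omega), hwb i hi hit⟩) h2 (Ne.symm h2)
      exact ⟨g * w, mul_mem (hGL hg) hw, by rw [Equiv.Perm.mul_apply, hwa, D.fix g hg 3 le_rfl (by omega)],
        by rw [Equiv.Perm.mul_apply, hg1]⟩
    have hH : ∀ x : Equiv.Perm α, x ∈ G ∧ x (q 1) = q 1 ∧ x (q 2) = q 2 →
        x ∈ L ∧ x (q 2) = q 2 ∧ x (q 3) = q 3 := fun x ⟨a, _, c⟩ => ⟨hGL a, c, D.fix x a 3 le_rfl (by omega)⟩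
    have D' : Data n (fun i => q (i + 1)) L (fun i => s (i + 1)) :=
      { inj := fun i j a b c d e => by
          have := D.inj (i + 1) (j + 1) (by omega) (by omega) (by omega) (by omega) e
          omega
        fix := fun w hw i hi hit => hLfix w hw (i + 1) (by omega) (by omega)
        two := fun a b c d h hab hcd => by
          have h' : ∀ i, 4 ≤ i → i ≤ n + 1 → a ≠ q i ∧ b ≠ q i ∧ c ≠ q i ∧ d ≠ q i := fun i hi hit => by
            have := h (i - 1) (by omega) (by omega)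
            rwa [show i - 1 + 1 = i by omega] at this
          obtain ⟨w, hw, hwa, hwb⟩ := hpair a b (fun i x y => (h' i x y).1) (fun i x y => (h' i x y).2.1) hab
          obtain ⟨v, hv, hvc, hvd⟩ := hpair c d (fun i x y => (h' i x y).2.2.1) (fun i x y => (h' i x y).2.2.2) hcd
          exact ⟨v⁻¹ * w, mul_mem (inv_mem hv) hw, by rw [Equiv.Perm.mul_apply, hwa]; exact perm_inv_eq hvc,
            by rw [Equiv.Perm.mul_apply, hwb]; exact perm_inv_eq hvd⟩
        mem1 := hσL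
        swap1 := ⟨hσ2, hσ3⟩
        swap := fun i hi hit => by
          obtain ⟨a, b, c⟩ := D.swap (i + 1) (by omega) (by omega)
          exact ⟨a, b, fun j h1 h2 h3 h4 => c (j + 1) (by omega) (by omega) (by omega) (by omega)⟩
        sq := fun i hi hit => hH _ (D.sq (i + 1) (by omega) (by omega))
        braid := fun i hi hit => hH _ (D.braid (i + 1) (by omega) (by omega))
        comm := fun i j a b c => hH _ (D.comm (i + 1) (j + 1) (by omega) (by omega) (by omega))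
        norm := fun i hi hit w hw hw3 => by
          have hwG := hLG w hw hw3
          set τ := s (i + 1) with hτ
          suffices h : τ * w * τ⁻¹ ∈ G from ⟨hGL h, D.fix _ h 3 le_rfl (by omega)⟩
          by_cases h2 : w (q 2) = q 2
          · exact (D.norm (i + 1) (by omega) (by omega) w hwG h2).1
          obtain ⟨k, hk, k', hk', hk2, hk'2, rfl⟩ := D.split (by omega) hwG h2
          have e : τ * (k * s 1 * k') * τ⁻¹ = (τ * k * τ⁻¹) * ((s 1)⁻¹ * (s 1 * τ) ^ 2 * (τ ^ 2)⁻¹) *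
              (τ * k' * τ⁻¹) := by simp only [pow_succ, pow_zero, one_mul]; group
          rw [e]
          exact mul_mem (mul_mem (D.norm (i + 1) (by omega) (by omega) k hk hk2).1
            (mul_mem (mul_mem (inv_mem D.mem1) (D.comm 1 (i + 1) le_rfl (by omega) (by omega)).1)
              (inv_mem (D.sq (i + 1) (by omega) (by omega)).1)))
            (D.norm (i + 1) (by omega) (by omega) k' hk' hk'2).1 }
    obtain ⟨ihA, ihB⟩ := ih _ _ _ D'
    have hW : Subgroup.closure ((L : Set (Equiv.Perm α)) ∪ {x | ∃ i : ℕ, 2 ≤ i ∧ i + 1 ≤ n ∧ x = s (i + 1)}) =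
        Subgroup.closure ((G : Set (Equiv.Perm α)) ∪ {x | ∃ i : ℕ, 2 ≤ i ∧ i + 1 ≤ n + 1 ∧ x = s i}) := by
      apply le_antisymm <;> rw [Subgroup.closure_le]
      · rintro x (hx | ⟨i, hi, hit, rfl⟩)
        · have hσW : σ ∈ Subgroup.closure ((G : Set (Equiv.Perm α)) ∪ {x | ∃ i : ℕ, 2 ≤ i ∧ i + 1 ≤ n + 1 ∧ x = s i}) :=
            Subgroup.subset_closure (Or.inr ⟨2, le_rfl, by omega, rfl⟩)
          rcases hx with hx | ⟨g, hg, g', hg', rfl⟩
          · exact Subgroup.subset_closure (Or.inl hx)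
          · exact mul_mem (mul_mem (Subgroup.subset_closure (Or.inl hg)) hσW) (Subgroup.subset_closure (Or.inl hg'))
        · exact Subgroup.subset_closure (Or.inr ⟨i + 1, by omega, by omega, rfl⟩)
      · rintro x (hx | ⟨i, hi, hit, rfl⟩)
        · exact Subgroup.subset_closure (Or.inl (hGL hx))
        · by_cases h : i = 2
          · subst h; exact Subgroup.subset_closure (Or.inl hσL)
          · exact Subgroup.subset_closure (Or.inr ⟨i - 1, by omega, by omega, by rw [show i - 1 + 1 = i by omega]⟩)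
    rw [hW] at ihA ihB
    constructor
    · intro f hf
      obtain ⟨w, hw, hwf⟩ := ihA (fun i => f (i + 1)) fun i j a b c d e => by
        have := hf (i + 1) (j + 1) (by omega) (by omega) (by omega) (by omega) e
        omega
      have hwf' : ∀ i, 2 ≤ i → i ≤ n + 1 → w (f i) = q i := fun i hi hit => by
        have := hwf (i - 1) (by omega) (by omega)
        rwa [show i - 1 + 1 = i by omega] at this
      have hx : ∀ i, 2 ≤ i → i ≤ n + 1 → w (f 1) ≠ q i := fun i hi hit e => by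
        rw [← hwf' i hi hit] at e
        have := hf 1 i le_rfl (by omega) (by omega) hit (w.injective e)
        omega
      obtain ⟨g, hg, hg1, hg2⟩ := D.two (w (f 1)) (q 2) (q 1) (q 2)
        (fun i hi hit => ⟨hx i (by omega) hit, hne 2 i (by omega) (by omega) (by omega) hit (by omega),
          hne 1 i le_rfl (by omega) (by omega) hit (by omega), hne 2 i (by omega) (by omega) (by omega) hit (by omega)⟩)
        (hx 2 le_rfl (by omega)) (D.ne12 (by omega))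
      refine ⟨g * w, mul_mem (Subgroup.subset_closure (Or.inl hg)) hw, fun i hi hit => ?_⟩
      rw [Equiv.Perm.mul_apply]
      rcases hi.lt_or_eq with h | h
      · rw [hwf' i h hit]
        rcases Nat.lt_or_ge i 3 with h' | h'
        · obtain rfl : i = 2 := by omega
          exact hg2
        · exact D.fix g hg i h' hit
      · subst h; exact hg1
    · intro w hw hwfix
      exact hLG w (ihB w hw fun i hi hit => hwfix (i + 1) (by omega) (by omega)) (hwfix 3 (by omega) (by omega))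


/-- Witt's Lemma for constructing transitive extensions. Points `q 1, …, q t` (`t ≥ 2`) of a finite set are given; `G` fixes `q i` for `i ≥ 3` and is doubly transitive on the remaining points; `s 1 ∈ G` swaps `q 1, q 2`; for `2 ≤ i ≤ t-1`, `s i` swaps `q i, q (i+1)` and fixes the other `q j`; with `H` the stabiliser of `q 1, q 2` in `G`: `s i ^ 2 ∈ H`, `(s i * s (i+1)) ^ 3 ∈ H`, `(s i * s j) ^ 2 ∈ H` for `j ≥ i + 2`, and `s i` (`i ≥ 2`) normalises the stabiliser of `q 2` in `G`. Then `G` and the `s i` generate a `t`-transitive group whose pointwise stabiliser of the `q`'s is `H`. -/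
theorem result {α : Type*} [Fintype α] [DecidableEq α] (t : ℕ) (ht : 2 ≤ t) (q : ℕ → α) (hq : ∀ i j : ℕ, 1 ≤ i → i ≤ t → 1 ≤ j → j ≤ t → q i = q j → i = j) (G : Subgroup (Equiv.Perm α)) (hfix : ∀ g ∈ G, ∀ i : ℕ, 3 ≤ i → i ≤ t → g (q i) = q i) (h2 : ∀ a b c d : α, (∀ i, 3 ≤ i → i ≤ t → a ≠ q i ∧ b ≠ q i ∧ c ≠ q i ∧ d ≠ q i) → a ≠ b → c ≠ d → ∃ g ∈ G, g a = c ∧ g b = d) (s : ℕ → Equiv.Perm α) (hs1 : s 1 ∈ G) (hs1q : s 1 (q 1) = q 2 ∧ s 1 (q 2) = q 1) (hsq : ∀ i : ℕ, 2 ≤ i → i + 1 ≤ t → s i (q i) = q (i + 1) ∧ s i (q (i + 1)) = q i ∧ ∀ j : ℕ, 1 ≤ j → j ≤ t → j ≠ i → j ≠ i + 1 → s i (q j) = q j) (H : Subgroup (Equiv.Perm α)) (hH : H = G ⊓ MulAction.stabilizer (Equiv.Perm α) (q 1) ⊓ MulAction.stabilizer (Equiv.Perm α) (q 2)) (hsq2 : ∀ i : ℕ, 1 ≤ i → i + 1 ≤ t → s i ^ 2 ∈ H) (hbraid : ∀ i : ℕ, 1 ≤ i → i + 2 ≤ t → (s i * s (i + 1)) ^ 3 ∈ H) (hcomm : ∀ i j : ℕ, 1 ≤ i → i + 2 ≤ j → j + 1 ≤ t → (s i * s j) ^ 2 ∈ H ∧ (s j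 * s i) ^ 2 ∈ H) (hnorm : ∀ i : ℕ, 2 ≤ i → i + 1 ≤ t → ∀ g ∈ G ⊓ MulAction.stabilizer (Equiv.Perm α) (q 2), s i * g * (s i)⁻¹ ∈ G ⊓ MulAction.stabilizer (Equiv.Perm α) (q 2)) : MulAction.IsMultiplyPretransitive ↥(Subgroup.closure ((G : Set (Equiv.Perm α)) ∪ {x | ∃ i : ℕ, 2 ≤ i ∧ i + 1 ≤ t ∧ x = s i})) α t ∧ Subgroup.closure ((G : Set (Equiv.Perm α)) ∪ {x | ∃ i : ℕ, 2 ≤ i ∧ i + 1 ≤ t ∧ x = s i}) ⊓ fixingSubgroup (Equiv.Perm α) {x | ∃ i : ℕ, 1 ≤ i ∧ i ≤ t ∧ x = q i} = H := by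
  subst hH
  have hcv : ∀ x : Equiv.Perm α, x ∈ G ⊓ stabilizer (Equiv.Perm α) (q 1) ⊓ stabilizer (Equiv.Perm α) (q 2) →
      x ∈ G ∧ x (q 1) = q 1 ∧ x (q 2) = q 2 := fun x ⟨⟨a, b⟩, c⟩ => ⟨a, b, c⟩
  have D : Data t q G s :=
    { inj := hq, fix := hfix, two := h2, mem1 := hs1, swap1 := hs1q, swap := hsq
      sq := fun i a b => hcv _ (hsq2 i a b)
      braid := fun i a b => hcv _ (hbraid i a b)
      comm := fun i j a b c => hcv _ (hcomm i j a b c).1
      norm := fun i a b g hg hg2 => hnorm i a b g ⟨hg, hg2⟩ }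
  obtain ⟨hA, hB⟩ := main t ht q G s D
  refine ⟨⟨fun x y => ?_⟩, ?_⟩
  · have key : ∀ x : Fin t ↪ α,
        ∃ w ∈ Subgroup.closure ((G : Set (Equiv.Perm α)) ∪ {x | ∃ i : ℕ, 2 ≤ i ∧ i + 1 ≤ t ∧ x = s i}),
          ∀ j : Fin t, w (x j) = q (j.1 + 1) := by
      intro x
      obtain ⟨w, hw, hwx⟩ := hA (fun i => if h : i - 1 < t then x ⟨i - 1, h⟩ else x ⟨0, by omega⟩) fun i j a b c d e => by
        rw [dif_pos (by omega), dif_pos (by omega)] at e
        have := congrArg Fin.val (x.injective e)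
        simp only at this
        omega
      refine ⟨w, hw, fun j => ?_⟩
      have := hwx (j.1 + 1) (by omega) (by omega)
      simpa using this
    obtain ⟨w, hw, hwx⟩ := key x
    obtain ⟨v, hv, hvy⟩ := key y
    refine ⟨⟨v⁻¹ * w, mul_mem (inv_mem hv) hw⟩, ?_⟩
    ext j
    show (v⁻¹ * w) (x j) = y j
    rw [Equiv.Perm.mul_apply, hwx]
    exact perm_inv_eq (hvy j)
  · ext w
    constructor
    · rintro ⟨hw, hwfix⟩
      have hwfix' : ∀ i, 1 ≤ i → i ≤ t → w (q i) = q i := fun i hi hit =>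
        (mem_fixingSubgroup_iff _).1 hwfix _ ⟨i, hi, hit, rfl⟩
      exact ⟨⟨hB w hw hwfix', hwfix' 1 le_rfl (by omega)⟩, hwfix' 2 (by omega) ht⟩
    · intro hw
      obtain ⟨hG, h1, h2'⟩ := hcv w hw
      refine ⟨Subgroup.subset_closure (Or.inl hG), (mem_fixingSubgroup_iff _).2 ?_⟩
      rintro x ⟨i, hi, hit, rfl⟩
      show w (q i) = q i
      rcases Nat.lt_or_ge i 3 with h | h
      · obtain rfl | rfl : i = 1 ∨ i = 2 := by omega
        · exact h1
        · exact h2'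
      · exact hfix w hG i h hit

end Cfsg.Agent.S0709
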