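import Cfsg.Statements.S0711
import Mathlib

set_option autoImplicit false
open Cfsg

namespace Cfsg.Agent.S0711

---pre
open MulAction Equiv.Perm

variable {α : Type*} [Fintype α] [DecidableEq α]

/-- A set of `s` points of the support of `g` with at most one arrow leaving it. -/
theorem exists_run (g : Equiv.Perm α) : ∀ s, 1 ≤ s → s ≤ g.support.card →
    ∃ S ⊆ g.support, S.card = s ∧ s - 1 ≤ (S.filter fun x => g x ∈ S).card := by
  intro s
  induction s with
  | zero => intro h; omega
  | succ s ih =>
    intro _ hs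
    by_cases h0 : s = 0
    · obtain ⟨x, hx⟩ := Finset.card_pos.1 (by omega : 0 < g.support.card)
      exact ⟨{x}, by simpa using hx, by simp [h0], by simp [h0]⟩
    obtain ⟨S, hS, hSc, hSn⟩ := ih (by omega) (by omega)
    by_cases hcl : ∃ x ∈ S, g x ∉ S
    · obtain ⟨x, hx, hgx⟩ := hcl
      refine ⟨insert (g x) S, Finset.insert_subset (apply_mem_support.2 (hS hx)) hS, by rw [Finset.card_insert_of_notMem hgx, hSc], ?_⟩
      have hsub : insert x (S.filter fun y => g y ∈ S) ⊆ (insert (g x) S).filter fun y => g y ∈ insert (g x) S := by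
        intro y hy
        rcases Finset.mem_insert.1 hy with rfl | hy
        · exact Finset.mem_filter.2 ⟨Finset.mem_insert_of_mem hx, Finset.mem_insert_self _ _⟩
        · obtain ⟨h1, h2⟩ := Finset.mem_filter.1 hy
          exact Finset.mem_filter.2 ⟨Finset.mem_insert_of_mem h1, Finset.mem_insert_of_mem h2⟩
      have h1 := Finset.card_le_card hsub
      rw [Finset.card_insert_of_notMem (show x ∉ (S.filter fun y => g y ∈ S) from fun h => hgx (Finset.mem_filter.1 h).2)] at h1
      omega
    · push Not at hcl
      obtain ⟨u, hu, huS⟩ := Finset.exists_mem_notMem_of_card_lt_card (show S.card < g.support.card by omega)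
      refine ⟨insert u S, Finset.insert_subset hu hS, by rw [Finset.card_insert_of_notMem huS, hSc], ?_⟩
      have hsub : S ⊆ (insert u S).filter fun y => g y ∈ insert u S := fun y hy =>
        Finset.mem_filter.2 ⟨Finset.mem_insert_of_mem hy, Finset.mem_insert_of_mem (hcl y hy)⟩
      have h1 := Finset.card_le_card hsub
      omega

/-- Bound on the support of `f g f⁻¹ g⁻¹` when `f` fixes `S`. -/
theorem support_bound (g f : Equiv.Perm α) (S D : Finset α) (hS : ∀ x ∈ S, f x = x)
    (hD : g.support ∪ g.support.map f.toEmbedding ⊆ D) :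
    (f * g * f⁻¹ * g⁻¹).support.card + (S.filter fun x => g x ∈ S ∧ g x ≠ x).card ≤ D.card := by
  let I := (S.filter fun x => g x ∈ S ∧ g x ≠ x).map g.toEmbedding
  have h1 : Disjoint (f * g * f⁻¹ * g⁻¹).support I := by
    rw [Finset.disjoint_left]
    intro y hy hyI
    obtain ⟨x, hx, rfl⟩ := Finset.mem_map.1 hyI
    obtain ⟨hx1, hx2, -⟩ := Finset.mem_filter.1 hx
    rw [mem_support] at hy
    apply hy
    show f (g (f⁻¹ (g⁻¹ (g x)))) = g x
    rw [show g⁻¹ (g x) = x from g.symm_apply_apply x, show f⁻¹ x = x from (Equiv.symm_apply_eq f).2 (hS x hx1).symm, hS _ hx2]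
  have h2 : (f * g * f⁻¹ * g⁻¹).support ∪ I ⊆ D := by
    refine Finset.union_subset (fun y hy => ?_) fun y hy => ?_
    · by_contra hyD
      have a1 : g y = y := notMem_support.1 fun h => hyD (hD (Finset.mem_union_left _ h))
      have a2 : g (f⁻¹ y) = f⁻¹ y := notMem_support.1 fun h =>
        hyD (hD (Finset.mem_union_right _ (Finset.mem_map.2 ⟨_, h, f.apply_symm_apply y⟩)))
      rw [mem_support] at hy
      apply hy
      show f (g (f⁻¹ (g⁻¹ y))) = y
      rw [show g⁻¹ y = y from (Equiv.symm_apply_eq g).2 a1.symm, a2, show f (f⁻¹ y) = y from f.apply_symm_apply y]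
    · obtain ⟨x, hx, rfl⟩ := Finset.mem_map.1 hy
      exact hD (Finset.mem_union_left _ (apply_mem_support.2 (mem_support.2 (Finset.mem_filter.1 hx).2.2)))
  have := Finset.card_le_card h2
  rw [Finset.card_union_of_disjoint h1, Finset.card_map] at this
  exact this

theorem exists_fix_move (G : Subgroup (Equiv.Perm α)) {k : ℕ} (hG : IsMultiplyPretransitive G α k)
    (hkn : k ≤ Fintype.card α) (S : Finset α) (hS : S.card + 1 ≤ k) {z w : α} (hz : z ∉ S) (hw : w ∉ S) :
    ∃ f ∈ G, (∀ x ∈ S, f x = x) ∧ f z = w := by
  classical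
  let e : Fin S.card ↪ α := S.equivFin.symm.toEmbedding.trans (Function.Embedding.subtype _)
  have hG' : IsMultiplyPretransitive G α (S.card + 1) :=
    isMultiplyPretransitive_of_le hS (by rw [Nat.card_eq_fintype_card]; omega)
  have mk : ∀ z : α, z ∉ S → ∃ x : Fin (S.card + 1) ↪ α,
      x (Fin.last _) = z ∧ ∀ i : Fin S.card, x i.castSucc = e i := by
    intro z hz
    refine ⟨⟨Fin.snoc (fun i => e i) z, ?_⟩, Fin.snoc_last (α := fun _ => α) _ _, fun i => Fin.snoc_castSucc (α := fun _ => α) _ _ i⟩
    intro i j hij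
    induction i using Fin.lastCases with
    | last =>
      induction j using Fin.lastCases with
      | last => rfl
      | cast j => simp only [Fin.snoc_last, Fin.snoc_castSucc] at hij; exact absurd (hij ▸ (S.equivFin.symm j).2) hz
    | cast i =>
      induction j using Fin.lastCases with
      | last => simp only [Fin.snoc_last, Fin.snoc_castSucc] at hij; exact absurd (hij ▸ (S.equivFin.symm i).2) hz
      | cast j => simp only [Fin.snoc_castSucc] at hij; rw [e.injective hij]
  obtain ⟨x, hxl, hxi⟩ := mk z hz
  obtain ⟨y, hyl, hyi⟩ := mk w hw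
  obtain ⟨⟨f, hf⟩, hfx⟩ := (isMultiplyPretransitive_iff.1 hG') x y
  refine ⟨f, hf, fun v hv => ?_, ?_⟩
  · have h := DFunLike.congr_fun hfx (S.equivFin ⟨v, hv⟩).castSucc
    simp only [Function.Embedding.smul_apply, hxi, hyi] at h
    have he : e (S.equivFin ⟨v, hv⟩) = v := by simp [e]
    rw [he] at h
    exact h
  · have h := DFunLike.congr_fun hfx (Fin.last _)
    simp only [Function.Embedding.smul_apply, hxl, hyl] at h
    exact h

/-- A `k`-transitive permutation group (`k ≥ 3`) with a non-identity element of support smaller than `2k - 2` contains a non-identity element of support at most 3, and therefore contains the alternating group. -/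
theorem result {α : Type*} [Fintype α] [DecidableEq α] (G : Subgroup (Equiv.Perm α)) {k : ℕ} (hk : 3 ≤ k) (hkn : k ≤ Fintype.card α) (hG : MulAction.IsMultiplyPretransitive G α k) (g : Equiv.Perm α) (hg : g ∈ G) (hg1 : g ≠ 1) (hsupp : g.support.card < 2 * k - 2) : (∃ h : Equiv.Perm α, h ∈ G ∧ h ≠ 1 ∧ h.support.card ≤ 3) ∧ alternatingGroup α ≤ G := by
  classical
  have hsmall : ∃ h : Equiv.Perm α, h ∈ G ∧ h ≠ 1 ∧ h.support.card ≤ 3 := by
    obtain ⟨g0, ⟨hg0, hg01, hle⟩, hmin⟩ : ∃ g0, (g0 ∈ G ∧ g0 ≠ 1 ∧ g0.support.card ≤ g.support.card) ∧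
        ∀ h, h ∈ G → h ≠ 1 → g0.support.card ≤ h.support.card := by
      obtain ⟨g0, hg0, hmin⟩ := (Finset.univ.filter fun h : Equiv.Perm α => h ∈ G ∧ h ≠ 1).exists_min_image
        (fun h => h.support.card) ⟨g, by simp [hg, hg1]⟩
      simp only [Finset.mem_filter, Finset.mem_univ, true_and] at hg0 hmin
      exact ⟨g0, ⟨hg0.1, hg0.2, hmin g ⟨hg, hg1⟩⟩, fun h h1 h2 => hmin h ⟨h1, h2⟩⟩
    refine ⟨g0, hg0, hg01, ?_⟩
    by_contra h4
    push Not at h4
    set m := g0.support.card with hm
    have hno : ∀ (f : Equiv.Perm α) (S D : Finset α), f ∈ G → (∀ x ∈ S, f x = x) →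
        g0.support ∪ g0.support.map f.toEmbedding ⊆ D → f * g0 * f⁻¹ * g0⁻¹ ≠ 1 →
        D.card < m + (S.filter fun x => g0 x ∈ S ∧ g0 x ≠ x).card → False := by
      intro f S D hf hS hD hne hlt
      have h1 := support_bound g0 f S D hS hD
      have h2 := hmin _ (mul_mem (mul_mem (mul_mem hf hg0) (inv_mem hf)) (inv_mem hg0)) hne
      omega
    have hsame : ∀ S : Finset α, S ⊆ g0.support → (S.filter fun x => g0 x ∈ S ∧ g0 x ≠ x) = S.filter fun x => g0 x ∈ S := by
      intro S hS
      refine Finset.filter_congr fun x hx => ?_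
      simp [mem_support.1 (hS hx)]
    have hne : ∀ (f : Equiv.Perm α) (x : α), f x = x → f (g0 x) ≠ g0 x → f * g0 * f⁻¹ * g0⁻¹ ≠ 1 := by
      intro f x hx hgx e
      apply hgx
      have h1 : f * g0 * f⁻¹ = g0 := mul_inv_eq_one.1 e
      have h2 := DFunLike.congr_fun h1 x
      simp only [Equiv.Perm.mul_apply] at h2
      rwa [show f⁻¹ x = x from (Equiv.symm_apply_eq f).2 hx.symm] at h2
    have hk4 : 4 ≤ k := by omega
    have hm1 : m ≤ Fintype.card α := by rw [hm]; exact Finset.card_le_univ _
    by_cases hmn : m = Fintype.card α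
    · by_cases hn4 : Fintype.card α ≤ 4
      · have htop : G = ⊤ := eq_top_of_isMultiplyPretransitive
          (isMultiplyPretransitive_of_le (n := k) (by rw [Nat.card_eq_fintype_card]; omega) (by rw [Nat.card_eq_fintype_card]; omega))
        obtain ⟨a, b, hab⟩ := Fintype.exists_pair_of_one_lt_card (α := α) (by omega)
        have h1 := hmin (Equiv.swap a b) (htop ▸ Subgroup.mem_top _) (fun e => hab (by
          have := DFunLike.congr_fun e a
          rw [Equiv.swap_apply_left] at this
          exact this.symm))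
        rw [card_support_swap hab] at h1
        omega
      obtain ⟨a, ha⟩ := Finset.card_pos.1 (by omega : 0 < g0.support.card)
      obtain ⟨x, -, hx⟩ := Finset.exists_mem_notMem_of_card_lt_card (s := ({a, g0⁻¹ a} : Finset α)) (t := Finset.univ)
        (by rw [Finset.card_univ]; have := Finset.card_le_two (a := a) (b := g0⁻¹ a); omega)
      simp only [Finset.mem_insert, Finset.mem_singleton, not_or] at hx
      have hall : ∀ y, g0 y ≠ y := fun y => mem_support.1 (by
        rw [Finset.eq_univ_of_card g0.support (by omega)]; exact Finset.mem_univ y)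
      let S : Finset α := {a, g0 a, x}
      have hz : g0 x ∉ S := by
        simp only [S, Finset.mem_insert, Finset.mem_singleton, not_or]
        exact ⟨fun e => hx.2 (by rw [← e]; exact (g0.symm_apply_apply x).symm), fun e => hx.1 (g0.injective e), hall x⟩
      have hS3 : S.card ≤ 3 := Finset.card_le_three
      obtain ⟨w, -, hw⟩ := Finset.exists_mem_notMem_of_card_lt_card (s := insert (g0 x) S) (t := Finset.univ)
        (by rw [Finset.card_univ, Finset.card_insert_of_notMem hz]; omega)
      simp only [Finset.mem_insert, not_or] at hw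
      obtain ⟨f, hf, hfS, hfz⟩ := exists_fix_move G hG hkn S (by omega) hz hw.2
      refine hno f S Finset.univ hf hfS (Finset.subset_univ _) (hne f x (hfS x (by simp [S])) (by rw [hfz]; exact hw.1)) ?_
      rw [Finset.card_univ, ← hmn]
      have : 0 < (S.filter fun v => g0 v ∈ S ∧ g0 v ≠ v).card :=
        Finset.card_pos.2 ⟨a, Finset.mem_filter.2 ⟨by simp [S], by simp [S], hall a⟩⟩
      omega
    by_cases hmk : m ≤ k
    · obtain ⟨z, hz⟩ := Finset.card_pos.1 (by omega : 0 < g0.support.card)
      obtain ⟨w, -, hw⟩ := Finset.exists_mem_notMem_of_card_lt_card (s := g0.support) (t := Finset.univ) (by rw [Finset.card_univ]; omega)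
      let S := g0.support.erase z
      have hSc : S.card + 1 = m := Finset.card_erase_add_one hz
      obtain ⟨f, hf, hfS, hfz⟩ := exists_fix_move G hG hkn S (by omega) (Finset.notMem_erase z _) (fun h => hw (Finset.mem_of_mem_erase h))
      refine hno f S (insert w g0.support) hf hfS ?_ ?_ ?_
      · refine Finset.union_subset (Finset.subset_insert _ _) fun y hy => ?_
        obtain ⟨x, hx, rfl⟩ := Finset.mem_map.1 hy
        by_cases hxz : x = z
        · subst hxz; rw [Equiv.coe_toEmbedding, hfz]; exact Finset.mem_insert_self _ _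
        · rw [Equiv.coe_toEmbedding, hfS x (Finset.mem_erase.2 ⟨hxz, hx⟩)]; exact Finset.mem_insert_of_mem hx
      · refine hne f (g0⁻¹ z) (hfS _ (Finset.mem_erase.2 ⟨?_, ?_⟩)) ?_
        · intro e; exact mem_support.1 hz (by conv_lhs => rw [← e]; exact g0.apply_symm_apply z)
        · rw [← apply_mem_support, show g0 (g0⁻¹ z) = z from g0.apply_symm_apply z]; exact hz
        · rw [show g0 (g0⁻¹ z) = z from g0.apply_symm_apply z, hfz]; exact fun e => hw (e ▸ hz)
      · rw [hsame S (Finset.erase_subset _ _), Finset.card_insert_of_notMem hw]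
        have hsub : S.erase (g0⁻¹ z) ⊆ S.filter fun x => g0 x ∈ S := by
          intro x hx
          obtain ⟨hx1, hx2⟩ := Finset.mem_erase.1 hx
          refine Finset.mem_filter.2 ⟨hx2, Finset.mem_erase.2 ⟨fun e => hx1 (by rw [← e]; exact (g0.symm_apply_apply x).symm), ?_⟩⟩
          exact apply_mem_support.2 (Finset.mem_of_mem_erase hx2)
        have h1 := Finset.card_le_card hsub
        have h2 := Finset.pred_card_le_card_erase (a := g0⁻¹ z) (s := S)
        omega
    · obtain ⟨S, hS, hSc, hSn⟩ := exists_run g0 (k - 1) (by omega) (by omega)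
      by_cases hcl : ∃ x ∈ S, g0 x ∉ S
      · obtain ⟨x, hx, hgx⟩ := hcl
        have hgxs : g0 x ∈ g0.support := apply_mem_support.2 (hS hx)
        obtain ⟨w, hw, hwS⟩ := Finset.exists_mem_notMem_of_card_lt_card (s := insert (g0 x) S) (t := g0.support)
          (by rw [Finset.card_insert_of_notMem hgx]; omega)
        simp only [Finset.mem_insert, not_or] at hwS
        obtain ⟨f, hf, hfS, hfz⟩ := exists_fix_move G hG hkn S (by omega) hgx hwS.2
        refine hno f S (g0.support ∪ (g0.support \ insert (g0 x) S).map f.toEmbedding) hf hfS ?_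
          (hne f x (hfS x hx) (by rw [hfz]; exact hwS.1)) ?_
        · refine Finset.union_subset Finset.subset_union_left fun y hy => ?_
          obtain ⟨v, hv, rfl⟩ := Finset.mem_map.1 hy
          by_cases hvS : v ∈ insert (g0 x) S
          · refine Finset.mem_union_left _ ?_
            rw [Equiv.coe_toEmbedding]
            rcases Finset.mem_insert.1 hvS with rfl | h
            · rw [hfz]; exact hw
            · rw [hfS v h]; exact hv
          · exact Finset.mem_union_right _ (Finset.mem_map.2 ⟨v, Finset.mem_sdiff.2 ⟨hv, hvS⟩, rfl⟩)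
        · rw [hsame S hS]
          refine lt_of_le_of_lt (Finset.card_union_le _ _) ?_
          rw [Finset.card_map, Finset.card_sdiff_of_subset (Finset.insert_subset hgxs hS), Finset.card_insert_of_notMem hgx]
          omega
      · push Not at hcl
        obtain ⟨z, hz, hzS⟩ := Finset.exists_mem_notMem_of_card_lt_card (show S.card < g0.support.card by omega)
        obtain ⟨w, -, hw⟩ := Finset.exists_mem_notMem_of_card_lt_card (s := g0.support) (t := Finset.univ) (by rw [Finset.card_univ]; omega)
        obtain ⟨f, hf, hfS, hfz⟩ := exists_fix_move G hG hkn S (by omega) hzS (fun h => hw (hS h))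
        refine hno f S (g0.support ∪ (g0.support \ S).map f.toEmbedding) hf hfS ?_ ?_ ?_
        · refine Finset.union_subset Finset.subset_union_left fun y hy => ?_
          obtain ⟨v, hv, rfl⟩ := Finset.mem_map.1 hy
          by_cases hvS : v ∈ S
          · refine Finset.mem_union_left _ ?_
            rw [Equiv.coe_toEmbedding, hfS v hvS]; exact hv
          · exact Finset.mem_union_right _ (Finset.mem_map.2 ⟨v, Finset.mem_sdiff.2 ⟨hv, hvS⟩, rfl⟩)
        · intro e
          have h1 : f * g0 * f⁻¹ = g0 := mul_inv_eq_one.1 e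
          have h2 := DFunLike.congr_fun h1 w
          simp only [Equiv.Perm.mul_apply] at h2
          rw [show f⁻¹ w = z from (Equiv.symm_apply_eq f).2 hfz.symm, notMem_support.1 hw] at h2
          exact mem_support.1 hz (f.injective (h2.trans hfz.symm))
        · rw [hsame S hS, Finset.filter_true_of_mem hcl]
          refine lt_of_le_of_lt (Finset.card_union_le _ _) ?_
          rw [Finset.card_map, Finset.card_sdiff_of_subset hS]
          omega
  refine ⟨hsmall, ?_⟩
  obtain ⟨h, hh, hh1, hh3⟩ := hsmall
  have hprim : IsPreprimitive G α := isPreprimitive_of_is_two_pretransitive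
    (isMultiplyPretransitive_of_le (n := k) (by omega) (by rw [Nat.card_eq_fintype_card]; omega))
  have hh2 : 2 ≤ h.support.card := two_le_card_support_of_ne_one hh1
  rcases Nat.lt_or_ge h.support.card 3 with hlt | hge
  · rw [subgroup_eq_top_of_isPreprimitive_of_isSwap_mem hprim h (card_support_eq_two.1 (by omega)) hh]
    exact le_top
  · exact alternatingGroup_le_of_isPreprimitive_of_isThreeCycle_mem hprim (card_support_eq_three_iff.1 (by omega)) hh

end Cfsg.Agent.S0711
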