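import Cfsg.Statements.S0712
import Mathlib
import Cfsg.Agent.Lib.Perm.Multi

set_option autoImplicit false
open Cfsg

namespace Cfsg.Agent.S0712

---pre
open MulAction Cfsg.Agent.Perm

/-- Jordan: a primitive group in which the pointwise stabiliser of a set `s` is doubly transitive on the complement of `s` (which has at least 2 points) is `(|s| + 2)`-transitive. -/
theorem result {α : Type*} [Fintype α] [DecidableEq α] (G : Subgroup (Equiv.Perm α)) (hG : MulAction.IsPreprimitive G α) (s : Set α) {m : ℕ} (hsm : s.ncard = m) (hm : m + 2 ≤ Fintype.card α) (h2 : MulAction.IsMultiplyPretransitive (fixingSubgroup G s) (SubMulAction.ofFixingSubgroup G s) 2) : MulAction.IsMultiplyPretransitive G α (m + 2) := by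
  have h2' : ∀ x y z w : α, x ∉ s → y ∉ s → z ∉ s → w ∉ s → x ≠ y → z ≠ w →
      ∃ g : G, (∀ u ∈ s, g • u = u) ∧ g • x = z ∧ g • y = w := by
    intro x y z w hx hy hz hw hxy hzw
    rw [is_two_pretransitive_iff] at h2
    obtain ⟨g, hg1, hg2⟩ := h2 (a := ⟨x, hx⟩) (b := ⟨y, hy⟩) (c := ⟨z, hz⟩) (d := ⟨w, hw⟩)
      (fun e => hxy (congrArg Subtype.val e)) (fun e => hzw (congrArg Subtype.val e))
    exact ⟨g.1, fun u hu => (mem_fixingSubgroup_iff G).1 g.2 u hu,
      congrArg Subtype.val hg1, congrArg Subtype.val hg2⟩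
  have hm1 : IsMultiplyPretransitive G α (m + 1) := by
    rcases Nat.eq_zero_or_pos m with hm0 | hm0
    · subst hm0
      exact is_one_pretransitive_iff.2 inferInstance
    · obtain ⟨n', rfl⟩ : ∃ n', m = n' + 1 := ⟨m - 1, by omega⟩
      have hp2 : IsPreprimitive (fixingSubgroup G s) (SubMulAction.ofFixingSubgroup G s) :=
        isPreprimitive_of_is_two_pretransitive h2
      have h3 := hG.isMultiplyPreprimitive (n := n') hsm (by rw [Nat.card_eq_fintype_card]; omega) hp2
      exact IsMultiplyPreprimitive.isMultiplyPretransitive ..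
  classical
  refine isMultiplyPretransitive_of_fixTrans fun u hu => ?_
  by_cases hum : u.card + 1 ≤ m + 1
  · exact fixTrans_of_isMultiplyPretransitive hm1 hum (by omega)
  · intro a b ha hb
    have huc : u.card = m + 1 := by omega
    obtain ⟨c, hc⟩ : u.Nonempty := Finset.card_pos.1 (by omega)
    -- move `u` minus `c` onto `s`
    have hm0 : IsMultiplyPretransitive G α m :=
      isMultiplyPretransitive_of_le (Nat.le_succ m) (by rw [Nat.card_eq_fintype_card]; omega)
    rw [isMultiplyPretransitive_iff] at hm0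
    have hs : s.toFinset.card = m := by rw [← hsm, Set.ncard_eq_toFinset_card']
    let e1 : Fin m ↪ α := ((u.erase c).equivFinOfCardEq (by rw [Finset.card_erase_of_mem hc, huc]; rfl)).symm.toEmbedding.trans
      (Function.Embedding.subtype _)
    let e2 : Fin m ↪ α := (s.toFinset.equivFinOfCardEq hs).symm.toEmbedding.trans (Function.Embedding.subtype _)
    obtain ⟨g, hg⟩ := hm0 e1 e2
    have hg' : ∀ i, g • e1 i = e2 i := fun i => DFunLike.congr_fun hg i
    have hmem : ∀ x, x ∈ u.erase c ↔ g • x ∈ s := by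
      intro x
      constructor
      · intro hx
        obtain ⟨i, rfl⟩ : ∃ i, e1 i = x := ⟨(u.erase c).equivFinOfCardEq (by rw [Finset.card_erase_of_mem hc, huc]; rfl) ⟨x, hx⟩, by simp [e1]⟩
        rw [hg']
        exact Set.mem_toFinset.1 (Finset.coe_mem _)
      · intro hx
        obtain ⟨i, hi⟩ : ∃ i, e2 i = g • x := ⟨s.toFinset.equivFinOfCardEq hs ⟨g • x, Set.mem_toFinset.2 hx⟩, by simp [e2]⟩
        rw [← hg' i] at hi
        rw [← MulAction.injective g hi]
        exact Finset.coe_mem _
    have out : ∀ x, x ∉ u → g • x ∉ s ∧ g • x ≠ g • c := fun x hx =>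
      ⟨fun h => hx (Finset.mem_of_mem_erase ((hmem x).2 h)), fun h => hx (MulAction.injective g h ▸ hc)⟩
    have hcs : g • c ∉ s := fun h => Finset.notMem_erase c u ((hmem c).2 h)
    obtain ⟨f, hf, hfa, hfc⟩ := h2' _ _ _ _ (out a ha).1 hcs (out b hb).1 hcs (out a ha).2 (out b hb).2
    refine ⟨g⁻¹ * f * g, fun x hx => ?_, ?_⟩
    · rw [mul_smul, mul_smul]
      by_cases hxc : x = c
      · rw [hxc, hfc, inv_smul_smul]
      · rw [hf _ ((hmem x).1 (Finset.mem_erase.2 ⟨hxc, hx⟩)), inv_smul_smul]
    · rw [mul_smul, mul_smul, hfa, inv_smul_smul]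

end Cfsg.Agent.S0712
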