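import Cfsg.Statements.S0714
import Mathlib

set_option autoImplicit false
open Cfsg

namespace Cfsg.Agent.S0714

---pre
open MulAction Equiv Equiv.Perm

/-- Over any field, the permutation module of the alternating group of degree at least 5 has exactly four invariant subspaces: zero, the constant functions, the functions with coordinate sum zero, and everything. -/
theorem result {α : Type*} [Fintype α] [DecidableEq α] (hα : 5 ≤ Fintype.card α) {K : Type*} [Field K] (W : Subrepresentation (Cfsg.permRep K (alternatingGroup α) α)) : W.toSubmodule = ⊥ ∨ W = Cfsg.permConstants K (alternatingGroup α) α ∨ W = Cfsg.permSumZero K (alternatingGroup α) α ∨ W.toSubmodule = ⊤ := by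
  classical
  let Sz := (Cfsg.permSumZero K (alternatingGroup α) α).toSubmodule
  by_cases hall : ∀ v ∈ W.toSubmodule, ∀ x y, v x = v y
  · have hle : W.toSubmodule ≤ Submodule.span K {(fun _ => 1 : α → K)} := by
      intro v hv
      obtain ⟨a⟩ : Nonempty α := Fintype.card_pos_iff.1 (by omega)
      exact Submodule.mem_span_singleton.2 ⟨v a, funext fun x => by simp [hall v hv x a]⟩
    by_cases h0 : W.toSubmodule = ⊥
    · exact Or.inl h0
    refine Or.inr (Or.inl (Subrepresentation.toSubmodule_injective (le_antisymm hle ?_)))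
    obtain ⟨v, hv, hv0⟩ := (Submodule.ne_bot_iff _).1 h0
    obtain ⟨r, rfl⟩ := Submodule.mem_span_singleton.1 (hle hv)
    have hr : r ≠ 0 := fun e => hv0 (by rw [e, zero_smul])
    refine Submodule.span_le.2 (Set.singleton_subset_iff.2 ?_)
    have h1 := W.toSubmodule.smul_mem r⁻¹ hv
    rwa [smul_smul, inv_mul_cancel₀ hr, one_smul] at h1
  push Not at hall
  obtain ⟨v, hv, a, b, hab⟩ := hall
  have hab' : a ≠ b := fun e => hab (by rw [e])
  have hpick : ∀ s : Finset α, s.card ≤ 4 → ∃ x, x ∉ s := fun s hs => by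
    obtain ⟨x, -, hx⟩ := Finset.exists_mem_notMem_of_card_lt_card (s := s) (t := Finset.univ) (by rw [Finset.card_univ]; omega)
    exact ⟨x, hx⟩
  -- double transpositions act
  have hact : ∀ x y z u : α, x ≠ y → z ≠ u → ∀ w ∈ W.toSubmodule, (fun i => w ((Equiv.swap x y * Equiv.swap z u) i)) ∈ W.toSubmodule := by
    intro x y z u hxy hzu w hw
    have hmem : Equiv.swap x y * Equiv.swap z u ∈ alternatingGroup α := by
      rw [mem_alternatingGroup, map_mul, sign_swap hxy, sign_swap hzu]; rfl
    have := W.apply_mem_toSubmodule (⟨_, hmem⟩ : alternatingGroup α)⁻¹ hw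
    have e : Cfsg.permRep K (alternatingGroup α) α (⟨_, hmem⟩ : alternatingGroup α)⁻¹ w = fun i => w ((Equiv.swap x y * Equiv.swap z u) i) := by
      funext i
      show w ((⟨_, hmem⟩ : alternatingGroup α)⁻¹⁻¹ • i) = _
      rw [inv_inv]; rfl
    rwa [e] at this
  -- some difference of point masses lies in `W`
  have hdiff : ∃ x y : α, x ≠ y ∧ (Pi.single x 1 - Pi.single y 1 : α → K) ∈ W.toSubmodule := by
    obtain ⟨c, hc⟩ := hpick {a, b} (by have := Finset.card_le_two (a := a) (b := b); omega)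
    obtain ⟨d, hd⟩ := hpick {a, b, c} (by have := Finset.card_le_three (a := a) (b := b) (c := c); omega)
    obtain ⟨e, he⟩ := hpick {a, b, c, d} (by have := Finset.card_le_four (a := a) (b := b) (c := c) (d := d); omega)
    simp only [Finset.mem_insert, Finset.mem_singleton, not_or] at hc hd he
    have hw : (fun i => v ((Equiv.swap a b * Equiv.swap c d) i)) - v ∈ W.toSubmodule :=
      sub_mem (hact a b c d hab' (Ne.symm hd.2.2) v hv) hv
    set α' := v b - v a with hα'
    set β := v d - v c with hβ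
    have key : ∀ i, v ((Equiv.swap a b * Equiv.swap c d) i) - v i =
        if i = a then α' else if i = b then -α' else if i = c then β else if i = d then -β else 0 := by
      intro i
      simp only [Equiv.Perm.mul_apply]
      by_cases h1 : i = a
      · subst h1; rw [Equiv.swap_apply_of_ne_of_ne (Ne.symm hc.1) (Ne.symm hd.1)]; simp [hα']
      by_cases h2 : i = b
      · subst h2; rw [Equiv.swap_apply_of_ne_of_ne (Ne.symm hc.2) (Ne.symm hd.2.1)]; simp [hα', h1]
      by_cases h3 : i = c
      · subst h3; rw [Equiv.swap_apply_left, Equiv.swap_apply_of_ne_of_ne hd.1 hd.2.1]; simp [hβ, h1, h2]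
      by_cases h4 : i = d
      · subst h4; rw [Equiv.swap_apply_right, Equiv.swap_apply_of_ne_of_ne hc.1 hc.2]; simp [hβ, h1, h2, h3]
      rw [Equiv.swap_apply_of_ne_of_ne h3 h4, Equiv.swap_apply_of_ne_of_ne h1 h2]; simp [h1, h2, h3, h4]
    have hw' : α' • (Pi.single a 1 - Pi.single b 1 : α → K) + β • (Pi.single c 1 - Pi.single d 1) ∈ W.toSubmodule := by
      refine (congrArg (· ∈ W.toSubmodule) ?_).mp hw
      funext i
      rw [Pi.sub_apply, key]
      by_cases h1 : i = a
      · subst h1; simp [hab', Ne.symm hc.1, Ne.symm hd.1]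
      by_cases h2 : i = b
      · subst h2; simp [h1, Ne.symm hc.2, Ne.symm hd.2.1]
      by_cases h3 : i = c
      · subst h3; simp [h1, h2, Ne.symm hd.2.2]
      by_cases h4 : i = d
      · subst h4; simp [h1, h2, h3]
      simp [h1, h2, h3, h4]
    have hα0 : α' ≠ 0 := sub_ne_zero.2 (Ne.symm hab)
    have hscale : ∀ (r : K) (x : α → K), r ≠ 0 → r • x ∈ W.toSubmodule → x ∈ W.toSubmodule := fun r x hr h => by
      have := W.toSubmodule.smul_mem r⁻¹ h
      rwa [smul_smul, inv_mul_cancel₀ hr, one_smul] at this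
    have hw2 := hact a c b d (Ne.symm hc.1) (Ne.symm hd.2.1) _ hw'
    have e2 : (fun i => (α' • (Pi.single a 1 - Pi.single b 1 : α → K) + β • (Pi.single c 1 - Pi.single d 1 : α → K) : α → K) ((Equiv.swap a c * Equiv.swap b d) i)) =
        α' • (Pi.single c 1 - Pi.single d 1 : α → K) + β • (Pi.single a 1 - Pi.single b 1) := by
      funext i
      simp only [Equiv.Perm.mul_apply, Pi.add_apply, Pi.smul_apply, Pi.sub_apply]
      by_cases h1 : i = a
      · subst h1; rw [Equiv.swap_apply_of_ne_of_ne hab' (Ne.symm hd.1), Equiv.swap_apply_left]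
        simp [hab', hc.1, hc.2, Ne.symm hc.1, Ne.symm hd.1, Ne.symm hd.2.2]
      by_cases h3 : i = c
      · subst h3; rw [Equiv.swap_apply_of_ne_of_ne hc.2 (Ne.symm hd.2.2), Equiv.swap_apply_right]
        simp [hab', hc.1, hc.2, Ne.symm hc.1, Ne.symm hd.1, Ne.symm hd.2.2]
      by_cases h2 : i = b
      · subst h2; rw [Equiv.swap_apply_left, Equiv.swap_apply_of_ne_of_ne hd.1 hd.2.2]
        simp [Ne.symm hab', hc.2, hd.1, hd.2.1, hd.2.2, Ne.symm hc.2, Ne.symm hd.2.1]
      by_cases h4 : i = d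
      · subst h4; rw [Equiv.swap_apply_right, Equiv.swap_apply_of_ne_of_ne (Ne.symm hab') (Ne.symm hc.2)]
        simp [Ne.symm hab', hd.1, hd.2.1, hd.2.2, Ne.symm hc.2, Ne.symm hd.2.1]
      rw [Equiv.swap_apply_of_ne_of_ne h2 h4, Equiv.swap_apply_of_ne_of_ne h1 h3]
      simp [h1, h2, h3, h4]
    rw [e2] at hw2
    by_cases hsq : α' * α' - β * β ≠ 0
    · refine ⟨a, b, hab', hscale _ _ hsq ?_⟩
      have := sub_mem (W.toSubmodule.smul_mem α' hw') (W.toSubmodule.smul_mem β hw2)
      refine (congrArg (· ∈ W.toSubmodule) ?_).mp this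
      funext i; simp only [Pi.sub_apply, Pi.add_apply, Pi.smul_apply, smul_eq_mul]; ring
    · push Not at hsq
      -- now `β = ± α'`
      obtain ⟨c', d', hcd, hc', hd', hmem⟩ : ∃ c' d', c' ≠ d' ∧ (c' ∈ ({c, d} : Finset α)) ∧ (d' ∈ ({c, d} : Finset α)) ∧
          (Pi.single a 1 - Pi.single b 1 : α → K) + (Pi.single c' 1 - Pi.single d' 1) ∈ W.toSubmodule := by
        rcases mul_self_eq_mul_self_iff.1 (sub_eq_zero.1 hsq) with hh | hh
        · refine ⟨c, d, Ne.symm hd.2.2, by simp, by simp, hscale α' _ hα0 ?_⟩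
          rw [smul_add]
          nth_rewrite 2 [hh]
          exact hw'
        · refine ⟨d, c, hd.2.2, by simp, by simp, hscale α' _ hα0 ?_⟩
          have e5 : β = -α' := by rw [hh, neg_neg]
          rw [e5] at hw'
          refine (congrArg (· ∈ W.toSubmodule) ?_).mp hw'
          funext i; simp only [Pi.sub_apply, Pi.add_apply, Pi.smul_apply, smul_eq_mul]; ring
      have hca : c' ≠ a ∧ c' ≠ b ∧ c' ≠ e := by
        simp only [Finset.mem_insert, Finset.mem_singleton] at hc'
        rcases hc' with rfl | rfl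
        · exact ⟨hc.1, hc.2, Ne.symm he.2.2.1⟩
        · exact ⟨hd.1, hd.2.1, Ne.symm he.2.2.2⟩
      have hda : d' ≠ a ∧ d' ≠ b ∧ d' ≠ e := by
        simp only [Finset.mem_insert, Finset.mem_singleton] at hd'
        rcases hd' with rfl | rfl
        · exact ⟨hc.1, hc.2, Ne.symm he.2.2.1⟩
        · exact ⟨hd.1, hd.2.1, Ne.symm he.2.2.2⟩
      have h5 := sub_mem hmem (hact a c' d' e (Ne.symm hca.1) hda.2.2 _ hmem)
      refine ⟨e, d', Ne.symm hda.2.2, (congrArg (· ∈ W.toSubmodule) ?_).mp h5⟩
      funext i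
      simp only [Equiv.Perm.mul_apply, Pi.add_apply, Pi.sub_apply]
      by_cases h1 : i = a
      · subst h1; rw [Equiv.swap_apply_of_ne_of_ne (Ne.symm hda.1) (Ne.symm he.1), Equiv.swap_apply_left]
        simp [hab', hca.1, hca.2.1, Ne.symm hca.1, Ne.symm hda.1, Ne.symm he.1, hcd]
      by_cases h3 : i = c'
      · subst h3; rw [Equiv.swap_apply_of_ne_of_ne hcd hca.2.2, Equiv.swap_apply_right]
        simp [hab', hca.1, hca.2.1, hca.2.2, Ne.symm hca.1, Ne.symm hda.1, Ne.symm he.1, hcd]
      by_cases h6 : i = d'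
      · subst h6; rw [Equiv.swap_apply_left, Equiv.swap_apply_of_ne_of_ne he.1 (Ne.symm hca.2.2)]
        simp [hda.1, hda.2.1, hda.2.2, he.1, he.2.1, Ne.symm hca.2.2, Ne.symm hcd, Ne.symm hda.2.2]
      by_cases h7 : i = e
      · subst h7; rw [Equiv.swap_apply_right, Equiv.swap_apply_of_ne_of_ne hda.1 (Ne.symm hcd)]
        simp [hda.1, hda.2.1, hda.2.2, he.1, he.2.1, Ne.symm hca.2.2, Ne.symm hcd, Ne.symm hda.2.2]
      rw [Equiv.swap_apply_of_ne_of_ne h6 h7, Equiv.swap_apply_of_ne_of_ne h1 h3]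
      simp [h6, h7]
  -- all differences
  have hmk : ∀ x y : α, x ≠ y → (Pi.single x 1 - Pi.single y 1 : α → K) ∈ W.toSubmodule := by
    obtain ⟨x0, y0, hne, hmem⟩ := hdiff
    have htr : IsMultiplyPretransitive (alternatingGroup α) α 2 := by
      have := alternatingGroup.isMultiplyPretransitive α
      exact isMultiplyPretransitive_of_le (n := Nat.card α - 2) (by rw [Nat.card_eq_fintype_card]; omega) (by omega)
    intro x y hxy
    have h2t : ∀ {p q r s : α}, p ≠ q → r ≠ s → ∃ g : alternatingGroup α, g • p = r ∧ g • q = s := is_two_pretransitive_iff.1 htr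
    obtain ⟨g, hg1, hg2⟩ := h2t hne hxy
    have h1 := W.apply_mem_toSubmodule g hmem
    refine (congrArg (· ∈ W.toSubmodule) ?_).mp h1
    funext i
    show (Pi.single x0 1 - Pi.single y0 1 : α → K) (g⁻¹ • i) = _
    simp [Pi.single_apply, inv_smul_eq_iff, hg1, hg2]
  have hsz : Sz ≤ W.toSubmodule := by
    intro u hu
    obtain ⟨o⟩ : Nonempty α := ⟨a⟩
    have hu' : ∑ x, u x = 0 := hu
    have : u = ∑ x ∈ Finset.univ.erase o, u x • (Pi.single x 1 - Pi.single o 1 : α → K) := by
      funext i
      simp only [Finset.sum_apply, Pi.smul_apply, Pi.sub_apply, smul_eq_mul, mul_sub, Finset.sum_sub_distrib, Pi.single_apply, mul_ite, mul_one, mul_zero]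
      rw [Finset.sum_ite_eq]
      by_cases hio : i = o
      · subst hio
        rw [if_neg (by simp)]
        simp only [if_true, zero_sub]
        rw [← Finset.add_sum_erase _ _ (Finset.mem_univ i)] at hu'
        exact eq_neg_of_add_eq_zero_left hu'
      · rw [if_pos (Finset.mem_erase.2 ⟨hio, Finset.mem_univ i⟩)]
        simp [hio]
    rw [this]
    exact Submodule.sum_mem _ fun x hx => W.toSubmodule.smul_mem _ (hmk x o (Finset.ne_of_mem_erase hx))
  by_cases hex : W.toSubmodule ≤ Sz
  · exact Or.inr (Or.inr (Or.inl (Subrepresentation.toSubmodule_injective (le_antisymm hex hsz))))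
  · refine Or.inr (Or.inr (Or.inr (Submodule.eq_top_iff'.2 fun u => ?_)))
    obtain ⟨w, hw, hw0⟩ := SetLike.not_le_iff_exists.1 hex
    have hw0' : ∑ x, w x ≠ 0 := hw0
    set r := (∑ x, u x) * (∑ x, w x)⁻¹ with hr
    have h1 : u - r • w ∈ Sz := by
      show ∑ x, (u - r • w : α → K) x = 0
      simp only [Pi.sub_apply, Pi.smul_apply, smul_eq_mul, Finset.sum_sub_distrib, ← Finset.mul_sum]
      rw [hr, mul_assoc, inv_mul_cancel₀ hw0', mul_one, sub_self]
    have h2 := add_mem (hsz h1) (W.toSubmodule.smul_mem r hw)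
    rwa [sub_add_cancel] at h2

end Cfsg.Agent.S0714
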