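import Cfsg.Statements.S0716
import Cfsg.Agent.Lib.Char.CentralizerDegree

set_option autoImplicit false
open Cfsg

namespace Cfsg.Agent.S0716

open Cfsg.Agent.CentRing Cfsg.Agent.Char


/-- (a) If all non-principal irreducible constituents of the permutation character of a transitive group have the same degree `f`, the character is multiplicity-free and all non-trivial subdegrees equal `f`. (b) A transitive group of rank at most 5 has multiplicity-free permutation character. -/
theorem result {G : Type*} [Group G] [Fintype G] {Ω : Type*} [Fintype Ω] [MulAction G Ω] [MulAction.IsPretransitive G Ω] (a : Ω) : ((f : ℕ) → (∀ χ : G → ℂ, Cfsg.IsIrrCharacter G χ → χ ≠ (fun _ => 1) → Cfsg.classInner (fun g : G => (Nat.card (MulAction.fixedBy Ω g) : ℂ)) χ ≠ 0 → χ 1 = f) → (∀ χ : G → ℂ, Cfsg.IsIrrCharacter G χ → Cfsg.classInner (fun g : G => (Nat.card (MulAction.fixedBy Ω g) : ℂ)) χ = 0 ∨ Cfsg.classInner (fun g : G => (Nat.card (MulAction.fixedBy Ω g) : ℂ)) χ = 1) ∧ ∀ b : Ω, b ≠ a → Nat.card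 (MulAction.orbit (MulAction.stabilizer G a) b) = f) ∧ (Nat.card (MulAction.orbitRel.Quotient (MulAction.stabilizer G a) Ω) ≤ 5 → ∀ χ : G → ℂ, Cfsg.IsIrrCharacter G χ → Cfsg.classInner (fun g : G => (Nat.card (MulAction.fixedBy Ω g) : ℂ)) χ = 0 ∨ Cfsg.classInner (fun g : G => (Nat.card (MulAction.fixedBy Ω g) : ℂ)) χ = 1) := by
  classical
  refine ⟨fun f hf => multFree_of_equal_degrees a f hf, fun hr χ hχ => ?_⟩
  haveI := Fintype.ofFinite (IrrCharacter G)
  choose m hm using fun ψ : IrrCharacter G => mult_nat (G := G) (Ω := Ω) ψ.2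
  by_contra hcon
  push Not at hcon
  let one : IrrCharacter G := ⟨(1 : G → ℂ), isIrrCharacter_one⟩
  let i : IrrCharacter G := ⟨χ, hχ⟩
  have hm1 : m one = 1 := by
    have := (hm one).symm.trans (mult_one (G := G) (Ω := Ω) a)
    exact_mod_cast this
  have hi1 : i ≠ one := by
    intro e
    apply hcon.2
    have := hm one
    rw [← e] at this hm1
    rw [show Cfsg.classInner (fun g : G => (Nat.card (MulAction.fixedBy Ω g) : ℂ)) χ = _ from this, hm1, Nat.cast_one]
  have h2 : 2 ≤ m i := by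
    by_contra h
    interval_cases hmv : m i
    · exact hcon.1 (by rw [show Cfsg.classInner (fun g : G => (Nat.card (MulAction.fixedBy Ω g) : ℂ)) χ = _ from hm i, hmv, Nat.cast_zero])
    · exact hcon.2 (by rw [show Cfsg.classInner (fun g : G => (Nat.card (MulAction.fixedBy Ω g) : ℂ)) χ = _ from hm i, hmv, Nat.cast_one])
  have hs : Nat.card (MulAction.orbitRel.Quotient (MulAction.stabilizer G a) Ω) = ∑ ψ : IrrCharacter G, m ψ ^ 2 := by
    have h1 := card_orbits_prod_eq (G := G) (Ω := Ω)
    rw [classInner_pc_self] at h1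
    simp only [hm] at h1
    rw [← card_orbits_prod_stabilizer (G := G) a]
    exact_mod_cast h1
  rw [← Finset.add_sum_erase _ _ (Finset.mem_univ one), hm1,
    ← Finset.add_sum_erase _ _ (Finset.mem_erase.2 ⟨hi1, Finset.mem_univ i⟩)] at hs
  have h4 : 4 ≤ m i ^ 2 := by nlinarith
  have h0 : ∑ ψ ∈ (Finset.univ.erase one).erase i, m ψ ^ 2 = 0 := by rw [one_pow] at hs; omega
  rw [Finset.sum_eq_zero_iff] at h0
  obtain ⟨d, hd⟩ := IsCharacter.exists_degree (IsIrrCharacter.isCharacter hχ)
  have key := (multFree_of_equal_degrees (G := G) a d fun ψ hψ hne hmne => ?_).1 χ hχ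
  · rcases key with k | k
    · exact hcon.1 k
    · exact hcon.2 k
  · have : (⟨ψ, hψ⟩ : IrrCharacter G) = i := by
      by_contra hni
      have h := h0 ⟨ψ, hψ⟩ (Finset.mem_erase.2 ⟨hni, Finset.mem_erase.2 ⟨fun e => hne (congrArg Subtype.val e), Finset.mem_univ _⟩⟩)
      exact hmne (by rw [show mult G Ω ψ = _ from hm ⟨ψ, hψ⟩, pow_eq_zero_iff two_ne_zero |>.1 h, Nat.cast_zero])
    rw [show ψ = χ from congrArg Subtype.val this]
    exact hd

end Cfsg.Agent.S0716
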