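import Cfsg.Statements.S0717
import Cfsg.Agent.Lib.Char.Centralizer

set_option autoImplicit false
open Cfsg

namespace Cfsg.Agent.S0717

open Cfsg.Agent.CentRing Cfsg.Agent.Char
open scoped ComplexConjugate Matrix


/-- All suborbits of a transitive group are self-paired (every pair of points is interchanged by some group element) if and only if the permutation character is multiplicity-free and each of its irreducible constituents is real-valued. -/
theorem result {G : Type*} [Group G] [Fintype G] {Ω : Type*} [Fintype Ω] [MulAction G Ω] [MulAction.IsPretransitive G Ω] : (∀ a b : Ω, ∃ g : G, g • a = b ∧ g • b = a) ↔ ∀ χ : G → ℂ, Cfsg.IsIrrCharacter G χ → Cfsg.classInner (fun g : G => (Nat.card (MulAction.fixedBy Ω g) : ℂ)) χ ≠ 0 → Cfsg.classInner (fun g : G => (Nat.card (MulAction.fixedBy Ω g) : ℂ)) χ = 1 ∧ ∀ g : G, (starRingEnd ℂ) (χ g) = χ g := by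
  classical
  constructor
  · intro hsym χ hχ h0
    have hA : ∀ A : Matrix Ω Ω ℂ, Invar G Ω A → Aᵀ = A := fun A hA => by
      ext a b
      obtain ⟨g, h1, h2⟩ := hsym a b
      rw [Matrix.transpose_apply, ← hA g a b, h1, h2]
    have hcomm : ∀ A B : Matrix Ω Ω ℂ, Invar G Ω A → Invar G Ω B → A * B = B * A := fun A B ha hb => by
      have hAB : Invar G Ω (A * B) := fun g a b => by
        simp only [Matrix.mul_apply]
        exact (Fintype.sum_equiv (MulAction.toPerm g) _ _ fun x => by simp [MulAction.toPerm_apply, ha g a x, hb g x b]).symm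
      rw [← hA _ hAB, Matrix.transpose_mul, hA A ha, hA B hb]
    have hmult : mult G Ω χ ≠ 0 := h0
    have hone := (multFree_of_comm hcomm hχ).resolve_left hmult
    refine ⟨hone, fun g => ?_⟩
    have hχc := IsIrrCharacter.conj hχ
    have hM : mult G Ω (fun g => conj (χ g)) = mult G Ω χ := mult_conj ⟨1, by rw [hone, Nat.cast_one]⟩
    have heq : opMat G Ω (dualFun χ) = opMat G Ω (dualFun fun g => conj (χ g)) := by
      have h := hA _ (invar_opMat (Ω := Ω) (isClassFunction_dualFun
        (IsCharacter.isClassFunction (IsIrrCharacter.isCharacter hχ))))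
      conv_lhs => rw [← h]
      ext a b
      simp only [Matrix.transpose_apply, opMat, Matrix.of_apply]
      refine Finset.sum_equiv (Equiv.inv G) (fun x => ?_) fun x _ => ?_
      · simp only [Finset.mem_filter, Finset.mem_univ, true_and, Equiv.inv_apply]
        exact ⟨fun e => by rw [← e, inv_smul_smul], fun e => by rw [← e, smul_inv_smul]⟩
      · simp only [dualFun, Equiv.inv_apply, inv_inv]
        rw [IsCharacter.map_inv (IsIrrCharacter.isCharacter hχ)]
    by_contra hne
    have hne' : χ ≠ fun g => conj (χ g) := fun e => hne (congrFun e g).symm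
    let i : Cons G Ω := ⟨⟨χ, hχ⟩, hmult⟩
    let j : Cons G Ω := ⟨⟨fun g => conj (χ g), hχc⟩, by rw [hM]; exact hmult⟩
    have : i = j := (linearIndependent_opMat (G := G) (Ω := Ω)).injective heq
    exact hne' (congrArg (fun k : Cons G Ω => ((k : IrrCharacter G) : G → ℂ)) this)
  · intro hmf a b
    haveI := Fintype.ofFinite (Cons G Ω)
    have hmf' : ∀ χ : G → ℂ, IsIrrCharacter G χ → mult G Ω χ = 0 ∨ mult G Ω χ = 1 := fun χ hχ => by
      by_cases h : mult G Ω χ = 0
      · exact Or.inl h
      · exact Or.inr (hmf χ hχ h).1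
    let A : Matrix Ω Ω ℂ := Matrix.of fun x y => if ∃ g : G, g • a = x ∧ g • b = y then 1 else 0
    have hA : Invar G Ω A := fun k x y => by
      simp only [A, Matrix.of_apply]
      refine if_congr ⟨?_, ?_⟩ rfl rfl
      · rintro ⟨g, h1, h2⟩
        exact ⟨k⁻¹ * g, by rw [mul_smul, h1, inv_smul_smul], by rw [mul_smul, h2, inv_smul_smul]⟩
      · rintro ⟨g, h1, h2⟩
        exact ⟨k * g, by rw [mul_smul, h1], by rw [mul_smul, h2]⟩
    obtain ⟨d, hd⟩ := exists_expansion hmf' hA
    have hsymA : A b a = A a b := by
      rw [← hd]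
      simp only [Matrix.sum_apply, Matrix.smul_apply]
      refine Finset.sum_congr rfl fun χ _ => congrArg _ ?_
      simp only [opMat, Matrix.of_apply]
      refine Finset.sum_equiv (Equiv.inv G) (fun x => ?_) fun x _ => ?_
      · simp only [Finset.mem_filter, Finset.mem_univ, true_and, Equiv.inv_apply]
        exact ⟨fun e => by rw [← e, inv_smul_smul], fun e => by rw [← e, smul_inv_smul]⟩
      · simp only [dualFun, Equiv.inv_apply, inv_inv]
        rw [IsCharacter.map_inv (IsIrrCharacter.isCharacter χ.1.2)]
        exact (hmf _ χ.1.2 χ.2).2 x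
    simp only [A, Matrix.of_apply] at hsymA
    rw [if_pos (show ∃ g : G, g • a = a ∧ g • b = b from ⟨1, one_smul _ _, one_smul _ _⟩)] at hsymA
    split_ifs at hsymA with h
    · exact h
    · exact absurd hsymA zero_ne_one

end Cfsg.Agent.S0717
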