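import Cfsg.Statements.S0718
import Cfsg.Agent.Lib.Char.Centralizer

set_option autoImplicit false
open Cfsg

namespace Cfsg.Agent.S0718

open Cfsg.Agent.CentRing


/-- Multiplicity-freeness of the permutation character is equivalent to commutativity of the centraliser ring, i.e. of the algebra of `G`-equivariant endomorphisms of the complex permutation module. -/
theorem result {G : Type*} [Group G] [Fintype G] {Ω : Type*} [Fintype Ω] [MulAction G Ω] : (∀ χ : G → ℂ, Cfsg.IsIrrCharacter G χ → Cfsg.classInner (fun g : G => (Nat.card (MulAction.fixedBy Ω g) : ℂ)) χ = 0 ∨ Cfsg.classInner (fun g : G => (Nat.card (MulAction.fixedBy Ω g) : ℂ)) χ = 1) ↔ ∀ S T : (Ω → ℂ) →ₗ[ℂ] (Ω → ℂ), S ∈ ((Cfsg.permRep ℂ G Ω).linHom (Cfsg.permRep ℂ G Ω)).invariants → T ∈ ((Cfsg.permRep ℂ G Ω).linHom (Cfsg.permRep ℂ G Ω)).invariants → S ∘ₗ T = T ∘ₗ S := by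
  classical
  have hmem : ∀ T : (Ω → ℂ) →ₗ[ℂ] (Ω → ℂ),
      T ∈ ((Cfsg.permRep ℂ G Ω).linHom (Cfsg.permRep ℂ G Ω)).invariants ↔ Invar G Ω (LinearMap.toMatrix' T) := by
    intro T
    rw [← invar_iff_comm, Representation.mem_invariants]
    refine forall_congr' fun g => ?_
    rw [Representation.linHom_apply]
    have e1 : Cfsg.permRep ℂ G Ω g⁻¹ ∘ₗ Cfsg.permRep ℂ G Ω g = LinearMap.id := by
      rw [← Module.End.mul_eq_comp, ← map_mul, inv_mul_cancel, map_one, Module.End.one_eq_id]
    have e2 : Cfsg.permRep ℂ G Ω g ∘ₗ Cfsg.permRep ℂ G Ω g⁻¹ = LinearMap.id := by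
      rw [← Module.End.mul_eq_comp, ← map_mul, mul_inv_cancel, map_one, Module.End.one_eq_id]
    constructor
    · intro h
      have h' := congrArg (fun S => S ∘ₗ Cfsg.permRep ℂ G Ω g) h
      simp only [LinearMap.comp_assoc, e1, LinearMap.comp_id] at h'
      exact h'.symm
    · intro h
      rw [← LinearMap.comp_assoc, ← h, LinearMap.comp_assoc, e2, LinearMap.comp_id]
  constructor
  · intro hmf S T hS hT
    apply LinearMap.toMatrix'.injective
    rw [LinearMap.toMatrix'_comp, LinearMap.toMatrix'_comp]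
    exact comm_of_multFree hmf ((hmem S).1 hS) ((hmem T).1 hT)
  · intro hc χ hχ
    refine multFree_of_comm (fun A B hA hB => ?_) hχ
    have h := hc (Matrix.toLin' A) (Matrix.toLin' B) ((hmem _).2 (by rwa [LinearMap.toMatrix'_toLin']))
      ((hmem _).2 (by rwa [LinearMap.toMatrix'_toLin']))
    rw [← Matrix.toLin'_mul, ← Matrix.toLin'_mul] at h
    exact Matrix.toLin'.injective h

end Cfsg.Agent.S0718
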