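import Cfsg.Statements.S0719
import Cfsg.Agent.Lib.Char.CentralizerIdem
import Cfsg.Agent.S0717

set_option autoImplicit false
open Cfsg

namespace Cfsg.Agent.S0719

open Cfsg.Agent.CentRing Cfsg.Agent.Char MulAction
open scoped ComplexConjugate Matrix

theorem arith (m d : ℕ) (y r : ℤ) (hd2 : 2 ≤ d) (hdm : d + 1 ≤ m) (hr : r = d + m * y)
    (h : (d : ℤ) ^ 2 + (m - 1) * r ^ 2 + m * (y - r) ^ 2 = 2 * m * d) :
    ∃ a : ℕ, 0 < a ∧ m = 2 * a ^ 2 + 2 * a + 1 ∧ d = a * (2 * a + 1) := by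
  have hbig : ∀ t : ℤ, (m : ℤ) ≤ t → r ^ 2 = t ^ 2 → False := by
    intro t ht hrt
    have h1 : (m : ℤ) ^ 2 ≤ r ^ 2 := by rw [hrt]; nlinarith
    nlinarith
  rcases le_or_gt 1 y with hy | hy
  · exact (hbig r (by nlinarith) rfl).elim
  rcases le_or_gt y (-2) with hy' | hy'
  · exact (hbig (-r) (by nlinarith) (by ring)).elim
  obtain rfl | rfl : y = 0 ∨ y = -1 := by omega
  · subst hr
    exfalso
    have : (d : ℤ) * (2 * m * ((d : ℤ) - 1)) = 0 := by linear_combination h
    have hp : (0 : ℤ) < (d : ℤ) * (2 * m * ((d : ℤ) - 1)) := by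
      have : (0 : ℤ) < (d : ℤ) - 1 := by omega
      have : (0 : ℤ) < (m : ℤ) := by omega
      positivity
    omega
  · have hm0 : (m : ℤ) ≠ 0 := by omega
    obtain ⟨a, ha⟩ : ∃ a : ℕ, (a : ℤ) + 1 = (m : ℤ) - d := ⟨m - d - 1, by omega⟩
    have hu : r = -((a : ℤ) + 1) := by omega
    have hm : (m : ℤ) = 2 * (a : ℤ) ^ 2 + 2 * a + 1 := by
      have hd' : (d : ℤ) = m - a - 1 := by omega
      subst hu
      rw [hd'] at h
      have h' : (m : ℤ) * (2 * (a : ℤ) ^ 2 + 2 * a + 1 - m) = 0 := by linear_combination h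
      have := (mul_eq_zero.1 h').resolve_left hm0
      omega
    have hmn : m = 2 * a ^ 2 + 2 * a + 1 := by exact_mod_cast hm
    refine ⟨a, ?_, hmn, ?_⟩
    · rcases Nat.eq_zero_or_pos a with rfl | h0
      · omega
      · exact h0
    · have : a * (2 * a + 1) = 2 * a ^ 2 + a := by ring
      omega


/-- Groups of Wielandt type: if a primitive group of degree `2m` has rank 3 and permutation character `1 + χ₁ + χ₂` with irreducible `χ₁, χ₂` of degrees `m - 1` and `m`, then `m = 2a² + 2a + 1` for some positive integer `a` and the two non-trivial subdegrees are `a(2a+1)` and `(a+1)(2a+1)`. -/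
theorem result {G : Type*} [Group G] [Fintype G] {Ω : Type*} [Fintype Ω] [MulAction G Ω] (hprim : MulAction.IsPreprimitive G Ω) {m : ℕ} (hm : Fintype.card Ω = 2 * m) (a₀ : Ω) (hrank : Nat.card (MulAction.orbitRel.Quotient (MulAction.stabilizer G a₀) Ω) = 3) (χ₁ χ₂ : G → ℂ) (h₁ : Cfsg.IsIrrCharacter G χ₁) (h₂ : Cfsg.IsIrrCharacter G χ₂) (hπ : (fun g : G => (Nat.card (MulAction.fixedBy Ω g) : ℂ)) = fun g => 1 + χ₁ g + χ₂ g) (hd₁ : χ₁ 1 = (m : ℂ) - 1) (hd₂ : χ₂ 1 = m) : ∃ a : ℕ, 0 < a ∧ m = 2 * a ^ 2 + 2 * a + 1 ∧ ∀ b : Ω, b ≠ a₀ → Nat.card (MulAction.orbit (MulAction.stabilizer G a₀) b) = a * (2 * a + 1) ∨ Nat.card (MulAction.orbit (MulAction.stabilizer G a₀) b) = (a + 1) * (2 * a + 1) := by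
  classical
  haveI := hprim
  haveI : IsPretransitive G Ω := hprim.toIsPretransitive
  haveI : Fintype (orbitRel.Quotient (stabilizer G a₀) Ω) := Fintype.ofFinite _
  haveI := Fintype.ofFinite (Cons G Ω)
  -- constituents
  have hone : IsIrrCharacter G (fun _ => (1 : ℂ)) := isIrrCharacter_one
  have hmult : ∀ χ, mult G Ω χ = classInner (fun _ : G => (1 : ℂ)) χ + classInner χ₁ χ + classInner χ₂ χ := fun χ => by
    rw [mult, show pc G Ω = ((fun _ : G => (1 : ℂ)) + χ₁ + χ₂) from hπ, classInner_add_left, classInner_add_left]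
  have hci : ∀ {φ ψ : G → ℂ}, IsIrrCharacter G φ → IsIrrCharacter G ψ →
      classInner φ ψ = if φ = ψ then 1 else 0 := fun {φ ψ} hφ hψ => by
    split_ifs with e
    · subst e; exact IsIrrCharacter.classInner_self hφ
    · exact IsIrrCharacter.classInner_eq_zero hφ hψ e
  have hne12 : χ₁ ≠ χ₂ := fun e => by
    rw [e, hd₂] at hd₁
    exact one_ne_zero (α := ℂ) (by linear_combination hd₁)
  have h11 : χ₁ ≠ (fun _ => 1) ∧ χ₂ ≠ (fun _ => 1) := by
    have h := (hmult _).symm.trans (mult_one (G := G) a₀)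
    rw [hci hone hone, hci h₁ hone, hci h₂ hone, if_pos rfl] at h
    refine ⟨fun e => ?_, fun e => ?_⟩
    · rw [if_pos e] at h; split_ifs at h <;> norm_num at h
    · rw [if_pos e] at h; split_ifs at h <;> norm_num at h
  have hmval : ∀ χ, IsIrrCharacter G χ → (χ = (fun _ => 1) ∨ χ = χ₁ ∨ χ = χ₂) ∧ mult G Ω χ = 1 ∨
      ¬(χ = (fun _ => 1) ∨ χ = χ₁ ∨ χ = χ₂) ∧ mult G Ω χ = 0 := fun χ hχ => by
    rw [hmult, hci hone hχ, hci h₁ hχ, hci h₂ hχ]
    by_cases e0 : χ = fun _ => 1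
    · subst e0; exact Or.inl ⟨Or.inl rfl, by simp [h11.1, h11.2]⟩
    by_cases e1 : χ = χ₁
    · subst e1; exact Or.inl ⟨Or.inr (Or.inl rfl), by simp [Ne.symm e0, hne12.symm]⟩
    by_cases e2 : χ = χ₂
    · subst e2; exact Or.inl ⟨Or.inr (Or.inr rfl), by simp [Ne.symm e0, hne12]⟩
    exact Or.inr ⟨by tauto, by simp [Ne.symm e0, Ne.symm e1, Ne.symm e2]⟩
  have hmf : ∀ χ, IsIrrCharacter G χ → mult G Ω χ = 0 ∨ mult G Ω χ = 1 := fun χ hχ => by
    rcases hmval χ hχ with h | h
    · exact Or.inr h.2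
    · exact Or.inl h.2
  have hcons : ∀ χ, IsIrrCharacter G χ → mult G Ω χ ≠ 0 → χ = (fun _ => 1) ∨ χ = χ₁ ∨ χ = χ₂ := fun χ hχ h0 => by
    rcases hmval χ hχ with h | h
    · exact h.1
    · exact absurd h.2 h0
  have hM : ∀ χ, IsIrrCharacter G χ → (χ = (fun _ => 1) ∨ χ = χ₁ ∨ χ = χ₂) → mult G Ω χ = 1 := fun χ hχ h => by
    rcases hmval χ hχ with h' | h'
    · exact h'.2
    · exact absurd h h'.1
  -- all suborbits are self-paired
  have hgen := (Cfsg.Agent.S0717.result (G := G) (Ω := Ω)).2 fun χ hχ h0 => by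
    have hM' := (hmf χ hχ).resolve_left h0
    refine ⟨hM', fun g => ?_⟩
    have hχc := IsIrrCharacter.conj hχ
    have hcc : mult G Ω (fun g => conj (χ g)) ≠ 0 := by
      rw [mult_conj ⟨1, by rw [hM', Nat.cast_one]⟩, hM']; exact one_ne_zero
    suffices e : (fun g => conj (χ g)) = χ from congrFun e g
    rcases hcons χ hχ h0 with rfl | rfl | rfl
    · funext g; simp
    · rcases hcons _ hχc hcc with e | e | e
      · exact absurd (funext fun x => by simpa using congrArg conj (congrFun e x)) h11.1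
      · exact e
      · have := congrFun e 1
        rw [hd₁, hd₂, map_sub, Complex.conj_natCast, map_one] at this
        exact absurd (show (1 : ℂ) = 0 by linear_combination -this) one_ne_zero
    · rcases hcons _ hχc hcc with e | e | e
      · exact absurd (funext fun x => by simpa using congrArg conj (congrFun e x)) h11.2
      · have := congrFun e 1
        rw [hd₁, hd₂, Complex.conj_natCast] at this
        exact absurd (show (1 : ℂ) = 0 by linear_combination this) one_ne_zero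
      · exact e
  -- orbits
  set U := stabilizer G a₀ with hU
  let q₀ : orbitRel.Quotient U Ω := Quotient.mk'' a₀
  have hE : (Finset.univ.erase q₀).card = 2 := by
    rw [Finset.card_erase_of_mem (Finset.mem_univ _), Finset.card_univ, ← Nat.card_eq_fintype_card, hrank]
  obtain ⟨qb, qc, hqbc, hEq⟩ := Finset.card_eq_two.1 hE
  obtain ⟨b, rfl⟩ := Quotient.exists_rep qb
  obtain ⟨c, rfl⟩ := Quotient.exists_rep qc
  have horb0 : Nat.card (orbit U a₀) = 1 := by
    rw [Nat.card_eq_one_iff_unique]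
    exact ⟨⟨fun x y => Subtype.ext (by
      obtain ⟨u, hu⟩ := x.2; obtain ⟨v, hv⟩ := y.2
      rw [← hu, ← hv]; exact (u.2 : (u : G) • a₀ = a₀).trans (v.2 : (v : G) • a₀ = a₀).symm)⟩, ⟨⟨a₀, mem_orbit_self a₀⟩⟩⟩
  have hsum : Nat.card (orbit U b) + Nat.card (orbit U c) + 1 = 2 * m := by
    rw [← hm, ← Nat.card_eq_fintype_card (α := Ω), Nat.card_congr (selfEquivSigmaOrbits' U Ω), Nat.card_sigma,
      ← Finset.add_sum_erase _ _ (Finset.mem_univ q₀), hEq, Finset.sum_pair hqbc]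
    have e : ∀ y : Ω, (⟦y⟧ : orbitRel.Quotient U Ω) = Quotient.mk'' y := fun y => rfl
    simp only [q₀, e, orbitRel.Quotient.orbit_mk, horb0]
    omega
  have hcase : ∀ y : Ω, y ≠ a₀ → orbit U y = orbit U b ∨ orbit U y = orbit U c := by
    intro y hy
    have h0 : (Quotient.mk'' y : orbitRel.Quotient U Ω) ≠ q₀ := by
      intro e
      obtain ⟨u, hu⟩ := Quotient.exact' e
      exact hy (hu.symm.trans (u.2 : (u : G) • a₀ = a₀))
    have := Finset.mem_erase.2 ⟨h0, Finset.mem_univ _⟩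
    rw [hEq] at this
    rcases Finset.mem_insert.1 this with e | e
    · exact Or.inl (orbit_eq_iff.2 (Quotient.exact' e))
    · exact Or.inr (orbit_eq_iff.2 (Quotient.exact' (Finset.mem_singleton.1 e)))
  have hba : b ≠ a₀ ∧ c ≠ a₀ := by
    constructor
    · intro e
      have : (⟦b⟧ : orbitRel.Quotient U Ω) ∈ Finset.univ.erase q₀ := by rw [hEq]; exact Finset.mem_insert_self _ _
      exact (Finset.mem_erase.1 this).1 (by rw [e])
    · intro e
      have : (⟦c⟧ : orbitRel.Quotient U Ω) ∈ Finset.univ.erase q₀ := by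
        rw [hEq]; exact Finset.mem_insert_of_mem (Finset.mem_singleton_self _)
      exact (Finset.mem_erase.1 this).1 (by rw [e])
  suffices main : ∀ b c : Ω, b ≠ a₀ → c ≠ a₀ →
      (∀ y, y ≠ a₀ → orbit U y = orbit U b ∨ orbit U y = orbit U c) → orbit U b ≠ orbit U c →
      Nat.card (orbit U b) + Nat.card (orbit U c) + 1 = 2 * m → Nat.card (orbit U b) + 1 ≤ m →
      ∃ a : ℕ, 0 < a ∧ m = 2 * a ^ 2 + 2 * a + 1 ∧ Nat.card (orbit U b) = a * (2 * a + 1) by
    have hne : orbit U b ≠ orbit U c := fun e => hqbc (Quotient.sound (orbit_eq_iff.1 e))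
    have fin : ∀ b c : Ω, (∀ y, y ≠ a₀ → orbit U y = orbit U b ∨ orbit U y = orbit U c) →
        Nat.card (orbit U b) + Nat.card (orbit U c) + 1 = 2 * m →
        (∃ a : ℕ, 0 < a ∧ m = 2 * a ^ 2 + 2 * a + 1 ∧ Nat.card (orbit U b) = a * (2 * a + 1)) →
        ∃ a : ℕ, 0 < a ∧ m = 2 * a ^ 2 + 2 * a + 1 ∧ ∀ y : Ω, y ≠ a₀ →
          Nat.card (orbit U y) = a * (2 * a + 1) ∨ Nat.card (orbit U y) = (a + 1) * (2 * a + 1) := by
      rintro b c hcase hsum ⟨a, h0, h1, h2⟩
      refine ⟨a, h0, h1, fun y hy => ?_⟩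
      rcases hcase y hy with e | e
      · left; rw [e, h2]
      · right
        rw [e]
        have e1 : a * (2 * a + 1) = 2 * a ^ 2 + a := by ring
        have e2 : (a + 1) * (2 * a + 1) = 2 * a ^ 2 + 3 * a + 1 := by ring
        omega
    rcases le_or_gt (Nat.card (orbit U b) + 1) m with h | h
    · exact fin b c hcase hsum (main b c hba.1 hba.2 hcase hne hsum h)
    · exact fin c b (fun y hy => (hcase y hy).symm) (by omega)
        (main c b hba.2 hba.1 (fun y hy => (hcase y hy).symm) hne.symm (by omega) (by omega))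
  intro b c hb hc hcase hne hsum hle
  set d := Nat.card (orbit U b) with hd
  -- the subdegree is at least two
  have hd2 : 2 ≤ d := by
    haveI : Nonempty (orbit U b) := ⟨⟨b, mem_orbit_self b⟩⟩
    have hpos : 0 < d := Nat.card_pos
    by_contra hlt
    have hd1 : d = 1 := by omega
    haveI : Subsingleton (orbit U b) := (Nat.card_eq_one_iff_unique.1 hd1).1
    have hfix : U ≤ stabilizer G b := fun u hu => by
      have := Subsingleton.elim (⟨(⟨u, hu⟩ : U) • b, mem_orbit b _⟩ : orbit U b) ⟨b, mem_orbit_self b⟩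
      exact congrArg Subtype.val this
    haveI : Nontrivial Ω := ⟨⟨b, a₀, hb⟩⟩
    have hco := IsPreprimitive.isCoatom_stabilizer_of_isPreprimitive (G := G) a₀
    have heq : U = stabilizer G b :=
      ((hco.le_iff).1 hfix).resolve_left (IsPreprimitive.isCoatom_stabilizer_of_isPreprimitive (G := G) b).1 |>.symm
    obtain ⟨g, hg⟩ := exists_smul_eq G a₀ b
    have hN : Subgroup.normalizer (U : Set G) = ⊤ := by
      refine ((hco.le_iff).1 Subgroup.le_normalizer).resolve_right fun e => ?_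
      have : g ∈ Subgroup.normalizer (U : Set G) := by
        rw [Subgroup.mem_normalizer_iff_map_conj_eq]
        nth_rewrite 2 [heq]
        rw [← hg, stabilizer_smul_eq_stabilizer_map_conj]
        rfl
      rw [e] at this
      exact hb (hg.symm.trans this)
    haveI : U.Normal := Subgroup.normalizer_eq_top_iff.1 hN
    have hc1 : Nat.card (orbit U c) = 1 := by
      rw [Nat.card_eq_one_iff_unique]
      obtain ⟨k, hk⟩ := exists_smul_eq G a₀ c
      have hfc : ∀ u : U, u • c = c := fun u => by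
        have h := (Subgroup.Normal.conj_mem (H := U) inferInstance u u.2 k⁻¹ : k⁻¹ * (u : G) * k⁻¹⁻¹ ∈ stabilizer G a₀)
        rw [mem_stabilizer_iff, inv_inv, mul_smul, mul_smul, hk, inv_smul_eq_iff, hk] at h
        exact h
      exact ⟨⟨fun x y => Subtype.ext (by
        obtain ⟨u, hu⟩ := x.2; obtain ⟨v, hv⟩ := y.2
        exact (hu.symm.trans (hfc u)).trans ((hv.symm.trans (hfc v)).symm))⟩, ⟨⟨c, mem_orbit_self c⟩⟩⟩
    omega
  -- the matrix of the suborbit
  let A : Matrix Ω Ω ℂ := Matrix.of fun x y => if ∃ g : G, g • a₀ = x ∧ g • b = y then 1 else 0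
  have hA : Invar G Ω A := fun k x y => by
    simp only [A, Matrix.of_apply]
    refine if_congr ⟨?_, ?_⟩ rfl rfl
    · rintro ⟨g, h1, h2⟩
      exact ⟨k⁻¹ * g, by rw [mul_smul, h1, inv_smul_smul], by rw [mul_smul, h2, inv_smul_smul]⟩
    · rintro ⟨g, h1, h2⟩
      exact ⟨k * g, by rw [mul_smul, h1], by rw [mul_smul, h2]⟩
  have hsymA : ∀ x y, A y x = A x y := fun x y => by
    obtain ⟨g, h1, h2⟩ := hgen x y
    rw [← hA g x y, h1, h2]
  have hrow : ∀ y, A a₀ y = if y ∈ orbit U b then 1 else 0 := fun y => by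
    simp only [A, Matrix.of_apply]
    exact if_congr ⟨fun ⟨g, h1, h2⟩ => ⟨⟨g, h1⟩, h2⟩, fun ⟨g, h2⟩ => ⟨g.1, g.2, h2⟩⟩ rfl rfl
  have hrowsum : ∑ y, A a₀ y = d := by
    simp only [hrow, Finset.sum_boole, hd, Nat.card_eq_fintype_card]
    congr 1
    exact (Fintype.card_subtype _).symm
  have hdiag : ∀ x, A x x = 0 := fun x => by
    simp only [A, Matrix.of_apply]
    rw [if_neg]
    rintro ⟨g, h1, h2⟩
    exact hb (MulAction.injective g (h2.trans h1.symm))
  have hAAinv : Invar G Ω (A * A) := fun g x y => by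
    simp only [Matrix.mul_apply]
    exact (Fintype.sum_equiv (MulAction.toPerm g) _ _ fun z => by simp [MulAction.toPerm_apply, hA g x z, hA g z y]).symm
  have hAAdiag : ∀ x, (A * A) x x = d := fun x => by
    obtain ⟨g, rfl⟩ := exists_smul_eq G a₀ x
    rw [hAAinv, Matrix.mul_apply, ← hrowsum]
    refine Finset.sum_congr rfl fun y _ => ?_
    rw [hsymA a₀ y, hrow]
    split_ifs <;> simp
  -- its expansion
  let i0 : Cons G Ω := ⟨⟨fun _ => 1, hone⟩, by rw [hM _ hone (Or.inl rfl)]; exact one_ne_zero⟩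
  let i1 : Cons G Ω := ⟨⟨χ₁, h₁⟩, by rw [hM _ h₁ (Or.inr (Or.inl rfl))]; exact one_ne_zero⟩
  let i2 : Cons G Ω := ⟨⟨χ₂, h₂⟩, by rw [hM _ h₂ (Or.inr (Or.inr rfl))]; exact one_ne_zero⟩
  have huniv : (Finset.univ : Finset (Cons G Ω)) = {i0, i1, i2} := by
    ext i
    simp only [Finset.mem_univ, true_iff, Finset.mem_insert, Finset.mem_singleton]
    rcases hcons _ i.1.2 i.2 with e | e | e
    · exact Or.inl (Subtype.ext (Subtype.ext e))
    · exact Or.inr (Or.inl (Subtype.ext (Subtype.ext e)))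
    · exact Or.inr (Or.inr (Subtype.ext (Subtype.ext e)))
  have hi01 : i0 ≠ i1 := fun e => h11.1 (congrArg (fun k : Cons G Ω => ((k : IrrCharacter G) : G → ℂ)) e).symm
  have hi02 : i0 ≠ i2 := fun e => h11.2 (congrArg (fun k : Cons G Ω => ((k : IrrCharacter G) : G → ℂ)) e).symm
  have hi12 : i1 ≠ i2 := fun e => hne12 (congrArg (fun k : Cons G Ω => ((k : IrrCharacter G) : G → ℂ)) e)
  obtain ⟨e, he⟩ := exists_expansion hmf hA
  rw [huniv, Finset.sum_insert (by simp [hi01, hi02]), Finset.sum_insert (by simp [hi12]), Finset.sum_singleton] at he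
  have hG : (Nat.card G : ℂ) ≠ 0 := Nat.cast_ne_zero.mpr Nat.card_pos.ne'
  have hsc : ∀ (χ : G → ℂ), IsIrrCharacter G χ → ∀ z : ℂ,
      z • opMat G Ω (dualFun χ) = (z * Nat.card G / χ 1) • idem G Ω χ := fun χ hχ z => by
    have := IsIrrCharacter.apply_one_ne_zero hχ
    rw [idem, smul_smul]
    congr 1
    field_simp
  obtain ⟨c0, c1, c2, hAe⟩ : ∃ c0 c1 c2 : ℂ,
      A = c0 • idem G Ω (fun _ => 1) + c1 • idem G Ω χ₁ + c2 • idem G Ω χ₂ := by
    refine ⟨e i0 * Nat.card G / 1, e i1 * Nat.card G / χ₁ 1, e i2 * Nat.card G / χ₂ 1, ?_⟩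
    rw [← he, hsc _ i0.1.2, hsc _ i1.1.2, hsc _ i2.1.2, add_assoc]
  have m00 := idem_mul_self (Ω := Ω) hone
  have m11 := idem_mul_self (Ω := Ω) h₁
  have m22 := idem_mul_self (Ω := Ω) h₂
  have m01 := idem_mul_ne (Ω := Ω) hone h₁ h11.1.symm
  have m10 := idem_mul_ne (Ω := Ω) h₁ hone h11.1
  have m02 := idem_mul_ne (Ω := Ω) hone h₂ h11.2.symm
  have m20 := idem_mul_ne (Ω := Ω) h₂ hone h11.2
  have m12 := idem_mul_ne (Ω := Ω) h₁ h₂ hne12
  have m21 := idem_mul_ne (Ω := Ω) h₂ h₁ hne12.symm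
  have hA0 : A * idem G Ω (fun _ => 1) = c0 • idem G Ω (fun _ => 1) := by
    simp only [hAe, Matrix.add_mul, Matrix.smul_mul, m00, m10, m20, smul_zero, add_zero]
  have hA1 : A * idem G Ω χ₁ = c1 • idem G Ω χ₁ := by
    simp only [hAe, Matrix.add_mul, Matrix.smul_mul, m01, m11, m21, smul_zero, add_zero, zero_add]
  have hA2 : A * idem G Ω χ₂ = c2 • idem G Ω χ₂ := by
    simp only [hAe, Matrix.add_mul, Matrix.smul_mul, m02, m12, m22, smul_zero, add_zero, zero_add]
  have hn : (Fintype.card Ω : ℂ) ≠ 0 := Nat.cast_ne_zero.mpr (Fintype.card_pos_iff.2 ⟨a₀⟩).ne'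
  have hc0 : c0 = d := by
    have h := congrFun (congrFun hA0 a₀) a₀
    simp only [Matrix.mul_apply, Matrix.smul_apply, idem_one, ← Finset.sum_mul, hrowsum, smul_eq_mul] at h
    exact (mul_right_cancel₀ (inv_ne_zero hn) h).symm
  have t0 : (idem G Ω (fun _ : G => (1 : ℂ))).trace = 1 := by
    rw [trace_idem hone, hM _ hone (Or.inl rfl), mul_one]
  have t1 : (idem G Ω χ₁).trace = (m : ℂ) - 1 := by rw [trace_idem h₁, hM _ h₁ (Or.inr (Or.inl rfl)), mul_one, hd₁]
  have t2 : (idem G Ω χ₂).trace = (m : ℂ) := by rw [trace_idem h₂, hM _ h₂ (Or.inr (Or.inr rfl)), mul_one, hd₂]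
  have e1 : (d : ℂ) + c1 * ((m : ℂ) - 1) + c2 * m = 0 := by
    have h : A.trace = 0 := Finset.sum_eq_zero fun x _ => hdiag x
    rw [hAe] at h
    simpa [Matrix.trace_add, Matrix.trace_smul, t0, t1, t2, hc0] using h
  have e2 : (d : ℂ) ^ 2 + c1 ^ 2 * ((m : ℂ) - 1) + c2 ^ 2 * m = 2 * m * d := by
    have h : (A * A).trace = (2 * m : ℂ) * d := by
      simp only [Matrix.trace, Matrix.diag_apply]
      rw [Finset.sum_congr rfl fun x _ => hAAdiag x, Finset.sum_const, Finset.card_univ, hm,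
        nsmul_eq_mul]
      push_cast; ring
    nth_rewrite 2 [hAe] at h
    simp only [Matrix.mul_add, Matrix.mul_smul, hA0, hA1, hA2, smul_smul, Matrix.trace_add,
      Matrix.trace_smul, t0, t1, t2, hc0, smul_eq_mul] at h
    linear_combination h
  -- the square lies in the integral span
  let A₀ : Matrix Ω Ω ℤ := Matrix.of fun x y => if ∃ g : G, g • a₀ = x ∧ g • b = y then 1 else 0
  have hAA : ∀ x y, (A * A) x y = (((A₀ * A₀) x y : ℤ) : ℂ) := fun x y => by
    simp only [Matrix.mul_apply, A, A₀, Matrix.of_apply]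
    push_cast
    rfl
  set p1 : ℤ := (A₀ * A₀) a₀ b with hp1
  set p2 : ℤ := (A₀ * A₀) a₀ c with hp2
  let xx : ℤ := (d : ℤ) - p2
  let yy : ℤ := p1 - p2
  have hdec : A * A = (xx : ℂ) • (1 : Matrix Ω Ω ℂ) + (yy : ℂ) • A
      + ((p2 : ℂ) * Fintype.card Ω) • idem G Ω (fun _ => 1) := by
    ext u v
    obtain ⟨g, rfl⟩ := exists_smul_eq G a₀ u
    obtain ⟨w, rfl⟩ : ∃ w, g • w = v := ⟨g⁻¹ • v, smul_inv_smul _ _⟩
    simp only [Matrix.add_apply, Matrix.smul_apply, idem_one, smul_eq_mul, Matrix.one_apply,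
      (MulAction.injective g).eq_iff]
    rw [hAAinv g, hA g, mul_inv_cancel_right₀ hn, hrow]
    by_cases hw : w = a₀
    · subst w
      rw [if_pos rfl, if_neg, hAAdiag]
      · simp [xx]
      · intro hmem
        obtain ⟨u, hu⟩ := hmem
        exact hb (MulAction.injective (u : G) (hu.trans (u.2 : (u : G) • a₀ = a₀).symm))
    rw [if_neg (Ne.symm hw)]
    rcases hcase w hw with e | e
    · obtain ⟨u, hu⟩ := (orbit_eq_iff.1 e)
      rw [if_pos (orbit_eq_iff.1 e), ← hu]
      have h3 := hAAinv (u : G) a₀ b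
      rw [(u.2 : (u : G) • a₀ = a₀)] at h3
      show (A * A) a₀ ((u : G) • b) = _
      rw [h3, hAA]
      simp [yy, hp1]
    · obtain ⟨u, hu⟩ := (orbit_eq_iff.1 e)
      rw [if_neg (fun hmem => hne ((orbit_eq_iff.2 hmem).symm.trans e)), ← hu]
      have h3 := hAAinv (u : G) a₀ c
      rw [(u.2 : (u : G) • a₀ = a₀)] at h3
      show (A * A) a₀ ((u : G) • c) = _
      rw [h3, hAA]
      simp [hp2]
  have hq : ∀ (χ : G → ℂ) (z : ℂ), A * idem G Ω χ = z • idem G Ω χ →
      idem G Ω (fun _ => 1) * idem G Ω χ = 0 → (idem G Ω χ).trace ≠ 0 → z ^ 2 = (xx : ℂ) + yy * z := by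
    intro χ z hz h0 ht
    have h := congrArg (fun M => M * idem G Ω χ) hdec
    simp only [Matrix.add_mul, Matrix.smul_mul, Matrix.one_mul, Matrix.mul_assoc, hz, h0, smul_zero, add_zero,
      Matrix.mul_smul, smul_smul] at h
    have h' := congrArg Matrix.trace h
    simp only [Matrix.trace_add, Matrix.trace_smul, smul_eq_mul] at h'
    exact mul_right_cancel₀ ht (by linear_combination h')
  have hm1 : (m : ℂ) - 1 ≠ 0 := hd₁ ▸ IsIrrCharacter.apply_one_ne_zero h₁
  have q1 := hq χ₁ c1 hA1 m01 (by rw [t1]; exact hm1)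
  have q2 := hq χ₂ c2 hA2 m02 (by rw [t2, ← hd₂]; exact IsIrrCharacter.apply_one_ne_zero h₂)
  have hne' : c1 ≠ c2 := by
    intro e
    rw [← e] at e1
    obtain ⟨k, hk⟩ : ∃ k, 2 * m = k + 1 := ⟨2 * m - 1, by omega⟩
    have hkc : (k : ℂ) = 2 * m - 1 := by
      have := congrArg (fun n : ℕ => (n : ℂ)) hk
      push_cast at this; linear_combination -this
    have hk0 : k ≠ 0 := by omega
    have hint : IsIntegral ℤ c1 :=
      ⟨Polynomial.X ^ 2 - Polynomial.C yy * Polynomial.X - Polynomial.C xx, by monicity!, by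
        rw [Polynomial.eval₂_sub, Polynomial.eval₂_sub, Polynomial.eval₂_mul, Polynomial.eval₂_X_pow, Polynomial.eval₂_C, Polynomial.eval₂_X, Polynomial.eval₂_C, algebraMap_int_eq, eq_intCast, eq_intCast]; linear_combination q1⟩
    have hdiv : (d : ℂ) / (k : ℂ) = -c1 := by
      rw [div_eq_iff (Nat.cast_ne_zero.mpr hk0), hkc]
      linear_combination e1
    have := nat_dvd_of_isIntegral_div hk0 (hdiv ▸ hint.neg)
    have := Nat.le_of_dvd (by omega) this
    omega
  have hsum12 : c1 + c2 = yy := by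
    have : (c1 - c2) * (c1 + c2 - yy) = 0 := by linear_combination q1 - q2
    exact sub_eq_zero.1 ((mul_eq_zero.1 this).resolve_left (sub_ne_zero.2 hne'))
  have hr : c1 = ((d + m * yy : ℤ) : ℂ) := by push_cast; linear_combination -e1 + (m : ℂ) * hsum12
  have hs : c2 = ((yy - (d + m * yy) : ℤ) : ℂ) := by
    rw [Int.cast_sub, ← hr]; linear_combination hsum12
  refine arith m d yy _ hd2 hle rfl ?_
  rw [hr, hs] at e2
  apply Int.cast_injective (α := ℂ)
  push_cast at e2 ⊢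
  linear_combination e2

end Cfsg.Agent.S0719
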