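import Cfsg.Statements.S0721
import Cfsg.Agent.Lib.Classical.MinimalNormal
import Cfsg.Agent.Lib.Solv.Basic

set_option autoImplicit false
open Cfsg

namespace Cfsg.Agent.S0721

---pre
theorem exists_small_model {T : Type*} [Group T] [Finite T] :
    ∃ (T' : Type) (_ : Group T'), Nonempty (T ≃* T') := by
  obtain ⟨n, ⟨e⟩⟩ := Finite.exists_equiv_fin T
  let M : Group (Fin n) := e.symm.group
  exact ⟨Fin n, M, ⟨@MulEquiv.mk T (Fin n) _ M.toMul e (fun a b => by
    show e (a * b) = e (e.symm (e a) * e.symm (e b))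
    simp)⟩⟩

/-- A minimal normal subgroup of a finite group is isomorphic to a direct power `T ^ m` of a simple group `T` (possibly of prime order). -/
theorem result {H : Type*} [Group H] [Finite H] (N : Subgroup H) [N.Normal] (hN : N ≠ ⊥) (hmin : ∀ M : Subgroup H, M.Normal → M ≤ N → M = ⊥ ∨ M = N) : ∃ (T : Type) (_ : Group T) (m : ℕ), IsSimpleGroup T ∧ 0 < m ∧ Nonempty (N ≃* (Fin m → T)) := by
  classical
  by_cases hc : ∀ a ∈ N, ∀ b ∈ N, a * b = b * a
  · haveI hN' : IsMulCommutative N := ⟨⟨fun a b => Subtype.ext (hc a a.2 b b.2)⟩⟩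
    haveI : Group.IsSolvable N := isSolvable_of_comm (fun a b => mul_comm' a b)
    obtain ⟨-, p, hp, hexp⟩ := Cfsg.Agent.Solv.minimal_normal_elementary N hN hmin
    haveI := Fact.mk hp
    letI : CommGroup N := { (inferInstance : Group N) with mul_comm := fun a b => mul_comm' a b }
    obtain ⟨ι, _, n, hn, ⟨e⟩⟩ := CommGroup.equiv_prod_multiplicative_zmod_of_finite N
    have hnp : ∀ i, n i = p := by
      intro i
      let g : ∀ j, Multiplicative (ZMod (n j)) := Pi.mulSingle i (Multiplicative.ofAdd (1 : ZMod (n i)))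
      have h1 : (e.symm g) ^ p = 1 := Subtype.ext (by simpa using hexp _ (e.symm g).2)
      have h2 := congrFun (congrArg e h1) i
      rw [map_pow, e.apply_symm_apply, map_one, Pi.pow_apply, Pi.one_apply] at h2
      simp only [g, Pi.mulSingle_eq_same] at h2
      have h3 := congrArg Multiplicative.toAdd h2
      simp only [toAdd_pow, toAdd_ofAdd, toAdd_one, nsmul_eq_mul, mul_one] at h3
      rw [ZMod.natCast_eq_zero_iff] at h3
      exact ((Nat.dvd_prime hp).1 h3).resolve_left (hn i).ne'
    haveI : Nonempty ι := by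
      by_contra h
      rw [not_nonempty_iff] at h
      refine hN ((Subgroup.eq_bot_iff_forall N).2 fun x hx => ?_)
      exact congrArg Subtype.val (e.injective (funext fun i => isEmptyElim i : e ⟨x, hx⟩ = e 1))
    obtain rfl : n = fun _ => p := funext hnp
    haveI : IsSimpleGroup (Multiplicative (ZMod p)) := isSimpleGroup_of_prime_card (p := p) (by simp)
    exact ⟨Multiplicative (ZMod p), inferInstance, Fintype.card ι, inferInstance, Fintype.card_pos,
      ⟨e.trans (MulEquiv.arrowCongr (Fintype.equivFin ι) (MulEquiv.refl _))⟩⟩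
  · simp only [not_forall] at hc
    obtain ⟨a, ha, b, hb, hab⟩ := hc
    obtain ⟨U, ⟨D⟩⟩ := Cfsg.Agent.Classical.exists_simpleDecomp N hmin ⟨a, ha, b, hb, hab⟩
    let i₀ : H ⧸ U := QuotientGroup.mk 1
    have hconj : ∀ i, ∃ g : H, (D.T i₀).map (MulAut.conj g).toMonoidHom = D.T i := by
      intro i
      obtain ⟨g, rfl⟩ := MulAction.exists_smul_eq H i₀ i
      refine ⟨g, le_antisymm ?_ ?_⟩
      · rintro _ ⟨x, hx, rfl⟩
        exact D.conj_mem g i₀ x hx
      · intro x hx
        have h := D.conj_mem g⁻¹ _ x hx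
        rw [inv_smul_smul] at h
        exact ⟨_, h, by simp [mul_assoc]⟩
    have hiso : ∀ i, Nonempty (D.T i ≃* D.T i₀) := fun i => by
      obtain ⟨g, hg⟩ := hconj i
      exact ⟨(MulEquiv.subgroupCongr hg.symm).trans
        ((D.T i₀).equivMapOfInjective _ (MulAut.conj g).injective).symm⟩
    choose f hf using fun i => (⟨(hiso i).some, trivial⟩ : ∃ _e : D.T i ≃* D.T i₀, True)
    let Φ : N →* (∀ i, D.T i) :=
      { toFun := fun x i => ⟨D.proj i x, D.proj_mem i x⟩
        map_one' := funext fun i => Subtype.ext (map_one (D.proj i))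
        map_mul' := fun x y => funext fun i => Subtype.ext (map_mul (D.proj i) x y) }
    have hΦ : Function.Bijective Φ := by
      refine ⟨(injective_iff_map_eq_one Φ).2 fun x hx => D.proj_ext x fun i => ?_, fun g => ?_⟩
      · exact congrArg Subtype.val (congrFun hx i)
      · obtain ⟨x, hx⟩ := D.proj_surj (fun i => (g i : H)) (fun i => (g i).2)
        exact ⟨x, funext fun i => Subtype.ext (hx i)⟩
    obtain ⟨T', hT', ⟨e⟩⟩ := exists_small_model (T := D.T i₀)
    haveI : Nontrivial (D.T i₀) := by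
      obtain ⟨x, hx, y, hy, hxy⟩ := D.nonabelian i₀
      exact ⟨⟨x, hx⟩, ⟨y, hy⟩, fun h => hxy (by cases h; rfl)⟩
    haveI : IsSimpleGroup (D.T i₀) := ⟨D.simple i₀⟩
    haveI : Nontrivial T' := e.symm.toEquiv.nontrivial
    haveI := Fintype.ofFinite (H ⧸ U)
    haveI : Nonempty (H ⧸ U) := ⟨i₀⟩
    exact ⟨T', hT', Fintype.card (H ⧸ U), IsSimpleGroup.isSimpleGroup_of_surjective e.toMonoidHom e.surjective,
      Fintype.card_pos, ⟨((MulEquiv.ofBijective Φ hΦ).trans (MulEquiv.piCongrRight fun i => (f i).trans e)).trans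
        (MulEquiv.arrowCongr (Fintype.equivFin _) (MulEquiv.refl _))⟩⟩

end Cfsg.Agent.S0721
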