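import Cfsg.Statements.S0724
import Mathlib

set_option autoImplicit false
open Cfsg

namespace Cfsg.Agent.S0724

---pre
open MulAction Polynomial

/-- Blichfeldt's Theorem: if a finite set `L` of natural numbers contains the number of fixed points of every non-identity element of a permutation group `G` of degree `n`, then the order of `G` divides `∏ (n - l)` over `l ∈ L`. -/
theorem result {α : Type*} [Fintype α] [DecidableEq α] (G : Subgroup (Equiv.Perm α)) (L : Finset ℕ) (hL : ∀ g ∈ G, g ≠ 1 → Nat.card (MulAction.fixedBy α g) ∈ L) : Nat.card G ∣ ∏ l ∈ L, (Fintype.card α - l) := by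
  classical
  set n := Fintype.card α with hn
  by_cases hbad : ∃ l ∈ L, n ≤ l
  · obtain ⟨l, hl, hnl⟩ := hbad
    rw [Finset.prod_eq_zero hl (Nat.sub_eq_zero_of_le hnl)]
    exact dvd_zero _
  push Not at hbad
  have := Fintype.ofFinite G
  let Q : ℤ[X] := ∏ l ∈ L, (X - C (l : ℤ))
  have hk : ∀ k : ℕ, ((Nat.card G : ℕ) : ℤ) ∣ ∑ g : G, (Nat.card (fixedBy α g) : ℤ) ^ k := by
    intro k
    have e : ∀ g : G, Fintype.card (fixedBy (Fin k → α) g) = Nat.card (fixedBy α g) ^ k := by
      intro g
      rw [← Nat.card_eq_fintype_card]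
      let e : fixedBy (Fin k → α) g ≃ (Fin k → fixedBy α g) :=
        { toFun := fun f i => ⟨f.1 i, congrFun f.2 i⟩
          invFun := fun f => ⟨fun i => f i, funext fun i => (f i).2⟩ }
      rw [Nat.card_congr e, Nat.card_fun, Nat.card_eq_fintype_card (α := Fin k), Fintype.card_fin]
    have := MulAction.sum_card_fixedBy_eq_card_orbits_mul_card_group G (Fin k → α)
    simp only [e] at this
    refine ⟨Fintype.card (Quotient (MulAction.orbitRel G (Fin k → α))), ?_⟩
    rw [Nat.card_eq_fintype_card (α := G), mul_comm]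
    exact_mod_cast this
  have hsum : ((Nat.card G : ℕ) : ℤ) ∣ ∑ g : G, Q.eval (Nat.card (fixedBy α g) : ℤ) := by
    simp only [eval_eq_sum_range]
    rw [Finset.sum_comm]
    refine Finset.dvd_sum fun k _ => ?_
    rw [← Finset.mul_sum]
    exact dvd_mul_of_dvd_right (hk k) _
  rw [Finset.sum_eq_single_of_mem (1 : G) (Finset.mem_univ _)] at hsum
  · have hev : Q.eval (Nat.card (fixedBy α (1 : G)) : ℤ) = ((∏ l ∈ L, (n - l) : ℕ) : ℤ) := by
      rw [fixedBy_one_eq_univ, Nat.card_coe_set_eq, Set.ncard_univ, Nat.card_eq_fintype_card, ← hn,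
        eval_prod, Nat.cast_prod]
      refine Finset.prod_congr rfl fun l hl => ?_
      rw [eval_sub, eval_X, eval_C, Nat.cast_sub (hbad l hl).le]
    rw [hev] at hsum
    exact_mod_cast hsum
  · intro g _ hg
    rw [eval_prod]
    refine Finset.prod_eq_zero (hL g g.2 (fun e => hg (Subtype.ext e))) ?_
    rw [eval_sub, eval_X, eval_C]
    exact sub_self _

end Cfsg.Agent.S0724
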