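import Cfsg.Statements.S0726
import Mathlib

set_option autoImplicit false
open Cfsg

namespace Cfsg.Agent.S0726

---pre
open MulAction MulOpposite

/-- The left and right regular permutation representations of a group are each other's centralisers in the symmetric group: the centraliser of the left regular image is the right regular image, and a transitive subgroup centralising the left regular image is the whole right regular image. -/
theorem result {G : Type*} [Group G] : Subgroup.centralizer ((MulAction.toPermHom G G).range : Set (Equiv.Perm G)) = (MulAction.toPermHom Gᵐᵒᵖ G).range ∧ ∀ H : Subgroup (Equiv.Perm G), H ≤ Subgroup.centralizer ((MulAction.toPermHom G G).range : Set (Equiv.Perm G)) → MulAction.IsPretransitive H G → H = (MulAction.toPermHom Gᵐᵒᵖ G).range := by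
  have key : ∀ c ∈ Subgroup.centralizer ((MulAction.toPermHom G G).range : Set (Equiv.Perm G)),
      c = MulAction.toPermHom Gᵐᵒᵖ G (op (c 1)) := by
    intro c hc
    refine Equiv.ext fun x => ?_
    have := DFunLike.congr_fun (Subgroup.mem_centralizer_iff.1 hc (MulAction.toPermHom G G x) ⟨x, rfl⟩) 1
    simpa using this.symm
  have heq : Subgroup.centralizer ((MulAction.toPermHom G G).range : Set (Equiv.Perm G)) =
      (MulAction.toPermHom Gᵐᵒᵖ G).range := by
    refine le_antisymm (fun c hc => ⟨_, (key c hc).symm⟩) ?_
    rintro _ ⟨r, rfl⟩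
    rw [Subgroup.mem_centralizer_iff]
    rintro _ ⟨g, rfl⟩
    ext x
    simp [mul_assoc]
  refine ⟨heq, fun H hH htr => le_antisymm (heq ▸ hH) ?_⟩
  rintro _ ⟨r, rfl⟩
  obtain ⟨⟨h, hh⟩, hh1⟩ := MulAction.exists_smul_eq H (1 : G) (unop r)
  have hh1' : h 1 = unop r := hh1
  have := key h (hH hh)
  rw [hh1', op_unop] at this
  exact this ▸ hh

end Cfsg.Agent.S0726
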