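import Cfsg.Statements.S0727
import Cfsg.Agent.Lib.Perm.SharplyThree

set_option autoImplicit false
open Cfsg

namespace Cfsg.Agent.S0727

/-- A sharply triply transitive permutation group of degree `2^f + 1` is isomorphic to the projective general linear group of degree 2 over the field with `2^f` elements. -/
theorem result {α : Type*} [Fintype α] [DecidableEq α] {f : ℕ} (hf : 1 ≤ f) (hα : Fintype.card α = 2 ^ f + 1) (G : Subgroup (Equiv.Perm α)) (h3 : MulAction.IsMultiplyPretransitive G α 3) (hsharp : ∀ x : Fin 3 ↪ α, MulAction.stabilizer G x = ⊥) : ∃ (F : Type) (_ : Field F) (_ : Fintype F), Fintype.card F = 2 ^ f ∧ Nonempty (G ≃* Matrix.ProjGenLinGroup (Fin 2) F) := by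
  classical
  have hc : Nat.card α = 2 ^ f + 1 := by rw [Nat.card_eq_fintype_card, hα]
  have h2 : 2 ≤ 2 ^ f := by calc 2 = 2 ^ 1 := rfl
                               _ ≤ 2 ^ f := Nat.pow_le_pow_right (by norm_num) hf
  have hodd : Odd (Nat.card α) := by
    rw [hc]; exact ((Nat.even_pow' (by omega)).2 even_two).add_one
  have hyp : Cfsg.Agent.Perm.SharplyThree.Hyp G α := by
    refine Cfsg.Agent.Perm.SharplyThree.hyp_of_pretransitive h3 ?_ hodd (by omega)
    intro g x₁ x₂ x₃ a b c e1 e2 e3
    have hinj : Function.Injective ![x₁, x₂, x₃] := by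
      intro i j e
      fin_cases i <;> fin_cases j <;> simp_all
    have : g ∈ MulAction.stabilizer G (⟨_, hinj⟩ : Fin 3 ↪ α) := by
      rw [MulAction.mem_stabilizer_iff]
      ext i
      fin_cases i <;> [exact e1; exact e2; exact e3]
    rwa [hsharp, Subgroup.mem_bot] at this
  obtain ⟨f', -, hcard, ⟨e⟩, ⟨e'⟩⟩ := Cfsg.Agent.Perm.SharplyThree.main hyp
  have : f' = f := Nat.pow_right_injective le_rfl (show 2 ^ f' = 2 ^ f by omega)
  subst this
  haveI : Fact (Nat.Prime 2) := ⟨Nat.prime_two⟩
  letI : Fintype (GaloisField 2 f') := Fintype.ofFinite _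
  exact ⟨GaloisField 2 f', inferInstance, inferInstance,
    by rw [← Nat.card_eq_fintype_card, GaloisField.card 2 f' (by omega)], ⟨e.trans e'⟩⟩

end Cfsg.Agent.S0727
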