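import Cfsg.Statements.S0728
import Mathlib

set_option autoImplicit false
open Cfsg

namespace Cfsg.Agent.S0728

---pre
open MulAction Finset

variable {α : Type*} [Fintype α] [DecidableEq α]

theorem eq_one_of_fix3 (G : Subgroup (Equiv.Perm α)) (hsharp : ∀ x : Fin 3 ↪ α, stabilizer G x = ⊥)
    (g : G) {a b c : α} (hab : a ≠ b) (hac : a ≠ c) (hbc : b ≠ c) (ha : g • a = a) (hb : g • b = b)
    (hc : g • c = c) : g = 1 := by
  let e : Fin 3 ↪ α := ⟨![a, b, c], by intro i j h; fin_cases i <;> fin_cases j <;> simp_all⟩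
  have : g ∈ stabilizer G e := by
    rw [mem_stabilizer_iff]
    ext i; fin_cases i <;> simpa [e]
  rwa [hsharp, Subgroup.mem_bot] at this

/-- In a sharply triply transitive group of even degree at least 6 (degree `q + 1`, `q` odd), a two-point stabiliser has at most one subgroup of order 3. -/
theorem result {α : Type*} [Fintype α] [DecidableEq α] (heven : Even (Fintype.card α)) (h6 : 6 ≤ Fintype.card α) (G : Subgroup (Equiv.Perm α)) (h3 : MulAction.IsMultiplyPretransitive G α 3) (hsharp : ∀ x : Fin 3 ↪ α, MulAction.stabilizer G x = ⊥) {a b : α} (hab : a ≠ b) (A B : Subgroup G) (hA : A ≤ MulAction.stabilizer G a ⊓ MulAction.stabilizer G b) (hB : B ≤ MulAction.stabilizer G a ⊓ MulAction.stabilizer G b) (hA3 : Nat.card A = 3) (hB3 : Nat.card B = 3) : A = B := by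
  classical
  have : Fintype G := Fintype.ofFinite G
  have hfix1 := fun (g : G) {a b c : α} => eq_one_of_fix3 G hsharp g (a := a) (b := b) (c := c)
  have : Fact (Nat.Prime 3) := ⟨Nat.prime_three⟩
  by_contra hne
  set n := Fintype.card α with hn
  let T : Finset G := Finset.univ.filter fun g => orderOf g = 3
  let fx : G → Finset α := fun g => Finset.univ.filter fun x => g • x = x
  have h2' : IsMultiplyPretransitive G α 2 :=
    isMultiplyPretransitive_of_le (n := 3) (by norm_num) (by rw [Nat.card_eq_fintype_card]; omega)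
  have h2t : ∀ {x y z w : α}, x ≠ y → z ≠ w → ∃ g : G, g • x = z ∧ g • y = w := is_two_pretransitive_iff.1 h2'
  -- fixed point numbers of elements of order three
  have hmod : ∀ g ∈ T, (fx g).card % 3 = n % 3 := by
    intro g hg
    have hP : IsPGroup 3 (Subgroup.zpowers g) := IsPGroup.of_card (n := 1) (by
      rw [Nat.card_zpowers, pow_one]; exact (Finset.mem_filter.1 hg).2)
    have h := hP.card_modEq_card_fixedPoints (α := α)
    have e : fixedPoints (Subgroup.zpowers g) α ≃ {x // x ∈ fx g} := Equiv.subtypeEquivRight fun x => by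
      simp only [fx, Finset.mem_filter, Finset.mem_univ, true_and]
      constructor
      · exact fun h => h ⟨g, Subgroup.mem_zpowers g⟩
      · rintro h ⟨y, hy⟩
        have : Subgroup.zpowers g ≤ stabilizer G x := Subgroup.zpowers_le.2 h
        exact this hy
    rw [Nat.card_congr e, Nat.card_eq_fintype_card, Nat.card_eq_fintype_card, Fintype.card_coe] at h
    exact h.symm
  have hle2 : ∀ g ∈ T, (fx g).card ≤ 2 := by
    intro g hg
    by_contra h
    push Not at h
    obtain ⟨x, y, z, hx, hy, hz, hxy, hxz, hyz⟩ := Finset.two_lt_card_iff.1 h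
    simp only [fx, Finset.mem_filter, Finset.mem_univ, true_and] at hx hy hz
    have := hfix1 g hxy hxz hyz hx hy hz
    rw [this] at hg
    simp [T] at hg
  have mem3 : ∀ (D : Subgroup G), Nat.card D = 3 → ∀ g ∈ D, g ≠ 1 → orderOf g = 3 ∧ D = Subgroup.zpowers g := by
    intro D hD g hg hg1
    have ho : orderOf g = 3 := by
      have h := Subgroup.orderOf_dvd_natCard D hg
      rw [hD] at h
      rcases (Nat.dvd_prime Nat.prime_three).1 h with h | h
      · rw [orderOf_eq_one_iff] at h; exact absurd h hg1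
      · exact h
    exact ⟨ho, (Subgroup.eq_of_le_of_card_ge (Subgroup.zpowers_le.2 hg) (by rw [hD, Nat.card_zpowers, ho])).symm⟩
  have hAne : A ≠ ⊥ := fun e => by rw [e, Subgroup.card_bot] at hA3; omega
  have hBne : B ≠ ⊥ := fun e => by rw [e, Subgroup.card_bot] at hB3; omega
  obtain ⟨⟨u, hu⟩, hu1⟩ := (Subgroup.ne_bot_iff_exists_ne_one).1 hAne
  obtain ⟨⟨v, hv⟩, hv1⟩ := (Subgroup.ne_bot_iff_exists_ne_one).1 hBne
  have hu1' : u ≠ 1 := fun e => hu1 (Subtype.ext e)
  have hv1' : v ≠ 1 := fun e => hv1 (Subtype.ext e)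
  obtain ⟨huo, hAu⟩ := mem3 A hA3 u hu hu1'
  obtain ⟨hvo, hBv⟩ := mem3 B hB3 v hv hv1'
  have hfxab : ∀ g ∈ A ⊔ B, g • a = a ∧ g • b = b := fun g hg => Subgroup.mem_inf.1 (sup_le hA hB hg)
  have hn3 : n % 3 = 2 := by
    have hT : u ∈ T := by simp [T, huo]
    have h1 := hmod u hT
    have hsub : ({a, b} : Finset α) ⊆ fx u := by
      intro x hx
      simp only [Finset.mem_insert, Finset.mem_singleton] at hx
      simp only [fx, Finset.mem_filter, Finset.mem_univ, true_and]
      rcases hx with rfl | rfl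
      · exact (hfxab u (le_sup_left (b := B) hu)).1
      · exact (hfxab u (le_sup_left (b := B) hu)).2
    have h2 := Finset.card_le_card hsub
    rw [Finset.card_pair hab] at h2
    have h3 := hle2 u hT
    omega
  have hfx2 : ∀ g ∈ T, (fx g).card = 2 := fun g hg => by have := hmod g hg; have := hle2 g hg; omega
  -- triples
  have e3 : Nat.card (Fin 3 ↪ α) = n * (n - 1) * (n - 2) := by
    rw [Nat.card_eq_fintype_card, Fintype.card_embedding_eq, Fintype.card_fin]
    simp [Nat.descFactorial, ← hn]; ring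
  have hcount : T.card * (n - 2) = n * (n - 1) * (n - 2) := by
    let S : Finset (G × α) := T.sigma (fun g => (fx g)ᶜ) |>.image fun p => (p.1, p.2)
    have hS : S.card = T.card * (n - 2) := by
      rw [Finset.card_image_of_injective _ (fun p q h => by
        obtain ⟨p1, p2⟩ := p; obtain ⟨q1, q2⟩ := q; simp_all), Finset.card_sigma]
      rw [Finset.sum_congr rfl fun g hg => by rw [Finset.card_compl, hfx2 g hg, ← hn], Finset.sum_const, smul_eq_mul]
    rw [← hS, ← e3, ← Fintype.card_coe S, ← Nat.card_eq_fintype_card]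
    have memS : ∀ g x, (g, x) ∈ S ↔ orderOf g = 3 ∧ g • x ≠ x := by
      intro g x; simp [S, T, fx]
    have hS' : ∀ p : {p // p ∈ S}, p.1.1 ^ 3 = 1 ∧ p.1.1 • p.1.2 ≠ p.1.2 ∧ p.1.1 • p.1.1 • p.1.2 ≠ p.1.2 := by
      rintro ⟨⟨g, x⟩, hp⟩
      obtain ⟨ho, hx⟩ := (memS g x).1 hp
      have h3' : g ^ 3 = 1 := by rw [← ho, pow_orderOf_eq_one]
      refine ⟨h3', hx, fun e => hx ?_⟩
      have : (g ^ 3) • x = g • x := by rw [pow_succ', mul_smul, sq, mul_smul, e]
      rwa [h3', one_smul, eq_comm] at this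
    let φ : {p // p ∈ S} → (Fin 3 ↪ α) := fun p => ⟨![p.1.2, p.1.1 • p.1.2, p.1.1 • p.1.1 • p.1.2], by
      obtain ⟨h3', hx, hxx⟩ := hS' p
      have hxy : p.1.1 • p.1.1 • p.1.2 ≠ p.1.1 • p.1.2 := fun e => hx (MulAction.injective _ e)
      intro i j h
      fin_cases i <;> fin_cases j <;> first | rfl | exact absurd h hx | exact absurd h.symm hx | exact absurd h hxx | exact absurd h.symm hxx | exact absurd h hxy | exact absurd h.symm hxy⟩
    refine Nat.card_congr (Equiv.ofBijective φ ⟨fun p q e => ?_, fun f => ?_⟩)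
    · have e0 : p.1.2 = q.1.2 := DFunLike.congr_fun e 0
      have e1 : p.1.1 • p.1.2 = q.1.1 • q.1.2 := DFunLike.congr_fun e 1
      have e2 : p.1.1 • p.1.1 • p.1.2 = q.1.1 • q.1.1 • q.1.2 := DFunLike.congr_fun e 2
      obtain ⟨hp3, hpx, hpxx⟩ := hS' p
      obtain ⟨hq3, -, -⟩ := hS' q
      have h1 : q.1.1⁻¹ * p.1.1 = 1 := by
        refine hfix1 _ (a := p.1.2) (b := p.1.1 • p.1.2) (c := p.1.1 • p.1.1 • p.1.2) (Ne.symm hpx) (Ne.symm hpxx)
          (fun e => hpx (MulAction.injective _ e).symm) ?_ ?_ ?_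
        · rw [mul_smul, inv_smul_eq_iff, e1, ← e0]
        · rw [mul_smul, inv_smul_eq_iff, e2, ← e1]
        · have hp' : p.1.1 • p.1.1 • p.1.1 • p.1.2 = p.1.2 := by
            rw [← mul_smul, ← mul_smul, ← sq, ← pow_succ, hp3, one_smul]
          have hq' : q.1.1 • q.1.1 • q.1.1 • q.1.2 = q.1.2 := by
            rw [← mul_smul, ← mul_smul, ← sq, ← pow_succ, hq3, one_smul]
          rw [mul_smul, inv_smul_eq_iff, hp', e2, hq', e0]
      exact Subtype.ext (Prod.ext (inv_mul_eq_one.1 h1).symm e0)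
    · let f' : Fin 3 ↪ α := ⟨![f 1, f 2, f 0], by intro i j h; fin_cases i <;> fin_cases j <;> simp_all⟩
      obtain ⟨g, hg⟩ := (isMultiplyPretransitive_iff.1 h3) f f'
      have g0 : g • f 0 = f 1 := DFunLike.congr_fun hg 0
      have g1 : g • f 1 = f 2 := DFunLike.congr_fun hg 1
      have g2 : g • f 2 = f 0 := DFunLike.congr_fun hg 2
      have hne : g • f 0 ≠ f 0 := by rw [g0]; exact fun e => absurd (f.injective e) (by decide)
      have hg3 : g ^ 3 = 1 := hfix1 _ (a := f 0) (b := f 1) (c := f 2) (f.injective.ne (by decide)) (f.injective.ne (by decide)) (f.injective.ne (by decide))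
        (by rw [pow_succ, sq, mul_smul, mul_smul, g0, g1, g2]) (by rw [pow_succ, sq, mul_smul, mul_smul, g1, g2, g0])
        (by rw [pow_succ, sq, mul_smul, mul_smul, g2, g0, g1])
      refine ⟨⟨(g, f 0), (memS _ _).2 ⟨orderOf_eq_prime hg3 (fun e => hne (by rw [e, one_smul])), hne⟩⟩, ?_⟩
      ext i
      fin_cases i
      · rfl
      · exact g0
      · show g • g • f 0 = f 2
        rw [g0, g1]
  have hTn : T.card = n * (n - 1) := Nat.eq_of_mul_eq_mul_right (by omega) hcount
  -- at least four elements of order three fix any pair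
  have hfour : ∀ p ∈ (Finset.univ : Finset α).offDiag, 4 ≤ (T.filter fun g => g • p.1 = p.1 ∧ g • p.2 = p.2).card := by
    rintro ⟨x, y⟩ hxy
    simp only [Finset.mem_offDiag, Finset.mem_univ, true_and] at hxy
    obtain ⟨f, hfa, hfb⟩ := h2t hab hxy
    have hsub : ({u, u⁻¹, v, v⁻¹} : Finset G).map (MulAut.conj f).toEquiv.toEmbedding ⊆
        T.filter fun g => g • x = x ∧ g • y = y := by
      intro g hg
      obtain ⟨w, hw, rfl⟩ := Finset.mem_map.1 hg
      have hwD : w ∈ A ⊔ B ∧ orderOf w = 3 := by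
        simp only [Finset.mem_insert, Finset.mem_singleton] at hw
        rcases hw with rfl | rfl | rfl | rfl
        · exact ⟨le_sup_left (b := B) hu, huo⟩
        · exact ⟨inv_mem (le_sup_left (b := B) hu), by rw [orderOf_inv, huo]⟩
        · exact ⟨le_sup_right (a := A) hv, hvo⟩
        · exact ⟨inv_mem (le_sup_right (a := A) hv), by rw [orderOf_inv, hvo]⟩
      simp only [T, Finset.mem_filter, Finset.mem_univ, true_and, Equiv.coe_toEmbedding, MulEquiv.toEquiv_eq_coe, EquivLike.coe_coe]
      refine ⟨by rw [MulEquiv.orderOf_eq, hwD.2], ?_, ?_⟩ <;> rw [MulAut.conj_apply, mul_smul, mul_smul]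
      · rw [inv_smul_eq_iff.2 hfa.symm, (hfxab w hwD.1).1, hfa]
      · rw [inv_smul_eq_iff.2 hfb.symm, (hfxab w hwD.1).2, hfb]
    refine le_trans (le_of_eq ?_) (Finset.card_le_card hsub)
    rw [Finset.card_map]
    have huu : u ≠ u⁻¹ := fun e => by
      have := orderOf_dvd_of_pow_eq_one (show u ^ 2 = 1 by rw [sq]; nth_rewrite 2 [e]; exact mul_inv_cancel u)
      rw [huo] at this; norm_num at this
    have hvv : v ≠ v⁻¹ := fun e => by
      have := orderOf_dvd_of_pow_eq_one (show v ^ 2 = 1 by rw [sq]; nth_rewrite 2 [e]; exact mul_inv_cancel v)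
      rw [hvo] at this; norm_num at this
    have hd : ∀ w ∈ ({u, u⁻¹} : Finset G), ∀ z ∈ ({v, v⁻¹} : Finset G), w ≠ z := by
      intro w hw z hz e
      apply hne
      have h1 : w ∈ A ∧ w ≠ 1 := by
        simp only [Finset.mem_insert, Finset.mem_singleton] at hw
        rcases hw with rfl | rfl
        · exact ⟨hu, hu1'⟩
        · exact ⟨inv_mem hu, inv_ne_one.2 hu1'⟩
      have h2 : w ∈ B := by
        simp only [Finset.mem_insert, Finset.mem_singleton] at hz
        rw [e]
        rcases hz with rfl | rfl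
        · exact hv
        · exact inv_mem hv
      rw [(mem3 A hA3 w h1.1 h1.2).2, (mem3 B hB3 w h2 h1.2).2]
    rw [Finset.card_insert_of_notMem, Finset.card_insert_of_notMem, Finset.card_pair hvv]
    · intro h; exact hd u⁻¹ (by simp) u⁻¹ h rfl
    · intro h
      rcases Finset.mem_insert.1 h with h | h
      · exact huu h
      · exact hd u (by simp) u h rfl
  have hsum : ∑ p ∈ (Finset.univ : Finset α).offDiag, (T.filter fun g => g • p.1 = p.1 ∧ g • p.2 = p.2).card =
      ∑ g ∈ T, (((Finset.univ : Finset α).offDiag).filter fun p => g • p.1 = p.1 ∧ g • p.2 = p.2).card := by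
    simp only [Finset.card_filter]
    exact Finset.sum_comm
  have hR : ∀ g ∈ T, (((Finset.univ : Finset α).offDiag).filter fun p => g • p.1 = p.1 ∧ g • p.2 = p.2).card = 2 := by
    intro g hg
    have : ((Finset.univ : Finset α).offDiag).filter (fun p => g • p.1 = p.1 ∧ g • p.2 = p.2) = (fx g).offDiag := by
      ext ⟨x, y⟩; simp [fx]; tauto
    rw [this, Finset.offDiag_card, hfx2 g hg]
  rw [Finset.sum_congr rfl hR, Finset.sum_const, smul_eq_mul] at hsum
  have h4 := Finset.card_nsmul_le_sum _ _ 4 hfour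
  rw [hsum, Finset.offDiag_card, Finset.card_univ, ← hn, hTn, smul_eq_mul] at h4
  have : 0 < n * (n - 1) := Nat.mul_pos (by omega) (by omega)
  have : n * n - n = n * (n - 1) := by rw [Nat.mul_sub_one]
  omega

end Cfsg.Agent.S0728
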