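import Cfsg.Statements.S0733
import Mathlib

set_option autoImplicit false
open Cfsg

namespace Cfsg.Agent.S0733

---pre
open MulAction
open scoped Pointwise

/-- A permutation group of affine type — generated by the translations of a finite vector space `V` over `ZMod p` together with a group `G₀` of linear automorphisms — is primitive on `V` if and only if `G₀` is irreducible on `V`. -/
theorem result {p : ℕ} [Fact p.Prime] {V : Type*} [AddCommGroup V] [Module (ZMod p) V] [Finite V] [Nontrivial V] (G₀ : Subgroup (V ≃ₗ[ZMod p] V)) (G : Subgroup (Equiv.Perm V)) (hG : ∀ σ : Equiv.Perm V, σ ∈ G ↔ ∃ g ∈ G₀, ∃ b : V, ∀ x : V, σ x = (g : V ≃ₗ[ZMod p] V) x + b) : MulAction.IsPreprimitive G V ↔ ∀ W : Submodule (ZMod p) V, (∀ g ∈ G₀, ∀ v ∈ W, (g : V ≃ₗ[ZMod p] V) v ∈ W) → W = ⊥ ∨ W = ⊤ := by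
  have hlin : ∀ g ∈ G₀, (g : V ≃ₗ[ZMod p] V).toEquiv ∈ G := fun g hg =>
    (hG _).2 ⟨g, hg, 0, fun x => (add_zero _).symm⟩
  have htra : ∀ b : V, Equiv.addRight b ∈ G := fun b =>
    (hG _).2 ⟨1, one_mem _, b, fun x => rfl⟩
  have : MulAction.IsPretransitive G V := ⟨fun x y => ⟨⟨_, htra (-x + y)⟩, by
    show x + (-x + y) = y
    rw [add_neg_cancel_left]⟩⟩
  constructor
  · intro hprim W hW
    have hB : IsBlock G (W : Set V) := by
      rw [isBlock_iff_smul_eq_of_mem]
      rintro ⟨σ, hσ⟩ x hx hgx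
      obtain ⟨g, hg, b, hb⟩ := (hG σ).1 hσ
      have hb' : b ∈ W := by
        have h1 : σ x ∈ W := hgx
        rw [hb] at h1
        exact (Submodule.add_mem_iff_right W (hW g hg x hx)).1 h1
      refine Set.eq_of_subset_of_ncard_le ?_ (le_of_eq (Set.ncard_smul_set (⟨σ, hσ⟩ : G) (W : Set V)).symm) (Set.toFinite _)
      rintro _ ⟨v, hv, rfl⟩
      show σ v ∈ W
      rw [hb]
      exact add_mem (hW g hg v hv) hb'
    rcases hprim.isTrivialBlock_of_isBlock hB with h | h
    · exact Or.inl (W.eq_bot_iff.2 fun x hx => h hx W.zero_mem)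
    · exact Or.inr (SetLike.ext' (h.trans Submodule.top_coe.symm))
  · intro h
    refine IsPreprimitive.of_isTrivialBlock_base (0 : V) fun {B} h0 hB => ?_
    have hadd : ∀ b ∈ B, ∀ x ∈ B, x + b ∈ B := by
      intro b hb x hx
      have h1 : (⟨_, htra b⟩ : G) • B = B := hB.smul_eq_of_mem h0 (by show (0 : V) + b ∈ B; rwa [zero_add])
      rw [← h1]
      exact ⟨x, hx, rfl⟩
    let S : AddSubmonoid V := { carrier := B, zero_mem' := h0, add_mem' := fun {x y} hx hy => hadd y hy x hx }
    have hnegS : ∀ x ∈ S, -x ∈ S := fun x hx => by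
      have h2 : (p - 1) • x = -x := by
        rw [eq_neg_iff_add_eq_zero, ← succ_nsmul, Nat.sub_add_cancel (Fact.out : p.Prime).one_le,
          ← Nat.cast_smul_eq_nsmul (ZMod p), ZMod.natCast_self, zero_smul]
      rw [← h2]
      exact nsmul_mem hx _
    let A : AddSubgroup V := { S with neg_mem' := fun {x} hx => hnegS x hx }
    rcases h (AddSubgroup.toZModSubmodule p A) (fun g hg v hv => by
      have h1 : (⟨_, hlin g hg⟩ : G) • B = B := hB.smul_eq_of_mem h0 (by show g (0 : V) ∈ B; rwa [map_zero])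
      show g v ∈ B
      rw [← h1]
      exact ⟨v, hv, rfl⟩) with h1 | h1
    · refine Or.inl fun x hx y hy => ?_
      have hz : ∀ z ∈ B, z = 0 := fun z hz => by
        have : z ∈ AddSubgroup.toZModSubmodule p A := hz
        rw [h1] at this
        exact (Submodule.mem_bot _).1 this
      rw [hz x hx, hz y hy]
    · refine Or.inr (Set.eq_univ_of_forall fun x => ?_)
      have : x ∈ AddSubgroup.toZModSubmodule p A := by rw [h1]; exact Submodule.mem_top
      exact this

end Cfsg.Agent.S0733
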