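import Cfsg.Statements.S0734
import Mathlib

set_option autoImplicit false
open Cfsg

namespace Cfsg.Agent.S0734

---pre
open MulAction
open scoped Pointwise

/-- Higman's criterion for primitivity: a transitive action on a finite set is primitive if and only if every non-trivial orbital graph (edges = images of a fixed pair of distinct points) is connected. -/
theorem result {G : Type*} [Group G] {Ω : Type*} [Finite Ω] [MulAction G Ω] [MulAction.IsPretransitive G Ω] [Nontrivial Ω] : MulAction.IsPreprimitive G Ω ↔ ∀ a b : Ω, a ≠ b → (SimpleGraph.fromRel fun x y : Ω => ∃ g : G, g • a = x ∧ g • b = y).Connected := by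
  constructor
  · intro hprim a b hab
    set Γ := SimpleGraph.fromRel fun x y : Ω => ∃ g : G, g • a = x ∧ g • b = y with hΓ
    have hadj : ∀ (g : G) x y, Γ.Adj x y → Γ.Adj (g • x) (g • y) := by
      intro g x y h
      rw [hΓ, SimpleGraph.fromRel_adj] at h ⊢
      refine ⟨fun e => h.1 (MulAction.injective g e), h.2.imp ?_ ?_⟩ <;>
        (rintro ⟨f, h1, h2⟩; exact ⟨g * f, by rw [mul_smul, h1], by rw [mul_smul, h2]⟩)
    have hreach : ∀ (g : G) x y, Γ.Reachable x y → Γ.Reachable (g • x) (g • y) := by
      intro g x y h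
      exact h.map ⟨fun z => g • z, fun {u v} e => hadj g u v e⟩
    have hB : IsBlock G {x | Γ.Reachable a x} := by
      rw [isBlock_iff_smul_eq_of_mem]
      intro g x hx hgx
      have hga : Γ.Reachable a (g • a) := hgx.trans (hreach g a x hx).symm
      ext y
      constructor
      · rintro ⟨z, hz, rfl⟩
        exact hga.trans (hreach g a z hz)
      · intro hy
        refine ⟨g⁻¹ • y, ?_, smul_inv_smul g y⟩
        have h1 := hreach g⁻¹ (g • a) y (hga.symm.trans hy)
        rwa [inv_smul_smul] at h1
    rcases hprim.isTrivialBlock_of_isBlock hB with h | h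
    · exfalso
      refine hab (h (SimpleGraph.Reachable.refl a) (SimpleGraph.Adj.reachable ?_))
      rw [hΓ, SimpleGraph.fromRel_adj]
      exact ⟨hab, Or.inl ⟨1, one_smul G a, one_smul G b⟩⟩
    · have hr : ∀ x, Γ.Reachable a x := fun x => (h.symm ▸ Set.mem_univ x : x ∈ {x | Γ.Reachable a x})
      exact SimpleGraph.connected_iff_exists_forall_reachable _ |>.2 ⟨a, hr⟩
  · intro h
    refine ⟨fun {B} hB => ?_⟩
    by_cases hs : B.Subsingleton
    · exact Or.inl hs
    · right
      rw [Set.not_subsingleton_iff] at hs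
      obtain ⟨a, ha, b, hb, hab⟩ := hs
      have hclosed : ∀ x y, (SimpleGraph.fromRel fun x y : Ω => ∃ g : G, g • a = x ∧ g • b = y).Adj x y →
          x ∈ B → y ∈ B := by
        intro x y hxy hx
        rw [SimpleGraph.fromRel_adj] at hxy
        rcases hxy.2 with ⟨g, hgx, hgy⟩ | ⟨g, hgy, hgx⟩
        · rw [← hgy, ← hB.smul_eq_of_mem ha (hgx ▸ hx)]
          exact ⟨b, hb, rfl⟩
        · rw [← hgy, ← hB.smul_eq_of_mem hb (hgx ▸ hx)]
          exact ⟨a, ha, rfl⟩
      refine Set.eq_univ_of_forall fun z => ?_
      obtain ⟨w⟩ := (h a b hab).preconnected a z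
      have : ∀ {u v}, (SimpleGraph.fromRel fun x y : Ω => ∃ g : G, g • a = x ∧ g • b = y).Walk u v → u ∈ B → v ∈ B := by
        intro u v w
        induction w with
        | nil => exact id
        | cons h' _ ih => exact fun hu => ih (hclosed _ _ h' hu)
      exact this w ha

end Cfsg.Agent.S0734
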