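import Cfsg.Statements.S0735
import Mathlib

set_option autoImplicit false
open Cfsg

namespace Cfsg.Agent.S0735

---pre
open MulAction
open scoped Pointwise

/-- A 2-homogeneous permutation group (transitive on 2-subsets) of even order is doubly transitive; a non-trivial 2-homogeneous group is primitive. -/
theorem result {α : Type*} [Fintype α] [DecidableEq α] (G : Subgroup (Equiv.Perm α)) (h2 : MulAction.IsPretransitive G (Set.powersetCard α 2)) (hα : 3 ≤ Fintype.card α) : (Even (Nat.card G) → MulAction.IsMultiplyPretransitive G α 2) ∧ (G ≠ ⊥ → MulAction.IsPreprimitive G α) := by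
  have hpair : ∀ a b c d : α, a ≠ b → c ≠ d → ∃ g : G, (g • a = c ∧ g • b = d) ∨ (g • a = d ∧ g • b = c) := by
    intro a b c d hab hcd
    obtain ⟨g, hg⟩ := h2.exists_smul_eq ⟨{a, b}, Finset.card_pair hab⟩ ⟨{c, d}, Finset.card_pair hcd⟩
    have hg' : g • ({a, b} : Finset α) = {c, d} := congrArg Subtype.val hg
    have ha : g • a ∈ ({c, d} : Finset α) := hg' ▸ Finset.smul_mem_smul_finset (by simp)
    have hb : g • b ∈ ({c, d} : Finset α) := hg' ▸ Finset.smul_mem_smul_finset (by simp)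
    simp only [Finset.mem_insert, Finset.mem_singleton] at ha hb
    refine ⟨g, ?_⟩
    rcases ha with ha | ha <;> rcases hb with hb | hb
    · exact absurd (MulAction.injective g (ha.trans hb.symm)) hab
    · exact Or.inl ⟨ha, hb⟩
    · exact Or.inr ⟨ha, hb⟩
    · exact absurd (MulAction.injective g (ha.trans hb.symm)) hab
  refine ⟨fun heven => ?_, fun hne => ?_⟩
  · have : Fact (Nat.Prime 2) := ⟨Nat.prime_two⟩
    obtain ⟨t, ht⟩ := exists_prime_orderOf_dvd_card' (G := G) 2 heven.two_dvd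
    obtain ⟨a, ha⟩ : ∃ a, t • a ≠ a := by
      by_contra hno
      push Not at hno
      have : t = 1 := Subtype.ext (Equiv.ext hno)
      rw [this, orderOf_one] at ht
      omega
    have htt : t • t • a = a := by
      rw [← mul_smul, ← sq, ← ht, pow_orderOf_eq_one, one_smul]
    rw [is_two_pretransitive_iff]
    intro x y z w hxy hzw
    obtain ⟨g, hg⟩ := hpair x y a (t • a) hxy (Ne.symm ha)
    obtain ⟨f, hf⟩ := hpair z w a (t • a) hzw (Ne.symm ha)
    rcases hg with ⟨g1, g2⟩ | ⟨g1, g2⟩ <;> rcases hf with ⟨f1, f2⟩ | ⟨f1, f2⟩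
    · exact ⟨f⁻¹ * g, by rw [mul_smul, g1, ← f1, inv_smul_smul], by rw [mul_smul, g2, ← f2, inv_smul_smul]⟩
    · exact ⟨f⁻¹ * t * g, by rw [mul_smul, mul_smul, g1, ← f1, inv_smul_smul], by rw [mul_smul, mul_smul, g2, htt, ← f2, inv_smul_smul]⟩
    · exact ⟨f⁻¹ * t * g, by rw [mul_smul, mul_smul, g1, htt, ← f1, inv_smul_smul], by rw [mul_smul, mul_smul, g2, ← f2, inv_smul_smul]⟩
    · exact ⟨f⁻¹ * g, by rw [mul_smul, g1, ← f1, inv_smul_smul], by rw [mul_smul, g2, ← f2, inv_smul_smul]⟩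
  · obtain ⟨σ, hσ⟩ := (Subgroup.ne_bot_iff_exists_ne_one).1 hne
    obtain ⟨c, hc⟩ : ∃ c, σ • c ≠ c := by
      by_contra hno
      push Not at hno
      exact hσ (Subtype.ext (Equiv.ext hno))
    have : IsPretransitive G α := by
      refine ⟨fun a b => ?_⟩
      by_cases hab : a = b
      · exact ⟨1, by rw [hab, one_smul]⟩
      obtain ⟨g, hg⟩ := hpair c (σ • c) a b (Ne.symm hc) hab
      rcases hg with ⟨g1, g2⟩ | ⟨g1, g2⟩
      · exact ⟨g * σ * g⁻¹, by rw [mul_smul, mul_smul, ← g1, inv_smul_smul, g2]⟩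
      · exact ⟨g * σ⁻¹ * g⁻¹, by rw [mul_smul, mul_smul, ← g2, inv_smul_smul, inv_smul_smul, g1]⟩
    refine ⟨fun {B} hB => ?_⟩
    by_cases hs : B.Subsingleton
    · exact Or.inl hs
    · right
      rw [Set.not_subsingleton_iff] at hs
      obtain ⟨a, ha, b, hb, hab⟩ := hs
      refine Set.eq_univ_of_forall fun z => ?_
      by_cases hza : a = z
      · exact hza ▸ ha
      obtain ⟨g, hg⟩ := hpair a b a z hab hza
      rcases hg with ⟨g1, g2⟩ | ⟨g1, g2⟩
      · rw [← g2, ← hB.smul_eq_of_mem ha (by rw [g1]; exact ha)]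
        exact ⟨b, hb, rfl⟩
      · rw [← g1, ← hB.smul_eq_of_mem hb (by rw [g2]; exact ha)]
        exact ⟨a, ha, rfl⟩

end Cfsg.Agent.S0735
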