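import Cfsg.Statements.S0736
import Mathlib

set_option autoImplicit false
open Cfsg

namespace Cfsg.Agent.S0736

---pre
open MulAction Finset
open scoped Pointwise

theorem exact_div {p a k : ℕ} (hp : p.Prime) (ha : p ^ a ∣ k) (ha' : ¬ p ^ (a + 1) ∣ k) (hk : 1 ≤ k) :
    ¬ p ∣ (k - 1 + p ^ a).choose (p ^ a) := by
  intro hd
  have h1 := hp.factorization_pos_of_dvd (Nat.choose_pos (Nat.le_add_left _ _)).ne' hd
  have hb : Nat.log p (k - 1 + p ^ a) < k + p ^ a := lt_of_le_of_lt (Nat.log_le_self _ _) (by omega)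
  rw [Nat.factorization_choose hp (Nat.le_add_left _ _) hb, Finset.card_pos] at h1
  obtain ⟨i, hi⟩ := h1
  rw [Finset.mem_filter] at hi
  obtain ⟨hi1, hi2⟩ := hi
  rw [Nat.add_sub_cancel] at hi2
  rcases Nat.lt_or_ge a i with h | h
  · have hq : p ^ a < p ^ i := Nat.pow_lt_pow_right hp.one_lt h
    rw [Nat.mod_eq_of_lt hq] at hi2
    have hki : ¬ p ^ i ∣ k := fun hd => ha' ((pow_dvd_pow p h).trans hd)
    have hr0 : k % p ^ i ≠ 0 := fun e => hki (Nat.dvd_of_mod_eq_zero e)
    have hdiv : p ^ a ∣ k % p ^ i := (Nat.dvd_mod_iff (pow_dvd_pow p h.le)).2 ha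
    have hlt : k % p ^ i < p ^ i := Nat.mod_lt _ (pow_pos hp.pos i)
    have hle : k % p ^ i + p ^ a ≤ p ^ i := by
      obtain ⟨u, hu⟩ := hdiv
      obtain ⟨v, hv⟩ := pow_dvd_pow p h.le
      rw [hu, hv] at hlt ⊢
      have : u < v := Nat.lt_of_mul_lt_mul_left hlt
      calc p ^ a * u + p ^ a = p ^ a * (u + 1) := by ring
        _ ≤ p ^ a * v := Nat.mul_le_mul_left _ this
    have hkm : (k - 1) % p ^ i = k % p ^ i - 1 := by
      have hdm := Nat.div_add_mod k (p ^ i)
      have : k - 1 = p ^ i * (k / p ^ i) + (k % p ^ i - 1) := by omega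
      rw [this, Nat.mul_add_mod, Nat.mod_eq_of_lt (by omega)]
    rw [hkm] at hi2
    omega
  · rw [Nat.mod_eq_zero_of_dvd (pow_dvd_pow p h) |> fun e => e] at hi2
    have := Nat.mod_lt (k - 1) (pow_pos hp.pos i)
    omega

/-- A `k`-homogeneous permutation group of degree `n`, `k ≥ 2`, with `k + q - 1 ≤ n` for every prime power `q` dividing `k`, is `(k-1)`-homogeneous. -/
theorem result {α : Type*} [Fintype α] [DecidableEq α] (G : Subgroup (Equiv.Perm α)) {k : ℕ} (hk : 2 ≤ k) (hG : MulAction.IsPretransitive G (Set.powersetCard α k)) (hq : ∀ q : ℕ, IsPrimePow q → q ∣ k → k + q - 1 ≤ Fintype.card α) : MulAction.IsPretransitive G (Set.powersetCard α (k - 1)) := by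
  classical
  refine ⟨fun A B => ?_⟩
  by_contra hno
  push Not at hno
  set n := Fintype.card α
  let O : Finset (Finset α) := Finset.univ.filter fun X => ∃ g : G, g • (A : Finset α) = X
  have memO : ∀ X, X ∈ O ↔ ∃ g : G, g • (A : Finset α) = X := fun X => by simp [O]
  have hOcard : ∀ X ∈ O, X.card = k - 1 := by
    intro X hX
    obtain ⟨g, rfl⟩ := (memO X).1 hX
    rw [Finset.card_smul_finset]; exact A.2
  have hA : (A : Finset α) ∈ O := (memO _).2 ⟨1, one_smul G _⟩
  have hB : (B : Finset α) ∉ O := fun h => by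
    obtain ⟨g, hg⟩ := (memO _).1 h
    exact hno g (Subtype.ext hg)
  -- the number of members of the orbit inside a `k`-set
  obtain ⟨t, ht⟩ : ∃ t, ∀ T : Finset α, T.card = k → (O.filter fun X => X ⊆ T).card = t := by
    by_cases hT : ∃ T : Finset α, T.card = k
    · obtain ⟨T0, hT0⟩ := hT
      refine ⟨(O.filter fun X => X ⊆ T0).card, fun T hT => ?_⟩
      obtain ⟨g, hg⟩ := hG.exists_smul_eq ⟨T0, hT0⟩ ⟨T, hT⟩
      have hg' : g • T0 = T := congrArg Subtype.val hg
      refine (Finset.card_bij (fun X _ => g • X) (fun X hX => ?_) (fun X _ Y _ e => MulAction.injective g e) (fun Y hY => ?_)).symm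
      · rw [Finset.mem_filter] at hX ⊢
        obtain ⟨f, hf⟩ := (memO X).1 hX.1
        exact ⟨(memO _).2 ⟨g * f, by rw [mul_smul, hf]⟩, hg' ▸ Finset.smul_finset_subset_smul_finset hX.2⟩
      · rw [Finset.mem_filter] at hY
        obtain ⟨f, hf⟩ := (memO Y).1 hY.1
        refine ⟨g⁻¹ • Y, Finset.mem_filter.2 ⟨(memO _).2 ⟨g⁻¹ * f, by rw [mul_smul, hf]⟩, ?_⟩, smul_inv_smul g Y⟩
        rw [← inv_smul_smul g T0, hg']
        exact Finset.smul_finset_subset_smul_finset hY.2
    · exact ⟨0, fun T h => absurd ⟨T, h⟩ hT⟩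
  have hcount : ∀ S : Finset α, (O.filter fun X => X ⊆ S).card * (S.card - (k - 1)) = S.card.choose k * t := by
    intro S
    have hX : ∀ X ∈ O.filter (fun X => X ⊆ S), ((S.powersetCard k).bipartiteAbove (fun X T => X ⊆ T) X).card = S.card - (k - 1) := by
      intro X hX
      obtain ⟨hXO, hXS⟩ := Finset.mem_filter.1 hX
      have hc := hOcard X hXO
      have e : (S.powersetCard k).bipartiteAbove (fun X T => X ⊆ T) X = (S \ X).image fun y => insert y X := by
        ext T
        rw [Finset.mem_bipartiteAbove, Finset.mem_powersetCard, Finset.mem_image]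
        constructor
        · rintro ⟨⟨hTS, hTc⟩, hXT⟩
          have h1 : (T \ X).card = 1 := by rw [Finset.card_sdiff_of_subset hXT]; omega
          obtain ⟨y, hy⟩ := Finset.card_eq_one.1 h1
          have hyT : y ∈ T \ X := by rw [hy]; exact Finset.mem_singleton_self y
          rw [Finset.mem_sdiff] at hyT
          refine ⟨y, Finset.mem_sdiff.2 ⟨hTS hyT.1, hyT.2⟩, Finset.eq_of_subset_of_card_le ?_ ?_⟩
          · exact Finset.insert_subset hyT.1 hXT
          · rw [Finset.card_insert_of_notMem hyT.2]; omega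
        · rintro ⟨y, hy, rfl⟩
          rw [Finset.mem_sdiff] at hy
          exact ⟨⟨Finset.insert_subset hy.1 hXS, by rw [Finset.card_insert_of_notMem hy.2]; omega⟩, Finset.subset_insert y X⟩
      rw [e, Finset.card_image_of_injOn, Finset.card_sdiff_of_subset hXS, hc]
      intro y hy z hz (hyz : insert y X = insert z X)
      have : y ∈ insert z X := hyz ▸ Finset.mem_insert_self y X
      rcases Finset.mem_insert.1 this with h | h
      · exact h
      · exact absurd h (Finset.mem_sdiff.1 hy).2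
    have hT : ∀ T ∈ S.powersetCard k, ((O.filter fun X => X ⊆ S).bipartiteBelow (fun X T => X ⊆ T) T).card = t := by
      intro T hT
      obtain ⟨hTS, hTc⟩ := Finset.mem_powersetCard.1 hT
      rw [← ht T hTc]
      congr 1
      ext X
      simp only [Finset.mem_bipartiteBelow, Finset.mem_filter]
      exact ⟨fun h => ⟨h.1.1, h.2⟩, fun h => ⟨⟨h.1, h.2.trans hTS⟩, h.2⟩⟩
    have := Finset.card_mul_eq_card_mul (fun (X T : Finset α) => X ⊆ T) hX hT
    rwa [Finset.card_powersetCard] at this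
  have hk0 : k ≠ 0 := by omega
  have hdvd : k ∣ t := by
    rw [Nat.dvd_iff_prime_pow_dvd_dvd]
    intro p j hp hpj
    set a := k.factorization p with ha
    refine (pow_dvd_pow p ((hp.pow_dvd_iff_le_factorization hk0).1 hpj)).trans ?_
    show p ^ a ∣ t
    by_cases ha0 : a = 0
    · rw [ha0, pow_zero]; exact one_dvd _
    have hpa : p ^ a ∣ k := Nat.ordProj_dvd k p
    have hq' := hq (p ^ a) (hp.isPrimePow.pow ha0) hpa
    obtain ⟨S, -, hSc⟩ := Finset.exists_subset_card_eq (s := (Finset.univ : Finset α)) (n := k - 1 + p ^ a) (by rw [Finset.card_univ]; omega)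
    have h1 := hcount S
    have hsucc : (k - 1 + p ^ a).choose (k - 1 + 1) * (k - 1 + 1) = (k - 1 + p ^ a).choose (k - 1) * p ^ a := by
      rw [Nat.choose_succ_right_eq, Nat.add_sub_cancel_left]
    rw [Nat.sub_add_cancel (by omega : 1 ≤ k), Nat.choose_symm_add] at hsucc
    rw [hSc, Nat.add_sub_cancel_left] at h1
    have h2 : (O.filter fun X => X ⊆ S).card * k = (k - 1 + p ^ a).choose (p ^ a) * t := by
      apply Nat.eq_of_mul_eq_mul_left (pow_pos hp.pos a)
      calc p ^ a * ((O.filter fun X => X ⊆ S).card * k) = (O.filter fun X => X ⊆ S).card * p ^ a * k := by ring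
        _ = (k - 1 + p ^ a).choose k * k * t := by rw [h1]; ring
        _ = (k - 1 + p ^ a).choose (p ^ a) * p ^ a * t := by rw [hsucc]
        _ = p ^ a * ((k - 1 + p ^ a).choose (p ^ a) * t) := by ring
    have hco : (p ^ a).Coprime ((k - 1 + p ^ a).choose (p ^ a)) :=
      ((hp.coprime_iff_not_dvd).2 (exact_div hp hpa (Nat.pow_succ_factorization_not_dvd hk0 hp) (by omega))).pow_left a
    exact hco.dvd_of_dvd_mul_left (h2 ▸ hpa.trans (dvd_mul_left k _))
  -- compare with a `k`-set through `A`, and one through `B`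
  have hkn : k ≤ n := by
    obtain ⟨p, hp, hpk⟩ := Nat.exists_prime_and_dvd (show k ≠ 1 by omega)
    have := hq p hp.isPrimePow hpk
    have := hp.two_le
    omega
  have hext : ∀ X : Finset α, X.card = k - 1 → ∃ T, X ⊆ T ∧ T.card = k := by
    intro X hX
    obtain ⟨T, hXT, -, hT⟩ := Finset.exists_subsuperset_card_eq (n := k) (Finset.subset_univ X) (by omega) (by rw [Finset.card_univ]; omega)
    exact ⟨T, hXT, hT⟩
  obtain ⟨TA, hTA, hTAc⟩ := hext A A.2
  obtain ⟨TB, hTB, hTBc⟩ := hext B B.2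
  have hpos : 0 < t := ht TA hTAc ▸ Finset.card_pos.2 ⟨A, Finset.mem_filter.2 ⟨hA, hTA⟩⟩
  have hlt : t < k := by
    rw [← ht TB hTBc]
    have hsub : O.filter (fun X => X ⊆ TB) ⊂ TB.powersetCard (k - 1) := by
      rw [Finset.ssubset_iff_of_subset fun X hX => Finset.mem_powersetCard.2 ⟨(Finset.mem_filter.1 hX).2, hOcard X (Finset.mem_filter.1 hX).1⟩]
      exact ⟨B, Finset.mem_powersetCard.2 ⟨hTB, B.2⟩, fun h => hB (Finset.mem_filter.1 h).1⟩
    have h1 := Finset.card_lt_card hsub
    rw [Finset.card_powersetCard, hTBc] at h1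
    rwa [Nat.choose_symm (by omega : 1 ≤ k), Nat.choose_one_right] at h1
  have := Nat.le_of_dvd hpos hdvd
  omega

end Cfsg.Agent.S0736
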