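import Cfsg.Statements.S0738
import Mathlib

set_option autoImplicit false
open Cfsg

namespace Cfsg.Agent.S0738

/-- Let a finite Zassenhaus group of degree `n + 1` have two-point stabilisers of order `d` with `2d ≥ n - 1`. Then a normal subgroup of a point stabiliser acting regularly on the remaining points is elementary abelian, and the degree is a prime power plus one. -/
theorem result {G Ω : Type*} [Group G] [Finite G] [MulAction G Ω] [Fintype Ω] (hZ : Cfsg.IsZassenhausGroup G Ω) {a b : Ω} (hab : a ≠ b) (hd : Fintype.card Ω - 2 ≤ 2 * Nat.card ↥(MulAction.stabilizer G a ⊓ MulAction.stabilizer G b)) (F : Subgroup G) (hFle : F ≤ MulAction.stabilizer G a) (hFn : (F.subgroupOf (MulAction.stabilizer G a)).Normal) (hreg : ∀ y z : Ω, y ≠ a → z ≠ a → ∃! u : F, (u : G) • y = z) : IsMulCommutative F ∧ ∃ p f : ℕ, p.Prime ∧ (∀ u ∈ F, u ^ p = 1) ∧ Fintype.card Ω = p ^ f + 1 := by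
  classical
  obtain ⟨hfaith, -, h3, h4, -⟩ := hZ
  haveI := hfaith
  haveI : Finite G := Finite.of_injective (fun g : G => fun x : Ω => g • x)
    (fun g h e => FaithfulSMul.eq_of_smul_eq_smul fun x => congrFun e x)
  set H := MulAction.stabilizer G a ⊓ MulAction.stabilizer G b with hH
  set d := Nat.card H with hd'
  have hfix : ∀ u : F, (u : G) • a = a := fun u => hFle u.2
  -- the degree
  have hcard : Nat.card F + 1 = Fintype.card Ω := by
    have e : F ≃ {x : Ω // x ≠ a} := Equiv.ofBijective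
      (fun u => ⟨(u : G) • b, fun e => hab ((smul_left_cancel _ (e.trans (hfix u).symm)).symm)⟩)
      ⟨fun u v h => by
        obtain ⟨w, -, hw⟩ := hreg b ((u : G) • b) hab.symm (fun e => hab ((smul_left_cancel _ (e.trans (hfix u).symm)).symm))
        rw [hw u rfl, hw v (congrArg Subtype.val h).symm],
      fun x => by obtain ⟨u, hu, -⟩ := hreg b x hab.symm x.2; exact ⟨u, Subtype.ext hu⟩⟩
    rw [Nat.card_congr e, Nat.card_eq_fintype_card, Fintype.card_subtype_compl, Fintype.card_subtype_eq]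
    have : 0 < Fintype.card Ω := Fintype.card_pos_iff.mpr ⟨a⟩
    omega
  have hconj : ∀ h ∈ H, ∀ u : F, h * (u : G) * h⁻¹ ∈ F := fun h hh u =>
    (Subgroup.mem_normalizer_iff.mp ((Subgroup.normal_subgroupOf_iff_le_normalizer hFle).mp hFn hh.1) _).mp u.2
  have hfree : ∀ h ∈ H, ∀ u : F, u ≠ 1 → h * (u : G) * h⁻¹ = u → h = 1 := by
    intro h hh u hu e
    have hub : (u : G) • b ≠ b := fun e' => by
      obtain ⟨w, -, hw⟩ := hreg b b hab.symm hab.symm
      exact hu ((hw u e').trans (hw 1 (by simp)).symm)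
    have hua : (u : G) • b ≠ a := fun e' => hab (smul_left_cancel _ (e'.trans (hfix u).symm)).symm
    refine h3 h a b ((u : G) • b) hab hub.symm hua.symm hh.1 hh.2 ?_
    conv_rhs => rw [← e]
    rw [mul_smul, mul_smul, MulAction.mem_stabilizer_iff.mp (inv_mem hh.2 : h⁻¹ ∈ MulAction.stabilizer G b)]
  -- an invariant set containing a non-trivial element has more than `d` elements
  let cj : H → F → F := fun h u => ⟨(h : G) * u * (h : G)⁻¹, hconj h h.2 u⟩
  have hlower : ∀ M : Set F, (∀ (h : H), ∀ u ∈ M, cj h u ∈ M) → ∀ u ∈ M, u ≠ 1 →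
      d ≤ (M \ {1}).ncard := by
    intro M hM u hu hu1
    rw [← Nat.card_coe_set_eq, hd']
    refine Nat.card_le_card_of_injective (fun h : H => (⟨cj h u, hM h u hu, fun e => hu1 ?_⟩ : ↥(M \ {1}))) ?_
    · have e' : (h : G) * u * (h : G)⁻¹ = 1 := congrArg Subtype.val (Set.mem_singleton_iff.mp e)
      exact Subtype.ext (conj_eq_one_iff.mp e')
    · intro h h' e
      have e' : (h : G) * u * (h : G)⁻¹ = (h' : G) * u * (h' : G)⁻¹ :=
        congrArg (fun z : ↥(M \ {1}) => ((z : F) : G)) e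
      refine (inv_mul_eq_one.mp ?_).symm
      refine Subtype.ext (hfree _ (h'⁻¹ * h).2 u hu1 ?_)
      push_cast
      calc (h' : G)⁻¹ * h * u * ((h' : G)⁻¹ * h)⁻¹ = (h' : G)⁻¹ * ((h : G) * u * (h : G)⁻¹) * h' := by group
        _ = u := by rw [e']; group
  have htwo : ∀ M : Set F, (1 : F) ∈ M → (∀ (h : H), ∀ u ∈ M, cj h u ∈ M) → (∃ u ∈ M, u ≠ 1) → M ≠ Set.univ →
      M.ncard = d + 1 ∧ Nat.card F = 2 * d + 1 := by
    intro M h1 hM ⟨u, hu, hu1⟩ hne
    obtain ⟨w, hw⟩ := (Set.ne_univ_iff_exists_notMem M).mp hne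
    have hw1 : w ≠ 1 := fun e => hw (e ▸ h1)
    have a1 := hlower M hM u hu hu1
    have a2 := hlower (insert 1 Mᶜ) (fun h z hz => by
      rcases hz with rfl | hz
      · exact Or.inl (Subtype.ext (by simp [cj]))
      · refine Or.inr fun hc => hz ?_
        have := hM h⁻¹ _ hc
        rwa [show cj h⁻¹ (cj h z) = z from Subtype.ext (by simp [cj, mul_assoc])] at this) w (Or.inr hw) hw1
    rw [Set.ncard_diff_singleton_of_mem h1] at a1
    rw [Set.ncard_diff_singleton_of_mem (Set.mem_insert 1 _), Set.ncard_insert_of_notMem (by simp [h1]) (Set.toFinite _)] at a2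
    have a3 := Set.ncard_add_ncard_compl M
    have a4 : 0 < M.ncard := (Set.ncard_pos (Set.toFinite _)).mpr ⟨1, h1⟩
    omega
  have hF2 : 2 ≤ Nat.card F := by
    have : 3 ≤ Fintype.card Ω := by
      by_contra hlt
      obtain ⟨g, hg1, x, y, hxy, hgx, hgy⟩ := h4
      refine hg1 (FaithfulSMul.eq_of_smul_eq_smul (α := Ω) fun z => ?_)
      rw [one_smul]
      by_contra hz
      exact hlt (Fintype.two_lt_card_iff.mpr ⟨x, y, z, hxy, fun e => hz (e ▸ hgx), fun e => hz (e ▸ hgy)⟩)
    omega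
  -- exponent p
  obtain ⟨p, hp, hpF⟩ := Nat.exists_prime_and_dvd (n := Nat.card F) (by omega)
  haveI := Fact.mk hp
  obtain ⟨x₀, hx₀⟩ := exists_prime_orderOf_dvd_card' (G := F) p hpF
  set S : Set F := {x | x ^ p = 1} with hS
  have hSinv : ∀ (h : H), ∀ u ∈ S, cj h u ∈ S := fun h u hu => by
    refine Subtype.ext ?_
    have := congrArg Subtype.val (hu : u ^ p = 1)
    push_cast at this ⊢
    show ((h : G) * u * (h : G)⁻¹) ^ p = 1
    rw [conj_pow, this, mul_one, mul_inv_cancel]
  have hx₀1 : x₀ ≠ 1 := fun e => hp.ne_one (by rw [← hx₀, e, orderOf_one])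
  have hx₀p : x₀ ^ p = 1 := hx₀ ▸ pow_orderOf_eq_one x₀
  have hSdvd : p ∣ S.ncard := by
    have hP : IsPGroup p (Subgroup.zpowers x₀) := IsPGroup.of_card (n := 1) (by rw [Nat.card_zpowers, hx₀, pow_one])
    let S' := {x : F // x ^ p = 1}
    letI : MulAction (Subgroup.zpowers x₀) S' :=
      { smul := fun z x => ⟨(z : F) * x.1 * (z : F)⁻¹, by rw [conj_pow, x.2, mul_one, mul_inv_cancel]⟩
        one_smul := fun x => Subtype.ext (by show (1 : F) * x.1 * 1⁻¹ = x.1; simp)
        mul_smul := fun z w x => Subtype.ext (by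
          show ((z : F) * w) * x.1 * ((z : F) * w)⁻¹ = (z : F) * ((w : F) * x.1 * (w : F)⁻¹) * (z : F)⁻¹
          group) }
    have h1 := hP.card_modEq_card_fixedPoints S'
    have hmem : ∀ x : S', x ∈ MulAction.fixedPoints (Subgroup.zpowers x₀) S' ↔ Commute x₀ x.1 := fun x => by
      constructor
      · intro hx
        have := congrArg Subtype.val (hx ⟨x₀, Subgroup.mem_zpowers x₀⟩)
        exact (mul_inv_eq_iff_eq_mul.mp this)
      · intro hx z
        obtain ⟨k, hk⟩ := Subgroup.mem_zpowers_iff.mp z.2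
        refine Subtype.ext (mul_inv_eq_iff_eq_mul.mpr ?_)
        rw [← hk]
        exact (hx.zpow_left k).eq
    let T := {x : F // x ^ p = 1 ∧ Commute x₀ x}
    letI : MulAction (Subgroup.zpowers x₀) T :=
      { smul := fun z x => ⟨(z : F) * x.1, by
          obtain ⟨k, hk⟩ := Subgroup.mem_zpowers_iff.mp z.2
          rw [← hk]
          refine ⟨?_, ((Commute.refl x₀).zpow_right k).mul_right x.2.2⟩
          rw [(x.2.2.zpow_left k).mul_pow, x.2.1, mul_one, ← zpow_natCast, ← zpow_mul, mul_comm, zpow_mul,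
            zpow_natCast, hx₀p, one_zpow]⟩
        one_smul := fun x => Subtype.ext (one_mul x.1)
        mul_smul := fun z w x => Subtype.ext (mul_assoc (z : F) w x.1) }
    have h2 := hP.card_modEq_card_fixedPoints T
    have hempty : IsEmpty (MulAction.fixedPoints (Subgroup.zpowers x₀) T) := ⟨fun x => hx₀1
      (mul_eq_right.mp (congrArg Subtype.val (x.2 ⟨x₀, Subgroup.mem_zpowers x₀⟩)))⟩
    rw [Nat.card_of_isEmpty (α := MulAction.fixedPoints (Subgroup.zpowers x₀) T)] at h2
    have e : MulAction.fixedPoints (Subgroup.zpowers x₀) S' ≃ T :=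
      { toFun := fun x => ⟨x.1.1, x.1.2, (hmem x.1).mp x.2⟩
        invFun := fun x => ⟨⟨x.1, x.2.1⟩, (hmem _).mpr x.2.2⟩
        left_inv := fun x => rfl
        right_inv := fun x => rfl }
    rw [Nat.card_congr e] at h1
    rw [← Nat.card_coe_set_eq]
    exact Nat.modEq_zero_iff_dvd.mp (h1.trans h2)
  have hexp : ∀ x : F, x ^ p = 1 := by
    by_contra hne
    obtain ⟨e1, e2⟩ := htwo S (one_pow p) hSinv ⟨x₀, hx₀p, hx₀1⟩ (fun e => hne fun x => (e ▸ Set.mem_univ x : x ∈ S))
    rw [e1] at hSdvd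
    rw [e2] at hpF
    have h3' : p ∣ d := by
      have := Nat.dvd_sub hpF hSdvd
      rwa [show 2 * d + 1 - (d + 1) = d by omega] at this
    exact hp.ne_one (Nat.dvd_one.mp ((Nat.dvd_add_right h3').mp hSdvd))
  have hpg : IsPGroup p F := fun x => ⟨1, by rw [pow_one]; exact hexp x⟩
  haveI : Nontrivial F := Finite.one_lt_card_iff_nontrivial.mp (by omega)
  have hZ : Subgroup.center F = ⊤ := by
    by_contra hne
    obtain ⟨z, hz⟩ := @exists_ne _ hpg.center_nontrivial (1 : ↥(Subgroup.center F))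
    obtain ⟨e1, e2⟩ := htwo (Subgroup.center F : Set F) (one_mem _) (fun h u hu => by
      rw [SetLike.mem_coe, Subgroup.mem_center_iff] at hu ⊢
      intro v
      refine Subtype.ext ?_
      have hv := congrArg Subtype.val (hu ⟨(h : G)⁻¹ * v * h, by simpa using hconj _ (inv_mem h.2) v⟩)
      push_cast at hv
      show (v : G) * ((h : G) * u * (h : G)⁻¹) = (h : G) * u * (h : G)⁻¹ * v
      calc (v : G) * ((h : G) * u * (h : G)⁻¹) = (h : G) * ((h : G)⁻¹ * v * h * u) * (h : G)⁻¹ := by group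
        _ = (h : G) * (u * ((h : G)⁻¹ * v * h)) * (h : G)⁻¹ := by rw [hv]
        _ = _ := by group)
      ⟨z.1, z.2, fun e => hz (Subtype.ext e)⟩ (fun e => hne (eq_top_iff.mpr fun x _ => (e ▸ Set.mem_univ x : x ∈ (Subgroup.center F : Set F))))
    have h5 : Nat.card (Subgroup.center F) ∣ Nat.card F := Subgroup.card_subgroup_dvd_card _
    rw [← SetLike.coe_sort_coe, Nat.card_coe_set_eq, e1, e2] at h5
    have h6 : d + 1 ∣ d := by
      have := Nat.dvd_sub h5 (dvd_refl (d + 1))
      rwa [show 2 * d + 1 - (d + 1) = d by omega] at this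
    have := Nat.le_of_dvd Nat.card_pos h6
    omega
  obtain ⟨f, hf⟩ := IsPGroup.iff_card.mp hpg
  refine ⟨⟨⟨fun u v => (Subgroup.mem_center_iff.mp (hZ ▸ Subgroup.mem_top v) u)⟩⟩, p, f, hp,
    fun u hu => congrArg Subtype.val (hexp ⟨u, hu⟩), by omega⟩

end Cfsg.Agent.S0738
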