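import Cfsg.Statements.S0739
import Cfsg.Agent.Lib.Involution.ZassTransfer

set_option autoImplicit false
open Cfsg

namespace Cfsg.Agent.S0739

/-- In a finite Zassenhaus group whose two-point stabiliser `H = G_{a,b}` has odd order `d`, and which has no normal `q`-complement for any prime `q ∣ d`, `H` is cyclic, `C_G(H) = H`, and every element swapping `a` and `b` inverts each element of `H`. -/
theorem result {G Ω : Type*} [Group G] [Finite G] [MulAction G Ω] [Fintype Ω] (hZ : Cfsg.IsZassenhausGroup G Ω) {a b : Ω} (hab : a ≠ b) (hodd : Odd (Nat.card ↥(MulAction.stabilizer G a ⊓ MulAction.stabilizer G b))) (hnil : ∀ q : ℕ, q.Prime → q ∣ Nat.card ↥(MulAction.stabilizer G a ⊓ MulAction.stabilizer G b) → ¬ ∃ N : Subgroup G, N.Normal ∧ N.index = q ^ (Nat.card G).factorization q) : IsCyclic ↥(MulAction.stabilizer G a ⊓ MulAction.stabilizer G b) ∧ Subgroup.centralizer ((MulAction.stabilizer G a ⊓ MulAction.stabilizer G b : Subgroup G) : Set G) = MulAction.stabilizer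 G a ⊓ MulAction.stabilizer G b ∧ ∀ s : G, s • a = b → s • b = a → ∀ h ∈ MulAction.stabilizer G a ⊓ MulAction.stabilizer G b, s * h * s⁻¹ = h⁻¹ := by
  obtain ⟨H, hHa, hHcard, hHfix⟩ := Cfsg.Agent.Char.Zass.exists_kernel hZ hab (Cfsg.Agent.ZassTransfer.three_le hZ hab)
  haveI := Cfsg.Agent.Char.Zass.isZGroup hZ hab H hHa hHcard hHfix (Cfsg.Agent.ZassTransfer.three_le hZ hab) hodd
  have hC := Cfsg.Agent.ZassTransfer.le_commutator hZ hab hodd hnil
  have hinv : ∀ s : G, s • a = b → s • b = a → ∀ x ∈ MulAction.stabilizer G a ⊓ MulAction.stabilizer G b, s⁻¹ * x * s = x⁻¹ :=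
    fun s h1 h2 => (Cfsg.Agent.ZassTransfer.swap_inverts hZ hab hC (Cfsg.Agent.ZassTransfer.three_le hZ hab) hodd h1 h2).1
  obtain ⟨s, hsa, hsb⟩ := Cfsg.Agent.Char.Zass.exists_swap hZ hab
  have hcomm : ∀ x ∈ MulAction.stabilizer G a ⊓ MulAction.stabilizer G b,
      ∀ y ∈ MulAction.stabilizer G a ⊓ MulAction.stabilizer G b, x * y = y * x := by
    intro x hx y hy
    have h1 := hinv s hsa hsb (x * y) (Subgroup.mul_mem _ hx hy)
    rw [show s⁻¹ * (x * y) * s = (s⁻¹ * x * s) * (s⁻¹ * y * s) by group, hinv s hsa hsb x hx, hinv s hsa hsb y hy,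
      ← mul_inv_rev, inv_inj] at h1
    exact h1.symm
  refine ⟨?_, le_antisymm (fun x hx => ?_) (fun x hx => Subgroup.mem_centralizer_iff.mpr fun y hy => hcomm y hy x hx), fun t h1 h2 x hx => ?_⟩
  · haveI : IsMulCommutative ↥(MulAction.stabilizer G a ⊓ MulAction.stabilizer G b) :=
      ⟨⟨fun x y => Subtype.ext (hcomm x x.2 y y.2)⟩⟩
    letI : CommGroup ↥(MulAction.stabilizer G a ⊓ MulAction.stabilizer G b) :=
      { (inferInstance : Group ↥(MulAction.stabilizer G a ⊓ MulAction.stabilizer G b)) with mul_comm := fun x y => Subtype.ext (hcomm x x.2 y y.2) }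
    haveI : Group.IsNilpotent ↥(MulAction.stabilizer G a ⊓ MulAction.stabilizer G b) := CommGroup.isNilpotent
    infer_instance
  · obtain ⟨y, hy, hy1⟩ := Cfsg.Agent.Char.Zass.two_ne_bot hZ hab
    have hxy := Subgroup.mem_centralizer_iff.mp hx y hy
    have hxy' : x⁻¹ * y * x = y := by rw [mul_assoc, hxy, inv_mul_cancel_left]
    rcases Cfsg.Agent.Char.Zass.fix_or_swap hZ hab hy hy1 (g := x) (by rw [hxy']; exact hy) with ⟨h1, h2⟩ | ⟨h1, h2⟩
    · exact Cfsg.Agent.Char.Zass.mem_two.mpr ⟨h1, h2⟩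
    · exfalso
      have h3 := hinv x h1 h2 y hy
      rw [hxy'] at h3
      have h4 : y ^ 2 = 1 := by
        rw [pow_two]
        exact eq_inv_iff_mul_eq_one.mp h3
      obtain ⟨m, hm⟩ := hodd
      have h6 : y ^ Nat.card ↥(MulAction.stabilizer G a ⊓ MulAction.stabilizer G b) = 1 := by
        have := congrArg Subtype.val (pow_card_eq_one' (x := (⟨y, hy⟩ : ↥(MulAction.stabilizer G a ⊓ MulAction.stabilizer G b))))
        rwa [SubmonoidClass.coe_pow] at this
      rw [hm, pow_succ, pow_mul, h4, one_pow, one_mul] at h6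
      exact hy1 h6
  · have h3 := hinv t⁻¹ (inv_smul_eq_iff.mpr h2.symm) (inv_smul_eq_iff.mpr h1.symm) x hx
    rwa [inv_inv] at h3

end Cfsg.Agent.S0739
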