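import Cfsg.Statements.S0741
import Mathlib

set_option autoImplicit false
open Cfsg

namespace Cfsg.Agent.S0741

/-- If the two-point stabilisers of a finite Zassenhaus group of degree `n + 1` have even order `d`, then `2d ≥ n - 1`. -/
theorem result {G Ω : Type*} [Group G] [Finite G] [MulAction G Ω] [Fintype Ω] (hZ : Cfsg.IsZassenhausGroup G Ω) {a b : Ω} (hab : a ≠ b) (heven : Even (Nat.card ↥(MulAction.stabilizer G a ⊓ MulAction.stabilizer G b))) : Fintype.card Ω - 2 ≤ 2 * Nat.card ↥(MulAction.stabilizer G a ⊓ MulAction.stabilizer G b) := by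
  classical
  obtain ⟨hfaith, h2, h3, -, -⟩ := hZ
  haveI := hfaith
  haveI : Finite G := Finite.of_injective (fun g : G => fun x : Ω => g • x)
    (fun g h e => FaithfulSMul.eq_of_smul_eq_smul fun x => congrFun e x)
  haveI : Fintype G := Fintype.ofFinite G
  set H := MulAction.stabilizer G a ⊓ MulAction.stabilizer G b with hH
  obtain ⟨t, ht⟩ := exists_prime_orderOf_dvd_card' (G := H) 2 heven.two_dvd
  have htG : orderOf (t : G) = 2 := by rw [Subgroup.orderOf_coe, ht]
  let I : Finset G := Finset.univ.filter fun i => ∃ g : G, g * t * g⁻¹ = i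
  have hI : ∀ i ∈ I, i ≠ 1 ∧ ∀ x : Ω, i • i • x = x := by
    intro i hi
    obtain ⟨g, rfl⟩ := (Finset.mem_filter.mp hi).2
    refine ⟨fun e => ?_, fun x => ?_⟩
    · rw [conj_eq_one_iff] at e
      rw [e, orderOf_one] at htG; omega
    · rw [← mul_smul, show g * (t : G) * g⁻¹ * (g * (t : G) * g⁻¹) = g * ((t : G) ^ 2) * g⁻¹ by rw [pow_two]; group,
        ← htG, pow_orderOf_eq_one, mul_one, mul_inv_cancel, one_smul]
  -- an involution fixes at most two points
  have hfix : ∀ i ∈ I, (Finset.univ.filter fun x : Ω => i • x = x).card ≤ 2 := by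
    intro i hi
    by_contra hlt
    obtain ⟨x, y, z, hx, hy, hz, hxy, hxz, hyz⟩ := Finset.two_lt_card_iff.mp (not_le.mp hlt)
    exact (hI i hi).1 (h3 i x y z hxy hyz hxz (Finset.mem_filter.mp hx).2 (Finset.mem_filter.mp hy).2
      (Finset.mem_filter.mp hz).2)
  -- at most `d` of them exchange two given points
  have hswap : ∀ x y : Ω, x ≠ y → (I.filter fun i => i • x = y).card ≤ Nat.card H := by
    intro x y hxy
    rcases (I.filter fun i => i • x = y).eq_empty_or_nonempty with he | ⟨i₀, hi₀⟩
    · rw [he]; simp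
    obtain ⟨g, hga, hgb⟩ := MulAction.is_two_pretransitive_iff.mp h2 hab hxy
    rw [Nat.card_eq_fintype_card, ← Finset.card_univ]
    have hmem : ∀ i ∈ I.filter (fun i => i • x = y), g⁻¹ * (i₀ * i) * g ∈ H := by
      intro i hi
      obtain ⟨hiI, hix⟩ := Finset.mem_filter.mp hi
      obtain ⟨hi0I, hi0x⟩ := Finset.mem_filter.mp hi₀
      have hiy : i • y = x := by rw [← hix]; exact (hI i hiI).2 x
      have hi0y : i₀ • y = x := by rw [← hi0x]; exact (hI i₀ hi0I).2 x
      refine ⟨MulAction.mem_stabilizer_iff.mpr ?_, MulAction.mem_stabilizer_iff.mpr ?_⟩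
      · rw [mul_smul, hga, mul_smul, mul_smul, hix, hi0y, ← hga, inv_smul_smul]
      · rw [mul_smul, hgb, mul_smul, mul_smul, hiy, hi0x, ← hgb, inv_smul_smul]
    refine Finset.card_le_card_of_injOn
      (fun i => if hi : i ∈ I.filter (fun i => i • x = y) then (⟨_, hmem i hi⟩ : H) else 1)
      (fun _ _ => Finset.mem_univ _) fun i hi j hj e => ?_
    simp only [dif_pos (Finset.mem_coe.mp hi), dif_pos (Finset.mem_coe.mp hj), Subtype.mk.injEq] at e
    exact mul_left_cancel (mul_left_cancel (mul_right_cancel e))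
  let P : Finset (Ω × Ω) := Finset.univ.filter fun q => q.1 ≠ q.2
  -- every ordered pair is fixed by one of them
  have hP : P.card ≤ I.card * 2 := by
    have hsub : P ⊆ I.biUnion fun i => P.filter fun q => i • q.1 = q.1 ∧ i • q.2 = q.2 := by
      intro q hq
      obtain ⟨g, hga, hgb⟩ := MulAction.is_two_pretransitive_iff.mp h2 hab (Finset.mem_filter.mp hq).2
      refine Finset.mem_biUnion.mpr ⟨g * t * g⁻¹, Finset.mem_filter.mpr ⟨Finset.mem_univ _, g, rfl⟩,
        Finset.mem_filter.mpr ⟨hq, ?_, ?_⟩⟩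
      · rw [← hga, mul_smul, mul_smul, inv_smul_smul, MulAction.mem_stabilizer_iff.mp t.2.1]
      · rw [← hgb, mul_smul, mul_smul, inv_smul_smul, MulAction.mem_stabilizer_iff.mp t.2.2]
    refine (Finset.card_le_card hsub).trans (Finset.card_biUnion_le.trans ?_)
    refine (Finset.sum_le_card_nsmul _ _ 2 fun i hi => ?_).trans_eq (smul_eq_mul _ _)
    refine (Finset.card_le_card (t := (Finset.univ.filter fun x : Ω => i • x = x).offDiag) fun q hq => ?_).trans ?_
    · obtain ⟨hq, h1, h2'⟩ := Finset.mem_filter.mp hq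
      exact Finset.mem_offDiag.mpr ⟨by simp [h1], by simp [h2'], (Finset.mem_filter.mp hq).2⟩
    · rw [Finset.offDiag_card]
      have := hfix i hi
      interval_cases (Finset.univ.filter fun x : Ω => i • x = x).card <;> omega
  -- count the moved points
  have hmoved : I.card * (Fintype.card Ω - 2) ≤ P.card * Nat.card H := by
    have h1 : I.card * (Fintype.card Ω - 2) ≤ ∑ i ∈ I, (Finset.univ.filter fun x : Ω => ¬ i • x = x).card := by
      refine le_trans (smul_eq_mul _ _).ge (Finset.card_nsmul_le_sum _ _ _ fun i hi => ?_)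
      have := Finset.card_filter_add_card_filter_not (s := (Finset.univ : Finset Ω)) (fun x => i • x = x)
      have := hfix i hi
      rw [Finset.card_univ] at *
      omega
    refine h1.trans ?_
    rw [← Finset.card_sigma]
    have h2' : ((I.sigma fun i => Finset.univ.filter fun x : Ω => ¬ i • x = x)).card ≤
        (P.sigma fun q => I.filter fun i => i • q.1 = q.2).card := by
      refine Finset.card_le_card_of_injOn (fun z => ⟨(z.2, z.1 • z.2), z.1⟩) (fun z hz => ?_) ?_
      · obtain ⟨hz1, hz2⟩ := Finset.mem_sigma.mp hz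
        simp only [Finset.mem_coe, Finset.mem_sigma, Finset.mem_filter, P, Finset.mem_univ, true_and]
        exact ⟨fun e => (Finset.mem_filter.mp hz2).2 e.symm, hz1, trivial⟩
      · rintro ⟨i, x⟩ _ ⟨j, y⟩ _ e
        simp only [Sigma.mk.inj_iff, Prod.mk.injEq, heq_eq_eq] at e
        obtain ⟨⟨rfl, -⟩, rfl⟩ := e
        rfl
    refine h2'.trans ?_
    rw [Finset.card_sigma]
    exact (Finset.sum_le_card_nsmul _ _ _ fun q hq => hswap q.1 q.2 (Finset.mem_filter.mp hq).2).trans_eq (smul_eq_mul _ _)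
  have hpos : 0 < I.card := Finset.card_pos.mpr ⟨(t : G), Finset.mem_filter.mpr ⟨Finset.mem_univ _, 1, by simp⟩⟩
  refine Nat.le_of_mul_le_mul_left (hmoved.trans ((Nat.mul_le_mul_right _ hP).trans_eq ?_)) hpos
  ring

end Cfsg.Agent.S0741
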