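import Cfsg.Statements.S0743
import Mathlib
import Cfsg.Agent.Lib.Perm.Multi

set_option autoImplicit false
open Cfsg

namespace Cfsg.Agent.S0743

---pre
open MulAction Cfsg.Agent.Perm

/-- Gleason's Lemma: let `p` be a prime and `1 ≤ k < n`; if every `k`-subset of the `n` points is exactly the fixed-point set of some `p`-subgroup of `G`, then `G` is `k`-transitive. -/
theorem result {α : Type*} [Fintype α] [DecidableEq α] (G : Subgroup (Equiv.Perm α)) {p k : ℕ} (hp : p.Prime) (hk : 1 ≤ k) (hkn : k < Fintype.card α) (h : ∀ s : Finset α, s.card = k → ∃ P : Subgroup G, IsPGroup p P ∧ MulAction.fixedPoints P α = (s : Set α)) : MulAction.IsMultiplyPretransitive G α k := by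
  have hpf : Fact p.Prime := ⟨hp⟩
  have hlast : ∀ t : Finset α, t.card = k - 1 → FixTrans G t := by
    intro t ht a b ha hb
    have hins : ∀ c : α, c ∉ t → (insert c t).card = k := fun c hc => by
      rw [Finset.card_insert_of_notMem hc, ht]; omega
    have hex : ∀ c : α, ∃ Q : Subgroup G, c ∉ t → IsPGroup p Q ∧
        MulAction.fixedPoints Q α = ((insert c t : Finset α) : Set α) := fun c => by
      by_cases hc : c ∈ t
      · exact ⟨⊥, fun h' => absurd hc h'⟩
      · obtain ⟨Q, hQ⟩ := h (insert c t) (hins c hc)
        exact ⟨Q, fun _ => hQ⟩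
    choose P hP using hex
    have hfix : ∀ c, c ∉ t → ∀ g ∈ P c, ∀ x ∈ insert c t, g • x = x := by
      intro c hc g hg x hx
      have h1 : x ∈ MulAction.fixedPoints (P c) α := by rw [(hP c hc).2]; exact hx
      exact h1 ⟨g, hg⟩
    obtain ⟨g, hg, hga⟩ := transitive_of_counting {x | x ∉ t} p hp.one_lt.ne' (fixingSubgroup G (t : Set α))
      (by
        intro g hg x hx hgx
        have := (mem_fixingSubgroup_iff G).1 hg _ hgx
        exact hx (MulAction.injective g this ▸ hgx))
      P
      (by
        intro c hc
        exact ⟨fun g hg => (mem_fixingSubgroup_iff G).2 fun x hx =>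
            hfix c hc g hg x (Finset.mem_insert_of_mem hx),
          fun g hg => hfix c hc g hg c (Finset.mem_insert_self c t)⟩)
      (by
        intro c hc x hx hxc
        obtain ⟨n, hn⟩ := (hP c hc).1.card_orbit x
        rw [hn]
        refine dvd_pow_self p fun h0 => ?_
        rw [h0, pow_zero, Nat.card_eq_one_iff_unique] at hn
        have hfixed : x ∈ MulAction.fixedPoints (P c) α := fun g => by
          have := hn.1.elim ⟨g • x, MulAction.mem_orbit x g⟩ ⟨x, MulAction.mem_orbit_self x⟩
          exact congrArg Subtype.val this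
        rw [(hP c hc).2, Finset.mem_coe, Finset.mem_insert] at hfixed
        exact hfixed.elim hxc hx)
      (a := a) (b := b) ha hb
    exact ⟨g, fun x hx => (mem_fixingSubgroup_iff G).1 hg x hx, hga⟩
  exact isMultiplyPretransitive_of_fixTrans fun s hs =>
    FixTrans.downward (j := k - 1) (by omega) hlast s (by omega)

end Cfsg.Agent.S0743
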