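import Cfsg.Statements.S0744
import Mathlib
import Cfsg.Agent.Lib.Perm.Multi

set_option autoImplicit false
open Cfsg

namespace Cfsg.Agent.S0744

---pre
open MulAction Cfsg.Agent.Perm

/-- If for some `k > 1` the pointwise stabilisers of all `(k-1)`-subsets have the same order `> 1` and those of all `k`-subsets have the same order, then the group is `(k-1)`-transitive. -/
theorem result {α : Type*} [Fintype α] [DecidableEq α] (G : Subgroup (Equiv.Perm α)) {k : ℕ} (hk : 1 < k) (hkn : k ≤ Fintype.card α) (l m : ℕ) (hl : 1 < l) (hkm1 : ∀ s : Finset α, s.card = k - 1 → Nat.card (fixingSubgroup G (s : Set α)) = l) (hkm : ∀ s : Finset α, s.card = k → Nat.card (fixingSubgroup G (s : Set α)) = m) : MulAction.IsMultiplyPretransitive G α (k - 1) := by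
  have hmul : ∀ u : Finset α, u.card = k - 1 → ∀ x, x ∉ u →
      Nat.card (MulAction.orbit (fixingSubgroup G (u : Set α)) x) * m = l := by
    intro u hu x hx
    rw [← hkm1 u hu, ← hkm (insert x u) (by rw [Finset.card_insert_of_notMem hx, hu]; omega)]
    have e : Nat.card (fixingSubgroup G ((insert x u : Finset α) : Set α)) =
        Nat.card (MulAction.stabilizer (fixingSubgroup G (u : Set α)) x) := by
      refine Nat.card_congr ⟨fun g => ⟨⟨g.1, ?_⟩, ?_⟩, fun g => ⟨g.1.1, ?_⟩, fun g => rfl, fun g => rfl⟩
      · exact (mem_fixingSubgroup_iff G).2 fun y hy =>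
          (mem_fixingSubgroup_iff G).1 g.2 y (Finset.mem_insert_of_mem hy)
      · exact (mem_fixingSubgroup_iff G).1 g.2 x (Finset.mem_insert_self x u)
      · refine (mem_fixingSubgroup_iff G).2 fun y hy => ?_
        rcases Finset.mem_insert.1 hy with rfl | hy
        · exact g.2
        · exact (mem_fixingSubgroup_iff G).1 g.1.2 y hy
    rw [e, ← Nat.card_prod]
    exact Nat.card_congr (MulAction.orbitProdStabilizerEquivGroup _ x)
  have hd : ∀ u : Finset α, u.card = k - 1 → ∀ x, x ∉ u →
      Nat.card (MulAction.orbit (fixingSubgroup G (u : Set α)) x) = l / m := by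
    intro u hu x hx
    have h1 := hmul u hu x hx
    have hm : 0 < m := Nat.pos_of_ne_zero fun h0 => by rw [h0, mul_zero] at h1; omega
    rw [← h1, Nat.mul_div_cancel _ hm]
  obtain ⟨s0, hs0⟩ : ∃ s : Finset α, s.card = k - 1 := by
    obtain ⟨s, _, hs⟩ := Finset.exists_subset_card_eq (s := (Finset.univ : Finset α)) (n := k - 1)
      (by rw [Finset.card_univ]; omega)
    exact ⟨s, hs⟩
  have hlm : l / m ≠ 1 := by
    intro h1
    have hbot : fixingSubgroup G (s0 : Set α) = ⊥ := by
      rw [Subgroup.eq_bot_iff_forall]
      intro g hg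
      refine Subtype.ext (Equiv.ext fun x => ?_)
      by_cases hx : x ∈ s0
      · exact (mem_fixingSubgroup_iff G).1 hg x hx
      · have h2 := hd s0 hs0 x hx
        rw [h1, Nat.card_eq_one_iff_unique] at h2
        exact congrArg Subtype.val (h2.1.elim
          ⟨(⟨g, hg⟩ : fixingSubgroup G (s0 : Set α)) • x, MulAction.mem_orbit x _⟩ ⟨x, MulAction.mem_orbit_self x⟩)
    have := hkm1 s0 hs0
    rw [hbot, Subgroup.card_bot] at this
    omega
  have hlast : ∀ t : Finset α, t.card = k - 2 → FixTrans G t := by
    intro t ht a b ha hb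
    have hins : ∀ c : α, c ∉ t → (insert c t).card = k - 1 := fun c hc => by
      rw [Finset.card_insert_of_notMem hc, ht]; omega
    obtain ⟨g, hg, hga⟩ := transitive_of_counting {x | x ∉ t} (l / m) hlm (fixingSubgroup G (t : Set α))
      (by
        intro g hg x hx hgx
        have := (mem_fixingSubgroup_iff G).1 hg _ hgx
        exact hx (MulAction.injective g this ▸ hgx))
      (fun c => fixingSubgroup G ((insert c t : Finset α) : Set α))
      (by
        intro c hc
        exact ⟨fun g hg => (mem_fixingSubgroup_iff G).2 fun x hx =>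
            (mem_fixingSubgroup_iff G).1 hg x (Finset.mem_insert_of_mem hx),
          fun g hg => (mem_fixingSubgroup_iff G).1 hg c (Finset.mem_insert_self c t)⟩)
      (by
        intro c hc x hx hxc
        rw [hd (insert c t) (hins c hc) x (fun h => (Finset.mem_insert.1 h).elim hxc hx)])
      (a := a) (b := b) ha hb
    exact ⟨g, fun x hx => (mem_fixingSubgroup_iff G).1 hg x hx, hga⟩
  exact isMultiplyPretransitive_of_fixTrans fun s hs =>
    FixTrans.downward (j := k - 2) (by omega) hlast s (by omega)

end Cfsg.Agent.S0744
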