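import Cfsg.Statements.S0754
import Cfsg.Agent.Lib.Classical.Quad

set_option autoImplicit false
open Cfsg

open Cfsg.Agent.Classical

namespace Cfsg.Agent.S0754

/-- In a field F with q^2 elements, every non-zero μ with μ^q = μ (that is, μ in the subfield of order q) has exactly q + 1 solutions λ of λ^(q+1) = μ. -/
theorem result {F : Type*} [Field F] [Fintype F] {q : ℕ} (hF : Fintype.card F = q ^ 2) (μ : F) (hμ : μ ≠ 0) (hμq : μ ^ q = μ) : Nat.card {x : F // x ^ (q + 1) = μ} = q + 1 := by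
  classical
  have hq : 1 < q := by
    have := Fintype.one_lt_card (α := F)
    rw [hF] at this
    rcases Nat.lt_or_ge 1 q with h | h
    · exact h
    · interval_cases q <;> simp at this
  obtain ⟨g, hg⟩ := IsCyclic.exists_generator (α := Fˣ)
  have hcard : Nat.card Fˣ = (q + 1) * (q - 1) := by
    rw [Nat.card_units, Nat.card_eq_fintype_card, hF]
    simpa using Nat.sq_sub_sq q 1
  have hord : orderOf g = (q + 1) * (q - 1) := by
    rw [orderOf_eq_card_of_forall_mem_zpowers hg, hcard]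
  obtain ⟨k, hk⟩ := (mem_powers_iff_mem_zpowers.2 (hg (Units.mk0 μ hμ)) : Units.mk0 μ hμ ∈ Submonoid.powers g)
  have hk1 : g ^ (k * (q - 1)) = 1 := by
    rw [pow_mul, show g ^ k = Units.mk0 μ hμ from hk]
    refine Units.ext ?_
    rw [Units.val_pow_eq_pow_val, Units.val_mk0, Units.val_one]
    refine mul_right_cancel₀ hμ ?_
    rw [← pow_succ, Nat.sub_add_cancel hq.le, one_mul, hμq]
  have hd := orderOf_dvd_of_pow_eq_one hk1
  rw [hord] at hd
  obtain ⟨j, rfl⟩ := Nat.dvd_of_mul_dvd_mul_right (by omega) hd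
  let e : (powMonoidHom (q + 1) : Fˣ →* Fˣ).ker ≃ {x : F // x ^ (q + 1) = μ} :=
    { toFun := fun u => ⟨((u.1 * g ^ j : Fˣ) : F), by
        rw [← Units.val_pow_eq_pow_val, mul_pow, show u.1 ^ (q + 1) = 1 from u.2, one_mul, ← pow_mul,
          mul_comm, show g ^ ((q + 1) * j) = Units.mk0 μ hμ from hk]
        rfl⟩
      invFun := fun x => ⟨Units.mk0 x.1 (fun h => hμ (by rw [← x.2, h, zero_pow (by omega)])) * (g ^ j)⁻¹, by
        rw [MonoidHom.mem_ker, powMonoidHom_apply]
        rw [mul_pow, inv_pow, ← pow_mul, mul_comm j, show g ^ ((q + 1) * j) = Units.mk0 μ hμ from hk,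
          mul_inv_eq_one]
        exact Units.ext (by simpa using x.2)⟩
      left_inv := fun u => Subtype.ext (by
        show Units.mk0 ((u.1 * g ^ j : Fˣ) : F) _ * (g ^ j)⁻¹ = u.1
        rw [Units.mk0_val, mul_inv_cancel_right])
      right_inv := fun x => Subtype.ext (by
        show (((Units.mk0 x.1 _) * (g ^ j)⁻¹ * g ^ j : Fˣ) : F) = x.1
        rw [inv_mul_cancel_right, Units.val_mk0]) }
  rw [← Nat.card_congr e, IsCyclic.card_powMonoidHom_ker, hcard]
  exact Nat.gcd_eq_right (Dvd.intro _ rfl)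

end Cfsg.Agent.S0754
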