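import Cfsg.Statements.S0757
import Cfsg.Agent.Lib.Classical.Quad

set_option autoImplicit false
open Cfsg

open Cfsg.Agent.Classical

namespace Cfsg.Agent.S0757

/-- The two diagonal forms Σ x_i^2 and Σ_(i<n) x_i^2 + α x_n^2 on F^(n+1), with α a non-square and 2 ≠ 0 in F, are inequivalent quadratic forms (so over a finite field of odd order there are exactly two classes of non-singular symmetric bilinear forms in each dimension). -/
theorem result {F : Type*} [Field F] (h2 : (2 : F) ≠ 0) (n : ℕ) (α : F) (hα : ¬ IsSquare α) : ¬ (QuadraticMap.weightedSumSquares F (fun _ : Fin (n + 1) => (1 : F))).Equivalent (QuadraticMap.weightedSumSquares F (fun i : Fin (n + 1) => if i = Fin.last n then α else (1 : F))) := by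
  classical
  rintro ⟨e⟩
  set Q₁ := QuadraticMap.weightedSumSquares F (fun _ : Fin (n + 1) => (1 : F)) with hQ₁
  set Q₂ := QuadraticMap.weightedSumSquares F (fun i : Fin (n + 1) => if i = Fin.last n then α else (1 : F)) with hQ₂
  have hgram : ∀ w : Fin (n + 1) → F,
      Quad.gram (QuadraticMap.weightedSumSquares F w) = Matrix.diagonal fun i => 2 * w i := by
    intro w
    ext i j
    show QuadraticMap.polar _ _ _ = _
    simp only [QuadraticMap.polar, QuadraticMap.weightedSumSquares_apply, Pi.add_apply,
      smul_eq_mul, ← Finset.sum_sub_distrib]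
    rcases eq_or_ne i j with rfl | hij
    · rw [Matrix.diagonal_apply_eq, Finset.sum_eq_single i]
      · simp; ring
      · intro b _ hb; simp [Pi.single_eq_of_ne hb]
      · simp
    · rw [Matrix.diagonal_apply_ne _ hij, Finset.sum_eq_zero]
      intro b _
      by_cases hb : b = i
      · subst hb; simp [Pi.single_eq_of_ne hij]
      · simp [Pi.single_eq_of_ne hb]
  let A := LinearMap.toMatrix' (e.toLinearEquiv : (Fin (n + 1) → F) →ₗ[F] (Fin (n + 1) → F))
  have hA : ∀ x, Q₂ (A.mulVec x) = Q₁ x := fun x => by
    rw [LinearMap.toMatrix'_mulVec]; exact e.map_app x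
  have h : A.transpose * Quad.gram Q₂ * A = Quad.gram Q₁ := by
    ext i j
    have hp : QuadraticMap.polar (⇑Q₂) (A.mulVec (Pi.single i 1)) (A.mulVec (Pi.single j 1)) =
        QuadraticMap.polar (⇑Q₁) (Pi.single i 1) (Pi.single j 1) := by
      simp only [QuadraticMap.polar]
      rw [← Matrix.mulVec_add, hA, hA, hA]
    rw [Quad.polar_eq_gram, Quad.polar_eq_gram, ← Matrix.vecMul_transpose, ← Matrix.dotProduct_mulVec,
      Matrix.mulVec_mulVec, Matrix.mulVec_mulVec, Matrix.mul_assoc] at hp
    simpa [Matrix.mul_assoc] using hp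
  have hd := congrArg Matrix.det h
  rw [hQ₁, hQ₂, hgram, hgram, Matrix.det_mul, Matrix.det_mul, Matrix.det_transpose,
    Matrix.det_diagonal, Matrix.det_diagonal, Finset.prod_mul_distrib, Finset.prod_mul_distrib] at hd
  simp only [Finset.prod_ite_eq', Finset.mem_univ, if_true, Finset.prod_const_one, mul_one,
    Finset.prod_const, Finset.card_univ, Fintype.card_fin] at hd
  have h2n : (2 : F) ^ (n + 1) ≠ 0 := pow_ne_zero _ h2
  have : A.det * A.det * α = 1 := mul_left_cancel₀ h2n (by linear_combination hd)
  refine hα ⟨A.det⁻¹, ?_⟩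
  have hdet : A.det ≠ 0 := fun h0 => by simp [h0] at this
  field_simp
  linear_combination this

end Cfsg.Agent.S0757
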