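import Cfsg.Statements.S0758
import Cfsg.Agent.Lib.Classical.Quad

set_option autoImplicit false
open Cfsg

open Cfsg.Agent.Classical

namespace Cfsg.Agent.S0758

/-- For a finite field F of odd order q and a non-square α: the form x² + y² is isotropic iff q ≡ 1 mod 4, and the form x² + α y² is isotropic iff q ≡ 3 mod 4. -/
theorem result {F : Type*} [Field F] [Fintype F] (h2 : (2 : F) ≠ 0) (α : F) (hα : ¬ IsSquare α) : ((∃ x y : F, (x ≠ 0 ∨ y ≠ 0) ∧ x ^ 2 + y ^ 2 = 0) ↔ Fintype.card F % 4 = 1) ∧ ((∃ x y : F, (x ≠ 0 ∨ y ≠ 0) ∧ x ^ 2 + α * y ^ 2 = 0) ↔ Fintype.card F % 4 = 3) := by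
  classical
  have hchar : ringChar F ≠ 2 := fun h => h2 (by
    have := CharP.cast_eq_zero F (ringChar F); rw [h] at this; exact_mod_cast this)
  have hodd : Fintype.card F % 2 = 1 := FiniteField.odd_card_of_char_ne_two hchar
  have hkey : ∀ c : F, c ≠ 0 → ((∃ x y : F, (x ≠ 0 ∨ y ≠ 0) ∧ x ^ 2 + c * y ^ 2 = 0) ↔ IsSquare (-c)) := by
    intro c hc
    constructor
    · rintro ⟨x, y, hxy, h⟩
      have hy : y ≠ 0 := by
        rintro rfl
        simp at h
        exact (hxy.elim (fun hx => hx h) fun h0 => h0 rfl)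
      refine ⟨x / y, ?_⟩
      field_simp
      linear_combination -h
    · rintro ⟨r, hr⟩
      exact ⟨r, 1, Or.inr one_ne_zero, by linear_combination -hr⟩
  have hneg := FiniteField.isSquare_neg_one_iff (F := F)
  constructor
  · have h := hkey 1 one_ne_zero
    simp only [one_mul] at h
    rw [h, hneg]
    omega
  · have hα0 : α ≠ 0 := fun h => hα (h ▸ IsSquare.zero)
    rw [hkey α hα0, ← quadraticChar_one_iff_isSquare (neg_ne_zero.2 hα0), neg_eq_neg_one_mul α,
      map_mul]
    by_cases hs : IsSquare (-1 : F)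
    · rw [(quadraticChar_one_iff_isSquare (neg_ne_zero.2 one_ne_zero)).2 hs,
        quadraticChar_neg_one_iff_not_isSquare.2 hα]
      have := hneg.1 hs
      constructor
      · intro h; norm_num at h
      · intro h; omega
    · rw [quadraticChar_neg_one_iff_not_isSquare.2 hs, quadraticChar_neg_one_iff_not_isSquare.2 hα]
      have : Fintype.card F % 4 = 3 := by
        rw [hneg] at hs; omega
      simp [this]

end Cfsg.Agent.S0758
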