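import Cfsg.Statements.S0759
import Cfsg.Agent.Lib.Classical.Disc

set_option autoImplicit false
open Cfsg

open Cfsg.Agent.Classical
open Module QuadraticMap

namespace Cfsg.Agent.S0759

/-- Type of the orthonormal form: over a finite field of odd order q and for m ≥ 1, the quadratic form Σ_(i<2m) x_i² on F^(2m) admits an m-dimensional subspace on which it vanishes identically if and only if it is not the case that q ≡ 3 (mod 4) and m is odd. -/
theorem result {F : Type*} [Field F] [Fintype F] (h2 : (2 : F) ≠ 0) (m : ℕ) (hm : 1 ≤ m) : (∃ W : Submodule F (Fin (2 * m) → F), Module.finrank F W = m ∧ ∀ w ∈ W, ∑ i, w i ^ 2 = 0) ↔ ¬ (Fintype.card F % 4 = 3 ∧ Odd m) := by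
  classical
  let B : LinearMap.BilinForm F (Fin (2 * m) → F) := LinearMap.mk₂ F (fun x y => ∑ i, x i * y i)
    (fun u u' v => by simp [add_mul, Finset.sum_add_distrib]) (fun c u v => by simp [Finset.mul_sum, mul_assoc])
    (fun u v v' => by simp [mul_add, Finset.sum_add_distrib]) (fun c u v => by simp [Finset.mul_sum, mul_left_comm])
  have hS : LinearMap.BilinForm.IsSymm B := ⟨fun x y => show ∑ i, x i * y i = ∑ i, y i * x i from Finset.sum_congr rfl fun i _ => mul_comm (x i) (y i)⟩
  have hB : B.Nondegenerate := by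
    have h1 : ∀ x, (∀ y, B x y = 0) → x = 0 := fun x hx => funext fun i => by
      simpa [B, Pi.single_apply] using hx (Pi.single i 1)
    exact ⟨h1, fun y hy => h1 y fun x => by rw [hS.eq]; exact hy x⟩
  have e : LinearMap.toMatrix₂ (Pi.basisFun F _) (Pi.basisFun F _) B = 1 := by
    ext i j
    simp [LinearMap.toMatrix₂_apply, B, Pi.single_apply, Matrix.one_apply, eq_comm]
  have hiff : (∃ W : Submodule F (Fin (2 * m) → F), Module.finrank F W = m ∧ ∀ w ∈ W, ∑ i, w i ^ 2 = 0) ↔
      (∃ W : Submodule F (Fin (2 * m) → F), Module.finrank F W = m ∧ ∀ x ∈ W, ∀ y ∈ W, B x y = 0) := by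
    constructor
    · rintro ⟨W, hW, h⟩
      refine ⟨W, hW, fun x hx y hy => ?_⟩
      have h1 := h _ (W.add_mem hx hy)
      simp only [Pi.add_apply, add_sq, Finset.sum_add_distrib, h _ hx, h _ hy, zero_add, add_zero, mul_assoc,
        ← Finset.mul_sum] at h1
      exact (mul_eq_zero.1 h1).resolve_left h2
    · rintro ⟨W, hW, h⟩
      exact ⟨W, hW, fun w hw => by simpa [B, pow_two] using h w hw w hw⟩
  rw [hiff, Disc.exists_isotropic_iff B hB hS h2 (by simp) (Pi.basisFun F _), e, Matrix.det_one, mul_one,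
    Disc.isSquare_neg_one_pow h2]
  have := FiniteField.odd_card_of_char_ne_two (Refl.ringChar_ne_two h2)
  rw [← Nat.not_even_iff_odd, not_and, not_not]
  constructor
  · rintro (h | h) h3
    · exact h
    · omega
  · intro h
    rcases (by omega : Fintype.card F % 4 = 1 ∨ Fintype.card F % 4 = 3) with h1 | h1
    · exact Or.inr h1
    · exact Or.inl (h h1)

end Cfsg.Agent.S0759
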