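import Cfsg.Statements.S0760
import Cfsg.Agent.Lib.Classical.WittExt

set_option autoImplicit false
open Cfsg

open Cfsg.Agent.Classical
open QuadraticMap

namespace Cfsg.Agent.S0760

variable {F V : Type*} [Field F] [AddCommGroup V] [Module F V] [FiniteDimensional F V] (Q : QuadraticForm F V)
  (hQ : (polarBilin Q).Nondegenerate)

include hQ

theorem le_of_max (W₁ W₂ : Submodule F V) (h₁ : ∀ w ∈ W₁, Q w = 0) (h₂ : ∀ w ∈ W₂, Q w = 0)
    (hmax₁ : ∀ W : Submodule F V, W₁ ≤ W → (∀ w ∈ W, Q w = 0) → W = W₁) :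
    Module.finrank F W₂ ≤ Module.finrank F W₁ := by
  by_contra h
  push_neg at h
  obtain ⟨u, hu⟩ := exists_linearIndependent_of_le_finrank (R := F) (M := W₂) h.le
  let b := Module.finBasis F W₁
  let f : W₁ →ₗ[F] V := W₂.subtype.comp (b.constr F u)
  have hfi : Function.Injective f := W₂.injective_subtype.comp (b.injective_constr_of_linearIndependent hu)
  obtain ⟨g, hg, hgx⟩ := WittExt.extend Q hQ _ W₁ f rfl hfi
    (fun x => by rw [h₁ _ x.2]; exact h₂ _ (b.constr F u x).2)
  have hW : W₂.map g.symm.toLinearMap = W₁ := hmax₁ _ (fun x hx =>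
    ⟨f ⟨x, hx⟩, (b.constr F u _).2, by
      show g.symm (f ⟨x, hx⟩) = x
      rw [← hgx]; exact g.symm_apply_apply x⟩) (by
    rintro _ ⟨w, hw, rfl⟩
    show Q (g.symm w) = 0
    rw [← hg (g.symm w), LinearEquiv.apply_symm_apply, h₂ w hw])
  have := LinearEquiv.finrank_map_eq g.symm W₂
  rw [show W₂.map (g.symm : V ≃ₗ[F] V).toLinearMap = W₁ from hW] at this
  omega

theorem two_mul_le (W : Submodule F V) (h : ∀ w ∈ W, Q w = 0) :
    2 * Module.finrank F W ≤ Module.finrank F V := by
  have hle : W ≤ LinearMap.BilinForm.orthogonal (polarBilin Q) W := fun x hx y hy => by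
    show polar Q y x = 0
    rw [polar, h _ (W.add_mem hy hx), h _ hy, h _ hx]; ring
  have h1 := LinearMap.BilinForm.finrank_orthogonal hQ W
  have h2 := Submodule.finrank_mono hle
  have h3 := Submodule.finrank_le W
  omega

end Cfsg.Agent.S0760


namespace Cfsg.Agent.S0760

/-- Witt index is well defined: if Q is a quadratic form on a finite-dimensional space V over a finite field with non-degenerate polar form, and W₁, W₂ are subspaces on which Q vanishes that are maximal with this property, then W₁ and W₂ have the same dimension, and twice this dimension is at most dim V. -/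
theorem result {F V : Type*} [Field F] [Finite F] [AddCommGroup V] [Module F V] [FiniteDimensional F V] (Q : QuadraticForm F V) (hQ : (QuadraticMap.polarBilin Q).Nondegenerate) (W₁ W₂ : Submodule F V) (h₁ : ∀ w ∈ W₁, Q w = 0) (h₂ : ∀ w ∈ W₂, Q w = 0) (hmax₁ : ∀ W : Submodule F V, W₁ ≤ W → (∀ w ∈ W, Q w = 0) → W = W₁) (hmax₂ : ∀ W : Submodule F V, W₂ ≤ W → (∀ w ∈ W, Q w = 0) → W = W₂) : Module.finrank F W₁ = Module.finrank F W₂ ∧ 2 * Module.finrank F W₁ ≤ Module.finrank F V := by
  refine ⟨le_antisymm ?_ ?_, Cfsg.Agent.S0760.two_mul_le Q hQ W₁ h₁⟩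
  · exact Cfsg.Agent.S0760.le_of_max Q hQ W₂ W₁ h₂ h₁ hmax₂
  · exact Cfsg.Agent.S0760.le_of_max Q hQ W₁ W₂ h₁ h₂ hmax₁

end Cfsg.Agent.S0760
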