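import Cfsg.Statements.S0761
import Cfsg.Agent.Lib.Classical.Quad

set_option autoImplicit false
open Cfsg

open Cfsg.Agent.Classical

namespace Cfsg.Agent.S0761

/-- Hyperbolic partners: let B be a non-degenerate bilinear form on a finite-dimensional space, either alternating, or symmetric with 2 ≠ 0. If Z is a subspace on which B vanishes, x ∉ Z is isotropic and orthogonal to Z, then there is an isotropic y with B x y = 1 which is orthogonal to Z. -/
theorem result {F V : Type*} [Field F] [AddCommGroup V] [Module F V] [FiniteDimensional F V] (B : LinearMap.BilinForm F V) (hB : B.Nondegenerate) (hform : B.IsAlt ∨ (B.IsSymm ∧ (2 : F) ≠ 0)) (x : V) (Z : Submodule F V) (hxZ : x ∉ Z) (hx : B x x = 0) (hxz : ∀ z ∈ Z, B x z = 0) (hZ : ∀ z ∈ Z, ∀ z' ∈ Z, B z z' = 0) : ∃ y : V, B y y = 0 ∧ B x y = 1 ∧ ∀ z ∈ Z, B z y = 0 := by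
  classical
  obtain ⟨f, hfx, hfZ⟩ : ∃ f : Module.Dual F V, f x ≠ 0 ∧ Z ≤ LinearMap.ker f := by
    obtain ⟨f, h1, h2⟩ := Submodule.exists_le_ker_of_notMem hxZ
    exact ⟨f, h1, h2⟩
  have hflip : B.flip.Nondegenerate := hB.flip
  set y₀ := (B.flip.toDual hflip).symm f with hy₀
  have hy : ∀ a, B a y₀ = f a := fun a => by
    have := congrArg (fun g : Module.Dual F V => g a) ((B.flip.toDual hflip).apply_symm_apply f)
    exact this
  set y₁ := (f x)⁻¹ • y₀ with hy₁
  have hx1 : B x y₁ = 1 := by rw [hy₁, map_smul, hy, smul_eq_mul, inv_mul_cancel₀ hfx]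
  have hz1 : ∀ z ∈ Z, B z y₁ = 0 := fun z hz => by
    rw [hy₁, map_smul, hy, LinearMap.mem_ker.1 (hfZ hz), smul_zero]
  rcases hform with hA | ⟨hS, h2⟩
  · exact ⟨y₁, hA y₁, hx1, hz1⟩
  · refine ⟨y₁ - (B y₁ y₁ / 2) • x, ?_, ?_, fun z hz => ?_⟩
    · have : B y₁ x = 1 := by rw [hS.eq y₁ x, hx1]
      simp [hx, hx1, this]
      field_simp
      ring
    · simp [hx, hx1]
    · have : B z x = 0 := by rw [hS.eq z x]; exact hxz z hz
      simp [hz1 z hz, this]

end Cfsg.Agent.S0761
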