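import Cfsg.Statements.S0762
import Cfsg.Agent.Lib.Classical.Quad

set_option autoImplicit false
open Cfsg

open Cfsg.Agent.Classical

namespace Cfsg.Agent.S0762

/-- In characteristic two over a finite field, a quadratic form on a space of dimension at least 3 vanishes on some non-zero vector. -/
theorem result {F V : Type*} [Field F] [Finite F] [CharP F 2] [AddCommGroup V] [Module F V] [FiniteDimensional F V] (Q : QuadraticForm F V) (h3 : 3 ≤ Module.finrank F V) : ∃ v : V, v ≠ 0 ∧ Q v = 0 := by
  classical
  obtain ⟨v, hv⟩ : ∃ v : V, v ≠ 0 := Module.finrank_pos_iff_exists_ne_zero.1 (by omega : 0 < Module.finrank F V)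
  by_cases hqv : Q v = 0
  · exact ⟨v, hv, hqv⟩
  let f : V →ₗ[F] F := QuadraticMap.polarBilin Q v
  have hf : 2 ≤ Module.finrank F (LinearMap.ker f) := by
    have h := f.finrank_range_add_finrank_ker
    have h1 : Module.finrank F (LinearMap.range f) ≤ 1 :=
      (Submodule.finrank_le _).trans (le_of_eq (Module.finrank_self F))
    omega
  have hvk : v ∈ LinearMap.ker f := by
    show QuadraticMap.polar (⇑Q) v v = 0
    rw [QuadraticMap.polar_self, nsmul_eq_mul, Nat.cast_ofNat, CharTwo.two_eq_zero, zero_mul]
  obtain ⟨w, hw, hwv⟩ : ∃ w ∈ LinearMap.ker f, w ∉ Submodule.span F {v} := by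
    by_contra hc
    push Not at hc
    have := Submodule.finrank_mono (show LinearMap.ker f ≤ Submodule.span F {v} from hc)
    rw [finrank_span_singleton hv] at this
    omega
  haveI : Fintype F := Fintype.ofFinite F
  obtain ⟨t, ht⟩ := FiniteField.isSquare_of_char_two (F := F) (ringChar.eq_iff.2 ‹_›) (Q w / Q v)
  refine ⟨t • v + w, fun h => hwv ?_, ?_⟩
  · rw [eq_neg_of_add_eq_zero_right h]
    exact neg_mem (Submodule.smul_mem _ _ (Submodule.mem_span_singleton_self v))
  · have hw' : QuadraticMap.polar (⇑Q) v w = 0 := hw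
    rw [QuadraticMap.map_add (⇑Q), QuadraticMap.map_smul, QuadraticMap.polar_smul_left, hw',
      smul_eq_mul, smul_eq_mul, ← ht, mul_zero, add_zero, div_mul_cancel₀ _ hqv,
      CharTwo.add_self_eq_zero]

end Cfsg.Agent.S0762
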