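import Cfsg.Statements.S0767
import Cfsg.Agent.Lib.Classical.SymplecticMatrix

set_option autoImplicit false
open Cfsg

open Cfsg.Agent.Classical.Sp

namespace Cfsg.Agent.S0767

/-- The root group of a point: T_v(c) T_v(d) = T_v(c + d), and for A in the symplectic group with A v = a v, the conjugate A T_v(c) A⁻¹ is again some T_v(d). -/
theorem result {F : Type*} [Field F] (m : ℕ) (v : Fin m ⊕ Fin m → F) : (∀ c d : F, Cfsg.sympTransvection m v c * Cfsg.sympTransvection m v d = Cfsg.sympTransvection m v (c + d)) ∧ ∀ (A : Matrix (Fin m ⊕ Fin m) (Fin m ⊕ Fin m) F) (a : F), A ∈ Matrix.symplecticGroup (Fin m) F → A.mulVec v = a • v → ∀ c : F, ∃ d : F, A * Cfsg.sympTransvection m v c * A⁻¹ = Cfsg.sympTransvection m v d := by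
  have hmul : ∀ c d : F, Cfsg.sympTransvection m v c * Cfsg.sympTransvection m v d =
      Cfsg.sympTransvection m v (c + d) := fun c d => by
    rw [← spEquiv_symm_T, ← spEquiv_symm_T, ← spEquiv_symm_T, ← T_add, map_mul]
    rfl
  refine ⟨hmul, fun A a hA hAv c => ⟨a * a * c, ?_⟩⟩
  let g : Grp (sympB F m) := spEquiv m ⟨A, hA⟩
  have hg := conj_T (sympB F m) (sympB_isAlt m) g v c
  rw [show (g : (Fin m ⊕ Fin m → F) ≃ₗ[F] (Fin m ⊕ Fin m → F)) v = a • v from hAv, T_smul] at hg
  have h2 := congrArg (fun t => (((spEquiv m).symm t).1)) hg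
  simp only [map_mul, map_inv, g, MulEquiv.symm_apply_apply, spEquiv_symm_T] at h2
  rw [← h2]
  show A * Cfsg.sympTransvection m v c * A⁻¹ = _
  rw [Submonoid.coe_mul, Submonoid.coe_mul, spEquiv_symm_T, SymplecticGroup.coe_inv']

end Cfsg.Agent.S0767
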