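import Cfsg.Statements.S0769
import Cfsg.Agent.Lib.Classical.Quad

set_option autoImplicit false
open Cfsg

open Cfsg.Agent.Classical

namespace Cfsg.Agent.S0769

/-- Order of the Borel subgroup of GL_n(q): the invertible lower-triangular n × n matrices over a field with q elements number q^(n(n-1)/2) (q-1)^n (unitriangular part times the diagonal torus). -/
theorem result {F : Type*} [Field F] [Fintype F] {q : ℕ} (hF : Fintype.card F = q) (n : ℕ) : Nat.card {g : Matrix.GeneralLinearGroup (Fin n) F // ∀ i j : Fin n, i < j → (g : Matrix (Fin n) (Fin n) F) i j = 0} = q ^ (n * (n - 1) / 2) * (q - 1) ^ n := by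
  classical
  have hdet : ∀ M : Matrix (Fin n) (Fin n) F, (∀ i j : Fin n, i < j → M i j = 0) →
      M.det = ∏ i, M i i := fun M h => Matrix.det_of_lowerTriangular M fun i j hij => h i j hij
  let e : {g : Matrix.GeneralLinearGroup (Fin n) F //
      ∀ i j : Fin n, i < j → (g : Matrix (Fin n) (Fin n) F) i j = 0} ≃
      (Fin n → Fˣ) × ({x : Fin n × Fin n // x.2 < x.1} → F) :=
    { toFun := fun g => (fun i => Units.mk0 ((g.1 : Matrix (Fin n) (Fin n) F) i i) (by
          have h := hdet _ g.2
          have h0 := ((Matrix.isUnit_iff_isUnit_det _).1 g.1.isUnit).ne_zero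
          rw [h, Finset.prod_ne_zero_iff] at h0
          exact h0 i (Finset.mem_univ i)),
        fun x => (g.1 : Matrix (Fin n) (Fin n) F) x.1.1 x.1.2)
      invFun := fun d => ⟨Matrix.GeneralLinearGroup.mkOfDetNeZero
          (Matrix.of fun i j => if i = j then (d.1 i : F) else if h : j < i then d.2 ⟨(i, j), h⟩ else 0)
          (by
            rw [hdet _ fun i j hij => by simp [hij.ne, hij.not_gt]]
            simp [Finset.prod_ne_zero_iff]),
        fun i j hij => by simp [Matrix.GeneralLinearGroup.mkOfDetNeZero, hij.ne, hij.not_gt]⟩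
      left_inv := fun g => Subtype.ext (Units.ext (by
        ext i j
        simp only [Matrix.GeneralLinearGroup.mkOfDetNeZero, Units.val_mk0]
        rcases lt_trichotomy i j with h | rfl | h
        · simp [h.ne, h.not_gt, g.2 i j h]
        · simp
        · simp [h.ne', h]))
      right_inv := fun d => by
        refine Prod.ext (funext fun i => Units.ext ?_) (funext fun x => ?_)
        · simp [Matrix.GeneralLinearGroup.mkOfDetNeZero]
        · obtain ⟨⟨i, j⟩, h⟩ := x
          simp [Matrix.GeneralLinearGroup.mkOfDetNeZero, show j < i from h, (show j < i from h).ne'] }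
  have hcnt : Nat.card {x : Fin n × Fin n // x.2 < x.1} = n * (n - 1) / 2 := by
    rw [Nat.card_eq_fintype_card, Fintype.card_subtype, Nat.choose_two_right n |>.symm]
    rw [show (Finset.univ.filter fun x : Fin n × Fin n => x.2 < x.1).card =
      ∑ i : Fin n, (i : ℕ) from ?_]
    · rw [Fin.sum_univ_eq_sum_range (fun i => i) n, Finset.sum_range_id, Nat.choose_two_right]
    · rw [← Finset.univ_product_univ, Finset.card_filter, Finset.sum_product]
      refine Finset.sum_congr rfl fun i _ => ?_
      rw [← Finset.card_filter]
      simp [Finset.filter_gt_eq_Iio]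
  rw [Nat.card_congr e, Nat.card_prod, Nat.card_fun, Nat.card_fun, Nat.card_fin, Nat.card_units,
    Nat.card_eq_fintype_card, hF, hcnt, mul_comm]

end Cfsg.Agent.S0769
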