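import Cfsg.Statements.S0770


set_option autoImplicit false
open Cfsg

open Matrix

namespace Cfsg.Agent.S0770

/-- For a field with at least 3 elements, an invertible matrix normalises the subgroup of invertible diagonal matrices of GL_n if and only if it is monomial (exactly one non-zero entry in each row). -/
theorem result {F : Type*} [Field F] (hF : ∃ a : F, a ≠ 0 ∧ a ≠ 1) (n : ℕ) (g : Matrix.GeneralLinearGroup (Fin n) F) : g ∈ Subgroup.normalizer ((Units.map (Matrix.diagonalRingHom (Fin n) F).toMonoidHom).range : Subgroup (Matrix.GeneralLinearGroup (Fin n) F)) ↔ ∀ i : Fin n, ∃! j : Fin n, (g : Matrix (Fin n) (Fin n) F) i j ≠ 0 := by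
  classical
  have hmem : ∀ x : Matrix.GeneralLinearGroup (Fin n) F,
      x ∈ (Units.map (Matrix.diagonalRingHom (Fin n) F).toMonoidHom).range ↔
        ∀ i j, i ≠ j → (x : Matrix (Fin n) (Fin n) F) i j = 0 := by
    intro x
    constructor
    · rintro ⟨d, rfl⟩ i j hij
      exact Matrix.diagonal_apply_ne _ hij
    · intro h
      have hx : (x : Matrix (Fin n) (Fin n) F) = Matrix.diagonal (fun i => (x : Matrix (Fin n) (Fin n) F) i i) := by
        ext i j
        by_cases hij : i = j
        · subst hij; simp
        · simp [Matrix.diagonal_apply_ne _ hij, h i j hij]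
      have hne : ∀ i, (x : Matrix (Fin n) (Fin n) F) i i ≠ 0 := fun i hi => by
        have hu := (Matrix.isUnit_iff_isUnit_det _).1 x.isUnit
        rw [hx, Matrix.det_diagonal] at hu
        exact hu.ne_zero (Finset.prod_eq_zero (Finset.mem_univ i) hi)
      exact ⟨⟨fun i => (x : Matrix (Fin n) (Fin n) F) i i, fun i => ((x : Matrix (Fin n) (Fin n) F) i i)⁻¹,
        funext fun i => mul_inv_cancel₀ (hne i), funext fun i => inv_mul_cancel₀ (hne i)⟩, Units.ext hx.symm⟩
  constructor
  · intro hg i
    have hex : ∃ j, (g : Matrix (Fin n) (Fin n) F) i j ≠ 0 := by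
      by_contra hc
      simp only [not_exists, not_not] at hc
      have hu := (Matrix.isUnit_iff_isUnit_det _).1 g.isUnit
      rw [Matrix.det_eq_zero_of_row_eq_zero i hc] at hu
      exact not_isUnit_zero hu
    obtain ⟨j, hj⟩ := hex
    refine ⟨j, hj, fun l hl => ?_⟩
    by_contra hlj
    obtain ⟨a, ha0, ha1⟩ := hF
    let d : Fin n → F := fun m => if m = j then a else 1
    have hd : (Matrix.diagonal d).det ≠ 0 := by
      rw [Matrix.det_diagonal, Finset.prod_ne_zero_iff]
      intro m _
      simp only [d]; split_ifs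
      · exact ha0
      · exact one_ne_zero
    let D := Matrix.GeneralLinearGroup.mkOfDetNeZero (Matrix.diagonal d) hd
    have hD : g * D * g⁻¹ ∈ (Units.map (Matrix.diagonalRingHom (Fin n) F).toMonoidHom).range :=
      (Subgroup.mem_normalizer_iff.1 hg D).1 ((hmem D).2 fun x y hxy => Matrix.diagonal_apply_ne _ hxy)
    obtain ⟨e, he⟩ := hD
    have heq : Matrix.diagonal (e : Fin n → F) * (g : Matrix (Fin n) (Fin n) F) =
        (g : Matrix (Fin n) (Fin n) F) * Matrix.diagonal d := by
      have h1 := congrArg (fun u : Matrix.GeneralLinearGroup (Fin n) F =>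
        ((u * g : Matrix.GeneralLinearGroup (Fin n) F) : Matrix (Fin n) (Fin n) F)) he
      simp only [inv_mul_cancel_right] at h1
      exact h1
    have e1 := congrFun (congrFun heq i) j
    have e2 := congrFun (congrFun heq i) l
    simp [Matrix.diagonal_mul, Matrix.mul_diagonal, d, hlj] at e1 e2
    apply ha1
    have e1' : (e : Fin n → F) i = a := mul_right_cancel₀ hj (e1.trans (mul_comm _ _))
    have e2' : (e : Fin n → F) i = 1 := mul_right_cancel₀ hl (e2.trans (one_mul _).symm)
    exact e1'.symm.trans e2'
  · intro hg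
    choose σ hσ hσu using hg
    have hz : ∀ i j, j ≠ σ i → (g : Matrix (Fin n) (Fin n) F) i j = 0 := fun i j hj => by
      by_contra h
      exact hj (hσu i j h)
    have hinj : Function.Injective σ := by
      intro i i' e
      by_contra hne
      have h1 : ((g : Matrix (Fin n) (Fin n) F) * ((g⁻¹ : Matrix.GeneralLinearGroup (Fin n) F) : Matrix (Fin n) (Fin n) F)) i i' = 0 := by
        rw [← Units.val_mul, mul_inv_cancel, Units.val_one, Matrix.one_apply_ne hne]
      have h2 : ((g : Matrix (Fin n) (Fin n) F) * ((g⁻¹ : Matrix.GeneralLinearGroup (Fin n) F) : Matrix (Fin n) (Fin n) F)) i' i' = 1 := by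
        rw [← Units.val_mul, mul_inv_cancel, Units.val_one, Matrix.one_apply_eq]
      rw [Matrix.mul_apply, Finset.sum_eq_single (σ i) (fun m _ hm => by rw [hz i m hm, zero_mul]) (by simp)] at h1
      rw [Matrix.mul_apply, Finset.sum_eq_single (σ i') (fun m _ hm => by rw [hz i' m hm, zero_mul]) (by simp),
        ← e, (mul_eq_zero.1 h1).resolve_left (hσ i), mul_zero] at h2
      exact zero_ne_one h2
    let π : Equiv.Perm (Fin n) := Equiv.ofBijective σ ⟨hinj, Finite.injective_iff_surjective.1 hinj⟩
    have hπ : ∀ i, π i = σ i := fun _ => rfl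
    have hfwd : ∀ (d : Fin n → F) (x : Matrix.GeneralLinearGroup (Fin n) F),
        (x : Matrix (Fin n) (Fin n) F) = Matrix.diagonal d →
        ((g * x * g⁻¹ : Matrix.GeneralLinearGroup (Fin n) F) : Matrix (Fin n) (Fin n) F) = Matrix.diagonal (fun i => d (σ i)) := by
      intro d x hx
      have h : (g : Matrix (Fin n) (Fin n) F) * Matrix.diagonal d = Matrix.diagonal (fun i => d (σ i)) * g := by
        ext i j
        rw [Matrix.mul_diagonal, Matrix.diagonal_mul]
        by_cases hj : j = σ i
        · subst hj; ring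
        · rw [hz i j hj]; ring
      rw [Units.val_mul, Units.val_mul, hx, h, mul_assoc, ← Units.val_mul, mul_inv_cancel, Units.val_one, mul_one]
    rw [Subgroup.mem_normalizer_iff]
    intro x
    constructor
    · intro hx
      obtain ⟨d, rfl⟩ := hx
      exact (hmem _).2 fun i j hij => by
        rw [hfwd (d : Fin n → F) _ rfl, Matrix.diagonal_apply_ne _ hij]
    · intro hx
      obtain ⟨e, he⟩ := hx
      let e' : (Fin n → F)ˣ :=
        ⟨fun m => (e : Fin n → F) (π.symm m), fun m => ((e⁻¹ : (Fin n → F)ˣ) : Fin n → F) (π.symm m),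
          funext fun m => congrFun e.mul_inv (π.symm m), funext fun m => congrFun e.inv_mul (π.symm m)⟩
      have h1 : g * Units.map (Matrix.diagonalRingHom (Fin n) F).toMonoidHom e' * g⁻¹ = g * x * g⁻¹ := by
        rw [← he]
        refine Units.ext ?_
        rw [hfwd (e' : Fin n → F) _ rfl]
        show Matrix.diagonal _ = Matrix.diagonal (e : Fin n → F)
        congr 1
        funext i
        show (e : Fin n → F) (π.symm (σ i)) = _
        rw [← hπ, Equiv.symm_apply_apply]
      exact ⟨e', mul_left_cancel (mul_right_cancel h1)⟩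

end Cfsg.Agent.S0770
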