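import Cfsg.Statements.S0774
import Cfsg.Agent.S0769
-- import your own Cfsg.Agent.* helpers here

set_option autoImplicit false
open Cfsg

namespace Cfsg.Agent.S0774


open Matrix

variable {F : Type*} [Field F] {m : ℕ}

theorem block_mem_iff (A B D : Matrix (Fin m) (Fin m) F) :
    fromBlocks A B 0 D ∈ Matrix.symplecticGroup (Fin m) F ↔ B * Aᵀ = A * Bᵀ ∧ A * Dᵀ = 1 ∧ D * Aᵀ = 1 := by
  rw [SymplecticGroup.mem_iff, Matrix.J, fromBlocks_transpose, fromBlocks_multiply, fromBlocks_multiply,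
    fromBlocks_inj]
  simp [← sub_eq_add_neg, sub_eq_zero, neg_inj]


/-- Borel subgroup of the symplectic group: the elements of Sp_2m(q) stabilising each of the totally isotropic coordinate subspaces ⟨e_0, ..., e_k⟩ (k < m) form a subgroup of order q^(m²) (q − 1)^m. -/
theorem result {F : Type*} [Field F] [Fintype F] {q : ℕ} (hF : Fintype.card F = q) (m : ℕ) : Nat.card ↥(⨅ k : Fin m, Cfsg.stabilizing (Cfsg.spToMat m F) {v : Fin m ⊕ Fin m → F | (∀ i : Fin m, (k : ℕ) < (i : ℕ) → v (Sum.inl i) = 0) ∧ ∀ i : Fin m, v (Sum.inr i) = 0}) = q ^ (m ^ 2) * (q - 1) ^ m := by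
  classical
  set G := ⨅ k : Fin m, Cfsg.stabilizing (Cfsg.spToMat m F)
    {v : Fin m ⊕ Fin m → F | (∀ i : Fin m, (k : ℕ) < (i : ℕ) → v (Sum.inl i) = 0) ∧ ∀ i : Fin m, v (Sum.inr i) = 0}
    with hG
  let P := {g : Matrix.GeneralLinearGroup (Fin m) F // ∀ i j : Fin m, i < j → (g : Matrix (Fin m) (Fin m) F) i j = 0} ×
    {f : Fin m → Fin m → F // ∀ a b, f a b = f b a}
  let val : P → Matrix.symplecticGroup (Fin m) F := fun p =>
    ⟨fromBlocks (p.1.1 : Matrix (Fin m) (Fin m) F)ᵀ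
      (Matrix.of p.2.1 * ((p.1.1⁻¹ : Matrix.GeneralLinearGroup (Fin m) F) : Matrix (Fin m) (Fin m) F)) 0
      ((p.1.1⁻¹ : Matrix.GeneralLinearGroup (Fin m) F) : Matrix (Fin m) (Fin m) F), by
      have hS : (Matrix.of p.2.1)ᵀ = Matrix.of p.2.1 := Matrix.ext fun a b => p.2.2 b a
      set L := (p.1.1 : Matrix (Fin m) (Fin m) F)
      set R := ((p.1.1⁻¹ : Matrix.GeneralLinearGroup (Fin m) F) : Matrix (Fin m) (Fin m) F)
      have h1 : R * L = 1 := p.1.1.inv_val
      refine (block_mem_iff _ _ _).mpr ⟨?_, ?_, ?_⟩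
      · rw [transpose_transpose, Matrix.mul_assoc, h1, Matrix.mul_one, transpose_mul, ← Matrix.mul_assoc,
          ← transpose_mul, h1, transpose_one, Matrix.one_mul, hS]
      · rw [← transpose_mul, h1, transpose_one]
      · rw [transpose_transpose, h1]⟩
  have hmem : ∀ p, val p ∈ G := by
    intro p
    rw [hG, Subgroup.mem_iInf]
    intro k v
    set S := {v : Fin m ⊕ Fin m → F | (∀ i : Fin m, (k : ℕ) < (i : ℕ) → v (Sum.inl i) = 0) ∧ ∀ i : Fin m, v (Sum.inr i) = 0}
    have hmaps : ∀ w ∈ S, Cfsg.spToMat m F (val p) *ᵥ w ∈ S := by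
      intro w hw
      have hr : w ∘ Sum.inr = 0 := funext hw.2
      show fromBlocks _ _ _ _ *ᵥ w ∈ S
      rw [fromBlocks_mulVec, hr]
      refine ⟨fun i hi => ?_, fun i => by simp⟩
      simp only [Sum.elim_inl, mulVec_zero, add_zero, mulVec, dotProduct, transpose_apply, Function.comp_apply]
      refine Finset.sum_eq_zero fun j _ => ?_
      rcases lt_or_ge (j : ℕ) (i : ℕ) with h | h
      · rw [p.1.2 j i (show j < i from h), zero_mul]
      · rw [hw.1 j (lt_of_lt_of_le hi h), mul_zero]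
    refine ⟨hmaps v, fun hv => ?_⟩
    have hinj : Function.Injective fun w : Fin m ⊕ Fin m → F => Cfsg.spToMat m F (val p) *ᵥ w := by
      intro a b hab
      have := congrArg (fun u => Cfsg.spToMat m F (val p)⁻¹ *ᵥ u) hab
      simpa only [Matrix.mulVec_mulVec, ← map_mul, inv_mul_cancel, map_one, Matrix.one_mulVec] using this
    have hsur : Function.Surjective (fun w : S => (⟨_, hmaps w.1 w.2⟩ : S)) :=
      Finite.injective_iff_surjective.mp fun a b h => Subtype.ext (hinj (congrArg Subtype.val h))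
    obtain ⟨w, hw⟩ := hsur ⟨_, hv⟩
    rw [← hinj (congrArg Subtype.val hw)]
    exact w.2
  let Φ : P → ↥G := fun p => ⟨val p, hmem p⟩
  have hbij : Function.Bijective Φ := by
    constructor
    · intro p q hpq
      obtain ⟨h1, h2, -, h4⟩ := fromBlocks_inj.mp
        (congrArg Subtype.val (congrArg Subtype.val hpq : val p = val q))
      have e1 : p.1 = q.1 := Subtype.ext (Units.ext (Matrix.transpose_injective h1))
      rw [e1] at h2
      refine Prod.ext e1 (Subtype.ext ?_)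
      have h3 := congrArg (fun X : Matrix (Fin m) (Fin m) F => X * (q.1.1 : Matrix (Fin m) (Fin m) F)) h2
      simp only [Matrix.mul_assoc, Units.inv_mul, Matrix.mul_one] at h3
      exact Matrix.of.injective h3
    · rintro ⟨⟨M, hM⟩, hg⟩
      rw [hG, Subgroup.mem_iInf] at hg
      have hcol : ∀ j : Fin m, (∀ i : Fin m, (j : ℕ) < (i : ℕ) → M (Sum.inl i) (Sum.inl j) = 0) ∧
          ∀ i : Fin m, M (Sum.inr i) (Sum.inl j) = 0 := by
        intro j
        have h := (hg j (Pi.single (Sum.inl j) 1)).mp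
          ⟨fun i hi => Pi.single_eq_of_ne (fun e => (ne_of_gt hi) (congrArg Fin.val (Sum.inl.inj e))) _,
            fun i => Pi.single_eq_of_ne Sum.inr_ne_inl _⟩
        change (∀ i : Fin m, (j : ℕ) < (i : ℕ) → (M *ᵥ Pi.single (Sum.inl j) 1) (Sum.inl i) = 0) ∧
          ∀ i : Fin m, (M *ᵥ Pi.single (Sum.inl j) 1) (Sum.inr i) = 0 at h
        simpa [Matrix.mulVec_single] using h
      have hMb : M = fromBlocks M.toBlocks₁₁ M.toBlocks₁₂ 0 M.toBlocks₂₂ := by
        conv_lhs => rw [← fromBlocks_toBlocks M]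
        rw [show M.toBlocks₂₁ = 0 from Matrix.ext fun i j => (hcol j).2 i]
      obtain ⟨r1, r2, r3⟩ := (block_mem_iff _ _ _).mp (hMb ▸ hM)
      refine ⟨(⟨⟨M.toBlocks₁₁ᵀ, M.toBlocks₂₂, mul_eq_one_comm.mp r3, r3⟩, fun i j hij => (hcol i).1 j hij⟩,
        ⟨M.toBlocks₁₂ * M.toBlocks₁₁ᵀ, fun a b => ?_⟩), Subtype.ext (Subtype.ext ?_)⟩
      · conv_rhs => rw [← transpose_apply (M.toBlocks₁₂ * M.toBlocks₁₁ᵀ) a b]
        rw [transpose_mul, transpose_transpose, ← r1]
      · show fromBlocks M.toBlocks₁₁ᵀᵀ (M.toBlocks₁₂ * M.toBlocks₁₁ᵀ * M.toBlocks₂₂) 0 M.toBlocks₂₂ = M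
        rw [transpose_transpose, Matrix.mul_assoc, mul_eq_one_comm.mp r3, Matrix.mul_one, ← hMb]
  rw [← Nat.card_congr (Equiv.ofBijective Φ hbij), Nat.card_prod, Cfsg.Agent.S0769.result hF m,
    Nat.card_congr Sym2.lift, Nat.card_fun, Nat.card_eq_fintype_card (α := Sym2 (Fin m)), Sym2.card,
    Fintype.card_fin, Nat.card_eq_fintype_card, hF, Nat.choose_two_right, mul_right_comm, ← pow_add]
  congr 2
  cases m with
  | zero => rfl
  | succ n =>
    simp only [Nat.add_sub_cancel]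
    have h1 := Nat.even_mul_succ_self n
    have h2 := Nat.even_mul_succ_self (n + 1)
    obtain ⟨a, ha⟩ := h1
    obtain ⟨b, hb⟩ := h2
    rw [show (n + 1) * n = n * (n + 1) from mul_comm _ _, ha, show (n + 1 + 1) * (n + 1) = (n+1) * (n + 1 + 1) from mul_comm _ _, hb]
    have hh : (n + 1) ^ 2 = a + b := by nlinarith
    omega

end Cfsg.Agent.S0774
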