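import Cfsg.Statements.S0775
import Cfsg.Agent.Lib.Classical.SympCount

set_option autoImplicit false
open Cfsg

open Cfsg.Agent.Classical Cfsg.Agent.Classical.Sp

namespace Cfsg.Agent.S0775

/-- Maximal parabolics of the symplectic group: if W is a k-dimensional subspace of F^(2m) on which the symplectic form vanishes identically, its stabiliser in Sp_2m(q) has order q^(k(k+1)/2 + 2k(m−k)) · |Sp_(2m−2k)(q)| · |GL_k(q)|. -/
theorem result {F : Type*} [Field F] [Fintype F] {q : ℕ} (hF : Fintype.card F = q) (m k : ℕ) (hk : k ≤ m) (W : Submodule F (Fin m ⊕ Fin m → F)) (hWk : Module.finrank F W = k) (hW : ∀ u ∈ W, ∀ v ∈ W, Cfsg.sympForm m F u v = 0) : Nat.card ↥(Cfsg.stabilizing (Cfsg.spToMat m F) (W : Set (Fin m ⊕ Fin m → F))) = q ^ (k * (k + 1) / 2 + 2 * k * (m - k)) * (q ^ ((m - k) ^ 2) * ∏ i ∈ Finset.range (m - k), (q ^ (2 * (i + 1)) - 1)) * ∏ i : Fin k, (q ^ k - q ^ (i : ℕ)) := by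
  classical
  have hA := sympB_isAlt (F := F) m
  have hB := sympB_nondeg (F := F) m
  have hn := finrank_space (F := F) m
  have hW' : ∀ u ∈ W, ∀ v ∈ W, sympB F m u v = 0 := fun u hu v hv => (sympB_apply m u v).trans (hW u hu v hv)
  obtain ⟨e⟩ := SympStab.stabilizing_equiv m W
  rw [Nat.card_congr e.toEquiv]
  have h1 := SympCount.card_stab_mul (sympB F m) hA hB W hWk hW'
  have h2 := SympCount.frames_identity (sympB F m) hA hB hn k hk
  have h3 := SympCount.card_frames_pos (sympB F m) hA hB hn hk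
  rw [Sp.card_eq m (sympB F m) hA hB hn, ← h2, card_linearIndependent (le_of_eq hWk.symm),
    hWk] at h1
  rw [Nat.card_eq_fintype_card (α := F), hF] at h1
  refine Nat.eq_of_mul_eq_mul_right (Nat.pos_of_ne_zero h3) ?_
  rw [h1]
  ring

end Cfsg.Agent.S0775
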