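import Cfsg.Statements.S0776
import Cfsg.Agent.Lib.Classical.SympStab

set_option autoImplicit false
open Cfsg

open Cfsg.Agent.Classical Cfsg.Agent.Classical.Sp

namespace Cfsg.Agent.S0776

/-- If W ≤ F^(2m) is a 2k-dimensional subspace on which the symplectic form is non-degenerate, then the stabiliser of W in Sp_2m(F) is isomorphic to Sp_2k(F) × Sp_(2m−2k)(F). -/
theorem result {F : Type*} [Field F] (m k : ℕ) (hk : k ≤ m) (W : Submodule F (Fin m ⊕ Fin m → F)) (hWk : Module.finrank F W = 2 * k) (hW : ∀ u ∈ W, (∀ v ∈ W, Cfsg.sympForm m F u v = 0) → u = 0) : Nonempty (↥(Cfsg.stabilizing (Cfsg.spToMat m F) (W : Set (Fin m ⊕ Fin m → F))) ≃* Matrix.symplecticGroup (Fin k) F × Matrix.symplecticGroup (Fin (m - k)) F) := by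
  have hA := sympB_isAlt (F := F) m
  have hW' : Sp.Nondeg (Sp.res (sympB F m) W) := by
    rintro ⟨u, hu⟩ hne
    by_contra hc
    simp only [not_exists, not_not] at hc
    exact hne (Subtype.ext (hW u hu fun v hv => (sympB_apply m u v).symm.trans (hc ⟨v, hv⟩)))
  obtain ⟨e₀⟩ := SympStab.stabilizing_equiv m W
  obtain ⟨e₁⟩ := SympStab.stab_nondeg (sympB F m) hA W hW'
  have hd := Forms.finrank_orth (sympB F m) hA W hW'
  rw [finrank_space, hWk] at hd
  obtain ⟨a⟩ := SympStab.nonempty_grp_equiv (Sp.res (sympB F m) W) (Sp.isAlt_res _ hA W) hW' hWk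
  obtain ⟨b⟩ := SympStab.nonempty_grp_equiv (Sp.res (sympB F m) ((sympB F m).orthogonal W))
    (Sp.isAlt_res _ hA _) (Forms.nondeg_orth _ hA (sympB_nondeg m) W hW') (k := m - k) (by omega)
  exact ⟨(e₀.trans e₁).trans (a.prodCongr b)⟩

end Cfsg.Agent.S0776
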