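import Cfsg.Statements.S0777
-- import your own Cfsg.Agent.* helpers here

set_option autoImplicit false
open Cfsg

namespace Cfsg.Agent.S0777


open Matrix

variable {F : Type*} [Field F] [Fintype F] [DecidableEq F] {m : ℕ}

local notation "ι" => (Fin m ⊕ Fin m)

def mono (π : ι → ι) (v : ι → F) : Matrix ι ι F :=
  Matrix.of fun a x => if x = π a then v a else 0

theorem mono_conj (π : ι → ι) (v : ι → F) (A : Matrix ι ι F) (a b : ι) :
    (mono π v * A * (mono π v)ᵀ) a b = v a * A (π a) (π b) * v b := by
  simp [mono, Matrix.mul_apply, Finset.sum_ite_eq']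

theorem mono_mem_iff (π : ι → ι) (v : ι → F) : mono π v ∈ Matrix.symplecticGroup (Fin m) F ↔
    ∀ a b, v a * (Matrix.J (Fin m) F) (π a) (π b) * v b = (Matrix.J (Fin m) F) a b := by
  rw [SymplecticGroup.mem_iff]
  constructor
  · intro h a b; rw [← mono_conj, h]
  · intro h; exact Matrix.ext fun a b => (mono_conj π v _ a b).trans (h a b)

def col (e : Fin m → Bool) (σ : Equiv.Perm (Fin m)) : ι → ι
  | .inl i => if e i then .inr (σ i) else .inl (σ i)
  | .inr i => if e i then .inl (σ i) else .inr (σ i)

def val (e : Fin m → Bool) (d : Fin m → Fˣ) : ι → F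
  | .inl i => (d i : F)
  | .inr i => if e i then -((d i)⁻¹ : Fˣ) else ((d i)⁻¹ : Fˣ)

theorem col_val_cond (e : Fin m → Bool) (σ : Equiv.Perm (Fin m)) (d : Fin m → Fˣ) (a b : ι) :
    val e d a * (Matrix.J (Fin m) F) (col e σ a) (col e σ b) * val e d b = (Matrix.J (Fin m) F) a b := by
  have hσ : ∀ i j, σ i = σ j ↔ i = j := fun i j => σ.injective.eq_iff
  rcases a with i | i <;> rcases b with j | j <;>
    rcases eq_or_ne i j with rfl | hij <;>
    cases hi : e i <;> (try cases hj : e j) <;>
    simp_all [col, val, Matrix.J, Matrix.fromBlocks, Matrix.one_apply]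

def torusDiag (g : Matrix ι ι F) : Prop := ∀ a b, a ≠ b → g a b = 0

theorem torus_iff (g : Matrix.symplecticGroup (Fin m) F) :
    g ∈ (⨅ i : ι, Cfsg.stabilizing (Cfsg.spToMat m F) ((Submodule.span F {(Pi.single i (1 : F) : ι → F)} : Submodule F (ι → F)) : Set (ι → F))) ↔
      torusDiag (g : Matrix ι ι F) := by
  rw [Subgroup.mem_iInf]
  constructor
  · intro h a b hab
    have := (h b (Pi.single b 1)).mp (Submodule.mem_span_singleton_self _)
    obtain ⟨c, hc⟩ := Submodule.mem_span_singleton.mp this
    have e := congrFun hc a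
    simp [Pi.single_eq_of_ne hab, Matrix.mulVec_single] at e
    exact e.symm
  · intro h i v
    have hnz : ∀ a, (g : Matrix ι ι F) a a ≠ 0 := by
      intro a ha
      have e : ((g : Matrix ι ι F) * ((g⁻¹ : Matrix.symplecticGroup (Fin m) F) : Matrix ι ι F)) a a =
          (1 : Matrix ι ι F) a a := by
        rw [show (g : Matrix ι ι F) * ((g⁻¹ : Matrix.symplecticGroup (Fin m) F) : Matrix ι ι F) = 1 from
          congrArg Subtype.val (mul_inv_cancel g)]
      rw [Matrix.mul_apply, Finset.sum_eq_zero (fun x _ => ?_), Matrix.one_apply_eq] at e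
      · exact zero_ne_one e
      · rcases eq_or_ne a x with rfl | hx
        · rw [ha, zero_mul]
        · rw [h a x hx, zero_mul]
    have hmv : ∀ a, ((g : Matrix ι ι F) *ᵥ v) a = (g : Matrix ι ι F) a a * v a := fun a =>
      Fintype.sum_eq_single a (fun x hx => by
        show (g : Matrix ι ι F) a x * v x = 0
        rw [h a x hx.symm, zero_mul])
    have hspan : ∀ w : ι → F, w ∈ Submodule.span F {(Pi.single i (1 : F) : ι → F)} ↔ ∀ a, a ≠ i → w a = 0 := by
      intro w
      rw [Submodule.mem_span_singleton]
      constructor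
      · rintro ⟨c, rfl⟩ a ha; simp [Pi.single_eq_of_ne ha]
      · intro hw
        refine ⟨w i, funext fun a => ?_⟩
        rcases eq_or_ne a i with rfl | ha
        · simp
        · simp [Pi.single_eq_of_ne ha, hw a ha]
    show v ∈ Submodule.span F _ ↔ (g : Matrix ι ι F) *ᵥ v ∈ Submodule.span F _
    rw [hspan, hspan]
    refine forall₂_congr fun a _ => ?_
    rw [hmv, mul_eq_zero, or_iff_right (hnz a)]


/-- Weyl group of type C_m: for q ≥ 4 the diagonal matrices of Sp_2m(q) form a torus T ≅ (C_(q−1))^m (the elements stabilising every coordinate axis), and the normaliser of T in Sp_2m(q) has order 2^m · m! · (q − 1)^m. -/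
theorem result {F : Type*} [Field F] [Fintype F] {q : ℕ} (hF : Fintype.card F = q) (hq : 4 ≤ q) (m : ℕ) : Nat.card ↥(Subgroup.normalizer (⨅ i : Fin m ⊕ Fin m, Cfsg.stabilizing (Cfsg.spToMat m F) ((Submodule.span F {(Pi.single i (1 : F) : Fin m ⊕ Fin m → F)} : Submodule F (Fin m ⊕ Fin m → F)) : Set (Fin m ⊕ Fin m → F)) : Set (Matrix.symplecticGroup (Fin m) F))) = 2 ^ m * Nat.factorial m * (q - 1) ^ m := by
  classical
  set T : Subgroup (Matrix.symplecticGroup (Fin m) F) := ⨅ i : Fin m ⊕ Fin m, Cfsg.stabilizing (Cfsg.spToMat m F)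
    ((Submodule.span F {(Pi.single i (1 : F) : Fin m ⊕ Fin m → F)} : Submodule F (Fin m ⊕ Fin m → F)) :
      Set (Fin m ⊕ Fin m → F)) with hT
  obtain ⟨a, ha0, ha1⟩ : ∃ a : Fˣ, (a : F) * a ≠ 1 ∧ a ≠ 1 := by
    by_contra h
    push_neg at h
    have h' : ∀ a : Fˣ, (a : F) = 1 ∨ (a : F) = -1 := fun a => by
      by_cases hh : (a : F) * a = 1
      · exact mul_self_eq_one_iff.mp hh
      · exact Or.inl (by rw [h a hh]; rfl)
    have hsub : (Finset.univ : Finset F) ⊆ {0, 1, -1} := by
      intro x _
      rcases eq_or_ne x 0 with rfl | hx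
      · simp
      · rcases h' (Units.mk0 x hx) with e | e <;> simp at e <;> simp [e]
    have := Finset.card_le_card hsub
    rw [Finset.card_univ, hF] at this
    have := this.trans Finset.card_le_three
    omega
  let Φ : (Fin m → Bool) × Equiv.Perm (Fin m) × (Fin m → Fˣ) → Matrix.symplecticGroup (Fin m) F := fun p =>
    ⟨mono (col p.1 p.2.1) (val p.1 p.2.2), (mono_mem_iff _ _).mpr (col_val_cond p.1 p.2.1 p.2.2)⟩
  have hnorm : ∀ p, Φ p ∈ Subgroup.normalizer (T : Set (Matrix.symplecticGroup (Fin m) F)) := by
    intro p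
    have hmaps : ∀ t ∈ T, Φ p * t * (Φ p)⁻¹ ∈ T := by
      intro t ht
      rw [hT, torus_iff] at ht ⊢
      set M := ((Φ p : Matrix.symplecticGroup (Fin m) F) : Matrix (Fin m ⊕ Fin m) (Fin m ⊕ Fin m) F) with hM
      have e : M * (t : Matrix (Fin m ⊕ Fin m) (Fin m ⊕ Fin m) F) = Matrix.diagonal
          (fun x => (t : Matrix (Fin m ⊕ Fin m) (Fin m ⊕ Fin m) F) (col p.1 p.2.1 x) (col p.1 p.2.1 x)) * M := by
        ext x y
        rw [Matrix.diagonal_mul]
        simp only [hM, Φ, mono, Matrix.mul_apply, Matrix.of_apply, ite_mul, zero_mul, Finset.sum_ite_eq',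
          Finset.mem_univ, if_true]
        split_ifs with hy
        · subst hy; ring
        · rw [ht _ _ (Ne.symm hy), mul_zero, mul_zero]
      intro x y hxy
      show (M * (t : Matrix (Fin m ⊕ Fin m) (Fin m ⊕ Fin m) F) *
        (((Φ p)⁻¹ : Matrix.symplecticGroup (Fin m) F) : Matrix (Fin m ⊕ Fin m) (Fin m ⊕ Fin m) F)) x y = 0
      rw [e, Matrix.mul_assoc, show M * (((Φ p)⁻¹ : Matrix.symplecticGroup (Fin m) F) :
        Matrix (Fin m ⊕ Fin m) (Fin m ⊕ Fin m) F) = 1 from congrArg Subtype.val (mul_inv_cancel (Φ p)),
        Matrix.mul_one, Matrix.diagonal_apply_ne _ hxy]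
    rw [Subgroup.mem_normalizer_iff]
    intro t
    refine ⟨hmaps t, fun h => ?_⟩
    have hsur : Function.Surjective (fun u : T => (⟨_, hmaps u.1 u.2⟩ : T)) :=
      Finite.injective_iff_surjective.mp fun u w h => Subtype.ext (by simpa using congrArg Subtype.val h)
    obtain ⟨u, hu⟩ := hsur ⟨_, h⟩
    have : (u : Matrix.symplecticGroup (Fin m) F) = t := by simpa using congrArg Subtype.val hu
    exact this ▸ u.2
  let Ψ : (Fin m → Bool) × Equiv.Perm (Fin m) × (Fin m → Fˣ) →
      ↥(Subgroup.normalizer (T : Set (Matrix.symplecticGroup (Fin m) F))) := fun p => ⟨Φ p, hnorm p⟩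
  have hbij : Function.Bijective Ψ := by
    constructor
    · rintro ⟨e, σ, d⟩ ⟨e', σ', d'⟩ h
      have h' : mono (col e σ) (val e d) = mono (col e' σ') (val e' d') :=
        congrArg Subtype.val (congrArg Subtype.val h)
      have key : ∀ i, col e σ (Sum.inl i) = col e' σ' (Sum.inl i) ∧ d i = d' i := by
        intro i
        have h1 := congrFun (congrFun h' (Sum.inl i)) (col e σ (Sum.inl i))
        simp only [mono, Matrix.of_apply, if_true, val] at h1
        split_ifs at h1 with h2
        · exact ⟨h2, Units.ext h1⟩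
        · exact absurd h1 (d i).ne_zero
      have k2 : ∀ i, e i = e' i ∧ σ i = σ' i := by
        intro i
        have h1 := (key i).1
        cases he : e i <;> cases he' : e' i <;> simp [col, he, he'] at h1 <;> exact ⟨rfl, h1⟩
      rw [funext fun i => (k2 i).1, Equiv.ext fun i => (k2 i).2, funext fun i => (key i).2]
    · rintro ⟨g, hg⟩
      set M := (g : Matrix (Fin m ⊕ Fin m) (Fin m ⊕ Fin m) F) with hM
      have hex : ∀ x, ∃ y, M x y ≠ 0 := by
        intro x
        by_contra hc
        push_neg at hc
        have e : (M * ((g⁻¹ : Matrix.symplecticGroup (Fin m) F) : Matrix (Fin m ⊕ Fin m) (Fin m ⊕ Fin m) F)) x x =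
            (1 : Matrix (Fin m ⊕ Fin m) (Fin m ⊕ Fin m) F) x x := by
          rw [show M * ((g⁻¹ : Matrix.symplecticGroup (Fin m) F) : Matrix (Fin m ⊕ Fin m) (Fin m ⊕ Fin m) F) = 1 from
            congrArg Subtype.val (mul_inv_cancel g)]
        rw [Matrix.mul_apply, Finset.sum_eq_zero (fun z _ => by rw [hc z, zero_mul]), Matrix.one_apply_eq] at e
        exact zero_ne_one e
      have huniq : ∀ x y z, M x y ≠ 0 → M x z ≠ 0 → y = z := by
        intro x y z hy hz
        by_contra hyz
        obtain ⟨d, hd⟩ : ∃ d : Fin m → Fˣ, val (fun _ => false) d y ≠ val (fun _ => false) d z := by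
          rcases y with i | i <;> rcases z with j | j
          · refine ⟨Function.update 1 i a, ?_⟩
            have : j ≠ i := fun e => hyz (by rw [e])
            simp [val, Function.update_of_ne this]
            exact fun e => ha1 e
          · refine ⟨Function.update 1 i a, ?_⟩
            rcases eq_or_ne j i with rfl | hji
            · simp only [val, Function.update_self, Bool.false_eq_true, if_false, Units.val_inv_eq_inv_val]
              intro e
              exact ha0 ((congrArg (fun x => (a : F) * x) e).trans (mul_inv_cancel₀ a.ne_zero))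
            · simp [val, Function.update_of_ne hji]
              exact fun e => ha1 e
          · refine ⟨Function.update 1 j a, ?_⟩
            rcases eq_or_ne i j with rfl | hij
            · simp only [val, Function.update_self, Bool.false_eq_true, if_false, Units.val_inv_eq_inv_val]
              intro e
              exact ha0 ((congrArg (fun x => (a : F) * x) e.symm).trans (mul_inv_cancel₀ a.ne_zero))
            · simp [val, Function.update_of_ne hij]
              exact fun e => ha1 (Units.ext e.symm)
          · refine ⟨Function.update 1 i a, ?_⟩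
            have : j ≠ i := fun e => hyz (by rw [e])
            simp [val, Function.update_of_ne this]
            exact fun e => ha1 e
        let t := Φ (fun _ => false, 1, d)
        have htd : ∀ x y, (t : Matrix (Fin m ⊕ Fin m) (Fin m ⊕ Fin m) F) x y =
            if y = x then val (fun _ => false) d x else 0 := by
          intro x y
          rcases x with i | i <;> simp [t, Φ, mono, col]
        have htT : t ∈ T := by
          rw [hT, torus_iff]
          intro x y hxy
          rw [htd, if_neg (Ne.symm hxy)]
        have hc := (Subgroup.mem_normalizer_iff.mp hg t).mp htT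
        rw [hT, torus_iff] at hc
        have e : M * (t : Matrix (Fin m ⊕ Fin m) (Fin m ⊕ Fin m) F) =
            ((g * t * g⁻¹ : Matrix.symplecticGroup (Fin m) F) : Matrix (Fin m ⊕ Fin m) (Fin m ⊕ Fin m) F) * M := by
          rw [hM]
          exact congrArg Subtype.val (show g * t = g * t * g⁻¹ * g by group)
        have k : ∀ w, M x w ≠ 0 → val (fun _ => false) d w =
            ((g * t * g⁻¹ : Matrix.symplecticGroup (Fin m) F) : Matrix (Fin m ⊕ Fin m) (Fin m ⊕ Fin m) F) x x := by
          intro w hw
          have e' := congrFun (congrFun e x) w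
          rw [Matrix.mul_apply, Matrix.mul_apply, Fintype.sum_eq_single w (fun u hu => by
            rw [htd, if_neg hu.symm, mul_zero]), Fintype.sum_eq_single x (fun u hu => by
            rw [hc x u hu.symm, zero_mul]), htd, if_pos rfl, mul_comm] at e'
          exact mul_right_cancel₀ hw e'
        exact hd ((k y hy).trans (k z hz).symm)
      choose π hπ using hex
      have hmono : M = mono π (fun x => M x (π x)) := by
        ext x y
        simp only [mono, Matrix.of_apply]
        split_ifs with h
        · rw [h]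
        · by_contra hh; exact h (huniq x y (π x) hh (hπ x))
      have hcond := (mono_mem_iff π (fun x => M x (π x))).mp (hmono ▸ g.2)
      have hside : ∀ i, ∃ (b : Bool) (j : Fin m), π (Sum.inl i) = (if b then Sum.inr j else Sum.inl j) ∧
          π (Sum.inr i) = (if b then Sum.inl j else Sum.inr j) := by
        intro i
        have h := hcond (Sum.inl i) (Sum.inr i)
        rcases h1 : π (Sum.inl i) with j | j <;> rcases h2 : π (Sum.inr i) with l | l
        · simp [h1, h2, Matrix.J] at h
        · refine ⟨false, j, rfl, ?_⟩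
          rcases eq_or_ne j l with rfl | hjl
          · rfl
          · simp [h1, h2, Matrix.J, hjl] at h
        · refine ⟨true, j, rfl, ?_⟩
          rcases eq_or_ne j l with rfl | hjl
          · rfl
          · simp [h1, h2, Matrix.J, hjl] at h
        · simp [h1, h2, Matrix.J] at h
      choose e σ₀ he₁ he₂ using hside
      have hσ : Function.Injective σ₀ := by
        intro i j hij
        by_contra hne
        have hJ : ∀ a b : Fin m, a ≠ b → ∀ u w : Bool, (Matrix.J (Fin m) F)
            (if u then Sum.inl a else Sum.inr a) (if w then Sum.inr b else Sum.inl b) = 0 := by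
          intro a b hab u w
          cases u <;> cases w <;> simp [Matrix.J, hab]
        have h1 := hcond (Sum.inl i) (Sum.inr i)
        have h2 := hcond (Sum.inl i) (Sum.inl j)
        have h3 := hcond (Sum.inr i) (Sum.inl j)
        rw [he₁, he₂] at h1
        rw [he₁, he₁, hij] at h2
        rw [he₂, he₁, hij] at h3
        have n1 : M (Sum.inl i) (π (Sum.inl i)) ≠ 0 := hπ _
        have n2 : M (Sum.inr i) (π (Sum.inr i)) ≠ 0 := hπ _
        have n3 : M (Sum.inl j) (π (Sum.inl j)) ≠ 0 := hπ _
        rw [he₁, hij] at n1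
        rw [he₂, hij] at n2
        rw [he₁] at n3
        cases hei : e i <;> cases hej : e j <;>
          simp [hei, hej] at n1 n2 n3 <;>
          simp [hei, hej, hne, Matrix.J, n1, n2, n3] at h1 h2 h3
      let σ : Equiv.Perm (Fin m) := Equiv.ofBijective σ₀ (Finite.injective_iff_bijective.mp hσ)
      let d : Fin m → Fˣ := fun i => Units.mk0 (M (Sum.inl i) (π (Sum.inl i))) (hπ _)
      refine ⟨(e, σ, d), Subtype.ext (Subtype.ext ?_)⟩
      show mono (col e σ) (val e d) = M
      have hcol : col e σ = π := by
        funext x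
        rcases x with i | i
        · exact (he₁ i).symm
        · exact (he₂ i).symm
      rw [hcol]
      refine Eq.trans ?_ hmono.symm
      congr 1
      funext x
      rcases x with i | i
      · rfl
      · have h1 := hcond (Sum.inl i) (Sum.inr i)
        rw [he₁, he₂] at h1
        have n1 : M (Sum.inl i) (π (Sum.inl i)) ≠ 0 := hπ _
        cases hei : e i <;> simp [hei, Matrix.J, val, d] at h1 ⊢
        · rw [he₁, he₂] at *
          simp only [hei, Bool.false_eq_true, if_false] at *
          exact (eq_inv_of_mul_eq_one_right h1).symm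
        · rw [he₁, he₂] at *
          simp only [hei, if_true] at *
          field_simp
          linear_combination -h1
  rw [Set.iInf_eq_iInter, ← Subgroup.coe_iInf, ← hT, ← Nat.card_congr (Equiv.ofBijective Ψ hbij), Nat.card_prod, Nat.card_prod, Nat.card_fun, Nat.card_fun,
    Nat.card_perm, Nat.card_fin, Nat.card_units, Nat.card_eq_fintype_card (α := Bool), Fintype.card_bool,
    Nat.card_eq_fintype_card, hF, mul_assoc]

end Cfsg.Agent.S0777
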