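import Cfsg.Statements.S0778


set_option autoImplicit false
open Cfsg

open Matrix

namespace Cfsg.Agent.S0778

/-- The elements of Sp_2m(F) stabilising both W = ⟨e_1..e_m⟩ and U = ⟨f_1..f_m⟩ form a subgroup isomorphic to GL_m(F) (block-diagonal matrices diag(X, X^(−ᵀ)) up to the sign convention of J), for m ≥ 1 or m = 0 alike. -/
theorem result {F : Type*} [Field F] (m : ℕ) : Nonempty (↥(Cfsg.stabilizing (Cfsg.spToMat m F) {v : Fin m ⊕ Fin m → F | ∀ i : Fin m, v (Sum.inr i) = 0} ⊓ Cfsg.stabilizing (Cfsg.spToMat m F) {v : Fin m ⊕ Fin m → F | ∀ i : Fin m, v (Sum.inl i) = 0}) ≃* Matrix.GeneralLinearGroup (Fin m) F) := by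
  classical
  let D : Matrix.GeneralLinearGroup (Fin m) F →* Matrix.symplecticGroup (Fin m) F :=
    { toFun := fun A => ⟨Matrix.fromBlocks (A : Matrix (Fin m) (Fin m) F) 0 0
          ((A⁻¹ : Matrix.GeneralLinearGroup (Fin m) F) : Matrix (Fin m) (Fin m) F)ᵀ, by
        rw [SymplecticGroup.mem_iff, Matrix.J, Matrix.fromBlocks_transpose, Matrix.fromBlocks_multiply,
          Matrix.fromBlocks_multiply]
        simp [← Matrix.transpose_mul]⟩
      map_one' := Subtype.ext (by simp [Matrix.fromBlocks_one])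
      map_mul' := fun A B => Subtype.ext (by
        simp [Matrix.fromBlocks_multiply, _root_.mul_inv_rev, Matrix.transpose_mul]) }
  have hinj : Function.Injective D := fun A B h => Units.ext
    (Matrix.fromBlocks_inj.1 (congrArg Subtype.val h)).1
  have hr : D.range = Cfsg.stabilizing (Cfsg.spToMat m F) {v : Fin m ⊕ Fin m → F | ∀ i : Fin m, v (Sum.inr i) = 0} ⊓
      Cfsg.stabilizing (Cfsg.spToMat m F) {v : Fin m ⊕ Fin m → F | ∀ i : Fin m, v (Sum.inl i) = 0} := by
    apply le_antisymm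
    · rintro _ ⟨A, rfl⟩
      have h1 : ∀ v : Fin m ⊕ Fin m → F,
          Cfsg.spToMat m F (D A) *ᵥ v = Sum.elim ((A : Matrix (Fin m) (Fin m) F) *ᵥ (v ∘ Sum.inl))
            (((A⁻¹ : Matrix.GeneralLinearGroup (Fin m) F) : Matrix (Fin m) (Fin m) F)ᵀ *ᵥ (v ∘ Sum.inr)) := fun v => by
        show Matrix.fromBlocks _ _ _ _ *ᵥ v = _
        rw [Matrix.fromBlocks_mulVec]
        simp
      have hA : ∀ w : Fin m → F, (A : Matrix (Fin m) (Fin m) F) *ᵥ w = 0 → w = 0 := fun w hw => by
        have := congrArg (fun u => ((A⁻¹ : Matrix.GeneralLinearGroup (Fin m) F) : Matrix (Fin m) (Fin m) F) *ᵥ u) hw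
        simpa [Matrix.mulVec_mulVec] using this
      have hA' : ∀ w : Fin m → F,
          ((A⁻¹ : Matrix.GeneralLinearGroup (Fin m) F) : Matrix (Fin m) (Fin m) F)ᵀ *ᵥ w = 0 → w = 0 := fun w hw => by
        have := congrArg (fun u => (A : Matrix (Fin m) (Fin m) F)ᵀ *ᵥ u) hw
        simpa [Matrix.mulVec_mulVec, ← Matrix.transpose_mul] using this
      refine ⟨fun v => ?_, fun v => ?_⟩ <;> simp only [Set.mem_setOf_eq, h1, Sum.elim_inr, Sum.elim_inl]
      · exact ⟨fun h i => by rw [show v ∘ Sum.inr = 0 from funext h]; simp,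
          fun h => congrFun (hA' _ (funext h))⟩
      · exact ⟨fun h i => by rw [show v ∘ Sum.inl = 0 from funext h]; simp,
          fun h => congrFun (hA _ (funext h))⟩
    · rintro ⟨M, hM⟩ ⟨hs1, hs2⟩
      have hl : ∀ i j, M (Sum.inr i) (Sum.inl j) = 0 := fun i j => by
        have := (hs1 (Pi.single (Sum.inl j) 1)).1 (fun k => by simp) i
        simpa [Matrix.mulVec_single] using this
      have hr : ∀ i j, M (Sum.inl i) (Sum.inr j) = 0 := fun i j => by
        have := (hs2 (Pi.single (Sum.inr j) 1)).1 (fun k => by simp) i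
        simpa [Matrix.mulVec_single] using this
      have hMb : M = Matrix.fromBlocks M.toBlocks₁₁ 0 0 M.toBlocks₂₂ := by
        conv_lhs => rw [← Matrix.fromBlocks_toBlocks M]
        rw [show M.toBlocks₁₂ = 0 from Matrix.ext hr, show M.toBlocks₂₁ = 0 from Matrix.ext hl]
      have hrel := SymplecticGroup.mem_iff.1 hM
      rw [hMb, Matrix.J, Matrix.fromBlocks_transpose, Matrix.fromBlocks_multiply,
        Matrix.fromBlocks_multiply, Matrix.fromBlocks_inj] at hrel
      obtain ⟨-, -, h21, -⟩ := hrel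
      simp at h21
      have h22 : M.toBlocks₁₁ᵀ * M.toBlocks₂₂ = 1 := by
        rw [mul_eq_one_comm]; exact h21
      have h11 : M.toBlocks₁₁ * M.toBlocks₂₂ᵀ = 1 := by
        have := congrArg Matrix.transpose h21
        simpa [Matrix.transpose_mul] using this
      refine ⟨⟨M.toBlocks₁₁, M.toBlocks₂₂ᵀ, h11, mul_eq_one_comm.1 h11⟩, Subtype.ext ?_⟩
      show Matrix.fromBlocks M.toBlocks₁₁ 0 0 M.toBlocks₂₂ᵀᵀ = M
      rw [Matrix.transpose_transpose, ← hMb]
  exact ⟨((MulEquiv.ofBijective D.rangeRestrict ⟨fun A B h => hinj (congrArg Subtype.val h),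
    D.rangeRestrict_surjective⟩).trans (MulEquiv.subgroupCongr hr)).symm⟩

end Cfsg.Agent.S0778
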