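import Cfsg.Statements.S0779
import Cfsg.Agent.Lib.Classical.Unitary
import Cfsg.Prelude.Def_ClassicalGeometry

set_option autoImplicit false
open Cfsg

open Cfsg.Agent.Classical
open Matrix

namespace Cfsg.Agent.S0779

/-- Unitary transvections: let |F| = q², h the standard Hermitian form Σ x_i y_i^q and v ≠ 0 with h(v, v) = 0. The linear map x ↦ x + c h(x, v) v is an isometry of h if and only if c = 0 or c^(q−1) = −1. -/
theorem result {F : Type*} [Field F] [Fintype F] {q : ℕ} (hF : Fintype.card F = q ^ 2) (n : ℕ) (v : Fin n → F) (hv : v ≠ 0) (hv0 : Cfsg.hermForm n F q v v = 0) (c : F) : (∀ x y : Fin n → F, Cfsg.hermForm n F q ((Cfsg.unitaryTransvection n q v c).mulVec x) ((Cfsg.unitaryTransvection n q v c).mulVec y) = Cfsg.hermForm n F q x y) ↔ (c = 0 ∨ c ^ (q - 1) = -1) := by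
  have hq := Unitary.one_lt_q hF
  obtain ⟨σ, hσ, -, hσ2⟩ := Unitary.exists_frob hF
  have hap : ∀ x, (Cfsg.unitaryTransvection n q v c).mulVec x = x + (c * Cfsg.hermForm n F q x v) • v := by
    intro x
    simp only [Cfsg.unitaryTransvection, Matrix.add_mulVec, Matrix.one_mulVec, Matrix.smul_mulVec,
      Matrix.vecMulVec_mulVec]
    congr 1
    funext i
    simp only [Pi.smul_apply, op_smul_eq_smul, smul_eq_mul, dotProduct, Cfsg.hermForm]
    rw [Finset.sum_congr rfl (g := fun j => x j * v j ^ q) (fun j _ => mul_comm _ _)]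
    ring
  have hexp : ∀ (a b : F) (x y u w : Fin n → F), Cfsg.hermForm n F q (x + a • u) (y + b • w) =
      Cfsg.hermForm n F q x y + σ b * Cfsg.hermForm n F q x w + a * Cfsg.hermForm n F q u y + a * σ b * Cfsg.hermForm n F q u w := by
    intro a b x y u w
    simp only [Cfsg.hermForm, ← hσ, Finset.mul_sum, ← Finset.sum_add_distrib]
    refine Finset.sum_congr rfl fun i _ => ?_
    simp only [Pi.add_apply, Pi.smul_apply, smul_eq_mul, map_add, map_mul]
    ring
  have hsym : ∀ x y, σ (Cfsg.hermForm n F q x y) = Cfsg.hermForm n F q y x := by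
    intro x y
    simp only [Cfsg.hermForm, ← hσ, map_sum, map_mul, hσ2, mul_comm]
  have key : ∀ x y, Cfsg.hermForm n F q ((Cfsg.unitaryTransvection n q v c).mulVec x)
      ((Cfsg.unitaryTransvection n q v c).mulVec y) = Cfsg.hermForm n F q x y +
        (c + σ c) * (Cfsg.hermForm n F q x v * Cfsg.hermForm n F q v y) := by
    intro x y
    rw [hap, hap, hexp, hv0, map_mul, hsym y v]
    ring
  have h1 : (∀ x y : Fin n → F, Cfsg.hermForm n F q ((Cfsg.unitaryTransvection n q v c).mulVec x)
      ((Cfsg.unitaryTransvection n q v c).mulVec y) = Cfsg.hermForm n F q x y) ↔ c + σ c = 0 := by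
    refine ⟨fun h => ?_, fun h x y => by rw [key, h, zero_mul, add_zero]⟩
    obtain ⟨i, hi⟩ := Function.ne_iff.1 hv
    have hx : Cfsg.hermForm n F q (Pi.single i 1) v = v i ^ q := by
      simp [Cfsg.hermForm, Pi.single_apply]
    have h2 := h (Pi.single i 1) (Pi.single i 1)
    rw [key, add_eq_left, hx, ← hsym (Pi.single i 1) v, hx] at h2
    refine (mul_eq_zero.1 h2).resolve_right (mul_ne_zero (pow_ne_zero q hi) ?_)
    rw [map_ne_zero]
    exact pow_ne_zero q hi
  rw [h1, hσ]
  rcases eq_or_ne c 0 with rfl | hc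
  · simp [zero_pow (show q ≠ 0 by omega)]
  · rw [or_iff_right hc]
    have e : c + c ^ q = c * (1 + c ^ (q - 1)) := by
      rw [mul_add, mul_one, ← pow_succ', Nat.sub_add_cancel hq.le]
    rw [e, mul_eq_zero, or_iff_right hc, add_comm, add_eq_zero_iff_eq_neg]

end Cfsg.Agent.S0779
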