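import Cfsg.Statements.S0780
import Cfsg.Agent.Lib.Classical.MaxSUBase

set_option autoImplicit false
open Cfsg

open Cfsg.Agent.Classical
open scoped Matrix

namespace Cfsg.Agent.S0780

/-- Generation of SU_n(q), n ≥ 3, (n, q) ≠ (3, 2), by unitary transvections: the subgroup generated by the elements whose matrix is x ↦ x + c h(x, v) v with v isotropic is all of SU_n(q). -/
theorem result {F : Type*} [Field F] [Fintype F] {q : ℕ} (hF : Fintype.card F = q ^ 2) (n : ℕ) (hn : 3 ≤ n) (h32 : ¬ (n = 3 ∧ q = 2)) : Subgroup.closure {A : ↥(Cfsg.SU n F q) | ∃ (v : Fin n → F) (c : F), Cfsg.hermForm n F q v v = 0 ∧ ((A : Matrix.SpecialLinearGroup (Fin n) F) : Matrix (Fin n) (Fin n) F) = Cfsg.unitaryTransvection n q v c} = ⊤ := by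
  classical
  obtain ⟨σ, hf⟩ := MaxSU.hermForm_unitary (n := n) hF
  have hσq : ∀ a : F, σ a = a ^ q := fun a => by
    have h1 := hf.herm (Pi.single (⟨0, by omega⟩ : Fin n) 1) (Pi.single (⟨0, by omega⟩ : Fin n) a)
    have hq0 : q ≠ 0 := by have := Cfsg.Agent.Classical.Unitary.one_lt_q hF; omega
    simp only [Cfsg.hermForm] at h1
    rw [Finset.sum_eq_single (⟨0, by omega⟩ : Fin n) (fun l _ hl => by simp [Pi.single_eq_of_ne hl]) (by simp),
      Finset.sum_eq_single (⟨0, by omega⟩ : Fin n) (fun l _ hl => by simp [Pi.single_eq_of_ne hl]) (by simp)] at h1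
    simpa using h1.symm
  have hK : 4 ≤ Fintype.card (Fin n) ∨ ¬ ∀ a : F, σ a = a → a = 0 ∨ a = 1 := by
    rw [Fintype.card_fin]
    by_cases h4 : 4 ≤ n
    · exact Or.inl h4
    refine Or.inr fun hall => ?_
    have hq2 : q ≠ 2 := fun h => h32 ⟨by omega, h⟩
    have hc := Cfsg.Agent.Classical.Unitary.card_fixed_nonzero hF
    have h1 : Nat.card {a : F // a ≠ 0 ∧ a ^ q = a} = 1 := by
      haveI : Unique {a : F // a ≠ 0 ∧ a ^ q = a} :=
        { default := ⟨1, one_ne_zero, one_pow q⟩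
          uniq := fun a => Subtype.ext ((hall a (by rw [hσq]; exact a.2.2)).resolve_left a.2.1) }
      exact Nat.card_unique
    have := Cfsg.Agent.Classical.Unitary.one_lt_q hF
    omega
  rw [eq_top_iff]
  intro A _
  let φ : ↥(Cfsg.SU n F q) →* GL (Fin n) F := Matrix.SpecialLinearGroup.toGL.comp (Subgroup.subtype _)
  have hinj : Function.Injective φ := fun x y e => by
    refine Subtype.ext (Subtype.ext ?_)
    exact congrArg Units.val e
  have hA : φ A ∈ HermGen.tgrp hf := HermGen.mem_tgrp_of_pres' hf hK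
    ⟨A.2, (A : Matrix.SpecialLinearGroup (Fin n) F).2⟩
  suffices HermGen.tgrp hf ≤ (Subgroup.closure {A : ↥(Cfsg.SU n F q) | ∃ (v : Fin n → F) (c : F),
      Cfsg.hermForm n F q v v = 0 ∧ ((A : Matrix.SpecialLinearGroup (Fin n) F) : Matrix (Fin n) (Fin n) F) =
        Cfsg.unitaryTransvection n q v c}).map φ by
    obtain ⟨B, hB, e⟩ := this hA
    exact hinj e ▸ hB
  rw [MonoidHom.map_closure]
  refine Subgroup.closure_mono ?_
  rintro _ ⟨w, a, h0, hw, ha, rfl⟩
  have hp := MaxSU.pres_T hf hw ha h0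
  refine ⟨⟨⟨_, hp.2⟩, hp.1⟩, ⟨w, a, hw, ?_⟩, Units.ext rfl⟩
  refine Matrix.toLin'.injective (LinearMap.ext fun x => ?_)
  show (transGL (a • HermSep.fn hf w) w h0 : Matrix (Fin n) (Fin n) F) *ᵥ x = Cfsg.unitaryTransvection n q w a *ᵥ x
  rw [transGL_apply, Cfsg.unitaryTransvection, Matrix.add_mulVec, Matrix.one_mulVec, Matrix.smul_mulVec,
    Matrix.vecMulVec_mulVec, LinearMap.smul_apply, HermSep.fn_apply]
  funext i
  simp [Cfsg.hermForm, dotProduct]
  rw [Finset.sum_congr rfl fun j _ => mul_comm (x j) (w j ^ q)]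
  ring

end Cfsg.Agent.S0780
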