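import Cfsg.Statements.S0782
import Cfsg.Agent.Lib.Classical.UnitaryTIStab

set_option autoImplicit false
open Cfsg

open Cfsg.Agent.Classical Module
open Matrix hiding toLin'
set_option maxHeartbeats 800000

namespace Cfsg.Agent.S0782

/-- Maximal parabolics of SU_n(q): if W is a k-dimensional subspace of F^n (n ≥ 1, |F| = q²) on which the Hermitian form vanishes, then (q + 1) times the order of its stabiliser in SU_n(q) equals q^(k(2n−3k)) · |GL_k(q²)| · |GU_(n−2k)(q)|, where |GU_m(q)| = q^(m(m−1)/2) Π_(i=1..m) (q^i − (−1)^i). -/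
theorem result {F : Type*} [Field F] [Fintype F] {q : ℕ} (hF : Fintype.card F = q ^ 2) (n k : ℕ) (hn : 1 ≤ n) (hk : 2 * k ≤ n) (W : Submodule F (Fin n → F)) (hWk : Module.finrank F W = k) (hW : ∀ u ∈ W, ∀ v ∈ W, Cfsg.hermForm n F q u v = 0) : (q + 1) * Nat.card ↥((Cfsg.stabilizing (Cfsg.slToMat n F) (W : Set (Fin n → F))).subgroupOf (Cfsg.SU n F q)) = q ^ (k * (2 * n - 3 * k)) * (∏ i : Fin k, ((q ^ 2) ^ k - (q ^ 2) ^ (i : ℕ))) * (q ^ ((n - 2 * k) * ((n - 2 * k) - 1) / 2) * ∏ i ∈ Finset.range (n - 2 * k), (if Even i then q ^ (i + 1) + 1 else q ^ (i + 1) - 1)) := by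
  classical
  let S : Subgroup (Cfsg.GU n F q) :=
    (Cfsg.stabilizing ((Units.coeHom (Matrix (Fin n) (Fin n) F))) (W : Set (Fin n → F))).subgroupOf (Cfsg.GU n F q)
  have hS : ∀ g : Cfsg.GU n F q, g ∈ S ↔ ∀ v, v ∈ W ↔ ((g : GL (Fin n) F) : Matrix (Fin n) (Fin n) F) *ᵥ v ∈ W := fun g => Iff.rfl
  let φ : S →* Unitary.normOne F q := (Unitary.detHom hF n).comp S.subtype
  have hφ : Function.Surjective φ := by
    rintro ⟨a, ha⟩
    rcases eq_or_ne W ⊥ with rfl | hW0
    · obtain ⟨g, hg⟩ := Unitary.detHom_surjective hF hn ⟨a, ha⟩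
      refine ⟨⟨g, (hS g).2 fun v => ?_⟩, hg⟩
      rw [Submodule.mem_bot, Submodule.mem_bot]
      refine ⟨fun h => by rw [h, mulVec_zero], fun h => ?_⟩
      have := congrArg (fun z => (((g : GL (Fin n) F)⁻¹ : GL (Fin n) F) : Matrix (Fin n) (Fin n) F) *ᵥ z) h
      simpa [mulVec_mulVec, ← Units.val_mul] using this
    · have hz : (a : F) * (a : F) ^ q = 1 := by
        rw [← pow_succ', ← Units.val_pow_eq_pow_val, show a ^ (q + 1) = 1 from ha, Units.val_one]
      obtain ⟨g, hgd, hgW⟩ := UnitaryTIStab.exists_det hF hW0 hW hz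
      refine ⟨⟨g, (hS g).2 fun v => ⟨hgW v, fun hv => ?_⟩⟩, Subtype.ext (Units.ext hgd)⟩
      have hinj : Function.Injective (Matrix.mulVecLin ((g : GL (Fin n) F) : Matrix (Fin n) (Fin n) F)) :=
        Matrix.mulVec_injective_iff_isUnit.2 ⟨(g : GL (Fin n) F), rfl⟩
      have heq : W.map (Matrix.mulVecLin ((g : GL (Fin n) F) : Matrix (Fin n) (Fin n) F)) = W :=
        Submodule.eq_of_le_of_finrank_eq (by rintro _ ⟨v, hv, rfl⟩; exact hgW v hv) (Submodule.equivMapOfInjective _ hinj W).finrank_eq.symm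
      rw [← heq] at hv
      obtain ⟨w, hw, hwv⟩ := hv
      exact hinj hwv ▸ hw
  have hker : Nat.card φ.ker = Nat.card ↥((Cfsg.stabilizing (Cfsg.slToMat n F) (W : Set (Fin n → F))).subgroupOf (Cfsg.SU n F q)) :=
    Nat.card_congr
      { toFun := fun g => ⟨((Unitary.suEquiv hF n).symm ⟨g.1.1, g.2⟩), g.1.2⟩
        invFun := fun s => ⟨⟨((Unitary.suEquiv hF n) s.1).1, s.2⟩, ((Unitary.suEquiv hF n) s.1).2⟩
        left_inv := fun g => Subtype.ext (Subtype.ext (by simp))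
        right_inv := fun s => Subtype.ext ((Unitary.suEquiv hF n).symm_apply_apply s.1) }
  rw [← hker, ← Unitary.card_normOne hF, ← UnitaryTIStab.card_stab hF hk W hWk hW S hS, ← φ.ker.index_mul_card,
    Subgroup.index_ker, MonoidHom.range_eq_top.2 hφ, Subgroup.card_top]

end Cfsg.Agent.S0782
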