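import Cfsg.Statements.S0783
import Cfsg.Agent.Lib.Classical.Unitary

set_option autoImplicit false
open Cfsg

open Cfsg.Agent.Classical
open Matrix

namespace Cfsg.Agent.S0783

/-- PGU_n(q)/PSU_n(q) is cyclic of order (n, q+1): for n ≥ 2 and |F| = q² there is a surjective homomorphism from GU_n(q) onto the cyclic group of order gcd(n, q + 1) whose kernel is generated by the determinant-one elements together with the centre. -/
theorem result {F : Type*} [Field F] [Fintype F] {q : ℕ} (hF : Fintype.card F = q ^ 2) (n : ℕ) (hn : 2 ≤ n) : ∃ φ : ↥(Cfsg.GU n F q) →* Multiplicative (ZMod (Nat.gcd n (q + 1))), Function.Surjective φ ∧ φ.ker = (Matrix.GeneralLinearGroup.det : Matrix.GeneralLinearGroup (Fin n) F →* Fˣ).ker.subgroupOf (Cfsg.GU n F q) ⊔ Subgroup.center ↥(Cfsg.GU n F q) := by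
  classical
  have hq := Unitary.one_lt_q hF
  let P : Subgroup (Unitary.normOne F q) := (powMonoidHom n : Unitary.normOne F q →* Unitary.normOne F q).range
  have hidx : Nat.card (Unitary.normOne F q ⧸ P) = Nat.gcd n (q + 1) := by
    show P.index = _
    rw [IsCyclic.index_powMonoidHom_range, Unitary.card_normOne hF, Nat.gcd_comm]
  haveI : IsCyclic (Unitary.normOne F q ⧸ P) := isCyclic_of_surjective (QuotientGroup.mk' P) (QuotientGroup.mk'_surjective P)
  have e : Unitary.normOne F q ⧸ P ≃* Multiplicative (ZMod (Nat.gcd n (q + 1))) :=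
    mulEquivOfCyclicCardEq (hidx.trans ((Nat.card_congr Multiplicative.toAdd).trans (Nat.card_zmod _)).symm)
  refine ⟨e.toMonoidHom.comp ((QuotientGroup.mk' P).comp (Unitary.detHom hF n)),
    e.surjective.comp ((QuotientGroup.mk'_surjective P).comp (Unitary.detHom_surjective hF (by omega))), ?_⟩
  rw [show (e.toMonoidHom.comp ((QuotientGroup.mk' P).comp (Unitary.detHom hF n))).ker = P.comap (Unitary.detHom hF n) by
    ext x; simp [MonoidHom.mem_ker]]
  apply le_antisymm
  · rintro g ⟨a, ha⟩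
    have hdet : Matrix.GeneralLinearGroup.det (g : GL (Fin n) F) = (a : Fˣ) ^ n := congrArg Subtype.val ha.symm
    let s : GL (Fin n) F := Matrix.GeneralLinearGroup.scalar (Fin n) (a : Fˣ)
    have hs : (s : Matrix (Fin n) (Fin n) F) = Matrix.diagonal fun _ => ((a : Fˣ) : F) := rfl
    have hsm : s ∈ Cfsg.GU n F q := Unitary.diag_mem hF _ (fun _ => by
      rw [← pow_succ', ← Units.val_pow_eq_pow_val, show (a : Fˣ) ^ (q + 1) = 1 from a.2, Units.val_one]) s hs
    have hsc : (⟨s, hsm⟩ : Cfsg.GU n F q) ∈ Subgroup.center (Cfsg.GU n F q) := by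
      refine Subgroup.mem_center_iff.2 fun x => Subtype.ext (Units.ext ?_)
      show ((x : GL (Fin n) F) : Matrix (Fin n) (Fin n) F) * (s : Matrix (Fin n) (Fin n) F) = _
      rw [hs, ← Matrix.smul_one_eq_diagonal, Matrix.mul_smul, mul_one]
      show _ = (s : Matrix (Fin n) (Fin n) F) * _
      rw [hs, ← Matrix.smul_one_eq_diagonal, Matrix.smul_mul, one_mul]
    rw [show g = g * (⟨s, hsm⟩ : Cfsg.GU n F q)⁻¹ * ⟨s, hsm⟩ by rw [inv_mul_cancel_right]]
    refine Subgroup.mul_mem_sup ?_ hsc
    rw [Subgroup.mem_subgroupOf, MonoidHom.mem_ker, Subgroup.coe_mul, Subgroup.coe_inv, map_mul, map_inv, hdet]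
    have : Matrix.GeneralLinearGroup.det s = (a : Fˣ) ^ n := by
      apply Units.ext
      rw [Matrix.GeneralLinearGroup.val_det_apply, hs, Matrix.det_diagonal, Finset.prod_const,
        Finset.card_univ, Fintype.card_fin, Units.val_pow_eq_pow_val]
    rw [this, mul_inv_cancel]
  · refine sup_le ?_ ?_
    · intro g hg
      refine ⟨1, Subtype.ext ?_⟩
      show ((1 : Unitary.normOne F q) ^ n : Unitary.normOne F q).1 = _
      rw [one_pow]
      exact (show Matrix.GeneralLinearGroup.det (g : GL (Fin n) F) = 1 from hg).symm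
    · intro z hz
      obtain ⟨a, ha⟩ := Unitary.scalar_of_comm hF hn ((z : GL (Fin n) F) : Matrix (Fin n) (Fin n) F) fun g =>
        congrArg (fun x : Cfsg.GU n F q => ((x : GL (Fin n) F) : Matrix (Fin n) (Fin n) F))
          (Subgroup.mem_center_iff.1 hz ⟨Matrix.SpecialLinearGroup.toGL (g : SpecialLinearGroup (Fin n) F), g.2⟩)
      have h := (Unitary.mem_GU_iff hF _).1 z.2 ⟨0, by omega⟩ ⟨0, by omega⟩
      rw [if_pos rfl] at h
      simp only [Cfsg.hermForm, ha, Matrix.smul_apply, Matrix.one_apply, smul_eq_mul] at h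
      rw [Finset.sum_eq_single (⟨0, by omega⟩ : Fin n) (fun i _ hi => by simp [hi, zero_pow (show q ≠ 0 by omega)]) (by simp)] at h
      simp only [if_pos, mul_one] at h
      have ha0 : a ≠ 0 := fun e => by rw [e, zero_mul] at h; exact zero_ne_one h
      refine ⟨⟨Units.mk0 a ha0, Units.ext ?_⟩, Subtype.ext (Units.ext ?_)⟩
      · show ((Units.mk0 a ha0) ^ (q + 1) : Fˣ).1 = 1
        rw [Units.val_pow_eq_pow_val, Units.val_mk0, pow_succ', h]
      · show ((Units.mk0 a ha0 : Fˣ) ^ n : Fˣ).1 = ((z : GL (Fin n) F) : Matrix (Fin n) (Fin n) F).det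
        rw [ha, Matrix.det_smul, Matrix.det_one, mul_one, Fintype.card_fin, Units.val_pow_eq_pow_val, Units.val_mk0]

end Cfsg.Agent.S0783
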