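import Cfsg.Statements.S0787
import Cfsg.Agent.Lib.Classical.OrthCommutator
import Cfsg.Agent.Lib.Classical.OrthClasses

set_option autoImplicit false
open Cfsg

open Cfsg.Agent.Classical

namespace Cfsg.Agent.S0787

/-- Existence and uniqueness of Ω: if F is finite, n ≥ 2, Q is a quadratic form on F^n with non-degenerate polar form and (|F|, n) ≠ (2, 4), then the group of isometries of determinant one has a unique subgroup of index 2. -/
theorem result {F : Type*} [Field F] [Fintype F] {n : ℕ} (hn : 2 ≤ n) (Q : QuadraticForm F (Fin n → F)) (hQ : (QuadraticMap.polarBilin Q).Nondegenerate) (h : Fintype.card F ≠ 2 ∨ n ≠ 4) : ∃! H : Subgroup ↥(Cfsg.specialIsometryGroup F ⇑Q), H.index = 2 := by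
  classical
  have hex : Fintype.card F ≠ 2 ∨ Fintype.card (Fin n) ≠ 4 := by simpa using h
  set SO := Cfsg.specialIsometryGroup F ⇑Q
  have hle : commutator (Cfsg.isometryGroup F ⇑Q) ≤ SO := Abelianization.commutator_subset_ker _
  have hindex : ((commutator (Cfsg.isometryGroup F ⇑Q)).subgroupOf SO).index = 2 := by
    show (commutator (Cfsg.isometryGroup F ⇑Q)).relIndex SO = 2
    have h1 := Subgroup.relIndex_mul_index hle
    by_cases h2 : (2 : F) = 0
    · haveI : CharP F 2 := CharTwo.of_one_ne_zero_of_two_eq_zero one_ne_zero h2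
      have hSO : SO = ⊤ := eq_top_iff.2 fun g _ => Refl.det_eq_one Q hQ g
      rw [show (commutator (Cfsg.isometryGroup F ⇑Q)).index = 2 from
        Refl.index_commutator_char_two Q hQ (by simpa using (by omega : 1 ≤ n)) hex] at h1
      rw [hSO, Subgroup.index_top, mul_one] at h1
      rw [hSO]; exact h1
    · obtain ⟨u, hu⟩ := Refl.represents Q hQ h2 (by simpa using hn) (one_ne_zero (α := F))
      have hu' : Q u ≠ 0 := by rw [hu]; exact one_ne_zero
      have hSO : SO.index = 2 := by
        rw [Subgroup.index_eq_two_iff]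
        refine ⟨Refl.refl Q u hu', fun b => ?_⟩
        have hb := mul_self_eq_one_iff.1 (Quad.det_sq_eq_one Q hQ (A := ((b : Matrix.GeneralLinearGroup (Fin n) F) : Matrix (Fin n) (Fin n) F)) fun x => b.2 x x)
        have hd : ∀ g : Cfsg.isometryGroup F ⇑Q, g ∈ SO ↔ ((g : Matrix.GeneralLinearGroup (Fin n) F) : Matrix (Fin n) (Fin n) F).det = 1 :=
          fun g => MonoidHom.mem_ker.trans ⟨congrArg Units.val, fun e => Units.ext e⟩
        have hne : (-1 : F) ≠ 1 := fun e => h2 (by linear_combination -e)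
        rw [hd, hd, Subgroup.coe_mul, Units.val_mul, Matrix.det_mul,
          show ((Refl.refl Q u hu' : Matrix.GeneralLinearGroup (Fin n) F) : Matrix (Fin n) (Fin n) F) = Cfsg.reflectionMatrix (⇑Q) u from rfl,
          Quad.reflection_det Q hu']
        rcases hb with hb | hb <;> simp [hb, hne]
      rw [show (commutator (Cfsg.isometryGroup F ⇑Q)).index = 4 from
        Refl.index_commutator Q hQ h2 (by simpa using hn), hSO] at h1
      omega
  refine ⟨_, hindex, fun H hH => ?_⟩
  have hsq : Refl.Sq Q ≤ H.map SO.subtype := by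
    rw [Refl.Sq, Subgroup.closure_le]
    rintro _ ⟨g, hg, rfl⟩
    exact ⟨(⟨g, hg⟩ : SO) * ⟨g, hg⟩, Subgroup.mul_self_mem_of_index_two hH ⟨g, hg⟩, rfl⟩
  have hsub : (commutator (Cfsg.isometryGroup F ⇑Q)).subgroupOf SO ≤ H := by
    intro x hx
    obtain ⟨y, hy, e⟩ := hsq (Refl.commutator_le_Sq Q hQ hex hx)
    rwa [← show y = x from Subtype.ext e]
  refine (Subgroup.eq_of_le_of_card_ge hsub ?_).symm
  have h1 := H.index_mul_card
  have h2 := ((commutator (Cfsg.isometryGroup F ⇑Q)).subgroupOf SO).index_mul_card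
  rw [hH] at h1
  rw [hindex] at h2
  exact Nat.le_of_mul_le_mul_left (h1.trans h2.symm).le two_pos

end Cfsg.Agent.S0787
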