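import Cfsg.Statements.S0792
import Cfsg.Agent.Lib.Classical.Reflections

set_option autoImplicit false
open Cfsg

open Cfsg.Agent.Classical

namespace Cfsg.Agent.S0792

open Refl

variable {F : Type*} [Field F] [Fintype F] {n : ℕ} (Q : QuadraticForm F (Fin n → F))

/-- Products of two reflections. -/
def H : Subgroup (O Q) := Subgroup.closure
  {g : O Q | ∃ u v : Fin n → F, Q u ≠ 0 ∧ Q v ≠ 0 ∧
    ((g : Matrix.GeneralLinearGroup (Fin n) F) : Matrix (Fin n) (Fin n) F) =
      Cfsg.reflectionMatrix ⇑Q u * Cfsg.reflectionMatrix ⇑Q v}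

theorem split {v₀ : Fin n → F} (h₀ : Q v₀ ≠ 0) (hinv : ∀ v hv, (refl Q v hv)⁻¹ = refl Q v hv) :
    ∀ g ∈ R Q, g ∈ H Q ∨ refl Q v₀ h₀ * g ∈ H Q := by
  have pair : ∀ u hu v hv, refl Q u hu * refl Q v hv ∈ H Q := fun u hu v hv =>
    Subgroup.subset_closure ⟨u, v, hu, hv, rfl⟩
  intro g hg
  induction hg using Subgroup.closure_induction_left with
  | one => exact Or.inl (one_mem _)
  | mul_left x hx y _ ih =>
    obtain ⟨u, hu, he⟩ := hx
    obtain rfl : x = refl Q u hu := Subtype.ext (Units.ext he)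
    rcases ih with h | h
    · exact Or.inr (by rw [← mul_assoc]; exact mul_mem (pair _ _ _ _) h)
    · refine Or.inl ?_
      have := mul_mem (pair u hu v₀ h₀) h
      rwa [mul_assoc, ← mul_assoc (refl Q v₀ h₀), show refl Q v₀ h₀ * refl Q v₀ h₀ = 1 by
        nth_rewrite 1 [← hinv v₀ h₀]; exact inv_mul_cancel _, one_mul] at this
  | inv_mul_cancel x hx y _ ih =>
    obtain ⟨u, hu, he⟩ := hx
    obtain rfl : x = refl Q u hu := Subtype.ext (Units.ext he)
    rw [hinv]
    rcases ih with h | h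
    · exact Or.inr (by rw [← mul_assoc]; exact mul_mem (pair _ _ _ _) h)
    · refine Or.inl ?_
      have := mul_mem (pair u hu v₀ h₀) h
      rwa [mul_assoc, ← mul_assoc (refl Q v₀ h₀), show refl Q v₀ h₀ * refl Q v₀ h₀ = 1 by
        nth_rewrite 1 [← hinv v₀ h₀]; exact inv_mul_cancel _, one_mul] at this

theorem det_of_mem_H : ∀ g ∈ H Q, ((g : Matrix.GeneralLinearGroup (Fin n) F) : Matrix (Fin n) (Fin n) F).det = 1 := by
  intro g hg
  induction hg using Subgroup.closure_induction with
  | mem x hx =>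
    obtain ⟨u, v, hu, hv, he⟩ := hx
    rw [he, Matrix.det_mul, Quad.reflection_det Q hu, Quad.reflection_det Q hv]; ring
  | one => exact Matrix.det_one
  | mul x y _ _ hx hy =>
    rw [Subgroup.coe_mul, Units.val_mul, Matrix.det_mul, hx, hy, one_mul]
  | inv x _ hx =>
    have h := congrArg Matrix.det (x : Matrix.GeneralLinearGroup (Fin n) F).inv_mul
    rw [Matrix.det_mul, hx, mul_one, Matrix.det_one] at h
    exact h

end Cfsg.Agent.S0792


namespace Cfsg.Agent.S0792

/-- For q odd and Q with non-degenerate polar form on F^n, the determinant-one isometries form the subgroup generated by all products r_u r_v of two reflections (Q(u), Q(v) ≠ 0). -/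
theorem result {F : Type*} [Field F] [Fintype F] (h2 : (2 : F) ≠ 0) {n : ℕ} (Q : QuadraticForm F (Fin n → F)) (hQ : (QuadraticMap.polarBilin Q).Nondegenerate) : Cfsg.specialIsometryGroup F ⇑Q = Subgroup.closure {g : ↥(Cfsg.isometryGroup F ⇑Q) | ∃ u v : Fin n → F, Q u ≠ 0 ∧ Q v ≠ 0 ∧ ((g : Matrix.GeneralLinearGroup (Fin n) F) : Matrix (Fin n) (Fin n) F) = Cfsg.reflectionMatrix ⇑Q u * Cfsg.reflectionMatrix ⇑Q v} := by
  classical
  refine le_antisymm (fun g hg => ?_) (fun g hg => ?_)
  swap
  · exact MonoidHom.mem_ker.2 (Units.ext (Cfsg.Agent.S0792.det_of_mem_H Q g hg))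
  have hq : Fintype.card F ≠ 2 := fun hc => h2 (by
    haveI : Fact (Nat.Prime 2) := ⟨Nat.prime_two⟩
    haveI := charP_of_card_eq_prime (R := F) hc
    exact CharP.cast_eq_zero F 2)
  by_cases hex : ∃ v, Q v ≠ 0
  · obtain ⟨v₀, h₀⟩ := hex
    have hinv : ∀ v hv, (Refl.refl Q v hv)⁻¹ = Refl.refl Q v hv := fun v hv => by
      refine inv_eq_of_mul_eq_one_right (Subtype.ext (Units.ext (Matrix.toLin'.injective (LinearMap.ext fun y => ?_))))
      rw [Matrix.toLin'_apply, Matrix.toLin'_apply]
      show Refl.act Q (Refl.refl Q v hv * Refl.refl Q v hv) y = Refl.act Q 1 y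
      rw [Refl.act_mul, Refl.act_refl, Refl.act_refl, QuadraticMap.polar_sub_right, QuadraticMap.polar_smul_right,
        QuadraticMap.polar_self, show Refl.act Q 1 y = y from Matrix.one_mulVec y, nsmul_eq_mul, smul_eq_mul,
        sub_sub, ← add_smul]
      have : (Q v)⁻¹ * QuadraticMap.polar Q v y + (Q v)⁻¹ * (QuadraticMap.polar Q v y -
          (Q v)⁻¹ * QuadraticMap.polar Q v y * (((2 : ℕ) : F) * Q v)) = 0 := by
        field_simp; push_cast; ring
      rw [this, zero_smul, sub_zero]
    rcases Cfsg.Agent.S0792.split Q h₀ hinv g (Refl.eq_top Q hQ (Or.inl hq) ▸ Subgroup.mem_top g) with h | h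
    · exact h
    · exfalso
      have hd := Cfsg.Agent.S0792.det_of_mem_H Q _ h
      have hg1 : ((g : Matrix.GeneralLinearGroup (Fin n) F) : Matrix (Fin n) (Fin n) F).det = 1 :=
        congrArg Units.val (MonoidHom.mem_ker.1 hg)
      rw [Subgroup.coe_mul, Units.val_mul, Matrix.det_mul, hg1, mul_one] at hd
      rw [show ((Refl.refl Q v₀ h₀ : Matrix.GeneralLinearGroup (Fin n) F) : Matrix (Fin n) (Fin n) F) =
        Cfsg.reflectionMatrix (⇑Q) v₀ from rfl, Quad.reflection_det Q h₀] at hd
      exact h2 (by linear_combination -hd)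
  · push Not at hex
    have hbot : g = 1 := Subtype.ext (Units.ext (by
      ext i j
      exfalso
      have h0 : (Pi.single i 1 : Fin n → F) = 0 := hQ.1 _ fun y => by
        show QuadraticMap.polar Q _ y = 0
        rw [QuadraticMap.polar, hex, hex, hex]; ring
      simpa using congrFun h0 i))
    rw [hbot]; exact one_mem _

end Cfsg.Agent.S0792
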