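import Cfsg.Statements.S0794
import Cfsg.Agent.Lib.Classical.OrthCommutator
import Cfsg.Agent.Lib.Classical.WittExt

set_option autoImplicit false
open Cfsg

open Cfsg.Agent.Classical
open Module QuadraticMap
open scoped commutatorElement

namespace Cfsg.Agent.S0794

/-- For q odd, n ≥ 5 and Q with non-degenerate polar form: an isometry whose matrix is a Siegel transformation T_(u,v)(c) (u, v singular and orthogonal) is a commutator in the isometry group, so lies in Ω. -/
theorem result {F : Type*} [Field F] [Fintype F] (h2 : (2 : F) ≠ 0) {n : ℕ} (hn : 5 ≤ n) (Q : QuadraticForm F (Fin n → F)) (hQ : (QuadraticMap.polarBilin Q).Nondegenerate) (u v : Fin n → F) (hu : Q u = 0) (hv : Q v = 0) (huv : QuadraticMap.polar ⇑Q u v = 0) (c : F) (g : ↥(Cfsg.isometryGroup F ⇑Q)) (hg : ((g : Matrix.GeneralLinearGroup (Fin n) F) : Matrix (Fin n) (Fin n) F) = Cfsg.siegelMatrix ⇑Q u v c) : g ∈ commutatorSet ↥(Cfsg.isometryGroup F ⇑Q) ∧ g ∈ Cfsg.Omega F ⇑Q := by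
  classical
  suffices hmem : g ∈ commutatorSet ↥(Cfsg.isometryGroup F ⇑Q) by
    exact ⟨hmem, by rw [Cfsg.Omega, commutator_eq_closure]; exact Subgroup.subset_closure hmem⟩
  have hact : ∀ x, Refl.act Q g x = x + (c * polar Q u x) • v - (c * polar Q v x) • u := fun x => by
    rw [← Quad.siegel_mulVec, ← hg]; rfl
  by_cases hdep : LinearIndependent F ![u, v]
  swap
  · refine ⟨1, 1, ?_⟩
    rw [commutatorElement_one_right]
    refine Refl.act_ext Q fun x => ?_
    rw [Refl.act_one, hact]
    rw [LinearIndependent.pair_iff, not_forall] at hdep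
    obtain ⟨s, hdep⟩ := hdep
    simp only [not_forall] at hdep
    obtain ⟨t, hst, hne⟩ := hdep
    by_cases ht : t = 0
    · have hs : s ≠ 0 := fun h => hne ⟨h, ht⟩
      rw [ht, zero_smul, add_zero, smul_eq_zero] at hst
      rw [hst.resolve_left hs]; simp
    · have hv' : v = (-(s / t)) • u := by
        have h' : t⁻¹ • (s • u + t • v) = 0 := by rw [hst, smul_zero]
        rw [smul_add, smul_smul, smul_smul, inv_mul_cancel₀ ht, one_smul] at h'
        rw [neg_smul, div_eq_inv_mul]; exact eq_neg_of_add_eq_zero_right h'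
      rw [hv', polar_smul_left, smul_eq_mul, smul_smul]
      module
  have huu : polar Q u u = 0 := by rw [WittExt.polar_self_eq, hu, mul_zero]
  have hvv : polar Q v v = 0 := by rw [WittExt.polar_self_eq, hv, mul_zero]
  have hvu : polar Q v u = 0 := by rw [polar_comm]; exact huv
  -- Siegel transformations as isometries
  let R : F → ((Fin n → F) →ₗ[F] (Fin n → F)) := fun d =>
    LinearMap.id + (d • polarBilin Q u).smulRight v - (d • polarBilin Q v).smulRight u
  have hR : ∀ d x, R d x = x + (d * polar Q u x) • v - (d * polar Q v x) • u := fun d x => by simp [R]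
  have hRadd : ∀ d e x, R d (R e x) = R (d + e) x := fun d e x => by
    simp only [hR, polar_add_right, polar_sub_right, polar_smul_right, huu, hvv, huv, hvu, smul_zero, add_zero, sub_zero]
    module
  have hR0 : ∀ x, R 0 x = x := fun x => by rw [hR]; simp
  let Re : F → ((Fin n → F) ≃ₗ[F] (Fin n → F)) := fun d =>
    { R d with
      invFun := R (-d)
      left_inv := fun x => by show R (-d) (R d x) = x; rw [hRadd, neg_add_cancel, hR0]
      right_inv := fun x => by show R d (R (-d) x) = x; rw [hRadd, add_neg_cancel, hR0] }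
  have hRiso : ∀ d x, Q (Re d x) = Q x := fun d x => by
    show Q (R d x) = Q x
    rw [hR, sub_eq_add_neg, ← neg_smul, QuadraticMap.map_add (⇑Q), QuadraticMap.map_add (⇑Q) x, QuadraticMap.map_smul,
      QuadraticMap.map_smul, polar_add_left, polar_smul_right, polar_smul_right, polar_smul_left, polar_smul_right, hu, hv, hvu,
      polar_comm (⇑Q) x v, polar_comm (⇑Q) x u]
    simp only [smul_eq_mul]; ring
  -- an isometry scaling `u` by two and fixing `v`
  let j : ((Fin 2 → F)) →ₗ[F] (Fin n → F) := Fintype.linearCombination F ![u, v]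
  have hj : ∀ a, j a = a 0 • u + a 1 • v := fun a => by simp [j, Fintype.linearCombination_apply, Fin.sum_univ_two]
  have hjinj : Function.Injective j := by
    rw [← LinearMap.ker_eq_bot, LinearMap.ker_eq_bot']
    intro a ha
    rw [hj] at ha
    obtain ⟨h1, h3⟩ := LinearIndependent.pair_iff.1 hdep _ _ ha
    funext i; fin_cases i
    · exact h1
    · exact h3
  let j' : ((Fin 2 → F)) →ₗ[F] (Fin n → F) := Fintype.linearCombination F ![(2 : F) • u, v]
  have hj' : ∀ a, j' a = (a 0 * 2) • u + a 1 • v := fun a => by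
    simp [j', Fintype.linearCombination_apply, Fin.sum_univ_two, smul_smul]
  have hq : ∀ a b : F, Q (a • u + b • v) = 0 := fun a b => by
    rw [QuadraticMap.map_add (⇑Q), QuadraticMap.map_smul, QuadraticMap.map_smul, polar_smul_left, polar_smul_right, hu, hv, huv]
    simp
  have hj'inj : Function.Injective j' := by
    rw [← LinearMap.ker_eq_bot, LinearMap.ker_eq_bot']
    intro a ha
    rw [hj'] at ha
    obtain ⟨h1, h3⟩ := LinearIndependent.pair_iff.1 hdep _ _ ha
    funext i; fin_cases i
    · exact (mul_eq_zero.1 h1).resolve_right h2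
    · exact h3
  let eX := LinearEquiv.ofInjective j hjinj
  obtain ⟨h, hh, hhx⟩ := WittExt.extend Q hQ _ (LinearMap.range j) (j'.comp eX.symm.toLinearMap) rfl
    (hj'inj.comp eX.symm.injective) (fun x => by
      obtain ⟨a, rfl⟩ := eX.surjective x
      show Q (j' (eX.symm (eX a))) = Q (j a)
      rw [eX.symm_apply_apply, hj', hj, hq, hq])
  have hhj : ∀ a, h (j a) = j' a := fun a => by
    have := hhx (eX a)
    rw [LinearMap.comp_apply, LinearEquiv.coe_coe, eX.symm_apply_apply] at this
    exact this
  have hhu : h u = (2 : F) • u := by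
    have := hhj ![1, 0]
    rw [hj, hj'] at this
    simpa using this
  have hhv : h v = v := by
    have := hhj ![0, 1]
    rw [hj, hj'] at this
    simpa using this
  have hpol := WittExt.polar_map Q (fun x y => map_add h x y) hh
  set H := Refl.ofLin Q h hh
  set K := Refl.ofLin Q (Re c) (hRiso c)
  set K2 := Refl.ofLin Q (Re (2 * c)) (hRiso (2 * c))
  have e1 : H * K = K2 * H := Refl.act_ext Q fun x => by
    rw [Refl.act_mul, Refl.act_mul, Refl.act_ofLin, Refl.act_ofLin, Refl.act_ofLin, Refl.act_ofLin]
    show h (R c x) = R (2 * c) (h x)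
    rw [hR, hR, map_sub, map_add, map_smul, map_smul, hhu, hhv, smul_smul]
    have a1 : 2 * polar Q u (h x) = polar Q u x := by
      rw [← hpol u x, hhu, polar_smul_left, smul_eq_mul]
    have a2 : polar Q v (h x) = polar Q v x := by
      conv_lhs => rw [← hhv]
      exact hpol v x
    rw [a2, show 2 * c * polar Q u (h x) = c * polar Q u x by rw [← a1]; ring]
    module
  have e2 : K2 = g * K := Refl.act_ext Q fun x => by
    rw [Refl.act_mul, Refl.act_ofLin, Refl.act_ofLin, hact, ← hR]
    show R (2 * c) x = R c (R c x)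
    rw [hRadd, two_mul]
  refine ⟨H, K, ?_⟩
  rw [commutatorElement_def, e1, e2]; group

end Cfsg.Agent.S0794
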