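import Cfsg.Statements.S0795
import Cfsg.Agent.Lib.Classical.SiegelFive
import Cfsg.Agent.Lib.Classical.OrthSimple

set_option autoImplicit false
open Cfsg

open Cfsg.Agent.Classical
open QuadraticMap Matrix
open Cfsg.Agent.Classical.Refl Cfsg.Agent.Classical.Siegel

namespace Cfsg.Agent.S0795

/-- Generation of Ω by root elements: for q odd, n ≥ 5 and Q with non-degenerate polar form on F^n, the commutator subgroup of the isometry group equals the subgroup generated by the isometries whose matrices are Siegel transformations T_(u,v)(c) with u, v singular and orthogonal. -/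
theorem result {F : Type*} [Field F] [Fintype F] (h2 : (2 : F) ≠ 0) {n : ℕ} (hn : 5 ≤ n) (Q : QuadraticForm F (Fin n → F)) (hQ : (QuadraticMap.polarBilin Q).Nondegenerate) : Cfsg.Omega F ⇑Q = Subgroup.closure {g : ↥(Cfsg.isometryGroup F ⇑Q) | ∃ (u v : Fin n → F) (c : F), Q u = 0 ∧ Q v = 0 ∧ QuadraticMap.polar ⇑Q u v = 0 ∧ ((g : Matrix.GeneralLinearGroup (Fin n) F) : Matrix (Fin n) (Fin n) F) = Cfsg.siegelMatrix ⇑Q u v c} := by
  classical
  have hn5 : 5 ≤ Fintype.card (Fin n) := by simpa using hn
  have hpv : ∀ u z : Fin n → F, polarVec (⇑Q) u ⬝ᵥ z = polar Q z u := fun u z => by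
    conv_rhs => rw [pi_eq_sum_univ' z]
    show _ = polarBilin Q (∑ i, z i • _) u
    rw [map_sum, LinearMap.sum_apply]
    refine Finset.sum_congr rfl fun i _ => ?_
    rw [map_smul, LinearMap.smul_apply, smul_eq_mul, mul_comm, polarBilin_apply_apply, polar_comm]
    rfl
  have hmat : ∀ (u v : Fin n → F) (c : F) (z : Fin n → F),
      Cfsg.siegelMatrix (⇑Q) u v c *ᵥ z = z + c • (polar Q z u • v - polar Q z v • u) := fun u v c z => by
    simp only [Cfsg.siegelMatrix, Matrix.add_mulVec, Matrix.one_mulVec, Matrix.smul_mulVec, Matrix.sub_mulVec,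
      Matrix.vecMulVec_mulVec, op_smul_eq_smul, hpv]
  show commutator (O Q) = _
  refine le_antisymm ((commutator_le5 Q hQ hn5).trans ?_) ?_
  · rw [E, Subgroup.closure_le]
    rintro _ ⟨a, b, ha, hab, rfl⟩
    set S := Subgroup.closure {g : ↥(Cfsg.isometryGroup F ⇑Q) | ∃ (u v : Fin n → F) (c : F), Q u = 0 ∧ Q v = 0 ∧
      QuadraticMap.polar ⇑Q u v = 0 ∧ ((g : Matrix.GeneralLinearGroup (Fin n) F) : Matrix (Fin n) (Fin n) F) =
        Cfsg.siegelMatrix ⇑Q u v c}
    show sO Q a b ha hab ∈ S
    have sing : ∀ d (hd : Q d = 0) (had : polar Q a d = 0), sO Q a d ha had ∈ S := fun d hd had =>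
      Subgroup.subset_closure ⟨a, d, 1, ha, hd, had, Matrix.toLin'.injective (LinearMap.ext fun z => by
        rw [Matrix.toLin'_apply, Matrix.toLin'_apply, hmat, one_smul]
        show act Q (sO Q a d ha had) z = _
        rw [act_sO, hd]; module)⟩
    rcases eq_or_ne a 0 with rfl | ha0
    · rw [show sO Q 0 b ha hab = 1 from O_ext Q fun x => by
        rw [act_sO, polar_zero_right, zero_smul, smul_zero, add_zero, sub_zero]; exact (Matrix.one_mulVec x).symm]
      exact one_mem _
    obtain ⟨c, hc, hca⟩ := exists_partner Q hQ ha0 ha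
    obtain ⟨s, hs0, hs, hL⟩ := exists_zero_lin Q ![(polarBilin Q).flip a, (polarBilin Q).flip c] (by omega)
    have hsa : polar Q s a = 0 := hL 0
    have hsc : polar Q s c = 0 := hL 1
    obtain ⟨s₀, hs₀, hs₀s⟩ := exists_partner Q hQ hs0 hs
    have haa : polar Q a a = 0 := by rw [Siegel.polar_diag, ha, mul_zero]
    set s' := s₀ + (-polar Q s₀ a) • c with hs'
    have h's : polar Q s' s = 1 := by
      rw [hs', polar_add_left, polar_smul_left, hs₀s, polar_comm (⇑Q) c s, hsc, smul_zero, add_zero]
    have h'a : polar Q s' a = 0 := by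
      rw [hs', polar_add_left, polar_smul_left, hca]; simp
    set u := s' + (-Q s') • s with hu
    have huQ : Q u = 0 := by rw [hu, Q_add, Q_smul, hs, polar_smul_right, smul_eq_mul, h's]; ring
    have hua : polar Q u a = 0 := by rw [hu, polar_add_left, polar_smul_left, h'a, hsa]; simp
    have hus : polar Q u s = 1 := by
      rw [hu, polar_add_left, polar_smul_left, Siegel.polar_diag, hs, h's]; simp
    have good : ∀ x (hx : polar Q a x = 0), polar Q x u ≠ 0 → sO Q a x ha hx ∈ S := by
      intro x hx hxu
      set r := -Q x / polar Q x u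
      have h1 : Q (x + r • u) = 0 := by
        rw [Q_add, Q_smul, huQ, polar_smul_right, smul_eq_mul]
        show Q x + _ * 0 + (-Q x / polar Q x u) * polar Q x u = 0
        field_simp; ring
      have hru : polar Q a ((-r) • u) = 0 := by rw [polar_smul_right, polar_comm, hua, smul_zero]
      have hx' : polar Q a (x + r • u) = 0 := by
        rw [polar_add_right, hx, polar_smul_right, polar_comm, hua, smul_zero, add_zero]
      have hsum : polar Q a (x + r • u + (-r) • u) = 0 := by rw [polar_add_right, hx', hru, add_zero]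
      have he := sO_add Q ha hx' hru hsum
      simp only [neg_smul, add_neg_cancel_right] at he
      rw [he]
      refine mul_mem (sing _ h1 _) (sing _ ?_ _)
      rw [QuadraticMap.map_neg, Q_smul, huQ, mul_zero]
    by_cases hbu : polar Q b u = 0
    · have h1 : polar Q a (b + s) = 0 := by rw [polar_add_right, hab, polar_comm, hsa, add_zero]
      have h2' : polar Q a (-s) = 0 := by rw [polar_neg_right, polar_comm, hsa, neg_zero]
      have hsum : polar Q a (b + s + -s) = 0 := by rw [polar_add_right, h1, h2', add_zero]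
      have he := sO_add Q ha h1 h2' hsum
      simp only [add_neg_cancel_right] at he
      rw [he]
      refine mul_mem (good _ h1 ?_) (sing _ (by rw [QuadraticMap.map_neg, hs]) _)
      rw [polar_add_left, hbu, polar_comm (⇑Q) s u, hus, zero_add]; exact one_ne_zero
    · exact good b hab hbu
  · rw [Subgroup.closure_le]
    rintro g ⟨u, v, c, hu, hv, huv, hg⟩
    have h : polar Q u (c • v) = 0 := by rw [polar_smul_right, huv, smul_zero]
    have he : g = sO Q u (c • v) hu h := O_ext Q fun z => by
      show ((g : Matrix.GeneralLinearGroup (Fin n) F) : Matrix (Fin n) (Fin n) F) *ᵥ z = _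
      rw [hg, hmat, act_sO, polar_smul_right, Q_smul, hv, smul_eq_mul]
      module
    show g ∈ commutator (O Q)
    rw [he]
    exact sO_mem_commutator5 Q hQ hn5 _ _ _ _

end Cfsg.Agent.S0795
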