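import Cfsg.Statements.S0796
import Cfsg.Agent.Lib.Classical.Quad

set_option autoImplicit false
open Cfsg

open Cfsg.Agent.Classical

namespace Cfsg.Agent.S0796

/-- If G is finite and acts faithfully and primitively on X, H is the stabiliser of a point, A is a normal subgroup of H whose normal closure in G is G, then for every non-trivial normal subgroup K of G the quotient G ⧸ K is isomorphic to A ⧸ B for some normal subgroup B of A. -/
theorem result {G X : Type*} [Group G] [Finite G] [MulAction G X] [FaithfulSMul G X] (hprim : MulAction.IsPreprimitive G X) (x : X) (A : Subgroup G) (hA : A ≤ MulAction.stabilizer G x) (hAn : (A.subgroupOf (MulAction.stabilizer G x)).Normal) (hgen : Subgroup.normalClosure (A : Set G) = ⊤) (K : Subgroup G) [K.Normal] (hK : K ≠ ⊥) : ∃ (B : Subgroup A) (_ : B.Normal), Nonempty (G ⧸ K ≃* A ⧸ B) := by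
  classical
  haveI := hprim
  have htrans : MulAction.IsPretransitive ↥K X := by
    refine MulAction.IsQuasiPreprimitive.isPretransitive_of_normal (G := G) ?_
    intro h
    apply hK
    rw [eq_bot_iff]
    intro k hk
    rw [Subgroup.mem_bot]
    refine FaithfulSMul.eq_of_smul_eq_smul (α := X) fun y => ?_
    rw [one_smul]
    have hy : y ∈ MulAction.fixedPoints K X := h ▸ Set.mem_univ y
    exact hy ⟨k, hk⟩
  have hKA : K ⊔ A = ⊤ := by
    rw [eq_top_iff, ← hgen, Subgroup.normalClosure, Subgroup.closure_le]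
    intro y hy
    obtain ⟨a, ha, hay⟩ := Group.mem_conjugatesOfSet_iff.1 hy
    obtain ⟨c, rfl⟩ := isConj_iff.1 hay
    obtain ⟨k, hk⟩ := MulAction.exists_smul_eq ↥K x (c • x)
    have hs : (k : G)⁻¹ * c ∈ MulAction.stabilizer G x := by
      rw [MulAction.mem_stabilizer_iff, mul_smul, inv_smul_eq_iff]
      exact hk.symm
    have hc : (k : G)⁻¹ * c * a * ((k : G)⁻¹ * c)⁻¹ ∈ A :=
      hAn.conj_mem ⟨a, hA ha⟩ ha ⟨_, hs⟩
    have hk' : (k : G) ∈ K ⊔ A := Subgroup.mem_sup_left k.2
    show c * a * c⁻¹ ∈ K ⊔ A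
    have e : c * a * c⁻¹ = (k : G) * ((k : G)⁻¹ * c * a * ((k : G)⁻¹ * c)⁻¹) * (k : G)⁻¹ := by group
    rw [e]
    exact mul_mem (mul_mem hk' (Subgroup.mem_sup_right hc)) (inv_mem hk')
  let f : A →* G ⧸ K := (QuotientGroup.mk' K).comp A.subtype
  have hf : Function.Surjective f := by
    intro y
    obtain ⟨g, rfl⟩ := QuotientGroup.mk'_surjective K y
    have hg : g ∈ A ⊔ K := by rw [sup_comm, hKA]; trivial
    obtain ⟨a, ha, k, hk, rfl⟩ := Subgroup.mem_sup_of_normal_right.1 hg
    exact ⟨⟨a, ha⟩, by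
      show QuotientGroup.mk' K a = QuotientGroup.mk' K (a * k)
      rw [map_mul, show QuotientGroup.mk' K k = 1 from (QuotientGroup.eq_one_iff k).2 hk, mul_one]⟩
  exact ⟨f.ker, inferInstance, ⟨(QuotientGroup.quotientKerEquivOfSurjective f hf).symm⟩⟩

end Cfsg.Agent.S0796
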