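import Cfsg.Statements.S0797
import Cfsg.Agent.Lib.Classical.OrthClasses

set_option autoImplicit false
open Cfsg

open Cfsg.Agent.Classical

namespace Cfsg.Agent.S0797

abbrev K := ℤˣ × ℤˣ

theorem card_ne_one : Nat.card {x : K // x ≠ 1} = 3 := by
  rw [Nat.card_eq_fintype_card]; decide

theorem orderOf_eq {x : K} (hx : x ≠ 1) : orderOf x = 2 :=
  orderOf_eq_prime (by
    have : ∀ y : K, y ^ 2 = 1 := by decide
    exact this x) hx

theorem card_index_two : Nat.card {H : Subgroup K // H.index = 2} = 3 := by
  rw [← card_ne_one]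
  have hcard : Nat.card K = 4 := by rw [Nat.card_eq_fintype_card]; decide
  symm
  refine Nat.card_congr (Equiv.ofBijective (fun x => (⟨Subgroup.zpowers x.1, ?_⟩ : {H : Subgroup K // H.index = 2})) ⟨?_, ?_⟩)
  · have h := (Subgroup.zpowers x.1).index_mul_card
    rw [Nat.card_zpowers, orderOf_eq x.2, hcard] at h
    omega
  · intro x y e
    have h : (y.1 : K) ∈ Subgroup.zpowers x.1 := by
      rw [show Subgroup.zpowers x.1 = Subgroup.zpowers y.1 from congrArg Subtype.val e]; exact Subgroup.mem_zpowers _
    obtain ⟨k, hk⟩ := (mem_zpowers_iff_mem_range_orderOf.1 h : y.1 ∈ _) |> Finset.mem_image.1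
    rw [orderOf_eq x.2, Finset.mem_range] at hk
    rcases hk with ⟨hk1, hk2⟩
    interval_cases k
    · exact absurd (by simpa using hk2.symm) y.2
    · exact Subtype.ext (by simpa using hk2)
  · rintro ⟨H, hH⟩
    have h := H.index_mul_card
    rw [hH, hcard] at h
    haveI : Nontrivial H := Finite.one_lt_card_iff_nontrivial.1 (by omega)
    obtain ⟨⟨x, hx⟩, hx1⟩ := exists_ne (1 : H)
    have hx0 : x ≠ 1 := fun e => hx1 (Subtype.ext e)
    refine ⟨⟨x, hx0⟩, Subtype.ext (Subgroup.eq_of_le_of_card_ge ((Subgroup.zpowers_le).2 hx) ?_)⟩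
    rw [Nat.card_zpowers, orderOf_eq hx0]
    show Nat.card H ≤ 2
    omega

/-- Subgroups of index two correspond through a map with commutator kernel onto the four group. -/
theorem card_of_hom {G : Type*} [Group G] (f : G →* K) (hf : Function.Surjective f)
    (hker : f.ker = commutator G) : Nat.card {H : Subgroup G // H.index = 2} = 3 := by
  rw [← card_index_two]
  symm
  refine Nat.card_congr (Equiv.ofBijective (fun H => (⟨H.1.comap f, ?_⟩ : {H : Subgroup G // H.index = 2})) ⟨?_, ?_⟩)
  · rw [Subgroup.index_comap_of_surjective _ hf]; exact H.2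
  · intro A B e
    exact Subtype.ext (Subgroup.comap_injective hf (congrArg Subtype.val e))
  · rintro ⟨H, hH⟩
    haveI := Subgroup.normal_of_index_eq_two hH
    have hle : commutator G ≤ H := by
      rw [commutator_def, Subgroup.commutator_le]
      intro x _ y _
      rw [commutatorElement_def]
      simp [Subgroup.mul_mem_iff_of_index_two hH]
      tauto
    have hc : (H.map f).comap f = H := Subgroup.comap_map_eq_self (hker ▸ hle)
    refine ⟨⟨H.map f, ?_⟩, Subtype.ext hc⟩
    rw [← Subgroup.index_comap_of_surjective (H.map f) hf, hc, hH]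

end Cfsg.Agent.S0797


namespace Cfsg.Agent.S0797

/-- O^ε_2m(q) ≅ Ω.2² for q odd: if F is finite of odd characteristic, n ≥ 2 is even and Q has non-degenerate polar form on F^n, the isometry group of Q has exactly three subgroups of index 2. -/
theorem result {F : Type*} [Field F] [Fintype F] (h2 : (2 : F) ≠ 0) {n : ℕ} (hn : 2 ≤ n) (heven : Even n) (Q : QuadraticForm F (Fin n → F)) (hQ : (QuadraticMap.polarBilin Q).Nondegenerate) : Nat.card {H : Subgroup ↥(Cfsg.isometryGroup F ⇑Q) // H.index = 2} = 3 := by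
  obtain ⟨u, w, hu, hw, huw⟩ := Refl.exists_classes Q hQ h2 (by simpa using hn)
  exact Cfsg.Agent.S0797.card_of_hom _ (Refl.psi_surjective Q hQ h2 hu hw huw) (Refl.ker_psi Q hQ h2 hu hw huw)

end Cfsg.Agent.S0797
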