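import Cfsg.Statements.S0798
import Cfsg.Agent.Lib.Classical.OrthClasses
import Cfsg.Agent.Lib.Classical.WittExt

set_option autoImplicit false
open Cfsg

open Cfsg.Agent.Classical
open Module QuadraticMap

namespace Cfsg.Agent.S0798

open Refl

variable {F : Type*} [Field F] [Fintype F] {n : ℕ} (Q : QuadraticForm F (Fin n → F))

/-- Reflections in one class. -/
def Rc (c : F) : Subgroup (O Q) := Subgroup.closure {g : O Q | ∃ (v : Fin n → F) (t : F), t ≠ 0 ∧ Q v = c * t ^ 2 ∧
  ((g : Matrix.GeneralLinearGroup (Fin n) F) : Matrix (Fin n) (Fin n) F) = Cfsg.reflectionMatrix ⇑Q v}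

variable {c : F} (hc : c ≠ 0)

include hc

theorem conj_mem {x : O Q} (hx : x ∈ Rc Q c) (g : O Q) : g * x * g⁻¹ ∈ Rc Q c := by
  induction hx using Subgroup.closure_induction with
  | mem x hx =>
    obtain ⟨v, t, ht, hv, he⟩ := hx
    have hv0 : Q v ≠ 0 := by rw [hv]; exact mul_ne_zero hc (pow_ne_zero _ ht)
    obtain rfl : x = Refl.refl Q v hv0 := Subtype.ext (Units.ext he)
    rw [refl_conj]
    exact Subgroup.subset_closure ⟨act Q g v, t, ht, by rw [Q_act, hv], rfl⟩
  | one => rw [mul_one, mul_inv_cancel]; exact one_mem _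
  | mul x y _ _ hx hy =>
    rw [show g * (x * y) * g⁻¹ = (g * x * g⁻¹) * (g * y * g⁻¹) by group]; exact mul_mem hx hy
  | inv x _ hx =>
    rw [show g * x⁻¹ * g⁻¹ = (g * x * g⁻¹)⁻¹ by group]; exact inv_mem hx

omit hc in
theorem refl_mem_Rc {v : Fin n → F} (hv : Q v ≠ 0) (h : Cls (Q v) c) : Refl.refl Q v hv ∈ Rc Q c := by
  obtain ⟨a, ha⟩ := h
  exact Subgroup.subset_closure ⟨v, a, fun e => hv (by rw [← ha, e]; ring), by rw [← ha]; ring, rfl⟩

variable (hQ : (polarBilin Q).Nondegenerate) (h2 : (2 : F) ≠ 0)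

omit hc

include hQ

theorem sq_of_hyperplane (g : O Q) (hg : finrank F (Fix Q g) + 1 = n) : g * g = 1 := by
  obtain ⟨x, hx⟩ : ∃ x, x ∉ Fix Q g := by
    by_contra h
    push Not at h
    rw [show Fix Q g = ⊤ from eq_top_iff.2 fun x _ => h x, finrank_top, finrank_pi, Fintype.card_fin] at hg
    omega
  have hspan : Fix Q g ⊔ Submodule.span F {x} = ⊤ := by
    refine Submodule.eq_top_of_finrank_eq (le_antisymm (Submodule.finrank_le _) ?_)
    have := Submodule.finrank_lt_finrank_of_lt (lt_of_le_of_ne (le_sup_left (b := Submodule.span F {x})) fun e =>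
      hx (e ▸ Submodule.mem_sup_right (Submodule.mem_span_singleton_self x)) : Fix Q g < _)
    rw [finrank_pi, Fintype.card_fin]
    omega
  set d := act Q g x - x with hd
  have hdfix : ∀ k ∈ Fix Q g, polar Q d k = 0 := fun k hk => by
    rw [mem_Fix] at hk
    rw [hd, polar_sub_left]
    conv_lhs => arg 1; rw [← hk, polar_act]
    rw [sub_self]
  by_cases hQd : Q d = 0
  · exfalso
    apply hx
    rw [mem_Fix, ← sub_eq_zero, ← hd]
    refine hQ.1 d fun y => ?_
    show polar Q d y = 0
    obtain ⟨k, hk, u, hu, rfl⟩ := Submodule.mem_sup.1 (hspan ▸ Submodule.mem_top : y ∈ Fix Q g ⊔ Submodule.span F {x})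
    obtain ⟨s, rfl⟩ := Submodule.mem_span_singleton.1 hu
    have h1 : Q (d + x) = Q x := by rw [hd, sub_add_cancel, Q_act]
    rw [QuadraticMap.map_add (⇑Q), hQd, zero_add] at h1
    have h2' : polar Q d x = 0 := by linear_combination h1
    rw [polar_add_right, polar_smul_right, hdfix k hk, h2']; simp
  · have he : Refl.refl Q d hQd * g = 1 := by
      refine act_ext Q fun y => ?_
      rw [act_one, act_mul]
      obtain ⟨k, hk, u, hu, rfl⟩ := Submodule.mem_sup.1 (hspan ▸ Submodule.mem_top : y ∈ Fix Q g ⊔ Submodule.span F {x})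
      obtain ⟨s, rfl⟩ := Submodule.mem_span_singleton.1 hu
      have h0 : act Q (Refl.refl Q d hQd) (act Q g x) = x := act_refl_back Q (Q_act Q g x) hQd
      have hs : act Q g (s • x) = s • act Q g x := Matrix.mulVec_smul _ _ _
      have hs' : act Q (Refl.refl Q d hQd) (s • act Q g x) = s • act Q (Refl.refl Q d hQd) (act Q g x) :=
        Matrix.mulVec_smul _ _ _
      rw [act_add, act_add, hs, hs', h0, (mem_Fix Q g k).1 hk, act_refl, hdfix k hk, mul_zero, zero_smul, sub_zero]
    have e : g = Refl.refl Q d hQd := by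
      rw [← one_mul g, ← refl_mul_self Q d hQd, mul_assoc, he, mul_one]
    rw [e, refl_mul_self]

include h2 hc

theorem pair_nondeg {w w' : Fin n → F} {b : F} (hb : b ≠ 0) (hw : Q w = b) (hw' : Q w' = b)
    (hB : polar Q w w' ^ 2 ≠ (2 * b) ^ 2) :
    Refl.refl Q w (by rw [hw]; exact hb) * Refl.refl Q w' (by rw [hw']; exact hb) ∈ Rc Q c := by
  have hex : Fintype.card F ≠ 2 ∨ Fintype.card (Fin n) ≠ 4 := hex' Q hQ h2
  set B := polar Q w w' with hBdef
  set s := w' + (-(B / (2 * b))) • w with hs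
  have h2b : (2 : F) * b ≠ 0 := mul_ne_zero h2 hb
  have hws : polar Q w s = 0 := by
    rw [hs, polar_add_right, polar_smul_right, WittExt.polar_self_eq, hw, ← hBdef, smul_eq_mul]
    field_simp; ring
  have hQs : Q s = b - B ^ 2 / (4 * b) := by
    rw [hs, WittExt.quad_expand, polar_comm, ← hBdef, hw, hw']
    have h4 : (4 : F) = 2 * 2 := by norm_num
    rw [h4]; field_simp; ring
  have hs0 : Q s ≠ 0 := fun e => hB (by
    rw [hQs] at e
    have h4 : (4 : F) = 2 * 2 := by norm_num
    rw [h4] at e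
    field_simp at e
    linear_combination -e)
  obtain ⟨x, y, hxy⟩ := OrthBasis.exists_diag_one h2 (div_ne_zero hb hc) (div_ne_zero hs0 hc)
  set a := x • w + y • s with ha
  have hQa : Q a = c := by
    rw [ha, QuadraticMap.map_add (⇑Q), QuadraticMap.map_smul, QuadraticMap.map_smul, polar_smul_left, polar_smul_right, hws, hw]
    simp only [smul_eq_mul, mul_zero, add_zero]
    field_simp at hxy
    linear_combination hxy
  have hd0 : Q (w' - w) ≠ 0 := by
    rw [sub_eq_add_neg, QuadraticMap.map_add (⇑Q), QuadraticMap.map_neg, polar_neg_right, polar_comm, ← hBdef, hw, hw']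
    intro e
    exact hB (by linear_combination (-2 * b - B) * e)
  have hw0 : Q w ≠ 0 := by rw [hw]; exact hb
  have hw0' : Q w' ≠ 0 := by rw [hw']; exact hb
  have ha0 : Q a ≠ 0 := by rw [hQa]; exact hc
  set rd := Refl.refl Q (w' - w) hd0 with hrd
  set rw' := Refl.refl Q w hw0 with hrw
  set ra := Refl.refl Q a ha0 with hra
  set h := rd * rw' with hh
  -- three reflections in one plane
  have hsign : dsign Q (ra * h) = -1 := by
    rw [hh, hra, hrd, hrw, dsign_refl_mul Q hQ, dsign_refl_mul Q hQ, ← mul_one (Refl.refl Q w hw0),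
      dsign_refl_mul Q hQ, dsign_one]
    simp
  have hfix : LinearMap.ker (polarBilin Q w) ⊓ LinearMap.ker (polarBilin Q s) ≤ Fix Q (ra * h) := by
    intro z hz
    obtain ⟨hz1, hz2⟩ := Submodule.mem_inf.1 hz
    have e1 : polar Q w z = 0 := hz1
    have e2 : polar Q s z = 0 := hz2
    have e3 : polar Q (w' - w) z = 0 := by
      have : w' = s + (B / (2 * b)) • w := by rw [hs]; module
      rw [this, polar_sub_left, polar_add_left, polar_smul_left, e1, e2]; simp
    have e4 : polar Q a z = 0 := by rw [ha, polar_add_left, polar_smul_left, polar_smul_left, e1, e2]; simp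
    have h1 : act Q rw' z = z := by rw [hrw, act_refl, e1]; simp
    have h3 : act Q rd z = z := by rw [hrd, act_refl, e3]; simp
    have h4 : act Q ra z = z := by rw [hra, act_refl, e4]; simp
    rw [mem_Fix, hh, act_mul, act_mul, h1, h3, h4]
  have hdim : n ≤ finrank F (Fix Q (ra * h)) + 2 := by
    have h1 := Submodule.finrank_sup_add_finrank_inf_eq (LinearMap.ker (polarBilin Q w)) (LinearMap.ker (polarBilin Q s))
    have h3 := Submodule.finrank_le (LinearMap.ker (polarBilin Q w) ⊔ LinearMap.ker (polarBilin Q s))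
    have h4 := Submodule.finrank_mono hfix
    have h5 := le_finrank_ker (polarBilin Q w)
    have h6 := le_finrank_ker (polarBilin Q s)
    rw [finrank_pi, Fintype.card_fin] at h3
    rw [Fintype.card_fin] at h5 h6
    omega
  have hhyp : finrank F (Fix Q (ra * h)) + 1 = n := by
    have hle := Submodule.finrank_le (Fix Q (ra * h))
    rw [finrank_pi, Fintype.card_fin] at hle
    rw [dsign, Fintype.card_fin] at hsign
    rcases Nat.even_or_odd (n + finrank F (Fix Q (ra * h))) with he | ho
    · rw [he.neg_one_pow] at hsign; exact absurd hsign (by decide)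
    · obtain ⟨k, hk⟩ := ho
      omega
  have hinv := sq_of_hyperplane Q hQ _ hhyp
  have hraM : ra ∈ Rc Q c := refl_mem_Rc Q ha0 (hQa ▸ Cls.refl c)
  have h1 : ra * h * ra = h⁻¹ := by
    rw [eq_inv_iff_mul_eq_one, mul_assoc (ra * h) ra h]; exact hinv
  have h2' : rw' * h * rw' = h⁻¹ := by
    rw [hh, _root_.mul_inv_rev, hrw, hrd, refl_inv, refl_inv]
    simp only [mul_assoc, refl_mul_self, mul_one]
  have hkey : h⁻¹ * h⁻¹ ∈ Rc Q c := by
    have := mul_mem hraM (conj_mem Q hc hraM h)
    rwa [show ra * (h * ra * h⁻¹) = ra * h * ra * h⁻¹ by group, h1] at this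
  have hw'eq : Refl.refl Q w' hw0' = h * rw' * h⁻¹ := by
    rw [hh, show rd * rw' * rw' * (rd * rw')⁻¹ = rd * rw' * rd⁻¹ by group, hrd, hrw, refl_conj]
    refine act_ext Q fun z => ?_
    rw [act_refl, act_refl, Q_act, show act Q (Refl.refl Q (w' - w) hd0) w = w' from ?_, hw, hw']
    have h3 := refl_refl Q (w' - w) hd0 w'
    rwa [act_refl_back Q (hw'.trans hw.symm) hd0] at h3
  show rw' * Refl.refl Q w' hw0' ∈ Rc Q c
  rw [hw'eq, show rw' * (h * rw' * h⁻¹) = rw' * h * rw' * h⁻¹ by group, h2']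
  exact hkey

theorem pair_mem (hn : 2 ≤ n) (heven : Even n) (h43 : ¬ (n = 4 ∧ Fintype.card F = 3))
    {w w' : Fin n → F} {b : F} (hb : b ≠ 0) (hw : Q w = b) (hw' : Q w' = b) :
    Refl.refl Q w (by rw [hw]; exact hb) * Refl.refl Q w' (by rw [hw']; exact hb) ∈ Rc Q c := by
  classical
  by_cases hB : polar Q w w' ^ 2 ≠ (2 * b) ^ 2
  · exact pair_nondeg Q hc hQ h2 hb hw hw' hB
  push Not at hB
  -- normalise the sign
  obtain ⟨v, hv, hvQ, hvB, hvr⟩ : ∃ v, ∃ hv : Q v ≠ 0, Q v = b ∧ polar Q w v = 2 * b ∧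
      Refl.refl Q w' (by rw [hw']; exact hb) = Refl.refl Q v hv := by
    rcases sq_eq_sq_iff_eq_or_eq_neg.1 hB with e | e
    · exact ⟨w', by rw [hw']; exact hb, hw', e, rfl⟩
    · refine ⟨-w', by rw [QuadraticMap.map_neg, hw']; exact hb, by rw [QuadraticMap.map_neg, hw'],
        by rw [polar_neg_right, e, neg_neg], act_ext Q fun z => ?_⟩
      rw [act_refl, act_refl, QuadraticMap.map_neg, polar_neg_left, mul_neg, neg_smul, smul_neg, neg_neg]
  rw [hvr]
  set s := v - w with hsdef
  have hQs : Q s = 0 := by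
    rw [hsdef, sub_eq_add_neg, QuadraticMap.map_add (⇑Q), QuadraticMap.map_neg, polar_neg_right, polar_comm, hvB, hw, hvQ]
    ring
  have hws : polar Q w s = 0 := by
    rw [hsdef, polar_sub_right, hvB, WittExt.polar_self_eq, hw, sub_self]
  by_cases hs0 : s = 0
  · have hvw : v = w := sub_eq_zero.1 hs0
    subst hvw
    rw [refl_mul_self]; exact one_mem _
  have hsw : s ∉ Submodule.span F ({w} : Set (Fin n → F)) := fun h => by
    obtain ⟨t, ht⟩ := Submodule.mem_span_singleton.1 h
    rw [← ht, polar_smul_right, WittExt.polar_self_eq, hw, smul_eq_mul] at hws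
    have : t = 0 := by simpa [h2, hb] using hws
    rw [this, zero_smul] at ht
    exact hs0 ht.symm
  obtain ⟨f, hfs, hf⟩ := exists_dual_one hsw
  obtain ⟨z0, hz0⟩ := WittExt.exists_polar_eq Q hQ f
  set z := z0 + (-Q z0) • s with hzdef
  have hz0s : polar Q z0 s = 1 := by rw [hz0, hfs]
  have hz0w : polar Q z0 w = 0 := by rw [hz0]; exact hf w (Submodule.mem_span_singleton_self w)
  have hzs : polar Q z s = 1 := by
    rw [hzdef, polar_add_left, polar_smul_left, WittExt.polar_self_eq, hQs, hz0s]; simp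
  have hzw : polar Q z w = 0 := by
    rw [hzdef, polar_add_left, polar_smul_left, polar_comm (⇑Q) s w, hws, hz0w]; simp
  have hQz : Q z = 0 := by rw [hzdef, WittExt.quad_expand, hQs, hz0s]; ring
  clear_value z
  suffices ∃ y, Q y = b ∧ polar Q w y = 0 ∧ polar Q s y ^ 2 ≠ (2 * b) ^ 2 by
    obtain ⟨y, hy, hwy, hsy⟩ := this
    have h1 := pair_nondeg Q hc hQ h2 hb hw hy (by rw [hwy]; intro e; exact pow_ne_zero 2 (mul_ne_zero h2 hb) (e.symm.trans (by simp)))
    have hyv : polar Q y v = polar Q s y := by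
      rw [show v = w + s by rw [hsdef, add_sub_cancel], polar_add_right, polar_comm (⇑Q) y w, hwy,
        polar_comm (⇑Q) y s, zero_add]
    have h3 := pair_nondeg Q hc hQ h2 hb hy hvQ (by rw [hyv]; exact hsy)
    have := mul_mem h1 h3
    rwa [mul_assoc, ← mul_assoc (Refl.refl Q y _) (Refl.refl Q y _), refl_mul_self, one_mul] at this
  by_cases hq : Fintype.card F = 3
  · have hn4 : n ≠ 4 := fun e => h43 ⟨e, hq⟩
    let W : Submodule F (Fin n → F) :=
      LinearMap.ker (polarBilin Q w) ⊓ LinearMap.ker (polarBilin Q s) ⊓ LinearMap.ker (polarBilin Q z)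
    have hW : ∀ u, u ∈ W ↔ polar Q w u = 0 ∧ polar Q s u = 0 ∧ polar Q z u = 0 := fun u => by
      show (_ ∧ _) ∧ _ ↔ _
      exact and_assoc
    have hproj : ∀ u, u - (polar Q w u / (2 * b)) • w - polar Q z u • s - polar Q s u • z ∈ W := fun u => by
      rw [hW]
      simp only [polar_sub_right, polar_smul_right, smul_eq_mul, WittExt.polar_self_eq, hw, hws, hQs, hQz, hzs, hzw,
        polar_comm (⇑Q) s w, polar_comm (⇑Q) w z, polar_comm (⇑Q) s z]
      refine ⟨?_, ?_, ?_⟩ <;> field_simp <;> ring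
    have hn2 : n ≠ 2 := by
      intro e
      apply hs0
      have hli : LinearIndependent F ![w, s] := by
        rw [LinearIndependent.pair_iff' (fun e : w = 0 => hb (by rw [← hw, e, QuadraticMap.map_zero]))]
        exact fun t ht => hsw (Submodule.mem_span_singleton.2 ⟨t, ht⟩)
      have hspan := hli.span_eq_top_of_card_eq_finrank' (by rw [finrank_pi, Fintype.card_fin, Fintype.card_fin, e])
      refine hQ.1 s fun u => ?_
      show polar Q s u = 0
      obtain ⟨g, rfl⟩ := (Submodule.mem_span_range_iff_exists_fun F).1 (hspan ▸ Submodule.mem_top : u ∈ Submodule.span F (Set.range ![w, s]))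
      simp [Fin.sum_univ_two, polar_add_right, polar_smul_right, polar_comm (⇑Q) s w, hws, WittExt.polar_self_eq, hQs]
    have hn6 : 6 ≤ n := by obtain ⟨k, hk⟩ := heven; omega
    let bW := Module.finBasis F W
    let e : (Fin (finrank F W) → F) ≃ₗ[F] W := bW.equivFun.symm
    let Q' : QuadraticForm F (Fin (finrank F W) → F) := Q.comp (W.subtype.comp e.toLinearMap)
    have hQ'val : ∀ x, Q' x = Q (e x : Fin n → F) := fun x => rfl
    have hQ'pol : ∀ x y, polar Q' x y = polar Q (e x : Fin n → F) (e y) := fun x y => by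
      simp only [polar, hQ'val, map_add, Submodule.coe_add]
    have hQ' : (polarBilin Q').Nondegenerate := by
      have h1 : ∀ x, (∀ y, polar Q' x y = 0) → x = 0 := by
        intro x hx
        have hex : polar Q w (e x : Fin n → F) = 0 ∧ polar Q s (e x : Fin n → F) = 0 ∧ polar Q z (e x : Fin n → F) = 0 :=
          (hW _).1 (e x).2
        have h0 : (e x : Fin n → F) = 0 := hQ.1 _ fun u => by
          show polar Q (e x : Fin n → F) u = 0
          have h' := hx (e.symm ⟨_, hproj u⟩)
          rw [hQ'pol, LinearEquiv.apply_symm_apply] at h'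
          simp only [polar_sub_right, polar_smul_right, smul_eq_mul, polar_comm (⇑Q) (e x : Fin n → F) w,
            polar_comm (⇑Q) (e x : Fin n → F) s, polar_comm (⇑Q) (e x : Fin n → F) z, hex.1, hex.2.1, hex.2.2,
            mul_zero, sub_zero] at h'
          exact h'
        exact e.map_eq_zero_iff.1 (Subtype.ext h0)
      exact ⟨h1, fun y hy => h1 y fun x => by rw [polar_comm]; exact hy x⟩
    have hdW : 2 ≤ finrank F W := by
      have e1 := Submodule.finrank_sup_add_finrank_inf_eq (LinearMap.ker (polarBilin Q w)) (LinearMap.ker (polarBilin Q s))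
      have e2 := Submodule.finrank_sup_add_finrank_inf_eq
        (LinearMap.ker (polarBilin Q w) ⊓ LinearMap.ker (polarBilin Q s)) (LinearMap.ker (polarBilin Q z))
      have e3 := le_finrank_ker (polarBilin Q w)
      have e4 := le_finrank_ker (polarBilin Q s)
      have e5 := le_finrank_ker (polarBilin Q z)
      have e6 := Submodule.finrank_le (LinearMap.ker (polarBilin Q w) ⊔ LinearMap.ker (polarBilin Q s))
      have e7 := Submodule.finrank_le (LinearMap.ker (polarBilin Q w) ⊓ LinearMap.ker (polarBilin Q s) ⊔ LinearMap.ker (polarBilin Q z))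
      rw [finrank_pi, Fintype.card_fin] at e6 e7
      rw [Fintype.card_fin] at e3 e4 e5
      show 2 ≤ finrank F ↥(LinearMap.ker (polarBilin Q w) ⊓ LinearMap.ker (polarBilin Q s) ⊓ LinearMap.ker (polarBilin Q z))
      omega
    obtain ⟨x, hx⟩ := represents Q' hQ' h2 (by simpa using hdW) hb
    exact ⟨e x, hx, ((hW _).1 (e x).2).1, by rw [((hW _).1 (e x).2).2.1]; intro e; exact pow_ne_zero 2 (mul_ne_zero h2 hb) (e.symm.trans (by simp))⟩
  · have hcard : 3 < Fintype.card F := by
      have h1 := Fintype.one_lt_card (α := F)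
      have h3 := FiniteField.odd_card_of_char_ne_two (ringChar_ne_two h2)
      omega
    obtain ⟨β, hβ⟩ : ∃ β : F, β ∉ ({0, 2 * b, -(2 * b)} : Finset F) := by
      by_contra h
      push Not at h
      have := Finset.card_le_card (fun x _ => h x : (Finset.univ : Finset F) ⊆ {0, 2 * b, -(2 * b)})
      rw [Finset.card_univ] at this
      have h3 : ({0, 2 * b, -(2 * b)} : Finset F).card ≤ 3 :=
        (Finset.card_insert_le _ _).trans (Nat.succ_le_succ ((Finset.card_insert_le _ _).trans (by simp)))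
      omega
    simp only [Finset.mem_insert, Finset.mem_singleton, not_or] at hβ
    refine ⟨β • z + (b / β) • s, ?_, ?_, ?_⟩
    · rw [QuadraticMap.map_add (⇑Q), QuadraticMap.map_smul, QuadraticMap.map_smul, polar_smul_left, polar_smul_right,
        hQz, hQs, hzs]
      simp only [smul_eq_mul]
      field_simp [hβ.1]; ring
    · rw [polar_add_right, polar_smul_right, polar_smul_right, polar_comm (⇑Q) w z, hzw, hws]; simp
    · rw [polar_add_right, polar_smul_right, polar_smul_right, polar_comm (⇑Q) s z, hzs, WittExt.polar_self_eq, hQs]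
      simp only [smul_eq_mul, mul_one, mul_zero, add_zero, ne_eq, sq_eq_sq_iff_eq_or_eq_neg]
      tauto

end Cfsg.Agent.S0798


namespace Cfsg.Agent.S0798

/-- For q odd, n ≥ 2 even, Q with non-degenerate polar form (n, |F|) ≠ (4, 3), and a fixed c ≠ 0: the subgroup of the isometry group generated by the reflections r_v with Q(v) ∈ c·(F^×)² has index 2. -/
theorem result {F : Type*} [Field F] [Fintype F] (h2 : (2 : F) ≠ 0) {n : ℕ} (hn : 2 ≤ n) (heven : Even n) (Q : QuadraticForm F (Fin n → F)) (hQ : (QuadraticMap.polarBilin Q).Nondegenerate) (h43 : ¬ (n = 4 ∧ Fintype.card F = 3)) (c : F) (hc : c ≠ 0) : (Subgroup.closure {g : ↥(Cfsg.isometryGroup F ⇑Q) | ∃ (v : Fin n → F) (t : F), t ≠ 0 ∧ Q v = c * t ^ 2 ∧ ((g : Matrix.GeneralLinearGroup (Fin n) F) : Matrix (Fin n) (Fin n) F) = Cfsg.reflectionMatrix ⇑Q v}).index = 2 := by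
  classical
  have hn' : 2 ≤ Fintype.card (Fin n) := by simpa using hn
  obtain ⟨u, hu⟩ := Refl.represents Q hQ h2 hn' hc
  have hu0 : Q u ≠ 0 := by rw [hu]; exact hc
  obtain ⟨b, hb, hb'⟩ := Refl.exists_not_cls h2 hc
  obtain ⟨w, hw⟩ := Refl.represents Q hQ h2 hn' hb
  have hw0 : Q w ≠ 0 := by rw [hw]; exact hb
  show (Cfsg.Agent.S0798.Rc Q c).index = 2
  rw [Subgroup.index_eq_two_iff']
  refine ⟨Refl.refl Q w hw0, fun g => ?_⟩
  have hRc : ∀ x ∈ Cfsg.Agent.S0798.Rc Q c, Refl.chi Q b x = 1 := by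
    intro x hx
    induction hx using Subgroup.closure_induction with
    | mem x hx =>
      obtain ⟨v, t, ht, hv, he⟩ := hx
      have hv0 : Q v ≠ 0 := by rw [hv]; exact mul_ne_zero hc (pow_ne_zero _ ht)
      obtain rfl : x = Refl.refl Q v hv0 := Subtype.ext (Units.ext he)
      refine Refl.chi_refl_other Q hQ h2 hb v hv0 fun h => hb' (h.trans ?_)
      rw [hv]; exact ⟨t, by ring⟩
    | one => exact map_one _
    | mul x y _ _ hx hy => rw [map_mul, hx, hy, one_mul]
    | inv x _ hx => rw [map_inv, hx, inv_one]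
  have hnot : ∀ x, ¬ (Refl.refl Q w hw0 * x ∈ Cfsg.Agent.S0798.Rc Q c ∧ x ∈ Cfsg.Agent.S0798.Rc Q c) := by
    rintro x ⟨h1, h3⟩
    have e := hRc _ h1
    rw [map_mul, hRc _ h3, mul_one, Refl.chi_refl_self Q hQ h2 hb w hw0 (hw ▸ Refl.Cls.refl b)] at e
    exact absurd e (by decide)
  have hor : ∀ x, Refl.refl Q w hw0 * x ∈ Cfsg.Agent.S0798.Rc Q c ∨ x ∈ Cfsg.Agent.S0798.Rc Q c := by
    intro x
    induction (Refl.eq_top Q hQ (Refl.hex' Q hQ h2) ▸ Subgroup.mem_top x : x ∈ Refl.R Q) using Subgroup.closure_induction_left with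
    | one => exact Or.inr (one_mem _)
    | mul_left r hr y _ ih =>
      obtain ⟨v, hv, he⟩ := hr
      obtain rfl : r = Refl.refl Q v hv := Subtype.ext (Units.ext he)
      by_cases hvc : Refl.Cls (Q v) c
      · have hm := Cfsg.Agent.S0798.refl_mem_Rc Q hv hvc
        rcases ih with h | h
        · left
          rw [show Refl.refl Q w hw0 * (Refl.refl Q v hv * y) =
            (Refl.refl Q w hw0 * Refl.refl Q v hv * (Refl.refl Q w hw0)⁻¹) * (Refl.refl Q w hw0 * y) by group]
          exact mul_mem (Cfsg.Agent.S0798.conj_mem Q hc hm _) h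
        · exact Or.inr (mul_mem hm h)
      · obtain ⟨a, ha⟩ : Refl.Cls b (Q v) := Refl.cls_of_not h2 hc hb hv hb' hvc
        have ha0 : a ≠ 0 := fun e => hb (by rw [← ha, e]; ring)
        have hav : Q (a • v) = b := by rw [QuadraticMap.map_smul, smul_eq_mul]; exact ha
        have hp := Cfsg.Agent.S0798.pair_mem Q hc hQ h2 hn heven h43 hb hw hav
        rw [Refl.refl_smul Q v hv ha0] at hp
        rcases ih with h | h
        · right
          have := mul_mem (inv_mem hp) h
          rwa [_root_.mul_inv_rev, Refl.refl_inv, Refl.refl_inv, mul_assoc,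
            ← mul_assoc (Refl.refl Q w hw0) (Refl.refl Q w hw0), Refl.refl_mul_self, one_mul] at this
        · left
          rw [← mul_assoc]; exact mul_mem hp h
    | inv_mul_cancel r hr y _ ih =>
      obtain ⟨v, hv, he⟩ := hr
      obtain rfl : r = Refl.refl Q v hv := Subtype.ext (Units.ext he)
      rw [Refl.refl_inv]
      by_cases hvc : Refl.Cls (Q v) c
      · have hm := Cfsg.Agent.S0798.refl_mem_Rc Q hv hvc
        rcases ih with h | h
        · left
          rw [show Refl.refl Q w hw0 * (Refl.refl Q v hv * y) =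
            (Refl.refl Q w hw0 * Refl.refl Q v hv * (Refl.refl Q w hw0)⁻¹) * (Refl.refl Q w hw0 * y) by group]
          exact mul_mem (Cfsg.Agent.S0798.conj_mem Q hc hm _) h
        · exact Or.inr (mul_mem hm h)
      · obtain ⟨a, ha⟩ : Refl.Cls b (Q v) := Refl.cls_of_not h2 hc hb hv hb' hvc
        have ha0 : a ≠ 0 := fun e => hb (by rw [← ha, e]; ring)
        have hav : Q (a • v) = b := by rw [QuadraticMap.map_smul, smul_eq_mul]; exact ha
        have hp := Cfsg.Agent.S0798.pair_mem Q hc hQ h2 hn heven h43 hb hw hav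
        rw [Refl.refl_smul Q v hv ha0] at hp
        rcases ih with h | h
        · right
          have := mul_mem (inv_mem hp) h
          rwa [_root_.mul_inv_rev, Refl.refl_inv, Refl.refl_inv, mul_assoc,
            ← mul_assoc (Refl.refl Q w hw0) (Refl.refl Q w hw0), Refl.refl_mul_self, one_mul] at this
        · left
          rw [← mul_assoc]; exact mul_mem hp h
  rcases hor g with h | h
  · exact Or.inl ⟨h, fun h' => hnot g ⟨h, h'⟩⟩
  · exact Or.inr ⟨h, fun h' => hnot g ⟨h', h⟩⟩

end Cfsg.Agent.S0798
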