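import Cfsg.Statements.S0802
import Cfsg.Agent.Lib.Classical.SL2Char2
import Cfsg.Agent.S1012

set_option autoImplicit false
open Cfsg

open Cfsg.Agent.Classical

namespace Cfsg.Agent.S0802

/-- PSL_2(p^n) has a subgroup isomorphic to A_4 if and only if it is not the case that p = 2 and n is odd. -/
theorem result {F : Type*} [Field F] [Fintype F] (p n : ℕ) [Fact p.Prime] [CharP F p] (hF : Fintype.card F = p ^ n) : (∃ H : Subgroup (Matrix.ProjectiveSpecialLinearGroup (Fin 2) F), Nonempty (H ≃* alternatingGroup (Fin 4))) ↔ ¬ (p = 2 ∧ Odd n) := by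
  haveI : Finite (Matrix.ProjectiveSpecialLinearGroup (Fin 2) F) := Finite.of_surjective _ SL2Two.proj_surjective
  have hch : ringChar F = p := ringChar.eq F p
  constructor
  · rintro ⟨H, ⟨e⟩⟩ ⟨rfl, hn⟩
    refine SL2Two.no_alt_four (SL2Two.two_eq_zero_of_char hch) (fun a ha => ?_)
      (H.subtype.comp e.symm.toMonoidHom) (H.subtype_injective.comp e.symm.injective)
    have ha0 : a ≠ 0 := fun e => by rw [e] at ha; norm_num at ha
    have h1 := FiniteField.pow_card_sub_one_eq_one a ha0
    obtain ⟨t, rfl⟩ := hn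
    have h3 : ¬ 3 ∣ Fintype.card F - 1 := by
      have h1le : 1 ≤ 2 ^ (2 * t + 1) := Nat.one_le_two_pow
      have hm : 2 ^ (2 * t + 1) % 3 = 2 := by rw [pow_succ, pow_mul, Nat.mul_mod, Nat.pow_mod]; norm_num
      rw [hF]
      generalize 2 ^ (2 * t + 1) = X at hm h1le ⊢
      omega
    exact (orderOf_eq_one_iff).1 (Nat.eq_one_of_dvd_coprimes
      ((Nat.Prime.coprime_iff_not_dvd Nat.prime_three).2 h3) (orderOf_dvd_of_pow_eq_one ha)
      (orderOf_dvd_of_pow_eq_one h1))
  · intro hpn
    by_cases hp : p = 2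
    · subst hp
      have hev : Even n := Nat.not_odd_iff_even.1 fun h => hpn ⟨rfl, h⟩
      obtain ⟨t, rfl⟩ := hev
      haveI : Fact (Nat.Prime 3) := ⟨Nat.prime_three⟩
      have h3 : 3 ∣ Nat.card Fˣ := by
        rw [Nat.card_units, Nat.card_eq_fintype_card, hF, show t + t = 2 * t by ring, pow_mul]
        have h := Nat.ModEq.pow t (show 2 ^ 2 ≡ 1 [MOD 3] by decide)
        rw [one_pow] at h
        exact (Nat.modEq_iff_dvd' (Nat.one_le_pow _ _ (by norm_num))).1 h.symm
      obtain ⟨u, hu⟩ := exists_prime_orderOf_dvd_card' (G := Fˣ) 3 h3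
      have hu3 : u ^ 3 = 1 := by rw [← hu, pow_orderOf_eq_one]
      refine SL2Two.exists_alt_four_two (SL2Two.two_eq_zero_of_char hch) (w := (u : F))
        (by rw [← Units.val_pow_eq_pow_val, hu3, Units.val_one]) (fun e => ?_)
      rw [Units.ext (show (u : F) = ((1 : Fˣ) : F) by rw [e, Units.val_one]), orderOf_one] at hu
      norm_num at hu
    · have h2 : (2 : F) ≠ 0 := fun h => hp (hch.symm.trans (CharP.ringChar_of_prime_eq_zero Nat.prime_two (by exact_mod_cast h)))
      have hk := SL2Two.twelve_mul_card_klein (F := F) h2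
      obtain ⟨⟨V, hV⟩⟩ : Nonempty {V : Subgroup (Matrix.ProjectiveSpecialLinearGroup (Fin 2) F) // IsKleinFour V} := by
        by_contra hc
        rw [not_nonempty_iff] at hc
        rw [Nat.card_of_isEmpty, mul_zero] at hk
        exact Nat.card_pos.ne hk
      obtain ⟨h24, ⟨s, hs⟩, h6⟩ := SL2Two.card_normalizer_klein_dvd h2 V hV
      have hs12 : s = 1 ∨ s = 2 := by
        have := Nat.le_of_dvd (by norm_num) h24
        have := Nat.card_pos (α := Subgroup.normalizer (V : Set (Matrix.ProjectiveSpecialLinearGroup (Fin 2) F)))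
        omega
      rcases hs12 with rfl | rfl
      · exact ⟨_, SL2Two.nonempty_alt_four (by simpa using hs) h6⟩
      · obtain ⟨e⟩ := S1012.result (by simpa using hs) h6
        have hi : Function.Injective ((Subgroup.normalizer (V : Set (Matrix.ProjectiveSpecialLinearGroup (Fin 2) F))).subtype.comp e.symm.toMonoidHom) := by
          rw [MonoidHom.coe_comp]
          exact Function.Injective.comp (Subgroup.subtype_injective _) e.symm.injective
        exact ⟨_, ⟨(Subgroup.equivMapOfInjective (alternatingGroup (Fin 4)) _ hi).symm⟩⟩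

end Cfsg.Agent.S0802
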