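import Cfsg.Statements.S0803
import Cfsg.Agent.Lib.Classical.SL2Char2
import Cfsg.Agent.S1012

set_option autoImplicit false
open Cfsg

open Cfsg.Agent.Classical

namespace Cfsg.Agent.S0803

/-- PSL_2(q) has a subgroup isomorphic to S_4 iff q² ≡ 1 (mod 16). -/
theorem result {F : Type*} [Field F] [Fintype F] {q : ℕ} (hF : Fintype.card F = q) : (∃ H : Subgroup (Matrix.ProjectiveSpecialLinearGroup (Fin 2) F), Nonempty (H ≃* Equiv.Perm (Fin 4))) ↔ q ^ 2 % 16 = 1 := by
  haveI : Finite (Matrix.ProjectiveSpecialLinearGroup (Fin 2) F) := Finite.of_surjective _ SL2Two.proj_surjective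
  constructor
  · rintro ⟨H, ⟨e⟩⟩
    let s : Equiv.Perm (Fin 4) := finRotate 4
    have hs : orderOf s = 4 := orderOf_eq_prime_pow (p := 2) (n := 1) (by decide) (by decide)
    have hx : orderOf ((e.symm s : H) : Matrix.ProjectiveSpecialLinearGroup (Fin 2) F) = 4 := by
      rw [Subgroup.orderOf_coe, MulEquiv.orderOf_eq, hs]
    by_cases hc : ringChar F = 2
    · exact absurd hx (SL2Two.no_four_two (SL2Two.two_eq_zero_of_char hc) _)
    · have hodd := FiniteField.odd_card_of_char_ne_two hc
      have h2 := SL2Two.two_ne_zero' (F := F) (Nat.odd_iff.2 hodd)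
      have h8 : q % 8 = 1 ∨ q % 8 = 7 := by
        by_contra h
        exact SL2Two.psl_no_four h2 (by omega) _ hx
      rw [Nat.pow_mod]
      have : q % 16 = 1 ∨ q % 16 = 7 ∨ q % 16 = 9 ∨ q % 16 = 15 := by omega
      rcases this with h | h | h | h <;> rw [h]
  · intro hq
    have h8 : Fintype.card F % 8 = 1 ∨ Fintype.card F % 8 = 7 := by
      rw [hF]
      rw [Nat.pow_mod] at hq
      have := Nat.mod_lt q (show 16 > 0 by norm_num)
      interval_cases h : q % 16 <;> simp_all <;> omega
    have h2 := SL2Two.two_ne_zero' (F := F) (Nat.odd_iff.2 (by omega))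
    have hk := SL2Two.twelve_mul_card_klein (F := F) h2
    obtain ⟨⟨V, hV⟩⟩ : Nonempty {V : Subgroup (Matrix.ProjectiveSpecialLinearGroup (Fin 2) F) // IsKleinFour V} := by
      by_contra hc
      rw [not_nonempty_iff] at hc
      rw [Nat.card_of_isEmpty, mul_zero] at hk
      exact Nat.card_pos.ne hk
    exact ⟨_, S1012.result (SL2Two.card_normalizer_klein h2 h8 V hV)
      (SL2Two.card_normalizer_klein_dvd h2 V hV).2.2⟩

end Cfsg.Agent.S0803
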