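import Cfsg.Statements.S0804
import Cfsg.Agent.Lib.Classical.IcosaConj

set_option autoImplicit false
open Cfsg

open Cfsg.Agent.Classical
open scoped MatrixGroups Classical

namespace Cfsg.Agent.S0804

/-- PSL_2(q) has a subgroup isomorphic to A_5 iff 5 ∣ q(q² − 1). -/
theorem result {F : Type*} [Field F] [Fintype F] {q : ℕ} (hF : Fintype.card F = q) : (∃ H : Subgroup (Matrix.ProjectiveSpecialLinearGroup (Fin 2) F), Nonempty (H ≃* alternatingGroup (Fin 5))) ↔ 5 ∣ q * (q ^ 2 - 1) := by
  subst hF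
  haveI : Finite (Matrix.ProjectiveSpecialLinearGroup (Fin 2) F) := Finite.of_surjective _ SL2Two.proj_surjective
  constructor
  · rintro ⟨H, ⟨e⟩⟩
    have h := H.card_subgroup_dvd_card
    rw [Nat.card_congr e.toEquiv, nat_card_alternatingGroup, Nat.card_fin] at h
    rw [← SL2.card_PSL2_mul (F := F)]
    exact Dvd.dvd.mul_left ((show 5 ∣ Nat.factorial 5 / 2 by decide).trans h) _
  · intro h
    obtain ⟨t, ht⟩ := Icosa.exists_root h
    obtain ⟨A, B, hAB⟩ := Icosa.exists_isPair ht
    exact ⟨_, hAB.nonempty_grp⟩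

end Cfsg.Agent.S0804
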