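import Cfsg.Statements.S0805
import Cfsg.Agent.Lib.Classical.DicksonExists

set_option autoImplicit false
open Cfsg

open Cfsg.Agent.Classical
open scoped MatrixGroups Classical

namespace Cfsg.Agent.S0805

/-- Subfield subgroups: let F be a finite field of odd order q and K a finite field with |K|^m = q, m ≥ 1. Then PSL_2(F) has a subgroup isomorphic to PSL_2(K), and has a subgroup isomorphic to PGL_2(K) if and only if m is even. -/
theorem result {F K : Type*} [Field F] [Fintype F] [Field K] [Fintype K] {q : ℕ} (hF : Fintype.card F = q) (hodd : Odd q) (m : ℕ) (hm : 1 ≤ m) (hK : Fintype.card K ^ m = q) : (∃ H : Subgroup (Matrix.ProjectiveSpecialLinearGroup (Fin 2) F), Nonempty (H ≃* Matrix.ProjectiveSpecialLinearGroup (Fin 2) K)) ∧ ((∃ H : Subgroup (Matrix.ProjectiveSpecialLinearGroup (Fin 2) F), Nonempty (H ≃* Matrix.ProjGenLinGroup (Fin 2) K)) ↔ Even m) := by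
  subst hF
  obtain ⟨p, hp⟩ := CharP.exists F
  obtain ⟨s, hpp, hs⟩ := FiniteField.card F p
  haveI : Fact p.Prime := ⟨hpp⟩
  have h1 : 1 < Fintype.card K := Fintype.one_lt_card
  have hKodd : Odd (Fintype.card K) := (Nat.odd_pow_iff (by omega)).1 (hK ▸ hodd)
  obtain ⟨L, hL, hLc⟩ := Dickson.exists_subfield_root (F := F) p h1 hK.symm
  haveI := Dickson.finite_of_le hL
  haveI := Fintype.ofFinite L
  have σ := FiniteField.ringEquivOfCardEq (show Fintype.card L = Fintype.card K by rw [← Nat.card_eq_fintype_card, hLc])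
  have mk : ∀ {T : Type _} [Group T] (S : Subgroup (PGL(2, AlgebraicClosure F))), S ≤ Dickson.pslF F →
      (S ≃* T) → ∃ H : Subgroup (Matrix.ProjectiveSpecialLinearGroup (Fin 2) F), Nonempty (H ≃* T) := by
    intro T _ S hS f
    have he : (S.comap Dickson.emb).map Dickson.emb = S := Subgroup.map_comap_eq_self hS
    exact ⟨_, ⟨(((S.comap Dickson.emb).equivMapOfInjective _ Dickson.emb_injective).trans
      (MulEquiv.subgroupCongr he)).trans f⟩⟩
  have hinj : Function.Injective
      ((Matrix.ProjGenLinGroup.map (n := Fin 2) L.subtype).comp Matrix.ProjectiveSpecialLinearGroup.toPGL) := by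
    rw [MonoidHom.coe_comp]
    exact (Dickson.map_injective L.subtype).comp
      (Matrix.ProjectiveSpecialLinearGroup.toPGL_injective (n := Fin 2) (R := L))
  refine ⟨mk _ ((Dickson.psl_le_sub hL).trans inf_le_right)
    ((MonoidHom.ofInjective hinj).symm.trans (psl_congr σ).some), ?_, fun hev => ?_⟩
  · rintro ⟨H, ⟨e⟩⟩
    by_contra hm'
    rw [Nat.not_even_iff_odd] at hm'
    haveI : Finite (Matrix.ProjectiveSpecialLinearGroup (Fin 2) F) := Finite.of_surjective _ SL2Two.proj_surjective
    have hd := H.card_subgroup_dvd_card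
    rw [Nat.card_congr e.toEquiv, Dickson.card_PGL2] at hd
    have hc := SL2.card_PSL2_mul (F := F)
    rw [Nat.gcd_eq_left (show 2 ∣ Fintype.card F - 1 by rw [Nat.odd_iff] at hodd; omega)] at hc
    obtain ⟨k, hk⟩ := hd
    rw [hk] at hc
    -- the quotient of `q² − 1` by `r² − 1` is odd
    set r := Fintype.card K
    have hgeo : (r ^ 2 - 1) * ∑ i ∈ Finset.range m, (r ^ 2) ^ i = Fintype.card F ^ 2 - 1 := by
      have h2 : 2 ≤ r ^ 2 := le_trans h1 (Nat.le_self_pow two_ne_zero r)
      rw [Nat.geomSum_eq h2, Nat.mul_div_cancel' (by simpa using Nat.sub_dvd_pow_sub_pow (r ^ 2) 1 m),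
        ← pow_mul, mul_comm 2 m, pow_mul, hK]
    rw [← hgeo] at hc
    have hpos : 0 < r ^ 2 - 1 := by
      have : 2 ≤ r ^ 2 := le_trans h1 (Nat.le_self_pow two_ne_zero r)
      omega
    have e2 : (r ^ 2 - 1) * (2 * (r * k)) =
        (r ^ 2 - 1) * (Fintype.card F * ∑ i ∈ Finset.range m, (r ^ 2) ^ i) := by
      calc _ = 2 * (r * (r ^ 2 - 1) * k) := by ring
        _ = _ := hc
        _ = _ := by ring
    have e3 := congrArg (· % 2) (Nat.eq_of_mul_eq_mul_left hpos e2)
    simp only [Nat.mul_mod_right] at e3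
    rw [Nat.mul_mod, Dickson.geom_parity _ (hKodd.pow), Nat.odd_iff.1 hm', Nat.odd_iff.1 hodd] at e3
    simp at e3
  · have hF2 : Fintype.card F = Nat.card L ^ m := by rw [hLc, hK]
    exact mk _ inf_le_right (((MulEquiv.subgroupCongr ((Dickson.card_sub_inf_pslF hL hF2).1 (Or.inr hev))).trans
      (Dickson.nonempty_subPGL L).some).trans (Dickson.pgl_congr σ).some)

end Cfsg.Agent.S0805
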