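import Cfsg.Statements.S0806
import Cfsg.Agent.Lib.Classical.DicksonTools
import Cfsg.Agent.Lib.Classical.SL2Two

set_option autoImplicit false
open Cfsg

open Cfsg.Agent.Classical
open scoped MatrixGroups Classical
open OnePoint

namespace Cfsg.Agent.S0806

/-- Minimal index (Galois): if q ∉ {2, 3, 5, 7, 9, 11} then every proper subgroup of PSL_2(q) has index ≥ q + 1, and some subgroup has index exactly q + 1. -/
theorem result {F : Type*} [Field F] [Fintype F] {q : ℕ} (hF : Fintype.card F = q) (hq : q ∉ ({2, 3, 5, 7, 9, 11} : Finset ℕ)) : (∀ H : Subgroup (Matrix.ProjectiveSpecialLinearGroup (Fin 2) F), H ≠ ⊤ → q + 1 ≤ H.index) ∧ ∃ H : Subgroup (Matrix.ProjectiveSpecialLinearGroup (Fin 2) F), H.index = q + 1 := by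
  subst hF
  obtain ⟨p, hp⟩ := CharP.exists F
  obtain ⟨s, hpp, hs⟩ := FiniteField.card F p
  haveI : Fact p.Prime := ⟨hpp⟩
  simp only [Finset.mem_insert, Finset.mem_singleton, not_or] at hq
  have A := Dickson.ambient_pslF (F := F)
  have hq4 : 4 ≤ Fintype.card F := by have := Fintype.one_lt_card (α := F); omega
  set e := (Fintype.card F - 1) / Nat.gcd 2 (Fintype.card F - 1) with he
  haveI : Finite (Matrix.ProjectiveSpecialLinearGroup (Fin 2) F) := Finite.of_surjective _ SL2Two.proj_surjective
  have hG : Nat.card (Matrix.ProjectiveSpecialLinearGroup (Fin 2) F) =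
      (Fintype.card F + 1) * (Fintype.card F * e) := by rw [← Dickson.card_pslF, A.card]
  refine ⟨fun H hH => ?_, ?_⟩
  · suffices hle : Nat.card H ≤ Fintype.card F * e by
      by_contra hlt
      have h1 := H.card_mul_index
      rw [hG] at h1
      have := A.e_pos
      nlinarith [Nat.card_pos (α := H)]
    have hHc : Nat.card (H.map Dickson.emb) = Nat.card H := Subgroup.card_map_of_injective Dickson.emb_injective
    rw [← hHc]
    have hpos : 1 ≤ Fintype.card F * e := Nat.mul_pos (by omega) A.e_pos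
    by_cases hbot : H.map Dickson.emb = ⊥
    · rw [hbot, Subgroup.card_bot]; exact hpos
    have hbig : p ≠ 2 → 13 ≤ Fintype.card F ∧ 6 ≤ e := by
      intro h2
      have hodd : Fintype.card F % 2 = 1 := by
        rw [hs, ← Nat.odd_iff]
        exact (hpp.eq_two_or_odd'.resolve_left h2).pow
      have hd : Nat.gcd 2 (Fintype.card F - 1) = 2 := Nat.gcd_eq_left (by omega)
      rw [he, hd]
      omega
    rcases Dickson.sub_cases p (Dickson.pslF_le F) le_rfl A hq4
      (show H.map Dickson.emb ≤ Dickson.pslF F by rintro _ ⟨a, -, rfl⟩; exact ⟨a, rfl⟩) hbot with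
      ⟨x, hx, hle⟩ | ⟨D, k, hk, hle, hD, hDc, -⟩ | ⟨h2, -, ⟨f⟩⟩ | ⟨h2, -, ⟨f⟩⟩ | ⟨h2, -, -, ⟨f⟩⟩ |
      ⟨K₀, c, hc, hK, h3, hle, hiso⟩
    · refine (Subgroup.card_le_of_le hle).trans (le_of_eq ?_)
      rw [Dickson.card_st, Dickson.qOf_orb _ hx, Dickson.eOf_orb _ hx, A.hq, A.he]
    · haveI : Finite D := Finite.of_injective _ (Subgroup.inclusion_injective hD)
      refine (Subgroup.card_le_of_le hle).trans ?_
      rw [hDc]
      have hee : k ≤ Fintype.card F + 1 ∧ Fintype.card F - 1 ≤ 2 * e := by
        rcases A.kind with ⟨h1, h1'⟩ | ⟨h1, h1'⟩ <;> rcases hk with rfl | rfl <;> omega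
      have : 4 * e ≤ Fintype.card F * e := Nat.mul_le_mul_right e hq4
      rcases A.kind with ⟨h1, h1'⟩ | ⟨h1, h1'⟩ <;> rcases hk with rfl | rfl <;> omega
    · rw [Nat.card_congr f.toEquiv, nat_card_alternatingGroup, Nat.card_fin]
      obtain ⟨h13, he6⟩ := hbig h2
      calc Nat.factorial 4 / 2 ≤ 13 * 6 := by decide
        _ ≤ _ := Nat.mul_le_mul h13 he6
    · rw [Nat.card_congr f.toEquiv, Nat.card_perm, Nat.card_fin]
      obtain ⟨h13, he6⟩ := hbig h2
      calc Nat.factorial 4 ≤ 13 * 6 := by decide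
        _ ≤ _ := Nat.mul_le_mul h13 he6
    · rw [Nat.card_congr f.toEquiv, nat_card_alternatingGroup, Nat.card_fin]
      obtain ⟨h13, he6⟩ := hbig h2
      calc Nat.factorial 5 / 2 ≤ 13 * 6 := by decide
        _ ≤ _ := Nat.mul_le_mul h13 he6
    · obtain ⟨j, hj, hjc, hj1⟩ := Dickson.card_eq_pow hK le_rfl
      rw [Dickson.card_fieldRange] at hjc
      set r := Nat.card K₀
      rcases (show j = 1 ∨ 2 ≤ j by omega) with rfl | hj2
      · exfalso
        rw [pow_one] at hjc
        rw [← hjc] at hiso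
        have hcm : Nat.card (H.map Dickson.emb) * 2 ≥ Fintype.card F * (Fintype.card F ^ 2 - 1) := by
          rcases hiso with ⟨h, -⟩ | ⟨-, h, -⟩ <;> omega
        have hsq : Fintype.card F ^ 2 - 1 = (Fintype.card F + 1) * (Fintype.card F - 1) := by
          simpa using Nat.sq_sub_sq (Fintype.card F) 1
        rw [hsq, hHc] at hcm
        have h1 := H.card_mul_index
        rw [hG] at h1
        apply hH
        rw [← Subgroup.index_eq_one]
        by_contra hi
        have h0 : H.index ≠ 0 := H.index_ne_zero_of_finite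
        have h2e : e ≤ Fintype.card F - 1 := Nat.div_le_self _ _
        have h3 : 2 * Nat.card H ≤ (Fintype.card F + 1) * (Fintype.card F * e) :=
          h1 ▸ (by rw [mul_comm 2]; exact Nat.mul_le_mul_left _ (by omega))
        have h4 : e = Fintype.card F - 1 ∨ 2 * e = Fintype.card F - 1 := A.kind.imp (·.1) (·.1)
        rcases hiso with ⟨hh, -⟩ | ⟨hodd, hh, -⟩
        · rw [hsq, hHc] at hh
          rw [hh] at h3
          nlinarith
        · have hd : 2 * e = Fintype.card F - 1 := by
            rw [he, Nat.gcd_eq_left (show 2 ∣ Fintype.card F - 1 by rw [Nat.odd_iff] at hodd; omega)]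
            rw [Nat.odd_iff] at hodd
            omega
          rw [hsq, hHc, ← hd] at hh
          nlinarith
      · have hr2 : r * r ≤ Fintype.card F := by
          rw [hjc, ← pow_two]; exact Nat.pow_le_pow_right (by omega) hj2
        have h1 : Nat.card (H.map Dickson.emb) ≤ r * (r ^ 2 - 1) := by
          rcases hiso with ⟨h, -⟩ | ⟨-, h, -⟩ <;> omega
        have h2 : r ≤ e := by
          have : 3 * r ≤ r * r := Nat.mul_le_mul_right r h3
          rcases A.kind with ⟨h', -⟩ | ⟨h', -⟩ <;> omega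
        calc _ ≤ r * (r ^ 2 - 1) := h1
          _ ≤ e * (r * r) := Nat.mul_le_mul h2 (by rw [pow_two]; omega)
          _ ≤ e * Fintype.card F := Nat.mul_le_mul_left _ hr2
          _ = _ := mul_comm _ _
  · refine ⟨(Dickson.st (Dickson.pslF F) (∞ : OnePoint (AlgebraicClosure F))).comap Dickson.emb, ?_⟩
    have hle : Dickson.st (Dickson.pslF F) (∞ : OnePoint (AlgebraicClosure F)) ≤ (Dickson.emb (F := F)).range :=
      Dickson.st_le _ _
    set H := (Dickson.st (Dickson.pslF F) (∞ : OnePoint (AlgebraicClosure F))).comap Dickson.emb with hHdef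
    have hc : Nat.card H = Fintype.card F * e := by
      rw [← Subgroup.card_map_of_injective Dickson.emb_injective (K := H), hHdef,
        Subgroup.map_comap_eq_self hle, Dickson.card_st, A.hq, A.he]
    have h1 := H.card_mul_index
    rw [hG, hc, mul_comm (Fintype.card F + 1)] at h1
    exact Nat.eq_of_mul_eq_mul_left (Nat.mul_pos (by omega) A.e_pos) h1

end Cfsg.Agent.S0806
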