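import Cfsg.Statements.S0809
import Cfsg.Agent.Lib.Classical.SL2Two

set_option autoImplicit false
open Cfsg

open Cfsg.Agent.Classical

namespace Cfsg.Agent.S0809

/-- In SL_2(q), q odd: any two subgroups of order 4 are conjugate, and the normaliser of a subgroup of order 4 has order 2(q − 1) if q ≡ 1 (mod 4) and 2(q + 1) if q ≡ 3 (mod 4); consequently all involutions of PSL_2(q) are conjugate. -/
theorem result {F : Type*} [Field F] [Fintype F] {q : ℕ} (hF : Fintype.card F = q) (hodd : Odd q) (A : Subgroup (Matrix.SpecialLinearGroup (Fin 2) F)) (hA : Nat.card A = 4) : (∀ B : Subgroup (Matrix.SpecialLinearGroup (Fin 2) F), Nat.card B = 4 → ∃ g : Matrix.SpecialLinearGroup (Fin 2) F, B = A.map (MulAut.conj g).toMonoidHom) ∧ (q % 4 = 1 → Nat.card ↥(Subgroup.normalizer (A : Set (Matrix.SpecialLinearGroup (Fin 2) F))) = 2 * (q - 1)) ∧ (q % 4 = 3 → Nat.card ↥(Subgroup.normalizer (A : Set (Matrix.SpecialLinearGroup (Fin 2) F))) = 2 * (q + 1)) ∧ (∀ x y : Matrix.ProjectiveSpecialLinearGroup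 (Fin 2) F, orderOf x = 2 → orderOf y = 2 → IsConj x y) := by
  have h2 := SL2Two.two_ne_zero' (hF ▸ hodd)
  obtain ⟨a, rfl⟩ := SL2Two.conj_four h2 A hA
  have hN : Nat.card ↥(Subgroup.normalizer (((Subgroup.zpowers (SL2Two.g0 (F := F))).map (MulAut.conj a).toMonoidHom : Subgroup (Matrix.SpecialLinearGroup (Fin 2) F)) : Set (Matrix.SpecialLinearGroup (Fin 2) F))) =
      2 * Nat.card (Subgroup.centralizer ({SL2Two.g0} : Set (Matrix.SpecialLinearGroup (Fin 2) F))) := by
    rw [← SL2Two.card_normalizer_g0 h2, ← Subgroup.map_equiv_normalizer_eq]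
    exact Nat.card_congr ((MulAut.conj a).subgroupMap _).toEquiv.symm
  refine ⟨fun B hB => ?_, fun h4 => ?_, fun h4 => ?_, fun x y hx hy => SL2Two.isConj_involutions h2 hx hy⟩
  · obtain ⟨b, rfl⟩ := SL2Two.conj_four h2 B hB
    refine ⟨b * a⁻¹, ?_⟩
    rw [Subgroup.map_map]
    congr 1
    ext x
    simp [mul_assoc]
  · rw [hN, (SL2Two.card_centralizer_g0 h2).1 (by omega), hF]
  · rw [hN, (SL2Two.card_centralizer_g0 h2).2 (by omega), hF]

end Cfsg.Agent.S0809
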