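import Cfsg.Statements.S0810
import Cfsg.Agent.Lib.Classical.DicksonSolvable

set_option autoImplicit false
open Cfsg

open Cfsg.Agent.Classical
open scoped MatrixGroups Classical

namespace Cfsg.Agent.S0810

/-- PSL_2(q) is minimal simple iff q is 2^r (r prime), 3^r (r an odd prime), a prime greater than 5 congruent to 2 or 3 mod 5, or 5. -/
theorem result {F : Type*} [Field F] [Fintype F] {q : ℕ} (hF : Fintype.card F = q) : Cfsg.IsMinimalSimple (Matrix.ProjectiveSpecialLinearGroup (Fin 2) F) ↔ ((∃ r : ℕ, r.Prime ∧ q = 2 ^ r) ∨ (∃ r : ℕ, r.Prime ∧ r ≠ 2 ∧ q = 3 ^ r) ∨ (q.Prime ∧ 5 < q ∧ (q % 5 = 2 ∨ q % 5 = 3)) ∨ q = 5) := by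
  subst hF
  obtain ⟨p, hp⟩ := CharP.exists F
  obtain ⟨n, hpp, hn⟩ := FiniteField.card F p
  haveI : Fact p.Prime := ⟨hpp⟩
  haveI : Finite (Matrix.ProjectiveSpecialLinearGroup (Fin 2) F) := Finite.of_surjective _ SL2Two.proj_surjective
  have hG := SL2.card_PSL2_mul (F := F)
  have h1 := Fintype.one_lt_card (α := F)
  constructor
  · rintro ⟨hsimp, hnc, hsolv⟩
    have hns : ¬ Group.IsSolvable (Matrix.ProjectiveSpecialLinearGroup (Fin 2) F) :=
      fun h => hnc ⟨⟨IsSimpleGroup.comm_iff_isSolvable.2 h⟩⟩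
    have hq4 : 4 ≤ Fintype.card F := by
      by_contra hlt
      refine hns (Dickson.isSolvable_of_card_two_three ?_)
      rcases (show Fintype.card F = 2 ∨ Fintype.card F = 3 by omega) with e | e <;> rw [e] at hG
      · rw [show Nat.gcd 2 (2 - 1) = 1 by decide] at hG
        exact ⟨1, 1, by omega⟩
      · rw [show Nat.gcd 2 (3 - 1) = 2 by decide] at hG
        exact ⟨2, 1, by omega⟩
    have noicosa : 5 ∣ Fintype.card F * (Fintype.card F ^ 2 - 1) → 60 < Nat.card (Matrix.ProjectiveSpecialLinearGroup (Fin 2) F) → False := by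
      intro h5 h60
      obtain ⟨t, ht⟩ := Icosa.exists_root (F := F) h5
      obtain ⟨A, B, hAB⟩ := Icosa.exists_isPair ht
      obtain ⟨e⟩ := hAB.nonempty_grp
      have hne : Icosa.IsPair.grp A B ≠ ⊤ := fun e => by
        have := hAB.card_grp
        rw [e, Subgroup.card_top] at this
        omega
      haveI := hsolv _ hne
      haveI : Group.IsSolvable (alternatingGroup (Fin 5)) :=
        solvable_of_solvable_injective (f := e.symm.toMonoidHom) e.symm.injective
      obtain ⟨a, b, -, -, -, -, -, -, h⟩ := Dickson.alt_five_gens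
      exact h (commutatorElement_eq_one_iff_mul_comm.2 (IsSimpleGroup.comm_iff_isSolvable.2 inferInstance _ _))
    have noroot : ∀ r m : ℕ, 2 ≤ m → 4 ≤ r → Fintype.card F = r ^ m → False := by
      intro r m hm hr hq
      obtain ⟨L, hL, hLc⟩ := Dickson.exists_subfield_root (F := F) p (by omega) hq
      obtain ⟨H, hH, hH'⟩ := Dickson.exists_insolvable_sub hL hm (by rw [hLc]; exact hq) (by omega)
      exact hH' (hsolv H hH)
    by_cases hn1 : (n : ℕ) = 1
    · rw [hn1, pow_one] at hn
      rw [hn] at hG hq4 noicosa ⊢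
      by_cases h5 : p = 5
      · exact Or.inr (Or.inr (Or.inr h5))
      refine Or.inr (Or.inr (Or.inl ⟨hpp, ?_, ?_⟩))
      · have : p ≠ 4 := fun e => by rw [e] at hpp; norm_num at hpp
        omega
      · by_contra hc
        have h7 : 7 ≤ p := by
          have : p ≠ 4 := fun e => by rw [e] at hpp; norm_num at hpp
          have : p ≠ 6 := fun e => by rw [e] at hpp; norm_num at hpp
          omega
        have hm : p % 5 = 1 ∨ p % 5 = 4 := by
          have h0 : p % 5 ≠ 0 := fun e => h5 ((Nat.prime_dvd_prime_iff_eq (by norm_num) hpp).1 (Nat.dvd_of_mod_eq_zero e)).symm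
          omega
        refine noicosa (Dvd.dvd.mul_left ?_ _) ?_
        · have key : p ^ 2 - 1 = (p + 1) * (p - 1) := by simpa using Nat.sq_sub_sq p 1
          rw [key]
          rcases hm with e | e
          · exact Dvd.dvd.mul_left (by omega) _
          · exact Dvd.dvd.mul_right (by omega) _
        · have h2 : Nat.gcd 2 (p - 1) ≤ 2 := Nat.le_of_dvd two_pos (Nat.gcd_dvd_left _ _)
          have h48 : 48 ≤ p ^ 2 - 1 := by
            have : 49 ≤ p ^ 2 := by nlinarith
            omega
          have h3 := Nat.mul_le_mul h7 h48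
          have h4 := Nat.mul_le_mul_right (Nat.card (Matrix.ProjectiveSpecialLinearGroup (Fin 2) F)) h2
          omega
    · have hn2 : 2 ≤ (n : ℕ) := by have := n.pos; omega
      have hm := Nat.minFac_prime hn1
      obtain ⟨d, hd⟩ := Nat.minFac_dvd (n : ℕ)
      have hd0 : 1 ≤ d := by
        rcases Nat.eq_zero_or_pos d with e | e
        · rw [e, mul_zero] at hd; omega
        · exact e
      have hlt : p ^ d < 4 := by
        by_contra hge
        exact noroot (p ^ d) _ hm.two_le (by omega) (by rw [hn, ← pow_mul, mul_comm]; exact congrArg _ hd)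
      have hd1 : d = 1 := by
        by_contra hne
        have : 2 ^ 2 ≤ p ^ d := le_trans (Nat.pow_le_pow_left hpp.two_le 2) (Nat.pow_le_pow_right hpp.pos (by omega))
        omega
      rw [hd1, pow_one] at hlt
      rw [hd1, mul_one] at hd
      have hnp : (n : ℕ).Prime := hd ▸ hm
      rcases (show p = 2 ∨ p = 3 by have := hpp.two_le; omega) with e | e
      · exact Or.inl ⟨n, hnp, by rw [hn, e]⟩
      · refine Or.inr (Or.inl ⟨n, hnp, fun h2 => ?_, by rw [hn, e]⟩)
        rw [h2, e] at hn
        rw [hn] at hG noicosa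
        rw [show Nat.gcd 2 (3 ^ 2 - 1) = 2 by decide] at hG
        exact noicosa (by norm_num) (by omega)
  · intro h
    have hq4 : 4 ≤ Fintype.card F := by
      rcases h with ⟨r, hr, e⟩ | ⟨r, hr, -, e⟩ | ⟨-, e, -⟩ | e
      · rw [e]; exact le_trans (by norm_num) (Nat.pow_le_pow_right two_pos hr.two_le)
      · rw [e]; exact le_trans (by norm_num) (Nat.pow_le_pow_right (by norm_num) hr.two_le)
      · omega
      · omega
    haveI := Dickson.psl_simple_of_four_le hq4
    refine ⟨inferInstance, fun hc => ?_, fun H hH => ?_⟩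
    · exact Dickson.not_isSolvable_psl hq4 (IsSimpleGroup.comm_iff_isSolvable.1 fun a b => mul_comm' a b)
    have hpq : ∀ {r k : ℕ}, r.Prime → Fintype.card F = r ^ k → p = r := by
      intro r k hr e
      have hd : p ∣ r ^ k := e ▸ hn ▸ dvd_pow_self p n.pos.ne'
      exact (Nat.prime_dvd_prime_iff_eq hpp hr).1 (hpp.dvd_of_dvd_pow hd)
    rcases Dickson.solvable_cases p hq4 hH with hs | ⟨h2, h5, hd⟩ | ⟨K₀, hK₀, hK4, hKlt⟩
    · exact hs
    · exfalso
      rcases h with ⟨r, hr, e⟩ | ⟨r, hr, hr2, e⟩ | ⟨hq, -, hmod⟩ | e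
      · exact h2 (hpq Nat.prime_two e)
      · obtain ⟨j, hj⟩ := hr.odd_of_ne_two hr2
        have h9 : Fintype.card F ^ 2 % 5 = 4 := by
          rw [e, hj, ← pow_mul, show (2 * j + 1) * 2 = 4 * j + 2 by ring, pow_add, pow_mul, Nat.mul_mod, Nat.pow_mod]
          norm_num
        omega
      · have h4 : Fintype.card F ^ 2 % 5 = 4 := by
          rw [Nat.pow_mod]
          rcases hmod with e | e <;> rw [e] <;> norm_num
        omega
      · exact h5 (hpq (r := 5) (k := 1) (by norm_num) (by rw [e, pow_one]))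
    · exfalso
      obtain ⟨a, ha, hac⟩ := Dickson.card_subfield_pow p hK₀
      obtain ⟨m, hm0, hmc, -⟩ := Dickson.card_eq_pow hK₀ le_rfl
      rw [Dickson.card_fieldRange, hac, ← pow_mul] at hmc
      have hnam : (n : ℕ) = a * m := Nat.pow_right_injective hpp.two_le (hn.symm.trans hmc)
      have han : a < (n : ℕ) := by
        refine (Nat.pow_lt_pow_iff_right hpp.one_lt).1 ?_
        rw [← hn, ← hac]; exact hKlt
      have hone : (n : ℕ).Prime ∨ (n : ℕ) = 1 := by
        rcases h with ⟨r, hr, e⟩ | ⟨r, hr, -, e⟩ | ⟨hq, -, -⟩ | e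
        · have e2 := hpq Nat.prime_two e
          left; rwa [Nat.pow_right_injective (le_refl 2) (show 2 ^ (n : ℕ) = 2 ^ r by rw [← e, hn, e2])]
        · have e2 := hpq Nat.prime_three e
          left; rwa [Nat.pow_right_injective (show 2 ≤ 3 by norm_num) (show 3 ^ (n : ℕ) = 3 ^ r by rw [← e, hn, e2])]
        · rw [hn] at hq
          exact Or.inr hq.eq_one_of_pow
        · right
          refine Nat.Prime.eq_one_of_pow (x := p) ?_
          rw [← hn, e]; norm_num
      rcases hone with hp' | hp'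
      · rcases hp'.eq_one_or_self_of_dvd a ⟨m, hnam⟩ with e | e
        · rw [e, pow_one] at hac
          rcases h with ⟨r, hr, e'⟩ | ⟨r, hr, -, e'⟩ | ⟨hq, -, -⟩ | e'
          · have := hpq Nat.prime_two e'; omega
          · have := hpq Nat.prime_three e'; omega
          · rw [hn] at hq; exact absurd hq.eq_one_of_pow hp'.one_lt.ne'
          · rw [hn] at e'
            exact absurd (Nat.Prime.eq_one_of_pow (x := p) (e'.symm ▸ (by norm_num : Nat.Prime 5))) hp'.one_lt.ne'
        · omega
      · omega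

end Cfsg.Agent.S0810
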