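import Cfsg.Statements.S0811
import Cfsg.Agent.Lib.Classical.DicksonDihedral
import Cfsg.Agent.Lib.Classical.SL2Klein

set_option autoImplicit false
open Cfsg

open Cfsg.Agent.Classical
open scoped MatrixGroups Classical

namespace Cfsg.Agent.S0811

/-- For q ∉ {2, 7, 9}, PSL_2(q) has a maximal subgroup isomorphic to the dihedral group of order 2(q + 1)/d, d = gcd(2, q − 1). -/
theorem result {F : Type*} [Field F] [Fintype F] {q : ℕ} (hF : Fintype.card F = q) (hq : q ∉ ({2, 7, 9} : Finset ℕ)) : ∃ H : Subgroup (Matrix.ProjectiveSpecialLinearGroup (Fin 2) F), IsCoatom H ∧ Nonempty (H ≃* DihedralGroup ((q + 1) / Nat.gcd 2 (q - 1))) := by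
  subst hF
  obtain ⟨p, hp⟩ := CharP.exists F
  obtain ⟨s, hpp, hs⟩ := FiniteField.card F p
  haveI : Fact p.Prime := ⟨hpp⟩
  simp only [Finset.mem_insert, Finset.mem_singleton, not_or] at hq
  haveI : Finite (Matrix.ProjectiveSpecialLinearGroup (Fin 2) F) := Finite.of_surjective _ SL2Two.proj_surjective
  by_cases hq4 : 4 ≤ Fintype.card F
  · have hk3 : 3 ≤ (Fintype.card F + 1) / Nat.gcd 2 (Fintype.card F - 1) := by
      rcases (Dickson.ambient_pslF (F := F)).kind with ⟨-, h⟩ | ⟨-, h⟩ <;> omega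
    obtain ⟨M, hM, -, ⟨f⟩⟩ := Dickson.dihedral_max p hq4 hk3 (Or.inr rfl) hq.2.1 hq.2.2
      (fun h e => by rw [h] at e; norm_num at e)
    obtain ⟨H, hH, -, ⟨eH⟩⟩ := Dickson.exists_coatom Dickson.emb Dickson.emb_injective hM
    exact ⟨H, hH, ⟨eH.trans f⟩⟩
  · have h3 : Fintype.card F = 3 := by have := Fintype.one_lt_card (α := F); omega
    have h2 : (2 : F) ≠ 0 := SL2Two.two_ne_zero' (Nat.odd_iff.2 (by omega))
    have hk := SL2Two.twelve_mul_card_klein (F := F) h2
    obtain ⟨⟨V, hV⟩⟩ : Nonempty {V : Subgroup (Matrix.ProjectiveSpecialLinearGroup (Fin 2) F) // IsKleinFour V} := by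
      by_contra hc
      rw [not_nonempty_iff] at hc
      rw [Nat.card_of_isEmpty, mul_zero] at hk
      exact Nat.card_pos.ne hk
    have hc := SL2.card_PSL2_mul (F := F)
    rw [h3, show Nat.gcd 2 (3 - 1) = 2 by decide] at hc
    have hG : Nat.card (Matrix.ProjectiveSpecialLinearGroup (Fin 2) F) = 12 := by omega
    refine ⟨V, ⟨fun h => ?_, fun W hW => ?_⟩, ?_⟩
    · have := hV.card_four
      rw [h, Subgroup.card_top, hG] at this
      omega
    · by_contra hne
      have h1 : Nat.card V ∣ Nat.card W := Subgroup.card_dvd_of_le hW.le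
      have h2' : Nat.card W ∣ 12 := hG ▸ W.card_subgroup_dvd_card
      have h4 : Nat.card V < Nat.card W := by
        by_contra hlt
        exact hW.ne (Subgroup.eq_of_le_of_card_ge hW.le (by omega))
      have h5 : Nat.card W ≠ 12 := fun h => hne ((Subgroup.card_eq_iff_eq_top W).1 (h.trans hG.symm))
      rw [hV.card_four] at h1 h4
      have := Nat.le_of_dvd (by norm_num) h2'
      generalize Nat.card W = w at *
      interval_cases w <;> first | omega | norm_num at h1 h2'
    · rw [h3, show (3 + 1) / Nat.gcd 2 (3 - 1) = 2 by decide]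
      haveI := hV
      exact IsKleinFour.nonempty_mulEquiv

end Cfsg.Agent.S0811
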