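import Cfsg.Statements.S0812
import Cfsg.Agent.Lib.Classical.DicksonDihedral
import Cfsg.Agent.Lib.Classical.SL2Klein

set_option autoImplicit false
open Cfsg

open Cfsg.Agent.Classical
open scoped MatrixGroups Classical

namespace Cfsg.Agent.S0812

/-- For q ∉ {2, 3, 5, 7, 9, 11}, PSL_2(q) has a maximal subgroup isomorphic to the dihedral group of order 2(q − 1)/d, d = gcd(2, q − 1). -/
theorem result {F : Type*} [Field F] [Fintype F] {q : ℕ} (hF : Fintype.card F = q) (hq : q ∉ ({2, 3, 5, 7, 9, 11} : Finset ℕ)) : ∃ H : Subgroup (Matrix.ProjectiveSpecialLinearGroup (Fin 2) F), IsCoatom H ∧ Nonempty (H ≃* DihedralGroup ((q - 1) / Nat.gcd 2 (q - 1))) := by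
  subst hF
  obtain ⟨p, hp⟩ := CharP.exists F
  obtain ⟨s, hpp, hs⟩ := FiniteField.card F p
  haveI : Fact p.Prime := ⟨hpp⟩
  simp only [Finset.mem_insert, Finset.mem_singleton, not_or] at hq
  have := Fintype.one_lt_card (α := F)
  have hq4 : 4 ≤ Fintype.card F := by omega
  have hk3 : 3 ≤ (Fintype.card F - 1) / Nat.gcd 2 (Fintype.card F - 1) := by
    rcases (Dickson.ambient_pslF (F := F)).kind with ⟨h, -⟩ | ⟨h, -⟩ <;> omega
  obtain ⟨M, hM, -, ⟨f⟩⟩ := Dickson.dihedral_max p hq4 hk3 (Or.inl rfl) hq.2.2.2.1 hq.2.2.2.2.1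
    (fun h => absurd h hq.2.2.2.2.2)
  obtain ⟨H, hH, -, ⟨eH⟩⟩ := Dickson.exists_coatom Dickson.emb Dickson.emb_injective hM
  exact ⟨H, hH, ⟨eH.trans f⟩⟩

end Cfsg.Agent.S0812
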