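import Cfsg.Statements.S0814
import Cfsg.Agent.Lib.Classical.SympGraph

set_option autoImplicit false
open Cfsg

namespace Cfsg.Agent.S0814

/-- |Aut(PSp_2m(q))| = gcd(2, q−1) · f · |PSp_2m(q)| for q = p^f, m ≥ 2, (m, q) ≠ (2, 2), with an extra factor 2 exactly when m = 2 and p = 2. -/
theorem result {F : Type*} [Field F] [Fintype F] (p f : ℕ) [Fact p.Prime] (hf : 1 ≤ f) (hF : Fintype.card F = p ^ f) (m : ℕ) (hm : 2 ≤ m) (h22 : m = 2 → 3 ≤ p ^ f) : Nat.card (MulAut (Cfsg.PSp m F)) = (if m = 2 ∧ p = 2 then 2 else 1) * Nat.gcd 2 (p ^ f - 1) * f * Nat.card (Cfsg.PSp m F) := by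
  obtain ⟨p', hp'⟩ := CharP.exists F
  obtain ⟨k, hpp, hk⟩ := FiniteField.card F p'
  obtain rfl : p' = p := (Nat.prime_eq_prime_of_dvd_pow hpp Fact.out
    (hk.symm.trans hF ▸ dvd_pow_self p' k.ne_zero))
  have hiff : (2 : F) = 0 ↔ p' = 2 := by
    rw [show (2 : F) = ((2 : ℕ) : F) by norm_num, CharP.cast_eq_zero_iff F p' 2]
    exact (Nat.prime_dvd_prime_iff_eq hpp Nat.prime_two)
  split_ifs with h
  · obtain ⟨rfl, hp2⟩ := h
    rw [Cfsg.Agent.PSpAut.card_aut_exceptional (hiff.2 hp2) hf hF]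
    ring
  · rw [one_mul, ← Cfsg.Agent.PSpAut.card_semiSub hm hf hF,
      show Cfsg.Agent.PSpAut.semiSub (F := F) (m := m) = ⊤ from (Subgroup.eq_top_iff' _).2 fun β =>
        Cfsg.Agent.PSpAut.aut_eq hm (fun e => h ⟨e.1, hiff.1 e.2⟩) β, Subgroup.card_top]

end Cfsg.Agent.S0814
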