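import Cfsg.Statements.S0821
import Cfsg.Agent.Lib.Classical.SympInvolution
import Cfsg.Agent.Lib.Classical.SymplecticMatrix
import Cfsg.Agent.Lib.Classical.OrthInvolution

set_option autoImplicit false
open Cfsg

namespace Cfsg.Agent.S0821

/-- PSp_2m(q) ≇ PΩ_(2m+1)(q) for q odd and m ≥ 3 (they have the same order). -/
theorem result {F : Type*} [Field F] [Fintype F] (hodd : Odd (Fintype.card F)) (m : ℕ) (hm : 3 ≤ m) : IsEmpty (Cfsg.PSp m F ≃* Cfsg.POmega F (Cfsg.quadFormOdd m F)) := by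
  classical
  have h2 : (2 : F) ≠ 0 := by
    apply Ring.two_ne_zero
    intro h
    have := FiniteField.even_card_of_char_two (F := F) h
    rw [Nat.odd_iff] at hodd
    omega
  obtain ⟨r, s, hrs⟩ := Cfsg.Agent.Classical.Sp.exists_sq_add_sq h2 (-1 : F)
  obtain ⟨u, hu1, hu2, hu3⟩ := Cfsg.Agent.Classical.OrthInv.exists_involutions hm h2 r s hrs
  refine ⟨fun e => ?_⟩
  let φ := e.symm.trans (Cfsg.Agent.Classical.Sp.pspEquiv m)
  obtain ⟨i, j, hij, hc⟩ := Cfsg.Agent.Classical.Sp.exists_conj_invol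
    (Cfsg.Agent.Classical.Sp.sympB F m) (Cfsg.Agent.Classical.Sp.sympB_isAlt m)
    (Cfsg.Agent.Classical.Sp.sympB_nondeg m) h2 (Cfsg.Agent.Classical.Sp.finrank_space m)
    (ι := Fin m) (by rw [Fintype.card_fin]; omega) (fun i => φ (u i))
    (fun i h => hu1 i (φ.injective (by rw [map_one]; exact h)))
    (fun i => by rw [← map_mul, hu2, map_one])
  obtain ⟨c, hc⟩ := isConj_iff.1 hc
  refine hij (hu3 i j (isConj_iff.2 ⟨φ.symm c, φ.injective ?_⟩))
  rw [map_mul, map_mul, map_inv, MulEquiv.apply_symm_apply]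
  exact hc

end Cfsg.Agent.S0821
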