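import Cfsg.Statements.S0823
import Cfsg.Agent.Lib.Classical.SmallIso

set_option autoImplicit false
open Cfsg

open Cfsg.Agent.Classical
open Matrix

namespace Cfsg.Agent.S0823

abbrev I3 := Unit ⊕ (Fin 1 ⊕ Fin 1)
abbrev Z := ZMod 3

def coord : Fin 3 → I3 := ![.inl (), .inr (.inl 0), .inr (.inr 0)]

def coordEquiv : Fin 3 ≃ I3 where
  toFun := coord
  invFun := Sum.elim (fun _ => 0) (Sum.elim (fun _ => 1) (fun _ => 2))
  left_inv := by decide
  right_inv := by decide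

/-- The columns: a basis of the sum-zero vectors. -/
def Bm : Matrix (Fin 4) I3 Z := Matrix.of fun k =>
  Sum.elim (fun _ => ![0, 0, 1, 2] k) (Sum.elim (fun _ => ![0, 1, 1, 1] k) (fun _ => ![2, 0, 2, 2] k))

/-- Coordinates of a sum-zero vector. -/
def Cm : Matrix I3 (Fin 4) Z := Matrix.of
  (Sum.elim (fun _ => ![0, 0, 2, 1]) (Sum.elim (fun _ => ![2, 0, 2, 2]) (fun _ => ![0, 1, 1, 1])))

def sg (σ : Equiv.Perm (Fin 4)) : Z := if Equiv.Perm.sign σ = 1 then 1 else 2

def Pm (σ : Equiv.Perm (Fin 4)) : Matrix (Fin 4) (Fin 4) Z := Matrix.of fun i j => if σ j = i then sg σ else 0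

theorem sg_mul : ∀ σ τ : Equiv.Perm (Fin 4), sg (σ * τ) = sg σ * sg τ := by decide +kernel

theorem Pm_mul (σ τ : Equiv.Perm (Fin 4)) : Pm (σ * τ) = Pm σ * Pm τ := by
  ext i j
  simp [Pm, Matrix.mul_apply, sg_mul]
  try (split_ifs <;> simp_all)

theorem cb : Cm * Bm = 1 := by decide +kernel
theorem cols_ok : ∀ τ : Equiv.Perm (Fin 4), Bm * (Cm * (Pm τ * Bm)) = Pm τ * Bm := by decide +kernel
theorem Pm_one : Pm 1 = 1 := by decide +kernel

def Mh : Equiv.Perm (Fin 4) →* Matrix I3 I3 Z where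
  toFun σ := Cm * (Pm σ * Bm)
  map_one' := by rw [Pm_one, Matrix.one_mul, cb]
  map_mul' σ τ := by
    rw [Pm_mul, Matrix.mul_assoc Cm, Matrix.mul_assoc (Pm σ), Matrix.mul_assoc (Pm σ), cols_ok]

theorem Mh_inj : ∀ σ : Equiv.Perm (Fin 4), Mh σ = 1 → σ = 1 := by decide +kernel

def Qz (v : I3 → Z) : Z := Cfsg.quadFormOdd 1 Z v

theorem Mh_pres : ∀ σ : Equiv.Perm (Fin 4), ∀ u : I3 → Z, Qz (Mh σ *ᵥ u) = Qz u := by decide +kernel

theorem Mh_det : ∀ σ : Equiv.Perm (Fin 4), ((Mh σ).submatrix coord coord).det = 1 := by decide +kernel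

def val3 (i : Fin 3) : Z := if i = 0 then 0 else if i = 1 then 1 else 2

def vecs : List (I3 → Z) := (List.finRange 3).flatMap fun a => (List.finRange 3).flatMap fun b =>
  (List.finRange 3).map fun c => Sum.elim (fun _ => val3 a) (Sum.elim (fun _ => val3 b) (fun _ => val3 c))

def pol (u v : I3 → Z) : Z := Qz (u + v) - Qz u - Qz v

def det3 (a b c : I3 → Z) : Z :=
  let p := fun (v : I3 → Z) (i : Fin 3) => v (coord i)
  p a 0 * p b 1 * p c 2 - p a 0 * p c 1 * p b 2 - p b 0 * p a 1 * p c 2 + p b 0 * p c 1 * p a 2 +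
    p c 0 * p a 1 * p b 2 - p c 0 * p b 1 * p a 2

def cols : List (Fin 3 → I3 → Z) :=
  (vecs.filter fun a => Qz a == 1).flatMap fun a =>
  (vecs.filter fun b => Qz b == 0 && pol a b == 0).flatMap fun b =>
  (vecs.filter fun c => Qz c == 0 && pol a c == 0 && pol b c == 1 && det3 a b c == 1).map fun c => ![a, b, c]

theorem cols_length : cols.length = 24 := by decide +kernel

theorem vecs_all : ∀ v : I3 → Z, v ∈ vecs := by decide +kernel

theorem std : Qz (Pi.single (coord 0) 1) = 1 ∧ Qz (Pi.single (coord 1) 1) = 0 ∧ Qz (Pi.single (coord 2) 1) = 0 ∧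
    pol (Pi.single (coord 0) 1) (Pi.single (coord 1) 1) = 0 ∧
    pol (Pi.single (coord 0) 1) (Pi.single (coord 2) 1) = 0 ∧
    pol (Pi.single (coord 1) 1) (Pi.single (coord 2) 1) = 1 := by decide +kernel

theorem card_le : Nat.card (Cfsg.specialIsometryGroup Z (Cfsg.quadFormOdd 1 Z)) ≤ 24 := by
  rw [← cols_length]
  refine SmallIso.card_le_of_columns (H := Cfsg.specialIsometryGroup Z (Cfsg.quadFormOdd 1 Z))
    (fun g => (((g : Cfsg.isometryGroup Z (Cfsg.quadFormOdd 1 Z)) : GL I3 Z) : Matrix I3 I3 Z))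
    (fun a b h => Subtype.ext (Subtype.ext (Units.ext (by exact h)))) coordEquiv cols fun g => ?_
  set A := (((g : Cfsg.isometryGroup Z (Cfsg.quadFormOdd 1 Z)) : GL I3 Z) : Matrix I3 I3 Z) with hA
  have hg : ∀ u, Qz (A *ᵥ u) = Qz u := fun u => g.1.2 u u
  have hp : ∀ u v, pol (A *ᵥ u) (A *ᵥ v) = pol u v :=
    fun u v => by simp only [pol, ← Matrix.mulVec_add, hg]
  have hd : A.det = 1 := congrArg Units.val (g.2 : Matrix.GeneralLinearGroup.det ((g : Cfsg.isometryGroup Z (Cfsg.quadFormOdd 1 Z)) : GL I3 Z) = 1)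
  obtain ⟨s0, s1, s2, p01, p02, p12⟩ := std
  simp only [cols, List.mem_flatMap, List.mem_map, List.mem_filter, Bool.and_eq_true, beq_iff_eq]
  refine ⟨A *ᵥ Pi.single (coord 0) 1, ⟨vecs_all _, (hg _).trans s0⟩,
    A *ᵥ Pi.single (coord 1) 1, ⟨vecs_all _, (hg _).trans s1, (hp _ _).trans p01⟩,
    A *ᵥ Pi.single (coord 2) 1, ⟨vecs_all _, ⟨⟨(hg _).trans s2, (hp _ _).trans p02⟩, (hp _ _).trans p12⟩, ?_⟩, ?_⟩
  · refine Eq.trans ?_ hd
    rw [← Matrix.det_submatrix_equiv_self coordEquiv A, Matrix.det_fin_three]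
    simp [det3, coordEquiv]
  funext k i
  fin_cases k <;> simp [coordEquiv, coord, Matrix.mulVec_single_one]

end Cfsg.Agent.S0823


namespace Cfsg.Agent.S0823

/-- SO_3(3) ≅ S_4: the determinant-one isometries of the form x_0² + x_1y_1 over the field with 3 elements form a group isomorphic to the symmetric group on 4 letters. -/
theorem result {F : Type*} [Field F] [Fintype F] (hF : Fintype.card F = 3) : Nonempty (↥(Cfsg.specialIsometryGroup F (Cfsg.quadFormOdd 1 F)) ≃* Equiv.Perm (Fin 4)) := by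
  classical
  haveI : Fact (Nat.Prime 3) := ⟨Nat.prime_three⟩
  obtain ⟨e⟩ := SmallIso.exists_zmod (p := 3) hF
  obtain ⟨i1⟩ := SmallIso.special_congr e (Cfsg.quadFormOdd 1 F) (Cfsg.quadFormOdd 1 Z)
    (fun v => by simp [Cfsg.quadFormOdd, map_add, map_mul, map_pow])
  let f : Equiv.Perm (Fin 4) →* Cfsg.specialIsometryGroup Z (Cfsg.quadFormOdd 1 Z) :=
    (Mh.toHomUnits.codRestrict (Cfsg.isometryGroup Z (Cfsg.quadFormOdd 1 Z)) fun σ => fun u _ => Mh_pres σ u).codRestrict _ fun σ => by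
      show Matrix.GeneralLinearGroup.det (Mh.toHomUnits σ) = 1
      apply Units.ext
      rw [Matrix.GeneralLinearGroup.val_det_apply]
      show (Mh σ).det = _
      rw [← Matrix.det_submatrix_equiv_self coordEquiv (Mh σ)]
      exact Mh_det σ
  have hinj : Function.Injective f := (injective_iff_map_eq_one f).2 fun σ hσ =>
    Mh_inj σ (congrArg (fun g : Cfsg.specialIsometryGroup Z (Cfsg.quadFormOdd 1 Z) => ((g : Cfsg.isometryGroup Z (Cfsg.quadFormOdd 1 Z)) : GL I3 Z).val) hσ)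
  obtain ⟨j⟩ := SmallIso.of_hom f hinj (card_le.trans (by rw [Nat.card_perm, Nat.card_fin]; rfl))
  exact ⟨i1.trans j⟩

end Cfsg.Agent.S0823
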