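import Cfsg.Statements.S0824
import Cfsg.Agent.Lib.Classical.SmallIso

set_option autoImplicit false
open Cfsg

open Cfsg.Agent.Classical
open Matrix

namespace Cfsg.Agent.S0824

abbrev I4 := (Fin 1 ⊕ Fin 1) ⊕ Fin 2
abbrev Z := ZMod 2

def coord : Fin 4 → I4 := ![.inl (.inl 0), .inl (.inr 0), .inr 0, .inr 1]

def coordEquiv : Fin 4 ≃ I4 where
  toFun := coord
  invFun := Sum.elim (Sum.elim (fun _ => 0) (fun _ => 1)) ![2, 3]
  left_inv := by decide
  right_inv := by decide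

/-- The columns: a basis of the even vectors. -/
def Bm : Matrix (Fin 5) I4 Z := Matrix.of fun k =>
  Sum.elim (Sum.elim (fun _ => ![1, 1, 1, 1, 0] k) (fun _ => ![1, 1, 1, 0, 1] k))
    ![![1, 1, 0, 0, 0] k, ![0, 1, 1, 0, 0] k]

/-- Coordinates of an even vector. -/
def Cm : Matrix I4 (Fin 5) Z := Matrix.of
  (Sum.elim (Sum.elim (fun _ => ![1, 1, 1, 0, 1]) (fun _ => ![1, 1, 1, 1, 0]))
    ![![0, 1, 1, 0, 0], ![1, 1, 0, 0, 0]])

def Pm (σ : Equiv.Perm (Fin 5)) : Matrix (Fin 5) (Fin 5) Z := Matrix.of fun i j => if σ j = i then 1 else 0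

theorem Pm_mul (σ τ : Equiv.Perm (Fin 5)) : Pm (σ * τ) = Pm σ * Pm τ := by
  ext i j
  simp [Pm, Matrix.mul_apply]
  try (split_ifs <;> simp_all)

theorem cb : Cm * Bm = 1 := by decide +kernel
theorem even_cols : ∀ τ : Equiv.Perm (Fin 5), Bm * (Cm * (Pm τ * Bm)) = Pm τ * Bm := by decide +kernel

def Mh : Equiv.Perm (Fin 5) →* Matrix I4 I4 Z where
  toFun σ := Cm * (Pm σ * Bm)
  map_one' := by
    have : Pm 1 = 1 := by ext i j; simp [Pm, Matrix.one_apply, eq_comm]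
    rw [this, Matrix.one_mul, cb]
  map_mul' σ τ := by
    rw [Pm_mul, Matrix.mul_assoc Cm, Matrix.mul_assoc (Pm σ), Matrix.mul_assoc (Pm σ), even_cols]

theorem Mh_inj : ∀ σ : Equiv.Perm (Fin 5), Mh σ = 1 → σ = 1 := by decide +kernel

def Qz (v : I4 → Z) : Z := Cfsg.quadFormMinus 1 Z 1 1 v

theorem Mh_pres : ∀ σ : Equiv.Perm (Fin 5), ∀ u : I4 → Z, Qz (Mh σ *ᵥ u) = Qz u := by decide +kernel

def bit (i : Fin 2) : Z := if i = 0 then 0 else 1

def vecs : List (I4 → Z) := (List.finRange 2).flatMap fun a => (List.finRange 2).flatMap fun b =>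
  (List.finRange 2).flatMap fun c => (List.finRange 2).map fun d =>
    Sum.elim (Sum.elim (fun _ => bit a) (fun _ => bit b)) ![bit c, bit d]

def pol (u v : I4 → Z) : Z := Qz (u + v) - Qz u - Qz v

def cols : List (Fin 4 → I4 → Z) :=
  (vecs.filter fun a => Qz a == 0).flatMap fun a =>
  (vecs.filter fun b => Qz b == 0 && pol a b == 1).flatMap fun b =>
  (vecs.filter fun c => Qz c == 1 && pol a c == 0 && pol b c == 0).flatMap fun c =>
  (vecs.filter fun d => Qz d == 1 && pol a d == 0 && pol b d == 0 && pol c d == 1).map fun d => ![a, b, c, d]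

theorem cols_length : cols.length = 120 := by decide +kernel

theorem vecs_all : ∀ v : I4 → Z, v ∈ vecs := by decide +kernel

theorem std : Qz (Pi.single (coord 0) 1) = 0 ∧ Qz (Pi.single (coord 1) 1) = 0 ∧
    Qz (Pi.single (coord 2) 1) = 1 ∧ Qz (Pi.single (coord 3) 1) = 1 ∧
    pol (Pi.single (coord 0) 1) (Pi.single (coord 1) 1) = 1 ∧
    pol (Pi.single (coord 0) 1) (Pi.single (coord 2) 1) = 0 ∧
    pol (Pi.single (coord 1) 1) (Pi.single (coord 2) 1) = 0 ∧
    pol (Pi.single (coord 0) 1) (Pi.single (coord 3) 1) = 0 ∧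
    pol (Pi.single (coord 1) 1) (Pi.single (coord 3) 1) = 0 ∧
    pol (Pi.single (coord 2) 1) (Pi.single (coord 3) 1) = 1 := by decide +kernel

theorem card_le : Nat.card (Cfsg.isometryGroup Z (Cfsg.quadFormMinus 1 Z 1 1)) ≤ 120 := by
  rw [← cols_length]
  refine SmallIso.card_le_of_columns (H := Cfsg.isometryGroup Z (Cfsg.quadFormMinus 1 Z 1 1)) (fun g => ((g : GL I4 Z) : Matrix I4 I4 Z))
    (fun (a b : Cfsg.isometryGroup Z (Cfsg.quadFormMinus 1 Z 1 1)) h => Subtype.ext (Units.ext (by exact h))) coordEquiv cols fun g => ?_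
  have hg : ∀ u, Qz (((g : GL I4 Z) : Matrix I4 I4 Z) *ᵥ u) = Qz u := fun u => g.2 u u
  have hp : ∀ u v, pol (((g : GL I4 Z) : Matrix I4 I4 Z) *ᵥ u) (((g : GL I4 Z) : Matrix I4 I4 Z) *ᵥ v) = pol u v :=
    fun u v => by simp only [pol, ← Matrix.mulVec_add, hg]
  obtain ⟨s0, s1, s2, s3, p01, p02, p12, p03, p13, p23⟩ := std
  simp only [cols, List.mem_flatMap, List.mem_map, List.mem_filter, Bool.and_eq_true, beq_iff_eq]
  let col : Fin 4 → I4 → Z := fun k => ((g : GL I4 Z) : Matrix I4 I4 Z) *ᵥ Pi.single (coord k) 1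
  refine ⟨col 0, ⟨vecs_all _, (hg _).trans s0⟩, col 1, ⟨vecs_all _, (hg _).trans s1, (hp _ _).trans p01⟩,
    col 2, ⟨vecs_all _, ⟨(hg _).trans s2, (hp _ _).trans p02⟩, (hp _ _).trans p12⟩,
    col 3, ⟨vecs_all _, ⟨⟨(hg _).trans s3, (hp _ _).trans p03⟩, (hp _ _).trans p13⟩, (hp _ _).trans p23⟩, ?_⟩
  funext k i
  fin_cases k <;> simp [col, coordEquiv, coord, Matrix.mulVec_single_one]

end Cfsg.Agent.S0824


namespace Cfsg.Agent.S0824

/-- O⁻_4(2) ≅ S_5: the isometry group of the form x y + z_1² + z_1 z_2 + z_2² over the field with 2 elements is isomorphic to the symmetric group on 5 letters. -/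
theorem result {F : Type*} [Field F] [Fintype F] (hF : Fintype.card F = 2) : Nonempty (↥(Cfsg.isometryGroup F (Cfsg.quadFormMinus 1 F 1 1)) ≃* Equiv.Perm (Fin 5)) := by
  classical
  haveI : Fact (Nat.Prime 2) := ⟨Nat.prime_two⟩
  obtain ⟨e⟩ := SmallIso.exists_zmod (p := 2) hF
  let i1 := SmallIso.isometryEquiv e (Cfsg.quadFormMinus 1 F 1 1) (Cfsg.quadFormMinus 1 Z 1 1)
    (fun v => by simp [Cfsg.quadFormMinus, map_add, map_mul, map_pow])
  let f : Equiv.Perm (Fin 5) →* Cfsg.isometryGroup Z (Cfsg.quadFormMinus 1 Z 1 1) :=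
    Mh.toHomUnits.codRestrict _ fun σ => fun u _ => Mh_pres σ u
  have hinj : Function.Injective f := (injective_iff_map_eq_one f).2 fun σ hσ =>
    Mh_inj σ (congrArg (fun g => ((g : Cfsg.isometryGroup Z (Cfsg.quadFormMinus 1 Z 1 1)) : GL I4 Z).val) hσ)
  haveI : Finite (Cfsg.isometryGroup Z (Cfsg.quadFormMinus 1 Z 1 1)) := inferInstance
  obtain ⟨j⟩ := SmallIso.of_hom f hinj (card_le.trans (by rw [Nat.card_perm, Nat.card_fin]; rfl))
  exact ⟨i1.trans j⟩

end Cfsg.Agent.S0824
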