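import Cfsg.Statements.S0828
import Cfsg.Agent.Lib.Classical.SympCount

set_option autoImplicit false
open Cfsg

open Cfsg.Agent.Classical Cfsg.Agent.Classical.Sp

namespace Cfsg.Agent.S0828

/-- The symplectic generalised quadrangle over a field with q elements: the number of 2-dimensional subspaces of F^4 on which the symplectic form vanishes is (q + 1)(q² + 1), and every non-zero vector lies in exactly q + 1 of them. -/
theorem result {F : Type*} [Field F] [Fintype F] {q : ℕ} (hF : Fintype.card F = q) : Nat.card {W : Submodule F (Fin 2 ⊕ Fin 2 → F) // Module.finrank F W = 2 ∧ ∀ u ∈ W, ∀ v ∈ W, Cfsg.sympForm 2 F u v = 0} = (q + 1) * (q ^ 2 + 1) ∧ ∀ v : Fin 2 ⊕ Fin 2 → F, v ≠ 0 → Nat.card {W : Submodule F (Fin 2 ⊕ Fin 2 → F) // Module.finrank F W = 2 ∧ v ∈ W ∧ ∀ u ∈ W, ∀ w ∈ W, Cfsg.sympForm 2 F u w = 0} = q + 1 := by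
  classical
  have hA := sympB_isAlt (F := F) 2
  have hB := sympB_nondeg (F := F) 2
  have hn := finrank_space (F := F) 2
  set V := Fin 2 ⊕ Fin 2 → F with hV
  set B := sympB F 2 with hBdef
  have hqF : Nat.card F = q := by rw [Nat.card_eq_fintype_card, hF]
  have hq1 : 1 < q := hF ▸ Fintype.one_lt_card
  have hsq : q ^ 2 - q = q * (q - 1) := by rw [Nat.mul_sub, mul_one, sq]
  have hsq1 : q ^ 2 - 1 = (q + 1) * (q - 1) := by
    rw [show q ^ 2 - 1 = q ^ 2 - 1 ^ 2 by norm_num, Nat.sq_sub_sq]
  have hsq3 : q ^ 3 - q = q * ((q + 1) * (q - 1)) := by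
    rw [← hsq1, Nat.mul_sub, mul_one]; ring_nf
  have hsq4 : q ^ 4 - 1 = (q ^ 2 + 1) * ((q + 1) * (q - 1)) := by
    rw [← hsq1, show q ^ 4 - 1 = (q ^ 2) ^ 2 - 1 ^ 2 by ring_nf, Nat.sq_sub_sq]
  have hbil : ∀ u v, Cfsg.sympForm 2 F u v = B u v := fun u v => (sympB_apply 2 u v).symm
  have hspan : ∀ x y : V, B x y = 0 → ∀ a ∈ Submodule.span F ({x, y} : Set V),
      ∀ b ∈ Submodule.span F ({x, y} : Set V), B a b = 0 := by
    intro x y h a ha b hb
    obtain ⟨s, t, rfl⟩ := Submodule.mem_span_pair.1 ha
    obtain ⟨s', t', rfl⟩ := Submodule.mem_span_pair.1 hb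
    simp [hA.self_eq_zero, h, alt_neg B hA x y]
  refine ⟨?_, fun v hv => ?_⟩
  · let P := {W : Submodule F V // Module.finrank F W = 2 ∧ ∀ u ∈ W, ∀ v ∈ W, Cfsg.sympForm 2 F u v = 0}
    haveI : Fintype P := Fintype.ofFinite _
    have hfr : Nat.card (SympCount.Frames B 2) = (q ^ 4 - 1) * (q ^ 3 - q) := by
      rw [SympCount.card_frames_succ B hA hB hn, SympCount.card_frames_succ B hA hB hn]
      haveI : Unique (SympCount.Frames B 0) :=
        { default := ⟨Fin.elim0, linearIndependent_empty_type, fun i => i.elim0⟩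
          uniq := fun r => Subtype.ext (funext fun i => i.elim0) }
      rw [Nat.card_unique, hqF]
      norm_num
    let f : SympCount.Frames B 2 → P := fun r => ⟨Submodule.span F (Set.range r.1), by
      refine ⟨by rw [finrank_span_eq_card r.2.1, Fintype.card_fin], fun a ha b hb => ?_⟩
      rw [hbil]
      have hr : Set.range r.1 = {r.1 0, r.1 1} := by
        ext x; simp [Fin.exists_fin_two, eq_comm]
      rw [hr] at ha hb
      exact hspan _ _ (r.2.2 0 1) a ha b hb⟩
    have hfib : ∀ W : P, Nat.card {r // f r = W} = (q ^ 2 - 1) * (q ^ 2 - q) := by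
      rintro ⟨W, hW2, hW⟩
      rw [show (q ^ 2 - 1) * (q ^ 2 - q) = Nat.card {s : Fin 2 → W // LinearIndependent F s} by
        rw [card_linearIndependent (le_of_eq hW2.symm), hW2, Fin.prod_univ_two, hF]; simp]
      refine Nat.card_congr (Equiv.ofBijective (fun s => (⟨fun i => ⟨s.1.1 i, ?_⟩,
        LinearIndependent.of_comp W.subtype s.1.2.1⟩ : {s : Fin 2 → W // LinearIndependent F s})) ⟨?_, ?_⟩)
      · have : Submodule.span F (Set.range s.1.1) = W := congrArg Subtype.val s.2
        exact this.le (Submodule.subset_span ⟨i, rfl⟩)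
      · intro a b e
        exact Subtype.ext (Subtype.ext (funext fun i =>
          congrArg Subtype.val (congrFun (congrArg Subtype.val e) i)))
      · rintro ⟨s, hs⟩
        have hs' : LinearIndependent F (fun i => (s i : V)) := hs.map' W.subtype W.ker_subtype
        refine ⟨⟨⟨fun i => (s i : V), hs', fun i j => (hbil _ _).symm.trans (hW _ (s i).2 _ (s j).2)⟩,
          Subtype.ext ?_⟩, rfl⟩
        refine Submodule.eq_of_le_of_finrank_le (Submodule.span_le.2 ?_) ?_
        · rintro _ ⟨i, rfl⟩; exact (s i).2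
        · rw [finrank_span_eq_card hs', Fintype.card_fin, hW2]
    have h := Nat.card_congr (Equiv.sigmaFiberEquiv f)
    rw [Nat.card_sigma, Finset.sum_congr rfl fun W _ => hfib W, Finset.sum_const, Finset.card_univ,
      smul_eq_mul, ← Nat.card_eq_fintype_card, hfr, hsq, hsq1, hsq3, hsq4] at h
    show Nat.card P = _
    have h0 : 0 < (q + 1) * (q - 1) * (q * (q - 1)) := by
      have : 0 < q - 1 := by omega
      positivity
    refine Nat.eq_of_mul_eq_mul_right h0 (h.trans ?_)
    ring
  · let P := {W : Submodule F V // Module.finrank F W = 2 ∧ v ∈ W ∧ ∀ u ∈ W, ∀ w ∈ W, Cfsg.sympForm 2 F u w = 0}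
    haveI : Fintype P := Fintype.ofFinite _
    have hr : LinearIndependent F (fun _ : Fin 1 => v) :=
      linearIndependent_unique_iff.2 hv
    let r : SympCount.Frames B 1 := ⟨fun _ => v, hr, fun _ _ => hA v⟩
    let S := {w : V // w ∉ Submodule.span F (Set.range r.1) ∧ ∀ i, B (r.1 i) w = 0}
    have hS : Nat.card S = q ^ 3 - q := by
      rw [SympCount.card_perp B hA hB hn r, hqF, pow_one]
    have hrange : Set.range r.1 = {v} := Set.range_const
    have hli : ∀ w : S, LinearIndependent F ![v, w.1] := fun w => by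
      rw [LinearIndependent.pair_iff' hv]
      intro a e
      exact w.2.1 (e ▸ Submodule.smul_mem _ a (Submodule.subset_span ⟨0, rfl⟩))
    let f : S → P := fun w => ⟨Submodule.span F {v, w.1}, by
      refine ⟨?_, Submodule.subset_span (Set.mem_insert _ _), fun a ha b hb => ?_⟩
      · have := finrank_span_eq_card (hli w)
        rwa [Matrix.range_cons, Matrix.range_cons, Matrix.range_empty, Set.union_empty,
          Set.singleton_union, Fintype.card_fin] at this
      · rw [hbil]; exact hspan _ _ (w.2.2 0) a ha b hb⟩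
    have hfib : ∀ W : P, Nat.card {w // f w = W} = q ^ 2 - q := by
      rintro ⟨W, hW2, hvW, hW⟩
      have hle : Submodule.span F {v} ≤ W := Submodule.span_le.2 (by simpa using hvW)
      have e : {w // f w = (⟨W, hW2, hvW, hW⟩ : P)} ≃ {w : V // w ∈ W ∧ w ∉ Submodule.span F ({v} : Set V)} :=
        { toFun := fun w => ⟨w.1.1, by
            have : Submodule.span F ({v, w.1.1} : Set V) = W := congrArg Subtype.val w.2
            exact ⟨this.le (Submodule.subset_span (by simp)), fun hm => w.1.2.1 (Submodule.span_mono hrange.ge hm)⟩⟩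
          invFun := fun w => ⟨⟨w.1, fun hm => w.2.2 (Submodule.span_mono hrange.le hm), fun _ => (hbil _ _).symm.trans (hW _ hvW _ w.2.1)⟩,
            Subtype.ext (Submodule.eq_of_le_of_finrank_le
              (Submodule.span_le.2 (Set.insert_subset hvW (Set.singleton_subset_iff.2 w.2.1))) (by
                rw [hW2]
                have := (f ⟨w.1, fun hm => w.2.2 (Submodule.span_mono hrange.le hm), fun _ => (hbil _ _).symm.trans (hW _ hvW _ w.2.1)⟩).2.1
                exact this.ge))⟩
          left_inv := fun _ => rfl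
          right_inv := fun _ => rfl }
      rw [Nat.card_congr e, Nat.card_eq_fintype_card, Fintype.card_subtype,
        show (Finset.univ.filter fun w : V => w ∈ W ∧ w ∉ Submodule.span F ({v} : Set V)) =
          (Finset.univ.filter fun w : V => w ∈ W) \
            (Finset.univ.filter fun w : V => w ∈ Submodule.span F ({v} : Set V)) by ext; simp,
        Finset.card_sdiff_of_subset (by intro w; simpa using fun h => hle h), ← Fintype.card_subtype,
        ← Fintype.card_subtype, ← Nat.card_eq_fintype_card, ← Nat.card_eq_fintype_card]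
      show Nat.card W - Nat.card (Submodule.span F ({v} : Set V)) = _
      rw [Module.natCard_eq_pow_finrank (K := F) (V := W),
        Module.natCard_eq_pow_finrank (K := F) (V := Submodule.span F ({v} : Set V)),
        finrank_span_singleton hv, hW2, hqF, pow_one]
    have h := Nat.card_congr (Equiv.sigmaFiberEquiv f)
    rw [Nat.card_sigma, Finset.sum_congr rfl fun W _ => hfib W, Finset.sum_const, Finset.card_univ,
      smul_eq_mul, ← Nat.card_eq_fintype_card, hS, hsq, hsq3] at h
    show Nat.card P = _
    have h0 : 0 < q * (q - 1) := by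
      have : 0 < q - 1 := by omega
      positivity
    refine Nat.eq_of_mul_eq_mul_right h0 (h.trans ?_)
    ring

end Cfsg.Agent.S0828
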