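import Cfsg.Statements.S0830
import Cfsg.Agent.Lib.Classical.UnitaryLines

set_option autoImplicit false
open Cfsg

open Cfsg.Agent.Classical

namespace Cfsg.Agent.S0830

/-- The unitary quadrangle of PSU_5(q): with |F| = q², the number of 2-dimensional subspaces of F^5 on which the Hermitian form vanishes is (q³ + 1)(q⁵ + 1). -/
theorem result {F : Type*} [Field F] [Fintype F] {q : ℕ} (hF : Fintype.card F = q ^ 2) : Nat.card {W : Submodule F (Fin 5 → F) // Module.finrank F W = 2 ∧ ∀ u ∈ W, ∀ v ∈ W, Cfsg.hermForm 5 F q u v = 0} = (q ^ 3 + 1) * (q ^ 5 + 1) := by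
  have h := Unitary.card_TI2_mul hF 5
  have hq := Unitary.one_lt_q hF
  rw [show 5 - 2 = 3 from rfl, Unitary.cnt_zero_eq hF 5, Unitary.cnt_zero_eq hF 3] at h
  simp only [Nat.even_iff, show 5 % 2 = 1 from rfl, show 3 % 2 = 1 from rfl] at h
  norm_num at h
  have e : (q ^ 2) ^ 2 - q ^ 2 = q ^ 2 * (q ^ 2 - 1) := by rw [Nat.mul_sub, mul_one, sq (q ^ 2)]
  rw [e, ← pow_mul] at h
  norm_num at h
  have h4 : 0 < (q ^ 4 - 1) * (q ^ 2 * (q ^ 2 - 1)) := by
    have h2 : 2 ^ 2 ≤ q ^ 2 := Nat.pow_le_pow_left hq 2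
    have h4 : 2 ^ 4 ≤ q ^ 4 := Nat.pow_le_pow_left hq 4
    have : 0 < q ^ 2 - 1 := by omega
    have : 0 < q ^ 4 - 1 := by omega
    positivity
  refine Nat.eq_of_mul_eq_mul_right h4 (h.trans ?_)
  ring

end Cfsg.Agent.S0830
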