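import Cfsg.Statements.S0832
import Cfsg.Agent.Lib.Classical.PlusMaximal

set_option autoImplicit false
open Cfsg

open Cfsg.Agent.Classical

namespace Cfsg.Agent.S0832

/-- For the form Σ x_i y_i on F^(2m) over a finite field, m ≥ 1: an (m−1)-dimensional subspace on which the form vanishes is contained in exactly two m-dimensional subspaces on which it vanishes. -/
theorem result {F : Type*} [Field F] [Finite F] (m : ℕ) (hm : 1 ≤ m) (U : Submodule F (Fin m ⊕ Fin m → F)) (hU : Module.finrank F U + 1 = m ∧ ∀ u ∈ U, Cfsg.quadFormPlus m F u = 0) : Nat.card {W : Submodule F (Fin m ⊕ Fin m → F) // Module.finrank F W = m ∧ (∀ w ∈ W, Cfsg.quadFormPlus m F w = 0) ∧ U ≤ W} = 2 := by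
  obtain ⟨W₁, W₂, h1, h2, hU1, hU2, hne⟩ := PlusMax.exists_through U hm hU
  rw [Nat.card_eq_two_iff]
  refine ⟨⟨W₁, h1.1, h1.2, hU1⟩, ⟨W₂, h2.1, h2.2, hU2⟩, fun e => hne (congrArg Subtype.val e), Set.eq_univ_of_forall fun W => ?_⟩
  obtain ⟨W, hW1, hW2, hUW⟩ := W
  simp only [Set.mem_insert_iff, Set.mem_singleton_iff, Subtype.mk.injEq]
  by_contra hc
  push Not at hc
  have hW : PlusMax.Gen W := ⟨hW1, hW2⟩
  have key : ∀ {A B : Submodule F (Fin m ⊕ Fin m → F)}, PlusMax.Gen A → PlusMax.Gen B → U ≤ A → U ≤ B → A ≠ B →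
      PlusMax.f A B = 1 := fun {A B} hA hB hUA hUB hAB => by
    have h3 := Submodule.finrank_mono (le_inf hUA hUB)
    have h4 : Module.finrank F ↥(A ⊓ B) < Module.finrank F A :=
      Submodule.finrank_lt_finrank_of_lt (lt_of_le_of_ne inf_le_left fun e => hAB
        (Submodule.eq_of_le_of_finrank_le (inf_eq_left.1 e) (by rw [hA.1, hB.1])))
    rw [hA.1] at h4
    rw [PlusMax.f]
    have h5 := hU.1
    change m - Module.finrank F ↥(A ⊓ B : Submodule F (Fin m ⊕ Fin m → F)) = 1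
    revert h3 h4 h5
    generalize Module.finrank F ↥U = a
    generalize Module.finrank F ↥(A ⊓ B : Submodule F (Fin m ⊕ Fin m → F)) = b
    intro h3 h4 h5
    omega
  have hp := PlusMax.parity hW h1 h2
  rw [key hW h1 hUW hU1 hc.1, key h1 h2 hU1 hU2 hne, key hW h2 hUW hU2 hc.2] at hp
  exact absurd hp (by decide)

end Cfsg.Agent.S0832
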