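import Cfsg.Statements.S0833
import Cfsg.Agent.Lib.Classical.Forms

set_option autoImplicit false
open Cfsg

open Cfsg.Agent.Classical
open scoped TensorProduct

namespace Cfsg.Agent.S0833

/-- If B₁, B₂ are non-degenerate alternating forms on U (dim 2k) and W (dim 2l), then B₁ ⊗ B₂ on U ⊗ W is symmetric, non-degenerate, and vanishes identically on some subspace of dimension 2kl (half of dim U ⊗ W). -/
theorem result {F U W : Type*} [Field F] [Fintype F] [AddCommGroup U] [Module F U] [FiniteDimensional F U] [AddCommGroup W] [Module F W] [FiniteDimensional F W] (B₁ : LinearMap.BilinForm F U) (B₂ : LinearMap.BilinForm F W) (h₁ : B₁.Nondegenerate) (h₂ : B₂.Nondegenerate) (hA₁ : B₁.IsAlt) (hA₂ : B₂.IsAlt) (k l : ℕ) (hU : Module.finrank F U = 2 * k) (hW : Module.finrank F W = 2 * l) : (B₁.tmul B₂).IsSymm ∧ (B₁.tmul B₂).Nondegenerate ∧ (∃ X : Submodule F (TensorProduct F U W), Module.finrank F X = 2 * k * l ∧ ∀ x ∈ X, ∀ y ∈ X, (B₁.tmul B₂) x y = 0) := by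
  classical
  obtain ⟨m, r, b, he, hee, hff, hrad⟩ := Forms.exists_basis_alt B₁ hA₁
  have hr : r = 0 := by
    by_contra hr
    exact b.ne_zero (Sum.inr ⟨0, Nat.pos_of_ne_zero hr⟩) (h₁.1 _ (hrad ⟨0, Nat.pos_of_ne_zero hr⟩))
  have hm : m = k := by
    have := Module.finrank_eq_card_basis b
    simp only [Fintype.card_sum, Fintype.card_fin] at this
    omega
  let c := Module.finBasis F W
  refine ⟨?_, ?_, ?_⟩
  · constructor
    intro x y
    have : B₁.tmul B₂ = (B₁.tmul B₂).flip := by
      refine TensorProduct.ext' fun u w => TensorProduct.ext' fun u' w' => ?_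
      simp only [LinearMap.flip_apply, LinearMap.BilinForm.tensorDistrib_tmul]
      rw [← LinearMap.IsAlt.neg hA₁ u u', ← LinearMap.IsAlt.neg hA₂ w w']
      simp
    exact LinearMap.congr_fun (LinearMap.congr_fun this x) y
  · have hz : ∀ x, (∀ y, (B₁.tmul B₂) x y = 0) → x = 0 := by
      intro x hx
      let d₁ := LinearMap.BilinForm.dualBasis B₁ h₁ b
      let d₂ := LinearMap.BilinForm.dualBasis B₂ h₂ c
      refine (b.tensorProduct c).ext_elem fun p => ?_
      have hfun : (B₁.tmul B₂).flip (d₁ p.1 ⊗ₜ[F] d₂ p.2) = (b.tensorProduct c).coord p := by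
        refine (b.tensorProduct c).ext fun q => ?_
        obtain ⟨q₁, q₂⟩ := q
        obtain ⟨p₁, p₂⟩ := p
        rw [LinearMap.flip_apply, Module.Basis.tensorProduct_apply, LinearMap.BilinForm.tensorDistrib_tmul,
          ← LinearMap.IsAlt.neg hA₁ (d₁ p₁) (b q₁), ← LinearMap.IsAlt.neg hA₂ (d₂ p₂) (c q₂), Module.Basis.coord_apply,
          ← Module.Basis.tensorProduct_apply, Module.Basis.repr_self,
          LinearMap.BilinForm.apply_dualBasis_left, LinearMap.BilinForm.apply_dualBasis_left,
          Finsupp.single_apply]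
        by_cases e₁ : q₁ = p₁ <;> by_cases e₂ : q₂ = p₂ <;> simp [e₁, e₂]
      have := LinearMap.congr_fun hfun x
      rw [LinearMap.flip_apply, hx] at this
      simp only [map_zero, Finsupp.coe_zero, Pi.zero_apply]
      exact this.symm
    constructor
    · exact hz
    · intro y hy
      refine hz y fun x => ?_
      have : B₁.tmul B₂ = (B₁.tmul B₂).flip := by
        refine TensorProduct.ext' fun u w => TensorProduct.ext' fun u' w' => ?_
        simp only [LinearMap.flip_apply, LinearMap.BilinForm.tensorDistrib_tmul]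
        rw [← LinearMap.IsAlt.neg hA₁ u u', ← LinearMap.IsAlt.neg hA₂ w w']
        simp
      rw [this]
      exact hy x
  · let f : Fin m × Fin (Module.finrank F W) → U ⊗[F] W :=
      fun p => b (Sum.inl (Sum.inl p.1)) ⊗ₜ[F] c p.2
    have hf : LinearIndependent F f := by
      have := (b.tensorProduct c).linearIndependent.comp
        (fun p : Fin m × Fin (Module.finrank F W) =>
          ((Sum.inl (Sum.inl p.1) : (Fin m ⊕ Fin m) ⊕ Fin r), p.2))
        (fun p q h => by simpa [Prod.ext_iff] using h)
      have e : f = (b.tensorProduct c) ∘ fun p : Fin m × Fin (Module.finrank F W) =>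
          ((Sum.inl (Sum.inl p.1) : (Fin m ⊕ Fin m) ⊕ Fin r), p.2) := by
        funext p
        simp [f]
      rw [e]
      exact this
    refine ⟨Submodule.span F (Set.range f), ?_, fun x hx y hy => ?_⟩
    · rw [finrank_span_eq_card hf, Fintype.card_prod, Fintype.card_fin, Fintype.card_fin, hm, hW]
      ring
    · induction hx, hy using Submodule.span_induction₂ with
      | mem_mem x y hx hy =>
        obtain ⟨p, rfl⟩ := hx
        obtain ⟨q, rfl⟩ := hy
        simp [f, LinearMap.BilinForm.tensorDistrib_tmul, hee]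
      | zero_left => simp
      | zero_right => simp
      | add_left _ _ _ _ _ _ h h' => simp [h, h']
      | add_right _ _ _ _ _ _ h h' => simp [h, h']
      | smul_left _ _ _ _ _ h => simp [h]
      | smul_right _ _ _ _ _ h => simp [h]

end Cfsg.Agent.S0833
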