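import Cfsg.Statements.S0834
import Cfsg.Agent.Lib.Classical.Disc

set_option autoImplicit false
open Cfsg

open Cfsg.Agent.Classical
open Module

namespace Cfsg.Agent.S0834

/-- Over a finite field with 2 ≠ 0: if B₁ on U (dim 2k, k ≥ 1) and B₂ on W (dim 2l, l ≥ 1) are non-degenerate symmetric forms admitting no totally isotropic subspaces of dimensions k, resp. l (minus type), then B₁ ⊗ B₂ admits a totally isotropic subspace of dimension 2kl (plus type). -/
theorem result {F U W : Type*} [Field F] [Fintype F] [AddCommGroup U] [Module F U] [FiniteDimensional F U] [AddCommGroup W] [Module F W] [FiniteDimensional F W] (h2 : (2 : F) ≠ 0) (B₁ : LinearMap.BilinForm F U) (B₂ : LinearMap.BilinForm F W) (h₁ : B₁.Nondegenerate) (h₂ : B₂.Nondegenerate) (hS₁ : B₁.IsSymm) (hS₂ : B₂.IsSymm) (k l : ℕ) (hk : 1 ≤ k) (hl : 1 ≤ l) (hU : Module.finrank F U = 2 * k) (hW : Module.finrank F W = 2 * l) (hm₁ : ¬ (∃ X : Submodule F (U), Module.finrank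 F X = k ∧ ∀ x ∈ X, ∀ y ∈ X, (B₁) x y = 0)) (hm₂ : ¬ (∃ X : Submodule F (W), Module.finrank F X = l ∧ ∀ x ∈ X, ∀ y ∈ X, (B₂) x y = 0)) : (∃ X : Submodule F (TensorProduct F U W), Module.finrank F X = 2 * k * l ∧ ∀ x ∈ X, ∀ y ∈ X, (B₁.tmul B₂) x y = 0) := by
  classical
  let b₁ := Module.finBasisOfFinrankEq F U hU
  let b₂ := Module.finBasisOfFinrankEq F W hW
  have hd : (LinearMap.toMatrix₂ (b₁.tensorProduct b₂) (b₁.tensorProduct b₂) (B₁.tmul B₂)).det =
      ((LinearMap.toMatrix₂ b₁ b₁ B₁).det ^ l * (LinearMap.toMatrix₂ b₂ b₂ B₂).det ^ k) ^ 2 := by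
    have e : LinearMap.toMatrix₂ (b₁.tensorProduct b₂) (b₁.tensorProduct b₂) (B₁.tmul B₂) =
        Matrix.kroneckerMap (· * ·) (LinearMap.toMatrix₂ b₁ b₁ B₁) (LinearMap.toMatrix₂ b₂ b₂ B₂) := by
      ext ⟨i, j⟩ ⟨i', j'⟩
      simp [LinearMap.toMatrix₂_apply, mul_comm]
    rw [e, Matrix.det_kronecker, Fintype.card_fin, Fintype.card_fin]
    ring
  have hnd : LinearMap.BilinForm.Nondegenerate (B₁.tmul B₂) := by
    rw [LinearMap.BilinForm.nondegenerate_iff_det_ne_zero (b₁.tensorProduct b₂)]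
    show (LinearMap.toMatrix₂ (b₁.tensorProduct b₂) (b₁.tensorProduct b₂) (B₁.tmul B₂)).det ≠ 0
    rw [hd]
    exact pow_ne_zero _ (mul_ne_zero (pow_ne_zero _ ((LinearMap.BilinForm.nondegenerate_iff_det_ne_zero b₁).1 h₁))
      (pow_ne_zero _ ((LinearMap.BilinForm.nondegenerate_iff_det_ne_zero b₂).1 h₂)))
  have hS : LinearMap.BilinForm.IsSymm (B₁.tmul B₂) := LinearMap.BilinForm.isSymm_iff.2 (LinearMap.IsSymm.tmul (LinearMap.BilinForm.isSymm_iff.1 hS₁) (LinearMap.BilinForm.isSymm_iff.1 hS₂))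
  rw [Disc.exists_isotropic_iff (B₁.tmul B₂) hnd hS h2 (by rw [finrank_tensorProduct, hU, hW]; ring)
    (b₁.tensorProduct b₂), hd, show 2 * k * l = 2 * (k * l) by ring, pow_mul, neg_one_sq, one_pow, one_mul]
  exact IsSquare.sq _

end Cfsg.Agent.S0834
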