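import Cfsg.Statements.S0835
import Cfsg.Agent.Lib.Classical.Disc

set_option autoImplicit false
open Cfsg

open Cfsg.Agent.Classical
open Module

namespace Cfsg.Agent.S0835

/-- Over a finite field with 2 ≠ 0: if B₁ on U (dim 2k, k ≥ 1) is non-degenerate symmetric of minus type (no totally isotropic k-subspace) and B₂ on W (dim 2l + 1) is non-degenerate symmetric, then B₁ ⊗ B₂ (dimension 2k(2l+1)) admits no totally isotropic subspace of dimension k(2l+1) (minus type). -/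
theorem result {F U W : Type*} [Field F] [Fintype F] [AddCommGroup U] [Module F U] [FiniteDimensional F U] [AddCommGroup W] [Module F W] [FiniteDimensional F W] (h2 : (2 : F) ≠ 0) (B₁ : LinearMap.BilinForm F U) (B₂ : LinearMap.BilinForm F W) (h₁ : B₁.Nondegenerate) (h₂ : B₂.Nondegenerate) (hS₁ : B₁.IsSymm) (hS₂ : B₂.IsSymm) (k l : ℕ) (hk : 1 ≤ k) (hU : Module.finrank F U = 2 * k) (hW : Module.finrank F W = 2 * l + 1) (hm₁ : ¬ (∃ X : Submodule F (U), Module.finrank F X = k ∧ ∀ x ∈ X, ∀ y ∈ X, (B₁) x y = 0)) : ¬ (∃ X : Submodule F (TensorProduct F U W), Module.finrank F X = k * (2 * l + 1) ∧ ∀ x ∈ X, ∀ y ∈ X, (B₁.tmul B₂) x y = 0) := by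
  classical
  let b₁ := Module.finBasisOfFinrankEq F U hU
  let b₂ := Module.finBasisOfFinrankEq F W hW
  set d₁ := (LinearMap.toMatrix₂ b₁ b₁ B₁).det with hd₁
  set d₂ := (LinearMap.toMatrix₂ b₂ b₂ B₂).det with hd₂
  have hd₁0 : d₁ ≠ 0 := (LinearMap.BilinForm.nondegenerate_iff_det_ne_zero b₁).1 h₁
  have hd₂0 : d₂ ≠ 0 := (LinearMap.BilinForm.nondegenerate_iff_det_ne_zero b₂).1 h₂
  have hd : (LinearMap.toMatrix₂ (b₁.tensorProduct b₂) (b₁.tensorProduct b₂) (B₁.tmul B₂)).det =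
      d₁ ^ (2 * l + 1) * d₂ ^ (2 * k) := by
    have e : LinearMap.toMatrix₂ (b₁.tensorProduct b₂) (b₁.tensorProduct b₂) (B₁.tmul B₂) =
        Matrix.kroneckerMap (· * ·) (LinearMap.toMatrix₂ b₁ b₁ B₁) (LinearMap.toMatrix₂ b₂ b₂ B₂) := by
      ext ⟨i, j⟩ ⟨i', j'⟩
      simp [LinearMap.toMatrix₂_apply, mul_comm]
    rw [e, Matrix.det_kronecker, Fintype.card_fin, Fintype.card_fin]
  have hnd : LinearMap.BilinForm.Nondegenerate (B₁.tmul B₂) := by
    rw [LinearMap.BilinForm.nondegenerate_iff_det_ne_zero (b₁.tensorProduct b₂)]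
    show (LinearMap.toMatrix₂ (b₁.tensorProduct b₂) (b₁.tensorProduct b₂) (B₁.tmul B₂)).det ≠ 0
    rw [hd]
    exact mul_ne_zero (pow_ne_zero _ hd₁0) (pow_ne_zero _ hd₂0)
  have hS : LinearMap.BilinForm.IsSymm (B₁.tmul B₂) := LinearMap.BilinForm.isSymm_iff.2 (LinearMap.IsSymm.tmul (LinearMap.BilinForm.isSymm_iff.1 hS₁) (LinearMap.BilinForm.isSymm_iff.1 hS₂))
  rw [Disc.exists_isotropic_iff (B₁.tmul B₂) hnd hS h2 (by rw [finrank_tensorProduct, hU, hW]; ring)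
    (b₁.tensorProduct b₂), hd]
  rw [Disc.exists_isotropic_iff B₁ h₁ hS₁ h2 hU b₁] at hm₁
  rintro ⟨s, hs⟩
  refine hm₁ ⟨s / (((-1) ^ k) ^ l * d₁ ^ l * d₂ ^ k), ?_⟩
  rw [← hd₁]
  field_simp
  rw [pow_mul, pow_succ, pow_mul] at hs
  rw [pow_mul'] at hs
  linear_combination hs

end Cfsg.Agent.S0835
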