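import Cfsg.Statements.S0837
import Cfsg.Agent.Lib.Classical.Unitary

set_option autoImplicit false
open Cfsg

open Cfsg.Agent.Classical
open Matrix

namespace Cfsg.Agent.S0837

variable {F : Type*} [Field F] [Fintype F] {q : ℕ}

theorem mem_iff (hF : Fintype.card F = q ^ 2) {n : ℕ} (σ : F →+* F) (hσ : ∀ a, σ a = a ^ q)
    (g : GL (Fin n) F) :
    g ∈ Cfsg.GU n F q ↔ (g : Matrix (Fin n) (Fin n) F)ᵀ * (g : Matrix (Fin n) (Fin n) F).map σ = 1 := by
  refine Iff.trans (Unitary.mem_GU_iff hF g) ?_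
  rw [← Matrix.ext_iff]
  refine forall_congr' fun i => forall_congr' fun j => ?_
  simp [Cfsg.hermForm, Matrix.mul_apply, Matrix.one_apply, hσ]

theorem reindex_gram {k m n : ℕ} (e : Fin k ⊕ Fin m ≃ Fin n) (σ : F →+* F)
    (M : Matrix (Fin k ⊕ Fin m) (Fin k ⊕ Fin m) F) :
    (reindexAlgEquiv F F e M)ᵀ * (reindexAlgEquiv F F e M).map σ = 1 ↔ Mᵀ * M.map σ = 1 := by
  have h : (reindexAlgEquiv F F e M)ᵀ * (reindexAlgEquiv F F e M).map σ = reindexAlgEquiv F F e (Mᵀ * M.map σ) := by
    rw [map_mul]; rfl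
  rw [h, map_eq_one_iff _ (reindexAlgEquiv F F e).injective]

/-- Block diagonal matrices. -/
def blockHom {k m n : ℕ} (e : Fin k ⊕ Fin m ≃ Fin n) :
    Matrix (Fin k) (Fin k) F × Matrix (Fin m) (Fin m) F →* Matrix (Fin n) (Fin n) F where
  toFun p := reindexAlgEquiv F F e (fromBlocks p.1 0 0 p.2)
  map_one' := by simp
  map_mul' p p' := by
    rw [← map_mul, fromBlocks_multiply]
    simp

/-- The coordinate subspace. -/
def W0 {k m n : ℕ} (e : Fin k ⊕ Fin m ≃ Fin n) : Submodule F (Fin n → F) where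
  carrier := {v | ∀ i, v (e (Sum.inr i)) = 0}
  add_mem' ha hb i := by simp [ha i, hb i]
  zero_mem' i := rfl
  smul_mem' c v hv i := by simp [hv i]

variable {k m n : ℕ} (e : Fin k ⊕ Fin m ≃ Fin n)

theorem stab_conj {n : ℕ} (P g : GL (Fin n) F) (S T : Set (Fin n → F))
    (h : ∀ v, v ∈ S ↔ (P : Matrix (Fin n) (Fin n) F) *ᵥ v ∈ T) :
    P⁻¹ * g * P ∈ Cfsg.stabilizing (Cfsg.glToMat (Fin n) F) S ↔ g ∈ Cfsg.stabilizing (Cfsg.glToMat (Fin n) F) T := by
  show (∀ v, v ∈ S ↔ ((P⁻¹ * g * P : GL (Fin n) F) : Matrix (Fin n) (Fin n) F) *ᵥ v ∈ S) ↔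
    ∀ v, v ∈ T ↔ (g : Matrix (Fin n) (Fin n) F) *ᵥ v ∈ T
  have key : ∀ v, ((P⁻¹ * g * P : GL (Fin n) F) : Matrix (Fin n) (Fin n) F) *ᵥ v ∈ S ↔
      (g : Matrix (Fin n) (Fin n) F) *ᵥ ((P : Matrix (Fin n) (Fin n) F) *ᵥ v) ∈ T := fun v => by
    rw [h, Matrix.mulVec_mulVec, Matrix.mulVec_mulVec, ← Units.val_mul, ← Units.val_mul, ← mul_assoc,
      mul_inv_cancel_left]
  constructor
  · intro hg w
    have := hg (((P⁻¹ : GL (Fin n) F) : Matrix (Fin n) (Fin n) F) *ᵥ w)
    rwa [key, h, Matrix.mulVec_mulVec, Units.mul_inv, Matrix.one_mulVec] at this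
  · intro hg v
    rw [key, h]; exact hg _

/-- The block unitary group. -/
noncomputable def psi (hF : Fintype.card F = q ^ 2) : Cfsg.GU k F q × Cfsg.GU m F q →*
    Cfsg.GU n F q :=
  ((Units.map (blockHom (F := F) e)).comp (MulEquiv.prodUnits.symm.toMonoidHom.comp
    ((Cfsg.GU k F q).subtype.prodMap (Cfsg.GU m F q).subtype))).codRestrict _ fun p => by
    obtain ⟨σ, hσ, -, -⟩ := Unitary.exists_frob hF
    have h1 := (mem_iff hF σ hσ _).1 p.1.2
    have h2 := (mem_iff hF σ hσ _).1 p.2.2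
    rw [mem_iff hF σ hσ]
    show (reindexAlgEquiv F F e (fromBlocks ((p.1 : GL (Fin k) F) : Matrix (Fin k) (Fin k) F) 0 0
        ((p.2 : GL (Fin m) F) : Matrix (Fin m) (Fin m) F)))ᵀ * (reindexAlgEquiv F F e (fromBlocks ((p.1 : GL (Fin k) F) : Matrix (Fin k) (Fin k) F) 0 0
        ((p.2 : GL (Fin m) F) : Matrix (Fin m) (Fin m) F))).map σ = 1
    rw [reindex_gram, fromBlocks_transpose, fromBlocks_map, fromBlocks_multiply]
    simp [h1, h2]

theorem psi_val (hF : Fintype.card F = q ^ 2) (p : Cfsg.GU k F q × Cfsg.GU m F q) :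
    (((psi e hF p : Cfsg.GU n F q) : GL (Fin n) F) : Matrix (Fin n) (Fin n) F) =
      reindexAlgEquiv F F e (fromBlocks ((p.1 : GL (Fin k) F) : Matrix (Fin k) (Fin k) F) 0 0
        ((p.2 : GL (Fin m) F) : Matrix (Fin m) (Fin m) F)) := rfl

theorem psi_injective (hF : Fintype.card F = q ^ 2) : Function.Injective (psi (F := F) (q := q) e hF) := by
  intro p p' h
  have := congrArg (fun x : Cfsg.GU n F q => ((x : GL (Fin n) F) : Matrix (Fin n) (Fin n) F)) h
  simp only [psi_val] at this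
  obtain ⟨h1, -, -, h4⟩ := Matrix.fromBlocks_inj.1 ((reindexAlgEquiv F F e).injective this)
  exact Prod.ext (Subtype.ext (Units.ext h1)) (Subtype.ext (Units.ext h4))

theorem psi_range (hF : Fintype.card F = q ^ 2) :
    (psi (F := F) (q := q) e hF).range =
      (Cfsg.stabilizing (Cfsg.glToMat (Fin n) F) (W0 (F := F) e : Set (Fin n → F))).subgroupOf (Cfsg.GU n F q) := by
  obtain ⟨σ, hσ, -, -⟩ := Unitary.exists_frob hF
  apply le_antisymm
  · rintro _ ⟨p, rfl⟩ v
    show (∀ i, v (e (Sum.inr i)) = 0) ↔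
      ∀ i, ((((psi e hF p : Cfsg.GU n F q) : GL (Fin n) F) : Matrix (Fin n) (Fin n) F) *ᵥ v) (e (Sum.inr i)) = 0
    rw [psi_val]
    have key : ∀ i, (reindexAlgEquiv F F e (fromBlocks ((p.1 : GL (Fin k) F) : Matrix (Fin k) (Fin k) F) 0 0
        ((p.2 : GL (Fin m) F) : Matrix (Fin m) (Fin m) F)) *ᵥ v) (e (Sum.inr i)) =
        (((p.2 : GL (Fin m) F) : Matrix (Fin m) (Fin m) F) *ᵥ fun i => v (e (Sum.inr i))) i := fun i => by
      simp [Matrix.submatrix_mulVec_equiv, Matrix.fromBlocks_mulVec, Function.comp_def]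
    simp only [key]
    constructor
    · intro h i
      simp [h, Matrix.mulVec, dotProduct]
    · intro h i
      have h' := congrArg ((((p.2 : GL (Fin m) F)⁻¹ : GL (Fin m) F) : Matrix (Fin m) (Fin m) F) *ᵥ ·)
        (funext h : ((p.2 : GL (Fin m) F) : Matrix (Fin m) (Fin m) F) *ᵥ (fun i => v (e (Sum.inr i))) = 0)
      simp only [Matrix.mulVec_mulVec, Units.inv_mul, Matrix.one_mulVec, Matrix.mulVec_zero] at h'
      exact congrFun h' i
  · rintro ⟨g, hg⟩ hst
    rw [Subgroup.mem_subgroupOf] at hst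
    obtain ⟨M, hM⟩ := (reindexAlgEquiv F F e).surjective (g : Matrix (Fin n) (Fin n) F)
    obtain ⟨A, B, C, D, rfl⟩ : ∃ A B C D, M = fromBlocks A B C D := ⟨_, _, _, _, (fromBlocks_toBlocks M).symm⟩
    have hC : C = 0 := by
      ext i j
      have := (hst (Pi.single (e (Sum.inl j)) 1)).1 (fun i' => by simp [e.injective.eq_iff]) i
      change ((g : Matrix (Fin n) (Fin n) F) *ᵥ _) _ = 0 at this
      rw [Matrix.mulVec_single_one, ← hM] at this
      simpa using this
    subst hC
    have h1 := (mem_iff hF σ hσ g).1 hg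
    rw [← hM] at h1
    rw [reindex_gram, fromBlocks_transpose, fromBlocks_map, fromBlocks_multiply, ← fromBlocks_one, fromBlocks_inj] at h1
    have h2 := h1
    simp only [Matrix.map_zero _ (map_zero σ), Matrix.transpose_zero, Matrix.mul_zero, Matrix.zero_mul, add_zero, zero_add] at h2
    obtain ⟨hA, hB, -, hD⟩ := h2
    have hAu : IsUnit A.det := Matrix.isUnit_det_of_right_inverse (B := (A.map σ)ᵀ) (by
      have := congrArg Matrix.transpose hA
      rw [Matrix.transpose_mul, Matrix.transpose_transpose, Matrix.transpose_one] at this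
      exact mul_eq_one_comm.1 this)
    have hB0 : B = 0 := by
      have h := congrArg ((Aᵀ)⁻¹ * ·) hB
      simp only [Matrix.mul_zero, ← Matrix.mul_assoc,
        Matrix.nonsing_inv_mul _ (Matrix.isUnit_det_transpose A hAu), Matrix.one_mul] at h
      ext i j
      have := congrFun (congrFun h i) j
      simpa using this
    subst hB0
    simp only [Matrix.map_zero _ (map_zero σ), Matrix.transpose_zero, Matrix.mul_zero, Matrix.zero_mul, add_zero, zero_add] at hD
    let Au : GL (Fin k) F := GeneralLinearGroup.mkOfDetNeZero A hAu.ne_zero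
    let Du : GL (Fin m) F := GeneralLinearGroup.mkOfDetNeZero D (fun h0 => by
      have := congrArg Matrix.det hD
      simp [h0] at this)
    exact ⟨(⟨Au, (mem_iff hF σ hσ Au).2 hA⟩, ⟨Du, (mem_iff hF σ hσ Du).2 hD⟩), Subtype.ext (Units.ext hM)⟩

end Cfsg.Agent.S0837


namespace Cfsg.Agent.S0837

/-- If W ≤ F^n (|F| = q²) is a k-dimensional subspace on which the Hermitian form Σ x_i y_i^q is non-degenerate, then the stabiliser of W in GU_n(q) is isomorphic to GU_k(q) × GU_(n−k)(q). -/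
theorem result {F : Type*} [Field F] [Fintype F] {q : ℕ} (hF : Fintype.card F = q ^ 2) (n k : ℕ) (hk : k ≤ n) (W : Submodule F (Fin n → F)) (hWk : Module.finrank F W = k) (hW : ∀ u ∈ W, (∀ v ∈ W, Cfsg.hermForm n F q u v = 0) → u = 0) : Nonempty (↥((Cfsg.stabilizing (Cfsg.glToMat (Fin n) F) (W : Set (Fin n → F))).subgroupOf (Cfsg.GU n F q)) ≃* ↥(Cfsg.GU k F q) × ↥(Cfsg.GU (n - k) F q)) := by
  classical
  obtain ⟨σ, B, hσ1, hσ2, hS, hB⟩ := Unitary.exists_sesq hF n
  have hnd : OrthBasis.NondegOn B W := fun w hw h0 => hW w hw fun v hv => by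
    rw [← hB, ← hS.eq, h0 v hv, map_zero]
  obtain ⟨b, hbW, hb⟩ := OrthBasis.exists_orthonormal B hσ1 hσ2 hS k W hnd hWk
  let φ : (Fin n → F) →ₗ[F] (Fin k → F) := LinearMap.pi fun i => B (b i)
  have hφ : ∀ v i, φ v i = B (b i) v := fun v i => rfl
  have hker : Module.finrank F (LinearMap.ker φ) = n - k := by
    have h := LinearMap.finrank_range_add_finrank_ker φ
    rw [LinearMap.range_eq_top.2 (fun c => ⟨∑ i, c i • b i, funext fun j => by simp [hφ, map_sum, hb]⟩),
      finrank_top, Module.finrank_pi, Module.finrank_pi, Fintype.card_fin, Fintype.card_fin] at h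
    omega
  have hndK : OrthBasis.NondegOn B (LinearMap.ker φ) := by
    intro w hw hw0
    have hwb : ∀ i, B w (b i) = 0 := fun i => by
      rw [← hS.eq, show B (b i) w = 0 from congrFun hw i, map_zero]
    funext j
    have hm : Pi.single j 1 - ∑ i, B (b i) (Pi.single j 1) • b i ∈ LinearMap.ker φ := by
      rw [LinearMap.mem_ker]; funext l; simp [hφ, map_sum, hb]
    have h := hw0 _ hm
    simp only [map_sub, map_sum, map_smul, hwb, smul_zero, Finset.sum_const_zero, sub_zero] at h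
    rw [hB] at h
    have h2 : (w j) ^ q = 0 := by simpa [Cfsg.hermForm, Pi.single_apply] using h
    exact (pow_eq_zero_iff (by have := Unitary.one_lt_q hF; omega : q ≠ 0)).1 h2
  obtain ⟨c, hcK, hc⟩ := OrthBasis.exists_orthonormal B hσ1 hσ2 hS (n - k) _ hndK hker
  let e : Fin k ⊕ Fin (n - k) ≃ Fin n := finSumFinEquiv.trans (finCongr (by omega))
  let cols : Fin n → (Fin n → F) := fun j => Sum.elim b c (e.symm j)
  have hcols : ∀ i j, B (cols i) (cols j) = if i = j then 1 else 0 := by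
    intro i j
    obtain ⟨i, rfl⟩ := e.surjective i
    obtain ⟨j, rfl⟩ := e.surjective j
    simp only [cols, Equiv.symm_apply_apply, e.injective.eq_iff]
    rcases i with i | i <;> rcases j with j | j
    · simp [hb]
    · simp only [Sum.elim_inl, Sum.elim_inr, reduceCtorEq, if_false]; exact congrFun (hcK j) i
    · simp only [Sum.elim_inl, Sum.elim_inr, reduceCtorEq, if_false]
      rw [← hS.eq, show B (b j) (c i) = 0 from congrFun (hcK i) j, map_zero]
    · simp [hc]
  have hli : LinearIndependent F cols := OrthBasis.independent_of_orth B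
    (fun i j hij => by rw [hcols, if_neg hij]) (fun i => by rw [hcols, if_pos rfl]; exact one_ne_zero)
  let Pm : Matrix (Fin n) (Fin n) F := Matrix.of fun i j => cols j i
  have hPu : IsUnit Pm := Matrix.linearIndependent_cols_iff_isUnit.1 hli
  let P : GL (Fin n) F := hPu.unit
  have hP : P ∈ Cfsg.GU n F q := (Unitary.mem_GU_iff hF P).2 fun i j => by
    show Cfsg.hermForm n F q (cols i) (cols j) = _
    rw [← hB, hcols]; simp only [eq_comm]
  have hspan : ∀ v, v ∈ W ↔ v ∈ Submodule.span F (Set.range b) := by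
    have hle : Submodule.span F (Set.range b) ≤ W := Submodule.span_le.2 (Set.range_subset_iff.2 hbW)
    have hlb : LinearIndependent F b := OrthBasis.independent_of_orth B
      (fun i j hij => by rw [hb, if_neg hij]) (fun i => by rw [hb, if_pos rfl]; exact one_ne_zero)
    have := Submodule.eq_of_le_of_finrank_le hle (by rw [hWk, finrank_span_eq_card hlb, Fintype.card_fin])
    intro v; rw [this]
  have hW0 : ∀ v, v ∈ Cfsg.Agent.S0837.W0 (F := F) e ↔ (P : Matrix (Fin n) (Fin n) F) *ᵥ v ∈ W := by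
    intro v
    have hPv : (P : Matrix (Fin n) (Fin n) F) *ᵥ v = ∑ i, v (e (Sum.inl i)) • b i + ∑ i, v (e (Sum.inr i)) • c i := by
      show Pm *ᵥ v = _
      rw [Matrix.mulVec_eq_sum, ← e.sum_comp, Fintype.sum_sum_type]
      congr 1 <;> refine Finset.sum_congr rfl fun i _ => ?_ <;> funext l <;>
        simp [Pm, cols, mul_comm]
    rw [hPv, hspan]
    constructor
    · intro h
      simp only [h _, zero_smul, Finset.sum_const_zero, add_zero]
      exact Submodule.sum_mem _ fun i _ => Submodule.smul_mem _ _ (Submodule.subset_span ⟨i, rfl⟩)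
    · intro h i
      have hle : Submodule.span F (Set.range b) ≤ LinearMap.ker (B (c i)) := Submodule.span_le.2 (by
        rintro _ ⟨j, rfl⟩
        show B (c i) (b j) = 0
        rw [← hS.eq, show B (b j) (c i) = 0 from congrFun (hcK i) j, map_zero])
      have h0 := hle h
      rw [LinearMap.mem_ker] at h0
      have hcb : ∀ j, B (c i) (b j) = 0 := fun j => hle (Submodule.subset_span ⟨j, rfl⟩)
      simpa [map_sum, hcb, hc] using h0
  let Pe : MulAut (Cfsg.GU n F q) := MulAut.conj ⟨P, hP⟩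
  have hmap : ((Cfsg.stabilizing (Cfsg.glToMat (Fin n) F) (Cfsg.Agent.S0837.W0 (F := F) e : Set (Fin n → F))).subgroupOf (Cfsg.GU n F q)).map Pe.toMonoidHom =
      (Cfsg.stabilizing (Cfsg.glToMat (Fin n) F) (W : Set (Fin n → F))).subgroupOf (Cfsg.GU n F q) := by
    ext g
    rw [Subgroup.mem_map_equiv, Subgroup.mem_subgroupOf, Subgroup.mem_subgroupOf, MulAut.conj_symm_apply]
    exact Cfsg.Agent.S0837.stab_conj P (g : GL (Fin n) F) _ _ hW0
  rw [← hmap]
  refine ⟨(Pe.subgroupMap _).symm.trans ((MulEquiv.subgroupCongr (Cfsg.Agent.S0837.psi_range e hF).symm).trans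
    (MonoidHom.ofInjective (Cfsg.Agent.S0837.psi_injective e hF)).symm)⟩

end Cfsg.Agent.S0837
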