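import Cfsg.Statements.S0838
import Cfsg.Agent.Lib.Classical.OrthBasis

set_option autoImplicit false
open Cfsg

open Cfsg.Agent.Classical
open scoped Matrix

namespace Cfsg.Agent.S0838

/-- Over a finite field with 2 ≠ 0 and n odd: two quadratic forms Q₁, Q₂ on F^n with non-degenerate polar forms are similar — there are an invertible linear map g and a scalar c ≠ 0 with Q₂ (g v) = c · Q₁ v for all v. -/
theorem result {F : Type*} [Field F] [Fintype F] (h2 : (2 : F) ≠ 0) {n : ℕ} (hn : Odd n) (Q₁ Q₂ : QuadraticForm F (Fin n → F)) (h₁ : (QuadraticMap.polarBilin Q₁).Nondegenerate) (h₂ : (QuadraticMap.polarBilin Q₂).Nondegenerate) : ∃ (g : (Fin n → F) ≃ₗ[F] (Fin n → F)) (c : F), c ≠ 0 ∧ ∀ v, Q₂ (g v) = c * Q₁ v := by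
  classical
  have hn0 : ∃ k, n = k + 1 := ⟨n - 1, by obtain ⟨j, hj⟩ := hn; omega⟩
  obtain ⟨k, rfl⟩ := hn0
  obtain ⟨α, hα⟩ := FiniteField.exists_nonsquare (F := F) (fun h => h2 (by
    have := CharP.cast_eq_zero F (ringChar F); rw [h] at this; simpa using this))
  have hfin : Module.finrank F (Fin (k + 1) → F) = k + 1 := by simp
  have hnorm : ∀ B : LinearMap.BilinForm F (Fin (k + 1) → F), B.IsSymm →
      (∀ x, (∀ y, B x y = 0) → x = 0) → ∃ (b : Module.Basis (Fin (k + 1)) F (Fin (k + 1) → F))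
        (d : F), (d = 1 ∨ d = α) ∧ ∀ i j, B (b i) (b j) = if i = j then (if i = Fin.last k then d else 1) else 0 := by
    intro B hS hB
    obtain ⟨b, -, ho, h1, hl⟩ := OrthBasis.exists_diag B h2 hS hα k ⊤
      (fun w _ hw => hB w fun y => hw y Submodule.mem_top) (by rw [finrank_top, hfin])
    have hα0 : α ≠ 0 := fun e => hα ⟨0, by rw [e, mul_zero]⟩
    have hne : ∀ i, B (b i) (b i) ≠ 0 := fun i => by
      by_cases hi : i = Fin.last k
      · subst hi; rcases hl with e | e <;> rw [e]
        · exact one_ne_zero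
        · exact hα0
      · rw [h1 i hi]; exact one_ne_zero
    refine ⟨basisOfLinearIndependentOfCardEqFinrank' b (OrthBasis.independent_of_orth B ho hne)
      (by rw [Fintype.card_fin, hfin]), B (b (Fin.last k)) (b (Fin.last k)), hl, fun i j => ?_⟩
    simp only [coe_basisOfLinearIndependentOfCardEqFinrank']
    by_cases hij : i = j
    · subst hij
      by_cases hi : i = Fin.last k
      · simp [hi]
      · simp [hi, h1 i hi]
    · simp [hij, ho i j hij]
  have hsym : ∀ Q : QuadraticForm F (Fin (k + 1) → F), LinearMap.BilinForm.IsSymm (QuadraticMap.polarBilin Q) :=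
    fun Q => ⟨fun x y => QuadraticMap.polar_comm _ x y⟩
  have hnd : ∀ Q : QuadraticForm F (Fin (k + 1) → F), (QuadraticMap.polarBilin Q).Nondegenerate →
      ∀ x, (∀ y, QuadraticMap.polarBilin Q x y = 0) → x = 0 := fun Q h => h.1
  have key : ∀ (c : F) (b₁ b₂ : Module.Basis (Fin (k + 1)) F (Fin (k + 1) → F)),
      (∀ i j, QuadraticMap.polarBilin Q₂ (b₂ i) (b₂ j) = c * QuadraticMap.polarBilin Q₁ (b₁ i) (b₁ j)) →
      c ≠ 0 → ∃ (g : (Fin (k + 1) → F) ≃ₗ[F] (Fin (k + 1) → F)) (c : F), c ≠ 0 ∧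
        ∀ v, Q₂ (g v) = c * Q₁ v := by
    intro c b₁ b₂ hb hc
    refine ⟨b₁.equiv b₂ (Equiv.refl _), c, hc, fun v => ?_⟩
    have hB : (QuadraticMap.polarBilin Q₂).compl₁₂ (b₁.equiv b₂ (Equiv.refl _)).toLinearMap
        (b₁.equiv b₂ (Equiv.refl _)).toLinearMap = c • QuadraticMap.polarBilin Q₁ :=
      b₁.ext fun i => b₁.ext fun j => by
        simp only [LinearMap.compl₁₂_apply, LinearEquiv.coe_coe, Module.Basis.equiv_apply,
          Equiv.refl_apply, LinearMap.smul_apply, smul_eq_mul]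
        exact hb i j
    have h := LinearMap.congr_fun (LinearMap.congr_fun hB v) v
    simp only [LinearMap.compl₁₂_apply, LinearEquiv.coe_coe, LinearMap.smul_apply, smul_eq_mul,
      QuadraticMap.polarBilin_apply_apply, QuadraticMap.polar_self, nsmul_eq_mul, Nat.cast_ofNat] at h
    exact mul_left_cancel₀ h2 (by linear_combination h)
  obtain ⟨b₁, d₁, hd₁, hb₁⟩ := hnorm _ (hsym Q₁) (hnd Q₁ h₁)
  obtain ⟨b₂, d₂, hd₂, hb₂⟩ := hnorm _ (hsym Q₂) (hnd Q₂ ‹(QuadraticMap.polarBilin Q₂).Nondegenerate›)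
  by_cases hd : d₁ = d₂
  · exact key 1 b₁ b₂ (fun i j => by rw [hb₁, hb₂, hd, one_mul]) one_ne_zero
  · have hα0 : α ≠ 0 := fun e => hα ⟨0, by rw [e, mul_zero]⟩
    obtain ⟨b₃, d₃, hd₃, hb₃⟩ := hnorm (α • QuadraticMap.polarBilin Q₁)
      ⟨fun x y => congrArg (α * ·) ((hsym Q₁).eq x y)⟩
      (fun x hx => hnd Q₁ h₁ x fun y => (mul_eq_zero.1 (hx y)).resolve_left hα0)
    have h31 : d₃ ≠ d₁ := by
      intro e
      set G := LinearMap.BilinForm.toMatrix b₁ (QuadraticMap.polarBilin Q₁) with hG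
      have hG3 : α • LinearMap.BilinForm.toMatrix b₃ (QuadraticMap.polarBilin Q₁) = G := by
        ext i j
        rw [Matrix.smul_apply, hG, LinearMap.BilinForm.toMatrix_apply,
          LinearMap.BilinForm.toMatrix_apply, hb₁]
        have := hb₃ i j
        rw [e] at this
        exact this
      have hP := LinearMap.BilinForm.toMatrix_mul_basis_toMatrix (b := b₁) b₃ (QuadraticMap.polarBilin Q₁)
      have hd' := congrArg Matrix.det hG3
      rw [← hP, Matrix.det_smul, Matrix.det_mul, Matrix.det_mul, Matrix.det_transpose,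
        Fintype.card_fin] at hd'
      have hG0 : G.det ≠ 0 := by
        have : G = Matrix.diagonal (fun i => if i = Fin.last k then d₁ else 1) := by
          ext i j
          rw [hG, LinearMap.BilinForm.toMatrix_apply, hb₁, Matrix.diagonal_apply]
        rw [this, Matrix.det_diagonal, Finset.prod_ne_zero_iff]
        intro i _
        split_ifs
        · rcases hd₁ with e | e <;> rw [e]
          · exact one_ne_zero
          · exact hα0
        · exact one_ne_zero
      apply hα
      obtain ⟨j, hj⟩ := hn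
      have hs : α * (α ^ j * (b₁.toMatrix b₃).det) ^ 2 = 1 := by
        refine mul_right_cancel₀ hG0 ?_
        have hp : α ^ (k + 1) = α * (α ^ j) ^ 2 := by rw [hj, pow_add, pow_one, ← pow_mul, mul_comm j 2, mul_comm]
        rw [hp] at hd'
        linear_combination hd'
      refine ⟨(α ^ j * (b₁.toMatrix b₃).det)⁻¹, ?_⟩
      have h0 : α ^ j * (b₁.toMatrix b₃).det ≠ 0 := fun e => by
        rw [e] at hs; norm_num at hs
      rw [← mul_inv, ← sq]
      exact eq_inv_of_mul_eq_one_left hs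
    have h32 : d₃ = d₂ := by
      rcases hd₁ with rfl | rfl <;> rcases hd₂ with rfl | rfl <;> rcases hd₃ with rfl | rfl <;>
        first | rfl | exact absurd rfl hd | exact absurd rfl h31
    exact key α b₃ b₂ (fun i j => by
      rw [hb₂, ← h32, ← hb₃]; rfl) hα0

end Cfsg.Agent.S0838
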