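import Cfsg.Statements.S0839
import Cfsg.Agent.Lib.Classical.Linear

set_option autoImplicit false
open Cfsg

open scoped Matrix

namespace Cfsg.Agent.S0839

/-- Every transvection t ∈ SL_(n+2)(F) (rank(t − 1) = 1, (t − 1)² = 0) is conjugate in SL_(n+2)(F) to 1 + v·e_0ᵀ for some column vector v with v_0 = 0 (the group A of matrices that are the identity except in the first column below the diagonal); the dimension is written n + 2 ≥ 2. -/
theorem result {F : Type*} [Field F] (n : ℕ) (t : Matrix.SpecialLinearGroup (Fin (n + 2)) F) (ht : Cfsg.IsTransvection (t : Matrix (Fin (n + 2)) (Fin (n + 2)) F)) : ∃ (g : Matrix.SpecialLinearGroup (Fin (n + 2)) F) (v : Fin (n + 2) → F), v 0 = 0 ∧ ((g⁻¹ * t * g : Matrix.SpecialLinearGroup (Fin (n + 2)) F) : Matrix (Fin (n + 2)) (Fin (n + 2)) F) = 1 + Matrix.vecMulVec v (Pi.single 0 1) := by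
  classical
  obtain ⟨hr, hsq⟩ := ht
  set N := (t : Matrix (Fin (n + 2)) (Fin (n + 2)) F) - 1 with hN
  let φ := Matrix.toLin' N
  let K := LinearMap.ker φ
  have hK : Module.finrank F K = n + 1 := by
    have h := φ.finrank_range_add_finrank_ker
    rw [Module.finrank_fin_fun] at h
    have hr' : Module.finrank F (LinearMap.range φ) = 1 := by
      rw [← hr, Matrix.rank, ← Matrix.toLin'_apply']
    show Module.finrank F (LinearMap.ker φ) = n + 1
    omega
  obtain ⟨y, hy⟩ : ∃ y, y ∉ K := by
    by_contra hc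
    push Not at hc
    have hK' : K = ⊤ := eq_top_iff.2 fun z _ => hc z
    rw [hK', finrank_top, Module.finrank_fin_fun] at hK
    omega
  have hsup : K ⊔ Submodule.span F {y} = ⊤ := by
    apply Submodule.eq_top_of_finrank_eq
    have hlt : K < K ⊔ Submodule.span F {y} :=
      lt_of_le_of_ne le_sup_left fun h => hy (h.symm ▸ Submodule.mem_sup_right
        (Submodule.mem_span_singleton_self y))
    have h1 := Submodule.finrank_lt_finrank_of_lt hlt
    have h2 := Submodule.finrank_le (K ⊔ Submodule.span F {y})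
    rw [Module.finrank_fin_fun] at h2 ⊢
    omega
  let bK := Module.finBasisOfFinrankEq F K hK
  let b : Module.Basis (Fin (n + 2)) F (Fin (n + 2) → F) := Module.Basis.mkFinCons y bK
    (fun c x hx h => by
      by_contra hc
      apply hy
      have h2 : c • y ∈ K := by rw [eq_neg_of_add_eq_zero_left h]; exact K.neg_mem hx
      simpa [smul_smul, inv_mul_cancel₀ hc] using K.smul_mem c⁻¹ h2)
    (fun z => by
      obtain ⟨k, hk, w, hw, hz⟩ := Submodule.mem_sup.1 (hsup ▸ Submodule.mem_top (x := z))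
      obtain ⟨a, rfl⟩ := Submodule.mem_span_singleton.1 hw
      exact ⟨-a, by simpa [← hz, add_assoc] using hk⟩)
  have hb0 : b 0 = y := by simp [b]
  have hbs : ∀ i : Fin (n + 1), b i.succ = (bK i : Fin (n + 2) → F) := fun i => by simp [b]
  have hbK : ∀ j, j ≠ 0 → N *ᵥ (b j) = 0 := by
    intro j hj
    obtain ⟨i, rfl⟩ := Fin.exists_succ_eq.2 hj
    rw [hbs]
    exact LinearMap.mem_ker.1 (bK i).2
  let P : Matrix (Fin (n + 2)) (Fin (n + 2)) F := (Pi.basisFun F (Fin (n + 2))).toMatrix b
  have hP : ∀ j, P *ᵥ Pi.single j 1 = b j := fun j => by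
    funext i
    simp [P, Module.Basis.toMatrix_apply]
  have hPdet : P.det ≠ 0 := by
    haveI := (Pi.basisFun F (Fin (n + 2))).invertibleToMatrix b
    exact (Matrix.isUnit_det_of_invertible P).ne_zero
  let E : Matrix (Fin (n + 2)) (Fin (n + 2)) F :=
    Matrix.diagonal fun i => if i = 0 then P.det⁻¹ else 1
  let g : Matrix.SpecialLinearGroup (Fin (n + 2)) F := ⟨P * E, by
    rw [Matrix.det_mul, Matrix.det_diagonal, Finset.prod_ite_eq' Finset.univ 0 fun _ => P.det⁻¹,
      if_pos (Finset.mem_univ _), mul_inv_cancel₀ hPdet]⟩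
  have hgval : (g : Matrix (Fin (n + 2)) (Fin (n + 2)) F) = P * E := rfl
  clear_value g
  let M : Matrix (Fin (n + 2)) (Fin (n + 2)) F := (g⁻¹ : Matrix.SpecialLinearGroup _ F) * N * g
  have hMdef : M = (g⁻¹ : Matrix.SpecialLinearGroup _ F).1 * N * g.1 := rfl
  clear_value M
  have hgj : ∀ j, (g : Matrix (Fin (n + 2)) (Fin (n + 2)) F) *ᵥ Pi.single j 1 =
      (if j = 0 then P.det⁻¹ else 1) • b j := by
    intro j
    rw [hgval, ← Matrix.mulVec_mulVec]
    have : E *ᵥ Pi.single j 1 = (if j = 0 then P.det⁻¹ else 1) • Pi.single j (1 : F) := by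
      funext i
      rw [Matrix.mulVec_diagonal]
      by_cases h : i = j
      · subst h; simp
      · simp [h]
    rw [this, Matrix.mulVec_smul, hP]
  refine ⟨g, M *ᵥ Pi.single 0 1, ?_, ?_⟩
  · -- the zeroth coordinate vanishes because the image lies in the kernel
    have hg1 : (g⁻¹ : Matrix.SpecialLinearGroup _ F).1 * (g : Matrix.SpecialLinearGroup _ F).1 = 1 :=
      congrArg Subtype.val (inv_mul_cancel g)
    set w := N *ᵥ ((g : Matrix (Fin (n + 2)) (Fin (n + 2)) F) *ᵥ Pi.single 0 1) with hw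
    have hwK : w ∈ K := by
      rw [LinearMap.mem_ker]
      show Matrix.toLin' N w = 0
      rw [Matrix.toLin'_apply, hw, Matrix.mulVec_mulVec, hsq, Matrix.zero_mulVec]
    have hM : M *ᵥ Pi.single 0 1 = (g⁻¹ : Matrix.SpecialLinearGroup _ F).1 *ᵥ w := by
      rw [hw, hMdef, Matrix.mulVec_mulVec, Matrix.mulVec_mulVec]
    rw [hM]
    have hle : K ≤ Submodule.comap (Matrix.toLin' (g⁻¹ : Matrix.SpecialLinearGroup _ F).1)
        (LinearMap.ker (LinearMap.proj (R := F) (φ := fun _ : Fin (n + 2) => F) 0)) := by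
      have hspan : K = Submodule.span F (Set.range fun i : Fin (n + 1) => b i.succ) := by
        simp only [hbs]
        rw [show (fun i => (bK i : Fin (n + 2) → F)) = K.subtype ∘ bK from rfl, Set.range_comp,
          Submodule.span_image, bK.span_eq, Submodule.map_subtype_top]
      rw [hspan, Submodule.span_le]
      rintro _ ⟨i, rfl⟩
      show ((g⁻¹ : Matrix.SpecialLinearGroup _ F).1 *ᵥ b i.succ) 0 = 0
      have := hgj i.succ
      rw [if_neg (Fin.succ_ne_zero i), one_smul] at this
      rw [← this, Matrix.mulVec_mulVec, hg1, Matrix.one_mulVec,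
        Pi.single_eq_of_ne (Fin.succ_ne_zero i).symm]
    exact hle hwK
  · have hMval : ((g⁻¹ * t * g : Matrix.SpecialLinearGroup (Fin (n + 2)) F) :
        Matrix (Fin (n + 2)) (Fin (n + 2)) F) = 1 + M := by
      have hg1 : (g⁻¹ : Matrix.SpecialLinearGroup _ F).1 * g.1 = 1 :=
        congrArg Subtype.val (inv_mul_cancel g)
      show (g⁻¹ : Matrix.SpecialLinearGroup _ F).1 * t.1 * g.1 = 1 + M
      have ht' : (t.1 : Matrix _ _ F) = 1 + N := by rw [hN]; simp
      rw [hMdef, ht', Matrix.mul_add, Matrix.add_mul, Matrix.mul_one, hg1]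
    rw [hMval]
    congr 1
    ext i j
    rw [Matrix.vecMulVec_apply]
    have hcol : M i j = (M *ᵥ Pi.single j 1) i := by simp
    rw [hcol]
    by_cases hj : j = 0
    · subst hj; simp
    · have h1 := hgj j
      rw [if_neg hj, one_smul] at h1
      rw [hMdef, ← Matrix.mulVec_mulVec, ← Matrix.mulVec_mulVec, h1, hbK j hj, Matrix.mulVec_zero,
        Pi.single_eq_of_ne hj, mul_zero, Pi.zero_apply]

end Cfsg.Agent.S0839
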