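import Cfsg.Statements.S0840
import Cfsg.Agent.Lib.Char.Central

set_option autoImplicit false
open scoped ComplexConjugate
open Cfsg

namespace Cfsg.Agent.S0840

open Cfsg.Agent.Char in
theorem pairs_formula {G : Type*} [Group G] [Fintype G] [DecidableEq G] [Fintype (Cfsg.IrrCharacter G)]
    [DecidableRel (IsConj : G → G → Prop)] (a b c : G) :
    ((∑ x ∈ Finset.univ.filter (IsConj a), ∑ y ∈ Finset.univ.filter (IsConj b),
      if x * y = c then 1 else 0 : ℕ) : ℂ) =
      (Nat.card {x : G // IsConj a x} : ℂ) * (Nat.card {x : G // IsConj b x} : ℂ) / (Nat.card G : ℂ) *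
        ∑ χ : Cfsg.IrrCharacter G,
          (χ : G → ℂ) a * (χ : G → ℂ) b * conj ((χ : G → ℂ) c) / (χ : G → ℂ) 1 := by
  let F : G → ℂ := fun z => ∑ x ∈ Finset.univ.filter (IsConj a),
      ∑ y ∈ Finset.univ.filter (IsConj b), if x * y = z then 1 else 0
  have hF : Cfsg.IsClassFunction G F := by
    intro z w
    have e : ∀ (d : G) (x : G), IsConj d ((MulAut.conj w⁻¹).toEquiv x) ↔ IsConj d x := fun d x => by
      have : IsConj x ((MulAut.conj w⁻¹).toEquiv x) := isConj_iff.mpr ⟨w⁻¹, by simp⟩
      exact ⟨fun h => h.trans this.symm, fun h => h.trans this⟩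
    refine Finset.sum_equiv (MulAut.conj w⁻¹).toEquiv
      (fun x => by simp only [Finset.mem_filter, Finset.mem_univ, true_and]; exact (e a x).symm)
      fun x _ => ?_
    refine Finset.sum_equiv (MulAut.conj w⁻¹).toEquiv
      (fun y => by simp only [Finset.mem_filter, Finset.mem_univ, true_and]; exact (e b y).symm)
      fun y _ => ?_
    refine if_congr ?_ rfl rfl
    rw [show (MulAut.conj w⁻¹).toEquiv x * (MulAut.conj w⁻¹).toEquiv y = w⁻¹ * (x * y) * w by
      simp [mul_assoc]]
    constructor
    · intro h; rw [h]; group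
    · intro h; rw [← h]; group
  have key : ∀ χ : Cfsg.IrrCharacter G, Cfsg.classInner F (χ : G → ℂ) =
      (Nat.card {x : G // IsConj a x} : ℂ) * (Nat.card {x : G // IsConj b x} : ℂ) /
        (Nat.card G : ℂ) * (conj ((χ : G → ℂ) a * (χ : G → ℂ) b) / (χ : G → ℂ) 1) := by
    intro χ
    have h := centralChar_mul χ.2 a b
    have h1 : (χ : G → ℂ) 1 ≠ 0 := IsIrrCharacter.apply_one_ne_zero χ.2
    have h2 : Cfsg.classInner F (χ : G → ℂ) = (Nat.card G : ℂ)⁻¹ *
        conj (∑ x ∈ Finset.univ.filter (IsConj a), ∑ y ∈ Finset.univ.filter (IsConj b),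
          (χ : G → ℂ) (x * y)) := by
      simp only [Cfsg.classInner, F, Finset.sum_mul, map_sum, ite_mul, one_mul, zero_mul]
      congr 1
      rw [Finset.sum_comm]
      refine Finset.sum_congr rfl fun x _ => ?_
      rw [Finset.sum_comm]
      exact Finset.sum_congr rfl fun y _ => by simp
    rw [h2, ← div_mul_cancel₀ (∑ x ∈ _, ∑ y ∈ _, (χ : G → ℂ) (x * y)) h1, ← h]
    simp only [Cfsg.centralChar, card_isConj_eq_index, map_mul, map_div₀, map_natCast, conj_irr_one]
    field_simp
  have hc := congrArg conj (congrFun (IsClassFunction.eq_sum hF) c)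
  simp only [key, Finset.sum_apply, Pi.smul_apply, smul_eq_mul, map_sum, map_mul, map_div₀,
    map_natCast, conj_irr_one, Complex.conj_conj] at hc
  have hreal : conj (F c) = ((∑ x ∈ Finset.univ.filter (IsConj a),
      ∑ y ∈ Finset.univ.filter (IsConj b), if x * y = c then 1 else 0 : ℕ) : ℂ) := by
    simp [F, map_sum, apply_ite (starRingEnd ℂ), apply_ite (Nat.cast : ℕ → ℂ)]
  rw [← hreal, hc, Finset.mul_sum]
  refine Finset.sum_congr rfl fun χ _ => ?_
  ring

/-- Class multiplication coefficients from the character table: for elements a, b, c of a finite group G, the number of ordered pairs (x, y) with x conjugate to a, y conjugate to b and x * y = c equals the product of the sizes of the conjugacy classes of a and b, divided by the order of G, times the sum over the irreducible characters χ of χ a * χ b * conj (χ c) / χ 1. -/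
theorem result {G : Type*} [Group G] [Finite G] (a b c : G) : (Nat.card {p : G × G // IsConj a p.1 ∧ IsConj b p.2 ∧ p.1 * p.2 = c} : ℂ) = (Nat.card {x : G // IsConj a x} : ℂ) * (Nat.card {x : G // IsConj b x} : ℂ) / (Nat.card G : ℂ) * ∑ᶠ χ : Cfsg.IrrCharacter G, (χ : G → ℂ) a * (χ : G → ℂ) b * conj ((χ : G → ℂ) c) / (χ : G → ℂ) 1 := by
  classical
  haveI := Fintype.ofFinite G
  haveI := Fintype.ofFinite (Cfsg.IrrCharacter G)
  rw [finsum_eq_sum_of_fintype, ← pairs_formula a b c]
  congr 1
  rw [Nat.card_eq_fintype_card, Fintype.card_subtype, ← Finset.sum_product', Finset.sum_boole]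
  congr 1
  ext p
  simp [and_assoc]

end Cfsg.Agent.S0840
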