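import Cfsg.Statements.S0841
import Mathlib.Tactic.Group
import Mathlib.Tactic.Ring
import Mathlib.Algebra.BigOperators.Group.Finset.Basic
import Mathlib.Data.Nat.Choose.Basic

set_option autoImplicit false
open Cfsg

namespace Cfsg.Agent.S0841

/-- If the commutator subgroup of G lies in the centre, then for all x, y in G and every natural number n one has (x * y) ^ n = x ^ n * y ^ n * c ^ (n * (n - 1) / 2) with c = y⁻¹ * x⁻¹ * y * x. -/
theorem result {G : Type*} [Group G] (hG : commutator G ≤ Subgroup.center G) (x y : G) (n : ℕ) : (x * y) ^ n = x ^ n * y ^ n * (y⁻¹ * x⁻¹ * y * x) ^ (n * (n - 1) / 2) := by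
  have hc : ∀ a b : G, a * b * a⁻¹ * b⁻¹ ∈ Subgroup.center G := fun a b =>
    hG (Subgroup.commutator_mem_commutator (H₁ := ⊤) (H₂ := ⊤) (Subgroup.mem_top a) (Subgroup.mem_top b))
  set c := y⁻¹ * x⁻¹ * y * x with hcdef
  have hcc : c ∈ Subgroup.center G := by simpa [hcdef, mul_assoc] using hc y⁻¹ x⁻¹
  have hcomm : ∀ g, g * c = c * g := fun g => Subgroup.mem_center_iff.mp hcc g
  have hyx : y * x = x * y * c := by rw [hcdef]; group
  have hyn : ∀ m : ℕ, y ^ m * x = x * y ^ m * c ^ m := by
    intro m
    induction m with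
    | zero => simp
    | succ m ih =>
      calc y ^ (m + 1) * x = y ^ m * (y * x) := by rw [pow_succ, mul_assoc]
        _ = (y ^ m * x) * (y * c) := by rw [hyx]; simp only [mul_assoc]
        _ = x * y ^ m * (c ^ m * y) * c := by rw [ih]; simp only [mul_assoc]
        _ = x * y ^ m * (y * c ^ m) * c := by
          rw [((show Commute y c from hcomm y).pow_right m).eq]
        _ = x * y ^ (m + 1) * c ^ (m + 1) := by rw [pow_succ, pow_succ]; simp only [mul_assoc]
  induction n with
  | zero => simp
  | succ m ih =>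
    have e : (m + 1) * (m + 1 - 1) / 2 = m * (m - 1) / 2 + m := by
      rw [← Nat.choose_two_right, ← Nat.choose_two_right, Nat.choose_succ_succ', Nat.choose_one_right,
        add_comm]
    set j := m * (m - 1) / 2
    calc (x * y) ^ (m + 1) = x ^ m * y ^ m * (c ^ j * (x * y)) := by rw [pow_succ, ih]; simp only [mul_assoc]
      _ = x ^ m * y ^ m * ((x * y) * c ^ j) := by
        rw [((show Commute (x * y) c from hcomm _).pow_right j).eq]
      _ = x ^ m * (y ^ m * x) * (y * c ^ j) := by simp only [mul_assoc]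
      _ = x ^ m * x * y ^ m * (c ^ m * y) * c ^ j := by rw [hyn]; simp only [mul_assoc]
      _ = x ^ m * x * y ^ m * (y * c ^ m) * c ^ j := by
        rw [((show Commute y c from hcomm y).pow_right m).eq]
      _ = x ^ (m + 1) * y ^ (m + 1) * c ^ ((m + 1) * (m + 1 - 1) / 2) := by
        rw [e, add_comm j m, pow_add c, pow_succ x, pow_succ y]; simp only [mul_assoc]

end Cfsg.Agent.S0841
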