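import Cfsg.Statements.S0843
import Cfsg.Agent.Lib.Char.Quat.Derived
import Cfsg.Agent.Lib.Solv.Basic
-- import your own Cfsg.Agent.* helpers here

set_option autoImplicit false
set_option linter.style.haveILetI false
open Cfsg

namespace Cfsg.Agent.S0843

/-- Suppose a Sylow 2-subgroup S of the finite group G is generalized quaternion of order at least 16; let D be the commutator subgroup of S and X the set of elements of the centralizer of D whose order is divisible by the order of D. Then D is contained in the cyclic subgroup generated by any element of X; an element of G conjugating some element of X into the centralizer of D normalizes D; and the normalizer of D maps X to itself under conjugation. -/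
theorem result {G : Type*} [Group G] [Finite G] (S : Sylow 2 G) (n : ℕ) (e : (S : Subgroup G) ≃* QuaternionGroup (2 ^ (n + 2))) (D : Subgroup G) (hD : D = ⁅(S : Subgroup G), (S : Subgroup G)⁆) : (∀ y : G, y ∈ Subgroup.centralizer (D : Set G) → Nat.card D ∣ orderOf y → D ≤ Subgroup.zpowers y) ∧ (∀ g y : G, y ∈ Subgroup.centralizer (D : Set G) → Nat.card D ∣ orderOf y → g * y * g⁻¹ ∈ Subgroup.centralizer (D : Set G) → g ∈ Subgroup.normalizer (D : Set G)) ∧ (∀ g y : G, g ∈ Subgroup.normalizer (D : Set G) → y ∈ Subgroup.centralizer (D : Set G) → Nat.card D ∣ orderOf y → g * y * g⁻¹ ∈ Subgroup.centralizer (D : Set G) ∧ Nat.card D ∣ orderOf (g * y * g⁻¹)) := by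
  classical
  haveI : Fact (Nat.Prime 2) := ⟨Nat.prime_two⟩
  obtain ⟨K, A, hKodd, hKC, hNK, -, hA, hKA, -, hAcyc, hDcyc, hDA, hDcard⟩ :=
    Cfsg.Agent.Char.Quat.structure_derived S n e D hD
  set C := Subgroup.centralizer (D : Set G) with hC
  have hAC : A ≤ C := hKA ▸ le_sup_right
  have hCn : C ≤ Subgroup.normalizer (D : Set G) := Subgroup.centralizer_le_normalizer _
  have hAS : IsPGroup 2 A := by rw [hA]; exact S.isPGroup'.to_le inf_le_left
  -- `A` is a Sylow subgroup of `C`
  have hindex : ¬ 2 ∣ (A.subgroupOf C).index := by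
    haveI : (K.subgroupOf C).Normal :=
      Subgroup.normal_subgroupOf_of_le_normalizer (hCn.trans hNK)
    have hsup : A.subgroupOf C ⊔ K.subgroupOf C = ⊤ := by
      rw [← Subgroup.subgroupOf_sup hAC hKC, sup_comm, hKA, Subgroup.subgroupOf_self]
    have h1 := (A.subgroupOf C).index_mul_card
    have h2 := Cfsg.Agent.Solv.card_sup_dvd_of_normal (K.subgroupOf C) (A.subgroupOf C)
    rw [sup_comm, hsup, Subgroup.card_top, ← h1, mul_comm (Nat.card (K.subgroupOf C))] at h2
    intro h
    have h3 : (A.subgroupOf C).index ∣ Nat.card (K.subgroupOf C) :=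
      Nat.dvd_of_mul_dvd_mul_right Nat.card_pos (by rw [mul_comm (Nat.card (K.subgroupOf C))]; exact h2)
    have h4 := h.trans h3
    rw [Nat.card_congr (Subgroup.subgroupOfEquivOfLe hKC).toEquiv] at h4
    exact (Nat.not_even_iff_odd.mpr hKodd) (even_iff_two_dvd.mpr h4)
  let P : Sylow 2 C :=
    (hAS.of_equiv (Subgroup.subgroupOfEquivOfLe hAC).symm).toSylow hindex
  have part1 : ∀ y : G, y ∈ C → Nat.card D ∣ orderOf y → D ≤ Subgroup.zpowers y := by
    intro y hy hdvd
    set o := orderOf y with ho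
    have ho0 : o ≠ 0 := (orderOf_pos y).ne'
    let z : C := (⟨y, hy⟩ : C) ^ (ordCompl[2] o)
    have hzo : orderOf z = ordProj[2] o := by
      rw [orderOf_pow' _ (Nat.ordCompl_pos 2 ho0).ne', Subgroup.orderOf_mk, ← ho,
        Nat.gcd_eq_right (Nat.ordCompl_dvd o 2)]
      exact Nat.div_div_self (Nat.ordProj_dvd o 2) ho0
    have hzp : IsPGroup 2 (Subgroup.zpowers z) :=
      IsPGroup.of_card (n := o.factorization 2) (by rw [Nat.card_zpowers, hzo])
    obtain ⟨T, hT⟩ := hzp.exists_le_sylow
    obtain ⟨c, hc⟩ := MulAction.exists_smul_eq C P T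
    let A' : Subgroup G := A.map (MulAut.conj (c : G)).toMonoidHom
    have hzA : Subgroup.zpowers (z : G) ≤ A' := by
      rw [Subgroup.zpowers_le]
      have hz := hT (Subgroup.mem_zpowers z)
      rw [← hc] at hz
      obtain ⟨a, ha, he⟩ := hz
      exact ⟨(a : G), ha, congrArg Subtype.val he⟩
    haveI := hAcyc
    have hA'cyc : IsCyclic A' :=
      isCyclic_of_surjective (A.equivMapOfInjective _ (MulAut.conj (c : G)).injective)
        (MulEquiv.surjective _)
    have hDA' : D ≤ A' := fun d hd => ⟨d, hDA hd, by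
      show (c : G) * d * (c : G)⁻¹ = d
      rw [← Subgroup.mem_centralizer_iff.mp c.2 d hd, mul_inv_cancel_right]⟩
    refine (Cfsg.Agent.Char.Quat.le_of_card_eq hA'cyc hDA' hzA ?_).trans
      (Subgroup.zpowers_le.mpr (Subgroup.pow_mem _ (Subgroup.mem_zpowers y) _))
    rw [Nat.card_zpowers, Subgroup.orderOf_coe, hzo, hDcard]
    rw [hDcard] at hdvd
    exact (Nat.prime_two.pow_dvd_iff_dvd_ordProj ho0).mp hdvd
  refine ⟨part1, fun g y hy hdvd hconj => ?_, fun g y hg hy hdvd => ⟨?_, ?_⟩⟩
  · have ho : orderOf (g * y * g⁻¹) = orderOf y := by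
      rw [show g * y * g⁻¹ = MulAut.conj g y from rfl, MulEquiv.orderOf_eq]
    have h1 := part1 _ hconj (ho.symm ▸ hdvd)
    have h2 : D.map (MulAut.conj g).toMonoidHom ≤ Subgroup.zpowers (g * y * g⁻¹) := by
      refine (Subgroup.map_mono (part1 y hy hdvd)).trans_eq ?_
      rw [MonoidHom.map_zpowers]
      rfl
    have hc : Nat.card (D.map (MulAut.conj g).toMonoidHom) = Nat.card D :=
      Subgroup.card_map_of_injective (MulAut.conj g).injective
    rw [Subgroup.mem_normalizer_iff_map_conj_eq]
    exact le_antisymm (Cfsg.Agent.Char.Quat.le_of_card_eq inferInstance h2 h1 hc.dvd)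
      (Cfsg.Agent.Char.Quat.le_of_card_eq inferInstance h1 h2 hc.symm.dvd)
  · rw [Subgroup.mem_centralizer_iff]
    intro d hd
    have h1 : g⁻¹ * d * g ∈ D := by
      have h := (Subgroup.mem_normalizer_iff.mp ((Subgroup.normalizer (D : Set G)).inv_mem hg) d).mp hd
      simpa using h
    have h2 := Subgroup.mem_centralizer_iff.mp hy _ h1
    calc d * (g * y * g⁻¹) = g * ((g⁻¹ * d * g) * y) * g⁻¹ := by group
      _ = g * (y * (g⁻¹ * d * g)) * g⁻¹ := by rw [h2]
      _ = g * y * g⁻¹ * d := by group
  · rwa [show g * y * g⁻¹ = MulAut.conj g y from rfl, MulEquiv.orderOf_eq]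

end Cfsg.Agent.S0843
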