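import Cfsg.Statements.S0844
import Cfsg.Agent.Lib.Char.Quat.Exceptional
import Cfsg.Agent.S0843

set_option autoImplicit false
open Cfsg

namespace Cfsg.Agent.S0844

/-- Suppose a Sylow 2-subgroup S of the finite group G is generalized quaternion of order at least 16. Then G has two non-principal irreducible characters χ₁ and χ₂ with χ₁ 1 = χ₂ 1 + 1 such that χ₁ g - χ₂ g = 1 for every element g whose order is not divisible by 4. -/
theorem result {G : Type*} [Group G] [Fintype G] (S : Sylow 2 G) (n : ℕ) (e : (S : Subgroup G) ≃* QuaternionGroup (2 ^ (n + 2))) : ∃ χ₁ χ₂ : G → ℂ, Cfsg.IsIrrCharacter G χ₁ ∧ Cfsg.IsIrrCharacter G χ₂ ∧ χ₁ ≠ (fun _ => 1) ∧ χ₂ ≠ (fun _ => 1) ∧ χ₁ 1 = χ₂ 1 + 1 ∧ ∀ g : G, ¬ 4 ∣ orderOf g → χ₁ g - χ₂ g = 1 := by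
  classical
  haveI : NeZero (2 ^ (n + 2)) := ⟨by positivity⟩
  set M := 2 ^ (n + 2) with hMdef
  have h4 : 4 ∣ M := pow_dvd_pow 2 (m := 2) (by omega)
  set D : Subgroup G := ⁅(S : Subgroup G), (S : Subgroup G)⁆ with hD
  obtain ⟨K, A, hKodd, hKC, hNK, hKS, hA, -, -, -, -, -, hDcard⟩ :=
    Cfsg.Agent.Char.Quat.structure_derived S n e D hD
  obtain ⟨-, hTIX, -⟩ := Cfsg.Agent.S0843.result S n e D hD
  set N := Subgroup.normalizer (D : Set G) with hN
  have hSN : (S : Subgroup G) ≤ N := hKS ▸ le_sup_right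
  have hKN : K ≤ N := hKS ▸ le_sup_left
  haveI : (K.subgroupOf N).Normal := Subgroup.normal_subgroupOf_of_le_normalizer hNK
  have hcompl : ((S : Subgroup G).subgroupOf N).IsComplement' (K.subgroupOf N) := by
    refine Subgroup.isComplement'_of_disjoint_and_mul_eq_univ (disjoint_iff.2 ?_) ?_
    · rw [Subgroup.eq_bot_iff_forall]
      rintro ⟨x, hxN⟩ ⟨hxS, hxK⟩
      obtain ⟨k, hk⟩ := S.2 ⟨x, hxS⟩
      apply Subtype.ext
      have h1 : orderOf x ∣ 2 ^ k := orderOf_dvd_of_pow_eq_one (congrArg Subtype.val hk)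
      exact orderOf_eq_one_iff.1 (Nat.eq_one_of_dvd_coprimes
        ((Nat.coprime_two_left.2 hKodd).pow_left k) h1 (Subgroup.orderOf_dvd_natCard K hxK))
    · rw [← Subgroup.mul_normal, ← Subgroup.subgroupOf_sup hSN hKN, sup_comm, hKS, Subgroup.subgroupOf_self,
        Subgroup.coe_top]
  let eS : ((S : Subgroup G).subgroupOf N) ≃* QuaternionGroup M := (Subgroup.subgroupOfEquivOfLe hSN).trans e
  let π₀ : N →* QuaternionGroup M := eS.toMonoidHom.comp
    (hcompl.QuotientMulEquiv.toMonoidHom.comp (QuotientGroup.mk' (K.subgroupOf N)))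
  have hπ₀s : Function.Surjective π₀ :=
    eS.surjective.comp (hcompl.QuotientMulEquiv.surjective.comp (QuotientGroup.mk'_surjective _))
  have hdec : ∀ x : N, ∃ s : (S : Subgroup G), ∃ k ∈ K, (x : G) = (s : G) * k ∧ π₀ x = e s := by
    intro x
    obtain ⟨⟨⟨s, hs⟩, ⟨k, hk⟩⟩, hsk⟩ := hcompl.2 x
    have hsk' : s * k = x := hsk
    refine ⟨⟨(s : G), hs⟩, (k : G), hk, by rw [← hsk']; rfl, ?_⟩
    show eS (hcompl.QuotientMulEquiv (QuotientGroup.mk x)) = _
    have : (QuotientGroup.mk x : N ⧸ K.subgroupOf N) = QuotientGroup.mk s := by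
      rw [QuotientGroup.eq, ← hsk', mul_inv_rev, mul_assoc, inv_mul_cancel, mul_one]
      exact Subgroup.inv_mem _ hk
    rw [this]
    have h2 : hcompl.QuotientMulEquiv.symm ⟨s, hs⟩ = QuotientGroup.mk s := rfl
    rw [← h2, MulEquiv.apply_symm_apply]
    rfl
  let π : N →* DihedralGroup 4 := (Cfsg.Agent.Char.Quat.quatToD8 h4).comp π₀
  have hπs : Function.Surjective π := (Cfsg.Agent.Char.Quat.quatToD8_surjective h4).comp hπ₀s
  let f : DihedralGroup 4 → ℂ := fun g => (Cfsg.Agent.Char.Quat.d8Fun g : ℂ)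
  let φ : N → ℂ := f ∘ π
  let X : Set G := {y | y ∈ Subgroup.centralizer (D : Set G) ∧ Nat.card D ∣ orderOf y}
  have hφX : ∀ x : N, (x : G) ∉ X → φ x = 0 := by
    intro x hx
    by_contra hne
    have hne' : Cfsg.Agent.Char.Quat.d8Fun (π x) ≠ 0 := fun h => hne (by
      show (Cfsg.Agent.Char.Quat.d8Fun (π x) : ℂ) = 0
      rw [h, Int.cast_zero])
    obtain ⟨i, hi, hi0⟩ := Cfsg.Agent.Char.Quat.d8Fun_ne_zero hne'
    obtain ⟨j, hj⟩ : ∃ j, π₀ x = QuaternionGroup.a j := by
      rcases h : π₀ x with j | j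
      · exact ⟨j, rfl⟩
      · exfalso
        have : π x = DihedralGroup.sr (ZMod.castHom (h4.mul_left 2) (ZMod 4) j) := by
          show Cfsg.Agent.Char.Quat.quatToD8 h4 (π₀ x) = _
          rw [h]; rfl
        rw [hi] at this
        cases this
    have hj0 : ZMod.castHom (h4.mul_left 2) (ZMod 4) j ≠ 0 := by
      have : π x = DihedralGroup.r (ZMod.castHom (h4.mul_left 2) (ZMod 4) j) := by
        show Cfsg.Agent.Char.Quat.quatToD8 h4 (π₀ x) = _
        rw [hj]; rfl
      rw [hi] at this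
      rw [← DihedralGroup.r.inj this]; exact hi0
    obtain ⟨s, k, hk, hxsk, hxe⟩ := hdec x
    apply hx
    refine ⟨?_, ?_⟩
    · rw [hxsk]
      refine mul_mem ?_ (hKC hk)
      rw [Subgroup.mem_centralizer_iff]
      intro d hd
      have hdS : d ∈ (S : Subgroup G) := Subgroup.commutator_le_self _ hd
      have hed : e ⟨d, hdS⟩ ∈ Subgroup.zpowers (QuaternionGroup.a 2 : QuaternionGroup M) := by
        rw [← Cfsg.Agent.Char.Quat.commutator_eq (m := M)]
        have hmap : Subgroup.map (S : Subgroup G).subtype (⁅(⊤ : Subgroup (S : Subgroup G)), ⊤⁆ : Subgroup (S : Subgroup G)) = D := by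
          rw [Subgroup.map_commutator, ← MonoidHom.range_eq_map, Subgroup.range_subtype]
        rw [← hmap] at hd
        obtain ⟨d', hd', hdd'⟩ := hd
        have hm := Subgroup.mem_map_of_mem e.toMonoidHom hd'
        rw [Subgroup.map_commutator, Subgroup.map_top_of_surjective e.toMonoidHom e.surjective] at hm
        have : (⟨d, hdS⟩ : (S : Subgroup G)) = d' := Subtype.ext hdd'.symm
        rw [this]; exact hm
      obtain ⟨i', hi'⟩ := Subgroup.mem_zpowers_iff.1 hed
      have hc : Commute (e ⟨d, hdS⟩) (e s) := by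
        rw [← hi', ← hxe, hj]
        exact (show Commute (QuaternionGroup.a 2 : QuaternionGroup M) (QuaternionGroup.a j) by
          show _ * _ = _ * _
          rw [QuaternionGroup.a_mul_a, QuaternionGroup.a_mul_a, add_comm]).zpow_left i'
      have := e.injective (a₁ := (⟨d, hdS⟩ : (S : Subgroup G)) * s) (a₂ := s * ⟨d, hdS⟩) (by rw [map_mul, map_mul]; exact hc)
      exact congrArg Subtype.val this
    · rw [hDcard]
      refine (Cfsg.Agent.Char.Quat.dvd_orderOf_a hMdef h4 hj0).trans ?_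
      rw [← hj]
      exact (orderOf_map_dvd π₀ x).trans (Subgroup.orderOf_coe x).symm.dvd
  have hX1 : (1 : G) ∉ X := fun h => by
    have h1 := h.2
    rw [hDcard, orderOf_one] at h1
    have := Nat.le_of_dvd one_pos ((pow_dvd_pow 2 (show 1 ≤ n + 2 by omega)).trans h1)
    norm_num at this
  have hTI : ∀ g : G, g ∉ N → ∀ y ∈ X, g * y * g⁻¹ ∈ X → y = 1 :=
    fun g hg y hy hgy => absurd (hTIX g y hy.1 hy.2 hgy.1) hg
  have hfg := Cfsg.Agent.Char.Quat.d8Fun_generalized
  have hφg : IsGeneralizedCharacter N φ := Cfsg.Agent.Char.isGeneralizedCharacter_comp hfg π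
  have hφc := Cfsg.Agent.Char.IsGeneralizedCharacter.isClassFunction hφg
  have hφ1 : φ 1 = 0 := hφX 1 hX1
  set Φ := Cfsg.indFun N φ with hΦ
  have hΦg : IsGeneralizedCharacter G Φ := Cfsg.Agent.Char.isGeneralizedCharacter_indFun N hφg
  haveI := Fintype.ofFinite N
  have hΦn : classInner Φ Φ = 3 := by
    rw [hΦ, Cfsg.Agent.Char.classInner_indFun_ti X N hTI hφc hφX hφX hφ1]
    exact (Cfsg.Agent.Char.Quat.classInner_comp_surjective π hπs f f).trans Cfsg.Agent.Char.Quat.d8_norm
  have hΦ1 : classInner Φ 1 = 1 := by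
    rw [hΦ, Cfsg.Agent.Char.classInner_indFun N φ
      (Cfsg.Agent.Char.IsCharacter.isClassFunction Cfsg.Agent.Char.isCharacter_one)]
    exact (Cfsg.Agent.Char.Quat.classInner_comp_surjective π hπs f 1).trans Cfsg.Agent.Char.Quat.d8_inner_one
  have hconj : classInner (1 : G → ℂ) Φ = 1 := by
    have h := congrArg (starRingEnd ℂ) hΦ1
    rw [map_one] at h
    rw [← h]
    simp only [classInner, map_mul, map_sum, map_inv₀, Complex.conj_natCast, Complex.conj_conj]
    congr 1
    exact Finset.sum_congr rfl fun x _ => mul_comm _ _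
  have h11 : classInner (1 : G → ℂ) 1 = 1 := by
    simp [classInner]
  have hψn : classInner (Φ - 1) (Φ - 1) = 2 := by
    simp only [Cfsg.Agent.Char.classInner_sub_left, Cfsg.Agent.Char.classInner_sub_right, hΦn, hΦ1, hconj, h11]
    norm_num
  have hψ1 : (Φ - 1) 1 = -1 := by
    show Φ 1 - 1 = -1
    rw [hΦ, Cfsg.Agent.Char.indFun_one_apply, hφ1]; ring
  obtain ⟨μ, ν, hne, heq⟩ := Cfsg.Agent.Char.Quat.exists_sub_of_norm_two'
    (Cfsg.Agent.Char.isGeneralizedCharacter_sub hΦg Cfsg.Agent.Char.isGeneralizedCharacter_one) hψn hψ1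
  have horth : classInner (μ : G → ℂ) 1 - classInner (ν : G → ℂ) 1 = 0 := by
    rw [← Cfsg.Agent.Char.classInner_sub_left, ← heq, Cfsg.Agent.Char.classInner_sub_left, hΦ1, h11, sub_self]
  refine ⟨ν, μ, ν.2, μ.2, fun h => ?_, fun h => ?_, ?_, fun g hg => ?_⟩
  · rw [show (ν : G → ℂ) = 1 from h] at horth
    have hone : IsIrrCharacter G (1 : G → ℂ) := by rw [← show (ν : G → ℂ) = 1 from h]; exact ν.2
    have h0 := Cfsg.Agent.Char.classInner_irr μ ⟨1, hone⟩
    rw [h0, if_neg (fun e' => hne (e'.trans (Subtype.ext h.symm))), h11] at horth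
    norm_num at horth
  · rw [show (μ : G → ℂ) = 1 from h] at horth
    have hone : IsIrrCharacter G (1 : G → ℂ) := by rw [← show (μ : G → ℂ) = 1 from h]; exact μ.2
    have h0 := Cfsg.Agent.Char.classInner_irr ν ⟨1, hone⟩
    rw [h0, if_neg (fun e' => hne ((Subtype.ext h : μ = ⟨1, hone⟩).trans e'.symm)), h11] at horth
    norm_num at horth
  · have h := congrFun heq 1
    rw [hψ1] at h
    simp only [Pi.sub_apply] at h
    linear_combination h
  · have h := congrFun heq g
    have hΦ0 : Φ g = 0 := by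
      rw [hΦ, Cfsg.Agent.Char.indFun_apply, Finset.sum_eq_zero, mul_zero]
      intro x _
      by_cases hm : x⁻¹ * g * x ∈ N
      · rw [Cfsg.Agent.Char.extendByZero_of_mem _ _ hm]
        refine hφX _ fun hX => hg ?_
        refine (h4.trans (hDcard ▸ hX.2)).trans ?_
        have : x⁻¹ * g * x = MulAut.conj x⁻¹ g := by simp [mul_assoc]
        show orderOf (x⁻¹ * g * x) ∣ orderOf g
        rw [this, MulEquiv.orderOf_eq]
      · exact Cfsg.Agent.Char.extendByZero_of_notMem _ _ hm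
    simp only [Pi.sub_apply, hΦ0, Pi.one_apply] at h
    linear_combination h

end Cfsg.Agent.S0844
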