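import Cfsg.Statements.S0845
import Cfsg.Agent.Lib.Inv.IsolatedSylow
import Cfsg.Agent.Lib.Inv.ZStarCor
import Cfsg.Agent.Lib.Inv.Conj
import Cfsg.Agent.Lib.Char.Quat.Derived

set_option autoImplicit false
open Cfsg

namespace Cfsg.Agent.S0845

/-- Suppose a Sylow 2-subgroup S of the finite group G is generalized quaternion of order at least 16. Then G has a normal subgroup M of even order such that G / M is non-abelian, that is, M does not contain the commutator subgroup of G. -/
theorem result {G : Type*} [Group G] [Finite G] (S : Sylow 2 G) (n : ℕ) (e : (S : Subgroup G) ≃* QuaternionGroup (2 ^ (n + 2))) : ∃ M : Subgroup G, M.Normal ∧ Even (Nat.card M) ∧ ¬ commutator G ≤ M := by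
  classical
  haveI : Fact (Nat.Prime 2) := ⟨Nat.prime_two⟩
  haveI : NeZero (2 ^ (n + 2)) := ⟨by positivity⟩
  set M := Subgroup.closure {g : G | orderOf g = 2} with hM
  have hMn : M.Normal := by
    refine ⟨fun x hx g => ?_⟩
    have hle : M ≤ M.comap (MulAut.conj g).toMonoidHom := by
      rw [hM, Subgroup.closure_le]
      intro y hy
      exact Subgroup.subset_closure (show orderOf (MulAut.conj g y) = 2 by rw [MulEquiv.orderOf_eq]; exact hy)
    exact hle hx
  haveI := hMn
  obtain ⟨z, hz⟩ := exists_prime_orderOf_dvd_card' (G := G) 2 (by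
    refine Dvd.dvd.trans ?_ (Subgroup.card_subgroup_dvd_card (S : Subgroup G))
    rw [Nat.card_congr e.toEquiv, Nat.card_eq_fintype_card, QuaternionGroup.card]
    exact Dvd.dvd.mul_right (by norm_num) _)
  refine ⟨M, hMn, even_iff_two_dvd.2 (hz ▸ Subgroup.orderOf_dvd_natCard M (Subgroup.subset_closure hz)), fun hle => ?_⟩
  -- the element of order `2 ^ (n + 2)` of the derived subgroup of `S`
  let d : (S : Subgroup G) := e.symm (QuaternionGroup.a 2)
  have hd : (d : G) ∈ M := by
    have h1 : (QuaternionGroup.a 2 : QuaternionGroup (2 ^ (n + 2))) ∈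
        (⁅(⊤ : Subgroup (QuaternionGroup (2 ^ (n + 2)))), ⊤⁆ : Subgroup (QuaternionGroup (2 ^ (n + 2)))) := by
      rw [Cfsg.Agent.Char.Quat.commutator_eq]; exact Subgroup.mem_zpowers _
    have h2 := Subgroup.mem_map_of_mem ((S : Subgroup G).subtype.comp e.symm.toMonoidHom) h1
    rw [Subgroup.map_commutator] at h2
    exact hle (Subgroup.commutator_mono le_top le_top h2)
  have hod : orderOf (d : G) = 2 ^ (n + 2) := by
    rw [Subgroup.orderOf_coe, MulEquiv.orderOf_eq, Cfsg.Agent.Char.Quat.orderOf_a_two]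
  -- it generates a two-subgroup of `M`, whose Sylow subgroups have order at most two
  obtain ⟨P, hP⟩ := (IsPGroup.of_card (G := Subgroup.zpowers (⟨(d : G), hd⟩ : M)) (p := 2) (n := n + 2)
    (by rw [Nat.card_zpowers, ← Subgroup.orderOf_coe, hod])).exists_le_sylow
  have hrank : Inv.TwoRankOne G := by
    refine Inv.twoRankOne_of_no_klein fun E hE => ?_
    haveI := hE
    obtain ⟨P, hP⟩ := (IsPGroup.of_card (G := E) (p := 2) (n := 2)
      (by rw [IsKleinFour.card_four]; rfl)).exists_le_sylow
    obtain ⟨c, hc⟩ := MulAction.exists_smul_eq G P S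
    have hmem : ∀ x ∈ E, c * x * c⁻¹ ∈ (S : Subgroup G) := fun x hx => hc ▸ ⟨x, hP hx, rfl⟩
    let φ : E →* QuaternionGroup (2 ^ (n + 2)) := e.toMonoidHom.comp
      (MonoidHom.mk' (fun x : E => (⟨c * (x : G) * c⁻¹, hmem x x.2⟩ : (S : Subgroup G)))
        fun a b => Subtype.ext (by simp [mul_assoc]))
    have hφ : Function.Injective φ := fun a b h => Subtype.ext
      (mul_left_cancel (mul_right_cancel (congrArg Subtype.val (e.injective h))))
    haveI : Fintype E := Fintype.ofFinite _
    have hsub : (Finset.univ : Finset E) ⊆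
        {1, (Function.invFun φ (QuaternionGroup.a ((2 ^ (n + 2) : ℕ) : ZMod (2 * 2 ^ (n + 2)))))} := by
      intro x _
      by_cases hx : x = 1
      · simp [hx]
      · have hox : orderOf x = 2 := by
          refine orderOf_eq_prime ?_ hx
          exact Monoid.exponent_dvd_iff_forall_pow_eq_one.1 IsKleinFour.exponent_two.dvd x
        have h1 := Inv.quaternion_involution_unique (x := φ x) (by rwa [orderOf_injective φ hφ])
        rw [Finset.mem_insert, Finset.mem_singleton, ← h1, Function.leftInverse_invFun hφ x]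
        exact Or.inr rfl
    have h4 := (Finset.card_le_card hsub).trans Finset.card_le_two
    rw [Finset.card_univ, ← Nat.card_eq_fintype_card, IsKleinFour.card_four] at h4
    omega
  set N := Subgroup.zpowers z ⊔ oddCore G with hN
  have hle_1 : M ≤ N := by
    rw [hM, Subgroup.closure_le]
    intro g hg
    obtain ⟨x, hx⟩ : IsConj z g := by
      by_contra hnc
      obtain ⟨v, hv, hvz, -, hcomm, -⟩ := Inv.exists_commuting_of_not_isConj hz hg hnc
      exact hvz (hrank v z hv hz hcomm)
    have hxg : g = (x : G) * z * (x : G)⁻¹ := eq_mul_inv_iff_mul_eq.2 hx.eq.symm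
    rw [hxg, show (x : G) * z * (x : G)⁻¹ = ((x : G) * z * (x : G)⁻¹ * z⁻¹) * z by group]
    refine mul_mem (Subgroup.mem_sup_right ?_) (Subgroup.mem_sup_left (Subgroup.mem_zpowers z))
    rw [Inv.inv_eq_self_of_orderOf_two hz]
    exact Inv.glauberman' (hrank.isolated hz) x
  have hNcard : Nat.card N ∣ Nat.card (oddCore G) * 2 := by
    have h := Solv.card_sup_dvd_of_normal (oddCore G) (Subgroup.zpowers z)
    rwa [sup_comm, Nat.card_zpowers, hz] at h
  obtain ⟨k, hk⟩ := P.isPGroup'.exists_card_eq
  have h := ((Subgroup.card_subgroup_dvd_card (P : Subgroup M)).trans (Subgroup.card_dvd_of_le hle_1)).trans hNcard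
  rw [hk] at h
  have h2 : 2 ^ k ∣ 2 := (Nat.Coprime.pow_left k (Nat.coprime_two_left.2 Local.oddCore_card_odd)).dvd_of_dvd_mul_left h
  have h3 := ((Subgroup.card_dvd_of_le hP).trans hk.dvd).trans h2
  rw [Nat.card_zpowers, ← Subgroup.orderOf_coe, hod] at h3
  have := Nat.le_of_dvd two_pos ((pow_dvd_pow 2 (show 2 ≤ n + 2 by omega)).trans h3)
  norm_num at this

end Cfsg.Agent.S0845
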