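import Cfsg.Statements.S0849
import Cfsg.Agent.Lib.Char.Induction

set_option autoImplicit false
open Cfsg

namespace Cfsg.Agent.S0849

open Cfsg.Agent.Char

/-- Let H be a subgroup of a finite group G and S a subset of H that is mapped to itself under conjugation by H, is disjoint from its conjugate by any element outside H, and is closed under inverses. Let φ be a class function of H vanishing on H away from S, and let u, v be involutions of G. Then the sum of the induced function of φ over all products a * b with a conjugate to u and b conjugate to v equals the index of H times the sum of φ (a * b) over such pairs with a and b in H. -/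
theorem result {G : Type*} [Group G] [Fintype G] (H : Subgroup G) (S : Set G) (hSH : S ⊆ H) (hHS : ∀ h ∈ H, ∀ s ∈ S, h * s * h⁻¹ ∈ S) (hTI : ∀ g : G, g ∉ H → ∀ s ∈ S, g * s * g⁻¹ ∉ S) (hinv : ∀ s ∈ S, s⁻¹ ∈ S) (φ : H → ℂ) (hφ : Cfsg.IsClassFunction H φ) (hφS : ∀ x : H, (x : G) ∉ S → φ x = 0) (u v : G) (hu : orderOf u = 2) (hv : orderOf v = 2) : ∑ᶠ p ∈ {p : G × G | IsConj u p.1 ∧ IsConj v p.2}, Cfsg.indFun H φ (p.1 * p.2) = (H.index : ℂ) * ∑ᶠ p ∈ {p : H × H | IsConj u (p.1 : G) ∧ IsConj v (p.2 : G)}, φ (p.1 * p.2) := by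
  classical
  haveI := Fintype.ofFinite H
  rw [finsum_mem_eq_toFinset_sum, finsum_mem_eq_toFinset_sum]
  set T := ({p : G × G | IsConj u p.1 ∧ IsConj v p.2} : Set (G × G)).toFinset with hT
  have hmemT : ∀ p : G × G, p ∈ T ↔ IsConj u p.1 ∧ IsConj v p.2 := fun p => by simp [hT]
  set f := extendByZero H φ with hf
  have h1 : ∑ p ∈ T, indFun H φ (p.1 * p.2) =
      (Nat.card H : ℂ)⁻¹ * ((Nat.card G : ℂ) * ∑ p ∈ T, f (p.1 * p.2)) := by
    simp only [indFun_apply, ← Finset.mul_sum]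
    congr 1
    rw [Finset.sum_comm]
    have inner : ∀ x : G, ∑ p ∈ T, f (x⁻¹ * (p.1 * p.2) * x) = ∑ p ∈ T, f (p.1 * p.2) := by
      intro x
      refine Finset.sum_nbij' (fun p => (x⁻¹ * p.1 * x, x⁻¹ * p.2 * x))
        (fun p => (x * p.1 * x⁻¹, x * p.2 * x⁻¹)) ?_ ?_ ?_ ?_ ?_
      · intro p hp
        rw [hmemT] at hp ⊢
        exact ⟨hp.1.trans (isConj_iff.mpr ⟨x⁻¹, by simp⟩),
          hp.2.trans (isConj_iff.mpr ⟨x⁻¹, by simp⟩)⟩
      · intro p hp
        rw [hmemT] at hp ⊢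
        exact ⟨hp.1.trans (isConj_iff.mpr ⟨x, rfl⟩), hp.2.trans (isConj_iff.mpr ⟨x, rfl⟩)⟩
      · intro p _; simp [mul_assoc]
      · intro p _; simp [mul_assoc]
      · intro p _
        simp [mul_assoc]
    rw [Finset.sum_congr rfl fun x _ => inner x, Finset.sum_const, Finset.card_univ, nsmul_eq_mul,
      Nat.card_eq_fintype_card]
  rw [h1, ← mul_assoc]
  congr 1
  · rw [← Subgroup.card_mul_index H, Nat.cast_mul, ← mul_assoc,
      inv_mul_cancel₀ (Nat.cast_ne_zero.mpr Nat.card_pos.ne'), one_mul]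
  have hinH : ∀ p : G × G, p ∈ T → f (p.1 * p.2) ≠ 0 → p.1 ∈ H ∧ p.2 ∈ H := by
    intro p hp hne
    rw [hmemT] at hp
    have hmem : p.1 * p.2 ∈ H := by
      by_contra h
      exact hne (extendByZero_of_notMem _ _ h)
    have hS : p.1 * p.2 ∈ S := by
      by_contra h
      exact hne (by rw [hf, extendByZero_of_mem _ _ hmem, hφS _ h])
    have hsq : ∀ w x : G, orderOf w = 2 → IsConj w x → x * x = 1 := by
      intro w x hw hx
      obtain ⟨c, rfl⟩ := isConj_iff.mp hx
      have : w * w = 1 := by rw [← pow_two, ← hw, pow_orderOf_eq_one]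
      rw [show c * w * c⁻¹ * (c * w * c⁻¹) = c * (w * w) * c⁻¹ by group, this]
      group
    have ha := hsq u p.1 hu hp.1
    have hb := hsq v p.2 hv hp.2
    have ha' : p.1 ∈ H := by
      by_contra h
      refine hTI p.1 h _ hS ?_
      have : p.1 * (p.1 * p.2) * p.1⁻¹ = (p.1 * p.2)⁻¹ := by
        rw [← mul_assoc, ha, one_mul, mul_inv_rev, ← eq_inv_of_mul_eq_one_left hb]
      rw [this]
      exact hinv _ hS
    exact ⟨ha', (H.mul_mem_cancel_left ha').mp hmem⟩
  symm
  refine Finset.sum_bij_ne_zero (fun p _ _ => ((p.1 : G), (p.2 : G))) ?_ ?_ ?_ ?_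
  · intro p hp _
    rw [hmemT]
    simpa using hp
  · intro p _ _ q _ _ h
    simp only [Prod.mk.injEq] at h
    exact Prod.ext (Subtype.ext h.1) (Subtype.ext h.2)
  · intro p hp hne
    obtain ⟨h1, h2⟩ := hinH p hp hne
    refine ⟨(⟨p.1, h1⟩, ⟨p.2, h2⟩), ?_, ?_, rfl⟩
    · simpa using (hmemT p).mp hp
    · rwa [hf, extendByZero_of_mem _ _ (H.mul_mem h1 h2)] at hne
  · intro p _ _
    rw [hf, extendByZero_of_mem _ _ (H.mul_mem p.1.2 p.2.2)]
    rfl

end Cfsg.Agent.S0849
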