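import Cfsg.Statements.S0850
import Cfsg.Agent.Lib.Char.TI
import Mathlib.GroupTheory.PGroup

set_option autoImplicit false
open Cfsg

namespace Cfsg.Agent.S0850

/-- Let K be a subgroup of the finite group G that meets each conjugate by an element outside its normalizer N trivially, is properly contained in N, and contains the centralizer of each of its non-identity elements (a T.I. subgroup with Frobenius normalizer). Then no element of N outside K is conjugate in G to an element of K, and for every class function ϑ of N that vanishes on N away from K and at the identity, the function induced from ϑ to G agrees with ϑ on all of N. -/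
theorem result {G : Type*} [Group G] [Fintype G] (K : Subgroup G) (hTI : ∀ g : G, g ∉ Subgroup.normalizer (K : Set G) → ∀ k ∈ K, g * k * g⁻¹ ∈ K → k = 1) (hlt : K < Subgroup.normalizer (K : Set G)) (hC : ∀ k ∈ K, k ≠ 1 → Subgroup.centralizer ({k} : Set G) ≤ K) : (∀ x ∈ Subgroup.normalizer (K : Set G), x ∉ K → ∀ g : G, g * x * g⁻¹ ∉ K) ∧ ∀ (ϑ : Subgroup.normalizer (K : Set G) → ℂ), Cfsg.IsClassFunction (Subgroup.normalizer (K : Set G)) ϑ → (∀ x : Subgroup.normalizer (K : Set G), (x : G) ∉ K → ϑ x = 0) → ϑ 1 = 0 → ∀ x : Subgroup.normalizer (K : Set G), Cfsg.indFun (Subgroup.normalizer (K : Set G)) ϑ x = ϑ x := by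
  classical
  set N := Subgroup.normalizer (K : Set G) with hN
  have hfix : ∀ x ∈ N, x ∉ K → ∀ k ∈ K, x * k = k * x → k = 1 := fun x _ hxK k hk h => by
    by_contra hk1
    exact hxK (hC k hk hk1 (Subgroup.mem_centralizer_singleton_iff.mpr h))
  have first : ∀ x ∈ N, x ∉ K → ∀ g : G, g * x * g⁻¹ ∉ K := by
    intro x hx hxK g hg
    have hex : ∃ m, 0 < m ∧ x ^ m ∈ K := ⟨orderOf x, orderOf_pos x, by rw [pow_orderOf_eq_one]; exact K.one_mem⟩
    obtain ⟨hm0, hmK⟩ := Nat.find_spec hex
    set m := Nat.find hex with hm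
    have hm1 : m ≠ 1 := fun e => hxK (by simpa [e] using hmK)
    obtain ⟨p, hp, j, hj⟩ := Nat.exists_prime_and_dvd hm1
    have hj0 : 0 < j := Nat.pos_of_ne_zero fun e => by simp [e] at hj; omega
    set y := x ^ j with hy
    have hyK : y ∉ K := fun h => Nat.find_min hex
      (show j < m by rw [hj]; exact lt_mul_of_one_lt_left hj0 hp.one_lt) ⟨hj0, h⟩
    have hyN : y ∈ N := N.pow_mem hx j
    have hypK : y ^ p ∈ K := by rw [hy, ← pow_mul, mul_comm, ← hj]; exact hmK
    have hyp : y ^ p = 1 := hfix y hyN hyK _ hypK (by rw [← pow_succ', ← pow_succ])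
    have hgy : g * y * g⁻¹ ∈ K := by rw [hy, ← conj_pow]; exact K.pow_mem hg j
    haveI := Fact.mk hp
    have hy1 : y ≠ 1 := fun e => hyK (e ▸ K.one_mem)
    have hpK : p ∣ Nat.card K := by
      have ho : orderOf y = p := orderOf_eq_prime hyp hy1
      have : orderOf (g * y * g⁻¹) = p := by
        rw [← ho]; exact (MulAut.conj g).orderOf_eq y
      rw [← this]
      exact Subgroup.orderOf_dvd_natCard K hgy
    -- the cyclic group of `y` acts on `K`
    have hconj : ∀ z ∈ Subgroup.zpowers y, ∀ k ∈ K, z * k * z⁻¹ ∈ K := by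
      intro z hz k hk
      have hzN : z ∈ N := (Subgroup.zpowers_le.mpr hyN) hz
      exact (Subgroup.mem_normalizer_iff.mp hzN k).mp hk
    letI : MulAction (Subgroup.zpowers y) K :=
      { smul := fun z k => ⟨(z : G) * k * (z : G)⁻¹, hconj z z.2 k k.2⟩
        one_smul := fun k => Subtype.ext (by show ((1 : Subgroup.zpowers y) : G) * k * _ = k; simp)
        mul_smul := fun z w k => Subtype.ext (by
          show ((z * w : Subgroup.zpowers y) : G) * k * _ = (z : G) * ((w : G) * k * (w : G)⁻¹) * (z : G)⁻¹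
          simp [mul_assoc]) }
    have hP : IsPGroup p (Subgroup.zpowers y) := fun z => ⟨1, by
      obtain ⟨i, hi⟩ := Subgroup.mem_zpowers_iff.mp z.2
      refine Subtype.ext ?_
      rw [pow_one, SubgroupClass.coe_pow, OneMemClass.coe_one, ← hi, ← zpow_natCast, ← zpow_mul,
        mul_comm, zpow_mul, zpow_natCast, hyp, one_zpow]⟩
    have hone : MulAction.fixedPoints (Subgroup.zpowers y) K = {1} := by
      ext k
      rw [MulAction.mem_fixedPoints, Set.mem_singleton_iff]
      refine ⟨fun h => ?_, fun h z => Subtype.ext (by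
        show (z : G) * k * (z : G)⁻¹ = k
        subst h; simp)⟩
      have := congrArg Subtype.val (h ⟨y, Subgroup.mem_zpowers y⟩)
      exact Subtype.ext (hfix y hyN hyK k k.2 (mul_inv_eq_iff_eq_mul.mp this))
    have hmod := hP.card_modEq_card_fixedPoints K
    rw [hone, Nat.card_coe_set_eq, Set.ncard_singleton] at hmod
    have : (1 : ℕ) ≡ 0 [MOD p] := hmod.symm.trans (Nat.modEq_zero_iff_dvd.mpr hpK)
    exact hp.not_dvd_one (Nat.modEq_zero_iff_dvd.mp this)
  refine ⟨first, fun ϑ hϑ hϑK hϑ1 x => ?_⟩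
  by_cases hx1 : x = 1
  · subst hx1
    rw [OneMemClass.coe_one, Cfsg.Agent.Char.indFun_one_apply, hϑ1, mul_zero]
  by_cases hxK : (x : G) ∈ K
  · exact Cfsg.Agent.Char.indFun_apply_ti (K : Set G) N hTI hϑ hϑK x hxK hx1
  · rw [hϑK x hxK, Cfsg.Agent.Char.indFun_apply, Finset.sum_eq_zero, mul_zero]
    intro t _
    by_cases hm : t⁻¹ * (x : G) * t ∈ N
    · rw [Cfsg.Agent.Char.extendByZero_of_mem _ _ hm]
      refine hϑK _ fun h => first x x.2 hxK t⁻¹ ?_
      simpa using h
    · exact Cfsg.Agent.Char.extendByZero_of_notMem _ _ hm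

end Cfsg.Agent.S0850
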