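import Cfsg.Statements.S0851
import Cfsg.Agent.Lib.Char.TIAbelian

set_option autoImplicit false
open Cfsg

namespace Cfsg.Agent.S0851

/-- Let K be a subgroup of the finite group G that meets each conjugate by an element outside its normalizer N trivially, is properly contained in N, and contains the centralizer of each of its non-identity elements (a T.I. subgroup with Frobenius normalizer). Suppose K is abelian, let e be the index of K in N, and call an irreducible character of N relevant when it takes at some element of K a value different from its degree. Then either there is exactly one relevant character and K is an elementary abelian p-group of order e + 1 for some prime p, or there are a sign ε and an injective map f from the relevant characters to the irreducible characters of G such that inducing χ - ξ to G gives ε (f χ - f ξ) for all relevant χ and ξ. -/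
theorem result {G : Type*} [Group G] [Fintype G] (K : Subgroup G) (hTI : ∀ g : G, g ∉ Subgroup.normalizer (K : Set G) → ∀ k ∈ K, g * k * g⁻¹ ∈ K → k = 1) (hlt : K < Subgroup.normalizer (K : Set G)) (hC : ∀ k ∈ K, k ≠ 1 → Subgroup.centralizer ({k} : Set G) ≤ K) (hab : ∀ a ∈ K, ∀ b ∈ K, a * b = b * a) : (Nat.card {χ : Cfsg.IrrCharacter (Subgroup.normalizer (K : Set G)) // ∃ k : Subgroup.normalizer (K : Set G), (k : G) ∈ K ∧ (χ : ↥(Subgroup.normalizer (K : Set G)) → ℂ) k ≠ (χ : ↥(Subgroup.normalizer (K : Set G)) → ℂ) 1} = 1 ∧ ∃ p : ℕ, p.Prime ∧ Cfsg.IsElementaryAbelian p K ∧ Nat.card K = (K.subgroupOf (Subgroup.normalizer (K : Set G))).index + 1) ∨ ∃ (ε : ℂ) (f : {χ : Cfsg.IrrCharacter (Subgroup.normalizer (K : Set G)) // ∃ k : Subgroup.normalizer (K : Set G), (k : G) ∈ K ∧ (χ : ↥(Subgroup.normalizer (K : Set G)) → ℂ) k ≠ (χ : ↥(Subgroup.normalizer (K : Set G)) → ℂ) 1} → Cfsg.IrrCharacter G), (ε = 1 ∨ ε = -1) ∧ Function.Injective f ∧ ∀ χ ξ, Cfsg.indFun (Subgroup.normalizer (K : Set G)) ((χ.1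 : ↥(Subgroup.normalizer (K : Set G)) → ℂ) - (ξ.1 : ↥(Subgroup.normalizer (K : Set G)) → ℂ)) = ε • ((f χ : G → ℂ) - (f ξ : G → ℂ)) := by
  classical
  haveI := Fintype.ofFinite ↥(Subgroup.normalizer (K : Set G))
  have hC' := Cfsg.Agent.Char.FTI.kerN_centralizer K hC
  have hab' : ∀ a ∈ Cfsg.Agent.Char.FTI.kerN K, ∀ b ∈ Cfsg.Agent.Char.FTI.kerN K, a * b = b * a :=
    fun a ha b hb => Subtype.ext (hab _ ha _ hb)
  let P := fun χ : Cfsg.IrrCharacter (Subgroup.normalizer (K : Set G)) =>
    ∃ k : Subgroup.normalizer (K : Set G), (k : G) ∈ K ∧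
      (χ : ↥(Subgroup.normalizer (K : Set G)) → ℂ) k ≠ (χ : ↥(Subgroup.normalizer (K : Set G)) → ℂ) 1
  have hcount := Cfsg.Agent.Char.TIAb.card_relevant_mul _ hC' hab'
  have hcount' : Nat.card (Subtype P) * (Cfsg.Agent.Char.FTI.kerN K).index + 1 = Nat.card K := by
    rw [← Nat.card_congr (Subgroup.subgroupOfEquivOfLe hlt.le).toEquiv, ← hcount]
    rfl
  by_cases h1 : Nat.card (Subtype P) = 1
  · rw [h1, one_mul] at hcount'
    have hK1 : Cfsg.Agent.Char.FTI.kerN K ≠ ⊥ := fun e => by
      have : Nat.card K = 1 := by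
        rw [← Nat.card_congr (Subgroup.subgroupOfEquivOfLe hlt.le).toEquiv]
        exact (congrArg (fun S : Subgroup _ => Nat.card S) e).trans Subgroup.card_bot
      have h0 : (Cfsg.Agent.Char.FTI.kerN K).index ≠ 0 := Subgroup.index_ne_zero_of_finite
      omega
    have hcard : Nat.card (Cfsg.Agent.Char.FTI.kerN K) =
        (Cfsg.Agent.Char.FTI.kerN K).index + 1 :=
      (Nat.card_congr (Subgroup.subgroupOfEquivOfLe hlt.le).toEquiv).trans hcount'.symm
    obtain ⟨-, p, hp, hpow⟩ := Cfsg.Agent.Char.TIAb.elementary_of_card _ hC' hK1 hcard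
    exact Or.inl ⟨h1, p, hp, ⟨⟨⟨⟨fun a b => Subtype.ext (hab a a.2 b b.2)⟩⟩, fun a ha =>
      congrArg Subtype.val (hpow ⟨a, hlt.le ha⟩ ha)⟩, hcount'.symm⟩⟩
  · right
    rcases Nat.eq_zero_or_pos (Nat.card (Subtype P)) with h0 | h0
    · haveI : IsEmpty (Subtype P) := (Nat.card_eq_zero.mp h0).resolve_right (not_infinite_iff_finite.mpr inferInstance)
      exact ⟨1, isEmptyElim, Or.inl rfl, isEmptyElim, isEmptyElim⟩
    haveI := Fintype.ofFinite (Subtype P)
    let e := Fintype.equivFin (Subtype P)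
    obtain ⟨ε, hε, θ, hθ, heq⟩ := Cfsg.Agent.Char.exists_exceptional_ti (K : Set G)
      (Subgroup.normalizer (K : Set G)) hTI (n := Fintype.card (Subtype P))
      (by rw [← Nat.card_eq_fintype_card]; omega)
      (fun i => ((e.symm i).1 : ↥(Subgroup.normalizer (K : Set G)) → ℂ)) (fun i => (e.symm i).1.2)
      (fun i j h => e.symm.injective (Subtype.ext (Subtype.ext h)))
      (fun i j x hx => by
        rw [Cfsg.Agent.Char.FK.vanish _ hC' (e.symm i).1.2 (e.symm i).2 hx,
          Cfsg.Agent.Char.FK.vanish _ hC' (e.symm j).1.2 (e.symm j).2 hx])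
      (fun i j => by
        rw [Cfsg.Agent.Char.TIAb.degree_eq_index _ hC' hab' (e.symm i).1.2 (e.symm i).2,
          Cfsg.Agent.Char.TIAb.degree_eq_index _ hC' hab' (e.symm j).1.2 (e.symm j).2])
    refine ⟨ε, fun χ => θ (e χ), hε, hθ.comp e.injective, fun χ ξ => ?_⟩
    have := heq (e χ) (e ξ)
    simp only [Equiv.symm_apply_apply] at this
    rw [Cfsg.Agent.Char.indFun_sub]
    exact this

end Cfsg.Agent.S0851
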