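import Cfsg.Statements.S0852
import Cfsg.Agent.Lib.Char.FrobeniusTI
import Cfsg.Agent.Lib.Char.Signed

set_option autoImplicit false
open Cfsg

namespace Cfsg.Agent.S0852

open Cfsg.Agent.Char
open scoped ComplexConjugate

/-- Let K be a subgroup of the finite group G that meets each conjugate by an element outside its normalizer N trivially, is properly contained in N, and contains the centralizer of each of its non-identity elements (a T.I. subgroup with Frobenius normalizer). Let S be the set of irreducible characters of N taking at some element of K a value different from their degree, suppose S has at least two members, and let star be a linear isometry on the integer span of S into the generalized characters of G that agrees with induction on the members vanishing at the identity (so S is coherent, with star as the extending isometry). Then an irreducible character ψ of G is of the form star χ or -star χ for some χ in S if and only if ψ is not constant on the non-identity elements of K. -/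
theorem result {G : Type*} [Group G] [Fintype G] (K : Subgroup G) (hTI : ∀ g : G, g ∉ Subgroup.normalizer (K : Set G) → ∀ k ∈ K, g * k * g⁻¹ ∈ K → k = 1) (hlt : K < Subgroup.normalizer (K : Set G)) (hC : ∀ k ∈ K, k ≠ 1 → Subgroup.centralizer ({k} : Set G) ≤ K) [Fintype ↥(Subgroup.normalizer (K : Set G))] (S : Set (↥(Subgroup.normalizer (K : Set G)) → ℂ)) (hS : S = {χ : ↥(Subgroup.normalizer (K : Set G)) → ℂ | Cfsg.IsIrrCharacter ↥(Subgroup.normalizer (K : Set G)) χ ∧ ∃ k : ↥(Subgroup.normalizer (K : Set G)), (k : G) ∈ K ∧ χ k ≠ χ 1}) (htwo : ∃ χ ∈ S, ∃ ξ ∈ S, χ ≠ ξ) (star : (↥(Subgroup.normalizer (K : Set G)) → ℂ) → (G → ℂ)) (hstar : Cfsg.IsLinearIsometryOn (Cfsg.zspan S) star) (hext : ∀ α ∈ Cfsg.zspanOn S ({1}ᶜ : Set ↥(Subgroup.normalizer (K : Set G))), star α = Cfsg.indFun (Subgroup.normalizer (K : Set G)) α) (ψ : G → ℂ) (hψ : Cfsg.IsIrrCharacter G ψ) : (∃ χ ∈ S, ψ = star χ ∨ ψ = -star χ) ↔ ∃ a ∈ K, ∃ b ∈ K, a ≠ 1 ∧ b ≠ 1 ∧ ψ a ≠ ψ b := by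
  classical
  haveI := FTI.kerN_normal K
  have hirr : ∀ χ ∈ S, IsIrrCharacter ↥(Subgroup.normalizer (K : Set G)) χ := fun χ hχ => by rw [hS] at hχ; exact hχ.1
  have hnorm : ∀ χ ∈ S, IsIrrCharacter G (star χ) ∨ IsIrrCharacter G (-star χ) := fun χ hχ =>
    IsGeneralizedCharacter.irr_or_neg (hstar.2.2.2 χ (Submodule.subset_span hχ)) (by
      rw [hstar.2.2.1 χ (Submodule.subset_span hχ) χ (Submodule.subset_span hχ)]
      exact IsIrrCharacter.classInner_self (hirr χ hχ))
  have hψc := IsCharacter.isClassFunction (IsIrrCharacter.isCharacter hψ)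
  obtain ⟨χ₀, hχ₀, ξ₀, hξ₀, hne⟩ := htwo
  constructor
  · rintro ⟨χ, hχ, hψχ⟩
    by_contra hconst
    push Not at hconst
    -- `χ` would be constant on the kernel
    have hχc := IsCharacter.isClassFunction (IsIrrCharacter.isCharacter (hirr χ hχ))
    have hsub : ∀ a b : ↥(Subgroup.normalizer (K : Set G)), (a : G) ∈ K → (b : G) ∈ K → a ≠ 1 → b ≠ 1 → χ a = χ b := by
      intro a b ha hb ha1 hb1
      have h := FTI.sub_const K hC hS hstar hext hχ
        (f := star χ) (IsGeneralizedCharacter.isClassFunction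
          (hstar.2.2.2 χ (Submodule.subset_span hχ))) (h := χ) hχc
        (fun ξ hξ => (hstar.2.2.1 χ (Submodule.subset_span hχ) ξ (Submodule.subset_span hξ)).symm)
        ha hb ha1 hb1
      have he := hconst a ha b hb (fun e => ha1 (Subtype.ext e)) (fun e => hb1 (Subtype.ext e))
      rcases hψχ with e | e
      · rw [e] at he
        linear_combination -h + he
      · rw [e, Pi.neg_apply, Pi.neg_apply, neg_inj] at he
        linear_combination -h + he
    obtain ⟨ξ, hξ, hξne⟩ : ∃ ξ ∈ S, ξ ≠ χ := by
      by_cases e : χ₀ = χ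
      · exact ⟨ξ₀, hξ₀, fun e' => hne (e.trans e'.symm)⟩
      · exact ⟨χ₀, hχ₀, e⟩
    have hrel : ∀ η ∈ S, ∃ k ∈ FTI.kerN K, η k ≠ η 1 := fun η hη => by
      rw [hS] at hη; obtain ⟨-, k, hk, hne'⟩ := hη; exact ⟨k, hk, hne'⟩
    obtain ⟨k, hk, hkne⟩ := hrel χ hχ
    have hk1 : k ≠ 1 := fun e => hkne (by rw [e])
    have h0 := IsIrrCharacter.classInner_eq_zero (hirr ξ hξ) (hirr χ hχ) hξne
    haveI := Fintype.ofFinite (FTI.kerN K)
    have e1 : ∀ y ∈ FTI.kerN K, ξ y * conj (χ y) =
        ξ y * conj (χ k) + (if y = 1 then ξ 1 * (conj (χ 1) - conj (χ k)) else 0) := by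
      intro y hy
      split_ifs with e
      · subst e; ring
      · rw [hsub y k hy hk e hk1, add_zero]
    rw [classInner, mul_eq_zero] at h0
    replace h0 := h0.resolve_left (inv_ne_zero (Nat.cast_ne_zero.mpr Nat.card_pos.ne'))
    rw [← Finset.sum_subset (Finset.subset_univ (Finset.univ.filter fun y => y ∈ FTI.kerN K))
      (fun y _ hy => by
        rw [FK.vanish (FTI.kerN K) (FTI.kerN_centralizer K hC) (hirr ξ hξ) (hrel ξ hξ)
          (by simpa using hy), zero_mul]),
      Finset.sum_congr rfl fun y hy => e1 y (Finset.mem_filter.mp hy).2, Finset.sum_add_distrib,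
      ← Finset.sum_mul, Finset.sum_ite_eq', if_pos (by simp [(FTI.kerN K).one_mem]),
      Finset.sum_subtype (Finset.univ.filter fun y => y ∈ FTI.kerN K) (p := fun y => y ∈ FTI.kerN K)
        (fun y => by simp) ξ,
      FK.sum_restrict_eq_zero (FTI.kerN K) (FTI.kerN_centralizer K hC) (hirr ξ hξ) (hrel ξ hξ),
      zero_mul, zero_add, mul_eq_zero, sub_eq_zero] at h0
    rcases h0 with h0 | h0
    · exact IsIrrCharacter.apply_one_ne_zero (hirr ξ hξ) h0
    · exact hkne ((starRingEnd ℂ).injective h0).symm
  · rintro ⟨a, ha, b, hb, ha1, hb1, hab⟩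
    by_contra hno
    push Not at hno
    apply hab
    have horth : ∀ ξ ∈ S, classInner ψ (star ξ) = 0 := by
      intro ξ hξ
      rcases classInner_signed (Or.inl hψ) (hnorm ξ hξ) with h | ⟨s, hs, he, -⟩
      · exact h
      · rcases hs with rfl | rfl
        · exact absurd (by simpa using he) (hno ξ hξ).1
        · exact absurd (by simpa using he) (hno ξ hξ).2
    have := FTI.sub_const K hC hS hstar hext hχ₀ (f := ψ) hψc (h := 0) (fun _ _ => rfl)
      (fun ξ hξ => by rw [horth ξ hξ, classInner_zero_left])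
      (a := ⟨a, Subgroup.le_normalizer ha⟩) (b := ⟨b, Subgroup.le_normalizer hb⟩) ha hb
      (fun e => ha1 (congrArg Subtype.val e)) (fun e => hb1 (congrArg Subtype.val e))
    simpa using this

end Cfsg.Agent.S0852
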