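import Cfsg.Statements.S0853
import Cfsg.Agent.Lib.Char.FrobeniusTI
import Cfsg.Agent.Lib.Char.Galois

set_option autoImplicit false
open Cfsg

namespace Cfsg.Agent.S0853

open Cfsg.Agent.Char

/-- Let K be a subgroup of the finite group G that meets each conjugate by an element outside its normalizer N trivially, is properly contained in N, and contains the centralizer of each of its non-identity elements (a T.I. subgroup with Frobenius normalizer). Let S be the set of irreducible characters of N taking at some element of K a value different from their degree, suppose S has at least two members, and let star be a linear isometry on the integer span of S into the generalized characters of G that agrees with induction on the members vanishing at the identity (so S is coherent, with star as the extending isometry). Then there is a single integer m such that star χ k - χ k = m * χ 1 / e for every χ in S and every non-identity element k of K, where e is the index of K in N. -/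
theorem result {G : Type*} [Group G] [Fintype G] (K : Subgroup G) (hTI : ∀ g : G, g ∉ Subgroup.normalizer (K : Set G) → ∀ k ∈ K, g * k * g⁻¹ ∈ K → k = 1) (hlt : K < Subgroup.normalizer (K : Set G)) (hC : ∀ k ∈ K, k ≠ 1 → Subgroup.centralizer ({k} : Set G) ≤ K) [Fintype ↥(Subgroup.normalizer (K : Set G))] (S : Set (↥(Subgroup.normalizer (K : Set G)) → ℂ)) (hS : S = {χ : ↥(Subgroup.normalizer (K : Set G)) → ℂ | Cfsg.IsIrrCharacter ↥(Subgroup.normalizer (K : Set G)) χ ∧ ∃ k : ↥(Subgroup.normalizer (K : Set G)), (k : G) ∈ K ∧ χ k ≠ χ 1}) (htwo : ∃ χ ∈ S, ∃ ξ ∈ S, χ ≠ ξ) (star : (↥(Subgroup.normalizer (K : Set G)) → ℂ) → (G → ℂ)) (hstar : Cfsg.IsLinearIsometryOn (Cfsg.zspan S) star) (hext : ∀ α ∈ Cfsg.zspanOn S ({1}ᶜ : Set ↥(Subgroup.normalizer (K : Set G))), star α = Cfsg.indFun (Subgroup.normalizer (K : Set G)) α) : ∃ m : ℤ, ∀ χ ∈ S, ∀ k : ↥(Subgroup.normalizer (K : Set G)), (k : G) ∈ K → k ≠ 1 → star χ k - χ k = (m : ℂ) * χ 1 / ((K.subgroupOf (Subgroup.normalizer (K : Set G))).index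 : ℂ) := by
  classical
  haveI := FTI.kerN_normal K
  have hKne := FTI.kerN_ne_top K hlt
  have hirr : ∀ χ ∈ S, IsIrrCharacter ↥(Subgroup.normalizer (K : Set G)) χ := fun χ hχ => by rw [hS] at hχ; exact hχ.1
  by_cases hbot : FTI.kerN K = ⊥
  · refine ⟨0, fun χ _ k hk hk1 => absurd ?_ hk1⟩
    have : k ∈ FTI.kerN K := hk
    rwa [hbot, Subgroup.mem_bot] at this
  obtain ⟨k₀, hk₀, hk₀1⟩ := (Subgroup.bot_or_exists_ne_one (FTI.kerN K)).resolve_left hbot
  haveI := Fintype.ofFinite (FTI.kerN K)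
  obtain ⟨θ, hθ, hθ1, hθdeg⟩ := FK.exists_linear (FTI.kerN K) (FTI.kerN_centralizer K hC) hKne hbot
  let χ₁ := indFun (FTI.kerN K) θ
  have hχ₁ : IsIrrCharacter ↥(Subgroup.normalizer (K : Set G)) χ₁ := FK.isIrr_ind (FTI.kerN K) (FTI.kerN_centralizer K hC) hθ hθ1
  have hχ₁deg : χ₁ 1 = ((FTI.kerN K).index : ℂ) := by
    show indFun (FTI.kerN K) θ 1 = _
    rw [indFun_one_apply, hθdeg, mul_one]
  have hχ₁S : χ₁ ∈ S := by
    rw [hS]
    refine ⟨hχ₁, ?_⟩
    by_contra hh
    push Not at hh
    apply hθ1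
    have h1 : ∀ k : FTI.kerN K, χ₁ k = χ₁ 1 := fun k => hh k k.2
    have hc : classInner (fun k : FTI.kerN K => χ₁ k) θ ≠ 0 := by
      rw [← classInner_conj_symm, ← classInner_indFun (FTI.kerN K) θ
        (IsCharacter.isClassFunction (IsIrrCharacter.isCharacter hχ₁)),
        IsIrrCharacter.classInner_self hχ₁, map_one]
      exact one_ne_zero
    by_contra hne
    apply hc
    rw [show (fun k : FTI.kerN K => χ₁ k) = χ₁ 1 • (fun _ => (1 : ℂ)) by
      funext k; simp [h1 k], classInner_smul_left,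
      show classInner (fun _ : FTI.kerN K => (1 : ℂ)) θ = 0 from
        IsIrrCharacter.classInner_eq_zero (isIrrCharacter_one (G := FTI.kerN K)) hθ (fun e => hne e.symm),
      mul_zero]
  -- the differences are constant
  have hgen : ∀ χ ∈ S, IsGeneralizedCharacter G (star χ) := fun χ hχ =>
    hstar.2.2.2 χ (Submodule.subset_span hχ)
  have hconst : ∀ χ ∈ S, ∀ a b : ↥(Subgroup.normalizer (K : Set G)), (a : G) ∈ K → (b : G) ∈ K → a ≠ 1 → b ≠ 1 →
      star χ a - χ a = star χ b - χ b := fun χ hχ a b ha hb ha1 hb1 =>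
    FTI.sub_const K hC hS hstar hext hχ (f := star χ)
      (IsGeneralizedCharacter.isClassFunction (hgen χ hχ)) (h := χ)
      (IsCharacter.isClassFunction (IsIrrCharacter.isCharacter (hirr χ hχ)))
      (fun ξ hξ => (hstar.2.2.1 χ (Submodule.subset_span hχ) ξ (Submodule.subset_span hξ)).symm)
      ha hb ha1 hb1
  obtain ⟨m, hm⟩ := exists_int_of_apply_pow_eq
    (isGeneralizedCharacter_sub (IsGeneralizedCharacter.restrict (hgen χ₁ hχ₁S) (Subgroup.normalizer (K : Set G)))
      (IsIrrCharacter.isGeneralized hχ₁)) k₀ (fun j hj => by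
      have hj1 : k₀ ^ j ≠ 1 := fun e => hk₀1 (by
        obtain ⟨i, hi⟩ := exists_pow_eq_self_of_coprime hj
        rw [← hi, e, one_pow])
      exact hconst χ₁ hχ₁S (k₀ ^ j) k₀ ((FTI.kerN K).pow_mem hk₀ j) hk₀ hj1 hk₀1)
  refine ⟨m, fun χ hχ k hk hk1 => ?_⟩
  obtain ⟨d, hd⟩ := IsCharacter.exists_degree (IsIrrCharacter.isCharacter (hirr χ hχ))
  set e := (FTI.kerN K).index
  have he : (e : ℂ) ≠ 0 := hχ₁deg ▸ IsIrrCharacter.apply_one_ne_zero hχ₁
  set α : ↥(Subgroup.normalizer (K : Set G)) → ℂ := (e : ℤ) • χ - (d : ℤ) • χ₁ with hα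
  have hαS : α ∈ zspanOn S {1}ᶜ := mem_zspanOn_compl_one.mpr
    ⟨Submodule.sub_mem _ (Submodule.smul_mem _ _ (Submodule.subset_span hχ))
      (Submodule.smul_mem _ _ (Submodule.subset_span hχ₁S)), by
      simp [hα, hd, hχ₁deg]; ring⟩
  have hval : star α k = α k := by
    rw [hext α hαS]
    refine indFun_apply_ti (K : Set G) (Subgroup.normalizer (K : Set G)) hTI ?_ ?_ k hk hk1
    · intro x y
      have c1 := IsCharacter.isClassFunction (IsIrrCharacter.isCharacter (hirr χ hχ)) x y
      have c2 := IsCharacter.isClassFunction (IsIrrCharacter.isCharacter hχ₁) x y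
      simp only [hα, Pi.sub_apply, Pi.smul_apply, c1, c2]
    · intro x hx
      have hrel : ∀ η ∈ S, ∃ k ∈ FTI.kerN K, η k ≠ η 1 := fun η hη => by
        rw [hS] at hη; obtain ⟨-, k, hk, hne'⟩ := hη; exact ⟨k, hk, hne'⟩
      simp only [hα, Pi.sub_apply, Pi.smul_apply,
        FK.vanish (FTI.kerN K) (FTI.kerN_centralizer K hC) (hirr χ hχ) (hrel χ hχ) (x := x) hx,
        FK.vanish (FTI.kerN K) (FTI.kerN_centralizer K hC) hχ₁ (hrel χ₁ hχ₁S) (x := x) hx,
        smul_zero, sub_zero]
  rw [hα, IsLinearIsometryOn.map_sub (P := Submodule.span ℤ S) hstar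
      (Submodule.smul_mem _ _ (Submodule.subset_span hχ))
      (Submodule.smul_mem _ _ (Submodule.subset_span hχ₁S)),
      hstar.2.1 χ (Submodule.subset_span hχ), hstar.2.1 χ₁ (Submodule.subset_span hχ₁S)] at hval
  simp [hd, hχ₁deg] at hval
  have hm' : star χ₁ k - χ₁ k = (m : ℂ) := by
    rw [hconst χ₁ hχ₁S k k₀ hk hk₀ hk1 hk₀1]
    exact hm
  rw [hd, eq_div_iff he]
  linear_combination hval + (d : ℂ) * hm' 

end Cfsg.Agent.S0853
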