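import Cfsg.Statements.S0857
import Cfsg.Agent.Lib.Char.CliffordTrichotomy
-- import your own Cfsg.Agent.* helpers here

set_option autoImplicit false
set_option linter.style.haveILetI false
open Cfsg

namespace Cfsg.Agent.S0857

/-- Let L < K be normal subgroups of the finite group G with no normal subgroup of G strictly between them and with K / L abelian (the commutator subgroup of K lies in L). Let ϑ be an irreducible character of K invariant under conjugation by G. Then the restriction of ϑ to L is irreducible; or it equals e times an irreducible character of L with e ^ 2 equal to the index of L in K; or it is the sum of a family of pairwise distinct irreducible characters of L indexed by a set whose size is the index of L in K. -/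
theorem result {G : Type*} [Group G] [Fintype G] (K L : Subgroup G) [hK : K.Normal] [L.Normal] (hLK : L < K) (hchief : ∀ M : Subgroup G, M.Normal → L ≤ M → M ≤ K → M = L ∨ M = K) (hab : ⁅K, K⁆ ≤ L) (ϑ : K → ℂ) (hϑ : Cfsg.IsIrrCharacter K ϑ) (hinv : ∀ (g : G) (n : K), ϑ ⟨g * n * g⁻¹, hK.conj_mem (n : G) n.2 g⟩ = ϑ n) : Cfsg.IsIrrCharacter L (fun x : L => ϑ ⟨(x : G), hLK.le x.2⟩) ∨ (∃ (φ : L → ℂ) (e : ℕ), Cfsg.IsIrrCharacter L φ ∧ (fun x : L => ϑ ⟨(x : G), hLK.le x.2⟩) = (e : ℂ) • φ ∧ e ^ 2 = L.relIndex K) ∨ (∃ F : Finset (L → ℂ), (∀ φ ∈ F, Cfsg.IsIrrCharacter L φ) ∧ F.card = L.relIndex K ∧ (fun x : L => ϑ ⟨(x : G), hLK.le x.2⟩) = ∑ φ ∈ F, φ) := by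
  classical
  let L' : Subgroup K := L.subgroupOf K
  haveI := Fintype.ofFinite L
  haveI := Fintype.ofFinite K
  haveI := Fintype.ofFinite L'
  let ι : L' ≃* L := Subgroup.subgroupOfEquivOfLe hLK.le
  let θL : L → ℂ := fun x => ϑ ⟨(x : G), hLK.le x.2⟩
  have hcθ : Cfsg.IsCharacter K ϑ := Cfsg.Agent.Char.IsIrrCharacter.isCharacter hϑ
  have hres : Cfsg.IsCharacter L' (fun n : L' => ϑ n) := Cfsg.Agent.Char.IsCharacter.restrict hcθ L'
  obtain ⟨φ', hφ', hne⟩ := Cfsg.Agent.Char.IsCharacter.exists_irr_constituent hres fun h =>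
    Cfsg.Agent.Char.IsIrrCharacter.apply_one_ne_zero hϑ (congrFun h 1)
  obtain ⟨e, he⟩ := Cfsg.Agent.Char.classInner_natCast_of_isCharacter hres
    (Cfsg.Agent.Char.IsIrrCharacter.isCharacter hφ')
  have he0 : e ≠ 0 := fun h => hne (by rw [he, h, Nat.cast_zero])
  let φ : L → ℂ := fun x => φ' (ι.symm x)
  have hφ : Cfsg.IsIrrCharacter L φ :=
    Cfsg.Agent.Char.isIrrCharacter_comp_mulEquiv ι.symm hφ'
  have hrestr := Cfsg.Agent.Char.restrict_eq_smul_sum_conjOrbit L' hϑ hφ' hne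
  rw [he] at hrestr
  have hθL : θL = fun x => (e : ℂ) * ∑ ψ ∈ Cfsg.Agent.Char.conjOrbit L' φ', ψ (ι.symm x) :=
    funext fun x => by
      have h1 := congrFun hrestr (ι.symm x)
      simp only [Pi.smul_apply, Finset.sum_apply, smul_eq_mul] at h1
      rw [← h1]
      rfl
  have hinvθ : ∀ g, Cfsg.Agent.Char.conjChar L g θL = θL := fun g =>
    funext fun x => hinv g ⟨(x : G), hLK.le x.2⟩
  have hconj : ∀ (k : K) (ψ : L → ℂ),
      Cfsg.Agent.Char.conjChar L' k (fun y => ψ (ι y)) =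
        fun y => Cfsg.Agent.Char.conjChar L (k : G) ψ (ι y) := fun k ψ => rfl
  have hφι : (fun y : L' => φ (ι y)) = φ' := funext fun y => by simp [φ]
  have hinK : ∀ k : K, k ∈ Cfsg.Agent.Char.inertia L' φ' ↔
      (k : G) ∈ Cfsg.Agent.Char.inertia L φ := by
    intro k
    rw [Cfsg.Agent.Char.mem_inertia, Cfsg.Agent.Char.mem_inertia, ← hφι, hconj]
    constructor
    · intro h
      funext x
      simpa using congrFun h (ι.symm x)
    · intro h
      rw [h]
  let T := Cfsg.Agent.Char.inertia L φ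
  have hsup : ∀ g : G, ∃ k : K, g * (k : G)⁻¹ ∈ T := by
    intro g
    have h1 : Cfsg.classInner (fun n : L' => ϑ n)
        (fun y => Cfsg.Agent.Char.conjChar L g φ (ι y)) = (e : ℂ) := by
      have h2 : (fun n : L' => ϑ n) = fun y => θL (ι y) := rfl
      rw [h2, Cfsg.Agent.Char.classInner_comp_mulEquiv]
      conv_lhs => rw [← hinvθ g]
      rw [Cfsg.Agent.Char.classInner_conjChar, ← Cfsg.Agent.Char.classInner_comp_mulEquiv ι, hφι,
        ← h2, he]
    obtain ⟨k, hk⟩ := (Cfsg.Agent.Char.mem_conjOrbit L').mp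
      (Cfsg.Agent.Char.mem_conjOrbit_of_constituent L' hϑ hφ'
        (Cfsg.Agent.Char.isIrrCharacter_comp_mulEquiv ι
          (Cfsg.Agent.Char.isIrrCharacter_conjChar L hφ g)) hne
        (by rw [h1]; exact_mod_cast he0))
    refine ⟨k, ?_⟩
    rw [← hφι, hconj] at hk
    have h3 : Cfsg.Agent.Char.conjChar L (k : G) φ = Cfsg.Agent.Char.conjChar L g φ := funext fun x => by
      simpa using congrFun hk (ι.symm x)
    show Cfsg.Agent.Char.conjChar L (g * (k : G)⁻¹) φ = φ
    rw [← Cfsg.Agent.Char.conjChar_mul, ← h3, Cfsg.Agent.Char.conjChar_mul, mul_inv_cancel,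
      Cfsg.Agent.Char.conjChar_one]
  have hLT : L ≤ T := Cfsg.Agent.Char.le_inertia L
    (Cfsg.Agent.Char.IsCharacter.isClassFunction (Cfsg.Agent.Char.IsIrrCharacter.isCharacter hφ))
  have hMn : (T ⊓ K).Normal := ⟨fun m hm g => by
    obtain ⟨k, hk⟩ := hsup g
    have h1 : (k : G) * m * (k : G)⁻¹ ∈ T ⊓ K := by
      have h2 : (k : G) * m * (k : G)⁻¹ * m⁻¹ ∈ L := hab (Subgroup.commutator_mem_commutator k.2 hm.2)
      have h3 := (T ⊓ K).mul_mem (⟨hLT h2, hLK.le h2⟩ : _ ∈ T ⊓ K) hm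
      rwa [inv_mul_cancel_right] at h3
    refine ⟨?_, hK.conj_mem m hm.2 g⟩
    have h4 := T.mul_mem (T.mul_mem hk h1.1) (T.inv_mem hk)
    simpa [mul_assoc] using h4⟩
  have hcomm : ∀ a b : K, a * b * a⁻¹ * b⁻¹ ∈ L' := fun a b =>
    Subgroup.mem_subgroupOf.mpr (hab (Subgroup.commutator_mem_commutator a.2 b.2))
  rcases hchief _ hMn (le_inf hLT hLK.le) inf_le_right with hM | hM
  · -- trivial inertia
    have hin : Cfsg.Agent.Char.inertia L' φ' = L' := by
      ext k
      rw [hinK, Subgroup.mem_subgroupOf]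
      exact ⟨fun h => hM.le ⟨h, k.2⟩, fun h => hLT h⟩
    have he1 := Cfsg.Agent.Char.multiplicity_eq_one_of_inertia_eq L' hϑ hφ' he he0 hin
    refine Or.inr (Or.inr ⟨(Cfsg.Agent.Char.conjOrbit L' φ').image fun ψ x => ψ (ι.symm x),
      fun ψ hψ => ?_, ?_, ?_⟩)
    · obtain ⟨ψ', hψ', rfl⟩ := Finset.mem_image.mp hψ
      obtain ⟨k, rfl⟩ := (Cfsg.Agent.Char.mem_conjOrbit L').mp hψ'
      exact Cfsg.Agent.Char.isIrrCharacter_comp_mulEquiv ι.symm
        (Cfsg.Agent.Char.isIrrCharacter_conjChar L' hφ' k)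
    · rw [Finset.card_image_of_injective _ (fun a b h => funext fun y => by
        simpa using congrFun h (ι y)), Cfsg.Agent.Char.card_conjOrbit, hin]
      rfl
    · rw [Finset.sum_image (fun a _ b _ h => funext fun y => by simpa using congrFun h (ι y))]
      show θL = _
      rw [hθL, he1]
      funext x
      simp
  · have hin : ∀ k : K, Cfsg.Agent.Char.conjChar L' k φ' = φ' := fun k =>
      (Cfsg.Agent.Char.mem_inertia L').mp ((hinK k).mpr (hM.ge k.2).1)
    have horb : Cfsg.Agent.Char.conjOrbit L' φ' = {φ'} := by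
      ext ψ
      simp [Cfsg.Agent.Char.mem_conjOrbit, hin, eq_comm]
    have hθLe : θL = (e : ℂ) • φ := by
      rw [hθL, horb]
      funext x
      simp [φ]
    let Λ : Set (K →* ℂˣ) := {l | (∀ n ∈ L', l n = 1) ∧ (fun k => (l k : ℂ) * ϑ k) = ϑ}
    let Z : Subgroup G :=
      { carrier := {x | ∃ hx : x ∈ K, ∀ l ∈ Λ, l ⟨x, hx⟩ = 1}
        one_mem' := ⟨K.one_mem, fun l _ => map_one l⟩
        mul_mem' := fun {a b} ⟨ha, ha'⟩ ⟨hb, hb'⟩ => ⟨K.mul_mem ha hb, fun l hl => by
          rw [show (⟨a * b, _⟩ : K) = ⟨a, ha⟩ * ⟨b, hb⟩ from rfl, map_mul, ha' l hl, hb' l hl,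
            one_mul]⟩
        inv_mem' := fun {a} ⟨ha, ha'⟩ => ⟨K.inv_mem ha, fun l hl => by
          rw [show (⟨a⁻¹, _⟩ : K) = (⟨a, ha⟩ : K)⁻¹ from rfl, map_inv, ha' l hl, inv_one]⟩ }
    have hZn : Z.Normal := ⟨fun x ⟨hx, hx'⟩ g => ⟨hK.conj_mem x hx g, fun l hl => by
      let c : K →* K := (MulAut.conjNormal g : K ≃* K).toMonoidHom
      have hc : l.comp c ∈ Λ := by
        refine ⟨fun n hn => hl.1 _ (Subgroup.mem_subgroupOf.mpr ?_), ?_⟩
        · show ((MulAut.conjNormal g n : K) : G) ∈ L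
          rw [MulAut.conjNormal_apply]
          exact (inferInstance : L.Normal).conj_mem _ (Subgroup.mem_subgroupOf.mp hn) g
        · funext k
          have h1 := congrFun hl.2 (c k)
          have h2 : ϑ (c k) = ϑ k := hinv g k
          rw [h2] at h1
          exact h1
      exact hx' _ hc⟩⟩
    have hLZ : L ≤ Z := fun x hx => ⟨hLK.le hx, fun l hl => hl.1 _ (Subgroup.mem_subgroupOf.mpr hx)⟩
    rcases hchief Z hZn hLZ (fun x hx => hx.1) with hZ | hZ
    · -- full ramification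
      refine Or.inr (Or.inl ⟨φ, e, hφ, hθLe, ?_⟩)
      refine Cfsg.Agent.Char.multiplicity_sq_of_vanishing L' hϑ hφ' he he0 hin fun k hk => ?_
      by_contra hk0
      refine hk (Subgroup.mem_subgroupOf.mpr (hZ.le ⟨k.2, fun l hl => ?_⟩))
      exact Units.ext (mul_right_cancel₀ hk0 ((congrFun hl.2 k).trans (one_mul _).symm))
    · -- irreducible restriction
      have he1 : e = 1 := Cfsg.Agent.Char.multiplicity_eq_one_of_free L' hcomm hϑ hφ' he he0 hin
        fun l h1 h2 => MonoidHom.ext fun k => (hZ.ge k.2).2 l ⟨h1, h2⟩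
      refine Or.inl ?_
      show Cfsg.IsIrrCharacter L θL
      rw [hθLe, he1, Nat.cast_one, one_smul]
      exact hφ

end Cfsg.Agent.S0857
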