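import Cfsg.Statements.S0858
import Cfsg.Agent.Lib.Char.RelativeM
import Cfsg.Agent.Lib.Char.Brauer
-- import your own Cfsg.Agent.* helpers here

set_option autoImplicit false
set_option linter.style.haveILetI false
open Cfsg

namespace Cfsg.Agent.S0858

/-- Let N be a normal subgroup of the finite group G with G / N solvable, and suppose that for every subgroup H containing N and all subgroups L < K between N and H that are normal in H with no subgroup normal in H strictly between them, the index of L in K is not a perfect square. Then every irreducible character χ of G is induced from an irreducible character ψ of some subgroup H containing N such that the restriction of ψ to N is irreducible. -/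
theorem result {G : Type*} [Group G] [Fintype G] (N : Subgroup G) [N.Normal] (hsolv : Group.IsSolvable (G ⧸ N)) (hchief : ∀ (H K L : Subgroup G), N ≤ L → L < K → K ≤ H → (∀ h ∈ H, ∀ k ∈ K, h * k * h⁻¹ ∈ K) → (∀ h ∈ H, ∀ l ∈ L, h * l * h⁻¹ ∈ L) → (∀ M : Subgroup G, L ≤ M → M ≤ K → (∀ h ∈ H, ∀ m ∈ M, h * m * h⁻¹ ∈ M) → M = L ∨ M = K) → ¬ IsSquare (L.relIndex K)) (χ : G → ℂ) (hχ : Cfsg.IsIrrCharacter G χ) : ∃ (H : Subgroup G) (hNH : N ≤ H) (ψ : H → ℂ), Cfsg.IsIrrCharacter H ψ ∧ Cfsg.indFun H ψ = χ ∧ Cfsg.IsIrrCharacter N (fun n : N => ψ ⟨(n : G), hNH n.2⟩) := by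
  classical
  haveI := hsolv
  suffices key : ∀ (m : ℕ) (H : Subgroup G), Nat.card H = m → N ≤ H → ∀ χ : H → ℂ,
      Cfsg.IsIrrCharacter H χ → ∃ (H' : Subgroup G) (hNH : N ≤ H') (ψ : H' → ℂ),
        Cfsg.IsIrrCharacter H' ψ ∧ Cfsg.indFun H' ψ = Cfsg.indFun H χ ∧
          Cfsg.IsIrrCharacter N (fun n : N => ψ ⟨(n : G), hNH n.2⟩) by
    obtain ⟨H', hNH, ψ, h1, h2, h3⟩ := key _ ⊤ rfl le_top (fun x => χ x)
      (Cfsg.Agent.Char.isIrrCharacter_comp_mulEquiv Subgroup.topEquiv hχ)
    refine ⟨H', hNH, ψ, h1, h2.trans ?_, h3⟩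
    exact Cfsg.Agent.Char.indFun_top _ χ (Cfsg.Agent.Char.IsCharacter.isClassFunction
      (Cfsg.Agent.Char.IsIrrCharacter.isCharacter hχ)) (fun _ => rfl)
  intro m
  induction m using Nat.strong_induction_on with
  | _ m ih =>
    intro H hm hNH χ hχ
    haveI := Fintype.ofFinite H
    let ι : N.subgroupOf H ≃* N := Subgroup.subgroupOfEquivOfLe hNH
    by_cases hirr : Cfsg.IsIrrCharacter (N.subgroupOf H) (fun x : N.subgroupOf H => χ x)
    · exact ⟨H, hNH, χ, hχ, rfl, Cfsg.Agent.Char.isIrrCharacter_comp_mulEquiv ι.symm hirr⟩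
    let S : Set (Subgroup H) := {K | K.Normal ∧ N.subgroupOf H ≤ K ∧
      Cfsg.IsIrrCharacter K (fun k : K => χ k)}
    obtain ⟨K, ⟨hKn, hNK, hKirr⟩, hKmin⟩ := (Set.toFinite S).exists_minimal
      ⟨⊤, inferInstance, le_top, Cfsg.Agent.Char.isIrrCharacter_comp_mulEquiv Subgroup.topEquiv hχ⟩
    haveI := hKn
    let B : Subgroup H := ⁅K, K⁆ ⊔ N.subgroupOf H
    have hBK : B < K := by
      refine lt_of_le_of_ne (sup_le (Subgroup.commutator_le_left K K) hNK) fun hB => ?_
      let f : H →* G ⧸ N := (QuotientGroup.mk' N).comp H.subtype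
      have h1 : K.map f ≤ ⁅K.map f, K.map f⁆ := by
        conv_lhs => rw [← hB]
        rw [Subgroup.map_sup, Subgroup.map_commutator]
        refine sup_le le_rfl ?_
        rintro x ⟨y, hy, rfl⟩
        rw [show f y = 1 from (QuotientGroup.eq_one_iff _).mpr (Subgroup.mem_subgroupOf.mp hy)]
        exact Subgroup.one_mem _
      have h2 := Cfsg.Agent.Char.RelM.eq_bot_of_le_commutator _ h1
      have h3 : K = N.subgroupOf H := le_antisymm (fun k hk => Subgroup.mem_subgroupOf.mpr
        ((QuotientGroup.eq_one_iff _).mp (h2.le ⟨k, hk, rfl⟩ : f k ∈ (⊥ : Subgroup (G ⧸ N))))) hNK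
      subst h3
      exact hirr hKirr
    obtain ⟨L, hLn, hBL, hLK, hmax⟩ := Cfsg.Agent.Char.RelM.exists_maximal_below K B hBK
    haveI := hLn
    rcases Cfsg.Agent.Char.RelM.step K L hLK hmax (le_sup_left.trans hBL) hχ hKirr with
      h | ⟨φ, e, -, -, her, -⟩ | ⟨T, hLT, ψ, hT, hψ, hind, -⟩
    · exact absurd (hKmin ⟨hLn, le_sup_right.trans hBL, h⟩ hLK.le) (not_le_of_gt hLK)
    · have hsub : ∀ A : Subgroup H, ∀ h ∈ H, A.Normal → ∀ a ∈ A.map H.subtype,
          h * a * h⁻¹ ∈ A.map H.subtype := by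
        rintro A h hh hA _ ⟨a, ha, rfl⟩
        exact ⟨⟨h, hh⟩ * a * (⟨h, hh⟩ : H)⁻¹, hA.conj_mem a ha _, rfl⟩
      refine absurd ?_ (hchief H (K.map H.subtype) (L.map H.subtype) ?_ ?_
        (Subgroup.map_subtype_le K) (fun h hh => hsub K h hh hKn) (fun h hh => hsub L h hh hLn) ?_)
      · rw [Subgroup.relIndex_map_map_of_injective _ _ H.subtype_injective, ← her]
        exact IsSquare.sq e
      · intro n hn
        exact ⟨⟨n, hNH hn⟩, (le_sup_right.trans hBL) (Subgroup.mem_subgroupOf.mpr hn), rfl⟩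
      · exact (Subgroup.map_lt_map_iff_of_injective H.subtype_injective).mpr hLK
      · intro M hLM hMK hMH
        have hMle : M ≤ H := hMK.trans (Subgroup.map_subtype_le K)
        have hMn : (M.subgroupOf H).Normal := ⟨fun x hx g => hMH g g.2 x hx⟩
        have hM : M = (M.subgroupOf H).map H.subtype :=
          (Subgroup.map_subgroupOf_eq_of_le hMle).symm
        rcases hmax _ hMn (fun x hx => hLM ⟨x, hx, rfl⟩) (fun x hx => by
            obtain ⟨y, hy, he⟩ := hMK hx
            rwa [← H.subtype_injective he]) with e1 | e1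
        · exact Or.inl (hM.trans (by rw [e1]))
        · exact Or.inr (hM.trans (by rw [e1]))
    · let T' : Subgroup G := T.map H.subtype
      haveI := Fintype.ofFinite T
      let eT : T ≃* T' := Cfsg.Agent.Char.mapSubtypeEquiv H T
      have hlt : Nat.card T' < m := by
        rw [← hm, ← Nat.card_congr eT.toEquiv]
        exact lt_of_le_of_ne (Subgroup.card_le_card_group T)
          (fun e => hT (Subgroup.eq_top_of_card_eq T e))
      obtain ⟨H', hN', ψ', h1, h2, h3⟩ := ih _ hlt T' rfl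
        (fun n hn => ⟨⟨n, hNH hn⟩, hLT ((le_sup_right.trans hBL) (Subgroup.mem_subgroupOf.mpr hn)), rfl⟩)
        (fun x => ψ (eT.symm x)) (Cfsg.Agent.Char.isIrrCharacter_comp_mulEquiv eT.symm hψ)
      refine ⟨H', hN', ψ', h1, h2.trans ?_, h3⟩
      rw [← hind, ← Cfsg.Agent.Char.indFun_map_subtype H T ψ]
      intro x
      show ψ (eT.symm _) = ψ x
      congr 1
      rw [MulEquiv.symm_apply_eq]
      exact Subtype.ext rfl

end Cfsg.Agent.S0858
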