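import Cfsg.Statements.S0859
import Cfsg.Agent.Lib.Char.RelativeMAbelian
-- import your own Cfsg.Agent.* helpers here

set_option autoImplicit false
set_option linter.style.haveILetI false
open Cfsg

namespace Cfsg.Agent.S0859

/-- Let G be a finite solvable group and N a normal subgroup such that for every prime p every Sylow p-subgroup of N is abelian. Suppose every irreducible character of G is induced from an irreducible character of some subgroup containing N whose restriction to N is irreducible. Then every irreducible character of G is induced from a character of degree 1 of some subgroup. -/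
theorem result {G : Type*} [Group G] [Fintype G] [Group.IsSolvable G] (N : Subgroup G) [N.Normal] (hab : ∀ (p : ℕ) [Fact p.Prime] (P : Sylow p N), ∀ a ∈ P, ∀ b ∈ P, a * b = b * a) (hrel : ∀ χ : G → ℂ, Cfsg.IsIrrCharacter G χ → ∃ (H : Subgroup G) (hNH : N ≤ H) (ψ : H → ℂ), Cfsg.IsIrrCharacter H ψ ∧ Cfsg.indFun H ψ = χ ∧ Cfsg.IsIrrCharacter N (fun n : N => ψ ⟨(n : G), hNH n.2⟩)) (χ : G → ℂ) (hχ : Cfsg.IsIrrCharacter G χ) : ∃ (U : Subgroup G) (lam : U → ℂ), Cfsg.IsCharacter U lam ∧ lam 1 = 1 ∧ Cfsg.indFun U lam = χ := by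
  classical
  suffices key : ∀ (m : ℕ) (M H : Subgroup G), Nat.card M = m → ∀ (hMH : M ≤ H), M ≤ N →
      (M.subgroupOf H).Normal → ∀ χ : H → ℂ, Cfsg.IsIrrCharacter H χ →
        Cfsg.IsIrrCharacter (M.subgroupOf H) (fun x : M.subgroupOf H => χ x) →
          ∃ (U : Subgroup G) (lam : U → ℂ), Cfsg.IsCharacter U lam ∧ lam 1 = 1 ∧
            Cfsg.indFun U lam = Cfsg.indFun H χ by
    obtain ⟨H, hNH, ψ, hψ, hind, hψN⟩ := hrel χ hχ
    obtain ⟨U, lam, h1, h2, h3⟩ := key _ N H rfl hNH le_rfl inferInstance ψ hψ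
      (Cfsg.Agent.Char.isIrrCharacter_comp_mulEquiv (Subgroup.subgroupOfEquivOfLe hNH) hψN)
    exact ⟨U, lam, h1, h2, h3.trans hind⟩
  intro m
  induction m using Nat.strong_induction_on with
  | _ m ih =>
    intro M H hm hMH hMN hMn χ hχ hirr
    haveI := Fintype.ofFinite H
    haveI := hMn
    let K : Subgroup H := M.subgroupOf H
    by_cases hK : K = ⊥
    · have h1 : χ 1 = 1 := by
        have h := Cfsg.Agent.Char.IsIrrCharacter.degree_one_of_comm hirr fun a b => by
          have ha : (a : H) = 1 := Subgroup.mem_bot.mp (hK.le a.2)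
          have hb : (b : H) = 1 := Subgroup.mem_bot.mp (hK.le b.2)
          exact Subtype.ext (by rw [Subgroup.coe_mul, Subgroup.coe_mul, ha, hb])
        simpa using h
      exact ⟨H, χ, Cfsg.Agent.Char.IsIrrCharacter.isCharacter hχ, h1, rfl⟩
    have hBK : ⁅K, K⁆ < K := lt_of_le_of_ne (Subgroup.commutator_le_left K K) fun hB =>
      hK (Cfsg.Agent.Char.RelM.eq_bot_of_le_commutator K hB.ge)
    obtain ⟨L, hLn, hBL, hLK, hmax⟩ := Cfsg.Agent.Char.RelM.exists_maximal_below K ⁅K, K⁆ hBK
    haveI := hLn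
    let L' : Subgroup G := L.map H.subtype
    have hL'M : L' ≤ M := fun x hx => by
      obtain ⟨y, hy, rfl⟩ := hx
      exact Subgroup.mem_subgroupOf.mp (hLK.le hy)
    have hL'lt : Nat.card L' < m := by
      rw [← hm]
      refine lt_of_le_of_ne (Subgroup.card_le_of_le hL'M) fun he => not_le_of_gt hLK ?_
      have hLM : L' = M := Subgroup.eq_of_le_of_card_ge hL'M he.ge
      intro k hk
      obtain ⟨y, hy, he'⟩ := hLM.ge (Subgroup.mem_subgroupOf.mp hk)
      rwa [← H.subtype_injective he']
    have hsubL : L'.subgroupOf H = L := Subgroup.comap_map_eq_self_of_injective H.subtype_injective L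
    rcases Cfsg.Agent.Char.RelM.step K L hLK hmax hBL hχ hirr with
      h | ⟨φ, e, hφ, he, -, he1⟩ | ⟨T, hLT, ψ, -, hψ, hind, hψL⟩
    · refine ih _ hL'lt L' H rfl (Subgroup.map_subtype_le L) (hL'M.trans hMN)
        (by rw [hsubL]; exact hLn) χ hχ ?_
      exact Cfsg.Agent.Char.isIrrCharacter_comp_mulEquiv (MulEquiv.subgroupCongr hsubL) h
    · exfalso
      obtain ⟨p, k, hp, hk⟩ := Cfsg.Agent.Char.RelM.exists_prime_pow_index K L hLK hmax hBL
      haveI := Fact.mk hp
      haveI := Fintype.ofFinite K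
      let ι : L.subgroupOf K ≃* L := Subgroup.subgroupOfEquivOfLe hLK.le
      refine absurd (Cfsg.Agent.Char.RelM.not_ramified (L.subgroupOf K) hk (fun a b => ?_) ?_ hirr
        (Cfsg.Agent.Char.isIrrCharacter_comp_mulEquiv ι hφ) (funext fun n => congrFun he (ι n)))
        he1.ne'
      · exact Subgroup.mem_subgroupOf.mpr (hBL (Subgroup.commutator_mem_commutator a.2 b.2))
      · intro P a ha b hb
        let f : K →* N :=
          { toFun := fun x => ⟨((x : H) : G), hMN (Subgroup.mem_subgroupOf.mp x.2)⟩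
            map_one' := rfl
            map_mul' := fun _ _ => rfl }
        obtain ⟨Q, hQ⟩ := (P.isPGroup'.map f).exists_le_sylow
        have h1 := hab p Q (f a) (hQ ⟨a, ha, rfl⟩) (f b) (hQ ⟨b, hb, rfl⟩)
        exact Subtype.ext (Subtype.ext (congrArg (fun z : N => (z : G)) h1 :))
    · haveI := Fintype.ofFinite T
      let T' : Subgroup G := T.map H.subtype
      let eT : T ≃* T' := Cfsg.Agent.Char.mapSubtypeEquiv H T
      have hL'T : L' ≤ T' := Subgroup.map_mono hLT
      have hT'H : T' ≤ H := Subgroup.map_subtype_le T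
      have hn : (L'.subgroupOf T').Normal := ⟨fun x hx g => by
        obtain ⟨y, hy, hye⟩ := Subgroup.mem_subgroupOf.mp hx
        obtain ⟨t, -, hte⟩ := g.2
        refine Subgroup.mem_subgroupOf.mpr ⟨t * y * t⁻¹, hLn.conj_mem y hy t, ?_⟩
        simp only [map_mul, map_inv, hye, hte, Subgroup.coe_mul, Subgroup.coe_inv]⟩
      obtain ⟨U, lam, h1, h2, h3⟩ := ih _ hL'lt L' T' rfl hL'T (hL'M.trans hMN) hn
        (fun x => ψ (eT.symm x)) (Cfsg.Agent.Char.isIrrCharacter_comp_mulEquiv eT.symm hψ) (by
          let j : L'.subgroupOf T' ≃* L := (Subgroup.subgroupOfEquivOfLe hL'T).trans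
            (Cfsg.Agent.Char.mapSubtypeEquiv H L).symm
          have h := Cfsg.Agent.Char.isIrrCharacter_comp_mulEquiv j hψL
          refine cast (congrArg _ (funext fun x => ?_)) h
          congr 1
          apply eT.injective
          rw [MulEquiv.apply_symm_apply]
          have hx := congrArg Subtype.val ((Cfsg.Agent.Char.mapSubtypeEquiv H L).apply_symm_apply
            (Subgroup.subgroupOfEquivOfLe hL'T x))
          exact Subtype.ext hx)
      refine ⟨U, lam, h1, h2, h3.trans ?_⟩
      rw [← hind, ← Cfsg.Agent.Char.indFun_map_subtype H T ψ]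
      intro x
      show ψ (eT.symm _) = ψ x
      congr 1
      rw [MulEquiv.symm_apply_eq]
      exact Subtype.ext rfl

end Cfsg.Agent.S0859
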