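import Cfsg.Statements.S0869
import Mathlib.RingTheory.Int.Basic
import Mathlib.LinearAlgebra.Pi
import Mathlib.RingTheory.PrincipalIdealDomain
import Mathlib.Tactic


set_option autoImplicit false
open Cfsg

namespace Cfsg.Agent.S0869

/-- Let S be a nonempty finite type and R an additive subgroup of the integer-valued functions on S that is closed under pointwise multiplication. If the constant function 1 is not in R, then there exist a point x of S and a prime p such that p divides f x for every f in R. -/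
theorem result {S : Type*} [Finite S] [Nonempty S] (R : AddSubgroup (S → ℤ)) (hmul : ∀ f ∈ R, ∀ g ∈ R, f * g ∈ R) (h1 : (1 : S → ℤ) ∉ R) : ∃ (x : S) (p : ℕ), p.Prime ∧ ∀ f ∈ R, (p : ℤ) ∣ f x := by
  classical
  haveI := Fintype.ofFinite S
  by_contra hno
  push Not at hno
  have key : ∀ x : S, ∃ f ∈ R, f x = 1 := by
    intro x
    obtain ⟨d, hd⟩ := ((R.toIntSubmodule).map (LinearMap.proj x : (S → ℤ) →ₗ[ℤ] ℤ))|> fun I => (inferInstance : I.IsPrincipal).principal
    have hu : d.natAbs = 1 := by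
      by_contra hne
      obtain ⟨p, hp, hpd⟩ := Nat.exists_prime_and_dvd hne
      obtain ⟨f, hf, hfp⟩ := hno x p hp
      apply hfp
      have hmem : f x ∈ (R.toIntSubmodule).map (LinearMap.proj x : (S → ℤ) →ₗ[ℤ] ℤ) :=
        ⟨f, hf, rfl⟩
      rw [hd, Submodule.mem_span_singleton] at hmem
      obtain ⟨c, hc⟩ := hmem
      exact hc ▸ Dvd.dvd.mul_left (Int.natCast_dvd.mpr hpd) c
    have h1' : (1 : ℤ) ∈ (R.toIntSubmodule).map (LinearMap.proj x : (S → ℤ) →ₗ[ℤ] ℤ) := by
      rw [hd, Submodule.mem_span_singleton]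
      rcases Int.natAbs_eq d with h | h <;> rw [hu] at h <;> subst h
      · exact ⟨1, by simp⟩
      · exact ⟨-1, by simp⟩
    obtain ⟨f, hf, hfx⟩ := h1'
    exact ⟨f, hf, hfx⟩
  suffices h : ∀ s : Finset S, ∃ r ∈ R, ∀ x ∈ s, r x = 1 by
    obtain ⟨r, hr, he⟩ := h Finset.univ
    exact h1 ((funext fun x => he x (Finset.mem_univ x) : r = 1) ▸ hr)
  intro s
  induction s using Finset.induction with
  | empty => exact ⟨0, R.zero_mem, by simp⟩
  | insert a s _ ih =>
    obtain ⟨r, hr, he⟩ := ih
    obtain ⟨f, hf, hfa⟩ := key a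
    refine ⟨r + f - r * f, R.sub_mem (R.add_mem hr hf) (hmul r hr f hf), fun x hx => ?_⟩
    rcases Finset.mem_insert.mp hx with rfl | hx
    · simp [hfa]
    · simp [he x hx]

end Cfsg.Agent.S0869
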