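import Cfsg.Statements.S0870
import Cfsg.Agent.Lib.Char.PermChar

set_option autoImplicit false
open Cfsg

namespace Cfsg.Agent.S0870

/-- For subgroups H and K of a finite group G, the pointwise product of the functions induced from the constant function 1 on H and on K is a sum, over subgroups U of H with natural-number coefficients, of the functions induced from the constant function 1 on U. -/
theorem result {G : Type*} [Group G] [Fintype G] (H K : Subgroup G) : ∃ a : Subgroup G → ℕ, (∀ U, a U ≠ 0 → U ≤ H) ∧ Cfsg.indFun H (fun _ => 1) * Cfsg.indFun K (fun _ => 1) = ∑ U : Subgroup G, (a U : ℂ) • Cfsg.indFun U (fun _ => 1) := by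
  classical
  let S : Quotient (MulAction.orbitRel H (G ⧸ K)) → Subgroup G :=
    fun q => (MulAction.stabilizer H q.out).map H.subtype
  refine ⟨fun U => (Finset.univ.filter fun q => S q = U).card, fun U hU => ?_, ?_⟩
  · obtain ⟨q, hq⟩ := Finset.card_ne_zero.mp hU
    rw [← (Finset.mem_filter.mp hq).2]
    exact Subgroup.map_subtype_le _
  rw [Cfsg.Agent.Char.indFun_one_mul_indFun_one]
  rw [← Finset.sum_fiberwise Finset.univ S (fun q => Cfsg.indFun ((MulAction.stabilizer H q.out).map H.subtype) (fun _ => (1 : ℂ)))]
  refine Finset.sum_congr rfl fun U _ => ?_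
  dsimp only
  rw [Finset.card_eq_sum_ones, Nat.cast_sum, Finset.sum_smul]
  refine Finset.sum_congr rfl fun q hq => ?_
  rw [Nat.cast_one, one_smul]
  exact Cfsg.Agent.Char.indFun_congr (Finset.mem_filter.mp hq).2 _ _ fun _ _ _ => rfl

end Cfsg.Agent.S0870
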