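import Cfsg.Statements.S0878
import Mathlib.GroupTheory.GroupAction.Quotient

set_option autoImplicit false
open Cfsg

namespace Cfsg.Agent.S0878

/-- Let G be a Zassenhaus group on the finite set Ω, a a point, and let H be the subgroup of the stabilizer of a consisting of the identity and the elements fixing no point other than a (given here as a subgroup of the stabilizer of order one less than the number of points whose non-identity elements fix only a; it is the Frobenius kernel of the stabilizer). Then an element outside the stabilizer of a conjugates no non-identity element of H into H, and the normalizer of H is exactly the stabilizer of a. -/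
theorem result {G Ω : Type*} [Group G] [Finite G] [MulAction G Ω] [Fintype Ω] (hZ : Cfsg.IsZassenhausGroup G Ω) (a : Ω) (H : Subgroup G) (hHa : H ≤ MulAction.stabilizer G a) (hHcard : Nat.card H + 1 = Fintype.card Ω) (hHfix : ∀ u ∈ H, u ≠ 1 → ∀ c : Ω, u • c = c → c = a) : (∀ g : G, g ∉ MulAction.stabilizer G a → ∀ u ∈ H, g * u * g⁻¹ ∈ H → u = 1) ∧ Subgroup.normalizer (H : Set G) = MulAction.stabilizer G a := by
  classical
  haveI := Fintype.ofFinite G
  obtain ⟨hfaith, h2, h3, ⟨g₀, hg₀, a₀, b₀, hab₀, hga, hgb⟩, -⟩ := hZ
  rw [MulAction.is_two_pretransitive_iff] at h2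
  set S := MulAction.stabilizer G a with hS
  have hH1 : ∃ u ∈ H, u ≠ 1 := by
    by_contra hh
    push Not at hh
    have hbot : H = ⊥ := (Subgroup.eq_bot_iff_forall _).mpr hh
    rw [hbot, Subgroup.card_bot] at hHcard
    refine hg₀ (hfaith.eq_of_smul_eq_smul fun c => ?_)
    rw [one_smul]
    have hu : ({a₀, b₀} : Finset Ω) = Finset.univ := Finset.eq_univ_of_card _ (by
      rw [Finset.card_pair hab₀]; omega)
    have := hu ▸ Finset.mem_univ c
    simp only [Finset.mem_insert, Finset.mem_singleton] at this
    rcases this with rfl | rfl <;> assumption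
  have part1 : ∀ g : G, g ∉ S → ∀ u ∈ H, g * u * g⁻¹ ∈ H → u = 1 := by
    intro g hg u hu hgu
    by_contra hu1
    have hne : g * u * g⁻¹ ≠ 1 := fun e => hu1 (conj_eq_one_iff.mp e)
    refine hg (MulAction.mem_stabilizer_iff.mpr (hHfix _ hgu hne (g • a) ?_))
    rw [smul_smul, inv_mul_cancel_right, mul_smul,
      MulAction.mem_stabilizer_iff.mp (hHa hu)]
  refine ⟨part1, le_antisymm (fun g hg => ?_) (fun g hg => ?_)⟩
  · by_contra hgS
    obtain ⟨u, hu, hu1⟩ := hH1
    exact hu1 (part1 g hgS u hu ((Subgroup.mem_normalizer_iff.mp hg u).mp hu))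
  -- elements of the stabilizer fixing only `a` lie in `H`
  let F : G → ℕ := fun u => (Finset.univ.filter fun c : Ω => u • c = c).card
  let SS := Finset.univ.filter fun u : G => u ∈ S
  let HH := Finset.univ.filter fun u : G => u ∈ H ∧ u ≠ 1
  let X := SS.filter fun u => u ∉ H
  have hmain : ∀ u ∈ S, u ∉ H → ∃ c, c ≠ a ∧ u • c = c := by
    intro u₀ hu₀ hu₀H
    by_contra hno
    push Not at hno
    have hF1 : F u₀ = 1 := Finset.card_eq_one.mpr ⟨a, by
      ext c
      simp only [Finset.mem_filter, Finset.mem_univ, true_and, Finset.mem_singleton]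
      exact ⟨fun h => by_contra fun hc => hno c hc h,
        fun h => h ▸ MulAction.mem_stabilizer_iff.mp hu₀⟩⟩
    have hX2 : ∀ u ∈ X, F u ≤ 2 := by
      intro u hu
      simp only [X, SS, Finset.mem_filter, Finset.mem_univ, true_and] at hu
      by_contra hlt
      push Not at hlt
      obtain ⟨c1, c2, c3, h1, h2, h3', e12, e13, e23⟩ :=
        Finset.two_lt_card_iff.mp hlt
      simp only [Finset.mem_filter, Finset.mem_univ, true_and] at h1 h2 h3'
      exact hu.2 (h3 u c1 c2 c3 e12 e23 e13 h1 h2 h3' ▸ H.one_mem)
    have hSsplit : SS = X ∪ (HH ∪ {1}) := by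
      ext u
      simp only [X, SS, HH, Finset.mem_union, Finset.mem_filter, Finset.mem_univ, true_and,
        Finset.mem_singleton]
      constructor
      · intro h
        by_cases hu : u ∈ H
        · by_cases hu1 : u = 1
          · exact Or.inr (Or.inr hu1)
          · exact Or.inr (Or.inl ⟨hu, hu1⟩)
        · exact Or.inl ⟨h, hu⟩
      · rintro (h | h | h)
        · exact h.1
        · exact hHa h.1
        · exact h ▸ S.one_mem
    have hd1 : Disjoint X (HH ∪ {1}) := by
      rw [Finset.disjoint_left]
      intro u hu hu'
      simp only [X, SS, HH, Finset.mem_union, Finset.mem_filter, Finset.mem_univ, true_and,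
        Finset.mem_singleton] at hu hu'
      rcases hu' with h | h
      · exact hu.2 h.1
      · exact hu.2 (h ▸ H.one_mem)
    have hd2 : Disjoint HH {1} := by simp [HH]
    have hHH : HH.card + 1 = Nat.card H := by
      rw [Nat.card_eq_fintype_card, Fintype.card_subtype,
        show HH = (Finset.univ.filter fun u => u ∈ H).erase 1 by ext u; simp [HH, and_comm]]
      exact Finset.card_erase_add_one (by simp [H.one_mem])
    have hFH : ∀ u ∈ HH, F u = 1 := by
      intro u hu
      simp only [HH, Finset.mem_filter, Finset.mem_univ, true_and] at hu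
      refine Finset.card_eq_one.mpr ⟨a, ?_⟩
      ext c
      simp only [Finset.mem_filter, Finset.mem_univ, true_and, Finset.mem_singleton]
      exact ⟨hHfix u hu.1 hu.2 c, fun h => h ▸ MulAction.mem_stabilizer_iff.mp (hHa hu.1)⟩
    have hF0 : F 1 = Fintype.card Ω := by simp [F]
    have hsum : ∑ u ∈ SS, F u = 2 * SS.card := by
      have e : ∑ u ∈ SS, F u = ∑ c : Ω, (SS.filter fun u => u • c = c).card := by
        simp only [F, Finset.card_filter]
        exact Finset.sum_comm
      have hc : ∀ c, c ≠ a →
          (SS.filter fun u => u • c = c).card * (Fintype.card Ω - 1) = SS.card := by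
        intro c hc
        have horb : MulAction.orbit S c = {x | x ≠ a} := by
          ext x
          refine ⟨?_, fun hx => ?_⟩
          · rintro ⟨u, rfl⟩ hxa
            refine hc (MulAction.injective (u : G) ?_)
            exact hxa.trans (MulAction.mem_stabilizer_iff.mp u.2).symm
          · obtain ⟨g', hg', hg''⟩ := h2 (Ne.symm hc) (Ne.symm hx)
            exact ⟨⟨g', MulAction.mem_stabilizer_iff.mpr hg'⟩, hg''⟩
        have := MulAction.card_orbit_mul_card_stabilizer_eq_card_group S c
        simp only [← Nat.card_eq_fintype_card] at this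
        rw [horb] at this
        have c1 : Nat.card ({x | x ≠ a} : Set Ω) = Fintype.card Ω - 1 := by
          rw [Nat.card_eq_fintype_card, Fintype.card_subtype]
          simp [Finset.filter_ne', Finset.card_erase_of_mem]
        have c2 : Nat.card (MulAction.stabilizer S c) = (SS.filter fun u => u • c = c).card := by
          rw [← Nat.card_eq_finsetCard]
          exact Nat.card_congr
            { toFun := fun u => ⟨u.1.1, by
                simp only [SS, Finset.mem_filter, Finset.mem_univ, true_and]
                exact ⟨u.1.2, MulAction.mem_stabilizer_iff.mp u.2⟩⟩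
              invFun := fun u => ⟨⟨u.1, (Finset.mem_filter.mp (Finset.mem_filter.mp u.2).1).2⟩,
                MulAction.mem_stabilizer_iff.mpr (Finset.mem_filter.mp u.2).2⟩
              left_inv := fun u => rfl
              right_inv := fun u => rfl }
        rw [c1, c2, show Nat.card S = SS.card by
          rw [Nat.card_eq_fintype_card, Fintype.card_subtype]] at this
        rw [mul_comm]; exact this
      rw [e, ← Finset.add_sum_erase _ _ (Finset.mem_univ a)]
      have ha' : SS.filter (fun u => u • a = a) = SS := Finset.filter_true_of_mem fun u hu =>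
        MulAction.mem_stabilizer_iff.mp (Finset.mem_filter.mp hu).2
      rw [ha', two_mul, add_right_inj]
      have hn : Fintype.card Ω - 1 ≠ 0 := by
        have : 0 < Nat.card H := Nat.card_pos
        omega
      apply mul_right_cancel₀ hn
      rw [Finset.sum_mul, Finset.sum_congr rfl fun c hc' => hc c (Finset.ne_of_mem_erase hc'),
        Finset.sum_const, Finset.card_erase_of_mem (Finset.mem_univ a), Finset.card_univ,
        smul_eq_mul, mul_comm]
    have hu₀X : u₀ ∈ X := by simp [X, SS, hu₀, hu₀H]
    have hXlt : ∑ u ∈ X, F u < 2 * X.card := by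
      rw [mul_comm, ← smul_eq_mul, ← Finset.sum_const]
      exact Finset.sum_lt_sum hX2 ⟨u₀, hu₀X, by omega⟩
    rw [hSsplit, Finset.sum_union hd1, Finset.sum_union hd2, Finset.sum_singleton, hF0,
      Finset.sum_congr rfl hFH, Finset.sum_const, smul_eq_mul, mul_one,
      Finset.card_union_of_disjoint hd1, Finset.card_union_of_disjoint hd2,
      Finset.card_singleton] at hsum
    omega
  have hga' := MulAction.mem_stabilizer_iff.mp hg
  have key : ∀ h : G, h ∈ S → ∀ u ∈ H, h * u * h⁻¹ ∈ H := by
    intro h hh u hu
    by_contra hn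
    obtain ⟨c, hca, hc⟩ := hmain _ (S.mul_mem (S.mul_mem hh (hHa hu)) (S.inv_mem hh)) hn
    by_cases hu1 : u = 1
    · exact hn (by simp [hu1, H.one_mem])
    · refine hca ?_
      have e : u • (h⁻¹ • c) = h⁻¹ • c := by
        conv_rhs => rw [← hc]
        simp [smul_smul, mul_assoc]
      have := hHfix u hu hu1 _ e
      rw [inv_smul_eq_iff, MulAction.mem_stabilizer_iff.mp hh] at this
      exact this
  rw [Subgroup.mem_normalizer_iff]
  intro u
  refine ⟨key g hg u, fun h => ?_⟩
  have := key g⁻¹ (S.inv_mem hg) _ h
  simpa [mul_assoc] using this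

end Cfsg.Agent.S0878
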