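import Cfsg.Statements.S0879
import Mathlib.GroupTheory.GroupAction.Quotient
import Mathlib.GroupTheory.Index

set_option autoImplicit false
open Cfsg

namespace Cfsg.Agent.S0879

/-- Let G be a Zassenhaus group on the finite set Ω and E the stabilizer of two distinct points a, b. Then an element outside the normalizer of E conjugates no non-identity element of E into E, and E has index 2 in its normalizer. -/
theorem result {G Ω : Type*} [Group G] [Finite G] [MulAction G Ω] [Fintype Ω] (hZ : Cfsg.IsZassenhausGroup G Ω) {a b : Ω} (hab : a ≠ b) : (∀ g : G, g ∉ Subgroup.normalizer ((MulAction.stabilizer G a ⊓ MulAction.stabilizer G b : Subgroup G) : Set G) → ∀ x ∈ (MulAction.stabilizer G a ⊓ MulAction.stabilizer G b : Subgroup G), g * x * g⁻¹ ∈ (MulAction.stabilizer G a ⊓ MulAction.stabilizer G b : Subgroup G) → x = 1) ∧ ((MulAction.stabilizer G a ⊓ MulAction.stabilizer G b : Subgroup G).subgroupOf (Subgroup.normalizer ((MulAction.stabilizer G a ⊓ MulAction.stabilizer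 G b : Subgroup G) : Set G))).index = 2 := by
  classical
  obtain ⟨hfaith, h2, h3, ⟨g₀, hg₀, a₀, b₀, hab₀, hga, hgb⟩, -⟩ := hZ
  rw [MulAction.is_two_pretransitive_iff] at h2
  set E := MulAction.stabilizer G a ⊓ MulAction.stabilizer G b with hE
  have hmem : ∀ x, x ∈ E ↔ x • a = a ∧ x • b = b := fun x => by
    simp [hE, Subgroup.mem_inf, MulAction.mem_stabilizer_iff]
  have honly : ∀ x ∈ E, x ≠ 1 → ∀ c, x • c = c → c = a ∨ c = b := by
    intro x hx hx1 c hc
    by_contra hn
    push Not at hn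
    exact hx1 (h3 x a b c hab (Ne.symm hn.2) (Ne.symm hn.1) ((hmem x).mp hx).1 ((hmem x).mp hx).2 hc)
  have hswap : ∀ g : G, (g • a = a ∧ g • b = b ∨ g • a = b ∧ g • b = a) →
      g ∈ Subgroup.normalizer (E : Set G) := by
    intro g hg
    rw [Subgroup.mem_normalizer_iff]
    intro x
    rw [hmem, hmem]
    have key : ∀ c : Ω, (g * x * g⁻¹) • (g • c) = g • c ↔ x • c = c := fun c => by
      rw [smul_smul, inv_mul_cancel_right, mul_smul]
      exact smul_left_cancel_iff g
    rcases hg with ⟨h1, h2'⟩ | ⟨h1, h2'⟩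
    · have ka := key a; have kb := key b
      rw [h1] at ka; rw [h2'] at kb
      rw [ka, kb]
    · have ka := key a; have kb := key b
      rw [h1] at ka; rw [h2'] at kb
      rw [ka, kb, and_comm]
  obtain ⟨e, he, he1⟩ : ∃ e ∈ E, e ≠ 1 := by
    obtain ⟨h, h1, h2'⟩ := h2 hab₀ hab
    refine ⟨h * g₀ * h⁻¹, (hmem _).mpr ⟨?_, ?_⟩, fun e' => hg₀ (conj_eq_one_iff.mp e')⟩
    · conv_lhs => rw [← h1]
      rw [smul_smul, inv_mul_cancel_right, mul_smul, hga, h1]
    · conv_lhs => rw [← h2']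
      rw [smul_smul, inv_mul_cancel_right, mul_smul, hgb, h2']
  have hpart : ∀ g : G, ∀ x ∈ E, x ≠ 1 → g * x * g⁻¹ ∈ E →
      (g • a = a ∧ g • b = b ∨ g • a = b ∧ g • b = a) := by
    intro g x hx hx1 hgx
    have hne : g * x * g⁻¹ ≠ 1 := fun e' => hx1 (conj_eq_one_iff.mp e')
    have ha : g • a = a ∨ g • a = b := honly _ hgx hne _ (by
      rw [smul_smul, inv_mul_cancel_right, mul_smul, ((hmem x).mp hx).1])
    have hb : g • b = a ∨ g • b = b := honly _ hgx hne _ (by
      rw [smul_smul, inv_mul_cancel_right, mul_smul, ((hmem x).mp hx).2])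
    have hne' : g • a ≠ g • b := fun e' => hab (MulAction.injective g e')
    rcases ha with ha | ha <;> rcases hb with hb | hb
    · exact absurd (ha.trans hb.symm) hne'
    · exact Or.inl ⟨ha, hb⟩
    · exact Or.inr ⟨ha, hb⟩
    · exact absurd (ha.trans hb.symm) hne'
  refine ⟨fun g hg x hx hgx => by_contra fun hx1 => hg (hswap g (hpart g x hx hx1 hgx)), ?_⟩
  obtain ⟨s, hs1, hs2⟩ := h2 hab (Ne.symm hab)
  rw [Subgroup.index_eq_two_iff]
  refine ⟨⟨s, hswap s (Or.inr ⟨hs1, hs2⟩)⟩, fun y => ?_⟩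
  rw [Subgroup.mem_subgroupOf, Subgroup.mem_subgroupOf, hmem, hmem]
  show Xor (((y : G) * s) • a = a ∧ ((y : G) * s) • b = b) ((y : G) • a = a ∧ (y : G) • b = b)
  have hy := hpart (y : G) e he he1 ((Subgroup.mem_normalizer_iff.mp y.2 e).mp he)
  rw [mul_smul, mul_smul, hs1, hs2]
  rcases hy with ⟨h1, h2'⟩ | ⟨h1, h2'⟩
  · refine Or.inr ⟨⟨h1, h2'⟩, fun h => hab ?_⟩
    exact h.1.symm.trans h2'
  · refine Or.inl ⟨⟨h2', h1⟩, fun h => hab ?_⟩
    exact h.1.symm.trans h1

end Cfsg.Agent.S0879
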