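import Cfsg.Statements.S0880
import Cfsg.Agent.Lib.Char.Zassenhaus
import Cfsg.Agent.Lib.Char.Orthogonality

set_option autoImplicit false
open Cfsg

namespace Cfsg.Agent.S0880

/-- Let G be a finite simple Zassenhaus group on Ω with n points whose two-point stabilizer E has odd order less than n - 2. Then there are two elements of G, each fixing no point of Ω, that are not conjugate. -/
theorem result {G Ω : Type*} [Group G] [Finite G] [MulAction G Ω] [Fintype Ω] (hZ : Cfsg.IsZassenhausGroup G Ω) {a b : Ω} (hab : a ≠ b) [IsSimpleGroup G] (hodd : Odd (Nat.card ↥(MulAction.stabilizer G a ⊓ MulAction.stabilizer G b : Subgroup G))) (hlt : Nat.card ↥(MulAction.stabilizer G a ⊓ MulAction.stabilizer G b : Subgroup G) < Fintype.card Ω - 2) : ∃ x y : G, (∀ c : Ω, x • c ≠ c) ∧ (∀ c : Ω, y • c ≠ c) ∧ ¬ IsConj x y := by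
  classical
  haveI := Fintype.ofFinite G
  have hn : 3 ≤ Fintype.card Ω := by omega
  set e := Nat.card ↥(MulAction.stabilizer G a ⊓ MulAction.stabilizer G b : Subgroup G) with he
  set n := Fintype.card Ω with hndef
  obtain ⟨hS, hG⟩ := Cfsg.Agent.Char.Zass.card_stab hZ hab
  have hG' : Nat.card G = n * ((n - 1) * e) := by rw [hG, hS]
  let f : G → ℕ := fun x => (Finset.univ.filter fun c : Ω => x • c = c).card
  have hmove : ∀ c d : Ω, c ≠ d → (Finset.univ.filter fun x : G => x • c = c ∧ x • d = d).card = e := by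
    intro c d hcd
    obtain ⟨g, hga, hgb⟩ := Cfsg.Agent.Char.Zass.exists_move hZ hab hcd
    rw [he, Nat.card_eq_fintype_card, ← Finset.card_univ]
    symm
    refine Finset.card_bij (fun k _ => g * (k : G) * g⁻¹) (fun k _ => ?_)
      (fun k _ k' _ hk => Subtype.ext (mul_left_cancel (mul_right_cancel hk))) (fun x hx => ?_)
    · obtain ⟨h1, h2⟩ := Cfsg.Agent.Char.Zass.mem_two.mp k.2
      rw [Finset.mem_filter]
      refine ⟨Finset.mem_univ _, ?_, ?_⟩
      · rw [mul_smul, mul_smul, ← hga, inv_smul_smul, h1]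
      · rw [mul_smul, mul_smul, ← hgb, inv_smul_smul, h2]
    · obtain ⟨-, h1, h2⟩ := Finset.mem_filter.mp hx
      exact ⟨⟨g⁻¹ * x * g, Cfsg.Agent.Char.Zass.mem_two.mpr
        ⟨by rw [mul_smul, mul_smul, hga, h1, inv_smul_eq_iff, hga],
          by rw [mul_smul, mul_smul, hgb, h2, inv_smul_eq_iff, hgb]⟩⟩, Finset.mem_univ _, by group⟩
  have hone : ∑ x : G, f x = n * ((n - 1) * e) := by
    haveI := hZ.2.1
    haveI : MulAction.IsPretransitive G Ω := MulAction.isPretransitive_of_is_two_pretransitive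
    simp only [f, Finset.card_filter]
    rw [Finset.sum_comm, Finset.sum_congr rfl fun c _ => (?_ :
      (∑ x : G, if x • c = c then 1 else 0) = Nat.card (MulAction.stabilizer G a)),
      Finset.sum_const, Finset.card_univ, smul_eq_mul, hS]
    rw [← Finset.card_filter]
    obtain ⟨g, rfl⟩ := MulAction.exists_smul_eq G a c
    rw [Nat.card_eq_fintype_card, Fintype.card_subtype]
    refine Finset.card_equiv (MulAut.conj g⁻¹).toEquiv fun x => ?_
    simp [MulAction.mem_stabilizer_iff, mul_smul, inv_smul_eq_iff]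
  have htwo : ∑ x : G, f x * (f x - 1) = n * ((n - 1) * e) := by
    have h1 : ∀ x : G, f x * (f x - 1) =
        ∑ c : Ω, ∑ d ∈ Finset.univ.erase c, (if x • c = c ∧ x • d = d then 1 else 0) := by
      intro x
      have h2 : ∀ c : Ω, (∑ d ∈ Finset.univ.erase c, if x • c = c ∧ x • d = d then 1 else 0) =
          if x • c = c then f x - 1 else 0 := by
        intro c
        split_ifs with hc
        · rw [← Finset.card_filter, Finset.filter_erase]
          simp only [hc, true_and]
          exact Finset.card_erase_of_mem (Finset.mem_filter.mpr ⟨Finset.mem_univ _, hc⟩)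
        · exact Finset.sum_eq_zero fun d _ => if_neg fun h => hc h.1
      rw [Finset.sum_congr rfl fun c _ => h2 c, ← Finset.sum_filter, Finset.sum_const, smul_eq_mul]
    rw [Finset.sum_congr rfl fun x _ => h1 x, Finset.sum_comm, Finset.sum_congr rfl fun c _ => by
      rw [Finset.sum_comm, Finset.sum_congr rfl fun d hd => by
        rw [← Finset.card_filter, hmove c d (Finset.ne_of_mem_erase hd).symm]]]
    simp [Finset.card_erase_of_mem, hndef, mul_assoc]
  have hle : ∀ x : G, x ≠ 1 → f x ≤ 2 := by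
    intro x hx
    by_contra hlt'
    obtain ⟨c1, c2, c3, h1, h2, h3', e12, e13, e23⟩ := Finset.two_lt_card_iff.mp (Nat.lt_of_not_le hlt')
    simp only [Finset.mem_filter, Finset.mem_univ, true_and] at h1 h2 h3'
    exact hx (hZ.2.2.1 x c1 c2 c3 e12 e23 e13 h1 h2 h3')
  -- the number of elements without fixed points
  let F := Finset.univ.filter fun x : G => f x = 0
  have hF : 2 * (F.card : ℤ) = ((n : ℤ) - 1) * ((n : ℤ) * ((e : ℤ) - 1) + 2) := by
    have key : ∀ x : G, (2 : ℤ) * (if f x = 0 then 1 else 0) + (if x = 1 then ((n : ℤ) - 1) * ((n : ℤ) - 2) else 0) =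
        2 - 2 * (f x : ℤ) + (f x : ℤ) * ((f x : ℤ) - 1) := by
      intro x
      by_cases hx : x = 1
      · subst hx
        have h1 : f 1 = n := by simp [f, hndef]
        rw [h1, if_neg (by omega), if_pos rfl]
        ring
      · rw [if_neg hx, add_zero]
        have := hle x hx
        interval_cases (f x) <;> norm_num
    have hsum := Finset.sum_congr rfl fun x (_ : x ∈ (Finset.univ : Finset G)) => key x
    have hone' : ∑ x : G, (f x : ℤ) = (n : ℤ) * (((n : ℤ) - 1) * e) := by
      rw [← Nat.cast_sum, hone]; push_cast [Nat.cast_sub (show 1 ≤ n by omega)]; ring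
    have htwo' : ∑ x : G, (f x : ℤ) * ((f x : ℤ) - 1) = (n : ℤ) * (((n : ℤ) - 1) * e) := by
      rw [show (n : ℤ) * (((n : ℤ) - 1) * e) = ((n * ((n - 1) * e) : ℕ) : ℤ) by
        push_cast [Nat.cast_sub (show 1 ≤ n by omega)]; ring, ← htwo, Nat.cast_sum]
      refine Finset.sum_congr rfl fun x _ => ?_
      rcases Nat.eq_zero_or_pos (f x) with h | h
      · rw [h]; simp
      · push_cast [Nat.cast_sub h]; ring
    have hcard : (Fintype.card G : ℤ) = (n : ℤ) * (((n : ℤ) - 1) * e) := by
      rw [← Nat.card_eq_fintype_card, hG']; push_cast [Nat.cast_sub (show 1 ≤ n by omega)]; ring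
    simp only [Finset.sum_add_distrib, Finset.sum_sub_distrib, ← Finset.mul_sum, Finset.sum_ite_eq',
      Finset.mem_univ, if_true, Finset.sum_const, Finset.card_univ, nsmul_eq_mul, hone', htwo', hcard,
      Finset.sum_boole] at hsum
    linear_combination hsum
  have he3 : 3 ≤ e := by
    obtain ⟨z, hz, hz1⟩ := Cfsg.Agent.Char.Zass.two_ne_bot hZ hab
    obtain ⟨m, hm⟩ := hodd
    have : 1 < e := by
      rw [he]
      haveI : Nontrivial (Cfsg.Agent.Char.Zass.two G a b) :=
        ⟨⟨⟨z, hz⟩, 1, fun h => hz1 (congrArg Subtype.val h)⟩⟩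
      exact Finite.one_lt_card
    omega
  have hn' : (3 : ℤ) ≤ n := by exact_mod_cast hn
  have he' : (3 : ℤ) ≤ e := by exact_mod_cast he3
  have hFne : F.Nonempty := by
    rw [← Finset.card_pos]
    have : 0 < ((n : ℤ) - 1) * ((n : ℤ) * ((e : ℤ) - 1) + 2) := by
      apply mul_pos <;> nlinarith
    omega
  obtain ⟨g, hg⟩ := hFne
  have hfix0 : ∀ x : G, f x = 0 ↔ ∀ c : Ω, x • c ≠ c := fun x => by
    simp [f, Finset.filter_eq_empty_iff]
  by_contra hcon
  push Not at hcon
  have hg0 := (hfix0 g).mp (Finset.mem_filter.mp hg).2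
  have hFeq : F = Finset.univ.filter fun x : G => IsConj g x := by
    refine Finset.filter_congr fun x _ => ⟨fun hx => hcon g x hg0 ((hfix0 x).mp hx), fun hx => (hfix0 x).mpr ?_⟩
    obtain ⟨k, rfl⟩ := isConj_iff.mp hx
    intro c hc
    rw [mul_smul, mul_smul, smul_eq_iff_eq_inv_smul] at hc
    exact hg0 _ hc
  have hclass := Cfsg.Agent.Char.card_isConj_mul_card_centralizer g
  have hFc : Nat.card {x : G // IsConj g x} = F.card := by
    rw [hFeq, Nat.card_eq_fintype_card, Fintype.card_subtype]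
  rw [hFc, hG'] at hclass
  have hg1 : g ≠ 1 := fun h => hg0 a (by rw [h, one_smul])
  have hc2 : 2 ≤ Nat.card (Subgroup.centralizer ({g} : Set G)) := by
    haveI : Nontrivial (Subgroup.centralizer ({g} : Set G)) :=
      ⟨⟨⟨g, Subgroup.mem_centralizer_singleton_iff.mpr rfl⟩, 1, fun h => hg1 (congrArg Subtype.val h)⟩⟩
    exact Finite.one_lt_card
  set c := Nat.card (Subgroup.centralizer ({g} : Set G))
  have hclass' : (F.card : ℤ) * c = (n : ℤ) * (((n : ℤ) - 1) * e) := by
    rw [← Nat.cast_mul, hclass]; push_cast [Nat.cast_sub (show 1 ≤ n by omega)]; ring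
  have hkey : (c : ℤ) * ((n : ℤ) * ((e : ℤ) - 1) + 2) = 2 * n * e := by
    refine mul_left_cancel₀ (show ((n : ℤ) - 1) ≠ 0 by omega) ?_
    linear_combination 2 * hclass' - (c : ℤ) * hF
  rcases Nat.lt_or_ge c 3 with h | h
  · have : c = 2 := by omega
    rw [this] at hkey
    push_cast at hkey
    nlinarith
  · have : (3 : ℤ) ≤ c := by exact_mod_cast h
    nlinarith [mul_le_mul_of_nonneg_right this (show (0 : ℤ) ≤ (n : ℤ) * ((e : ℤ) - 1) + 2 by nlinarith),
      mul_le_mul_of_nonneg_left he' (show (0 : ℤ) ≤ n by omega)]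

end Cfsg.Agent.S0880
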