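import Cfsg.Statements.S0882
import Cfsg.Agent.Lib.Char.Zassenhaus

set_option autoImplicit false
open Cfsg

namespace Cfsg.Agent.S0882

/-- Let G be a finite simple Zassenhaus group on Ω with n = h + 1 points whose two-point stabilizer E has odd order e with 2e < h - 1. Then any two involutions of G are conjugate, and the number of involutions is e * (h + 1) if h is even and e * h if h is odd. -/
theorem result {G Ω : Type*} [Group G] [Finite G] [MulAction G Ω] [Fintype Ω] (hZ : Cfsg.IsZassenhausGroup G Ω) {a b : Ω} (hab : a ≠ b) [IsSimpleGroup G] (h e : ℕ) (hh : Fintype.card Ω = h + 1) (he : Nat.card ↥(MulAction.stabilizer G a ⊓ MulAction.stabilizer G b : Subgroup G) = e) (hodd : Odd e) (hlt : 2 * e < h - 1) : (∀ x y : G, orderOf x = 2 → orderOf y = 2 → IsConj x y) ∧ Nat.card {x : G // orderOf x = 2} = (if Even h then e * (h + 1) else e * h) := by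
  classical
  haveI := Fintype.ofFinite G
  have hn : 3 ≤ Fintype.card Ω := by omega
  have hodd' : Odd (Nat.card (Cfsg.Agent.Char.Zass.two G a b)) := by rw [he]; exact hodd
  have hswap : ∀ s : G, s • a = b → s • b = a → orderOf s = 2 := fun s h1 h2 =>
    orderOf_eq_prime_iff.mpr ⟨by rw [pow_two]; exact (Cfsg.Agent.Char.Zass.swap_inverts hZ hab hn hodd' h1 h2).2,
      fun h => hab (by rw [h, one_smul] at h1; exact h1)⟩
  obtain ⟨s, hsa, hsb⟩ := Cfsg.Agent.Char.Zass.exists_swap hZ hab
  -- every involution is conjugate to the chosen one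
  have hconj : ∀ x : G, orderOf x = 2 → IsConj x s := by
    intro x hx
    obtain ⟨hxx, hx1⟩ := orderOf_eq_prime_iff.mp hx
    obtain ⟨c, hc⟩ : ∃ c : Ω, x • c ≠ c := by
      by_contra hh
      push Not at hh
      exact hx1 (hZ.1.eq_of_smul_eq_smul fun c => by rw [hh c, one_smul])
    obtain ⟨g, hga, hgb⟩ := Cfsg.Agent.Char.Zass.exists_move hZ hab (Ne.symm hc)
    set t := g⁻¹ * x * g with ht
    have hta : t • a = b := by
      rw [ht, mul_smul, mul_smul, hga, inv_smul_eq_iff, hgb]
    have htb : t • b = a := by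
      rw [ht, mul_smul, mul_smul, hgb, ← mul_smul x x c, ← pow_two, hxx, one_smul, inv_smul_eq_iff, hga]
    refine (show IsConj x t from isConj_iff.mpr ⟨g⁻¹, by rw [ht, inv_inv]⟩).trans ?_
    obtain ⟨hsinv, hss⟩ := Cfsg.Agent.Char.Zass.swap_inverts hZ hab hn hodd' hsa hsb
    have hz : s * t ∈ Cfsg.Agent.Char.Zass.two G a b :=
      Cfsg.Agent.Char.Zass.mem_two.mpr ⟨by rw [mul_smul, hta, hsb], by rw [mul_smul, htb, hsa]⟩
    obtain ⟨m, hm⟩ := hodd'
    set z := s * t with hzdef
    have hzc : z ^ (2 * m + 1) = 1 := by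
      have := congrArg Subtype.val (pow_card_eq_one' (x := (⟨z, hz⟩ : Cfsg.Agent.Char.Zass.two G a b)))
      rw [SubmonoidClass.coe_pow, hm] at this
      exact this
    refine isConj_iff.mpr ⟨z ^ (m + 1), ?_⟩
    have hinv := hsinv _ (Subgroup.pow_mem _ hz (m + 1))
    have hts : t = s * z := by rw [hzdef, ← mul_assoc, hss, one_mul]
    have hsi : s⁻¹ = s := inv_eq_of_mul_eq_one_right hss
    have h2' : z ^ (m + 1) * z ^ (m + 1) = z := by
      rw [← pow_add, show m + 1 + (m + 1) = 2 * m + 1 + 1 by ring, pow_succ, hzc, one_mul]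
    calc z ^ (m + 1) * t * (z ^ (m + 1))⁻¹
        = s * (s⁻¹ * z ^ (m + 1) * s) * z * (z ^ (m + 1))⁻¹ := by rw [hts]; group
      _ = s * ((z ^ (m + 1))⁻¹ * z * (z ^ (m + 1))⁻¹) := by rw [hinv]; group
      _ = s := by
          nth_rw 2 [← h2']
          group
  refine ⟨fun x y hx hy => (hconj x hx).trans (hconj y hy).symm, ?_⟩
  -- counting the exchanged pairs
  let I : Finset G := Finset.univ.filter fun x => orderOf x = 2
  let f : G → ℕ := fun x => (Finset.univ.filter fun c : Ω => x • c = c).card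
  have hfc : ∀ x ∈ I, f x = f s := by
    intro x hx
    obtain ⟨g, hg⟩ := isConj_iff.mp (hconj x (Finset.mem_filter.mp hx).2)
    refine Finset.card_equiv (MulAction.toPerm g) fun c => ?_
    simp only [Finset.mem_filter, Finset.mem_univ, true_and, MulAction.toPerm_apply]
    rw [← hg, smul_smul, inv_mul_cancel_right, mul_smul, smul_left_cancel_iff]
  have hfs : f s ≤ 1 := by
    by_contra hh
    obtain ⟨c, hc, d, hd, hcd⟩ := Finset.one_lt_card.mp (Nat.lt_of_not_le hh)
    obtain ⟨g, hga, hgb⟩ := Cfsg.Agent.Char.Zass.exists_move hZ hab hcd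
    simp only [Finset.mem_filter, Finset.mem_univ, true_and] at hc hd
    have hmem : g⁻¹ * s * g ∈ Cfsg.Agent.Char.Zass.two G a b := Cfsg.Agent.Char.Zass.mem_two.mpr
      ⟨by rw [mul_smul, mul_smul, hga, hc, inv_smul_eq_iff, hga],
        by rw [mul_smul, mul_smul, hgb, hd, inv_smul_eq_iff, hgb]⟩
    have h2 : orderOf (g⁻¹ * s * g) = 2 := by
      have := orderOf_injective (MulAut.conj g⁻¹).toMonoidHom (MulAut.conj g⁻¹).injective s
      simpa [hswap s hsa hsb] using this
    have h3 : 2 ∣ e := by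
      rw [← he, ← h2, show orderOf (g⁻¹ * s * g) =
        orderOf (⟨g⁻¹ * s * g, hmem⟩ : Cfsg.Agent.Char.Zass.two G a b) from Subgroup.orderOf_coe ⟨_, hmem⟩]
      exact orderOf_dvd_natCard _
    exact (Nat.not_even_iff_odd.mpr hodd) (even_iff_two_dvd.mpr h3)
  have hpar : Fintype.card Ω % 2 = f s % 2 := by
    haveI : Fact (Nat.Prime 2) := ⟨Nat.prime_two⟩
    have hP : IsPGroup 2 (Subgroup.zpowers s) := IsPGroup.of_card
      (show Nat.card (Subgroup.zpowers s) = 2 ^ 1 by rw [Nat.card_zpowers, hswap s hsa hsb, pow_one])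
    have hfix : Nat.card (MulAction.fixedPoints (Subgroup.zpowers s) Ω) = f s := by
      refine Eq.trans ?_ (Nat.card_eq_finsetCard _)
      refine Nat.card_congr (Equiv.subtypeEquivRight fun c => ?_)
      rw [Finset.mem_filter, MulAction.mem_fixedPoints]
      refine ⟨fun hc => ⟨Finset.mem_univ _, hc ⟨s, Subgroup.mem_zpowers s⟩⟩, fun hc u => ?_⟩
      obtain ⟨k, hk⟩ := Subgroup.mem_zpowers_iff.mp u.2
      show (u : G) • c = c
      rw [← hk]
      exact MulAction.mem_stabilizer_iff.mp
        ((MulAction.stabilizer G c).zpow_mem (MulAction.mem_stabilizer_iff.mpr hc.2) k)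
    have := hP.card_modEq_card_fixedPoints Ω
    rw [Nat.card_eq_fintype_card, hfix] at this
    exact this
  have hpair : ∀ c d : Ω, c ≠ d → (I.filter fun x => x • c = d).card = e := by
    intro c d hcd
    obtain ⟨g, hga, hgb⟩ := Cfsg.Agent.Char.Zass.exists_move hZ hab hcd
    have hk : ∀ k : G, k ∈ Cfsg.Agent.Char.Zass.two G a b → (s * k) • a = b ∧ (s * k) • b = a := fun k hk =>
      ⟨by rw [mul_smul, (Cfsg.Agent.Char.Zass.mem_two.mp hk).1, hsa],
        by rw [mul_smul, (Cfsg.Agent.Char.Zass.mem_two.mp hk).2, hsb]⟩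
    rw [← he, Nat.card_eq_fintype_card, ← Finset.card_univ]
    refine (Finset.card_bij (fun (k : Cfsg.Agent.Char.Zass.two G a b) _ => g * (s * k) * g⁻¹) (fun k _ => ?_)
      (fun k _ k' _ hkk => Subtype.ext (mul_left_cancel (mul_left_cancel (mul_right_cancel hkk))))
      (fun x hx => ?_)).symm
    · simp only [I, Finset.mem_filter, Finset.mem_univ, true_and]
      refine ⟨?_, ?_⟩
      · have := orderOf_injective (MulAut.conj g).toMonoidHom (MulAut.conj g).injective (s * k)
        simpa [hswap _ (hk k k.2).1 (hk k k.2).2] using this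
      · rw [mul_smul, mul_smul, ← hga, inv_smul_smul, (hk k k.2).1, hgb]
    · simp only [I, Finset.mem_filter, Finset.mem_univ, true_and] at hx
      obtain ⟨hxo, hxc⟩ := hx
      have hxx : x • d = c := by
        rw [← hxc, smul_smul, ← pow_two, (orderOf_eq_prime_iff.mp hxo).1, one_smul]
      refine ⟨⟨s⁻¹ * (g⁻¹ * x * g), Cfsg.Agent.Char.Zass.mem_two.mpr ⟨?_, ?_⟩⟩, Finset.mem_univ _, by group⟩
      · rw [mul_smul, mul_smul, mul_smul, hga, hxc, inv_smul_eq_iff, hsa, inv_smul_eq_iff, hgb]
      · rw [mul_smul, mul_smul, mul_smul, hgb, hxx, inv_smul_eq_iff, hsb, inv_smul_eq_iff, hga]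
  have hdouble : I.card * (Fintype.card Ω - f s) = (h + 1) * h * e := by
    calc I.card * (Fintype.card Ω - f s)
        = ∑ x ∈ I, (Finset.univ.filter fun c : Ω => x • c ≠ c).card := by
          rw [← smul_eq_mul, ← Finset.sum_const]
          refine Finset.sum_congr rfl fun x hx => ?_
          rw [← hfc x hx, ← Finset.card_univ, Finset.filter_not,
            Finset.card_sdiff_of_subset (Finset.filter_subset _ _)]
      _ = ∑ x ∈ I, ∑ c : Ω, ∑ d ∈ Finset.univ.erase c, (if x • c = d then 1 else 0) := by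
          refine Finset.sum_congr rfl fun x _ => ?_
          rw [Finset.card_filter]
          refine Finset.sum_congr rfl fun c _ => ?_
          rw [Finset.sum_ite_eq]
          simp
      _ = ∑ c : Ω, ∑ d ∈ Finset.univ.erase c, (I.filter fun x => x • c = d).card := by
          rw [Finset.sum_comm]
          refine Finset.sum_congr rfl fun c _ => ?_
          rw [Finset.sum_comm]
          exact Finset.sum_congr rfl fun d _ => (Finset.card_filter _ _).symm
      _ = _ := by
          rw [Finset.sum_congr rfl fun c _ => Finset.sum_congr rfl fun d hd =>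
            hpair c d (Finset.ne_of_mem_erase hd).symm]
          simp [Finset.card_erase_of_mem, hh, mul_assoc]
  have hI : Nat.card {x : G // orderOf x = 2} = I.card := by
    rw [Nat.card_eq_fintype_card, Fintype.card_subtype]
  rw [hI]
  rw [hh] at hdouble hpar
  rcases Nat.le_one_iff_eq_zero_or_eq_one.mp hfs with hf | hf <;> rw [hf] at hdouble hpar
  · rw [if_neg (by rw [Nat.even_iff]; omega)]
    refine Nat.eq_of_mul_eq_mul_left (show 0 < h + 1 by omega) ?_
    rw [Nat.sub_zero, mul_comm] at hdouble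
    rw [hdouble]; ring
  · rw [if_pos (by rw [Nat.even_iff]; omega)]
    refine Nat.eq_of_mul_eq_mul_left (show 0 < h by omega) ?_
    rw [Nat.add_sub_cancel, mul_comm] at hdouble
    rw [hdouble]; ring

end Cfsg.Agent.S0882
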