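import Cfsg.Statements.S0883
import Cfsg.Agent.Lib.Char.ZassenhausChar
import Cfsg.Agent.S0882
import Cfsg.Agent.Lib.Solv.Misc

set_option autoImplicit false
open Cfsg

namespace Cfsg.Agent.S0883

/-- Let G be a finite simple Zassenhaus group on Ω with h + 1 points whose two-point stabilizer E has odd order e with 2e < h - 1, and let H be the subgroup of the stabilizer of a consisting of the identity and the elements fixing no point other than a (given here as a subgroup of the stabilizer of order one less than the number of points whose non-identity elements fix only a; it is the Frobenius kernel of the stabilizer). If a non-identity element u of H is a product of two involutions of G, then u is an involution. -/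
theorem result {G Ω : Type*} [Group G] [Finite G] [MulAction G Ω] [Fintype Ω] (hZ : Cfsg.IsZassenhausGroup G Ω) {a b : Ω} (hab : a ≠ b) [IsSimpleGroup G] (h e : ℕ) (hh : Fintype.card Ω = h + 1) (he : Nat.card ↥(MulAction.stabilizer G a ⊓ MulAction.stabilizer G b : Subgroup G) = e) (hodd : Odd e) (hlt : 2 * e < h - 1) (H : Subgroup G) (hHa : H ≤ MulAction.stabilizer G a) (hHcard : Nat.card H + 1 = Fintype.card Ω) (hHfix : ∀ u ∈ H, u ≠ 1 → ∀ c : Ω, u • c = c → c = a) (u : G) (hu : u ∈ H) (hu1 : u ≠ 1) (x y : G) (hx : orderOf x = 2) (hy : orderOf y = 2) (hxy : x * y = u) : orderOf u = 2 := by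
  classical
  have hn : 3 ≤ Fintype.card Ω := by omega
  let S := MulAction.stabilizer G a
  obtain ⟨hxx, hx1⟩ := orderOf_eq_prime_iff.mp hx
  obtain ⟨hyy, hy1⟩ := orderOf_eq_prime_iff.mp hy
  -- involutions of the one point stabilizer lie in the kernel
  have hinvH : ∀ w : G, orderOf w = 2 → w • a = a → w ∈ H := by
    intro w hw hwa
    refine Cfsg.Agent.Char.Zass.mem_kernel_of_fix hZ hab H hHa hHcard hHfix hn
      (MulAction.mem_stabilizer_iff.mpr hwa) fun c hc => ?_
    by_contra hca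
    obtain ⟨g, hga, hgb⟩ := Cfsg.Agent.Char.Zass.exists_move hZ hab (Ne.symm hca)
    have hmem : g⁻¹ * w * g ∈ Cfsg.Agent.Char.Zass.two G a b := Cfsg.Agent.Char.Zass.mem_two.mpr
      ⟨by rw [mul_smul, mul_smul, hga, hwa, inv_smul_eq_iff, hga],
        by rw [mul_smul, mul_smul, hgb, hc, inv_smul_eq_iff, hgb]⟩
    have h2 : orderOf (g⁻¹ * w * g) = 2 := by
      have := orderOf_injective (MulAut.conj g⁻¹).toMonoidHom (MulAut.conj g⁻¹).injective w
      simpa [hw] using this
    have h3 : 2 ∣ e := by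
      rw [← he, ← h2, show orderOf (g⁻¹ * w * g) =
        orderOf (⟨g⁻¹ * w * g, hmem⟩ : Cfsg.Agent.Char.Zass.two G a b) from Subgroup.orderOf_coe ⟨_, hmem⟩]
      exact orderOf_dvd_natCard _
    exact (Nat.not_even_iff_odd.mpr hodd) (even_iff_two_dvd.mpr h3)
  have hxa : x • a = a := by
    refine hHfix u hu hu1 _ ?_
    have h2 : u⁻¹ • (x • a) = x • a := by
      have e1 : u⁻¹ * x = x * u := by
        rw [← hxy, mul_inv_rev, ← mul_assoc, ← pow_two, hxx, one_mul, inv_mul_cancel_right]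
        exact inv_eq_of_mul_eq_one_right (by rw [← pow_two, hyy])
      rw [smul_smul, e1, mul_smul, MulAction.mem_stabilizer_iff.mp (hHa hu)]
    exact (inv_smul_eq_iff.mp h2).symm
  have hxH : x ∈ H := hinvH x hx hxa
  have hyH : y ∈ H := by
    have := H.mul_mem (H.inv_mem hxH) hu
    rwa [← hxy, inv_mul_cancel_left] at this
  -- the kernel is nilpotent
  let K : Subgroup S := H.subgroupOf S
  haveI hKn : K.Normal := ⟨fun k hk g => Subgroup.mem_subgroupOf.mpr
    (Cfsg.Agent.Char.Zass.conj_mem_kernel hZ hab H hHa hHcard hHfix hn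
      (MulAction.mem_stabilizer_iff.mp g.2) (Subgroup.mem_subgroupOf.mp hk))⟩
  have hC : ∀ k ∈ K, k ≠ 1 → Subgroup.centralizer ({k} : Set S) ≤ K := by
    intro k hk hk1 c hc
    by_cases hc1 : (c : G) = 1
    · rw [show c = 1 from Subtype.ext hc1]
      exact K.one_mem
    refine Subgroup.mem_subgroupOf.mpr (Cfsg.Agent.Char.Zass.mem_kernel_of_fix hZ hab H hHa hHcard hHfix hn c.2
      fun d hd => ?_)
    by_contra hda
    have hk1' : (k : G) ≠ 1 := fun h => hk1 (Subtype.ext h)
    have hcomm : (c : G) * k = k * c := congrArg Subtype.val (Subgroup.mem_centralizer_singleton_iff.mp hc)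
    have hkd : (c : G) • ((k : G) • d) = (k : G) • d := by rw [smul_smul, hcomm, mul_smul, hd]
    have hka := MulAction.mem_stabilizer_iff.mp k.2
    have h3 := hZ.2.2.1 c a d ((k : G) • d) (Ne.symm hda)
      (fun h => hda (hHfix _ hk hk1' d h.symm))
      (fun h => hda (MulAction.injective (k : G) (hka.trans h)).symm)
      (MulAction.mem_stabilizer_iff.mp c.2) hd hkd
    exact hc1 h3
  have hne : K ≠ ⊤ := by
    intro h
    obtain ⟨z, hz, hz1⟩ := Cfsg.Agent.Char.Zass.two_ne_bot hZ hab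
    have : (⟨z, hz.1⟩ : S) ∈ K := h ▸ Subgroup.mem_top _
    exact hab.symm (hHfix z (Subgroup.mem_subgroupOf.mp this) hz1 b (Cfsg.Agent.Char.Zass.mem_two.mp hz).2)
  haveI := Cfsg.Agent.Char.FK.isNilpotent K hC hne
  haveI : Group.IsNilpotent H := Group.nilpotent_of_mulEquiv (Subgroup.subgroupOfEquivOfLe hHa)
  -- a central involution
  haveI : Fact (Nat.Prime 2) := ⟨Nat.prime_two⟩
  obtain ⟨P⟩ : Nonempty (Sylow 2 H) := inferInstance
  have hPne : (P : Subgroup H) ≠ ⊥ := by
    refine Sylow.ne_bot_of_dvd_card P ?_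
    rw [← hx, show orderOf x = orderOf (⟨x, hxH⟩ : H) from Subgroup.orderOf_coe ⟨x, hxH⟩]
    exact orderOf_dvd_natCard _
  obtain ⟨w, ⟨hwP, hwZ⟩, hw1⟩ : ∃ w, w ∈ (P : Subgroup H) ⊓ Subgroup.center H ∧ w ≠ 1 := by
    by_contra hh
    push Not at hh
    exact Cfsg.Agent.Solv.inf_center_ne_bot (P : Subgroup H) hPne ((Subgroup.eq_bot_iff_forall _).mpr hh)
  obtain ⟨i, hi⟩ := IsPGroup.iff_orderOf.mp P.isPGroup' ⟨w, hwP⟩
  rw [← Subgroup.orderOf_coe] at hi
  have hi0 : i ≠ 0 := fun h => hw1 (orderOf_eq_one_iff.mp (by rw [hi, h, pow_zero]))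
  let z : H := w ^ 2 ^ (i - 1)
  have hzo : orderOf (z : G) = 2 := by
    rw [Subgroup.orderOf_coe, orderOf_pow_of_dvd (by positivity) (by rw [hi]; exact pow_dvd_pow 2 (by omega)), hi,
      Nat.pow_div (by omega) (by norm_num), show i - (i - 1) = 1 by omega, pow_one]
  have hzc : ∀ v ∈ H, (z : G) * v = v * z := fun v hv => congrArg Subtype.val
    ((Subgroup.mem_center_iff.mp ((Subgroup.center H).pow_mem hwZ (2 ^ (i - 1))) ⟨v, hv⟩).symm)
  obtain ⟨g, hg⟩ := isConj_iff.mp ((Cfsg.Agent.S0882.result hZ hab h e hh he hodd hlt).1 _ x hzo hx)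
  have hga : g • a = a := by
    refine hHfix x hxH hx1 _ ?_
    rw [← hg, smul_smul, inv_mul_cancel_right, mul_smul, MulAction.mem_stabilizer_iff.mp (hHa z.2)]
  have hy' : g⁻¹ * y * g ∈ H := by
    have := Cfsg.Agent.Char.Zass.conj_mem_kernel hZ hab H hHa hHcard hHfix hn
      (show g⁻¹ • a = a from inv_smul_eq_iff.mpr hga.symm) hyH
    rwa [inv_inv] at this
  have hcomm : x * y = y * x := by
    rw [← hg]
    calc g * z * g⁻¹ * y = g * ((z : G) * (g⁻¹ * y * g)) * g⁻¹ := by group
      _ = g * ((g⁻¹ * y * g) * z) * g⁻¹ := by rw [hzc _ hy']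
      _ = _ := by group
  refine orderOf_eq_prime_iff.mpr ⟨?_, hu1⟩
  rw [← hxy, (show Commute x y from hcomm).mul_pow, hxx, hyy, one_mul]

end Cfsg.Agent.S0883
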