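import Cfsg.Statements.S0893
import Cfsg.Agent.Lib.Char.Extraspecial
import Cfsg.Agent.Lib.Char.Induction

set_option autoImplicit false
open Cfsg

namespace Cfsg.Agent.S0893

open Cfsg Cfsg.Agent.Char
open scoped ComplexConjugate

/-- Let P be an extraspecial p-group of order p ^ (2 * n + 1), A an abelian subgroup of order p ^ (n + 1), and λ a character of A of degree 1 that is not identically 1 on the elements of A lying in the centre of P. Then the function induced from λ to P is an irreducible character of P and vanishes at every element outside the centre. -/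
theorem result {P : Type*} [Group P] [Fintype P] (p n : ℕ) [Fact p.Prime] (hP : Cfsg.IsExtraspecial p P) (hcard : Nat.card P = p ^ (2 * n + 1)) (A : Subgroup P) (hab : ∀ a ∈ A, ∀ b ∈ A, a * b = b * a) (hA : Nat.card A = p ^ (n + 1)) (lam : A → ℂ) (hlam : Cfsg.IsCharacter A lam ∧ lam 1 = 1) (hZ : ∃ a : A, (a : P) ∈ Subgroup.center P ∧ lam a ≠ 1) : Cfsg.IsIrrCharacter P (Cfsg.indFun A lam) ∧ ∀ x : P, x ∉ Subgroup.center P → Cfsg.indFun A lam x = 0 := by
  classical
  obtain ⟨⟨-, -, hcomm⟩, hc⟩ := hP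
  have hp : p.Prime := Fact.out
  obtain ⟨l, rfl⟩ := IsCharacter.exists_monoidHom hlam.1 hlam.2
  obtain ⟨a₀, ha₀, hl₀⟩ := hZ
  have hlone : (l 1 : ℂ) = 1 := by simp
  have ha1 : (a₀ : P) ≠ 1 := fun h => hl₀ (by
    rw [show a₀ = 1 from Subtype.ext h]; exact hlone)
  have hZA : Subgroup.center P ≤ A := mem_of_prime_card hp hc ha₀ ha1 a₀.2
  have hmem : ∀ a b : P, a * b * a⁻¹ * b⁻¹ ∈ Subgroup.center P := fun a b => by
    rw [← hcomm]
    exact Subgroup.commutator_mem_commutator (Subgroup.mem_top a) (Subgroup.mem_top b)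
  have hlz : ∀ z : A, (z : P) ∈ Subgroup.center P → z ≠ 1 → (l z : ℂ) ≠ 1 := by
    intro z hz hz1 hlz
    let K : Subgroup P := l.ker.map A.subtype
    have hzK : (z : P) ∈ K := ⟨z, MonoidHom.mem_ker.mpr (Units.val_eq_one.mp hlz), rfl⟩
    obtain ⟨w, hw, hwe⟩ :=
      mem_of_prime_card hp hc hz (fun h => hz1 (Subtype.ext h)) hzK ha₀
    have : w = a₀ := Subtype.ext hwe
    exact hl₀ (by rw [← this]; show (l w : ℂ) = 1; rw [show l w = 1 from hw]; rfl)
  have hvan : ∀ x : P, x ∉ Subgroup.center P → indFun A (fun a => (l a : ℂ)) x = 0 := by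
    intro x hx
    obtain ⟨y, hy⟩ : ∃ y, y * x ≠ x * y := by
      by_contra hh
      push Not at hh
      exact hx (Subgroup.mem_center_iff.mpr hh)
    set c := y * x * y⁻¹ * x⁻¹ with hcdef
    have hc1 : c ≠ 1 := fun h => hy (by
      calc y * x = c * (x * y) := by rw [hcdef]; group
        _ = x * y := by rw [h, one_mul])
    have hcA : c ∈ A := hZA (hmem y x)
    have hcomm2 : ∀ u : P, u⁻¹ * c * u = c := fun u => by
      rw [mul_assoc, ← Subgroup.mem_center_iff.mp (hmem y x) u, inv_mul_cancel_left]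
    have key : indFun A (fun a => (l a : ℂ)) (c * x) =
        (l ⟨c, hcA⟩ : ℂ) * indFun A (fun a => (l a : ℂ)) x := by
      rw [indFun_apply, indFun_apply, mul_left_comm, Finset.mul_sum (a := (l ⟨c, hcA⟩ : ℂ))]
      congr 1
      refine Finset.sum_congr rfl fun u _ => ?_
      have e : u⁻¹ * (c * x) * u = c * (u⁻¹ * x * u) := by
        calc u⁻¹ * (c * x) * u = (u⁻¹ * c * u) * (u⁻¹ * x * u) := by group
          _ = c * (u⁻¹ * x * u) := by rw [hcomm2]
      rw [e]
      by_cases hm : u⁻¹ * x * u ∈ A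
      · rw [extendByZero_of_mem _ _ hm, extendByZero_of_mem _ _ (A.mul_mem hcA hm),
          ← Units.val_mul, ← map_mul]
        rfl
      · rw [extendByZero_of_notMem _ _ hm, extendByZero_of_notMem _ _ fun h =>
          hm ((A.mul_mem_cancel_left hcA).mp h), mul_zero]
    have h2 := isClassFunction_indFun A (fun a => (l a : ℂ)) x y
    rw [show y * x * y⁻¹ = c * x by rw [hcdef]; group, key] at h2
    by_contra h0
    exact hlz ⟨c, hcA⟩ (hmem y x) (fun h => hc1 (congrArg Subtype.val h))
      ((mul_eq_right₀ h0).mp h2)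
  refine ⟨isIrrCharacter_iff.mpr ⟨isCharacter_indFun A hlam.1, ?_⟩, hvan⟩
  have hidx : A.index = p ^ n := by
    have h := A.card_mul_index
    rw [hA, hcard, show 2 * n + 1 = (n + 1) + n by ring, pow_add p (n + 1) n] at h
    exact Nat.eq_of_mul_eq_mul_left (pow_pos hp.pos _) h
  simp only [classInner]
  rw [← Finset.sum_subset (Finset.subset_univ
    (Finset.univ.filter fun g : P => g ∈ Subgroup.center P)) (fun g _ hg => by
      rw [hvan g (by simpa using hg), zero_mul])]
  have he : ∀ g ∈ Finset.univ.filter (fun g : P => g ∈ Subgroup.center P),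
      indFun A (fun a => (l a : ℂ)) g * conj (indFun A (fun a => (l a : ℂ)) g) =
        (p : ℂ) ^ (2 * n) := by
    intro g hg
    have hgz := (Finset.mem_filter.mp hg).2
    have hcg : ∀ u : P, u⁻¹ * g * u = g := fun u => by
      rw [mul_assoc, ← Subgroup.mem_center_iff.mp hgz u, inv_mul_cancel_left]
    rw [indFun_apply, Finset.sum_congr rfl fun u _ => by rw [hcg u]]
    rw [extendByZero_of_mem _ _ (hZA hgz), Finset.sum_const, Finset.card_univ, nsmul_eq_mul,
      ← Nat.card_eq_fintype_card, ← A.card_mul_index, Nat.cast_mul, ← mul_assoc, ← mul_assoc,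
      inv_mul_cancel₀ (Nat.cast_ne_zero.mpr Nat.card_pos.ne'), one_mul, hidx, map_mul,
      Complex.conj_natCast, mul_mul_mul_comm]
    have hn1 : (l ⟨g, hZA hgz⟩ : ℂ) * conj (l ⟨g, hZA hgz⟩ : ℂ) = 1 := by
      have hpow : (l ⟨g, hZA hgz⟩ : ℂ) ^ Nat.card A = 1 := by
        rw [← Units.val_pow_eq_pow_val, ← map_pow, pow_card_eq_one', map_one, Units.val_one]
      rw [Complex.mul_conj, Complex.normSq_eq_norm_sq,
        Complex.norm_eq_one_of_pow_eq_one hpow Nat.card_pos.ne']
      simp
    rw [hn1, mul_one]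
    push_cast
    ring
  rw [Finset.sum_congr rfl he, Finset.sum_const, ← Fintype.card_subtype,
    ← Nat.card_eq_fintype_card, nsmul_eq_mul,
    show Nat.card {g : P // g ∈ Subgroup.center P} = p from hc, hcard]
  push_cast
  have : (p : ℂ) ≠ 0 := Nat.cast_ne_zero.mpr hp.ne_zero
  rw [pow_succ', inv_mul_cancel₀ (mul_ne_zero this (pow_ne_zero _ this))]

end Cfsg.Agent.S0893
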