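import Cfsg.Statements.S0894
import Cfsg.Agent.Lib.Char.Extraspecial

set_option autoImplicit false
open Cfsg

namespace Cfsg.Agent.S0894

open Cfsg Cfsg.Agent.Char

/-- Let P be an extraspecial p-group of order p ^ (2 * n + 1). Then every irreducible character of P has degree 1 or p ^ n, and exactly p - 1 of them have degree p ^ n. -/
theorem result {P : Type*} [Group P] [Finite P] (p n : ℕ) [Fact p.Prime] (hP : Cfsg.IsExtraspecial p P) (hcard : Nat.card P = p ^ (2 * n + 1)) : (∀ χ : Cfsg.IrrCharacter P, (χ : P → ℂ) 1 = 1 ∨ (χ : P → ℂ) 1 = (p : ℂ) ^ n) ∧ Nat.card {χ : Cfsg.IrrCharacter P // (χ : P → ℂ) 1 = (p : ℂ) ^ n} = p - 1 := by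
  classical
  obtain ⟨⟨-, -, hcomm⟩, hc⟩ := hP
  have hp : p.Prime := Fact.out
  haveI := Fintype.ofFinite (IrrCharacter P)
  have hdeg : ∀ χ : IrrCharacter P, (χ : P → ℂ) 1 ≠ 1 → (χ : P → ℂ) 1 = (p : ℂ) ^ n := by
    intro χ h1
    have h := sq_degree_of_prime_derived hp hc hcomm χ.2 h1
    obtain ⟨d, hd⟩ := IsCharacter.exists_degree (IsIrrCharacter.isCharacter χ.2)
    rw [hd, hcard] at h
    have h' : p * d ^ 2 = p * (p ^ n) ^ 2 := by
      have h2 : ((p * d ^ 2 : ℕ) : ℂ) = ((p ^ (2 * n + 1) : ℕ) : ℂ) := by push_cast at h ⊢; exact h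
      have h3 : p * d ^ 2 = p ^ (2 * n + 1) := by exact_mod_cast h2
      rw [h3]; ring
    have h4 : d = p ^ n :=
      Nat.pow_left_injective (by norm_num) (Nat.eq_of_mul_eq_mul_left hp.pos h')
    rw [hd, h4, Nat.cast_pow]
  refine ⟨fun χ => (em _).imp_right (hdeg χ), ?_⟩
  have hidx : (commutator P).index = p ^ (2 * n) := by
    have h := Subgroup.card_mul_index (commutator P)
    rw [hcomm, hc, hcard, pow_succ'] at h
    rw [hcomm]
    exact Nat.eq_of_mul_eq_mul_left hp.pos h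
  have hn : n ≠ 0 := by
    intro h0
    have hbot : commutator P = ⊥ := by
      have hcy : IsCyclic P := isCyclic_of_prime_card (p := p) (by rw [hcard, h0]; simp)
      haveI := hcy.isMulCommutative
      rw [commutator_def, Subgroup.commutator_eq_bot_iff_le_centralizer]
      intro x _
      rw [Subgroup.mem_centralizer_iff]
      exact fun y _ => mul_comm' y x
    rw [hcomm] at hbot
    rw [hbot, Subgroup.card_bot] at hc
    exact hp.ne_one hc.symm
  have hne1 : (p : ℂ) ^ n ≠ 1 := by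
    intro h
    have h2 : p ^ n = 1 := by exact_mod_cast h
    exact hn (by simpa [hp.ne_one] using Nat.pow_eq_one.mp h2)
  have hlin := card_linear (G := P)
  rw [hidx, Nat.card_eq_fintype_card, Fintype.card_subtype] at hlin
  have hsum := sum_sq_degree (G := P)
  have hterm : ∀ χ : IrrCharacter P, (χ : P → ℂ) 1 ^ 2 =
      (if (χ : P → ℂ) 1 = 1 then (1 : ℂ) else 0) +
        ((p : ℂ) ^ n) ^ 2 * (if (χ : P → ℂ) 1 = (p : ℂ) ^ n then (1 : ℂ) else 0) := by
    intro χ
    by_cases h : (χ : P → ℂ) 1 = 1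
    · rw [if_pos h, if_neg (fun h' => hne1 (h'.symm.trans h)), h]; simp
    · rw [if_neg h, hdeg χ h]; simp
  rw [Finset.sum_congr rfl fun χ _ => hterm χ, Finset.sum_add_distrib, ← Finset.mul_sum,
    Finset.sum_boole, Finset.sum_boole, hlin, hcard] at hsum
  rw [Nat.card_eq_fintype_card, Fintype.card_subtype]
  set k := (Finset.univ.filter fun χ : IrrCharacter P => (χ : P → ℂ) 1 = (p : ℂ) ^ n).card
  have h2 : p ^ (2 * n) + p ^ (2 * n) * k = p ^ (2 * n + 1) := by
    have : ((p ^ (2 * n) + (p ^ n) ^ 2 * k : ℕ) : ℂ) = ((p ^ (2 * n + 1) : ℕ) : ℂ) := by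
      push_cast at hsum ⊢
      exact hsum
    rw [pow_mul' p 2 n]
    have h := Nat.cast_injective this
    simpa [pow_mul' p 2 n] using h
  have h3 : p ^ (2 * n) * (1 + k) = p ^ (2 * n) * p := by rw [← pow_succ, ← h2]; ring
  have := Nat.eq_of_mul_eq_mul_left (pow_pos hp.pos _) h3
  omega

end Cfsg.Agent.S0894
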