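import Cfsg.Statements.S0901
import Cfsg.Agent.Lib.Block.LocalRing
import Mathlib.RingTheory.RootsOfUnity.Complex
import Mathlib.RingTheory.RootsOfUnity.Minpoly
import Mathlib.RingTheory.Polynomial.Cyclotomic.Basic
import Mathlib.GroupTheory.FiniteAbelian.Basic

set_option autoImplicit false
open Cfsg

namespace Cfsg.Agent.S0901

open Cfsg.Agent.Block Finset

/-- Let M be a maximal ideal of the ring of algebraic integers containing the prime p, and let U be the set of complex roots of unity of order prime to p. Then reduction modulo M is injective on U, and every algebraic integer not in M is congruent modulo M to an element of U (so U maps bijectively onto the nonzero residues). -/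
theorem result (p : ℕ) [Fact p.Prime] (M : Ideal Cfsg.AlgInt) (hM : Cfsg.IsPModular p M) : (∀ ε₁ ε₂ : Cfsg.AlgInt, (∃ m : ℕ, ¬ p ∣ m ∧ (ε₁ : ℂ) ^ m = 1) → (∃ m : ℕ, ¬ p ∣ m ∧ (ε₂ : ℂ) ^ m = 1) → ε₁ - ε₂ ∈ M → ε₁ = ε₂) ∧ (∀ a : Cfsg.AlgInt, a ∉ M → ∃ ε : Cfsg.AlgInt, (∃ m : ℕ, ¬ p ∣ m ∧ (ε : ℂ) ^ m = 1) ∧ a - ε ∈ M) := by
  obtain ⟨hp, hmax, hpM⟩ := hM
  haveI : M.IsPrime := hmax.isPrime
  constructor
  · rintro ε₁ ε₂ ⟨m₁, hm₁, h₁⟩ ⟨m₂, hm₂, h₂⟩ hd
    have e₁ : ε₁ ^ m₁ = 1 := Subtype.ext (by simpa using h₁)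
    have e₂ : ε₂ ^ m₂ = 1 := Subtype.ext (by simpa using h₂)
    have hm : ¬ p ∣ m₁ * m₂ := fun h => (hp.dvd_mul.1 h).elim hm₁ hm₂
    by_contra hne
    have hgeo : (∑ i ∈ range (m₁ * m₂), ε₁ ^ i * ε₂ ^ (m₁ * m₂ - 1 - i)) * (ε₁ - ε₂) = 0 := by
      rw [geom_sum₂_mul, pow_mul, e₁, mul_comm m₁ m₂, pow_mul, e₂, one_pow, one_pow, sub_self]
    have h0 := (mul_eq_zero.1 hgeo).resolve_right (sub_ne_zero.2 hne)
    -- modulo M every term is `ε₁ ^ (m - 1)`
    have hq : Ideal.Quotient.mk M ε₁ = Ideal.Quotient.mk M ε₂ := Ideal.Quotient.eq.2 hd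
    have h1 : ((m₁ * m₂ : ℕ) : AlgInt ⧸ M) * (Ideal.Quotient.mk M ε₁) ^ (m₁ * m₂ - 1) = 0 := by
      have := congrArg (Ideal.Quotient.mk M) h0
      rw [map_zero, map_sum] at this
      rw [← this]
      calc _ = ∑ _i ∈ range (m₁ * m₂), (Ideal.Quotient.mk M ε₁) ^ (m₁ * m₂ - 1) := by
            rw [sum_const, card_range, nsmul_eq_mul]
        _ = _ := sum_congr rfl fun i hi => by
            have := mem_range.1 hi
            rw [map_mul, map_pow, map_pow, ← hq, ← pow_add]
            congr 1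
            omega
    rcases mul_eq_zero.1 h1 with h | h
    · rw [← map_natCast (Ideal.Quotient.mk M), Ideal.Quotient.eq_zero_iff_mem,
        natCast_mem_iff hp hpM] at h
      exact hm h
    · have := (pow_eq_zero_iff'.1 h).1
      rw [Ideal.Quotient.eq_zero_iff_mem] at this
      have : ε₁ ^ m₁ ∈ M := M.pow_mem_of_mem this m₁ (Nat.pos_of_ne_zero fun h => hm₁ (h ▸ dvd_zero p))
      rw [e₁] at this
      exact one_notMem this
  · intro a ha
    set k := AlgInt ⧸ M
    haveI : CharP k p := by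
      haveI : Fact p.Prime := ⟨hp⟩
      refine (CharP.charP_iff_prime_eq_zero hp).2 ?_
      rw [← map_natCast (Ideal.Quotient.mk M), Ideal.Quotient.eq_zero_iff_mem]; exact hpM
    haveI : Nontrivial k := Ideal.Quotient.nontrivial_iff.2 hmax.ne_top
    set ā : k := Ideal.Quotient.mk M a with hā
    have hai : IsIntegral ℤ ā := (show IsIntegral ℤ a from by
      exact (isIntegral_algHom_iff AlgInt.val Subtype.val_injective).1 a.2).map
        (Ideal.Quotient.mkₐ ℤ M)
    -- the additive group generated by the powers of `ā` is finite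
    have hfg : (Subalgebra.toSubmodule (Algebra.adjoin ℤ {ā})).FG := hai.fg_adjoin_singleton
    haveI : Finite (Algebra.adjoin ℤ {ā}) := by
      haveI : Module.Finite ℤ (Subalgebra.toSubmodule (Algebra.adjoin ℤ {ā})) := Module.Finite.iff_fg.2 hfg
      have htors : Module.IsTorsion ℤ (Subalgebra.toSubmodule (Algebra.adjoin ℤ {ā})) := by
        intro x
        refine ⟨⟨(p : ℤ), mem_nonZeroDivisors_of_ne_zero (by exact_mod_cast hp.ne_zero)⟩, ?_⟩
        apply Subtype.ext
        show (p : ℤ) • (x : k) = 0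
        rw [zsmul_eq_mul, Int.cast_natCast, CharP.cast_eq_zero, zero_mul]
      exact Module.finite_of_fg_torsion _ htors
    obtain ⟨i, j, hij, he⟩ := Finite.exists_ne_map_eq_of_infinite
      (fun n : ℕ => (⟨ā, Algebra.self_mem_adjoin_singleton ℤ ā⟩ : Algebra.adjoin ℤ {ā}) ^ n)
    have he' : ā ^ i = ā ^ j := by simpa using congrArg Subtype.val he
    have hā0 : ā ≠ 0 := fun h => ha (Ideal.Quotient.eq_zero_iff_mem.1 h)
    haveI : IsDomain k := Ideal.Quotient.isDomain M
    obtain ⟨N, hN0, hN⟩ : ∃ N, 0 < N ∧ ā ^ N = 1 := by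
      rcases lt_trichotomy i j with h | h | h
      · exact ⟨j - i, by omega, mul_left_cancel₀ (pow_ne_zero i hā0) (by
          rw [← pow_add, mul_one, Nat.add_sub_cancel' h.le, he'])⟩
      · exact absurd h hij
      · exact ⟨i - j, by omega, mul_left_cancel₀ (pow_ne_zero j hā0) (by
          rw [← pow_add, mul_one, Nat.add_sub_cancel' h.le, he'])⟩
    obtain ⟨e, m, hm, rfl⟩ := Nat.exists_eq_pow_mul_and_not_dvd hN0.ne' p hp.ne_one
    haveI : Fact p.Prime := ⟨hp⟩
    have hm1 : ā ^ m = 1 := by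
      have : (ā ^ m - 1) ^ p ^ e = 0 := by
        rw [sub_pow_char_pow, one_pow, ← pow_mul, mul_comm, hN, sub_self]
      exact sub_eq_zero.1 (pow_eq_zero_iff'.1 this).1
    have hm0 : 0 < m := Nat.pos_of_ne_zero fun h => hm (h ▸ dvd_zero p)
    have hζ := Complex.isPrimitiveRoot_exp m hm0.ne'
    set ζ : ℂ := Complex.exp (2 * Real.pi * Complex.I / m)
    let z : AlgInt := ⟨ζ, hζ.isIntegral hm0⟩
    have hz : IsPrimitiveRoot z m :=
      IsPrimitiveRoot.of_map_of_injective (f := AlgInt.val) (by exact hζ) Subtype.val_injective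
    have hprod := Polynomial.X_pow_sub_one_eq_prod hm0 hz
    have := congrArg (Polynomial.eval ā) (congrArg (Polynomial.map (Ideal.Quotient.mk M)) hprod)
    simp only [Polynomial.map_sub, Polynomial.map_pow, Polynomial.map_X, Polynomial.map_one,
      Polynomial.map_prod, Polynomial.map_C, Polynomial.eval_sub, Polynomial.eval_pow,
      Polynomial.eval_X, Polynomial.eval_one, Polynomial.eval_prod, Polynomial.eval_C, hm1,
      sub_self] at this
    obtain ⟨ε, hε, hεeq⟩ := Finset.prod_eq_zero_iff.1 this.symm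
    rw [Polynomial.mem_nthRootsFinset hm0] at hε
    exact ⟨ε, ⟨m, hm, by simpa using congrArg Subtype.val hε⟩, Ideal.Quotient.eq.1 (sub_eq_zero.1 hεeq)⟩

end Cfsg.Agent.S0901
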