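import Cfsg.Statements.S0902
import Cfsg.Agent.Lib.Block.Height
import Cfsg.Agent.Lib.Char.Integral

set_option autoImplicit false
open Cfsg

namespace Cfsg.Agent.S0902

open Cfsg.Agent.Block Cfsg.Agent.Char

/-- If two irreducible characters of a finite group lie in the same block relative to one maximal ideal M of the algebraic integers containing the prime p, then at every element the difference of their central characters is an algebraic integer lying in every maximal ideal containing p; in particular they lie in the same block relative to any such ideal. -/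
theorem result {G : Type*} [Group G] [Finite G] (p : ℕ) [Fact p.Prime] (M : Ideal Cfsg.AlgInt) (hM : Cfsg.IsPModular p M) (χ ψ : Cfsg.IrrCharacter G) (h : Cfsg.SameBlock M (χ : G → ℂ) (ψ : G → ℂ)) (M' : Ideal Cfsg.AlgInt) (hM' : Cfsg.IsPModular p M') (g : G) : ∃ r : Cfsg.AlgInt, r ∈ M' ∧ (r : ℂ) = Cfsg.centralChar (χ : G → ℂ) g - Cfsg.centralChar (ψ : G → ℂ) g := by
  classical
  haveI := Fintype.ofFinite G
  haveI := prime_of_isPModular hM
  haveI := prime_of_isPModular hM'
  set B := blockOf M (χ : G → ℂ)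
  have hB : IsPBlock M B := isPBlock_blockOf χ
  obtain ⟨χ₀, hχ₀, h0⟩ := exists_height_zero p (isPBlock_nonempty hB)
  have hlink : ∀ φ : IrrCharacter G, φ ∈ B → SameBlock M' (χ₀ : G → ℂ) (φ : G → ℂ) := by
    intro φ hφ
    by_contra hns
    have h1 := sum_regular_eq_zero hM' (χ := χ₀) (ψ := φ) hns
    have h2 : MemLocalIdeal M (regInner p (χ₀ : G → ℂ) (φ : G → ℂ) / (φ : G → ℂ) 1) := by
      rw [regInner, h1, zero_div]; exact memLocalIdeal_zero
    exact (regInner_div_memLocalIdeal_iff hM hB hφ).1 h2 ⟨hχ₀, h0⟩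
  have hs : SameBlock M' (χ : G → ℂ) (ψ : G → ℂ) :=
    sameBlock_trans (sameBlock_symm (hlink χ (self_mem_blockOf χ))) (hlink ψ h)
  have hi : IsIntegral ℤ (centralChar (χ : G → ℂ) g - centralChar (ψ : G → ℂ) g) :=
    (isIntegral_centralChar χ.2 g).sub (isIntegral_centralChar ψ.2 g)
  exact ⟨⟨_, hi⟩, (memLocalIdeal_algInt_iff (M := M') ⟨_, hi⟩).1 (hs g), rfl⟩

end Cfsg.Agent.S0902
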