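import Cfsg.Statements.S0904
import Cfsg.Agent.Lib.Block.PaQbR

set_option autoImplicit false
open Cfsg

namespace Cfsg.Agent.S0904

open Cfsg.Agent.Block Cfsg.Agent.Char

/-- Let G be a finite simple group of order p ^ a * q ^ b * r with p, q, r distinct primes. Then every Sylow r-subgroup S of G satisfies C_G(S) = S. -/
theorem result {G : Type*} [Group G] [Finite G] [IsSimpleGroup G] (p q r a b : ℕ) (hp : p.Prime) (hq : q.Prime) [Fact r.Prime] (hpq : p ≠ q) (hpr : p ≠ r) (hqr : q ≠ r) (hcard : Nat.card G = p ^ a * q ^ b * r) (S : Sylow r G) : Subgroup.centralizer (S : Set G) = (S : Subgroup G) := by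
    classical
    have hr := (Fact.out : r.Prime)
    have hS : Nat.card S = r := by
      rw [S.card_eq_multiplicity, hcard]
      have h1 : (p ^ a * q ^ b * r).factorization r = 1 := by
        have h0 : ¬ r ∣ p ^ a * q ^ b := fun h => by
          rcases hr.dvd_mul.1 h with h | h
          · exact hpr ((Nat.prime_dvd_prime_iff_eq hr hp).1 (hr.dvd_of_dvd_pow h)).symm
          · exact hqr ((Nat.prime_dvd_prime_iff_eq hr hq).1 (hr.dvd_of_dvd_pow h)).symm
        rw [Nat.factorization_mul (fun h => h0 (by rw [h]; exact dvd_zero r)) hr.ne_zero, Finsupp.add_apply,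
          Nat.factorization_eq_zero_of_not_dvd h0, hr.factorization_self]
      rw [h1, pow_one]
    haveI : IsCyclic (S : Subgroup G) := isCyclic_of_prime_card (p := r) hS
    obtain ⟨⟨y, hyS⟩, hy⟩ := IsCyclic.exists_ofOrder_eq_natCard (α := (S : Subgroup G))
    rw [hS, ← Subgroup.orderOf_coe] at hy
    have hle : (S : Subgroup G) ≤ Subgroup.centralizer (S : Set G) := by
      intro x hx
      rw [Subgroup.mem_centralizer_iff]
      intro s hs
      letI := IsCyclic.commGroup (α := (S : Subgroup G))
      exact congrArg Subtype.val (mul_comm (⟨s, hs⟩ : (S : Subgroup G)) ⟨x, hx⟩)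
    refine le_antisymm (fun c hc => ?_) hle
    by_contra hcS
    -- an element of prime order outside the Sylow subgroup in its centralizer
    have hne : Nat.card (Subgroup.centralizer (S : Set G)) ≠ r := fun e =>
      hcS (by rw [Subgroup.eq_of_le_of_card_ge hle (by rw [e, hS])]; exact hc)
    obtain ⟨k, hk⟩ : r ∣ Nat.card (Subgroup.centralizer (S : Set G)) := (dvd_of_eq hS.symm).trans (Subgroup.card_dvd_of_le hle)
    have hk1 : k ≠ 1 := fun e => hne (by rw [hk, e, mul_one])
    obtain ⟨s, hs, hsk⟩ := Nat.exists_prime_and_dvd hk1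
    haveI := Fact.mk hs
    obtain ⟨z, hz⟩ := exists_prime_orderOf_dvd_card' (G := Subgroup.centralizer (S : Set G)) s
      (hk ▸ dvd_mul_of_dvd_right hsk r)
    rw [← Subgroup.orderOf_coe] at hz
    have hzy : Commute (z : G) y := (Subgroup.mem_centralizer_iff.1 z.2 y hyS).symm
    have hdvd : Nat.card (Subgroup.centralizer (S : Set G)) ∣ p ^ a * q ^ b * r :=
      hcard ▸ Subgroup.card_subgroup_dvd_card _
    rw [hk, mul_comm r k] at hdvd
    have h2 : s ∣ p ^ a * q ^ b := hsk.trans (Nat.dvd_of_mul_dvd_mul_right hr.pos hdvd)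
    rcases hs.dvd_mul.1 h2 with h | h
    · obtain rfl := (Nat.prime_dvd_prime_iff_eq hs hp).1 (hs.dvd_of_dvd_pow h)
      exact false_of_commuting hp hq hr hpq hpr hqr hcard hz hy hzy
    · obtain rfl := (Nat.prime_dvd_prime_iff_eq hs hq).1 (hs.dvd_of_dvd_pow h)
      exact false_of_commuting (a := b) (b := a) hq hp hr (Ne.symm hpq) hqr hpr (by rw [hcard]; ring) hz hy hzy

end Cfsg.Agent.S0904
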