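import Cfsg.Statements.S0910
import Cfsg.Agent.Lib.Block.Regular
import Cfsg.Agent.Lib.Char.Integral
import Cfsg.Agent.Lib.Char.Linear

set_option autoImplicit false
open Cfsg

namespace Cfsg.Agent.S0910

open Cfsg.Agent.Block Cfsg.Agent.Char

/-- Let G be a non-abelian finite simple group and p a prime. If an irreducible character χ lies in the principal block (relative to a maximal ideal of the algebraic integers containing p) and χ 1 is a power of p, then χ is the principal character. -/
theorem result {G : Type*} [Group G] [Finite G] (p : ℕ) [Fact p.Prime] (M : Ideal Cfsg.AlgInt) (hM : Cfsg.IsPModular p M) [IsSimpleGroup G] (hna : ∃ a b : G, a * b ≠ b * a) (χ : Cfsg.IrrCharacter G) (hχ : χ ∈ Cfsg.principalBlock M G) (k : ℕ) (hdeg : (χ : G → ℂ) 1 = (p : ℂ) ^ k) : (χ : G → ℂ) = fun _ => 1 := by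
  haveI := prime_of_isPModular hM
  classical
  have hp : p.Prime := Fact.out
  obtain ⟨n, ρ, hρ, hρχ⟩ := χ.2
  haveI := hρ
  rw [← hρχ, ρ.char_one] at hdeg
  have hfr : Module.finrank ℂ (Fin n → ℂ) = p ^ k := by exact_mod_cast hdeg
  rcases (MonoidHom.normal_ker ρ).eq_bot_or_eq_top with hker | hker
  swap
  · have hid : ∀ x, ρ x = 1 := fun x => MonoidHom.mem_ker.mp (hker ▸ Subgroup.mem_top x)
    haveI := Fintype.ofFinite G
    have hc : ρ.character = fun _ => (Module.finrank ℂ (Fin n → ℂ) : ℂ) := by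
      funext x; rw [Representation.character, hid, LinearMap.trace_one]
    have h2 := IsIrrCharacter.classInner_self χ.2
    rw [← hρχ, hc] at h2 ⊢
    simp only [classInner, map_natCast, Finset.sum_const, Finset.card_univ, nsmul_eq_mul, ← Nat.card_eq_fintype_card] at h2
    rw [← mul_assoc, inv_mul_cancel₀ (Nat.cast_ne_zero.mpr Nat.card_pos.ne'), one_mul] at h2
    rw [Nat.eq_one_of_mul_eq_one_right (by exact_mod_cast h2 : Module.finrank ℂ (Fin n → ℂ) * Module.finrank ℂ (Fin n → ℂ) = 1), Nat.cast_one]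
  have hinj : Function.Injective ρ := (MonoidHom.ker_eq_bot_iff ρ).mp hker
  exfalso
  obtain ⟨a, b, hab⟩ := hna
  rcases Nat.eq_zero_or_pos k with rfl | hk
  · have h1 : (χ : G → ℂ) 1 = 1 := by rw [← hρχ, ρ.char_one, hfr, pow_zero, Nat.cast_one]
    obtain ⟨l, hl⟩ := IsCharacter.exists_monoidHom (IsIrrCharacter.isCharacter χ.2) h1
    have hlk : Function.Injective l := fun u v e => by
      have hu : (χ : G → ℂ) (v⁻¹ * u) = (χ : G → ℂ) 1 := by rw [hl]; simp [e]
      rw [← hρχ, ρ.char_one] at hu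
      have := hinj (((character_eq_finrank_iff ρ (v⁻¹ * u)).1 hu).trans (map_one ρ).symm)
      exact (inv_mul_eq_one.1 this).symm
    exact hab (hlk (by rw [map_mul, map_mul, mul_comm]))
  obtain ⟨P⟩ := Sylow.nonempty (p := p) (G := G)
  have hdvd : p ∣ Nat.card G := by
    refine (dvd_pow_self p hk.ne').trans ?_
    rw [← hfr]
    have := charDegree_dvd_card χ.2
    rwa [show charDegree (χ : G → ℂ) = Module.finrank ℂ (Fin n → ℂ) from Nat.cast_injective (R := ℂ) (by rw [charDegree_cast (IsIrrCharacter.isCharacter χ.2), ← hρχ, ρ.char_one])] at this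
  haveI : Nontrivial (P : Subgroup G) := (Subgroup.nontrivial_iff_ne_bot _).2 (P.ne_bot_of_dvd_card hdvd)
  haveI := P.isPGroup'.center_nontrivial
  obtain ⟨z, hz⟩ := exists_ne (1 : Subgroup.center (P : Subgroup G))
  set g : G := ((z : (P : Subgroup G)) : G) with hg
  have hg1 : g ≠ 1 := fun e => hz (Subtype.ext (Subtype.ext e))
  have hidx : ¬ p ∣ (Subgroup.centralizer ({g} : Set G)).index := fun hd => P.not_dvd_index (hd.trans (Subgroup.index_dvd_of_le fun y hy => Subgroup.mem_centralizer_singleton_iff.2 (congrArg Subtype.val (Subgroup.mem_center_iff.1 z.2 ⟨y, hy⟩))))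
  have h0 : (χ : G → ℂ) g = 0 := by
    rcases eq_zero_or_norm_eq_of_coprime ρ g (by rw [hfr]; exact (hp.coprime_iff_not_dvd.2 hidx).pow_left k) with h | h
    · rw [← hρχ]; exact h
    · exfalso
      obtain ⟨ω, hω⟩ := (norm_character_eq_iff ρ g).mp h
      have hcent : g ∈ Subgroup.center G := Subgroup.mem_center_iff.mpr fun x => (comm_of_rep_eq_smul ρ hω hinj x).symm
      rcases Subgroup.Normal.eq_bot_or_eq_top (inferInstance : (Subgroup.center G).Normal) with e | e
      · exact hg1 (by rwa [e, Subgroup.mem_bot] at hcent)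
      · exact hab (Subgroup.mem_center_iff.1 (e ▸ Subgroup.mem_top b) a)
  have h1 : SameBlock M (fun _ : G => (1 : ℂ)) (χ : G → ℂ) := hχ
  have h2 := h1 g
  simp only [centralChar, h0, mul_zero, zero_div, sub_zero, mul_one, div_one] at h2
  exact hidx ((memLocalIdeal_natCast_iff hM.1 hM.2.2 _).1 h2)

end Cfsg.Agent.S0910
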