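import Cfsg.Statements.S0916
import Mathlib.GroupTheory.Nilpotent

set_option autoImplicit false
open Cfsg

namespace Cfsg.Agent.S0916



/-- Let P be a p-subgroup of the finite group G, C its centralizer and N its normalizer. Say that a conjugacy class (of G, or of N) has defect group P when P is a Sylow p-subgroup of the centralizer (in G, respectively in N) of some element of the class. Then: (i) if the class of g in G has defect group P, the elements of that class lying in C form a single N-class, again with defect group P; (ii) every N-class with defect group P arises this way from exactly one G-class with defect group P. -/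
theorem result {G : Type*} [Group G] [Finite G] (p : ℕ) [Fact p.Prime] (P : Subgroup G) (hP : IsPGroup p P) : (∀ g : G, (∃ S : Sylow p (Subgroup.centralizer ({g} : Set G)), (S : Subgroup (Subgroup.centralizer ({g} : Set G))).map (Subgroup.centralizer ({g} : Set G)).subtype = P) → (∃ c : G, IsConj g c ∧ c ∈ Subgroup.centralizer (P : Set G)) ∧ (∀ c₁ c₂ : G, IsConj g c₁ → IsConj g c₂ → c₁ ∈ Subgroup.centralizer (P : Set G) → c₂ ∈ Subgroup.centralizer (P : Set G) → ∃ n ∈ Subgroup.normalizer (P : Set G), n * c₁ * n⁻¹ = c₂)) ∧ (∀ c : G, c ∈ Subgroup.centralizer (P : Set G) → (∃ S : Sylow p (Subgroup.centralizer ({c} : Set G) ⊓ Subgroup.normalizer (P : Set G) : Subgroup G), (S : Subgroup ↥(Subgroup.centralizer ({c} : Set G) ⊓ Subgroup.normalizer (P : Set G))).map (Subgroup.centralizer ({c} : Set G) ⊓ Subgroup.normalizer (P : Set G)).subtype = P) → ∃ S : Sylow p (Subgroup.centralizer ({c} : Set G)), (S : Subgroup (Subgroup.centralizer ({c} : Set G))).map (Subgroup.centralizer ({c} : Set G)).subtype = P) := by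
    classical
    have conj_mem : ∀ {x a : G}, x ∈ Subgroup.centralizer ({a} : Set G) ↔ a * x = x * a := fun {x a} => by
      rw [Subgroup.mem_centralizer_iff]; simp
    refine ⟨fun g ⟨S, hS⟩ => ⟨⟨g, IsConj.refl g, ?_⟩, ?_⟩, ?_⟩
    · rw [Subgroup.mem_centralizer_iff]
      intro x hx
      rw [← hS] at hx
      obtain ⟨y, -, rfl⟩ := hx
      exact (conj_mem.1 y.2).symm
    · intro c₁ c₂ h₁ h₂ hc₁ hc₂
      obtain ⟨a, ha⟩ := isConj_iff.1 h₁
      obtain ⟨b, hb⟩ := isConj_iff.1 h₂
      -- conjugation carries centralisers to centralisers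
      have hcard : ∀ c w : G, w * g * w⁻¹ = c →
          Nat.card (Subgroup.centralizer ({c} : Set G)) = Nat.card (Subgroup.centralizer ({g} : Set G)) := by
        intro c w hw
        subst hw
        refine Nat.card_congr ⟨fun x => ⟨w⁻¹ * x * w, conj_mem.2 ?_⟩, fun x => ⟨w * x * w⁻¹, conj_mem.2 ?_⟩,
          fun x => Subtype.ext (by group), fun x => Subtype.ext (by group)⟩
        · have h := conj_mem.1 x.2
          calc g * (w⁻¹ * x * w) = w⁻¹ * ((w * g * w⁻¹) * x) * w := by group
            _ = w⁻¹ * (x * (w * g * w⁻¹)) * w := by rw [h]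
            _ = _ := by group
        · have h := conj_mem.1 x.2
          calc w * g * w⁻¹ * (w * x * w⁻¹) = w * (g * x) * w⁻¹ := by group
            _ = w * (x * g) * w⁻¹ := by rw [h]
            _ = _ := by group
      have hPc : ∀ c : G, c ∈ Subgroup.centralizer (P : Set G) → P ≤ Subgroup.centralizer ({c} : Set G) :=
        fun c hc x hx => conj_mem.2 ((Subgroup.mem_centralizer_iff.1 hc) x hx).symm
      set x := b * a⁻¹ with hx
      have hxc : x * c₁ * x⁻¹ = c₂ := by rw [← ha, ← hb, hx]; group
      let P' : Subgroup G := P.map (MulAut.conj x).toMonoidHom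
      have hP'le : P' ≤ Subgroup.centralizer ({c₂} : Set G) := by
        rintro _ ⟨q, hq, rfl⟩
        refine conj_mem.2 ?_
        have h := conj_mem.1 (hPc c₁ hc₁ hq)
        simp only [MulEquiv.coe_toMonoidHom, MulAut.conj_apply, ← hxc]
        calc x * c₁ * x⁻¹ * (x * q * x⁻¹) = x * (c₁ * q) * x⁻¹ := by group
          _ = x * (q * c₁) * x⁻¹ := by rw [h]
          _ = _ := by group
      have hcardP : Nat.card P = p ^ (Nat.card (Subgroup.centralizer ({c₂} : Set G))).factorization p := by
        rw [hcard c₂ b hb, ← S.card_eq_multiplicity, ← hS]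
        exact (Nat.card_congr ((S : Subgroup (Subgroup.centralizer ({g} : Set G))).equivMapOfInjective _ (Subgroup.subtype_injective _)).toEquiv).symm
      have hcardP' : Nat.card P' = Nat.card P :=
        (Nat.card_congr (P.equivMapOfInjective _ (MulAut.conj x).injective).toEquiv).symm
      let T₁ : Sylow p (Subgroup.centralizer ({c₂} : Set G)) :=
        Sylow.ofCard (P.subgroupOf _) (by rw [Nat.card_congr (Subgroup.subgroupOfEquivOfLe (hPc c₂ hc₂)).toEquiv, hcardP])
      let T₂ : Sylow p (Subgroup.centralizer ({c₂} : Set G)) :=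
        Sylow.ofCard (P'.subgroupOf _) (by rw [Nat.card_congr (Subgroup.subgroupOfEquivOfLe hP'le).toEquiv, hcardP', hcardP])
      obtain ⟨y, hy⟩ := MulAction.exists_smul_eq (Subgroup.centralizer ({c₂} : Set G)) T₂ T₁
      refine ⟨(y : G) * x, ?_, ?_⟩
      · refine Subgroup.mem_normalizer_iff_map_conj_eq.2 (Subgroup.eq_of_le_of_card_ge ?_ (le_of_eq ?_))
        · rintro _ ⟨q, hq, rfl⟩
          have hq' : x * q * x⁻¹ ∈ P' := ⟨q, hq, rfl⟩
          have h1 : (⟨x * q * x⁻¹, hP'le hq'⟩ : Subgroup.centralizer ({c₂} : Set G)) ∈ (T₂ : Subgroup _) := hq'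
          have h2 := Subgroup.smul_mem_pointwise_smul _ (MulAut.conj y) _ h1
          rw [← Sylow.pointwise_smul_def, ← Sylow.smul_def, hy] at h2
          have h3 : (y : G) * (x * q * x⁻¹) * (y : G)⁻¹ ∈ P := h2
          simpa [mul_assoc] using h3
        · exact Nat.card_congr (P.equivMapOfInjective _ (MulAut.conj ((y : G) * x)).injective).toEquiv
      · have h := conj_mem.1 y.2
        calc (y : G) * x * c₁ * ((y : G) * x)⁻¹ = (y : G) * (x * c₁ * x⁻¹) * (y : G)⁻¹ := by group
          _ = (y : G) * c₂ * (y : G)⁻¹ := by rw [hxc]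
          _ = _ := by rw [← h]; group
    · intro c hc hex
      set C := Subgroup.centralizer ({c} : Set G) with hC
      set H := C ⊓ Subgroup.normalizer (P : Set G) with hH
      have hPC : P ≤ C := fun x hx => conj_mem.2 ((Subgroup.mem_centralizer_iff.1 hc) x hx).symm
      obtain ⟨S, hS⟩ := hex
      obtain ⟨Q, hQ⟩ := (hP.of_equiv (Subgroup.subgroupOfEquivOfLe hPC).symm).exists_le_sylow
      refine ⟨Q, ?_⟩
      set R := (Q : Subgroup C).map C.subtype with hR
      have hPR : P ≤ R := fun x hx => ⟨⟨x, hPC hx⟩, hQ (show (⟨x, hPC hx⟩ : C) ∈ P.subgroupOf C from hx), rfl⟩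
      have hRC : R ≤ C := Subgroup.map_subtype_le _
      have hRp : IsPGroup p R := Q.isPGroup'.map _
      by_contra hne
      haveI := hRp.isNilpotent
      have hlt : P.subgroupOf R < ⊤ := by
        refine lt_of_le_of_ne le_top fun h => hne (le_antisymm ?_ hPR)
        exact Subgroup.subgroupOf_eq_top.1 h
      obtain ⟨-, w, hwN, hwP⟩ := SetLike.lt_iff_le_and_exists.1 (normalizerCondition_of_isNilpotent _ hlt)
      have hwN' : (w : G) ∈ Subgroup.normalizer (P : Set G) := by
        rw [Subgroup.mem_normalizer_iff] at hwN ⊢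
        intro q
        constructor
        · intro hq
          exact (hwN ⟨q, hPR hq⟩).1 hq
        · intro hq
          have hqR : q ∈ R := by
            have := R.mul_mem (R.mul_mem (R.inv_mem w.2) (hPR hq)) w.2
            simpa [mul_assoc] using this
          exact (hwN ⟨q, hqR⟩).2 hq
      have hle : (S : Subgroup H) ≤ (R ⊓ H).subgroupOf H := fun s hs => by
        have : (s : G) ∈ P := by rw [← hS]; exact ⟨s, hs, rfl⟩
        exact ⟨hPR this, s.2⟩
      have heq := S.is_maximal' ((hRp.to_le (inf_le_left : R ⊓ H ≤ R)).of_equiv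
        (Subgroup.subgroupOfEquivOfLe inf_le_right).symm) hle
      have hwH : (w : G) ∈ H := ⟨hRC w.2, hwN'⟩
      have : (⟨w, hwH⟩ : H) ∈ (S : Subgroup H) := by rw [← heq]; exact ⟨w.2, hwH⟩
      exact hwP (show (w : G) ∈ P by rw [← hS]; exact ⟨_, this, rfl⟩)

end Cfsg.Agent.S0916
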