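import Cfsg.Statements.S0920
import Cfsg.Agent.Lib.Block.FirstMain

set_option autoImplicit false
open Cfsg

namespace Cfsg.Agent.S0920

open Cfsg.Agent.Block Cfsg.Agent.Char

/-- Brauer's First Main Theorem. Let D be a p-subgroup of the finite group G with normalizer N, and fix a maximal ideal M of the algebraic integers containing p. Then (i) every block b of N having D as a defect group induces some block B of G having D as a defect group; (ii) every block of G with defect group D is induced by exactly one block of N with defect group D. -/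
theorem result {G : Type*} [Group G] [Finite G] (p : ℕ) [Fact p.Prime] (M : Ideal Cfsg.AlgInt) (hM : Cfsg.IsPModular p M) (D : Subgroup G) (hD : IsPGroup p D) : (∀ b : Set (Cfsg.IrrCharacter (Subgroup.normalizer (D : Set G))), Cfsg.IsPBlock M b → Cfsg.IsDefectGroup p M b (D.subgroupOf (Subgroup.normalizer (D : Set G))) → ∃ B : Set (Cfsg.IrrCharacter G), Cfsg.IsPBlock M B ∧ Cfsg.IsDefectGroup p M B D ∧ Cfsg.IsInducedBlock M (Subgroup.normalizer (D : Set G)) b B) ∧ (∀ B : Set (Cfsg.IrrCharacter G), Cfsg.IsPBlock M B → Cfsg.IsDefectGroup p M B D → ∃! b : Set (Cfsg.IrrCharacter (Subgroup.normalizer (D : Set G))), Cfsg.IsPBlock M b ∧ Cfsg.IsDefectGroup p M b (D.subgroupOf (Subgroup.normalizer (D : Set G))) ∧ Cfsg.IsInducedBlock M (Subgroup.normalizer (D : Set G)) b B) := by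
  haveI := prime_of_isPModular hM
  constructor
  · intro b hb hbD
    exact exists_induced_of_defectGroup hM hD le_rfl hb hbD
  · intro B hB hBD
    obtain ⟨b, hb, hbD, hl⟩ := exists_block_over hM Subgroup.le_normalizer
      (centralizer_le_normalizer' D) hB hBD
    obtain ⟨ξ, hξ⟩ := isPBlock_nonempty hb
    have hhom := isResHom_lam hM hD (centralizer_le_normalizer' D) (Or.inl Subgroup.le_normalizer)
      (Factors.of_normal hM hD Subgroup.le_normalizer le_rfl ξ)
    refine ⟨b, ⟨hb, hbD, isInducedBlock_of_lam hb hξ hhom hB (by rw [hl ξ hξ]; exact one_ne_zero)⟩,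
      fun b' hb' => ?_⟩
    obtain ⟨ξ', hξ'⟩ := isPBlock_nonempty hb'.1
    exact eq_of_lam_eq_one hM hD le_rfl hB hb'.1 hb'.2.1 hb hbD hξ' hξ
      (lam_blockIdem_of_isInducedBlock hb'.2.2 hξ') (hl ξ hξ)

end Cfsg.Agent.S0920
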