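import Cfsg.Statements.S0926
import Cfsg.Agent.Lib.Block.Congr
import Cfsg.Agent.Lib.Block.SecondMain

set_option autoImplicit false
open Cfsg

namespace Cfsg.Agent.S0926

open Cfsg.Agent.Block Cfsg.Agent.Char

/-- Let B be a block of the finite group G with defect group D (relative to a maximal ideal M of the algebraic integers containing p), let χ ∈ B have height zero, and let x be a p-element. Then some conjugate of x lies in D if and only if χ does not vanish on the whole p-section of x (the elements whose p-part is conjugate to x). -/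
theorem result {G : Type*} [Group G] [Finite G] (p : ℕ) [Fact p.Prime] (M : Ideal Cfsg.AlgInt) (hM : Cfsg.IsPModular p M) (B : Set (Cfsg.IrrCharacter G)) (hB : Cfsg.IsPBlock M B) (D : Subgroup G) (hD : Cfsg.IsDefectGroup p M B D) (χ : Cfsg.IrrCharacter G) (hχ : χ ∈ B) (h0 : Cfsg.blockHeight p B (χ : G → ℂ) = 0) (x : G) (hx : ∃ k : ℕ, orderOf x = p ^ k) : (∃ g : G, g * x * g⁻¹ ∈ D) ↔ ∃ u : G, (∃ z : G, Cfsg.IsPPart p u z ∧ IsConj x z) ∧ (χ : G → ℂ) u ≠ 0 := by
    classical
    haveI := prime_of_isPModular hM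
    constructor
    · rintro ⟨t, ht⟩
      obtain ⟨g, hg, S, hDS⟩ := hD
      set x' := t * x * t⁻¹ with hx'
      have hcomm : Commute x' g :=
        (mem_centralizer_singleton.1 ((hDS ▸ sylowImage_le S : D ≤ _) ht)).symm
      have hord : ∃ k : ℕ, orderOf x' = p ^ k := by
        obtain ⟨k, hk⟩ := hx
        exact ⟨k, by rw [hx', orderOf_conj_eq, hk]⟩
      refine ⟨x' * g, ⟨x', ⟨g, rfl, hcomm, hord, not_dvd_orderOf_defectClass hM hB hg⟩,
        isConj_iff.2 ⟨t, rfl⟩⟩, fun h0' => ?_⟩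
      have h1 := apply_mul_congr hM (IsIrrCharacter.isCharacter χ.2) hord hcomm
      rw [h0', zero_sub] at h1
      exact apply_unit_of_defectClass hM hB hχ h0 hg (neg_neg ((χ : G → ℂ) g) ▸ memLocalIdeal_neg h1)
    · rintro ⟨u, ⟨z, hz, hxz⟩, hne⟩
      by_contra hn
      refine hne (apply_eq_zero_off_defect hM hz fun E hE hzE => hn ?_)
      rw [← isPBlock_eq_blockOf hB hχ] at hE
      obtain ⟨a, ha⟩ := isDefectGroup_conj hM hB hD hE
      obtain ⟨t, ht⟩ := isConj_iff.1 hxz
      rw [ha, Subgroup.mem_map] at hzE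
      obtain ⟨d, hd, hde⟩ := hzE
      refine ⟨a⁻¹ * t, ?_⟩
      have e : a⁻¹ * t * x * (a⁻¹ * t)⁻¹ = d := by
        calc a⁻¹ * t * x * (a⁻¹ * t)⁻¹ = a⁻¹ * (t * x * t⁻¹) * a := by group
          _ = a⁻¹ * (a * d * a⁻¹) * a := by rw [ht, ← hde]; rfl
          _ = d := by group
      rw [e]; exact hd

end Cfsg.Agent.S0926
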