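import Cfsg.Statements.S0927
import Cfsg.Agent.Lib.Block.Congr

set_option autoImplicit false
open Cfsg

namespace Cfsg.Agent.S0927

open Cfsg.Agent.Block Cfsg.Agent.Char

/-- Let B be a block of the finite group G relative to a maximal ideal M of the algebraic integers containing p, let y represent a defect class of B and let P be a Sylow p-subgroup of the centralizer of y. (a) If x ∈ P and χ ∈ B has height zero, then χ (x * y) is not in the local ideal at M. (b) If x lies in the centre of P, then for every χ ∈ B the central character of χ at x * y is not in the local ideal at M. -/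
theorem result {G : Type*} [Group G] [Finite G] (p : ℕ) [Fact p.Prime] (M : Ideal Cfsg.AlgInt) (hM : Cfsg.IsPModular p M) (B : Set (Cfsg.IrrCharacter G)) (hB : Cfsg.IsPBlock M B) (y : G) (hy : Cfsg.IsDefectClass M B y) (P : Sylow p (Subgroup.centralizer ({y} : Set G))) (x : Subgroup.centralizer ({y} : Set G)) (hx : x ∈ (P : Subgroup (Subgroup.centralizer ({y} : Set G)))) : (∀ χ ∈ B, Cfsg.blockHeight p B (χ : G → ℂ) = 0 → ¬ Cfsg.MemLocalIdeal M ((χ : G → ℂ) ((x : G) * y))) ∧ ((∀ w ∈ (P : Subgroup (Subgroup.centralizer ({y} : Set G))), x * w = w * x) → ∀ χ ∈ B, ¬ Cfsg.MemLocalIdeal M (Cfsg.centralChar (χ : G → ℂ) ((x : G) * y))) := by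
    classical
    haveI := prime_of_isPModular hM
    have hpP : ∃ k : ℕ, orderOf (x : G) = p ^ k := by
      obtain ⟨k, hk⟩ := IsPGroup.iff_orderOf.1 P.2 ⟨x, hx⟩
      exact ⟨k, (Subgroup.orderOf_coe x).trans ((Subgroup.orderOf_coe (⟨x, hx⟩ : (P : Subgroup (Subgroup.centralizer ({y} : Set G))))).trans hk)⟩
    have hcomm : Commute (x : G) y := (mem_centralizer_singleton.1 x.2).symm
    have hyr := not_dvd_orderOf_defectClass hM hB hy
    have hu : ∀ χ ∈ B, blockHeight p B (χ : G → ℂ) = 0 →
        ¬ MemLocalIdeal M ((χ : G → ℂ) ((x : G) * y)) := fun χ hχ h0 h => by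
      have h1 := memLocalIdeal_sub h (apply_mul_congr hM (IsIrrCharacter.isCharacter χ.2) hpP hcomm)
      rw [sub_sub_cancel] at h1
      exact apply_unit_of_defectClass hM hB hχ h0 hy h1
    refine ⟨hu, fun hPx χ hχ => ?_⟩
    obtain ⟨φ, hφ, hφ0⟩ := exists_height_zero p (isPBlock_nonempty hB)
    refine fun hbad => ?_
    have hφbad : MemLocalIdeal M (centralChar (φ : G → ℂ) ((x : G) * y)) := by
      by_contra h
      exact centralChar_unit_congr hB hφ hχ h hbad
    have hle : Subgroup.centralizer ({(x : G) * y} : Set G) ≤ Subgroup.centralizer ({y} : Set G) := by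
      intro c hc
      rw [mem_centralizer_singleton] at hc ⊢
      have hco : Nat.Coprime (orderOf (x : G)) (orderOf y) := by
        obtain ⟨k, hk⟩ := hpP
        rw [hk]; exact Nat.Coprime.pow_left _ (hM.1.coprime_iff_not_dvd.2 hyr)
      obtain ⟨m, hm⟩ : ∃ m : ℕ, orderOf (x : G) * m % orderOf y = 1 % orderOf y := by
        rcases eq_or_ne (orderOf y) 1 with h | h
        · exact ⟨0, by simp [h]⟩
        · have h1 : 1 < orderOf y := lt_of_le_of_ne (orderOf_pos y) (Ne.symm h)
          obtain ⟨m, -, hm⟩ := Nat.exists_mul_mod_eq_one_of_coprime hco h1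
          exact ⟨m, by rw [hm, Nat.mod_eq_of_lt h1]⟩
      have he : ((x : G) * y) ^ (orderOf (x : G) * m) = y := by
        rw [hcomm.mul_pow, pow_mul, pow_orderOf_eq_one, one_pow, one_mul, ← pow_mod_orderOf, hm,
          pow_mod_orderOf, pow_one]
      exact he ▸ hc.pow_left _
    have hPle : sylowImage P ≤ Subgroup.centralizer ({(x : G) * y} : Set G) := by
      rintro _ ⟨w, hw, rfl⟩
      rw [mem_centralizer_singleton]
      exact Commute.mul_left (congrArg Subtype.val (hPx w hw) :) (mem_centralizer_singleton.1 w.2)
    have hexp : classExp p ((x : G) * y) = classExp p y := by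
      have h1 := classExp_add p ((x : G) * y)
      have h2 := classExp_add p y
      have hd1 : (Nat.card (Subgroup.centralizer ({(x : G) * y} : Set G))).factorization p ≤
          (Nat.card (Subgroup.centralizer ({y} : Set G))).factorization p :=
        (Nat.factorization_le_iff_dvd Nat.card_pos.ne' Nat.card_pos.ne').2
          (Subgroup.card_dvd_of_le hle) p
      have hd2 : (Nat.card (Subgroup.centralizer ({y} : Set G))).factorization p ≤
          (Nat.card (Subgroup.centralizer ({(x : G) * y} : Set G))).factorization p := by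
        have hc : Nat.card (sylowImage P) = p ^ (Nat.card (Subgroup.centralizer ({y} : Set G))).factorization p := by
          rw [Nat.card_congr ((P : Subgroup _).equivMapOfInjective (Subgroup.centralizer ({y} : Set G)).subtype
            (Subgroup.subtype_injective _)).toEquiv.symm, Sylow.card_eq_multiplicity]
        exact (hM.1.pow_dvd_iff_le_factorization Nat.card_pos.ne').1 (hc ▸ Subgroup.card_dvd_of_le hPle)
      omega
    have he : classExp p ((x : G) * y) = minVal p B :=
      hexp.trans (classExp_eq_minVal_of_isDefectClass hM hB hy)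
    have h1 := apply_congr_of_classExp_eq hM hB hφ hφ he
    refine hu φ hφ hφ0 ?_
    have h2 := memLocalIdeal_add h1 (memLocalIdeal_mul_right
      (inv_natCast_mem_locRing hM.1 hM.2.2 (not_dvd_classCofactor hM.1 ((x : G) * y)))
      (memLocalIdeal_mul_right (natCast_mem _ (redDegree p B (φ : G → ℂ))) hφbad))
    rwa [sub_add_cancel] at h2

end Cfsg.Agent.S0927
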