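import Cfsg.Statements.S0928
import Cfsg.Agent.Lib.Char.PPrimeKernel
import Cfsg.Agent.Lib.Char.Central

set_option autoImplicit false
set_option linter.style.haveILetI false
open Cfsg

namespace Cfsg.Agent.S0928

open Cfsg.Agent.Char

universe w

variable {G : Type w} [Group G] [Finite G] {p : ℕ} [hp : Fact p.Prime]

theorem mul_comm' {z : G} (a b : Subgroup.zpowers z) : a * b = b * a := by
  obtain ⟨_, i, rfl⟩ := a
  obtain ⟨_, j, rfl⟩ := b
  exact Subtype.ext (Commute.zpow_zpow_self z i j).eq

/-- If `g` commutes with an element of order `p`, the number of ways of writing it as a product of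
two elements with trivial `p`-th power is divisible by `p`. -/
theorem dvd_card_pairs (g z : G) (hz : orderOf z = p) (hzg : z * g = g * z) :
    p ∣ Nat.card {x : G // x ^ p = 1 ∧ (x⁻¹ * g) ^ p = 1} := by
  set Z := Subgroup.zpowers z with hZ
  have hZp : IsPGroup p Z := IsPGroup.of_card (n := 1) (by rw [Nat.card_zpowers, hz, pow_one])
  have hcomm : ∀ y : Z, (y : G) * g = g * y := by
    rintro ⟨_, k, rfl⟩
    exact (Commute.zpow_left (show Commute z g from hzg) k).eq
  set T := {x : G // x ^ p = 1 ∧ (x⁻¹ * g) ^ p = 1} with hT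
  let act : MulAction Z T :=
    { smul := fun y x => ⟨(y : G) * x.1 * (y : G)⁻¹, by rw [conj_pow, x.2.1, mul_one, mul_inv_cancel], by
        have e : ((y : G) * x.1 * (y : G)⁻¹)⁻¹ * g = (y : G) * (x.1⁻¹ * g) * (y : G)⁻¹ := by
          have h2 : (y : G)⁻¹ * g = g * (y : G)⁻¹ :=
            (Commute.inv_left (show Commute (y : G) g from hcomm y)).eq
          simp only [mul_inv_rev, inv_inv, mul_assoc]
          rw [h2]
        rw [e, conj_pow, x.2.2, mul_one, mul_inv_cancel]⟩
      one_smul := fun x => Subtype.ext (by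
        show ((1 : Z) : G) * x.1 * ((1 : Z) : G)⁻¹ = x.1
        simp)
      mul_smul := fun a b x => Subtype.ext (by
        show ((a * b : Z) : G) * x.1 * ((a * b : Z) : G)⁻¹ =
          (a : G) * ((b : G) * x.1 * (b : G)⁻¹) * (a : G)⁻¹
        simp [mul_assoc]) }
  letI := act
  have hmod := hZp.card_modEq_card_fixedPoints T
  set F := {x : T // ∀ y : Z, (y : G) * x.1 = x.1 * (y : G)} with hF
  have hfix : Nat.card (MulAction.fixedPoints Z T) = Nat.card F := by
    refine Nat.card_congr (Equiv.subtypeEquivRight fun x => ?_)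
    rw [MulAction.mem_fixedPoints]
    refine forall_congr' fun y => ?_
    constructor
    · intro h
      exact mul_inv_eq_iff_eq_mul.mp (congrArg Subtype.val h)
    · intro h
      exact Subtype.ext (mul_inv_eq_iff_eq_mul.mpr h)
  let act2 : MulAction Z F :=
    { smul := fun y x => ⟨⟨x.1.1 * (y : G), by
          have hc : Commute x.1.1 (y : G) := (x.2 y).symm
          refine ⟨?_, ?_⟩
          · rw [hc.mul_pow, x.1.2.1, one_mul]
            exact congrArg Subtype.val (show y ^ p = 1 by
              rw [← show Nat.card Z = p by rw [Nat.card_zpowers, hz]]; exact pow_card_eq_one')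
          · have hy : ((y : G)⁻¹) ^ p = 1 := by
              rw [inv_pow, inv_eq_one]
              exact congrArg Subtype.val (show y ^ p = 1 by
                rw [← show Nat.card Z = p by rw [Nat.card_zpowers, hz]]; exact pow_card_eq_one')
            have hc2 : Commute (y : G)⁻¹ (x.1.1⁻¹ * g) :=
              ((Commute.inv_inv hc.symm).mul_right
                (Commute.inv_left (show Commute (y : G) g from hcomm y)))
            rw [mul_inv_rev, mul_assoc, hc2.mul_pow, hy, x.1.2.2, one_mul]⟩, fun w => by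
          show (w : G) * (x.1.1 * (y : G)) = x.1.1 * (y : G) * (w : G)
          rw [← mul_assoc, x.2 w, mul_assoc, mul_assoc]
          exact congrArg (x.1.1 * ·) (congrArg Subtype.val (mul_comm' w y))⟩
      one_smul := fun x => Subtype.ext (Subtype.ext (by
        show x.1.1 * ((1 : Z) : G) = x.1.1
        simp))
      mul_smul := fun a b x => Subtype.ext (Subtype.ext (by
        show x.1.1 * ((a * b : Z) : G) = x.1.1 * (b : G) * (a : G)
        rw [mul_comm' a b, Subgroup.coe_mul, mul_assoc])) }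
  letI := act2
  have hmod2 := hZp.card_modEq_card_fixedPoints F
  have hempty : Nat.card (MulAction.fixedPoints Z F) = 0 := by
    rw [Nat.card_eq_zero]
    refine Or.inl ⟨fun ⟨x, hx⟩ => ?_⟩
    have := congrArg (fun w : F => w.1.1) (MulAction.mem_fixedPoints.mp hx ⟨z, Subgroup.mem_zpowers z⟩)
    have h1 : z = 1 := by
      change x.1.1 * z = x.1.1 at this
      exact mul_eq_left.mp this
    rw [h1, orderOf_one] at hz
    exact hp.out.one_lt.ne hz
  rw [hempty] at hmod2
  rw [hfix] at hmod
  exact Nat.modEq_zero_iff_dvd.mp (hmod.trans hmod2)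

theorem false_of_lt (χ : IrrCharacter G) (hvan : ∀ g : G, orderOf g = p → (χ : G → ℂ) g = 0)
    (n : ℕ) (hn1 : (χ : G → ℂ) 1 = (n : ℂ)) (hn0 : n ≠ 0)
    (hlt : n.factorization p < (Nat.card G).factorization p) : False := by
  classical
  haveI := Fintype.ofFinite G
  set f : G → ℂ := fun x => if x ^ p = 1 then 1 else 0 with hf
  have hfc : IsClassFunction G f := fun x y => by
    simp only [hf, conj_pow]
    simp
  set a : G → ℕ := fun g => Nat.card {x : G // x ^ p = 1 ∧ (x⁻¹ * g) ^ p = 1} with ha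
  have hsum1 : ∑ x, f x * (χ : G → ℂ) x = (n : ℂ) := by
    rw [Finset.sum_eq_single (1 : G), hf]
    · simp [hn1]
    · intro x _ hx
      by_cases h : x ^ p = 1
      · rw [hvan x (orderOf_eq_prime h hx), mul_zero]
      · simp [hf, h]
    · simp
  have hmain := sum_mul_sum_eq_degree_mul_sum χ.2 hfc hfc
  rw [hsum1, hn1] at hmain
  have hpair : ∑ x, ∑ y, f x * f y * (χ : G → ℂ) (x * y) = ∑ g, (a g : ℂ) * (χ : G → ℂ) g := by
    rw [Finset.sum_congr rfl fun x (_ : x ∈ Finset.univ) =>
      (Fintype.sum_equiv (Equiv.mulLeft x) (fun y => f x * f y * (χ : G → ℂ) (x * y))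
        (fun g => f x * f (x⁻¹ * g) * (χ : G → ℂ) g) fun y => by simp)]
    rw [Finset.sum_comm]
    refine Finset.sum_congr rfl fun g _ => ?_
    rw [← Finset.sum_mul]
    congr 1
    simp only [ha]
    rw [Nat.card_eq_fintype_card, Fintype.card_subtype, Finset.card_eq_sum_ones, Nat.cast_sum,
      Finset.sum_filter]
    refine Finset.sum_congr rfl fun x _ => ?_
    simp only [hf]
    split_ifs with h1 h2 h3 <;> simp_all
  rw [hpair] at hmain
  have hn0' : (n : ℂ) ≠ 0 := Nat.cast_ne_zero.mpr hn0
  have hone : ∑ g, (a g : ℂ) * (χ : G → ℂ) g = (n : ℂ) := (mul_left_cancel₀ hn0' hmain).symm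
  -- each class contributes a multiple of `p`
  haveI : Fintype (ConjClasses G) := Fintype.ofFinite _
  have hcls : ∀ c : ConjClasses G, ∃ α : ℂ, IsIntegral ℤ α ∧
      ∑ g ∈ Finset.univ.filter (fun g => ConjClasses.mk g = c), (a g : ℂ) * (χ : G → ℂ) g =
        (n : ℂ) * ((p : ℂ) * α) := by
    intro c
    obtain ⟨g, rfl⟩ := ConjClasses.mk_surjective c
    have hconst : ∀ x ∈ Finset.univ.filter (fun x => ConjClasses.mk x = ConjClasses.mk g),
        (a x : ℂ) * (χ : G → ℂ) x = (a g : ℂ) * (χ : G → ℂ) g := by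
      intro x hx
      have hc : IsConj g x := (ConjClasses.mk_eq_mk_iff_isConj.mp (Finset.mem_filter.mp hx).2).symm
      rw [IsIrrCharacter.apply_isConj χ.2 hc]
      obtain ⟨t, rfl⟩ := isConj_iff.mp hc
      congr 2
      refine (Nat.card_congr (Equiv.subtypeEquiv (MulAut.conj t).toEquiv fun x => ?_)).symm
      show _ ↔ (t * x * t⁻¹) ^ p = 1 ∧ ((t * x * t⁻¹)⁻¹ * (t * g * t⁻¹)) ^ p = 1
      rw [show (t * x * t⁻¹)⁻¹ * (t * g * t⁻¹) = t * (x⁻¹ * g) * t⁻¹ by group, conj_pow, conj_pow]
      simp
    rw [Finset.sum_congr rfl hconst, Finset.sum_const, nsmul_eq_mul]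
    set k := (Subgroup.centralizer ({g} : Set G)).index with hk
    have hcard : (Finset.univ.filter (fun x => ConjClasses.mk x = ConjClasses.mk g)).card = k := by
      rw [hk, ← card_isConj_eq_index, Nat.card_eq_fintype_card, Fintype.card_subtype]
      congr 1
      refine Finset.filter_congr fun x _ => ?_
      rw [ConjClasses.mk_eq_mk_iff_isConj, isConj_comm]
    rw [hcard]
    have hω : IsIntegral ℤ ((k : ℂ) * (χ : G → ℂ) g / (n : ℂ)) := by
      rw [← hn1]
      exact isIntegral_centralChar χ.2 g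
    have hint : ∀ m : ℤ, IsIntegral ℤ (m : ℂ) := fun m =>
      isIntegral_algebraMap (R := ℤ) (A := ℂ) (x := m)
    by_cases hpC : p ∣ Nat.card (Subgroup.centralizer ({g} : Set G))
    · obtain ⟨⟨z, hz⟩, hord⟩ := exists_prime_orderOf_dvd_card' p hpC
      obtain ⟨b, hb⟩ : p ∣ a g := dvd_card_pairs g z
        (by rw [← hord]; exact (Subgroup.orderOf_coe (⟨z, hz⟩ : Subgroup.centralizer ({g} : Set G))))
        (Subgroup.mem_centralizer_singleton_iff.mp hz)
      refine ⟨((b : ℤ) : ℂ) * ((k : ℂ) * (χ : G → ℂ) g / (n : ℂ)), (hint b).mul hω, ?_⟩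
      rw [hb]
      push_cast
      field_simp
    · set e := n.factorization p with he
      have hpk : p ^ (e + 1) ∣ k := by
        refine (hp.out.pow_dvd_iff_le_factorization Subgroup.index_ne_zero_of_finite).mpr ?_
        have h := (Subgroup.centralizer ({g} : Set G)).index_mul_card
        rw [← h, Nat.factorization_mul Subgroup.index_ne_zero_of_finite Nat.card_pos.ne'] at hlt
        rw [Finsupp.add_apply, Nat.factorization_eq_zero_of_not_dvd hpC] at hlt
        omega
      obtain ⟨r, hr⟩ := hpk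
      obtain ⟨n', hn'⟩ : p ^ e ∣ n := Nat.ordProj_dvd n p
      have hcop : Nat.Coprime n' p := by
        refine ((Nat.Prime.coprime_iff_not_dvd hp.out).mpr fun hd => ?_).symm
        refine Nat.pow_succ_factorization_not_dvd hn0 hp.out ?_
        rw [← he, pow_succ]
        exact hn' ▸ Nat.mul_dvd_mul_left _ hd
      obtain ⟨u, w, huw⟩ := (Nat.isCoprime_iff_coprime.mpr hcop)
      refine ⟨((a g : ℤ) : ℂ) * ((u : ℂ) * ((r : ℤ) : ℂ) * (χ : G → ℂ) g +
        (w : ℂ) * ((k : ℂ) * (χ : G → ℂ) g / (n : ℂ))),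
        (hint _).mul ((((hint u).mul (hint _)).mul
          (IsCharacter.isIntegral (IsIrrCharacter.isCharacter χ.2) g)).add ((hint w).mul hω)), ?_⟩
      have huw' : (u : ℂ) * (n' : ℂ) + (w : ℂ) * (p : ℂ) = 1 := by exact_mod_cast huw
      have hk' : (k : ℂ) = (p : ℂ) ^ e * (p : ℂ) * (r : ℂ) := by
        rw [hr, pow_succ]; push_cast; ring
      have hne' : (n : ℂ) = (p : ℂ) ^ e * (n' : ℂ) := by rw [hn']; push_cast; ring
      have hnω : (n : ℂ) * ((k : ℂ) * (χ : G → ℂ) g / (n : ℂ)) = (k : ℂ) * (χ : G → ℂ) g := by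
        field_simp
      generalize hW : (k : ℂ) * (χ : G → ℂ) g / (n : ℂ) = W at hnω ⊢
      push_cast
      linear_combination (-(k : ℂ) * (a g : ℂ) * (χ : G → ℂ) g) * huw' +
        (-(w : ℂ) * (p : ℂ) * (a g : ℂ)) * hnω +
        ((u : ℂ) * (a g : ℂ) * (χ : G → ℂ) g * (n' : ℂ)) * hk' +
        (-(u : ℂ) * (p : ℂ) * (r : ℂ) * (a g : ℂ) * (χ : G → ℂ) g) * hne'
  choose α hα1 hα2 using hcls
  rw [← Finset.sum_fiberwise Finset.univ ConjClasses.mk, Finset.sum_congr rfl fun c _ => hα2 c,
    ← Finset.mul_sum, ← Finset.mul_sum] at hone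
  have h1 : ((1 : ℕ) : ℂ) = (p : ℂ) * ∑ c, α c := by
    rw [Nat.cast_one]
    exact mul_left_cancel₀ hn0' (by rw [mul_one]; exact hone.symm)
  have := PPrime.dvd_of_eq_mul hp.out.ne_zero (IsIntegral.sum _ fun c _ => hα1 c) h1
  exact hp.out.one_lt.ne' (Nat.dvd_one.mp this)

/-- Let χ be an irreducible character of the finite group G and p a prime. If χ g = 0 for every element g of order p, then the exponent of p in the degree χ(1) equals the exponent of p in the order of G (χ has p-defect zero). -/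
theorem result {G : Type*} [Group G] [Finite G] (p : ℕ) [Fact p.Prime] (χ : Cfsg.IrrCharacter G) (hvan : ∀ g : G, orderOf g = p → (χ : G → ℂ) g = 0) : (Cfsg.charDegree (χ : G → ℂ)).factorization p = (Nat.card G).factorization p := by
  classical
  haveI := Fintype.ofFinite G
  have hp : p.Prime := Fact.out
  set n := charDegree (χ : G → ℂ) with hn
  have hn1 : (χ : G → ℂ) 1 = (n : ℂ) := Char.PPrime.coe_charDegree χ.2
  have hdvd : n ∣ Nat.card G := Char.degree_dvd_card χ.2 n hn1
  have hn0 : n ≠ 0 := fun e => by simp [e] at hdvd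
  refine le_antisymm ((Nat.factorization_le_iff_dvd hn0 Nat.card_pos.ne').mpr hdvd p) ?_
  by_contra hlt
  push Not at hlt
  refine false_of_lt χ hvan n hn1 hn0 hlt

end Cfsg.Agent.S0928
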