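import Cfsg.Statements.S0930
import Cfsg.Agent.Lib.Block.DefectElement

set_option autoImplicit false
open Cfsg

namespace Cfsg.Agent.S0930

open Cfsg.Agent.Block Cfsg.Agent.Char

/-- Let H be a subgroup of the finite group G and fix a maximal ideal M of the algebraic integers containing the prime p. If the block b of H with defect group D induces the block B of G with defect group P, then every element of the centre of P is conjugate in G to an element of the centre of D. -/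
theorem result {G : Type*} [Group G] [Finite G] (p : ℕ) [Fact p.Prime] (M : Ideal Cfsg.AlgInt) (hM : Cfsg.IsPModular p M) (H : Subgroup G) (b : Set (Cfsg.IrrCharacter H)) (B : Set (Cfsg.IrrCharacter G)) (hind : Cfsg.IsInducedBlock M H b B) (D : Subgroup H) (hD : Cfsg.IsDefectGroup p M b D) (P : Subgroup G) (hP : Cfsg.IsDefectGroup p M B P) (x : G) (hx : x ∈ P) (hxc : ∀ w ∈ P, x * w = w * x) : ∃ g : G, g * x * g⁻¹ ∈ D.map H.subtype ∧ ∀ w ∈ D.map H.subtype, (g * x * g⁻¹) * w = w * (g * x * g⁻¹) := by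
  haveI := prime_of_isPModular hM
  classical
  obtain ⟨g, χ, hχ, hpart, hu⟩ := exists_unit_central_mul hM hind.2.1 hP hx hxc
  obtain ⟨ξ, hξ⟩ := isPBlock_nonempty hind.1
  obtain ⟨h, hgh, hhu⟩ := exists_isConj_unit_of_induced hM hind hχ hu hξ
  obtain ⟨h', hhh, -, hpart'⟩ := exists_isConj_pPart_center hM hind.1 hD hξ hhu
  obtain ⟨c, hc⟩ := isConj_iff.1 hgh
  obtain ⟨d, hd⟩ := isConj_iff.1 hhh
  obtain ⟨z₀, y₀, h1, h2, h3, h4, -, -⟩ := exists_isPPart (Fact.out : p.Prime) h'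
  obtain ⟨hzD, hzc⟩ := hpart' z₀ ⟨y₀, h1, h2, h3, h4⟩
  have e : (d : G) * c * (x * g) * ((d : G) * c)⁻¹ = (h' : G) := by
    rw [← hd, Subgroup.coe_mul, Subgroup.coe_mul, Subgroup.coe_inv, ← hc]
    group
  have p1 : IsPPart p (h' : G) ((d : G) * c * x * ((d : G) * c)⁻¹) := e ▸ isPPart_conj hpart ((d : G) * c)
  have p2 : IsPPart p (h' : G) (z₀ : G) := by
    refine ⟨(y₀ : G), congrArg Subtype.val h1, congrArg Subtype.val h2, ?_, by rwa [Subgroup.orderOf_coe]⟩
    obtain ⟨k, hk⟩ := h3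
    exact ⟨k, by rw [Subgroup.orderOf_coe, hk]⟩
  have p3 := isPPart_unique (Fact.out : p.Prime) p1 p2
  refine ⟨(d : G) * c, ?_, fun w hw => ?_⟩
  · rw [p3]; exact ⟨z₀, hzD, rfl⟩
  · obtain ⟨w', hw', rfl⟩ := hw
    rw [p3]
    exact congrArg Subtype.val (hzc w' hw')

end Cfsg.Agent.S0930
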