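import Cfsg.Statements.S0931
import Cfsg.Agent.S0917
import Cfsg.Agent.Lib.Block.DefectBound
import Cfsg.Agent.Lib.Block.Height

set_option autoImplicit false
open Cfsg

namespace Cfsg.Agent.S0931

open Cfsg.Agent.Block Cfsg.Agent.Char

/-- Let H be a subgroup of the finite group G and fix a maximal ideal M of the algebraic integers containing the prime p. If the block b of H induces the block B of G, then b has defect 0 if and only if B has defect 0. -/
theorem result {G : Type*} [Group G] [Finite G] (p : ℕ) [Fact p.Prime] (M : Ideal Cfsg.AlgInt) (hM : Cfsg.IsPModular p M) (H : Subgroup G) (b : Set (Cfsg.IrrCharacter H)) (B : Set (Cfsg.IrrCharacter G)) (hind : Cfsg.IsInducedBlock M H b B) : Cfsg.blockDefect p b = 0 ↔ Cfsg.blockDefect p B = 0 := by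
  haveI := prime_of_isPModular hM
  classical
  haveI := Fintype.ofFinite G
  have hp : p.Prime := Fact.out
  constructor
  swap
  · intro h
    obtain ⟨D, hD⟩ := exists_isDefectGroup (p := p) hind.1
    obtain ⟨E, hE, hDE⟩ := Cfsg.Agent.S0917.result p M hM H b hind.1 B hind.2.1 hind D hD
    have h1 := Subgroup.card_le_of_le hDE
    rw [Nat.card_congr (D.equivMapOfInjective H.subtype H.subtype_injective).toEquiv.symm,
      card_defectGroup hM hind.1 hD, card_defectGroup hM hind.2.1 hE, h, pow_zero] at h1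
    by_contra hne
    exact absurd h1 (Nat.one_lt_pow hne hp.one_lt).not_ge
  intro h
  by_contra hne
  have hB := hind.2.1
  have hb := hind.1
  -- the only member of `b`
  obtain ⟨ξ, hξ⟩ := isPBlock_nonempty hb
  have hcard : Nat.card b ≤ 1 := by
    have h' := brauer_feit hM hb
    rw [h, mul_zero, pow_zero] at h'
    omega
  have hsing : blockOf M (ξ : H → ℂ) = {ξ} := by
    rw [← isPBlock_eq_blockOf hb hξ]
    haveI := Finite.card_le_one_iff_subsingleton.1 hcard
    refine Set.eq_singleton_iff_unique_mem.2 ⟨hξ, fun x hx => ?_⟩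
    exact congrArg Subtype.val (Subsingleton.elim (⟨x, hx⟩ : b) ⟨ξ, hξ⟩)
  -- a defect class and a central element of its Sylow subgroup
  obtain ⟨g, hg⟩ := exists_isDefectClass (M := M) hB
  set Cg : Subgroup G := Subgroup.centralizer ({g} : Set G)
  obtain ⟨S⟩ : Nonempty (Sylow p (Subgroup.centralizer ({g} : Set G))) := inferInstance
  set D : Subgroup G := (S : Subgroup (Subgroup.centralizer ({g} : Set G))).map (Subgroup.centralizer ({g} : Set G)).subtype with hDdef
  have hD : IsDefectGroup p M B D := ⟨g, hg, S, rfl⟩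
  have hDp : IsPGroup p D := S.2.map _
  have hcD := card_defectGroup hM hB hD
  haveI : Nontrivial D := by
    rw [← Finite.one_lt_card_iff_nontrivial, hcD]
    exact Nat.one_lt_pow hne hp.one_lt
  haveI := hDp.center_nontrivial
  obtain ⟨z, hz1⟩ := exists_ne (1 : Subgroup.center D)
  set y : G := ((z : D) : G) with hy
  have hyD : y ∈ D := (z : D).2
  have hgD : ∀ d ∈ D, Commute d g := fun d hd => by
    obtain ⟨s, -, rfl⟩ := hd
    exact mem_centralizer_singleton.1 s.2 |>.symm
  have hypow : ∃ k : ℕ, orderOf y = p ^ k := by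
    obtain ⟨k, hk⟩ := IsPGroup.iff_orderOf.1 hDp (z : D)
    exact ⟨k, by rw [hy, Subgroup.orderOf_coe, hk]⟩
  have hy1 : y ≠ 1 := fun e => hz1 (Subtype.ext (Subtype.ext e))
  have hgreg := not_dvd_orderOf_defectClass hM hB hg
  have hyg : Commute y g := hgD y hyD
  have hcop : Nat.Coprime (orderOf y) (orderOf g) := by
    obtain ⟨k, hk⟩ := hypow
    rw [hk]
    exact Nat.Coprime.pow_left _ (hp.coprime_iff_not_dvd.2 hgreg)
  have hord := Commute.orderOf_mul_eq_mul_orderOf_of_coprime hyg hcop
  have hsingular : p ∣ orderOf (y * g) := by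
    rw [hord]
    obtain ⟨k, hk⟩ := hypow
    rcases k with _ | k
    · exact absurd (orderOf_eq_one_iff.1 (by simpa using hk)) hy1
    · exact dvd_mul_of_dvd_left (hk ▸ dvd_pow_self p k.succ_ne_zero) _
  have hind0 : inducedCentralChar H (ξ : H → ℂ) (y * g) = 0 := by
    rw [inducedCentralChar]
    refine finsum_mem_of_eqOn_zero fun h' hh' => ?_
    obtain ⟨c, hc⟩ := isConj_iff.1 hh'
    show (ξ : H → ℂ) h' / _ = 0
    rw [apply_eq_zero_of_singleton hM hsing (g := h'), zero_div]
    rw [← Subgroup.orderOf_coe, ← hc]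
    exact (orderOf_conj_eq (y * g) c).symm ▸ hsingular
  -- a character of height zero
  obtain ⟨χ, hχ, hχ0⟩ := exists_height_zero p (isPBlock_nonempty hB)
  have hω : MemLocalIdeal M (centralChar (χ : G → ℂ) (y * g)) := by
    have := hind.2.2 ξ hξ χ hχ (y * g)
    rw [hind0, zero_sub] at this
    simpa using memLocalIdeal_neg this
  -- the two centralisers
  have hle : Subgroup.centralizer ({y * g} : Set G) ≤ Subgroup.centralizer ({g} : Set G) := by
    intro c hc
    rw [mem_centralizer_singleton] at hc ⊢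
    have hb := Nat.gcdA (orderOf y) (orderOf g)
    have e : g = (y * g) ^ ((orderOf y : ℤ) * Nat.gcdA (orderOf y) (orderOf g)) := by
      rw [hyg.mul_zpow]
      have h1 : y ^ ((orderOf y : ℤ) * Nat.gcdA (orderOf y) (orderOf g)) = 1 := by
        rw [zpow_mul, zpow_natCast, pow_orderOf_eq_one, one_zpow]
      rw [h1, one_mul]
      have h2 := Nat.gcd_eq_gcd_ab (orderOf y) (orderOf g)
      rw [hcop.gcd_eq_one, Nat.cast_one] at h2
      conv_lhs => rw [← zpow_one g, h2, zpow_add, zpow_mul g (orderOf g : ℤ), zpow_natCast, pow_orderOf_eq_one, one_zpow, mul_one]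
    rw [e]
    first
      | exact Commute.zpow_right hc _
      | exact Commute.zpow_left hc _
  have hDle : D ≤ Subgroup.centralizer ({y * g} : Set G) := fun d hd => by
    rw [mem_centralizer_singleton]
    have h1 : Commute d y := congrArg Subtype.val (Subgroup.mem_center_iff.1 z.2 ⟨d, hd⟩)
    first
      | exact h1.mul_right (hgD d hd)
      | exact (h1.mul_right (hgD d hd)).symm
  set Cy : Subgroup G := Subgroup.centralizer ({y * g} : Set G)
  have hm : Cy.relIndex Cg * Cg.index = Cy.index := Subgroup.relIndex_mul_index hle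
  have hmd : ¬ p ∣ Cy.relIndex Cg := by
    intro hd
    have h1 : (D.subgroupOf Cy).map Cy.subtype = D := Subgroup.map_subgroupOf_eq_of_le hDle
    have h2 : p ^ blockDefect p B ∣ Nat.card Cy := hcD ▸ Subgroup.card_dvd_of_le hDle
    have h3 : Nat.card Cg = Cy.relIndex Cg * Nat.card Cy := by
      have := Cy.subgroupOf Cg |>.index_mul_card
      rw [Nat.card_congr (Subgroup.subgroupOfEquivOfLe hle).toEquiv] at this
      exact this.symm
    have h4 : p ^ (blockDefect p B + 1) ∣ Nat.card Cg := by
      rw [h3, pow_succ']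
      exact mul_dvd_mul hd h2
    have h5 : Nat.card S = p ^ blockDefect p B := by
      rw [← hcD, hDdef]
      exact (Subgroup.card_map_of_injective (K := (S : Subgroup (Subgroup.centralizer ({g} : Set G)))) (Subgroup.subtype_injective (Subgroup.centralizer ({g} : Set G)))).symm
    rw [S.card_eq_multiplicity] at h5
    have h6 := Nat.pow_right_injective hp.two_le h5
    exact Nat.pow_succ_factorization_not_dvd Nat.card_pos.ne' hp (h6 ▸ h4)
  -- the scalar `[G : C(g)] / χ(1)` is a local unit
  set v := minVal p B with hv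
  have hcl : (Cg.index).factorization p = v := classExp_eq_minVal_of_isDefectClass hM hB hg
  have hdv : (charDegree (χ : G → ℂ)).factorization p = v := (blockHeight_eq_zero_iff hχ).1 hχ0
  have hc : (Cg.index : ℂ) / (χ : G → ℂ) 1 ∈ locRing M := by
    have hn : (χ : G → ℂ) 1 = ((p ^ v : ℕ) : ℂ) * ((charDegree (χ : G → ℂ) / p ^ v : ℕ) : ℂ) := by
      rw [← hdv, ← Nat.cast_mul, Nat.ordProj_mul_ordCompl_eq_self,
        charDegree_cast (IsIrrCharacter.isCharacter χ.2)]
    have hi : (Cg.index : ℂ) = ((p ^ v : ℕ) : ℂ) * ((Cg.index / p ^ v : ℕ) : ℂ) := by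
      rw [← hcl, ← Nat.cast_mul, Nat.ordProj_mul_ordCompl_eq_self]
    rw [hn, hi, mul_div_mul_left _ _ (Nat.cast_ne_zero.2 (pow_ne_zero _ hp.ne_zero)), div_eq_mul_inv]
    refine mul_mem (natCast_mem _ _) (inv_natCast_mem_locRing hM.1 hM.2.2 ?_)
    rw [← hdv]
    exact Nat.not_dvd_ordCompl hp (charDegree_pos χ.2).ne'
  have hdiff : MemLocalIdeal M (centralChar (χ : G → ℂ) (y * g) - (Cy.relIndex Cg : ℂ) * centralChar (χ : G → ℂ) g) := by
    have e : centralChar (χ : G → ℂ) (y * g) - (Cy.relIndex Cg : ℂ) * centralChar (χ : G → ℂ) g =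
        ((Cy.relIndex Cg : ℂ) * ((Cg.index : ℂ) / (χ : G → ℂ) 1)) * ((χ : G → ℂ) (y * g) - (χ : G → ℂ) g) := by
      show (Cy.index : ℂ) * _ / _ - _ * ((Cg.index : ℂ) * _ / _) = _
      rw [← hm]
      push_cast
      ring
    rw [e]
    exact memLocalIdeal_mul_left (mul_mem (natCast_mem _ _) hc) (apply_mul_congr hM (IsIrrCharacter.isCharacter χ.2) hypow hyg)
  have hfin := memLocalIdeal_add hω (memLocalIdeal_neg hdiff)
  rw [← sub_eq_add_neg, sub_sub_cancel] at hfin
  refine hg.2.2 χ hχ ?_
  have h7 := memLocalIdeal_mul_left (inv_natCast_mem_locRing hM.1 hM.2.2 hmd) hfin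
  rwa [inv_mul_cancel_left₀ (Nat.cast_ne_zero.2 fun e => hmd (by rw [e]; exact dvd_zero p))] at h7

end Cfsg.Agent.S0931
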