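import Cfsg.Statements.S0932
import Cfsg.Agent.Lib.Block.Regular
import Cfsg.Agent.Lib.Char.Induction

set_option autoImplicit false
open Cfsg

namespace Cfsg.Agent.S0932

open Cfsg.Agent.Block Cfsg.Agent.Char

/-- Let H be a subgroup of the finite group G and ξ a character of H. For every g ∈ G, the sum of ξ h / ξ 1 over the elements h ∈ H that are conjugate in G to g equals the central character at g of the character of G induced from ξ (class size times value divided by degree). -/
theorem result {G : Type*} [Group G] [Fintype G] (H : Subgroup G) (ξ : H → ℂ) (hξ : Cfsg.IsCharacter H ξ) (g : G) : Cfsg.inducedCentralChar H ξ g = Cfsg.centralChar (Cfsg.indFun H ξ) g := by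
  classical
  set Cg : Subgroup G := Subgroup.centralizer ({g} : Set G) with hCg
  set T : Finset H := Finset.univ.filter (fun h : H => IsConj g (h : G)) with hT
  have hfib : ∀ h : H, h ∈ T → (Finset.univ.filter (fun x : G => x⁻¹ * g * x = (h : G))).card = Nat.card Cg := by
    intro h hh
    obtain ⟨c, hc⟩ := isConj_iff.1 (Finset.mem_filter.1 hh).2
    have hmem : ∀ y : G, y ∈ Cg ↔ y * g = g * y := fun y => by
      rw [hCg, Subgroup.mem_centralizer_iff]; simp [eq_comm]
    rw [Nat.card_eq_fintype_card, ← Fintype.card_coe]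
    refine Fintype.card_congr
      { toFun := fun x => ⟨(x : G) * c, (hmem _).2 ?_⟩
        invFun := fun y => ⟨(y : G) * c⁻¹, ?_⟩
        left_inv := fun x => Subtype.ext (mul_inv_cancel_right _ _)
        right_inv := fun y => Subtype.ext (inv_mul_cancel_right _ _) }
    · have hx : (x : G)⁻¹ * g * (x : G) = c * g * c⁻¹ := (Finset.mem_filter.1 x.2).2.trans hc.symm
      calc (x : G) * c * g = (x : G) * (c * g * c⁻¹) * c := by group
        _ = (x : G) * ((x : G)⁻¹ * g * (x : G)) * c := by rw [hx]
        _ = g * ((x : G) * c) := by group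
    · rw [Finset.mem_filter]
      refine ⟨Finset.mem_univ _, ?_⟩
      have hy := (hmem _).1 y.2
      calc ((y : G) * c⁻¹)⁻¹ * g * ((y : G) * c⁻¹) = c * ((y : G)⁻¹ * (g * (y : G))) * c⁻¹ := by group
        _ = c * g * c⁻¹ := by rw [← hy]; group
        _ = _ := hc
  have hsum : ∑ x : G, extendByZero H ξ (x⁻¹ * g * x) = (Nat.card Cg : ℂ) * ∑ h ∈ T, ξ h := by
    have h1 : ∀ x : G, extendByZero H ξ (x⁻¹ * g * x) =
        ∑ h ∈ T, if x⁻¹ * g * x = (h : G) then ξ h else 0 := by
      intro x
      by_cases hx : x⁻¹ * g * x ∈ H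
      · rw [extendByZero_of_mem H ξ hx, Finset.sum_eq_single (⟨_, hx⟩ : H)]
        · rw [if_pos rfl]
        · intro h _ hne
          rw [if_neg fun e => hne (Subtype.ext e.symm)]
        · intro hn
          refine absurd (Finset.mem_filter.2 ⟨Finset.mem_univ (⟨_, hx⟩ : H), ?_⟩) hn
          exact isConj_iff.2 ⟨x⁻¹, by rw [inv_inv]⟩
      · rw [Finset.sum_eq_zero fun h _ => if_neg fun e => hx (by rw [e]; exact h.2), extendByZero, Function.extend_apply']
        · rfl
        · rintro ⟨h, hh⟩
          exact hx (hh ▸ h.2)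
    simp only [h1]
    rw [Finset.sum_comm, Finset.mul_sum]
    refine Finset.sum_congr rfl fun h hh => ?_
    rw [← Finset.sum_filter, Finset.sum_const, nsmul_eq_mul, hfib h hh]
  rw [centralChar, indFun_one_apply, indFun_apply, hsum, inducedCentralChar,
    finsum_mem_eq_finite_toFinset_sum _ (Set.toFinite _), ← Finset.sum_div]
  have hTs : (Set.toFinite {h : H | IsConj g (h : G)}).toFinset = T := by
    ext h; simp [hT]
  rw [hTs]
  have e1 : ((Cg.index : ℂ)) * (Nat.card Cg : ℂ) = (H.index : ℂ) * (Nat.card H : ℂ) := by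
    rw [← Nat.cast_mul, ← Nat.cast_mul, Cg.index_mul_card, H.index_mul_card]
  have hH : (Nat.card H : ℂ) ≠ 0 := Nat.cast_ne_zero.2 Nat.card_pos.ne'
  have hi : (H.index : ℂ) ≠ 0 := Nat.cast_ne_zero.2 Subgroup.index_ne_zero_of_finite
  rcases eq_or_ne (ξ 1) 0 with h0 | h0
  · simp [h0]
  · rw [← hCg]
    field_simp
    linear_combination -(∑ h ∈ T, ξ h) * e1

end Cfsg.Agent.S0932
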