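import Cfsg.Statements.S0933
import Cfsg.Agent.S0932
import Cfsg.Agent.Lib.Block.Brauer

set_option autoImplicit false
open Cfsg

namespace Cfsg.Agent.S0933

open Cfsg.Agent.Block Cfsg.Agent.Char

/-- Let H be a subgroup of the finite group G and ξ an irreducible character of H such that the induced function ξ^G is an irreducible character of G. Then, relative to any maximal ideal M of the algebraic integers containing the prime p, the block of ξ induces the block of ξ^G. -/
theorem result {G : Type*} [Group G] [Fintype G] (p : ℕ) [Fact p.Prime] (M : Ideal Cfsg.AlgInt) (hM : Cfsg.IsPModular p M) (H : Subgroup G) (ξ : Cfsg.IrrCharacter H) (hind : Cfsg.IsIrrCharacter G (Cfsg.indFun H (ξ : H → ℂ))) : Cfsg.IsInducedBlock M H (Cfsg.blockOf M (ξ : H → ℂ)) (Cfsg.blockOf M (Cfsg.indFun H (ξ : H → ℂ))) := by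
  haveI := prime_of_isPModular hM
  classical
  haveI := Fintype.ofFinite H
  refine ⟨isPBlock_blockOf ξ, ⟨⟨_, hind⟩, rfl⟩, fun ξ' hξ' χ hχ g => ?_⟩
  have hc := isCentralElt_resH H (isCentralElt_classSum g)
  have hl := isLocElt_resH H (isLocElt_classSum (M := M) g)
  have h1 := omega_congr (sameBlock_symm (mem_blockOf.1 hξ')) hc hl
  rw [← inducedCentralChar_eq_omega, ← inducedCentralChar_eq_omega,
    Cfsg.Agent.S0932.result H (ξ : H → ℂ) (IsIrrCharacter.isCharacter ξ.2) g] at h1
  have h2 := mem_blockOf.1 hχ g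
  have h3 := memLocalIdeal_add h1 h2
  simpa using h3

end Cfsg.Agent.S0933
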