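import Cfsg.Statements.S0938
import Cfsg.Agent.Lib.Block.CorePrimeBlock

set_option autoImplicit false
open Cfsg

namespace Cfsg.Agent.S0938

open Cfsg.Agent.Block Cfsg.Agent.Char

/-- Let B be a block of the finite group G relative to a maximal ideal M of the algebraic integers containing the prime p, and let χ ∈ B. Then the kernel of B (the set of g with ψ g = ψ 1 for all ψ ∈ B) is a normal subgroup of order prime to p contained in the kernel of χ, and it contains every normal subgroup of order prime to p on which χ takes the value χ(1); that is, it is O_p' of the kernel of χ. -/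
theorem result {G : Type*} [Group G] [Finite G] (p : ℕ) [Fact p.Prime] (M : Ideal Cfsg.AlgInt) (hM : Cfsg.IsPModular p M) (B : Set (Cfsg.IrrCharacter G)) (hB : Cfsg.IsPBlock M B) (χ : Cfsg.IrrCharacter G) (hχ : χ ∈ B) : ∃ K : Subgroup G, K.Normal ∧ (K : Set G) = Cfsg.blockKer B ∧ ¬ p ∣ Nat.card K ∧ (∀ g ∈ K, (χ : G → ℂ) g = (χ : G → ℂ) 1) ∧ ∀ N : Subgroup G, N.Normal → ¬ p ∣ Nat.card N → (∀ g ∈ N, (χ : G → ℂ) g = (χ : G → ℂ) 1) → N ≤ K := by
  haveI := prime_of_isPModular hM
  classical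
  haveI := Fintype.ofFinite G
  have hmul : ∀ x ∈ blockKer B, ∀ y : G, ∀ ψ ∈ B, (ψ : G → ℂ) (x * y) = (ψ : G → ℂ) y :=
    fun x hx y ψ hψ => apply_mul_of_mem_kernel (IsIrrCharacter.isCharacter ψ.2) (hx ψ hψ) y
  let K : Subgroup G :=
    { carrier := blockKer B
      mul_mem' := fun {a b} ha hb ψ hψ => (hmul a ha b ψ hψ).trans (hb ψ hψ)
      one_mem' := fun ψ _ => rfl
      inv_mem' := fun {a} ha ψ hψ => by
        have := hmul a ha a⁻¹ ψ hψ
        rw [mul_inv_cancel] at this
        exact this.symm }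
  refine ⟨K, ⟨fun n hn g ψ hψ => ?_⟩, rfl, fun hdvd => ?_, fun g hg => hg χ hχ, fun N hNn hNp hker g hg ψ hψ => ?_⟩
  · rw [IsCharacter.isClassFunction (IsIrrCharacter.isCharacter ψ.2) n g]; exact hn ψ hψ
  · obtain ⟨x, hx⟩ := exists_prime_orderOf_dvd_card' p hdvd
    have hxK : ∀ ψ ∈ B, (ψ : G → ℂ) (x : G) = (ψ : G → ℂ) 1 := x.2
    have h := blockKernel_eq_zero hM hB (g := (1 : G)) (y := (x : G)) (fun e => by
      have h2 := e.2 (by rw [Subgroup.orderOf_coe, hx])
      rw [orderOf_one] at h2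
      exact (Fact.out : p.Prime).one_lt.ne' (Nat.dvd_one.1 h2))
    rw [blockKernel, finsum_mem_eq_finite_toFinset_sum _ B.toFinite,
      Finset.sum_congr rfl (g := fun ψ : IrrCharacter G => ((charDegree (ψ : G → ℂ) ^ 2 : ℕ) : ℂ))
        fun ψ hψ => by
          rw [hxK ψ ((Set.Finite.mem_toFinset _).1 hψ), ← charDegree_cast (IsIrrCharacter.isCharacter ψ.2),
            Complex.conj_natCast]
          push_cast; ring, ← Nat.cast_sum, Nat.cast_eq_zero, Finset.sum_eq_zero_iff] at h
    exact absurd (pow_eq_zero_iff two_ne_zero |>.1 (h χ ((Set.Finite.mem_toFinset _).2 hχ))) (charDegree_pos χ.2).ne'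
  · haveI := hNn
    haveI := Fintype.ofFinite N
    exact trivial_of_sameBlock hM hNp (isPBlock_sameBlock hB hχ hψ) hker g hg

end Cfsg.Agent.S0938
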