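import Cfsg.Statements.S0939
import Cfsg.Agent.S0954
import Cfsg.Agent.Lib.Local.Basic
import Cfsg.Agent.Lib.Solv.Basic

set_option autoImplicit false
open Cfsg

namespace Cfsg.Agent.S0939

open Cfsg.Agent.Block Cfsg.Agent.Char

/-- Let G be a finite group with a normal p-complement (the largest normal subgroup O_p'(G) of order prime to p has p-power index). Then, relative to any maximal ideal M of the algebraic integers containing p, the principal block of G is the set of irreducible characters χ with χ n = χ 1 for every n ∈ O_p'(G). -/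
theorem result {G : Type*} [Group G] [Finite G] (p : ℕ) [Fact p.Prime] (M : Ideal Cfsg.AlgInt) (hM : Cfsg.IsPModular p M) (hnc : ∃ k : ℕ, (Cfsg.pPrimeCore p G).index = p ^ k) : Cfsg.principalBlock M G = {χ : Cfsg.IrrCharacter G | ∀ n ∈ Cfsg.pPrimeCore p G, (χ : G → ℂ) n = (χ : G → ℂ) 1} := by
  haveI := prime_of_isPModular hM
  classical
  haveI := Fintype.ofFinite G
  haveI := Cfsg.Agent.Solv.pPrimeCore_characteristic p G
  haveI := Fintype.ofFinite (pPrimeCore p G)
  have hN : ¬ p ∣ Nat.card (pPrimeCore p G) := Cfsg.Agent.Local.not_dvd_card_pPrimeCore Fact.out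
  ext χ
  refine ⟨fun h => trivial_of_sameBlock hM hN (χ := ⟨fun _ => 1, isIrrCharacter_one⟩) h (fun n _ => rfl), fun h => ?_⟩
  exact (Cfsg.Agent.S0954.result p M hM (pPrimeCore p G) hN hnc ⟨fun _ => 1, isIrrCharacter_one⟩ χ).2
    ⟨⟨fun _ => 1, isIrrCharacter_one⟩, (classInner_one_ne_zero_iff _).2 (fun n _ => rfl), (classInner_one_ne_zero_iff χ).2 h⟩

end Cfsg.Agent.S0939
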