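import Cfsg.Statements.S0941
import Cfsg.Agent.Lib.Block.CentralExtDefect
import Cfsg.Agent.Lib.Block.CentralQuotientBlock
import Cfsg.Agent.Lib.Block.PPart

set_option autoImplicit false
open Cfsg

namespace Cfsg.Agent.S0941

open Cfsg.Agent.Block Cfsg.Agent.Char

/-- Let P be a normal p-subgroup of the finite group G such that the index of C_G(P) is a power of p, and fix a maximal ideal M of the algebraic integers containing p. Then (i) two irreducible characters of G ⧸ P lie in the same block if and only if their inflations to G do, and (ii) every block of G contains the inflation of some irreducible character of G ⧸ P; so inflation induces a bijection between the blocks of G ⧸ P and the blocks of G. -/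
theorem result {G : Type*} [Group G] [Finite G] (p : ℕ) [Fact p.Prime] (M : Ideal Cfsg.AlgInt) (hM : Cfsg.IsPModular p M) (P : Subgroup G) [P.Normal] (hP : IsPGroup p P) (hC : ∃ k : ℕ, (Subgroup.centralizer (P : Set G)).index = p ^ k) : (∀ χ ψ : Cfsg.IrrCharacter (G ⧸ P), Cfsg.SameBlock M (χ : G ⧸ P → ℂ) (ψ : G ⧸ P → ℂ) ↔ Cfsg.SameBlock M ((χ : G ⧸ P → ℂ) ∘ QuotientGroup.mk) ((ψ : G ⧸ P → ℂ) ∘ QuotientGroup.mk)) ∧ ∀ B : Set (Cfsg.IrrCharacter G), Cfsg.IsPBlock M B → ∃ χ : Cfsg.IrrCharacter (G ⧸ P), ∃ θ ∈ B, (θ : G → ℂ) = (χ : G ⧸ P → ℂ) ∘ QuotientGroup.mk := by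
  haveI := prime_of_isPModular hM
  classical
  haveI := Fintype.ofFinite G
  haveI := Fintype.ofFinite P
  have hp : p.Prime := Fact.out
  haveI : (Subgroup.centralizer (P : Set G)).Normal := Subgroup.normal_centralizer
  obtain ⟨k, hk⟩ := hC
  have hregC : ∀ g : G, ¬ p ∣ orderOf g → g ∈ Subgroup.centralizer (P : Set G) := by
    intro g hg
    refine (QuotientGroup.eq_one_iff g).1 (orderOf_eq_one_iff.1 (Nat.eq_one_of_dvd_one ?_))
    have h1 : orderOf (g : G ⧸ Subgroup.centralizer (P : Set G)) ∣ p ^ k := by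
      rw [← hk, Subgroup.index_eq_card]; exact orderOf_dvd_natCard _
    have h2 : orderOf (g : G ⧸ Subgroup.centralizer (P : Set G)) ∣ orderOf g :=
      orderOf_map_dvd (QuotientGroup.mk' _) g
    rw [← ((hp.coprime_iff_not_dvd.2 hg).pow_left k)]
    exact Nat.dvd_gcd h1 h2
  have hcent : ∀ g : G, ¬ p ∣ orderOf g → (Subgroup.centralizer ({(g : G ⧸ P)} : Set (G ⧸ P))).index =
      (Subgroup.centralizer ({g} : Set G)).index := by
    intro g hg
    have hcomap : (Subgroup.centralizer ({(g : G ⧸ P)} : Set (G ⧸ P))).comap (QuotientGroup.mk' P) =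
        Subgroup.centralizer ({g} : Set G) := by
      ext c
      rw [Subgroup.mem_comap, mem_centralizer_singleton, mem_centralizer_singleton]
      refine ⟨fun h => ?_, fun h => h.map (QuotientGroup.mk' P)⟩
      have h1 : (g : G)⁻¹ * (c * g * c⁻¹) ∈ P := by
        rw [← QuotientGroup.eq_one_iff]
        have h2 : (c : G ⧸ P) * (g : G ⧸ P) = (g : G ⧸ P) * (c : G ⧸ P) := by
          first
            | exact h.eq
            | exact h.symm.eq
        simp only [QuotientGroup.mk_mul, QuotientGroup.mk_inv]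
        rw [h2]; group
      set u := (g : G)⁻¹ * (c * g * c⁻¹) with hu
      have hgu : c * g * c⁻¹ = g * u := by rw [hu, mul_inv_cancel_left]
      have hcomm : Commute g u := (Subgroup.mem_centralizer_iff.1 (hregC g hg) u h1).symm
      have hreg' : ¬ p ∣ orderOf (g * u) := by rw [← hgu, orderOf_conj_eq]; exact hg
      obtain ⟨j, hj⟩ := IsPGroup.iff_orderOf.1 hP ⟨u, h1⟩
      rw [Subgroup.orderOf_mk] at hj
      have hcop : Nat.Coprime (orderOf g) (orderOf u) := by
        rw [hj]; exact ((hp.coprime_iff_not_dvd.2 hg).symm).pow_right j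
      rw [hcomm.orderOf_mul_eq_mul_orderOf_of_coprime hcop, hj] at hreg'
      have hj0 : j = 0 := by
        by_contra hj0
        exact hreg' (dvd_mul_of_dvd_right (dvd_pow_self p hj0) _)
      rw [hj0, pow_zero, orderOf_eq_one_iff] at hj
      rw [hj, mul_one, mul_inv_eq_iff_eq_mul] at hgu
      first
        | exact hgu
        | exact hgu.symm
    rw [← hcomap, Subgroup.index_comap_of_surjective _ (QuotientGroup.mk'_surjective P)]
  have hω : ∀ (χ : IrrCharacter (G ⧸ P)) (g : G), ¬ p ∣ orderOf g →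
      centralChar ((χ : G ⧸ P → ℂ) ∘ QuotientGroup.mk) g = centralChar (χ : G ⧸ P → ℂ) (g : G ⧸ P) := by
    intro χ g hg
    simp only [centralChar, Function.comp_apply, QuotientGroup.mk_one, hcent g hg]
  refine ⟨fun χ ψ => ?_, fun B hB => ?_⟩
  · let χ' : IrrCharacter G := ⟨_, isIrrCharacter_comp_surjective (QuotientGroup.mk' P) QuotientGroup.mk_surjective χ.2⟩
    let ψ' : IrrCharacter G := ⟨_, isIrrCharacter_comp_surjective (QuotientGroup.mk' P) QuotientGroup.mk_surjective ψ.2⟩
    have hreg : ∀ {X : Type _} [Group X] [Finite X] (α β : IrrCharacter X),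
        (∀ x : X, ¬ p ∣ orderOf x → MemLocalIdeal M (centralChar (α : X → ℂ) x - centralChar (β : X → ℂ) x)) →
        SameBlock M (α : X → ℂ) (β : X → ℂ) := by
      intro X _ _ α β h
      haveI := Fintype.ofFinite (ConjClasses X)
      by_contra hns
      have hB : IsPBlock M (blockOf M (α : X → ℂ)) := isPBlock_blockOf α
      have h1 : MemLocalIdeal M (omega (α : X → ℂ) (blockIdem (blockOf M (α : X → ℂ))) -
          omega (β : X → ℂ) (blockIdem (blockOf M (α : X → ℂ)))) := by
        rw [omega_eq_sum_classes α (isCentralElt_blockIdem _), omega_eq_sum_classes β (isCentralElt_blockIdem _),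
          ← Finset.sum_sub_distrib]
        refine memLocalIdeal_sum _ _ fun C _ => ?_
        rw [← mul_sub, blockIdem, coeff_mkA]
        by_cases hC : p ∣ orderOf (classRep C)
        · rw [blockCoeff_eq_zero_of_dvd hM hB hC, zero_mul]; exact memLocalIdeal_zero
        · exact memLocalIdeal_mul_left (blockCoeff_mem_locRing hB _) (h _ hC)
      rw [omega_blockIdem, omega_blockIdem, if_pos (self_mem_blockOf α),
        if_neg (show β ∉ blockOf M (α : X → ℂ) from fun hm => hns hm), sub_zero] at h1
      exact not_memLocalIdeal_one h1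
    constructor
    · intro h
      refine hreg χ' ψ' fun g hg => ?_
      show MemLocalIdeal M (centralChar ((χ : G ⧸ P → ℂ) ∘ QuotientGroup.mk) g - centralChar ((ψ : G ⧸ P → ℂ) ∘ QuotientGroup.mk) g)
      rw [hω χ g hg, hω ψ g hg]
      exact h _
    · intro h
      refine hreg χ ψ fun q hq => ?_
      obtain ⟨g, rfl⟩ := QuotientGroup.mk_surjective q
      obtain ⟨x, y, hxy, hc, hxk, hy, -, -⟩ := exists_isPPart hp g
      have hq' : (g : G ⧸ P) = (y : G ⧸ P) := by
        obtain ⟨j, hj⟩ := hxk
        have hpart : IsPPart p (g : G ⧸ P) (x : G ⧸ P) := by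
          refine ⟨(y : G ⧸ P), by rw [← QuotientGroup.mk_mul, hxy], hc.map (QuotientGroup.mk' P), ?_, fun hd => hy (hd.trans (orderOf_map_dvd (QuotientGroup.mk' P) y))⟩
          obtain ⟨i, -, hi⟩ := (Nat.dvd_prime_pow hp).1 (hj ▸ orderOf_map_dvd (QuotientGroup.mk' P) x)
          exact ⟨i, hi⟩
        have h1 := isPPart_unique hp hpart ((isPPart_one_iff hp).2 hq)
        rw [← hxy, QuotientGroup.mk_mul, h1, one_mul]
      rw [hq', ← hω χ y hy, ← hω ψ y hy]
      exact h y
  · obtain ⟨-, θ, hθ, hker⟩ := exists_mem_ker_normal (P := P) hM hP hB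
    obtain ⟨φ, hφ⟩ := exists_factor_quotient P θ fun g hg y =>
      apply_mul_of_mem_kernel (IsIrrCharacter.isCharacter θ.2) (hker g hg) y
    exact ⟨φ, θ, hθ, funext fun g => (hφ g).symm⟩

end Cfsg.Agent.S0941
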