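import Cfsg.Statements.S0942
import Cfsg.Agent.Lib.Block.Columns
import Cfsg.Agent.Lib.Block.PrincipalKernel
import Cfsg.Agent.Lib.Block.DefectOne
import Cfsg.Agent.Lib.Local.Basic
import Cfsg.Agent.Lib.Solv.Basic

set_option autoImplicit false
open Cfsg

namespace Cfsg.Agent.S0942

open Cfsg.Agent.Block Cfsg.Agent.Char

/-- Let u be a p-element of the finite group G, let v lie in the largest normal subgroup of C_G(u) of order prime to p, and let χ belong to the principal block (relative to a maximal ideal M of the algebraic integers containing p). Then χ (u * v) = χ u. -/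
theorem result {G : Type*} [Group G] [Finite G] (p : ℕ) [Fact p.Prime] (M : Ideal Cfsg.AlgInt) (hM : Cfsg.IsPModular p M) (u : G) (hu : ∃ k : ℕ, orderOf u = p ^ k) (v : G) (hv : v ∈ Cfsg.centralizerPPrimeCore p u) (χ : Cfsg.IrrCharacter G) (hχ : χ ∈ Cfsg.principalBlock M G) : (χ : G → ℂ) (u * v) = (χ : G → ℂ) u := by
  haveI := prime_of_isPModular hM
  classical
  haveI := Fintype.ofFinite G
  obtain ⟨w, hw, rfl⟩ := Subgroup.mem_map.1 hv
  have hB : IsPBlock M (principalBlock M G) := ⟨⟨fun _ => 1, isIrrCharacter_one⟩, rfl⟩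
  have hcl := IsCharacter.isClassFunction (IsIrrCharacter.isCharacter χ.2)
  have hp : p.Prime := Fact.out
  have hnot := Cfsg.Agent.Local.not_dvd_card_pPrimeCore (G := Subgroup.centralizer ({u} : Set G)) hp
  have hwreg : ¬ p ∣ orderOf w := fun h => hnot (h.trans (by
    have := orderOf_dvd_natCard (⟨w, hw⟩ : pPrimeCore p (Subgroup.centralizer ({u} : Set G)))
    rwa [Subgroup.orderOf_mk] at this))
  have h1reg : ¬ p ∣ orderOf (1 : Subgroup.centralizer ({u} : Set G)) := by
    rw [orderOf_one]; exact hp.not_dvd_one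
  have hA := blockPart_mul_eq_sum_local hM hu hB hcl hwreg
  have hB' := blockPart_mul_eq_sum_local hM hu hB hcl h1reg
  rw [localBlocks_principal hM hu, Finset.sum_singleton, blockPart_self hχ] at hA hB'
  rw [Subgroup.coe_one, mul_one] at hB'
  show (χ : G → ℂ) (u * (w : G)) = _
  rw [hA, hB', blockPart, blockPart]
  refine finsum_congr fun ψ => ?_
  congr 1
  funext hψ
  rw [apply_eq_one_of_mem_principal hM (pPrimeCore p (Subgroup.centralizer ({u} : Set G))) hnot hψ hw]

end Cfsg.Agent.S0942
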