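import Cfsg.Statements.S0943
import Cfsg.Agent.Lib.Block.Omega
import Cfsg.Agent.Lib.Char.Orthogonality
import Cfsg.Agent.Lib.Block.Regular

set_option autoImplicit false
open Cfsg

namespace Cfsg.Agent.S0943

open Cfsg.Agent.Block Cfsg.Agent.Char

/-- Let χ be an irreducible character of the finite group G and u, v ∈ G. If χ (x * y) = χ (u * v) whenever x is conjugate to u and y is conjugate to v, then χ u * χ v = χ 1 * χ (u * v). (Multiply the class sums of u and v and apply the central character of χ.) -/
theorem result {G : Type*} [Group G] [Finite G] (χ : Cfsg.IrrCharacter G) (u v : G) (hc : ∀ x y : G, IsConj u x → IsConj v y → (χ : G → ℂ) (x * y) = (χ : G → ℂ) (u * v)) : (χ : G → ℂ) u * (χ : G → ℂ) v = (χ : G → ℂ) 1 * (χ : G → ℂ) (u * v) := by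
  classical
  haveI := Fintype.ofFinite G
  set Cu := Finset.univ.filter (fun x : G => IsConj u x) with hCu
  set Cv := Finset.univ.filter (fun y : G => IsConj v y) with hCv
  have hsum : ∀ g : G, classSum g = ∑ x ∈ Finset.univ.filter (fun x : G => IsConj g x), MonoidAlgebra.single x (1 : ℂ) := by
    intro g
    refine MonoidAlgebra.ext (Finsupp.ext fun z => ?_)
    simp [classSum, Finsupp.finsetSum_apply, Finsupp.single_apply, Finset.sum_ite_eq', MonoidAlgebra.coeff_single]
  have hsingle : ∀ z : G, omega (χ : G → ℂ) (MonoidAlgebra.single z (1 : ℂ)) = (χ : G → ℂ) z / (χ : G → ℂ) 1 := by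
    intro z
    simp [omega_eq_sum, MonoidAlgebra.coeff_single, Finsupp.single_apply]
  have hcard : ∀ g : G, ((Finset.univ.filter (fun x : G => IsConj g x)).card : ℂ) =
      ((Subgroup.centralizer ({g} : Set G)).index : ℂ) := by
    intro g
    rw [← card_isConj_eq_index, Nat.card_eq_fintype_card, Fintype.card_subtype]
  have h := omega_mul χ (isCentralElt_classSum u) (isCentralElt_classSum v)
  rw [omega_classSum, omega_classSum, hsum u, hsum v, Finset.sum_mul, omega_sum,
    Finset.sum_congr rfl (g := fun _ => ∑ _y ∈ Cv, (χ : G → ℂ) (u * v) / (χ : G → ℂ) 1) (fun x hx => by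
      rw [Finset.mul_sum, omega_sum]
      refine Finset.sum_congr rfl fun y hy => ?_
      rw [MonoidAlgebra.single_mul_single, one_mul, hsingle,
        hc x y (Finset.mem_filter.1 hx).2 (Finset.mem_filter.1 hy).2])] at h
  simp only [Finset.sum_const, nsmul_eq_mul, hCv, hcard, centralChar] at h
  have h1 := IsIrrCharacter.apply_one_ne_zero χ.2
  have h2 : ((Subgroup.centralizer ({u} : Set G)).index : ℂ) ≠ 0 := Nat.cast_ne_zero.2 Subgroup.index_ne_zero_of_finite
  have h3 : ((Subgroup.centralizer ({v} : Set G)).index : ℂ) ≠ 0 := Nat.cast_ne_zero.2 Subgroup.index_ne_zero_of_finite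
  field_simp at h
  first
    | linear_combination h
    | linear_combination -h

end Cfsg.Agent.S0943
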