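import Cfsg.Statements.S0944
import Cfsg.Agent.Lib.Block.Regular

set_option autoImplicit false
open Cfsg

namespace Cfsg.Agent.S0944

open Cfsg.Agent.Block Cfsg.Agent.Char

/-- Let χ be an irreducible character of the finite group G and u an involution. Then χ u is a rational integer n with n ≡ χ 1 (mod 2). -/
theorem result {G : Type*} [Group G] [Finite G] (χ : Cfsg.IrrCharacter G) (u : G) (hu : orderOf u = 2) : ∃ n : ℤ, (χ : G → ℂ) u = (n : ℂ) ∧ (2 : ℤ) ∣ (Cfsg.charDegree (χ : G → ℂ) : ℤ) - n := by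
  classical
  obtain ⟨n, ρ, -, hρ⟩ := χ.2
  rw [← hρ]
  have hu2 : u ^ 2 = 1 := hu ▸ pow_orderOf_eq_one u
  set f : Module.End ℂ (Fin n → ℂ) := ρ u with hf
  have hf2 : f * f = 1 := by rw [hf, ← map_mul, ← pow_two, hu2, map_one]
  set P : Module.End ℂ (Fin n → ℂ) := (2 : ℂ)⁻¹ • (1 + f) with hP
  have hidem : IsIdempotentElem P := by
    show P * P = P
    rw [hP, smul_mul_smul_comm, mul_add, add_mul, add_mul, one_mul, mul_one, hf2, one_mul]
    module
  have htr : LinearMap.trace ℂ (Fin n → ℂ) P = (Module.finrank ℂ (LinearMap.range P) : ℂ) :=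
    (LinearMap.IsIdempotentElem.isProj_range P hidem).trace
  refine ⟨2 * (Module.finrank ℂ (LinearMap.range P) : ℤ) - n, ?_, ?_⟩
  · have h2 : (LinearMap.trace ℂ (Fin n → ℂ)) f = 2 * (LinearMap.trace ℂ (Fin n → ℂ) P) - (n : ℂ) := by
      rw [hP, map_smul, map_add, LinearMap.trace_one, Module.finrank_fin_fun, smul_eq_mul]
      ring
    show (LinearMap.trace ℂ (Fin n → ℂ)) f = _
    rw [h2, htr]
    push_cast
    ring
  · have hd : charDegree ρ.character = n := by
      rw [charDegree, ρ.char_one, Module.finrank_fin_fun]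
      simp
    rw [hd]
    exact ⟨(n : ℤ) - (Module.finrank ℂ (LinearMap.range P) : ℤ), by ring⟩

end Cfsg.Agent.S0944
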