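import Cfsg.Statements.S0945
import Cfsg.Agent.Lib.Block.SmallTwoFusion

set_option autoImplicit false
open Cfsg

namespace Cfsg.Agent.S0945

open Cfsg.Agent.Block

/-- Let P be a Sylow 2-subgroup of the finite group G isomorphic to Z/2^m × Z/2^m with m ≥ 1. Then (i) the index of C_G(P) in N_G(P) is 1 or 3, and (ii) if it is not 1, then for every z ≠ 1 in P, C_G(z) ∩ N_G(P) = C_G(P). -/
theorem result {G : Type*} [Group G] [Finite G] (P : Sylow 2 G) (m : ℕ) (hm : 1 ≤ m) (e : (P : Subgroup G) ≃* Multiplicative (ZMod (2 ^ m) × ZMod (2 ^ m))) : ((Subgroup.centralizer (P : Set G)).relIndex (Subgroup.normalizer (P : Set G)) = 1 ∨ (Subgroup.centralizer (P : Set G)).relIndex (Subgroup.normalizer (P : Set G)) = 3) ∧ ((Subgroup.centralizer (P : Set G)).relIndex (Subgroup.normalizer (P : Set G)) ≠ 1 → ∀ z ∈ (P : Subgroup G), z ≠ 1 → Subgroup.centralizer ({z} : Set G) ⊓ Subgroup.normalizer (P : Set G) = Subgroup.centralizer (P : Set G)) := by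
  have hab := SmallTwo.comm_homocyclic P e
  have hI := SmallTwo.ncard_invSet_homocyclic hm P e
  refine ⟨SmallTwo.relIndex_eq hab hI, fun _ z hz hz1 => le_antisymm ?_ ?_⟩
  · intro g hg
    obtain ⟨hgz, hgN⟩ := Subgroup.mem_inf.1 hg
    obtain ⟨k, hk⟩ := P.isPGroup' ⟨z, hz⟩
    haveI : Fact (Nat.Prime 2) := ⟨Nat.prime_two⟩
    obtain ⟨i, -, hi⟩ := (Nat.dvd_prime_pow Nat.prime_two).1 (orderOf_dvd_of_pow_eq_one (show z ^ 2 ^ k = 1 by
      simpa using congrArg Subtype.val hk))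
    obtain ⟨i', rfl⟩ : ∃ i', i = i' + 1 := ⟨i - 1, by
      rcases Nat.eq_zero_or_pos i with rfl | h
      · exact absurd (orderOf_eq_one_iff.1 (by simpa using hi)) hz1
      · omega⟩
    have ht : z ^ 2 ^ i' ∈ SmallTwo.invSet P := ⟨pow_mem hz _, by
      rw [orderOf_pow, hi, Nat.gcd_eq_right (pow_dvd_pow 2 (Nat.le_succ _)), pow_succ,
        Nat.mul_div_cancel_left _ (by positivity)]⟩
    refine SmallTwo.mem_centralizer_of_fix hab hI hgN ht ?_
    have hc : g * z = z * g := Subgroup.mem_centralizer_singleton_iff.1 hgz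
    rw [← conj_pow, hc, mul_inv_cancel_right]
  · intro g hg
    refine Subgroup.mem_inf.2 ⟨Subgroup.mem_centralizer_singleton_iff.2
      (Subgroup.mem_centralizer_iff.1 hg z hz).symm, Subgroup.centralizer_le_normalizer _ hg⟩

end Cfsg.Agent.S0945
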