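import Cfsg.Statements.S0947
import Cfsg.Agent.Lib.Block.NormalComplement

set_option autoImplicit false
open Cfsg

namespace Cfsg.Agent.S0947

open Cfsg.Agent.Block Cfsg.Agent.Char

/-- Let z ≠ 1 be a p-element of the finite group G with centralizer H, and fix a maximal ideal M of the algebraic integers containing p. (i) For every y ∈ H of order prime to p, the sum over ζ in the principal block of G of |ζ (z * y)|² equals the sum over χ in the principal block of H of |χ y|². (ii) If moreover H has a normal p-complement (its largest normal subgroup of order prime to p has p-power index), that common value is the largest power of p dividing the order of H. -/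
theorem result {G : Type*} [Group G] [Finite G] (p : ℕ) [Fact p.Prime] (M : Ideal Cfsg.AlgInt) (hM : Cfsg.IsPModular p M) (z : G) (hz : ∃ k : ℕ, orderOf z = p ^ k) (hz1 : z ≠ 1) (y : Subgroup.centralizer ({z} : Set G)) (hy : ¬ p ∣ orderOf y) : (∑ᶠ ζ ∈ Cfsg.principalBlock M G, ‖(ζ : G → ℂ) (z * (y : G))‖ ^ 2 = ∑ᶠ χ ∈ Cfsg.principalBlock M (Subgroup.centralizer ({z} : Set G)), ‖(χ : Subgroup.centralizer ({z} : Set G) → ℂ) y‖ ^ 2) ∧ ((∃ k : ℕ, (Cfsg.pPrimeCore p (Subgroup.centralizer ({z} : Set G))).index = p ^ k) → ∑ᶠ ζ ∈ Cfsg.principalBlock M G, ‖(ζ : G → ℂ) (z * (y : G))‖ ^ 2 = ((p ^ (Nat.card (Subgroup.centralizer ({z} : Set G))).factorization p : ℕ) : ℝ)) := by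
  classical
  haveI := prime_of_isPModular hM
  haveI := Fintype.ofFinite G
  haveI := Fintype.ofFinite (Subgroup.centralizer ({z} : Set G))
  have hnorm : ∀ {X : Type _} [Group X] [Finite X] (B : Set (Cfsg.IrrCharacter X)) (x : X),
      ((∑ᶠ χ ∈ B, ‖(χ : X → ℂ) x‖ ^ 2 : ℝ) : ℂ) = blockKernel B x x := fun B x => by
    rw [blockKernel, finsum_mem_eq_finite_toFinset_sum _ B.toFinite,
      finsum_mem_eq_finite_toFinset_sum _ B.toFinite, Complex.ofReal_sum]
    exact Finset.sum_congr rfl fun χ _ => by rw [Complex.mul_conj']; push_cast; rfl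
  have hB : Cfsg.IsPBlock M (Cfsg.principalBlock M G) := ⟨⟨fun _ => 1, isIrrCharacter_one⟩, rfl⟩
  have h1 : blockKernel (Cfsg.principalBlock M G) (z * (y : G)) (z * (y : G)) =
      blockKernel (Cfsg.principalBlock M (Subgroup.centralizer ({z} : Set G))) y y := by
    rw [blockKernel_section hM hz hB hy hy, localBlocks_principal hM hz, Finset.sum_singleton]
  refine ⟨Complex.ofReal_injective (by rw [hnorm, hnorm, h1]), fun hc => Complex.ofReal_injective ?_⟩
  rw [hnorm, h1, Complex.ofReal_natCast]
  have h2 := card_mul_blockKernel_principal hM (regular_iff_mem_pPrimeCore hc)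
    ((regular_iff_mem_pPrimeCore hc y).2 hy)
  refine mul_left_cancel₀ (Nat.cast_ne_zero.2 (Nat.card_pos (α := Cfsg.pPrimeCore p (Subgroup.centralizer ({z} : Set G)))).ne') (h2.trans ?_)
  rw [← index_eq_ordProj_of_regular hc, ← Nat.cast_mul, Subgroup.card_mul_index]

end Cfsg.Agent.S0947
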