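import Cfsg.Statements.S0948
import Cfsg.Agent.Lib.Block.KleinBlock

set_option autoImplicit false
open Cfsg

namespace Cfsg.Agent.S0948

open Cfsg.Agent.Block Cfsg.Agent.Char

/-- Let the finite group G have a Sylow 2-subgroup P that is a Klein four-group, suppose all involutions of G are conjugate, and fix a maximal ideal M of the algebraic integers containing 2. Then the principal block consists of exactly four irreducible characters, the principal character and ζ₂, ζ₃, ζ₄, and there is a sign ε such that for every involution z: ζ₂ z = 1, ζ₃ z = ε, ζ₄ z = -1; moreover ζ₂ 1 ≡ 1, ζ₃ 1 ≡ ε, ζ₄ 1 ≡ -1 (mod 4), and 1 + ζ₂ y + ε ζ₃ y - ζ₄ y = 0 for every y of odd order. -/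
theorem result {G : Type*} [Group G] [Finite G] (M : Ideal Cfsg.AlgInt) (hM : Cfsg.IsPModular 2 M) (P : Sylow 2 G) (hP : IsKleinFour (P : Subgroup G)) (hone : ∀ s t : G, orderOf s = 2 → orderOf t = 2 → IsConj s t) : ∃ ζ₂ ζ₃ ζ₄ : Cfsg.IrrCharacter G, ∃ ε : ℤ, (ε = 1 ∨ ε = -1) ∧ (ζ₂ : G → ℂ) ≠ (fun _ => 1) ∧ (ζ₃ : G → ℂ) ≠ (fun _ => 1) ∧ ζ₂ ≠ ζ₃ ∧ ζ₂ ≠ ζ₄ ∧ ζ₃ ≠ ζ₄ ∧ Cfsg.principalBlock M G = {χ : Cfsg.IrrCharacter G | (χ : G → ℂ) = (fun _ => 1) ∨ χ = ζ₂ ∨ χ = ζ₃ ∨ χ = ζ₄} ∧ (∀ z : G, orderOf z = 2 → (ζ₂ : G → ℂ) z = 1 ∧ (ζ₃ : G → ℂ) z = (ε : ℂ) ∧ (ζ₄ : G → ℂ) z = -1) ∧ (4 : ℤ) ∣ (Cfsg.charDegree (ζ₂ : G → ℂ) : ℤ) - 1 ∧ (4 : ℤ) ∣ (Cfsg.charDegree (ζ₃ : G → ℂ) : ℤ) - ε ∧ (4 : ℤ) ∣ (Cfsg.charDegree (ζ₄ : G → ℂ) : ℤ) + 1 ∧ ∀ y : G, Odd (orderOf y) → 1 + (ζ₂ : G → ℂ) y + (ε : ℂ) * (ζ₃ : G → ℂ) y - (ζ₄ : G → ℂ) y = 0 := by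
  classical
  haveI : Fact (Nat.Prime 2) := ⟨Nat.prime_two⟩
  haveI := Fintype.ofFinite G
  haveI := prime_of_isPModular hM
  have hP4 : Nat.card P = 4 := hP.card_four
  have hexp : ∀ x : P, x * x = 1 := fun x => by
    have h2 : (x : (P : Subgroup G)) ^ Monoid.exponent (P : Subgroup G) = 1 := Monoid.pow_exponent_eq_one x
    rw [hP.exponent_two, pow_two] at h2
    exact h2
  obtain ⟨x, hx⟩ : ∃ x : P, x ≠ 1 := by
    have : Nontrivial P := Finite.one_lt_card_iff_nontrivial.1 (by rw [hP4]; norm_num)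
    exact exists_ne 1
  have hz : orderOf (x : G) = 2 := orderOf_eq_prime (by rw [pow_two]; exact congrArg Subtype.val (hexp x))
    (fun h => hx (Subtype.ext h))
  obtain ⟨h4, -, hval⟩ := principal_klein hM hP4 hexp hone hz
  set B := Cfsg.principalBlock M G with hBdef
  let one : Cfsg.IrrCharacter G := ⟨fun _ => 1, isIrrCharacter_one⟩
  have h1B : one ∈ B := sameBlock_refl _
  have hB : Cfsg.IsPBlock M B := ⟨one, rfl⟩
  have hzero : ∀ y : G, ¬ 2 ∣ orderOf y →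
      ∑ χ ∈ B.toFinite.toFinset, (χ : G → ℂ) y * (χ : G → ℂ) x = 0 := by
    intro y hy
    have h := blockKernel_eq_zero hM hB (g := y) (y := (x : G)) (fun e => hy (e.2 (by rw [hz])))
    rw [blockKernel, finsum_mem_eq_finite_toFinset_sum _ B.toFinite] at h
    refine Eq.trans (Finset.sum_congr rfl fun χ hχ => ?_) h
    obtain ⟨v, -, hv, -⟩ := hval χ (B.toFinite.mem_toFinset.1 hχ)
    rw [hv, map_intCast]
  have hcard : (B.toFinite.toFinset.erase one).card = 3 := by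
    rw [Finset.card_erase_of_mem (B.toFinite.mem_toFinset.2 h1B), ← Set.ncard_eq_toFinset_card,
      ← Nat.card_coe_set_eq, h4]
  obtain ⟨a, b, c, hab, hac, hbc, heq⟩ := Finset.card_eq_three.1 hcard
  have hins : B.toFinite.toFinset = {one, a, b, c} := by
    rw [← heq, Finset.insert_erase (B.toFinite.mem_toFinset.2 h1B)]
  have hmem : ∀ χ ∈ ({a, b, c} : Finset _), χ ∈ B ∧ χ ≠ one := fun χ hχ => by
    rw [← heq, Finset.mem_erase, Set.Finite.mem_toFinset] at hχ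
    exact hχ.symm
  obtain ⟨ha, ha1⟩ := hmem a (by simp)
  obtain ⟨hb, hb1⟩ := hmem b (by simp)
  obtain ⟨hc, hc1⟩ := hmem c (by simp)
  have hrel : ∀ y : G, ¬ 2 ∣ orderOf y →
      1 + (a : G → ℂ) y * (a : G → ℂ) x + (b : G → ℂ) y * (b : G → ℂ) x + (c : G → ℂ) y * (c : G → ℂ) x = 0 := by
    intro y hy
    have h := hzero y hy
    rw [hins, Finset.sum_insert (by simp [ha1.symm, hb1.symm, hc1.symm]),
      Finset.sum_insert (by simp [hab, hac]), Finset.sum_pair hbc] at h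
    simp only [one, mul_one] at h
    linear_combination h
  obtain ⟨va, hva, hxa, h4a⟩ := hval a ha
  obtain ⟨vb, hvb, hxb, h4b⟩ := hval b hb
  obtain ⟨vc, hvc, hxc, h4c⟩ := hval c hc
  have hdeg : 1 + (Cfsg.charDegree (a : G → ℂ) : ℤ) * va + (Cfsg.charDegree (b : G → ℂ) : ℤ) * vb
      + (Cfsg.charDegree (c : G → ℂ) : ℤ) * vc = 0 := by
    have h := hrel 1 (by simp)
    rw [← charDegree_cast (IsIrrCharacter.isCharacter a.2), ← charDegree_cast (IsIrrCharacter.isCharacter b.2),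
      ← charDegree_cast (IsIrrCharacter.isCharacter c.2), hxa, hxb, hxc] at h
    exact_mod_cast h
  have go : ∀ (ζ₂ ζ₃ ζ₄ : Cfsg.IrrCharacter G) (ε : ℤ), ({ζ₂, ζ₃, ζ₄} : Finset (Cfsg.IrrCharacter G)) = {a, b, c} →
      ζ₂ ≠ ζ₃ → ζ₂ ≠ ζ₄ → ζ₃ ≠ ζ₄ → (ε = 1 ∨ ε = -1) → (ζ₂ : G → ℂ) x = 1 → (ζ₃ : G → ℂ) x = (ε : ℂ) →
      (ζ₄ : G → ℂ) x = -1 →
      (4 : ℤ) ∣ (Cfsg.charDegree (ζ₂ : G → ℂ) : ℤ) - 1 → (4 : ℤ) ∣ (Cfsg.charDegree (ζ₃ : G → ℂ) : ℤ) - ε →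
      (4 : ℤ) ∣ (Cfsg.charDegree (ζ₄ : G → ℂ) : ℤ) + 1 →
      ∃ ζ₂ ζ₃ ζ₄ : Cfsg.IrrCharacter G, ∃ ε : ℤ, (ε = 1 ∨ ε = -1) ∧ (ζ₂ : G → ℂ) ≠ (fun _ => 1) ∧ (ζ₃ : G → ℂ) ≠ (fun _ => 1) ∧ ζ₂ ≠ ζ₃ ∧ ζ₂ ≠ ζ₄ ∧ ζ₃ ≠ ζ₄ ∧ Cfsg.principalBlock M G = {χ : Cfsg.IrrCharacter G | (χ : G → ℂ) = (fun _ => 1) ∨ χ = ζ₂ ∨ χ = ζ₃ ∨ χ = ζ₄} ∧ (∀ z : G, orderOf z = 2 → (ζ₂ : G → ℂ) z = 1 ∧ (ζ₃ : G → ℂ) z = (ε : ℂ) ∧ (ζ₄ : G → ℂ) z = -1) ∧ (4 : ℤ) ∣ (Cfsg.charDegree (ζ₂ : G → ℂ) : ℤ) - 1 ∧ (4 : ℤ) ∣ (Cfsg.charDegree (ζ₃ : G → ℂ) : ℤ) - ε ∧ (4 : ℤ) ∣ (Cfsg.charDegree (ζ₄ : G → ℂ) : ℤ) + 1 ∧ ∀ y : G, Odd (orderOf y) → 1 + (ζ₂ : G → ℂ) y + (ε : ℂ) * (ζ₃ : G → ℂ) y - (ζ₄ : G → ℂ) y = 0 := by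
    intro u w t ε hset huw hut hwt hε hu hw ht d2 d3 d4
    have hm : ∀ χ ∈ ({u, w, t} : Finset (Cfsg.IrrCharacter G)), (χ : G → ℂ) ≠ fun _ => 1 := fun χ hχ => by
      rw [hset] at hχ
      exact fun h => (hmem χ hχ).2 (Subtype.ext h)
    refine ⟨u, w, t, ε, hε, hm u (by simp), hm w (by simp), huw, hut, hwt, ?_, fun z hz' => ?_, d2, d3, d4, fun y hy => ?_⟩
    · ext χ
      rw [← B.toFinite.mem_toFinset, hins, ← hset]
      simp only [Finset.mem_insert, Finset.mem_singleton, Set.mem_ofPred_eq]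
      exact or_congr ⟨fun h => congrArg Subtype.val h, fun h => Subtype.ext h⟩ Iff.rfl
    · have hcj := hone z x hz' hz
      exact ⟨(IsIrrCharacter.apply_isConj u.2 hcj).trans hu, (IsIrrCharacter.apply_isConj w.2 hcj).trans hw,
        (IsIrrCharacter.apply_isConj t.2 hcj).trans ht⟩
    · have h := hzero y (fun h2 => (Nat.not_even_iff_odd.2 hy) (even_iff_two_dvd.2 h2))
      rw [hins, ← hset, Finset.sum_insert (by rw [hset]; simp [ha1.symm, hb1.symm, hc1.symm]),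
        Finset.sum_insert (by simp [huw, hut]), Finset.sum_pair hwt, hu, hw, ht] at h
      simp only [one, mul_one] at h
      linear_combination h
  have hpa : (0 : ℤ) < Cfsg.charDegree (a : G → ℂ) := by exact_mod_cast charDegree_pos a.2
  have hpb : (0 : ℤ) < Cfsg.charDegree (b : G → ℂ) := by exact_mod_cast charDegree_pos b.2
  have hpc : (0 : ℤ) < Cfsg.charDegree (c : G → ℂ) := by exact_mod_cast charDegree_pos c.2
  rcases hva with rfl | rfl <;> rcases hvb with rfl | rfl <;> rcases hvc with rfl | rfl <;> push_cast at hxa hxb hxc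
  · exfalso; omega
  · exact go a b c 1 rfl hab hac hbc (Or.inl rfl) hxa (by simpa using hxb) hxc h4a h4b (by simpa using h4c)
  · exact go a c b 1 (by grind) hac hab hbc.symm (Or.inl rfl) hxa (by simpa using hxc) hxb h4a h4c (by simpa using h4b)
  · exact go a b c (-1) rfl hab hac hbc (Or.inr rfl) hxa (by simpa using hxb) hxc h4a h4b (by simpa using h4c)
  · exact go b c a 1 (by grind) hbc hab.symm hac.symm (Or.inl rfl) hxb (by simpa using hxc) hxa h4b h4c (by simpa using h4a)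
  · exact go b a c (-1) (by grind) hab.symm hbc hac (Or.inr rfl) hxb (by simpa using hxa) hxc h4b h4a (by simpa using h4c)
  · exact go c a b (-1) (by grind) hac.symm hbc.symm hab (Or.inr rfl) hxc (by simpa using hxa) hxb h4c h4a (by simpa using h4b)
  · exfalso; omega

end Cfsg.Agent.S0948
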