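import Cfsg.Statements.S0949
import Cfsg.Agent.Lib.Block.HomocyclicTwo

set_option autoImplicit false
open Cfsg

namespace Cfsg.Agent.S0949

open Cfsg.Agent.Block Cfsg.Agent.Char

/-- Let the finite group G have a Sylow 2-subgroup P isomorphic to Z/2^m × Z/2^m with m ≥ 2, and suppose G has no nontrivial normal subgroup of odd order. Then P is normal in G, C_G(P) = P, and the index of P is 1 or 3. -/
theorem result {G : Type*} [Group G] [Finite G] (P : Sylow 2 G) (m : ℕ) (hm : 2 ≤ m) (e : (P : Subgroup G) ≃* Multiplicative (ZMod (2 ^ m) × ZMod (2 ^ m))) (hO : ∀ N : Subgroup G, N.Normal → Odd (Nat.card N) → N = ⊥) : (P : Subgroup G).Normal ∧ Subgroup.centralizer (P : Set G) = (P : Subgroup G) ∧ ((P : Subgroup G).index = 1 ∨ (P : Subgroup G).index = 3) := by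
  classical
  haveI : Fact (Nat.Prime 2) := ⟨Nat.prime_two⟩
  have hcomm : ∀ a b : (P : Subgroup G), a * b = b * a := fun a b => e.injective (by rw [map_mul, map_mul, mul_comm])
  have hcard : Nat.card P = 2 ^ m * 2 ^ m := by
    rw [Nat.card_congr e.toEquiv, Nat.card_congr Multiplicative.toAdd, Nat.card_prod, Nat.card_zmod]
  have h16 : 16 ≤ Nat.card P := by
    rw [hcard]
    have : 2 ^ 2 ≤ 2 ^ m := Nat.pow_le_pow_right (by norm_num) hm
    nlinarith
  haveI : NeZero (2 ^ m) := ⟨by positivity⟩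
  have htwo : ∀ a : ZMod (2 ^ m), a + a = 0 → a = 0 ∨ a = ((2 ^ (m - 1) : ℕ) : ZMod (2 ^ m)) := by
    intro a ha
    obtain ⟨v, hv, rfl⟩ : ∃ v, v < 2 ^ m ∧ ((v : ℕ) : ZMod (2 ^ m)) = a := ⟨a.val, ZMod.val_lt a, ZMod.natCast_zmod_val a⟩
    rw [← Nat.cast_add, ZMod.natCast_eq_zero_iff] at ha
    have e2 : 2 ^ m = 2 * 2 ^ (m - 1) := by rw [← pow_succ', Nat.sub_add_cancel (by omega)]
    obtain ⟨c, hc⟩ := ha
    have hc2 : c < 2 := by
      by_contra hcc
      have : 2 ^ m * 2 ≤ 2 ^ m * c := Nat.mul_le_mul_left _ (by omega)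
      omega
    interval_cases c
    · left; rw [show v = 0 by omega, Nat.cast_zero]
    · right; rw [show v = 2 ^ (m - 1) by omega]
  have hinv : Nat.card {x : (P : Subgroup G) // x ≠ 1 ∧ x * x = 1} ≤ 3 := by
    let T : Finset (ZMod (2 ^ m) × ZMod (2 ^ m)) :=
      {(0, ((2 ^ (m - 1) : ℕ) : ZMod (2 ^ m))), (((2 ^ (m - 1) : ℕ) : ZMod (2 ^ m)), 0),
        (((2 ^ (m - 1) : ℕ) : ZMod (2 ^ m)), ((2 ^ (m - 1) : ℕ) : ZMod (2 ^ m)))}
    refine (Nat.card_le_card_of_injective (β := T) (fun x => ⟨Multiplicative.toAdd (e x.1), ?_⟩) ?_).trans ?_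
    · have h2 : Multiplicative.toAdd (e x.1) + Multiplicative.toAdd (e x.1) = 0 := by
        rw [← toAdd_mul, ← map_mul, x.2.2, map_one]; rfl
      have hne : Multiplicative.toAdd (e x.1) ≠ 0 := fun h0 => x.2.1 (e.injective (by rw [map_one]; exact h0))
      generalize Multiplicative.toAdd (e x.1) = w at h2 hne
      obtain ⟨a, b⟩ := w
      simp only [Prod.mk_add_mk, Prod.mk_eq_zero] at h2
      rcases htwo a h2.1 with rfl | rfl <;> rcases htwo b h2.2 with rfl | rfl <;> simp_all [T]
    · intro x y h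
      exact Subtype.ext (e.injective (Multiplicative.toAdd.injective (congrArg Subtype.val h :)))
    · rw [Nat.card_eq_fintype_card, Fintype.card_coe]
      exact Finset.card_le_three
  obtain ⟨hn, hidx⟩ := Cfsg.Agent.Block.HomocyclicTwo.sylow_normal _ G rfl P hcomm h16 hinv hO
  haveI := hn
  set C := Subgroup.centralizer (P : Set G) with hC
  have hPC : (P : Subgroup G) ≤ C := fun a ha => Subgroup.mem_centralizer_iff.2 fun b hb =>
    congrArg Subtype.val (hcomm ⟨b, hb⟩ ⟨a, ha⟩)
  have hnorm : Subgroup.normalizer ((P : Subgroup G) : Set G) = ⊤ := Subgroup.normalizer_eq_top_iff.2 hn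
  have hCn : C.Normal := inferInstanceAs (Subgroup.centralizer ((P : Subgroup G) : Set G)).Normal
  -- Burnside's theorem in the centraliser
  have hCP : C = (P : Subgroup G) := by
    haveI := hCn
    let P' : Sylow 2 C := P.subtype hPC
    have hle : Subgroup.normalizer ((P' : Subgroup C) : Set C) ≤ Subgroup.centralizer ((P' : Subgroup C) : Set C) := fun c _ =>
      Subgroup.mem_centralizer_iff.2 fun b hb => Subtype.ext (Subgroup.mem_centralizer_iff.1 c.2 b hb)
    have hK := MonoidHom.ker_transferSylow_isComplement' P' hle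
    have hodd := MonoidHom.not_dvd_card_ker_transferSylow P' hle
    set K := (MonoidHom.transferSylow P' hle).ker with hKdef
    have hKcore : K ≤ pPrimeCore 2 C :=
      Cfsg.Agent.Solv.le_pPrimeCore (Nat.coprime_two_right.2 (Nat.odd_iff.2 (Nat.two_dvd_ne_zero.1 hodd)))
    haveI := Cfsg.Agent.Solv.pPrimeCore_characteristic 2 C
    have hbot := hO ((pPrimeCore 2 C).map C.subtype) inferInstance (by
      rw [Subgroup.card_map_of_injective C.subtype_injective]
      exact Nat.coprime_two_right.1 (Cfsg.Agent.Solv.card_pPrimeCore_coprime 2 C))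
    rw [Subgroup.map_eq_bot_iff_of_injective _ C.subtype_injective] at hbot
    have hK1 : K = ⊥ := le_bot_iff.1 (hbot ▸ hKcore)
    rw [hK1] at hK
    refine le_antisymm (fun c hc => ?_) hPC
    have : (⟨c, hc⟩ : C) ∈ (P' : Subgroup C) := by rw [Subgroup.isComplement'_bot_left.1 hK]; trivial
    exact this
  refine ⟨hn, hCP, ?_⟩
  have e2 : (Subgroup.centralizer ((P : Subgroup G) : Set G)).relIndex (Subgroup.normalizer ((P : Subgroup G) : Set G)) = (P : Subgroup G).index := by
    rw [hnorm, Subgroup.relIndex_top_right]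
    exact congrArg Subgroup.index hCP
  rwa [e2] at hidx

end Cfsg.Agent.S0949
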