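import Cfsg.Statements.S0953
import Cfsg.Agent.Lib.Block.SylowCount

set_option autoImplicit false
open Cfsg

namespace Cfsg.Agent.S0953

open Cfsg.Agent.Block Cfsg.Agent.Char

/-- Let P be a Sylow p-subgroup of the finite group G with normalizer N, and fix a maximal ideal M of the algebraic integers containing p. The number of blocks of G having P as a defect group equals the number of conjugacy classes of N consisting of elements of order prime to p that centralize P. -/
theorem result {G : Type*} [Group G] [Finite G] (p : ℕ) [Fact p.Prime] (M : Ideal Cfsg.AlgInt) (hM : Cfsg.IsPModular p M) (P : Sylow p G) : Nat.card {B : Set (Cfsg.IrrCharacter G) // Cfsg.IsPBlock M B ∧ Cfsg.IsDefectGroup p M B (P : Subgroup G)} = Nat.card {C : ConjClasses (Subgroup.normalizer ((P : Subgroup G) : Set G)) // ∀ n : Subgroup.normalizer ((P : Subgroup G) : Set G), ConjClasses.mk n = C → ¬ p ∣ orderOf n ∧ (n : G) ∈ Subgroup.centralizer ((P : Subgroup G) : Set G)} := by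
  haveI := prime_of_isPModular hM
  have hP : IsPGroup p (P : Subgroup G) := P.2
  have hPN : (P : Subgroup G) ≤ Subgroup.normalizer ((P : Subgroup G) : Set G) := Subgroup.le_normalizer
  haveI : ((P : Subgroup G).subgroupOf (Subgroup.normalizer ((P : Subgroup G) : Set G))).Normal :=
    (Subgroup.normal_subgroupOf_iff_le_normalizer hPN).2 le_rfl
  have hidx : ¬ p ∣ ((P : Subgroup G).subgroupOf (Subgroup.normalizer ((P : Subgroup G) : Set G))).index :=
    fun h => P.not_dvd_index (h.trans ⟨_, (Subgroup.relIndex_mul_index hPN).symm⟩)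
  have hPp : IsPGroup p ((P : Subgroup G).subgroupOf (Subgroup.normalizer ((P : Subgroup G) : Set G))) :=
    hP.comap_subtype
  have hcnt := card_pBlocks_of_normal hM _ hPp hidx
  -- every block of the normaliser has `P` as defect group
  have hdef : ∀ c : Set (Cfsg.IrrCharacter (Subgroup.normalizer ((P : Subgroup G) : Set G))),
      Cfsg.IsPBlock M c → Cfsg.IsDefectGroup p M c
        ((P : Subgroup G).subgroupOf (Subgroup.normalizer ((P : Subgroup G) : Set G))) := by
    intro c hc
    obtain ⟨D, hD⟩ := exists_isDefectGroup (p := p) hc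
    have hle := pCore_le_defectGroup hM hc hD _ hPp
    suffices h : D.map (Subgroup.normalizer ((P : Subgroup G) : Set G)).subtype = (P : Subgroup G) by
      rwa [show (P : Subgroup G).subgroupOf (Subgroup.normalizer ((P : Subgroup G) : Set G)) = D from
        le_antisymm hle fun x hx => h.le ⟨x, hx, rfl⟩]
    refine P.3 ((isPGroup_of_isDefectGroup hD).map _) fun x hx => ?_
    exact ⟨⟨x, hPN hx⟩, hle hx, rfl⟩
  choose Φ hΦB hΦD hΦI using fun c : {c // c ∈ pBlocks M (Subgroup.normalizer ((P : Subgroup G) : Set G))} =>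
    exists_induced_of_defectGroup hM hP le_rfl (mem_pBlocks.1 c.2) (hdef _ (mem_pBlocks.1 c.2))
  have hbij : Function.Bijective (fun c => (⟨Φ c, hΦB c, hΦD c⟩ :
      {B : Set (Cfsg.IrrCharacter G) // Cfsg.IsPBlock M B ∧ Cfsg.IsDefectGroup p M B (P : Subgroup G)})) := by
    constructor
    · intro c c' h
      have h' : Φ c = Φ c' := congrArg Subtype.val h
      obtain ⟨ξ, hξ⟩ := isPBlock_nonempty (mem_pBlocks.1 c.2)
      obtain ⟨ξ', hξ'⟩ := isPBlock_nonempty (mem_pBlocks.1 c'.2)
      exact Subtype.ext (eq_of_lam_eq_one hM hP le_rfl (hΦB c) (mem_pBlocks.1 c.2)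
        (hdef _ (mem_pBlocks.1 c.2)) (mem_pBlocks.1 c'.2) (hdef _ (mem_pBlocks.1 c'.2)) hξ hξ'
        (lam_blockIdem_of_isInducedBlock (hΦI c) hξ)
        (lam_blockIdem_of_isInducedBlock (h' ▸ hΦI c') hξ'))
    · rintro ⟨B, hB, hBD⟩
      obtain ⟨c, hc, hcD, hl⟩ := exists_block_over hM hPN (centralizer_le_normalizer' _) hB hBD
      refine ⟨⟨c, mem_pBlocks.2 hc⟩, Subtype.ext ?_⟩
      obtain ⟨ξ, hξ⟩ := isPBlock_nonempty hc
      exact (isResHom_lam hM hP (centralizer_le_normalizer' _) (Or.inl hPN)
        (Factors.of_normal hM hP hPN le_rfl ξ)).eq_of_ne_zero (hΦB _) hB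
        (by rw [lam_blockIdem_of_isInducedBlock (hΦI ⟨c, mem_pBlocks.2 hc⟩) hξ]; exact one_ne_zero)
        (by rw [hl ξ hξ]; exact one_ne_zero)
  rw [← Nat.card_congr (Equiv.ofBijective _ hbij), Nat.card_eq_fintype_card, Fintype.card_coe, hcnt]
  refine Nat.card_congr (Equiv.subtypeEquivRight fun C => forall₂_congr fun n _ => ?_)
  rw [mem_centralizer_subgroupOf hPN]

end Cfsg.Agent.S0953
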