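import Cfsg.Statements.S0955
import Cfsg.Agent.Lib.Block.FirstMain
import Cfsg.Agent.Lib.Block.DefectCore
import Cfsg.Agent.Lib.Solv.Basic

set_option autoImplicit false
open Cfsg

namespace Cfsg.Agent.S0955

open Cfsg.Agent.Block Cfsg.Agent.Char

/-- Let D be a defect group of a block of the finite group G relative to a maximal ideal M of the algebraic integers containing the prime p. Then D is the largest normal p-subgroup of its own normalizer: O_p(N_G(D)) = D. -/
theorem result {G : Type*} [Group G] [Finite G] (p : ℕ) [Fact p.Prime] (M : Ideal Cfsg.AlgInt) (hM : Cfsg.IsPModular p M) (B : Set (Cfsg.IrrCharacter G)) (hB : Cfsg.IsPBlock M B) (D : Subgroup G) (hD : Cfsg.IsDefectGroup p M B D) : (Cfsg.pCore p (Subgroup.normalizer (D : Set G))).map (Subgroup.normalizer (D : Set G)).subtype = D := by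
  haveI := prime_of_isPModular hM
  classical
  haveI := Fintype.ofFinite G
  have hDp : IsPGroup p D := by
    obtain ⟨g, hg, S, rfl⟩ := id hD
    exact S.2.map _
  obtain ⟨c, hc, hcD, -⟩ := exists_block_over hM (H := Subgroup.normalizer (D : Set G)) Subgroup.le_normalizer
    (Subgroup.centralizer_le_normalizer _) hB hD
  haveI : (pCore p (Subgroup.normalizer (D : Set G))).Normal :=
    haveI := Cfsg.Agent.Solv.pCore_characteristic p (Subgroup.normalizer (D : Set G))
    inferInstance
  have h1 := pCore_le_defectGroup hM hc hcD (pCore p (Subgroup.normalizer (D : Set G)))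
    (Cfsg.Agent.Solv.isPGroup_pCore p _)
  have h2 : D.subgroupOf (Subgroup.normalizer (D : Set G)) ≤ pCore p (Subgroup.normalizer (D : Set G)) := by
    haveI : (D.subgroupOf (Subgroup.normalizer (D : Set G))).Normal := Subgroup.normal_in_normalizer
    exact Cfsg.Agent.Solv.le_pCore hDp.comap_subtype
  rw [le_antisymm h1 h2]
  exact Subgroup.map_subgroupOf_eq_of_le Subgroup.le_normalizer

end Cfsg.Agent.S0955
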