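import Cfsg.Statements.S0957
import Cfsg.Agent.Lib.Block.Congr

set_option autoImplicit false
open Cfsg

namespace Cfsg.Agent.S0957

open Cfsg.Agent.Block Cfsg.Agent.Char

/-- Let P be a Sylow p-subgroup of the finite group G, let g, h ∈ G and let p ^ d be the order of a Sylow p-subgroup of the centralizer of g. Then the number of pairs (y, z) with y conjugate to g, z conjugate to h and z * y⁻¹ ∈ P is divisible by the order of P divided by p ^ d. -/
theorem result {G : Type*} [Group G] [Finite G] (p : ℕ) [Fact p.Prime] (P : Sylow p G) (g h : G) (S : Sylow p (Subgroup.centralizer ({g} : Set G))) : Nat.card P / Nat.card S ∣ Nat.card {yz : G × G // IsConj g yz.1 ∧ IsConj h yz.2 ∧ yz.2 * yz.1⁻¹ ∈ (P : Subgroup G)} := by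
  classical
  have hp : p.Prime := Fact.out
  set X := {yz : G × G // IsConj g yz.1 ∧ IsConj h yz.2 ∧ yz.2 * yz.1⁻¹ ∈ (P : Subgroup G)}
  letI act : MulAction (P : Subgroup G) X :=
    { smul := fun a x => ⟨((a : G) * x.1.1 * (a : G)⁻¹, (a : G) * x.1.2 * (a : G)⁻¹),
        x.2.1.trans (isConj_iff.2 ⟨(a : G), rfl⟩), x.2.2.1.trans (isConj_iff.2 ⟨(a : G), rfl⟩), by
          have h1 := mul_mem (mul_mem a.2 x.2.2.2) (inv_mem a.2)
          show (a : G) * x.1.2 * (a : G)⁻¹ * ((a : G) * x.1.1 * (a : G)⁻¹)⁻¹ ∈ (P : Subgroup G)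
          simpa [mul_assoc] using h1⟩
      one_smul := fun x => Subtype.ext (by
        show ((1 : G) * x.1.1 * (1 : G)⁻¹, (1 : G) * x.1.2 * (1 : G)⁻¹) = x.1
        simp)
      mul_smul := fun a b x => Subtype.ext (by
        show (((a * b : (P : Subgroup G)) : G) * x.1.1 * ((a * b : (P : Subgroup G)) : G)⁻¹, ((a * b : (P : Subgroup G)) : G) * x.1.2 * ((a * b : (P : Subgroup G)) : G)⁻¹) =
          ((a : G) * ((b : G) * x.1.1 * (b : G)⁻¹) * (a : G)⁻¹, (a : G) * ((b : G) * x.1.2 * (b : G)⁻¹) * (a : G)⁻¹)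
        simp [mul_assoc]) }
  haveI : Fintype (Quotient (MulAction.orbitRel (P : Subgroup G) X)) := Fintype.ofFinite _
  rw [Nat.card_congr (MulAction.selfEquivSigmaOrbits' (P : Subgroup G) X), Nat.card_sigma]
  refine Finset.dvd_sum fun ω _ => ?_
  obtain ⟨x, rfl⟩ := Quotient.exists_rep ω
  rw [MulAction.orbitRel.Quotient.orbit_eq_orbit_out _ Quotient.out_eq']
  set x₀ : X := (Quotient.mk _ x : Quotient (MulAction.orbitRel (P : Subgroup G) X)).out
  have horb := Nat.card_congr (MulAction.orbitEquivQuotientStabilizer (P : Subgroup G) x₀)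
  rw [horb]
  set St := MulAction.stabilizer (P : Subgroup G) x₀ with hSt
  obtain ⟨c, hc⟩ := isConj_iff.1 x₀.2.1
  have hle : Nat.card St ∣ Nat.card S := by
    set Q : Subgroup G := (St.map (P : Subgroup G).subtype).map (MulAut.conj c⁻¹).toMonoidHom with hQ
    have hQp : IsPGroup p Q := ((P.2.to_subgroup St).map _).map _
    have hQg : Q ≤ Subgroup.centralizer ({g} : Set G) := by
      rintro _ ⟨_, ⟨a, ha, rfl⟩, rfl⟩
      have h1 : (a : G) * x₀.1.1 * (a : G)⁻¹ = x₀.1.1 := congrArg (fun w : X => w.1.1) ha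
      rw [Subgroup.mem_centralizer_iff]
      intro g' hg'
      rw [Set.mem_singleton_iff] at hg'
      subst hg'
      rw [mul_inv_eq_iff_eq_mul, ← hc] at h1
      show g' * (c⁻¹ * (a : G) * c⁻¹⁻¹) = c⁻¹ * (a : G) * c⁻¹⁻¹ * g'
      calc g' * (c⁻¹ * (a : G) * c⁻¹⁻¹) = c⁻¹ * (c * g' * c⁻¹ * (a : G)) * c := by group
        _ = c⁻¹ * ((a : G) * (c * g' * c⁻¹)) * c := by rw [h1]
        _ = _ := by group
    obtain ⟨T, hT⟩ := (show IsPGroup p (Q.subgroupOf (Subgroup.centralizer ({g} : Set G))) from hQp.comap_subtype).exists_le_sylow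
    have hcard : Nat.card (Q.subgroupOf (Subgroup.centralizer ({g} : Set G))) = Nat.card St := by
      rw [Nat.card_congr (Subgroup.subgroupOfEquivOfLe hQg).toEquiv, hQ,
        Subgroup.card_map_of_injective (MulEquiv.injective _),
        Subgroup.card_map_of_injective (Subgroup.subtype_injective _)]
    rw [← hcard, S.card_eq_multiplicity, ← T.card_eq_multiplicity]
    exact Subgroup.card_dvd_of_le hT
  have hSP : Nat.card S ∣ Nat.card P := by
    rw [S.card_eq_multiplicity, P.card_eq_multiplicity]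
    refine pow_dvd_pow p ?_
    exact (Nat.factorization_le_iff_dvd Nat.card_pos.ne' Nat.card_pos.ne').2 (Subgroup.card_subgroup_dvd_card _) p
  have hindex : Nat.card ((P : Subgroup G) ⧸ St) = Nat.card P / Nat.card St := by
    rw [Subgroup.card_eq_card_quotient_mul_card_subgroup St, Nat.mul_div_cancel _ Nat.card_pos]
  rw [hindex]
  refine Nat.div_dvd_iff_dvd_mul hSP Nat.card_pos |>.2 ?_
  obtain ⟨w, hw⟩ := hle
  refine ⟨w, ?_⟩
  rw [hw, mul_right_comm (Nat.card St), Nat.mul_div_cancel' ((Subgroup.card_subgroup_dvd_card St))]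

end Cfsg.Agent.S0957
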