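import Cfsg.Statements.S0958
import Cfsg.Agent.Lib.Block.FirstMain

set_option autoImplicit false
open Cfsg

namespace Cfsg.Agent.S0958

open Cfsg.Agent.Block Cfsg.Agent.Char

/-- Let P be a p-subgroup of the finite group G and H a subgroup with P ⊔ C_G(P) ≤ H ≤ N_G(P); fix a maximal ideal M of the algebraic integers containing p. Then a block B of G is induced by some block of H if and only if some conjugate of P is contained in a defect group of B. -/
theorem result {G : Type*} [Group G] [Finite G] (p : ℕ) [Fact p.Prime] (M : Ideal Cfsg.AlgInt) (hM : Cfsg.IsPModular p M) (P H : Subgroup G) (hP : IsPGroup p P) (hPH : P ⊔ Subgroup.centralizer (P : Set G) ≤ H) (hHN : H ≤ Subgroup.normalizer (P : Set G)) (B : Set (Cfsg.IrrCharacter G)) (hB : Cfsg.IsPBlock M B) : (∃ b : Set (Cfsg.IrrCharacter H), Cfsg.IsInducedBlock M H b B) ↔ ∃ D : Subgroup G, Cfsg.IsDefectGroup p M B D ∧ ∃ x : G, P.map (MulAut.conj x).toMonoidHom ≤ D := by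
  haveI := prime_of_isPModular hM
  have hPle : P ≤ H := le_sup_left.trans hPH
  have hCH : Subgroup.centralizer (P : Set G) ≤ H := le_sup_right.trans hPH
  obtain ⟨D, hD⟩ := exists_isDefectGroup (p := p) hB
  have hne : (∃ b : Set (Cfsg.IrrCharacter H), Cfsg.IsInducedBlock M H b B) ↔
      brFun M P (blockIdem B) ≠ 0 := by
    constructor
    · rintro ⟨b, hind⟩ h0
      obtain ⟨ξ, hξ⟩ := isPBlock_nonempty hind.1
      have h1 := lam_blockIdem_of_isInducedBlock hind hξ
      rw [lam, Factors.of_normal hM hP hPle hHN ξ _ (cl_resH ((CL.blockIdem hB).ps H))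
        (by rw [brFun_embH_resH hCH, h0])] at h1
      exact zero_ne_one h1
    · intro hne
      have hr := cl_resH (M := M) ((CL.blockIdem hB).ps H)
      obtain ⟨ξ, hξ⟩ := exists_ro_ne_zero hM hP hr (ps_embH hr hPle) (by
        rw [brFun_embH_resH hCH]
        show _ * _ = _
        rw [← brFun_mul hM hP ((CL.blockIdem hB).ps P) ((CL.blockIdem hB).ps P), blockIdem_mul_self])
        (by rwa [brFun_embH_resH hCH])
      exact ⟨_, isInducedBlock_of_lam (isPBlock_blockOf ξ) (self_mem_blockOf ξ)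
        (isResHom_lam hM hP hCH (Or.inl hPle) (Factors.of_normal hM hP hPle hHN ξ)) hB hξ⟩
  rw [hne]
  constructor
  · intro h
    obtain ⟨y, hy, hyu⟩ := exists_unit_coeff_of_brFun_ne_zero (isLocElt_blockIdem hB) h
    refine ⟨D, hD, (exists_coeff_unit_centralized_iff hM hB hD hP).1 ⟨y, ?_, ?_, y, IsConj.refl _, hy⟩⟩
    · exact blockCoeff_mem_locRing hB y
    · simpa [blockIdem] using hyu
  · rintro ⟨D', hD', x, hx⟩ h0
    obtain ⟨g, -, hg, c, hgc, hc⟩ := (exists_coeff_unit_centralized_iff hM hB hD' hP).2 ⟨x, hx⟩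
    refine hg ?_
    have h1 := (brFun_eq_zero_iff (isLocElt_blockIdem hB)).1 h0 c hc
    have h2 := IsClassFunction.apply_isConj (isCentralElt_blockIdem B) hgc
    simp only [blockIdem, coeff_mkA] at h1 h2
    rwa [h2]

end Cfsg.Agent.S0958
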