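import Cfsg.Statements.S0963
import Cfsg.Agent.Lib.Block.Cover

set_option autoImplicit false
open Cfsg

namespace Cfsg.Agent.S0963

open Cfsg.Agent.Block Cfsg.Agent.Char

/-- Let N be a normal subgroup of the finite group G, χ an irreducible character of G and θ an irreducible character of N. Then θ occurs in the restriction of χ to N if and only if, for every n ∈ N, the central character of χ at n (class size in G times χ n over χ 1) equals the sum of θ m / θ 1 over the elements m of N conjugate in G to n. -/
theorem result {G : Type*} [Group G] [Fintype G] (N : Subgroup G) [N.Normal] [Fintype N] (χ : Cfsg.IrrCharacter G) (θ : Cfsg.IrrCharacter N) : Cfsg.classInner (fun n : N => (χ : G → ℂ) n) (θ : N → ℂ) ≠ 0 ↔ ∀ n : N, Cfsg.centralChar (χ : G → ℂ) (n : G) = Cfsg.inducedCentralChar N (θ : N → ℂ) (n : G) := by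
  classical
  have hcls : ∀ n : N, InCoset N 1 (classSum (n : G)) := fun n x hx => by
    simp only [classSum, coeff_mkA]
    refine if_neg fun hc => hx ?_
    obtain ⟨g, rfl⟩ := isConj_iff.1 hc
    exact (QuotientGroup.eq_one_iff _).2 (Subgroup.Normal.conj_mem inferInstance _ n.2 g)
  have fwd : ∀ φ : IrrCharacter N, classInner (fun n : N => (χ : G → ℂ) n) (φ : N → ℂ) ≠ 0 →
      ∀ n : N, centralChar (χ : G → ℂ) (n : G) = inducedCentralChar N (φ : N → ℂ) (n : G) := fun φ h n => by
    rw [← omega_classSum, inducedCentralChar_eq_omega]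
    exact omega_eq_of_constituent χ φ h (isCentralElt_classSum _) (hcls n)
  refine ⟨fwd θ, fun h hzero => ?_⟩
  obtain ⟨φ, hφ⟩ := exists_constituent' (N := N) χ
  haveI := Fintype.ofFinite (ConjClasses G)
  set x := charOrbit θ with hx
  have heq : omega (θ : N → ℂ) (resH N x) = omega (φ : N → ℂ) (resH N x) := by
    rw [hx, eq_sum_classSum (isCentralElt_charOrbit θ), resH_sum, omega_sum, omega_sum]
    refine Finset.sum_congr rfl fun C _ => ?_
    rw [show resH N ((charOrbit θ).coeff (classRep C) • classSum (classRep C)) =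
        (charOrbit θ).coeff (classRep C) • resH N (classSum (classRep C)) from
      MonoidAlgebra.ext (Finsupp.ext fun k => by simp), omega_smul, omega_smul]
    by_cases hC : classRep C ∈ N
    · congr 1
      have h1 := h ⟨classRep C, hC⟩
      rw [fwd φ hφ ⟨classRep C, hC⟩, inducedCentralChar_eq_omega, inducedCentralChar_eq_omega] at h1
      exact h1.symm
    · rw [inCoset_charOrbit θ _ fun e => hC ((QuotientGroup.eq_one_iff _).1 e), zero_mul, zero_mul]
  have h0 := omega_charOrbit_eq_zero χ θ hzero
  rw [omega_eq_of_constituent χ φ hφ (isCentralElt_charOrbit θ) (inCoset_charOrbit θ), ← heq, omega_resH_charOrbit,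
    Finset.sum_boole, Nat.cast_eq_zero, Finset.card_eq_zero] at h0
  exact Finset.eq_empty_iff_forall_notMem.1 h0 1 (Finset.mem_filter.2 ⟨Finset.mem_univ _, (conjIrr_one _ θ).symm⟩)

end Cfsg.Agent.S0963
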