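import Cfsg.Statements.S0967
import Cfsg.Agent.Lib.Block.CorePrimeBlock

set_option autoImplicit false
open Cfsg

namespace Cfsg.Agent.S0967

open Cfsg.Agent.Block Cfsg.Agent.Char

/-- Let N be a normal subgroup of the finite group G of order prime to p and fix a maximal ideal M of the algebraic integers containing p. If χ is an irreducible character of G ⧸ N and ψ lies in the block of its inflation χ ∘ (quotient map), then ψ is itself inflated from an irreducible character ψ' of G ⧸ N lying in the block of χ. (Over a normal p'-subgroup, blocks of the quotient are whole blocks of G.) -/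
theorem result {G : Type*} [Group G] [Finite G] (p : ℕ) [Fact p.Prime] (M : Ideal Cfsg.AlgInt) (hM : Cfsg.IsPModular p M) (N : Subgroup G) [N.Normal] (hN : ¬ p ∣ Nat.card N) (χ : Cfsg.IrrCharacter (G ⧸ N)) (ψ : Cfsg.IrrCharacter G) (hψ : ψ ∈ Cfsg.blockOf M ((χ : G ⧸ N → ℂ) ∘ QuotientGroup.mk)) : ∃ ψ' : Cfsg.IrrCharacter (G ⧸ N), (ψ : G → ℂ) = (ψ' : G ⧸ N → ℂ) ∘ QuotientGroup.mk ∧ Cfsg.SameBlock M (χ : G ⧸ N → ℂ) (ψ' : G ⧸ N → ℂ) := by
  haveI := prime_of_isPModular hM
  classical
  haveI := Fintype.ofFinite G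
  haveI := Fintype.ofFinite N
  haveI := Fintype.ofFinite (G ⧸ N)
  let χ' : IrrCharacter G := ⟨_, isIrrCharacter_comp_surjective (QuotientGroup.mk' N) QuotientGroup.mk_surjective χ.2⟩
  have hsame : SameBlock M (χ' : G → ℂ) (ψ : G → ℂ) := hψ
  have hker := trivial_of_sameBlock hM hN hsame (fun n hn => by
    show (χ : G ⧸ N → ℂ) (QuotientGroup.mk n) = (χ : G ⧸ N → ℂ) (QuotientGroup.mk 1)
    rw [(QuotientGroup.eq_one_iff n).2 hn, QuotientGroup.mk_one])
  obtain ⟨ψ', hψ'⟩ := exists_factor_quotient N ψ fun g hg y =>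
    apply_mul_of_mem_kernel (IsIrrCharacter.isCharacter ψ.2) (hker g hg) y
  refine ⟨ψ', funext fun g => (hψ' g).symm, fun q => ?_⟩
  set a := mkA (G := G) fun x => if IsConj q (QuotientGroup.mk x) then (1 : ℂ) else 0 with ha
  have hac : IsCentralElt a := fun x y => by
    simp only [ha, coeff_mkA]
    have hxy : IsConj (QuotientGroup.mk x : G ⧸ N) (QuotientGroup.mk (y * x * y⁻¹)) :=
      isConj_iff.2 ⟨QuotientGroup.mk y, by rw [← QuotientGroup.mk_inv, ← QuotientGroup.mk_mul, ← QuotientGroup.mk_mul]⟩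
    exact if_congr ⟨fun h => h.trans hxy.symm, fun h => h.trans hxy⟩ rfl rfl
  have hal : IsLocElt M a := fun x => by
    simp only [ha, coeff_mkA]
    split
    exacts [one_mem (locRing M), zero_mem (locRing M)]
  have key : ∀ (φ : IrrCharacter G) (φ' : IrrCharacter (G ⧸ N)),
      (∀ g, (φ' : G ⧸ N → ℂ) (QuotientGroup.mk g) = (φ : G → ℂ) g) →
      omega (φ : G → ℂ) a = (Nat.card N : ℂ) * centralChar (φ' : G ⧸ N → ℂ) q := by
    intro φ φ' hφ
    rw [omega_eq_sum, ← omega_classSum φ' q, omega_eq_sum]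
    simp only [ha, coeff_mkA, classSum]
    rw [← mul_div_assoc, show (φ : G → ℂ) 1 = (φ' : G ⧸ N → ℂ) 1 from (hφ 1).symm, Finset.mul_sum]
    congr 1
    rw [← Finset.sum_fiberwise_of_maps_to (g := fun x : G => (QuotientGroup.mk x : G ⧸ N))
      (t := Finset.univ) (fun _ _ => Finset.mem_univ _)]
    refine Finset.sum_congr rfl fun r _ => ?_
    rw [Finset.sum_congr rfl (g := fun _ => (if IsConj q r then (1 : ℂ) else 0) * (φ' : G ⧸ N → ℂ) r)
      (fun x hx => by rw [← hφ x, (Finset.mem_filter.1 hx).2])]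
    rw [Finset.sum_const, nsmul_eq_mul]
    congr 2
    swap
    · by_cases hc : IsConj q r <;> simp [hc]
    obtain ⟨g, rfl⟩ := QuotientGroup.mk_surjective r
    rw [Nat.card_eq_fintype_card, ← Finset.card_univ]
    refine (Finset.card_bij' (fun (n : N) _ => g * (n : G)) (fun x hx => ⟨g⁻¹ * x, QuotientGroup.eq.1 (Finset.mem_filter.1 hx).2.symm⟩)
      (fun n _ => ?_) (fun x _ => Finset.mem_univ _) (fun n _ => Subtype.ext (inv_mul_cancel_left _ _))
      (fun x _ => mul_inv_cancel_left _ _)).symm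
    exact Finset.mem_filter.2 ⟨Finset.mem_univ _, QuotientGroup.mk_mul_of_mem g n.2⟩
  have h := omega_congr hsame hac hal
  rw [key χ' χ (fun g => rfl), key ψ ψ' hψ', ← mul_sub] at h
  have h2 := memLocalIdeal_mul_left (inv_natCast_mem_locRing hM.1 hM.2.2 hN) h
  rwa [inv_mul_cancel_left₀ (Nat.cast_ne_zero.2 Nat.card_pos.ne')] at h2

end Cfsg.Agent.S0967
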