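import Cfsg.Statements.S0969
import Cfsg.Agent.Lib.Block.NormalDefectCount
import Cfsg.Agent.Lib.Block.BrauerFeit
import Cfsg.Agent.Lib.Block.PPart
import Cfsg.Agent.Lib.Char.Extraspecial

set_option autoImplicit false
open Cfsg

namespace Cfsg.Agent.S0969

open Cfsg.Agent.Block Cfsg.Agent.Char

/-- Let D be a central p-subgroup of the finite group G and χ an irreducible character with the exponent of p in χ(1) equal to the exponent of p in the index of D; fix a maximal ideal M of the algebraic integers containing p. Then D is a defect group of the block of χ, and χ g = 0 whenever the p-part of g does not lie in D. -/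
theorem result {G : Type*} [Group G] [Finite G] (p : ℕ) [Fact p.Prime] (M : Ideal Cfsg.AlgInt) (hM : Cfsg.IsPModular p M) (D : Subgroup G) (hD : IsPGroup p D) (hDZ : D ≤ Subgroup.center G) (χ : Cfsg.IrrCharacter G) (hdeg : (Cfsg.charDegree (χ : G → ℂ)).factorization p = D.index.factorization p) : Cfsg.IsDefectGroup p M (Cfsg.blockOf M (χ : G → ℂ)) D ∧ ∀ g x : G, Cfsg.IsPPart p g x → x ∉ D → (χ : G → ℂ) g = 0 := by
  haveI := prime_of_isPModular hM
  classical
  haveI := Fintype.ofFinite G
  haveI : D.Normal := ⟨fun d hd g => by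
    rw [Subgroup.mem_center_iff.1 (hDZ hd) g, mul_inv_cancel_right]; exact hd⟩
  have hp : p.Prime := Fact.out
  set B := blockOf M (χ : G → ℂ) with hBdef
  have hB : IsPBlock M B := ⟨χ, rfl⟩
  have hχB : χ ∈ B := self_mem_blockOf χ
  obtain ⟨e, he⟩ := IsPGroup.iff_card.1 hD
  have hsum : (Nat.card G).factorization p = e + D.index.factorization p := by
    rw [← D.card_mul_index, he, Nat.factorization_mul (pow_ne_zero _ hp.ne_zero) Subgroup.index_ne_zero_of_finite,
      Finsupp.add_apply, hp.factorization_pow, Finsupp.single_eq_same]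
  obtain ⟨z, hz⟩ := exists_int_regInner hp χ χ
  have hexp : (Nat.card G).factorization p - (charDegree (χ : G → ℂ)).factorization p = e := by omega
  rw [hexp] at hz
  set R : ℝ := ∑ x : G, if p ∣ orderOf x then 0 else Complex.normSq ((χ : G → ℂ) x) with hR
  have hRc : regInner p (χ : G → ℂ) (χ : G → ℂ) = (R : ℂ) := by
    rw [hR, regInner, Complex.ofReal_sum]
    exact Finset.sum_congr rfl fun x _ => by split <;> simp [Complex.mul_conj]
  have hzr : (Nat.card D : ℝ) * R = (z : ℝ) * (Nat.card G : ℝ) := by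
    rw [hRc, div_eq_iff (Nat.cast_ne_zero.2 Nat.card_pos.ne')] at hz
    rw [he]
    exact_mod_cast hz
  have hRpos : 0 < R := by
    rw [hR]
    refine Finset.sum_pos' (fun x _ => by split <;> [exact le_rfl; exact Complex.normSq_nonneg _]) ⟨1, Finset.mem_univ _, ?_⟩
    rw [orderOf_one, if_neg hp.not_dvd_one]
    exact Complex.normSq_pos.2 (IsIrrCharacter.apply_one_ne_zero χ.2)
  have htot : ∑ x : G, Complex.normSq ((χ : G → ℂ) x) = (Nat.card G : ℝ) := by
    have h := IsIrrCharacter.classInner_self χ.2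
    rw [classInner, inv_mul_eq_iff_eq_mul₀ (Nat.cast_ne_zero.2 Nat.card_pos.ne'), mul_one] at h
    simp only [Complex.mul_conj] at h
    exact_mod_cast h
  have hDpp : ∀ d ∈ D, ∀ x : G, ¬ p ∣ orderOf x → IsPPart p (d * x) d := fun d hd x hx =>
    ⟨x, rfl, (Subgroup.mem_center_iff.1 (hDZ hd) x).symm, by
      obtain ⟨k, hk⟩ := IsPGroup.iff_orderOf.1 hD ⟨d, hd⟩
      exact ⟨k, by rwa [Subgroup.orderOf_mk] at hk⟩, hx⟩
  set S : Finset (D × G) := Finset.univ.filter (fun q => ¬ p ∣ orderOf q.2) with hS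
  set T : Finset G := S.image (fun q => (q.1 : G) * q.2) with hT
  have hinj : Set.InjOn (fun q : D × G => (q.1 : G) * q.2) S := by
    intro q hq q' hq' heq
    simp only [hS, Finset.coe_filter, Finset.mem_univ, true_and, Set.mem_ofPred_eq] at hq hq'
    have h1 := hDpp _ q.1.2 _ hq
    have h2 := hDpp _ q'.1.2 _ hq'
    simp only at heq
    rw [heq] at h1
    have h3 := isPPart_unique hp h1 h2
    refine Prod.ext (Subtype.ext h3) ?_
    rwa [h3, mul_right_inj] at heq
  have hTsum : ∑ x ∈ T, Complex.normSq ((χ : G → ℂ) x) = (Nat.card D : ℝ) * R := by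
    rw [hT, Finset.sum_image hinj, hS, Finset.sum_filter, Fintype.sum_prod_type, hR,
      Nat.card_eq_fintype_card, ← nsmul_eq_mul, ← Finset.card_univ, ← Finset.sum_const]
    refine Finset.sum_congr rfl fun d _ => Finset.sum_congr rfl fun x _ => ?_
    obtain ⟨ω, hω, h⟩ := IsIrrCharacter.central_apply χ.2 (hDZ d.2)
    have hn : Complex.normSq ((χ : G → ℂ) ((d : G) * x)) = Complex.normSq ((χ : G → ℂ) x) := by
      rw [h, Complex.normSq_eq_norm_sq, Complex.normSq_eq_norm_sq, norm_mul, hω, one_mul]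
    by_cases hx : p ∣ orderOf x <;> simp [hx, hn]
  have hGpos : (0 : ℝ) < Nat.card G := by exact_mod_cast Nat.card_pos
  have hz1 : (1 : ℝ) ≤ (z : ℝ) := by
    have : (0 : ℝ) < (z : ℝ) := by
      have h0 : (0 : ℝ) < (Nat.card D : ℝ) * R := mul_pos (by exact_mod_cast Nat.card_pos) hRpos
      rw [hzr] at h0
      exact pos_of_mul_pos_left h0 hGpos.le
    have : (0 : ℤ) < z := by exact_mod_cast this
    exact_mod_cast this
  have hle : ∑ x ∈ T, Complex.normSq ((χ : G → ℂ) x) ≤ (Nat.card G : ℝ) := by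
    rw [← htot]
    exact Finset.sum_le_sum_of_subset_of_nonneg (Finset.subset_univ _) fun x _ _ => Complex.normSq_nonneg _
  have hz' : z = 1 := by
    have : (z : ℝ) ≤ 1 := by rw [hTsum, hzr] at hle; nlinarith
    exact_mod_cast le_antisymm this hz1
  refine ⟨(isDefectGroup_iff_minVal hM hD hB).2.2 ?_, fun g x hgx hx => ?_⟩
  · rw [he, hp.factorization_pow, Finsupp.single_eq_same]
    obtain ⟨q, hq, -, hiff⟩ := exists_qInt hM hB hχB hχB
    by_contra hne
    have h1 := (isDefectGroup_iff_minVal hM hD hB).1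
    rw [he, hp.factorization_pow, Finsupp.single_eq_same] at h1
    have h2 := minVal_add_height (p := p) hχB
    have hd : blockDefect p B = blockHeight p B (χ : G → ℂ) + e := by rw [blockDefect_eq]; omega
    have hq' : q = ((p ^ blockHeight p B (χ : G → ℂ) : ℕ) : ℤ) := by
      have : (q : ℂ) = ((p ^ blockHeight p B (χ : G → ℂ) : ℕ) : ℂ) := by
        rw [hq, hd, pow_add, Nat.cast_mul, mul_assoc, mul_div_assoc, hz, hz', Int.cast_one, mul_one]
      exact_mod_cast this
    have h3 := hiff.2 (by omega)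
    rw [hq', Int.natCast_dvd_natCast, Nat.pow_dvd_pow_iff_le_right hp.one_lt] at h3
    omega
  · have hT' : g ∉ T := by
      intro hg
      obtain ⟨q, hq, rfl⟩ := Finset.mem_image.1 hg
      rw [hS, Finset.mem_filter] at hq
      exact hx (isPPart_unique hp hgx (hDpp _ q.1.2 _ hq.2) ▸ q.1.2)
    have h := Finset.sum_sdiff (f := fun x => Complex.normSq ((χ : G → ℂ) x)) (Finset.subset_univ T)
    rw [htot, hTsum, hzr, hz', Int.cast_one, one_mul, add_eq_right] at h
    have h4 := (Finset.sum_eq_zero_iff_of_nonneg fun x _ => Complex.normSq_nonneg _).1 h g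
      (Finset.mem_sdiff.2 ⟨Finset.mem_univ g, hT'⟩)
    exact Complex.normSq_eq_zero.1 h4

end Cfsg.Agent.S0969
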