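import Cfsg.Statements.S0973
import Cfsg.Agent.Lib.Block.OrbitBlock

set_option autoImplicit false
open Cfsg

namespace Cfsg.Agent.S0973

open Cfsg.Agent.Block Cfsg.Agent.Char

/-- Let B be a block of the finite group G with defect group P (relative to a maximal ideal M of the algebraic integers containing p), and let L = P ⊔ C_G(P). Then (i) some block b of L with defect group P (viewed in L) induces B, and (ii) if b and b' are blocks of L both inducing B, there is n ∈ N_G(P) carrying b to b': for every θ ∈ b there is θ' ∈ b' with θ' x = θ (n x n⁻¹) for all x ∈ L. -/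
theorem result {G : Type*} [Group G] [Finite G] (p : ℕ) [Fact p.Prime] (M : Ideal Cfsg.AlgInt) (hM : Cfsg.IsPModular p M) (B : Set (Cfsg.IrrCharacter G)) (hB : Cfsg.IsPBlock M B) (P : Subgroup G) (hP : Cfsg.IsDefectGroup p M B P) : (∃ b : Set (Cfsg.IrrCharacter ↥(P ⊔ Subgroup.centralizer (P : Set G))), Cfsg.IsDefectGroup p M b (P.subgroupOf (P ⊔ Subgroup.centralizer (P : Set G))) ∧ Cfsg.IsInducedBlock M (P ⊔ Subgroup.centralizer (P : Set G)) b B) ∧ ∀ b b' : Set (Cfsg.IrrCharacter ↥(P ⊔ Subgroup.centralizer (P : Set G))), Cfsg.IsInducedBlock M (P ⊔ Subgroup.centralizer (P : Set G)) b B → Cfsg.IsInducedBlock M (P ⊔ Subgroup.centralizer (P : Set G)) b' B → ∃ n ∈ Subgroup.normalizer (P : Set G), ∀ θ ∈ b, ∃ θ' ∈ b', ∀ x : ↥(P ⊔ Subgroup.centralizer (P : Set G)), ∀ hx : n * (x : G) * n⁻¹ ∈ P ⊔ Subgroup.centralizer (P : Set G), (θ' : ↥(P ⊔ Subgroup.centralizer (P : Set G)) → ℂ) x = (θ : ↥(P ⊔ Subgroup.centralizer (P : Set G)) → ℂ) ⟨n * (x : G) *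 n⁻¹, hx⟩ := by
  haveI := prime_of_isPModular hM
  have hPg := isPGroup_of_isDefectGroup hP
  have hLN := sup_centralizer_le_normalizer P
  have hPL : P ≤ P ⊔ Subgroup.centralizer (P : Set G) := le_sup_left
  have hCL : Subgroup.centralizer (P : Set G) ≤ P ⊔ Subgroup.centralizer (P : Set G) := le_sup_right
  have hN := normalizer_le_normalizer_sup P
  have hfac := fun ξ => Factors.of_normal hM hPg hPL hLN ξ
  constructor
  · obtain ⟨b, hb, hbD, hl⟩ := exists_block_over hM hPL hCL hB hP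
    obtain ⟨ξ, hξ⟩ := isPBlock_nonempty hb
    exact ⟨b, hbD, isInducedBlock_of_lam hb hξ (isResHom_lam hM hPg hCL (Or.inl hPL) (hfac ξ)) hB
      (by rw [hl ξ hξ]; exact one_ne_zero)⟩
  · intro b b' hb hb'
    obtain ⟨ξ, hξ⟩ := isPBlock_nonempty hb.1
    obtain ⟨ξ', hξ'⟩ := isPBlock_nonempty hb'.1
    obtain ⟨c, hc⟩ := exists_above (N := Subgroup.normalizer (P : Set G)) hM hPg hPL hCL hLN (hfac ξ)
    obtain ⟨c', hc'⟩ := exists_above (N := Subgroup.normalizer (P : Set G)) hM hPg hPL hCL hLN (hfac ξ')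
    obtain ⟨η, hη⟩ := isPBlock_nonempty hc.isBlock
    obtain ⟨η', hη'⟩ := isPBlock_nonempty hc'.isBlock
    have h1 := lam_blockIdem_of_isInducedBlock hb hξ
    have h1' := lam_blockIdem_of_isInducedBlock hb' hξ'
    rw [hc.lam_eq hLN hη ((CL.blockIdem hB).ps _)] at h1
    rw [hc'.lam_eq hLN hη' ((CL.blockIdem hB).ps _)] at h1'
    have hPN : P ≤ Subgroup.normalizer (P : Set G) := Subgroup.le_normalizer
    have hD := isDefectGroup_of_lam hM hPN (centralizer_le_normalizer' P) hB hP hc.isBlock hη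
      (Factors.of_normal hM hPg hPN le_rfl η) (by rw [h1]; exact one_ne_zero)
    have hD' := isDefectGroup_of_lam hM hPN (centralizer_le_normalizer' P) hB hP hc'.isBlock hη'
      (Factors.of_normal hM hPg hPN le_rfl η') (by rw [h1']; exact one_ne_zero)
    obtain rfl := eq_of_lam_eq_one hM hPg le_rfl hB hc.isBlock hD hc'.isBlock hD' hη hη' h1 h1'
    obtain ⟨n, hn⟩ := exists_conjBlk_of_above hLN hN hb.1 hb'.1 hξ hξ' hc hc'
    refine ⟨(n : G)⁻¹, inv_mem n.2, fun θ hθ => ⟨conjIrr (hN n.2) θ, hn ▸ ⟨θ, hθ, rfl⟩, fun x hx => ?_⟩⟩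
    rw [conjIrr_apply]
    exact congrArg _ (Subtype.ext (by simp [mul_assoc]))

end Cfsg.Agent.S0973
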