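import Cfsg.Statements.S0979
import Cfsg.Agent.Lib.Block.SelfCentDegrees

set_option autoImplicit false
open Cfsg

open Cfsg.Agent Cfsg.Agent.Classical

namespace Cfsg.Agent.S0979

theorem sylow_count : ∀ d < 289, d ∣ 288 → d % 19 = 1 → 1 < d → d = 96 := by
  decide +kernel

theorem cand : ∀ f < 74, 2 ≤ f → f ∣ 5472 → (f % 19 = 1 ∨ f % 19 = 19 - 1) → f = 18 := by
  decide +kernel

/-- No finite simple group has order 5472 = 2^5 * 3^2 * 19. -/
theorem result {G : Type*} [Group G] [Finite G] [IsSimpleGroup G] : Nat.card G ≠ 5472 := by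
  classical
  intro h
  haveI : Fact (Nat.Prime 19) := ⟨by norm_num⟩
  have hG : ¬ IsMulCommutative G := SimpleOrder.not_comm (by rw [h]; norm_num)
  have h' : Nat.card G = 19 ^ 1 * 288 := by rw [h]; norm_num
  obtain ⟨hd, hmod, hone, -⟩ := SimpleOrder.sylow_number (p := 19) hG h' one_pos (by norm_num)
  have hn := sylow_count _ (Nat.lt_succ_of_le (Nat.le_of_dvd (by norm_num) hd)) hd hmod hone
  obtain ⟨P⟩ : Nonempty (Sylow 19 G) := inferInstance
  have hP : Nat.card P = 19 := by
    rw [SimpleOrder.card_sylow_eq P h' (by norm_num)]; norm_num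
  have hN : Nat.card (Subgroup.normalizer ((P : Subgroup G) : Set G)) = 19 * 3 := by
    have := SimpleOrder.card_normalizer_mul P
    rw [hn, h] at this
    omega
  obtain ⟨f, g, x, y, e, f2, flt, fdvd, g2, glt, gdvd, -, edvd, hx, hy, cf, cg, he⟩ :=
    Block.SelfCentDeg.degree_three hG P hP (by rw [hN]) (by norm_num)
  rw [h] at flt fdvd glt gdvd edvd
  have hf : f = 18 := cand f (by nlinarith) f2 fdvd (by
    obtain ⟨k, hk⟩ := cf
    rcases hx with rfl | rfl <;> omega)
  have hg : g = 18 := cand g (by nlinarith) g2 gdvd (by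
    obtain ⟨k, hk⟩ := cg
    rcases hy with rfl | rfl <;> omega)
  subst hf hg
  obtain rfl : x = -1 := by
    obtain ⟨k, hk⟩ := cf
    rcases hx with rfl | rfl <;> omega
  obtain rfl : y = -1 := by
    obtain ⟨k, hk⟩ := cg
    rcases hy with rfl | rfl <;> omega
  have he' : e = 35 := by omega
  rw [he'] at edvd
  norm_num at edvd

end Cfsg.Agent.S0979
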