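import Cfsg.Statements.S0985
import Cfsg.Agent.Lib.Classical.SimpleOrder

set_option autoImplicit false
open Cfsg

open Cfsg.Agent.Classical

namespace Cfsg.Agent.S0985

/-- If the number of Sylow p-subgroups of a finite group is not congruent to 1 modulo p^k, then there are two distinct Sylow p-subgroups P and R such that the index of P ∩ R in P is at most p^(k-1). -/
theorem result {G : Type*} [Group G] [Finite G] (p k : ℕ) [Fact p.Prime] (h : ¬ Nat.card (Sylow p G) ≡ 1 [MOD p ^ k]) : ∃ P R : Sylow p G, P ≠ R ∧ ((R : Subgroup G).subgroupOf (P : Subgroup G)).index ≤ p ^ (k - 1) := by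
  classical
  have hp : p.Prime := Fact.out
  obtain ⟨P⟩ : Nonempty (Sylow p G) := inferInstance
  by_contra hc
  push Not at hc
  apply h
  haveI : Fintype (Sylow p G) := Fintype.ofFinite _
  letI : MulAction (P : Subgroup G) (Sylow p G) := MulAction.compHom _ (P : Subgroup G).subtype
  have hdvd : ∀ R : Sylow p G, R ≠ P → p ^ k ∣ Nat.card (MulAction.orbit (P : Subgroup G) R) := by
    intro R hR
    have hidx := hc P R hR.symm
    have hstab : MulAction.stabilizer (P : Subgroup G) R = (R : Subgroup G).subgroupOf (P : Subgroup G) := by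
      ext x
      rw [MulAction.mem_stabilizer_iff, Subgroup.mem_subgroupOf]
      show (x : G) • R = R ↔ (x : G) ∈ (R : Subgroup G)
      rw [Sylow.smul_eq_iff_mem_normalizer]
      refine ⟨fun hx => ?_, fun hx => Subgroup.le_normalizer hx⟩
      have hle := (P.2.inf_normalizer_sylow R)
      have : (x : G) ∈ (P : Subgroup G) ⊓ Subgroup.normalizer ((R : Subgroup G) : Set G) := ⟨x.2, hx⟩
      exact (hle.le this).2
    rw [← Nat.card_congr (MulAction.orbitEquivQuotientStabilizer (P : Subgroup G) R).symm, hstab]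
    show p ^ k ∣ ((R : Subgroup G).subgroupOf (P : Subgroup G)).index
    obtain ⟨i, hi⟩ := P.2.index ((R : Subgroup G).subgroupOf (P : Subgroup G))
    rw [hi] at hidx ⊢
    refine pow_dvd_pow p ?_
    by_contra hik
    have := Nat.pow_le_pow_right hp.pos (show i ≤ k - 1 by omega)
    omega
  haveI : Fintype (MulAction.orbitRel.Quotient (P : Subgroup G) (Sylow p G)) := Fintype.ofFinite _
  rw [Nat.card_congr (MulAction.selfEquivSigmaOrbits (P : Subgroup G) (Sylow p G)), Nat.card_sigma]
  have hPorb : MulAction.orbit (P : Subgroup G) P = {P} := by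
    refine Set.eq_singleton_iff_unique_mem.2 ⟨MulAction.mem_orbit_self P, ?_⟩
    rintro R ⟨x, rfl⟩
    show (x : G) • P = P
    exact Sylow.smul_eq_iff_mem_normalizer.2 (Subgroup.le_normalizer x.2)
  set ω₀ : MulAction.orbitRel.Quotient (P : Subgroup G) (Sylow p G) := Quotient.mk'' P with hω₀
  rw [← Finset.add_sum_erase _ _ (Finset.mem_univ ω₀)]
  have h1 : Nat.card (MulAction.orbitRel.Quotient.orbit ω₀) = 1 := by
    rw [hω₀, MulAction.orbitRel.Quotient.orbit_mk, hPorb]
    simp
  have h1' : Nat.card (MulAction.orbit (P : Subgroup G) ω₀.out) = 1 := by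
    rwa [← MulAction.orbitRel.Quotient.orbit_eq_orbit_out ω₀ Quotient.out_eq']
  rw [h1']
  have hrest : p ^ k ∣ ∑ ω ∈ Finset.univ.erase ω₀, Nat.card (MulAction.orbit (P : Subgroup G) ω.out) := by
    refine Finset.dvd_sum fun ω hω => hdvd _ fun he => ?_
    exact (Finset.mem_erase.1 hω).1 (by rw [← ω.out_eq', he])
  simpa [Nat.ModEq] using (Nat.modEq_zero_iff_dvd.2 hrest).add_left 1

end Cfsg.Agent.S0985
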