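import Cfsg.Statements.S0986
import Mathlib.GroupTheory.Nilpotent


set_option autoImplicit false
open Cfsg

namespace Cfsg.Agent.S0986

/-- Let P and Q be distinct Sylow p-subgroups of a finite group G chosen so that the order of P ∩ Q is as large as possible among intersections of two distinct Sylow p-subgroups, and let N be the normalizer of P ∩ Q. Then N has more than one Sylow p-subgroup, any two distinct Sylow p-subgroups of N intersect exactly in P ∩ Q, and each Sylow p-subgroup of N lies in exactly one Sylow p-subgroup of G. -/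
theorem result {G : Type*} [Group G] [Finite G] (p : ℕ) [Fact p.Prime] (P Q : Sylow p G) (hPQ : P ≠ Q) (hmax : ∀ P' Q' : Sylow p G, P' ≠ Q' → Nat.card ↥((P' : Subgroup G) ⊓ (Q' : Subgroup G)) ≤ Nat.card ↥((P : Subgroup G) ⊓ (Q : Subgroup G))) : 1 < Nat.card (Sylow p ↥(Subgroup.normalizer (((P : Subgroup G) ⊓ (Q : Subgroup G) : Subgroup G) : Set G))) ∧ (∀ S T : Sylow p ↥(Subgroup.normalizer (((P : Subgroup G) ⊓ (Q : Subgroup G) : Subgroup G) : Set G)), S ≠ T → (S : Subgroup _) ⊓ (T : Subgroup _) = ((P : Subgroup G) ⊓ (Q : Subgroup G)).subgroupOf (Subgroup.normalizer (((P : Subgroup G) ⊓ (Q : Subgroup G) : Subgroup G) : Set G))) ∧ ∀ S : Sylow p ↥(Subgroup.normalizer (((P : Subgroup G) ⊓ (Q : Subgroup G) : Subgroup G) : Set G)), ∃! T : Sylow p G, (S : Subgroup _).map (Subgroup.normalizer (((P : Subgroup G) ⊓ (Q : Subgroup G) : Subgroup G) : Set G)).subtype ≤ (T : Subgroup G) := by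
  classical
  set D := (P : Subgroup G) ⊓ (Q : Subgroup G) with hD
  set N := Subgroup.normalizer (D : Set G) with hN
  have hDN : D ≤ N := Subgroup.le_normalizer
  have grow : ∀ R : Sylow p G, D ≤ R → D ≠ R → D < (R : Subgroup G) ⊓ N := by
    intro R hR hne
    refine lt_of_le_of_ne (le_inf hR hDN) fun e => ?_
    haveI : Group.IsNilpotent (R : Subgroup G) := R.2.isNilpotent
    have hlt : D.subgroupOf (R : Subgroup G) < ⊤ := lt_top_iff_ne_top.2 fun e' =>
      hne (le_antisymm hR (Subgroup.subgroupOf_eq_top.1 e'))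
    refine (Group.normalizerCondition_of_isNilpotent _ hlt).ne (le_antisymm Subgroup.le_normalizer fun x hx => ?_)
    have hxN : (x : G) ∈ N := by
      rw [hN, Subgroup.mem_normalizer_iff]
      intro y
      constructor
      · intro hy
        exact (Subgroup.mem_normalizer_iff.1 hx ⟨y, hR hy⟩).1 hy
      · intro hy
        have hyR : y ∈ (R : Subgroup G) := by
          have := mul_mem (mul_mem (inv_mem x.2) (hR hy)) x.2
          rwa [show (x : G)⁻¹ * ((x : G) * y * (x : G)⁻¹) * (x : G) = y by group] at this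
        exact (Subgroup.mem_normalizer_iff.1 hx ⟨y, hyR⟩).2 hy
    show (x : G) ∈ D
    rw [e]
    exact ⟨x.2, hxN⟩
  have hneP : D ≠ P := fun e => hPQ (Sylow.ext (P.3 Q.2 (e.symm.le.trans inf_le_right)).symm)
  have hneQ : D ≠ Q := fun e => hPQ (Sylow.ext (Q.3 P.2 (e.symm.le.trans inf_le_left)))
  haveI hnorm : (D.subgroupOf N).Normal := Subgroup.normal_in_normalizer
  have hDS : ∀ S : Sylow p N, D.subgroupOf N ≤ S := by
    intro S
    obtain ⟨S', hS'⟩ := ((P.2.to_le inf_le_left : IsPGroup p D).comap_subtype (K := N)).exists_le_sylow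
    obtain ⟨g, rfl⟩ := MulAction.exists_smul_eq N S' S
    intro z hz
    rw [Sylow.coe_subgroup_smul, Subgroup.mem_pointwise_smul_iff_inv_smul_mem, ← map_inv]
    exact hS' (hnorm.conj_mem z hz g⁻¹)
  have hbig : ∀ S : Sylow p N, Nat.card D < Nat.card S := by
    intro S
    obtain ⟨S', hS'⟩ := ((P.2.to_le inf_le_left : IsPGroup p ↥((P : Subgroup G) ⊓ N)).comap_subtype (K := N)).exists_le_sylow
    have hc : Nat.card S = Nat.card S' := Nat.card_congr (S.equiv S').toEquiv
    have h1 : D < (P : Subgroup G) ⊓ N := grow P inf_le_left hneP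
    have h2 : Nat.card D < Nat.card ↥((P : Subgroup G) ⊓ N) := by
      refine lt_of_le_of_ne (Nat.le_of_dvd Nat.card_pos (Subgroup.card_dvd_of_le h1.le)) fun e => h1.ne ?_
      exact Subgroup.eq_of_le_of_card_ge h1.le e.ge
    have h3 : Nat.card ↥((P : Subgroup G) ⊓ N) ≤ Nat.card S' := by
      rw [← Nat.card_congr (Subgroup.subgroupOfEquivOfLe (inf_le_right : (P : Subgroup G) ⊓ N ≤ N)).toEquiv]
      exact Nat.le_of_dvd Nat.card_pos (Subgroup.card_dvd_of_le hS')
    omega
  have huniq : ∀ T T' : Sylow p G, ∀ H : Subgroup G, H ≤ T → H ≤ T' → Nat.card D < Nat.card H → T = T' := by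
    intro T T' H h1 h2 h3
    by_contra hne
    have := hmax T T' hne
    have := Nat.le_of_dvd Nat.card_pos (Subgroup.card_dvd_of_le (le_inf h1 h2))
    omega
  have hmapc : ∀ S : Sylow p N, Nat.card D < Nat.card ↥((S : Subgroup N).map N.subtype) := fun S => by
    rw [Subgroup.card_map_of_injective N.subtype_injective]; exact hbig S
  refine ⟨?_, ?_, fun S => ?_⟩
  · by_contra hle
    haveI hsub : Subsingleton (Sylow p N) := Finite.card_le_one_iff_subsingleton.1 (by omega)
    obtain ⟨S, hS⟩ := ((P.2.to_le inf_le_left : IsPGroup p ↥((P : Subgroup G) ⊓ N)).comap_subtype (K := N)).exists_le_sylow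
    obtain ⟨S', hS'⟩ := ((Q.2.to_le inf_le_left : IsPGroup p ↥((Q : Subgroup G) ⊓ N)).comap_subtype (K := N)).exists_le_sylow
    obtain rfl : S' = S := Subsingleton.elim _ _
    obtain ⟨T, hT⟩ := (S'.2.map N.subtype).exists_le_sylow
    have lift : ∀ H : Subgroup G, H ≤ N → H.subgroupOf N ≤ S' → H ≤ T := fun H hH hHS x hx =>
      hT ⟨⟨x, hH hx⟩, hHS hx, rfl⟩
    have hcard : ∀ R : Sylow p G, D < (R : Subgroup G) ⊓ N → Nat.card D < Nat.card ↥((R : Subgroup G) ⊓ N) := fun R h1 =>
      lt_of_le_of_ne (Nat.le_of_dvd Nat.card_pos (Subgroup.card_dvd_of_le h1.le)) fun e =>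
        h1.ne (Subgroup.eq_of_le_of_card_ge h1.le e.ge)
    have e1 : P = T := huniq P T _ inf_le_left (lift _ inf_le_right hS) (hcard P (grow P inf_le_left hneP))
    have e2 : Q = T := huniq Q T _ inf_le_left (lift _ inf_le_right hS') (hcard Q (grow Q inf_le_right hneQ))
    exact hPQ (e1.trans e2.symm)
  · intro S T hST
    refine (Subgroup.eq_of_le_of_card_ge (le_inf (hDS S) (hDS T)) ?_).symm
    obtain ⟨A, hA⟩ := (S.2.map N.subtype).exists_le_sylow
    obtain ⟨B, hB⟩ := (T.2.map N.subtype).exists_le_sylow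
    have hAB : A ≠ B := by
      rintro rfl
      have hp : IsPGroup p ↥((A : Subgroup G).subgroupOf N) := A.2.comap_subtype
      have e1 := S.3 hp fun x hx => hA ⟨x, hx, rfl⟩
      have e2 := T.3 hp fun x hx => hB ⟨x, hx, rfl⟩
      exact hST (Sylow.ext (e1.symm.trans e2))
    have hle := hmax A B hAB
    rw [Nat.card_congr (Subgroup.subgroupOfEquivOfLe hDN).toEquiv]
    refine le_trans ?_ hle
    rw [← Subgroup.card_map_of_injective (K := (S : Subgroup N) ⊓ (T : Subgroup N)) N.subtype_injective]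
    refine Nat.le_of_dvd Nat.card_pos (Subgroup.card_dvd_of_le (le_inf ?_ ?_))
    · exact (Subgroup.map_mono inf_le_left).trans hA
    · exact (Subgroup.map_mono inf_le_right).trans hB
  · obtain ⟨T, hT⟩ := (S.2.map N.subtype).exists_le_sylow
    exact ⟨T, hT, fun T' hT' => huniq T' T _ hT' hT (hmapc S)⟩

end Cfsg.Agent.S0986
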