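import Cfsg.Statements.S0987
import Cfsg.Agent.Lib.Classical.SimpleOrder

set_option autoImplicit false
open Cfsg

open Cfsg.Agent.Classical
open scoped Pointwise

namespace Cfsg.Agent.S0987

/-- If a finite group has order pqr for primes p < q < r, then its Sylow r-subgroups are normal. -/
theorem result {G : Type*} [Group G] [Finite G] (p q r : ℕ) (hp : p.Prime) (hq : q.Prime) [Fact r.Prime] (hpq : p < q) (hqr : q < r) (hG : Nat.card G = p * q * r) (R : Sylow r G) : (R : Subgroup G).Normal := by
  classical
  haveI := Fact.mk hq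
  haveI : Fintype G := Fintype.ofFinite G
  have hr : r.Prime := Fact.out
  have hpr : p < r := hpq.trans hqr
  have hR : Nat.card R = r := by
    have := SimpleOrder.card_sylow_eq R (k := 1) (m := p * q) (by rw [hG]; ring) (fun h => by
      rcases hr.dvd_mul.1 h with h | h
      · exact absurd ((Nat.prime_dvd_prime_iff_eq hr hp).1 h) (by omega)
      · exact absurd ((Nat.prime_dvd_prime_iff_eq hr hq).1 h) (by omega))
    rwa [pow_one] at this
  rcases Nat.lt_or_ge 1 (Nat.card (Sylow r G)) with hlt | hle
  swap
  · have h1 : Nat.card (Sylow r G) = 1 := le_antisymm hle Nat.card_pos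
    rw [R.card_eq_index_normalizer, Subgroup.index_eq_one] at h1
    exact Subgroup.normalizer_eq_top_iff.1 h1
  exfalso
  have hnr : Nat.card (Sylow r G) = p * q := by
    have hd := R.card_dvd_index
    have hidx : (R : Subgroup G).index = p * q := by
      have h1 := Subgroup.card_mul_index (R : Subgroup G)
      rw [hR, hG] at h1
      exact Nat.eq_of_mul_eq_mul_left hr.pos (by rw [h1]; ring)
    rw [hidx] at hd
    have hmod : Nat.card (Sylow r G) % r = 1 := by
      have := card_sylow_modEq_one r G
      rwa [Nat.ModEq, Nat.one_mod_eq_one.2 hr.one_lt.ne'] at this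
    rcases Nat.dvd_mul.1 hd with ⟨a, b, ha, hb, hab⟩
    rcases (Nat.dvd_prime hp).1 ha with rfl | rfl <;> rcases (Nat.dvd_prime hq).1 hb with rfl | rfl
    · simp only [one_mul, mul_one] at hab; omega
    · simp only [one_mul, mul_one] at hab; rw [← hab, Nat.mod_eq_of_lt hqr] at hmod; have := hq.two_le; omega
    · simp only [one_mul, mul_one] at hab; rw [← hab, Nat.mod_eq_of_lt hpr] at hmod; have := hp.two_le; omega
    · exact hab.symm
  -- count elements of order `q` and `r`
  have hcount : ∀ (s : ℕ), s.Prime → ∀ [Fact s.Prime], (∀ S : Sylow s G, Nat.card S = s) →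
      (Finset.univ.filter fun g : G => orderOf g = s).card = Nat.card (Sylow s G) * (s - 1) := by
    intro s hs _ hS
    haveI : Fintype (Sylow s G) := Fintype.ofFinite _
    have hu : (Finset.univ.filter fun g : G => orderOf g = s) = Finset.univ.biUnion
        fun S : Sylow s G => Finset.univ.filter fun g => g ≠ 1 ∧ g ∈ (S : Subgroup G) := by
      ext g
      simp only [Finset.mem_filter, Finset.mem_univ, true_and, Finset.mem_biUnion]
      constructor
      · intro hg
        obtain ⟨S, hS'⟩ := (IsPGroup.of_card (p := s) (n := 1) (G := Subgroup.zpowers g)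
          (by rw [Nat.card_zpowers, hg, pow_one])).exists_le_sylow
        exact ⟨S, fun h => by rw [h, orderOf_one] at hg; exact hs.one_lt.ne hg,
          hS' (Subgroup.mem_zpowers g)⟩
      · rintro ⟨S, hg1, hgS⟩
        have hd : orderOf g ∣ s := by
          rw [← Subgroup.orderOf_mk g hgS]
          exact (orderOf_dvd_natCard _).trans (dvd_of_eq (hS S))
        exact ((Nat.dvd_prime hs).1 hd).resolve_left (by rwa [orderOf_eq_one_iff])
    rw [hu, Finset.card_biUnion, Finset.sum_const_nat (m := s - 1), Finset.card_univ,
      Nat.card_eq_fintype_card]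
    · intro S _
      rw [show (Finset.univ.filter fun g => g ≠ 1 ∧ g ∈ (S : Subgroup G)) =
        (Finset.univ.filter fun g => g ∈ (S : Subgroup G)).erase 1 by ext g; simp,
        Finset.card_erase_of_mem (by simp [one_mem]), ← Fintype.card_subtype,
        ← Nat.card_eq_fintype_card]
      exact congrArg (· - 1) (hS S)
    · intro S _ T _ hST
      rw [Function.onFun, Finset.disjoint_left]
      intro g hg hg'
      simp at hg hg'
      have hgen : ∀ U : Sylow s G, g ∈ (U : Subgroup G) → (U : Subgroup G) = Subgroup.zpowers g := by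
        intro U hU
        refine (Subgroup.eq_of_le_of_card_ge (Subgroup.zpowers_le.2 hU) ?_).symm
        have hd : Nat.card (Subgroup.zpowers g) ∣ s :=
          hS U ▸ Subgroup.card_dvd_of_le (Subgroup.zpowers_le.2 hU)
        rcases (Nat.dvd_prime hs).1 hd with h | h
        · exact absurd (by rwa [Nat.card_zpowers, orderOf_eq_one_iff] at h) hg.1
        · rw [hS U, h]
      exact hST (Sylow.ext ((hgen S hg.2).trans (hgen T hg'.2).symm))
  have hQc : ∀ S : Sylow q G, Nat.card S = q := fun S => by
    have := SimpleOrder.card_sylow_eq S (k := 1) (m := p * r) (by rw [hG]; ring) (fun h => by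
      rcases hq.dvd_mul.1 h with h | h
      · exact absurd ((Nat.prime_dvd_prime_iff_eq hq hp).1 h) (by omega)
      · exact absurd ((Nat.prime_dvd_prime_iff_eq hq hr).1 h) (by omega))
    rwa [pow_one] at this
  have hRc : ∀ S : Sylow r G, Nat.card S = r := fun S => (Sylow.card_eq_multiplicity S).trans
    ((Sylow.card_eq_multiplicity R).symm.trans hR)
  have cr := hcount r hr hRc
  have cq := hcount q hq hQc
  -- the Sylow `q` number is `1` or at least `r`
  obtain ⟨Q⟩ : Nonempty (Sylow q G) := inferInstance
  have hdq : Nat.card (Sylow q G) ∣ p * r := by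
    have hd := Q.card_dvd_index
    have hidx : (Q : Subgroup G).index = p * r := by
      have h1 := Subgroup.card_mul_index (Q : Subgroup G)
      rw [hQc Q, hG] at h1
      exact Nat.eq_of_mul_eq_mul_left hq.pos (by rw [h1]; ring)
    rwa [hidx] at hd
  rcases Nat.eq_or_lt_of_le (Nat.card_pos (α := Sylow q G)) with h1 | h1
  · -- a normal Sylow `q`-subgroup: the product with `R` is normal of order `qr`
    replace h1 : Nat.card (Sylow q G) = 1 := h1.symm
    rw [Q.card_eq_index_normalizer, Subgroup.index_eq_one] at h1
    haveI hQn : (Q : Subgroup G).Normal := Subgroup.normalizer_eq_top_iff.1 h1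
    set K := (Q : Subgroup G) ⊔ (R : Subgroup G) with hK
    have hKcard : Nat.card K = q * r := by
      have hdisj : Disjoint (Q : Subgroup G) (R : Subgroup G) := by
        rw [disjoint_iff, ← Subgroup.card_eq_one]
        refine Nat.eq_one_of_dvd_coprimes ((Nat.coprime_primes hq hr).2 hqr.ne)
          ((Subgroup.card_dvd_of_le inf_le_left).trans (dvd_of_eq (hQc Q))) ((Subgroup.card_dvd_of_le inf_le_right).trans (dvd_of_eq hR))
      have hset : ((K : Subgroup G) : Set G) = (Q : Subgroup G) * ((R : Subgroup G) : Set G) :=
        Subgroup.normal_mul _ _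
      calc Nat.card K = Nat.card ((K : Subgroup G) : Set G) := rfl
        _ = Nat.card (((Q : Subgroup G) : Set G) * ((R : Subgroup G) : Set G) : Set G) := by rw [hset]
        _ = Nat.card (↥(Q : Subgroup G) × ↥(R : Subgroup G)) := by
          refine (Nat.card_congr (Equiv.ofBijective (fun x => (⟨x.1.1 * x.2.1,
            Set.mul_mem_mul x.1.2 x.2.2⟩ : ↥(((Q : Subgroup G) : Set G) * ((R : Subgroup G) : Set G))))
            ⟨fun a b hab => Subgroup.mul_injective_of_disjoint hdisj (congrArg Subtype.val hab), ?_⟩)).symm
          rintro ⟨y, a, ha, b, hb, rfl⟩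
          exact ⟨(⟨a, ha⟩, ⟨b, hb⟩), rfl⟩
        _ = q * r := by rw [Nat.card_prod, hQc Q, hR]
    have hKidx : K.index = p := by
      have h2 := Subgroup.card_mul_index K
      rw [hKcard, hG] at h2
      exact Nat.eq_of_mul_eq_mul_left (Nat.mul_pos hq.pos hr.pos) (by rw [h2]; ring)
    haveI : K.Normal := Subgroup.normal_of_index_eq_minFac_card (by
      rw [hKidx]
      refine (le_antisymm (Nat.minFac_le_of_dvd hp.two_le (by rw [hG]; exact ⟨q * r, by ring⟩)) ?_).symm
      have hne : Nat.card G ≠ 1 := fun h => by
        rw [hG] at h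
        exact hp.one_lt.ne' (Nat.eq_one_of_mul_eq_one_right (Nat.eq_one_of_mul_eq_one_right h))
      have hm := Nat.minFac_dvd (Nat.card G)
      have hmp := Nat.minFac_prime hne
      set s := (Nat.card G).minFac with hs
      rw [hG] at hm
      rcases hmp.dvd_mul.1 hm with h | h
      · rcases hmp.dvd_mul.1 h with h | h
        · exact ((Nat.prime_dvd_prime_iff_eq hmp hp).1 h).ge
        · rw [(Nat.prime_dvd_prime_iff_eq hmp hq).1 h]; exact hpq.le
      · rw [(Nat.prime_dvd_prime_iff_eq hmp hr).1 h]; exact hpr.le)
    -- `R` is characteristic in `K`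
    let R' : Sylow r K := R.subtype (le_sup_right : (R : Subgroup G) ≤ K)
    have hR'n : Nat.card (Sylow r K) = 1 := by
      have hd := R'.card_dvd_index
      have hidx : (R' : Subgroup K).index = q := by
        have h2 := Subgroup.card_mul_index (R' : Subgroup K)
        rw [hKcard] at h2
        have hc : Nat.card (R' : Subgroup K) = r := by
          exact (Nat.card_congr (Subgroup.subgroupOfEquivOfLe le_sup_right).toEquiv).trans hR
        rw [hc] at h2
        exact Nat.eq_of_mul_eq_mul_left hr.pos (by rw [h2]; ring)
      rw [hidx] at hd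
      rcases (Nat.dvd_prime hq).1 hd with h | h
      · exact h
      · exfalso
        have := card_sylow_modEq_one r K
        rw [h, Nat.ModEq, Nat.mod_eq_of_lt hqr, Nat.one_mod_eq_one.2 hr.one_lt.ne'] at this
        exact hq.one_lt.ne' this
    have hall : ∀ g : G, g • R = R := by
      intro g
      refine Sylow.smul_eq_iff_mem_normalizer.2 ?_
      haveI : Subsingleton (Sylow r K) := (Nat.card_eq_one_iff_unique.1 hR'n).1
      haveI : (R' : Subgroup K).Characteristic := Sylow.characteristic_of_subsingleton _
      have hn : ((R' : Subgroup K).map K.subtype).Normal := inferInstance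
      have e : (R' : Subgroup K).map K.subtype = (R : Subgroup G) :=
        Subgroup.map_subgroupOf_eq_of_le le_sup_right
      rw [e] at hn
      exact (Subgroup.normalizer_eq_top_iff.2 hn).ge (Subgroup.mem_top g)
    have : Subsingleton (Sylow r G) := ⟨fun A B => by
      obtain ⟨a, rfl⟩ := MulAction.exists_smul_eq G R A
      obtain ⟨b, rfl⟩ := MulAction.exists_smul_eq G R B
      rw [hall a, hall b]⟩
    have := Nat.card_eq_one_iff_unique.2 ⟨this, ⟨R⟩⟩
    omega
  · have hge : r ≤ Nat.card (Sylow q G) := by
      rcases Nat.dvd_mul.1 hdq with ⟨a, b, ha, hb, hab⟩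
      rcases (Nat.dvd_prime hp).1 ha with rfl | rfl <;> rcases (Nat.dvd_prime hr).1 hb with rfl | rfl
      · simp only [one_mul, mul_one] at hab; omega
      · simp only [one_mul, mul_one] at hab; omega
      · exfalso
        simp only [one_mul, mul_one] at hab
        have hmod := card_sylow_modEq_one q G
        rw [← hab, Nat.ModEq, Nat.mod_eq_of_lt hpq, Nat.one_mod_eq_one.2 hq.one_lt.ne'] at hmod
        exact hp.one_lt.ne' hmod
      · rw [← hab]; exact Nat.le_mul_of_pos_left _ hp.pos
    have hdisj : Disjoint (Finset.univ.filter fun g : G => orderOf g = r)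
        (Finset.univ.filter fun g : G => orderOf g = q) := by
      rw [Finset.disjoint_left]; intro g hg hg'; simp at hg hg'; omega
    have hle := Finset.card_le_card (Finset.subset_univ
      ((Finset.univ.filter fun g : G => orderOf g = r) ∪ (Finset.univ.filter fun g : G => orderOf g = q)))
    rw [Finset.card_union_of_disjoint hdisj, cr, cq, hnr, Finset.card_univ,
      ← Nat.card_eq_fintype_card, hG] at hle
    have h3 : r * (q - 1) ≤ Nat.card (Sylow q G) * (q - 1) := Nat.mul_le_mul_right _ hge
    have h4 : p * q < r * (q - 1) := by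
      calc p * q < p * r := Nat.mul_lt_mul_of_pos_left hqr hp.pos
        _ ≤ (q - 1) * r := Nat.mul_le_mul_right r (by omega)
        _ = r * (q - 1) := mul_comm _ _
    have h5 : p * q * (r - 1) + p * q = p * q * r := by
      rw [← Nat.mul_succ, Nat.succ_eq_add_one, Nat.sub_add_cancel hr.one_le]
    omega

end Cfsg.Agent.S0987
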