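import Cfsg.Statements.S0988
import Cfsg.Agent.Lib.Classical.SimpleOrder
import Cfsg.Agent.Lib.Classical.DicksonSolvable

set_option autoImplicit false
open Cfsg

namespace Cfsg.Agent.S0988

open Cfsg.Agent.Classical

theorem not_solvable {G : Type*} [Group G] [Finite G] [IsSimpleGroup G] (hna : ¬ IsMulCommutative G) :
    ¬ Group.IsSolvable G := by
  intro h
  have : Group.IsSolvable G := h
  exact hna ⟨⟨IsSimpleGroup.comm_iff_isSolvable.mpr h⟩⟩

/-- A prime order automorphism of a group of order `p²` with prime order greater than `p`. -/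
theorem aut_sq {Q : Type*} [Group Q] [Finite Q] {p t : ℕ} (hp : p.Prime) (ht : t.Prime) (hpt : p < t)
    (hQ : Nat.card Q = p ^ 2) (ψ : MulAut Q) (hψ : orderOf ψ = t) : p = 2 ∧ t = 3 := by
  classical
  have : Fintype Q := Fintype.ofFinite Q
  have : Fact t.Prime := ⟨ht⟩
  let f : MulAut Q →* Equiv.Perm Q :=
    { toFun := fun e => e.toEquiv, map_one' := rfl, map_mul' := fun _ _ => rfl }
  have hf : Function.Injective f := fun a b h => MulEquiv.ext fun x => Equiv.congr_fun h x
  have hσ : orderOf (f ψ) = t := by rw [orderOf_injective f hf, hψ]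
  let F : Subgroup Q :=
    { carrier := {x | ψ x = x}
      one_mem' := map_one ψ
      mul_mem' := fun {a b} ha hb => by show ψ (a * b) = a * b; rw [map_mul, ha, hb]
      inv_mem' := fun {a} ha => by show ψ a⁻¹ = a⁻¹; rw [map_inv, ha] }
  have hF : Nat.card F + (f ψ).support.card = Nat.card Q := by
    have e : (Finset.univ.filter fun x : Q => ψ x = x) = (f ψ).supportᶜ := by
      ext x
      simp [f]
    rw [Nat.card_eq_fintype_card (α := Q), Nat.card_eq_fintype_card (α := F),
      show Fintype.card F = (Finset.univ.filter fun x : Q => ψ x = x).card from Fintype.card_subtype _,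
      e, Finset.card_compl]
    have := (f ψ).support.card_le_univ
    omega
  have hd : t ∣ (f ψ).support.card := by
    rw [← (f ψ).sum_cycleType]
    refine Multiset.dvd_sum fun m hm => ?_
    have h1 := Equiv.Perm.dvd_of_mem_cycleType hm
    have h2 := Equiv.Perm.two_le_of_mem_cycleType hm
    rw [hσ] at h1
    rcases ht.eq_one_or_self_of_dvd m h1 with h | h
    · omega
    · rw [h]
  have h0 : (f ψ).support.card ≠ 0 := by
    intro h
    rw [Finset.card_eq_zero, Equiv.Perm.support_eq_empty_iff] at h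
    rw [h, orderOf_one] at hσ
    exact ht.ne_one hσ.symm
  obtain ⟨i, hi, he⟩ := (Nat.dvd_prime_pow hp).mp (hQ ▸ Subgroup.card_subgroup_dvd_card F)
  rw [he, hQ] at hF
  have hsq : p ^ 2 = p * p := sq p
  interval_cases i
  · have h1 : (f ψ).support.card = (p + 1) * (p - 1) := by
      rw [← Nat.sq_sub_sq p 1]
      rw [pow_zero] at hF
      rw [one_pow]
      omega
    rw [h1] at hd
    have h2 := hp.two_le
    rcases ht.dvd_mul.mp hd with h | h
    · have h3 : t = p + 1 := by
        have := Nat.le_of_dvd (by omega) h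
        omega
      rcases ht.eq_two_or_odd with h4 | h4
      · omega
      · rcases hp.eq_two_or_odd with h5 | h5
        · exact ⟨h5, by omega⟩
        · omega
    · have := Nat.le_of_dvd (by omega) h
      omega
  · exfalso
    have h1 : (f ψ).support.card = p * (p - 1) := by
      rw [pow_one] at hF
      rw [Nat.mul_sub, mul_one]
      omega
    rw [h1] at hd
    have h2 := hp.two_le
    rcases ht.dvd_mul.mp hd with h | h
    · have := Nat.le_of_dvd hp.pos h
      omega
    · have := Nat.le_of_dvd (by omega) h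
      omega
  · omega

/-- If `N(P)/C(P)` is nontrivial, a prime order automorphism is realised. -/
theorem exists_aut {G : Type*} [Group G] [Finite G] (P : Subgroup G)
    (h : ¬ Subgroup.normalizer (P : Set G) ≤ Subgroup.centralizer (P : Set G)) :
    ∃ (ψ : MulAut P) (t : ℕ), t.Prime ∧ orderOf ψ = t ∧ t ∣ Nat.card G ∧
      t ∣ (Subgroup.centralizer (P : Set G)).relIndex (Subgroup.normalizer (P : Set G)) := by
  obtain ⟨g, hg, hgC⟩ := SetLike.not_le_iff_exists.mp h
  let φ := Subgroup.normalizerMonoidHom P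
  have h1 : Nat.card φ.range =
      (Subgroup.centralizer (P : Set G)).relIndex (Subgroup.normalizer (P : Set G)) := by
    rw [← Subgroup.index_ker, Subgroup.normalizerMonoidHom_ker]
    rfl
  have h2 : Nat.card φ.range ≠ 1 := by
    rw [h1]
    exact fun h => hgC (Subgroup.relIndex_eq_one.mp h hg)
  have ht := Nat.minFac_prime h2
  have : Fact (Nat.card φ.range).minFac.Prime := ⟨ht⟩
  obtain ⟨x, hx⟩ := exists_prime_orderOf_dvd_card' (G := φ.range) (Nat.card φ.range).minFac
    (Nat.minFac_dvd _)
  refine ⟨(x : MulAut P), _, ht, by rw [← hx]; exact Subgroup.orderOf_coe x, ?_, h1 ▸ Nat.minFac_dvd _⟩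
  exact (Nat.minFac_dvd _).trans ((φ.range_eq_map ▸ Subgroup.card_map_dvd _ _).trans
    ((Subgroup.card_top (G := Subgroup.normalizer (P : Set G))).dvd.trans
      (Subgroup.card_subgroup_dvd_card _)))

/-- If a finite simple group has order p^2 * q * r with p, q and r prime, then its order is 60. -/
theorem result {G : Type*} [Group G] [Finite G] [IsSimpleGroup G] (p q r : ℕ) (hp : p.Prime) (hq : q.Prime) (hr : r.Prime) (hG : Nat.card G = p ^ 2 * q * r) : Nat.card G = 60 := by
  classical
  have hna : ¬ IsMulCommutative G := by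
    apply SimpleOrder.not_comm
    rw [hG, mul_assoc, sq, mul_assoc]
    intro h
    rcases Nat.prime_mul_iff.mp h with ⟨-, h1⟩ | ⟨-, h1⟩
    · exact absurd h1 (by nlinarith [hp.two_le, Nat.mul_le_mul hq.two_le hr.two_le])
    · exact hp.ne_one h1
  have hns := not_solvable hna
  have hpq : p ≠ q := by
    rintro rfl
    exact hns (Cfsg.Agent.Char.solvable_of_card_prime_pow_mul p r hp hr _ _ rfl ⟨3, 1, by rw [hG]; ring⟩)
  have hpr : p ≠ r := by
    rintro rfl
    exact hns (Cfsg.Agent.Char.solvable_of_card_prime_pow_mul p q hp hq _ _ rfl ⟨3, 1, by rw [hG]; ring⟩)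
  have hqr : q ≠ r := by
    rintro rfl
    exact hns (Cfsg.Agent.Char.solvable_of_card_prime_pow_mul p q hp hq _ _ rfl ⟨2, 2, by rw [hG]; ring⟩)
  have hprimes : ∀ t : ℕ, t.Prime → t ∣ Nat.card G → t = p ∨ t = q ∨ t = r := by
    intro t ht hd
    rw [hG] at hd
    rcases ht.dvd_mul.mp hd with h | h
    · rcases ht.dvd_mul.mp h with h | h
      · exact Or.inl ((Nat.prime_dvd_prime_iff_eq ht hp).mp (ht.dvd_of_dvd_pow h))
      · exact Or.inr (Or.inl ((Nat.prime_dvd_prime_iff_eq ht hq).mp h))
    · exact Or.inr (Or.inr ((Nat.prime_dvd_prime_iff_eq ht hr).mp h))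
  -- the smallest prime occurs squared
  have hsmall : ∀ s : ℕ, s.Prime → (∀ t : ℕ, t.Prime → t ∣ Nat.card G → s ≤ t) →
      ∀ m, Nat.card G = s ^ 1 * m → ¬ s ∣ m → False := by
    intro s hs hmin m hm hsm
    have : Fact s.Prime := ⟨hs⟩
    obtain ⟨P⟩ := Sylow.nonempty (p := s) (G := G)
    have hP : Nat.card P = s := (SimpleOrder.card_sylow_eq P hm hsm).trans (pow_one s)
    obtain ⟨ψ, t, ht, -, htG, htd⟩ := exists_aut (P : Subgroup G)
      (SimpleOrder.not_normalizer_le_centralizer hna (hm ▸ dvd_mul_of_dvd_left (dvd_pow_self s one_ne_zero) m) P)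
    have h1 := htd.trans (SimpleOrder.relIndex_dvd_pred P hP)
    have h2 := Nat.le_of_dvd (by have := hs.two_le; omega) h1
    have := hmin t ht htG
    have := hs.two_le
    omega
  have hqm : Nat.card G = q ^ 1 * (p ^ 2 * r) := by rw [hG]; ring
  have hrm : Nat.card G = r ^ 1 * (p ^ 2 * q) := by rw [hG]; ring
  have hqn : ¬ q ∣ p ^ 2 * r := by
    intro h
    rcases hq.dvd_mul.mp h with h | h
    · exact hpq ((Nat.prime_dvd_prime_iff_eq hq hp).mp (hq.dvd_of_dvd_pow h)).symm
    · exact hqr ((Nat.prime_dvd_prime_iff_eq hq hr).mp h)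
  have hrn : ¬ r ∣ p ^ 2 * q := by
    intro h
    rcases hr.dvd_mul.mp h with h | h
    · exact hpr ((Nat.prime_dvd_prime_iff_eq hr hp).mp (hr.dvd_of_dvd_pow h)).symm
    · exact hqr ((Nat.prime_dvd_prime_iff_eq hr hq).mp h).symm
  have hps : p < q ∧ p < r := by
    by_contra h
    rcases lt_or_gt_of_ne hqr with h' | h'
    · exact hsmall q hq (fun t ht hd => by rcases hprimes t ht hd with rfl | rfl | rfl <;> omega) _ hqm hqn
    · exact hsmall r hr (fun t ht hd => by rcases hprimes t ht hd with rfl | rfl | rfl <;> omega) _ hrm hrn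
  -- the prime `p` is `2` and `3` divides the order
  have hpm : Nat.card G = p ^ 2 * (q * r) := by rw [hG]; ring
  have hpn : ¬ p ∣ q * r := by
    intro h
    rcases hp.dvd_mul.mp h with h | h
    · exact hpq ((Nat.prime_dvd_prime_iff_eq hp hq).mp h)
    · exact hpr ((Nat.prime_dvd_prime_iff_eq hp hr).mp h)
  have : Fact p.Prime := ⟨hp⟩
  obtain ⟨P⟩ := Sylow.nonempty (p := p) (G := G)
  have hP : Nat.card P = p ^ 2 := SimpleOrder.card_sylow_eq P hpm hpn
  obtain ⟨ψ, t, ht, hψ, htG, htd⟩ := exists_aut (P : Subgroup G)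
    (SimpleOrder.not_normalizer_le_centralizer hna (hpm ▸ dvd_mul_of_dvd_left (dvd_pow_self p two_ne_zero) _) P)
  have htp : t ≠ p := by
    rintro rfl
    have hPab : IsMulCommutative (P : Subgroup G) := IsPGroup.isMulCommutative_of_card_eq_prime_sq hP
    have hPC : (P : Subgroup G) ≤ Subgroup.centralizer ((P : Subgroup G) : Set G) := fun x hx =>
      Subgroup.mem_centralizer_iff.mpr fun y hy =>
        congrArg Subtype.val (hPab.is_comm.comm (⟨y, hy⟩ : (P : Subgroup G)) ⟨x, hx⟩)
    exact P.not_dvd_index (htd.trans ((Subgroup.relIndex_dvd_of_le_left _ hPC).trans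
      ((Subgroup.relIndex_dvd_index_of_le Subgroup.le_normalizer))))
  have hpt : p < t := by rcases hprimes t ht htG with rfl | rfl | rfl <;> omega
  obtain ⟨hp2, ht3⟩ := aut_sq hp ht hpt hP ψ hψ
  subst hp2
  subst ht3
  -- the remaining prime
  obtain ⟨s, hs, hs5, hsG⟩ : ∃ s : ℕ, s.Prime ∧ 5 ≤ s ∧ Nat.card G = s ^ 1 * 12 := by
    rcases hprimes 3 ht htG with h | h | h
    · omega
    · refine ⟨r, hr, ?_, by rw [hG, ← h]; ring⟩
      have := hr.five_le_of_ne_two_of_ne_three (by omega) (by omega)
      exact this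
    · refine ⟨q, hq, ?_, by rw [hG, ← h]; ring⟩
      exact hq.five_le_of_ne_two_of_ne_three (by omega) (by omega)
  have : Fact s.Prime := ⟨hs⟩
  have hsn : ¬ s ∣ 12 := fun h => by
    have h' : s ∣ 2 * 2 * 3 := h
    rcases hs.dvd_mul.mp h' with h | h
    · rcases hs.dvd_mul.mp h with h | h <;>
        · have := Nat.le_of_dvd (by norm_num) h; omega
    · have := Nat.le_of_dvd (by norm_num) h; omega
  obtain ⟨hn12, hnmod, hn1, -⟩ := SimpleOrder.sylow_number hna hsG one_pos hsn
  obtain ⟨S⟩ := Sylow.nonempty (p := s) (G := G)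
  have hS : Nat.card S = s := (SimpleOrder.card_sylow_eq S hsG hsn).trans (pow_one s)
  have hN := SimpleOrder.card_normalizer_mul S
  have hn12' : Nat.card (Sylow s G) ≠ 12 := by
    intro h
    rw [h, hsG, pow_one, mul_comm s] at hN
    have hN' := Nat.eq_of_mul_eq_mul_left (by norm_num) hN
    refine SimpleOrder.not_normalizer_le_centralizer hna (hsG ▸ dvd_mul_of_dvd_left (dvd_pow_self s one_ne_zero) _) S ?_
    rw [← Subgroup.eq_of_le_of_card_ge (Subgroup.le_normalizer (H := (S : Subgroup G))) (hN'.le.trans hS.ge)]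
    exact SimpleOrder.le_centralizer_of_card_prime S hS
  have hle := Nat.le_of_dvd (by norm_num) hn12
  have hs' : s = 5 := by
    have hdiv : s ∣ Nat.card (Sylow s G) - 1 := by
      refine ⟨Nat.card (Sylow s G) / s, ?_⟩
      have := Nat.div_add_mod (Nat.card (Sylow s G)) s
      omega
    have hs11 := Nat.le_of_dvd (by omega) hdiv
    interval_cases hn : Nat.card (Sylow s G) <;> interval_cases s <;> norm_num at * <;> omega
  rw [hsG, hs']
  norm_num

end Cfsg.Agent.S0988
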