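import Cfsg.Statements.S0989
import Cfsg.Agent.Lib.Classical.SimpleOrder

set_option autoImplicit false
open Cfsg

open Cfsg.Agent.Classical
open scoped Pointwise

namespace Cfsg.Agent.S0989

/-- In the symmetric group on p or p + 1 letters, p a prime, the normalizer of a Sylow p-subgroup has order p * (p - 1). -/
theorem result {α : Type*} [Fintype α] [DecidableEq α] (p : ℕ) [Fact p.Prime] (hα : Fintype.card α = p ∨ Fintype.card α = p + 1) (P : Sylow p (Equiv.Perm α)) : Nat.card ↥(Subgroup.normalizer ((P : Subgroup (Equiv.Perm α)) : Set (Equiv.Perm α))) = p * (p - 1) := by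
  classical
  have hp : p.Prime := Fact.out
  have hn0 : Fintype.card α < 2 * p := by
    have := hp.two_le
    omega
  have hsq : ¬ p ^ 2 ∣ (Fintype.card α).factorial := by
    rw [hp.pow_dvd_factorial_iff (b := Fintype.card α + 1) (Nat.lt_succ_of_le (Nat.log_le_self _ _))]
    have h1 : Fintype.card α / p = 1 := Nat.div_eq_of_lt_le (by omega) (by omega)
    have h2 : ∀ i, 2 ≤ i → Fintype.card α / p ^ i = 0 := fun i hi => Nat.div_eq_of_lt <| by
      calc Fintype.card α < 2 * p := hn0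
        _ ≤ p * p := Nat.mul_le_mul_right p hp.two_le
        _ = p ^ 2 := (pow_two p).symm
        _ ≤ p ^ i := Nat.pow_le_pow_right hp.pos hi
    rw [Finset.sum_eq_single 1]
    · rw [pow_one, h1]; omega
    · intro i hi hne
      exact h2 i (by simp at hi; omega)
    · intro h; simp at h; omega
  have hdvd : p ∣ (Fintype.card α).factorial := hp.dvd_factorial.2 (by omega)
  have hPc : Nat.card (P : Subgroup (Equiv.Perm α)) = p := by
    rw [P.card_eq_multiplicity, Nat.card_perm, Nat.card_eq_fintype_card]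
    have hfac : (Fintype.card α).factorial.factorization p = 1 := by
      refine le_antisymm ?_ ((hp.dvd_iff_one_le_factorization (Nat.factorial_ne_zero _)).1 hdvd)
      by_contra h
      exact hsq ((hp.pow_dvd_iff_le_factorization (Nat.factorial_ne_zero _)).2 (by omega))
    rw [hfac, pow_one]
  obtain ⟨⟨σ, hσP⟩, hσ⟩ := exists_prime_orderOf_dvd_card' (G := (P : Subgroup (Equiv.Perm α))) p (dvd_of_eq hPc.symm)
  rw [Subgroup.orderOf_mk] at hσ
  have hcyc : σ.IsCycle := Equiv.Perm.isCycle_of_prime_order' (hσ.symm ▸ hp) (by omega)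
  have hct : ∀ τ : Equiv.Perm α, orderOf τ = p → τ.cycleType = {p} := by
    intro τ hτ
    have hc : τ.IsCycle := Equiv.Perm.isCycle_of_prime_order' (hτ.symm ▸ hp) (by omega)
    rw [hc.cycleType, ← hτ, hc.orderOf]
  have hC : Nat.card (Subgroup.centralizer ({σ} : Set (Equiv.Perm α))) = p := by
    rw [Equiv.Perm.nat_card_centralizer, hct σ hσ]
    simp only [Multiset.sum_singleton, Multiset.prod_singleton, Multiset.toFinset_singleton,
      Finset.prod_singleton, Multiset.count_singleton_self, Nat.factorial_one, mul_one]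
    rcases hα with h | h <;> simp [h]
  have hPz : (P : Subgroup (Equiv.Perm α)) = Subgroup.zpowers σ :=
    (Subgroup.eq_of_le_of_card_ge (Subgroup.zpowers_le.2 hσP)
      (by rw [Nat.card_zpowers, hσ, hPc])).symm
  set N := Subgroup.normalizer ((P : Subgroup (Equiv.Perm α)) : Set (Equiv.Perm α)) with hN
  have hτord : ∀ τ ∈ (P : Subgroup (Equiv.Perm α)), τ ≠ 1 → orderOf τ = p := by
    intro τ hτ h1
    have hd : orderOf τ ∣ p := by
      rw [← Subgroup.orderOf_mk τ hτ]
      exact (orderOf_dvd_natCard _).trans (dvd_of_eq hPc)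
    exact ((Nat.dvd_prime hp).1 hd).resolve_left (fun h => h1 (orderOf_eq_one_iff.1 h))
  have hmem : ∀ g : Equiv.Perm α, g * σ * g⁻¹ ∈ (P : Subgroup (Equiv.Perm α)) → g ∈ N := by
    intro g hg
    rw [hN]
    refine Subgroup.mem_normalizer_fintype fun h hh => ?_
    have hh' : h ∈ Subgroup.zpowers σ := hPz ▸ hh
    obtain ⟨k, rfl⟩ := Subgroup.mem_zpowers_iff.1 hh'
    show g * σ ^ k * g⁻¹ ∈ (P : Subgroup (Equiv.Perm α))
    rw [← conj_zpow]
    exact zpow_mem hg k
  let φ : N → {τ : (P : Subgroup (Equiv.Perm α)) // τ ≠ 1} := fun g =>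
    ⟨⟨g.1 * σ * g.1⁻¹, (Subgroup.mem_normalizer_iff.1 g.2 σ).1 hσP⟩, fun h => by
      have h' : g.1 * σ * g.1⁻¹ = 1 := congrArg Subtype.val h
      rw [conj_eq_one_iff] at h'
      rw [h', orderOf_one] at hσ
      exact hp.one_lt.ne hσ⟩
  have hfib : ∀ y, Nat.card {g : N // φ g = y} = p := by
    rintro ⟨⟨τ, hτ⟩, hτ1⟩
    have h1 : τ ≠ 1 := fun h => hτ1 (Subtype.ext h)
    obtain ⟨c, hc⟩ := isConj_iff.1 (Equiv.Perm.isConj_iff_cycleType_eq.2
      ((hct σ hσ).trans (hct τ (hτord τ hτ h1)).symm))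
    have hcN : c ∈ N := hmem c (by rw [hc]; exact hτ)
    have e1 : ∀ g : {g : N // φ g = ⟨⟨τ, hτ⟩, hτ1⟩},
        c⁻¹ * g.1.1 ∈ Subgroup.centralizer ({σ} : Set (Equiv.Perm α)) := by
      intro g
      rw [Subgroup.mem_centralizer_singleton_iff]
      have h := congrArg (fun y => (y.1 : Equiv.Perm α)) g.2
      change g.1.1 * σ * g.1.1⁻¹ = τ at h
      replace h : g.1.1 * σ * g.1.1⁻¹ = c * σ * c⁻¹ := h.trans hc.symm
      calc c⁻¹ * g.1.1 * σ = c⁻¹ * (g.1.1 * σ * g.1.1⁻¹) * g.1.1 := by group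
        _ = σ * (c⁻¹ * g.1.1) := by rw [h]; group
    have e2 : ∀ z : Subgroup.centralizer ({σ} : Set (Equiv.Perm α)), c * z.1 ∈ N := fun z => by
      refine mul_mem hcN (hmem _ ?_)
      rw [Subgroup.mem_centralizer_singleton_iff.1 z.2, mul_inv_cancel_right]
      exact hσP
    have e3 : ∀ z : Subgroup.centralizer ({σ} : Set (Equiv.Perm α)),
        φ ⟨c * z.1, e2 z⟩ = ⟨⟨τ, hτ⟩, hτ1⟩ := fun z => by
      refine Subtype.ext (Subtype.ext ?_)
      show c * z.1 * σ * (c * z.1)⁻¹ = τ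
      rw [← hc]
      calc c * z.1 * σ * (c * z.1)⁻¹ = c * (z.1 * σ * z.1⁻¹) * c⁻¹ := by group
        _ = c * σ * c⁻¹ := by rw [Subgroup.mem_centralizer_singleton_iff.1 z.2, mul_inv_cancel_right]
    exact (Nat.card_congr
      ({ toFun := fun g => ⟨c⁻¹ * g.1.1, e1 g⟩
         invFun := fun z => ⟨⟨c * z.1, e2 z⟩, e3 z⟩
         left_inv := fun g => Subtype.ext (Subtype.ext (mul_inv_cancel_left c g.1.1))
         right_inv := fun z => Subtype.ext (inv_mul_cancel_left c z.1) } :
        {g : N // φ g = ⟨⟨τ, hτ⟩, hτ1⟩} ≃ Subgroup.centralizer ({σ} : Set (Equiv.Perm α)))).trans hC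
  haveI : Fintype {τ : (P : Subgroup (Equiv.Perm α)) // τ ≠ 1} := Fintype.ofFinite _
  rw [← Nat.card_congr (Equiv.sigmaFiberEquiv φ), Nat.card_sigma,
    Finset.sum_congr rfl fun y _ => hfib y, Finset.sum_const, Finset.card_univ, smul_eq_mul, mul_comm]
  congr 1
  haveI : Fintype (P : Subgroup (Equiv.Perm α)) := Fintype.ofFinite _
  rw [Fintype.card_subtype_compl, Fintype.card_subtype_eq, ← Nat.card_eq_fintype_card, hPc]

end Cfsg.Agent.S0989
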