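import Cfsg.Statements.S0990
import Cfsg.Agent.Lib.Classical.SimpleOrder

set_option autoImplicit false
open Cfsg

open Cfsg.Agent.Classical
open scoped Pointwise

namespace Cfsg.Agent.S0990

/-- Let p be an odd prime and P a Sylow p-subgroup of the symmetric group on a finite set with at least two elements. Then P is contained in the alternating group, and twice the order of the normalizer of P inside the alternating group equals the order of the normalizer of P in the symmetric group. -/
theorem result {α : Type*} [Fintype α] [DecidableEq α] (hα : 2 ≤ Fintype.card α) (p : ℕ) [Fact p.Prime] (hp : p ≠ 2) (P : Sylow p (Equiv.Perm α)) : (P : Subgroup (Equiv.Perm α)) ≤ alternatingGroup α ∧ 2 * Nat.card ↥(Subgroup.normalizer ((((P : Subgroup (Equiv.Perm α)).subgroupOf (alternatingGroup α) : Subgroup ↥(alternatingGroup α)) : Set ↥(alternatingGroup α)))) = Nat.card ↥(Subgroup.normalizer ((P : Subgroup (Equiv.Perm α)) : Set (Equiv.Perm α))) := by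
  classical
  haveI : Nontrivial α := Fintype.one_lt_card_iff_nontrivial.1 (by omega)
  have hle : (P : Subgroup (Equiv.Perm α)) ≤ alternatingGroup α := by
    intro x hx
    obtain ⟨k, hk⟩ := IsPGroup.iff_orderOf.1 P.2 ⟨x, hx⟩
    rw [Subgroup.orderOf_mk] at hk
    rcases Int.units_eq_one_or (Equiv.Perm.sign x) with h | h
    · exact Equiv.Perm.mem_alternatingGroup.2 h
    · exfalso
      have hodd : Odd (orderOf x) := hk ▸ ((Fact.out : p.Prime).odd_of_ne_two hp).pow
      have h2 := congrArg Equiv.Perm.sign (pow_orderOf_eq_one x)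
      rw [map_pow, h, map_one, hodd.neg_one_pow] at h2
      exact absurd h2 (by decide)
  refine ⟨hle, ?_⟩
  set N := Subgroup.normalizer ((P : Subgroup (Equiv.Perm α)) : Set (Equiv.Perm α)) with hN
  set A := alternatingGroup α with hA
  have e1 : Subgroup.normalizer ((((P : Subgroup (Equiv.Perm α)).subgroupOf A : Subgroup ↥A) : Set ↥A)) =
      N.subgroupOf A := by
    rw [hN]
    exact (Subgroup.subgroupOf_normalizer_eq hle).symm
  rw [e1]
  have hfr : (P.subtype hle : Subgroup ↥A).map A.subtype = (P : Subgroup (Equiv.Perm α)) :=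
    Subgroup.map_subgroupOf_eq_of_le hle
  have hsup : N ⊔ A = ⊤ := by
    have h := Sylow.normalizer_sup_eq_top (N := A) (P.subtype hle)
    rw [hfr] at h
    exact h
  have hnot : ¬ N ≤ A := fun hNA => by
    rw [sup_eq_right.2 hNA] at hsup
    have := alternatingGroup.index_eq_two (α := α)
    rw [← hA, hsup, Subgroup.index_top] at this
    omega
  have hidx : (A.subgroupOf N).index = 2 := by
    have h2 : (A.subgroupOf N).index ∣ A.index := Subgroup.relIndex_dvd_index_of_normal A N
    rw [hA, alternatingGroup.index_eq_two] at h2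
    rcases (Nat.dvd_prime Nat.prime_two).1 h2 with h | h
    · exact absurd (Subgroup.relIndex_eq_one.1 h) hnot
    · exact h
  have hc := Subgroup.index_mul_card (A.subgroupOf N)
  rw [hidx] at hc
  rw [← hc]
  congr 1
  refine Nat.card_congr ⟨fun x => ⟨⟨x.1.1, x.2⟩, x.1.2⟩, fun x => ⟨⟨x.1.1, x.2⟩, x.1.2⟩,
    fun _ => rfl, fun _ => rfl⟩

end Cfsg.Agent.S0990
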