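import Cfsg.Statements.S0994
import Cfsg.Agent.Lib.Classical.SimpleOrder

set_option autoImplicit false
open Cfsg

open Cfsg.Agent.Classical
open scoped Pointwise

namespace Cfsg.Agent.S0994

/-- No finite simple group has order 1188 = 2^2 * 3^3 * 11. -/
theorem result {G : Type*} [Group G] [Finite G] [IsSimpleGroup G] : Nat.card G ≠ 1188 := by
  classical
  intro h
  haveI : Fact (Nat.Prime 11) := ⟨by norm_num⟩
  have hG : ¬ IsMulCommutative G := SimpleOrder.not_comm (by rw [h]; norm_num)
  have h' : Nat.card G = 11 ^ 1 * 108 := by rw [h]; norm_num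
  obtain ⟨hd, hmod, hone, -⟩ := SimpleOrder.sylow_number (p := 11) hG h' one_pos (by norm_num)
  have hn : Nat.card (Sylow 11 G) = 12 := by
    have := Nat.le_of_dvd (by norm_num) hd
    interval_cases hc : Nat.card (Sylow 11 G) <;> simp_all
  obtain ⟨P⟩ : Nonempty (Sylow 11 G) := inferInstance
  have hP : Nat.card P = 11 := by simpa using SimpleOrder.card_sylow_eq P h' (by norm_num)
  have h1 := SimpleOrder.relIndex_dvd_pred P hP
  have h2 := SimpleOrder.card_centralizer_mul P
  have h3 := SimpleOrder.card_normalizer_mul P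
  rw [hn, h] at h3
  have h99 : Nat.card (Subgroup.normalizer ((P : Subgroup G) : Set G)) = 99 := by omega
  rw [h99] at h2
  refine SimpleOrder.not_normalizer_le_centralizer hG (by rw [h]; norm_num) P
    (Subgroup.relIndex_eq_one.1 ?_)
  exact Nat.eq_one_of_dvd_coprimes (by norm_num : Nat.Coprime 10 99) h1 ⟨_, h2.symm⟩

end Cfsg.Agent.S0994
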