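import Cfsg.Statements.S0995
import Cfsg.Agent.Lib.Classical.Order168

set_option autoImplicit false
open Cfsg

namespace Cfsg.Agent.S0995

/-- Let G be a finite perfect group containing an element z of prime order p whose centralizer is the cyclic group it generates. Let t be the number of conjugacy classes of elements of order p. Then t divides p - 1, the number of Sylow p-subgroups has the form 1 + n * p, and |G| * t = (p - 1) * p * (1 + n * p). -/
theorem result {G : Type*} [Group G] [Finite G] (hperf : commutator G = ⊤) (p : ℕ) [Fact p.Prime] (z : G) (hz : orderOf z = p) (hC : Subgroup.centralizer ({z} : Set G) = Subgroup.zpowers z) : ∃ n t : ℕ, t = Nat.card {c : ConjClasses G // ∃ g : G, ConjClasses.mk g = c ∧ orderOf g = p} ∧ t ∣ p - 1 ∧ Nat.card (Sylow p G) = 1 + n * p ∧ Nat.card G * t = (p - 1) * p * (1 + n * p) := by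
  classical
  have hp : p.Prime := Fact.out
  have hcent : ∀ g : G, orderOf g = p → ∀ P : Sylow p G, g ∈ (P : Subgroup G) → Nat.card P = p → (P : Subgroup G) = Subgroup.zpowers g := by
    intro g hg P hgP hc
    exact (Subgroup.eq_of_le_of_card_ge (Subgroup.zpowers_le.2 hgP) (by rw [Nat.card_zpowers, hg, hc])).symm
  -- every Sylow subgroup has order p
  have hzp : IsPGroup p (Subgroup.zpowers z) := IsPGroup.of_card (n := 1) (by rw [Nat.card_zpowers, hz, pow_one])
  obtain ⟨P₀, hP₀⟩ := hzp.exists_le_sylow
  have hz0 : z ∈ (P₀ : Subgroup G) := hP₀ (Subgroup.mem_zpowers z)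
  have hP₀c : (P₀ : Subgroup G) = Subgroup.zpowers z := by
    haveI : Nontrivial (P₀ : Subgroup G) := ⟨⟨⟨z, hz0⟩, 1, fun e => by
      have : z = 1 := congrArg Subtype.val e
      rw [this, orderOf_one] at hz; exact hp.ne_one hz.symm⟩⟩
    haveI := P₀.2.center_nontrivial
    obtain ⟨⟨c, hc⟩, hc1⟩ := exists_ne (1 : Subgroup.center (P₀ : Subgroup G))
    have hcC : (c : G) ∈ Subgroup.zpowers z := by
      rw [← hC, Subgroup.mem_centralizer_singleton_iff]
      exact (congrArg Subtype.val (Subgroup.mem_center_iff.1 hc ⟨z, hz0⟩)).symm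
    have hgen : z ∈ Subgroup.zpowers (c : G) := by
      have hd : orderOf (c : G) ∣ p := by
        have := Subgroup.orderOf_dvd_natCard _ hcC
        rwa [Nat.card_zpowers, hz] at this
      rcases (Nat.dvd_prime hp).1 hd with e | e
      · exact absurd (Subtype.ext (Subtype.ext (orderOf_eq_one_iff.1 e))) hc1
      · rw [Subgroup.eq_of_le_of_card_ge (Subgroup.zpowers_le.2 hcC) (by rw [Nat.card_zpowers, Nat.card_zpowers, hz, e])]
        exact Subgroup.mem_zpowers z
    refine le_antisymm (fun x hx => ?_) hP₀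
    rw [← hC, Subgroup.mem_centralizer_singleton_iff]
    obtain ⟨k, hk⟩ := Subgroup.mem_zpowers_iff.1 hgen
    have hcomm : Commute x (c : G) := congrArg Subtype.val (Subgroup.mem_center_iff.1 hc ⟨x, hx⟩)
    rw [← hk]
    exact (hcomm.zpow_right k).eq
  have hPc : ∀ P : Sylow p G, Nat.card P = p := fun P => by
    rw [Nat.card_congr (P.equiv P₀).toEquiv]
    show Nat.card (P₀ : Subgroup G) = p
    rw [hP₀c, Nat.card_zpowers, hz]
  -- centralizers of elements of order p
  have hCg : ∀ g : G, orderOf g = p → Nat.card (Subgroup.centralizer ({g} : Set G)) = p := by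
    intro g hg
    obtain ⟨P, hP⟩ := (IsPGroup.of_card (p := p) (n := 1) (G := Subgroup.zpowers g)
      (by rw [Nat.card_zpowers, hg, pow_one])).exists_le_sylow
    obtain ⟨x, hx⟩ := MulAction.exists_smul_eq G P₀ P
    have hPg := hcent g hg P (hP (Subgroup.mem_zpowers g)) (hPc P)
    -- transport the centralizer of z
    have key : ∀ y : G, y ∈ Subgroup.centralizer ({g} : Set G) ↔ x⁻¹ * y * x ∈ Subgroup.centralizer ({z} : Set G) := by
      have hgx : x⁻¹ * g * x ∈ Subgroup.zpowers z := by
        rw [← hP₀c]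
        have := hP (Subgroup.mem_zpowers g)
        rw [← hx, Sylow.coe_subgroup_smul, Subgroup.mem_pointwise_smul_iff_inv_smul_mem, ← map_inv] at this
        simpa using this
      have hzx : x * z * x⁻¹ ∈ Subgroup.zpowers g := by
        rw [← hPg, ← hx, Sylow.coe_subgroup_smul]
        exact Subgroup.smul_mem_pointwise_smul z (MulAut.conj x) _ hz0
      intro y
      rw [Subgroup.mem_centralizer_singleton_iff, Subgroup.mem_centralizer_singleton_iff]
      constructor
      · intro hy
        obtain ⟨k, hk⟩ := Subgroup.mem_zpowers_iff.1 hzx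
        have hcm : Commute y (x * z * x⁻¹) := hk ▸ (Commute.zpow_right hy k)
        have := congrArg (fun u => x⁻¹ * u * x) hcm.eq
        simpa [mul_assoc] using this
      · intro hy
        obtain ⟨k, hk⟩ := Subgroup.mem_zpowers_iff.1 hgx
        have hcm : Commute (x⁻¹ * y * x) (x⁻¹ * g * x) := hk ▸ (Commute.zpow_right hy k)
        have := congrArg (fun u => x * u * x⁻¹) hcm.eq
        simpa [mul_assoc] using this
    have hc : Nat.card (Subgroup.centralizer ({g} : Set G)) = Nat.card (Subgroup.centralizer ({z} : Set G)) :=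
      Nat.card_congr ((MulAut.conj x⁻¹).toEquiv.subtypeEquiv fun y => by
        rw [key y]; simp [MulAut.conj_apply])
    rw [hc, hC, Nat.card_zpowers, hz]
  set nS := Nat.card (Sylow p G) with hnS
  set t := Nat.card {c : ConjClasses G // ∃ g : G, ConjClasses.mk g = c ∧ orderOf g = p} with ht
  have helts : Nat.card {g : G // orderOf g = p} = nS * (p - 1) := Cfsg.Agent.Classical.Order168.card_orderOf_eq p hPc
  have hclass : ∀ c : {c : ConjClasses G // ∃ g : G, ConjClasses.mk g = c ∧ orderOf g = p},
      Nat.card {g : {g : G // orderOf g = p} // ConjClasses.mk (g : G) = c.1} * p = Nat.card G := by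
    rintro ⟨c, g, rfl, hg⟩
    have h1 := Cfsg.Agent.Classical.Order168.card_isConj_mul g
    rw [hCg g hg] at h1
    rw [← h1]
    congr 1
    refine Nat.card_congr
      { toFun := fun y => ⟨y.1.1, (ConjClasses.mk_eq_mk_iff_isConj.1 y.2).symm⟩
        invFun := fun y => ⟨⟨y.1, by
          obtain ⟨u, hu⟩ := isConj_iff.1 y.2
          rw [← hu, ← MulAut.conj_apply, MulEquiv.orderOf_eq, hg]⟩, ConjClasses.mk_eq_mk_iff_isConj.2 y.2.symm⟩
        left_inv := fun y => rfl
        right_inv := fun y => rfl }
  have hmul : nS * (p - 1) * p = t * Nat.card G := by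
    haveI : Fintype {c : ConjClasses G // ∃ g : G, ConjClasses.mk g = c ∧ orderOf g = p} := Fintype.ofFinite _
    let f : {g : G // orderOf g = p} → {c : ConjClasses G // ∃ g : G, ConjClasses.mk g = c ∧ orderOf g = p} :=
      fun g => ⟨ConjClasses.mk g.1, g.1, rfl, g.2⟩
    rw [← helts, ← Nat.card_congr (Equiv.sigmaFiberEquiv f), Nat.card_sigma, Finset.sum_mul]
    rw [Finset.sum_congr rfl fun c _ => (show Nat.card {g // f g = c} * p = Nat.card G by
      rw [← hclass c]; congr 1; exact Nat.card_congr (Equiv.subtypeEquivRight fun g => Subtype.ext_iff))]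
    rw [Finset.sum_const, Finset.card_univ, smul_eq_mul, ← Nat.card_eq_fintype_card]
  obtain ⟨n, hn⟩ : ∃ n, nS = 1 + n * p := by
    have hm := card_sylow_modEq_one p G
    unfold Nat.ModEq at hm
    rw [Nat.one_mod_eq_one.2 hp.ne_one] at hm
    exact ⟨nS / p, by have := Nat.div_add_mod nS p; rw [hm] at this; rw [mul_comm]; omega⟩
  refine ⟨n, t, rfl, ?_, hn, ?_⟩
  · have hN := (Subgroup.normalizer ((P₀ : Subgroup G) : Set G)).card_mul_index
    rw [show (Subgroup.normalizer ((P₀ : Subgroup G) : Set G)).index = nS from P₀.card_eq_index_normalizer.symm] at hN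
    have hpN : p ∣ Nat.card (Subgroup.normalizer ((P₀ : Subgroup G) : Set G)) := by
      exact (hPc P₀).symm.dvd.trans (Subgroup.card_dvd_of_le Subgroup.le_normalizer)
    obtain ⟨m, hm⟩ := hpN
    refine ⟨m, ?_⟩
    rw [← hN, hm] at hmul
    have hpos : 0 < nS * p := Nat.mul_pos Nat.card_pos hp.pos
    exact Nat.eq_of_mul_eq_mul_left hpos (by linarith [hmul] : nS * p * (p - 1) = nS * p * (t * m))
  · rw [← hn, mul_comm, ← hmul]; ring

end Cfsg.Agent.S0995
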