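import Cfsg.Statements.S1007
import Cfsg.Agent.Lib.Classical.Order168Klein

set_option autoImplicit false
open Cfsg

open Cfsg.Agent.Classical

namespace Cfsg.Agent.S1007

/-- Let G be a simple group of order 168 and T a Sylow 2-subgroup. Then T contains exactly two subgroups that are Klein four-groups; they are not conjugate in G; and the normalizer of every Klein four-subgroup of G is isomorphic to the symmetric group of degree 4. -/
theorem result {G : Type*} [Group G] [Finite G] [IsSimpleGroup G] (h : Nat.card G = 168) (T : Sylow 2 G) : Nat.card {U : Subgroup G // U ≤ (T : Subgroup G) ∧ IsKleinFour ↥U} = 2 ∧ (∀ U W : Subgroup G, U ≤ (T : Subgroup G) → W ≤ (T : Subgroup G) → IsKleinFour ↥U → IsKleinFour ↥W → U ≠ W → ∀ g : G, U.map (MulAut.conj g).toMonoidHom ≠ W) ∧ ∀ U : Subgroup G, IsKleinFour ↥U → Nonempty (↥(Subgroup.normalizer (U : Set G)) ≃* Equiv.Perm (Fin 4)) := by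
  obtain ⟨U₁, U₂, h1, h2, k1, k2, hne, hall⟩ := Order168.exists_two_fours h T
  refine ⟨?_, fun U W hU hW hUk hWk hUW g => Order168.fours_not_conj h T hU hW hUk hWk hUW g,
    fun U hU => (Order168.four_normalizer h hU).2⟩
  refine (Nat.card_congr (Equiv.subtypeEquivRight (q := fun U => U ∈ ({U₁, U₂} : Set (Subgroup G)))
    fun U => ⟨fun hU => hall U hU.1 hU.2, ?_⟩)).trans ((Nat.card_coe_set_eq _).trans (Set.ncard_pair hne))
  rintro (rfl | rfl)
  · exact ⟨h1, k1⟩
  · exact ⟨h2, k2⟩

end Cfsg.Agent.S1007
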