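import Cfsg.Statements.S1008
import Cfsg.Agent.Lib.Classical.Order168Klein
import Cfsg.Agent.Lib.Classical.SL2Subgroups

set_option autoImplicit false
open Cfsg

open Cfsg.Agent.Classical

namespace Cfsg.Agent.S1008

/-- In a simple group of order 168 every maximal subgroup is either isomorphic to the symmetric group of degree 4 or non-abelian of order 21; the maximal subgroups of order 21 form one conjugacy class and those isomorphic to the symmetric group of degree 4 form exactly two conjugacy classes. -/
theorem result {G : Type*} [Group G] [Finite G] [IsSimpleGroup G] (h : Nat.card G = 168) : (∀ M : Subgroup G, IsCoatom M → Nonempty (↥M ≃* Equiv.Perm (Fin 4)) ∨ (Nat.card ↥M = 21 ∧ ¬ IsMulCommutative ↥M)) ∧ (∀ M M' : Subgroup G, IsCoatom M → IsCoatom M' → Nat.card ↥M = 21 → Nat.card ↥M' = 21 → ∃ g : G, M' = M.map (MulAut.conj g).toMonoidHom) ∧ ∃ M₁ M₂ : Subgroup G, IsCoatom M₁ ∧ IsCoatom M₂ ∧ Nonempty (↥M₁ ≃* Equiv.Perm (Fin 4)) ∧ Nonempty (↥M₂ ≃* Equiv.Perm (Fin 4)) ∧ (∀ g : G, M₂ ≠ M₁.map (MulAut.conj g).toMonoidHom) ∧ ∀ M : Subgroup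 G, IsCoatom M → Nonempty (↥M ≃* Equiv.Perm (Fin 4)) → ∃ g : G, M = M₁.map (MulAut.conj g).toMonoidHom ∨ M = M₂.map (MulAut.conj g).toMonoidHom := by
  classical
  haveI : Fact (Nat.Prime 2) := ⟨Nat.prime_two⟩
  haveI : Fact (Nat.Prime 3) := ⟨Nat.prime_three⟩
  haveI : Fact (Nat.Prime 7) := ⟨by norm_num⟩
  obtain ⟨T⟩ : Nonempty (Sylow 2 G) := inferInstance
  obtain ⟨U₁, U₂, h1, h2, k1, k2, hne, hall⟩ := Order168.exists_two_fours h T
  obtain ⟨c1, e1⟩ := Order168.four_normalizer h k1
  obtain ⟨c2, e2⟩ := Order168.four_normalizer h k2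
  have hnab := Order168.nonabelian h
  have co24 : ∀ M : Subgroup G, Nat.card M = 24 → IsCoatom M := by
    intro M hM
    refine ⟨fun e => by rw [e, Subgroup.card_top, h] at hM; omega, fun K hK => ?_⟩
    by_contra hK'
    have hle := Order168.card_le_24 h hK'
    exact hK.ne (Subgroup.eq_of_le_of_card_ge hK.le (by omega))
  have conj21 : ∀ M : Subgroup G, Nat.card M = 21 → ∃ P : Sylow 7 G, M = Subgroup.normalizer ((P : Subgroup G) : Set G) := by
    intro M hM
    obtain ⟨P'⟩ : Nonempty (Sylow 7 M) := inferInstance
    have hP' : Nat.card P' = 7 := by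
      simpa using SimpleOrder.card_sylow_eq P' (k := 1) (m := 3) (by rw [hM]; norm_num) (by norm_num)
    haveI : Subsingleton (Sylow 7 M) := by
      rw [← Finite.card_le_one_iff_subsingleton]
      have hi : (P' : Subgroup M).index = 3 := by
        have := (P' : Subgroup M).card_mul_index
        rw [hM, hP'] at this; omega
      have hd := P'.card_dvd_index
      rw [hi] at hd
      have hm := card_sylow_modEq_one 7 M
      unfold Nat.ModEq at hm
      rcases (Nat.dvd_prime Nat.prime_three).1 hd with e | e <;> omega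
    haveI hnorm : (P' : Subgroup M).Normal := Sylow.normal_of_subsingleton P'
    obtain ⟨P, hP⟩ := (P'.2.map M.subtype).exists_le_sylow
    have hPc := (Order168.seven_data h P).1
    have heq : (P' : Subgroup M).map M.subtype = (P : Subgroup G) :=
      Subgroup.eq_of_le_of_card_ge hP (by rw [Subgroup.card_map_of_injective M.subtype_injective, hP', hPc])
    refine ⟨P, Subgroup.eq_of_le_of_card_ge ?_ (by rw [hM, (Order168.seven_data h P).2.1])⟩
    rw [← heq]
    refine le_trans ?_ (Subgroup.le_normalizer_map M.subtype)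
    rw [Subgroup.normalizer_eq_top, ← MonoidHom.range_eq_map, Subgroup.range_subtype]
  have classify : ∀ M : Subgroup G, IsCoatom M →
      (∃ U : Subgroup G, IsKleinFour ↥U ∧ M = Subgroup.normalizer (U : Set G)) ∨
      (∃ P : Sylow 7 G, M = Subgroup.normalizer ((P : Subgroup G) : Set G)) := by
    intro M hM
    have hle := Order168.card_le_24 h hM.1
    have hd : Nat.card M ∣ 168 := h ▸ Subgroup.card_subgroup_dvd_card M
    have hpos : 0 < Nat.card M := Nat.card_pos
    have eqof : ∀ K : Subgroup G, M ≤ K → K ≠ ⊤ → M = K := fun K hK hK' => by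
      rcases eq_or_lt_of_le hK with e | e
      · exact e
      · exact absurd (hM.2 K e) hK'
    have four_in : ∀ U : Subgroup G, IsKleinFour ↥U → M ≤ Subgroup.normalizer (U : Set G) →
        ∃ U : Subgroup G, IsKleinFour ↥U ∧ M = Subgroup.normalizer (U : Set G) := fun U hU hMU =>
      ⟨U, hU, eqof _ hMU fun e => by
        have := (Order168.four_normalizer h hU).1
        rw [e, Subgroup.card_top, h] at this; omega⟩
    by_cases h7 : 7 ∣ Nat.card M
    · right
      have h21 : Nat.card M = 7 ∨ Nat.card M = 14 ∨ Nat.card M = 21 := by omega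
      rcases h21 with e | e | e
      · obtain ⟨P, hP⟩ := (IsPGroup.of_card (p := 7) (n := 1) (by rw [e, pow_one])).exists_le_sylow
        have hN := (Order168.seven_data h P).2.1
        refine ⟨P, eqof _ (hP.trans Subgroup.le_normalizer) fun e' => ?_⟩
        rw [e', Subgroup.card_top, h] at hN; omega
      · exfalso
        obtain ⟨⟨a, ha⟩, hao⟩ := exists_prime_orderOf_dvd_card' (G := M) 2 (by rw [e]; norm_num)
        obtain ⟨⟨b, hb⟩, hbo⟩ := exists_prime_orderOf_dvd_card' (G := M) 7 (by rw [e]; norm_num)
        rw [Subgroup.orderOf_mk] at hao hbo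
        obtain ⟨P, hP⟩ := (IsPGroup.of_card (p := 7) (n := 1) (G := Subgroup.zpowers b)
          (by rw [Nat.card_zpowers, hbo, pow_one])).exists_le_sylow
        obtain ⟨hPc, hPN, -⟩ := Order168.seven_data h P
        have heq : Subgroup.zpowers b = (P : Subgroup G) :=
          Subgroup.eq_of_le_of_card_ge hP (by rw [Nat.card_zpowers, hbo, hPc])
        have hidx : ((Subgroup.zpowers b).subgroupOf M).index = 2 := by
          have := ((Subgroup.zpowers b).subgroupOf M).card_mul_index
          rw [Nat.card_congr (Subgroup.subgroupOfEquivOfLe (Subgroup.zpowers_le.2 hb)).toEquiv, Nat.card_zpowers, hbo, e] at this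
          omega
        have hMN : M ≤ Subgroup.normalizer ((P : Subgroup G) : Set G) := by
          rw [← heq]
          exact (Subgroup.normal_subgroupOf_iff_le_normalizer (Subgroup.zpowers_le.2 hb)).1 (Subgroup.normal_of_index_eq_two hidx)
        have := Subgroup.card_dvd_of_le hMN
        rw [e, hPN] at this; omega
      · exact conj21 M e
    left
    -- orders dividing 24
    by_cases h3 : 3 ∣ Nat.card M
    swap
    · have h8 : Nat.card M ∣ 8 := by
        have : Nat.card M = 1 ∨ Nat.card M = 2 ∨ Nat.card M = 4 ∨ Nat.card M = 8 := by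
          interval_cases hc : Nat.card M <;> simp_all
        rcases this with e | e | e | e <;> rw [e] <;> norm_num
      obtain ⟨k, hk, hkc⟩ := (Nat.dvd_prime_pow Nat.prime_two).1 (show Nat.card M ∣ 2 ^ 3 from h8)
      obtain ⟨T', hT'⟩ := (IsPGroup.of_card (p := 2) (n := k) hkc).exists_le_sylow
      obtain ⟨V, -, hV, -, kV, -, -, -⟩ := Order168.exists_two_fours h T'
      exact four_in V kV (hT'.trans (Order168.le_normalizer_four h kV T' hV))
    -- the normaliser of a Sylow 3-subgroup lies in the normaliser of a four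
    have three_in : ∀ P : Sylow 3 G, ∃ U : Subgroup G, IsKleinFour ↥U ∧
        Subgroup.normalizer ((P : Subgroup G) : Set G) ≤ Subgroup.normalizer (U : Set G) := by
      intro P
      set N := Subgroup.normalizer (U₁ : Set G) with hN
      obtain ⟨e⟩ := e1
      obtain ⟨σ, hσ, τ, hτ, hτσ⟩ : ∃ σ : Equiv.Perm (Fin 4), orderOf σ = 3 ∧ ∃ τ, orderOf τ = 2 ∧ τ * σ * τ⁻¹ = σ⁻¹ :=
        ⟨Equiv.swap 0 1 * Equiv.swap 1 2, orderOf_eq_prime (by decide) (by decide), Equiv.swap 0 1,
          orderOf_eq_prime (by decide) (by decide), by decide⟩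
      set s : G := (e.symm σ : G) with hs
      set t : G := (e.symm τ : G) with ht
      have hso : orderOf s = 3 := by rw [hs, Subgroup.orderOf_coe, MulEquiv.orderOf_eq, hσ]
      have hto : orderOf t = 2 := by rw [ht, Subgroup.orderOf_coe, MulEquiv.orderOf_eq, hτ]
      obtain ⟨Q, hQ⟩ := (IsPGroup.of_card (p := 3) (n := 1) (G := Subgroup.zpowers s)
        (by rw [Nat.card_zpowers, hso, pow_one])).exists_le_sylow
      obtain ⟨hQc, hQN, -⟩ := Order168.three_data h Q
      have hQs : Subgroup.zpowers s = (Q : Subgroup G) :=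
        Subgroup.eq_of_le_of_card_ge hQ (by rw [Nat.card_zpowers, hso, hQc])
      set L := Subgroup.closure ({s, t} : Set G) with hL
      have hLN : L ≤ N := by
        rw [hL, Subgroup.closure_le]; rintro x (rfl | rfl)
        · exact (e.symm σ).2
        · exact (e.symm τ).2
      have hLQ : L ≤ Subgroup.normalizer ((Q : Subgroup G) : Set G) := by
        rw [hL, Subgroup.closure_le]; rintro x (rfl | rfl)
        · exact Subgroup.le_normalizer (hQ (Subgroup.mem_zpowers _))
        · rw [SetLike.mem_coe, ← hQs, Subgroup.mem_normalizer_iff]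
          have hts : t * s * t⁻¹ = s⁻¹ := by
            rw [hs, ht, ← Subgroup.coe_inv, ← Subgroup.coe_mul, ← Subgroup.coe_mul, ← Subgroup.coe_inv, ← map_inv,
              ← map_mul, ← map_mul, hτσ, map_inv]
          have key : ∀ z ∈ Subgroup.zpowers s, t * z * t⁻¹ ∈ Subgroup.zpowers s := by
            intro z hz
            obtain ⟨m, rfl⟩ := Subgroup.mem_zpowers_iff.1 hz
            rw [← conj_zpow, hts, _root_.inv_zpow]
            exact inv_mem (Subgroup.zpow_mem_zpowers s m)
          intro z
          refine ⟨key z, fun hz => ?_⟩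
          have := key _ hz
          have htt : t * t = 1 := by rw [← pow_two, ← hto]; exact pow_orderOf_eq_one t
          rwa [inv_eq_of_mul_eq_one_right htt, show t * (t * z * t) * t = (t * t) * z * (t * t) by group, htt,
            one_mul, mul_one] at this
      have h6 : 6 ∣ Nat.card L := by
        have a : 3 ∣ Nat.card L := hso ▸ (Subgroup.orderOf_dvd_natCard L (Subgroup.subset_closure (Or.inl rfl)))
        have b : 2 ∣ Nat.card L := hto ▸ (Subgroup.orderOf_dvd_natCard L (Subgroup.subset_closure (Or.inr rfl)))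
        omega
      have hLeq : L = Subgroup.normalizer ((Q : Subgroup G) : Set G) :=
        Subgroup.eq_of_le_of_card_ge hLQ (by rw [hQN]; exact Nat.le_of_dvd Nat.card_pos h6)
      obtain ⟨g, hg⟩ := MulAction.exists_smul_eq G Q P
      refine ⟨U₁.map (MulAut.conj g).toMonoidHom, ?_, ?_⟩
      · refine Order168.isKlein_of (by rw [Subgroup.card_map_of_injective (MulAut.conj g).injective, (Order168.klein_sq k1).1]) ?_
        rintro _ ⟨u, hu, rfl⟩
        rw [← map_mul, (Order168.klein_sq k1).2 u hu, map_one]
      · have hP : (P : Subgroup G) = (Q : Subgroup G).map (MulAut.conj g).toMonoidHom := by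
          rw [← hg, Sylow.coe_subgroup_smul]; rfl
        rw [hP, ← Subgroup.map_equiv_normalizer_eq, ← Subgroup.map_equiv_normalizer_eq, ← hLeq]
        exact Subgroup.map_mono hLN
    obtain ⟨⟨s, hsM⟩, hso⟩ := exists_prime_orderOf_dvd_card' (G := M) 3 h3
    rw [Subgroup.orderOf_mk] at hso
    obtain ⟨P, hP⟩ := (IsPGroup.of_card (p := 3) (n := 1) (G := Subgroup.zpowers s)
      (by rw [Nat.card_zpowers, hso, pow_one])).exists_le_sylow
    have hPs : Subgroup.zpowers s = (P : Subgroup G) :=
      Subgroup.eq_of_le_of_card_ge hP (by rw [Nat.card_zpowers, hso, (Order168.three_data h P).1])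
    have h6 : ∀ g : M, orderOf g ≠ 6 := fun g hg => Order168.no_six h g (by rw [Subgroup.orderOf_coe]; exact hg)
    rcases (show Nat.card M = 3 ∨ Nat.card M = 6 ∨ Nat.card M = 12 ∨ Nat.card M = 24 by
        interval_cases hc : Nat.card M <;> simp_all) with e | e | e | e
    · obtain ⟨U, hU, hUle⟩ := three_in P
      refine four_in U hU ((le_trans ?_ Subgroup.le_normalizer).trans hUle)
      rw [← hPs]
      exact (Subgroup.eq_of_le_of_card_ge (Subgroup.zpowers_le.2 hsM) (by rw [Nat.card_zpowers, hso, e])).ge
    · obtain ⟨U, hU, hUle⟩ := three_in P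
      refine four_in U hU (le_trans ?_ hUle)
      rw [← hPs]
      refine (Subgroup.normal_subgroupOf_iff_le_normalizer (Subgroup.zpowers_le.2 hsM)).1 (Subgroup.normal_of_index_eq_two ?_)
      have := ((Subgroup.zpowers s).subgroupOf M).card_mul_index
      rw [Nat.card_congr (Subgroup.subgroupOfEquivOfLe (Subgroup.zpowers_le.2 hsM)).toEquiv, Nat.card_zpowers, hso, e] at this
      omega
    · obtain ⟨φ⟩ := SL2Two.nonempty_alt_four e h6
      obtain ⟨a, c, ha, ha1, hc, hc1, hac, hac1, hnorm⟩ : ∃ a c : alternatingGroup (Fin 4), a * a = 1 ∧ a ≠ 1 ∧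
          c * c = 1 ∧ c ≠ 1 ∧ a * c = c * a ∧ a ≠ c ∧
          ∀ g : alternatingGroup (Fin 4), (g * a * g⁻¹ = a ∨ g * a * g⁻¹ = c ∨ g * a * g⁻¹ = a * c) ∧
            (g * c * g⁻¹ = a ∨ g * c * g⁻¹ = c ∨ g * c * g⁻¹ = a * c) :=
        ⟨⟨Equiv.swap 0 1 * Equiv.swap 2 3, by rw [Equiv.Perm.mem_alternatingGroup]; decide⟩,
          ⟨Equiv.swap 0 2 * Equiv.swap 1 3, by rw [Equiv.Perm.mem_alternatingGroup]; decide⟩,
          by decide, by decide, by decide, by decide, by decide, by decide, by decide⟩
      set A : G := (φ.symm a : G) with hA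
      set C : G := (φ.symm c : G) with hC
      have hsq : ∀ x : alternatingGroup (Fin 4), x * x = 1 → ((φ.symm x : M) : G) * (φ.symm x : M) = 1 := fun x hx => by
        rw [← Subgroup.coe_mul, ← map_mul, hx, map_one]; rfl
      have hco : A * C = C * A := by rw [hA, hC, ← Subgroup.coe_mul, ← map_mul, hac, map_mul, Subgroup.coe_mul]
      set V := Subgroup.closure ({A, C} : Set G) with hV
      have hVset : ∀ z ∈ V, z = 1 ∨ z = A ∨ z = C ∨ z = A * C := by
        intro z hz
        induction hz using Subgroup.closure_induction with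
        | mem x hx => rcases hx with rfl | rfl <;> simp
        | one => simp
        | mul x y _ _ hx hy =>
          have a2 : A * A = 1 := hsq a ha
          have c2 : C * C = 1 := hsq c hc
          have r1 : A * (A * C) = C := by rw [← mul_assoc, a2, one_mul]
          have r2 : C * (A * C) = A := by rw [hco, ← mul_assoc, c2, one_mul]
          have r3 : A * C * A = C := by rw [hco, mul_assoc, a2, mul_one]
          have r4 : A * C * C = A := by rw [mul_assoc, c2, mul_one]
          have r5 : A * C * (A * C) = 1 := by rw [← mul_assoc, r3, c2]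
          rcases hx with rfl | rfl | rfl | rfl <;> rcases hy with rfl | rfl | rfl | rfl <;>
            first
            | (simp only [one_mul, mul_one, a2, c2, r1, r2, r3, r4, r5, ← hco, true_or, or_true]; done)
            | simp [a2, c2, r1, r2, r3, r4, r5, ← hco]
        | inv x _ hx =>
          have ai : A⁻¹ = A := inv_eq_of_mul_eq_one_right (hsq a ha)
          have ci : C⁻¹ = C := inv_eq_of_mul_eq_one_right (hsq c hc)
          rcases hx with rfl | rfl | rfl | rfl <;> simp [ai, ci, ← hco]
      have hVk : IsKleinFour ↥V := by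
        refine Order168.isKlein_of ?_ ?_
        · have hs : (V : Set G) = {1, A, C, A * C} := by
            ext z
            refine ⟨fun hz => hVset z hz, ?_⟩
            rintro (rfl | rfl | rfl | rfl)
            · exact one_mem _
            · exact Subgroup.subset_closure (Or.inl rfl)
            · exact Subgroup.subset_closure (Or.inr rfl)
            · exact mul_mem (Subgroup.subset_closure (Or.inl rfl)) (Subgroup.subset_closure (Or.inr rfl))
          show Nat.card (V : Set G) = 4
          have nA : A ≠ 1 := fun e => ha1 (φ.symm.injective (Subtype.ext (e.trans (by rw [map_one]; rfl))))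
          have nC : C ≠ 1 := fun e => hc1 (φ.symm.injective (Subtype.ext (e.trans (by rw [map_one]; rfl))))
          have nAC : A ≠ C := fun e => hac1 (φ.symm.injective (Subtype.ext e))
          have nM : A * C ≠ 1 := fun e => nAC (by rw [← mul_one A, ← hsq c hc, ← mul_assoc, e, one_mul])
          rw [hs, Nat.card_coe_set_eq, Set.ncard_insert_of_notMem (by simp [nA.symm, nC.symm, nM.symm]),
            Set.ncard_insert_of_notMem (by simp [nAC, nC]), Set.ncard_pair (by simp [nA])]
        · intro z hz
          rcases hVset z hz with rfl | rfl | rfl | rfl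
          · exact one_mul 1
          · exact hsq a ha
          · exact hsq c hc
          · rw [hA, hC, ← Subgroup.coe_mul, ← map_mul]
            exact hsq _ (by rw [mul_assoc, ← mul_assoc c a c, ← hac, mul_assoc a c c, hc, mul_one, ha])
      refine four_in V hVk fun m hm => ?_
      have key : ∀ v ∈ V, m * v * m⁻¹ ∈ V := by
        have hg := hnorm (φ ⟨m, hm⟩)
        have lift : ∀ x y : alternatingGroup (Fin 4), φ ⟨m, hm⟩ * x * (φ ⟨m, hm⟩)⁻¹ = y →
            m * (φ.symm x : G) * m⁻¹ = (φ.symm y : G) := fun x y hxy => by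
          rw [← hxy, map_mul, map_mul, map_inv, MulEquiv.symm_apply_apply]; rfl
        have memA : m * A * m⁻¹ ∈ V := by
          rcases hg.1 with r | r | r <;> rw [hA, lift _ _ r]
          · exact Subgroup.subset_closure (Or.inl rfl)
          · exact Subgroup.subset_closure (Or.inr rfl)
          · rw [map_mul, Subgroup.coe_mul]
            exact mul_mem (Subgroup.subset_closure (Or.inl rfl)) (Subgroup.subset_closure (Or.inr rfl))
        have memC : m * C * m⁻¹ ∈ V := by
          rcases hg.2 with r | r | r <;> rw [hC, lift _ _ r]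
          · exact Subgroup.subset_closure (Or.inl rfl)
          · exact Subgroup.subset_closure (Or.inr rfl)
          · rw [map_mul, Subgroup.coe_mul]
            exact mul_mem (Subgroup.subset_closure (Or.inl rfl)) (Subgroup.subset_closure (Or.inr rfl))
        intro v hv
        induction hv using Subgroup.closure_induction with
        | mem x hx => rcases hx with rfl | rfl; exacts [memA, memC]
        | one => simp
        | mul x y _ _ hx hy => rw [show m * (x * y) * m⁻¹ = m * x * m⁻¹ * (m * y * m⁻¹) by group]; exact mul_mem hx hy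
        | inv x _ hx => rw [show m * x⁻¹ * m⁻¹ = (m * x * m⁻¹)⁻¹ by group]; exact inv_mem hx
      have hle' : V.map (MulAut.conj m).toMonoidHom ≤ V := by rintro _ ⟨v, hv, rfl⟩; exact key v hv
      have heq := Subgroup.eq_of_le_of_card_ge hle' (le_of_eq (Subgroup.card_map_of_injective (MulAut.conj m).injective).symm)
      rw [Subgroup.mem_normalizer_iff]
      intro z
      refine ⟨key z, fun hz => ?_⟩
      rw [← heq] at hz
      obtain ⟨u, hu, e'⟩ := hz
      have : u = z := (MulAut.conj m).injective e'
      exact this ▸ hu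
    · obtain ⟨φ⟩ := Dickson.nonempty_perm_four e h6
      obtain ⟨T'⟩ : Nonempty (Sylow 2 M) := inferInstance
      obtain ⟨a, c, ha, ha1, hc, hc1, hac, hac1, hnorm⟩ : ∃ a c : Equiv.Perm (Fin 4), a * a = 1 ∧ a ≠ 1 ∧
          c * c = 1 ∧ c ≠ 1 ∧ a * c = c * a ∧ a ≠ c ∧
          ∀ g : Equiv.Perm (Fin 4), (g * a * g⁻¹ = a ∨ g * a * g⁻¹ = c ∨ g * a * g⁻¹ = a * c) ∧
            (g * c * g⁻¹ = a ∨ g * c * g⁻¹ = c ∨ g * c * g⁻¹ = a * c) :=
        ⟨Equiv.swap 0 1 * Equiv.swap 2 3, Equiv.swap 0 2 * Equiv.swap 1 3,
          by decide, by decide, by decide, by decide, by decide, by decide, by decide⟩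
      set A : G := (φ.symm a : G) with hA
      set C : G := (φ.symm c : G) with hC
      have hsq : ∀ x : Equiv.Perm (Fin 4), x * x = 1 → ((φ.symm x : M) : G) * (φ.symm x : M) = 1 := fun x hx => by
        rw [← Subgroup.coe_mul, ← map_mul, hx, map_one]; rfl
      have hA1 : A ≠ 1 := fun e => ha1 (φ.symm.injective (Subtype.ext (e.trans (by rw [map_one]; rfl))))
      set S : Subgroup (Equiv.Perm (Fin 4)) :=
        { carrier := {x | x = 1 ∨ x = a ∨ x = c ∨ x = a * c}
          one_mem' := Or.inl rfl
          mul_mem' := by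
            intro x y hx hy
            have r1 : a * (a * c) = c := by rw [← mul_assoc, ha, one_mul]
            have r2 : c * (a * c) = a := by rw [hac, ← mul_assoc, hc, one_mul]
            have r3 : a * c * a = c := by rw [hac, mul_assoc, ha, mul_one]
            have r4 : a * c * c = a := by rw [mul_assoc, hc, mul_one]
            have r5 : a * c * (a * c) = 1 := by rw [← mul_assoc, r3, hc]
            simp only [Set.mem_setOf_eq] at hx hy ⊢
            rcases hx with rfl | rfl | rfl | rfl <;> rcases hy with rfl | rfl | rfl | rfl <;>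
              simp [ha, hc, r1, r2, r3, r4, r5, ← hac]
          inv_mem' := by
            intro x hx
            have ai : a⁻¹ = a := inv_eq_of_mul_eq_one_right ha
            have ci : c⁻¹ = c := inv_eq_of_mul_eq_one_right hc
            simp only [Set.mem_setOf_eq] at hx ⊢
            rcases hx with rfl | rfl | rfl | rfl <;> simp [ai, ci, ← hac] }
      haveI : S.Normal := ⟨fun x hx g => by
        have hg := hnorm g
        change x = 1 ∨ x = a ∨ x = c ∨ x = a * c at hx
        show _ = 1 ∨ _ = a ∨ _ = c ∨ _ = a * c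
        rcases hx with rfl | rfl | rfl | rfl
        · exact Or.inl (by group)
        · exact Or.inr hg.1
        · exact Or.inr hg.2
        · rw [show g * (a * c) * g⁻¹ = g * a * g⁻¹ * (g * c * g⁻¹) by group]
          have hm : g * a * g⁻¹ * (g * c * g⁻¹) ∈ S := mul_mem (Or.inr hg.1) (Or.inr hg.2)
          exact hm⟩
      have hSc : Nat.card S = 4 := by
        show Nat.card ({x | x = 1 ∨ x = a ∨ x = c ∨ x = a * c} : Set _) = 4
        have nM : a * c ≠ 1 := fun e' => hac1 (by rw [← mul_one a, ← hc, ← mul_assoc, e', one_mul])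
        rw [show ({x | x = 1 ∨ x = a ∨ x = c ∨ x = a * c} : Set _) = {1, a, c, a * c} from rfl, Nat.card_coe_set_eq,
          Set.ncard_insert_of_notMem (by simp [ha1.symm, hc1.symm, nM.symm]),
          Set.ncard_insert_of_notMem (by simp [hac1, hc1]), Set.ncard_pair (by simp [ha1])]
      set V := (S.comap φ.toMonoidHom).map M.subtype with hV
      have hVc : Nat.card V = 4 := by
        rw [hV, Subgroup.card_map_of_injective M.subtype_injective,
          Nat.card_congr ((Subgroup.comap_equiv_eq_map_symm φ S).symm ▸ (S.equivMapOfInjective φ.symm.toMonoidHom φ.symm.injective).toEquiv.symm), hSc]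
      have hVk : IsKleinFour ↥V := Order168.isKlein_of hVc (by
        rintro _ ⟨x, hx, rfl⟩
        rw [← map_mul]
        have h2 : φ x * φ x = 1 := by
          change φ x = 1 ∨ φ x = a ∨ φ x = c ∨ φ x = a * c at hx
          rcases hx with e | e | e | e <;> rw [e]
          · exact one_mul 1
          · exact ha
          · exact hc
          · rw [mul_assoc, ← mul_assoc c a c, ← hac, mul_assoc a c c, hc, mul_one, ha]
        rw [← map_mul, ← map_one φ, φ.injective.eq_iff] at h2
        rw [h2, map_one])
      refine four_in V hVk ?_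
      refine le_trans ?_ (Subgroup.le_normalizer_map M.subtype)
      haveI : (S.comap φ.toMonoidHom).Normal := inferInstance
      rw [Subgroup.normalizer_eq_top, ← MonoidHom.range_eq_map, Subgroup.range_subtype]
  refine ⟨fun M hM => ?_, fun M M' hM hM' c c' => ?_, ?_⟩
  · rcases classify M hM with ⟨U, hU, rfl⟩ | ⟨P, rfl⟩
    · exact Or.inl (Order168.four_normalizer h hU).2
    · obtain ⟨-, hN, hC⟩ := Order168.seven_data h P
      refine Or.inr ⟨hN, fun hc => ?_⟩
      have hle : Subgroup.normalizer ((P : Subgroup G) : Set G) ≤ (P : Subgroup G) := by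
        conv_rhs => rw [← hC]
        intro x hx
        rw [Subgroup.mem_centralizer_iff]
        intro y hy
        exact congrArg Subtype.val (hc.is_comm.comm (⟨y, Subgroup.le_normalizer hy⟩ : Subgroup.normalizer ((P : Subgroup G) : Set G)) ⟨x, hx⟩)
      have := Subgroup.card_dvd_of_le hle
      rw [hN, (Order168.seven_data h P).1] at this; omega
  · obtain ⟨P, rfl⟩ := conj21 M c
    obtain ⟨P', rfl⟩ := conj21 M' c'
    obtain ⟨g, hg⟩ := MulAction.exists_smul_eq G P P'
    refine ⟨g, ?_⟩
    rw [← hg, Sylow.coe_subgroup_smul, Subgroup.map_equiv_normalizer_eq]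
    rfl
  · refine ⟨_, _, co24 _ c1, co24 _ c2, e1, e2, fun g he => ?_, fun M hM hMiso => ?_⟩
    · have hU2le : U₂ ≤ Subgroup.normalizer (U₂ : Set G) := Subgroup.le_normalizer
      rw [Subgroup.map_equiv_normalizer_eq] at he
      set W := U₁.map (MulAut.conj g).toMonoidHom with hW
      have hWk : IsKleinFour ↥W := Order168.isKlein_of (by
        rw [hW, Subgroup.card_map_of_injective (MulAut.conj g).injective, (Order168.klein_sq k1).1]) (by
        rintro _ ⟨u, hu, rfl⟩
        rw [← map_mul, (Order168.klein_sq k1).2 u hu, map_one])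
      by_cases hWU : W = U₂
      · exact Order168.fours_not_conj h T h1 h2 k1 k2 hne g hWU
      -- two normal fours in one normaliser
      obtain ⟨T₂, hT₂⟩ : ∃ T₂ : Sylow 2 G, W ⊔ U₂ ≤ T₂ := by
        haveI n1 : (U₂.subgroupOf (Subgroup.normalizer (U₂ : Set G))).Normal := Subgroup.normal_in_normalizer
        haveI n2 : (W.subgroupOf (Subgroup.normalizer (U₂ : Set G))).Normal := by rw [he]; exact Subgroup.normal_in_normalizer
        have hWle : W ≤ Subgroup.normalizer (U₂ : Set G) := he ▸ Subgroup.le_normalizer
        have hp : IsPGroup 2 ↥(W ⊔ U₂) := (IsPGroup.of_card (p := 2) (n := 2) (by rw [hWk.card_four]; rfl)).to_sup_of_normal_right'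
          (IsPGroup.of_card (p := 2) (n := 2) (by rw [k2.card_four]; rfl)) hWle
        exact hp.exists_le_sylow
      have hTN1 := Order168.le_normalizer_four h hWk T₂ (le_sup_left.trans hT₂)
      have hTN2 := Order168.le_normalizer_four h k2 T₂ (le_sup_right.trans hT₂)
      have hsup : (T₂ : Subgroup G) = W ⊔ U₂ := by
        refine (Subgroup.eq_of_le_of_card_ge hT₂ ?_).symm
        rw [(Order168.two_data h T₂).1]
        have hlt : W < W ⊔ U₂ := lt_of_le_of_ne le_sup_left fun e' =>
          hWU (Subgroup.eq_of_le_of_card_ge (e' ▸ le_sup_right) (by rw [hWk.card_four, k2.card_four])).symm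
        have h4 : 4 ∣ Nat.card ↥(W ⊔ U₂) := hWk.card_four ▸ Subgroup.card_dvd_of_le le_sup_left
        have hne4 : Nat.card ↥(W ⊔ U₂) ≠ 4 := fun e' =>
          hlt.ne (Subgroup.eq_of_le_of_card_ge hlt.le (by rw [e', hWk.card_four]))
        have := Nat.card_pos (α := ↥(W ⊔ U₂))
        omega
      have hN : Subgroup.normalizer (U₂ : Set G) ≤ T₂ := by
        rw [← (Order168.two_data h T₂).2.1, hsup]
        intro x hx
        have hxW : x ∈ Subgroup.normalizer (W : Set G) := he ▸ hx
        rw [Subgroup.mem_normalizer_iff]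
        intro z
        have mapW : (W ⊔ U₂).map (MulAut.conj x).toMonoidHom = W ⊔ U₂ := by
          rw [Subgroup.map_sup]
          congr 1
          · refine Subgroup.eq_of_le_of_card_ge ?_ (le_of_eq (Subgroup.card_map_of_injective (MulAut.conj x).injective).symm)
            rintro _ ⟨v, hv, rfl⟩; exact (Subgroup.mem_normalizer_iff.1 hxW v).1 hv
          · refine Subgroup.eq_of_le_of_card_ge ?_ (le_of_eq (Subgroup.card_map_of_injective (MulAut.conj x).injective).symm)
            rintro _ ⟨v, hv, rfl⟩; exact (Subgroup.mem_normalizer_iff.1 hx v).1 hv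
        refine ⟨fun hz => mapW ▸ Subgroup.mem_map_of_mem (MulAut.conj x).toMonoidHom hz, fun hz => ?_⟩
        rw [← mapW] at hz
        obtain ⟨v, hv, hv'⟩ := hz
        exact (MulAut.conj x).injective hv' ▸ hv
      have := Subgroup.card_dvd_of_le hN
      rw [c2, (Order168.two_data h T₂).1] at this
      omega
    · rcases classify M hM with ⟨U, hU, rfl⟩ | ⟨P, rfl⟩
      · obtain ⟨T', hUT'⟩ := Order168.mem_sylow_two hU
        obtain ⟨g, hg⟩ := MulAction.exists_smul_eq G T T'
        refine ⟨g, ?_⟩
        have hU0 : U.map (MulAut.conj g⁻¹).toMonoidHom ≤ (T : Subgroup G) := by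
          rintro _ ⟨u, hu, rfl⟩
          have hu' := hUT' hu
          rw [← hg, Sylow.coe_subgroup_smul, Subgroup.mem_pointwise_smul_iff_inv_smul_mem, ← map_inv] at hu'
          exact hu'
        have hk : IsKleinFour ↥(U.map (MulAut.conj g⁻¹).toMonoidHom) := Order168.isKlein_of (by
          rw [Subgroup.card_map_of_injective (MulAut.conj g⁻¹).injective, (Order168.klein_sq hU).1]) (by
          rintro _ ⟨u, hu, rfl⟩
          rw [← map_mul, (Order168.klein_sq hU).2 u hu, map_one])
        have hUeq : (U.map (MulAut.conj g⁻¹).toMonoidHom).map (MulAut.conj g).toMonoidHom = U := by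
          rw [Subgroup.map_map]; convert Subgroup.map_id U; ext v; simp [mul_assoc]
        rcases hall _ hU0 hk with e | e <;> rw [e] at hUeq <;>
          [left; right] <;> rw [Subgroup.map_equiv_normalizer_eq, hUeq]
      · exfalso
        obtain ⟨e⟩ := hMiso
        have := Nat.card_congr e.toEquiv
        rw [(Order168.seven_data h P).2.1, Nat.card_perm, Nat.card_fin] at this
        norm_num [Nat.factorial] at this

end Cfsg.Agent.S1008
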