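import Cfsg.Statements.S1009
import Cfsg.Agent.Lib.Classical.SimpleOrder

set_option autoImplicit false
open Cfsg

open Cfsg.Agent.Classical

namespace Cfsg.Agent.S1009

/-- Brodkey's Theorem: if a finite group has abelian Sylow p-subgroups, then there are two Sylow p-subgroups whose intersection equals the intersection of all Sylow p-subgroups. -/
theorem result {G : Type*} [Group G] [Finite G] (p : ℕ) [Fact p.Prime] (hab : ∀ P : Sylow p G, IsMulCommutative ↥(P : Subgroup G)) : ∃ P Q : Sylow p G, (P : Subgroup G) ⊓ (Q : Subgroup G) = ⨅ R : Sylow p G, (R : Subgroup G) := by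
  classical
  haveI : Fintype (Sylow p G × Sylow p G) := Fintype.ofFinite _
  obtain ⟨⟨P, Q⟩, -, hmin⟩ := Finset.exists_min_image (Finset.univ : Finset (Sylow p G × Sylow p G))
    (fun x => Nat.card ↥((x.1 : Subgroup G) ⊓ (x.2 : Subgroup G))) Finset.univ_nonempty
  refine ⟨P, Q, le_antisymm (le_iInf fun R => ?_) (le_inf (iInf_le _ P) (iInf_le _ Q))⟩
  set D := (P : Subgroup G) ⊓ (Q : Subgroup G) with hD
  have hcent : ∀ S : Sylow p G, D ≤ (S : Subgroup G) → (S : Subgroup G) ≤ Subgroup.centralizer (D : Set G) := by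
    intro S hS s hs
    rw [Subgroup.mem_centralizer_iff]
    intro d hd
    have := (hab S).is_comm.comm (⟨d, hS hd⟩ : (S : Subgroup G)) ⟨s, hs⟩
    exact congrArg Subtype.val this
  have hPC := hcent P inf_le_left
  have hQC := hcent Q inf_le_right
  set C := Subgroup.centralizer (D : Set G) with hCdef
  -- `R ∩ C` lies in a conjugate of `P` under `C`
  let P' : Sylow p ↥C := P.subtype hPC
  have hRC : IsPGroup p ↥(((R : Subgroup G) ⊓ C).subgroupOf C) :=
    (R.2.to_le inf_le_left).of_equiv (Subgroup.subgroupOfEquivOfLe inf_le_right).symm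
  obtain ⟨S, hS⟩ := hRC.exists_le_sylow
  obtain ⟨c, hc⟩ := MulAction.exists_smul_eq ↥C P' S
  let Qc : Sylow p G := (c : G) • Q
  let Pc : Sylow p G := (c : G) • P
  have hfix : ∀ d ∈ D, (c : G)⁻¹ * d * c = d := fun d hd => by
    rw [mul_assoc, Subgroup.mem_centralizer_iff.1 c.2 d hd, inv_mul_cancel_left]
  have hmemP : ∀ y, y ∈ (Pc : Subgroup G) ↔ (c : G)⁻¹ * y * c ∈ (P : Subgroup G) := by
    intro y
    show y ∈ ((c : G) • P : Sylow p G).toSubgroup ↔ _
    rw [Sylow.smul_def, Sylow.pointwise_smul_def, Subgroup.mem_pointwise_smul_iff_inv_smul_mem]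
    simp [MulAut.smul_def, mul_assoc]
  have hmemQ : ∀ y, y ∈ (Qc : Subgroup G) ↔ (c : G)⁻¹ * y * c ∈ (Q : Subgroup G) := by
    intro y
    show y ∈ ((c : G) • Q : Sylow p G).toSubgroup ↔ _
    rw [Sylow.smul_def, Sylow.pointwise_smul_def, Subgroup.mem_pointwise_smul_iff_inv_smul_mem]
    simp [MulAut.smul_def, mul_assoc]
  have hQcC : (Qc : Subgroup G) ≤ C := by
    intro y hy
    have := hQC ((hmemQ y).1 hy)
    have h2 := mul_mem (mul_mem c.2 this) (inv_mem c.2)
    simpa [mul_assoc] using h2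
  have hle : (R : Subgroup G) ⊓ (Qc : Subgroup G) ≤ D := by
    intro y hy
    obtain ⟨hyR, hyQ⟩ := Subgroup.mem_inf.1 hy
    have hyS : (⟨y, hQcC hyQ⟩ : ↥C) ∈ (S : Subgroup ↥C) :=
      hS (Subgroup.mem_subgroupOf.2 ⟨hyR, hQcC hyQ⟩)
    rw [← hc] at hyS
    change (⟨y, hQcC hyQ⟩ : ↥C) ∈ (c • P' : Sylow p ↥C).toSubgroup at hyS
    rw [Sylow.smul_def, Sylow.pointwise_smul_def,
      Subgroup.mem_pointwise_smul_iff_inv_smul_mem] at hyS
    have hyP : (c : G)⁻¹ * y * c ∈ (P : Subgroup G) := by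
      simpa [MulAut.smul_def, P', Subgroup.mem_subgroupOf, mul_assoc] using hyS
    have hyD : (c : G)⁻¹ * y * c ∈ D := ⟨hyP, (hmemQ y).1 hyQ⟩
    have := Subgroup.mem_centralizer_iff.1 c.2 _ hyD
    have e : y = (c : G)⁻¹ * y * c := by
      calc y = (c : G) * ((c : G)⁻¹ * y * c) * (c : G)⁻¹ := by group
        _ = (c : G)⁻¹ * y * c := by rw [← this, mul_inv_cancel_right]
    rw [e]; exact hyD
  have heq : (R : Subgroup G) ⊓ (Qc : Subgroup G) = D :=
    Subgroup.eq_of_le_of_card_ge hle (hmin (R, Qc) (Finset.mem_univ _))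
  exact heq ▸ inf_le_left

end Cfsg.Agent.S1009
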