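import Cfsg.Statements.S1013
import Cfsg.Agent.Lib.Solv.NormalPComplement

set_option autoImplicit false
open Cfsg

namespace Cfsg.Agent.S1013

/-- Let G be a transitive permutation group of prime degree p having more than one Sylow p-subgroup, and suppose a Sylow p-subgroup P has prime index in its normalizer. Then G is simple. -/
theorem result {α : Type*} [Fintype α] [DecidableEq α] {p : ℕ} [Fact p.Prime] (hα : Fintype.card α = p) (G : Subgroup (Equiv.Perm α)) [MulAction.IsPretransitive ↥G α] (P : Sylow p ↥G) (hn : 1 < Nat.card (Sylow p ↥G)) (ht : (((P : Subgroup ↥G).subgroupOf (Subgroup.normalizer ((P : Subgroup ↥G) : Set ↥G))).index).Prime) : IsSimpleGroup ↥G := by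
  classical
  have hp : p.Prime := Fact.out
  have : MulAction.IsPreprimitive ↥G α :=
    MulAction.IsPreprimitive.of_prime_card (by rw [Nat.card_eq_fintype_card, hα]; exact hp)
  have hGd : Nat.card G ∣ p.factorial := by
    have h := Subgroup.card_subgroup_dvd_card G
    rwa [Nat.card_perm, Nat.card_eq_fintype_card (α := α), hα] at h
  have hsq : ¬ p ^ 2 ∣ Nat.card G := by
    intro h
    have h1 := h.trans hGd
    rw [← Nat.mul_factorial_pred hp.ne_zero, sq] at h1
    have h2 := Nat.dvd_of_mul_dvd_mul_left hp.pos h1
    have := (Nat.Prime.dvd_factorial hp).mp h2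
    have := hp.two_le
    omega
  have hall : ∀ Q : Sylow p G, ∀ x : G, orderOf x = p → x ∈ (Q : Subgroup G) →
      (Q : Subgroup G) = Subgroup.zpowers x := by
    intro Q x hx hxQ
    obtain ⟨k, hk⟩ := Q.isPGroup'.exists_card_eq
    have hk1 : k ≤ 1 := by
      by_contra h
      exact hsq (((pow_dvd_pow p (show 2 ≤ k by omega)).trans hk.symm.dvd).trans
        (Subgroup.card_subgroup_dvd_card _))
    refine (Subgroup.eq_of_le_of_card_ge (Subgroup.zpowers_le.mpr hxQ) ?_).symm
    rw [hk, Nat.card_zpowers, hx]
    calc p ^ k ≤ p ^ 1 := Nat.pow_le_pow_right hp.pos hk1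
      _ = p := pow_one p
  have hsub : Nontrivial ↥G := by
    by_contra h
    rw [not_nontrivial_iff_subsingleton] at h
    have : Subsingleton (Sylow p G) := ⟨fun a b => Sylow.ext (Subsingleton.elim _ _)⟩
    rw [Nat.card_unique] at hn
    omega
  refine ⟨fun N hN => ?_⟩
  by_cases hN1 : N = ⊥
  · exact Or.inl hN1
  right
  have hfix : MulAction.fixedPoints N α ≠ Set.univ := by
    intro h
    apply hN1
    rw [Subgroup.eq_bot_iff_forall]
    intro g hg
    apply Subtype.ext
    refine Equiv.ext fun a => ?_
    exact (h.ge (Set.mem_univ a) : a ∈ MulAction.fixedPoints N α) ⟨g, hg⟩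
  have : MulAction.IsPretransitive N α :=
    MulAction.IsQuasiPreprimitive.isPretransitive_of_normal hfix
  obtain ⟨a⟩ : Nonempty α := Fintype.card_pos_iff.mp (by rw [hα]; exact hp.pos)
  have hpN : p ∣ Nat.card N := by
    have h := (MulAction.stabilizer N a).index_dvd_card
    rwa [MulAction.index_stabilizer_of_transitive, Nat.card_eq_fintype_card, hα] at h
  obtain ⟨x, hx⟩ := exists_prime_orderOf_dvd_card' (G := N) p hpN
  rw [← Subgroup.orderOf_coe] at hx
  obtain ⟨Q, hQ⟩ := (IsPGroup.of_card (n := 1) (G := Subgroup.zpowers (x : G))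
    (by rw [Nat.card_zpowers, hx, pow_one])).exists_le_sylow
  have hQN : (Q : Subgroup G) ≤ N := by
    rw [hall Q x hx (hQ (Subgroup.mem_zpowers _))]
    exact Subgroup.zpowers_le.mpr x.2
  have hPN : (P : Subgroup G) ≤ N := by
    obtain ⟨g, rfl⟩ := MulAction.exists_smul_eq G Q P
    rw [Sylow.coe_subgroup_smul]
    rintro _ ⟨y, hy, rfl⟩
    exact hN.conj_mem y (hQN hy) g
  have hfr := Sylow.normalizer_sup_eq_top' P hPN
  set M := Subgroup.normalizer ((P : Subgroup G) : Set G) ⊓ N with hM
  have hPM : (P : Subgroup G) ≤ M := le_inf Subgroup.le_normalizer hPN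
  have hmul := Subgroup.relIndex_mul_relIndex (P : Subgroup G) M
    (Subgroup.normalizer ((P : Subgroup G) : Set G)) hPM inf_le_left
  change _ = ((P : Subgroup G).subgroupOf (Subgroup.normalizer ((P : Subgroup G) : Set G))).index at hmul
  rcases ht.eq_one_or_self_of_dvd _ (Dvd.intro _ hmul) with h | h
  · -- the normaliser in `N` is `P`
    exfalso
    have hMP : M = (P : Subgroup G) := le_antisymm (Subgroup.relIndex_eq_one.mp h) hPM
    let P' : Sylow p N := P.subtype hPN
    have hP' : ∀ u : N, u ∈ (P' : Subgroup N) ↔ (u : G) ∈ (P : Subgroup G) := fun u => by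
      rw [Sylow.coe_subtype, Subgroup.mem_subgroupOf]
    have hburn : Subgroup.normalizer ((P' : Subgroup N) : Set N) ≤
        Subgroup.centralizer ((P' : Subgroup N) : Set N) := by
      intro u hu
      have hu' : (u : G) ∈ M := by
        refine ⟨?_, u.2⟩
        refine Subgroup.mem_normalizer_fintype fun y hy => ?_
        have h1 := (Subgroup.mem_normalizer_iff.mp hu ⟨y, hPN hy⟩).mp ((hP' _).mpr hy)
        exact (hP' _).mp h1
      rw [hMP] at hu'
      rw [Subgroup.mem_centralizer_iff]
      intro v hv
      have hv' := (hP' v).mp hv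
      obtain ⟨y, hy⟩ := exists_prime_orderOf_dvd_card' (G := (P : Subgroup G)) p (by
        obtain ⟨k, hk⟩ := P.isPGroup'.exists_card_eq
        rcases k with _ | k
        · exfalso
          rw [pow_zero, Subgroup.card_eq_one] at hk
          have h0 := hQ (Subgroup.mem_zpowers (x : G))
          obtain ⟨g, hg⟩ := MulAction.exists_smul_eq G P Q
          rw [← hg, Sylow.coe_subgroup_smul, hk] at h0
          obtain ⟨z, hz, hzx⟩ := h0
          rw [Subgroup.coe_bot, Set.mem_singleton_iff] at hz
          subst hz
          have hx0 : (x : G) = 1 := hzx.symm.trans (map_one _)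
          rw [hx0, orderOf_one] at hx
          exact hp.ne_one hx.symm
        · rw [hk]; exact dvd_pow_self p (Nat.succ_ne_zero k))
      rw [← Subgroup.orderOf_coe] at hy
      rw [hall P y hy y.2] at hu' hv'
      obtain ⟨i, hi⟩ := Subgroup.mem_zpowers_iff.mp hu'
      obtain ⟨j, hj⟩ := Subgroup.mem_zpowers_iff.mp hv'
      apply Subtype.ext
      show (v : G) * u = u * v
      rw [← hi, ← hj, ← zpow_add, ← zpow_add, add_comm]
    obtain ⟨P₀, K, hK, hc⟩ := Cfsg.Agent.Solv.hasNormalPComplement_of_burnside P' hburn
    have hKp : ¬ p ∣ Nat.card K := by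
      intro hd
      have h1 := hc.card_mul
      obtain ⟨k, hk⟩ := P₀.isPGroup'.exists_card_eq
      rcases k with _ | k
      · rw [hk, pow_zero, mul_one] at h1
        have := P₀.not_dvd_index
        rw [show (P₀ : Subgroup N) = ⊥ from Subgroup.card_eq_one.mp (by rw [hk, pow_zero]),
          Subgroup.index_bot] at this
        exact this hpN
      · rw [hk, pow_succ] at h1
        refine hsq (dvd_trans ?_ (Subgroup.card_subgroup_dvd_card N))
        rw [← h1, sq]
        exact mul_dvd_mul hd (dvd_mul_left p _)
    have hKc : K.Characteristic := by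
      refine Subgroup.characteristic_iff_map_eq.mpr fun e => ?_
      refine Subgroup.eq_of_le_of_card_ge (fun u hu => ?_)
        (by rw [Subgroup.card_map_of_injective e.injective])
      obtain ⟨v, hv, rfl⟩ := hu
      rw [← QuotientGroup.eq_one_iff (N := K), ← orderOf_eq_one_iff]
      have hQc : Nat.card (N ⧸ K) = Nat.card P₀ := by
        show K.index = _
        exact hc.symm.index_eq_card
      refine Nat.eq_one_of_dvd_coprimes ?_ (hQc ▸ orderOf_dvd_natCard _)
        ((orderOf_map_dvd (QuotientGroup.mk' K) _).trans
          ((orderOf_map_dvd e.toMonoidHom v).trans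
            (Subgroup.orderOf_mk v hv ▸ orderOf_dvd_natCard (⟨v, hv⟩ : K))))
      obtain ⟨k, hk⟩ := P₀.isPGroup'.exists_card_eq
      rw [hk]
      exact ((Nat.Prime.coprime_iff_not_dvd hp).mpr hKp).pow_left k
    have hK1 : K = ⊥ := by
      by_contra hne
      have hne' : K.map N.subtype ≠ ⊥ := fun h0 =>
        hne ((Subgroup.map_eq_bot_iff_of_injective _ N.subtype_injective).mp h0)
      have hKn : (K.map N.subtype).Normal := inferInstance
      have hfix' : MulAction.fixedPoints (K.map N.subtype) α ≠ Set.univ := by
        intro h0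
        apply hne'
        rw [Subgroup.eq_bot_iff_forall]
        intro g hg
        apply Subtype.ext
        exact Equiv.ext fun a =>
          (h0.ge (Set.mem_univ a) : a ∈ MulAction.fixedPoints (K.map N.subtype) α) ⟨g, hg⟩
      have : MulAction.IsPretransitive (K.map N.subtype) α :=
        MulAction.IsQuasiPreprimitive.isPretransitive_of_normal hfix'
      have hd := (MulAction.stabilizer (K.map N.subtype) a).index_dvd_card
      rw [MulAction.index_stabilizer_of_transitive, Nat.card_eq_fintype_card, hα,
        Subgroup.card_map_of_injective N.subtype_injective] at hd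
      exact hKp hd
    have hNP : N = (P : Subgroup G) := by
      have h1 : (P₀ : Subgroup N) = ⊤ := by
        have := hc.sup_eq_top
        rwa [hK1, bot_sup_eq] at this
      have h2 : IsPGroup p N := by
        have := P₀.isPGroup'
        rw [h1] at this
        exact this.of_equiv Subgroup.topEquiv
      exact P.3 h2 hPN
    have hPn : (P : Subgroup G).Normal := hNP ▸ hN
    have := Sylow.unique_of_normal P hPn
    rw [Nat.card_unique] at hn
    omega
  · -- the normaliser lies in `N`
    have hM2 : M.relIndex (Subgroup.normalizer ((P : Subgroup G) : Set G)) = 1 := by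
      rw [h] at hmul
      exact (Nat.mul_eq_left ht.ne_zero).mp hmul
    rw [← hfr]
    exact (sup_eq_right.mpr ((Subgroup.relIndex_eq_one.mp hM2).trans inf_le_right)).symm

end Cfsg.Agent.S1013
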