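import Cfsg.Statements.S1018
import Cfsg.Agent.Lib.Classical.SimpleOrder

set_option autoImplicit false
open Cfsg

open Cfsg.Agent.Classical
open scoped Pointwise

namespace Cfsg.Agent.S1018

/-- Let P be a Sylow p-subgroup of order p of a finite group G, and consider the action of G on the left cosets of the normalizer N of P. Then every element of order p fixes exactly one coset, and an element of N that does not centralize P fixes at most as many cosets as there are orbits of P. -/
theorem result {G : Type*} [Group G] [Finite G] (p : ℕ) [Fact p.Prime] (P : Sylow p G) (hP : Nat.card ↥(P : Subgroup G) = p) : (∀ y : G, orderOf y = p → Nat.card (MulAction.fixedBy (G ⧸ Subgroup.normalizer ((P : Subgroup G) : Set G)) y) = 1) ∧ ∀ x : G, x ∈ Subgroup.normalizer ((P : Subgroup G) : Set G) → x ∉ Subgroup.centralizer ((P : Subgroup G) : Set G) → Nat.card (MulAction.fixedBy (G ⧸ Subgroup.normalizer ((P : Subgroup G) : Set G)) x) ≤ Nat.card (MulAction.orbitRel.Quotient ↥(P : Subgroup G) (G ⧸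 Subgroup.normalizer ((P : Subgroup G) : Set G))) := by
  classical
  have hp : p.Prime := Fact.out
  set N := Subgroup.normalizer ((P : Subgroup G) : Set G) with hN
  have hfix : ∀ (y g : G), y • (g : G ⧸ N) = (g : G ⧸ N) ↔ g⁻¹ * y * g ∈ N := by
    intro y g
    show ((y * g : G) : G ⧸ N) = (g : G ⧸ N) ↔ _
    rw [eq_comm, QuotientGroup.eq, mul_assoc]
  have hord : ∀ u ∈ (P : Subgroup G), u ≠ 1 → (P : Subgroup G) = Subgroup.zpowers u := by
    intro u hu h1
    refine (Subgroup.eq_of_le_of_card_ge (Subgroup.zpowers_le.2 hu) ?_).symm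
    have hd : Nat.card (Subgroup.zpowers u) ∣ p :=
      (Subgroup.card_dvd_of_le (Subgroup.zpowers_le.2 hu)).trans (dvd_of_eq hP)
    rcases (Nat.dvd_prime hp).1 hd with h | h
    · exact absurd (by rwa [Nat.card_zpowers, orderOf_eq_one_iff] at h) h1
    · rw [hP, h]
  have hinN : ∀ z ∈ N, orderOf z = p → z ∈ (P : Subgroup G) := by
    intro z hz hzo
    have hzp : IsPGroup p (Subgroup.zpowers z) := IsPGroup.of_card (n := 1) (by rw [Nat.card_zpowers, hzo, pow_one])
    exact ((hzp.inf_normalizer_sylow P).le ⟨Subgroup.mem_zpowers z, hz⟩).2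
  constructor
  · intro y hy
    have hy1 : y ≠ 1 := fun h => by rw [h, orderOf_one] at hy; exact hp.one_lt.ne hy
    have hzp : IsPGroup p (Subgroup.zpowers y) := IsPGroup.of_card (n := 1) (by rw [Nat.card_zpowers, hy, pow_one])
    obtain ⟨Q, hQ⟩ := hzp.exists_le_sylow
    obtain ⟨c, hc⟩ := MulAction.exists_smul_eq G P Q
    have hyc : c⁻¹ * y * c ∈ (P : Subgroup G) := by
      have hyQ : y ∈ (Q : Subgroup G) := hQ (Subgroup.mem_zpowers y)
      rw [← hc] at hyQ
      change y ∈ (c • P : Sylow p G).toSubgroup at hyQ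
      rw [Sylow.smul_def, Sylow.pointwise_smul_def,
        Subgroup.mem_pointwise_smul_iff_inv_smul_mem] at hyQ
      simpa [MulAut.smul_def, mul_assoc] using hyQ
    have h1 : MulAction.fixedBy (G ⧸ N) y = {(c : G ⧸ N)} := by
      refine Set.eq_singleton_iff_unique_mem.2 ⟨(hfix y c).2 (Subgroup.le_normalizer hyc), fun w hw => ?_⟩
      obtain ⟨g, rfl⟩ := QuotientGroup.mk_surjective w
      have hg := (hfix y g).1 hw
      have hgP : g⁻¹ * y * g ∈ (P : Subgroup G) := hinN _ hg (by
        have := orderOf_injective (MulAut.conj g⁻¹).toMonoidHom (MulAut.conj g⁻¹).injective y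
        simpa [hy] using this)
      rw [QuotientGroup.eq]
      refine Subgroup.mem_normalizer_fintype fun h hh => ?_
      have hne : g⁻¹ * y * g ≠ 1 := fun e => hy1 (by
        have := congrArg (fun t => g * t * g⁻¹) e
        simpa [mul_assoc] using this)
      have hh' : h ∈ Subgroup.zpowers (g⁻¹ * y * g) := hord _ hgP hne ▸ hh
      obtain ⟨k, rfl⟩ := Subgroup.mem_zpowers_iff.1 hh'
      rw [← conj_zpow]
      refine zpow_mem ?_ k
      have e : g⁻¹ * c * (c⁻¹ * y * c) * (g⁻¹ * c)⁻¹ = g⁻¹ * y * g := by group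
      have e2 : (g⁻¹ * c)⁻¹ = c⁻¹ * g := by group
      show g⁻¹ * c * (g⁻¹ * y * g) * (g⁻¹ * c)⁻¹ ∈ (P : Subgroup G)
      have hPc : (P : Subgroup G) = Subgroup.zpowers (c⁻¹ * y * c) := hord _ hyc fun e' => hy1 (by
        have := congrArg (fun t => c * t * c⁻¹) e'
        simpa [mul_assoc] using this)
      have hin : g⁻¹ * y * g ∈ Subgroup.zpowers (c⁻¹ * y * c) := hPc ▸ hgP
      obtain ⟨j, hj⟩ := Subgroup.mem_zpowers_iff.1 hin
      rw [← hj, ← conj_zpow]
      refine zpow_mem ?_ j
      rw [e]; exact hgP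
    rw [h1]
    simp
  · intro x hxN hxC
    refine Nat.card_le_card_of_injective (fun w => (Quotient.mk'' w.1 : MulAction.orbitRel.Quotient (P : Subgroup G) (G ⧸ N))) ?_
    rintro ⟨w₁, hw₁⟩ ⟨w₂, hw₂⟩ h
    obtain ⟨⟨u, hu⟩, hu2⟩ := Quotient.exact h
    change u • w₂ = w₁ at hu2
    refine Subtype.ext ?_
    show w₁ = w₂
    by_contra hne
    have hu1 : u ≠ 1 := fun e => hne (by rw [← hu2, e, one_smul])
    have hcomm : u⁻¹ * x * u * x⁻¹ ∈ (P : Subgroup G) := by
      have := mul_mem (inv_mem hu) ((Subgroup.mem_normalizer_iff.1 hxN u).1 hu)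
      simpa [mul_assoc] using this
    by_cases h1 : u⁻¹ * x * u * x⁻¹ = 1
    · apply hxC
      rw [Subgroup.mem_centralizer_iff]
      intro s hs
      have hs' : s ∈ Subgroup.zpowers u := hord u hu hu1 ▸ hs
      obtain ⟨k, rfl⟩ := Subgroup.mem_zpowers_iff.1 hs'
      have hc : Commute x u := by
        show x * u = u * x
        calc x * u = u * (u⁻¹ * x * u * x⁻¹) * x := by group
          _ = u * x := by rw [h1, mul_one]
      exact (hc.zpow_right k).symm.eq
    · apply hne
      have hfx : (u⁻¹ * x * u * x⁻¹) • w₂ = w₂ := by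
        have hx2 : x • w₂ = w₂ := hw₂
        have hx1 : x • w₁ = w₁ := hw₁
        rw [mul_smul, mul_smul, mul_smul]
        have : x⁻¹ • w₂ = w₂ := by rw [inv_smul_eq_iff, hx2]
        rw [this, hu2, hx1, ← hu2, inv_smul_smul]
      have hall : u • w₂ = w₂ := by
        have hu' : u ∈ Subgroup.zpowers (u⁻¹ * x * u * x⁻¹) := hord _ hcomm h1 ▸ hu
        obtain ⟨k, hk⟩ := Subgroup.mem_zpowers_iff.1 hu'
        rw [← hk]
        exact (MulAction.stabilizer G w₂).zpow_mem hfx k
      rw [← hu2, hall]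

end Cfsg.Agent.S1018
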