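import Cfsg.Statements.S1014
import Cfsg.Agent.Lib.Classical.SimpleOrder
import Cfsg.Agent.S1018

set_option autoImplicit false
open Cfsg

open Cfsg.Agent.Classical

namespace Cfsg.Agent.S1014

/-- No finite simple group has order 1104 = 2^4 * 3 * 23. -/
theorem result {G : Type*} [Group G] [Finite G] [IsSimpleGroup G] : Nat.card G ≠ 1104 := by
  classical
  intro h
  haveI : Fact (Nat.Prime 23) := ⟨by norm_num⟩
  haveI : Fact (Nat.Prime 2) := ⟨Nat.prime_two⟩
  have hG : ¬ IsMulCommutative G := SimpleOrder.not_comm (by rw [h]; norm_num)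
  have h' : Nat.card G = 23 ^ 1 * 48 := by rw [h]; norm_num
  obtain ⟨hd, hmod, hone, -⟩ := SimpleOrder.sylow_number (p := 23) hG h' one_pos (by norm_num)
  have hn : Nat.card (Sylow 23 G) = 24 := by
    have := Nat.le_of_dvd (by norm_num) hd
    interval_cases hc : Nat.card (Sylow 23 G) <;> simp_all
  obtain ⟨P⟩ : Nonempty (Sylow 23 G) := inferInstance
  have hP : Nat.card P = 23 := by simpa using SimpleOrder.card_sylow_eq P h' (by norm_num)
  set N := Subgroup.normalizer ((P : Subgroup G) : Set G) with hN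
  set C := Subgroup.centralizer ((P : Subgroup G) : Set G) with hC
  have h1 := SimpleOrder.relIndex_dvd_pred P hP
  have h2 := SimpleOrder.card_centralizer_mul P
  have h3 := SimpleOrder.card_normalizer_mul P
  rw [hn, h] at h3
  have h46 : Nat.card N = 46 := by rw [hN]; omega
  have hne : C.relIndex N ≠ 1 := fun e =>
    SimpleOrder.not_normalizer_le_centralizer hG (by rw [h]; norm_num) P (Subgroup.relIndex_eq_one.1 e)
  rw [← hN, ← hC, h46] at h2
  have h23 : 23 ∣ Nat.card C := hP ▸ Subgroup.card_dvd_of_le (SimpleOrder.le_centralizer_of_card_prime P hP)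
  have hC23 : Nat.card C = 23 := by
    obtain ⟨c, hc⟩ := h23
    rw [hc] at h2
    rcases c with _ | _ | c
    · simp at h2
    · simpa using hc
    · exfalso
      rcases Nat.lt_or_ge 1 (C.relIndex N) with hr | hr
      · nlinarith
      · interval_cases hr' : C.relIndex N <;> simp_all
  obtain ⟨⟨x, hxN⟩, hx⟩ := exists_prime_orderOf_dvd_card' (G := N) 2 (by rw [h46]; norm_num)
  rw [Subgroup.orderOf_mk] at hx
  have hxC : x ∉ C := fun hxC => by
    have := orderOf_dvd_natCard (⟨x, hxC⟩ : C)
    rw [Subgroup.orderOf_mk, hx, hC23] at this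
    norm_num at this
  obtain ⟨hfixy, hfixx⟩ := Cfsg.Agent.S1018.result 23 P hP
  have hle := hfixx x hxN hxC
  -- `P` has two orbits
  haveI : Fintype (P : Subgroup G) := Fintype.ofFinite _
  haveI : Fintype (G ⧸ N) := Fintype.ofFinite _
  have horb : Nat.card (MulAction.orbitRel.Quotient ↥(P : Subgroup G) (G ⧸ N)) = 2 := by
    have hb := MulAction.sum_card_fixedBy_eq_card_orbits_mul_card_group (↥(P : Subgroup G)) (G ⧸ N)
    have hsum : ∑ a : (P : Subgroup G), Fintype.card (MulAction.fixedBy (G ⧸ N) a) = 46 := by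
      rw [← Finset.add_sum_erase _ _ (Finset.mem_univ (1 : (P : Subgroup G)))]
      have e1 : Fintype.card (MulAction.fixedBy (G ⧸ N) (1 : (P : Subgroup G))) = 24 := by
        rw [← Nat.card_eq_fintype_card, MulAction.fixedBy_one_eq_univ, Nat.card_congr (Equiv.Set.univ _)]
        show N.index = 24
        rw [hN]
        exact (P.card_eq_index_normalizer).symm.trans hn
      have e2 : ∀ a ∈ (Finset.univ : Finset (P : Subgroup G)).erase 1,
          Fintype.card (MulAction.fixedBy (G ⧸ N) a) = 1 := by
        intro a ha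
        rw [← Nat.card_eq_fintype_card]
        refine hfixy a.1 ?_
        have hd' : orderOf a ∣ 23 := (orderOf_dvd_natCard a).trans (dvd_of_eq hP)
        rcases (Nat.dvd_prime (by norm_num)).1 hd' with e | e
        · exact absurd (orderOf_eq_one_iff.1 e) (Finset.mem_erase.1 ha).1
        · rw [Subgroup.orderOf_coe, e]
      rw [e1, Finset.sum_congr rfl e2, Finset.sum_const, Finset.card_erase_of_mem (Finset.mem_univ _),
        Finset.card_univ, ← Nat.card_eq_fintype_card, hP]
      rfl
    rw [hsum, ← Nat.card_eq_fintype_card, ← Nat.card_eq_fintype_card, hP] at hb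
    show Nat.card (Quotient (MulAction.orbitRel (↥(P : Subgroup G)) (G ⧸ N))) = 2
    omega
  replace hle : Nat.card (MulAction.fixedBy (G ⧸ N) x) ≤ 2 := hle.trans (le_of_eq horb)
  -- the sign of `x` is trivial
  let σ : Equiv.Perm (G ⧸ N) := MulAction.toPermHom G (G ⧸ N) x
  have hsign : Equiv.Perm.sign σ = 1 := by
    let s : G →* ℤˣ := Equiv.Perm.sign.comp (MulAction.toPermHom G (G ⧸ N))
    rcases s.normal_ker.eq_bot_or_eq_top with e | e
    · exfalso
      exact hG ⟨⟨fun a b => (MonoidHom.ker_eq_bot_iff _).1 e (by rw [map_mul, map_mul, mul_comm])⟩⟩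
    · exact (e ▸ Subgroup.mem_top x : x ∈ s.ker)
  have hσ2 : σ ^ 2 = 1 := by
    show MulAction.toPermHom G (G ⧸ N) x ^ 2 = 1
    rw [← map_pow, ← hx, pow_orderOf_eq_one, map_one]
  have hsupp : σ.support.card + Nat.card (MulAction.fixedBy (G ⧸ N) x) = 24 := by
    have e : Nat.card (MulAction.fixedBy (G ⧸ N) x) = (Finset.univ.filter fun w => σ w = w).card := by
      rw [Nat.card_eq_fintype_card, ← Fintype.card_subtype]
      exact Fintype.card_congr (Equiv.subtypeEquivRight fun w => Iff.rfl)
    have h24 : Fintype.card (G ⧸ N) = 24 := by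
      rw [← Nat.card_eq_fintype_card]
      show N.index = 24
      rw [hN]
      exact (P.card_eq_index_normalizer).symm.trans hn
    rw [e, show σ.support = Finset.univ.filter (fun w => ¬ σ w = w) from rfl, add_comm,
      Finset.card_filter_add_card_filter_not, Finset.card_univ, h24]
  have hone' : 1 ≤ Nat.card (MulAction.fixedBy (G ⧸ N) x) := by
    haveI : Nonempty (MulAction.fixedBy (G ⧸ N) x) := ⟨⟨(1 : G), by
      show ((x * 1 : G) : G ⧸ N) = ((1 : G) : G ⧸ N)
      rw [mul_one, QuotientGroup.eq, mul_one]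
      exact inv_mem hxN⟩⟩
    exact Nat.card_pos
  have hct := Equiv.Perm.cycleType_of_pow_prime_eq_one (p := 2) hσ2
  have hlen := σ.sum_cycleType
  rw [hct, Multiset.sum_replicate, smul_eq_mul] at hlen
  rw [Equiv.Perm.sign_of_cycleType, hct, Multiset.sum_replicate, Multiset.card_replicate, smul_eq_mul] at hsign
  set k := Multiset.card σ.cycleType with hk
  have hk11 : k = 11 := by omega
  rw [hk11] at hsign
  exact absurd hsign (by decide)

end Cfsg.Agent.S1014
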