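import Cfsg.Statements.S1015
import Cfsg.Agent.Lib.Classical.SimpleOrder
import Cfsg.Agent.S0985

set_option autoImplicit false
open Cfsg

open Cfsg.Agent.Classical

namespace Cfsg.Agent.S1015

/-- No finite simple group has order 1200 = 2^4 * 3 * 5^2. -/
theorem result {G : Type*} [Group G] [Finite G] [IsSimpleGroup G] : Nat.card G ≠ 1200 := by
  classical
  intro h
  haveI : Fact (Nat.Prime 5) := ⟨by norm_num⟩
  have hG : ¬ IsMulCommutative G := SimpleOrder.not_comm (by rw [h]; norm_num)
  have h' : Nat.card G = 5 ^ 2 * 48 := by rw [h]; norm_num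
  obtain ⟨hd, hmod, hone, hfac⟩ := SimpleOrder.sylow_number (p := 5) hG h' two_pos (by norm_num)
  have hn : Nat.card (Sylow 5 G) = 16 := by
    have := Nat.le_of_dvd (by norm_num) hd
    rw [h] at hfac
    interval_cases hc : Nat.card (Sylow 5 G) <;> simp_all [Nat.factorial]
  obtain ⟨P, R, hPR, hidx⟩ := Cfsg.Agent.S0985.result (G := G) 5 2 (by rw [hn]; decide)
  have hcard : ∀ S : Sylow 5 G, Nat.card S = 25 := fun S => by
    rw [SimpleOrder.card_sylow_eq S h' (by norm_num)]; norm_num
  have hab : ∀ S : Sylow 5 G, IsMulCommutative (S : Subgroup G) := fun S =>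
    IsPGroup.isMulCommutative_of_card_eq_prime_sq (p := 5) (by rw [hcard S]; norm_num)
  set Q := (R : Subgroup G) ⊓ (P : Subgroup G) with hQ
  have hQne : Q ≠ ⊥ := by
    intro hb
    have h1 := Subgroup.index_mul_card ((R : Subgroup G).subgroupOf (P : Subgroup G))
    have h2 : Nat.card ((R : Subgroup G).subgroupOf (P : Subgroup G)) = 1 := by
      rw [← Subgroup.inf_subgroupOf_right, ← hQ, hb]
      simp
    rw [h2, mul_one, hcard P] at h1
    omega
  set C := Subgroup.centralizer (Q : Set G) with hC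
  have hle : ∀ S : Sylow 5 G, Q ≤ (S : Subgroup G) → (S : Subgroup G) ≤ C := by
    intro S hS s hs
    rw [hC, Subgroup.mem_centralizer_iff]
    intro q hq
    exact congrArg Subtype.val ((hab S).is_comm.comm (⟨q, hS hq⟩ : (S : Subgroup G)) ⟨s, hs⟩)
  have hPC := hle P inf_le_right
  have hRC := hle R inf_le_left
  have hne : C ≠ ⊤ := by
    intro htop
    obtain ⟨q, hqQ, hq1⟩ := (Subgroup.bot_or_exists_ne_one Q).resolve_left hQne
    apply hq1
    rw [← Subgroup.mem_bot, ← SimpleOrder.center_eq_bot hG, Subgroup.mem_center_iff]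
    intro g
    exact ((Subgroup.mem_centralizer_iff.1 (htop ▸ Subgroup.mem_top g : g ∈ C)) q hqQ).symm
  -- `C` has at least six Sylow 5-subgroups
  have hcardC : 150 ≤ Nat.card C := by
    let P' : Sylow 5 C := P.subtype hPC
    have hne' : P' ≠ R.subtype hRC := fun e => hPR (Sylow.ext (by
      have := congrArg (fun S : Sylow 5 C => (S : Subgroup C).map C.subtype) e
      simpa [P', Subgroup.map_subgroupOf_eq_of_le hPC, Subgroup.map_subgroupOf_eq_of_le hRC] using this))
    have h1 : 1 < Nat.card (Sylow 5 C) := Finite.one_lt_card_iff_nontrivial.2 ⟨⟨_, _, hne'⟩⟩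
    have h6 : 6 ≤ Nat.card (Sylow 5 C) := by
      have := card_sylow_modEq_one 5 C
      unfold Nat.ModEq at this
      omega
    have h25 : 25 ≤ Nat.card (Subgroup.normalizer ((P' : Subgroup C) : Set C)) := by
      refine le_trans (le_of_eq ?_) (Nat.le_of_dvd Nat.card_pos (Subgroup.card_dvd_of_le Subgroup.le_normalizer))
      exact ((Nat.card_congr (Subgroup.subgroupOfEquivOfLe hPC).toEquiv).trans (hcard P)).symm
    have h3 := SimpleOrder.card_normalizer_mul P'
    nlinarith
  have h2 := SimpleOrder.two_mul_dvd_factorial hG C hne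
  have h4 := Subgroup.index_mul_card C
  rw [h] at h2 h4
  have h8 : C.index ≤ 8 := by nlinarith
  interval_cases hc : C.index <;> simp_all [Nat.factorial]

end Cfsg.Agent.S1015
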