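import Cfsg.Statements.S1019
import Cfsg.Agent.Lib.Classical.SimpleOrder

set_option autoImplicit false
open Cfsg

open Cfsg.Agent.Classical

namespace Cfsg.Agent.S1019

/-- Let H be a subgroup of a finite group G and x an element of H. In the action of G on the left cosets of H, the number of cosets fixed by x, multiplied by the size of the conjugacy class of x, equals the index of H multiplied by the number of conjugates of x that lie in H. -/
theorem result {G : Type*} [Group G] [Finite G] (H : Subgroup G) (x : G) (hx : x ∈ H) : Nat.card (MulAction.fixedBy (G ⧸ H) x) * Nat.card {g : G // IsConj x g} = H.index * Nat.card {g : G // IsConj x g ∧ g ∈ H} := by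
  classical
  haveI : Fintype G := Fintype.ofFinite G
  let A := {g : G // g⁻¹ * x * g ∈ H}
  have e1 : A ≃ {c : G ⧸ H // x • c = c} × H := by
    have hiff : ∀ g : G, g⁻¹ * x * g ∈ H ↔ x • (g : G ⧸ H) = (g : G ⧸ H) := by
      intro g
      show _ ↔ ((x * g : G) : G ⧸ H) = (g : G ⧸ H)
      rw [eq_comm, QuotientGroup.eq, mul_assoc]
    refine (Equiv.subtypeEquivRight hiff).trans ?_
    refine ((Subgroup.groupEquivQuotientProdSubgroup (s := H)).subtypeEquiv (q := fun y => x • y.1 = y.1)
      fun g => ?_).trans ?_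
    · exact Iff.rfl
    · exact ⟨fun y => (⟨y.1.1, y.2⟩, y.1.2), fun y => ⟨(y.1.1, y.2), y.1.2⟩, fun _ => rfl, fun _ => rfl⟩
  have hA : Nat.card A = Nat.card (MulAction.fixedBy (G ⧸ H) x) * Nat.card H := by
    rw [Nat.card_congr e1, Nat.card_prod]; rfl
  let f : A → {g : G // IsConj x g ∧ g ∈ H} := fun a =>
    ⟨a.1⁻¹ * x * a.1, isConj_iff.2 ⟨a.1⁻¹, by group⟩, a.2⟩
  have hfib : ∀ y, Nat.card {a : A // f a = y} = Nat.card (Subgroup.centralizer ({x} : Set G)) := by
    rintro ⟨y, hy, hyH⟩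
    obtain ⟨c, hc⟩ := isConj_iff.1 hy
    refine Nat.card_congr
      ⟨fun a => ⟨a.1.1 * c, ?_⟩, fun z => ⟨⟨z.1 * c⁻¹, ?_⟩, ?_⟩, fun a => ?_, fun z => ?_⟩
    · rw [Subgroup.mem_centralizer_singleton_iff]
      have h := congrArg Subtype.val a.2
      change a.1.1⁻¹ * x * a.1.1 = y at h
      calc a.1.1 * c * x = a.1.1 * (c * x * c⁻¹) * c := by group
        _ = a.1.1 * (a.1.1⁻¹ * x * a.1.1) * c := by rw [hc, h]
        _ = x * (a.1.1 * c) := by group
    · have hz : z.1 * x = x * z.1 := Subgroup.mem_centralizer_singleton_iff.1 z.2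
      have : (z.1 * c⁻¹)⁻¹ * x * (z.1 * c⁻¹) = y := by
        calc (z.1 * c⁻¹)⁻¹ * x * (z.1 * c⁻¹) = c * (z.1⁻¹ * (x * z.1)) * c⁻¹ := by group
          _ = y := by rw [← hz, inv_mul_cancel_left, hc]
      rw [this]; exact hyH
    · refine Subtype.ext ?_
      have hz : z.1 * x = x * z.1 := Subgroup.mem_centralizer_singleton_iff.1 z.2
      show (z.1 * c⁻¹)⁻¹ * x * (z.1 * c⁻¹) = y
      calc (z.1 * c⁻¹)⁻¹ * x * (z.1 * c⁻¹) = c * (z.1⁻¹ * (x * z.1)) * c⁻¹ := by group
        _ = y := by rw [← hz, inv_mul_cancel_left, hc]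
    · exact Subtype.ext (Subtype.ext (mul_inv_cancel_right _ _))
    · exact Subtype.ext (inv_mul_cancel_right _ _)
  have hA2 : Nat.card A = Nat.card {g : G // IsConj x g ∧ g ∈ H} *
      Nat.card (Subgroup.centralizer ({x} : Set G)) := by
    rw [← Nat.card_congr (Equiv.sigmaFiberEquiv f), Nat.card_sigma,
      Finset.sum_congr rfl fun y _ => hfib y, Finset.sum_const, Finset.card_univ, smul_eq_mul,
      ← Nat.card_eq_fintype_card]
  have hC : Nat.card {g : G // IsConj x g} * Nat.card (Subgroup.centralizer ({x} : Set G)) =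
      Nat.card G := by
    let g : G → {g : G // IsConj x g} := fun a => ⟨a * x * a⁻¹, isConj_iff.2 ⟨a, rfl⟩⟩
    have hg : ∀ y, Nat.card {a : G // g a = y} = Nat.card (Subgroup.centralizer ({x} : Set G)) := by
      rintro ⟨y, hy⟩
      obtain ⟨c, hc⟩ := isConj_iff.1 hy
      refine Nat.card_congr (Equiv.subtypeEquiv (Equiv.mulLeft c⁻¹) fun a => ?_)
      rw [Subgroup.mem_centralizer_singleton_iff, Subtype.ext_iff]
      show a * x * a⁻¹ = y ↔ c⁻¹ * a * x = x * (c⁻¹ * a)
      rw [← hc]
      constructor <;> intro h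
      · calc c⁻¹ * a * x = c⁻¹ * (a * x * a⁻¹) * a := by group
          _ = x * (c⁻¹ * a) := by rw [h]; group
      · calc a * x * a⁻¹ = c * (c⁻¹ * a * x) * a⁻¹ := by group
          _ = c * x * c⁻¹ := by rw [h]; group
    haveI : Fintype {g : G // IsConj x g} := Fintype.ofFinite _
    rw [← Nat.card_congr (Equiv.sigmaFiberEquiv g), Nat.card_sigma,
      Finset.sum_congr rfl fun y _ => hg y, Finset.sum_const, Finset.card_univ, smul_eq_mul,
      ← Nat.card_eq_fintype_card]
  have hpos : 0 < Nat.card H := Nat.card_pos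
  refine Nat.eq_of_mul_eq_mul_right hpos ?_
  calc Nat.card (MulAction.fixedBy (G ⧸ H) x) * Nat.card {g : G // IsConj x g} * Nat.card H
      = Nat.card A * Nat.card {g : G // IsConj x g} := by rw [hA]; ring
    _ = Nat.card {g : G // IsConj x g ∧ g ∈ H} * (H.index * Nat.card H) := by
      rw [hA2, Subgroup.index_mul_card, ← hC]; ring
    _ = H.index * Nat.card {g : G // IsConj x g ∧ g ∈ H} * Nat.card H := by ring

end Cfsg.Agent.S1019
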