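import Cfsg.Statements.S1016
import Cfsg.Agent.Lib.Classical.SimpleOrder
import Cfsg.Agent.S1018
import Cfsg.Agent.S1019

set_option autoImplicit false
open Cfsg

open Cfsg.Agent.Classical

namespace Cfsg.Agent.S1016

theorem divisor_cases_aux : ∀ x < 289, 288 % x = 0 → x % 5 = 1 → x ∈ [1, 6, 16, 36, 96] := by
  decide +kernel

theorem divisor_cases (x : ℕ) (hx : x ≤ 288) (hd : x ∣ 288) (h5 : x % 5 = 1) (h1 : 1 < x) :
    x = 6 ∨ x = 16 ∨ x = 36 ∨ x = 96 := by
  have := divisor_cases_aux x (by omega) (Nat.mod_eq_zero_of_dvd hd) h5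
  simp only [List.mem_cons, List.not_mem_nil, or_false] at this
  omega

theorem four_cases : ∀ r ≤ 4, r ∣ 4 → r ≠ 1 → r = 2 ∨ r = 4 := by decide +kernel

end Cfsg.Agent.S1016

namespace Cfsg.Agent.S1016

/-- No finite simple group has order 1440 = 2^5 * 3^2 * 5. -/
theorem result {G : Type*} [Group G] [Finite G] [IsSimpleGroup G] : Nat.card G ≠ 1440 := by
  classical
  intro h
  haveI : Fact (Nat.Prime 5) := ⟨by norm_num⟩
  have hG : ¬ IsMulCommutative G := SimpleOrder.not_comm (by rw [h]; norm_num)
  have h' : Nat.card G = 5 ^ 1 * 288 := by rw [h]; norm_num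
  obtain ⟨hd, hmod, hone, hfac⟩ := SimpleOrder.sylow_number (p := 5) hG h' one_pos (by norm_num)
  obtain ⟨P⟩ : Nonempty (Sylow 5 G) := inferInstance
  have hPall : ∀ S : Sylow 5 G, Nat.card S = 5 := fun S => by rw [SimpleOrder.card_sylow_eq S h' (by norm_num)]; norm_num
  have hP : Nat.card P = 5 := hPall P
  set N := Subgroup.normalizer ((P : Subgroup G) : Set G) with hN
  set C := Subgroup.centralizer ((P : Subgroup G) : Set G) with hC
  have hidx : N.index = Nat.card (Sylow 5 G) := (P.card_eq_index_normalizer).symm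
  have hmulN := SimpleOrder.card_normalizer_mul P
  have hmulC := SimpleOrder.card_centralizer_mul P
  have hr := SimpleOrder.relIndex_dvd_pred P hP
  rw [← hN, ← hC] at hmulC hr
  rw [← hN, h] at hmulN
  have hne1 : ∀ S : Sylow 5 G, (Subgroup.centralizer ((S : Subgroup G) : Set G)).relIndex
      (Subgroup.normalizer ((S : Subgroup G) : Set G)) ≠ 1 := fun S e =>
    SimpleOrder.not_normalizer_le_centralizer hG (by rw [h]; norm_num) S (Subgroup.relIndex_eq_one.1 e)
  have hr1 : C.relIndex N ≠ 1 := hne1 P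
  have hCP : (P : Subgroup G) ≤ C := SimpleOrder.le_centralizer_of_card_prime P hP
  obtain ⟨z, hzP, hz⟩ : ∃ z ∈ (P : Subgroup G), orderOf z = 5 := by
    obtain ⟨z, hz⟩ := exists_prime_orderOf_dvd_card' (G := (P : Subgroup G)) 5 (by rw [hP])
    exact ⟨z, z.2, by rw [Subgroup.orderOf_coe]; exact hz⟩
  have hcomm : ∀ x ∈ C, x * z = z * x := fun x hx => ((Subgroup.mem_centralizer_iff.1 hx) z hzP).symm
  have hN' : N ≠ ⊤ := SimpleOrder.normalizer_ne_top hG (by rw [h]; norm_num) P
  have hbig : ∀ H : Subgroup G, H ≠ ⊤ → Nat.card H ≤ 180 := fun H hH => by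
    have hf := SimpleOrder.two_mul_dvd_factorial hG H hH
    rw [h] at hf
    have h8 : 8 ≤ H.index := by
      by_contra hlt
      have h7 : 2 * 1440 ∣ (7 : ℕ).factorial := hf.trans (Nat.factorial_dvd_factorial (by omega))
      norm_num [Nat.factorial] at h7
    have := H.index_mul_card
    rw [h] at this
    nlinarith
  have hcases : Nat.card (Sylow 5 G) = 6 ∨ Nat.card (Sylow 5 G) = 16 ∨ Nat.card (Sylow 5 G) = 36 ∨
      Nat.card (Sylow 5 G) = 96 := by
    have := Nat.le_of_dvd (by norm_num) hd
    exact Cfsg.Agent.S1016.divisor_cases _ this hd hmod hone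
  rcases hcases with hn | hn | hn | hn
  · rw [hn, h] at hfac
    norm_num [Nat.factorial] at hfac
  · -- sixteen Sylow subgroups
    rw [hn] at hmulN
    have hN90 : Nat.card N = 90 := by omega
    have hrel2 : ∀ S : Sylow 5 G, (Subgroup.centralizer ((S : Subgroup G) : Set G)).relIndex
        (Subgroup.normalizer ((S : Subgroup G) : Set G)) = 2 := by
      intro S
      have h1 := SimpleOrder.relIndex_dvd_pred S (hPall S)
      have h2 := SimpleOrder.card_centralizer_mul S
      have h3 := SimpleOrder.card_normalizer_mul S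
      rw [hn, h] at h3
      have h90 : (Subgroup.centralizer ((S : Subgroup G) : Set G)).relIndex
          (Subgroup.normalizer ((S : Subgroup G) : Set G)) ∣ 90 := ⟨_, ((by omega : Nat.card (Subgroup.normalizer ((S : Subgroup G) : Set G)) = 90)).symm.trans h2.symm⟩
      have hg := Nat.dvd_gcd h1 h90
      exact ((Nat.dvd_prime Nat.prime_two).1 hg).resolve_left (hne1 S)
    have hC45 : Nat.card C = 45 := by rw [show C.relIndex N = 2 from hrel2 P, hN90] at hmulC; omega
    haveI : Fintype (Sylow 5 G) := Fintype.ofFinite _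
    obtain ⟨R, hR⟩ := Fintype.exists_ne_of_one_lt_card (by rw [← Nat.card_eq_fintype_card, hn]; norm_num) P
    obtain ⟨a, b, hab, hne⟩ : ∃ a b : C, (a : G) • R = (b : G) • R ∧ a ≠ b := by
      by_contra hcon
      push Not at hcon
      have := Nat.card_le_card_of_injective (fun a : C => (a : G) • R) fun a b e => hcon a b e
      omega
    set x : G := (b : G)⁻¹ * a with hx
    have hxC : x ∈ C := C.mul_mem (C.inv_mem b.2) a.2
    have hxR : x ∈ Subgroup.normalizer ((R : Subgroup G) : Set G) := Sylow.smul_eq_iff_mem_normalizer.1 (by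
      rw [hx, ← smul_smul, hab, inv_smul_smul])
    have hx1 : x ≠ 1 := fun e => hne (Subtype.ext (inv_mul_eq_one.1 e).symm)
    have hxCR : x ∈ Subgroup.centralizer ((R : Subgroup G) : Set G) := by
      haveI : ((Subgroup.centralizer ((R : Subgroup G) : Set G)).subgroupOf
          (Subgroup.normalizer ((R : Subgroup G) : Set G))).Normal :=
        Subgroup.normal_of_index_eq_two (hrel2 R)
      have h2 := Subgroup.pow_index_mem ((Subgroup.centralizer ((R : Subgroup G) : Set G)).subgroupOf
          (Subgroup.normalizer ((R : Subgroup G) : Set G))) (⟨x, hxR⟩ : Subgroup.normalizer ((R : Subgroup G) : Set G))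
      rw [show ((Subgroup.centralizer ((R : Subgroup G) : Set G)).subgroupOf
          (Subgroup.normalizer ((R : Subgroup G) : Set G))).index = 2 from hrel2 R, Subgroup.mem_subgroupOf] at h2
      have hodd : x ^ 45 = 1 := by
        have := pow_card_eq_one' (x := (⟨x, hxC⟩ : C))
        rw [hC45] at this
        exact congrArg Subtype.val this
      have : x = (x ^ 2) ^ 23 := by rw [← pow_mul, show 2 * 23 = 45 + 1 from rfl, pow_succ, hodd, one_mul]
      rw [this]
      exact Subgroup.pow_mem _ h2 23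
    set H := Subgroup.centralizer ({x} : Set G) with hH
    have hHtop : H ≠ ⊤ := fun e => by
      have hxc : x ∈ Subgroup.center G := Subgroup.mem_center_iff.2 fun g =>
        ((Subgroup.mem_centralizer_iff.1 (e ▸ Subgroup.mem_top g : g ∈ H)) x rfl).symm
      rw [SimpleOrder.center_eq_bot hG, Subgroup.mem_bot] at hxc
      exact hx1 hxc
    have hPH : (P : Subgroup G) ≤ H := fun u hu => Subgroup.mem_centralizer_iff.2 fun w hw => by
      rw [Set.mem_singleton_iff.1 hw]; exact ((Subgroup.mem_centralizer_iff.1 hxC) u hu).symm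
    have hRH : (R : Subgroup G) ≤ H := fun u hu => Subgroup.mem_centralizer_iff.2 fun w hw => by
      rw [Set.mem_singleton_iff.1 hw]; exact ((Subgroup.mem_centralizer_iff.1 hxCR) u hu).symm
    have hCH : C ≤ H := by
      intro u hu
      refine Subgroup.mem_centralizer_iff.2 fun w hw => ?_
      rw [Set.mem_singleton_iff.1 hw]
      have hcC : IsMulCommutative C := by
        haveI : Fact (Nat.Prime 3) := ⟨by norm_num⟩
        obtain ⟨Q⟩ : Nonempty (Sylow 3 C) := inferInstance
        have hQ : Nat.card Q = 3 ^ 2 := SimpleOrder.card_sylow_eq Q (k := 2) (m := 5) (by rw [hC45]; norm_num) (by norm_num)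
        haveI := IsPGroup.isMulCommutative_of_card_eq_prime_sq hQ
        have hsup : ((P : Subgroup G).subgroupOf C) ⊔ (Q : Subgroup C) = ⊤ := by
          apply Subgroup.eq_top_of_card_eq
          have h5 : Nat.card ((P : Subgroup G).subgroupOf C) ∣ Nat.card ↥(((P : Subgroup G).subgroupOf C) ⊔ (Q : Subgroup C)) :=
            Subgroup.card_dvd_of_le le_sup_left
          have h9 : Nat.card (Q : Subgroup C) ∣ Nat.card ↥(((P : Subgroup G).subgroupOf C) ⊔ (Q : Subgroup C)) :=
            Subgroup.card_dvd_of_le le_sup_right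
          rw [Nat.card_congr (Subgroup.subgroupOfEquivOfLe hCP).toEquiv, hP] at h5
          rw [show Nat.card (Q : Subgroup C) = 9 from hQ] at h9
          refine Nat.dvd_antisymm (Subgroup.card_subgroup_dvd_card _) ?_
          rw [hC45]
          exact Nat.Coprime.mul_dvd_of_dvd_of_dvd (by norm_num : Nat.Coprime 5 9) h5 h9
        have hcen : (P : Subgroup G).subgroupOf C ≤ Subgroup.center C := fun u hu => Subgroup.mem_center_iff.2 fun g =>
          Subtype.ext ((Subgroup.mem_centralizer_iff.1 g.2) u (Subgroup.mem_subgroupOf.1 hu)).symm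
        have hQc : (Q : Subgroup C) ≤ Subgroup.center C := fun u hu => Subgroup.mem_center_iff.2 fun g => by
          have hall : (⊤ : Subgroup C) ≤ Subgroup.centralizer ({u} : Set C) := by
            rw [← hsup]
            refine sup_le (fun w hw => ?_) fun w hw => ?_
            · exact Subgroup.mem_centralizer_iff.2 fun v hv => Subgroup.mem_center_iff.1 (hcen hw) v
            · refine Subgroup.mem_centralizer_iff.2 fun v hv => ?_
              rw [Set.mem_singleton_iff.1 hv]
              exact congrArg Subtype.val (mul_comm' (⟨u, hu⟩ : (Q : Subgroup C)) ⟨w, hw⟩)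
          exact ((Subgroup.mem_centralizer_iff.1 (hall (Subgroup.mem_top g))) u rfl).symm
        have hZ : (⊤ : Subgroup C) ≤ Subgroup.center C := hsup ▸ sup_le hcen hQc
        exact ⟨⟨fun s t => Subgroup.mem_center_iff.1 (hZ (Subgroup.mem_top t)) s⟩⟩
      exact congrArg Subtype.val (hcC.is_comm.comm (⟨x, hxC⟩ : C) ⟨u, hu⟩)
    have hnH := card_sylow_modEq_one 5 H
    let PH : Sylow 5 H := P.subtype hPH
    have hne' : PH ≠ R.subtype hRH := fun e => hR (Sylow.subtype_injective e).symm
    haveI : Fintype (Sylow 5 H) := Fintype.ofFinite _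
    have h2H : 1 < Nat.card (Sylow 5 H) := by
      rw [Nat.card_eq_fintype_card]
      exact Fintype.one_lt_card_iff.2 ⟨_, _, hne'⟩
    have h6 : 6 ≤ Nat.card (Sylow 5 H) := by
      rw [Nat.ModEq] at hnH
      omega
    have hmulH := SimpleOrder.card_normalizer_mul (G := H) PH
    have h45 : 45 ≤ Nat.card (Subgroup.normalizer ((PH : Subgroup H) : Set H)) := by
      rw [← hC45]
      let θ : C → Subgroup.normalizer ((PH : Subgroup H) : Set H) := fun u =>
        ⟨⟨u, hCH u.2⟩, Subgroup.mem_normalizer_fintype fun n hn => by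
          have hn' : (n : G) ∈ (P : Subgroup G) := hn
          show (u : G) * n * (u : G)⁻¹ ∈ (P : Subgroup G)
          rw [← (Subgroup.mem_centralizer_iff.1 u.2) n hn', mul_inv_cancel_right]
          exact hn'⟩
      exact Nat.card_le_card_of_injective θ fun u v e => Subtype.ext (congrArg (fun t : Subgroup.normalizer ((PH : Subgroup H) : Set H) => ((t : H) : G)) e)
    have := hbig H hHtop
    have := Nat.mul_le_mul h6 h45
    omega
  swap
  · rw [hn] at hmulN
    have hN15 : Nat.card N = 15 := by omega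
    apply hr1
    have h15 : C.relIndex N ∣ 15 := ⟨_, hN15.symm.trans hmulC.symm⟩
    exact Nat.dvd_one.1 (Nat.dvd_gcd hr h15)
  rw [hn] at hmulN
  have hN40 : Nat.card N = 40 := by omega
  have hrel : C.relIndex N = 2 ∨ C.relIndex N = 4 := by
    have := Nat.le_of_dvd (by norm_num) hr
    exact Cfsg.Agent.S1016.four_cases _ this hr hr1
  have hC20 : Nat.card C = 20 ∨ Nat.card C = 10 := by
    rw [hN40] at hmulC
    rcases hrel with e | e <;> rw [e] at hmulC <;> omega
  have hC2 : 2 ∣ Nat.card C := by rcases hC20 with e | e <;> rw [e] <;> norm_num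
  haveI : Fact (Nat.Prime 2) := ⟨Nat.prime_two⟩
  obtain ⟨y', hy'⟩ := exists_prime_orderOf_dvd_card' (G := C) 2 (hC2)
  set y : G := (y' : G) with hyd
  have hy : orderOf y = 2 := by rw [hyd, Subgroup.orderOf_coe]; exact hy'
  have hyC : y ∈ C := y'.2
  have hCN : C ≤ N := by
    intro x hx
    rw [hC, Subgroup.mem_centralizer_iff] at hx
    refine Subgroup.mem_normalizer_fintype fun n hn => ?_
    rw [← hx n hn, mul_inv_cancel_right]
    exact hn
  -- the fixed points of y
  obtain ⟨hfix1, hfix2⟩ := Cfsg.Agent.S1018.result 5 P hP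
  rw [← hN] at hfix1 hfix2
  have hcount := Cfsg.Agent.S1019.result N y (hCN hyC)
  rw [hidx, hn] at hcount
  have hX : Nat.card (G ⧸ N) = 36 := by rw [← Subgroup.index_eq_card, hidx, hn]
  set fy := Nat.card (MulAction.fixedBy (G ⧸ N) y) with hfy
  have heven : fy % 2 = 0 := by
    have hp2 : IsPGroup 2 (Subgroup.zpowers y) := IsPGroup.of_card (n := 1) (by rw [Nat.card_zpowers, hy, pow_one])
    have hm := hp2.card_modEq_card_fixedPoints (G ⧸ N)
    have hset : MulAction.fixedPoints (Subgroup.zpowers y) (G ⧸ N) = MulAction.fixedBy (G ⧸ N) y := by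
      ext a
      refine ⟨fun ha => ha ⟨y, Subgroup.mem_zpowers y⟩, fun ha => ?_⟩
      rintro ⟨g, hg⟩
      obtain ⟨j, rfl⟩ := Subgroup.mem_zpowers_iff.1 hg
      exact (MulAction.mem_fixedBy.1 (MulAction.fixedBy_subset_fixedBy_zpow (G ⧸ N) y j ha))
    rw [hset, hX, Nat.ModEq, ← hfy] at hm
    omega
  have hmod5 : fy % 5 = 1 := by
    have hp5 : IsPGroup 5 (Subgroup.zpowers z) := IsPGroup.of_card (n := 1) (by rw [Nat.card_zpowers, hz, pow_one])
    have hstab : ∀ (g : Subgroup.zpowers z) (a : MulAction.fixedBy (G ⧸ N) y),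
        (g : G) • (a : G ⧸ N) ∈ MulAction.fixedBy (G ⧸ N) y := by
      rintro ⟨g, hg⟩ ⟨a, ha⟩
      obtain ⟨j, rfl⟩ := Subgroup.mem_zpowers_iff.1 hg
      have hc : Commute y (z ^ j) := (show Commute y z from hcomm y hyC).zpow_right j
      show y • (z ^ j • a) = z ^ j • a
      rw [smul_smul, hc.eq, ← smul_smul, MulAction.mem_fixedBy.1 ha]
    letI : MulAction (Subgroup.zpowers z) (MulAction.fixedBy (G ⧸ N) y) :=
      { smul := fun g a => ⟨(g : G) • (a : G ⧸ N), hstab g a⟩
        one_smul := fun a => Subtype.ext (one_smul G (a : G ⧸ N))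
        mul_smul := fun g g' a => Subtype.ext (mul_smul (g : G) (g' : G) (a : G ⧸ N)) }
    have hm := hp5.card_modEq_card_fixedPoints (MulAction.fixedBy (G ⧸ N) y)
    obtain ⟨a0, ha0⟩ : ∃ a0 : G ⧸ N, MulAction.fixedBy (G ⧸ N) z = {a0} := by
      have h1 := hfix1 z hz
      rw [Nat.card_eq_one_iff_unique] at h1
      obtain ⟨hs, ⟨a0⟩⟩ := h1
      exact ⟨a0, Set.eq_singleton_iff_unique_mem.2 ⟨a0.2, fun b hb => congrArg Subtype.val (hs.elim (⟨b, hb⟩ : MulAction.fixedBy (G ⧸ N) z) a0)⟩⟩
    have h0y : a0 ∈ MulAction.fixedBy (G ⧸ N) y := by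
      have hz0 : z • a0 = a0 := MulAction.mem_fixedBy.1 (ha0 ▸ Set.mem_singleton a0)
      have : y • a0 ∈ MulAction.fixedBy (G ⧸ N) z := by
        show z • (y • a0) = y • a0
        rw [smul_smul, ← hcomm y hyC, ← smul_smul, hz0]
      rw [ha0] at this
      exact this
    have h1 : Nat.card (MulAction.fixedPoints (Subgroup.zpowers z) (MulAction.fixedBy (G ⧸ N) y)) = 1 := by
      rw [Nat.card_eq_one_iff_unique]
      refine ⟨⟨fun u v => ?_⟩, ⟨⟨⟨a0, h0y⟩, fun g => Subtype.ext ?_⟩⟩⟩
      · have hu : ((u : MulAction.fixedBy (G ⧸ N) y) : G ⧸ N) ∈ MulAction.fixedBy (G ⧸ N) z :=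
          congrArg Subtype.val (u.2 ⟨z, Subgroup.mem_zpowers z⟩)
        have hv : ((v : MulAction.fixedBy (G ⧸ N) y) : G ⧸ N) ∈ MulAction.fixedBy (G ⧸ N) z :=
          congrArg Subtype.val (v.2 ⟨z, Subgroup.mem_zpowers z⟩)
        rw [ha0, Set.mem_singleton_iff] at hu hv
        exact Subtype.ext (Subtype.ext (hu.trans hv.symm))
      · obtain ⟨j, hj⟩ := Subgroup.mem_zpowers_iff.1 g.2
        show (g : G) • a0 = a0
        rw [← hj]
        exact MulAction.mem_fixedBy.1 (MulAction.fixedBy_subset_fixedBy_zpow (G ⧸ N) z j (ha0 ▸ Set.mem_singleton a0))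
    rw [h1, Nat.ModEq, ← hfy] at hm
    omega
  have hfy36 : fy ≤ 36 := by rw [← hX]; exact Nat.card_le_card_of_injective _ Subtype.val_injective
  have hfy4 : fy % 4 = 0 := by
    haveI : Fintype (G ⧸ N) := Fintype.ofFinite _
    have hsign : Equiv.Perm.sign (MulAction.toPermHom G (G ⧸ N) y) = 1 := by
      rcases ((Equiv.Perm.sign.comp (MulAction.toPermHom G (G ⧸ N))).normal_ker).eq_bot_or_eq_top with h0 | h0
      · exfalso
        have hinj := (MonoidHom.ker_eq_bot_iff _).1 h0
        exact hG ⟨⟨fun a b => hinj (by rw [map_mul, map_mul, mul_comm])⟩⟩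
      · exact MonoidHom.mem_ker.1 (h0 ▸ Subgroup.mem_top y : y ∈ (Equiv.Perm.sign.comp (MulAction.toPermHom G (G ⧸ N))).ker)
    set σ : Equiv.Perm (G ⧸ N) := MulAction.toPermHom G (G ⧸ N) y with hσ
    have hσ2 : σ ^ 2 = 1 := by rw [hσ, ← map_pow, ← hy, pow_orderOf_eq_one, map_one]
    have hct : σ.cycleType = Multiset.replicate (Multiset.card σ.cycleType) 2 :=
      Multiset.eq_replicate.2 ⟨rfl, fun n hn => by
        have h1 := (Equiv.Perm.dvd_of_mem_cycleType hn).trans (orderOf_dvd_of_pow_eq_one hσ2)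
        have h2 := Equiv.Perm.two_le_of_mem_cycleType hn
        exact le_antisymm (Nat.le_of_dvd two_pos h1) h2⟩
    rw [Equiv.Perm.sign_of_cycleType, hct, Multiset.sum_replicate, Multiset.card_replicate, smul_eq_mul,
      neg_one_pow_eq_one_iff_even (by decide)] at hsign
    have hsupp : σ.support.card = Multiset.card σ.cycleType * 2 := by
      rw [← Equiv.Perm.sum_cycleType]
      conv_lhs => rw [hct]
      rw [Multiset.sum_replicate, smul_eq_mul]
    have hfix : fy = Fintype.card (G ⧸ N) - σ.support.card := by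
      rw [hfy, ← Finset.card_compl]
      rw [← Nat.card_eq_finsetCard]
      exact Nat.card_congr (Equiv.subtypeEquivRight fun a => by
        rw [Finset.mem_compl, Equiv.Perm.notMem_support]; rfl)
    have h36 : Fintype.card (G ⧸ N) = 36 := by rw [← Nat.card_eq_fintype_card]; exact hX
    have hle : σ.support.card ≤ 36 := h36 ▸ Finset.card_le_univ _
    obtain ⟨r, hr⟩ := hsign
    omega
  have hfy16 : 16 ≤ fy := by omega
  -- conjugates of y in N lie in C
  have horb : Nat.card (MulAction.orbitRel.Quotient (P : Subgroup G) (G ⧸ N)) ≤ 8 := by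
    haveI : Fintype (P : Subgroup G) := Fintype.ofFinite _
    haveI : Fintype (G ⧸ N) := Fintype.ofFinite _
    have hB := MulAction.sum_card_fixedBy_eq_card_orbits_mul_card_group (P : Subgroup G) (G ⧸ N)
    have hterm : ∀ u : (P : Subgroup G), u ≠ 1 → Fintype.card (MulAction.fixedBy (G ⧸ N) u) = 1 := fun u hu => by
      rw [← Nat.card_eq_fintype_card]
      refine hfix1 (u : G) ?_
      have h7 : orderOf u ∣ 5 := (orderOf_dvd_natCard u).trans (dvd_of_eq hP)
      rw [Subgroup.orderOf_coe]
      exact ((Nat.dvd_prime (by norm_num)).1 h7).resolve_left (fun e => hu (orderOf_eq_one_iff.1 e))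
    rw [← Finset.add_sum_erase _ _ (Finset.mem_univ (1 : (P : Subgroup G))),
      Finset.sum_congr rfl (fun u hu => hterm u (Finset.ne_of_mem_erase hu)), Finset.sum_const, smul_eq_mul, mul_one,
      Finset.card_erase_of_mem (Finset.mem_univ _), Finset.card_univ] at hB
    have h1 : Fintype.card (MulAction.fixedBy (G ⧸ N) (1 : (P : Subgroup G))) ≤ 36 := by
      rw [← Nat.card_eq_fintype_card, ← hX]
      exact Nat.card_le_card_of_injective _ Subtype.val_injective
    rw [Nat.card_eq_fintype_card]
    have hP5 : Fintype.card (P : Subgroup G) = 5 := by rw [← Nat.card_eq_fintype_card]; exact hP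
    rw [hP5] at hB
    unfold MulAction.orbitRel.Quotient
    omega
  set m := Nat.card {g : G // IsConj y g ∧ g ∈ N} with hm
  set cl := Nat.card {g : G // IsConj y g} with hcl
  have hm3 : m + 1 ≤ Nat.card (C ⧸ (P : Subgroup G).subgroupOf C) := by
    have hinC : ∀ g : G, IsConj y g → g ∈ N → g ∈ C ∧ g * g = 1 ∧ g ≠ 1 := by
      intro g hg hgN
      obtain ⟨c, hc⟩ := isConj_iff.1 hg
      have hg2 : g * g = 1 := by
        have h2 : y * y = 1 := by rw [← pow_two, ← hy, pow_orderOf_eq_one]
        rw [← hc]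
        calc c * y * c⁻¹ * (c * y * c⁻¹) = c * (y * y) * c⁻¹ := by group
          _ = 1 := by rw [h2]; group
      refine ⟨by_contra fun hgC => ?_, hg2, fun e => ?_⟩
      · have hle := (hfix2 g hgN hgC).trans horb
        have heq : fy = Nat.card (MulAction.fixedBy (G ⧸ N) g) := by
          refine Nat.card_congr (((MulAction.toPerm c : Equiv.Perm (G ⧸ N))).subtypeEquiv fun a => ?_)
          show y • a = a ↔ g • (c • a) = c • a
          rw [← hc, smul_smul, inv_mul_cancel_right, ← smul_smul, (MulAction.injective c).eq_iff]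
        omega
      · rw [e] at hc
        have : y = 1 := by simpa using hc
        rw [this, orderOf_one] at hy
        omega
    let ψ : Option {g : G // IsConj y g ∧ g ∈ N} → C ⧸ (P : Subgroup G).subgroupOf C := fun o =>
      o.elim ((1 : C) : C ⧸ (P : Subgroup G).subgroupOf C) fun g => ((⟨g.1, (hinC g.1 g.2.1 g.2.2).1⟩ : C) : C ⧸ _)
    have key : ∀ u v : C, (u : G) * u = 1 → (v : G) * v = 1 →
        (u : C ⧸ (P : Subgroup G).subgroupOf C) = v → u = v := by
      intro u v hu hv e
      rw [QuotientGroup.eq, Subgroup.mem_subgroupOf, Subgroup.coe_mul, Subgroup.coe_inv] at e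
      set p0 : G := (u : G)⁻¹ * v with hp0
      have hcm : (u : G) * p0 = p0 * u := ((Subgroup.mem_centralizer_iff.1 u.2) p0 e).symm
      have hc' : Commute (u : G) v := by
        have h3 := hcm
        rw [hp0, mul_inv_cancel_left] at h3
        show (u : G) * v = v * u
        conv_lhs => rw [h3]
        group
      have h2 : p0 * p0 = 1 := by
        rw [hp0, ← pow_two, hc'.inv_left.mul_pow, inv_pow, pow_two, pow_two, hu, hv, inv_one, one_mul]
      have h1 : p0 = 1 := by
        have d2 : orderOf p0 ∣ 2 := orderOf_dvd_of_pow_eq_one (by rw [pow_two]; exact h2)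
        have d7 : orderOf p0 ∣ 5 := hP ▸ Subgroup.orderOf_dvd_natCard _ e
        exact orderOf_eq_one_iff.1 (Nat.dvd_one.1 (Nat.dvd_gcd d2 d7))
      exact Subtype.ext (inv_mul_eq_one.1 h1)
    have hψ : Function.Injective ψ := by
      rintro (_ | g) (_ | g') e
      · rfl
      · have := key 1 _ (by simp) (hinC g'.1 g'.2.1 g'.2.2).2.1 e
        exact absurd (congrArg Subtype.val this).symm (hinC g'.1 g'.2.1 g'.2.2).2.2
      · have := key _ 1 (hinC g.1 g.2.1 g.2.2).2.1 (by simp) e
        exact absurd (congrArg Subtype.val this) (hinC g.1 g.2.1 g.2.2).2.2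
      · have := key _ _ (hinC g.1 g.2.1 g.2.2).2.1 (hinC g'.1 g'.2.1 g'.2.2).2.1 e
        exact congrArg some (Subtype.ext (congrArg (fun x : C => (x : G)) this))
    have := Nat.card_le_card_of_injective ψ hψ
    rw [Finite.card_option] at this
    omega
  have hquot : Nat.card (C ⧸ (P : Subgroup G).subgroupOf C) ≤ 4 := by
    have := Subgroup.card_eq_card_quotient_mul_card_subgroup ((P : Subgroup G).subgroupOf C)
    rw [Nat.card_congr (Subgroup.subgroupOfEquivOfLe hCP).toEquiv, hP] at this
    omega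
  have hclidx : cl = (Subgroup.centralizer ({y} : Set G)).index := by
    have h2 := MulAction.index_stabilizer (ConjAct G) (x := y)
    rw [← Subgroup.index_comap_of_surjective (f := (ConjAct.toConjAct : G ≃* ConjAct G).toMonoidHom) _
      (ConjAct.toConjAct (G := G)).surjective] at h2
    have e : (Subgroup.centralizer ({y} : Set G)).index = _ :=
      (congrArg Subgroup.index (Subgroup.centralizer_eq_comap_stabilizer y)).trans h2
    rw [hcl, e, ← Nat.card_coe_set_eq]
    exact Nat.card_congr (Equiv.setCongr (Set.ext fun g => by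
      rw [ConjAct.mem_orbit_conjAct]; exact ⟨IsConj.symm, IsConj.symm⟩))
  rw [hclidx] at hcount
  have hDtop : Subgroup.centralizer ({y} : Set G) ≠ ⊤ := fun e => by
    have hyc : y ∈ Subgroup.center G := Subgroup.mem_center_iff.2 fun g =>
      ((Subgroup.mem_centralizer_iff.1 (e ▸ Subgroup.mem_top g : g ∈ Subgroup.centralizer ({y} : Set G))) y rfl).symm
    rw [SimpleOrder.center_eq_bot hG, Subgroup.mem_bot] at hyc
    rw [hyc, orderOf_one] at hy
    omega
  have hD := hbig _ hDtop
  have hDi := (Subgroup.centralizer ({y} : Set G)).index_mul_card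
  rw [h] at hDi
  have h8 : 8 ≤ (Subgroup.centralizer ({y} : Set G)).index := by nlinarith
  have hi : (Subgroup.centralizer ({y} : Set G)).index ≤ 8 := by
    rcases (by omega : fy = 16 ∨ fy = 36) with e | e <;> rw [e] at hcount <;> omega
  have hi8 : (Subgroup.centralizer ({y} : Set G)).index = 8 := le_antisymm hi h8
  rw [hi8] at hcount
  omega

end Cfsg.Agent.S1016
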