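import Cfsg.Statements.S1017
import Cfsg.Agent.Lib.Classical.SimpleOrder
import Cfsg.Agent.S1018
import Cfsg.Agent.S1019

set_option autoImplicit false
open Cfsg

open Cfsg.Agent.Classical

namespace Cfsg.Agent.S1017

/-- A subgroup commuting with an element of order seven inside a group of degree at most nine is small. -/
theorem card_le_of_embedding {G : Type*} [Group G] [Finite G] {k : ℕ} (hk : k ≤ 9) (f : G →* Equiv.Perm (Fin k))
    (hf : Function.Injective f) (z : G) (hz : orderOf z = 7) (C : Subgroup G) (hC : ∀ x ∈ C, x * z = z * x) :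
    Nat.card C ≤ 14 := by
  classical
  let φ : C → Subgroup.centralizer ({f z} : Set (Equiv.Perm (Fin k))) := fun x =>
    ⟨f x, by
      rw [Subgroup.mem_centralizer_iff]
      rintro _ rfl
      rw [← map_mul, ← map_mul, hC _ x.2]⟩
  have hφ : Function.Injective φ := fun x y e => Subtype.ext (hf (congrArg Subtype.val e))
  refine (Nat.card_le_card_of_injective φ hφ).trans ?_
  have ho : orderOf (f z) = 7 := (orderOf_injective f hf z).trans hz
  obtain ⟨n, hn⟩ := Equiv.Perm.cycleType_prime_order (σ := f z) (by rw [ho]; norm_num)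
  rw [ho] at hn
  have hs : (f z).cycleType.sum ≤ k := by
    rw [Equiv.Perm.sum_cycleType]
    exact (Finset.card_le_univ _).trans (by simp)
  rw [hn, Multiset.sum_replicate, smul_eq_mul] at hs
  obtain rfl : n = 0 := by omega
  rw [Equiv.Perm.nat_card_centralizer, hn]
  simp only [Multiset.replicate_one, Multiset.sum_singleton, Multiset.prod_singleton, Multiset.toFinset_singleton,
    Finset.prod_singleton, Multiset.count_singleton_self, Fintype.card_fin, Nat.factorial_one, mul_one, zero_add]
  calc (k - 7).factorial * 7 ≤ (2 : ℕ).factorial * 7 := Nat.mul_le_mul_right _ (Nat.factorial_le (by omega))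
    _ = 14 := rfl

end Cfsg.Agent.S1017

namespace Cfsg.Agent.S1017

/-- No finite simple group has order 2016 = 2^5 * 3^2 * 7. -/
theorem result {G : Type*} [Group G] [Finite G] [IsSimpleGroup G] : Nat.card G ≠ 2016 := by
  classical
  intro h
  haveI : Fact (Nat.Prime 7) := ⟨by norm_num⟩
  have hG : ¬ IsMulCommutative G := SimpleOrder.not_comm (by rw [h]; norm_num)
  have h' : Nat.card G = 7 ^ 1 * 288 := by rw [h]; norm_num
  obtain ⟨hd, hmod, hone, hfac⟩ := SimpleOrder.sylow_number (p := 7) hG h' one_pos (by norm_num)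
  obtain ⟨P⟩ : Nonempty (Sylow 7 G) := inferInstance
  have hP : Nat.card P = 7 := by rw [SimpleOrder.card_sylow_eq P h' (by norm_num)]; norm_num
  set N := Subgroup.normalizer ((P : Subgroup G) : Set G) with hN
  set C := Subgroup.centralizer ((P : Subgroup G) : Set G) with hC
  have hidx : N.index = Nat.card (Sylow 7 G) := (P.card_eq_index_normalizer).symm
  have hmulN := SimpleOrder.card_normalizer_mul P
  have hmulC := SimpleOrder.card_centralizer_mul P
  have hr := SimpleOrder.relIndex_dvd_pred P hP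
  rw [← hN, ← hC] at hmulC hr
  rw [← hN] at hmulN
  have hr1 : C.relIndex N ≠ 1 := fun e =>
    SimpleOrder.not_normalizer_le_centralizer hG (by rw [h]; norm_num) P (Subgroup.relIndex_eq_one.1 e)
  have hCP : (P : Subgroup G) ≤ C := SimpleOrder.le_centralizer_of_card_prime P hP
  obtain ⟨z, hzP, hz⟩ : ∃ z ∈ (P : Subgroup G), orderOf z = 7 := by
    obtain ⟨z, hz⟩ := exists_prime_orderOf_dvd_card' (G := (P : Subgroup G)) 7 (by rw [hP])
    exact ⟨z, z.2, by rw [Subgroup.orderOf_coe]; exact hz⟩
  have hcomm : ∀ x ∈ C, x * z = z * x := fun x hx => ((Subgroup.mem_centralizer_iff.1 hx) z hzP).symm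
  have small : ∀ H : Subgroup G, H ≠ ⊤ → H.index ≤ 9 → Nat.card C ≤ 14 := fun H hH hi => by
    obtain ⟨f, hf⟩ := SimpleOrder.exists_alt_embedding hG H hH
    exact Cfsg.Agent.S1017.card_le_of_embedding hi ((alternatingGroup (Fin H.index)).subtype.comp f)
      ((Subtype.val_injective).comp hf) z hz C hcomm
  have hN' : N ≠ ⊤ := SimpleOrder.normalizer_ne_top hG (by rw [h]; norm_num) P
  have hcases : Nat.card (Sylow 7 G) = 8 ∨ Nat.card (Sylow 7 G) = 36 ∨ Nat.card (Sylow 7 G) = 288 := by
    have := Nat.le_of_dvd (by norm_num) hd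
    have key : ∀ x ≤ 288, x ∣ 288 → x % 7 = 1 → 1 < x → x = 8 ∨ x = 36 ∨ x = 288 := by decide +kernel
    exact key _ this hd hmod hone
  rw [h] at hmulN
  rcases hcases with hn | hn | hn
  · have h14 := small N hN' (by omega)
    have : C.relIndex N ≤ 6 := Nat.le_of_dvd (by norm_num) hr
    rw [hn] at hmulN
    have : Nat.card N = 252 := by omega
    nlinarith
  swap
  · rw [hn] at hmulN
    have hN7 : Nat.card N = 7 := by omega
    apply hr1
    have : C.relIndex N ∣ 7 := ⟨_, hN7.symm.trans hmulC.symm⟩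
    have h6 : C.relIndex N ∣ Nat.gcd 6 7 := Nat.dvd_gcd hr this
    exact Nat.dvd_one.1 h6
  rw [hn] at hmulN
  have hN56 : Nat.card N = 56 := by omega
  have hrel : C.relIndex N = 2 := by
    have h56 : C.relIndex N ∣ 56 := ⟨_, hN56.symm.trans hmulC.symm⟩
    have h2 : C.relIndex N ∣ 2 := Nat.dvd_gcd hr h56
    have := Nat.le_of_dvd (by norm_num) h2
    have hne0 : C.relIndex N ≠ 0 := fun e => by rw [e] at h2; norm_num at h2
    omega
  have hC28 : Nat.card C = 28 := by rw [hrel, hN56] at hmulC; omega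
  haveI : Fact (Nat.Prime 2) := ⟨Nat.prime_two⟩
  obtain ⟨y', hy'⟩ := exists_prime_orderOf_dvd_card' (G := C) 2 (by rw [hC28]; norm_num)
  set y : G := (y' : G) with hyd
  have hy : orderOf y = 2 := by rw [hyd, Subgroup.orderOf_coe]; exact hy'
  have hyC : y ∈ C := y'.2
  have hCN : C ≤ N := by
    intro x hx
    rw [hC, Subgroup.mem_centralizer_iff] at hx
    refine Subgroup.mem_normalizer_fintype fun n hn => ?_
    rw [← hx n hn, mul_inv_cancel_right]
    exact hn
  -- the fixed points of y
  obtain ⟨hfix1, hfix2⟩ := Cfsg.Agent.S1018.result 7 P hP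
  rw [← hN] at hfix1 hfix2
  have hcount := Cfsg.Agent.S1019.result N y (hCN hyC)
  rw [hidx, hn] at hcount
  have hX : Nat.card (G ⧸ N) = 36 := by rw [← Subgroup.index_eq_card, hidx, hn]
  set fy := Nat.card (MulAction.fixedBy (G ⧸ N) y) with hfy
  have heven : fy % 2 = 0 := by
    have hp2 : IsPGroup 2 (Subgroup.zpowers y) := IsPGroup.of_card (n := 1) (by rw [Nat.card_zpowers, hy, pow_one])
    have hm := hp2.card_modEq_card_fixedPoints (G ⧸ N)
    have hset : MulAction.fixedPoints (Subgroup.zpowers y) (G ⧸ N) = MulAction.fixedBy (G ⧸ N) y := by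
      ext a
      refine ⟨fun ha => ha ⟨y, Subgroup.mem_zpowers y⟩, fun ha => ?_⟩
      rintro ⟨g, hg⟩
      obtain ⟨j, rfl⟩ := Subgroup.mem_zpowers_iff.1 hg
      exact (MulAction.mem_fixedBy.1 (MulAction.fixedBy_subset_fixedBy_zpow (G ⧸ N) y j ha))
    rw [hset, hX, Nat.ModEq, ← hfy] at hm
    omega
  have hmod7 : fy % 7 = 1 := by
    have hp7 : IsPGroup 7 (Subgroup.zpowers z) := IsPGroup.of_card (n := 1) (by rw [Nat.card_zpowers, hz, pow_one])
    have hstab : ∀ (g : Subgroup.zpowers z) (a : MulAction.fixedBy (G ⧸ N) y),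
        (g : G) • (a : G ⧸ N) ∈ MulAction.fixedBy (G ⧸ N) y := by
      rintro ⟨g, hg⟩ ⟨a, ha⟩
      obtain ⟨j, rfl⟩ := Subgroup.mem_zpowers_iff.1 hg
      have hc : Commute y (z ^ j) := (show Commute y z from hcomm y hyC).zpow_right j
      show y • (z ^ j • a) = z ^ j • a
      rw [smul_smul, hc.eq, ← smul_smul, MulAction.mem_fixedBy.1 ha]
    letI : MulAction (Subgroup.zpowers z) (MulAction.fixedBy (G ⧸ N) y) :=
      { smul := fun g a => ⟨(g : G) • (a : G ⧸ N), hstab g a⟩
        one_smul := fun a => Subtype.ext (one_smul G (a : G ⧸ N))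
        mul_smul := fun g g' a => Subtype.ext (mul_smul (g : G) (g' : G) (a : G ⧸ N)) }
    have hm := hp7.card_modEq_card_fixedPoints (MulAction.fixedBy (G ⧸ N) y)
    obtain ⟨a0, ha0⟩ : ∃ a0 : G ⧸ N, MulAction.fixedBy (G ⧸ N) z = {a0} := by
      have h1 := hfix1 z hz
      rw [Nat.card_eq_one_iff_unique] at h1
      obtain ⟨hs, ⟨a0⟩⟩ := h1
      exact ⟨a0, Set.eq_singleton_iff_unique_mem.2 ⟨a0.2, fun b hb => congrArg Subtype.val (hs.elim (⟨b, hb⟩ : MulAction.fixedBy (G ⧸ N) z) a0)⟩⟩
    have h0y : a0 ∈ MulAction.fixedBy (G ⧸ N) y := by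
      have hz0 : z • a0 = a0 := MulAction.mem_fixedBy.1 (ha0 ▸ Set.mem_singleton a0)
      have : y • a0 ∈ MulAction.fixedBy (G ⧸ N) z := by
        show z • (y • a0) = y • a0
        rw [smul_smul, ← hcomm y hyC, ← smul_smul, hz0]
      rw [ha0] at this
      exact this
    have h1 : Nat.card (MulAction.fixedPoints (Subgroup.zpowers z) (MulAction.fixedBy (G ⧸ N) y)) = 1 := by
      rw [Nat.card_eq_one_iff_unique]
      refine ⟨⟨fun u v => ?_⟩, ⟨⟨⟨a0, h0y⟩, fun g => Subtype.ext ?_⟩⟩⟩
      · have hu : ((u : MulAction.fixedBy (G ⧸ N) y) : G ⧸ N) ∈ MulAction.fixedBy (G ⧸ N) z :=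
          congrArg Subtype.val (u.2 ⟨z, Subgroup.mem_zpowers z⟩)
        have hv : ((v : MulAction.fixedBy (G ⧸ N) y) : G ⧸ N) ∈ MulAction.fixedBy (G ⧸ N) z :=
          congrArg Subtype.val (v.2 ⟨z, Subgroup.mem_zpowers z⟩)
        rw [ha0, Set.mem_singleton_iff] at hu hv
        exact Subtype.ext (Subtype.ext (hu.trans hv.symm))
      · obtain ⟨j, hj⟩ := Subgroup.mem_zpowers_iff.1 g.2
        show (g : G) • a0 = a0
        rw [← hj]
        exact MulAction.mem_fixedBy.1 (MulAction.fixedBy_subset_fixedBy_zpow (G ⧸ N) z j (ha0 ▸ Set.mem_singleton a0))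
    rw [h1, Nat.ModEq, ← hfy] at hm
    omega
  have hfy36 : fy ≤ 36 := by rw [← hX]; exact Nat.card_le_card_of_injective _ Subtype.val_injective
  have hfy8 : 8 ≤ fy := by omega
  -- conjugates of y in N lie in C
  have horb : Nat.card (MulAction.orbitRel.Quotient (P : Subgroup G) (G ⧸ N)) ≤ 6 := by
    haveI : Fintype (P : Subgroup G) := Fintype.ofFinite _
    haveI : Fintype (G ⧸ N) := Fintype.ofFinite _
    have hB := MulAction.sum_card_fixedBy_eq_card_orbits_mul_card_group (P : Subgroup G) (G ⧸ N)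
    have hterm : ∀ u : (P : Subgroup G), u ≠ 1 → Fintype.card (MulAction.fixedBy (G ⧸ N) u) = 1 := fun u hu => by
      rw [← Nat.card_eq_fintype_card]
      refine hfix1 (u : G) ?_
      have h7 : orderOf u ∣ 7 := (orderOf_dvd_natCard u).trans (dvd_of_eq hP)
      rw [Subgroup.orderOf_coe]
      exact ((Nat.dvd_prime (by norm_num)).1 h7).resolve_left (fun e => hu (orderOf_eq_one_iff.1 e))
    rw [← Finset.add_sum_erase _ _ (Finset.mem_univ (1 : (P : Subgroup G))),
      Finset.sum_congr rfl (fun u hu => hterm u (Finset.ne_of_mem_erase hu)), Finset.sum_const, smul_eq_mul, mul_one,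
      Finset.card_erase_of_mem (Finset.mem_univ _), Finset.card_univ] at hB
    have h1 : Fintype.card (MulAction.fixedBy (G ⧸ N) (1 : (P : Subgroup G))) ≤ 36 := by
      rw [← Nat.card_eq_fintype_card, ← hX]
      exact Nat.card_le_card_of_injective _ Subtype.val_injective
    rw [Nat.card_eq_fintype_card]
    have hP7 : Fintype.card (P : Subgroup G) = 7 := by rw [← Nat.card_eq_fintype_card]; exact hP
    rw [hP7] at hB
    unfold MulAction.orbitRel.Quotient
    omega
  set m := Nat.card {g : G // IsConj y g ∧ g ∈ N} with hm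
  set cl := Nat.card {g : G // IsConj y g} with hcl
  have hm3 : m ≤ 3 := by
    have hinC : ∀ g : G, IsConj y g → g ∈ N → g ∈ C ∧ g * g = 1 ∧ g ≠ 1 := by
      intro g hg hgN
      obtain ⟨c, hc⟩ := isConj_iff.1 hg
      have hg2 : g * g = 1 := by
        have h2 : y * y = 1 := by rw [← pow_two, ← hy, pow_orderOf_eq_one]
        rw [← hc]
        calc c * y * c⁻¹ * (c * y * c⁻¹) = c * (y * y) * c⁻¹ := by group
          _ = 1 := by rw [h2]; group
      refine ⟨by_contra fun hgC => ?_, hg2, fun e => ?_⟩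
      · have hle := (hfix2 g hgN hgC).trans horb
        have heq : fy = Nat.card (MulAction.fixedBy (G ⧸ N) g) := by
          refine Nat.card_congr (((MulAction.toPerm c : Equiv.Perm (G ⧸ N))).subtypeEquiv fun a => ?_)
          show y • a = a ↔ g • (c • a) = c • a
          rw [← hc, smul_smul, inv_mul_cancel_right, ← smul_smul, (MulAction.injective c).eq_iff]
        omega
      · rw [e] at hc
        have : y = 1 := by simpa using hc
        rw [this, orderOf_one] at hy
        omega
    have hquot : Nat.card (C ⧸ (P : Subgroup G).subgroupOf C) = 4 := by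
      have := Subgroup.card_eq_card_quotient_mul_card_subgroup ((P : Subgroup G).subgroupOf C)
      rw [Nat.card_congr (Subgroup.subgroupOfEquivOfLe hCP).toEquiv, hP, hC28] at this
      omega
    let ψ : Option {g : G // IsConj y g ∧ g ∈ N} → C ⧸ (P : Subgroup G).subgroupOf C := fun o =>
      o.elim ((1 : C) : C ⧸ (P : Subgroup G).subgroupOf C) fun g => ((⟨g.1, (hinC g.1 g.2.1 g.2.2).1⟩ : C) : C ⧸ _)
    have key : ∀ u v : C, (u : G) * u = 1 → (v : G) * v = 1 →
        (u : C ⧸ (P : Subgroup G).subgroupOf C) = v → u = v := by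
      intro u v hu hv e
      rw [QuotientGroup.eq, Subgroup.mem_subgroupOf, Subgroup.coe_mul, Subgroup.coe_inv] at e
      set p0 : G := (u : G)⁻¹ * v with hp0
      have hcm : (u : G) * p0 = p0 * u := ((Subgroup.mem_centralizer_iff.1 u.2) p0 e).symm
      have hc' : Commute (u : G) v := by
        have h3 := hcm
        rw [hp0, mul_inv_cancel_left] at h3
        show (u : G) * v = v * u
        conv_lhs => rw [h3]
        group
      have h2 : p0 * p0 = 1 := by
        rw [hp0, ← pow_two, hc'.inv_left.mul_pow, inv_pow, pow_two, pow_two, hu, hv, inv_one, one_mul]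
      have h1 : p0 = 1 := by
        have d2 : orderOf p0 ∣ 2 := orderOf_dvd_of_pow_eq_one (by rw [pow_two]; exact h2)
        have d7 : orderOf p0 ∣ 7 := hP ▸ Subgroup.orderOf_dvd_natCard _ e
        exact orderOf_eq_one_iff.1 (Nat.dvd_one.1 (Nat.dvd_gcd d2 d7))
      exact Subtype.ext (inv_mul_eq_one.1 h1)
    have hψ : Function.Injective ψ := by
      rintro (_ | g) (_ | g') e
      · rfl
      · have := key 1 _ (by simp) (hinC g'.1 g'.2.1 g'.2.2).2.1 e
        exact absurd (congrArg Subtype.val this).symm (hinC g'.1 g'.2.1 g'.2.2).2.2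
      · have := key _ 1 (hinC g.1 g.2.1 g.2.2).2.1 (by simp) e
        exact absurd (congrArg Subtype.val this) (hinC g.1 g.2.1 g.2.2).2.2
      · have := key _ _ (hinC g.1 g.2.1 g.2.2).2.1 (hinC g'.1 g'.2.1 g'.2.2).2.1 e
        exact congrArg some (Subtype.ext (congrArg (fun x : C => (x : G)) this))
    have := Nat.card_le_card_of_injective ψ hψ
    rw [Finite.card_option, hquot] at this
    omega
  -- the centralizer of y
  set D := Subgroup.centralizer ({y} : Set G) with hD
  have hclidx : cl = D.index := by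
    have h2 := MulAction.index_stabilizer (ConjAct G) (x := y)
    rw [← Subgroup.index_comap_of_surjective (f := (ConjAct.toConjAct : G ≃* ConjAct G).toMonoidHom) _
      (ConjAct.toConjAct (G := G)).surjective] at h2
    have e : D.index = _ := (congrArg Subgroup.index (Subgroup.centralizer_eq_comap_stabilizer y)).trans h2
    rw [hcl, e, ← Nat.card_coe_set_eq]
    exact Nat.card_congr (Equiv.setCongr (Set.ext fun g => by
      rw [ConjAct.mem_orbit_conjAct]; exact ⟨IsConj.symm, IsConj.symm⟩))
  have hDtop : D ≠ ⊤ := fun e => by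
    have : y ∈ Subgroup.center G := Subgroup.mem_center_iff.2 fun g =>
      ((Subgroup.mem_centralizer_iff.1 (e ▸ Subgroup.mem_top g : g ∈ D)) y rfl).symm
    rw [SimpleOrder.center_eq_bot hG, Subgroup.mem_bot] at this
    rw [this, orderOf_one] at hy
    omega
  have hDfac := SimpleOrder.two_mul_dvd_factorial hG D hDtop
  rw [h] at hDfac
  have hD8 : 8 ≤ D.index := by
    by_contra hlt
    have h7 : 2 * 2016 ∣ (7 : ℕ).factorial := hDfac.trans (Nat.factorial_dvd_factorial (by omega))
    norm_num [Nat.factorial] at h7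
  rw [hclidx] at hcount
  have hm0 : D.index ∣ 2016 := h ▸ Subgroup.index_dvd_card D
  have hi9 : D.index ≤ 9 := by
    rcases (by omega : fy = 8 ∨ fy = 22 ∨ fy = 36) with e | e | e <;> rw [e] at hcount
    · have := Nat.mul_le_mul_left 36 hm3
      omega
    · have := Nat.mul_le_mul_left 36 hm3
      omega
    · have := Nat.mul_le_mul_left 36 hm3
      omega
  have := small D hDtop hi9
  omega

end Cfsg.Agent.S1017
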