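import Cfsg.Statements.S1026
import Cfsg.Agent.Lib.Chev.AllX
import Cfsg.Agent.Lib.Chev.BN

set_option autoImplicit false
open Cfsg

namespace Cfsg.Agent.S1026

/-- Every element of `U` has a unique expression `∏_{r ∈ Φ⁺} x_r(t_r)`, the product over the positive roots in increasing index order (the coefficient family `t`, supported on the positive roots, exists and is unique); and conversely every such ordered product is the matrix of an element of `U`. -/
theorem result {F : Type*} [Field F] (D : Cfsg.Lie.ChevalleyDatum) (hD : D ∈ [Cfsg.Lie.chevG2, Cfsg.Lie.chevB2, Cfsg.Lie.chevD4, Cfsg.Lie.chevF4, Cfsg.Lie.chevE6, Cfsg.Lie.chevE7, Cfsg.Lie.chevE8]) :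
    (∀ g : GL D.Idx F, g ∈ D.posUnipotent F →
      ∃! t : ℕ → F, (∀ r, ¬ D.IsPosRoot r → t r = 0) ∧
        (g : Matrix D.Idx D.Idx F) = D.wordMat F (D.posRoots.map fun r => (r, t r))) ∧
    (∀ t : ℕ → F, ∃ g : GL D.Idx F, g ∈ D.posUnipotent F ∧
      (g : Matrix D.Idx D.Idx F) = D.wordMat F (D.posRoots.map fun r => (r, t r))) := by
  obtain ⟨T, okx⟩ := Cfsg.Agent.Chev.exists_okx hD
  have hh := okx.two_half
  refine ⟨fun g hg => ?_, fun t => ⟨okx.toOK.wordG (D.posRoots.map fun r => (r, t r)), ?_, okx.toOK.coe_wordG _⟩⟩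
  · obtain ⟨t, ⟨ht, he⟩, hu⟩ := okx.exists_unique_K (Cfsg.Agent.Chev.Tabs.half D) (Cfsg.Agent.Chev.Tabs.half D)
      (by omega) le_rfl (g := g) (by rw [okx.K_half]; exact hg)
    refine ⟨t, ⟨fun r hr => ht r fun h => hr (okx.isPos_iff_half.mpr h), ?_⟩, ?_⟩
    · rw [he, okx.toOK.coe_wordG, okx.posRoots_eq]
    · rintro f ⟨hf, hfe⟩
      refine hu f ⟨fun r hr => hf r fun h => hr (okx.isPos_iff_half.mp h), Units.ext ?_⟩
      rw [okx.toOK.coe_wordG, hfe, okx.posRoots_eq]
  · refine list_prod_mem fun x hx => ?_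
    obtain ⟨p, hp, rfl⟩ := List.mem_map.mp hx
    obtain ⟨r, hr, rfl⟩ := List.mem_map.mp hp
    simp only [Cfsg.Lie.ChevalleyDatum.posRoots, List.mem_filter, decide_eq_true_eq] at hr
    exact okx.toOK.xG_mem_pos hr.2 _

end Cfsg.Agent.S1026
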