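import Cfsg.Statements.S1035
import Cfsg.Agent.Lib.Chev.CardG2
import Cfsg.Agent.Lib.Chev.CardF4
import Cfsg.Agent.Lib.Chev.CardE8
import Cfsg.Agent.Lib.Chev.CardE6
import Cfsg.Agent.Lib.Chev.CardE7
import Cfsg.Agent.Lib.Chev.CardB2
import Cfsg.Agent.Lib.Chev.CardD4

set_option autoImplicit false
open Cfsg

namespace Cfsg.Agent.S1035

/-- `d · |H| = (q - 1)^rank` over a field with `q` elements, with `d = 1` (G₂, F₄, E₈), `gcd(3, q-1)` (E₆), `gcd(2, q-1)` (E₇, B₂), `gcd(2, q-1)²` (D₄). -/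
theorem result {F : Type*} [Field F] [Fintype F] {q : ℕ} (hq : Fintype.card F = q)
    (p : Cfsg.Lie.ChevalleyDatum × ℕ)
    (hp : p ∈ [(Cfsg.Lie.chevG2, 1), (Cfsg.Lie.chevF4, 1), (Cfsg.Lie.chevE8, 1), (Cfsg.Lie.chevE6, Nat.gcd 3 (q - 1)),
      (Cfsg.Lie.chevE7, Nat.gcd 2 (q - 1)), (Cfsg.Lie.chevB2, Nat.gcd 2 (q - 1)), (Cfsg.Lie.chevD4, Nat.gcd 2 (q - 1) ^ 2)]) :
    p.2 * Nat.card (p.1.diagonalSubgroup F) = (q - 1) ^ p.1.rank := by
  simp only [List.mem_cons, List.not_mem_nil, or_false] at hp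
  rcases hp with rfl | rfl | rfl | rfl | rfl | rfl | rfl
  · have h := Cfsg.Agent.Chev.G2.card_torus F
    rw [hq] at h
    show _ = (q - 1) ^ 2
    simpa [Cfsg.Agent.Chev.G2.torE, Fin.prod_univ_succ, mul_assoc, sq] using h
  · have h := Cfsg.Agent.Chev.F4.card_torus F
    rw [hq] at h
    show _ = (q - 1) ^ 4
    simpa [Cfsg.Agent.Chev.F4.torE, Fin.prod_univ_succ, mul_assoc, sq] using h
  · have h := Cfsg.Agent.Chev.E8.card_torus F
    rw [hq] at h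
    show _ = (q - 1) ^ 8
    simpa [Cfsg.Agent.Chev.E8.torE, Fin.prod_univ_succ, mul_assoc, sq] using h
  · have h := Cfsg.Agent.Chev.E6.card_torus F
    rw [hq] at h
    show _ = (q - 1) ^ 6
    simpa [Cfsg.Agent.Chev.E6.torE, Fin.prod_univ_succ, mul_assoc, sq] using h
  · have h := Cfsg.Agent.Chev.E7.card_torus F
    rw [hq] at h
    show _ = (q - 1) ^ 7
    simpa [Cfsg.Agent.Chev.E7.torE, Fin.prod_univ_succ, mul_assoc, sq] using h
  · have h := Cfsg.Agent.Chev.B2.card_torus F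
    rw [hq] at h
    show _ = (q - 1) ^ 2
    simpa [Cfsg.Agent.Chev.B2.torE, Fin.prod_univ_succ, mul_assoc, sq] using h
  · have h := Cfsg.Agent.Chev.D4.card_torus F
    rw [hq] at h
    show _ = (q - 1) ^ 4
    simpa [Cfsg.Agent.Chev.D4.torE, Fin.prod_univ_succ, mul_assoc, sq] using h

end Cfsg.Agent.S1035
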