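import Cfsg.Statements.S1039
import Cfsg.Agent.Lib.Chev.WeylData
-- import your own Cfsg.Agent.* helpers here

set_option autoImplicit false
open Cfsg

namespace Cfsg.Agent.S1039

/-- `N/H ≅ W`: there is a surjective homomorphism from `N` onto the Coxeter group of the type (Mathlib's Coxeter matrix G₂, B₂, F₄, E₆, E₇, E₈, nodes numbered as the fundamental roots) with kernel `H`, mapping each `n_{p_i}` to the `i`-th simple reflection. -/
theorem result {F : Type*} [Field F]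
    (p : Cfsg.Lie.ChevalleyDatum × (Σ n : ℕ, CoxeterMatrix (Fin n)))
    (hp : p ∈ [(Cfsg.Lie.chevG2, ⟨2, CoxeterMatrix.G₂⟩), (Cfsg.Lie.chevB2, ⟨2, CoxeterMatrix.B 2⟩), (Cfsg.Lie.chevD4, ⟨4, Cfsg.Lie.coxeterD4⟩), (Cfsg.Lie.chevF4, ⟨4, CoxeterMatrix.F₄⟩),
      (Cfsg.Lie.chevE6, ⟨6, CoxeterMatrix.E₆⟩), (Cfsg.Lie.chevE7, ⟨7, CoxeterMatrix.E₇⟩), (Cfsg.Lie.chevE8, ⟨8, CoxeterMatrix.E₈⟩)]) :
    ∃ φ : ↥(p.1.monomialSubgroup F) →* p.2.2.Group, Function.Surjective φ ∧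
      φ.ker = (p.1.diagonalSubgroup F).subgroupOf (p.1.monomialSubgroup F) ∧
      ∀ (i : Fin p.2.1) (g : ↥(p.1.monomialSubgroup F)),
        ((g : GL p.1.Idx F) : Matrix p.1.Idx p.1.Idx F) = p.1.nMat F (p.1.simple i) 1 → φ g = p.2.2.simple i := by
  suffices h : ∀ (D : Lie.ChevalleyDatum) (T : Chev.Tabs) (M : CoxeterMatrix (Fin D.rank)), Chev.OKX D T →
      Chev.CoxOK D T M → ∃ φ : ↥(D.monomialSubgroup F) →* M.Group, Function.Surjective φ ∧
        φ.ker = (D.diagonalSubgroup F).subgroupOf (D.monomialSubgroup F) ∧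
        ∀ (i : Fin D.rank) (g : ↥(D.monomialSubgroup F)),
          ((g : GL D.Idx F) : Matrix D.Idx D.Idx F) = D.nMat F (D.simple i) 1 → φ g = M.simple i by
    simp only [List.mem_cons, List.not_mem_nil, or_false] at hp
    rcases hp with rfl | rfl | rfl | rfl | rfl | rfl | rfl
    · exact h _ _ _ Chev.G2.okx Chev.G2.coxOK
    · exact h _ _ _ Chev.B2.okx Chev.B2.coxOK
    · exact h _ _ _ Chev.D4.okx Chev.D4.coxOK
    · exact h _ _ _ Chev.F4.okx Chev.F4.coxOK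
    · exact h _ _ _ Chev.E6.okx Chev.E6.coxOK
    · exact h _ _ _ Chev.E7.okx Chev.E7.coxOK
    · exact h _ _ _ Chev.E8.okx Chev.E8.coxOK
  intro D T M ok hM
  obtain ⟨χ, hs, hk, hg, -⟩ := ok.exists_weyl_aux F hM
  refine ⟨χ, hs, hk, fun i g e => ?_⟩
  rw [hg [i] g]
  · simp
  refine Units.ext (e.trans ?_)
  rw [List.map_cons, List.map_nil, ok.toOK.gW_cons, show ok.toOK.gW F [] = 1 from rfl, mul_one]
  exact (ok.toOK.coe_nG_simple i.isLt 1).symm

end Cfsg.Agent.S1039
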