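import Cfsg.Statements.S1044
import Cfsg.Agent.Lib.Chev.AllX
import Cfsg.Agent.Lib.Chev.BN
import Cfsg.Agent.S0321

set_option autoImplicit false
open Cfsg

namespace Cfsg.Agent.S1044

/-- For a fundamental root `p` the set `B ∪ B n_p B` is (the carrier of) a subgroup of the general linear group. -/
theorem result {F : Type*} [Field F] (D : Cfsg.Lie.ChevalleyDatum) (hD : D ∈ [Cfsg.Lie.chevG2, Cfsg.Lie.chevB2, Cfsg.Lie.chevD4, Cfsg.Lie.chevF4, Cfsg.Lie.chevE6, Cfsg.Lie.chevE7, Cfsg.Lie.chevE8]) (i : ℕ) (hi : i < D.rank) (n : GL D.Idx F)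
    (hn : (n : Matrix D.Idx D.Idx F) = D.nMat F (D.simple i) 1) :
    ∃ P : Subgroup (GL D.Idx F), (P : Set (GL D.Idx F)) =
      (D.borelSubgroup F : Set (GL D.Idx F)) ∪ DoubleCoset.doubleCoset n (D.borelSubgroup F : Set (GL D.Idx F)) (D.borelSubgroup F) := by
  obtain ⟨T, okx⟩ := Cfsg.Agent.Chev.exists_okx hD
  set P := okx.bnPair (F := F)
  have hnG : n ∈ D.group F := by
    rw [show n = okx.toOK.nG (T.smp i) 1 from Units.ext (hn.trans (okx.toOK.coe_nG_simple hi 1).symm)]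
    exact okx.toOK.wordG_mem _
  have hS : (⟨n, hnG⟩ : ↥(D.group F)) ∈ P.S := ⟨i, hi, hn⟩
  have hN := P.subset hS
  have hB := Cfsg.Agent.BN.not_mem_B hS
  obtain ⟨H, hH⟩ := (Cfsg.Agent.S0321.result P hN hB).mpr ⟨_, hS, by rw [inv_mul_cancel]; exact one_mem _⟩
  refine ⟨H.map (D.group F).subtype, Set.ext fun x => ?_⟩
  rw [Subgroup.coe_map, Set.mem_image]
  constructor
  · rintro ⟨y, hy, rfl⟩
    rw [hH] at hy
    rcases hy with hy | hy
    · exact Or.inl hy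
    · obtain ⟨a, ha, b, hb, rfl⟩ := DoubleCoset.mem_doubleCoset.mp hy
      exact Or.inr (DoubleCoset.mem_doubleCoset.mpr ⟨_, ha, _, hb, rfl⟩)
  · intro hx
    rcases hx with hx | hx
    · exact ⟨⟨x, okx.toOK.borel_le_group hx⟩, by rw [hH]; exact Or.inl hx, rfl⟩
    · obtain ⟨a, ha, b, hb, rfl⟩ := DoubleCoset.mem_doubleCoset.mp hx
      refine ⟨⟨a, okx.toOK.borel_le_group ha⟩ * ⟨n, hnG⟩ * ⟨b, okx.toOK.borel_le_group hb⟩, ?_, rfl⟩
      rw [hH]
      exact Or.inr (DoubleCoset.mem_doubleCoset.mpr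
        ⟨⟨a, okx.toOK.borel_le_group ha⟩, ha, ⟨b, okx.toOK.borel_le_group hb⟩, hb, rfl⟩)

end Cfsg.Agent.S1044
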