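import Cfsg.Statements.S1066
import Cfsg.Agent.Lib.Chev.TwistLev
import Cfsg.Agent.Lib.Chev.TwistTorus

set_option autoImplicit false
open Cfsg
open Cfsg.Agent.Chev

namespace Cfsg.Agent.S1066

/-- `gcd(3, q+1) · |²E₆(q)| = q³⁶ (q² - 1)(q⁵ + 1)(q⁶ - 1)(q⁸ - 1)(q⁹ + 1)(q¹² - 1)`, the group being realised inside E₆ over the field with `q²` elements. -/
theorem result {K : Type*} [Field K] [Fintype K] {q : ℕ} (hq : IsPrimePow q) (hK : Fintype.card K = q ^ 2) :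
    Nat.gcd 3 (q + 1) * Nat.card ↥(Cfsg.Lie.twistedE6 K q) =
      q ^ 36 * (q ^ 2 - 1) * (q ^ 5 + 1) * (q ^ 6 - 1) * (q ^ 8 - 1) * (q ^ 9 + 1) * (q ^ 12 - 1) := by
  obtain ⟨S, hg, hG, hfr, hc, hF⟩ := Cfsg.Agent.Chev.E6.exists_tw K hq hK
  have h0 := Cfsg.Agent.Chev.E6.twLev0_ok
  have h1 := Cfsg.Agent.Chev.E6.twLev1_ok
  have h2 := Cfsg.Agent.Chev.E6.twLev2_ok
  have h3 := Cfsg.Agent.Chev.E6.twLev3_ok
  rw [← hg] at h0 h1 h2 h3
  obtain ⟨t0, s0⟩ := S.ttrans_step h0 S.ttrans_nil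
  obtain ⟨t1, s1⟩ := S.ttrans_step h1 t0
  obtain ⟨t2, s2⟩ := S.ttrans_step h2 t1
  obtain ⟨t3, s3⟩ := S.ttrans_step h3 t2
  have hfull : ∀ i, S.IsR i → i ∈ [1, 3, 2, 0] := by
    rintro i ⟨hi, hr⟩
    have h : allR Cfsg.Lie.chevE6.rank (fun i => orR (notR (Cfsg.Agent.Chev.E6.g.repS i)) (anyL (Nat.beq i) [1, 3, 2, 0])) = true := by
      decide +kernel
    rw [hg] at hr
    simp only [allR_iff, orR_iff, notR_iff, anyL_iff, Nat.beq_eq] at h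
    have h2 := h i hi
    simp only [hr, Bool.true_eq_false, false_or] at h2
    obtain ⟨x, hx, rfl⟩ := h2
    exact hx
  rw [← hG, S.card_G1 hc hF t3 (S.tlevel_props h3).1 hfull, s3 q, s2 q, s1 q, s0 q,
    List.map_cons, List.map_nil, List.sum_singleton,
    show S.okx.negCount (S.wd []) = 0 from S.okx.negCount_nil,
    show Cfsg.Lie.chevE6.nroots - Cfsg.Lie.chevE6.nroots / 2 = 36 from rfl]
  simp only [Cfsg.Agent.Chev.E6.twLev0, Cfsg.Agent.Chev.E6.twLev1, Cfsg.Agent.Chev.E6.twLev2,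
    Cfsg.Agent.Chev.E6.twLev3, List.map_cons, List.map_nil, List.sum_cons, List.sum_nil, pow_zero, pow_one]
  rw [mul_left_comm (Nat.gcd 3 (q + 1)), mul_left_comm (Nat.gcd 3 (q + 1)),
    Cfsg.Agent.Chev.E6.card_H0 S hg hfr hc hK]
  have hq1 : 1 ≤ q := le_of_lt hq.one_lt
  zify [hq1, Nat.one_le_pow 2 q hq1, Nat.one_le_pow 6 q hq1, Nat.one_le_pow 8 q hq1, Nat.one_le_pow 12 q hq1]
  ring

end Cfsg.Agent.S1066
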