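import Cfsg.Statements.S1067
import Cfsg.Agent.Lib.Chev.TwistLev
import Cfsg.Agent.Lib.Chev.TwistTorus

set_option autoImplicit false
open Cfsg
open Cfsg.Agent.Chev

namespace Cfsg.Agent.S1067

/-- `|³D₄(q)| = q¹² (q² - 1)(q⁶ - 1)(q⁸ + q⁴ + 1)`, the group being realised inside D₄ over the field with `q³` elements. -/
theorem result {K : Type*} [Field K] [Fintype K] {q : ℕ} (hq : IsPrimePow q) (hK : Fintype.card K = q ^ 3) :
    Nat.card ↥(Cfsg.Lie.twistedD4 K q) = q ^ 12 * (q ^ 2 - 1) * (q ^ 6 - 1) * (q ^ 8 + q ^ 4 + 1) := by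
  obtain ⟨S, hg, hG, -, hc, hF⟩ := Cfsg.Agent.Chev.D4.exists_tw K hq hK
  have h0 := Cfsg.Agent.Chev.D4.twLev0_ok
  have h1 := Cfsg.Agent.Chev.D4.twLev1_ok
  rw [← hg] at h0 h1
  obtain ⟨t0, s0⟩ := S.ttrans_step h0 S.ttrans_nil
  obtain ⟨t1, s1⟩ := S.ttrans_step h1 t0
  have hfull : ∀ i, S.IsR i → i ∈ [1, 0] := by
    rintro i ⟨hi, hr⟩
    have h : allR Cfsg.Lie.chevD4.rank (fun i => orR (notR (Cfsg.Agent.Chev.D4.g.repS i)) (anyL (Nat.beq i) [1, 0])) = true := by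
      decide +kernel
    rw [hg] at hr
    simp only [allR_iff, orR_iff, notR_iff, anyL_iff, Nat.beq_eq, hr, Bool.true_eq_false, false_or] at h
    have h2 := h i hi
    simp only [hr, Bool.true_eq_false, false_or] at h2
    obtain ⟨x, hx, rfl⟩ := h2
    exact hx
  rw [← hG, S.card_G1 hc hF t1 (S.tlevel_props h1).1 hfull, s1 q, s0 q, Cfsg.Agent.Chev.D4.card_H0 S hg hc hK,
    List.map_cons, List.map_nil, List.sum_singleton,
    show S.okx.negCount (S.wd []) = 0 from S.okx.negCount_nil,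
    show Cfsg.Lie.chevD4.nroots - Cfsg.Lie.chevD4.nroots / 2 = 12 from rfl]
  simp only [Cfsg.Agent.Chev.D4.twLev0, Cfsg.Agent.Chev.D4.twLev1, List.map_cons, List.map_nil, List.sum_cons,
    List.sum_nil, pow_zero, pow_one]
  have hq1 : 1 ≤ q := le_of_lt hq.one_lt
  zify [hq1, Nat.one_le_pow 2 q hq1, Nat.one_le_pow 6 q hq1]
  ring

end Cfsg.Agent.S1067
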