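import Cfsg.Statements.S1078
import Cfsg.Agent.Lib.Chev.StTor
import Cfsg.Agent.Lib.Chev.CardG2
import Cfsg.Agent.Lib.Chev.CardF4
import Cfsg.Agent.Lib.Chev.CardE8

set_option autoImplicit false
open Cfsg

namespace Cfsg.Agent.S1078

open Cfsg.Lie Cfsg.Agent.Chev in
theorem aux {K : Type*} [Field K] {D : ChevalleyDatum} {T : Tabs} (ok : OKX D T)
    (hdn : Tabs.chkDn D T = true) (hwit : Tabs.chkWit D T = true) {M : List (List (ℕ × ℤ))}
    (hM : Tabs.chkCow D T M = true) {P P' Q Q' : Matrix (Fin D.rank) (Fin D.rank) ℤ} {e : Fin D.rank → ℕ}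
    (hP : P * P' = 1) (hQ : Q * Q' = 1) (h : P * OK.torMat D T * Q = Matrix.diagonal fun i => (e i : ℤ))
    (he : ∀ i, e i = 1) : Subgroup.center (D.SteinbergGroup K) = ⊥ := by
  have st := ok.presented_hyp (R := D.steinbergRels K) Set.subset_union_left hdn hwit ok.stHom
    fun r hr t => ok.stHom_gen hr t
  rw [← st.ker_eq_center hM]
  exact st.ker_eq_bot_of_unimodular (steinberg_hmul (Set.Subset.refl _) st) hP hQ h he

/-- For G₂, F₄, E₈ the presented group has trivial centre (the universal and adjoint groups coincide). -/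
theorem result {K : Type*} [Field K] (D : Cfsg.Lie.ChevalleyDatum) (hD : D ∈ [Cfsg.Lie.chevG2, Cfsg.Lie.chevF4, Cfsg.Lie.chevE8]) :
    Subgroup.center (D.SteinbergGroup K) = ⊥ := by
  simp only [List.mem_cons, List.not_mem_nil, or_false] at hD
  rcases hD with rfl | rfl | rfl
  · exact aux Chev.G2.okx Chev.G2.dn_ok Chev.G2.wit_ok Chev.G2.cow_ok (P := Chev.G2.torP) (P' := Chev.G2.torP') (Q := Chev.G2.torQ) (Q' := Chev.G2.torQ') (e := Chev.G2.torE)
      (show Chev.G2.torP * Chev.G2.torP' = 1 by decide +kernel) (show Chev.G2.torQ * Chev.G2.torQ' = 1 by decide +kernel)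
      (show Chev.G2.torP * Chev.G2.torA * Chev.G2.torQ = Matrix.diagonal fun i => (Chev.G2.torE i : ℤ) by decide +kernel)
      (show ∀ i, Chev.G2.torE i = 1 by decide)
  · exact aux Chev.F4.okx Chev.F4.dn_ok Chev.F4.wit_ok Chev.F4.cow_ok (P := Chev.F4.torP) (P' := Chev.F4.torP') (Q := Chev.F4.torQ) (Q' := Chev.F4.torQ') (e := Chev.F4.torE)
      (show Chev.F4.torP * Chev.F4.torP' = 1 by decide +kernel) (show Chev.F4.torQ * Chev.F4.torQ' = 1 by decide +kernel)
      (show Chev.F4.torP * Chev.F4.torA * Chev.F4.torQ = Matrix.diagonal fun i => (Chev.F4.torE i : ℤ) by decide +kernel)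
      (show ∀ i, Chev.F4.torE i = 1 by decide)
  · exact aux Chev.E8.okx Chev.E8.dn_ok Chev.E8.wit_ok Chev.E8.cow_ok (P := Chev.E8.torP) (P' := Chev.E8.torP') (Q := Chev.E8.torQ) (Q' := Chev.E8.torQ') (e := Chev.E8.torE)
      (show Chev.E8.torP * Chev.E8.torP' = 1 by decide +kernel) (show Chev.E8.torQ * Chev.E8.torQ' = 1 by decide +kernel)
      (show Chev.E8.torP * Chev.E8.torA * Chev.E8.torQ = Matrix.diagonal fun i => (Chev.E8.torE i : ℤ) by decide +kernel)
      (show ∀ i, Chev.E8.torE i = 1 by decide)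

end Cfsg.Agent.S1078
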