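import Cfsg.Statements.S1079
import Cfsg.Agent.Lib.Chev.StSubData
import Cfsg.Agent.Lib.Chev.CardE6
import Cfsg.Agent.Lib.Chev.CardE7
import Cfsg.Agent.Lib.Chev.CardE8

set_option autoImplicit false
open Cfsg

namespace Cfsg.Agent.S1079

/-- `|Z(Ḡ)| = gcd(3, q-1)` for E₆ and `gcd(2, q-1)` for E₇ over a field with `q` elements (the centre is dual to the weight lattice modulo the root lattice). -/
theorem result {K : Type*} [Field K] [Fintype K] {q : ℕ} (hq : Fintype.card K = q)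
    (p : Cfsg.Lie.ChevalleyDatum × ℕ) (hp : p ∈ [(Cfsg.Lie.chevE6, 3), (Cfsg.Lie.chevE7, 2)]) :
    Nat.card (Subgroup.center (p.1.SteinbergGroup K)) = Nat.gcd p.2 (q - 1) := by
  simp only [List.mem_cons, List.not_mem_nil, or_false] at hp
  subst hq
  rcases hp with rfl | rfl
  · rw [Chev.card_center_of_sub Chev.E6.okx Chev.E8.okx Chev.E6.toE8_ok Chev.E6.dn_ok Chev.E6.wit_ok Chev.E6.cow_ok
      (P := Chev.E6.torP) (P' := Chev.E6.torP') (Q := Chev.E6.torQ) (Q' := Chev.E6.torQ') (d := Chev.E6.torE)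
      (A := Chev.E8.torQ * Chev.E8.torP)
      (show Chev.E6.torP * Chev.E6.torP' = 1 by decide +kernel) (show Chev.E6.torQ * Chev.E6.torQ' = 1 by decide +kernel)
      (show Chev.E6.torP * Chev.E6.torA * Chev.E6.torQ = Matrix.diagonal fun i => (Chev.E6.torE i : ℤ) by decide +kernel)
      (show Chev.E8.torA * (Chev.E8.torQ * Chev.E8.torP) = 1 by decide +kernel)]
    show (∏ i : Fin 6, Nat.gcd (Chev.E6.torE i) (Fintype.card K - 1)) = _
    simp [Fin.prod_univ_six, Chev.E6.torE]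
  · rw [Chev.card_center_of_sub Chev.E7.okx Chev.E8.okx Chev.E7.toE8_ok Chev.E7.dn_ok Chev.E7.wit_ok Chev.E7.cow_ok
      (P := Chev.E7.torP) (P' := Chev.E7.torP') (Q := Chev.E7.torQ) (Q' := Chev.E7.torQ') (d := Chev.E7.torE)
      (A := Chev.E8.torQ * Chev.E8.torP)
      (show Chev.E7.torP * Chev.E7.torP' = 1 by decide +kernel) (show Chev.E7.torQ * Chev.E7.torQ' = 1 by decide +kernel)
      (show Chev.E7.torP * Chev.E7.torA * Chev.E7.torQ = Matrix.diagonal fun i => (Chev.E7.torE i : ℤ) by decide +kernel)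
      (show Chev.E8.torA * (Chev.E8.torQ * Chev.E8.torP) = 1 by decide +kernel)]
    show (∏ i : Fin 7, Nat.gcd (Chev.E7.torE i) (Fintype.card K - 1)) = _
    simp [Fin.prod_univ_seven, Chev.E7.torE]

end Cfsg.Agent.S1079
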