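import Cfsg.Statements.S1080
import Cfsg.Agent.Lib.Chev.Gens
import Cfsg.Agent.Lib.Chev.AllX

set_option autoImplicit false
open Cfsg

namespace Cfsg.Agent.S1080

/-- Field automorphisms: for every field automorphism `f` there is a group automorphism sending each `x_r(t)` to `x_r(f t)`. -/
theorem result {F : Type*} [Field F] (D : Cfsg.Lie.ChevalleyDatum) (hD : D ∈ [Cfsg.Lie.chevG2, Cfsg.Lie.chevB2, Cfsg.Lie.chevD4, Cfsg.Lie.chevF4, Cfsg.Lie.chevE6, Cfsg.Lie.chevE7, Cfsg.Lie.chevE8]) (f : F ≃+* F) :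
    ∃ α : ↥(D.group F) ≃* ↥(D.group F), ∀ (g : ↥(D.group F)) (r : ℕ) (t : F), r < D.nroots →
      ((g : GL D.Idx F) : Matrix D.Idx D.Idx F) = D.x F r t → ((α g : GL D.Idx F) : Matrix D.Idx D.Idx F) = D.x F r (f t) := by
  obtain ⟨T, ok⟩ := Cfsg.Agent.Chev.exists_okx hD
  refine ⟨{ toFun := fun x => ⟨_, ok.toOK.fieldMap_mem f x.2⟩
            invFun := fun x => ⟨_, ok.toOK.fieldMap_mem f.symm x.2⟩
            left_inv := fun x => Subtype.ext (Cfsg.Agent.Chev.fieldMap_symm D f x)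
            right_inv := fun x => Subtype.ext (Cfsg.Agent.Chev.fieldMap_symm' D f x)
            map_mul' := fun x y => Subtype.ext (map_mul _ _ _) }, fun g r t _ hg => ?_⟩
  show ((Cfsg.Agent.Chev.fieldMap D f (g : GL D.Idx F) : GL D.Idx F) : Matrix D.Idx D.Idx F) = _
  rw [ok.toOK.eq_xG hg, ok.toOK.fieldMap_xG]
  rfl

end Cfsg.Agent.S1080
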