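import Cfsg.Statements.S1081
import Cfsg.Agent.Lib.Chev.GraphD4
import Cfsg.Agent.Lib.Chev.GraphD4b
import Cfsg.Agent.Lib.Chev.GraphE6

set_option autoImplicit false
open Cfsg

namespace Cfsg.Agent.S1081

open Cfsg.Agent.Chev in
theorem of_gtab {F : Type*} [Field F] {D : Cfsg.Lie.ChevalleyDatum} {T : Tabs} {g : GTab} (ok : OK D T)
    (hg : GOK D T g) (L : List ℕ) (hL : ∀ i < D.rank, g.psi i = L.getD i 0) :
    ∃ α : ↥(D.group F) ≃* ↥(D.group F), ∀ (g : ↥(D.group F)) (i : ℕ) (t : F), i < D.rank →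
      (((g : GL D.Idx F) : Matrix D.Idx D.Idx F) = D.x F (D.simple i) t →
        ((α g : GL D.Idx F) : Matrix D.Idx D.Idx F) = D.x F (D.simple (L.getD i 0)) t) ∧
      (((g : GL D.Idx F) : Matrix D.Idx D.Idx F) = D.x F (D.neg (D.simple i)) t →
        ((α g : GL D.Idx F) : Matrix D.Idx D.Idx F) = D.x F (D.neg (D.simple (L.getD i 0))) t) := by
  obtain ⟨α, hα⟩ := hg.exists_graphAut ok (F := F)
  refine ⟨α, fun x i t hi => ?_⟩
  obtain ⟨h1, h2, h3, -⟩ := hg.simple_facts hi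
  have hp := ok.smp_lt hi
  rw [← hL i hi, ok.simple_eq hi, ok.simple_eq h1, ok.neg_eq hp, ok.neg_eq (ok.smp_lt h1)]
  refine ⟨fun hx => ?_, fun hx => ?_⟩
  · rw [hα x _ t hp hx, h2, h3, Int.cast_one, one_mul]
  · rw [hα x _ t (ok.neg_lt hp) hx, (hg.root_facts hp).2.2.1, (hg.root_facts hp).2.2.2.1, h2, h3, Int.cast_one,
      one_mul]

/-- Graph automorphisms: for E₆ with ρ = (p₁ p₆)(p₃ p₅) and for D₄ with ρ the 3-cycle on the outer nodes there is a group automorphism sending `x_p(t) ↦ x_{ρ(p)}(t)` and `x_{-p}(t) ↦ x_{-ρ(p)}(t)` for every fundamental root `p`. -/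
theorem result {F : Type*} [Field F] (p : Cfsg.Lie.ChevalleyDatum × List ℕ)
    (hp : p ∈ [(Cfsg.Lie.chevE6, [5, 1, 4, 3, 2, 0]), (Cfsg.Lie.chevD4, [2, 1, 3, 0]), (Cfsg.Lie.chevD4, [3, 1, 0, 2])]) :
    ∃ α : ↥(p.1.group F) ≃* ↥(p.1.group F), ∀ (g : ↥(p.1.group F)) (i : ℕ) (t : F), i < p.1.rank →
      (((g : GL p.1.Idx F) : Matrix p.1.Idx p.1.Idx F) = p.1.x F (p.1.simple i) t →
        ((α g : GL p.1.Idx F) : Matrix p.1.Idx p.1.Idx F) = p.1.x F (p.1.simple (p.2.getD i 0)) t) ∧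
      (((g : GL p.1.Idx F) : Matrix p.1.Idx p.1.Idx F) = p.1.x F (p.1.neg (p.1.simple i)) t →
        ((α g : GL p.1.Idx F) : Matrix p.1.Idx p.1.Idx F) = p.1.x F (p.1.neg (p.1.simple (p.2.getD i 0))) t) := by
  simp only [List.mem_cons, List.not_mem_nil, or_false] at hp
  rcases hp with rfl | rfl | rfl
  · exact of_gtab Cfsg.Agent.Chev.E6.ok Cfsg.Agent.Chev.E6.gok _ (fun i hi => by
      have hi : i < 6 := hi
      interval_cases i <;> rfl)
  · exact of_gtab Cfsg.Agent.Chev.D4.ok Cfsg.Agent.Chev.D4.gok _ (fun i hi => by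
      have hi : i < 4 := hi
      interval_cases i <;> rfl)
  · exact of_gtab Cfsg.Agent.Chev.D4.ok Cfsg.Agent.Chev.D4.g2ok _ (fun i hi => by
      have hi : i < 4 := hi
      interval_cases i <;> rfl)

end Cfsg.Agent.S1081
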