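import Cfsg.Statements.S1088
import Cfsg.Agent.Lib.Chev.TwistInst

set_option autoImplicit false
open Cfsg

namespace Cfsg.Agent.S1088

/-- |U¹| = |G¹ ∩ U| = q ^ 12 for ³D₄(q). -/
theorem result {K : Type*} [Field K] [Fintype K] {q : ℕ} (hq : IsPrimePow q) (hK : Fintype.card K = q ^ 3) :
    Nat.card ↥(Cfsg.Lie.chevD4.posUnipotent K ⊓ Cfsg.Lie.twistedD4 K q) = q ^ 12 := by
  classical
  obtain ⟨S, hg, hG, -, hc, hF⟩ := Cfsg.Agent.Chev.D4.exists_tw K hq hK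
  rw [← hG, S.adm_inf_eq S.adm_pos, S.card_adm hc hF S.adm_pos]
  congr 1
  have e : (Finset.range Cfsg.Lie.chevD4.nroots).filter (fun r => Cfsg.Lie.chevD4.IsPosRoot r) = Finset.Ico 12 24 := by
    ext r
    rw [Finset.mem_filter, Finset.mem_range, Finset.mem_Ico, S.okx.isPos_iff_half]
    show _ ∧ (12 ≤ r ∧ r < 24) ↔ _
    exact ⟨fun h => h.2, fun h => ⟨h.2, h⟩⟩
  convert congrArg Finset.card e
  simp

end Cfsg.Agent.S1088
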