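import Cfsg.Statements.S1094
import Cfsg.Agent.Lib.Chev.WeylData
import Cfsg.Agent.Lib.Chev.WeylGroup
-- import your own Cfsg.Agent.* helpers here

set_option autoImplicit false
open Cfsg

namespace Cfsg.Agent.S1094

/-- The Coxeter element `s₁ s₂ ⋯ s_l` of the Coxeter group of type B₂, G₂, D₄, F₄, E₆, E₇, E₈ has order `h = 2N/l` = 4, 6, 6, 12, 12, 18, 30. -/
theorem result (p : (Σ n : ℕ, CoxeterMatrix (Fin n)) × ℕ)
    (hp : p ∈ [(⟨2, CoxeterMatrix.B 2⟩, 4), (⟨2, CoxeterMatrix.G₂⟩, 6), (⟨4, Cfsg.Lie.coxeterD4⟩, 6), (⟨4, CoxeterMatrix.F₄⟩, 12),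
      (⟨6, CoxeterMatrix.E₆⟩, 12), (⟨7, CoxeterMatrix.E₇⟩, 18), (⟨8, CoxeterMatrix.E₈⟩, 30)]) :
    orderOf ((List.finRange p.1.1).map p.1.2.simple).prod = p.2 := by
  suffices h : ∀ (D : Lie.ChevalleyDatum) (T : Chev.Tabs) (M : CoxeterMatrix (Fin D.rank)) (k : ℕ), Chev.OKX D T →
      Chev.CoxOK D T M → 0 < k →
      Chev.Tabs.eqW D T ((List.replicate k ((List.finRange D.rank).map Fin.val)).flatten) [] = true →
      (∀ j : Fin k, j.val = 0 ∨
        Chev.Tabs.eqW D T ((List.replicate j.val ((List.finRange D.rank).map Fin.val)).flatten) [] = false) →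
      orderOf ((List.finRange D.rank).map M.simple).prod = k by
    simp only [List.mem_cons, List.not_mem_nil, or_false] at hp
    rcases hp with rfl | rfl | rfl | rfl | rfl | rfl | rfl
    · exact h _ _ _ 4 Chev.B2.okx Chev.B2.coxOK (by decide) (by decide +kernel) (by decide +kernel)
    · exact h _ _ _ 6 Chev.G2.okx Chev.G2.coxOK (by decide) (by decide +kernel) (by decide +kernel)
    · exact h _ _ _ 6 Chev.D4.okx Chev.D4.coxOK (by decide) (by decide +kernel) (by decide +kernel)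
    · exact h _ _ _ 12 Chev.F4.okx Chev.F4.coxOK (by decide) (by decide +kernel) (by decide +kernel)
    · exact h _ _ _ 12 Chev.E6.okx Chev.E6.coxOK (by decide) (by decide +kernel) (by decide +kernel)
    · exact h _ _ _ 18 Chev.E7.okx Chev.E7.coxOK (by decide) (by decide +kernel) (by decide +kernel)
    · exact h _ _ _ 30 Chev.E8.okx Chev.E8.coxOK (by decide) (by decide +kernel) (by decide +kernel)
  intro D T M k ok hM h0 h1 h2
  exact ok.orderOf_wprod hM h0 h1 h2

end Cfsg.Agent.S1094
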