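import Cfsg.Statements.S1095
import Cfsg.Agent.Lib.Chev.All
import Cfsg.Agent.Lib.Chev.Tri

set_option autoImplicit false
open Cfsg

namespace Cfsg.Agent.S1095

/-- `n_p` (p = p_{i+1} fundamental) is the signed monomial matrix `h_{p_j} ↦ h_{p_j} - A_{p_j,p} h_p`, `e_s ↦ η_s e_{w_p(s)}`, with `η_s = ±1`, `η_p = η_{-p} = -1`, `η_s η_{w_p(s)} = (-1)^{A_{p,s}}`, `η_s η_{-s} = 1`. -/
theorem result {F : Type*} [Field F] (D : Cfsg.Lie.ChevalleyDatum) (hD : D ∈ [Cfsg.Lie.chevG2, Cfsg.Lie.chevB2, Cfsg.Lie.chevD4, Cfsg.Lie.chevF4, Cfsg.Lie.chevE6, Cfsg.Lie.chevE7, Cfsg.Lie.chevE8]) (i : ℕ) (hi : i < D.rank) :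
    ∃ η : ℕ → ℤ, (∀ s < D.nroots, η s = 1 ∨ η s = -1) ∧ η (D.simple i) = -1 ∧ η (D.neg (D.simple i)) = -1 ∧
      (∀ s < D.nroots, η s * η (D.reflectRoot i s) = (-1) ^ (D.cartan i s).natAbs ∧ η s * η (D.neg s) = 1) ∧
      D.nMat F (D.simple i) 1 = Matrix.of (fun (row col : D.Idx) =>
        Sum.elim
          (fun j' : Fin D.rank => Sum.elim
            (fun j : Fin D.rank => (if j' = j then (1 : F) else 0) - (if (j' : ℕ) = i then ((D.cartan j (D.simple i) : ℤ) : F) else 0))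
            (fun _ => (0 : F)) col)
          (fun s' : Fin D.nroots => Sum.elim
            (fun _ => (0 : F))
            (fun s : Fin D.nroots => if (s' : ℕ) = D.reflectRoot i s then ((η s : ℤ) : F) else 0) col)
          row) := by
  obtain ⟨T, ok⟩ := Cfsg.Agent.Chev.exists_ok hD
  refine ⟨T.eta i, fun s hs => ok.eta_unit hi hs, ?_, ?_, fun s hs => ?_, ?_⟩
  · rw [ok.simple_eq hi]; exact (ok.smp_spec hi).2.2.2.1
  · rw [ok.simple_eq hi, ok.neg_eq (ok.smp_lt hi)]; exact (ok.smp_spec hi).2.2.2.2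
  · rw [ok.reflectRoot_eq hi hs, ok.cartan_eq hi hs, ok.neg_eq hs]; exact ⟨ok.eta_refl hi hs, ok.eta_neg hi hs⟩
  · ext row col
    rw [ok.rep_nMat_one hi 1 1 row col]
    rcases col with j | s
    · simp only [Cfsg.Agent.Chev.Tabs.MC, Cfsg.Agent.Chev.phi, Sum.elim_inl, Cfsg.Agent.Chev.nlt_iff.mpr j.isLt,
        Cfsg.Agent.Chev.valEn, Cfsg.Agent.Chev.En.ev, List.map_cons, List.map_nil, Matrix.of_apply]
      rcases row with j' | u
      · have hp : D.simple i < D.nroots := by rw [ok.simple_eq hi]; exact ok.smp_lt hi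
        rw [ok.simple_eq hi] at hp ⊢
        simp only [Sum.elim_inl, ok.cartan_eq j.isLt hp,
          show ∀ a : ℤ, Int.neg a = -a from fun _ => rfl]
        simp [Fin.ext_iff, eq_comm, sub_eq_add_neg, apply_ite (fun x : F => -x)]
      · have h1 : (j : ℕ) ≠ D.rank + (u : ℕ) := by omega
        have h2 : i ≠ D.rank + (u : ℕ) := by omega
        simp [h1, h2]
    · simp only [Cfsg.Agent.Chev.Tabs.MC, Cfsg.Agent.Chev.phi, Sum.elim_inr,
        Cfsg.Agent.Chev.nlt_false_iff.mpr (Nat.le_add_right D.rank (s : ℕ)), Cfsg.Agent.Chev.valEn_single,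
        Cfsg.Agent.Chev.En.ev, Nat.sub_eq, Nat.add_eq, Nat.add_sub_cancel_left, Matrix.of_apply]
      rcases row with j' | u
      · have h1 : D.rank + T.refl i s ≠ (j' : ℕ) := by omega
        simp [h1]
      · simp [ok.reflectRoot_eq hi s.isLt, eq_comm]

end Cfsg.Agent.S1095
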