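import Cfsg.Statements.S1097
import Cfsg.Agent.Lib.Chev.StPres

set_option autoImplicit false
open Cfsg

namespace Cfsg.Agent.S1097

/-- Any homomorphism from the presented group to the Chevalley group with `x̄_r(t) ↦ x_r(t)` has kernel contained in `H̄ = ⟨h̄_p(t) : p fundamental, t ≠ 0⟩`. -/
theorem result {K : Type*} [Field K] (D : Cfsg.Lie.ChevalleyDatum) (hD : D ∈ [Cfsg.Lie.chevG2, Cfsg.Lie.chevB2, Cfsg.Lie.chevD4, Cfsg.Lie.chevF4, Cfsg.Lie.chevE6, Cfsg.Lie.chevE7, Cfsg.Lie.chevE8]) (θ : D.SteinbergGroup K →* ↥(D.group K))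
    (hθ : ∀ (r : ℕ) (t : K), r < D.nroots → ((θ (D.stGen K r t) : GL D.Idx K) : Matrix D.Idx D.Idx K) = D.x K r t) :
    θ.ker ≤ Subgroup.closure {h | ∃ (i : ℕ) (t : K), i < D.rank ∧ t ≠ 0 ∧ h = PresentedGroup.mk (D.steinbergRels K) (D.stH (D.simple i) t)} := by
  obtain ⟨T, ok, ⟨hdn, hwit⟩, -⟩ := Cfsg.Agent.Chev.exists_stcow hD
  have st := ok.presented_hyp (R := D.steinbergRels K) Set.subset_union_left hdn hwit
    ((D.group K).subtype.comp θ) fun r hr t => Units.ext (hθ r t hr)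
  intro k hk
  have h := st.ker_le_Hb (show ((D.group K).subtype.comp θ) k = 1 by
    rw [MonoidHom.comp_apply, MonoidHom.mem_ker.mp hk, map_one])
  refine (Subgroup.closure_le _).mpr ?_ h
  rintro _ ⟨i, a, hi, ha, rfl⟩
  refine Subgroup.subset_closure ⟨i, a, hi, ha, ?_⟩
  have hp := ok.toOK.smp_lt hi
  simp [Cfsg.Agent.Chev.StHyp.hb, Cfsg.Agent.Chev.StHyp.nb, Cfsg.Lie.ChevalleyDatum.stH,
    Cfsg.Lie.ChevalleyDatum.stWord, Cfsg.Lie.ChevalleyDatum.hWord, Cfsg.Lie.ChevalleyDatum.nWord,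
    ok.toOK.simple_eq hi, ok.toOK.neg_eq hp, mul_assoc]

end Cfsg.Agent.S1097
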