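import Cfsg.Statements.S1098
import Cfsg.Agent.Lib.Chev.GraphExcData

set_option autoImplicit false
set_option maxRecDepth 20000
open Cfsg

namespace Cfsg.Agent.S1098

/-- Graph automorphisms in characteristic 2 (K perfect): for B₂ (a short, b long) `x_a(t) ↦ x_b(t²)`, `x_b(t) ↦ x_a(t)`, and for F₄ (p₁, p₂ short, p₃, p₄ long) `x_{p₁}(t) ↦ x_{p₄}(t²)`, `x_{p₂}(t) ↦ x_{p₃}(t²)`, `x_{p₃}(t) ↦ x_{p₂}(t)`, `x_{p₄}(t) ↦ x_{p₁}(t)`, likewise on the negatives, extend to an automorphism of the group. -/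
theorem result {K : Type*} [Field K] [CharP K 2] (hperf : ∀ x : K, ∃ y : K, y ^ 2 = x)
    (p : Cfsg.Lie.ChevalleyDatum × List (ℕ × ℕ))
    (hp : p ∈ [(Cfsg.Lie.chevB2, [(1, 2), (0, 1)]), (Cfsg.Lie.chevF4, [(3, 2), (2, 2), (1, 1), (0, 1)])]) :
    ∃ α : ↥(p.1.group K) ≃* ↥(p.1.group K), ∀ (g : ↥(p.1.group K)) (i : ℕ) (t : K), i < p.1.rank →
      (((g : GL p.1.Idx K) : Matrix p.1.Idx p.1.Idx K) = p.1.x K (p.1.simple i) t →
        ((α g : GL p.1.Idx K) : Matrix p.1.Idx p.1.Idx K) = p.1.x K (p.1.simple (p.2.getD i (0, 1)).1) (t ^ (p.2.getD i (0, 1)).2)) ∧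
      (((g : GL p.1.Idx K) : Matrix p.1.Idx p.1.Idx K) = p.1.x K (p.1.neg (p.1.simple i)) t →
        ((α g : GL p.1.Idx K) : Matrix p.1.Idx p.1.Idx K) = p.1.x K (p.1.neg (p.1.simple (p.2.getD i (0, 1)).1)) (t ^ (p.2.getD i (0, 1)).2)) := by
  haveI : Fact (Nat.Prime 2) := ⟨Nat.prime_two⟩
  have key : ∀ {D : Cfsg.Lie.ChevalleyDatum} {T : Chev.Tabs} (_ : Chev.OKX D T) (g : Chev.XTab)
      (l : List (ℕ × ℕ)) (α : ↥(D.group K) ≃* ↥(D.group K)),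
      (∀ (x : ↥(D.group K)) (r : ℕ) (t : K), r < D.nroots →
        ((x : GL D.Idx K) : Matrix D.Idx D.Idx K) = D.x K r t →
        ((α x : GL D.Idx K) : Matrix D.Idx D.Idx K) = D.x K (g.pi r) (t ^ g.e r)) →
      (∀ i : Fin D.rank, D.simple i < D.nroots ∧ D.neg (D.simple i) < D.nroots ∧
        g.pi (D.simple i) = D.simple (l.getD i (0, 1)).1 ∧
        g.pi (D.neg (D.simple i)) = D.neg (D.simple (l.getD i (0, 1)).1) ∧
        g.e (D.simple i) = (l.getD i (0, 1)).2 ∧ g.e (D.neg (D.simple i)) = (l.getD i (0, 1)).2) →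
      ∀ (x : ↥(D.group K)) (i : ℕ) (t : K), i < D.rank →
      (((x : GL D.Idx K) : Matrix D.Idx D.Idx K) = D.x K (D.simple i) t →
        ((α x : GL D.Idx K) : Matrix D.Idx D.Idx K) = D.x K (D.simple (l.getD i (0, 1)).1) (t ^ (l.getD i (0, 1)).2)) ∧
      (((x : GL D.Idx K) : Matrix D.Idx D.Idx K) = D.x K (D.neg (D.simple i)) t →
        ((α x : GL D.Idx K) : Matrix D.Idx D.Idx K) =
          D.x K (D.neg (D.simple (l.getD i (0, 1)).1)) (t ^ (l.getD i (0, 1)).2)) := by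
    intro D T _ g l α hα hl x i t hi
    obtain ⟨a1, a2, a3, a4, a5, a6⟩ := hl ⟨i, hi⟩
    simp only at a1 a2 a3 a4 a5 a6
    exact ⟨fun h => by rw [← a3, ← a5]; exact hα x _ t a1 h, fun h => by rw [← a4, ← a6]; exact hα x _ t a2 h⟩
  simp only [List.mem_cons, List.not_mem_nil, or_false] at hp
  rcases hp with rfl | rfl
  · obtain ⟨α, hα⟩ := Chev.B2.okx.exists_excAut 2 Chev.B2.xtab_ok Chev.B2.dn_ok Chev.B2.wit_ok Chev.B2.cow_ok hperf
    exact ⟨α, key Chev.B2.okx Chev.B2.xtab _ α hα (by decide +kernel)⟩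
  · obtain ⟨α, hα⟩ := Chev.F4.okx.exists_excAut 2 Chev.F4.xtab_ok Chev.F4.dn_ok Chev.F4.wit_ok Chev.F4.cow_ok hperf
    exact ⟨α, key Chev.F4.okx Chev.F4.xtab _ α hα (by decide +kernel)⟩

end Cfsg.Agent.S1098
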