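import Cfsg.Statements.S1099
import Cfsg.Agent.Lib.Chev.GraphExcData

set_option autoImplicit false
set_option maxRecDepth 20000
open Cfsg

namespace Cfsg.Agent.S1099

/-- Graph automorphism of G₂ in characteristic 3 (K perfect): `x_a(t) ↦ x_b(t³)`, `x_b(t) ↦ x_a(t)`, `x_{-a}(t) ↦ x_{-b}(t³)`, `x_{-b}(t) ↦ x_{-a}(t)` extend to an automorphism of the group. -/
theorem result {K : Type*} [Field K] [CharP K 3] (hperf : ∀ x : K, ∃ y : K, y ^ 3 = x) :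
    ∃ α : ↥(Cfsg.Lie.chevG2.group K) ≃* ↥(Cfsg.Lie.chevG2.group K), ∀ (g : ↥(Cfsg.Lie.chevG2.group K)) (t : K),
      (((g : GL Cfsg.Lie.chevG2.Idx K) : Matrix _ _ K) = Cfsg.Lie.chevG2.x K Cfsg.Lie.g2a t →
        ((α g : GL Cfsg.Lie.chevG2.Idx K) : Matrix _ _ K) = Cfsg.Lie.chevG2.x K Cfsg.Lie.g2b (t ^ 3)) ∧
      (((g : GL Cfsg.Lie.chevG2.Idx K) : Matrix _ _ K) = Cfsg.Lie.chevG2.x K Cfsg.Lie.g2b t →
        ((α g : GL Cfsg.Lie.chevG2.Idx K) : Matrix _ _ K) = Cfsg.Lie.chevG2.x K Cfsg.Lie.g2a t) ∧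
      (((g : GL Cfsg.Lie.chevG2.Idx K) : Matrix _ _ K) = Cfsg.Lie.chevG2.x K Cfsg.Lie.g2ma t →
        ((α g : GL Cfsg.Lie.chevG2.Idx K) : Matrix _ _ K) = Cfsg.Lie.chevG2.x K Cfsg.Lie.g2mb (t ^ 3)) ∧
      (((g : GL Cfsg.Lie.chevG2.Idx K) : Matrix _ _ K) = Cfsg.Lie.chevG2.x K Cfsg.Lie.g2mb t →
        ((α g : GL Cfsg.Lie.chevG2.Idx K) : Matrix _ _ K) = Cfsg.Lie.chevG2.x K Cfsg.Lie.g2ma t) := by
  haveI : Fact (Nat.Prime 3) := ⟨Nat.prime_three⟩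
  obtain ⟨α, hα⟩ := Chev.G2.okx.exists_excAut 3 Chev.G2.xtab_ok Chev.G2.dn_ok Chev.G2.wit_ok Chev.G2.cow_ok hperf
  have key : ∀ (r r' e : ℕ), r < Cfsg.Lie.chevG2.nroots → Chev.G2.xtab.pi r = r' → Chev.G2.xtab.e r = e →
      ∀ (g : ↥(Cfsg.Lie.chevG2.group K)) (t : K),
      ((g : GL Cfsg.Lie.chevG2.Idx K) : Matrix _ _ K) = Cfsg.Lie.chevG2.x K r t →
      ((α g : GL Cfsg.Lie.chevG2.Idx K) : Matrix _ _ K) = Cfsg.Lie.chevG2.x K r' (t ^ e) := by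
    intro r r' e hr h1 h2 g t h
    subst h1; subst h2
    exact hα g r t hr h
  refine ⟨α, fun g t => ⟨?_, ?_, ?_, ?_⟩⟩
  · exact key _ _ 3 (by decide +kernel) (by decide +kernel) (by decide +kernel) g t
  · intro h
    have h1 := key _ Cfsg.Lie.g2a 1 (by decide +kernel) (by decide +kernel) (by decide +kernel) g t h
    rwa [pow_one] at h1
  · exact key _ _ 3 (by decide +kernel) (by decide +kernel) (by decide +kernel) g t
  · intro h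
    have h1 := key _ Cfsg.Lie.g2ma 1 (by decide +kernel) (by decide +kernel) (by decide +kernel) g t h
    rwa [pow_one] at h1

end Cfsg.Agent.S1099
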