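import Cfsg.Statements.S1101
import Cfsg.Agent.Lib.SmallRee.BNPairData
-- import your own Cfsg.Agent.* helpers here

set_option autoImplicit false
open Cfsg

namespace Cfsg.Agent.S1101

/-- For ²G₂ over `K` with `|K| = 3^(2m+1)`, `θ = 3^m`: `U¹ = G¹ ∩ U` consists exactly of the elements `x_a(t^θ) x_b(t) x_{a+b}(t^{θ+1}+u^θ) x_{2a+b}(t^{2θ+1}+v^θ) x_{3a+b}(u) x_{3a+2b}(v)`, `t, u, v ∈ K`, and it has `|K|³` elements. -/
theorem result {K : Type*} [Field K] [Fintype K] {m : ℕ} (hK : Fintype.card K = 3 ^ (2 * m + 1)) :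
    (∀ g : GL Cfsg.Lie.chevG2.Idx K, g ∈ Cfsg.Lie.chevG2.posUnipotent K ⊓ Cfsg.Lie.twistedG2 K (3 ^ m) ↔
      ∃ t u v : K, (g : Matrix Cfsg.Lie.chevG2.Idx Cfsg.Lie.chevG2.Idx K) = Cfsg.Lie.chevG2.wordMat K (Cfsg.Lie.reeWordU (3 ^ m) t u v)) ∧
    Nat.card ↥(Cfsg.Lie.chevG2.posUnipotent K ⊓ Cfsg.Lie.twistedG2 K (3 ^ m)) = (3 ^ (2 * m + 1)) ^ 3 := by
  obtain ⟨hchar, S, hS⟩ := Cfsg.Agent.SmallRee.exists_setup hK
  rw [← S.Gr_eq hK hS]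
  refine ⟨fun g => ?_, ?_⟩
  · constructor
    · rintro ⟨h1, h2⟩
      obtain ⟨t, u, v, e⟩ := S.mem_U.mp (show (⟨g, h2⟩ : ↥S.Gr) ∈ S.UU from h1)
      refine ⟨t, u, v, ?_⟩
      have := congrArg (fun z : ↥S.Gr => Units.val (z : GL Cfsg.Lie.chevG2.Idx K)) e
      exact this.trans ((congrArg Units.val (S.coe_Rw hS true t u v)).trans
        (Cfsg.Agent.Chev.G2.okx.toOK.coe_wordG _))
    · rintro ⟨t, u, v, e⟩
      have h : g = (S.R t u v : GL Cfsg.Lie.chevG2.Idx K) :=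
        Units.ext (e.trans ((congrArg Units.val (S.coe_Rw hS true t u v)).trans
          (Cfsg.Agent.Chev.G2.okx.toOK.coe_wordG _)).symm)
      rw [h]
      exact ⟨S.R_mem_U t u v, (S.R t u v).2⟩
  · refine (Nat.card_congr (Cfsg.Agent.SmallRee.infEquiv _ _).toEquiv).trans ?_
    exact S.card_U.trans (by rw [hK])

end Cfsg.Agent.S1101
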