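import Cfsg.Statements.S1105
import Cfsg.Agent.Lib.Chev.TwistCert

set_option autoImplicit false
open Cfsg

namespace Cfsg.Agent.S1105

/-- The normal core of `B¹ = G¹ ∩ B` in ²E₆(q) is trivial. -/
theorem result {K : Type*} [Field K] [Fintype K] {q : ℕ} (hq : IsPrimePow q) (hK : Fintype.card K = q ^ 2) :
    ((Cfsg.Lie.chevE6.borelSubgroup K ⊓ Cfsg.Lie.twistedE6 K q).subgroupOf (Cfsg.Lie.twistedE6 K q)).normalCore = ⊥ := by
  obtain ⟨S, hg, hG, -, -, -⟩ := Cfsg.Agent.Chev.E6.exists_tw K hq hK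
  have h := Cfsg.Agent.Chev.E6.twSimple
  rw [← hg] at h
  simp only [Cfsg.Agent.Chev.GTab.chkSimple, Cfsg.Agent.Chev.andR_iff] at h
  rw [← hG]
  exact S.core_of_chk h.1

end Cfsg.Agent.S1105
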