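import Cfsg.Statements.S1107
import Cfsg.Agent.Lib.Chev.TwistWeyl

set_option autoImplicit false
open Cfsg

namespace Cfsg.Agent.S1107

/-- `N¹/H¹ ≅ W¹`: a surjective homomorphism from `N¹ = G¹ ∩ N` onto the Coxeter group of type G₂ (dihedral of order 12) with kernel `H¹`. -/
theorem result {K : Type*} [Field K] [Fintype K] {q : ℕ} (hq : IsPrimePow q) (hK : Fintype.card K = q ^ 3) :
    ∃ φ : ↥(Cfsg.Lie.chevD4.monomialSubgroup K ⊓ Cfsg.Lie.twistedD4 K q) →* (CoxeterMatrix.G₂).Group, Function.Surjective φ ∧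
      φ.ker = (Cfsg.Lie.chevD4.diagonalSubgroup K ⊓ Cfsg.Lie.twistedD4 K q).subgroupOf (Cfsg.Lie.chevD4.monomialSubgroup K ⊓ Cfsg.Lie.twistedD4 K q) := by
  obtain ⟨S, hg, hG, -, -, -⟩ := Cfsg.Agent.Chev.D4.exists_tw K hq hK
  rw [← hG]
  have hR : ∀ i : Fin 2, ([0, 1].getD i.val 0) < Cfsg.Lie.chevD4.rank ∧
      Cfsg.Agent.Chev.D4.g.repS ([0, 1].getD i.val 0) = true := by decide +kernel
  have hall : ∀ r : Fin 4, Cfsg.Agent.Chev.D4.g.repS r.val = true → ∃ i : Fin 2, [0, 1].getD i.val 0 = r.val := by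
    decide +kernel
  refine S.exists_weyl _ (fun i => [0, 1].getD i.val 0) (fun i j => ?_) (fun i => ⟨(hR i).1, hg.symm ▸ (hR i).2⟩)
    (fun r hr => hall ⟨r, hr.1⟩ (hg ▸ hr.2)) (fun i j => hg.symm ▸ Cfsg.Agent.Chev.D4.twPairs i j)
  revert i j
  decide

end Cfsg.Agent.S1107
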