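import Cfsg.Statements.S1115
import Cfsg.Agent.Lib.SmallRee.BNPairData
-- import your own Cfsg.Agent.* helpers here

set_option autoImplicit false
open Cfsg

namespace Cfsg.Agent.S1115

/-- `N¹/H¹ ≅ W¹`: a surjective homomorphism from `N¹ = G¹ ∩ N` onto the group of order 2 with kernel `H¹`. -/
theorem result {K : Type*} [Field K] [Fintype K] {m : ℕ} (hK : Fintype.card K = 3 ^ (2 * m + 1)) :
    ∃ φ : ↥(Cfsg.Lie.chevG2.monomialSubgroup K ⊓ Cfsg.Lie.twistedG2 K (3 ^ m)) →* Multiplicative (ZMod 2), Function.Surjective φ ∧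
      φ.ker = (Cfsg.Lie.chevG2.diagonalSubgroup K ⊓ Cfsg.Lie.twistedG2 K (3 ^ m)).subgroupOf (Cfsg.Lie.chevG2.monomialSubgroup K ⊓ Cfsg.Lie.twistedG2 K (3 ^ m)) := by
  obtain ⟨hchar, S, hS⟩ := Cfsg.Agent.SmallRee.exists_setup hK
  rw [← S.Gr_eq hK hS]
  obtain ⟨φ, hφ, hker⟩ := S.exists_weyl hK
  let e : ↥(Cfsg.Lie.chevG2.monomialSubgroup K ⊓ S.Gr) ≃* ↥S.NN := Cfsg.Agent.SmallRee.infEquiv (Cfsg.Lie.chevG2.monomialSubgroup K) S.Gr
  refine ⟨φ.comp e.toMonoidHom, fun z => ?_, ?_⟩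
  · obtain ⟨x, rfl⟩ := hφ z
    exact ⟨e.symm x, congrArg φ (e.apply_symm_apply x)⟩
  rw [← MonoidHom.comap_ker, hker]
  ext g
  simp only [Subgroup.mem_comap, Subgroup.mem_subgroupOf, Subgroup.mem_inf]
  exact (and_iff_left (Subgroup.mem_inf.mp g.2).2).symm

end Cfsg.Agent.S1115
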