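import Cfsg.Statements.S1118
import Cfsg.Agent.Lib.Recog.RankOneSetup
-- import your own Cfsg.Agent.* helpers here

set_option autoImplicit false
open Cfsg

namespace Cfsg.Agent.S1118

/-- In the rank-one set-up (`G` finite and doubly transitive on `Ω`, `t` an involution moving `a`, `Q` normal in `G_a` with `G_a = Q D`, `Q ⊓ D = 1` for the two-point stabiliser `D = G_a ⊓ G_{t • a}`, `|Q|` even, `|D|` odd), the normaliser of a subset of `Q` containing a non-identity element lies in `G_a`; consequently `N_G(Q) = N_G(G_a) = G_a`. -/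
theorem result {G Ω : Type*} [Group G] [Finite G] [MulAction G Ω] {a : Ω} {t : G} {Q : Subgroup G}
    (hS : Cfsg.IsRankOneSetup G Ω a t Q) :
    (∀ X : Set G, X ⊆ (Q : Set G) → (∃ x ∈ X, x ≠ 1) → Subgroup.normalizer X ≤ MulAction.stabilizer G a) ∧
      Subgroup.normalizer (Q : Set G) = MulAction.stabilizer G a ∧
      Subgroup.normalizer (MulAction.stabilizer G a : Set G) = MulAction.stabilizer G a := by
  open Cfsg.Agent.Recog in
  obtain ⟨x₀, hx₀, hx₀1⟩ := exists_ne_one_Q hS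
  have part1 : ∀ X : Set G, X ⊆ (Q : Set G) → (∃ x ∈ X, x ≠ 1) → Subgroup.normalizer X ≤ MulAction.stabilizer G a := by
    rintro X hX ⟨x, hx, hx1⟩ g hg
    exact conj_stays hS (hX hx) hx1 (hS.le (hX ((hg x).1 hx)))
  refine ⟨part1, le_antisymm (part1 _ subset_rfl ⟨x₀, hx₀, hx₀1⟩) ?_, le_antisymm ?_ ?_⟩
  · intro h hh
    rw [Subgroup.mem_normalizer_iff]
    refine fun y => ⟨hS.conj_mem h hh y, fun hy => ?_⟩
    have := hS.conj_mem h⁻¹ (inv_mem hh) _ hy
    rwa [show h⁻¹ * (h * y * h⁻¹) * h⁻¹⁻¹ = y by group] at this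
  · intro g hg
    exact conj_stays hS hx₀ hx₀1 ((Subgroup.mem_normalizer_iff.1 hg x₀).1 (hS.le hx₀))
  · exact Subgroup.le_normalizer

end Cfsg.Agent.S1118
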