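import Cfsg.Statements.S1120
import Cfsg.Agent.Lib.Recog.RankOneInv
import Cfsg.Agent.S0058
import Cfsg.Agent.Lib.Solv.Basic

set_option autoImplicit false
open Cfsg

namespace Cfsg.Agent.S1120

open Cfsg.Agent.Recog Cfsg.Agent.Recog.RankOneInv

/-- In the rank-one set-up (`G` finite and doubly transitive on `Ω`, `t` an involution moving `a`, `Q` normal in `G_a` with `G_a = Q D`, `Q ⊓ D = 1` for the two-point stabiliser `D = G_a ⊓ G_{t • a}`, `|Q|` even, `|D|` odd), if `G` has 2-rank at least 2 then `O_{2'}(G)` equals the normal core of `G_a`. -/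
theorem result {G Ω : Type*} [Group G] [Finite G] [MulAction G Ω] {a : Ω} {t : G} {Q : Subgroup G}
    (hS : Cfsg.IsRankOneSetup G Ω a t Q)
    (h2 : ∃ x y : G, x ≠ 1 ∧ y ≠ 1 ∧ x ≠ y ∧ x * x = 1 ∧ y * y = 1 ∧ x * y = y * x) :
    Cfsg.pPrimeCore 2 G = (MulAction.stabilizer G a).normalCore := by
  obtain ⟨x, y, hx1, hy1, hxy, hx2, hy2, hc⟩ := h2
  obtain ⟨b, hb, -⟩ := existsUnique_fixed hS hx1 hx2
  have hyb : y • b = b := smul_fixed_of_commute hS hx1 hx2 hb hc.symm
  obtain ⟨g, hgb⟩ : ∃ g : G, g • b = a := by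
    by_cases hba : b = a
    · exact ⟨1, by rw [one_smul, hba]⟩
    · obtain ⟨z, -, e⟩ := transitive_Q hS hba
      exact ⟨(z * t)⁻¹, by rw [inv_smul_eq_iff, mul_smul, e]⟩
  let W : Subgroup G := Cfsg.pPrimeCore 2 G
  haveI : W.Normal := by
    rw [show W = Cfsg.pPrimeCore 2 G from rfl]; infer_instance
  have hWcard : (Nat.card W).Coprime 2 := Cfsg.Agent.Solv.card_pPrimeCore_coprime 2 G
  -- a four group fixing `a`
  let x' := g * x * g⁻¹
  let y' := g * y * g⁻¹
  have hx' := conj_inv_ne hS (g := g) hx1 hx2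
  have hy' := conj_inv_ne hS (g := g) hy1 hy2
  have hxy' : x' * y' = y' * x' := by
    calc g * x * g⁻¹ * (g * y * g⁻¹) = g * (x * y) * g⁻¹ := by group
      _ = g * y * g⁻¹ * (g * x * g⁻¹) := by rw [hc]; group
  have hne' : x' ≠ y' := fun e => hxy (mul_left_cancel (mul_right_cancel e))
  have hxa : x' • a = a := by rw [mul_smul, mul_smul, inv_smul_eq_iff.2 hgb.symm, hb, hgb]
  have hya : y' • a = a := by rw [mul_smul, mul_smul, inv_smul_eq_iff.2 hgb.symm, hyb, hgb]
  let A : Subgroup G := Subgroup.closure {x', y'}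
  haveI : IsMulCommutative A := Subgroup.isMulCommutative_closure (by
    rintro u (rfl | rfl) v (rfl | rfl)
    · rfl
    · exact hxy'
    · exact hxy'.symm
    · rfl)
  have hA2 : ∀ v ∈ A, v * v = 1 ∧ v • a = a := by
    intro v hv
    induction hv using Subgroup.closure_induction with
    | mem z hz => rcases hz with rfl | rfl; exacts [⟨hx'.2, hxa⟩, ⟨hy'.2, hya⟩]
    | one => exact ⟨one_mul 1, one_smul _ _⟩
    | mul z w hz hw hzi hwi =>
      refine ⟨?_, by rw [mul_smul, hwi.2, hzi.2]⟩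
      have : Commute z w := congrArg Subtype.val ((‹IsMulCommutative A›).is_comm.comm ⟨z, hz⟩ ⟨w, hw⟩)
      rw [this.symm.mul_mul_mul_comm, hzi.1, hwi.1, one_mul]
    | inv z _ hzi => exact ⟨by rw [← mul_inv_rev, hzi.1, inv_one], by rw [inv_smul_eq_iff, hzi.2]⟩
  have hncyc : ¬ IsCyclic A := by
    intro hcyc
    obtain ⟨w, hw⟩ := hcyc.exists_generator
    have hw2 : w ^ 2 = 1 := Subtype.ext (by rw [SubmonoidClass.coe_pow, pow_two, Subgroup.coe_one]; exact (hA2 w w.2).1)
    have key : ∀ v : A, v = 1 ∨ v = w := fun v => by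
      obtain ⟨i, rfl⟩ := hw v
      rcases Int.even_or_odd i with ⟨j, rfl⟩ | ⟨j, rfl⟩
      · left; show w ^ (j + j) = 1
        rw [← two_mul, zpow_mul, zpow_two, ← pow_two, hw2, one_zpow]
      · right; show w ^ (2 * j + 1) = w
        rw [zpow_add, zpow_mul, zpow_two, ← pow_two, hw2, one_zpow, one_mul, zpow_one]
    have hX := (key ⟨x', Subgroup.subset_closure (Or.inl rfl)⟩).resolve_left fun e => hx'.1 (congrArg Subtype.val e)
    have hY := (key ⟨y', Subgroup.subset_closure (Or.inr rfl)⟩).resolve_left fun e => hy'.1 (congrArg Subtype.val e)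
    exact hne' (congrArg Subtype.val (hX.trans hY.symm))
  have hcard : (Nat.card A).Coprime (Nat.card W) := by
    have hp : IsPGroup 2 A := fun v => ⟨1, Subtype.ext (by
      rw [SubmonoidClass.coe_pow, pow_one, pow_two]; exact (hA2 v v.2).1)⟩
    haveI : Fact (Nat.Prime 2) := ⟨Nat.prime_two⟩
    obtain ⟨n, hn⟩ := IsPGroup.iff_card.1 hp
    rw [hn]
    exact (hWcard.symm).pow_left n
  have hgen := Cfsg.Agent.S0058.result A W hncyc
    (fun v _ => by rw [Subgroup.normalizer_eq_top W]; exact Subgroup.mem_top v) hcard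
  have hWa : W ≤ MulAction.stabilizer G a := by
    rw [← hgen]
    refine iSup₂_le fun v hv w hw => ?_
    rw [MulAction.mem_stabilizer_iff]
    exact smul_fixed_of_commute hS hv.2 (hA2 v hv.1).1 (hA2 v hv.1).2
      (Subgroup.mem_centralizer_singleton_iff.1 hw.2)
  refine le_antisymm (Subgroup.normal_le_normalCore.2 hWa) (Cfsg.Agent.Solv.le_pPrimeCore ?_)
  have hle : (MulAction.stabilizer G a).normalCore ≤ MulAction.stabilizer G a ⊓ MulAction.stabilizer G (t • a) := by
    intro w hw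
    refine Subgroup.mem_inf.2 ⟨Subgroup.normalCore_le _ hw, ?_⟩
    have h := Subgroup.normalCore_le _ ((Subgroup.normalCore_normal _).conj_mem w hw t)
    rw [MulAction.mem_stabilizer_iff, t_inv hS, mul_smul, mul_smul] at h
    rw [MulAction.mem_stabilizer_iff]
    conv_rhs => rw [← h]
    rw [← mul_smul t t, hS.mul_self, one_smul]
  exact Nat.Coprime.coprime_dvd_left (Subgroup.card_dvd_of_le hle) (Nat.coprime_two_right.2 hS.odd_card)

end Cfsg.Agent.S1120
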