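import Cfsg.Statements.S1126
import Cfsg.Agent.Lib.Recog.RankOneInv

set_option autoImplicit false
open Cfsg

namespace Cfsg.Agent.S1126

open Cfsg.Agent.Recog Cfsg.Agent.Recog.RankOneInv

/-- In the rank-one set-up (`G` finite and doubly transitive on `Ω`, `t` an involution moving `a`, `Q` normal in `G_a` with `G_a = Q D`, `Q ⊓ D = 1` for the two-point stabiliser `D = G_a ⊓ G_{t • a}`, `|Q|` even, `|D|` odd), a subset `X ⊆ D` fixing at least three points of `Ω` is conjugate by an element of `D` into `V = C_D(t)`. -/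
theorem result {G Ω : Type*} [Group G] [Finite G] [MulAction G Ω] {a : Ω} {t : G} {Q : Subgroup G}
    (hS : Cfsg.IsRankOneSetup G Ω a t Q)
    (X : Set G) (hX : X ⊆ ((MulAction.stabilizer G a ⊓ MulAction.stabilizer G (t • a)) : Set G))
    (h3 : ∃ b c d : Ω, b ≠ c ∧ b ≠ d ∧ c ≠ d ∧ ∀ x ∈ X, x • b = b ∧ x • c = c ∧ x • d = d) :
    ∃ k ∈ (MulAction.stabilizer G a ⊓ MulAction.stabilizer G (t • a)), ∀ x ∈ X, (k * x * k⁻¹) * t = t * (k * x * k⁻¹) := by
  obtain ⟨u, hu1, hu2, hua, hc⟩ := exists_swap hS hX h3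
  have hut : u • t • a = a := by rw [← hua, ← mul_smul, hu2, one_smul]
  have hkD : t * u ∈ MulAction.stabilizer G a ⊓ MulAction.stabilizer G (t • a) := Subgroup.mem_inf.2
    ⟨by rw [MulAction.mem_stabilizer_iff, mul_smul, hua, tta hS], by rw [MulAction.mem_stabilizer_iff, mul_smul, hut]⟩
  have htz : ∀ z : G, t * (t * z) = z := fun z => by rw [← mul_assoc, hS.mul_self, one_mul]
  have hinv : t * (t * u) * t = (t * u)⁻¹ := by
    rw [htz, mul_inv_rev, t_inv hS, inv_eq_of_mul_eq_one_right hu2]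
  obtain ⟨j, hj⟩ : Odd (orderOf (t * u)) := Odd.of_dvd_nat hS.odd_card (Subgroup.orderOf_dvd_natCard _ hkD)
  set k₁ := (t * u) ^ (j + 1) with hk₁
  have hsq : k₁ * k₁ = t * u := by
    rw [hk₁, ← pow_add, show j + 1 + (j + 1) = orderOf (t * u) + 1 by omega, pow_succ, pow_orderOf_eq_one, one_mul]
  have hk₁i : t * k₁ * t = k₁⁻¹ := by
    have h := conj_pow (i := j + 1) (a := t) (b := t * u)
    rw [t_inv hS, hinv, inv_pow, ← hk₁] at h
    exact h.symm
  have hu : u = k₁⁻¹ * t * k₁ := by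
    calc u = t * (k₁ * k₁) := by rw [hsq, htz]
      _ = (t * k₁ * t) * t * k₁ := by rw [mul_assoc (t * k₁) t t, hS.mul_self, mul_one, mul_assoc t k₁ k₁]
      _ = _ := by rw [hk₁i]
  refine ⟨k₁, Subgroup.pow_mem _ hkD _, fun x hx => ?_⟩
  have h := hc x hx
  rw [hu] at h
  calc k₁ * x * k₁⁻¹ * t = k₁ * (x * (k₁⁻¹ * t * k₁)) * k₁⁻¹ := by group
    _ = t * (k₁ * x * k₁⁻¹) := by rw [h]; group

end Cfsg.Agent.S1126
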