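import Cfsg.Statements.S1127
import Cfsg.Agent.Lib.Recog.RankOneInv

set_option autoImplicit false
open Cfsg

namespace Cfsg.Agent.S1127

open Cfsg.Agent.Recog Cfsg.Agent.Recog.RankOneInv

/-- In the rank-one set-up (`G` finite and doubly transitive on `Ω`, `t` an involution moving `a`, `Q` normal in `G_a` with `G_a = Q D`, `Q ⊓ D = 1` for the two-point stabiliser `D = G_a ⊓ G_{t • a}`, `|Q|` even, `|D|` odd): if `s` is an involution of `G_a` and `r ∈ Q` satisfy `t s t = r⁻¹ t r`, then `C_D(t) = C_D(s)`; moreover `C_D(t) ⊓ C_D(K) = C_D(I ∩ G_a)`, where `K` is the set of elements of `D` inverted by `t` and `I ∩ G_a` the set of involutions of `G_a`. -/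
theorem result {G Ω : Type*} [Group G] [Finite G] [MulAction G Ω] {a : Ω} {t : G} {Q : Subgroup G}
    (hS : Cfsg.IsRankOneSetup G Ω a t Q) :
    (∀ s r : G, s ∈ Cfsg.involutionsIn (MulAction.stabilizer G a : Set G) → r ∈ Q → t * s * t = r⁻¹ * t * r →
        (MulAction.stabilizer G a ⊓ MulAction.stabilizer G (t • a)) ⊓ Subgroup.centralizer {t} = (MulAction.stabilizer G a ⊓ MulAction.stabilizer G (t • a)) ⊓ Subgroup.centralizer {s}) ∧
      (MulAction.stabilizer G a ⊓ MulAction.stabilizer G (t • a)) ⊓ Subgroup.centralizer {t} ⊓ Subgroup.centralizer (Cfsg.invertedBy (MulAction.stabilizer G a ⊓ MulAction.stabilizer G (t • a)) t) =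
        (MulAction.stabilizer G a ⊓ MulAction.stabilizer G (t • a)) ⊓ Subgroup.centralizer (Cfsg.involutionsIn (MulAction.stabilizer G a : Set G)) := by
  refine ⟨fun s r hs hr e => ?_, ?_⟩
  · ext c
    constructor
    · rintro ⟨hc, hct⟩
      exact ⟨hc, Subgroup.mem_centralizer_singleton_iff.2 ((centralizer_iff hS hs hr e hc).1
        (Subgroup.mem_centralizer_singleton_iff.1 hct))⟩
    · rintro ⟨hc, hcs⟩
      exact ⟨hc, Subgroup.mem_centralizer_singleton_iff.2 ((centralizer_iff hS hs hr e hc).2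
        (Subgroup.mem_centralizer_singleton_iff.1 hcs))⟩
  · obtain ⟨s₀, r, hs₀, hr, e⟩ := exists_struct hS
    ext c
    constructor
    · rintro ⟨⟨hc, hct⟩, hcK⟩
      refine ⟨hc, Subgroup.mem_centralizer_iff.2 fun s hs => ?_⟩
      obtain ⟨k, hk⟩ := (conj_bijective hS hs₀).2 ⟨s, hs⟩
      have hk' : (k : G)⁻¹ * s₀ * k = s := congrArg Subtype.val hk
      have hck : Commute c (k : G) := (Subgroup.mem_centralizer_iff.1 hcK k k.2).symm
      have hcs : Commute c s₀ := (centralizer_iff hS hs₀ hr e hc).1 (Subgroup.mem_centralizer_singleton_iff.1 hct)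
      rw [← hk']
      exact ((hck.inv_right.mul_right hcs).mul_right hck).eq.symm
    · rintro ⟨hc, hcI⟩
      have hI := Subgroup.mem_centralizer_iff.1 hcI
      have hct : c * t = t * c := (centralizer_iff hS hs₀ hr e hc).2 (hI s₀ hs₀).symm
      refine ⟨⟨hc, Subgroup.mem_centralizer_singleton_iff.2 hct⟩, Subgroup.mem_centralizer_iff.2 fun k hk => ?_⟩
      obtain ⟨hkD, hki⟩ := (mem_invertedBy hS).1 hk
      have hmem : c * k * c⁻¹ ∈ Cfsg.invertedBy (MulAction.stabilizer G a ⊓ MulAction.stabilizer G (t • a)) t := by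
        refine (mem_invertedBy hS).2 ⟨Subgroup.mul_mem _ (Subgroup.mul_mem _ hc hkD) (Subgroup.inv_mem _ hc), ?_⟩
        have h2 : c⁻¹ * t = t * c⁻¹ := (show Commute c t from hct).inv_left.eq
        calc t * (c * k * c⁻¹) * t = (t * c) * k * (c⁻¹ * t) := by group
          _ = c * (t * k * t) * c⁻¹ := by rw [← hct, h2]; group
          _ = (c * k * c⁻¹)⁻¹ := by rw [hki]; group
      have heq : (⟨c * k * c⁻¹, hmem⟩ : Cfsg.invertedBy (MulAction.stabilizer G a ⊓ MulAction.stabilizer G (t • a)) t) = ⟨k, hk⟩ := by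
        refine (conj_bijective hS hs₀).1 (Subtype.ext ?_)
        have h1 : c⁻¹ * s₀ * c = s₀ := by rw [mul_assoc, hI s₀ hs₀, inv_mul_cancel_left]
        have h2 := hI _ (conj_mem_involutionsIn hS hkD.1 hs₀)
        show (c * k * c⁻¹)⁻¹ * s₀ * (c * k * c⁻¹) = k⁻¹ * s₀ * k
        calc (c * k * c⁻¹)⁻¹ * s₀ * (c * k * c⁻¹) = c * (k⁻¹ * (c⁻¹ * s₀ * c) * k) * c⁻¹ := by group
          _ = k⁻¹ * s₀ * k := by rw [h1, ← h2, mul_inv_cancel_right]
      exact (mul_inv_eq_iff_eq_mul.1 (congrArg Subtype.val heq)).symm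

end Cfsg.Agent.S1127
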