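import Cfsg.Statements.S1134
import Cfsg.Agent.Lib.Recog.RankOneFpf
import Cfsg.Agent.S1124

set_option autoImplicit false
open Cfsg

namespace Cfsg.Agent.S1134

open Cfsg.Agent.Recog Cfsg.Agent.Recog.RankOneInv Cfsg.Agent.Recog.RankOneFpf

/-- In the rank-one set-up (`G` finite and doubly transitive on `Ω`, `t` an involution moving `a`, `Q` normal in `G_a` with `G_a = Q D`, `Q ⊓ D = 1` for the two-point stabiliser `D = G_a ⊓ G_{t • a}`, `|Q|` even, `|D|` odd), with the action faithful and `G` containing two distinct commuting involutions, with `V = C_D(t)`: subsets of `V` conjugate in `G` are conjugate in `V`. -/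
theorem result {G Ω : Type*} [Group G] [Finite G] [MulAction G Ω] [FaithfulSMul G Ω] {a : Ω} {t : G} {Q : Subgroup G}
    (hS : Cfsg.IsRankOneSetup G Ω a t Q)
    (h2 : ∃ x y : G, x ≠ 1 ∧ y ≠ 1 ∧ x ≠ y ∧ x * x = 1 ∧ y * y = 1 ∧ x * y = y * x)
    (X : Set G) (hX : X ⊆ (((MulAction.stabilizer G a ⊓ MulAction.stabilizer G (t • a)) ⊓ Subgroup.centralizer {t} : Subgroup G) : Set G)) (g : G)
    (hY : (fun x => g * x * g⁻¹) '' X ⊆ (((MulAction.stabilizer G a ⊓ MulAction.stabilizer G (t • a)) ⊓ Subgroup.centralizer {t} : Subgroup G) : Set G)) :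
    ∃ v ∈ (MulAction.stabilizer G a ⊓ MulAction.stabilizer G (t • a)) ⊓ Subgroup.centralizer {t}, (fun x => v * x * v⁻¹) '' X = (fun x => g * x * g⁻¹) '' X := by
  obtain ⟨b, hb, -⟩ := existsUnique_fixed hS hS.ne_one hS.mul_self
  have hba : b ≠ a := fun e => ta_ne hS (e ▸ hb)
  have hbt : b ≠ t • a := fun e => ta_ne hS (by rw [e, tta hS] at hb; exact hb.symm)
  have hV : ∀ y ∈ (fun x => g * x * g⁻¹) '' X, y • a = a ∧ y • t • a = t • a ∧ y • b = b := fun y hy => by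
    obtain ⟨⟨h1, h2⟩, h3⟩ := hY hy
    exact ⟨h1, h2, smul_fixed_of_commute hS hS.ne_one hS.mul_self hb (Subgroup.mem_centralizer_singleton_iff.1 h3)⟩
  obtain ⟨hmap, -, -⟩ := Cfsg.Agent.S1125.result hS ((fun x => g * x * g⁻¹) '' X)
    (fun y hy => (hY hy).1) ⟨a, t • a, b, (ta_ne hS).symm, hba.symm, hbt.symm, hV⟩
  obtain ⟨h, hh, hha, hht⟩ := hmap (g • a) (g • t • a) a (t • a) (fun y hy => by
    obtain ⟨x, hx, rfl⟩ := hy
    obtain ⟨⟨h1, h2⟩, -⟩ := hX hx
    refine ⟨?_, ?_, (hV _ ⟨x, hx, rfl⟩).1, (hV _ ⟨x, hx, rfl⟩).2.1⟩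
    · show (g * x * g⁻¹) • g • a = g • a
      rw [mul_smul, mul_smul, inv_smul_smul, MulAction.mem_stabilizer_iff.1 h1]
    · show (g * x * g⁻¹) • g • t • a = g • t • a
      rw [mul_smul, mul_smul, inv_smul_smul, MulAction.mem_stabilizer_iff.1 h2])
    (fun e => ta_ne hS (smul_left_cancel g e).symm) (ta_ne hS).symm
  have hd : h * g ∈ MulAction.stabilizer G a ⊓ MulAction.stabilizer G (t • a) := Subgroup.mem_inf.2
    ⟨by rw [MulAction.mem_stabilizer_iff, mul_smul, hha], by rw [MulAction.mem_stabilizer_iff, mul_smul, hht]⟩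
  obtain ⟨⟨v, k⟩, ⟨hv, hk, he⟩, -⟩ := (Cfsg.Agent.S1124.result t
    (orderOf_eq_prime (by rw [pow_two, hS.mul_self]) hS.ne_one) _ hS.odd_card
    (fun x hx => by rw [t_inv hS]; exact mem_D_conj hS hx)).1 _ hd
  refine ⟨v, hv, Set.image_congr fun x hx => ?_⟩
  obtain ⟨hkD, hki⟩ := (mem_invertedBy hS).1 hk
  have e1 : (h * g) * x * (h * g)⁻¹ = g * x * g⁻¹ := by
    calc (h * g) * x * (h * g)⁻¹ = h * (g * x * g⁻¹) * h⁻¹ := by group
      _ = (g * x * g⁻¹) * h * h⁻¹ := by rw [Subgroup.mem_centralizer_iff.1 hh _ ⟨x, hx, rfl⟩]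
      _ = _ := by group
  change h * g = v * k at he
  have hk' : k * x * k⁻¹ ∈ (MulAction.stabilizer G a ⊓ MulAction.stabilizer G (t • a)) ⊓ Subgroup.centralizer {t} := by
    have : k * x * k⁻¹ = v⁻¹ * (g * x * g⁻¹) * v := by rw [← e1, he]; group
    rw [this]
    exact Subgroup.mul_mem _ (Subgroup.mul_mem _ (Subgroup.inv_mem _ hv) (hY ⟨x, hx, rfl⟩)) hv
  have hxt := Subgroup.mem_centralizer_singleton_iff.1 (hX hx).2
  have hkt := Subgroup.mem_centralizer_singleton_iff.1 hk'.2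
  have h4 : k * x * k⁻¹ = k⁻¹ * x * k := by
    calc k * x * k⁻¹ = t * (k * x * k⁻¹) * t := by rw [← hkt, mul_assoc _ t t, hS.mul_self, mul_one]
      _ = (t * k * t) * (t⁻¹ * x * t⁻¹) * (t⁻¹ * k * t⁻¹)⁻¹ := by group
      _ = (t * k * t) * x * (t * k * t)⁻¹ := by
        rw [t_inv hS, show t * x * t = x by rw [← hxt, mul_assoc, hS.mul_self, mul_one]]
      _ = _ := by rw [hki, inv_inv]
  obtain ⟨j, hj⟩ : Odd (orderOf k) := Odd.of_dvd_nat hS.odd_card (Subgroup.orderOf_dvd_natCard _ hkD)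
  have hcom : Commute (k * k) x := by
    show k * k * x = x * (k * k)
    calc k * k * x = k * (k * x * k⁻¹) * k := by group
      _ = x * (k * k) := by rw [h4]; group
  have hkx : Commute k x := by
    have hpow : k = (k * k) ^ (j + 1) := by
      rw [← pow_two, ← pow_mul, show 2 * (j + 1) = orderOf k + 1 by omega, pow_succ, pow_orderOf_eq_one, one_mul]
    rw [hpow]; exact hcom.pow_left _
  show v * x * v⁻¹ = g * x * g⁻¹
  rw [← e1, he]
  calc v * x * v⁻¹ = v * (x * k) * k⁻¹ * v⁻¹ := by group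
    _ = _ := by rw [← hkx.eq]; group

end Cfsg.Agent.S1134
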