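import Cfsg.Statements.S1135
import Cfsg.Agent.Lib.Recog.RankOneFpf

set_option autoImplicit false
open Cfsg

namespace Cfsg.Agent.S1135

open Cfsg.Agent.Recog Cfsg.Agent.Recog.RankOneInv Cfsg.Agent.Recog.RankOneFpf

/-- In the rank-one set-up (`G` finite and doubly transitive on `Ω`, `t` an involution moving `a`, `Q` normal in `G_a` with `G_a = Q D`, `Q ⊓ D = 1` for the two-point stabiliser `D = G_a ⊓ G_{t • a}`, `|Q|` even, `|D|` odd), with the action faithful and `G` containing two distinct commuting involutions: if `x = u v` with `u, v` involutions and `x² ≠ 1`, then `x` is conjugate to `u' t` for some involution `u'` of `G_a`, and `|C_G(x)|` is odd. -/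
theorem result {G Ω : Type*} [Group G] [Finite G] [MulAction G Ω] [FaithfulSMul G Ω] {a : Ω} {t : G} {Q : Subgroup G}
    (hS : Cfsg.IsRankOneSetup G Ω a t Q)
    (h2 : ∃ x y : G, x ≠ 1 ∧ y ≠ 1 ∧ x ≠ y ∧ x * x = 1 ∧ y * y = 1 ∧ x * y = y * x)
    (u v : G) (hu1 : u ≠ 1) (hu2 : u * u = 1) (hv1 : v ≠ 1) (hv2 : v * v = 1) (hx : (u * v) * (u * v) ≠ 1) :
    (∃ g : G, ∃ u' ∈ Cfsg.involutionsIn (MulAction.stabilizer G a : Set G), g * (u * v) * g⁻¹ = u' * t) ∧
      Odd (Nat.card ↥(Subgroup.centralizer {u * v})) := by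
  obtain ⟨b, hb, -⟩ := existsUnique_fixed hS hu1 hu2
  obtain ⟨b', hb', -⟩ := existsUnique_fixed hS hv1 hv2
  haveI := hS.two_transitive
  haveI : MulAction.IsPretransitive G Ω := MulAction.isPretransitive_of_is_two_pretransitive
  have htp : ∀ {p q r s : Ω}, p ≠ q → r ≠ s → ∃ g : G, g • p = r ∧ g • q = s :=
    fun hpq hrs => MulAction.is_two_pretransitive_iff.1 hS.two_transitive hpq hrs
  have hfix : ∀ (g z : G) (c : Ω), z • c = c → (g * z * g⁻¹) • g • c = g • c := fun g z c h => by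
    rw [mul_smul, mul_smul, inv_smul_smul, h]
  have hbb : b ≠ b' := by
    intro e
    obtain ⟨g, hg⟩ := MulAction.exists_smul_eq G b a
    have h := involutions_commute hS h2
      (show g * u * g⁻¹ ∈ Cfsg.involutionsIn (MulAction.stabilizer G a : Set G) from
        ⟨by show (g * u * g⁻¹) • a = a; rw [← hg]; exact hfix g u b hb, conj_inv_ne hS hu1 hu2⟩)
      (show g * v * g⁻¹ ∈ Cfsg.involutionsIn (MulAction.stabilizer G a : Set G) from
        ⟨by show (g * v * g⁻¹) • a = a; rw [← hg, e]; exact hfix g v b' hb', conj_inv_ne hS hv1 hv2⟩)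
    apply hx
    calc u * v * (u * v) = g⁻¹ * (g * u * g⁻¹ * (g * v * g⁻¹) * (g * u * g⁻¹ * (g * v * g⁻¹))) * g := by group
      _ = 1 := by rw [h]; group
  refine ⟨?_, ?_⟩
  · obtain ⟨c, hc, -⟩ := existsUnique_fixed hS hS.ne_one hS.mul_self
    have hca : c ≠ a := fun e => ta_ne hS (e ▸ hc)
    obtain ⟨h, hhb', hhb⟩ := htp hbb.symm (ta_ne hS).symm
    obtain ⟨f, hfa, hft⟩ := htp (ta_ne hS).symm hca
    have hst : f⁻¹ * t * f ∈ Cfsg.involutionsIn (MulAction.stabilizer G a : Set G) := by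
      refine ⟨?_, ?_⟩
      · show (f⁻¹ * t * f) • a = a
        rw [mul_smul, mul_smul, hfa, hc, inv_smul_eq_iff, hfa]
      · have := conj_inv_ne hS (g := f⁻¹) hS.ne_one hS.mul_self
        rwa [inv_inv] at this
    have hsv : h * v * h⁻¹ ∈ Cfsg.involutionsIn (MulAction.stabilizer G a : Set G) :=
      ⟨by show (h * v * h⁻¹) • a = a; rw [← hhb']; exact hfix h v b' hb', conj_inv_ne hS hv1 hv2⟩
    obtain ⟨⟨k, hk⟩, hkeq⟩ := (conj_bijective hS hsv).2 ⟨_, hst⟩
    have he : k⁻¹ * (h * v * h⁻¹) * k = f⁻¹ * t * f := congrArg Subtype.val hkeq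
    refine ⟨f * k⁻¹ * h, (f * k⁻¹ * h) * u * (f * k⁻¹ * h)⁻¹, ⟨?_, conj_inv_ne hS hu1 hu2⟩, ?_⟩
    · show ((f * k⁻¹ * h) * u * (f * k⁻¹ * h)⁻¹) • a = a
      have e : (f * k⁻¹ * h) • b = a := by
        rw [mul_smul, mul_smul, hhb, MulAction.mem_stabilizer_iff.1 (Subgroup.inv_mem _ ((mem_invertedBy hS).1 hk).1).2, hft]
      conv_rhs => rw [← e]
      conv_lhs => rw [← e]
      exact hfix _ u b hb
    · calc f * k⁻¹ * h * (u * v) * (f * k⁻¹ * h)⁻¹ =
            ((f * k⁻¹ * h) * u * (f * k⁻¹ * h)⁻¹) * (f * (k⁻¹ * (h * v * h⁻¹) * k) * f⁻¹) := by group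
        _ = _ := by rw [he]; group
  · rw [← Nat.not_even_iff_odd]
    intro hev
    haveI : Fact (Nat.Prime 2) := ⟨Nat.prime_two⟩
    obtain ⟨⟨z, hzc⟩, ho⟩ := exists_prime_orderOf_dvd_card' 2 (even_iff_two_dvd.1 hev)
    rw [Subgroup.orderOf_mk] at ho
    have hz1 : z ≠ 1 := fun e => by rw [e, orderOf_one] at ho; omega
    have hz2 : z * z = 1 := by rw [← pow_two, ← ho, pow_orderOf_eq_one]
    have hzx : (u * v) * z = z * (u * v) := (Subgroup.mem_centralizer_singleton_iff.1 hzc).symm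
    obtain ⟨c, hc, -⟩ := existsUnique_fixed hS hz1 hz2
    have hxc : (u * v) • c = c := smul_fixed_of_commute hS hz1 hz2 hc hzx
    have huc : u • c ≠ c := fun e => hbb (by
      have hvc : v • c = c := by
        rw [mul_smul] at hxc
        exact smul_left_cancel u (hxc.trans e.symm)
      rw [fixed_eq hS hu1 hu2 hb e, fixed_eq hS hv1 hv2 hb' hvc])
    have hxuc : (u * v) • u • c = u • c := by
      have h1 : v • c = u • c := by
        conv_rhs => rw [← hxc, mul_smul, ← mul_smul u u, hu2, one_smul]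
      rw [mul_smul, ← h1, ← mul_smul v v, hv2, one_smul, h1]
    obtain ⟨g, hgc, hguc⟩ := htp huc.symm (ta_ne hS).symm
    have hu' : (g * u * g⁻¹) • a = t • a := by rw [← hguc, ← hgc, mul_smul, mul_smul, inv_smul_smul]
    obtain ⟨k, hkD, hki, hku⟩ := exists_sqrt_conj hS (conj_inv_ne hS (g := g) hu1 hu2).2 hu'
    have hy : g * (u * v) * g⁻¹ ∈ MulAction.stabilizer G a ⊓ MulAction.stabilizer G (t • a) := Subgroup.mem_inf.2
      ⟨by rw [MulAction.mem_stabilizer_iff, ← hgc]; exact hfix g _ c hxc,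
       by rw [MulAction.mem_stabilizer_iff, ← hguc]; exact hfix g _ _ hxuc⟩
    have hinv : (g * u * g⁻¹) * (g * (u * v) * g⁻¹) * (g * u * g⁻¹) = (g * (u * v) * g⁻¹)⁻¹ := by
      have hvi : v⁻¹ = v := inv_eq_of_mul_eq_one_right hv2
      have hui : u⁻¹ = u := inv_eq_of_mul_eq_one_right hu2
      calc (g * u * g⁻¹) * (g * (u * v) * g⁻¹) * (g * u * g⁻¹) = g * ((u * u) * (v * u)) * g⁻¹ := by group
        _ = g * (v⁻¹ * u⁻¹) * g⁻¹ := by rw [hu2, one_mul, hvi, hui]
        _ = _ := by group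
    rw [hku] at hinv
    have hK : k * (g * (u * v) * g⁻¹) * k⁻¹ ∈
        Cfsg.invertedBy (MulAction.stabilizer G a ⊓ MulAction.stabilizer G (t • a)) t := by
      refine (mem_invertedBy hS).2 ⟨Subgroup.mul_mem _ (Subgroup.mul_mem _ hkD hy) (Subgroup.inv_mem _ hkD), ?_⟩
      calc t * (k * (g * (u * v) * g⁻¹) * k⁻¹) * t =
            k * (k⁻¹ * t * k * (g * (u * v) * g⁻¹) * (k⁻¹ * t * k)) * k⁻¹ := by group
        _ = _ := by rw [hinv]; group
    have hzI : k * (g * z * g⁻¹) * k⁻¹ ∈ Cfsg.involutionsIn (MulAction.stabilizer G a : Set G) := by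
      have := conj_inv_ne hS (g := g) hz1 hz2
      refine ⟨?_, conj_inv_ne hS this.1 this.2⟩
      exact Subgroup.mul_mem _ (Subgroup.mul_mem _ hkD.1
        (by rw [MulAction.mem_stabilizer_iff, ← hgc]; exact hfix g z c hc)) (Subgroup.inv_mem _ hkD.1)
    have h1 := eq_one_of_commute hS hK hzI (by
      calc k * (g * (u * v) * g⁻¹) * k⁻¹ * (k * (g * z * g⁻¹) * k⁻¹) = k * g * ((u * v) * z) * g⁻¹ * k⁻¹ := by group
        _ = _ := by rw [hzx]; group)
    rw [conj_eq_one_iff, conj_eq_one_iff] at h1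
    exact hx (by rw [h1, one_mul])

end Cfsg.Agent.S1135
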