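import Cfsg.Statements.S1137
import Mathlib.GroupTheory.PGroup
import Mathlib.GroupTheory.Sylow
import Mathlib.Tactic
-- import your own Cfsg.Agent.* helpers here

set_option autoImplicit false
open Cfsg

namespace Cfsg.Agent.S1137

open Subgroup

section Helpers

variable {P : Type*} [Group P] [Finite P] (κ : MulAut P)

theorem zpow_comm_apply (i l : ℤ) (x : P) : (κ ^ i) ((κ ^ l) x) = (κ ^ l) ((κ ^ i) x) := by
  rw [← MulAut.mul_apply, ← MulAut.mul_apply, ← zpow_add, ← zpow_add, add_comm]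

theorem sq_one_apply {x : P} (h : x * x = 1) (e : MulAut P) : e x * e x = 1 := by
  rw [← map_mul, h, map_one]

/-- An equivariant biadditive alternating map on the involutions vanishes. -/
theorem alt_zero (hinv : ∀ x : P, x * x = 1 → x ∈ center P)
    (htr : ∀ x y : P, x ≠ 1 → x * x = 1 → y ≠ 1 → y * y = 1 → ∃ i : ℤ, (κ ^ (2 * i)) x = y)
    (c : P → P → P) (hcE : ∀ x y, x * x = 1 → y * y = 1 → c x y * c x y = 1)
    (hl : ∀ x x' y, x * x = 1 → x' * x' = 1 → y * y = 1 → c (x * x') y = c x y * c x' y)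
    (hr : ∀ x y y', x * x = 1 → y * y = 1 → y' * y' = 1 → c x (y * y') = c x y * c x y')
    (heq : ∀ x y, x * x = 1 → y * y = 1 → c (κ x) (κ y) = κ (c x y))
    (hd : ∀ x, x * x = 1 → c x x = 1) :
    ∀ x y, x * x = 1 → y * y = 1 → c x y = 1 := by
  intro x₀ x hx₀ hx
  have hmul : ∀ u v : P, u * u = 1 → v * v = 1 → (u * v) * (u * v) = 1 := fun u v hu hv => by
    have := mem_center_iff.1 (hinv u hu) v
    calc u * v * (u * v) = u * (v * u) * v := by group
      _ = u * (u * v) * v := by rw [this]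
      _ = (u * u) * (v * v) := by group
      _ = 1 := by rw [hu, hv, one_mul]
  have heq' : ∀ (i : ℤ) (u v : P), u * u = 1 → v * v = 1 →
      c ((κ ^ i) u) ((κ ^ i) v) = (κ ^ i) (c u v) := by
    intro i
    induction i using Int.induction_on with
    | zero => intro u v _ _; simp
    | succ i ih =>
      intro u v hu hv
      rw [zpow_add, zpow_one, MulAut.mul_apply, MulAut.mul_apply, MulAut.mul_apply,
        ih _ _ (sq_one_apply hu κ) (sq_one_apply hv κ), heq u v hu hv]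
    | pred i ih =>
      intro u v hu hv
      rw [zpow_sub, zpow_one, MulAut.mul_apply, MulAut.mul_apply, MulAut.mul_apply,
        ih _ _ (sq_one_apply hu κ⁻¹) (sq_one_apply hv κ⁻¹)]
      congr 1
      apply κ.injective
      rw [← heq _ _ (sq_one_apply hu κ⁻¹) (sq_one_apply hv κ⁻¹), MulAut.apply_inv_self,
        MulAut.apply_inv_self, MulAut.apply_inv_self]
  rcases eq_or_ne x₀ 1 with h1 | hx₀1
  · have := hl 1 1 x (one_mul _) (one_mul _) hx
    rw [one_mul] at this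
    rw [h1]
    exact left_eq_mul.1 this
  rcases eq_or_ne x 1 with h1 | hx1
  · have := hr x₀ 1 1 hx₀ (one_mul _) (one_mul _)
    rw [one_mul] at this
    rw [h1]
    exact left_eq_mul.1 this
  obtain ⟨i, hi⟩ := htr x₀ x hx₀1 hx₀ hx1 hx
  set a := (κ ^ i) x₀ with ha
  have ha2 : a * a = 1 := sq_one_apply hx₀ _
  have hai : (κ ^ i) a = x := by rw [ha, ← MulAut.mul_apply, ← zpow_add, ← two_mul, hi]
  rcases eq_or_ne (x₀ * a) 1 with h1 | hb1
  · have e : a = x₀ := by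
      rw [eq_comm, ← mul_inv_eq_one, inv_eq_of_mul_eq_one_right ha2, h1]
    have hxx : x = x₀ := by
      rw [← hai, e]
      exact e
    rw [hxx]
    exact hd x₀ hx₀
  have hb2 := hmul x₀ a hx₀ ha2
  obtain ⟨j, hj⟩ := htr x₀ (x₀ * a) hx₀1 hx₀ hb1 hb2
  have hop : ∀ y : P, y * y = 1 → (κ ^ (2 * j)) y = y * (κ ^ i) y := by
    intro y hy
    rcases eq_or_ne y 1 with rfl | hy1
    · simp
    obtain ⟨l, hl'⟩ := htr x₀ y hx₀1 hx₀ hy1 hy
    rw [← hl', zpow_comm_apply, hj, map_mul, ha, zpow_comm_apply]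
  have hbb : (κ ^ (2 * j)) (x₀ * a) = x₀ * x := by
    rw [hop _ hb2, map_mul, hai, ← ha, mul_assoc, ← mul_assoc a a x, ha2, one_mul]
  have e1 : c (x₀ * a) (x₀ * x) = c x₀ a * (κ ^ i) (c x₀ a) := by
    rw [← hbb, ← hj, heq' _ _ _ hx₀ (sq_one_apply hx₀ _), hj, hr _ _ _ hx₀ hx₀ ha2, hd _ hx₀, one_mul,
      hop _ (hcE _ _ hx₀ ha2)]
  have e2 : c (x₀ * a) (x₀ * x) = c x₀ x * c a x₀ * c a x := by
    rw [hl _ _ _ hx₀ ha2 (hmul _ _ hx₀ hx), hr _ _ _ hx₀ hx₀ hx, hr _ _ _ ha2 hx₀ hx, hd _ hx₀, one_mul,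
      ← mul_assoc]
  have e3 : c a x = (κ ^ i) (c x₀ a) := by
    conv_lhs => rw [← hai, ha]
    rw [heq' _ _ _ hx₀ (sq_one_apply hx₀ _)]
  have e4 : c a x₀ = c x₀ a := by
    have h := hd _ hb2
    rw [hl _ _ _ hx₀ ha2 hb2, hr _ _ _ hx₀ hx₀ ha2, hr _ _ _ ha2 hx₀ ha2, hd _ hx₀, hd _ ha2,
      one_mul, mul_one] at h
    rw [← inv_eq_of_mul_eq_one_right h, inv_eq_of_mul_eq_one_right (hcE _ _ hx₀ ha2)]
  rw [e2, e3, e4] at e1
  exact mul_eq_right.1 (mul_right_cancel e1)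

/-- `⁅g, a⁆`. -/
def dl (g a : P) : P := g * a * g⁻¹ * a⁻¹

theorem dl_mul (g h a : P) : dl (g * h) a = g * dl h a * g⁻¹ * dl g a := by
  simp only [dl]; group

theorem dl_mul_right (g a b : P) : dl g (a * b) = dl g a * (a * dl g b * a⁻¹) := by
  simp only [dl]; group

theorem dl_map (g a : P) (e : MulAut P) : dl (e g) (e a) = e (dl g a) := by
  simp [dl]

theorem no_exponent_four (hp : IsPGroup 2 P) (hna : ∃ x y : P, x * y ≠ y * x)
    (hinv : ∀ x : P, x * x = 1 → x ∈ center P)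
    (htr : ∀ x y : P, x ≠ 1 → x * x = 1 → y ≠ 1 → y * y = 1 → ∃ i : ℤ, (κ ^ (2 * i)) x = y)
    (z : P) (hz : z ∈ center P) (hz4 : z ^ 4 = 1) (hz2 : z * z ≠ 1) : False := by
  classical
  obtain ⟨A, ⟨hZA, hAc, hAn, hAκ⟩, hAmax⟩ := (Set.toFinite {A : Subgroup P | center P ≤ A ∧
    (∀ a ∈ A, ∀ b ∈ A, Commute a b) ∧ A.Normal ∧ ∀ a ∈ A, κ a ∈ A}).exists_maximal
    ⟨center P, le_rfl, fun a ha b _ => (mem_center_iff.1 ha b).symm, inferInstance, fun a ha =>
      mem_center_iff.2 fun g => by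
        have := congrArg κ (mem_center_iff.1 ha (κ⁻¹ g))
        simpa using this⟩
  have hAκ' : ∀ i : ℤ, ∀ a ∈ A, (κ ^ i) a ∈ A := by
    have heq : A.map κ.toMonoidHom = A :=
      eq_of_le_of_card_ge (by rintro _ ⟨a, ha, rfl⟩; exact hAκ a ha)
        (card_map_of_injective κ.injective).ge
    intro i
    induction i using Int.induction_on with
    | zero => intro a ha; simpa using ha
    | succ i ih => intro a ha; rw [zpow_add, zpow_one, MulAut.mul_apply]; exact ih _ (hAκ a ha)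
    | pred i ih =>
      intro a ha
      rw [zpow_sub, zpow_one, MulAut.mul_apply]
      refine ih _ ?_
      obtain ⟨b, hb, hbe⟩ := heq.ge ha
      rw [← hbe, MulEquiv.coe_toMonoidHom, MulAut.inv_apply_self]
      exact hb
  have hzA : z ∈ A := hZA hz
  -- the exponent
  obtain ⟨M, hM⟩ := IsPGroup.iff_card.1 (hp.to_subgroup A)
  have hex : ∃ m, ∀ a ∈ A, a ^ 2 ^ m = 1 := ⟨M, fun a ha => by
    rw [← hM]
    exact congrArg Subtype.val (pow_card_eq_one' (x := (⟨a, ha⟩ : A)))⟩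
  set m := Nat.find hex with hm
  have hexp : ∀ a ∈ A, a ^ 2 ^ m = 1 := Nat.find_spec hex
  have hm2 : 2 ≤ m := by
    by_contra h
    have h1 := hexp z hzA
    interval_cases m
    · simp at h1; exact hz2 (by rw [h1, one_mul])
    · exact hz2 (by simpa [pow_two] using h1)
  have hρ : ∀ e : P, e * e = 1 → ∃ b ∈ A, b ^ 2 ^ (m - 1) = e := by
    intro e he
    rcases eq_or_ne e 1 with rfl | he1
    · exact ⟨1, one_mem _, one_pow _⟩
    have hnot := Nat.find_min hex (show m - 1 < m by omega)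
    push Not at hnot
    obtain ⟨a, ha, hne⟩ := hnot
    have hsq : a ^ 2 ^ (m - 1) * a ^ 2 ^ (m - 1) = 1 := by
      rw [← pow_two, ← pow_mul, ← pow_succ, show m - 1 + 1 = m by omega]; exact hexp a ha
    obtain ⟨i, hi⟩ := htr _ e hne hsq he1 he
    exact ⟨(κ ^ (2 * i)) a, hAκ' _ a ha, by rw [← map_pow, hi]⟩
  have hH : ∀ l, l ≤ m → ∀ a ∈ A, a ^ 2 ^ l = 1 → ∃ b ∈ A, b ^ 2 ^ (m - l) = a := by
    intro l
    induction l with
    | zero =>
      intro _ a ha h
      exact ⟨1, one_mem _, by rw [one_pow]; simpa using h.symm⟩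
    | succ l ih =>
      intro hl a ha h
      obtain ⟨b, hb, hbe⟩ := hρ (a ^ 2 ^ l) (by rw [← pow_two, ← pow_mul, ← pow_succ]; exact h)
      set w := (b ^ 2 ^ (m - (l + 1)))⁻¹ * a with hw
      have hwl : w ^ 2 ^ l = 1 := by
        rw [hw, ((hAc b hb a ha).pow_left _).inv_left.mul_pow, inv_pow, ← pow_mul, ← pow_add,
          show m - (l + 1) + l = m - 1 by omega, hbe, inv_mul_cancel]
      obtain ⟨c, hc, hce⟩ := ih (by omega) w (mul_mem (inv_mem (pow_mem hb _)) ha) hwl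
      refine ⟨b * c ^ 2, mul_mem hb (pow_mem hc 2), ?_⟩
      rw [((hAc b hb c hc).pow_right 2).mul_pow, ← pow_mul, ← pow_succ',
        show m - (l + 1) + 1 = m - l by omega, hce, hw, mul_inv_cancel_left]
  have hfour : ∀ a ∈ A, a ^ 4 = 1 → a ∈ center P := by
    intro a ha h4
    rcases eq_or_ne (a * a) 1 with h | h
    · exact hinv a h
    have hsq : ∀ u : P, u ^ 4 = 1 → u * u * (u * u) = 1 := fun u hu => by
      rw [← hu, pow_succ, pow_succ, pow_two, mul_assoc (u * u)]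
    obtain ⟨i, hi⟩ := htr _ _ hz2 (hsq z hz4) h (hsq a h4)
    have hzi : (κ ^ (2 * i)) z ∈ center P := mem_center_iff.2 fun g => by
      have := congrArg (κ ^ (2 * i)) (mem_center_iff.1 hz ((κ ^ (2 * i)).symm g))
      simpa using this
    set w := (κ ^ (2 * i)) z
    have hw : w * w = a * a := by rw [← map_mul, hi]
    have hinv2 : (a * w⁻¹) * (a * w⁻¹) = 1 := by
      have := mem_center_iff.1 hzi a
      calc a * w⁻¹ * (a * w⁻¹) = a * (w⁻¹ * a) * w⁻¹ := by group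
        _ = a * (a * w⁻¹) * w⁻¹ := by rw [((show Commute a w from this).inv_right).eq]
        _ = a * a * (w * w)⁻¹ := by group
        _ = 1 := by rw [hw, mul_inv_cancel]
    have := mul_mem (hinv _ hinv2) hzi
    rwa [inv_mul_cancel_right] at this
  have hdA : ∀ g, ∀ a ∈ A, dl g a ∈ A := fun g a ha => mul_mem (hAn.conj_mem a ha g) (inv_mem ha)
  have hdmul : ∀ g, ∀ a ∈ A, ∀ b ∈ A, dl g (a * b) = dl g a * dl g b := by
    intro g a ha b hb
    rw [dl_mul_right, (hAc a ha _ (hdA g b hb)).eq, mul_inv_cancel_right]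
  have hdpow : ∀ g, ∀ a ∈ A, ∀ n : ℕ, dl g (a ^ n) = dl g a ^ n := by
    intro g a ha n
    induction n with
    | zero => simp [dl]
    | succ n ih => rw [pow_succ, hdmul g _ (pow_mem ha n) a ha, ih, ← pow_succ]
  have hdc : ∀ g, ∀ a ∈ center P, dl g a = 1 := fun g a ha => by
    rw [dl, mem_center_iff.1 ha g, mul_inv_cancel_right, mul_inv_cancel]
  have hdlow : ∀ g, ∀ a ∈ A, dl g a ^ 2 ^ (m - 2) = 1 := fun g a ha => by
    rw [← hdpow g a ha]
    refine hdc g _ (hfour _ (pow_mem ha _) ?_)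
    rw [← pow_mul, show 2 ^ (m - 2) * 4 = 2 ^ m by
      rw [show (4 : ℕ) = 2 ^ 2 by norm_num, ← pow_add, show m - 2 + 2 = m by omega]]
    exact hexp a ha
  have hd4 : ∀ g, ∀ a ∈ A, ∃ c ∈ A, c ^ 4 = dl g a := fun g a ha => by
    obtain ⟨c, hc, hce⟩ := hH (m - 2) (by omega) _ (hdA g a ha) (hdlow g a ha)
    rw [show m - (m - 2) = 2 by omega] at hce
    exact ⟨c, hc, by simpa using hce⟩
  have hN : ∀ g : P, ∀ y ∈ A, ∃ a ∈ A, dl g a * a ^ 2 = y ^ 2 := by
    intro g y hy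
    suffices ∀ l : ℕ, ∃ a ∈ A, ∃ r ∈ A, dl g a * a ^ 2 * r ^ 2 ^ (l + 1) = y ^ 2 by
      obtain ⟨a, ha, r, hr, e⟩ := this m
      rw [show 2 ^ (m + 1) = 2 ^ m * 2 from pow_succ 2 m, pow_mul, hexp r hr, one_pow, mul_one] at e
      exact ⟨a, ha, e⟩
    intro l
    induction l with
    | zero => exact ⟨1, one_mem _, y, hy, by simp [dl]⟩
    | succ l ih =>
      obtain ⟨a, ha, r, hr, e⟩ := ih
      obtain ⟨d, hd, hde⟩ := hd4 g r hr
      refine ⟨a * r ^ 2 ^ l, mul_mem ha (pow_mem hr _), (d ^ 1)⁻¹, inv_mem (pow_mem hd 1), ?_⟩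
      rw [hdmul g a ha _ (pow_mem hr _), hdpow g r hr, ← hde, (hAc a ha _ (pow_mem hr _)).mul_pow,
        ← pow_mul, ← pow_mul, ← pow_succ, pow_one, inv_pow, ← e,
        show 4 * 2 ^ l = 2 ^ (l + 1 + 1) by ring]
      have c1 : Commute (d ^ 2 ^ (l + 1 + 1)) (a ^ 2) := ((hAc d hd a ha).pow_pow _ _)
      have c2 : Commute (d ^ 2 ^ (l + 1 + 1)) (r ^ 2 ^ (l + 1)) := ((hAc d hd r hr).pow_pow _ _)
      calc dl g a * d ^ 2 ^ (l + 1 + 1) * (a ^ 2 * r ^ 2 ^ (l + 1)) * (d ^ 2 ^ (l + 1 + 1))⁻¹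
          = dl g a * (d ^ 2 ^ (l + 1 + 1) * (a ^ 2 * r ^ 2 ^ (l + 1))) * (d ^ 2 ^ (l + 1 + 1))⁻¹ := by group
        _ = dl g a * (a ^ 2 * r ^ 2 ^ (l + 1) * d ^ 2 ^ (l + 1 + 1)) * (d ^ 2 ^ (l + 1 + 1))⁻¹ := by
            rw [(c1.mul_right c2).eq]
        _ = _ := by group
  -- the next layer
  let T : Subgroup P :=
    { carrier := {g | g ^ 2 ∈ A ∧ ∀ p, dl g p ∈ A}
      one_mem' := ⟨by simp, fun p => by simp [dl]⟩
      mul_mem' := fun {g h} hg hh => by
        refine ⟨?_, fun p => ?_⟩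
        · have : (g * h) ^ 2 = g ^ 2 * (dl g⁻¹ h * h ^ 2) := by
            simp only [dl, pow_two]; group
          rw [this]
          refine mul_mem hg.1 (mul_mem ?_ hh.1)
          have e : dl g⁻¹ h = g⁻¹ * (dl g h)⁻¹ * g⁻¹⁻¹ := by simp only [dl]; group
          rw [e]; exact hAn.conj_mem _ (inv_mem (hg.2 h)) _
        · rw [dl_mul]; exact mul_mem (hAn.conj_mem _ (hh.2 p) g) (hg.2 p)
      inv_mem' := fun {g} hg => by
        refine ⟨by rw [inv_pow]; exact inv_mem hg.1, fun p => ?_⟩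
        have e : dl g⁻¹ p = g⁻¹ * (dl g p)⁻¹ * g⁻¹⁻¹ := by simp only [dl]; group
        rw [e]; exact hAn.conj_mem _ (inv_mem (hg.2 p)) _ }
  have hAT : A ≤ T := fun a ha => ⟨pow_mem ha 2, fun p => by
    have h1 : dl a p = a * (p * a⁻¹ * p⁻¹) := by simp only [dl]; group
    rw [h1]; exact mul_mem ha (hAn.conj_mem _ (inv_mem ha) p)⟩
  have hTκ : ∀ g ∈ T, κ g ∈ T := by
    intro g hg
    refine ⟨by rw [← map_pow]; exact hAκ _ hg.1, fun p => ?_⟩
    have := hAκ _ (hg.2 (κ⁻¹ p))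
    rw [← dl_map] at this
    rwa [MulAut.apply_inv_self] at this
  have hTκ' : ∀ i : ℤ, ∀ g ∈ T, (κ ^ i) g ∈ T := by
    have heq : T.map κ.toMonoidHom = T :=
      eq_of_le_of_card_ge (by rintro _ ⟨a, ha, rfl⟩; exact hTκ a ha)
        (card_map_of_injective κ.injective).ge
    intro i
    induction i using Int.induction_on with
    | zero => intro a ha; simpa using ha
    | succ i ih => intro a ha; rw [zpow_add, zpow_one, MulAut.mul_apply]; exact ih _ (hTκ a ha)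
    | pred i ih =>
      intro a ha
      rw [zpow_sub, zpow_one, MulAut.mul_apply]
      refine ih _ ?_
      obtain ⟨b, hb, hbe⟩ := heq.ge ha
      rw [← hbe, MulEquiv.coe_toMonoidHom, MulAut.inv_apply_self]
      exact hb
  -- squares of commutators
  have hsq : ∀ g ∈ T, ∀ h ∈ T, dl g h * (h * dl g h * h⁻¹) = dl g (h ^ 2) := fun g _ h _ => by
    simp only [dl, pow_two]; group
  have hxT : ∀ g ∈ T, ∀ h ∈ T, dl g h ^ 2 ^ (m - 1) = 1 := by
    intro g hg h hh
    have hx := hg.2 h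
    obtain ⟨c, hc, hce⟩ := hd4 g _ hh.1
    obtain ⟨d, hd, hde⟩ := hd4 h _ hx
    have e1 : h * dl g h * h⁻¹ = dl h (dl g h) * dl g h := by
      simp only [dl]; group
    have e2 := hsq g hg h hh
    rw [e1, ← hde, ← hce, ← mul_assoc, ((hAc _ hx d hd).pow_right 4).eq, mul_assoc, ← pow_two] at e2
    have e3 : dl g h ^ 2 = (d ^ 4)⁻¹ * c ^ 4 := by rw [← e2, inv_mul_cancel_left]
    rw [show 2 ^ (m - 1) = 2 * 2 ^ (m - 2) by rw [← pow_succ']; congr 1; omega, pow_mul, e3,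
      ((hAc d hd c hc).pow_pow 4 4).inv_left.mul_pow, inv_pow, ← pow_mul, ← pow_mul,
      show 4 * 2 ^ (m - 2) = 2 ^ m by
        rw [show (4 : ℕ) = 2 ^ 2 by norm_num, ← pow_add, show 2 + (m - 2) = m by omega],
      hexp d hd, hexp c hc, inv_one, one_mul]
  have hπmul : ∀ g ∈ T, ∀ h ∈ T, (g * h) ^ 2 ^ m = g ^ 2 ^ m * h ^ 2 ^ m := by
    intro g hg h hh
    have hx : dl g⁻¹ h ∈ A := (inv_mem hg : g⁻¹ ∈ T).2 h
    have e : (g * h) ^ 2 = g ^ 2 * (dl g⁻¹ h * h ^ 2) := by simp only [dl, pow_two]; group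
    have h2 : 2 ^ m = 2 * 2 ^ (m - 1) := by rw [← pow_succ']; congr 1; omega
    rw [h2, pow_mul, pow_mul, pow_mul, e,
      ((hAc _ hg.1 _ (mul_mem hx hh.1))).mul_pow, (hAc _ hx _ hh.1).mul_pow,
      hxT _ (inv_mem hg) h hh, one_mul]
  have hπE : ∀ g ∈ T, g ^ 2 ^ m * g ^ 2 ^ m = 1 := fun g hg => by
    rw [← pow_two, ← pow_mul, ← pow_succ, pow_succ', pow_mul]; exact hexp _ hg.1
  have hπker : ∀ g ∈ T, g ^ 2 ^ m = 1 → g ∈ A := by
    intro g hg h1
    obtain ⟨y, hy, hye⟩ := hH (m - 1) (by omega) (g ^ 2) hg.1 (by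
      rw [← pow_mul, ← pow_succ', show m - 1 + 1 = m by omega]; exact h1)
    rw [show m - (m - 1) = 1 by omega, pow_one] at hye
    obtain ⟨a, ha, hae⟩ := hN g (y⁻¹) (inv_mem hy)
    rw [inv_pow, hye] at hae
    have hga : (g * a) * (g * a) = 1 := by
      calc g * a * (g * a) = (dl g a * a) * g ^ 2 * a := by simp only [dl, pow_two]; group
        _ = (dl g a * a) * (a * g ^ 2) := by rw [mul_assoc, (hAc _ hg.1 a ha).eq]
        _ = (dl g a * a ^ 2) * g ^ 2 := by rw [pow_two a]; group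
        _ = 1 := by rw [hae, inv_mul_cancel]
    have := mul_mem (hZA (hinv _ hga)) (inv_mem ha)
    rwa [mul_inv_cancel_right] at this
  obtain ⟨x₁, hx₁T, hx₁A⟩ : ∃ g ∈ T, g ∉ A := by
    haveI := hAn
    have hne : Nontrivial (P ⧸ A) := by
      refine QuotientGroup.nontrivial_iff.2 fun e => ?_
      obtain ⟨u, v, huv⟩ := hna
      exact huv (hAc u (e ▸ mem_top u) v (e ▸ mem_top v)).eq
    haveI := (hp.to_quotient A).center_nontrivial
    obtain ⟨n, hn, hcard⟩ := ((hp.to_quotient A).to_subgroup (center (P ⧸ A))).nontrivial_iff_card.1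
      inferInstance
    obtain ⟨w, hw⟩ := exists_prime_orderOf_dvd_card' (G := center (P ⧸ A)) 2
      (hcard ▸ dvd_pow_self 2 hn.ne')
    obtain ⟨g, hg⟩ := QuotientGroup.mk_surjective (w : P ⧸ A)
    refine ⟨g, ⟨(QuotientGroup.eq_one_iff _).1 ?_, fun p => (QuotientGroup.eq_one_iff _).1 ?_⟩, fun hgA => ?_⟩
    · rw [QuotientGroup.mk_pow, hg, ← SubmonoidClass.coe_pow, ← hw, pow_orderOf_eq_one, OneMemClass.coe_one]
    · simp only [dl, QuotientGroup.mk_mul, QuotientGroup.mk_inv, hg]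
      rw [← mem_center_iff.1 w.2 (p : P ⧸ A)]
      group
    · have h1 : w = 1 := Subtype.ext (hg.symm.trans ((QuotientGroup.eq_one_iff g).2 hgA))
      rw [h1, orderOf_one] at hw
      norm_num at hw
  have hπsurj : ∀ e : P, e * e = 1 → ∃ g ∈ T, g ^ 2 ^ m = e := by
    intro e he
    rcases eq_or_ne e 1 with rfl | he1
    · exact ⟨1, one_mem _, one_pow _⟩
    obtain ⟨i, hi⟩ := htr _ e (fun h => hx₁A (hπker _ hx₁T h)) (hπE _ hx₁T) he1 he
    exact ⟨(κ ^ (2 * i)) x₁, hTκ' _ _ hx₁T, by rw [← map_pow, hi]⟩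
  let lp : P → P := fun x => if h : ∃ g ∈ T, g ^ 2 ^ m = x then h.choose else 1
  have hlp : ∀ x, x * x = 1 → lp x ∈ T ∧ lp x ^ 2 ^ m = x := fun x hx => by
    simp only [lp, dif_pos (hπsurj x hx)]; exact (hπsurj x hx).choose_spec
  let la : P → P := fun x => if h : ∃ g ∈ A, g ^ 2 ^ (m - 1) = x then h.choose else 1
  have hla : ∀ x, x * x = 1 → la x ∈ A ∧ la x ^ 2 ^ (m - 1) = x := fun x hx => by
    simp only [la, dif_pos (hρ x hx)]; exact (hρ x hx).choose_spec
  -- `T` centralizes `A`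
  have hTA : ∀ j : ℕ, j ≤ m - 2 → ∀ g ∈ T, ∀ a ∈ A, dl g a ^ 2 ^ (m - 2 - j) = 1 := by
    intro j
    induction j with
    | zero => intro _ g _ a ha; simpa using hdlow g a ha
    | succ j ih =>
      intro hj
      specialize ih (by omega)
      set l := m - 2 - (j + 1) with hl
      rw [show m - 2 - j = l + 1 by omega] at ih
      let c : P → P → P := fun x y => dl (lp x) (la y) ^ 2 ^ l
      have hE : ∀ g ∈ T, ∀ a ∈ A, dl g a ^ 2 ^ l * dl g a ^ 2 ^ l = 1 := fun g hg a ha => by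
        rw [← pow_two, ← pow_mul, ← pow_succ]; exact ih g hg a ha
      have hgl : ∀ g ∈ T, ∀ h ∈ T, ∀ a ∈ A,
          dl (g * h) a ^ 2 ^ l = dl g a ^ 2 ^ l * dl h a ^ 2 ^ l := by
        intro g hg h hh a ha
        have e1 : g * dl h a * g⁻¹ = dl g (dl h a) * dl h a := by simp only [dl]; group
        have hA1 := hdA h a ha
        have e2 : dl g (dl h a) ^ 2 ^ l = 1 := by
          rw [← hdpow g _ hA1]; exact hdc g _ (hinv _ (hE h hh a ha))
        rw [dl_mul, e1, (hAc _ (mul_mem (hdA g _ hA1) hA1) _ (hdA g a ha)).mul_pow,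
          (hAc _ (hdA g _ hA1) _ hA1).mul_pow, e2, one_mul]
        exact ((hAc _ hA1 _ (hdA g a ha)).pow_pow _ _).eq
      have hgr : ∀ g ∈ T, ∀ a ∈ A, ∀ b ∈ A,
          dl g (a * b) ^ 2 ^ l = dl g a ^ 2 ^ l * dl g b ^ 2 ^ l := fun g _ a ha b hb => by
        rw [hdmul g a ha b hb, (hAc _ (hdA g a ha) _ (hdA g b hb)).mul_pow]
      have hwd : ∀ g ∈ T, ∀ a ∈ A, c (g ^ 2 ^ m) (a ^ 2 ^ (m - 1)) = dl g a ^ 2 ^ l := by
        intro g hg a ha
        have hgE := hπE g hg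
        have haE : a ^ 2 ^ (m - 1) * a ^ 2 ^ (m - 1) = 1 := by
          rw [← pow_two, ← pow_mul, ← pow_succ, show m - 1 + 1 = m by omega]; exact hexp a ha
        obtain ⟨hg', hge⟩ := hlp _ hgE
        obtain ⟨ha', hae⟩ := hla _ haE
        set g' := lp (g ^ 2 ^ m)
        set a' := la (a ^ 2 ^ (m - 1))
        have hu : g'⁻¹ * g ∈ A := by
          refine hπker _ (mul_mem (inv_mem hg') hg) ?_
          rw [hπmul _ (inv_mem hg') g hg, inv_pow, hge, inv_mul_cancel]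
        obtain ⟨v, hv, hve⟩ := hH (m - 1) (by omega) (a'⁻¹ * a) (mul_mem (inv_mem ha') ha) (by
          rw [(hAc _ (inv_mem ha') a ha).mul_pow, inv_pow, hae, inv_mul_cancel])
        rw [show m - (m - 1) = 1 by omega, pow_one] at hve
        have e1 : dl g a = dl g' a := by
          conv_lhs => rw [show g = g' * (g'⁻¹ * g) by group]
          rw [dl_mul, show dl (g'⁻¹ * g) a = 1 by
            rw [dl, (hAc _ hu a ha).eq, mul_inv_cancel_right, mul_inv_cancel]]
          group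
        show dl g' a' ^ 2 ^ l = dl g a ^ 2 ^ l
        rw [e1]
        conv_rhs => rw [show a = a' * (a'⁻¹ * a) by group]
        rw [hgr g' hg' a' ha' _ (mul_mem (inv_mem ha') ha), ← hve, hdpow g' v hv, ← pow_mul, ← pow_succ',
          ih g' hg' v hv, mul_one]
      have hc0 := alt_zero κ hinv htr c (fun x y hx hy => hE _ (hlp x hx).1 _ (hla y hy).1)
        (fun x x' y hx hx' hy => by
          obtain ⟨h1, e1⟩ := hlp x hx
          obtain ⟨h2, e2⟩ := hlp x' hx'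
          obtain ⟨h3, e3⟩ := hla y hy
          conv_lhs => rw [← e1, ← e2, ← e3, ← hπmul _ h1 _ h2, hwd _ (mul_mem h1 h2) _ h3, hgl _ h1 _ h2 _ h3])
        (fun x y y' hx hy hy' => by
          obtain ⟨h1, e1⟩ := hlp x hx
          obtain ⟨h2, e2⟩ := hla y hy
          obtain ⟨h3, e3⟩ := hla y' hy'
          conv_lhs => rw [← e1, ← e2, ← e3, ← (hAc _ h2 _ h3).mul_pow, hwd _ h1 _ (mul_mem h2 h3), hgr _ h1 _ h2 _ h3])
        (fun x y hx hy => by
          obtain ⟨h1, e1⟩ := hlp x hx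
          obtain ⟨h2, e2⟩ := hla y hy
          conv_lhs => rw [← e1, ← e2, map_pow, map_pow, hwd _ (hTκ _ h1) _ (hAκ _ h2), dl_map, ← map_pow])
        (fun x hx => by
          obtain ⟨h1, e1⟩ := hlp x hx
          have h2 : (lp x ^ 2) ^ 2 ^ (m - 1) = lp x ^ 2 ^ m := by
            rw [← pow_mul, ← pow_succ']; congr 2; omega
          conv_lhs => rw [← e1]
          nth_rewrite 2 [← h2]
          rw [hwd _ h1 _ h1.1, show dl (lp x) (lp x ^ 2) = 1 by simp only [dl, pow_two]; group, one_pow])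
      intro g hg a ha
      rw [← hwd g hg a ha]
      exact hc0 _ _ (hπE g hg) (by
        rw [← pow_two, ← pow_mul, ← pow_succ, show m - 1 + 1 = m by omega]; exact hexp a ha)
  have hTA' : ∀ g ∈ T, ∀ a ∈ A, dl g a = 1 := fun g hg a ha => by
    simpa using hTA (m - 2) le_rfl g hg a ha
  -- `T` is abelian
  have hTE : ∀ g ∈ T, ∀ h ∈ T, dl g h * dl g h = 1 := by
    intro g hg h hh
    have h1 := hTA' h hh _ (hg.2 h)
    have h2 := hsq g hg h hh
    rw [hTA' g hg _ hh.1] at h2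
    rw [dl, mul_inv_eq_one] at h1
    rwa [h1] at h2
  let c : P → P → P := fun x y => dl (lp x) (lp y)
  have hwd : ∀ g ∈ T, ∀ h ∈ T, c (g ^ 2 ^ m) (h ^ 2 ^ m) = dl g h := by
    intro g hg h hh
    obtain ⟨hg', hge⟩ := hlp _ (hπE g hg)
    obtain ⟨hh', hhe⟩ := hlp _ (hπE h hh)
    set g' := lp (g ^ 2 ^ m)
    set h' := lp (h ^ 2 ^ m)
    have hu : g'⁻¹ * g ∈ A := by
      refine hπker _ (mul_mem (inv_mem hg') hg) ?_
      rw [hπmul _ (inv_mem hg') g hg, inv_pow, hge, inv_mul_cancel]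
    have hv : h'⁻¹ * h ∈ A := by
      refine hπker _ (mul_mem (inv_mem hh') hh) ?_
      rw [hπmul _ (inv_mem hh') h hh, inv_pow, hhe, inv_mul_cancel]
    have e1 : dl (g'⁻¹ * g) h = 1 := by
      have := hTA' h hh _ hu
      simp only [dl] at this ⊢
      rw [mul_inv_eq_one, mul_inv_eq_iff_eq_mul] at this ⊢
      exact this.symm
    show dl g' h' = dl g h
    conv_rhs => rw [show g = g' * (g'⁻¹ * g) by group, dl_mul, e1]
    conv_rhs => rw [show h = h' * (h'⁻¹ * h) by group, dl_mul_right, hTA' g' hg' _ hv]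
    group
  have hc0 := alt_zero κ hinv htr c (fun x y hx hy => hTE _ (hlp x hx).1 _ (hlp y hy).1)
    (fun x x' y hx hx' hy => by
      obtain ⟨h1, e1⟩ := hlp x hx
      obtain ⟨h2, e2⟩ := hlp x' hx'
      obtain ⟨h3, e3⟩ := hlp y hy
      conv_lhs => rw [← e1, ← e2, ← e3, ← hπmul _ h1 _ h2, hwd _ (mul_mem h1 h2) _ h3, dl_mul]
      rw [mem_center_iff.1 (hinv _ (hTE _ h2 _ h3)) (lp x), mul_inv_cancel_right]
      exact (mem_center_iff.1 (hinv _ (hTE _ h2 _ h3)) _).symm)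
    (fun x y y' hx hy hy' => by
      obtain ⟨h1, e1⟩ := hlp x hx
      obtain ⟨h2, e2⟩ := hlp y hy
      obtain ⟨h3, e3⟩ := hlp y' hy'
      conv_lhs => rw [← e1, ← e2, ← e3, ← hπmul _ h2 _ h3, hwd _ h1 _ (mul_mem h2 h3), dl_mul_right]
      rw [mem_center_iff.1 (hinv _ (hTE _ h1 _ h3)) (lp y), mul_inv_cancel_right])
    (fun x y hx hy => by
      obtain ⟨h1, e1⟩ := hlp x hx
      obtain ⟨h2, e2⟩ := hlp y hy
      conv_lhs => rw [← e1, ← e2, map_pow, map_pow, hwd _ (hTκ _ h1) _ (hTκ _ h2), dl_map])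
    (fun x _ => by simp only [c, dl]; group)
  have hTc : ∀ g ∈ T, ∀ h ∈ T, Commute g h := by
    intro g hg h hh
    have := hc0 _ _ (hπE g hg) (hπE h hh)
    rw [hwd g hg h hh, dl, mul_inv_eq_one, mul_inv_eq_iff_eq_mul] at this
    exact this
  have hTn : T.Normal := ⟨fun g hg p => by
    have e : p * g * p⁻¹ = (dl g p)⁻¹ * g := by simp only [dl]; group
    rw [e]
    exact mul_mem (inv_mem (hAT (hg.2 p))) hg⟩
  exact hx₁A (hAmax ⟨hZA.trans hAT, hTc, hTn, hTκ⟩ hAT hx₁T)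

end Helpers


/-- In a Suzuki 2-group `P` (a finite non-abelian 2-group with more than one involution admitting a cyclic group of automorphisms regular on its involutions) the involutions are exactly the non-identity central elements, and `Z(P)` is elementary abelian. -/
theorem result {P : Type*} [Group P] (hP : Cfsg.IsSuzukiTwoGroup P) :
    (∀ x : P, (x ≠ 1 ∧ x * x = 1) ↔ (x ∈ Subgroup.center P ∧ x ≠ 1)) ∧
      ∀ z ∈ Subgroup.center P, z * z = 1 := by
  skip
  classical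
  obtain ⟨hfin, hp, hna, ⟨u, v, huv, hu1, hu2, hv1, hv2⟩, K, hK, htr⟩ := hP
  haveI := hfin
  obtain ⟨⟨κ, hκK⟩, hgen⟩ := hK.exists_generator
  haveI : Nontrivial P := ⟨⟨u, 1, hu1⟩⟩
  haveI := hp.center_nontrivial
  obtain ⟨n, hn, hcard⟩ := (hp.to_subgroup (Subgroup.center P)).nontrivial_iff_card.1 inferInstance
  obtain ⟨w, hw⟩ := exists_prime_orderOf_dvd_card' (G := Subgroup.center P) 2 (hcard ▸ dvd_pow_self 2 hn.ne')
  have hw1 : (w : P) ≠ 1 := fun e => by
    rw [show w = 1 from Subtype.ext e, orderOf_one] at hw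
    norm_num at hw
  have hw2 : (w : P) * w = 1 := by
    rw [← pow_two, ← SubmonoidClass.coe_pow, ← hw, pow_orderOf_eq_one, OneMemClass.coe_one]
  have hinv : ∀ x : P, x * x = 1 → x ∈ Subgroup.center P := by
    intro x hx
    rcases eq_or_ne x 1 with rfl | hx1
    · exact one_mem _
    obtain ⟨k, hk, -⟩ := htr w x hw1 hw2 hx1 hx
    rw [← hk]
    refine Subgroup.mem_center_iff.2 fun g => ?_
    have := congrArg (k : MulAut P) (Subgroup.mem_center_iff.1 w.2 ((k : MulAut P).symm g))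
    simpa using this
  let E : Subgroup P :=
    { carrier := {x | x * x = 1}
      one_mem' := one_mul 1
      mul_mem' := fun {a b} (ha : a * a = 1) (hb : b * b = 1) => by
        show a * b * (a * b) = 1
        calc a * b * (a * b) = a * (b * a) * b := by group
          _ = a * (a * b) * b := by rw [Subgroup.mem_center_iff.1 (hinv a ha) b]
          _ = (a * a) * (b * b) := by group
          _ = 1 := by rw [ha, hb, one_mul]
      inv_mem' := fun {a} (ha : a * a = 1) => by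
        show a⁻¹ * a⁻¹ = 1
        rw [← mul_inv_rev, ha, inv_one] }
  have hodd : Odd (Nat.card K) := by
    have hbij : Function.Bijective (fun k : K => (⟨(k : MulAut P) w,
        ⟨by simpa using hw1, sq_one_apply hw2 _⟩⟩ : {x : P // x ≠ 1 ∧ x * x = 1})) := by
      constructor
      · intro a b hab
        exact (htr w ((a : MulAut P) w) hw1 hw2 (by simpa using hw1) (sq_one_apply hw2 _)).unique rfl
          (congrArg Subtype.val hab).symm
      · intro x
        obtain ⟨k, hk, -⟩ := htr w x.1 hw1 hw2 x.2.1 x.2.2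
        exact ⟨k, Subtype.ext hk⟩
    rw [Nat.card_eq_of_bijective _ hbij]
    obtain ⟨s, hs⟩ := IsPGroup.iff_card.1 (hp.to_subgroup E)
    haveI : Nontrivial E := ⟨⟨⟨w, hw2⟩, 1, fun e => hw1 (congrArg Subtype.val e)⟩⟩
    have hs0 : s ≠ 0 := by
      rintro rfl
      rw [pow_zero] at hs
      exact absurd hs (Finite.one_lt_card (α := E)).ne'
    have e : Nat.card {x : P // x ≠ 1 ∧ x * x = 1} = ((E : Set P) \ {1}).ncard := by
      rw [← Nat.card_coe_set_eq]
      exact Nat.card_congr (Equiv.subtypeEquivRight fun x => by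
        show x ≠ 1 ∧ x * x = 1 ↔ x * x = 1 ∧ x ∉ ({1} : Set P)
        simp [and_comm])
    rw [e, Set.ncard_sdiff_singleton_of_mem (one_mem E), ← Nat.card_coe_set_eq]
    rw [show Nat.card (E : Set P) = Nat.card E from rfl, hs]
    obtain ⟨r, rfl⟩ : ∃ r, s = r + 1 := ⟨s - 1, by omega⟩
    have h2 : 1 ≤ 2 ^ r := Nat.one_le_two_pow
    exact ⟨2 ^ r - 1, by rw [pow_succ]; omega⟩
  have htr' : ∀ x y : P, x ≠ 1 → x * x = 1 → y ≠ 1 → y * y = 1 → ∃ i : ℤ, (κ ^ (2 * i)) x = y := by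
    intro x y hx1 hx2 hy1 hy2
    obtain ⟨k, hk, -⟩ := htr x y hx1 hx2 hy1 hy2
    obtain ⟨i, hi⟩ := Subgroup.mem_zpowers_iff.1 (hgen k)
    obtain ⟨d, hd⟩ := hodd
    refine ⟨i * (d + 1), ?_⟩
    have hκc : κ ^ ((2 * d + 1 : ℕ) : ℤ) = 1 := by
      rw [zpow_natCast, ← hd]
      exact congrArg Subtype.val (pow_card_eq_one' (x := (⟨κ, hκK⟩ : K)))
    have e : κ ^ (2 * (i * (d + 1)) : ℤ) = (k : MulAut P) := by
      rw [show (2 * (i * (d + 1)) : ℤ) = ((2 * d + 1 : ℕ) : ℤ) * i + i by push_cast; ring, zpow_add,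
        zpow_mul, hκc, one_zpow, one_mul, ← hi]
      rfl
    rw [e, hk]
  have hexp : ∀ z ∈ Subgroup.center P, z * z = 1 := by
    intro z hz
    by_contra hne
    obtain ⟨a, ha⟩ := IsPGroup.iff_orderOf.1 hp z
    have ha2 : 2 ≤ a := by
      by_contra h
      have h1 := pow_orderOf_eq_one z
      rw [ha] at h1
      interval_cases a
      · simp at h1; exact hne (by rw [h1, one_mul])
      · exact hne (by simpa [pow_two] using h1)
    refine no_exponent_four κ hp hna hinv htr' (z ^ 2 ^ (a - 2)) (pow_mem hz _) ?_ ?_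
    · rw [← pow_mul, show 2 ^ (a - 2) * 4 = 2 ^ a by
        rw [show (4 : ℕ) = 2 ^ 2 by norm_num, ← pow_add, show a - 2 + 2 = a by omega], ← ha,
        pow_orderOf_eq_one]
    · rw [← pow_two, ← pow_mul, ← pow_succ]
      intro h
      have := orderOf_dvd_of_pow_eq_one h
      rw [ha] at this
      have := (Nat.pow_dvd_pow_iff_le_right (by norm_num : 1 < 2)).1 this
      omega
  refine ⟨fun x => ⟨fun h => ⟨hinv x h.2, h.1⟩, fun h => ⟨h.2, hexp x h.1⟩⟩, hexp⟩

end Cfsg.Agent.S1137
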