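import Cfsg.Statements.S1141
import Cfsg.Agent.Lib.Fusion.SU3Count

set_option autoImplicit false
open Cfsg

namespace Cfsg.Agent.S1141

/-- Let `q = 2^n ≥ 4` and `|F| = q²`. A Sylow 2-subgroup `S` of `PSU₃(q)` has order `q³`, its centre has order `q`, and `S` is a Suzuki 2-group. -/
theorem result {F : Type*} [Field F] [Fintype F] {n : ℕ} (hn : 2 ≤ n)
    (hF : Fintype.card F = (2 ^ n) ^ 2) (S : Sylow 2 (Cfsg.PSU 3 F (2 ^ n))) :
    Nat.card S = (2 ^ n) ^ 3 ∧ Nat.card (Subgroup.center ↥(S : Subgroup (Cfsg.PSU 3 F (2 ^ n)))) = 2 ^ n ∧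
      Cfsg.IsSuzukiTwoGroup ↥(S : Subgroup (Cfsg.PSU 3 F (2 ^ n))) := by
  classical
  haveI : Fact (Nat.Prime 2) := ⟨Nat.prime_two⟩
  haveI : CharP F 2 := by
    obtain ⟨p, hp⟩ := CharP.exists F
    obtain ⟨k, hpp, hk⟩ := FiniteField.card F p
    have : p = 2 := by
      have h2 : p ∣ (2 ^ n) ^ 2 := by rw [← hF, hk]; exact dvd_pow_self p k.ne_zero
      exact (Nat.prime_dvd_prime_iff_eq hpp Nat.prime_two).1
        (hpp.dvd_of_dvd_pow (n := n) (hpp.dvd_of_dvd_pow h2))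
    exact this ▸ hp
  have C : PSUAut.Ctx F 3 (2 ^ n) := ⟨hF, le_rfl⟩
  have hch := SU3Index2.chart_sylow_psu' hF S
  have hc := hch.coord hF
  have hZ := hc.card_center hF
  refine ⟨hc.card_eq hF, hZ, inferInstance, S.isPGroup', ?_, ?_, ?_⟩
  · -- non-abelian
    by_contra! hcomm
    have e : Subgroup.center ↥(S : Subgroup (Cfsg.PSU 3 F (2 ^ n))) = ⊤ :=
      eq_top_iff.2 fun x _ => Subgroup.mem_center_iff.2 fun y => hcomm y x
    have h3 := hc.card_eq hF
    rw [e, Subgroup.card_top, h3] at hZ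
    have h4 : (4 : ℕ) ≤ 2 ^ n := Nat.pow_le_pow_right (n := 2) two_pos hn
    nlinarith
  · -- two involutions
    haveI : Fintype (Subgroup.center ↥(S : Subgroup (Cfsg.PSU 3 F (2 ^ n)))) := Fintype.ofFinite _
    have h4 : (4 : ℕ) ≤ 2 ^ n := Nat.pow_le_pow_right (n := 2) two_pos hn
    have h2 : 2 < Fintype.card (Subgroup.center ↥(S : Subgroup (Cfsg.PSU 3 F (2 ^ n)))) := by
      rw [← Nat.card_eq_fintype_card, hZ]; omega
    obtain ⟨a, b, c, hab, hac, hbc⟩ := Fintype.two_lt_card_iff.1 h2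
    have key : ∀ u v : Subgroup.center ↥(S : Subgroup (Cfsg.PSU 3 F (2 ^ n))), u ≠ v → u ≠ 1 → v ≠ 1 →
        ∃ x y : ↥(S : Subgroup (Cfsg.PSU 3 F (2 ^ n))), x ≠ y ∧ x ≠ 1 ∧ x * x = 1 ∧ y ≠ 1 ∧ y * y = 1 :=
      fun u v huv hu hv => ⟨u, v, fun h => huv (Subtype.ext h), fun h => hu (Subtype.ext h),
        hc.center_pow_two u.2, fun h => hv (Subtype.ext h), hc.center_pow_two v.2⟩
    by_cases ha : a = 1
    · subst ha; exact key b c hbc (Ne.symm hab) (Ne.symm hac)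
    by_cases hb : b = 1
    · subst hb; exact key a c hac ha (Ne.symm hbc)
    exact key a b hab ha hb
  · obtain ⟨π, ζ, hrel, hl1, hl2, hext, hex⟩ := hch
    let Gf : Subgroup Fˣ :=
      { carrier := {a | (a : F) ^ (2 ^ n) = a}
        one_mem' := by simp
        mul_mem' := fun {a b} ha hb => by
          show ((a * b : Fˣ) : F) ^ (2 ^ n) = (a * b : Fˣ)
          rw [Units.val_mul, mul_pow, show (a : F) ^ (2 ^ n) = a from ha, show (b : F) ^ (2 ^ n) = b from hb]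
        inv_mem' := fun {a} ha => by
          show ((a⁻¹ : Fˣ) : F) ^ (2 ^ n) = (a⁻¹ : Fˣ)
          rw [Units.val_inv_eq_inv_val, inv_pow, show (a : F) ^ (2 ^ n) = a from ha] }
    have hval : ∀ (a : Gf) (x : ↥(S : Subgroup (Cfsg.PSU 3 F (2 ^ n)))),
        ((a : Fˣ) : F) * (a : Fˣ) * ζ x + (((a : Fˣ) : F) * (a : Fˣ) * ζ x) ^ (2 ^ n) =
          ((a : Fˣ) : F) * π x * (((a : Fˣ) : F) * π x) ^ (2 ^ n) := fun a x => by
      rw [mul_pow, mul_pow, mul_pow, show ((a : Fˣ) : F) ^ (2 ^ n) = (a : Fˣ) from a.2]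
      linear_combination ((a : Fˣ) : F) * (a : Fˣ) * hrel x
    choose f hf1 hf2 using fun a x => hex _ _ (hval a x)
    have hfmul : ∀ a x y, f a (x * y) = f a x * f a y := fun a x y => hext _ _
      (by rw [hl1, hf1, hf1, hf1, hl1]; ring)
      (by
        rw [hl2, hf2, hf2, hf2, hf1, hf1, hl2, mul_pow, show ((a : Fˣ) : F) ^ (2 ^ n) = (a : Fˣ) from a.2]
        ring)
    have hfinj : ∀ a, Function.Injective (f a) := fun a x y e => by
      have e1 := congrArg π e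
      have e2 := congrArg ζ e
      rw [hf1, hf1] at e1
      rw [hf2, hf2] at e2
      exact hext _ _ (mul_left_cancel₀ (Units.ne_zero _) e1)
        (mul_left_cancel₀ (mul_ne_zero (Units.ne_zero _) (Units.ne_zero _)) e2)
    let Θ : Gf →* MulAut ↥(S : Subgroup (Cfsg.PSU 3 F (2 ^ n))) := MonoidHom.mk'
      (fun a => MulEquiv.ofBijective (MonoidHom.mk' (f a) (hfmul a))
        ⟨hfinj a, Finite.surjective_of_injective (hfinj a)⟩)
      fun a b => MulEquiv.ext fun x => hext _ _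
        (by show π (f (a * b) x) = π (f a (f b x))
            rw [hf1, hf1, hf1, Subgroup.coe_mul, Units.val_mul]; ring)
        (by show ζ (f (a * b) x) = ζ (f a (f b x))
            rw [hf2, hf2, hf2, Subgroup.coe_mul, Units.val_mul]; ring)
    haveI : IsCyclic Gf := inferInstance
    refine ⟨Θ.range, isCyclic_of_surjective Θ.rangeRestrict Θ.rangeRestrict_surjective, ?_⟩
    obtain ⟨h0, h0'⟩ : π 1 = 0 ∧ ζ 1 = 0 := by
      have e := hl1 1 1
      rw [mul_one] at e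
      have e0 : π 1 = 0 := by simpa using e.symm
      have e' := hl2 1 1
      rw [mul_one, e0, zero_mul, add_zero] at e'
      exact ⟨e0, by simpa using e'.symm⟩
    have hinv : ∀ x, x ≠ 1 → x * x = 1 → π x = 0 ∧ ζ x ^ (2 ^ n) = ζ x ∧ ζ x ≠ 0 := fun x hx hxx => by
      have e := congrArg ζ hxx
      rw [hl2, h0', CharTwo.add_self_eq_zero, zero_add] at e
      have hp : π x = 0 := by
        rcases mul_eq_zero.1 e with h | h
        · exact h
        · exact eq_zero_of_pow_eq_zero h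
      have er := hrel x
      rw [hp, zero_mul, CharTwo.add_eq_zero] at er
      exact ⟨hp, er.symm, fun h => hx (hext _ _ (hp.trans h0.symm) (h.trans h0'.symm))⟩
    intro x y hx hxx hy hyy
    obtain ⟨px, fx, nx⟩ := hinv x hx hxx
    obtain ⟨py, fy, ny⟩ := hinv y hy hyy
    -- square roots in the fixed field
    obtain ⟨d, hd⟩ : ∃ d, d = (ζ y / ζ x) ^ 2 ^ (n - 1) := ⟨_, rfl⟩
    have hcf : (ζ y / ζ x) ^ (2 ^ n) = ζ y / ζ x := by rw [div_pow, fx, fy]
    have hdq : d ^ (2 ^ n) = d := by rw [hd, ← pow_mul, mul_comm, pow_mul, hcf]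
    have hdd : d * d = ζ y / ζ x := by
      rw [hd, ← pow_two, ← pow_mul, ← pow_succ, Nat.sub_add_cancel (by omega : 1 ≤ n), hcf]
    have hd0 : d ≠ 0 := fun h => by
      rw [h, zero_mul] at hdd
      exact div_ne_zero ny nx hdd.symm
    refine ⟨⟨Θ ⟨Units.mk0 d hd0, hdq⟩, ⟨_, rfl⟩⟩, hext _ _ ?_ ?_, ?_⟩
    · show π (f _ x) = π y
      rw [hf1, px, py, mul_zero]
    · show ζ (f _ x) = ζ y
      rw [hf2, Units.val_mk0, hdd, div_mul_cancel₀ _ nx]
    · rintro ⟨_, ⟨a, rfl⟩⟩ ha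
      refine Subtype.ext (congrArg Θ (Subtype.ext (Units.ext ?_)))
      have e := congrArg ζ (show f a x = y from ha)
      rw [hf2] at e
      refine CharTwo.sq_injective ?_
      show ((a : Fˣ) : F) ^ 2 = d ^ 2
      rw [pow_two, pow_two, hdd, ← e, mul_div_assoc, div_self nx, mul_one]

end Cfsg.Agent.S1141
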