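import Cfsg.Statements.S1151
import Cfsg.Agent.Lib.SmallRee.Props
-- import your own Cfsg.Agent.* helpers here

set_option autoImplicit false
open Cfsg

namespace Cfsg.Agent.S1151

/-- In the small Ree group ²G₂(q), q = 3^(2m+1), realised as G¹ inside the Chevalley group G₂ over the field with q elements (θ the 3^m-th power map), with H¹ = G¹ ∩ H and U¹ = G¹ ∩ U the intersections with the ambient diagonal and positive unipotent subgroups: `H¹` has exactly `(q - 1)/2` elements of odd order, and each non-identity one centralises no non-identity element of `U¹`. -/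
theorem result {K : Type*} [Field K] [Fintype K] {m : ℕ} (hK : Fintype.card K = 3 ^ (2 * m + 1)) :
    2 * Nat.card {h : ↥(Cfsg.Lie.chevG2.diagonalSubgroup K ⊓ Cfsg.Lie.twistedG2 K (3 ^ m)) // Odd (orderOf h)} = 3 ^ (2 * m + 1) - 1 ∧
      ∀ h ∈ (Cfsg.Lie.chevG2.diagonalSubgroup K ⊓ Cfsg.Lie.twistedG2 K (3 ^ m)), h ≠ 1 → Odd (orderOf h) →
        (Cfsg.Lie.chevG2.posUnipotent K ⊓ Cfsg.Lie.twistedG2 K (3 ^ m)) ⊓ Subgroup.centralizer {h} = ⊥ := by
  obtain ⟨hchar, S, hS⟩ := Cfsg.Agent.SmallRee.exists_setup hK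
  rw [← S.Gr_eq hK hS]
  have he := Cfsg.Agent.SmallRee.infEquiv (Cfsg.Lie.chevG2.diagonalSubgroup K) S.Gr
  refine ⟨?_, ?_⟩
  · have e2 : {h : ↥(Cfsg.Lie.chevG2.diagonalSubgroup K ⊓ S.Gr) // Odd (orderOf h)} ≃ {v : Kˣ // Odd (orderOf v)} :=
      Equiv.subtypeEquiv (he.trans S.Dequiv.symm).toEquiv fun h => by
        show Odd (orderOf h) ↔ Odd (orderOf ((he.trans S.Dequiv.symm) h))
        rw [MulEquiv.orderOf_eq]
    rw [Nat.card_congr e2, Cfsg.Agent.SmallRee.Tw.card_odd_torus hK, hK]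
  · rintro h ⟨hd, hG⟩ h1 hodd
    refine (Subgroup.eq_bot_iff_forall _).mpr fun g hg => ?_
    obtain ⟨⟨hgU, hgG⟩, hgc⟩ := Subgroup.mem_inf.mp hg
    obtain ⟨v, hv⟩ := S.mem_H.mp (show (⟨h, hG⟩ : ↥S.Gr) ∈ S.HH from hd)
    obtain ⟨t, u, w, hr⟩ := S.mem_U.mp (show (⟨g, hgG⟩ : ↥S.Gr) ∈ S.UU from hgU)
    have hv1 : v ≠ 1 := fun e => h1 (by
      rw [e, map_one] at hv
      exact congrArg (fun z : ↥S.Gr => (z : GL Cfsg.Lie.chevG2.Idx K)) hv)
    have hv2 : v ≠ -1 := by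
      intro e
      have hsq : h * h = 1 := by
        have h2 : (⟨h, hG⟩ : ↥S.Gr) * ⟨h, hG⟩ = 1 := by rw [hv, e, ← map_mul, neg_one_mul, neg_neg, map_one]
        exact congrArg (fun z : ↥S.Gr => (z : GL Cfsg.Lie.chevG2.Idx K)) h2
      have h3 : orderOf h ∣ 2 := orderOf_dvd_of_pow_eq_one (by rw [pow_two, hsq])
      rcases (Nat.dvd_prime Nat.prime_two).mp h3 with h4 | h4
      · exact h1 (orderOf_eq_one_iff.mp h4)
      · rw [h4] at hodd; exact absurd hodd (by decide)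
    have hcomm : (⟨h, hG⟩ : ↥S.Gr) * ⟨g, hgG⟩ = ⟨g, hgG⟩ * ⟨h, hG⟩ :=
      Subtype.ext (Subgroup.mem_centralizer_iff.mp hgc h rfl)
    rw [hv, hr] at hcomm
    have e := S.D_conj v t u w
    rw [hcomm, mul_inv_cancel_right] at e
    obtain ⟨et, eu, ew⟩ := S.R_inj e
    have t0 : t = 0 := by
      by_contra ht
      exact hv1 (S.alpha_eq_one (mul_right_cancel₀ ht (et.symm.trans (one_mul t).symm)))
    have u0 : u = 0 := by
      by_contra ht
      exact S.beta_ne_one hv1 hv2 (mul_right_cancel₀ ht (eu.symm.trans (one_mul u).symm))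
    have w0 : w = 0 := by
      by_contra ht
      exact hv1 (Units.ext (mul_right_cancel₀ ht (ew.symm.trans (one_mul w).symm)))
    rw [t0, u0, w0, S.R_zero] at hr
    exact congrArg (fun z : ↥S.Gr => (z : GL Cfsg.Lie.chevG2.Idx K)) hr

end Cfsg.Agent.S1151
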