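import Cfsg.Statements.S1154
import Cfsg.Agent.Lib.SmallRee.Props
-- import your own Cfsg.Agent.* helpers here

set_option autoImplicit false
open Cfsg

namespace Cfsg.Agent.S1154

/-- In the small Ree group ²G₂(q), q = 3^(2m+1) with m ≥ 1, realised as G¹ inside the Chevalley group G₂ over the field with q elements (θ the 3^m-th power map), with `U¹ = G¹ ∩ U` (U the positive unipotent subgroup of the ambient G₂): `U¹` has exactly `q² - 1` elements of order 3. -/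
theorem result {K : Type*} [Field K] [Fintype K] {m : ℕ} (hm : 1 ≤ m) (hK : Fintype.card K = 3 ^ (2 * m + 1)) :
    Nat.card {u : ↥(Cfsg.Lie.chevG2.posUnipotent K ⊓ Cfsg.Lie.twistedG2 K (3 ^ m)) // orderOf u = 3} = (3 ^ (2 * m + 1)) ^ 2 - 1 := by
  obtain ⟨hchar, S, hS⟩ := Cfsg.Agent.SmallRee.exists_setup hK
  rw [← S.Gr_eq hK hS]
  classical
  haveI : Fact (Nat.Prime 3) := ⟨Nat.prime_three⟩
  have he := Cfsg.Agent.SmallRee.infEquiv (Cfsg.Lie.chevG2.posUnipotent K) S.Gr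
  have hiff : ∀ (x : ↥S.UU), orderOf x = 3 ↔ ∃ p : K × K, p ≠ 0 ∧ (x : ↥S.Gr) = S.R 0 p.1 p.2 := by
    intro x
    obtain ⟨t, u, w, hx⟩ := S.mem_U.mp x.2
    rw [orderOf_eq_prime_iff]
    rw [ne_eq, Subtype.ext_iff, Subtype.ext_iff (a2 := (1 : ↥S.UU)), Subgroup.coe_pow, Subgroup.coe_one, hx, S.cube_eq_one]
    constructor
    · rintro ⟨rfl, hne⟩
      refine ⟨(u, w), fun e => hne ?_, rfl⟩
      obtain ⟨rfl, rfl⟩ := Prod.mk.inj e
      exact S.R_zero
    · rintro ⟨p, hp, e⟩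
      obtain ⟨rfl, hu, hw⟩ := S.R_inj e
      refine ⟨rfl, fun h => hp ?_⟩
      rw [← S.R_zero] at h
      obtain ⟨-, h1, h2⟩ := S.R_inj h
      exact Prod.ext (hu.symm.trans h1) (hw.symm.trans h2)
  have e2 : {u : ↥(Cfsg.Lie.chevG2.posUnipotent K ⊓ S.Gr) // orderOf u = 3} ≃ {x : ↥S.UU // orderOf x = 3} :=
    Equiv.subtypeEquiv he.toEquiv fun h => by
      show orderOf h = 3 ↔ orderOf (he h) = 3
      rw [MulEquiv.orderOf_eq]
  rw [Nat.card_congr e2]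
  let f : {p : K × K // p ≠ 0} → {x : ↥S.UU // orderOf x = 3} := fun p =>
    ⟨⟨_, S.R_mem_U 0 p.1.1 p.1.2⟩, (hiff _).mpr ⟨p.1, p.2, rfl⟩⟩
  have hf : Function.Bijective f := by
    refine ⟨fun p q h => ?_, fun x => ?_⟩
    · obtain ⟨-, h1, h2⟩ := S.R_inj (congrArg (fun z : {x : ↥S.UU // orderOf x = 3} => (z.1 : ↥S.Gr)) h)
      exact Subtype.ext (Prod.ext h1 h2)
    · obtain ⟨p, hp, e⟩ := (hiff x.1).mp x.2
      exact ⟨⟨p, hp⟩, Subtype.ext (Subtype.ext e.symm)⟩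
  rw [← Nat.card_eq_of_bijective f hf, Nat.card_eq_fintype_card, Fintype.card_subtype_compl,
    Fintype.card_subtype_eq, Fintype.card_prod, hK, pow_two]

end Cfsg.Agent.S1154
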