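import Cfsg.Statements.S1158
import Cfsg.Agent.Lib.SmallRee.Counts

set_option autoImplicit false
open Cfsg

namespace Cfsg.Agent.S1158

/-- In the small Ree group ²G₂(q), q = 3^(2m+1) with m ≥ 1, realised as G¹ inside the Chevalley group G₂ over the field with q elements (θ the 3^m-th power map), with `r = 3^(m+1)` (so `r² = 3q`): for each `k ∈ {(q-1)/2, (q+1)/4, q - r + 1, q + r + 1}` there is a cyclic subgroup `A` of order `k` whose normaliser has order `2(q-1)`, `6(q+1)`, `6(q-r+1)`, `6(q+r+1)` respectively, and `N(A₀) = N(A)` for every non-trivial `A₀ ≤ A`. -/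
theorem result {K : Type*} [Field K] [Fintype K] {m : ℕ} (hm : 1 ≤ m) (hK : Fintype.card K = 3 ^ (2 * m + 1)) :
    ∀ kn ∈ ({((3 ^ (2 * m + 1) - 1) / 2, 2 * (3 ^ (2 * m + 1) - 1)), ((3 ^ (2 * m + 1) + 1) / 4, 6 * (3 ^ (2 * m + 1) + 1)),
        (3 ^ (2 * m + 1) - 3 ^ (m + 1) + 1, 6 * (3 ^ (2 * m + 1) - 3 ^ (m + 1) + 1)),
        (3 ^ (2 * m + 1) + 3 ^ (m + 1) + 1, 6 * (3 ^ (2 * m + 1) + 3 ^ (m + 1) + 1))} : Set (ℕ × ℕ)),
      ∃ A : Subgroup ↥(Cfsg.Lie.twistedG2 K (3 ^ m)), IsCyclic A ∧ Nat.card A = kn.1 ∧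
        Nat.card (Subgroup.normalizer (A : Set ↥(Cfsg.Lie.twistedG2 K (3 ^ m)))) = kn.2 ∧
        ∀ A₀ : Subgroup ↥(Cfsg.Lie.twistedG2 K (3 ^ m)), A₀ ≤ A → A₀ ≠ ⊥ →
          Subgroup.normalizer (A₀ : Set ↥(Cfsg.Lie.twistedG2 K (3 ^ m))) = Subgroup.normalizer (A : Set ↥(Cfsg.Lie.twistedG2 K (3 ^ m))) := by
  obtain ⟨hchar, T, hT⟩ := Cfsg.Agent.SmallRee.exists_setup hK
  obtain ⟨a1, a2, a3, a4, a5, o1, o2, o3, o4, b1, b2, b3, b4⟩ := Cfsg.Agent.SmallRee.Tw.arith' (F := K) hm hK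
  rw [← T.Gr_eq hK hT, ← hK]
  intro kn hkn
  obtain ⟨k, hk, hk1, hk2⟩ : ∃ k ∈ Cfsg.Agent.SmallRee.oddOrders (Fintype.card K) (3 ^ (m + 1)),
      kn.1 = k ∧ kn.2 = Cfsg.Agent.SmallRee.cOf (Fintype.card K) k *
        Cfsg.Agent.SmallRee.bigOf (Fintype.card K) (3 ^ (m + 1)) k := by
    simp only [Set.mem_insert_iff, Set.mem_singleton_iff] at hkn
    rcases hkn with rfl | rfl | rfl | rfl <;> refine ⟨_, ?_, rfl, ?_⟩ <;>
      first
        | simp [Cfsg.Agent.SmallRee.oddOrders]; done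
        | simp only [Cfsg.Agent.SmallRee.cOf, Cfsg.Agent.SmallRee.bigOf]
    · simp
    · rw [if_neg (by omega), if_neg (by omega)]; simp
    · rw [if_neg (by omega), if_neg (by omega), if_neg (by omega)]
    · rw [if_neg (by omega), if_neg (by omega), if_neg (by omega)]
  obtain ⟨A, hA, hAk, -⟩ := T.exists_kind hm hK hT hk
  exact ⟨A, hA, hAk.trans hk1.symm, ((T.main_counts hm hK hT).2.2.2.2 k hk A hA hAk).trans hk2.symm,
    fun A₀ hle h0 => T.norm_sub hm hK hT hk hA hAk hle h0⟩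

end Cfsg.Agent.S1158
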