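import Cfsg.Statements.S1160
import Cfsg.Agent.Lib.Recog.HalfTrans

set_option autoImplicit false
open Cfsg

namespace Cfsg.Agent.S1160



/-- Let `p ≠ 2` be prime and `P` a finite `p`-group acting faithfully by additive automorphisms on a finite elementary abelian `q`-group `E` (`q` prime), such that `|P_a|` is the same for all `a ≠ 0`. Then `P` is cyclic and every non-identity element of `P` fixes only `0`. -/
theorem result {P E : Type*} [Group P] [Finite P]
    [AddCommGroup E] [Finite E] [DistribMulAction P E] [FaithfulSMul P E]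
    {p q : ℕ} [Fact p.Prime] (hp2 : p ≠ 2) (hP : IsPGroup p P) (hq : q.Prime) (hE : ∀ e : E, q • e = 0)
    (hconst : ∀ a b : E, a ≠ 0 → b ≠ 0 →
      Nat.card (MulAction.stabilizer P a) = Nat.card (MulAction.stabilizer P b)) :
    IsCyclic P ∧ ∀ g : P, g ≠ 1 → ∀ a : E, g • a = a → a = 0 := by
  by_cases hne : ∃ e : E, e ≠ 0
  · have hcase : p.Coprime q ∨ ∀ g : P, g = 1 := by
      by_cases hpq : p = q
      · refine Or.inr fun g => ?_
        subst hpq
        obtain ⟨e, he⟩ := hne
        have hdvd : p ∣ Nat.card E := by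
          have h1 : addOrderOf e ∣ p := addOrderOf_dvd_of_nsmul_eq_zero (hE e)
          rcases (Nat.dvd_prime hq).1 h1 with h | h
          · exact absurd (AddMonoid.addOrderOf_eq_one_iff.1 h) he
          · exact h ▸ addOrderOf_dvd_natCard e
        obtain ⟨a, ha, ha0⟩ := hP.exists_fixed_point_of_prime_dvd_card_of_fixed_point E hdvd
          (a := (0 : E)) (MulAction.mem_fixedPoints.2 fun m => smul_zero m)
        refine eq_of_smul_eq_smul fun b : E => ?_
        rw [one_smul]
        by_cases hb : b = 0
        · rw [hb, smul_zero]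
        · have htop : MulAction.stabilizer P a = ⊤ := (Subgroup.eq_top_iff' _).2 fun m => ha m
          have : MulAction.stabilizer P b = ⊤ :=
            Subgroup.eq_top_of_card_eq _ (by rw [← hconst a b (Ne.symm ha0) hb, htop, Subgroup.card_top])
          exact ((Subgroup.eq_top_iff' _).1 this g : g • b = b)
      · exact Or.inl ((Nat.coprime_primes Fact.out hq).2 hpq)
    rcases hcase with hpq | htriv
    · haveI := Cfsg.Agent.Recog.HalfTrans.isCyclic hP hpq hE hconst hp2 hne
      exact ⟨this, fun g hg a h => Cfsg.Agent.Recog.HalfTrans.fixed_point_free_of_cyclic hconst hg h⟩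
    · exact ⟨⟨1, fun g => ⟨0, by rw [htriv g]; simp⟩⟩, fun g hg => absurd (htriv g) hg⟩
  · simp only [not_exists, not_not] at hne
    exact ⟨⟨1, fun g => ⟨0, by
      rw [show g = 1 from eq_of_smul_eq_smul fun e : E => by rw [hne e, smul_zero, smul_zero]]; simp⟩⟩,
      fun g _ a _ => hne a⟩

end Cfsg.Agent.S1160
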