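import Cfsg.Statements.S1166
import Cfsg.Agent.Lib.Recog.RankOneSetup
-- import your own Cfsg.Agent.* helpers here

set_option autoImplicit false
open Cfsg

namespace Cfsg.Agent.S1166

/-- In the rank-one set-up (`G` finite and doubly transitive on `Ω`, `t` an involution moving `a`, `Q` normal in `G_a` with `G_a = Q D`, `Q ⊓ D = 1` for the two-point stabiliser `D = G_a ⊓ G_{t • a}`, `|Q|` even, `|D|` odd), with `t x t = g_x h_x t f_x` and `t y t = g_y h_y t f_y` (`g, f ∈ Q`, `h ∈ D`) for `x, y ∈ Q ∖ 1` with `x y ≠ 1`: then `z = f_x g_y ≠ 1`, and if `t z t = g_z h_z t f_z` and `t (x y) t = g' h' t f'` then `f' = (t h_y t)⁻¹ f_z (t h_y t) f_y` and `h' = h_x h_z h_y` (H6). -/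
theorem result {G Ω : Type*} [Group G] [Finite G] [MulAction G Ω] {a : Ω} {t : G} {Q : Subgroup G}
    (hS : Cfsg.IsRankOneSetup G Ω a t Q)
    (x y gx hx fx gy hy fy : G) (hxQ : x ∈ Q) (hx1 : x ≠ 1) (hyQ : y ∈ Q) (hy1 : y ≠ 1) (hxy : x * y ≠ 1)
    (hgx : gx ∈ Q) (hhx : hx ∈ (MulAction.stabilizer G a ⊓ MulAction.stabilizer G (t • a))) (hfx : fx ∈ Q) (ex : t * x * t = gx * hx * t * fx)
    (hgy : gy ∈ Q) (hhy : hy ∈ (MulAction.stabilizer G a ⊓ MulAction.stabilizer G (t • a))) (hfy : fy ∈ Q) (ey : t * y * t = gy * hy * t * fy) :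
    fx * gy ≠ 1 ∧
      ∀ gz hz fz g' h' f' : G, gz ∈ Q → hz ∈ (MulAction.stabilizer G a ⊓ MulAction.stabilizer G (t • a)) → fz ∈ Q → t * (fx * gy) * t = gz * hz * t * fz →
        g' ∈ Q → h' ∈ (MulAction.stabilizer G a ⊓ MulAction.stabilizer G (t • a)) → f' ∈ Q → t * (x * y) * t = g' * h' * t * f' →
          f' = (t * hy * t)⁻¹ * fz * (t * hy * t) * fy ∧ h' = hx * hz * hy := by
  open Cfsg.Agent.Recog in
  have tt : ∀ z : G, t * (t * z) = z := fun z => by rw [← mul_assoc, hS.mul_self, one_mul]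
  have hti := t_inv hS
  have exy : t * (x * y) * t = (t * x * t) * (t * y * t) := by simp only [mul_assoc, tt]
  refine ⟨?_, ?_⟩
  · intro h0
    apply hxy
    refine fixes_only hS (mul_mem hxQ hyQ) (ta_ne hS) ?_
    have h1 : t * (x * y) * t = gx * hx * (t * hy * t) * fy := by
      rw [exy, ex, ey]
      calc gx * hx * t * fx * (gy * hy * t * fy) = gx * hx * t * (fx * gy) * hy * t * fy := by group
        _ = _ := by rw [h0]; group
    have h2 : (t * (x * y) * t) • a = a := by
      rw [h1]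
      exact MulAction.mem_stabilizer_iff.1
        (mul_mem (mul_mem (mul_mem (hS.le hgx) hhx.1) (mem_D_conj hS hhy).1) (hS.le hfy))
    rw [mul_smul, mul_smul] at h2
    calc (x * y) • t • a = t • t • ((x * y) • t • a) := by rw [← mul_smul t t, hS.mul_self, one_smul]
      _ = t • a := by rw [h2]
  · intro gz hz fz g' h' f' hgz hhz hfz ez hg' hh' hf' e'
    set d := t * hy * t with hd
    have hdD := mem_D_conj hS hhy
    have key : g' * h' * t * f' = (gx * (hx * gz * hx⁻¹)) * (hx * hz * hy) * t * (d⁻¹ * fz * d * fy) := by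
      have etd : hy * t * d⁻¹ = t := by
        rw [hd, mul_inv_rev, mul_inv_rev, hti]; simp only [mul_assoc, tt, mul_inv_cancel_left]
      rw [← e', exy, ex, ey]
      calc gx * hx * t * fx * (gy * hy * t * fy) = gx * hx * (t * (fx * gy)) * (hy * t) * fy := by group
        _ = gx * hx * (t * (fx * gy) * t) * (t * hy * t) * fy := by simp only [mul_assoc, tt]
        _ = gx * hx * (gz * hz * t * fz) * d * fy := by rw [ez]
        _ = gx * hx * gz * hz * t * (fz * d * fy) := by group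
        _ = gx * hx * gz * hz * (hy * t * d⁻¹) * (fz * d * fy) := by rw [etd]
        _ = _ := by group
    have hf2 : d⁻¹ * fz * d * fy ∈ Q := by
      have := hS.conj_mem d⁻¹ (inv_mem hdD.1) fz hfz
      rw [inv_inv] at this
      exact mul_mem this hfy
    obtain ⟨-, h2, h3⟩ := form_unique hS hg' (mul_mem hgx (hS.conj_mem hx hhx.1 gz hgz)) hh'
      (mul_mem (mul_mem hhx hhz) hhy) hf' hf2 key
    exact ⟨h3, h2⟩

end Cfsg.Agent.S1166
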