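import Cfsg.Statements.S1168
import Cfsg.Agent.Lib.Struct.FieldAutBasis

set_option autoImplicit false
open Cfsg

namespace Cfsg.Agent.S1168

/-- For a finite field `F` of characteristic 2: if `q : F → F` is quadratic over the prime field, i.e. `(x, y) ↦ q (x + y) + q x + q y` is additive in each variable, then `q x = Σ c_{σ,τ} σ(x) τ(x)` for some coefficients indexed by pairs of field automorphisms. -/
theorem result {F : Type*} [Field F] [Fintype F] [CharP F 2]
    (q : F → F)
    (hq : ∀ x y z : F, q (x + y + z) + q (x + y) + q (x + z) + q (y + z) + q x + q y + q z = 0) :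
    ∃ (s : Finset ((F ≃+* F) × (F ≃+* F))) (c : (F ≃+* F) × (F ≃+* F) → F),
      ∀ x : F, q x = ∑ p ∈ s, c p * (p.1 x * p.2 x) := by
  classical
  letI : Algebra (ZMod 2) F := ZMod.algebra F 2
  haveI : Fact (Nat.Prime 2) := ⟨Nat.prime_two⟩
  haveI : Finite (F ≃+* F) := Finite.of_injective (fun σ => (σ : F → F)) DFunLike.coe_injective
  haveI : Fintype (F ≃+* F) := Fintype.ofFinite _
  have h2 : ∀ a : F, a + a = 0 := fun a => CharTwo.add_self_eq_zero a
  have hq0 : q 0 = 0 := by
    have h := hq 0 0 0
    simp only [add_zero] at h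
    linear_combination h - 3 * h2 (q 0)
  let B : F →+ F →+ F := AddMonoidHom.mk'
    (fun x => AddMonoidHom.mk' (fun y => q (x + y) + q x + q y) (fun y z => by
      have h := hq x y z
      rw [← add_assoc x y z]
      linear_combination h - h2 (q (x + y)) - h2 (q (x + z)) - h2 (q x) - h2 (q y) - h2 (q z)))
    (fun x x' => AddMonoidHom.ext fun y => by
      have h := hq x x' y
      simp only [AddMonoidHom.mk'_apply, AddMonoidHom.add_apply]
      linear_combination h - h2 (q (x + y)) - h2 (q (x' + y)) - h2 (q x) - h2 (q x') - h2 (q y))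
  have hB : ∀ x y, B x y = q (x + y) + q x + q y := fun x y => rfl
  let b := Module.finBasis (ZMod 2) F
  let BL : F →ₗ[ZMod 2] F →ₗ[ZMod 2] F := AddMonoidHom.toZModLinearMap 2
    (AddMonoidHom.mk' (fun x => AddMonoidHom.toZModLinearMap 2 (B x))
      (fun x x' => LinearMap.ext fun y => by simp))
  let C : F →ₗ[ZMod 2] F →ₗ[ZMod 2] F :=
    b.constr (ZMod 2) (fun i => b.constr (ZMod 2) (fun j => if i < j then B (b i) (b j) else 0))
  have hC : ∀ i j, C (b i) (b j) = if i < j then B (b i) (b j) else 0 := fun i j => by simp only [C, Module.Basis.constr_basis]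
  have hCB : C + C.flip = BL := by
    refine b.ext fun i => b.ext fun j => ?_
    simp only [LinearMap.add_apply, LinearMap.flip_apply, hC]
    change _ = B (b i) (b j)
    rcases lt_trichotomy i j with h | h | h
    · simp [h, h.asymm]
    · subst h
      simp [hB, h2, hq0, add_assoc]
    · simp [h, h.asymm, hB, add_comm, add_left_comm]
  have hCB' : ∀ x y, C x y + C y x = q (x + y) + q x + q y := fun x y => by
    have := LinearMap.congr_fun (LinearMap.congr_fun hCB x) y
    exact this
  let d : F →+ F := AddMonoidHom.mk' (fun x => q x + C x x) (fun x y => by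
    have h := hCB' x y
    simp only [map_add, LinearMap.add_apply]
    linear_combination h + h2 (q (x + y)) )
  let r : F ≃+* F := (frobeniusEquiv F 2).symm
  let T : F →+ F →+ F := AddMonoidHom.mk'
    (fun x => AddMonoidHom.mk' (fun y => C x y + d (r (x * y))) (fun y z => by rw [mul_add, map_add, map_add, map_add]; ring))
    (fun x x' => AddMonoidHom.ext fun y => by
      simp only [AddMonoidHom.mk'_apply, AddMonoidHom.add_apply]
      rw [add_mul, map_add, map_add, map_add, LinearMap.add_apply]; ring)
  obtain ⟨c, hc⟩ := Cfsg.Agent.Struct.FieldAutBasis.expand_two T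
  refine ⟨Finset.univ, fun p => c p.2 p.1, fun x => ?_⟩
  have hr : r (x * x) = x := by
    change (frobeniusEquiv F 2).symm (x * x) = x
    apply (frobeniusEquiv F 2).injective
    rw [RingEquiv.apply_symm_apply, frobeniusEquiv_apply, frobenius_def, pow_two]
  have h1 : T x x = q x := by
    change C x x + d (r (x * x)) = q x
    rw [hr]
    change C x x + (q x + C x x) = q x
    linear_combination h2 (C x x)
  rw [← h1, hc, finsum_eq_sum_of_fintype, Fintype.sum_prod_type, Finset.sum_comm]
  refine Finset.sum_congr rfl (fun τ _ => ?_)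
  rw [finsum_eq_sum_of_fintype, Finset.sum_mul]
  exact Finset.sum_congr rfl (fun σ _ => by ring)

end Cfsg.Agent.S1168
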