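import Cfsg.Statements.S1176
import Mathlib

set_option autoImplicit false
open Cfsg
open scoped commutatorElement

namespace Cfsg.Agent.S1176

/-- Let x₀ be an involution of the finite group G and D its conjugacy class. Assume (a) for each x ∈ D the subgroup W(x) generated by the members of D commuting with x is a 2-group of nilpotency class at most 2, and (b) the product of two distinct commuting members of D again lies in D. Then for all x, y ∈ D, if xy has even order greater than 2, its order is 4. -/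
theorem result {G : Type*} [Group G] [Finite G] (x₀ : G) (hx₀ : orderOf x₀ = 2) (ha : ∀ x : G, IsConj x₀ x → IsPGroup 2 ↥(Subgroup.closure {y : G | IsConj x₀ y ∧ Commute y x}) ∧ ⁅⁅Subgroup.closure {y : G | IsConj x₀ y ∧ Commute y x}, Subgroup.closure {y : G | IsConj x₀ y ∧ Commute y x}⁆, Subgroup.closure {y : G | IsConj x₀ y ∧ Commute y x}⁆ = ⊥) (hb : ∀ x y : G, IsConj x₀ x → IsConj x₀ y → x ≠ y → Commute x y → IsConj x₀ (x * y)) (x y : G) (hx : IsConj x₀ x) (hy : IsConj x₀ y) (heven : Even (orderOf (x * y))) (hgt : 2 < orderOf (x * y)) : orderOf (x * y) = 4 := by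
  have hinvD : ∀ z, IsConj x₀ z → z * z = 1 := by
    intro z hz
    obtain ⟨c, hc⟩ := isConj_iff.mp hz
    rw [← hc, show c * x₀ * c⁻¹ * (c * x₀ * c⁻¹) = c * (x₀ * x₀) * c⁻¹ by group,
      ← pow_two, ← hx₀, pow_orderOf_eq_one]
    group
  have hxi : x⁻¹ = x := inv_eq_of_mul_eq_one_right (hinvD x hx)
  have hyi : y⁻¹ = y := inv_eq_of_mul_eq_one_right (hinvD y hy)
  set d := x * y with hd
  have hxd : x * d * x⁻¹ = d⁻¹ := by
    simp only [hd, mul_inv_rev, hxi, hyi, ← mul_assoc, hinvD x hx, one_mul]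
  have hxdn : ∀ n : ℤ, x * d ^ n * x⁻¹ = d ^ (-n) := by
    intro n
    rw [← conj_zpow, hxd, inv_zpow, zpow_neg]
  obtain ⟨n, hn⟩ := heven
  have hn1 : 1 < n := by omega
  set z := d ^ n with hz
  have hz2 : z * z = 1 := by rw [hz, ← pow_add, ← hn, pow_orderOf_eq_one]
  have hz1 : z ≠ 1 := by
    intro h
    have := Nat.le_of_dvd (by omega) (orderOf_dvd_of_pow_eq_one h)
    omega
  have hxz : Commute x z := by
    have h1 := hxdn n
    rw [zpow_neg, zpow_natCast, ← hz, inv_eq_of_mul_eq_one_right hz2] at h1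
    exact mul_inv_eq_iff_eq_mul.mp h1
  have hdz : Commute d z := (Commute.refl d).pow_right n
  have hyz : Commute y z := by
    have : y = x⁻¹ * d := by rw [hd]; group
    rw [this]
    exact hxz.inv_left.mul_left hdz
  -- the second involution of the class commuting with `x`
  have hxzD : IsConj x₀ (x * z) := by
    rcases Nat.even_or_odd n with ⟨m, hm⟩ | ⟨m, hm⟩
    · refine hx.trans (isConj_iff.mpr ⟨d ^ (-(m : ℤ)), ?_⟩)
      have h := hxdn (-(m : ℤ))
      rw [neg_neg] at h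
      calc d ^ (-(m : ℤ)) * x * (d ^ (-(m : ℤ)))⁻¹
          = x * (x⁻¹ * d ^ (-(m : ℤ)) * x) * d ^ (m : ℤ) := by rw [← zpow_neg, neg_neg]; group
        _ = x * d ^ (m : ℤ) * d ^ (m : ℤ) := by
            rw [show x⁻¹ * d ^ (-(m : ℤ)) * x = d ^ (m : ℤ) by rw [hxi]; rw [hxi] at h; exact h]
        _ = x * z := by
            rw [mul_assoc, ← zpow_add, hz, hm, ← zpow_natCast d (m + m), Nat.cast_add]
    · refine hy.trans (isConj_iff.mpr ⟨d ^ (-(m : ℤ)), ?_⟩)
      have h := hxdn (-(m : ℤ))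
      rw [neg_neg] at h
      have hyd : y = x * d ^ (1 : ℤ) := by rw [zpow_one, hd, ← mul_assoc, hinvD x hx, one_mul]
      rw [hyd]
      calc d ^ (-(m : ℤ)) * (x * d ^ (1 : ℤ)) * (d ^ (-(m : ℤ)))⁻¹
          = x * (x⁻¹ * d ^ (-(m : ℤ)) * x) * d ^ (1 : ℤ) * d ^ (m : ℤ) := by rw [← zpow_neg, neg_neg]; group
        _ = x * d ^ (m : ℤ) * d ^ (1 : ℤ) * d ^ (m : ℤ) := by
            rw [show x⁻¹ * d ^ (-(m : ℤ)) * x = d ^ (m : ℤ) by rw [hxi]; rw [hxi] at h; exact h]
        _ = x * z := by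
            rw [mul_assoc, ← zpow_add, mul_assoc, ← zpow_add, hz, ← zpow_natCast d n, hm]
            congr 2
            push_cast
            ring
  have hzD : IsConj x₀ z := by
    have hne : x ≠ x * z := fun e => hz1 (by simpa using e.symm)
    have := hb x (x * z) hx hxzD hne ((Commute.refl x).mul_right hxz)
    rwa [← mul_assoc, hinvD x hx, one_mul] at this
  obtain ⟨hp, hcl⟩ := ha z hzD
  set W := Subgroup.closure {w : G | IsConj x₀ w ∧ Commute w z}
  have hxW : x ∈ W := Subgroup.subset_closure ⟨hx, hxz⟩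
  have hyW : y ∈ W := Subgroup.subset_closure ⟨hy, hyz⟩
  have hdW : d ∈ W := mul_mem hxW hyW
  have h2 : d ^ (2 : ℤ) ∈ ⁅W, W⁆ := by
    have : ⁅x, y⁆ = d ^ (2 : ℤ) := by rw [commutatorElement_def, hxi, hyi, zpow_two, hd]; group
    exact this ▸ Subgroup.commutator_mem_commutator hxW hyW
  have h3 : ⁅d ^ (2 : ℤ), x⁆ = 1 := by
    have := Subgroup.commutator_mem_commutator h2 hxW
    rwa [hcl, Subgroup.mem_bot] at this
  have h4 : d ^ 4 = 1 := by
    rw [commutatorElement_def] at h3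
    have e : d ^ (2 : ℤ) * (x * (d ^ (2 : ℤ))⁻¹ * x⁻¹) = 1 := by rw [← h3]; group
    rw [← zpow_neg, hxdn, neg_neg, ← zpow_add] at e
    rw [← zpow_natCast]
    simpa using e
  have h5 : orderOf d ∣ 2 ^ 2 := orderOf_dvd_of_pow_eq_one (by simpa using h4)
  obtain ⟨j, hj, hj'⟩ := (Nat.dvd_prime_pow Nat.prime_two).mp h5
  interval_cases j <;> omega

end Cfsg.Agent.S1176
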