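import Cfsg.Statements.S1177
import Cfsg.Agent.Lib.Inv.WeaklyClosed
import Mathlib
-- import your own Cfsg.Agent.* helpers here

set_option autoImplicit false
open Cfsg

namespace Cfsg.Agent.S1177

/-- Let A be a nontrivial elementary abelian 2-subgroup of a finite group G which is a T.I. set (each conjugate of A meets A trivially or equals A) and which does not commute elementwise with any conjugate of A other than A itself. Then for every a ∈ A, a ≠ 1, every conjugate of A contained in C_G(a) is equal to A (A is weakly closed in C_G(a)). -/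
theorem result {G : Type*} [Group G] [Finite G] (A : Subgroup G) (hA : Cfsg.IsElementaryAbelian 2 A) (hA1 : A ≠ ⊥) (hTI : ∀ g : G, A.map (MulAut.conj g).toMonoidHom ⊓ A = ⊥ ∨ A.map (MulAut.conj g).toMonoidHom = A) (hb : ∀ g : G, (∀ a ∈ A, ∀ b ∈ A.map (MulAut.conj g).toMonoidHom, a * b = b * a) → A.map (MulAut.conj g).toMonoidHom = A) (a : G) (ha : a ∈ A) (ha1 : a ≠ 1) (g : G) (hg : A.map (MulAut.conj g).toMonoidHom ≤ Subgroup.centralizer ({a} : Set G)) : A.map (MulAut.conj g).toMonoidHom = A := by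
  classical
  set B := A.map (MulAut.conj g).toMonoidHom with hB
  by_contra hne
  have hAB : B ⊓ A = ⊥ := (hTI g).resolve_right hne
  have hmem : ∀ h x, x ∈ A.map (MulAut.conj h).toMonoidHom ↔ h⁻¹ * x * h ∈ A := by
    intro h x
    rw [Subgroup.mem_map_equiv]
    simp [mul_assoc]
  -- TI conjugates
  have hTI' : ∀ h k, ∀ x ≠ (1 : G), x ∈ A.map (MulAut.conj h).toMonoidHom →
      x ∈ A.map (MulAut.conj k).toMonoidHom → ∀ y, h⁻¹ * y * h ∈ A → k⁻¹ * y * k ∈ A := by
    intro h k x hx hxh hxk y hy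
    rw [hmem] at hxh hxk
    have hm : k⁻¹ * x * k ∈ A.map (MulAut.conj (k⁻¹ * h)).toMonoidHom ⊓ A :=
      ⟨(hmem _ _).2 (by simpa [mul_assoc] using hxh), hxk⟩
    rcases hTI (k⁻¹ * h) with e | e
    · rw [e, Subgroup.mem_bot] at hm
      exact absurd (by simpa [mul_assoc] using congrArg (fun z => k * z * k⁻¹) hm) hx
    · rw [← e, hmem]
      simpa [mul_assoc] using hy
  have hAc : ∀ x ∈ A, ∀ y ∈ A, x * y = y * x := fun x hx y hy =>
    congrArg Subtype.val (hA.1.is_comm.comm (⟨x, hx⟩ : A) ⟨y, hy⟩)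
  have hsq : ∀ x ∈ A, x * x = 1 := fun x hx => by rw [← pow_two]; exact hA.2 x hx
  have hBsq : ∀ b ∈ B, b * b = 1 := by
    rintro _ ⟨x, hx, rfl⟩
    rw [← map_mul, hsq x hx, map_one]
  have hBc : ∀ b ∈ B, ∀ c ∈ B, b * c = c * b := by
    rintro _ ⟨x, hx, rfl⟩ _ ⟨y, hy, rfl⟩
    rw [← map_mul, hAc x hx y hy, map_mul]
  have hab : ∀ b ∈ B, a * b = b * a := fun b hb =>
    (Subgroup.mem_centralizer_singleton_iff.1 (hg hb)).symm
  -- B normalises A
  have hBA : ∀ b ∈ B, ∀ x ∈ A, b * x * b⁻¹ ∈ A := by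
    intro b hb x hx
    have h1 := hTI' 1 b⁻¹ a ha1 ((hmem _ _).2 (by simpa using ha))
      ((hmem _ _).2 (by
        rw [inv_inv, ← hab b hb, mul_inv_cancel_right]
        exact ha)) x (by simpa using hx)
    simpa using h1
  -- an element of A centralising one element of B centralises B
  have hfix : ∀ x ∈ A, ∀ b ∈ B, b ≠ 1 → Commute x b → ∀ c ∈ B, Commute x c := by
    intro x hx b hb hb1 hxb c hc
    have hxinv : x⁻¹ = x := inv_eq_of_mul_eq_one_right (hsq x hx)
    have h1 : (x * g)⁻¹ * c * (x * g) ∈ A := hTI' g (x * g) b hb1 hb ((hmem _ _).2 (by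
      have := (hmem g b).1 hb
      convert this using 1
      calc (x * g)⁻¹ * b * (x * g) = g⁻¹ * (x⁻¹ * (b * x)) * g := by group
        _ = g⁻¹ * b * g := by rw [← hxb.eq, inv_mul_cancel_left])) c ((hmem g c).1 hc)
    have h2 : x * c * x⁻¹ ∈ B := by
      rw [hB, hmem]
      convert h1 using 1
      rw [mul_inv_rev, hxinv]
      group
    have h3 : x * c * x⁻¹ * c⁻¹ ∈ B ⊓ A := by
      refine Subgroup.mem_inf.2 ⟨mul_mem h2 (inv_mem hc), ?_⟩
      rw [mul_assoc, mul_assoc, ← mul_assoc c]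
      exact mul_mem hx (hBA c hc _ (inv_mem hx))
    rw [hAB, Subgroup.mem_bot, mul_inv_eq_one] at h3
    exact mul_inv_eq_iff_eq_mul.1 h3
  -- a commutator [x, c] lies in the part of A centralised by B
  have hcom : ∀ x ∈ A, ∀ c ∈ B, ∀ d ∈ B, (x * c * x⁻¹) * d = d * (x * c * x⁻¹) := by
    intro x hx c hc d hd
    by_cases hc1 : c = 1
    · simp [hc1]
    have hcinv : c⁻¹ = c := inv_eq_of_mul_eq_one_right (hBsq c hc)
    have hxinv : x⁻¹ = x := inv_eq_of_mul_eq_one_right (hsq x hx)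
    set y := c * x * c⁻¹ with hy
    have hyA : y ∈ A := hBA c hc x hx
    have he : Commute (x * y) c := by
      show x * y * c = c * (x * y)
      have : c * (x * y) * c⁻¹ = y * x := by
        rw [hy, hcinv]
        calc c * (x * (c * x * c)) * c = c * x * c * x * (c * c) := by group
          _ = c * x * c * x := by rw [hBsq c hc, mul_one]
      rw [hAc y hyA x hx] at this
      exact (mul_inv_eq_iff_eq_mul.1 this).symm
    have hed := hfix _ (mul_mem hx hyA) c hc hc1 he d hd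
    have e : x * c * x⁻¹ = (x * y) * c := by rw [hy, hxinv, hcinv, mul_assoc, mul_assoc, mul_assoc, mul_assoc, hBsq c hc, mul_one]
    rw [e]
    exact (hed.mul_left (hBc c hc d hd)).eq
  -- so every x ∈ A normalises B
  have hnorm : ∀ x ∈ A, ∀ c ∈ B, x * c * x⁻¹ ∈ B := by
    intro x hx c hc
    have key : A.map (MulAut.conj (g⁻¹ * x * g)).toMonoidHom = A := by
      refine hb _ fun u hu v hv => ?_
      rw [hmem] at hv
      have h1 : g * u * g⁻¹ ∈ B := by rw [hB, hmem]; simpa [mul_assoc] using hu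
      have h2 : g * ((g⁻¹ * x * g)⁻¹ * v * (g⁻¹ * x * g)) * g⁻¹ ∈ B := by
        rw [hB, hmem]; simpa [mul_assoc] using hv
      have h3 := hcom x hx _ h2 _ h1
      have h4 := congrArg (fun z => g⁻¹ * z * g) h3
      simp only [mul_inv_rev, inv_inv] at h4
      group at h4 ⊢
      exact h4.symm
    have h5 : g⁻¹ * x * g * (g⁻¹ * c * g) * (g⁻¹ * x * g)⁻¹ ∈ A :=
      (congrArg (fun K : Subgroup G => g⁻¹ * x * g * (g⁻¹ * c * g) * (g⁻¹ * x * g)⁻¹ ∈ K) key).mp
        ⟨_, (hmem g c).1 hc, rfl⟩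
    rw [hB, hmem]
    convert h5 using 1
    group
  -- hence A and B commute elementwise
  apply hne
  refine hb g fun x hx c hc => ?_
  have h3 : x * c * x⁻¹ * c⁻¹ ∈ B ⊓ A := by
    refine Subgroup.mem_inf.2 ⟨mul_mem (hnorm x hx c hc) (inv_mem hc), ?_⟩
    rw [mul_assoc, mul_assoc, ← mul_assoc c]
    exact mul_mem hx (hBA c hc _ (inv_mem hx))
  rw [hAB, Subgroup.mem_bot, mul_inv_eq_one] at h3
  exact mul_inv_eq_iff_eq_mul.1 h3

end Cfsg.Agent.S1177
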