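import Cfsg.Statements.S1178
import Cfsg.Agent.Lib.Inv.WeaklyClosed
import Mathlib
-- import your own Cfsg.Agent.* helpers here

set_option autoImplicit false
open Cfsg

namespace Cfsg.Agent.S1178

/-- Let A be a subgroup of a Sylow 2-subgroup S of the finite group G which is weakly closed in S. If a conjugate g A g⁻¹ commutes elementwise with A, then g A g⁻¹ = A. -/
theorem result {G : Type*} [Group G] [Finite G] (S : Sylow 2 G) (A : Subgroup G) (hW : Cfsg.IsWeaklyClosed A (S : Subgroup G)) (g : G) (hc : ∀ a ∈ A, ∀ b ∈ A.map (MulAut.conj g).toMonoidHom, a * b = b * a) : A.map (MulAut.conj g).toMonoidHom = A := by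
  haveI : Fact (Nat.Prime 2) := ⟨Nat.prime_two⟩
  have hA : IsPGroup 2 A := S.isPGroup'.to_le hW.1
  have hle : A.map (MulAut.conj g).toMonoidHom ≤ Subgroup.normalizer (A : Set G) := by
    refine fun b hb => Subgroup.centralizer_le_normalizer _ ?_
    exact Subgroup.mem_centralizer_iff.2 fun a ha => hc a ha b hb
  have hp := hA.to_sup_of_normal_left' (hA.map (MulAut.conj g).toMonoidHom) hle
  have e1 : A.map (MulAut.conj (1 : G)).toMonoidHom = A := by ext x; simp [Subgroup.mem_map]
  have := Cfsg.Agent.Inv.weaklyClosed_conj_eq hW hp (g := g) (h := 1) le_sup_right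
    (e1.trans_le le_sup_left)
  rwa [e1] at this

end Cfsg.Agent.S1178
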