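import Cfsg.Statements.S1181
import Cfsg.Agent.Lib.Inv.Isolated
import Mathlib
-- import your own Cfsg.Agent.* helpers here

set_option autoImplicit false
open Cfsg

namespace Cfsg.Agent.S1181

/-- Let z be an isolated involution of the finite group G and N a normal subgroup with z ∉ N. Then the centralizer of zN in G/N is the image of C_G(z), and zN is an isolated involution of G/N. -/
theorem result {G : Type*} [Group G] [Finite G] (z : G) (hz : Cfsg.IsIsolatedInvolution z) (N : Subgroup G) [N.Normal] (hzN : z ∉ N) : Subgroup.centralizer ({(QuotientGroup.mk z : G ⧸ N)} : Set (G ⧸ N)) = (Subgroup.centralizer ({z} : Set G)).map (QuotientGroup.mk' N) ∧ Cfsg.IsIsolatedInvolution (QuotientGroup.mk z : G ⧸ N) := by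
  open Cfsg.Agent.Inv in
  have hz1 : orderOf ((z : G ⧸ N)) = 2 := by
    apply orderOf_eq_two_of_mul_self
    · rw [← QuotientGroup.mk_mul, mul_self_of_orderOf_two hz.1, QuotientGroup.mk_one]
    · rwa [Ne, QuotientGroup.eq_one_iff]
  refine ⟨le_antisymm ?_ ?_, ?_⟩
  · intro q hq
    obtain ⟨g, rfl⟩ := QuotientGroup.mk_surjective q
    rw [Subgroup.mem_centralizer_singleton_iff] at hq
    have hN : g * z * g⁻¹ * z ∈ N := by
      rw [← QuotientGroup.eq_one_iff]
      rw [QuotientGroup.mk_mul, QuotientGroup.mk_mul, QuotientGroup.mk_mul, QuotientGroup.mk_inv]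
      rw [hq, mul_inv_cancel_right, mul_self_of_orderOf_two hz1]
    obtain ⟨-, -, h⟩ := isolated_root hz g
    set k := oddRoot (g * z * g⁻¹ * z) with hk_def
    have hk : k ∈ N := Subgroup.zpowers_le.2 hN (oddRoot_mem_zpowers _)
    refine ⟨k⁻¹ * g, Subgroup.mem_centralizer_singleton_iff.2 ?_, ?_⟩
    · calc k⁻¹ * g * z = k⁻¹ * (g * z * g⁻¹) * g := by group
        _ = k⁻¹ * (k * z * k⁻¹) * g := by rw [h]
        _ = z * (k⁻¹ * g) := by group
    · show ((k⁻¹ * g : G) : G ⧸ N) = g
      rw [QuotientGroup.mk_mul, (QuotientGroup.eq_one_iff (k⁻¹)).2 (inv_mem hk), one_mul]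
  · rintro _ ⟨g, hg, rfl⟩
    rw [Subgroup.mem_centralizer_singleton_iff]
    exact congrArg (QuotientGroup.mk' N) (Subgroup.mem_centralizer_singleton_iff.1 hg)
  · refine isolated_of_odd hz1 fun q => ?_
    obtain ⟨g, rfl⟩ := QuotientGroup.mk_surjective q
    exact (isolated_odd_aux hz g).of_dvd_nat
      (orderOf_map_dvd (QuotientGroup.mk' N) (z * (g * z * g⁻¹)))

end Cfsg.Agent.S1181
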