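import Cfsg.Statements.S1182
import Cfsg.Agent.Lib.Inv.Isolated
import Mathlib
-- import your own Cfsg.Agent.* helpers here

set_option autoImplicit false
open Cfsg

namespace Cfsg.Agent.S1182

/-- Let z be an isolated involution of the finite group G and H a subgroup normalized by z. If x, y ∈ H both commute with z and y = h x h⁻¹ for some h ∈ H, then y = c x c⁻¹ for some c ∈ H commuting with z. -/
theorem result {G : Type*} [Group G] [Finite G] (z : G) (hz : Cfsg.IsIsolatedInvolution z) (H : Subgroup G) (hzH : z ∈ Subgroup.normalizer (H : Set G)) (x y : G) (hx : x ∈ H) (hy : y ∈ H) (hxz : Commute x z) (hyz : Commute y z) (h : G) (hh : h ∈ H) (hconj : h * x * h⁻¹ = y) : ∃ c ∈ H, Commute c z ∧ c * x * c⁻¹ = y := by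
  open Cfsg.Agent.Inv in
  set w := h * z * h⁻¹ with hw
  have hwy : Commute w y := by
    have := hxz.symm.map (MulAut.conj h)
    simpa [MulAut.conj_apply, hconj] using this
  obtain ⟨-, -, hk⟩ := isolated_root hz h
  set k := oddRoot (h * z * h⁻¹ * z) with hk_def
  have hkH : k ∈ H := by
    refine Subgroup.zpowers_le.2 ?_ (oddRoot_mem_zpowers _)
    rw [mul_assoc h, mul_assoc h]
    refine mul_mem hh ?_
    have h1 := (Subgroup.mem_normalizer_iff.1 hzH h⁻¹).1 (inv_mem hh)
    rwa [inv_eq_self_of_orderOf_two hz.1] at h1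
  have hky : Commute k y := (hwy.mul_left hyz.symm).pow_left _
  refine ⟨k⁻¹ * h, mul_mem (inv_mem hkH) hh, ?_, ?_⟩
  · show k⁻¹ * h * z = z * (k⁻¹ * h)
    calc k⁻¹ * h * z = k⁻¹ * (h * z * h⁻¹) * h := by group
      _ = k⁻¹ * (k * z * k⁻¹) * h := by rw [hk]
      _ = z * (k⁻¹ * h) := by group
  · calc k⁻¹ * h * x * (k⁻¹ * h)⁻¹ = k⁻¹ * (h * x * h⁻¹) * k := by group
      _ = y := by rw [hconj, hky.inv_left.eq, inv_mul_cancel_right]

end Cfsg.Agent.S1182
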