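import Cfsg.Statements.S1183
import Cfsg.Agent.Lib.Inv.IsolatedSylow
import Cfsg.Agent.Lib.Solv.NormalPComplement

set_option autoImplicit false
open Cfsg

namespace Cfsg.Agent.S1183

/-- Let z be an isolated involution of the finite group G and C = C_G(z). Then the subgroup of G generated by its elements of odd order is all of G if and only if the subgroup of C generated by its elements of odd order is all of C. -/
theorem result {G : Type*} [Group G] [Finite G] (z : G) (hz : Cfsg.IsIsolatedInvolution z) : Cfsg.pResidual 2 G = ⊤ ↔ Cfsg.pResidual 2 ↥(Subgroup.centralizer ({z} : Set G)) = ⊤ := by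
  classical
  haveI : Fact (Nat.Prime 2) := ⟨Nat.prime_two⟩
  set C := Subgroup.centralizer ({z} : Set G) with hC
  set K := oddCore G with hK
  have hKodd : Odd (Nat.card K) := Local.oddCore_card_odd
  have hKres : ∀ {H : Subgroup G} (x : H), (x : G) ∈ K → x ∈ Cfsg.pResidual 2 H := fun x hx =>
    Solv.mem_pResidual (by
      rw [← Subgroup.orderOf_coe]
      exact (Nat.coprime_two_right.2 (hKodd.of_dvd_nat (Subgroup.orderOf_dvd_natCard K hx))))
  have hdec : ∀ g : G, ∃ k ∈ K, ∃ c ∈ C, g = k * c := by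
    intro g
    obtain ⟨-, -, h⟩ := Inv.isolated_root hz g
    set d := Inv.oddRoot (g * z * g⁻¹ * z) with hd
    refine ⟨d, Subgroup.zpowers_le.2 (Inv.glauberman' hz g) (Inv.oddRoot_mem_zpowers _), d⁻¹ * g, ?_,
      by rw [mul_inv_cancel_left]⟩
    rw [hC, Subgroup.mem_centralizer_singleton_iff]
    calc d⁻¹ * g * z = d⁻¹ * (g * z * g⁻¹) * g := by group
      _ = z * (d⁻¹ * g) := by rw [← h]; group
  constructor
  · intro htop
    set R := (Cfsg.pResidual 2 C).map C.subtype with hR
    set N := K ⊔ R with hN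
    have hCR : ∀ c ∈ C, ∀ r ∈ R, c * r * c⁻¹ ∈ R := by
      rintro c hc _ ⟨r, hr, rfl⟩
      haveI := Solv.pResidual_characteristic 2 C
      exact ⟨_, (inferInstance : (Cfsg.pResidual 2 C).Normal).conj_mem r hr ⟨c, hc⟩, rfl⟩
    haveI hNn : N.Normal := ⟨fun n hn g => by
      have hle : N ≤ N.comap (MulAut.conj g).toMonoidHom := by
        refine sup_le (fun k hk => ?_) (fun r hr => ?_)
        · exact Subgroup.mem_sup_left ((inferInstance : K.Normal).conj_mem k hk g)
        · show g * r * g⁻¹ ∈ N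
          obtain ⟨k, hk, c, hc, rfl⟩ := hdec g
          rw [show k * c * r * (k * c)⁻¹ = k * (c * r * c⁻¹) * k⁻¹ by group]
          exact mul_mem (mul_mem (Subgroup.mem_sup_left hk) (Subgroup.mem_sup_right (hCR c hc r hr)))
            (inv_mem (Subgroup.mem_sup_left hk))
      exact hle hn⟩
    -- the quotient by `N` is a 2-group
    have hquot : IsPGroup 2 (G ⧸ N) := by
      intro q
      induction q using QuotientGroup.induction_on with | _ g => ?_
      obtain ⟨k, hk, c, hc, rfl⟩ := hdec g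
      obtain ⟨e, m, hm, hcard⟩ := Nat.exists_eq_two_pow_mul_odd (orderOf_pos c).ne'
      refine ⟨e, ?_⟩
      rw [QuotientGroup.mk_mul, (QuotientGroup.eq_one_iff k).2 (Subgroup.mem_sup_left hk), one_mul,
        ← QuotientGroup.mk_pow, QuotientGroup.eq_one_iff]
      refine Subgroup.mem_sup_right ⟨(⟨c, hc⟩ : C) ^ 2 ^ e, Solv.mem_pResidual ?_, rfl⟩
      refine Nat.coprime_two_right.2 (hm.of_dvd_nat (orderOf_dvd_of_pow_eq_one ?_))
      rw [← pow_mul, ← hcard]
      exact Subtype.ext (pow_orderOf_eq_one c)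
    have hNtop : N = ⊤ := by
      rw [eq_top_iff, ← htop, Cfsg.pResidual, Subgroup.closure_le]
      intro g hg
      rw [SetLike.mem_coe, ← QuotientGroup.eq_one_iff, ← orderOf_eq_one_iff]
      obtain ⟨j, hj⟩ := IsPGroup.iff_orderOf.1 hquot (QuotientGroup.mk g)
      rw [hj]
      have hd : orderOf (QuotientGroup.mk g : G ⧸ N) ∣ orderOf g :=
        orderOf_map_dvd (QuotientGroup.mk' N) g
      rw [hj] at hd
      rcases j with _ | j
      · rfl
      · exact absurd ((dvd_pow_self 2 j.succ_ne_zero).trans hd)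
          (fun h2 => Nat.not_even_iff_odd.2 (Nat.coprime_two_right.1 hg) (even_iff_two_dvd.2 h2))
    rw [eq_top_iff]
    intro c _
    obtain ⟨k, hk, r, hr, hkr⟩ : ∃ k ∈ K, ∃ r ∈ R, k * r = (c : G) :=
      Subgroup.mem_sup_of_normal_left.1 (hNtop ▸ Subgroup.mem_top (c : G) : (c : G) ∈ N)
    obtain ⟨r', hr', rfl⟩ := hr
    have hkC : k ∈ C := by
      rw [show k = (c : G) * ((r' : G))⁻¹ by rw [← hkr]; simp]
      exact mul_mem c.2 (inv_mem r'.2)
    have hc' : c = ⟨k, hkC⟩ * r' := Subtype.ext hkr.symm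
    rw [hc']
    exact mul_mem (hKres _ hk) hr'
  · intro htop
    rw [eq_top_iff]
    intro g _
    obtain ⟨k, hk, c, hc, rfl⟩ := hdec g
    refine mul_mem ?_ ?_
    · exact Solv.mem_pResidual
        (Nat.coprime_two_right.2 (hKodd.of_dvd_nat (Subgroup.orderOf_dvd_natCard K hk)))
    · have hle : Cfsg.pResidual 2 C ≤ (Cfsg.pResidual 2 G).comap C.subtype := by
        rw [Cfsg.pResidual, Subgroup.closure_le]
        intro x hx
        exact Solv.mem_pResidual (show (orderOf ((x : C) : G)).Coprime 2 by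
          rw [Subgroup.orderOf_coe]; exact hx)
      exact hle (htop ▸ Subgroup.mem_top (⟨c, hc⟩ : C))

end Cfsg.Agent.S1183
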