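import Cfsg.Statements.S1184
import Cfsg.Agent.Lib.Inv.Isolated
import Mathlib
-- import your own Cfsg.Agent.* helpers here

set_option autoImplicit false
open Cfsg

namespace Cfsg.Agent.S1184

/-- Let z be an isolated involution of the finite group G. If s and t are distinct conjugates of z, then st does not commute with z. -/
theorem result {G : Type*} [Group G] [Finite G] (z : G) (hz : Cfsg.IsIsolatedInvolution z) (g h : G) (hne : g * z * g⁻¹ ≠ h * z * h⁻¹) : ¬ Commute (g * z * g⁻¹ * (h * z * h⁻¹)) z := by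
  open Cfsg.Agent.Inv in
  intro hc
  set w := g * z * g⁻¹ with hw_def
  set v := h * z * h⁻¹ with hv_def
  have hw : orderOf w = 2 := (orderOf_conj g z).trans hz.1
  have hv : orderOf v = 2 := (orderOf_conj h z).trans hz.1
  set d := w * v with hd_def
  have hdo : Odd (orderOf d) := isolated_odd₂ hz g h
  set e := w * z with he_def
  have heo : Odd (orderOf e) := isolated_odd hz g
  have hzd : z * d * z⁻¹ = d := by rw [hc.symm.eq, mul_inv_cancel_right]
  have hwd : w * d * w⁻¹ = d⁻¹ := conj_mul_two hw hv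
  have hed : e * d * e⁻¹ = d⁻¹ := by
    calc e * d * e⁻¹ = w * (z * d * z⁻¹) * w⁻¹ := by rw [he_def]; group
      _ = d⁻¹ := by rw [hzd, hwd]
  obtain ⟨m, hm⟩ := heo
  have key : ∀ n : ℕ, e ^ (2 * n) * d * (e ^ (2 * n))⁻¹ = d := by
    intro n
    induction n with
    | zero => simp
    | succ n ih =>
      calc e ^ (2 * (n + 1)) * d * (e ^ (2 * (n + 1)))⁻¹
          = e * (e * (e ^ (2 * n) * d * (e ^ (2 * n))⁻¹) * e⁻¹) * e⁻¹ := by
            rw [show 2 * (n + 1) = 2 * n + 1 + 1 by ring, pow_succ', pow_succ']; group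
        _ = d := by
          rw [ih, hed, ← inv_inj]
          simp only [mul_inv_rev, inv_inv]
          rw [← mul_assoc, hed]
  have h1 : d = d⁻¹ := by
    calc d = e ^ (2 * m + 1) * d * (e ^ (2 * m + 1))⁻¹ := by
          rw [← hm, pow_orderOf_eq_one]; simp
      _ = e * (e ^ (2 * m) * d * (e ^ (2 * m))⁻¹) * e⁻¹ := by rw [pow_succ']; group
      _ = d⁻¹ := by rw [key, hed]
  have h2 : d = 1 := eq_of_sq_eq hdo (by simp) (by rw [one_mul]; exact mul_eq_one_iff_eq_inv.2 h1)
  exact hne (by rw [eq_inv_of_mul_eq_one_left h2, inv_eq_self_of_orderOf_two hv])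

end Cfsg.Agent.S1184
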