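import Cfsg.Statements.S1185
import Cfsg.Agent.Lib.Inv.Isolated
import Mathlib
-- import your own Cfsg.Agent.* helpers here

set_option autoImplicit false
open Cfsg

namespace Cfsg.Agent.S1185

/-- Let z be an isolated involution of the finite group G with centralizer C. Then for every g ∈ G there is exactly one element k in the coset gC that has odd order and is inverted by z. -/
theorem result {G : Type*} [Group G] [Finite G] (z : G) (hz : Cfsg.IsIsolatedInvolution z) (g : G) : ∃! k : G, (Odd (orderOf k) ∧ z * k * z⁻¹ = k⁻¹) ∧ g⁻¹ * k ∈ Subgroup.centralizer ({z} : Set G) := by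
  open Cfsg.Agent.Inv in
  obtain ⟨h1, h2, h3⟩ := isolated_root hz g
  set k := oddRoot (g * z * g⁻¹ * z) with hk_def
  have hmem : ∀ j : G, g⁻¹ * j ∈ Subgroup.centralizer ({z} : Set G) ↔
      j * z * j⁻¹ = g * z * g⁻¹ := by
    intro j
    rw [Subgroup.mem_centralizer_singleton_iff]
    constructor
    · intro h
      calc j * z * j⁻¹ = g * (g⁻¹ * j * z) * j⁻¹ := by group
        _ = g * z * g⁻¹ := by rw [h]; group
    · intro h
      calc g⁻¹ * j * z = g⁻¹ * (j * z * j⁻¹) * j := by group
        _ = z * (g⁻¹ * j) := by rw [h]; group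
  refine ⟨k, ⟨⟨h1, h2⟩, (hmem k).2 h3⟩, fun j ⟨⟨hj1, hj2⟩, hj3⟩ => ?_⟩
  apply eq_of_sq_eq hj1 h1
  have e1 := (conj_eq_sq_mul hj2).symm.trans ((hmem j).1 hj3)
  have e2 := (conj_eq_sq_mul h2).symm.trans h3
  exact mul_right_cancel (e1.trans e2.symm)

end Cfsg.Agent.S1185
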