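import Cfsg.Statements.S1186
import Cfsg.Agent.Lib.Inv.Isolated
import Cfsg.Agent.S1184
import Mathlib
-- import your own Cfsg.Agent.* helpers here

set_option autoImplicit false
open Cfsg

namespace Cfsg.Agent.S1186

/-- Let z be an isolated involution of the finite group G, C = C_G(z), K the set of elements of odd order inverted by z, and s an involution of C. Then |G| = |C| · |C_K(sz)| · |C_K(s)|. -/
theorem result {G : Type*} [Group G] [Finite G] (z : G) (hz : Cfsg.IsIsolatedInvolution z) (s : G) (hs : orderOf s = 2) (hsz : Commute s z) : Nat.card G = Nat.card (Subgroup.centralizer ({z} : Set G)) * Nat.card {k : G // Odd (orderOf k) ∧ z * k * z⁻¹ = k⁻¹ ∧ Commute k (s * z)} * Nat.card {k : G // Odd (orderOf k) ∧ z * k * z⁻¹ = k⁻¹ ∧ Commute k s} := by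
  open Cfsg.Agent.Inv in
  classical
  let C := Subgroup.centralizer ({z} : Set G)
  let X : Set G := {w | IsConj z w}
  have hX : Nat.card G = Nat.card C * Nat.card X := by
    rw [← C.card_mul_index]
    congr 1
    refine Nat.card_congr (Equiv.ofBijective (fun q => Quotient.liftOn' q
      (fun g => (⟨g * z * g⁻¹, isConj_iff.2 ⟨g, rfl⟩⟩ : X)) ?_) ⟨?_, ?_⟩)
    · intro a b hab
      rw [QuotientGroup.leftRel_apply, Subgroup.mem_centralizer_singleton_iff] at hab
      apply Subtype.ext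
      show a * z * a⁻¹ = b * z * b⁻¹
      calc a * z * a⁻¹ = a * (z * (a⁻¹ * b)) * b⁻¹ := by group
        _ = b * z * b⁻¹ := by rw [← hab]; group
    · intro a b hab
      induction a using QuotientGroup.induction_on with
      | H a =>
        induction b using QuotientGroup.induction_on with
        | H b =>
          have h : a * z * a⁻¹ = b * z * b⁻¹ := congrArg Subtype.val hab
          rw [QuotientGroup.eq, Subgroup.mem_centralizer_singleton_iff]
          calc a⁻¹ * b * z = a⁻¹ * (b * z * b⁻¹) * b := by group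
            _ = z * (a⁻¹ * b) := by rw [← h]; group
    · rintro ⟨w, hw⟩
      obtain ⟨g, hg⟩ := isConj_iff.1 hw
      exact ⟨(g : G ⧸ C), Subtype.ext hg⟩
  have hXodd : ∀ w ∈ X, ∀ v ∈ X, Odd (orderOf (w * v)) := by
    intro w hw v hv
    obtain ⟨g, rfl⟩ := isConj_iff.1 hw
    obtain ⟨h, rfl⟩ := isConj_iff.1 hv
    exact isolated_odd₂ hz g h
  have hX2 : ∀ w ∈ X, orderOf w = 2 := by
    intro w hw
    obtain ⟨g, rfl⟩ := isConj_iff.1 hw
    exact (orderOf_conj g z).trans hz.1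
  have hzi := inv_eq_self_of_orderOf_two hz.1
  -- the bijection between a family of inverted elements and a family of conjugates
  have hK : ∀ t : G, Commute t z →
      Nat.card {k : G // Odd (orderOf k) ∧ z * k * z⁻¹ = k⁻¹ ∧ Commute k t} =
        Nat.card {w : G // w ∈ X ∧ Commute w t} := by
    intro t ht
    refine Nat.card_congr (Equiv.ofBijective (fun k => ⟨k.1 * z * k.1⁻¹, isConj_iff.2 ⟨k.1, rfl⟩,
      ((k.2.2.2.mul_left ht.symm).mul_left k.2.2.2.inv_left)⟩) ⟨?_, ?_⟩)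
    · rintro ⟨a, ha1, ha2, _⟩ ⟨b, hb1, hb2, _⟩ heq
      have h' : a * z * a⁻¹ = b * z * b⁻¹ := congrArg Subtype.val heq
      rw [conj_eq_sq_mul ha2, conj_eq_sq_mul hb2] at h'
      exact Subtype.ext (eq_of_sq_eq ha1 hb1 (mul_right_cancel h'))
    · rintro ⟨w, hw, hwt⟩
      obtain ⟨g, rfl⟩ := isConj_iff.1 hw
      obtain ⟨h1, h2, h3⟩ := isolated_root hz g
      exact ⟨⟨_, h1, h2, (hwt.mul_left ht.symm).pow_left _⟩, Subtype.ext h3⟩
  rw [hX, hK s hsz, hK (s * z) (hsz.mul_left (Commute.refl z)), mul_assoc]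
  congr 1
  rw [← Nat.card_prod]
  have hsi := inv_eq_self_of_orderOf_two hs
  have hss := mul_self_of_orderOf_two hs
  -- the midpoint of `w` and `s * w * s`
  let A := {w : G // w ∈ X ∧ Commute w (s * z)}
  let B := {w : G // w ∈ X ∧ Commute w s}
  have hroot : ∀ v ∈ X, ∃ k : G, Odd (orderOf k) ∧ z * k * z⁻¹ = k⁻¹ ∧ k * z * k⁻¹ = v ∧
      (Commute v s → Commute k s) := by
    intro v hv
    obtain ⟨g, rfl⟩ := isConj_iff.1 hv
    obtain ⟨h1, h2, h3⟩ := isolated_root hz g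
    exact ⟨_, h1, h2, h3, fun h => (h.mul_left hsz.symm).pow_left _⟩
  choose κ hκ1 hκ2 hκ3 hκ4 using hroot
  have hsX : ∀ w ∈ X, s * w * s⁻¹ ∈ X := fun w hw => hw.trans (isConj_iff.2 ⟨s, rfl⟩)
  let F : A × B → X := fun p =>
    ⟨κ p.2.1 p.2.2.1 * p.1.1 * (κ p.2.1 p.2.2.1)⁻¹, p.1.2.1.trans (isConj_iff.2 ⟨_, rfl⟩)⟩
  -- conjugation by s of F
  have hF : ∀ p : A × B, s * (F p).1 * s⁻¹ = p.2.1 * (F p).1 * p.2.1⁻¹ := by
    rintro ⟨⟨a, haX, ha⟩, ⟨b, hbX, hb⟩⟩
    have hk := hκ4 b hbX hb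
    set k := κ b hbX with hk_def
    show s * (k * a * k⁻¹) * s⁻¹ = b * (k * a * k⁻¹) * b⁻¹
    have hsa : s * a * s⁻¹ = z * a * z⁻¹ := by
      have hc : (s * z) * a * (s * z)⁻¹ = a := by rw [← ha.eq, mul_inv_cancel_right]
      have hs2 : s = z * (s * z) := by
        rw [← mul_assoc, ← hsz.eq, mul_assoc, mul_self_of_orderOf_two hz.1, mul_one]
      calc s * a * s⁻¹ = z * ((s * z) * a * (s * z)⁻¹) * z⁻¹ := by
            conv_lhs => rw [hs2]
            group
        _ = z * a * z⁻¹ := by rw [hc]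
    calc s * (k * a * k⁻¹) * s⁻¹ = (s * k) * a * (s * k)⁻¹ := by group
      _ = (k * s) * a * (k * s)⁻¹ := by rw [hk.eq]
      _ = k * (s * a * s⁻¹) * k⁻¹ := by group
      _ = (k * z * k⁻¹) * (k * a * k⁻¹) * (k * z * k⁻¹)⁻¹ := by rw [hsa]; group
      _ = b * (k * a * k⁻¹) * b⁻¹ := by rw [hκ3 b hbX]
  refine Nat.card_congr (Equiv.ofBijective F ⟨?_, ?_⟩).symm
  · intro p q hpq
    have h1 := hF p
    rw [hpq, hF q] at h1
    obtain ⟨⟨a, haX, ha⟩, ⟨b, hbX, hb⟩⟩ := p
    obtain ⟨⟨a', haX', ha'⟩, ⟨b', hbX', hb'⟩⟩ := q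
    have hw : IsConj z (F (⟨a', haX', ha'⟩, ⟨b', hbX', hb'⟩)).1 := (F _).2
    set w := (F (⟨a', haX', ha'⟩, ⟨b', hbX', hb'⟩)).1
    change b' * w * b'⁻¹ = b * w * b⁻¹ at h1
    have hbb : b = b' := by
      have hc : Commute (b⁻¹ * b') w := by
        show b⁻¹ * b' * w = w * (b⁻¹ * b')
        calc b⁻¹ * b' * w = b⁻¹ * (b' * w * b'⁻¹) * b' := by group
          _ = w * (b⁻¹ * b') := by rw [h1]; group
      rw [inv_eq_self_of_orderOf_two (hX2 b hbX)] at hc
      by_contra hne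
      obtain ⟨g, hg⟩ := isConj_iff.1 hbX
      obtain ⟨h, hh⟩ := isConj_iff.1 hbX'
      obtain ⟨c, hc'⟩ := isConj_iff.1 hw
      have h2 := S1184.result z hz (c⁻¹ * g) (c⁻¹ * h)
      refine h2 (fun e => hne ?_) ?_
      · rw [← hg, ← hh]
        calc g * z * g⁻¹ = c * (c⁻¹ * g * z * (c⁻¹ * g)⁻¹) * c⁻¹ := by group
          _ = h * z * h⁻¹ := by rw [e]; group
      · have h3 := hc.map (MulAut.conj c⁻¹)
        rw [← hg, ← hh, ← hc'] at h3
        simp only [MulAut.conj_apply] at h3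
        convert h3 using 1 <;> group
    subst hbb
    have h4 : κ b hbX * a * (κ b hbX)⁻¹ = κ b hbX * a' * (κ b hbX)⁻¹ := congrArg Subtype.val hpq
    have h5 : a = a' := mul_left_cancel (mul_right_cancel h4)
    subst h5
    rfl
  · rintro ⟨w, hw⟩
    have hd : Odd (orderOf (s * w * s⁻¹ * w)) := hXodd _ (hsX w hw) _ hw
    set r := oddRoot (s * w * s⁻¹ * w) with hr
    obtain ⟨hr1, hr2⟩ := oddRoot_conj (hX2 w hw)
      ((orderOf_conj s w).trans (hX2 w hw)) hd
    rw [← hr] at hr1 hr2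
    have hsr : s * r * s⁻¹ = r⁻¹ := by
      rw [hr]
      refine conj_pow_of_inverts ?_ _
      rw [inv_mul_two ((orderOf_conj s w).trans (hX2 w hw)) (hX2 w hw), hsi]
      calc s * (s * w * s * w) * s = (s * s) * w * s * w * s := by group
        _ = w * (s * w * s) := by rw [hss]; simp [mul_assoc]
    set v := r * w with hv
    have hvX : v ∈ X := by
      have hq := conj_pow_of_inverts (z := w) (d := r) hr1 ((orderOf r + 1) / 2)
      refine hw.trans (isConj_iff.2 ⟨oddRoot r, ?_⟩)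
      rw [conj_eq_sq_mul (show w * oddRoot r * w⁻¹ = (oddRoot r)⁻¹ from hq),
        oddRoot_sq (hr ▸ odd_orderOf_oddRoot hd)]
    have hsws : s * w * s⁻¹ = r * r * w := by
      rw [← hr2, conj_eq_sq_mul hr1]
    have hvs : Commute v s := by
      apply Commute.symm
      show s * v = v * s
      calc s * v = (s * r * s⁻¹) * (s * w * s⁻¹) * s := by rw [hv]; group
        _ = r⁻¹ * (r * r * w) * s := by rw [hsr, hsws]
        _ = v * s := by rw [hv]; group
    set k := κ v hvX with hk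
    have hks : Commute k s := hκ4 v hvX hvs
    have haX : k⁻¹ * w * k ∈ X := hw.trans (isConj_iff.2 ⟨k⁻¹, by rw [inv_inv]⟩)
    have hasz : Commute (k⁻¹ * w * k) (s * z) := by
      have e1 : v * w * v⁻¹ = s * w * s⁻¹ := by
        rw [← hr2, hv]; group
      have e3 : v = k * z * k⁻¹ := (hκ3 v hvX).symm
      have e4 : (s * z) * (k⁻¹ * w * k) * (s * z)⁻¹ = k⁻¹ * w * k := by
        calc (s * z) * (k⁻¹ * w * k) * (s * z)⁻¹
            = s * k⁻¹ * (v * w * v⁻¹) * (s * k⁻¹)⁻¹ := by rw [e3]; group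
          _ = (k⁻¹ * s) * (s * w * s⁻¹) * (k⁻¹ * s)⁻¹ := by rw [e1, hks.inv_left.eq]
          _ = k⁻¹ * ((s * s) * w * (s * s)⁻¹) * k := by group
          _ = k⁻¹ * w * k := by rw [hss]; group
      exact (mul_inv_eq_iff_eq_mul.1 e4).symm
    exact ⟨(⟨k⁻¹ * w * k, haX, hasz⟩, ⟨v, hvX, hvs⟩), Subtype.ext (by
      show k * (k⁻¹ * w * k) * k⁻¹ = w
      group)⟩

end Cfsg.Agent.S1186
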