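import Cfsg.Statements.S1187
import Cfsg.Agent.Lib.Inv.IsolatedSylow

set_option autoImplicit false
open Cfsg

namespace Cfsg.Agent.S1187

/-- Let z be an isolated involution of the finite group G and p a prime. If Q is a p-subgroup normalized by z that is maximal among p-subgroups normalized by z, then Q is a Sylow p-subgroup of G. -/
theorem result {G : Type*} [Group G] [Finite G] (z : G) (hz : Cfsg.IsIsolatedInvolution z) {p : ℕ} [Fact p.Prime] (Q : Subgroup G) (hQ : IsPGroup p Q) (hzQ : z ∈ Subgroup.normalizer (Q : Set G)) (hmax : ∀ R : Subgroup G, IsPGroup p R → z ∈ Subgroup.normalizer (R : Set G) → Q ≤ R → R = Q) : ∃ P : Sylow p G, (P : Subgroup G) = Q := by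
  classical
  obtain ⟨P, hP⟩ : ∃ P : Sylow p G, Q ≤ P := hQ.exists_le_sylow
  refine ⟨P, ?_⟩
  have hz2 := hz.1
  by_cases hp : p = 2
  · subst hp
    -- `Q` contains `z`
    have hzp : IsPGroup 2 (Subgroup.zpowers z) :=
      IsPGroup.of_card (n := 1) (by rw [Nat.card_zpowers, hz2]; rfl)
    have hsup := hmax (Q ⊔ Subgroup.zpowers z)
      (hQ.to_sup_of_normal_left' hzp (Subgroup.zpowers_le.2 hzQ))
      (Subgroup.le_normalizer (Subgroup.mem_sup_right (Subgroup.mem_zpowers z))) le_sup_left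
    have hzmem : z ∈ Q := hsup ▸ Subgroup.mem_sup_right (Subgroup.mem_zpowers z)
    exact hmax P P.isPGroup' (Subgroup.le_normalizer (hP hzmem)) hP
  set R := Subgroup.normalizer (Q : Set G) with hR
  obtain ⟨T, hT⟩ := Inv.exists_isolated_invariant_sylow (p := p) (Inv.isolated_subgroup hz hzQ) hp
  -- `T` contains `Q`
  have hQR : Q ≤ R := Subgroup.le_normalizer
  haveI : (Q.subgroupOf R).Normal := Subgroup.normal_subgroupOf_iff_le_normalizer hQR |>.2 le_rfl
  have hQT : Q.subgroupOf R ≤ (T : Subgroup R) := by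
    have hQp : IsPGroup p (Q.subgroupOf R) := hQ.of_equiv (Subgroup.subgroupOfEquivOfLe hQR).symm
    obtain ⟨T', hT'⟩ := hQp.exists_le_sylow
    obtain ⟨g, rfl⟩ := MulAction.exists_smul_eq R T' T
    intro x hx
    exact Inv.mem_smul_sylow.2 (hT' (by
      simpa using (inferInstance : (Q.subgroupOf R).Normal).conj_mem x hx g⁻¹))
  set T₀ := (T : Subgroup R).map R.subtype with hT₀
  have hzT : z ∈ Subgroup.normalizer (T₀ : Set G) := by
    have h := Sylow.smul_eq_iff_mem_normalizer.1 hT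
    exact Subgroup.le_normalizer_map R.subtype ⟨⟨z, hzQ⟩, h, rfl⟩
  have hQT₀ : Q ≤ T₀ := fun x hx => ⟨⟨x, hQR hx⟩, hQT hx, rfl⟩
  have hTQ : T₀ = Q := hmax T₀ (T.isPGroup'.map _) hzT hQT₀
  -- a proper subgroup of a `p`-group is not self-normalizing
  by_contra hne
  have hlt : Q.subgroupOf (P : Subgroup G) < ⊤ := by
    refine lt_top_iff_ne_top.2 fun h => hne (le_antisymm ?_ hP)
    exact Subgroup.subgroupOf_eq_top.1 h
  haveI := P.isPGroup'.isNilpotent
  obtain ⟨x, hxN, hxQ⟩ := SetLike.exists_of_lt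
    ((Group.normalizerCondition_of_isNilpotent (G := (P : Subgroup G))) _ hlt)
  have hxR : (x : G) ∈ R := by
    rw [hR, Subgroup.mem_normalizer_iff]
    intro y
    constructor
    · intro hy
      exact (Subgroup.mem_normalizer_iff.1 hxN ⟨y, hP hy⟩).1 hy
    · intro hy
      have hy' : y ∈ (P : Subgroup G) := by
        have h := mul_mem (mul_mem (inv_mem x.2) (hP hy)) x.2
        simpa [mul_assoc] using h
      exact (Subgroup.mem_normalizer_iff.1 hxN ⟨y, hy'⟩).2 hy
  have hS₀ : IsPGroup p ((P : Subgroup G) ⊓ R : Subgroup G) := P.isPGroup'.to_le inf_le_left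
  have hlt2 : Q < (P : Subgroup G) ⊓ R := lt_of_le_of_ne (le_inf hP hQR) fun h =>
    hxQ (Subgroup.mem_subgroupOf.2 (h ▸ Subgroup.mem_inf.2 ⟨x.2, hxR⟩))
  obtain ⟨U, hU⟩ := (hS₀.of_equiv
    (Subgroup.subgroupOfEquivOfLe (inf_le_right : (P : Subgroup G) ⊓ R ≤ R)).symm).exists_le_sylow
  have hc : Nat.card ((P : Subgroup G) ⊓ R : Subgroup G) ≤ Nat.card Q := by
    calc Nat.card ((P : Subgroup G) ⊓ R : Subgroup G)
        = Nat.card (((P : Subgroup G) ⊓ R).subgroupOf R) :=
          (Nat.card_congr (Subgroup.subgroupOfEquivOfLe inf_le_right).toEquiv).symm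
      _ ≤ Nat.card (U : Subgroup R) :=
          Nat.card_le_card_of_injective (Subgroup.inclusion hU) (Subgroup.inclusion_injective _)
      _ = Nat.card (T : Subgroup R) := Nat.card_congr (Sylow.equiv U T).toEquiv
      _ = Nat.card T₀ := (Subgroup.card_subtype _ _).symm
      _ = Nat.card Q := by rw [hTQ]
  exact hlt2.ne (Subgroup.eq_of_le_of_card_ge hlt2.le hc)

end Cfsg.Agent.S1187
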