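import Cfsg.Statements.S1189
import Cfsg.Agent.Lib.Fusion.QuasiDihedralSubgroups

set_option autoImplicit false
open Cfsg

namespace Cfsg.Agent.S1189

/-- A quasi-dihedral 2-group has exactly two conjugacy classes of elements of order 2 and exactly two conjugacy classes of elements of order 4. -/
theorem result {S : Type*} [Group S] [Finite S] (hS : Cfsg.IsQuasiDihedral S) : Nat.card {C : ConjClasses S // ∃ t : S, orderOf t = 2 ∧ ConjClasses.mk t = C} = 2 ∧ Nat.card {C : ConjClasses S // ∃ t : S, orderOf t = 4 ∧ ConjClasses.mk t = C} = 2 := by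
  obtain ⟨n, hn, -, ⟨φ⟩⟩ := Fusion.QuasiDihedral.exists_equiv hS
  obtain ⟨h2, h4, o2, o2', o4, o4'⟩ := Fusion.QuasiDihedral.classes hn
  have key : ∀ (k : ℕ) (a b : Fusion.QuasiDihedral.Q n), orderOf a = k → orderOf b = k → a.e ≠ b.e →
      (∀ u, orderOf u = k → IsConj u a ∨ IsConj u b) →
      Nat.card {C : ConjClasses S // ∃ t : S, orderOf t = k ∧ ConjClasses.mk t = C} = 2 := by
    intro k a b ha hb hab hall
    have : {C : ConjClasses S | ∃ t : S, orderOf t = k ∧ ConjClasses.mk t = C} =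
        {ConjClasses.mk (φ a), ConjClasses.mk (φ b)} := by
      ext C
      constructor
      · rintro ⟨t, ht, rfl⟩
        rcases hall (φ.symm t) (by rw [MulEquiv.orderOf_eq, ht]) with h | h
        · exact Or.inl (ConjClasses.mk_eq_mk_iff_isConj.2 (by simpa using φ.toMonoidHom.map_isConj h))
        · exact Or.inr (ConjClasses.mk_eq_mk_iff_isConj.2 (by simpa using φ.toMonoidHom.map_isConj h))
      · rintro (rfl | rfl)
        · exact ⟨φ a, by rw [φ.orderOf_eq, ha], rfl⟩
        · exact ⟨φ b, by rw [φ.orderOf_eq, hb], rfl⟩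
    rw [← Set.coe_setOf, Nat.card_coe_set_eq, this, Set.ncard_pair]
    rw [Ne, ConjClasses.mk_eq_mk_iff_isConj]
    intro h
    exact Fusion.QuasiDihedral.not_isConj_of_e hab (by simpa using φ.symm.toMonoidHom.map_isConj h)
  exact ⟨key 2 _ _ o2 o2' (by simp) h2, key 4 _ _ o4 o4' (by simp) h4⟩

end Cfsg.Agent.S1189
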