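import Cfsg.Statements.S1190
import Cfsg.Agent.Lib.Fusion.QuasiDihedralSubgroups

set_option autoImplicit false
open Cfsg

namespace Cfsg.Agent.S1190

/-- In a quasi-dihedral 2-group S, any two Klein four-subgroups are conjugate, and every Klein four-subgroup T satisfies C_S(T) = T and |N_S(T) : T| = 2. -/
theorem result {S : Type*} [Group S] [Finite S] (hS : Cfsg.IsQuasiDihedral S) : (∀ T₁ T₂ : Subgroup S, IsKleinFour T₁ → IsKleinFour T₂ → ∃ s : S, T₁.map (MulAut.conj s).toMonoidHom = T₂) ∧ (∀ T : Subgroup S, IsKleinFour T → Subgroup.centralizer (T : Set S) = T ∧ T.relIndex (Subgroup.normalizer (T : Set S)) = 2) := by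
  obtain ⟨n, hn, -, ⟨φ⟩⟩ := Fusion.QuasiDihedral.exists_equiv hS
  have key : ∀ T : Subgroup S, IsKleinFour T → ∃ g, ((Fusion.QuasiDihedral.four hn).map (MulAut.conj g).toMonoidHom).map φ.toMonoidHom = T := by
    intro T hT
    let e : T ≃* T.map φ.symm.toMonoidHom := φ.symm.subgroupMap T
    have hT' : IsKleinFour (T.map φ.symm.toMonoidHom) :=
      { card_four := by rw [← Nat.card_congr e.toEquiv]; exact hT.card_four
        exponent_two := by rw [← Monoid.exponent_eq_of_mulEquiv e]; exact hT.exponent_two }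
    obtain ⟨g, hg⟩ := Fusion.QuasiDihedral.exists_conj_four hn _ hT'
    refine ⟨g, ?_⟩
    rw [hg, Subgroup.map_map]
    convert Subgroup.map_id T
    ext x
    simp
  refine ⟨fun T₁ T₂ h₁ h₂ => ?_, fun T hT => ?_⟩
  · obtain ⟨g₁, hg₁⟩ := key T₁ h₁
    obtain ⟨g₂, hg₂⟩ := key T₂ h₂
    refine ⟨_, Fusion.QuasiDihedral.conj_pair ((Fusion.QuasiDihedral.four hn).map φ.toMonoidHom) (g₁ := φ g₁) (g₂ := φ g₂) ?_ ?_⟩
    · rw [← Fusion.QuasiDihedral.map_conj_map]; exact hg₁
    · rw [← Fusion.QuasiDihedral.map_conj_map]; exact hg₂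
  · obtain ⟨g, hg⟩ := key T hT
    have h := Fusion.QuasiDihedral.transport φ _ g (Fusion.QuasiDihedral.centralizer_four hn)
      (Fusion.QuasiDihedral.relIndex_normalizer_sub hn (by omega : 1 + 1 ≤ n) 0 _)
    simp only [hg] at h
    refine ⟨le_antisymm h.1 fun x hx => Subgroup.mem_centralizer_iff.2 fun y hy => ?_, h.2⟩
    exact congrArg Subtype.val (mul_comm_of_exponent_two hT.exponent_two (⟨y, hy⟩ : T) ⟨x, hx⟩)

end Cfsg.Agent.S1190
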