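import Cfsg.Statements.S1191
import Cfsg.Agent.Lib.Fusion.QuasiDihedralSubgroups

set_option autoImplicit false
open Cfsg

namespace Cfsg.Agent.S1191

/-- In a quasi-dihedral 2-group S, any two subgroups isomorphic to the quaternion group of order 8 are conjugate, and each such subgroup Q satisfies C_S(Q) = Z(Q) and |N_S(Q) : Q| = 2. -/
theorem result {S : Type*} [Group S] [Finite S] (hS : Cfsg.IsQuasiDihedral S) : (∀ Q₁ Q₂ : Subgroup S, Nonempty (Q₁ ≃* QuaternionGroup 2) → Nonempty (Q₂ ≃* QuaternionGroup 2) → ∃ s : S, Q₁.map (MulAut.conj s).toMonoidHom = Q₂) ∧ (∀ Q : Subgroup S, Nonempty (Q ≃* QuaternionGroup 2) → Subgroup.centralizer (Q : Set S) = (Subgroup.center Q).map Q.subtype ∧ Q.relIndex (Subgroup.normalizer (Q : Set S)) = 2) := by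
  obtain ⟨n, hn, -, ⟨φ⟩⟩ := Fusion.QuasiDihedral.exists_equiv hS
  have key : ∀ T : Subgroup S, Nonempty (T ≃* QuaternionGroup 2) → ∃ g, ((Fusion.QuasiDihedral.quat8 hn).map (MulAut.conj g).toMonoidHom).map φ.toMonoidHom = T := by
    rintro T ⟨e⟩
    let θ : QuaternionGroup 2 →* Fusion.QuasiDihedral.Q n := φ.symm.toMonoidHom.comp (T.subtype.comp e.symm.toMonoidHom)
    have hθ : Function.Injective θ := φ.symm.injective.comp (T.subtype_injective.comp e.symm.injective)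
    obtain ⟨g, hg⟩ := Fusion.QuasiDihedral.exists_conj_quat8 hn θ hθ
    refine ⟨g, ?_⟩
    rw [hg, MonoidHom.map_range]
    ext x
    constructor
    · rintro ⟨y, rfl⟩; simp [θ]
    · intro hx; exact ⟨e ⟨x, hx⟩, by simp [θ]⟩
  refine ⟨fun T₁ T₂ h₁ h₂ => ?_, fun T hT => ?_⟩
  · obtain ⟨g₁, hg₁⟩ := key T₁ h₁
    obtain ⟨g₂, hg₂⟩ := key T₂ h₂
    refine ⟨_, Fusion.QuasiDihedral.conj_pair ((Fusion.QuasiDihedral.quat8 hn).map φ.toMonoidHom) (g₁ := φ g₁) (g₂ := φ g₂) ?_ ?_⟩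
    · rw [← Fusion.QuasiDihedral.map_conj_map]; exact hg₁
    · rw [← Fusion.QuasiDihedral.map_conj_map]; exact hg₂
  · obtain ⟨g, hg⟩ := key T hT
    have h := Fusion.QuasiDihedral.transport φ _ g (Fusion.QuasiDihedral.centralizer_quat8 hn)
      (Fusion.QuasiDihedral.relIndex_normalizer_sub hn (by omega : 2 + 1 ≤ n) 1 _)
    simp only [hg] at h
    refine ⟨?_, h.2⟩
    ext x
    constructor
    · intro hx
      refine ⟨⟨x, h.1 hx⟩, ?_, rfl⟩
      exact Subgroup.mem_center_iff.2 fun y => Subtype.ext (Subgroup.mem_centralizer_iff.1 hx y.1 y.2)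
    · rintro ⟨z, hz, rfl⟩
      exact Subgroup.mem_centralizer_iff.2 fun y hy => congrArg Subtype.val (Subgroup.mem_center_iff.1 hz ⟨y, hy⟩)

end Cfsg.Agent.S1191
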