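import Cfsg.Statements.S1192
import Cfsg.Agent.Lib.Fusion.QuasiDihedralSubgroups

set_option autoImplicit false
open Cfsg

namespace Cfsg.Agent.S1192

/-- A quasi-dihedral group S of order 2^(n+1) has exactly three maximal subgroups; one is cyclic, one is isomorphic to the generalized quaternion group of order 2^n and one to the dihedral group of order 2^n. -/
theorem result {S : Type*} [Group S] [Finite S] (hS : Cfsg.IsQuasiDihedral S) (n : ℕ) (hn : Nat.card S = 2 ^ (n + 1)) : ∃ M₁ M₂ M₃ : Subgroup S, IsCoatom M₁ ∧ IsCoatom M₂ ∧ IsCoatom M₃ ∧ M₁ ≠ M₂ ∧ M₁ ≠ M₃ ∧ M₂ ≠ M₃ ∧ (∀ M : Subgroup S, IsCoatom M → M = M₁ ∨ M = M₂ ∨ M = M₃) ∧ IsCyclic M₁ ∧ Nonempty (M₂ ≃* QuaternionGroup (2 ^ (n - 2))) ∧ Nonempty (M₃ ≃* DihedralGroup (2 ^ (n - 1))) := by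
  obtain ⟨m, hm, hcard, ⟨φ⟩⟩ := Fusion.QuasiDihedral.exists_equiv hS
  obtain rfl : n = m := by
    have := Nat.pow_right_injective (le_refl 2) (hn.symm.trans hcard); omega
  obtain ⟨c1, c3, c2, n12, n13, n23, hall⟩ := Fusion.QuasiDihedral.coatoms hm
  obtain ⟨e2⟩ := Fusion.QuasiDihedral.quatMax_equiv hm
  obtain ⟨e3⟩ := Fusion.QuasiDihedral.dihMax_equiv hm
  have hinj := Subgroup.map_injective (f := φ.toMonoidHom) φ.injective
  refine ⟨(Fusion.QuasiDihedral.Q.rot n).range.map φ.toMonoidHom, (Fusion.QuasiDihedral.quatMax hm).map φ.toMonoidHom,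
    (Fusion.QuasiDihedral.dihMax hm).map φ.toMonoidHom, (φ.mapSubgroup.isCoatom_iff _).2 c1, (φ.mapSubgroup.isCoatom_iff _).2 c2,
    (φ.mapSubgroup.isCoatom_iff _).2 c3, hinj.ne n12, hinj.ne n13, hinj.ne n23, fun M hM => ?_, ?_,
    ⟨(φ.subgroupMap _).symm.trans e2⟩, ⟨(φ.subgroupMap _).symm.trans e3⟩⟩
  · have h := hall (M.comap φ.toMonoidHom) ((φ.comapSubgroup.isCoatom_iff M).2 hM)
    have hM' : (M.comap φ.toMonoidHom).map φ.toMonoidHom = M := Subgroup.map_comap_eq_self_of_surjective φ.surjective M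
    rcases h with h | h | h <;> rw [h] at hM'
    · exact Or.inl hM'.symm
    · exact Or.inr (Or.inl hM'.symm)
    · exact Or.inr (Or.inr hM'.symm)
  · have := Fusion.QuasiDihedral.isCyclic_rot n
    exact isCyclic_of_surjective (φ.subgroupMap _) (φ.subgroupMap _).surjective

end Cfsg.Agent.S1192
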