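import Cfsg.Statements.S1193
import Cfsg.Agent.Lib.Fusion.QuasiDihedralSubgroups

set_option autoImplicit false
open Cfsg

namespace Cfsg.Agent.S1193

/-- Let S be quasi-dihedral of order 2^(n+1). Then S' = Φ(S) is cyclic of order 2^(n-1), the centre of S has order 2, and the subgroup generated by the involutions of S is dihedral of order 2^n. -/
theorem result {S : Type*} [Group S] [Finite S] (hS : Cfsg.IsQuasiDihedral S) (n : ℕ) (hn : Nat.card S = 2 ^ (n + 1)) : commutator S = frattini S ∧ IsCyclic (commutator S) ∧ Nat.card (commutator S) = 2 ^ (n - 1) ∧ Nat.card (Subgroup.center S) = 2 ∧ Nonempty (↥(Subgroup.closure {x : S | orderOf x = 2}) ≃* DihedralGroup (2 ^ (n - 1))) := by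
  obtain ⟨m, hm, hcard, ⟨φ⟩⟩ := Fusion.QuasiDihedral.exists_equiv hS
  obtain rfl : n = m := by
    have := Nat.pow_right_injective (le_refl 2) (hn.symm.trans hcard); omega
  have hcomm : commutator S = (Fusion.QuasiDihedral.evens n).map φ.toMonoidHom := by
    rw [← Fusion.QuasiDihedral.commutator_eq hm, commutator_def, commutator_def, Subgroup.map_commutator,
      Subgroup.map_top_of_surjective _ φ.surjective]
  obtain ⟨c1, c3, c2, -, -, -, hall⟩ := Fusion.QuasiDihedral.coatoms hm
  refine ⟨?_, ?_, ?_, ?_, ?_⟩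
  · rw [hcomm]
    refine le_antisymm (le_iInf₂ fun M hM => ?_) ?_
    · rw [Subgroup.map_le_iff_le_comap]
      intro u hu
      obtain ⟨he, d, hd⟩ := Fusion.QuasiDihedral.mem_evens.1 hu
      rcases hall (M.comap φ.toMonoidHom) ((φ.comapSubgroup.isCoatom_iff M).2 hM) with h | h | h <;> rw [h]
      · exact Fusion.QuasiDihedral.mem_rot.2 he
      · exact (Fusion.QuasiDihedral.mem_quatMax hm).2 ⟨d, by rw [he, hd]; simp⟩
      · exact (Fusion.QuasiDihedral.mem_dihMax hm).2 ⟨d, hd⟩
    · intro x hx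
      have h1 := frattini_le_coatom ((φ.mapSubgroup.isCoatom_iff _).2 c1) hx
      have h3 := frattini_le_coatom ((φ.mapSubgroup.isCoatom_iff _).2 c3) hx
      replace h1 := (Subgroup.mem_map_equiv (f := φ)).1 h1
      replace h3 := (Subgroup.mem_map_equiv (f := φ)).1 h3
      rw [Subgroup.mem_map_equiv]
      exact Fusion.QuasiDihedral.mem_evens.2 ⟨Fusion.QuasiDihedral.mem_rot.1 h1, (Fusion.QuasiDihedral.mem_dihMax hm).1 h3⟩
  · rw [hcomm]
    have := Fusion.QuasiDihedral.isCyclic_evens n
    exact isCyclic_of_surjective (φ.subgroupMap _) (φ.subgroupMap _).surjective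
  · rw [hcomm, ← Fusion.QuasiDihedral.card_evens hm]
    exact (Nat.card_congr (φ.subgroupMap _).toEquiv).symm
  · rw [← Fusion.QuasiDihedral.card_center hm]
    exact (Nat.card_congr (Subgroup.centerCongr φ).toEquiv).symm
  · obtain ⟨e3⟩ := Fusion.QuasiDihedral.dihMax_equiv hm
    have : Subgroup.closure {x : S | orderOf x = 2} = (Fusion.QuasiDihedral.dihMax hm).map φ.toMonoidHom := by
      rw [← Fusion.QuasiDihedral.closure_involutions hm, MonoidHom.map_closure]
      congr 1
      ext x
      exact ⟨fun h => ⟨φ.symm x, (φ.symm.orderOf_eq x).trans h, φ.apply_symm_apply x⟩,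
        by rintro ⟨y, hy, rfl⟩; exact (φ.orderOf_eq y).trans hy⟩
    rw [this]
    exact ⟨(φ.subgroupMap _).symm.trans e3⟩

end Cfsg.Agent.S1193
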