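import Cfsg.Statements.S1194
import Cfsg.Agent.Lib.Fusion.QuasiDihedralSubgroups

set_option autoImplicit false
open Cfsg

namespace Cfsg.Agent.S1194

/-- In a quasi-dihedral 2-group S, every proper normal subgroup is either a maximal subgroup or a cyclic subgroup contained in the derived subgroup S'. -/
theorem result {S : Type*} [Group S] [Finite S] (hS : Cfsg.IsQuasiDihedral S) (N : Subgroup S) [N.Normal] (hN : N ≠ ⊤) : IsCoatom N ∨ (IsCyclic N ∧ N ≤ commutator S) := by
  obtain ⟨n, hn, -, ⟨φ⟩⟩ := Fusion.QuasiDihedral.exists_equiv hS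
  have hN' : (N.comap φ.toMonoidHom).map φ.toMonoidHom = N := Subgroup.map_comap_eq_self_of_surjective φ.surjective N
  rcases Fusion.QuasiDihedral.normal_cases hn (N.comap φ.toMonoidHom) (fun h => hN (by rw [← hN', h, Subgroup.map_top_of_surjective _ φ.surjective])) with h | ⟨h1, h2⟩
  · exact Or.inl (hN' ▸ (φ.mapSubgroup.isCoatom_iff _).2 h)
  · right
    rw [← hN']
    refine ⟨isCyclic_of_surjective (φ.subgroupMap _) (φ.subgroupMap _).surjective, (Subgroup.map_mono h2).trans ?_⟩
    rw [← Fusion.QuasiDihedral.commutator_eq hn, commutator_def, commutator_def, Subgroup.map_commutator,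
      Subgroup.map_top_of_surjective _ φ.surjective]

end Cfsg.Agent.S1194
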