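import Cfsg.Statements.S1195
import Cfsg.Agent.Lib.Fusion.WreathedFacts

set_option autoImplicit false
open Cfsg

namespace Cfsg.Agent.S1195

/-- A wreathed 2-group has exactly three conjugacy classes of elements of order 2. -/
theorem result {S : Type*} [Group S] [Finite S] (hS : Cfsg.IsWreathed S) : Nat.card {C : ConjClasses S // ∃ t : S, orderOf t = 2 ∧ ConjClasses.mk t = C} = 3 := by
  obtain ⟨n, hn, -, ⟨φ⟩⟩ := Cfsg.Agent.Fusion.Wreathed.exists_equiv hS
  obtain ⟨hall, h1, h2, h3, h12, h13, h23⟩ := Cfsg.Agent.Fusion.Wreathed.involution_classes (n := n) hn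
  have hiff : ∀ u v : Cfsg.Agent.Fusion.Wreathed.W (2 ^ n), IsConj (φ u) (φ v) ↔ IsConj u v := fun u v =>
    ⟨fun h => by simpa using φ.symm.toMonoidHom.map_isConj h, fun h => φ.toMonoidHom.map_isConj h⟩
  rw [show {C : ConjClasses S // ∃ t : S, orderOf t = 2 ∧ ConjClasses.mk t = C} = ↥({ConjClasses.mk (φ ⟨Cfsg.Agent.Fusion.Wreathed.half n, Cfsg.Agent.Fusion.Wreathed.half n, false⟩),
      ConjClasses.mk (φ ⟨Cfsg.Agent.Fusion.Wreathed.half n, 0, false⟩), ConjClasses.mk (φ ⟨0, 0, true⟩)} : Set (ConjClasses S)) from ?_, Nat.card_coe_set_eq]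
  · rw [Set.ncard_insert_of_notMem, Set.ncard_pair]
    · rw [Ne, ConjClasses.mk_eq_mk_iff_isConj, hiff]; exact h23
    · simp only [Set.mem_insert_iff, Set.mem_singleton_iff, ConjClasses.mk_eq_mk_iff_isConj, hiff, not_or]
      exact ⟨h12, h13⟩
  · congr 1
    funext C
    refine propext ⟨?_, ?_⟩
    · rintro ⟨t, ht, rfl⟩
      obtain ⟨u, rfl⟩ := φ.surjective t
      show _ ∈ ({_, _, _} : Set (ConjClasses S))
      simp only [Set.mem_insert_iff, Set.mem_singleton_iff, ConjClasses.mk_eq_mk_iff_isConj, hiff]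
      exact hall u (by rwa [MulEquiv.orderOf_eq] at ht)
    · rintro (rfl | rfl | rfl)
      · exact ⟨_, by rw [MulEquiv.orderOf_eq, h1], rfl⟩
      · exact ⟨_, by rw [MulEquiv.orderOf_eq, h2], rfl⟩
      · exact ⟨_, by rw [MulEquiv.orderOf_eq, h3], rfl⟩

end Cfsg.Agent.S1195
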