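import Cfsg.Statements.S1196
import Cfsg.Agent.Lib.Fusion.WreathedFacts

set_option autoImplicit false
open Cfsg

namespace Cfsg.Agent.S1196

/-- A wreathed 2-group S of order 2^(2n+1) has a unique commutative subgroup of order 2^(2n), and this subgroup is isomorphic to the direct product of two cyclic groups of order 2^n. -/
theorem result {S : Type*} [Group S] [Finite S] (hS : Cfsg.IsWreathed S) (n : ℕ) (hn : Nat.card S = 2 ^ (2 * n + 1)) : (∃! U : Subgroup S, IsMulCommutative U ∧ Nat.card U = 2 ^ (2 * n)) ∧ ∀ U : Subgroup S, IsMulCommutative U → Nat.card U = 2 ^ (2 * n) → Nonempty (U ≃* Multiplicative (ZMod (2 ^ n) × ZMod (2 ^ n))) := by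
  obtain ⟨m, hm, hc, ⟨φ⟩⟩ := Cfsg.Agent.Fusion.Wreathed.exists_equiv hS
  obtain rfl : m = n := by
    have := Nat.pow_right_injective (le_refl 2) (hc.symm.trans hn); omega
  set B := (Cfsg.Agent.Fusion.Wreathed.W.base (2 ^ m)).map φ.toMonoidHom
  have hB : Nat.card B = 2 ^ (2 * m) := by
    rw [Subgroup.card_map_of_injective φ.injective, Cfsg.Agent.Fusion.Wreathed.card_base]
  have huniq : ∀ U : Subgroup S, IsMulCommutative U → Nat.card U = 2 ^ (2 * m) → U = B := fun U hU hUc => by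
    let ψ := Subgroup.equivMapOfInjective U φ.symm.toMonoidHom φ.symm.injective
    have h := Cfsg.Agent.Fusion.Wreathed.abelian_unique hm (U.map φ.symm.toMonoidHom)
      ⟨⟨fun u v => ψ.symm.injective (by rw [map_mul, map_mul]; exact hU.is_comm.comm _ _)⟩⟩
      (by rw [Subgroup.card_map_of_injective φ.symm.injective, hUc])
    show U = (Cfsg.Agent.Fusion.Wreathed.W.base (2 ^ m)).map φ.toMonoidHom
    rw [← h, Subgroup.map_map]
    convert (Subgroup.map_id U).symm using 2
    ext x; simp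
  have hBc : IsMulCommutative B := ⟨⟨fun u v => by
    obtain ⟨u', hu, hu'⟩ := u.2
    obtain ⟨v', hv, hv'⟩ := v.2
    refine Subtype.ext ?_
    show (u : S) * v = v * u
    rw [← hu', ← hv', ← map_mul, ← map_mul, Cfsg.Agent.Fusion.Wreathed.W.base_comm hu hv]⟩⟩
  refine ⟨⟨B, ⟨hBc, hB⟩, fun U hU => huniq U hU.1 hU.2⟩, fun U hU hUc => ?_⟩
  obtain rfl := huniq U hU hUc
  exact ⟨(φ.subgroupMap _).symm.trans (Cfsg.Agent.Fusion.Wreathed.baseEquiv m)⟩

end Cfsg.Agent.S1196
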