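import Cfsg.Statements.S1197
import Cfsg.Agent.Lib.Fusion.WreathedFacts

set_option autoImplicit false
open Cfsg

namespace Cfsg.Agent.S1197

/-- Let S be a wreathed 2-group of order 2^(2n+1). Then Z(S) is cyclic of order 2^n, the derived subgroup S' is cyclic of order 2^n, and S/Z(S) is isomorphic to the dihedral group of order 2^(n+1). -/
theorem result {S : Type*} [Group S] [Finite S] (hS : Cfsg.IsWreathed S) (n : ℕ) (hn : Nat.card S = 2 ^ (2 * n + 1)) : IsCyclic (Subgroup.center S) ∧ Nat.card (Subgroup.center S) = 2 ^ n ∧ IsCyclic (commutator S) ∧ Nat.card (commutator S) = 2 ^ n ∧ Nonempty (S ⧸ Subgroup.center S ≃* DihedralGroup (2 ^ n)) := by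
  obtain ⟨m, hm, hc, ⟨φ⟩⟩ := Cfsg.Agent.Fusion.Wreathed.exists_equiv hS
  obtain rfl : m = n := by
    have := Nat.pow_right_injective (le_refl 2) (hc.symm.trans hn); omega
  have hZ : Subgroup.center S = (φ.toMonoidHom.comp (Cfsg.Agent.Fusion.Wreathed.diagHom m)).range := by
    rw [MonoidHom.range_comp, ← Cfsg.Agent.Fusion.Wreathed.center_eq hm]
    ext s
    obtain ⟨u, rfl⟩ := φ.surjective s
    rw [Subgroup.mem_map_equiv]
    simp [Subgroup.mem_center_iff, φ.surjective.forall, ← map_mul]
  have hD : commutator S = (φ.toMonoidHom.comp (Cfsg.Agent.Fusion.Wreathed.antiHom m)).range := by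
    rw [MonoidHom.range_comp, ← Cfsg.Agent.Fusion.Wreathed.commutator_eq, commutator_def, commutator_def,
      Subgroup.map_commutator, Subgroup.map_top_of_surjective _ φ.surjective]
  have hinj1 : Function.Injective (φ.toMonoidHom.comp (Cfsg.Agent.Fusion.Wreathed.diagHom m)) :=
    φ.injective.comp fun u v h => Multiplicative.toAdd.injective (congrArg Cfsg.Agent.Fusion.Wreathed.W.a h)
  have hinj2 : Function.Injective (φ.toMonoidHom.comp (Cfsg.Agent.Fusion.Wreathed.antiHom m)) :=
    φ.injective.comp fun u v h => Multiplicative.toAdd.injective (congrArg Cfsg.Agent.Fusion.Wreathed.W.a h)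
  refine ⟨?_, ?_, ?_, ?_, ⟨?_⟩⟩
  · rw [hZ]; exact (MonoidHom.ofInjective hinj1).isCyclic.1 inferInstance
  · rw [hZ, ← Nat.card_congr (MonoidHom.ofInjective hinj1).toEquiv, Nat.card_congr Multiplicative.toAdd, Nat.card_zmod]
  · rw [hD]; exact (MonoidHom.ofInjective hinj2).isCyclic.1 inferInstance
  · rw [hD, ← Nat.card_congr (MonoidHom.ofInjective hinj2).toEquiv, Nat.card_congr Multiplicative.toAdd, Nat.card_zmod]
  · let f := (Cfsg.Agent.Fusion.Wreathed.dihedralHom m).comp φ.symm.toMonoidHom
    have hf : Function.Surjective f := (Cfsg.Agent.Fusion.Wreathed.dihedralHom_surjective m).comp φ.symm.surjective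
    refine (QuotientGroup.quotientMulEquivOfEq ?_).trans (QuotientGroup.quotientKerEquivOfSurjective f hf)
    rw [← MonoidHom.comap_ker, Cfsg.Agent.Fusion.Wreathed.dihedralHom_ker hm]
    ext s
    obtain ⟨u, rfl⟩ := φ.surjective s
    simp [Subgroup.mem_center_iff, φ.surjective.forall, ← map_mul]

end Cfsg.Agent.S1197
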