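import Cfsg.Statements.S1198
import Cfsg.Agent.Lib.Fusion.WreathedSubgroups

set_option autoImplicit false
open Cfsg

namespace Cfsg.Agent.S1198

/-- A wreathed 2-group S has a normal Klein four-subgroup T such that every Klein four-subgroup of S other than T is conjugate in S to any other such subgroup; in particular S has exactly two conjugacy classes of Klein four-subgroups. -/
theorem result {S : Type*} [Group S] [Finite S] (hS : Cfsg.IsWreathed S) : ∃ T : Subgroup S, IsKleinFour T ∧ T.Normal ∧ (∃ T₀ : Subgroup S, IsKleinFour T₀ ∧ T₀ ≠ T) ∧ ∀ T₁ T₂ : Subgroup S, IsKleinFour T₁ → IsKleinFour T₂ → T₁ ≠ T → T₂ ≠ T → ∃ s : S, T₁.map (MulAut.conj s).toMonoidHom = T₂ := by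
  obtain ⟨n, hn, -, ⟨φ⟩⟩ := Cfsg.Agent.Fusion.Wreathed.exists_equiv hS
  have hK : ∀ (P : Subgroup (Cfsg.Agent.Fusion.Wreathed.W (2 ^ n))), IsKleinFour P → IsKleinFour (P.map φ.toMonoidHom) := fun P hP =>
    Cfsg.Agent.Fusion.Wreathed.isKleinFour_of (by rw [Subgroup.card_map_of_injective φ.injective, hP.card_four]) (by
      rintro _ ⟨u, hu, rfl⟩
      rw [← map_pow, show u ^ 2 = 1 by simpa [hP.exponent_two] using congrArg Subtype.val (Monoid.pow_exponent_eq_one (⟨u, hu⟩ : P)), map_one])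
  refine ⟨(Cfsg.Agent.Fusion.Wreathed.four n).map φ.toMonoidHom, hK _ (Cfsg.Agent.Fusion.Wreathed.isKleinFour_four hn),
    Subgroup.Normal.map (Cfsg.Agent.Fusion.Wreathed.four_normal n) _ φ.surjective,
    ⟨(Cfsg.Agent.Fusion.Wreathed.fourOut n).map φ.toMonoidHom, hK _ (Cfsg.Agent.Fusion.Wreathed.isKleinFour_fourOut hn), fun h => ?_⟩, ?_⟩
  · have h1 : (⟨0, 0, true⟩ : Cfsg.Agent.Fusion.Wreathed.W (2 ^ n)) ∈ Cfsg.Agent.Fusion.Wreathed.four n :=
      Subgroup.map_injective φ.injective h ▸ (show _ ∈ Cfsg.Agent.Fusion.Wreathed.fourOut n from ⟨rfl, add_zero _⟩)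
    exact Bool.noConfusion h1.1
  · have key : ∀ T₁ : Subgroup S, IsKleinFour T₁ → T₁ ≠ (Cfsg.Agent.Fusion.Wreathed.four n).map φ.toMonoidHom →
        ∃ s : S, ((Cfsg.Agent.Fusion.Wreathed.fourOut n).map φ.toMonoidHom).map (MulAut.conj s).toMonoidHom = T₁ := by
      intro T₁ hT hne
      have hK' : IsKleinFour (T₁.map φ.symm.toMonoidHom) := Cfsg.Agent.Fusion.Wreathed.isKleinFour_of
        (by rw [Subgroup.card_map_of_injective φ.symm.injective, hT.card_four]) (by
          rintro _ ⟨u, hu, rfl⟩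
          rw [← map_pow, show u ^ 2 = 1 by simpa [hT.exponent_two] using congrArg Subtype.val (Monoid.pow_exponent_eq_one (⟨u, hu⟩ : T₁)), map_one])
      have hback : (T₁.map φ.symm.toMonoidHom).map φ.toMonoidHom = T₁ := by
        rw [Subgroup.map_map]; convert Subgroup.map_id T₁ using 2; ext x; simp
      obtain ⟨g, hg⟩ := Cfsg.Agent.Fusion.Wreathed.exists_conj_fourOut hn _ hK' (fun h => hne (by rw [← hback, h]))
      refine ⟨φ g, ?_⟩
      rw [← hback, ← hg, Subgroup.map_map, Subgroup.map_map]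
      congr 1; ext x; simp
    intro T₁ T₂ h₁ h₂ n₁ n₂
    obtain ⟨a, ha⟩ := key T₁ h₁ n₁
    obtain ⟨b, hb⟩ := key T₂ h₂ n₂
    refine ⟨b * a⁻¹, ?_⟩
    rw [← ha, ← hb, Subgroup.map_map]
    congr 1; ext x; simp [mul_assoc]

end Cfsg.Agent.S1198
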