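import Cfsg.Statements.S1199
import Cfsg.Agent.Lib.Fusion.WreathedSubgroups

set_option autoImplicit false
open Cfsg

namespace Cfsg.Agent.S1199

/-- A wreathed 2-group S of order 2^(2n+1) has exactly one subgroup of order 2^(n+1) isomorphic to a generalized quaternion group, and that subgroup is normal in S. -/
theorem result {S : Type*} [Group S] [Finite S] (hS : Cfsg.IsWreathed S) (n : ℕ) (hn : Nat.card S = 2 ^ (2 * n + 1)) : (∃! Y : Subgroup S, Nat.card Y = 2 ^ (n + 1) ∧ Nonempty (Y ≃* QuaternionGroup (2 ^ (n - 1)))) ∧ ∀ Y : Subgroup S, Nat.card Y = 2 ^ (n + 1) → Nonempty (Y ≃* QuaternionGroup (2 ^ (n - 1))) → Y.Normal := by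
  obtain ⟨m, hm, hc, ⟨φ⟩⟩ := Cfsg.Agent.Fusion.Wreathed.exists_equiv hS
  obtain rfl : m = n := by
    have := Nat.pow_right_injective (le_refl 2) (hc.symm.trans hn); omega
  have hN : 2 * 2 ^ (m - 1) = 2 ^ m := by rw [← pow_succ', Nat.sub_add_cancel (by omega : 1 ≤ m)]
  set Y₀ := (Cfsg.Agent.Fusion.Wreathed.quat m).map φ.toMonoidHom with hY₀
  have hY₀c : Nat.card Y₀ = 2 ^ (m + 1) := by
    rw [hY₀, Subgroup.card_map_of_injective φ.injective, Cfsg.Agent.Fusion.Wreathed.card_quat hm]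
  have huniq : ∀ Y : Subgroup S, Nat.card Y = 2 ^ (m + 1) → Nonempty (Y ≃* QuaternionGroup (2 ^ (m - 1))) → Y = Y₀ := by
    rintro Y hYc ⟨e⟩
    let f : QuaternionGroup (2 ^ (m - 1)) →* Cfsg.Agent.Fusion.Wreathed.W (2 ^ m) := φ.symm.toMonoidHom.comp (Y.subtype.comp e.symm.toMonoidHom)
    have hf : Function.Injective f := φ.symm.injective.comp (Y.subtype_injective.comp e.symm.injective)
    have : NeZero (2 ^ (m - 1)) := ⟨by positivity⟩
    have hrel := Cfsg.Agent.Fusion.Wreathed.mem_quat_of_relations hm (w := f (.a 1)) (v := f (.xa 0))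
      (by rw [orderOf_injective f hf, QuaternionGroup.orderOf_a_one, hN])
      (by
        rw [← map_pow, ← map_pow, sq, QuaternionGroup.xa_mul_xa, QuaternionGroup.a_one_pow]
        simp)
      (by
        rw [← map_inv, ← map_mul, ← map_mul, show (QuaternionGroup.a (1 : ZMod (2 * 2 ^ (m - 1))))⁻¹ = QuaternionGroup.a (-1) from rfl,
          QuaternionGroup.a_mul_xa, QuaternionGroup.xa_mul_a, sub_eq_add_neg])
    have hall : ∀ x, f x ∈ Cfsg.Agent.Fusion.Wreathed.quat m := by
      have ha : ∀ i, f (.a i) ∈ Cfsg.Agent.Fusion.Wreathed.quat m := fun i => by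
        rw [← ZMod.natCast_rightInverse i, ← QuaternionGroup.a_one_pow, map_pow]
        exact pow_mem hrel.2 _
      rintro (i | i)
      · exact ha i
      · have := mul_mem hrel.1 (ha i)
        rwa [← map_mul, QuaternionGroup.xa_mul_a, zero_add] at this
    refine Subgroup.eq_of_le_of_card_ge (fun y hy => ?_) (by rw [hY₀c, hYc])
    exact ⟨_, hall (e ⟨y, hy⟩), by simp [f]⟩
  let θ : QuaternionGroup (2 ^ (m - 1)) →* Cfsg.Agent.Fusion.Wreathed.quat m :=
    MonoidHom.mk' (fun x => match x with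
      | .a i => ⟨⟨ZMod.ringEquivCongr hN i, -ZMod.ringEquivCongr hN i, false⟩, (Cfsg.Agent.Fusion.Wreathed.mem_quat hm).2 (add_neg_cancel _)⟩
      | .xa i => ⟨⟨-ZMod.ringEquivCongr hN i, Cfsg.Agent.Fusion.Wreathed.half m + ZMod.ringEquivCongr hN i, true⟩,
          (Cfsg.Agent.Fusion.Wreathed.mem_quat hm).2 (by simp only [cond_true]; ring)⟩) (by
      have hk : ZMod.ringEquivCongr hN ((2 ^ (m - 1) : ℕ) : ZMod (2 * 2 ^ (m - 1))) = Cfsg.Agent.Fusion.Wreathed.half m := map_natCast _ _
      have hh := Cfsg.Agent.Fusion.Wreathed.half_add_half hm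
      rintro (i | i) (j | j) <;> refine Subtype.ext ?_
      · rw [QuaternionGroup.a_mul_a]
        simp only [Subgroup.coe_mul, map_add, Cfsg.Agent.Fusion.Wreathed.W.mk_false_mul]
        ext <;> simp <;> ring
      · rw [QuaternionGroup.a_mul_xa]
        simp only [Subgroup.coe_mul, map_sub, Cfsg.Agent.Fusion.Wreathed.W.mk_false_mul]
        ext <;> simp <;> ring
      · rw [QuaternionGroup.xa_mul_a]
        simp only [Subgroup.coe_mul, map_add, Cfsg.Agent.Fusion.Wreathed.W.mk_true_mul]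
        ext <;> simp <;> ring
      · rw [QuaternionGroup.xa_mul_xa]
        simp only [Subgroup.coe_mul, map_add, map_sub, hk, Cfsg.Agent.Fusion.Wreathed.W.mk_true_mul]
        ext <;> simp
        · ring
        · linear_combination -hh)
  have hθ : Function.Injective θ := by
    rintro (i | i) (j | j) h <;> have h' := congrArg Subtype.val h
    · exact congrArg _ ((ZMod.ringEquivCongr hN).injective (congrArg Cfsg.Agent.Fusion.Wreathed.W.a h'))
    · exact Bool.noConfusion (congrArg Cfsg.Agent.Fusion.Wreathed.W.e h')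
    · exact Bool.noConfusion (congrArg Cfsg.Agent.Fusion.Wreathed.W.e h')
    · exact congrArg _ ((ZMod.ringEquivCongr hN).injective (neg_injective (congrArg Cfsg.Agent.Fusion.Wreathed.W.a h')))
  have : NeZero (2 ^ (m - 1)) := ⟨by positivity⟩
  have hbij : Function.Bijective θ := (Nat.bijective_iff_injective_and_card θ).2 ⟨hθ, by
    rw [Cfsg.Agent.Fusion.Wreathed.card_quat hm, Nat.card_eq_fintype_card, QuaternionGroup.card, pow_succ, ← hN]; ring⟩
  refine ⟨⟨Y₀, ⟨hY₀c, ⟨(φ.subgroupMap _).symm.trans (MulEquiv.ofBijective θ hbij).symm⟩⟩, fun Y hY => huniq Y hY.1 hY.2⟩, fun Y h1 h2 => ?_⟩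
  rw [huniq Y h1 h2]
  exact Subgroup.Normal.map (MonoidHom.normal_ker _) _ φ.surjective

end Cfsg.Agent.S1199
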