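import Cfsg.Statements.S1200
import Cfsg.Agent.Lib.Fusion.WreathedFacts

set_option autoImplicit false
open Cfsg

namespace Cfsg.Agent.S1200

/-- Let S be a wreathed 2-group of order 2^(2n+1) and Ω the subgroup generated by its involutions. Then Ω has order 2^(n+2) and S/Ω is cyclic: some s ∈ S together with Ω generates S. -/
theorem result {S : Type*} [Group S] [Finite S] (hS : Cfsg.IsWreathed S) (n : ℕ) (hn : Nat.card S = 2 ^ (2 * n + 1)) : Nat.card (Subgroup.closure {x : S | orderOf x = 2}) = 2 ^ (n + 2) ∧ ∃ s : S, Subgroup.closure {x : S | orderOf x = 2} ⊔ Subgroup.zpowers s = ⊤ := by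
  obtain ⟨m, hm, hc, ⟨φ⟩⟩ := Cfsg.Agent.Fusion.Wreathed.exists_equiv hS
  obtain rfl : m = n := by
    have := Nat.pow_right_injective (le_refl 2) (hc.symm.trans hn); omega
  have hset : {x : S | orderOf x = 2} = φ.toMonoidHom '' {u | orderOf u = 2} := by
    ext x
    obtain ⟨u, rfl⟩ := φ.surjective x
    exact ⟨fun h => ⟨u, by simpa [MulEquiv.orderOf_eq] using h, rfl⟩, fun ⟨v, hv, he⟩ => by
      obtain rfl := φ.injective he
      simpa [MulEquiv.orderOf_eq] using hv⟩
  rw [hset, ← MonoidHom.map_closure, Cfsg.Agent.Fusion.Wreathed.closure_involutions hm,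
    Subgroup.card_map_of_injective φ.injective]
  refine ⟨Cfsg.Agent.Fusion.Wreathed.card_omega hm, φ ⟨1, 0, false⟩, ?_⟩
  rw [show Subgroup.zpowers (φ (⟨1, 0, false⟩ : Cfsg.Agent.Fusion.Wreathed.W (2 ^ m))) =
      (Subgroup.zpowers (⟨1, 0, false⟩ : Cfsg.Agent.Fusion.Wreathed.W (2 ^ m))).map φ.toMonoidHom from (MonoidHom.map_zpowers φ.toMonoidHom _).symm,
    ← Subgroup.map_sup, Cfsg.Agent.Fusion.Wreathed.omega_sup, Subgroup.map_top_of_surjective _ φ.surjective]

end Cfsg.Agent.S1200
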