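import Cfsg.Statements.S1201
import Cfsg.Agent.Lib.Fusion.WreathedSubgroups

set_option autoImplicit false
open Cfsg

namespace Cfsg.Agent.S1201

/-- If X is a non-commutative subgroup of a wreathed 2-group S, then Z(X) ≤ Z(S). -/
theorem result {S : Type*} [Group S] [Finite S] (hS : Cfsg.IsWreathed S) (X : Subgroup S) (hX : ¬ IsMulCommutative X) : (Subgroup.center X).map X.subtype ≤ Subgroup.center S := by
  obtain ⟨n, hn, -, ⟨φ⟩⟩ := Cfsg.Agent.Fusion.Wreathed.exists_equiv hS
  rintro _ ⟨z, hz, rfl⟩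
  by_contra hzc
  refine hX ⟨⟨fun v w => Subtype.ext ?_⟩⟩
  have hcomm : ∀ u : X, φ.symm (z : S) * φ.symm (u : S) = φ.symm (u : S) * φ.symm (z : S) := fun u => by
    rw [← map_mul, ← map_mul]
    exact congrArg _ (congrArg Subtype.val (Subgroup.mem_center_iff.1 hz u)).symm
  have hu : φ.symm (z : S) ∉ Subgroup.center _ := fun h => hzc (Subgroup.mem_center_iff.2 fun s => φ.symm.injective (by
    rw [map_mul, map_mul]; exact Subgroup.mem_center_iff.1 h _))
  refine φ.symm.injective ?_
  rw [Subgroup.coe_mul, Subgroup.coe_mul, map_mul, map_mul]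
  exact Cfsg.Agent.Fusion.Wreathed.commute_of_centralize hn hu (hcomm v) (hcomm w)

end Cfsg.Agent.S1201
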