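import Cfsg.Statements.S1202
import Cfsg.Agent.Lib.Fusion.WreathedAut

set_option autoImplicit false
open Cfsg

namespace Cfsg.Agent.S1202

/-- Let S be a wreathed 2-group of order 2^(2n+1) and X a subgroup with C_S(X) ≤ X such that Aut(X) is not a 2-group. Then |N_S(X) : X| = 2, and either X is the commutative subgroup of order 2^(2n), or X = Q·Z(S) for some subgroup Q ≅ Q₈; in the latter case any two such subgroups are conjugate in S. -/
theorem result {S : Type*} [Group S] [Finite S] (hS : Cfsg.IsWreathed S) (n : ℕ) (hn : Nat.card S = 2 ^ (2 * n + 1)) (X : Subgroup S) (hC : Subgroup.centralizer (X : Set S) ≤ X) (hA : ¬ IsPGroup 2 (MulAut X)) : X.relIndex (Subgroup.normalizer (X : Set S)) = 2 ∧ ((IsMulCommutative X ∧ Nat.card X = 2 ^ (2 * n)) ∨ ∃ Q : Subgroup S, Nonempty (Q ≃* QuaternionGroup 2) ∧ X = Q ⊔ Subgroup.center S) ∧ ∀ X' : Subgroup S, Subgroup.centralizer (X' : Set S) ≤ X' → ¬ IsPGroup 2 (MulAut X') → ¬ IsMulCommutative X → ¬ IsMulCommutative X' → ∃ s : S, X.map (MulAut.conj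 s).toMonoidHom = X' := by
  obtain ⟨m, hm, hc, ⟨φ⟩⟩ := Cfsg.Agent.Fusion.Wreathed.exists_equiv hS
  obtain rfl : m = n := by
    have := Nat.pow_right_injective (le_refl 2) (hc.symm.trans hn); omega
  have key : ∀ Y : Subgroup S, Subgroup.centralizer (Y : Set S) ≤ Y → ¬ IsPGroup 2 (MulAut Y) →
      Y = (Cfsg.Agent.Fusion.Wreathed.W.base (2 ^ m)).map φ.toMonoidHom ∨
      ∃ s : S, ((Cfsg.Agent.Fusion.Wreathed.thin m).map φ.toMonoidHom).map (MulAut.conj s).toMonoidHom = Y := by
    intro Y hY hYA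
    have hback : (Y.map φ.symm.toMonoidHom).map φ.toMonoidHom = Y := by
      rw [Subgroup.map_map]; convert Subgroup.map_id Y using 2; ext x; simp
    have e := Subgroup.equivMapOfInjective Y φ.symm.toMonoidHom φ.symm.injective
    rcases Cfsg.Agent.Fusion.Wreathed.self_centralizing_cases hm (Y.map φ.symm.toMonoidHom)
        (fun u hu => ⟨φ u, hY (fun y hy => φ.symm.injective (by simpa using hu _ ⟨y, hy, rfl⟩)), by simp⟩)
        (fun h => hYA (IsPGroup.of_equiv h (MulAut.congr e).symm)) with h | ⟨g, hg⟩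
    · left; rw [← hback, h]
    · right
      refine ⟨φ g, ?_⟩
      rw [← hback, ← hg, Subgroup.map_map, Subgroup.map_map]
      congr 1; ext x; simp
  have hbne : ∀ s : S, IsMulCommutative ↥(((Cfsg.Agent.Fusion.Wreathed.thin m).map φ.toMonoidHom).map (MulAut.conj s).toMonoidHom) → False := by
    intro s h
    obtain ⟨θ, -, -, x, hx, y, hy, hxy⟩ := Cfsg.Agent.Fusion.Wreathed.exists_quaternion_thin (n := m) hm
    refine hxy (φ.injective ((MulAut.conj s).injective ?_))
    simp only [map_mul]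
    exact congrArg Subtype.val (h.is_comm.comm ⟨_, φ x, ⟨x, hx, rfl⟩, rfl⟩ ⟨_, φ y, ⟨y, hy, rfl⟩, rfl⟩)
  refine ⟨?_, ?_, fun X' hC' hA' hX hX' => ?_⟩
  · rcases key X hC hA with h | ⟨s, h⟩
    · subst h
      have : ((Cfsg.Agent.Fusion.Wreathed.W.base (2 ^ m)).map φ.toMonoidHom).Normal := Subgroup.Normal.map inferInstance _ φ.surjective
      rw [Subgroup.normalizer_eq_top, Subgroup.relIndex_top_right]
      have h2 := ((Cfsg.Agent.Fusion.Wreathed.W.base (2 ^ m)).map φ.toMonoidHom).card_mul_index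
      rw [Subgroup.card_map_of_injective φ.injective, Cfsg.Agent.Fusion.Wreathed.card_base, hn, pow_succ] at h2
      exact Nat.eq_of_mul_eq_mul_left (by positivity) h2
    · rw [← h, ← Subgroup.map_equiv_normalizer_eq, ← Subgroup.map_equiv_normalizer_eq,
        Subgroup.relIndex_map_map_of_injective _ _ (MulAut.conj s).injective, Subgroup.relIndex_map_map_of_injective _ _ φ.injective]
      exact Cfsg.Agent.Fusion.Wreathed.relIndex_thin hm
  · rcases key X hC hA with h | ⟨s, h⟩
    · left
      subst h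
      refine ⟨⟨⟨fun u v => ?_⟩⟩, by rw [Subgroup.card_map_of_injective φ.injective, Cfsg.Agent.Fusion.Wreathed.card_base]⟩
      obtain ⟨u', hu, hu'⟩ := u.2
      obtain ⟨v', hv, hv'⟩ := v.2
      refine Subtype.ext ?_
      show (u : S) * v = v * u
      rw [← hu', ← hv', ← map_mul, ← map_mul, Cfsg.Agent.Fusion.Wreathed.W.base_comm hu hv]
    · right
      obtain ⟨θ, hθ, heq, -⟩ := Cfsg.Agent.Fusion.Wreathed.exists_quaternion_thin (n := m) hm
      let f : QuaternionGroup 2 →* S := ((MulAut.conj s).toMonoidHom.comp φ.toMonoidHom).comp θ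
      have hf : Function.Injective f := (MulAut.conj s).injective.comp (φ.injective.comp hθ)
      refine ⟨f.range, ⟨(MonoidHom.ofInjective hf).symm⟩, ?_⟩
      rw [← h, heq, Subgroup.map_map, Subgroup.map_sup, MonoidHom.range_comp]
      congr 1
      ext x
      constructor
      · rintro ⟨u, hu, rfl⟩
        refine Subgroup.mem_center_iff.2 fun w => ?_
        obtain ⟨w', rfl⟩ := ((MulAut.conj s).surjective.comp φ.surjective) w
        show ((MulAut.conj s).toMonoidHom.comp φ.toMonoidHom) w' * _ = _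
        rw [← map_mul, Subgroup.mem_center_iff.1 hu w', map_mul]
        rfl
      · intro hx
        obtain ⟨u, rfl⟩ := ((MulAut.conj s).surjective.comp φ.surjective) x
        refine ⟨u, Subgroup.mem_center_iff.2 fun w => ((MulAut.conj s).injective.comp φ.injective) ?_, rfl⟩
        show (MulAut.conj s) (φ (w * u)) = (MulAut.conj s) (φ (u * w))
        rw [map_mul, map_mul, map_mul, map_mul]
        exact Subgroup.mem_center_iff.1 hx _
  · rcases key X hC hA with h | ⟨a, h⟩
    · exfalso; apply hX; subst h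
      exact ⟨⟨fun u v => by
        obtain ⟨u', hu, hu'⟩ := u.2
        obtain ⟨v', hv, hv'⟩ := v.2
        refine Subtype.ext ?_
        show (u : S) * v = v * u
        rw [← hu', ← hv', ← map_mul, ← map_mul, Cfsg.Agent.Fusion.Wreathed.W.base_comm hu hv]⟩⟩
    rcases key X' hC' hA' with h' | ⟨b, h'⟩
    · exfalso; apply hX'; subst h'
      exact ⟨⟨fun u v => by
        obtain ⟨u', hu, hu'⟩ := u.2
        obtain ⟨v', hv, hv'⟩ := v.2
        refine Subtype.ext ?_
        show (u : S) * v = v * u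
        rw [← hu', ← hv', ← map_mul, ← map_mul, Cfsg.Agent.Fusion.Wreathed.W.base_comm hu hv]⟩⟩
    refine ⟨b * a⁻¹, ?_⟩
    rw [← h, ← h', Subgroup.map_map]
    congr 1; ext x; simp [mul_assoc]

end Cfsg.Agent.S1202
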