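import Cfsg.Statements.S1203
import Cfsg.Agent.Lib.Fusion.QuasiDihedralFusion

set_option autoImplicit false
open Cfsg

namespace Cfsg.Agent.S1203

/-- Let G be a finite group with quasi-dihedral Sylow 2-subgroup S, T a Klein four-subgroup of S and Q a quaternion subgroup of order 8 of S. Then |N_G(T) : C_G(T)| ∈ {2, 6} and |N_G(Q) : Q C_G(Q)| ∈ {2, 6}. -/
theorem result {G : Type*} [Group G] [Finite G] (S : Sylow 2 G) (hS : Cfsg.IsQuasiDihedral (S : Subgroup G)) (T : Subgroup G) (hT : IsKleinFour T) (hTS : T ≤ S) (Q : Subgroup G) (hQS : Q ≤ S) (eQ : Q ≃* QuaternionGroup 2) : ((Subgroup.centralizer (T : Set G)).relIndex (Subgroup.normalizer (T : Set G)) = 2 ∨ (Subgroup.centralizer (T : Set G)).relIndex (Subgroup.normalizer (T : Set G)) = 6) ∧ ((Q ⊔ Subgroup.centralizer (Q : Set G)).relIndex (Subgroup.normalizer (Q : Set G)) = 2 ∨ (Q ⊔ Subgroup.centralizer (Q : Set G)).relIndex (Subgroup.normalizer (Q : Set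 G)) = 6) := by
  obtain ⟨n, hn, -, ⟨φ⟩⟩ := Cfsg.Agent.Fusion.QuasiDihedral.exists_equiv hS
  let D : Cfsg.Agent.Fusion.QuasiDihedral.Setup G n := ⟨S, hn, φ⟩
  obtain ⟨eT, eR⟩ := D.reduce hT hTS hQS eQ
  obtain ⟨d₁, hd₁, -, h1⟩ := D.automizer_T
  obtain ⟨d₂, hd₂, -, h2⟩ := D.automizer_R
  rw [eT, eR, h1, h2]
  omega

end Cfsg.Agent.S1203
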