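import Cfsg.Statements.S1204
import Cfsg.Agent.Lib.Fusion.QuasiDihedralFusion

set_option autoImplicit false
open Cfsg

namespace Cfsg.Agent.S1204

/-- Let G be a finite group with quasi-dihedral Sylow 2-subgroup S, T a Klein four-subgroup and Q a quaternion subgroup of order 8 of S, with |N_G(T) : C_G(T)| = 6 and |N_G(Q) : Q C_G(Q)| = 6. Then G has no subgroup of index 2, exactly one conjugacy class of involutions and exactly one conjugacy class of elements of order 4. -/
theorem result {G : Type*} [Group G] [Finite G] (S : Sylow 2 G) (hS : Cfsg.IsQuasiDihedral (S : Subgroup G)) (T : Subgroup G) (hT : IsKleinFour T) (hTS : T ≤ S) (Q : Subgroup G) (hQS : Q ≤ S) (eQ : Q ≃* QuaternionGroup 2) (h₁ : (Subgroup.centralizer (T : Set G)).relIndex (Subgroup.normalizer (T : Set G)) = 6) (h₂ : (Q ⊔ Subgroup.centralizer (Q : Set G)).relIndex (Subgroup.normalizer (Q : Set G)) = 6) : (∀ H : Subgroup G, H.index ≠ 2) ∧ Nat.card {C : ConjClasses G // ∃ t : G, orderOf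 t = 2 ∧ ConjClasses.mk t = C} = 1 ∧ Nat.card {C : ConjClasses G // ∃ t : G, orderOf t = 4 ∧ ConjClasses.mk t = C} = 1 := by
  obtain ⟨n, hn, -, ⟨φ⟩⟩ := Cfsg.Agent.Fusion.QuasiDihedral.exists_equiv hS
  let D : Cfsg.Agent.Fusion.QuasiDihedral.Setup G n := ⟨S, hn, φ⟩
  obtain ⟨eT, eR⟩ := D.reduce hT hTS hQS eQ
  rw [eT] at h₁; rw [eR] at h₂
  refine ⟨fun H hH => ?_, D.card_classes_two.1 (D.isConj_z_t h₁), D.card_classes_four.1 (D.isConj_q_p h₂)⟩
  have : H.Normal := Subgroup.normal_of_index_eq_two hH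
  have hM : ∀ g : G, Odd (orderOf g) → ∀ x : G, x⁻¹ * (g * x * g⁻¹) ∈ H := fun g hg x => by
    have hgH : g ∈ H := Cfsg.Agent.Fusion.Wreathed.Setup.mem_of_odd (j := 1) hH hg
    have := H.mul_mem (Subgroup.Normal.conj_mem' inferInstance _ hgH x) (inv_mem hgH)
    simpa [mul_assoc] using this
  have hle : (S : Subgroup G) ≤ H := by
    intro x hx
    obtain ⟨⟨i, e⟩, rfl⟩ := D.exists_ι hx
    have hrefl : ∀ i, D.ι ⟨i, true⟩ ∈ H := fun i => by
      rcases Cfsg.Agent.Fusion.QuasiDihedral.even_or_odd hn i with ⟨d, rfl⟩ | ⟨d, rfl⟩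
      · exact D.ref_even_mem h₁ H (fun g hg x _ _ => hM g hg x) d
      · exact D.ref_odd_mem h₂ H (fun g hg x _ _ => hM g hg x) d
    cases e
    · have := mul_mem (hrefl i) (inv_mem (hrefl 0))
      rw [← map_inv, ← map_mul] at this
      simpa using this
    · exact hrefl i
  exact S.not_dvd_index ((dvd_of_eq hH.symm).trans (Subgroup.index_dvd_of_le hle))

end Cfsg.Agent.S1204
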