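import Cfsg.Statements.S1205
import Cfsg.Agent.Lib.Fusion.QuasiDihedralFusion

set_option autoImplicit false
open Cfsg

namespace Cfsg.Agent.S1205

/-- Let G be a finite group with quasi-dihedral Sylow 2-subgroup S, T a Klein four-subgroup and Q a quaternion subgroup of order 8 of S, with |N_G(T) : C_G(T)| = 2 and |N_G(Q) : Q C_G(Q)| = 6. Then G has a normal subgroup K of index 2 whose Sylow 2-subgroups are generalized quaternion and which has no subgroup of index 2; the centre of S is weakly closed in S; and G has exactly two classes of involutions and one class of elements of order 4. -/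
theorem result {G : Type*} [Group G] [Finite G] (S : Sylow 2 G) (hS : Cfsg.IsQuasiDihedral (S : Subgroup G)) (T : Subgroup G) (hT : IsKleinFour T) (hTS : T ≤ S) (Q : Subgroup G) (hQS : Q ≤ S) (eQ : Q ≃* QuaternionGroup 2) (h₁ : (Subgroup.centralizer (T : Set G)).relIndex (Subgroup.normalizer (T : Set G)) = 2) (h₂ : (Q ⊔ Subgroup.centralizer (Q : Set G)).relIndex (Subgroup.normalizer (Q : Set G)) = 6) : (∃ K : Subgroup G, K.Normal ∧ K.index = 2 ∧ (∀ P : Sylow 2 ↥K, ∃ m : ℕ, 1 ≤ m ∧ Nonempty ((P : Subgroup ↥K) ≃* QuaternionGroup (2 ^ m))) ∧ (∀ H : Subgroup ↥K, H.index ≠ 2)) ∧ Cfsg.IsWeaklyClosed ((Subgroup.center (S : Subgroup G)).map (S : Subgroup G).subtype) (S : Subgroup G) ∧ Nat.card {C : ConjClasses G // ∃ t : G, orderOf t = 2 ∧ ConjClasses.mk t = C} = 2 ∧ Nat.card {C : ConjClasses G // ∃ t : G, orderOf t = 4 ∧ ConjClasses.mk t = C} = 1 := by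
  obtain ⟨n, hn, -, ⟨φ⟩⟩ := Cfsg.Agent.Fusion.QuasiDihedral.exists_equiv hS
  let D : Cfsg.Agent.Fusion.QuasiDihedral.Setup G n := ⟨S, hn, φ⟩
  obtain ⟨eT, eR⟩ := D.reduce hT hTS hQS eQ
  rw [eT] at h₁; rw [eR] at h₂
  refine ⟨?_, ?_, D.card_classes_two.2 (D.not_isConj_z_t h₁), D.card_classes_four.1 (D.isConj_q_p h₂)⟩
  · obtain ⟨K, hKn, hKi, hMK, hodd⟩ := D.exists_half (Cfsg.Agent.Fusion.QuasiDihedral.card_quatMax hn)
      (Cfsg.Agent.Fusion.QuasiDihedral.evens_le_quatMax hn) (fun x a hx hax => D.congr_MQ h₁ hx hax)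
    refine ⟨K, hKn, hKi, fun P => ?_, fun H hH => ?_⟩
    · refine ⟨n - 2, by omega, ?_⟩
      have hp : IsPGroup 2 ((D.MQ).subgroupOf K) := (S.2.to_le (D.map_le _)).of_equiv (Subgroup.subgroupOfEquivOfLe hMK).symm
      let P₀ : Sylow 2 K := hp.toSylow hodd
      obtain ⟨e⟩ := Cfsg.Agent.Fusion.QuasiDihedral.quatMax_equiv (n := n) hn
      exact ⟨(Sylow.equiv P P₀).trans ((Subgroup.subgroupOfEquivOfLe hMK).trans
        (((Cfsg.Agent.Fusion.QuasiDihedral.quatMax hn).equivMapOfInjective D.ι D.ι_injective).symm.trans e))⟩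
    · have hall : D.MQ ≤ H.map K.subtype := by
        have hh := Cfsg.Agent.Fusion.QuasiDihedral.quatMax_le hn (M := (H.map K.subtype).comap D.ι) fun d =>
          D.ref_odd_mem h₂ _ (fun g hg x hx _ => Cfsg.Agent.Fusion.QuasiDihedral.Setup.disp_mem (j := 1) hH hKi hg (hMK hx)) d
        rintro _ ⟨u, hu, rfl⟩
        exact hh hu
      refine hodd (hH ▸ Subgroup.index_dvd_of_le (fun x hx => ?_))
      obtain ⟨x', hx', hxe⟩ := hall (Subgroup.mem_subgroupOf.1 hx)
      rwa [show x = x' from Subtype.ext hxe.symm]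
  · refine ⟨Subgroup.map_subtype_le _, fun g hg => ?_⟩
    have hZ : ∀ x, x ∈ (Subgroup.center (S : Subgroup G)).map (S : Subgroup G).subtype → x = 1 ∨ x = D.zI := by
      rintro _ ⟨x, hx, rfl⟩
      have hc : φ.symm x ∈ Subgroup.center (Cfsg.Agent.Fusion.QuasiDihedral.Q n) :=
        Subgroup.mem_center_iff.2 fun v => φ.injective (by
          rw [map_mul, map_mul, MulEquiv.apply_symm_apply]; exact Subgroup.mem_center_iff.1 hx _)
      obtain ⟨he, hi⟩ := (Cfsg.Agent.Fusion.QuasiDihedral.mem_center hn).1 hc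
      have hval : D.ι (φ.symm x) = (x : G) := congrArg Subtype.val (φ.apply_symm_apply x)
      rcases hi with hi | hi
      · exact Or.inl (hval.symm.trans (by rw [show φ.symm x = 1 from Cfsg.Agent.Fusion.QuasiDihedral.Q.ext hi he, map_one]))
      · exact Or.inr (hval.symm.trans (congrArg D.ι (Cfsg.Agent.Fusion.QuasiDihedral.Q.ext hi he)))
    set Z := (Subgroup.center (S : Subgroup G)).map (S : Subgroup G).subtype
    have hfix : ∀ x ∈ Z, g * x * g⁻¹ = x := fun x hx => by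
      rcases hZ x hx with rfl | rfl
      · simp
      obtain ⟨h2, -⟩ := D.orderOf_reps
      obtain ⟨u, hu⟩ := D.exists_ι (hg ⟨_, hx, rfl⟩ : g * D.zI * g⁻¹ ∈ (S : Subgroup G))
      have how : orderOf u = 2 := by
        rw [← orderOf_injective D.ι D.ι_injective, hu, show g * D.zI * g⁻¹ = MulAut.conj g D.zI from rfl, MulEquiv.orderOf_eq, h2]
      rcases (Cfsg.Agent.Fusion.QuasiDihedral.classes hn).1 u how with h | h
      · obtain ⟨s, hs⟩ := isConj_iff.1 h.symm
        have hcen : (⟨Cfsg.Agent.Fusion.QuasiDihedral.half n, false⟩ : Cfsg.Agent.Fusion.QuasiDihedral.Q n) ∈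
            Subgroup.center _ := (Cfsg.Agent.Fusion.QuasiDihedral.mem_center hn).2 ⟨rfl, Or.inr rfl⟩
        rw [Subgroup.mem_center_iff.1 hcen s, mul_inv_cancel_right] at hs
        rw [← hu, ← hs]; rfl
      · exact absurd ((isConj_iff.2 ⟨g, hu.symm⟩ : IsConj D.zI (D.ι u)).trans (D.ι.map_isConj h)) (D.not_isConj_z_t h₁)
    refine le_antisymm ?_ fun x hx => ⟨x, hx, hfix x hx⟩
    rintro _ ⟨x, hx, rfl⟩
    show g * x * g⁻¹ ∈ Z
    rw [hfix x hx]; exact hx

end Cfsg.Agent.S1205
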