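import Cfsg.Statements.S1206
import Cfsg.Agent.Lib.Fusion.QuasiDihedralFusion

set_option autoImplicit false
open Cfsg

namespace Cfsg.Agent.S1206

/-- Let G be a finite group with quasi-dihedral Sylow 2-subgroup S, T a Klein four-subgroup and Q a quaternion subgroup of order 8 of S, with |N_G(T) : C_G(T)| = 6 and |N_G(Q) : Q C_G(Q)| = 2. Then G has a normal subgroup K of index 2 whose Sylow 2-subgroups are dihedral and which has no subgroup of index 2, and G has exactly one class of involutions and two classes of elements of order 4. -/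
theorem result {G : Type*} [Group G] [Finite G] (S : Sylow 2 G) (hS : Cfsg.IsQuasiDihedral (S : Subgroup G)) (T : Subgroup G) (hT : IsKleinFour T) (hTS : T ≤ S) (Q : Subgroup G) (hQS : Q ≤ S) (eQ : Q ≃* QuaternionGroup 2) (h₁ : (Subgroup.centralizer (T : Set G)).relIndex (Subgroup.normalizer (T : Set G)) = 6) (h₂ : (Q ⊔ Subgroup.centralizer (Q : Set G)).relIndex (Subgroup.normalizer (Q : Set G)) = 2) : (∃ K : Subgroup G, K.Normal ∧ K.index = 2 ∧ (∀ P : Sylow 2 ↥K, ∃ m : ℕ, Nonempty ((P : Subgroup ↥K) ≃* DihedralGroup m)) ∧ (∀ H : Subgroup ↥K, H.index ≠ 2)) ∧ Nat.card {C : ConjClasses G // ∃ t : G, orderOf t = 2 ∧ ConjClasses.mk t = C} = 1 ∧ Nat.card {C : ConjClasses G // ∃ t : G, orderOf t = 4 ∧ ConjClasses.mk t = C} = 2 := by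
  obtain ⟨n, hn, -, ⟨φ⟩⟩ := Cfsg.Agent.Fusion.QuasiDihedral.exists_equiv hS
  let D : Cfsg.Agent.Fusion.QuasiDihedral.Setup G n := ⟨S, hn, φ⟩
  obtain ⟨eT, eR⟩ := D.reduce hT hTS hQS eQ
  rw [eT] at h₁; rw [eR] at h₂
  refine ⟨?_, D.card_classes_two.1 (D.isConj_z_t h₁), D.card_classes_four.2 (D.not_isConj_q_p h₂)⟩
  obtain ⟨K, hKn, hKi, hMK, hodd⟩ := D.exists_half (Cfsg.Agent.Fusion.QuasiDihedral.card_dihMax hn)
    (Cfsg.Agent.Fusion.QuasiDihedral.evens_le_dihMax hn) (fun x a hx hax => D.congr_MD h₂ hx hax)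
  refine ⟨K, hKn, hKi, fun P => ?_, fun H hH => ?_⟩
  · refine ⟨2 ^ (n - 1), ?_⟩
    have hp : IsPGroup 2 ((D.MD).subgroupOf K) := (S.2.to_le (D.map_le _)).of_equiv (Subgroup.subgroupOfEquivOfLe hMK).symm
    let P₀ : Sylow 2 K := hp.toSylow hodd
    obtain ⟨e⟩ := Cfsg.Agent.Fusion.QuasiDihedral.dihMax_equiv (n := n) hn
    exact ⟨(Sylow.equiv P P₀).trans ((Subgroup.subgroupOfEquivOfLe hMK).trans
      (((Cfsg.Agent.Fusion.QuasiDihedral.dihMax hn).equivMapOfInjective D.ι D.ι_injective).symm.trans e))⟩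
  · have hall : D.MD ≤ H.map K.subtype := by
      have hh := Cfsg.Agent.Fusion.QuasiDihedral.dihMax_le hn (M := (H.map K.subtype).comap D.ι) fun d =>
        D.ref_even_mem h₁ _ (fun g hg x hx _ => Cfsg.Agent.Fusion.QuasiDihedral.Setup.disp_mem (j := 1) hH hKi hg (hMK hx)) d
      rintro _ ⟨u, hu, rfl⟩
      exact hh hu
    refine hodd (hH ▸ Subgroup.index_dvd_of_le (fun x hx => ?_))
    obtain ⟨x', hx', hxe⟩ := hall (Subgroup.mem_subgroupOf.1 hx)
    rwa [show x = x' from Subtype.ext hxe.symm]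

end Cfsg.Agent.S1206
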