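import Cfsg.Statements.S1209
import Cfsg.Agent.Lib.Fusion.WreathedFusion

set_option autoImplicit false
open Cfsg
open scoped commutatorElement

namespace Cfsg.Agent.S1209

/-- Let G be a finite group whose Sylow 2-subgroup S is wreathed of order 2^(2n+1), U the commutative subgroup of index 2 in S, Q a quaternion subgroup of order 8 of S and V = Q Z(S). If |N_G(U) : C_G(U)| = 6 and |N_G(V) : V C_G(V)| = 6, then G has no subgroup of index 2 and exactly one conjugacy class of involutions. -/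
theorem result {G : Type*} [Group G] [Finite G] (S : Sylow 2 G) (hS : Cfsg.IsWreathed (S : Subgroup G)) (n : ℕ) (hn : Nat.card S = 2 ^ (2 * n + 1)) (U : Subgroup G) (hUS : U ≤ S) (hUab : IsMulCommutative U) (hUcard : Nat.card U = 2 ^ (2 * n)) (Q : Subgroup G) (hQS : Q ≤ S) (eQ : Q ≃* QuaternionGroup 2) (h₁ : (Subgroup.centralizer (U : Set G)).relIndex (Subgroup.normalizer (U : Set G)) = 6) (h₂ : ((Q ⊔ ((Subgroup.center (S : Subgroup G)).map (S : Subgroup G).subtype)) ⊔ Subgroup.centralizer ((Q ⊔ ((Subgroup.center (S : Subgroup G)).map (S : Subgroup G).subtype) : Subgroup G) : Set G)).relIndex (Subgroup.normalizer ((Q ⊔ ((Subgroup.center (S : Subgroup G)).map (S : Subgroup G).subtype) : Subgroup G) : Set G)) = 6) : (∀ H : Subgroup G, H.index ≠ 2) ∧ Nat.card {C : ConjClasses G // ∃ t : G, orderOf t = 2 ∧ ConjClasses.mk t = C} = 1 := by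
  obtain ⟨m, hm, hc, ⟨φ⟩⟩ := Cfsg.Agent.Fusion.Wreathed.exists_equiv hS
  obtain rfl : m = n := by
    have h : 2 ^ (2 * m + 1) = 2 ^ (2 * n + 1) := hc.symm.trans hn
    have := Nat.pow_right_injective (le_refl 2) h; omega
  let D : Cfsg.Agent.Fusion.Wreathed.Setup G m := ⟨S, hm, φ⟩
  obtain rfl := D.eq_B hUS hUab hUcard
  rw [show (Subgroup.center (S : Subgroup G)).map (S : Subgroup G).subtype = D.Z from D.center_S] at *
  obtain ⟨g₁, -, hg₁⟩ := D.exists_conj_T hQS eQ
  rw [hg₁, (Cfsg.Agent.Fusion.Wreathed.relIndex_conj D.T g₁).2] at h₂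
  refine ⟨fun H hH => ?_, ?_⟩
  · have : H.Normal := Subgroup.normal_of_index_eq_two hH
    have hcomm : commutator G ≤ H := by
      have : IsCyclic (G ⧸ H) := isCyclic_of_prime_card (show Nat.card (G ⧸ H) = 2 from hH)
      exact Subgroup.Normal.quotient_commutative_iff_commutator_le.1 ⟨⟨fun a b => (IsCyclic.commGroup).mul_comm a b⟩⟩
    obtain ⟨g, hgN, -, hfree⟩ := D.exists_action_B h₁
    have hB : ∀ x ∈ D.B, x ∈ H := by
      let f : D.B → D.B := fun x => ⟨(x : G)⁻¹ * (g * x * g⁻¹), mul_mem (inv_mem x.2) ((Subgroup.mem_normalizer_iff.1 hgN _).1 x.2)⟩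
      have hf : Function.Injective f := fun x y hxy => by
        have hxy' : (x : G)⁻¹ * (g * x * g⁻¹) = (y : G)⁻¹ * (g * y * g⁻¹) := congrArg Subtype.val hxy
        have h2 : (y : G) * (x : G)⁻¹ * (g * x * g⁻¹) = g * y * g⁻¹ := by rw [mul_assoc, hxy', mul_inv_cancel_left]
        have h3 := hfree ((y : G) * (x : G)⁻¹) (mul_mem y.2 (inv_mem x.2)) (by
          rw [show g * ((y : G) * (x : G)⁻¹) * g⁻¹ = g * y * g⁻¹ * (g * x * g⁻¹)⁻¹ by group, ← h2, mul_inv_cancel_right])
        exact Subtype.ext (mul_inv_eq_one.1 h3).symm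
      intro x hx
      obtain ⟨y, hy⟩ := Finite.injective_iff_surjective.1 hf ⟨x, hx⟩
      have hy' : (y : G)⁻¹ * (g * y * g⁻¹) = x := congrArg Subtype.val hy
      exact hy' ▸ hcomm (by rw [commutator_def]; simpa [commutatorElement_def, mul_assoc] using
        Subgroup.commutator_mem_commutator (Subgroup.mem_top (y : G)⁻¹) (Subgroup.mem_top g))
    obtain ⟨a, ha⟩ := isConj_iff.1 (D.isConj_u_t h₂)
    have htH : D.tI ∈ H := ha ▸ Subgroup.Normal.conj_mem inferInstance _ (hB _ ⟨_, rfl, rfl⟩) a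
    refine S.not_dvd_index (dvd_of_eq hH.symm |>.trans (Subgroup.index_dvd_of_le fun x hx => ?_))
    obtain ⟨u, rfl⟩ := D.exists_ι hx
    obtain ⟨a, b, _ | _⟩ := u
    · exact hB _ ⟨_, rfl, rfl⟩
    · have h := mul_mem (hB (D.ι ⟨a, b, false⟩) ⟨_, rfl, rfl⟩) htH
      rw [Cfsg.Agent.Fusion.Wreathed.Setup.tI, ← map_mul] at h
      simpa using h
  · rw [show {C : ConjClasses G // ∃ t : G, orderOf t = 2 ∧ ConjClasses.mk t = C} =
      ↥{C : ConjClasses G | ∃ t : G, orderOf t = 2 ∧ ConjClasses.mk t = C} from rfl, Nat.card_coe_set_eq, D.classes_eq,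
      ConjClasses.mk_eq_mk_iff_isConj.2 (D.isConj_c_u h₁), ConjClasses.mk_eq_mk_iff_isConj.2 (D.isConj_u_t h₂)]
    simp

end Cfsg.Agent.S1209
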