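import Cfsg.Statements.S1210
import Cfsg.Agent.Lib.Fusion.WreathedQuaternion

set_option autoImplicit false
open Cfsg

namespace Cfsg.Agent.S1210

/-- Let G be a finite group whose Sylow 2-subgroup S is wreathed of order 2^(2n+1), U the commutative subgroup of index 2 in S, Q a quaternion subgroup of order 8 of S and V = Q Z(S). If |N_G(U) : C_G(U)| = 2 and |N_G(V) : V C_G(V)| = 6, then G has a normal subgroup K of index 2^n whose Sylow 2-subgroups are generalized quaternion and which has no subgroup of index 2; every subgroup of Z(S) is weakly closed in S; and G has exactly two classes of involutions. -/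
theorem result {G : Type*} [Group G] [Finite G] (S : Sylow 2 G) (hS : Cfsg.IsWreathed (S : Subgroup G)) (n : ℕ) (hn : Nat.card S = 2 ^ (2 * n + 1)) (U : Subgroup G) (hUS : U ≤ S) (hUab : IsMulCommutative U) (hUcard : Nat.card U = 2 ^ (2 * n)) (Q : Subgroup G) (hQS : Q ≤ S) (eQ : Q ≃* QuaternionGroup 2) (h₁ : (Subgroup.centralizer (U : Set G)).relIndex (Subgroup.normalizer (U : Set G)) = 2) (h₂ : ((Q ⊔ ((Subgroup.center (S : Subgroup G)).map (S : Subgroup G).subtype)) ⊔ Subgroup.centralizer ((Q ⊔ ((Subgroup.center (S : Subgroup G)).map (S : Subgroup G).subtype) : Subgroup G) : Set G)).relIndex (Subgroup.normalizer ((Q ⊔ ((Subgroup.center (S : Subgroup G)).map (S : Subgroup G).subtype) : Subgroup G) : Set G)) = 6) : (∃ K : Subgroup G, K.Normal ∧ K.index = 2 ^ n ∧ (∀ P : Sylow 2 ↥K, ∃ m : ℕ, 1 ≤ m ∧ Nonempty ((P : Subgroup ↥K) ≃* QuaternionGroup (2 ^ m))) ∧ (∀ H : Subgroup ↥K, H.index ≠ 2)) ∧ (∀ Z₀ : Subgroup G, Z₀ ≤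 ((Subgroup.center (S : Subgroup G)).map (S : Subgroup G).subtype) → Cfsg.IsWeaklyClosed Z₀ (S : Subgroup G)) ∧ Nat.card {C : ConjClasses G // ∃ t : G, orderOf t = 2 ∧ ConjClasses.mk t = C} = 2 := by
  obtain ⟨m, hm, hc, ⟨φ⟩⟩ := Cfsg.Agent.Fusion.Wreathed.exists_equiv hS
  obtain rfl : m = n := by
    have h : 2 ^ (2 * m + 1) = 2 ^ (2 * n + 1) := hc.symm.trans hn
    have := Nat.pow_right_injective (le_refl 2) h; omega
  let D : Cfsg.Agent.Fusion.Wreathed.Setup G m := ⟨S, hm, φ⟩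
  obtain rfl := D.eq_B hUS hUab hUcard
  rw [show (Subgroup.center (S : Subgroup G)).map (S : Subgroup G).subtype = D.Z from D.center_S] at *
  obtain ⟨g₁, -, hg₁⟩ := D.exists_conj_T hQS eQ
  rw [hg₁, (Cfsg.Agent.Fusion.Wreathed.relIndex_conj D.T g₁).2] at h₂
  have hcongr : ∀ x a : G, x ∈ (D.S : Subgroup G) → a * x * a⁻¹ ∈ (D.S : Subgroup G) → x⁻¹ * (a * x * a⁻¹) ∈ D.Q0 := fun x a hx hax =>
    D.congr_quat h₁ hx hax
  have hQS' : D.Q0 ≤ (D.S : Subgroup G) := by rintro _ ⟨u, -, rfl⟩; exact D.ι_mem u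
  obtain ⟨K, hKn, hKi, hKS⟩ := D.exists_kernel D.Q0 hQS' D.commutator_le_Q0 hcongr
  have hQcard : Nat.card D.Q0 = 2 ^ (m + 1) := by
    rw [Cfsg.Agent.Fusion.Wreathed.Setup.Q0, Subgroup.card_map_of_injective D.ι_injective, Cfsg.Agent.Fusion.Wreathed.card_quat hm]
  have hQ2 : D.Q0.relIndex (D.S : Subgroup G) = 2 ^ m := by
    have h := (D.Q0.subgroupOf (D.S : Subgroup G)).card_mul_index
    rw [Nat.card_congr (Subgroup.subgroupOfEquivOfLe hQS').toEquiv, hQcard,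
      show Nat.card (D.S : Subgroup G) = 2 ^ (m + 1) * 2 ^ m from hn.trans (by rw [← pow_add]; congr 1; omega)] at h
    exact Nat.eq_of_mul_eq_mul_left (by positivity) h
  rw [hQ2] at hKi
  have hQK : D.Q0 ≤ K := hKS.ge.trans inf_le_left
  have hQodd : ¬ 2 ∣ D.Q0.relIndex K := fun h => by
    have h1 := Subgroup.relIndex_mul_index hQK
    have h2 := Subgroup.relIndex_mul_index hQS'
    rw [hKi] at h1; rw [hQ2, ← h1, mul_comm (D.Q0.relIndex K)] at h2
    exact S.not_dvd_index (by rw [show (S : Subgroup G).index = D.Q0.relIndex K from Nat.eq_of_mul_eq_mul_left (by positivity) h2]; exact h)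
  refine ⟨⟨K, hKn, hKi, fun P => ?_, fun H hH => ?_⟩, ?_, ?_⟩
  · refine ⟨m - 1, by omega, ?_⟩
    have hp : IsPGroup 2 (D.Q0.subgroupOf K) := (IsPGroup.of_card hQcard).of_equiv (Subgroup.subgroupOfEquivOfLe hQK).symm
    let P₀ : Sylow 2 K := hp.toSylow hQodd
    obtain ⟨e⟩ := Cfsg.Agent.Fusion.Wreathed.quat_equiv (n := m) hm
    exact ⟨(Sylow.equiv P P₀).trans ((Subgroup.subgroupOfEquivOfLe hQK).trans
      (((Cfsg.Agent.Fusion.Wreathed.quat m).equivMapOfInjective D.ι D.ι_injective).symm.trans e))⟩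
  · have : H.Normal := Subgroup.normal_of_index_eq_two hH
    obtain ⟨g, hgN, hgo, hfree⟩ := D.exists_action_T h₂
    have key : ∀ s : Cfsg.Agent.Fusion.Wreathed.W (2 ^ m), ∀ q ∈ Cfsg.Agent.Fusion.Wreathed.quatThin m,
        D.ι (s * q * s⁻¹) ∈ H.map K.subtype := by
      intro s
      let M : Subgroup (Cfsg.Agent.Fusion.Wreathed.W (2 ^ m)) := (H.map K.subtype).comap (D.ι.comp (MulAut.conj s).toMonoidHom)
      have hin : ∀ q ∈ Cfsg.Agent.Fusion.Wreathed.quatThin m, D.ι (s * q * s⁻¹) ∈ K := fun q hq =>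
        hQK ⟨_, Subgroup.Normal.conj_mem (MonoidHom.normal_ker _) _ hq.1 s, rfl⟩
      refine D.quatThin_le g hgN hfree M ?_ ?_ ?_
      · intro q hq q' hq'
        have ho : Odd (orderOf (D.ι s * g * (D.ι s)⁻¹)) := by
          rwa [show D.ι s * g * (D.ι s)⁻¹ = MulAut.conj (D.ι s) g from rfl, MulEquiv.orderOf_eq]
        have hgK : D.ι s * g * (D.ι s)⁻¹ ∈ K := Cfsg.Agent.Fusion.Wreathed.Setup.mem_of_odd hKi ho
        have hgH : (⟨_, hgK⟩ : K) ∈ H := Cfsg.Agent.Fusion.Wreathed.Setup.mem_index_two hH ho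
        refine ⟨(⟨_, hin q hq⟩ : K)⁻¹ * ⟨_, hgK⟩ * ⟨_, hin q hq⟩ * (⟨_, hgK⟩ : K)⁻¹,
          H.mul_mem (Subgroup.Normal.conj_mem' inferInstance _ hgH _) (inv_mem hgH), ?_⟩
        show _ = D.ι (s * (q⁻¹ * q') * s⁻¹)
        simp only [map_mul, map_inv, hq']
        simp [mul_assoc]
      · intro q hq
        refine ⟨⟨_, hin q hq⟩ ^ 2, Subgroup.sq_mem_of_index_two hH _, ?_⟩
        show (D.ι (s * q * s⁻¹)) ^ 2 = D.ι (MulAut.conj s (q ^ 2))
        rw [map_pow, map_pow]; rfl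
      · intro p hp q hq hpM hqM
        refine ⟨(⟨_, hin p hp⟩ : K)⁻¹ * ⟨_, hin q hq⟩, ?_, ?_⟩
        · rw [SetLike.mem_coe, Subgroup.mul_mem_iff_of_index_two hH, inv_mem_iff]
          exact iff_of_false (fun h => hpM ⟨_, h, rfl⟩) (fun h => hqM ⟨_, h, rfl⟩)
        · show (D.ι (s * p * s⁻¹))⁻¹ * D.ι (s * q * s⁻¹) = D.ι (MulAut.conj s (p⁻¹ * q))
          simp only [MulAut.conj_apply, ← map_inv, ← map_mul]
          congr 1; group
    have hv : (⟨0, Cfsg.Agent.Fusion.Wreathed.half m, true⟩ : Cfsg.Agent.Fusion.Wreathed.W (2 ^ m)) ∈ Cfsg.Agent.Fusion.Wreathed.quatThin m :=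
      ⟨(Cfsg.Agent.Fusion.Wreathed.mem_quat hm).2 (by simp), by
        show (0 - Cfsg.Agent.Fusion.Wreathed.half m) + (0 - Cfsg.Agent.Fusion.Wreathed.half m) = (0 : ZMod (2 ^ m))
        linear_combination -Cfsg.Agent.Fusion.Wreathed.half_add_half hm⟩
    have hall : ∀ u ∈ Cfsg.Agent.Fusion.Wreathed.quat m, D.ι u ∈ H.map K.subtype := by
      have hodd : ∀ k : ZMod (2 ^ m), D.ι ⟨k, Cfsg.Agent.Fusion.Wreathed.half m - k, true⟩ ∈ H.map K.subtype := fun k => by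
        have := key ⟨k, 0, false⟩ _ hv
        rw [Cfsg.Agent.Fusion.Wreathed.W.conj_mk_false] at this
        simpa using this
      rintro ⟨a, b, _ | _⟩ hu
      · have h0 : a + b = 0 := (Cfsg.Agent.Fusion.Wreathed.mem_quat hm).1 hu
        have h := mul_mem (hodd a) (inv_mem (hodd 0))
        rw [← map_inv, ← map_mul] at h
        have e : (⟨a, Cfsg.Agent.Fusion.Wreathed.half m - a, true⟩ : Cfsg.Agent.Fusion.Wreathed.W (2 ^ m)) *
            (⟨0, Cfsg.Agent.Fusion.Wreathed.half m - 0, true⟩ : Cfsg.Agent.Fusion.Wreathed.W (2 ^ m))⁻¹ = ⟨a, b, false⟩ := by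
          ext <;> simp
          linear_combination -h0
        rwa [e] at h
      · have h0 : a + b = Cfsg.Agent.Fusion.Wreathed.half m := (Cfsg.Agent.Fusion.Wreathed.mem_quat hm).1 hu
        have := hodd a
        rwa [show Cfsg.Agent.Fusion.Wreathed.half m - a = b by linear_combination -h0] at this
    refine hQodd (hH ▸ Subgroup.index_dvd_of_le (fun x hx => ?_))
    obtain ⟨u, hu, hux⟩ := Subgroup.mem_subgroupOf.1 hx
    obtain ⟨x', hx', hxe⟩ := hall u hu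
    rwa [show x = x' from Subtype.ext (hux.symm.trans hxe.symm)]
  · intro Z₀ hZ₀
    refine ⟨hZ₀.trans (D.Z_le_T.trans D.T_le), fun g hg => ?_⟩
    have hfix : ∀ x ∈ Z₀, g * x * g⁻¹ = x := fun x hx => D.fusion_fixes_Z h₁ (hZ₀ hx) (hg ⟨x, hx, rfl⟩)
    refine le_antisymm ?_ fun x hx => ⟨x, hx, hfix x hx⟩
    rintro _ ⟨x, hx, rfl⟩
    show g * x * g⁻¹ ∈ Z₀
    rw [hfix x hx]; exact hx
  · rw [show {C : ConjClasses G // ∃ t : G, orderOf t = 2 ∧ ConjClasses.mk t = C} =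
      ↥{C : ConjClasses G | ∃ t : G, orderOf t = 2 ∧ ConjClasses.mk t = C} from rfl, Nat.card_coe_set_eq, D.classes_eq,
      ConjClasses.mk_eq_mk_iff_isConj.2 (D.isConj_u_t h₂), Set.insert_eq_of_mem (Set.mem_singleton _), Set.ncard_pair]
    rw [Ne, ConjClasses.mk_eq_mk_iff_isConj, isConj_iff]
    rintro ⟨a, ha⟩
    have h := D.fusion_fixes_Z h₁ D.cI_mem_Z (by rw [ha]; exact D.ι_mem _)
    have h' := congrArg Cfsg.Agent.Fusion.Wreathed.W.e (D.ι_injective (h.symm.trans ha))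
    exact Bool.noConfusion h'

end Cfsg.Agent.S1210
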