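import Cfsg.Statements.S1211
import Cfsg.Agent.Lib.Fusion.WreathedQuaternion

set_option autoImplicit false
open Cfsg

namespace Cfsg.Agent.S1211

/-- Let G be a finite group whose Sylow 2-subgroup S is wreathed of order 2^(2n+1), U the commutative subgroup of index 2 in S, Q a quaternion subgroup of order 8 of S and V = Q Z(S). If |N_G(U) : C_G(U)| = 6 and |N_G(V) : V C_G(V)| = 2, then G has a normal subgroup K of index 2 containing U (so U is a Sylow 2-subgroup of K) which has no subgroup of index 2, and G has exactly two classes of involutions. -/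
theorem result {G : Type*} [Group G] [Finite G] (S : Sylow 2 G) (hS : Cfsg.IsWreathed (S : Subgroup G)) (n : ℕ) (hn : Nat.card S = 2 ^ (2 * n + 1)) (U : Subgroup G) (hUS : U ≤ S) (hUab : IsMulCommutative U) (hUcard : Nat.card U = 2 ^ (2 * n)) (Q : Subgroup G) (hQS : Q ≤ S) (eQ : Q ≃* QuaternionGroup 2) (h₁ : (Subgroup.centralizer (U : Set G)).relIndex (Subgroup.normalizer (U : Set G)) = 6) (h₂ : ((Q ⊔ ((Subgroup.center (S : Subgroup G)).map (S : Subgroup G).subtype)) ⊔ Subgroup.centralizer ((Q ⊔ ((Subgroup.center (S : Subgroup G)).map (S : Subgroup G).subtype) : Subgroup G) : Set G)).relIndex (Subgroup.normalizer ((Q ⊔ ((Subgroup.center (S : Subgroup G)).map (S : Subgroup G).subtype) : Subgroup G) : Set G)) = 2) : (∃ K : Subgroup G, K.Normal ∧ K.index = 2 ∧ U ≤ K ∧ (∀ H : Subgroup ↥K, H.index ≠ 2)) ∧ Nat.card {C : ConjClasses G // ∃ t : G, orderOf t = 2 ∧ ConjClasses.mk t = C} = 2 := by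
  obtain ⟨m, hm, hc, ⟨φ⟩⟩ := Cfsg.Agent.Fusion.Wreathed.exists_equiv hS
  obtain rfl : m = n := by
    have h : 2 ^ (2 * m + 1) = 2 ^ (2 * n + 1) := hc.symm.trans hn
    have := Nat.pow_right_injective (le_refl 2) h; omega
  let D : Cfsg.Agent.Fusion.Wreathed.Setup G m := ⟨S, hm, φ⟩
  obtain rfl := D.eq_B hUS hUab hUcard
  rw [show (Subgroup.center (S : Subgroup G)).map (S : Subgroup G).subtype = D.Z from D.center_S] at *
  obtain ⟨g₁, -, hg₁⟩ := D.exists_conj_T hQS eQ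
  rw [hg₁, (Cfsg.Agent.Fusion.Wreathed.relIndex_conj D.T g₁).2] at h₂
  have hTno := h₂
  have hcongr : ∀ x a : G, x ∈ (D.S : Subgroup G) → a * x * a⁻¹ ∈ (D.S : Subgroup G) → x⁻¹ * (a * x * a⁻¹) ∈ D.B := fun x a hx hax =>
    D.congr_fusion D.B D.commutator_le_B (fun P hP g hg y hy => by
      rcases D.essential_cases hP with ⟨rfl, -⟩ | ⟨⟨s, hs, rfl⟩, h⟩
      · exact mul_mem (inv_mem hy) ((Subgroup.mem_normalizer_iff.1 hg y).1 hy)
      · exact absurd (D.no_essential_T hTno hs) h) hx hax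
  obtain ⟨K, hKn, hKi, hKS⟩ := D.exists_kernel D.B D.B_le D.commutator_le_B hcongr
  have hB2 : D.B.relIndex (D.S : Subgroup G) = 2 := by
    have h := (D.B.subgroupOf (D.S : Subgroup G)).card_mul_index
    rw [Nat.card_congr (Subgroup.subgroupOfEquivOfLe D.B_le).toEquiv, hUcard,
      show Nat.card (D.S : Subgroup G) = 2 ^ (2 * m) * 2 from hn.trans (pow_succ _ _)] at h
    exact Nat.eq_of_mul_eq_mul_left (by positivity) h
  rw [hB2] at hKi
  have hBK : D.B ≤ K := hKS.ge.trans inf_le_left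
  refine ⟨⟨K, hKn, hKi, hBK, fun H hH => ?_⟩, ?_⟩
  · obtain ⟨g, hgN, hgo, hfree⟩ := D.exists_action_B h₁
    have : H.Normal := Subgroup.normal_of_index_eq_two hH
    have hgK : g ∈ K := Cfsg.Agent.Fusion.Wreathed.Setup.mem_of_odd (j := 1) hKi hgo
    have hgH : (⟨g, hgK⟩ : K) ∈ H := Cfsg.Agent.Fusion.Wreathed.Setup.mem_index_two hH hgo
    let f : D.B → D.B := fun x => ⟨(x : G)⁻¹ * (g * x * g⁻¹), mul_mem (inv_mem x.2) ((Subgroup.mem_normalizer_iff.1 hgN _).1 x.2)⟩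
    have hf : Function.Injective f := fun x y hxy => by
      have hxy' : (x : G)⁻¹ * (g * x * g⁻¹) = (y : G)⁻¹ * (g * y * g⁻¹) := congrArg Subtype.val hxy
      have h2 : (y : G) * (x : G)⁻¹ * (g * x * g⁻¹) = g * y * g⁻¹ := by rw [mul_assoc, hxy', mul_inv_cancel_left]
      have h3 := hfree ((y : G) * (x : G)⁻¹) (mul_mem y.2 (inv_mem x.2)) (by
        rw [show g * ((y : G) * (x : G)⁻¹) * g⁻¹ = g * y * g⁻¹ * (g * x * g⁻¹)⁻¹ by group, ← h2, mul_inv_cancel_right])
      exact Subtype.ext (mul_inv_eq_one.1 h3).symm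
    have hBH : ∀ x (hx : x ∈ D.B), (⟨x, hBK hx⟩ : K) ∈ H := fun x hx => by
      obtain ⟨y, hy⟩ := Finite.injective_iff_surjective.1 hf ⟨x, hx⟩
      have hy' : (⟨x, hBK hx⟩ : K) = (⟨y, hBK y.2⟩ : K)⁻¹ * ⟨g, hgK⟩ * ⟨y, hBK y.2⟩ * (⟨g, hgK⟩ : K)⁻¹ := Subtype.ext
        ((congrArg Subtype.val hy).symm.trans (by simp [f, mul_assoc]))
      rw [hy']
      exact H.mul_mem (Subgroup.Normal.conj_mem' inferInstance _ hgH _) (inv_mem hgH)
    have hBsyl : ¬ 2 ∣ D.B.relIndex K := fun h => by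
      have h1 := Subgroup.relIndex_mul_index hBK
      have h2 := Subgroup.relIndex_mul_index D.B_le
      rw [hKi] at h1; rw [hB2, ← h1] at h2
      exact S.not_dvd_index (by rw [show (S : Subgroup G).index = D.B.relIndex K by show (D.S : Subgroup G).index = _; omega]; exact h)
    refine hBsyl (hH ▸ Subgroup.index_dvd_of_le (fun x hx => ?_))
    exact hBH x.1 (Subgroup.mem_subgroupOf.1 hx)
  · rw [show {C : ConjClasses G // ∃ t : G, orderOf t = 2 ∧ ConjClasses.mk t = C} =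
      ↥{C : ConjClasses G | ∃ t : G, orderOf t = 2 ∧ ConjClasses.mk t = C} from rfl, Nat.card_coe_set_eq, D.classes_eq,
      ConjClasses.mk_eq_mk_iff_isConj.2 (D.isConj_c_u h₁), Set.insert_idem, Set.ncard_pair]
    rw [Ne, ConjClasses.mk_eq_mk_iff_isConj, isConj_iff]
    rintro ⟨a, ha⟩
    obtain ⟨z, hz, hze⟩ := hcongr D.uI a (D.ι_mem _) (by rw [ha]; exact D.ι_mem _)
    rw [ha, Cfsg.Agent.Fusion.Wreathed.Setup.uI, Cfsg.Agent.Fusion.Wreathed.Setup.tI, ← map_inv, ← map_mul] at hze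
    have := congrArg Cfsg.Agent.Fusion.Wreathed.W.e (D.ι_injective hze)
    simp only [Cfsg.Agent.Fusion.Wreathed.W.inv_mk_false, Cfsg.Agent.Fusion.Wreathed.W.mk_false_mul] at this
    rw [Cfsg.Agent.Fusion.Wreathed.W.mem_base.1 hz] at this
    exact Bool.noConfusion this

end Cfsg.Agent.S1211
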