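import Cfsg.Statements.S1212
import Cfsg.Agent.Lib.Fusion.WreathedFusion

set_option autoImplicit false
open Cfsg
open scoped commutatorElement

namespace Cfsg.Agent.S1212

/-- Let G be a finite group whose Sylow 2-subgroup S is wreathed of order 2^(2n+1), U the commutative subgroup of index 2 in S, Q a quaternion subgroup of order 8 of S and V = Q Z(S). If |N_G(U) : C_G(U)| = 2 and |N_G(V) : V C_G(V)| = 2, then G has a normal 2-complement and exactly three conjugacy classes of involutions. -/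
theorem result {G : Type*} [Group G] [Finite G] (S : Sylow 2 G) (hS : Cfsg.IsWreathed (S : Subgroup G)) (n : ℕ) (hn : Nat.card S = 2 ^ (2 * n + 1)) (U : Subgroup G) (hUS : U ≤ S) (hUab : IsMulCommutative U) (hUcard : Nat.card U = 2 ^ (2 * n)) (Q : Subgroup G) (hQS : Q ≤ S) (eQ : Q ≃* QuaternionGroup 2) (h₁ : (Subgroup.centralizer (U : Set G)).relIndex (Subgroup.normalizer (U : Set G)) = 2) (h₂ : ((Q ⊔ ((Subgroup.center (S : Subgroup G)).map (S : Subgroup G).subtype)) ⊔ Subgroup.centralizer ((Q ⊔ ((Subgroup.center (S : Subgroup G)).map (S : Subgroup G).subtype) : Subgroup G) : Set G)).relIndex (Subgroup.normalizer ((Q ⊔ ((Subgroup.center (S : Subgroup G)).map (S : Subgroup G).subtype) : Subgroup G) : Set G)) = 2) : Cfsg.HasNormalPComplement 2 G ∧ Nat.card {C : ConjClasses G // ∃ t : G, orderOf t = 2 ∧ ConjClasses.mk t = C} = 3 := by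
  obtain ⟨m, hm, hc, ⟨φ⟩⟩ := Cfsg.Agent.Fusion.Wreathed.exists_equiv hS
  obtain rfl : m = n := by
    have h : 2 ^ (2 * m + 1) = 2 ^ (2 * n + 1) := hc.symm.trans hn
    have := Nat.pow_right_injective (le_refl 2) h; omega
  let D : Cfsg.Agent.Fusion.Wreathed.Setup G m := ⟨S, hm, φ⟩
  obtain rfl := D.eq_B hUS hUab hUcard
  rw [show (Subgroup.center (S : Subgroup G)).map (S : Subgroup G).subtype = D.Z from D.center_S] at *
  obtain ⟨g₁, -, hg₁⟩ := D.exists_conj_T hQS eQ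
  rw [hg₁, (Cfsg.Agent.Fusion.Wreathed.relIndex_conj D.T g₁).2] at h₂
  have hfus : ∀ x ∈ S, ∀ g : G, g * x * g⁻¹ ∈ S → ∃ z ∈ S, z * x * z⁻¹ = g * x * g⁻¹ := fun x hx g hg =>
    D.fusion_inner h₁ h₂ hx hg
  refine ⟨Cfsg.Agent.Solv.hasNormalPComplement_of_fusion S hfus, ?_⟩
  have hset := D.classes_eq
  rw [show {C : ConjClasses G // ∃ t : G, orderOf t = 2 ∧ ConjClasses.mk t = C} =
    ↥{C : ConjClasses G | ∃ t : G, orderOf t = 2 ∧ ConjClasses.mk t = C} from rfl, Nat.card_coe_set_eq, hset]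
  obtain ⟨-, -, -, -, h12, h13, h23⟩ := Cfsg.Agent.Fusion.Wreathed.involution_classes (n := m) hm
  have hiff : ∀ u v : Cfsg.Agent.Fusion.Wreathed.W (2 ^ m), IsConj (D.ι u) (D.ι v) → IsConj u v := fun u v h => by
    obtain ⟨a, ha⟩ := isConj_iff.1 h
    obtain ⟨z, hz, hze⟩ := D.fusion_inner h₁ h₂ (D.ι_mem u) (ha ▸ D.ι_mem v : a * D.ι u * a⁻¹ ∈ (D.S : Subgroup G))
    obtain ⟨w, rfl⟩ := D.exists_ι hz
    exact isConj_iff.2 ⟨w, D.ι_injective (by simp only [map_mul, map_inv]; rw [hze, ha])⟩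
  rw [Set.ncard_insert_of_notMem, Set.ncard_pair]
  · rw [Ne, ConjClasses.mk_eq_mk_iff_isConj]; exact fun h => h23 (hiff _ _ h)
  · simp only [Set.mem_insert_iff, Set.mem_singleton_iff, ConjClasses.mk_eq_mk_iff_isConj, not_or]
    exact ⟨fun h => h12 (hiff _ _ h), fun h => h13 (hiff _ _ h)⟩

end Cfsg.Agent.S1212
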