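import Cfsg.Statements.S1224
import Cfsg.Agent.Lib.Inv.StronglyEmbeddedCount

set_option autoImplicit false
open Cfsg

namespace Cfsg.Agent.S1224

/-- Let H be a strongly embedded subgroup of the finite group G and x ≠ y two cosets in G/H. Then the number of involutions i of G with i • x = y equals the number of involutions lying in H. -/
theorem result {G : Type*} [Group G] [Finite G] (H : Subgroup G) (hH : Cfsg.IsStronglyEmbedded H) (x y : G ⧸ H) (hxy : x ≠ y) : Nat.card {i : G // orderOf i = 2 ∧ i • x = y} = Nat.card {t : G // orderOf t = 2 ∧ t ∈ H} := by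
  obtain ⟨g, rfl⟩ := QuotientGroup.mk_surjective x
  obtain ⟨k, rfl⟩ := QuotientGroup.mk_surjective y
  have hy : (QuotientGroup.mk (g⁻¹ * k) : G ⧸ H) ≠ QuotientGroup.mk 1 := by
    intro h
    apply hxy
    rw [QuotientGroup.eq] at h ⊢
    have := inv_mem h
    simpa using this
  rw [← Inv.card_swap hH hy]
  refine Nat.card_congr (Equiv.subtypeEquiv (MulAut.conj g⁻¹).toEquiv fun i => ?_)
  show _ ↔ orderOf (g⁻¹ * i * g⁻¹⁻¹) = 2 ∧ _
  refine Iff.and (by rw [Inv.orderOf_conj_two]) ?_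
  show i • (QuotientGroup.mk g : G ⧸ H) = QuotientGroup.mk k ↔ (g⁻¹ * i * g⁻¹⁻¹) • (QuotientGroup.mk 1 : G ⧸ H) = QuotientGroup.mk (g⁻¹ * k)
  rw [MulAction.Quotient.smul_mk, MulAction.Quotient.smul_mk, QuotientGroup.eq, QuotientGroup.eq]
  simp only [smul_eq_mul, inv_inv, mul_one, mul_inv_rev]
  rw [show g⁻¹ * (i⁻¹ * g) * (g⁻¹ * k) = g⁻¹ * i⁻¹ * k by group]

end Cfsg.Agent.S1224
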