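import Cfsg.Statements.S1230
import Cfsg.Agent.Lib.Perm.SharplyThree
import Cfsg.Agent.Lib.Inv.EACentralizer

set_option autoImplicit false
open Cfsg

namespace Cfsg.Agent.S1230

/-- Let G be a finite group with a Sylow 2-subgroup T that is neither cyclic nor normal, such that the centralizer of every involution is an elementary abelian 2-group. Then G ≅ PSL(2,F) for a finite field F with |F| = |T|. -/
theorem result {G : Type*} [Group G] [Finite G] (T : Sylow 2 G) (hnc : ¬ IsCyclic (T : Subgroup G)) (hnn : ¬ (T : Subgroup G).Normal) (hC : ∀ t : G, orderOf t = 2 → IsMulCommutative (Subgroup.centralizer ({t} : Set G)) ∧ ∀ c ∈ Subgroup.centralizer ({t} : Set G), c ^ 2 = 1) : ∃ (F : Type) (_ : Field F) (_ : Fintype F), Fintype.card F = Nat.card T ∧ Nonempty (G ≃* Matrix.ProjectiveSpecialLinearGroup (Fin 2) F) := by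
  classical
  open Cfsg.Agent.Inv.EACentralizer in
  have h : Hyp T := ⟨hnc, hnn, hC⟩
  haveI : Fintype (G ⧸ Cfsg.Agent.Inv.EACentralizer.NT T) := Fintype.ofFinite _
  have hcard : Nat.card (G ⧸ Cfsg.Agent.Inv.EACentralizer.NT T) = Nat.card ↥(T : Subgroup G) + 1 := by
    obtain ⟨u, hu, huH⟩ := Cfsg.Agent.Inv.exists_involution_notMem h.se
    have hub := Cfsg.Agent.Inv.EACentralizer.ne_base h hu huH
    have hne : ∀ t : ↥(T : Subgroup G), (t : G) • (u • Cfsg.Agent.Inv.EACentralizer.base T) ≠ Cfsg.Agent.Inv.EACentralizer.base T :=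
      fun t e => hub (smul_left_cancel (t : G) (e.trans ((Cfsg.Agent.Inv.smul_mk_eq_mk_iff (t : G)).2 (Subgroup.le_normalizer t.2)).symm))
    have e : Nat.card ↥(T : Subgroup G) = Nat.card {y // y ≠ Cfsg.Agent.Inv.EACentralizer.base T} := by
      refine Nat.card_eq_of_bijective (fun t => ⟨_, hne t⟩) ⟨fun t t' e => ?_, fun y => ?_⟩
      · have e' := congrArg Subtype.val e
        exact Subtype.ext ((Cfsg.Agent.Inv.EACentralizer.T_regular h hub (hne t)).unique ⟨t.2, rfl⟩ ⟨t'.2, e'.symm⟩)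
      · obtain ⟨t, ⟨ht, hty⟩, -⟩ := Cfsg.Agent.Inv.EACentralizer.T_regular h hub y.2
        exact ⟨⟨t, ht⟩, Subtype.ext hty⟩
    rw [e, Nat.card_eq_fintype_card, Nat.card_eq_fintype_card, Fintype.card_subtype_compl, Fintype.card_subtype_eq]
    have : 0 < Fintype.card (G ⧸ Cfsg.Agent.Inv.EACentralizer.NT T) := Fintype.card_pos
    omega
  have h4 := h.four_le
  have hT : Even (Nat.card ↥(T : Subgroup G)) := by
    haveI : Fact (Nat.Prime 2) := ⟨Nat.prime_two⟩
    obtain ⟨k, hk⟩ := T.isPGroup'.exists_card_eq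
    rw [hk]
    refine (Nat.even_pow' ?_).2 even_two
    rintro rfl
    omega
  have hyp : Cfsg.Agent.Perm.SharplyThree.Hyp G (G ⧸ Cfsg.Agent.Inv.EACentralizer.NT T) :=
    ⟨fun x₁ x₂ x₃ y₁ y₂ y₃ a b c d e f => Cfsg.Agent.Inv.EACentralizer.triply h a b c d e f,
      fun g x₁ x₂ x₃ a b c d e f => Cfsg.Agent.Inv.EACentralizer.sharp h a b c d e f,
      by rw [hcard]; exact hT.add_one, by omega⟩
  obtain ⟨f, hf, hc, ⟨e⟩, -⟩ := Cfsg.Agent.Perm.SharplyThree.main hyp
  haveI : Fact (Nat.Prime 2) := ⟨Nat.prime_two⟩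
  letI : Fintype (GaloisField 2 f) := Fintype.ofFinite _
  refine ⟨GaloisField 2 f, inferInstance, inferInstance, ?_, ⟨e.trans Cfsg.Agent.Perm.pslEquiv.symm⟩⟩
  rw [← Nat.card_eq_fintype_card, GaloisField.card 2 f (by omega)]
  omega

end Cfsg.Agent.S1230
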