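import Cfsg.Statements.S1236
import Cfsg.Agent.Lib.Fusion.QuasiDihedralLocal

set_option autoImplicit false
open Cfsg

namespace Cfsg.Agent.S1236

/-- Let R be a finite group, t a central involution of R such that R ⧸ ⟨t⟩ is dihedral (of order ≥ 4) or quasi-dihedral, and A ≤ R an elementary abelian subgroup of order 8 containing t. Then C_R(A) = A. -/
theorem result {R : Type*} [Group R] [Finite R] (t : R) (ht : orderOf t = 2) (htz : t ∈ Subgroup.center R) [(Subgroup.zpowers t).Normal] (hq : (∃ m : ℕ, 2 ≤ m ∧ Nonempty (R ⧸ Subgroup.zpowers t ≃* DihedralGroup m)) ∨ Cfsg.IsQuasiDihedral (R ⧸ Subgroup.zpowers t)) (A : Subgroup R) (hA : Cfsg.IsElementaryAbelian 2 A) (hA8 : Nat.card A = 8) (htA : t ∈ A) : Subgroup.centralizer (A : Set R) = A := by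
  haveI : Fact (Nat.Prime 2) := ⟨Nat.prime_two⟩
  let π := QuotientGroup.mk' (Subgroup.zpowers t)
  let V := A.map π
  have hker : π.ker = Subgroup.zpowers t := QuotientGroup.ker_mk' _
  have hkerA : π.ker ≤ A := by rw [hker, Subgroup.zpowers_le]; exact htA
  have hVcard : Nat.card ↥V = 4 := by
    have h1 := Subgroup.card_mul_index (π.ker.subgroupOf A)
    rw [Nat.card_congr (Subgroup.subgroupOfEquivOfLe hkerA).toEquiv, hA8, ← Subgroup.relIndex,
      Subgroup.relIndex_ker] at h1
    rw [hker, Nat.card_zpowers, ht] at h1
    change 2 * Nat.card ↥V = 8 at h1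
    omega
  have hsq : ∀ v ∈ V, v * v = 1 := by
    rintro v ⟨a, ha, rfl⟩
    rw [← map_mul, ← pow_two, hA.2 a ha, map_one]
  have key : Subgroup.centralizer (V : Set (R ⧸ Subgroup.zpowers t)) ≤ V := by
    -- it is enough that the centralizer has at most four elements
    have hVle : V ≤ Subgroup.centralizer (V : Set (R ⧸ Subgroup.zpowers t)) := by
      intro v hv w hw
      have h1 := hsq _ (V.mul_mem hv hw)
      have h2 := hsq _ hv
      have h3 := hsq _ hw
      rw [eq_inv_of_mul_eq_one_left h1, mul_inv_rev, ← eq_inv_of_mul_eq_one_left h2,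
        ← eq_inv_of_mul_eq_one_left h3]
    suffices h4 : Nat.card ↥(Subgroup.centralizer (V : Set (R ⧸ Subgroup.zpowers t))) ≤ 4 by
      rw [← Subgroup.eq_of_le_of_card_ge hVle (by omega)]
    rcases hq with ⟨m, hm, ⟨e⟩⟩ | hQD
    · haveI : NeZero m := ⟨by omega⟩
      have htwo : ((Finset.univ : Finset (ZMod m)).filter (fun i => i + i = 0)).card ≤ 2 := by
        have h := IsAddCyclic.card_nsmul_eq_zero_le (α := ZMod m) (n := 2) (by norm_num)
        convert h using 4
        rw [two_nsmul]
      obtain ⟨a, ha⟩ : ∃ a, DihedralGroup.sr a ∈ V.map e.toMonoidHom := by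
        by_contra hc
        push_neg at hc
        have hsub : (V.map e.toMonoidHom : Set (DihedralGroup m)) ⊆
            (((Finset.univ : Finset (ZMod m)).filter (fun i => i + i = 0)).image DihedralGroup.r : Finset (DihedralGroup m)) := by
          intro g hg
          cases g with
          | r i =>
            obtain ⟨v, hv, hve⟩ := hg
            have := congrArg e.toMonoidHom (hsq v hv)
            rw [map_mul, hve, map_one, DihedralGroup.r_mul_r, DihedralGroup.one_def, DihedralGroup.r.injEq] at this
            simp [this]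
          | sr i => exact absurd hg (hc i)
        have h1 := Nat.card_mono (Finset.finite_toSet _) hsub
        rw [SetLike.coe_sort_coe, Subgroup.card_map_of_injective (f := e.toMonoidHom) e.injective, hVcard, Nat.card_coe_set_eq,
          Set.ncard_coe_finset] at h1
        have h2 := h1.trans (Finset.card_image_le.trans htwo)
        omega
      obtain ⟨v, hv, hve⟩ := ha
      rw [← Subgroup.card_map_of_injective (f := e.toMonoidHom) e.injective]
      let F : Finset (ZMod m) := (Finset.univ : Finset (ZMod m)).filter (fun i => i + i = 0)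
      have hsub : ((Subgroup.centralizer (V : Set (R ⧸ Subgroup.zpowers t))).map e.toMonoidHom : Set (DihedralGroup m)) ⊆
          ((F.image DihedralGroup.r ∪ F.image (fun i => DihedralGroup.sr (a + i))) : Finset (DihedralGroup m)) := by
        rintro g ⟨w, hw, hwg⟩
        have h1 := congrArg e.toMonoidHom (hw v hv)
        rw [map_mul, map_mul, hve, hwg] at h1
        cases g with
        | r i =>
          simp at h1
          apply Finset.mem_coe.mpr
          apply Finset.mem_union_left
          exact Finset.mem_image.mpr ⟨i, by simp [F]; linear_combination h1, rfl⟩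
        | sr i =>
          simp at h1
          apply Finset.mem_coe.mpr
          apply Finset.mem_union_right
          exact Finset.mem_image.mpr ⟨i - a, by simp [F]; linear_combination h1, by simp⟩
      have h1 := Nat.card_mono (Finset.finite_toSet _) hsub
      rw [SetLike.coe_sort_coe] at h1
      rw [Nat.card_coe_set_eq, Set.ncard_coe_finset] at h1
      have h2 := h1.trans (Finset.card_union_le _ _)
      have h3 : (F.image DihedralGroup.r).card ≤ 2 := Finset.card_image_le.trans htwo
      have h4 : (F.image (fun i => DihedralGroup.sr (a + i))).card ≤ 2 := Finset.card_image_le.trans htwo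
      omega
    · obtain ⟨n, hn, -, ⟨e⟩⟩ := Cfsg.Agent.Fusion.QuasiDihedral.exists_equiv hQD
      haveI hK : IsKleinFour ↥(V.map e.symm.toMonoidHom) := by
        have hc : Nat.card ↥(V.map e.symm.toMonoidHom) = 4 := by
          rw [Subgroup.card_map_of_injective (f := e.symm.toMonoidHom) e.symm.injective, hVcard]
        haveI : Nontrivial ↥(V.map e.symm.toMonoidHom) := Finite.one_lt_card_iff_nontrivial.mp (by omega)
        refine ⟨hc, ?_⟩
        refine (Nat.dvd_prime Nat.prime_two).mp (Monoid.exponent_dvd_of_forall_pow_eq_one ?_) |>.resolve_left ?_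
        · rintro ⟨u, v, hv, rfl⟩
          apply Subtype.ext
          change (e.symm v) ^ 2 = 1
          rw [← map_pow, pow_two, hsq v hv, map_one]
        · intro h
          haveI := Monoid.exp_eq_one_iff.mp h
          exact false_of_nontrivial_of_subsingleton ↥(V.map e.symm.toMonoidHom)
      obtain ⟨g, hg⟩ := Cfsg.Agent.Fusion.QuasiDihedral.exists_conj_four hn _ hK
      have hle : (Subgroup.centralizer (V : Set (R ⧸ Subgroup.zpowers t))).map
          ((MulAut.conj g⁻¹).toMonoidHom.comp e.symm.toMonoidHom) ≤ Cfsg.Agent.Fusion.QuasiDihedral.four hn := by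
        rw [← Cfsg.Agent.Fusion.QuasiDihedral.centralizer_four_eq hn]
        rintro _ ⟨w, hw, rfl⟩ f hf
        have hfV : (MulAut.conj g) f ∈ V.map e.symm.toMonoidHom := by rw [← hg]; exact ⟨f, hf, rfl⟩
        obtain ⟨v, hv, hvf⟩ := hfV
        have h1 := congrArg ((MulAut.conj g⁻¹).toMonoidHom.comp e.symm.toMonoidHom) (hw v hv)
        rw [map_mul, map_mul] at h1
        have h2 : ((MulAut.conj g⁻¹).toMonoidHom.comp e.symm.toMonoidHom) v = f := by
          rw [MonoidHom.comp_apply, hvf]; simp [mul_assoc]
        rw [h2] at h1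
        exact h1
      have h1 := Subgroup.card_le_of_le hle
      rw [Subgroup.card_map_of_injective (by exact (MulAut.conj g⁻¹).injective.comp e.symm.injective)] at h1
      have h2 := (Cfsg.Agent.Fusion.QuasiDihedral.isKleinFour_four hn).card_four
      omega
  refine le_antisymm (fun c hc => ?_) (fun a ha b hb => congrArg Subtype.val (hA.1.is_comm.comm ⟨b, hb⟩ ⟨a, ha⟩))
  have hπc : π c ∈ Subgroup.centralizer (V : Set (R ⧸ Subgroup.zpowers t)) := by
    rintro _ ⟨a, ha, rfl⟩
    rw [← map_mul, ← map_mul, hc a ha]
  obtain ⟨a, ha, hac⟩ := key hπc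
  have hk : a⁻¹ * c ∈ π.ker := by rw [MonoidHom.mem_ker, map_mul, map_inv, hac, inv_mul_cancel]
  have := A.mul_mem ha (hkerA hk)
  simpa using this

end Cfsg.Agent.S1236
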