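import Cfsg.Statements.S1241
import Cfsg.Agent.Lib.Fusion.TransferControl

set_option autoImplicit false
open Cfsg

namespace Cfsg.Agent.S1241

/-- Let G be a finite group, p a prime, H a subgroup of index prime to p, K a subgroup of H normal in H with H/K commutative, and g ∈ H ∖ K an element of p-power order such that for all integers m and all a ∈ G with a g^m a⁻¹ ∈ H one has a g^m a⁻¹ ∈ g^m K. Then g ∉ G'. -/
theorem result {G : Type*} [Group G] [Finite G] {p : ℕ} [Fact p.Prime] (H K : Subgroup G) (hHK : K ≤ H) (hKn : (K.subgroupOf H).Normal) (hab : ∀ x ∈ H, ∀ y ∈ H, x * y * x⁻¹ * y⁻¹ ∈ K) (hidx : Nat.Coprime p H.index) (g : G) (hgH : g ∈ H) (hgK : g ∉ K) (hgp : ∃ k : ℕ, orderOf g = p ^ k) (hctrl : ∀ (m : ℤ) (a : G), a * g ^ m * a⁻¹ ∈ H → (a * g ^ m * a⁻¹) * (g ^ m)⁻¹ ∈ K) : g ∉ commutator G := by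
  intro hg
  obtain ⟨k, hk⟩ := hgp
  let N : Subgroup H := K.subgroupOf H
  letI : CommGroup (H ⧸ N) := { (inferInstance : Group (H ⧸ N)) with
    mul_comm := fun a b => by
      induction a using QuotientGroup.induction_on with
      | H a => induction b using QuotientGroup.induction_on with
        | H b =>
          rw [← QuotientGroup.mk_mul, ← QuotientGroup.mk_mul, QuotientGroup.eq, Subgroup.mem_subgroupOf]
          simpa [mul_assoc] using hab _ (inv_mem b.2) _ (inv_mem a.2) }
  let φ : H →* H ⧸ N := QuotientGroup.mk' N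
  have h1 : φ.transfer g = φ ⟨g, hgH⟩ ^ H.index :=
    Cfsg.Agent.Fusion.TransferControl.transfer_eq_pow_index φ ⟨g, hgH⟩ fun m a ha => by
      rw [← map_pow]
      show ((⟨_, ha⟩ : H) : H ⧸ N) = ((⟨g, hgH⟩ ^ m : H) : H ⧸ N)
      rw [eq_comm, ← div_eq_one, ← QuotientGroup.mk_div, QuotientGroup.eq_one_iff, Subgroup.mem_subgroupOf]
      have := inv_mem (hctrl m a⁻¹ (by simpa using ha))
      simpa [div_eq_mul_inv, mul_assoc] using this
  have h2 : φ.transfer g = 1 := Abelianization.commutator_subset_ker φ.transfer hg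
  have h3 : φ ⟨g, hgH⟩ ^ p ^ k = 1 := by
    rw [← map_pow, ← hk, show (⟨g, hgH⟩ : H) ^ orderOf g = 1 from Subtype.ext (by simp [pow_orderOf_eq_one]), map_one]
  have := Cfsg.Agent.Fusion.TransferControl.eq_one_of_pow_eq_one (hidx.pow_left k).symm (h1.symm.trans h2) h3
  exact hgK (Subgroup.mem_subgroupOf.1 ((QuotientGroup.eq_one_iff _).1 this))

end Cfsg.Agent.S1241
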