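import Cfsg.Statements.S1242
import Cfsg.Agent.Lib.Fusion.TransferControl

set_option autoImplicit false
open Cfsg
open scoped commutatorElement

namespace Cfsg.Agent.S1242

/-- Let G be a finite group, p a prime and H a subgroup of index prime to p such that any two elements of H of p-power order that are conjugate in G are conjugate in H. Then (O^p(G)·G') ∩ H = O^p(H)·H', where O^p denotes the subgroup generated by the elements of order prime to p. -/
theorem result {G : Type*} [Group G] [Finite G] {p : ℕ} [Fact p.Prime] (H : Subgroup G) (hidx : Nat.Coprime p H.index) (hfus : ∀ g ∈ H, (∃ k : ℕ, orderOf g = p ^ k) → ∀ a : G, a * g * a⁻¹ ∈ H → ∃ h ∈ H, h * g * h⁻¹ = a * g * a⁻¹) : (Cfsg.pResidual p G ⊔ commutator G) ⊓ H = (Cfsg.pResidual p ↥H ⊔ commutator ↥H).map H.subtype := by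
  classical
  set K : Subgroup H := pResidual p H ⊔ commutator H with hK
  refine le_antisymm ?_ ?_
  · rintro x ⟨hxL, hxH⟩
    refine ⟨⟨x, hxH⟩, ?_, rfl⟩
    have : K.Normal := Subgroup.commutator_le.1 (le_sup_right : commutator H ≤ K) |> fun h =>
      ⟨fun n hn g => by simpa [commutatorElement_def] using K.mul_mem (h g (Subgroup.mem_top g) n (Subgroup.mem_top n)) hn⟩
    letI : CommGroup (H ⧸ K) := { (inferInstance : Group (H ⧸ K)) with
      mul_comm := fun a b => by
        induction a using QuotientGroup.induction_on with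
        | H a => induction b using QuotientGroup.induction_on with
          | H b =>
            rw [← QuotientGroup.mk_mul, ← QuotientGroup.mk_mul, QuotientGroup.eq]
            have : ⁅b⁻¹, a⁻¹⁆ ∈ K := (le_sup_right : commutator H ≤ K) (Subgroup.commutator_mem_commutator (Subgroup.mem_top _) (Subgroup.mem_top _))
            simpa [commutatorElement_def, mul_assoc] using this }
    let φ : H →* H ⧸ K := QuotientGroup.mk' K
    -- the quotient is a p-group
    have hp' : ∀ h : H, (Nat.Coprime p (orderOf h)) → φ h = 1 := fun h hh =>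
      (QuotientGroup.eq_one_iff _).2 ((le_sup_left : pResidual p H ≤ K) (Subgroup.subset_closure hh.symm))
    have hpg : ∀ h : H, ∃ k : ℕ, φ h ^ p ^ k = 1 := fun h => by
      obtain ⟨k, m, hm, hkm⟩ := Nat.exists_eq_pow_mul_and_not_dvd (orderOf_pos h).ne' p (Fact.out : p.Prime).ne_one
      refine ⟨k, ?_⟩
      rw [← map_pow]
      refine hp' _ ?_
      rw [orderOf_pow, hkm, Nat.gcd_eq_right (dvd_mul_right _ _), Nat.mul_div_cancel_left _ (pow_pos (Fact.out : p.Prime).pos k)]
      exact (Fact.out : p.Prime).coprime_iff_not_dvd.2 hm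
    have hker : pResidual p G ⊔ commutator G ≤ φ.transfer.ker := by
      refine sup_le ((Subgroup.closure_le _).2 fun y hy => ?_) (Abelianization.commutator_subset_ker _)
      obtain ⟨h, hh⟩ := QuotientGroup.mk_surjective (φ.transfer y)
      obtain ⟨k, hk⟩ := hpg h
      have h1 : φ.transfer y ^ p ^ k = 1 := by rw [← hh]; exact hk
      exact Cfsg.Agent.Fusion.TransferControl.eq_one_of_pow_eq_one
        (hy.symm.pow_left k) h1 (by rw [← map_pow, pow_orderOf_eq_one, map_one])
    obtain ⟨k, m, hm, hkm⟩ := Nat.exists_eq_pow_mul_and_not_dvd (orderOf_pos x).ne' p (Fact.out : p.Prime).ne_one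
    have hy : orderOf (x ^ m) = p ^ k := by
      rw [orderOf_pow, hkm, Nat.gcd_eq_right (dvd_mul_left _ _), Nat.mul_div_cancel _ (Nat.pos_of_ne_zero fun h0 => hm (by rw [h0]; exact dvd_zero p))]
    let g : H := ⟨x ^ m, pow_mem hxH m⟩
    have h1 : φ.transfer (g : G) = φ g ^ H.index :=
      Cfsg.Agent.Fusion.TransferControl.transfer_eq_pow_index φ g fun i a ha => by
        obtain ⟨j, -, hj⟩ := (Nat.dvd_prime_pow (Fact.out : p.Prime)).1 (hy ▸ orderOf_pow_dvd (x := x ^ m) i)
        obtain ⟨h, hhH, hh⟩ := hfus ((g : G) ^ i) (pow_mem g.2 i) ⟨j, hj⟩ a⁻¹ (by simpa using ha)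
        have : (⟨_, ha⟩ : H) = ⟨h, hhH⟩ * g ^ i * (⟨h, hhH⟩ : H)⁻¹ := Subtype.ext (by simpa using hh.symm)
        rw [this, map_mul, map_mul, map_inv, map_pow, mul_comm (φ ⟨h, hhH⟩), mul_inv_cancel_right]
    have h3 : φ g ^ p ^ k = 1 := by
      rw [← map_pow, show g ^ p ^ k = 1 from Subtype.ext (by rw [SubmonoidClass.coe_pow, ← hy]; exact pow_orderOf_eq_one _), map_one]
    have h4 := Cfsg.Agent.Fusion.TransferControl.eq_one_of_pow_eq_one
      ((hidx.pow_left k).symm) (h1.symm.trans (hker (pow_mem hxL m))) h3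
    obtain ⟨j, hj⟩ := hpg ⟨x, hxH⟩
    refine (QuotientGroup.eq_one_iff _).1 (Cfsg.Agent.Fusion.TransferControl.eq_one_of_pow_eq_one (x := φ ⟨x, hxH⟩)
      ((((Fact.out : p.Prime).coprime_iff_not_dvd.2 hm)).pow_left j) hj ?_)
    rw [← map_pow]
    exact h4
  · refine le_inf ?_ (Subgroup.map_subtype_le _)
    rw [Subgroup.map_sup]
    refine sup_le_sup ?_ ?_
    · rw [pResidual, MonoidHom.map_closure]
      refine Subgroup.closure_mono ?_
      rintro _ ⟨h, hh, rfl⟩
      simpa using hh
    · rw [Subgroup.map_subtype_commutator]; exact Subgroup.commutator_mono le_top le_top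

end Cfsg.Agent.S1242
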