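import Cfsg.Statements.S1243
import Cfsg.Agent.Lib.Inv.WeaklyClosed
import Mathlib
-- import your own Cfsg.Agent.* helpers here

set_option autoImplicit false
open Cfsg

namespace Cfsg.Agent.S1243

/-- Let T be a Sylow p-subgroup of the finite group G and W ≤ T a subgroup weakly closed in T. If d and g d g⁻¹ both centralize W, then g d g⁻¹ = h d h⁻¹ for some h ∈ N_G(W). -/
theorem result {G : Type*} [Group G] [Finite G] {p : ℕ} [Fact p.Prime] (T : Sylow p G) (W : Subgroup G) (hW : Cfsg.IsWeaklyClosed W (T : Subgroup G)) (d g : G) (hd : d ∈ Subgroup.centralizer (W : Set G)) (hgd : g * d * g⁻¹ ∈ Subgroup.centralizer (W : Set G)) : ∃ h ∈ Subgroup.normalizer (W : Set G), h * d * h⁻¹ = g * d * g⁻¹ := by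
  obtain ⟨k, hk, hn⟩ := Cfsg.Agent.Inv.weaklyClosed_exists_mul_mem_normalizer hW
    (Subgroup.centralizer ({d} : Set G))
    (fun w hw => Subgroup.mem_centralizer_singleton_iff.2 (Subgroup.mem_centralizer_iff.1 hd w hw))
    g (fun w hw => by
      rw [Subgroup.mem_centralizer_singleton_iff]
      have e := Subgroup.mem_centralizer_iff.1 hgd w hw
      calc g⁻¹ * w * g * d = g⁻¹ * (w * (g * d * g⁻¹)) * g := by group
        _ = g⁻¹ * ((g * d * g⁻¹) * w) * g := by rw [e]
        _ = d * (g⁻¹ * w * g) := by group)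
  refine ⟨g * k, hn, ?_⟩
  rw [Subgroup.mem_centralizer_singleton_iff] at hk
  calc g * k * d * (g * k)⁻¹ = g * (k * d) * k⁻¹ * g⁻¹ := by group
    _ = g * (d * k) * k⁻¹ * g⁻¹ := by rw [hk]
    _ = g * d * g⁻¹ := by group

end Cfsg.Agent.S1243
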