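import Cfsg.Statements.S1244
import Cfsg.Agent.Lib.Fusion.TransferControl

set_option autoImplicit false
open Cfsg

namespace Cfsg.Agent.S1244

/-- Let G be a finite group with no subgroup of index 2 whose Sylow 2-subgroup S is commutative, and let R ≤ S be a subgroup whose 2-rank is exactly one less than the 2-rank r of S. Then every involution of S is conjugate, by an element of N_G(S), to an element of R. -/
theorem result {G : Type*} [Group G] [Finite G] (hG : ∀ H : Subgroup G, H.index ≠ 2) (S : Sylow 2 G) (hS : IsMulCommutative (S : Subgroup G)) (r : ℕ) (hr1 : 1 ≤ r) (hSr : Cfsg.PRankLE 2 r (S : Subgroup G) ∧ ¬ Cfsg.PRankLE 2 (r - 1) (S : Subgroup G)) (R : Subgroup G) (hRS : R ≤ S) (hRr : Cfsg.PRankLE 2 (r - 1) R ∧ (r = 1 ∨ ¬ Cfsg.PRankLE 2 (r - 2) R)) (t : G) (ht : orderOf t = 2) (htS : t ∈ S) : ∃ n ∈ Subgroup.normalizer ((S : Subgroup G) : Set G), n * t * n⁻¹ ∈ R := by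
  classical
  letI : CommGroup (S : Subgroup G) := { (inferInstance : Group (S : Subgroup G)) with mul_comm := fun a b => hS.is_comm.comm a b }
  -- the transfer kills the fixed points of the normalizer
  have hfix : ∀ x : (S : Subgroup G), (∀ n ∈ Subgroup.normalizer ((S : Subgroup G) : Set G), n * (x : G) = (x : G) * n) → x = 1 := by
    intro x hx
    let φ : (S : Subgroup G) →* (S : Subgroup G) := MonoidHom.id _
    have h1 : φ.transfer (x : G) = φ x ^ (S : Subgroup G).index :=
      Cfsg.Agent.Fusion.TransferControl.transfer_eq_pow_index φ x fun k a ha => by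
        have : IsMulCommutative (S : Subgroup G) := hS
        obtain ⟨n, hn, he⟩ := Sylow.conj_eq_normalizer_conj_of_mem S ((x : G) ^ k) a (pow_mem x.2 k) ha
        refine Subtype.ext ?_
        show a⁻¹ * (x : G) ^ k * a = _
        rw [he, mul_assoc, ← ((show Commute n (x : G) from hx n hn).pow_right k).eq, inv_mul_cancel_left]
        rfl
    have h2 : φ.transfer (x : G) = 1 := by
      by_contra h
      have hp : IsPGroup 2 φ.transfer.range := S.2.to_subgroup _
      obtain ⟨j, hj⟩ := IsPGroup.iff_card.1 hp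
      have hj0 : j ≠ 0 := fun h0 => by
        rw [h0, pow_zero] at hj
        exact h (Subgroup.mem_bot.1 (Subgroup.card_eq_one.1 hj ▸ ⟨(x : G), rfl⟩))
      obtain ⟨K, hK⟩ := Sylow.exists_subgroup_card_pow_prime 2 (G := φ.transfer.range) (n := j - 1)
        (hj ▸ pow_dvd_pow 2 (Nat.sub_le _ _))
      refine hG (K.comap φ.transfer.rangeRestrict) ?_
      rw [Subgroup.index_comap_of_surjective _ φ.transfer.rangeRestrict_surjective]
      have h3 := K.card_mul_index
      rw [hK, hj, show j = j - 1 + 1 by omega, pow_succ, Nat.add_sub_cancel] at h3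
      exact Nat.eq_of_mul_eq_mul_left (by positivity) h3
    have h3 : φ x ^ Nat.card (S : Subgroup G) = 1 := pow_card_eq_one'
    exact Cfsg.Agent.Fusion.TransferControl.eq_one_of_pow_eq_one
      ((S.card_coprime_index).symm) (h1.symm.trans h2) h3
  -- the involutions
  let V : Subgroup (S : Subgroup G) := (powMonoidHom 2).ker
  let W : Subgroup (S : Subgroup G) := V ⊓ R.subgroupOf S
  have hVp : IsPGroup 2 V := S.2.to_subgroup V
  obtain ⟨a, hVa⟩ := IsPGroup.iff_card.1 hVp
  obtain ⟨b, hWb⟩ := IsPGroup.iff_card.1 (S.2.to_subgroup W)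
  have hVmax : ∀ A : Subgroup (S : Subgroup G), (∀ y ∈ A, y ^ 2 = 1) → Nat.card A ≤ 2 ^ a := fun A hA =>
    hVa ▸ Nat.le_of_dvd Nat.card_pos (Subgroup.card_dvd_of_le fun y hy => hA y hy)
  have har : a = r := by
    refine le_antisymm ((Nat.pow_le_pow_iff_right (by norm_num : 1 < 2)).1 (hVa ▸ hSr.1 V ⟨⟨fun u v => mul_comm u v⟩⟩ fun y hy => hy)) ?_
    by_contra hlt
    exact hSr.2 fun A _ hA => (hVmax A hA).trans (Nat.pow_le_pow_right (by norm_num) (by omega))
  let ι : W →* R :=
    { toFun := fun w => ⟨((w : (S : Subgroup G)) : G), Subgroup.mem_subgroupOf.1 w.2.2⟩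
      map_one' := rfl
      map_mul' := fun _ _ => rfl }
  have hι : Function.Injective ι := fun u v h => Subtype.ext (Subtype.ext (congrArg (fun z : R => (z : G)) h))
  have hbr : b = r - 1 := by
    refine le_antisymm ((Nat.pow_le_pow_iff_right (by norm_num : 1 < 2)).1 ?_) ?_
    · rw [← hWb, Nat.card_congr (MonoidHom.ofInjective hι).toEquiv]
      refine hRr.1 _ ⟨⟨fun u v => ?_⟩⟩ ?_
      · obtain ⟨u', hu⟩ := u.2
        obtain ⟨v', hv⟩ := v.2
        refine Subtype.ext ?_
        show (u : R) * v = v * u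
        rw [← hu, ← hv, ← map_mul, ← map_mul, mul_comm]
      · rintro _ ⟨w, rfl⟩
        rw [← map_pow, show w ^ 2 = 1 from Subtype.ext w.2.1, map_one]
    · rcases hRr.2 with h | h
      · omega
      by_contra hlt
      refine h fun A _ hA => ?_
      let j : A →* W :=
        { toFun := fun y => ⟨⟨((y : R) : G), hRS y.1.2⟩, Subtype.ext (by simpa using congrArg (fun z : R => (z : G)) (hA y y.2)), y.1.2⟩
          map_one' := rfl
          map_mul' := fun _ _ => rfl }
      have hj : Function.Injective j := fun u v h => Subtype.ext (Subtype.ext (congrArg (fun z : W => ((z : (S : Subgroup G)) : G)) h))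
      exact (Nat.card_le_card_of_injective j hj).trans (hWb ▸ Nat.pow_le_pow_right (by norm_num) (by omega))
  have hW2 : (W.subgroupOf V).index = 2 := by
    have h3 := (W.subgroupOf V).card_mul_index
    rw [Nat.card_congr (Subgroup.subgroupOfEquivOfLe (show W ≤ V from inf_le_left)).toEquiv, hWb, hVa, hbr, har,
      show r = r - 1 + 1 by omega, pow_succ, Nat.add_sub_cancel] at h3
    exact Nat.eq_of_mul_eq_mul_left (by positivity) h3
  -- the orbit of t under the normalizer
  by_contra hcon
  push_neg at hcon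
  set N := Subgroup.normalizer ((S : Subgroup G) : Set G) with hNdef
  let O : Finset G := (Set.toFinite ((fun n : N => (n : G) * t * (n : G)⁻¹) '' Set.univ)).toFinset
  have hOmem : ∀ y, y ∈ O ↔ ∃ n : N, (n : G) * t * (n : G)⁻¹ = y := fun y => by simp [O]
  have hOodd : ¬ 2 ∣ O.card := by
    intro hd
    letI act : MulAction N G := MulAction.compHom G ((ConjAct.toConjAct : G ≃* ConjAct G).toMonoidHom.comp N.subtype)
    have h1 : O.card = Nat.card (MulAction.orbit N t) := by
      rw [← Set.ncard_eq_toFinset_card _ (Set.toFinite _), Nat.card_coe_set_eq]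
      congr 1
      ext y
      constructor
      · rintro ⟨n, -, rfl⟩; exact ⟨n, rfl⟩
      · rintro ⟨n, rfl⟩; exact ⟨n, trivial, rfl⟩
    rw [h1, Nat.card_coe_set_eq, ← MulAction.index_stabilizer] at hd
    have hle : ((S : Subgroup G).subgroupOf N) ≤ MulAction.stabilizer N t := by
      intro n hn
      show (n : G) * t * (n : G)⁻¹ = t
      rw [mul_inv_eq_iff_eq_mul]
      exact congrArg Subtype.val (mul_comm (⟨n, hn⟩ : (S : Subgroup G)) ⟨t, htS⟩)
    have hd2 := hd.trans (Subgroup.index_dvd_of_le hle)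
    exact S.not_dvd_index (hd2.trans (Subgroup.relIndex_dvd_index_of_le Subgroup.le_normalizer))
  have hOS : ∀ y ∈ O, y ∈ (S : Subgroup G) := fun y hy => by
    obtain ⟨n, rfl⟩ := (hOmem y).1 hy
    exact (Subgroup.mem_normalizer_iff.1 n.2 t).1 htS
  let P : (S : Subgroup G) := ∏ y ∈ O.attach, ⟨y.1, hOS y.1 y.2⟩
  have hOV : ∀ y : {y // y ∈ O}, (⟨y.1, hOS y.1 y.2⟩ : (S : Subgroup G)) ∈ V := fun y => by
    obtain ⟨n, hn⟩ := (hOmem y.1).1 y.2
    refine Subtype.ext ?_
    show y.1 ^ 2 = 1
    rw [← hn, show (n : G) * t * (n : G)⁻¹ = MulAut.conj (n : G) t from rfl, ← map_pow, ← ht, pow_orderOf_eq_one, map_one]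
  have hP : P = 1 := hfix P fun n hn => by
    have : (MulAut.conj n) (P : G) = P := by
      have hmem : ∀ y : {y // y ∈ O}, n * y.1 * n⁻¹ ∈ O := fun y => by
        obtain ⟨m, hm⟩ := (hOmem y.1).1 y.2
        exact (hOmem _).2 ⟨⟨n, hn⟩ * m, by rw [← hm]; push_cast; group⟩
      let σ : (S : Subgroup G) →* (S : Subgroup G) :=
        { toFun := fun y => ⟨n * y * n⁻¹, (Subgroup.mem_normalizer_iff.1 hn y).1 y.2⟩
          map_one' := Subtype.ext (by simp)
          map_mul' := fun u v => Subtype.ext (by simp [mul_assoc]) }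
      have hσ : σ P = P := by
        show σ (∏ y ∈ O.attach, _) = _
        rw [map_prod]
        let e : {y // y ∈ O} → {y // y ∈ O} := fun y => ⟨_, hmem y⟩
        have he : Function.Injective e := fun u v h => Subtype.ext
          (mul_left_cancel (mul_right_cancel (congrArg Subtype.val h : n * u.1 * n⁻¹ = n * v.1 * n⁻¹)))
        exact Fintype.prod_bijective e (Finite.injective_iff_bijective.1 he) _ _ (fun y => rfl)
      exact congrArg Subtype.val hσ
    rw [MulAut.conj_apply] at this
    exact mul_inv_eq_iff_eq_mul.1 this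
  let q : V →* V ⧸ W.subgroupOf V := QuotientGroup.mk' _
  have hc : Nat.card (V ⧸ W.subgroupOf V) = 2 := hW2
  have hall : ∀ y : {y // y ∈ O}, q ⟨_, hOV y⟩ = q ⟨⟨t, htS⟩, Subtype.ext (show t ^ 2 = 1 by rw [← ht, pow_orderOf_eq_one])⟩ := fun y => by
    refine QuotientGroup.eq.2 ?_
    rw [Subgroup.mul_mem_iff_of_index_two hW2, Subgroup.inv_mem_iff]
    refine iff_of_false (fun h => ?_) (fun h => ?_)
    · obtain ⟨n, hn⟩ := (hOmem y.1).1 y.2
      exact hcon _ n.2 (hn ▸ Subgroup.mem_subgroupOf.1 (Subgroup.mem_subgroupOf.1 h).2)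
    · exact hcon 1 (one_mem _) (by simpa using Subgroup.mem_subgroupOf.1 (Subgroup.mem_subgroupOf.1 h).2)
  have hprod : q (∏ y ∈ O.attach, (⟨_, hOV y⟩ : V)) = 1 := by
    rw [show (∏ y ∈ O.attach, (⟨_, hOV y⟩ : V)) = 1 from Subtype.ext (by rw [SubmonoidClass.coe_finset_prod]; exact hP), map_one]
  rw [map_prod, Finset.prod_congr rfl (fun y _ => hall y), Finset.prod_const, Finset.card_attach] at hprod
  have h1 := Cfsg.Agent.Fusion.TransferControl.eq_one_of_pow_eq_one
    ((Nat.prime_two.coprime_iff_not_dvd.2 hOodd).symm) hprod ((congrArg (_ ^ ·) hc.symm).trans pow_card_eq_one')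
  exact hcon 1 (one_mem _) (by simpa using Subgroup.mem_subgroupOf.1 (Subgroup.mem_subgroupOf.1 ((QuotientGroup.eq_one_iff _).1 h1)).2)

end Cfsg.Agent.S1244
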