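import Cfsg.Statements.S1248
import Cfsg.Agent.Lib.Fusion.SU3Count

set_option autoImplicit false
open Cfsg

namespace Cfsg.Agent.S1248

/-- Let F be a field with 16 elements and S a Sylow 2-subgroup of PSU(3) over F (the unitary group U₃(4)). Then |S| = 64; the centre Z(S) is a Klein four-group and coincides with the subgroup generated by the involutions of S and with the derived subgroup; and every element of S ⧸ Z(S) squares to the identity, S ⧸ Z(S) having order 16. -/
theorem result {F : Type*} [Field F] [Fintype F] (hF : Fintype.card F = 16) (S : Sylow 2 (Cfsg.PSU 3 F 4)) : Nat.card S = 64 ∧ IsKleinFour (Subgroup.center (S : Subgroup (Cfsg.PSU 3 F 4))) ∧ Subgroup.center (S : Subgroup (Cfsg.PSU 3 F 4)) = Subgroup.closure {x : (S : Subgroup (Cfsg.PSU 3 F 4)) | orderOf x = 2} ∧ Subgroup.center (S : Subgroup (Cfsg.PSU 3 F 4)) = commutator (S : Subgroup (Cfsg.PSU 3 F 4)) ∧ Nat.card ((S : Subgroup (Cfsg.PSU 3 F 4)) ⧸ Subgroup.center (S : Subgroup (Cfsg.PSU 3 F 4))) = 16 ∧ ∀ x : (S : Subgroup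 (Cfsg.PSU 3 F 4)) ⧸ Subgroup.center (S : Subgroup (Cfsg.PSU 3 F 4)), x ^ 2 = 1 := by
  haveI : CharP F 2 := by
    obtain ⟨p, hp⟩ := CharP.exists F
    obtain ⟨k, hpp, hk⟩ := FiniteField.card F p
    have : p = 2 := by
      have h2 : p ∣ 2 ^ 4 := by
        rw [show (2 : ℕ) ^ 4 = Fintype.card F from hF.symm, hk]; exact dvd_pow_self p k.ne_zero
      exact (Nat.prime_dvd_prime_iff_eq hpp Nat.prime_two).1 (hpp.dvd_of_dvd_pow h2)
    exact this ▸ hp
  have hq : Fintype.card F = 4 ^ 2 := by rw [hF]; norm_num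
  have hch := SU3Index2.chart_sylow_psu hq (by decide) S
  have hc := hch.coord hq
  refine ⟨by rw [hc.card_eq hq]; norm_num, ?_, le_antisymm ?_ ?_, (hch.commutator_eq hq).symm,
    hc.card_quot.trans hF, ?_⟩
  · haveI : Nontrivial (Subgroup.center (S : Subgroup (Cfsg.PSU 3 F 4))) :=
      Finite.one_lt_card_iff_nontrivial.1 (by rw [hc.card_center hq]; norm_num)
    refine ⟨hc.card_center hq, ?_⟩
    refine Monoid.exponent_eq_prime_iff Nat.prime_two |>.2 fun g hg => ?_
    refine orderOf_eq_prime ?_ hg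
    rw [pow_two]
    exact Subtype.ext (hc.center_pow_two g.2)
  · intro x hx
    by_cases h1 : x = 1
    · rw [h1]; exact one_mem _
    haveI : Fact (Nat.Prime 2) := ⟨Nat.prime_two⟩
    exact Subgroup.subset_closure (orderOf_eq_prime (by rw [pow_two]; exact hc.center_pow_two hx) h1)
  · rw [Subgroup.closure_le]
    intro x hx
    refine hc.mem_center_of_sq ?_
    have e := pow_orderOf_eq_one x
    rw [show orderOf x = 2 from hx, pow_two] at e
    exact e
  · intro x
    obtain ⟨y, rfl⟩ := QuotientGroup.mk_surjective x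
    rw [← QuotientGroup.mk_pow, QuotientGroup.eq_one_iff, pow_two]
    exact hc.sq_mem_center hq y

end Cfsg.Agent.S1248
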