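import Cfsg.Statements.S1249
import Cfsg.Agent.Lib.Inv.WeaklyClosed
import Mathlib
-- import your own Cfsg.Agent.* helpers here

set_option autoImplicit false
open Cfsg

namespace Cfsg.Agent.S1249

/-- Let P and Q be Sylow p-subgroups of the finite group G both containing the subgroup A. If A is strongly closed in P, then A is strongly closed in Q. -/
theorem result {G : Type*} [Group G] [Finite G] {p : ℕ} [Fact p.Prime] (P Q : Sylow p G) (A : Subgroup G) (hAQ : A ≤ Q) (hA : Cfsg.IsStronglyClosed A (P : Subgroup G)) : Cfsg.IsStronglyClosed A (Q : Subgroup G) := by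
  obtain ⟨c, hc⟩ := MulAction.exists_smul_eq G Q P
  have hPmem : ∀ y ∈ (Q : Subgroup G), c * y * c⁻¹ ∈ (P : Subgroup G) :=
    fun y hy => hc ▸ ⟨y, hy, rfl⟩
  have hcA : ∀ x ∈ A, c * x * c⁻¹ ∈ A := fun x hx => hA.2 x hx c (hPmem x (hAQ hx))
  have hn : c ∈ Subgroup.normalizer (A : Set G) :=
    Subgroup.mem_normalizer_fintype fun x hx => hcA x hx
  refine ⟨hAQ, fun x hx g hg => ?_⟩
  apply (Subgroup.mem_normalizer_iff.1 hn _).2
  have e : c * g * x * (c * g)⁻¹ = c * (g * x * g⁻¹) * c⁻¹ := by group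
  rw [← e]
  exact hA.2 x hx (c * g) (e ▸ hPmem _ hg)

end Cfsg.Agent.S1249
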