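import Cfsg.Statements.S1250
import Cfsg.Agent.Lib.Inv.WeaklyClosed
import Mathlib
-- import your own Cfsg.Agent.* helpers here

set_option autoImplicit false
open Cfsg

namespace Cfsg.Agent.S1250

/-- Let S be a Sylow p-subgroup of the finite group G, A ≤ S strongly closed in S, and N a normal subgroup. Then the image of A in G ⧸ N is strongly closed in the image of S (which is a Sylow p-subgroup of G ⧸ N). -/
theorem result {G : Type*} [Group G] [Finite G] {p : ℕ} [Fact p.Prime] (S : Sylow p G) (A : Subgroup G) (hA : Cfsg.IsStronglyClosed A (S : Subgroup G)) (N : Subgroup G) [N.Normal] : Cfsg.IsStronglyClosed (A.map (QuotientGroup.mk' N)) ((S : Subgroup G).map (QuotientGroup.mk' N)) := by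
  refine ⟨Subgroup.map_mono hA.1, ?_⟩
  rintro _ ⟨x, hx, rfl⟩ q hq
  obtain ⟨g, rfl⟩ := QuotientGroup.mk'_surjective N q
  rw [← map_inv, ← map_mul, ← map_mul] at hq ⊢
  set y := g * x * g⁻¹ with hy
  let K : Subgroup G := (S : Subgroup G) ⊔ N
  have hyK : y ∈ K := by
    have h1 : y ∈ ((S : Subgroup G).map (QuotientGroup.mk' N)).comap (QuotientGroup.mk' N) := hq
    rw [Subgroup.comap_map_eq, QuotientGroup.ker_mk'] at h1
    exact h1
  obtain ⟨R, hR⟩ := (IsPGroup.comap_of_injective (H := Subgroup.zpowers y)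
    ((S.isPGroup'.to_le (Subgroup.zpowers_le.2 (hA.1 hx))).map (MulAut.conj g).toMonoidHom |>.to_le
      (by rw [MonoidHom.map_zpowers]; exact le_of_eq rfl))
    K.subtype K.subtype_injective).exists_le_sylow
  obtain ⟨k, hk⟩ := MulAction.exists_smul_eq ↥K R (S.subtype le_sup_left)
  have h2 : (k * ⟨y, hyK⟩ * k⁻¹ : ↥K) ∈ ((S.subtype le_sup_left : Sylow p ↥K) : Subgroup ↥K) :=
    hk ▸ ⟨⟨y, hyK⟩, hR (Subgroup.mem_zpowers y), rfl⟩
  have h3 : (k : G) * y * (k : G)⁻¹ ∈ (S : Subgroup G) := h2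
  have h4 : (k : G) * y * (k : G)⁻¹ ∈ A := by
    have e : (k : G) * y * (k : G)⁻¹ = k * g * x * ((k : G) * g)⁻¹ := by rw [hy]; group
    rw [e] at h3 ⊢
    exact hA.2 x hx _ h3
  obtain ⟨s, hs, m, hm, hsm⟩ := Subgroup.mem_sup_of_normal_right.1 k.2
  have hm1 : QuotientGroup.mk' N m = 1 := by
    rw [QuotientGroup.mk'_apply, QuotientGroup.eq_one_iff]; exact hm
  refine ⟨s⁻¹ * ((k : G) * y * (k : G)⁻¹) * s⁻¹⁻¹, hA.2 _ h4 s⁻¹ ?_, ?_⟩
  · exact mul_mem (mul_mem (inv_mem hs) h3) (inv_mem (inv_mem hs))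
  · rw [← hsm]
    simp only [map_mul, map_inv, hm1]
    group

end Cfsg.Agent.S1250
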