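import Cfsg.Statements.S1251
import Cfsg.Agent.Lib.Inv.ZStar
import Cfsg.Agent.Lib.Perm.Fitting
-- import your own Cfsg.Agent.* helpers here

set_option autoImplicit false
open Cfsg

namespace Cfsg.Agent.S1251

open Subgroup in
theorem le_normalizer_decomp {G : Type*} [Group G] {H K : Subgroup G} (h : K ≤ normalizer (H : Set G)) {x : G}
    (hx : x ∈ H ⊔ K) : ∃ u ∈ H, ∃ v ∈ K, u * v = x := by
  have hx' : x ∈ ((H ⊔ K : Subgroup G) : Set G) := hx
  rw [coe_mul_of_right_le_normalizer_left H K h] at hx'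
  obtain ⟨u, hu, v, hv, e⟩ := hx'
  exact ⟨u, hu, v, hv, e⟩

/-- Let S be a Sylow 2-subgroup of the finite group G and A ≤ S strongly closed in S. If H is a subgroup normalized by A with no nontrivial normal subgroup of odd order and A ∩ H = 1, then A ≤ C_G(H). -/
theorem result {G : Type*} [Group G] [Finite G] (S : Sylow 2 G) (A : Subgroup G) (hA : Cfsg.IsStronglyClosed A (S : Subgroup G)) (H : Subgroup G) (hAH : A ≤ Subgroup.normalizer (H : Set G)) (hO : Cfsg.oddCore ↥H = ⊥) (hdisj : A ⊓ H = ⊥) : A ≤ Subgroup.centralizer (H : Set G) := by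
  obtain ⟨hAS, hcl⟩ := hA
  have hA2 : IsPGroup 2 ↥A := S.isPGroup'.to_le hAS
  -- conjugates in a common two group coincide
  have key : ∀ a ∈ A, ∀ h ∈ H, ∀ V : Subgroup G, V ≤ H ⊔ A → IsPGroup 2 ↥V → a ∈ V → h * a * h⁻¹ ∈ V →
      h * a * h⁻¹ = a := by
    intro a ha h hh V hVM hV haV hcV
    have hAM : A ≤ H ⊔ A := le_sup_right
    obtain ⟨P, hP⟩ := (hA2.of_equiv (Subgroup.subgroupOfEquivOfLe hAM).symm).exists_le_sylow
    obtain ⟨Q, hQ⟩ := (hV.of_equiv (Subgroup.subgroupOfEquivOfLe hVM).symm).exists_le_sylow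
    obtain ⟨m, hm⟩ := MulAction.exists_smul_eq ↥(H ⊔ A) Q P
    obtain ⟨P', hP'⟩ := (P.isPGroup'.map (H ⊔ A).subtype).exists_le_sylow
    obtain ⟨g, hg⟩ := MulAction.exists_smul_eq G P' S
    have inA : ∀ x : G, (x ∈ A ∨ ∃ v ∈ V, (m : G) * v * (m : G)⁻¹ = x) → x ∈ P' := by
      intro x hx
      apply hP'
      rcases hx with hx | ⟨v, hv, rfl⟩
      · exact ⟨⟨x, hAM hx⟩, hP hx, rfl⟩
      · refine ⟨m * ⟨v, hVM hv⟩ * m⁻¹, ?_, rfl⟩
        rw [← hm]
        exact ⟨⟨v, hVM hv⟩, hQ hv, rfl⟩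
    have hgx : ∀ x ∈ P', g * x * g⁻¹ ∈ (S : Subgroup G) := fun x hx => hg ▸ ⟨x, hx, rfl⟩
    have heq : A.map (MulAut.conj g).toMonoidHom = A := by
      refine Subgroup.eq_of_le_of_card_ge ?_ (le_of_eq
        (Subgroup.card_map_of_injective (f := (MulAut.conj g).toMonoidHom) (MulAut.conj g).injective).symm)
      rintro _ ⟨x, hx, rfl⟩
      exact hcl x hx g (hgx x (inA x (Or.inl hx)))
    obtain ⟨u, hu, b, hb, hub⟩ := le_normalizer_decomp hAH m.2
    have back : ∀ (k : G), k ∈ H → k * a * k⁻¹ ∈ V → (b⁻¹ * u * b) * k * a * ((b⁻¹ * u * b) * k)⁻¹ = a := by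
      intro k hk hkV
      have hin := inA _ (Or.inr ⟨_, hkV, rfl⟩)
      have hmem : g * ((m : G) * (k * a * k⁻¹) * (m : G)⁻¹) * g⁻¹ ∈ A := by
        have := hcl a ha (g * (m : G) * k) (by simpa [mul_assoc] using hgx _ hin)
        simpa [mul_assoc] using this
      obtain ⟨y, hy, hy'⟩ := heq.ge hmem
      have e : y = (m : G) * (k * a * k⁻¹) * (m : G)⁻¹ := mul_left_cancel (mul_right_cancel hy')
      subst e
      have h2 : (b⁻¹ * u * b) * k * a * ((b⁻¹ * u * b) * k)⁻¹ ∈ A := by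
        have := mul_mem (mul_mem (inv_mem hb) hy) hb
        rw [← hub] at this
        simpa [mul_assoc] using this
      have hw : (b⁻¹ * u * b) * k ∈ H := mul_mem (by
        simpa using (Subgroup.mem_normalizer_iff.mp (hAH (inv_mem hb)) u).mp hu) hk
      have hin2 : (b⁻¹ * u * b) * k * a * ((b⁻¹ * u * b) * k)⁻¹ * a⁻¹ ∈ A ⊓ H := by
        refine Subgroup.mem_inf.mpr ⟨mul_mem h2 (inv_mem ha), ?_⟩
        have h3 := (Subgroup.mem_normalizer_iff.mp (hAH ha) _).mp (inv_mem hw)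
        simpa [mul_assoc] using mul_mem hw h3
      rw [hdisj, Subgroup.mem_bot, mul_inv_eq_one] at hin2
      exact hin2
    have e1 := back 1 (one_mem _) (by simpa using haV)
    have e2 := back h hh hcV
    rw [mul_one] at e1
    have e3 := e2.trans e1.symm
    have e4 := congrArg (fun w => (b⁻¹ * u * b)⁻¹ * w * (b⁻¹ * u * b)) e3
    simpa [mul_assoc] using e4
  suffices main : ∀ (n : ℕ) (a : G), a ∈ A → orderOf a ≤ n → ∀ h ∈ H, h * a = a * h from
    fun a ha => Subgroup.mem_centralizer_iff.mpr fun h hh => main _ a ha le_rfl h hh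
  intro n
  induction n with
  | zero => intro a _ hn; have := orderOf_pos a; omega
  | succ n ih =>
    intro a ha hn h hh
    by_cases ha1 : a = 1
    · simp [ha1]
    obtain ⟨kk, hk'⟩ := hA2 ⟨a, ha⟩
    obtain ⟨j, -, hj⟩ := (Nat.dvd_prime_pow Nat.prime_two).mp
      (orderOf_dvd_of_pow_eq_one (congrArg Subtype.val hk' : a ^ 2 ^ kk = 1))
    have hj1 : j ≠ 0 := by rintro rfl; exact ha1 (orderOf_eq_one_iff.mp (by simpa using hj))
    have h2d : 2 ∣ orderOf a := hj ▸ dvd_pow_self 2 hj1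
    have hlt : orderOf (a ^ 2) ≤ n := by
      rw [orderOf_pow' a two_ne_zero, Nat.gcd_eq_right h2d]
      have := orderOf_pos a; omega
    have hsq : ∀ h ∈ H, h * a ^ 2 = a ^ 2 * h := ih _ (pow_mem ha 2) hlt
    have haA : Subgroup.zpowers a ≤ A := Subgroup.zpowers_le.mpr ha
    obtain ⟨L, hL⟩ : ∃ L, L = H ⊔ Subgroup.zpowers a := ⟨_, rfl⟩
    have haL : a ∈ L := hL ▸ Subgroup.mem_sup_right (Subgroup.mem_zpowers a)
    have hhL : ∀ {x}, x ∈ H → x ∈ L := fun hx => hL ▸ Subgroup.mem_sup_left hx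
    have hdec : ∀ x ∈ L, ∃ u ∈ H, ∃ i : ℤ, u * a ^ i = x := by
      intro x hx
      obtain ⟨u, hu, _, ⟨i, rfl⟩, e⟩ := le_normalizer_decomp (haA.trans hAH) (hL ▸ hx)
      exact ⟨u, hu, i, e⟩
    let a' : ↥L := ⟨a, haL⟩
    let Z : Subgroup ↥L := Subgroup.zpowers (a' ^ 2)
    have hZc : Z ≤ Subgroup.center ↥L := Subgroup.zpowers_le.mpr (Subgroup.mem_center_iff.mpr fun x => by
      obtain ⟨u, hu, i, e⟩ := hdec x x.2
      refine Subtype.ext ?_
      simp only [Subgroup.coe_mul, SubmonoidClass.coe_pow, a', ← e]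
      have hc : Commute u (a ^ 2) := hsq u hu
      exact (hc.mul_left ((Commute.refl a).zpow_left i |>.pow_right 2)).eq)
    haveI : Z.Normal := ⟨fun x hx g => by
      rw [Subgroup.mem_center_iff.mp (hZc hx) g, mul_inv_cancel_right]; exact hx⟩
    have hZval : ∀ x ∈ Z, (x : G) ∈ A := by
      rintro x ⟨i, rfl⟩
      simpa [a'] using zpow_mem (pow_mem ha 2) i
    have hZ2 : IsPGroup 2 ↥Z := fun x => by
      obtain ⟨k, hk⟩ := hA2 ⟨_, hZval x x.2⟩
      exact ⟨k, Subtype.ext (Subtype.ext (by simpa using congrArg Subtype.val hk))⟩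
    let z : ↥L ⧸ Z := QuotientGroup.mk' Z a'
    have hz2 : z ^ 2 = 1 := by
      rw [← map_pow]; exact (QuotientGroup.eq_one_iff _).mpr (Subgroup.mem_zpowers _)
    have hz1 : z ≠ 1 := fun e => by
      obtain ⟨i, hi⟩ := (QuotientGroup.eq_one_iff _).mp e
      have e' : a ^ (2 * i) = a := by
        rw [zpow_mul, show a ^ (2 : ℤ) = a ^ 2 from zpow_natCast a 2]
        simpa [a'] using congrArg Subtype.val hi
      have hd : (orderOf a : ℤ) ∣ 2 * i - 1 := by
        rw [orderOf_dvd_iff_zpow_eq_one, zpow_sub, e', zpow_one, mul_inv_cancel]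
      have : (2 : ℤ) ∣ 2 * i - 1 := dvd_trans (by exact_mod_cast h2d) hd
      omega
    have hiso : Cfsg.IsIsolatedInvolution z := by
      refine ⟨orderOf_eq_prime hz2 hz1, fun g hcg => ?_⟩
      obtain ⟨g', rfl⟩ := QuotientGroup.mk'_surjective Z g
      obtain ⟨u, hu, i, hg'⟩ := hdec g' g'.2
      have hc : (g' : G) * a * (g' : G)⁻¹ = u * a * u⁻¹ := by
        rw [← hg', mul_inv_rev]
        have hci : a ^ i * a = a * a ^ i := ((Commute.refl a).zpow_left i).eq
        calc u * a ^ i * a * ((a ^ i)⁻¹ * u⁻¹) = u * (a ^ i * a) * (a ^ i)⁻¹ * u⁻¹ := by simp [mul_assoc]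
          _ = _ := by rw [hci]; simp [mul_assoc]
      let c' : ↥L := g' * a' * g'⁻¹
      have hcz : QuotientGroup.mk' Z c' = QuotientGroup.mk' Z g' * z * (QuotientGroup.mk' Z g')⁻¹ := by
        simp [c', z]
      -- the preimage of the four group is a two group
      let W : Subgroup (↥L ⧸ Z) := Subgroup.zpowers z ⊔ Subgroup.zpowers (QuotientGroup.mk' Z c')
      have hp : ∀ w : ↥L ⧸ Z, w ^ 2 = 1 → IsPGroup 2 ↥(Subgroup.zpowers w) := fun w hw x => ⟨1, by
        obtain ⟨k, hk⟩ := x.2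
        refine Subtype.ext ?_
        rw [SubmonoidClass.coe_pow, ← hk]
        show (w ^ k) ^ (2 ^ 1) = 1
        rw [← zpow_natCast, ← zpow_mul, mul_comm, zpow_mul, zpow_natCast, pow_one, hw, one_zpow]⟩
      have hW : IsPGroup 2 ↥W := (hp z hz2).to_sup_of_normal_right' (hp _ (by
        rw [hcz, conj_pow, hz2, mul_one, mul_inv_cancel])) (by
        rw [Subgroup.zpowers_le, Subgroup.mem_normalizer_iff]
        intro y
        constructor
        · rintro ⟨k, rfl⟩
          refine ⟨k, ?_⟩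
          have := (show Commute z (QuotientGroup.mk' Z c') by rw [hcz]; exact hcg).zpow_right k
          rw [this.eq, mul_inv_cancel_right]
        · rintro ⟨k, hk⟩
          refine ⟨k, ?_⟩
          have hcm := (show Commute z (QuotientGroup.mk' Z c') by rw [hcz]; exact hcg).zpow_right k
          exact mul_left_cancel (mul_right_cancel ((show z * _ ^ k * z⁻¹ = _ by
            rw [hcm.eq, mul_inv_cancel_right]).trans hk)))
      have hV : IsPGroup 2 ↥(W.comap (QuotientGroup.mk' Z)) :=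
        hW.comap_of_ker_isPGroup _ (by rwa [QuotientGroup.ker_mk'])
      have := key a ha u hu ((W.comap (QuotientGroup.mk' Z)).map L.subtype)
        ((Subgroup.map_subtype_le _).trans (hL ▸ sup_le_sup_left haA H)) (hV.map L.subtype)
        ⟨a', Subgroup.mem_sup_left (Subgroup.mem_zpowers z), rfl⟩
        (hc ▸ ⟨c', Subgroup.mem_sup_right (Subgroup.mem_zpowers _), rfl⟩)
      rw [← hcz]
      exact congrArg (QuotientGroup.mk' Z) (Subtype.ext (hc.trans this))
    have hcore : Cfsg.oddCore (↥L ⧸ Z) = ⊥ := by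
      refine le_bot_iff.mp (sSup_le ?_)
      rintro N ⟨hN, hcop⟩
      intro w hw
      obtain ⟨x, rfl⟩ := QuotientGroup.mk'_surjective Z w
      -- odd elements over N form a normal odd subgroup of H
      let M : Subgroup G := ((N.comap (QuotientGroup.mk' Z)).map L.subtype) ⊓ H
      haveI hMn : (M.subgroupOf H).Normal := ⟨fun y hy s => by
        obtain ⟨⟨v, hv, he⟩, -⟩ := Subgroup.mem_inf.mp hy
        refine Subgroup.mem_inf.mpr ⟨⟨⟨(s : G), hhL s.2⟩ * v * ⟨(s : G), hhL s.2⟩⁻¹, ?_, by simp [show (v : G) = ((y : ↥H) : G) from he]⟩,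
          mul_mem (mul_mem s.2 y.2) (inv_mem s.2)⟩
        exact (hN.comap (QuotientGroup.mk' Z)).conj_mem v hv _⟩
      have hZH : ∀ y : ↥L, y ∈ Z → (y : G) ∈ H → y = 1 := fun y hy hyH => Subtype.ext
        (Subgroup.mem_bot.mp (hdisj ▸ Subgroup.mem_inf.mpr ⟨hZval y hy, hyH⟩))
      have hModd : Nat.card ↥(M.subgroupOf H) ∣ Nat.card ↥N := by
        have hq : ∀ y : ↥(M.subgroupOf H), QuotientGroup.mk' Z ⟨((y : ↥H) : G), hhL y.1.2⟩ ∈ N := fun y => by
          obtain ⟨⟨v, hv, he⟩, -⟩ := Subgroup.mem_inf.mp y.2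
          have : v = ⟨((y : ↥H) : G), hhL y.1.2⟩ := Subtype.ext he
          exact this ▸ hv
        let f : ↥(M.subgroupOf H) →* ↥N :=
          { toFun := fun y => ⟨_, hq y⟩
            map_one' := Subtype.ext (map_one (QuotientGroup.mk' Z))
            map_mul' := fun y y' => Subtype.ext (map_mul (QuotientGroup.mk' Z) ⟨_, hhL y.1.2⟩ ⟨_, hhL y'.1.2⟩) }
        refine Subgroup.card_dvd_of_injective f ((injective_iff_map_eq_one f).mpr fun y hy => ?_)
        have h1 := hZH _ ((QuotientGroup.eq_one_iff _).mp (congrArg Subtype.val hy)) y.1.2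
        have h2 : ((y : ↥H) : G) = 1 := congrArg (fun q : ↥L => (q : G)) h1
        exact Subtype.ext (Subtype.ext h2)
      have hbot : M.subgroupOf H = ⊥ := le_bot_iff.mp (hO ▸ le_sSup ⟨hMn, hcop.coprime_dvd_left hModd⟩)
      rw [Subgroup.mem_bot]
      obtain ⟨u, hu, i, e⟩ := hdec x x.2
      have hxN : (QuotientGroup.mk' Z x) ^ Nat.card ↥N = 1 :=
        orderOf_dvd_iff_pow_eq_one.mp (Subgroup.orderOf_dvd_natCard N hw)
      rcases Int.even_or_odd i with ⟨l, hl⟩ | ⟨l, hl⟩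
      · have hzl : ((a' ^ 2) ^ l : ↥L) ∈ Z := ⟨l, rfl⟩
        have hxu : x = ⟨u, hhL hu⟩ * (a' ^ 2) ^ l := Subtype.ext (by
          rw [← e, hl, ← two_mul, zpow_mul]; simp [a', show a ^ (2 : ℤ) = a ^ 2 from zpow_natCast a 2])
        have hq : QuotientGroup.mk' Z x = QuotientGroup.mk' Z ⟨u, hhL hu⟩ := by
          rw [hxu, map_mul, show QuotientGroup.mk' Z ((a' ^ 2) ^ l) = 1 from (QuotientGroup.eq_one_iff _).mpr hzl, mul_one]
        have hu1 : (⟨u, hu⟩ : ↥H) ∈ M.subgroupOf H :=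
          Subgroup.mem_inf.mpr ⟨⟨⟨u, hhL hu⟩, show QuotientGroup.mk' Z _ ∈ N from hq ▸ hw, rfl⟩, hu⟩
        rw [hbot, Subgroup.mem_bot] at hu1
        rw [hq, show (⟨u, hhL hu⟩ : ↥L) = 1 from Subtype.ext (congrArg Subtype.val hu1 : u = 1), map_one]
      · exfalso
        -- an odd power of an element outside H times Z stays outside
        have hpow : ∀ m : ℕ, ∃ v ∈ H, v * a ^ ((m : ℤ) * i) = (x : G) ^ m := by
          intro m
          induction m with
          | zero => exact ⟨1, one_mem _, by simp⟩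
          | succ m ihm =>
            obtain ⟨v, hv, hve⟩ := ihm
            refine ⟨v * (a ^ ((m : ℤ) * i) * u * (a ^ ((m : ℤ) * i))⁻¹),
              mul_mem hv ((Subgroup.mem_normalizer_iff.mp (hAH (zpow_mem ha _)) u).mp hu), ?_⟩
            rw [pow_succ, ← hve, ← e, show ((m + 1 : ℕ) : ℤ) * i = (m : ℤ) * i + i by push_cast; ring, zpow_add]
            simp [mul_assoc]
        obtain ⟨v, hv, hve⟩ := hpow (Nat.card ↥N)
        obtain ⟨r, hr⟩ := (QuotientGroup.eq_one_iff _).mp ((map_pow _ _ _).trans hxN)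
        have hr' : a ^ (2 * r) = (x : G) ^ Nat.card ↥N := by
          rw [zpow_mul, show a ^ (2 : ℤ) = a ^ 2 from zpow_natCast a 2]
          simpa [a'] using congrArg Subtype.val hr
        have hvA : v ∈ A ⊓ H := Subgroup.mem_inf.mpr ⟨by
          rw [eq_mul_inv_of_mul_eq (hve.trans hr'.symm)]
          exact mul_mem (zpow_mem ha _) (inv_mem (zpow_mem ha _)), hv⟩
        rw [hdisj, Subgroup.mem_bot] at hvA
        rw [hvA, one_mul, ← hr'] at hve
        have hd : (orderOf a : ℤ) ∣ (Nat.card ↥N : ℤ) * i - 2 * r := by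
          rw [orderOf_dvd_iff_zpow_eq_one, zpow_sub, hve, mul_inv_cancel]
        have h3 : (2 : ℤ) ∣ (Nat.card ↥N : ℤ) * i - 2 * r := dvd_trans (by exact_mod_cast h2d) hd
        have hoddN : Odd ((Nat.card ↥N : ℤ) * i) := by
          refine Odd.mul ?_ ⟨l, hl⟩
          exact_mod_cast Nat.coprime_two_right.mp hcop
        obtain ⟨s, hs⟩ := hoddN
        omega
    have hc := Cfsg.Agent.Inv.isolated_mem_center hcore hiso
    have e := Subgroup.mem_center_iff.mp hc (QuotientGroup.mk' Z ⟨h, hhL hh⟩)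
    -- the commutator lies in Z and in H
    have hcm : h * a * h⁻¹ * a⁻¹ ∈ A ⊓ H := by
      refine Subgroup.mem_inf.mpr ⟨?_, ?_⟩
      · refine hZval (⟨h, hhL hh⟩ * a' * ⟨h, hhL hh⟩⁻¹ * a'⁻¹) ((QuotientGroup.eq_one_iff _).mp ?_)
        show QuotientGroup.mk' Z _ = 1
        rw [map_mul, map_mul, map_mul, map_inv, map_inv, e]
        simp [z]
      · simpa [mul_assoc] using mul_mem hh ((Subgroup.mem_normalizer_iff.mp (hAH ha) h⁻¹).mp (inv_mem hh))
    rw [hdisj, Subgroup.mem_bot, mul_inv_eq_one] at hcm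
    exact mul_inv_eq_iff_eq_mul.mp hcm

end Cfsg.Agent.S1251
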