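import Cfsg.Statements.S1253
import Cfsg.Agent.S1187

set_option autoImplicit false
open Cfsg

namespace Cfsg.Agent.S1253

/-- Let z be an isolated involution of the finite group G with centralizer C, p an odd prime and P a Sylow p-subgroup of G normalized by z. Then P ∩ C has p-power-free index in C (it is a Sylow p-subgroup of C), and |P : C_P(z)| equals the number of elements x ∈ P with z x z⁻¹ = x⁻¹. -/
theorem result {G : Type*} [Group G] [Finite G] (z : G) (hz : Cfsg.IsIsolatedInvolution z) {p : ℕ} [Fact p.Prime] (hp : p ≠ 2) (P : Sylow p G) (hzP : z ∈ Subgroup.normalizer ((P : Subgroup G) : Set G)) : ¬ p ∣ ((P : Subgroup G) ⊓ Subgroup.centralizer ({z} : Set G)).relIndex (Subgroup.centralizer ({z} : Set G)) ∧ ((P : Subgroup G) ⊓ Subgroup.centralizer ({z} : Set G)).relIndex (P : Subgroup G) = Nat.card {x : G // x ∈ P ∧ z * x * z⁻¹ = x⁻¹} := by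
  classical
  set C := Subgroup.centralizer ({z} : Set G) with hC
  set D := (P : Subgroup G) ⊓ C with hD
  have hzP' : z • P = P := Sylow.smul_eq_iff_mem_normalizer.2 hzP
  have hinv := Inv.inv_eq_self_of_orderOf_two hz.1
  constructor
  · -- extend a Sylow subgroup of `C` to an invariant Sylow subgroup
    obtain ⟨R⟩ := (inferInstance : Nonempty (Sylow p C))
    set R₀ := (R : Subgroup C).map C.subtype with hR₀
    have hR₀C : R₀ ≤ C := Subgroup.map_subtype_le _
    have hzR : z ∈ Subgroup.normalizer (R₀ : Set G) := by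
      refine Subgroup.centralizer_le_normalizer _ fun x hx => ?_
      exact Subgroup.mem_centralizer_singleton_iff.1 (hR₀C hx)
    obtain ⟨Q, hQ, hQmax⟩ := Set.Finite.exists_maximalFor (fun U : Subgroup G => Nat.card U)
      {U : Subgroup G | IsPGroup p U ∧ z ∈ Subgroup.normalizer (U : Set G) ∧ R₀ ≤ U}
      (Set.toFinite _) ⟨R₀, R.isPGroup'.map _, hzR, le_rfl⟩
    obtain ⟨P', hP'⟩ := S1187.result z hz Q hQ.1 hQ.2.1 fun U hU hzU hQU =>
      (Subgroup.eq_of_le_of_card_ge hQU
        (hQmax ⟨hU, hzU, hQ.2.2.trans hQU⟩ (Subgroup.card_le_of_le hQU))).symm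
    obtain ⟨c, hc, he⟩ := Inv.exists_centralizer_smul_eq hz (P := P') (P' := P)
      (Sylow.smul_eq_iff_mem_normalizer.2 (by rw [← Sylow.coe_coe, hP']; exact hQ.2.1)) hzP'
    have hcard : Nat.card (R : Subgroup C) ≤ Nat.card D := by
      refine Nat.card_le_card_of_injective (fun x : (R : Subgroup C) =>
        (⟨c * ((x : C) : G) * c⁻¹, Subgroup.mem_inf.2 ⟨?_, mul_mem (mul_mem hc (x : C).2) (inv_mem hc)⟩⟩ : D))
        fun a b hab => ?_
      · rw [← he]
        refine Inv.mem_smul_sylow.2 ?_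
        have h1 : c⁻¹ * (c * ((x : C) : G) * c⁻¹) * c = ((x : C) : G) := by group
        rw [h1]
        show ((x : C) : G) ∈ (P' : Subgroup G)
        rw [hP']
        exact hQ.2.2 ⟨_, x.2, rfl⟩
      · have h := congrArg Subtype.val hab
        exact Subtype.ext (Subtype.ext (mul_left_cancel (mul_right_cancel h)))
    intro hdvd
    obtain ⟨k, hk⟩ := (P.isPGroup'.to_le (inf_le_left : D ≤ P)).exists_card_eq
    have h1 : p ^ (k + 1) ∣ Nat.card C := by
      rw [pow_succ, ← hk, ← Nat.card_congr (Subgroup.subgroupOfEquivOfLe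
        (inf_le_right : D ≤ C)).toEquiv, ← (D.subgroupOf C).card_mul_index]
      exact mul_dvd_mul_left _ hdvd
    have h2 := Nat.le_of_dvd Nat.card_pos (R.pow_dvd_card_of_pow_dvd_card h1)
    have h3 : p ^ k < p ^ (k + 1) := Nat.pow_lt_pow_right (Fact.out : p.Prime).one_lt (lt_add_one k)
    exact absurd (h2.trans (hcard.trans hk.le)) (not_le.2 h3)
  · -- cosets of the centralizer correspond to inverted elements
    have hcentmem : ∀ y : G, y ∈ C ↔ y * z = z * y := fun y => by
      rw [hC, Subgroup.mem_centralizer_singleton_iff]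
    have hzmem : ∀ x ∈ (P : Subgroup G), z * x * z⁻¹ ∈ (P : Subgroup G) := fun x hx =>
      (Subgroup.mem_normalizer_iff.1 hzP x).1 hx
    have hval : ∀ x : G, x ∈ (P : Subgroup G) →
        x * z * x⁻¹ * z ∈ (P : Subgroup G) ∧
          z * (x * z * x⁻¹ * z) * z⁻¹ = (x * z * x⁻¹ * z)⁻¹ := by
      intro x hx
      refine ⟨?_, ?_⟩
      · have h := mul_mem hx (hzmem _ (inv_mem hx))
        rw [hinv] at h
        simpa [mul_assoc] using h
      · simp only [mul_inv_rev, inv_inv, hinv, mul_assoc, Inv.mul_self_of_orderOf_two hz.1, mul_one]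
    let f : (P : Subgroup G) ⧸ D.subgroupOf (P : Subgroup G) →
        {x : G // x ∈ P ∧ z * x * z⁻¹ = x⁻¹} :=
      Quotient.lift (fun x : (P : Subgroup G) => ⟨(x : G) * z * (x : G)⁻¹ * z, hval x x.2⟩)
        fun a b hab => Subtype.ext (by
          have h' : a⁻¹ * b ∈ D.subgroupOf (P : Subgroup G) := QuotientGroup.leftRel_apply.1 hab
          have h : ((a : G))⁻¹ * b ∈ D := h'
          have h2 := (hcentmem _).1 h.2
          show (a : G) * z * (a : G)⁻¹ * z = (b : G) * z * (b : G)⁻¹ * z
          congr 1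
          calc (a : G) * z * (a : G)⁻¹ = (a : G) * (z * ((a : G)⁻¹ * b)) * (b : G)⁻¹ := by group
            _ = (a : G) * (((a : G)⁻¹ * b) * z) * (b : G)⁻¹ := by rw [h2]
            _ = _ := by group)
    have hfinj : Function.Injective f := by
      intro a b
      induction a using QuotientGroup.induction_on with | _ a => ?_
      induction b using QuotientGroup.induction_on with | _ b => ?_
      intro hab
      have e : (a : G) * z * (a : G)⁻¹ * z = (b : G) * z * (b : G)⁻¹ * z := congrArg Subtype.val hab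
      have e' := mul_right_cancel e
      refine QuotientGroup.eq.2 (Subgroup.mem_subgroupOf.2
        (Subgroup.mem_inf.2 ⟨mul_mem (inv_mem a.2) b.2, (hcentmem _).2 ?_⟩))
      show (a : G)⁻¹ * b * z = z * ((a : G)⁻¹ * b)
      calc (a : G)⁻¹ * b * z = (a : G)⁻¹ * ((b : G) * z * (b : G)⁻¹) * b := by group
        _ = _ := by rw [← e']; group
    have hfsurj : Function.Surjective f := by
      rintro ⟨y, hy, hyz⟩
      have hodd : Odd (orderOf y) := by
        obtain ⟨j, hj⟩ := IsPGroup.iff_orderOf.1 P.isPGroup' ⟨y, hy⟩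
        rw [← Subgroup.orderOf_coe] at hj
        change orderOf y = p ^ j at hj
        rw [hj]; exact ((Fact.out : p.Prime).odd_of_ne_two hp).pow
      have hr : Inv.oddRoot y ∈ (P : Subgroup G) := pow_mem hy _
      refine ⟨QuotientGroup.mk ⟨Inv.oddRoot y, hr⟩, Subtype.ext ?_⟩
      show Inv.oddRoot y * z * (Inv.oddRoot y)⁻¹ * z = y
      rw [Inv.conj_eq_sq_mul (show z * Inv.oddRoot y * z⁻¹ = (Inv.oddRoot y)⁻¹ from
        Inv.conj_pow_of_inverts hyz _), Inv.oddRoot_sq hodd, mul_assoc,
        Inv.mul_self_of_orderOf_two hz.1, mul_one]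
    rw [Subgroup.relIndex, Subgroup.index_eq_card]
    exact Nat.card_eq_of_bijective f ⟨hfinj, hfsurj⟩

end Cfsg.Agent.S1253
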