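import Cfsg.Statements.S1254
import Cfsg.Agent.Lib.Fusion.DihedralRows

set_option autoImplicit false
open Cfsg

namespace Cfsg.Agent.S1254

/-- Let X be a finite group whose Sylow 2-subgroup S is dihedral (of order at least 4). Then X has a normal 2-complement if and only if, for every Klein four-subgroup U ≤ S, the normalizer N_X(U) is generated by C_X(U) and N_S(U). -/
theorem result {X : Type*} [Group X] [Finite X] (S : Sylow 2 X) (m : ℕ) (hm : 2 ≤ m) (eS : (S : Subgroup X) ≃* DihedralGroup m) : Cfsg.HasNormalPComplement 2 X ↔ ∀ U : Subgroup X, U ≤ S → IsKleinFour U → Subgroup.normalizer (U : Set X) = Subgroup.centralizer (U : Set X) ⊔ ((S : Subgroup X) ⊓ Subgroup.normalizer (U : Set X)) := by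
  constructor
  · intro h U hUS _
    obtain ⟨Q, N, hN, hc'⟩ := h
    obtain ⟨-, hcop, hidx⟩ := Solv.complement_eq_pPrimeCore hc'
    have hc := Solv.isComplement'_sylow_of_card S N hcop hidx
    refine le_antisymm (fun n hn => ?_) (sup_le (Fusion.centralizer_le_normalizer' U) inf_le_right)
    obtain ⟨⟨⟨k, hk⟩, ⟨s, hs⟩⟩, hks⟩ := hc.2 n
    simp only at hks
    have key : ∀ u ∈ U, n * u * n⁻¹ = s * u * s⁻¹ := by
      intro u hu
      have hw : s * u * s⁻¹ ∈ (S : Subgroup X) := mul_mem (mul_mem hs (hUS hu)) (inv_mem hs)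
      have hb : k * (s * u * s⁻¹) * k⁻¹ ∈ (S : Subgroup X) := by
        have := hUS ((Subgroup.mem_normalizer_iff.1 hn u).1 hu)
        rwa [← hks, show k * s * u * (k * s)⁻¹ = k * (s * u * s⁻¹) * k⁻¹ by group] at this
      have h1 : k * (s * u * s⁻¹) * k⁻¹ * (s * u * s⁻¹)⁻¹ ∈ N ⊓ (S : Subgroup X) := ⟨by
        have := mul_mem hk (hN.conj_mem _ (inv_mem hk) (s * u * s⁻¹))
        simpa [mul_assoc] using this, Subgroup.mul_mem _ hb (Subgroup.inv_mem _ hw)⟩
      rw [hc.disjoint.eq_bot, Subgroup.mem_bot, mul_inv_eq_one] at h1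
      rw [← hks, show k * s * u * (k * s)⁻¹ = k * (s * u * s⁻¹) * k⁻¹ by group, h1]
    have hsN : s ∈ Subgroup.normalizer (U : Set X) := Subgroup.mem_normalizer_fintype fun u hu => by
      show s * u * s⁻¹ ∈ U
      rw [← key u hu]; exact (Subgroup.mem_normalizer_iff.1 hn u).1 hu
    rw [← hks]
    refine Subgroup.mul_mem_sup (fun w hw => ?_) ⟨hs, hsN⟩
    have hu : s⁻¹ * w * s ∈ U := (Subgroup.mem_normalizer_iff''.1 hsN w).1 hw
    have h2 := key _ hu
    rw [← hks, show s * (s⁻¹ * w * s) * s⁻¹ = w by group, show k * s * (s⁻¹ * w * s) * (k * s)⁻¹ = k * w * k⁻¹ by group] at h2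
    exact (mul_inv_eq_iff_eq_mul.1 h2).symm
  · intro h
    rcases Fusion.DihedralModel.cases S m hm eS with ⟨hK, -⟩ | ⟨k, D, rfl, -⟩
    · refine Solv.hasNormalPComplement_of_burnside S ?_
      rw [h _ le_rfl hK]
      refine sup_le le_rfl fun x hx y hy => ?_
      exact congrArg Subtype.val (mul_comm_of_exponent_two hK.exponent_two (⟨y, hy⟩ : (S : Subgroup X)) ⟨x, hx.1⟩)
    · refine Solv.hasNormalPComplement_of_fusion D.S fun x hx g hg => ?_
      have hno : ∀ P, ¬ (groupFusionSystem (D.S : Subgroup X)).IsEssential 2 P := fun P hP => by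
        obtain ⟨hPS, hK, hne⟩ := D.essential_klein hP
        refine hne ?_
        set f := P.normalizerMonoidHom
        have hp : IsPGroup 2 ((((D.S : Subgroup X) ⊓ Subgroup.normalizer (P : Set X)).subgroupOf (Subgroup.normalizer (P : Set X))).map f) :=
          ((D.S.2.to_le inf_le_left).of_equiv (Subgroup.subgroupOfEquivOfLe inf_le_right).symm).map f
        refine hp.to_le ?_
        rintro _ ⟨⟨n, hn⟩, rfl⟩
        have hn' := hn
        rw [h P hPS hK] at hn'
        have hCn : Subgroup.centralizer (P : Set X) ≤ Subgroup.normalizer (P : Set X) := Fusion.centralizer_le_normalizer' P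
        have : (⟨n, hn⟩ : Subgroup.normalizer (P : Set X)) ∈ f.ker ⊔ ((D.S : Subgroup X) ⊓ Subgroup.normalizer (P : Set X)).subgroupOf _ := by
          rw [Subgroup.normalizerMonoidHom_ker, ← Subgroup.subgroupOf_sup hCn inf_le_right]
          exact hn'
        obtain ⟨a, ha, b, hb, hab⟩ := Subgroup.mem_sup_of_normal_left.1 this
        refine ⟨b, hb, ?_⟩
        rw [← hab, map_mul, MonoidHom.mem_ker.1 ha, one_mul]
      have hle := Fusion.EssentialControl.le_inner D.S.2 (Fusion.isSaturated_groupFusionSystem D.S) D.isPGroup_autGroup_S hno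
      have hm : Fusion.IsMor (groupFusionSystem (D.S : Subgroup X))
          ((D.S : Subgroup X) ⊓ (D.S : Subgroup X).comap (MulAut.conj g).toMonoidHom) (fun y => g * y * g⁻¹) :=
        Fusion.isMor_groupFusionSystem.2 ⟨inf_le_left, fun y hy => hy.2, g, fun _ _ => rfl⟩
      obtain ⟨-, z, hz, h'⟩ := Fusion.isMor_inner.1 (Fusion.le_iff_isMor.1 hle _ _ hm)
      exact ⟨z, hz, (h' x ⟨hx, hg⟩).symm⟩

end Cfsg.Agent.S1254
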