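import Cfsg.Statements.S1255
import Cfsg.Agent.Lib.Fusion.DihedralRows

set_option autoImplicit false
open Cfsg

namespace Cfsg.Agent.S1255

/-- Let X be a finite group whose Sylow 2-subgroup S is dihedral of order 2m ≥ 4. Then X has no subgroup of index 2 and no isolated involution if and only if either all involutions of X are conjugate, or for every Klein four-subgroup U ≤ S the index |N_X(U) : C_X(U)| equals 3 when |S| = 4 and equals 6 when |S| > 4. -/
theorem result {X : Type*} [Group X] [Finite X] (S : Sylow 2 X) (m : ℕ) (hm : 2 ≤ m) (eS : (S : Subgroup X) ≃* DihedralGroup m) : ((∀ H : Subgroup X, H.index ≠ 2) ∧ (∀ z : X, ¬ Cfsg.IsIsolatedInvolution z)) ↔ ((∀ a b : X, orderOf a = 2 → orderOf b = 2 → IsConj a b) ∨ (∀ U : Subgroup X, U ≤ S → IsKleinFour U → (Subgroup.centralizer (U : Set X)).relIndex (Subgroup.normalizer (U : Set X)) = (if Nat.card S = 4 then 3 else 6))) := by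
  have hconv : ((∀ a b : X, orderOf a = 2 → orderOf b = 2 → IsConj a b) ∨ (∀ U : Subgroup X, U ≤ S → IsKleinFour U →
      (Subgroup.centralizer (U : Set X)).relIndex (Subgroup.normalizer (U : Set X)) = (if Nat.card S = 4 then 3 else 6))) →
      ∀ a b : X, orderOf a = 2 → orderOf b = 2 → IsConj a b := by
    rintro (h | h)
    · exact h
    have hdvd : ∀ U : Subgroup X, U ≤ S → IsKleinFour U → 3 ∣ Nat.card U.normalizerMonoidHom.range := fun U h1 h2 => by
      rw [Fusion.DihedralModel.range_card_eq, h U h1 h2]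
      split_ifs <;> norm_num
    intro a b ha hb
    rcases Fusion.DihedralModel.cases S m hm eS with ⟨hK, -⟩ | ⟨k, D, rfl, -⟩
    · have key : ∀ x : X, orderOf x = 2 → ∃ y, y ∈ (S : Subgroup X) ∧ y ≠ 1 ∧ IsConj x y := fun x hx => by
        have hp : IsPGroup 2 (Subgroup.zpowers x) := IsPGroup.of_card (n := 1) (by rw [Nat.card_zpowers, hx, pow_one])
        obtain ⟨g, hg⟩ := Fusion.exists_conj_le_sylow S hp
        refine ⟨MulAut.conj g x, hg ⟨x, Subgroup.mem_zpowers x, rfl⟩, fun h' => ?_, isConj_iff.2 ⟨g, rfl⟩⟩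
        rw [(MulAut.conj g).injective (h'.trans (map_one (MulAut.conj g)).symm), orderOf_one] at hx
        norm_num at hx
      obtain ⟨a', ha', ha1, hac⟩ := key a ha
      obtain ⟨b', hb', hb1, hbc⟩ := key b hb
      exact hac.trans ((Fusion.DihedralModel.klein_transitive hK (hdvd _ le_rfl hK) ha' hb' ha1 hb1).trans hbc.symm)
    · have h3 := fun ε => hdvd _ (D.U_le ε) (D.isKleinFour_U ε)
      exact (D.one_class h3 ha).trans (D.one_class h3 hb).symm
  constructor
  · rintro ⟨hno, -⟩
    left
    rcases Fusion.DihedralModel.cases S m hm eS with ⟨hK, -⟩ | ⟨k, D, rfl, -⟩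
    · intro a b ha hb
      rcases KleinSylow.dichotomy hK with h | h
      · have key : ∀ x : X, orderOf x = 2 → ∃ y, y ∈ (S : Subgroup X) ∧ y ≠ 1 ∧ IsConj x y := fun x hx => by
          have hp : IsPGroup 2 (Subgroup.zpowers x) := IsPGroup.of_card (n := 1) (by rw [Nat.card_zpowers, hx, pow_one])
          obtain ⟨g, hg⟩ := Fusion.exists_conj_le_sylow S hp
          refine ⟨MulAut.conj g x, hg ⟨x, Subgroup.mem_zpowers x, rfl⟩, fun h' => ?_, isConj_iff.2 ⟨g, rfl⟩⟩
          rw [(MulAut.conj g).injective (h'.trans (map_one (MulAut.conj g)).symm), orderOf_one] at hx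
          norm_num at hx
        obtain ⟨a', ha', ha1, hac⟩ := key a ha
        obtain ⟨b', hb', hb1, hbc⟩ := key b hb
        exact hac.trans ((h a' ha' b' hb' ha1 hb1).trans hbc.symm)
      · exfalso
        obtain ⟨Q, N, hN, hc⟩ := Solv.hasNormalPComplement_of_burnside S h.2
        have hidx : N.index = 4 := by
          rw [hc.symm.index_eq_card]
          exact (Nat.card_congr (Sylow.equiv Q S).toEquiv).trans hK.card_four
        have : Fact (Nat.Prime 2) := ⟨Nat.prime_two⟩
        obtain ⟨K, hK2⟩ := Sylow.exists_subgroup_card_pow_prime 2 (G := X ⧸ N) (n := 1)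
          (by rw [show Nat.card (X ⧸ N) = 4 from hidx]; norm_num)
        refine hno (K.comap (QuotientGroup.mk' N)) ?_
        rw [Subgroup.index_comap_of_surjective _ (QuotientGroup.mk'_surjective N)]
        have := K.card_mul_index
        rw [hK2, show Nat.card (X ⧸ N) = 4 from hidx] at this
        omega
    · intro a b ha hb
      have h3 : ∀ ε, 3 ∣ Nat.card (D.U ε).normalizerMonoidHom.range := fun ε => by
        by_contra h
        obtain ⟨H, hH⟩ := D.exists_index_two h
        exact hno H hH
      exact (D.one_class h3 ha).trans (D.one_class h3 hb).symm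
  · intro h
    obtain ⟨U, -, hU⟩ := Fusion.DihedralModel.exists_klein_le S m hm eS
    exact ⟨Fusion.DihedralModel.no_index_two S m hm eS (hconv h), Fusion.DihedralModel.no_isolated U hU (hconv h)⟩

end Cfsg.Agent.S1255
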