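import Cfsg.Statements.S1256
import Cfsg.Agent.Lib.Fusion.DihedralRows

set_option autoImplicit false
open Cfsg

namespace Cfsg.Agent.S1256

/-- Let X be a finite group whose Sylow 2-subgroup S is dihedral of order 2m ≥ 4. If |S| = 4, any two Klein four-subgroups of X are conjugate; if |S| > 4, there are Klein four-subgroups U₁, U₂ of X that are not conjugate, and every Klein four-subgroup of X is conjugate to U₁ or to U₂. -/
theorem result {X : Type*} [Group X] [Finite X] (S : Sylow 2 X) (m : ℕ) (hm : 2 ≤ m) (eS : (S : Subgroup X) ≃* DihedralGroup m) : (Nat.card S = 4 → ∀ U V : Subgroup X, IsKleinFour U → IsKleinFour V → (∃ x : X, U.map (MulAut.conj x).toMonoidHom = V)) ∧ (4 < Nat.card S → ∃ U₁ U₂ : Subgroup X, IsKleinFour U₁ ∧ IsKleinFour U₂ ∧ ¬ (∃ x : X, U₁.map (MulAut.conj x).toMonoidHom = U₂) ∧ ∀ V : Subgroup X, IsKleinFour V → (∃ x : X, V.map (MulAut.conj x).toMonoidHom = U₁) ∨ (∃ x : X, V.map (MulAut.conj x).toMonoidHom = U₂)) := by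
  have hp : ∀ V : Subgroup X, IsKleinFour V → IsPGroup 2 V := fun V hV => IsPGroup.of_card (n := 2) hV.card_four
  constructor
  · intro h4 U V hU hV
    have key : ∀ W : Subgroup X, IsKleinFour W → ∃ g : X, W.map (MulAut.conj g).toMonoidHom = (S : Subgroup X) := fun W hW => by
      obtain ⟨g, hg⟩ := Fusion.exists_conj_le_sylow S (hp W hW)
      exact ⟨g, Subgroup.eq_of_le_of_card_ge hg (by rw [Fusion.card_map_conj, hW.card_four]; exact h4.le)⟩
    obtain ⟨a, ha⟩ := key U hU
    obtain ⟨b, hb⟩ := key V hV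
    refine ⟨b⁻¹ * a, ?_⟩
    rw [← Fusion.map_conj_mul, ha, ← hb, Fusion.map_conj_mul, inv_mul_cancel, map_one]
    exact Subgroup.ext fun x => by simp
  · intro h4
    rcases Fusion.DihedralModel.cases S m hm eS with ⟨-, h⟩ | ⟨k, D, rfl, -⟩
    · omega
    refine ⟨D.U 0, D.U 1, D.isKleinFour_U 0, D.isKleinFour_U 1, fun ⟨x, hx⟩ => zero_ne_one (D.not_conj_U hx), fun V hV => ?_⟩
    obtain ⟨g, hg⟩ := Fusion.exists_conj_le_sylow D.S (hp V hV)
    obtain ⟨ε, a, -, ha⟩ := D.klein_cases hg (Fusion.DihedralModel.isKleinFour_map _ V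
      ((MulAut.conj g).injective.comp V.subtype_injective) hV)
    have hV' : V.map (MulAut.conj (a⁻¹ * g)).toMonoidHom = D.U ε := by
      rw [← Fusion.map_conj_mul, ← ha, Fusion.map_conj_mul, inv_mul_cancel, map_one]
      exact Subgroup.ext fun x => by simp
    rcases (show ∀ e : ZMod 2, e = 0 ∨ e = 1 by decide) ε with rfl | rfl
    · exact Or.inl ⟨_, hV'⟩
    · exact Or.inr ⟨_, hV'⟩

end Cfsg.Agent.S1256
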