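import Cfsg.Statements.S1262
import Cfsg.Agent.Lib.Local.FStar

set_option autoImplicit false
open Cfsg

namespace Cfsg.Agent.S1262

/-- Let L be a component of the finite group G and H a solvable subgroup normalized by L. Then ⁅L, H⁆ = 1. -/
theorem result {G : Type*} [Group G] [Finite G] (L H : Subgroup G) (hL : Cfsg.IsComponent L) (hsolv : Group.IsSolvable ↥H) (hinv : L ≤ Subgroup.normalizer (H : Set G)) : ⁅L, H⁆ = ⊥ := by
  set M := Subgroup.normalizer (H : Set G) with hM
  have hn : (H.subgroupOf M).Normal :=
    (Subgroup.normal_subgroupOf_iff_le_normalizer Subgroup.le_normalizer).2 le_rfl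
  rcases Local.component_le_or_commutator_eq_bot (Local.isComponent_subgroupOf hinv hL)
      hn.isSubnormal with h | h
  · exfalso
    haveI := hsolv
    refine Local.qs_not_isSolvable hL.2 (Group.isSolvable_of_isSolvable_injective
      (f := Subgroup.inclusion (H := L) (K := H) ?_) (Subgroup.inclusion_injective _))
    intro x hx
    exact h (show (⟨x, hinv hx⟩ : M) ∈ L.subgroupOf M from hx)
  · have h2 := congrArg (Subgroup.map M.subtype) h
    rwa [Subgroup.map_commutator, Subgroup.map_subgroupOf_eq_of_le hinv,
      Subgroup.map_subgroupOf_eq_of_le Subgroup.le_normalizer, Subgroup.map_bot] at h2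

end Cfsg.Agent.S1262
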