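import Cfsg.Statements.S1263
import Cfsg.Agent.Lib.Local.FStar

set_option autoImplicit false
open Cfsg

namespace Cfsg.Agent.S1263

/-- For a finite group G, Z(E(G)) is the subgroup generated by the centres Z(L) of the components L of G (all viewed as subgroups of G). -/
theorem result {G : Type*} [Group G] [Finite G] : (Subgroup.center ↥(Cfsg.layer G)).map (Cfsg.layer G).subtype = ⨆ L : {K : Subgroup G // Cfsg.IsComponent K}, (Subgroup.center ↥(L : Subgroup G)).map (L : Subgroup G).subtype := by
  classical
  set R := ⨆ L : {K : Subgroup G // Cfsg.IsComponent K},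
    (Subgroup.center ↥(L : Subgroup G)).map (L : Subgroup G).subtype with hR
  refine le_antisymm ?_ (iSup_le fun L => ?_)
  · -- induct over sets of components
    have key : ∀ s : Finset (Subgroup G), (∀ K ∈ s, Cfsg.IsComponent K) →
        ∀ x ∈ s.sup id, (∀ K ∈ s, ∀ u ∈ K, u * x = x * u) → x ∈ R := by
      intro s
      induction s using Finset.induction with
      | empty =>
        intro _ x hx _
        rw [Finset.sup_empty, Subgroup.mem_bot] at hx
        rw [hx]; exact one_mem R
      | @insert K s hKs ih =>
        intro hcomp x hx hcen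
        rw [Finset.sup_insert, id_eq] at hx
        have hK := hcomp K (Finset.mem_insert_self K s)
        have hsK : s.sup id ≤ Subgroup.centralizer (K : Set G) := Finset.sup_le fun L hL =>
          Subgroup.commutator_eq_bot_iff_le_centralizer.1
            (Local.components_commute (hcomp L (Finset.mem_insert_of_mem hL)) hK
              fun e => hKs (e ▸ hL))
        rw [← SetLike.mem_coe, Subgroup.coe_mul_of_right_le_normalizer_left K (s.sup id)
          (hsK.trans (Subgroup.centralizer_le_normalizer _))] at hx
        obtain ⟨k, hk, y, hy, rfl⟩ := Set.mem_mul.1 hx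
        have hk' : ∀ u ∈ K, u * k = k * u := fun u hu => by
          have h1 := hcen K (Finset.mem_insert_self K s) u hu
          have h2 : y * u = u * y := (hsK hy u hu).symm
          rw [mul_assoc k y u, h2, ← mul_assoc, ← mul_assoc] at h1
          exact mul_right_cancel h1
        have hkR : k ∈ R := Subgroup.mem_iSup_of_mem (⟨K, hK⟩ : {K : Subgroup G // Cfsg.IsComponent K})
          ⟨⟨k, hk⟩, Subgroup.mem_center_iff.2 fun g => Subtype.ext (hk' g g.2), rfl⟩
        refine mul_mem hkR (ih (fun L hL => hcomp L (Finset.mem_insert_of_mem hL)) y hy ?_)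
        intro L hL u hu
        have h1 := hcen L (Finset.mem_insert_of_mem hL) u hu
        have h2 : u * k = k * u := (hsK (Finset.le_sup (f := id) hL hu) k hk).symm
        rw [← mul_assoc, h2, mul_assoc, mul_assoc] at h1
        exact mul_left_cancel h1
    haveI : Fintype (Subgroup G) := Fintype.ofFinite _
    rintro _ ⟨⟨x, hx⟩, hxc, rfl⟩
    refine key (Finset.univ.filter fun K => Cfsg.IsComponent K) (fun K hK => (Finset.mem_filter.1 hK).2)
      x ?_ fun K hK u hu => congrArg Subtype.val
        (Subgroup.mem_center_iff.1 hxc ⟨u, (le_sSup (s := {K : Subgroup G | Cfsg.IsComponent K})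
          (Finset.mem_filter.1 hK).2) hu⟩)
    have hle : Cfsg.layer G ≤ (Finset.univ.filter fun K : Subgroup G => Cfsg.IsComponent K).sup id :=
      sSup_le fun K hK => Finset.le_sup (f := id) (Finset.mem_filter.2 ⟨Finset.mem_univ K, hK⟩)
    exact hle hx
  · have hLle : (L : Subgroup G) ≤ Cfsg.layer G := le_sSup (s := {K : Subgroup G | Cfsg.IsComponent K}) L.2
    rintro _ ⟨k, hk, rfl⟩
    refine ⟨⟨(k : G), hLle k.2⟩, Subgroup.mem_center_iff.2 fun g => Subtype.ext ?_, rfl⟩
    have hle : Cfsg.layer G ≤ Subgroup.centralizer ({(k : G)} : Set G) := sSup_le fun K hK => by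
      intro u hu
      rw [Subgroup.mem_centralizer_singleton_iff]
      by_cases e : K = (L : Subgroup G)
      · subst e
        exact congrArg Subtype.val (Subgroup.mem_center_iff.1 hk ⟨u, hu⟩)
      · exact ((Subgroup.commutator_eq_bot_iff_le_centralizer.1
          (Local.components_commute hK L.2 e)) hu k k.2).symm
    exact Subgroup.mem_centralizer_singleton_iff.1 (hle g.2)

end Cfsg.Agent.S1263
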