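import Cfsg.Statements.S1266
import Cfsg.Agent.Lib.Local.LayerLocal

set_option autoImplicit false
open Cfsg

namespace Cfsg.Agent.S1266

/-- Let P be a p-subgroup of the finite group G and N = N_G(P). Then the preimage in N of E(N / O_{p'}(N)) centralizes O_p(G). -/
theorem result {G : Type*} [Group G] [Finite G] (p : ℕ) [Fact p.Prime] (P : Subgroup G) (hP : IsPGroup p ↥P) : (((Cfsg.layer (↥(Subgroup.normalizer ((P : Subgroup G) : Set G)) ⧸ Cfsg.pPrimeCore p ↥(Subgroup.normalizer ((P : Subgroup G) : Set G)))).comap (QuotientGroup.mk' (Cfsg.pPrimeCore p ↥(Subgroup.normalizer ((P : Subgroup G) : Set G))))).map (Subgroup.normalizer ((P : Subgroup G) : Set G)).subtype) ≤ Subgroup.centralizer (Cfsg.pCore p G : Set G) := by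
  set f := QuotientGroup.mk' (Cfsg.pPrimeCore p ↥(Subgroup.normalizer (P : Set G))) with hf
  have hfs : Function.Surjective f := QuotientGroup.mk'_surjective _
  have hcop := Cfsg.Agent.Solv.card_pPrimeCore_coprime p ↥(Subgroup.normalizer (P : Set G))
  have hker : f.ker = Cfsg.pPrimeCore p ↥(Subgroup.normalizer (P : Set G)) :=
    QuotientGroup.ker_mk' _
  refine Cfsg.Agent.Local.le_centralizer_pCore_of_commute hP
    (O := Cfsg.pPrimeCore p ↥(Subgroup.normalizer (P : Set G))) ?_ ?_ hcop ?_
  · refine le_of_le_of_eq ?_ (congrArg _ hker)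
    rw [← Subgroup.comap_map_eq]
    refine Subgroup.comap_mono ?_
    rw [Subgroup.map_commutator, Subgroup.map_comap_eq_self_of_surjective hfs,
      Cfsg.Agent.Local.layer_commutator]
  · refine le_of_eq_of_le hker.symm ?_
    exact Subgroup.ker_le_comap f _
  · intro R hR hRp
    haveI := hR
    haveI := Subgroup.Normal.map hR f hfs
    haveI : ((Cfsg.layer (↥(Subgroup.normalizer (P : Set G)) ⧸
        Cfsg.pPrimeCore p ↥(Subgroup.normalizer (P : Set G)))).comap f).Normal :=
      (Cfsg.Agent.Local.layer_normal).comap f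
    have h1 : ⁅(Cfsg.layer (↥(Subgroup.normalizer (P : Set G)) ⧸
        Cfsg.pPrimeCore p ↥(Subgroup.normalizer (P : Set G)))).comap f, R⁆ ≤
        Cfsg.pPrimeCore p ↥(Subgroup.normalizer (P : Set G)) := by
      refine le_of_le_of_eq ?_ hker
      rw [← Subgroup.map_eq_bot_iff, Subgroup.map_commutator,
        Subgroup.map_comap_eq_self_of_surjective hfs]
      exact Cfsg.Agent.Local.layer_commutator_pGroup _ (hRp.map f)
    have h2 := le_inf (Subgroup.commutator_le_right _ R) h1
    rwa [Cfsg.Agent.Solv.inf_eq_bot_of_isPGroup hRp hcop, le_bot_iff] at h2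

end Cfsg.Agent.S1266
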