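import Cfsg.Statements.S1267
import Cfsg.Agent.Lib.Local.LayerLocal

set_option autoImplicit false
open Cfsg

namespace Cfsg.Agent.S1267

/-- Let G be finite and P ≤ O_p(G). Then E(N_G(P)) = E(G). -/
theorem result {G : Type*} [Group G] [Finite G] (p : ℕ) [Fact p.Prime] (P : Subgroup G) (hP : P ≤ Cfsg.pCore p G) : (Cfsg.layer ↥(Subgroup.normalizer ((P : Subgroup G) : Set G))).map (Subgroup.normalizer ((P : Subgroup G) : Set G)).subtype = Cfsg.layer G := by
  haveI : (Cfsg.pCore p G).Normal := by
    haveI := Cfsg.Agent.Solv.pCore_characteristic p G; infer_instance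
  have hC : Subgroup.centralizer (Cfsg.pCore p G : Set G) ≤
      Subgroup.normalizer (P : Set G) :=
    (Subgroup.centralizer_le hP).trans (Subgroup.centralizer_le_normalizer _)
  have hPp : IsPGroup p P := (Cfsg.Agent.Solv.isPGroup_pCore p G).to_le hP
  refine le_antisymm ?_ (sSup_le fun K hK => ?_)
  · rw [Subgroup.map_le_iff_le_comap]
    refine sSup_le fun L hL => Subgroup.map_le_iff_le_comap.1 (le_sSup ?_)
    have hle : L.map (Subgroup.normalizer (P : Set G)).subtype ≤
        Subgroup.centralizer (Cfsg.pCore p G : Set G) :=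
      (Subgroup.map_mono (le_sSup hL)).trans
        (Cfsg.Agent.Local.layer_normalizer_le_centralizer hPp)
    refine ⟨?_, Cfsg.Agent.Local.qs_congr hL.2
      (L.equivMapOfInjective _ (Subgroup.subtype_injective _))⟩
    have h1 : ((L.map (Subgroup.normalizer (P : Set G)).subtype).subgroupOf
        (Subgroup.centralizer (Cfsg.pCore p G : Set G))).IsSubnormal := by
      have := hL.1.comap (Subgroup.inclusion hC)
      convert this using 1
      ext x
      constructor
      · rintro ⟨y, hy, e⟩
        rw [Subgroup.mem_comap]
        rw [show Subgroup.inclusion hC x = y from Subtype.ext e.symm]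
        exact hy
      · intro hx
        exact ⟨_, hx, rfl⟩
    have h2 := h1.trans' (Subgroup.Normal.isSubnormal inferInstance)
    rwa [Subgroup.map_subgroupOf_eq_of_le hle] at h2
  · have hKN : K ≤ Subgroup.normalizer (P : Set G) := by
      refine le_trans ?_ hC
      rw [← Subgroup.commutator_eq_bot_iff_le_centralizer]
      exact Cfsg.Agent.Local.component_commutator_pCore hK p
    rw [← Subgroup.map_subgroupOf_eq_of_le hKN]
    exact Subgroup.map_mono (le_sSup (Cfsg.Agent.Local.isComponent_subgroupOf hKN hK))

end Cfsg.Agent.S1267
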