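import Cfsg.Statements.S1269
import Cfsg.Agent.Lib.Local.LBalanceSchreier

set_option autoImplicit false
open Cfsg

namespace Cfsg.Agent.S1269

/-- Let G be finite with O_{p'}(G) = 1, P a p-subgroup, N = N_G(P), and x an element of the preimage in N of E(N / O_{p'}(N)). Then x normalizes every component L of G. -/
theorem result {G : Type*} [Group G] [Finite G] (p : ℕ) [Fact p.Prime] (hO : Cfsg.pPrimeCore p G = ⊥) (P : Subgroup G) (hP : IsPGroup p ↥P) (L : Subgroup G) (hL : Cfsg.IsComponent L) (x : G) (hx : x ∈ (((Cfsg.layer (↥(Subgroup.normalizer ((P : Subgroup G) : Set G)) ⧸ Cfsg.pPrimeCore p ↥(Subgroup.normalizer ((P : Subgroup G) : Set G)))).comap (QuotientGroup.mk' (Cfsg.pPrimeCore p ↥(Subgroup.normalizer ((P : Subgroup G) : Set G))))).map (Subgroup.normalizer ((P : Subgroup G) : Set G)).subtype)) : L.map (MulAut.conj x).toMonoidHom = L := by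
  have hker : (QuotientGroup.mk' (Cfsg.pPrimeCore p ↥(Subgroup.normalizer (P : Set G)))).ker =
      Cfsg.pPrimeCore p ↥(Subgroup.normalizer (P : Set G)) := QuotientGroup.ker_mk' _
  have hcomap : (Cfsg.layer (↥(Subgroup.normalizer (P : Set G)) ⧸
      Cfsg.pPrimeCore p ↥(Subgroup.normalizer (P : Set G)))).comap
        (QuotientGroup.mk' (Cfsg.pPrimeCore p ↥(Subgroup.normalizer (P : Set G)))) ≤
      Cfsg.pLayer p ↥(Subgroup.normalizer (P : Set G)) ⊔
        Cfsg.pPrimeCore p ↥(Subgroup.normalizer (P : Set G)) := by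
    rw [← Cfsg.Agent.Local.pLayer_map_eq_layer, Subgroup.comap_map_eq]
    exact sup_le_sup le_rfl hker.le
  refine Subgroup.mem_normalizer_iff_map_conj_eq.1 ?_
  refine Cfsg.Agent.Local.le_compNormalizer_iff.1 ?_ L hL hx
  refine (Subgroup.map_mono hcomap).trans ?_
  rw [Subgroup.map_sup, sup_le_iff]
  constructor
  · rw [Subgroup.map_le_iff_le_comap]
    refine sSup_le fun K hK => ?_
    rw [← Subgroup.map_le_iff_le_comap]
    exact Cfsg.Agent.Local.pComponent_local_le_compNormalizer hO hP hK
  · set D := (Cfsg.pPrimeCore p ↥(Subgroup.normalizer (P : Set G))).map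
      (Subgroup.normalizer (P : Set G)).subtype with hD
    haveI hPn : (P.subgroupOf (Subgroup.normalizer (P : Set G))).Normal := Subgroup.normal_in_normalizer
    have hPp : IsPGroup p ↥(P.subgroupOf (Subgroup.normalizer (P : Set G))) :=
      hP.comap_of_injective _ (Subgroup.subtype_injective _)
    have hDP : D ≤ Subgroup.centralizer (P : Set G) := by
      have h := congrArg (Subgroup.map (Subgroup.normalizer (P : Set G)).subtype)
        (Subgroup.commutator_eq_bot_iff_le_centralizer.2
          (Cfsg.Agent.Local.pPrimeCore_le_centralizer_of_isPGroup hPp))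
      rw [Subgroup.map_commutator, Subgroup.map_bot,
        Subgroup.map_subgroupOf_eq_of_le (Subgroup.le_normalizer (H := P))] at h
      exact Subgroup.commutator_eq_bot_iff_le_centralizer.1 h
    have hDQ : D ≤ Subgroup.centralizer (Cfsg.pCore p G : Set G) :=
      Cfsg.Agent.Local.le_centralizer_pCore_of_commute hP
        (O := Cfsg.pPrimeCore p ↥(Subgroup.normalizer (P : Set G))) le_sup_right le_rfl
        (Cfsg.Agent.Solv.card_pPrimeCore_coprime p _) fun R hR hRp => by
          haveI := hR
          exact Subgroup.commutator_eq_bot_iff_le_centralizer.2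
            (Cfsg.Agent.Local.pPrimeCore_le_centralizer_of_isPGroup hRp)
    have hDc : (Nat.card ↥D).Coprime p := by
      rw [hD, Cfsg.Agent.Solv.card_map_subtype]
      exact Cfsg.Agent.Solv.card_pPrimeCore_coprime p _
    have hDn : Subgroup.centralizer (P : Set G) ≤ Subgroup.normalizer (D : Set G) := by
      intro c hc
      haveI := Cfsg.Agent.Solv.pPrimeCore_characteristic p ↥(Subgroup.normalizer (P : Set G))
      exact Cfsg.Agent.Inv.normalizer_map_char _
        (Subgroup.le_normalizer (Subgroup.centralizer_le_normalizer _ hc))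
    exact Cfsg.Agent.Local.le_compNormalizer_iff.2 fun L' hL' d hd =>
      Cfsg.Agent.Local.LayerNorm.normalizes_component hO P D hP hDP hDn hDc hDQ hL' hd

end Cfsg.Agent.S1269
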