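import Cfsg.Statements.S1273
import Cfsg.Agent.Lib.Local.LayerLocal

set_option autoImplicit false
open Cfsg

namespace Cfsg.Agent.S1273

/-- Let K be a p-component of the finite group X and N a normal subgroup of K whose index in K is prime to p. Then N = K. -/
theorem result {X : Type*} [Group X] [Finite X] (p : ℕ) [Fact p.Prime] (K : Subgroup X) (hK : Cfsg.IsPComponent p K) (N : Subgroup ↥K) [N.Normal] (hidx : (N.index).Coprime p) : N = ⊤ := by
  by_contra hne
  set f := QuotientGroup.mk' (Cfsg.pPrimeCore p X)
  set g : ↥K →* ↥(K.map f) := f.subgroupMap K with hg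
  have hgs : Function.Surjective g := f.subgroupMap_surjective K
  haveI := Subgroup.Normal.map (inferInstance : N.Normal) g hgs
  rcases Cfsg.Agent.Local.qs_normal_le_center_or_eq_top hK.2.1.2 (N.map g) with e | e
  · have h1 : (Subgroup.center ↥(K.map f)).index ∣ N.index :=
      (Subgroup.index_dvd_of_le e).trans (Subgroup.index_map_dvd _ hgs)
    exact (Fact.out : p.Prime).coprime_iff_not_dvd.1 hidx.symm
      ((Cfsg.Agent.Local.component_index_center_not_coprime
        (Cfsg.Agent.Solv.pPrimeCore_quotient_pPrimeCore p) hK.2.1).trans h1)
  · have heq : (N.map K.subtype).map f = K.map f := by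
      rw [Subgroup.map_map, show f.comp K.subtype = (K.map f).subtype.comp g from rfl,
        ← Subgroup.map_map, e, ← MonoidHom.range_eq_map, Subgroup.range_subtype]
    have := hK.2.2 _ ((inferInstance : N.Normal).isSubnormal.trans' hK.1)
      (Subgroup.map_subtype_le _) heq
    apply hne
    apply Subgroup.map_injective K.subtype_injective
    rw [this, ← MonoidHom.range_eq_map, Subgroup.range_subtype]

end Cfsg.Agent.S1273
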