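import Cfsg.Statements.S1276
import Cfsg.Agent.Lib.Local.LayerLocal

set_option autoImplicit false
open Cfsg

namespace Cfsg.Agent.S1276

/-- Let K be a 2-component of the finite group X. Then K is quasisimple if and only if ⁅K, O(K)⁆ = 1. -/
theorem result {X : Type*} [Group X] [Finite X] (K : Subgroup X) (hK : Cfsg.IsPComponent 2 K) : Cfsg.IsQuasisimple ↥K ↔ ⁅K, ((Cfsg.oddCore ↥K).map K.subtype)⁆ = ⊥ := by
  haveI : Fact (Nat.Prime 2) := ⟨Nat.prime_two⟩
  have hKtop : K = (⊤ : Subgroup ↥K).map K.subtype := by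
    rw [← MonoidHom.range_eq_map, Subgroup.range_subtype]
  have hperf : ⁅(⊤ : Subgroup ↥K), (⊤ : Subgroup ↥K)⁆ = ⊤ := by
    refine Subgroup.map_injective K.subtype_injective ?_
    rw [Subgroup.map_commutator, ← hKtop]
    exact Cfsg.Agent.Local.pComponent_commutator_self hK
  have hcenter : ⁅K, (Cfsg.oddCore ↥K).map K.subtype⁆ = ⊥ ↔
      Cfsg.oddCore ↥K ≤ Subgroup.center ↥K := by
    conv_lhs => arg 1; arg 1; rw [hKtop]
    rw [← Subgroup.map_commutator, Subgroup.map_eq_bot_iff_of_injective _ K.subtype_injective,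
      Subgroup.commutator_comm, Subgroup.commutator_eq_bot_iff_le_centralizer, Subgroup.coe_top,
      Subgroup.centralizer_univ]
  have hq : Cfsg.IsQuasisimple (↥K ⧸ Cfsg.pPrimeCore 2 ↥K) :=
    Cfsg.Agent.Local.pComponent_quotient_qs hK
  rw [hcenter]
  constructor
  · intro h
    refine (Cfsg.Agent.Local.qs_normal_le_center_or_eq_top h (Cfsg.pPrimeCore 2 ↥K)).resolve_right
      fun e => ?_
    haveI := Cfsg.Agent.Local.qs_nontrivial hq
    exact not_subsingleton (↥K ⧸ Cfsg.pPrimeCore 2 ↥K) (QuotientGroup.subsingleton_iff.2 e)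
  · intro h
    exact Cfsg.Agent.Local.qs_of_central_quotient (Cfsg.pPrimeCore 2 ↥K) hperf h hq

end Cfsg.Agent.S1276
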