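import Cfsg.Statements.S1277
import Cfsg.Agent.Lib.Local.LayerLocal

set_option autoImplicit false
open Cfsg

namespace Cfsg.Agent.S1277

/-- For a finite group X with core O(X): the image of E(X) in X / O(X) is all of E(X / O(X)) if and only if every 2-component of X is a component, i.e. L_{2'}(X) ≤ E(X). -/
theorem result {X : Type*} [Group X] [Finite X] : (Cfsg.layer X).map (QuotientGroup.mk' (Cfsg.oddCore X)) = Cfsg.layer (X ⧸ Cfsg.oddCore X) ↔ Cfsg.pLayer 2 X ≤ Cfsg.layer X := by
  haveI : Fact (Nat.Prime 2) := ⟨Nat.prime_two⟩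
  set f := QuotientGroup.mk' (Cfsg.oddCore X) with hf
  constructor
  · intro h
    refine sSup_le fun K hK => ?_
    by_cases hex : ∃ L, Cfsg.IsComponent L ∧ L.map f = K.map f
    · obtain ⟨L, hL, e⟩ := hex
      have hLp : Cfsg.IsPComponent 2 L := by
        refine ⟨hL.1, ?_, fun H hH hle he => ?_⟩
        · rw [show L.map (QuotientGroup.mk' (Cfsg.pPrimeCore 2 X)) = K.map f from e]
          exact hK.2.1
        rcases Cfsg.Agent.Local.qs_subnormal_le_center_or_eq_top hL.2
          (hH.subgroupOf (K := L)) with e' | e'
        · exfalso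
          refine Cfsg.Agent.Local.component_ne_bot hK.2.1 ?_
          rw [← Cfsg.Agent.Local.component_eq_commutator hK.2.1]
          show ⁅K.map f, K.map f⁆ = ⊥
          rw [← e, ← show H.map f = L.map f from he, ← Subgroup.map_commutator]
          have : ⁅H, H⁆ = ⊥ := by
            rw [Subgroup.commutator_eq_bot_iff_le_centralizer]
            intro x hx y hy
            exact congrArg Subtype.val (Subgroup.mem_center_iff.1
              (e' (show (⟨x, hle hx⟩ : L) ∈ H.subgroupOf L from hx)) ⟨y, hle hy⟩)
          rw [this, Subgroup.map_bot]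
        · exact le_antisymm hle (Subgroup.subgroupOf_eq_top.1 e')
      rw [← Cfsg.Agent.Local.pComponent_eq_of_map_eq hLp hK e]
      exact le_sSup hL
    · exfalso
      refine Cfsg.Agent.Local.component_ne_bot hK.2.1 ?_
      rw [← Cfsg.Agent.Local.component_eq_commutator hK.2.1]
      show ⁅K.map f, K.map f⁆ = ⊥
      have h1 : K.map f ≤ (Cfsg.layer X).map f := by rw [h]; exact le_sSup hK.2.1
      have h2 : (Cfsg.layer X).map f ≤ Subgroup.centralizer (K.map f : Set (X ⧸ Cfsg.oddCore X)) := by
        rw [Subgroup.map_le_iff_le_comap]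
        refine sSup_le fun L hL => ?_
        rw [← Subgroup.map_le_iff_le_comap]
        rcases Cfsg.Agent.Local.component_map_mk hL (Cfsg.oddCore X) with e | e
        · rw [hf, e]; exact bot_le
        · rw [← Subgroup.commutator_eq_bot_iff_le_centralizer]
          exact Cfsg.Agent.Local.components_commute e hK.2.1 fun e' => hex ⟨L, hL, e'⟩
      rw [Subgroup.commutator_eq_bot_iff_le_centralizer]
      exact h1.trans h2
  · intro h
    refine le_antisymm ?_ ?_
    · rw [Subgroup.map_le_iff_le_comap]
      refine sSup_le fun L hL => ?_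
      rw [← Subgroup.map_le_iff_le_comap]
      rcases Cfsg.Agent.Local.component_map_mk hL (Cfsg.oddCore X) with e | e
      · rw [hf, e]; exact bot_le
      · exact le_sSup e
    · refine le_trans (ge_of_eq ?_) (Subgroup.map_mono h)
      exact Cfsg.Agent.Local.pLayer_map_eq_layer

end Cfsg.Agent.S1277
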