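import Cfsg.Statements.S1278
import Cfsg.Agent.Lib.Local.LayerLocal

set_option autoImplicit false
open Cfsg

namespace Cfsg.Agent.S1278

/-- Let K ≠ L be 2-components of the finite group X. Then ⁅K, L⁆ ≤ O(K) ⊓ O(L), and if K is quasisimple then ⁅K, L⁆ = 1. -/
theorem result {X : Type*} [Group X] [Finite X] (K L : Subgroup X) (hK : Cfsg.IsPComponent 2 K) (hL : Cfsg.IsPComponent 2 L) (hne : K ≠ L) : ⁅K, L⁆ ≤ ((Cfsg.oddCore ↥K).map K.subtype) ⊓ ((Cfsg.oddCore ↥L).map L.subtype) ∧ (Cfsg.IsQuasisimple ↥K → ⁅K, L⁆ = ⊥) := by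
  haveI : Fact (Nat.Prime 2) := ⟨Nat.prime_two⟩
  have hmain : ⁅K, L⁆ ≤ (Cfsg.oddCore ↥K).map K.subtype ⊓ (Cfsg.oddCore ↥L).map L.subtype := by
    have hO := Cfsg.Agent.Local.pComponents_commute_mod hK hL hne
    have hKn : L ≤ Subgroup.normalizer (K : Set X) :=
      (le_sSup (show L ∈ {K | Cfsg.IsPComponent 2 K} from hL)).trans (Cfsg.Agent.Local.pLayer_le_normalizer hK)
    have hLn : K ≤ Subgroup.normalizer (L : Set X) :=
      (le_sSup (show K ∈ {K | Cfsg.IsPComponent 2 K} from hK)).trans (Cfsg.Agent.Local.pLayer_le_normalizer hL)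
    refine le_inf ?_ ?_
    · exact (le_inf (Subgroup.le_normalizer_iff_commutator_le_left.1 hKn) hO).trans
        (Cfsg.Agent.Local.pPrimeCore_subtype_eq hK.1).ge
    · exact (le_inf (Subgroup.le_normalizer_iff_commutator_le_right.1 hLn) hO).trans
        (Cfsg.Agent.Local.pPrimeCore_subtype_eq hL.1).ge
  refine ⟨hmain, fun hq => ?_⟩
  have hz : Cfsg.oddCore ↥K ≤ Subgroup.center ↥K := by
    refine (Cfsg.Agent.Local.qs_normal_le_center_or_eq_top hq
      (Cfsg.pPrimeCore 2 ↥K)).resolve_right fun e => ?_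
    haveI := Cfsg.Agent.Local.qs_nontrivial (Cfsg.Agent.Local.pComponent_quotient_qs hK)
    exact not_subsingleton (↥K ⧸ Cfsg.pPrimeCore 2 ↥K) (QuotientGroup.subsingleton_iff.2 e)
  have h1 : ⁅⁅K, L⁆, K⁆ = ⊥ := by
    rw [Subgroup.commutator_eq_bot_iff_le_centralizer]
    intro x hx k hk
    obtain ⟨y, hy, rfl⟩ := (hmain hx).1
    exact congrArg Subtype.val (Subgroup.mem_center_iff.1 (hz hy) ⟨k, hk⟩)
  have h2 : ⁅⁅L, K⁆, K⁆ = ⊥ := by rwa [Subgroup.commutator_comm L K]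
  have h3 := Subgroup.commutator_commutator_eq_bot_of_rotate h1 h2
  rwa [Cfsg.Agent.Local.pComponent_commutator_self hK] at h3

end Cfsg.Agent.S1278
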