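import Cfsg.Statements.S1279
import Cfsg.Agent.Lib.Local.ComponentBalance
import Cfsg.Agent.Lib.Local.Balance

set_option autoImplicit false
open Cfsg

namespace Cfsg.Agent.S1279

/-- Let A be a noncyclic elementary abelian p-subgroup of the finite group G such that C_G(a) is solvable for every non-identity a ∈ A. Then a ↦ O_{p'}(C_G(a)) is a solvable A-signalizer functor on G. -/
theorem result {G : Type*} [Group G] [Finite G] (p : ℕ) [Fact p.Prime] (A : Subgroup G) (hA : Cfsg.IsElementaryAbelian p A) (hA2 : p ^ 2 ≤ Nat.card ↥A) (hsolv : ∀ a ∈ A, a ≠ 1 → Group.IsSolvable ↥(Subgroup.centralizer ({a} : Set G))) : Cfsg.IsSolvableSignalizerFunctor p A (fun a => Cfsg.centralizerPPrimeCore p a) := by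
  have hord : ∀ a ∈ A, a ≠ 1 → orderOf a = p := fun a ha h1 => orderOf_eq_prime (hA.2 a ha) h1
  haveI := hA.1
  have hcomm : ∀ a ∈ A, ∀ b ∈ A, a * b = b * a := fun a ha b hb =>
    congrArg Subtype.val (mul_comm' (⟨a, ha⟩ : A) ⟨b, hb⟩)
  refine ⟨⟨fun a _ _ => Cfsg.Agent.Local.centralizerPPrimeCore_le_centralizer (p := p) a,
    fun a _ _ => (Fact.out : p.Prime).coprime_iff_not_dvd.1
      (Cfsg.Agent.Local.card_centralizerPPrimeCore_coprime (p := p) a).symm,
    fun a ha _ b hb x hx => ?_, fun a ha ha1 b hb hb1 => ?_⟩, fun a ha ha1 => ?_⟩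
  · exact (Subgroup.mem_normalizer_iff.1
      (Cfsg.Agent.Local.centralizer_le_normalizer_centralizerPPrimeCore (p := p) a
        (Subgroup.mem_centralizer_singleton_iff.2 (hcomm b hb a ha))) x).1 hx
  · exact Cfsg.Agent.Local.balance_solvable a b
      (Cfsg.Agent.Local.isPGroup_zpowers (hord a ha ha1)) (hcomm a ha b hb) (hsolv b hb hb1)
  · exact Cfsg.Agent.Solv.isSolvable_of_le
      (Cfsg.Agent.Local.centralizerPPrimeCore_le_centralizer (p := p) a) (hsolv a ha ha1)

end Cfsg.Agent.S1279
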