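import Cfsg.Statements.S1280
import Cfsg.Agent.Lib.Solv.Coprime

set_option autoImplicit false
open Cfsg
open scoped Pointwise

namespace Cfsg.Agent.S1280

/-- Let θ be a solvable A-signalizer functor (A a noncyclic elementary abelian p-subgroup of the finite group G), and X, Y members of its family with Y ≤ N_G(X). Then X ⊔ Y (= XY) is again in the family. -/
theorem result {G : Type*} [Group G] [Finite G] (p : ℕ) [Fact p.Prime] (A : Subgroup G) (hA : Cfsg.IsElementaryAbelian p A) (hA2 : p ^ 2 ≤ Nat.card ↥A) (θ : G → Subgroup G) (hθ : Cfsg.IsSolvableSignalizerFunctor p A θ) (X Y : Subgroup G) (hX : X ∈ Cfsg.signalizerFamily p A θ) (hY : Y ∈ Cfsg.signalizerFamily p A θ) (hn : Y ≤ Subgroup.normalizer (X : Set G)) : X ⊔ Y ∈ Cfsg.signalizerFamily p A θ := by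
  obtain ⟨hXs, hXp, hXA, hXc⟩ := hX
  obtain ⟨hYs, hYp, hYA, hYc⟩ := hY
  set K := X ⊔ Y with hK
  have hmul : (K : Set G) = (X : Set G) * (Y : Set G) := Subgroup.coe_mul_of_right_le_normalizer_left X Y hn
  have hXYd : ∀ k ∈ K, ∃ x ∈ X, ∃ y ∈ Y, k = x * y := fun k hk => by
    have hk' : k ∈ (K : Set G) := hk
    rw [hmul] at hk'
    obtain ⟨x, hx, y, hy, e⟩ := hk'
    exact ⟨x, hx, y, hy, e.symm⟩
  haveI : (X.subgroupOf K).Normal :=
    Subgroup.normal_subgroupOf_of_le_normalizer (sup_le Subgroup.le_normalizer hn)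
  let f : Y →* K ⧸ X.subgroupOf K := (QuotientGroup.mk' _).comp (Subgroup.inclusion (le_sup_right : Y ≤ K))
  have hf : Function.Surjective f := by
    intro q
    obtain ⟨k, rfl⟩ := QuotientGroup.mk'_surjective _ q
    obtain ⟨x, hx, y, hy, e⟩ := hXYd k k.2
    refine ⟨⟨y, hy⟩, QuotientGroup.eq.2 ?_⟩
    rw [Subgroup.mem_subgroupOf]
    show (y : G)⁻¹ * (k : G) ∈ X
    rw [e]
    have := (Subgroup.mem_normalizer_iff.1 (inv_mem (hn hy)) x).1 hx
    simpa [mul_assoc] using this
  haveI : Group.IsSolvable (K ⧸ X.subgroupOf K) := by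
    haveI := hYs; exact Group.isSolvable_of_surjective hf
  haveI : Group.IsSolvable (X.subgroupOf K) := by
    haveI := hXs
    exact Group.isSolvable_of_surjective (f := (Subgroup.subgroupOfEquivOfLe (le_sup_left : X ≤ K)).symm.toMonoidHom)
      (MulEquiv.surjective _)
  have hKs : Group.IsSolvable K := Group.isSolvable_of_ker_le_range (X.subgroupOf K).subtype (QuotientGroup.mk' (X.subgroupOf K)) (by simp)
  have hKp : ¬ p ∣ Nat.card K := by
    intro h
    rw [Subgroup.card_eq_card_quotient_mul_card_subgroup (X.subgroupOf K),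
      Nat.card_congr (Subgroup.subgroupOfEquivOfLe (le_sup_left : X ≤ K)).toEquiv] at h
    rcases (Fact.out : p.Prime).dvd_mul.1 h with h | h
    · exact hYp (h.trans (Subgroup.card_dvd_of_surjective f hf))
    · exact hXp h
  have hAX : A ≤ Subgroup.normalizer (X : Set G) := Cfsg.Agent.Solv.le_normalizer_of_conj_mem hXA
  have hAY : A ≤ Subgroup.normalizer (Y : Set G) := Cfsg.Agent.Solv.le_normalizer_of_conj_mem hYA
  have hAK : A ≤ Subgroup.normalizer (K : Set G) := Cfsg.Agent.Solv.le_normalizer_of_conj_mem fun b hb k hk => by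
    obtain ⟨x, hx, y, hy, rfl⟩ := hXYd k hk
    rw [show b * (x * y) * b⁻¹ = b * x * b⁻¹ * (b * y * b⁻¹) by group]
    exact mul_mem (Subgroup.mem_sup_left (hXA b hb x hx)) (Subgroup.mem_sup_right (hYA b hb y hy))
  refine ⟨hKs, hKp, fun b hb k hk => (Subgroup.mem_normalizer_iff.1 (hAK hb) k).1 hk, fun a ha ha1 k hk => ?_⟩
  have haA : Subgroup.zpowers a ≤ A := Subgroup.zpowers_le.2 ha
  have hcop : (Nat.card (Subgroup.zpowers a)).Coprime (Nat.card K) := by
    rw [Nat.card_zpowers, orderOf_eq_prime (hA.2 a ha) ha1]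
    exact (Fact.out : p.Prime).coprime_iff_not_dvd.2 hKp
  have hk' : k ∈ K ⊓ Subgroup.centralizer ((Subgroup.zpowers a : Subgroup G) : Set G) := by
    refine ⟨hk.1, ?_⟩
    rintro _ ⟨i, rfl⟩
    exact (Commute.zpow_left (Subgroup.mem_centralizer_singleton_iff.1 hk.2).symm i).eq
  obtain ⟨x, hx, y, hy, rfl⟩ := Cfsg.Agent.Solv.centralizer_mul_eq (Subgroup.zpowers a) K
    (haA.trans hAK) hcop (Or.inr hKs) X Y le_sup_left le_sup_right (haA.trans hAX) (haA.trans hAY) hXYd k hk'
  exact mul_mem (hXc a ha ha1 ⟨hx.1, Subgroup.centralizer_le (Set.singleton_subset_iff.2 (Subgroup.mem_zpowers a)) hx.2⟩)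
    (hYc a ha ha1 ⟨hy.1, Subgroup.centralizer_le (Set.singleton_subset_iff.2 (Subgroup.mem_zpowers a)) hy.2⟩)

end Cfsg.Agent.S1280
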