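import Cfsg.Statements.S1281
import Cfsg.Agent.Lib.Solv.Coprime

set_option autoImplicit false
open Cfsg

namespace Cfsg.Agent.S1281

/-- Let θ be a solvable A-signalizer functor on the finite group G (A a noncyclic elementary abelian p-subgroup) and N a normal subgroup of order prime to p. Then for all non-identity a, b ∈ A, the image of θ a in G / N meets the centralizer of the image of b inside the image of θ b. -/
theorem result {G : Type*} [Group G] [Finite G] (p : ℕ) [Fact p.Prime] (A : Subgroup G) (hA : Cfsg.IsElementaryAbelian p A) (hA2 : p ^ 2 ≤ Nat.card ↥A) (θ : G → Subgroup G) (hθ : Cfsg.IsSolvableSignalizerFunctor p A θ) (N : Subgroup G) [N.Normal] (hN : ¬ p ∣ Nat.card ↥N) (a b : G) (ha : a ∈ A) (ha1 : a ≠ 1) (hb : b ∈ A) (hb1 : b ≠ 1) : (θ a).map (QuotientGroup.mk' N) ⊓ Subgroup.centralizer {QuotientGroup.mk' N b} ≤ (θ b).map (QuotientGroup.mk' N) := by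
  rintro _ ⟨⟨x, hx, rfl⟩, hxb⟩
  have hB : Subgroup.zpowers b ≤ Subgroup.normalizer (θ a : Set G) :=
    Subgroup.zpowers_le.2 ((Cfsg.Agent.Solv.le_normalizer_of_conj_mem
      (fun c hc => hθ.1.2.2.1 a ha ha1 c hc) : A ≤ Subgroup.normalizer (θ a : Set G)) hb)
  have hcop : (Nat.card (Subgroup.zpowers b)).Coprime (Nat.card (θ a)) := by
    rw [Nat.card_zpowers, orderOf_eq_prime (hA.2 b hb) hb1]
    exact (Fact.out : p.Prime).coprime_iff_not_dvd.2 (hθ.1.2.1 a ha ha1)
  obtain ⟨c, hc, hcn⟩ := Cfsg.Agent.Solv.exists_centralizer_lift (Subgroup.zpowers b) (θ a) hB hcop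
    (Or.inr (hθ.2 a ha ha1)) (θ a ⊓ N) inf_le_left
    (Cfsg.Agent.Solv.le_normalizer_inf Subgroup.le_normalizer
      (by rw [Subgroup.normalizer_eq_top]; exact le_top))
    (Cfsg.Agent.Solv.le_normalizer_inf hB (by rw [Subgroup.normalizer_eq_top]; exact le_top))
    x hx (by
      rintro _ ⟨i, rfl⟩
      refine ⟨(θ a).mul_mem ((Subgroup.mem_normalizer_iff.1 (hB ⟨i, rfl⟩) x).1 hx) ((θ a).inv_mem hx), ?_⟩
      show b ^ i * x * (b ^ i)⁻¹ * x⁻¹ ∈ N
      rw [← QuotientGroup.eq_one_iff (N := N)]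
      show QuotientGroup.mk' N (b ^ i * x * (b ^ i)⁻¹ * x⁻¹) = 1
      rw [map_mul, map_mul, map_mul, map_inv, map_inv, map_zpow]
      have h : Commute (QuotientGroup.mk' N b) (QuotientGroup.mk' N x) :=
        (Subgroup.mem_centralizer_singleton_iff.1 hxb).symm
      rw [(h.zpow_left i).eq, mul_inv_cancel_right, mul_inv_cancel])
  refine ⟨c, hθ.1.2.2.2 a ha ha1 b hb hb1 ⟨hc.1, ?_⟩, ?_⟩
  · exact Subgroup.centralizer_le (Set.singleton_subset_iff.2 (Subgroup.mem_zpowers b)) hc.2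
  · exact (QuotientGroup.eq.2 hcn.2).symm

end Cfsg.Agent.S1281
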