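import Cfsg.Statements.S1286
import Mathlib.GroupTheory.Perm.Fin

set_option autoImplicit false
open Cfsg

namespace Cfsg.Agent.S1286

/-- There exist a finite group X, an elementary abelian subgroup A of order 4 and a solvable A-signalizer functor θ on X for the prime 2 which is not complete. -/
theorem result : ∃ (X : Type) (_ : Group X) (_ : Finite X) (A : Subgroup X) (θ : X → Subgroup X), Cfsg.IsElementaryAbelian 2 A ∧ Nat.card ↥A = 4 ∧ Cfsg.IsSolvableSignalizerFunctor 2 A θ ∧ ¬ Cfsg.IsCompleteSignalizerFunctor 2 A θ := by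
  classical
  let a : Equiv.Perm (Fin 5) := Equiv.swap 0 1
  let b : Equiv.Perm (Fin 5) := Equiv.swap 2 3
  let c : Equiv.Perm (Fin 5) := Equiv.swap 2 4 * Equiv.swap 2 3
  let d : Equiv.Perm (Fin 5) := Equiv.swap 0 4 * Equiv.swap 0 1
  have h4 : ∀ x y : Equiv.Perm (Fin 5), (x = 1 ∨ x = a ∨ x = b ∨ x = a * b) →
      (y = 1 ∨ y = a ∨ y = b ∨ y = a * b) →
      (x * y = 1 ∨ x * y = a ∨ x * y = b ∨ x * y = a * b) ∧ x * y = y * x ∧ x⁻¹ = x := by
    intro x y hx hy
    rcases hx with rfl | rfl | rfl | rfl <;> rcases hy with rfl | rfl | rfl | rfl <;> decide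
  let A : Subgroup (Equiv.Perm (Fin 5)) :=
    { carrier := {x | x = 1 ∨ x = a ∨ x = b ∨ x = a * b}
      one_mem' := Or.inl rfl
      mul_mem' := fun {x y} hx hy => (h4 x y hx hy).1
      inv_mem' := fun {x} hx => by
        show x⁻¹ = 1 ∨ x⁻¹ = a ∨ x⁻¹ = b ∨ x⁻¹ = a * b
        rw [(h4 x x hx hx).2.2]
        exact hx }
  let θ : Equiv.Perm (Fin 5) → Subgroup (Equiv.Perm (Fin 5)) := fun x =>
    if x = a then Subgroup.zpowers c else if x = b then Subgroup.zpowers d else ⊥
  have hab : b ≠ a := by decide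
  have habA : a * b ≠ a ∧ a * b ≠ b := by decide
  have θa : θ a = Subgroup.zpowers c := if_pos rfl
  have θb : θ b = Subgroup.zpowers d := (if_neg hab).trans (if_pos rfl)
  have θab : θ (a * b) = ⊥ := (if_neg habA.1).trans (if_neg habA.2)
  have h3c : ∀ x, x ∈ Subgroup.zpowers c → x = 1 ∨ x = c ∨ x = c * c := by
    have ho : orderOf c = 3 := orderOf_eq_prime (by decide) (by decide)
    intro x hx
    rw [mem_zpowers_iff_mem_range_orderOf, ho] at hx
    simp [Finset.range_add_one, pow_two] at hx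
    tauto
  have h3d : ∀ x, x ∈ Subgroup.zpowers d → x = 1 ∨ x = d ∨ x = d * d := by
    have ho : orderOf d = 3 := orderOf_eq_prime (by decide) (by decide)
    intro x hx
    rw [mem_zpowers_iff_mem_range_orderOf, ho] at hx
    simp [Finset.range_add_one, pow_two] at hx
    tauto
  have hz : ∀ g : Equiv.Perm (Fin 5), g ^ 3 = 1 → g ≠ 1 → ¬ 2 ∣ Nat.card (Subgroup.zpowers g) := by
    intro g h1 h2
    rw [Nat.card_zpowers, orderOf_eq_prime h1 h2]
    decide
  have hnd : ∀ x, ¬ 2 ∣ Nat.card (θ x) := by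
    intro x
    show ¬ 2 ∣ Nat.card (if x = a then Subgroup.zpowers c else if x = b then Subgroup.zpowers d else ⊥ : Subgroup _)
    split_ifs
    · exact hz c (by decide) (by decide)
    · exact hz d (by decide) (by decide)
    · simp
  have hsolv : ∀ x, Group.IsSolvable (θ x) := by
    intro x
    have h : θ x = Subgroup.zpowers c ∨ θ x = Subgroup.zpowers d ∨ θ x = ⊥ := by
      by_cases h1 : x = a
      · exact Or.inl (if_pos h1)
      by_cases h2 : x = b
      · exact Or.inr (Or.inl ((if_neg h1).trans (if_pos h2)))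
      · exact Or.inr (Or.inr ((if_neg h1).trans (if_neg h2)))
    rcases h with e | e | e <;> rw [e]
    · exact Group.isSolvable_of_comm fun u v => mul_comm' u v
    · exact Group.isSolvable_of_comm fun u v => mul_comm' u v
    · exact Group.isSolvable_of_comm fun u v => Subtype.ext (by
        rw [Subgroup.coe_mul, Subgroup.coe_mul, Subgroup.mem_bot.1 u.2, Subgroup.mem_bot.1 v.2])
  refine ⟨Equiv.Perm (Fin 5), inferInstance, inferInstance, A, θ,
    ⟨⟨⟨fun u v => Subtype.ext (h4 u v u.2 v.2).2.1⟩⟩, fun x hx => ?_⟩, ?_,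
    ⟨⟨?_, fun x _ _ => hnd x, ?_, ?_⟩, fun x _ _ => hsolv x⟩, ?_⟩
  · rcases (hx : x = 1 ∨ x = a ∨ x = b ∨ x = a * b) with rfl | rfl | rfl | rfl <;> decide
  · let F : Finset (Equiv.Perm (Fin 5)) := {1, a, b, a * b}
    have h : (A : Set (Equiv.Perm (Fin 5))) = (F : Set (Equiv.Perm (Fin 5))) := by
      ext x
      simp [F, A]
    show Nat.card (A : Set (Equiv.Perm (Fin 5))) = 4
    rw [h, Nat.card_coe_set_eq, Set.ncard_coe_finset]
    decide
  · intro x hx hx1
    rcases (hx : x = 1 ∨ x = a ∨ x = b ∨ x = a * b) with rfl | rfl | rfl | rfl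
    · exact absurd rfl hx1
    · rw [θa, Subgroup.zpowers_le, Subgroup.mem_centralizer_singleton_iff]; decide
    · rw [θb, Subgroup.zpowers_le, Subgroup.mem_centralizer_singleton_iff]; decide
    · rw [θab]; exact bot_le
  · intro x hx hx1 y hy u hu
    rcases (hx : x = 1 ∨ x = a ∨ x = b ∨ x = a * b) with rfl | rfl | rfl | rfl
    · exact absurd rfl hx1
    · rw [θa] at hu ⊢
      obtain ⟨i, rfl⟩ := hu
      show y * c ^ i * y⁻¹ ∈ _
      rw [← conj_zpow]
      refine zpow_mem ?_ i
      rcases (hy : y = 1 ∨ y = a ∨ y = b ∨ y = a * b) with rfl | rfl | rfl | rfl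
      · exact ⟨1, by decide⟩
      · exact ⟨1, by decide⟩
      · exact ⟨-1, by decide⟩
      · exact ⟨-1, by decide⟩
    · rw [θb] at hu ⊢
      obtain ⟨i, rfl⟩ := hu
      show y * d ^ i * y⁻¹ ∈ _
      rw [← conj_zpow]
      refine zpow_mem ?_ i
      rcases (hy : y = 1 ∨ y = a ∨ y = b ∨ y = a * b) with rfl | rfl | rfl | rfl
      · exact ⟨1, by decide⟩
      · exact ⟨-1, by decide⟩
      · exact ⟨1, by decide⟩
      · exact ⟨-1, by decide⟩
    · rw [θab, Subgroup.mem_bot] at hu
      rw [hu, mul_one, mul_inv_cancel]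
      exact one_mem _
  · intro x hx hx1 y hy hy1 u hu
    rcases eq_or_ne x y with rfl | hxy
    · exact hu.1
    have h1 : u = 1 := by
      obtain ⟨hu1, hu2⟩ := hu
      have hu2' : u * y = y * u := Subgroup.mem_centralizer_singleton_iff.1 hu2
      rcases (hx : x = 1 ∨ x = a ∨ x = b ∨ x = a * b) with rfl | rfl | rfl | rfl
      · exact absurd rfl hx1
      · rw [θa] at hu1
        rcases h3c u hu1 with rfl | rfl | rfl <;>
          rcases (hy : y = 1 ∨ y = a ∨ y = b ∨ y = a * b) with rfl | rfl | rfl | rfl <;>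
          first | rfl | exact absurd rfl hy1 | exact absurd rfl hxy | exact absurd hu2' (by decide)
      · rw [θb] at hu1
        rcases h3d u hu1 with rfl | rfl | rfl <;>
          rcases (hy : y = 1 ∨ y = a ∨ y = b ∨ y = a * b) with rfl | rfl | rfl | rfl <;>
          first | rfl | exact absurd rfl hy1 | exact absurd rfl hxy | exact absurd hu2' (by decide)
      · rw [θab] at hu1
        exact hu1
    rw [h1]
    exact one_mem _
  · rintro ⟨-, W, -, hW, hWθ⟩
    have hcW : c ∈ W := by
      have h := hWθ a (Or.inr (Or.inl rfl)) (by decide)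
      have : c ∈ θ a := θa ▸ Subgroup.mem_zpowers c
      rw [← h] at this
      exact this.1
    have hdW : d ∈ W := by
      have h := hWθ b (Or.inr (Or.inr (Or.inl rfl))) (by decide)
      have : d ∈ θ b := θb ▸ Subgroup.mem_zpowers d
      rw [← h] at this
      exact this.1
    have hm : c * d * c * d⁻¹ ∈ W := mul_mem (mul_mem (mul_mem hcW hdW) hcW) (inv_mem hdW)
    refine hW ?_
    have ho : orderOf (c * d * c * d⁻¹) = 2 := orderOf_eq_prime (by decide) (by decide)
    rw [← ho]
    exact W.orderOf_dvd_natCard hm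

end Cfsg.Agent.S1286
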