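import Cfsg.Statements.S1288
import Cfsg.Agent.Lib.Local.KSignalizer
import Cfsg.Agent.Lib.Solv.PSolvable

set_option autoImplicit false
open Cfsg
open scoped commutatorElement

namespace Cfsg.Agent.S1288

/-- Let A be a noncyclic elementary abelian p-subgroup of a finite group H normalizing a solvable subgroup K of order prime to p, q a prime dividing |K|, and U ≤ K a subgroup of order prime to q such that ⁅U, C_K(B)⁆ has order prime to q for every subgroup B of index p in A. Then U ≤ O_{q'}(K). -/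
theorem result {H : Type*} [Group H] [Finite H] (p : ℕ) [Fact p.Prime] (A K : Subgroup H) (hA : Cfsg.IsElementaryAbelian p A) (hA2 : p ^ 2 ≤ Nat.card ↥A) (hK : ¬ p ∣ Nat.card ↥K) (hKs : Group.IsSolvable ↥K) (hAK : A ≤ Subgroup.normalizer (K : Set H)) (q : ℕ) [Fact q.Prime] (hqK : q ∣ Nat.card ↥K) (U : Subgroup H) (hU : U ≤ K) (hUq : ¬ q ∣ Nat.card ↥U) (hcomm : ∀ B : Subgroup H, B ≤ A → B.relIndex A = p → ¬ q ∣ Nat.card ↥⁅U, K ⊓ Subgroup.centralizer (B : Set H)⁆) : U ≤ (Cfsg.pPrimeCore q ↥K).map K.subtype := by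
  haveI := hKs
  haveI := hA.1
  haveI : Group.IsSolvable A := Group.isSolvable_of_comm fun a b => mul_comm' a b
  set N := Cfsg.pPrimeCore q ↥K with hN
  set f := QuotientGroup.mk' N with hf
  haveI : Group.IsSolvable (↥K ⧸ N) :=
    Group.isSolvable_of_surjective (f := f) (QuotientGroup.mk'_surjective N)
  set P := Cfsg.pCore q (↥K ⧸ N) with hP
  have hC : Subgroup.centralizer (P : Set (↥K ⧸ N)) ≤ P :=
    Cfsg.Agent.Solv.centralizer_pCore_le_of_isSolvable (Cfsg.Agent.Solv.pPrimeCore_quotient_pPrimeCore q)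
  set P2 := Cfsg.pPrimePCore q ↥K with hP2
  haveI := Cfsg.Agent.Solv.pPrimeCore_characteristic q ↥K
  haveI := Cfsg.Agent.Solv.pCore_characteristic q (↥K ⧸ N)
  haveI hP2c : P2.Characteristic := Subgroup.characteristic_iff_comap_eq.2 fun φ => by
    let ψ : (↥K ⧸ N) ≃* (↥K ⧸ N) := QuotientGroup.congr N N φ
      (Subgroup.characteristic_iff_map_eq.1 inferInstance φ)
    show (P.comap f).comap φ.toMonoidHom = P.comap f
    rw [Subgroup.comap_comap, show f.comp φ.toMonoidHom = ψ.toMonoidHom.comp f from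
      MonoidHom.ext fun x => rfl, ← Subgroup.comap_comap,
      Subgroup.characteristic_iff_comap_eq.1 inferInstance ψ]
  set P3 : Subgroup H := P2.map K.subtype with hP3
  have hP3K : P3 ≤ K := Subgroup.map_subtype_le _
  have hAP3 : A ≤ Subgroup.normalizer (P3 : Set H) :=
    Cfsg.Agent.Struct.CoprimeMinimal.le_normalizer_map_char A K hAK _
  obtain ⟨k, hk⟩ := (Cfsg.Agent.Local.KSig.isPGroup_of_elementary hA).exists_card_eq
  have hcop : (Nat.card A).Coprime (Nat.card P3) := by
    rw [hk]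
    exact Nat.Coprime.pow_left _ ((Fact.out : p.Prime).coprime_iff_not_dvd.2
      fun h => hK (h.trans (Subgroup.card_dvd_of_le hP3K)))
  obtain ⟨R, hR⟩ := Cfsg.Agent.Solv.exists_invariant_sylow A P3 hAP3 hcop (Or.inl inferInstance) q
  set R' := (R : Subgroup P3).map P3.subtype with hR'
  have hR'3 : R' ≤ P3 := Subgroup.map_subtype_le _
  have hR'K : R' ≤ K := hR'3.trans hP3K
  -- `R'` covers `P`
  have hcover : P ≤ (R'.subgroupOf K).map f := by
    intro y hy
    have hsur : Function.Surjective (f.subgroupComap P) :=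
      MonoidHom.subgroupComap_surjective_of_surjective f _ (QuotientGroup.mk'_surjective N)
    let e : P3 ≃* P2 := (Subgroup.equivMapOfInjective P2 K.subtype K.subtype_injective).symm
    let R2 : Sylow q P2 := R.mapSurjective (f := e.toMonoidHom) e.surjective
    have hR2 : ((R2.mapSurjective hsur : Sylow q P) : Subgroup P) = ⊤ :=
      top_le_iff.1 ((R2.mapSurjective hsur).is_maximal'
        ((Cfsg.Agent.Solv.isPGroup_pCore q _).to_subgroup ⊤) le_top).le
    obtain ⟨z, ⟨r, hr, rfl⟩, hzy⟩ := hR2.ge (Subgroup.mem_top (⟨y, hy⟩ : P))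
    refine ⟨(e r : P2), ?_, congrArg Subtype.val hzy⟩
    show (((e r : P2) : K) : H) ∈ R'
    refine ⟨r, hr, ?_⟩
    have h5 := congrArg Subtype.val (e.symm_apply_apply r)
    exact h5.symm
  have hkey : ∀ u (hu : u ∈ U), f ⟨u, hU hu⟩ ∈ Subgroup.centralizer (P : Set (↥K ⧸ N)) := by
    intro u hu
    have hgen := Cfsg.Agent.S1324.result p A R' hA hA2
      (fun h => hK (h.trans (Subgroup.card_dvd_of_le hR'K))) hR
    set S : Subgroup H := ((Subgroup.centralizer ({f ⟨u, hU hu⟩} : Set (↥K ⧸ N))).comap f).map K.subtype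
    have hRS : R' ≤ S := by
      rw [hgen]
      refine iSup_le fun B => ?_
      obtain ⟨B', hB'B, hB'A, hB'i⟩ : ∃ B' : Subgroup H, B' ≤ (B : Subgroup H) ∧ B' ≤ A ∧ B'.relIndex A = p := by
        have hApg := Cfsg.Agent.Local.KSig.isPGroup_of_elementary hA
        obtain ⟨j, hj, hi⟩ := (Nat.dvd_prime_pow (Fact.out : p.Prime)).1
          (hk ▸ Subgroup.relIndex_dvd_card (B : Subgroup H) A)
        rcases Nat.eq_zero_or_pos j with h0 | h0
        · rw [h0, pow_zero, Subgroup.relIndex_eq_one] at hi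
          have hk2 : 2 ≤ k := (Nat.pow_le_pow_iff_right (Fact.out : p.Prime).one_lt).1 (hk ▸ hA2)
          obtain ⟨D, hD⟩ := Sylow.exists_subgroup_card_pow_prime (G := A) p (n := k - 1)
            (hk ▸ pow_dvd_pow p (Nat.sub_le k 1))
          refine ⟨D.map A.subtype, (Subgroup.map_subtype_le D).trans hi, Subgroup.map_subtype_le D, ?_⟩
          show ((D.map A.subtype).comap A.subtype).index = p
          rw [Subgroup.comap_map_eq_self_of_injective A.subtype_injective]
          have := D.card_mul_index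
          rw [hD, hk, show p ^ k = p ^ (k - 1) * p by rw [← pow_succ]; congr 1; omega] at this
          exact Nat.eq_of_mul_eq_mul_left (pow_pos (Fact.out : p.Prime).pos _) this
        · refine ⟨B, le_rfl, B.2.1, ?_⟩
          have h2 := B.2.2
          rw [hi] at h2 ⊢
          conv at h2 => rhs; rw [← pow_one p]
          rw [Nat.le_antisymm ((Nat.pow_le_pow_iff_right (Fact.out : p.Prime).one_lt).1 h2) h0, pow_one]
      intro r hr
      refine ⟨⟨r, hR'K hr.1⟩, ?_, rfl⟩
      show f ⟨r, hR'K hr.1⟩ ∈ Subgroup.centralizer {f ⟨u, hU hu⟩}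
      rw [Subgroup.mem_centralizer_singleton_iff, ← commutatorElement_eq_one_iff_mul_comm]
      have hrP : f ⟨r, hR'K hr.1⟩ ∈ P := by
        obtain ⟨r2, hr2, e⟩ := hR'3 hr.1
        rw [show (⟨r, hR'K hr.1⟩ : K) = r2 from Subtype.ext e.symm]
        exact hr2
      have hmem : ⁅f ⟨r, hR'K hr.1⟩, f ⟨u, hU hu⟩⁆ ∈ P := by
        rw [commutatorElement_def, mul_assoc, mul_assoc]
        refine P.mul_mem hrP ?_
        rw [← mul_assoc]
        exact (inferInstance : P.Normal).conj_mem _ (P.inv_mem hrP) _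
      obtain ⟨i, hi⟩ := IsPGroup.iff_orderOf.1 (Cfsg.Agent.Solv.isPGroup_pCore q _) ⟨_, hmem⟩
      rw [← Subgroup.orderOf_coe] at hi
      have hdvd : orderOf ⁅f ⟨r, hR'K hr.1⟩, f ⟨u, hU hu⟩⁆ ∣
          Nat.card ↥⁅U, K ⊓ Subgroup.centralizer (B' : Set H)⁆ := by
        rw [← map_commutatorElement]
        refine (orderOf_map_dvd f _).trans ?_
        rw [← Subgroup.orderOf_coe]
        refine Subgroup.orderOf_dvd_natCard _ ?_
        rw [← Subgroup.commutator_comm]
        exact Subgroup.commutator_mem_commutator (⟨hR'K hr.1, Subgroup.centralizer_le hB'B hr.2⟩ :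
          r ∈ K ⊓ Subgroup.centralizer (B' : Set H)) hu
      rw [← orderOf_eq_one_iff]
      rw [show orderOf ⁅f ⟨r, hR'K hr.1⟩, f ⟨u, hU hu⟩⁆ = q ^ i from hi] at hdvd ⊢
      rcases Nat.eq_zero_or_pos i with h0 | h0
      · rw [h0, pow_zero]
      · exact absurd ((dvd_pow_self q h0.ne').trans hdvd) (hcomm B' hB'A hB'i)
    intro y hy
    obtain ⟨r, hr, rfl⟩ := hcover hy
    obtain ⟨r', hr', e⟩ := hRS hr
    rw [show r' = r from Subtype.ext e] at hr'
    exact Subgroup.mem_centralizer_singleton_iff.1 hr'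
  intro u hu
  refine ⟨⟨u, hU hu⟩, ?_, rfl⟩
  have hmemP := hC (hkey u hu)
  rw [SetLike.mem_coe, ← QuotientGroup.eq_one_iff, ← orderOf_eq_one_iff]
  obtain ⟨i, hi⟩ := IsPGroup.iff_orderOf.1 (Cfsg.Agent.Solv.isPGroup_pCore q _) ⟨_, hmemP⟩
  rw [← Subgroup.orderOf_coe] at hi
  have hi' : orderOf (f ⟨u, hU hu⟩) = q ^ i := hi
  have h : orderOf (f ⟨u, hU hu⟩) ∣ Nat.card U := by
    refine (orderOf_map_dvd f _).trans ?_
    rw [← Subgroup.orderOf_coe]
    exact Subgroup.orderOf_dvd_natCard _ hu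
  rw [hi'] at h
  show orderOf (f ⟨u, hU hu⟩) = 1
  rw [hi']
  rcases Nat.eq_zero_or_pos i with h0 | h0
  · rw [h0, pow_zero]
  · exact absurd ((dvd_pow_self q h0.ne').trans h) hUq

end Cfsg.Agent.S1288
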