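import Cfsg.Statements.S1292
import Cfsg.Agent.Lib.Local.QuotientLocal

set_option autoImplicit false
open Cfsg

namespace Cfsg.Agent.S1292

/-- Let G be a finite group such that F*(C_G(t)) = O_2(C_G(t)) for every involution t. Then F*(N_G(T)) = O_2(N_G(T)) for every nontrivial 2-subgroup T of G. -/
theorem result {G : Type*} [Group G] [Finite G] (h : ∀ t : G, orderOf t = 2 → Cfsg.generalizedFittingSubgroup ↥(Subgroup.centralizer ({t} : Set G)) = Cfsg.pCore 2 ↥(Subgroup.centralizer ({t} : Set G))) (T : Subgroup G) (hT : IsPGroup 2 ↥T) (hT1 : T ≠ ⊥) : Cfsg.generalizedFittingSubgroup ↥(Subgroup.normalizer (T : Set G)) = Cfsg.pCore 2 ↥(Subgroup.normalizer (T : Set G)) := by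
  haveI : Fact (Nat.Prime 2) := ⟨Nat.prime_two⟩
  haveI : Nontrivial ↥T := (Subgroup.nontrivial_iff_ne_bot T).2 hT1
  haveI := hT.center_nontrivial
  obtain ⟨z, hz⟩ := exists_prime_orderOf_dvd_card' (G := ↥(Subgroup.center ↥T)) 2 (by
    obtain ⟨k, hk, hk'⟩ := (hT.to_subgroup (Subgroup.center ↥T)).nontrivial_iff_card.1 inferInstance
    rw [hk']
    exact dvd_pow_self 2 hk.ne')
  have ht : orderOf ((z : ↥T) : G) = 2 := by rw [Subgroup.orderOf_coe, Subgroup.orderOf_coe, hz]
  have htT : ((z : ↥T) : G) ∈ T := (z : ↥T).2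
  have htc : ((z : ↥T) : G) ∈ Subgroup.centralizer (T : Set G) := fun u hu =>
    congrArg Subtype.val (Subgroup.mem_center_iff.1 z.2 ⟨u, hu⟩)
  revert ht htT htc
  generalize ((z : ↥T) : G) = t
  intro ht htT htc
  set N := Subgroup.normalizer (T : Set G) with hN
  set D := Subgroup.centralizer ({t} : Set G) with hD
  have hTD : T ≤ D := fun u hu =>
    Subgroup.mem_centralizer_singleton_iff.2 (htc u hu)
  have hTN : T ≤ N := Subgroup.le_normalizer
  set TD := T.subgroupOf D with hTD'
  have hTDp : IsPGroup 2 ↥TD := hT.comap_of_injective _ D.subtype_injective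
  have hloc := Cfsg.Agent.Local.generalizedFitting_eq_pCore_iff.1
    (Cfsg.Agent.Local.fstar_normalizer_eq_pCore (h t ht) hTDp)
  let φ : ↥(Subgroup.normalizer (TD : Set ↥D)) →* ↥N :=
    (D.subtype.comp (Subgroup.normalizer (TD : Set ↥D)).subtype).codRestrict N fun x => by
      rw [hN, Subgroup.mem_normalizer_iff]
      intro w
      constructor
      · intro hw
        exact (Subgroup.mem_normalizer_iff.1 x.2 ⟨w, hTD hw⟩).1 hw
      · intro hw
        have := (Subgroup.mem_normalizer_iff.1 (inv_mem x.2) ⟨_, hTD hw⟩).1 hw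
        simpa [TD, Subgroup.mem_subgroupOf, mul_assoc] using this
  have hφi : Function.Injective φ := fun a b e =>
    Subtype.ext (Subtype.ext (congrArg (fun w : ↥N => (w : G)) e))
  have hsub : ∀ R : Subgroup ↥N, R ≤ Subgroup.centralizer (T.subgroupOf N : Set ↥N) →
      R ≤ φ.range := by
    intro R hR r hr
    have hrt : (r : G) ∈ D := by
      refine Subgroup.mem_centralizer_singleton_iff.2 ?_
      exact (congrArg Subtype.val (hR hr ⟨t, hTN htT⟩ htT)).symm
    refine ⟨⟨⟨r, hrt⟩, ?_⟩, rfl⟩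
    rw [Subgroup.mem_normalizer_iff]
    intro u
    exact Subgroup.mem_normalizer_iff.1 r.2 (u : G)
  haveI hTNn : (T.subgroupOf N).Normal := Subgroup.normal_in_normalizer
  have hTNp : IsPGroup 2 ↥(T.subgroupOf N) := hT.comap_of_injective _ N.subtype_injective
  refine Cfsg.Agent.Local.generalizedFitting_eq_pCore_iff.2 ⟨?_, ?_⟩
  · rw [eq_bot_iff]
    refine sSup_le fun K hK => ?_
    exfalso
    have hKc : K ≤ Subgroup.centralizer (T.subgroupOf N : Set ↥N) :=
      (le_sSup hK : K ≤ Cfsg.layer ↥N).trans (Subgroup.commutator_eq_bot_iff_le_centralizer.1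
        (Cfsg.Agent.Local.layer_commutator_pGroup _ hTNp))
    have hmap : (K.comap φ).map φ = K := Subgroup.map_comap_eq_self (hsub K hKc)
    have hc : Cfsg.IsComponent (K.comap φ) := ⟨hK.1.comap φ, Cfsg.Agent.Local.qs_congr hK.2
      (((K.comap φ).equivMapOfInjective φ hφi).trans (MulEquiv.subgroupCongr hmap)).symm⟩
    exact Cfsg.Agent.Local.component_ne_bot hc (le_bot_iff.1
      ((le_sSup (show K.comap φ ∈ {L | Cfsg.IsComponent L} from hc)).trans hloc.1.le))
  · have hR := hsub _ (Cfsg.Agent.Local.pPrimeCore_le_centralizer_of_isPGroup hTNp)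
    rw [← Subgroup.map_comap_eq_self hR, Subgroup.map_eq_bot_iff_of_injective _ hφi, eq_bot_iff,
      ← hloc.2]
    haveI := Cfsg.Agent.Solv.pPrimeCore_characteristic 2 ↥N
    exact Cfsg.Agent.Solv.le_pPrimeCore ((Cfsg.Agent.Solv.card_pPrimeCore_coprime 2 ↥N).coprime_dvd_left
      (Subgroup.card_comap_dvd_of_injective _ φ hφi))

end Cfsg.Agent.S1292
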