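import Cfsg.Statements.S1297
import Cfsg.Agent.Lib.Local.LocalBalance

set_option autoImplicit false
open Cfsg

namespace Cfsg.Agent.S1297

/-- Let G be finite. Suppose that for every involution x, writing C = C_G(x), every component K of C / O(C) has K / Z(K) locally balanced. Then G is balanced. -/
theorem result {G : Type*} [Group G] [Finite G] (h : ∀ x : G, orderOf x = 2 → ∀ K : Subgroup (↥(Subgroup.centralizer ({x} : Set G)) ⧸ Cfsg.oddCore ↥(Subgroup.centralizer ({x} : Set G))), Cfsg.IsComponent K → Cfsg.IsLocallyBalanced (↥K ⧸ Subgroup.center ↥K)) : Cfsg.IsBalanced G := by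
  haveI : Fact (Nat.Prime 2) := ⟨Nat.prime_two⟩
  have hk : Cfsg.IsKBalanced 2 1 G := Cfsg.Agent.Local.isKBalanced_of_locally le_rfl
    fun x hx K hK H hH A hA hcard => by
      obtain ⟨a, ha⟩ := exists_prime_orderOf_dvd_card' (G := ↥A) 2 (by rw [hcard]; norm_num)
      have ha' : orderOf (a : ↥H) = 2 := by rw [Subgroup.orderOf_coe]; exact ha
      have hne : (a : ↥H) ≠ 1 := fun e => by simp [e] at ha'
      rw [eq_bot_iff, ← h x hx K hK H hH (a : ↥H) ha']
      exact iInf_le (fun c : {c : ↥H // c ∈ A ∧ c ≠ 1} => Cfsg.centralizerPPrimeCore 2 (c : ↥H))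
        ⟨(a : ↥H), a.2, hne⟩
  intro x y hx hy hxy
  have key : ∀ x y : G, orderOf x = 2 → orderOf y = 2 → x * y = y * x →
      Cfsg.centralizerPPrimeCore 2 x ⊓ Subgroup.centralizer {y} ≤
        Cfsg.centralizerPPrimeCore 2 y ⊓ Subgroup.centralizer {x} := by
    intro x y hx hy hxy z hz
    refine ⟨?_, Subgroup.map_subtype_le _ hz.1⟩
    refine hk (Subgroup.zpowers x) ⟨⟨⟨?_⟩⟩, ?_⟩ (by rw [Nat.card_zpowers, hx, pow_one]) y hy ?_
      ⟨?_, hz.2⟩
    · rintro ⟨a, i, rfl⟩ ⟨b, j, rfl⟩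
      exact Subtype.ext (by rw [Subgroup.coe_mul, Subgroup.coe_mul]; exact (Commute.refl x).zpow_zpow i j)
    · rintro a ⟨i, rfl⟩
      show (x ^ i) ^ 2 = 1
      rw [← zpow_natCast, ← zpow_mul, mul_comm, zpow_mul, zpow_natCast, ← hx, pow_orderOf_eq_one,
        one_zpow]
    · rintro a ⟨i, rfl⟩
      exact Commute.zpow_left hxy i
    · show z ∈ Cfsg.signalizerDelta 2 (Subgroup.zpowers x)
      rw [Cfsg.signalizerDelta, Subgroup.mem_iInf]
      rintro ⟨a, ha, hne⟩
      obtain ⟨i, rfl⟩ := Subgroup.mem_zpowers_iff.1 ha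
      have e : x ^ i = x := by
        rw [← zpow_mod_orderOf, hx] at hne ⊢
        rcases Int.emod_two_eq i with h' | h'
        · simp [h'] at hne
        · simp [h']
      show z ∈ Cfsg.centralizerPPrimeCore 2 (x ^ i)
      rw [e]
      exact hz.1
  exact le_antisymm (key x y hx hy hxy) (key y x hy hx hxy.symm)

end Cfsg.Agent.S1297
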