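import Cfsg.Statements.S1299
import Cfsg.Agent.Lib.Local.KSignalizer
import Cfsg.Agent.Lib.Local.ComponentBalance

set_option autoImplicit false
open Cfsg

namespace Cfsg.Agent.S1299

/-- Let G be finite and k-balanced for the prime p (k ≥ 1), A an elementary abelian p-subgroup of order at least p^(k+2) such that O_{p'}(C_G(a)) is solvable for every non-identity a ∈ A. For a ∈ A put θ a = the subgroup generated by the Δ_G(D) ∩ C_G(a) over the subgroups D ≤ A of order p^k. Then θ is an A-signalizer functor. -/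
theorem result {G : Type*} [Group G] [Finite G] (p k : ℕ) [Fact p.Prime] (hk : 1 ≤ k) (hbal : Cfsg.IsKBalanced p k G) (A : Subgroup G) (hA : Cfsg.IsElementaryAbelian p A) (hAk : p ^ (k + 2) ≤ Nat.card ↥A) (hsolv : ∀ a ∈ A, a ≠ 1 → Group.IsSolvable ↥(Cfsg.centralizerPPrimeCore p a)) : Cfsg.IsSignalizerFunctor p A (fun a => ⨆ D : {D : Subgroup G // D ≤ A ∧ Nat.card ↥D = p ^ k}, Cfsg.signalizerDelta p (D : Subgroup G) ⊓ Subgroup.centralizer {a}) := by
  haveI := hA.1
  set φ : G → Cfsg.Agent.Local.KSig.Sub p k A → Subgroup G := fun a D =>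
    Cfsg.signalizerDelta p (D : Subgroup G) ⊓ Subgroup.centralizer {a} with hφ
  have hcomm : ∀ a ∈ A, ∀ b ∈ A, a * b = b * a := fun a ha b hb =>
    congrArg Subtype.val (mul_comm' (⟨a, ha⟩ : A) ⟨b, hb⟩)
  have hord : ∀ a ∈ A, a ≠ 1 → orderOf a = p := fun a ha h1 =>
    orderOf_eq_prime (hA.2 a ha) h1
  have hDel : ∀ (D : Cfsg.Agent.Local.KSig.Sub p k A) (b : G), b ∈ A → b ≠ 1 →
      φ b D ≤ Cfsg.centralizerPPrimeCore p b := fun D b hb hb1 =>
    hbal (D : Subgroup G) ⟨⟨⟨fun x y => Subtype.ext (hcomm x (D.2.1 x.2) y (D.2.1 y.2))⟩⟩,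
      fun x hx => hA.2 x (D.2.1 hx)⟩ D.2.2 b (hord b hb hb1)
      fun x hx => hcomm x (D.2.1 hx) b hb
  have hle : ∀ a ∈ A, a ≠ 1 → (⨆ D, φ a D) ≤ Cfsg.centralizerPPrimeCore p a := fun a ha ha1 =>
    iSup_le fun D => hDel D a ha ha1
  have hndvd : ∀ a : G, ¬ p ∣ Nat.card (Cfsg.centralizerPPrimeCore p a) := fun a =>
    (Fact.out : p.Prime).coprime_iff_not_dvd.1
      (Cfsg.Agent.Local.card_centralizerPPrimeCore_coprime (p := p) a).symm
  have hcen : ∀ (D : Cfsg.Agent.Local.KSig.Sub p k A), ∀ x ∈ Cfsg.signalizerDelta p (D : Subgroup G),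
      x ∈ Subgroup.centralizer ((D : Subgroup G) : Set G) := by
    intro D x hx d hd
    rcases eq_or_ne d 1 with rfl | hd1
    · rw [one_mul, mul_one]
    have h := Subgroup.mem_iInf.1 hx ⟨d, hd, hd1⟩
    exact (Subgroup.mem_centralizer_singleton_iff.1
      (Cfsg.Agent.Local.centralizerPPrimeCore_le_centralizer (p := p) d h)).symm
  have hinvA : ∀ a ∈ A, ∀ (D : Cfsg.Agent.Local.KSig.Sub p k A), A ≤ Subgroup.normalizer (φ a D : Set G) := by
    intro a ha D
    refine Cfsg.Agent.Solv.le_normalizer_of_conj_mem fun b hb x hx => ⟨?_, ?_⟩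
    · refine Subgroup.mem_iInf.2 fun d => ?_
      have h := Subgroup.mem_iInf.1 hx.1 d
      exact (Subgroup.mem_normalizer_iff.1 (Cfsg.Agent.Local.centralizer_le_normalizer_centralizerPPrimeCore
        (p := p) (d : G) (Subgroup.mem_centralizer_singleton_iff.2 (hcomm b hb _ (D.2.1 d.2.1)))) x).1 h
    · exact Subgroup.mul_mem _ (Subgroup.mul_mem _ (Subgroup.mem_centralizer_singleton_iff.2
        (hcomm b hb a ha)) hx.2) (Subgroup.inv_mem _ (Subgroup.mem_centralizer_singleton_iff.2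
        (hcomm b hb a ha)))
  refine ⟨fun a ha ha1 => iSup_le fun D => inf_le_right, fun a ha ha1 h => hndvd a (h.trans
    (Subgroup.card_dvd_of_le (hle a ha ha1))), fun a ha ha1 b hb x hx => ?_, fun a ha ha1 b hb hb1 => ?_⟩
  · have h : (⨆ D, φ a D) ≤ (⨆ D, φ a D).comap (MulAut.conj b).toMonoidHom := iSup_le fun D y hy =>
      show b * y * b⁻¹ ∈ _ from le_iSup (φ a) D ((Subgroup.mem_normalizer_iff.1 (hinvA a ha D hb) y).1 hy)
    exact h hx
  show (⨆ D, φ a D) ⊓ Subgroup.centralizer {b} ≤ ⨆ D, φ b D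
  set X := (⨆ D, φ a D) ⊓ Subgroup.centralizer {b} with hX
  have hcompl : ∀ F : Cfsg.Agent.Local.KSig.Sub p k A, (⨆ D, φ a D) ⊓
      Subgroup.centralizer ((F : Subgroup G) : Set G) ≤ φ a F := by
    refine Cfsg.Agent.Local.KSig.iSup_inf_centralizer_le hA hAk _ (hsolv a ha ha1) (hndvd a) (φ a)
      (fun D => hDel D a ha ha1) (fun D x hx => hcen D x hx.1) (hinvA a ha) ?_
    intro D F x hx
    refine ⟨Subgroup.mem_iInf.2 fun d => ?_, hx.1.2⟩
    exact hDel D d (F.2.1 d.2.1) d.2.2 ⟨hx.1.1,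
      Subgroup.mem_centralizer_singleton_iff.2 (hx.2 _ d.2.1).symm⟩
  have hXA : A ≤ Subgroup.normalizer (X : Set G) := by
    refine Cfsg.Agent.Solv.le_normalizer_inf (Cfsg.Agent.Solv.le_normalizer_of_conj_mem
      fun c hc x hx => ?_) ((fun c hc => Subgroup.mem_centralizer_singleton_iff.2
        (hcomm c hc b hb)) |> fun h => (show A ≤ Subgroup.centralizer {b} from h).trans
        Subgroup.le_normalizer)
    have h : (⨆ D, φ a D) ≤ (⨆ D, φ a D).comap (MulAut.conj c).toMonoidHom := iSup_le fun D y hy =>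
      show c * y * c⁻¹ ∈ _ from le_iSup (φ a) D ((Subgroup.mem_normalizer_iff.1 (hinvA a ha D hc) y).1 hy)
    exact h hx
  have hgen := Cfsg.Agent.S1324.result p A X hA (Cfsg.Agent.Local.KSig.two_le_of hAk)
    (fun h => hndvd a (h.trans (Subgroup.card_dvd_of_le (inf_le_left.trans (hle a ha ha1))))) hXA
  rw [hgen]
  refine iSup_le fun E => ?_
  obtain ⟨F, hF⟩ := Cfsg.Agent.Local.KSig.exists_sub_le k hA E.2.1
    (dvd_trans (pow_dvd_pow p (Nat.le_succ k)) (Cfsg.Agent.Local.KSig.pow_dvd_card_of_relIndex_le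
      (n := k + 1) (j := 1) hA E.2.1 hAk (by rw [pow_one]; exact E.2.2)))
  intro x hx
  exact le_iSup (φ b) F ⟨(hcompl F ⟨hx.1.1, Subgroup.centralizer_le hF hx.2⟩).1, hx.1.2⟩

end Cfsg.Agent.S1299
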