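import Cfsg.Statements.S1300
import Cfsg.Agent.Lib.Local.LayerLocal

set_option autoImplicit false
open Cfsg

namespace Cfsg.Agent.S1300

/-- For a finite group G, balance in the sense of commuting involutions is the same as 1-balance for the prime 2. -/
theorem result {G : Type*} [Group G] [Finite G] : Cfsg.IsBalanced G ↔ Cfsg.IsKBalanced 2 1 G := by
  constructor
  · intro hbal A hA hc b hb hcomm x hx
    haveI : Fact (Nat.Prime 2) := ⟨Nat.prime_two⟩
    obtain ⟨a, ha⟩ := exists_prime_orderOf_dvd_card' (G := A) 2 (by rw [hc]; norm_num)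
    have ha' : orderOf (a : G) = 2 := by rw [Subgroup.orderOf_coe]; exact ha
    have hane : (a : G) ≠ 1 := fun e => by simp [e] at ha'
    have h1 : x ∈ Cfsg.centralizerPPrimeCore 2 (a : G) :=
      (iInf_le (fun a : {a : G // a ∈ A ∧ a ≠ 1} => Cfsg.centralizerPPrimeCore 2 (a : G))
        ⟨(a : G), a.2, hane⟩ :) hx.1
    exact ((hbal (a : G) b ha' hb (hcomm _ a.2)).le ⟨h1, hx.2⟩).1
  · intro hk x y hx hy hxy
    have key : ∀ x y : G, orderOf x = 2 → orderOf y = 2 → x * y = y * x →
        Cfsg.centralizerPPrimeCore 2 x ⊓ Subgroup.centralizer {y} ≤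
          Cfsg.centralizerPPrimeCore 2 y ⊓ Subgroup.centralizer {x} := by
      intro x y hx hy hxy z hz
      refine ⟨?_, Subgroup.map_subtype_le _ hz.1⟩
      refine hk (Subgroup.zpowers x) ⟨⟨⟨?_⟩⟩, ?_⟩ (by rw [Nat.card_zpowers, hx, pow_one]) y hy ?_
        ⟨?_, hz.2⟩
      · rintro ⟨a, i, rfl⟩ ⟨b, j, rfl⟩
        exact Subtype.ext (by rw [Subgroup.coe_mul, Subgroup.coe_mul]; exact (Commute.refl x).zpow_zpow i j)
      · rintro a ⟨i, rfl⟩
        show (x ^ i) ^ 2 = 1
        rw [← zpow_natCast, ← zpow_mul, mul_comm, zpow_mul, zpow_natCast, ← hx, pow_orderOf_eq_one,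
          one_zpow]
      · rintro a ⟨i, rfl⟩
        exact Commute.zpow_left hxy i
      · show z ∈ Cfsg.signalizerDelta 2 (Subgroup.zpowers x)
        rw [Cfsg.signalizerDelta, Subgroup.mem_iInf]
        rintro ⟨a, ha, hne⟩
        obtain ⟨i, rfl⟩ := Subgroup.mem_zpowers_iff.1 ha
        have e : x ^ i = x := by
          rw [← zpow_mod_orderOf, hx] at hne ⊢
          rcases Int.emod_two_eq i with h | h
          · simp [h] at hne
          · simp [h]
        show z ∈ Cfsg.centralizerPPrimeCore 2 (x ^ i)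
        rw [e]
        exact hz.1
    exact le_antisymm (key x y hx hy hxy) (key y x hy hx hxy.symm)

end Cfsg.Agent.S1300
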