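import Cfsg.Statements.S1302
import Cfsg.Agent.Lib.Local.OrderPFix
import Cfsg.Agent.Lib.Local.QuotientLocal
import Cfsg.Agent.Lib.Local.ClassTwoFactorization

set_option autoImplicit false
open Cfsg
open scoped commutatorElement

namespace Cfsg.Agent.S1302

/-- Let X be a finite p-constrained group, p an odd prime, and A an abelian p-subgroup of X containing every element of order p of C_X(A). Then every subgroup of X of order prime to p that is normalized by A lies in O_{p'}(X). -/
theorem result {X : Type*} [Group X] [Finite X] (p : ℕ) [Fact p.Prime] (hp : p ≠ 2) (hX : Cfsg.IsPConstrained p X) (A : Subgroup X) (hA : IsMulCommutative ↥A) (hAp : IsPGroup p ↥A) (hΩ : ∀ x ∈ Subgroup.centralizer (A : Set X), orderOf x = p → x ∈ A) (Q : Subgroup X) (hQ : ¬ p ∣ Nat.card ↥Q) (hAQ : A ≤ Subgroup.normalizer (Q : Set X)) : Q ≤ Cfsg.pPrimeCore p X := by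
  haveI := hA
  set O := Cfsg.pPrimeCore p X with hO
  have hOcop : (Nat.card O).Coprime p := Cfsg.Agent.Solv.card_pPrimeCore_coprime p X
  set f := QuotientGroup.mk' O with hf
  set P := Cfsg.pCore p (X ⧸ O) with hPdef
  haveI : P.Normal := by
    haveI := Cfsg.Agent.Solv.pCore_characteristic p (X ⧸ O)
    infer_instance
  have hPp : IsPGroup p P := Cfsg.Agent.Solv.isPGroup_pCore p _
  have hC : Subgroup.centralizer (P : Set (X ⧸ O)) ≤ P :=
    Cfsg.Agent.Local.ClassTwo.centralizer_pCore_le_of_isPConstrained hX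
  have hQc : (Nat.card (Q.map f)).Coprime p :=
    Nat.Coprime.coprime_dvd_left (Subgroup.card_map_dvd Q f)
      ((Fact.out : p.Prime).coprime_iff_not_dvd.2 hQ).symm
  have hAQ' : A.map f ≤ Subgroup.normalizer (Q.map f : Set (X ⧸ O)) :=
    (Subgroup.map_mono hAQ).trans (Subgroup.le_normalizer_map f)
  have hPQ : P ≤ Subgroup.centralizer ((Q.map f : Subgroup (X ⧸ O)) : Set (X ⧸ O)) := by
    refine Cfsg.Agent.Local.centralizes_of_fixed hp (A.map f) (Q.map f) (hAp.map f) hQc hAQ' P hPp
      (by rw [Subgroup.normalizer_eq_top]; exact le_top)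
      (by rw [Subgroup.normalizer_eq_top]; exact le_top) ?_
    intro y hyP hyA hyp
    -- `y` lies in the image of `A`
    rw [← Cfsg.Agent.Local.map_centralizer_eq hAp O hOcop] at hyA
    obtain ⟨c, hc, rfl⟩ := hyA
    have hcp : c ^ p ∈ O := by
      rw [← QuotientGroup.eq_one_iff, QuotientGroup.mk_pow]; exact hyp
    have hu : (c ^ Nat.card O) ^ p = 1 := by
      rw [← pow_mul, mul_comm, pow_mul]
      exact congrArg Subtype.val (pow_card_eq_one' (x := (⟨c ^ p, hcp⟩ : O)))
    have huA : c ^ Nat.card O ∈ A := by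
      rcases eq_or_ne (c ^ Nat.card O) 1 with h | h
      · rw [h]; exact one_mem A
      · exact hΩ _ (pow_mem hc _) (orderOf_eq_prime hu h)
    have hyA' : f c ∈ A.map f := by
      obtain ⟨k, hk⟩ := exists_pow_eq_self_of_coprime (x := f c) (n := Nat.card O)
        (hOcop.coprime_dvd_right (orderOf_dvd_of_pow_eq_one hyp))
      rw [← hk, ← map_pow]
      exact pow_mem (Subgroup.mem_map_of_mem f huA) k
    intro q hq
    have h1 : ⁅f c, q⁆ ∈ P := by
      rw [commutatorElement_def, mul_assoc (f c) q, mul_assoc (f c)]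
      exact P.mul_mem hyP (Subgroup.Normal.conj_mem inferInstance _ (P.inv_mem hyP) q)
    have h2 : ⁅f c, q⁆ ∈ Q.map f := by
      rw [commutatorElement_def]
      exact Subgroup.mul_mem _ ((Subgroup.mem_normalizer_iff.1 (hAQ' hyA') q).1 hq)
        (Subgroup.inv_mem _ hq)
    have h3 : ⁅f c, q⁆ ∈ P ⊓ Q.map f := ⟨h1, h2⟩
    rw [Cfsg.Agent.Solv.inf_eq_bot_of_isPGroup hPp hQc, Subgroup.mem_bot] at h3
    exact (commutatorElement_eq_one_iff_mul_comm.1 h3).symm
  have hQbot : Q.map f = ⊥ := by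
    have h : Q.map f ≤ P ⊓ Q.map f := le_inf ((Subgroup.le_centralizer_iff.1 hPQ).trans hC) le_rfl
    rw [Cfsg.Agent.Solv.inf_eq_bot_of_isPGroup hPp hQc] at h
    exact le_bot_iff.1 h
  rw [Subgroup.map_eq_bot_iff, QuotientGroup.ker_mk'] at hQbot
  exact hQbot

end Cfsg.Agent.S1302
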