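import Cfsg.Statements.S1303
import Mathlib
import Cfsg.Agent.Lib.Solv.Basic

set_option autoImplicit false
open Cfsg

namespace Cfsg.Agent.S1303

open Matrix

/-- Entries of a matrix of order two. -/
abbrev T := ZMod 3 × ZMod 3 × ZMod 3 × ZMod 3

/-- The product on entries. -/
def mm (x y : T) : T :=
  (x.1 * y.1 + x.2.1 * y.2.2.1, x.1 * y.2.1 + x.2.1 * y.2.2.2,
    x.2.2.1 * y.1 + x.2.2.2 * y.2.2.1, x.2.2.1 * y.2.1 + x.2.2.2 * y.2.2.2)

/-- The unit on entries. -/
def e1 : T := (1, 0, 0, 1)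

/-- The determinant on entries. -/
def dd (x : T) : ZMod 3 := x.1 * x.2.2.2 - x.2.1 * x.2.2.1

/-- The inverse on entries. -/
def iv (x : T) : T := (x.2.2.2, -x.2.1, -x.2.2.1, x.1)

/-- The fourth power is trivial. -/
def four (x : T) : Bool := decide (mm (mm x x) (mm x x) = e1)

theorem dec_closed : ∀ x : T, dd x = 1 → four x = true → ∀ y : T, dd y = 1 → four y = true → four (mm x y) = true := by
  decide +kernel

theorem dec_two : ∀ x : T, dd x = 1 → mm x x = e1 → decide (x = e1) || decide (x = iv (2, 0, 0, 2)) := by decide +kernel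

theorem dec_odd : ∀ x : T, dd x = 1 → mm (mm x x) x = e1 → x ≠ e1 →
    ∃ y : T, dd y = 1 ∧ mm (mm (mm (mm (mm x y) (iv x)) (iv y)) (mm (mm (mm x y) (iv x)) (iv y))) (mm (mm (mm x y) (iv x)) (iv y)) ≠ e1 := by
  decide +kernel

theorem dec_cent : ∀ x : T, dd x = 1 → mm x (0, 1, 2, 0) = mm (0, 1, 2, 0) x → mm x (1, 1, 1, 2) = mm (1, 1, 1, 2) x →
    four x = true := by decide +kernel

abbrev G := Matrix.SpecialLinearGroup (Fin 2) (ZMod 3)

/-- The entries of an element. -/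
def tp (g : G) : T := (g.1 0 0, g.1 0 1, g.1 1 0, g.1 1 1)

theorem tp_inj : Function.Injective tp := by
  intro g h e
  simp [tp, Prod.ext_iff] at e
  apply Subtype.ext
  ext i j
  fin_cases i <;> fin_cases j <;> simp_all

theorem tp_mul (g h : G) : tp (g * h) = mm (tp g) (tp h) := by
  simp [tp, mm, Matrix.SpecialLinearGroup.coe_mul, Matrix.mul_apply, Fin.sum_univ_two]

theorem tp_one : tp 1 = e1 := by simp [tp, e1]

theorem tp_det (g : G) : dd (tp g) = 1 := by
  have := g.2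
  rw [Matrix.det_fin_two] at this
  exact this

theorem tp_inv (g : G) : tp g⁻¹ = iv (tp g) := by
  simp [tp, iv, Matrix.SpecialLinearGroup.coe_inv, Matrix.adjugate_fin_two]

/-- An element from its entries. -/
def mk (x : T) (h : dd x = 1) : G := ⟨!![x.1, x.2.1; x.2.2.1, x.2.2.2], by rw [Matrix.det_fin_two]; simpa [dd] using h⟩

theorem tp_mk (x : T) (h : dd x = 1) : tp (mk x h) = x := by simp [tp, mk]

theorem four_iff (g : G) : four (tp g) = true ↔ g ^ 4 = 1 := by
  rw [four, decide_eq_true_iff, ← tp_mul, ← tp_mul, ← tp_one, tp_inj.eq_iff, ← pow_two, ← pow_two, ← pow_mul]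

/-- A first element of order four. -/
def gi : G := mk (0, 1, 2, 0) (by decide +kernel)

/-- A second element of order four. -/
def gj : G := mk (1, 1, 1, 2) (by decide +kernel)

theorem gi_mem : gi ^ 4 = 1 := (four_iff _).mp (by rw [gi, tp_mk]; decide +kernel)

theorem gj_mem : gj ^ 4 = 1 := (four_iff _).mp (by rw [gj, tp_mk]; decide +kernel)

/-- The quaternion subgroup. -/
def quat : Subgroup G where
  carrier := {g | g ^ 4 = 1}
  one_mem' := one_pow 4
  mul_mem' {a b} ha hb := by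
    simp only [Set.mem_ofPred_eq] at *
    rw [← four_iff] at ha hb ⊢
    rw [tp_mul]
    exact dec_closed _ (tp_det a) ha _ (tp_det b) hb
  inv_mem' {a} ha := by
    simp only [Set.mem_ofPred_eq] at *
    rw [inv_pow, ha, inv_one]

/-- The group X = SL(2, 3): it is 2-constrained, O_{2'}(X) = 1, its centre A = Z(X) contains every involution of X = C_X(A), and X has a subgroup of order 3 (normalized by A) not contained in O_{2'}(X). -/
theorem result : Cfsg.IsPConstrained 2 (Matrix.SpecialLinearGroup (Fin 2) (ZMod 3)) ∧ Cfsg.pPrimeCore 2 (Matrix.SpecialLinearGroup (Fin 2) (ZMod 3)) = ⊥ ∧ (∀ t : Matrix.SpecialLinearGroup (Fin 2) (ZMod 3), orderOf t = 2 → t ∈ Subgroup.center (Matrix.SpecialLinearGroup (Fin 2) (ZMod 3))) ∧ ∃ Q : Subgroup (Matrix.SpecialLinearGroup (Fin 2) (ZMod 3)), Nat.card ↥Q = 3 ∧ ¬ (Q ≤ Cfsg.pPrimeCore 2 (Matrix.SpecialLinearGroup (Fin 2) (ZMod 3))) := by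
  haveI : Fact (Nat.Prime 2) := ⟨Nat.prime_two⟩
  haveI : Fact (Nat.Prime 3) := ⟨Nat.prime_three⟩
  have hG : Nat.card G = 24 := by
    rw [Nat.card_eq_fintype_card]; decide +kernel
  have hcore : Cfsg.pPrimeCore 2 G = ⊥ := by
    refine (Subgroup.eq_bot_iff_forall _).mpr fun g hg => ?_
    by_contra hg1
    have hodd := Cfsg.Agent.Solv.card_pPrimeCore_coprime 2 G
    have hcube : ∀ x ∈ Cfsg.pPrimeCore 2 G, x ^ 3 = 1 := by
      intro x hx
      have h1 : orderOf x ∣ Nat.card ↥(Cfsg.pPrimeCore 2 G) := (Subgroup.orderOf_mk x hx) ▸ orderOf_dvd_natCard _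
      have h2 : orderOf x ∣ 2 ^ 3 * 3 := by rw [show 2 ^ 3 * 3 = 24 by norm_num, ← hG]; exact orderOf_dvd_natCard x
      exact orderOf_dvd_iff_pow_eq_one.mp
        ((Nat.Coprime.coprime_dvd_left h1 (hodd.pow_right 3)).dvd_of_dvd_mul_left h2)
    haveI : (Cfsg.pPrimeCore 2 G).Normal := inferInstance
    have h3 := hcube g hg
    obtain ⟨y, hy, hne⟩ := dec_odd (tp g) (tp_det g)
      (by rw [← tp_mul, ← tp_mul, ← tp_one]; congr 1; rw [← h3]; simp [pow_succ]) (fun h => hg1 (tp_inj (h.trans tp_one.symm)))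
    have hmem : g * mk y hy * g⁻¹ * (mk y hy)⁻¹ ∈ Cfsg.pPrimeCore 2 G := by
      have h4 := Subgroup.Normal.conj_mem ‹(Cfsg.pPrimeCore 2 G).Normal› _ (inv_mem hg) (mk y hy)
      simpa [mul_assoc] using mul_mem hg h4
    have h5 := congrArg tp (hcube _ hmem)
    rw [pow_succ, pow_two, tp_mul, tp_mul, tp_mul, tp_mul, tp_mul, tp_inv, tp_inv, tp_mk, tp_one] at h5
    exact hne h5
  refine ⟨?_, hcore, ?_, ?_⟩
  · intro P
    have hqn : quat.Normal := ⟨fun q hq g => by
      change (g * q * g⁻¹) ^ 4 = 1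
      rw [conj_pow, show q ^ 4 = 1 from hq, mul_one, mul_inv_cancel]⟩
    have hq2 : IsPGroup 2 ↥quat := fun q => ⟨2, Subtype.ext q.2⟩
    have hle : quat ≤ Cfsg.pPrimePCore 2 G := by
      intro q hq
      change (QuotientGroup.mk' (Cfsg.pPrimeCore 2 G)) q ∈ Cfsg.pCore 2 (G ⧸ Cfsg.pPrimeCore 2 G)
      haveI := hqn.map (QuotientGroup.mk' (Cfsg.pPrimeCore 2 G)) (QuotientGroup.mk'_surjective _)
      exact Cfsg.Agent.Solv.le_pCore (hq2.map _) ⟨q, hq, rfl⟩
    haveI hsub : (quat.subgroupOf (Cfsg.pPrimePCore 2 G)).Normal := hqn.subgroupOf _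
    have hP : quat ≤ (P : Subgroup ↥(Cfsg.pPrimePCore 2 G)).map (Cfsg.pPrimePCore 2 G).subtype := by
      obtain ⟨R, hR⟩ := (hq2.of_equiv (Subgroup.subgroupOfEquivOfLe hle).symm).exists_le_sylow
      obtain ⟨c, hc⟩ := MulAction.exists_smul_eq ↥(Cfsg.pPrimePCore 2 G) R P
      intro q hq
      refine ⟨⟨q, hle hq⟩, ?_, rfl⟩
      rw [← hc, SetLike.mem_coe, Sylow.coe_subgroup_smul, Subgroup.mem_pointwise_smul_iff_inv_smul_mem]
      apply hR
      simpa using hsub.conj_mem ⟨q, hle hq⟩ hq c⁻¹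
    intro x hx
    apply hle
    change x ^ 4 = 1
    rw [← four_iff]
    refine dec_cent _ (tp_det x) ?_ ?_
    · have h := congrArg tp (hx gi (hP (show gi ∈ quat from gi_mem)))
      rw [tp_mul, tp_mul, gi, tp_mk] at h
      exact h.symm
    · have h := congrArg tp (hx gj (hP (show gj ∈ quat from gj_mem)))
      rw [tp_mul, tp_mul, gj, tp_mk] at h
      exact h.symm
  · intro t ht
    have h1 := congrArg tp (pow_orderOf_eq_one t)
    rw [ht, pow_two, tp_mul, tp_one] at h1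
    rw [Subgroup.mem_center_iff]
    intro g
    apply tp_inj
    rw [tp_mul, tp_mul]
    rcases Bool.or_eq_true_iff.mp (dec_two _ (tp_det t) h1) with h | h <;> rw [of_decide_eq_true h] <;> simp [mm, e1, iv, mul_comm]
  · obtain ⟨Q, hQ⟩ := Sylow.exists_subgroup_card_pow_prime 3 (G := G) (n := 1) (by rw [hG]; norm_num)
    refine ⟨Q, by simpa using hQ, fun hle => ?_⟩
    rw [hcore, le_bot_iff] at hle
    rw [hle, Subgroup.card_bot] at hQ
    norm_num at hQ

end Cfsg.Agent.S1303
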