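import Cfsg.Statements.S1304
import Cfsg.Agent.Lib.Local.FStar

set_option autoImplicit false
open Cfsg
open scoped commutatorElement

namespace Cfsg.Agent.S1304

/-- Let X be a perfect group and α an automorphism of X with α(x) x⁻¹ central for every x. Then α is the identity. -/
theorem result {X : Type*} [Group X] (hperf : commutator X = ⊤) (α : X ≃* X) (h : ∀ x : X, α x * x⁻¹ ∈ Subgroup.center X) : ∀ x : X, α x = x := by
  intro x
  have key : commutator X ≤ MonoidHom.eqLocus α.toMonoidHom (MonoidHom.id X) := by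
    rw [commutator_def, Subgroup.commutator_le]
    intro a _ b _
    have hc : ∀ y : X, ∀ g : X, g * (α y * y⁻¹) = α y * y⁻¹ * g := fun y =>
      Subgroup.mem_center_iff.1 (h y)
    show α ⁅a, b⁆ = ⁅a, b⁆
    rw [map_commutatorElement]
    obtain ⟨c, hc', hα⟩ : ∃ c, (∀ g : X, g * c = c * g) ∧ α a = c * a :=
      ⟨_, hc a, (inv_mul_cancel_right _ _).symm⟩
    obtain ⟨d, hd', hβ⟩ : ∃ d, (∀ g : X, g * d = d * g) ∧ α b = d * b :=
      ⟨_, hc b, (inv_mul_cancel_right _ _).symm⟩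
    rw [hα, hβ]
    simp only [commutatorElement_def, mul_inv_rev]
    calc c * a * (d * b) * (a⁻¹ * c⁻¹) * (b⁻¹ * d⁻¹)
        = c * ((a * d) * b * a⁻¹) * c⁻¹ * b⁻¹ * d⁻¹ := by group
      _ = (a * d) * b * a⁻¹ * b⁻¹ * d⁻¹ := by rw [← hc', mul_inv_cancel_right]
      _ = d * (a * b * a⁻¹ * b⁻¹) * d⁻¹ := by rw [hd' a]; group
      _ = a * b * a⁻¹ * b⁻¹ := by rw [← hd', mul_inv_cancel_right]
  exact key (hperf ▸ Subgroup.mem_top x)

end Cfsg.Agent.S1304
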