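import Cfsg.Statements.S1305
import Cfsg.Agent.Lib.Local.ComponentPair

set_option autoImplicit false
open Cfsg
open scoped Pointwise

namespace Cfsg.Agent.S1305

/-- Let G be a finite group of component type with the B-property and no nontrivial normal subgroup of odd order. Let a be an involution and K a component of C_G(a) such that (a) |K| is maximal among the orders of components of centralizers of involutions of G, (b) subject to (a) the 2-rank of the centralizer of K in C_G(a) is as large as possible, and (c) K has 2-rank at least 2. If B is an elementary abelian 2-subgroup of that centralizer of the largest possible order, then K is a component of C_G(b) for every non-identity b ∈ B. -/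
theorem result {G : Type*} [Group G] [Finite G] (hO : Cfsg.oddCore G = ⊥) (hB : Cfsg.HasBProperty G) (hct : Cfsg.IsComponentType G) (a : G) (ha : orderOf a = 2) (K : Subgroup G) (hKa : K ≤ Subgroup.centralizer ({a} : Set G)) (hK : Cfsg.IsComponent (K.subgroupOf (Subgroup.centralizer ({a} : Set G)))) (hmax : ∀ y : G, orderOf y = 2 → ∀ K' : Subgroup G, K' ≤ Subgroup.centralizer ({y} : Set G) → Cfsg.IsComponent (K'.subgroupOf (Subgroup.centralizer ({y} : Set G))) → Nat.card ↥K' ≤ Nat.card ↥K ∧ (Nat.card ↥K' = Nat.card ↥K → ∀ k : ℕ, Cfsg.PRankLE 2 k ↥(Subgroup.centralizer ({a} : Set G) ⊓ Subgroup.centralizer (K : Set G)) → Cfsg.PRankLE 2 k ↥(Subgroup.centralizer ({y} : Set G) ⊓ Subgroup.centralizer (K' : Set G)))) (hrk : ¬ Cfsg.PRankLE 2 1 ↥K) (B : Subgroup G) (hBle : B ≤ Subgroup.centralizer ({a} : Set G) ⊓ Subgroup.centralizer (K : Set G)) (hBel : Cfsg.IsElementaryAbelian 2 B) (hBmax : ∀ B' : Subgroup G, B' ≤ Subgroup.centralizer ({a} : Set G) ⊓ Subgroup.centralizer (K : Set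 G) → Cfsg.IsElementaryAbelian 2 B' → Nat.card ↥B' ≤ Nat.card ↥B) (b : G) (hb : b ∈ B) (hb1 : b ≠ 1) : K ≤ Subgroup.centralizer ({b} : Set G) ∧ Cfsg.IsComponent (K.subgroupOf (Subgroup.centralizer ({b} : Set G))) := by
  classical
  haveI : Fact (Nat.Prime 2) := ⟨Nat.prime_two⟩
  obtain ⟨hBc, hBe⟩ := hBel
  have hKb : K ≤ Subgroup.centralizer ({b} : Set G) := fun k hk =>
    Subgroup.mem_centralizer_singleton_iff.2
      (Subgroup.mem_centralizer_iff.1 (hBle hb).2 k hk)
  refine ⟨hKb, ?_⟩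
  have hb2 : orderOf b = 2 := orderOf_eq_prime (hBe b hb) hb1
  have hBX : B ≤ Subgroup.centralizer ({b} : Set G) := fun c hc =>
    Subgroup.mem_centralizer_singleton_iff.2
      (congrArg Subtype.val (hBc.is_comm.comm (⟨c, hc⟩ : B) ⟨b, hb⟩))
  have hab : a * b = b * a := (Subgroup.mem_centralizer_singleton_iff.1 (hBle hb).1).symm
  -- `a` lies in `B`
  have haB : a ∈ B := by
    let J : Subgroup G := B ⊔ Subgroup.zpowers a
    have hcomm : ∀ c ∈ B, a * c = c * a := fun c hc =>
      (Subgroup.mem_centralizer_singleton_iff.1 (hBle hc).1).symm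
    have hdec : ∀ x ∈ J, ∃ c ∈ B, ∃ i : ℤ, x = c * a ^ i := by
      intro x hx
      have hn : Subgroup.zpowers a ≤ Subgroup.normalizer (B : Set G) := by
        rw [Subgroup.zpowers_le, Subgroup.mem_normalizer_iff]
        intro y
        constructor
        · intro hy
          rwa [hcomm y hy, mul_assoc, mul_inv_cancel, mul_one]
        · intro hy
          have h := hcomm _ hy
          have : y = a * y * a⁻¹ := by
            calc y = a⁻¹ * (a * y * a⁻¹ * a) := by group
              _ = a⁻¹ * (a * (a * y * a⁻¹)) := by rw [h]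
              _ = a * y * a⁻¹ := by group
          rwa [this]
      have h2 : x ∈ ((B : Set G) * (Subgroup.zpowers a : Set G)) := by
        rw [← Subgroup.coe_mul_of_right_le_normalizer_left B _ hn]; exact hx
      obtain ⟨c, hc, _, ⟨i, rfl⟩, e⟩ := h2
      exact ⟨c, hc, i, e.symm⟩
    have hJle : J ≤ Subgroup.centralizer ({a} : Set G) ⊓ Subgroup.centralizer (K : Set G) :=
      sup_le hBle (Subgroup.zpowers_le.2 ⟨Subgroup.mem_centralizer_singleton_iff.2 rfl,
        fun k hk => Subgroup.mem_centralizer_singleton_iff.1 (hKa hk)⟩)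
    have hci : ∀ c ∈ B, ∀ i : ℤ, a ^ i * c = c * a ^ i := fun c hc i =>
      ((show Commute a c from hcomm c hc).zpow_left i).eq
    have ha2 : ∀ i : ℤ, (a ^ i) ^ 2 = 1 := fun i => by
      rw [← zpow_natCast, ← zpow_mul, mul_comm, zpow_mul, zpow_natCast, ← ha, pow_orderOf_eq_one,
        one_zpow]
    have hJ : Cfsg.IsElementaryAbelian 2 J := by
      refine ⟨⟨⟨fun x y => Subtype.ext ?_⟩⟩, fun x hx => ?_⟩
      · obtain ⟨c, hc, i, e⟩ := hdec x x.2
        obtain ⟨c', hc', j, e'⟩ := hdec y y.2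
        show (x : G) * y = y * x
        rw [e, e']
        calc c * a ^ i * (c' * a ^ j) = c * (a ^ i * c') * a ^ j := by group
          _ = c * (c' * a ^ i) * a ^ j := by rw [hci c' hc']
          _ = (c * c') * (a ^ i * a ^ j) := by group
          _ = (c' * c) * (a ^ j * a ^ i) := by
              rw [show c * c' = c' * c from congrArg Subtype.val (hBc.is_comm.comm (⟨c, hc⟩ : B) ⟨c', hc'⟩),
                ← zpow_add, ← zpow_add, add_comm i j]
          _ = c' * (c * a ^ j) * a ^ i := by group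
          _ = c' * (a ^ j * c) * a ^ i := by rw [hci c hc]
          _ = _ := by group
      · obtain ⟨c, hc, i, rfl⟩ := hdec x hx
        rw [(show Commute c (a ^ i) from (hci c hc i).symm).mul_pow, hBe c hc, ha2 i, one_mul]
    have hJB := hBmax J hJle hJ
    rw [Subgroup.eq_of_le_of_card_ge (le_sup_left : B ≤ J) hJB]
    exact Subgroup.mem_sup_right (Subgroup.mem_zpowers a)
  set X := Subgroup.centralizer ({b} : Set G) with hX
  let t : X := ⟨a, hBX haB⟩
  have ht : orderOf t = 2 := by rw [← ha]; exact (Subgroup.orderOf_coe t).symm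
  set L := K.subgroupOf X with hL
  set Y := Subgroup.centralizer ({t} : Set X) with hY
  have hYa : ∀ y : Y, ((y : X) : G) ∈ Subgroup.centralizer ({a} : Set G) := fun y =>
    Subgroup.mem_centralizer_singleton_iff.2
      (congrArg Subtype.val (Subgroup.mem_centralizer_singleton_iff.1 y.2))
  have hLY : L ≤ Y := fun x hx => Subgroup.mem_centralizer_singleton_iff.2
    (Subtype.ext (Subgroup.mem_centralizer_singleton_iff.1 (hKa hx)))
  have hLcomp : Cfsg.IsComponent (L.subgroupOf Y) := by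
    refine ⟨?_, Cfsg.Agent.Local.qs_congr hK.2 ((Subgroup.subgroupOfEquivOfLe hKa).trans
      ((Subgroup.subgroupOfEquivOfLe hKb).symm.trans (Subgroup.subgroupOfEquivOfLe hLY).symm))⟩
    exact hK.1.comap ((X.subtype.comp Y.subtype).codRestrict (Subgroup.centralizer ({a} : Set G)) hYa)
  have hK2 : 2 ∣ Nat.card K := by
    have h := hrk
    simp only [Cfsg.PRankLE, not_forall, not_le, pow_one] at h
    obtain ⟨A, -, hA2, hA⟩ := h
    obtain ⟨x, hx⟩ : ∃ x : A, x ≠ 1 := by
      by_contra hall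
      push Not at hall
      haveI : Subsingleton A := ⟨fun u v => by rw [hall u, hall v]⟩
      rw [Nat.card_unique] at hA
      omega
    rw [← orderOf_eq_prime (p := 2) (hA2 x x.2) fun h => hx (Subtype.ext h)]
    exact orderOf_dvd_natCard _
  have hcardL : Nat.card L = Nat.card K :=
    Nat.card_congr (Subgroup.subgroupOfEquivOfLe hKb).toEquiv
  -- the 2-layer of `X` is its layer
  have hlayer : Cfsg.pLayer 2 X ≤ Cfsg.layer X := by
    have h0 : ⁅Cfsg.pLayer 2 X, Cfsg.pPrimeCore 2 X⁆ = ⊥ := by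
      have h := hB b hb2
      rw [hO, le_bot_iff, Subgroup.map_eq_bot_iff, Subgroup.ker_subtype, le_bot_iff] at h
      exact h
    refine sSup_le fun D hD => le_sSup ?_
    refine ⟨hD.1, ?_⟩
    haveI := Cfsg.Agent.Solv.pPrimeCore_characteristic 2 D
    refine Cfsg.Agent.Local.qs_of_central_quotient (Cfsg.pPrimeCore 2 D) ?_ ?_
      (Cfsg.Agent.Local.pComponent_quotient_qs hD)
    · refine Subgroup.map_injective D.subtype_injective ?_
      rw [Subgroup.map_commutator, ← MonoidHom.range_eq_map, Subgroup.range_subtype]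
      exact Cfsg.Agent.Local.pComponent_commutator_self hD
    · intro x hx
      have hx' : (x : X) ∈ D ⊓ Cfsg.pPrimeCore 2 X := by
        rw [← Cfsg.Agent.Local.pPrimeCore_subtype_eq hD.1]
        exact ⟨x, hx, rfl⟩
      rw [Subgroup.mem_center_iff]
      intro g
      exact Subtype.ext (Cfsg.Agent.Local.commute_of_commutator_eq_bot h0
        (le_sSup (show D ∈ {K : Subgroup X | Cfsg.IsPComponent 2 K} from hD) g.2) hx'.2)
  have hLE : L ≤ Cfsg.layer X := by
    refine le_trans ?_ hlayer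
    have key : ∀ T : Subgroup X, IsPGroup 2 T →
        Subgroup.centralizer (T : Set X) = Y → L ≤ Cfsg.pLayer 2 X := by
      intro T hT e
      have h := Cfsg.Agent.Local.lBalance hT
      rw [e] at h
      refine le_trans ?_ h
      have hp : Cfsg.IsPComponent 2 (L.subgroupOf Y) :=
        Cfsg.Agent.Local.isPComponent_of_component hLcomp (by
          rw [Nat.card_congr (Subgroup.subgroupOfEquivOfLe hLY).toEquiv, hcardL]; exact hK2)
      intro x hx
      exact ⟨⟨x, hLY hx⟩, le_sSup (show L.subgroupOf Y ∈ {K : Subgroup Y | Cfsg.IsPComponent 2 K}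
        from hp) hx, rfl⟩
    refine key (Subgroup.zpowers t) (Cfsg.Agent.Local.isPGroup_zpowers ht) ?_
    rw [Subgroup.zpowers_eq_closure, Subgroup.centralizer_closure]
  have hgroup : ∀ D : Subgroup X, Cfsg.IsComponent D → Nat.card D ≤ Nat.card K ∧
      (Nat.card D = Nat.card K → ∀ k : ℕ,
        Cfsg.PRankLE 2 k ↥(Subgroup.centralizer ({a} : Set G) ⊓ Subgroup.centralizer (K : Set G)) →
        Cfsg.PRankLE 2 k
          ↥(X ⊓ Subgroup.centralizer ((D.map X.subtype : Subgroup G) : Set G))) := by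
    intro D hD
    have h := hmax b hb2 (D.map X.subtype) (Subgroup.map_subtype_le D) (by
      rw [← hX]
      rwa [show (D.map X.subtype).subgroupOf X = D from
        Subgroup.comap_map_eq_self_of_injective X.subtype_injective D])
    rw [Subgroup.card_map_of_injective X.subtype_injective] at h
    exact h
  obtain ⟨D, hD, hcase⟩ :=
    Cfsg.Agent.Local.component_centralizer_cases t ht hLY hLcomp hLE
  rcases hcase with h | h | ⟨hmove, π, hπ, hrange⟩
  · rw [h]; exact hD
  · exfalso
    exact h.ne (Subgroup.eq_of_le_of_card_ge h.le (by rw [hcardL]; exact (hgroup D hD).1))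
  exfalso
  have hcardD : Nat.card D = Nat.card K := le_antisymm (hgroup D hD).1 (by
    rw [← hcardL, ← hrange]
    exact Nat.card_le_card_of_surjective π.rangeRestrict π.rangeRestrict_surjective)
  have hinj : Function.Injective π := by
    have h : Function.Bijective π.rangeRestrict :=
      π.rangeRestrict_surjective.bijective_of_nat_card_le (by rw [hrange, hcardL, hcardD])
    intro x y e
    exact h.1 (Subtype.ext e)
  have hnab : ¬ ∀ x ∈ D, ∀ y ∈ D, x * y = y * x := fun h =>
    Cfsg.Agent.Local.qs_not_isMulCommutative hD.2 ⟨⟨fun x y => Subtype.ext (h x x.2 y y.2)⟩⟩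
  set D' := D.map (MulAut.conj t).toMonoidHom with hD'
  have hD'c : Cfsg.IsComponent D' := Cfsg.Agent.Local.isComponent_conj hD t
  have hDD' : ∀ x ∈ D, ∀ y ∈ D', x * y = y * x := fun x hx y hy =>
    Cfsg.Agent.Local.commute_of_commutator_eq_bot
      (Cfsg.Agent.Local.components_commute hD hD'c hmove.symm) hx hy
  have ht2 : t * t = 1 := by rw [← pow_two, ← ht, pow_orderOf_eq_one]
  set Bx := B.subgroupOf X with hBx
  have hBxL : ∀ c ∈ Bx, ∀ x ∈ L, x * c = c * x := fun c hc x hx =>
    Subtype.ext (Subgroup.mem_centralizer_iff.1 (hBle hc).2 x hx)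
  have hBxt : ∀ c ∈ Bx, c * t = t * c := fun c hc =>
    Subtype.ext (Subgroup.mem_centralizer_singleton_iff.1 (hBle hc).1)
  have hperm : ∀ c ∈ Bx, D.map (MulAut.conj c).toMonoidHom = D ∨
      D.map (MulAut.conj c).toMonoidHom = D' := by
    intro c hc
    by_contra hno
    push Not at hno
    refine hnab fun x hx y hy => ?_
    have hE := Cfsg.Agent.Local.isComponent_conj hD c
    have hπy : π ⟨y, hy⟩ ∈ L := hrange ▸ ⟨_, rfl⟩
    have h1 := Cfsg.Agent.Local.commute_of_commutator_eq_bot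
      (Cfsg.Agent.Local.components_commute hE hD hno.1) ⟨x, hx, rfl⟩ hy
    have h2 := Cfsg.Agent.Local.commute_of_commutator_eq_bot
      (Cfsg.Agent.Local.components_commute hE hD'c hno.2) ⟨x, hx, rfl⟩
      (show t * y * t⁻¹ ∈ D' from ⟨y, hy, rfl⟩)
    have h3 : (c * x * c⁻¹) * π ⟨y, hy⟩ = π ⟨y, hy⟩ * (c * x * c⁻¹) :=
      Commute.eq (by rw [hπ]; exact Commute.mul_right h1 h2)
    have h4 := hBxL c hc _ hπy
    have h5 : x * π ⟨y, hy⟩ = π ⟨y, hy⟩ * x := by
      calc x * π ⟨y, hy⟩ = c⁻¹ * (c * x * c⁻¹) * (c * π ⟨y, hy⟩) := by group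
        _ = c⁻¹ * (c * x * c⁻¹) * (π ⟨y, hy⟩ * c) := by rw [h4]
        _ = c⁻¹ * ((c * x * c⁻¹) * π ⟨y, hy⟩) * c := by group
        _ = c⁻¹ * (π ⟨y, hy⟩ * (c * x * c⁻¹)) * c := by rw [h3]
        _ = c⁻¹ * (π ⟨y, hy⟩ * c) * x := by group
        _ = c⁻¹ * (c * π ⟨y, hy⟩) * x := by rw [h4]
        _ = π ⟨y, hy⟩ * x := by group
    rw [hπ] at h5
    have h6 := hDD' x hx (t * y * t⁻¹) ⟨y, hy, rfl⟩
    have h7 : x * y * (t * y * t⁻¹) = y * x * (t * y * t⁻¹) := by
      rw [mul_assoc x, h5, mul_assoc, ← h6, ← mul_assoc]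
    exact mul_right_cancel h7
  have hnorm : ∀ c : X, D.map (MulAut.conj c).toMonoidHom = D →
      c ∈ Subgroup.normalizer (D : Set X) := by
    intro c hc
    rw [Subgroup.mem_normalizer_iff]
    intro x
    constructor
    · intro hx
      exact hc.le ⟨x, hx, rfl⟩
    · intro hx
      obtain ⟨y, hy, e⟩ := hc.ge hx
      rwa [← mul_left_cancel (mul_right_cancel (show c * y * c⁻¹ = c * x * c⁻¹ from e))]
  set B0 := Bx ⊓ Subgroup.normalizer (D : Set X) with hB0
  have hcardB : Nat.card B ≤ 2 * Nat.card B0 := by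
    have htBx : t ∈ Bx := haB
    let f : Bool × B0 → Bx := fun u => if u.1 then ⟨u.2 * t, mul_mem u.2.2.1 htBx⟩
      else ⟨u.2, u.2.2.1⟩
    have hf : Function.Surjective f := by
      rintro ⟨c, hc⟩
      rcases hperm c hc with h | h
      · exact ⟨(false, ⟨c, hc, hnorm c h⟩), rfl⟩
      · refine ⟨(true, ⟨c * t, mul_mem hc htBx, hnorm _ ?_⟩), Subtype.ext ?_⟩
        · rw [show (MulAut.conj (c * t)).toMonoidHom =
              (MulAut.conj t).toMonoidHom.comp (MulAut.conj c).toMonoidHom from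
              MonoidHom.ext fun y => by
                show c * t * y * (c * t)⁻¹ = t * (c * y * c⁻¹) * t⁻¹
                rw [hBxt c hc]; group, ← Subgroup.map_map, h, hD', Subgroup.map_map]
          ext x
          have e : ∀ y : X, t * (t * y * t⁻¹) * t⁻¹ = y := fun y => by
            rw [show t * (t * y * t⁻¹) * t⁻¹ = (t * t) * y * (t * t)⁻¹ by group, ht2]; simp
          constructor
          · rintro ⟨y, hy, rfl⟩
            show t * (t * y * t⁻¹) * t⁻¹ ∈ D
            rw [e]; exact hy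
          · intro hx
            exact ⟨x, hx, e x⟩
        · show c * t * t = c
          rw [mul_assoc, ht2, mul_one]
    have h := Nat.card_le_card_of_surjective f hf
    rw [Nat.card_prod, Nat.card_eq_fintype_card (α := Bool), Fintype.card_bool,
      Nat.card_congr (Subgroup.subgroupOfEquivOfLe hBX).toEquiv] at h
    exact h
  have hB0D : ∀ c ∈ B0, ∀ x ∈ D, c * x = x * c := by
    intro c hc x hx
    have hx' : c * x * c⁻¹ ∈ D := (Subgroup.mem_normalizer_iff.1 hc.2 x).1 hx
    have e : π ⟨_, hx'⟩ = π ⟨x, hx⟩ := by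
      have h4 := hBxL c hc.1 (π ⟨x, hx⟩) (hrange ▸ ⟨_, rfl⟩)
      have hct := hBxt c hc.1
      simp only [hπ] at h4 ⊢
      calc c * x * c⁻¹ * (t * (c * x * c⁻¹) * t⁻¹)
          = c * x * c⁻¹ * ((t * c) * x * (c⁻¹ * t⁻¹)) := by group
        _ = c * x * c⁻¹ * ((c * t) * x * (t * c)⁻¹) := by rw [hct, mul_inv_rev]
        _ = c * x * c⁻¹ * ((c * t) * x * (c * t)⁻¹) := by rw [hct]
        _ = c * (x * (t * x * t⁻¹)) * c⁻¹ := by group
        _ = x * (t * x * t⁻¹) := by rw [← h4]; group
    exact mul_inv_eq_iff_eq_mul.1 (congrArg Subtype.val (hinj e))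
  have hB0D' : ∀ c ∈ B0, ∀ x ∈ D', c * x = x * c := by
    rintro c hc _ ⟨x, hx, rfl⟩
    exact (Commute.mul_right (Commute.mul_right (hBxt c hc.1) (hB0D c hc x hx))
      (Commute.inv_right (hBxt c hc.1))).eq
  obtain ⟨A, hAc, hA2, hA⟩ : ∃ A : Subgroup K, IsMulCommutative A ∧ (∀ x ∈ A, x ^ 2 = 1) ∧
      2 < Nat.card A := by
    have h := hrk
    simp only [Cfsg.PRankLE, not_forall, not_le, pow_one] at h
    obtain ⟨A, h1, h2, h3⟩ := h
    exact ⟨A, h1, h2, h3⟩
  let A3 : Subgroup D := ((A.map K.subtype).subgroupOf X).comap π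
  let φ : D →* X := (MulAut.conj t).toMonoidHom.comp D.subtype
  have hφ : Function.Injective φ := (MulAut.conj t).injective.comp D.subtype_injective
  set V := A3.map φ with hV
  have hA3 : 2 < Nat.card A3 := by
    have hle : (A.map K.subtype).subgroupOf X ≤ π.range := by
      rw [hrange]; exact Subgroup.comap_mono (Subgroup.map_subtype_le A)
    have e : A3.map π = (A.map K.subtype).subgroupOf X := Subgroup.map_comap_eq_self hle
    have e2 : Nat.card (A3.map π) = Nat.card A3 := Subgroup.card_map_of_injective hinj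
    rw [e, Nat.card_congr (Subgroup.subgroupOfEquivOfLe
      ((Subgroup.map_subtype_le A).trans hKb)).toEquiv,
      Subgroup.card_map_of_injective K.subtype_injective] at e2
    omega
  have hA3e : ∀ x ∈ A3, x ^ 2 = 1 := by
    intro x hx
    obtain ⟨k, hk, e⟩ := hx
    refine hinj ?_
    rw [map_pow, map_one]
    refine Subtype.ext ?_
    rw [SubmonoidClass.coe_pow, ← show ((k : K) : G) = ((π x : X) : G) from e]
    exact congrArg Subtype.val (hA2 k hk)
  have hA3c : ∀ x ∈ A3, ∀ y ∈ A3, x * y = y * x := by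
    intro x hx y hy
    obtain ⟨k, hk, e⟩ := hx
    obtain ⟨l, hl, e'⟩ := hy
    refine hinj ?_
    rw [map_mul, map_mul]
    refine Subtype.ext ?_
    rw [Subgroup.coe_mul, Subgroup.coe_mul, ← show ((k : K) : G) = ((π x : X) : G) from e,
      ← show ((l : K) : G) = ((π y : X) : G) from e']
    exact congrArg (fun u : A => ((u : K) : G)) (hAc.is_comm.comm ⟨k, hk⟩ ⟨l, hl⟩)
  have hVD' : V ≤ D' := by
    rintro _ ⟨x, _, rfl⟩
    exact ⟨x, x.2, rfl⟩
  have hcommBV : ∀ (c : B0) (v : V), Commute (B0.subtype c) (V.subtype v) := fun c v =>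
    hB0D' c c.2 v (hVD' v.2)
  let ψ : B0 × V →* X := MonoidHom.noncommCoprod B0.subtype V.subtype hcommBV
  have hψ : Function.Injective ψ := by
    rw [injective_iff_map_eq_one]
    rintro ⟨⟨c, hc⟩, ⟨v, hv⟩⟩ e
    have e' : c * v = 1 := e
    have hc2 : c * c = 1 := by
      rw [← pow_two]; exact Subtype.ext (hBe (c : G) hc.1)
    have hvc : v = c := by
      calc v = c * c * v := by rw [hc2, one_mul]
        _ = c * (c * v) := mul_assoc _ _ _
        _ = c := by rw [e', mul_one]
    subst hvc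
    obtain ⟨x, hx, e3⟩ := hv
    have e4 : t * (x : X) * t⁻¹ = v := e3
    have e5 : (x : X) = v := by
      have h := hBxt v hc.1
      calc (x : X) = t⁻¹ * (t * x * t⁻¹) * t := by group
        _ = t⁻¹ * (v * t) := by rw [e4, mul_assoc]
        _ = v := by rw [h, inv_mul_cancel_left]
    have e6 : π x = π 1 := by
      rw [map_one, hπ, e4, e5]; exact hc2
    have hx1 : (v : X) = 1 := by rw [← e5, hinj e6]; rfl
    simp [hx1]
  let E : Subgroup G := ψ.range.map X.subtype
  have hEcard : Nat.card E = Nat.card B0 * Nat.card V := by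
    rw [Subgroup.card_map_of_injective X.subtype_injective, ← Nat.card_prod]
    exact Nat.card_congr (MonoidHom.ofInjective hψ).toEquiv.symm
  have hEle : E ≤ X ⊓ Subgroup.centralizer ((D.map X.subtype : Subgroup G) : Set G) := by
    rintro _ ⟨_, ⟨⟨c, v⟩, rfl⟩, rfl⟩
    refine ⟨(ψ (c, v)).2, ?_⟩
    rintro _ ⟨d, hd, rfl⟩
    exact congrArg Subtype.val (Commute.mul_right (hB0D c c.2 d hd).symm
      (hDD' d hd v (hVD' v.2))).eq
  have hψc : ∀ u w : B0 × V, u * w = w * u := by
    rintro ⟨⟨c, hc⟩, ⟨v, hv⟩⟩ ⟨⟨c', hc'⟩, ⟨v', hv'⟩⟩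
    refine Prod.ext (Subtype.ext (Subtype.ext ?_)) (Subtype.ext ?_)
    · have h := congrArg Subtype.val (hBc.is_comm.comm (⟨_, hc.1⟩ : B) ⟨_, hc'.1⟩)
      exact h
    · obtain ⟨x, hx, e⟩ := hv
      obtain ⟨y, hy, e'⟩ := hv'
      show v * v' = v' * v
      rw [← e, ← e', ← map_mul, hA3c x hx y hy, map_mul]
  have hψe : ∀ u : B0 × V, u ^ 2 = 1 := by
    rintro ⟨⟨c, hc⟩, ⟨v, hv⟩⟩
    refine Prod.ext (Subtype.ext (Subtype.ext ?_)) (Subtype.ext ?_)
    · show (c : G) ^ 2 = 1
      exact hBe (c : G) hc.1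
    · obtain ⟨x, hx, e⟩ := hv
      show v ^ 2 = 1
      rw [← e, ← map_pow, hA3e x hx, map_one]
  obtain ⟨k, hk⟩ := IsPGroup.iff_card.1 (show IsPGroup 2 B from fun g => ⟨1, Subtype.ext (by
    rw [pow_one, SubmonoidClass.coe_pow]; exact hBe g g.2)⟩)
  have hrank : Cfsg.PRankLE 2 k
      ↥(Subgroup.centralizer ({a} : Set G) ⊓ Subgroup.centralizer (K : Set G)) := by
    intro A' hc he
    rw [← hk, ← Subgroup.card_map_of_injective
      (Subgroup.centralizer ({a} : Set G) ⊓ Subgroup.centralizer (K : Set G)).subtype_injective]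
    refine hBmax _ (Subgroup.map_subtype_le A') ⟨⟨⟨?_⟩⟩, ?_⟩
    · rintro ⟨_, x, hx, rfl⟩ ⟨_, y, hy, rfl⟩
      exact Subtype.ext (congrArg
        (fun u : A' => (((u : ↥(Subgroup.centralizer ({a} : Set G) ⊓
          Subgroup.centralizer (K : Set G)))) : G)) (hc.is_comm.comm ⟨x, hx⟩ ⟨y, hy⟩))
    · rintro _ ⟨x, hx, rfl⟩
      rw [← map_pow, he x hx, map_one]
  have hfin := (hgroup D hD).2 hcardD k hrank (E.subgroupOf _) ⟨⟨?_⟩⟩ ?_
  · rw [Nat.card_congr (Subgroup.subgroupOfEquivOfLe hEle).toEquiv, hEcard, ← hk,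
      Subgroup.card_map_of_injective hφ] at hfin
    have hpos : 0 < Nat.card B0 := Nat.card_pos
    nlinarith [hfin, hcardB, hA3, hpos]
  · rintro ⟨⟨x, hxX⟩, _, ⟨u, rfl⟩, e⟩ ⟨⟨y, hyX⟩, _, ⟨w, rfl⟩, e'⟩
    refine Subtype.ext (Subtype.ext ?_)
    show x * y = y * x
    rw [show x = _ from e.symm, show y = _ from e'.symm, ← map_mul, ← map_mul, ← map_mul,
      ← map_mul, hψc u w]
  · rintro ⟨x, hxX⟩ ⟨_, ⟨u, rfl⟩, e⟩
    refine Subtype.ext ?_
    show x ^ 2 = 1
    rw [show x = _ from e.symm, ← map_pow, ← map_pow, hψe u, map_one, map_one]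

end Cfsg.Agent.S1305
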