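import Cfsg.Statements.S1313
import Cfsg.Agent.Lib.Local.FStar

set_option autoImplicit false
open Cfsg

namespace Cfsg.Agent.S1313

/-- For a finite group H, |H| ≤ |F*(H)|!. -/
theorem result {H : Type*} [Group H] [Finite H] : Nat.card H ≤ Nat.factorial (Nat.card ↥(Cfsg.generalizedFittingSubgroup H)) := by
  classical
  set F := Cfsg.generalizedFittingSubgroup H with hF
  haveI hLn : (Cfsg.layer H).Normal := Local.layer_normal
  haveI : F.Normal := Subgroup.sup_normal _ _
  let f : H →* MulAut F := MulAut.conjNormal
  have hker : f.ker ≤ F := by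
    intro x hx
    refine Local.centralizer_generalizedFitting_le fun y hy => ?_
    have h := congrArg (fun φ : MulAut F => ((φ ⟨y, hy⟩ : F) : H)) (MonoidHom.mem_ker.1 hx)
    simp only [MulAut.one_apply] at h
    rw [MulAut.conjNormal_apply] at h
    exact (mul_inv_eq_iff_eq_mul.1 h).symm
  -- automorphisms fix the identity
  let g : MulAut F → Equiv.Perm {x : F // x ≠ 1} := fun φ =>
    φ.toEquiv.subtypeEquiv fun x => (not_congr (map_eq_one_iff φ φ.injective)).symm
  have hg : Function.Injective g := by
    intro φ ψ h
    ext1 x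
    by_cases hx : x = 1
    · rw [hx, map_one, map_one]
    · exact congrArg Subtype.val (Equiv.congr_fun h ⟨x, hx⟩)
  haveI : Fintype F := Fintype.ofFinite _
  have h1 : Nat.card f.range ≤ (Nat.card F - 1).factorial := by
    refine (Nat.card_le_card_of_injective (fun φ : f.range => g φ) fun a b h => Subtype.ext (hg h)).trans ?_
    rw [Nat.card_eq_fintype_card, Fintype.card_perm, Fintype.card_subtype_compl, Fintype.card_subtype_eq,
      Nat.card_eq_fintype_card]
  have h2 : Nat.card f.ker ≤ Nat.card F := Subgroup.card_le_of_le hker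
  have hpos : 0 < Nat.card F := Nat.card_pos
  calc Nat.card H = Nat.card f.ker * f.ker.index := (Subgroup.card_mul_index _).symm
    _ = Nat.card f.ker * Nat.card f.range := by rw [Subgroup.index_ker]
    _ ≤ Nat.card F * (Nat.card F - 1).factorial := Nat.mul_le_mul h2 h1
    _ = (Nat.card F).factorial := Nat.mul_factorial_pred hpos.ne'

end Cfsg.Agent.S1313
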