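import Cfsg.Statements.S1316
import Cfsg.Agent.Lib.Local.FStar

set_option autoImplicit false
open Cfsg

namespace Cfsg.Agent.S1316

/-- For a finite group X, E(X) equals the intersection of the derived series of F*(X) (its last term). -/
theorem result {X : Type*} [Group X] [Finite X] : (⨅ n : ℕ, (derivedSeries ↥(Cfsg.generalizedFittingSubgroup X) n).map (Cfsg.generalizedFittingSubgroup X).subtype) = Cfsg.layer X := by
  classical
  set F := Cfsg.generalizedFittingSubgroup X with hF
  haveI hLn : (Cfsg.layer X).Normal := Local.layer_normal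
  have hEF : Cfsg.layer X ≤ F := le_sup_left
  set E' := (Cfsg.layer X).subgroupOf F with hE'
  have hperf : ⁅E', E'⁆ = E' := by
    apply Subgroup.map_injective F.subtype_injective
    rw [Subgroup.map_commutator, Subgroup.map_subgroupOf_eq_of_le hEF]
    exact Local.layer_commutator
  have hge : ∀ n : ℕ, E' ≤ derivedSeries F n := by
    intro n
    induction n with
    | zero => exact le_top
    | succ n ih => rw [← hperf, derivedSeries_succ]; exact Subgroup.commutator_mono ih ih
  haveI : E'.Normal := Subgroup.normal_subgroupOf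
  have hsolv : Group.IsSolvable (F ⧸ E') := by
    haveI := Solv.fittingSubgroup_isNilpotent X
    let f : Cfsg.fittingSubgroup X →* F ⧸ E' :=
      (QuotientGroup.mk' E').comp (Subgroup.inclusion le_sup_right)
    refine Group.isSolvable_of_surjective (f := f) fun q => ?_
    obtain ⟨x, rfl⟩ := QuotientGroup.mk'_surjective E' q
    obtain ⟨e, he, y, hy, hey⟩ := Subgroup.mem_sup_of_normal_right.1
      (x.2 : (x : X) ∈ Cfsg.layer X ⊔ Cfsg.fittingSubgroup X)
    refine ⟨⟨y, hy⟩, ?_⟩
    simp only [f, MonoidHom.comp_apply, QuotientGroup.mk'_apply]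
    rw [QuotientGroup.eq]
    have hconj : y⁻¹ * e * y ∈ Cfsg.layer X := by
      simpa using hLn.conj_mem e he y⁻¹
    show y⁻¹ * (x : X) ∈ Cfsg.layer X
    rw [← hey, ← mul_assoc]
    exact hconj
  obtain ⟨n, hn⟩ := (Group.isSolvable_def _).1 hsolv
  refine le_antisymm ((iInf_le _ n).trans ?_) (le_iInf fun m => ?_)
  · rw [← Subgroup.map_subgroupOf_eq_of_le hEF]
    refine Subgroup.map_mono ?_
    show derivedSeries F n ≤ E'
    rw [← QuotientGroup.ker_mk' E', ← Subgroup.map_eq_bot_iff, eq_bot_iff, ← hn]
    exact map_derivedSeries_le_derivedSeries _ n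
  · rw [← Subgroup.map_subgroupOf_eq_of_le hEF]
    exact Subgroup.map_mono (hge m)

end Cfsg.Agent.S1316
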