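import Cfsg.Statements.S1318
import Cfsg.Agent.Lib.Local.FStar

set_option autoImplicit false
open Cfsg

namespace Cfsg.Agent.S1318

/-- Let X be finite and S ≤ F*(X) a subgroup subnormal in F*(X). Then F(S) = F(X) ∩ S (inside X) and S = F(S)E(S). -/
theorem result {X : Type*} [Group X] [Finite X] (S : Subgroup X) (hS : S ≤ Cfsg.generalizedFittingSubgroup X) (hsn : (S.subgroupOf (Cfsg.generalizedFittingSubgroup X)).IsSubnormal) : (Cfsg.fittingSubgroup ↥S).map S.subtype = Cfsg.fittingSubgroup X ⊓ S ∧ Cfsg.fittingSubgroup ↥S ⊔ Cfsg.layer ↥S = ⊤ := by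
  haveI hLn : (Cfsg.layer X).Normal := Local.layer_normal
  haveI : (Cfsg.generalizedFittingSubgroup X).Normal := Subgroup.sup_normal _ _
  have hSX : S.IsSubnormal := by
    have h := hsn.trans' (inferInstance : (Cfsg.generalizedFittingSubgroup X).Normal).isSubnormal
    rwa [Subgroup.map_subgroupOf_eq_of_le hS] at h
  refine ⟨Local.fitting_map_eq hSX, ?_⟩
  apply Subgroup.map_injective S.subtype_injective
  have h := Local.generalizedFitting_inf hSX
  rw [inf_eq_right.2 hS] at h
  rw [← MonoidHom.range_eq_map, Subgroup.range_subtype]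
  conv_rhs => rw [h, Cfsg.generalizedFittingSubgroup, sup_comm]

end Cfsg.Agent.S1318
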