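import Cfsg.Statements.S1321
import Cfsg.Agent.Lib.Local.FStar

set_option autoImplicit false
open Cfsg

namespace Cfsg.Agent.S1321

/-- Let X be finite and U ≤ X. Then E(X) is generated by C_{E(X)}(U) together with ⁅E(X), U⁆ (indeed it is their product, ⁅E(X), U⁆ being normal in E(X)). -/
theorem result {X : Type*} [Group X] [Finite X] (U : Subgroup X) : Cfsg.layer X = (Cfsg.layer X ⊓ Subgroup.centralizer (U : Set X)) ⊔ ⁅Cfsg.layer X, U⁆ ∧ ⁅Cfsg.layer X, U⁆ ≤ Cfsg.layer X := by
  haveI hLn : (Cfsg.layer X).Normal := Local.layer_normal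
  have hle : ⁅Cfsg.layer X, U⁆ ≤ Cfsg.layer X := Subgroup.commutator_le_left _ _
  refine ⟨le_antisymm (sSup_le fun K hK => ?_) (sup_le inf_le_left hle), hle⟩
  set N := ⁅Cfsg.layer X, U⁆ with hN
  haveI hNn : (N.subgroupOf (Cfsg.layer X)).Normal := by
    rw [Subgroup.normal_subgroupOf_iff_le_normalizer hle]
    have hconj : ∀ a ∈ Cfsg.layer X, ∀ w ∈ N, a * w * a⁻¹ ∈ N := by
      intro a ha w hw
      have hsub : N ≤ N.comap (MulAut.conj a).toMonoidHom := by
        conv_lhs => rw [hN]
        rw [Subgroup.commutator_le]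
        intro e he u hu
        show a * (e * u * e⁻¹ * u⁻¹) * a⁻¹ ∈ N
        rw [show a * (e * u * e⁻¹ * u⁻¹) * a⁻¹ =
          (a * e * u * (a * e)⁻¹ * u⁻¹) * (a * u * a⁻¹ * u⁻¹)⁻¹ by group]
        exact mul_mem (Subgroup.commutator_mem_commutator (mul_mem ha he) hu)
          (inv_mem (Subgroup.commutator_mem_commutator ha hu))
      exact hsub hw
    intro a ha
    rw [Subgroup.mem_normalizer_iff]
    refine fun w => ⟨hconj a ha w, fun hw => ?_⟩
    have h := hconj a⁻¹ (inv_mem ha) _ hw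
    simpa [mul_assoc] using h
  have hNs : N.IsSubnormal := by
    have h := hNn.isSubnormal.trans' hLn.isSubnormal
    rwa [Subgroup.map_subgroupOf_eq_of_le hle] at h
  rcases Local.component_le_or_commutator_eq_bot hK hNs with h | h
  · exact h.trans le_sup_right
  · refine le_trans (le_inf (le_sSup hK) ?_) le_sup_left
    rw [← Subgroup.commutator_eq_bot_iff_le_centralizer]
    have hKL : K ≤ Cfsg.layer X := le_sSup hK
    have h1 : ⁅⁅K, U⁆, K⁆ = ⊥ := le_bot_iff.1 ((Subgroup.commutator_mono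
      (Subgroup.commutator_mono hKL le_rfl) le_rfl).trans
        (by rw [Subgroup.commutator_comm]; exact h.le))
    have h2 : ⁅⁅U, K⁆, K⁆ = ⊥ := by rwa [Subgroup.commutator_comm U K]
    have h3 := Subgroup.commutator_commutator_eq_bot_of_rotate h1 h2
    rwa [Local.component_eq_commutator hK] at h3

end Cfsg.Agent.S1321
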