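import Cfsg.Statements.S3734
import Cfsg.Agent.Lib.Struct.CyclicQuotientGen

set_option autoImplicit false
set_option linter.style.haveILetI false
open Cfsg
open Subgroup Cfsg.Agent.Solv
open scoped commutatorElement Pointwise

namespace Cfsg.Agent.S3734

universe u

theorem pGroup_gen {X : Type u} [Group X] [Finite X] (A P : Subgroup X) {p : ℕ} [Fact p.Prime]
    [IsMulCommutative A] (hP : IsPGroup p P) (hAP : A ≤ normalizer (P : Set X))
    (hcop : (Nat.card A).Coprime (Nat.card P)) :
    P ≤ ⨆ B ∈ {B : Subgroup X | B ≤ A ∧ ∃ a ∈ A, B ⊔ Subgroup.zpowers a = A},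
      P ⊓ Subgroup.centralizer (B : Set X) := by
  haveI := hP.isNilpotent
  haveI : IsMulCommutative (P ⧸ frattini P) :=
    (Subgroup.Normal.quotient_commutative_iff_commutator_le).2 commutator_le_frattini
  letI : CommGroup (P ⧸ frattini P) :=
    { (inferInstance : Group (P ⧸ frattini P)) with mul_comm := mul_comm' }
  letI : CommGroup A := { (inferInstance : Group A) with mul_comm := mul_comm' }
  let qa : MulAut P →* MulAut (P ⧸ frattini P) :=
    { toFun := fun e => QuotientGroup.congr (frattini P) (frattini P) e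
        (Subgroup.characteristic_iff_map_eq.1 inferInstance e)
      map_one' := MulEquiv.ext fun x => QuotientGroup.induction_on x fun y => rfl
      map_mul' := fun e f => MulEquiv.ext fun x => QuotientGroup.induction_on x fun y => rfl }
  set J := ⨆ B ∈ {B : Subgroup X | B ≤ A ∧ ∃ a ∈ A, B ⊔ Subgroup.zpowers a = A},
      P ⊓ Subgroup.centralizer (B : Set X) with hJ
  have htop : (J.subgroupOf P).map (QuotientGroup.mk' (frattini P)) = ⊤ := by
    refine Cfsg.Agent.Struct.CyclicQuotientGen.eq_top_of_fixed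
      (qa.comp (conjHom A P hAP)) (hcop.coprime_dvd_right (card_quotient_dvd_card _)) _ ?_
    intro B a hBa v hv
    obtain ⟨k, rfl⟩ := QuotientGroup.mk'_surjective (frattini P) v
    have hBA : B.map A.subtype ≤ A := map_subtype_le B
    have hmem : B.map A.subtype ∈ {B : Subgroup X | B ≤ A ∧ ∃ a ∈ A, B ⊔ zpowers a = A} := by
      refine ⟨hBA, a, a.2, ?_⟩
      rw [← A.coe_subtype, ← MonoidHom.map_zpowers, ← Subgroup.map_sup, hBa,
        ← MonoidHom.range_eq_map, range_subtype]
    obtain ⟨c, hc, hcn⟩ := exists_centralizer_lift (B.map A.subtype) P (hBA.trans hAP)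
      (hcop.coprime_dvd_left (card_dvd_of_le hBA)) (Or.inr inferInstance)
      ((frattini P).map P.subtype) (map_subtype_le _)
      (Cfsg.Agent.Struct.CoprimeMinimal.le_normalizer_map_char P P le_normalizer _)
      (Cfsg.Agent.Struct.CoprimeMinimal.le_normalizer_map_char _ P (hBA.trans hAP) _)
      (k : X) k.2 (by
        rintro _ ⟨b, hb, rfl⟩
        have h := hv b hb
        change QuotientGroup.mk' (frattini P) (conjHom A P hAP b k) = QuotientGroup.mk' _ k at h
        rw [← mul_inv_eq_one, ← map_inv, ← map_mul, QuotientGroup.mk'_apply,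
          QuotientGroup.eq_one_iff] at h
        exact ⟨_, h, rfl⟩)
    refine ⟨⟨c, hc.1⟩, mem_iSup_of_mem _ (mem_iSup_of_mem hmem hc), ?_⟩
    refine (QuotientGroup.eq.2 ?_).symm
    obtain ⟨y, hy, hye⟩ := hcn
    rwa [show k⁻¹ * ⟨c, hc.1⟩ = y from Subtype.ext hye.symm]
  refine subgroupOf_eq_top.1 (frattini_nongenerating (eq_top_iff.2 ?_))
  rw [← Subgroup.comap_map_eq_self (H := J.subgroupOf P ⊔ frattini P)
    (f := QuotientGroup.mk' (frattini P)) (by rw [QuotientGroup.ker_mk']; exact le_sup_right),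
    Subgroup.map_sup, htop, top_sup_eq, comap_top]

theorem sylow_gen {X : Type u} [Group X] [Finite X] (A G : Subgroup X) [IsMulCommutative A]
    (hAG : A ≤ normalizer (G : Set X)) (hcop : (Nat.card A).Coprime (Nat.card G)) :
    G ≤ sSup {P : Subgroup X | ∃ p, p.Prime ∧ IsPGroup p P ∧ P ≤ G ∧
      A ≤ normalizer (P : Set X)} := by
  haveI : Group.IsSolvable A := Group.isSolvable_of_comm fun a b => mul_comm' a b
  set S := sSup {P : Subgroup X | ∃ p, p.Prime ∧ IsPGroup p P ∧ P ≤ G ∧ A ≤ normalizer (P : Set X)}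
  suffices h : (S.subgroupOf G).index = 1 by
    exact subgroupOf_eq_top.1 (index_eq_one.1 h)
  by_contra hne
  obtain ⟨q, hq, hd⟩ := Nat.exists_prime_and_dvd hne
  haveI : Fact q.Prime := ⟨hq⟩
  obtain ⟨R, hR⟩ := exists_invariant_sylow (p := q) A G hAG hcop (Or.inl inferInstance)
  refine R.not_dvd_index (hd.trans (index_dvd_of_le (map_le_iff_le_comap.mp ?_)))
  exact le_sSup (a := (R : Subgroup G).map G.subtype)
    ⟨q, hq, R.isPGroup'.map _, map_subtype_le _, hR⟩


/-- Let A and G be subgroups of a finite group with A abelian, A normalizing G and the orders of A and G coprime. Then G is generated by the fixed-point subgroups C_G(B) of those subgroups B of A for which A/B is cyclic (that is, A = ⟨B, a⟩ for some a), and [G, A] is generated by the commutator subgroups [C_G(B), A] over the same subgroups B. -/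
theorem result {X : Type*} [Group X] [Finite X] (A G : Subgroup X) (hAab : IsMulCommutative A) (hAG : A ≤ Subgroup.normalizer (G : Set X)) (hcop : (Nat.card A).Coprime (Nat.card G)) : (⨆ B ∈ {B : Subgroup X | B ≤ A ∧ ∃ a ∈ A, B ⊔ Subgroup.zpowers a = A}, G ⊓ Subgroup.centralizer (B : Set X)) = G ∧ (⨆ B ∈ {B : Subgroup X | B ≤ A ∧ ∃ a ∈ A, B ⊔ Subgroup.zpowers a = A}, ⁅G ⊓ Subgroup.centralizer (B : Set X), A⁆) = ⁅G, A⁆ := by
  haveI := hAab
  haveI : Group.IsSolvable A := Group.isSolvable_of_comm fun a b => mul_comm' a b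
  have h1 : (⨆ B ∈ {B : Subgroup X | B ≤ A ∧ ∃ a ∈ A, B ⊔ Subgroup.zpowers a = A},
      G ⊓ Subgroup.centralizer (B : Set X)) = G := by
    refine le_antisymm (iSup₂_le fun B _ => inf_le_left) ((sylow_gen A G hAG hcop).trans ?_)
    refine sSup_le ?_
    rintro P ⟨p, hp, hP, hPG, hAP⟩
    haveI : Fact p.Prime := ⟨hp⟩
    refine (pGroup_gen A P hP hAP (hcop.coprime_dvd_right (card_dvd_of_le hPG))).trans ?_
    exact iSup₂_mono fun B _ => inf_le_inf_right _ hPG
  refine ⟨h1, ?_⟩
  set M := (⨆ B ∈ {B : Subgroup X | B ≤ A ∧ ∃ a ∈ A, B ⊔ Subgroup.zpowers a = A},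
    ⁅G ⊓ Subgroup.centralizer (B : Set X), A⁆) with hMdef
  refine le_antisymm (iSup₂_le fun B _ => commutator_mono inf_le_left le_rfl) ?_
  have hCA : G ⊓ centralizer (A : Set X) ≤ normalizer (M : Set X) := by
    have hone : ∀ c ∈ G ⊓ centralizer (A : Set X), M ≤ M.comap (MulAut.conj c).toMonoidHom := by
      intro c hc
      refine iSup₂_le fun B hB => ?_
      refine commutator_le.2 fun x hx a ha => ?_
      rw [mem_comap]
      refine mem_iSup_of_mem B (mem_iSup_of_mem hB ?_)
      rw [MulEquiv.coe_toMonoidHom, map_commutatorElement]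
      refine commutator_mem_commutator (mem_inf.2 ⟨?_, ?_⟩) ?_
      · rw [MulAut.conj_apply]; exact mul_mem (mul_mem hc.1 hx.1) (inv_mem hc.1)
      · rw [MulAut.conj_apply]
        have hcB : c ∈ centralizer (B : Set X) := centralizer_le hB.1 hc.2
        exact mul_mem (mul_mem hcB hx.2) (inv_mem hcB)
      · rw [MulAut.conj_apply, ← mem_centralizer_iff.1 hc.2 a ha, mul_inv_cancel_right]
        exact ha
    exact le_normalizer_of_conj_mem fun c hc m hm => hone c hc hm
  have hMn : G ≤ normalizer (M : Set X) := by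
    conv_lhs => rw [← h1]
    refine iSup₂_le fun B hB => ?_
    have hAB : A ≤ normalizer ((G ⊓ centralizer (B : Set X) : Subgroup X) : Set X) := by
      refine le_normalizer_inf hAG (le_trans ?_ le_normalizer)
      exact (le_centralizer A).trans (centralizer_le hB.1)
    rw [← commutator_sup_centralizer A (G ⊓ centralizer (B : Set X)) hAB
      (hcop.coprime_dvd_right (card_dvd_of_le inf_le_left)) (Or.inl inferInstance)]
    refine sup_le ?_ ((inf_le_inf_right _ inf_le_left).trans hCA)
    exact le_trans (fun y hy => mem_iSup_of_mem B (mem_iSup_of_mem hB hy) : _ ≤ M) le_normalizer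
  rw [commutator_le]
  intro g hg a ha
  let S : Subgroup X :=
    { carrier := {x | x ∈ normalizer (M : Set X) ∧ ⁅x, a⁆ ∈ M}
      one_mem' := ⟨one_mem _, by rw [commutatorElement_one_left]; exact one_mem M⟩
      mul_mem' := fun {y z} hy hz => ⟨mul_mem hy.1 hz.1, by
        rw [commutatorElement_mul_left_eq_conj_mul]
        exact mul_mem ((mem_normalizer_iff.1 hy.1 _).1 hz.2) hy.2⟩
      inv_mem' := fun {y} hy => ⟨inv_mem hy.1, by
        rw [commutatorElement_inv_left, ← commutatorElement_inv y a]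
        simpa using (mem_normalizer_iff.1 (inv_mem hy.1) _).1 (inv_mem hy.2)⟩ }
  have hS : G ≤ S := by
    conv_lhs => rw [← h1]
    refine iSup₂_le fun B hB y hy => ⟨hMn (mem_inf.1 hy).1, ?_⟩
    exact mem_iSup_of_mem B (mem_iSup_of_mem hB (commutator_mem_commutator hy ha))
  exact (hS hg).2

end Cfsg.Agent.S3734
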