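import Cfsg.Statements.S1324
import Cfsg.Agent.S3734

set_option autoImplicit false
open Cfsg

namespace Cfsg.Agent.S1324

/-- Let A be a noncyclic elementary abelian p-subgroup of a finite group H normalizing a subgroup X of order prime to p. Then X is generated by the subgroups X ∩ C_H(B), B ranging over the subgroups of A of index at most p. -/
theorem result {H : Type*} [Group H] [Finite H] (p : ℕ) [Fact p.Prime] (A X : Subgroup H) (hA : Cfsg.IsElementaryAbelian p A) (hA2 : p ^ 2 ≤ Nat.card ↥A) (hX : ¬ p ∣ Nat.card ↥X) (hAX : A ≤ Subgroup.normalizer (X : Set H)) : X = ⨆ B : {B : Subgroup H // B ≤ A ∧ B.relIndex A ≤ p}, X ⊓ Subgroup.centralizer ((B : Subgroup H) : Set H) := by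
  haveI hAc : IsMulCommutative ↥A := hA.1
  have hApg : IsPGroup p A := fun a => ⟨1, by rw [pow_one]; exact Subtype.ext (hA.2 a a.2)⟩
  obtain ⟨k, hk⟩ := hApg.exists_card_eq
  have hcop : (Nat.card A).Coprime (Nat.card X) := by
    rw [hk]
    exact Nat.Coprime.pow_left _ ((Fact.out : p.Prime).coprime_iff_not_dvd.2 hX)
  have h := (Cfsg.Agent.S3734.result A X hAc hAX hcop).1
  refine le_antisymm ?_ (iSup_le fun B => inf_le_left)
  conv_lhs => rw [← h]
  refine iSup₂_le fun B hB => ?_
  obtain ⟨hBA, a, ha, hBa⟩ := hB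
  refine le_iSup (fun B : {B : Subgroup H // B ≤ A ∧ B.relIndex A ≤ p} =>
    X ⊓ Subgroup.centralizer ((B : Subgroup H) : Set H)) ⟨B, hBA, ?_⟩
  haveI : (B.subgroupOf A).Normal := ⟨fun y hy z => by
    rwa [mul_comm' z y, mul_assoc, mul_inv_cancel, mul_one]⟩
  have htop : Subgroup.zpowers (⟨a, ha⟩ : A) ⊔ B.subgroupOf A = ⊤ := by
    apply Subgroup.map_injective A.subtype_injective
    rw [Subgroup.map_sup, MonoidHom.map_zpowers, Subgroup.map_subgroupOf_eq_of_le hBA,
      ← MonoidHom.range_eq_map, Subgroup.range_subtype, sup_comm]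
    exact hBa
  show (B.subgroupOf A).index ≤ p
  rw [← Subgroup.relIndex_top_right, ← htop, Subgroup.relIndex_sup_right]
  refine (Nat.le_of_dvd Nat.card_pos (Subgroup.relIndex_dvd_card _ _)).trans ?_
  rw [Nat.card_zpowers]
  exact orderOf_le_of_pow_eq_one (Fact.out : p.Prime).pos (Subtype.ext (hA.2 a ha))

end Cfsg.Agent.S1324
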