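import Cfsg.Statements.S1326
import Cfsg.Agent.Lib.Local.FStar

set_option autoImplicit false
open Cfsg

namespace Cfsg.Agent.S1326

/-- For a finite group X: the Fitting subgroup contains its centralizer if and only if the layer of X is trivial. -/
theorem result {X : Type*} [Group X] [Finite X] : Subgroup.centralizer (Cfsg.fittingSubgroup X : Set X) ≤ Cfsg.fittingSubgroup X ↔ Cfsg.layer X = ⊥ := by
  constructor
  · intro h
    rw [Cfsg.layer, eq_bot_iff]
    exact sSup_le fun K hK =>
      absurd ((Local.component_le_centralizer_fitting hK).trans h) (Local.component_not_le_fitting hK)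
  · intro h
    have h1 := Local.centralizer_generalizedFitting_le (G := X)
    rwa [Cfsg.generalizedFittingSubgroup, h, bot_sup_eq] at h1

end Cfsg.Agent.S1326
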