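import Cfsg.Statements.S1328
import Cfsg.Agent.Lib.Local.LocalBalance

set_option autoImplicit false
open Cfsg

namespace Cfsg.Agent.S1328

/-- Let G be finite, H ≤ G with O(H) = 1, t an involution of G normalizing H, and Y a nontrivial subgroup of O(C_H(t)). Then some component E of H is normalized by t and by Y and centralized by neither t nor Y. -/
theorem result {G : Type*} [Group G] [Finite G] (H : Subgroup G) (hO : Cfsg.oddCore ↥H = ⊥) (t : G) (ht : orderOf t = 2) (htH : t ∈ Subgroup.normalizer (H : Set G)) (Y : Subgroup G) (hY1 : Y ≠ ⊥) (hY : Y ≤ (Cfsg.oddCore ↥(H ⊓ Subgroup.centralizer ({t} : Set G))).map (H ⊓ Subgroup.centralizer ({t} : Set G)).subtype) : ∃ E : Subgroup ↥H, Cfsg.IsComponent E ∧ (E.map H.subtype).map (MulAut.conj t).toMonoidHom = E.map H.subtype ∧ Y ≤ Subgroup.normalizer ((E.map H.subtype : Subgroup G) : Set G) ∧ ¬ (t ∈ Subgroup.centralizer ((E.map H.subtype : Subgroup G) : Set G)) ∧ ¬ (Y ≤ Subgroup.centralizer ((E.map H.subtype : Subgroup G) : Set G))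 := by
  haveI : Fact (Nat.Prime 2) := ⟨Nat.prime_two⟩
  set C := H ⊓ Subgroup.centralizer ({t} : Set G) with hC
  -- work in `X = H⟨t⟩`
  set X := H ⊔ Subgroup.zpowers t with hX
  have hHX : H ≤ X := le_sup_left
  set t' : ↥X := ⟨t, Subgroup.mem_sup_right (Subgroup.mem_zpowers t)⟩ with ht'
  have ht2 : orderOf t' = 2 := by rw [← Subgroup.orderOf_coe]; exact ht
  set H' := H.subgroupOf X with hH'
  haveI hH'n : H'.Normal := Subgroup.normal_subgroupOf_of_le_normalizer
    (sup_le Subgroup.le_normalizer (Subgroup.zpowers_le.2 htH))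
  have hgen : ∀ q : ↥X ⧸ H', ∃ i : ℤ, q = (QuotientGroup.mk' H' t') ^ i := by
    intro q
    obtain ⟨g, rfl⟩ := QuotientGroup.mk'_surjective H' q
    have h2 : (g : G) ∈ ((H ⊔ Subgroup.zpowers t : Subgroup G) : Set G) := g.2
    rw [Subgroup.coe_mul_of_right_le_normalizer_left H _ (Subgroup.zpowers_le.2 htH)] at h2
    obtain ⟨a, ha, _, ⟨i, rfl⟩, e⟩ := h2
    refine ⟨i, ?_⟩
    rw [← map_zpow, ← mul_inv_eq_one, ← map_inv, ← map_mul, QuotientGroup.mk'_apply,
      QuotientGroup.eq_one_iff]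
    show (g : G) * ((t' ^ i : ↥X) : G)⁻¹ ∈ H
    rw [SubgroupClass.coe_zpow, ← show a * t ^ i = (g : G) from e, mul_inv_cancel_right]
    exact ha
  have hidx : H'.index ∣ 2 := by
    have hz : Subgroup.zpowers (QuotientGroup.mk' H' t') = ⊤ := by
      rw [eq_top_iff]
      intro q _
      obtain ⟨i, rfl⟩ := hgen q
      exact Subgroup.zpow_mem _ (Subgroup.mem_zpowers _) i
    rw [Subgroup.index_eq_card, ← Subgroup.card_top, ← hz, Nat.card_zpowers, ← ht2]
    exact orderOf_map_dvd _ _
  have hO' : Cfsg.pPrimeCore 2 ↥X = ⊥ := by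
    set O := Cfsg.pPrimeCore 2 ↥X with hOdef
    have h1 : O ⊓ H' = ⊥ := by
      rw [← le_bot_iff]
      calc O ⊓ H' ≤ (Cfsg.pPrimeCore 2 ↥H').map H'.subtype :=
            (Cfsg.Agent.Solv.pPrimeCore_map_subtype 2 H').ge
        _ ≤ ⊥ := by
          rw [← Cfsg.Agent.Solv.pPrimeCore_map_equiv 2 (Subgroup.subgroupOfEquivOfLe hHX).symm]
          change ((Cfsg.oddCore ↥H).map _).map _ ≤ ⊥
          rw [hO, Subgroup.map_bot, Subgroup.map_bot]
    have h2 : H'.relIndex O ∣ 2 := (Subgroup.relIndex_dvd_index_of_normal H' O).trans hidx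
    rw [← Subgroup.inf_relIndex_right, inf_comm, h1, Subgroup.relIndex_bot_left] at h2
    rw [Subgroup.eq_bot_iff_card]
    exact Nat.eq_one_of_dvd_coprimes (Cfsg.Agent.Solv.card_pPrimeCore_coprime 2 ↥X) dvd_rfl h2
  -- `Y` lies in the core of `C_X(t)`
  set Y' := Y.subgroupOf X with hY'
  have hYX : Y ≤ X := hY.trans ((Subgroup.map_subtype_le _).trans (inf_le_left.trans hHX))
  have hcore : Y' ≤ Cfsg.centralizerPPrimeCore 2 t' := by
    refine le_trans (show Y' ≤ ((Cfsg.oddCore ↥C).map C.subtype).subgroupOf X from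
      fun y hy => hY hy) ?_
    refine Cfsg.Agent.Local.le_core_map ?_ ?_ ?_
    · intro y hy
      exact Subgroup.mem_centralizer_singleton_iff.2 (Subtype.ext
        (Subgroup.mem_centralizer_singleton_iff.1 (Subgroup.map_subtype_le _ hy).2))
    · intro g hg
      have hg' : (g : G) ∈ Subgroup.normalizer (C : Set G) := by
        refine Cfsg.Agent.Solv.le_normalizer_inf (X := Subgroup.zpowers (g : G)) ?_ ?_
          (Subgroup.mem_zpowers _)
        · exact Subgroup.zpowers_le.2
            ((sup_le Subgroup.le_normalizer (Subgroup.zpowers_le.2 htH) : X ≤ _) g.2)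
        · exact Subgroup.zpowers_le.2 (Subgroup.le_normalizer
            (Subgroup.mem_centralizer_singleton_iff.2
              (congrArg Subtype.val (Subgroup.mem_centralizer_singleton_iff.1 hg))))
      have hn := Cfsg.Agent.Local.le_normalizer_core_map (p := 2) C hg'
      rw [Subgroup.mem_normalizer_iff]
      intro y
      exact Subgroup.mem_normalizer_iff.1 hn (y : G)
    · refine Nat.Coprime.coprime_dvd_left (Subgroup.card_comap_dvd_of_injective _ _ X.subtype_injective) ?_
      show (Nat.card ↥((Cfsg.pPrimeCore 2 ↥C).map C.subtype)).Coprime 2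
      rw [Cfsg.Agent.Solv.card_map_subtype]
      exact Cfsg.Agent.Solv.card_pPrimeCore_coprime 2 ↥C
  have hY'1 : Y' ≠ ⊥ := fun e => hY1 (by
    rw [← Subgroup.map_subgroupOf_eq_of_le hYX]
    show Y'.map X.subtype = ⊥
    rw [e, Subgroup.map_bot])
  obtain ⟨L, hL, hLY⟩ : ∃ L : Subgroup ↥X, Cfsg.IsComponent L ∧
      ¬ Y' ≤ Subgroup.centralizer (L : Set ↥X) := by
    by_contra hcon
    push Not at hcon
    exact hY'1 (Cfsg.Agent.Local.eq_bot_of_centralizes hO'
      ((Cfsg.Agent.Local.card_centralizerPPrimeCore_coprime t').coprime_dvd_left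
        (Subgroup.card_dvd_of_le hcore))
      (hcore.trans (Cfsg.Agent.Local.centralizerPPrimeCore_le_centralizer_pCore ht2)) hcon)
  have hcomm : ⁅L, Subgroup.zpowers t'⁆ = L := by
    by_contra hne
    exact hLY (hcore.trans (Subgroup.le_centralizer_iff.1
      (Subgroup.commutator_eq_bot_iff_le_centralizer.1
        (Cfsg.Agent.Local.component_core_commute hO' ht2 hL hne))))
  have htn := Cfsg.Agent.Local.mem_normalizer_of_commutator_eq hcomm
  have hYn : Y' ≤ Subgroup.normalizer (L : Set ↥X) :=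
    hcore.trans ((Cfsg.Agent.Local.centralizerPPrimeCore_le_compNormalizer hO' ht2).trans
      (Cfsg.Agent.Local.le_compNormalizer_iff.1 le_rfl L hL))
  have hLH : L ≤ H' := by
    rw [← Cfsg.Agent.Local.component_eq_commutator hL, Subgroup.commutator_le]
    intro a _ b _
    rw [← QuotientGroup.eq_one_iff, ← QuotientGroup.mk'_apply, map_commutatorElement,
      commutatorElement_eq_one_iff_mul_comm]
    obtain ⟨i, hi⟩ := hgen (QuotientGroup.mk' H' a)
    obtain ⟨j, hj⟩ := hgen (QuotientGroup.mk' H' b)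
    rw [hi, hj]
    exact (Commute.refl _).zpow_zpow i j
  set e := Subgroup.subgroupOfEquivOfLe hHX with he
  refine ⟨(L.subgroupOf H').map e.toMonoidHom,
    Cfsg.Agent.Local.isComponent_map_equiv e (Cfsg.Agent.Local.isComponent_subgroupOf hLH hL), ?_⟩
  have hmap : ((L.subgroupOf H').map e.toMonoidHom).map H.subtype = L.map X.subtype := by
    rw [Subgroup.map_map, show H.subtype.comp e.toMonoidHom = X.subtype.comp H'.subtype from rfl,
      ← Subgroup.map_map, Subgroup.map_subgroupOf_eq_of_le hLH]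
  rw [hmap]
  refine ⟨?_, ?_, ?_, ?_⟩
  · rw [Subgroup.map_map, show (MulAut.conj t).toMonoidHom.comp X.subtype =
      X.subtype.comp (MulAut.conj t').toMonoidHom from rfl, ← Subgroup.map_map]
    exact congrArg (Subgroup.map X.subtype) (Subgroup.mem_normalizer_iff_map_conj_eq.1 htn)
  · intro y hy
    exact Subgroup.le_normalizer_map X.subtype ⟨⟨y, hYX hy⟩, hYn hy, rfl⟩
  · intro htc
    refine Cfsg.Agent.Local.component_ne_bot hL (hcomm.symm.trans
      (Subgroup.commutator_eq_bot_iff_le_centralizer.2 ?_))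
    rw [Subgroup.le_centralizer_iff, Subgroup.zpowers_le, Subgroup.mem_centralizer_iff]
    intro l hl
    exact Subtype.ext (Subgroup.mem_centralizer_iff.1 htc (l : G) ⟨l, hl, rfl⟩)
  · intro hYc
    refine hLY fun y hy => Subgroup.mem_centralizer_iff.2 fun l hl => ?_
    exact Subtype.ext (Subgroup.mem_centralizer_iff.1 (hYc hy) (l : G) ⟨l, hl, rfl⟩)

end Cfsg.Agent.S1328
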