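import Cfsg.Statements.S1331
import Cfsg.Agent.Lib.Local.KSignalizer

set_option autoImplicit false
open Cfsg

namespace Cfsg.Agent.S1331

/-- Let θ be a solvable A-signalizer functor on the finite group G for the prime p, A elementary abelian of rank at least 3, X a member of the family of θ, and B ≤ A with |B| ≥ p². Then X is generated by the subgroups X ∩ ⋂_{d ∈ D, d ≠ 1} θ d, D ranging over the subgroups of index p in B. -/
theorem result {G : Type*} [Group G] [Finite G] (p : ℕ) [Fact p.Prime] (A : Subgroup G) (hA : Cfsg.IsElementaryAbelian p A) (hA3 : p ^ 3 ≤ Nat.card ↥A) (θ : G → Subgroup G) (hθ : Cfsg.IsSolvableSignalizerFunctor p A θ) (X : Subgroup G) (hX : X ∈ Cfsg.signalizerFamily p A θ) (B : Subgroup G) (hB : B ≤ A) (hB2 : p ^ 2 ≤ Nat.card ↥B) : X = ⨆ D : {D : Subgroup G // D ≤ B ∧ D.relIndex B = p}, X ⊓ Cfsg.signalizerInf (D : Subgroup G) θ := by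
  refine le_antisymm ?_ (iSup_le fun D => inf_le_left)
  obtain ⟨hXs, hXp, hXA, hXc⟩ := hX
  have hBel : Cfsg.IsElementaryAbelian p B := by
    haveI := hA.1
    exact ⟨⟨⟨fun x y => Subtype.ext (show (x : G) * y = y * x from congrArg Subtype.val (mul_comm' (⟨x, hB x.2⟩ : A) ⟨y, hB y.2⟩))⟩⟩,
      fun x hx => hA.2 x (hB hx)⟩
  have hgen := Cfsg.Agent.S1324.result p B X hBel hB2 hXp
    (hB.trans (Cfsg.Agent.Solv.le_normalizer_of_conj_mem hXA))
  conv_lhs => rw [hgen]
  refine iSup_le fun E => ?_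
  -- a subgroup of index `p` centralized
  obtain ⟨D, hDB, hDi, hDc⟩ : ∃ D : Subgroup G, D ≤ B ∧ D.relIndex B = p ∧
      X ⊓ Subgroup.centralizer ((E : Subgroup G) : Set G) ≤ Subgroup.centralizer (D : Set G) := by
    haveI : Finite B := inferInstance
    have hpg := Cfsg.Agent.Local.KSig.isPGroup_of_elementary hBel
    obtain ⟨j, hj⟩ := (IsPGroup.iff_card.1 hpg)
    obtain ⟨i, -, hi⟩ := (Nat.dvd_prime_pow (Fact.out : p.Prime)).1
      (hj ▸ Subgroup.relIndex_dvd_card (E : Subgroup G) B)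
    rcases Nat.eq_zero_or_pos i with h0 | h0
    · obtain ⟨j, rfl⟩ : ∃ j', j = j' + 1 := ⟨j - 1, by
        rcases Nat.eq_zero_or_pos j with h | h
        · rw [hj, h, pow_zero] at hB2
          have := (Fact.out : p.Prime).two_le
          nlinarith
        · omega⟩
      obtain ⟨D, hD⟩ := Sylow.exists_subgroup_card_pow_prime (G := B) p (n := j)
        (hj ▸ pow_dvd_pow p (Nat.le_succ j))
      refine ⟨D.map B.subtype, Subgroup.map_subtype_le D, ?_, inf_le_right.trans
        (Subgroup.centralizer_le ((Subgroup.map_subtype_le D).trans ?_))⟩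
      · show ((D.map B.subtype).comap B.subtype).index = p
        rw [Subgroup.comap_map_eq_self_of_injective B.subtype_injective]
        have := D.card_mul_index
        rw [hD, hj, pow_succ] at this
        exact Nat.eq_of_mul_eq_mul_left (pow_pos (Fact.out : p.Prime).pos j) this
      · rw [h0, pow_zero] at hi
        exact Subgroup.relIndex_eq_one.1 hi
    · refine ⟨E, E.2.1, ?_, inf_le_right⟩
      rw [hi]
      have h2 := E.2.2
      rw [hi] at h2
      conv at h2 => rhs; rw [← pow_one p]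
      rw [Nat.le_antisymm ((Nat.pow_le_pow_iff_right (Fact.out : p.Prime).one_lt).1 h2) h0, pow_one]
  refine le_trans ?_ (le_iSup (fun D : {D : Subgroup G // D ≤ B ∧ D.relIndex B = p} =>
    X ⊓ Cfsg.signalizerInf (D : Subgroup G) θ) ⟨D, hDB, hDi⟩)
  intro x hx
  refine ⟨hx.1, Subgroup.mem_iInf.2 fun d => hXc d (hB (hDB d.2.1)) d.2.2 ⟨hx.1, ?_⟩⟩
  exact Subgroup.mem_centralizer_singleton_iff.2 (hDc hx _ d.2.1).symm

end Cfsg.Agent.S1331
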