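import Cfsg.Statements.S1339
import Cfsg.Agent.Lib.Struct.FStarCentric

set_option autoImplicit false
open Cfsg
open Matrix

namespace Cfsg.Agent.S1339

/-- Let F be a field with 2 elements, n ≥ 3, and t ∈ SL(n, F) a transvection (t = 1 + E_{ij}, i ≠ j). Then the generalized Fitting subgroup of C(t) is O_2(C(t)). -/
theorem result {F : Type*} [Field F] [Fintype F] [DecidableEq F] (hF : Fintype.card F = 2) (n : ℕ) (hn : 3 ≤ n) (i j : Fin n) (hij : i ≠ j) (t : Matrix.SpecialLinearGroup (Fin n) F) (ht : (t : Matrix (Fin n) (Fin n) F) = Matrix.transvection i j 1) : Cfsg.generalizedFittingSubgroup ↥(Subgroup.centralizer ({t} : Set (Matrix.SpecialLinearGroup (Fin n) F))) = Cfsg.pCore 2 ↥(Subgroup.centralizer ({t} : Set (Matrix.SpecialLinearGroup (Fin n) F))) := by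
  classical
  haveI : Fact (Nat.Prime 2) := ⟨Nat.prime_two⟩
  have h2 : ∀ a : F, a = 0 ∨ a = 1 := by
    intro a
    by_contra h
    push Not at h
    have h3 := Finset.card_le_univ ({0, 1, a} : Finset F)
    rw [hF, Finset.card_insert_of_notMem (by simp [h.1.symm]), Finset.card_insert_of_notMem (by simp [h.2.symm]),
      Finset.card_singleton] at h3
    omega
  have hch : ∀ a : F, a + a = 0 := by
    intro a
    rcases h2 (1 + 1) with h | h
    · linear_combination a * h
    · exact absurd (by linear_combination h : (1 : F) = 0) one_ne_zero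
  let C := Subgroup.centralizer ({t} : Set (Matrix.SpecialLinearGroup (Fin n) F))
  let M : C → Matrix (Fin n) (Fin n) F := fun g => ((g : Matrix.SpecialLinearGroup (Fin n) F) : Matrix (Fin n) (Fin n) F)
  have hMmul : ∀ a b : C, M (a * b) = M a * M b := fun a b => rfl
  have hM1 : M 1 = 1 := rfl
  have hMinj : Function.Injective M := fun a b h => Subtype.ext (Subtype.ext h)
  have hcom : ∀ g : C, M g * Matrix.single i j 1 = Matrix.single i j 1 * M g := by
    intro g
    have h := congrArg (fun x : Matrix.SpecialLinearGroup (Fin n) F => (x : Matrix (Fin n) (Fin n) F)) (Subgroup.mem_centralizer_singleton_iff.1 g.2)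
    change M g * (t : Matrix (Fin n) (Fin n) F) = (t : Matrix (Fin n) (Fin n) F) * M g at h
    rw [ht, Matrix.transvection, mul_add, add_mul, mul_one, one_mul] at h
    exact add_left_cancel h
  have hcol : ∀ (g : C) (k : Fin n), k ≠ i → M g k i = 0 := fun g k hk => by
    have h := congrFun (congrFun (hcom g) k) j
    rw [Matrix.mul_single_apply_same, Matrix.single_mul_apply_of_ne (h := hk), mul_one] at h
    exact h
  have hrow : ∀ (g : C) (l : Fin n), l ≠ j → M g j l = 0 := fun g l hl => by
    have h := congrFun (congrFun (hcom g) i) l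
    rw [Matrix.single_mul_apply_same, Matrix.mul_single_apply_of_ne (hbj := hl), one_mul] at h
    exact h.symm
  have hii : ∀ g : C, M g i i = 1 := fun g => (h2 _).resolve_left fun h => by
    refine one_ne_zero (α := F) ?_
    rw [← ((g : Matrix.SpecialLinearGroup (Fin n) F)).2]
    exact Matrix.det_eq_zero_of_column_eq_zero i fun k => by
      by_cases hk : k = i
      · rw [hk]; exact h
      · exact hcol g k hk
  have hjj : ∀ g : C, M g j j = 1 := fun g => (h2 _).resolve_left fun h => by
    refine one_ne_zero (α := F) ?_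
    rw [← ((g : Matrix.SpecialLinearGroup (Fin n) F)).2]
    exact Matrix.det_eq_zero_of_row_eq_zero j fun l => by
      by_cases hl : l = j
      · rw [hl]; exact h
      · exact hrow g l hl
  let Pr : C → Prop := fun g => ∀ k l, k ≠ i → l ≠ j → M g k l = (1 : Matrix (Fin n) (Fin n) F) k l
  have hconj : ∀ (a q b : C), Pr q → a * b = 1 → Pr (a * q * b) := by
    intro a q b hq hab k l hk hl
    have e : M (a * q * b) = 1 + M a * (M q - 1) * M b := by
      rw [hMmul, hMmul, mul_sub, mul_one, sub_mul, ← hMmul a b, hab, hM1, add_sub_cancel]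
    rw [e, Matrix.add_apply, add_eq_left, Matrix.mul_apply]
    refine Finset.sum_eq_zero fun m' _ => ?_
    by_cases hm' : m' = j
    · rw [hm', hrow b l hl, mul_zero]
    · rw [Matrix.mul_apply, Finset.sum_eq_zero, zero_mul]
      intro m _
      by_cases hm : m = i
      · rw [hm, hcol a k hk, zero_mul]
      · rw [Matrix.sub_apply, hq m m' hm hm', sub_self, mul_zero]
  have hmul : ∀ a b : C, Pr a → Pr b → Pr (a * b) := by
    intro a b ha hb k l hk hl
    rw [hMmul, Matrix.mul_apply, Finset.sum_eq_single k]
    · rw [hb k l hk hl]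
      by_cases hkj : k = j
      · rw [hkj, hjj, one_mul]
      · rw [ha k k hk hkj, Matrix.one_apply_eq, one_mul]
    · intro m _ hm
      by_cases hmj : m = j
      · rw [hmj, hrow b l hl, mul_zero]
      · rw [ha k m hk hmj, Matrix.one_apply_ne (Ne.symm hm), zero_mul]
    · simp
  have h4 : ∀ g : C, Pr g → g ^ 4 = 1 := by
    intro g hg
    apply hMinj
    set N := M g - 1 with hN
    have hN0 : ∀ k l, k ≠ i → l ≠ j → N k l = 0 := fun k l hk hl => by rw [hN, Matrix.sub_apply, hg k l hk hl, sub_self]
    have hNc : ∀ k, N k i = 0 := fun k => by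
      by_cases hk : k = i
      · rw [hk, hN, Matrix.sub_apply, hii, Matrix.one_apply_eq, sub_self]
      · exact hN0 k i hk hij
    have hNr : ∀ l, N j l = 0 := fun l => by
      by_cases hl : l = j
      · rw [hl, hN, Matrix.sub_apply, hjj, Matrix.one_apply_eq, sub_self]
      · exact hN0 j l hij.symm hl
    have hN2 : ∀ k l, (k ≠ i ∨ l ≠ j) → (N * N) k l = 0 := by
      intro k l hkl
      rw [Matrix.mul_apply]
      refine Finset.sum_eq_zero fun m _ => ?_
      rcases hkl with hk | hl
      · by_cases hm : m = j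
        · rw [hm, hNr, mul_zero]
        · rw [hN0 k m hk hm, zero_mul]
      · by_cases hm : m = i
        · rw [hm, hNc, zero_mul]
        · rw [hN0 m l hm hl, mul_zero]
    have hN4 : N * N * (N * N) = 0 := by
      ext k l
      rw [Matrix.mul_apply, Matrix.zero_apply]
      refine Finset.sum_eq_zero fun m _ => ?_
      by_cases hm : m = i
      · rw [hN2 k m (Or.inr (hm ▸ hij)), zero_mul]
      · rw [hN2 m l (Or.inl hm), mul_zero]
    have hsq : M g * M g = 1 + N * N := by
      have e : M g * M g = 1 + N * N + (N + N) := by rw [hN]; noncomm_ring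
      rw [e, show N + N = 0 from Matrix.ext fun k l => hch _, add_zero]
    show M (g ^ 4) = M 1
    rw [show g ^ 4 = g * g * (g * g) by simp [pow_succ, mul_assoc], hMmul, hMmul, hsq, hM1]
    have e : (1 + N * N) * (1 + N * N) = 1 + N * N * (N * N) + (N * N + N * N) := by noncomm_ring
    rw [e, hN4, show N * N + N * N = 0 from Matrix.ext fun k l => hch _, add_zero, add_zero]
  let Q : Subgroup C :=
    { carrier := {g | Pr g}
      mul_mem' := fun {a b} ha hb => hmul a b ha hb
      one_mem' := fun k l _ _ => by rw [hM1]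
      inv_mem' := fun {a} ha => by
        have e : a⁻¹ = a * a * a := inv_eq_of_mul_eq_one_right (by rw [← h4 a ha]; simp [pow_succ, mul_assoc])
        show Pr a⁻¹
        rw [e]
        exact hmul _ _ (hmul _ _ ha ha) ha }
  haveI : Q.Normal := ⟨fun q hq a => hconj a q a⁻¹ hq (mul_inv_cancel a)⟩
  have hQp : IsPGroup 2 Q := fun g => ⟨2, Subtype.ext (h4 g.1 g.2)⟩
  refine Cfsg.Agent.Struct.FStarCentric.generalizedFitting_eq_pCore Q hQp fun g hg => ?_
  -- the centralizer of the unipotent radical
  have helt : ∀ a b : Fin n, (a = i ∧ b ≠ i ∧ b ≠ j) ∨ (b = j ∧ a ≠ i ∧ a ≠ j) → M g * Matrix.single a b 1 = Matrix.single a b 1 * M g := by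
    intro a b hab
    have hne : a ≠ b := by rcases hab with ⟨rfl, h, -⟩ | ⟨rfl, -, h⟩ <;> [exact h.symm; exact h]
    let u : Matrix.SpecialLinearGroup (Fin n) F := SpecialLinearGroup.transvection hne 1
    have huC : u ∈ C := by
      refine Subgroup.mem_centralizer_singleton_iff.2 (Subtype.ext ?_)
      show (u : Matrix (Fin n) (Fin n) F) * t = (t : Matrix (Fin n) (Fin n) F) * u
      rw [SpecialLinearGroup.transvection_coe, ht, Matrix.transvection]
      simp only [add_mul, mul_add, one_mul, mul_one]
      rcases hab with ⟨rfl, h1, h1'⟩ | ⟨rfl, h1, h1'⟩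
      · rw [Matrix.single_mul_single_of_ne (h := h1), Matrix.single_mul_single_of_ne (h := hij.symm)]; abel
      · rw [Matrix.single_mul_single_of_ne (h := hij.symm), Matrix.single_mul_single_of_ne (h := h1'.symm)]; abel
    have huQ : (⟨u, huC⟩ : C) ∈ Q := fun k l hk hl => by
      show ((u : Matrix (Fin n) (Fin n) F)) k l = _
      rw [SpecialLinearGroup.transvection_coe, Matrix.add_apply, Matrix.single_apply, if_neg, add_zero]
      rintro ⟨rfl, rfl⟩
      rcases hab with ⟨h, -⟩ | ⟨h, -⟩
      · exact hk h
      · exact hl h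
    have h := congrArg M (hg _ huQ)
    rw [hMmul, hMmul] at h
    change (u : Matrix (Fin n) (Fin n) F) * M g = M g * (u : Matrix (Fin n) (Fin n) F) at h
    rw [SpecialLinearGroup.transvection_coe, mul_add, add_mul, mul_one, one_mul] at h
    exact (add_left_cancel h).symm
  intro k l hk hl
  by_cases hkj : k = j
  · subst hkj; rw [hrow g l hl, Matrix.one_apply_ne (Ne.symm hl)]
  by_cases hkl : k = l
  · subst hkl
    have h := congrFun (congrFun (helt i k (Or.inl ⟨rfl, hk, hl⟩)) i) k
    rw [Matrix.mul_single_apply_same, Matrix.single_mul_apply_same, hii, mul_one, one_mul] at h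
    rw [← h, Matrix.one_apply_eq]
  · have h := congrFun (congrFun (helt i k (Or.inl ⟨rfl, hk, hkj⟩)) i) l
    rw [Matrix.single_mul_apply_same, Matrix.mul_single_apply_of_ne (hbj := Ne.symm hkl), one_mul] at h
    rw [← h, Matrix.one_apply_ne hkl]

end Cfsg.Agent.S1339
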