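import Cfsg.Statements.S1441
import Cfsg.Agent.Lib.Solv.Coprime

set_option autoImplicit false
open Cfsg

namespace Cfsg.Agent.S1441

/-- Let G be a finite group, H a solvable subgroup and A a subgroup normalizing H. Suppose there is a chain H = H₀ ≥ H₁ ≥ ⋯ ≥ H_n = 1 of subgroups normal in H and normalized by A such that A acts trivially on each factor H_{i-1}/H_i (that is, [H_{i-1}, A] ≤ H_i). Then every prime dividing the index of C_A(H) in A divides the order of H. -/
theorem result {G : Type*} [Group G] [Finite G] (H A : Subgroup G) (hH : Group.IsSolvable H) (hA : (A ≤ Subgroup.normalizer (H : Set G)))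
    (n : ℕ) (c : Fin (n + 1) → Subgroup G) (hc0 : c 0 = H) (hcn : c (Fin.last n) = ⊥) (hanti : Antitone c)
    (hcN : ∀ i, H ≤ Subgroup.normalizer ((c i : Subgroup G) : Set G)) (hcA : ∀ i, A ≤ Subgroup.normalizer ((c i : Subgroup G) : Set G))
    (htriv : ∀ i : Fin n, ⁅c i.castSucc, A⁆ ≤ c i.succ) :
    ∀ p : ℕ, p.Prime → p ∣ (A ⊓ Subgroup.centralizer (H : Set G)).relIndex A → p ∣ Nat.card H := by
  intro q hq hdvd
  by_contra hqH
  haveI : Fact q.Prime := ⟨hq⟩
  obtain ⟨Q⟩ := Sylow.nonempty (p := q) (G := A)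
  set Q' := (Q : Subgroup A).map A.subtype with hQ'
  have hQA : Q' ≤ A := Subgroup.map_subtype_le _
  have hQp : IsPGroup q Q' := Q.isPGroup'.map _
  have hcop : (Nat.card Q').Coprime (Nat.card H) := by
    obtain ⟨j, hj⟩ := hQp.exists_card_eq
    rw [hj]
    exact Nat.Coprime.pow_left _ (hq.coprime_iff_not_dvd.2 hqH)
  haveI := hQp.isNilpotent
  have hQs : Group.IsSolvable Q' := inferInstance
  have key : ∀ i : Fin (n + 1), ⁅c i, Q'⁆ = ⊥ := by
    intro i
    induction i using Fin.reverseInduction with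
    | last => rw [hcn, Subgroup.commutator_bot_left]
    | cast i ih =>
      refine Cfsg.Agent.Solv.commutator_eq_bot_of_commutator_commutator_eq_bot Q' _
        (hQA.trans (hcA _)) (hcop.coprime_dvd_right (Subgroup.card_dvd_of_le
          ((hanti (Fin.zero_le _)).trans hc0.le))) (Or.inl hQs) ?_
      exact le_bot_iff.1 ((Subgroup.commutator_mono ((Subgroup.commutator_mono le_rfl hQA).trans
        (htriv i)) le_rfl).trans ih.le)
  have hle : Q' ≤ A ⊓ Subgroup.centralizer (H : Set G) := le_inf hQA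
    (Subgroup.le_centralizer_iff.1 (Subgroup.commutator_eq_bot_iff_le_centralizer.1 (hc0 ▸ key 0)))
  refine Q.not_dvd_index (hdvd.trans (Subgroup.index_dvd_of_le ?_))
  intro y hy
  exact hle (Subgroup.mem_map_of_mem _ hy)

end Cfsg.Agent.S1441
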