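import Cfsg.Statements.S1442
import Cfsg.Agent.Lib.Solv.Coprime

set_option autoImplicit false
open Cfsg

namespace Cfsg.Agent.S1442

/-- Let G be a finite group, H a nilpotent subgroup and A a subgroup normalizing H with the orders of A and H coprime. Put C = H ∩ C_G(A). If H ∩ C_G(C) ≤ C then A centralizes H. -/
theorem result {G : Type*} [Group G] [Finite G] (H A : Subgroup G) (hH : Group.IsNilpotent H) (hA : (A ≤ Subgroup.normalizer (H : Set G))) (hcop : (Nat.card A).Coprime (Nat.card H))
    (hC : H ⊓ Subgroup.centralizer (((H ⊓ Subgroup.centralizer (A : Set G)) : Subgroup G) : Set G) ≤ (H ⊓ Subgroup.centralizer (A : Set G))) :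
    A ≤ Subgroup.centralizer (H : Set G) := by
  open Subgroup in
  set F := H ⊓ centralizer (A : Set G) with hF
  haveI := hH
  by_contra hcon
  have hFlt : F.subgroupOf H < ⊤ := by
    rw [lt_top_iff_ne_top, Ne, Subgroup.subgroupOf_eq_top]
    exact fun h => hcon (Subgroup.le_centralizer_iff.1 (h.trans inf_le_right))
  have hN := normalizerCondition_of_isNilpotent (F.subgroupOf H) hFlt
  set N := H ⊓ Subgroup.normalizer (F : Set G) with hNdef
  have hFN : F ≤ Subgroup.normalizer (F : Set G) := Subgroup.le_normalizer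
  have hAF : A ≤ Subgroup.centralizer (F : Set G) := Subgroup.le_centralizer_iff.1 inf_le_right
  have hAN : A ≤ Subgroup.normalizer (N : Set G) :=
    Cfsg.Agent.Solv.le_normalizer_inf hA
      ((hAF.trans (Subgroup.centralizer_le_normalizer _)).trans Subgroup.le_normalizer)
  have h1 : ⁅⁅N, F⁆, A⁆ = ⊥ := le_bot_iff.1 (by
    refine (Subgroup.commutator_mono (Subgroup.le_normalizer_iff_commutator_le_right.1 inf_le_right)
      (le_refl A)).trans ?_
    rw [Subgroup.commutator_eq_bot_iff_le_centralizer.2 inf_le_right])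
  have h2 : ⁅⁅F, A⁆, N⁆ = ⊥ := by
    rw [Subgroup.commutator_eq_bot_iff_le_centralizer.2 (inf_le_right : F ≤ _),
      Subgroup.commutator_bot_left]
  have h3 : ⁅⁅A, N⁆, F⁆ = ⊥ := Subgroup.commutator_commutator_eq_bot_of_rotate h1 h2
  have hle : ⁅N, A⁆ ≤ F := by
    refine le_trans (le_inf ((Subgroup.commutator_mono (inf_le_left : N ≤ H) le_rfl).trans
      (Subgroup.le_normalizer_iff_commutator_le_left.1 hA)) ?_) hC
    rw [Subgroup.commutator_comm]
    exact Subgroup.commutator_eq_bot_iff_le_centralizer.1 h3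
  haveI : Group.IsNilpotent ↥(N.subgroupOf H) := inferInstance
  haveI : Group.IsSolvable H := inferInstance
  have h4 : ⁅N, A⁆ = ⊥ := Cfsg.Agent.Solv.commutator_eq_bot_of_commutator_commutator_eq_bot A N hAN
    (hcop.coprime_dvd_right (Subgroup.card_dvd_of_le inf_le_left))
    (Or.inr (Cfsg.Agent.Solv.isSolvable_of_le inf_le_left inferInstance))
    (Subgroup.commutator_eq_bot_iff_le_centralizer.2 (hle.trans inf_le_right))
  have hNF : N ≤ F := le_inf inf_le_left (Subgroup.commutator_eq_bot_iff_le_centralizer.1 h4)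
  refine hN.not_ge fun y hy => hNF ⟨y.2, ?_⟩
  rw [Subgroup.mem_normalizer_iff] at hy
  refine Subgroup.mem_normalizer_iff.2 fun z => ?_
  constructor
  · intro hz
    exact (hy ⟨z, hz.1⟩).1 hz
  · intro hz
    have hzH : z ∈ H := by
      have := H.mul_mem (H.mul_mem (H.inv_mem y.2) hz.1) y.2
      simpa [mul_assoc] using this
    exact (hy ⟨z, hzH⟩).2 hz

end Cfsg.Agent.S1442
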