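import Cfsg.Statements.S1446
import Cfsg.Agent.Lib.Struct.FrobFixed

set_option autoImplicit false
open Cfsg

namespace Cfsg.Agent.S1446

/-- Let X be a finite group with subgroups K, R, M such that: K and R are nontrivial, K ∩ R = 1, R normalizes K, no non-identity element of R centralizes a non-identity element of K, K ⊔ R is solvable of odd order; M is nilpotent and nontrivial, normalized by K and by R, with order coprime to that of K ⊔ R, M ∩ C(K) = 1, and M ∩ C(x) = M ∩ C(R) for all non-identity x ∈ R. Then R has prime order p, #M = #(M ∩ C(R)) ^ p, and if M ∩ C(R) is cyclic then [K, K] centralizes M. -/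
theorem result {X : Type*} [Group X] [Finite X] (K R M : Subgroup X) (hK1 : K ≠ ⊥) (hR1 : R ≠ ⊥) (hKR : K ⊓ R = ⊥)
    (hRK : R ≤ Subgroup.normalizer (K : Set X)) (hfrob : ∀ r ∈ R, r ≠ 1 → K ⊓ Subgroup.centralizer ({r} : Set X) = ⊥)
    (hsolv : Group.IsSolvable ↥(K ⊔ R)) (hodd : Odd (Nat.card ↥(K ⊔ R)))
    (hM1 : M ≠ ⊥) (hMn : Group.IsNilpotent M) (hKM : K ≤ Subgroup.normalizer (M : Set X)) (hRM : R ≤ Subgroup.normalizer (M : Set X))
    (hcop : (Nat.card ↥(K ⊔ R)).Coprime (Nat.card M)) (hCK : M ⊓ Subgroup.centralizer (K : Set X) = ⊥)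
    (hpr : ∀ x ∈ R, x ≠ 1 → M ⊓ Subgroup.centralizer ({x} : Set X) = M ⊓ Subgroup.centralizer (R : Set X)) :
    (Nat.card R).Prime ∧ Nat.card M = Nat.card ↥(M ⊓ Subgroup.centralizer (R : Set X)) ^ Nat.card R ∧
      (IsCyclic ↥(M ⊓ Subgroup.centralizer (R : Set X)) → ⁅K, K⁆ ≤ Subgroup.centralizer (M : Set X)) := by
  have hsolvM : Group.IsSolvable M := inferInstance
  have key : ∀ R₀ : Subgroup X, R₀ ≤ R →
      (Nat.card M = Nat.card ↥(M ⊓ Subgroup.centralizer (R₀ : Set X)) ^ Nat.card R₀) ∧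
      (IsCyclic ↥(M ⊓ Subgroup.centralizer (R₀ : Set X)) → ⁅K, K⁆ ≤ Subgroup.centralizer (M : Set X)) := by
    intro R₀ hR₀
    have hle : K ⊔ R₀ ≤ K ⊔ R := sup_le_sup_left hR₀ K
    obtain ⟨hf, hc⟩ := Cfsg.Agent.Struct.FrobFixed.group_formula K R₀
      (eq_bot_iff.2 ((inf_le_inf_left K hR₀).trans hKR.le))
      (fun e he y hy => (Subgroup.mem_normalizer_iff.1 (hRK (hR₀ he)) y).1 hy)
      (fun e he he1 y hy h => by
        have : y ∈ K ⊓ Subgroup.centralizer ({e} : Set X) := ⟨hy, Subgroup.mem_centralizer_singleton_iff.2 h.symm⟩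
        rwa [hfrob e (hR₀ he) he1, Subgroup.mem_bot] at this)
      (Nat.card M) M le_rfl
      (fun x hx h hh => (Subgroup.mem_normalizer_iff.1 ((sup_le hKM (hR₀.trans hRM)) hx) h).1 hh)
      hsolvM (Nat.Coprime.coprime_dvd_left (Subgroup.card_dvd_of_le hle) hcop).symm
    have h1 : M ⊓ Subgroup.centralizer ((K ⊔ R₀ : Subgroup X) : Set X) = ⊥ :=
      eq_bot_iff.2 ((inf_le_inf_left M (Subgroup.centralizer_le (SetLike.coe_subset_coe.2 le_sup_left))).trans hCK.le)
    rw [h1, hCK, Subgroup.card_bot, one_pow, one_mul, mul_one] at hf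
    exact ⟨hf, hc hCK⟩
  obtain ⟨hR, hRc⟩ := key R le_rfl
  refine ⟨?_, hR, hRc⟩
  obtain ⟨x, hx, hxp⟩ : ∃ x ∈ R, (orderOf x).Prime := by
    obtain ⟨p, hp, hpd⟩ := Nat.exists_prime_and_dvd (fun h => hR1 ((Subgroup.card_eq_one).1 h))
    haveI := Fact.mk hp
    obtain ⟨x, hx⟩ := exists_prime_orderOf_dvd_card' p hpd
    exact ⟨x, x.2, by rw [Subgroup.orderOf_coe, hx]; exact hp⟩
  have hxne : x ≠ 1 := fun h => by rw [h, orderOf_one] at hxp; exact Nat.not_prime_one hxp
  obtain ⟨h0, -⟩ := key (Subgroup.zpowers x) (Subgroup.zpowers_le.2 hx)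
  have hC : Subgroup.centralizer ((Subgroup.zpowers x : Subgroup X) : Set X) = Subgroup.centralizer ({x} : Set X) := by
    rw [Subgroup.zpowers_eq_closure, Subgroup.centralizer_closure]
  rw [hC, hpr x hx hxne, Nat.card_zpowers, hR] at h0
  have hc2 : 2 ≤ Nat.card ↥(M ⊓ Subgroup.centralizer (R : Set X)) := by
    by_contra h
    have h1 : Nat.card ↥(M ⊓ Subgroup.centralizer (R : Set X)) = 1 := by
      have := Nat.card_pos (α := ↥(M ⊓ Subgroup.centralizer (R : Set X))); omega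
    rw [h1, one_pow] at hR
    exact hM1 (Subgroup.card_eq_one.1 hR)
  rw [Nat.pow_right_injective hc2 h0]
  exact hxp

end Cfsg.Agent.S1446
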