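import Cfsg.Statements.S1449
import Cfsg.Agent.Lib.Solv.OddRankTwo

set_option autoImplicit false
open Cfsg

namespace Cfsg.Agent.S1449

/-- Let G be a finite group, p an odd prime, R a p-subgroup with no elementary abelian subgroup of order p ^ 3, and A a solvable subgroup of odd order normalizing R with A ∩ C_G(R) = 1. Then the derived subgroup [A, A] is a p-group. -/
theorem result {G : Type*} [Group G] [Finite G] (p : ℕ) [Fact p.Prime] (hp : p ≠ 2) (R A : Subgroup G) (hR : IsPGroup p R) (hr : Cfsg.PRankLE p 2 R)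
    (hA : (A ≤ Subgroup.normalizer (R : Set G))) (hAs : Group.IsSolvable A) (hAodd : Odd (Nat.card A)) (hfaith : A ⊓ Subgroup.centralizer (R : Set G) = ⊥) :
    IsPGroup p ↥⁅A, A⁆ := by
  haveI := hAs
  let f : A →* MulAut R := (Subgroup.normalizerMonoidHom R).comp (Subgroup.inclusion hA)
  have hf : Function.Injective f := by
    rw [injective_iff_map_eq_one]
    intro a ha
    have h1 : Subgroup.inclusion hA a ∈ (Subgroup.normalizerMonoidHom R).ker := ha
    rw [Subgroup.normalizerMonoidHom_ker, Subgroup.mem_subgroupOf, Subgroup.coe_inclusion] at h1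
    exact Subtype.ext (Subgroup.mem_bot.1 (hfaith ▸ Subgroup.mem_inf.2 ⟨a.2, h1⟩))
  obtain ⟨h1, -⟩ := Cfsg.Agent.Solv.OddRankTwo.rank_two_action hp hR
    (hr) (W := A) hAodd f
  have hW : IsPGroup p (commutator A) := Cfsg.Agent.Solv.OddRankTwo.isPGroup_iff_prime_dvd.2 fun x q hq hd =>
    h1 x x.2 q hq (by rwa [orderOf_injective f hf, Subgroup.orderOf_coe])
  exact (Subgroup.map_subtype_commutator A) ▸ hW.map A.subtype

end Cfsg.Agent.S1449
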