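import Cfsg.Statements.S1450
import Cfsg.Agent.Lib.Solv.OddRankTwo

set_option autoImplicit false
open Cfsg

namespace Cfsg.Agent.S1450

/-- Let G be a solvable group of odd order, p a prime dividing its order with G having no elementary abelian subgroup of order p ^ 3. Then every prime dividing the index of O_{p'}(G) is at most p; if p = 3 or p is the smallest prime divisor of #G then G has a normal p-complement; the derived subgroup G' has a normal p-complement; every subgroup of G' of order coprime to p lies in O_{p'}(G'); and G/O_{p',p}(G) is abelian of order coprime to p. -/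
theorem result {G : Type*} [Group G] [Finite G] [Group.IsSolvable G] (hodd : Odd (Nat.card G)) (p : ℕ) [Fact p.Prime] (hpG : p ∣ Nat.card G) (hr : Cfsg.PRankLE p 2 G) :
    (∀ q : ℕ, q.Prime → q ∣ (Cfsg.pPrimeCore p G).index → q ≤ p) ∧
      ((p = 3 ∨ ∀ q : ℕ, q.Prime → q ∣ Nat.card G → p ≤ q) → Cfsg.HasNormalPComplement p G) ∧
      Cfsg.HasNormalPComplement p ↥(commutator G) ∧
      (∀ L : Subgroup ↥(commutator G), (Nat.card L).Coprime p → L ≤ Cfsg.pPrimeCore p ↥(commutator G)) ∧
      commutator G ≤ Cfsg.pPrimePCore p G ∧ ((Cfsg.pPrimePCore p G).index).Coprime p := by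
  have hp : p ≠ 2 := Cfsg.Agent.Solv.OddRankTwo.prime_ne_two hodd hpG
  set N := pPrimeCore p G with hN
  have hNc : (Nat.card N).Coprime p := Cfsg.Agent.Solv.card_pPrimeCore_coprime p G
  have hoddQ : Odd (Nat.card (G ⧸ N)) := hodd.of_dvd_nat (Subgroup.card_quotient_dvd_card N)
  haveI : Group.IsSolvable (G ⧸ N) := Group.isSolvable_of_surjective (QuotientGroup.mk'_surjective N)
  set P0 := pCore p (G ⧸ N) with hP0
  have hP0p : IsPGroup p P0 := Cfsg.Agent.Solv.isPGroup_pCore p _
  have hrQ : PRankLE p 2 P0 := fun A hAc hAe => by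
    have := Cfsg.Agent.Solv.OddRankTwo.prankLE_quotient hr N hNc (A.map P0.subtype)
      ⟨⟨?_⟩⟩ ?_
    · rwa [Cfsg.Agent.Solv.card_map_subtype] at this
    · rintro ⟨_, a, ha, rfl⟩ ⟨_, b, hb, rfl⟩
      exact Subtype.ext (congrArg (fun x : A => P0.subtype x.1) (hAc.is_comm.comm ⟨a, ha⟩ ⟨b, hb⟩))
    · rintro _ ⟨a, ha, rfl⟩
      rw [← map_pow, hAe a ha, map_one]
  let f : (G ⧸ N) →* MulAut P0 := MulAut.conjNormal
  have hcent : Subgroup.centralizer (P0 : Set (G ⧸ N)) ≤ P0 :=
    Cfsg.Agent.Solv.centralizer_pCore_le_of_isSolvable (Cfsg.Agent.Solv.pPrimeCore_quotient_pPrimeCore p)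
  have hker : ∀ x, f x = 1 → x ∈ P0 := fun x hx => hcent (Subgroup.mem_centralizer_iff.2 fun y hy => by
    have h := congrArg (fun e : MulAut P0 => ((e ⟨y, hy⟩ : P0) : G ⧸ N)) hx
    simp only [f, MulAut.conjNormal_apply, MulAut.one_apply] at h
    exact (mul_inv_eq_iff_eq_mul.1 h).symm)
  obtain ⟨h1, h2⟩ := Cfsg.Agent.Solv.OddRankTwo.rank_two_action hp hP0p hrQ hoddQ f
  have hord : ∀ x : G ⧸ N, ∀ q : ℕ, q.Prime → q ∣ orderOf x → q = p ∨ q ∣ orderOf (f x) := by
    intro x q hq hd
    have hx : x ^ orderOf (f x) ∈ P0 := hker _ (by rw [map_pow, pow_orderOf_eq_one])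
    obtain ⟨k, hk⟩ := (IsPGroup.iff_orderOf.1 hP0p) ⟨_, hx⟩
    rw [← Subgroup.orderOf_coe] at hk
    have hd' : orderOf x ∣ orderOf (f x) * p ^ k := orderOf_dvd_of_pow_eq_one (by
      rw [pow_mul, ← hk]
      exact pow_orderOf_eq_one _)
    rcases hq.dvd_mul.1 (hd.trans hd') with h | h
    · exact Or.inr h
    · exact Or.inl ((Nat.prime_dvd_prime_iff_eq hq Fact.out).1 (hq.dvd_of_dvd_pow h))
  have hcomm : commutator (G ⧸ N) ≤ P0 := by
    haveI : (commutator (G ⧸ N)).Normal := inferInstance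
    refine Cfsg.Agent.Solv.le_pCore (Cfsg.Agent.Solv.OddRankTwo.isPGroup_iff_prime_dvd.2 fun x q hq hd => ?_)
    rw [← Subgroup.orderOf_coe] at hd
    exact (hord x q hq hd).elim id (fun h => h1 x x.2 q hq h)
  have hidx : (P0.index).Coprime p := by
    obtain ⟨S⟩ := Sylow.nonempty (p := p) (G := G ⧸ N)
    have hS : P0 ≤ S := Cfsg.Agent.Solv.pCore_le_sylow S
    haveI : (S : Subgroup (G ⧸ N)).Normal := Subgroup.Normal.of_commutator_le _ (hcomm.trans hS)
    have he : (S : Subgroup (G ⧸ N)) = P0 := le_antisymm (Cfsg.Agent.Solv.le_pCore S.isPGroup') hS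
    rw [← he]
    exact Cfsg.Agent.Solv.card_sylow_coprime_index S
  have hle : ∀ q : ℕ, q.Prime → q ∣ N.index → q ≤ p := by
    intro q hq hd
    haveI : Fact q.Prime := ⟨hq⟩
    rw [Subgroup.index_eq_card] at hd
    obtain ⟨x, hx⟩ := exists_prime_orderOf_dvd_card' q hd
    by_cases hqp : q = p
    · exact hqp.le
    · exact (h2 x q hq ((hord x q hq hx.symm.dvd).resolve_left hqp) hqp).le
  have hcomap : commutator G ≤ pPrimePCore p G := by
    intro g hg
    show QuotientGroup.mk' N g ∈ P0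
    refine hcomm ?_
    rw [commutator_def] at hg ⊢
    have := Subgroup.mem_map_of_mem (QuotientGroup.mk' N) hg
    rw [Subgroup.map_commutator] at this
    exact Subgroup.commutator_mono le_top le_top this
  set M : Subgroup (commutator G) := N.subgroupOf (commutator G) with hM
  haveI : M.Normal := inferInstance
  have hMc : (Nat.card M).Coprime p := by
    refine Nat.Coprime.coprime_dvd_left ?_ hNc
    rw [← Cfsg.Agent.Solv.card_map_subtype, hM, Subgroup.subgroupOf_map_subtype]
    exact Subgroup.card_dvd_of_le inf_le_left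
  have hpow : ∀ x : commutator G, ∃ k : ℕ, x ^ p ^ k ∈ M := by
    intro x
    obtain ⟨k, hk⟩ := hP0p ⟨QuotientGroup.mk' N x, hcomap x.2⟩
    refine ⟨k, Subgroup.mem_subgroupOf.2 ((QuotientGroup.eq_one_iff _).1 ?_)⟩
    have := congrArg Subtype.val hk
    rw [SubmonoidClass.coe_pow, ← map_pow] at this
    simpa using this
  have hQp : IsPGroup p (commutator G ⧸ M) := fun y => by
    obtain ⟨x, rfl⟩ := QuotientGroup.mk_surjective y
    obtain ⟨k, hk⟩ := hpow x
    exact ⟨k, by rw [← QuotientGroup.mk_pow]; exact (QuotientGroup.eq_one_iff _).2 hk⟩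
  have npc : ∀ {H : Type _} [Group H] [Finite H] (K : Subgroup H), K.Normal → (Nat.card K).Coprime p →
      (∃ a, K.index = p ^ a) → HasNormalPComplement p H := by
    intro H _ _ K hKn hKc ⟨a, ha⟩
    obtain ⟨S⟩ := Sylow.nonempty (p := p) (G := H)
    refine ⟨S, K, hKn, Subgroup.isComplement'_of_coprime ?_ ?_⟩
    · rw [← K.card_mul_index, ha]
      congr 1
      rw [Sylow.card_eq_multiplicity, ← K.card_mul_index, ha, Nat.factorization_mul Nat.card_pos.ne'
        (pow_ne_zero _ (Fact.out : p.Prime).ne_zero), Finsupp.add_apply,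
        Nat.factorization_eq_zero_of_not_dvd ((Fact.out : p.Prime).coprime_iff_not_dvd.1 hKc.symm),
        (Fact.out : p.Prime).factorization_pow, Finsupp.single_eq_same, zero_add]
    · obtain ⟨b, hb⟩ := S.isPGroup'.exists_card_eq
      rw [hb]
      exact hKc.pow_right b
  refine ⟨hle, fun h => ?_, ?_, fun L hL => ?_, hcomap, ?_⟩
  · refine npc N inferInstance hNc ⟨_, Nat.eq_prime_pow_of_unique_prime_dvd Subgroup.index_ne_zero_of_finite
      fun {q} hq hd => le_antisymm (hle q hq hd) ?_⟩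
    rcases h with h | h
    · have hq2 := Cfsg.Agent.Solv.OddRankTwo.prime_ne_two hodd (hd.trans N.index_dvd_card)
      have := hq.two_le
      omega
    · exact h q hq (hd.trans N.index_dvd_card)
  · obtain ⟨a, ha⟩ := hQp.exists_card_eq
    exact npc M inferInstance hMc ⟨a, by rw [Subgroup.index_eq_card, ha]⟩
  · refine le_trans ?_ (Cfsg.Agent.Solv.le_pPrimeCore (N := M) hMc)
    refine Cfsg.Agent.Solv.le_of_coprime_index M ?_
    obtain ⟨a, ha⟩ := hQp.exists_card_eq
    rw [Subgroup.index_eq_card, ha]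
    exact hL.pow_right a
  · rw [pPrimePCore, Subgroup.index_comap_of_surjective _ (QuotientGroup.mk'_surjective _)]
    exact hidx

end Cfsg.Agent.S1450
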