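import Cfsg.Statements.S1451
import Cfsg.Agent.Lib.Solv.OddRankTwo

set_option autoImplicit false
open Cfsg

namespace Cfsg.Agent.S1451

/-- Let G be a solvable group of odd order such that G, or its Fitting subgroup, has no elementary abelian subgroup of order q ^ 3 for any prime q. Then G' is nilpotent; for every Sylow subgroup S of G, every characteristic subgroup T of S with T ≤ [S, S] is normal in G; and for every prime p, G has a characteristic subgroup that is a Hall subgroup for the set of primes greater than p. -/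
theorem result {G : Type*} [Group G] [Finite G] [Group.IsSolvable G] (hodd : Odd (Nat.card G)) (hr : Cfsg.RankLE 2 G ∨ Cfsg.RankLE 2 (Cfsg.fittingSubgroup G)) :
    Group.IsNilpotent ↥(commutator G) ∧
      (∀ (q : ℕ) [Fact q.Prime] (S : Sylow q G) (T : Subgroup ↥(S : Subgroup G)), T.Characteristic → T.map (S : Subgroup G).subtype ≤ ⁅(S : Subgroup G), (S : Subgroup G)⁆ →
        (T.map (S : Subgroup G).subtype).Normal) ∧
      ∀ p : ℕ, ∃ N : Subgroup G, N.Characteristic ∧ Cfsg.IsPiHall {q | q.Prime ∧ p < q} N := by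
  have hr' : ∀ q : ℕ, q.Prime → PRankLE q 2 (pCore q G) := by
    intro q hq A hAc hAe
    haveI : Fact q.Prime := ⟨hq⟩
    have hle : pCore q G ≤ fittingSubgroup G := Cfsg.Agent.Solv.pCore_le_fittingSubgroup q
    rcases hr with h | h
    · have := h q hq (A.map (pCore q G).subtype) ⟨⟨?_⟩⟩ ?_
      · rwa [Cfsg.Agent.Solv.card_map_subtype] at this
      · rintro ⟨_, a, ha, rfl⟩ ⟨_, b, hb, rfl⟩
        exact Subtype.ext (congrArg (fun x : A => (pCore q G).subtype x.1) (hAc.is_comm.comm ⟨a, ha⟩ ⟨b, hb⟩))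
      · rintro _ ⟨a, ha, rfl⟩
        rw [← map_pow, hAe a ha, map_one]
    · have := h q hq (A.map (Subgroup.inclusion hle)) ⟨⟨?_⟩⟩ ?_
      · rwa [Subgroup.card_map_of_injective (Subgroup.inclusion_injective hle)] at this
      · rintro ⟨_, a, ha, rfl⟩ ⟨_, b, hb, rfl⟩
        exact Subtype.ext (congrArg (fun x : A => Subgroup.inclusion hle x.1) (hAc.is_comm.comm ⟨a, ha⟩ ⟨b, hb⟩))
      · rintro _ ⟨a, ha, rfl⟩
        rw [← map_pow, hAe a ha, map_one]
  have hF := Cfsg.Agent.Solv.OddRankTwo.commutator_le_fitting hodd hr'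
  refine ⟨?_, fun q _ S T hT hle => Cfsg.Agent.Solv.OddRankTwo.normal_of_char_le_commutator hF S T hT hle,
    Cfsg.Agent.Solv.OddRankTwo.hall_gt hodd hr' hF⟩
  haveI := Cfsg.Agent.Solv.fittingSubgroup_isNilpotent G
  exact Group.nilpotent_of_surjective (Subgroup.subgroupOfEquivOfLe hF).toMonoidHom
    (Subgroup.subgroupOfEquivOfLe hF).surjective

end Cfsg.Agent.S1451
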