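import Cfsg.Statements.S1452
import Cfsg.Agent.Lib.Solv.NarrowBasic

set_option autoImplicit false
open Cfsg

namespace Cfsg.Agent.S1452

/-- Let p be an odd prime and R a finite p-group containing an elementary abelian subgroup of order p ^ 3. If E is a normal elementary abelian subgroup of R of order p ^ 2, then E ≤ A for some normal subgroup A of R with C_R(A) = A that contains an elementary abelian subgroup of order p ^ 3. -/
theorem result {R : Type*} [Group R] [Finite R] (p : ℕ) [Fact p.Prime] (hp : p ≠ 2) (hR : IsPGroup p R) (hr : ¬ Cfsg.PRankLE p 2 R)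
    (E : Subgroup R) [E.Normal] (hE : Cfsg.IsElementaryAbelian p E) (hE2 : Nat.card E = p ^ 2) :
    ∃ A : Subgroup R, E ≤ A ∧ A.Normal ∧ Subgroup.centralizer (A : Set R) = A ∧ ¬ Cfsg.PRankLE p 2 A := by
  obtain ⟨M, hMn, hEM, hMe, hM3⟩ := Cfsg.Agent.Solv.NarrowBasic.exists_normal_cube_containing hp hR hr E hE hE2
  obtain ⟨A, hMA, hAn, hAc, hAsc⟩ := Cfsg.Agent.Solv.NarrowBasic.exists_selfCentralizing_ge hR M hMn
    (fun x hx y hy => congrArg Subtype.val (hMe.1.is_comm.comm ⟨x, hx⟩ ⟨y, hy⟩))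
  refine ⟨A, hEM.trans hMA, hAn, le_antisymm (fun x hx => hAsc x fun y hy => (hx y hy).symm)
    (fun x hx y hy => (hAc y hy x hx).eq), fun hle => ?_⟩
  have h := hle (M.subgroupOf A) ⟨⟨fun a b => Subtype.ext (Subtype.ext
      (congrArg Subtype.val (hMe.1.is_comm.comm ⟨_, Subgroup.mem_subgroupOf.1 a.2⟩ ⟨_, Subgroup.mem_subgroupOf.1 b.2⟩) : _))⟩⟩
    (fun a ha => Subtype.ext (hMe.2 _ (Subgroup.mem_subgroupOf.1 ha)))
  rw [Nat.card_congr (Subgroup.subgroupOfEquivOfLe hMA).toEquiv, hM3] at h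
  have := Nat.pow_lt_pow_right (Fact.out : p.Prime).one_lt (show 2 < 3 by norm_num)
  omega

end Cfsg.Agent.S1452
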