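import Cfsg.Statements.S1455
import Cfsg.Agent.Lib.Solv.OddFitting
import Cfsg.Agent.Lib.Solv.PLength

set_option autoImplicit false
open Cfsg

namespace Cfsg.Agent.S1455

/-- Let G be a solvable group of odd order, p a prime dividing its order, and S a Sylow p-subgroup of G that is narrow; if S has an elementary abelian subgroup of order p ^ 3 assume also G = O_{p',p,p'}(G). Then every prime dividing the index of O_{p'}(G) is at most p; if p = 3 or p is the smallest prime divisor of #G then G has a normal p-complement; G' has a normal p-complement; every subgroup of G' of order coprime to p lies in O_{p'}(G'); and G' ≤ O_{p',p}(G) with the index of O_{p',p}(G) coprime to p. -/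
theorem result {G : Type*} [Group G] [Finite G] [Group.IsSolvable G] (hodd : Odd (Nat.card G)) (p : ℕ) [Fact p.Prime] (hpG : p ∣ Nat.card G) (S : Sylow p G) (hS : Cfsg.IsNarrow p ↥(S : Subgroup G))
    (hpl : ¬ Cfsg.PRankLE p 2 ↥(S : Subgroup G) → Cfsg.PLengthLE p 1 G) :
    (∀ q : ℕ, q.Prime → q ∣ (Cfsg.pPrimeCore p G).index → q ≤ p) ∧
      ((p = 3 ∨ ∀ q : ℕ, q.Prime → q ∣ Nat.card G → p ≤ q) → Cfsg.HasNormalPComplement p G) ∧
      Cfsg.HasNormalPComplement p ↥(commutator G) ∧
      (∀ L : Subgroup ↥(commutator G), (Nat.card L).Coprime p → L ≤ Cfsg.pPrimeCore p ↥(commutator G)) ∧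
      commutator G ≤ Cfsg.pPrimePCore p G ∧ ((Cfsg.pPrimePCore p G).index).Coprime p := by
  have hp : p ≠ 2 := Cfsg.Agent.Solv.OddRankTwo.prime_ne_two hodd hpG
  refine Cfsg.Agent.Solv.OddNarrow.structure_of_action hodd fun f => ?_
  set N := pPrimeCore p G with hN
  have hoddQ : Odd (Nat.card (G ⧸ N)) := hodd.of_dvd_nat (Subgroup.card_quotient_dvd_card N)
  haveI : Group.IsSolvable (G ⧸ N) := Group.isSolvable_of_surjective (QuotientGroup.mk'_surjective N)
  have hP0 := Cfsg.Agent.Solv.isPGroup_pCore p (G ⧸ N)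
  by_cases hr : PRankLE p 2 ↥(S : Subgroup G)
  · have hrG : PRankLE p 2 G := by
      intro A hAc hAe
      have hAp : IsPGroup p A := fun a => ⟨1, Subtype.ext (by rw [pow_one]; exact hAe a a.2)⟩
      obtain ⟨T, hT⟩ := hAp.exists_le_sylow
      obtain ⟨g, hg⟩ := MulAction.exists_smul_eq G T S
      let u : A →* (S : Subgroup G) :=
        { toFun := fun a => ⟨MulAut.conj g a, by
            rw [← hg, Sylow.coe_subgroup_smul]
            exact Subgroup.smul_mem_pointwise_smul _ _ _ (hT a.2)⟩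
          map_one' := Subtype.ext (map_one _)
          map_mul' := fun a b => Subtype.ext (map_mul (MulAut.conj g) (a : G) (b : G)) }
      have hu : Function.Injective u := fun a b h => Subtype.ext ((MulAut.conj g).injective (congrArg Subtype.val h))
      have := hr u.range ⟨⟨?_⟩⟩ ?_
      · rwa [← Nat.card_congr (MonoidHom.ofInjective hu).toEquiv] at this
      · rintro ⟨_, a, rfl⟩ ⟨_, b, rfl⟩
        exact Subtype.ext (((map_mul u a b).symm.trans (congrArg u (hAc.is_comm.comm a b))).trans (map_mul u b a))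
      · rintro _ ⟨a, rfl⟩
        rw [← map_pow, show a ^ p = 1 from Subtype.ext (hAe a a.2), map_one]
    refine Cfsg.Agent.Solv.OddRankTwo.rank_two_action hp hP0 (fun A hAc hAe => ?_) hoddQ f
    have := Cfsg.Agent.Solv.OddRankTwo.prankLE_quotient hrG N (Cfsg.Agent.Solv.card_pPrimeCore_coprime p G)
      (A.map (pCore p (G ⧸ N)).subtype) ⟨⟨?_⟩⟩ ?_
    · rwa [Cfsg.Agent.Solv.card_map_subtype] at this
    · rintro ⟨_, a, ha, rfl⟩ ⟨_, b, hb, rfl⟩
      exact Subtype.ext (congrArg (fun x : A => (pCore p (G ⧸ N)).subtype x.1) (hAc.is_comm.comm ⟨a, ha⟩ ⟨b, hb⟩))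
    · rintro _ ⟨a, ha, rfl⟩
      rw [← map_pow, hAe a ha, map_one]
  -- `p`-length one: `S` maps onto `O_p`
  have hidx : (pCore p (G ⧸ N)).index.Coprime p := by
    set L1 := Cfsg.upperPSeries p G 1
    haveI : L1.1.Normal := L1.2
    set L2 := Cfsg.upperPSeries p G 2
    haveI : L2.1.Normal := L2.2
    have hL2e : L2.1 = (pCore p (G ⧸ L1.1)).comap (QuotientGroup.mk' L1.1) := rfl
    have e1 : L1.1 = (pPrimeCore p (G ⧸ (⊥ : Subgroup G))).comap (QuotientGroup.mk' ⊥) := rfl
    have hL1 : L1.1 = N := by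
      refine le_antisymm (Cfsg.Agent.Solv.le_pPrimeCore (N := L1.1) ?_) ?_
      · rw [e1, Cfsg.Agent.Solv.card_comap_mk', Subgroup.card_bot, one_mul]
        exact Cfsg.Agent.Solv.card_pPrimeCore_coprime p _
      · rw [e1, ← Subgroup.map_le_iff_le_comap]
        exact Cfsg.Agent.Solv.map_pPrimeCore_le_of_surjective p _ (QuotientGroup.mk'_surjective _)
    have key : ∀ (N' : Subgroup G) [N'.Normal], N' = L1.1 → (pCore p (G ⧸ N')).index.Coprime p := by
      intro N' _ hN'
      subst hN'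
      have e : (pPrimeCore p (G ⧸ L2.1)).comap (QuotientGroup.mk' L2.1) = ⊤ := hpl hr
      have h1 : pPrimeCore p (G ⧸ L2.1) = ⊤ := by
        refine eq_top_iff.2 fun x _ => ?_
        obtain ⟨g, rfl⟩ := QuotientGroup.mk'_surjective L2.1 x
        exact (Subgroup.eq_top_iff' _).1 e g
      have h2 := Cfsg.Agent.Solv.card_pPrimeCore_coprime p (G ⧸ L2.1)
      rwa [h1, Subgroup.card_top, ← Subgroup.index_eq_card, hL2e,
        Subgroup.index_comap_of_surjective _ (QuotientGroup.mk'_surjective _)] at h2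
    exact key N hL1.symm
  have hST : (S : Subgroup G).map (QuotientGroup.mk' N) = pCore p (G ⧸ N) := by
    have h1 := (hP0.toSylow ((Fact.out : p.Prime).coprime_iff_not_dvd.1 hidx.symm)).3 (S.2.map (QuotientGroup.mk' N))
      (Cfsg.Agent.Solv.pCore_le_sylow (S.mapSurjective (QuotientGroup.mk'_surjective N)))
    rw [h1, IsPGroup.toSylow_coe]
  let φ : (S : Subgroup G) →* pCore p (G ⧸ N) :=
    ((QuotientGroup.mk' N).comp (S : Subgroup G).subtype).codRestrict _ fun x => hST ▸ Subgroup.mem_map_of_mem _ x.2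
  have hφ : Function.Bijective φ := by
    refine ⟨(injective_iff_map_eq_one φ).2 fun x hx => ?_, fun y => ?_⟩
    · have h1 : (x : G) ∈ N := (QuotientGroup.eq_one_iff _).1 (congrArg Subtype.val hx)
      have h2 : (S : Subgroup G) ⊓ N = ⊥ := Cfsg.Agent.Solv.inf_eq_bot_of_isPGroup S.isPGroup'
        (Cfsg.Agent.Solv.card_pPrimeCore_coprime p G)
      exact Subtype.ext (Subgroup.mem_bot.1 (h2 ▸ Subgroup.mem_inf.2 ⟨x.2, h1⟩))
    · obtain ⟨x, hx, hxy⟩ := hST.ge y.2
      exact ⟨⟨x, hx⟩, Subtype.ext hxy⟩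
  let c := MulAut.congr (MulEquiv.ofBijective φ hφ).symm
  obtain ⟨h1, h2⟩ := Cfsg.Agent.Solv.OddNarrow.action_of_narrow hp S.isPGroup' hS hoddQ (c.toMonoidHom.comp f)
  have ho : ∀ w, orderOf (c.toMonoidHom.comp f w) = orderOf (f w) := fun w => MulEquiv.orderOf_eq c (f w)
  exact ⟨fun w hw q hq hd => h1 w hw q hq (ho w ▸ hd), fun w q hq hd => h2 w q hq (ho w ▸ hd)⟩

end Cfsg.Agent.S1455
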