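import Cfsg.Statements.S1456
import Cfsg.Agent.Lib.Solv.OddFitting

set_option autoImplicit false
open Cfsg

namespace Cfsg.Agent.S1456

/-- Let G be a solvable group of odd order, p a prime, and E an elementary abelian p-subgroup of the Fitting subgroup F(G) such that F(G) ∩ C_G(E) has no elementary abelian subgroup of order q ^ 3 for any prime q. Then the derived subgroup of G is contained in F(G). -/
theorem result {G : Type*} [Group G] [Finite G] [Group.IsSolvable G] (hodd : Odd (Nat.card G)) (p : ℕ) [Fact p.Prime] (E : Subgroup G) (hE : E ≤ Cfsg.fittingSubgroup G) (hEe : Cfsg.IsElementaryAbelian p E)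
    (hr : Cfsg.RankLE 2 ↥(Cfsg.fittingSubgroup G ⊓ Subgroup.centralizer (E : Set G))) :
    commutator G ≤ Cfsg.fittingSubgroup G := by
  haveI := Cfsg.Agent.Solv.fittingSubgroup_isNilpotent G
  refine Cfsg.Agent.Solv.OddRankTwo.commutator_le_fitting_of_action hodd fun r hr0 hd f => ?_
  haveI : Fact r.Prime := ⟨hr0⟩
  have hr2 := Cfsg.Agent.Solv.OddRankTwo.prime_ne_two hodd hd
  have hP := Cfsg.Agent.Solv.isPGroup_pCore r G
  have hPF : pCore r G ≤ fittingSubgroup G := Cfsg.Agent.Solv.pCore_le_fittingSubgroup r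
  set C := fittingSubgroup G ⊓ Subgroup.centralizer (E : Set G) with hC
  -- elementary subgroups of `O_r` centralizing `E` are small
  have hsmall : ∀ A : Subgroup (pCore r G), IsElementaryAbelian r A →
      (∀ a ∈ A, ∀ b ∈ E, Commute (a : G) b) → Nat.card A ≤ r ^ 2 := by
    intro A hA hAE
    let g : A →* C :=
      { toFun := fun a => ⟨((a : pCore r G) : G), hPF (a : pCore r G).2,
          Subgroup.mem_centralizer_iff.2 fun b hb => (hAE a a.2 b hb).eq.symm⟩
        map_one' := rfl
        map_mul' := fun a b => rfl }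
    have hg : Function.Injective g := fun a b h => Subtype.ext (Subtype.ext (congrArg (fun z : C => (z : G)) h))
    have := hr r hr0 g.range ⟨⟨?_⟩⟩ ?_
    · rwa [← Nat.card_congr (MonoidHom.ofInjective hg).toEquiv] at this
    · rintro ⟨_, a, rfl⟩ ⟨_, b, rfl⟩
      exact Subtype.ext (((map_mul g a b).symm.trans (congrArg g (hA.1.is_comm.comm a b))).trans (map_mul g b a))
    · rintro _ ⟨a, rfl⟩
      rw [← map_pow, show a ^ r = 1 from Subtype.ext (hA.2 a a.2), map_one]
  have hEp : E ≤ pCore p G := by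
    have hEpg : IsPGroup p E := fun a => ⟨1, Subtype.ext (by rw [pow_one]; exact hEe.2 a a.2)⟩
    obtain ⟨Q⟩ := Sylow.nonempty (p := p) (G := fittingSubgroup G)
    haveI hQn : (Q : Subgroup (fittingSubgroup G)).Normal :=
      ((Group.isNilpotent_of_finite_tfae (G := fittingSubgroup G)).out 0 3 rfl rfl).mp inferInstance p inferInstance Q
    have hq : (Q : Subgroup (fittingSubgroup G)) ≤ pCore p (fittingSubgroup G) := Cfsg.Agent.Solv.le_pCore Q.isPGroup'
    obtain ⟨Q', hQ'⟩ := (hEpg.comap_subtype (K := fittingSubgroup G)).exists_le_sylow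
    haveI : Unique (Sylow p (fittingSubgroup G)) := Sylow.unique_of_normal Q hQn
    rw [Subsingleton.elim Q' Q] at hQ'
    intro x hx
    have hx' : (⟨x, hE hx⟩ : fittingSubgroup G) ∈ pCore p (fittingSubgroup G) := hq (hQ' hx)
    have := Subgroup.mem_map_of_mem (fittingSubgroup G).subtype hx'
    rw [Cfsg.Agent.Solv.pCore_map_subtype] at this
    exact this.1
  by_cases hrp : r = p
  · subst hrp
    refine (Cfsg.Agent.Solv.OddNarrow.action_of_pair hr2 hP (E.subgroupOf (pCore r G))
      ⟨⟨⟨fun a b => Subtype.ext (Subtype.ext (show ((a : pCore r G) : G) * ((b : pCore r G) : G) =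
          ((b : pCore r G) : G) * ((a : pCore r G) : G) from congrArg Subtype.val
        (hEe.1.is_comm.comm (⟨_, Subgroup.mem_subgroupOf.1 a.2⟩ : E) (⟨_, Subgroup.mem_subgroupOf.1 b.2⟩ : E))))⟩⟩,
        fun a ha => Subtype.ext (hEe.2 _ (Subgroup.mem_subgroupOf.1 ha))⟩
      (fun A hA hAE => hsmall A hA fun a ha b hb => congrArg Subtype.val
        (hAE a ha ⟨b, hEp hb⟩ (Subgroup.mem_subgroupOf.2 hb)).eq) hodd f).1
  · refine (Cfsg.Agent.Solv.OddRankTwo.rank_two_action hr2 hP (fun A hAc hAe => hsmall A ⟨hAc, hAe⟩ ?_) hodd f).1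
    intro a _ b hb
    have h0 : ⁅pCore r G, pCore p G⁆ = ⊥ := Subgroup.commutator_eq_bot_of_disjoint (disjoint_iff.2
      (Cfsg.Agent.Solv.inf_eq_bot_of_isPGroup hP (by
        obtain ⟨k, hk⟩ := (Cfsg.Agent.Solv.isPGroup_pCore p G).exists_card_eq
        rw [hk]
        exact ((Nat.coprime_primes Fact.out hr0).2 (Ne.symm hrp)).pow_left k)))
    exact commutatorElement_eq_one_iff_mul_comm.1
      (Subgroup.mem_bot.1 (h0 ▸ Subgroup.commutator_mem_commutator a.2 (hEp hb)))

end Cfsg.Agent.S1456
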