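import Cfsg.Statements.S1457
import Cfsg.Agent.Lib.Solv.OddStable

set_option autoImplicit false
open Cfsg

namespace Cfsg.Agent.S1457

/-- Let G be a solvable group of odd order, p a prime, S a Sylow p-subgroup of G and A an abelian subgroup of S normal in S. Then A ≤ O_{p',p}(G). -/
theorem result {G : Type*} [Group G] [Finite G] [Group.IsSolvable G] (hodd : Odd (Nat.card G)) (p : ℕ) [Fact p.Prime] (S : Sylow p G) (A : Subgroup G) (hA : A ≤ (S : Subgroup G)) (hAc : IsMulCommutative A)
    (hAn : (S : Subgroup G) ≤ Subgroup.normalizer (A : Set G)) :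
    A ≤ Cfsg.pPrimePCore p G := by
  rcases eq_or_ne p 2 with rfl | hp
  · intro a ha
    have h1 : orderOf a ∣ Nat.card ↥(S : Subgroup G) := Subgroup.orderOf_dvd_natCard _ (hA ha)
    obtain ⟨k, hk⟩ := S.2.exists_card_eq
    rw [hk] at h1
    obtain ⟨j, -, hj⟩ := (Nat.dvd_prime_pow Nat.prime_two).mp h1
    have h2 : Odd (orderOf a) := hodd.of_dvd_nat (orderOf_dvd_natCard a)
    rw [hj] at h2
    have hj0 : j = 0 := by
      by_contra hne
      exact (Nat.not_odd_iff_even.mpr ((Nat.even_pow' hne).mpr even_two)) h2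
    rw [hj0, pow_zero, orderOf_eq_one_iff] at hj
    rw [hj]; exact one_mem _
  · exact Cfsg.Agent.Solv.OddStable.abelian_normal_sylow hodd hp S A hA hAc hAn

end Cfsg.Agent.S1457
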