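import Cfsg.Statements.S1461
import Cfsg.Agent.Lib.Solv.SupplementFusion

set_option autoImplicit false
open Cfsg Cfsg.Agent

namespace Cfsg.Agent.S1461

/-- Let G be a finite solvable group, p a prime with G = O_{p',p,p'}(G), and S a Sylow p-subgroup. Then: if S ≤ G' then S ≤ [N_G(S), N_G(S)]; if Y ⊆ S and xYx⁻¹ ⊆ S then x = g c for some g ∈ N_G(S) and c centralizing Y; and for every p-subgroup Q there is x ∈ C_G(Q ∩ S) with xQx⁻¹ ≤ S. -/
theorem result {G : Type*} [Group G] [Finite G] [Group.IsSolvable G] (p : ℕ) [Fact p.Prime] (hpl : Cfsg.PLengthLE p 1 G) (S : Sylow p G) :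
    ((S : Subgroup G) ≤ commutator G → (S : Subgroup G) ≤ ⁅Subgroup.normalizer ((S : Subgroup G) : Set G), Subgroup.normalizer ((S : Subgroup G) : Set G)⁆) ∧
      (∀ (Y : Set G) (x : G), Y ⊆ (S : Subgroup G) → (fun y => x * y * x⁻¹) '' Y ⊆ (S : Subgroup G) →
        ∃ g ∈ Subgroup.normalizer ((S : Subgroup G) : Set G), ∃ c ∈ Subgroup.centralizer Y, g * c = x) ∧
      ∀ Q : Subgroup G, IsPGroup p Q → ∃ x ∈ Subgroup.centralizer ((Q ⊓ (S : Subgroup G) : Subgroup G) : Set G), Q.map (MulAut.conj x).toMonoidHom ≤ (S : Subgroup G) := by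
  classical
  set L1 := Cfsg.upperPSeries p G 1
  haveI : L1.1.Normal := L1.2
  set f := QuotientGroup.mk' L1.1
  have hf : Function.Surjective f := QuotientGroup.mk'_surjective _
  set L2 := Cfsg.upperPSeries p G 2 with hL2
  haveI : L2.1.Normal := L2.2
  have hL2e : L2.1 = (Cfsg.pCore p (G ⧸ L1.1)).comap f := rfl
  -- the factors
  have hK : (Nat.card L1.1).Coprime p := by
    have e : L1.1 = (Cfsg.pPrimeCore p (G ⧸ (⊥ : Subgroup G))).comap (QuotientGroup.mk' ⊥) := rfl
    rw [e, Solv.card_comap_mk', Subgroup.card_bot, one_mul]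
    exact Solv.card_pPrimeCore_coprime p _
  have hidx : L2.1.index.Coprime p := by
    have e : (Cfsg.pPrimeCore p (G ⧸ L2.1)).comap (QuotientGroup.mk' L2.1) = ⊤ := hpl
    have h1 : Cfsg.pPrimeCore p (G ⧸ L2.1) = ⊤ := by
      refine eq_top_iff.2 fun x _ => ?_
      obtain ⟨g, rfl⟩ := QuotientGroup.mk'_surjective L2.1 x
      exact (Subgroup.eq_top_iff' _).1 e g
    have h2 := Solv.card_pPrimeCore_coprime p (G ⧸ L2.1)
    rwa [h1, Subgroup.card_top, ← Subgroup.index_eq_card] at h2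
  -- the Sylow subgroup covers the middle factor
  have hST : (S : Subgroup G).map f = Cfsg.pCore p (G ⧸ L1.1) := by
    have hnd : ¬ p ∣ (Cfsg.pCore p (G ⧸ L1.1)).index := by
      rw [hL2e, Subgroup.index_comap_of_surjective _ hf] at hidx
      exact (Fact.out : p.Prime).coprime_iff_not_dvd.1 hidx.symm
    have h1 := ((Solv.isPGroup_pCore p (G ⧸ L1.1)).toSylow hnd).3 (S.2.map f)
      (Solv.pCore_le_sylow (S.mapSurjective hf))
    rw [h1, IsPGroup.toSylow_coe]
  have hSK : L2.1 = L1.1 ⊔ (S : Subgroup G) := by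
    rw [hL2e, ← hST, Subgroup.comap_map_eq, QuotientGroup.ker_mk', sup_comm]
  set U := Subgroup.normalizer ((S : Subgroup G) : Set G)
  have hKU : L1.1 ⊔ U = ⊤ := by
    have h1 := Sylow.normalizer_sup_eq_top' S (show (S : Subgroup G) ≤ L2.1 from hSK ▸ le_sup_right)
    rw [eq_top_iff]
    refine h1.symm.le.trans (sup_le le_sup_right ?_)
    rw [hSK]
    exact sup_le_sup_left Subgroup.le_normalizer _
  have hcop : ∀ H : Subgroup G, H ≤ (S : Subgroup G) → (Nat.card H).Coprime (Nat.card L1.1) := by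
    intro H hH
    obtain ⟨k, hk⟩ := IsPGroup.iff_card.1 (S.2.to_le hH)
    rw [hk]
    exact hK.symm.pow_left k
  refine ⟨fun hle => ?_, fun Y x hY hxY => ?_, fun Q hQ => ?_⟩
  · have h1 := Solv.SupplementFusion.inf_commutator L1.1 U S hKU Subgroup.le_normalizer (hcop _ le_rfl)
    rw [inf_eq_left.2 hle] at h1
    exact inf_eq_left.1 h1.symm
  · have hH : Subgroup.closure Y ≤ (S : Subgroup G) := (Subgroup.closure_le _).2 hY
    have hx : (Subgroup.closure Y).map (MulAut.conj x).toMonoidHom ≤ U := by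
      rw [MonoidHom.map_closure, Subgroup.closure_le]
      exact fun z hz => Subgroup.le_normalizer (hxY hz)
    obtain ⟨u, hu, c, hc, he⟩ := Solv.SupplementFusion.exists_factor L1.1 U _ hKU (hH.trans Subgroup.le_normalizer) (hcop _ hH) hx
    exact ⟨u, hu, c, Subgroup.mem_centralizer_iff.2 fun y hy => Subgroup.mem_centralizer_iff.1 hc.2 y (Subgroup.subset_closure hy), he.symm⟩
  · obtain ⟨T, hT⟩ := hQ.exists_le_sylow
    obtain ⟨g, hg⟩ := MulAction.exists_smul_eq G T S
    have hgQ : ∀ q ∈ Q, g * q * g⁻¹ ∈ (S : Subgroup G) := fun q hq => by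
      rw [← hg]; exact Subgroup.smul_mem_pointwise_smul q (MulAut.conj g) _ (hT hq)
    have hH : Q ⊓ (S : Subgroup G) ≤ (S : Subgroup G) := inf_le_right
    obtain ⟨u, hu, c, hc, he⟩ := Solv.SupplementFusion.exists_factor L1.1 U (Q ⊓ (S : Subgroup G)) hKU (hH.trans Subgroup.le_normalizer)
      (hcop _ hH) (g := g) (by rintro _ ⟨q, hq, rfl⟩; exact Subgroup.le_normalizer (hgQ q hq.1))
    refine ⟨c, hc.2, ?_⟩
    rintro _ ⟨q, hq, rfl⟩
    show c * q * c⁻¹ ∈ (S : Subgroup G)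
    have h1 := hgQ q hq
    rw [he] at h1
    have h2 : u * (c * q * c⁻¹) * u⁻¹ ∈ (S : Subgroup G) := by simpa [mul_assoc] using h1
    exact (Subgroup.mem_normalizer_iff.1 hu _).2 h2

end Cfsg.Agent.S1461
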