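import Cfsg.Statements.S1462
import Cfsg.Agent.Lib.Solv.MaximalElementary

set_option autoImplicit false
open Cfsg Cfsg.Agent

namespace Cfsg.Agent.S1462

/-- Let G be a finite solvable group, p an odd prime with G = O_{p',p,p'}(G), E an elementary abelian p-subgroup contained in no larger elementary abelian p-subgroup of G, and L a subgroup of order coprime to p normalized by E. Then L ≤ O_{p'}(G). -/
theorem result {G : Type*} [Group G] [Finite G] [Group.IsSolvable G] (p : ℕ) [Fact p.Prime] (hp : p ≠ 2) (hpl : Cfsg.PLengthLE p 1 G) (E L : Subgroup G) (hE : Cfsg.IsElementaryAbelian p E)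
    (hEmax : ∀ B : Subgroup G, Cfsg.IsElementaryAbelian p B → E ≤ B → B = E) (hL : (Nat.card L).Coprime p) (hEL : E ≤ Subgroup.normalizer (L : Set G)) :
    L ≤ Cfsg.pPrimeCore p G := by
  classical
  have hEp : IsPGroup p E := fun x => ⟨1, Subtype.ext (by rw [SubmonoidClass.coe_pow, pow_one, hE.2 x x.2]; rfl)⟩
  obtain ⟨S, hES⟩ := hEp.exists_le_sylow
  set L1 := Cfsg.upperPSeries p G 1
  haveI : L1.1.Normal := L1.2
  set f := QuotientGroup.mk' L1.1
  have hf : Function.Surjective f := QuotientGroup.mk'_surjective _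
  set L2 := Cfsg.upperPSeries p G 2
  haveI : L2.1.Normal := L2.2
  have hL2e : L2.1 = (Cfsg.pCore p (G ⧸ L1.1)).comap f := rfl
  have hK : (Nat.card L1.1).Coprime p := by
    have e : L1.1 = (Cfsg.pPrimeCore p (G ⧸ (⊥ : Subgroup G))).comap (QuotientGroup.mk' ⊥) := rfl
    rw [e, Solv.card_comap_mk', Subgroup.card_bot, one_mul]
    exact Solv.card_pPrimeCore_coprime p _
  have hidx : (Cfsg.pCore p (G ⧸ L1.1)).index.Coprime p := by
    have e : (Cfsg.pPrimeCore p (G ⧸ L2.1)).comap (QuotientGroup.mk' L2.1) = ⊤ := hpl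
    have h1 : Cfsg.pPrimeCore p (G ⧸ L2.1) = ⊤ := by
      refine eq_top_iff.2 fun x _ => ?_
      obtain ⟨g, rfl⟩ := QuotientGroup.mk'_surjective L2.1 x
      exact (Subgroup.eq_top_iff' _).1 e g
    have h2 := Solv.card_pPrimeCore_coprime p (G ⧸ L2.1)
    rwa [h1, Subgroup.card_top, ← Subgroup.index_eq_card, hL2e, Subgroup.index_comap_of_surjective _ hf] at h2
  set P := Cfsg.pCore p (G ⧸ L1.1)
  have hST : (S : Subgroup G).map f = P := by
    have h1 := ((Solv.isPGroup_pCore p (G ⧸ L1.1)).toSylow ((Fact.out : p.Prime).coprime_iff_not_dvd.1 hidx.symm)).3 (S.2.map f)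
      (Solv.pCore_le_sylow (S.mapSurjective hf))
    rw [h1, IsPGroup.toSylow_coe]
  have hinj : ∀ s ∈ (S : Subgroup G), f s = 1 → s = 1 := fun s hs h => by
    obtain ⟨k, hk⟩ := IsPGroup.iff_orderOf.1 S.2 ⟨s, hs⟩
    rw [Subgroup.orderOf_mk] at hk
    have h1 := hK.coprime_dvd_left (Subgroup.orderOf_dvd_natCard _ ((QuotientGroup.eq_one_iff s).1 h))
    exact orderOf_eq_one_iff.1 (Nat.eq_one_of_dvd_coprimes (h1.pow_right k) dvd_rfl (dvd_of_eq hk))
  have hEc : Cfsg.IsElementaryAbelian p (E.map f) := by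
    refine ⟨⟨⟨?_⟩⟩, ?_⟩
    · rintro ⟨_, a, ha, rfl⟩ ⟨_, b, hb, rfl⟩
      refine Subtype.ext ?_
      show f a * f b = f b * f a
      rw [← map_mul, ← map_mul, show a * b = b * a from congrArg Subtype.val (hE.1.is_comm.comm (⟨a, ha⟩ : E) ⟨b, hb⟩)]
    · rintro _ ⟨a, ha, rfl⟩
      rw [← map_pow, hE.2 a ha, map_one]
  have hEP : E.map f ≤ P := hST ▸ Subgroup.map_mono hES
  have hLE : E.map f ≤ Subgroup.centralizer ((L.map f : Subgroup _) : Set (G ⧸ L1.1)) := by
    rintro _ ⟨e, he, rfl⟩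
    rw [Subgroup.mem_centralizer_iff]
    rintro _ ⟨l, hl, rfl⟩
    have h1 : f l * f e * (f l)⁻¹ * (f e)⁻¹ ∈ P ⊓ L.map f := by
      refine ⟨P.mul_mem (Subgroup.Normal.conj_mem inferInstance _ (hEP ⟨e, he, rfl⟩) _) (P.inv_mem (hEP ⟨e, he, rfl⟩)),
        ⟨l * (e * l⁻¹ * e⁻¹), L.mul_mem hl ((Subgroup.mem_normalizer_iff.1 (hEL he) _).1 (L.inv_mem hl)), ?_⟩⟩
      simp only [map_mul, map_inv, mul_assoc]
    obtain ⟨k, hk⟩ := IsPGroup.iff_card.1 (Solv.isPGroup_pCore p (G ⧸ L1.1))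
    rw [Subgroup.inf_eq_bot_of_coprime (hk ▸ (Nat.Coprime.coprime_dvd_left (Subgroup.card_map_dvd _ _) hL).symm.pow_left k),
      Subgroup.mem_bot, mul_inv_eq_one, mul_inv_eq_iff_eq_mul] at h1
    exact h1
  have hPL := Solv.MaximalElementary.le_centralizer hp P (L.map f) (E.map f) (Solv.isPGroup_pCore p _)
    (hL.coprime_dvd_left (Subgroup.card_map_dvd _ _)) hEc hEP Subgroup.le_normalizer_of_normal hLE (by
      intro x hx hxp hxc
      obtain ⟨s, hs, rfl⟩ := Subgroup.mem_map.1 (hST.symm ▸ hx : x ∈ (S : Subgroup G).map f)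
      have hsp : s ^ p = 1 := hinj _ (Subgroup.pow_mem _ hs p) (by rw [map_pow, hxp])
      have hsc : ∀ e ∈ E, e * s = s * e := fun e he => by
        have h1 := hxc _ ⟨e, he, rfl⟩
        have h2 := hinj (e * s * (s * e)⁻¹) (Subgroup.mul_mem _ (Subgroup.mul_mem _ (hES he) hs)
          (Subgroup.inv_mem _ (Subgroup.mul_mem _ hs (hES he)))) (by rw [map_mul, map_inv, map_mul, map_mul, h1, mul_inv_cancel])
        exact mul_inv_eq_one.1 h2
      refine ⟨s, ?_, rfl⟩
      rw [SetLike.mem_coe, ← hEmax _ (Solv.MaximalElementary.isElementaryAbelian_sup hE hsp hsc) le_sup_left]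
      exact Subgroup.mem_sup_right (Subgroup.mem_zpowers s))
  have hC : Subgroup.centralizer (P : Set (G ⧸ L1.1)) ≤ P := by
    have h1 : Cfsg.pPrimeCore p (G ⧸ L1.1) = ⊥ := by
      have e : L1.1 = Cfsg.pPrimeCore p G := le_antisymm (Solv.le_pPrimeCore hK) (by
        intro x hx
        show QuotientGroup.mk' (⊥ : Subgroup G) x ∈ Cfsg.pPrimeCore p (G ⧸ (⊥ : Subgroup G))
        haveI : ((Cfsg.pPrimeCore p G).map (QuotientGroup.mk' (⊥ : Subgroup G))).Normal :=
          Subgroup.Normal.map inferInstance _ (QuotientGroup.mk'_surjective _)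
        exact Solv.le_pPrimeCore ((Solv.card_pPrimeCore_coprime p G).coprime_dvd_left (Subgroup.card_map_dvd _ _)) ⟨x, hx, rfl⟩)
      have key : ∀ (K : Subgroup G) [K.Normal], K = Cfsg.pPrimeCore p G → Cfsg.pPrimeCore p (G ⧸ K) = ⊥ := by
        rintro K _ rfl
        exact Solv.pPrimeCore_quotient_pPrimeCore p
      exact key _ e
    exact Solv.centralizer_pCore_le_of_isSolvable h1
  intro l hl
  have hl' : f l = 1 := by
    obtain ⟨k, hk⟩ := IsPGroup.iff_card.1 (Solv.isPGroup_pCore p (G ⧸ L1.1))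
    have h1 : f l ∈ P ⊓ L.map f := ⟨hC (hPL ⟨l, hl, rfl⟩), ⟨l, hl, rfl⟩⟩
    rwa [Subgroup.inf_eq_bot_of_coprime (hk ▸ (Nat.Coprime.coprime_dvd_left (Subgroup.card_map_dvd _ _) hL).symm.pow_left k),
      Subgroup.mem_bot] at h1
  exact Solv.le_pPrimeCore hK ((QuotientGroup.eq_one_iff l).1 hl')

end Cfsg.Agent.S1462
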