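import Cfsg.Statements.S1470
import Mathlib

set_option autoImplicit false
open Cfsg

namespace Cfsg.Agent.S1470

/-- Let p and q be odd primes with (p^q − 1)/(p − 1) coprime to p − 1, and let E be the set of elements a of the field with p ^ q elements whose norm to the prime field is 1 and for which 2 − a also has norm 1. If a⁻¹ ∈ E for every a ∈ E and E has at least two elements, then p ≤ q. -/
theorem result (p q : ℕ) [Fact p.Prime] [Fact q.Prime] (hp : p ≠ 2) (hq : q ≠ 2) (hA : Nat.Coprime ((p ^ q - 1) / (p - 1)) (p - 1))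
    (hinv : ∀ a ∈ {a : GaloisField p q | Algebra.norm (ZMod p) a = 1 ∧ Algebra.norm (ZMod p) (2 - a) = 1}, a⁻¹ ∈ {a : GaloisField p q | Algebra.norm (ZMod p) a = 1 ∧ Algebra.norm (ZMod p) (2 - a) = 1})
    (h2 : 2 ≤ Set.ncard {a : GaloisField p q | Algebra.norm (ZMod p) a = 1 ∧ Algebra.norm (ZMod p) (2 - a) = 1}) :
    p ≤ q := by
  classical
  set K := GaloisField p q
  let N : K → ZMod p := fun x => Algebra.norm (ZMod p) x
  have hq0 : q ≠ 0 := (Fact.out : q.Prime).ne_zero
  have : IsGalois (ZMod p) K := inferInstance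
  obtain ⟨a, ⟨ha1, ha2⟩, hne⟩ := Set.exists_ne_of_one_lt_ncard (Nat.lt_of_succ_le h2) (1 : K)
  have hstep : ∀ b : K, N b = 1 → N (2 - b) = 1 → (b : K) * 0 = 0 ∧ (N (2 - b)⁻¹ = 1 ∧ N (2 - (2 - b)⁻¹) = 1) := fun b h1 h2 => by
    have h3 := hinv (2 - b) ⟨h2, by rw [sub_sub_cancel]; exact h1⟩
    exact ⟨mul_zero b, h3.1, h3.2⟩
  have key : ∀ k : ℕ, N ((k + 1 : ℕ) - (k : K) * a) = 1 ∧ ∃ b : K, N b = 1 ∧ N (2 - b) = 1 ∧
      b * ((k + 1 : ℕ) - (k : K) * a) = (k : K) - ((k : K) - 1) * a := by
    intro k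
    induction k with
    | zero => exact ⟨by simp [N], a, ha1, ha2, by push_cast; ring⟩
    | succ k ih =>
      obtain ⟨hd, b, hb1, hb2, hb⟩ := ih
      obtain ⟨-, h1, h2⟩ := hstep b hb1 hb2
      have hne2 : (2 - b : K) ≠ 0 := fun h => by
        rw [h] at hb2; exact zero_ne_one ((Algebra.norm_zero (R := ZMod p) (S := K)).symm.trans hb2)
      have he : (2 - b) * ((k + 1 : ℕ) - (k : K) * a) = ((k + 1 + 1 : ℕ) : K) - ((k + 1 : ℕ) : K) * a := by
        push_cast at hb ⊢
        linear_combination -hb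
      have hd' : N (((k + 1 + 1 : ℕ) : K) - ((k + 1 : ℕ) : K) * a) = 1 := by
        show Algebra.norm (ZMod p) _ = 1
        rw [← he, map_mul]
        exact (congrArg₂ (· * ·) hb2 hd).trans (one_mul 1)
      refine ⟨hd', (2 - b)⁻¹, h1, h2, ?_⟩
      rw [← he, inv_mul_cancel_left₀ hne2]
      push_cast; ring
  let P : Polynomial K := (∏ σ : Gal(K/ZMod p), (Polynomial.C (σ (1 - a)) * Polynomial.X + 1)) - 1
  have hcardG : Fintype.card Gal(K/ZMod p) = q := by
    rw [← Nat.card_eq_fintype_card, IsGalois.card_aut_eq_finrank, GaloisField.finrank p hq0]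
  have hdeg1 : ∀ σ ∈ (Finset.univ : Finset Gal(K/ZMod p)), (Polynomial.C (σ (1 - a)) * Polynomial.X + 1).natDegree ≤ 1 := fun σ _ => by
    rw [← Polynomial.C_1]; exact Polynomial.natDegree_linear_le
  have hdeg : P.natDegree ≤ q := by
    refine (Polynomial.natDegree_sub_le _ _).trans (max_le ((Polynomial.natDegree_prod_le _ _).trans ?_) (by simp))
    exact (Finset.sum_le_sum hdeg1).trans (by simp [hcardG])
  have hP : P ≠ 0 := fun h => by
    have h' : (P.coeff q) = 0 := by rw [h, Polynomial.coeff_zero]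
    have hc : P.coeff q = ∏ σ : Gal(K/ZMod p), σ (1 - a) := by
      have := Polynomial.coeff_prod_of_natDegree_le (s := (Finset.univ : Finset Gal(K/ZMod p)))
        (fun σ => Polynomial.C (σ (1 - a)) * Polynomial.X + 1) 1 hdeg1
      simp only [Finset.card_univ, hcardG, mul_one] at this
      rw [Polynomial.coeff_sub, this, Polynomial.coeff_one, if_neg hq0, sub_zero]
      exact Finset.prod_congr rfl fun σ _ => by simp [Polynomial.coeff_one]
    rw [hc, Finset.prod_eq_zero_iff] at h'
    obtain ⟨σ, -, hσ⟩ := h'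
    exact hne (sub_eq_zero.1 ((map_eq_zero_iff σ σ.injective).1 hσ)).symm
  have hroot : ∀ k : ℕ, P.IsRoot (k : K) := fun k => by
    have h := congrArg (algebraMap (ZMod p) K) (key k).1
    rw [Algebra.norm_eq_prod_automorphisms, map_one] at h
    rw [Polynomial.IsRoot, Polynomial.eval_sub, Polynomial.eval_one, Polynomial.eval_prod, sub_eq_zero]
    refine Eq.trans (Finset.prod_congr rfl fun σ _ => ?_) h
    simp only [Polynomial.eval_add, Polynomial.eval_mul, Polynomial.eval_C, Polynomial.eval_X, Polynomial.eval_one]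
    simp only [Nat.cast_add, Nat.cast_one, map_add, map_sub, map_mul, map_natCast, map_one]
    have hk : σ (k : K) = k := map_natCast σ.toRingEquiv k
    rw [hk]; ring
  have hinj : Set.InjOn (fun k : ℕ => (k : K)) (Finset.range p : Set ℕ) := fun i hi j hj h => by
    simp only [Finset.coe_range, Set.mem_Iio] at hi hj
    exact CharP.natCast_injOn_Iio K p hi hj h
  have hsub : (Finset.range p).image (fun k : ℕ => (k : K)) ⊆ P.roots.toFinset := fun x hx => by
    obtain ⟨k, -, rfl⟩ := Finset.mem_image.1 hx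
    exact Multiset.mem_toFinset.2 ((Polynomial.mem_roots hP).2 (hroot k))
  have := Finset.card_le_card hsub
  rw [Finset.card_image_of_injOn hinj, Finset.card_range] at this
  exact this.trans ((Multiset.toFinset_card_le _).trans ((Polynomial.card_roots' P).trans hdeg))

end Cfsg.Agent.S1470
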