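import Cfsg.Statements.S1480
import Cfsg.Agent.Lib.Local.InvariantInCore
import Cfsg.Agent.Lib.Local.Transitivity
import Cfsg.Agent.Lib.Local.ComponentBalance

set_option autoImplicit false
open Cfsg
open scoped commutatorElement Pointwise

namespace Cfsg.Agent.S1480

/-- Let G be a finite group and p a prime such that the normalizer of every nontrivial p-subgroup of G is p-constrained; if p = 2 assume also that the Sylow 2-subgroups of G have nilpotency class at most 2. Let E be an abelian p-subgroup containing an elementary abelian subgroup of order p ^ 3 and containing every element of p-power order of C_G(E). Then for every prime q ≠ p, any two maximal E-invariant q-subgroups of G are conjugate by an element of O_{p'}(C_G(E)). -/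
theorem result {G : Type*} [Group G] [Finite G] (p : ℕ) [Fact p.Prime]
    (hloc : ∀ T : Subgroup G, IsPGroup p T → T ≠ ⊥ → Cfsg.IsPConstrained p ↥(Subgroup.normalizer (T : Set G)))
    (h2 : p = 2 → ∀ S : Sylow p G, Group.IsNilpotent (S : Subgroup G) ∧ Group.nilpotencyClass (S : Subgroup G) ≤ 2)
    (E : Subgroup G) (hEp : IsPGroup p E) (hEc : IsMulCommutative E) (hE3 : ¬ Cfsg.PRankLE p 2 E)
    (hEfull : ∀ x ∈ Subgroup.centralizer (E : Set G), IsPGroup p (Subgroup.zpowers x) → x ∈ E)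
    (q : ℕ) [Fact q.Prime] (hqp : q ≠ p) :
    ∀ Q₁ ∈ Cfsg.maxInvSubgroups ⊤ E {q}, ∀ Q₂ ∈ Cfsg.maxInvSubgroups ⊤ E {q},
        ∃ k ∈ Cfsg.piCoreOf (Cfsg.primesNotDvd p) (Subgroup.centralizer (E : Set G)), Q₂ = Q₁.map (MulAut.conj k).toMonoidHom := by
  classical
  haveI := hEc
  have hEcomm : ∀ a ∈ E, ∀ b ∈ E, a * b = b * a := fun a ha b hb =>
    congrArg Subtype.val (mul_comm' (⟨a, ha⟩ : E) ⟨b, hb⟩)
  obtain ⟨B, hBc, hBe, hBcard⟩ : ∃ B : Subgroup E, IsMulCommutative B ∧ (∀ a ∈ B, a ^ p = 1) ∧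
      p ^ 2 < Nat.card B := by
    simp only [Cfsg.PRankLE, not_forall, not_le] at hE3
    obtain ⟨B, h1, h2, h3⟩ := hE3
    exact ⟨B, h1, h2, h3⟩
  set A := B.map E.subtype with hA'
  have hAE : A ≤ E := Subgroup.map_subtype_le B
  have hA : Cfsg.IsElementaryAbelian p A := by
    refine ⟨⟨⟨fun x y => Subtype.ext (hEcomm _ (hAE x.2) _ (hAE y.2))⟩⟩, ?_⟩
    rintro _ ⟨x, hx, rfl⟩
    rw [← map_pow, hBe x hx, map_one]
  have hA3 : p ^ 3 ≤ Nat.card A := by
    rw [hA', Subgroup.card_map_of_injective E.subtype_injective]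
    obtain ⟨k, hk⟩ := IsPGroup.iff_card.1 (hEp.to_subgroup B)
    rw [hk] at hBcard ⊢
    exact Nat.pow_le_pow_right (Fact.out : p.Prime).pos
      (Nat.succ_le_of_lt ((Nat.pow_lt_pow_iff_right (Fact.out : p.Prime).one_lt).1 hBcard))
  have hsE : Group.IsSolvable E := Group.isSolvable_of_comm fun a b => mul_comm' a b
  have hEa : ∀ a ∈ A, E ≤ Subgroup.centralizer ({a} : Set G) := fun a ha b hb =>
    Subgroup.mem_centralizer_singleton_iff.2 (hEcomm b hb a (hAE ha))
  -- invariant coprime subgroups of `C(a)` lie in its core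
  have hcore : ∀ a ∈ A, a ≠ 1 → ∀ R : Subgroup G, R ≤ Subgroup.centralizer ({a} : Set G) →
      ¬ p ∣ Nat.card R → E ≤ Subgroup.normalizer (R : Set G) →
      R ≤ Cfsg.centralizerPPrimeCore p a := by
    intro a ha ha1 R hRa hRp hER
    set N := Subgroup.normalizer ((Subgroup.zpowers a : Subgroup G) : Set G) with hN
    have hCN : Subgroup.centralizer ({a} : Set G) ≤ N := by
      rw [← Subgroup.centralizer_closure, ← Subgroup.zpowers_eq_closure]
      exact Subgroup.centralizer_le_normalizer _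
    have hEN : E ≤ N := (hEa a ha).trans hCN
    have hRN : R ≤ N := hRa.trans hCN
    have hap : IsPGroup p (Subgroup.zpowers a) :=
      (hEp.to_le hAE).to_le (Subgroup.zpowers_le.2 ha)
    have hX := hloc (Subgroup.zpowers a) hap (by rwa [ne_eq, Subgroup.zpowers_eq_bot])
    have hcl : p = 2 → ∀ S : Sylow p N, ∀ x ∈ S, ∀ y ∈ S, ∀ z ∈ S, ⁅⁅x, y⁆, z⁆ = (1 : N) := by
      intro hp S x hx y hy z hz
      obtain ⟨T, hT⟩ := (S.isPGroup'.map N.subtype).exists_le_sylow
      haveI := (h2 hp T).1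
      have h := (Subgroup.lowerCentralSeries_eq_bot_iff_nilpotencyClass_le (G := (T : Subgroup G))).2
        (h2 hp T).2
      let x' : (T : Subgroup G) := ⟨_, hT ⟨x, hx, rfl⟩⟩
      let y' : (T : Subgroup G) := ⟨_, hT ⟨y, hy, rfl⟩⟩
      let z' : (T : Subgroup G) := ⟨_, hT ⟨z, hz, rfl⟩⟩
      have hmem : ⁅⁅x', y'⁆, z'⁆ ∈ (⊤ : Subgroup (T : Subgroup G)).lowerCentralSeries 2 := by
        rw [Subgroup.lowerCentralSeries_succ]
        refine Subgroup.commutator_mem_commutator ?_ (Subgroup.mem_top _)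
        rw [Subgroup.lowerCentralSeries_succ]
        exact Subgroup.commutator_mem_commutator (Subgroup.mem_top _) (Subgroup.mem_top _)
      rw [h, Subgroup.mem_bot] at hmem
      have h3 := congrArg Subtype.val hmem
      exact Subtype.ext h3
    have hin := Cfsg.Agent.Local.invariant_le_core hX hcl (E.subgroupOf N)
      (hEp.comap_of_injective N.subtype N.subtype_injective)
      ⟨⟨fun x y => Subtype.ext (Subtype.ext (hEcomm _ x.2 _ y.2))⟩⟩ ?_ (R.subgroupOf N) ?_ ?_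
    · intro x hx
      have hxN : (⟨x, hRN hx⟩ : N) ∈ Cfsg.pPrimeCore p N := hin hx
      refine Cfsg.Agent.Local.le_core_map
        (C := Subgroup.centralizer ({a} : Set G))
        (R := (Cfsg.pPrimeCore p N).map N.subtype ⊓ Subgroup.centralizer ({a} : Set G))
        inf_le_right ?_ ?_ ⟨⟨_, hxN, rfl⟩, hRa hx⟩
      · refine Cfsg.Agent.Solv.le_normalizer_inf ?_ Subgroup.le_normalizer
        exact hCN.trans (Subgroup.le_normalizer.trans (Cfsg.Agent.Local.le_normalizer_core_map N))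
      · refine Nat.Coprime.coprime_dvd_left (Subgroup.card_dvd_of_le inf_le_left) ?_
        rw [Cfsg.Agent.Solv.card_map_subtype]
        exact Cfsg.Agent.Solv.card_pPrimeCore_coprime p N
    · intro x hx hxp
      refine hEfull _ ?_ ?_
      · intro e he
        exact congrArg Subtype.val (hx (⟨e, hEN he⟩ : N) he)
      · have h := hxp.map N.subtype
        rwa [MonoidHom.map_zpowers] at h
    · rwa [Nat.card_congr (Subgroup.subgroupOfEquivOfLe hRN).toEquiv]
    · intro e he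
      rw [Subgroup.mem_normalizer_iff]
      intro y
      exact Subgroup.mem_normalizer_iff.1 (hER he) (y : G)
  -- the conjugating group
  set K := Cfsg.piCoreOf (Cfsg.primesNotDvd p) (Subgroup.centralizer (E : Set G)) with hK
  have hθK : ∀ a ∈ A, a ≠ 1 →
      Cfsg.centralizerPPrimeCore p a ⊓ Subgroup.centralizer (E : Set G) ≤ K := by
    intro a ha ha1 x hx
    set T := Cfsg.centralizerPPrimeCore p a ⊓ Subgroup.centralizer (E : Set G) with hT
    refine ⟨⟨x, hx.2⟩, le_sSup (show T.subgroupOf (Subgroup.centralizer (E : Set G)) ∈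
      {N : Subgroup ↥(Subgroup.centralizer (E : Set G)) | N.Normal ∧ ∀ r : ℕ, r.Prime →
        r ∣ Nat.card N → r ∈ Cfsg.primesNotDvd p} from ⟨?_, ?_⟩) hx, rfl⟩
    · refine Subgroup.normal_subgroupOf_of_le_normalizer
        (Cfsg.Agent.Solv.le_normalizer_inf ?_ Subgroup.le_normalizer)
      refine le_trans ?_ (Cfsg.Agent.Local.centralizer_le_normalizer_centralizerPPrimeCore a)
      exact Subgroup.centralizer_le (Set.singleton_subset_iff.2 (hAE ha))
    · intro r hr hrd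
      refine ⟨hr, fun h => ?_⟩
      rw [Nat.card_congr (Subgroup.subgroupOfEquivOfLe inf_le_right).toEquiv] at hrd
      have h1 := (hrd.trans (Subgroup.card_dvd_of_le inf_le_left))
      rw [(Nat.prime_dvd_prime_iff_eq hr (Fact.out : p.Prime)).1 h] at h1
      exact ((Fact.out : p.Prime).coprime_iff_not_dvd.1
        (Cfsg.Agent.Local.card_centralizerPPrimeCore_coprime a).symm) h1
  have hKE : K ≤ Subgroup.centralizer (E : Set G) := Subgroup.map_subtype_le _
  have hinv : ∀ {Q : Subgroup G}, Q ∈ Cfsg.maxInvSubgroups ⊤ E {q} →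
      IsPGroup q Q ∧ ¬ p ∣ Nat.card Q ∧ E ≤ Subgroup.normalizer (Q : Set G) := by
    intro Q hQ
    obtain ⟨⟨-, hπ, hn⟩, -⟩ := hQ
    have hq' : IsPGroup q Q := by
      refine IsPGroup.of_card (n := (Nat.card Q).primeFactorsList.length) ?_
      exact Nat.eq_prime_pow_of_unique_prime_dvd Nat.card_pos.ne' fun hd hdvd => hπ _ hd hdvd
    exact ⟨hq', fun h => hqp (hπ p Fact.out h).symm, hn⟩
  have hmem : ∀ {R : Subgroup G}, IsPGroup q R → E ≤ Subgroup.normalizer (R : Set G) →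
      R ∈ Cfsg.invSubgroups ⊤ E {q} := by
    intro R hR hn
    refine ⟨le_top, fun r hr hd => ?_, hn⟩
    obtain ⟨k, hk⟩ := IsPGroup.iff_card.1 hR
    exact (Nat.prime_dvd_prime_iff_eq hr Fact.out).1 (hr.dvd_of_dvd_pow (hk ▸ hd))
  have hconj : ∀ c ∈ K, ∀ Q : Subgroup G, Q ∈ Cfsg.maxInvSubgroups ⊤ E {q} →
      Q.map (MulAut.conj c).toMonoidHom ∈ Cfsg.maxInvSubgroups ⊤ E {q} := by
    have hn : ∀ c ∈ Subgroup.centralizer (E : Set G), ∀ Q : Subgroup G,
        E ≤ Subgroup.normalizer (Q : Set G) →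
        E ≤ Subgroup.normalizer ((Q.map (MulAut.conj c).toMonoidHom : Subgroup G) : Set G) := by
      intro c hc Q hQ
      refine Cfsg.Agent.Solv.le_normalizer_of_conj_mem fun e he => ?_
      rintro _ ⟨y, hy, rfl⟩
      refine ⟨e * y * e⁻¹, (Subgroup.mem_normalizer_iff.1 (hQ he) y).1 hy, ?_⟩
      show c * (e * y * e⁻¹) * c⁻¹ = e * (c * y * c⁻¹) * e⁻¹
      calc c * (e * y * e⁻¹) * c⁻¹ = (c * e) * y * (c * e)⁻¹ := by group
        _ = (e * c) * y * (e * c)⁻¹ := by rw [hc e he]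
        _ = _ := by group
    intro c hc Q hQ
    obtain ⟨hQq, -, hQn⟩ := hinv hQ
    refine ⟨hmem (hQq.map _) (hn c (hKE hc) Q hQn), fun R hR hle => ?_⟩
    have hRq : IsPGroup q R := IsPGroup.of_card (n := (Nat.card R).primeFactorsList.length)
      (Nat.eq_prime_pow_of_unique_prime_dvd Nat.card_pos.ne' fun hd hdvd => hR.2.1 _ hd hdvd)
    have h := hQ.2 _ (hmem (hRq.map (MulAut.conj c⁻¹).toMonoidHom)
      (hn c⁻¹ (inv_mem (hKE hc)) R hR.2.2)) (by
      calc Q = (Q.map (MulAut.conj c).toMonoidHom).map (MulAut.conj c⁻¹).toMonoidHom := by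
            rw [Cfsg.Agent.Local.Trans.map_conj_mul, inv_mul_cancel,
              Cfsg.Agent.Local.Trans.map_conj_one]
        _ ≤ _ := Subgroup.map_mono hle)
    rw [← h, Cfsg.Agent.Local.Trans.map_conj_mul, mul_inv_cancel,
      Cfsg.Agent.Local.Trans.map_conj_one]
  suffices main : ∀ (n : ℕ) (X Y : Subgroup G), Nat.card G - Nat.card ↥(X ⊓ Y : Subgroup G) = n →
      X ∈ Cfsg.maxInvSubgroups ⊤ E {q} → Y ∈ Cfsg.maxInvSubgroups ⊤ E {q} →
      ∃ k ∈ K, Y = X.map (MulAut.conj k).toMonoidHom by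
    intro Q₁ h₁ Q₂ h₂'
    exact main _ Q₁ Q₂ rfl h₁ h₂'
  intro n
  induction n using Nat.strong_induction_on with
  | _ n ih =>
  intro X Y hn hX hY
  obtain ⟨hXq, hXp, hXn⟩ := hinv hX
  obtain ⟨hYq, hYp, hYn⟩ := hinv hY
  set D := X ⊓ Y with hD
  rcases eq_or_ne D X with e | hDX
  · exact ⟨1, one_mem _, by
      rw [Cfsg.Agent.Local.Trans.map_conj_one, hX.2 Y hY.1 (inf_eq_left.1 e)]⟩
  rcases eq_or_ne D Y with e | hDY
  · exact ⟨1, one_mem _, by
      rw [Cfsg.Agent.Local.Trans.map_conj_one, hY.2 X hX.1 (inf_eq_right.1 e)]⟩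
  obtain ⟨a, ha, ha1, g₁, g₂⟩ := Cfsg.Agent.Local.Trans.exists_common_growth hA hA3 hXq hYq hXp
    hYp (hAE.trans hXn) (hAE.trans hYn) hDX hDY
  have hED : E ≤ Subgroup.normalizer (D : Set G) := Cfsg.Agent.Solv.le_normalizer_inf hXn hYn
  set H := Cfsg.centralizerPPrimeCore p a ⊓ Subgroup.normalizer (D : Set G) with hH
  have hEH : E ≤ Subgroup.normalizer (H : Set G) :=
    Cfsg.Agent.Solv.le_normalizer_inf ((hEa a ha).trans
      (Cfsg.Agent.Local.centralizer_le_normalizer_centralizerPPrimeCore a))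
      (hED.trans Subgroup.le_normalizer)
  have hcop : (Nat.card E).Coprime (Nat.card H) := by
    obtain ⟨k, hk⟩ := IsPGroup.iff_card.1 hEp
    rw [hk]
    exact (((Cfsg.Agent.Local.card_centralizerPPrimeCore_coprime a).coprime_dvd_left
      (Subgroup.card_dvd_of_le inf_le_left)).symm).pow_left k
  have hW : ∀ W : Subgroup G, IsPGroup q W → ¬ p ∣ Nat.card W →
      E ≤ Subgroup.normalizer (W : Set G) → ∃ S : Sylow q H,
        E ≤ Subgroup.normalizer (((S : Subgroup H).map H.subtype : Subgroup G) : Set G) ∧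
        Subgroup.normalizer (D : Set G) ⊓ W ⊓ Subgroup.centralizer {a} ≤
          (S : Subgroup H).map H.subtype := by
    intro W hWq hWp hWn
    have hEW : E ≤ Subgroup.normalizer
        ((Subgroup.normalizer (D : Set G) ⊓ W ⊓ Subgroup.centralizer {a} : Subgroup G) : Set G) :=
      Cfsg.Agent.Solv.le_normalizer_inf (Cfsg.Agent.Solv.le_normalizer_inf
        (hED.trans Subgroup.le_normalizer) hWn) ((hEa a ha).trans Subgroup.le_normalizer)
    obtain ⟨S, h1, h2⟩ := Cfsg.Agent.Solv.exists_invariant_sylow_ge E H hEH hcop (Or.inl hsE) q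
      (Subgroup.normalizer (D : Set G) ⊓ W ⊓ Subgroup.centralizer {a})
      (le_inf (hcore a ha ha1 _ inf_le_right
        (fun h => hWp (h.trans (Subgroup.card_dvd_of_le (inf_le_left.trans inf_le_right)))) hEW)
        (inf_le_left.trans inf_le_left))
      (hWq.to_le (inf_le_left.trans inf_le_right)) hEW
    exact ⟨S, h2, h1⟩
  obtain ⟨S₁, hS₁, hle₁⟩ := hW X hXq hXp hXn
  obtain ⟨S₂, hS₂, hle₂⟩ := hW Y hYq hYp hYn
  obtain ⟨c, hc, hcc⟩ :=
    Cfsg.Agent.Solv.invariant_sylow_conj E H hEH hcop (Or.inl hsE) q S₁ S₂ hS₁ hS₂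
  have hcK : (c : G) ∈ K := hθK a ha ha1 ⟨c.2.1, hc⟩
  set S₁' := (S₁ : Subgroup H).map H.subtype with hS₁'
  have hS₁D : S₁' ≤ Subgroup.normalizer (D : Set G) :=
    (Subgroup.map_subtype_le _).trans inf_le_right
  have hJ : D ⊔ S₁' ∈ Cfsg.invSubgroups ⊤ E {q} :=
    hmem (IsPGroup.to_sup_of_normal_left' (hXq.to_le inf_le_left) (S₁.isPGroup'.map _) hS₁D)
      ((le_inf hED hS₁).trans (Subgroup.normalizer_inf_normalizer_le_normalizer_sup _ _))
  obtain ⟨Z, ⟨hZ, hJZ⟩, hZmax⟩ := Set.Finite.exists_maximal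
    (s := {Z : Subgroup G | Z ∈ Cfsg.invSubgroups ⊤ E {q} ∧ D ⊔ S₁' ≤ Z})
    (Set.toFinite _) ⟨_, hJ, le_rfl⟩
  have hZM : Z ∈ Cfsg.maxInvSubgroups ⊤ E {q} :=
    ⟨hZ, fun R hR hle => le_antisymm (hZmax ⟨hR, hJZ.trans hle⟩ hle) hle⟩
  have hgrow : ∀ (W Z' : Subgroup G), D ≤ W → D ≤ Z' →
      ¬ (Subgroup.normalizer (D : Set G) ⊓ W ⊓ Subgroup.centralizer {a} ≤ D) →
      Subgroup.normalizer (D : Set G) ⊓ W ⊓ Subgroup.centralizer {a} ≤ Z' →
      Nat.card G - Nat.card ↥(W ⊓ Z' : Subgroup G) < n := by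
    intro W Z' hDW hDZ hne hle
    have hlt : D < W ⊓ Z' := lt_of_le_of_ne (le_inf hDW hDZ) fun e =>
      hne ((le_inf (inf_le_left.trans inf_le_right) hle).trans e.ge)
    have h1 : Nat.card D < Nat.card ↥(W ⊓ Z' : Subgroup G) :=
      lt_of_le_of_ne (Subgroup.card_le_of_le hlt.le) fun e =>
        hlt.ne (Subgroup.eq_of_le_of_card_ge hlt.le e.ge)
    have h2 : Nat.card ↥(W ⊓ Z' : Subgroup G) ≤ Nat.card G :=
      Nat.card_le_card_of_injective _ (W ⊓ Z').subtype_injective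
    omega
  obtain ⟨k₁, hk₁, hk₁Z⟩ := ih _ (hgrow X Z inf_le_left (le_sup_left.trans hJZ) g₁
    (hle₁.trans (le_sup_right.trans hJZ))) X Z rfl hX hZM
  set Z' := Z.map (MulAut.conj (c : G)).toMonoidHom with hZ'
  have hS₂Z : (S₂ : Subgroup H).map H.subtype ≤ Z' := by
    rintro _ ⟨y, hy, rfl⟩
    have hy' : y ∈ MulAut.conj c • S₁ := hcc ▸ hy
    obtain ⟨x, hx, rfl⟩ := hy'
    exact ⟨(x : G), hJZ (Subgroup.mem_sup_right (Subgroup.mem_map_of_mem _ hx)), rfl⟩
  have hDZ' : D ≤ Z' := by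
    intro d hd
    refine ⟨(c : G)⁻¹ * d * c, hJZ (Subgroup.mem_sup_left ?_), ?_⟩
    · have := (Subgroup.mem_normalizer_iff.1 (inv_mem c.2.2) d).1 hd
      rwa [inv_inv] at this
    · show (c : G) * ((c : G)⁻¹ * d * c) * (c : G)⁻¹ = d
      group
  obtain ⟨k₂, hk₂, hk₂Z⟩ := ih _ (hgrow Y Z' inf_le_right hDZ' g₂ (hle₂.trans hS₂Z)) Y Z' rfl hY
    (hconj _ hcK Z hZM)
  refine ⟨k₂⁻¹ * c * k₁, mul_mem (mul_mem (inv_mem hk₂) hcK) hk₁, ?_⟩
  rw [← Cfsg.Agent.Local.Trans.map_conj_mul, ← hk₁Z, ← Cfsg.Agent.Local.Trans.map_conj_mul,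
    ← hZ', hk₂Z, Cfsg.Agent.Local.Trans.map_conj_mul, inv_mul_cancel,
    Cfsg.Agent.Local.Trans.map_conj_one]

end Cfsg.Agent.S1480
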