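import Cfsg.Statements.S1485
import Cfsg.Agent.Lib.Char.Clifford

set_option autoImplicit false
open Cfsg

namespace Cfsg.Agent.S1485

/-- Let H be a normal subgroup of the finite group G and θ an irreducible character of H. On H, the function induced from θ equals r times the sum of the distinct G-conjugates of θ, where r is the number of elements of G fixing θ under conjugation divided by the order of H (the index of H in the inertia group). -/
theorem result {G : Type*} [Group G] [Fintype G] (H : Subgroup G) [hN : H.Normal] (θ : H → ℂ) (hθ : Cfsg.IsIrrCharacter H θ) : (fun h : H => Cfsg.indFun H θ h) = ((Nat.card {g : G // ∀ h : H, θ ⟨g * h * g⁻¹, hN.conj_mem h h.2 g⟩ = θ h} : ℂ) / (Nat.card H : ℂ)) • ∑ᶠ ψ ∈ {ψ : H → ℂ | ∃ g : G, ψ = fun h : H => θ ⟨g * h * g⁻¹, hN.conj_mem h h.2 g⟩}, ψ := by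
  classical
  haveI := Fintype.ofFinite H
  have hset : {ψ : H → ℂ | ∃ g : G, ψ = fun h : H => θ ⟨g * h * g⁻¹, hN.conj_mem h h.2 g⟩} =
      ↑(Cfsg.Agent.Char.conjOrbit H θ) := by
    ext ψ
    rw [Finset.mem_coe, Cfsg.Agent.Char.mem_conjOrbit]
    exact ⟨fun ⟨g, hg⟩ => ⟨g, hg.symm⟩, fun ⟨g, hg⟩ => ⟨g, hg.symm⟩⟩
  rw [hset, finsum_mem_coe_finset, Cfsg.Agent.Char.indFun_restrict,
    ← Finset.sum_fiberwise_of_maps_to (s := Finset.univ) (t := Cfsg.Agent.Char.conjOrbit H θ)
      (g := fun g : G => Cfsg.Agent.Char.conjChar H g θ)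
      (fun g _ => (Cfsg.Agent.Char.mem_conjOrbit H).mpr ⟨g, rfl⟩)]
  have hcard : Nat.card {g : G // ∀ h : H, θ ⟨g * h * g⁻¹, hN.conj_mem h h.2 g⟩ = θ h} =
      Nat.card (Cfsg.Agent.Char.inertia H θ) :=
    Nat.card_congr (Equiv.subtypeEquivRight fun g => funext_iff.symm)
  rw [hcard, div_eq_inv_mul, mul_smul, Finset.smul_sum, Finset.smul_sum, Finset.smul_sum]
  refine Finset.sum_congr rfl fun φ hφ => ?_
  rw [Finset.sum_congr rfl (fun g hg => (Finset.mem_filter.mp hg).2), Finset.sum_const,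
    Cfsg.Agent.Char.card_filter_conjChar_eq H hφ, ← Nat.cast_smul_eq_nsmul ℂ]

end Cfsg.Agent.S1485
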