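import Cfsg.Statements.S1487
import Cfsg.Agent.Lib.Char.Induction
import Cfsg.Agent.Lib.Char.Integral

set_option autoImplicit false
open Cfsg

namespace Cfsg.Agent.S1487

open Cfsg Cfsg.Agent.Char

/-- Let A ≤ H be normal subgroups of the finite group G and θ an irreducible character of H. Then θ takes the value θ 1 on all of A if and only if the function induced from θ to G takes its value at 1 on all of A. -/
theorem result {G : Type*} [Group G] [Fintype G] (A H : Subgroup G) [A.Normal] [H.Normal] (hAH : A ≤ H) (θ : H → ℂ) (hθ : Cfsg.IsIrrCharacter H θ) : (∀ a : H, (a : G) ∈ A → θ a = θ 1) ↔ (∀ a : G, a ∈ A → Cfsg.indFun H θ a = Cfsg.indFun H θ 1) := by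
  classical
  have hk : (Nat.card H : ℂ) ≠ 0 := Nat.cast_ne_zero.mpr Nat.card_pos.ne'
  have hmem : ∀ a ∈ A, ∀ x : G, x⁻¹ * a * x ∈ A := fun a ha x => by
    simpa using (‹A.Normal›).conj_mem a ha x⁻¹
  have h1 : indFun H θ 1 = (Nat.card H : ℂ)⁻¹ * ∑ _x : G, θ 1 := by
    rw [indFun_apply]
    congr 1
    refine Finset.sum_congr rfl fun x _ => ?_
    simp only [mul_one, inv_mul_cancel]
    rw [extendByZero_of_mem H θ H.one_mem]
    rfl
  have ha' : ∀ a ∈ A, indFun H θ a =
      (Nat.card H : ℂ)⁻¹ * ∑ x : G, extendByZero H θ (x⁻¹ * a * x) := fun a _ => indFun_apply H θ a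
  constructor
  · intro h a ha
    rw [ha' a ha, h1]
    congr 1
    refine Finset.sum_congr rfl fun x _ => ?_
    rw [extendByZero_of_mem H θ (hAH (hmem a ha x))]
    exact h _ (hmem a ha x)
  · intro h a ha
    obtain ⟨d, hd⟩ := IsCharacter.exists_degree (IsIrrCharacter.isCharacter hθ)
    have e := h a ha
    rw [ha' a ha, h1] at e
    have e2 := congrArg Complex.re (mul_left_cancel₀ (inv_ne_zero hk) e)
    simp only [Complex.re_sum] at e2
    have hle : ∀ x ∈ (Finset.univ : Finset G),
        (extendByZero H θ (x⁻¹ * (a : G) * x)).re ≤ (θ 1).re := by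
      intro x _
      rw [extendByZero_of_mem H θ (hAH (hmem a ha x))]
      refine (Complex.re_le_norm _).trans ?_
      refine (IsCharacter.norm_le (IsIrrCharacter.isCharacter hθ) _).trans ?_
      simp [hd]
    have hall := (Finset.sum_eq_sum_iff_of_le hle).mp e2 1 (Finset.mem_univ _)
    simp only [inv_one, one_mul, mul_one] at hall
    rw [extendByZero_coe] at hall
    have hn := IsCharacter.norm_le (IsIrrCharacter.isCharacter hθ) a
    rw [hd, Complex.norm_natCast] at hn
    rw [hd] at hall ⊢
    simp only [Complex.natCast_re] at hall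
    have hsq := Complex.sq_norm (θ a)
    rw [Complex.normSq_apply, hall] at hsq
    have him : (θ a).im * (θ a).im ≤ 0 := by nlinarith [norm_nonneg (θ a)]
    exact Complex.ext (by simpa using hall)
      (by simpa using mul_self_eq_zero.mp (le_antisymm him (mul_self_nonneg _)))

end Cfsg.Agent.S1487
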