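import Cfsg.Statements.S1488
import Cfsg.Agent.Lib.Char.Induction

set_option autoImplicit false
open Cfsg

namespace Cfsg.Agent.S1488

open Cfsg Cfsg.Agent.Char

/-- Let A be a normal subgroup of the finite group G contained in the subgroup H, let θ be a function on H and θ₁ a function on the image of H in G ⧸ A whose composite with the projection is θ. Then the function induced from θ₁ to G ⧸ A, composed with the projection G → G ⧸ A, equals the function induced from θ to G. -/
theorem result {G : Type*} [Group G] [Fintype G] (A H : Subgroup G) [A.Normal] (hAH : A ≤ H) [Fintype (G ⧸ A)] [Fintype ↥(H.map (QuotientGroup.mk' A))] (θ : H → ℂ) (θ₁ : ↥(H.map (QuotientGroup.mk' A)) → ℂ) (hθ : ∀ x : H, θ₁ ⟨QuotientGroup.mk' A x, Subgroup.mem_map_of_mem _ x.2⟩ = θ x) (g : G) : Cfsg.indFun (H.map (QuotientGroup.mk' A)) θ₁ (QuotientGroup.mk' A g) = Cfsg.indFun H θ g := by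
  classical
  have hmem : ∀ y : G, (QuotientGroup.mk' A) y ∈ H.map (QuotientGroup.mk' A) → y ∈ H := by
    rintro y ⟨z, hz, e⟩
    have : z⁻¹ * y ∈ A := QuotientGroup.eq.mp e
    simpa using H.mul_mem hz (hAH this)
  have hext : ∀ y : G, extendByZero (H.map (QuotientGroup.mk' A)) θ₁ ((QuotientGroup.mk' A) y) = extendByZero H θ y := by
    intro y
    by_cases hy : y ∈ H
    · rw [extendByZero_of_mem H θ hy, ← hθ ⟨y, hy⟩,
        extendByZero_of_mem _ θ₁ (Subgroup.mem_map_of_mem _ hy)]
    · rw [extendByZero_of_notMem H θ hy, extendByZero_of_notMem _ θ₁ fun h => hy (hmem y h)]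
  have hcard : Nat.card A * Nat.card (H.map (QuotientGroup.mk' A)) = Nat.card H := by
    have e : (H.map (QuotientGroup.mk' A)) = ((QuotientGroup.mk' A).comp H.subtype).range := by
      rw [MonoidHom.range_eq_map, ← Subgroup.map_map, ← MonoidHom.range_eq_map,
        Subgroup.range_subtype]
    have hker : ((QuotientGroup.mk' A).comp H.subtype).ker = A.subgroupOf H := by
      ext x
      simp [MonoidHom.mem_ker, Subgroup.mem_subgroupOf]
    rw [e, ← Nat.card_congr (QuotientGroup.quotientKerEquivRange _).toEquiv, hker,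
      ← Nat.card_congr (Subgroup.subgroupOfEquivOfLe hAH).toEquiv, mul_comm]
    exact (Subgroup.card_eq_card_quotient_mul_card_subgroup _).symm
  rw [indFun_apply, indFun_apply]
  have hsum : ∑ x : G, extendByZero H θ (x⁻¹ * g * x) =
      (Nat.card A : ℂ) * ∑ q : G ⧸ A, extendByZero (H.map (QuotientGroup.mk' A)) θ₁ (q⁻¹ * (QuotientGroup.mk' A) g * q) := by
    haveI := Fintype.ofFinite A
    rw [← Fintype.sum_equiv (Subgroup.groupEquivQuotientProdSubgroup (s := A)).symm
      (fun p : (G ⧸ A) × A => extendByZero (H.map (QuotientGroup.mk' A)) θ₁ (p.1⁻¹ * (QuotientGroup.mk' A) g * p.1)) _ ?_]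
    · rw [Fintype.sum_prod_type, Finset.mul_sum]
      simp [Nat.card_eq_fintype_card]
    · intro p
      rw [← hext]
      congr 1
      have hq : (QuotientGroup.mk' A) ((Subgroup.groupEquivQuotientProdSubgroup (s := A)).symm p) = p.1 := by
        have h := congrArg Prod.fst
          ((Subgroup.groupEquivQuotientProdSubgroup (s := A)).apply_symm_apply p)
        exact h
      simp [map_mul, map_inv, hq]
  rw [hsum, ← hcard, Nat.cast_mul, mul_inv, ← mul_assoc]
  congr 1
  have : (Nat.card A : ℂ) ≠ 0 := Nat.cast_ne_zero.mpr Nat.card_pos.ne'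
  field_simp

end Cfsg.Agent.S1488
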