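import Cfsg.Statements.S1489
import Cfsg.Agent.Lib.Char.Clifford

set_option autoImplicit false
open Cfsg

namespace Cfsg.Agent.S1489

/-- Let H be a normal subgroup of the finite group G, θ an irreducible character of H, and T the inertia group of θ (the elements g with θ(g h g⁻¹) = θ(h) for all h ∈ H). If ψ and ψ' are irreducible characters of T having nonzero inner product with the function induced from θ to T, then the function induced from ψ to G is an irreducible character of G, and it equals the one induced from ψ' only if ψ = ψ'. -/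
theorem result {G : Type*} [Group G] [Fintype G] (H T : Subgroup G) [hN : H.Normal] [Fintype T] (θ : H → ℂ) (hθ : Cfsg.IsIrrCharacter H θ) (hT : ∀ g : G, g ∈ T ↔ ∀ h : H, θ ⟨g * h * g⁻¹, hN.conj_mem h h.2 g⟩ = θ h) (hHT : H ≤ T) (ψ ψ' : T → ℂ) (hψ : Cfsg.IsIrrCharacter T ψ) (hψ' : Cfsg.IsIrrCharacter T ψ') (hc : Cfsg.classInner (Cfsg.indFun (H.subgroupOf T) (fun x => θ ⟨(x : T), Subgroup.mem_subgroupOf.mp x.2⟩)) ψ ≠ 0) (hc' : Cfsg.classInner (Cfsg.indFun (H.subgroupOf T) (fun x => θ ⟨(x : T), Subgroup.mem_subgroupOf.mp x.2⟩)) ψ' ≠ 0) : Cfsg.IsIrrCharacter G (Cfsg.indFun T ψ) ∧ (Cfsg.indFun T ψ = Cfsg.indFun T ψ' → ψ = ψ') := by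
  classical
  haveI := Fintype.ofFinite H
  haveI := Fintype.ofFinite (H.subgroupOf T)
  have hT' : T = Cfsg.Agent.Char.inertia H θ := Cfsg.Agent.Char.eq_inertia_of_forall H hT
  let e : H.subgroupOf T ≃* H := Subgroup.subgroupOfEquivOfLe hHT
  have key : ∀ φ : T → ℂ, Cfsg.IsIrrCharacter T φ →
      Cfsg.classInner (Cfsg.indFun (H.subgroupOf T)
        (fun x => θ ⟨(x : T), Subgroup.mem_subgroupOf.mp x.2⟩)) φ ≠ 0 →
      Cfsg.classInner (fun n : H => φ ⟨(n : G), hHT n.2⟩) θ ≠ 0 := by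
    intro φ hφ h
    rw [Cfsg.Agent.Char.classInner_indFun _ _ (Cfsg.Agent.Char.IsCharacter.isClassFunction
      (Cfsg.Agent.Char.IsIrrCharacter.isCharacter hφ)), ← Cfsg.Agent.Char.classInner_conj_symm] at h
    intro h0
    apply h
    rw [← Cfsg.Agent.Char.classInner_comp_mulEquiv e] at h0
    have : Cfsg.classInner (fun x : H.subgroupOf T => φ x)
        (fun x => θ ⟨(x : T), Subgroup.mem_subgroupOf.mp x.2⟩) = 0 := h0
    rw [this, map_zero]
  have hk := key ψ hψ hc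
  have hk' := key ψ' hψ' hc'
  have hψc := Cfsg.Agent.Char.IsIrrCharacter.isCharacter hψ
  have hex : ∀ φ : T → ℂ, Cfsg.IsIrrCharacter T φ → ∃ χ : G → ℂ, Cfsg.IsIrrCharacter G χ ∧
      Cfsg.classInner (fun t : T => χ t) φ ≠ 0 := by
    intro φ hφ
    have hφc := Cfsg.Agent.Char.IsIrrCharacter.isCharacter hφ
    obtain ⟨χ, hχ, hne⟩ := Cfsg.Agent.Char.IsCharacter.exists_irr_constituent
      (Cfsg.Agent.Char.isCharacter_indFun T hφc) (fun h0 => by
        have := congrFun h0 1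
        rw [Cfsg.Agent.Char.indFun_one_apply, Pi.zero_apply, mul_eq_zero] at this
        rcases this with h | h
        · exact Subgroup.index_ne_zero_of_finite (by exact_mod_cast h)
        · exact Cfsg.Agent.Char.IsIrrCharacter.apply_one_ne_zero hφ h)
    refine ⟨χ, hχ, fun h0 => hne ?_⟩
    rw [Cfsg.Agent.Char.classInner_indFun T φ (Cfsg.Agent.Char.IsCharacter.isClassFunction
      (Cfsg.Agent.Char.IsIrrCharacter.isCharacter hχ)), ← Cfsg.Agent.Char.classInner_conj_symm,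
      h0, map_zero]
  obtain ⟨χ, hχ, hne⟩ := hex ψ hψ
  obtain ⟨hi, hmul⟩ := Cfsg.Agent.Char.clifford_core H hθ hT' hHT hχ hψ hne hk
  refine ⟨hi ▸ hχ, fun heq => ?_⟩
  by_contra hne'
  obtain ⟨χ', hχ', hne2⟩ := hex ψ' hψ'
  obtain ⟨hi', hmul'⟩ := Cfsg.Agent.Char.clifford_core H hθ hT' hHT hχ' hψ' hne2 hk'
  have hχχ : χ' = χ := hi'.symm.trans (heq.symm.trans hi)
  subst hχχ
  have hχT := Cfsg.Agent.Char.IsCharacter.restrict
    (Cfsg.Agent.Char.IsIrrCharacter.isCharacter hχ) T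
  obtain ⟨r, hr, e1⟩ := Cfsg.Agent.Char.exists_add_of_classInner_ne_zero hχT hψ hne
  have h2 : Cfsg.classInner r ψ' ≠ 0 := by
    intro h0
    apply hne2
    rw [e1, Cfsg.Agent.Char.classInner_add_left,
      Cfsg.Agent.Char.IsIrrCharacter.classInner_eq_zero hψ hψ' hne', h0, add_zero]
  obtain ⟨r', hr', e2⟩ := Cfsg.Agent.Char.exists_add_of_classInner_ne_zero hr hψ' h2
  have hd : Cfsg.classInner (fun n : H => χ' n) θ =
      Cfsg.classInner (fun n : H => ψ ⟨(n : G), hHT n.2⟩) θ +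
        (Cfsg.classInner (fun n : H => ψ' ⟨(n : G), hHT n.2⟩) θ +
          Cfsg.classInner (fun n : H => r' ⟨(n : G), hHT n.2⟩) θ) := by
    rw [← Cfsg.Agent.Char.classInner_add_left, ← Cfsg.Agent.Char.classInner_add_left]
    congr 1
    funext n
    have a1 := congrFun e1 ⟨(n : G), hHT n.2⟩
    have a2 := congrFun e2 ⟨(n : G), hHT n.2⟩
    simp only [Pi.add_apply] at a1 a2 ⊢
    rw [a1, a2]
  rw [hmul, hmul'] at hd
  obtain ⟨a, ha⟩ := Cfsg.Agent.Char.exists_classInner_nat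
    (Cfsg.Agent.Char.IsCharacter.restrict (Cfsg.Agent.Char.IsIrrCharacter.isCharacter hχ) H) hθ
  obtain ⟨b, hb⟩ := Cfsg.Agent.Char.exists_classInner_nat
    (Cfsg.Agent.Char.isCharacter_comp hr' (Subgroup.inclusion hHT)) hθ
  rw [hmul, ha] at hk
  have hb' : Cfsg.classInner (fun n : H => r' ⟨(n : G), hHT n.2⟩) θ = (b : ℂ) := hb
  rw [ha, hb'] at hd
  have : a = a + (a + b) := by exact_mod_cast hd
  exact hk (by exact_mod_cast (show a = 0 by omega))

end Cfsg.Agent.S1489
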