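import Cfsg.Statements.S1490
import Cfsg.Agent.Lib.Char.CliffordAbelian

set_option autoImplicit false
open Cfsg

namespace Cfsg.Agent.S1490

open Cfsg Cfsg.Agent.Char

/-- Let H be a normal subgroup of the finite group G, θ an irreducible character of H with inertia group T, and suppose the commutator of any two elements of T lies in H (T/H abelian). Then there are a positive integer e and a finite set C of irreducible characters of G with e ^ 2 * |C| * |H| = |T|, such that the function induced from θ is e times the sum of the members of C and every member of C has degree [G:T] * e * θ(1). -/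
theorem result {G : Type*} [Group G] [Fintype G] (H T : Subgroup G) [hN : H.Normal] (θ : H → ℂ) (hθ : Cfsg.IsIrrCharacter H θ) (hT : ∀ g : G, g ∈ T ↔ ∀ h : H, θ ⟨g * h * g⁻¹, hN.conj_mem h h.2 g⟩ = θ h) (hab : ∀ x ∈ T, ∀ y ∈ T, x * y * x⁻¹ * y⁻¹ ∈ H) : ∃ (e : ℕ) (C : Finset (G → ℂ)), 0 < e ∧ (∀ χ ∈ C, Cfsg.IsIrrCharacter G χ) ∧ e ^ 2 * C.card * Nat.card H = Nat.card T ∧ Cfsg.indFun H θ = (e : ℂ) • ∑ χ ∈ C, χ ∧ ∀ χ ∈ C, χ 1 = (T.index : ℂ) * e * θ 1 := by
  classical
  haveI := Fintype.ofFinite H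
  haveI := Fintype.ofFinite T
  have hHT : H ≤ T := fun g hg => (hT g).mpr fun h => by
    have := IsCharacter.isClassFunction (IsIrrCharacter.isCharacter hθ) h ⟨g, hg⟩
    exact this
  have hTi : T = inertia H θ := by
    ext g
    rw [mem_inertia]
    exact (hT g).trans ⟨fun h => funext h, fun h n => congrFun h n⟩
  have hab' : ∀ x y : T, x * y * x⁻¹ * y⁻¹ ∈ H.subgroupOf T := fun x y =>
    Subgroup.mem_subgroupOf.mpr (hab x x.2 y y.2)
  let ι : H.subgroupOf T ≃* H := Subgroup.subgroupOfEquivOfLe hHT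
  haveI := Fintype.ofFinite (H.subgroupOf T)
  have hθe := isIrrCharacter_comp_mulEquiv ι hθ
  have hinv : ∀ t : T, conjChar (H.subgroupOf T) t (fun n => θ (ι n)) = fun n => θ (ι n) := by
    intro t
    funext n
    exact (hT t).mp t.2 (ι n)
  obtain ⟨ψ₀, hψ₀, hne⟩ := IsCharacter.exists_irr_constituent
    (isCharacter_indFun (H.subgroupOf T) (IsIrrCharacter.isCharacter hθe)) (fun h => by
      have h1 := congrFun h 1
      rw [indFun_one_apply, Pi.zero_apply] at h1
      rcases mul_eq_zero.mp h1 with h1 | h1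
      · exact Subgroup.index_ne_zero_of_finite (Nat.cast_eq_zero.mp h1)
      · exact IsIrrCharacter.apply_one_ne_zero hθe h1)
  have hres0 : classInner (fun n : H.subgroupOf T => ψ₀ n) (fun n => θ (ι n)) ≠ 0 := by
    rw [classInner_indFun _ _ (IsCharacter.isClassFunction (IsIrrCharacter.isCharacter hψ₀))] at hne
    intro h0
    apply hne
    rw [← classInner_conj_symm, h0, map_zero]
  obtain ⟨e, he⟩ := exists_classInner_nat
    (IsCharacter.restrict (IsIrrCharacter.isCharacter hψ₀) (H.subgroupOf T)) hθe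
  have he0 : e ≠ 0 := fun h => hres0 (by rw [he, h, Nat.cast_zero])
  have hres := restrict_eq_smul_of_inertia_top (H.subgroupOf T) hψ₀ hθe hres0 hinv
  rw [he] at hres
  obtain ⟨C, h1, h2, h3, h4⟩ := abelian_inertia_decomp H T hθ hTi hHT hab' hψ₀ he0 (by
    funext n
    have h := congrFun hres (ι.symm n)
    have h3 : ((ι.symm n : H.subgroupOf T) : T) = ⟨(n : G), hHT n.2⟩ := rfl
    simpa [h3] using h)
  refine ⟨e, C, Nat.pos_of_ne_zero he0, h1, ?_, h3, h4⟩
  rw [h2, Subgroup.relIndex, mul_comm, ← Nat.card_congr ι.toEquiv,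
    Subgroup.card_mul_index]

end Cfsg.Agent.S1490
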