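import Cfsg.Statements.S1491
import Cfsg.Agent.Lib.Char.CliffordAbelian
import Cfsg.Agent.Lib.Char.Integral

set_option autoImplicit false
open Cfsg

namespace Cfsg.Agent.S1491

open Cfsg Cfsg.Agent.Char

/-- Let H be a normal subgroup of the finite group G and θ an irreducible character of H with inertia group T, where T/H is abelian (commutators of T lie in H) and the index of H in T is coprime to the order of H. Then the function induced from θ is the sum of a set of exactly [T:H] irreducible characters of G, each of degree [G:T] * θ(1). -/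
theorem result {G : Type*} [Group G] [Fintype G] (H T : Subgroup G) [hN : H.Normal] (θ : H → ℂ) (hθ : Cfsg.IsIrrCharacter H θ) (hT : ∀ g : G, g ∈ T ↔ ∀ h : H, θ ⟨g * h * g⁻¹, hN.conj_mem h h.2 g⟩ = θ h) (hab : ∀ x ∈ T, ∀ y ∈ T, x * y * x⁻¹ * y⁻¹ ∈ H) (hcop : Nat.Coprime (Nat.card H) (H.relIndex T)) : ∃ C : Finset (G → ℂ), (∀ χ ∈ C, Cfsg.IsIrrCharacter G χ) ∧ C.card = H.relIndex T ∧ Cfsg.indFun H θ = ∑ χ ∈ C, χ ∧ ∀ χ ∈ C, χ 1 = (T.index : ℂ) * θ 1 := by
  classical
  haveI := Fintype.ofFinite H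
  haveI := Fintype.ofFinite T
  have hHT : H ≤ T := fun g hg => (hT g).mpr fun h => by
    have := IsCharacter.isClassFunction (IsIrrCharacter.isCharacter hθ) h ⟨g, hg⟩
    exact this
  have hTi : T = inertia H θ := by
    ext g
    rw [mem_inertia]
    exact (hT g).trans ⟨fun h => funext h, fun h n => congrFun h n⟩
  have hab' : ∀ x y : T, x * y * x⁻¹ * y⁻¹ ∈ H.subgroupOf T := fun x y =>
    Subgroup.mem_subgroupOf.mpr (hab x x.2 y y.2)
  let ι : H.subgroupOf T ≃* H := Subgroup.subgroupOfEquivOfLe hHT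
  haveI := Fintype.ofFinite (H.subgroupOf T)
  have hθe := isIrrCharacter_comp_mulEquiv ι hθ
  have hinv : ∀ t : T, conjChar (H.subgroupOf T) t (fun n => θ (ι n)) = fun n => θ (ι n) := by
    intro t
    funext n
    exact (hT t).mp t.2 (ι n)
  obtain ⟨d, hd⟩ := IsCharacter.exists_degree (IsIrrCharacter.isCharacter hθe)
  obtain ⟨l, hl⟩ := exists_detHom hθe
  have hdet : detOrder (fun n => θ (ι n)) ∣ Nat.card H := by
    rw [detOrder, hl, orderOf_linearChar, ← Nat.card_congr ι.toEquiv]
    refine orderOf_dvd_of_pow_eq_one (MonoidHom.ext fun n => ?_)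
    rw [MonoidHom.pow_apply, ← map_pow, pow_card_eq_one', map_one, MonoidHom.one_apply]
  have hddvd : d ∣ Nat.card H := by
    rw [← Nat.card_congr ι.toEquiv]
    exact degree_dvd_card hθe d hd
  have hcop' : Nat.Coprime (H.subgroupOf T).index (detOrder (fun n => θ (ι n)) * d) := by
    have hc : Nat.Coprime (H.relIndex T) (Nat.card H) := hcop.symm
    exact Nat.Coprime.mul_right (hc.of_dvd_right hdet) (hc.of_dvd_right hddvd)
  obtain ⟨ψ₀, ⟨hψ₀, hres, -⟩, -⟩ := exists_unique_extension_coprime hθe hinv hd hcop'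
  obtain ⟨C, h1, h2, h3, h4⟩ := abelian_inertia_decomp H T hθ hTi hHT hab' hψ₀ one_ne_zero (by
    funext n
    have h := hres (ι.symm n)
    have h3 : ((ι.symm n : H.subgroupOf T) : T) = ⟨(n : G), hHT n.2⟩ := rfl
    simpa [h3] using h)
  exact ⟨C, h1, by simpa using h2, by simpa using h3, fun χ hχ => by simpa using h4 χ hχ⟩

end Cfsg.Agent.S1491
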