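import Cfsg.Statements.S1492
import Cfsg.Agent.Lib.Char.Clifford
import Cfsg.Agent.Lib.Char.Monomial
import Cfsg.Agent.Lib.Char.Extension
import Cfsg.Agent.Lib.Char.Integral

set_option autoImplicit false
open Cfsg

namespace Cfsg.Agent.S1492

open Cfsg Cfsg.Agent.Char

/-- Let ψ be an irreducible character of the finite group G and B ≤ D ≤ C subgroups with B normal in C, every commutator of an element of D with an element of C lying in B (so D/B is central in C/B), and ψ constant equal to ψ 1 on B. Then ψ(1) ^ 2 * |C| * |D| ≤ |G| ^ 2. -/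
theorem result {G : Type*} [Group G] [Finite G] (ψ : G → ℂ) (hψ : Cfsg.IsIrrCharacter G ψ) (B C D : Subgroup G) (hBD : B ≤ D) (hDC : D ≤ C) (hBn : ∀ c ∈ C, ∀ b ∈ B, c * b * c⁻¹ ∈ B) (hcent : ∀ d ∈ D, ∀ c ∈ C, d * c * d⁻¹ * c⁻¹ ∈ B) (hker : ∀ b ∈ B, ψ b = ψ 1) : ‖ψ 1‖ ^ 2 * (Nat.card C : ℝ) * (Nat.card D : ℝ) ≤ (Nat.card G : ℝ) ^ 2 := by
  classical
  haveI := Fintype.ofFinite G
  haveI := Fintype.ofFinite C
  haveI := Fintype.ofFinite D
  have hψc := IsIrrCharacter.isCharacter hψ
  have hres : IsCharacter C (fun c : C => ψ c) := IsCharacter.restrict hψc C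
  have hne : (fun c : C => ψ c) ≠ 0 := fun h =>
    IsIrrCharacter.apply_one_ne_zero hψ (congrFun h 1)
  obtain ⟨θ, hθ, hcon⟩ := IsCharacter.exists_irr_constituent hres hne
  have hθc := IsIrrCharacter.isCharacter hθ
  have hB : ∀ b : C, (b : G) ∈ B → θ b = θ 1 := fun b hb =>
    constituent_apply_eq_one hres hθ hcon (hker b hb)
  obtain ⟨n, hn⟩ := IsCharacter.exists_degree hθc
  obtain ⟨m, hm⟩ := IsCharacter.exists_degree hψc
  -- `θ(1)^2 |D| ≤ |C|`
  have h1 : n ^ 2 * Nat.card D ≤ Nat.card C := by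
    obtain ⟨k, ρ, hρ, e⟩ := hθ
    haveI := hρ
    subst e
    have hnk : n = k := by
      have := hn.symm.trans ρ.char_one
      rw [Module.finrank_fin_fun] at this
      exact_mod_cast this
    have hnormd : ∀ d : C, (d : G) ∈ D →
        ρ.character d * (starRingEnd ℂ) (ρ.character d) = (n : ℂ) * n := by
      intro d hd
      obtain ⟨c, hc⟩ := isScalar_of_commute ρ (ρ d) fun g => by
        have h := hB (d * g * d⁻¹ * g⁻¹) (hcent d hd g g.2)
        rw [ρ.char_one, character_eq_finrank_iff] at h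
        rw [← map_mul, ← map_mul, show d * g = d * g * d⁻¹ * g⁻¹ * (g * d) by group,
          map_mul, h]
        rfl
      rw [norm_sq_of_smul ρ d hc, Module.finrank_fin_fun, hnk]
    have hsum := (isIrreducible_iff_classInner ρ).mp hρ
    simp only [classInner] at hsum
    rw [inv_mul_eq_one₀ (Nat.cast_ne_zero.mpr Nat.card_pos.ne')] at hsum
    have hre := congrArg Complex.re hsum
    simp only [Complex.natCast_re, Complex.re_sum] at hre
    have hle : ∑ d : C, (if (d : G) ∈ D then (n : ℝ) ^ 2 else 0) ≤ (Nat.card C : ℝ) := by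
      rw [hre]
      refine Finset.sum_le_sum fun d _ => ?_
      split_ifs with hd
      · rw [hnormd d hd]; simp [sq]
      · rw [Complex.mul_conj]; simpa using Complex.normSq_nonneg _
    rw [← Finset.sum_filter, Finset.sum_const, nsmul_eq_mul] at hle
    have hcd : (Finset.univ.filter fun d : C => (d : G) ∈ D).card = Nat.card D := by
      rw [← Fintype.card_subtype, ← Nat.card_eq_fintype_card]
      exact Nat.card_congr
        { toFun := fun d => ⟨d.1, d.2⟩
          invFun := fun d => ⟨⟨d, hDC d.2⟩, d.2⟩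
          left_inv := fun d => rfl
          right_inv := fun d => rfl }
    rw [hcd] at hle
    have : ((n ^ 2 * Nat.card D : ℕ) : ℝ) ≤ (Nat.card C : ℝ) := by push_cast; linarith
    exact_mod_cast this
  -- `ψ(1) ≤ [G:C] θ(1)`
  have h2 : m ≤ C.index * n := by
    have hne' : classInner (indFun C θ) ψ ≠ 0 := by
      rw [classInner_indFun C θ (IsCharacter.isClassFunction hψc), ← classInner_conj_symm]
      simpa using hcon
    obtain ⟨r, hr, e⟩ := exists_add_of_classInner_ne_zero (isCharacter_indFun C hθc) hψ hne'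
    obtain ⟨r1, hr1⟩ := IsCharacter.exists_degree hr
    have e1 := congrFun e 1
    rw [indFun_one_apply, hn, Pi.add_apply, hm, hr1] at e1
    have : C.index * n = m + r1 := by exact_mod_cast e1
    omega
  have key : m ^ 2 * Nat.card C * Nat.card D ≤ Nat.card G ^ 2 := by
    calc m ^ 2 * Nat.card C * Nat.card D ≤ (C.index * n) ^ 2 * Nat.card C * Nat.card D := by
          gcongr
      _ = C.index ^ 2 * Nat.card C * (n ^ 2 * Nat.card D) := by ring
      _ ≤ C.index ^ 2 * Nat.card C * Nat.card C := Nat.mul_le_mul_left _ h1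
      _ = Nat.card G ^ 2 := by rw [← C.index_mul_card]; ring
  rw [hm, Complex.norm_natCast]
  exact_mod_cast key

end Cfsg.Agent.S1492
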