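import Cfsg.Statements.S1494
import Cfsg.Agent.Lib.Char.Galois

set_option autoImplicit false
open Cfsg

namespace Cfsg.Agent.S1494

open Cfsg.Agent.Char

/-- Let χ be a generalized character of the finite group G, p a prime, x an element of order p and y an element commuting with x. Then χ(x * y) − χ(y) = (1 − ε) * ω for some algebraic integer ω, where ε = exp(2πi/p). -/
theorem result {G : Type*} [Group G] [Finite G] (χ : G → ℂ) (hχ : Cfsg.IsGeneralizedCharacter G χ) (p : ℕ) (hp : p.Prime) (x y : G) (hx : orderOf x = p) (hxy : x * y = y * x) : ∃ ω : ℂ, IsIntegral ℤ ω ∧ χ (x * y) - χ y = (1 - Complex.exp (2 * Real.pi * Complex.I / p)) * ω := by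
  set ε := Complex.exp (2 * Real.pi * Complex.I / p)
  have hprim : IsPrimitiveRoot ε p := Complex.isPrimitiveRoot_exp p hp.ne_zero
  haveI : NeZero p := ⟨hp.ne_zero⟩
  let H : Subgroup G := Subgroup.closure {x, y}
  have hab : ∀ a b : H, a * b = b * a := by
    haveI : IsMulCommutative H := Subgroup.isMulCommutative_closure (by
      rintro a (rfl | rfl) b (rfl | rfl) <;> first | rfl | exact hxy | exact hxy.symm)
    exact fun a b => mul_comm' a b
  let x' : H := ⟨x, Subgroup.subset_closure (by simp)⟩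
  let y' : H := ⟨y, Subgroup.subset_closure (by simp)⟩
  obtain ⟨s, c, l, hl⟩ := exists_sum_linear hab (IsGeneralizedCharacter.restrict hχ H)
  have hroot : ∀ i, ∃ j, (l i x' : ℂ) = ε ^ j := fun i => by
    obtain ⟨j, -, hj⟩ := hprim.eq_pow_of_pow_eq_one (ξ := (l i x' : ℂ)) (by
      rw [← Units.val_pow_eq_pow_val, ← map_pow,
        show x' ^ p = 1 from Subtype.ext (hx ▸ pow_orderOf_eq_one x), map_one, Units.val_one])
    exact ⟨j, hj.symm⟩
  choose j hj using hroot
  have hint : IsIntegral ℤ ε := hprim.isIntegral hp.pos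
  have hly : ∀ i, IsIntegral ℤ (l i y' : ℂ) := fun i => by
    refine IsIntegral.of_pow (orderOf_pos y') ?_
    rw [← Units.val_pow_eq_pow_val, ← map_pow, pow_orderOf_eq_one, map_one, Units.val_one]
    exact isIntegral_one
  refine ⟨∑ i ∈ s, (c i : ℂ) * ((-∑ k ∈ Finset.range (j i), ε ^ k) * (l i y' : ℂ)), ?_, ?_⟩
  · refine IsIntegral.sum _ fun i _ => ?_
    exact (isIntegral_algebraMap (R := ℤ) (A := ℂ) (x := c i)).mul
      (((IsIntegral.sum _ fun k _ => hint.pow k).neg).mul (hly i))
  · have e1 : χ (x * y) = ∑ i ∈ s, (c i : ℂ) * (l i (x' * y') : ℂ) := hl (x' * y')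
    have e2 : χ y = ∑ i ∈ s, (c i : ℂ) * (l i y' : ℂ) := hl y'
    rw [e1, e2, Finset.mul_sum, ← Finset.sum_sub_distrib]
    refine Finset.sum_congr rfl fun i _ => ?_
    rw [map_mul, Units.val_mul, hj]
    have := mul_neg_geom_sum ε (j i)
    linear_combination ((c i : ℂ) * (l i y' : ℂ)) * this

end Cfsg.Agent.S1494
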