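import Cfsg.Statements.S1495
import Mathlib
import Cfsg.Agent.Lib.Char.Integral

set_option autoImplicit false
open Cfsg

namespace Cfsg.Agent.S1495

/-- Let p be a prime, ε = exp(2πi/p), and n an integer such that n = (1 − ε) * ω for some algebraic integer ω. Then p divides n. -/
theorem result (p : ℕ) (hp : p.Prime) (n : ℤ) (ω : ℂ) (hω : IsIntegral ℤ ω) (h : (n : ℂ) = (1 - Complex.exp (2 * Real.pi * Complex.I / p)) * ω) : (p : ℤ) ∣ n := by
  set ε := Complex.exp (2 * Real.pi * Complex.I / p) with hε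
  have hprim : IsPrimitiveRoot ε p := Complex.isPrimitiveRoot_exp p hp.ne_zero
  obtain ⟨m, rfl⟩ : ∃ m, p = m + 1 := ⟨p - 1, (Nat.succ_pred_eq_of_pos hp.pos).symm⟩
  have hint : IsIntegral ℤ ε := hprim.isIntegral hp.pos
  have hfac : ∀ k ∈ Finset.range m,
      ∃ u : ℂ, IsIntegral ℤ u ∧ 1 - ε = (1 - ε ^ (k + 1)) * u := by
    intro k hk
    have hk' : k + 1 < m + 1 := by simpa using hk
    have hcop : Nat.Coprime (k + 1) (m + 1) :=
      (hp.coprime_iff_not_dvd.mpr fun hd =>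
        absurd (Nat.le_of_dvd (Nat.succ_pos k) hd) (not_le.mpr hk')).symm
    obtain ⟨j, -, hj⟩ := Nat.exists_mul_mod_eq_one_of_coprime hcop hp.one_lt
    refine ⟨∑ i ∈ Finset.range j, (ε ^ (k + 1)) ^ i,
      IsIntegral.sum _ fun i _ => ((hint.pow _).pow i), ?_⟩
    rw [mul_neg_geom_sum, ← pow_mul]
    congr 1
    conv_lhs => rw [← pow_one ε]
    rw [pow_eq_pow_mod ((k + 1) * j) hprim.pow_eq_one, hj]
  choose! u hu hu' using hfac
  have hprod : (1 - ε) ^ m = (m + 1 : ℂ) * ∏ k ∈ Finset.range m, u k := by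
    rw [← hprim.prod_one_sub_pow_eq_order, ← Finset.prod_mul_distrib,
      ← Finset.prod_congr rfl hu', Finset.prod_const, Finset.card_range]
  have hdiv : IsIntegral ℤ (((((n ^ m : ℤ) : ℚ) / (m + 1 : ℕ)) : ℚ) : ℂ) := by
    have : (((((n ^ m : ℤ) : ℚ) / (m + 1 : ℕ)) : ℚ) : ℂ) =
        (∏ k ∈ Finset.range m, u k) * ω ^ m := by
      push_cast
      rw [h, mul_pow, hprod, div_eq_iff (Nat.cast_add_one_ne_zero m)]
      ring
    rw [this]
    exact (IsIntegral.prod _ hu).mul (hω.pow m)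
  obtain ⟨z, hz⟩ := Cfsg.Agent.Char.rat_eq_int_of_isIntegral hdiv
  have hz' : n ^ m = ((m + 1 : ℕ) : ℤ) * z := by
    rw [div_eq_iff (Nat.cast_ne_zero.mpr (Nat.succ_ne_zero m))] at hz
    have : ((n ^ m : ℤ) : ℚ) = ((((m + 1 : ℕ) : ℤ) * z : ℤ) : ℚ) := by
      rw [hz]; push_cast; ring
    exact_mod_cast this
  exact (Nat.prime_iff_prime_int.mp hp).dvd_of_dvd_pow ⟨z, hz'⟩

end Cfsg.Agent.S1495
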