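import Cfsg.Statements.S1497


set_option autoImplicit false
open Cfsg

namespace Cfsg.Agent.S1497

/-- Let A be a nonempty subset of the finite group G not containing 1 and L a subgroup. Then A is a TI-subset whose normaliser is L if and only if the Dade hypothesis holds for A, L and the constant choice H(a) = ⊥. -/
theorem result {G : Type*} [Group G] [Finite G] (A : Set G) (hA : A.Nonempty) (h1 : (1 : G) ∉ A) (L : Subgroup G) : (Cfsg.IsTISubset A ∧ Subgroup.normalizer A = L) ↔ Cfsg.DadeHypothesis A L (fun _ => ⊥) := by
  constructor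
  · rintro ⟨hTI, hN⟩
    have hmem : ∀ g : G, ∀ a ∈ A, g * a * g⁻¹ ∈ A → g ∈ L := by
      intro g a ha hga
      by_contra hg
      rw [← hN] at hg
      exact h1 (hTI g hg a ha hga ▸ ha)
    refine ⟨h1, fun a ha => hmem a a ha (by simpa using ha), ?_, ?_, ?_, ?_, ?_, ?_, ?_⟩
    · intro x hx a ha
      rw [← hN, Subgroup.mem_set_normalizer_iff] at hx
      exact (hx a).mp ha
    · exact fun a ha g hg => ⟨g, hmem g a ha hg, rfl⟩
    · exact fun _ _ => bot_le
    · intro a _ c _ u hu
      rw [Subgroup.mem_bot] at hu ⊢
      simp [hu]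
    · simp
    · intro a ha
      rw [bot_sup_eq, inf_eq_right]
      intro c hc
      rw [Subgroup.mem_centralizer_singleton_iff] at hc
      refine hmem c a ha ?_
      have : c * a * c⁻¹ = a := by
        first
          | rw [hc]; group
          | rw [← hc]; group
      rwa [this]
    · simp
  · intro hD
    have hmem : ∀ g : G, ∀ a ∈ A, g * a * g⁻¹ ∈ A → g ∈ L := by
      intro g a ha hga
      obtain ⟨x, hx, e⟩ := hD.fusion a ha g hga
      have hc : x⁻¹ * g ∈ Subgroup.centralizer ({a} : Set G) := by
        rw [Subgroup.mem_centralizer_singleton_iff]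
        have e' : x⁻¹ * g * a = a * (x⁻¹ * g) := by
          calc x⁻¹ * g * a = x⁻¹ * (g * a * g⁻¹) * g := by group
            _ = x⁻¹ * (x * a * x⁻¹) * g := by rw [e]
            _ = a * (x⁻¹ * g) := by group
        first
          | exact e'
          | exact e'.symm
      have hs := hD.sup_eq a ha
      rw [bot_sup_eq, inf_eq_right] at hs
      simpa using L.mul_mem hx (hs hc)
    have hN : Subgroup.normalizer A = L := by
      refine le_antisymm ?_ ?_
      · intro g hg
        obtain ⟨a, ha⟩ := hA
        exact hmem g a ha ((Subgroup.mem_set_normalizer_iff.mp hg a).mp ha)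
      · intro x hx
        rw [Subgroup.mem_set_normalizer_iff]
        intro a
        refine ⟨fun ha => hD.conj_mem x hx a ha, fun ha => ?_⟩
        have := hD.conj_mem x⁻¹ (L.inv_mem hx) _ ha
        simpa [mul_assoc] using this
    refine ⟨fun g hg a ha hga => ?_, hN⟩
    rw [hN] at hg
    exact absurd (hmem g a ha hga) hg

end Cfsg.Agent.S1497
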