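import Cfsg.Statements.S1499
import Cfsg.Agent.Lib.Char.Dade

set_option autoImplicit false
open Cfsg

namespace Cfsg.Agent.S1499

open Cfsg Cfsg.Agent.Char

/-- Under the Dade hypothesis for (A, L, H), let a, b ∈ A. If an element of the coset a·H(a) is conjugate in G to an element of b·H(b), then a and b are conjugate by an element of L. Moreover the set normaliser of the coset a·H(a) is the centraliser of a. -/
theorem result {G : Type*} [Group G] [Finite G] (A : Set G) (L : Subgroup G) (H : G → Subgroup G) (hD : Cfsg.DadeHypothesis A L H) (a b : G) (ha : a ∈ A) (hb : b ∈ A) : ((∃ u ∈ H a, ∃ v ∈ H b, ∃ g : G, g * (a * u) * g⁻¹ = b * v) → ∃ x ∈ L, x * a * x⁻¹ = b) ∧ Subgroup.normalizer ((fun u : G => a * u) '' (H a : Set G)) = Subgroup.centralizer ({a} : Set G) := by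
  constructor
  · rintro ⟨u, hu, v, hv, g, h⟩
    have h1 := dade_part_conj hD ha hb hu hv h
    obtain ⟨x, hx, e⟩ := hD.fusion a ha g (h1.symm ▸ hb)
    exact ⟨x, hx, e.trans h1⟩
  · refine le_antisymm ?_ ?_
    · intro g hg
      obtain ⟨u, hu, e⟩ := (Subgroup.mem_set_normalizer_iff.mp hg (a * 1)).mp
        ⟨1, (H a).one_mem, rfl⟩
      have h1 := dade_part_conj hD ha ha (H a).one_mem hu e.symm
      rw [Subgroup.mem_centralizer_singleton_iff]
      have h2 : g * a = a * g := by
        conv_rhs => rw [← h1]
        group
      first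
        | exact h2
        | exact h2.symm
    · have key : ∀ c ∈ Subgroup.centralizer ({a} : Set G), ∀ z ∈ (fun u : G => a * u) '' (H a : Set G),
          c * z * c⁻¹ ∈ (fun u : G => a * u) '' (H a : Set G) := by
        rintro c hc _ ⟨u, hu, rfl⟩
        refine ⟨c * u * c⁻¹, hD.conj_mem_H a ha c hc u hu, ?_⟩
        have h := Subgroup.mem_centralizer_singleton_iff.mp hc
        have h2 : c * a = a * c := by
          first
            | exact h
            | exact h.symm
        calc a * (c * u * c⁻¹) = (a * c) * u * c⁻¹ := by group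
          _ = c * (a * u) * c⁻¹ := by rw [← h2]; group
      intro c hc
      rw [Subgroup.mem_set_normalizer_iff]
      intro z
      refine ⟨key c hc z, fun hz => ?_⟩
      have := key c⁻¹ (inv_mem hc) _ hz
      simpa [mul_assoc] using this

end Cfsg.Agent.S1499
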