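import Cfsg.Statements.S1500
import Cfsg.Agent.Lib.Char.Dade

set_option autoImplicit false
open Cfsg

namespace Cfsg.Agent.S1500

open Cfsg Cfsg.Agent.Char
open scoped ComplexConjugate

/-- Under the Dade hypothesis for (A, L, H), let α be a class function of L vanishing outside A. Then (i) for every class function β of L vanishing outside A, the inner product over G of the Dade images of α and β equals the inner product of α and β over L; and (ii) for every class function χ of G and every function ψ on L whose value at each a ∈ A is the average of χ over the coset a·H(a), the inner product over G of the Dade image of α with χ equals the inner product over L of α with ψ. -/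
theorem result {G : Type*} [Group G] [Fintype G] (A : Set G) (L : Subgroup G) [Fintype L] (H : G → Subgroup G) (hD : Cfsg.DadeHypothesis A L H) (α : L → ℂ) (hα : Cfsg.IsClassFunction L α) (hαA : ∀ x : L, (x : G) ∉ A → α x = 0) : (∀ β : L → ℂ, Cfsg.IsClassFunction L β → (∀ x : L, (x : G) ∉ A → β x = 0) → Cfsg.classInner (Cfsg.dadeIsometry A L H α) (Cfsg.dadeIsometry A L H β) = Cfsg.classInner α β) ∧ (∀ (χ : G → ℂ) (ψ : L → ℂ), Cfsg.IsClassFunction G χ → (∀ a : L, (a : G) ∈ A → ψ a = (Nat.card (H a) : ℂ)⁻¹ * ∑ᶠ u ∈ (H a : Set G), χ (a * u)) → Cfsg.classInner (Cfsg.dadeIsometry A L H α) χ = Cfsg.classInner α ψ) := by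
  classical
  have main : ∀ (χ : G → ℂ) (ψ : L → ℂ), IsClassFunction G χ →
      (∀ a : L, (a : G) ∈ A → ψ a =
        (Nat.card (H a) : ℂ)⁻¹ * ∑ᶠ u ∈ (H a : Set G), χ (a * u)) →
      classInner (dadeIsometry A L H α) χ = classInner α ψ := by
    intro χ ψ hχ hψ
    have hτ := isClassFunction_dadeIsometry hD hα
    have hs := dade_sum hD (f := fun g => dadeIsometry A L H α g * conj (χ g))
      (fun g y => by show _ * conj (χ _) = _; rw [hτ g y, hχ g y])
      (fun g hg => by simp [dadeIsometry_of_not hg])
    have e : (∑ a : L, if (a : G) ∈ A then (Nat.card (H (a : G)) : ℂ)⁻¹ *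
        ∑ u : H (a : G), dadeIsometry A L H α ((a : G) * u) * conj (χ ((a : G) * u)) else 0) =
        ∑ a : L, α a * conj (ψ a) := by
      refine Finset.sum_congr rfl fun a _ => ?_
      split_ifs with ha
      · rw [hψ a ha, finsum_mem_eq_finite_toFinset_sum _ (Set.toFinite (H (a : G) : Set G)),
          Finset.sum_subtype _ (fun x => by simp) (p := fun x : G => x ∈ H (a : G))]
        rw [map_mul, map_inv₀, Complex.conj_natCast, map_sum, mul_left_comm, Finset.mul_sum (a := α a)]
        congr 1
        refine Finset.sum_congr rfl fun u _ => ?_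
        rw [dadeIsometry_apply hD hα ha u.2 (x := 1) (by simp)]
      · rw [hαA a ha, zero_mul]
    rw [e] at hs
    simp only [classInner]
    have hG : (Nat.card G : ℂ) ≠ 0 := Nat.cast_ne_zero.mpr Nat.card_pos.ne'
    have hL : (Nat.card L : ℂ) ≠ 0 := Nat.cast_ne_zero.mpr Nat.card_pos.ne'
    field_simp
    linear_combination hs
  refine ⟨fun β hβ _ => main _ β (isClassFunction_dadeIsometry hD hβ) fun a ha => ?_, main⟩
  rw [finsum_mem_eq_finite_toFinset_sum _ (Set.toFinite (H (a : G) : Set G)),
    Finset.sum_congr rfl fun u hu => dadeIsometry_apply hD hβ ha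
      ((Set.Finite.mem_toFinset _).mp hu) (x := 1) (by simp),
    Finset.sum_const, nsmul_eq_mul, ← Set.ncard_eq_toFinset_card, ← Nat.card_coe_set_eq,
    ← mul_assoc]
  exact (by rw [inv_mul_cancel₀ (Nat.cast_ne_zero.mpr Nat.card_pos.ne'), one_mul] :
    ((Nat.card (H (a : G)) : ℂ))⁻¹ * (Nat.card (H (a : G)) : ℂ) * β a = β a).symm

end Cfsg.Agent.S1500
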