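import Cfsg.Statements.S1504
import Cfsg.Agent.Lib.Char.Basic
import Cfsg.Agent.Lib.Char.Linear

set_option autoImplicit false
open Cfsg

namespace Cfsg.Agent.S1504

open Cfsg Cfsg.Agent.Char

/-- Let W₁, W₂ be subgroups of a finite group with W₁ ⊓ W₂ = ⊥ whose elements commute, and W = W₁ ⊔ W₂. For linear characters φ, ψ of W with φ trivial on W₂ and ψ trivial on W₁, the function (1 − φ)(1 − ψ) vanishes on W₁ ∪ W₂; and the family of these functions, indexed by pairs (φ, ψ) with φ ≠ 1 ≠ ψ, is linearly independent over ℂ. -/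
theorem result {G : Type*} [Group G] [Finite G] (W₁ W₂ : Subgroup G) (hdisj : W₁ ⊓ W₂ = ⊥) (hcomm : ∀ a ∈ W₁, ∀ b ∈ W₂, a * b = b * a) : (∀ φ ψ : ↥(W₁ ⊔ W₂) →* ℂˣ, (∀ w : ↥(W₁ ⊔ W₂), (w : G) ∈ W₂ → φ w = 1) → (∀ w : ↥(W₁ ⊔ W₂), (w : G) ∈ W₁ → ψ w = 1) → ∀ w : ↥(W₁ ⊔ W₂), ((w : G) ∈ W₁ ∨ (w : G) ∈ W₂) → (1 - (φ w : ℂ) - (ψ w : ℂ) + (φ w : ℂ) * (ψ w : ℂ)) = 0) ∧ LinearIndependent ℂ (fun p : {p : (↥(W₁ ⊔ W₂) →* ℂˣ) × (↥(W₁ ⊔ W₂) →* ℂˣ) // p.1 ≠ 1 ∧ p.2 ≠ 1 ∧ (∀ w : ↥(W₁ ⊔ W₂), (w : G) ∈ W₂ → p.1 w = 1) ∧ (∀ w : ↥(W₁ ⊔ W₂), (w : G) ∈ W₁ → p.2 w = 1)} => fun w : ↥(W₁ ⊔ W₂) => 1 - (p.1.1 w : ℂ) - (p.1.2 w : ℂ) + (p.1.1 w : ℂ) * (p.1.2 w : ℂ)) := by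
  classical
  haveI := Fintype.ofFinite ↥(W₁ ⊔ W₂)
  have hdec : ∀ w : ↥(W₁ ⊔ W₂), ∃ a b : ↥(W₁ ⊔ W₂), (a : G) ∈ W₁ ∧ (b : G) ∈ W₂ ∧ w = a * b := by
    intro w
    have hn : W₂ ≤ Subgroup.normalizer (W₁ : Set G) := by
      intro b hb
      rw [Subgroup.mem_normalizer_iff]
      intro n
      constructor
      · intro hn
        rwa [← hcomm n hn b hb, mul_inv_cancel_right]
      · intro hn
        have h2 := hcomm _ hn b hb
        have : n = b * n * b⁻¹ := by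
          apply mul_left_cancel (a := b)
          calc b * n = b * n * b⁻¹ * b := by group
            _ = b * (b * n * b⁻¹) := h2
        rwa [this]
    have hw : (w : G) ∈ (↑(W₁ ⊔ W₂) : Set G) := w.2
    rw [Subgroup.coe_mul_of_right_le_normalizer_left W₁ W₂ hn] at hw
    obtain ⟨a, ha, b, hb, e⟩ := hw
    exact ⟨⟨a, Subgroup.mem_sup_left ha⟩, ⟨b, Subgroup.mem_sup_right hb⟩, ha, hb,
      Subtype.ext e.symm⟩
  constructor
  · intro φ ψ hφ hψ w hw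
    rcases hw with h | h
    · rw [hψ w h]; simp
    · rw [hφ w h]; simp
  rw [linearIndependent_iff']
  intro s c hsum p hp
  have hext : ∀ l l' : ↥(W₁ ⊔ W₂) →* ℂˣ,
      (∀ w : ↥(W₁ ⊔ W₂), ((w : G) ∈ W₁ ∨ (w : G) ∈ W₂) → l w = l' w) → l = l' := by
    intro l l' h
    refine MonoidHom.ext fun w => ?_
    obtain ⟨a, b, ha, hb, rfl⟩ := hdec w
    rw [map_mul, map_mul, h a (Or.inl ha), h b (Or.inr hb)]
  have hne : ∀ l l' : ↥(W₁ ⊔ W₂) →* ℂˣ, l ≠ l' →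
      classInner (fun w => (l w : ℂ)) (fun w => (l' w : ℂ)) = 0 := fun l l' h =>
    IsIrrCharacter.classInner_eq_zero (isIrrCharacter_monoidHom l) (isIrrCharacter_monoidHom l')
      fun e => h (monoidHom_coe_injective e)
  set T : ↥(W₁ ⊔ W₂) → ℂ := fun w => ((p.1.1 * p.1.2 : ↥(W₁ ⊔ W₂) →* ℂˣ) w : ℂ) with hT
  have key : ∀ q, q ∈ s → classInner (fun w : ↥(W₁ ⊔ W₂) =>
      1 - (q.1.1 w : ℂ) - (q.1.2 w : ℂ) + (q.1.1 w : ℂ) * (q.1.2 w : ℂ)) T =
      if q = p then 1 else 0 := by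
    intro q _
    have e : (fun w : ↥(W₁ ⊔ W₂) =>
        1 - (q.1.1 w : ℂ) - (q.1.2 w : ℂ) + (q.1.1 w : ℂ) * (q.1.2 w : ℂ)) =
        (fun w => ((1 : ↥(W₁ ⊔ W₂) →* ℂˣ) w : ℂ)) - (fun w => (q.1.1 w : ℂ)) -
          (fun w => (q.1.2 w : ℂ)) + (fun w => ((q.1.1 * q.1.2 : ↥(W₁ ⊔ W₂) →* ℂˣ) w : ℂ)) := by
      funext w
      simp
    obtain ⟨hp1, hp2, hpW2, hpW1⟩ := p.2
    obtain ⟨hq1, hq2, hqW2, hqW1⟩ := q.2
    rw [e, classInner_add_left, classInner_sub_left, classInner_sub_left,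
      hne 1 _ ?_, hne q.1.1 _ ?_, hne q.1.2 _ ?_]
    · split_ifs with hqp
      · subst hqp
        rw [hT, IsIrrCharacter.classInner_self (isIrrCharacter_monoidHom _)]
        ring
      · rw [hne _ _ ?_]
        · ring
        intro h
        refine hqp (Subtype.ext (Prod.ext (hext _ _ fun w hw => ?_) (hext _ _ fun w hw => ?_)))
        · rcases hw with hw | hw
          · have := DFunLike.congr_fun h w
            simpa [hqW1 w hw, hpW1 w hw] using this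
          · rw [hqW2 w hw, hpW2 w hw]
        · rcases hw with hw | hw
          · rw [hqW1 w hw, hpW1 w hw]
          · have := DFunLike.congr_fun h w
            simpa [hqW2 w hw, hpW2 w hw] using this
    · intro h
      refine hp1 (hext _ _ fun w hw => ?_)
      rcases hw with hw | hw
      · have := DFunLike.congr_fun h w
        simpa [hpW1 w hw, hqW1 w hw] using this.symm
      · rw [hpW2 w hw]; rfl
    · intro h
      refine hp2 (hext _ _ fun w hw => ?_)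
      rcases hw with hw | hw
      · rw [hpW1 w hw]; rfl
      · have := DFunLike.congr_fun h w
        simpa [hqW2 w hw, hpW2 w hw] using this.symm
    · intro h
      refine hp1 (hext _ _ fun w hw => ?_)
      rcases hw with hw | hw
      · have := DFunLike.congr_fun h w
        simpa [hqW1 w hw, hpW1 w hw] using this.symm
      · rw [hpW2 w hw]; rfl
  have h := congrArg (fun f => classInner f T) hsum
  rw [classInner_sum_left, classInner_zero_left] at h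
  rw [Finset.sum_congr rfl fun q hq => by rw [classInner_smul_left, key q hq]] at h
  simpa [hp] using h

end Cfsg.Agent.S1504
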