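import Cfsg.Statements.S1507
import Cfsg.Agent.Lib.Char.CyclicTIFamily

set_option autoImplicit false
open Cfsg

namespace Cfsg.Agent.S1507

open Cfsg.Agent.Char Cfsg.Agent.Char.CTI

open Classical in
/-- A sum array with few nonzero entries is supported on one line. -/
theorem few_nonzero {I J : Type*} [Fintype I] [Fintype J] (f : I → ℂ) (g : J → ℂ)
    (hI : 2 ≤ Fintype.card I) (hlt : Fintype.card I + 2 ≤ Fintype.card J)
    (hfew : Nat.card {p : I × J // f p.1 + g p.2 ≠ 0} < 2 * Fintype.card I) :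
    (∀ i j, f i + g j = 0) ∨ (∃ j₀ a, ∀ i j, f i + g j = if j = j₀ then a else 0) ∨
      (∃ i₀ a, ∀ i j, f i + g j = if i = i₀ then a else 0) := by
  let N : J → ℕ := fun j => (Finset.univ.filter fun i => f i + g j ≠ 0).card
  have hcount : Nat.card {p : I × J // f p.1 + g p.2 ≠ 0} = ∑ j, N j := by
    rw [Nat.card_eq_fintype_card, Fintype.card_subtype, Finset.card_filter,
      Fintype.sum_prod_type, Finset.sum_comm]
    exact Finset.sum_congr rfl fun j _ => (Finset.card_filter _ _).symm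
  rw [hcount] at hfew
  obtain ⟨i₁⟩ : Nonempty I := Fintype.card_pos_iff.mp (by omega)
  by_cases hc : ∀ i, f i = f i₁
  · have hN : ∀ j, f i₁ + g j ≠ 0 → N j = Fintype.card I := fun j hj => by
      simp only [N]
      rw [Finset.filter_true_of_mem fun i _ => by rw [hc i]; exact hj, Finset.card_univ]
    by_cases hz : ∀ j, f i₁ + g j = 0
    · exact Or.inl fun i j => by rw [hc i, hz j]
    push Not at hz
    obtain ⟨j₀, hj₀⟩ := hz
    refine Or.inr (Or.inl ⟨j₀, f i₁ + g j₀, fun i j => ?_⟩)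
    rw [hc i]
    split_ifs with e
    · rw [e]
    · by_contra hj
      have h2 : ∑ x ∈ ({j, j₀} : Finset J), N x ≤ ∑ x, N x :=
        Finset.sum_le_sum_of_subset (Finset.subset_univ _)
      rw [Finset.sum_pair e, hN j hj, hN j₀ hj₀] at h2
      omega
  push Not at hc
  obtain ⟨i₂, hi₂⟩ := hc
  have h1 : ∀ j, 1 ≤ N j := by
    intro j
    refine Finset.card_pos.mpr ?_
    by_cases h : f i₁ + g j = 0
    · refine ⟨i₂, Finset.mem_filter.mpr ⟨Finset.mem_univ _, fun h' => hi₂ ?_⟩⟩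
      linear_combination h' - h
    · exact ⟨i₁, Finset.mem_filter.mpr ⟨Finset.mem_univ _, h⟩⟩
  obtain ⟨j₀, hj₀⟩ : ∃ j, N j = 1 := by
    by_contra hno
    push Not at hno
    have h2 : ∑ _j : J, 2 ≤ ∑ j, N j :=
      Finset.sum_le_sum fun j _ => by have := h1 j; have := hno j; omega
    simp only [Finset.sum_const, Finset.card_univ, smul_eq_mul] at h2
    omega
  obtain ⟨i₀, hi₀⟩ := Finset.card_eq_one.mp hj₀
  have hf : ∀ i, i ≠ i₀ → f i + g j₀ = 0 := by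
    intro i hi
    by_contra h
    have : i ∈ Finset.univ.filter fun i => f i + g j₀ ≠ 0 := by simp [h]
    rw [hi₀, Finset.mem_singleton] at this
    exact hi this
  have hall : ∀ j, g j = g j₀ := by
    by_contra hno
    push Not at hno
    obtain ⟨j, hj⟩ := hno
    have hne : j ≠ j₀ := fun e => hj (by rw [e])
    have hbig : Fintype.card I - 1 ≤ N j := by
      rw [← Finset.card_univ, ← Finset.card_erase_of_mem (Finset.mem_univ i₀)]
      refine Finset.card_le_card fun i hi => ?_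
      refine Finset.mem_filter.mpr ⟨Finset.mem_univ _, fun h => hj ?_⟩
      linear_combination h - hf i (Finset.ne_of_mem_erase hi)
    have h2 : ∑ x ∈ Finset.univ.erase j, 1 ≤ ∑ x ∈ Finset.univ.erase j, N x :=
      Finset.sum_le_sum fun x _ => h1 x
    rw [← Finset.card_eq_sum_ones, Finset.card_erase_of_mem (Finset.mem_univ j),
      Finset.card_univ] at h2
    rw [← Finset.add_sum_erase _ _ (Finset.mem_univ j)] at hfew
    omega
  refine Or.inr (Or.inr ⟨i₀, f i₀ + g j₀, fun i j => ?_⟩)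
  rw [hall j]
  split_ifs with e
  · rw [e]
  · exact hf i e

open Classical in
/-- Let W₁, W₂ ≤ G form a self-normalising cyclic subgroup W = W₁ ⊔ W₂ of odd order with Nat.card W₁ < Nat.card W₂, and χ an orthonormal family of irreducible characters of G up to sign, indexed by the linear characters ω of W, with χ_1 = 1, χ_ω = ω on W outside W₁ ∪ W₂, and the induction identity for (1 − φ)(1 − ψ). Let θ be a class function of G vanishing on W outside W₁ ∪ W₂, and suppose fewer than 2 · Nat.card W₁ linear characters ω of W have ⟨θ, χ ω⟩ ≠ 0. Then one of: all ⟨θ, χ ω⟩ vanish; or there are ψ₀ and a with ⟨θ, χ ω⟩ = a when ω ψ₀⁻¹ is trivial on W₂ and 0 otherwise; or there are φ₀ and a with ⟨θ, χ ω⟩ = a when ω φ₀⁻¹ is trivial on W₁ and 0 otherwise. -/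
theorem result {G : Type*} [Group G] [Fintype G] (W₁ W₂ : Subgroup G) (hW : Cfsg.IsSelfNormalizingCyclic W₁ W₂) (hodd : Odd (Nat.card ↥(W₁ ⊔ W₂))) (χ : (↥(W₁ ⊔ W₂) →* ℂˣ) → (G → ℂ)) (hχ : Cfsg.IsCyclicTIFamily W₁ W₂ χ) (hlt : Nat.card W₁ < Nat.card W₂) (θ : G → ℂ) (hθ : Cfsg.IsClassFunction G θ) (hθV : ∀ w : ↥(W₁ ⊔ W₂), (w : G) ∉ W₁ → (w : G) ∉ W₂ → θ w = 0) (hfew : Nat.card {ω : ↥(W₁ ⊔ W₂) →* ℂˣ // Cfsg.classInner θ (χ ω) ≠ 0} < 2 * Nat.card W₁) : (∀ ω, Cfsg.classInner θ (χ ω) = 0) ∨ (∃ (ψ₀ : ↥(W₁ ⊔ W₂) →* ℂˣ) (a : ℂ), ∀ ω, Cfsg.classInner θ (χ ω) = if (∀ w : ↥(W₁ ⊔ W₂), (w : G) ∈ W₂ → (ω * ψ₀⁻¹) w = 1) then a else 0) ∨ (∃ (φ₀ : ↥(W₁ ⊔ W₂) →* ℂˣ) (a : ℂ), ∀ ω, Cfsg.classInner θ (χ ω) = if (∀ w : ↥(W₁ ⊔ W₂), (w : G) ∈ W₁ → (ω * φ₀⁻¹) w = 1) then a else 0) := by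
  classical
  haveI : IsCyclic ↥(W₁ ⊔ W₂) := hW.2.2.2.2.1
  haveI : Finite (↥(W₁ ⊔ W₂) →* ℂˣ) := by
    letI : CommGroup ↥(W₁ ⊔ W₂) := IsCyclic.commGroup
    exact Nat.finite_of_card_ne_zero (by
      rw [CommGroup.card_monoidHom_of_hasEnoughRootsOfUnity ↥(W₁ ⊔ W₂) ℂ]
      exact Nat.card_pos.ne')
  haveI := Fintype.ofFinite (↥(W₁ ⊔ W₂) →* ℂˣ)
  obtain ⟨c₁, c₂⟩ := card_triv hW
  rw [Nat.card_eq_fintype_card] at c₁ c₂
  let c : (↥(W₁ ⊔ W₂) →* ℂˣ) → ℂ := fun ω => classInner θ (χ ω)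
  let I := {a : ↥(W₁ ⊔ W₂) →* ℂˣ // Triv W₂ a}
  let J := {b : ↥(W₁ ⊔ W₂) →* ℂˣ // Triv W₁ b}
  have hsum : ∀ (i : I) (j : J), c (i.1 * j.1) = c i.1 + (c j.1 - c 1) := fun i j => by
    have := rectangle (isPreFamily_of hχ) hθ hθV i.2 j.2
    linear_combination this
  let e : I × J → (↥(W₁ ⊔ W₂) →* ℂˣ) := fun p => p.1.1 * p.2.1
  have he : Function.Bijective e := by
    refine ⟨fun p q h => ?_, fun ω => ?_⟩
    · obtain ⟨r, s⟩ := mul_inj hW p.1.2 p.2.2 q.1.2 q.2.2 h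
      exact Prod.ext (Subtype.ext r) (Subtype.ext s)
    · obtain ⟨a, b, ha, hb, h⟩ := exists_split hW ω
      exact ⟨(⟨a, ha⟩, ⟨b, hb⟩), h.symm⟩
  have o1 : Odd (Nat.card W₁) := Odd.of_dvd_nat hodd (Subgroup.card_dvd_of_le le_sup_left)
  have o2 : Odd (Nat.card W₂) := Odd.of_dvd_nat hodd (Subgroup.card_dvd_of_le le_sup_right)
  obtain ⟨k1, hk1⟩ := o1
  obtain ⟨k2, hk2⟩ := o2
  have n1 : Nat.card W₁ ≠ 1 := fun e => hW.1 (Subgroup.card_eq_one.mp e)
  have cI : Fintype.card I = Nat.card W₁ := c₁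
  have cJ : Fintype.card J = Nat.card W₂ := c₂
  have key := few_nonzero (fun i : I => c i.1) (fun j : J => c j.1 - c 1) (by omega) (by omega) (by
    rw [cI]
    refine lt_of_eq_of_lt (Nat.card_congr (Equiv.subtypeEquiv (Equiv.ofBijective e he) fun p => ?_))
      hfew
    show c p.1.1 + (c p.2.1 - c 1) ≠ 0 ↔ c (e p) ≠ 0
    rw [← hsum p.1 p.2])
  have cut : ∀ (i : I) (j : J) (ψ : J), ((∀ w : ↥(W₁ ⊔ W₂), (w : G) ∈ W₂ →
      (i.1 * j.1 * ψ.1⁻¹) w = 1) ↔ j = ψ) := by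
    intro i j ψ
    refine ⟨fun h => Subtype.ext (cyclicTI_hom_ext hW fun w hw => ?_), ?_⟩
    · rcases hw with hw | hw
      · rw [j.2 w hw, ψ.2 w hw]
      · have := h w hw
        rwa [MonoidHom.mul_apply, MonoidHom.mul_apply, MonoidHom.inv_apply, i.2 w hw, one_mul,
          mul_inv_eq_one] at this
    · rintro rfl w hw
      simp [i.2 w hw]
  have cut' : ∀ (i : I) (j : J) (φ : I), ((∀ w : ↥(W₁ ⊔ W₂), (w : G) ∈ W₁ →
      (i.1 * j.1 * φ.1⁻¹) w = 1) ↔ i = φ) := by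
    intro i j φ
    refine ⟨fun h => Subtype.ext (cyclicTI_hom_ext hW fun w hw => ?_), ?_⟩
    · rcases hw with hw | hw
      · have := h w hw
        rwa [MonoidHom.mul_apply, MonoidHom.mul_apply, MonoidHom.inv_apply, j.2 w hw, mul_one,
          mul_inv_eq_one] at this
      · rw [i.2 w hw, φ.2 w hw]
    · rintro rfl w hw
      simp [j.2 w hw]
  rcases key with h | ⟨j₀, a, h⟩ | ⟨i₀, a, h⟩
  · refine Or.inl fun ω => ?_
    obtain ⟨⟨i, j⟩, rfl⟩ := he.2 ω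
    show c (i.1 * j.1) = 0
    rw [hsum, h i j]
  · refine Or.inr (Or.inl ⟨j₀.1, a, fun ω => ?_⟩)
    obtain ⟨⟨i, j⟩, rfl⟩ := he.2 ω
    show c (i.1 * j.1) = _
    rw [hsum, h i j]
    by_cases e' : j = j₀
    · rw [if_pos e']
      exact (if_pos ((cut i j j₀).mpr e')).symm
    · rw [if_neg e']
      exact (if_neg fun hh => e' ((cut i j j₀).mp hh)).symm
  · refine Or.inr (Or.inr ⟨i₀.1, a, fun ω => ?_⟩)
    obtain ⟨⟨i, j⟩, rfl⟩ := he.2 ω
    show c (i.1 * j.1) = _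
    rw [hsum, h i j]
    by_cases e' : i = i₀
    · rw [if_pos e']
      exact (if_pos ((cut' i j i₀).mpr e')).symm
    · rw [if_neg e']
      exact (if_neg fun hh => e' ((cut' i j i₀).mp hh)).symm

end Cfsg.Agent.S1507
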