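import Cfsg.Statements.S1508
import Cfsg.Agent.Lib.Char.CyclicTIFamily
import Cfsg.Agent.Lib.Char.Galois

set_option autoImplicit false
open Cfsg

namespace Cfsg.Agent.S1508

open Cfsg.Agent.Char Cfsg.Agent.Char.CTI

/-- Let W₁, W₂ ≤ G form a self-normalising cyclic subgroup W = W₁ ⊔ W₂ of odd order and χ an orthonormal family of irreducible characters of G up to sign, indexed by the linear characters ω of W, with χ_1 = 1, χ_ω = ω on W outside W₁ ∪ W₂, and the induction identity for (1 − φ)(1 − ψ). Let ω be a linear character of W and g an element of G whose order is coprime to the order of ω. Then χ ω g is an integer. -/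
theorem result {G : Type*} [Group G] [Fintype G] (W₁ W₂ : Subgroup G) (hW : Cfsg.IsSelfNormalizingCyclic W₁ W₂) (hodd : Odd (Nat.card ↥(W₁ ⊔ W₂))) (χ : (↥(W₁ ⊔ W₂) →* ℂˣ) → (G → ℂ)) (hχ : Cfsg.IsCyclicTIFamily W₁ W₂ χ) (ω : ↥(W₁ ⊔ W₂) →* ℂˣ) (g : G) (hg : Nat.Coprime (orderOf g) (orderOf ω)) : ∃ n : ℤ, χ ω g = n := by
  classical
  haveI := Fintype.ofFinite ↥(W₁ ⊔ W₂)
  have hP := isPreFamily_of hχ
  have hgen : IsGeneralizedCharacter G (χ ω) := IsSigned.isGeneralized (hχ.irr_or_neg ω)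
  refine exists_int_of_apply_pow_eq hgen g fun m hm => ?_
  -- an exponent congruent to `m` on `g` and to `1` on `ω`
  have hωN : orderOf ω ∣ Nat.card G := by
    refine orderOf_dvd_of_pow_eq_one (MonoidHom.ext fun w => ?_)
    rw [MonoidHom.pow_apply, ← map_pow, show w ^ Nat.card G = 1 from
      Subtype.ext (by rw [SubgroupClass.coe_pow, pow_card_eq_one', OneMemClass.coe_one]),
      map_one, MonoidHom.one_apply]
  obtain ⟨m', hm1, hm2⟩ := Nat.chineseRemainder hg m 1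
  have hm' : m'.Coprime (orderOf g * orderOf ω) := by
    refine Nat.Coprime.mul_right ?_ ?_
    · rw [Nat.coprime_iff_gcd_eq_one, Nat.ModEq.gcd_eq hm1]; exact hm
    · rw [Nat.coprime_iff_gcd_eq_one, Nat.ModEq.gcd_eq hm2, Nat.gcd_one_left]
  obtain ⟨k, hk, hkm⟩ := exists_coprime_lift Nat.card_pos.ne'
    (hg.mul_dvd_of_dvd_of_dvd (orderOf_dvd_natCard g) hωN) hm'
  have hωk : ω ^ k = ω := by
    refine MonoidHom.ext fun w => ?_
    have ho : orderOf (ω w) ∣ orderOf ω := orderOf_dvd_of_pow_eq_one (by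
      rw [← MonoidHom.pow_apply, pow_orderOf_eq_one, MonoidHom.one_apply])
    rw [MonoidHom.pow_apply,
      pow_eq_pow_iff_modEq.mpr (((hkm.of_dvd (dvd_mul_left _ _)).trans hm2).of_dvd ho), pow_one]
  rw [← pow_eq_pow_iff_modEq.mpr ((hkm.of_dvd (dvd_mul_right _ _)).trans hm1)]
  -- the conjugate of `χ ω`
  let ψ : G → ℂ := fun x => χ ω (x ^ k)
  suffices hψ : ψ = χ ω from congrFun hψ g
  have hψs : IsSigned ψ := by
    rcases hχ.irr_or_neg ω with h | h
    · exact Or.inl (isIrrCharacter_comp_pow h hk)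
    · exact Or.inr (isIrrCharacter_comp_pow h hk)
  have hψV : ∀ w : ↥(W₁ ⊔ W₂), (w : G) ∉ W₁ → (w : G) ∉ W₂ → ψ w = (ω w : ℂ) := by
    intro w h1 h2
    show χ ω ((w : G) ^ k) = _
    have e := hχ.eq_on ω (w ^ k)
      (fun h => h1 ((pow_mem_iff_of_coprime W₁ hk _).mp (by simpa using h)))
      (fun h => h2 ((pow_mem_iff_of_coprime W₂ hk _).mp (by simpa using h)))
    rw [SubgroupClass.coe_pow] at e
    rw [e]
    conv_rhs => rw [← hωk]
    rw [MonoidHom.pow_apply, map_pow]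
  obtain ⟨hW1, hW2, hinf, -⟩ := id hW
  obtain ⟨x, hx, hx1'⟩ := (Subgroup.bot_or_exists_ne_one W₁).resolve_left hW1
  obtain ⟨y, hy, hy1'⟩ := (Subgroup.bot_or_exists_ne_one W₂).resolve_left hW2
  have hV : ∀ a ∈ W₁, a ≠ 1 → ∀ b ∈ W₂, b ≠ 1 → a * b ∉ W₁ ∧ a * b ∉ W₂ := by
    intro a ha ha1 b hb hb1
    refine ⟨fun h => hb1 ?_, fun h => ha1 ?_⟩
    · have : b ∈ W₁ ⊓ W₂ := ⟨(W₁.mul_mem_cancel_left ha).mp h, hb⟩
      rwa [hinf, Subgroup.mem_bot] at this
    · have : a ∈ W₁ ⊓ W₂ := ⟨ha, (W₂.mul_mem_cancel_right hb).mp h⟩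
      rwa [hinf, Subgroup.mem_bot] at this
  obtain ⟨ω', hω'⟩ : ∃ ω', classInner ψ (χ ω') ≠ 0 := by
    by_contra hno
    push Not at hno
    obtain ⟨h1, h2⟩ := hV x hx hx1' y hy hy1'
    let w : ↥(W₁ ⊔ W₂) :=
      ⟨x * y, mul_mem (Subgroup.mem_sup_left hx) (Subgroup.mem_sup_right hy)⟩
    have h0 : ψ w = 0 := kill hW (f := fun w : ↥(W₁ ⊔ W₂) => ψ w)
      (fun φ ψ' hφ hψ' hφ₂ hψ₁ => by
        have h0 : ∀ ω, classInner (χ ω) ψ = 0 := fun ω => by
          rw [← classInner_conj_symm, hno, map_zero]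
        rw [← classInner_indFun _ _
          (IsGeneralizedCharacter.isClassFunction (IsSigned.isGeneralized hψs)),
          hP.classInner_ind φ ψ' hφ hψ' hφ₂ hψ₁]
        simp [h0]) w h1 h2
    rw [hψV w h1 h2] at h0
    exact (ω w).ne_zero h0
  rcases classInner_signed hψs (hχ.irr_or_neg ω') with h | ⟨s, hs, heq, -⟩
  · exact absurd h hω'
  let τ : ↥(W₁ ⊔ W₂) →* ℂˣ := ω * ω'⁻¹
  have hτ : ∀ (a : G) (ha : a ∈ W₁), a ≠ 1 → ∀ (b : G) (hb : b ∈ W₂), b ≠ 1 →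
      (τ ⟨a, Subgroup.mem_sup_left ha⟩ : ℂ) * (τ ⟨b, Subgroup.mem_sup_right hb⟩ : ℂ) = s := by
    intro a ha ha1 b hb hb1
    let w : ↥(W₁ ⊔ W₂) :=
      ⟨a, Subgroup.mem_sup_left ha⟩ * ⟨b, Subgroup.mem_sup_right hb⟩
    obtain ⟨h1, h2⟩ := hV a ha ha1 b hb hb1
    rw [← Units.val_mul, ← map_mul]
    show (τ w : ℂ) = s
    have e := hψV w h1 h2
    rw [heq, Pi.smul_apply, hχ.eq_on ω' w h1 h2, smul_eq_mul] at e
    have hne := (ω' w).ne_zero
    simp only [τ, MonoidHom.mul_apply, MonoidHom.inv_apply, Units.val_mul, Units.val_inv_eq_inv_val]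
    rw [← e]
    field_simp
  have odd_sq : ∀ V : Subgroup G, V ≤ W₁ ⊔ W₂ → ∀ a ∈ V, a ≠ 1 → a * a ≠ 1 := by
    intro V hle a ha ha1 e
    have h2 : orderOf a ∣ 2 := orderOf_dvd_of_pow_eq_one (by rw [pow_two, e])
    have ho : Odd (orderOf a) := (Odd.of_dvd_nat hodd
      ((Subgroup.orderOf_dvd_natCard V ha).trans (Subgroup.card_dvd_of_le hle)))
    rcases (Nat.dvd_prime Nat.prime_two).mp h2 with h | h
    · exact ha1 (orderOf_eq_one_iff.mp h)
    · rw [h] at ho; exact absurd ho (by decide)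
  have hx' : x ≠ 1 := hx1'
  have hy' : y ≠ 1 := hy1'
  have t1 : ∀ (a : G) (ha : a ∈ W₁), τ ⟨a, Subgroup.mem_sup_left ha⟩ = 1 := by
    intro a ha
    by_cases ha1 : a = 1
    · subst ha1; exact map_one τ
    have e1 := hτ a ha ha1 y hy hy'
    have e2 := hτ (a * a) (mul_mem ha ha) (odd_sq W₁ le_sup_left a ha ha1) y hy hy'
    rw [show (⟨a * a, Subgroup.mem_sup_left (mul_mem ha ha)⟩ : ↥(W₁ ⊔ W₂)) =
      ⟨a, Subgroup.mem_sup_left ha⟩ * ⟨a, Subgroup.mem_sup_left ha⟩ from rfl, map_mul,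
      Units.val_mul, ← e1] at e2
    have hA := (τ ⟨a, Subgroup.mem_sup_left ha⟩).ne_zero
    have hB := (τ ⟨y, Subgroup.mem_sup_right hy⟩).ne_zero
    refine Units.ext ?_
    rw [Units.val_one]
    apply mul_left_cancel₀ hA
    apply mul_right_cancel₀ hB
    linear_combination e2
  have t2 : ∀ (b : G) (hb : b ∈ W₂), τ ⟨b, Subgroup.mem_sup_right hb⟩ = 1 := by
    intro b hb
    by_cases hb1 : b = 1
    · subst hb1; exact map_one τ
    have e1 := hτ x hx hx' b hb hb1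
    have e2 := hτ x hx hx' (b * b) (mul_mem hb hb) (odd_sq W₂ le_sup_right b hb hb1)
    rw [show (⟨b * b, Subgroup.mem_sup_right (mul_mem hb hb)⟩ : ↥(W₁ ⊔ W₂)) =
      ⟨b, Subgroup.mem_sup_right hb⟩ * ⟨b, Subgroup.mem_sup_right hb⟩ from rfl, map_mul,
      Units.val_mul, ← e1] at e2
    have hA := (τ ⟨b, Subgroup.mem_sup_right hb⟩).ne_zero
    have hB := (τ ⟨x, Subgroup.mem_sup_left hx⟩).ne_zero
    refine Units.ext ?_
    rw [Units.val_one]
    apply mul_left_cancel₀ hA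
    apply mul_left_cancel₀ hB
    linear_combination e2
  have hs1 : s = 1 := by
    rw [← hτ x hx hx' y hy hy', t1 x hx, t2 y hy]
    simp
  have hωω : ω = ω' := by
    refine cyclicTI_hom_ext hW fun w hw => ?_
    have : τ w = 1 := by
      rcases hw with hw | hw
      · exact t1 w hw
      · exact t2 w hw
    rwa [MonoidHom.mul_apply, MonoidHom.inv_apply, mul_inv_eq_one] at this
  rw [heq, hs1, hωω, one_smul]

end Cfsg.Agent.S1508
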