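import Cfsg.Statements.S1509
import Cfsg.Agent.Lib.Char.Signed

set_option autoImplicit false
open Cfsg

namespace Cfsg.Agent.S1509

open Cfsg Cfsg.Agent.Char

/-- Let α, β, γ, δ be functions on a finite group X each of which is an irreducible character or the negative of one, and u, v nonzero real numbers. Suppose ⟨α, β⟩ = ⟨γ, δ⟩ = 0, ⟨α − β, uγ − vδ⟩ = 0, α 1 = β 1 and u γ 1 = v δ 1. Then also ⟨α, γ⟩ = ⟨α, δ⟩ = ⟨β, γ⟩ = ⟨β, δ⟩ = 0. -/
theorem result {X : Type*} [Group X] [Fintype X] (α β γ δ : X → ℂ) (hα : Cfsg.IsIrrCharacter X α ∨ Cfsg.IsIrrCharacter X (-α)) (hβ : Cfsg.IsIrrCharacter X β ∨ Cfsg.IsIrrCharacter X (-β)) (hγ : Cfsg.IsIrrCharacter X γ ∨ Cfsg.IsIrrCharacter X (-γ)) (hδ : Cfsg.IsIrrCharacter X δ ∨ Cfsg.IsIrrCharacter X (-δ)) (u v : ℝ) (hu : u ≠ 0) (hv : v ≠ 0) (hab : Cfsg.classInner α β = 0) (hcd : Cfsg.classInner γ δ = 0) (hmix : Cfsg.classInner (α - β) ((u : ℂ) • γ - (v : ℂ) • δ) = 0) (h1 : α 1 = β 1) (h2 : (u : ℂ) * γ 1 = (v : ℂ) * δ 1)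 : Cfsg.classInner α γ = 0 ∧ Cfsg.classInner α δ = 0 ∧ Cfsg.classInner β γ = 0 ∧ Cfsg.classInner β δ = 0 := by
  have key : ∀ (a b c d : X → ℂ) (p q : ℝ),
      (Cfsg.IsIrrCharacter X a ∨ Cfsg.IsIrrCharacter X (-a)) →
      (Cfsg.IsIrrCharacter X b ∨ Cfsg.IsIrrCharacter X (-b)) →
      (Cfsg.IsIrrCharacter X c ∨ Cfsg.IsIrrCharacter X (-c)) →
      (Cfsg.IsIrrCharacter X d ∨ Cfsg.IsIrrCharacter X (-d)) →
      q ≠ 0 → p ≠ 0 → classInner a b = 0 → classInner c d = 0 →
      classInner (a - b) ((p : ℂ) • c - (q : ℂ) • d) = 0 → a 1 = b 1 →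
      (p : ℂ) * c 1 = (q : ℂ) * d 1 → classInner a c = 0 := by
    intro a b c d p q ha hb hc hd hq hp hab hcd hmix h1 h2
    rcases classInner_signed ha hc with h | ⟨s, hs, hac, hs'⟩
    · exact h
    exfalso
    have hs0 : s ≠ 0 := by rcases hs with rfl | rfl <;> norm_num
    have had : classInner a d = 0 := by rw [hac, classInner_smul_left, hcd, mul_zero]
    have hbc : classInner b c = 0 := by
      have hba : classInner b a = 0 := by rw [← classInner_conj_symm, hab, map_zero]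
      rw [hac, classInner_smul_right] at hba
      exact (mul_eq_zero.mp hba).resolve_left (by simpa using hs0)
    have hp' : (p : ℂ) ≠ 0 := by exact_mod_cast hp
    have hq' : (q : ℂ) ≠ 0 := by exact_mod_cast hq
    rw [classInner_sub_left, classInner_sub_right, classInner_sub_right, classInner_smul_right,
      classInner_smul_right, classInner_smul_right, classInner_smul_right, had, hbc, hs'] at hmix
    simp only [Complex.conj_ofReal, mul_zero, sub_zero, zero_sub, sub_neg_eq_add] at hmix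
    rcases classInner_signed hb hd with h | ⟨t, ht, hbd, ht'⟩
    · rw [h, mul_zero, add_zero] at hmix
      exact hs0 ((mul_eq_zero.mp hmix).resolve_left hp')
    rw [ht'] at hmix
    have hc1 : c 1 ≠ 0 := by
      rcases hc with hc | hc
      · exact IsIrrCharacter.apply_one_ne_zero hc
      · simpa using IsIrrCharacter.apply_one_ne_zero hc
    rw [hac, hbd] at h1
    simp only [Pi.smul_apply, smul_eq_mul] at h1
    have : (q : ℂ) * s * c 1 = (p : ℂ) * t * c 1 := by linear_combination (q : ℂ) * h1 - t * h2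
    have e := mul_right_cancel₀ hc1 this
    rcases hs with rfl | rfl <;> rcases ht with rfl | rfl
    all_goals
      first
        | exact hq' (by linear_combination (1 / 2 : ℂ) * hmix + (1 / 2 : ℂ) * e)
        | exact hq' (by linear_combination (1 / 2 : ℂ) * hmix - (1 / 2 : ℂ) * e)
        | exact hq' (by linear_combination (-1 / 2 : ℂ) * hmix + (1 / 2 : ℂ) * e)
        | exact hq' (by linear_combination (-1 / 2 : ℂ) * hmix - (1 / 2 : ℂ) * e)
  have hba : classInner β α = 0 := by rw [← classInner_conj_symm, hab, map_zero]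
  have hdc : classInner δ γ = 0 := by rw [← classInner_conj_symm, hcd, map_zero]
  have hm1 : classInner (α - β) ((v : ℂ) • δ - (u : ℂ) • γ) = 0 := by
    rw [← neg_sub ((u : ℂ) • γ), classInner_neg_right, hmix, neg_zero]
  have hm2 : classInner (β - α) ((u : ℂ) • γ - (v : ℂ) • δ) = 0 := by
    rw [← neg_sub α, classInner_neg_left, hmix, neg_zero]
  have hm3 : classInner (β - α) ((v : ℂ) • δ - (u : ℂ) • γ) = 0 := by
    rw [← neg_sub α, classInner_neg_left, hm1, neg_zero]
  exact ⟨key α β γ δ u v hα hβ hγ hδ hv hu hab hcd hmix h1 h2,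
    key α β δ γ v u hα hβ hδ hγ hu hv hab hdc hm1 h1 h2.symm,
    key β α γ δ u v hβ hα hγ hδ hv hu hba hcd hm2 h1.symm h2,
    key β α δ γ v u hβ hα hδ hγ hu hv hba hdc hm3 h1.symm h2.symm⟩

end Cfsg.Agent.S1509
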