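import Cfsg.Statements.S1510
import Mathlib

set_option autoImplicit false
open Cfsg

namespace Cfsg.Agent.S1510

/-- Let L be a finite group with a normal subgroup K and a nontrivial cyclic subgroup W₁ of order coprime to its index, K ⊓ W₁ = ⊥ and K ⊔ W₁ = ⊤; let W₂ ≠ ⊥ be a cyclic subgroup of K with K ⊓ C_L(x) = W₂ for every non-identity x ∈ W₁, and suppose W₁ ⊔ W₂ has odd order. Then (W₁, W₂) is a self-normalising cyclic pair in L. -/
theorem result {L : Type*} [Group L] [Fintype L] (K W₁ W₂ : Subgroup L) [hK : K.Normal] (hKW₁ : K ⊓ W₁ = ⊥) (hKW₁' : K ⊔ W₁ = ⊤) (hW₁ : W₁ ≠ ⊥) (hW₁c : IsCyclic W₁) (hHall : Nat.Coprime (Nat.card W₁) W₁.index) (hW₂ : W₂ ≠ ⊥) (hW₂c : IsCyclic W₂) (hW₂K : W₂ ≤ K) (hC : ∀ x ∈ W₁, x ≠ 1 → K ⊓ Subgroup.centralizer ({x} : Set L) = W₂) (hodd : Odd (Nat.card ↥(W₁ ⊔ W₂))) : Cfsg.IsSelfNormalizingCyclic W₁ W₂ := by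
  classical
  haveI := hW₁c
  haveI := hW₂c
  have hdisj : W₁ ⊓ W₂ = ⊥ := le_bot_iff.mp (le_trans (inf_le_inf_left _ hW₂K) (by rw [inf_comm, hKW₁]))
  have hcomm : ∀ a ∈ W₁, ∀ b ∈ W₂, a * b = b * a := by
    intro a ha b hb
    rcases eq_or_ne a 1 with rfl | ha1
    · simp
    rw [← hC a ha ha1] at hb
    have h : b ∈ Subgroup.centralizer ({a} : Set L) := hb.2
    rw [Subgroup.mem_centralizer_singleton_iff] at h
    first
      | exact h
      | exact h.symm
  have hindex : W₁.index = Nat.card K := by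
    have hco : Subgroup.IsComplement' K W₁ := Subgroup.isComplement'_of_disjoint_and_mul_eq_univ
      (disjoint_iff.mpr hKW₁) (by rw [← Subgroup.normal_mul, hKW₁']; rfl)
    exact hco.index_eq_card
  rw [hindex] at hHall
  have hcop : Nat.Coprime (Nat.card W₁) (Nat.card W₂) :=
    Nat.Coprime.of_dvd_right (Subgroup.card_dvd_of_le hW₂K) hHall
  obtain ⟨a₀, ha₀⟩ := IsCyclic.exists_generator (α := W₁)
  obtain ⟨b₀, hb₀⟩ := IsCyclic.exists_generator (α := W₂)
  have hgen₁ : ∀ a ∈ W₁, a ∈ Subgroup.zpowers (a₀ : L) := fun a ha => by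
    obtain ⟨i, hi⟩ := Subgroup.mem_zpowers_iff.mp (ha₀ ⟨a, ha⟩)
    exact Subgroup.mem_zpowers_iff.mpr ⟨i, by simpa using congrArg Subtype.val hi⟩
  have hgen₂ : ∀ b ∈ W₂, b ∈ Subgroup.zpowers (b₀ : L) := fun b hb => by
    obtain ⟨i, hi⟩ := Subgroup.mem_zpowers_iff.mp (hb₀ ⟨b, hb⟩)
    exact Subgroup.mem_zpowers_iff.mpr ⟨i, by simpa using congrArg Subtype.val hi⟩
  obtain ⟨e, he1, he0⟩ := Nat.chineseRemainder hHall 1 0
  have hpow : ∀ a ∈ W₁, ∀ b ∈ W₂, (a * b) ^ e = a := by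
    intro a ha b hb
    have hb1 : b ^ e = 1 := by
      obtain ⟨k, rfl⟩ := Nat.modEq_zero_iff_dvd.mp he0
      rw [pow_mul, orderOf_dvd_iff_pow_eq_one.mp (K.orderOf_dvd_natCard (hW₂K hb)), one_pow]
    have ha1 : a ^ e = a := by
      have := pow_eq_pow_iff_modEq.mpr (he1.of_dvd (W₁.orderOf_dvd_natCard ha))
      rw [this, pow_one]
    rw [(show Commute a b from hcomm a ha b hb).mul_pow, hb1, ha1, mul_one]
  have hcyc : W₁ ⊔ W₂ = Subgroup.zpowers ((a₀ : L) * b₀) := by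
    have ha : (a₀ : L) ∈ Subgroup.zpowers ((a₀ : L) * b₀) := by
      have := pow_mem (Subgroup.mem_zpowers ((a₀ : L) * b₀)) e
      rwa [hpow _ a₀.2 _ b₀.2] at this
    have hb : (b₀ : L) ∈ Subgroup.zpowers ((a₀ : L) * b₀) := by
      simpa using mul_mem (inv_mem ha) (Subgroup.mem_zpowers ((a₀ : L) * b₀))
    refine le_antisymm (sup_le (fun a h => ?_) (fun b h => ?_)) ?_
    · exact (Subgroup.zpowers_le.mpr ha) (hgen₁ a h)
    · exact (Subgroup.zpowers_le.mpr hb) (hgen₂ b h)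
    · exact Subgroup.zpowers_le.mpr (Subgroup.mul_mem_sup a₀.2 b₀.2)
  haveI hWc : IsCyclic ↥(W₁ ⊔ W₂) := by rw [hcyc]; infer_instance
  refine ⟨hW₁, hW₂, hdisj, hcomm, hWc, ?_⟩
  intro X hX hXne
  have habel : ∀ u ∈ W₁ ⊔ W₂, ∀ v ∈ W₁ ⊔ W₂, u * v = v * u := by
    intro u hu v hv
    haveI := hWc.commutative
    have h := mul_comm' (⟨u, hu⟩ : ↥(W₁ ⊔ W₂)) ⟨v, hv⟩
    exact congrArg Subtype.val h
  refine le_antisymm ?_ ?_
  · intro g hg
    obtain ⟨w, hw⟩ := hXne
    have hw' := (Subgroup.mem_set_normalizer_iff.mp hg w).mp hw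
    have hdec : ∀ u ∈ X, ∃ a ∈ W₁, a ≠ 1 ∧ ∃ b ∈ W₂, u = a * b := by
      intro u hu
      obtain ⟨hu1, hu2⟩ := hX hu
      have hn : W₂ ≤ Subgroup.normalizer (W₁ : Set L) := by
        intro b hb
        rw [Subgroup.mem_normalizer_iff]
        intro n
        constructor
        · intro hn
          rwa [← hcomm n hn b hb, mul_inv_cancel_right]
        · intro hn
          have h2 := hcomm _ hn b hb
          have : n = b * n * b⁻¹ := by
            apply mul_left_cancel (a := b)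
            calc b * n = b * n * b⁻¹ * b := by group
              _ = b * (b * n * b⁻¹) := h2
          rwa [this]
      rw [Subgroup.coe_mul_of_right_le_normalizer_left W₁ W₂ hn] at hu1
      obtain ⟨a, ha, b, hb, rfl⟩ := hu1
      exact ⟨a, ha, fun h => hu2 (Or.inr (by simpa [h] using hb)), b, hb, rfl⟩
    obtain ⟨k, hk, v, hv, rfl⟩ : ∃ k ∈ K, ∃ v ∈ W₁, g = k * v := by
      have : g ∈ (K ⊔ W₁ : Subgroup L) := by rw [hKW₁']; trivial
      rw [← SetLike.mem_coe, Subgroup.normal_mul] at this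
      obtain ⟨k, hk, v, hv, e⟩ := this
      exact ⟨k, hk, v, hv, e.symm⟩
    obtain ⟨a, ha, ha1, b, hb, rfl⟩ := hdec w hw
    obtain ⟨a', ha', -, b', hb', he⟩ := hdec _ hw'
    have hv' : v * (a * b) * v⁻¹ = a * b := by
      rw [habel v (Subgroup.mem_sup_left hv) (a * b) (Subgroup.mul_mem_sup ha hb)]
      group
    have he' : k * (a * b) * k⁻¹ = a' * b' := by
      rw [← he]
      conv_lhs => rw [← hv']
      group
    have hka : k * a * k⁻¹ = a' := by
      have := congrArg (fun z => z ^ e) he'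
      simp only [conj_pow] at this
      rwa [hpow a ha b hb, hpow a' ha' b' hb'] at this
    have haa : a⁻¹ * a' = 1 := by
      rw [← Subgroup.mem_bot, ← hKW₁]
      refine ⟨?_, W₁.mul_mem (W₁.inv_mem ha) ha'⟩
      rw [← hka]
      have : a⁻¹ * (k * a * k⁻¹) = (a⁻¹ * k * (a⁻¹)⁻¹) * k⁻¹ := by group
      rw [this]
      exact K.mul_mem (hK.conj_mem k hk a⁻¹) (K.inv_mem hk)
    rw [← inv_mul_eq_one.mp haa] at hka
    refine Subgroup.mul_mem _ (Subgroup.mem_sup_right ?_) (Subgroup.mem_sup_left hv)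
    rw [← hC a ha ha1]
    refine ⟨hk, ?_⟩
    show k ∈ Subgroup.centralizer ({a} : Set L)
    rw [Subgroup.mem_centralizer_singleton_iff]
    have : k * a = a * k := by
      conv_rhs => rw [← hka]
      group
    first
      | exact this
      | exact this.symm
  · intro g hg
    rw [Subgroup.mem_set_normalizer_iff]
    intro u
    constructor
    · intro hu
      have e : g * u * g⁻¹ = u := by rw [habel g hg u (hX hu).1]; group
      rwa [e]
    · intro hu
      have e : g⁻¹ * (g * u * g⁻¹) * g = g * u * g⁻¹ := by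
        rw [habel g⁻¹ (inv_mem hg) _ (hX hu).1]; group
      have e2 : u = g * u * g⁻¹ := by
        conv_rhs => rw [← e]
        group
      rwa [e2]

end Cfsg.Agent.S1510
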