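import Cfsg.Statements.S1512
import Cfsg.Agent.Lib.Char.CoprimeFix

set_option autoImplicit false
open Cfsg

namespace Cfsg.Agent.S1512

/-- Let K be a normal subgroup of the finite group L and x a non-identity element whose order is coprime to the order of K, such that K ⊓ C_L(y) = W₂ for every non-identity element y of the cyclic group generated by x. Then the number of conjugacy classes of K mapped to themselves by conjugation by x is at most Nat.card W₂. -/
theorem result {L : Type*} [Group L] [Finite L] (K W₂ : Subgroup L) [hK : K.Normal] (x : L) (hx1 : x ≠ 1) (hx : Nat.Coprime (orderOf x) (Nat.card K)) (hC : ∀ y ∈ Subgroup.zpowers x, y ≠ 1 → K ⊓ Subgroup.centralizer ({y} : Set L) = W₂) : Nat.card {C : ConjClasses K // ConjClasses.map (MulEquiv.toMonoidHom ((MulAut.conjNormal x : MulAut K))) C = C} ≤ Nat.card W₂ := by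
  classical
  have hxN : x ∈ Subgroup.normalizer (K : Set L) := by
    simp [Subgroup.normalizer_eq_top K]
  have hW : ∀ k ∈ K, x * k = k * x → k ∈ W₂ := by
    intro k hk hc
    rw [← hC x (Subgroup.mem_zpowers x) hx1]
    refine ⟨hk, ?_⟩
    show k ∈ Subgroup.centralizer ({x} : Set L)
    rw [Subgroup.mem_centralizer_singleton_iff]
    first
      | exact hc.symm
      | exact hc
  have key : ∀ C : {C : ConjClasses K //
      ConjClasses.map (MulEquiv.toMonoidHom ((MulAut.conjNormal x : MulAut K))) C = C},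
      ∃ w : W₂, ∃ hw : (w : L) ∈ K, ConjClasses.mk ⟨(w : L), hw⟩ = C.1 := by
    rintro ⟨C, hfix⟩
    obtain ⟨k, rfl⟩ := ConjClasses.exists_rep C
    obtain ⟨m, hm⟩ := isConj_iff.mp (ConjClasses.mk_eq_mk_iff_isConj.mp hfix)
    have e : x * (k : L) * x⁻¹ = (m : L)⁻¹ * k * ((m : L)⁻¹)⁻¹ := by
      have h' : (m : L) * (x * k * x⁻¹) * (m : L)⁻¹ = k := congrArg Subtype.val hm
      conv_rhs => rw [← h']
      group
    obtain ⟨y, hy, hyc⟩ := Cfsg.Agent.Char.exists_fixed_conj K x hxN hx (K.inv_mem m.2) e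
    have hmem : y * (k : L) * y⁻¹ ∈ K := K.mul_mem (K.mul_mem hy k.2) (K.inv_mem hy)
    refine ⟨⟨_, hW _ hmem hyc⟩, hmem, ?_⟩
    refine (ConjClasses.mk_eq_mk_iff_isConj.mpr (isConj_iff.mpr ⟨⟨y, hy⟩, ?_⟩)).symm
    exact Subtype.ext rfl
  choose f hf hf' using key
  refine Nat.card_le_card_of_injective f ?_
  intro a b hab
  refine Subtype.ext ?_
  rw [← hf' a, ← hf' b]
  congr 1
  exact Subtype.ext (congrArg (fun w : W₂ => (w : L)) hab)

end Cfsg.Agent.S1512
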