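import Cfsg.Statements.S1513
import Cfsg.Agent.Lib.Char.Signed
import Cfsg.Agent.Lib.Char.CoprimeFix
import Cfsg.Agent.Lib.Char.CliffordAbelian

set_option autoImplicit false
open Cfsg

namespace Cfsg.Agent.S1513

open Cfsg Cfsg.Agent.Char

/-- Let L be a finite group with K normal with complement W₁ ≠ 1 a cyclic Hall subgroup, and W₂ ≠ 1 a cyclic subgroup of K equal to C_K(x) for every non-identity x ∈ W₁, with W₁W₂ of odd order. For an irreducible character θ of K: if θ is not fixed under conjugation by some element of W₁, then the function induced from θ to L is an irreducible character of L; and the irreducible characters of K fixed by all of W₁ are exactly Nat.card W₂ in number, each inducing to the sum of Nat.card W₁ pairwise distinct irreducible characters of L. -/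
theorem result {L : Type*} [Group L] [Fintype L] (K W₁ W₂ : Subgroup L) [hK : K.Normal] (hKW₁ : K ⊓ W₁ = ⊥) (hKW₁' : K ⊔ W₁ = ⊤) (hW₁ : W₁ ≠ ⊥) (hW₁c : IsCyclic W₁) (hHall : Nat.Coprime (Nat.card W₁) W₁.index) (hW₂ : W₂ ≠ ⊥) (hW₂c : IsCyclic W₂) (hW₂K : W₂ ≤ K) (hC : ∀ x ∈ W₁, x ≠ 1 → K ⊓ Subgroup.centralizer ({x} : Set L) = W₂) (hodd : Odd (Nat.card ↥(W₁ ⊔ W₂))) : (∀ θ : K → ℂ, Cfsg.IsIrrCharacter K θ → (∃ x ∈ W₁, (fun k : K => θ ⟨x * k * x⁻¹, hK.conj_mem (k : L) k.2 x⟩) ≠ θ) → Cfsg.IsIrrCharacter L (Cfsg.indFun K θ)) ∧ Nat.card {θ : Cfsg.IrrCharacter K // ∀ x ∈ W₁, (fun k : K => (θ : K → ℂ) ⟨x * k * x⁻¹, hK.conj_mem (k : L) k.2 x⟩) = θ} = Nat.card W₂ ∧ (∀ θ : K → ℂ, Cfsg.IsIrrCharacter K θ → (∀ x ∈ W₁, (fun k : K => θ ⟨x * k * x⁻¹, hK.conj_mem (k : L) k.2 x⟩) = θ) → ∃ C : Finset (L → ℂ), C.card = Nat.card W₁ ∧ (∀ μ ∈ C, Cfsg.IsIrrCharacter L μ) ∧ Cfsg.indFun K θ = ∑ μ ∈ C, μ) := by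
  classical
  haveI := Fintype.ofFinite K
  obtain ⟨g₀, hg₀⟩ := hW₁c.exists_generator
  have hindex : W₁.index = Nat.card K := by
    have hco : Subgroup.IsComplement' K W₁ := Subgroup.isComplement'_of_disjoint_and_mul_eq_univ
      (disjoint_iff.mpr hKW₁) (by rw [← Subgroup.normal_mul, hKW₁']; rfl)
    exact hco.index_eq_card
  have hKindex : K.index = Nat.card W₁ := by
    have hco : Subgroup.IsComplement' K W₁ := Subgroup.isComplement'_of_disjoint_and_mul_eq_univ
      (disjoint_iff.mpr hKW₁) (by rw [← Subgroup.normal_mul, hKW₁']; rfl)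
    exact hco.symm.index_eq_card
  rw [hindex] at hHall
  have hcount : ∀ x ∈ W₁, x ≠ 1 →
      Nat.card {θ : IrrCharacter K // conjChar K x (θ : K → ℂ) = θ} = Nat.card W₂ := by
    intro x hx hx1
    have hxN : x ∈ Subgroup.normalizer (K : Set L) := by simp [Subgroup.normalizer_eq_top K]
    have hcop : Nat.Coprime (orderOf x) (Nat.card K) :=
      hHall.of_dvd_left (W₁.orderOf_dvd_natCard hx)
    have hmemW : ∀ k, k ∈ W₂ ↔ k ∈ K ∧ x * k = k * x := by
      intro k
      rw [← hC x hx hx1, Subgroup.mem_inf, Subgroup.mem_centralizer_singleton_iff]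
      first
        | exact Iff.rfl
        | exact and_congr_right fun _ => eq_comm
    have hfix : ∀ w : W₂, ConjClasses.map (MulEquiv.toMonoidHom (MulAut.conjNormal x : MulAut K))
        (ConjClasses.mk ⟨(w : L), hW₂K w.2⟩) = ConjClasses.mk ⟨(w : L), hW₂K w.2⟩ := by
      intro w
      refine congrArg ConjClasses.mk (Subtype.ext ?_)
      show x * w * x⁻¹ = w
      rw [((hmemW w).mp w.2).2]
      group
    let F : W₂ → {C : ConjClasses K //
        ConjClasses.map (MulEquiv.toMonoidHom (MulAut.conjNormal x : MulAut K)) C = C} :=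
      fun w => ⟨_, hfix w⟩
    have hF : Function.Bijective F := by
      constructor
      · intro w w' h
        obtain ⟨k, hk⟩ := isConj_iff.mp (ConjClasses.mk_eq_mk_iff_isConj.mp (congrArg Subtype.val h))
        have hk' : (k : L) * w * (k : L)⁻¹ = w' := congrArg Subtype.val hk
        have hxw := ((hmemW w).mp w.2).2
        have hxw' := ((hmemW w').mp w'.2).2
        let C : Subgroup L := K ⊓ Subgroup.centralizer ({(w : L)} : Set L)
        have hmemC : ∀ c, c ∈ C ↔ c ∈ K ∧ c * w = w * c := by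
          intro c
          rw [Subgroup.mem_inf, Subgroup.mem_centralizer_singleton_iff]
        have hxwc : x⁻¹ * (w : L) * x = w := by
          calc x⁻¹ * (w : L) * x = x⁻¹ * ((w : L) * x) := by group
            _ = w := by rw [← hxw]; group
        have hxC : x ∈ Subgroup.normalizer (C : Set L) := by
          rw [Subgroup.mem_normalizer_iff]
          intro c
          have hKc : c ∈ K ↔ x * c * x⁻¹ ∈ K :=
            ⟨fun h => hK.conj_mem c h x, fun h => by simpa [mul_assoc] using hK.conj_mem _ h x⁻¹⟩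
          have hCc : c * w = w * c ↔ (x * c * x⁻¹) * w = w * (x * c * x⁻¹) := by
            have hxwi : x⁻¹ * (w : L) = w * x⁻¹ := by
              calc x⁻¹ * (w : L) = x⁻¹ * (w : L) * x * x⁻¹ := by group
                _ = w * x⁻¹ := by rw [hxwc]
            constructor
            · intro h
              calc x * c * x⁻¹ * w = x * c * (x⁻¹ * w) := by group
                _ = x * (c * w) * x⁻¹ := by rw [hxwi]; group
                _ = (x * w) * c * x⁻¹ := by rw [h]; group
                _ = w * (x * c * x⁻¹) := by rw [hxw]; group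
            · intro h
              calc c * w = x⁻¹ * (x * c * x⁻¹ * (x * w)) := by group
                _ = x⁻¹ * ((x * c * x⁻¹ * w) * x) := by rw [hxw]; group
                _ = (x⁻¹ * w) * x * c := by rw [h]; group
                _ = w * c := by rw [hxwi]; group
          rw [hmemC, hmemC]
          exact and_congr hKc hCc
        have hd : (k : L)⁻¹ * (x * k * x⁻¹) ∈ C := by
          rw [hmemC]
          refine ⟨K.mul_mem (K.inv_mem k.2) (hK.conj_mem _ k.2 x), ?_⟩
          have e1 : (x * k * x⁻¹) * w * (x * k * x⁻¹)⁻¹ = w' := by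
            calc (x * k * x⁻¹) * w * (x * k * x⁻¹)⁻¹
                = x * k * (x⁻¹ * w * x) * (k : L)⁻¹ * x⁻¹ := by group
              _ = x * ((k : L) * w * (k : L)⁻¹) * x⁻¹ := by rw [hxwc]; group
              _ = w' := by rw [hk', hxw']; group
          calc (k : L)⁻¹ * (x * k * x⁻¹) * w
              = (k : L)⁻¹ * ((x * k * x⁻¹) * w * (x * k * x⁻¹)⁻¹) * (x * k * x⁻¹) := by group
            _ = (k : L)⁻¹ * ((k : L) * w * (k : L)⁻¹) * (x * k * x⁻¹) := by rw [e1, hk']
            _ = w * ((k : L)⁻¹ * (x * k * x⁻¹)) := by group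
        have hcopC : Nat.Coprime (orderOf x) (Nat.card C) :=
          hcop.of_dvd_right (Subgroup.card_dvd_of_le inf_le_left)
        obtain ⟨y, hy, c, hc, hcx, hyc⟩ := exists_conj_coset C x hxC hcopC hd
        obtain ⟨e, he1, he0⟩ := Nat.chineseRemainder hcop 1 0
        have hpow : (c * x) ^ e = x :=
          pow_mul_eq_right he1 he0 hcx
            (orderOf_dvd_iff_pow_eq_one.mp (K.orderOf_dvd_natCard ((hmemC c).mp hc).1))
            (pow_orderOf_eq_one x)
        have hz : (y * (k : L)⁻¹) * x * (y * (k : L)⁻¹)⁻¹ = c * x := by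
          rw [← hyc]; group
        have hzx : (y * (k : L)⁻¹) * x * (y * (k : L)⁻¹)⁻¹ = x := by
          have h2 : ((y * (k : L)⁻¹) * x * (y * (k : L)⁻¹)⁻¹) ^ e = x := by rw [hz, hpow]
          rw [conj_pow] at h2
          have hxe : x ^ e = x := by
            have := pow_eq_pow_iff_modEq.mpr he1
            rw [this, pow_one]
          rwa [hxe] at h2
        have hzW : y * (k : L)⁻¹ ∈ W₂ := by
          rw [hmemW]
          refine ⟨K.mul_mem ((hmemC y).mp hy).1 (K.inv_mem k.2), ?_⟩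
          conv_lhs => arg 1; rw [← hzx]
          group
        haveI := hW₂c.isMulCommutative
        have hzw : (y * (k : L)⁻¹) * w' = (w' : L) * (y * (k : L)⁻¹) :=
          congrArg Subtype.val (mul_comm' (⟨_, hzW⟩ : W₂) w')
        refine Subtype.ext ?_
        have e3 : (y * (k : L)⁻¹) * w' * (y * (k : L)⁻¹)⁻¹ = w := by
          rw [← hk']
          calc y * (k : L)⁻¹ * ((k : L) * w * (k : L)⁻¹) * (y * (k : L)⁻¹)⁻¹
              = (y * w) * y⁻¹ := by group
            _ = w := by rw [((hmemC y).mp hy).2]; group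
        rw [← e3, hzw]
        group
      · rintro ⟨C, hCfix⟩
        obtain ⟨k, rfl⟩ := ConjClasses.exists_rep C
        obtain ⟨m, hm⟩ := isConj_iff.mp (ConjClasses.mk_eq_mk_iff_isConj.mp hCfix)
        have e : x * (k : L) * x⁻¹ = (m : L)⁻¹ * k * ((m : L)⁻¹)⁻¹ := by
          have h' : (m : L) * (x * k * x⁻¹) * (m : L)⁻¹ = k := congrArg Subtype.val hm
          conv_rhs => rw [← h']
          group
        obtain ⟨y, hy, hyc⟩ := exists_fixed_conj K x hxN hcop (K.inv_mem m.2) e
        refine ⟨⟨y * k * y⁻¹, (hmemW _).mpr ⟨K.mul_mem (K.mul_mem hy k.2) (K.inv_mem hy), hyc⟩⟩, ?_⟩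
        refine Subtype.ext (ConjClasses.mk_eq_mk_iff_isConj.mpr (isConj_iff.mpr ⟨⟨y, hy⟩⁻¹, ?_⟩))
        refine Subtype.ext ?_
        show y⁻¹ * (y * k * y⁻¹) * y⁻¹⁻¹ = (k : L)
        group
    rw [Nat.card_eq_of_bijective F hF, ← card_fixed_irr_aut]
    refine Nat.card_congr (Equiv.subtypeEquivRight fun θ => ?_)
    rw [funext (conjChar_apply K x (θ : K → ℂ))]
    rfl
  have hfix_conj : ∀ (x : L) (θ : K → ℂ),
      ((fun k : K => θ ⟨x * k * x⁻¹, hK.conj_mem (k : L) k.2 x⟩) = θ) ↔ conjChar K x θ = θ :=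
    fun x θ => Iff.rfl
  have hclass : ∀ θ : K → ℂ, IsIrrCharacter K θ → IsClassFunction K θ := fun θ hθ =>
    IsCharacter.isClassFunction (IsIrrCharacter.isCharacter hθ)
  have hg1 : (g₀ : L) ≠ 1 := by
    intro h
    refine hW₁ ((Subgroup.eq_bot_iff_forall _).mpr fun x hx => ?_)
    obtain ⟨i, hi⟩ := Subgroup.mem_zpowers_iff.mp (hg₀ ⟨x, hx⟩)
    have := congrArg Subtype.val hi
    simp [h] at this
    exact this.symm
  have hgen : ∀ θ : K → ℂ, conjChar K (g₀ : L) θ = θ → ∀ x ∈ W₁, conjChar K x θ = θ := by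
    intro θ h x hx
    obtain ⟨i, hi⟩ := Subgroup.mem_zpowers_iff.mp (hg₀ ⟨x, hx⟩)
    have : x ∈ inertia K θ := by
      rw [show x = (g₀ : L) ^ i by simpa using (congrArg Subtype.val hi).symm]
      exact Subgroup.zpow_mem _ (show (g₀ : L) ∈ inertia K θ from h) i
    exact this
  have hall : Nat.card {θ : IrrCharacter K // ∀ x ∈ W₁, conjChar K x (θ : K → ℂ) = θ} =
      Nat.card W₂ := by
    rw [← hcount g₀ g₀.2 hg1]
    exact Nat.card_congr (Equiv.subtypeEquivRight fun θ =>
      ⟨fun h => h g₀ g₀.2, fun h => hgen _ h⟩)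
  have hsame : ∀ x ∈ W₁, x ≠ 1 → ∀ θ : IrrCharacter K, conjChar K x (θ : K → ℂ) = θ →
      ∀ y ∈ W₁, conjChar K y (θ : K → ℂ) = θ := by
    intro x hx hx1 θ hθ
    let ι : {θ : IrrCharacter K // ∀ x ∈ W₁, conjChar K x (θ : K → ℂ) = θ} →
        {θ : IrrCharacter K // conjChar K x (θ : K → ℂ) = θ} := fun t => ⟨t.1, t.2 x hx⟩
    have hι : Function.Injective ι := fun a b h =>
      Subtype.ext (congrArg (fun t : {θ : IrrCharacter K // conjChar K x (θ : K → ℂ) = θ} => t.1) h)
    obtain ⟨t, ht⟩ := (hι.bijective_of_nat_card_le (by rw [hall, hcount x hx hx1])).2 ⟨θ, hθ⟩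
    have := congrArg Subtype.val ht
    simp only [ι] at this
    exact this ▸ t.2
  refine ⟨?_, ?_, ?_⟩
  · intro θ hθ ⟨x₀, hx₀, hne⟩
    refine isIrrCharacter_iff.mpr ⟨isCharacter_indFun K (IsIrrCharacter.isCharacter hθ), ?_⟩
    rw [classInner_indFun_indFun K hθ hθ]
    have e : (Finset.univ.filter fun g : L => conjChar K g θ = θ) =
        Finset.univ.filter fun g : L => g ∈ K := Finset.filter_congr fun g _ => by
      refine ⟨fun hg => ?_, fun hg => conjChar_of_mem K (hclass θ hθ) hg⟩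
      have : g ∈ (K ⊔ W₁ : Subgroup L) := by rw [hKW₁']; trivial
      rw [← SetLike.mem_coe, Subgroup.normal_mul] at this
      obtain ⟨k, hk, v, hv, rfl⟩ := this
      rcases eq_or_ne v 1 with rfl | hv1
      · simpa using hk
      exfalso
      rw [← conjChar_mul, conjChar_of_mem K (hclass θ hθ) hk] at hg
      exact hne (hsame v hv hv1 ⟨θ, hθ⟩ hg x₀ hx₀)
    rw [e, ← Fintype.card_subtype, ← Nat.card_eq_fintype_card, div_self]
    exact Nat.cast_ne_zero.mpr Nat.card_pos.ne'
  · exact hall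
  · intro θ hθ hinv
    have hinv' : ∀ g, conjChar K g θ = θ := by
      intro g
      have : g ∈ (K ⊔ W₁ : Subgroup L) := by rw [hKW₁']; trivial
      rw [← SetLike.mem_coe, Subgroup.normal_mul] at this
      obtain ⟨k, hk, v, hv, rfl⟩ := this
      rw [← conjChar_mul, conjChar_of_mem K (hclass θ hθ) hk]
      exact hinv v hv
    haveI := hW₁c
    let q : W₁ →* L ⧸ K := (QuotientGroup.mk' K).comp W₁.subtype
    have hq : Function.Surjective q := by
      intro z
      obtain ⟨g, rfl⟩ := QuotientGroup.mk'_surjective K z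
      have : g ∈ (K ⊔ W₁ : Subgroup L) := by rw [hKW₁']; trivial
      rw [← SetLike.mem_coe, Subgroup.normal_mul] at this
      obtain ⟨k, hk, v, hv, rfl⟩ := this
      refine ⟨⟨v, hv⟩, ?_⟩
      show QuotientGroup.mk' K v = QuotientGroup.mk' K (k * v)
      rw [map_mul, show QuotientGroup.mk' K k = 1 from (QuotientGroup.eq_one_iff k).mpr hk, one_mul]
    have hcycq : IsCyclic (L ⧸ K) := isCyclic_of_surjective q hq
    obtain ⟨χ, hχ, hext⟩ := exists_extension_of_cyclic hcycq hθ hinv'
    haveI := hcycq.isMulCommutative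
    obtain ⟨C, hC1, -, hC3, hC4⟩ := abelian_quotient_decomp K hθ hinv' (fun a b => by
      rw [← QuotientGroup.eq_one_iff]
      simp only [QuotientGroup.mk_mul, QuotientGroup.mk_inv]
      rw [mul_comm' (a : L ⧸ K) b]
      group) hχ one_ne_zero (by funext n; simp [hext n])
    exact ⟨C, by simpa [hKindex] using hC3, hC1, by simpa using hC4⟩

end Cfsg.Agent.S1513
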