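import Cfsg.Statements.S1514
import Cfsg.Agent.Lib.Char.Signed
import Cfsg.Agent.S1509

set_option autoImplicit false
open Cfsg

namespace Cfsg.Agent.S1514

open Cfsg Cfsg.Agent.Char

/-- Let S be a nonempty set of irreducible characters of the finite group L, closed under complex conjugation and containing no real-valued member, and τ a linear isometry on the integer combinations of S vanishing at 1, with values virtual characters of G vanishing at 1. Then there is a choice R making (S, τ, R) a coherence system. -/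
theorem result {L : Type*} [Group L] [Fintype L] {G : Type*} [Group G] [Fintype G] (S : Set (L → ℂ)) (hS : S.Nonempty) (hirr : ∀ χ ∈ S, Cfsg.IsIrrCharacter L χ) (hconj : ∀ χ ∈ S, Cfsg.conjFun χ ∈ S ∧ Cfsg.conjFun χ ≠ χ) (τ : (L → ℂ) → (G → ℂ)) (hτ : Cfsg.IsLinearIsometryOn (Cfsg.zspanOn S {1}ᶜ) τ) (hτ1 : ∀ α ∈ Cfsg.zspanOn S {1}ᶜ, τ α 1 = 0) : ∃ R : (L → ℂ) → Finset (G → ℂ), Cfsg.IsCoherenceSystem S τ R := by
  classical
  obtain ⟨hadd, hsmul, hiso, hgen⟩ := hτ
  have hdiff : ∀ χ ∈ S, χ - conjFun χ ∈ zspanOn S {1}ᶜ := by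
    intro χ hχ
    refine ⟨Submodule.sub_mem _ (Submodule.subset_span hχ)
      (Submodule.subset_span (hconj χ hχ).1), fun x hx => ?_⟩
    obtain rfl : x = 1 := by simpa using hx
    obtain ⟨d, hd⟩ := IsCharacter.exists_degree (IsIrrCharacter.isCharacter (hirr χ hχ))
    simp [conjFun, hd]
  have hμν : ∀ χ ∈ S, ∃ p : (G → ℂ) × (G → ℂ), IsIrrCharacter G p.1 ∧ IsIrrCharacter G p.2 ∧
      p.1 ≠ p.2 ∧ τ (χ - conjFun χ) = p.1 - p.2 := by
    intro χ hχ
    have h1 := hirr χ hχ
    have h2 := hirr _ (hconj χ hχ).1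
    have hne := (hconj χ hχ).2
    obtain ⟨μ, ν, hne', e⟩ := IsGeneralizedCharacter.exists_sub_of_norm_two
      (hgen _ (hdiff χ hχ)) (by
        rw [hiso _ (hdiff χ hχ) _ (hdiff χ hχ), classInner_sub_left, classInner_sub_right,
          classInner_sub_right, IsIrrCharacter.classInner_self h1,
          IsIrrCharacter.classInner_self h2, IsIrrCharacter.classInner_eq_zero h1 h2 (Ne.symm hne),
          IsIrrCharacter.classInner_eq_zero h2 h1 hne]
        norm_num) (hτ1 _ (hdiff χ hχ))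
    exact ⟨((μ : G → ℂ), (ν : G → ℂ)), μ.2, ν.2, fun h => hne' (Subtype.ext h), e⟩
  choose! P hP1 hP2 hP3 hP4 using hμν
  have hmne : ∀ χ ∈ S, (P χ).1 ≠ -(P χ).2 := by
    intro χ hχ h
    obtain ⟨a, ha, hca⟩ := IsIrrCharacter.degree_pos (hP1 χ hχ)
    obtain ⟨b, hb, hcb⟩ := IsIrrCharacter.degree_pos (hP2 χ hχ)
    have h1 := congrFun h 1
    rw [Pi.neg_apply, hca, hcb] at h1
    have : ((a + b : ℕ) : ℂ) = 0 := by push_cast; rw [h1]; ring
    have : a + b = 0 := by exact_mod_cast this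
    omega
  refine ⟨fun χ => {(P χ).1, -(P χ).2}, ?_⟩
  refine { nonempty := hS, isCharacter := fun χ hχ => IsIrrCharacter.isCharacter (hirr χ hχ),
           conj_mem := fun χ hχ => (hconj χ hχ).1, conj_ne := fun χ hχ => (hconj χ hχ).2,
           isometry := ⟨hadd, hsmul, hiso, hgen⟩, map_one := hτ1, orthogonal := ?_,
           orthonormal := ?_, virtual := ?_, sum_eq := ?_, disjoint := ?_ }
  · exact fun χ hχ φ hφ hne => IsIrrCharacter.classInner_eq_zero (hirr χ hχ) (hirr φ hφ) hne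
  · intro χ hχ α hα β hβ
    have h12 := IsIrrCharacter.classInner_eq_zero (hP1 χ hχ) (hP2 χ hχ) (hP3 χ hχ)
    have h21 := IsIrrCharacter.classInner_eq_zero (hP2 χ hχ) (hP1 χ hχ) (Ne.symm (hP3 χ hχ))
    simp only [Finset.mem_insert, Finset.mem_singleton] at hα hβ
    rcases hα with rfl | rfl <;> rcases hβ with rfl | rfl
    · rw [if_pos rfl, IsIrrCharacter.classInner_self (hP1 χ hχ)]
    · rw [if_neg (hmne χ hχ), classInner_neg_right, h12, neg_zero]
    · rw [if_neg (Ne.symm (hmne χ hχ)), classInner_neg_left, h21, neg_zero]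
    · rw [if_pos rfl, classInner_self_signed (Or.inr (by rw [neg_neg]; exact hP2 χ hχ))]
  · intro χ hχ α hα
    simp only [Finset.mem_insert, Finset.mem_singleton] at hα
    rcases hα with rfl | rfl
    · exact IsIrrCharacter.isGeneralized (hP1 χ hχ)
    · exact isGeneralizedCharacter_neg (IsIrrCharacter.isGeneralized (hP2 χ hχ))
  · intro χ hχ
    rw [Finset.sum_pair (hmne χ hχ), hP4 χ hχ, sub_eq_add_neg]
  · intro χ hχ φ hφ h1 h2 α hα β hβ
    have h1' := hirr χ hχ
    have hc' := hirr _ (hconj χ hχ).1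
    have hφ' := hirr φ hφ
    have hcφ := hirr _ (hconj φ hφ).1
    have n1 : φ ≠ χ := fun h => by
      rw [h, IsIrrCharacter.classInner_self h1'] at h1; exact one_ne_zero h1
    have n2 : φ ≠ conjFun χ := fun h => by
      rw [h, IsIrrCharacter.classInner_self hc'] at h2; exact one_ne_zero h2
    have hcc : ∀ f : L → ℂ, conjFun (conjFun f) = f := fun f => funext fun x => by simp [conjFun]
    have n3 : conjFun φ ≠ χ := fun h => n2 (by rw [← h, hcc])
    have n4 : conjFun φ ≠ conjFun χ := fun h => n1 (by rw [← hcc φ, h, hcc])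
    have hmix : classInner ((P φ).1 - (P φ).2) (((1 : ℝ) : ℂ) • (P χ).1 - ((1 : ℝ) : ℂ) • (P χ).2) = 0 := by
      rw [Complex.ofReal_one, one_smul, one_smul, ← hP4 φ hφ, ← hP4 χ hχ,
        hiso _ (hdiff φ hφ) _ (hdiff χ hχ), classInner_sub_left, classInner_sub_right,
        classInner_sub_right, h1, h2, IsIrrCharacter.classInner_eq_zero hcφ h1' n3,
        IsIrrCharacter.classInner_eq_zero hcφ hc' n4]
      norm_num
    have hd : ∀ ψ ∈ S, (P ψ).1 1 = (P ψ).2 1 := fun ψ hψ => by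
      have := hτ1 _ (hdiff ψ hψ)
      rw [hP4 ψ hψ, Pi.sub_apply, sub_eq_zero] at this
      exact this
    obtain ⟨a1, a2, a3, a4⟩ := Cfsg.Agent.S1509.result (P φ).1 (P φ).2 (P χ).1 (P χ).2
      (Or.inl (hP1 φ hφ)) (Or.inl (hP2 φ hφ)) (Or.inl (hP1 χ hχ)) (Or.inl (hP2 χ hχ)) 1 1
      one_ne_zero one_ne_zero
      (IsIrrCharacter.classInner_eq_zero (hP1 φ hφ) (hP2 φ hφ) (hP3 φ hφ))
      (IsIrrCharacter.classInner_eq_zero (hP1 χ hχ) (hP2 χ hχ) (hP3 χ hχ))
      hmix (hd φ hφ) (by rw [hd χ hχ])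
    simp only [Finset.mem_insert, Finset.mem_singleton] at hα hβ
    rcases hα with rfl | rfl <;> rcases hβ with rfl | rfl <;>
      simp [classInner_neg_left, classInner_neg_right, a1, a2, a3, a4]

end Cfsg.Agent.S1514
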