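import Cfsg.Statements.S1515
import Cfsg.Agent.Lib.Char.Coherence

set_option autoImplicit false
open Cfsg

namespace Cfsg.Agent.S1515

open Cfsg Cfsg.Agent.Char
open scoped ComplexConjugate

/-- Let (S, τ, R) be a coherence system from L to G, χ ∈ S, and ψ an integer combination of S with ⟨χ, ψ⟩ = ⟨conj χ, ψ⟩ = 0. Let τ₁ be a linear isometry on the integer combinations of χ − ψ and χ − conj χ, with virtual-character values, agreeing with τ on integer multiples of χ − conj χ. Then the sum over α ∈ R χ of the squared absolute values of ⟨τ₁(χ − ψ), α⟩ is at least ⟨χ, χ⟩; and if ⟨τ₁(χ − ψ), τ₁(χ − ψ)⟩ minus that sum is at least ⟨ψ, ψ⟩, then the sum equals ⟨χ, χ⟩ and every ⟨τ₁(χ − ψ), α⟩ with α ∈ R χ is 0 or 1. -/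
theorem result {L : Type*} [Group L] [Fintype L] {G : Type*} [Group G] [Fintype G] (S : Set (L → ℂ)) (τ : (L → ℂ) → (G → ℂ)) (R : (L → ℂ) → Finset (G → ℂ)) (hS : Cfsg.IsCoherenceSystem S τ R) (χ : L → ℂ) (hχ : χ ∈ S) (ψ : L → ℂ) (hψ : ψ ∈ Cfsg.zspan S) (h1 : Cfsg.classInner χ ψ = 0) (h2 : Cfsg.classInner (Cfsg.conjFun χ) ψ = 0) (τ₁ : (L → ℂ) → (G → ℂ)) (hτ₁ : Cfsg.IsLinearIsometryOn (Cfsg.zspan {χ - ψ, χ - Cfsg.conjFun χ}) τ₁) (hagree : ∀ n : ℤ, τ₁ (n • (χ - Cfsg.conjFun χ)) = τ (n • (χ - Cfsg.conjFun χ))) : (Cfsg.classInner χ χ).re ≤ ∑ α ∈ R χ, ‖Cfsg.classInner (τ₁ (χ - ψ)) α‖ ^ 2 ∧ ((Cfsg.classInner ψ ψ).re ≤ (Cfsg.classInner (τ₁ (χ - ψ)) (τ₁ (χ - ψ))).re - ∑ α ∈ R χ, ‖Cfsg.classInner (τ₁ (χ - ψ)) α‖ ^ 2 → (∑ α ∈ R χ, ‖Cfsg.classInner (τ₁ (χ - ψ)) α‖ ^ 2 = (Cfsg.classInner χ χ).re ∧ ∀ α ∈ R χ, Cfsg.classInner (τ₁ (χ - ψ)) α = 0 ∨ Cfsg.classInner (τ₁ (χ - ψ)) α = 1)) := by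
  classical
  have hχ' := hS.conj_mem χ hχ
  have hne := hS.conj_ne χ hχ
  have hv : χ - ψ ∈ zspan {χ - ψ, χ - conjFun χ} := Submodule.subset_span (by simp)
  have hd : χ - conjFun χ ∈ zspan {χ - ψ, χ - conjFun χ} := Submodule.subset_span (by simp)
  have hgen := hτ₁.2.2.2 _ hv
  have hag : τ₁ (χ - conjFun χ) = τ (χ - conjFun χ) := by simpa using hagree 1
  have hc : ∀ α ∈ R χ, ∃ z : ℤ, classInner (τ₁ (χ - ψ)) α = z := fun α hα =>
    classInner_int_of_isGeneralized hgen (hS.virtual χ hχ α hα)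
  choose! c hc using hc
  have hsum : ((∑ α ∈ R χ, c α : ℤ) : ℂ) = classInner χ χ := by
    push_cast
    rw [← Finset.sum_congr rfl hc, ← classInner_sum_right, ← hS.sum_eq χ hχ, ← hag,
      hτ₁.2.2.1 _ hv _ hd, classInner_sub_left, classInner_sub_right, classInner_sub_right,
      hS.orthogonal χ hχ _ hχ' (Ne.symm hne)]
    have e1 : classInner ψ χ = 0 := by rw [← classInner_conj_symm, h1, map_zero]
    have e2 : classInner ψ (conjFun χ) = 0 := by rw [← classInner_conj_symm, h2, map_zero]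
    rw [e1, e2]
    ring
  have hsq : ∑ α ∈ R χ, ‖classInner (τ₁ (χ - ψ)) α‖ ^ 2 = ((∑ α ∈ R χ, c α ^ 2 : ℤ) : ℝ) := by
    push_cast
    exact Finset.sum_congr rfl fun α hα => by rw [hc α hα, Complex.norm_intCast, sq_abs]
  have hn : (classInner χ χ).re = ((∑ α ∈ R χ, c α : ℤ) : ℝ) := by
    rw [← hsum, Complex.intCast_re]
  rw [hsq, hn]
  refine ⟨?_, fun hb => ?_⟩
  · exact_mod_cast Finset.sum_le_sum fun α (_ : α ∈ R χ) => Int.le_self_sq (c α)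
  · have htot : (classInner (τ₁ (χ - ψ)) (τ₁ (χ - ψ))).re =
        (classInner χ χ).re + (classInner ψ ψ).re := by
      rw [hτ₁.2.2.1 _ hv _ hv, classInner_sub_left, classInner_sub_right, classInner_sub_right]
      have e1 : classInner ψ χ = 0 := by rw [← classInner_conj_symm, h1, map_zero]
      rw [h1, e1]
      simp
    rw [htot, hn] at hb
    have hle : (∑ α ∈ R χ, c α ^ 2) ≤ ∑ α ∈ R χ, c α := by
      have : (((∑ α ∈ R χ, c α ^ 2 : ℤ)) : ℝ) ≤ ((∑ α ∈ R χ, c α : ℤ) : ℝ) := by linarith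
      exact_mod_cast this
    have heq := le_antisymm hle (Finset.sum_le_sum fun α (_ : α ∈ R χ) => Int.le_self_sq (c α))
    refine ⟨by rw [heq], fun α hα => ?_⟩
    have h3 := (Finset.sum_eq_sum_iff_of_le fun α (_ : α ∈ R χ) => Int.le_self_sq (c α)).mp
      heq.symm α hα
    have h4 : c α * (c α - 1) = 0 := by
      rw [mul_sub, mul_one, ← sq, sub_eq_zero]; exact h3.symm
    rcases mul_eq_zero.mp h4 with h | h
    · left; rw [hc α hα, h, Int.cast_zero]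
    · right; rw [hc α hα, sub_eq_zero.mp h, Int.cast_one]

end Cfsg.Agent.S1515
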