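import Cfsg.Statements.S1517
import Cfsg.Agent.Lib.Char.Coherence

set_option autoImplicit false
open Cfsg

namespace Cfsg.Agent.S1517

open Cfsg Cfsg.Agent.Char
open scoped ComplexConjugate

/-- Let (S, τ, R) be a coherence system from L to G such that φ 1 = ψ 1 for all φ, ψ ∈ S. Then (S, L minus 1, τ) is coherent. -/
theorem result {L : Type*} [Group L] [Fintype L] {G : Type*} [Group G] [Fintype G] (S : Set (L → ℂ)) (τ : (L → ℂ) → (G → ℂ)) (R : (L → ℂ) → Finset (G → ℂ)) (hS : Cfsg.IsCoherenceSystem S τ R) (hdeg : ∀ φ ∈ S, ∀ ψ ∈ S, φ 1 = ψ 1) : Cfsg.IsCoherent S {1}ᶜ τ := by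
  classical
  obtain ⟨χ, hχ⟩ := hS.nonempty
  have hχ' := hS.conj_mem χ hχ
  obtain ⟨n, hn⟩ := classInner_natCast_of_isCharacter (hS.isCharacter χ hχ) (hS.isCharacter χ hχ)
  have hcard : (R χ).card = 2 * n := by
    have h := hS.isometry.2.2.1 _ (system_sub_conj_mem hS hχ) _ (system_sub_conj_mem hS hχ)
    have hnn : classInner (conjFun χ) (conjFun χ) = n := by
      have : classInner (conjFun χ) (conjFun χ) = conj (classInner χ χ) := by
        simp [classInner, conjFun, map_sum]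
      rw [this, hn, Complex.conj_natCast]
    rw [classInner_sub_left χ, classInner_sub_right χ, classInner_sub_right (conjFun χ),
      hn, hnn, hS.orthogonal χ hχ _ hχ' (Ne.symm (hS.conj_ne χ hχ)),
      hS.orthogonal _ hχ' χ hχ (hS.conj_ne χ hχ), hS.sum_eq χ hχ, classInner_sum_left] at h
    rw [Finset.sum_congr rfl fun α hα => by
      rw [classInner_sum_right, Finset.sum_eq_single_of_mem α hα (fun β hβ hne => by
        rw [hS.orthonormal χ hχ α hα β hβ, if_neg (Ne.symm hne)]),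
        hS.orthonormal χ hχ α hα α hα, if_pos rfl], Finset.sum_const, nsmul_eq_mul, mul_one] at h
    have : ((R χ).card : ℂ) = ((2 * n : ℕ) : ℂ) := by rw [h]; push_cast; ring
    exact_mod_cast this
  have hmem : ∀ φ ∈ S, χ - φ ∈ zspanOn S {1}ᶜ := fun φ hφ => mem_zspanOn_compl_one.mpr
    ⟨Submodule.sub_mem _ (Submodule.subset_span hχ) (Submodule.subset_span hφ),
      by rw [Pi.sub_apply, hdeg χ hχ φ hφ, sub_self]⟩
  -- the coefficient vector of the images
  have hint : ∀ φ ∈ S, ∀ ψ ∈ S, ∀ α ∈ R ψ, ∃ z : ℤ, classInner (τ (χ - φ)) α = z :=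
    fun φ hφ ψ hψ α hα => classInner_int_of_isGeneralized (hS.isometry.2.2.2 _ (hmem φ hφ))
      (hS.virtual ψ hψ α hα)
  let c : (L → ℂ) → (G → ℂ) → ℤ := fun φ α =>
    if h : ∃ z : ℤ, classInner (τ (χ - φ)) α = z then h.choose else 0
  have hc : ∀ φ ∈ S, ∀ ψ ∈ S, ∀ α ∈ R ψ, classInner (τ (χ - φ)) α = c φ α := by
    intro φ hφ ψ hψ α hα
    simp only [c, dif_pos (hint φ hφ ψ hψ α hα)]
    exact (hint φ hφ ψ hψ α hα).choose_spec
  have horth' : ∀ φ ∈ S, φ ≠ χ → φ ≠ conjFun χ →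
      classInner φ χ = 0 ∧ classInner φ (conjFun χ) = 0 :=
    fun φ hφ h1 h2 => ⟨hS.orthogonal φ hφ χ hχ h1, hS.orthogonal φ hφ _ hχ' h2⟩
  -- decomposition for the generic members
  have hsplit : ∀ φ ∈ S, φ ≠ χ → φ ≠ conjFun χ →
      τ (χ - φ) = proj (R χ) (τ (χ - φ)) + proj (R φ) (τ (χ - φ)) ∧
        ∑ α ∈ R χ, c φ α ^ 2 = n ∧ ∑ α ∈ R χ, c φ α = n := by
    intro φ hφ h1 h2
    obtain ⟨o1, o2⟩ := horth' φ hφ h1 h2
    obtain ⟨m, hm⟩ := classInner_natCast_of_isCharacter (hS.isCharacter φ hφ) (hS.isCharacter φ hφ)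
    have o3 : classInner χ φ = 0 := hS.orthogonal χ hχ φ hφ (Ne.symm h1)
    have hφc : χ ≠ conjFun φ := fun h => h2 (by rw [h, conjFun_conjFun])
    have o4 : classInner χ (conjFun φ) = 0 :=
      hS.orthogonal χ hχ _ (hS.conj_mem φ hφ) hφc
    have s1 : ((∑ α ∈ R χ, c φ α : ℤ) : ℂ) = (n : ℂ) := by
      push_cast
      rw [← Finset.sum_congr rfl (hc φ hφ χ hχ), system_sum_inner hS hχ (hmem φ hφ),
        classInner_sub_left, classInner_sub_left, hn, o1, o2,
        hS.orthogonal χ hχ _ hχ' (Ne.symm (hS.conj_ne χ hχ))]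
      ring
    have s2 : ((∑ α ∈ R φ, c φ α : ℤ) : ℂ) = -(m : ℂ) := by
      push_cast
      rw [← Finset.sum_congr rfl (hc φ hφ φ hφ), system_sum_inner hS hφ (hmem φ hφ),
        classInner_sub_left, classInner_sub_left, o3, o4, hm,
        hS.orthogonal φ hφ _ (hS.conj_mem φ hφ) (Ne.symm (hS.conj_ne φ hφ))]
      ring
    have s1' : ∑ α ∈ R χ, c φ α = n := by exact_mod_cast s1
    have s2' : ∑ α ∈ R φ, c φ α = -(m : ℤ) := by exact_mod_cast s2
    have hnorm : classInner (τ (χ - φ)) (τ (χ - φ)) = (n : ℂ) + m := by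
      rw [hS.isometry.2.2.1 _ (hmem φ hφ) _ (hmem φ hφ), classInner_sub_left,
        classInner_sub_right, classInner_sub_right, hn, hm, o1, o3]
      ring
    obtain ⟨e1, e2⟩ := split_norm (R χ) (R φ) (τ (χ - φ)) (hS.orthonormal χ hχ)
      (hS.orthonormal φ hφ) (fun α hα β hβ => hS.disjoint φ hφ χ hχ o3 o4 α hα β hβ)
      (c φ) (hc φ hφ χ hχ) (hc φ hφ φ hφ) n m s1' s2' hnorm
    exact ⟨e1, e2, s1'⟩
  -- the coefficient vectors agree
  have hsame : ∀ φ ∈ S, φ ≠ χ → φ ≠ conjFun χ → ∀ ψ ∈ S, ψ ≠ χ → ψ ≠ conjFun χ →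
      ∀ α ∈ R χ, c φ α = c ψ α := by
    intro φ hφ a1 a2 ψ hψ b1 b2
    by_cases hψφ : ψ = φ
    · rw [hψφ]; exact fun α _ => rfl
    by_cases hψc : ψ = conjFun φ
    · intro α hα
      have h : τ (χ - ψ) = τ (χ - φ) + τ (φ - conjFun φ) := by
        rw [← hS.isometry.1 _ (hmem φ hφ) _ (system_sub_conj_mem hS hφ)]
        congr 1
        rw [hψc]; abel
      have h2 := hc ψ hψ χ hχ α hα
      rw [h, classInner_add_left, hS.sum_eq φ hφ, classInner_sum_left,
        Finset.sum_eq_zero (fun β hβ => ?_), add_zero, hc φ hφ χ hχ α hα] at h2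
      · exact_mod_cast h2
      · obtain ⟨o1, o2⟩ := horth' φ hφ a1 a2
        exact hS.disjoint χ hχ φ hφ o1 o2 β hβ α hα
    obtain ⟨eφ, qφ, -⟩ := hsplit φ hφ a1 a2
    obtain ⟨eψ, qψ, -⟩ := hsplit ψ hψ b1 b2
    have key : ∑ α ∈ R χ, (c φ α : ℂ) * c ψ α = n := by
      have h := hS.isometry.2.2.1 _ (hmem φ hφ) _ (hmem ψ hψ)
      rw [classInner_sub_left χ, classInner_sub_right χ, classInner_sub_right φ, hn,
        hS.orthogonal χ hχ ψ hψ (Ne.symm b1), hS.orthogonal φ hφ χ hχ a1,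
        hS.orthogonal φ hφ ψ hψ (Ne.symm hψφ)] at h
      rw [eφ, classInner_add_left] at h
      have z : classInner (proj (R φ) (τ (χ - φ))) (τ (χ - ψ)) = 0 := by
        rw [eψ, classInner_proj_left]
        refine Finset.sum_eq_zero fun α hα => ?_
        rw [classInner_add_right, classInner_proj_right, classInner_proj_right]
        have z1 : ∀ β ∈ R χ, classInner α β = 0 := fun β hβ =>
          hS.disjoint χ hχ φ hφ (horth' φ hφ a1 a2).1 (horth' φ hφ a1 a2).2 α hα β hβ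
        have z2 : ∀ β ∈ R ψ, classInner α β = 0 := fun β hβ =>
          hS.disjoint ψ hψ φ hφ (hS.orthogonal φ hφ ψ hψ (Ne.symm hψφ))
            (hS.orthogonal φ hφ _ (hS.conj_mem ψ hψ)
              (fun h => hψc (by rw [h, conjFun_conjFun]))) α hα β hβ
        rw [Finset.sum_eq_zero (fun β hβ => by rw [z1 β hβ, mul_zero]),
          Finset.sum_eq_zero (fun β hβ => by rw [z2 β hβ, mul_zero])]
        simp
      rw [z, add_zero, classInner_proj_left] at h
      have h' : ∑ α ∈ R χ, (c φ α : ℂ) * c ψ α =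
          ∑ α ∈ R χ, classInner (τ (χ - φ)) α * classInner α (τ (χ - ψ)) :=
        Finset.sum_congr rfl fun α hα => by
          rw [← classInner_conj_symm (τ (χ - ψ)) α, hc φ hφ χ hχ α hα, hc ψ hψ χ hχ α hα,
            map_intCast]
      rw [h', h]
      ring
    have key' : ∑ α ∈ R χ, c φ α * c ψ α = n := by exact_mod_cast key
    have hz : ∑ α ∈ R χ, (c φ α - c ψ α) ^ 2 = 0 := by
      have : ∀ α, (c φ α - c ψ α) ^ 2 = c φ α ^ 2 + c ψ α ^ 2 - 2 * (c φ α * c ψ α) := fun α => by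
        ring
      rw [Finset.sum_congr rfl fun α _ => this α, Finset.sum_sub_distrib, Finset.sum_add_distrib,
        ← Finset.mul_sum, qφ, qψ, key']
      ring
    intro α hα
    have := (Finset.sum_eq_zero_iff_of_nonneg fun α _ => sq_nonneg _).mp hz α hα
    exact sub_eq_zero.mp (pow_eq_zero_iff two_ne_zero |>.mp this)
  -- the element playing the role of the image of `χ`
  obtain ⟨X, hXgen, hXX, hXsum, hXφ⟩ : ∃ X : G → ℂ, IsGeneralizedCharacter G X ∧
      classInner X X = n ∧ classInner X (τ (χ - conjFun χ)) = n ∧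
      ∀ φ ∈ S, φ ≠ χ → φ ≠ conjFun χ → classInner X (τ (χ - φ)) = n := by
    have mk : ∀ d : (G → ℂ) → ℤ, ∀ g : G → ℂ,
        classInner (∑ α ∈ R χ, (d α : ℂ) • α) g = ∑ α ∈ R χ, (d α : ℂ) * classInner α g := by
      intro d g
      rw [classInner_sum_left]
      exact Finset.sum_congr rfl fun α _ => classInner_smul_left _ _ _
    have mkgen : ∀ d : (G → ℂ) → ℤ, IsGeneralizedCharacter G (∑ α ∈ R χ, (d α : ℂ) • α) :=
      fun d => isGeneralizedCharacter_sum _ _ fun α hα =>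
        isGeneralizedCharacter_intCast_smul (hS.virtual χ hχ α hα) _
    have mkself : ∀ d : (G → ℂ) → ℤ, classInner (∑ α ∈ R χ, (d α : ℂ) • α)
        (∑ α ∈ R χ, (d α : ℂ) • α) = ((∑ α ∈ R χ, d α ^ 2 : ℤ) : ℂ) := by
      intro d
      rw [mk]
      push_cast
      refine Finset.sum_congr rfl fun α hα => ?_
      rw [classInner_sum_right, Finset.sum_eq_single_of_mem α hα (fun β hβ hne => by
        rw [classInner_smul_right, hS.orthonormal χ hχ α hα β hβ, if_neg (Ne.symm hne), mul_zero]),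
        classInner_smul_right, hS.orthonormal χ hχ α hα α hα, if_pos rfl, map_intCast]
      ring
    have mksum : ∀ d : (G → ℂ) → ℤ, classInner (∑ α ∈ R χ, (d α : ℂ) • α) (τ (χ - conjFun χ)) =
        ((∑ α ∈ R χ, d α : ℤ) : ℂ) := by
      intro d
      rw [mk, hS.sum_eq χ hχ]
      push_cast
      refine Finset.sum_congr rfl fun α hα => ?_
      rw [classInner_sum_right, Finset.sum_eq_single_of_mem α hα (fun β hβ hne => by
        rw [hS.orthonormal χ hχ α hα β hβ, if_neg (Ne.symm hne)]),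
        hS.orthonormal χ hχ α hα α hα, if_pos rfl, mul_one]
    by_cases hex : ∃ φ ∈ S, φ ≠ χ ∧ φ ≠ conjFun χ
    · obtain ⟨φ₀, hφ₀, a1, a2⟩ := hex
      obtain ⟨-, q, s⟩ := hsplit φ₀ hφ₀ a1 a2
      refine ⟨_, mkgen (c φ₀), by rw [mkself, q]; simp, by rw [mksum, s]; simp, ?_⟩
      intro φ hφ b1 b2
      obtain ⟨-, q', -⟩ := hsplit φ hφ b1 b2
      have : ((∑ α ∈ R χ, c φ α ^ 2 : ℤ) : ℂ) = (n : ℂ) := by rw [q']; simp
      rw [← this, mk]
      push_cast
      refine Finset.sum_congr rfl fun α hα => ?_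
      rw [← classInner_conj_symm, hc φ hφ χ hχ α hα, map_intCast,
        hsame φ₀ hφ₀ a1 a2 φ hφ b1 b2 α hα, sq]
    · obtain ⟨T, hT, hTc⟩ := Finset.exists_subset_card_eq (s := R χ) (n := n) (by omega)
      refine ⟨_, mkgen (fun α => if α ∈ T then 1 else 0), ?_, ?_, ?_⟩
      · rw [mkself]
        simp [Finset.inter_eq_right.mpr hT, hTc]
      · rw [mksum]
        simp [Finset.inter_eq_right.mpr hT, hTc]
      · exact fun φ hφ b1 b2 => absurd ⟨φ, hφ, b1, b2⟩ hex
  have hXall : ∀ φ ∈ S, φ ≠ χ → classInner X (τ (χ - φ)) = n := by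
    intro φ hφ h1
    by_cases h2 : φ = conjFun χ
    · rw [h2]; exact hXsum
    · exact hXφ φ hφ h1 h2
  have hXall' : ∀ φ ∈ S, φ ≠ χ → classInner (τ (χ - φ)) X = n := fun φ hφ h1 => by
    rw [← classInner_conj_symm, hXall φ hφ h1, Complex.conj_natCast]
  have hτ0 : τ (χ - χ) = 0 := by
    rw [sub_self]
    exact IsLinearIsometryOn.map_zero hS.isometry (zspanOnSub S {1}ᶜ).zero_mem
  let T : (L → ℂ) → (G → ℂ) := fun φ => X - τ (χ - φ)
  obtain ⟨τ₁, hτ₁, hT⟩ := exists_isometry_extension S (fun φ hφ => system_norm_ne_zero hS hφ)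
    hS.orthogonal T
    (fun φ hφ => isGeneralizedCharacter_sub hXgen (hS.isometry.2.2.2 _ (hmem φ hφ))) (by
      intro φ hφ ψ hψ
      simp only [T]
      rw [classInner_sub_left, classInner_sub_right, classInner_sub_right,
        hS.isometry.2.2.1 _ (hmem φ hφ) _ (hmem ψ hψ), hXX, classInner_sub_left,
        classInner_sub_right, classInner_sub_right, hn]
      by_cases a : φ = χ
      · subst a
        rw [hτ0, classInner_zero_left]
        by_cases b : ψ = φ
        · subst b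
          rw [hτ0, classInner_zero_right, hn]; ring
        · rw [hXall ψ hψ b, hS.orthogonal φ hφ ψ hψ (Ne.symm b), hn]; ring
      · rw [hXall' φ hφ a, hS.orthogonal φ hφ χ hχ a]
        by_cases b : ψ = χ
        · subst b
          rw [hτ0, classInner_zero_right, hn, hS.orthogonal φ hφ ψ hψ a]; ring
        · rw [hXall ψ hψ b, hS.orthogonal χ hχ ψ hψ (Ne.symm b)]; ring)
  refine ⟨⟨χ - conjFun χ, system_sub_conj_mem hS hχ, fun h => hS.conj_ne χ hχ (sub_eq_zero.mp h).symm⟩,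
    τ₁, hτ₁, fun θ hθ => ?_⟩
  have hd0 : χ 1 ≠ 0 := fun h => system_ne_zero hS hχ
    (IsCharacter.eq_zero_of_degree_zero (hS.isCharacter χ hχ) h)
  have hspan : ∀ θ ∈ zspan S, ∃ k : ℤ, θ - k • χ ∈ Submodule.span ℤ ((fun φ => χ - φ) '' S) := by
    intro θ hθ
    induction hθ using Submodule.span_induction with
    | mem φ hφ =>
      refine ⟨1, ?_⟩
      rw [one_smul, ← neg_sub]
      exact Submodule.neg_mem _ (Submodule.subset_span ⟨φ, hφ, rfl⟩)
    | zero => exact ⟨0, by simp⟩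
    | add x y _ _ ihx ihy =>
      obtain ⟨a, ha⟩ := ihx
      obtain ⟨b, hb⟩ := ihy
      refine ⟨a + b, ?_⟩
      rw [show x + y - (a + b) • χ = (x - a • χ) + (y - b • χ) by rw [add_smul]; abel]
      exact Submodule.add_mem _ ha hb
    | smul a x _ ih =>
      obtain ⟨k, hk⟩ := ih
      refine ⟨a * k, ?_⟩
      rw [show a • x - (a * k) • χ = a • (x - k • χ) by rw [smul_sub, smul_smul]]
      exact Submodule.smul_mem _ _ hk
  have hθ' := mem_zspanOn_compl_one.mp hθ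
  obtain ⟨k, hk⟩ := hspan θ hθ'.1
  have hle : Submodule.span ℤ ((fun φ => χ - φ) '' S) ≤ zspanOnSub S {1}ᶜ :=
    Submodule.span_le.mpr (by rintro _ ⟨φ, hφ, rfl⟩; exact hmem φ hφ)
  have h1 := (mem_zspanOn_compl_one.mp (hle hk)).2
  rw [Pi.sub_apply, hθ'.2, Pi.smul_apply, zsmul_eq_mul, zero_sub, neg_eq_zero, mul_eq_zero] at h1
  have hk0 : k = 0 := Int.cast_eq_zero.mp (h1.resolve_right hd0)
  rw [hk0, zero_smul, sub_zero] at hk
  refine eq_on_span (P := zspanOnSub S {1}ᶜ) (Q := Submodule.span ℤ S) hS.isometry hτ₁ ?_ ?_ ?_ hk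
  · rintro _ ⟨φ, hφ, rfl⟩; exact hmem φ hφ
  · rintro _ ⟨φ, hφ, rfl⟩; exact (hmem φ hφ).1
  · rintro _ ⟨φ, hφ, rfl⟩
    rw [IsLinearIsometryOn.map_sub (P := Submodule.span ℤ S) hτ₁ (Submodule.subset_span hχ)
      (Submodule.subset_span hφ), hT χ hχ, hT φ hφ]
    simp only [T, hτ0, sub_zero]
    abel

end Cfsg.Agent.S1517
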