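import Cfsg.Statements.S1518
import Cfsg.Agent.Lib.Char.DadeIntegral
import Cfsg.Agent.S1500

set_option autoImplicit false
open Cfsg

namespace Cfsg.Agent.S1518

open Cfsg Cfsg.Agent.Char

/-- Under the Dade hypothesis for (A, L, H): if χ is an irreducible character of L vanishing at every non-identity element of L outside A, then the Dade image of χ − conj χ equals μ − conj μ for some irreducible character μ of G. -/
theorem result {G : Type*} [Group G] [Fintype G] (A : Set G) (L : Subgroup G) [Fintype L] (H : G → Subgroup G) (hD : Cfsg.DadeHypothesis A L H) (χ : L → ℂ) (hχ : Cfsg.IsIrrCharacter L χ) (hsupp : ∀ x : L, x ≠ 1 → (x : G) ∉ A → χ x = 0) : ∃ μ : G → ℂ, Cfsg.IsIrrCharacter G μ ∧ Cfsg.dadeIsometry A L H (χ - Cfsg.conjFun χ) = μ - Cfsg.conjFun μ := by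
  classical
  have hχc := IsIrrCharacter.isCharacter hχ
  have hcc : IsIrrCharacter L (conjFun χ) := IsIrrCharacter.conj hχ
  by_cases hreal : χ = conjFun χ
  · refine ⟨fun _ => 1, isIrrCharacter_one, funext fun g => ?_⟩
    have hz : χ - conjFun χ = 0 := sub_eq_zero.mpr hreal
    rw [hz]
    have : dadeIsometry A L H (0 : L → ℂ) g = 0 := by
      rw [dadeIsometry]
      split_ifs <;> simp
    rw [this]
    simp [conjFun]
  obtain ⟨d, hd⟩ := IsCharacter.exists_degree hχc
  have hα : IsGeneralizedCharacter L (χ - conjFun χ) :=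
    isGeneralizedCharacter_sub (IsIrrCharacter.isGeneralized hχ) (IsIrrCharacter.isGeneralized hcc)
  have hα1 : (χ - conjFun χ) 1 = 0 := by simp [conjFun, hd]
  have hαA : ∀ x : L, (x : G) ∉ A → (χ - conjFun χ) x = 0 := by
    intro x hx
    rcases eq_or_ne x 1 with rfl | h1
    · exact hα1
    · simp [conjFun, hsupp x h1 hx]
  have hαc := IsGeneralizedCharacter.isClassFunction hα
  set τ := dadeIsometry A L H (χ - conjFun χ) with hτ
  have hgen : IsGeneralizedCharacter G τ := isGeneralized_dadeIsometry hD hα hαA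
  have h2 : classInner τ τ = 2 := by
    rw [(Cfsg.Agent.S1500.result A L H hD _ hαc hαA).1 _ hαc hαA]
    rw [classInner_sub_left, classInner_sub_right, classInner_sub_right,
      IsIrrCharacter.classInner_self hχ, IsIrrCharacter.classInner_self hcc,
      IsIrrCharacter.classInner_eq_zero hχ hcc hreal,
      IsIrrCharacter.classInner_eq_zero hcc hχ (Ne.symm hreal)]
    norm_num
  have h0 : τ 1 = 0 := by
    refine dadeIsometry_of_not ?_
    rintro ⟨a, ha, u, hu, x, hx⟩
    have hau : a = u⁻¹ := by
      rw [eq_inv_iff_mul_eq_one, ← hx]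
      group
    have : a ∈ H a ⊓ (L ⊓ Subgroup.centralizer ({a} : Set G)) :=
      ⟨by have := (H a).inv_mem hu; rwa [← hau] at this, hD.subset ha, by
        show a ∈ Subgroup.centralizer ({a} : Set G)
        rw [Subgroup.mem_centralizer_singleton_iff]⟩
    rw [hD.inf_eq_bot a ha, Subgroup.mem_bot] at this
    exact hD.one_not_mem (this ▸ ha)
  obtain ⟨⟨μ, hμ⟩, ⟨ν, hν⟩, hne, e⟩ := IsGeneralizedCharacter.exists_sub_of_norm_two hgen h2 h0
  simp only at e
  have hne' : μ ≠ ν := fun h => hne (Subtype.ext h)
  refine ⟨μ, hμ, ?_⟩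
  have hneg : conjFun τ = -τ := by
    funext g
    by_cases hg : InDade A H g
    · obtain ⟨a, ha, u, hu, x, hx⟩ := hg
      simp only [conjFun, Pi.neg_apply, hτ]
      rw [dadeIsometry_apply hD hαc (a := ⟨a, hD.subset ha⟩) ha hu hx]
      simp [conjFun]
    · simp [conjFun, hτ, dadeIsometry_of_not hg]
  have hcμ : IsIrrCharacter G (conjFun μ) := IsIrrCharacter.conj hμ
  have hcν : IsIrrCharacter G (conjFun ν) := IsIrrCharacter.conj hν
  have heq : μ + conjFun μ = ν + conjFun ν := by
    funext g
    have h := congrFun hneg g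
    simp only [e, conjFun, Pi.neg_apply, Pi.sub_apply, map_sub] at h
    simp only [Pi.add_apply, conjFun]
    linear_combination h
  have hkey : conjFun ν = μ := by
    by_contra hh
    have h := congrArg (fun f => classInner f μ) heq
    simp only [classInner_add_left] at h
    rw [IsIrrCharacter.classInner_self hμ, IsIrrCharacter.classInner_eq_zero hν hμ (Ne.symm hne'),
      IsIrrCharacter.classInner_eq_zero hcν hμ hh] at h
    by_cases hm : conjFun μ = μ
    · rw [hm, IsIrrCharacter.classInner_self hμ] at h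
      norm_num at h
    · rw [IsIrrCharacter.classInner_eq_zero hcμ hμ hm] at h
      norm_num at h
  rw [e, ← hkey]
  funext g
  simp [conjFun]

end Cfsg.Agent.S1518
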