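import Cfsg.Statements.S1520
import Cfsg.Agent.Lib.Char.CoherenceDescent
import Mathlib.GroupTheory.Nilpotent
-- import your own Cfsg.Agent.* helpers here

set_option autoImplicit false
set_option linter.style.haveILetI false
open Cfsg
open scoped commutatorElement

namespace Cfsg.Agent.S1520

/-- Let K be a solvable normal subgroup of the finite group L and (S, τ, R) a coherence system from L to G with S the functions induced from non-principal irreducible characters of K; S(A) the members of S induced from characters whose kernel contains A. Let M ≤ H₁ ≤ H ≤ K be normal subgroups of L such that every term of the lower central series of H eventually lies in M (H/M nilpotent), S(H₁) is coherent and [H:H₁] > 4 * [L:K]^2 + 1. Then S(M) is coherent. -/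
theorem result {L : Type*} [Group L] [Fintype L] {G : Type*} [Group G] [Fintype G] (K : Subgroup L) [hK : K.Normal] (hsolv : Group.IsSolvable K) (τ : (L → ℂ) → (G → ℂ)) (R : (L → ℂ) → Finset (G → ℂ)) (hS : Cfsg.IsCoherenceSystem (Cfsg.inducedIrrAbove K ⊥) τ R) (M H₁ H : Subgroup L) [M.Normal] [H₁.Normal] [H.Normal] (hMH₁ : M ≤ H₁) (hH₁H : H₁ ≤ H) (hHK : H ≤ K) [(M.subgroupOf H).Normal] (hnil : Group.IsNilpotent (↥H ⧸ M.subgroupOf H)) (hcoh : Cfsg.IsCoherent (Cfsg.inducedIrrAbove K H₁) {1}ᶜ τ) (hbig : 4 * K.index ^ 2 + 1 < H₁.relIndex H) : Cfsg.IsCoherent (Cfsg.inducedIrrAbove K M) {1}ᶜ τ := by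
  classical
  haveI := hsolv
  haveI := Fintype.ofFinite K
  -- a least member of the coherent range
  obtain ⟨A, ⟨hAn, hMA, hAH, hAc⟩, hAmin⟩ := (Set.toFinite
    {A : Subgroup L | A.Normal ∧ M ≤ A ∧ A ≤ H₁ ∧ Cfsg.IsCoherent (Cfsg.inducedIrrAbove K A) {1}ᶜ τ}).exists_minimal
    ⟨H₁, inferInstance, hMH₁, le_rfl, hcoh⟩
  haveI := hAn
  rcases eq_or_lt_of_le hMA with hMeq | hMlt
  · rwa [hMeq]
  exfalso
  obtain ⟨B, ⟨hBn, hMB, hBA⟩, hBmax⟩ := (Set.toFinite
    {B : Subgroup L | B.Normal ∧ M ≤ B ∧ B < A}).exists_maximal ⟨M, inferInstance, le_rfl, hMlt⟩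
  haveI := hBn
  have hAH' : A ≤ H := hAH.trans hH₁H
  have hcent : ⁅A, H⁆ ≤ B := by
    have hle : ⁅A, H⁆ ⊔ B ≤ A := sup_le (Subgroup.commutator_le_left A H) hBA.le
    rcases eq_or_lt_of_le hle with heq | hlt'
    · exfalso
      -- the nilpotent quotient absorbs the factor
      let q : H →* ↥H ⧸ M.subgroupOf H := QuotientGroup.mk' _
      haveI := hnil
      obtain ⟨c, hc⟩ := Subgroup.nilpotent_iff_lowerCentralSeries.mp hnil
      have hind : ∀ k, (A.subgroupOf H).map q ≤
          ((Subgroup.lowerCentralSeries (⊤ : Subgroup (↥H ⧸ M.subgroupOf H)) k)) ⊔ (B.subgroupOf H).map q := by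
        intro k
        induction k with
        | zero => exact le_sup_of_le_left (by simp)
        | succ k ih =>
          haveI : (A.subgroupOf H).Normal := Subgroup.normal_subgroupOf
          haveI : (B.subgroupOf H).Normal := Subgroup.normal_subgroupOf
          have e : (A.subgroupOf H).map q = ⁅(A.subgroupOf H).map q, (⊤ : Subgroup _)⁆ ⊔ (B.subgroupOf H).map q := by
            have h1 : A.subgroupOf H = ⁅A.subgroupOf H, (⊤ : Subgroup H)⁆ ⊔ B.subgroupOf H := by
              apply Subgroup.map_injective H.subtype_injective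
              rw [Subgroup.map_sup, Subgroup.map_commutator, Subgroup.map_subgroupOf_eq_of_le hAH',
                Subgroup.map_subgroupOf_eq_of_le (hBA.le.trans hAH'), ← MonoidHom.range_eq_map,
                Subgroup.range_subtype, heq]
            conv_lhs => rw [h1, Subgroup.map_sup, Subgroup.map_commutator,
              Subgroup.map_top_of_surjective _ (QuotientGroup.mk'_surjective _)]
          haveI : ((B.subgroupOf H).map q).Normal :=
            Subgroup.Normal.map inferInstance _ (QuotientGroup.mk'_surjective _)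
          rw [e]
          refine sup_le ?_ le_sup_right
          refine (Subgroup.commutator_mono ih le_rfl).trans ?_
          rw [Subgroup.commutator_le]
          intro x hx y hy
          obtain ⟨u, hu, v, hv, rfl⟩ := Subgroup.mem_sup_of_normal_right.mp hx
          have e2 : ⁅u * v, y⁆ = u * ⁅v, y⁆ * u⁻¹ * ⁅u, y⁆ := by simp [commutatorElement_def]; group
          rw [e2]
          refine Subgroup.mul_mem _ (Subgroup.mem_sup_right ?_) (Subgroup.mem_sup_left ?_)
          · have h3 : ⁅v, y⁆ ∈ (B.subgroupOf H).map q :=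
              Subgroup.commutator_le_left _ _ (Subgroup.commutator_mem_commutator hv (Subgroup.mem_top y))
            exact (inferInstance : ((B.subgroupOf H).map q).Normal).conj_mem _ h3 u
          · rw [Subgroup.lowerCentralSeries_succ]
            exact Subgroup.commutator_mem_commutator hu (Subgroup.mem_top y)
      have h1 := hind c
      rw [hc, bot_sup_eq] at h1
      refine not_le_of_gt hBA fun a ha => ?_
      obtain ⟨b, hb, he⟩ := h1 ⟨⟨a, hAH' ha⟩, Subgroup.mem_subgroupOf.mpr ha, rfl⟩
      have h2 := QuotientGroup.eq.mp he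
      have h3 := B.mul_mem (Subgroup.mem_subgroupOf.mp hb) (hMB (Subgroup.mem_subgroupOf.mp h2))
      simpa using h3
    · exact le_sup_left.trans (hBmax ⟨inferInstance, hMB.trans le_sup_right, hlt'⟩ le_sup_right)
  have hr : H₁.relIndex H ≤ A.relIndex H :=
    Subgroup.relIndex_le_of_le_left hAH Subgroup.index_ne_zero_of_finite
  have hmul : A.relIndex K = A.relIndex H * H.relIndex K :=
    (Subgroup.relIndex_mul_relIndex A H K hAH' hHK).symm
  have hAK : ¬ K ≤ A := fun h => by
    have h0 : A.relIndex H = 1 := Subgroup.relIndex_eq_one.mpr (hHK.trans h)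
    omega
  refine hBA.not_ge (hAmin ⟨hBn, hMB, hBA.le.trans hAH, ?_⟩ hBA.le)
  refine Cfsg.Agent.Char.coherence_descent K hS A B H A hAK (fun h => hAK (h.trans hBA.le)) hBA.le
    hAH' hHK (fun x hx y hy => hcent (Subgroup.commutator_mem_commutator hx hy)) hAc ?_
  rw [hmul, ← Subgroup.relIndex_mul_index hHK]
  have hk : 1 ≤ H.relIndex K := Nat.one_le_iff_ne_zero.mpr Subgroup.index_ne_zero_of_finite
  have hx : 4 * K.index ^ 2 + 2 ≤ A.relIndex H := by omega
  generalize hxg : A.relIndex H = x at hx ⊢
  generalize H.relIndex K = k at hk ⊢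
  obtain ⟨y, rfl⟩ : ∃ y, x = y + 1 := ⟨x - 1, by omega⟩
  have h1 : k * y ≤ (y + 1) * k - 1 := by
    have : (y + 1) * k = k * y + k := by ring
    omega
  refine lt_of_lt_of_le ?_ (Nat.pow_le_pow_left h1 2)
  calc 4 * (k * K.index) ^ 2 * (y + 1) = k ^ 2 * (4 * K.index ^ 2 * (y + 1)) := by ring
    _ < k ^ 2 * (y ^ 2) := by
      refine Nat.mul_lt_mul_of_pos_left ?_ (by positivity)
      have h2 : 4 * K.index ^ 2 + 1 ≤ y := by omega
      nlinarith
    _ = (k * y) ^ 2 := by ring

end Cfsg.Agent.S1520
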