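import Cfsg.Statements.S1524
import Cfsg.Agent.Lib.Char.Sibley
import Cfsg.Agent.Lib.Perm.Frobenius
import Cfsg.Agent.Lib.Struct.Frobenius

set_option autoImplicit false
open Cfsg

namespace Cfsg.Agent.S1524

/-- Let G be a finite group and H ≤ L subgroups with L of odd order, H ≠ ⊥ nilpotent and normal in L with a nontrivial complement W₁ in L (H ⊓ W₁ = ⊥, H ⊔ W₁ = L) acting on H without non-identity fixed points (L is a Frobenius group with kernel H), and suppose the underlying set of H is a TI-subset of G whose normaliser is L. Let S be the set of functions on L induced from the non-principal irreducible characters of H. Then (S, L minus 1, induction to G) is coherent. -/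
theorem result {G : Type*} [Group G] [Fintype G] (H L W₁ : Subgroup G) [Fintype L] (hodd : Odd (Nat.card L)) (hHL : H ≤ L) (hW₁L : W₁ ≤ L) (hH1 : H ≠ ⊥) (hW1 : W₁ ≠ ⊥) (hnil : Group.IsNilpotent H) (hHn : ∀ x ∈ L, ∀ h ∈ H, x * h * x⁻¹ ∈ H) (hinf : H ⊓ W₁ = ⊥) (hsup : H ⊔ W₁ = L) (hfpf : ∀ w ∈ W₁, w ≠ 1 → ∀ h ∈ H, w * h = h * w → h = 1) (hTI : Cfsg.IsTISubset (H : Set G)) (hN : Subgroup.normalizer (H : Set G) = L) : Cfsg.IsCoherent (Cfsg.inducedIrrAbove (H.subgroupOf L) ⊥) {1}ᶜ (fun α : L → ℂ => Cfsg.indFun L α) := by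
  classical
  let K : Subgroup L := H.subgroupOf L
  let W : Subgroup L := W₁.subgroupOf L
  haveI hKn : K.Normal := ⟨fun k hk x => Subgroup.mem_subgroupOf.mpr
    (hHn x x.2 k (Subgroup.mem_subgroupOf.mp hk))⟩
  haveI := Fintype.ofFinite K
  have hsup' : K ⊔ W = ⊤ := by
    rw [← Subgroup.subgroupOf_sup hHL hW₁L, hsup, Subgroup.subgroupOf_self]
  have hK1 : K ≠ ⊥ := fun h => hH1 (by
    rw [Subgroup.subgroupOf_eq_bot] at h
    exact (inf_eq_left.mpr hHL).symm.trans (disjoint_iff.mp h))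
  have hW : W ≠ ⊥ := fun h => hW1 (by
    rw [Subgroup.subgroupOf_eq_bot] at h
    exact (inf_eq_left.mpr hW₁L).symm.trans (disjoint_iff.mp h))
  have hfpf' : ∀ w ∈ W, ∀ n ∈ K, Commute w n → w = 1 ∨ n = 1 := fun w hw n hn hc => by
    by_cases hw1 : w = 1
    · exact Or.inl hw1
    exact Or.inr (Subtype.ext (hfpf w hw (fun h => hw1 (Subtype.ext h)) n hn (congrArg Subtype.val hc)))
  obtain ⟨-, hker⟩ := Cfsg.Agent.Perm.isFrobeniusComplement_of_fpf K W hsup' hK1 hW hfpf'
  have hC : ∀ k ∈ K, k ≠ 1 → Subgroup.centralizer ({k} : Set L) ≤ K := by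
    intro k hk hk1 x hx
    by_contra hxK
    obtain ⟨hx1, g, hg⟩ := Cfsg.Agent.Struct.Frobenius.notMem_kernel.mp
      (show x ∉ Cfsg.frobeniusKernel W by rw [hker]; exact hxK)
    have hc : Commute (g⁻¹ * x * g) (g⁻¹ * k * g) := by
      have h1 := Subgroup.mem_centralizer_singleton_iff.mp hx
      show g⁻¹ * x * g * (g⁻¹ * k * g) = g⁻¹ * k * g * (g⁻¹ * x * g)
      calc g⁻¹ * x * g * (g⁻¹ * k * g) = g⁻¹ * (x * k) * g := by group
        _ = g⁻¹ * (k * x) * g := by rw [h1]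
        _ = _ := by group
    rcases hfpf' _ hg (g⁻¹ * k * g) (by simpa using hKn.conj_mem k hk g⁻¹) hc with h | h
    · exact hx1 (by rw [show x = g * (g⁻¹ * x * g) * g⁻¹ by group, h]; group)
    · exact hk1 (by rw [show k = g * (g⁻¹ * k * g) * g⁻¹ by group, h]; group)
  refine Cfsg.Agent.Char.Sibley.sibley L K hC (fun g hg h hh h' hh' he => ?_) (fun h => hW ?_) hK1 hodd
  · exact Subtype.ext (hTI g (by rw [hN]; exact hg) h (Subgroup.mem_subgroupOf.mp hh)
      (by rw [he]; exact Subgroup.mem_subgroupOf.mp hh'))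
  · rw [eq_bot_iff]
    intro w hw
    exact Subgroup.mem_bot.mpr (Subtype.ext (Subgroup.mem_bot.mp (hinf.le
      ⟨Subgroup.mem_subgroupOf.mp (h.ge (Subgroup.mem_top w)), hw⟩)))

end Cfsg.Agent.S1524
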