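import Cfsg.Statements.S1525
import Cfsg.Agent.Lib.Char.Dade

set_option autoImplicit false
open Cfsg

namespace Cfsg.Agent.S1525

open Cfsg Cfsg.Agent.Char

/-- Under the Dade hypothesis for (A, L, H), let χ be a class function of G and let ψ be a function on L whose value at each a ∈ A is the average of χ over the coset a·H(a). Then (1/|G|) Σ |χ g|² over the elements g of G conjugate into some coset a·H(a) with a ∈ A is at least (1/|L|) Σ_{a ∈ A ∩ L} |ψ a|². -/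
theorem result {G : Type*} [Group G] [Fintype G] (A : Set G) (L : Subgroup G) [Fintype L] (H : G → Subgroup G) (hD : Cfsg.DadeHypothesis A L H) (χ : G → ℂ) (hχ : Cfsg.IsClassFunction G χ) (ψ : L → ℂ) (hψ : ∀ a : L, (a : G) ∈ A → ψ a = (Nat.card (H a) : ℂ)⁻¹ * ∑ᶠ u ∈ (H a : Set G), χ (a * u)) : (Nat.card L : ℝ)⁻¹ * ∑ᶠ a ∈ {a : L | (a : G) ∈ A}, ‖ψ a‖ ^ 2 ≤ (Nat.card G : ℝ)⁻¹ * ∑ᶠ g ∈ {g : G | ∃ a ∈ A, ∃ u ∈ H a, ∃ x : G, x * g * x⁻¹ = a * u}, ‖χ g‖ ^ 2 := by
  classical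
  let D : Set G := {g : G | ∃ a ∈ A, ∃ u ∈ H a, ∃ x : G, x * g * x⁻¹ = a * u}
  let f : G → ℝ := fun g => if InDade A H g then ‖χ g‖ ^ 2 else 0
  have hconj : ∀ g y : G, InDade A H (y * g * y⁻¹) ↔ InDade A H g := fun g y =>
    ⟨fun h => by simpa [mul_assoc] using inDade_conj y⁻¹ h, inDade_conj y⟩
  have hs := dade_sum hD (f := fun g => (f g : ℂ))
    (fun g y => by simp only [f, hconj g y, hχ g y]) (fun g hg => by simp [f, hg])
  have hs' : (Nat.card L : ℝ) * ∑ g : G, f g = (Nat.card G : ℝ) *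
      ∑ a : L, if (a : G) ∈ A then
        (Nat.card (H (a : G)) : ℝ)⁻¹ * ∑ u : H (a : G), f ((a : G) * u) else 0 := by
    apply Complex.ofReal_injective
    push_cast
    rw [hs]
    congr 1
    refine Finset.sum_congr rfl fun a _ => ?_
    split_ifs <;> push_cast <;> rfl
  have hR : ∑ᶠ g ∈ D, ‖χ g‖ ^ 2 = ∑ g : G, f g := by
    rw [finsum_mem_eq_finite_toFinset_sum _ (Set.toFinite D)]
    simp only [f]
    rw [← Finset.sum_filter]
    refine Finset.sum_congr ?_ fun _ _ => rfl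
    ext g
    rw [Finset.mem_filter, Set.Finite.mem_toFinset]
    exact ⟨fun h => ⟨Finset.mem_univ g, h⟩, fun h => h.2⟩
  have hLs : ∑ᶠ a ∈ {a : L | (a : G) ∈ A}, ‖ψ a‖ ^ 2 =
      ∑ a : L, if (a : G) ∈ A then ‖ψ a‖ ^ 2 else 0 := by
    rw [finsum_mem_eq_finite_toFinset_sum _ (Set.toFinite _), ← Finset.sum_filter]
    refine Finset.sum_congr ?_ fun _ _ => rfl
    ext a
    simp
  rw [hR, hLs]
  have hle : (∑ a : L, if (a : G) ∈ A then ‖ψ a‖ ^ 2 else 0) ≤
      ∑ a : L, if (a : G) ∈ A then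
        (Nat.card (H (a : G)) : ℝ)⁻¹ * ∑ u : H (a : G), f ((a : G) * u) else 0 := by
    refine Finset.sum_le_sum fun a _ => ?_
    split_ifs with ha
    swap
    · exact le_rfl
    have hf : ∀ u : H (a : G), f ((a : G) * u) = ‖χ ((a : G) * u)‖ ^ 2 := fun u => by
      simp only [f]
      rw [if_pos ⟨a, ha, u, u.2, 1, by simp⟩]
    have hn : (0 : ℝ) < Nat.card (H (a : G)) := by exact_mod_cast Nat.card_pos
    rw [Finset.sum_congr rfl fun u _ => hf u, hψ a ha,
      finsum_mem_eq_finite_toFinset_sum _ (Set.toFinite (H (a : G) : Set G)),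
      Finset.sum_subtype _ (fun x => by simp) (p := fun x : G => x ∈ H (a : G)),
      norm_mul, norm_inv, Complex.norm_natCast]
    have h1 : ‖∑ u : H (a : G), χ ((a : G) * u)‖ ≤ ∑ u : H (a : G), ‖χ ((a : G) * u)‖ :=
      norm_sum_le _ _
    have h2 := sq_sum_le_card_mul_sum_sq (s := (Finset.univ : Finset (H (a : G))))
      (f := fun u => ‖χ ((a : G) * u)‖)
    have h3 := pow_le_pow_left₀ (norm_nonneg _) h1 2
    rw [Finset.card_univ, ← Nat.card_eq_fintype_card] at h2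
    rw [mul_pow, inv_pow, inv_mul_le_iff₀ (by positivity)]
    calc ‖∑ u : H (a : G), χ ((a : G) * u)‖ ^ 2
        ≤ (Nat.card (H (a : G)) : ℝ) * ∑ u : H (a : G), ‖χ ((a : G) * u)‖ ^ 2 := h3.trans h2
      _ = _ := by field_simp
  have hG : (0 : ℝ) < Nat.card G := by exact_mod_cast Nat.card_pos
  have hL : (0 : ℝ) < Nat.card L := by exact_mod_cast Nat.card_pos
  rw [inv_mul_le_iff₀ hL, ← mul_assoc, mul_comm (Nat.card L : ℝ), mul_assoc, hs', ← mul_assoc,
    inv_mul_cancel₀ hG.ne', one_mul]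
  exact hle

end Cfsg.Agent.S1525
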