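import Cfsg.Statements.S1528
import Cfsg.Agent.Lib.Char.Signed
import Cfsg.Agent.Lib.Char.Taketa

set_option autoImplicit false
open Cfsg

namespace Cfsg.Agent.S1528

open Cfsg Cfsg.Agent.Char

/-- Let N be a normal subgroup of the finite group G such that every element of G commuting with a non-identity element of N lies in N. If χ is an irreducible character of G with χ n ≠ χ 1 for some n ∈ N, then χ is the function induced from some irreducible character of N. -/
theorem result {G : Type*} [Group G] [Fintype G] (N : Subgroup G) [N.Normal] (hC : ∀ n ∈ N, n ≠ 1 → Subgroup.centralizer ({n} : Set G) ≤ N) (χ : G → ℂ) (hχ : Cfsg.IsIrrCharacter G χ) (hker : ∃ n ∈ N, χ n ≠ χ 1) : ∃ φ : N → ℂ, Cfsg.IsIrrCharacter N φ ∧ χ = Cfsg.indFun N φ := by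
  classical
  haveI := Fintype.ofFinite N
  have hχc := IsIrrCharacter.isCharacter hχ
  have hres : IsCharacter N (fun n : N => χ n) := IsCharacter.restrict hχc N
  obtain ⟨φ, hφ, hcon, hφ1⟩ : ∃ φ : N → ℂ, IsIrrCharacter N φ ∧
      classInner (fun n : N => χ n) φ ≠ 0 ∧ φ ≠ fun _ => 1 := by
    by_contra hh
    push Not at hh
    obtain ⟨n, hn, hne⟩ := hker
    refine hne ?_
    exact apply_eq_of_constituents hres ⟨n, hn⟩ fun φ hφ hc => by rw [hh φ hφ hc]
  have hin : ∀ g : G, conjChar N g φ = φ → g ∈ N := by
    intro g hg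
    by_contra hgN
    have hc := card_fixed_irr_aut (MulAut.conjNormal g : MulAut N)
    have hσ : Subsingleton {C : ConjClasses N //
        ConjClasses.map (MulEquiv.toMonoidHom (MulAut.conjNormal g : MulAut N)) C = C} := by
      refine ⟨fun a b => ?_⟩
      have key : ∀ C : ConjClasses N,
          ConjClasses.map (MulEquiv.toMonoidHom (MulAut.conjNormal g : MulAut N)) C = C →
          C = ConjClasses.mk 1 := by
        intro C hC'
        obtain ⟨x, rfl⟩ := ConjClasses.exists_rep C
        obtain ⟨y, hy⟩ := isConj_iff.mp (ConjClasses.mk_eq_mk_iff_isConj.mp hC')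
        have hy' : (y : G) * (g * x * g⁻¹) * (y : G)⁻¹ = x := congrArg Subtype.val hy
        have hgy : (y : G) * g * x = x * ((y : G) * g) := by
          conv_rhs => rw [← hy']
          group
        by_contra hne
        have hx1 : (x : G) ≠ 1 := fun h => hne (by rw [show x = 1 from Subtype.ext h])
        refine hgN ((Subgroup.mul_mem_cancel_left N y.2).mp (hC x x.2 hx1 ?_))
        rw [Subgroup.mem_centralizer_singleton_iff]
        first
          | exact hgy
          | exact hgy.symm
      exact Subtype.ext ((key a a.2).trans (key b b.2).symm)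
    have hs : Subsingleton {χ : IrrCharacter N //
        (χ : N → ℂ) ∘ (MulAut.conjNormal g : MulAut N) = χ} := by
      rw [← Finite.card_le_one_iff_subsingleton, hc, Finite.card_le_one_iff_subsingleton]
      exact hσ
    have h1 : φ ∘ (MulAut.conjNormal g : MulAut N) = φ := by
      conv_rhs => rw [← hg]
      funext n
      exact (conjChar_apply N g φ n).symm
    exact hφ1 (congrArg Subtype.val (congrArg Subtype.val
      (hs.elim ⟨⟨φ, hφ⟩, h1⟩ ⟨⟨1, isIrrCharacter_one⟩, rfl⟩)))
  have hirr : IsIrrCharacter G (indFun N φ) := by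
    refine isIrrCharacter_iff.mpr ⟨isCharacter_indFun N (IsIrrCharacter.isCharacter hφ), ?_⟩
    rw [classInner_indFun_indFun N hφ hφ]
    have e : (Finset.univ.filter fun g : G => conjChar N g φ = φ) =
        Finset.univ.filter fun g : G => g ∈ N := Finset.filter_congr fun g _ =>
      ⟨hin g, conjChar_of_mem N (IsCharacter.isClassFunction (IsIrrCharacter.isCharacter hφ))⟩
    rw [e, ← Fintype.card_subtype, ← Nat.card_eq_fintype_card, div_self]
    exact Nat.cast_ne_zero.mpr Nat.card_pos.ne'
  refine ⟨φ, hφ, ?_⟩
  by_contra hne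
  have h0 := IsIrrCharacter.classInner_eq_zero hχ hirr hne
  rw [← classInner_conj_symm, classInner_indFun N φ (IsCharacter.isClassFunction hχc),
    classInner_conj_symm] at h0
  exact hcon h0

end Cfsg.Agent.S1528
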