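import Cfsg.Statements.S1529
import Cfsg.Agent.Lib.Char.Signed

set_option autoImplicit false
open Cfsg

namespace Cfsg.Agent.S1529

open Cfsg Cfsg.Agent.Char

/-- Let N be a subgroup of the finite group G, S a set of irreducible characters of N with at least two members, and τ₁ a linear isometry on the integer combinations of S with virtual-character values such that τ₁ α vanishes at 1 whenever α ∈ ℤ[S] does. Then there is ε ∈ {1, −1} such that ε • τ₁ χ is an irreducible character of G for every χ ∈ S, and distinct members of S give distinct characters. -/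
theorem result {G : Type*} [Group G] [Fintype G] (N : Subgroup G) [Fintype N] (S : Set (N → ℂ)) (hirr : ∀ χ ∈ S, Cfsg.IsIrrCharacter N χ) (htwo : ∃ χ ∈ S, ∃ ψ ∈ S, χ ≠ ψ) (τ₁ : (N → ℂ) → (G → ℂ)) (hτ₁ : Cfsg.IsLinearIsometryOn (Cfsg.zspan S) τ₁) (h0 : ∀ α ∈ Cfsg.zspan S, α 1 = 0 → τ₁ α 1 = 0) : ∃ ε : ℂ, (ε = 1 ∨ ε = -1) ∧ (∀ χ ∈ S, Cfsg.IsIrrCharacter G (ε • τ₁ χ)) ∧ (∀ χ ∈ S, ∀ ψ ∈ S, τ₁ χ = τ₁ ψ → χ = ψ) := by
  classical
  have hin : ∀ χ ∈ S, χ ∈ zspan S := fun χ h => Submodule.subset_span h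
  obtain ⟨hadd, hsmul, hiso, hgen⟩ := hτ₁
  have hsigned : ∀ χ ∈ S, IsIrrCharacter G (τ₁ χ) ∨ IsIrrCharacter G (-τ₁ χ) := fun χ h =>
    IsGeneralizedCharacter.irr_or_neg (hgen χ (hin χ h))
      (by rw [hiso χ (hin χ h) χ (hin χ h), IsIrrCharacter.classInner_self (hirr χ h)])
  have hinj : ∀ χ ∈ S, ∀ ψ ∈ S, τ₁ χ = τ₁ ψ → χ = ψ := by
    intro χ hχ ψ hψ e
    by_contra hne
    have h := hiso χ (hin χ hχ) ψ (hin ψ hψ)
    rw [IsIrrCharacter.classInner_eq_zero (hirr χ hχ) (hirr ψ hψ) hne, e,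
      classInner_self_signed (hsigned ψ hψ)] at h
    exact one_ne_zero h
  obtain ⟨χ₀, hχ₀, -⟩ := htwo
  obtain ⟨d₀, hd₀, hd₀'⟩ : ∃ d : ℕ, 0 < d ∧ χ₀ 1 = d := by
    obtain ⟨d, hd⟩ := IsCharacter.exists_degree (IsIrrCharacter.isCharacter (hirr χ₀ hχ₀))
    refine ⟨d, Nat.pos_of_ne_zero fun h => ?_, hd⟩
    exact IsIrrCharacter.apply_one_ne_zero (hirr χ₀ hχ₀) (by rw [hd, h, Nat.cast_zero])
  obtain ⟨ε, hε, hε₀⟩ : ∃ ε : ℂ, (ε = 1 ∨ ε = -1) ∧ IsIrrCharacter G (ε • τ₁ χ₀) := by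
    rcases hsigned χ₀ hχ₀ with h | h
    · exact ⟨1, Or.inl rfl, by rwa [one_smul]⟩
    · exact ⟨-1, Or.inr rfl, by rwa [neg_one_smul]⟩
  refine ⟨ε, hε, fun χ hχ => ?_, hinj⟩
  have hcases : IsIrrCharacter G (ε • τ₁ χ) ∨ IsIrrCharacter G (-(ε • τ₁ χ)) := by
    rcases hε with rfl | rfl
    · simpa using hsigned χ hχ
    · simpa [or_comm] using hsigned χ hχ
  refine hcases.resolve_right fun hneg => ?_
  obtain ⟨d, hd⟩ := IsCharacter.exists_degree (IsIrrCharacter.isCharacter (hirr χ hχ))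
  have hmemα : (d₀ : ℤ) • χ + (-(d : ℤ)) • χ₀ ∈ zspan S :=
    Submodule.add_mem _ (Submodule.smul_mem _ _ (hin χ hχ)) (Submodule.smul_mem _ _ (hin χ₀ hχ₀))
  have h1 := h0 _ hmemα (by
    simp only [Pi.add_apply, Pi.smul_apply, Pi.mul_apply, Pi.natCast_apply, Pi.neg_apply, hd, hd₀', zsmul_eq_mul, Int.cast_natCast, Int.cast_neg]
    ring)
  rw [hadd _ (Submodule.smul_mem _ _ (hin χ hχ)) _ (Submodule.smul_mem _ _ (hin χ₀ hχ₀)),
    hsmul _ (hin χ hχ), hsmul _ (hin χ₀ hχ₀)] at h1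
  simp only [Pi.add_apply, Pi.smul_apply, Pi.mul_apply, Pi.natCast_apply, Pi.neg_apply, zsmul_eq_mul, Int.cast_natCast, Int.cast_neg] at h1
  obtain ⟨a, ha⟩ := IsCharacter.exists_degree (IsIrrCharacter.isCharacter hε₀)
  obtain ⟨b, hb⟩ := IsCharacter.exists_degree (IsIrrCharacter.isCharacter hneg)
  have hb0 : b ≠ 0 := fun h => IsIrrCharacter.apply_one_ne_zero hneg (by rw [hb, h, Nat.cast_zero])
  simp only [Pi.smul_apply, Pi.neg_apply, smul_eq_mul] at ha hb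
  have e : ((d₀ * b + d * a : ℕ) : ℂ) = 0 := by
    push_cast
    rw [← ha, ← hb]
    linear_combination -ε * h1
  have e' : d₀ * b + d * a = 0 := by exact_mod_cast e
  have : d₀ * b = 0 := by omega
  simp [hd₀.ne', hb0] at this

end Cfsg.Agent.S1529
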