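import Cfsg.Statements.S1530
import Cfsg.Agent.Lib.Char.Coherence

set_option autoImplicit false
open Cfsg

namespace Cfsg.Agent.S1530

open Cfsg Cfsg.Agent.Char
open scoped ComplexConjugate

/-- Let N be a subgroup of the finite group G and S₀ a finite set of irreducible characters of N, χ an irreducible character of N not in S₀, with degrees ξ 1 = d ξ. Let τ be a linear isometry on the integer combinations of S₀ ∪ {χ} vanishing at 1, with values virtual characters of G vanishing at 1, such that (S₀, N minus 1, τ) is coherent. If some ψ ∈ S₀ has d ψ dividing d χ and 2 · d ψ · d χ < Σ_{ξ ∈ S₀} (d ξ)², then (S₀ ∪ {χ}, N minus 1, τ) is coherent. -/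
theorem result {G : Type*} [Group G] [Fintype G] (N : Subgroup G) [Fintype N] (S₀ : Finset (N → ℂ)) (χ : N → ℂ) (hirr : ∀ ξ ∈ S₀, Cfsg.IsIrrCharacter N ξ) (hχ : Cfsg.IsIrrCharacter N χ) (hχS : χ ∉ S₀) (d : (N → ℂ) → ℕ) (hd : ∀ ξ ∈ insert χ S₀, ξ 1 = (d ξ : ℂ)) (τ : (N → ℂ) → (G → ℂ)) (hτ : Cfsg.IsLinearIsometryOn (Cfsg.zspanOn (↑(insert χ S₀) : Set (N → ℂ)) {1}ᶜ) τ) (hτ1 : ∀ α ∈ Cfsg.zspanOn (↑(insert χ S₀) : Set (N → ℂ)) {1}ᶜ, τ α 1 = 0) (hcoh : Cfsg.IsCoherent (↑S₀ : Set (N → ℂ)) {1}ᶜ τ) (ψ : N → ℂ) (hψ : ψ ∈ S₀) (hdvd : d ψ ∣ d χ) (hlt : 2 * d ψ * d χ < ∑ ξ ∈ S₀, d ξ ^ 2) : Cfsg.IsCoherent (↑(insert χ S₀) : Set (N → ℂ)) {1}ᶜ τ := by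
  classical
  obtain ⟨⟨α₀, hα₀, hα₀ne⟩, τ₁, hτ₁, hag⟩ := hcoh
  have hmono : (↑S₀ : Set (N → ℂ)) ⊆ ↑(insert χ S₀) := by
    rw [Finset.coe_insert]; exact Set.subset_insert _ _
  have hψ1 := hd ψ (Finset.mem_insert_of_mem hψ)
  have hχ1 := hd χ (Finset.mem_insert_self _ _)
  have hdψ : d ψ ≠ 0 := fun h => IsIrrCharacter.apply_one_ne_zero (hirr ψ hψ) (by rw [hψ1, h]; simp)
  have hdχ : d χ ≠ 0 := fun h => IsIrrCharacter.apply_one_ne_zero hχ (by rw [hχ1, h]; simp)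
  obtain ⟨a, ha⟩ := hdvd
  have ha0 : a ≠ 0 := fun h => hdχ (by rw [ha, h, Nat.mul_zero])
  have hδ : ∀ ξ ∈ S₀, ∀ η ∈ S₀, classInner ξ η = if ξ = η then 1 else 0 := by
    intro ξ hξ η hη
    split_ifs with h
    · rw [h]; exact IsIrrCharacter.classInner_self (hirr η hη)
    · exact IsIrrCharacter.classInner_eq_zero (hirr ξ hξ) (hirr η hη) h
  have hχξ : ∀ ξ ∈ S₀, classInner χ ξ = 0 := fun ξ hξ =>
    IsIrrCharacter.classInner_eq_zero hχ (hirr ξ hξ) (fun h => hχS (h ▸ hξ))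
  -- the element `χ - a ψ`
  set β : N → ℂ := χ - (a : ℤ) • ψ with hβdef
  have hχI : χ ∈ (↑(insert χ S₀) : Set (N → ℂ)) := Finset.mem_insert_self χ S₀
  have hβ : β ∈ zspanOn (↑(insert χ S₀) : Set (N → ℂ)) {1}ᶜ := mem_zspanOn_compl_one.mpr
    ⟨Submodule.sub_mem _ (Submodule.subset_span hχI)
      (Submodule.smul_mem _ _ (Submodule.subset_span (hmono hψ))), by
      rw [hβdef, Pi.sub_apply, Pi.smul_apply, hχ1, hψ1, ha, zsmul_eq_mul]
      push_cast; ring⟩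
  have hβ' : β = χ - (a : ℂ) • ψ := by
    rw [hβdef, ← Int.cast_smul_eq_zsmul ℂ, Int.cast_natCast]
  have hγ : ∀ ξ ∈ S₀, (d ψ : ℤ) • ξ - (d ξ : ℤ) • ψ ∈ zspanOn (↑S₀ : Set (N → ℂ)) {1}ᶜ := by
    intro ξ hξ
    refine mem_zspanOn_compl_one.mpr ⟨Submodule.sub_mem _ (Submodule.smul_mem _ _
      (Submodule.subset_span hξ)) (Submodule.smul_mem _ _ (Submodule.subset_span hψ)), ?_⟩
    rw [Pi.sub_apply, Pi.smul_apply, Pi.smul_apply, hψ1, hd ξ (Finset.mem_insert_of_mem hξ),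
      zsmul_eq_mul, zsmul_eq_mul]
    push_cast; ring
  have hγ' : ∀ ξ ∈ S₀, (d ψ : ℤ) • ξ - (d ξ : ℤ) • ψ ∈
      zspanOn (↑(insert χ S₀) : Set (N → ℂ)) {1}ᶜ := fun ξ hξ =>
    mem_zspanOn_compl_one.mpr ⟨zspan_mono hmono (hγ ξ hξ).1, (mem_zspanOn_compl_one.mp (hγ ξ hξ)).2⟩
  have hτγ : ∀ ξ ∈ S₀, τ ((d ψ : ℤ) • ξ - (d ξ : ℤ) • ψ) =
      (d ψ : ℂ) • τ₁ ξ - (d ξ : ℂ) • τ₁ ψ := by
    intro ξ hξ
    rw [← hag _ (hγ ξ hξ), IsLinearIsometryOn.map_sub (P := Submodule.span ℤ (↑S₀ : Set (N → ℂ))) hτ₁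
      (Submodule.smul_mem _ _ (Submodule.subset_span hξ))
      (Submodule.smul_mem _ _ (Submodule.subset_span hψ)),
      hτ₁.2.1 ξ (Submodule.subset_span hξ), hτ₁.2.1 ψ (Submodule.subset_span hψ),
      ← Int.cast_smul_eq_zsmul ℂ, ← Int.cast_smul_eq_zsmul ℂ, Int.cast_natCast, Int.cast_natCast]
  set f := τ β with hf
  have hfgen := hτ.2.2.2 _ hβ
  have hTδ : ∀ ξ ∈ S₀, ∀ η ∈ S₀, classInner (τ₁ ξ) (τ₁ η) = if ξ = η then 1 else 0 := fun ξ hξ η hη => by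
    rw [hτ₁.2.2.1 ξ (Submodule.subset_span hξ) η (Submodule.subset_span hη), hδ ξ hξ η hη]
  have hc : ∀ ξ ∈ S₀, ∃ z : ℤ, classInner f (τ₁ ξ) = z := fun ξ hξ =>
    classInner_int_of_isGeneralized hfgen (hτ₁.2.2.2 ξ (Submodule.subset_span hξ))
  choose! c hc using hc
  set t : ℤ := c ψ + a with ht
  have hct : ∀ ξ ∈ S₀, (d ψ : ℤ) * c ξ = d ξ * t - (d ψ : ℤ) * a * (if ξ = ψ then 1 else 0) := by
    intro ξ hξ
    have h := hτ.2.2.1 _ hβ _ (hγ' ξ hξ)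
    rw [hτγ ξ hξ, ← hf, classInner_sub_right, classInner_smul_right, classInner_smul_right,
      hc ξ hξ, hc ψ hψ, hβ', classInner_sub_left, classInner_smul_left, classInner_sub_right,
      classInner_sub_right] at h
    simp only [← Int.cast_smul_eq_zsmul ℂ, classInner_smul_right, hχξ ξ hξ, hχξ ψ hψ,
      hδ ψ hψ ξ hξ, hδ ψ hψ ψ hψ, if_true, Complex.conj_natCast, map_intCast, Int.cast_natCast] at h
    have h2 : (((d ψ : ℤ) * c ξ : ℤ) : ℂ) =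
        ((d ξ * t - (d ψ : ℤ) * a * (if ξ = ψ then 1 else 0) : ℤ) : ℂ) := by
      rw [ht]
      push_cast
      by_cases hh : ξ = ψ
      · subst hh
        simp only [if_true] at h ⊢
        linear_combination h
      · rw [if_neg (Ne.symm hh)] at h
        rw [if_neg hh]
        linear_combination h
    exact_mod_cast h2
  -- the norm of `f` and the residual
  have hff : classInner f f = 1 + (a : ℂ) ^ 2 := by
    rw [hf, hτ.2.2.1 _ hβ _ hβ, hβ', classInner_sub_left, classInner_sub_right, classInner_sub_right,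
      classInner_smul_left, classInner_smul_left, classInner_smul_right, classInner_smul_right,
      IsIrrCharacter.classInner_self hχ, hχξ ψ hψ, hδ ψ hψ ψ hψ, if_pos rfl,
      IsIrrCharacter.classInner_eq_zero (hirr ψ hψ) hχ (fun h => hχS (h ▸ hψ)), Complex.conj_natCast]
    ring
  set r := f - ∑ ξ ∈ S₀, (c ξ : ℂ) • τ₁ ξ with hr
  have hrr : classInner r r = ((1 + (a : ℤ) ^ 2 - ∑ ξ ∈ S₀, c ξ ^ 2 : ℤ) : ℂ) := by
    have h1 : classInner f (∑ ξ ∈ S₀, (c ξ : ℂ) • τ₁ ξ) = ∑ ξ ∈ S₀, (c ξ : ℂ) ^ 2 := by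
      rw [classInner_sum_right]
      exact Finset.sum_congr rfl fun ξ hξ => by
        rw [classInner_smul_right, hc ξ hξ, map_intCast]; ring
    have h2 : classInner (∑ ξ ∈ S₀, (c ξ : ℂ) • τ₁ ξ) f = ∑ ξ ∈ S₀, (c ξ : ℂ) ^ 2 := by
      rw [← classInner_conj_symm, h1]; simp [map_sum]
    have h3 : classInner (∑ ξ ∈ S₀, (c ξ : ℂ) • τ₁ ξ) (∑ ξ ∈ S₀, (c ξ : ℂ) • τ₁ ξ) =
        ∑ ξ ∈ S₀, (c ξ : ℂ) ^ 2 := by
      rw [classInner_sum_left]
      refine Finset.sum_congr rfl fun ξ hξ => ?_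
      rw [classInner_smul_left, classInner_sum_right, Finset.sum_eq_single_of_mem ξ hξ
        (fun η hη hne => by rw [classInner_smul_right, hTδ ξ hξ η hη, if_neg (Ne.symm hne), mul_zero]),
        classInner_smul_right, hTδ ξ hξ ξ hξ, if_pos rfl, map_intCast]
      ring
    rw [hr, classInner_sub_left, classInner_sub_right, classInner_sub_right, hff, h1, h2, h3]
    push_cast; ring
  have hle : ∑ ξ ∈ S₀, c ξ ^ 2 ≤ 1 + (a : ℤ) ^ 2 := by
    have h := classInner_self_re_nonneg r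
    rw [hrr, Complex.intCast_re] at h
    have h' : (0 : ℤ) ≤ 1 + (a : ℤ) ^ 2 - ∑ ξ ∈ S₀, c ξ ^ 2 := by exact_mod_cast h
    omega
  set D : ℤ := ∑ ξ ∈ S₀, (d ξ : ℤ) ^ 2 with hD
  have hsum : (d ψ : ℤ) ^ 2 * ∑ ξ ∈ S₀, c ξ ^ 2 =
      t ^ 2 * D - 2 * a * t * (d ψ : ℤ) ^ 2 + (a : ℤ) ^ 2 * (d ψ : ℤ) ^ 2 := by
    have e : ∀ ξ ∈ S₀, (d ψ : ℤ) ^ 2 * c ξ ^ 2 = t ^ 2 * (d ξ : ℤ) ^ 2 +
        (if ξ = ψ then (-2 * a * t * (d ψ : ℤ) ^ 2 + (a : ℤ) ^ 2 * (d ψ : ℤ) ^ 2) else 0) := by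
      intro ξ hξ
      rw [← mul_pow, hct ξ hξ]
      by_cases h : ξ = ψ
      · rw [if_pos h, if_pos h, h]; ring
      · rw [if_neg h, if_neg h]; ring
    rw [Finset.mul_sum, Finset.sum_congr rfl e, Finset.sum_add_distrib, ← Finset.mul_sum,
      Finset.sum_ite_eq' S₀ ψ, if_pos hψ, ← hD]
    ring
  have hD' : 2 * (a : ℤ) * (d ψ : ℤ) ^ 2 + 1 ≤ D := by
    have h : 2 * d ψ * d χ + 1 ≤ ∑ ξ ∈ S₀, d ξ ^ 2 := hlt
    rw [ha] at h
    have h' : (2 * (d ψ : ℤ) * ((d ψ : ℤ) * a) + 1) ≤ D := by rw [hD]; exact_mod_cast h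
    nlinarith
  have hdpos : (1 : ℤ) ≤ (d ψ : ℤ) ^ 2 := one_le_pow₀ (by omega)
  have hapos : (1 : ℤ) ≤ a := by omega
  have hQ : t ^ 2 * D - 2 * a * t * (d ψ : ℤ) ^ 2 ≤ (d ψ : ℤ) ^ 2 := by
    have h := mul_le_mul_of_nonneg_left hle (sq_nonneg (d ψ : ℤ))
    rw [hsum] at h
    nlinarith
  have ht01 : t = 0 ∨ t = 1 := by
    by_contra h
    push Not at h
    have h2 : 2 ≤ t * (t - 1) := by
      rcases (by omega : t ≤ -1 ∨ 2 ≤ t) with h1 | h1 <;> nlinarith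
    nlinarith [mul_le_mul_of_nonneg_left hD' (sq_nonneg t),
      mul_le_mul_of_nonneg_left h2 (show (0 : ℤ) ≤ 2 * a * (d ψ : ℤ) ^ 2 by positivity)]
  have ht0 : t = 0 := by
    rcases ht01 with h | h
    · exact h
    exfalso
    -- all of `f` lies in the span of the images
    have hdvdc : ∀ ξ ∈ S₀, (d ξ : ℤ) = (d ψ : ℤ) * (c ξ + if ξ = ψ then (a : ℤ) else 0) := by
      intro ξ hξ
      have h1 := hct ξ hξ
      rw [h] at h1
      by_cases hh : ξ = ψ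
      · rw [if_pos hh] at h1 ⊢; linear_combination -h1
      · rw [if_neg hh] at h1 ⊢; linear_combination -h1
    set K : ℤ := ∑ ξ ∈ S₀, (c ξ + if ξ = ψ then (a : ℤ) else 0) ^ 2
    have hDK : D = (d ψ : ℤ) ^ 2 * K := by
      rw [hD, Finset.mul_sum]
      exact Finset.sum_congr rfl fun ξ hξ => by rw [← mul_pow, ← hdvdc ξ hξ]
    have hK : 2 * (a : ℤ) + 1 ≤ K := by
      by_contra hh
      have : K ≤ 2 * (a : ℤ) := by omega
      nlinarith [mul_le_mul_of_nonneg_left this (sq_nonneg (d ψ : ℤ))]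
    have hcs : ∑ ξ ∈ S₀, c ξ ^ 2 = 1 + (a : ℤ) ^ 2 := by
      refine le_antisymm hle ?_
      rw [h, hDK] at hsum
      have e : ∑ ξ ∈ S₀, c ξ ^ 2 = K - 2 * a + (a : ℤ) ^ 2 := by
        apply mul_left_cancel₀ (show ((d ψ : ℤ) ^ 2) ≠ 0 by positivity)
        linear_combination hsum
      omega
    have hr0 : r = 0 := classInner_self_eq_zero (by rw [hrr, hcs]; simp)
    have h1 : f 1 = 0 := hτ1 _ hβ
    have hu : ∀ ξ ∈ S₀, (d ψ : ℂ) * τ₁ ξ 1 = (d ξ : ℂ) * τ₁ ψ 1 := by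
      intro ξ hξ
      have h2 := hτ1 _ (hγ' ξ hξ)
      rw [hτγ ξ hξ] at h2
      simp only [Pi.sub_apply, Pi.smul_apply, smul_eq_mul] at h2
      linear_combination h2
    rw [hr, sub_eq_zero] at hr0
    rw [congrFun hr0 1] at h1
    simp only [Finset.sum_apply, Pi.smul_apply, smul_eq_mul] at h1
    have h3 : ((D - a * (d ψ : ℤ) ^ 2 : ℤ) : ℂ) * τ₁ ψ 1 = 0 := by
      have h4 : ∑ ξ ∈ S₀, ((d ψ : ℤ) * c ξ * d ξ : ℤ) = D - a * (d ψ : ℤ) ^ 2 := by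
        have : ∀ ξ ∈ S₀, (d ψ : ℤ) * c ξ * d ξ =
            (d ξ : ℤ) ^ 2 - (if ξ = ψ then (a : ℤ) * (d ψ : ℤ) ^ 2 else 0) := by
          intro ξ hξ
          rw [hct ξ hξ, h]
          by_cases hh : ξ = ψ
          · rw [if_pos hh, if_pos hh, hh]; ring
          · rw [if_neg hh, if_neg hh]; ring
        rw [Finset.sum_congr rfl this, Finset.sum_sub_distrib, Finset.sum_ite_eq' S₀ ψ, if_pos hψ,
          ← hD]
      rw [← h4, Int.cast_sum, Finset.sum_mul]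
      calc ∑ ξ ∈ S₀, (((d ψ : ℤ) * c ξ * d ξ : ℤ) : ℂ) * τ₁ ψ 1
          = ∑ ξ ∈ S₀, (d ψ : ℂ) ^ 2 * ((c ξ : ℂ) * τ₁ ξ 1) := by
            refine Finset.sum_congr rfl fun ξ hξ => ?_
            push_cast
            linear_combination (-((d ψ : ℂ) * c ξ)) * hu ξ hξ
        _ = 0 := by rw [← Finset.mul_sum, h1, mul_zero]
    have hψne : τ₁ ψ 1 ≠ 0 := by
      rcases IsGeneralizedCharacter.irr_or_neg (hτ₁.2.2.2 ψ (Submodule.subset_span hψ))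
        (by rw [hTδ ψ hψ ψ hψ, if_pos rfl]) with hh | hh
      · exact IsIrrCharacter.apply_one_ne_zero hh
      · simpa using IsIrrCharacter.apply_one_ne_zero hh
    have h5 : D - a * (d ψ : ℤ) ^ 2 = 0 := by
      exact_mod_cast (mul_eq_zero.mp h3).resolve_right hψne
    nlinarith
  have hcv : ∀ ξ ∈ S₀, c ξ = -(a : ℤ) * (if ξ = ψ then 1 else 0) := by
    intro ξ hξ
    apply mul_left_cancel₀ (show (d ψ : ℤ) ≠ 0 by exact_mod_cast hdψ)
    rw [hct ξ hξ, ht0]; ring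
  -- the extension
  set T : (N → ℂ) → (G → ℂ) := fun ξ => if ξ = χ then f + (a : ℂ) • τ₁ ψ else τ₁ ξ with hT
  have hTχ : T χ = f + (a : ℂ) • τ₁ ψ := by rw [hT]; simp
  have hTS : ∀ ξ ∈ S₀, T ξ = τ₁ ξ := fun ξ hξ => by
    rw [hT]; simp [show ξ ≠ χ from fun h => hχS (h ▸ hξ)]
  have hirrI : ∀ ξ ∈ (↑(insert χ S₀) : Set (N → ℂ)), IsIrrCharacter N ξ := by
    intro ξ hξ
    rcases Finset.mem_insert.mp (Finset.mem_coe.mp hξ) with h | h
    · rw [h]; exact hχ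
    · exact hirr ξ h
  obtain ⟨τ₂, hτ₂, hτ₂T⟩ := exists_isometry_extension (↑(insert χ S₀) : Set (N → ℂ))
    (fun ξ hξ => by rw [IsIrrCharacter.classInner_self (hirrI ξ hξ)]; exact one_ne_zero)
    (fun ξ hξ η hη h => IsIrrCharacter.classInner_eq_zero (hirrI ξ hξ) (hirrI η hη) h) T
    (by
      intro ξ hξ
      rcases Finset.mem_insert.mp (Finset.mem_coe.mp hξ) with h | h
      · rw [h, hTχ]
        refine isGeneralizedCharacter_add hfgen ?_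
        simpa using isGeneralizedCharacter_intCast_smul
          (hτ₁.2.2.2 ψ (Submodule.subset_span hψ)) (a : ℤ)
      · rw [hTS ξ h]; exact hτ₁.2.2.2 ξ (Submodule.subset_span h))
    (by
      have hmix : ∀ ξ ∈ S₀, classInner (f + (a : ℂ) • τ₁ ψ) (τ₁ ξ) = 0 := by
        intro ξ hξ
        rw [classInner_add_left, classInner_smul_left, hc ξ hξ, hTδ ψ hψ ξ hξ, hcv ξ hξ]
        by_cases h : ξ = ψ
        · subst h; simp
        · rw [if_neg h, if_neg (Ne.symm h)]; simp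
      intro ξ hξ η hη
      rcases Finset.mem_insert.mp (Finset.mem_coe.mp hξ) with h | h <;>
        rcases Finset.mem_insert.mp (Finset.mem_coe.mp hη) with h' | h'
      · rw [h, h', hTχ, classInner_add_right, classInner_smul_right, hmix ψ hψ, mul_zero, add_zero,
          classInner_add_left, classInner_smul_left, hff, ← classInner_conj_symm f (τ₁ ψ), hc ψ hψ,
          hcv ψ hψ, IsIrrCharacter.classInner_self hχ, map_intCast]
        push_cast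
        simp
        ring
      · rw [h, hTχ, hTS η h', hmix η h', hχξ η h']
      · rw [h', hTχ, hTS ξ h, ← classInner_conj_symm, hmix ξ h, map_zero,
          IsIrrCharacter.classInner_eq_zero (hirr ξ h) hχ (fun e => hχS (e ▸ h))]
      · rw [hTS ξ h, hTS η h', hTδ ξ h η h', hδ ξ h η h'])
  refine ⟨⟨α₀, mem_zspanOn_compl_one.mpr ⟨zspan_mono hmono hα₀.1, (mem_zspanOn_compl_one.mp hα₀).2⟩,
    hα₀ne⟩, τ₂, hτ₂, fun θ hθ => ?_⟩
  have hθ' := mem_zspanOn_compl_one.mp hθ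
  have hθ1 : θ ∈ Submodule.span ℤ (insert χ (↑S₀ : Set (N → ℂ))) := by
    have := hθ'.1
    unfold zspan at this
    rwa [Finset.coe_insert] at this
  obtain ⟨k, z, hz, hθeq⟩ := Submodule.mem_span_insert.mp hθ1
  set θ₀ := z + (k * (a : ℤ)) • ψ with hθ₀
  have hθβ : θ = k • β + θ₀ := by
    rw [hθeq, hβdef, hθ₀, smul_sub, smul_smul]; abel
  have hθ₀mem : θ₀ ∈ zspanOn (↑S₀ : Set (N → ℂ)) {1}ᶜ := by
    refine mem_zspanOn_compl_one.mpr
      ⟨Submodule.add_mem _ hz (Submodule.smul_mem _ _ (Submodule.subset_span hψ)), ?_⟩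
    have h := congrFun hθβ 1
    rw [hθ'.2, Pi.add_apply, Pi.smul_apply, (mem_zspanOn_compl_one.mp hβ).2, smul_zero, zero_add] at h
    exact h.symm
  have hθ₀I : θ₀ ∈ zspanOn (↑(insert χ S₀) : Set (N → ℂ)) {1}ᶜ := mem_zspanOn_compl_one.mpr
    ⟨zspan_mono hmono hθ₀mem.1, (mem_zspanOn_compl_one.mp hθ₀mem).2⟩
  have hL : τ θ = k • f + τ θ₀ := by
    rw [hθβ, hτ.1 _ ((zspanOnSub _ _).smul_mem k hβ) _ hθ₀I, hτ.2.1 β hβ k, hf]
  have hR : τ₂ θ = k • f + τ₁ θ₀ := by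
    have e1 : τ₂ θ₀ = τ₁ θ₀ := eq_on_span (P := Submodule.span ℤ (↑S₀ : Set (N → ℂ)))
      (Q := Submodule.span ℤ (↑(insert χ S₀) : Set (N → ℂ))) hτ₁ hτ₂ Submodule.subset_span
      (fun x hx => Submodule.subset_span (hmono hx))
      (fun x hx => by rw [hτ₂T x (hmono hx), hTS x hx]) hθ₀mem.1
    have e2 : τ₂ β = f := by
      rw [hβdef, IsLinearIsometryOn.map_sub (P := Submodule.span ℤ (↑(insert χ S₀) : Set (N → ℂ)))
        hτ₂ (Submodule.subset_span hχI) (Submodule.smul_mem _ _ (Submodule.subset_span (hmono hψ))),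
        hτ₂.2.1 ψ (Submodule.subset_span (hmono hψ)), hτ₂T χ hχI, hτ₂T ψ (hmono hψ), hTχ, hTS ψ hψ,
        ← Int.cast_smul_eq_zsmul ℂ, Int.cast_natCast, add_sub_cancel_right]
    rw [hθβ, hτ₂.1 _ (Submodule.smul_mem _ k hβ.1) _ hθ₀I.1, hτ₂.2.1 β hβ.1 k, e1, e2]
  rw [hR, hL, hag θ₀ hθ₀mem]

end Cfsg.Agent.S1530
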