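import Cfsg.Statements.S1534
import Cfsg.Agent.Lib.Char.Sibley
import Cfsg.Agent.Lib.Char.TIAbelian
import Mathlib.GroupTheory.FixedPointFree

set_option autoImplicit false
open Cfsg

namespace Cfsg.Agent.S1534

/-- Let G be a finite group and K a nontrivial nilpotent subgroup whose underlying set is a TI-subset of G, properly contained in its set normaliser N, with C_G(k) ≤ K for every non-identity k ∈ K; let e be the index of K in N and S the set of irreducible characters χ of N with χ k ≠ χ 1 for some k ∈ K. Then one of: S has exactly one member, Nat.card K = e + 1 and K is an elementary abelian p-group for some prime p; or K is a Sylow 2-subgroup of G (Nat.card K is the largest power of 2 dividing Nat.card G) and [K : [K,K]] < 4e²; or (S, N minus 1, induction to G) is coherent. -/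
theorem result {G : Type*} [Group G] [Fintype G] (K : Subgroup G) (hK1 : K ≠ ⊥) (hnil : Group.IsNilpotent K) (hTI : Cfsg.IsTISubset (K : Set G)) (hlt : K < Subgroup.normalizer (K : Set G)) (hC : ∀ k ∈ K, k ≠ 1 → Subgroup.centralizer ({k} : Set G) ≤ K) [Fintype ↥(Subgroup.normalizer (K : Set G))] : (Nat.card {χ : ↥(Subgroup.normalizer (K : Set G)) → ℂ // Cfsg.IsIrrCharacter ↥(Subgroup.normalizer (K : Set G)) χ ∧ ∃ k : ↥(Subgroup.normalizer (K : Set G)), (k : G) ∈ K ∧ χ k ≠ χ 1} = 1 ∧ Nat.card K = (K.subgroupOf (Subgroup.normalizer (K : Set G))).index + 1 ∧ ∃ p : ℕ, p.Prime ∧ Cfsg.IsElementaryAbelian p K) ∨ (Nat.card K = 2 ^ (Nat.card G).factorization 2 ∧ (⁅K, K⁆.subgroupOf K).index < 4 * (K.subgroupOf (Subgroup.normalizer (K : Set G))).index ^ 2) ∨ Cfsg.IsCoherent {χ : ↥(Subgroup.normalizer (K : Set G)) → ℂ | Cfsg.IsIrrCharacter ↥(Subgroup.normalizer (K : Set G)) χ ∧ ∃ k : ↥(Subgroup.normalizer (K : Set G)), (k : G) ∈ K ∧ χ k ≠ χ 1} {1}ᶜ (fun α => Cfsg.indFun (Subgroup.normalizer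 (K : Set G)) α) := by
  classical
  let N := Subgroup.normalizer (K : Set G)
  let H : Subgroup N := Cfsg.Agent.Char.FTI.kerN K
  haveI hHn : H.Normal := Cfsg.Agent.Char.FTI.kerN_normal K
  haveI := Fintype.ofFinite H
  have hC' := Cfsg.Agent.Char.FTI.kerN_centralizer K hC
  have hHtop : H ≠ ⊤ := Cfsg.Agent.Char.FTI.kerN_ne_top K hlt
  have hmap : H.map N.subtype = K := Subgroup.map_subgroupOf_eq_of_le hlt.le
  have hcard : Nat.card H = Nat.card K := Nat.card_congr (Subgroup.subgroupOfEquivOfLe hlt.le).toEquiv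
  have hH1 : H ≠ ⊥ := fun h => hK1 (by rw [← hmap, h, Subgroup.map_bot])
  by_cases he : Nat.card H = H.index + 1
  · obtain ⟨hab, p, hp, hpow⟩ := Cfsg.Agent.Char.TIAb.elementary_of_card H hC' hH1 he
    refine Or.inl ⟨?_, hcard ▸ he, p, hp,
      ⟨⟨fun a b => Subtype.ext (congrArg Subtype.val (hab ⟨a, hlt.le a.2⟩ a.2 ⟨b, hlt.le b.2⟩ b.2) :)⟩⟩,
      fun a ha => congrArg Subtype.val (hpow ⟨a, hlt.le ha⟩ ha)⟩
    have h := Cfsg.Agent.Char.TIAb.card_relevant_mul H hC' hab
    rw [he] at h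
    have h1 : Nat.card {χ : Cfsg.IrrCharacter N // ∃ k ∈ H, (χ : N → ℂ) k ≠ (χ : N → ℂ) 1} = 1 := by
      have h0 : H.index ≠ 0 := Subgroup.index_ne_zero_of_finite
      refine Nat.eq_of_mul_eq_mul_right (Nat.pos_of_ne_zero h0) ?_
      omega
    rw [← h1]
    exact Nat.card_congr (Equiv.subtypeSubtypeEquivSubtypeInter (fun χ : N → ℂ => Cfsg.IsIrrCharacter N χ)
      (fun χ : N → ℂ => ∃ k ∈ H, χ k ≠ χ 1)).symm
  have hTI' : ∀ g : G, g ∉ N → ∀ h ∈ H, ∀ h' ∈ H, g * ((h : N) : G) * g⁻¹ = ((h' : N) : G) → h = 1 :=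
    fun g hg h hh h' hh' heq => Subtype.ext (hTI g hg h hh (heq ▸ hh'))
  have hset : {χ : N → ℂ | Cfsg.IsIrrCharacter N χ ∧ ∃ k : N, (k : G) ∈ K ∧ χ k ≠ χ 1} =
      Cfsg.inducedIrrAbove H ⊥ := Cfsg.Agent.Char.Feit.S_eq H hC'
  rcases Cfsg.Agent.Char.Feit.feit_coherence H hC' (Cfsg.Agent.Char.Sibley.ind_isometry N H hC' hTI')
      (fun α hα => Cfsg.Agent.Char.Sibley.ind_one N H hα) hHtop hH1 he with
    h | ⟨p, hp, ⟨m, hm⟩, hnab, hr⟩
  · right; right
    rw [hset]
    exact h
  haveI := Fact.mk hp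
  have hnab' : ¬ ∀ a b : H, a * b = b * a := fun h => hnab ⟨⟨h⟩⟩
  have hmod : Nat.card H ≡ 1 [MOD H.index] := Cfsg.Agent.Char.Feit.card_modEq_one H hC' H le_rfl
  have hm0 : m ≠ 0 := fun h => hH1 (Subgroup.eq_bot_of_card_eq H (by rw [hm, h, pow_zero]))
  rcases hp.eq_two_or_odd' with rfl | hpodd
  · right; left
    have heodd : Odd H.index := by
      rw [← Nat.not_even_iff_odd]
      intro hev
      have h1 : Nat.card H ≡ 1 [MOD 2] := hmod.of_dvd (even_iff_two_dvd.mp hev)
      have h2 : (2 : ℕ) ∣ Nat.card H := hm ▸ dvd_pow_self 2 hm0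
      rw [Nat.ModEq, Nat.mod_eq_zero_of_dvd h2 |> fun h => (Nat.dvd_iff_mod_eq_zero.mp h2)] at h1
      simp at h1
    refine ⟨?_, ?_⟩
    · have hKp : IsPGroup 2 K := IsPGroup.of_card (hcard ▸ hm)
      obtain ⟨Q, hQ⟩ := hKp.exists_le_sylow
      have hQK : (Q : Subgroup G) = K := by
        refine le_antisymm ?_ hQ
        obtain ⟨k, hk, hk1⟩ : ∃ k ∈ K, k ≠ 1 := by
          by_contra hh
          push Not at hh
          exact hK1 ((Subgroup.eq_bot_iff_forall _).mpr hh)
        haveI : Nontrivial (Q : Subgroup G) :=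
          ⟨⟨⟨k, hQ hk⟩, 1, fun h => hk1 (congrArg Subtype.val h)⟩⟩
        haveI := Q.isPGroup'.center_nontrivial
        obtain ⟨⟨z, hz⟩, hz1⟩ := exists_ne (1 : Subgroup.center (Q : Subgroup G))
        have hz1' : (z : G) ≠ 1 := fun h => hz1 (Subtype.ext (Subtype.ext h))
        have hzK : (z : G) ∈ K := hC k hk hk1 (Subgroup.mem_centralizer_singleton_iff.mpr
          (congrArg Subtype.val (Subgroup.mem_center_iff.mp hz ⟨k, hQ hk⟩)).symm)
        intro q hq
        exact hC z hzK hz1' (Subgroup.mem_centralizer_singleton_iff.mpr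
          (congrArg Subtype.val (Subgroup.mem_center_iff.mp hz ⟨q, hq⟩)))
      rw [← hQK]
      exact Q.card_eq_multiplicity
    · have hrel : (⁅K, K⁆.subgroupOf K).index = (⁅H, H⁆.subgroupOf H).index := by
        show ⁅K, K⁆.relIndex K = ⁅H, H⁆.relIndex H
        rw [← Subgroup.relIndex_map_map_of_injective ⁅H, H⁆ H N.subtype_injective,
          Subgroup.map_commutator, hmap]
      rw [hrel]
      show (⁅H, H⁆.subgroupOf H).index < 4 * H.index ^ 2
      obtain ⟨j, -, hj⟩ := (Nat.dvd_prime_pow hp).mp (hm ▸ (⁅H, H⁆.subgroupOf H).index_dvd_card)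
      rw [hj] at hr ⊢
      have he2 : 2 ≤ H.index := by
        have : H.index ≠ 1 := fun h => hHtop (Subgroup.index_eq_one.mp h)
        have : H.index ≠ 0 := Subgroup.index_ne_zero_of_finite
        omega
      by_contra hh
      push Not at hh
      have hcop : Nat.Coprime H.index (2 ^ j) := (Nat.coprime_two_right.mpr heodd).pow_right j
      rcases eq_or_lt_of_le hh with h | h
      · have hd : H.index ∣ 2 ^ j := ⟨4 * H.index, by rw [← h]; ring⟩
        have := Nat.eq_one_of_dvd_coprimes hcop dvd_rfl hd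
        omega
      · have h2 : 2 ^ j = 4 * H.index ^ 2 + 1 := by omega
        rcases Nat.eq_zero_or_pos j with rfl | hj0
        · simp at h2; omega
        · have : (2 : ℕ) ∣ 2 ^ j := dvd_pow_self 2 hj0.ne'
          omega
  · right; right
    rw [hset]
    refine Cfsg.Agent.Char.Sibley.sibley N H hC' hTI' hHtop hH1 ?_
    by_contra hcon
    rw [Nat.not_odd_iff_even, even_iff_two_dvd] at hcon
    haveI : Fact (Nat.Prime 2) := ⟨Nat.prime_two⟩
    obtain ⟨t, ht⟩ := exists_prime_orderOf_dvd_card' 2 hcon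
    have ht2 : t * t = 1 := by rw [← pow_two, ← ht, pow_orderOf_eq_one]
    have htH : t ∉ H := fun h => by
      have h1 : 2 ∣ Nat.card H := by
        rw [← ht, show orderOf t = orderOf (⟨t, h⟩ : H) from (Subgroup.orderOf_coe (⟨t, h⟩ : H))]
        exact orderOf_dvd_natCard _
      exact (Nat.not_even_iff_odd.mpr hpodd.pow) (hm ▸ even_iff_two_dvd.mpr h1)
    let φ : H →* H := (MulAut.conjNormal t : MulAut H).toMonoidHom
    have hfp : MonoidHom.FixedPointFree φ := fun h hh => by
      by_contra h1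
      have h2 : t * (h : N) * t⁻¹ = (h : N) := by
        have := congrArg Subtype.val hh
        simpa [φ] using this
      exact htH (hC' h h.2 (fun e => h1 (Subtype.ext e))
        (Subgroup.mem_centralizer_singleton_iff.mpr (mul_inv_eq_iff_eq_mul.mp h2)))
    have hinv : Function.Involutive φ := fun h => Subtype.ext (by
      have hti : t⁻¹ = t := inv_eq_of_mul_eq_one_right ht2
      simp only [φ, MulEquiv.coe_toMonoidHom, MulAut.conjNormal_apply, hti]
      rw [show t * (t * (h : N) * t) * t = (t * t) * (h : N) * (t * t) by group, ht2]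
      group)
    exact hnab' fun a b => MonoidHom.FixedPointFree.commute_all_of_involutive hfp hinv a b

end Cfsg.Agent.S1534
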