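import Cfsg.Statements.S1533
import Cfsg.Agent.S1534

set_option autoImplicit false
open Cfsg

namespace Cfsg.Agent.S1533

/-- Let G be a finite group, p an odd prime, and P a nontrivial Sylow p-subgroup whose underlying set is a TI-subset of G, with P properly contained in its set normaliser N and C_G(x) ≤ P for every non-identity x ∈ P. Let S be the set of irreducible characters χ of N with χ x ≠ χ 1 for some x ∈ P. Then either S has exactly one member, P is elementary abelian and Nat.card P = [N:P] + 1; or (S, N minus 1, induction to G) is coherent. -/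
theorem result {G : Type*} [Group G] [Fintype G] (p : ℕ) [Fact p.Prime] (hp : p ≠ 2) (P : Sylow p G) (hP1 : (P : Subgroup G) ≠ ⊥) (hTI : Cfsg.IsTISubset ((P : Subgroup G) : Set G)) (hlt : (P : Subgroup G) < Subgroup.normalizer ((P : Subgroup G) : Set G)) (hC : ∀ k ∈ (P : Subgroup G), k ≠ 1 → Subgroup.centralizer ({k} : Set G) ≤ (P : Subgroup G)) [Fintype ↥(Subgroup.normalizer ((P : Subgroup G) : Set G))] : (Nat.card {χ : ↥(Subgroup.normalizer ((P : Subgroup G) : Set G)) → ℂ // Cfsg.IsIrrCharacter ↥(Subgroup.normalizer ((P : Subgroup G) : Set G)) χ ∧ ∃ x : ↥(Subgroup.normalizer ((P : Subgroup G) : Set G)), (x : G) ∈ (P : Subgroup G) ∧ χ x ≠ χ 1} = 1 ∧ Cfsg.IsElementaryAbelian p (P : Subgroup G) ∧ Nat.card (P : Subgroup G) = ((P : Subgroup G).subgroupOf (Subgroup.normalizer ((P : Subgroup G) : Set G))).index + 1) ∨ Cfsg.IsCoherent {χ : ↥(Subgroup.normalizer ((P : Subgroup G) : Set G)) → ℂ | Cfsg.IsIrrCharacter ↥(Subgroup.normalizer ((P : Subgroup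 G) : Set G)) χ ∧ ∃ x : ↥(Subgroup.normalizer ((P : Subgroup G) : Set G)), (x : G) ∈ (P : Subgroup G) ∧ χ x ≠ χ 1} {1}ᶜ (fun α => Cfsg.indFun (Subgroup.normalizer ((P : Subgroup G) : Set G)) α) := by
  rcases Cfsg.Agent.S1534.result (P : Subgroup G) hP1 P.isPGroup'.isNilpotent hTI hlt hC with
    ⟨h1, h2, q, hq, hab, hpow⟩ | ⟨h1, -⟩ | h
  · refine Or.inl ⟨h1, ⟨hab, ?_⟩, h2⟩
    obtain ⟨x, hx, hx1⟩ : ∃ x ∈ (P : Subgroup G), x ≠ 1 := by
      by_contra hh
      push Not at hh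
      exact hP1 ((Subgroup.eq_bot_iff_forall _).mpr hh)
    have hxo : orderOf x = q := (Nat.dvd_prime hq).mp (orderOf_dvd_of_pow_eq_one (hpow x hx)) |>.resolve_left
      fun h => hx1 (orderOf_eq_one_iff.mp h)
    obtain ⟨i, hi⟩ := P.isPGroup' ⟨x, hx⟩
    have hd : q ∣ p ^ i := hxo ▸ orderOf_dvd_of_pow_eq_one (by simpa using congrArg Subtype.val hi)
    have hqp : q = p := (Nat.prime_dvd_prime_iff_eq hq (Fact.out)).mp (hq.dvd_of_dvd_pow hd)
    exact hqp ▸ hpow
  · exfalso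
    obtain ⟨i, hi⟩ := IsPGroup.iff_card.mp P.isPGroup'
    have hp' : Nat.Prime p := Fact.out
    have hi0 : i ≠ 0 := fun h => hP1 (Subgroup.eq_bot_of_card_eq _ (by rw [hi, h, pow_zero]))
    have hd : p ∣ 2 ^ (Nat.card G).factorization 2 := h1 ▸ hi ▸ dvd_pow_self p hi0
    exact hp ((Nat.prime_dvd_prime_iff_eq hp' Nat.prime_two).mp (hp'.dvd_of_dvd_pow hd))
  · exact Or.inr h

end Cfsg.Agent.S1533
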