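import Cfsg.Statements.S1532
import Cfsg.Agent.S1533
import Cfsg.Agent.Lib.Char.CoherenceDescent
import Cfsg.Agent.Lib.Char.Perm

set_option autoImplicit false
open Cfsg

namespace Cfsg.Agent.S1532

/-- Let G be a finite group, p an odd prime and P a Sylow p-subgroup that is non-abelian, whose underlying set is a TI-subset of G, with P properly contained in its set normaliser N and C_G(x) ≤ P for every non-identity x ∈ P. Let Z be a nontrivial subgroup of the centre of P normalised by N. Then the set of irreducible characters χ of N with χ z ≠ χ 1 for some z ∈ Z is coherent for the map induced by induction from N to G. -/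
theorem result {G : Type*} [Group G] [Fintype G] (p : ℕ) [Fact p.Prime] (hp : p ≠ 2) (P : Sylow p G) (hna : ¬ IsMulCommutative (P : Subgroup G)) (hTI : Cfsg.IsTISubset ((P : Subgroup G) : Set G)) (hlt : (P : Subgroup G) < Subgroup.normalizer ((P : Subgroup G) : Set G)) (hC : ∀ k ∈ (P : Subgroup G), k ≠ 1 → Subgroup.centralizer ({k} : Set G) ≤ (P : Subgroup G)) [Fintype ↥(Subgroup.normalizer ((P : Subgroup G) : Set G))] (Z : Subgroup G) (hZ1 : Z ≠ ⊥) (hZP : ∀ z ∈ Z, z ∈ (P : Subgroup G) ∧ ∀ y ∈ (P : Subgroup G), z * y = y * z) (hZn : ∀ x ∈ Subgroup.normalizer ((P : Subgroup G) : Set G), ∀ z ∈ Z, x * z * x⁻¹ ∈ Z) : Cfsg.IsCoherent {χ : ↥(Subgroup.normalizer ((P : Subgroup G) : Set G)) → ℂ | Cfsg.IsIrrCharacter ↥(Subgroup.normalizer ((P : Subgroup G) : Set G)) χ ∧ ∃ z : ↥(Subgroup.normalizer ((P : Subgroup G) : Set G)), (z : G) ∈ Z ∧ χ z ≠ χ 1} {1}ᶜ (fun α => Cfsg.indFun (Subgroup.normalizer ((P : Subgroup G) : Set G)) α) := by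
  classical
  let N := Subgroup.normalizer ((P : Subgroup G) : Set G)
  let H : Subgroup N := Cfsg.Agent.Char.FTI.kerN (P : Subgroup G)
  haveI : H.Normal := Cfsg.Agent.Char.FTI.kerN_normal _
  haveI := Fintype.ofFinite H
  have hC' := Cfsg.Agent.Char.FTI.kerN_centralizer (P : Subgroup G) hC
  have hP1 : (P : Subgroup G) ≠ ⊥ := fun h => hna ⟨⟨fun a b => Subtype.ext (by
    rw [Subgroup.coe_mul, Subgroup.coe_mul, Subgroup.mem_bot.mp (h.le a.2), Subgroup.mem_bot.mp (h.le b.2)])⟩⟩
  rcases Cfsg.Agent.S1533.result p hp P hP1 hTI hlt hC with ⟨-, hab, -⟩ | h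
  · exact absurd hab.1 hna
  refine Cfsg.Agent.Char.isCoherent_mono ?_ h ?_
  · rintro χ ⟨hχ, z, hz, hne⟩
    exact ⟨hχ, z, (hZP _ hz).1, hne⟩
  -- a character not trivial on `Z` and its conjugate
  obtain ⟨z, hz, hz1⟩ : ∃ z ∈ Z, z ≠ 1 := by
    by_contra hh
    push Not at hh
    exact hZ1 ((Subgroup.eq_bot_iff_forall _).mpr hh)
  let z' : N := ⟨z, hlt.le (hZP z hz).1⟩
  haveI := Fintype.ofFinite (Cfsg.IrrCharacter N)
  obtain ⟨χ, hχ⟩ : ∃ χ : Cfsg.IrrCharacter N, (χ : N → ℂ) z' ≠ (χ : N → ℂ) 1 := by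
    by_contra hh
    push Not at hh
    have h1 := Cfsg.Agent.Char.regular_eq (G := N) z'
    rw [if_neg (fun e => hz1 (congrArg Subtype.val e)), Finset.sum_congr rfl fun χ _ => by
      rw [hh χ, ← sq], Cfsg.Agent.Char.sum_sq_degree] at h1
    exact Nat.card_pos.ne' (Nat.cast_eq_zero.mp h1)
  by_cases hreal : Cfsg.conjFun (χ : N → ℂ) = (χ : N → ℂ)
  · -- the normaliser has odd order unless the kernel is abelian
    exfalso
    have hodd : Odd (Nat.card N) := by
      rw [← Nat.not_even_iff_odd, even_iff_two_dvd]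
      intro hev
      haveI : Fact (Nat.Prime 2) := ⟨Nat.prime_two⟩
      obtain ⟨t, ht⟩ := exists_prime_orderOf_dvd_card' 2 hev
      have ht2 : t * t = 1 := by rw [← pow_two, ← ht, pow_orderOf_eq_one]
      have htH : t ∉ H := fun h => by
        obtain ⟨i, hi⟩ := P.isPGroup' ⟨(t : G), Subgroup.mem_subgroupOf.mp h⟩
        have hd : 2 ∣ p ^ i := by
          rw [← ht, ← Subgroup.orderOf_coe t]
          exact orderOf_dvd_of_pow_eq_one (by simpa using congrArg Subtype.val hi)
        exact hp ((Nat.prime_dvd_prime_iff_eq Nat.prime_two Fact.out).mp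
          (Nat.prime_two.dvd_of_dvd_pow hd)).symm
      let φ : H →* H := (MulAut.conjNormal t : MulAut H).toMonoidHom
      have hfp : MonoidHom.FixedPointFree φ := fun h hh => by
        by_contra h1
        have h2 : t * (h : N) * t⁻¹ = (h : N) := by
          have := congrArg Subtype.val hh
          simpa [φ] using this
        exact htH (hC' h h.2 (fun e => h1 (Subtype.ext e))
          (Subgroup.mem_centralizer_singleton_iff.mpr (mul_inv_eq_iff_eq_mul.mp h2)))
      have hinv : Function.Involutive φ := fun h => Subtype.ext (by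
        have hti : t⁻¹ = t := inv_eq_of_mul_eq_one_right ht2
        simp only [φ, MulEquiv.coe_toMonoidHom, MulAut.conjNormal_apply, hti]
        rw [show t * (t * (h : N) * t) * t = (t * t) * (h : N) * (t * t) by group, ht2]
        group)
      refine hna ⟨⟨fun a b => Subtype.ext ?_⟩⟩
      have := MonoidHom.FixedPointFree.commute_all_of_involutive hfp hinv
        ⟨⟨a, hlt.le a.2⟩, a.2⟩ ⟨⟨b, hlt.le b.2⟩, b.2⟩
      exact congrArg (fun x : H => ((x : N) : G)) this
    have h1 := Cfsg.Agent.Char.real_irr_eq_one hodd χ fun x => Complex.conj_eq_iff_im.mp (congrFun hreal x)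
    exact hχ ((congrFun h1 z').trans (congrFun h1 1).symm)
  · have hmem : ∀ f : N → ℂ, Cfsg.IsIrrCharacter N f → f z' ≠ f 1 →
        f ∈ {χ : N → ℂ | Cfsg.IsIrrCharacter N χ ∧ ∃ z : N, (z : G) ∈ Z ∧ χ z ≠ χ 1} :=
      fun f h1 h2 => ⟨h1, z', hz, h2⟩
    have hc : Cfsg.IsIrrCharacter N (Cfsg.conjFun (χ : N → ℂ)) := Cfsg.Agent.Char.IsIrrCharacter.conj χ.2
    obtain ⟨d, -, hd⟩ := Cfsg.Agent.Char.IsIrrCharacter.degree_pos χ.2
    refine ⟨(χ : N → ℂ) - Cfsg.conjFun (χ : N → ℂ), Cfsg.Agent.Char.mem_zspanOn_compl_one.mpr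
      ⟨Submodule.sub_mem _ (Submodule.subset_span (hmem _ χ.2 hχ))
        (Submodule.subset_span (hmem _ hc fun e => hχ ((starRingEnd ℂ).injective e))), ?_⟩,
      fun e => hreal (sub_eq_zero.mp e).symm⟩
    simp [Cfsg.conjFun, hd]

end Cfsg.Agent.S1532
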