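import Cfsg.Statements.S1536
import Cfsg.Agent.Lib.Char.Signed
import Cfsg.Agent.Lib.Char.CoprimeFix

set_option autoImplicit false
open Cfsg

namespace Cfsg.Agent.S1536

open Cfsg Cfsg.Agent.Char

/-- Let H be a normal subgroup of the finite group M whose order is coprime to its index. For x ∈ M: some non-principal irreducible character of H is unchanged under h ↦ θ(x h x⁻¹) if and only if some non-identity element of H commutes with x. -/
theorem result {M : Type*} [Group M] [Finite M] (H : Subgroup M) [hN : H.Normal] (hHall : Nat.Coprime (Nat.card H) H.index) (x : M) : (∃ θ : H → ℂ, Cfsg.IsIrrCharacter H θ ∧ θ ≠ (fun _ => 1) ∧ (fun h : H => θ ⟨x * h * x⁻¹, hN.conj_mem h h.2 x⟩) = θ) ↔ ∃ h ∈ H, h ≠ 1 ∧ x * h = h * x := by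
  classical
  have hc := card_fixed_irr_aut (MulAut.conjNormal x : MulAut H)
  constructor
  · rintro ⟨θ, hθ, hθ1, hfix⟩
    by_contra hno
    push Not at hno
    have hxn : x ^ H.index ∈ H := by
      have : ((x : M) : M ⧸ H) ^ H.index = 1 := by
        rw [Subgroup.index_eq_card]
        exact pow_card_eq_one'
      rw [← QuotientGroup.mk_pow] at this
      exact (QuotientGroup.eq_one_iff _).mp this
    have hx1 : x ^ H.index = 1 := by
      by_contra h1
      exact hno _ hxn h1 (Commute.pow_right (Commute.refl x) _).eq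
    have hcop : Nat.Coprime (orderOf x) (Nat.card H) :=
      (Nat.Coprime.of_dvd_right (orderOf_dvd_of_pow_eq_one hx1) hHall).symm
    have hσ : Subsingleton {C : ConjClasses H //
        ConjClasses.map (MulEquiv.toMonoidHom (MulAut.conjNormal x : MulAut H)) C = C} := by
      refine ⟨fun a b => ?_⟩
      have key : ∀ C : ConjClasses H,
          ConjClasses.map (MulEquiv.toMonoidHom (MulAut.conjNormal x : MulAut H)) C = C →
          C = ConjClasses.mk 1 := by
        intro C hC'
        obtain ⟨k, rfl⟩ := ConjClasses.exists_rep C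
        obtain ⟨m, hm⟩ := isConj_iff.mp (ConjClasses.mk_eq_mk_iff_isConj.mp hC')
        have h' : (m : M) * (x * k * x⁻¹) * (m : M)⁻¹ = k := congrArg Subtype.val hm
        have e : x * (k : M) * x⁻¹ = (m : M)⁻¹ * k * ((m : M)⁻¹)⁻¹ := by
          conv_rhs => rw [← h']
          group
        obtain ⟨y, hy, hyc⟩ := exists_fixed_conj H x (by simp [Subgroup.normalizer_eq_top H])
          hcop (H.inv_mem m.2) e
        by_contra hne
        have hmem : y * (k : M) * y⁻¹ ∈ H := hN.conj_mem k k.2 y
        refine hno _ hmem (fun h1 => hne ?_) hyc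
        have : (k : M) = 1 := by
          calc (k : M) = y⁻¹ * (y * k * y⁻¹) * y := by group
            _ = 1 := by rw [h1]; group
        rw [show k = 1 from Subtype.ext this]
      exact Subtype.ext ((key a a.2).trans (key b b.2).symm)
    have hs : Subsingleton {χ : IrrCharacter H //
        (χ : H → ℂ) ∘ (MulAut.conjNormal x : MulAut H) = χ} := by
      rw [← Finite.card_le_one_iff_subsingleton, hc, Finite.card_le_one_iff_subsingleton]
      exact hσ
    have h1 : θ ∘ (MulAut.conjNormal x : MulAut H) = θ := by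
      conv_rhs => rw [← hfix]
      rfl
    exact hθ1 (congrArg Subtype.val (congrArg Subtype.val
      (hs.elim ⟨⟨θ, hθ⟩, h1⟩ ⟨⟨1, isIrrCharacter_one⟩, rfl⟩)))
  · rintro ⟨h, hh, h1, hcomm⟩
    by_contra hno
    push Not at hno
    have hs : Subsingleton {χ : IrrCharacter H //
        (χ : H → ℂ) ∘ (MulAut.conjNormal x : MulAut H) = χ} := by
      refine ⟨fun a b => Subtype.ext (Subtype.ext ?_)⟩
      have key : ∀ c : {χ : IrrCharacter H //
          (χ : H → ℂ) ∘ (MulAut.conjNormal x : MulAut H) = χ}, (c.1 : H → ℂ) = fun _ => 1 := by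
        rintro ⟨⟨χ, hχ⟩, hχx⟩
        by_contra hne
        refine hno χ hχ hne ?_
        conv_rhs => rw [← show χ ∘ (MulAut.conjNormal x : MulAut H) = χ from hχx]
        rfl
      rw [key a, key b]
    rw [← Finite.card_le_one_iff_subsingleton, hc, Finite.card_le_one_iff_subsingleton] at hs
    have hfixh : ConjClasses.map (MulEquiv.toMonoidHom (MulAut.conjNormal x : MulAut H))
        (ConjClasses.mk ⟨h, hh⟩) = ConjClasses.mk ⟨h, hh⟩ := by
      refine congrArg ConjClasses.mk (Subtype.ext ?_)
      show x * h * x⁻¹ = h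
      rw [hcomm]; group
    have hfix1 : ConjClasses.map (MulEquiv.toMonoidHom (MulAut.conjNormal x : MulAut H))
        (ConjClasses.mk 1) = ConjClasses.mk 1 :=
      congrArg ConjClasses.mk (map_one _)
    have := congrArg Subtype.val (hs.elim ⟨_, hfixh⟩ ⟨_, hfix1⟩)
    rw [ConjClasses.mk_eq_mk_iff_isConj, isConj_one_left] at this
    exact h1 (congrArg Subtype.val this)

end Cfsg.Agent.S1536
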