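import Cfsg.Statements.S1546
import Mathlib

set_option autoImplicit false
open Cfsg

namespace Cfsg.Agent.S1546

/-- Let p and q be odd primes and N = (p ^ q − 1) / (p − 1) = 1 + p + ⋯ + p^(q−1). Then N is odd; if p ≡ 1 (mod q) then q ∣ N; and if p is not ≡ 1 (mod q) then N is coprime to p − 1 and every divisor of N is ≡ 1 (mod q). -/
theorem result (p q : ℕ) (hp : p.Prime) (hq : q.Prime) (hp2 : p ≠ 2) (hq2 : q ≠ 2) : Odd ((p ^ q - 1) / (p - 1)) ∧ (p % q = 1 → q ∣ (p ^ q - 1) / (p - 1)) ∧ (p % q ≠ 1 → Nat.Coprime ((p ^ q - 1) / (p - 1)) (p - 1) ∧ ∀ x : ℕ, x ∣ (p ^ q - 1) / (p - 1) → x % q = 1) := by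
  haveI := Fact.mk hp
  haveI := Fact.mk hq
  have hp1 : 1 ≤ p := hp.one_lt.le
  have hgeom : (p ^ q - 1) / (p - 1) = ∑ i ∈ Finset.range q, p ^ i :=
    (Nat.geomSum_eq hp.two_le q).symm
  rw [hgeom]
  set N := ∑ i ∈ Finset.range q, p ^ i with hN
  have hpodd : Odd p := hp.odd_of_ne_two hp2
  have hqodd : Odd q := hq.odd_of_ne_two hq2
  have hmod : N ≡ q [MOD p - 1] := by
    have h1 : p ≡ 1 [MOD p - 1] := by
      conv_lhs => rw [show p = 1 + (p - 1) by omega]
      exact Nat.add_modEq_right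
    calc N ≡ ∑ i ∈ Finset.range q, 1 [MOD p - 1] :=
          Nat.ModEq.sum fun i _ => by simpa using h1.pow i
      _ = q := by simp
  have hpq : p % q = 1 ↔ q ∣ p - 1 := by
    rw [← Nat.modEq_iff_dvd' hp1]
    constructor
    · intro h
      show 1 % q = p % q
      rw [h, Nat.one_mod_eq_one.mpr hq.ne_one]
    · intro h
      have h' : 1 % q = p % q := h
      rw [← h', Nat.one_mod_eq_one.mpr hq.ne_one]
  refine ⟨?_, ?_, ?_⟩
  · rw [hN, Finset.odd_sum_iff_odd_card_odd]
    rw [Finset.filter_true_of_mem fun i _ => hpodd.pow]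
    simpa using hqodd
  · intro h
    exact (Nat.modEq_zero_iff_dvd).mp
      ((hmod.of_dvd (hpq.mp h)).trans (Nat.modEq_zero_iff_dvd.mpr dvd_rfl))
  · intro h
    have hndvd : ¬ q ∣ p - 1 := fun hd => h (hpq.mpr hd)
    have hcop : Nat.Coprime N (p - 1) := by
      rw [Nat.Coprime, hmod.gcd_eq]
      exact hq.coprime_iff_not_dvd.mpr hndvd
    refine ⟨hcop, ?_⟩
    have hprime : ∀ r : ℕ, r.Prime → r ∣ N → r % q = 1 := by
      intro r hr hrN
      haveI := Fact.mk hr
      have hrq : ((p : ZMod r)) ^ q = 1 := by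
        have h0 : ((N : ℕ) : ZMod r) = 0 := (ZMod.natCast_eq_zero_iff N r).mpr hrN
        have := geom_sum_mul ((p : ZMod r)) q
        rw [hN, Nat.cast_sum] at h0
        simp only [Nat.cast_pow] at h0
        rw [h0, zero_mul] at this
        exact (sub_eq_zero.mp this.symm)
      have hne : (p : ZMod r) ≠ 1 := by
        intro h1
        have : r ∣ p - 1 := by
          rw [← ZMod.natCast_eq_zero_iff, Nat.cast_sub hp1, h1]
          simp
        exact hr.ne_one (Nat.eq_one_of_dvd_coprimes hcop hrN this)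
      have hord : orderOf (p : ZMod r) = q := orderOf_eq_prime hrq hne
      have hne0 : (p : ZMod r) ≠ 0 := by
        intro h0
        rw [h0, zero_pow hq.ne_zero] at hrq
        exact zero_ne_one hrq
      have hd : q ∣ r - 1 := hord ▸ ZMod.orderOf_dvd_card_sub_one hne0
      have := (Nat.modEq_iff_dvd' hr.one_lt.le).mpr hd
      have h' : 1 % q = r % q := this
      rw [← h', Nat.one_mod_eq_one.mpr hq.ne_one]
    intro x
    induction x using Nat.recOnMul with
    | zero =>
      intro hx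
      have hpos : 0 < N := by
        rw [hN]
        exact Finset.sum_pos (fun i _ => pow_pos hp.pos i) ⟨0, by simp [hq.pos]⟩
      exact absurd (zero_dvd_iff.mp hx) hpos.ne'
    | one => intro _; exact Nat.one_mod_eq_one.mpr hq.ne_one
    | prime r hr => intro hx; exact hprime r hr hx
    | mul a b iha ihb =>
      intro hx
      rw [Nat.mul_mod, iha (dvd_of_mul_right_dvd hx), ihb (dvd_of_mul_left_dvd hx)]
      simp [Nat.one_mod_eq_one.mpr hq.ne_one]

end Cfsg.Agent.S1546
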