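import Cfsg.Statements.S1552
import Cfsg.Agent.Lib.Golay.FamSxS
import Cfsg.Agent.Lib.Golay.FamGlue

set_option autoImplicit false
open scoped Pointwise
open Cfsg

namespace Cfsg.Agent.S1552

open Cfsg.Agent.Golay Cfsg.Agent.Sextet

/-- A sextet stabiliser has four orbits on the 1771 sextets, of sizes 1, 90, 240, 1440; and the stabiliser is a maximal proper subgroup. -/
theorem result (S : Finset (Finset Cfsg.GolayPt)) (hS : S ∈ Cfsg.sextets) : ∃ X₁ ∈ Cfsg.sextets, ∃ X₂ ∈ Cfsg.sextets, ∃ X₃ ∈ Cfsg.sextets, (MulAction.orbit ↥(MulAction.stabilizer Cfsg.M24 S) X₁).ncard = 90 ∧ (MulAction.orbit ↥(MulAction.stabilizer Cfsg.M24 S) X₂).ncard = 240 ∧ (MulAction.orbit ↥(MulAction.stabilizer Cfsg.M24 S) X₃).ncard = 1440 ∧ Cfsg.sextets = {S} ∪ MulAction.orbit ↥(MulAction.stabilizer Cfsg.M24 S) X₁ ∪ MulAction.orbit ↥(MulAction.stabilizer Cfsg.M24 S) X₂ ∪ MulAction.orbit ↥(MulAction.stabilizer Cfsg.M24 S) X₃ ∧ IsCoatom (MulAction.stabilizer Cfsg.M24 S) := by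
  obtain ⟨σ, hσ, e⟩ := exists_map_sextet (L := famSx) (by decide +kernel) (m := 8388615)
    (by decide +kernel) (by decide +kernel) hS
  subst e
  have h := orbitsList_of famSxS_ok hinv_sextets (fun _ => sextet_of_check) (by decide +kernel)
    (ncard_sextets.trans (by decide)) hσ rfl
  obtain ⟨h1, h2⟩ := h
  simp only [List.map_cons, List.map_nil, List.forall_mem_cons] at h1
  have h0 : famSxS_0.root = famSx := by decide +kernel
  refine ⟨_, h1.2.1.1, _, h1.2.2.1.1, _, h1.2.2.2.1.1, h1.2.1.2.trans (by decide +kernel),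
    h1.2.2.1.2.trans (by decide +kernel), h1.2.2.2.1.2.trans (by decide +kernel), ?_, ?_⟩
  · rw [← orbit_self (G := M24) (σ • fam famSx), h2]
    ext y
    simp [or_assoc, h0]
  · exact fam_coatom famSxS_ok h0 hinv_sextets
      (fun c hc => sextet_of_check (List.all_eq_true.mp (show ([famSxS_0, famSxS_1, famSxS_2, famSxS_3].all
        fun c => sxB c.root) = true by decide +kernel) c hc))
      (ncard_sextets.trans (by decide)) hσ (orbit_sextets hS (L := famSx) (by decide +kernel)
        (m := 8388615) (by decide +kernel) (by decide +kernel)) ⟨by simp, by decide⟩ (by decide +kernel)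

end Cfsg.Agent.S1552
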