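import Cfsg.Statements.S1559
import Cfsg.Agent.Lib.Golay.FamTrT
import Cfsg.Agent.Lib.Golay.FamGlue

set_option autoImplicit false
open scoped Pointwise
open Cfsg

namespace Cfsg.Agent.S1559

open Cfsg.Agent.Golay Cfsg.Agent.Sextet

/-- A trio stabiliser has five orbits on the 3795 trios, of sizes 1, 42, 56, 1008, 2688; and the stabiliser is a maximal proper subgroup. -/
theorem result (T : Finset (Finset Cfsg.GolayPt)) (hT : T ∈ Cfsg.trios) : ∃ X₁ ∈ Cfsg.trios, ∃ X₂ ∈ Cfsg.trios, ∃ X₃ ∈ Cfsg.trios, ∃ X₄ ∈ Cfsg.trios, (MulAction.orbit ↥(MulAction.stabilizer Cfsg.M24 T) X₁).ncard = 42 ∧ (MulAction.orbit ↥(MulAction.stabilizer Cfsg.M24 T) X₂).ncard = 56 ∧ (MulAction.orbit ↥(MulAction.stabilizer Cfsg.M24 T) X₃).ncard = 1008 ∧ (MulAction.orbit ↥(MulAction.stabilizer Cfsg.M24 T) X₄).ncard = 2688 ∧ Cfsg.trios = {T} ∪ MulAction.orbit ↥(MulAction.stabilizer Cfsg.M24 T) X₁ ∪ MulAction.orbit ↥(MulAction.stabilizer Cfsg.M24 T) X₂ ∪ MulAction.orbit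 ↥(MulAction.stabilizer Cfsg.M24 T) X₃ ∪ MulAction.orbit ↥(MulAction.stabilizer Cfsg.M24 T) X₄ ∧ IsCoatom (MulAction.stabilizer Cfsg.M24 T) := by
  obtain ⟨σ, hσ, e⟩ := exists_map_trio (L := famTr) (by decide +kernel) hT
  subst e
  obtain ⟨h1, h2⟩ := orbitsList_of famTrT_ok hinv_trios (fun _ => trio_of_check) (by decide +kernel)
    (ncard_trios.trans (by decide)) hσ rfl
  simp only [List.map_cons, List.map_nil, List.forall_mem_cons] at h1
  have h0 : famTrT_0.root = famTr := by decide +kernel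
  refine ⟨_, h1.2.1.1, _, h1.2.2.1.1, _, h1.2.2.2.1.1, _, h1.2.2.2.2.1.1,
    h1.2.1.2.trans (by decide +kernel), h1.2.2.1.2.trans (by decide +kernel),
    h1.2.2.2.1.2.trans (by decide +kernel), h1.2.2.2.2.1.2.trans (by decide +kernel), ?_, ?_⟩
  · rw [← orbit_self (G := M24) (σ • fam famTr), h2]
    ext y
    simp [or_assoc, h0]
  · exact fam_coatom famTrT_ok h0 hinv_trios
      (fun c hc => trio_of_check (List.all_eq_true.mp (show ([famTrT_0, famTrT_1, famTrT_2, famTrT_3, famTrT_4].all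
        fun c => trB c.root) = true by decide +kernel) c hc))
      (ncard_trios.trans (by decide)) hσ (orbit_trios hT (L := famTr) (by decide +kernel))
      ⟨by simp, by decide⟩ (by decide +kernel)

end Cfsg.Agent.S1559
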