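import Cfsg.Statements.S1569
import Cfsg.Agent.Lib.Leech.Basic
import Cfsg.Agent.S0394
import Cfsg.Agent.S0395
import Cfsg.Agent.S0396
-- import your own Cfsg.Agent.* helpers here

set_option autoImplicit false
open scoped Pointwise
open Cfsg

namespace Cfsg.Agent.S1569
open Cfsg Cfsg.Agent.Leech

/-- Doubling. -/
abbrev dbl : (GolayPt → ℤ) →+ (GolayPt → ℤ) := nsmulAddMonoidHom 2

/-- Twice the lattice. -/
abbrev twoL : AddSubgroup (GolayPt → ℤ) := leechLattice.map dbl

theorem mem_twoL {x : GolayPt → ℤ} : x ∈ twoL ↔ ∃ z ∈ leechLattice, x = 2 • z := by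
  simp [AddSubgroup.mem_map, eq_comm]

theorem twoL_le : twoL ≤ leechLattice := by
  intro x hx
  obtain ⟨z, hz, rfl⟩ := mem_twoL.1 hx
  exact AddSubgroup.nsmul_mem _ hz 2

theorem dbl_range : (dbl.range).index = 2 ^ 24 := by
  let g : (GolayPt → ℤ) →+ (GolayPt → ZMod 2) :=
    { toFun := fun x i => x i
      map_zero' := by funext i; simp
      map_add' := fun x y => by funext i; simp }
  have hker : dbl.range = g.ker := by
    ext x
    rw [AddMonoidHom.mem_range, AddMonoidHom.mem_ker]
    constructor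
    · rintro ⟨y, rfl⟩
      funext i
      show (((dbl y) i : ℤ) : ZMod 2) = 0
      rw [nsmulAddMonoidHom_apply, two_nsmul, Pi.add_apply, Int.cast_add]
      exact CharTwo.add_self_eq_zero _
    · intro h
      refine ⟨fun i => x i / 2, funext fun i => ?_⟩
      have := (ZMod.intCast_zmod_eq_zero_iff_dvd (x i) 2).1 (congrFun h i)
      rw [nsmulAddMonoidHom_apply, two_nsmul, Pi.add_apply]
      omega
  have hsurj : Function.Surjective g := fun z =>
    ⟨fun i => (z i).val, funext fun i => by
      show (((z i).val : ℤ) : ZMod 2) = z i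
      rw [Int.cast_natCast, ZMod.natCast_zmod_val]⟩
  rw [hker, AddSubgroup.index_ker, AddMonoidHom.range_eq_top.2 hsurj, AddSubgroup.card_top, Nat.card_fun,
    Nat.card_zmod, Nat.card_eq_fintype_card, show Fintype.card GolayPt = 24 from rfl]

theorem card_classes : Nat.card (↥leechLattice ⧸ twoL.addSubgroupOf leechLattice) = 2 ^ 24 := by
  have h1 : twoL.index = leechLattice.index * 2 ^ 24 := by
    have hk : dbl.ker = ⊥ := by
      rw [AddMonoidHom.ker_eq_bot_iff]
      intro a b h
      funext i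
      have := congrFun h i
      simp only [nsmulAddMonoidHom_apply, two_nsmul, Pi.add_apply] at this
      omega
    rw [AddSubgroup.index_map, hk, sup_bot_eq, dbl_range]
  have h2 := AddSubgroup.relIndex_mul_index twoL_le
  rw [h1, index_eq, mul_comm (2 ^ 36)] at h2
  exact Nat.eq_of_mul_eq_mul_right (by positivity) h2

open Classical in
/-- The class of a vector. -/
noncomputable def cl (x : GolayPt → ℤ) : ↥leechLattice ⧸ twoL.addSubgroupOf leechLattice :=
  if h : x ∈ leechLattice then QuotientAddGroup.mk ⟨x, h⟩ else 0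

theorem cl_eq {x y : GolayPt → ℤ} (hx : x ∈ leechLattice) (hy : y ∈ leechLattice) :
    cl x = cl y ↔ ∃ z ∈ leechLattice, x - y = 2 • z := by
  rw [cl, cl, dif_pos hx, dif_pos hy, QuotientAddGroup.eq_iff_sub_mem, AddSubgroup.mem_addSubgroupOf]
  exact mem_twoL

theorem sqNorm_two (z : GolayPt → ℤ) : sqNorm (2 • z) = 4 * sqNorm z := by
  simp only [sqNorm, two_nsmul, Pi.add_apply, Finset.mul_sum]
  exact Finset.sum_congr rfl fun i _ => by ring

theorem sqNorm_add (u v : GolayPt → ℤ) : sqNorm (u + v) = sqNorm u + sqNorm v + 2 * dotInt u v := by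
  simp only [sqNorm, dotInt, Pi.add_apply, Finset.mul_sum, ← Finset.sum_add_distrib]
  exact Finset.sum_congr rfl fun i _ => by ring

theorem sqNorm_sub (u v : GolayPt → ℤ) : sqNorm (u - v) = sqNorm u + sqNorm v - 2 * dotInt u v := by
  simp only [sqNorm, dotInt, Pi.sub_apply, Finset.mul_sum, ← Finset.sum_add_distrib, ← Finset.sum_sub_distrib]
  exact Finset.sum_congr rfl fun i _ => by ring

theorem same_class {u v : GolayPt → ℤ} (hu : u ∈ leechLattice) (hv : v ∈ leechLattice) (h : cl u = cl v) :
    u = v ∨ u = -v ∨ (128 ≤ sqNorm u + sqNorm v ∧ (sqNorm u + sqNorm v = 128 → dotInt u v = 0)) := by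
  obtain ⟨z, hz, e⟩ := (cl_eq hu hv).1 h
  by_cases h1 : z = 0
  · left; rw [h1, smul_zero, sub_eq_zero] at e; exact e
  by_cases h2 : z + v = 0
  · right; left
    rw [eq_neg_of_add_eq_zero_left h2, two_nsmul] at e
    rw [sub_eq_iff_eq_add.1 e]
    abel
  right; right
  have a := thirtytwo_le hz h1
  have b := thirtytwo_le (AddSubgroup.add_mem _ hz hv) h2
  have e2 : u + v = 2 • (z + v) := by
    rw [smul_add, ← e, two_nsmul]; abel
  have c := congrArg sqNorm e
  have d := congrArg sqNorm e2
  rw [sqNorm_two, sqNorm_sub] at c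
  rw [sqNorm_two, sqNorm_add] at d
  exact ⟨by omega, fun hh => by omega⟩

theorem fib_le (F : Finset (GolayPt → ℤ)) (hF : ∀ u ∈ F, u ∈ leechLattice ∧ sqNorm u = 64)
    (hc : ∀ u ∈ F, ∀ v ∈ F, cl u = cl v) : F.card ≤ 48 := by
  classical
  let P := F.image fun u => ({u, -u} : Finset (GolayPt → ℤ))
  have h1 : F.card ≤ 2 * P.card := by
    refine Finset.card_le_mul_card_image F 2 fun p hp => ?_
    obtain ⟨u, hu, rfl⟩ := Finset.mem_image.1 hp
    refine (Finset.card_le_card (t := {u, -u}) ?_).trans Finset.card_le_two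
    intro v hv
    rw [Finset.mem_filter] at hv
    rw [← hv.2]
    exact Finset.mem_insert_self v _
  have hch : ∀ p : P, ∃ u ∈ F, ({u, -u} : Finset (GolayPt → ℤ)) = p.1 := fun p =>
    Finset.mem_image.1 p.2
  choose r hr hrp using hch
  have hli : LinearIndependent ℤ r := by
    rw [Fintype.linearIndependent_iff]
    intro g hg q
    have horth : ∀ p : P, dotInt (r p) (r q) = if p = q then 64 else 0 := fun p => by
      by_cases hpq : p = q
      · subst hpq
        rw [if_pos rfl, ← (hF _ (hr p)).2, dotInt, sqNorm]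
        exact Finset.sum_congr rfl fun i _ => by ring
      · rw [if_neg hpq]
        rcases same_class (hF _ (hr p)).1 (hF _ (hr q)).1 (hc _ (hr p) _ (hr q)) with e | e | ⟨-, e⟩
        · exact absurd (Subtype.ext (by rw [← hrp p, ← hrp q, e])) hpq
        · exact absurd (Subtype.ext (by rw [← hrp p, ← hrp q, e, neg_neg, Finset.pair_comm])) hpq
        · exact e (by rw [(hF _ (hr p)).2, (hF _ (hr q)).2]; norm_num)
    have h0 : dotInt (∑ p, g p • r p) (r q) = 0 := by rw [hg]; simp [dotInt]
    have h2 : dotInt (∑ p, g p • r p) (r q) = ∑ p, g p * dotInt (r p) (r q) := by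
      simp only [dotInt, Finset.sum_apply, Pi.smul_apply, smul_eq_mul, Finset.sum_mul, Finset.mul_sum, mul_assoc]
      exact Finset.sum_comm
    rw [h2, Finset.sum_eq_single q (fun p _ hp => by rw [horth, if_neg hp, mul_zero])
      (fun h => absurd (Finset.mem_univ q) h), horth, if_pos rfl] at h0
    omega
  have := hli.fintype_card_le_finrank
  rw [Module.finrank_pi, Fintype.card_coe, show Fintype.card GolayPt = 24 from rfl] at this
  omega


/-- The cross through a lattice vector of customary norm 8 has exactly 48 members. -/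
theorem result (x : Cfsg.GolayPt → ℤ) (hx : x ∈ Cfsg.leechLattice) (hxn : Cfsg.sqNorm x = 64) : (Cfsg.cross x).ncard = 48 := by
  skip
  classical
  have hf : ∀ n : ℤ, {y : GolayPt → ℤ | y ∈ leechLattice ∧ sqNorm y = n}.ncard ≠ 0 →
      {y : GolayPt → ℤ | y ∈ leechLattice ∧ sqNorm y = n}.Finite := fun n h => Set.finite_of_ncard_ne_zero h
  have n32 := Cfsg.Agent.S0394.result
  have n48 := Cfsg.Agent.S0395.result
  have n64 := Cfsg.Agent.S0396.result
  have f32 := hf 32 (by rw [n32]; norm_num)
  have f48 := hf 48 (by rw [n48]; norm_num)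
  have f64 := hf 64 (by rw [n64]; norm_num)
  rw [Set.ncard_eq_toFinset_card _ f32] at n32
  rw [Set.ncard_eq_toFinset_card _ f48] at n48
  rw [Set.ncard_eq_toFinset_card _ f64] at n64
  set A := f32.toFinset with hA
  set B := f48.toFinset with hB
  set D := f64.toFinset with hD
  have mA : ∀ u, u ∈ A ↔ u ∈ leechLattice ∧ sqNorm u = 32 := fun u => by rw [hA, Set.Finite.mem_toFinset]; rfl
  have mB : ∀ u, u ∈ B ↔ u ∈ leechLattice ∧ sqNorm u = 48 := fun u => by rw [hB, Set.Finite.mem_toFinset]; rfl
  have mD : ∀ u, u ∈ D ↔ u ∈ leechLattice ∧ sqNorm u = 64 := fun u => by rw [hD, Set.Finite.mem_toFinset]; rfl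
  have mAB : ∀ u ∈ A ∪ B, u ∈ leechLattice ∧ (sqNorm u = 32 ∨ sqNorm u = 48) := fun u hu => by
    rcases Finset.mem_union.1 hu with h | h
    · exact ⟨((mA u).1 h).1, Or.inl ((mA u).1 h).2⟩
    · exact ⟨((mB u).1 h).1, Or.inr ((mB u).1 h).2⟩
  have hAB : (A ∪ B).card = 16969680 := by
    rw [Finset.card_union_of_disjoint (Finset.disjoint_left.2 fun u ha hb => by
      have := ((mA u).1 ha).2
      rw [((mB u).1 hb).2] at this
      omega), n32, n48]
  have h1 : (A ∪ B).card ≤ 2 * ((A ∪ B).image cl).card := by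
    refine Finset.card_le_mul_card_image (A ∪ B) 2 fun b hb => ?_
    obtain ⟨u, hu, rfl⟩ := Finset.mem_image.1 hb
    refine (Finset.card_le_card (t := {u, -u}) ?_).trans Finset.card_le_two
    intro v hv
    rw [Finset.mem_filter] at hv
    rw [Finset.mem_insert, Finset.mem_singleton]
    have a := (mAB u hu).2
    have b := (mAB v hv.1).2
    rcases same_class (mAB v hv.1).1 (mAB u hu).1 hv.2 with e | e | ⟨e, -⟩
    · exact Or.inl e
    · exact Or.inr e
    · omega
  haveI : Finite (↥leechLattice ⧸ twoL.addSubgroupOf leechLattice) :=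
    Nat.finite_of_card_ne_zero (by rw [card_classes]; norm_num)
  haveI := Fintype.ofFinite (↥leechLattice ⧸ twoL.addSubgroupOf leechLattice)
  have hz : sqNorm (0 : GolayPt → ℤ) = 0 := by simp [sqNorm]
  have zero_mem : (0 : GolayPt → ℤ) ∈ leechLattice := AddSubgroup.zero_mem _
  have hdis : Disjoint ((A ∪ B).image cl) (insert (cl 0) (D.image cl)) := by
    rw [Finset.disjoint_left]
    intro b hb hb'
    obtain ⟨u, hu, rfl⟩ := Finset.mem_image.1 hb
    have a := (mAB u hu).2
    rw [Finset.mem_insert] at hb'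
    rcases hb' with e | e
    · rcases same_class (mAB u hu).1 zero_mem e with r | r | ⟨r, -⟩
      · rw [r, hz] at a; omega
      · rw [r, neg_zero, hz] at a; omega
      · omega
    · obtain ⟨v, hv, e⟩ := Finset.mem_image.1 e
      have b := ((mD v).1 hv).2
      rcases same_class (mAB u hu).1 ((mD v).1 hv).1 e.symm with r | r | ⟨r, -⟩
      · rw [r, b] at a; omega
      · have : sqNorm (-v) = sqNorm v := by simp [sqNorm]
        rw [r, this, b] at a; omega
      · omega
  have hnot : cl 0 ∉ D.image cl := fun h => by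
    obtain ⟨v, hv, e⟩ := Finset.mem_image.1 h
    have b := ((mD v).1 hv).2
    rcases same_class ((mD v).1 hv).1 zero_mem e with r | r | ⟨r, -⟩
    · rw [r, hz] at b; omega
    · rw [r, neg_zero, hz] at b; omega
    · omega
  have h2 := Finset.card_le_univ ((A ∪ B).image cl ∪ insert (cl 0) (D.image cl))
  rw [Finset.card_union_of_disjoint hdis, Finset.card_insert_of_notMem hnot, ← Nat.card_eq_fintype_card,
    card_classes] at h2
  have hD' : (D.image cl).card ≤ 8292375 := by omega
  have hfib : ∀ b ∈ D.image cl, (D.filter fun u => cl u = b).card ≤ 48 := fun b _ =>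
    fib_le _ (fun u hu => (mD u).1 (Finset.mem_filter.1 hu).1)
      (fun u hu v hv => (Finset.mem_filter.1 hu).2.trans (Finset.mem_filter.1 hv).2.symm)
  have hsum := Finset.card_eq_sum_card_image cl D
  have hle := Finset.sum_le_sum hfib
  have hall : ∀ b ∈ D.image cl, (D.filter fun u => cl u = b).card = 48 := by
    apply (Finset.sum_eq_sum_iff_of_le hfib).1
    rw [Finset.sum_const, smul_eq_mul] at hle ⊢
    omega
  have hxD : x ∈ D := (mD x).2 ⟨hx, hxn⟩
  have e : Cfsg.cross x = ↑(D.filter fun u => cl u = cl x) := by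
    ext y
    simp only [Cfsg.cross, Set.mem_ofPred_eq, Finset.coe_filter, mD, hxn]
    constructor
    · rintro ⟨hy, hn, hz'⟩
      exact ⟨⟨hy, hn⟩, ((cl_eq hx hy).2 hz').symm⟩
    · rintro ⟨⟨hy, hn⟩, hc⟩
      exact ⟨hy, hn, (cl_eq hx hy).1 hc.symm⟩
  rw [e, Set.ncard_coe_finset, hall _ (Finset.mem_image_of_mem cl hxD)]

end Cfsg.Agent.S1569
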