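import Cfsg.Statements.S1570
import Cfsg.Agent.Lib.Leech.Basic
import Cfsg.Agent.Lib.Golay.OctStab
-- import your own Cfsg.Agent.* helpers here

set_option autoImplicit false
open Cfsg

namespace Cfsg.Agent.S1570
set_option linter.constructorNameAsVariable false

open Cfsg Cfsg.Agent.Golay Cfsg.Agent.Leech

theorem z2 : ∀ a : ZMod 2, a = 0 ∨ a = 1 := by decide

theorem cover4 (b : GolayPt → ZMod 2) : ∃ c ∈ golayCode, (support₂ (b + c)).card ≤ 4 := by
  classical
  generalize hn : (support₂ b).card = n
  induction n using Nat.strong_induction_on generalizing b with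
  | _ n ih =>
    by_cases h4 : n ≤ 4
    · exact ⟨0, Submodule.zero_mem _, by rw [add_zero, hn]; exact h4⟩
    · obtain ⟨s, hs, hs5⟩ := Finset.exists_subset_card_eq (s := support₂ b) (n := 5) (by omega)
      obtain ⟨o, ⟨⟨⟨u, hu, hu'⟩, ho8⟩, hso⟩, -⟩ := octads_steiner.2 s hs5
      have e : support₂ (b + u) = symmDiff (support₂ b) o := by
        rw [← hu']
        ext i
        simp only [Finset.mem_symmDiff, support₂, Finset.mem_filter, Finset.mem_univ, true_and, Pi.add_apply]
        rcases z2 (b i) with p | p <;> rcases z2 (u i) with q | q <;> rw [p, q] <;> decide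
      have h5 : 5 ≤ (support₂ b ∩ o).card := hs5 ▸ Finset.card_le_card (Finset.subset_inter hs hso)
      have hlt : (support₂ (b + u)).card < n := by
        rw [e, symmDiff_def, Finset.sup_eq_union, Finset.card_union_of_disjoint disjoint_sdiff_sdiff]
        have := Finset.card_sdiff_add_card_inter (support₂ b) o
        have := Finset.card_sdiff_add_card_inter o (support₂ b)
        rw [Finset.inter_comm o] at this
        omega
      obtain ⟨c, hc, hle⟩ := ih _ hlt _ rfl
      exact ⟨u + c, Submodule.add_mem _ hu hc, by rwa [← add_assoc]⟩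

/-- Counting the classes of a projection of the code. -/
theorem cover (S : Finset GolayPt) (k : GolayPt → ZMod 2) (R : Finset (GolayPt → ZMod 2))
    (hker : ∀ c ∈ golayCode, (∀ i ∈ S, c i = 0) → c = 0 ∨ c = k)
    (hsep : ∀ r ∈ R, ∀ r' ∈ R, ∀ c ∈ golayCode, (∀ i ∈ S, c i = r i + r' i) → r = r')
    (hcard : 2 ^ S.card * 2 ≤ 4096 * R.card) (b : GolayPt → ZMod 2) :
    ∃ c ∈ golayCode, ∃ r ∈ R, ∀ i ∈ S, b i + c i = r i := by
  classical
  let C : Finset (GolayPt → ZMod 2) := (Set.toFinite (golayCode : Set (GolayPt → ZMod 2))).toFinset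
  have hC : ∀ w, w ∈ C ↔ w ∈ golayCode := fun w => Set.Finite.mem_toFinset _
  have hC4 : C.card = 4096 := by
    rw [← card_golayCode, ← Nat.card_eq_card_finite_toFinset]
    rfl
  let Φ : (GolayPt → ZMod 2) × (GolayPt → ZMod 2) → (S → ZMod 2) := fun p i => p.1 i.1 + p.2 i.1
  have hfib : ∀ a ∈ (C ×ˢ R).image Φ, ((C ×ˢ R).filter fun p => Φ p = a).card ≤ 2 := by
    intro a ha
    obtain ⟨⟨c₀, r₀⟩, hp, rfl⟩ := Finset.mem_image.1 ha
    rw [Finset.mem_product, hC] at hp
    refine (Finset.card_le_card (t := {(c₀, r₀), (c₀ + k, r₀)}) ?_).trans Finset.card_le_two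
    rintro ⟨c, r⟩ h
    rw [Finset.mem_filter, Finset.mem_product, hC] at h
    have he : ∀ i ∈ S, (c + c₀) i = r i + r₀ i := fun i hi => by
      have := congrFun h.2 ⟨i, hi⟩
      simp only [Φ] at this
      show c i + c₀ i = r i + r₀ i
      revert this
      generalize c i = p
      generalize c₀ i = q
      generalize r i = u
      generalize r₀ i = v
      revert p q u v
      decide
    have hr := hsep r h.1.2 r₀ hp.2 _ (Submodule.add_mem _ h.1.1 hp.1) he
    subst hr
    have hz : ∀ i ∈ S, (c + c₀) i = 0 := fun i hi => by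
      rw [he i hi]
      exact CharTwo.add_self_eq_zero _
    simp only [Finset.mem_insert, Finset.mem_singleton, Prod.mk.injEq, and_true]
    rcases hker _ (Submodule.add_mem _ h.1.1 hp.1) hz with q | q
    · left
      rw [← add_zero c, ← CharTwo.add_self_eq_zero c₀, ← add_assoc, q, zero_add]
    · right
      rw [← q, add_comm c, ← add_assoc, CharTwo.add_self_eq_zero, zero_add]
  have h1 := Finset.card_le_mul_card_image (s := C ×ˢ R) (f := Φ) 2 hfib
  rw [Finset.card_product, hC4] at h1
  have h2 : (C ×ˢ R).image Φ = Finset.univ := by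
    apply Finset.eq_univ_of_card
    refine le_antisymm (Finset.card_le_univ _) ?_
    rw [Fintype.card_fun, ZMod.card, Fintype.card_coe]
    omega
  have hb : (fun i : S => b i.1) ∈ (C ×ˢ R).image Φ := h2 ▸ Finset.mem_univ _
  obtain ⟨⟨c, r⟩, hp, e⟩ := Finset.mem_image.1 hb
  rw [Finset.mem_product, hC] at hp
  refine ⟨c, hp.1, r, hp.2, fun i hi => ?_⟩
  have := congrFun e ⟨i, hi⟩
  simp only [Φ] at this
  rw [← this]
  generalize c i = p
  generalize r i = u
  revert p u
  decide

theorem weight_cases {c : GolayPt → ZMod 2} (hc : c ∈ golayCode) :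
    hammingNorm c = 0 ∨ hammingNorm c = 8 ∨ hammingNorm c = 12 ∨ hammingNorm c = 16 ∨ hammingNorm c = 24 := by
  have := List.all_eq_true.mp weights_ok _ (mask_mem_codeList hc)
  simpa [hammingNorm_eq] using this

theorem supp_card (c : GolayPt → ZMod 2) : (support₂ c).card = hammingNorm c := rfl

theorem mem_supp₂ (c : GolayPt → ZMod 2) (i : GolayPt) : i ∈ support₂ c ↔ c i ≠ 0 := by simp [support₂]

/-- Off an octad the code has minimum weight 4. -/
theorem octad_off {w c : GolayPt → ZMod 2} (hw : w ∈ golayCode) (hw8 : hammingNorm w = 8)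
    (hc : c ∈ golayCode) (h : (support₂ c \ support₂ w).card ≤ 3) : c = 0 ∨ c = w := by
  classical
  have hsum := Finset.card_sdiff_add_card_inter (support₂ c) (support₂ w)
  have hle : (support₂ c ∩ support₂ w).card ≤ 8 :=
    (Finset.card_le_card Finset.inter_subset_right).trans_eq hw8
  rw [supp_card] at hsum
  rcases weight_cases hc with h0 | h0 | h0 | h0 | h0
  · exact Or.inl (hammingNorm_eq_zero.1 h0)
  · obtain ⟨s, hs, hs5⟩ := Finset.exists_subset_card_eq (s := support₂ c ∩ support₂ w) (n := 5) (by omega)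
    obtain ⟨o, -, ho⟩ := octads_steiner.2 s hs5
    have e1 := ho (support₂ c) ⟨⟨⟨c, hc, rfl⟩, h0⟩, hs.trans Finset.inter_subset_left⟩
    have e2 := ho (support₂ w) ⟨⟨⟨w, hw, rfl⟩, hw8⟩, hs.trans Finset.inter_subset_right⟩
    refine Or.inr (funext fun i => ?_)
    have hi := Finset.ext_iff.1 (e1.trans e2.symm) i
    rw [mem_supp₂, mem_supp₂] at hi
    revert hi
    generalize c i = p
    generalize w i = q
    revert p q
    decide
  all_goals omega

theorem cover_octad {w : GolayPt → ZMod 2} (hw : w ∈ golayCode) (hw8 : hammingNorm w = 8)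
    (b : GolayPt → ZMod 2) : ∃ c ∈ golayCode, (support₂ (b + c) \ support₂ w).card ≤ 2 := by
  classical
  set S := Finset.univ \ support₂ w with hS
  have hS16 : S.card = 16 := by
    rw [hS, Finset.card_univ_diff, supp_card, hw8]; rfl
  obtain ⟨j₀, hj₀⟩ := Finset.card_pos.1 (show 0 < S.card by omega)
  let T : Finset (Finset GolayPt) :=
    insert ∅ (S.image (fun i => {i}) ∪ (S.erase j₀).image (fun i => {i, j₀}))
  let ind : Finset GolayPt → GolayPt → ZMod 2 := fun t i => if i ∈ t then 1 else 0
  have hT : ∀ t ∈ T, t ⊆ S ∧ t.card ≤ 2 := by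
    intro t ht
    simp only [T, Finset.mem_insert, Finset.mem_union, Finset.mem_image, Finset.mem_erase] at ht
    rcases ht with rfl | ⟨i, hi, rfl⟩ | ⟨i, ⟨-, hi⟩, rfl⟩
    · simp
    · simp [hi]
    · exact ⟨by simp [Finset.insert_subset_iff, hi, hj₀], Finset.card_le_two⟩
  have hTsd : ∀ t ∈ T, ∀ t' ∈ T, (symmDiff t t').card ≤ 3 := by
    intro t ht t' ht'
    simp only [T, Finset.mem_insert, Finset.mem_union, Finset.mem_image, Finset.mem_erase] at ht ht'
    rcases ht with rfl | ⟨i, hi, rfl⟩ | ⟨i, -, rfl⟩ <;>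
      rcases ht' with rfl | ⟨j, hj, rfl⟩ | ⟨j, -, rfl⟩
    all_goals
      first
      | (refine (Finset.card_le_card (t := {i, j, j₀}) ?_).trans Finset.card_le_three
         intro x; simp [Finset.mem_symmDiff]; tauto)
      | (refine (Finset.card_le_card (t := {i, j₀}) ?_).trans (Finset.card_le_two.trans (by norm_num))
         intro x; simp [Finset.mem_symmDiff]; try tauto)
      | (refine (Finset.card_le_card (t := {j, j₀}) ?_).trans (Finset.card_le_two.trans (by norm_num))
         intro x; simp [Finset.mem_symmDiff]; try tauto)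
      | simp
  have hind : Function.Injective ind := fun t t' e => Finset.ext fun i => by
    have := congrFun e i
    simp only [ind] at this
    by_cases p : i ∈ t <;> by_cases q : i ∈ t' <;> simp_all
  have hTc : T.card = 32 := by
    rw [Finset.card_insert_of_notMem, Finset.card_union_of_disjoint, Finset.card_image_of_injective _
      Finset.singleton_injective, Finset.card_image_of_injOn, Finset.card_erase_of_mem hj₀, hS16]
    · intro i hi j hj e
      have h1 : i ∈ ({j, j₀} : Finset GolayPt) := by
        simp only at e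
        rw [← e]; exact Finset.mem_insert_self i _
      simp only [Finset.mem_insert, Finset.mem_singleton] at h1
      exact h1.resolve_right (Finset.mem_erase.1 hi).1
    · rw [Finset.disjoint_left]
      intro t h1 h2
      obtain ⟨i, -, rfl⟩ := Finset.mem_image.1 h1
      obtain ⟨j, hj, e⟩ := Finset.mem_image.1 h2
      have h1 := congrArg Finset.card e
      rw [Finset.card_pair (Finset.mem_erase.1 hj).1, Finset.card_singleton] at h1
      omega
    · simp [Finset.mem_image]
  obtain ⟨c, hc, r, hr, h⟩ := cover S w (T.image ind)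
    (fun c hc h => octad_off hw hw8 hc (by
      have : support₂ c \ support₂ w = ∅ := Finset.eq_empty_of_forall_notMem fun i hi => by
        rw [Finset.mem_sdiff, mem_supp₂] at hi
        exact hi.1 (h i (Finset.mem_sdiff.2 ⟨Finset.mem_univ i, hi.2⟩))
      simp [this]))
    (by
      intro r hr r' hr' c hc h
      obtain ⟨t, ht, rfl⟩ := Finset.mem_image.1 hr
      obtain ⟨t', ht', rfl⟩ := Finset.mem_image.1 hr'
      have hsd : support₂ c \ support₂ w = symmDiff t t' := by
        ext i
        rw [Finset.mem_sdiff, mem_supp₂, Finset.mem_symmDiff]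
        by_cases hi : i ∈ S
        · rw [h i hi]
          have : i ∉ support₂ w := (Finset.mem_sdiff.1 hi).2
          simp only [this, not_false_eq_true, and_true, ind]
          by_cases p : i ∈ t <;> by_cases q : i ∈ t' <;> simp [p, q]
          decide
        · have h1 : i ∈ support₂ w := by simpa [hS] using hi
          have h2 : i ∉ t := fun q => hi ((hT t ht).1 q)
          have h3 : i ∉ t' := fun q => hi ((hT t' ht').1 q)
          simp [h1, h2, h3]
      have := hTsd t ht t' ht'
      rcases octad_off hw hw8 hc (hsd ▸ this) with rfl | rfl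
      · rw [show support₂ (0 : GolayPt → ZMod 2) = ∅ by ext; simp [support₂], Finset.empty_sdiff] at hsd
        rw [symmDiff_eq_bot.1 hsd.symm]
      · rw [sdiff_self] at hsd
        rw [symmDiff_eq_bot.1 hsd.symm])
    (by rw [Finset.card_image_of_injective _ hind, hTc, hS16]; norm_num) b
  obtain ⟨t, ht, rfl⟩ := Finset.mem_image.1 hr
  refine ⟨c, hc, (Finset.card_le_card ?_).trans (hT t ht).2⟩
  intro i hi
  have hi2 := (Finset.mem_sdiff.1 hi).2
  rw [Finset.mem_sdiff, mem_supp₂, Pi.add_apply, h i (Finset.mem_sdiff.2 ⟨Finset.mem_univ i, hi2⟩)] at hi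
  by_contra q
  simp [ind, q] at hi

/-- On a dodecad the code induces all even words. -/
theorem cover_dodecad {w : GolayPt → ZMod 2} (hw : w ∈ golayCode) (hw12 : hammingNorm w = 12)
    (b : GolayPt → ZMod 2) : ∃ c ∈ golayCode, (support₂ (b + c) ∩ support₂ w).card ≤ 1 ∧
      (∑ i ∈ support₂ w, b i = 0 → ∀ i ∈ support₂ w, b i + c i = 0) := by
  classical
  obtain ⟨d, hd⟩ := Finset.card_pos.1 (show 0 < (support₂ w).card by rw [supp_card]; omega)
  let δ : GolayPt → ZMod 2 := fun i => if i = d then 1 else 0
  have horth : ∀ c ∈ golayCode, ∑ i ∈ support₂ w, c i = 0 := fun c hc => by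
    refine Eq.trans ?_ (self_orthogonal hc hw)
    rw [support₂, Finset.sum_filter]
    refine Finset.sum_congr rfl fun i _ => ?_
    rcases z2 (w i) with q | q <;> simp [q]
  have hδ : ∑ i ∈ support₂ w, δ i = 1 := by simp [δ, hd]
  obtain ⟨c, hc, r, hr, h⟩ := cover (support₂ w) (w + 1) {0, δ}
    (by
      intro c hc h
      have hdis : Disjoint (support₂ c) (support₂ w) := Finset.disjoint_left.2 fun i hi hi' =>
        (mem_supp₂ c i).1 hi (h i hi')
      have hu : support₂ (c + (w + 1)) = Finset.univ \ (support₂ c ∪ support₂ w) := by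
        ext i
        simp only [Finset.mem_sdiff, Finset.mem_univ, true_and, Finset.mem_union, mem_supp₂,
          Pi.add_apply, Pi.one_apply]
        by_cases hi : w i = 0
        · rcases z2 (c i) with q | q <;> simp [q, hi]; decide
        · have := h i ((mem_supp₂ w i).2 hi)
          rcases z2 (w i) with q | q
          · exact absurd q hi
          · simp [this, q]; decide
      have hcu : (support₂ c ∪ support₂ w).card = hammingNorm c + 12 := by
        rw [Finset.card_union_of_disjoint hdis, supp_card, supp_card, hw12]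
      have hle := Finset.card_le_univ (support₂ c ∪ support₂ w)
      have hn := congrArg Finset.card hu
      rw [Finset.card_univ_diff, supp_card, hcu] at hn
      rw [hcu] at hle
      have h24 : Fintype.card GolayPt = 24 := rfl
      rw [h24] at hn hle
      rcases weight_cases hc with h0 | h0 | h0 | h0 | h0
      · exact Or.inl (hammingNorm_eq_zero.1 h0)
      · have := weight_cases (Submodule.add_mem _ hc (Submodule.add_mem _ hw one_mem_code))
        omega
      · right
        have : c + (w + 1) = 0 := hammingNorm_eq_zero.1 (by omega)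
        rw [← add_zero c, ← CharTwo.add_self_eq_zero (w + 1), ← add_assoc, this, zero_add]
      all_goals omega)
    (by
      intro r hr r' hr' c hc h
      have := horth c hc
      rw [Finset.sum_congr rfl h, Finset.sum_add_distrib] at this
      simp only [Finset.mem_insert, Finset.mem_singleton] at hr hr'
      rcases hr with rfl | rfl <;> rcases hr' with rfl | rfl
      all_goals first | rfl | simp [hδ] at this)
    (by
      rw [Finset.card_pair, supp_card, hw12]
      · norm_num
      intro q
      have := congrFun q d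
      simp [δ] at this) b
  refine ⟨c, hc, ?_, fun hb i hi => ?_⟩
  · refine (Finset.card_le_card (t := {d}) ?_).trans (Finset.card_singleton d).le
    intro i hi
    rw [Finset.mem_inter, mem_supp₂, Pi.add_apply, h i hi.2] at hi
    simp only [Finset.mem_insert, Finset.mem_singleton] at hr ⊢
    rcases hr with rfl | rfl
    · exact absurd rfl hi.1
    · by_contra q; exact hi.1 (by simp [δ, q])
  · have h1 : ∑ i ∈ support₂ w, r i = 0 := by
      rw [← Finset.sum_congr rfl h, Finset.sum_add_distrib, hb, horth c hc, add_zero]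
    simp only [Finset.mem_insert, Finset.mem_singleton] at hr
    rcases hr with rfl | rfl
    · exact h i hi
    · rw [hδ] at h1
      exact absurd h1 one_ne_zero

/-- The odd vector with one exceptional coordinate. -/
def odd3 (w : GolayPt → ZMod 2) (k : GolayPt) : GolayPt → ℤ :=
  fun j => if j = k then (if w j = 0 then -3 else 3) else (if w j = 0 then 1 else -1)

theorem odd3_mem {w : GolayPt → ZMod 2} (hw : w ∈ golayCode) (k : GolayPt) : odd3 w k ∈ leechLattice := by
  refine (mem_lattice_iff _).2 ⟨1, w, hw, fun j => ?_, ?_⟩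
  · simp only [odd3, lift]
    unfold Int.ModEq
    split_ifs <;> rfl
  · have e : ∀ j, odd3 w k j = (1 - 2 * lift w j) - (if j = k then (if w k = 0 then 4 else -4) else 0) := by
      intro j
      simp only [odd3, lift]
      by_cases hj : j = k
      · subst hj; by_cases h : w j = 0 <;> simp [h]
      · by_cases h : w j = 0 <;> simp [hj, h]
    obtain ⟨r, hr⟩ := four_dvd_weight hw
    rw [Finset.sum_congr rfl fun j _ => e j, Finset.sum_sub_distrib, Finset.sum_ite_eq',
      if_pos (Finset.mem_univ k), Finset.sum_sub_distrib, ← Finset.mul_sum, Finset.sum_const,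
      show (Finset.univ : Finset GolayPt).card = 24 from rfl, hr]
    simp only [nsmul_eq_mul, mul_one, Nat.cast_ofNat]
    unfold Int.ModEq
    split_ifs <;> omega

/-- One coordinate shifted. -/
def bump (y : GolayPt → ℤ) (k : GolayPt) (a : ℤ) : GolayPt → ℤ :=
  fun i => y i + if i = k then a else 0

theorem sq_bump (y : GolayPt → ℤ) (k : GolayPt) (a : ℤ) :
    sqNorm (bump y k a) = sqNorm y + (2 * y k * a + a ^ 2) := by
  have e : ∀ i, bump y k a i ^ 2 = y i ^ 2 + (if i = k then 2 * y k * a + a ^ 2 else 0) := fun i => by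
    simp only [bump]
    split_ifs with h
    · subst h; ring
    · ring
  simp [sqNorm, e, Finset.sum_add_distrib]

theorem near {x y : GolayPt → ℤ} {c : GolayPt → ZMod 2} (hc : c ∈ golayCode) (k : GolayPt)
    (ε : ℤ) (hε : ε = 1 ∨ ε = -1) (h : ∀ i, (8 : ℤ) ∣ x i - y i - 4 * lift c i) :
    (∃ z ∈ leechLattice, x - y = 2 • z) ∨ ∃ z ∈ leechLattice, x - bump y k (8 * ε) = 2 • z := by
  classical
  choose d hd using h
  obtain ⟨r, hr⟩ := four_dvd_weight hc
  have mem : ∀ e : GolayPt → ℤ, (∑ i, e i) % 2 = 0 → (fun i => 4 * e i + 2 * lift c i) ∈ leechLattice := by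
    intro e he
    refine (mem_lattice_iff _).2 ⟨0, c, hc, fun i => ?_, ?_⟩
    · dsimp only
      unfold Int.ModEq
      omega
    · rw [Finset.sum_add_distrib, ← Finset.mul_sum, ← Finset.mul_sum, hr]
      unfold Int.ModEq
      omega
  by_cases hp : (∑ i, d i) % 2 = 0
  · refine Or.inl ⟨_, mem d hp, funext fun i => ?_⟩
    have := hd i
    simp only [Pi.sub_apply, two_nsmul, Pi.add_apply]
    omega
  · refine Or.inr ⟨_, mem (bump d k (-ε)) ?_, funext fun i => ?_⟩
    · simp only [bump, Finset.sum_add_distrib, Finset.sum_ite_eq', Finset.mem_univ, if_true]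
      omega
    · have := hd i
      simp only [bump, Pi.sub_apply, two_nsmul, Pi.add_apply]
      split_ifs <;> omega

/-- The goal for a class. -/
def Good (x : GolayPt → ℤ) : Prop :=
  ∃ y ∈ leechLattice, sqNorm y ≤ 64 ∧ ∃ z ∈ leechLattice, x - y = 2 • z

theorem good_of {x y z : GolayPt → ℤ} (hx : x ∈ leechLattice) (hz : z ∈ leechLattice)
    (h : x - y = 2 • z) (hn : sqNorm y ≤ 64) : Good x := by
  refine ⟨y, ?_, hn, z, hz, h⟩
  rw [show y = x - 2 • z by rw [← h, sub_sub_cancel]]
  exact AddSubgroup.sub_mem _ hx (AddSubgroup.nsmul_mem _ hz 2)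

theorem good_shift {x x' v : GolayPt → ℤ} (hv : v ∈ leechLattice) (h : x - x' = 2 • v) (hg : Good x') :
    Good x := by
  obtain ⟨y, hy, hn, z, hz, e⟩ := hg
  exact ⟨y, hy, hn, v + z, AddSubgroup.add_mem _ hv hz, by rw [smul_add, ← h, ← e]; abel⟩

theorem good_odd {x : GolayPt → ℤ} (hx : x ∈ leechLattice) {m : ℤ} {w : GolayPt → ZMod 2} (hw : w ∈ golayCode)
    (hm : m % 2 = 1) (he : ∀ i, x i ≡ m + 2 * lift w i [ZMOD 4]) (hsum : ∑ i, x i ≡ 4 * m [ZMOD 8]) :
    Good x := by
  classical
  let b : GolayPt → ZMod 2 := fun i => if x i % 8 = 3 ∨ x i % 8 = 5 then 1 else 0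
  obtain ⟨c, hc, h4⟩ := cover4 b
  let y : GolayPt → ℤ := fun i => if (x i - 4 * lift c i) % 8 = 1 then 1
    else if (x i - 4 * lift c i) % 8 = 3 then 3 else if (x i - 4 * lift c i) % 8 = 5 then -3 else -1
  have hodd : ∀ i, x i % 2 = 1 := fun i => by
    have := he i
    unfold Int.ModEq at this
    omega
  have hy : ∀ i, (8 : ℤ) ∣ x i - y i - 4 * lift c i := fun i => by
    have := hodd i
    simp only [y]
    split_ifs <;> omega
  obtain ⟨u, hu, hum⟩ : ∃ u : ℤ, (u = 1 ∨ u = -1) ∧ u % 4 = m % 4 := by
    by_cases h : m % 4 = 1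
    · exact ⟨1, Or.inl rfl, by omega⟩
    · exact ⟨-1, Or.inr rfl, by omega⟩
  set A := support₂ (b + c) with hA
  have hAy : ∀ i, (i ∈ A ∧ (y i = 3 ∨ y i = -3)) ∨ (i ∉ A ∧ (y i = 1 ∨ y i = -1)) := fun i => by
    have := hodd i
    simp only [hA, mem_supp₂, Pi.add_apply, b, y, lift]
    rcases z2 (c i) with q | q <;>
      by_cases h : x i % 8 = 3 ∨ x i % 8 = 5 <;>
      simp only [q, h, if_true, if_false, one_ne_zero, add_zero, zero_add, ne_eq, not_false_eq_true,
        not_true_eq_false, true_and, false_and, or_false, false_or, show (1 : ZMod 2) + 1 = 0 from rfl] <;>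
      split_ifs <;> omega
  have hcong : ∀ i, y i ≡ u - 2 * (u * lift w i) + 4 * (if i ∈ A then 1 else 0) [ZMOD 8] := fun i => by
    have h1 := he i
    have h2 := hy i
    have h3 : lift w i = 0 ∨ lift w i = 1 := by simp only [lift]; split_ifs <;> simp
    have h4' : lift c i = 0 ∨ lift c i = 1 := by simp only [lift]; split_ifs <;> simp
    unfold Int.ModEq at *
    rcases hu with rfl | rfl <;> rcases hAy i with ⟨p, q | q⟩ | ⟨p, q | q⟩ <;>
      simp only [p, if_true, if_false, q] <;> omega
  have hs1 : ∑ i, y i ≡ 24 * u - 2 * (u * ∑ i, lift w i) + 4 * (A.card : ℤ) [ZMOD 8] := by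
    have := Int.ModEq.sum (s := Finset.univ) fun i _ => hcong i
    rw [Finset.sum_add_distrib, Finset.sum_sub_distrib, Finset.sum_const, ← Finset.mul_sum,
      ← Finset.mul_sum, ← Finset.mul_sum, Finset.sum_boole, Finset.filter_mem_eq_inter, Finset.univ_inter,
      show (Finset.univ : Finset GolayPt).card = 24 from rfl] at this
    simpa [nsmul_eq_mul] using this
  have hs2 : ∑ i, y i ≡ ∑ i, x i - 4 * ∑ i, lift c i [ZMOD 8] := by
    rw [Finset.mul_sum, ← Finset.sum_sub_distrib]
    refine Int.ModEq.sum fun i _ => ?_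
    have := hy i
    unfold Int.ModEq
    omega
  have hApar : A.card % 2 = 1 := by
    obtain ⟨r, hr⟩ := four_dvd_weight hw
    obtain ⟨r', hr'⟩ := four_dvd_weight hc
    unfold Int.ModEq at *
    rw [hr] at hs1
    rw [hr'] at hs2
    rcases hu with rfl | rfl <;> omega
  have hnorm : sqNorm y = 24 + 8 * (A.card : ℤ) := by
    have e : ∀ i, y i ^ 2 = 1 + (if i ∈ A then 8 else 0) := fun i => by
      rcases hAy i with ⟨p, q | q⟩ | ⟨p, q | q⟩ <;> simp [p, q]
    rw [sqNorm, Finset.sum_congr rfl fun i _ => e i, Finset.sum_add_distrib, Finset.sum_const,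
      Finset.sum_ite_mem, Finset.univ_inter, Finset.sum_const,
      show (Finset.univ : Finset GolayPt).card = 24 from rfl]
    simp [nsmul_eq_mul, mul_comm]
  obtain ⟨k, hk⟩ := Finset.card_pos.1 (show 0 < A.card by omega)
  rcases hAy k with ⟨-, hk3⟩ | ⟨q, -⟩
  swap
  · exact absurd hk q
  obtain ⟨ε, hε, hyk⟩ : ∃ ε : ℤ, (ε = 1 ∨ ε = -1) ∧ y k = -3 * ε := by
    rcases hk3 with q | q
    · exact ⟨-1, Or.inr rfl, by omega⟩
    · exact ⟨1, Or.inl rfl, by omega⟩
  rcases near hc k ε hε hy with ⟨z, hz, e⟩ | ⟨z, hz, e⟩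
  · exact good_of hx hz e (by rw [hnorm]; omega)
  · refine good_of hx hz e ?_
    rw [sq_bump, hnorm, hyk]
    rcases hε with rfl | rfl <;> norm_num <;> omega

theorem good_even {x : GolayPt → ℤ} (hx : x ∈ leechLattice) {w : GolayPt → ZMod 2} (hw : w ∈ golayCode)
    (hwt : hammingNorm w = 0 ∨ hammingNorm w = 8 ∨ hammingNorm w = 12)
    (he : ∀ i, x i ≡ 2 * lift w i [ZMOD 4]) (hsum : ∑ i, x i ≡ 0 [ZMOD 8]) : Good x := by
  classical
  let b : GolayPt → ZMod 2 := fun i => if x i % 8 = 4 then 1 else 0
  obtain ⟨c, hc, hB⟩ : ∃ c ∈ golayCode, 4 * (hammingNorm w : ℤ) +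
      16 * ((support₂ (b + c) \ support₂ w).card : ℤ) ≤ 64 := by
    rcases hwt with h | h | h
    · obtain ⟨c, hc, h'⟩ := cover4 b
      refine ⟨c, hc, ?_⟩
      have := Finset.card_le_card (Finset.sdiff_subset (s := support₂ (b + c)) (t := support₂ w))
      omega
    · obtain ⟨c, hc, h'⟩ := cover_octad hw h b
      exact ⟨c, hc, by omega⟩
    · have h12 : hammingNorm (w + 1) = 12 := by
        have e : support₂ (w + 1) = Finset.univ \ support₂ w := by
          ext i
          simp only [Finset.mem_sdiff, Finset.mem_univ, true_and, mem_supp₂, Pi.add_apply, Pi.one_apply]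
          rcases z2 (w i) with q | q <;> rw [q] <;> decide
        rw [← supp_card, e, Finset.card_univ_diff, supp_card, h]; rfl
      obtain ⟨c, hc, h', -⟩ := cover_dodecad (Submodule.add_mem _ hw one_mem_code) h12 b
      refine ⟨c, hc, ?_⟩
      have e : support₂ (b + c) \ support₂ w = support₂ (b + c) ∩ support₂ (w + 1) := by
        ext i
        simp only [Finset.mem_sdiff, Finset.mem_inter, mem_supp₂, Pi.add_apply, Pi.one_apply]
        rcases z2 (w i) with q | q <;> simp [q, show (1 : ZMod 2) + 1 = 0 from rfl]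
      rw [e]
      omega
  let y : GolayPt → ℤ := fun i => if (x i - 4 * lift c i) % 8 = 2 then 2
    else if (x i - 4 * lift c i) % 8 = 6 then -2 else if (x i - 4 * lift c i) % 8 = 4 then -4 else 0
  have hev : ∀ i, x i % 2 = 0 := fun i => by
    have := he i
    unfold Int.ModEq at this
    omega
  have hy : ∀ i, (8 : ℤ) ∣ x i - y i - 4 * lift c i := fun i => by
    have := hev i
    simp only [y]
    split_ifs <;> omega
  set B := support₂ (b + c) \ support₂ w with hBd
  have hyi : ∀ i, (w i ≠ 0 ∧ i ∉ B ∧ (y i = 2 ∨ y i = -2)) ∨ (w i = 0 ∧ i ∈ B ∧ y i = -4) ∨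
      (w i = 0 ∧ i ∉ B ∧ y i = 0) := fun i => by
    have h1 := he i
    unfold Int.ModEq at h1
    simp only [hBd, Finset.mem_sdiff, mem_supp₂, Pi.add_apply, b, y, lift] at h1 ⊢
    rcases z2 (c i) with q | q <;> rcases z2 (w i) with p | p <;>
      by_cases h : x i % 8 = 4 <;>
      simp only [q, p, h, if_true, if_false, one_ne_zero, zero_ne_one, add_zero, zero_add, ne_eq,
        not_false_eq_true, not_true_eq_false, true_and, false_and, and_true, and_false, or_false, false_or,
        show (1 : ZMod 2) + 1 = 0 from rfl] at h1 ⊢ <;>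
      split_ifs <;> omega
  have hnorm : sqNorm y = 4 * (hammingNorm w : ℤ) + 16 * (B.card : ℤ) := by
    have e : ∀ i, y i ^ 2 = 4 * lift w i + (if i ∈ B then 16 else 0) := fun i => by
      rcases hyi i with ⟨p, q, r | r⟩ | ⟨p, q, r⟩ | ⟨p, q, r⟩ <;> simp [lift, p, q, r]
    rw [sqNorm, Finset.sum_congr rfl fun i _ => e i, Finset.sum_add_distrib, ← Finset.mul_sum, sum_lift,
      Finset.sum_ite_mem, Finset.univ_inter, Finset.sum_const, nsmul_eq_mul]
    ring
  by_cases hB0 : B.Nonempty
  · obtain ⟨k, hk⟩ := hB0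
    have hyk : y k = -4 := by
      rcases hyi k with ⟨-, q, -⟩ | ⟨-, -, q⟩ | ⟨-, q, -⟩
      · exact absurd hk q
      · exact q
      · exact absurd hk q
    rcases near hc k 1 (Or.inl rfl) hy with ⟨z, hz, e⟩ | ⟨z, hz, e⟩
    · exact good_of hx hz e (by rw [hnorm]; omega)
    · refine good_of hx hz e ?_
      rw [sq_bump, hnorm, hyk]
      norm_num
      omega
  · rw [Finset.not_nonempty_iff_eq_empty] at hB0
    rw [hB0, Finset.card_empty, Nat.cast_zero, mul_zero, add_zero] at hnorm
    rcases hwt with h | h
    · have hw0 : w = 0 := hammingNorm_eq_zero.1 h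
      rcases near hc (none : GolayPt) 1 (Or.inl rfl) hy with ⟨z, hz, e⟩ | ⟨z, hz, e⟩
      · exact good_of hx hz e (by rw [hnorm, h]; norm_num)
      · refine good_of hx hz e ?_
        rw [sq_bump, hnorm, h]
        have : y none = 0 := by
          rcases hyi none with ⟨p, -, -⟩ | ⟨-, p, -⟩ | ⟨-, -, p⟩
          · exact absurd (by rw [hw0]; rfl) p
          · simp [hB0] at p
          · exact p
        rw [this]; norm_num
    · obtain ⟨k, hk⟩ := Finset.card_pos.1 (show 0 < (support₂ w).card by rw [supp_card]; omega)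
      rw [mem_supp₂] at hk
      obtain ⟨ε, hε, hyk⟩ : ∃ ε : ℤ, (ε = 1 ∨ ε = -1) ∧ y k = -2 * ε := by
        rcases hyi k with ⟨-, -, q | q⟩ | ⟨p, -, -⟩ | ⟨p, -, -⟩
        · exact ⟨-1, Or.inr rfl, by omega⟩
        · exact ⟨1, Or.inl rfl, by omega⟩
        · exact absurd p hk
        · exact absurd p hk
      rcases near hc k ε hε hy with ⟨z, hz, e⟩ | ⟨z, hz, e⟩
      · exact good_of hx hz e (by rw [hnorm]; omega)
      rcases h with h | h
      · refine good_of hx hz e ?_
        rw [sq_bump, hnorm, hyk, h]
        rcases hε with rfl | rfl <;> norm_num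
      let N : GolayPt → ZMod 2 := fun i => if y i = -2 then 1 else 0
      have hNeven : ∑ i ∈ support₂ w, N i = 0 := by
        rw [Finset.sum_boole, ZMod.natCast_eq_zero_iff_even, even_iff_two_dvd]
        have e2 : ∀ i, y i = 2 * lift w i - 4 * (if i ∈ (support₂ w).filter (fun j => y j = -2) then 1 else 0) := by
          intro i
          simp only [Finset.mem_filter, mem_supp₂, lift]
          rcases hyi i with ⟨p, q, r | r⟩ | ⟨p, q, r⟩ | ⟨p, q, r⟩
          · simp [p, r]
          · simp [p, r]
          · simp [hB0] at q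
          · simp [p, r]
        have hs2 : ∑ i, y i ≡ ∑ i, x i - 4 * ∑ i, lift c i [ZMOD 8] := by
          rw [Finset.mul_sum, ← Finset.sum_sub_distrib]
          refine Int.ModEq.sum fun i _ => ?_
          have := hy i
          unfold Int.ModEq
          omega
        rw [Finset.sum_congr rfl fun i _ => e2 i, Finset.sum_sub_distrib, ← Finset.mul_sum, sum_lift,
          ← Finset.mul_sum, Finset.sum_boole, Finset.filter_mem_eq_inter, Finset.univ_inter, h] at hs2
        obtain ⟨r', hr'⟩ := four_dvd_weight hc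
        rw [hr'] at hs2
        unfold Int.ModEq at hs2 hsum
        omega
      obtain ⟨c', hc', -, hc'0⟩ := cover_dodecad hw h N
      have hv := odd3_mem hc' k
      refine good_of hx (AddSubgroup.add_mem _ hz hv)
        (y := bump y k (8 * ε) - 2 • odd3 c' k) (by rw [smul_add, ← e]; abel) ?_
      have e3 : ∀ i, (bump y k (8 * ε) - 2 • odd3 c' k) i ^ 2 = 4 * (1 - lift w i) := by
        intro i
        simp only [bump, odd3, Pi.sub_apply, two_nsmul, Pi.add_apply, lift]
        rcases hyi i with ⟨p, q, r | r⟩ | ⟨p, q, r⟩ | ⟨p, q, r⟩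
        · have := hc'0 hNeven i ((mem_supp₂ w i).2 p)
          simp only [N, r, show (2 : ℤ) ≠ -2 by norm_num, if_false, zero_add] at this
          simp only [this, p, if_true, if_false, r]
          split_ifs with hik
          · subst hik
            rw [r] at hyk
            rcases hε with rfl | rfl <;> first | (exfalso; omega) | norm_num
          · norm_num
        · have := hc'0 hNeven i ((mem_supp₂ w i).2 p)
          simp only [N, r, if_true] at this
          have hci : c' i ≠ 0 := fun q => by rw [q, add_zero] at this; exact one_ne_zero this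
          simp only [hci, p, if_false, r]
          split_ifs with hik
          · subst hik
            rw [r] at hyk
            rcases hε with rfl | rfl <;> first | (exfalso; omega) | norm_num
          · norm_num
        · simp [hB0] at q
        · have hik : i ≠ k := fun q => hk (q ▸ p)
          simp only [hik, if_false, p, if_true, r]
          split_ifs <;> norm_num
      rw [sqNorm, Finset.sum_congr rfl fun i _ => e3 i, ← Finset.mul_sum, Finset.sum_sub_distrib, sum_lift,
        Finset.sum_const, show (Finset.univ : Finset GolayPt).card = 24 from rfl, h]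
      norm_num

theorem good_all {x : GolayPt → ℤ} (hx : x ∈ leechLattice) : Good x := by
  classical
  obtain ⟨m, w, hw, he, hsum⟩ := (mem_lattice_iff x).1 hx
  by_cases hm : m % 2 = 1
  · exact good_odd hx hw hm he hsum
  obtain ⟨w, hw, he⟩ : ∃ w' ∈ golayCode, ∀ i, x i ≡ 2 * lift w' i [ZMOD 4] := by
    by_cases h4 : m % 4 = 0
    · exact ⟨w, hw, fun i => by have := he i; unfold Int.ModEq at *; omega⟩
    · refine ⟨w + 1, Submodule.add_mem _ hw one_mem_code, fun i => ?_⟩
      have := he i
      simp only [lift, Pi.add_apply, Pi.one_apply] at this ⊢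
      rcases z2 (w i) with q | q <;>
        simp only [q, zero_add, one_ne_zero, if_true, if_false, show (1 : ZMod 2) + 1 = 0 from rfl] at this ⊢ <;>
        (unfold Int.ModEq at *; omega)
  have hsum0 : ∑ i, x i ≡ 0 [ZMOD 8] := by unfold Int.ModEq at *; omega
  rcases weight_cases hw with h | h | h | h | h
  · exact good_even hx hw (Or.inl h) he hsum0
  · exact good_even hx hw (Or.inr (Or.inl h)) he hsum0
  · exact good_even hx hw (Or.inr (Or.inr h)) he hsum0
  all_goals
    have hv := odd3_mem (Submodule.zero_mem golayCode) (none : GolayPt)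
    set v := odd3 (0 : GolayPt → ZMod 2) (none : GolayPt) with hvd
    have hx' : x - 2 • v ∈ leechLattice := AddSubgroup.sub_mem _ hx (AddSubgroup.nsmul_mem _ hv 2)
    refine good_shift hv (x' := x - 2 • v) (sub_sub_cancel _ _) ?_
    have hsum' : ∑ i, (x - 2 • v) i ≡ 0 [ZMOD 8] := by
      have ev : ∑ i, v i = 20 := by rw [hvd]; decide +kernel
      simp only [Pi.sub_apply, two_nsmul, Pi.add_apply]
      rw [Finset.sum_sub_distrib, Finset.sum_add_distrib, ev]
      unfold Int.ModEq at *
      omega
    refine good_even hx' (Submodule.add_mem _ hw one_mem_code) ?_ (fun i => ?_) hsum'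
    · have e : support₂ (w + 1) = Finset.univ \ support₂ w := by
        ext i
        simp only [Finset.mem_sdiff, Finset.mem_univ, true_and, mem_supp₂, Pi.add_apply, Pi.one_apply]
        rcases z2 (w i) with q | q <;> rw [q] <;> decide
      have hc := congrArg Finset.card e
      rw [Finset.card_univ_diff, supp_card, supp_card, h, show Fintype.card GolayPt = 24 from rfl] at hc
      omega
    · have := he i
      simp only [hvd, two_nsmul, odd3, lift, Pi.add_apply, Pi.one_apply, Pi.sub_apply,
        Pi.zero_apply, if_true] at this ⊢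
      rcases z2 (w i) with q | q <;>
        simp only [q, zero_add, one_ne_zero, if_true, if_false, show (1 : ZMod 2) + 1 = 0 from rfl] at this ⊢ <;>
        (unfold Int.ModEq at *; split_ifs <;> omega)


/-- Every congruence class of the lattice modulo twice the lattice contains a vector of customary norm at most 8. -/
theorem result (x : Cfsg.GolayPt → ℤ) (hx : x ∈ Cfsg.leechLattice) : ∃ y ∈ Cfsg.leechLattice, Cfsg.sqNorm y ≤ 64 ∧ ∃ z ∈ Cfsg.leechLattice, x - y = 2 • z := by
  skip
  classical
  exact good_all hx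

end Cfsg.Agent.S1570
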