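import Cfsg.Statements.S1571
import Cfsg.Agent.Lib.Leech.Basic
import Cfsg.Agent.Lib.Golay.OctStab
import Cfsg.Agent.Lib.Golay.M24
-- import your own Cfsg.Agent.* helpers here

set_option autoImplicit false
open scoped Pointwise
open Cfsg

namespace Cfsg.Agent.S1571
set_option linter.constructorNameAsVariable false

open Cfsg Cfsg.Agent.Golay Cfsg.Agent.Leech
open scoped Pointwise

/-- Eight times a coordinate vector. -/
def eight (i : GolayPt) : ↥leechLattice :=
  ⟨Pi.single i 8, (mem_lattice_iff _).2 ⟨0, 0, Submodule.zero_mem _, fun j => by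
    simp only [lift, Pi.zero_apply, if_true, Pi.single_apply]
    unfold Int.ModEq
    split_ifs <;> rfl, by
    rw [Finset.sum_pi_single']
    simp [Int.ModEq]⟩⟩

/-- The stabiliser predicate. -/
def Stab (g : ↥Co0) : Prop :=
  ∀ v : ↥leechLattice, (v : GolayPt → ℤ) ∈ stdCross → ((g • v : ↥leechLattice) : GolayPt → ℤ) ∈ stdCross

theorem structure_of {g : ↥Co0} (hg : Stab g) : ∃ σ ∈ M24, ∃ c ∈ supports (golayCode : Set (GolayPt → ZMod 2)),
    ∀ v : ↥leechLattice, ((g • v : ↥leechLattice) : GolayPt → ℤ) = signedPerm σ c (v : GolayPt → ℤ) := by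
  classical
  let φ : ↥leechLattice →+ (GolayPt → ℤ) :=
    AddMonoidHom.mk' (fun v => ((g • v : ↥leechLattice) : GolayPt → ℤ)) (fun v w => by
      show (((g : Equiv.Perm ↥leechLattice) (v + w) : ↥leechLattice) : GolayPt → ℤ) = _
      rw [g.2.1 v w, AddSubgroup.coe_add]
      rfl)
  have φinj : Function.Injective φ := fun a b e => MulAction.injective g (Subtype.ext e)
  have hE : ∀ i, ∃ k : GolayPt, ∃ s : ℤ, (s = 8 ∨ s = -8) ∧ φ (eight i) = Pi.single k s :=
    fun i => hg (eight i) ⟨i, 8, Or.inl rfl, rfl⟩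
  choose σ₀ s hs hφ using hE
  have hinj : Function.Injective σ₀ := by
    intro i j e
    have hval : ∀ a b : GolayPt, eight a = eight b ∨ eight a = -eight b → a = b := fun a b h => by
      by_contra hne
      rcases h with h | h
      · have := congrFun (congrArg Subtype.val h) a
        simp [eight, Pi.single_apply, hne] at this
      · have := congrFun (congrArg Subtype.val h) a
        simp [eight, Pi.single_apply, hne] at this
    refine hval i j ?_
    rcases hs i with a | a <;> rcases hs j with b | b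
    · exact Or.inl (φinj (by rw [hφ, hφ, e, a, b]))
    · exact Or.inr (φinj (by rw [map_neg, hφ, hφ, e, a, b, ← Pi.single_neg, neg_neg]))
    · exact Or.inr (φinj (by rw [map_neg, hφ, hφ, e, a, b, ← Pi.single_neg]))
    · exact Or.inl (φinj (by rw [hφ, hφ, e, a, b]))
  let σ : Equiv.Perm GolayPt := Equiv.ofBijective σ₀ (Finite.injective_iff_bijective.1 hinj)
  let c : Finset GolayPt := Finset.univ.filter fun j => s (σ.symm j) = -8
  have hform : ∀ v : ↥leechLattice, ((g • v : ↥leechLattice) : GolayPt → ℤ) = signedPerm σ c (v : GolayPt → ℤ) := by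
    intro v
    have h8 : (8 : ℤ) • v = ∑ i, (v.1 i) • eight i := by
      refine Subtype.ext (funext fun j => ?_)
      rw [AddSubgroup.coe_zsmul, AddSubmonoidClass.coe_finset_sum, Finset.sum_apply, Pi.smul_apply, smul_eq_mul]
      simp only [AddSubgroup.coe_zsmul, eight, Pi.smul_apply, Pi.single_apply, smul_eq_mul, mul_ite, mul_zero,
        Finset.sum_ite_eq, Finset.mem_univ, if_true]
      ring
    funext j
    have := congrFun (congrArg φ h8) j
    rw [map_zsmul, map_sum, Finset.sum_apply] at this
    simp only [map_zsmul, hφ, Pi.smul_apply, smul_eq_mul] at this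
    rw [Finset.sum_eq_single (σ.symm j) (fun b _ hb => by
      rw [Pi.single_eq_of_ne, mul_zero]
      exact fun q => hb (σ.injective (by rw [Equiv.apply_symm_apply]; exact q.symm)))
      (fun h => absurd (Finset.mem_univ _) h)] at this
    have hk : σ₀ (σ.symm j) = j := σ.apply_symm_apply j
    rw [hk, Pi.single_eq_same] at this
    change φ v j = _
    simp only [signedPerm, c, Finset.mem_filter, Finset.mem_univ, true_and]
    rcases hs (σ.symm j) with a | a <;> rw [a] at this ⊢
    · rw [if_neg (by norm_num)]; omega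
    · rw [if_pos rfl]; omega
  refine ⟨σ, ?_, c, ?_, hform⟩
  · rw [M24_eq_octads]
    refine (MulAction.mem_stabilizer_set_iff_smul_set_subset (Set.toFinite _)).2 ?_
    rintro _ ⟨o, ⟨⟨w, hw, rfl⟩, h8⟩, rfl⟩
    have hx : (fun i => 2 * lift w i) ∈ leechLattice := by
      refine (mem_lattice_iff _).2 ⟨0, w, hw, fun i => by simp [Int.ModEq], ?_⟩
      rw [← Finset.mul_sum, sum_lift, show hammingNorm w = 8 from h8]
      rfl
    obtain ⟨m, w', hw', he, -⟩ := (mem_lattice_iff _).1 (g • (⟨_, hx⟩ : ↥leechLattice)).2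
    rw [hform] at he
    have hm : ∀ i, (lift w (σ.symm i) = 0 ∧ (m + 2 * lift w' i) % 4 = 0) ∨
        (lift w (σ.symm i) = 1 ∧ (m + 2 * lift w' i) % 4 = 2) := fun i => by
      have := he i
      simp only [signedPerm] at this
      unfold Int.ModEq at this
      by_cases h : w (σ.symm i) = 0
      · left
        simp only [lift, h, if_true, mul_zero, neg_zero, ite_self] at this ⊢
        refine ⟨trivial, ?_⟩
        omega
      · right
        simp only [lift, h, if_false] at this ⊢
        refine ⟨trivial, ?_⟩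
        split_ifs at this ⊢ <;> omega
    have key : ∀ u : GolayPt → ZMod 2, u ∈ golayCode → (∀ i, u i = 0 ↔ lift w (σ.symm i) = 0) →
        σ • support₂ w ∈ octads := fun u hu h => by
      refine ⟨⟨u, hu, ?_⟩, by rw [Finset.card_smul_finset]; exact h8⟩
      ext i
      rw [← Finset.inv_smul_mem_iff, Equiv.Perm.smul_def, Equiv.Perm.coe_inv]
      simp only [support₂, Finset.mem_filter, Finset.mem_univ, true_and, ne_eq, h i, lift, ite_eq_left_iff,
        one_ne_zero, imp_false, not_not]
    by_cases h4 : m % 4 = 0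
    · refine key w' hw' fun i => ?_
      have := hm i
      by_cases h : w' i = 0 <;> simp [lift, h] at this ⊢ <;>
        (rcases this with ⟨a, b⟩ | ⟨a, b⟩ <;> first | exact a | omega)
    · refine key (w' + 1) (Submodule.add_mem _ hw' one_mem_code) fun i => ?_
      have := hm i
      have z : ∀ a : ZMod 2, a + 1 = 0 ↔ ¬ a = 0 := by decide
      rw [Pi.add_apply, Pi.one_apply, z]
      by_cases h : w' i = 0 <;> simp [lift, h] at this ⊢ <;>
        (rcases this with ⟨a, b⟩ | ⟨a, b⟩ <;> first | exact a | omega)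
  · have hx : (fun j => if j = (none : GolayPt) then (-3 : ℤ) else 1) ∈ leechLattice := by
      refine (mem_lattice_iff _).2 ⟨1, 0, Submodule.zero_mem _, fun j => ?_, ?_⟩
      · simp only [lift, Pi.zero_apply, if_true]
        unfold Int.ModEq
        split_ifs <;> rfl
      · decide +kernel
    obtain ⟨m, w', hw', he, -⟩ := (mem_lattice_iff _).1 (g • (⟨_, hx⟩ : ↥leechLattice)).2
    rw [hform] at he
    have hm : ∀ i, (i ∈ c ∧ (m + 2 * lift w' i) % 4 = 3) ∨ (i ∉ c ∧ (m + 2 * lift w' i) % 4 = 1) := fun i => by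
      have := he i
      simp only [signedPerm] at this
      unfold Int.ModEq at this
      by_cases h : i ∈ c
      · left
        simp only [h, if_true] at this
        exact ⟨h, by split_ifs at this <;> omega⟩
      · right
        simp only [h, if_false] at this
        exact ⟨h, by split_ifs at this <;> omega⟩
    by_cases h4 : m % 4 = 1
    · refine ⟨w', hw', Finset.ext fun i => ?_⟩
      simp only [support₂, Finset.mem_filter, Finset.mem_univ, true_and]
      rcases hm i with ⟨a, b⟩ | ⟨a, b⟩ <;> by_cases h : w' i = 0 <;> simp [lift, h] at b ⊢ <;>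
        first | exact a | omega
    · refine ⟨w' + 1, Submodule.add_mem _ hw' one_mem_code, Finset.ext fun i => ?_⟩
      have z : ∀ a : ZMod 2, a + 1 ≠ 0 ↔ a = 0 := by decide
      simp only [support₂, Finset.mem_filter, Finset.mem_univ, true_and, Pi.add_apply, Pi.one_apply, z]
      rcases hm i with ⟨a, b⟩ | ⟨a, b⟩ <;> by_cases h : w' i = 0 <;> simp [lift, h] at b ⊢ <;>
        first | exact a | omega

theorem signed_mem {σ : Equiv.Perm GolayPt} (hσ : σ ∈ M24) {c : Finset GolayPt}
    (hc : c ∈ supports (golayCode : Set (GolayPt → ZMod 2))) {x : GolayPt → ℤ} (hx : x ∈ leechLattice) :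
    signedPerm σ c x ∈ leechLattice := neg_on_mem hc (perm_mem (inv_mem hσ) hx)

/-- A monomial element. -/
def mono (p : ↥M24 × ↥(supports (golayCode : Set (GolayPt → ZMod 2)))) : ↥Co0 :=
  ⟨{ toFun := fun v => ⟨signedPerm p.1.1 p.2.1 v.1, signed_mem p.1.2 p.2.2 v.2⟩
     invFun := fun v => ⟨fun i => if p.1.1 i ∈ p.2.1 then -v.1 (p.1.1 i) else v.1 (p.1.1 i),
       perm_mem p.1.2 (neg_on_mem p.2.2 v.2)⟩
     left_inv := fun v => Subtype.ext (funext fun i => by
       simp only [signedPerm, Equiv.symm_apply_apply]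
       split_ifs <;> simp)
     right_inv := fun v => Subtype.ext (funext fun i => by
       simp only [signedPerm, Equiv.apply_symm_apply]
       split_ifs <;> simp) },
    fun v w => Subtype.ext (funext fun i => by
      show signedPerm p.1.1 p.2.1 (v.1 + w.1) i = (signedPerm p.1.1 p.2.1 v.1 + signedPerm p.1.1 p.2.1 w.1) i
      simp only [signedPerm, Pi.add_apply]
      split_ifs <;> ring),
    fun v => by
      show sqNorm (signedPerm p.1.1 p.2.1 v.1) = sqNorm v.1
      have e : ∀ i, signedPerm p.1.1 p.2.1 v.1 i ^ 2 = v.1 (p.1.1.symm i) ^ 2 := fun i => by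
        simp only [signedPerm]
        split_ifs <;> ring
      simp only [sqNorm, e]
      exact Equiv.sum_comp p.1.1.symm fun i => v.1 i ^ 2⟩

theorem mono_apply (p : ↥M24 × ↥(supports (golayCode : Set (GolayPt → ZMod 2)))) (v : ↥leechLattice) :
    ((mono p • v : ↥leechLattice) : GolayPt → ℤ) = signedPerm p.1.1 p.2.1 v.1 := rfl

theorem mono_stab (p : ↥M24 × ↥(supports (golayCode : Set (GolayPt → ZMod 2)))) : Stab (mono p) := by
  rintro v ⟨k, s, hs, hv⟩
  refine ⟨p.1.1 k, if p.1.1 k ∈ p.2.1 then -s else s, ?_, funext fun i => ?_⟩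
  · rcases hs with rfl | rfl <;> split_ifs <;> norm_num
  · rw [mono_apply, hv]
    simp only [signedPerm, Pi.single_apply, Equiv.symm_apply_eq]
    by_cases h : i = p.1.1 k
    · subst h; simp
    · simp [h]

theorem mono_inj : Function.Injective mono := by
  rintro ⟨⟨σ, hσ⟩, ⟨c, hc⟩⟩ ⟨⟨σ', hσ'⟩, ⟨c', hc'⟩⟩ e
  have h : ∀ k i, signedPerm σ c (Pi.single k 8) i = signedPerm σ' c' (Pi.single k 8) i := fun k i => by
    have := congrArg (fun g : ↥Co0 => ((g • eight k : ↥leechLattice) : GolayPt → ℤ)) e
    simp only [mono_apply] at this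
    exact congrFun this i
  have e1 : σ = σ' := Equiv.ext fun k => by
    by_contra hne
    have := h k (σ k)
    simp only [signedPerm, Equiv.symm_apply_apply, Pi.single_eq_same] at this
    rw [Pi.single_eq_of_ne (fun q => hne ((Equiv.symm_apply_eq σ').1 q))] at this
    split_ifs at this <;> omega
  subst e1
  have e2 : c = c' := Finset.ext fun i => by
    have := h (σ.symm i) i
    simp only [signedPerm, Pi.single_eq_same] at this
    by_cases a : i ∈ c <;> by_cases b : i ∈ c' <;> simp [a, b] at this ⊢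
  subst e2
  rfl

theorem card_supports : Nat.card ↥(supports (golayCode : Set (GolayPt → ZMod 2))) = 4096 := by
  rw [← card_golayCode]
  refine (Nat.card_image_of_injective (f := support₂) (fun a b e => funext fun i => ?_) _).trans rfl
  have := Finset.ext_iff.1 e i
  simp only [support₂, Finset.mem_filter, Finset.mem_univ, true_and] at this
  revert this
  generalize a i = p
  generalize b i = q
  revert p q
  decide


/-- The stabiliser of the standard cross in the automorphism group of the lattice is the monomial group of the code: each of its elements acts as a signed permutation with permutation part in the code's group and sign set a codeword, and it has order 4096 · 244823040. -/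
theorem result : (∀ g : ↥Cfsg.Co0, (∀ v : ↥Cfsg.leechLattice, (v : Cfsg.GolayPt → ℤ) ∈ Cfsg.stdCross → ((g • v : ↥Cfsg.leechLattice) : Cfsg.GolayPt → ℤ) ∈ Cfsg.stdCross) → ∃ f ∈ Cfsg.golayMonomialMaps, ∀ v : ↥Cfsg.leechLattice, ((g • v : ↥Cfsg.leechLattice) : Cfsg.GolayPt → ℤ) = f (v : Cfsg.GolayPt → ℤ)) ∧ Nat.card {g : ↥Cfsg.Co0 // (∀ v : ↥Cfsg.leechLattice, (v : Cfsg.GolayPt → ℤ) ∈ Cfsg.stdCross → ((g • v : ↥Cfsg.leechLattice) : Cfsg.GolayPt → ℤ) ∈ Cfsg.stdCross)} = 4096 * 244823040 := by
  skip
  classical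
  refine ⟨fun g hg => ?_, ?_⟩
  · obtain ⟨σ, hσ, c, hc, h⟩ := structure_of hg
    exact ⟨signedPerm σ c, ⟨σ, hσ, c, hc, rfl⟩, h⟩
  · let F : ↥M24 × ↥(supports (golayCode : Set (GolayPt → ZMod 2))) → {g : ↥Co0 // Stab g} :=
      fun p => ⟨mono p, mono_stab p⟩
    have hb : Function.Bijective F := by
      refine ⟨fun p q e => mono_inj (congrArg Subtype.val e), fun ⟨g, hg⟩ => ?_⟩
      obtain ⟨σ, hσ, c, hc, h⟩ := structure_of hg
      refine ⟨(⟨σ, hσ⟩, ⟨c, hc⟩), Subtype.ext (Subtype.ext (Equiv.ext fun v => Subtype.ext ?_))⟩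
      exact (h v).symm
    refine (Nat.card_congr (Equiv.ofBijective F hb)).symm.trans ?_
    rw [Nat.card_prod, card_M24, card_supports]

end Cfsg.Agent.S1571
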