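import Cfsg.Statements.S1587
import Mathlib
-- import your own Cfsg.Agent.* helpers here

set_option autoImplicit false
open Matrix
open Cfsg

namespace Cfsg.Agent.S1587

/-- First step of the characterisation of the rank-24 lattice: in an even lattice without roots, norm-8 vectors congruent modulo 2 are equal, opposite or orthogonal. -/
theorem result (B : Matrix (Fin 24) (Fin 24) ℤ) (hsymm : B.IsSymm) (hpos : ∀ x : Fin 24 → ℤ, x ≠ 0 → 0 < x ⬝ᵥ (B *ᵥ x)) (heven : ∀ x : Fin 24 → ℤ, (2 : ℤ) ∣ x ⬝ᵥ (B *ᵥ x)) (h2 : ∀ x : Fin 24 → ℤ, x ⬝ᵥ (B *ᵥ x) ≠ 2) (x y : Fin 24 → ℤ) (hx : x ⬝ᵥ (B *ᵥ x) = 8) (hy : y ⬝ᵥ (B *ᵥ y) = 8) (hc : ∀ i, (2 : ℤ) ∣ (x - y) i) : y = x ∨ y = -x ∨ x ⬝ᵥ (B *ᵥ y) = 0 := by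
  have hadd : ∀ a b : Fin 24 → ℤ, (a + b) ⬝ᵥ (B *ᵥ (a + b)) = a ⬝ᵥ (B *ᵥ a) + 2 * (a ⬝ᵥ (B *ᵥ b)) + b ⬝ᵥ (B *ᵥ b) := by
    intro a b
    have e : b ⬝ᵥ (B *ᵥ a) = a ⬝ᵥ (B *ᵥ b) := by
      rw [Matrix.dotProduct_mulVec, ← Matrix.mulVec_transpose, hsymm.eq, dotProduct_comm]
    simp only [Matrix.mulVec_add, dotProduct_add, add_dotProduct, e]
    ring
  let z : Fin 24 → ℤ := fun i => (x - y) i / 2
  have hz : x = y + (z + z) := funext fun i => by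
    obtain ⟨c, hc'⟩ := hc i
    simp only [Pi.add_apply, z, hc', Int.mul_ediv_cancel_left _ (show (2 : ℤ) ≠ 0 by norm_num)]
    simp only [Pi.sub_apply] at hc'
    omega
  by_cases h0 : z = 0
  · left; rw [hz, h0]; simp
  by_cases h1 : y + z = 0
  · right; left
    rw [hz]
    funext i
    have := congrFun h1 i
    simp only [Pi.add_apply, Pi.zero_apply, Pi.neg_apply] at this ⊢
    omega
  right; right
  have a1 := hadd y (z + z)
  have a2 := hadd z z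
  have a3 := hadd y z
  have a4 := hadd y y
  have p1 : 4 ≤ z ⬝ᵥ (B *ᵥ z) := by
    obtain ⟨c, hc'⟩ := heven z
    have := hpos z h0
    have := h2 z
    omega
  have p2 : 4 ≤ (y + z) ⬝ᵥ (B *ᵥ (y + z)) := by
    obtain ⟨c, hc'⟩ := heven (y + z)
    have := hpos _ h1
    have := h2 (y + z)
    omega
  rw [← hz, hx, hy] at a1
  simp only [Matrix.mulVec_add, dotProduct_add, add_dotProduct] at a1 a3 p2
  have e : (z ⬝ᵥ (B *ᵥ y)) = y ⬝ᵥ (B *ᵥ z) := by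
    rw [Matrix.dotProduct_mulVec, ← Matrix.mulVec_transpose, hsymm.eq, dotProduct_comm]
  rw [e] at p2
  rw [hz, add_dotProduct, add_dotProduct, e, hy]
  omega

end Cfsg.Agent.S1587
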