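import Cfsg.Statements.S1590
import Cfsg.Agent.Lib.Ternary.Code
-- import your own Cfsg.Agent.* helpers here

set_option autoImplicit false
open Cfsg

namespace Cfsg.Agent.S1590

/-- The length-12 ternary code has 729 words with weight distribution 0^1 6^264 9^440 12^24. -/
theorem result : Nat.card ↥Cfsg.ternaryGolayCode = 729 ∧ (∀ x ∈ Cfsg.ternaryGolayCode, x ≠ 0 → (Cfsg.ternarySupport x).card = 6 ∨ (Cfsg.ternarySupport x).card = 9 ∨ (Cfsg.ternarySupport x).card = 12) ∧ {x : Cfsg.ArrayPt → ZMod 3 | x ∈ Cfsg.ternaryGolayCode ∧ (Cfsg.ternarySupport x).card = 6}.ncard = 264 ∧ {x : Cfsg.ArrayPt → ZMod 3 | x ∈ Cfsg.ternaryGolayCode ∧ (Cfsg.ternarySupport x).card = 9}.ncard = 440 ∧ {x : Cfsg.ArrayPt → ZMod 3 | x ∈ Cfsg.ternaryGolayCode ∧ (Cfsg.ternarySupport x).card = 12}.ncard = 24 := by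
  refine ⟨?_, fun x hx h0 => ?_, ?_, ?_, ?_⟩
  · have e : (Cfsg.ternaryGolayCode : Set (Cfsg.ArrayPt → ZMod 3)) = Set.range Cfsg.Agent.Ternary.word :=
      Set.ext fun x => Cfsg.Agent.Ternary.mem_iff
    rw [← SetLike.coe_sort_coe, e, Nat.card_range_of_injective Cfsg.Agent.Ternary.word_injective]
    simp [Nat.card_eq_fintype_card, ZMod.card]
  · obtain ⟨p, rfl⟩ := Cfsg.Agent.Ternary.mem_iff.mp hx
    exact Cfsg.Agent.Ternary.weights p (fun e => h0 (by rw [e, Cfsg.Agent.Ternary.word_zero]))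
  · rw [Cfsg.Agent.Ternary.ncard_weight]; exact Cfsg.Agent.Ternary.counts.1
  · rw [Cfsg.Agent.Ternary.ncard_weight]; exact Cfsg.Agent.Ternary.counts.2.1
  · rw [Cfsg.Agent.Ternary.ncard_weight]; exact Cfsg.Agent.Ternary.counts.2.2

end Cfsg.Agent.S1590
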