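import Cfsg.Statements.S1592
import Cfsg.Agent.Lib.Ternary.Code
-- import your own Cfsg.Agent.* helpers here

set_option autoImplicit false
open Cfsg

namespace Cfsg.Agent.S1592

/-- The supports of the weight-6 words of the length-12 ternary code form a Steiner system S(5, 6, 12) with 132 blocks. -/
theorem result : Cfsg.IsSteinerSystem 5 6 {h : Finset Cfsg.ArrayPt | ∃ x ∈ Cfsg.ternaryGolayCode, Cfsg.ternarySupport x = h ∧ h.card = 6} ∧ {h : Finset Cfsg.ArrayPt | ∃ x ∈ Cfsg.ternaryGolayCode, Cfsg.ternarySupport x = h ∧ h.card = 6}.ncard = 132 := by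
  classical
  open Cfsg.Agent.Ternary in
  set W := (Finset.univ : Finset Par).filter fun p => wt p = 6 with hW
  set B := W.image fun p => Cfsg.ternarySupport (word p) with hB
  have hset : {h : Finset Cfsg.ArrayPt | ∃ x ∈ Cfsg.ternaryGolayCode, Cfsg.ternarySupport x = h ∧ h.card = 6} =
      (B : Set (Finset Cfsg.ArrayPt)) := by
    ext s
    simp only [hB, hW, Finset.coe_image, Set.mem_image, Finset.mem_coe, Finset.mem_filter, Finset.mem_univ,
      true_and, Set.mem_ofPred_eq]
    constructor
    · rintro ⟨x, hx, rfl, h6⟩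
      obtain ⟨p, rfl⟩ := mem_iff.mp hx
      exact ⟨p, h6, rfl⟩
    · rintro ⟨p, hp, rfl⟩
      exact ⟨word p, word_mem p, rfl, hp⟩
  -- two weight six words sharing five support points are proportional
  have hprop : ∀ p ∈ W, ∀ q ∈ W,
      5 ≤ (Cfsg.ternarySupport (word p) ∩ Cfsg.ternarySupport (word q)).card → q = p ∨ q = -p := by
    intro p hp q hq h5
    rw [hW, Finset.mem_filter] at hp hq
    have hp6 : (Cfsg.ternarySupport (word p)).card = 6 := hp.2
    have hq6 : (Cfsg.ternarySupport (word q)).card = 6 := hq.2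
    have hcount : (Cfsg.ternarySupport (word q - word p)).card + (Cfsg.ternarySupport (word q + word p)).card +
        3 * (Cfsg.ternarySupport (word p) ∩ Cfsg.ternarySupport (word q)).card =
        2 * (Cfsg.ternarySupport (word p)).card + 2 * (Cfsg.ternarySupport (word q)).card := by
      simp only [Cfsg.ternarySupport, ← Finset.filter_and, Finset.card_filter, Finset.mul_sum,
        ← Finset.sum_add_distrib, Pi.sub_apply, Pi.add_apply]
      refine Finset.sum_congr rfl fun i _ => ?_
      have key : ∀ u v : ZMod 3, ((if v - u ≠ 0 then 1 else 0) + (if v + u ≠ 0 then 1 else 0) +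
          3 * if u ≠ 0 ∧ v ≠ 0 then 1 else 0 : ℕ) = 2 * (if u ≠ 0 then 1 else 0) + 2 * if v ≠ 0 then 1 else 0 := by
        decide
      convert key (word p i) (word q i) using 4
    by_cases e1 : word q - word p = 0
    · exact Or.inl (word_injective (sub_eq_zero.mp e1))
    by_cases e2 : word q + word p = 0
    · right
      have : word q = word (-p) := by
        rw [eq_neg_of_add_eq_zero_left e2, eq_word (neg_mem (word_mem p))]
        rfl
      exact word_injective this
    have a1 := six_le (sub_mem (word_mem q) (word_mem p)) e1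
    have a2 := six_le (add_mem (word_mem q) (word_mem p)) e2
    omega
  have hneg : ∀ p ∈ W, -p ∈ W ∧ -p ≠ p := by
    rw [hW]
    decide +kernel
  have hBc : B.card = 132 := by
    have h := Finset.card_eq_sum_card_fiberwise (f := fun p => Cfsg.ternarySupport (word p)) (s := W) (t := B)
      (fun p hp => Finset.mem_image_of_mem _ hp)
    rw [Finset.sum_eq_card_nsmul (b := 2), smul_eq_mul, show W.card = 264 from counts.1] at h
    · omega
    · intro s hs
      obtain ⟨p, hp, rfl⟩ := Finset.mem_image.mp hs
      have e : W.filter (fun q => Cfsg.ternarySupport (word q) = Cfsg.ternarySupport (word p)) = {p, -p} := by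
        ext q
        simp only [Finset.mem_filter, Finset.mem_insert, Finset.mem_singleton]
        constructor
        · rintro ⟨hq, e⟩
          refine hprop p hp q hq ?_
          rw [e, Finset.inter_self]
          exact le_of_le_of_eq (by norm_num) (Finset.mem_filter.mp hp).2.symm
        · rintro (rfl | rfl)
          · exact ⟨hp, rfl⟩
          · refine ⟨(hneg p hp).1, ?_⟩
            rw [show word (-p) = -word p by rw [eq_word (neg_mem (word_mem p))]; rfl]
            simp [Cfsg.ternarySupport]
      rw [e, Finset.card_pair (hneg p hp).2.symm]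
  have h6 : ∀ s ∈ B, s.card = 6 := by
    intro s hs
    obtain ⟨p, hp, rfl⟩ := Finset.mem_image.mp hs
    exact (Finset.mem_filter.mp hp).2
  have huniq : ∀ s : Finset Cfsg.ArrayPt, s.card = 5 → ∀ b ∈ B, s ⊆ b → ∀ b' ∈ B, s ⊆ b' → b = b' := by
    intro s hs b hb hsb b' hb' hsb'
    obtain ⟨p, hp, rfl⟩ := Finset.mem_image.mp hb
    obtain ⟨q, hq, rfl⟩ := Finset.mem_image.mp hb'
    rcases hprop p hp q hq (hs ▸ Finset.card_le_card (Finset.subset_inter hsb hsb')) with rfl | rfl
    · rfl
    · rw [show word (-p) = -word p by rw [eq_word (neg_mem (word_mem p))]; rfl]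
      simp [Cfsg.ternarySupport]
  clear_value B
  clear hB hneg hprop
  have hcov : B.biUnion (Finset.powersetCard 5) = Finset.powersetCard 5 Finset.univ := by
    refine Finset.eq_of_subset_of_card_le (fun s hs => ?_) ?_
    · obtain ⟨b, -, hsb⟩ := Finset.mem_biUnion.mp hs
      exact Finset.mem_powersetCard.mpr ⟨Finset.subset_univ _, (Finset.mem_powersetCard.mp hsb).2⟩
    · rw [Finset.card_biUnion, Finset.sum_congr rfl (fun b hb => by rw [Finset.card_powersetCard, h6 b hb]),
        Finset.sum_const, hBc, Finset.card_powersetCard, Finset.card_univ]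
      · decide +kernel
      · intro b hb b' hb' hne
        refine Finset.disjoint_left.mpr fun s hsb hsb' => hne ?_
        obtain ⟨h1, h2⟩ := Finset.mem_powersetCard.mp hsb
        exact huniq s h2 b hb h1 b' hb' (Finset.mem_powersetCard.mp hsb').1
  rw [hset]
  refine ⟨⟨fun b hb => h6 b hb, fun s hs => ?_⟩, by rw [Set.ncard_coe_finset, hBc]⟩
  have : s ∈ B.biUnion (Finset.powersetCard 5) := by
    rw [hcov]; exact Finset.mem_powersetCard.mpr ⟨Finset.subset_univ _, hs⟩
  obtain ⟨b, hb, hsb⟩ := Finset.mem_biUnion.mp this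
  have hsb' := (Finset.mem_powersetCard.mp hsb).1
  exact ⟨b, ⟨hb, hsb'⟩, fun b' h' => huniq s hs b' h'.1 h'.2 b hb hsb'⟩

end Cfsg.Agent.S1592
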