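import Cfsg.Statements.S1593
import Cfsg.Agent.Lib.Ternary.Code
-- import your own Cfsg.Agent.* helpers here

set_option autoImplicit false
open Cfsg

namespace Cfsg.Agent.S1593

/-- The only sign changes preserving the length-12 ternary code are the identity and negation of all coordinates. -/
theorem result (c : Cfsg.ArrayPt → (ZMod 3)ˣ) (h : (∀ x ∈ Cfsg.ternaryGolayCode, Cfsg.monomialMap 1 c x ∈ Cfsg.ternaryGolayCode)) : (∀ p, c p = 1) ∨ (∀ p, c p = -1) := by
  have hstep : ∀ p q : Cfsg.ArrayPt, c p = c q := by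
    intro p q
    have key : ∀ p q : Cfsg.ArrayPt, ∃ x : Cfsg.Agent.Ternary.Par,
        Cfsg.Agent.Ternary.wt x = 6 ∧ Cfsg.Agent.Ternary.word x p ≠ 0 ∧ Cfsg.Agent.Ternary.word x q ≠ 0 := by
      decide +kernel
    obtain ⟨x, hx, hp, hq⟩ := key p q
    by_contra hne
    set g := Cfsg.Agent.Ternary.word x with hg
    set y := Cfsg.monomialMap 1 c g - (c p : ZMod 3) • g with hy
    have hym : y ∈ Cfsg.ternaryGolayCode :=
      sub_mem (h g (Cfsg.Agent.Ternary.word_mem x)) (Submodule.smul_mem _ _ (Cfsg.Agent.Ternary.word_mem x))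
    have hyi : ∀ i, y i = ((c i : ZMod 3) - c p) * g i := fun i => by
      simp [hy, Cfsg.monomialMap, sub_mul]
      rfl
    have hy0 : y ≠ 0 := by
      intro e
      have e1 := congrFun e q
      rw [hyi] at e1
      rcases mul_eq_zero.mp e1 with e2 | e2
      · exact hne (Units.ext (sub_eq_zero.mp e2).symm)
      · exact hq e2
    have h6 := Cfsg.Agent.Ternary.six_le hym hy0
    have hlt : (Cfsg.ternarySupport y).card < (Cfsg.ternarySupport g).card := by
      refine Finset.card_lt_card ((Finset.ssubset_iff_of_subset fun i hi => ?_).mpr ⟨p, ?_, ?_⟩)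
      · simp only [Cfsg.ternarySupport, Finset.mem_filter, Finset.mem_univ, true_and, hyi] at hi ⊢
        exact fun e => hi (by rw [e, mul_zero])
      · simp [Cfsg.ternarySupport, hp]
      · simp [Cfsg.ternarySupport, hyi]
    have : (Cfsg.ternarySupport g).card = 6 := hx
    omega
  have hu : ∀ u : (ZMod 3)ˣ, u = 1 ∨ u = -1 := by decide
  rcases hu (c (0, 0)) with e | e
  · exact Or.inl fun p => (hstep p _).trans e
  · exact Or.inr fun p => (hstep p _).trans e

end Cfsg.Agent.S1593
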