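import Cfsg.Statements.S1594
import Cfsg.Agent.Lib.Ternary.Code

set_option autoImplicit false
open Cfsg

namespace Cfsg.Agent.S1594

set_option maxRecDepth 100000

open Cfsg.Agent.Ternary
open scoped Pointwise

/-- the twelve positions -/
def pos : Fin 12 → Cfsg.ArrayPt :=
  ![(0, 0), (0, 1), (0, 2), (1, 0), (1, 1), (1, 2), (2, 0), (2, 1), (2, 2), (3, 0), (3, 1), (3, 2)]

/-- numbering -/
def num (p : Cfsg.ArrayPt) : Fin 12 := Fin.ofNat 12 (3 * p.1.val + p.2.val)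

theorem pos_num : ∀ p, pos (num p) = p := by decide +kernel

theorem num_pos : ∀ i, num (pos i) = i := by decide +kernel

/-- supports of weight six -/
def hexMask : List ℕ := [63, 222, 237, 243, 347, 366, 373, 413, 427, 438, 455, 504, 591, 630, 633, 667, 679, 700, 725, 746, 791, 813, 826, 860, 867, 910, 945, 969, 978, 996, 1117, 1127, 1146, 1175, 1198, 1209, 1227, 1268, 1295, 1331, 1340, 1366, 1385, 1434, 1445, 1484, 1489, 1506, 1566, 1579, 1589, 1619, 1644, 1677, 1714, 1734, 1752, 1761, 1817, 1830, 1861, 1866, 1904, 1923, 1940, 1960, 2135, 2155, 2172, 2191, 2229, 2234, 2265, 2278, 2334, 2343, 2361, 2381, 2418, 2451, 2476, 2506, 2516, 2529, 2589, 2606, 2611, 2650, 2661, 2710, 2729, 2755, 2764, 2800, 2827, 2868, 2886, 2897, 2920, 2949, 2968, 2978, 3099, 3117, 3126, 3150, 3185, 3228, 3235, 3269, 3282, 3304, 3349, 3370, 3395, 3416, 3428, 3462, 3465, 3504, 3591, 3640, 3657,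 3668, 3682, 3722, 3729, 3748, 3852, 3858, 3873, 4032]

/-- monomial maps fixing a first segment of five points, one for each image of the next -/
def monoTrans : List (List (List (Fin 12) × List (Fin 12) × List (ZMod 3))) := [[([0, 1, 2, 3, 4, 5, 6, 7, 8, 9, 10, 11], [0, 1, 2, 3, 4, 5, 6, 7, 8, 9, 10, 11], [1, 1, 1, 1, 1, 1, 1, 1, 1, 1, 1, 1]),
  ([1, 0, 2, 3, 4, 5, 11, 9, 10, 7, 8, 6], [1, 0, 2, 3, 4, 5, 11, 9, 10, 7, 8, 6], [1, 1, 1, 1, 1, 1, 1, 1, 1, 1, 1, 1]),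
  ([2, 0, 1, 3, 4, 5, 8, 6, 7, 10, 11, 9], [1, 2, 0, 3, 4, 5, 7, 8, 6, 11, 9, 10], [1, 1, 1, 1, 1, 1, 1, 1, 1, 1, 1, 1]),
  ([3, 0, 1, 2, 4, 5, 10, 7, 6, 8, 9, 11], [1, 2, 3, 0, 4, 5, 8, 7, 9, 10, 6, 11], [1, 1, 2, 2, 1, 1, 2, 2, 1, 2, 1, 2]),
  ([4, 0, 1, 2, 3, 5, 6, 9, 10, 11, 7, 8], [1, 2, 3, 4, 0, 5, 6, 10, 11, 7, 8, 9], [1, 1, 2, 1, 2, 1, 1, 2, 2, 2, 2, 1]),
  ([5, 0, 1, 2, 3, 4, 9, 6, 8, 7, 11, 10], [1, 2, 3, 4, 5, 0, 7, 9, 8, 6, 11, 10], [1, 1, 2, 1, 1, 2, 2, 1, 2, 1, 2, 2]),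
  ([6, 0, 1, 2, 3, 9, 5, 4, 7, 10, 8, 11], [1, 2, 3, 4, 7, 6, 0, 8, 10, 5, 9, 11], [1, 2, 1, 1, 2, 1, 2, 2, 2, 1, 1, 2]),
  ([7, 0, 1, 2, 3, 11, 10, 8, 9, 4, 5, 6], [1, 2, 3, 4, 9, 10, 11, 0, 7, 8, 6, 5], [1, 2, 2, 2, 2, 1, 1, 1, 1, 1, 2, 2]),
  ([8, 0, 1, 2, 3, 10, 7, 11, 4, 6, 9, 5], [1, 2, 3, 4, 8, 11, 9, 6, 0, 10, 5, 7], [1, 1, 1, 2, 1, 1, 2, 2, 1, 1, 2, 1]),
  ([9, 0, 1, 2, 3, 6, 4, 5, 11, 8, 10, 7], [1, 2, 3, 4, 6, 7, 5, 11, 9, 0, 10, 8], [1, 2, 1, 1, 1, 2, 1, 2, 1, 2, 2, 2]),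
  ([10, 0, 1, 2, 3, 8, 11, 7, 5, 9, 6, 4], [1, 2, 3, 4, 11, 8, 10, 7, 5, 9, 0, 6], [1, 1, 1, 2, 1, 1, 1, 1, 2, 2, 1, 2]),
  ([11, 0, 1, 2, 3, 7, 8, 10, 6, 5, 4, 9], [1, 2, 3, 4, 10, 9, 8, 5, 6, 11, 7, 0], [1, 2, 2, 2, 1, 2, 1, 2, 2, 1, 1, 1])],
  [([0, 1, 2, 3, 4, 5, 6, 7, 8, 9, 10, 11], [0, 1, 2, 3, 4, 5, 6, 7, 8, 9, 10, 11], [1, 1, 1, 1, 1, 1, 1, 1, 1, 1, 1, 1]),
  ([0, 2, 1, 3, 4, 5, 9, 10, 11, 6, 7, 8], [0, 2, 1, 3, 4, 5, 9, 10, 11, 6, 7, 8], [1, 1, 1, 1, 1, 1, 1, 1, 1, 1, 1, 1]),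
  ([0, 3, 1, 2, 4, 5, 11, 8, 9, 7, 6, 10], [0, 2, 3, 1, 4, 5, 10, 9, 7, 8, 11, 6], [1, 1, 2, 2, 1, 1, 2, 2, 1, 2, 1, 2]),
  ([0, 4, 1, 2, 3, 5, 8, 11, 7, 9, 10, 6], [0, 2, 3, 4, 1, 5, 11, 8, 6, 9, 10, 7], [1, 1, 2, 1, 2, 1, 1, 2, 2, 2, 2, 1]),
  ([0, 5, 1, 2, 3, 4, 10, 7, 11, 6, 8, 9], [0, 2, 3, 4, 5, 1, 9, 7, 10, 11, 6, 8], [1, 1, 2, 1, 1, 2, 2, 1, 2, 1, 2, 2]),
  ([0, 6, 1, 2, 3, 9, 11, 10, 8, 4, 7, 5], [0, 2, 3, 4, 9, 11, 1, 10, 8, 5, 7, 6], [1, 2, 1, 1, 2, 1, 2, 2, 2, 1, 1, 2]),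
  ([0, 7, 1, 2, 3, 11, 6, 4, 5, 8, 9, 10], [0, 2, 3, 4, 7, 8, 6, 1, 9, 10, 11, 5], [1, 2, 2, 2, 2, 1, 1, 1, 1, 1, 2, 2]),
  ([0, 8, 1, 2, 3, 10, 5, 6, 9, 11, 4, 7], [0, 2, 3, 4, 10, 6, 7, 11, 1, 8, 5, 9], [1, 1, 1, 2, 1, 1, 2, 2, 1, 1, 2, 1]),
  ([0, 9, 1, 2, 3, 6, 7, 8, 10, 5, 11, 4], [0, 2, 3, 4, 11, 9, 5, 6, 7, 1, 8, 10], [1, 2, 1, 1, 1, 2, 1, 2, 1, 2, 2, 2]),
  ([0, 10, 1, 2, 3, 8, 4, 9, 6, 7, 5, 11], [0, 2, 3, 4, 6, 10, 8, 9, 5, 7, 1, 11], [1, 1, 1, 2, 1, 1, 1, 1, 2, 2, 1, 2]),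
  ([0, 11, 1, 2, 3, 7, 9, 5, 4, 10, 6, 8], [0, 2, 3, 4, 8, 7, 10, 5, 11, 6, 9, 1], [1, 2, 2, 2, 1, 2, 1, 2, 2, 1, 1, 1])],
  [([0, 1, 2, 3, 4, 5, 6, 7, 8, 9, 10, 11], [0, 1, 2, 3, 4, 5, 6, 7, 8, 9, 10, 11], [1, 1, 1, 1, 1, 1, 1, 1, 1, 1, 1, 1]),
  ([0, 1, 3, 2, 4, 5, 7, 6, 10, 11, 8, 9], [0, 1, 3, 2, 4, 5, 7, 6, 10, 11, 8, 9], [1, 1, 2, 2, 1, 1, 2, 2, 1, 2, 1, 2]),
  ([0, 1, 4, 2, 3, 5, 9, 10, 6, 8, 11, 7], [0, 1, 3, 4, 2, 5, 8, 11, 9, 6, 7, 10], [1, 1, 2, 1, 2, 1, 1, 2, 2, 2, 2, 1]),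
  ([0, 1, 5, 2, 3, 4, 6, 8, 9, 10, 7, 11], [0, 1, 3, 4, 5, 2, 6, 10, 7, 8, 9, 11], [1, 1, 2, 1, 1, 2, 2, 1, 2, 1, 2, 2]),
  ([0, 1, 6, 2, 3, 9, 4, 7, 5, 11, 10, 8], [0, 1, 3, 4, 6, 8, 2, 7, 11, 5, 10, 9], [1, 2, 1, 1, 2, 1, 2, 2, 2, 1, 1, 2]),
  ([0, 1, 7, 2, 3, 11, 8, 9, 10, 6, 4, 5], [0, 1, 3, 4, 10, 11, 9, 2, 6, 7, 8, 5], [1, 2, 2, 2, 2, 1, 1, 1, 1, 1, 2, 2]),
  ([0, 1, 8, 2, 3, 10, 11, 4, 7, 5, 6, 9], [0, 1, 3, 4, 7, 9, 10, 8, 2, 11, 5, 6], [1, 1, 1, 2, 1, 1, 2, 2, 1, 1, 2, 1]),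
  ([0, 1, 9, 2, 3, 6, 5, 11, 4, 7, 8, 10], [0, 1, 3, 4, 8, 6, 5, 9, 10, 2, 11, 7], [1, 2, 1, 1, 1, 2, 1, 2, 1, 2, 2, 2]),
  ([0, 1, 10, 2, 3, 8, 7, 5, 11, 4, 9, 6], [0, 1, 3, 4, 9, 7, 11, 6, 5, 10, 2, 8], [1, 1, 1, 2, 1, 1, 1, 1, 2, 2, 1, 2]),
  ([0, 1, 11, 2, 3, 7, 10, 6, 8, 9, 5, 4], [0, 1, 3, 4, 11, 10, 7, 5, 8, 9, 6, 2], [1, 2, 2, 2, 1, 2, 1, 2, 2, 1, 1, 1])],
  [([0, 1, 2, 3, 4, 5, 6, 7, 8, 9, 10, 11], [0, 1, 2, 3, 4, 5, 6, 7, 8, 9, 10, 11], [1, 1, 1, 1, 1, 1, 1, 1, 1, 1, 1, 1]),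
  ([0, 1, 2, 4, 3, 5, 10, 9, 11, 7, 6, 8], [0, 1, 2, 4, 3, 5, 10, 9, 11, 7, 6, 8], [1, 1, 1, 1, 1, 1, 1, 1, 1, 1, 1, 1]),
  ([0, 1, 2, 5, 3, 4, 8, 6, 7, 11, 9, 10], [0, 1, 2, 4, 5, 3, 7, 8, 6, 10, 11, 9], [1, 1, 1, 1, 1, 1, 1, 1, 1, 1, 1, 1]),
  ([0, 1, 2, 6, 3, 9, 7, 4, 10, 8, 5, 11], [0, 1, 2, 4, 7, 10, 3, 6, 9, 5, 8, 11], [1, 2, 2, 1, 1, 1, 1, 1, 1, 1, 1, 1]),
  ([0, 1, 2, 7, 3, 11, 9, 8, 4, 5, 10, 6], [0, 1, 2, 4, 8, 9, 11, 3, 7, 6, 10, 5], [1, 2, 1, 2, 2, 2, 2, 2, 2, 2, 2, 2]),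
  ([0, 1, 2, 8, 3, 10, 4, 11, 6, 9, 7, 5], [0, 1, 2, 4, 6, 11, 8, 10, 3, 9, 5, 7], [1, 1, 2, 2, 2, 2, 2, 2, 2, 2, 2, 2]),
  ([0, 1, 2, 9, 3, 6, 11, 5, 8, 10, 4, 7], [0, 1, 2, 4, 10, 7, 5, 11, 8, 3, 9, 6], [1, 2, 2, 1, 1, 1, 1, 1, 1, 1, 1, 1]),
  ([0, 1, 2, 10, 3, 8, 5, 7, 9, 6, 11, 4], [0, 1, 2, 4, 11, 6, 9, 7, 5, 8, 3, 10], [1, 1, 2, 2, 2, 2, 2, 2, 2, 2, 2, 2]),
  ([0, 1, 2, 11, 3, 7, 6, 10, 5, 4, 8, 9], [0, 1, 2, 4, 9, 8, 6, 5, 10, 11, 7, 3], [1, 2, 1, 2, 2, 2, 2, 2, 2, 2, 2, 2])],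
  [([0, 1, 2, 3, 4, 5, 6, 7, 8, 9, 10, 11], [0, 1, 2, 3, 4, 5, 6, 7, 8, 9, 10, 11], [1, 1, 1, 1, 1, 1, 1, 1, 1, 1, 1, 1]),
  ([0, 1, 2, 3, 5, 4, 9, 11, 10, 6, 8, 7], [0, 1, 2, 3, 5, 4, 9, 11, 10, 6, 8, 7], [1, 1, 1, 1, 1, 1, 1, 1, 1, 1, 1, 1]),
  ([0, 1, 2, 3, 6, 9, 5, 8, 11, 4, 7, 10], [0, 1, 2, 3, 9, 6, 4, 10, 7, 5, 11, 8], [1, 2, 2, 1, 1, 1, 1, 1, 1, 1, 1, 1]),
  ([0, 1, 2, 3, 7, 11, 10, 5, 6, 8, 9, 4], [0, 1, 2, 3, 11, 7, 8, 4, 9, 10, 6, 5], [1, 2, 1, 2, 2, 2, 2, 2, 2, 2, 2, 2]),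
  ([0, 1, 2, 3, 8, 10, 7, 9, 5, 11, 4, 6], [0, 1, 2, 3, 10, 8, 11, 6, 4, 7, 5, 9], [1, 1, 2, 2, 2, 2, 2, 2, 2, 2, 2, 2]),
  ([0, 1, 2, 3, 9, 6, 4, 10, 7, 5, 11, 8], [0, 1, 2, 3, 6, 9, 5, 8, 11, 4, 7, 10], [1, 2, 2, 1, 1, 1, 1, 1, 1, 1, 1, 1]),
  ([0, 1, 2, 3, 10, 8, 11, 6, 4, 7, 5, 9], [0, 1, 2, 3, 8, 10, 7, 9, 5, 11, 4, 6], [1, 1, 2, 2, 2, 2, 2, 2, 2, 2, 2, 2]),
  ([0, 1, 2, 3, 11, 7, 8, 4, 9, 10, 6, 5], [0, 1, 2, 3, 7, 11, 10, 5, 6, 8, 9, 4], [1, 2, 1, 2, 2, 2, 2, 2, 2, 2, 2, 2])]]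

/-- mask of a set -/
def maskT (s : Finset Cfsg.ArrayPt) : ℕ := Nat.ofBits fun i : Fin 12 => decide (pos i ∈ s)

theorem testBit_maskT (s : Finset Cfsg.ArrayPt) (i : Fin 12) : (maskT s).testBit i.val = decide (pos i ∈ s) := by
  rw [maskT, Nat.testBit_ofBits_lt _ _ i.isLt]

theorem maskT_inj {s t : Finset Cfsg.ArrayPt} (h : maskT s = maskT t) : s = t := by
  ext p
  have := congrArg (fun m => m.testBit (num p).val) h
  simpa [testBit_maskT, pos_num] using this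

/-- hexads -/
abbrev Hex : Set (Finset Cfsg.ArrayPt) :=
  {h : Finset Cfsg.ArrayPt | ∃ x ∈ Cfsg.ternaryGolayCode, Cfsg.ternarySupport x = h ∧ h.card = 6}

theorem hex_sound : ∀ p : Par, wt p = 6 → hexMask.contains (maskT (Cfsg.ternarySupport (word p))) = true := by
  decide +kernel

theorem hex_mask {h : Finset Cfsg.ArrayPt} (hh : h ∈ Hex) : maskT h ∈ hexMask := by
  obtain ⟨x, hx, rfl, h6⟩ := hh
  obtain ⟨p, rfl⟩ := mem_iff.mp hx
  simpa using hex_sound p h6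

/-- the pullback of a mask -/
def pullT (f : Fin 12 → Fin 12) (m : ℕ) : ℕ := Nat.ofBits fun i : Fin 12 => m.testBit (f i).val

theorem mask_smul (σ : Equiv.Perm Cfsg.ArrayPt) (h : Finset Cfsg.ArrayPt) :
    maskT (σ • h) = pullT (fun i => num (σ⁻¹ (pos i))) (maskT h) := by
  unfold pullT
  conv_lhs => unfold maskT
  congr 1
  funext i
  rw [testBit_maskT, pos_num]
  refine decide_eq_decide.mpr ?_
  rw [← Finset.inv_smul_mem_iff]; rfl

/-- the others -/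
def rest : List (Fin 12) := [5, 6, 7, 8, 9, 10, 11]

/-- the six or seven free images -/
def fixFive (L : List (Fin 12)) (i : Fin 12) : Fin 12 := if i.val < 5 then i else L.getD (i.val - 5) 0

/-- hexad witnesses for supports -/
def hexPar : List Par := ((List.finRange 729).map fun n : Fin 729 =>
  ((n.val : ZMod 3), ((n.val / 3 : ℕ) : ZMod 3), ((n.val / 9 : ℕ) : ZMod 3), ((n.val / 27 : ℕ) : ZMod 3),
    ((n.val / 81 : ℕ) : ZMod 3), ((n.val / 243 : ℕ) : ZMod 3))).filter fun p => wt p == 6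

theorem hex_complete : (hexMask.all fun m => (hexPar.map fun p => maskT (Cfsg.ternarySupport (word p))).contains m) = true := by
  decide +kernel

theorem mask_hex {m : ℕ} (hm : m ∈ hexMask) : ∃ h ∈ Hex, maskT h = m := by
  have := List.all_eq_true.mp hex_complete m hm
  simp only [List.contains_eq_mem, List.mem_map, decide_eq_true_eq] at this
  obtain ⟨p, hp, e⟩ := this
  simp only [hexPar, List.mem_filter, beq_iff_eq] at hp
  exact ⟨_, ⟨_, word_mem p, rfl, hp.2⟩, e⟩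

/-- sixth point -/
def sixthPt : Fin 12 := (rest.filter fun q => hexMask.any fun m => m.testBit q.val && [0, 1, 2, 3, 4].all fun b => m.testBit b).getD 0 0

theorem sixth_facts : (hexMask.filter fun m => [0, 1, 2, 3, 4].all fun b => m.testBit b).length = 1 ∧
    sixthPt ∈ rest ∧ ∀ m ∈ hexMask, ([0, 1, 2, 3, 4].all fun b => m.testBit b) = true →
      ∀ i : Fin 12, m.testBit i.val = true → i.val < 5 ∨ i = sixthPt := by decide +kernel

/-- the six others -/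
def six6 : List (Fin 12) := rest.filter fun q => q != sixthPt

/-- images -/
def fixSix (L : List (Fin 12)) (i : Fin 12) : Fin 12 :=
  if i.val < 5 then i else if i = sixthPt then i else L.getD (six6.idxOf i) 0

theorem rigid_perms : ((six6.permutations').all fun L => L == six6 || hexMask.any fun m => !hexMask.contains (pullT (fixSix L) m)) = true := by
  decide +kernel

theorem six6_facts : six6.Nodup ∧ six6.length = 6 ∧ ∀ i : Fin 12, i.val < 5 ∨ i = sixthPt ∨ i ∈ six6 := by decide +kernel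

theorem six6_avoid : ∀ x ∈ six6, ¬ x.val < 5 ∧ x ≠ sixthPt := by decide +kernel

theorem rigid {σ : Equiv.Perm Cfsg.ArrayPt} (hσ : ∀ h ∈ Hex, σ • h ∈ Hex)
    (hfix : ∀ i : Fin 12, i.val < 5 → σ (pos i) = pos i) : σ = 1 := by
  classical
  set f := fun i => num (σ⁻¹ (pos i)) with hf
  have hfinj : Function.Injective f := fun a b h => by
    have := congrArg pos h
    simp only [hf, pos_num] at this
    have h2 := congrArg num (σ⁻¹.injective this)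
    rwa [num_pos, num_pos] at h2
  have f5 : ∀ i : Fin 12, i.val < 5 → f i = i := fun i hi => by
    show num (σ⁻¹ (pos i)) = i
    rw [show σ⁻¹ (pos i) = pos i from by rw [Equiv.Perm.coe_inv, Equiv.symm_apply_eq, hfix i hi], num_pos]
  have hpull : ∀ m ∈ hexMask, pullT f m ∈ hexMask := by
    intro m hm
    obtain ⟨h, hh, rfl⟩ := mask_hex hm
    rw [← mask_smul]; exact hex_mask (hσ h hh)
  obtain ⟨hlen, hs6, hsub⟩ := sixth_facts
  obtain ⟨m0, hm0⟩ := List.length_eq_one_iff.mp hlen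
  have hm0' : m0 ∈ hexMask ∧ ([0, 1, 2, 3, 4].all fun b => m0.testBit b) = true :=
    List.mem_filter.mp (hm0 ▸ List.mem_singleton_self m0)
  have hsix : f sixthPt = sixthPt := by
    have himg : pullT f m0 = m0 := by
      have : pullT f m0 ∈ hexMask.filter fun m => [0, 1, 2, 3, 4].all fun b => m.testBit b := by
        refine List.mem_filter.mpr ⟨hpull m0 hm0'.1, ?_⟩
        simp only [List.all_eq_true] at hm0' ⊢
        intro b hb
        have hb5 : b < 5 := by simp only [List.mem_cons, List.not_mem_nil, or_false] at hb; omega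
        have := hm0'.2 b hb
        rw [pullT, show b = (⟨b, by omega⟩ : Fin 12).val from rfl, Nat.testBit_ofBits_lt _ _ (by show b < 12; omega)]
        rw [f5 _ (by show b < 5; omega)]
        exact this
      rw [hm0] at this
      exact List.mem_singleton.mp this
    have hbit : m0.testBit sixthPt.val = true := by
      revert hm0'
      have : ∀ m ∈ hexMask, ([0, 1, 2, 3, 4].all fun b => m.testBit b) = true → m.testBit sixthPt.val = true := by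
        decide +kernel
      exact fun h => this m0 h.1 h.2
    have h6 : m0.testBit (f sixthPt).val = true := by
      rw [← himg, pullT, Nat.testBit_ofBits_lt _ _ sixthPt.isLt] at hbit
      exact hbit
    rcases hsub m0 hm0'.1 hm0'.2 _ h6 with h | h
    · have := hfinj (f5 _ h)
      rw [this] at h
      have : ¬ sixthPt.val < 5 := by decide +kernel
      contradiction
    · exact h
  obtain ⟨hnd, hl6, hcov⟩ := six6_facts
  set L := six6.map f with hL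
  have hperm : L.Perm six6 := by
    have hsubL : L ⊆ six6 := by
      intro y hy
      obtain ⟨x, hx, rfl⟩ := List.mem_map.mp hy
      rcases hcov (f x) with h | h | h
      · exfalso
        rw [hfinj (f5 _ h)] at h
        exact (six6_avoid x hx).1 h
      · exfalso
        rw [← hsix] at h
        exact (six6_avoid x hx).2 (hfinj h)
      · exact h
    exact (List.subperm_of_subset (hnd.map hfinj) hsubL).perm_of_length_le (by rw [List.length_map, hl6])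
  have hff : fixSix L = f := by
    funext i
    unfold fixSix
    split_ifs with h1 h2
    · exact (f5 i h1).symm
    · rw [h2, hsix]
    · have hi : i ∈ six6 := ((hcov i).resolve_left h1).resolve_left h2
      have hlt := List.idxOf_lt_length_iff.mpr hi
      rw [hL, ← List.getElem_eq_getD (h := by rw [List.length_map]; exact hlt), List.getElem_map, List.getElem_idxOf]
  have := List.all_eq_true.mp rigid_perms L (List.mem_permutations'.mpr hperm)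
  simp only [Bool.or_eq_true, beq_iff_eq, List.any_eq_true, Bool.not_eq_true', List.contains_eq_mem, decide_eq_false_iff_not] at this
  rcases this with h | ⟨m, hm, h⟩
  · have hid : ∀ i, f i = i := by
      intro i
      rw [← hff, h]
      revert i; decide +kernel
    refine Equiv.ext fun p => ?_
    have h' := congrArg pos (hid (num p))
    simp only [hf, pos_num] at h'
    rw [Equiv.Perm.one_apply]
    conv_lhs => rw [← h']
    simp
  · exact absurd (hpull m hm) (hff ▸ h)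

/-- sign as a unit -/
def sgnU (v : ZMod 3) : (ZMod 3)ˣ := if v = 1 then 1 else -1

/-- preservation of the code -/
def GoodT (σ : Equiv.Perm Cfsg.ArrayPt) (c : Cfsg.ArrayPt → (ZMod 3)ˣ) : Prop :=
  ∀ x ∈ Cfsg.ternaryGolayCode, Cfsg.monomialMap σ c x ∈ Cfsg.ternaryGolayCode

/-- basis parameters -/
def unitPar : List Par := [(1, 0, 0, 0, 0, 0), (0, 1, 0, 0, 0, 0), (0, 0, 1, 0, 0, 0), (0, 0, 0, 1, 0, 0), (0, 0, 0, 0, 1, 0), (0, 0, 0, 0, 0, 1)]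

theorem word_lin : ∀ a b c d e f : ZMod 3, ∀ i : Fin 12, word (a, b, c, d, e, f) (pos i) =
    a * word (1, 0, 0, 0, 0, 0) (pos i) + b * word (0, 1, 0, 0, 0, 0) (pos i) + c * word (0, 0, 1, 0, 0, 0) (pos i) +
    d * word (0, 0, 0, 1, 0, 0) (pos i) + e * word (0, 0, 0, 0, 1, 0) (pos i) + f * word (0, 0, 0, 0, 0, 1) (pos i) := by
  decide +kernel

/-- check of one listed map -/
def monoOK (e : List (Fin 12) × List (Fin 12) × List (ZMod 3)) : Bool :=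
  (List.finRange 12).all (fun i => e.1.getD (e.2.1.getD i.val 0).val 0 == i && e.2.1.getD (e.1.getD i.val 0).val 0 == i) &&
    unitPar.all fun p =>
      let y : Cfsg.ArrayPt → ZMod 3 := fun q =>
        (sgnU (e.2.2.getD (num q).val 0) : ZMod 3) * word p (pos (e.2.1.getD (num q).val 0))
      (List.finRange 12).all fun i => word (par y) (pos i) == y (pos i)

theorem mono_ok : (monoTrans.all fun row => row.all monoOK) = true := by decide +kernel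

theorem mono_cov : ∀ k : Fin 5, ∀ j : Fin 12, (∀ i : Fin 12, i.val < k.val → j ≠ i) →
    ∃ e ∈ monoTrans.getD k.val [], e.1.getD k.val 0 = j ∧ ∀ i : Fin 12, i.val < k.val → e.1.getD i.val 0 = i := by
  decide +kernel

/-- the permutations with signs -/
def InG (σ : Equiv.Perm Cfsg.ArrayPt) : Prop := ∃ c, GoodT σ c

theorem good_mulT {σ τ : Equiv.Perm Cfsg.ArrayPt} {c d : Cfsg.ArrayPt → (ZMod 3)ˣ} (h : GoodT σ c) (h' : GoodT τ d) :
    GoodT (σ * τ) (fun i => c i * d (σ.symm i)) := fun x hx => by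
  have := h _ (h' x hx)
  convert this using 1
  funext i
  simp [Cfsg.monomialMap, mul_assoc]
  rfl

theorem trans_elem (k : Fin 5) (j : Fin 12) (hj : ∀ i : Fin 12, i.val < k.val → j ≠ i) :
    ∃ σ, InG σ ∧ σ (pos ⟨k.val, by omega⟩) = pos j ∧ ∀ i : Fin 12, i.val < k.val → σ (pos i) = pos i := by
  obtain ⟨e, he, hk, hfix⟩ := mono_cov k j hj
  have hrow : monoTrans.getD k.val [] ∈ monoTrans := by
    have hlt : k.val < monoTrans.length := lt_of_lt_of_eq k.isLt (by decide +kernel)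
    rw [← List.getElem_eq_getD (h := hlt)]; exact List.getElem_mem _
  have hok := List.all_eq_true.mp (List.all_eq_true.mp mono_ok _ hrow) e he
  simp only [monoOK, Bool.and_eq_true, List.all_eq_true, beq_iff_eq] at hok
  let σ : Equiv.Perm Cfsg.ArrayPt :=
    ⟨fun q => pos (e.1.getD (num q).val 0), fun q => pos (e.2.1.getD (num q).val 0),
      fun q => by simp only [num_pos]; rw [(hok.1 (num q) (List.mem_finRange _)).2, pos_num],
      fun q => by simp only [num_pos]; rw [(hok.1 (num q) (List.mem_finRange _)).1, pos_num]⟩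
  refine ⟨σ, ⟨fun q => sgnU (e.2.2.getD (num q).val 0), fun x hx => ?_⟩, ?_, fun i hi => ?_⟩
  · obtain ⟨⟨a, b, c, d, g, f⟩, rfl⟩ := mem_iff.mp hx
    have hgen : ∀ p ∈ unitPar, Cfsg.monomialMap σ (fun q => sgnU (e.2.2.getD (num q).val 0)) (word p) ∈ Cfsg.ternaryGolayCode := by
      intro p hp
      refine mem_iff.mpr ⟨par (Cfsg.monomialMap σ (fun q => sgnU (e.2.2.getD (num q).val 0)) (word p)), funext fun q => ?_⟩
      rw [← pos_num q]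
      exact hok.2 p hp (num q) (List.mem_finRange _)
    have hsplit : Cfsg.monomialMap σ (fun q => sgnU (e.2.2.getD (num q).val 0)) (word (a, b, c, d, g, f)) =
        a • Cfsg.monomialMap σ (fun q => sgnU (e.2.2.getD (num q).val 0)) (word (1, 0, 0, 0, 0, 0)) +
        b • Cfsg.monomialMap σ (fun q => sgnU (e.2.2.getD (num q).val 0)) (word (0, 1, 0, 0, 0, 0)) +
        c • Cfsg.monomialMap σ (fun q => sgnU (e.2.2.getD (num q).val 0)) (word (0, 0, 1, 0, 0, 0)) +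
        d • Cfsg.monomialMap σ (fun q => sgnU (e.2.2.getD (num q).val 0)) (word (0, 0, 0, 1, 0, 0)) +
        g • Cfsg.monomialMap σ (fun q => sgnU (e.2.2.getD (num q).val 0)) (word (0, 0, 0, 0, 1, 0)) +
        f • Cfsg.monomialMap σ (fun q => sgnU (e.2.2.getD (num q).val 0)) (word (0, 0, 0, 0, 0, 1)) := by
      funext q
      simp only [Cfsg.monomialMap, Pi.add_apply, Pi.smul_apply, smul_eq_mul]
      rw [← pos_num (σ.symm q), word_lin]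
      ring
    rw [hsplit]
    refine Submodule.add_mem _ (Submodule.add_mem _ (Submodule.add_mem _ (Submodule.add_mem _ (Submodule.add_mem _ ?_ ?_) ?_) ?_) ?_) ?_ <;>
      exact Submodule.smul_mem _ _ (hgen _ (by simp [unitPar]))
  · show pos (e.1.getD (num (pos ⟨k.val, by omega⟩)).val 0) = pos j
    rw [num_pos, hk]
  · show pos (e.1.getD (num (pos i)).val 0) = pos i
    rw [num_pos, hfix i hi]

theorem extend : ∀ n (x : Fin 5 ↪ Cfsg.ArrayPt), (∀ i : Fin 5, i.val + n < 5 → x i = pos ⟨i.val, by omega⟩) →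
    ∃ σ, InG σ ∧ ∀ i : Fin 5, σ (pos ⟨i.val, by omega⟩) = x i
  | 0, x, hx => ⟨1, ⟨fun _ => 1, fun y hy => by convert hy using 1; funext q; simp [Cfsg.monomialMap]; rfl⟩,
      fun i => by rw [Equiv.Perm.one_apply, hx i (by omega)]⟩
  | n + 1, x, hx => by
    by_cases hn : 5 ≤ n
    · exact extend n x fun i hi => absurd hi (by omega)
    let k : Fin 5 := ⟨4 - n, by omega⟩
    obtain ⟨a, ha, hak, haf⟩ := trans_elem k (num (x k)) (fun i hi h => by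
      have hk' : i.val < 4 - n := hi
      have h2 := hx ⟨i.val, by omega⟩ (by show i.val + (n + 1) < 5; omega)
      have : x k = x ⟨i.val, by omega⟩ := by rw [h2, ← pos_num (x k), h]
      have := congrArg Fin.val (x.injective this)
      simp only [k] at this
      omega)
    obtain ⟨b, ⟨d, hd⟩, hb⟩ := extend n (x.trans a⁻¹.toEmbedding) (fun i hi => by
      show a⁻¹ (x i) = _
      rw [Equiv.Perm.coe_inv, Equiv.symm_apply_eq]
      by_cases hik : i.val + (n + 1) < 5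
      · rw [hx i hik, haf ⟨i.val, by omega⟩ (by show i.val < 4 - n; omega)]
      · have : i = k := Fin.ext (by show i.val = 4 - n; omega)
        subst this
        rw [hak, pos_num])
    obtain ⟨c, hc⟩ := ha
    refine ⟨a * b, ⟨_, good_mulT hc hd⟩, fun i => ?_⟩
    rw [Equiv.Perm.mul_apply, hb i]
    simp

theorem supp_mono (σ : Equiv.Perm Cfsg.ArrayPt) (c : Cfsg.ArrayPt → (ZMod 3)ˣ) (x : Cfsg.ArrayPt → ZMod 3) :
    Cfsg.ternarySupport (Cfsg.monomialMap σ c x) = σ • Cfsg.ternarySupport x := by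
  ext q
  rw [← Finset.inv_smul_mem_iff]
  simp only [Cfsg.ternarySupport, Finset.mem_filter, Finset.mem_univ, true_and, Cfsg.monomialMap]
  refine Finset.mem_filter.trans ((and_iff_right (Finset.mem_univ q)).trans ?_)
  exact (Units.mul_right_eq_zero (c q)).not

theorem inG_aut {σ : Equiv.Perm Cfsg.ArrayPt} (h : InG σ) : ∀ t ∈ Hex, σ • t ∈ Hex := by
  obtain ⟨c, hc⟩ := h
  rintro t ⟨x, hx, rfl, h6⟩
  exact ⟨_, hc x hx, supp_mono σ c x, by rw [Finset.card_smul_finset]; exact h6⟩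

theorem aut_iff (σ : Equiv.Perm Cfsg.ArrayPt) : σ ∈ Cfsg.setSystemAut Hex ↔ ∀ t ∈ Hex, σ • t ∈ Hex := by
  rw [MulAction.mem_stabilizer_set_iff_smul_set_subset (Set.toFinite _)]
  exact ⟨fun h t ht => h (Set.smul_mem_smul_set ht), fun h _ ⟨t, ht, e⟩ => e ▸ h t ht⟩

/-- first five -/
def base5T : Fin 5 ↪ Cfsg.ArrayPt :=
  ⟨fun i => pos ⟨i.val, by omega⟩, fun a b h => by
    have := congrArg (fun p => (num p).val) h
    simp only [num_pos] at this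
    exact Fin.ext this⟩

theorem aut_inG {σ : Equiv.Perm Cfsg.ArrayPt} (h : σ ∈ Cfsg.setSystemAut Hex) : InG σ := by
  obtain ⟨τ, hτ, he⟩ := extend 5 (base5T.trans σ.toEmbedding) (fun i hi => absurd hi (by omega))
  have hτ' := (aut_iff τ).mpr (inG_aut hτ)
  have := rigid ((aut_iff (τ⁻¹ * σ)).mp (mul_mem (inv_mem hτ') h)) (fun i hi => by
    have h' : τ (pos i) = σ (pos i) := he ⟨i.val, hi⟩
    rw [Equiv.Perm.mul_apply, Equiv.Perm.coe_inv, ← h', Equiv.symm_apply_apply])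
  rw [inv_mul_eq_one] at this
  rwa [← this]

theorem card_aut : Nat.card (Cfsg.setSystemAut Hex) = 95040 := by
  rw [Nat.card_eq_of_bijective (fun σ : Cfsg.setSystemAut Hex => base5T.trans σ.1.toEmbedding) ⟨fun a b hab => ?_, fun x => ?_⟩,
    Nat.card_eq_fintype_card, Fintype.card_embedding_eq]
  · simp only [Fintype.card_fin, Fintype.card_prod, ZMod.card]
    decide +kernel
  · refine Subtype.ext (inv_mul_eq_one.mp (rigid ((aut_iff _).mp (mul_mem (inv_mem b.2) a.2)) fun i hi => ?_)).symm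
    have h' : a.1 (pos i) = b.1 (pos i) := congrFun (congrArg DFunLike.coe hab) ⟨i.val, hi⟩
    rw [Equiv.Perm.mul_apply, h', Equiv.Perm.coe_inv, Equiv.symm_apply_apply]
  · obtain ⟨σ, hσ, he⟩ := extend 5 x (fun i hi => absurd hi (by omega))
    exact ⟨⟨σ, (aut_iff σ).mpr (inG_aut hσ)⟩, DFunLike.ext _ _ fun i => he i⟩

theorem linked : ∀ i : Fin 12, ∃ m ∈ hexMask, m.testBit 0 = true ∧ m.testBit i.val = true := by decide +kernel

theorem diag_const {c : Cfsg.ArrayPt → (ZMod 3)ˣ} (hc : GoodT 1 c) (q : Cfsg.ArrayPt) : c q = c (pos 0) := by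
  obtain ⟨m, hm, h0, hq⟩ := linked (num q)
  obtain ⟨t, ⟨x, hx, rfl, h6⟩, rfl⟩ := mask_hex hm
  rw [testBit_maskT, pos_num, decide_eq_true_eq] at hq
  have h0' : pos 0 ∈ Cfsg.ternarySupport x := of_decide_eq_true ((testBit_maskT _ 0).symm.trans h0)
  have hy : Cfsg.monomialMap (1 : Equiv.Perm Cfsg.ArrayPt) c x - (c (pos 0) : ZMod 3) • x ∈ Cfsg.ternaryGolayCode :=
    sub_mem (hc x hx) (Submodule.smul_mem _ _ hx)
  have hval : ∀ r, (Cfsg.monomialMap (1 : Equiv.Perm Cfsg.ArrayPt) c x - (c (pos 0) : ZMod 3) • x) r =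
      ((c r : ZMod 3) - c (pos 0)) * x r := fun r => by
    simp only [Pi.sub_apply, Pi.smul_apply, Cfsg.monomialMap, smul_eq_mul]
    rw [sub_mul]; rfl
  by_contra hne
  have h := six_le hy (fun e => by
    have h1 := hval q
    rw [e] at h1
    have hx' : x q ≠ 0 := (Finset.mem_filter.mp hq).2
    have : Fact (Nat.Prime 3) := ⟨by norm_num⟩
    rcases mul_eq_zero.mp h1.symm with h2 | h2
    · exact hne (Units.ext (sub_eq_zero.mp h2))
    · exact hx' h2)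
  have hlt : Cfsg.ternarySupport (Cfsg.monomialMap (1 : Equiv.Perm Cfsg.ArrayPt) c x - (c (pos 0) : ZMod 3) • x) ⊂
      Cfsg.ternarySupport x := by
    refine Finset.ssubset_iff_of_subset (fun r hr => ?_) |>.mpr ⟨pos 0, h0', ?_⟩
    · simp only [Cfsg.ternarySupport, Finset.mem_filter, Finset.mem_univ, true_and] at hr ⊢
      intro h2; rw [hval, h2, mul_zero] at hr; exact hr rfl
    · simp only [Cfsg.ternarySupport, Finset.mem_filter, Finset.mem_univ, true_and, not_not]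
      rw [hval, sub_self, zero_mul]
  have := Finset.card_lt_card hlt
  omega

theorem good_scalar (a : (ZMod 3)ˣ) : GoodT 1 fun _ => a := fun x hx => by
  have e : Cfsg.monomialMap (1 : Equiv.Perm Cfsg.ArrayPt) (fun _ => a) x = (a : ZMod 3) • x := by
    funext q; simp [Cfsg.monomialMap]; rfl
  rw [e]; exact Submodule.smul_mem _ _ hx

/-- The monomial automorphism group of the length-12 ternary code has order 190080 and its permutation parts are exactly the automorphisms of its hexad system. -/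
theorem result : Nat.card {f : Equiv.Perm Cfsg.ArrayPt × (Cfsg.ArrayPt → (ZMod 3)ˣ) // (∀ x ∈ Cfsg.ternaryGolayCode, Cfsg.monomialMap f.1 f.2 x ∈ Cfsg.ternaryGolayCode)} = 190080 ∧ {σ : Equiv.Perm Cfsg.ArrayPt | ∃ c : Cfsg.ArrayPt → (ZMod 3)ˣ, (∀ x ∈ Cfsg.ternaryGolayCode, Cfsg.monomialMap σ c x ∈ Cfsg.ternaryGolayCode)} = (Cfsg.setSystemAut {h : Finset Cfsg.ArrayPt | ∃ x ∈ Cfsg.ternaryGolayCode, Cfsg.ternarySupport x = h ∧ h.card = 6} : Set (Equiv.Perm Cfsg.ArrayPt)) := by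
  classical
  refine ⟨?_, Set.ext fun σ => ⟨fun h => (aut_iff σ).mpr (inG_aut h), fun h => aut_inG h⟩⟩
  choose C hC using fun σ : Cfsg.setSystemAut Hex => aut_inG σ.2
  let f : Cfsg.setSystemAut Hex × (ZMod 3)ˣ → {f : Equiv.Perm Cfsg.ArrayPt × (Cfsg.ArrayPt → (ZMod 3)ˣ) // GoodT f.1 f.2} :=
    fun p => ⟨(p.1.1, fun i => C p.1 i * p.2), by simpa using good_mulT (hC p.1) (good_scalar p.2)⟩
  have hbij : Function.Bijective f := by
    refine ⟨fun p q hpq => ?_, fun ⟨⟨σ, c⟩, hc⟩ => ?_⟩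
    · have hp : p.1 = q.1 := Subtype.ext (congrArg (fun z => z.1.1) hpq)
      have h2 := congrFun (congrArg (fun z => z.1.2) hpq) (pos 0)
      simp only [f, hp] at h2
      exact Prod.ext hp (mul_left_cancel h2)
    · let s : Cfsg.setSystemAut Hex := ⟨σ, (aut_iff σ).mpr (inG_aut ⟨c, hc⟩)⟩
      obtain ⟨d, hd⟩ := aut_inG (inv_mem s.2)
      have hA := fun i => diag_const (mul_inv_cancel σ ▸ good_mulT (hC s) hd : GoodT 1 (fun i => C s i * d (σ.symm i))) i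
      have hB := fun i => diag_const (mul_inv_cancel σ ▸ good_mulT hc hd : GoodT 1 (fun i => c i * d (σ.symm i))) i
      refine ⟨(s, (C s (pos 0))⁻¹ * c (pos 0)), Subtype.ext (Prod.ext rfl (funext fun i => ?_))⟩
      show C s i * ((C s (pos 0))⁻¹ * c (pos 0)) = c i
      have a := hA i
      have b := hB i
      have key : ∀ u v w x y z : (ZMod 3)ˣ, u * y = v * z → w * y = x * z → u * (v⁻¹ * x) = w := by decide +kernel
      exact key _ _ _ _ _ _ a b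
  show Nat.card {f : Equiv.Perm Cfsg.ArrayPt × (Cfsg.ArrayPt → (ZMod 3)ˣ) // GoodT f.1 f.2} = 190080
  rw [← Nat.card_eq_of_bijective f hbij, Nat.card_prod, card_aut, Nat.card_eq_fintype_card]
  decide +kernel

end Cfsg.Agent.S1594
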