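import Cfsg.Statements.S1598
import Cfsg.Agent.Lib.Golay.QuartetStab

set_option autoImplicit false
open scoped Pointwise
open Cfsg

namespace Cfsg.Agent.S1598

/-- A quartet stabiliser inside the dodecad stabiliser has order 432, a normal subgroup of order 9 with quotient GL(2, 3), and is transitive on the dodecad. -/
theorem result (d : Finset Cfsg.GolayPt) (hd : d ∈ Cfsg.dodecads) (Q : Finset (Finset Cfsg.GolayPt)) (hQ : Q ∈ Cfsg.quartets d) : Nat.card ↥(MulAction.stabilizer Cfsg.M24 d ⊓ MulAction.stabilizer Cfsg.M24 Q) = 432 ∧ (∃ (N : Subgroup ↥(MulAction.stabilizer Cfsg.M24 d ⊓ MulAction.stabilizer Cfsg.M24 Q)) (_ : N.Normal), Nat.card N = 9 ∧ Nonempty (↥(MulAction.stabilizer Cfsg.M24 d ⊓ MulAction.stabilizer Cfsg.M24 Q) ⧸ N ≃* GL (Fin 2) (ZMod 3))) ∧ ∀ p ∈ d, ∀ q ∈ d, ∃ g ∈ (MulAction.stabilizer Cfsg.M24 d ⊓ MulAction.stabilizer Cfsg.M24 Q), ((g : ↥Cfsg.M24) : Equiv.Perm Cfsg.GolayPt) p = q :=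 by
  obtain ⟨σ, hσ, h1, h2⟩ := Golay.QuartetStab.exists_base hd hQ
  obtain ⟨e, he⟩ := Golay.QuartetStab.exists_equiv_H0 hσ h1 h2
  obtain ⟨hN, hc, ⟨f⟩⟩ := Golay.QuartetStab.structure_H0
  refine ⟨(Nat.card_congr e.toEquiv).trans Golay.QuartetStab.card_H0,
    ⟨Golay.QuartetStab.N0.map (e.symm : Golay.QuartetStab.H0 →* Golay.QuartetStab.HQ d Q), hN.map (e.symm : Golay.QuartetStab.H0 →* Golay.QuartetStab.HQ d Q) e.symm.surjective, ?_, ⟨?_⟩⟩, ?_⟩
  · rw [← hc]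
    exact (Nat.card_congr (Golay.QuartetStab.N0.equivMapOfInjective _ e.symm.injective).toEquiv).symm
  · haveI := hN
    haveI : (Golay.QuartetStab.N0.map (e.symm : Golay.QuartetStab.H0 →* Golay.QuartetStab.HQ d Q)).Normal := hN.map (e.symm : Golay.QuartetStab.H0 →* Golay.QuartetStab.HQ d Q) e.symm.surjective
    exact (QuotientGroup.congr Golay.QuartetStab.N0 _ e.symm rfl).symm.trans f
  · have key : ∀ p ∈ d, ∃ g ∈ Golay.QuartetStab.HQ d Q,
        ((g : M24) : Equiv.Perm GolayPt) (σ (Golay.pt 23)) = p := by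
      intro p hp
      obtain ⟨g, hg, hgp⟩ := Golay.QuartetStab.trans_D0 (p := σ⁻¹ p) (by
        rw [← Equiv.Perm.smul_def, ← Finset.smul_mem_smul_finset_iff σ, smul_inv_smul, h1]; exact hp)
      refine ⟨_, (e.symm ⟨g, hg⟩).2, ?_⟩
      rw [he, e.apply_symm_apply]
      simp [hgp]
    intro p hp q hq
    obtain ⟨a, ha, hap⟩ := key p hp
    obtain ⟨b, hb, hbq⟩ := key q hq
    refine ⟨b * a⁻¹, mul_mem hb (inv_mem ha), ?_⟩
    rw [← hap, ← hbq]
    simp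

end Cfsg.Agent.S1598
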