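import Cfsg.Statements.S1599
import Cfsg.Agent.Lib.Golay.QuartetOrbits

set_option autoImplicit false
open scoped Pointwise
open Cfsg

namespace Cfsg.Agent.S1599

/-- A quartet stabiliser has five orbits on the quartets of its dodecad, of sizes 1, 12, 27, 72, 108. -/
theorem result (d : Finset Cfsg.GolayPt) (hd : d ∈ Cfsg.dodecads) (Q : Finset (Finset Cfsg.GolayPt)) (hQ : Q ∈ Cfsg.quartets d) : ∃ X₁ ∈ Cfsg.quartets d, ∃ X₂ ∈ Cfsg.quartets d, ∃ X₃ ∈ Cfsg.quartets d, ∃ X₄ ∈ Cfsg.quartets d, (MulAction.orbit ↥(MulAction.stabilizer Cfsg.M24 d ⊓ MulAction.stabilizer Cfsg.M24 Q) X₁).ncard = 12 ∧ (MulAction.orbit ↥(MulAction.stabilizer Cfsg.M24 d ⊓ MulAction.stabilizer Cfsg.M24 Q) X₂).ncard = 27 ∧ (MulAction.orbit ↥(MulAction.stabilizer Cfsg.M24 d ⊓ MulAction.stabilizer Cfsg.M24 Q) X₃).ncard = 72 ∧ (MulAction.orbit ↥(MulAction.stabilizer Cfsg.M24 d ⊓ MulAction.stabilizer Cfsg.M24 Q) X₄).ncard = 108 ∧ Cfsg.quartets d = {Q} ∪ MulAction.orbit ↥(MulAction.stabilizer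 Cfsg.M24 d ⊓ MulAction.stabilizer Cfsg.M24 Q) X₁ ∪ MulAction.orbit ↥(MulAction.stabilizer Cfsg.M24 d ⊓ MulAction.stabilizer Cfsg.M24 Q) X₂ ∪ MulAction.orbit ↥(MulAction.stabilizer Cfsg.M24 d ⊓ MulAction.stabilizer Cfsg.M24 Q) X₃ ∪ MulAction.orbit ↥(MulAction.stabilizer Cfsg.M24 d ⊓ MulAction.stabilizer Cfsg.M24 Q) X₄ := by
  obtain ⟨σ, hσ, h1, h2⟩ := Golay.QuartetStab.exists_base hd hQ
  obtain ⟨e, he⟩ := Golay.QuartetStab.exists_equiv_H0 hσ h1 h2
  have hsub : quartets d = (fun Y => σ • Y) '' quartets Golay.D0 := by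
    ext Y
    constructor
    · intro hY
      refine ⟨σ⁻¹ • Y, ?_, smul_inv_smul σ Y⟩
      have := Golay.Quartets.smul_quartet (inv_mem hσ) hY
      rwa [← h1, inv_smul_smul] at this
    · rintro ⟨Y, hY, rfl⟩
      exact h1 ▸ Golay.Quartets.smul_quartet hσ hY
  have hroot : ∀ L, MulAction.orbit Golay.QuartetStab.H0 (Golay.QuartetStab.qI L) ⊆ quartets Golay.D0 →
      σ • Golay.QuartetStab.qI L ∈ quartets d := fun L h =>
    hsub ▸ ⟨_, h (MulAction.mem_orbit_self _), rfl⟩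
  have hc := Golay.QuartetStab.orbit_cover
  obtain ⟨c1, c2, c3, c4⟩ := Golay.QuartetStab.orbit_sizes
  refine ⟨_, hroot (Golay.QuartetStab.orbQ12.headD []) (by rw [hc]; intro x hx; simp only [Set.mem_union]; tauto),
    _, hroot (Golay.QuartetStab.orbQ27.headD []) (by rw [hc]; intro x hx; simp only [Set.mem_union]; tauto),
    _, hroot (Golay.QuartetStab.orbQ72.headD []) (by rw [hc]; intro x hx; simp only [Set.mem_union]; tauto),
    _, hroot (Golay.QuartetStab.orbQ108.headD []) (by rw [hc]; intro x hx; simp only [Set.mem_union]; tauto), ?_⟩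
  rw [Golay.QuartetStab.orbit_transport e he, Golay.QuartetStab.orbit_transport e he,
    Golay.QuartetStab.orbit_transport e he, Golay.QuartetStab.orbit_transport e he,
    Set.ncard_image_of_injective _ (MulAction.injective σ), Set.ncard_image_of_injective _ (MulAction.injective σ),
    Set.ncard_image_of_injective _ (MulAction.injective σ), Set.ncard_image_of_injective _ (MulAction.injective σ)]
  refine ⟨c1, c2, c3, c4, ?_⟩
  rw [hsub, hc, Set.image_union, Set.image_union, Set.image_union, Set.image_union, Set.image_singleton, h2]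

end Cfsg.Agent.S1599
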