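import Cfsg.Statements.S1600
import Cfsg.Agent.Lib.Golay.MathieuSmall

set_option autoImplicit false
open scoped Pointwise
open Cfsg
open Cfsg.Agent

namespace Cfsg.Agent.S1600

open Cfsg.Agent.Golay Cfsg.Agent.Golay.Small in
theorem trans_data : (∀ T ∈ tabsT, TabIn 3 T) ∧
    ∀ a : Fin 24, dMask.testBit a.val = false → ∃ T ∈ tabsT, tabFn T.1 4 = a := by
  decide +kernel

/-- The pointwise stabiliser of three points of a dodecad inside the dodecad stabiliser (order 72) is transitive on the complementary dodecad. -/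
theorem result (d : Finset Cfsg.GolayPt) (hd : d ∈ Cfsg.dodecads) (p q r : Cfsg.GolayPt) (hp : p ∈ d) (hq : q ∈ d) (hr : r ∈ d) (hpq : p ≠ q) (hpr : p ≠ r) (hqr : q ≠ r) : Nat.card ↥(MulAction.stabilizer Cfsg.M24 d ⊓ MulAction.stabilizer Cfsg.M24 p ⊓ MulAction.stabilizer Cfsg.M24 q ⊓ MulAction.stabilizer Cfsg.M24 r) = 72 ∧ ∀ x ∉ d, ∀ y ∉ d, ∃ g ∈ (MulAction.stabilizer Cfsg.M24 d ⊓ MulAction.stabilizer Cfsg.M24 p ⊓ MulAction.stabilizer Cfsg.M24 q ⊓ MulAction.stabilizer Cfsg.M24 r), ((g : ↥Cfsg.M24) : Equiv.Perm Cfsg.GolayPt) x = y := by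
  obtain ⟨σ, e, -, hdσ, he⟩ := Golay.Small.exists_equiv hd hp hq hr hpq hpr hqr
  refine ⟨(Nat.card_congr e.toEquiv).trans Golay.Small.card_fix_three, fun x hx y hy => ?_⟩
  have key : ∀ z : GolayPt, z ∉ d → ∃ g ∈ Golay.Small.S3pt d p q r,
      ((g : M24) : Equiv.Perm GolayPt) (σ (Golay.pt 4)) = z := by
    intro z hz
    have hw : σ⁻¹ z ∉ Golay.D0 := fun h => hz (by
      rw [← hdσ, ← Finset.inv_smul_mem_iff]; exact h)
    rw [Golay.D0, Golay.mem_supp, Bool.not_eq_true] at hw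
    obtain ⟨T, hT, hTa⟩ := trans_data.2 _ hw
    have hm := Golay.Small.tab_mem (trans_data.1 T hT)
    refine ⟨_, (e.symm ⟨_, hm⟩).2, ?_⟩
    rw [he, e.apply_symm_apply]
    simp [Golay.Small.tperm_apply (trans_data.1 T hT).1, hTa, Golay.pt_idx]
  obtain ⟨a, ha, hax⟩ := key x hx
  obtain ⟨b, hb, hby⟩ := key y hy
  refine ⟨b * a⁻¹, mul_mem hb (inv_mem ha), ?_⟩
  rw [← hax, ← hby]
  simp

end Cfsg.Agent.S1600
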