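import Cfsg.Statements.S1610
-- import your own Cfsg.Agent.* helpers here

set_option autoImplicit false
open Cfsg

namespace Cfsg.Agent.S1610

/-- The hexacode has 64 words, minimum weight 4, and weight distribution 0^1 4^45 6^18. -/
theorem result (F : Type*) [Field F] [Fintype F] [DecidableEq F] (hF : Fintype.card F = 4) (ω : F) (hω : ω ^ 2 + ω + 1 = 0) : Nat.card ↥(Cfsg.hexacode F ω) = 64 ∧ (∀ x ∈ Cfsg.hexacode F ω, x ≠ 0 → (Finset.univ.filter fun i => x i ≠ 0).card = 4 ∨ (Finset.univ.filter fun i => x i ≠ 0).card = 6) ∧ {x : Fin 6 → F | x ∈ Cfsg.hexacode F ω ∧ (Finset.univ.filter fun i => x i ≠ 0).card = 4}.ncard = 45 ∧ {x : Fin 6 → F | x ∈ Cfsg.hexacode F ω ∧ (Finset.univ.filter fun i => x i ≠ 0).card = 6}.ncard = 18 := by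
  classical
  have h2 : (2 : F) = 0 := by
    have := FiniteField.cast_card_eq_zero F
    rw [hF] at this
    have : (2 : F) * 2 = 0 := by norm_num at this ⊢; exact this
    rcases mul_eq_zero.mp this with h | h <;> exact h
  let M : Type := ZMod 2 × ZMod 2
  let φ : M → F := fun m => (if m.1 = 1 then 1 else 0) + (if m.2 = 1 then ω else 0)
  have z2 : ∀ a : ZMod 2, a = 0 ∨ a = 1 := by decide
  have hinj : Function.Injective φ := by
    rintro ⟨a, b⟩ ⟨a', b'⟩ e
    have hω1 : ω ≠ 1 := fun e => one_ne_zero (by subst e; linear_combination hω - h2 : (1 : F) = 0)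
    have hω0 : ω ≠ 0 := fun e => one_ne_zero (by subst e; linear_combination hω : (1 : F) = 0)
    have hω2 : 1 + ω ≠ 0 := fun e => one_ne_zero (by linear_combination hω - ω * e : (1 : F) = 0)
    have hω3 : (1 : F) + ω ≠ 1 := fun e => hω0 (by linear_combination e)
    have hω4 : (1 : F) + ω ≠ ω := fun e => one_ne_zero (by linear_combination e : (1 : F) = 0)
    rcases z2 a with rfl | rfl <;> rcases z2 b with rfl | rfl <;> rcases z2 a' with rfl | rfl <;> rcases z2 b' with rfl | rfl <;>
      simp [φ, hω1, hω0, hω1.symm, hω0.symm, hω2, hω2.symm, hω3, hω3.symm, hω4, hω4.symm] at e ⊢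
  have hadd : ∀ m n : M, φ (m.1 + n.1, m.2 + n.2) = φ m + φ n := by
    rintro ⟨a, b⟩ ⟨a', b'⟩
    rcases z2 a with rfl | rfl <;> rcases z2 b with rfl | rfl <;> rcases z2 a' with rfl | rfl <;> rcases z2 b' with rfl | rfl <;>
      simp [φ, show (1 : ZMod 2) + 1 = 0 by decide] <;> first | ring1 | linear_combination h2 | linear_combination -h2 | linear_combination ω * h2 | linear_combination -ω * h2 | linear_combination (1 + ω) * h2 | linear_combination -(1 + ω) * h2
  have hmul : ∀ m : M, φ (m.2, m.1 + m.2) = ω * φ m := by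
    rintro ⟨a, b⟩
    rcases z2 a with rfl | rfl <;> rcases z2 b with rfl | rfl <;>
      simp [φ, show (1 : ZMod 2) + 1 = 0 by decide] <;> first | linear_combination -hω + (1 + ω) * h2 | linear_combination hω | linear_combination -hω + h2 * ω | linear_combination -hω + h2 | linear_combination -hω + h2 * (ω + 1) + 0 | linear_combination -hω
  have hsurj : Function.Surjective φ := by
    refine ((Fintype.bijective_iff_injective_and_card φ).mpr ⟨hinj, ?_⟩).2
    rw [hF]
    rfl
  let t1 : M → M := fun m => (m.2, m.1 + m.2)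
  let t2 : M → M := fun m => t1 (t1 m)
  let w : M × M × M → Fin 6 → M := fun p =>
    ![t1 p.1 + t2 p.2.1 + t2 p.2.2, t2 p.1 + t1 p.2.1 + t1 p.2.2, t2 p.1 + t1 p.2.1 + t2 p.2.2,
      t1 p.1 + t2 p.2.1 + t1 p.2.2, t2 p.1 + t2 p.2.1 + t1 p.2.2, t1 p.1 + t1 p.2.1 + t2 p.2.2]
  have hw : ∀ p i, φ (w p i) = (φ p.1 • ![ω, ω ^ 2, ω ^ 2, ω, ω ^ 2, ω] + φ p.2.1 • ![ω ^ 2, ω, ω, ω ^ 2, ω ^ 2, ω] +
      φ p.2.2 • ![ω ^ 2, ω, ω ^ 2, ω, ω, ω ^ 2] : Fin 6 → F) i := by
    intro p i
    have e1 : ∀ m, φ (t1 m) = φ m * ω := fun m => by rw [mul_comm]; exact hmul m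
    have e2 : ∀ m, φ (t2 m) = φ m * ω ^ 2 := fun m => by rw [e1, e1, sq, mul_assoc]
    have e3 : ∀ m n : M, φ (m + n) = φ m + φ n := hadd
    fin_cases i <;> simp [w, e1, e2, e3]
  have hcode : ∀ x : Fin 6 → F, x ∈ Cfsg.hexacode F ω ↔ ∃ p, (fun i => φ (w p i)) = x := by
    intro x
    rw [Cfsg.hexacode, Submodule.mem_span_triple]
    constructor
    · rintro ⟨a, b, c, rfl⟩
      obtain ⟨a, rfl⟩ := hsurj a
      obtain ⟨b, rfl⟩ := hsurj b
      obtain ⟨c, rfl⟩ := hsurj c
      exact ⟨(a, b, c), funext fun i => hw _ i⟩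
    · rintro ⟨p, rfl⟩
      exact ⟨_, _, _, (funext fun i => hw p i).symm⟩
  have hwinj : Function.Injective (fun p i => φ (w p i)) := by
    intro p q e
    have e' : w p = w q := funext fun i => hinj (congrFun e i)
    have key : ∀ p : M × M × M, w p = 0 → p = 0 := by decide +kernel
    have : w (p + q) = 0 := by
      funext i
      have e'' := congrFun e' i
      have h0 : ∀ m : M, m + m = 0 := by decide
      have hlin : w (p + q) i = w p i + w q i := by
        have ht1 : ∀ m n : M, t1 (m + n) = t1 m + t1 n := by decide +kernel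
        have ht2 : ∀ m n : M, t2 (m + n) = t2 m + t2 n := by decide +kernel
        show w (p.1 + q.1, p.2.1 + q.2.1, p.2.2 + q.2.2) i = _
        fin_cases i <;> simp only [w, ht1, ht2] <;> simp <;> abel
      rw [hlin, e'', h0]; rfl
    have hz := key _ this
    have h0 : ∀ a b : M × M × M, a + b = 0 → a = b := by decide +kernel
    exact h0 p q hz
  let wt : M × M × M → ℕ := fun p => (Finset.univ.filter fun i => w p i ≠ 0).card
  have hwt : ∀ p, (Finset.univ.filter fun i => φ (w p i) ≠ 0).card = wt p := by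
    intro p
    have h0 : φ (0 : M) = 0 := by
      show (if (0 : ZMod 2) = 1 then (1 : F) else 0) + (if (0 : ZMod 2) = 1 then ω else 0) = 0
      simp
    refine congrArg Finset.card (Finset.filter_congr fun i _ => not_congr ?_)
    rw [← h0]
    exact hinj.eq_iff
  have hset : ∀ k, {x : Fin 6 → F | x ∈ Cfsg.hexacode F ω ∧ (Finset.univ.filter fun i => x i ≠ 0).card = k}.ncard =
      ((Finset.univ : Finset (M × M × M)).filter fun p => wt p = k).card := by
    intro k
    rw [← Set.ncard_coe_finset, ← Set.ncard_image_of_injective _ hwinj]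
    congr 1
    ext x
    constructor
    · rintro ⟨hx, hk⟩
      obtain ⟨p, rfl⟩ := (hcode x).mp hx
      exact ⟨p, Finset.mem_coe.mpr (Finset.mem_filter.mpr ⟨Finset.mem_univ _, (hwt p).symm.trans hk⟩), rfl⟩
    · rintro ⟨p, hp, rfl⟩
      exact ⟨(hcode _).mpr ⟨p, rfl⟩, (hwt p).trans (Finset.mem_filter.mp (Finset.mem_coe.mp hp)).2⟩
  have facts : (∀ p : M × M × M, p ≠ 0 → wt p = 4 ∨ wt p = 6) ∧
      ((Finset.univ : Finset (M × M × M)).filter fun p => wt p = 4).card = 45 ∧
      ((Finset.univ : Finset (M × M × M)).filter fun p => wt p = 6).card = 18 := by decide +kernel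
  refine ⟨?_, fun x hx h0 => ?_, (hset 4).trans facts.2.1, (hset 6).trans facts.2.2⟩
  · have e : (Cfsg.hexacode F ω : Set (Fin 6 → F)) = Set.range fun p i => φ (w p i) :=
      Set.ext fun x => hcode x
    rw [← SetLike.coe_sort_coe, e, Nat.card_range_of_injective hwinj]
    simp [M, Nat.card_eq_fintype_card]
  · obtain ⟨p, rfl⟩ := (hcode x).mp hx
    refine (facts.1 p fun e => h0 ?_).imp (hwt p).trans (hwt p).trans
    subst e
    funext i
    have hz : ∀ i, w 0 i = 0 := by decide +kernel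
    show φ (w 0 i) = 0
    rw [hz i]
    show (if (0 : ZMod 2) = 1 then (1 : F) else 0) + (if (0 : ZMod 2) = 1 then ω else 0) = 0
    simp

end Cfsg.Agent.S1610
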