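import Cfsg.Statements.S1611

set_option autoImplicit false
open Cfsg

namespace Cfsg.Agent.S1611

set_option maxRecDepth 100000

/-- four elements -/
abbrev Q4 := ZMod 2 × ZMod 2

/-- times the cube root of unity -/
def om (m : Q4) : Q4 := (m.2, m.1 + m.2)

/-- times a power of it -/
def scal : Fin 3 → Q4 → Q4 := ![id, om, fun m => om (om m)]

/-- a code word -/
def word (p : Q4 × Q4 × Q4) : Fin 6 → Q4 :=
  ![om p.1 + om (om p.2.1) + om (om p.2.2), om (om p.1) + om p.2.1 + om p.2.2, om (om p.1) + om p.2.1 + om (om p.2.2),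
    om p.1 + om (om p.2.1) + om p.2.2, om (om p.1) + om (om p.2.1) + om p.2.2, om p.1 + om p.2.1 + om (om p.2.2)]

/-- the three generators -/
def gen3 : List (Fin 6 → Q4) := [word ((1, 0), 0, 0), word (0, (1, 0), 0), word (0, 0, (1, 0))]

/-- membership -/
def inHex (x : Fin 6 → Q4) : Prop := ∃ p, ∀ i, word p i = x i

instance decInHex (x : Fin 6 → Q4) : Decidable (inHex x) := by unfold inHex; infer_instance

/-- preservation by a monomial map -/
def pres (si : Fin 6 → Fin 6) (c : Fin 6 → Fin 3) : Prop := ∀ g ∈ gen3, inHex fun i => scal (c i) (g (si i))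

instance decPres (si : Fin 6 → Fin 6) (c : Fin 6 → Fin 3) : Decidable (pres si c) := by unfold pres; infer_instance

/-- exponents of the check rows -/
def rows : List (List (Fin 3)) := [[2, 1, 1, 2, 1, 2], [1, 2, 2, 1, 1, 2], [1, 2, 1, 2, 2, 1]]

/-- exponents of the generators -/
def expo : List (List (Fin 3)) := [[1, 2, 2, 1, 2, 1], [2, 1, 1, 2, 2, 1], [2, 1, 2, 1, 1, 2]]

/-- elements as numbers -/
def enc (m : Q4) : ℕ := m.1.val + 2 * m.2.val

/-- numbers for the powers -/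
def tb (n : ℕ) : ℕ := [1, 2, 3].getD (n % 3) 0

theorem enc_add : ∀ a b : Q4, enc (a + b) = enc a ^^^ enc b := by decide +kernel

theorem enc_pow : ∀ r c e : Fin 3, enc (scal r (scal c (scal e (1, 0)))) = tb (r.val + c.val + e.val) := by decide +kernel

theorem enc_eq_zero : ∀ a : Q4, a = 0 → enc a = 0 := by decide +kernel

theorem expo_ok : ∀ e ∈ expo, ∃ g ∈ gen3, ∀ i : Fin 6, g i = scal (e.getD i.val 0) (1, 0) := by decide +kernel

/-- zero syndrome -/
def synOK (x : Fin 6 → Q4) : Prop :=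
  ∀ r ∈ rows, scal (r.getD 0 0) (x 0) + scal (r.getD 1 0) (x 1) + scal (r.getD 2 0) (x 2) +
    scal (r.getD 3 0) (x 3) + scal (r.getD 4 0) (x 4) + scal (r.getD 5 0) (x 5) = 0

instance decSyn (x : Fin 6 → Q4) : Decidable (synOK x) := by unfold synOK; infer_instance

theorem word_syn : ∀ p, synOK (word p) := by decide +kernel

/-- the necessary condition as a test -/
def synB (s0 s1 s2 s3 s4 s5 : Fin 6) (a b c d e f : Fin 3) : Bool :=
  expo.all fun g => rows.all fun r =>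
    tb ((r.getD 0 0).val + a.val + (g.getD s0.val 0).val) ^^^ tb ((r.getD 1 0).val + b.val + (g.getD s1.val 0).val) ^^^
    tb ((r.getD 2 0).val + c.val + (g.getD s2.val 0).val) ^^^ tb ((r.getD 3 0).val + d.val + (g.getD s3.val 0).val) ^^^
    tb ((r.getD 4 0).val + e.val + (g.getD s4.val 0).val) ^^^ tb ((r.getD 5 0).val + f.val + (g.getD s5.val 0).val) == 0

theorem pres_syn {si : Fin 6 → Fin 6} {c : Fin 6 → Fin 3} (h : pres si c) :
    synB (si 0) (si 1) (si 2) (si 3) (si 4) (si 5) (c 0) (c 1) (c 2) (c 3) (c 4) (c 5) = true := by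
  simp only [synB, List.all_eq_true, beq_iff_eq]
  intro e he r hr
  obtain ⟨g, hg, hge⟩ := expo_ok e he
  obtain ⟨p, hp⟩ := h g hg
  have hs := enc_eq_zero _ (word_syn p r hr)
  simp only [hp, hge, enc_add, enc_pow] at hs
  exact hs

/-- all six-tuples of scalars -/
def allSix (P : Fin 3 → Fin 3 → Fin 3 → Fin 3 → Fin 3 → Fin 3 → Bool) : Bool :=
  let l := [0, 1, 2]
  l.all fun a => l.all fun b => l.all fun c => l.all fun d => l.all fun e => l.all fun f => P a b c d e f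

theorem allSix_spec {P : Fin 3 → Fin 3 → Fin 3 → Fin 3 → Fin 3 → Fin 3 → Bool} (h : allSix P = true)
    (a b c d e f : Fin 3) : P a b c d e f = true := by
  have key : ∀ x : Fin 3, x ∈ ([0, 1, 2] : List (Fin 3)) := by decide
  simp only [allSix, List.all_eq_true] at h
  exact h a (key a) b (key b) c (key c) d (key d) e (key e) f (key f)

theorem diag_bool : allSix (fun a b c d e f => !synB 0 1 2 3 4 5 a b c d e f || (a == b && a == c && a == d && a == e && a == f)) = true := by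
  decide +kernel

theorem swap_bool : allSix (fun a b c d e f => !synB 1 0 2 3 4 5 a b c d e f) = true := by decide +kernel

theorem diag_syn (a b c d e f : Fin 3) (h : synB 0 1 2 3 4 5 a b c d e f = true) :
    a = b ∧ a = c ∧ a = d ∧ a = e ∧ a = f := by
  have := allSix_spec diag_bool a b c d e f
  simpa [h, and_assoc] using this

theorem swap_syn (a b c d e f : Fin 3) : synB 1 0 2 3 4 5 a b c d e f = false := by
  simpa using allSix_spec swap_bool a b c d e f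

theorem diag_scalar (c : Fin 6 → Fin 3) (h : pres id c) (i j : Fin 6) : c i = c j := by
  have hh := pres_syn h
  simp only [id_eq] at hh
  obtain ⟨h1, h2, h3, h4, h5⟩ := diag_syn (c 0) (c 1) (c 2) (c 3) (c 4) (c 5) hh
  have key : ∀ k, c k = c 0 := fun k => by fin_cases k <;> first | rfl | exact h1.symm | exact h2.symm | exact h3.symm | exact h4.symm | exact h5.symm
  rw [key i, key j]

theorem swap_none (c : Fin 6 → Fin 3) : ¬pres ![1, 0, 2, 3, 4, 5] c := fun h => by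
  have hh := pres_syn h
  simp only [Matrix.cons_val_zero, Matrix.cons_val_one, Matrix.cons_val] at hh
  rw [swap_syn (c 0) (c 1) (c 2) (c 3) (c 4) (c 5)] at hh
  exact Bool.false_ne_true hh

/-- scalars going with each three-cycle -/
def cycWit : List (List (Fin 6) × List (Fin 3) × List (Q4 × Q4 × Q4)) := [([1, 2, 0, 3, 4, 5], [0, 0, 0, 0, 2, 1], [((0, 0), (0, 0), (1, 0)), ((1, 0), (1, 0), (1, 0)), ((1, 1), (0, 1), (1, 0))]),
  ([1, 3, 2, 0, 4, 5], [0, 0, 0, 0, 1, 2], [((0, 1), (1, 1), (1, 0)), ((1, 1), (0, 1), (1, 0)), ((1, 0), (0, 0), (0, 0))]),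
  ([1, 4, 2, 3, 0, 5], [0, 0, 2, 1, 0, 0], [((0, 0), (1, 0), (0, 0)), ((1, 1), (1, 0), (0, 1)), ((1, 0), (1, 0), (1, 0))]),
  ([1, 5, 2, 3, 4, 0], [0, 0, 1, 2, 0, 0], [((0, 1), (1, 0), (1, 1)), ((1, 0), (0, 0), (0, 0)), ((1, 1), (1, 0), (0, 1))]),
  ([2, 0, 1, 3, 4, 5], [0, 0, 0, 0, 1, 2], [((1, 1), (0, 1), (1, 0)), ((0, 1), (1, 1), (1, 0)), ((1, 0), (0, 0), (0, 0))]),
  ([2, 1, 3, 0, 4, 5], [0, 0, 0, 0, 2, 1], [((1, 0), (1, 0), (1, 0)), ((0, 0), (0, 0), (1, 0)), ((0, 1), (1, 1), (1, 0))]),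
  ([2, 1, 4, 3, 0, 5], [0, 2, 1, 0, 2, 1], [((0, 0), (0, 0), (1, 0)), ((0, 1), (0, 0), (0, 0)), ((0, 0), (1, 1), (0, 0))]),
  ([2, 1, 5, 3, 4, 0], [0, 1, 2, 0, 2, 1], [((0, 0), (1, 1), (0, 0)), ((1, 0), (1, 0), (1, 0)), ((1, 1), (0, 1), (1, 0))]),
  ([3, 0, 2, 1, 4, 5], [0, 0, 0, 0, 2, 1], [((0, 0), (0, 0), (1, 0)), ((1, 0), (1, 0), (1, 0)), ((0, 1), (1, 1), (1, 0))]),
  ([3, 1, 0, 2, 4, 5], [0, 0, 0, 0, 1, 2], [((1, 1), (0, 1), (1, 0)), ((0, 1), (1, 1), (1, 0)), ((0, 0), (1, 0), (0, 0))]),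
  ([3, 1, 2, 4, 0, 5], [0, 1, 0, 2, 1, 2], [((0, 1), (0, 1), (0, 1)), ((1, 1), (0, 1), (1, 0)), ((1, 0), (0, 0), (0, 0))]),
  ([3, 1, 2, 5, 4, 0], [0, 2, 0, 1, 1, 2], [((0, 1), (1, 1), (1, 0)), ((0, 0), (0, 0), (1, 1)), ((0, 1), (0, 1), (0, 1))]),
  ([4, 0, 2, 3, 1, 5], [0, 0, 1, 2, 0, 0], [((1, 1), (1, 0), (0, 1)), ((1, 0), (0, 0), (0, 0)), ((0, 1), (1, 0), (1, 1))]),
  ([4, 1, 0, 3, 2, 5], [0, 2, 2, 1, 1, 0], [((0, 0), (1, 0), (0, 0)), ((0, 0), (0, 0), (1, 1)), ((0, 1), (0, 0), (0, 0))]),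
  ([4, 1, 2, 0, 3, 5], [0, 1, 2, 1, 2, 0], [((0, 0), (0, 0), (1, 1)), ((1, 1), (1, 0), (0, 1)), ((1, 0), (1, 0), (1, 0))]),
  ([4, 1, 2, 3, 5, 0], [0, 0, 2, 1, 0, 0], [((1, 0), (1, 0), (1, 0)), ((0, 1), (1, 0), (1, 1)), ((0, 0), (1, 0), (0, 0))]),
  ([5, 0, 2, 3, 4, 1], [0, 0, 2, 1, 0, 0], [((0, 0), (1, 0), (0, 0)), ((0, 1), (1, 0), (1, 1)), ((1, 0), (1, 0), (1, 0))]),
  ([5, 1, 0, 3, 4, 2], [0, 1, 1, 2, 0, 2], [((0, 1), (0, 1), (0, 1)), ((1, 0), (0, 0), (0, 0)), ((1, 1), (1, 0), (0, 1))]),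
  ([5, 1, 2, 0, 4, 3], [0, 2, 1, 2, 0, 1], [((0, 1), (1, 0), (1, 1)), ((0, 1), (0, 1), (0, 1)), ((0, 0), (1, 1), (0, 0))]),
  ([5, 1, 2, 3, 0, 4], [0, 0, 1, 2, 0, 0], [((1, 1), (1, 0), (0, 1)), ((0, 0), (0, 0), (1, 0)), ((0, 1), (1, 0), (1, 1))]),
  ([0, 2, 3, 1, 4, 5], [0, 0, 0, 0, 1, 2], [((0, 1), (1, 1), (1, 0)), ((1, 1), (0, 1), (1, 0)), ((0, 0), (1, 0), (0, 0))]),
  ([0, 2, 4, 3, 1, 5], [0, 2, 1, 2, 0, 1], [((0, 1), (1, 0), (1, 1)), ((0, 0), (0, 0), (1, 0)), ((0, 1), (0, 1), (0, 1))]),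
  ([0, 2, 5, 3, 4, 1], [0, 1, 2, 1, 2, 0], [((1, 0), (1, 0), (1, 0)), ((1, 1), (1, 0), (0, 1)), ((0, 1), (0, 0), (0, 0))]),
  ([0, 3, 1, 2, 4, 5], [0, 0, 0, 0, 2, 1], [((1, 0), (1, 0), (1, 0)), ((0, 0), (0, 0), (1, 0)), ((1, 1), (0, 1), (1, 0))]),
  ([0, 3, 2, 4, 1, 5], [0, 1, 1, 2, 0, 2], [((0, 0), (1, 1), (0, 0)), ((0, 1), (0, 1), (0, 1)), ((1, 1), (1, 0), (0, 1))]),
  ([0, 3, 2, 5, 4, 1], [0, 2, 2, 1, 1, 0], [((0, 0), (0, 0), (1, 1)), ((0, 1), (0, 0), (0, 0)), ((0, 0), (1, 0), (0, 0))]),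
  ([0, 4, 1, 3, 2, 5], [0, 2, 0, 1, 1, 2], [((0, 1), (1, 1), (1, 0)), ((0, 1), (0, 1), (0, 1)), ((0, 0), (1, 0), (0, 0))]),
  ([0, 4, 2, 1, 3, 5], [0, 1, 2, 0, 2, 1], [((1, 0), (1, 0), (1, 0)), ((0, 1), (0, 0), (0, 0)), ((1, 1), (0, 1), (1, 0))]),
  ([0, 4, 2, 3, 5, 1], [0, 0, 1, 2, 0, 0], [((0, 1), (1, 0), (1, 1)), ((0, 0), (0, 0), (1, 0)), ((1, 1), (1, 0), (0, 1))]),
  ([0, 5, 1, 3, 4, 2], [0, 1, 0, 2, 1, 2], [((0, 0), (0, 0), (1, 1)), ((1, 1), (0, 1), (1, 0)), ((0, 1), (0, 1), (0, 1))]),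
  ([0, 5, 2, 1, 4, 3], [0, 2, 1, 0, 2, 1], [((0, 0), (1, 1), (0, 0)), ((0, 0), (0, 0), (1, 0)), ((0, 1), (0, 0), (0, 0))]),
  ([0, 5, 2, 3, 1, 4], [0, 0, 2, 1, 0, 0], [((1, 0), (1, 0), (1, 0)), ((1, 1), (1, 0), (0, 1)), ((0, 0), (1, 0), (0, 0))]),
  ([0, 1, 3, 4, 2, 5], [0, 2, 1, 1, 1, 1], [((0, 1), (1, 0), (1, 1)), ((0, 1), (0, 0), (0, 0)), ((0, 1), (0, 1), (0, 1))]),
  ([0, 1, 3, 5, 4, 2], [0, 1, 2, 2, 2, 2], [((0, 0), (1, 1), (0, 0)), ((1, 1), (1, 0), (0, 1)), ((1, 1), (0, 1), (1, 0))]),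
  ([0, 1, 4, 2, 3, 5], [0, 1, 2, 2, 2, 2], [((0, 0), (1, 1), (0, 0)), ((1, 1), (0, 1), (1, 0)), ((1, 1), (1, 0), (0, 1))]),
  ([0, 1, 4, 3, 5, 2], [0, 2, 1, 1, 1, 1], [((0, 1), (1, 1), (1, 0)), ((0, 1), (0, 1), (0, 1)), ((0, 1), (0, 0), (0, 0))]),
  ([0, 1, 5, 2, 4, 3], [0, 2, 1, 1, 1, 1], [((0, 1), (1, 1), (1, 0)), ((0, 1), (0, 0), (0, 0)), ((0, 1), (0, 1), (0, 1))]),
  ([0, 1, 5, 3, 2, 4], [0, 1, 2, 2, 2, 2], [((0, 0), (0, 0), (1, 1)), ((1, 1), (0, 1), (1, 0)), ((1, 1), (1, 0), (0, 1))]),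
  ([0, 1, 2, 4, 5, 3], [0, 1, 2, 2, 2, 2], [((0, 0), (0, 0), (1, 1)), ((1, 1), (1, 0), (0, 1)), ((1, 1), (0, 1), (1, 0))]),
  ([0, 1, 2, 5, 3, 4], [0, 2, 1, 1, 1, 1], [((0, 1), (1, 0), (1, 1)), ((0, 1), (0, 1), (0, 1)), ((0, 1), (0, 0), (0, 0))])]

theorem cyc_lit : ∀ e ∈ cycWit, ∃ si ∈ cycWit.map Prod.fst, (∀ i, e.1.getD (si.getD (i : Fin 6).val 0).val 0 = i) ∧
    ∀ j : Fin 3, ∀ i : Fin 6, word (e.2.2.getD j.val (0, 0, 0)) i =
      scal (e.2.1.getD i.val 0) ((gen3.getD j.val 0) (si.getD i.val 0)) := by decide +kernel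

theorem cyc_ok : ∀ e ∈ cycWit, ∃ si ∈ cycWit.map Prod.fst, (∀ i, e.1.getD (si.getD (i : Fin 6).val 0).val 0 = i) ∧
    pres (fun i => si.getD i.val 0) (fun i => e.2.1.getD i.val 0) := fun e he => by
  obtain ⟨si, hsi, h1, h2⟩ := cyc_lit e he
  refine ⟨si, hsi, h1, fun g hg => ?_⟩
  simp only [gen3, List.mem_cons, List.not_mem_nil, or_false] at hg
  rcases hg with rfl | rfl | rfl
  exacts [⟨_, h2 0⟩, ⟨_, h2 1⟩, ⟨_, h2 2⟩]

theorem cyc_all : ∀ a b c : Fin 6, a ≠ b → a ≠ c → b ≠ c → ∃ e ∈ cycWit,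
    ∀ i : Fin 6, e.1.getD i.val 0 = if i = a then b else if i = b then c else if i = c then a else i := by
  decide +kernel

section transfer

variable {F : Type*} [Field F] [Fintype F] [DecidableEq F] {ω : F}

/-- the bijection -/
def phi (ω : F) (m : Q4) : F := (if m.1 = 1 then 1 else 0) + (if m.2 = 1 then ω else 0)

theorem two_zero (hF : Fintype.card F = 4) : (2 : F) = 0 := by
  have := FiniteField.cast_card_eq_zero F
  rw [hF] at this
  have : (2 : F) * 2 = 0 := by norm_num at this ⊢; exact this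
  rcases mul_eq_zero.mp this with h | h <;> exact h

theorem phi_inj (hF : Fintype.card F = 4) (hω : ω ^ 2 + ω + 1 = 0) : Function.Injective (phi ω) := by
  have h2 := two_zero hF
  have z2 : ∀ a : ZMod 2, a = 0 ∨ a = 1 := by decide
  rintro ⟨a, b⟩ ⟨a', b'⟩ e
  have hω1 : ω ≠ 1 := fun e => one_ne_zero (by subst e; linear_combination hω - h2 : (1 : F) = 0)
  have hω0 : ω ≠ 0 := fun e => one_ne_zero (by subst e; linear_combination hω : (1 : F) = 0)
  have hω2 : 1 + ω ≠ 0 := fun e => one_ne_zero (by linear_combination hω - ω * e : (1 : F) = 0)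
  have hω3 : (1 : F) + ω ≠ 1 := fun e => hω0 (by linear_combination e)
  have hω4 : (1 : F) + ω ≠ ω := fun e => one_ne_zero (by linear_combination e : (1 : F) = 0)
  rcases z2 a with rfl | rfl <;> rcases z2 b with rfl | rfl <;> rcases z2 a' with rfl | rfl <;> rcases z2 b' with rfl | rfl <;>
    simp [phi, hω1, hω0, hω1.symm, hω0.symm, hω2, hω2.symm, hω3, hω3.symm, hω4, hω4.symm] at e ⊢

theorem phi_add (hF : Fintype.card F = 4) (m n : Q4) : phi ω (m + n) = phi ω m + phi ω n := by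
  have h2 := two_zero hF
  have z2 : ∀ a : ZMod 2, a = 0 ∨ a = 1 := by decide
  obtain ⟨a, b⟩ := m
  obtain ⟨a', b'⟩ := n
  rcases z2 a with rfl | rfl <;> rcases z2 b with rfl | rfl <;> rcases z2 a' with rfl | rfl <;> rcases z2 b' with rfl | rfl <;>
    simp [phi, show (1 : ZMod 2) + 1 = 0 by decide] <;> first | ring1 | linear_combination h2 | linear_combination -h2 | linear_combination ω * h2 | linear_combination -ω * h2 | linear_combination (1 + ω) * h2 | linear_combination -(1 + ω) * h2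

theorem phi_om (hF : Fintype.card F = 4) (hω : ω ^ 2 + ω + 1 = 0) (m : Q4) : phi ω (om m) = ω * phi ω m := by
  have h2 := two_zero hF
  have z2 : ∀ a : ZMod 2, a = 0 ∨ a = 1 := by decide
  obtain ⟨a, b⟩ := m
  rcases z2 a with rfl | rfl <;> rcases z2 b with rfl | rfl <;>
    simp [phi, om, show (1 : ZMod 2) + 1 = 0 by decide] <;> first | linear_combination -hω + (1 + ω) * h2 | linear_combination hω | linear_combination -hω + h2 * ω | linear_combination -hω + h2 | linear_combination -hω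

theorem phi_surj (hF : Fintype.card F = 4) (hω : ω ^ 2 + ω + 1 = 0) : Function.Surjective (phi ω) :=
  ((Fintype.bijective_iff_injective_and_card (phi ω)).mpr ⟨phi_inj hF hω, by rw [hF]; rfl⟩).2

theorem mem_iff (hF : Fintype.card F = 4) (hω : ω ^ 2 + ω + 1 = 0) (x : Fin 6 → Q4) :
    (fun i => phi ω (x i)) ∈ Cfsg.hexacode F ω ↔ inHex x := by
  have hw : ∀ p i, phi ω (word p i) = (phi ω p.1 • ![ω, ω ^ 2, ω ^ 2, ω, ω ^ 2, ω] +
      phi ω p.2.1 • ![ω ^ 2, ω, ω, ω ^ 2, ω ^ 2, ω] + phi ω p.2.2 • ![ω ^ 2, ω, ω ^ 2, ω, ω, ω ^ 2] : Fin 6 → F) i := by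
    intro p i
    have e1 : ∀ m, phi ω (om m) = phi ω m * ω := fun m => by rw [mul_comm]; exact phi_om hF hω m
    have e3 : ∀ m n : Q4, phi ω (m + n) = phi ω m + phi ω n := phi_add hF
    fin_cases i <;> simp [word, e1, e3, sq, mul_assoc]
  rw [Cfsg.hexacode, Submodule.mem_span_triple]
  constructor
  · rintro ⟨a, b, c, e⟩
    obtain ⟨a, rfl⟩ := phi_surj hF hω a
    obtain ⟨b, rfl⟩ := phi_surj hF hω b
    obtain ⟨c, rfl⟩ := phi_surj hF hω c
    exact ⟨(a, b, c), fun i => phi_inj hF hω ((hw _ i).trans (congrFun e i))⟩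
  · rintro ⟨p, hp⟩
    exact ⟨_, _, _, funext fun i => (hw p i).symm.trans (by rw [hp i])⟩

theorem gen_mem (hF : Fintype.card F = 4) (hω : ω ^ 2 + ω + 1 = 0) :
    Cfsg.hexacode F ω = Submodule.span F ((fun g i => phi ω (g i)) '' {g | g ∈ gen3}) := by
  have e3 : ∀ g ∈ gen3, (fun i => phi ω (g i)) ∈ Cfsg.hexacode F ω := by
    intro g hg
    rw [mem_iff hF hω]
    simp only [gen3, List.mem_cons, List.not_mem_nil, or_false] at hg
    rcases hg with rfl | rfl | rfl <;> exact ⟨_, fun _ => rfl⟩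
  have e1 : ∀ m, phi ω (om m) = ω * phi ω m := phi_om hF hω
  have e0 : phi ω (0 : Q4) = 0 := by simp [phi]
  have e10 : phi ω ((1, 0) : Q4) = 1 := by simp [phi]
  refine le_antisymm ?_ (Submodule.span_le.mpr (by rintro _ ⟨g, hg, rfl⟩; exact e3 g hg))
  rw [Cfsg.hexacode, Submodule.span_le]
  rintro x hx
  simp only [Set.mem_insert_iff, Set.mem_singleton_iff] at hx
  have ea : ∀ m n : Q4, phi ω (m + n) = phi ω m + phi ω n := phi_add hF
  rcases hx with rfl | rfl | rfl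
  · refine Submodule.subset_span ⟨word ((1, 0), 0, 0), by simp [gen3], funext fun i => ?_⟩
    fin_cases i <;> simp [word, e1, ea, e0, e10, sq]
  · refine Submodule.subset_span ⟨word (0, (1, 0), 0), by simp [gen3], funext fun i => ?_⟩
    fin_cases i <;> simp [word, e1, ea, e0, e10, sq]
  · refine Submodule.subset_span ⟨word (0, 0, (1, 0)), by simp [gen3], funext fun i => ?_⟩
    fin_cases i <;> simp [word, e1, ea, e0, e10, sq]

/-- the scalars -/
noncomputable def unitK (ω : F) (hω : ω ^ 2 + ω + 1 = 0) (k : Fin 3) : Fˣ :=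
  Units.mk0 (ω ^ k.val) (pow_ne_zero _ fun e => one_ne_zero (by subst e; linear_combination hω : (1 : F) = 0))

theorem unitK_phi (hF : Fintype.card F = 4) (hω : ω ^ 2 + ω + 1 = 0) (k : Fin 3) (m : Q4) :
    phi ω (scal k m) = (unitK ω hω k : F) * phi ω m := by
  fin_cases k <;> simp [scal, unitK, phi_om hF hω, sq, mul_assoc]

theorem unitK_bij (hF : Fintype.card F = 4) (hω : ω ^ 2 + ω + 1 = 0) : Function.Bijective (unitK ω hω) := by
  refine (Fintype.bijective_iff_injective_and_card _).mpr ⟨fun a b h => ?_, by rw [Fintype.card_units, hF]; rfl⟩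
  have e : phi ω (scal a (1, 0)) = phi ω (scal b (1, 0)) := by rw [unitK_phi hF hω, unitK_phi hF hω, h]
  have key : ∀ a b : Fin 3, scal a (1, 0) = scal b (1, 0) → a = b := by decide +kernel
  exact key a b (phi_inj hF hω e)

/-- the set of pairs -/
def Good (ω : F) (σ : Equiv.Perm (Fin 6)) (c : Fin 6 → Fˣ) : Prop :=
  ∀ x ∈ Cfsg.hexacode F ω, Cfsg.monomialMap σ c x ∈ Cfsg.hexacode F ω

theorem good_iff (hF : Fintype.card F = 4) (hω : ω ^ 2 + ω + 1 = 0) (σ : Equiv.Perm (Fin 6)) (k : Fin 6 → Fin 3) :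
    Good ω σ (fun i => unitK ω hω (k i)) ↔ pres σ.symm k := by
  have key : ∀ g : Fin 6 → Q4, Cfsg.monomialMap σ (fun i => unitK ω hω (k i)) (fun i => phi ω (g i)) =
      fun i => phi ω (scal (k i) (g (σ.symm i))) := fun g => funext fun i => by
    rw [unitK_phi hF hω]; rfl
  constructor
  · intro h g hg
    have h' := h (fun i => phi ω (g i)) (by
      rw [gen_mem hF hω]; exact Submodule.subset_span ⟨g, hg, rfl⟩)
    rw [key] at h'
    exact (mem_iff hF hω _).mp h'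
  · intro h x hx
    let L : (Fin 6 → F) →ₗ[F] (Fin 6 → F) :=
      { toFun := Cfsg.monomialMap σ (fun i => unitK ω hω (k i))
        map_add' := fun a b => funext fun i => mul_add _ _ _
        map_smul' := fun a b => funext fun i => by simp [Cfsg.monomialMap, mul_left_comm] }
    have hle : Submodule.span F ((fun g i => phi ω (g i)) '' {g : Fin 6 → Q4 | g ∈ gen3}) ≤ (Cfsg.hexacode F ω).comap L := by
      rw [Submodule.span_le]
      rintro _ ⟨g, hg, rfl⟩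
      show Cfsg.monomialMap σ (fun i => unitK ω hω (k i)) (fun i => phi ω (g i)) ∈ Cfsg.hexacode F ω
      rw [key, mem_iff hF hω]
      exact h g hg
    exact hle (by rwa [← gen_mem hF hω])

theorem good_mul {σ τ : Equiv.Perm (Fin 6)} {c d : Fin 6 → Fˣ} (h : Good ω σ c) (h' : Good ω τ d) :
    Good ω (σ * τ) (fun i => c i * d (σ.symm i)) := fun x hx => by
  have := h _ (h' x hx)
  convert this using 1
  funext i
  simp [Cfsg.monomialMap, mul_assoc]
  rfl

theorem good_one : Good ω (1 : Equiv.Perm (Fin 6)) (fun _ => 1) := fun x hx => by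
  convert hx using 1
  funext i
  simp [Cfsg.monomialMap]
  rfl

theorem good_const (a : Fˣ) : Good ω (1 : Equiv.Perm (Fin 6)) (fun _ => a) := fun x hx => by
  have : Cfsg.monomialMap (1 : Equiv.Perm (Fin 6)) (fun _ => a) x = (a : F) • x := by
    funext i; simp [Cfsg.monomialMap]; rfl
  rw [this]
  exact Submodule.smul_mem _ _ hx

end transfer

/-- The monomial automorphism group of the hexacode has order 1080: its diagonal part is the scalars and its permutation parts form the alternating group of degree 6. -/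
theorem result (F : Type*) [Field F] [Fintype F] [DecidableEq F] (hF : Fintype.card F = 4) (ω : F) (hω : ω ^ 2 + ω + 1 = 0) : Nat.card {f : Equiv.Perm (Fin 6) × (Fin 6 → Fˣ) // (∀ x ∈ Cfsg.hexacode F ω, Cfsg.monomialMap f.1 f.2 x ∈ Cfsg.hexacode F ω)} = 1080 ∧ (∀ c : Fin 6 → Fˣ, (∀ x ∈ Cfsg.hexacode F ω, Cfsg.monomialMap 1 c x ∈ Cfsg.hexacode F ω) → ∀ i j, c i = c j) ∧ {σ : Equiv.Perm (Fin 6) | ∃ c : Fin 6 → Fˣ, (∀ x ∈ Cfsg.hexacode F ω, Cfsg.monomialMap σ c x ∈ Cfsg.hexacode F ω)} = (alternatingGroup (Fin 6) : Set (Equiv.Perm (Fin 6))) := by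
  classical
  have hb := unitK_bij hF hω
  have lift : ∀ c : Fin 6 → Fˣ, ∃ k : Fin 6 → Fin 3, (fun i => unitK ω hω (k i)) = c := fun c =>
    ⟨fun i => (hb.2 (c i)).choose, funext fun i => (hb.2 (c i)).choose_spec⟩
  have diag : ∀ c : Fin 6 → Fˣ, Good ω (1 : Equiv.Perm (Fin 6)) c → ∀ i j, c i = c j := by
    intro c hc i j
    obtain ⟨k, rfl⟩ := lift c
    exact congrArg (unitK ω hω) (diag_scalar k ((good_iff hF hω 1 k).mp hc) i j)
  let G : Submonoid (Equiv.Perm (Fin 6)) :=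
    { carrier := {σ | ∃ c : Fin 6 → Fˣ, Good ω σ c}
      one_mem' := ⟨_, good_one⟩
      mul_mem' := fun ⟨_, hc⟩ ⟨_, hd⟩ => ⟨_, good_mul hc hd⟩ }
  have hinv : ∀ σ ∈ G, σ⁻¹ ∈ G := by
    intro σ hσ
    have h1 : σ ^ (orderOf σ - 1) * σ = 1 := by
      rw [← pow_succ, Nat.sub_add_cancel (orderOf_pos σ), pow_orderOf_eq_one]
    rw [inv_eq_of_mul_eq_one_left h1]
    exact pow_mem hσ _
  let H : Subgroup (Equiv.Perm (Fin 6)) := { G with inv_mem' := fun {x} hx => hinv x hx }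
  have hle : alternatingGroup (Fin 6) ≤ H := by
    rw [← Equiv.Perm.closure_three_cycles_eq_alternating, Subgroup.closure_le]
    intro σ hσ
    obtain ⟨a, ha⟩ : σ.support.Nonempty := Finset.card_pos.mp (by rw [Equiv.Perm.IsThreeCycle.card_support hσ]; norm_num)
    have hσa : σ a ≠ a := Equiv.Perm.mem_support.mp ha
    have ho : σ ^ 3 = 1 := hσ.orderOf ▸ pow_orderOf_eq_one σ
    have h3 : σ (σ (σ a)) = a := by
      have := congrArg (fun f : Equiv.Perm (Fin 6) => f a) ho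
      simpa [pow_succ] using this
    have hσσ : σ (σ a) ≠ a := fun h => hσa (by conv_rhs => rw [← h3, h])
    have hσσ' : σ (σ a) ≠ σ a := fun h => hσa (σ.injective h)
    obtain ⟨e, he, hi⟩ := cyc_all a (σ a) (σ (σ a)) (Ne.symm hσa) (Ne.symm hσσ) (Ne.symm hσσ')
    have hsupp : σ.support = {a, σ a, σ (σ a)} := by
      refine (Finset.eq_of_subset_of_card_le ?_ ?_).symm
      · intro x hx
        simp only [Finset.mem_insert, Finset.mem_singleton] at hx
        rw [Equiv.Perm.mem_support]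
        rcases hx with rfl | rfl | rfl
        · exact hσa
        · exact fun h => hσa (σ.injective h)
        · exact fun h => hσσ' (σ.injective h)
      · rw [Equiv.Perm.IsThreeCycle.card_support hσ, Finset.card_eq_three.mpr ⟨a, σ a, σ (σ a), Ne.symm hσa, Ne.symm hσσ, Ne.symm hσσ', rfl⟩]
    have hfun : ∀ i, σ i = e.1.getD i.val 0 := by
      intro i
      rw [hi i]
      split_ifs with h1 h2 h4
      · rw [h1]
      · rw [h2]
      · rw [h4, h3]
      · refine Equiv.Perm.notMem_support.mp ?_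
        rw [hsupp]
        simp [h1, h2, h4]
    obtain ⟨si, -, hsi, hp⟩ := cyc_ok e he
    have hsym : ⇑σ.symm = fun i => si.getD i.val 0 := funext fun i => by
      rw [Equiv.symm_apply_eq, hfun, hsi i]
    exact ⟨_, (good_iff hF hω σ _).mpr (by rw [hsym]; exact hp)⟩
  have heq : ∀ σ, σ ∈ H ↔ σ ∈ alternatingGroup (Fin 6) := by
    refine fun σ => ⟨fun hσ => ?_, fun h => hle h⟩
    rw [Equiv.Perm.mem_alternatingGroup]
    by_contra hs
    have hs' : Equiv.Perm.sign σ = -1 := (Int.units_eq_one_or _).resolve_left hs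
    have hev : σ * Equiv.swap (0 : Fin 6) 1 ∈ alternatingGroup (Fin 6) := by
      rw [Equiv.Perm.mem_alternatingGroup, map_mul, hs', Equiv.Perm.sign_swap (by decide)]; rfl
    have hsw : Equiv.swap (0 : Fin 6) 1 ∈ H := by
      have := H.mul_mem (H.inv_mem hσ) (hle hev)
      rwa [inv_mul_cancel_left] at this
    obtain ⟨c, hc⟩ := hsw
    obtain ⟨k, rfl⟩ := lift c
    refine swap_none k ?_
    have e : (![1, 0, 2, 3, 4, 5] : Fin 6 → Fin 6) = ⇑(Equiv.swap (0 : Fin 6) 1).symm := by decide +kernel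
    rw [e]
    exact (good_iff hF hω _ k).mp hc
  refine ⟨?_, fun c hc i j => diag c hc i j, Set.ext fun σ => heq σ⟩
  have wit : ∀ σ : alternatingGroup (Fin 6), ∃ c, Good ω σ.1 c := fun σ => (heq σ.1).mpr σ.2
  choose C hC using wit
  let f : alternatingGroup (Fin 6) × Fˣ → {f : Equiv.Perm (Fin 6) × (Fin 6 → Fˣ) // Good ω f.1 f.2} := fun p =>
    ⟨(p.1.1, fun i => C p.1 i * p.2), by
      have := good_mul (hC p.1) (good_const p.2)
      simpa using this⟩
  have hbij : Function.Bijective f := by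
    refine ⟨fun p q hpq => ?_, fun ⟨⟨σ, c⟩, hc⟩ => ?_⟩
    · have h1 := congrArg (fun z => z.1.1) hpq
      have h2 := congrFun (congrArg (fun z => z.1.2) hpq) 0
      have hp : p.1 = q.1 := Subtype.ext h1
      simp only [f, hp] at h2
      exact Prod.ext hp (mul_left_cancel h2)
    · let s : alternatingGroup (Fin 6) := ⟨σ, (heq σ).mp ⟨c, hc⟩⟩
      obtain ⟨d, hd⟩ := hinv σ ⟨c, hc⟩
      have hA := diag _ (mul_inv_cancel σ ▸ good_mul (hC s) hd :
        Good ω (1 : Equiv.Perm (Fin 6)) (fun i => C s i * d (σ.symm i)))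
      have hB := diag _ (mul_inv_cancel σ ▸ good_mul hc hd :
        Good ω (1 : Equiv.Perm (Fin 6)) (fun i => c i * d (σ.symm i)))
      refine ⟨(s, (C s 0)⁻¹ * c 0), Subtype.ext (Prod.ext rfl (funext fun i => ?_))⟩
      show C s i * ((C s 0)⁻¹ * c 0) = c i
      have a := hA i 0
      have b := hB i 0
      rw [← mul_assoc, ← div_eq_mul_inv]
      have hq : C s i / C s 0 = c i / c 0 := by
        rw [div_eq_div_iff_mul_eq_mul]
        apply mul_right_cancel (b := d (σ.symm i) * d (σ.symm 0))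
        calc C s i * c 0 * (d (σ.symm i) * d (σ.symm 0)) = (C s i * d (σ.symm i)) * (c 0 * d (σ.symm 0)) := by
              ac_rfl
          _ = (C s 0 * d (σ.symm 0)) * (c i * d (σ.symm i)) := by rw [a, b]
          _ = c i * C s 0 * (d (σ.symm i) * d (σ.symm 0)) := by ac_rfl
      rw [hq, div_mul_cancel]
  show Nat.card {f : Equiv.Perm (Fin 6) × (Fin 6 → Fˣ) // Good ω f.1 f.2} = 1080
  rw [← Nat.card_eq_of_bijective f hbij, Nat.card_prod, Nat.card_eq_fintype_card (α := Fˣ),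
    Fintype.card_units, hF]
  have := two_mul_card_alternatingGroup (α := Fin 6)
  rw [← Nat.card_eq_fintype_card, Fintype.card_perm, Fintype.card_fin] at this
  norm_num [Nat.factorial] at this ⊢
  omega

end Cfsg.Agent.S1611
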