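import Cfsg.Statements.S1618
import Cfsg.Agent.Lib.Inv.IsolatedSylow
import Cfsg.Agent.Lib.Perm.Kazarin
import Cfsg.Agent.Lib.Perm.Fitting
import Cfsg.Agent.Lib.Solv.Basic

set_option autoImplicit false
open Cfsg

namespace Cfsg.Agent.S1618

set_option linter.style.haveILetI false

open Subgroup
open scoped Pointwise

/-- A group generated by a class of involutions whose pairwise products (of distinct members) have p-power order for a fixed odd prime p has nilpotent derived subgroup. -/
theorem result {G : Type*} [Group G] [Finite G] (p : ℕ) (hp : p.Prime) (hodd : p ≠ 2) {D : Set G} (hinv : ∀ d ∈ D, orderOf d = 2) (hconj : ∃ d ∈ D, D = conjugatesOf d) (hgen : Subgroup.closure D = ⊤) (hprod : ∀ x ∈ D, ∀ y ∈ D, x ≠ y → ∃ k : ℕ, orderOf (x * y) = p ^ k) : Group.IsNilpotent ↥(commutator G) := by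
  classical
  haveI := Fact.mk hp
  obtain ⟨d, hd, hDd⟩ := hconj
  have hd2 : orderOf d = 2 := hinv d hd
  have hdd : d * d = 1 := Cfsg.Agent.Inv.mul_self_of_orderOf_two hd2
  have hdinv : d⁻¹ = d := Cfsg.Agent.Inv.inv_eq_self_of_orderOf_two hd2
  have hmem : ∀ g : G, g * d * g⁻¹ ∈ D := fun g => by
    rw [hDd]; exact isConj_iff.mpr ⟨g, rfl⟩
  -- a product `d * d^g` of order prime to `p` is trivial
  have hkill : ∀ g : G, (orderOf (d * (g * d * g⁻¹))).Coprime p → g * d * g⁻¹ = d := by
    intro g hg
    by_contra hne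
    obtain ⟨k, hk⟩ := hprod d hd _ (hmem g) (Ne.symm hne)
    rw [hk] at hg
    have hk0 : k = 0 := by
      by_contra h0
      exact hp.one_lt.ne' ((Nat.coprime_self p).mp (Nat.Coprime.coprime_dvd_left (dvd_pow_self p h0) hg))
    rw [hk0, pow_zero, orderOf_eq_one_iff] at hk
    exact hne ((eq_inv_of_mul_eq_one_right hk).trans hdinv)
  have hiso : Cfsg.IsIsolatedInvolution d := by
    refine ⟨hd2, fun g hc => hkill g ?_⟩
    have hsq : (d * (g * d * g⁻¹)) ^ 2 = 1 := by
      rw [hc.mul_pow, pow_two, pow_two, hdd, one_mul]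
      have : g * d * g⁻¹ * (g * d * g⁻¹) = g * (d * d) * g⁻¹ := by group
      rw [this, hdd]; group
    exact (Nat.Coprime.coprime_dvd_left (orderOf_dvd_of_pow_eq_one hsq)
      ((Nat.coprime_primes Nat.prime_two hp).mpr (Ne.symm hodd)))
  -- every Sylow `q`-subgroup normalised by `d` is centralised by `d`
  have hcent : ∀ (q : ℕ) (T : Subgroup G), q.Prime → q ≠ p → IsPGroup q T →
      (∀ t ∈ T, d * t * d⁻¹ ∈ T) → T ≤ centralizer ({d} : Set G) := by
    intro q T hq hqp hT hn t ht
    haveI := Fact.mk hq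
    have hc : d * (t * d * t⁻¹) ∈ T := by
      have h1 := T.mul_mem (hn t ht) (T.inv_mem ht)
      rw [hdinv] at h1
      simpa [mul_assoc] using h1
    have hcop : (orderOf (d * (t * d * t⁻¹))).Coprime p := by
      obtain ⟨n, hn'⟩ := IsPGroup.iff_orderOf.mp hT ⟨_, hc⟩
      rw [Subgroup.orderOf_mk] at hn'
      rw [hn']
      exact Nat.Coprime.pow_left _ ((Nat.coprime_primes hq hp).mpr hqp)
    have := mul_inv_eq_iff_eq_mul.mp (hkill t hcop)
    exact mem_centralizer_singleton_iff.mpr this
  obtain ⟨k, hcl⟩ : ∃ k, (centralizer ({d} : Set G)).index = p ^ k := by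
    refine ⟨_, Nat.eq_prime_pow_of_unique_prime_dvd index_ne_zero_of_finite ?_⟩
    intro q hq hqd
    by_contra hqp
    haveI := Fact.mk hq
    obtain ⟨T, hTn⟩ : ∃ T : Sylow q G, ∀ t ∈ (T : Subgroup G), d * t * d⁻¹ ∈ (T : Subgroup G) := by
      by_cases hq2 : q = 2
      · subst hq2
        have hpg : IsPGroup 2 (zpowers d) := IsPGroup.of_card (n := 1) (by rw [Nat.card_zpowers, hd2, pow_one])
        obtain ⟨T, hT⟩ := hpg.exists_le_sylow
        have hdT := hT (mem_zpowers d)
        exact ⟨T, fun t ht => mul_mem (mul_mem hdT ht) (inv_mem hdT)⟩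
      · obtain ⟨T, hT⟩ := Cfsg.Agent.Inv.exists_isolated_invariant_sylow (z := d) (p := q) hiso hq2
        refine ⟨T, fun t ht => ?_⟩
        rw [← hT]
        exact ⟨t, ht, rfl⟩
    exact T.not_dvd_index (hqd.trans (index_dvd_of_le (hcent q T hq hqp T.isPGroup' hTn)))
  haveI hsolv : Group.IsSolvable G := by
    have hs := Cfsg.Agent.Perm.Kazarin.solvable_normalClosure hp d hcl
    have htop : normalClosure ({d} : Set G) = ⊤ := by
      rw [eq_top_iff, ← hgen, closure_le, hDd]
      intro x hx
      obtain ⟨g, rfl⟩ := isConj_iff.mp (hx : IsConj d x)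
      exact normalClosure_normal.conj_mem d (subset_normalClosure (Set.mem_singleton d)) g
    haveI : Group.IsSolvable (⊤ : Subgroup G) := htop ▸ hs
    exact Group.isSolvable_of_surjective (f := (⊤ : Subgroup G).subtype) (fun x => ⟨⟨x, mem_top x⟩, rfl⟩)
  haveI := Cfsg.Agent.Perm.pCore_normal' (G := G) p
  have hkey : ∀ a b : G ⧸ Cfsg.pCore p G, a * b = b * a := by
    set Q := G ⧸ Cfsg.pCore p G
    let π := QuotientGroup.mk' (Cfsg.pCore p G)
    have hπ : Function.Surjective π := QuotientGroup.mk'_surjective _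
    haveI : Group.IsSolvable Q := Group.isSolvable_of_surjective hπ
    have hF : Cfsg.fittingSubgroup Q ≤ center Q := by
      refine (Cfsg.Agent.Perm.fitting_le_iSup_pCore (G := Q)).trans (iSup₂_le fun q hq => ?_)
      haveI := Fact.mk (Nat.prime_of_mem_primeFactors hq)
      have hqprime := Nat.prime_of_mem_primeFactors hq
      by_cases hqp : q = p
      · subst hqp
        rw [Cfsg.Agent.Solv.pCore_quotient_pCore]
        exact bot_le
      intro x hx
      have hxd : ∀ e ∈ D, x * π e = π e * x := by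
        intro e he
        haveI := Cfsg.Agent.Perm.pCore_normal' (G := Q) q
        have hc : π e * x * (π e)⁻¹ * x⁻¹ ∈ Cfsg.pCore q Q :=
          mul_mem (Normal.conj_mem inferInstance x hx (π e)) (inv_mem hx)
        obtain ⟨g, rfl⟩ := hπ x
        have he2 : e⁻¹ = e := Cfsg.Agent.Inv.inv_eq_self_of_orderOf_two (hinv e he)
        have heq : π e * π g * (π e)⁻¹ * (π g)⁻¹ = π (e * (g * e * g⁻¹)) := by
          simp only [map_mul, map_inv, ← mul_assoc]
          rw [← map_inv π e, he2]
        have hg' : g * e * g⁻¹ ∈ D := by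
          rw [hDd] at he ⊢
          exact IsConj.trans (show IsConj d e from he) (isConj_iff.mpr ⟨g, rfl⟩)
        have hone : π e * π g * (π e)⁻¹ * (π g)⁻¹ = 1 := by
          obtain ⟨n, hn⟩ := IsPGroup.iff_orderOf.mp (Cfsg.Agent.Perm.pCore_isPGroup' q) ⟨_, hc⟩
          rw [Subgroup.orderOf_mk] at hn
          by_cases hne : e = g * e * g⁻¹
          · rw [heq, ← hne]
            have : e * e = 1 := Cfsg.Agent.Inv.mul_self_of_orderOf_two (hinv e he)
            rw [this, map_one]
          obtain ⟨m, hm⟩ := hprod e he _ hg' hne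
          have hdvd : orderOf (π (e * (g * e * g⁻¹))) ∣ p ^ m := hm ▸ orderOf_map_dvd π _
          rw [← heq, hn] at hdvd
          have h1 : q ^ n = 1 := Nat.Coprime.eq_one_of_dvd
            ((Nat.coprime_primes hqprime hp).mpr hqp |>.pow n m) hdvd
          rw [h1] at hn
          exact orderOf_eq_one_iff.mp hn
        rw [mul_inv_eq_one, mul_inv_eq_iff_eq_mul] at hone
        exact hone.symm
      rw [mem_center_iff]
      intro a
      obtain ⟨g, rfl⟩ := hπ a
      have hle : (closure D).map π ≤ centralizer ({x} : Set Q) := by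
        rw [MonoidHom.map_closure, closure_le]
        rintro _ ⟨e, he, rfl⟩
        exact mem_centralizer_singleton_iff.mpr (hxd e he).symm
      exact mem_centralizer_singleton_iff.mp (hle (mem_map_of_mem π (hgen ▸ mem_top g)))
    have htop : (⊤ : Subgroup Q) ≤ center Q := by
      refine le_trans ?_ ((Cfsg.Agent.Solv.centralizer_fittingSubgroup_le (G := Q)).trans hF)
      intro a _
      rw [mem_centralizer_iff]
      intro z hz
      exact ((mem_center_iff.mp (hF hz)) a).symm
    intro a b
    exact mem_center_iff.mp (htop (mem_top b)) a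
  have hle : commutator G ≤ Cfsg.pCore p G := by
    rw [_root_.commutator_def, Subgroup.commutator_le]
    intro a _ b _
    rw [← QuotientGroup.eq_one_iff, ← QuotientGroup.mk'_apply, map_commutatorElement,
      commutatorElement_eq_one_iff_mul_comm]
    exact hkey _ _
  exact ((Cfsg.Agent.Perm.pCore_isPGroup' p).to_le hle).isNilpotent

end Cfsg.Agent.S1618
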