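import Cfsg.Statements.S1631
import Cfsg.Agent.Lib.Classical.UnitaryTransvConj
import Cfsg.Agent.Lib.Classical.RankOneDet
import Cfsg.Agent.S0780

set_option autoImplicit false
open scoped MatrixGroups
open Cfsg
open scoped Matrix

namespace Cfsg.Agent.S1631

/-- The unitary transvections of SU(n, 2), n ≥ 4, form a generating conjugacy class of 3-transpositions. -/
theorem result (F : Type) [Field F] [Fintype F] [DecidableEq F] (hF : Fintype.card F = 4) (n : ℕ) (hn : 4 ≤ n) : Cfsg.IsThreeTranspositionClass {g : ↥(Cfsg.SU n F 2) | (((g : Matrix.SpecialLinearGroup (Fin n) F) : Matrix (Fin n) (Fin n) F) - 1).rank = 1} := by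
  classical
  have hK : Fintype.card F = 2 ^ 2 := by rw [hF]; norm_num
  obtain ⟨σ, B, hσ, hσ2, hS, hB⟩ := Classical.Unitary.exists_sesq hK n
  haveI : Fact (Nat.Prime 2) := ⟨Nat.prime_two⟩
  haveI : CharP F 2 := by
    obtain ⟨p, hp⟩ := CharP.exists F
    obtain ⟨k, hpp, hk⟩ := FiniteField.card F p
    have : p = 2 := by
      have h2 : p ∣ 2 ^ 2 := by rw [← hK, hk]; exact dvd_pow_self p k.ne_zero
      exact (Nat.prime_dvd_prime_iff_eq hpp Nat.prime_two).1 (hpp.dvd_of_dvd_pow h2)
    exact this ▸ hp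
  have hσq : ∀ a : F, σ a = a ^ 2 := by
    intro a
    have h := hB (Pi.single (⟨0, by omega⟩ : Fin n) a) (Pi.single ⟨0, by omega⟩ 1)
    rw [show (Pi.single (⟨0, by omega⟩ : Fin n) a : Fin n → F) = a • Pi.single ⟨0, by omega⟩ 1 by
        rw [← Pi.single_smul, smul_eq_mul, mul_one],
      LinearMap.map_smulₛₗ, LinearMap.smul_apply, hB, smul_eq_mul] at h
    simpa [Cfsg.hermForm, Pi.single_apply, mul_pow] using h
  have hp : ∀ (s : ↥(Cfsg.SU n F 2)) x y, B (((s : Matrix.SpecialLinearGroup (Fin n) F) : Matrix (Fin n) (Fin n) F) *ᵥ x)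
      (((s : Matrix.SpecialLinearGroup (Fin n) F) : Matrix (Fin n) (Fin n) F) *ᵥ y) = B x y := fun s x y => by
    rw [hB, hB]; exact s.2 y x
  have hnd : B.Nondegenerate := by
    have hs : ∀ (x : Fin n → F) i, Cfsg.hermForm n F 2 x (Pi.single i 1) = x i := fun x i => by
      simp [Cfsg.hermForm, Pi.single_apply]
    refine ⟨fun x hx => funext fun i => ?_, fun y hy => funext fun i => ?_⟩
    · have h := hx (Pi.single i 1)
      rw [← hS.eq, hB, hs] at h
      exact (map_eq_zero σ).1 h
    · have h := hy (Pi.single i 1)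
      rwa [hB, hs] at h
  have hN : ∀ a : F, a ≠ 0 → σ a = a → ∃ c : F, c * σ c = a := fun a ha hfix => by
    obtain ⟨c, hc⟩ := Classical.OrthBasis.exists_norm hσ hσ2 ha hfix
    exact ⟨c, by rw [mul_comm, hc]⟩
  let m : ↥(Cfsg.SU n F 2) → Matrix (Fin n) (Fin n) F := fun g => (g : Matrix.SpecialLinearGroup (Fin n) F).1
  have minj : ∀ g h, m g = m h → g = h := fun g h e => Subtype.ext (Subtype.ext e)
  let D : Set ↥(Cfsg.SU n F 2) := {g | (m g - 1).rank = 1}
  show Cfsg.IsThreeTranspositionClass D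
  have hD : ∀ g ∈ D, (m g - 1).rank = 1 ∧ (m g - 1) * (m g - 1) = 0 := fun g hg =>
    ⟨hg, Classical.RankOneDet.sq_zero hg (g : Matrix.SpecialLinearGroup (Fin n) F).2⟩
  -- the normal form
  have hform : ∀ g ∈ D, ∃ v, v ≠ 0 ∧ B v v = 0 ∧ ∀ x, m g *ᵥ x = x + B v x • v := by
    intro g hg
    obtain ⟨v, c, hv, hvv, hc, hcσ, hx⟩ := UnitaryTransvConj.exists_form hσ hσ2 B hS hnd (hD g hg) (hp g)
    have hc1 : c = 1 := by
      have e : c ^ 2 = c := by rw [← hσq]; exact (CharTwo.add_eq_zero.1 hcσ).symm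
      exact mul_left_cancel₀ hc (by rw [mul_one, ← pow_two, e])
    exact ⟨v, hv, hvv, fun x => by rw [hx, hc1, one_mul]⟩
  have h2 : ∀ z : Fin n → F, z + z = 0 := fun z => funext fun i => CharTwo.add_self_eq_zero (z i)
  have hσ3 : ∀ b : F, b ≠ 0 → b * σ b = 1 := fun b hb => by
    rw [hσq]
    have e : b ^ 4 = b := by rw [← hF]; exact FiniteField.pow_card b
    exact mul_left_cancel₀ hb (by linear_combination e)
  have hord : ∀ g ∈ D, g * g = 1 ∧ g ≠ 1 := by
    intro g hg
    obtain ⟨v, hv, hvv, hx⟩ := hform g hg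
    refine ⟨minj _ _ ?_, fun h => ?_⟩
    · refine Matrix.toLin'.injective (LinearMap.ext fun x => ?_)
      show (m g * m g) *ᵥ x = (1 : Matrix (Fin n) (Fin n) F) *ᵥ x
      rw [← Matrix.mulVec_mulVec, hx, hx, map_add, map_smul, hvv, smul_zero, add_zero, Matrix.one_mulVec,
        add_assoc, h2, add_zero]
    · rw [h] at hg
      have : ((1 : Matrix (Fin n) (Fin n) F) - 1).rank = 1 := hg
      rw [sub_self, Matrix.rank_zero] at this
      exact zero_ne_one this
  have hDne : D.Nonempty := by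
    by_contra hc
    rw [Set.not_nonempty_iff_eq_empty] at hc
    have h := S0780.result (F := F) hK n (by omega) (by omega)
    obtain ⟨v, hv, hvv⟩ : ∃ v : Fin n → F, v ≠ 0 ∧ B v v = 0 := by
      refine ⟨Pi.single ⟨0, by omega⟩ 1 + Pi.single ⟨1, by omega⟩ 1, fun h0 => ?_, ?_⟩
      · have := congrFun h0 ⟨0, by omega⟩
        simp at this
      · rw [hB]
        have hne : (⟨0, by omega⟩ : Fin n) ≠ ⟨1, by omega⟩ := by simp
        simp only [Cfsg.hermForm, Pi.add_apply, add_mul, Finset.sum_add_distrib, Pi.single_apply, ite_mul, one_mul,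
          zero_mul, Finset.sum_ite_eq', Finset.mem_univ, if_true, if_neg hne, if_neg hne.symm, add_zero, zero_add, one_pow]
        exact CharTwo.add_self_eq_zero (1 : F)
    let M : Matrix (Fin n) (Fin n) F := 1 + Matrix.vecMulVec v (fun j => v j ^ 2)
    have hMx : ∀ x, M *ᵥ x = x + B v x • v := fun x => by
      rw [Matrix.add_mulVec, Matrix.one_mulVec, Matrix.vecMulVec_mulVec, hB]
      congr 1
      funext i
      simp [dotProduct, Cfsg.hermForm, mul_comm]
    have hMpres : ∀ x y, B (M *ᵥ x) (M *ᵥ y) = B x y := fun x y => by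
      rw [hMx, hMx]
      simp only [map_add, LinearMap.map_smulₛₗ, LinearMap.add_apply, LinearMap.smul_apply, smul_eq_mul,
        map_smul, hvv, mul_zero, add_zero, RingHom.id_apply]
      rw [hS.eq v x]
      linear_combination (CharTwo.add_self_eq_zero (B v y * B x v))
    have hMdet : M.det = 1 := by
      show (1 + Matrix.vecMulVec v (fun j => v j ^ 2)).det = 1
      rw [Matrix.vecMulVec_eq Unit]
      refine (Matrix.det_one_add_replicateCol_mul_replicateRow (ι := Unit) v (fun j => v j ^ 2)).trans ?_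
      rw [add_eq_left, ← hvv, hB]
      simp [dotProduct, Cfsg.hermForm, mul_comm]
    let g : ↥(Cfsg.SU n F 2) := ⟨⟨M, hMdet⟩, fun x y => by rw [← hB, ← hB]; exact hMpres y x⟩
    have hg : g ∈ D := by
      show (M - 1).rank = 1
      rw [show M - 1 = Matrix.vecMulVec v (fun j => v j ^ 2) from add_sub_cancel_left _ _]
      refine le_antisymm (Matrix.rank_vecMulVec_le _ _) ?_
      rw [Nat.one_le_iff_ne_zero]
      intro h0
      have hz : Matrix.vecMulVec v (fun j => v j ^ 2) = 0 := Classical.RankOneDet.eq_zero_of_rank h0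
      apply hv
      funext i
      have := congrFun (congrFun hz i) i
      simp [Matrix.vecMulVec_apply] at this
      exact this
    rw [hc] at hg
    exact hg
  obtain ⟨d₀, hd₀⟩ := hDne
  refine ⟨⟨fun d hd => ?_, fun d hd e he => ?_⟩, ⟨d₀, hd₀, Set.ext fun g => ⟨fun hg => ?_, fun hg => ?_⟩⟩, ?_⟩
  · exact orderOf_eq_prime (by rw [pow_two]; exact (hord d hd).1) (hord d hd).2
  · obtain ⟨v, hv, hvv, hx⟩ := hform d hd
    obtain ⟨w, hw, hww, hy⟩ := hform e he
    by_cases hvw : B v w = 0
    · left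
      have hwv : B w v = 0 := by rw [← hS.eq v w, hvw, map_zero]
      have hc : d * e = e * d := minj _ _ (Matrix.toLin'.injective (LinearMap.ext fun x => by
        show (m d * m e) *ᵥ x = (m e * m d) *ᵥ x
        rw [← Matrix.mulVec_mulVec, ← Matrix.mulVec_mulVec, hx, hy, hy, hx, map_add, map_add, map_smul,
          map_smul, hvw, hwv, smul_zero, smul_zero, add_zero, add_zero, add_right_comm]))
      calc (d * e) ^ 2 = d * (e * d) * e := by rw [pow_two]; group
        _ = d * d * (e * e) := by rw [← hc]; group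
        _ = 1 := by rw [(hord d hd).1, (hord e he).1, mul_one]
    · right
      have hbraid : d * e * d = e * d * e := minj _ _ (Matrix.toLin'.injective (LinearMap.ext fun x => by
        show (m d * m e * m d) *ᵥ x = (m e * m d * m e) *ᵥ x
        have hsw : B w v = σ (B v w) := (hS.eq v w).symm
        rw [← Matrix.mulVec_mulVec, ← Matrix.mulVec_mulVec, ← Matrix.mulVec_mulVec, ← Matrix.mulVec_mulVec]
        simp only [hx, hy]
        simp only [map_add, map_smul, smul_eq_mul, hvv, hww, mul_zero, add_zero, hsw]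
        have hb := hσ3 _ hvw
        have hA := h2 ((B v x) • v)
        have hA' := h2 ((B w x) • w)
        have hb' : (B v w * σ (B v w)) • ((B v x) • v) = (B v x) • v := by rw [hb, one_smul]
        have hb'' : (σ (B v w) * B v w) • ((B w x) • w) = (B w x) • w := by rw [mul_comm, hb, one_smul]
        linear_combination (norm := module) hA - hA' + hb' - hb''))
      calc (d * e) ^ 3 = d * e * d * (e * d * e) := by rw [pow_succ, pow_two]; group
        _ = e * d * e * (e * d * e) := by rw [hbraid]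
        _ = e * d * (e * e) * d * e := by group
        _ = 1 := by rw [(hord e he).1, mul_one, mul_assoc e d d, (hord d hd).1, mul_one, (hord e he).1]
  · show IsConj d₀ g
    obtain ⟨c, hdet, hc, hconj⟩ := UnitaryTransvConj.exists_conj hσ hσ2 B hS hnd (by omega) hN (hD _ hd₀) (hD g hg) (hp d₀) (hp g)
    refine isConj_iff.2 ⟨⟨⟨c, hdet⟩, fun x y => by rw [← hB, ← hB]; exact hc y x⟩, ?_⟩
    rw [mul_inv_eq_iff_eq_mul]
    exact Subtype.ext (Subtype.ext hconj)
  · replace hg : IsConj d₀ g := hg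
    rw [isConj_iff] at hg
    obtain ⟨c, rfl⟩ := hg
    show (m c * m d₀ * m c⁻¹ - 1).rank = 1
    have hcc : m c * m c⁻¹ = 1 := by
      show m (c * c⁻¹) = 1
      rw [mul_inv_cancel]; rfl
    rw [show m c * m d₀ * m c⁻¹ - 1 = m c * (m d₀ - 1) * m c⁻¹ by rw [mul_sub, sub_mul, mul_one, hcc],
      Matrix.rank_mul_eq_left_of_isUnit_det _ _ (by rw [(c⁻¹ : ↥(Cfsg.SU n F 2)).1.2]; exact isUnit_one),
      Matrix.rank_mul_eq_right_of_isUnit_det _ _ (by rw [(c : ↥(Cfsg.SU n F 2)).1.2]; exact isUnit_one)]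
    exact hd₀
  · have h := S0780.result (F := F) hK n (by omega) (by omega)
    rw [eq_top_iff, ← h, Subgroup.closure_le]
    rintro A ⟨v, c, hv, hA⟩
    by_cases h1 : A = 1
    · rw [h1]; exact Subgroup.one_mem _
    refine Subgroup.subset_closure ?_
    show (m A - 1).rank = 1
    have hA' : m A - 1 = c • Matrix.vecMulVec v (fun j => v j ^ 2) := by
      show ((A : Matrix.SpecialLinearGroup (Fin n) F) : Matrix (Fin n) (Fin n) F) - 1 = _
      rw [hA, Cfsg.unitaryTransvection, add_sub_cancel_left]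
    refine le_antisymm ?_ (Nat.one_le_iff_ne_zero.2 fun h0 => h1 (minj _ _ ?_))
    · rw [hA', ← Matrix.smul_vecMulVec]; exact Matrix.rank_vecMulVec_le _ _
    · exact (sub_eq_zero.1 (Classical.RankOneDet.eq_zero_of_rank h0)).trans rfl

end Cfsg.Agent.S1631
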