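import Cfsg.Statements.S1635
import Cfsg.Agent.Lib.Golay.Sextet
-- import your own Cfsg.Agent.* helpers here

set_option autoImplicit false
open Cfsg

namespace Cfsg.Agent.S1635

/-- Coset leaders of the length-24 code: a coset contains a unique word of weight ≤ 3, or else exactly six words of weight 4 and none lighter. -/
theorem result (w : Cfsg.GolayPt → ZMod 2) : ({v : Cfsg.GolayPt → ZMod 2 | hammingNorm v ≤ 4 ∧ w - v ∈ Cfsg.golayCode}.ncard = 1 ∧ ∃ v : Cfsg.GolayPt → ZMod 2, hammingNorm v ≤ 3 ∧ w - v ∈ Cfsg.golayCode) ∨ ({v : Cfsg.GolayPt → ZMod 2 | hammingNorm v ≤ 4 ∧ w - v ∈ Cfsg.golayCode}.ncard = 6 ∧ ∀ v : Cfsg.GolayPt → ZMod 2, w - v ∈ Cfsg.golayCode → hammingNorm v ≤ 4 → hammingNorm v = 4) := by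
  classical
  open Cfsg.Agent.Sextet Cfsg.Agent.Steiner in
  set S := {v : Cfsg.GolayPt → ZMod 2 | hammingNorm v ≤ 4 ∧ w - v ∈ Cfsg.golayCode} with hS
  have hpair : ∀ v ∈ S, ∀ v' ∈ S, v ≠ v' → hammingNorm v = 4 ∧ hammingNorm v' = 4 ∧
      ∀ p, v p = 0 ∨ v' p = 0 := by
    intro v hv v' hv' hne
    have hm : v - v' ∈ Cfsg.golayCode := by
      have := sub_mem hv'.2 hv.2
      simpa using this
    have h8 := Cfsg.Agent.Sextet.eight_le hm (sub_ne_zero.mpr hne)
    have hle : hammingNorm (v - v') + 2 * (Finset.univ.filter fun p => v p ≠ 0 ∧ v' p ≠ 0).card =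
        hammingNorm v + hammingNorm v' := by
      simp only [hammingNorm, Finset.card_filter, Finset.mul_sum, ← Finset.sum_add_distrib, Pi.sub_apply]
      refine Finset.sum_congr rfl fun p _ => ?_
      have key : ∀ a b : ZMod 2, ((if a - b ≠ 0 then 1 else 0) + 2 * if a ≠ 0 ∧ b ≠ 0 then 1 else 0 : ℕ) =
          (if a ≠ 0 then 1 else 0) + if b ≠ 0 then 1 else 0 := by decide
      convert key (v p) (v' p) using 4
    have := hv.1
    have := hv'.1
    refine ⟨by omega, by omega, fun p => ?_⟩
    by_contra hcon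
    push Not at hcon
    have : 0 < (Finset.univ.filter fun p => v p ≠ 0 ∧ v' p ≠ 0).card :=
      Finset.card_pos.mpr ⟨p, by simpa using hcon⟩
    omega
  obtain ⟨v₀, hv₀⟩ : S.Nonempty := by
    obtain ⟨c, hc, hd⟩ := Cfsg.Agent.Sextet.covering (Cfsg.Agent.Sextet.punct w)
    refine ⟨w - c, ?_, by simpa using hc⟩
    rw [Cfsg.Agent.Sextet.hammingNorm_punct]
    have e : hammingNorm (Cfsg.Agent.Sextet.punct (w - c)) =
        hammingDist (Cfsg.Agent.Sextet.punct w) (Cfsg.Agent.Sextet.punct c) := by
      simp [hammingDist, hammingNorm, Cfsg.Agent.Sextet.punct, sub_ne_zero]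
      congr 1
    rw [e]
    split_ifs <;> omega
  by_cases h3 : ∃ v ∈ S, hammingNorm v ≤ 3
  · obtain ⟨v, hv, hv3⟩ := h3
    refine Or.inl ⟨Set.ncard_eq_one.mpr ⟨v, Set.ext fun x => ⟨fun hx => ?_, fun hx => hx ▸ hv⟩⟩,
      v, hv3, hv.2⟩
    by_contra hne
    have := (hpair x hx v hv hne).2.1
    omega
  push Not at h3
  have hall : ∀ v ∈ S, hammingNorm v = 4 := fun v hv => by
    have := h3 v hv
    have := hv.1
    omega
  refine Or.inr ⟨?_, fun v hv hle => hall v ⟨hle, hv⟩⟩
  have ht : (Cfsg.support₂ v₀).card = 4 := hall v₀ hv₀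
  have key : S.ncard = (Cfsg.Agent.Sextet.tetrads (Cfsg.support₂ v₀)).card := by
    rw [← Set.ncard_coe_finset]
    refine Set.ncard_congr (fun v _ => Cfsg.support₂ v) (fun v hv => ?_) (fun v v' _ _ e => ?_) (fun u hu => ?_)
    · rw [Finset.mem_coe, Cfsg.Agent.Sextet.mem_tetrads]
      by_cases e : v = v₀
      · exact Or.inl (by rw [e])
      obtain ⟨h1, h2, hdis⟩ := hpair v hv v₀ hv₀ e
      have hm : v - v₀ ∈ Cfsg.golayCode := by
        have := sub_mem hv₀.2 hv.2
        simpa using this
      refine Or.inr ⟨Cfsg.support₂ (v - v₀), ⟨⟨_, hm, rfl⟩, ?_⟩, ?_, ?_⟩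
      · have h8 := Cfsg.Agent.Sextet.eight_le hm (sub_ne_zero.mpr e)
        have e' : hammingNorm (v - v₀) ≤ hammingNorm v + hammingNorm v₀ := by
          have := hammingDist_triangle_right v v₀ 0
          simpa [hammingDist, hammingNorm, sub_ne_zero] using this
        show hammingNorm (v - v₀) = 8
        omega
      · intro p hp
        simp only [Cfsg.support₂, Finset.mem_filter, Finset.mem_univ, true_and, Pi.sub_apply] at hp ⊢
        rcases hdis p with h | h
        · rw [h, zero_sub, neg_ne_zero]; exact hp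
        · exact absurd h hp
      · ext p
        simp only [Cfsg.support₂, Finset.mem_filter, Finset.mem_univ, true_and, Finset.mem_sdiff, Pi.sub_apply]
        rcases hdis p with h | h <;> simp [h]
    · funext p
      have := Finset.ext_iff.mp e p
      simp only [Cfsg.support₂, Finset.mem_filter, Finset.mem_univ, true_and] at this
      revert this
      generalize v p = a
      generalize v' p = b
      revert a b
      decide
    · rcases Cfsg.Agent.Sextet.mem_tetrads.mp hu with rfl | ⟨o, ⟨⟨c, hc, rfl⟩, ho8⟩, hto, rfl⟩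
      · exact ⟨v₀, hv₀, rfl⟩
      refine ⟨v₀ + c, ⟨?_, ?_⟩, ?_⟩
      · have hsub : Cfsg.support₂ (v₀ + c) ⊆ Cfsg.support₂ c \ Cfsg.support₂ v₀ := by
          intro p hp
          have hp' := @hto p
          simp only [Cfsg.support₂, Finset.mem_filter, Finset.mem_univ, true_and, Finset.mem_sdiff,
            Pi.add_apply] at hp hp' ⊢
          revert hp hp'
          generalize v₀ p = a
          generalize c p = b
          revert a b
          decide
        have := Finset.card_le_card hsub
        rw [Finset.card_sdiff_of_subset hto, ho8, ht] at this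
        exact this
      · have := sub_mem hv₀.2 hc
        simpa [sub_sub] using this
      · ext p
        have hp' := @hto p
        simp only [Cfsg.support₂, Finset.mem_filter, Finset.mem_univ, true_and, Finset.mem_sdiff,
          Pi.add_apply] at hp' ⊢
        revert hp'
        generalize v₀ p = a
        generalize c p = b
        revert a b
        decide
  rw [key, Cfsg.Agent.Sextet.tetrads_card ht]

end Cfsg.Agent.S1635
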