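import Cfsg.Statements.S1637
import Cfsg.Agent.Lib.Golay.Sextet
-- import your own Cfsg.Agent.* helpers here

set_option autoImplicit false
open Cfsg

namespace Cfsg.Agent.S1637

/-- The punctured length-23 code is a perfect 3-error-correcting code: each word of length 23 is within distance 3 of exactly one codeword. -/
theorem result (u : ZMod 23 → ZMod 2) : ∃! c : ZMod 23 → ZMod 2, c ∈ {u : ZMod 23 → ZMod 2 | ∃ w ∈ Cfsg.golayCode, ∀ x : ZMod 23, u x = w (some x)} ∧ hammingDist u c ≤ 3 := by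
  rw [Cfsg.Agent.Sextet.punctured_eq]
  obtain ⟨c, hc, hd⟩ := Cfsg.Agent.Sextet.covering u
  refine ⟨Cfsg.Agent.Sextet.punct c, ⟨⟨c, hc, rfl⟩, hd⟩, ?_⟩
  rintro _ ⟨⟨c', hc', rfl⟩, hd'⟩
  by_contra hne
  have h7 := Cfsg.Agent.Sextet.dist_seven hc hc' (fun e => hne (by rw [e]))
  have := hammingDist_triangle_left (Cfsg.Agent.Sextet.punct c) (Cfsg.Agent.Sextet.punct c') u
  omega

end Cfsg.Agent.S1637
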