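import Cfsg.Statements.S1691
-- import your own Cfsg.Agent.* helpers here

set_option autoImplicit false
open Cfsg

namespace Cfsg.Agent.S1691

/-- The commutator subgroup of the presented group Fi₂₄ has index 2 (the presented group is Fi₂₄′:2 with Fi₂₄′ its derived subgroup). -/
theorem result : (commutator Cfsg.Spor.Fi24).index = 2 := by
  set N := commutator Cfsg.Spor.Fi24
  open Cfsg.Spor Cfsg.Spor.Fi24 in
  let ψ : FreeGroup Gen →* Multiplicative (ZMod 2) := FreeGroup.lift fun _ => Multiplicative.ofAdd 1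
  open Cfsg.Spor Cfsg.Spor.Fi24 in
  have hψ : ∀ r ∈ coxRelators edges ∪ {r | r ∈ extra}, ψ r = 1 := by
    rintro r (⟨x, -, y, -, rfl⟩ | hr)
    · rw [map_pow, map_mul]
      simp only [ψ, FreeGroup.lift_apply_of]
      rw [show Multiplicative.ofAdd (1 : ZMod 2) * Multiplicative.ofAdd 1 = 1 from by decide, one_pow]
    · rcases List.mem_cons.1 hr with rfl | hr
      · simp only [map_mul, map_inv, map_pow, ψ, FreeGroup.lift_apply_of]; decide
      · rcases List.mem_cons.1 hr with rfl | hr
        · simp only [map_mul, map_pow, ψ, FreeGroup.lift_apply_of]; decide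
        · exact absurd hr List.not_mem_nil
  open Cfsg.Spor Cfsg.Spor.Fi24 in
  let π : Cfsg.Spor.Fi24 →* Multiplicative (ZMod 2) :=
    PresentedGroup.toGroup (f := fun _ => Multiplicative.ofAdd 1) hψ
  open Cfsg.Spor Cfsg.Spor.Fi24 in
  have heq : ∀ x : Gen, ((PresentedGroup.of x : Cfsg.Spor.Fi24) : Cfsg.Spor.Fi24 ⧸ N) =
      ((PresentedGroup.of Gen.l : Cfsg.Spor.Fi24) : Cfsg.Spor.Fi24 ⧸ N) ∧
      ((PresentedGroup.of x : Cfsg.Spor.Fi24) : Cfsg.Spor.Fi24 ⧸ N) * (PresentedGroup.of x : Cfsg.Spor.Fi24) = 1 := by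
    set q : Gen → Cfsg.Spor.Fi24 ⧸ N := fun x => ((PresentedGroup.of x : Cfsg.Spor.Fi24) : Cfsg.Spor.Fi24 ⧸ N)
    have comm : ∀ u v : Cfsg.Spor.Fi24 ⧸ N, u * v = v * u := by
      intro u v
      obtain ⟨u, rfl⟩ := QuotientGroup.mk_surjective u
      obtain ⟨v, rfl⟩ := QuotientGroup.mk_surjective v
      rw [← QuotientGroup.mk_mul, ← QuotientGroup.mk_mul, QuotientGroup.eq]
      open scoped commutatorElement in rw [show (u * v)⁻¹ * (v * u) = ⁅v⁻¹, u⁻¹⁆ by rw [commutatorElement_def]; group]
      exact Subgroup.commutator_mem_commutator (Subgroup.mem_top _) (Subgroup.mem_top _)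
    have rel : ∀ x ∈ coxNodes edges, ∀ y ∈ coxNodes edges, (q x * q y) ^ coxLabel edges x y = 1 := by
      intro x hx y hy
      have h := PresentedGroup.one_of_mem (rels := coxRelators edges ∪ {r | r ∈ extra})
        (Set.mem_union_left _ ⟨x, hx, y, hy, rfl⟩)
      rw [map_pow, map_mul] at h
      simp only [q]
      rw [← QuotientGroup.mk_mul, ← QuotientGroup.mk_pow]
      exact (congrArg (QuotientGroup.mk (s := N)) h).trans (QuotientGroup.mk_one N)
    have hmem : ∀ x : Gen, x ∈ coxNodes edges := by intro x; cases x <;> decide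
    have hsq : ∀ x : Gen, q x * q x = 1 := by
      intro x
      have := rel x (hmem x) x (hmem x)
      rwa [show coxLabel edges x x = 1 by simp [coxLabel], pow_one] at this
    have hedge : ∀ x y : Gen, coxLabel edges x y = 3 → q x = q y := by
      intro x y h
      have := rel x (hmem x) y (hmem y)
      rw [h, (show Commute (q x) (q y) from comm _ _).mul_pow, pow_succ, pow_two, hsq, one_mul, pow_succ, pow_two,
        hsq, one_mul] at this
      calc q x = q x * (q y * q y) := by rw [hsq, mul_one]
        _ = q y := by rw [← mul_assoc, this, one_mul]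
    intro x
    refine ⟨?_, hsq x⟩
    show q x = q Gen.l
    have e1 := hedge .l .k (by decide)
    have e2 := hedge .k .a (by decide)
    have e3 := hedge .a .b (by decide)
    have e4 := hedge .b .c (by decide)
    have e5 := hedge .c .d (by decide)
    have e6 := hedge .d .e (by decide)
    have e7 := hedge .d .h (by decide)
    have e8 := hedge .e .f (by decide)
    have e9 := hedge .f .g (by decide)
    have e10 := hedge .g .j (by decide)
    have e11 := hedge .h .i (by decide)
    cases x <;> simp_all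
  set w : Cfsg.Spor.Fi24 := PresentedGroup.of Cfsg.Spor.Fi24.Gen.l
  rw [Subgroup.index_eq_two_iff]
  refine ⟨w, fun z => ?_⟩
  have hcases : (z : Cfsg.Spor.Fi24 ⧸ N) = 1 ∨ (z : Cfsg.Spor.Fi24 ⧸ N) = w := by
    have hz : z ∈ Subgroup.closure (Set.range (PresentedGroup.of (rels := Cfsg.Spor.coxRelators Cfsg.Spor.Fi24.edges ∪ {r | r ∈ Cfsg.Spor.Fi24.extra}))) := by
      rw [PresentedGroup.closure_range_of]; exact Subgroup.mem_top z
    induction hz using Subgroup.closure_induction with
    | mem y hy => obtain ⟨x, rfl⟩ := hy; exact Or.inr (heq x).1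
    | one => exact Or.inl rfl
    | mul y y' _ _ iy iy' =>
      rw [QuotientGroup.mk_mul]
      rcases iy with h | h <;> rcases iy' with h' | h' <;> rw [h, h'] <;>
        simp [w, (heq Cfsg.Spor.Fi24.Gen.l).2]
    | inv y _ iy =>
      rw [QuotientGroup.mk_inv]
      rcases iy with h | h <;> rw [h]
      · exact Or.inl inv_one
      · exact Or.inr (inv_eq_of_mul_eq_one_right (heq Cfsg.Spor.Fi24.Gen.l).2)
  have hw : w ∉ N := by
    intro h
    have h1 : π w = 1 := MonoidHom.mem_ker.1 (Abelianization.commutator_subset_ker π h)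
    simp only [π, w, PresentedGroup.toGroup.of] at h1
    exact absurd h1 (by decide)
  rcases hcases with h | h
  · have hz : z ∈ N := (QuotientGroup.eq_one_iff z).1 h
    refine Or.inr ⟨hz, fun h2 => hw ?_⟩
    have := mul_mem (inv_mem hz) h2
    rwa [inv_mul_cancel_left] at this
  · refine Or.inl ⟨?_, fun hz => hw ?_⟩
    · rw [← QuotientGroup.eq_one_iff, QuotientGroup.mk_mul, h]
      exact (heq Cfsg.Spor.Fi24.Gen.l).2
    · rw [← QuotientGroup.eq_one_iff]
      rw [← QuotientGroup.eq_one_iff] at hz
      exact h.symm.trans hz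

end Cfsg.Agent.S1691
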