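import Cfsg.Statements.S1753
-- import your own Cfsg.Agent.* helpers here

set_option autoImplicit false
universe u
open Cfsg

namespace Cfsg.Agent.S1753

theorem kProper_of_smaller (K : ∀ (X : Type u) [Group X], Prop) {G : Type u} [Group G] [Finite G]
    (h : ∀ (X : Type u) [Group X] [Finite X],
      IsSimpleGroup X → ¬ IsMulCommutative X → Nat.card X < Nat.card G → K X) :
    Cfsg.IsKProperWith K G := by
  intro H hH L N _ hs hn
  refine h _ hs hn (lt_of_le_of_lt ?_ (lt_of_le_of_ne H.card_le_card_group
    (fun e => hH (Subgroup.card_eq_iff_eq_top H |>.1 e))))
  exact (Nat.le_of_dvd Nat.card_pos N.card_quotient_dvd_card).trans L.card_le_card_group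

/-- Let K be any property of groups. (1) If G is a minimal counterexample relative to K — a finite non-abelian simple group not satisfying K such that every finite non-abelian simple group of smaller order satisfies K — then every proper subgroup of G is a K-group (all its non-abelian simple sections satisfy K), since such sections have smaller order than G. (2) Consequently (induction on the order), if every finite non-abelian simple group all of whose proper subgroups are K-groups satisfies K, then every finite non-abelian simple group satisfies K. -/
theorem result (K : ∀ (X : Type u) [Group X], Prop) :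
    (∀ (G : Type u) [Group G], Cfsg.IsMinCounterexampleWith K G → Cfsg.IsKProperWith K G) ∧
      ((∀ (X : Type u) [Group X] [Finite X], IsSimpleGroup X → ¬ IsMulCommutative X → Cfsg.IsKProperWith K X → K X) →
        ∀ (G : Type u) [Group G] [Finite G], IsSimpleGroup G → ¬ IsMulCommutative G → K G) := by
  refine ⟨fun G _ h => ?_, fun hstep G _ _ hs hn => ?_⟩
  · obtain ⟨hfin, -, -, -, hmin⟩ := h
    exact kProper_of_smaller K hmin
  · suffices ∀ (n : ℕ) (X : Type u) [Group X] [Finite X],
        IsSimpleGroup X → ¬ IsMulCommutative X → Nat.card X ≤ n → K X from this _ G hs hn le_rfl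
    intro n
    induction n with
    | zero => intro X _ _ _ _ h; exact absurd h (by have := Nat.card_pos (α := X); omega)
    | succ n ih =>
      intro X _ _ hs hn hc
      exact hstep X hs hn (kProper_of_smaller K fun Y _ _ hs' hn' hlt => ih Y hs' hn' (by omega))

end Cfsg.Agent.S1753
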