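import Cfsg.Statements.S1755
import Cfsg.Agent.Lib.Local.FStarAction
import Cfsg.Agent.Lib.Solv.Basic
-- import your own Cfsg.Agent.* helpers here

set_option autoImplicit false
open Cfsg

namespace Cfsg.Agent.S1755
open Cfsg.Agent


/-- Let G be a finite group and let z be an involution of G such that Q, the generalized Fitting subgroup of the centralizer C of z, is a 2-group of symplectic type (every characteristic abelian subgroup of Q is cyclic). Let B be a characteristic abelian subgroup of Q, viewed as a subgroup of G. Then for every g in G, the conjugate of B by g either equals B or meets B trivially. -/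
theorem result {G : Type*} [Group G] [Finite G] (z : G) (hz : orderOf z = 2) (hQ : Cfsg.IsOfSymplecticType ↥(Cfsg.generalizedFittingSubgroup ↥(Subgroup.centralizer ({z} : Set G))))
    (B : Subgroup ↥(Cfsg.generalizedFittingSubgroup ↥(Subgroup.centralizer ({z} : Set G)))) (hBc : B.Characteristic) (hBa : IsMulCommutative ↥B) (g : G) :
    ((B.map (Cfsg.generalizedFittingSubgroup ↥(Subgroup.centralizer ({z} : Set G))).subtype).map (Subgroup.centralizer ({z} : Set G)).subtype).map (MulAut.conj g).toMonoidHom =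
        (B.map (Cfsg.generalizedFittingSubgroup ↥(Subgroup.centralizer ({z} : Set G))).subtype).map (Subgroup.centralizer ({z} : Set G)).subtype ∨
      ((B.map (Cfsg.generalizedFittingSubgroup ↥(Subgroup.centralizer ({z} : Set G))).subtype).map (Subgroup.centralizer ({z} : Set G)).subtype).map (MulAut.conj g).toMonoidHom ⊓
        (B.map (Cfsg.generalizedFittingSubgroup ↥(Subgroup.centralizer ({z} : Set G))).subtype).map (Subgroup.centralizer ({z} : Set G)).subtype = ⊥ := by
  skip
  classical
  obtain ⟨hQp, hQc⟩ := hQ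
  haveI hQn : (Cfsg.generalizedFittingSubgroup ↥(Subgroup.centralizer ({z} : Set G))).Normal := Cfsg.Agent.Local.FStarAction.gfit_normal
  have hzC : z ∈ (Subgroup.centralizer ({z} : Set G)) := Subgroup.mem_centralizer_singleton_iff.2 rfl
  have hzcent : ∀ c : (Subgroup.centralizer ({z} : Set G)), c * ⟨z, hzC⟩ = ⟨z, hzC⟩ * c := fun c =>
    Subtype.ext (Subgroup.mem_centralizer_singleton_iff.1 c.2)
  set z' : (Subgroup.centralizer ({z} : Set G)) := ⟨z, hzC⟩ with hz'
  have hzQ : z' ∈ (Cfsg.generalizedFittingSubgroup ↥(Subgroup.centralizer ({z} : Set G))) := by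
    have hn : (Subgroup.zpowers z').Normal := by
      refine ⟨fun x hx g => ?_⟩
      obtain ⟨i, rfl⟩ := Subgroup.mem_zpowers_iff.1 hx
      exact Subgroup.mem_zpowers_iff.2 ⟨i, by rw [((show Commute g z' from hzcent g).zpow_right i).eq, mul_inv_cancel_right]⟩
    haveI : Fact (Nat.Prime 2) := ⟨Nat.prime_two⟩
    have hzn : Group.IsNilpotent ↥(Subgroup.zpowers z') :=
      (IsPGroup.of_card (p := 2) (n := 1) (by rw [Nat.card_zpowers, ← Subgroup.orderOf_coe, pow_one]; exact hz)).isNilpotent
    exact Subgroup.mem_sup_right ((le_sSup (show Subgroup.zpowers z' ∈ {N : Subgroup ↥(Subgroup.centralizer ({z} : Set G)) | N.Normal ∧ Group.IsNilpotent N} from ⟨hn, hzn⟩)) (Subgroup.mem_zpowers z'))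
  set zq : (Cfsg.generalizedFittingSubgroup ↥(Subgroup.centralizer ({z} : Set G))) := ⟨z', hzQ⟩ with hzq
  have hzq2 : orderOf zq = 2 := by
    rw [← Subgroup.orderOf_coe, ← Subgroup.orderOf_coe]; exact hz
  have hzqc : zq ∈ Subgroup.center (Cfsg.generalizedFittingSubgroup ↥(Subgroup.centralizer ({z} : Set G))) := Subgroup.mem_center_iff.2 fun q => Subtype.ext (hzcent q)
  -- the only central involution of `(Cfsg.generalizedFittingSubgroup ↥(Subgroup.centralizer ({z} : Set G)))` is `zq`
  have hone : ∀ (A : Subgroup (Cfsg.generalizedFittingSubgroup ↥(Subgroup.centralizer ({z} : Set G)))), IsCyclic A → ∀ a ∈ A, ∀ b ∈ A, orderOf a = 2 → orderOf b = 2 → a = b := by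
    intro A hA a ha b hb hao hbo
    haveI := hA
    haveI := Fintype.ofFinite A
    by_contra hne
    have hle := IsCyclic.card_pow_eq_one_le (α := A) (n := 2) two_pos
    have hsub : ({1, ⟨a, ha⟩, ⟨b, hb⟩} : Finset A) ⊆ Finset.univ.filter fun x : A => x ^ 2 = 1 := by
      intro x hx
      simp only [Finset.mem_insert, Finset.mem_singleton] at hx
      simp only [Finset.mem_filter, Finset.mem_univ, true_and]
      rcases hx with rfl | rfl | rfl
      · exact one_pow 2
      · exact Subtype.ext (by rw [SubgroupClass.coe_pow]; show a ^ 2 = 1; have := pow_orderOf_eq_one a; rwa [hao] at this)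
      · exact Subtype.ext (by rw [SubgroupClass.coe_pow]; show b ^ 2 = 1; have := pow_orderOf_eq_one b; rwa [hbo] at this)
    have h3 : ({1, ⟨a, ha⟩, ⟨b, hb⟩} : Finset A).card = 3 := by
      refine Finset.card_eq_three.2 ⟨_, _, _, ?_, ?_, ?_, rfl⟩
      · intro h; have h' : (1 : ↥(Cfsg.generalizedFittingSubgroup ↥(Subgroup.centralizer ({z} : Set G)))) = a := congrArg Subtype.val h; rw [← h', orderOf_one] at hao; omega
      · intro h; have h' : (1 : ↥(Cfsg.generalizedFittingSubgroup ↥(Subgroup.centralizer ({z} : Set G)))) = b := congrArg Subtype.val h; rw [← h', orderOf_one] at hbo; omega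
      · exact fun h => hne (congrArg Subtype.val h)
    have := (Finset.card_le_card hsub).trans hle
    omega
  let W : Subgroup (Cfsg.generalizedFittingSubgroup ↥(Subgroup.centralizer ({z} : Set G))) :=
    { carrier := {x | x ∈ Subgroup.center (Cfsg.generalizedFittingSubgroup ↥(Subgroup.centralizer ({z} : Set G))) ∧ x ^ 2 = 1}
      one_mem' := ⟨one_mem _, one_pow _⟩
      mul_mem' := fun {a b} ha hb => ⟨mul_mem ha.1 hb.1, by
        rw [Commute.mul_pow (show Commute a b from (Subgroup.mem_center_iff.1 hb.1 a)), ha.2, hb.2, one_mul]⟩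
      inv_mem' := fun {a} ha => ⟨inv_mem ha.1, by rw [inv_pow, ha.2, inv_one]⟩ }
  have hWchar : W.Characteristic := by
    rw [Subgroup.characteristic_iff_map_le]
    rintro φ _ ⟨x, hx, rfl⟩
    refine ⟨?_, ?_⟩
    · have := (Subgroup.characteristic_iff_map_le.1 (inferInstance : (Subgroup.center (Cfsg.generalizedFittingSubgroup ↥(Subgroup.centralizer ({z} : Set G)))).Characteristic)) φ
      exact this ⟨x, hx.1, rfl⟩
    · show (φ.toMonoidHom x) ^ 2 = 1
      rw [← map_pow, hx.2, map_one]
  have hW : IsCyclic W := hQc W hWchar ⟨⟨fun a b => Subtype.ext ((Subgroup.mem_center_iff.1 b.2.1 a))⟩⟩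
  have hB : IsCyclic B := hQc B hBc hBa
  haveI := hBc
  have hBn : B.Normal := inferInstance
  have hBinv : ∀ u ∈ B, orderOf u = 2 → u = zq := by
    intro u hu huo
    have huc : u ∈ Subgroup.center (Cfsg.generalizedFittingSubgroup ↥(Subgroup.centralizer ({z} : Set G))) := by
      rw [Subgroup.mem_center_iff]
      intro q
      have h1 : q * u * q⁻¹ = u := hone B hB _ (hBn.conj_mem u hu q) u hu
        ((orderOf_injective (MulAut.conj q).toMonoidHom (MulAut.conj q).injective u).trans huo) huo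
      exact mul_inv_eq_iff_eq_mul.1 h1
    have hW2 : ∀ v ∈ Subgroup.center (Cfsg.generalizedFittingSubgroup ↥(Subgroup.centralizer ({z} : Set G))), orderOf v = 2 → v ∈ W := fun v hv hvo =>
      ⟨hv, by have := pow_orderOf_eq_one v; rwa [hvo] at this⟩
    exact hone W hW u (hW2 u huc huo) zq (hW2 zq hzqc hzq2) huo hzq2
  set B' := (B.map (Cfsg.generalizedFittingSubgroup ↥(Subgroup.centralizer ({z} : Set G))).subtype).map (Subgroup.centralizer ({z} : Set G)).subtype with hB'
  have hB'inv : ∀ u ∈ B', orderOf u = 2 → u = z := by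
    rintro _ ⟨_, ⟨u, hu, rfl⟩, rfl⟩ huo
    have huo' : orderOf u = 2 := by
      rw [← Subgroup.orderOf_coe, ← Subgroup.orderOf_coe]; exact huo
    rw [hBinv u hu huo']
    rfl
  have hB'p : IsPGroup 2 B' := ((hQp.to_subgroup B).map _).map _
  rcases eq_or_ne (B'.map (MulAut.conj g).toMonoidHom ⊓ B') ⊥ with h | h
  · exact Or.inr h
  left
  have hIp : IsPGroup 2 ↥(B'.map (MulAut.conj g).toMonoidHom ⊓ B') := hB'p.to_le inf_le_right
  obtain ⟨k, hk⟩ := IsPGroup.iff_card.1 hIp
  have hd : 2 ∣ Nat.card ↥(B'.map (MulAut.conj g).toMonoidHom ⊓ B') := by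
    rcases k with _ | k
    · exact absurd (Subgroup.card_eq_one.1 (by simpa using hk)) h
    · rw [hk]; exact dvd_pow_self 2 k.succ_ne_zero
  haveI : Fact (Nat.Prime 2) := ⟨Nat.prime_two⟩
  obtain ⟨v, hv⟩ := exists_prime_orderOf_dvd_card' 2 hd
  have hvo : orderOf (v : G) = 2 := by rw [Subgroup.orderOf_coe, hv]
  obtain ⟨hv1, hv2⟩ := Subgroup.mem_inf.1 v.2
  have hvz : (v : G) = z := hB'inv _ hv2 hvo
  obtain ⟨w, hw, hwv⟩ := hv1
  have hwo : orderOf w = 2 :=
    (orderOf_injective (MulAut.conj g).toMonoidHom (MulAut.conj g).injective w).symm.trans (hwv ▸ hvo)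
  have hwz : w = z := hB'inv w hw hwo
  have hgC : g ∈ (Subgroup.centralizer ({z} : Set G)) := by
    rw [Subgroup.mem_centralizer_singleton_iff]
    have h2 : g * z * g⁻¹ = z := by
      have h1 : g * w * g⁻¹ = (v : G) := hwv
      rwa [hwz, hvz] at h1
    exact mul_inv_eq_iff_eq_mul.1 h2
  have hn : (B.map (Cfsg.generalizedFittingSubgroup ↥(Subgroup.centralizer ({z} : Set G))).subtype).Normal := inferInstance
  refine le_antisymm ?_ fun x hx => ?_
  · rintro _ ⟨_, ⟨b, hb, rfl⟩, rfl⟩
    exact ⟨_, hn.conj_mem b hb ⟨g, hgC⟩, rfl⟩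
  · obtain ⟨b, hb, rfl⟩ := hx
    refine ⟨_, ⟨_, hn.conj_mem b hb ⟨g, hgC⟩⁻¹, rfl⟩, ?_⟩
    show g * (g⁻¹ * (b : G) * g⁻¹⁻¹) * g⁻¹ = (b : G)
    group

end Cfsg.Agent.S1755
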