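import Cfsg.Statements.S1756
-- import your own Cfsg.Agent.* helpers here

set_option autoImplicit false
open Cfsg

namespace Cfsg.Agent.S1756

open Subgroup

theorem sq_mem_frattini {P : Type*} [Group P] [Finite P] (hP : IsPGroup 2 P) (x : P) :
    x ^ 2 ∈ frattini P := by
  haveI : Fact (Nat.Prime 2) := ⟨Nat.prime_two⟩
  haveI := hP.isNilpotent
  show x ^ 2 ∈ Order.radical (Subgroup P)
  simp only [Order.radical, mem_iInf]
  intro M hM
  haveI : M.Normal := NormalizerCondition.normal_of_coatom M Group.normalizerCondition_of_isNilpotent hM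
  obtain ⟨g, -, hg⟩ := SetLike.exists_of_lt hM.lt_top
  have hq : IsPGroup 2 (P ⧸ M) := hP.to_quotient M
  obtain ⟨k, hk⟩ := IsPGroup.iff_card.1 hq
  have hk0 : k ≠ 0 := fun h => by
    rw [h, pow_zero, Nat.card_eq_one_iff_unique] at hk
    haveI := hk.1
    exact hg ((QuotientGroup.eq_one_iff g).1 (Subsingleton.elim _ _))
  obtain ⟨z, hz⟩ := exists_prime_orderOf_dvd_card' 2 (hk ▸ dvd_pow_self 2 hk0 : 2 ∣ Nat.card (P ⧸ M))
  have hle : M ≤ (zpowers z).comap (QuotientGroup.mk' M) := fun m hm => by
    rw [mem_comap, (show QuotientGroup.mk' M m = 1 from (QuotientGroup.eq_one_iff m).2 hm)]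
    exact one_mem _
  obtain ⟨w, rfl⟩ := QuotientGroup.mk'_surjective M z
  have hne : (zpowers (QuotientGroup.mk' M w)).comap (QuotientGroup.mk' M) ≠ M := fun h => by
    have hw : w ∈ M := h ▸ (show w ∈ comap _ _ from mem_zpowers _)
    rw [(show QuotientGroup.mk' M w = 1 from (QuotientGroup.eq_one_iff w).2 hw), orderOf_one] at hz
    omega
  have htop := hM.2 _ (lt_of_le_of_ne hle (Ne.symm hne))
  obtain ⟨j, hj⟩ := mem_zpowers_iff.1 (show QuotientGroup.mk' M x ∈ zpowers (QuotientGroup.mk' M w) from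
    mem_comap.1 (htop ▸ mem_top x))
  refine (QuotientGroup.eq_one_iff (x ^ 2)).1 ?_
  show QuotientGroup.mk' M (x ^ 2) = 1
  rw [map_pow, ← hj, ← zpow_natCast, ← zpow_mul, mul_comm, zpow_mul, zpow_natCast, ← hz,
    pow_orderOf_eq_one, one_zpow]

theorem commute_mem {P : Type*} [Group P] {z x y : P} (hz : ∀ w, w * z = z * w) (h : x * y = z * (y * x))
    {x' : P} (h' : x' * y = z * (y * x')) : Commute (x⁻¹ * x') y := by
  have e : x⁻¹ * z = z * x⁻¹ := hz _
  show x⁻¹ * x' * y = y * (x⁻¹ * x')
  calc x⁻¹ * x' * y = x⁻¹ * (z * (y * x')) := by rw [mul_assoc, h']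
    _ = x⁻¹ * (z * (y * x)) * (x⁻¹ * x') := by group
    _ = y * (x⁻¹ * x') := by rw [← h]; group

theorem exists_noncentral_centralizing {P : Type*} [Group P] [Finite P]
    (hQ : Cfsg.IsExtraspecial 2 P) (C : Subgroup P) (hC : C.index = 2) :
    ∃ a ∈ centralizer (C : Set P), a ∉ center P := by
  obtain ⟨⟨hP, hf, hc⟩, hZ⟩ := hQ
  haveI : Finite (Subgroup P) := inferInstance
  have hcomm : ∀ x y : P, x * y * x⁻¹ * y⁻¹ ∈ center P := fun x y => by
    rw [← hc]; exact commutator_mem_commutator (mem_top x) (mem_top y)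
  have hstep : ∀ (X : Subgroup P) (x : P),
      Nat.card ↥(centralizer (X : Set P)) ≤
        2 * Nat.card ↥(centralizer ((X ⊔ zpowers x : Subgroup P) : Set P)) := by
    intro X x
    set D := centralizer ((X ⊔ zpowers x : Subgroup P) : Set P)
    have hmem : ∀ v, v ∈ centralizer (X : Set P) → Commute v x → v ∈ D := by
      intro v hv hvx
      rw [mem_centralizer_iff]
      intro w hw
      have : X ⊔ zpowers x ≤ centralizer ({v} : Set P) := sup_le
        (fun w hw => mem_centralizer_singleton_iff.2 (mem_centralizer_iff.1 hv w hw))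
        (zpowers_le.2 (mem_centralizer_singleton_iff.2 hvx.eq.symm))
      exact mem_centralizer_singleton_iff.1 (this hw)
    have hle : D ≤ centralizer (X : Set P) :=
      centralizer_le (le_sup_left : X ≤ X ⊔ zpowers x)
    have hidx : D.relIndex (centralizer (X : Set P)) ≤ 2 := by
      by_contra hlt
      push Not at hlt
      rw [relIndex, index_eq_card] at hlt
      haveI := Fintype.ofFinite (↥(centralizer (X : Set P)) ⧸ D.subgroupOf (centralizer (X : Set P)))
      rw [Nat.card_eq_fintype_card, Fintype.two_lt_card_iff] at hlt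
      obtain ⟨A, B, E, hAB, hAE, hBE⟩ := hlt
      have hex : ∃ a b : ↥(centralizer (X : Set P)),
          (QuotientGroup.mk a : _ ⧸ D.subgroupOf _) ≠ QuotientGroup.mk b ∧
            (a : P) * x * (a : P)⁻¹ * x⁻¹ = (b : P) * x * (b : P)⁻¹ * x⁻¹ := by
        induction A using QuotientGroup.induction_on with | _ a =>
        induction B using QuotientGroup.induction_on with | _ b =>
        induction E using QuotientGroup.induction_on with | _ e =>
        by_contra hno
        push Not at hno
        haveI := Fintype.ofFinite (center P)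
        have : 2 < Fintype.card (center P) := Fintype.two_lt_card_iff.2
          ⟨⟨_, hcomm a x⟩, ⟨_, hcomm b x⟩, ⟨_, hcomm e x⟩,
            fun h => hno a b hAB (congrArg Subtype.val h), fun h => hno a e hAE (congrArg Subtype.val h),
            fun h => hno b e hBE (congrArg Subtype.val h)⟩
        rw [Nat.card_eq_fintype_card] at hZ
        omega
      obtain ⟨a, b, hab, he⟩ := hex
      refine hab (QuotientGroup.eq.2 (hmem _ (a⁻¹ * b).2 ?_))
      set z := (a : P) * x * (a : P)⁻¹ * x⁻¹ with hzdef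
      have hz : ∀ w, w * z = z * w := fun w => mem_center_iff.1 (hcomm a x) w
      exact commute_mem hz (x := (a : P)) (by rw [hzdef]; group) (by rw [he]; group)
    calc Nat.card ↥(centralizer (X : Set P))
        = Nat.card ↥(D.subgroupOf (centralizer (X : Set P))) * D.relIndex (centralizer (X : Set P)) :=
          (card_mul_index _).symm
      _ ≤ Nat.card D * 2 := by
          rw [Nat.card_congr (subgroupOfEquivOfLe hle).toEquiv]; exact Nat.mul_le_mul_left _ hidx
      _ = 2 * Nat.card D := Nat.mul_comm _ _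
  have key : ∀ X : Subgroup P, center P ≤ X →
      Nat.card P * Nat.card (center P) ≤ Nat.card X * Nat.card ↥(centralizer (X : Set P)) := by
    intro X
    induction X using WellFoundedLT.induction with
    | _ X ih =>
      intro hle
      rcases hle.eq_or_lt with rfl | hlt
      · have : centralizer ((center P : Subgroup P) : Set P) = ⊤ := centralizer_eq_top_iff_subset.2 le_rfl
        rw [this, card_top, Nat.mul_comm]
      obtain ⟨Y, hY, hYmax⟩ := (Set.toFinite {Y : Subgroup P | center P ≤ Y ∧ Y < X}).exists_maximal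
        ⟨center P, le_rfl, hlt⟩
      obtain ⟨x, hxX, hxY⟩ := SetLike.exists_of_lt hY.2
      have hsup : Y ⊔ zpowers x = X := by
        rcases (sup_le hY.2.le (zpowers_le.2 hxX)).eq_or_lt with h | h
        · exact h
        · exact absurd (hYmax ⟨hY.1.trans le_sup_left, h⟩ le_sup_left (mem_sup_right (mem_zpowers x))) hxY
      have h1 := ih Y hY.2 hY.1
      have h2 := hstep Y x
      rw [hsup] at h2
      have h3 : 2 * Nat.card Y ≤ Nat.card X := by
        have h4 := card_dvd_of_le hY.2.le
        obtain ⟨k, hk⟩ := h4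
        have h5 : Nat.card Y ≠ Nat.card X := fun h => hY.2.ne (eq_of_le_of_card_ge hY.2.le h.ge)
        have h6 : k ≠ 0 := fun h => by simp [h, Nat.card_pos.ne'] at hk
        have h7 : k ≠ 1 := fun h => h5 (by rw [hk, h, mul_one])
        rw [hk, Nat.mul_comm 2]
        exact Nat.mul_le_mul_left _ (by omega)
      calc Nat.card P * Nat.card (center P) ≤ Nat.card Y * Nat.card ↥(centralizer (Y : Set P)) := h1
        _ ≤ Nat.card Y * (2 * Nat.card ↥(centralizer (X : Set P))) := Nat.mul_le_mul_left _ h2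
        _ = (2 * Nat.card Y) * Nat.card ↥(centralizer (X : Set P)) := by ring
        _ ≤ _ := Nat.mul_le_mul_right _ h3
  have hZC : center P ≤ C := by
    rw [← hf]
    refine frattini_le_coatom ⟨fun h => by rw [h, index_top] at hC; omega, fun B hB => ?_⟩
    have h1 := relIndex_mul_index hB.le
    rw [hC] at h1
    have h3 : B.index ≠ 2 := fun h => hB.ne' (le_antisymm (relIndex_eq_one.1 (by
      rw [h] at h1; omega)) hB.le)
    rcases Nat.prime_two.eq_one_or_self_of_dvd _ ⟨_, h1.symm.trans (Nat.mul_comm _ _)⟩ with h2 | h2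
    · exact index_eq_one.1 h2
    · exact absurd h2 h3
  by_contra hno
  push Not at hno
  have h1 : centralizer (C : Set P) ≤ center P := fun a ha => hno a ha
  have h2 := key C hZC
  have h3 := card_le_of_le h1
  rw [← C.card_mul_index, hC, hZ] at h2
  rw [hZ] at h3
  have := Nat.card_pos (α := C)
  nlinarith


/-- Let Q be an extraspecial 2-subgroup of the finite group G (special with centre of order 2) and t an involution of G normalizing Q such that the centralizer of t in Q has index at most 2 in Q. Then t lies in the product of Q with the centralizer of Q. -/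
theorem result {G : Type*} [Group G] [Finite G] (Q : Subgroup G)
    (hQ : Cfsg.IsExtraspecial 2 ↥Q) (t : G) (ht : orderOf t = 2) (htN : t ∈ Subgroup.normalizer (Q : Set G))
    (hi : (Subgroup.centralizer ({t} : Set G) ⊓ Q).relIndex Q ≤ 2) :
    t ∈ Q ⊔ Subgroup.centralizer (Q : Set G) := by
  have htt : t * t = 1 := by rw [← pow_two, ← ht, pow_orderOf_eq_one]
  have hti : t⁻¹ = t := inv_eq_of_mul_eq_one_right htt
  have hconj : ∀ q ∈ Q, t * q * t⁻¹ ∈ Q := fun q hq => (Subgroup.mem_normalizer_iff.1 htN q).1 hq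
  set C : Subgroup Q := (Subgroup.centralizer ({t} : Set G)).subgroupOf Q with hCdef
  have hC : ∀ c : Q, c ∈ C ↔ (c : G) * t = t * (c : G) := fun c => Subgroup.mem_centralizer_singleton_iff
  have hi' : C.index ≤ 2 := by
    rw [Subgroup.inf_relIndex_right] at hi
    exact hi
  by_cases hall : C = ⊤
  · refine Subgroup.mem_sup_right (Subgroup.mem_centralizer_iff.2 fun q hq => ?_)
    exact (hC ⟨q, hq⟩).1 (hall ▸ Subgroup.mem_top _)
  have hidx : C.index = 2 := by
    have h0 : C.index ≠ 0 := Subgroup.index_ne_zero_of_finite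
    have h1 : C.index ≠ 1 := fun h => hall (Subgroup.index_eq_one.1 h)
    omega
  obtain ⟨hspec, hZ⟩ := hQ
  have hnc : ∀ x : Q, x * x ∈ Subgroup.center Q := fun x => by
    rw [← hspec.2.1, ← pow_two]
    exact sq_mem_frattini hspec.1 x
  have hcomm : ∀ x y : Q, x * y * x⁻¹ * y⁻¹ ∈ Subgroup.center Q := fun x y => by
    rw [← hspec.2.2]
    exact Subgroup.commutator_mem_commutator (Subgroup.mem_top x) (Subgroup.mem_top y)
  obtain ⟨y, -, hy⟩ : ∃ y : Q, y ∈ (⊤ : Subgroup Q) ∧ y ∉ C := SetLike.exists_of_lt (lt_top_iff_ne_top.2 hall)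
  have hmul : ∀ {a b : Q}, a * b ∈ C ↔ (a ∈ C ↔ b ∈ C) := fun {a b} => Subgroup.mul_mem_iff_of_index_two hidx
  set u : Q := ⟨t * y * t⁻¹, hconj y y.2⟩ with hu
  set d : Q := y⁻¹ * u with hd
  have hCn : C.Normal := ⟨fun c hc g => by rw [hmul, hmul, inv_mem_iff]; simp [hc]⟩
  have hdC : d ∈ Subgroup.centralizer (C : Set Q) := by
    rw [Subgroup.mem_centralizer_iff]
    intro c hc
    have h1 : u * c * u⁻¹ = y * c * y⁻¹ := by
      apply Subtype.ext
      show t * (y : G) * t⁻¹ * c * (t * (y : G) * t⁻¹)⁻¹ = (y : G) * c * (y : G)⁻¹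
      have hc' := (hC c).1 hc
      have hc2 : t⁻¹ * (c : G) * t = c := by rw [mul_assoc, hc', inv_mul_cancel_left]
      have h2 := (hC _).1 (hCn.conj_mem c hc y)
      calc t * (y : G) * t⁻¹ * c * (t * (y : G) * t⁻¹)⁻¹
          = t * ((y : G) * (t⁻¹ * c * t) * (y : G)⁻¹) * t⁻¹ := by group
        _ = t * ((y * c * y⁻¹ : Q) : G) * t⁻¹ := by rw [hc2]; rfl
        _ = ((y * c * y⁻¹ : Q) : G) := by rw [← h2, mul_inv_cancel_right]
    have h3 : d * c * d⁻¹ = c := by
      rw [hd, show y⁻¹ * u * c * (y⁻¹ * u)⁻¹ = y⁻¹ * (u * c * u⁻¹) * y by group, h1]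
      group
    exact (mul_inv_eq_iff_eq_mul.1 h3).symm
  have hu1 : u ≠ y := fun h => hy ((hC y).2 (by
    have h' : t * (y : G) * t⁻¹ = y := congrArg Subtype.val h
    exact (mul_inv_eq_iff_eq_mul.1 h').symm))
  obtain ⟨a, haC, haZ⟩ := exists_noncentral_centralizing ⟨hspec, hZ⟩ C hidx
  have hay : ¬ Commute a y := fun h => haZ (Subgroup.mem_center_iff.2 fun g => by
    by_cases hg : g ∈ C
    · exact Subgroup.mem_centralizer_iff.1 haC g hg
    · have hgy : g * y⁻¹ ∈ C := hmul.2 (iff_of_false hg (fun h' => hy (inv_mem_iff.1 h')))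
      have e1 : Commute (g * y⁻¹) a := Subgroup.mem_centralizer_iff.1 haC _ hgy
      have e2 : Commute (g * y⁻¹ * y) a := e1.mul_left h.symm
      rw [inv_mul_cancel_right] at e2
      exact e2)
  by_cases hdZ : d ∈ Subgroup.center Q
  · have hz : ∀ w ∈ Subgroup.center Q, w ≠ 1 → w = d := by
      intro w hw hw1
      have hd1 : d ≠ 1 := fun h => hu1 (by rw [hd, inv_mul_eq_one] at h; exact h.symm)
      by_contra hne
      haveI : Fintype (Subgroup.center Q) := Fintype.ofFinite _
      have h3 : 2 < Fintype.card (Subgroup.center Q) :=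
        Fintype.two_lt_card_iff.2 ⟨1, ⟨w, hw⟩, ⟨d, hdZ⟩, fun e => hw1 (congrArg Subtype.val e).symm,
          fun e => hd1 (congrArg Subtype.val e).symm, fun e => hne (congrArg Subtype.val e)⟩
      rw [Nat.card_eq_fintype_card] at hZ
      omega
    have hk : y⁻¹ * (a * y * a⁻¹) = d := by
      refine hz _ ?_ fun h => hay (mul_inv_eq_iff_eq_mul.1 (inv_mul_eq_one.1 h).symm)
      rw [show y⁻¹ * (a * y * a⁻¹) = y⁻¹ * a * y⁻¹⁻¹ * a⁻¹ by group]
      exact hcomm y⁻¹ a
    have hau : a * y * a⁻¹ = u := mul_left_cancel (hk.trans hd)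
    have hS : (a : G)⁻¹ * t ∈ Subgroup.centralizer (Q : Set G) := by
      have hCc : ∀ c : Q, c ∈ C → Commute ((a : G)⁻¹ * t) (c : G) := fun c hc => by
        have e1 : Commute (a : G) (c : G) :=
          (congrArg Subtype.val (Subgroup.mem_centralizer_iff.1 haC c hc).symm :)
        exact e1.inv_left.mul_left ((hC c).1 hc).symm
      have hyc : Commute ((a : G)⁻¹ * t) (y : G) := by
        have hau' : (a : G) * y * (a : G)⁻¹ = t * y * t⁻¹ := congrArg Subtype.val hau
        show (a : G)⁻¹ * t * y = y * ((a : G)⁻¹ * t)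
        rw [show (a : G)⁻¹ * t * y = (a : G)⁻¹ * (t * y * t⁻¹) * t by group, ← hau']
        group
      rw [Subgroup.mem_centralizer_iff]
      intro q hq
      by_cases hqc : (⟨q, hq⟩ : Q) ∈ C
      · exact (hCc _ hqc).eq.symm
      · have hqy : (⟨q, hq⟩ : Q) * y⁻¹ ∈ C := hmul.2 (iff_of_false hqc (fun h' => hy (inv_mem_iff.1 h')))
        have e3 : Commute ((a : G)⁻¹ * t) (q * (y : G)⁻¹) := hCc _ hqy
        have e4 := e3.mul_right hyc
        rw [inv_mul_cancel_right] at e4
        exact e4.eq.symm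
    rw [show t = (a : G) * ((a : G)⁻¹ * t) by group]
    exact Subgroup.mul_mem_sup a.2 hS
  exfalso
  have hdC' : d ∈ C := by
    by_contra hdn
    refine hdZ (Subgroup.mem_center_iff.2 fun g => ?_)
    by_cases hg : g ∈ C
    · exact Subgroup.mem_centralizer_iff.1 hdC g hg
    · have hgd : g * d⁻¹ ∈ C := hmul.2 (iff_of_false hg (fun h' => hdn (inv_mem_iff.1 h')))
      have e1 : Commute (g * d⁻¹) d := Subgroup.mem_centralizer_iff.1 hdC _ hgd
      have e2 := e1.mul_left (Commute.refl d)
      rw [inv_mul_cancel_right] at e2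
      exact e2
  have hyy : u * u = y * y := by
    have h2 := (hC (y * y)).1 (hmul.2 Iff.rfl)
    apply Subtype.ext
    show t * (y : G) * t⁻¹ * (t * (y : G) * t⁻¹) = (y : G) * y
    rw [show t * (y : G) * t⁻¹ * (t * (y : G) * t⁻¹) = t * ((y * y : Q) : G) * t⁻¹ by
      push_cast; group, ← h2, mul_inv_cancel_right]
    rfl
  have hud : u = y * d := by rw [hd, mul_inv_cancel_left]
  have hdu : u * d = y := by
    have hd' : t * (d : G) * t⁻¹ = d := by
      rw [← (hC d).1 hdC', mul_inv_cancel_right]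
    apply Subtype.ext
    show t * (y : G) * t⁻¹ * (d : G) = y
    rw [← hd']
    have hudG : t * (y : G) * t⁻¹ = (y : G) * d := congrArg Subtype.val hud
    calc t * (y : G) * t⁻¹ * (t * (d : G) * t⁻¹) = t * ((y : G) * d) * t⁻¹ := by group
      _ = t * (t * (y : G) * t⁻¹) * t⁻¹ := by rw [hudG]
      _ = (t * t) * (y : G) * (t * t)⁻¹ := by group
      _ = y := by rw [htt]; simp
  have hyd : y * d * d = y := by rwa [← hud]
  rw [mul_assoc, mul_eq_left] at hyd
  have h4 : y * d * (y * d) = y * y := by rw [← hud]; exact hyy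
  have h5 : d * y = y * d := by
    have h6 : y * (d * y * d) = y * y := by rw [← h4]; group
    have h7 := mul_left_cancel h6
    calc d * y = d * y * (d * d) := by rw [hyd, mul_one]
      _ = (d * y * d) * d := by group
      _ = y * d := by rw [h7]
  refine hdZ (Subgroup.mem_center_iff.2 fun g => ?_)
  by_cases hg : g ∈ C
  · exact Subgroup.mem_centralizer_iff.1 hdC g hg
  · have hgy : g * y⁻¹ ∈ C := hmul.2 (iff_of_false hg (fun h' => hy (inv_mem_iff.1 h')))
    have e1 : Commute (g * y⁻¹) d := Subgroup.mem_centralizer_iff.1 hdC _ hgy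
    have e2 := e1.mul_left (show Commute y d from h5.symm)
    rw [inv_mul_cancel_right] at e2
    exact e2

end Cfsg.Agent.S1756
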