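import Cfsg.Statements.S1757
import Cfsg.Agent.Lib.Solv.Basic

set_option autoImplicit false
open Cfsg

namespace Cfsg.Agent.S1757


/-- Let p be a prime and A, B p-subgroups of the finite group G, each of which meets every conjugate of itself other than itself trivially. Suppose the order of A is at most that of B, A and B intersect trivially, and B normalizes A. Then A and B commute elementwise. -/
theorem result {G : Type*} [Group G] [Finite G] (p : ℕ) [Fact p.Prime] (A B : Subgroup G)
    (hA : IsPGroup p ↥A) (hB : IsPGroup p ↥B)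
    (hAti : ∀ g : G, A.map (MulAut.conj g).toMonoidHom = A ∨ A.map (MulAut.conj g).toMonoidHom ⊓ A = ⊥)
    (hBti : ∀ g : G, B.map (MulAut.conj g).toMonoidHom = B ∨ B.map (MulAut.conj g).toMonoidHom ⊓ B = ⊥)
    (hle : Nat.card ↥A ≤ Nat.card ↥B) (hAB : A ⊓ B = ⊥) (hN : B ≤ Subgroup.normalizer (A : Set G)) : ⁅A, B⁆ = ⊥ := by
  have hcommAB : (B ≤ Subgroup.normalizer (A : Set G)) → A ≤ Subgroup.normalizer (B : Set G) →
      ⁅A, B⁆ = ⊥ := fun h1 h2 => by
    rw [eq_bot_iff, ← hAB, le_inf_iff]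
    refine ⟨Subgroup.commutator_le.2 fun a ha b hb => ?_, Subgroup.commutator_le.2 fun a ha b hb => ?_⟩
    · rw [commutatorElement_def, show a * b * a⁻¹ * b⁻¹ = a * (b * a⁻¹ * b⁻¹) by group]
      exact mul_mem ha ((Subgroup.mem_normalizer_iff.1 (h1 hb) _).1 (inv_mem ha))
    · rw [commutatorElement_def]
      exact mul_mem ((Subgroup.mem_normalizer_iff.1 (h2 ha) _).1 hb) (inv_mem hb)
  by_cases hCA : A ≤ Subgroup.normalizer (B : Set G)
  · exact hcommAB hN hCA
  exfalso
  set C : Subgroup G := A ⊓ Subgroup.normalizer (B : Set G) with hC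
  set Q : Subgroup G := C ⊔ B with hQ
  set P : Subgroup G := A ⊔ B with hPdef
  have hQP : Q ≤ P := sup_le_sup_right inf_le_left B
  have hQN : Q ≤ Subgroup.normalizer (B : Set G) := sup_le inf_le_right Subgroup.le_normalizer
  have hAQ : ∀ a ∈ A, a ∈ Q → a ∈ C := fun a ha haQ => ⟨ha, hQN haQ⟩
  have hlt : Q.subgroupOf P < ⊤ := by
    rw [lt_top_iff_ne_top, Ne, Subgroup.subgroupOf_eq_top]
    intro h
    exact hCA fun a ha => (hAQ a ha (h (Subgroup.mem_sup_left ha))).2
  have hPp : IsPGroup p P := IsPGroup.to_sup_of_normal_left' hA hB hN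
  haveI := hPp.isNilpotent
  obtain ⟨w, hw, hwn⟩ := SetLike.exists_of_lt (normalizerCondition_of_isNilpotent _ hlt)
  have hwQ : (w : G) ∉ Q := hwn
  have hwN : (w : G) ∈ Subgroup.normalizer (Q : Set G) := by
    rw [Subgroup.mem_normalizer_iff] at hw ⊢
    intro h
    constructor
    · intro hh
      exact (hw ⟨h, hQP hh⟩).1 hh
    · intro hh
      have hh' : (w : G)⁻¹ * ((w : G) * h * (w : G)⁻¹) * (w : G) ∈ P :=
        mul_mem (mul_mem (inv_mem w.2) (hQP hh)) w.2
      have e : (w : G)⁻¹ * ((w : G) * h * (w : G)⁻¹) * (w : G) = h := by group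
      rw [e] at hh'
      exact (hw ⟨h, hh'⟩).2 hh
  obtain ⟨a, ha, b, hb, hab⟩ : ∃ a ∈ A, ∃ b ∈ B, a * b = (w : G) := by
    have h2 : (w : G) ∈ ((A ⊔ B : Subgroup G) : Set G) := w.2
    rw [Subgroup.coe_mul_of_right_le_normalizer_left A B hN] at h2
    exact h2
  have haN : a ∈ Subgroup.normalizer (Q : Set G) := by
    have e : a = (w : G) * b⁻¹ := by rw [← hab]; group
    rw [e]
    exact mul_mem hwN (Subgroup.le_normalizer (inv_mem (Subgroup.mem_sup_right hb)))
  have haC : a ∉ C := fun h => hwQ (hab ▸ mul_mem (Subgroup.mem_sup_left h) (Subgroup.mem_sup_right hb))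
  set B' := B.map (MulAut.conj a).toMonoidHom with hB'
  have hB'Q : B' ≤ Q := by
    rintro _ ⟨y, hy, rfl⟩
    exact (Subgroup.mem_normalizer_iff.1 haN y).1 (Subgroup.mem_sup_right hy)
  have hne : B' ≠ B := fun h => haC ⟨ha, by
    show a ∈ Subgroup.normalizer (B : Set G)
    rw [Subgroup.mem_normalizer_iff]
    intro y
    constructor
    · intro hy; exact h ▸ ⟨y, hy, rfl⟩
    · intro hy
      rw [← h] at hy
      obtain ⟨z, hz, hz'⟩ := hy
      have : z = y := (MulAut.conj a).injective hz'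
      exact this ▸ hz⟩
  have hcap := (hBti a).resolve_left hne
  have h1 : Nat.card (B ⊔ B' : Subgroup G) = Nat.card B * Nat.card B := by
    have := Solv.card_sup_mul_card_inf B B' (hB'Q.trans hQN)
    rw [inf_comm, hcap, Subgroup.card_bot, mul_one] at this
    rw [this, hB', ← Nat.card_congr (B.equivMapOfInjective (MulAut.conj a).toMonoidHom
      (MulAut.conj a).injective).toEquiv]
  have h2 : Nat.card (B ⊔ B' : Subgroup G) ≤ Nat.card C * Nat.card B :=
    (Subgroup.card_le_of_le (sup_le le_sup_right hB'Q)).trans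
      (Nat.le_of_dvd (Nat.mul_pos Nat.card_pos Nat.card_pos) (by
        rw [sup_comm, mul_comm]; exact Solv.card_sup_dvd B C inf_le_right))
  rw [h1] at h2
  have h3 : Nat.card B ≤ Nat.card C := Nat.le_of_mul_le_mul_right h2 Nat.card_pos
  have h4 : C = A := Subgroup.eq_of_le_of_card_ge inf_le_left (hle.trans h3)
  exact hCA (h4 ▸ inf_le_right)

end Cfsg.Agent.S1757
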