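import Cfsg.Statements.S1774
import Cfsg.Agent.Lib.Local.FStar
import Cfsg.Agent.Lib.Local.FStarAction
import Cfsg.Agent.Lib.Solv.Misc
-- import your own Cfsg.Agent.* helpers here

set_option autoImplicit false
open Cfsg

namespace Cfsg.Agent.S1774

theorem comm_of_sq {G : Type*} [Group G] (Q : Subgroup G) (z : G)
    (hc : ∀ x ∈ Q, x * z = z * x) (hz2 : z * z = 1) (hsq : ∀ x ∈ Q, x * x = 1 ∨ x * x = z)
    (a b : G) (ha : a ∈ Q) (hb : b ∈ Q) : a * b = b * a ∨ a * b = z * (b * a) := by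
  have hmul : ∀ u v : G, (u = 1 ∨ u = z) → (v = 1 ∨ v = z) → (u * v = 1 ∨ u * v = z) := by
    rintro u v (rfl | rfl) (rfl | rfl) <;> simp [hz2]
  have hinv : ∀ u : G, (u = 1 ∨ u = z) → (u⁻¹ = 1 ∨ u⁻¹ = z) := by
    rintro u (rfl | rfl)
    · simp
    · exact Or.inr (inv_eq_of_mul_eq_one_right hz2)
  have hcen : (a * a)⁻¹ * b⁻¹ = b⁻¹ * (a * a)⁻¹ := by
    rcases hsq a ha with h | h
    · rw [h]; simp
    · rw [h, ← mul_inv_rev, ← mul_inv_rev, hc b hb]
  have e : a * b * a⁻¹ * b⁻¹ = a * b * (a * b) * ((a * a)⁻¹ * (b * b)⁻¹) := by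
    calc a * b * a⁻¹ * b⁻¹ = a * b * (a * b) * (b⁻¹ * (a * a)⁻¹ * b⁻¹) := by group
      _ = _ := by rw [← hcen]; group
  rcases hmul _ _ (hsq _ (mul_mem ha hb)) (hmul _ _ (hinv _ (hsq a ha)) (hinv _ (hsq b hb))) with h | h <;>
    rw [← e] at h
  · left
    calc a * b = a * b * a⁻¹ * b⁻¹ * (b * a) := by group
      _ = _ := by rw [h, one_mul]
  · right
    calc a * b = a * b * a⁻¹ * b⁻¹ * (b * a) := by group
      _ = _ := by rw [h]

theorem sympl {E : Type*} [Group E] [Finite E] (hP : IsPGroup 2 E)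
    (hS : ∀ A : Subgroup E, A.Characteristic → IsMulCommutative A → IsCyclic A)
    (z : E) (hz : z ∈ Subgroup.center E) (hz2 : z * z = 1) (hz1 : z ≠ 1) (h4 : ∀ q : E, q ^ 4 = 1) :
    (∀ x : E, x * x = 1 ∨ x * x = z) ∧ (∀ x ∈ Subgroup.center E, x * x = 1 → x = 1 ∨ x = z) := by
  classical
  haveI : Fact (Nat.Prime 2) := ⟨Nat.prime_two⟩
  have hone : ∀ A : Subgroup E, IsCyclic A → ∀ a ∈ A, ∀ b ∈ A, a * a = 1 → b * b = 1 → a ≠ 1 → b ≠ 1 → a = b := by
    intro A hA a ha b hb ha2 hb2 ha1 hb1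
    haveI := hA
    haveI := Fintype.ofFinite A
    by_contra hne
    have hle := IsCyclic.card_pow_eq_one_le (α := A) (n := 2) two_pos
    have hsub : ({1, ⟨a, ha⟩, ⟨b, hb⟩} : Finset A) ⊆ Finset.univ.filter fun x : A => x ^ 2 = 1 := by
      intro x hx
      simp only [Finset.mem_insert, Finset.mem_singleton] at hx
      simp only [Finset.mem_filter, Finset.mem_univ, true_and]
      rcases hx with rfl | rfl | rfl
      · exact one_pow 2
      · exact Subtype.ext (by rw [SubgroupClass.coe_pow, pow_two]; exact ha2)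
      · exact Subtype.ext (by rw [SubgroupClass.coe_pow, pow_two]; exact hb2)
    have h3 : ({1, ⟨a, ha⟩, ⟨b, hb⟩} : Finset A).card = 3 :=
      Finset.card_eq_three.2 ⟨_, _, _, fun h => ha1 (congrArg Subtype.val h).symm,
        fun h => hb1 (congrArg Subtype.val h).symm, fun h => hne (congrArg Subtype.val h), rfl⟩
    have := (Finset.card_le_card hsub).trans hle
    omega
  let W : Subgroup E :=
    { carrier := {x | x ∈ Subgroup.center E ∧ x * x = 1}
      one_mem' := ⟨one_mem _, one_mul _⟩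
      mul_mem' := fun {a b} ha hb => ⟨mul_mem ha.1 hb.1, by
        rw [show a * b * (a * b) = a * (b * a) * b by group, Subgroup.mem_center_iff.1 ha.1 b,
          show a * (a * b) * b = a * a * (b * b) by group, ha.2, hb.2, one_mul]⟩
      inv_mem' := fun {a} ha => ⟨inv_mem ha.1, by rw [← mul_inv_rev, ha.2, inv_one]⟩ }
  have hWchar : W.Characteristic := by
    rw [Subgroup.characteristic_iff_map_le]
    rintro φ _ ⟨x, hx, rfl⟩
    refine ⟨?_, ?_⟩
    · have := (Subgroup.characteristic_iff_map_le.1 (inferInstance : (Subgroup.center E).Characteristic)) φ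
      exact this ⟨x, hx.1, rfl⟩
    · show φ.toMonoidHom x * φ.toMonoidHom x = 1
      rw [← map_mul, hx.2, map_one]
  have hW : IsCyclic W := hS W hWchar ⟨⟨fun a b => Subtype.ext (Subgroup.mem_center_iff.1 b.2.1 a)⟩⟩
  have hcent : ∀ x ∈ Subgroup.center E, x * x = 1 → x = 1 ∨ x = z := by
    intro x hx h2
    by_cases h : x = 1
    · exact Or.inl h
    · exact Or.inr (hone W hW x ⟨hx, h2⟩ z ⟨hz, hz2⟩ h2 hz2 h hz1)
  refine ⟨?_, hcent⟩
  have hinA : ∀ A : Subgroup E, A.Characteristic → IsMulCommutative A → ∀ u ∈ A, u * u = 1 → u = 1 ∨ u = z := by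
    intro A hA hAc u hu h2
    by_cases h : u = 1
    · exact Or.inl h
    haveI := hA
    haveI hAn : A.Normal := inferInstance
    refine hcent u (Subgroup.mem_center_iff.2 fun x => ?_) h2
    have := hone A (hS A hA hAc) (x * u * x⁻¹) (hAn.conj_mem u hu x) u hu
      (by rw [show x * u * x⁻¹ * (x * u * x⁻¹) = x * (u * u) * x⁻¹ by group, h2]; group) h2
      (fun e => h (by simpa using e)) h
    exact mul_inv_eq_iff_eq_mul.1 this
  have hsq4 : ∀ x : E, x * x * (x * x) = 1 := fun x => by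
    have := h4 x
    rw [show (4 : ℕ) = 2 + 2 from rfl, pow_add, pow_two] at this
    exact this
  set S := Subgroup.closure (Set.range fun x : E => x * x) with hSdef
  have hSmem : ∀ x, x * x ∈ S := fun x => Subgroup.subset_closure ⟨x, rfl⟩
  haveI hSchar : S.Characteristic := by
    rw [Subgroup.characteristic_iff_map_le]
    intro φ
    rw [hSdef, MonoidHom.map_closure, Subgroup.closure_le]
    rintro _ ⟨_, ⟨x, rfl⟩, rfl⟩
    exact Subgroup.subset_closure ⟨φ x, (map_mul φ x x).symm⟩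
  set Z := S ⊓ Subgroup.centralizer (S : Set E) with hZdef
  haveI hcs : (Subgroup.centralizer (S : Set E)).Characteristic := by
    rw [Subgroup.characteristic_iff_map_le]
    rintro φ _ ⟨x, hx, rfl⟩
    refine Subgroup.mem_centralizer_iff.2 fun s hs => ?_
    have hs' : φ.symm s ∈ S := by
      have := Subgroup.characteristic_iff_map_le.1 hSchar φ.symm
      exact this ⟨s, hs, rfl⟩
    have := congrArg φ (Subgroup.mem_centralizer_iff.1 hx _ hs')
    simpa using this
  haveI hZchar : Z.Characteristic := by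
    rw [Subgroup.characteristic_iff_map_le]
    intro φ
    exact (Subgroup.map_inf_le _ _ _).trans (inf_le_inf (Subgroup.characteristic_iff_map_le.1 hSchar φ)
      (Subgroup.characteristic_iff_map_le.1 hcs φ))
  have hZab : IsMulCommutative Z := ⟨⟨fun a b => Subtype.ext
    (Subgroup.mem_centralizer_iff.1 (Subgroup.mem_inf.1 b.2).2 a (Subgroup.mem_inf.1 a.2).1)⟩⟩
  have hinv : ∀ u ∈ Z, u * u = 1 → u = 1 ∨ u = z := hinA Z hZchar hZab
  suffices hSC : S ≤ Subgroup.centralizer (S : Set E) by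
    intro x
    exact hinv _ (Subgroup.mem_inf.2 ⟨hSmem x, hSC (hSmem x)⟩) (hsq4 x)
  by_contra hSC
  haveI : Z.Normal := inferInstance
  haveI hSn : S.Normal := inferInstance
  have hSbar : (S.map (QuotientGroup.mk' Z)) ≠ ⊥ := by
    rw [Ne, Subgroup.map_eq_bot_iff, QuotientGroup.ker_mk']
    exact fun h => hSC (h.trans inf_le_right)
  haveI : (S.map (QuotientGroup.mk' Z)).Normal := hSn.map _ (QuotientGroup.mk'_surjective Z)
  haveI : Group.IsNilpotent (E ⧸ Z) := (hP.to_quotient Z).isNilpotent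
  obtain ⟨ab, hab1, hab⟩ : ∃ ab : E ⧸ Z, ab ≠ 1 ∧ ab ∈ S.map (QuotientGroup.mk' Z) ⊓ Subgroup.center (E ⧸ Z) := by
    have h := Cfsg.Agent.Solv.inf_center_ne_bot (S.map (QuotientGroup.mk' Z)) hSbar
    obtain ⟨x, hx, hx1⟩ := Subgroup.bot_or_exists_ne_one _ |>.resolve_left h
    exact ⟨x, hx1, hx⟩
  obtain ⟨⟨a, haS, rfl⟩, hac⟩ := Subgroup.mem_inf.1 hab
  have haC : a ∉ Subgroup.centralizer (S : Set E) := fun h =>
    hab1 ((QuotientGroup.eq_one_iff a).2 (Subgroup.mem_inf.2 ⟨haS, h⟩))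
  have hcomm : ∀ x, x * a * x⁻¹ * a⁻¹ ∈ Z := by
    intro x
    rw [← QuotientGroup.eq_one_iff (N := Z)]
    have := Subgroup.mem_center_iff.1 hac (QuotientGroup.mk' Z x)
    simp only [QuotientGroup.mk'_apply] at this
    simp only [QuotientGroup.mk_mul, QuotientGroup.mk_inv]
    rw [this]; group
  have hZc : ∀ c ∈ Z, c * a = a * c := fun c hc =>
    (Subgroup.mem_centralizer_iff.1 (Subgroup.mem_inf.1 hc).2 a haS).symm
  have hconj : ∀ x, ∃ c ∈ Z, x * a * x⁻¹ = c * a := fun x => ⟨_, hcomm x, by group⟩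
  have hc2c : ∀ c ∈ Z, c * c = 1 ∨ c * c = z := fun c hc => hinv _ (mul_mem hc hc) (hsq4 c)
  have hzx : ∀ x : E, x * z * x⁻¹ = z := fun x => by rw [Subgroup.mem_center_iff.1 hz x]; group
  have haa : a * a ∈ Z := by
    refine Subgroup.mem_inf.2 ⟨mul_mem haS haS, ?_⟩
    rw [hSdef, Subgroup.centralizer_closure]
    refine Subgroup.mem_centralizer_iff.2 ?_
    rintro _ ⟨x, rfl⟩
    obtain ⟨c, hc, hxa⟩ := hconj x
    have hx2 : x * (a * a) * x⁻¹ = c * c * (a * a) := by
      calc x * (a * a) * x⁻¹ = (x * a * x⁻¹) * (x * a * x⁻¹) := by group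
        _ = c * (a * c) * a := by rw [hxa]; group
        _ = _ := by rw [← hZc c hc]; group
    have hfix : x * (c * c) * x⁻¹ = c * c ∧ c * c * (c * c) = 1 := by
      refine ⟨?_, hsq4 c⟩
      rcases hc2c c hc with e | e <;> rw [e]
      · group
      · exact hzx x
    have : x * x * (a * a) * (x * x)⁻¹ = a * a := by
      calc x * x * (a * a) * (x * x)⁻¹ = x * (x * (a * a) * x⁻¹) * x⁻¹ := by group
        _ = x * (c * c * (a * a)) * x⁻¹ := by rw [hx2]
        _ = x * (c * c) * x⁻¹ * (x * (a * a) * x⁻¹) := by group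
        _ = c * c * (c * c) * (a * a) := by rw [hfix.1, hx2]; group
        _ = _ := by rw [hfix.2, one_mul]
    exact mul_inv_eq_iff_eq_mul.1 this
  refine haC ?_
  rw [hSdef, Subgroup.centralizer_closure]
  refine Subgroup.mem_centralizer_iff.2 ?_
  rintro _ ⟨x, rfl⟩
  obtain ⟨c, hc, hxa⟩ := hconj x
  have hc2 : c * c = 1 := by
    have hx2 : x * (a * a) * x⁻¹ = c * c * (a * a) := by
      calc x * (a * a) * x⁻¹ = (x * a * x⁻¹) * (x * a * x⁻¹) := by group
        _ = c * (a * c) * a := by rw [hxa]; group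
        _ = _ := by rw [← hZc c hc]; group
    have hfix : x * (a * a) * x⁻¹ = a * a := by
      rcases hinv _ haa (hsq4 a) with e | e <;> rw [e]
      · group
      · exact hzx x
    rw [hfix] at hx2
    exact mul_eq_right.1 hx2.symm
  have hfix : x * c * x⁻¹ = c := by
    rcases hinv c hc hc2 with e | e <;> rw [e]
    · group
    · exact hzx x
  have : x * x * a * (x * x)⁻¹ = a := by
    calc x * x * a * (x * x)⁻¹ = x * (x * a * x⁻¹) * x⁻¹ := by group
      _ = x * (c * a) * x⁻¹ := by rw [hxa]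
      _ = x * c * x⁻¹ * (x * a * x⁻¹) := by group
      _ = c * c * a := by rw [hfix, hxa]; group
      _ = a := by rw [hc2, one_mul]
  exact mul_inv_eq_iff_eq_mul.1 this

structure Datum {G : Type*} [Group G] (Q : Subgroup G) (z : G) : Prop where
  mem : z ∈ Q
  sq1 : z * z = 1
  ne1 : z ≠ 1
  comm : ∀ x ∈ Q, x * z = z * x
  norm : ∀ c : G, c * z = z * c → ∀ x ∈ Q, c * x * c⁻¹ ∈ Q
  sq : ∀ x ∈ Q, x * x = 1 ∨ x * x = z
  cen : ∀ x ∈ Q, (∀ y ∈ Q, x * y = y * x) → x * x = 1 → x = 1 ∨ x = z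
  self : ∀ c : G, c * z = z * c → (∀ x ∈ Q, x * c = c * x) → c ∈ Q

variable {G : Type*} [Group G]

theorem Datum.map {Q : Subgroup G} {z : G} (D : Datum Q z) (g : G) :
    Datum (Q.map (MulAut.conj g).toMonoidHom) (g * z * g⁻¹) := by
  set f := MulAut.conj g with hf
  have hfz : f z = g * z * g⁻¹ := rfl
  rw [← hfz]
  have hmem : ∀ x, x ∈ Q.map f.toMonoidHom ↔ f.symm x ∈ Q := fun x => by
    exact Subgroup.mem_map_equiv
  have hcm : ∀ x y : G, x * y = y * x → f x * f y = f y * f x := fun x y h => by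
    rw [← map_mul, h, map_mul]
  have hsm : ∀ x y : G, x * y = y * x → f.symm x * f.symm y = f.symm y * f.symm x := fun x y h => by
    rw [← map_mul, h, map_mul]
  constructor
  · exact ⟨z, D.mem, rfl⟩
  · rw [← map_mul, D.sq1, map_one]
  · exact fun h => D.ne1 (f.injective (h.trans (map_one f).symm))
  · rintro _ ⟨x, hx, rfl⟩
    exact hcm _ _ (D.comm x hx)
  · intro c hc x hx
    rw [hmem] at hx ⊢
    rw [map_mul, map_mul, map_inv]
    refine D.norm _ ?_ _ hx
    simpa using hsm _ _ hc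
  · rintro _ ⟨x, hx, rfl⟩
    rcases D.sq x hx with h | h
    · left; show f x * f x = 1; rw [← map_mul, h, map_one]
    · right; show f x * f x = f z; rw [← map_mul, h]
  · rintro _ ⟨x, hx, rfl⟩ hcomm h2
    have h2' : f x * f x = 1 := h2
    rw [← map_mul, ← map_one f] at h2'
    rcases D.cen x hx (fun y hy => f.injective (by
      rw [map_mul, map_mul]; exact hcomm (f y) ⟨y, hy, rfl⟩)) (f.injective h2') with h | h
    · left; show f x = 1; rw [h, map_one]
    · right; show f x = f z; rw [h]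
  · intro c hc hcQ
    rw [hmem]
    refine D.self _ (by simpa using hsm _ _ hc) fun x hx => ?_
    simpa using hsm _ _ (hcQ (f x) ⟨x, hx, rfl⟩)

theorem moves {Q : Subgroup G} {z : G} (D : Datum Q z) {y : G} (hy : y ∈ Q) (hy2 : y * y = 1)
    (hy1 : y ≠ 1) (hne : y ≠ z) : ∃ q ∈ Q, q * y * q⁻¹ = z * y := by
  by_contra h
  push Not at h
  have hc : ∀ x ∈ Q, y * x = x * y := by
    intro x hx
    rcases comm_of_sq Q z D.comm D.sq1 D.sq x y hx hy with e | e
    · exact e.symm
    · exact absurd (by rw [e]; group) (h x hx)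
  rcases D.cen y hy hc hy2 with e | e
  · exact hy1 e
  · exact hne e

theorem split {Q : Subgroup G} {z : G} (D : Datum Q z) {y q : G} (hy : y ∈ Q) (hqQ : q ∈ Q)
    (hq : q * y * q⁻¹ = z * y) (x : G) (hx : x ∈ Q) :
    x * y = y * x ∨ ∃ a ∈ Q, a * y = y * a ∧ x = q * a := by
  rcases comm_of_sq Q z D.comm D.sq1 D.sq x y hx hy with e | e
  · exact Or.inl e
  refine Or.inr ⟨q⁻¹ * x, mul_mem (inv_mem hqQ) hx, ?_, by group⟩
  calc q⁻¹ * x * y = q⁻¹ * (z * y) * x := by rw [mul_assoc, e]; group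
    _ = q⁻¹ * (q * y * q⁻¹) * x := by rw [hq]
    _ = _ := by group

theorem small {Q : Subgroup G} {z : G} (D : Datum Q z) {y q : G} (hy : y ∈ Q) (hy2 : y * y = 1)
    (hqQ : q ∈ Q) (hq : q * y * q⁻¹ = z * y) (d : G) (hd : d ∈ Q)
    (hdc : ∀ a ∈ Q, a * y = y * a → d * a = a * d) (hd2 : d * d = 1) :
    d = 1 ∨ d = z ∨ d = y ∨ d = z * y := by
  have hdy : d * y = y * d := hdc y hy rfl
  have hcentral : ∀ e ∈ Q, (∀ a ∈ Q, a * y = y * a → e * a = a * e) → e * q = q * e → e * e = 1 →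
      e = 1 ∨ e = z := by
    intro e he hec heq he2
    refine D.cen e he (fun x hx => ?_) he2
    rcases split D hy hqQ hq x hx with h | ⟨a, ha, hay, rfl⟩
    · exact hec x hx h
    · rw [← mul_assoc, heq, mul_assoc, hec a ha hay, ← mul_assoc]
  rcases comm_of_sq Q z D.comm D.sq1 D.sq d q hd hqQ with h | h
  · rcases hcentral d hd hdc h hd2 with e | e
    · exact Or.inl e
    · exact Or.inr (Or.inl e)
  have hyq : y * q = z * (q * y) := by
    calc y * q = z * z * (y * q) := by rw [D.sq1, one_mul]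
      _ = z * ((z * y) * q) := by group
      _ = z * ((q * y * q⁻¹) * q) := by rw [hq]
      _ = _ := by group
  have h' : d * y * q = q * (d * y) := by
    calc d * y * q = d * z * (q * y) := by rw [mul_assoc, hyq]; group
      _ = z * (d * q) * y := by rw [D.comm d hd]; group
      _ = z * z * (q * d * y) := by rw [h]; group
      _ = _ := by rw [D.sq1]; group
  rcases hcentral (d * y) (mul_mem hd hy) (fun a ha hay => by
      rw [mul_assoc, ← hay, ← mul_assoc, hdc a ha hay, mul_assoc]) h'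
      (by rw [show d * y * (d * y) = d * (y * d) * y by group, ← hdy,
        show d * (d * y) * y = d * d * (y * y) by group, hd2, hy2, one_mul]) with e | e
  · refine Or.inr (Or.inr (Or.inl ?_))
    calc d = d * y * y := by rw [mul_assoc, hy2, mul_one]
      _ = y := by rw [e, one_mul]
  · refine Or.inr (Or.inr (Or.inr ?_))
    calc d = d * y * y := by rw [mul_assoc, hy2, mul_one]
      _ = _ := by rw [e]

theorem key (Q Q' : Subgroup G) (z y : G) (D : Datum Q z) (D' : Datum Q' y) (hy : y ∈ Q) (hne : y ≠ z)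
    (hQ' : ∀ h : G, h * z * h⁻¹ = y → ∀ x ∈ Q, h * x * h⁻¹ ∈ Q') : z ∈ Q' := by
  classical
  by_contra hzn
  have hz2 := D.sq1
  have hy2 := D'.sq1
  have hzi : z⁻¹ = z := inv_eq_of_mul_eq_one_right hz2
  have hzy : z * y = y * z := (D.comm y hy).symm
  obtain ⟨q, hqQ, hq⟩ := moves D hy hy2 D'.ne1 hne
  have hqz : q * z * q⁻¹ = z := by rw [D.comm q hqQ]; group
  have hzyn : z * y ∉ Q' := fun h => hzn (by
    have := mul_mem h D'.mem
    rwa [mul_assoc, hy2, mul_one] at this)
  have hno : ∀ r ∈ Q', r * z * r⁻¹ ≠ y * z := by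
    intro r hr e
    have hry : r * y * r⁻¹ = y := by rw [D'.comm r hr]; group
    have h1 : q * r * z * (q * r)⁻¹ = y := by
      calc q * r * z * (q * r)⁻¹ = q * (r * z * r⁻¹) * q⁻¹ := by group
        _ = (q * y * q⁻¹) * (q * z * q⁻¹) := by rw [e]; group
        _ = z * (y * z) := by rw [hq, hqz]; group
        _ = _ := by rw [← hzy, ← mul_assoc, hz2, one_mul]
    have h2 := hQ' _ h1 y hy
    rw [show q * r * y * (q * r)⁻¹ = q * (r * y * r⁻¹) * q⁻¹ by group, hry, hq] at h2
    exact hzyn h2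
  -- commutators with `z`
  have hwQ : ∀ v ∈ Q', z * v * z * v⁻¹ ∈ Q' := fun v hv => by
    have := D'.norm z hzy v hv
    rw [hzi] at this
    exact mul_mem this (inv_mem hv)
  have hR : ∀ v ∈ Q', (z * v * z * v⁻¹ = 1 ∨ z * v * z * v⁻¹ = y) → v * z = z * v := by
    intro v hv h
    rcases h with h | h
    · calc v * z = z * z * (v * z) := by rw [hz2, one_mul]
        _ = z * (z * v * z * v⁻¹) * v := by group
        _ = _ := by rw [h, mul_one]
    · exfalso
      apply hno v hv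
      calc v * z * v⁻¹ = z * z * (v * z * v⁻¹) := by rw [hz2, one_mul]
        _ = z * (z * v * z * v⁻¹) := by group
        _ = _ := by rw [h, hzy]
  have hw : ∀ v ∈ Q', (z * v * z * v⁻¹) * z = z * (z * v * z * v⁻¹) ∧
      (z * v * z * v⁻¹) * (z * v * z * v⁻¹) = 1 := by
    intro v hv
    have hm := hwQ v hv
    have e : z * (z * v * z * v⁻¹) * z = (z * v * z * v⁻¹)⁻¹ := by
      calc z * (z * v * z * v⁻¹) * z = z * z * (v * z * v⁻¹) * z := by group
        _ = v * z⁻¹ * v⁻¹ * z⁻¹ := by rw [hz2, one_mul, hzi]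
        _ = _ := by group
    generalize z * v * z * v⁻¹ = w at hm e ⊢
    have hc : z * w * z * w⁻¹ = (w * w)⁻¹ := by rw [e]; group
    have hcw : w * z = z * w := by
      refine hR w hm ?_
      rw [hc]
      rcases D'.sq w hm with h | h <;> rw [h]
      · exact Or.inl inv_one
      · exact Or.inr (inv_eq_of_mul_eq_one_right hy2)
    refine ⟨hcw, ?_⟩
    have : z * w * z * w⁻¹ = 1 := by rw [mul_assoc z w z, hcw, ← mul_assoc, hz2]; group
    rw [hc] at this
    exact inv_eq_one.1 this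
  -- `Q ∩ Q'`
  have hD : ∀ d ∈ Q, d ∈ Q' → d = 1 ∨ d = y := by
    intro d hd hd'
    have hdc : ∀ a ∈ Q, a * y = y * a → d * a = a * d := by
      intro a ha hay
      rcases comm_of_sq Q z D.comm hz2 D.sq d a hd ha with h | h
      · exact h
      exfalso
      apply hzn
      have : z = d * (a * d⁻¹ * a⁻¹) := by
        calc z = z * (a * d) * (a * d)⁻¹ := by group
          _ = d * a * (a * d)⁻¹ := by rw [h]
          _ = _ := by group
      rw [this]
      exact mul_mem hd' (D'.norm a hay _ (inv_mem hd'))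
    have hd2 : d * d = 1 := (D.sq d hd).resolve_right fun h => hzn (h ▸ mul_mem hd' hd')
    rcases small D hy hy2 hqQ hq d hd hdc hd2 with e | e | e | e
    · exact Or.inl e
    · exact absurd (e ▸ hd') hzn
    · exact Or.inr e
    · exact absurd (e ▸ hd') hzyn
  have hy01 : ∀ u v : G, (u = 1 ∨ u = y) → (v = 1 ∨ v = y) → (u * v = 1 ∨ u * v = y) := by
    rintro u v (rfl | rfl) (rfl | rfl) <;> simp [hy2]
  have hyv : ∀ v ∈ Q', v * y = y * v := D'.comm
  have ha1 : ∀ a ∈ Q, a * y = y * a → ∀ r ∈ Q', r * z = z * r →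
      a * r * a⁻¹ * r⁻¹ = 1 ∨ a * r * a⁻¹ * r⁻¹ = y := by
    intro a ha hay r hr hrz
    refine hD _ ?_ (mul_mem (D'.norm a hay r hr) (inv_mem hr))
    rw [show a * r * a⁻¹ * r⁻¹ = a * (r * a⁻¹ * r⁻¹) by group]
    exact mul_mem ha (D.norm r hrz _ (inv_mem ha))
  have ha2 : ∀ a ∈ Q, a * y = y * a → ∀ v ∈ Q',
      a * a * v * (a * a)⁻¹ * v⁻¹ = 1 ∨ a * a * v * (a * a)⁻¹ * v⁻¹ = y := by
    intro a ha hay v hv
    obtain ⟨x, hxdef⟩ : ∃ x, x = a * v * a⁻¹ * v⁻¹ := ⟨_, rfl⟩
    have hx : x ∈ Q' := hxdef ▸ mul_mem (D'.norm a hay v hv) (inv_mem hv)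
    obtain ⟨w, hwdef⟩ : ∃ w, w = z * v * z * v⁻¹ := ⟨_, rfl⟩
    have hwm : w ∈ Q' := hwdef ▸ hwQ v hv
    have hwz : w * z = z * w := hwdef ▸ (hw v hv).1
    have haz : a * z = z * a := D.comm a ha
    have he := ha1 a ha hay w hwm hwz
    have hf : w * x * w⁻¹ * x⁻¹ = 1 ∨ w * x * w⁻¹ * x⁻¹ = y := by
      rcases comm_of_sq Q' y D'.comm hy2 D'.sq w x hwm hx with h | h <;> rw [h]
      · exact Or.inl (by group)
      · exact Or.inr (by group)
    have hzai : z * a⁻¹ = a⁻¹ * z := by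
      calc z * a⁻¹ = a⁻¹ * (a * z) * a⁻¹ := by group
        _ = a⁻¹ * z := by rw [haz]; group
    have h1 : z * (a * v * a⁻¹) * z = (a * w * a⁻¹) * (a * v * a⁻¹) := by
      calc z * (a * v * a⁻¹) * z = (z * a) * v * (a⁻¹ * z) := by group
        _ = a * (z * v * z * v⁻¹) * v * a⁻¹ := by rw [← haz, ← hzai]; group
        _ = _ := by rw [← hwdef]; group
    have h2 : z * x * z * x⁻¹ = (a * w * a⁻¹ * w⁻¹) * (w * x * w⁻¹ * x⁻¹) := by
      have e1 : z * x * z * (z * v * z) = (a * w * a⁻¹) * x * v := by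
        calc z * x * z * (z * v * z) = z * (x * v) * z := by
              rw [show z * x * z * (z * v * z) = z * x * (z * z) * v * z by group, hz2]; group
          _ = _ := by rw [hxdef, show a * v * a⁻¹ * v⁻¹ * v = a * v * a⁻¹ by group, h1]; group
      rw [show z * v * z = w * v by rw [hwdef]; group] at e1
      calc z * x * z * x⁻¹ = z * x * z * (w * v) * (w * v)⁻¹ * x⁻¹ := by group
        _ = a * w * a⁻¹ * x * v * (w * v)⁻¹ * x⁻¹ := by rw [e1]
        _ = _ := by group
    have hxz : x * z = z * x := hR x hx (by rw [h2]; exact hy01 _ _ he hf)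
    have h3 : a * a * v * (a * a)⁻¹ * v⁻¹ = (a * x * a⁻¹ * x⁻¹) * (x * x) := by
      rw [hxdef]; group
    rw [h3]
    exact hy01 _ _ (ha1 a ha hay x hx hxz) (D'.sq x hx)
  obtain ⟨v, hv, hvz⟩ : ∃ v ∈ Q', ¬ v * z = z * v := by
    by_contra h
    push Not at h
    exact hzn (D'.self z hzy h)
  by_cases hroot : ∃ a ∈ Q, a * y = y * a ∧ a * a = z
  · obtain ⟨a, ha, hay, haa⟩ := hroot
    refine hvz (hR v hv ?_)
    have := ha2 a ha hay v hv
    rwa [haa, hzi] at this
  push Not at hroot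
  have hC2 : ∀ a ∈ Q, a * y = y * a → a * a = 1 := fun a ha hay =>
    (D.sq a ha).resolve_right (hroot a ha hay)
  have hCsmall : ∀ a ∈ Q, a * y = y * a → a = 1 ∨ a = z ∨ a = y ∨ a = z * y := by
    intro a ha hay
    refine small D hy hy2 hqQ hq a ha (fun b hb hby => ?_) (hC2 a ha hay)
    have h := hC2 (a * b) (mul_mem ha hb) (by rw [mul_assoc, hby, ← mul_assoc, hay, mul_assoc])
    have e1 : a⁻¹ = a := inv_eq_of_mul_eq_one_right (hC2 a ha hay)
    have e2 : b⁻¹ = b := inv_eq_of_mul_eq_one_right (hC2 b hb hby)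
    rw [← inv_eq_of_mul_eq_one_right h, mul_inv_rev, e1, e2]
  obtain ⟨w, hwdef⟩ : ∃ w, w = z * v * z * v⁻¹ := ⟨_, rfl⟩
  have hwm : w ∈ Q' := hwdef ▸ hwQ v hv
  have hwz : w * z = z * w := hwdef ▸ (hw v hv).1
  have hw2 : w * w = 1 := hwdef ▸ (hw v hv).2
  have hwn : ¬ (w = 1 ∨ w = y) := fun h => hvz (hR v hv (hwdef ▸ h))
  have hwi : w⁻¹ = w := inv_eq_of_mul_eq_one_right hw2
  obtain ⟨q', hq'def⟩ : ∃ q', q' = w * q * w⁻¹ := ⟨_, rfl⟩
  have hq'Q : q' ∈ Q := hq'def ▸ D.norm w hwz q hqQ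
  have hwy : w * y * w⁻¹ = y := by rw [hyv w hwm]; group
  have hwzc : w * z * w⁻¹ = z := by rw [hwz]; group
  have hq'y : q' * y * q'⁻¹ = z * y := by
    calc q' * y * q'⁻¹ = w * (q * (w⁻¹ * y * w) * q⁻¹) * w⁻¹ := by rw [hq'def]; group
      _ = w * (q * (w * y * w⁻¹) * q⁻¹) * w⁻¹ := by rw [hwi]
      _ = w * (z * y) * w⁻¹ := by rw [hwy, hq]
      _ = (w * z * w⁻¹) * (w * y * w⁻¹) := by group
      _ = _ := by rw [hwzc, hwy]
  have hay : q⁻¹ * q' * y = y * (q⁻¹ * q') := by
    calc q⁻¹ * q' * y = q⁻¹ * (q' * y * q'⁻¹) * q' := by group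
      _ = q⁻¹ * (q * y * q⁻¹) * q' := by rw [hq'y, hq]
      _ = _ := by group
  have hfin : ∀ u ∈ Q', u * z = z * u → u * q = q * u → u = 1 ∨ u = y := by
    intro u hu huz huq
    refine hD u (D.self u huz fun x hx => ?_) hu
    have hC : ∀ a ∈ Q, a * y = y * a → a * u = u * a := by
      intro a ha hay'
      rcases hCsmall a ha hay' with e | e | e | e <;> rw [e]
      · simp
      · exact huz.symm
      · exact (hyv u hu).symm
      · rw [mul_assoc, ← hyv u hu, ← mul_assoc, ← huz, mul_assoc]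
    rcases split D hy hqQ hq x hx with h | ⟨a, ha, hay', rfl⟩
    · exact hC x hx h
    · rw [mul_assoc, hC a ha hay', ← mul_assoc, ← huq, mul_assoc]
  have hyq : y * q = z * (q * y) := by
    calc y * q = z * z * (y * q) := by rw [hz2, one_mul]
      _ = z * ((z * y) * q) := by group
      _ = z * ((q * y * q⁻¹) * q) := by rw [hq]
      _ = _ := by group
  have hsqq : (q' * q') = q * q := by
    have : q' * q' = w * (q * q) * w⁻¹ := by rw [hq'def]; group
    rw [this]
    rcases D.sq q hqQ with e | e <;> rw [e]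
    · group
    · exact hwzc
  have hqy : q * y * (q * y) = z * (q * q) := by
    calc q * y * (q * y) = q * (y * q) * y := by group
      _ = (q * z) * q * (y * y) := by rw [hyq]; group
      _ = _ := by rw [D.comm q hqQ, hy2]; group
  have hz' : z * (q * q) ≠ q * q := fun e => D.ne1 (mul_eq_right.1 e)
  rcases hCsmall _ (mul_mem (inv_mem hqQ) hq'Q) hay with e | e | e | e
  · apply hwn
    refine hfin w hwm hwz ?_
    have : q' = q := (inv_mul_eq_one.1 e).symm
    rw [hq'def] at this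
    exact mul_inv_eq_iff_eq_mul.1 this
  · have hwq : w * q = z * (q * w) := by
      calc w * q = q' * w := by rw [hq'def]; group
        _ = q * (q⁻¹ * q') * w := by group
        _ = (q * z) * w := by rw [e]
        _ = _ := by rw [D.comm q hqQ, mul_assoc]
    rcases hfin (w * y) (mul_mem hwm D'.mem)
        (by rw [mul_assoc, ← hzy, ← mul_assoc, hwz, mul_assoc]) (by
        calc w * y * q = w * (z * (q * y)) := by rw [mul_assoc, hyq]
          _ = z * (w * q) * y := by rw [← mul_assoc, hwz]; group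
          _ = z * z * (q * (w * y)) := by rw [hwq]; group
          _ = _ := by rw [hz2, one_mul]) with h | h
    · refine hwn (Or.inr ?_)
      calc w = w * y * y := by rw [mul_assoc, hy2, mul_one]
        _ = y := by rw [h, one_mul]
    · refine hwn (Or.inl ?_)
      calc w = w * y * y := by rw [mul_assoc, hy2, mul_one]
        _ = 1 := by rw [h, hy2]
  · have : q' = q * y := by rw [← e]; group
    rw [this, hqy] at hsqq
    exact hz' hsqq
  · have : q' = z * (q * y) := by
      rw [← mul_assoc, ← D.comm q hqQ, mul_assoc, ← e]; group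
    rw [this] at hsqq
    apply hz'
    rw [← hqy]
    calc q * y * (q * y) = z * z * (q * y * (q * y)) := by rw [hz2, one_mul]
      _ = z * (z * (q * y)) * (q * y) := by group
      _ = z * (q * y * z) * (q * y) := by rw [D.comm (q * y) (mul_mem hqQ hy)]
      _ = z * (q * y) * (z * (q * y)) := by group
      _ = _ := hsqq

theorem main (Q : Subgroup G) (z g : G) (D : Datum Q z) (hne : g * z * g⁻¹ ≠ z) (hin : g * z * g⁻¹ ∈ Q) :
    z ∈ Q.map (MulAut.conj g).toMonoidHom ∧
      ∀ u ∈ Subgroup.closure ({z, g * z * g⁻¹} : Set G), ∀ v ∈ Subgroup.closure ({z, g * z * g⁻¹} : Set G),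
        u ≠ 1 → v ≠ 1 → u ≠ v →
          ∃ x ∈ Q ⊔ Q.map (MulAut.conj g).toMonoidHom, x * z * x⁻¹ = u ∧ x * (g * z * g⁻¹) * x⁻¹ = v := by
  classical
  have D' := D.map g
  have hzQ' : z ∈ Q.map (MulAut.conj g).toMonoidHom := by
    refine key Q _ z _ D D' hin hne fun h hh x hx => ?_
    refine ⟨g⁻¹ * h * x * (g⁻¹ * h)⁻¹, D.norm (g⁻¹ * h) ?_ x hx, ?_⟩
    · calc g⁻¹ * h * z = g⁻¹ * (h * z * h⁻¹) * h := by group
        _ = _ := by rw [hh]; group
    · show g * (g⁻¹ * h * x * (g⁻¹ * h)⁻¹) * g⁻¹ = h * x * h⁻¹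
      group
  refine ⟨hzQ', ?_⟩
  generalize hy : g * z * g⁻¹ = y at *
  set Q' := Q.map (MulAut.conj g).toMonoidHom
  have hz2 := D.sq1
  have hy2 := D'.sq1
  have hzy : z * y = y * z := (D.comm y hin).symm
  obtain ⟨q, hqQ, hq⟩ := moves D hin hy2 D'.ne1 hne
  obtain ⟨r, hrQ, hr⟩ := moves D' hzQ' hz2 D.ne1 (Ne.symm hne)
  have hqz : q * z * q⁻¹ = z := by rw [D.comm q hqQ]; group
  have hry : r * y * r⁻¹ = y := by rw [D'.comm r hrQ]; group
  rw [← hzy] at hr
  have hzi : z⁻¹ = z := inv_eq_of_mul_eq_one_right hz2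
  have hyi : y⁻¹ = y := inv_eq_of_mul_eq_one_right hy2
  let W : Subgroup G :=
    { carrier := {1, z, y, z * y}
      one_mem' := Or.inl rfl
      mul_mem' := by
        have h1 : ∀ x, z * (z * x) = x := fun x => by rw [← mul_assoc, hz2, one_mul]
        have h2 : ∀ x, y * (z * x) = z * (y * x) := fun x => by rw [← mul_assoc, ← hzy, mul_assoc]
        rintro a b (rfl | rfl | rfl | rfl) (rfl | rfl | rfl | rfl) <;>
          simp [mul_assoc, hz2, hy2, h1, h2, hzy.symm]
      inv_mem' := by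
        rintro a (rfl | rfl | rfl | rfl) <;> simp [hzi, hyi, hzy.symm] }
  have hW : Subgroup.closure ({z, y} : Set G) ≤ W := by
    rw [Subgroup.closure_le]
    rintro x (rfl | rfl)
    · exact Or.inr (Or.inl rfl)
    · exact Or.inr (Or.inr (Or.inl rfl))
  have cq : ∀ x a : G, q * x * a * (q * x)⁻¹ = q * (x * a * x⁻¹) * q⁻¹ := fun x a => by group
  have cr : ∀ x a : G, r * x * a * (r * x)⁻¹ = r * (x * a * x⁻¹) * r⁻¹ := fun x a => by group
  have cm : ∀ x a b : G, x * (a * b) * x⁻¹ = (x * a * x⁻¹) * (x * b * x⁻¹) := fun x a b => by group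
  have hq1 : q * (z * y) * q⁻¹ = y := by rw [cm, hqz, hq, ← mul_assoc, hz2, one_mul]
  have hr1 : r * (z * y) * r⁻¹ = z := by rw [cm, hr, hry, mul_assoc, hy2, mul_one]
  have q2 := Subgroup.mem_sup_left (T := Q') hqQ
  have r2 := Subgroup.mem_sup_right (S := Q) hrQ
  have cqrq : ∀ a : G, q * r * q * a * (q * r * q)⁻¹ = q * r * (q * a * q⁻¹) * (q * r)⁻¹ := fun a => by group
  have h10 : (1 : G) * z * 1⁻¹ = z := by simp
  have h11 : (1 : G) * y * 1⁻¹ = y := by simp
  have e1 : q * r * z * (q * r)⁻¹ = y := by rw [cq, hr, hq1]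
  have e2 : q * r * y * (q * r)⁻¹ = z * y := by rw [cq, hry, hq]
  have e3 : r * q * z * (r * q)⁻¹ = z * y := by rw [cr, hqz, hr]
  have e4 : r * q * y * (r * q)⁻¹ = z := by rw [cr, hq, hr1]
  have e5 : q * r * q * z * (q * r * q)⁻¹ = y := by rw [cqrq, hqz, e1]
  have e6 : q * r * q * y * (q * r * q)⁻¹ = z := by rw [cqrq, hq, cq, hr1, hqz]
  intro u hu v hv hu1 hv1 huv
  rcases hW hu with rfl | rfl | rfl | rfl
  · exact absurd rfl hu1
  all_goals rcases hW hv with rfl | rfl | rfl | rfl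
  all_goals first
    | exact absurd rfl hv1
    | exact absurd rfl huv
    | exact ⟨1, one_mem _, h10, h11⟩
    | exact ⟨q, q2, hqz, hq⟩
    | exact ⟨r, r2, hr, hry⟩
    | exact ⟨q * r, mul_mem q2 r2, e1, e2⟩
    | exact ⟨r * q, mul_mem r2 q2, e3, e4⟩
    | exact ⟨q * r * q, mul_mem (mul_mem q2 r2) q2, e5, e6⟩


/-- Let G be a finite group and let z be an involution of G such that Q, the generalized Fitting subgroup of the centralizer C of z, is a 2-group of symplectic type (every characteristic abelian subgroup of Q is cyclic); suppose every element of Q has order dividing 4. Let g ∈ G with z' = g z g⁻¹ ≠ z and z' ∈ Q. Then z lies in the conjugate g Q g⁻¹, and the subgroup X generated by Q and g Q g⁻¹ induces every automorphism of the four-group generated by z and z': for any two distinct non-identity elements u, v of that four-group there is x ∈ X with x z x⁻¹ = u and x z' x⁻¹ = v. -/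
theorem result {G : Type*} [Group G] [Finite G] (z : G) (hz : orderOf z = 2) (hQ : Cfsg.IsOfSymplecticType ↥(Cfsg.generalizedFittingSubgroup ↥(Subgroup.centralizer ({z} : Set G))))
    (h4 : ∀ q ∈ (Cfsg.generalizedFittingSubgroup ↥(Subgroup.centralizer ({z} : Set G))).map (Subgroup.centralizer ({z} : Set G)).subtype, q ^ 4 = 1) (g : G) (hne : g * z * g⁻¹ ≠ z) (hin : g * z * g⁻¹ ∈ (Cfsg.generalizedFittingSubgroup ↥(Subgroup.centralizer ({z} : Set G))).map (Subgroup.centralizer ({z} : Set G)).subtype) :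
    z ∈ ((Cfsg.generalizedFittingSubgroup ↥(Subgroup.centralizer ({z} : Set G))).map (Subgroup.centralizer ({z} : Set G)).subtype).map (MulAut.conj g).toMonoidHom ∧
      ∀ u ∈ Subgroup.closure ({z, g * z * g⁻¹} : Set G), ∀ v ∈ Subgroup.closure ({z, g * z * g⁻¹} : Set G),
        u ≠ 1 → v ≠ 1 → u ≠ v →
          ∃ x ∈ (Cfsg.generalizedFittingSubgroup ↥(Subgroup.centralizer ({z} : Set G))).map (Subgroup.centralizer ({z} : Set G)).subtype ⊔ ((Cfsg.generalizedFittingSubgroup ↥(Subgroup.centralizer ({z} : Set G))).map (Subgroup.centralizer ({z} : Set G)).subtype).map (MulAut.conj g).toMonoidHom, x * z * x⁻¹ = u ∧ x * (g * z * g⁻¹) * x⁻¹ = v := by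
  skip
  classical
  obtain ⟨hQp, hQc⟩ := hQ
  haveI hFn : (Cfsg.generalizedFittingSubgroup ↥(Subgroup.centralizer ({z} : Set G))).Normal :=
    Cfsg.Agent.Local.FStarAction.gfit_normal
  have hzC : z ∈ (Subgroup.centralizer ({z} : Set G)) := Subgroup.mem_centralizer_singleton_iff.2 rfl
  have hzcent : ∀ c : (Subgroup.centralizer ({z} : Set G)), c * ⟨z, hzC⟩ = ⟨z, hzC⟩ * c := fun c =>
    Subtype.ext (Subgroup.mem_centralizer_singleton_iff.1 c.2)
  have hzQ : (⟨z, hzC⟩ : ↥(Subgroup.centralizer ({z} : Set G))) ∈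
      Cfsg.generalizedFittingSubgroup ↥(Subgroup.centralizer ({z} : Set G)) := by
    have hn : (Subgroup.zpowers (⟨z, hzC⟩ : ↥(Subgroup.centralizer ({z} : Set G)))).Normal := by
      refine ⟨fun x hx c => ?_⟩
      obtain ⟨i, rfl⟩ := Subgroup.mem_zpowers_iff.1 hx
      exact Subgroup.mem_zpowers_iff.2 ⟨i, by
        rw [((show Commute c ⟨z, hzC⟩ from hzcent c).zpow_right i).eq, mul_inv_cancel_right]⟩
    haveI : Fact (Nat.Prime 2) := ⟨Nat.prime_two⟩
    have hzn : Group.IsNilpotent ↥(Subgroup.zpowers (⟨z, hzC⟩ : ↥(Subgroup.centralizer ({z} : Set G)))) :=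
      (IsPGroup.of_card (p := 2) (n := 1) (by
        rw [Nat.card_zpowers, ← Subgroup.orderOf_coe, pow_one]; exact hz)).isNilpotent
    exact Subgroup.mem_sup_right ((le_sSup (show Subgroup.zpowers _ ∈
      {N : Subgroup ↥(Subgroup.centralizer ({z} : Set G)) | N.Normal ∧ Group.IsNilpotent N} from ⟨hn, hzn⟩))
      (Subgroup.mem_zpowers _))
  have hz2 : z * z = 1 := by
    have := pow_orderOf_eq_one z; rwa [hz, pow_two] at this
  have hz1 : z ≠ 1 := fun h => by rw [h, orderOf_one] at hz; omega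
  set Q : Subgroup G := (Cfsg.generalizedFittingSubgroup ↥(Subgroup.centralizer ({z} : Set G))).map
    (Subgroup.centralizer ({z} : Set G)).subtype with hQdef
  have hs := sympl hQp hQc ⟨⟨z, hzC⟩, hzQ⟩
    (Subgroup.mem_center_iff.2 fun q => Subtype.ext (hzcent q))
    (Subtype.ext (Subtype.ext hz2))
    (fun e => hz1 (congrArg (fun q : ↥(Cfsg.generalizedFittingSubgroup _) =>
      ((q : ↥(Subgroup.centralizer ({z} : Set G))) : G)) e))
    (fun q => Subtype.ext (Subtype.ext (h4 _ ⟨(q : ↥(Subgroup.centralizer ({z} : Set G))), q.2, rfl⟩)))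
  have D : Datum Q z := by
    refine ⟨⟨_, hzQ, rfl⟩, hz2, hz1, ?_, ?_, ?_, ?_, ?_⟩
    · rintro _ ⟨x, -, rfl⟩
      exact Subgroup.mem_centralizer_singleton_iff.1 x.2
    · rintro c hc _ ⟨x, hx, rfl⟩
      exact ⟨_, hFn.conj_mem x hx ⟨c, Subgroup.mem_centralizer_singleton_iff.2 hc⟩, rfl⟩
    · rintro _ ⟨x, hx, rfl⟩
      rcases hs.1 ⟨x, hx⟩ with e | e
      · exact Or.inl (congrArg (fun q : ↥(Cfsg.generalizedFittingSubgroup _) =>
          ((q : ↥(Subgroup.centralizer ({z} : Set G))) : G)) e)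
      · exact Or.inr (congrArg (fun q : ↥(Cfsg.generalizedFittingSubgroup _) =>
          ((q : ↥(Subgroup.centralizer ({z} : Set G))) : G)) e)
    · rintro _ ⟨x, hx, rfl⟩ hc h2
      rcases hs.2 ⟨x, hx⟩ (Subgroup.mem_center_iff.2 fun q => Subtype.ext (Subtype.ext
        (hc _ ⟨(q : ↥(Subgroup.centralizer ({z} : Set G))), q.2, rfl⟩).symm))
        (Subtype.ext (Subtype.ext h2)) with e | e
      · exact Or.inl (congrArg (fun q : ↥(Cfsg.generalizedFittingSubgroup _) =>
          ((q : ↥(Subgroup.centralizer ({z} : Set G))) : G)) e)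
      · exact Or.inr (congrArg (fun q : ↥(Cfsg.generalizedFittingSubgroup _) =>
          ((q : ↥(Subgroup.centralizer ({z} : Set G))) : G)) e)
    · intro c hc hcQ
      refine ⟨⟨c, Subgroup.mem_centralizer_singleton_iff.2 hc⟩,
        Cfsg.Agent.Local.centralizer_generalizedFitting_le ?_, rfl⟩
      exact Subgroup.mem_centralizer_iff.2 fun x hx => Subtype.ext (hcQ _ ⟨x, hx, rfl⟩)
  exact main Q z g D hne hin

end Cfsg.Agent.S1774
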