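import Cfsg.Statements.S1780
-- import your own Cfsg.Agent.* helpers here

set_option autoImplicit false
open Cfsg

namespace Cfsg.Agent.S1780


/-- Let A be a finite abelian 2-group and t an automorphism of A whose order is a power of 2. If every element of A fixed by t² is fixed by t, then t fixes every element of A. -/
theorem result {A : Type*} [CommGroup A] [Finite A]
    (hA : IsPGroup 2 A) (t : MulAut A) (ht : ∃ k : ℕ, orderOf t = 2 ^ k) (hC : ∀ a : A, t (t a) = a → t a = a) :
    ∀ a : A, t a = a := by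
  obtain ⟨k, hk⟩ := ht
  by_contra hcon
  push Not at hcon
  obtain ⟨a, ha⟩ := hcon
  set d : A →* A := ⟨⟨fun b => t b / b, by simp⟩, fun b c => by
    simp only [map_mul]; rw [div_mul_div_comm]⟩ with hd
  obtain ⟨e, he1, he2, f, hf⟩ : ∃ e : A, e ≠ 1 ∧ e * e = 1 ∧ ∃ f, t f / f = e := by
    have hne : d.range ≠ ⊥ := fun hb => ha (div_eq_one.1 (show d a = 1 from
      Subgroup.mem_bot.1 (hb ▸ ⟨a, rfl⟩)))
    have hdvd : 2 ∣ Nat.card d.range := by
      obtain ⟨m, hm⟩ := IsPGroup.iff_card.1 (hA.to_subgroup d.range)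
      rcases m with _ | m
      · exact absurd (Subgroup.eq_bot_of_card_eq _ (by simpa using hm)) hne
      · exact ⟨2 ^ m, by rw [hm, pow_succ']⟩
    haveI : Fact (Nat.Prime 2) := ⟨Nat.prime_two⟩
    obtain ⟨⟨e, f, hf⟩, he⟩ := exists_prime_orderOf_dvd_card' 2 hdvd
    rw [← Subgroup.orderOf_coe] at he
    refine ⟨e, fun h => by simp [show e = 1 from h] at he, ?_, f, hf⟩
    have := pow_orderOf_eq_one e
    rwa [show orderOf e = 2 from he, pow_two] at this
  have hcomm : ∀ (j : ℕ) (f : A), (t ^ j) (t f / f) = t ((t ^ j) f) / (t ^ j) f := fun j f => by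
    rw [map_div, ← MulAut.mul_apply, ← MulAut.mul_apply, ← pow_succ, ← pow_succ']
  have key : ∀ j, j ≤ k → ∃ e : A, e ≠ 1 ∧ e * e = 1 ∧ (∃ f, t f / f = e) ∧
      (t ^ (2 ^ (k - j))) e = e := by
    intro j
    induction j with
    | zero =>
      intro _
      refine ⟨e, he1, he2, ⟨f, hf⟩, ?_⟩
      rw [Nat.sub_zero, ← hk, pow_orderOf_eq_one]; rfl
    | succ j ih =>
      intro hj
      obtain ⟨e, he1, he2, ⟨f, hf⟩, hfix⟩ := ih (by omega)
      set s := t ^ (2 ^ (k - (j + 1))) with hs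
      have hss : s (s e) = e := by
        rw [← MulAut.mul_apply, hs, ← pow_add, ← two_mul, ← pow_succ']
        rwa [show k - (j + 1) + 1 = k - j by omega]
      by_cases h : s e = e
      · exact ⟨e, he1, he2, ⟨f, hf⟩, h⟩
      · refine ⟨s e * e, fun h1 => h ?_, ?_, ⟨s f * f, ?_⟩, ?_⟩
        · rw [eq_inv_of_mul_eq_one_left h1]; exact (eq_inv_of_mul_eq_one_left he2).symm
        · rw [mul_mul_mul_comm, ← map_mul, he2, map_one, one_mul]
        · rw [← hf, hs, hcomm, map_mul, mul_div_mul_comm]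
        · rw [map_mul, hss, mul_comm]
  obtain ⟨e, he1, he2, ⟨f, hf⟩, hfix⟩ := key k le_rfl
  rw [Nat.sub_self, pow_zero, pow_one] at hfix
  have h1 : t (t f) = f := by
    have h2 : t (t f) / t f = t f / f := by rw [← map_div, hf, hfix]
    rw [div_eq_iff_eq_mul.1 h2, hf, ← div_mul_cancel (t f) f, hf, ← mul_assoc, he2, one_mul]
  exact he1 (by rw [← hf, hC f h1, div_self'])

end Cfsg.Agent.S1780
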