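import Cfsg.Statements.S1781
import Cfsg.Agent.S1757
import Cfsg.Agent.S1780

set_option autoImplicit false
open Cfsg

namespace Cfsg.Agent.S1781


/-- Let A be an abelian 2-subgroup of the finite group G such that every conjugate of A equals A or meets A trivially, and let g ∈ G with g A g⁻¹ ≠ A. Then either the subgroup of those elements of A that normalize g A g⁻¹ is an elementary abelian 2-group, or A and g A g⁻¹ commute elementwise. -/
theorem result {G : Type*} [Group G] [Finite G] (A : Subgroup G)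
    (hA2 : IsPGroup 2 ↥A) (hAa : IsMulCommutative ↥A)
    (hti : ∀ h : G, A.map (MulAut.conj h).toMonoidHom = A ∨ A.map (MulAut.conj h).toMonoidHom ⊓ A = ⊥)
    (g : G) (hg : A.map (MulAut.conj g).toMonoidHom ≠ A) :
    Cfsg.IsElementaryAbelian 2 (A ⊓ Subgroup.normalizer ((A.map (MulAut.conj g).toMonoidHom : Subgroup G) : Set G)) ∨
      ⁅A, A.map (MulAut.conj g).toMonoidHom⁆ = ⊥ := by
  set B := A.map (MulAut.conj g).toMonoidHom with hB
  by_cases h2 : ∀ x ∈ A ⊓ Subgroup.normalizer (B : Set G), x ^ 2 = 1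
  · refine .inl ⟨⟨⟨fun x y => Subtype.ext ?_⟩⟩, h2⟩
    have := congrArg Subtype.val (hAa.is_comm.comm (⟨x, x.2.1⟩ : A) ⟨y, y.2.1⟩)
    exact this
  refine .inr ?_
  push Not at h2
  obtain ⟨x, ⟨hxA, hxN⟩, hx2⟩ := h2
  haveI : Fact (Nat.Prime 2) := ⟨Nat.prime_two⟩
  have hAB : A ⊓ B = ⊥ := by rw [inf_comm]; exact (hti g).resolve_left hg
  have hBa : IsMulCommutative B := haveI := hAa; inferInstance
  have hB2 : IsPGroup 2 B := hA2.map _
  have hcard : Nat.card A = Nat.card B :=
    Nat.card_congr (A.equivMapOfInjective (MulAut.conj g).toMonoidHom (MulAut.conj g).injective).toEquiv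
  have hBti : ∀ h : G, B.map (MulAut.conj h).toMonoidHom = B ∨ B.map (MulAut.conj h).toMonoidHom ⊓ B = ⊥ := by
    intro h
    have hcomp : B.map (MulAut.conj h).toMonoidHom =
        (A.map (MulAut.conj (g⁻¹ * h * g)).toMonoidHom).map (MulAut.conj g).toMonoidHom := by
      rw [hB, Subgroup.map_map, Subgroup.map_map]
      congr 1
      ext y
      simp [mul_assoc]
    rw [hcomp, hB]
    rcases hti (g⁻¹ * h * g) with e | e
    · exact .inl (by rw [e])
    · right
      rw [← Subgroup.map_inf _ _ _ (MulAut.conj g).injective, e, Subgroup.map_bot]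
  have hconjx : ∀ y ∈ B, x * y * x⁻¹ ∈ B := fun y hy => (Subgroup.mem_normalizer_iff.1 hxN y).1 hy
  have key : ∀ y ∈ B, x ^ 2 * y * (x ^ 2)⁻¹ = y → y ∈ Subgroup.normalizer (A : Set G) := by
    intro y _ hfix
    have hm : x ^ 2 ∈ A.map (MulAut.conj y).toMonoidHom ⊓ A := by
      refine ⟨⟨x ^ 2, pow_mem hxA 2, ?_⟩, pow_mem hxA 2⟩
      show y * x ^ 2 * y⁻¹ = x ^ 2
      rw [← mul_inv_eq_iff_eq_mul.1 hfix]; group
    rcases hti y with e | e
    · rw [Subgroup.mem_normalizer_iff]
      intro z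
      constructor
      · intro hz; exact e ▸ ⟨z, hz, rfl⟩
      · intro hz
        rw [← e] at hz
        obtain ⟨w, hw, hw'⟩ := hz
        have : w = z := (MulAut.conj y).injective hw'
        exact this ▸ hw
    · rw [e, Subgroup.mem_bot] at hm
      exact absurd hm hx2
  let t : MulAut B := Subgroup.normalizerMonoidHom B ⟨x, hxN⟩
  have ht : ∃ k : ℕ, orderOf t = 2 ^ k := by
    obtain ⟨k, hk⟩ := hA2 ⟨x, hxA⟩
    have : orderOf t ∣ 2 ^ k := by
      refine (orderOf_map_dvd (Subgroup.normalizerMonoidHom B) (⟨x, hxN⟩ : Subgroup.normalizer (B : Set G))).trans ?_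
      rw [← Subgroup.orderOf_coe]
      exact orderOf_dvd_of_pow_eq_one (congrArg Subtype.val hk :)
    obtain ⟨j, _, hj⟩ := (Nat.dvd_prime_pow Nat.prime_two).1 this
    exact ⟨j, hj⟩
  letI : CommGroup B := { (inferInstance : Group B) with mul_comm := hBa.is_comm.comm }
  have hall : ∀ b : B, t b = b := S1780.result hB2 t ht fun b hb => by
    have hb' : x * (x * (b : G) * x⁻¹) * x⁻¹ = (b : G) := congrArg Subtype.val hb
    have hfix : x ^ 2 * (b : G) * (x ^ 2)⁻¹ = b := by
      refine Eq.trans ?_ hb'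
      rw [pow_two]; group
    have hn := key b b.2 hfix
    have hm : (x * (b : G) * x⁻¹) * (b : G)⁻¹ ∈ A ⊓ B := by
      refine ⟨?_, mul_mem (hconjx b b.2) (B.inv_mem b.2)⟩
      rw [show (x * (b : G) * x⁻¹) * (b : G)⁻¹ = x * ((b : G) * x⁻¹ * (b : G)⁻¹) by group]
      exact mul_mem hxA ((Subgroup.mem_normalizer_iff.1 hn _).1 (A.inv_mem hxA))
    rw [hAB, Subgroup.mem_bot, mul_inv_eq_one] at hm
    exact Subtype.ext hm
  have hBN : B ≤ Subgroup.normalizer (A : Set G) := fun y hy => key y hy (by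
    have e : x * y * x⁻¹ = y := congrArg Subtype.val (hall ⟨y, hy⟩)
    rw [show x ^ 2 * y * (x ^ 2)⁻¹ = x * (x * y * x⁻¹) * x⁻¹ by rw [pow_two]; group, e, e])
  exact S1757.result 2 A B hA2 hB2 hti hBti hcard.le hAB hBN

end Cfsg.Agent.S1781
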