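import Cfsg.Statements.S1782
import Cfsg.Agent.Lib.Solv.Misc
-- import your own Cfsg.Agent.* helpers here

set_option autoImplicit false
open Cfsg

namespace Cfsg.Agent.S1782
open scoped commutatorElement
open Subgroup

universe u

theorem frattini_eq_bot_of_sq {R : Type*} [Group R] [Finite R] (h : ∀ x : R, x * x = 1) :
    frattini R = ⊥ := by
  have hinv : ∀ x : R, x⁻¹ = x := fun x => inv_eq_of_mul_eq_one_left (h x)
  have hcomm : ∀ a b : R, a * b = b * a := fun a b => by
    calc a * b = (a * b)⁻¹ := (hinv _).symm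
      _ = b * a := by rw [mul_inv_rev, hinv, hinv]
  rw [eq_bot_iff]
  intro x hx
  by_contra hx1
  obtain ⟨M, hM⟩ := (Set.toFinite {M : Subgroup R | x ∉ M}).exists_maximal ⟨⊥, hx1⟩
  have hMn : M.Normal := ⟨fun n hn g => by rwa [hcomm g n, mul_inv_cancel_right]⟩
  have hco : IsCoatom M := by
    refine ⟨fun e => hM.1 (e ▸ mem_top x), fun K hK => eq_top_iff.2 fun y _ => ?_⟩
    have hxK : x ∈ K := by
      by_contra hc
      exact hK.ne (le_antisymm hK.le (hM.2 hc hK.le))
    by_cases hy : y ∈ M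
    · exact hK.le hy
    have hxy : x ∈ M ⊔ zpowers y := by
      by_contra hc
      exact hy (hM.2 hc le_sup_left (mem_sup_right (mem_zpowers y)))
    obtain ⟨m, hm, z, hz, rfl⟩ := mem_sup_of_normal_left.1 hxy
    obtain ⟨i, rfl⟩ := hz
    rcases Int.even_or_odd i with ⟨j, rfl⟩ | ⟨j, rfl⟩
    · exfalso
      apply hM.1
      have : (fun x => y ^ x) (j + j) = 1 := by
        show y ^ (j + j) = 1
        rw [zpow_add, h]
      rw [this, mul_one]
      exact hm
    · have e : (fun x => y ^ x) (2 * j + 1) = y := by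
        show y ^ (2 * j + 1) = y
        rw [zpow_add_one, two_mul, zpow_add, h, one_mul]
      rw [e] at hxK
      simpa using mul_mem (inv_mem (hK.le hm)) hxK
  exact hM.1 (frattini_le_coatom hco hx)

section

variable {S : Type u} [Group S] [Finite S]

/-- Conjugate subgroup. -/
abbrev cj (g : S) (U : Subgroup S) : Subgroup S := U.map (MulAut.conj g).toMonoidHom

theorem cj_cj (g h : S) (U : Subgroup S) : cj g (cj h U) = cj (g * h) U := by
  rw [cj, cj, cj, map_map]
  congr 1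
  ext x
  show g * (h * x * h⁻¹) * g⁻¹ = (g * h) * x * (g * h)⁻¹
  group

theorem cj_one (U : Subgroup S) : cj 1 U = U := by
  ext x
  constructor
  · rintro ⟨y, hy, rfl⟩
    show (1 : S) * y * 1⁻¹ ∈ U
    simpa using hy
  · intro hx
    exact ⟨x, hx, by show (1 : S) * x * 1⁻¹ = x; simp⟩

theorem mem_cj {g x : S} {U : Subgroup S} (hx : x ∈ U) : g * x * g⁻¹ ∈ cj g U := ⟨x, hx, rfl⟩

theorem card_cj (g : S) (U : Subgroup S) : Nat.card (cj g U) = Nat.card U :=
  card_map_of_injective (MulAut.conj g).injective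

theorem cj_eq_of_mem {g : S} {U : Subgroup S} (h : ∀ x ∈ U, g * x * g⁻¹ ∈ U) : cj g U = U :=
  eq_of_le_of_card_ge (by rintro _ ⟨x, hx, rfl⟩; exact h x hx) (card_cj g U).ge

theorem cj_mem {U : Subgroup S} {g : S} (hg : g ∈ U) : cj g U = U :=
  cj_eq_of_mem fun _ hx => mul_mem (mul_mem hg hx) (inv_mem hg)

/-- The impossible configuration. -/
theorem no_move (R T : Subgroup S) (hΦR : frattini R ≠ ⊥) (hΦT : frattini T ≠ ⊥) (hS : IsPGroup 2 S)
    (hcard : Nat.card R = Nat.card T) (hRT : R ⊓ T = ⊥)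
    (hcR : ∀ g h : S, cj g R = cj h R ∨ (cj g R ⊓ cj h R = ⊥ ∧ ∀ a ∈ cj g R, ∀ b ∈ cj h R, a * b = b * a))
    (hcT : ∀ g h : S, cj g T = cj h T ∨ (cj g T ⊓ cj h T = ⊥ ∧ ∀ a ∈ cj g T, ∀ b ∈ cj h T, a * b = b * a))
    {t₀ : S} (ht₀ : t₀ ∈ T) (hne : cj t₀ R ≠ R) : False := by
  have hR0 : ∀ g : S, cj g R = R ∨ (R ⊓ cj g R = ⊥ ∧ ∀ a ∈ R, ∀ b ∈ cj g R, a * b = b * a) := fun g => by
    rcases hcR 1 g with h | h
    · rw [cj_one] at h; exact Or.inl h.symm
    · rw [cj_one] at h; exact Or.inr h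
  have hT0 : ∀ g : S, cj g T = T ∨ (T ⊓ cj g T = ⊥ ∧ ∀ a ∈ T, ∀ b ∈ cj g T, a * b = b * a) := fun g => by
    rcases hcT 1 g with h | h
    · rw [cj_one] at h; exact Or.inl h.symm
    · rw [cj_one] at h; exact Or.inr h
  -- conjugates of `R` and elements in conjugates fix every conjugate
  have hfix : ∀ (g : S) (a : S), a ∈ cj g R → ∀ h : S, cj a (cj h R) = cj h R := by
    intro g a ha h
    refine cj_eq_of_mem fun x hx => ?_
    rcases hcR g h with e | ⟨-, e⟩
    · exact mul_mem (mul_mem (e ▸ ha) hx) (inv_mem (e ▸ ha))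
    · rw [e a ha x hx, mul_inv_cancel_right]; exact hx
  -- a nontrivial central element of `T` normalizing `R`
  obtain ⟨x, hxT, hxc, hx1, hxR⟩ : ∃ x ∈ T, (∀ t ∈ T, t * x = x * t) ∧ x ≠ 1 ∧ cj x R = R := by
    by_cases hall : ∀ r ∈ R, cj r T = T
    · -- then every element of `T` commutes suitably; show this is impossible
      exfalso
      have hmem : ∀ r ∈ R, r⁻¹ * (t₀ * r * t₀⁻¹) ∈ T := fun r hr => by
        have h1 : r⁻¹ * t₀ * r ∈ T := by
          have h2 := mem_cj (g := r⁻¹) ht₀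
          rw [hall r⁻¹ (inv_mem hr)] at h2
          simpa using h2
        have := mul_mem h1 (inv_mem ht₀)
        simpa [mul_assoc] using this
      let f : R → T := fun r => ⟨_, hmem r r.2⟩
      rcases hR0 t₀ with h | ⟨hdis, hcomm⟩
      · exact hne h
      have hinj : Function.Injective f := by
        intro r s hrs
        have h1 : (r : S)⁻¹ * (t₀ * r * t₀⁻¹) = (s : S)⁻¹ * (t₀ * s * t₀⁻¹) := congrArg Subtype.val hrs
        have h2 : (s : S) * (r : S)⁻¹ = (t₀ * s * t₀⁻¹) * (t₀ * r * t₀⁻¹)⁻¹ := by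
          calc (s : S) * (r : S)⁻¹ = (s : S) * ((r : S)⁻¹ * (t₀ * r * t₀⁻¹)) * (t₀ * r * t₀⁻¹)⁻¹ := by group
            _ = _ := by rw [h1]; group
        have h3 : (s : S) * (r : S)⁻¹ ∈ R ⊓ cj t₀ R := mem_inf.2 ⟨mul_mem s.2 (inv_mem r.2), by
          rw [h2]; exact mul_mem (mem_cj s.2) (inv_mem (mem_cj r.2))⟩
        rw [hdis, mem_bot] at h3
        exact Subtype.ext (mul_inv_eq_one.1 h3).symm
      obtain ⟨r, hr⟩ := (hinj.bijective_of_nat_card_le hcard.ge).2 ⟨t₀, ht₀⟩
      have h4 : (r : S)⁻¹ * (t₀ * r * t₀⁻¹) = t₀ := congrArg Subtype.val hr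
      refine hne ?_
      have h5 := hfix 1 (r : S)⁻¹ (by rw [cj_one]; exact inv_mem r.2) 1
      have h6 := hfix t₀ (t₀ * r * t₀⁻¹) (mem_cj r.2) 1
      rw [cj_one] at h5 h6
      have h7 : cj t₀ R = cj ((r : S)⁻¹ * (t₀ * r * t₀⁻¹)) R := by rw [h4]
      rw [h7, ← cj_cj, h6, h5]
    simp only [not_forall] at hall
    obtain ⟨r₀, hr₀, hr₀T⟩ := hall
    have hab : ∀ s ∈ T, ∀ t ∈ T, cj (s * t) R = cj (t * s) R := by
      intro s hs t ht
      set a := (t⁻¹ * r₀ * t) * r₀⁻¹ with ha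
      have hta : t * a = r₀ * t * r₀⁻¹ := by rw [ha]; group
      have hcs : s * (t * a) = (t * a) * s := by
        rw [hta]
        exact ((hT0 r₀).resolve_left hr₀T).2 s hs _ (mem_cj ht)
      have hafix : ∀ h : S, cj a (cj h R) = cj h R := fun h => by
        rw [ha, ← cj_cj, hfix 1 r₀⁻¹ (by rw [cj_one]; exact inv_mem hr₀) h]
        refine hfix t⁻¹ _ ?_ h
        have := mem_cj (g := t⁻¹) hr₀
        simpa using this
      calc cj (s * t) R = cj (s * t) (cj a R) := by
            have := hafix 1; rw [cj_one] at this; rw [this]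
        _ = cj (t * a * s) R := by rw [cj_cj, mul_assoc, hcs]
        _ = cj t (cj a (cj s R)) := by rw [cj_cj, cj_cj, mul_assoc]
        _ = cj (t * s) R := by rw [hafix s, cj_cj]
    haveI : Nontrivial T := by
      refine (nontrivial_iff_ne_bot T).2 fun e => hΦT ?_
      subst e
      exact Subsingleton.elim _ _
    haveI := (hS.to_subgroup T).isNilpotent
    haveI : Fact (Nat.Prime 2) := ⟨Nat.prime_two⟩
    by_cases habT : ∀ a b : T, a * b = b * a
    · -- abelian case: a square of an element of order four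
      obtain ⟨u, hu⟩ : ∃ u : T, u * u ≠ 1 := by
        by_contra hc; simp only [not_exists, not_not] at hc; exact hΦT (frattini_eq_bot_of_sq hc)
      obtain ⟨v, hv⟩ : ∃ v : R, v * v ≠ 1 := by
        by_contra hc; simp only [not_exists, not_not] at hc; exact hΦR (frattini_eq_bot_of_sq hc)
      obtain ⟨k, hk⟩ := hS (u : S)
      obtain ⟨j, -, hj⟩ := (Nat.dvd_prime_pow Nat.prime_two).1 (orderOf_dvd_of_pow_eq_one hk)
      have hj2 : 2 ≤ j := by
        by_contra hlt
        refine hu (Subtype.ext ?_)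
        show (u : S) * (u : S) = 1
        rw [← pow_two]
        exact orderOf_dvd_iff_pow_eq_one.1 (hj ▸ (pow_dvd_pow 2 (show j ≤ 1 by omega)).trans (by norm_num))
      set t := (u : S) ^ 2 ^ (j - 2) with ht
      have htT : t ∈ T := pow_mem u.2 _
      have ht4 : t ^ 4 = 1 := by
        rw [ht, ← pow_mul, show 2 ^ (j - 2) * 4 = 2 ^ j by
          rw [show (4 : ℕ) = 2 ^ 2 by norm_num, ← pow_add]; congr 1; omega, ← hj, pow_orderOf_eq_one]
      have ht2 : t ^ 2 ≠ 1 := by
        intro e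
        rw [ht, ← pow_mul] at e
        have h1 := Nat.le_of_dvd (by positivity) (hj ▸ orderOf_dvd_of_pow_eq_one e)
        rw [← pow_succ] at h1
        have := (Nat.pow_le_pow_iff_right (show 1 < 2 by norm_num)).1 h1
        omega
      refine ⟨t ^ 2, pow_mem htT 2, fun s hs => congrArg Subtype.val (habT ⟨s, hs⟩ ⟨t ^ 2, pow_mem htT 2⟩),
        ht2, ?_⟩
      rcases hR0 t⁻¹ with he | ⟨-, hcomm⟩
      · have e1 : cj t R = R := by
          conv_lhs => rw [← he]
          rw [cj_cj, mul_inv_cancel, cj_one]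
        rw [pow_two, ← cj_cj, e1, e1]
      · set r := (v : S) with hr
        set a := (t⁻¹ * r * t) * r⁻¹ with ha
        have hra : r * a = a * r := by
          have h1 := hcomm r v.2 _ (mem_cj (g := t⁻¹) v.2)
          rw [inv_inv] at h1
          rw [ha, ← mul_assoc, h1, inv_mul_cancel_right, mul_inv_cancel_right]
        have hta : t * a = r * t * r⁻¹ := by rw [ha]; group
        have hat : a * t = t * a := by
          have h1 : t * (t * a) = (t * a) * t := by
            rw [hta]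
            rcases hT0 r with e | ⟨-, e⟩
            · exact congrArg Subtype.val (habT ⟨t, htT⟩ ⟨_, e ▸ mem_cj htT⟩)
            · exact e t htT _ (mem_cj htT)
          calc a * t = t⁻¹ * ((t * a) * t) := by group
            _ = t * a := by rw [← h1]; group
        have hC : Commute t a := hat.symm
        have ha4 : a ^ 4 = 1 := by
          have h1 : (t * a) ^ 4 = 1 := by rw [hta, conj_pow, ht4, mul_one, mul_inv_cancel]
          rwa [hC.mul_pow, ht4, one_mul] at h1
        have h2 : r * t ^ 2 * r⁻¹ = t ^ 2 * a ^ 2 := by rw [← conj_pow, ← hta, hC.mul_pow]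
        have h3 : r * a ^ 2 * r⁻¹ = a ^ 2 := by
          rw [((show Commute r a from hra).pow_right 2).eq, mul_inv_cancel_right]
        have h4 : r ^ 2 * t ^ 2 = t ^ 2 * r ^ 2 := by
          calc r ^ 2 * t ^ 2 = r * (r * t ^ 2 * r⁻¹) * r := by rw [pow_two r]; group
            _ = r * (t ^ 2 * a ^ 2) * r := by rw [h2]
            _ = (r * t ^ 2 * r⁻¹) * (r * a ^ 2 * r⁻¹) * r ^ 2 := by rw [pow_two r]; group
            _ = t ^ 2 * (a ^ 4) * r ^ 2 := by rw [h2, h3]; group
            _ = _ := by rw [ha4, mul_one]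
        refine ((hR0 (t ^ 2)).resolve_right fun hdis => hv (Subtype.ext ?_))
        have h5 : r ^ 2 ∈ R ⊓ cj (t ^ 2) R := mem_inf.2 ⟨pow_mem v.2 2, by
          have := mem_cj (g := t ^ 2) (pow_mem v.2 2 : r ^ 2 ∈ R)
          rwa [← h4, mul_inv_cancel_right] at this⟩
        rw [hdis.1, mem_bot, pow_two] at h5
        exact h5
    · -- nonabelian case: a central commutator
      have hne' : _root_.commutator T ≠ ⊥ := by
        intro e
        refine habT fun a b => ?_
        have h1 : ⁅a, b⁆ ∈ _root_.commutator T := by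
          rw [_root_.commutator_def]; exact commutator_mem_commutator (mem_top a) (mem_top b)
        rw [e, mem_bot] at h1
        exact commutatorElement_eq_one_iff_mul_comm.1 h1
      obtain ⟨x, hx, hx1⟩ := (Subgroup.bot_or_exists_ne_one _).resolve_left
        (Cfsg.Agent.Solv.inf_center_ne_bot _ hne')
      obtain ⟨hxc, hxZ⟩ := mem_inf.1 hx
      let B : Subgroup T :=
        { carrier := {g : T | cj (g : S) R = R}
          one_mem' := cj_one R
          mul_mem' := fun {g h} (hg : cj (g : S) R = R) (hh : cj (h : S) R = R) => by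
            show cj ((g : S) * (h : S)) R = R
            rw [← cj_cj, hh, hg]
          inv_mem' := fun {g} (hg : cj (g : S) R = R) => by
            show cj ((g : S)⁻¹) R = R
            conv_lhs => rw [← hg]
            rw [cj_cj, inv_mul_cancel, cj_one] }
      have hB : _root_.commutator T ≤ B := by
        rw [_root_.commutator_def, Subgroup.commutator_le]
        intro a _ b _
        show cj ((a : S) * b * (a : S)⁻¹ * (b : S)⁻¹) R = R
        have h1 := congrArg (cj ((a : S) * b)) (hab (a : S)⁻¹ (inv_mem a.2) (b : S)⁻¹ (inv_mem b.2))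
        rw [cj_cj, cj_cj] at h1
        rw [show (a : S) * b * (a : S)⁻¹ * (b : S)⁻¹ = (a : S) * b * ((a : S)⁻¹ * (b : S)⁻¹) by group, h1,
          show (a : S) * b * ((b : S)⁻¹ * (a : S)⁻¹) = 1 by group, cj_one]
      exact ⟨(x : S), x.2, fun t ht => congrArg Subtype.val (mem_center_iff.1 hxZ ⟨t, ht⟩),
        fun e => hx1 (Subtype.ext e), hB hxc⟩
  -- `x` centralizes `R`, so `R` normalizes `T`
  rcases hR0 t₀ with h | ⟨hdis, -⟩
  · exact hne h
  have hall : ∀ r ∈ R, cj r T = T := by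
    intro r hr
    have hconjR : ∀ y ∈ R, x * y * x⁻¹ ∈ R := fun y hy => hxR ▸ mem_cj hy
    have hconjR' : ∀ y ∈ R, x⁻¹ * y * x ∈ R := fun y hy => by
      have e : cj x⁻¹ R = R := by
        conv_lhs => rw [← hxR]
        rw [cj_cj, inv_mul_cancel, cj_one]
      have := e ▸ mem_cj (g := x⁻¹) hy
      simpa using this
    set e := x⁻¹ * (r * x * r⁻¹) with he
    have heR : e ∈ R := by
      rw [he, show x⁻¹ * (r * x * r⁻¹) = (x⁻¹ * r * x) * r⁻¹ by group]
      exact mul_mem (hconjR' r hr) (inv_mem hr)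
    have hx' : t₀ * (r * x * r⁻¹) = (r * x * r⁻¹) * t₀ := by
      rcases hT0 r with e' | ⟨-, e'⟩
      · obtain ⟨t₁, ht₁, hte⟩ : ∃ t₁ ∈ T, r * t₁ * r⁻¹ = t₀ := by
          rw [← e'] at ht₀; exact ht₀
        rw [← hte]
        calc r * t₁ * r⁻¹ * (r * x * r⁻¹) = r * (t₁ * x) * r⁻¹ := by group
          _ = r * (x * t₁) * r⁻¹ := by rw [hxc t₁ ht₁]
          _ = _ := by group
      · exact e' t₀ ht₀ _ (mem_cj hxT)
    have het : t₀ * e = e * t₀ :=
      ((show Commute t₀ x from hxc t₀ ht₀).inv_right.mul_right (show Commute t₀ (r * x * r⁻¹) from hx')).eq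
    have he1 : e ∈ R ⊓ cj t₀ R := mem_inf.2 ⟨heR, by
      have := mem_cj (g := t₀) heR
      rwa [het, mul_inv_cancel_right] at this⟩
    rw [hdis, mem_bot, he, inv_mul_eq_one] at he1
    refine (hT0 r).resolve_right fun h => hx1 ?_
    have h1 : x ∈ T ⊓ cj r T := mem_inf.2 ⟨hxT, he1 ▸ mem_cj hxT⟩
    rwa [h.1, mem_bot] at h1
  have hmem : ∀ r ∈ R, r⁻¹ * (t₀ * r * t₀⁻¹) ∈ T := fun r hr => by
    have h1 : r⁻¹ * t₀ * r ∈ T := by
      have h2 := mem_cj (g := r⁻¹) ht₀
      rw [hall r⁻¹ (inv_mem hr)] at h2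
      simpa using h2
    have := mul_mem h1 (inv_mem ht₀)
    simpa [mul_assoc] using this
  let f : R → T := fun r => ⟨_, hmem r r.2⟩
  have hinj : Function.Injective f := by
    intro r s hrs
    have h1 : (r : S)⁻¹ * (t₀ * r * t₀⁻¹) = (s : S)⁻¹ * (t₀ * s * t₀⁻¹) := congrArg Subtype.val hrs
    have h2 : (s : S) * (r : S)⁻¹ = (t₀ * s * t₀⁻¹) * (t₀ * r * t₀⁻¹)⁻¹ := by
      calc (s : S) * (r : S)⁻¹ = (s : S) * ((r : S)⁻¹ * (t₀ * r * t₀⁻¹)) * (t₀ * r * t₀⁻¹)⁻¹ := by group
        _ = _ := by rw [h1]; group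
    have h3 : (s : S) * (r : S)⁻¹ ∈ R ⊓ cj t₀ R := mem_inf.2 ⟨mul_mem s.2 (inv_mem r.2), by
      rw [h2]; exact mul_mem (mem_cj s.2) (inv_mem (mem_cj r.2))⟩
    rw [hdis, mem_bot] at h3
    exact Subtype.ext (mul_inv_eq_one.1 h3).symm
  obtain ⟨r, hr⟩ := (hinj.bijective_of_nat_card_le hcard.ge).2 ⟨t₀, ht₀⟩
  have h4 : (r : S)⁻¹ * (t₀ * r * t₀⁻¹) = t₀ := congrArg Subtype.val hr
  refine hne ?_
  have h5 := hfix 1 (r : S)⁻¹ (by rw [cj_one]; exact inv_mem r.2) 1
  have h6 := hfix t₀ (t₀ * r * t₀⁻¹) (mem_cj r.2) 1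
  rw [cj_one] at h5 h6
  have h7 : cj t₀ R = cj ((r : S)⁻¹ * (t₀ * r * t₀⁻¹)) R := by rw [h4]
  rw [h7, ← cj_cj, h6, h5]

end

theorem commute_of_TI : ∀ (S : Type u) [Group S] [Finite S], IsPGroup 2 S → ∀ (Δ : Set (Subgroup S)),
    (∀ s : S, ∀ R ∈ Δ, R.map (MulAut.conj s).toMonoidHom ∈ Δ) → (∀ R ∈ Δ, frattini R ≠ ⊥) →
    (∀ R ∈ Δ, ∀ T ∈ Δ, Nat.card R = Nat.card T) → (∀ R ∈ Δ, ∀ T ∈ Δ, R = T ∨ R ⊓ T = ⊥) →
    ∀ R ∈ Δ, ∀ T ∈ Δ, R ≠ T → ⁅R, T⁆ = ⊥ := by
  intro S _ _
  induction hc : Nat.card S using Nat.strong_induction_on generalizing S with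
  | _ c ih =>
  subst hc
  intro hS Δ hinv hΦ hord hti R hR T hT hne
  haveI : Fact (Nat.Prime 2) := ⟨Nat.prime_two⟩
  -- induction inside proper subgroups
  have hsub : ∀ M : Subgroup S, M ≠ ⊤ → ∀ A ∈ Δ, ∀ B ∈ Δ, A ≤ M → B ≤ M → A ≠ B → ⁅A, B⁆ = ⊥ := by
    intro M hM A hA B hB hAM hBM hAB
    have hlt : Nat.card M < Nat.card S := lt_of_le_of_ne (Subgroup.card_le_card_group M) fun e =>
      hM (eq_top_of_card_eq M e)
    set Δ' : Set (Subgroup M) := {U | U.map M.subtype ∈ Δ}
    have hinv' : ∀ s : M, ∀ U ∈ Δ', U.map (MulAut.conj s).toMonoidHom ∈ Δ' := fun s U hU => by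
      show (U.map (MulAut.conj s).toMonoidHom).map M.subtype ∈ Δ
      have e : (U.map (MulAut.conj s).toMonoidHom).map M.subtype =
          (U.map M.subtype).map (MulAut.conj (s : S)).toMonoidHom := by
        rw [map_map, map_map]; rfl
      rw [e]; exact hinv _ _ hU
    have hΦ' : ∀ U ∈ Δ', frattini U ≠ ⊥ := fun U hU hc => hΦ _ hU (by
      rw [eq_bot_iff]
      intro y hy
      set φ := (U.equivMapOfInjective M.subtype M.subtype_injective).symm
      have h1 : φ.toMonoidHom y ∈ frattini U :=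
        frattini_le_comap_frattini_of_surjective (φ := φ.toMonoidHom) φ.surjective hy
      rw [hc, mem_bot] at h1
      exact mem_bot.2 (φ.injective (h1.trans (map_one φ).symm)))
    have := ih (Nat.card M) hlt M rfl (hS.to_subgroup M) Δ' hinv' hΦ'
      (fun U hU V hV => by
        have := hord _ hU _ hV
        rwa [card_map_of_injective M.subtype_injective, card_map_of_injective M.subtype_injective] at this)
      (fun U hU V hV => by
        rcases hti _ hU _ hV with h | h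
        · exact Or.inl (map_injective M.subtype_injective h)
        · rw [← map_inf _ _ _ M.subtype_injective, map_eq_bot_iff_of_injective _ M.subtype_injective] at h
          exact Or.inr h)
      (A.subgroupOf M) (show (A.subgroupOf M).map M.subtype ∈ Δ by rwa [map_subgroupOf_eq_of_le hAM])
      (B.subgroupOf M) (show (B.subgroupOf M).map M.subtype ∈ Δ by rwa [map_subgroupOf_eq_of_le hBM])
      (fun e => hAB (by
        have := congrArg (Subgroup.map M.subtype) e
        rwa [map_subgroupOf_eq_of_le hAM, map_subgroupOf_eq_of_le hBM] at this))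
    have := congrArg (Subgroup.map M.subtype) this
    rwa [map_commutator, map_subgroupOf_eq_of_le hAM, map_subgroupOf_eq_of_le hBM, Subgroup.map_bot] at this
  by_cases hgen : R ⊔ T = ⊤
  swap
  · exact hsub _ hgen R hR T hT le_sup_left le_sup_right hne
  have hpair : ∀ U ∈ Δ, U ≠ ⊤ → ∀ g h : S, cj g U = cj h U ∨
      (cj g U ⊓ cj h U = ⊥ ∧ ∀ a ∈ cj g U, ∀ b ∈ cj h U, a * b = b * a) := by
    intro U hU hUtop g h
    refine or_iff_not_imp_left.2 fun hgh => ?_
    refine ⟨(hti _ (hinv g U hU) _ (hinv h U hU)).resolve_left hgh, ?_⟩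
    obtain ⟨M, hM, hUM⟩ := (eq_top_or_exists_le_coatom U).resolve_left hUtop
    haveI : Group.IsNilpotent S := hS.isNilpotent
    haveI : M.Normal := Cfsg.Agent.Solv.coatom_normal_of_isNilpotent inferInstance M hM
    have hle : ∀ g : S, cj g U ≤ M := fun g => by
      rintro _ ⟨y, hy, rfl⟩
      exact (inferInstance : M.Normal).conj_mem y (hUM hy) g
    have h1 := hsub M hM.1 _ (hinv g U hU) _ (hinv h U hU) (hle g) (hle h) hgh
    intro a ha b hb
    exact commutatorElement_eq_one_iff_mul_comm.1 (mem_bot.1 (h1 ▸ commutator_mem_commutator ha hb))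
  have hdis := (hti R hR T hT).resolve_left hne
  have htopR : R ≠ ⊤ := fun e => hΦ T hT (by
    rw [e, top_inf_eq] at hdis
    subst hdis
    exact Subsingleton.elim _ _)
  have htopT : T ≠ ⊤ := fun e => hΦ R hR (by
    rw [e, inf_top_eq] at hdis
    subst hdis
    exact Subsingleton.elim _ _)
  have hnormR : ∀ t ∈ T, cj t R = R := fun t ht => by
    by_contra h
    exact no_move R T (hΦ R hR) (hΦ T hT) hS (hord R hR T hT) hdis (hpair R hR htopR) (hpair T hT htopT) ht h
  have hnormT : ∀ r ∈ R, cj r T = T := fun r hr => by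
    by_contra h
    exact no_move T R (hΦ T hT) (hΦ R hR) hS (hord T hT R hR) (by rw [inf_comm]; exact hdis)
      (hpair T hT htopT) (hpair R hR htopR) hr h
  rw [eq_bot_iff, ← hdis, Subgroup.commutator_le]
  intro r hr t ht
  refine mem_inf.2 ⟨?_, ?_⟩
  · rw [show ⁅r, t⁆ = r * (t * r⁻¹ * t⁻¹) by rw [commutatorElement_def]; group]
    exact mul_mem hr (hnormR t ht ▸ mem_cj (inv_mem hr))
  · rw [commutatorElement_def]
    exact mul_mem (hnormT r hr ▸ mem_cj ht) (inv_mem ht)


/-- Let S be a finite 2-group and Δ a set of subgroups of S closed under conjugation by S, all of the same order, each with nontrivial Frattini subgroup, and such that two distinct members of Δ meet trivially. Then any two distinct members of Δ commute elementwise. -/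
theorem result {S : Type*} [Group S] [Finite S] (hS : IsPGroup 2 S)
    (Δ : Set (Subgroup S)) (hinv : ∀ s : S, ∀ R ∈ Δ, R.map (MulAut.conj s).toMonoidHom ∈ Δ)
    (hΦ : ∀ R ∈ Δ, frattini ↥R ≠ ⊥) (hord : ∀ R ∈ Δ, ∀ T ∈ Δ, Nat.card ↥R = Nat.card ↥T)
    (hti : ∀ R ∈ Δ, ∀ T ∈ Δ, R = T ∨ R ⊓ T = ⊥) :
    ∀ R ∈ Δ, ∀ T ∈ Δ, R ≠ T → ⁅R, T⁆ = ⊥ := by
  exact commute_of_TI S hS Δ hinv hΦ hord hti

end Cfsg.Agent.S1782
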