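import Cfsg.Statements.S1783
import Cfsg.Agent.Lib.Local.CharPEquiv
import Cfsg.Agent.Lib.Fusion.Critical
import Cfsg.Agent.S0121
-- import your own Cfsg.Agent.* helpers here

set_option autoImplicit false
open Cfsg

namespace Cfsg.Agent.S1783

open Subgroup
open scoped commutatorElement

variable {X : Type*} [Group X]

/-- A finite abelian subgroup with trivial-intersection conjugates. -/
def TI (A : Subgroup X) : Prop :=
  ∀ h : X, A.map (MulAut.conj h).toMonoidHom = A ∨ A.map (MulAut.conj h).toMonoidHom ⊓ A = ⊥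

theorem TI.conj_mem {A : Subgroup X} (hti : TI A) {u e : X} (he : e ∈ A) (he1 : e ≠ 1)
    (hu : u * e * u⁻¹ ∈ A) {b : X} (hb : b ∈ A) : u * b * u⁻¹ ∈ A := by
  rcases hti u with h | h
  · rw [← h]; exact ⟨b, hb, rfl⟩
  · have hm : u * e * u⁻¹ ∈ A.map (MulAut.conj u).toMonoidHom ⊓ A := ⟨⟨e, he, rfl⟩, hu⟩
    rw [h, mem_bot, conj_eq_one_iff] at hm
    exact absurd hm he1

theorem TI.comm_mem {A : Subgroup X} (hti : TI A) {u e : X} (he : e ∈ A) (he1 : e ≠ 1)
    (hu : e * u = u * e) {b : X} (hb : b ∈ A) : b * u * b⁻¹ * u⁻¹ ∈ A := by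
  have h := hti.conj_mem he he1 (u := u) (by rw [← hu, mul_inv_cancel_right]; exact he) (A.inv_mem hb)
  have e' : b * u * b⁻¹ * u⁻¹ = b * (u * b⁻¹ * u⁻¹) := by group
  rw [e']
  exact A.mul_mem hb h

theorem conj_prod (g x y : X) : g * (x * y) * g⁻¹ = (g * x * g⁻¹) * (g * y * g⁻¹) := by group

/-- `[Z, b²]` is trivial on involutions, and `b` centralizes `Z` when it meets `A` trivially. -/
theorem abelian_layer [Finite X] {A : Subgroup X} (hti : TI A) (hAa : ∀ a ∈ A, ∀ a' ∈ A, a * a' = a' * a)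
    (hA2 : IsPGroup 2 A) (Z : Subgroup X) (hZ : ∀ u ∈ Z, ∀ v ∈ Z, u * v = v * u)
    (hZn : ∀ g : X, ∀ u ∈ Z, g * u * g⁻¹ ∈ Z) (hZ2 : IsPGroup 2 Z) {b : X} (hb : b ∈ A) (hb2 : b * b ≠ 1) :
    (∀ z ∈ Z, z ^ 2 = 1 → (b * b) * z * (b * b)⁻¹ = z) ∧ (A ⊓ Z = ⊥ → ∀ z ∈ Z, b * z * b⁻¹ = z) := by
  by_cases hd : A ⊓ Z = ⊥
  · have hfix : ∀ u ∈ Z, ∀ e ∈ A, e ≠ 1 → e * u * e⁻¹ = u → ∀ a ∈ A, a * u * a⁻¹ = u := by
      intro u hu e he he1 heu a ha
      have h1 : a * u * a⁻¹ * u⁻¹ ∈ A ⊓ Z :=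
        ⟨hti.comm_mem he he1 (mul_inv_eq_iff_eq_mul.1 heu) ha, Z.mul_mem (hZn a u hu) (Z.inv_mem hu)⟩
      rw [hd, mem_bot, mul_inv_eq_one] at h1
      exact h1
    have hall : ∀ z ∈ Z, b * z * b⁻¹ = z := by
      obtain ⟨k, hk⟩ := (IsPGroup.iff_orderOf.1 hA2) ⟨b, hb⟩
      rw [Subgroup.orderOf_mk] at hk
      obtain ⟨l, rfl⟩ : ∃ l, k = l + 2 := by
        rcases k with _ | _ | l
        · exfalso; apply hb2
          rw [orderOf_eq_one_iff.1 (hk.trans (pow_zero 2)), mul_one]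
        · exfalso; apply hb2
          have h := pow_orderOf_eq_one b
          rwa [hk, zero_add, pow_one, sq] at h
        · exact ⟨l, rfl⟩
      set c := b ^ 2 ^ l with hc
      have hcA : c ∈ A := A.pow_mem hb _
      have hc4 : c ^ 4 = 1 := by
        rw [hc, ← pow_mul, show 2 ^ l * 4 = 2 ^ (l + 2) by ring, ← hk, pow_orderOf_eq_one]
      have hy1 : c * c ≠ 1 := by
        rw [hc, ← pow_add, show 2 ^ l + 2 ^ l = 2 ^ (l + 1) by ring]
        intro h
        have h1 := orderOf_dvd_of_pow_eq_one h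
        rw [hk, Nat.pow_dvd_pow_iff_le_right (by norm_num)] at h1
        omega
      have hyA : c * c ∈ A := A.mul_mem hcA hcA
      have hinv : ∀ z ∈ Z, z ^ 2 = 1 → c * z * c⁻¹ = z := by
        intro z hz hz2
        set w := c * z * c⁻¹ * z⁻¹ with hw
        have hwZ : w ∈ Z := Z.mul_mem (hZn c z hz) (Z.inv_mem hz)
        have hw2 : w ^ 2 = 1 := by
          rw [hw, (show Commute (c * z * c⁻¹) z⁻¹ from hZ _ (hZn c z hz) _ (Z.inv_mem hz)).mul_pow, conj_pow, hz2,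
            inv_pow, hz2]
          group
        set v := c * w * c⁻¹ * w⁻¹ with hv
        have hvZ : v ∈ Z := Z.mul_mem (hZn c w hwZ) (Z.inv_mem hwZ)
        have hv2 : v ^ 2 = 1 := by
          rw [hv, (show Commute (c * w * c⁻¹) w⁻¹ from hZ _ (hZn c w hwZ) _ (Z.inv_mem hwZ)).mul_pow, conj_pow, hw2,
            inv_pow, hw2]
          group
        have hsq : ∀ x : X, x ^ 2 = 1 → x * x = 1 := fun x hx => by rwa [← sq]
        have e1 : c * z * c⁻¹ = w * z := by rw [hw]; group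
        have e2 : c * w * c⁻¹ = v * w := by rw [hv]; group
        have ey : (c * c) * z * (c * c)⁻¹ = v * z := by
          calc (c * c) * z * (c * c)⁻¹ = c * (c * z * c⁻¹) * c⁻¹ := by group
            _ = v * w * (w * z) := by rw [e1, conj_prod, e2, e1]
            _ = v * (w * w) * z := by group
            _ = v * z := by rw [hsq w hw2, mul_one]
        have eyv : (c * c) * v * (c * c)⁻¹ = v := by
          have h4 : (c * c) * ((c * c) * z * (c * c)⁻¹) * (c * c)⁻¹ = z := by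
            calc _ = c ^ 4 * z * (c ^ 4)⁻¹ := by simp [pow_succ, mul_assoc]
              _ = z := by rw [hc4, one_mul, inv_one, mul_one]
          rw [ey, conj_prod, ey, ← mul_assoc] at h4
          have h5 : (c * c) * v * (c * c)⁻¹ * v = 1 := mul_eq_right.1 h4
          rw [mul_eq_one_iff_eq_inv] at h5
          rw [h5, inv_eq_iff_mul_eq_one.2 (hsq v hv2)]
        have e3 := hfix v hvZ _ hyA hy1 eyv c hcA
        have eyw : (c * c) * w * (c * c)⁻¹ = w := by
          calc (c * c) * w * (c * c)⁻¹ = c * (c * w * c⁻¹) * c⁻¹ := by group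
            _ = v * (v * w) := by rw [e2, conj_prod, e3, e2]
            _ = w := by rw [← mul_assoc, hsq v hv2, one_mul]
        have hv1 : v = 1 := by rw [hv, hfix w hwZ _ hyA hy1 eyw c hcA, mul_inv_cancel]
        exact hfix z hz _ hyA hy1 (by rw [ey, hv1, one_mul]) c hcA
      have hgen : ∀ n : ℕ, ∀ z ∈ Z, z ^ 2 ^ n = 1 → c * z * c⁻¹ = z := by
        intro n
        induction n with
        | zero => intro z _ h; rw [pow_zero, pow_one] at h; rw [h]; group
        | succ n ih =>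
          intro z hz hzn
          have h2 := ih (z ^ 2) (Z.pow_mem hz 2) (by rw [← pow_mul, ← pow_succ']; exact hzn)
          set w := c * z * c⁻¹ * z⁻¹ with hw
          have hwZ : w ∈ Z := Z.mul_mem (hZn c z hz) (Z.inv_mem hz)
          have hw2 : w ^ 2 = 1 := by
            rw [hw, (show Commute (c * z * c⁻¹) z⁻¹ from hZ _ (hZn c z hz) _ (Z.inv_mem hz)).mul_pow, conj_pow, h2,
              inv_pow, mul_inv_cancel]
          have e1 : c * z * c⁻¹ = w * z := by rw [hw]; group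
          refine hfix z hz _ hyA hy1 ?_ c hcA
          calc (c * c) * z * (c * c)⁻¹ = c * (c * z * c⁻¹) * c⁻¹ := by group
            _ = w * (w * z) := by rw [e1, conj_prod, hinv w hwZ hw2, e1]
            _ = z := by rw [← mul_assoc, ← sq, hw2, one_mul]
      intro z hz
      obtain ⟨n, hn⟩ := hZ2 ⟨z, hz⟩
      exact hfix z hz c hcA (fun h => hy1 (by rw [h, mul_one])) (hgen n z hz (congrArg Subtype.val hn)) b hb
    exact ⟨fun z hz _ => hfix z hz b hb (fun h => hb2 (by rw [h, mul_one])) (hall z hz) _ (A.mul_mem hb hb),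
      fun _ => hall⟩
  · refine ⟨fun z hz hz2 => ?_, fun h => absurd h hd⟩
    obtain ⟨e, he, he1⟩ := (Subgroup.bot_or_exists_ne_one _).resolve_left hd
    set d := b * z * b⁻¹ * z⁻¹ with hdd
    have hdA : d ∈ A := hti.comm_mem he.1 he1 (hZ e he.2 z hz) hb
    have hdZ : d ∈ Z := Z.mul_mem (hZn b z hz) (Z.inv_mem hz)
    have hd2 : d * d = 1 := by
      have h := (show Commute (b * z * b⁻¹) z⁻¹ from hZ _ (hZn b z hz) _ (Z.inv_mem hz)).mul_pow 2
      rw [conj_pow, hz2, inv_pow, hz2, ← hdd, sq] at h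
      rw [h]; group
    have e1 : b * z * b⁻¹ = d * z := by rw [hdd]; group
    calc (b * b) * z * (b * b)⁻¹ = b * (b * z * b⁻¹) * b⁻¹ := by group
      _ = d * (d * z) := by rw [e1, conj_prod, hAa b hb d hdA, mul_inv_cancel_right, e1]
      _ = z := by rw [← mul_assoc, hd2, one_mul]

/-- `b` acts quadratically on the quotient of a class two subgroup. -/
theorem classTwo_layer [Finite X] {A T : Subgroup X} (hti : TI A) (hAa : ∀ a ∈ A, ∀ a' ∈ A, a * a' = a' * a)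
    (C Z : Subgroup X) (hCn : ∀ g : X, ∀ u ∈ C, g * u * g⁻¹ ∈ C)
    (hZC : Z ≤ C) (hcen : ∀ z ∈ Z, ∀ u ∈ C, z * u = u * z)
    (hsq : ∀ u ∈ C, u * u ∈ Z) (hcom : ∀ u ∈ C, ∀ v ∈ C, u * v * u⁻¹ * v⁻¹ ∈ Z)
    (hT : Group.IsNilpotent T) (hCT : C ≤ T) {b : X} (hb : b ∈ A) (hbT : b ∈ T) (hb2 : b * b ≠ 1)
    (hZfix : A ⊓ Z = ⊥ → ∀ z ∈ Z, b * z * b⁻¹ = z) (c : X) (hc : c ∈ C) :
    (b * b) * c * (b * b)⁻¹ * c⁻¹ ∈ Z := by
  set f : X → X := fun t => b * t * b⁻¹ * t⁻¹ with hf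
  have hfC : ∀ t ∈ C, f t ∈ C := fun t ht => C.mul_mem (hCn b t ht) (C.inv_mem ht)
  have hy : ∀ t, (b * b) * t * (b * b)⁻¹ = f (f t) * (f t * f t) * t := fun t => by simp only [hf]; group
  suffices h1 : f (f c) = 1 by
    rw [hy, h1, one_mul, mul_inv_cancel_right]
    exact hsq _ (hfC c hc)
  by_cases hd : A ⊓ Z = ⊥
  swap
  · obtain ⟨e, he, he1⟩ := (Subgroup.bot_or_exists_ne_one _).resolve_left hd
    have h := hti.comm_mem he.1 he1 (hcen e he.2 c hc) hb
    show b * f c * b⁻¹ * (f c)⁻¹ = 1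
    rw [hAa b hb _ h, mul_inv_cancel_right, mul_inv_cancel]
  have hfz : ∀ z ∈ Z, b * z * b⁻¹ = z := hZfix hd
  have step : ∀ t ∈ C, f (f (f t)) ∈ Z → f (f t) = 1 := by
    intro c3 hc3 hfin
    set c2 := f c3 with hc2d
    set c1 := f c2 with hc1d
    set g := f c1 with hgd
    have hc2 : c2 ∈ C := hfC _ hc3
    have hc1 : c1 ∈ C := hfC _ hc2
    have e3 : b * c3 * b⁻¹ = c2 * c3 := by rw [hc2d, hf]; group
    have e2 : b * c2 * b⁻¹ = c1 * c2 := by rw [hc1d, hf]; group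
    have e1 : b * c1 * b⁻¹ = g * c1 := by rw [hgd, hf]; group
    have hg2 : g * g = 1 := by
      have h : (g * c1) * (g * c1) = c1 * c1 := by rw [← e1, ← conj_prod]; exact hfz _ (hsq c1 hc1)
      refine (mul_eq_right (b := c1 * c1)).1 ?_
      calc g * g * (c1 * c1) = g * (g * c1) * c1 := by simp [mul_assoc]
        _ = g * (c1 * g) * c1 := by rw [hcen g hfin c1 hc1]
        _ = (g * c1) * (g * c1) := by simp [mul_assoc]
        _ = c1 * c1 := h
    have hfy : (b * b) * c1 * (b * b)⁻¹ = c1 := by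
      rw [hy c1, ← hgd, hg2, mul_one]
      show f g * c1 = c1
      rw [hf]
      simp only
      rw [hfz g hfin, mul_inv_cancel, one_mul]
    have hyA : b * b ∈ A := A.mul_mem hb hb
    have hg1 : g = 1 := by
      have hgA : g ∈ A ⊓ Z := ⟨hti.comm_mem hyA hb2 (mul_inv_eq_iff_eq_mul.1 hfy) hb, hfin⟩
      rwa [hd, mem_bot] at hgA
    rw [hg1, one_mul] at e1
    set k := fun u v : X => u * v * u⁻¹ * v⁻¹ with hk
    have kfix : ∀ u ∈ C, ∀ v ∈ C, k (b * u * b⁻¹) (b * v * b⁻¹) = k u v := fun u hu v hv => by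
      have h := hfz _ (hcom u hu v hv)
      simp only [hk]
      calc _ = b * (u * v * u⁻¹ * v⁻¹) * b⁻¹ := by group
        _ = _ := h
    have kl : ∀ u ∈ C, ∀ v ∈ C, ∀ w ∈ C, k (u * v) w = k u w * k v w := fun u hu v hv w hw => by
      have h := hcen _ (hcom v hv w hw) _ (C.mul_mem (C.mul_mem hw (C.inv_mem hu)) (C.inv_mem hw))
      simp only [hk]
      calc u * v * w * (u * v)⁻¹ * w⁻¹ = u * ((v * w * v⁻¹ * w⁻¹) * (w * u⁻¹ * w⁻¹)) := by group
        _ = u * ((w * u⁻¹ * w⁻¹) * (v * w * v⁻¹ * w⁻¹)) := by rw [h]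
        _ = _ := by group
    have kr : ∀ u ∈ C, ∀ v ∈ C, ∀ w ∈ C, k u (v * w) = k u v * k u w := fun u hu v hv w hw => by
      have h := hcen _ (hcom u hu w hw) v hv
      simp only [hk]
      calc u * (v * w) * u⁻¹ * (v * w)⁻¹ = (u * v * u⁻¹) * ((u * w * u⁻¹ * w⁻¹) * v⁻¹) := by group
        _ = (u * v * u⁻¹) * (v⁻¹ * (u * w * u⁻¹ * w⁻¹)) := by
            congr 1
            exact hcen _ (hcom u hu w hw) _ (C.inv_mem hv)
        _ = _ := by group
    have k12 : k c1 c2 = 1 := by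
      have h := kfix c1 hc1 c3 hc3
      rw [e1, e3, kr c1 hc1 c2 hc2 c3 hc3] at h
      exact mul_eq_right.1 h
    have k13 : k c1 c3 = 1 := by
      have h := kfix c2 hc2 c3 hc3
      rw [e2, e3, kr _ (C.mul_mem hc1 hc2) c2 hc2 c3 hc3, kl c1 hc1 c2 hc2 c2 hc2, kl c1 hc1 c2 hc2 c3 hc3, k12,
        one_mul, show k c2 c2 = 1 by simp only [hk]; group, one_mul] at h
      exact mul_eq_right.1 h
    have com12 : c1 * c2 = c2 * c1 := by
      simp only [hk] at k12
      rwa [mul_inv_eq_one, mul_inv_eq_iff_eq_mul] at k12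
    have com13 : c1 * c3 = c3 * c1 := by
      simp only [hk] at k13
      rwa [mul_inv_eq_one, mul_inv_eq_iff_eq_mul] at k13
    have hsq1 : c1 * c1 = 1 := by
      have h : (c1 * c2) * (c1 * c2) = c2 * c2 := by rw [← e2, ← conj_prod]; exact hfz _ (hsq c2 hc2)
      refine (mul_eq_right (b := c2 * c2)).1 ?_
      calc c1 * c1 * (c2 * c2) = c1 * (c1 * c2) * c2 := by simp [mul_assoc]
        _ = c1 * (c2 * c1) * c2 := by rw [com12]
        _ = (c1 * c2) * (c1 * c2) := by simp [mul_assoc]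
        _ = c2 * c2 := h
    have hfy2 : (b * b) * c2 * (b * b)⁻¹ = c2 := by
      rw [hy c2, ← hc1d, ← hgd, hg1, one_mul, hsq1, one_mul]
    have hc1A : c1 ∈ A := hti.comm_mem hyA hb2 (mul_inv_eq_iff_eq_mul.1 hfy2) hb
    by_contra hne
    have hc2A : c2 ∈ A := hti.comm_mem hc1A hne com13 hb
    apply hne
    show b * c2 * b⁻¹ * c2⁻¹ = 1
    rw [hAa b hb c2 hc2A, mul_inv_cancel_right, mul_inv_cancel]
  have hit : ∀ n, f^[n] c ∈ C ∧ f^[n] c ∈ T.lowerCentralSeries n := by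
    intro n
    induction n with
    | zero => exact ⟨hc, by simpa using hCT hc⟩
    | succ n ih =>
      rw [Function.iterate_succ_apply']
      refine ⟨hfC _ ih.1, ?_⟩
      rw [Subgroup.lowerCentralSeries_succ, Subgroup.commutator_comm]
      have h := Subgroup.commutator_mem_commutator hbT ih.2
      rwa [commutatorElement_def] at h
  obtain ⟨N, hN⟩ := (isNilpotent_iff_lowerCentralSeries T).1 hT
  have hdown : ∀ j, f^[j + 2] c = 1 → f (f c) = 1 := by
    intro j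
    induction j with
    | zero => exact id
    | succ j ih =>
      intro h
      refine ih ?_
      have e : f^[j + 2] c = f (f (f^[j] c)) := by
        rw [Function.iterate_succ_apply', Function.iterate_succ_apply']
      rw [e]
      refine step _ (hit j).1 ?_
      rw [show j + 1 + 2 = j + 3 by omega, Function.iterate_succ_apply', Function.iterate_succ_apply',
        Function.iterate_succ_apply'] at h
      rw [h]
      exact Z.one_mem
  refine hdown N ?_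
  have h := (hit (N + 2)).2
  have hle : T.lowerCentralSeries (N + 2) ≤ T.lowerCentralSeries N :=
    Subgroup.lowerCentralSeries_antitone T (Nat.le_add_right N 2)
  exact mem_bot.1 (hN ▸ hle h)

/-- Commuting conjugates: the step. -/
theorem normalizes_step {A D H : Subgroup X} (hti : TI A) (hDA : D ≤ A) (hDH : D ≤ H)
    (hcomm : ∀ h ∈ H, ∀ d ∈ D, ∀ d' ∈ D, d * (h * d' * h⁻¹) = (h * d' * h⁻¹) * d)
    {f : X} (hf : f ∈ D) (hf4 : f ^ 4 = 1) (hf2 : f * f ≠ 1)
    {g : X} (hg : ∀ x, x ∈ H ↔ g * x * g⁻¹ ∈ H) {u : X} (hu : u ∈ D) {a : X} (ha : a ∈ A) :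
    (g * u * g⁻¹) * a * (g * u * g⁻¹)⁻¹ ∈ A := by
  set k := g * u * g⁻¹ with hk
  have hkH : k ∈ H := (hg u).1 (hDH hu)
  set c := f⁻¹ * (k * f * k⁻¹) with hc
  have hfc : Commute f c := by
    have h1 : Commute f (k * f * k⁻¹) := hcomm k hkH f hf f hf
    exact ((Commute.refl f).inv_right).mul_right h1
  have hkc : Commute k c := by
    have hh : g⁻¹ * f⁻¹ * g ∈ H := by
      rw [hg, show g * (g⁻¹ * f⁻¹ * g) * g⁻¹ = f⁻¹ by group]
      exact H.inv_mem (hDH hf)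
    have h1 : Commute u ((g⁻¹ * f⁻¹ * g) * u * (g⁻¹ * f⁻¹ * g)⁻¹) := hcomm _ hh u hu u hu
    have h2 := h1.map (MulAut.conj g).toMonoidHom
    simp only [MulEquiv.coe_toMonoidHom, MulAut.conj_apply] at h2
    have e : c = (g * ((g⁻¹ * f⁻¹ * g) * u * (g⁻¹ * f⁻¹ * g)⁻¹) * g⁻¹) * k⁻¹ := by rw [hc, hk]; group
    rw [e]
    exact h2.mul_right ((Commute.refl k).inv_right)
  have hconj : k * f * k⁻¹ = f * c := by rw [hc]; group
  have hkc' : k * c * k⁻¹ = c := by rw [hkc.eq, mul_inv_cancel_right]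
  have hc4 : c ^ 4 = 1 := by
    rw [hc, (show Commute f⁻¹ (k * f * k⁻¹) from (show Commute f _ from hcomm k hkH f hf f hf).inv_left).mul_pow, conj_pow,
      inv_pow, hf4]
    group
  have hk2f : (k * k) * f * (k * k)⁻¹ = f * (c * c) := by
    calc (k * k) * f * (k * k)⁻¹ = k * (k * f * k⁻¹) * k⁻¹ := by group
      _ = f * (c * c) := by rw [hconj, conj_prod, hconj, hkc', mul_assoc]
  have hk2e : (k * k) * (f * f) * (k * k)⁻¹ = f * f := by
    rw [conj_prod, hk2f]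
    calc f * (c * c) * (f * (c * c)) = f * f * ((c * c) * (c * c)) := by
          rw [mul_assoc, ← mul_assoc (c * c) f, ← (hfc.mul_right hfc).eq]; group
      _ = f * f := by rw [show (c * c) * (c * c) = c ^ 4 by simp [pow_succ, mul_assoc], hc4, mul_one]
  have h1 : (k * k) * f * (k * k)⁻¹ ∈ A :=
    hti.conj_mem (A.mul_mem (hDA hf) (hDA hf)) hf2 (by rw [hk2e]; exact A.mul_mem (hDA hf) (hDA hf)) (hDA hf)
  have hcc : c * c ∈ A := by
    rw [hk2f] at h1
    have := A.mul_mem (A.inv_mem (hDA hf)) h1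
    rwa [inv_mul_cancel_left] at this
  refine hti.conj_mem (A.mul_mem (hDA hf) (hDA hf)) hf2 ?_ ha
  rw [conj_prod, hconj, mul_assoc, ← mul_assoc c, ← hfc.eq, mul_assoc, ← mul_assoc]
  exact A.mul_mem (A.mul_mem (hDA hf) (hDA hf)) hcc

/-- Commuting conjugates under elements normalizing `H`. -/
theorem comm_of_normalizes {A D H Q : Subgroup X} (hti : TI A) (hAa : ∀ a ∈ A, ∀ a' ∈ A, a * a' = a' * a)
    (hDA : D ≤ A) (hDH : D ≤ H)
    (hcomm : ∀ h ∈ H, ∀ d ∈ D, ∀ d' ∈ D, d * (h * d' * h⁻¹) = (h * d' * h⁻¹) * d)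
    {f : X} (hf : f ∈ D) (hf4 : f ^ 4 = 1) (hf2 : f * f ≠ 1)
    {g : X} (hg : ∀ x, x ∈ H ↔ g * x * g⁻¹ ∈ H) :
    ∀ d ∈ D, ∀ d' ∈ D, d * (g * d' * g⁻¹) = (g * d' * g⁻¹) * d := by
  intro d hd d' hd'
  have hg' : ∀ x, x ∈ H ↔ g⁻¹ * x * g⁻¹⁻¹ ∈ H := fun x => by
    rw [hg (g⁻¹ * x * g⁻¹⁻¹)]
    constructor <;> intro h
    · convert h using 1; group
    · convert h using 1; group
  rcases hti g with h | h
  · have : g * d' * g⁻¹ ∈ A := h ▸ ⟨d', hDA hd', rfl⟩
    exact hAa d (hDA hd) _ this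
  · set k := g * d' * g⁻¹ with hk
    have h1 : k * d⁻¹ * k⁻¹ ∈ A := normalizes_step hti hDA hDH hcomm hf hf4 hf2 hg hd' (A.inv_mem (hDA hd))
    have h2 := normalizes_step hti hDA hDH hcomm hf hf4 hf2 hg' hd (hDA hd')
    have hm : d * k * d⁻¹ * k⁻¹ ∈ A.map (MulAut.conj g).toMonoidHom ⊓ A := by
      refine ⟨⟨_, A.mul_mem h2 (A.inv_mem (hDA hd')), ?_⟩, ?_⟩
      · show g * _ * g⁻¹ = _
        rw [hk]; group
      · rw [show d * k * d⁻¹ * k⁻¹ = d * (k * d⁻¹ * k⁻¹) by group]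
        exact A.mul_mem (hDA hd) h1
    rw [h, mem_bot, mul_inv_eq_one, mul_inv_eq_iff_eq_mul] at hm
    exact hm


/-- Let X be a finite group whose generalized Fitting subgroup equals its largest normal 2-subgroup Q, and let A be an abelian 2-subgroup of X such that every conjugate of A equals A or meets A trivially. Let B be the subgroup generated by the squares of the elements of A. Then B lies in Q, and if B is not an elementary abelian 2-group then the normal closure of B in X is commutative. -/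
theorem result {X : Type*} [Group X] [Finite X]
    (hX : Cfsg.generalizedFittingSubgroup X = Cfsg.pCore 2 X) (A : Subgroup X) (hA2 : IsPGroup 2 ↥A) (hAa : IsMulCommutative ↥A)
    (hti : ∀ h : X, A.map (MulAut.conj h).toMonoidHom = A ∨ A.map (MulAut.conj h).toMonoidHom ⊓ A = ⊥) :
    Subgroup.closure ((fun a : X => a ^ 2) '' (A : Set X)) ≤ Cfsg.pCore 2 X ∧
      (¬ Cfsg.IsElementaryAbelian 2 (Subgroup.closure ((fun a : X => a ^ 2) '' (A : Set X))) →
        IsMulCommutative ↥(Subgroup.normalClosure ((fun a : X => a ^ 2) '' (A : Set X)))) := by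
  skip
  classical
  have hAc : ∀ a ∈ A, ∀ a' ∈ A, a * a' = a' * a := fun a ha a' ha' =>
    congrArg Subtype.val (mul_comm' (⟨a, ha⟩ : A) ⟨a', ha'⟩)
  set Q := Cfsg.pCore 2 X with hQdef
  haveI : Fact (Nat.Prime 2) := ⟨Nat.prime_two⟩
  have hQp : IsPGroup 2 Q := Cfsg.Agent.Solv.isPGroup_pCore 2 X
  haveI hQn : Q.Normal := by haveI := Cfsg.Agent.Solv.pCore_characteristic 2 X; infer_instance
  have hCQ : Subgroup.centralizer (Q : Set X) ≤ Q := Cfsg.Agent.Local.CharPB.fstar_eq_pCore_iff.1 hX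
  obtain ⟨C₀, hC1, hC2, hC3, hC4⟩ := Cfsg.Agent.Fusion.exists_critical hQp
  set C := C₀.map Q.subtype with hCdef
  haveI : C₀.Characteristic := hC1
  have hCQle : C ≤ Q := Subgroup.map_subtype_le _
  haveI hCn : C.Normal := inferInstance
  set Z := C ⊓ Subgroup.centralizer (C : Set X) with hZdef
  have hZn : ∀ g : X, ∀ u ∈ Z, g * u * g⁻¹ ∈ Z := fun g u hu =>
    ⟨hCn.conj_mem u hu.1 g, Subgroup.mem_centralizer_iff.2 fun v hv => by
      have h := Subgroup.mem_centralizer_iff.1 hu.2 _ (hCn.conj_mem v hv g⁻¹)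
      calc v * (g * u * g⁻¹) = g * ((g⁻¹ * v * g⁻¹⁻¹) * u) * g⁻¹ := by group
        _ = g * (u * (g⁻¹ * v * g⁻¹⁻¹)) * g⁻¹ := by rw [h]
        _ = g * u * g⁻¹ * v := by group⟩
  have hcen : ∀ z ∈ Z, ∀ u ∈ C, z * u = u * z := fun z hz u hu =>
    (Subgroup.mem_centralizer_iff.1 hz.2 u hu).symm
  have hsqC : ∀ u ∈ C, u * u ∈ Z := by
    rintro _ ⟨u, hu, rfl⟩
    refine ⟨C.mul_mem ⟨u, hu, rfl⟩ ⟨u, hu, rfl⟩, Subgroup.mem_centralizer_iff.2 ?_⟩
    rintro _ ⟨v, hv, rfl⟩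
    have h := congrArg Subtype.val (hC2 u hu v hv)
    simp only [Subgroup.coe_mul, SubmonoidClass.coe_pow, sq] at h
    exact h.symm
  have hcom : ∀ u ∈ C, ∀ v ∈ C, u * v * u⁻¹ * v⁻¹ ∈ Z := by
    rintro _ ⟨u, hu, rfl⟩ _ ⟨v, hv, rfl⟩
    obtain ⟨h1, h2⟩ := hC3 u hu v
    refine ⟨⟨⁅u, v⁆, h1, by simp [commutatorElement_def]⟩, Subgroup.mem_centralizer_iff.2 ?_⟩
    rintro _ ⟨w, hw, rfl⟩
    have h := congrArg Subtype.val (h2 w hw)
    simp only [commutatorElement_def, Subgroup.coe_mul, InvMemClass.coe_inv] at h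
    exact h.symm
  let K : Subgroup X :=
    { carrier := {g | (∀ z ∈ Z, z ^ 2 = 1 → g * z * g⁻¹ = z) ∧ ∀ u ∈ C, g * u * g⁻¹ * u⁻¹ ∈ Z}
      one_mem' := ⟨fun z _ _ => by group, fun u _ => by simp⟩
      mul_mem' := by
        rintro g h ⟨g1, g2⟩ ⟨h1, h2⟩
        refine ⟨fun z hz hz2 => ?_, fun u hu => ?_⟩
        · calc g * h * z * (g * h)⁻¹ = g * (h * z * h⁻¹) * g⁻¹ := by group
            _ = z := by rw [h1 z hz hz2, g1 z hz hz2]
        · have e : g * h * u * (g * h)⁻¹ * u⁻¹ = (g * (h * u * h⁻¹ * u⁻¹) * g⁻¹) * (g * u * g⁻¹ * u⁻¹) := by group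
          rw [e]
          exact Z.mul_mem (hZn g _ (h2 u hu)) (g2 u hu)
      inv_mem' := by
        rintro g ⟨g1, g2⟩
        refine ⟨fun z hz hz2 => ?_, fun u hu => ?_⟩
        · conv_lhs => rw [← g1 z hz hz2]
          group
        · have e : g⁻¹ * u * g⁻¹⁻¹ * u⁻¹ = g⁻¹ * (g * u * g⁻¹ * u⁻¹)⁻¹ * g⁻¹⁻¹ := by group
          rw [e]
          exact hZn _ _ (Z.inv_mem (g2 u hu)) }
  haveI hKn : K.Normal := ⟨fun k hk x => by
    refine ⟨fun z hz hz2 => ?_, fun u hu => ?_⟩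
    · have h1 := hk.1 _ (hZn x⁻¹ z hz) (by rw [conj_pow, hz2]; group)
      calc x * k * x⁻¹ * z * (x * k * x⁻¹)⁻¹ = x * (k * (x⁻¹ * z * x⁻¹⁻¹) * k⁻¹) * x⁻¹ := by group
        _ = z := by rw [h1]; group
    · have h2 := hZn x _ (hk.2 _ (hCn.conj_mem u hu x⁻¹))
      convert h2 using 1
      group⟩
  have hK2 : IsPGroup 2 K := by
    refine Cfsg.Agent.Local.CharPB.isPGroup_of_forall_eq_one fun g hg ho => ?_
    have hcop : ∀ w : X, w ^ (orderOf g) = 1 → ∀ e : ℕ, w ^ 2 ^ e = 1 → w = 1 := fun w h1 e h2 => by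
      have h3 := Nat.dvd_gcd (orderOf_dvd_of_pow_eq_one h1) (orderOf_dvd_of_pow_eq_one h2)
      rw [(ho.pow_right e).gcd_eq_one, Nat.dvd_one, orderOf_eq_one_iff] at h3
      exact h3
    have hpw : ∀ z w : X, g * z * g⁻¹ = w * z → g * w * g⁻¹ = w → ∀ n : ℕ, g ^ n * z * (g ^ n)⁻¹ = w ^ n * z := by
      intro z w h1 h2 n
      induction n with
      | zero => simp
      | succ n ih =>
        calc g ^ (n + 1) * z * (g ^ (n + 1))⁻¹ = g * (g ^ n * z * (g ^ n)⁻¹) * g⁻¹ := by rw [pow_succ']; group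
          _ = g * (w ^ n * z) * g⁻¹ := by rw [ih]
          _ = (g * w * g⁻¹) ^ n * (g * z * g⁻¹) := by rw [conj_pow]; group
          _ = w ^ (n + 1) * z := by rw [h1, h2, ← mul_assoc, ← pow_succ]
    have hconc : ∀ z w : X, g * z * g⁻¹ = w * z → g * w * g⁻¹ = w → (∃ e : ℕ, w ^ 2 ^ e = 1) → g * z * g⁻¹ = z := by
      rintro z w h1 h2 ⟨e, he⟩
      have h3 := hpw z w h1 h2 (orderOf g)
      rw [pow_orderOf_eq_one, one_mul, inv_one, mul_one, eq_comm, mul_eq_right] at h3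
      rw [h1, hcop w h3 e he, one_mul]
    have hQpow : ∀ z ∈ Q, ∃ e : ℕ, z ^ 2 ^ e = 1 := fun z hz => by
      obtain ⟨e, he⟩ := hQp ⟨z, hz⟩
      exact ⟨e, congrArg Subtype.val he⟩
    have hgZ : ∀ e : ℕ, ∀ z ∈ Z, z ^ 2 ^ e = 1 → g * z * g⁻¹ = z := by
      intro e
      induction e with
      | zero => intro z _ h; rw [pow_zero, pow_one] at h; rw [h]; group
      | succ e ih =>
        intro z hz he
        have h2 := ih (z ^ 2) (Z.pow_mem hz 2) (by rw [← pow_mul, ← pow_succ']; exact he)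
        set w := g * z * g⁻¹ * z⁻¹ with hw
        have hwZ : w ∈ Z := Z.mul_mem (hZn g z hz) (Z.inv_mem hz)
        have hw2 : w ^ 2 = 1 := by
          rw [hw, (show Commute (g * z * g⁻¹) z⁻¹ from
            hcen _ (hZn g z hz) _ (C.inv_mem hz.1)).mul_pow, conj_pow, h2, inv_pow, mul_inv_cancel]
        exact hconc z w (by rw [hw]; group) (hg.1 w hwZ hw2) ⟨1, by rw [pow_one]; exact hw2⟩
    have hgC : ∀ u ∈ C, g * u * g⁻¹ = u := fun u hu => by
      have hw := hg.2 u hu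
      obtain ⟨e, he⟩ := hQpow _ (hCQle hw.1)
      exact hconc u (g * u * g⁻¹ * u⁻¹) (by group) (hgZ e _ hw he) ⟨e, he⟩
    let α : MulAut Q := MulAut.conjNormal g
    have hαn : α ^ orderOf g = 1 := by
      show (MulAut.conjNormal g) ^ orderOf g = 1
      rw [← map_pow, pow_orderOf_eq_one, map_one]
    have hfr : (frattini C₀).map C₀.subtype ≤ Subgroup.centralizer (C₀ : Set Q) :=
      Cfsg.Agent.Fusion.frattini_le_centralizer hQp hC2 hC3
    have hα1 : α = 1 := by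
      refine S0121.result hQp C₀ hC1 hfr ?_ hC4 α (ho.coprime_dvd_left (orderOf_dvd_of_pow_eq_one hαn)) ?_
      · rw [Subgroup.commutator_le]
        exact fun a ha q _ => ⟨(hC3 a ha q).1, Subgroup.mem_centralizer_iff.2 fun v hv => ((hC3 a ha q).2 v hv).symm⟩
      · intro x hx
        exact Subtype.ext ((MulAut.conjNormal_apply g x).trans (hgC _ ⟨x, hx, rfl⟩))
    have hgQ : g ∈ Subgroup.centralizer (Q : Set X) := Subgroup.mem_centralizer_iff.2 fun q hq => by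
      have h := congrArg Subtype.val (DFunLike.congr_fun hα1 ⟨q, hq⟩)
      rw [MulAut.conjNormal_apply, MulAut.one_apply] at h
      rw [mul_inv_eq_iff_eq_mul] at h
      exact h.symm
    obtain ⟨e, he⟩ := hQpow g (hCQ hgQ)
    exact hcop g (pow_orderOf_eq_one g) e he
  have hKQ : K ≤ Q := Cfsg.Agent.Solv.le_pCore hK2
  have hZc : ∀ u ∈ Z, ∀ v ∈ Z, u * v = v * u := fun u hu v hv => hcen u hu v hv.1
  have hZ2 : IsPGroup 2 Z := hQp.to_le (inf_le_left.trans hCQle)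
  have hT : IsPGroup 2 ↥(Q ⊔ A : Subgroup X) := hQp.to_sup_of_normal_left hA2
  haveI hTn : Group.IsNilpotent ↥(Q ⊔ A : Subgroup X) := hT.isNilpotent
  have hsqQ : ∀ b ∈ A, b ^ 2 ∈ Q := by
    intro b hb
    by_cases hb2 : b * b = 1
    · rw [sq, hb2]; exact Q.one_mem
    have hl := abelian_layer hti hAc hA2 Z hZc hZn hZ2 hb hb2
    rw [sq]
    refine hKQ ⟨hl.1, fun u hu => ?_⟩
    exact classTwo_layer hti hAc C Z (fun g u hu => hCn.conj_mem u hu g) inf_le_left hcen hsqC hcom hTn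
      (hCQle.trans le_sup_left) hb (Subgroup.mem_sup_right hb) hb2 hl.2 u hu
  refine ⟨(Subgroup.closure_le _).2 ?_, fun hne => ?_⟩
  · rintro _ ⟨b, hb, rfl⟩
    exact hsqQ b hb
  set D := A ⊓ Q with hD
  have hsD : ∀ x ∈ (fun a : X => a ^ 2) '' (A : Set X), x ∈ D := by
    rintro _ ⟨b, hb, rfl⟩
    exact ⟨A.pow_mem hb 2, hsqQ b hb⟩
  obtain ⟨f, hf, hf4, hf2⟩ : ∃ f ∈ D, f ^ 4 = 1 ∧ f * f ≠ 1 := by
    by_contra hcon
    push Not at hcon
    have hall : ∀ e : ℕ, ∀ x ∈ D, x ^ 2 ^ e = 1 → x * x = 1 := by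
      intro e
      induction e with
      | zero => intro x _ h; rw [pow_zero, pow_one] at h; rw [h, one_mul]
      | succ e ih =>
        intro x hx he
        refine hcon x hx ?_
        have h := ih (x ^ 2) (D.pow_mem hx 2) (by rw [← pow_mul, ← pow_succ']; exact he)
        rw [← h]; group
    apply hne
    have hle : Subgroup.closure ((fun a : X => a ^ 2) '' (A : Set X)) ≤ D := (Subgroup.closure_le _).2 hsD
    refine ⟨⟨⟨fun x y => Subtype.ext (hAc _ (hle x.2).1 _ (hle y.2).1)⟩⟩, fun x hx => ?_⟩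
    obtain ⟨e, he⟩ := hQp ⟨x, (hle hx).2⟩
    rw [sq]
    exact hall e x (hle hx) (congrArg Subtype.val he)
  have key : ∀ n, ∀ H : Subgroup X, Nat.card H = n → D ≤ H → H ≤ Q →
      ∀ h ∈ H, ∀ d ∈ D, ∀ d' ∈ D, d * (h * d' * h⁻¹) = (h * d' * h⁻¹) * d := by
    intro n
    induction n using Nat.strong_induction_on with
    | _ n ih =>
    intro H hn hDH hHQ h hh d hd d' hd'
    rcases eq_or_ne (D.subgroupOf H) ⊤ with htop | htop
    · have hhD : h ∈ D := Subgroup.subgroupOf_eq_top.1 htop hh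
      exact hAc d hd.1 _ (A.mul_mem (A.mul_mem hhD.1 hd'.1) (A.inv_mem hhD.1))
    · obtain ⟨M₀, hM₀, hle⟩ := (eq_top_or_exists_le_coatom _).resolve_left htop
      haveI : M₀.Normal := Cfsg.Agent.Solv.coatom_normal_of_isNilpotent ((hQp.to_le hHQ).isNilpotent) M₀ hM₀
      set M := M₀.map H.subtype with hM
      have hDM : D ≤ M := fun x hx => ⟨⟨x, hDH hx⟩, hle (Subgroup.mem_subgroupOf.2 hx), rfl⟩
      have hMH : M ≤ H := Subgroup.map_subtype_le _
      have hlt : Nat.card M < n := by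
        rw [← hn, hM, Subgroup.card_map_of_injective H.subtype_injective]
        refine lt_of_le_of_ne (Nat.le_of_dvd Nat.card_pos M₀.card_subgroup_dvd_card) fun e => hM₀.1 ?_
        exact Subgroup.eq_top_of_card_eq _ e
      have hIH := ih _ hlt M rfl hDM (hMH.trans hHQ)
      have hg : ∀ x, x ∈ M ↔ h * x * h⁻¹ ∈ M := by
        have key2 : ∀ k ∈ H, ∀ x ∈ M, k * x * k⁻¹ ∈ M := by
          rintro k hk _ ⟨x, hx, rfl⟩
          exact ⟨⟨k, hk⟩ * x * ⟨k, hk⟩⁻¹, Subgroup.Normal.conj_mem inferInstance x hx _, rfl⟩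
        refine fun x => ⟨key2 h hh x, fun hx => ?_⟩
        have := key2 h⁻¹ (H.inv_mem hh) _ hx
        convert this using 1
        group
      exact comm_of_normalizes (Q := Q) hti hAc inf_le_left hDM hIH hf hf4 hf2 hg d hd d' hd'
  have hQg : ∀ g x : X, x ∈ Q ↔ g * x * g⁻¹ ∈ Q := fun g x => ⟨fun hx => hQn.conj_mem x hx g, fun hx => by
    have := hQn.conj_mem _ hx g⁻¹
    convert this using 1
    group⟩
  have hall : ∀ g, ∀ d ∈ D, ∀ d' ∈ D, d * (g * d' * g⁻¹) = (g * d' * g⁻¹) * d := fun g =>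
    comm_of_normalizes (Q := Q) hti hAc inf_le_left inf_le_right (key _ Q rfl inf_le_right le_rfl) hf hf4 hf2 (hQg g)
  refine Subgroup.isMulCommutative_closure fun x hx y hy => ?_
  rw [Group.mem_conjugatesOfSet_iff] at hx hy
  obtain ⟨a, ha, hax⟩ := hx
  obtain ⟨a', ha', hay⟩ := hy
  obtain ⟨u, rfl⟩ := isConj_iff.1 hax
  obtain ⟨v, rfl⟩ := isConj_iff.1 hay
  have h := congrArg (fun t => u * t * u⁻¹) (hall (u⁻¹ * v) a (hsD a ha) a' (hsD a' ha'))
  calc u * a * u⁻¹ * (v * a' * v⁻¹) = u * (a * (u⁻¹ * v * a' * (u⁻¹ * v)⁻¹)) * u⁻¹ := by group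
    _ = u * ((u⁻¹ * v * a' * (u⁻¹ * v)⁻¹) * a) * u⁻¹ := h
    _ = v * a' * v⁻¹ * (u * a * u⁻¹) := by group

end Cfsg.Agent.S1783
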