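import Cfsg.Statements.S1784
import Cfsg.Agent.Lib.Local.FStar
import Cfsg.Agent.Lib.Struct.RankBound
import Cfsg.Agent.Lib.Perm.GeneratingTuples
-- import your own Cfsg.Agent.* helpers here

set_option autoImplicit false
open Cfsg

namespace Cfsg.Agent.S1784
open Subgroup
open scoped commutatorElement

theorem bound {E : Type*} [Group E] [Finite E] (hP : IsPGroup 2 E) (hfr : frattini E = center E)
    (hZ : Nat.card (center E) = 2) (K : Subgroup E) (hK : center E ≤ K) :
    Nat.card (centralizer (K : Set E)) * Nat.card K ≤ 2 * Nat.card E := by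
  haveI : Fact (Nat.Prime 2) := ⟨Nat.prime_two⟩
  obtain ⟨H, ⟨hKH, hH⟩, hmax⟩ := (Set.toFinite {H : Subgroup E | K ≤ H ∧
      Nat.card (centralizer (K : Set E)) * Nat.card K ≤ Nat.card (centralizer (H : Set E)) * Nat.card H}).exists_maximal
    ⟨K, le_rfl, le_rfl⟩
  by_cases hT : H = ⊤
  · subst hT
    rw [coe_top, centralizer_univ, hZ, card_top] at hH
    exact hH
  obtain ⟨x, -, hx⟩ := SetLike.exists_of_lt (lt_top_iff_ne_top.2 hT)
  refine absurd (hmax (y := H ⊔ zpowers x) ⟨hKH.trans le_sup_left, hH.trans ?_⟩ le_sup_left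
    (mem_sup_right (mem_zpowers x))) hx
  have hc : Nat.card ↥(H ⊔ zpowers x) = 2 * Nat.card H :=
    Cfsg.Agent.Perm.card_sup_zpowers hP (hfr.le.trans (hK.trans hKH)) hx
  have hle : centralizer (H : Set E) ⊓ centralizer ({x} : Set E) ≤
      centralizer ((H ⊔ zpowers x : Subgroup E) : Set E) := by
    intro g hg
    have h1 : H ⊔ zpowers x ≤ centralizer ({g} : Set E) := sup_le
      (fun h hh => mem_centralizer_singleton_iff.2 ((mem_centralizer_iff.1 hg.1 h hh)))
      (zpowers_le.2 (mem_centralizer_singleton_iff.2 (mem_centralizer_singleton_iff.1 hg.2).symm))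
    exact mem_centralizer_iff.2 fun h hh => mem_centralizer_singleton_iff.1 (h1 hh)
  have hi := Cfsg.Agent.Struct.RankBound.index_centralizer_singleton_le (p := 2) hP x
  rw [hfr, hZ] at hi
  have h2 : Nat.card (centralizer (H : Set E)) ≤
      2 * Nat.card ↥(centralizer (H : Set E) ⊓ centralizer ({x} : Set E)) := by
    have e1 := relIndex_mul_relIndex ⊥ (centralizer (H : Set E) ⊓ centralizer ({x} : Set E))
      (centralizer (H : Set E)) bot_le inf_le_left
    rw [relIndex_bot_left, relIndex_bot_left, inf_relIndex_left] at e1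
    have e2 : (centralizer ({x} : Set E)).relIndex (centralizer (H : Set E)) ≤ 2 := by
      refine le_trans ?_ hi
      rw [← relIndex_top_right (centralizer ({x} : Set E))]
      exact relIndex_le_of_le_right (le_top : centralizer (H : Set E) ≤ ⊤)
        (by rw [relIndex_top_right]; exact index_ne_zero_of_finite)
    nlinarith
  rw [hc]
  have := Subgroup.card_le_of_le hle
  nlinarith

theorem sympl {E : Type*} [Group E] [Finite E] (hE : Cfsg.IsExtraspecial 2 E) (a : MulAut E)
    (ha2 : ∀ x, a (a x) = x) (ha : ∃ x, a x ≠ x) (z : E) (hz : z ∈ center E) (hz1 : z ≠ 1)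
    (Q₀ : Subgroup E) (hQ₀ : ∀ q, q ∈ Q₀ ↔ a q * q⁻¹ ∈ zpowers z) :
    Subgroup.closure (Set.range fun q => a q * q⁻¹) = (center ↥Q₀).map Q₀.subtype ∧
    (∀ q ∈ Q₀, a q * q⁻¹ = 1 ∨ a q * q⁻¹ = z) := by
  classical
  haveI : Fact (Nat.Prime 2) := ⟨Nat.prime_two⟩
  obtain ⟨⟨hP, hfr, -⟩, hZ⟩ := hE
  obtain ⟨hpow, hcom⟩ := Cfsg.Agent.Perm.frattini_facts hP
  have hzo : orderOf z = 2 := by
    have h1 : z ^ 2 = 1 := by
      have := pow_card_eq_one' (x := (⟨z, hz⟩ : center E))
      rw [hZ] at this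
      simpa using congrArg Subtype.val this
    exact orderOf_eq_prime h1 hz1
  have hzZ : zpowers z = center E :=
    eq_of_le_of_card_ge (zpowers_le.2 hz) (by rw [hZ, Nat.card_zpowers, hzo])
  have hZcases : ∀ c ∈ center E, c = 1 ∨ c = z := by
    intro c hc
    rw [← hzZ] at hc
    obtain ⟨k, rfl⟩ := mem_zpowers_iff.1 hc
    rw [← zpow_mod_orderOf, hzo]
    rcases Int.emod_two_eq k with h | h <;> simp [h]
  have haZ : ∀ c ∈ center E, a c = c := by
    intro c hc
    have hc' : a c ∈ center E := mem_center_iff.2 fun g => by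
      obtain ⟨g, rfl⟩ := a.surjective g
      rw [← map_mul, ← map_mul, mem_center_iff.1 hc g]
    rcases hZcases c hc with rfl | rfl
    · exact map_one a
    · rcases hZcases _ hc' with h | h
      · exact absurd (a.injective (h.trans (map_one a).symm)) hz1
      · exact h
  set w : E → E := fun q => a q * q⁻¹ with hw
  have hmem : ∀ q, w q ∈ Q₀ := by
    intro q
    rw [hQ₀, hzZ]
    have e : a (w q) * (w q)⁻¹ = ((w q)⁻¹) ^ 2 := by
      simp only [hw, map_mul, map_inv, ha2, pow_two]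
      group
    rw [e, ← hfr]
    exact hpow _
  have hcomm2 : ∀ x y : E, ⁅x, y⁆ ∈ center E := fun x y =>
    hfr ▸ hcom (commutator_mem_commutator (mem_top x) (mem_top y))
  have hcent : ∀ q, ∀ r ∈ Q₀, w q * r = r * w q := by
    intro q r hr
    rw [← commutatorElement_eq_one_iff_mul_comm]
    rw [hQ₀, hzZ] at hr
    have h1 : ⁅a q, a r⁆ = ⁅q, r⁆ := by
      rw [← map_commutatorElement]; exact haZ _ (hcomm2 q r)
    have h2 : ⁅a q, r⁆ = ⁅a q, a r⁆ := by
      have e : a r = (a r * r⁻¹) * r := by group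
      rw [e, commutatorElement_def, commutatorElement_def]
      set c := a r * r⁻¹
      calc a q * r * (a q)⁻¹ * r⁻¹ = (c * c⁻¹) * (a q * r * (a q)⁻¹ * r⁻¹) := by group
        _ = c * (a q * r * (a q)⁻¹ * r⁻¹) * c⁻¹ := by
          rw [mul_assoc, ← mem_center_iff.1 (inv_mem hr) (a q * r * (a q)⁻¹ * r⁻¹), ← mul_assoc]
        _ = (c * a q) * r * (a q)⁻¹ * r⁻¹ * c⁻¹ := by group
        _ = (a q * c) * r * (a q)⁻¹ * r⁻¹ * c⁻¹ := by rw [(mem_center_iff.1 hr (a q)).symm]
        _ = _ := by group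
    have h3 : ⁅q⁻¹, r⁆ = ⁅q, r⁆⁻¹ := by
      have e : ⁅q⁻¹, r⁆ = q⁻¹ * ⁅q, r⁆⁻¹ * q := by simp only [commutatorElement_def]; group
      rw [e, mul_assoc, ← mem_center_iff.1 (inv_mem (hcomm2 q r)) q, inv_mul_cancel_left]
    have e : ⁅w q, r⁆ = a q * ⁅q⁻¹, r⁆ * (a q)⁻¹ * ⁅a q, r⁆ := by
      simp only [hw, commutatorElement_def]; group
    rw [e, mem_center_iff.1 (hcomm2 q⁻¹ r) (a q), mul_inv_cancel_right, h3, h2, h1, inv_mul_cancel]
  set C := Subgroup.closure (Set.range w) with hC
  have hCQ : C ≤ Q₀ := (closure_le _).2 (by rintro _ ⟨q, rfl⟩; exact hmem q)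
  have hCc : ∀ c ∈ C, ∀ r ∈ Q₀, c * r = r * c := by
    intro c hc r hr
    have hle : C ≤ centralizer ({r} : Set E) := (closure_le _).2 (by
      rintro _ ⟨q, rfl⟩
      exact mem_centralizer_singleton_iff.2 (hcent q r hr))
    exact mem_centralizer_singleton_iff.1 (hle hc)
  have hwC : ∀ q, w q ∈ C := fun q => subset_closure ⟨q, rfl⟩
  have hzC : z ∈ C := by
    obtain ⟨x, hx⟩ := ha
    have hw1 : w x ≠ 1 := fun h => hx (mul_inv_eq_one.1 h)
    by_cases hc : w x ∈ center E
    · rcases hZcases _ hc with h | h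
      · exact absurd h hw1
      · exact h ▸ hwC x
    · obtain ⟨q, hq⟩ : ∃ q, q * w x ≠ w x * q := by
        by_contra h
        push Not at h
        exact hc (mem_center_iff.2 h)
      rcases hZcases _ (hcomm2 q (w x)) with h | h
      · exact absurd (commutatorElement_eq_one_iff_mul_comm.1 h) hq
      · have e : w (q * x) = a q * w x * q⁻¹ := by simp only [hw, map_mul, mul_inv_rev]; group
        have e2 : ⁅q, w x⁆ = (w q)⁻¹ * w (q * x) * (w x)⁻¹ := by
          rw [e]; simp only [hw, commutatorElement_def]; group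
        rw [← h, e2]
        exact mul_mem (mul_mem (inv_mem (hwC q)) (hwC _)) (inv_mem (hwC x))
  have hZC : center E ≤ C := hzZ ▸ zpowers_le.2 hzC
  refine ⟨le_antisymm (fun c hc => ⟨⟨c, hCQ hc⟩, mem_center_iff.2 fun r => Subtype.ext (hCc c hc r r.2).symm, rfl⟩)
    ?_, fun q hq => hZcases _ (hzZ ▸ (hQ₀ q).1 hq)⟩
  -- counting
  haveI hZn : (center E).Normal := inferInstance
  let ψ : E →* E ⧸ center E := MonoidHom.mk' (fun q => QuotientGroup.mk' (center E) (w q)) (fun q r => by
    rw [← map_mul, QuotientGroup.mk'_apply, QuotientGroup.mk'_apply, QuotientGroup.eq]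
    have e : (w (q * r))⁻¹ * (w q * w r) = (a q * w r * q⁻¹)⁻¹ * (w q * w r) := by
      simp only [hw, map_mul, mul_inv_rev]; group
    rw [e]
    have e2 : (a q * w r * q⁻¹)⁻¹ * (w q * w r) = ⁅q, (w r)⁻¹⁆ := by
      simp only [hw, commutatorElement_def]; group
    rw [e2]
    exact hcomm2 _ _)
  have hker : ψ.ker = Q₀ := by
    ext q
    rw [MonoidHom.mem_ker, hQ₀, hzZ]
    exact QuotientGroup.eq_one_iff _
  have hrange : ψ.range ≤ C.map (QuotientGroup.mk' (center E)) := by
    rintro _ ⟨q, rfl⟩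
    exact mem_map_of_mem _ (hwC q)
  have h1 := Q₀.card_mul_index
  rw [← hker, index_ker, hker] at h1
  have h2 := Subgroup.card_le_of_le hrange
  have h3 : Nat.card (C.map (QuotientGroup.mk' (center E))) * 2 = Nat.card C := by
    have e2 := relIndex_mul_relIndex ⊥ (center E) C bot_le hZC
    rw [relIndex_bot_left, relIndex_bot_left, hZ] at e2
    have e3 : ((QuotientGroup.mk' (center E)).ker).relIndex C = (center E).relIndex C := by rw [QuotientGroup.ker_mk']
    rw [← e2, mul_comm]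
    congr 1
    rw [← e3, relIndex_ker]
  set Z₀ := (center ↥Q₀).map Q₀.subtype with hZ₀
  have hZQ : center E ≤ Q₀ := hZC.trans hCQ
  have h4 : Z₀ ≤ centralizer (Q₀ : Set E) := by
    rintro _ ⟨c, hc, rfl⟩
    exact mem_centralizer_iff.2 fun r hr => congrArg Subtype.val (mem_center_iff.1 hc ⟨r, hr⟩)
  have h5 := bound hP hfr hZ Q₀ hZQ
  have h6 := Subgroup.card_le_of_le h4
  have hCle : C ≤ Z₀ := fun c hc => ⟨⟨c, hCQ hc⟩, mem_center_iff.2 fun r => Subtype.ext (hCc c hc r r.2).symm, rfl⟩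
  refine (eq_of_le_of_card_ge hCle ?_).ge
  have hpos : 0 < Nat.card Q₀ := Nat.card_pos
  nlinarith


/-- Let G be a finite group and let z be an involution of G such that Q, the generalized Fitting subgroup of the centralizer C of z, is a 2-group of symplectic type (every characteristic abelian subgroup of Q is cyclic); suppose Q is extraspecial, and view Q inside G. Let α be an involution of C that is not in Q, and let Q₀ be the subgroup of those q ∈ Q whose commutator with α lies in the subgroup generated by z. Then (a) the subgroup generated by the commutators α q α⁻¹ q⁻¹, q ∈ Q, equals the centre of Q₀; and (b) if Q₀ is not contained in the product of the centralizer of α in Q with the subgroup generated by z, then some element of Q conjugates α to α z. -/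
theorem result {G : Type*} [Group G] [Finite G] (z : G) (hz : orderOf z = 2) (hQ : Cfsg.IsOfSymplecticType ↥(Cfsg.generalizedFittingSubgroup ↥(Subgroup.centralizer ({z} : Set G)))) (hE : Cfsg.IsExtraspecial 2 ↥(Cfsg.generalizedFittingSubgroup ↥(Subgroup.centralizer ({z} : Set G))))
    (α : G) (hα : orderOf α = 2) (hαC : α ∈ Subgroup.centralizer ({z} : Set G)) (hαQ : α ∉ (Cfsg.generalizedFittingSubgroup ↥(Subgroup.centralizer ({z} : Set G))).map (Subgroup.centralizer ({z} : Set G)).subtype)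
    (Q₀ : Subgroup G) (hQ₀ : ∀ q : G, q ∈ Q₀ ↔ (q ∈ (Cfsg.generalizedFittingSubgroup ↥(Subgroup.centralizer ({z} : Set G))).map (Subgroup.centralizer ({z} : Set G)).subtype ∧ α * q * α⁻¹ * q⁻¹ ∈ Subgroup.zpowers z)) :
    Subgroup.closure ((fun q : G => α * q * α⁻¹ * q⁻¹) '' ((Cfsg.generalizedFittingSubgroup ↥(Subgroup.centralizer ({z} : Set G))).map (Subgroup.centralizer ({z} : Set G)).subtype : Set G)) = (Subgroup.center ↥Q₀).map Q₀.subtype ∧
      (¬ Q₀ ≤ ((Cfsg.generalizedFittingSubgroup ↥(Subgroup.centralizer ({z} : Set G))).map (Subgroup.centralizer ({z} : Set G)).subtype ⊓ Subgroup.centralizer ({α} : Set G)) ⊔ Subgroup.zpowers z →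
        ∃ q ∈ (Cfsg.generalizedFittingSubgroup ↥(Subgroup.centralizer ({z} : Set G))).map (Subgroup.centralizer ({z} : Set G)).subtype, q * α * q⁻¹ = α * z) := by
  skip
  classical
  haveI : Fact (Nat.Prime 2) := ⟨Nat.prime_two⟩
  set H := Subgroup.centralizer ({z} : Set G) with hH
  set F := Cfsg.generalizedFittingSubgroup ↥H with hF
  set Q := F.map H.subtype with hQdef
  have hzH : z ∈ H := mem_centralizer_singleton_iff.2 rfl
  haveI : F.Normal := by
    rw [hF]
    haveI : (Cfsg.layer ↥H).Normal := Cfsg.Agent.Local.layer_normal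
    exact Subgroup.sup_normal _ _
  have hzc : (⟨z, hzH⟩ : H) ∈ center H := mem_center_iff.2 fun g =>
    Subtype.ext (mem_centralizer_singleton_iff.1 g.2)
  have hzF : (⟨z, hzH⟩ : H) ∈ F :=
    Cfsg.Agent.Local.centralizer_generalizedFitting_le (mem_centralizer_iff.2 fun y _ => mem_center_iff.1 hzc y)
  let act : MulAut F := MulAut.conjNormal ⟨α, hαC⟩
  have hact : ∀ x : F, ((act x : H) : G) = α * ((x : H) : G) * α⁻¹ := fun x => rfl
  have hα2 : α * α = 1 := by
    have := pow_orderOf_eq_one α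
    rwa [hα, pow_two] at this
  let Q₁ : Subgroup F :=
    { carrier := {q | ((q : H) : G) ∈ Q₀}
      one_mem' := one_mem Q₀
      mul_mem' := fun a b => Q₀.mul_mem a b
      inv_mem' := fun a => Q₀.inv_mem a }
  have hQ₁ : ∀ q : F, q ∈ Q₁ ↔ act q * q⁻¹ ∈ zpowers (⟨⟨z, hzH⟩, hzF⟩ : F) := by
    intro q
    show ((q : H) : G) ∈ Q₀ ↔ _
    rw [hQ₀]
    constructor
    · rintro ⟨-, hk⟩
      obtain ⟨k, hk⟩ := mem_zpowers_iff.1 hk
      exact mem_zpowers_iff.2 ⟨k, Subtype.ext (Subtype.ext (by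
        push_cast
        exact hk))⟩
    · intro h
      obtain ⟨k, hk⟩ := mem_zpowers_iff.1 h
      refine ⟨mem_map_of_mem _ q.2, mem_zpowers_iff.2 ⟨k, ?_⟩⟩
      have := congrArg (fun x : F => ((x : H) : G)) hk
      push_cast at this
      exact this
  obtain ⟨m1, m2⟩ := sympl hE act (fun x => Subtype.ext (Subtype.ext (by
      rw [hact, hact]
      calc α * (α * ((x : H) : G) * α⁻¹) * α⁻¹ = (α * α) * ((x : H) : G) * (α * α)⁻¹ := by group
        _ = _ := by rw [hα2]; group))) (by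
      by_contra hall
      push Not at hall
      refine hαQ ⟨⟨α, hαC⟩, Cfsg.Agent.Local.centralizer_generalizedFitting_le (mem_centralizer_iff.2 fun y hy => ?_), rfl⟩
      apply Subtype.ext
      have h := congrArg (fun x : F => ((x : H) : G)) (hall ⟨y, hy⟩)
      rw [hact] at h
      exact ((mul_inv_eq_iff_eq_mul).1 h).symm)
    ⟨⟨z, hzH⟩, hzF⟩ (mem_center_iff.2 fun y => Subtype.ext (mem_center_iff.1 hzc y))
    (fun h => by
      have := congrArg (fun x : F => ((x : H) : G)) h
      simp only [OneMemClass.coe_one] at this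
      rw [this, orderOf_one] at hz
      norm_num at hz) Q₁ hQ₁
  let j : F →* G := H.subtype.comp F.subtype
  have hQ₀Q : ∀ q ∈ Q₀, ∃ y : F, j y = q := fun q hq => by
    obtain ⟨y, hy, e⟩ := ((hQ₀ q).1 hq).1
    exact ⟨⟨y, hy⟩, e⟩
  constructor
  · have himg : (fun q : G => α * q * α⁻¹ * q⁻¹) '' (Q : Set G) = j '' (Set.range fun q => act q * q⁻¹) := by
      ext x
      constructor
      · rintro ⟨_, ⟨q, hq, rfl⟩, rfl⟩
        exact ⟨_, ⟨⟨q, hq⟩, rfl⟩, rfl⟩
      · rintro ⟨_, ⟨q, rfl⟩, rfl⟩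
        exact ⟨_, mem_map_of_mem H.subtype q.2, rfl⟩
    rw [himg, ← MonoidHom.map_closure, m1]
    ext x
    constructor
    · rintro ⟨_, ⟨c, hc, rfl⟩, rfl⟩
      refine ⟨⟨j c, c.2⟩, mem_center_iff.2 fun r => Subtype.ext ?_, rfl⟩
      obtain ⟨y, hy⟩ := hQ₀Q r r.2
      have hy1 : y ∈ Q₁ := by
        show j y ∈ Q₀
        rw [hy]; exact r.2
      have h := congrArg (fun v : Q₁ => j v) (mem_center_iff.1 hc ⟨y, hy1⟩)
      simp only [Subgroup.coe_mul, map_mul, hy] at h
      exact h
    · rintro ⟨c, hc, rfl⟩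
      obtain ⟨y, hy⟩ := hQ₀Q c c.2
      have hy1 : y ∈ Q₁ := by
        show j y ∈ Q₀
        rw [hy]; exact c.2
      refine ⟨y, ⟨⟨y, hy1⟩, mem_center_iff.2 fun r => Subtype.ext (Subtype.ext (Subtype.ext ?_)), rfl⟩, hy⟩
      have h := congrArg Subtype.val (mem_center_iff.1 hc ⟨j r, r.2⟩)
      simp only [Subgroup.coe_mul, ← hy] at h
      exact h
  · intro hnot
    obtain ⟨q, hq, hqn⟩ := SetLike.not_le_iff_exists.1 hnot
    obtain ⟨y, hy⟩ := hQ₀Q q hq
    have hy1 : y ∈ Q₁ := by
      show j y ∈ Q₀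
      rw [hy]; exact hq
    refine ⟨q, ((hQ₀ q).1 hq).1, ?_⟩
    rcases m2 y hy1 with h | h
    · exfalso
      refine hqn (mem_sup_left (mem_inf.2 ⟨((hQ₀ q).1 hq).1, mem_centralizer_singleton_iff.2 ?_⟩))
      have h' := congrArg j h
      change α * j y * α⁻¹ * (j y)⁻¹ = _ at h'
      rw [hy, map_one, mul_inv_eq_one, mul_inv_eq_iff_eq_mul] at h'
      exact h'.symm
    · have h' := congrArg j h
      change α * j y * α⁻¹ * (j y)⁻¹ = z at h'
      rw [hy] at h'
      have hαi : α⁻¹ = α := inv_eq_of_mul_eq_one_right hα2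
      calc q * α * q⁻¹ = α * (α * q * α⁻¹ * q⁻¹) := by
            rw [hαi]
            calc q * α * q⁻¹ = (α * α) * (q * α * q⁻¹) := by rw [hα2, one_mul]
              _ = _ := by group
        _ = α * z := by rw [h']

end Cfsg.Agent.S1784
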