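import Cfsg.Statements.S1785
import Cfsg.Prelude
-- import your own Cfsg.Agent.* helpers here

set_option autoImplicit false
open Cfsg

namespace Cfsg.Agent.S1785
open Subgroup
open scoped commutatorElement

section
variable {X : Type*} [Group X]

theorem elem_comm {A : Subgroup X} (hA : Cfsg.IsElementaryAbelian 2 A) {a b : X} (ha : a ∈ A) (hb : b ∈ A) :
    Commute a b := congrArg Subtype.val (hA.1.is_comm.comm (⟨a, ha⟩ : A) ⟨b, hb⟩)

theorem elem_sup {A B : Subgroup X} (hA : Cfsg.IsElementaryAbelian 2 A) (hB : Cfsg.IsElementaryAbelian 2 B)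
    (hc : ∀ a ∈ A, ∀ b ∈ B, Commute a b) : Cfsg.IsElementaryAbelian 2 (A ⊔ B) := by
  have hcl : A ⊔ B = Subgroup.closure ((A : Set X) ∪ B) := by rw [Subgroup.closure_union, closure_eq, closure_eq]
  have hset : ∀ a ∈ (A : Set X) ∪ B, ∀ b ∈ (A : Set X) ∪ B, a * b = b * a := by
    rintro a (ha | ha) b (hb | hb)
    · exact elem_comm hA ha hb
    · exact hc a ha b hb
    · exact (hc b hb a ha).symm
    · exact elem_comm hB ha hb
  refine ⟨hcl ▸ Subgroup.isMulCommutative_closure hset, fun x hx => ?_⟩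
  haveI : IsMulCommutative ↥(Subgroup.closure ((A : Set X) ∪ B)) := Subgroup.isMulCommutative_closure hset
  rw [hcl] at hx
  induction hx using Subgroup.closure_induction with
  | mem x hx => exact hx.elim (hA.2 x) (hB.2 x)
  | one => exact one_pow 2
  | mul a b ha hb h1 h2 =>
    rw [(show Commute a b from congrArg Subtype.val (mul_comm'
      (⟨a, ha⟩ : ↥(Subgroup.closure ((A : Set X) ∪ B))) ⟨b, hb⟩)).mul_pow, h1, h2, one_mul]
  | inv a _ h1 => rw [inv_pow, h1, inv_one]

theorem elem_zpowers {a : X} (ha : a ^ 2 = 1) : Cfsg.IsElementaryAbelian 2 (zpowers a) :=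
  ⟨inferInstance, fun x hx => by
    obtain ⟨k, rfl⟩ := mem_zpowers_iff.1 hx
    rw [← zpow_natCast, ← zpow_mul, mul_comm, zpow_mul, zpow_natCast, ha, one_zpow]⟩

theorem elem_mono {A B : Subgroup X} (hA : Cfsg.IsElementaryAbelian 2 A) (h : B ≤ A) :
    Cfsg.IsElementaryAbelian 2 B :=
  ⟨⟨⟨fun a b => Subtype.ext (elem_comm hA (h a.2) (h b.2))⟩⟩, fun b hb => hA.2 b (h hb)⟩

variable [Finite X] (hX : IsPGroup 2 X)

include hX in
theorem fixed_big {E W : Subgroup X} (hE : Cfsg.IsElementaryAbelian 2 E) (hWE : W ≤ E) {v : X}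
    (hv : v ^ 2 = 1) (hvW : ∀ w ∈ W, v * w * v⁻¹ ∈ W) (k : ℕ) (hk : 2 ^ (2 * k + 1) ≤ Nat.card W) :
    2 ^ (k + 1) ≤ Nat.card ↥(W ⊓ centralizer ({v} : Set X)) := by
  have hvi : v⁻¹ = v := inv_eq_of_mul_eq_one_right (by rw [← pow_two, hv])
  let f : ↥W →* ↥(W ⊓ centralizer ({v} : Set X)) :=
    { toFun := fun w => ⟨(w : X) * (v * w * v⁻¹), mem_inf.2 ⟨mul_mem w.2 (hvW w w.2), by
        rw [mem_centralizer_singleton_iff]
        have h := (elem_comm hE (hWE w.2) (hWE (hvW w w.2))).eq
        calc (w : X) * (v * w * v⁻¹) * v = (v * w * v⁻¹) * w * v := by rw [h]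
          _ = v * ((w : X) * (v⁻¹ * w * v)) := by group
          _ = v * ((w : X) * (v * w * v⁻¹)) := by rw [hvi]⟩⟩
      map_one' := Subtype.ext (by simp)
      map_mul' := fun a b => Subtype.ext (by
        show (a : X) * b * (v * ((a : X) * b) * v⁻¹) = a * (v * a * v⁻¹) * (b * (v * b * v⁻¹))
        have h := (elem_comm hE (hWE b.2) (hWE (hvW a a.2))).eq
        calc (a : X) * b * (v * ((a : X) * b) * v⁻¹) = (a : X) * ((b : X) * (v * a * v⁻¹)) * (v * b * v⁻¹) := by group
          _ = _ := by rw [h]; group) }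
  have hker : f.ker.map W.subtype ≤ W ⊓ centralizer ({v} : Set X) := by
    rintro _ ⟨w, hw, rfl⟩
    refine mem_inf.2 ⟨w.2, mem_centralizer_singleton_iff.2 ?_⟩
    have h1 : (w : X) * (v * w * v⁻¹) = 1 := congrArg Subtype.val hw
    have h2 : v * w * v⁻¹ = w := by
      have h3 := hE.2 w (hWE w.2)
      rw [pow_two] at h3
      exact mul_left_cancel (h1.trans h3.symm)
    calc (w : X) * v = v * w * v⁻¹ * v := by rw [h2]
      _ = v * w := by group
  have h1 := f.ker.card_mul_index
  rw [index_ker] at h1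
  have h2 : Nat.card f.ker ≤ Nat.card ↥(W ⊓ centralizer ({v} : Set X)) := by
    rw [← card_map_of_injective W.subtype_injective]
    exact Subgroup.card_le_of_le hker
  have h3 := card_le_card_group f.range
  haveI : Fact (Nat.Prime 2) := ⟨Nat.prime_two⟩
  obtain ⟨c, hc⟩ := IsPGroup.iff_card.1 (hX.to_subgroup (W ⊓ centralizer ({v} : Set X)))
  rw [hc] at h2 h3 ⊢
  have h4 : 2 ^ (2 * k + 1) ≤ 2 ^ (c + c) := by
    refine hk.trans ?_
    rw [pow_add]
    rw [← h1]
    exact Nat.mul_le_mul h2 h3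
  have := (Nat.pow_le_pow_iff_right (by norm_num : 1 < 2)).1 h4
  exact Nat.pow_le_pow_right (by norm_num) (by omega)

include hX in
theorem fixed_two {E : Subgroup X} [E.Normal] (hE : Cfsg.IsElementaryAbelian 2 E) (h32 : 32 ≤ Nat.card E)
    {a b : X} (ha : a ^ 2 = 1) (hb : b ^ 2 = 1) (hab : Commute a b) :
    4 ≤ Nat.card ↥(E ⊓ centralizer ({a} : Set X) ⊓ centralizer ({b} : Set X)) := by
  have hn : ∀ v w : X, w ∈ E → v * w * v⁻¹ ∈ E := fun v w hw => Normal.conj_mem inferInstance w hw v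
  refine fixed_big hX hE inf_le_left hb (fun w hw => mem_inf.2 ⟨hn b w (mem_inf.1 hw).1, ?_⟩) 1
    (fixed_big hX hE le_rfl ha (hn a) 2 h32)
  rw [mem_centralizer_singleton_iff]
  have h1 : Commute w a := mem_centralizer_singleton_iff.1 (mem_inf.1 hw).2
  exact ((hab.symm.mul_left h1).mul_left hab.symm.inv_left).eq

end


/-- Let X be a finite 2-group having a normal elementary abelian subgroup of order at least 32. Then (a) for any two elementary abelian subgroups A, B of X of order 8 there is a chain A = A₁, A₂, …, Aₙ = B of elementary abelian subgroups of order 8 in which consecutive members commute elementwise; and (b) every elementary abelian subgroup of X of order 4 is contained in an elementary abelian subgroup of order 8. -/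
theorem result {X : Type*} [Group X] [Finite X]
    (hX : IsPGroup 2 X) (E : Subgroup X) [E.Normal] (hE : Cfsg.IsElementaryAbelian 2 E) (hE32 : 32 ≤ Nat.card ↥E) :
    (∀ A B : Subgroup X, Cfsg.IsElementaryAbelian 2 A → Nat.card ↥A = 8 → Cfsg.IsElementaryAbelian 2 B → Nat.card ↥B = 8 →
        Relation.ReflTransGen
          (fun C D : Subgroup X => Cfsg.IsElementaryAbelian 2 C ∧ Nat.card ↥C = 8 ∧ Cfsg.IsElementaryAbelian 2 D ∧ Nat.card ↥D = 8 ∧ ⁅C, D⁆ = ⊥)
          A B) ∧
      (∀ V : Subgroup X, Cfsg.IsElementaryAbelian 2 V → Nat.card ↥V = 4 →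
        ∃ A : Subgroup X, V ≤ A ∧ Cfsg.IsElementaryAbelian 2 A ∧ Nat.card ↥A = 8) := by
  skip
  classical
  haveI : Fact (Nat.Prime 2) := ⟨Nat.prime_two⟩
  have hn : ∀ v w : X, w ∈ E → v * w * v⁻¹ ∈ E := fun v w hw => Normal.conj_mem inferInstance w hw v
  have hext : ∀ V L : Subgroup X, V ≤ L → Nat.card V ≤ 8 → 8 ≤ Nat.card L →
      ∃ A, V ≤ A ∧ A ≤ L ∧ Nat.card A = 8 := by
    intro V L hVL hV hL
    obtain ⟨l, hl⟩ := IsPGroup.iff_card.1 (hX.to_subgroup L)
    obtain ⟨v, hv⟩ := IsPGroup.iff_card.1 (hX.to_subgroup V)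
    have h3l : 3 ≤ l := (Nat.pow_le_pow_iff_right (by norm_num : 1 < 2)).1 (by rw [← hl]; exact hL)
    have hv3 : v ≤ 3 := (Nat.pow_le_pow_iff_right (by norm_num : 1 < 2)).1 (by rw [← hv]; exact hV)
    obtain ⟨A, hA, hle⟩ := Sylow.exists_subgroup_card_pow_prime_le (G := ↥L) 2
      (show 2 ^ 3 ∣ Nat.card L by rw [hl]; exact pow_dvd_pow 2 h3l) (V.subgroupOf L)
      (show Nat.card (V.subgroupOf L) = 2 ^ v by rw [Nat.card_congr (subgroupOfEquivOfLe hVL).toEquiv, hv]) hv3
    refine ⟨A.map L.subtype, fun x hx => ⟨⟨x, hVL hx⟩, hle hx, rfl⟩, map_subtype_le _, ?_⟩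
    rw [card_map_of_injective L.subtype_injective, hA]; norm_num
  have hfour : ∀ a b : X, a ^ 2 = 1 → b ^ 2 = 1 → Commute a b →
      4 ≤ Nat.card ↥(E ⊓ centralizer ({a} : Set X) ⊓ centralizer ({b} : Set X)) :=
    fun a b => fixed_two hX hE hE32
  have helemP : ∀ a b : X, a ^ 2 = 1 → b ^ 2 = 1 → Commute a b →
      Cfsg.IsElementaryAbelian 2 (zpowers a ⊔ zpowers b) := fun a b ha hb hab =>
    elem_sup (elem_zpowers ha) (elem_zpowers hb) fun x hx y hy => by
      obtain ⟨i, rfl⟩ := mem_zpowers_iff.1 hx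
      obtain ⟨j, rfl⟩ := mem_zpowers_iff.1 hy
      exact hab.zpow_zpow i j
  have hcF : ∀ a b : X, ∀ f ∈ E ⊓ centralizer ({a} : Set X) ⊓ centralizer ({b} : Set X),
      ∀ x ∈ zpowers a ⊔ zpowers b, Commute f x := by
    intro a b f hf x hx
    have hle : zpowers a ⊔ zpowers b ≤ centralizer ({f} : Set X) := sup_le
      (zpowers_le.2 (mem_centralizer_singleton_iff.2 (mem_centralizer_singleton_iff.1 (mem_inf.1 (mem_inf.1 hf).1).2).symm))
      (zpowers_le.2 (mem_centralizer_singleton_iff.2 (mem_centralizer_singleton_iff.1 (mem_inf.1 hf).2).symm))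
    exact (show x * f = f * x from mem_centralizer_singleton_iff.1 (hle hx)).symm
  constructor
  · set R := fun C D : Subgroup X => Cfsg.IsElementaryAbelian 2 C ∧ Nat.card ↥C = 8 ∧
      Cfsg.IsElementaryAbelian 2 D ∧ Nat.card ↥D = 8 ∧ ⁅C, D⁆ = ⊥ with hR
    have hstep : ∀ L C D : Subgroup X, Cfsg.IsElementaryAbelian 2 L → C ≤ L → D ≤ L → Nat.card C = 8 →
        Nat.card D = 8 → R C D := by
      intro L C D hL hC hD h1 h2
      refine ⟨elem_mono hL hC, h1, elem_mono hL hD, h2, ?_⟩
      rw [commutator_eq_bot_iff_le_centralizer]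
      exact fun c hc => mem_centralizer_iff.2 fun d hd => (elem_comm hL (hD hd) (hC hc)).eq
    have hto : ∀ A : Subgroup X, Cfsg.IsElementaryAbelian 2 A → Nat.card A = 8 →
        ∃ D, D ≤ E ∧ Nat.card D = 8 ∧ Relation.ReflTransGen R A D ∧ Relation.ReflTransGen R D A := by
      intro A hA hA8
      -- an element of `E` centralizing `A`
      have hnotle : ∀ V : Subgroup X, Nat.card V < 8 → ∃ a ∈ A, a ∉ V := by
        intro V hV
        by_contra h
        push Not at h
        have := Subgroup.card_le_of_le (show A ≤ V from h)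
        omega
      obtain ⟨a, ha, ha1⟩ := hnotle ⊥ (by rw [card_bot]; norm_num)
      have hc2 : ∀ a b : X, a ^ 2 = 1 → b ^ 2 = 1 → Commute a b →
          Nat.card ↥(zpowers a ⊔ zpowers b) ≤ 4 := by
        intro a b ha hb hab
        have hpow : ∀ x : X, x ^ 2 = 1 → Nat.card (zpowers x) ≤ 2 := fun x hx => by
          rw [Nat.card_zpowers]; exact Nat.le_of_dvd two_pos (orderOf_dvd_of_pow_eq_one hx)
        calc Nat.card ↥(zpowers a ⊔ zpowers b) ≤ Nat.card (zpowers a × zpowers b) := by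
              refine Nat.card_le_card_of_surjective
                (fun q : zpowers a × zpowers b => (⟨q.1 * q.2, mul_mem (mem_sup_left q.1.2) (mem_sup_right q.2.2)⟩ :
                  ↥(zpowers a ⊔ zpowers b))) ?_
              intro x
              have hle : zpowers b ≤ normalizer (zpowers a : Set X) := zpowers_le.2
                (centralizer_le_normalizer _ (mem_centralizer_iff.2 fun z hz => by
                  obtain ⟨i, rfl⟩ := mem_zpowers_iff.1 hz
                  exact (hab.zpow_left i).eq))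
              have hx := x.2
              rw [← SetLike.mem_coe, coe_mul_of_right_le_normalizer_left _ _ hle] at hx
              obtain ⟨y, hy, z, hz, e⟩ := hx
              exact ⟨(⟨y, hy⟩, ⟨z, hz⟩), Subtype.ext e⟩
          _ ≤ 4 := by
              rw [Nat.card_prod]
              exact (Nat.mul_le_mul (hpow a ha) (hpow b hb))
      obtain ⟨b, hb, hbW⟩ := hnotle (zpowers a ⊔ zpowers a) (by
        have := hc2 a a (hA.2 a ha) (hA.2 a ha) (Commute.refl a); omega)
      have hab : Commute a b := elem_comm hA ha hb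
      obtain ⟨c, hc, hcW⟩ := hnotle (zpowers a ⊔ zpowers b) (by
        have := hc2 a b (hA.2 a ha) (hA.2 b hb) hab; omega)
      -- C_E(a,b,c)
      set F := E ⊓ centralizer ({a} : Set X) ⊓ centralizer ({b} : Set X) with hF
      have hF4 := hfour a b (hA.2 a ha) (hA.2 b hb) hab
      have hFinv : ∀ w ∈ F, c * w * c⁻¹ ∈ F := by
        intro w hw
        refine mem_inf.2 ⟨mem_inf.2 ⟨hn c w (mem_inf.1 (mem_inf.1 hw).1).1, ?_⟩, ?_⟩ <;>
          rw [mem_centralizer_singleton_iff]
        · exact (((elem_comm hA hc ha).mul_left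
            (show Commute w a from mem_centralizer_singleton_iff.1 (mem_inf.1 (mem_inf.1 hw).1).2)).mul_left
            (elem_comm hA hc ha).inv_left).eq
        · exact (((elem_comm hA hc hb).mul_left
            (show Commute w b from mem_centralizer_singleton_iff.1 (mem_inf.1 hw).2)).mul_left
            (elem_comm hA hc hb).inv_left).eq
      have h3 : 2 ^ (0 + 1) ≤ Nat.card ↥(F ⊓ centralizer ({c} : Set X)) :=
        fixed_big hX hE (inf_le_left.trans inf_le_left) (hA.2 c hc) hFinv 0 (le_trans (show 2 ^ (2 * 0 + 1) ≤ 4 by norm_num) hF4)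
      haveI : Nontrivial ↥(F ⊓ centralizer ({c} : Set X)) := by
        rw [← Finite.one_lt_card_iff_nontrivial]; exact lt_of_lt_of_le (show 1 < 2 ^ (0 + 1) by norm_num) h3
      obtain ⟨⟨e, he⟩, he1⟩ := exists_ne (1 : ↥(F ⊓ centralizer ({c} : Set X)))
      obtain ⟨⟨⟨heE, hea⟩, heb⟩, hec⟩ := he
      have he2 : e ^ 2 = 1 := hE.2 e heE
      have heA : ∀ x ∈ A, Commute e x := by
        have hA_eq : zpowers a ⊔ zpowers b ⊔ zpowers c = A := by
          refine eq_of_le_of_card_ge (sup_le (sup_le (zpowers_le.2 ha) (zpowers_le.2 hb)) (zpowers_le.2 hc)) ?_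
          rw [hA8]
          obtain ⟨l, hl⟩ := IsPGroup.iff_card.1 (hX.to_subgroup (zpowers a ⊔ zpowers b ⊔ zpowers c))
          obtain ⟨m, hm⟩ := IsPGroup.iff_card.1 (hX.to_subgroup (zpowers a ⊔ zpowers b))
          obtain ⟨r, hr⟩ := IsPGroup.iff_card.1 (hX.to_subgroup (zpowers a))
          have q1 : Nat.card (⊥ : Subgroup X) < Nat.card (zpowers a) := by
            rw [card_bot]
            exact Finite.one_lt_card_iff_nontrivial.2 ((nontrivial_iff_ne_bot _).2 (by simpa using ha1))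
          have q2 : Nat.card (zpowers a) < Nat.card ↥(zpowers a ⊔ zpowers b) := by
            refine lt_of_le_of_ne (Subgroup.card_le_of_le le_sup_left) fun h => hbW ?_
            rw [sup_idem, eq_of_le_of_card_ge (le_sup_left : zpowers a ≤ zpowers a ⊔ zpowers b) h.ge]
            exact mem_sup_right (mem_zpowers b)
          have q3 : Nat.card ↥(zpowers a ⊔ zpowers b) < Nat.card ↥(zpowers a ⊔ zpowers b ⊔ zpowers c) := by
            refine lt_of_le_of_ne (Subgroup.card_le_of_le le_sup_left) fun h => hcW ?_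
            rw [eq_of_le_of_card_ge (le_sup_left : zpowers a ⊔ zpowers b ≤ zpowers a ⊔ zpowers b ⊔ zpowers c) h.ge]
            exact mem_sup_right (mem_zpowers c)
          rw [card_bot, hr] at q1
          rw [hr, hm] at q2
          rw [hm, hl] at q3
          rw [hl]
          have u1 : r ≠ 0 := fun h => by simp [h] at q1
          have u2 := (Nat.pow_lt_pow_iff_right (by norm_num : 1 < 2)).1 q2
          have u3 := (Nat.pow_lt_pow_iff_right (by norm_num : 1 < 2)).1 q3
          calc 8 = 2 ^ 3 := by norm_num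
            _ ≤ 2 ^ l := Nat.pow_le_pow_right (by norm_num) (by omega)
        intro x hx
        rw [← hA_eq] at hx
        have hle : zpowers a ⊔ zpowers b ⊔ zpowers c ≤ centralizer ({e} : Set X) := by
          refine sup_le (sup_le ?_ ?_) ?_ <;> refine zpowers_le.2 (mem_centralizer_singleton_iff.2 ?_)
          · exact (mem_centralizer_singleton_iff.1 hea).symm
          · exact (mem_centralizer_singleton_iff.1 heb).symm
          · exact (mem_centralizer_singleton_iff.1 hec).symm
        exact (show x * e = e * x from mem_centralizer_singleton_iff.1 (hle hx)).symm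
      have hne : e ≠ 1 := fun h => he1 (Subtype.ext h)
      set L := A ⊔ zpowers e with hL
      have hLe : Cfsg.IsElementaryAbelian 2 L := elem_sup hA (elem_zpowers he2) fun x hx y hy => by
        obtain ⟨i, rfl⟩ := mem_zpowers_iff.1 hy
        exact ((heA x hx).symm).zpow_right i
      obtain ⟨A₁, heA₁, hA₁L, hA₁8⟩ := hext (zpowers e) L le_sup_right
        (by rw [Nat.card_zpowers, orderOf_eq_prime he2 hne]; norm_num)
        (hA8 ▸ Subgroup.card_le_of_le (le_sup_left : A ≤ L))
      have hA₁e : Cfsg.IsElementaryAbelian 2 A₁ := elem_mono hLe hA₁L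
      have hce : Nat.card ↥(zpowers e ⊔ zpowers e) ≤ 4 := hc2 e e he2 he2 (Commute.refl e)
      obtain ⟨u, hu, hue⟩ : ∃ u ∈ A₁, u ∉ zpowers e ⊔ zpowers e := by
        by_contra h
        push Not at h
        have := Subgroup.card_le_of_le (show A₁ ≤ _ from h)
        omega
      have heu : Commute e u := elem_comm hA₁e (heA₁ (mem_zpowers e)) hu
      obtain ⟨w, hw, hwe⟩ : ∃ w ∈ A₁, w ∉ zpowers e ⊔ zpowers u := by
        by_contra h
        push Not at h
        have := Subgroup.card_le_of_le (show A₁ ≤ _ from h)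
        have := hc2 e u he2 (hA₁e.2 u hu) heu
        omega
      -- enlarge inside E
      set F₁ := E ⊓ centralizer ({u} : Set X) ⊓ centralizer ({w} : Set X) with hF₁
      have huw : Commute u w := elem_comm hA₁e hu hw
      have hF₁4 := hfour u w (hA₁e.2 u hu) (hA₁e.2 w hw) huw
      have hM : Cfsg.IsElementaryAbelian 2 (F₁ ⊔ (zpowers u ⊔ zpowers w)) :=
        elem_sup (elem_mono hE (inf_le_left.trans inf_le_left)) (helemP u w (hA₁e.2 u hu) (hA₁e.2 w hw) huw)
          (hcF u w)
      have heF₁ : e ∈ F₁ := mem_inf.2 ⟨mem_inf.2 ⟨heE, mem_centralizer_singleton_iff.2 heu.eq⟩,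
        mem_centralizer_singleton_iff.2 (elem_comm hA₁e (heA₁ (mem_zpowers e)) hw).eq⟩
      set B₁ := zpowers e ⊔ zpowers u ⊔ zpowers w with hB₁
      have hB₁eq : B₁ = A₁ := by
        refine eq_of_le_of_card_ge (sup_le (sup_le heA₁ (zpowers_le.2 hu)) (zpowers_le.2 hw)) ?_
        rw [hA₁8]
        obtain ⟨l, hl⟩ := IsPGroup.iff_card.1 (hX.to_subgroup B₁)
        obtain ⟨m, hm⟩ := IsPGroup.iff_card.1 (hX.to_subgroup (zpowers e ⊔ zpowers u))
        have q1 : Nat.card (zpowers e) = 2 ^ 1 := by rw [Nat.card_zpowers, orderOf_eq_prime he2 hne]; norm_num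
        have q2 : Nat.card (zpowers e) < Nat.card ↥(zpowers e ⊔ zpowers u) := by
          refine lt_of_le_of_ne (Subgroup.card_le_of_le le_sup_left) fun h => hue ?_
          rw [sup_idem, eq_of_le_of_card_ge (le_sup_left : zpowers e ≤ zpowers e ⊔ zpowers u) h.ge]
          exact mem_sup_right (mem_zpowers u)
        have q3 : Nat.card ↥(zpowers e ⊔ zpowers u) < Nat.card B₁ := by
          refine lt_of_le_of_ne (Subgroup.card_le_of_le le_sup_left) fun h => hwe ?_
          rw [eq_of_le_of_card_ge (le_sup_left : zpowers e ⊔ zpowers u ≤ B₁) h.ge]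
          exact mem_sup_right (mem_zpowers w)
        rw [q1, hm] at q2
        rw [hm, hl] at q3
        rw [hl]
        have u2 := (Nat.pow_lt_pow_iff_right (by norm_num : 1 < 2)).1 q2
        have u3 := (Nat.pow_lt_pow_iff_right (by norm_num : 1 < 2)).1 q3
        calc 8 = 2 ^ 3 := by norm_num
          _ ≤ 2 ^ l := Nat.pow_le_pow_right (by norm_num) (by omega)
      have hA₁M : A₁ ≤ F₁ ⊔ (zpowers u ⊔ zpowers w) := by
        rw [← hB₁eq]
        exact sup_le (sup_le (le_sup_of_le_left (zpowers_le.2 heF₁))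
          (le_sup_of_le_right le_sup_left)) (le_sup_of_le_right le_sup_right)
      -- a subgroup of order eight with four elements in E and one involution
      have hu2 := hA₁e.2 u hu
      set C₁ := E ⊓ centralizer ({u} : Set X) with hC₁
      have hC₁8 : 8 ≤ Nat.card C₁ := fixed_big hX hE le_rfl hu2 (hn u) 2 hE32
      have hN : Cfsg.IsElementaryAbelian 2 (C₁ ⊔ zpowers u) :=
        elem_sup (elem_mono hE inf_le_left) (elem_zpowers hu2) fun x hx y hy => by
          obtain ⟨i, rfl⟩ := mem_zpowers_iff.1 hy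
          exact (show Commute x u from mem_centralizer_singleton_iff.1 (mem_inf.1 hx).2).zpow_right i
      have hFu : 8 ≤ Nat.card ↥(F₁ ⊔ zpowers u) ∨ u ∈ F₁ := by
        by_cases huF : u ∈ F₁
        · exact .inr huF
        left
        obtain ⟨l, hl⟩ := IsPGroup.iff_card.1 (hX.to_subgroup (F₁ ⊔ zpowers u))
        obtain ⟨m, hm⟩ := IsPGroup.iff_card.1 (hX.to_subgroup F₁)
        have q : Nat.card F₁ < Nat.card ↥(F₁ ⊔ zpowers u) := by
          refine lt_of_le_of_ne (Subgroup.card_le_of_le le_sup_left) fun h => huF ?_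
          rw [eq_of_le_of_card_ge (le_sup_left : F₁ ≤ F₁ ⊔ zpowers u) h.ge]
          exact mem_sup_right (mem_zpowers u)
        rw [hm, hl] at q
        rw [hm] at hF₁4
        rw [hl]
        have u2 := (Nat.pow_lt_pow_iff_right (by norm_num : 1 < 2)).1 q
        have u3 : 2 ≤ m := (Nat.pow_le_pow_iff_right (by norm_num : 1 < 2)).1 (le_of_eq_of_le (by norm_num) hF₁4)
        calc 8 = 2 ^ 3 := by norm_num
          _ ≤ 2 ^ l := Nat.pow_le_pow_right (by norm_num) (by omega)
      obtain ⟨D, -, hDC, hD8⟩ := hext ⊥ C₁ bot_le (by rw [card_bot]; norm_num) hC₁8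
      have hDN : D ≤ C₁ ⊔ zpowers u := hDC.trans le_sup_left
      refine ⟨D, hDC.trans inf_le_left, hD8, ?_⟩
      rcases hFu with h8 | huF
      · obtain ⟨A₂, -, hA₂le, hA₂8⟩ := hext ⊥ (F₁ ⊔ zpowers u) bot_le (by rw [card_bot]; norm_num) h8
        have hA₂M : A₂ ≤ F₁ ⊔ (zpowers u ⊔ zpowers w) := hA₂le.trans (sup_le_sup_left le_sup_left _)
        have hA₂N : A₂ ≤ C₁ ⊔ zpowers u := hA₂le.trans (sup_le_sup_right inf_le_left _)
        exact ⟨((Relation.ReflTransGen.single (hstep L A A₁ hLe le_sup_left hA₁L hA8 hA₁8)).tail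
          (hstep _ A₁ A₂ hM hA₁M hA₂M hA₁8 hA₂8)).tail (hstep _ A₂ D hN hA₂N hDN hA₂8 hD8),
          ((Relation.ReflTransGen.single (hstep _ D A₂ hN hDN hA₂N hD8 hA₂8)).tail
          (hstep _ A₂ A₁ hM hA₂M hA₁M hA₂8 hA₁8)).tail (hstep L A₁ A hLe hA₁L le_sup_left hA₁8 hA8)⟩
      · -- here `u` lies in `E`
        have hw2 := hA₁e.2 w hw
        set C₂ := E ⊓ centralizer ({w} : Set X) with hC₂
        have hC₂8 : 8 ≤ Nat.card C₂ := fixed_big hX hE le_rfl hw2 (hn w) 2 hE32
        have hN₂ : Cfsg.IsElementaryAbelian 2 (C₂ ⊔ zpowers w) :=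
          elem_sup (elem_mono hE inf_le_left) (elem_zpowers hw2) fun x hx y hy => by
            obtain ⟨i, rfl⟩ := mem_zpowers_iff.1 hy
            exact (show Commute x w from mem_centralizer_singleton_iff.1 (mem_inf.1 hx).2).zpow_right i
        obtain ⟨D₂, -, hD₂C, hD₂8⟩ := hext ⊥ C₂ bot_le (by rw [card_bot]; norm_num) hC₂8
        have huE : u ∈ E := (mem_inf.1 (mem_inf.1 huF).1).1
        have hA₁N : A₁ ≤ C₂ ⊔ zpowers w := by
          rw [← hB₁eq]
          refine sup_le (sup_le (le_sup_of_le_left (zpowers_le.2 ?_)) (le_sup_of_le_left (zpowers_le.2 ?_))) le_sup_right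
          · exact mem_inf.2 ⟨heE, (mem_inf.1 heF₁).2⟩
          · exact mem_inf.2 ⟨huE, mem_centralizer_singleton_iff.2 huw.eq⟩
        have hD₂N : D₂ ≤ C₂ ⊔ zpowers w := hD₂C.trans le_sup_left
        exact ⟨((Relation.ReflTransGen.single (hstep L A A₁ hLe le_sup_left hA₁L hA8 hA₁8)).tail
          (hstep _ A₁ D₂ hN₂ hA₁N hD₂N hA₁8 hD₂8)).tail
            (hstep E D₂ D hE (hD₂C.trans inf_le_left) (hDC.trans inf_le_left) hD₂8 hD8),
          ((Relation.ReflTransGen.single (hstep E D D₂ hE (hDC.trans inf_le_left) (hD₂C.trans inf_le_left) hD8 hD₂8)).tail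
          (hstep _ D₂ A₁ hN₂ hD₂N hA₁N hD₂8 hA₁8)).tail (hstep L A₁ A hLe hA₁L le_sup_left hA₁8 hA8)⟩
    intro A B hA hA8 hB hB8
    obtain ⟨D, hDE, hD8, h1, -⟩ := hto A hA hA8
    obtain ⟨D', hD'E, hD'8, -, h2⟩ := hto B hB hB8
    exact (h1.tail (hstep E D D' hE hDE hD'E hD8 hD'8)).trans h2
  · intro V hV hV4
    haveI : Nontrivial V := by rw [← Finite.one_lt_card_iff_nontrivial, hV4]; norm_num
    obtain ⟨⟨a, ha⟩, ha1⟩ := exists_ne (1 : V)
    have ha2 := hV.2 a ha
    have hcard : Nat.card (zpowers a) ≤ 2 := by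
      rw [Nat.card_zpowers]; exact Nat.le_of_dvd two_pos (orderOf_dvd_of_pow_eq_one ha2)
    obtain ⟨b, hb, hba⟩ : ∃ b ∈ V, b ∉ zpowers a := by
      by_contra h
      push Not at h
      have := Subgroup.card_le_of_le (show V ≤ _ from h)
      omega
    have hab : Commute a b := elem_comm hV ha hb
    have hVeq : zpowers a ⊔ zpowers b = V := by
      refine eq_of_le_of_card_ge (sup_le (zpowers_le.2 ha) (zpowers_le.2 hb)) ?_
      rw [hV4]
      obtain ⟨l, hl⟩ := IsPGroup.iff_card.1 (hX.to_subgroup (zpowers a ⊔ zpowers b))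
      have q : Nat.card (zpowers a) < Nat.card ↥(zpowers a ⊔ zpowers b) := by
        refine lt_of_le_of_ne (Subgroup.card_le_of_le le_sup_left) fun h => hba ?_
        rw [eq_of_le_of_card_ge (le_sup_left : zpowers a ≤ zpowers a ⊔ zpowers b) h.ge]
        exact mem_sup_right (mem_zpowers b)
      rw [Nat.card_zpowers, orderOf_eq_prime ha2 (fun h => ha1 (Subtype.ext h)), hl] at q
      rw [hl]
      have : 2 ≤ l := (Nat.pow_lt_pow_iff_right (by norm_num : 1 < 2)).1 (lt_of_eq_of_lt (pow_one 2) q)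
      calc 4 = 2 ^ 2 := by norm_num
        _ ≤ 2 ^ l := Nat.pow_le_pow_right (by norm_num) this
    set C := E ⊓ centralizer ({a} : Set X) with hC
    set F := C ⊓ centralizer ({b} : Set X) with hF
    have h4 := hfour a b ha2 (hV.2 b hb) hab
    have hL : Cfsg.IsElementaryAbelian 2 (F ⊔ V) := by
      refine elem_sup (elem_mono hE (inf_le_left.trans inf_le_left)) hV fun f hf x hx => ?_
      exact hcF a b f hf x (hVeq.ge hx)
    by_cases hFV : F ≤ V
    · -- `V = F` lies in `E`
      have hVE : V = F := (eq_of_le_of_card_ge hFV (by rw [hV4]; exact h4)).symm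
      obtain ⟨A, hA1, hA2, hA8⟩ := hext V E (hVE.le.trans (inf_le_left.trans inf_le_left)) (by omega) (by omega)
      exact ⟨A, hA1, elem_mono hE hA2, hA8⟩
    · obtain ⟨A, hA1, hA2, hA8⟩ := hext V (F ⊔ V) le_sup_right (by omega) (by
        obtain ⟨l, hl⟩ := IsPGroup.iff_card.1 (hX.to_subgroup (F ⊔ V))
        have q : Nat.card V < Nat.card ↥(F ⊔ V) := by
          refine lt_of_le_of_ne (Subgroup.card_le_of_le le_sup_right) fun h => hFV ?_
          rw [eq_of_le_of_card_ge (le_sup_right : V ≤ F ⊔ V) h.ge]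
          exact le_sup_left
        rw [hV4, hl] at q
        rw [hl]
        have : 3 ≤ l := (Nat.pow_lt_pow_iff_right (by norm_num : 1 < 2)).1 (lt_of_eq_of_lt (by norm_num : 2 ^ 2 = 4) q)
        calc 8 = 2 ^ 3 := by norm_num
          _ ≤ 2 ^ l := Nat.pow_le_pow_right (by norm_num) this)
      exact ⟨A, hA1, elem_mono hL hA2, hA8⟩

end Cfsg.Agent.S1785
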