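import Cfsg.Statements.S1850
import Cfsg.Agent.Lib.Local.CharPEquiv
-- import your own Cfsg.Agent.* helpers here

set_option autoImplicit false
open Cfsg

namespace Cfsg.Agent.S1850
open Cfsg.Agent


/-- Let G be a non-abelian finite simple QTKE-group and T a Sylow 2-subgroup of G. If U is a nontrivial 2-subgroup of G with U ∩ Z(T) ≠ 1, then F*(N_G(U)) = O₂(N_G(U)). -/
theorem result {G : Type*} [Group G] [Finite G] [IsSimpleGroup G]
    (hG : ¬ IsMulCommutative G) (hQ : Cfsg.IsQTKE G) (T : Sylow 2 G) (U : Subgroup G)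
    (hU : IsPGroup 2 ↥U) (hZ : U ⊓ ((T : Subgroup G) ⊓ Subgroup.centralizer ((T : Subgroup G) : Set G)) ≠ ⊥) :
    Subgroup.normalizer (U : Set G) ∈ Cfsg.calHe G := by
  skip
  classical
  haveI : Fact (Nat.Prime 2) := ⟨Nat.prime_two⟩
  obtain ⟨z, hz, hz1⟩ := (U ⊓ ((T : Subgroup G) ⊓ Subgroup.centralizer ((T : Subgroup G) : Set G))).bot_or_exists_ne_one.resolve_left hZ
  obtain ⟨hzU, hzT, hzC⟩ : z ∈ U ∧ z ∈ (T : Subgroup G) ∧ z ∈ Subgroup.centralizer ((T : Subgroup G) : Set G) :=
    ⟨(Subgroup.mem_inf.1 hz).1, (Subgroup.mem_inf.1 (Subgroup.mem_inf.1 hz).2).1, (Subgroup.mem_inf.1 (Subgroup.mem_inf.1 hz).2).2⟩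
  set Z := Subgroup.zpowers z with hZd
  set N := Subgroup.normalizer (Z : Set G) with hN
  have hTN : (T : Subgroup G) ≤ N := fun t ht => by
    refine Subgroup.centralizer_le_normalizer _ (Subgroup.mem_centralizer_iff.2 fun w hw => ?_)
    obtain ⟨i, rfl⟩ := Subgroup.mem_zpowers_iff.1 hw
    exact ((show Commute t z from Subgroup.mem_centralizer_iff.1 hzC t ht).zpow_right i).eq.symm
  have hNc : Subgroup.centralizer (Cfsg.pCore 2 N : Set N) ≤ Cfsg.pCore 2 N :=
    hQ.2.2 N ⟨Z, hU.to_le (Subgroup.zpowers_le.2 hzU), fun h => hz1 (Subgroup.zpowers_eq_bot.1 h), rfl⟩ ⟨T, hTN⟩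
  set C := Subgroup.centralizer ({z} : Set G) with hC
  have hCN : C ≤ N := fun c hc => Subgroup.centralizer_le_normalizer _ (Subgroup.mem_centralizer_iff.2 fun w hw => by
    obtain ⟨i, rfl⟩ := Subgroup.mem_zpowers_iff.1 hw
    exact ((show Commute c z from Subgroup.mem_centralizer_singleton_iff.1 hc).zpow_right i).eq.symm)
  haveI : (C.subgroupOf N).Normal := by
    refine (Subgroup.normal_subgroupOf_iff_le_normalizer hCN).2 fun n hn => ?_
    have e : C = Subgroup.centralizer (Z : Set G) := by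
      refine le_antisymm (fun c hc => Subgroup.mem_centralizer_iff.2 fun w hw => ?_)
        (fun c hc => Subgroup.mem_centralizer_singleton_iff.2 (Subgroup.mem_centralizer_iff.1 hc z (Subgroup.mem_zpowers z)).symm)
      obtain ⟨i, rfl⟩ := Subgroup.mem_zpowers_iff.1 hw
      exact ((show Commute c z from Subgroup.mem_centralizer_singleton_iff.1 hc).zpow_right i).eq.symm
    rw [e]
    exact (Subgroup.normal_subgroupOf_iff_le_normalizer (Subgroup.centralizer_le_normalizer _)).1 inferInstance hn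
  have hCc : Subgroup.centralizer (Cfsg.pCore 2 C : Set C) ≤ Cfsg.pCore 2 C :=
    Cfsg.Agent.Local.CharPB.centralizer_pCore_le_of_mulEquiv (Subgroup.subgroupOfEquivOfLe hCN)
      (Cfsg.Agent.Local.CharPB.centralizer_pCore_le_of_normal hNc _)
  let ok : Subgroup G → Prop := fun X =>
    Subgroup.centralizer (Cfsg.pCore 2 (Subgroup.normalizer (X : Set G)) : Set (Subgroup.normalizer (X : Set G))) ≤
      Cfsg.pCore 2 (Subgroup.normalizer (X : Set G))
  have hX0 : ok (U ⊓ C) := Cfsg.Agent.Local.CharPB.normalizer_charP_of_central (hU.to_le inf_le_left)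
    (z := z) (Subgroup.mem_inf.2 ⟨hzU, Subgroup.mem_centralizer_singleton_iff.2 rfl⟩)
    (fun x hx => Subgroup.mem_centralizer_singleton_iff.1 (Subgroup.mem_inf.1 hx).2) hCc
  obtain ⟨X, ⟨hXU, hXok⟩, hXmax⟩ :=
    (Set.toFinite {X : Subgroup G | X ≤ U ∧ ok X}).exists_maximal ⟨U ⊓ C, inf_le_left, hX0⟩
  suffices hXU' : X = U by
    show Cfsg.generalizedFittingSubgroup _ = _
    rw [Cfsg.Agent.Local.CharPB.fstar_eq_pCore_iff]
    exact hXU' ▸ hXok
  by_contra hne
  set Y := U ⊓ Subgroup.normalizer (X : Set G) with hY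
  have hlt : X < Y := by
    refine lt_of_le_of_ne (le_inf hXU Subgroup.le_normalizer) fun e => hne ?_
    haveI := hU.isNilpotent
    by_contra hne'
    have hlt : X.subgroupOf U < ⊤ := lt_top_iff_ne_top.2 fun h =>
      hne' (le_antisymm hXU (Subgroup.subgroupOf_eq_top.1 h))
    obtain ⟨g, hg1, hg2⟩ := SetLike.exists_of_lt ((Group.normalizerCondition_of_isNilpotent (G := U)) _ hlt)
    refine hg2 ?_
    show (g : G) ∈ X
    rw [e]
    rw [← Subgroup.subgroupOf_normalizer_eq hXU] at hg1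
    exact Subgroup.mem_inf.2 ⟨g.2, hg1⟩
  refine hlt.not_ge (hXmax (y := Y) ⟨inf_le_left, ?_⟩ hlt.le)
  set M := Subgroup.normalizer (X : Set G) with hM
  have hYM : Y ≤ M := inf_le_right
  have hYp : IsPGroup 2 Y := hU.to_le inf_le_left
  have h1 := Cfsg.Agent.Local.CharPB.fstar_eq_pCore_iff.1 (Cfsg.Agent.Local.fstar_normalizer_eq_pCore
    (Cfsg.Agent.Local.CharPB.fstar_eq_pCore_iff.2 hXok) (hYp.comap_of_injective M.subtype M.subtype_injective))
  set H := Subgroup.normalizer (Y : Set G) ⊓ M with hH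
  have hmap : (Subgroup.normalizer ((Y.subgroupOf M : Subgroup M) : Set M)).map M.subtype = H := by
    rw [← Subgroup.subgroupOf_normalizer_eq hYM, Subgroup.subgroupOf_map_subtype]
  have hHc : Subgroup.centralizer (Cfsg.pCore 2 H : Set H) ≤ Cfsg.pCore 2 H :=
    Cfsg.Agent.Local.CharPB.centralizer_pCore_le_of_mulEquiv
      ((Subgroup.equivMapOfInjective _ _ M.subtype_injective).trans (MulEquiv.subgroupCongr hmap)) h1
  have hle : Subgroup.centralizer (Y : Set G) ≤ H := le_inf (Subgroup.centralizer_le_normalizer _)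
    ((Subgroup.centralizer_le hlt.le).trans (Subgroup.centralizer_le_normalizer _))
  haveI : ((Subgroup.centralizer (Y : Set G)).subgroupOf H).Normal :=
    (Subgroup.normal_subgroupOf_iff_le_normalizer hle).2 (inf_le_left.trans
      ((Subgroup.normal_subgroupOf_iff_le_normalizer (Subgroup.centralizer_le_normalizer _)).1 inferInstance))
  exact Cfsg.Agent.Local.CharPB.normalizer_charP_of_centralizer hYp
    (Cfsg.Agent.Local.CharPB.centralizer_pCore_le_of_mulEquiv (Subgroup.subgroupOfEquivOfLe hle)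
      (Cfsg.Agent.Local.CharPB.centralizer_pCore_le_of_normal hHc _))

end Cfsg.Agent.S1850
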