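import Cfsg.Statements.S1851
import Cfsg.Agent.Lib.Local.CharPEquiv
import Cfsg.Agent.Lib.Local.FrakH
import Cfsg.Agent.Lib.Local.PGroup
-- import your own Cfsg.Agent.* helpers here

set_option autoImplicit false
open Cfsg

namespace Cfsg.Agent.S1851
open Cfsg.Agent

variable {G : Type*} [Group G] [Finite G]

theorem perfect_map {L Y : Subgroup G} (h : L ≤ Y) (hp : ⁅L.subgroupOf Y, L.subgroupOf Y⁆ = L.subgroupOf Y) :
    ⁅L, L⁆ = L := by
  have := congrArg (Subgroup.map Y.subtype) hp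
  rwa [Subgroup.map_commutator, Subgroup.map_subgroupOf_eq_of_le h] at this

theorem perfect_le {L : Subgroup G} (hp : ⁅L, L⁆ = L) {W : Subgroup G} (hWL : W ≤ L)
    (h : ∀ x ∈ L, (orderOf x).Coprime 2 → x ∈ W) : L ≤ W := by
  classical
  haveI : Fact (Nat.Prime 2) := ⟨Nat.prime_two⟩
  set R := Cfsg.pResidual 2 ↥L with hR
  haveI : R.Characteristic := Cfsg.Agent.Solv.pResidual_characteristic 2 ↥L
  haveI : R.Normal := inferInstance
  obtain ⟨k, hk⟩ := Cfsg.Agent.Solv.exists_pResidual_index (p := 2) (G := ↥L)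
  have htop : R = ⊤ := by
    by_contra hne
    haveI : Nontrivial (↥L ⧸ R) := QuotientGroup.nontrivial_iff.2 hne
    have hq : IsPGroup 2 (↥L ⧸ R) := IsPGroup.of_card (n := k) (by rw [← Subgroup.index_eq_card]; exact hk)
    haveI := hq.isNilpotent
    have hperf : commutator ↥L = ⊤ := by
      refine Subgroup.map_injective L.subtype_injective ?_
      rw [Subgroup.map_subtype_commutator, hp, ← MonoidHom.range_eq_map, Subgroup.range_subtype]
    have hlt := IsSolvable.commutator_lt_top_of_nontrivial (G := ↥L ⧸ R)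
    have h2 : commutator (↥L ⧸ R) = ⊤ := by
      rw [commutator_def, ← Subgroup.map_top_of_surjective (QuotientGroup.mk' R) (QuotientGroup.mk'_surjective R),
        ← Subgroup.map_commutator, ← commutator_def, hperf]
    exact hlt.ne h2
  intro x hx
  have hle : R ≤ W.subgroupOf L := by
    rw [hR, Cfsg.pResidual, Subgroup.closure_le]
    exact fun y hy => h y y.2 (by rw [Subgroup.orderOf_coe]; exact hy)
  exact hle (htop ▸ Subgroup.mem_top (⟨x, hx⟩ : L))

theorem norm_of_subnormal {L Y R : Subgroup G} (hLY : L ≤ Y) (hsub : (L.subgroupOf Y).IsSubnormal)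
    (hp : ⁅L, L⁆ = L) (hR : IsPGroup 2 R) (hRY : R ≤ Y) (hn : Y ≤ Subgroup.normalizer (R : Set G)) :
    R ≤ Subgroup.normalizer (L : Set G) := by
  classical
  haveI : Fact (Nat.Prime 2) := ⟨Nat.prime_two⟩
  intro b hb
  refine Cfsg.Agent.Solv.mem_normalizer_of_conj_le (Subgroup.map_le_iff_le_comap.2 ?_)
  refine le_trans (perfect_le hp (W := L ⊓ L.comap (MulAut.conj b).toMonoidHom) inf_le_left fun x hx ho => ?_) inf_le_right
  refine Subgroup.mem_inf.2 ⟨hx, ?_⟩
  haveI hn' : (R.subgroupOf Y).Normal := (Subgroup.normal_subgroupOf_iff_le_normalizer hRY).2 hn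
  haveI : (Subgroup.comap Y.subtype R).Normal := hn'
  let b' : Y := ⟨b, hRY hb⟩
  let x' : Y := ⟨x, hLY hx⟩
  have hxm : x' ∈ R.subgroupOf Y ⊔ L.subgroupOf Y := Subgroup.mem_sup_right hx
  have hbm : b' ∈ R.subgroupOf Y ⊔ L.subgroupOf Y := Subgroup.mem_sup_left hb
  have ho' : (orderOf (b' * x' * b'⁻¹)).Coprime 2 := by
    have h1 := orderOf_injective (MulAut.conj b').toMonoidHom (MulAut.conj b').injective x'
    have h2 : orderOf (b' * x' * b'⁻¹) = orderOf x := h1.trans (Subgroup.orderOf_coe x').symm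
    rw [h2]; exact ho
  exact Cfsg.Agent.Local.CharPB.mem_of_coprime_of_subnormal hsub (hR.comap_subtype (K := Y))
    (mul_mem (mul_mem hbm hxm) (inv_mem hbm)) ho'


/-- Let G be a non-abelian finite simple QTKE-group and T a Sylow 2-subgroup of G, and let L be a member of ℒ_f(G, T) (a member of ℒ(G, T) that lies in 𝒳 — L ≠ 1, L = O²(L), F*(L) = O₂(L) — and acts nontrivially on Ω₁(Z(O₂(L)))). Then (1) every member K of ℒ(G, T) containing L is again in ℒ_f(G, T) (a sharper form of (1) also compares the modules [Ω₁(Z(R)), L] and [Ω₁(Z(R')), K] for suitable 2-subgroups R, R'; that comparison is not included); and (2) if L is maximal under inclusion among the members of ℒ_f(G, T), then L is a maximal member of ℒ(G, T), hence a member of ℒ_f*(G, T). -/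
theorem result {G : Type*} [Group G] [Finite G] [IsSimpleGroup G]
    (hG : ¬ IsMulCommutative G) (hQ : Cfsg.IsQTKE G) (T : Sylow 2 G) (L : Subgroup G)
    (hL : L ∈ Cfsg.calLf (T : Subgroup G)) :
    (∀ K ∈ Cfsg.calL (T : Subgroup G), L ≤ K → K ∈ Cfsg.calLf (T : Subgroup G)) ∧
    ((∀ K ∈ Cfsg.calLf (T : Subgroup G), L ≤ K → K = L) → L ∈ Cfsg.calLfMax (T : Subgroup G)) := by
  skip
  classical
  haveI : Fact (Nat.Prime 2) := ⟨Nat.prime_two⟩
  have hQT0 := hQ
  suffices key : ∀ K ∈ Cfsg.calL (T : Subgroup G), L ≤ K → K ∈ Cfsg.calLf (T : Subgroup G) from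
    ⟨key, fun hmax => ⟨⟨hL.1, fun K hK hLK => hmax K (key K hK hLK) hLK⟩, hL.2⟩⟩
  intro K hK hLK
  refine ⟨hK, ?_⟩
  obtain ⟨⟨⟨hLc, hLperf, hLsub, -⟩, -, -⟩, -, hVL⟩ := hL
  obtain ⟨⟨hKne, hKperf, hKsub, -⟩, -, hQne⟩ := hK
  set Y := L ⊔ (T : Subgroup G) with hY
  set X := K ⊔ (T : Subgroup G) with hX
  have hYX : Y ≤ X := sup_le_sup_right hLK _
  have hTX : (T : Subgroup G) ≤ X := le_sup_right
  have hLp : ⁅L, L⁆ = L := perfect_map le_sup_left hLperf
  have hKp : ⁅K, K⁆ = K := perfect_map le_sup_left hKperf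
  set Q := Cfsg.pCoreOf 2 X with hQ
  have hQp : IsPGroup 2 Q := Cfsg.Agent.Local.FrakH.isPGroup_pCoreOf X
  have hQX : Q ≤ X := Subgroup.map_subtype_le _
  have hXQ : X ≤ Subgroup.normalizer (Q : Set G) := Cfsg.Agent.Local.FrakH.le_normalizer_pCoreOf X
  have hQT : Q ≤ (T : Subgroup G) := by
    rintro _ ⟨x, hx, rfl⟩
    exact Cfsg.Agent.Solv.pCore_le_sylow (T.subtype hTX) hx
  have hQL : Q ≤ Subgroup.normalizer (L : Set G) :=
    norm_of_subnormal le_sup_left hLsub hLp hQp (hQT.trans le_sup_right) (hYX.trans hXQ)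
  have hQK : Q ≤ Subgroup.normalizer (K : Set G) :=
    norm_of_subnormal le_sup_left hKsub hKp hQp hQX hXQ
  -- `X` and `K` have characteristic two
  set N := Subgroup.normalizer (Q : Set G) with hN
  have hQne' : Q ≠ ⊥ := fun h => hQne ((Subgroup.map_eq_bot_iff_of_injective _ X.subtype_injective).1 h)
  have hNc : Subgroup.centralizer (Cfsg.pCore 2 N : Set N) ≤ Cfsg.pCore 2 N :=
    hQT0.2.2 N ⟨Q, hQp, hQne', rfl⟩ ⟨T, hTX.trans hXQ⟩
  have hXc : Subgroup.centralizer (Cfsg.pCore 2 X : Set X) ≤ Cfsg.pCore 2 X := by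
    refine Cfsg.Agent.Local.CharPB.centralizer_pCore_le_of_mulEquiv (Subgroup.subgroupOfEquivOfLe hXQ)
      (Cfsg.Agent.Local.CharPB.centralizer_pCore_le_of_normalized hNc _ ?_)
    refine (Cfsg.Agent.Solv.pCore_le_sylow (T.subtype (hTX.trans hXQ))).trans ?_
    exact le_trans (fun t ht => hTX ht) Subgroup.le_normalizer
  have hKc : Subgroup.centralizer (Cfsg.pCore 2 K : Set K) ≤ Cfsg.pCore 2 K := by
    refine Cfsg.Agent.Local.CharPB.centralizer_pCore_le_of_mulEquiv (Subgroup.subgroupOfEquivOfLe le_sup_left)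
      (Cfsg.Agent.Local.CharPB.centralizer_pCore_le_of_normalized hXc (K.subgroupOf X) ?_)
    intro q hq
    rw [← Subgroup.subgroupOf_normalizer_eq le_sup_left]
    exact hQK ⟨q, hq, rfl⟩
  have hKodd : Cfsg.oddGenerated K = K := by
    refine le_antisymm ((Subgroup.closure_le _).2 fun x hx => hx.1) ?_
    exact perfect_le hKp ((Subgroup.closure_le _).2 fun x hx => hx.1) fun x hx ho =>
      Subgroup.subset_closure ⟨hx, Nat.coprime_two_right.1 ho⟩
  have hKne' : K ≠ ⊥ := fun h => hKne (by rw [h, Subgroup.bot_subgroupOf])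
  refine ⟨⟨hKne', hKodd, ?_⟩, ?_⟩
  · exact Cfsg.Agent.Local.CharPB.fstar_eq_pCore_iff.2 hKc
  -- `K` is nontrivial on its module
  intro hVK
  apply hVL
  set B := Cfsg.pCoreTwoOf K with hB
  set PL := Cfsg.pCoreTwoOf L with hPL
  set ZL := PL ⊓ Subgroup.centralizer (PL : Set G) with hZL
  set A := Cfsg.omegaOne 2 ZL with hA
  have hAZ : A ≤ ZL := (Subgroup.closure_le _).2 fun x hx => hx.1
  have hPLL : PL ≤ L := Subgroup.map_subtype_le _
  have hAL : A ≤ L := hAZ.trans (inf_le_left.trans hPLL)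
  have hAcomm : ∀ a ∈ A, ∀ a' ∈ A, a * a' = a' * a := fun a ha a' ha' =>
    Subgroup.mem_centralizer_iff.1 (hAZ ha').2 a (hAZ ha).1
  have hAsq : ∀ a ∈ A, a ^ 2 = 1 := by
    intro a ha
    have : a ∈ A ∧ a ^ 2 = 1 := by
      induction ha using Subgroup.closure_induction with
      | mem x hx => exact ⟨Subgroup.subset_closure hx, hx.2⟩
      | one => exact ⟨one_mem _, one_pow _⟩
      | mul x y _ _ hx hy => exact ⟨mul_mem hx.1 hy.1, by
          rw [(show Commute x y from hAcomm x hx.1 y hy.1).mul_pow, hx.2, hy.2, one_mul]⟩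
      | inv x _ hx => exact ⟨inv_mem hx.1, by rw [inv_pow, hx.2, inv_one]⟩
    exact this.2
  have hNA : Subgroup.normalizer (L : Set G) ≤ Subgroup.normalizer (A : Set G) := by
    intro g hg
    have hgP : g ∈ Subgroup.normalizer (PL : Set G) :=
      Cfsg.Agent.Struct.CoprimeMinimal.le_normalizer_map_char (Subgroup.normalizer (L : Set G)) L le_rfl _ hg
    refine Cfsg.Agent.Solv.mem_normalizer_of_conj_le (Subgroup.map_le_iff_le_comap.2 ((Subgroup.closure_le _).2 ?_))
    rintro x ⟨hx, hx2⟩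
    refine Subgroup.subset_closure ⟨Subgroup.mem_inf.2 ⟨(Subgroup.mem_normalizer_iff.1 hgP x).1 hx.1,
      Subgroup.mem_centralizer_iff.2 fun y hy => ?_⟩, ?_⟩
    · have h1 := Subgroup.mem_centralizer_iff.1 hx.2 _ ((Subgroup.mem_normalizer_iff''.1 hgP y).1 hy)
      show y * (g * x * g⁻¹) = g * x * g⁻¹ * y
      calc y * (g * x * g⁻¹) = g * ((g⁻¹ * y * g) * x) * g⁻¹ := by group
        _ = g * (x * (g⁻¹ * y * g)) * g⁻¹ := by rw [h1]
        _ = _ := by group
    · show (MulAut.conj g).toMonoidHom x ^ 2 = 1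
      rw [← map_pow, hx2, map_one]
  have hBQ : B ≤ Q := by
    rintro _ ⟨x, hx, rfl⟩
    let x' : X := ⟨(x : G), (le_sup_left : K ≤ X) x.2⟩
    refine ⟨x', ?_, rfl⟩
    rw [Cfsg.Agent.Solv.pCore_eq_iInf_sylow 2]
    refine Subgroup.mem_iInf.2 fun P => ?_
    have hidx := Cfsg.Agent.Solv.index_sylow_inf_subnormal (K.subgroupOf X) hKsub P
    set R := (Cfsg.pCore 2 K).map (Subgroup.inclusion (le_sup_left : K ≤ X)) with hR
    have hRK : R ≤ K.subgroupOf X := by rintro _ ⟨r, -, rfl⟩; exact r.2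
    let S' : Sylow 2 ↥(K.subgroupOf X) :=
      (P.isPGroup'.comap_of_injective _ (K.subgroupOf X).subtype_injective).toSylow hidx
    haveI : ((R.subgroupOf (K.subgroupOf X))).Normal := by
      refine (Subgroup.normal_subgroupOf_iff_le_normalizer hRK).2 fun k hk => ?_
      refine Cfsg.Agent.Solv.mem_normalizer_of_conj_le (Subgroup.map_le_iff_le_comap.2 ?_)
      rintro _ ⟨r, hr, rfl⟩
      exact ⟨⟨(k : G), hk⟩ * r * ⟨(k : G), hk⟩⁻¹, (inferInstance : (Cfsg.pCore 2 K).Normal).conj_mem r hr _, rfl⟩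
    have hRp : IsPGroup 2 ↥(R.subgroupOf (K.subgroupOf X)) :=
      ((Cfsg.Agent.Solv.isPGroup_pCore 2 K).map _).comap_subtype (K := K.subgroupOf X)
    have h1 := (Cfsg.Agent.Solv.le_pCore hRp).trans (Cfsg.Agent.Solv.pCore_le_sylow S')
    have h2 : (⟨x', x.2⟩ : ↥(K.subgroupOf X)) ∈ R.subgroupOf (K.subgroupOf X) := ⟨x, hx, rfl⟩
    exact h1 h2
  have hBL : B ≤ Subgroup.normalizer (L : Set G) := hBQ.trans hQL
  have hBA : B ≤ Subgroup.normalizer (A : Set G) := hBL.trans hNA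
  have hCAB : ∀ a ∈ A, (∀ b ∈ B, b * a = a * b) → ∀ k ∈ K, a * k = k * a := by
    intro a ha hab k hk
    have haK : a ∈ K := hLK (hAL ha)
    have h1 : (⟨a, haK⟩ : K) ∈ Cfsg.pCore 2 K :=
      hKc (Subgroup.mem_centralizer_iff.2 fun o ho => Subtype.ext (hab _ ⟨o, ho, rfl⟩))
    have h2 : a ∈ Cfsg.omegaOne 2 (B ⊓ Subgroup.centralizer (B : Set G)) :=
      Subgroup.subset_closure ⟨Subgroup.mem_inf.2 ⟨⟨_, h1, rfl⟩, Subgroup.mem_centralizer_iff.2 hab⟩, hAsq a ha⟩
    have h3 := Subgroup.commutator_eq_bot_iff_le_centralizer.1 hVK h2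
    exact (Subgroup.mem_centralizer_iff.1 h3 k hk).symm
  have hodd : ∀ l ∈ L, (orderOf l).Coprime 2 → ∀ a ∈ A, l * a = a * l := by
    intro l hl hlo
    set D := A ⊓ Subgroup.centralizer ({l} : Set G) with hD
    suffices hAD : A ≤ D from fun a ha => (Subgroup.mem_centralizer_singleton_iff.1 (hAD ha).2).symm
    have hlA : l ∈ Subgroup.normalizer (A : Set G) := hNA (Subgroup.le_normalizer hl)
    have hcomm : ∀ b ∈ B, ∀ a ∈ A, b * (l * a * l⁻¹) * b⁻¹ = l * (b * a * b⁻¹) * l⁻¹ := by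
      intro b hb a ha
      have hc : b⁻¹ * l⁻¹ * b * l ∈ PL := by
        refine Cfsg.Agent.Local.FrakH.le_pCoreOf (hQp.to_le (inf_le_left : Q ⊓ L ≤ Q)) inf_le_right
          (le_trans (le_inf (le_trans le_sup_left (hYX.trans hXQ)) Subgroup.le_normalizer)
            (Cfsg.Agent.Solv.le_normalizer_inf inf_le_left inf_le_right)) (Subgroup.mem_inf.2 ⟨?_, ?_⟩)
        · have h1 : l⁻¹ * b * l ∈ Q :=
            (Subgroup.mem_normalizer_iff''.1 (hXQ (hYX (Subgroup.mem_sup_left hl))) b).1 (hBQ hb)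
          simpa [mul_assoc] using mul_mem (inv_mem (hBQ hb)) h1
        · have h1 : b⁻¹ * l⁻¹ * b ∈ L :=
            (Subgroup.mem_normalizer_iff''.1 (hBL hb) l⁻¹).1 (inv_mem hl)
          simpa [mul_assoc] using mul_mem h1 hl
      have h2 : l * a * l⁻¹ ∈ A := (Subgroup.mem_normalizer_iff.1 hlA a).1 ha
      have h3 := Subgroup.mem_centralizer_iff.1 (hAZ ha).2 _ hc
      calc b * (l * a * l⁻¹) * b⁻¹ = l * b * (b⁻¹ * l⁻¹ * b * l * a) * l⁻¹ * b⁻¹ := by group
        _ = l * b * (a * (b⁻¹ * l⁻¹ * b * l)) * l⁻¹ * b⁻¹ := by rw [h3]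
        _ = _ := by group
    have hDB : B ≤ Subgroup.normalizer (D : Set G) := by
      intro b hb
      refine Cfsg.Agent.Solv.mem_normalizer_of_conj_le (Subgroup.map_le_iff_le_comap.2 ?_)
      intro a ha
      obtain ⟨haA, hal⟩ := Subgroup.mem_inf.1 ha
      refine Subgroup.mem_inf.2 ⟨(Subgroup.mem_normalizer_iff.1 (hBA hb) a).1 haA,
        Subgroup.mem_centralizer_singleton_iff.2 ?_⟩
      show b * a * b⁻¹ * l = l * (b * a * b⁻¹)
      have h1 := hcomm b hb a haA
      rw [← Subgroup.mem_centralizer_singleton_iff.1 hal, mul_inv_cancel_right] at h1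
      exact eq_mul_inv_iff_mul_eq.1 h1
    by_contra hAD
    set S := A ⊔ B with hS
    have hSp : IsPGroup 2 S := by
      refine IsPGroup.to_sup_of_normal_left' ?_ (Cfsg.Agent.Local.FrakH.isPGroup_pCoreOf K) hBA
      exact (Cfsg.Agent.Local.FrakH.isPGroup_pCoreOf L).to_le (hAZ.trans inf_le_left)
    have hDS : D ≤ S := inf_le_left.trans le_sup_left
    haveI : (D.subgroupOf S).Normal := (Subgroup.normal_subgroupOf_iff_le_normalizer hDS).2
      (sup_le (fun a ha => Subgroup.centralizer_le_normalizer _ (Subgroup.mem_centralizer_iff.2 fun d hd =>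
        hAcomm d hd.1 a ha)) hDB)
    haveI : (A.subgroupOf S).Normal := (Subgroup.normal_subgroupOf_iff_le_normalizer le_sup_left).2
      (sup_le Subgroup.le_normalizer hBA)
    set f := QuotientGroup.mk' (D.subgroupOf S) with hf
    haveI hMn : ((A.subgroupOf S).map f).Normal := Subgroup.Normal.map inferInstance f (QuotientGroup.mk'_surjective _)
    have hM : (A.subgroupOf S).map f ≠ ⊥ := by
      intro h
      refine hAD fun a ha => ?_
      have h1 : f ⟨a, Subgroup.mem_sup_left ha⟩ = 1 := (eq_bot_iff.1 h) ⟨⟨a, Subgroup.mem_sup_left ha⟩, ha, rfl⟩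
      exact Subgroup.mem_subgroupOf.1 ((QuotientGroup.eq_one_iff (⟨a, Subgroup.mem_sup_left ha⟩ : S)).1 h1)
    obtain ⟨m, hm, hm1⟩ := ((A.subgroupOf S).map f ⊓ Subgroup.center _).bot_or_exists_ne_one.resolve_left
      (Cfsg.Agent.Local.inf_center_ne_bot (hSp.to_quotient _) _ hM)
    obtain ⟨⟨a, ha, rfl⟩, hmc⟩ := Subgroup.mem_inf.1 hm
    have haA : (a : G) ∈ A := ha
    have haD : (a : G) ∉ D := fun h => hm1 ((QuotientGroup.eq_one_iff a).2 h)
    have hfix : ∀ b ∈ B, b * a * b⁻¹ * (a : G)⁻¹ ∈ D := by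
      intro b hb
      let b' : S := ⟨b, Subgroup.mem_sup_right hb⟩
      have h1 : f (b' * a * b'⁻¹ * a⁻¹) = 1 := by
        rw [map_mul, map_mul, map_mul, Subgroup.mem_center_iff.1 hmc (f b'), map_inv, map_inv]
        group
      exact Subgroup.mem_subgroupOf.1 ((QuotientGroup.eq_one_iff (b' * a * b'⁻¹ * a⁻¹)).1 h1)
    set e := l * a * l⁻¹ * (a : G)⁻¹ with he
    have hlaA : l * a * l⁻¹ ∈ A := (Subgroup.mem_normalizer_iff.1 hlA a).1 haA
    have heA : e ∈ A := mul_mem hlaA (inv_mem haA)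
    have heB : ∀ b ∈ B, b * e = e * b := by
      intro b hb
      set d := b * a * b⁻¹ * (a : G)⁻¹ with hd
      obtain ⟨hdA, hdl⟩ := Subgroup.mem_inf.1 (hfix b hb)
      have hdl' := Subgroup.mem_centralizer_singleton_iff.1 hdl
      have h1 : b * (l * a * l⁻¹) * b⁻¹ = d * (l * a * l⁻¹) := by
        rw [hcomm b hb a haA]
        calc l * (b * a * b⁻¹) * l⁻¹ = l * d * a * l⁻¹ := by rw [hd]; group
          _ = d * l * a * l⁻¹ := by rw [hdl']
          _ = _ := by group
      have h2 : b * (a : G)⁻¹ * b⁻¹ = (a : G)⁻¹ * d⁻¹ := by rw [hd]; group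
      have h3 : b * e * b⁻¹ = e := by
        calc b * e * b⁻¹ = (b * (l * a * l⁻¹) * b⁻¹) * (b * (a : G)⁻¹ * b⁻¹) := by rw [he]; group
          _ = d * e * d⁻¹ := by rw [h1, h2, he]; group
          _ = e := by rw [hAcomm d hdA e heA, mul_inv_cancel_right]
      exact mul_inv_eq_iff_eq_mul.1 h3
    have hel : l * e = e * l := (hCAB e heA heB l (hLK hl)).symm
    have hit : ∀ n : ℕ, l ^ n * a * (l ^ n)⁻¹ = e ^ n * a := by
      intro n
      induction n with
      | zero => simp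
      | succ n ih =>
        have h1 : l * e ^ n = e ^ n * l := ((show Commute l e from hel).pow_right n).eq
        calc l ^ (n + 1) * a * (l ^ (n + 1))⁻¹ = l * (l ^ n * a * (l ^ n)⁻¹) * l⁻¹ := by rw [pow_succ']; group
          _ = l * e ^ n * a * l⁻¹ := by rw [ih]; group
          _ = e ^ n * (l * a * l⁻¹) := by rw [h1]; group
          _ = _ := by rw [show l * a * l⁻¹ = e * a by rw [he]; group, pow_succ]; group
    have h1 := hit (orderOf l)
    rw [pow_orderOf_eq_one, one_mul, inv_one, mul_one] at h1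
    have h2 : e ^ orderOf l = 1 := by
      have := congrArg (· * (a : G)⁻¹) h1
      simpa using this.symm
    have he1 : e = 1 := orderOf_eq_one_iff.1 (Nat.eq_one_of_dvd_coprimes hlo
      (orderOf_dvd_of_pow_eq_one h2) (orderOf_dvd_of_pow_eq_one (hAsq e heA)))
    refine haD (Subgroup.mem_inf.2 ⟨haA, Subgroup.mem_centralizer_singleton_iff.2 ?_⟩)
    rw [he] at he1
    exact (mul_inv_eq_iff_eq_mul.1 (mul_inv_eq_one.1 he1)).symm
  show ⁅A, L⁆ = ⊥
  rw [Subgroup.commutator_comm, Subgroup.commutator_eq_bot_iff_le_centralizer]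
  refine (perfect_le hLp (W := L ⊓ Subgroup.centralizer (A : Set G)) inf_le_left fun l hl ho =>
    Subgroup.mem_inf.2 ⟨hl, Subgroup.mem_centralizer_iff.2 fun a ha => (hodd l hl ho a ha).symm⟩).trans inf_le_right

end Cfsg.Agent.S1851
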