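import Cfsg.Statements.S1892
import Cfsg.Agent.Lib.Solv.PSolvable
import Cfsg.Agent.Lib.Solv.Coprime
import Cfsg.Agent.Lib.Solv.Basic
-- import your own Cfsg.Agent.* helpers here

set_option autoImplicit false
open Cfsg

namespace Cfsg.Agent.S1892
open Cfsg.Agent
open scoped commutatorElement


/-- Let S be a finite p-solvable group with no nontrivial normal subgroup of order prime to p, A a p-subgroup of S, and Q a nontrivial A-invariant subgroup of order prime to p with [A, Q] = Q. Then the commutator [O_p(S), A, Q] is nontrivial. -/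
theorem result {S : Type*} [Group S] [Finite S] {p : ℕ} [Fact p.Prime]
    (hS : Cfsg.IsPSolvable p S) (hred : Cfsg.pPrimeCore p S = ⊥)
    (A Q : Subgroup S) (hA : IsPGroup p A) (hQ : ¬ p ∣ Nat.card Q) (hQ1 : Q ≠ ⊥)
    (hinv : ∀ a ∈ A, ∀ x ∈ Q, a * x * a⁻¹ ∈ Q) (hAQ : ⁅A, Q⁆ = Q) :
    ⁅⁅Cfsg.pCore p S, A⁆, Q⁆ ≠ ⊥ := by
  intro hbot
  set O := Cfsg.pCore p S with hOdef
  haveI hOn : O.Normal := Cfsg.pCore_normal p S
  have hOp : IsPGroup p O := Solv.isPGroup_pCore p S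
  set D : Subgroup S := ⁅O, A⁆ with hDdef
  have hQD : ∀ q ∈ Q, ∀ d ∈ D, d * q = q * d := fun q hq d hd =>
    commutatorElement_eq_one_iff_mul_comm.1 ((Subgroup.eq_bot_iff_forall _).1 hbot _
      (Subgroup.commutator_mem_commutator hd hq))
  have hAD : A ≤ Subgroup.normalizer (D : Set S) := Subgroup.normalizer_commutator_ge_right O A
  have hQn : Q ≤ Subgroup.normalizer (D : Set S) := by
    intro q hq
    refine Subgroup.mem_normalizer_iff.2 fun d => ⟨fun hd => ?_, fun hd => ?_⟩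
    · rwa [← hQD q hq d hd, mul_inv_cancel_right]
    · have := hQD q hq _ hd
      have e : d = q * d * q⁻¹ := by
        calc d = q⁻¹ * ((q * d * q⁻¹) * q) := by group
          _ = q⁻¹ * (q * (q * d * q⁻¹)) := by rw [this]
          _ = q * d * q⁻¹ := by group
      rwa [← e] at hd
  let K : Subgroup S :=
    { carrier := {s | s ∈ Subgroup.normalizer (D : Set S) ∧ ∀ o ∈ O, s * o * s⁻¹ * o⁻¹ ∈ D}
      one_mem' := ⟨one_mem _, fun o _ => by simp⟩
      mul_mem' := by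
        rintro s t ⟨hs, hs'⟩ ⟨ht, ht'⟩
        refine ⟨mul_mem hs ht, fun o ho => ?_⟩
        have e : s * t * o * (s * t)⁻¹ * o⁻¹ =
            s * (t * o * t⁻¹ * o⁻¹) * s⁻¹ * (s * o * s⁻¹ * o⁻¹) := by group
        rw [e]
        exact mul_mem ((Subgroup.mem_normalizer_iff.1 hs _).1 (ht' o ho)) (hs' o ho)
      inv_mem' := by
        rintro s ⟨hs, hs'⟩
        refine ⟨inv_mem hs, fun o ho => ?_⟩
        have ho' : s⁻¹ * o * s ∈ O := by simpa using hOn.conj_mem o ho s⁻¹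
        have := inv_mem (hs' _ ho')
        have e : (s * (s⁻¹ * o * s) * s⁻¹ * (s⁻¹ * o * s)⁻¹)⁻¹ = s⁻¹ * o * s⁻¹⁻¹ * o⁻¹ := by group
        rwa [e] at this }
  have hAK : A ≤ K := by
    intro a ha
    refine ⟨hAD ha, fun o ho => ?_⟩
    have := inv_mem (Subgroup.commutator_mem_commutator (H₁ := O) (H₂ := A) ho ha)
    rwa [commutatorElement_inv, commutatorElement_def] at this
  have hQK : Q ≤ K := by
    rw [← hAQ, Subgroup.commutator_le]
    intro a ha q hq
    obtain ⟨hqn, hqn'⟩ : q ∈ Subgroup.normalizer (D : Set S) ∧ True := ⟨hQn hq, trivial⟩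
    have h1 : q * a⁻¹ * q⁻¹ ∈ K := by
      obtain ⟨hb, hb'⟩ := inv_mem (hAK ha)
      refine ⟨mul_mem (mul_mem hqn hb) (inv_mem hqn), fun o ho => ?_⟩
      have ho' : q⁻¹ * o * q ∈ O := by simpa using hOn.conj_mem o ho q⁻¹
      have := (Subgroup.mem_normalizer_iff.1 hqn _).1 (hb' _ ho')
      have e : q * (a⁻¹ * (q⁻¹ * o * q) * a⁻¹⁻¹ * (q⁻¹ * o * q)⁻¹) * q⁻¹ =
          q * a⁻¹ * q⁻¹ * o * (q * a⁻¹ * q⁻¹)⁻¹ * o⁻¹ := by group
      rwa [e] at this
    have := mul_mem (hAK ha) h1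
    rwa [commutatorElement_def, show a * q * a⁻¹ * q⁻¹ = a * (q * a⁻¹ * q⁻¹) by group]
  have hOQ : ⁅O, Q⁆ ≤ D := by
    rw [Subgroup.commutator_le]
    intro o ho q hq
    have := inv_mem ((hQK hq).2 o ho)
    rwa [← commutatorElement_def, commutatorElement_inv] at this
  have hOQQ : ⁅⁅O, Q⁆, Q⁆ = ⊥ := by
    rw [eq_bot_iff, ← hbot]
    exact Subgroup.commutator_mono hOQ le_rfl
  have hcop : (Nat.card Q).Coprime (Nat.card O) := by
    obtain ⟨k, hk⟩ := IsPGroup.iff_card.1 hOp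
    rw [hk]
    exact (((Fact.out : p.Prime).coprime_iff_not_dvd.2 hQ).pow_left k).symm
  haveI : Group.IsNilpotent O := hOp.isNilpotent
  have h0 : ⁅O, Q⁆ = ⊥ := Solv.commutator_eq_bot_of_commutator_commutator_eq_bot Q O
    (Subgroup.normalizer_eq_top (H := O) ▸ le_top) hcop (Or.inr inferInstance) hOQQ
  have hQC : Q ≤ O := by
    refine le_trans ?_ (Solv.centralizer_pCore_le_of_isPSolvable hS hred)
    exact Subgroup.commutator_eq_bot_iff_le_centralizer.1 (by rw [Subgroup.commutator_comm]; exact h0)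
  refine hQ1 (Subgroup.eq_bot_of_card_eq _ ?_)
  exact Nat.Coprime.eq_one_of_dvd hcop (Subgroup.card_dvd_of_le hQC)

end Cfsg.Agent.S1892
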