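import Cfsg.Statements.S1893
import Cfsg.Agent.Lib.Solv.QuadraticStable
import Cfsg.Agent.Lib.Solv.FpfNilpotent
import Cfsg.Agent.Lib.Solv.NormalPComplement
import Cfsg.Agent.Lib.Perm.NilpotentMaximal
import Cfsg.Agent.Lib.Block.CoreKernel
-- import your own Cfsg.Agent.* helpers here

set_option autoImplicit false
open Cfsg

namespace Cfsg.Agent.S1893

open Subgroup
open Cfsg.Agent.Solv

section Helpers

variable {X : Type*} [Group X] [Finite X]

theorem exists_prime_split {q : ℕ} (hq : q.Prime) (v : X) :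
    ∃ i j : ℤ, v = v ^ i * v ^ j ∧ (∃ a : ℕ, (v ^ i) ^ q ^ a = 1) ∧ (orderOf (v ^ j)).Coprime q := by
  set n := orderOf v with hn
  have hn0 : n ≠ 0 := (orderOf_pos v).ne'
  set a := n.factorization q
  set b := n / q ^ a with hb
  have hab : q ^ a * b = n := Nat.ordProj_mul_ordCompl_eq_self n q
  have hcop : (q ^ a).Coprime b := (Nat.coprime_ordCompl hq hn0).pow_left _
  have hgcd : (1 : ℤ) = (q ^ a : ℕ) * Nat.gcdA (q ^ a) b + (b : ℤ) * Nat.gcdB (q ^ a) b := by
    rw [← Nat.gcd_eq_gcd_ab, hcop.gcd_eq_one]; rfl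
  refine ⟨(b : ℤ) * Nat.gcdB (q ^ a) b, (q ^ a : ℕ) * Nat.gcdA (q ^ a) b, ?_, ⟨a, ?_⟩, ?_⟩
  · rw [← zpow_add, add_comm, ← hgcd, zpow_one]
  · rw [← zpow_natCast, ← zpow_mul, show (b : ℤ) * Nat.gcdB (q ^ a) b * (q ^ a : ℕ) =
      (n : ℤ) * Nat.gcdB (q ^ a) b by rw [← hab]; push_cast; ring, zpow_mul, zpow_natCast,
      pow_orderOf_eq_one, one_zpow]
  · have h1 : (v ^ ((q ^ a : ℕ) * Nat.gcdA (q ^ a) b : ℤ)) ^ b = 1 := by
      rw [← zpow_natCast, ← zpow_mul, show ((q ^ a : ℕ) : ℤ) * Nat.gcdA (q ^ a) b * (b : ℕ) =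
        (n : ℤ) * Nat.gcdA (q ^ a) b by rw [← hab]; push_cast; ring, zpow_mul, zpow_natCast,
        pow_orderOf_eq_one, one_zpow]
    exact (Nat.coprime_ordCompl hq hn0).symm.coprime_dvd_left (orderOf_dvd_of_pow_eq_one h1)

/-- A prime power element acting quadratically on the Fitting subgroup lies in it (`q ≥ 5`). -/
theorem quad_mem [Group.IsSolvable X] {q : ℕ} [Fact q.Prime] (hq2 : q ≠ 2) (hq3 : q ≠ 3) (y : X)
    {k : ℕ} (hy : y ^ q ^ k = 1)
    (hquad : ∀ v ∈ Cfsg.fittingSubgroup X, Commute y (y * v * y⁻¹ * v⁻¹)) :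
    y ∈ Cfsg.fittingSubgroup X := by
  classical
  set F := Cfsg.fittingSubgroup X with hF
  haveI hFn : F.Normal := fittingSubgroup_normal X
  haveI hFnil : Group.IsNilpotent F := fittingSubgroup_isNilpotent X
  have hnpc := Cfsg.Agent.Perm.hasNormalPComplement_of_isNilpotent q hFnil
  haveI := pPrimeCore_characteristic q F
  set F' := (Cfsg.pPrimeCore q F).map F.subtype with hF'
  haveI hF'n : F'.Normal := inferInstance
  have hF'cop : (Nat.card F').Coprime q := by
    rw [hF', card_map_of_injective F.subtype_injective]; exact card_pPrimeCore_coprime q F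
  have hF'le : F' ≤ F := map_subtype_le _
  have hmemF' : ∀ w ∈ F, (orderOf w).Coprime q → w ∈ F' := fun w hw ho =>
    ⟨⟨w, hw⟩, mem_pPrimeCore_of_orderOf_coprime hnpc (by rwa [Subgroup.orderOf_mk]), rfl⟩
  set R := Cfsg.pCore q X with hR
  have hRq : IsPGroup q R := isPGroup_pCore q X
  have hRF : R ≤ F := pCore_le_fittingSubgroup q
  have hqR : ∀ v ∈ F, (∃ a : ℕ, v ^ q ^ a = 1) → v ∈ R := by
    rintro v hv ⟨a, ha⟩
    have hp : IsPGroup q (zpowers (⟨v, hv⟩ : F)) := by
      rintro ⟨t, ht⟩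
      obtain ⟨m, rfl⟩ := mem_zpowers_iff.1 ht
      refine ⟨a, Subtype.ext ?_⟩
      show ((⟨v, hv⟩ : F) ^ m) ^ q ^ a = 1
      rw [← zpow_natCast, ← zpow_mul, mul_comm, zpow_mul, zpow_natCast]
      rw [show (⟨v, hv⟩ : F) ^ q ^ a = 1 from Subtype.ext ha, one_zpow]
    obtain ⟨P, hP⟩ := hp.exists_le_sylow
    haveI : (P : Subgroup F).Normal :=
      P.normal_of_normalizerCondition Group.normalizerCondition_of_isNilpotent
    haveI : (P : Subgroup F).Characteristic := P.characteristic_of_normal inferInstance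
    exact le_pCore (N := (P : Subgroup F).map F.subtype) (P.isPGroup'.map _)
      ⟨⟨v, hv⟩, hP (mem_zpowers _), rfl⟩
  -- `y` fixes the elements of order prime to `q`
  have hfix : ∀ w ∈ F', Commute y w := by
    intro w hw
    set c := y * w * y⁻¹ * w⁻¹ with hc
    have hcc : Commute y c := hquad w (hF'le hw)
    have hit : ∀ n : ℕ, y ^ n * w * (y ^ n)⁻¹ = c ^ n * w := by
      intro n
      induction n with
      | zero => simp
      | succ n ih =>
        calc y ^ (n + 1) * w * (y ^ (n + 1))⁻¹ = y * (y ^ n * w * (y ^ n)⁻¹) * y⁻¹ := by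
              rw [pow_succ']; group
          _ = (y * c ^ n * y⁻¹) * (c * w) := by rw [ih, hc]; group
          _ = c ^ (n + 1) * w := by
              rw [(hcc.pow_right n).eq, mul_inv_cancel_right, pow_succ]; group
    have h1 := hit (q ^ k)
    rw [hy, one_mul, inv_one, mul_one] at h1
    have hcp : c ^ q ^ k = 1 := mul_eq_right.1 h1.symm
    have hcF : c ∈ F' := mul_mem (hF'n.conj_mem w hw y) (inv_mem hw)
    have hc1 : c = 1 := by
      refine orderOf_eq_one_iff.1 (Nat.eq_one_of_dvd_coprimes (hF'cop.pow_right k)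
        (Subgroup.orderOf_dvd_natCard _ hcF) (orderOf_dvd_of_pow_eq_one hcp))
    rw [hc, mul_inv_eq_one, mul_inv_eq_iff_eq_mul] at hc1
    exact hc1
  -- the action on `R`
  let φ : X →* MulAut R := MulAut.conjNormal
  have hker : φ.ker ≤ centralizer (R : Set X) := fun x hx => mem_centralizer_iff.2 fun r hr => by
    have h := congrArg Subtype.val (DFunLike.congr_fun (MonoidHom.mem_ker.1 hx) ⟨r, hr⟩)
    simp [φ] at h
    exact (mul_inv_eq_iff_eq_mul.1 h).symm
  have hqa : Quad.QuadGrp φ y := by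
    intro v
    have h := hquad v.1 (hRF v.2)
    apply Subtype.ext
    simp [φ]
    conv_rhs => rw [← mul_inv_eq_iff_eq_mul.2 h.eq]
    simp [mul_assoc]
  have hfree : ¬ Quad.InvSL q X := fun h => hq3 (h.eq_three hq2 isPSolvable_of_isSolvable)
  haveI : (centralizer (R : Set X)).Normal := inferInstance
  have hy1 := Quad.mk_mem_pCore hq2 hfree hRq φ (centralizer (R : Set X)) hker hqa
  set M := (Cfsg.pCore q (X ⧸ centralizer (R : Set X))).comap (QuotientGroup.mk' _) ⊓
    centralizer (F' : Set X) with hM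
  haveI : M.Normal := inferInstance
  have hyM : y ∈ M := ⟨hy1, mem_centralizer_iff.2 fun w hw => (hfix w hw).eq.symm⟩
  obtain ⟨Q⟩ : Nonempty (Sylow q M) := inferInstance
  set N := (centralizer (R : Set X)).subgroupOf M with hN
  have hNidx : ∃ e, N.index = q ^ e := by
    haveI : N.Normal := inferInstance
    have hq' : IsPGroup q (M ⧸ N) := by
      intro t
      obtain ⟨m, rfl⟩ := QuotientGroup.mk_surjective t
      obtain ⟨e, he⟩ := isPGroup_pCore q (X ⧸ centralizer (R : Set X)) ⟨_, m.2.1⟩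
      refine ⟨e, (QuotientGroup.eq_one_iff _).2 ?_⟩
      rw [mem_subgroupOf, SubmonoidClass.coe_pow, ← QuotientGroup.eq_one_iff, QuotientGroup.mk_pow]
      exact congrArg Subtype.val he
    obtain ⟨e, he⟩ := IsPGroup.iff_card.1 hq'
    exact ⟨e, he⟩
  have hNQ : N ≤ normalizer ((Q : Subgroup M) : Set M) := by
    intro z hz
    have hzF : (z : X) ∈ F := by
      refine centralizer_fittingSubgroup_le (mem_centralizer_iff.2 fun v hv => ?_)
      obtain ⟨i, j, hij, ha, hb⟩ := exists_prime_split (Fact.out : q.Prime) v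
      have h1 : Commute (v ^ i) (z : X) :=
        mem_centralizer_iff.1 hz _ (hqR _ (zpow_mem hv i) ha)
      have h2 : Commute (v ^ j) (z : X) :=
        mem_centralizer_iff.1 z.2.2 _ (hmemF' _ (zpow_mem hv j) hb)
      have := (h1.mul_left h2).eq
      rwa [← hij] at this
    obtain ⟨i, j, hij, ha, hb⟩ := exists_prime_split (Fact.out : q.Prime) (z : X)
    have hzz : z = z ^ i * z ^ j := Subtype.ext (by simpa using hij)
    rw [hzz]
    refine mul_mem ?_ ?_
    · refine le_normalizer ?_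
      haveI : (R.subgroupOf M).Normal := inferInstance
      refine (hRq.comap_subtype : IsPGroup q (R.subgroupOf M)).le_sylow_of_normal Q ?_
      show ((z ^ i : M) : X) ∈ R
      rw [SubgroupClass.coe_zpow]
      exact hqR _ (zpow_mem hzF i) ha
    · refine centralizer_le_normalizer _ (mem_centralizer_iff.2 fun m _ => Subtype.ext ?_)
      rw [Subgroup.coe_mul, Subgroup.coe_mul, SubgroupClass.coe_zpow]
      exact (mem_centralizer_iff.1 m.2.2 _ (hmemF' _ (zpow_mem hzF j) hb)).symm
  have htop : normalizer ((Q : Subgroup M) : Set M) = ⊤ := by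
    rw [← index_eq_one]
    obtain ⟨e, he⟩ := hNidx
    have h1 : (normalizer ((Q : Subgroup M) : Set M)).index ∣ q ^ e := he ▸ index_dvd_of_le hNQ
    have h2 : (normalizer ((Q : Subgroup M) : Set M)).index ∣ (Q : Subgroup M).index :=
      index_dvd_of_le le_normalizer
    refine Nat.eq_one_of_dvd_coprimes ?_ h1 h2
    exact (((Fact.out : q.Prime).coprime_iff_not_dvd).2 Q.not_dvd_index).pow_left e
  haveI : (Q : Subgroup M).Normal := normalizer_eq_top_iff.1 htop
  haveI : (Q : Subgroup M).Characteristic := Q.characteristic_of_normal inferInstance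
  refine hRF (le_pCore (N := (Q : Subgroup M).map M.subtype) (Q.isPGroup'.map _) ⟨⟨y, hyM⟩, ?_, rfl⟩)
  have hyq : IsPGroup q (zpowers (⟨y, hyM⟩ : M)) := by
    rintro ⟨t, ht⟩
    obtain ⟨m, rfl⟩ := mem_zpowers_iff.1 ht
    refine ⟨k, Subtype.ext ?_⟩
    show ((⟨y, hyM⟩ : M) ^ m) ^ q ^ k = 1
    rw [← zpow_natCast, ← zpow_mul, mul_comm, zpow_mul, zpow_natCast]
    rw [show (⟨y, hyM⟩ : M) ^ q ^ k = 1 from Subtype.ext hy, one_zpow]
  obtain ⟨P, hP⟩ := hyq.exists_le_sylow
  haveI := Q.unique_of_normal inferInstance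
  rw [Subsingleton.elim Q P]
  exact hP (mem_zpowers _)

end Helpers


/-- Let S be a finite solvable group, π a set of primes containing neither 2 nor 3, H a Hall π-subgroup of S, and A a self-centralizing normal subgroup of the Fitting subgroup F(H). Then C_S(A) = A × D for a normal subgroup D of C_S(A) whose order has no prime divisor in π. -/
theorem result {S : Type*} [Group S] [Finite S] [Group.IsSolvable S]
    (π : Set ℕ) (h2 : 2 ∉ π) (h3 : 3 ∉ π) (H : Subgroup S) (hH : Cfsg.IsPiHall π H)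
    (A : Subgroup S) (hA : Cfsg.IsSCN ((Cfsg.fittingSubgroup H).map H.subtype) A) :
    ∃ D : Subgroup S, D ≤ Subgroup.centralizer (A : Set S) ∧
      (∀ c ∈ Subgroup.centralizer (A : Set S), ∀ d ∈ D, c * d * c⁻¹ ∈ D) ∧
      A ⊓ D = ⊥ ∧ A ⊔ D = Subgroup.centralizer (A : Set S) ∧
      ∀ q : ℕ, q.Prime → q ∣ Nat.card D → q ∉ π := by
  skip
  classical
  obtain ⟨hAP, hAN, hAC⟩ := hA
  have hAH : A ≤ H := hAP.trans (map_subtype_le _)
  set C := Subgroup.centralizer (A : Set S) with hC
  have hAcomm : ∀ a ∈ A, ∀ b ∈ A, Commute a b := fun a ha b hb => by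
    have : a ∈ centralizer (A : Set S) := by rw [← hAC] at ha; exact ha.2
    exact (mem_centralizer_iff.1 this b hb).symm
  have hAC' : A ≤ C := fun a ha => mem_centralizer_iff.2 fun b hb => (hAcomm a ha b hb).eq.symm
  set K := Cfsg.piCore {q | q ∉ π} S with hK
  have hKπ : ∀ q : ℕ, q.Prime → q ∣ Nat.card K → q ∉ π := fun q hq hd =>
    Cfsg.Agent.Block.piCore_card _ q hq hd
  set f := QuotientGroup.mk' K with hf
  have hfs : Function.Surjective f := QuotientGroup.mk'_surjective K
  haveI : Group.IsSolvable (S ⧸ K) := Group.isSolvable_of_surjective hfs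
  have hHK : H ⊓ K = ⊥ := by
    refine inf_eq_bot_of_coprime_card H K (Nat.coprime_of_dvd fun q hq h1 h2 => ?_)
    exact hKπ q hq h2 (hH.1 q hq h1)
  set F := Cfsg.fittingSubgroup (S ⧸ K) with hF
  haveI hFn : F.Normal := fittingSubgroup_normal _
  have hFπ : ∀ q : ℕ, q.Prime → q ∣ Nat.card F → q ∈ π := by
    intro q hq hd
    by_contra hqπ
    haveI : Fact q.Prime := ⟨hq⟩
    haveI : Group.IsNilpotent F := fittingSubgroup_isNilpotent _
    obtain ⟨P⟩ : Nonempty (Sylow q F) := inferInstance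
    haveI : (P : Subgroup F).Normal :=
      P.normal_of_normalizerCondition Group.normalizerCondition_of_isNilpotent
    haveI : (P : Subgroup F).Characteristic := P.characteristic_of_normal inferInstance
    set P' := (P : Subgroup F).map F.subtype with hP'
    have hle : P'.comap f ≤ K := by
      refine le_sSup ⟨inferInstance, fun r hr hrd => ?_⟩
      rw [hf, card_comap_mk'] at hrd
      rcases hr.dvd_mul.1 hrd with h | h
      · exact hKπ r hr h
      · obtain ⟨n, hn⟩ := IsPGroup.iff_card.1 (P.isPGroup'.map F.subtype)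
        rw [hP', hn] at h
        rw [(Nat.prime_dvd_prime_iff_eq hr hq).1 (hr.dvd_of_dvd_pow h)]
        exact hqπ
    refine P.ne_bot_of_dvd_card hd ?_
    rw [← map_eq_bot_iff_of_injective _ F.subtype_injective, ← hP', eq_bot_iff]
    intro z hz
    obtain ⟨s, rfl⟩ := hfs z
    exact (QuotientGroup.eq_one_iff s).2 (hle hz)
  have hFH : F ≤ H.map f := by
    have hsup := card_sup_dvd_of_normal F (H.map f)
    have hidx : (H.map f).relIndex (F ⊔ H.map f) = 1 := by
      by_contra hne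
      obtain ⟨q, hq, hqd⟩ := Nat.exists_prime_and_dvd hne
      have hnot : q ∈ π → False := fun hqπ => hH.2 q hq hqπ
        ((hqd.trans (relIndex_dvd_index_of_le le_sup_right)).trans (H.index_map_dvd hfs))
      refine hnot ?_
      have h1 : (H.map f).relIndex (F ⊔ H.map f) ∣ Nat.card F := by
        have h3 := ((H.map f).subgroupOf (F ⊔ H.map f)).card_mul_index
        rw [Nat.card_congr (subgroupOfEquivOfLe (le_sup_right : H.map f ≤ F ⊔ H.map f)).toEquiv] at h3
        rw [← h3, mul_comm (Nat.card F)] at hsup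
        exact Nat.dvd_of_mul_dvd_mul_left Nat.card_pos hsup
      exact hFπ q hq (hqd.trans h1)
    exact le_sup_left.trans (relIndex_eq_one.1 hidx)
  have hFit : ∀ h ∈ H, f h ∈ F → h ∈ (Cfsg.fittingSubgroup H).map H.subtype := by
    intro h hh hv
    let U : Subgroup H := F.comap (f.comp H.subtype)
    have hinj : Function.Injective ((f.comp H.subtype).comp U.subtype) := by
      refine (injective_iff_map_eq_one _).2 fun u hu => ?_
      have : ((u : H) : S) ∈ H ⊓ K := ⟨(u : H).2, (QuotientGroup.eq_one_iff _).1 hu⟩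
      rw [hHK, mem_bot] at this
      exact Subtype.ext (Subtype.ext this)
    haveI : Group.IsNilpotent F := fittingSubgroup_isNilpotent _
    haveI : Group.IsNilpotent U := by
      let g : U →* F := ((f.comp H.subtype).comp U.subtype).codRestrict F fun u => u.2
      refine Subgroup.isNilpotent_of_ker_le_center g fun u hu => ?_
      have hu1 : u = 1 := hinj ((congrArg Subtype.val hu).trans (map_one _).symm)
      rw [hu1]
      exact one_mem _
    exact ⟨⟨h, hh⟩, le_fittingSubgroup (N := U) inferInstance hv, rfl⟩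
  have hkey : ∀ v ∈ F, v ∈ centralizer ((A.map f : Subgroup (S ⧸ K)) : Set (S ⧸ K)) → v ∈ A.map f := by
    intro v hv hvc
    obtain ⟨h, hh, rfl⟩ := hFH hv
    refine mem_map_of_mem f ?_
    rw [← hAC]
    have hhF := hFit h hh hv
    refine ⟨hhF, mem_centralizer_iff.2 fun a ha => ?_⟩
    have h1 := mem_centralizer_iff.1 hvc (f a) (mem_map_of_mem f ha)
    have h2 : a * h * a⁻¹ * h⁻¹ ∈ H ⊓ K := by
      refine ⟨H.mul_mem (H.mul_mem (H.mul_mem (hAH ha) hh) (H.inv_mem (hAH ha))) (H.inv_mem hh), ?_⟩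
      refine (QuotientGroup.eq_one_iff _).1 ?_
      show f (a * h * a⁻¹ * h⁻¹) = 1
      rw [map_mul, map_mul, map_mul, map_inv, map_inv, h1]
      group
    rw [hHK, mem_bot, mul_inv_eq_one, mul_inv_eq_iff_eq_mul] at h2
    exact h2
  have hsyl : ∀ q : ℕ, q.Prime → q ∈ π → ∀ y ∈ C, ∀ k : ℕ, y ^ q ^ k = 1 → y ∈ A := by
    intro q hq hqπ y hy k hyk
    haveI : Fact q.Prime := ⟨hq⟩
    have hyc : f y ∈ centralizer ((A.map f : Subgroup (S ⧸ K)) : Set (S ⧸ K)) := by
      refine mem_centralizer_iff.2 ?_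
      rintro _ ⟨a, ha, rfl⟩
      rw [← map_mul, ← map_mul, mem_centralizer_iff.1 hy a ha]
    have hyF : f y ∈ F := by
      refine quad_mem (q := q) (fun e => h2 (e ▸ hqπ)) (fun e => h3 (e ▸ hqπ)) (f y) (k := k)
        (by rw [← map_pow, hyk, map_one]) fun v hv => ?_
      have hmem : f y * v * (f y)⁻¹ * v⁻¹ ∈ A.map f := by
        refine hkey _ (mul_mem (hFn.conj_mem v hv _) (inv_mem hv)) (mem_centralizer_iff.2 ?_)
        intro a ha
        have hva : v⁻¹ * a * v ∈ A.map f := by
          obtain ⟨h, hh, rfl⟩ := hFH hv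
          obtain ⟨b, hb, rfl⟩ := ha
          refine ⟨h⁻¹ * b * h, ?_, by simp⟩
          have hhF := hFit h hh hv
          exact (mem_normalizer_iff''.1 (hAN hhF) b).1 hb
        have e1 : Commute (f y) a := (mem_centralizer_iff.1 hyc a ha).symm
        have e2 : Commute (f y) (v⁻¹ * a * v) := (mem_centralizer_iff.1 hyc _ hva).symm
        have : (f y * v * (f y)⁻¹ * v⁻¹) * a * (f y * v * (f y)⁻¹ * v⁻¹)⁻¹ = a := by
          calc _ = f y * v * ((f y)⁻¹ * (v⁻¹ * a * v) * f y) * v⁻¹ * (f y)⁻¹ := by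
                generalize f y = g
                clear * -
                rw [mul_inv_rev, mul_inv_rev, mul_inv_rev, inv_inv, inv_inv]
                simp only [mul_assoc]
            _ = f y * v * (v⁻¹ * a * v) * v⁻¹ * (f y)⁻¹ := by
              rw [e2.inv_left.eq, inv_mul_cancel_right]
            _ = f y * a * (f y)⁻¹ := by group
            _ = a := by rw [e1.eq, mul_inv_cancel_right]
        exact (mul_inv_eq_iff_eq_mul.1 this).symm
      exact (mem_centralizer_iff.1 hyc _ hmem).symm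
    obtain ⟨a, ha, hay⟩ := hkey _ hyF hyc
    have hk : a⁻¹ * y ∈ K := (QuotientGroup.eq_one_iff _).1 (by
      show f (a⁻¹ * y) = 1
      rw [map_mul, map_inv, hay, inv_mul_cancel])
    have hco : Commute a⁻¹ y := (show Commute a y from mem_centralizer_iff.1 hy a ha).inv_left
    have hone : a⁻¹ * y = 1 := by
      by_contra hne
      obtain ⟨r, hr, hrd⟩ := Nat.exists_prime_and_dvd
        (fun e => hne (orderOf_eq_one_iff.1 e) : orderOf (a⁻¹ * y) ≠ 1)
      refine hKπ r hr (hrd.trans (Subgroup.orderOf_dvd_natCard _ hk)) ?_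
      have hd := hrd.trans (hco.orderOf_mul_dvd_mul_orderOf)
      rcases hr.dvd_mul.1 hd with h | h
      · rw [orderOf_inv] at h
        exact hH.1 r hr (h.trans (Subgroup.orderOf_dvd_natCard _ (hAH ha)))
      · rw [(Nat.prime_dvd_prime_iff_eq hr hq).1
          (hr.dvd_of_dvd_pow (h.trans (orderOf_dvd_of_pow_eq_one hyk)))]
        exact hqπ
    rw [show y = a from (inv_mul_eq_one.1 hone).symm]
    exact ha
  haveI hAn : (A.subgroupOf C).Normal := ⟨fun a ha c => by
    show (c : S) * a * (c : S)⁻¹ ∈ A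
    rw [← mem_centralizer_iff.1 c.2 (a : S) ha, mul_inv_cancel_right]; exact ha⟩
  have hidxπ : ∀ q : ℕ, q.Prime → q ∣ (A.subgroupOf C).index → q ∉ π := by
    intro q hq hd hqπ
    haveI : Fact q.Prime := ⟨hq⟩
    obtain ⟨Q⟩ : Nonempty (Sylow q C) := inferInstance
    have hle : (Q : Subgroup C) ≤ A.subgroupOf C := fun y hy => by
      obtain ⟨k, hk⟩ := Q.isPGroup' ⟨y, hy⟩
      exact hsyl q hq hqπ y y.2 k (congrArg (fun t : (Q : Subgroup C) => ((t : C) : S)) hk)
    exact Q.not_dvd_index (hd.trans (index_dvd_of_le hle))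
  have hcardA : Nat.card (A.subgroupOf C) = Nat.card A :=
    Nat.card_congr (subgroupOfEquivOfLe hAC').toEquiv
  obtain ⟨D₀, hD₀⟩ := exists_right_complement'_of_coprime (N := A.subgroupOf C)
    (Nat.coprime_of_dvd fun q hq h1 h2' => by
      rw [hcardA] at h1
      exact hidxπ q hq h2' (hH.1 q hq (h1.trans (card_dvd_of_le hAH))))
  refine ⟨D₀.map C.subtype, map_subtype_le _, ?_, ?_, ?_, ?_⟩
  · rintro c hc _ ⟨d, hd, rfl⟩
    obtain ⟨⟨⟨a, ha⟩, ⟨d', hd'⟩⟩, he⟩ := hD₀.2 ⟨c, hc⟩
    refine ⟨d' * d * d'⁻¹, mul_mem (mul_mem hd' hd) (inv_mem hd'), ?_⟩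
    have h1 : ((d' * d * d'⁻¹ : C) : S) ∈ C := SetLike.coe_mem _
    have h2' := mem_centralizer_iff.1 h1 (a : S) ha
    have hce : c = (a : S) * d' := (congrArg Subtype.val he).symm
    show ((d' * d * d'⁻¹ : C) : S) = c * (d : S) * c⁻¹
    calc ((d' * d * d'⁻¹ : C) : S) = (a : S) * ((d' * d * d'⁻¹ : C) : S) * (a : S)⁻¹ := by
          rw [h2', mul_inv_cancel_right]
      _ = _ := by rw [hce]; simp [mul_assoc]
  · rw [eq_bot_iff]
    rintro _ ⟨ha, d, hd, rfl⟩
    have : d ∈ A.subgroupOf C ⊓ D₀ := ⟨ha, hd⟩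
    rw [hD₀.disjoint.eq_bot, mem_bot] at this
    rw [this]; exact one_mem _
  · rw [← map_subgroupOf_eq_of_le hAC', ← Subgroup.map_sup, hD₀.sup_eq_top, ← MonoidHom.range_eq_map,
      range_subtype]
  · intro q hq hd
    rw [card_map_of_injective C.subtype_injective, ← hD₀.symm.index_eq_card] at hd
    exact hidxπ q hq hd

end Cfsg.Agent.S1893
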