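import Cfsg.Statements.S1894
import Cfsg.Agent.Lib.Local.PGroup

set_option autoImplicit false
open Cfsg

namespace Cfsg.Agent.S1894


/-- Let P be a finite p-group, A a normal subgroup of P and B an abelian subgroup of A that is normal in P. Then some subgroup C of A containing B is normal in P and is self-centralizing and normal in A (C ∈ SCN(A)). -/
theorem result {P : Type*} [Group P] [Finite P] {p : ℕ} [Fact p.Prime] (hP : IsPGroup p P)
    (A : Subgroup P) [A.Normal] (B : Subgroup P) [B.Normal] (hBA : B ≤ A) (hB : IsMulCommutative B) :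
    ∃ C : Subgroup P, C.Normal ∧ B ≤ C ∧ Cfsg.IsSCN A C := by
  obtain ⟨C, hC⟩ := (Set.toFinite {C : Subgroup P | C.Normal ∧ B ≤ C ∧ C ≤ A ∧ IsMulCommutative C}).exists_maximal
    ⟨B, inferInstance, le_rfl, hBA, hB⟩
  obtain ⟨⟨hCn, hBC, hCA, hCc⟩, hmax⟩ := hC
  haveI := hCn
  refine ⟨C, hCn, hBC, hCA, Subgroup.le_normalizer_of_normal, ?_⟩
  haveI := hCc
  refine le_antisymm ?_ (le_inf hCA (Subgroup.le_centralizer C))
  by_contra hne
  set D : Subgroup P := A ⊓ Subgroup.centralizer (C : Set P) with hD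
  haveI : D.Normal := inferInstanceAs (A ⊓ Subgroup.centralizer (C : Set P)).Normal
  set M : Subgroup (P ⧸ C) := D.map (QuotientGroup.mk' C) with hM
  haveI : M.Normal := Subgroup.Normal.map inferInstance _ (QuotientGroup.mk'_surjective C)
  have hMne : M ≠ ⊥ := fun h => hne (by
    rwa [Subgroup.map_eq_bot_iff, QuotientGroup.ker_mk'] at h)
  haveI := hP.isNilpotent
  have hq : IsPGroup p (P ⧸ C) := hP.to_quotient C
  have : (M ⊓ Subgroup.center (P ⧸ C)) ≠ ⊥ :=
    Cfsg.Agent.Local.inf_center_ne_bot hq M hMne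
  obtain ⟨x, hx, hx1⟩ := (Subgroup.bot_or_exists_ne_one _).resolve_left this
  obtain ⟨y, hy, rfl⟩ := hx.1
  set E : Subgroup P := (Subgroup.zpowers (QuotientGroup.mk' C y)).comap (QuotientGroup.mk' C) with hE
  have hEn : E.Normal := Subgroup.Normal.comap ⟨fun a ha g => by
    have hca : a ∈ Subgroup.center (P ⧸ C) := (Subgroup.zpowers_le.2 hx.2) ha
    rw [Subgroup.mem_center_iff.1 hca g, mul_inv_cancel_right]
    exact ha⟩ _
  have hCE : C ≤ E := fun c hc => by
    rw [hE, Subgroup.mem_comap, (show QuotientGroup.mk' C c = 1 from (QuotientGroup.eq_one_iff c).2 hc)]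
    exact one_mem _
  have hmem : ∀ e ∈ E, ∃ (c : P) (k : ℤ), c ∈ C ∧ e = y ^ k * c := fun e he => by
    obtain ⟨k, hk⟩ := Subgroup.mem_zpowers_iff.1 he
    refine ⟨(y ^ k)⁻¹ * e, k, ?_, by group⟩
    rw [← map_zpow] at hk
    exact QuotientGroup.eq.1 hk
  have hEA : E ≤ A := fun e he => by
    obtain ⟨c, k, hc, rfl⟩ := hmem e he
    exact mul_mem (A.zpow_mem hy.1 k) (hCA hc)
  have hEc : IsMulCommutative E := ⟨⟨fun a b => Subtype.ext (by
    obtain ⟨c, k, hc, ha⟩ := hmem a a.2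
    obtain ⟨d, l, hd, hb⟩ := hmem b b.2
    have hyc : ∀ c ∈ C, Commute y c := fun c hc =>
      (Subgroup.mem_centralizer_iff.1 hy.2 c hc).symm
    show (a : P) * b = b * a
    rw [ha, hb]
    have h1 : Commute c d := congrArg Subtype.val (hCc.is_comm.comm (⟨c, hc⟩ : C) ⟨d, hd⟩)
    exact ((((Commute.refl y).zpow_zpow k l).mul_right ((hyc d hd).zpow_left k)).mul_left
      (((hyc c hc).symm.zpow_right l).mul_right h1)).eq)⟩⟩
  have hyE : y ∈ E := by
    rw [hE, Subgroup.mem_comap]; exact Subgroup.mem_zpowers _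
  exact hx1 ((QuotientGroup.eq_one_iff y).2 (hmax ⟨hEn, hBC.trans hCE, hEA, hEc⟩ hCE hyE))

end Cfsg.Agent.S1894
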