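import Cfsg.Statements.S1896
import Cfsg.Agent.Lib.Perm.GeneratingTuples
-- import your own Cfsg.Agent.* helpers here

set_option autoImplicit false
open Cfsg

namespace Cfsg.Agent.S1896

open Subgroup
open scoped commutatorElement

theorem mul_pow_central {X : Type*} [Group X] (g h d : X) (hd : ∀ x : X, d * x = x * d)
    (hgh : h * g = d * (g * h)) (k : ℕ) : (g * h) ^ k = d ^ (k.choose 2) * (g ^ k * h ^ k) := by
  have hdc : ∀ (i : ℕ) (x : X), d ^ i * x = x * d ^ i := fun i x => (Commute.pow_left (hd x) i)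
  have hk : ∀ i : ℕ, h ^ i * g = d ^ i * (g * h ^ i) := by
    intro i
    induction i with
    | zero => simp
    | succ i ih =>
      calc h ^ (i + 1) * g = h ^ i * (h * g) := by rw [pow_succ, mul_assoc]
        _ = (h ^ i * d) * (g * h) := by rw [hgh]; group
        _ = d * (h ^ i * g) * h := by rw [← hd]; group
        _ = d * (d ^ i * (g * h ^ i)) * h := by rw [ih]
        _ = _ := by group
  induction k with
  | zero => simp
  | succ k ih =>
    calc (g * h) ^ (k + 1) = d ^ k.choose 2 * (g ^ k * (h ^ k * g) * h) := by rw [pow_succ, ih]; group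
      _ = d ^ k.choose 2 * ((g ^ k * d ^ k) * (g * h ^ k) * h) := by rw [hk]; group
      _ = d ^ k.choose 2 * (d ^ k * g ^ k * (g * h ^ k) * h) := by rw [← hdc k (g ^ k)]
      _ = _ := by
        rw [Nat.choose_succ_succ, Nat.choose_one_right]
        group

theorem unique_involution {X : Type*} [Group X] [Finite X] {a : X} {e : ℕ} (ha : orderOf a = 2 ^ (e + 1))
    {u : X} (hu : u ∈ zpowers a) (h2 : u * u = 1) (h1 : u ≠ 1) : u = a ^ (2 ^ e) := by
  obtain ⟨i, hi : a ^ i = u⟩ := mem_powers_iff_mem_zpowers.2 hu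
  have hd : 2 ^ (e + 1) ∣ 2 * i := ha ▸ orderOf_dvd_of_pow_eq_one (by rw [two_mul, pow_add, hi, h2])
  rw [pow_succ'] at hd
  obtain ⟨j, hj⟩ := Nat.dvd_of_mul_dvd_mul_left two_pos hd
  rcases Nat.even_or_odd j with ⟨l, hl⟩ | ⟨l, hl⟩
  · refine absurd ?_ h1
    rw [← hi, hj, hl, show 2 ^ e * (l + l) = 2 ^ (e + 1) * l by ring, pow_mul, ← ha, pow_orderOf_eq_one, one_pow]
  · rw [← hi, hj, hl, show 2 ^ e * (2 * l + 1) = 2 ^ (e + 1) * l + 2 ^ e by ring, pow_add, pow_mul, ← ha,
      pow_orderOf_eq_one, one_pow, one_mul]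

theorem quaternion {X : Type*} [Group X] [Finite X] (x y : X)
    (hgen : ∀ g, ∃ i j : ℕ, g = x ^ i * y ^ j) (hx : orderOf x = 4) (hy : y * y = x ^ 2)
    (hyx : y * x * y⁻¹ = x⁻¹) (hyn : y ∉ zpowers x) : Nonempty (X ≃* QuaternionGroup 2) := by
  classical
  haveI : NeZero (2 * 2) := ⟨by norm_num⟩
  have hx4 : x ^ 4 = 1 := hx ▸ pow_orderOf_eq_one x
  let f : ZMod (2 * 2) → X := fun i => x ^ i.val
  have f_add : ∀ i j, f (i + j) = f i * f j := fun i j => by
    show x ^ (i + j).val = x ^ i.val * x ^ j.val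
    rw [← pow_add, ZMod.val_add, pow_eq_pow_mod (i.val + j.val) hx4]
  have f0 : f 0 = 1 := by show x ^ (0 : ZMod (2*2)).val = 1; rw [ZMod.val_zero, pow_zero]
  have f_sub : ∀ i j, f (j - i) = (f i)⁻¹ * f j := fun i j => by
    apply eq_inv_mul_of_mul_eq
    rw [← f_add]; congr 1; ring
  have hc : ∀ i, f i * y = y * (f i)⁻¹ := fun i => by
    have h1 : y * (x ^ i.val)⁻¹ * y⁻¹ = x ^ i.val := by
      rw [← conj_inv, ← conj_pow, hyx, inv_pow, inv_inv]
    show x ^ i.val * y = y * (x ^ i.val)⁻¹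
    conv_lhs => rw [← h1]
    group
  have f2 : f 2 = y * y := by rw [hy]; rfl
  let ψ : QuaternionGroup 2 →* X :=
    { toFun := fun
        | QuaternionGroup.a i => f i
        | QuaternionGroup.xa i => y * f i
      map_one' := f0
      map_mul' := by
        rintro (i | i) (j | j)
        · rw [QuaternionGroup.a_mul_a]; exact f_add i j
        · rw [QuaternionGroup.a_mul_xa]
          show y * f (j - i) = f i * (y * f j)
          rw [f_sub, ← mul_assoc (f i), hc, mul_assoc]
        · rw [QuaternionGroup.xa_mul_a]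
          show y * f (i + j) = y * f i * f j
          rw [f_add, mul_assoc]
        · rw [QuaternionGroup.xa_mul_xa]
          show f (2 + j - i) = y * f i * (y * f j)
          rw [show (2 : ZMod (2*2)) + j - i = 2 + (j - i) by ring, f_add, f_sub, f2,
            show y * f i * (y * f j) = y * (f i * y) * f j by group, hc]
          group }
  have hfi : ∀ i : ℕ, f (i : ZMod (2*2)) = x ^ i := fun i => by
    show x ^ (i : ZMod (2*2)).val = x ^ i
    rw [ZMod.val_natCast, ← pow_eq_pow_mod i hx4]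
  have hsurj : Function.Surjective ψ := by
    intro g
    obtain ⟨i, j, rfl⟩ := hgen g
    refine ⟨(QuaternionGroup.a (i : ZMod (2*2))) * (QuaternionGroup.xa 0) ^ j, ?_⟩
    rw [map_mul, map_pow]
    show f (i : ZMod (2*2)) * (y * f 0) ^ j = _
    rw [hfi, f0, mul_one]
  have hinj : Function.Injective ψ := by
    rw [injective_iff_map_eq_one]
    rintro (i | i) h
    · have h' : x ^ i.val = 1 := h
      have h4 := orderOf_dvd_of_pow_eq_one h'
      rw [hx] at h4
      have : i.val = 0 := Nat.eq_zero_of_dvd_of_lt h4 (ZMod.val_lt i)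
      rw [(ZMod.val_eq_zero i).1 this]; rfl
    · refine absurd ?_ hyn
      have h' : y * f i = 1 := h
      rw [eq_inv_of_mul_eq_one_left h']
      exact inv_mem (pow_mem (mem_zpowers x) _)
  exact ⟨(MulEquiv.ofBijective ψ ⟨hinj, hsurj⟩).symm⟩

theorem homocyclic {X : Type*} [Group X] [Finite X] (x y : X) (e : ℕ)
    (hgen : ∀ g, ∃ i j : ℕ, g = x ^ i * y ^ j) (hcomm : x * y = y * x)
    (hx : orderOf x = 2 ^ e) (hy : orderOf y = 2 ^ e) (hI : zpowers x ⊓ zpowers y = ⊥) :
    Nonempty (X ≃* Multiplicative (ZMod (2 ^ e)) × Multiplicative (ZMod (2 ^ e))) := by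
  classical
  let ψ := MonoidHom.noncommCoprod (zpowers x).subtype (zpowers y).subtype (fun a b => by
    obtain ⟨i, hi⟩ := mem_zpowers_iff.1 a.2
    obtain ⟨j, hj⟩ := mem_zpowers_iff.1 b.2
    show Commute (a : X) (b : X)
    rw [← hi, ← hj]
    exact (Commute.zpow_zpow hcomm i j))
  have hsurj : Function.Surjective ψ := by
    intro g
    obtain ⟨i, j, rfl⟩ := hgen g
    exact ⟨(⟨x ^ i, pow_mem (mem_zpowers x) i⟩, ⟨y ^ j, pow_mem (mem_zpowers y) j⟩), rfl⟩
  have hinj : Function.Injective ψ := by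
    rw [injective_iff_map_eq_one]
    rintro ⟨a, b⟩ h
    have h' : (a : X) * (b : X) = 1 := h
    have ha : (a : X) ∈ zpowers x ⊓ zpowers y :=
      mem_inf.2 ⟨a.2, by rw [eq_inv_of_mul_eq_one_left h']; exact inv_mem b.2⟩
    rw [hI, mem_bot] at ha
    rw [ha, one_mul] at h'
    exact Prod.ext (Subtype.ext ha) (Subtype.ext h')
  exact ⟨(MulEquiv.ofBijective ψ ⟨hinj, hsurj⟩).symm.trans (MulEquiv.prodCongr
    (zmodCyclicMulEquiv (isCyclic_zpowers x) |>.symm.trans
      (AddEquiv.toMultiplicative (ZMod.ringEquivCongr (by rw [Nat.card_zpowers, hx])).toAddEquiv))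
    (zmodCyclicMulEquiv (isCyclic_zpowers y) |>.symm.trans
      (AddEquiv.toMultiplicative (ZMod.ringEquivCongr (by rw [Nat.card_zpowers, hy])).toAddEquiv)))⟩

theorem main {X : Type*} [Group X] [Finite X] (hX : IsPGroup 2 X) (hm : Cfsg.IsMetacyclic X)
    (φ : MulAut X) {q : ℕ} (hq : q.Prime) (hq2 : q ≠ 2) (hφ : orderOf φ = q) :
    Nonempty (X ≃* QuaternionGroup 2) ∨
      ∃ n : ℕ, Nonempty (X ≃* Multiplicative (ZMod (2 ^ n)) × Multiplicative (ZMod (2 ^ n))) := by
  classical
  haveI : Fact (Nat.Prime 2) := ⟨Nat.prime_two⟩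
  haveI := Fact.mk hq
  obtain ⟨hpow, hcom⟩ := Cfsg.Agent.Perm.frattini_facts hX
  haveI hΦc : (frattini X).Characteristic := inferInstance
  haveI hΦn : (frattini X).Normal := inferInstance
  -- `φ` is nontrivial modulo the Frattini subgroup
  have hmove : ∃ x, φ x * x⁻¹ ∉ frattini X := by
    by_contra h
    push Not at h
    have hfix : ∀ x : X, ∃ f ∈ frattini X, φ (f * x) = f * x := by
      intro x
      have hφmem : ∀ f ∈ frattini X, φ f ∈ frattini X := fun f hf =>
        Subgroup.characteristic_iff_map_le.1 hΦc φ ⟨f, hf, rfl⟩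
      let S := {g : X // g * x⁻¹ ∈ frattini X}
      let σ : Equiv.Perm S :=
        (MulEquiv.toEquiv φ).subtypeEquiv fun g => by
          have e : φ g * x⁻¹ = φ (g * x⁻¹) * (φ x * x⁻¹) := by rw [map_mul, map_inv]; group
          constructor
          · intro hg
            show φ g * x⁻¹ ∈ frattini X
            rw [e]; exact mul_mem (hφmem _ hg) (h x)
          · intro hg
            have hg' : φ (g * x⁻¹) ∈ frattini X := by
              have := mul_mem (show φ g * x⁻¹ ∈ frattini X from hg) (inv_mem (h x))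
              rwa [e, mul_inv_cancel_right] at this
            have := Subgroup.characteristic_iff_map_le.1 hΦc φ.symm ⟨_, hg', rfl⟩
            simpa using this
      have hσk : ∀ (k : ℕ) (s : S), ((σ ^ k) s : X) = (φ ^ k) (s : X) := by
        intro k
        induction k with
        | zero => intro s; rfl
        | succ k ih => intro s; rw [pow_succ', pow_succ', Equiv.Perm.mul_apply, MulAut.mul_apply, ← ih]; rfl
      have hσq : σ ^ q = 1 := Equiv.ext fun s => Subtype.ext (by
        rw [hσk, ← hφ, pow_orderOf_eq_one]; rfl)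
      haveI : Fintype S := Fintype.ofFinite S
      have hcard : ¬ q ∣ Fintype.card S := by
        have e : Nat.card S = Nat.card (frattini X) := Nat.card_congr
          { toFun := fun s => ⟨_, s.2⟩
            invFun := fun f => ⟨(f : X) * x, by rw [mul_inv_cancel_right]; exact f.2⟩
            left_inv := fun s => Subtype.ext (inv_mul_cancel_right _ _)
            right_inv := fun f => Subtype.ext (mul_inv_cancel_right _ _) }
        obtain ⟨k, hk⟩ := IsPGroup.iff_card.1 (hX.to_subgroup (frattini X))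
        rw [← Nat.card_eq_fintype_card, e, hk]
        exact fun hd => hq2 ((Nat.prime_dvd_prime_iff_eq hq Nat.prime_two).1 (hq.dvd_of_dvd_pow hd))
      obtain ⟨⟨s, hs⟩, hsf⟩ := Equiv.Perm.exists_fixed_point_of_prime (p := q) (n := 1) hcard (σ := σ) (by rw [pow_one]; exact hσq)
      refine ⟨_, hs, ?_⟩
      rw [inv_mul_cancel_right]
      exact congrArg Subtype.val hsf
    let K : Subgroup X := MonoidHom.eqLocus φ.toMonoidHom (MonoidHom.id X)
    have hK : K = ⊤ := frattini_nongenerating (eq_top_iff.2 fun x _ => by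
      obtain ⟨f, hf, hfx⟩ := hfix x
      have : x = f⁻¹ * (f * x) := by group
      rw [this]
      exact mul_mem (mem_sup_right (inv_mem hf)) (mem_sup_left hfx))
    have : φ = 1 := MulEquiv.ext fun x => by
      have : x ∈ K := hK ▸ mem_top x
      exact this
    rw [this, orderOf_one] at hφ
    exact hq.ne_one hφ.symm
  obtain ⟨N, hN, hNc, hQc⟩ := hm
  obtain ⟨⟨x, hxN⟩, hx⟩ := hNc.exists_generator
  obtain ⟨bb, hbb⟩ := hQc.exists_generator
  obtain ⟨b, rfl⟩ := QuotientGroup.mk_surjective bb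
  have hNx : N = zpowers x := le_antisymm (fun v hv => by
    obtain ⟨i, hi⟩ := hx ⟨v, hv⟩
    exact ⟨i, by simpa using congrArg Subtype.val hi⟩) (zpowers_le.2 hxN)
  subst hNx
  have gen : ∀ g : X, ∃ i j : ℕ, g = x ^ i * b ^ j := by
    intro g
    obtain ⟨j, hj⟩ := mem_powers_iff_mem_zpowers.2 (hbb (g : X ⧸ zpowers x))
    change (b : X ⧸ zpowers x) ^ j = g at hj
    have h1 : g * (b ^ j)⁻¹ ∈ zpowers x := by
      rw [← QuotientGroup.eq_one_iff, QuotientGroup.mk_mul, QuotientGroup.mk_inv,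
        QuotientGroup.mk_pow, hj, mul_inv_cancel]
    obtain ⟨i, hi⟩ := mem_powers_iff_mem_zpowers.2 h1
    exact ⟨i, j, by rw [show x ^ i = g * (b ^ j)⁻¹ from hi, inv_mul_cancel_right]⟩
  -- arithmetic in `X / Φ`
  let π := QuotientGroup.mk' (frattini X)
  have hπ : ∀ g, π g = 1 ↔ g ∈ frattini X := fun g => QuotientGroup.eq_one_iff g
  have hπ2 : ∀ g, π g * π g = 1 := fun g => by rw [← map_mul, hπ, ← pow_two]; exact hpow g
  have hπc : ∀ g h, π g * π h = π h * π g := fun g h => by
    have : π ⁅g, h⁆ = 1 := (hπ _).2 (hcom (commutator_mem_commutator (mem_top g) (mem_top h)))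
    rwa [map_commutatorElement, commutatorElement_eq_one_iff_mul_comm] at this
  have hπk : ∀ (g : X) (i : ℕ), π (g ^ i) = π g ^ (i % 2) := fun g i => by
    rw [map_pow]
    conv_lhs => rw [← Nat.mod_add_div i 2]
    rw [pow_add, pow_mul, pow_two, hπ2, one_pow, mul_one]
  have hφπ : ∀ g h, π g = π h → π (φ g) = π (φ h) := by
    intro g h e
    rw [← div_eq_one, ← map_div, hπ] at e ⊢
    rw [← map_div]
    exact Subgroup.characteristic_iff_map_le.1 hΦc φ ⟨_, e, rfl⟩
  have hφk : ∀ (k : ℕ) g h, π g = π h → π ((φ ^ k) g) = π ((φ ^ k) h) := by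
    intro k
    induction k with
    | zero => exact fun g h e => e
    | succ k ih =>
      intro g h e
      rw [pow_succ', MulAut.mul_apply, MulAut.mul_apply]
      exact hφπ _ _ (ih g h e)
  have hback : ∀ g : X, (φ ^ (q - 1)) (φ g) = g := fun g => by
    rw [← MulAut.mul_apply, ← pow_succ, Nat.sub_add_cancel hq.pos, ← hφ, pow_orderOf_eq_one]
    rfl
  have hper : ∀ (g : X) (k : ℕ), 0 < k → k < q → π ((φ ^ k) g) = π g → π (φ g) = π g := by
    intro g k hk0 hkq hk
    have hall : ∀ l : ℕ, π ((φ ^ (k * l)) g) = π g := by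
      intro l
      induction l with
      | zero => rfl
      | succ l ih =>
        rw [Nat.mul_succ, pow_add, MulAut.mul_apply, hφk _ _ _ hk, ih]
    obtain ⟨l, hl⟩ : ∃ l, k * l % q = 1 := by
      obtain ⟨l, -, hl⟩ := Nat.exists_mul_mod_eq_one_of_coprime
        ((hq.coprime_iff_not_dvd.2 (fun hd => by have := Nat.le_of_dvd hk0 hd; omega)).symm) hq.one_lt
      exact ⟨l, hl⟩
    have := hall l
    rwa [← pow_mod_orderOf, hφ, hl, pow_one] at this
  obtain ⟨w, hw⟩ := hmove
  have hwne : π (φ w) ≠ π w := fun e => hw (by rw [← hπ, map_mul, e, map_inv, mul_inv_cancel])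
  have hfour : ∀ g, π g = 1 ∨ π g = π x ∨ π g = π b ∨ π g = π x * π b := by
    intro g
    obtain ⟨i, j, rfl⟩ := gen g
    rw [map_mul, hπk, hπk]
    rcases Nat.mod_two_eq_zero_or_one i with e | e <;> rcases Nat.mod_two_eq_zero_or_one j with e' | e' <;>
      simp [e, e']
  have hφ1 : ∀ g, π g = 1 → π (φ g) = 1 := fun g h => by
    have := hφπ g 1 (by rw [h, map_one])
    simpa using this
  have hxmove : π (φ x) ≠ π x := by
    intro e
    have hb : π (φ b) = π b := by
      by_contra hbne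
      have hbb' : π (φ (φ b)) = π b := by
        rcases hfour (φ b) with h | h | h | h
        · have hb1 : π b = 1 := by
            have h' := hφk (q - 1) (φ b) 1 (by rw [h, map_one])
            rw [map_one, map_one, hback] at h'
            exact h'
          exact absurd (h.trans hb1.symm) hbne
        · have h' := hφk (q - 1) (φ b) (φ x) (h.trans e.symm)
          rw [hback, hback] at h'
          exact absurd (h.trans h'.symm) hbne
        · exact absurd h hbne
        · have h' : π (φ b) = π (x * b) := by rw [h, map_mul]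
          rw [hφπ _ _ h', map_mul φ, map_mul π, e, h, ← mul_assoc, hπ2, one_mul]
      have h2q : 2 < q := lt_of_le_of_ne hq.two_le (Ne.symm hq2)
      exact hbne (hper b 2 two_pos h2q hbb')
    obtain ⟨i, j, rfl⟩ := gen w
    apply hwne
    simp only [map_mul, map_pow, e, hb]
  obtain ⟨y, hy⟩ : ∃ y, y = φ x := ⟨_, rfl⟩
  have hxΦ : π x ≠ 1 := fun e => hxmove (by rw [hφ1 x e, e])
  have hyΦ : π y ≠ 1 := by
    intro e
    apply hxΦ
    have h' := hφk (q - 1) (φ x) 1 (by rw [← hy, e, map_one])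
    rw [map_one, map_one, hback] at h'
    exact h'
  have hxy : π y ≠ π x := hy ▸ hxmove
  have hgenT : ∀ g, π g = 1 ∨ π g = π x ∨ π g = π y ∨ π g = π x * π y := by
    intro g
    rcases hfour y with h | h | h | h
    · exact absurd h hyΦ
    · exact absurd h hxy
    · rw [h]; exact hfour g
    · rw [h]
      rcases hfour g with k | k | k | k
      · exact Or.inl k
      · exact Or.inr (Or.inl k)
      · right; right; right; rw [k, ← mul_assoc, hπ2, one_mul]
      · exact Or.inr (Or.inr (Or.inl k))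
  haveI hxn : (zpowers x).Normal := hN
  haveI hyn : (zpowers y).Normal := by
    have : zpowers y = (zpowers x).map φ.toMonoidHom := by rw [MonoidHom.map_zpowers, hy]; rfl
    rw [this]
    exact hxn.map _ φ.surjective
  have hsup : zpowers x ⊔ zpowers y = ⊤ := frattini_nongenerating (eq_top_iff.2 fun g _ => by
    have hmx : x ∈ zpowers x ⊔ zpowers y := mem_sup_left (mem_zpowers x)
    have hmy : y ∈ zpowers x ⊔ zpowers y := mem_sup_right (mem_zpowers y)
    obtain ⟨v, hv, e⟩ : ∃ v ∈ zpowers x ⊔ zpowers y, π g = π v := by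
      rcases hgenT g with k | k | k | k
      · exact ⟨1, one_mem _, by rw [k, map_one]⟩
      · exact ⟨x, hmx, k⟩
      · exact ⟨y, hmy, k⟩
      · exact ⟨x * y, mul_mem hmx hmy, by rw [k, map_mul]⟩
    have : g = (g * v⁻¹) * v := by group
    rw [this]
    exact mul_mem (mem_sup_right ((hπ _).1 (by rw [map_mul, e, map_inv, mul_inv_cancel]))) (mem_sup_left hv))
  have hgen : ∀ g, ∃ i j : ℕ, g = x ^ i * y ^ j := by
    intro g
    have hg : g ∈ zpowers x ⊔ zpowers y := hsup ▸ mem_top g
    rw [← SetLike.mem_coe, Subgroup.normal_mul] at hg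
    obtain ⟨a, ha, c, hc, rfl⟩ := hg
    obtain ⟨i, hi : x ^ i = a⟩ := mem_powers_iff_mem_zpowers.2 ha
    obtain ⟨j, hj : y ^ j = c⟩ := mem_powers_iff_mem_zpowers.2 hc
    exact ⟨i, j, by rw [hi, hj]⟩
  have hoy : orderOf y = orderOf x := by rw [hy]; exact orderOf_injective φ.toMonoidHom φ.injective x
  obtain ⟨e, he⟩ : ∃ e, orderOf x = 2 ^ e := IsPGroup.iff_orderOf.1 hX x
  have hIc : ∀ v ∈ zpowers x ⊓ zpowers y, ∀ g, v * g = g * v := by
    intro v hv g
    obtain ⟨i, hi⟩ := mem_zpowers_iff.1 (mem_inf.1 hv).1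
    obtain ⟨j, hj⟩ := mem_zpowers_iff.1 (mem_inf.1 hv).2
    obtain ⟨k, l, rfl⟩ := hgen g
    refine (Commute.mul_right ?_ ?_ : Commute v (x ^ k * y ^ l))
    · rw [← hi]; exact ((Commute.refl x).zpow_left i).pow_right k
    · rw [← hj]; exact ((Commute.refl y).zpow_left j).pow_right l
  obtain ⟨c, hc⟩ : ∃ c, c = y * x * y⁻¹ * x⁻¹ := ⟨_, rfl⟩
  have hcI : c ∈ zpowers x ⊓ zpowers y := by
    refine mem_inf.2 ⟨?_, ?_⟩
    · rw [hc]; exact mul_mem (hxn.conj_mem x (mem_zpowers x) y) (inv_mem (mem_zpowers x))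
    · rw [hc, show y * x * y⁻¹ * x⁻¹ = y * (x * y⁻¹ * x⁻¹) by group]
      exact mul_mem (mem_zpowers y) (hyn.conj_mem _ (inv_mem (mem_zpowers y)) x)
  rcases eq_or_ne (zpowers x ⊓ zpowers y) ⊥ with hI | hI
  · refine Or.inr ⟨e, homocyclic x y e hgen ?_ he (hoy.trans he) hI⟩
    rw [hI, mem_bot] at hcI
    rw [hcI] at hc
    exact (mul_inv_eq_iff_eq_mul.1 (mul_inv_eq_one.1 hc.symm)).symm
  left
  obtain ⟨u, hu, hu2, hu1⟩ : ∃ u ∈ zpowers x ⊓ zpowers y, u * u = 1 ∧ u ≠ 1 := by
    obtain ⟨v, hv⟩ := IsPGroup.iff_card.1 (hX.to_subgroup (zpowers x ⊓ zpowers y))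
    have hd : 2 ∣ Nat.card ↥(zpowers x ⊓ zpowers y) := by
      rcases v with _ | v
      · exact absurd (Subgroup.card_eq_one.1 (by simpa using hv)) hI
      · rw [hv]; exact dvd_pow_self 2 v.succ_ne_zero
    obtain ⟨u, hu⟩ := exists_prime_orderOf_dvd_card' 2 hd
    have h1 := pow_orderOf_eq_one u
    rw [hu, pow_two] at h1
    refine ⟨u, u.2, by simpa using congrArg Subtype.val h1, fun h => ?_⟩
    rw [show u = 1 from Subtype.ext h, orderOf_one] at hu
    omega
  obtain ⟨e', rfl⟩ : ∃ e', e = e' + 1 := by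
    rcases e with _ | e'
    · rw [pow_zero, orderOf_eq_one_iff] at he
      exact absurd (by rw [he, map_one]) hxΦ
    · exact ⟨e', rfl⟩
  have hux : u = x ^ (2 ^ e') := unique_involution he (mem_inf.1 hu).1 hu2 hu1
  have huy : u = y ^ (2 ^ e') := unique_involution (hoy.trans he) (mem_inf.1 hu).2 hu2 hu1
  have hcd : ∀ g, c * g = g * c := hIc c hcI
  have hyx : y * x = c * (x * y) := by rw [hc]; group
  obtain ⟨i, j, hij⟩ := hgen (φ y)
  -- the commutator is killed only in the quaternion case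
  by_cases hC : c ^ (2 ^ e').choose 2 = 1
  · exfalso
    have hjπ : π (φ y) = π x ^ (i % 2) * π y ^ (j % 2) := by rw [hij, map_mul, hπk, hπk]
    have hyy : π (φ y) ≠ π y := by
      intro h
      have h' := hφk (q - 1) (φ (φ x)) (φ x) (by rw [← hy]; exact h)
      rw [hback, hback] at h'
      exact hxmove h'
    have hyy1 : π (φ y) ≠ 1 := by
      intro h
      have h' := hφk (q - 1) (φ y) 1 (by rw [h, map_one])
      rw [map_one, map_one, hback] at h'
      exact hyΦ h'
    have hyyx : π (φ y) ≠ π x := by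
      intro h
      refine hxmove (hper x 2 two_pos (lt_of_le_of_ne hq.two_le (Ne.symm hq2)) ?_)
      rw [pow_two, MulAut.mul_apply, ← hy, h]
    obtain ⟨hi, hj⟩ : i % 2 = 1 ∧ j % 2 = 1 := by
      rcases Nat.mod_two_eq_zero_or_one i with a | a <;> rcases Nat.mod_two_eq_zero_or_one j with b' | b' <;>
        rw [a, b'] at hjπ
      · exact absurd (by simpa using hjπ) hyy1
      · exact absurd (by simpa using hjπ) hyy
      · exact absurd (by simpa using hjπ) hyyx
      · exact ⟨a, b'⟩
    have hφu : φ u = u := by rw [hux, map_pow, ← hy, ← huy, hux]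
    have hu' : φ u = (x ^ i * y ^ j) ^ (2 ^ e') := by rw [huy, map_pow, hij]
    have hd : ∀ g, c ^ (j * i) * g = g * c ^ (j * i) := fun g => Commute.pow_left (hcd g) _
    have hswap : y ^ j * x ^ i = c ^ (j * i) * (x ^ i * y ^ j) := by
      have h1 : ∀ i : ℕ, y * x ^ i = c ^ i * (x ^ i * y) := by
        intro i
        induction i with
        | zero => simp
        | succ i ih =>
          calc y * x ^ (i + 1) = c ^ i * (x ^ i * (y * x)) := by rw [pow_succ, ← mul_assoc, ih]; group
            _ = c ^ i * ((x ^ i * c) * (x * y)) := by rw [hyx]; group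
            _ = _ := by rw [← hcd]; group
      clear hd hij hjπ hj hu'
      induction j with
      | zero => simp
      | succ j ih =>
        calc y ^ (j + 1) * x ^ i = y ^ j * (y * x ^ i) := by rw [pow_succ, mul_assoc]
          _ = (y ^ j * c ^ i) * (x ^ i * y) := by rw [h1]; group
          _ = c ^ i * (y ^ j * x ^ i) * y := by rw [← (Commute.pow_left (hcd (y ^ j)) i)]; group
          _ = c ^ i * (c ^ (j * i) * (x ^ i * y ^ j)) * y := by rw [ih]
          _ = _ := by rw [Nat.add_mul, one_mul]; group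
    rw [mul_pow_central _ _ _ hd hswap, ← pow_mul c, mul_comm (j * i), pow_mul c, hC, one_pow, one_mul,
      ← pow_mul, ← pow_mul, mul_comm i, mul_comm j, pow_mul, pow_mul, ← hux, ← huy, hφu] at hu'
    have hodd : ∀ k : ℕ, k % 2 = 1 → u ^ k = u := fun k hk => by
      rw [← Nat.mod_add_div k 2, hk, pow_add, pow_mul, pow_two, hu2, one_pow, mul_one, pow_one]
    rw [hodd i hi, hodd j hj, hu2] at hu'
    exact hu1 hu'
  -- quaternion case
  obtain ⟨f, rfl⟩ : ∃ f, e' = f + 1 := by
    rcases e' with _ | f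
    · refine absurd ?_ hC
      simp
    · exact ⟨f, rfl⟩
  have hcf : ¬ orderOf c ∣ 2 ^ f := fun h => hC (orderOf_dvd_iff_pow_eq_one.1 (h.trans ⟨2 ^ (f + 1) - 1, by
    rw [Nat.choose_two_right, pow_succ', mul_assoc, Nat.mul_div_cancel_left _ two_pos]⟩))
  have hcx : y * x * y⁻¹ = c * x := by rw [hc]; group
  obtain ⟨k, hk : x ^ k = c⟩ := mem_powers_iff_mem_zpowers.2 (mem_inf.1 hcI).1
  obtain ⟨v, hv⟩ : ∃ v, orderOf c = 2 ^ v := IsPGroup.iff_orderOf.1 hX c
  have hle : v ≤ f + 2 := by
    have h : orderOf c ∣ orderOf x := hk ▸ orderOf_pow_dvd k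
    rw [hv, he] at h
    exact (Nat.pow_dvd_pow_iff_le_right one_lt_two).1 h
  have hvf : f < v := by
    by_contra h
    exact hcf (hv ▸ pow_dvd_pow 2 (not_lt.1 h))
  have hck : c ^ k = 1 := by
    have h : y * c * y⁻¹ = c := by rw [← hcd]; group
    conv_lhs at h => rw [← hk, ← conj_pow, hcx, (show Commute c x from hcd x).mul_pow, hk]
    exact mul_eq_right.1 h
  have hdk : 2 ^ v ∣ k := hv ▸ orderOf_dvd_of_pow_eq_one hck
  obtain ⟨k', rfl⟩ := hdk
  have hv1 : v = 1 := by
    have h1 : c ^ 2 ^ (f + 2 - v) = 1 := by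
      rw [← hk, ← pow_mul, show 2 ^ v * k' * 2 ^ (f + 2 - v) = 2 ^ v * 2 ^ (f + 2 - v) * k' by ring,
        ← pow_add, Nat.add_sub_cancel' hle, pow_mul, ← he, pow_orderOf_eq_one, one_pow]
    have h := orderOf_dvd_of_pow_eq_one h1
    rw [hv, Nat.pow_dvd_pow_iff_le_right one_lt_two] at h
    omega
  have hf0 : f = 0 := by omega
  subst hf0 hv1
  simp only [zero_add, pow_one] at hv hux huy he
  have hc2 : c * c = 1 := by have := pow_orderOf_eq_one c; rwa [hv, pow_two] at this
  have hc1 : c ≠ 1 := fun h => by rw [h, orderOf_one] at hv; omega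
  have hcu : c = x ^ 2 := by
    have := unique_involution (e := 1) he (mem_inf.1 hcI).1 hc2 hc1
    simpa using this
  refine quaternion x y hgen (he.trans (by norm_num)) ?_ ?_ ?_
  · rw [← pow_two, ← huy, hux]
  · rw [hcx, hcu, ← pow_succ]
    refine eq_inv_of_mul_eq_one_left ?_
    rw [← pow_succ]
    have := pow_orderOf_eq_one x
    rw [he] at this
    simpa using this
  · intro h
    obtain ⟨l, hl : x ^ l = y⟩ := mem_powers_iff_mem_zpowers.2 h
    rcases Nat.mod_two_eq_zero_or_one l with a | a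
    · exact hyΦ (by rw [← hl, hπk, a, pow_zero])
    · exact hxy (by rw [← hl, hπk, a, pow_one])


/-- A finite metacyclic 2-group whose automorphism group is not a 2-group is isomorphic to the quaternion group of order 8 or to a homocyclic abelian group Z_{2^n} × Z_{2^n}. -/
theorem result {X : Type*} [Group X] [Finite X] (hX : IsPGroup 2 X)
    (hm : Cfsg.IsMetacyclic X) (hA : ¬ IsPGroup 2 (MulAut X)) :
    Nonempty (X ≃* QuaternionGroup 2) ∨
      ∃ n : ℕ, Nonempty (X ≃* Multiplicative (ZMod (2 ^ n)) × Multiplicative (ZMod (2 ^ n))) := by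
  skip
  classical
  haveI : Fact (Nat.Prime 2) := ⟨Nat.prime_two⟩
  haveI : Finite (MulAut X) := Finite.of_injective (fun e => (e : X → X)) DFunLike.coe_injective
  obtain ⟨q, hq, hq2, φ, hφ⟩ : ∃ q : ℕ, q.Prime ∧ q ≠ 2 ∧ ∃ φ : MulAut X, orderOf φ = q := by
    by_contra h
    push Not at h
    refine hA (IsPGroup.of_card (p := 2) (n := (Nat.card (MulAut X)).primeFactorsList.length) ?_)
    refine Nat.eq_prime_pow_of_unique_prime_dvd Nat.card_pos.ne' fun {d} hd hdvd => ?_
    by_contra hd2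
    haveI := Fact.mk hd
    obtain ⟨φ, hφ⟩ := exists_prime_orderOf_dvd_card' d hdvd
    exact h d hd hd2 φ hφ
  exact main hX hm φ hq hq2 hφ

end Cfsg.Agent.S1896
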