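import Cfsg.Statements.S1898
import Cfsg.Agent.Lib.Fusion.FixOmega
-- import your own Cfsg.Agent.* helpers here

set_option autoImplicit false
open Cfsg

namespace Cfsg.Agent.S1898
open scoped commutatorElement

/-- Let X be a finite 2-group whose derived subgroup is elementary abelian and central. Then the subgroup generated by the elements of order dividing 4 has exponent dividing 4, and every automorphism of X fixing each element of order dividing 4 has 2-power order. -/
theorem result {X : Type*} [Group X] [Finite X] (hX : IsPGroup 2 X)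
    (hel : Cfsg.IsElementaryAbelian 2 (commutator X)) (hcen : commutator X ≤ Subgroup.center X) :
    (∀ x ∈ Subgroup.closure {g : X | g ^ 4 = 1}, x ^ 4 = 1) ∧
      ∀ φ : MulAut X, (∀ g : X, g ^ 4 = 1 → φ g = g) → ∃ k : ℕ, φ ^ (2 ^ k) = 1 := by
  haveI : Fact (Nat.Prime 2) := ⟨Nat.prime_two⟩
  have hmem : ∀ a b : X, ⁅a, b⁆ ∈ commutator X := fun a b => by
    rw [commutator_def]; exact Subgroup.commutator_mem_commutator (Subgroup.mem_top a) (Subgroup.mem_top b)
  have hmul : ∀ a b : X, (a * b) ^ 4 = a ^ 4 * b ^ 4 := by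
    intro a b
    set c := ⁅b, a⁆ with hc
    have hcc : ∀ g : X, g * c = c * g := fun g => Subgroup.mem_center_iff.1 (hcen (hmem b a)) g
    have hba : b * a = c * (a * b) := by rw [hc, commutatorElement_def]; group
    have hc2 : c * c = 1 := by rw [← pow_two]; exact hel.2 c (hmem b a)
    have h2 : (a * b) ^ 2 = a ^ 2 * b ^ 2 * c := by
      calc (a * b) ^ 2 = a * (b * a) * b := by rw [pow_two]; group
        _ = a * c * a * b * b := by rw [hba]; group
        _ = c * (a * a * (b * b)) := by rw [hcc a]; group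
        _ = _ := by rw [← hcc, pow_two, pow_two]
    have h2' : ∀ u v : X, ⁅v, u ^ 2⁆ = 1 := by
      intro u v
      have hd : ∀ g : X, g * ⁅v, u⁆ = ⁅v, u⁆ * g := fun g => Subgroup.mem_center_iff.1 (hcen (hmem v u)) g
      have e : ⁅v, u ^ 2⁆ = ⁅v, u⁆ * (u * ⁅v, u⁆ * u⁻¹) := by rw [commutatorElement_def, commutatorElement_def, pow_two]; group
      rw [e, hd u, mul_inv_cancel_right, ← pow_two]
      exact hel.2 _ (hmem v u)
    calc (a * b) ^ 4 = ((a * b) ^ 2) * ((a * b) ^ 2) := by rw [← pow_two, ← pow_mul]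
      _ = a ^ 2 * b ^ 2 * (c * (a ^ 2 * b ^ 2)) * c := by rw [h2]; group
      _ = a ^ 2 * (b ^ 2 * a ^ 2) * b ^ 2 * (c * c) := by rw [← hcc]; group
      _ = a ^ 2 * (a ^ 2 * b ^ 2) * b ^ 2 := by
          rw [hc2, mul_one, (commutatorElement_eq_one_iff_mul_comm.1 (h2' a (b ^ 2)))]
      _ = _ := by group
  constructor
  · intro x hx
    induction hx using Subgroup.closure_induction with
    | mem g hg => exact hg
    | one => exact one_pow 4
    | mul a b _ _ iha ihb => rw [hmul, iha, ihb, one_mul]
    | inv a _ iha => rw [inv_pow, iha, inv_one]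
  · intro φ hφ
    obtain ⟨k, m, hm, he⟩ := Nat.exists_eq_pow_mul_and_not_dvd (orderOf_pos φ).ne' 2 (by norm_num)
    refine ⟨k, MulEquiv.ext fun x => ?_⟩
    refine Cfsg.Agent.Fusion.eq_of_coprime_fix hX (φ ^ 2 ^ k) (n := m)
      (by rw [← pow_mul, ← he, pow_orderOf_eq_one]) hm (fun g hg => ?_) x
    have hg4 : g ^ 4 = 1 := by
      rcases hg with hg | ⟨-, hg⟩
      · rw [show (4 : ℕ) = 2 * 2 from rfl, pow_mul, hg, one_pow]
      · exact hg
    have key : ∀ j : ℕ, (φ ^ j) g = g := by
      intro j
      induction j with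
      | zero => rfl
      | succ j ih => rw [pow_succ', MulAut.mul_apply, ih, hφ g hg4]
    exact key _

end Cfsg.Agent.S1898
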