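import Cfsg.Statements.S1899
-- import your own Cfsg.Agent.* helpers here

set_option autoImplicit false
open Cfsg

namespace Cfsg.Agent.S1899


/-- Let a dihedral group of order 2n, n odd and n > 1, act on a finite abelian 2-group A through automorphisms d and t with d^n = 1, t² = 1 and t d t⁻¹ = d⁻¹, and suppose that d fixes only the identity. Then A is the internal direct product of C_A(t) and its image under d. -/
theorem result {A : Type*} [CommGroup A] [Finite A] (hA : IsPGroup 2 A)
    {n : ℕ} (hn : Odd n) (hn1 : 1 < n) (d t : MulAut A) (hd : d ^ n = 1) (ht : t ^ 2 = 1) (hdt : t * d * t⁻¹ = d⁻¹)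
    (hfix : ∀ a : A, d a = a → a = 1) :
    (MulEquiv.toMonoidHom t).eqLocus (MonoidHom.id A) ⊓ ((MulEquiv.toMonoidHom t).eqLocus (MonoidHom.id A)).map d.toMonoidHom = ⊥ ∧
      (MulEquiv.toMonoidHom t).eqLocus (MonoidHom.id A) ⊔ ((MulEquiv.toMonoidHom t).eqLocus (MonoidHom.id A)).map d.toMonoidHom = ⊤ := by
  obtain ⟨m, hm⟩ := hn
  have hd2 : ∀ b : A, d (d b) = b → b = 1 := fun b hb => by
    refine hfix b ?_
    have h2 : ∀ k : ℕ, (d ^ (2 * k)) b = b := fun k => by
      induction k with
      | zero => rfl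
      | succ k ih => rw [Nat.mul_succ, pow_add, MulAut.mul_apply, pow_two, MulAut.mul_apply, hb, ih]
    have h1 : (d ^ n) b = b := by rw [hd]; rfl
    rwa [hm, pow_succ', MulAut.mul_apply, h2] at h1
  have htd : ∀ b : A, t (d b) = d⁻¹ (t b) := fun b => by
    have := DFunLike.congr_fun hdt (t b)
    simpa using this
  have htd' : ∀ b : A, t (d⁻¹ b) = d (t b) := fun b => by
    have h := htd (d⁻¹ b)
    rw [MulAut.apply_inv_self] at h
    rw [h, MulAut.apply_inv_self]
  have htt : ∀ b : A, t (t b) = b := fun b => by rw [← MulAut.mul_apply, ← pow_two, ht]; rfl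
  constructor
  · rw [eq_bot_iff]
    rintro a ⟨ha, b, hb, rfl⟩
    change t (d b) = d b at ha
    change t b = b at hb
    rw [htd, hb] at ha
    have h3 : d (d b) = b := by
      have := congrArg d ha
      rw [MulAut.apply_inv_self] at this
      exact this.symm
    rw [Subgroup.mem_bot, hd2 b h3, map_one]
  · rw [eq_top_iff]
    intro a _
    let φ : A →* A := ⟨⟨fun y => d y / d⁻¹ y, by simp⟩, fun y z => by
      simp only [map_mul]; rw [div_mul_div_comm]⟩
    have hφ : Function.Injective φ := by
      rw [injective_iff_map_eq_one]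
      intro y hy
      have h : d y = d⁻¹ y := div_eq_one.1 hy
      exact hd2 y (by rw [h, MulAut.apply_inv_self])
    obtain ⟨y, hy⟩ := (Finite.injective_iff_surjective.1 hφ) (a / t a)
    have hy' : d y / d⁻¹ y = a / t a := hy
    have hty : t y = y := hφ (by
      show d (t y) / d⁻¹ (t y) = d y / d⁻¹ y
      rw [hy', ← htd, ← htd', ← map_div, ← inv_div, map_inv, hy', map_div, htt, inv_div])
    have hx : t (a / d y) = a / d y := by
      rw [map_div, htd, hty, ← inv_mul_eq_one, inv_div,
        show d⁻¹ y / t a * (a / d y) = (d y / d⁻¹ y)⁻¹ * (a / t a) by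
          rw [inv_div, div_mul_div_comm, div_mul_div_comm, mul_comm (t a)]]
      rw [hy', inv_mul_cancel]
    rw [show a = (a / d y) * d y by rw [div_mul_cancel]]
    exact Subgroup.mul_mem_sup hx ⟨y, hty, rfl⟩

end Cfsg.Agent.S1899
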