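import Cfsg.Statements.S1900
import Cfsg.Agent.Lib.Solv.Coprime
import Cfsg.Agent.Lib.Local.CoprimeGeneration
import Cfsg.Agent.Lib.Solv.SchurZassenhaus
-- import your own Cfsg.Agent.* helpers here

set_option autoImplicit false
open Cfsg

namespace Cfsg.Agent.S1900
open Cfsg.Agent
open scoped commutatorElement


/-- Let S = PQ be a finite group with P a normal Sylow p-subgroup and Q elementary abelian of order q², q a prime different from p. If exactly two subgroups X₁, X₂ of order q in Q have a nontrivial centralizer in P, then P is the internal direct product of C_P(X₁) and C_P(X₂): they commute elementwise, meet trivially and generate P. -/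
theorem result {S : Type*} [Group S] [Finite S] {p q : ℕ} [Fact p.Prime] [Fact q.Prime] (hpq : p ≠ q)
    (P : Sylow p S) [(P : Subgroup S).Normal] (Q : Subgroup S) (hQ : Cfsg.IsElementaryAbelian q Q) (hQc : Nat.card Q = q ^ 2)
    (hS : (P : Subgroup S) ⊔ Q = ⊤)
    (X₁ X₂ : Subgroup S) (h₁ : X₁ ≤ Q) (h₂ : X₂ ≤ Q) (h₁₂ : X₁ ≠ X₂) (hc₁ : Nat.card X₁ = q) (hc₂ : Nat.card X₂ = q)
    (hf₁ : (P : Subgroup S) ⊓ Subgroup.centralizer (X₁ : Set S) ≠ ⊥)
    (hf₂ : (P : Subgroup S) ⊓ Subgroup.centralizer (X₂ : Set S) ≠ ⊥)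
    (honly : ∀ X : Subgroup S, X ≤ Q → Nat.card X = q →
      (P : Subgroup S) ⊓ Subgroup.centralizer (X : Set S) ≠ ⊥ → X = X₁ ∨ X = X₂) :
    ⁅(P : Subgroup S) ⊓ Subgroup.centralizer (X₁ : Set S), (P : Subgroup S) ⊓ Subgroup.centralizer (X₂ : Set S)⁆ = ⊥ ∧
      ((P : Subgroup S) ⊓ Subgroup.centralizer (X₁ : Set S)) ⊓ ((P : Subgroup S) ⊓ Subgroup.centralizer (X₂ : Set S)) = ⊥ ∧
      ((P : Subgroup S) ⊓ Subgroup.centralizer (X₁ : Set S)) ⊔ ((P : Subgroup S) ⊓ Subgroup.centralizer (X₂ : Set S)) = P := by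
  classical
  haveI hQab : IsMulCommutative Q := hQ.1
  have hQcomm : ∀ a ∈ Q, ∀ b ∈ Q, a * b = b * a := fun a ha b hb =>
    congrArg Subtype.val (hQab.is_comm.comm (⟨a, ha⟩ : Q) ⟨b, hb⟩)
  have hQp : IsPGroup q Q := IsPGroup.of_card (n := 2) hQc
  haveI hQnil : Group.IsNilpotent Q := hQp.isNilpotent
  set P' : Subgroup S := (P : Subgroup S) with hP'
  have hcop : (Nat.card Q).Coprime (Nat.card P') := by
    obtain ⟨k, hk⟩ := IsPGroup.iff_card.1 P.isPGroup'
    rw [hQc, hk]
    exact Nat.Coprime.pow 2 k ((Nat.coprime_primes (Fact.out : q.Prime) (Fact.out : p.Prime)).2 hpq.symm)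
  have hsup : X₁ ⊔ X₂ = Q := by
    refine Subgroup.eq_of_le_of_card_ge (sup_le h₁ h₂) ?_
    have hlt : Nat.card X₁ < Nat.card ↥(X₁ ⊔ X₂) := by
      by_contra h
      have e := Subgroup.eq_of_le_of_card_ge le_sup_left (not_lt.1 h)
      exact h₁₂ (Subgroup.eq_of_le_of_card_ge (e.symm ▸ le_sup_right : X₂ ≤ X₁) (le_of_eq (hc₁.trans hc₂.symm))).symm
    obtain ⟨k, hk⟩ := IsPGroup.iff_card.1 (hQp.to_le (sup_le h₁ h₂))
    rw [hk, hc₁] at hlt
    rw [hQc, hk]
    exact Nat.pow_le_pow_right (Fact.out : q.Prime).pos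
      ((Nat.pow_lt_pow_iff_right (Fact.out : q.Prime).one_lt).1 (by rwa [pow_one]) : 1 < k)
  have hthird : ∀ y ∈ P', y ∈ Subgroup.centralizer (X₁ : Set S) → y ∈ Subgroup.centralizer (X₂ : Set S) → y = 1 := by
    intro y hy hy1 hy2
    by_contra hne
    obtain ⟨⟨a, ha⟩, ha1⟩ := (Subgroup.ne_bot_iff_exists_ne_one (H := X₁)).1 (fun h => by
      rw [h, Subgroup.card_bot] at hc₁; exact (Fact.out : q.Prime).ne_one hc₁.symm)
    obtain ⟨⟨b, hb⟩, hb1⟩ := (Subgroup.ne_bot_iff_exists_ne_one (H := X₂)).1 (fun h => by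
      rw [h, Subgroup.card_bot] at hc₂; exact (Fact.out : q.Prime).ne_one hc₂.symm)
    have haq : a ∈ Q := h₁ ha
    have hbq : b ∈ Q := h₂ hb
    have hab1 : a * b ≠ 1 := by
      intro h
      have hbX : b ∈ X₁ := by rw [eq_inv_of_mul_eq_one_right h]; exact inv_mem ha
      refine h₁₂ ?_
      have hz : Subgroup.zpowers b ≤ X₁ ⊓ X₂ := Subgroup.zpowers_le.2 ⟨hbX, hb⟩
      have hd := Subgroup.card_dvd_of_le (hz.trans inf_le_left)
      rw [Nat.card_zpowers, hc₁] at hd
      rcases (Nat.dvd_prime (Fact.out : q.Prime)).1 hd with h' | h'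
      · exact absurd (orderOf_eq_one_iff.1 h') (fun e => hb1 (Subtype.ext e))
      · have e1 : Subgroup.zpowers b = X₁ := Subgroup.eq_of_le_of_card_ge (hz.trans inf_le_left) (by rw [Nat.card_zpowers, h', hc₁])
        have e2 : Subgroup.zpowers b = X₂ := Subgroup.eq_of_le_of_card_ge (hz.trans inf_le_right) (by rw [Nat.card_zpowers, h', hc₂])
        exact e1.symm.trans e2
    set X := Subgroup.zpowers (a * b)
    have hXQ : X ≤ Q := Subgroup.zpowers_le.2 (mul_mem haq hbq)
    have hXc : Nat.card X = q := by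
      rw [Nat.card_zpowers]
      exact orderOf_eq_prime (hQ.2 _ (mul_mem haq hbq)) hab1
    have hyC : y ∈ P' ⊓ Subgroup.centralizer (X : Set S) := by
      refine Subgroup.mem_inf.2 ⟨hy, Subgroup.mem_centralizer_iff.2 ?_⟩
      rintro w hw
      obtain ⟨i, rfl⟩ := Subgroup.mem_zpowers_iff.1 hw
      have c1 : Commute y a := (Subgroup.mem_centralizer_iff.1 hy1 a ha).symm
      have c2 : Commute y b := (Subgroup.mem_centralizer_iff.1 hy2 b hb).symm
      exact ((c1.mul_right c2).zpow_right i).symm.eq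
    have hne' : P' ⊓ Subgroup.centralizer (X : Set S) ≠ ⊥ := fun h => hne (by rwa [h, Subgroup.mem_bot] at hyC)
    rcases honly X hXQ hXc hne' with h | h
    · have hab : a * b ∈ X₁ := h ▸ Subgroup.mem_zpowers _
      have hbX : b ∈ X₁ := by simpa using mul_mem (inv_mem ha) hab
      have e1 : Subgroup.zpowers b = X₁ ∧ Subgroup.zpowers b = X₂ := by
        have ho : orderOf b = q := orderOf_eq_prime (hQ.2 b hbq) (fun e => hb1 (Subtype.ext e))
        exact ⟨Subgroup.eq_of_le_of_card_ge (Subgroup.zpowers_le.2 hbX) (by rw [Nat.card_zpowers, ho, hc₁]),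
          Subgroup.eq_of_le_of_card_ge (Subgroup.zpowers_le.2 hb) (by rw [Nat.card_zpowers, ho, hc₂])⟩
      exact h₁₂ (e1.1.symm.trans e1.2)
    · have hab : a * b ∈ X₂ := h ▸ Subgroup.mem_zpowers _
      have haX : a ∈ X₂ := by simpa using mul_mem hab (inv_mem hb)
      have ho : orderOf a = q := orderOf_eq_prime (hQ.2 a haq) (fun e => ha1 (Subtype.ext e))
      exact h₁₂ ((Subgroup.eq_of_le_of_card_ge (Subgroup.zpowers_le.2 ha) (by rw [Nat.card_zpowers, ho, hc₁])).symm.trans
        (Subgroup.eq_of_le_of_card_ge (Subgroup.zpowers_le.2 haX) (by rw [Nat.card_zpowers, ho, hc₂])))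
  have hncyc : ¬ IsCyclic Q := by
    intro hc
    obtain ⟨⟨e, he⟩, hgen⟩ := hc.exists_generator
    have hQle : Q ≤ Subgroup.zpowers e := fun x hx => by
      obtain ⟨i, hi⟩ := Subgroup.mem_zpowers_iff.1 (hgen ⟨x, hx⟩)
      exact Subgroup.mem_zpowers_iff.2 ⟨i, congrArg Subtype.val hi⟩
    have hle := Subgroup.card_le_of_le hQle
    rw [Nat.card_zpowers, hQc] at hle
    have := hle.trans (Nat.le_of_dvd (Fact.out : q.Prime).pos (orderOf_dvd_of_pow_eq_one (hQ.2 e he)))
    nlinarith [(Fact.out : q.Prime).two_le]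
  have hgen : ∀ V : Subgroup S, V ≤ P' → Q ≤ Subgroup.normalizer (V : Set S) →
      V ≤ (V ⊓ Subgroup.centralizer (X₁ : Set S)) ⊔ (V ⊓ Subgroup.centralizer (X₂ : Set S)) := by
    intro V hV hQV
    refine Cfsg.Agent.Local.CoprimeGen.le_of_centralizers Q V _ hncyc hQV
      (hcop.coprime_dvd_right (Subgroup.card_dvd_of_le hV)) fun e he he1 => ?_
    intro v hv
    rcases eq_or_ne v 1 with rfl | hv1
    · exact one_mem _
    have hXc : Nat.card (Subgroup.zpowers e) = q := by
      rw [Nat.card_zpowers]; exact orderOf_eq_prime (hQ.2 e he) he1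
    have hvC : v ∈ Subgroup.centralizer ((Subgroup.zpowers e : Subgroup S) : Set S) := by
      refine Subgroup.mem_centralizer_iff.2 ?_
      intro w hw
      obtain ⟨i, rfl⟩ := Subgroup.mem_zpowers_iff.1 hw
      exact ((show Commute v e from (Subgroup.mem_centralizer_singleton_iff.1 hv.2)).zpow_right i).symm.eq
    have hne : P' ⊓ Subgroup.centralizer ((Subgroup.zpowers e : Subgroup S) : Set S) ≠ ⊥ := fun h => hv1 (by
      have h1 : v ∈ P' ⊓ Subgroup.centralizer ((Subgroup.zpowers e : Subgroup S) : Set S) := ⟨hV hv.1, hvC⟩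
      rwa [h, Subgroup.mem_bot] at h1)
    rcases honly _ (Subgroup.zpowers_le.2 he) hXc hne with h | h
    · exact Subgroup.mem_sup_left (Subgroup.mem_inf.2 ⟨hv.1, h ▸ hvC⟩)
    · exact Subgroup.mem_sup_right (Subgroup.mem_inf.2 ⟨hv.1, h ▸ hvC⟩)
  set C₁ := P' ⊓ Subgroup.centralizer (X₁ : Set S) with hC₁
  set C₂ := P' ⊓ Subgroup.centralizer (X₂ : Set S) with hC₂
  have hinf : C₁ ⊓ C₂ = ⊥ := (Subgroup.eq_bot_iff_forall _).2 fun y hy => hthird y hy.1.1 hy.1.2 hy.2.2
  have hgenP : C₁ ⊔ C₂ = P' :=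
    le_antisymm (sup_le inf_le_left inf_le_left) (hgen P' le_rfl Subgroup.le_normalizer_of_normal)
  refine ⟨?_, hinf, hgenP⟩
  have hQC : ∀ X : Subgroup S, X ≤ Q → Q ≤ Subgroup.normalizer ((P' ⊓ Subgroup.centralizer (X : Set S) : Subgroup S) : Set S) := by
    intro X hX e he
    have key : ∀ e ∈ Q, ∀ v ∈ P' ⊓ Subgroup.centralizer (X : Set S), e * v * e⁻¹ ∈ P' ⊓ Subgroup.centralizer (X : Set S) := by
      intro e he v hv
      refine Subgroup.mem_inf.2 ⟨(inferInstance : P'.Normal).conj_mem v hv.1 e, Subgroup.mem_centralizer_iff.2 fun x hx => ?_⟩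
      have c1 : Commute x e := hQcomm x (hX hx) e he
      have c2 : Commute x v := Subgroup.mem_centralizer_iff.1 hv.2 x hx
      exact ((c1.mul_right c2).mul_right c1.inv_right).eq
    refine Subgroup.mem_normalizer_iff.2 fun v => ⟨key e he v, fun hv => ?_⟩
    simpa [mul_assoc] using key e⁻¹ (inv_mem he) _ hv
  set D := ⁅C₁, C₂⁆ with hD
  have hDP : D ≤ P' := (Subgroup.commutator_mono inf_le_left inf_le_left).trans P'.commutator_le_self
  have hQD : Q ≤ Subgroup.normalizer (D : Set S) :=
    le_trans (le_inf (hQC X₁ h₁) (hQC X₂ h₂)) (Solv.normalizer_le_normalizer_commutator _ _)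
  have hPD : P' ≤ Subgroup.normalizer (D : Set S) := by
    rw [← hgenP]
    exact sup_le (Subgroup.normalizer_commutator_ge_left C₁ C₂) (Subgroup.normalizer_commutator_ge_right C₁ C₂)
  haveI hPnil : Group.IsNilpotent P' := P.isPGroup'.isNilpotent
  have main : ∀ n, D ≤ (Subgroup.lowerCentralSeries (⊤ : Subgroup P') n).map P'.subtype := by
    intro n
    induction n with
    | zero => rw [Subgroup.lowerCentralSeries_zero, ← MonoidHom.range_eq_map, Subgroup.range_subtype]; exact hDP
    | succ n ih =>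
      set N := (Subgroup.lowerCentralSeries (⊤ : Subgroup P') (n + 1)).map P'.subtype with hN
      haveI : (Subgroup.lowerCentralSeries (⊤ : Subgroup P') (n + 1)).Characteristic := inferInstance
      haveI : N.Normal := inferInstance
      have hNP : N ≤ P' := Subgroup.map_subtype_le _
      have hDc : ∀ u ∈ P', ∀ d ∈ D, u * d * u⁻¹ * d⁻¹ ∈ N := by
        intro u hu d hd
        obtain ⟨d', hd', rfl⟩ := ih hd
        refine ⟨⁅(⟨u, hu⟩ : P'), d'⁆, ?_, rfl⟩
        rw [SetLike.mem_coe, Subgroup.lowerCentralSeries_succ, Subgroup.commutator_comm]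
        exact Subgroup.commutator_mem_commutator (Subgroup.mem_top _) hd'
      have side : ∀ (X Y : Subgroup S), X ≤ Q → Y ≤ Q →
          (∀ v, v ∈ P' → v ∈ Subgroup.centralizer (X : Set S) → v ∈ Subgroup.centralizer (Y : Set S) → v = 1) →
          D ≤ (D ⊓ Subgroup.centralizer (X : Set S)) ⊔ (D ⊓ Subgroup.centralizer (Y : Set S)) →
          ⁅P' ⊓ Subgroup.centralizer (X : Set S), P' ⊓ Subgroup.centralizer (Y : Set S)⁆ ≤
            (D ⊓ Subgroup.centralizer (Y : Set S)) ⊔ N ∨ ¬ ⁅P' ⊓ Subgroup.centralizer (X : Set S), P' ⊓ Subgroup.centralizer (Y : Set S)⁆ ≤ D := by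
        intro X Y hXQ hYQ hXY hsplit
        by_cases hsub : ⁅P' ⊓ Subgroup.centralizer (X : Set S), P' ⊓ Subgroup.centralizer (Y : Set S)⁆ ≤ D
        swap
        · exact Or.inr hsub
        left
        set A := P' ⊓ Subgroup.centralizer (X : Set S)
        set B := P' ⊓ Subgroup.centralizer (Y : Set S)
        set M := (D ⊓ Subgroup.centralizer (Y : Set S)) ⊔ N with hM
        have hMP : M ≤ P' := sup_le (inf_le_left.trans hDP) hNP
        have hQM : Q ≤ Subgroup.normalizer (M : Set S) := by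
          have key : ∀ e ∈ Q, ∀ v ∈ D ⊓ Subgroup.centralizer (Y : Set S), e * v * e⁻¹ ∈ M := fun e he v hv =>
            Subgroup.mem_sup_left (Subgroup.mem_inf.2 ⟨(Subgroup.mem_normalizer_iff.1 (hQD he) v).1 hv.1,
              (((Subgroup.mem_normalizer_iff.1 (hQC Y hYQ he) v).1 (Subgroup.mem_inf.2 ⟨hDP hv.1, hv.2⟩))).2⟩)
          intro e he
          have key' : ∀ e ∈ Q, ∀ v ∈ M, e * v * e⁻¹ ∈ M := fun e he => by
            have : M ≤ M.comap (MulAut.conj e).toMonoidHom := sup_le (fun v hv => key e he v hv)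
              (fun v hv => Subgroup.mem_sup_right ((inferInstance : N.Normal).conj_mem v hv e))
            exact fun v hv => this hv
          refine Subgroup.mem_normalizer_iff.2 fun v => ⟨key' e he v, fun hv => ?_⟩
          simpa [mul_assoc] using key' e⁻¹ (inv_mem he) _ hv
        have hPM : P' ≤ Subgroup.normalizer (M : Set S) := by
          intro u hu
          have key' : ∀ u ∈ P', ∀ v ∈ M, u * v * u⁻¹ ∈ M := fun u hu => by
            have : M ≤ M.comap (MulAut.conj u).toMonoidHom := sup_le (fun v hv => by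
                have h1 := mul_mem (Subgroup.mem_sup_right (hDc u hu v hv.1) : u * v * u⁻¹ * v⁻¹ ∈ M) (Subgroup.mem_sup_left hv)
                rw [inv_mul_cancel_right] at h1
                exact h1)
              (fun v hv => Subgroup.mem_sup_right ((inferInstance : N.Normal).conj_mem v hv u))
            exact fun v hv => this hv
          refine Subgroup.mem_normalizer_iff.2 fun v => ⟨key' u hu v, fun hv => ?_⟩
          simpa [mul_assoc] using key' u⁻¹ (inv_mem hu) _ hv
        haveI : M.Normal := Subgroup.normalizer_eq_top_iff.1 (eq_top_iff.2 (hS.ge.trans (sup_le hPM hQM)))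
        set π := QuotientGroup.mk' M
        have hxD : ∀ x ∈ X, ∀ d ∈ D, π (x * d * x⁻¹) = π d := by
          intro x hx d hd
          let K : Subgroup S := Subgroup.comap π (Subgroup.centralizer {π x})
          have : D ≤ K := hsplit.trans (sup_le (fun v hv => Subgroup.mem_centralizer_singleton_iff.2 (by
              rw [← map_mul, ← map_mul, Subgroup.mem_centralizer_iff.1 hv.2 x hx]))
            (fun v hv => Subgroup.mem_centralizer_singleton_iff.2 (by
              have hv1 : π v = 1 := (QuotientGroup.eq_one_iff v).2 (Subgroup.mem_sup_left hv)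
              rw [hv1, one_mul, mul_one])))
          have h' : π d * π x = π x * π d := Subgroup.mem_centralizer_singleton_iff.1 (this hd)
          rw [map_mul, map_mul, map_inv, ← h', mul_inv_cancel_right]
        have hcen : ∀ u ∈ P', ∀ d ∈ D, π u * π d = π d * π u := by
          intro u hu d hd
          have h' : π (u * d * u⁻¹ * d⁻¹) = 1 := (QuotientGroup.eq_one_iff _).2 (Subgroup.mem_sup_right (hDc u hu d hd))
          rw [map_mul, map_mul, map_mul, map_inv, map_inv, mul_inv_eq_one, mul_inv_eq_iff_eq_mul] at h'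
          exact h'
        have hBsplit := Solv.commutator_sup_centralizer X B (hXQ.trans (hQC Y hYQ))
          ((hcop.coprime_dvd_left (Subgroup.card_dvd_of_le hXQ)).coprime_dvd_right (Subgroup.card_dvd_of_le inf_le_left))
          (Or.inl (Solv.isSolvable_of_le hXQ inferInstance))
        have hbot : B ⊓ Subgroup.centralizer (X : Set S) = ⊥ :=
          (Subgroup.eq_bot_iff_forall _).2 fun v hv => hXY v hv.1.1 hv.2 hv.1.2
        rw [hbot, sup_bot_eq] at hBsplit
        have hkill : B ≤ Subgroup.comap π (Subgroup.centralizer (π '' (A : Set S))) := by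
          rw [← hBsplit, Subgroup.commutator_le]
          intro b hb x hx
          refine Subgroup.mem_centralizer_iff.2 ?_
          rintro _ ⟨a, ha, rfl⟩
          set b' := x * b * x⁻¹
          have hb' : b' ∈ B := (Subgroup.mem_normalizer_iff.1 (hQC Y hYQ (hXQ hx)) b).1 hb
          have hax : x * a * x⁻¹ = a := by rw [Subgroup.mem_centralizer_iff.1 ha.2 x hx, mul_inv_cancel_right]
          have h1 : π ⁅a, b'⁆ = π ⁅a, b⁆ := by
            rw [← hxD x hx _ (hsub (Subgroup.commutator_mem_commutator ha hb))]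
            congr 1
            rw [commutatorElement_def, commutatorElement_def]
            calc a * (x * b * x⁻¹) * a⁻¹ * (x * b * x⁻¹)⁻¹
                = (x * a * x⁻¹) * (x * b * x⁻¹) * (x * a * x⁻¹)⁻¹ * (x * b * x⁻¹)⁻¹ := by rw [hax]
              _ = x * (a * b * a⁻¹ * b⁻¹) * x⁻¹ := by group
          set y := ⁅b, x⁆ with hy
          have hyB : y ∈ B := by
            rw [hy, commutatorElement_def, show b * x * b⁻¹ * x⁻¹ = b * (x * b⁻¹ * x⁻¹) by group]
            exact mul_mem hb ((Subgroup.mem_normalizer_iff.1 (hQC Y hYQ (hXQ hx)) _).1 (inv_mem hb))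
          have h2 : ⁅a, b⁆ = ⁅a, y⁆ * (y * ⁅a, b'⁆ * y⁻¹) := by
            simp only [hy, b', commutatorElement_def]; group
          have h3 := congrArg π h2
          rw [map_mul, map_mul, map_mul, map_inv,
            hcen y hyB.1 _ (hsub (Subgroup.commutator_mem_commutator ha hb')), mul_inv_cancel_right, h1] at h3
          have h4 : π ⁅a, y⁆ = 1 := (right_eq_mul.1 h3)
          rw [map_commutatorElement, commutatorElement_eq_one_iff_mul_comm] at h4
          exact h4
        rw [Subgroup.commutator_le]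
        intro a ha b hb
        refine (QuotientGroup.eq_one_iff _).1 ?_
        show π ⁅a, b⁆ = 1
        rw [map_commutatorElement, commutatorElement_eq_one_iff_mul_comm]
        exact Subgroup.mem_centralizer_iff.1 (hkill hb) _ ⟨a, ha, rfl⟩
      have hsplit := hgen D hDP hQD
      have hM1 := (side X₁ X₂ h₁ h₂ hthird hsplit).resolve_right (not_not.2 le_rfl)
      have hM2 := (side X₂ X₁ h₂ h₁ (fun v hv a b => hthird v hv b a) (by rw [sup_comm]; exact hsplit)).resolve_right
        (not_not.2 (by rw [Subgroup.commutator_comm]))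
      rw [Subgroup.commutator_comm] at hM2
      intro x hx
      obtain ⟨d2, hd2, n2, hn2, e2⟩ := Subgroup.mem_sup_of_normal_right.1 (hM1 hx)
      obtain ⟨d1, hd1, n1, hn1, e1⟩ := Subgroup.mem_sup_of_normal_right.1 (hM2 hx)
      set π := QuotientGroup.mk' N
      have e : π d2 = π d1 := by
        have := congrArg π (e2.trans e1.symm)
        rwa [map_mul, map_mul, show π n2 = 1 from (QuotientGroup.eq_one_iff n2).2 hn2, show π n1 = 1 from (QuotientGroup.eq_one_iff n1).2 hn1, mul_one, mul_one] at this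
      have hfix : ∀ w ∈ Q, w * d2 * w⁻¹ * d2⁻¹ ∈ N := by
        intro w hw
        refine (QuotientGroup.eq_one_iff _).1 ?_
        have hle : Q ≤ Subgroup.comap π (Subgroup.centralizer {π d2}) := by
          rw [← hsup]
          refine sup_le (fun v hv => Subgroup.mem_centralizer_singleton_iff.2 ?_) (fun v hv => Subgroup.mem_centralizer_singleton_iff.2 ?_)
          · rw [e, ← map_mul, ← map_mul, Subgroup.mem_centralizer_iff.1 hd1.2 v hv]
          · rw [← map_mul, ← map_mul, Subgroup.mem_centralizer_iff.1 hd2.2 v hv]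
        have := Subgroup.mem_centralizer_singleton_iff.1 (hle hw)
        show π (w * d2 * w⁻¹ * d2⁻¹) = 1
        rw [map_mul, map_mul, map_mul, map_inv, map_inv, this, mul_inv_cancel_right, mul_inv_cancel]
      obtain ⟨c, hc, hcn⟩ := Solv.exists_centralizer_lift Q P' Subgroup.le_normalizer_of_normal hcop
        (Or.inl inferInstance) N hNP Subgroup.le_normalizer_of_normal Subgroup.le_normalizer_of_normal
        d2 (hDP hd2.1) hfix
      rw [hthird c hc.1 (Subgroup.centralizer_le h₁ hc.2) (Subgroup.centralizer_le h₂ hc.2), mul_one] at hcn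
      rw [← e2]
      exact mul_mem (by simpa using inv_mem hcn) hn2
  obtain ⟨n, hn⟩ := (Subgroup.isNilpotent_iff_lowerCentralSeries P').1 hPnil
  have := main n
  rw [Subgroup.top_subtype_lowerCentralSeries, hn, le_bot_iff] at this
  exact this

end Cfsg.Agent.S1900
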