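import Cfsg.Statements.S1901
import Cfsg.Agent.Lib.Solv.PSolvable
import Cfsg.Agent.Lib.Local.CharPBasics
-- import your own Cfsg.Agent.* helpers here

set_option autoImplicit false
open Cfsg

namespace Cfsg.Agent.S1901
open scoped commutatorElement
universe u

theorem commute_of_le_normalizer {p : ℕ} [Fact p.Prime] : ∀ (n : ℕ) (H : Type u) [Group H] [Finite H],
    Nat.card H ≤ n → Cfsg.IsPSolvable p H →
    ∀ (Q : Subgroup H) (P : Sylow p H), (Nat.card Q).Coprime p →
    Q ≤ Subgroup.normalizer ((P : Subgroup H) : Set H) →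
    ∀ x ∈ Subgroup.normalizer (Q : Set H), (∃ k : ℕ, x ^ p ^ k = 1) → x ∈ Subgroup.centralizer (Q : Set H) := by
  intro n
  induction n with
  | zero => intro H _ _ h; exact absurd h (Nat.not_le.2 Nat.card_pos)
  | succ n ih =>
  intro H _ _ hcard hs Q P hQ hQP x hxN hxp
  classical
  rcases subsingleton_or_nontrivial H with hsub | hnt
  · rw [Subsingleton.elim x 1]; exact one_mem _
  obtain ⟨N, hNn, hN1, hN⟩ : ∃ N : Subgroup H, N.Normal ∧ N ≠ ⊥ ∧ (IsPGroup p N ∨ (Nat.card N).Coprime p) := by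
    rcases Cfsg.Agent.Solv.core_ne_bot_of_isPSolvable hs with h | h
    · exact ⟨_, by haveI := Cfsg.Agent.Solv.pCore_characteristic p H; infer_instance, h,
        Or.inl (Cfsg.Agent.Solv.isPGroup_pCore p H)⟩
    · exact ⟨_, inferInstance, h, Or.inr (Cfsg.Agent.Solv.card_pPrimeCore_coprime p H)⟩
  haveI := hNn
  set f := QuotientGroup.mk' N
  have hf := QuotientGroup.mk'_surjective N
  have hlt : Nat.card (H ⧸ N) ≤ n := by
    have h1 := N.card_mul_index
    have h2 : 1 < Nat.card N := Finite.one_lt_card_iff_nontrivial.2 ((Subgroup.nontrivial_iff_ne_bot N).2 hN1)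
    have h3 : 0 < N.index := Nat.pos_of_ne_zero N.index_ne_zero_of_finite
    have h4 : N.index < Nat.card H := h1 ▸ lt_mul_of_one_lt_left h3 h2
    rw [← Subgroup.index_eq_card]; omega
  have hbar : f x ∈ Subgroup.centralizer ((Q.map f : Subgroup _) : Set (H ⧸ N)) := by
    refine ih (H ⧸ N) hlt (Cfsg.Agent.Solv.isPSolvable_quotient hs N) (Q.map f) (P.mapSurjective hf)
      (hQ.coprime_dvd_left (Subgroup.card_map_dvd _ _)) ?_ (f x) ?_ ?_
    · rw [Sylow.coe_mapSurjective]
      exact (Subgroup.map_mono hQP).trans (Subgroup.le_normalizer_map f)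
    · exact Subgroup.le_normalizer_map f (Subgroup.mem_map_of_mem f hxN)
    · obtain ⟨k, hk⟩ := hxp
      exact ⟨k, by rw [← map_pow, hk, map_one]⟩
  set X := Subgroup.zpowers x
  have hXN : X ≤ Subgroup.normalizer (Q : Set H) := Subgroup.zpowers_le.2 hxN
  have h1 : ⁅Q, X⁆ ≤ Q ⊓ N := by
    refine le_inf (Subgroup.le_normalizer_iff_commutator_le_left.1 hXN) ?_
    rw [Subgroup.commutator_le]
    intro q hq y hy
    rw [← QuotientGroup.eq_one_iff]
    show f ⁅q, y⁆ = 1
    rw [map_commutatorElement, commutatorElement_eq_one_iff_mul_comm]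
    exact Subgroup.mem_centralizer_iff.1 (Subgroup.zpowers_le.2 hbar (by
      obtain ⟨m, rfl⟩ := hy
      exact ⟨m, (map_zpow f x m).symm⟩)) _ (Subgroup.mem_map_of_mem f hq)
  obtain ⟨k, hk⟩ := hxp
  obtain ⟨j, -, hj⟩ := (Nat.dvd_prime_pow (Fact.out : p.Prime)).1 (orderOf_dvd_of_pow_eq_one hk)
  have hcop : (Nat.card X).Coprime (Nat.card Q) := by
    rw [Nat.card_zpowers, hj]; exact hQ.symm.pow_left j
  have hfin : ⁅⁅Q, X⁆, X⁆ = ⊥ := by
    rcases hN with hN | hN
    · refine le_bot_iff.1 ((Subgroup.commutator_mono h1 le_rfl).trans ?_)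
      rw [inf_comm, Cfsg.Agent.Solv.inf_eq_bot_of_isPGroup hN hQ]
      exact (Subgroup.commutator_bot_left X).le
    · refine le_bot_iff.1 ((Subgroup.commutator_mono h1 le_rfl).trans (le_bot_iff.2 ?_))
      -- the Sylow subgroup centralizes `Q ⊓ N`
      set Q₀ := Q ⊓ N with hQ0
      have hPQ : (P : Subgroup H) ≤ Subgroup.centralizer (Q₀ : Set H) := by
        intro s hs
        refine Subgroup.mem_centralizer_iff.2 fun q hq => ?_
        obtain ⟨hqQ, hqN⟩ := Subgroup.mem_inf.1 hq
        have e : q * s * q⁻¹ * s⁻¹ ∈ (P : Subgroup H) ⊓ N := Subgroup.mem_inf.2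
          ⟨mul_mem ((Subgroup.mem_normalizer_iff.1 (hQP hqQ) s).1 hs) (inv_mem hs), by
            rw [show q * s * q⁻¹ * s⁻¹ = q * (s * q⁻¹ * s⁻¹) by group]
            exact mul_mem hqN (hNn.conj_mem _ (inv_mem hqN) s)⟩
        rw [Cfsg.Agent.Solv.inf_eq_bot_of_isPGroup P.isPGroup' hN, Subgroup.mem_bot] at e
        exact mul_inv_eq_iff_eq_mul.1 (mul_inv_eq_one.1 e)
      rw [Subgroup.commutator_comm, Subgroup.commutator_eq_bot_iff_le_centralizer, Subgroup.zpowers_le]
      set M := Subgroup.normalizer (Q₀ : Set H)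
      have hxM : x ∈ M := by
        have hle : ∀ y ∈ X, Q₀ ≤ Q₀.comap (MulAut.conj y).toMonoidHom := fun y hy q hq =>
          Subgroup.mem_inf.2 ⟨(Subgroup.mem_normalizer_iff.1 (hXN hy) q).1 (Subgroup.mem_inf.1 hq).1,
            hNn.conj_mem q (Subgroup.mem_inf.1 hq).2 y⟩
        rw [Subgroup.mem_normalizer_iff]
        intro q
        refine ⟨fun hq => hle x (Subgroup.mem_zpowers x) hq, fun hq => ?_⟩
        have := hle x⁻¹ (inv_mem (Subgroup.mem_zpowers x)) hq
        simpa [mul_assoc] using this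
      set C := (Subgroup.centralizer (Q₀ : Set H)).subgroupOf M
      haveI : C.Normal := inferInstance
      have hidx : ¬ p ∣ C.index := by
        intro hd
        refine P.not_dvd_index (hd.trans ?_)
        refine (Subgroup.index_dvd_of_le (show (P : Subgroup H).subgroupOf M ≤ C from fun y hy => hPQ hy)).trans ?_
        exact Dvd.intro M.index (Subgroup.relIndex_mul_index (hPQ.trans (Subgroup.centralizer_le_normalizer _)))
      have h5 : (QuotientGroup.mk (⟨x, hxM⟩ : M) : M ⧸ C) = 1 := by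
        refine orderOf_eq_one_iff.1 (Nat.eq_one_of_dvd_coprimes
          (((Fact.out : p.Prime).coprime_iff_not_dvd.2 hidx).pow_left j)
          ((orderOf_map_dvd (QuotientGroup.mk' C) _).trans ?_)
          (Subgroup.index_eq_card C ▸ orderOf_dvd_natCard _))
        rw [← Subgroup.orderOf_coe, hj]
      exact Subgroup.mem_subgroupOf.1 ((QuotientGroup.eq_one_iff (N := C) _).1 h5)
  rw [Cfsg.Agent.Solv.commutator_commutator_eq X Q hXN hcop (Or.inl inferInstance),
    Subgroup.commutator_comm, Subgroup.commutator_eq_bot_iff_le_centralizer] at hfin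
  exact hfin (Subgroup.mem_zpowers x)


/-- Let G be a finite p-solvable group and Q a subgroup of order prime to p such that p divides the index of C_G(Q) in N_G(Q). Then Q normalizes no Sylow p-subgroup of G. -/
theorem result {G : Type*} [Group G] [Finite G] {p : ℕ} [Fact p.Prime]
    (hG : Cfsg.IsPSolvable p G) (Q : Subgroup G) (hQ : ¬ p ∣ Nat.card Q)
    (hA : p ∣ (Subgroup.centralizer (Q : Set G)).relIndex (Subgroup.normalizer (Q : Set G)))
    (P : Sylow p G) : ¬ Q ≤ Subgroup.normalizer ((P : Subgroup G) : Set G) := by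
  intro hQP
  have key : ∀ (n : ℕ), ∀ (H : Type _) [Group H] [Finite H], Nat.card H ≤ n → Cfsg.IsPSolvable p H →
      ∀ (Q : Subgroup H) (P : Sylow p H), (Nat.card Q).Coprime p →
      Q ≤ Subgroup.normalizer ((P : Subgroup H) : Set H) →
      ∀ x ∈ Subgroup.normalizer (Q : Set H), (∃ k : ℕ, x ^ p ^ k = 1) → x ∈ Subgroup.centralizer (Q : Set H) :=
    commute_of_le_normalizer (p := p)
  obtain ⟨y, hy⟩ := exists_prime_orderOf_dvd_card' (G := Subgroup.normalizer (Q : Set G) ⧸
    (Subgroup.centralizer (Q : Set G)).subgroupOf (Subgroup.normalizer (Q : Set G))) p hA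
  obtain ⟨x, rfl⟩ := QuotientGroup.mk_surjective y
  obtain ⟨a, m, hm, he⟩ := Nat.exists_eq_pow_mul_and_not_dvd (orderOf_pos x).ne' p (Fact.out : p.Prime).one_lt.ne'
  have h1 := key _ G le_rfl hG Q P (((Fact.out : p.Prime).coprime_iff_not_dvd.2 hQ).symm) hQP ((x : G) ^ m)
    (pow_mem x.2 m) ⟨a, by rw [← pow_mul, mul_comm, ← he, ← Subgroup.orderOf_coe, pow_orderOf_eq_one]⟩
  have h2 : (QuotientGroup.mk x : Subgroup.normalizer (Q : Set G) ⧸
      (Subgroup.centralizer (Q : Set G)).subgroupOf (Subgroup.normalizer (Q : Set G))) ^ m = 1 := by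
    rw [← QuotientGroup.mk_pow, QuotientGroup.eq_one_iff, Subgroup.mem_subgroupOf, Subgroup.coe_pow]
    exact h1
  exact hm (hy ▸ orderOf_dvd_of_pow_eq_one h2)

end Cfsg.Agent.S1901
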