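import Cfsg.Statements.S1902
import Cfsg.Agent.Lib.Solv.PSolvable
import Cfsg.Agent.Lib.Local.OrderPFix
-- import your own Cfsg.Agent.* helpers here

set_option autoImplicit false
open Cfsg

namespace Cfsg.Agent.S1902

open Subgroup
open Cfsg.Agent.Solv

theorem main {G : Type*} [Group G] [Finite G] {p : ℕ} [Fact p.Prime] (hp : p ≠ 2)
    (hG : Cfsg.IsPSolvable p G) (B : Subgroup G) (hB : Cfsg.IsElementaryAbelian p B)
    (b₀ : G) (hb₀ : b₀ ∈ B) (P : Sylow p ↥(Subgroup.centralizer ({b₀} : Set G)))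
    (hBP : B = Subgroup.closure {x : G | x ∈ ((P : Subgroup ↥(Subgroup.centralizer ({b₀} : Set G))).map
      (Subgroup.centralizer ({b₀} : Set G)).subtype : Subgroup G) ∧ orderOf x = p})
    (Q : Subgroup G) (hQ : ¬ p ∣ Nat.card Q) (hinv : ∀ b ∈ B, ∀ x ∈ Q, b * x * b⁻¹ ∈ Q) :
    Q ≤ Cfsg.pPrimeCore p G := by
  classical
  have hp' : p.Prime := Fact.out
  set K := Cfsg.pPrimeCore p G with hK
  set f := QuotientGroup.mk' K with hf
  set O := Cfsg.pCore p (G ⧸ K) with hO
  have hOp : IsPGroup p O := isPGroup_pCore p _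
  haveI hOn : O.Normal := inferInstance
  have hBcomm : ∀ a ∈ B, ∀ b ∈ B, a * b = b * a := fun a ha b hb =>
    congrArg Subtype.val (hB.1.is_comm.comm (⟨a, ha⟩ : B) ⟨b, hb⟩)
  have hBp : IsPGroup p B := fun b => ⟨1, Subtype.ext (by simpa using hB.2 _ b.2)⟩
  have hBN : B ≤ normalizer (Q : Set G) := fun b hb => mem_normalizer_iff.2 fun x =>
    ⟨hinv b hb x, fun hx => by simpa [mul_assoc] using hinv b⁻¹ (inv_mem hb) _ hx⟩
  have hQcop : (Nat.card (Q.map f)).Coprime p :=
    ((hp'.coprime_iff_not_dvd).2 fun h => hQ (h.trans (Subgroup.card_map_dvd (H := Q) f))).symm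
  have hdisj : O ⊓ Q.map f = ⊥ := inf_eq_bot_of_isPGroup hOp hQcop
  -- fixed elements of order `p`
  have hlift : ∀ x ∈ O, x ∈ centralizer ((B.map f : Subgroup (G ⧸ K)) : Set (G ⧸ K)) → x ^ p = 1 →
      x ∈ B.map f := by
    intro x hxO hxc hxp
    set U := B.map f ⊔ zpowers x with hU
    have hUp : IsPGroup p U := by
      have hxz : IsPGroup p (zpowers x) := by
        rintro ⟨t, ht⟩
        obtain ⟨m, rfl⟩ := mem_zpowers_iff.1 ht
        refine ⟨1, Subtype.ext ?_⟩
        show (x ^ m) ^ p ^ 1 = 1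
        rw [pow_one, ← zpow_natCast, ← zpow_mul, mul_comm, zpow_mul, zpow_natCast, hxp, one_zpow]
      refine (hBp.map f).to_sup_of_normal_left' hxz ?_
      rw [zpowers_le]
      exact centralizer_le_normalizer _ hxc
    haveI hUc : IsMulCommutative U := by
      rw [hU, show B.map f ⊔ zpowers x = closure ((f '' (B : Set G)) ∪ {x}) by
        rw [Subgroup.closure_union, ← coe_map, Subgroup.closure_eq, zpowers_eq_closure]]
      refine Subgroup.isMulCommutative_closure ?_
      rintro s hs t ht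
      rcases hs with ⟨a, ha, rfl⟩ | rfl <;> rcases ht with ⟨b, hb, rfl⟩ | rfl
      · rw [← map_mul, ← map_mul, hBcomm a ha b hb]
      · exact (mem_centralizer_iff.1 hxc _ (mem_map_of_mem f ha))
      · exact (mem_centralizer_iff.1 hxc _ (mem_map_of_mem f hb)).symm
      · rfl
    set M := U.comap f with hM
    have hBM : B ≤ M := fun b hb => mem_sup_left (mem_map_of_mem f hb)
    obtain ⟨R, hR⟩ := (hBp.comap_subtype : IsPGroup p (B.subgroupOf M)).exists_le_sylow
    have hsur : Function.Surjective (f.subgroupComap U) :=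
      MonoidHom.subgroupComap_surjective_of_surjective f U (QuotientGroup.mk'_surjective K)
    let R' := R.mapSurjective hsur
    have htop : (R' : Subgroup U) = ⊤ :=
      R'.is_maximal' (hUp.to_subgroup ⊤) le_top |>.symm
    have hxU : x ∈ U := mem_sup_right (mem_zpowers x)
    have hxR : (⟨x, hxU⟩ : U) ∈ (R' : Subgroup U) := htop ▸ mem_top _
    obtain ⟨z, hz, hzx⟩ := hxR
    have hzx' : f (z : G) = x := congrArg Subtype.val hzx
    have hinj : ∀ r ∈ (R : Subgroup M), f (r : G) = 1 → r = 1 := by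
      intro r hr h
      obtain ⟨k, hk⟩ := R.isPGroup' ⟨r, hr⟩
      have hk' : (r : G) ^ p ^ k = 1 := congrArg (fun t : (R : Subgroup M) => ((t : M) : G)) hk
      have h1 : orderOf (r : G) = 1 := Nat.eq_one_of_dvd_coprimes
        ((card_pPrimeCore_coprime p G).pow_right k)
        (Subgroup.orderOf_dvd_natCard _ ((QuotientGroup.eq_one_iff _).1 h)) (orderOf_dvd_of_pow_eq_one hk')
      exact Subtype.ext (orderOf_eq_one_iff.1 h1)
    have hRc : ∀ r ∈ (R : Subgroup M), ∀ s ∈ (R : Subgroup M), (r : G) * s = s * r := by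
      intro r hr s hs
      have h1 := hinj (r * s * r⁻¹ * s⁻¹) (mul_mem (mul_mem (mul_mem hr hs) (inv_mem hr)) (inv_mem hs)) (by
        have e := congrArg Subtype.val (hUc.is_comm.comm (⟨f r, r.2⟩ : U) ⟨f s, s.2⟩)
        change f r * f s = f s * f r at e
        simp only [Subgroup.coe_mul, Subgroup.coe_inv, map_mul, map_inv]
        rw [e]; group)
      rw [mul_inv_eq_one, mul_inv_eq_iff_eq_mul] at h1
      exact congrArg Subtype.val h1
    have hzp : (z : G) ^ p = 1 := by
      have := hinj (z ^ p) (pow_mem hz p) (by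
        rw [SubmonoidClass.coe_pow, map_pow, hzx', hxp])
      exact (SubmonoidClass.coe_pow z p).symm.trans (congrArg Subtype.val this)
    refine ⟨z, ?_, hzx'⟩
    -- inside the centralizer of `b₀`
    set R₀ := (R : Subgroup M).map M.subtype with hR₀
    have hR₀C : R₀ ≤ centralizer ({b₀} : Set G) := by
      rintro _ ⟨r, hr, rfl⟩
      exact mem_centralizer_singleton_iff.2 (hRc r hr ⟨b₀, hBM hb₀⟩ (hR hb₀))
    obtain ⟨S, hS⟩ := ((R.isPGroup'.map M.subtype).comap_subtype :
      IsPGroup p (R₀.subgroupOf (centralizer ({b₀} : Set G)))).exists_le_sylow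
    obtain ⟨c, hc⟩ := MulAction.exists_smul_eq ↥(centralizer ({b₀} : Set G)) S P
    have hmov : ∀ r ∈ R₀, r ^ p = 1 → (c : G) * r * (c : G)⁻¹ ∈ B := by
      intro r hr hrp
      rcases eq_or_ne r 1 with rfl | hr1
      · rw [mul_one, mul_inv_cancel]; exact one_mem _
      rw [hBP]
      refine subset_closure ⟨⟨c * ⟨r, hR₀C hr⟩ * c⁻¹, ?_, rfl⟩, ?_⟩
      · rw [← hc, Sylow.coe_subgroup_smul]
        exact ⟨⟨r, hR₀C hr⟩, hS hr, by simp⟩
      · exact (orderOf_injective (MulAut.conj (c : G)).toMonoidHom (MulAut.conj (c : G)).injective r).trans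
          (orderOf_eq_prime hrp hr1)
    have hle : B.map (MulAut.conj (c : G)).toMonoidHom ≤ B := by
      rintro _ ⟨b, hb, rfl⟩
      exact hmov b ⟨⟨b, hBM hb⟩, hR hb, rfl⟩ (hB.2 b hb)
    have heq := eq_of_le_of_card_ge hle (card_map_of_injective (MulAut.conj (c : G)).injective).ge
    obtain ⟨b, hb, he⟩ := heq.ge (hmov z ⟨z, hz, rfl⟩ hzp)
    rwa [← (MulAut.conj (c : G)).injective he]
  -- `Q` centralizes `O`
  have hcen := Cfsg.Agent.Local.centralizes_of_fixed hp (B.map f) (Q.map f) (hBp.map f) hQcop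
    ((map_mono hBN).trans (le_normalizer_map f)) O hOp le_normalizer_of_normal le_normalizer_of_normal
    (fun x hxO hxc hxp => mem_centralizer_iff.2 fun q hq => by
      obtain ⟨b, hb, rfl⟩ := hlift x hxO hxc hxp
      have h1 : q * f b * q⁻¹ * (f b)⁻¹ ∈ O ⊓ Q.map f := by
        refine ⟨O.mul_mem (hOn.conj_mem _ hxO q) (O.inv_mem hxO), ?_⟩
        have hn := mem_normalizer_iff.1 ((le_normalizer_map f) (mem_map_of_mem f (hBN hb))) q⁻¹
        have := (Q.map f).mul_mem hq (hn.1 ((Q.map f).inv_mem hq))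
        refine SetLike.mem_coe.2 ?_
        simpa [mul_assoc] using this
      rw [hdisj, mem_bot, mul_inv_eq_one, mul_inv_eq_iff_eq_mul] at h1
      exact h1)
  have hQO : Q.map f ≤ O := fun q hq =>
    centralizer_pCore_le_of_isPSolvable (isPSolvable_quotient hG K) (pPrimeCore_quotient_pPrimeCore p)
      (mem_centralizer_iff.2 fun x hx => (mem_centralizer_iff.1 (hcen hx) q hq).symm)
  have hbot : Q.map f = ⊥ := le_bot_iff.1 (hdisj ▸ le_inf hQO le_rfl)
  rwa [Subgroup.map_eq_bot_iff, hf, QuotientGroup.ker_mk'] at hbot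


/-- Let p be an odd prime, G a finite p-solvable group, and B an elementary abelian subgroup of order p² such that B is the subgroup generated by the elements of order p of some Sylow p-subgroup of C_G(b₀), for some nontrivial b₀ ∈ B. Then every B-invariant subgroup of G of order prime to p lies in O_{p'}(G). -/
theorem result {G : Type*} [Group G] [Finite G] {p : ℕ} [Fact p.Prime] (hp : p ≠ 2)
    (hG : Cfsg.IsPSolvable p G) (B : Subgroup G) (hB : Cfsg.IsElementaryAbelian p B) (hBc : Nat.card B = p ^ 2)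
    (b₀ : G) (hb₀ : b₀ ∈ B) (hb₁ : b₀ ≠ 1) (P : Sylow p ↥(Subgroup.centralizer ({b₀} : Set G)))
    (hBP : B = Subgroup.closure {x : G | x ∈ ((P : Subgroup ↥(Subgroup.centralizer ({b₀} : Set G))).map
      (Subgroup.centralizer ({b₀} : Set G)).subtype : Subgroup G) ∧ orderOf x = p})
    (Q : Subgroup G) (hQ : ¬ p ∣ Nat.card Q) (hinv : ∀ b ∈ B, ∀ x ∈ Q, b * x * b⁻¹ ∈ Q) :
    Q ≤ Cfsg.pPrimeCore p G := by
  skip
  classical
  exact main hp hG B hB b₀ hb₀ P hBP Q hQ hinv

end Cfsg.Agent.S1902
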