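import Cfsg.Statements.S1905
import Cfsg.Agent.S0208
import Cfsg.Agent.S0209
import Cfsg.Agent.Lib.Inv.Dihedral

set_option autoImplicit false
open Cfsg

namespace Cfsg.Agent.S1905

open Subgroup

variable {S : Type*} [Group S] [Finite S]

theorem exists_outside (M : Subgroup S) (hM : Even (Nat.card M)) (hcore : Odd (Nat.card M.normalCore)) :
    ∃ y : S, orderOf y = 2 ∧ y ∉ M := by
  by_contra hno
  push Not at hno
  set N := Subgroup.closure {y : S | orderOf y = 2} with hN
  have hNM : N ≤ M := (closure_le _).2 hno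
  have hn : N.Normal := by
    rw [← normalizer_eq_top_iff, eq_top_iff]
    refine le_trans ?_ (normalizer_le_normalizer_closure _)
    intro g _
    show ∀ y, y ∈ {y : S | orderOf y = 2} ↔ g * y * g⁻¹ ∈ {y : S | orderOf y = 2}
    intro y
    show orderOf y = 2 ↔ orderOf (g * y * g⁻¹) = 2
    rw [Inv.orderOf_conj]
  haveI := hn
  have hle : N ≤ M.normalCore := normal_le_normalCore.2 hNM
  haveI : Fact (Nat.Prime 2) := ⟨Nat.prime_two⟩
  obtain ⟨s, hs⟩ := exists_prime_orderOf_dvd_card' 2 (even_iff_two_dvd.1 hM)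
  have hsN : (s : S) ∈ M.normalCore := hle (subset_closure (show orderOf (s : S) = 2 by
    rw [Subgroup.orderOf_coe, hs]))
  have h2 := orderOf_dvd_natCard (⟨_, hsN⟩ : M.normalCore)
  rw [Subgroup.orderOf_mk, Subgroup.orderOf_coe, hs] at h2
  exact (Nat.not_even_iff_odd.2 hcore) (even_iff_two_dvd.2 h2)

/-- An involution of `M` and one outside have odd product, hence are conjugate. -/
theorem odd_product (M : Subgroup S) (hC : ∀ i ∈ M, orderOf i = 2 → centralizer ({i} : Set S) ≤ M)
    {x y : S} (hx : orderOf x = 2) (hxM : x ∈ M) (hy : orderOf y = 2) (hyM : y ∉ M) :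
    Odd (orderOf (x * y)) := by
  by_contra hodd
  obtain ⟨h2, hc1, hc2⟩ := S0209.result x y hx hy (Nat.not_odd_iff_even.1 hodd)
  have hwM := hC x hxM hx (mem_centralizer_singleton_iff.2 hc1.eq)
  exact hyM (hC _ hwM h2 (mem_centralizer_singleton_iff.2 hc2.symm.eq))

theorem conj_of_mem (M : Subgroup S) (hC : ∀ i ∈ M, orderOf i = 2 → centralizer ({i} : Set S) ≤ M)
    {x y : S} (hx : orderOf x = 2) (hxM : x ∈ M) (hy : orderOf y = 2) (hyM : y ∉ M) : IsConj x y := by
  obtain ⟨d, -, hd⟩ := S0208.result x y hx hy (odd_product M hC hx hxM hy hyM)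
  exact isConj_iff.2 ⟨d, hd⟩

theorem structure_of (M : Subgroup S) (hC : ∀ i ∈ M, orderOf i = 2 → centralizer ({i} : Set S) ≤ M)
    (hall : ∀ x y : S, orderOf x = 2 → orderOf y = 2 → IsConj x y) {s₀ y₀ : S} (hs₀ : orderOf s₀ = 2)
    (hy₀ : orderOf y₀ = 2) (hy₀M : y₀ ∉ M)
    (X : Sylow 2 M) (I : M) (hIc : I ∈ (Subgroup.center ↥(X : Subgroup M)).map (X : Subgroup M).subtype)
    (hI2 : orderOf I = 2)
    (hN : normalizer (((X : Subgroup M).map M.subtype : Subgroup S) : Set S) ≤ M) :
    (∀ x ∈ M, orderOf x = 2 → ∀ g : S, g⁻¹ * x * g ∈ M → g ∈ M) ∧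
      (∀ x : M, orderOf x = 2 → IsConj x I) ∧
      ∃ y : S, orderOf y = 2 ∧ y ∉ M ∧
        Nat.card {x : M // orderOf x = 2} ≤ Nat.card {k : M // orderOf ((k : S) * y) = 2} := by
  haveI : Fact (Nat.Prime 2) := ⟨Nat.prime_two⟩
  classical
  obtain ⟨⟨I', hI'X⟩, hI'c, rfl⟩ := hIc
  -- central involutions lie in a unique conjugate of `M`
  have hcentral : ∀ g : S, g⁻¹ * (I' : S) * g ∈ M → g ∈ M := by
    intro g hg
    have h2 : orderOf (g⁻¹ * (I' : S) * g) = 2 := by
      conv_lhs => arg 1; arg 2; rw [← inv_inv g]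
      rw [Inv.orderOf_conj, Subgroup.orderOf_coe]; exact hI2
    have hconj : ∀ x : M, x ∈ (X : Subgroup M) → g⁻¹ * (x : S) * g ∈ M := by
      intro x hx
      refine hC _ hg h2 (mem_centralizer_singleton_iff.2 ?_)
      have hcx : (x : S) * I' = I' * x :=
        congrArg (fun z : (X : Subgroup M) => ((z : M) : S)) (mem_center_iff.1 hI'c ⟨x, hx⟩)
      calc g⁻¹ * (x : S) * g * (g⁻¹ * (I' : S) * g) = g⁻¹ * ((x : S) * I') * g := by group
        _ = g⁻¹ * ((I' : S) * x) * g := by rw [hcx]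
        _ = _ := by group
    let f : ↥(X : Subgroup M) →* M :=
      { toFun := fun x => ⟨g⁻¹ * ((x : M) : S) * g, hconj x x.2⟩
        map_one' := Subtype.ext (by simp)
        map_mul' := fun a b => Subtype.ext (by
          show g⁻¹ * (((a : M) : S) * ((b : M) : S)) * g = g⁻¹ * _ * g * (g⁻¹ * _ * g)
          group) }
    have hf : Function.Injective f := fun a b h => by
      have h' : g⁻¹ * ((a : M) : S) * g = g⁻¹ * ((b : M) : S) * g := congrArg Subtype.val h
      exact Subtype.ext (Subtype.ext (mul_left_cancel (mul_right_cancel h')))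
    obtain ⟨Q, hQ⟩ := (X.isPGroup'.of_surjective f.rangeRestrict f.rangeRestrict_surjective).exists_le_sylow
    have hQeq : f.range = (Q : Subgroup M) := eq_of_le_of_card_ge hQ (by
      rw [Nat.card_congr (Sylow.equiv Q X).toEquiv, ← Nat.card_congr (MonoidHom.ofInjective hf).toEquiv])
    obtain ⟨m, hm⟩ := MulAction.exists_smul_eq M Q X
    have hmaps : ∀ x : M, x ∈ (X : Subgroup M) →
        ∃ x' : M, x' ∈ (X : Subgroup M) ∧ (m : S) * (g⁻¹ * (x : S) * g) * (m : S)⁻¹ = (x' : S) := by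
      intro x hx
      refine ⟨m * f ⟨x, hx⟩ * m⁻¹, ?_, rfl⟩
      have hq : f ⟨x, hx⟩ ∈ (Q : Subgroup M) := hQeq ▸ ⟨⟨x, hx⟩, rfl⟩
      have h5 : m * f ⟨x, hx⟩ * m⁻¹ ∈ ((m • Q : Sylow 2 M) : Subgroup M) := by
        rw [Sylow.coe_subgroup_smul]
        exact smul_mem_pointwise_smul _ (MulAut.conj m) _ hq
      rwa [hm] at h5
    have hmap : ((X : Subgroup M).map M.subtype).map (MulAut.conj ((m : S) * g⁻¹)).toMonoidHom =
        (X : Subgroup M).map M.subtype := by
      refine eq_of_le_of_card_ge ?_ (Nat.card_congr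
        (equivMapOfInjective _ _ (MulAut.conj _).injective).toEquiv).le
      rintro _ ⟨_, ⟨x, hx, rfl⟩, rfl⟩
      obtain ⟨x', hx', he⟩ := hmaps x hx
      exact ⟨x', hx', by simpa [mul_assoc] using he.symm⟩
    have hmg : (m : S) * g⁻¹ ∈ normalizer (((X : Subgroup M).map M.subtype : Subgroup S) : Set S) := by
      rw [mem_normalizer_iff]
      intro z
      conv_rhs => rw [← hmap]
      constructor
      · exact fun hz => ⟨z, hz, rfl⟩
      · rintro ⟨w, hw, he⟩
        have : w = z := (MulAut.conj ((m : S) * g⁻¹)).injective he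
        exact this ▸ hw
    have h3 := M.mul_mem (M.inv_mem (hN hmg)) m.2
    simpa using h3
  have hmem : ∀ x ∈ M, orderOf x = 2 → ∀ g : S, g⁻¹ * x * g ∈ M → g ∈ M := by
    intro x hxM hx g hg
    obtain ⟨P, hP⟩ := (IsPGroup.of_card (p := 2) (n := 1)
      (show Nat.card (zpowers (⟨x, hxM⟩ : M)) = 2 ^ 1 by
        rw [Nat.card_zpowers, Subgroup.orderOf_mk, hx, pow_one])).exists_le_sylow
    obtain ⟨m, hm⟩ := MulAction.exists_smul_eq M P X
    have hx' : m * ⟨x, hxM⟩ * m⁻¹ ∈ (X : Subgroup M) := by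
      rw [← hm, Sylow.coe_subgroup_smul]
      exact smul_mem_pointwise_smul _ (MulAut.conj m) _ (hP (mem_zpowers _))
    have hcx : ((m : S) * x * (m : S)⁻¹) * I' = I' * ((m : S) * x * (m : S)⁻¹) :=
      congrArg (fun z : (X : Subgroup M) => ((z : M) : S)) (mem_center_iff.1 hI'c ⟨_, hx'⟩)
    have h2 : orderOf (g⁻¹ * x * g) = 2 := by
      conv_lhs => arg 1; arg 2; rw [← inv_inv g]
      rw [Inv.orderOf_conj]; exact hx
    have hI : ((m : S) * g)⁻¹ * (I' : S) * ((m : S) * g) ∈ M := by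
      refine hC _ hg h2 (mem_centralizer_singleton_iff.2 ?_)
      calc ((m : S) * g)⁻¹ * (I' : S) * ((m : S) * g) * (g⁻¹ * x * g)
          = ((m : S) * g)⁻¹ * ((I' : S) * ((m : S) * x * (m : S)⁻¹)) * ((m : S) * g) := by group
        _ = ((m : S) * g)⁻¹ * (((m : S) * x * (m : S)⁻¹) * I') * ((m : S) * g) := by rw [hcx]
        _ = _ := by group
    have := M.mul_mem (M.inv_mem m.2) (hcentral _ hI)
    simpa using this
  have hI2' : orderOf (I' : S) = 2 := by rw [Subgroup.orderOf_coe]; exact hI2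
  have htrans : ∀ x : M, orderOf x = 2 → IsConj x I' := by
    intro x hx
    have hxS : orderOf (x : S) = 2 := by rw [Subgroup.orderOf_coe]; exact hx
    obtain ⟨g, hg⟩ := isConj_iff.1 (hall _ _ hxS hI2')
    have hgM := hmem (I' : S) I'.2 hI2' g (by rw [← hg]; simpa [mul_assoc] using x.2)
    exact isConj_iff.2 ⟨⟨g, hgM⟩, Subtype.ext hg⟩
  refine ⟨hmem, htrans, ?_⟩
  haveI := Fintype.ofFinite S
  set J : Finset S := Finset.univ.filter fun t => orderOf t = 2 with hJ
  have hconj : ∀ t ∈ J, ∃ g : S, g * (I' : S) * g⁻¹ = t := fun t ht =>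
    isConj_iff.1 (hall _ _ hI2' (Finset.mem_filter.1 ht).2)
  let pt : S → S ⧸ M := fun t => if h : ∃ g : S, g * (I' : S) * g⁻¹ = t then QuotientGroup.mk h.choose else QuotientGroup.mk 1
  have hpt : ∀ t ∈ J, ∀ g : S, pt t = QuotientGroup.mk g ↔ g⁻¹ * t * g ∈ M := by
    intro t ht g
    obtain hex := hconj t ht
    simp only [pt, dif_pos hex]
    have hc := hex.choose_spec
    set c := hex.choose
    constructor
    · intro h
      have hcg : c⁻¹ * g ∈ M := QuotientGroup.eq.1 h
      rw [← hc, show g⁻¹ * (c * (I' : S) * c⁻¹) * g = (c⁻¹ * g)⁻¹ * (I' : S) * (c⁻¹ * g) by group]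
      exact M.mul_mem (M.mul_mem (M.inv_mem hcg) I'.2) hcg
    · intro h
      refine QuotientGroup.eq.2 (hmem (I' : S) I'.2 hI2' _ ?_)
      rw [show (c⁻¹ * g)⁻¹ * (I' : S) * (c⁻¹ * g) = g⁻¹ * (c * (I' : S) * c⁻¹) * g by group, hc]
      exact h
  haveI := Fintype.ofFinite (S ⧸ M)
  set m := Nat.card {x : M // orderOf x = 2} with hm
  have hfib : ∀ q : S ⧸ M, (J.filter fun t => pt t = q).card = m := by
    intro q
    induction q using QuotientGroup.induction_on with | _ g =>
    rw [hm, ← Fintype.card_coe, ← Nat.card_eq_fintype_card]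
    refine Nat.card_congr
      { toFun := fun t => ⟨⟨g⁻¹ * t.1 * g,
            (hpt t.1 (Finset.mem_filter.1 t.2).1 g).1 (Finset.mem_filter.1 t.2).2⟩, by
          rw [← Subgroup.orderOf_coe]
          show orderOf (g⁻¹ * t.1 * g) = 2
          conv_lhs => arg 1; arg 2; rw [← inv_inv g]
          rw [Inv.orderOf_conj]
          exact (Finset.mem_filter.1 (Finset.mem_filter.1 t.2).1).2⟩
        invFun := fun x => ⟨g * (x.1 : S) * g⁻¹, by
          have hxJ : g * (x.1 : S) * g⁻¹ ∈ J := Finset.mem_filter.2 ⟨Finset.mem_univ _, by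
            rw [Inv.orderOf_conj, Subgroup.orderOf_coe]; exact x.2⟩
          refine Finset.mem_filter.2 ⟨hxJ, (hpt _ hxJ g).2 ?_⟩
          simpa [mul_assoc] using x.1.2⟩
        left_inv := fun t => Subtype.ext (by simp [mul_assoc])
        right_inv := fun x => Subtype.ext (Subtype.ext (by simp [mul_assoc])) }
  have htotal : J.card = Nat.card (S ⧸ M) * m := by
    rw [Finset.card_eq_sum_card_fiberwise (f := pt) (t := Finset.univ) (fun _ _ => Finset.mem_univ _),
      Finset.sum_congr rfl (fun q _ => hfib q), Finset.sum_const, smul_eq_mul, Finset.card_univ,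
      Nat.card_eq_fintype_card]
  -- some outside coset holds at least `m` involutions
  set f : S → S ⧸ M := fun t => QuotientGroup.mk t⁻¹
  set base : S ⧸ M := QuotientGroup.mk 1 with hbase
  have hin : (J.filter fun t => f t = base).card = m := by
    rw [hm, ← Fintype.card_coe, ← Nat.card_eq_fintype_card]
    refine Nat.card_congr
      { toFun := fun t => ⟨⟨t.1, by
            have := QuotientGroup.eq.1 (Finset.mem_filter.1 t.2).2
            simpa using this⟩, by
          rw [← Subgroup.orderOf_coe]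
          exact (Finset.mem_filter.1 (Finset.mem_filter.1 t.2).1).2⟩
        invFun := fun x => ⟨(x.1 : S), Finset.mem_filter.2 ⟨Finset.mem_filter.2 ⟨Finset.mem_univ _, by
          rw [Subgroup.orderOf_coe]; exact x.2⟩, QuotientGroup.eq.2 (by simpa using x.1.2)⟩⟩
        left_inv := fun t => rfl
        right_inv := fun x => rfl }
  obtain ⟨y, hyJ, hyne, hbig⟩ : ∃ y ∈ J, f y ≠ base ∧ m ≤ (J.filter fun t => f t = f y).card := by
    by_contra hno
    push Not at hno
    have hmpos : 0 < m := by rw [hm]; exact Nat.card_pos_iff.2 ⟨⟨⟨I', hI2⟩⟩, inferInstance⟩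
    have hlt : ∀ q ∈ (Finset.univ.erase base), (J.filter fun t => f t = q).card < m := by
      intro q hq
      rcases (J.filter fun t => f t = q).eq_empty_or_nonempty with e | ⟨t, ht⟩
      · rw [e]; simpa using hmpos
      · obtain ⟨htJ, rfl⟩ := Finset.mem_filter.1 ht
        exact hno t htJ (Finset.mem_erase.1 hq).1
    have hy₀b : f y₀ ∈ Finset.univ.erase base := Finset.mem_erase.2 ⟨fun h => hy₀M (by
      have := QuotientGroup.eq.1 h; simpa using this), Finset.mem_univ _⟩
    have hsum := Finset.sum_lt_sum_of_nonempty ⟨_, hy₀b⟩ hlt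
    rw [Finset.sum_const, smul_eq_mul, Finset.card_erase_of_mem (Finset.mem_univ _), Finset.card_univ,
      ← Nat.card_eq_fintype_card] at hsum
    have h1 := Finset.card_eq_sum_card_fiberwise (s := J) (f := f) (t := Finset.univ) (fun _ _ => Finset.mem_univ _)
    rw [← Finset.add_sum_erase _ _ (Finset.mem_univ base), hin, htotal] at h1
    have hpos : 0 < Nat.card (S ⧸ M) := Nat.card_pos
    have h2 : (Nat.card (S ⧸ M) - 1) * m + m = Nat.card (S ⧸ M) * m := by
      rw [← Nat.succ_mul, show (Nat.card (S ⧸ M) - 1).succ = Nat.card (S ⧸ M) by omega]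
    omega
  have hy2 := (Finset.mem_filter.1 hyJ).2
  refine ⟨y, hy2, fun h => hyne (QuotientGroup.eq.2 (by simpa using h)), hbig.trans ?_⟩
  rw [← Fintype.card_coe, ← Nat.card_eq_fintype_card]
  refine Nat.card_le_card_of_injective
    (fun t => (⟨⟨t.1 * y⁻¹, by
      have := QuotientGroup.eq.1 (Finset.mem_filter.1 t.2).2
      simpa using this⟩, by
        show orderOf (t.1 * y⁻¹ * y) = 2
        rw [inv_mul_cancel_right]
        exact (Finset.mem_filter.1 (Finset.mem_filter.1 t.2).1).2⟩ : {k : M // orderOf ((k : S) * y) = 2}))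
    fun a b h => Subtype.ext (mul_right_cancel (congrArg (fun z : {k : M // orderOf ((k : S) * y) = 2} => ((z.1 : M) : S)) h))

theorem exists_M0 (M : Subgroup S) (hC : ∀ i ∈ M, orderOf i = 2 → centralizer ({i} : Set S) ≤ M)
    (hmem : ∀ x ∈ M, orderOf x = 2 → ∀ g : S, g⁻¹ * x * g ∈ M → g ∈ M)
    {I₀ : M} (htrans : ∀ x : M, orderOf x = 2 → IsConj x I₀)
    {y : S} (hy : orderOf y = 2) (hyM : y ∉ M)
    (hcard : Nat.card {x : M // orderOf x = 2} ≤ Nat.card {k : M // orderOf ((k : S) * y) = 2})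
    (I : M) (hI : orderOf I = 2) :
    ∃ M₀ : Subgroup M, Odd (Nat.card M₀) ∧
      ∀ m : M, ∃ a ∈ M₀, ∃ c ∈ Subgroup.centralizer ({I} : Set M), m = a * c := by
  have hyi : y⁻¹ = y := Inv.inv_eq_self_of_orderOf_two hy
  have hyy : y * y = 1 := Inv.mul_self_of_orderOf_two hy
  let D : Subgroup M := M.comap ((MulAut.conj y).toMonoidHom.comp M.subtype)
  have hDmem : ∀ d : M, d ∈ D ↔ y * (d : S) * y⁻¹ ∈ M := fun d => Iff.rfl
  have hk : ∀ k : {k : M // orderOf ((k : S) * y) = 2}, y * ((k.1 : S)) * y⁻¹ = (k.1 : S)⁻¹ := fun k => by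
    have h := Inv.mul_self_of_orderOf_two k.2
    have h' : (k.1 : S) * (y * (k.1 : S) * y) = 1 := by rw [← h]; group
    rw [hyi]
    exact eq_inv_of_mul_eq_one_right h'
  have hkD : ∀ k : {k : M // orderOf ((k : S) * y) = 2}, k.1 ∈ D := fun k => by
    rw [hDmem, hk k]; exact M.inv_mem k.1.2
  refine ⟨D, ?_, ?_⟩
  · rw [← Nat.not_even_iff_odd]
    intro he
    haveI : Fact (Nat.Prime 2) := ⟨Nat.prime_two⟩
    obtain ⟨d, hd⟩ := exists_prime_orderOf_dvd_card' 2 (even_iff_two_dvd.1 he)
    refine hyM (hmem ((d : M) : S) (d : M).2 (by rw [Subgroup.orderOf_coe, Subgroup.orderOf_coe, hd]) y ?_)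
    have := (hDmem d).1 d.2
    rw [hyi] at this ⊢
    exact this
  -- no element of `C(I)` is inverted by an involution outside `M`
  have hninv : ∀ c : S, c ∈ centralizer ({(I : S)} : Set S) → ∀ t : S, orderOf t = 2 → t ∉ M →
      t * c * t⁻¹ = c⁻¹ → c * c = 1 := by
    intro c hc t ht htM htc
    have hI' : orderOf (I : S) = 2 := by rw [Subgroup.orderOf_coe]; exact hI
    have hodd := odd_product M hC hI' I.2 ht htM
    obtain ⟨d, hd, hdI⟩ := S0208.result (I : S) t hI' ht hodd
    have hcI : c * (I : S) = (I : S) * c := mem_centralizer_singleton_iff.1 hc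
    let H : Subgroup S :=
      { carrier := {g | g * c * g⁻¹ = c ∨ g * c * g⁻¹ = c⁻¹}
        one_mem' := Or.inl (by group)
        mul_mem' := by
          intro a b ha hb
          have e : a * b * c * (a * b)⁻¹ = a * (b * c * b⁻¹) * a⁻¹ := by group
          simp only [Set.mem_setOf_eq] at ha hb ⊢
          rcases hb with hb | hb <;> rw [e, hb]
          · exact ha
          · rw [← conj_inv]
            rcases ha with ha | ha <;> rw [ha]
            · exact Or.inr rfl
            · exact Or.inl (inv_inv c)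
        inv_mem' := by
          intro a ha
          simp only [Set.mem_setOf_eq] at ha ⊢
          rcases ha with ha | ha
          · left
            conv_lhs => rw [← ha]
            group
          · right
            have h' : a⁻¹ * c⁻¹ * a = c := by
              conv_lhs => rw [← ha]
              group
            calc a⁻¹ * c * a⁻¹⁻¹ = (a⁻¹ * c⁻¹ * a)⁻¹ := by group
              _ = c⁻¹ := by rw [h'] }
    have hclos : Subgroup.closure ({(I : S), t} : Set S) ≤ H := (closure_le _).2 (by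
      rintro g (rfl | rfl)
      · exact Or.inl (by rw [← hcI]; group)
      · exact Or.inr htc)
    have htfix : t * c * t⁻¹ = c := by
      rcases (show d * c * d⁻¹ = c ∨ d * c * d⁻¹ = c⁻¹ from hclos hd) with h | h
      · rw [← hdI]
        calc d * (I : S) * d⁻¹ * c * (d * (I : S) * d⁻¹)⁻¹ = d * (I : S) * (d⁻¹ * c * d) * (I : S)⁻¹ * d⁻¹ := by group
          _ = d * (I : S) * c * (I : S)⁻¹ * d⁻¹ := by
              rw [show d⁻¹ * c * d = c by conv_lhs => arg 1; arg 2; rw [← h]
                                          group]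
          _ = d * c * d⁻¹ := by rw [mul_assoc d (I : S) c, ← hcI]; group
          _ = c := h
      · have h' : d⁻¹ * c * d = c⁻¹ := by
          have h1 : d * c⁻¹ * d⁻¹ = c := by rw [← conj_inv, h, inv_inv]
          conv_lhs => arg 1; arg 2; rw [← h1]
          group
        rw [← hdI]
        calc d * (I : S) * d⁻¹ * c * (d * (I : S) * d⁻¹)⁻¹ = d * (I : S) * (d⁻¹ * c * d) * (I : S)⁻¹ * d⁻¹ := by group
          _ = d * (I : S) * c⁻¹ * (I : S)⁻¹ * d⁻¹ := by rw [h']
          _ = d * c⁻¹ * d⁻¹ := by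
              rw [show d * (I : S) * c⁻¹ * (I : S)⁻¹ * d⁻¹ = d * ((I : S) * c * (I : S)⁻¹)⁻¹ * d⁻¹ by group,
                ← hcI, mul_inv_cancel_right]
          _ = c := by rw [← conj_inv, h, inv_inv]
    rw [htc] at htfix
    conv_lhs => arg 1; rw [← htfix]
    exact inv_mul_cancel c
  intro m
  -- `k ↦ k I k⁻¹` is a bijection onto the involutions of `M`
  let φ : {k : M // orderOf ((k : S) * y) = 2} → {x : M // orderOf x = 2} := fun k =>
    ⟨k.1⁻¹ * I * k.1, by
      conv_lhs => arg 1; arg 2; rw [← inv_inv k.1]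
      rw [Inv.orderOf_conj]; exact hI⟩
  have hφ : Function.Injective φ := by
    intro a b h
    have h' : a.1⁻¹ * I * a.1 = b.1⁻¹ * I * b.1 := congrArg Subtype.val h
    have hS : (a.1 : S)⁻¹ * (I : S) * (a.1 : S) = (b.1 : S)⁻¹ * (I : S) * (b.1 : S) := congrArg Subtype.val h'
    set c := (a.1 : S) * (b.1 : S)⁻¹ with hc
    have hcc : c ∈ centralizer ({(I : S)} : Set S) := by
      rw [mem_centralizer_singleton_iff, hc]
      calc (a.1 : S) * (b.1 : S)⁻¹ * (I : S) = (a.1 : S) * ((b.1 : S)⁻¹ * (I : S) * (b.1 : S)) * (b.1 : S)⁻¹ := by group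
        _ = _ := by rw [← hS]; group
    have hay : (a.1 : S) * y ∉ M := fun h => hyM (by
      have := M.mul_mem (M.inv_mem a.1.2) h
      simpa [← mul_assoc] using this)
    have hb' : y * (b.1 : S)⁻¹ * y⁻¹ = (b.1 : S) := by rw [← conj_inv, hk b, inv_inv]
    have hinv : (a.1 : S) * y * c * ((a.1 : S) * y)⁻¹ = c⁻¹ := by
      rw [hc]
      calc (a.1 : S) * y * ((a.1 : S) * (b.1 : S)⁻¹) * ((a.1 : S) * y)⁻¹
          = (a.1 : S) * (y * (a.1 : S) * y⁻¹) * (y * (b.1 : S)⁻¹ * y⁻¹) * (a.1 : S)⁻¹ := by group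
        _ = ((a.1 : S) * (b.1 : S)⁻¹)⁻¹ := by rw [hk a, hb']; group
    have hcM : c ∈ M := M.mul_mem a.1.2 (M.inv_mem b.1.2)
    have h1 := hninv c hcc _ a.2 hay hinv
    by_contra hne
    have hc1 : c ≠ 1 := fun h => hne (Subtype.ext (Subtype.ext (mul_inv_eq_one.1 h)))
    have hc2 := Inv.orderOf_eq_two_of_mul_self h1 hc1
    refine hay (hC c hcM hc2 (mem_centralizer_singleton_iff.2 ?_))
    have hci : c⁻¹ = c := Inv.inv_eq_self_of_orderOf_two hc2
    rw [hci] at hinv
    exact mul_inv_eq_iff_eq_mul.1 hinv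
  have hsurj : Function.Surjective φ :=
    ((Nat.bijective_iff_injective_and_card φ).2 ⟨hφ, le_antisymm (Nat.card_le_card_of_injective φ hφ) hcard⟩).2
  obtain ⟨k, hk'⟩ := hsurj ⟨m * I * m⁻¹, by rw [Inv.orderOf_conj]; exact hI⟩
  have hk'' : k.1⁻¹ * I * k.1 = m * I * m⁻¹ := congrArg Subtype.val hk'
  refine ⟨k.1⁻¹, D.inv_mem (hkD k), k.1 * m, ?_, by group⟩
  rw [mem_centralizer_singleton_iff]
  calc k.1 * m * I = k.1 * (m * I * m⁻¹) * m := by group
    _ = _ := by rw [← hk'']; group


/-- Let M be a subgroup of even order of a finite group S such that M contains the centralizer in S of each of its involutions and the normal core of M in S has odd order. Then all involutions of S are conjugate. If moreover N_S(X) ≤ M for a Sylow 2-subgroup X of M and I is an involution in the centre of X, then all involutions of M are conjugate in M and M = M₀ C_M(I) for some subgroup M₀ of M of odd order. -/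
theorem result {S : Type*} [Group S] [Finite S] (M : Subgroup S) (hM : Even (Nat.card M))
    (hC : ∀ i ∈ M, orderOf i = 2 → Subgroup.centralizer ({i} : Set S) ≤ M) (hcore : Odd (Nat.card M.normalCore)) :
    (∀ x y : S, orderOf x = 2 → orderOf y = 2 → IsConj x y) ∧
      ∀ (X : Sylow 2 M) (I : M), I ∈ (Subgroup.center ↥(X : Subgroup ↥M)).map (X : Subgroup ↥M).subtype → orderOf I = 2 →
        Subgroup.normalizer (((X : Subgroup M).map M.subtype : Subgroup S) : Set S) ≤ M →
        (∀ x y : M, orderOf x = 2 → orderOf y = 2 → IsConj x y) ∧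
          ∃ M₀ : Subgroup M, Odd (Nat.card M₀) ∧
            ∀ m : M, ∃ a ∈ M₀, ∃ c ∈ Subgroup.centralizer ({I} : Set M), m = a * c := by
  obtain ⟨y₀, hy₀, hy₀M⟩ := exists_outside M hM hcore
  obtain ⟨s₀, hs₀⟩ : ∃ s : S, s ∈ M ∧ orderOf s = 2 := by
    obtain ⟨⟨s, hs⟩, h2⟩ := exists_prime_orderOf_dvd_card' 2 (even_iff_two_dvd.1 hM)
    exact ⟨s, hs, by rwa [Subgroup.orderOf_mk] at h2⟩
  have hall : ∀ x y : S, orderOf x = 2 → orderOf y = 2 → IsConj x y := by
    have hIn : ∀ x, orderOf x = 2 → IsConj x s₀ := by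
      intro x hx
      by_cases hxM : x ∈ M
      · exact (conj_of_mem M hC hx hxM hy₀ hy₀M).trans (conj_of_mem M hC hs₀.2 hs₀.1 hy₀ hy₀M).symm
      · exact (conj_of_mem M hC hs₀.2 hs₀.1 hx hxM).symm
    exact fun x y hx hy => (hIn x hx).trans (hIn y hy).symm
  refine ⟨hall, fun X I hIc hI2 hN => ?_⟩
  obtain ⟨hmem, htrans, y, hy, hyM, hcard⟩ := structure_of M hC hall hs₀.2 hy₀ hy₀M X I hIc hI2 hN
  refine ⟨fun x z hx hz => (htrans x hx).trans (htrans z hz).symm, ?_⟩
  exact exists_M0 M hC hmem htrans hy hyM hcard I hI2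

end Cfsg.Agent.S1905
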