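import Cfsg.Statements.S1907
import Cfsg.Agent.Lib.Solv.Coprime
import Cfsg.Agent.Lib.Solv.Basic
import Cfsg.Agent.Lib.Solv.SchurZassenhaus
import Cfsg.Agent.Lib.Local.SylowCenter
-- import your own Cfsg.Agent.* helpers here

set_option autoImplicit false
open Cfsg

namespace Cfsg.Agent.S1907
open Cfsg.Agent


/-- Let P be a Sylow p-subgroup of a finite group G, H = P ∩ O_{p',p}(G), N = N_G(H) and D = O_{p'}(G). (a) If y is an element of p-power order of N and d ∈ D with d⁻¹ y d ∈ N, then d = d₁ d₂ with d₁ ∈ C_D(y) and d₂ ∈ C_D(H). (b) Two elements of P that are conjugate in G are conjugate in N. -/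
theorem result {G : Type*} [Group G] [Finite G] {p : ℕ} [Fact p.Prime] (P : Sylow p G) :
    (∀ y ∈ Subgroup.normalizer (((P : Subgroup G) ⊓ Cfsg.pPrimePCore p G : Subgroup G) : Set G), (∃ k : ℕ, orderOf y = p ^ k) →
      ∀ d ∈ Cfsg.pPrimeCore p G, d⁻¹ * y * d ∈ Subgroup.normalizer (((P : Subgroup G) ⊓ Cfsg.pPrimePCore p G : Subgroup G) : Set G) →
        ∃ d₁ ∈ Cfsg.pPrimeCore p G ⊓ Subgroup.centralizer ({y} : Set G),
          ∃ d₂ ∈ Cfsg.pPrimeCore p G ⊓ Subgroup.centralizer (((P : Subgroup G) ⊓ Cfsg.pPrimePCore p G : Subgroup G) : Set G), d = d₁ * d₂) ∧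
    ∀ x y : G, x ∈ (P : Subgroup G) → y ∈ (P : Subgroup G) → IsConj x y →
      ∃ n ∈ Subgroup.normalizer (((P : Subgroup G) ⊓ Cfsg.pPrimePCore p G : Subgroup G) : Set G), n * x * n⁻¹ = y := by
  classical
  set D := Cfsg.pPrimeCore p G with hD
  haveI hDn : D.Normal := Cfsg.pPrimeCore_normal p G
  set M := Cfsg.pPrimePCore p G with hM
  haveI hMn : M.Normal := by rw [hM, Cfsg.pPrimePCore]; infer_instance
  set R := (P : Subgroup G) ⊓ M with hR
  have hRp : IsPGroup p R := P.isPGroup'.to_le inf_le_left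
  have hDcop : (Nat.card D).Coprime p := Solv.card_pPrimeCore_coprime p G
  have hDR : D ⊓ R = ⊥ := by
    obtain ⟨k, hk⟩ := IsPGroup.iff_card.1 hRp
    exact Subgroup.inf_eq_bot_of_coprime (hk ▸ hDcop.pow_right k)
  have hE : D ⊓ Subgroup.normalizer (R : Set G) ≤ Subgroup.centralizer (R : Set G) := by
    intro e he
    refine Subgroup.mem_centralizer_iff.2 fun r hr => ?_
    have h1 : r * e * r⁻¹ * e⁻¹ ∈ D ⊓ R := Subgroup.mem_inf.2
      ⟨mul_mem (hDn.conj_mem e he.1 r) (inv_mem he.1), by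
        rw [show r * e * r⁻¹ * e⁻¹ = r * (e * r⁻¹ * e⁻¹) by group]
        exact mul_mem hr ((Subgroup.mem_normalizer_iff.1 he.2 _).1 (inv_mem hr))⟩
    rw [hDR, Subgroup.mem_bot, mul_inv_eq_one, mul_inv_eq_iff_eq_mul] at h1
    exact h1
  have part1 : ∀ y ∈ Subgroup.normalizer (R : Set G), (∃ k : ℕ, orderOf y = p ^ k) →
      ∀ d ∈ D, d⁻¹ * y * d ∈ Subgroup.normalizer (R : Set G) →
        ∃ d₁ ∈ D ⊓ Subgroup.centralizer ({y} : Set G),
          ∃ d₂ ∈ D ⊓ Subgroup.centralizer (R : Set G), d = d₁ * d₂ := by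
    intro y hy hyk d hd hd'
    obtain ⟨k, hk⟩ := hyk
    set N := D ⊓ Subgroup.normalizer (R : Set G) with hNdef
    have hyN : Subgroup.zpowers y ≤ Subgroup.normalizer (N : Set G) :=
      Solv.le_normalizer_inf Subgroup.le_normalizer_of_normal ((Subgroup.zpowers_le.2 hy).trans Subgroup.le_normalizer)
    have hfix : ∀ a ∈ Subgroup.zpowers y, d⁻¹ * a * d * a⁻¹ ∈ N := by
      have hle : Subgroup.zpowers y ≤
          { carrier := {a | a ∈ Subgroup.normalizer (N : Set G) ∧ d⁻¹ * a * d * a⁻¹ ∈ N}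
            one_mem' := ⟨one_mem _, by simp⟩
            mul_mem' := by
              rintro a b ⟨ha, ha'⟩ ⟨hb, hb'⟩
              refine ⟨mul_mem ha hb, ?_⟩
              have e : d⁻¹ * (a * b) * d * (a * b)⁻¹ =
                  d⁻¹ * a * d * a⁻¹ * (a * (d⁻¹ * b * d * b⁻¹) * a⁻¹) := by group
              rw [e]
              exact mul_mem ha' ((Subgroup.mem_normalizer_iff.1 ha _).1 hb')
            inv_mem' := by
              rintro a ⟨ha, ha'⟩
              refine ⟨inv_mem ha, ?_⟩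
              have h := (Subgroup.mem_normalizer_iff.1 (inv_mem ha) _).1 (inv_mem ha')
              have e : a⁻¹ * (d⁻¹ * a * d * a⁻¹)⁻¹ * a⁻¹⁻¹ = d⁻¹ * a⁻¹ * d * a⁻¹⁻¹ := by group
              rwa [e] at h : Subgroup G } := Subgroup.zpowers_le.2 ⟨hyN (Subgroup.mem_zpowers y),
            Subgroup.mem_inf.2 ⟨by
              rw [show d⁻¹ * y * d * y⁻¹ = d⁻¹ * (y * d * y⁻¹) by group]
              exact mul_mem (inv_mem hd) (hDn.conj_mem d hd y), mul_mem hd' (inv_mem hy)⟩⟩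
      exact fun a ha => (hle ha).2
    have hyp : IsPGroup p (Subgroup.zpowers y) := IsPGroup.of_card (n := k) (by rw [Nat.card_zpowers, hk])
    have hcop : ∀ K : Subgroup G, K ≤ D → (Nat.card (Subgroup.zpowers y)).Coprime (Nat.card K) := fun K hK => by
      rw [Nat.card_zpowers, hk]
      exact ((hDcop.coprime_dvd_left (Subgroup.card_dvd_of_le hK)).pow_right k).symm
    haveI : Group.IsNilpotent (Subgroup.zpowers y) := hyp.isNilpotent
    obtain ⟨c, hc, hcN⟩ := Solv.exists_centralizing_in_coset (Subgroup.zpowers y) D N Subgroup.le_normalizer_of_normal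
      (Subgroup.inf_eq_bot_of_coprime (hcop D le_rfl)) inf_le_left hyN (hcop N inf_le_left) (Or.inl inferInstance)
      d hd hfix
    refine ⟨c, Subgroup.mem_inf.2 ⟨hc.1, Subgroup.mem_centralizer_singleton_iff.2
      (Subgroup.mem_centralizer_iff.1 hc.2 y (Subgroup.mem_zpowers y)).symm⟩, c⁻¹ * d, ?_, by group⟩
    have h := inv_mem hcN
    rw [mul_inv_rev, inv_inv] at h
    exact Subgroup.mem_inf.2 ⟨h.1, hE h⟩
  refine ⟨part1, ?_⟩
  intro x y hx hy hxy
  obtain ⟨g, hg⟩ := isConj_iff.1 hxy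
  have hPR : (P : Subgroup G) ≤ Subgroup.normalizer (R : Set G) :=
    Solv.le_normalizer_inf Subgroup.le_normalizer Subgroup.le_normalizer_of_normal
  have hRidx : ¬ p ∣ (R.subgroupOf M).index := by
    show ¬ p ∣ R.relIndex M
    rw [hR, Subgroup.inf_relIndex_right]
    exact Cfsg.Agent.Local.SylowCenter.not_dvd_relIndex_normal P M
  set Q : Sylow p M := hRp.comap_subtype.toSylow hRidx
  have hQm : (Q : Subgroup M).map M.subtype = R := Subgroup.map_subgroupOf_eq_of_le inf_le_right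
  have htop := Sylow.normalizer_sup_eq_top Q
  rw [hQm] at htop
  have hMDR : M ≤ Subgroup.normalizer (R : Set G) ⊔ D := by
    have hle : M ≤ D ⊔ R := by
      intro m hm
      set π := QuotientGroup.mk' D
      have hπM : IsPGroup p (M.map π) := by
        refine (Solv.isPGroup_pCore p (G ⧸ D)).to_le ?_
        rintro _ ⟨a, ha, rfl⟩
        exact ha
      have h1 : (R.map π).relIndex (M.map π) = 1 := by
        obtain ⟨j, hj⟩ := hπM.index ((R.map π).subgroupOf (M.map π))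
        have hd : (R.map π).relIndex (M.map π) ∣ R.relIndex M := by
          have hker : π.ker ≤ M := by
            intro a ha
            show π a ∈ Cfsg.pCore p (G ⧸ D)
            rw [MonoidHom.mem_ker.1 ha]
            exact one_mem _
          rw [Subgroup.relIndex_map_map, sup_of_le_left hker]
          exact Subgroup.relIndex_dvd_of_le_left M le_sup_left
        rcases j with _ | j
        · exact hj
        · exfalso
          have hp' : p ∣ (R.map π).relIndex (M.map π) := by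
            show p ∣ ((R.map π).subgroupOf (M.map π)).index
            rw [hj]
            exact dvd_pow_self p (Nat.succ_ne_zero j)
          exact hRidx (hp'.trans hd)
      have h2 := Subgroup.relIndex_eq_one.1 h1 ⟨m, hm, rfl⟩
      obtain ⟨r, hr, e⟩ := h2
      have h3 : m * r⁻¹ ∈ D := (QuotientGroup.eq_one_iff (m * r⁻¹)).1 (by
        show π (m * r⁻¹) = 1
        rw [map_mul, map_inv, e, mul_inv_cancel])
      have := mul_mem (Subgroup.mem_sup_left h3 : m * r⁻¹ ∈ D ⊔ R) (Subgroup.mem_sup_right hr)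
      rwa [inv_mul_cancel_right] at this
    exact hle.trans (sup_le le_sup_right (Subgroup.le_normalizer.trans le_sup_left))
  have hgm : g ∈ Subgroup.normalizer (R : Set G) ⊔ D :=
    (htop.ge.trans (sup_le le_sup_left hMDR)) (Subgroup.mem_top g)
  obtain ⟨n, hn, d, hd, rfl⟩ := Subgroup.mem_sup_of_normal_right.1 hgm
  have hxo : ∃ k : ℕ, orderOf x = p ^ k := by
    obtain ⟨k, hk⟩ := IsPGroup.iff_orderOf.1 P.isPGroup' ⟨x, hx⟩
    exact ⟨k, by rw [← hk, Subgroup.orderOf_mk]⟩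
  have hd' : d⁻¹⁻¹ * x * d⁻¹ ∈ Subgroup.normalizer (R : Set G) := by
    have e : d⁻¹⁻¹ * x * d⁻¹ = n⁻¹ * y * n := by rw [← hg]; group
    rw [e]
    exact mul_mem (mul_mem (inv_mem hn) (hPR hy)) hn
  obtain ⟨d₁, hd₁, d₂, hd₂, hdd⟩ := part1 x (hPR hx) hxo d⁻¹ (inv_mem hd) hd'
  refine ⟨n * d₂⁻¹, mul_mem hn (inv_mem (Subgroup.centralizer_le_normalizer _ hd₂.2)), ?_⟩
  have hc : x * d₁ = d₁ * x := (Subgroup.mem_centralizer_singleton_iff.1 hd₁.2).symm
  rw [← hg, show d = d₂⁻¹ * d₁⁻¹ by rw [← mul_inv_rev, ← hdd, inv_inv]]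
  calc n * d₂⁻¹ * x * (n * d₂⁻¹)⁻¹ = n * d₂⁻¹ * (d₁⁻¹ * (d₁ * x)) * d₂ * n⁻¹ := by group
    _ = n * d₂⁻¹ * (d₁⁻¹ * (x * d₁)) * d₂ * n⁻¹ := by rw [hc]
    _ = n * (d₂⁻¹ * d₁⁻¹) * x * (n * (d₂⁻¹ * d₁⁻¹))⁻¹ := by group

end Cfsg.Agent.S1907
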