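import Cfsg.Statements.S1910
import Cfsg.Prelude
-- import your own Cfsg.Agent.* helpers here

set_option autoImplicit false
open Cfsg

namespace Cfsg.Agent.S1910
open Subgroup
open scoped commutatorElement

section
variable {G : Type*} [Group G]

/-- a tightly embedded subgroup in elementwise form -/
def Tight (X : Subgroup G) : Prop :=
  ∀ c x : G, x ≠ 1 → (∃ k : ℕ, orderOf x = 2 ^ k) → x ∈ X → c * x * c⁻¹ ∈ X → c ∈ normalizer (X : Set G)

theorem cardProd (R T S : Subgroup G) (hR : R ≤ S) (hT : T ≤ S) (hd : T ⊓ R = ⊥)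
    (hs : ∀ x ∈ S, ∃ r ∈ R, ∃ t ∈ T, x = r * t) : Nat.card S = Nat.card R * Nat.card T := by
  rw [← Nat.card_prod]
  refine (Nat.card_congr (Equiv.ofBijective
    (fun q : ↥R × ↥T => (⟨q.1 * q.2, mul_mem (hR q.1.2) (hT q.2.2)⟩ : S)) ⟨?_, ?_⟩)).symm
  · intro a b hab
    have h' : (a.1 : G) * a.2 = b.1 * b.2 := congrArg Subtype.val hab
    have hm : (b.1 : G)⁻¹ * a.1 = b.2 * (a.2 : G)⁻¹ := by
      rw [inv_mul_eq_iff_eq_mul, ← mul_assoc, ← h', mul_inv_cancel_right]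
    have h1 : (b.1 : G)⁻¹ * a.1 ∈ T ⊓ R :=
      mem_inf.2 ⟨hm ▸ mul_mem b.2.2 (inv_mem a.2.2), mul_mem (inv_mem b.1.2) a.1.2⟩
    rw [hd, mem_bot, inv_mul_eq_one] at h1
    refine Prod.ext (Subtype.ext h1.symm) (Subtype.ext ?_)
    rw [← h1] at h'
    exact mul_left_cancel h'
  · intro x
    obtain ⟨r, hr, t, ht, e⟩ := hs x x.2
    exact ⟨(⟨r, hr⟩, ⟨t, ht⟩), Subtype.ext e.symm⟩

theorem supProd {Q T : Subgroup G} (hTQ : T ≤ normalizer (Q : Set G)) {x : G} (hx : x ∈ Q ⊔ T) :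
    ∃ q ∈ Q, ∃ t ∈ T, x = q * t := by
  rw [← SetLike.mem_coe, coe_mul_of_right_le_normalizer_left _ _ hTQ] at hx
  obtain ⟨q, hq, t, ht, e⟩ := hx
  exact ⟨q, hq, t, ht, e.symm⟩

variable [Finite G]

theorem twoOrd {S : Subgroup G} (hS : IsPGroup 2 S) {x : G} (hx : x ∈ S) : ∃ k : ℕ, orderOf x = 2 ^ k := by
  haveI : Fact (Nat.Prime 2) := ⟨Nat.prime_two⟩
  obtain ⟨k, hk⟩ := IsPGroup.iff_orderOf.1 hS ⟨x, hx⟩
  exact ⟨k, by rw [← hk, Subgroup.orderOf_mk]⟩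

theorem core {Q Q' T S : Subgroup G} (hQ : Tight Q) (hQ' : Tight Q')
    (hfree : ∀ x, (∃ k : ℕ, orderOf x = 2 ^ k) → x ∈ Q → x ∈ Q' → x = 1)
    (hT1 : T ≠ ⊥) (hTQ' : T ≤ Q') (hTQ : T ≤ normalizer (Q : Set G)) (hTS : T ≤ S) (hSQT : S ≤ Q ⊔ T)
    (hS : IsPGroup 2 S) (hSo : ¬ 2 ∣ S.relIndex (Q ⊔ T)) :
    T ⊓ Q = ⊥ ∧ (∀ t ∈ T, ∀ r ∈ S ⊓ normalizer (T : Set G) ⊓ Q, t * r = r * t) ∧
    (∀ x ∈ S ⊓ normalizer (T : Set G), ∃ r ∈ S ⊓ normalizer (T : Set G) ⊓ Q, ∃ t ∈ T, x = r * t) ∧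
    S ⊓ normalizer (T : Set G) ⊓ Q ≤ normalizer (Q' : Set G) ∧
    ((∃ f : ↥T →* ↥(S ⊓ normalizer (T : Set G) ⊓ Q), Function.Injective f) ∨
      ¬ 2 ∣ (S ⊓ normalizer (T : Set G) ⊓ Q).relIndex Q) := by
  classical
  haveI : Fact (Nat.Prime 2) := ⟨Nat.prime_two⟩
  set R := S ⊓ normalizer (T : Set G) ⊓ Q with hR
  have hT2 : IsPGroup 2 T := hS.to_le hTS
  have h1 : T ⊓ Q = ⊥ := by
    rw [eq_bot_iff]
    intro x hx
    exact mem_bot.2 (hfree x (twoOrd hT2 (mem_inf.1 hx).1) (mem_inf.1 hx).2 (hTQ' (mem_inf.1 hx).1))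
  have h2 : ∀ t ∈ T, ∀ r ∈ R, t * r = r * t := by
    intro t ht r hr
    obtain ⟨hr1, hrQ⟩ := mem_inf.1 hr
    obtain ⟨-, hrN⟩ := mem_inf.1 hr1
    rw [← commutatorElement_eq_one_iff_mul_comm, ← mem_bot, ← h1, commutatorElement_def]
    refine mem_inf.2 ⟨?_, ?_⟩
    · have := mul_mem ht ((mem_normalizer_iff.1 hrN t⁻¹).1 (inv_mem ht))
      simpa [mul_assoc] using this
    · exact mul_mem ((mem_normalizer_iff.1 (hTQ ht) r).1 hrQ) (inv_mem hrQ)
  have hSprod : ∀ x ∈ S, ∃ r ∈ S ⊓ Q, ∃ t ∈ T, x = r * t := by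
    intro x hx
    obtain ⟨q, hq, t, ht, rfl⟩ := supProd hTQ (hSQT hx)
    refine ⟨q, mem_inf.2 ⟨?_, hq⟩, t, ht, rfl⟩
    simpa using mul_mem hx (inv_mem (hTS ht))
  have h3 : ∀ x ∈ S ⊓ normalizer (T : Set G), ∃ r ∈ R, ∃ t ∈ T, x = r * t := by
    intro x hx
    obtain ⟨q, hq, t, ht, rfl⟩ := hSprod x (mem_inf.1 hx).1
    refine ⟨q, mem_inf.2 ⟨mem_inf.2 ⟨(mem_inf.1 hq).1, ?_⟩, (mem_inf.1 hq).2⟩, t, ht, rfl⟩
    simpa using mul_mem (mem_inf.1 hx).2 (inv_mem (le_normalizer ht))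
  haveI : Nontrivial T := (nontrivial_iff_ne_bot T).2 hT1
  obtain ⟨t₁, ht₁⟩ := exists_ne (1 : T)
  have h4 : R ≤ normalizer (Q' : Set G) := by
    intro r hr
    refine hQ' r t₁ (fun h => ht₁ (Subtype.ext h)) (twoOrd hT2 t₁.2) (hTQ' t₁.2) ?_
    rw [← h2 t₁ t₁.2 r hr, mul_inv_cancel_right]
    exact hTQ' t₁.2
  refine ⟨h1, h2, h3, h4, ?_⟩
  by_cases hA : S ⊓ Q ≤ normalizer (T : Set G)
  · right
    have e : R = S ⊓ Q := le_antisymm (inf_le_inf_right Q inf_le_left)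
      (le_inf (le_inf inf_le_left hA) inf_le_right)
    rw [e]
    intro hdvd
    apply hSo
    have c1 := cardProd Q T (Q ⊔ T) le_sup_left le_sup_right h1 (fun x hx => supProd hTQ hx)
    have hd2 : T ⊓ (S ⊓ Q) = ⊥ := eq_bot_iff.2 ((inf_le_inf_left T inf_le_right).trans h1.le)
    have c2 := cardProd (S ⊓ Q) T S inf_le_left hTS hd2 hSprod
    have c3 := relIndex_mul_relIndex ⊥ S (Q ⊔ T) bot_le hSQT
    have c4 := relIndex_mul_relIndex ⊥ (S ⊓ Q) Q bot_le inf_le_right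
    rw [relIndex_bot_left, relIndex_bot_left] at c3 c4
    rw [c1, c2, ← c4] at c3
    have : S.relIndex (Q ⊔ T) = (S ⊓ Q).relIndex Q := by
      refine Nat.eq_of_mul_eq_mul_left (Nat.mul_pos Nat.card_pos Nat.card_pos : 0 < Nat.card ↥(S ⊓ Q) * Nat.card T) ?_
      rw [c3]; ring
    rw [this]
    exact hdvd
  · left
    let X : Subgroup G := S ⊓ normalizer (T : Set G)
    have hlt : X.subgroupOf S < ⊤ := by
      refine lt_top_iff_ne_top.2 fun h => hA fun q hq => ?_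
      exact (mem_inf.1 (subgroupOf_eq_top.1 h (mem_inf.1 hq).1)).2
    haveI : Group.IsNilpotent S := hS.isNilpotent
    obtain ⟨y, hyN, hy⟩ := SetLike.exists_of_lt (normalizerCondition_of_isNilpotent _ hlt)
    have hyX : ∀ x ∈ X, (y : G) * x * (y : G)⁻¹ ∈ X := fun x hx => by
      have := (mem_normalizer_iff.1 hyN (⟨x, (mem_inf.1 hx).1⟩ : S)).1 hx
      exact this
    obtain ⟨q, hq, t, ht, hye⟩ := hSprod y y.2
    have htX : t ∈ X := mem_inf.2 ⟨hTS ht, le_normalizer ht⟩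
    have hqX : ∀ x ∈ X, q * x * q⁻¹ ∈ X := fun x hx => by
      have h := hyX _ (mul_mem (mul_mem (inv_mem htX) hx) htX)
      rw [hye] at h
      convert h using 1
      group
    have hqnot : q ∉ normalizer (T : Set G) := fun h => hy (by
      show (y : G) ∈ X
      exact mem_inf.2 ⟨y.2, hye ▸ mul_mem h (le_normalizer ht)⟩)
    obtain ⟨hqS, hqQ⟩ := mem_inf.1 hq
    have hqQ' : q ∉ normalizer (Q' : Set G) := by
      intro h
      refine hqnot (centralizer_le_normalizer _ (mem_centralizer_iff.2 fun u hu => ?_))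
      rw [← commutatorElement_eq_one_iff_mul_comm]
      refine hfree _ (twoOrd hS ?_) ?_ ?_
      · rw [commutatorElement_def]
        exact mul_mem (mul_mem (mul_mem (hTS hu) hqS) (inv_mem (hTS hu))) (inv_mem hqS)
      · rw [commutatorElement_def]
        exact mul_mem ((mem_normalizer_iff.1 (hTQ hu) q).1 hqQ) (inv_mem hqQ)
      · rw [commutatorElement_def]
        have := mul_mem (hTQ' hu) ((mem_normalizer_iff.1 h u⁻¹).1 (inv_mem (hTQ' hu)))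
        simpa [mul_assoc] using this
    have hdec : ∀ u ∈ T, ∃ r ∈ R, ∃ t' ∈ T, q * u * q⁻¹ = r * t' := fun u hu =>
      h3 _ (hqX u (mem_inf.2 ⟨hTS hu, le_normalizer hu⟩))
    choose f hfR g hgT hfg using hdec
    have hu : ∀ r₁ ∈ R, ∀ t₁ ∈ T, ∀ r₂ ∈ R, ∀ t₂ ∈ T, r₁ * t₁ = r₂ * t₂ → r₁ = r₂ := by
      intro r₁ hr₁ t₁ ht₁ r₂ hr₂ t₂ ht₂ e
      have hm : r₂⁻¹ * r₁ = t₂ * t₁⁻¹ := by rw [inv_mul_eq_iff_eq_mul, ← mul_assoc, ← e, mul_inv_cancel_right]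
      have h : r₂⁻¹ * r₁ ∈ T ⊓ Q := mem_inf.2 ⟨hm ▸ mul_mem ht₂ (inv_mem ht₁),
        mul_mem (inv_mem (mem_inf.1 hr₂).2) (mem_inf.1 hr₁).2⟩
      rw [h1, mem_bot, inv_mul_eq_one] at h
      exact h.symm
    let φ : ↥T →* ↥R := MonoidHom.mk' (fun u => ⟨f u u.2, hfR u u.2⟩) (fun a b => Subtype.ext (by
      show f ((a * b : T) : G) (a * b).2 = f a a.2 * f b b.2
      refine hu _ (hfR _ _) (g _ (a * b).2) (hgT _ _) _ (mul_mem (hfR _ _) (hfR _ _)) (g a a.2 * g b b.2)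
        (mul_mem (hgT _ _) (hgT _ _)) ?_
      rw [← hfg _ (a * b).2]
      calc q * ((a : G) * b) * q⁻¹ = (q * a * q⁻¹) * (q * b * q⁻¹) := by group
        _ = f a a.2 * g a a.2 * (f b b.2 * g b b.2) := by rw [← hfg, ← hfg]
        _ = f a a.2 * (g a a.2 * f b b.2) * g b b.2 := by group
        _ = f a a.2 * (f b b.2 * g a a.2) * g b b.2 := by rw [h2 _ (hgT _ _) _ (hfR _ _)]
        _ = _ := by group))
    refine ⟨φ, (injective_iff_map_eq_one φ).2 fun u hu' => Subtype.ext ?_⟩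
    have hf1 : f u u.2 = 1 := congrArg Subtype.val hu'
    have hm : q * u * q⁻¹ ∈ Q' := by
      rw [hfg u u.2, hf1, one_mul]
      exact hTQ' (hgT _ _)
    by_contra hne
    exact hqQ' (hQ' q u hne (twoOrd hT2 u.2) (hTQ' u.2) hm)

theorem le_relIndex_of_odd {A B : Subgroup G} (hA : IsPGroup 2 A) (hB : IsPGroup 2 B) {Q Q' : Subgroup G}
    (hAQ : A ≤ Q') (hBQ : B ≤ Q) (hc : Nat.card Q = Nat.card Q') (ho : ¬ 2 ∣ B.relIndex Q) :
    Nat.card A ≤ Nat.card B := by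
  haveI : Fact (Nat.Prime 2) := ⟨Nat.prime_two⟩
  obtain ⟨a, ha⟩ := IsPGroup.iff_card.1 hA
  have h1 : Nat.card A ∣ Nat.card Q' := card_dvd_of_le hAQ
  have h2 := relIndex_mul_relIndex ⊥ B Q bot_le hBQ
  rw [relIndex_bot_left, relIndex_bot_left] at h2
  rw [← hc, ← h2, ha] at h1
  rw [ha]
  refine Nat.le_of_dvd Nat.card_pos ((Nat.Coprime.pow_left a ?_).dvd_of_dvd_mul_right h1)
  exact Nat.coprime_two_left.2 (Nat.not_even_iff_odd.1 fun h => ho h.two_dvd)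

end


/-- Let Q be a tightly embedded subgroup of a finite group G, g an element outside N_G(Q), T a nontrivial Sylow 2-subgroup of Q^g ∩ N_G(Q), and S a Sylow 2-subgroup of QT containing T. Then T ∩ Q = 1, and N_S(T) is the direct product of T and N_S(T) ∩ Q, with N_S(T) ∩ Q isomorphic to T. -/
theorem result {G : Type*} [Group G] [Finite G] (Q : Subgroup G) (hQ : Cfsg.IsTightlyEmbedded Q)
    (g : G) (hg : g ∉ Subgroup.normalizer (Q : Set G))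
    (T : Subgroup G) (hT1 : T ≠ ⊥) (hT : T ≤ Q.map (MulAut.conj g).toMonoidHom ⊓ Subgroup.normalizer (Q : Set G))
    (hTsyl : IsPGroup 2 T ∧ ¬ 2 ∣ T.relIndex (Q.map (MulAut.conj g).toMonoidHom ⊓ Subgroup.normalizer (Q : Set G)))
    (S : Subgroup G) (hTS : T ≤ S) (hS : S ≤ Q ⊔ T) (hSsyl : IsPGroup 2 S ∧ ¬ 2 ∣ S.relIndex (Q ⊔ T)) :
    T ⊓ Q = ⊥ ∧
      T ⊓ (S ⊓ Subgroup.normalizer (T : Set G) ⊓ Q) = ⊥ ∧
      ⁅T, S ⊓ Subgroup.normalizer (T : Set G) ⊓ Q⁆ = ⊥ ∧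
      T ⊔ (S ⊓ Subgroup.normalizer (T : Set G) ⊓ Q) = S ⊓ Subgroup.normalizer (T : Set G) ∧
      Nonempty (↥(S ⊓ Subgroup.normalizer (T : Set G) ⊓ Q) ≃* T) := by
  skip
  classical
  haveI : Fact (Nat.Prime 2) := ⟨Nat.prime_two⟩
  set Q' := Q.map (MulAut.conj g).toMonoidHom with hQ'def
  obtain ⟨hT2, hTmax⟩ := hTsyl
  obtain ⟨hS2, hSo⟩ := hSsyl
  obtain ⟨hTQ', hTQ⟩ := le_inf_iff.1 hT
  have hQc : ∀ (c x : G), x ∈ Q.map (MulAut.conj c).toMonoidHom ↔ c⁻¹ * x * c ∈ Q := fun c x => by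
    constructor
    · rintro ⟨y, hy, rfl⟩
      simpa [mul_assoc] using hy
    · intro h
      exact ⟨_, h, by simp [mul_assoc]⟩
  have hodd : ∀ c : G, c ∉ normalizer (Q : Set G) → ∀ x, (∃ k : ℕ, orderOf x = 2 ^ k) → x ∈ Q →
      x ∈ Q.map (MulAut.conj c).toMonoidHom → x = 1 := by
    intro c hc x hk hx hx'
    obtain ⟨k, hk⟩ := hk
    have h := hQ.2 c hc
    have hd := (Q ⊓ Q.map (MulAut.conj c).toMonoidHom).orderOf_dvd_natCard (mem_inf.2 ⟨hx, hx'⟩)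
    rw [hk] at hd
    rw [← orderOf_eq_one_iff, hk]
    exact Nat.eq_one_of_dvd_coprimes (Nat.Coprime.pow_left k (Nat.coprime_two_left.2 h)) dvd_rfl hd
  have tQ : Tight Q := by
    intro c x hne hk hx hcx
    by_contra hc
    refine hne (hodd c⁻¹ (fun h => hc (by simpa using inv_mem h)) x hk hx ((hQc _ _).2 ?_))
    simpa using hcx
  have tQ' : Tight Q' := by
    intro c x hne hk hx hcx
    rw [hQc] at hx hcx
    have h := tQ (g⁻¹ * c * g) (g⁻¹ * x * g) (fun h => hne (by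
        have := congrArg (fun y => g * y * g⁻¹) h
        simpa [mul_assoc] using this))
      (by
        rw [show g⁻¹ * x * g = (MulAut.conj g⁻¹) x by simp, MulEquiv.orderOf_eq]; exact hk) hx
      (by convert hcx using 1; group)
    rw [mem_normalizer_iff] at h ⊢
    intro y
    rw [hQc, hQc, h (g⁻¹ * y * g)]
    rw [show g⁻¹ * c * g * (g⁻¹ * y * g) * (g⁻¹ * c * g)⁻¹ = g⁻¹ * (c * y * c⁻¹) * g by group]
  have hfree : ∀ x, (∃ k : ℕ, orderOf x = 2 ^ k) → x ∈ Q → x ∈ Q' → x = 1 := hodd g hg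
  obtain ⟨c1, c2, c3, c4, c5⟩ := core tQ tQ' hfree hT1 hTQ' hTQ hTS hS hS2 hSo
  set R := S ⊓ normalizer (T : Set G) ⊓ Q with hR
  have hRQ : R ≤ Q := inf_le_right
  have hR2 : IsPGroup 2 R := hS2.to_le (inf_le_left.trans inf_le_left)
  have hcard : Nat.card Q = Nat.card Q' :=
    (card_map_of_injective (MulAut.conj g).injective).symm
  have hTR : Nat.card T ≤ Nat.card R := by
    rcases c5 with ⟨f, hf⟩ | ho
    · exact Nat.card_le_card_of_injective f hf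
    · exact le_relIndex_of_odd hT2 hR2 hTQ' hRQ hcard ho
  refine ⟨c1, eq_bot_iff.2 ((inf_le_inf_left T hRQ).trans c1.le), ?_, ?_, ?_⟩
  · rw [commutator_eq_bot_iff_le_centralizer]
    exact fun t ht => mem_centralizer_iff.2 fun r hr => (c2 t ht r hr).symm
  · refine le_antisymm (sup_le (le_inf hTS le_normalizer) inf_le_left) fun x hx => ?_
    obtain ⟨r, hr, t, ht, rfl⟩ := c3 x hx
    exact mul_mem (mem_sup_right hr) (mem_sup_left ht)
  · -- the symmetric configuration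
    let W : Subgroup G := Q ⊓ normalizer (Q' : Set G)
    have hRW : R ≤ W := le_inf hRQ c4
    have hTW : T ≤ normalizer (W : Set G) := by
      intro t ht
      rw [mem_normalizer_iff]
      intro x
      exact and_congr (mem_normalizer_iff.1 (hTQ ht) x)
        (mem_normalizer_iff.1 (le_normalizer (H := normalizer (Q' : Set G)) (le_normalizer (hTQ' ht))) x)
    have hRT : IsPGroup 2 ↥((R ⊔ T).subgroupOf (W ⊔ T)) :=
      (hS2.to_le (sup_le (inf_le_left.trans inf_le_left) hTS)).of_equiv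
        (subgroupOfEquivOfLe (sup_le_sup_right hRW T)).symm
    obtain ⟨P₀, hP₀⟩ := hRT.exists_le_sylow
    let S₀ : Subgroup G := (P₀ : Subgroup ↥(W ⊔ T)).map (W ⊔ T).subtype
    have hS₀2 : IsPGroup 2 S₀ := P₀.isPGroup'.map _
    have hRT₀ : R ⊔ T ≤ S₀ := fun x hx =>
      ⟨⟨x, sup_le_sup_right hRW T hx⟩, hP₀ hx, rfl⟩
    let R₀ : Subgroup G := S₀ ⊓ W
    have hR₀c : ∀ r ∈ R₀, ∀ t ∈ T, r * t = t * r := by
      intro r hr t ht
      obtain ⟨hrS, hrW⟩ := mem_inf.1 hr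
      obtain ⟨hrQ, hrN⟩ := mem_inf.1 hrW
      rw [← commutatorElement_eq_one_iff_mul_comm, commutatorElement_def]
      refine hfree _ (twoOrd hS₀2 ?_) ?_ ?_
      · have htS := hRT₀ (mem_sup_right ht)
        exact mul_mem (mul_mem (mul_mem hrS htS) (inv_mem hrS)) (inv_mem htS)
      · have := mul_mem hrQ ((mem_normalizer_iff.1 (hTQ ht) r⁻¹).1 (inv_mem hrQ))
        simpa [mul_assoc] using this
      · exact mul_mem ((mem_normalizer_iff.1 hrN t).1 (hTQ' ht)) (inv_mem (hTQ' ht))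
    have hR0R : R ≤ R₀ := le_inf (le_sup_left.trans hRT₀) hRW
    have hR₀2 : IsPGroup 2 R₀ := hS₀2.to_le inf_le_left
    haveI : Nontrivial T := (nontrivial_iff_ne_bot T).2 hT1
    have hR₀ne : R₀ ≠ ⊥ := by
      intro h
      have h2 : Nat.card T ≤ 1 := hTR.trans ((Subgroup.card_le_of_le hR0R).trans (by rw [h, card_bot]))
      exact absurd (Finite.one_lt_card (α := T)) (not_lt.2 h2)
    have hR₀Q' : R₀ ≤ normalizer (Q' : Set G) := fun r hr => (mem_inf.1 (mem_inf.1 hr).2).2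
    have hTR₀ : IsPGroup 2 ↥((T ⊔ R₀).subgroupOf (Q' ⊔ R₀)) :=
      (hS₀2.to_le (sup_le (le_sup_right.trans hRT₀) inf_le_left)).of_equiv
        (subgroupOfEquivOfLe (sup_le_sup_right hTQ' R₀)).symm
    obtain ⟨P₁, hP₁⟩ := hTR₀.exists_le_sylow
    let S₁ : Subgroup G := (P₁ : Subgroup ↥(Q' ⊔ R₀)).map (Q' ⊔ R₀).subtype
    have hS₁2 : IsPGroup 2 S₁ := P₁.isPGroup'.map _
    have hS₁le : S₁ ≤ Q' ⊔ R₀ := map_subtype_le _
    have hTR₁ : T ⊔ R₀ ≤ S₁ := fun x hx => ⟨⟨x, sup_le_sup_right hTQ' R₀ hx⟩, hP₁ hx, rfl⟩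
    have hS₁o : ¬ 2 ∣ S₁.relIndex (Q' ⊔ R₀) := by
      have e : S₁.subgroupOf (Q' ⊔ R₀) = P₁ := comap_map_eq_self_of_injective (Subgroup.subtype_injective _) _
      show ¬ 2 ∣ (S₁.subgroupOf (Q' ⊔ R₀)).index
      rw [e]
      exact P₁.not_dvd_index
    obtain ⟨d1, d2, d3, d4, d5⟩ := core tQ' tQ (fun x hk a b => hfree x hk b a) hR₀ne
      (fun r hr => (mem_inf.1 (mem_inf.1 hr).2).1) hR₀Q' (le_sup_right.trans hTR₁) hS₁le hS₁2 hS₁o
    set T₁ := S₁ ⊓ normalizer (R₀ : Set G) ⊓ Q' with hT₁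
    have hTT₁ : T ≤ T₁ := le_inf (le_inf (le_sup_left.trans hTR₁) fun t ht =>
      centralizer_le_normalizer _ (mem_centralizer_iff.2 fun r hr => hR₀c r hr t ht)) hTQ'
    have hT₁eq : T₁ = T := by
      refine le_antisymm ?_ hTT₁
      have hle : T₁ ≤ Q' ⊓ normalizer (Q : Set G) := le_inf inf_le_right d4
      have h1 : T.relIndex T₁ ∣ T.relIndex (Q' ⊓ normalizer (Q : Set G)) := by
        refine Dvd.intro _ (relIndex_mul_relIndex T T₁ _ hTT₁ hle)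
      obtain ⟨a, ha⟩ := IsPGroup.iff_card.1 (hS₁2.to_le (inf_le_left.trans inf_le_left : T₁ ≤ S₁))
      have h2 : T.relIndex T₁ ∣ 2 ^ a := ha ▸ relIndex_dvd_card T T₁
      obtain ⟨b, -, hb⟩ := (Nat.dvd_prime_pow Nat.prime_two).1 h2
      rw [← relIndex_eq_one, hb]
      rcases Nat.eq_zero_or_pos b with rfl | hb0
      · exact pow_zero 2
      · exact absurd (dvd_trans (hb ▸ dvd_pow_self 2 hb0.ne') h1) hTmax
    rw [hT₁eq] at d5
    have hR₀le : Nat.card R₀ ≤ Nat.card T := by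
      rcases d5 with ⟨f, hf⟩ | ho
      · exact Nat.card_le_card_of_injective f hf
      · exact le_relIndex_of_odd hR₀2 hT2 (fun r hr => (mem_inf.1 (mem_inf.1 hr).2).1) hTQ' hcard.symm ho
    have hRR : R = R₀ := eq_of_le_of_card_ge hR0R (hR₀le.trans hTR)
    have heq : Nat.card T = Nat.card R := le_antisymm hTR (hRR ▸ hR₀le)
    haveI : Fintype T := Fintype.ofFinite T
    haveI : Fintype R := Fintype.ofFinite R
    rcases c5 with ⟨f, hf⟩ | hoR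
    · exact ⟨(MulEquiv.ofBijective f ((Fintype.bijective_iff_injective_and_card f).2
        ⟨hf, by rw [← Nat.card_eq_fintype_card, ← Nat.card_eq_fintype_card, heq]⟩)).symm⟩
    rcases d5 with ⟨f, hf⟩ | hoT
    · exact ⟨MulEquiv.ofBijective (f.comp (MulEquiv.subgroupCongr hRR).toMonoidHom)
        ((Fintype.bijective_iff_injective_and_card _).2
          ⟨hf.comp (MulEquiv.injective _), by rw [← Nat.card_eq_fintype_card, ← Nat.card_eq_fintype_card, heq]⟩)⟩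
    -- both are Sylow subgroups
    let PT : Sylow 2 ↥Q' := (hT2.of_equiv (subgroupOfEquivOfLe hTQ').symm).toSylow hoT
    let eQ : ↥Q ≃* ↥Q' := Q.equivMapOfInjective (MulAut.conj g).toMonoidHom (MulAut.conj g).injective
    let PR : Sylow 2 ↥Q := (hR2.of_equiv (subgroupOfEquivOfLe hRQ).symm).toSylow hoR
    let PR' : Sylow 2 ↥Q' := PR.mapSurjective (f := eQ.toMonoidHom) eQ.surjective
    refine ⟨((subgroupOfEquivOfLe hRQ).symm.trans ?_).trans (subgroupOfEquivOfLe hTQ')⟩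
    exact (((PR : Subgroup ↥Q).equivMapOfInjective eQ.toMonoidHom eQ.injective).trans (PR'.equiv PT))

end Cfsg.Agent.S1910
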