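import Cfsg.Statements.S1921
import Cfsg.Agent.Lib.Local.Component

set_option autoImplicit false
open Cfsg

namespace Cfsg.Agent.S1921


/-- Let a be an involution of a finite group H and L a component of H with a L a⁻¹ ≠ L; put M = ⟨L, aLa⁻¹⟩ and let J be the subgroup generated by the elements x · a x a⁻¹ with x ∈ L (the diagonal). Then every element of M outside J·Z(M) generates M together with J. -/
theorem result {H : Type*} [Group H] [Finite H] (a : H) (ha : orderOf a = 2) (L : Subgroup H) (hL : Cfsg.IsComponent L)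
    (hLa : L.map (MulAut.conj a).toMonoidHom ≠ L) (x : H) (hxM : x ∈ L ⊔ L.map (MulAut.conj a).toMonoidHom)
    (hxJ : x ∉ Subgroup.closure {y : H | ∃ l ∈ L, y = l * (a * l * a⁻¹)} ⊔
      ((L ⊔ L.map (MulAut.conj a).toMonoidHom) ⊓ Subgroup.centralizer ((L ⊔ L.map (MulAut.conj a).toMonoidHom : Subgroup H) : Set H))) :
    Subgroup.closure {y : H | ∃ l ∈ L, y = l * (a * l * a⁻¹)} ⊔ Subgroup.zpowers x = L ⊔ L.map (MulAut.conj a).toMonoidHom := by
  set Lb := L.map (MulAut.conj a).toMonoidHom with hLb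
  set J := Subgroup.closure {y : H | ∃ l ∈ L, y = l * (a * l * a⁻¹)} with hJ
  have hcom := Cfsg.Agent.Local.components_commute hL (Cfsg.Agent.Local.isComponent_conj hL a) (Ne.symm hLa)
  rw [Subgroup.commutator_eq_bot_iff_le_centralizer] at hcom
  have hcomm : ∀ l ∈ L, ∀ m ∈ Lb, Commute l m := fun l hl m hm =>
    (Subgroup.mem_centralizer_iff.1 (hcom hl) m hm).symm
  have hJmem : ∀ l ∈ L, l * (a * l * a⁻¹) ∈ J := fun l hl => Subgroup.subset_closure ⟨l, hl, rfl⟩
  have hJle : J ≤ L ⊔ Lb := by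
    rw [hJ, Subgroup.closure_le]
    rintro _ ⟨l, hl, rfl⟩
    exact Subgroup.mul_mem_sup hl ⟨l, hl, rfl⟩
  have hLbL : Lb ≤ Subgroup.normalizer (L : Set H) := fun m hm =>
    Subgroup.centralizer_le_normalizer _ (Subgroup.mem_centralizer_iff.2 fun l hl => (hcomm l hl m hm).eq)
  obtain ⟨l1, hl1, _, ⟨l2, hl2, rfl⟩, hx⟩ : ∃ l ∈ L, ∃ m ∈ Lb, l * m = x := by
    have h2 : x ∈ ((L ⊔ Lb : Subgroup H) : Set H) := hxM
    rw [Subgroup.coe_mul_of_right_le_normalizer_left L Lb hLbL] at h2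
    exact h2
  have hx' : l1 * (a * l2 * a⁻¹) = x := hx
  refine le_antisymm (sup_le hJle (Subgroup.zpowers_le.2 hxM)) ?_
  set X := J ⊔ Subgroup.zpowers x with hX
  set m := l1 * l2⁻¹ with hm
  have hmL : m ∈ L := L.mul_mem hl1 (L.inv_mem hl2)
  have hxm : x = m * (l2 * (a * l2 * a⁻¹)) := by rw [← hx', hm]; group
  have hmX : m ∈ X := by
    rw [show m = x * (l2 * (a * l2 * a⁻¹))⁻¹ by rw [hxm]; group]
    exact X.mul_mem (Subgroup.mem_sup_right (Subgroup.mem_zpowers x))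
      (X.inv_mem (Subgroup.mem_sup_left (hJmem l2 hl2)))
  have hnorm : (X.subgroupOf L).Normal := ⟨fun n hn l => by
    show (l : H) * n * (l : H)⁻¹ ∈ X
    have hc := hcomm n n.2 (a * l * a⁻¹) ⟨l, l.2, rfl⟩
    rw [show (l : H) * n * (l : H)⁻¹ = (l * (a * l * a⁻¹)) * n * (l * (a * l * a⁻¹))⁻¹ by
      rw [mul_assoc (l : H) (a * l * a⁻¹) n, ← hc.eq]; group]
    exact X.mul_mem (X.mul_mem (Subgroup.mem_sup_left (hJmem l l.2)) hn)
      (X.inv_mem (Subgroup.mem_sup_left (hJmem l l.2)))⟩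
  rcases @Cfsg.Agent.Local.qs_normal_le_center_or_eq_top _ _ hL.2 (X.subgroupOf L) hnorm with h | h
  · exfalso
    apply hxJ
    have hmc := Subgroup.mem_center_iff.1 (h (show (⟨m, hmL⟩ : L) ∈ X.subgroupOf L from hmX))
    have hmC : m ∈ (L ⊔ Lb) ⊓ Subgroup.centralizer ((L ⊔ Lb : Subgroup H) : Set H) := by
      refine ⟨Subgroup.mem_sup_left hmL, ?_⟩
      have h3 : L ⊔ Lb ≤ Subgroup.centralizer ({m} : Set H) := sup_le
        (fun l hl => Subgroup.mem_centralizer_singleton_iff.2 (congrArg Subtype.val (hmc ⟨l, hl⟩) :))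
        (fun b hb => Subgroup.mem_centralizer_singleton_iff.2 (hcomm m hmL b hb).eq.symm)
      exact Subgroup.mem_centralizer_iff.2 fun y hy => Subgroup.mem_centralizer_singleton_iff.1 (h3 hy)
    rw [hxm]
    exact mul_mem (Subgroup.mem_sup_right hmC) (Subgroup.mem_sup_left (hJmem l2 hl2))
  · have hLX : L ≤ X := Subgroup.subgroupOf_eq_top.1 h
    refine sup_le hLX ?_
    rintro _ ⟨l, hl, rfl⟩
    show a * l * a⁻¹ ∈ X
    rw [show a * l * a⁻¹ = l⁻¹ * (l * (a * l * a⁻¹)) by group]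
    exact X.mul_mem (X.inv_mem (hLX hl)) (Subgroup.mem_sup_left (hJmem l hl))

end Cfsg.Agent.S1921
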