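import Cfsg.Statements.S1939
-- import your own Cfsg.Agent.* helpers here

set_option autoImplicit false
open Cfsg

namespace Cfsg.Agent.S1939


/-- Let S be a Sylow p-subgroup of the finite group G and a an element of S that is the only G-conjugate of a lying in S. Then every power of a has the same property: for every n, the only G-conjugate of a^n lying in S is a^n. -/
theorem result {G : Type*} [Group G] [Finite G] {p : ℕ} [Fact p.Prime] (S : Sylow p G) (a : G)
    (haS : a ∈ (S : Subgroup G)) (hwc : ∀ g : G, g * a * g⁻¹ ∈ (S : Subgroup G) → g * a * g⁻¹ = a) (n : ℕ) :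
    ∀ g : G, g * a ^ n * g⁻¹ ∈ (S : Subgroup G) → g * a ^ n * g⁻¹ = a ^ n := by
  intro g hg
  set b := a ^ n with hb
  set c := g * b * g⁻¹ with hc
  set C : Subgroup G := Subgroup.centralizer ({c} : Set G) with hC
  have hcom : ∀ s ∈ (S : Subgroup G), s * a = a * s := fun s hs => by
    have := hwc s (mul_mem (mul_mem hs haS) (inv_mem hs))
    exact mul_inv_eq_iff_eq_mul.1 this
  have haC : a ∈ C := Subgroup.mem_centralizer_singleton_iff.2 ((hcom c hg).symm)
  have hgC : g * a * g⁻¹ ∈ C := Subgroup.mem_centralizer_singleton_iff.2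
    (((Commute.pow_self a n).symm.map (MulAut.conj g).toMonoidHom).eq)
  have hp1 : IsPGroup p (Subgroup.zpowers (⟨a, haC⟩ : C)) := by
    refine IsPGroup.of_injective (G := (S : Subgroup G)) S.isPGroup'
      ((C.subtype.comp (Subgroup.zpowers (⟨a, haC⟩ : C)).subtype).codRestrict _ ?_) ?_
    · rintro ⟨x, hx⟩
      obtain ⟨k, rfl⟩ := Subgroup.mem_zpowers_iff.1 hx
      simpa using zpow_mem haS k
    · intro x y h
      exact Subtype.ext (Subtype.ext (congrArg (fun z : (S : Subgroup G) => (z : G)) h))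
  have hp2 : IsPGroup p (Subgroup.zpowers (⟨g * a * g⁻¹, hgC⟩ : C)) := by
    rw [IsPGroup.iff_card]
    obtain ⟨k, hk⟩ := IsPGroup.iff_card.1 hp1
    refine ⟨k, ?_⟩
    rw [← hk, Nat.card_zpowers, Nat.card_zpowers, ← Subgroup.orderOf_coe,
      ← Subgroup.orderOf_coe (⟨a, haC⟩ : C)]
    exact MulEquiv.orderOf_eq (MulAut.conj g) a
  obtain ⟨P1, hP1⟩ := hp1.exists_le_sylow
  obtain ⟨P2, hP2⟩ := hp2.exists_le_sylow
  obtain ⟨h, hh⟩ := MulAction.exists_smul_eq C P2 P1
  obtain ⟨T, hT⟩ := (P1.isPGroup'.map C.subtype).exists_le_sylow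
  obtain ⟨x, hx⟩ := MulAction.exists_smul_eq G T S
  have hmem : ∀ t ∈ (T : Subgroup G), x * t * x⁻¹ ∈ (S : Subgroup G) := fun t ht => by
    rw [← hx]
    exact Subgroup.smul_mem_pointwise_smul t (MulAut.conj x) (T : Subgroup G) ht
  have haT : a ∈ (T : Subgroup G) := hT ⟨⟨a, haC⟩, hP1 (Subgroup.mem_zpowers _), rfl⟩
  have haT' : (h : G) * (g * a * g⁻¹) * (h : G)⁻¹ ∈ (T : Subgroup G) := by
    refine hT ⟨h * ⟨g * a * g⁻¹, hgC⟩ * h⁻¹, ?_, rfl⟩
    rw [← hh]
    exact Subgroup.smul_mem_pointwise_smul _ (MulAut.conj h) (P2 : Subgroup C)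
      (hP2 (Subgroup.mem_zpowers _))
  have e1 := hwc x (hmem a haT)
  have e2 := hwc (x * h * g) (by convert hmem _ haT' using 1; group)
  have e3 : (h : G) * (g * a * g⁻¹) * (h : G)⁻¹ = a := by
    have : x * ((h : G) * (g * a * g⁻¹) * (h : G)⁻¹) * x⁻¹ = x * a * x⁻¹ := by
      rw [e1]; conv_rhs => rw [← e2]
      group
    simpa using this
  have e4 := congrArg (· ^ n) e3
  simp only [conj_pow] at e4
  have e5 : (h : G) * c = c * (h : G) := Subgroup.mem_centralizer_singleton_iff.1 h.2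
  rw [← hb, ← hc, e5, mul_inv_cancel_right] at e4
  exact e4

end Cfsg.Agent.S1939
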