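import Cfsg.Statements.S1940
import Mathlib
-- import your own Cfsg.Agent.* helpers here

set_option autoImplicit false
open Cfsg

namespace Cfsg.Agent.S1940

/-- Let the finite group L act by automorphisms on the finite abelian group M, and let N be an L-invariant subgroup of M such that M/N is a p-group on which L acts trivially (every l • m lies in the coset mN). If every element of M is a product of an element of N and an element fixed by a Sylow p-subgroup T of L, then every element of M is a product of an element of N and an element fixed by all of L. -/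
theorem result {L : Type*} [Group L] [Finite L] {M : Type*} [CommGroup M] [Finite M] [MulDistribMulAction L M]
    {p : ℕ} [Fact p.Prime] (N : Subgroup M) (hN : ∀ (l : L) (m : M), m ∈ N → l • m ∈ N)
    (hquot : IsPGroup p (M ⧸ N)) (htriv : ∀ (l : L) (m : M), (l • m) * m⁻¹ ∈ N) (T : Sylow p L)
    (hT : ∀ m : M, ∃ n ∈ N, ∃ c : M, (∀ t ∈ (T : Subgroup L), t • c = c) ∧ m = n * c) :
    ∀ m : M, ∃ n ∈ N, ∃ c : M, (∀ l : L, l • c = c) ∧ m = n * c := by
  classical
  intro m
  obtain ⟨n, hn, c, hc, rfl⟩ := hT m
  haveI : Fintype (L ⧸ (T : Subgroup L)) := Fintype.ofFinite _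
  let F : L ⧸ (T : Subgroup L) → M := fun q => Quotient.liftOn' q (fun l => l • c) (fun a b hab => by
    have h := hc _ (QuotientGroup.leftRel_apply.1 hab)
    show a • c = b • c
    rw [← h, ← mul_smul, mul_inv_cancel_left, h])
  set c' := ∏ q, F q with hc'
  have hfix : ∀ l : L, l • c' = c' := by
    intro l
    rw [hc', Finset.smul_prod']
    refine Fintype.prod_equiv (MulAction.toPerm l) _ _ fun q => ?_
    induction q using QuotientGroup.induction_on with
    | H a => exact (mul_smul l a c).symm
  have hmod : ∀ q, QuotientGroup.mk' N (F q) = QuotientGroup.mk' N c := by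
    intro q
    induction q using QuotientGroup.induction_on with
    | H a =>
      show QuotientGroup.mk' N (a • c) = _
      rw [QuotientGroup.mk'_eq_mk']
      refine ⟨((a • c) * c⁻¹)⁻¹, inv_mem (htriv a c), ?_⟩
      rw [mul_inv_rev, inv_inv, mul_comm c, ← mul_assoc, mul_inv_cancel, one_mul]
  have hprod : QuotientGroup.mk' N c' = QuotientGroup.mk' N c ^ (T : Subgroup L).index := by
    rw [hc', map_prod, Finset.prod_congr rfl fun q _ => hmod q, Finset.prod_const,
      Finset.card_univ, Subgroup.index, Nat.card_eq_fintype_card]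
  obtain ⟨k, hk⟩ := hquot (QuotientGroup.mk' N c)
  have hcop : Nat.Coprime (T : Subgroup L).index (orderOf (QuotientGroup.mk' N c)) :=
    Nat.Coprime.coprime_dvd_right (orderOf_dvd_of_pow_eq_one hk)
      (((Fact.out : p.Prime).coprime_iff_not_dvd.2 T.not_dvd_index).symm.pow_right k)
  obtain ⟨j, hj⟩ := exists_pow_eq_self_of_coprime hcop
  refine ⟨n * c * (c' ^ j)⁻¹, ?_, c' ^ j, fun l => by rw [smul_pow', hfix l], by group⟩
  rw [mul_assoc]
  refine mul_mem hn ((QuotientGroup.eq_one_iff (N := N) _).1 ?_)
  show QuotientGroup.mk' N (c * (c' ^ j)⁻¹) = 1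
  rw [map_mul, map_inv, map_pow, hprod, hj, mul_inv_cancel]

end Cfsg.Agent.S1940
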