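import Cfsg.Statements.S1941
import Cfsg.Agent.Lib.Local.FStar
import Cfsg.Agent.Lib.Solv.Basic
-- import your own Cfsg.Agent.* helpers here

set_option autoImplicit false
open Cfsg

namespace Cfsg.Agent.S1941
open Cfsg.Agent


/-- Let G be a finite group with no nontrivial normal subgroup of order prime to p, T a Sylow p-subgroup of G and E(G) the layer of G (the subgroup generated by its components). An automorphism of G of p-power order that fixes T and E(G) elementwise is inner. -/
theorem result {G : Type*} [Group G] [Finite G] {p : ℕ} [Fact p.Prime] (hcore : Cfsg.pPrimeCore p G = ⊥)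
    (T : Sylow p G) (α : MulAut G) (hα : ∃ j : ℕ, orderOf α = p ^ j) (hfixT : ∀ x ∈ (T : Subgroup G), α x = x)
    (hfixE : ∀ x ∈ Cfsg.layer G, α x = x) : ∃ g : G, ∀ x : G, α x = g * x * g⁻¹ := by
  classical
  set Fs := Cfsg.generalizedFittingSubgroup G with hFs
  have hfix : ∀ f ∈ Fs, α f = f := by
    have hle : Fs ≤ MonoidHom.eqLocus α.toMonoidHom (MonoidHom.id G) :=
      sup_le (fun x hx => hfixE x hx) (fun x hx => hfixT x (by
        rw [Solv.fittingSubgroup_eq_pCore hcore] at hx
        exact Solv.pCore_le_sylow T hx))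
    exact fun f hf => hle hf
  haveI hFn : Fs.Normal := by
    haveI : (Cfsg.layer G).Normal := Cfsg.Agent.Local.layer_normal
    exact Subgroup.sup_normal _ _
  set Z := Fs ⊓ Subgroup.centralizer (Fs : Set G) with hZ
  haveI hZn : Z.Normal := inferInstance
  have hZc : ∀ a ∈ Z, ∀ b ∈ Z, a * b = b * a := fun a ha b hb =>
    (Subgroup.mem_centralizer_iff.1 ha.2 b hb.1).symm
  letI instZ : CommGroup Z :=
    { (inferInstance : Group Z) with mul_comm := fun a b => Subtype.ext (hZc a a.2 b b.2) }
  have hZp : IsPGroup p Z := by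
    have h1 : Z ≤ Cfsg.fittingSubgroup G := Solv.le_fittingSubgroup CommGroup.isNilpotent
    rw [Solv.fittingSubgroup_eq_pCore hcore] at h1
    exact (Solv.isPGroup_pCore p G).to_le h1
  have hδmem : ∀ g : G, α g * g⁻¹ ∈ Z := by
    intro g
    have hC : α g * g⁻¹ ∈ Subgroup.centralizer (Fs : Set G) := by
      refine Subgroup.mem_centralizer_iff.2 fun f hf => ?_
      have hf' : g⁻¹ * f * g ∈ Fs := by simpa using hFn.conj_mem f hf g⁻¹
      have h1 := hfix _ hf'
      rw [map_mul, map_mul, map_inv, hfix f hf] at h1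
      calc f * (α g * g⁻¹) = α g * ((α g)⁻¹ * f * α g) * g⁻¹ := by group
        _ = α g * (g⁻¹ * f * g) * g⁻¹ := by rw [h1]
        _ = α g * g⁻¹ * f := by group
    exact Subgroup.mem_inf.2 ⟨Cfsg.Agent.Local.centralizer_generalizedFitting_le hC, hC⟩
  let δ : G → Z := fun g => ⟨α g * g⁻¹, hδmem g⟩
  let cj : G → (Z →* Z) := fun g => (MulAut.conjNormal g : MulAut Z).toMonoidHom
  have hcocycle : ∀ g h : G, δ (g * h) = δ g * cj g (δ h) := fun g h => Subtype.ext (by
    show α (g * h) * (g * h)⁻¹ = α g * g⁻¹ * (g * (α h * h⁻¹) * g⁻¹)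
    rw [map_mul]; group)
  have hδT : ∀ g : G, ∀ t ∈ (T : Subgroup G), δ (g * t) = δ g := fun g t ht => Subtype.ext (by
    show α (g * t) * (g * t)⁻¹ = α g * g⁻¹
    rw [map_mul, hfixT t ht]; group)
  haveI : Fintype (G ⧸ (T : Subgroup G)) := Fintype.ofFinite _
  set z : Z := ∏ c : G ⧸ (T : Subgroup G), δ c.out with hz
  have hmain : ∀ g : G, z = δ g ^ Fintype.card (G ⧸ (T : Subgroup G)) * cj g z := by
    intro g
    have hterm : ∀ c : G ⧸ (T : Subgroup G), δ (g • c).out = δ g * cj g (δ c.out) := by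
      intro c
      obtain ⟨t, ht⟩ := QuotientGroup.mk_out_eq_mul (T : Subgroup G) (g * c.out)
      have hgc : g • c = QuotientGroup.mk (g * c.out) := by
        conv_lhs => rw [← QuotientGroup.out_eq' c]
        rfl
      rw [hgc, ht, hδT _ _ t.2, hcocycle]
    calc z = ∏ c : G ⧸ (T : Subgroup G), δ (g • c).out := by
          rw [hz]; exact (Equiv.prod_comp (MulAction.toPerm g) (fun c : G ⧸ (T : Subgroup G) => δ c.out)).symm
      _ = ∏ c : G ⧸ (T : Subgroup G), δ g * cj g (δ c.out) := Finset.prod_congr rfl fun c _ => hterm c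
      _ = _ := by rw [Finset.prod_mul_distrib, Finset.prod_const, Finset.card_univ, hz, map_prod]
  set m := Fintype.card (G ⧸ (T : Subgroup G))
  have hm : m.Coprime (Nat.card Z) := by
    obtain ⟨k, hk⟩ := IsPGroup.iff_card.1 hZp
    rw [hk]
    refine (((Fact.out : p.Prime).coprime_iff_not_dvd.2 ?_).symm).pow_right k
    have hmi : m = (T : Subgroup G).index := by
      rw [Subgroup.index_eq_card, Nat.card_eq_fintype_card]
    rw [hmi]
    exact T.not_dvd_index
  obtain ⟨w, hw⟩ := (powCoprime hm.symm).surjective z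
  have hw' : w ^ m = z := hw
  refine ⟨(w : G), fun g => ?_⟩
  have h1 : δ g = w * (cj g w)⁻¹ := by
    have h2 := hmain g
    rw [← hw', map_pow, ← mul_pow] at h2
    have h3 : w = δ g * cj g w := (powCoprime hm.symm).injective h2
    rw [eq_mul_inv_iff_mul_eq]
    exact h3.symm
  have h4 : α g * g⁻¹ = (w : G) * (g * (w : G) * g⁻¹)⁻¹ := congrArg Subtype.val h1
  calc α g = α g * g⁻¹ * g := by group
    _ = (w : G) * (g * (w : G) * g⁻¹)⁻¹ * g := by rw [h4]
    _ = (w : G) * g * (w : G)⁻¹ := by group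

end Cfsg.Agent.S1941
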