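import Cfsg.Statements.S1944
import Cfsg.Agent.Lib.Local.CentralizerOmegaCenter
import Cfsg.Agent.Lib.Solv.NormalPComplement
-- import your own Cfsg.Agent.* helpers here

set_option autoImplicit false
open Cfsg

namespace Cfsg.Agent.S1944

/-- Let S be a Sylow p-subgroup of the finite group G and suppose that the centre Z(S) lies in O_{p',p}(G). The elements of S each of which is its only G-conjugate in S form a subgroup W of Z(S); W is then a direct factor of Z(S): there is a subgroup K of Z(S) with W ∩ K = 1 and WK = Z(S). -/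
theorem result {G : Type*} [Group G] [Finite G] {p : ℕ} [Fact p.Prime] (S : Sylow p G)
    (hZ : ((S : Subgroup G) ⊓ Subgroup.centralizer ((S : Subgroup G) : Set G)) ≤ Cfsg.pPrimePCore p G) :
    ∃ W K : Subgroup G, (∀ x : G, x ∈ W ↔ (x ∈ (S : Subgroup G) ∧ ∀ g : G, g * x * g⁻¹ ∈ (S : Subgroup G) → g * x * g⁻¹ = x)) ∧
      K ≤ ((S : Subgroup G) ⊓ Subgroup.centralizer ((S : Subgroup G) : Set G)) ∧ W ⊓ K = ⊥ ∧ W ⊔ K = ((S : Subgroup G) ⊓ Subgroup.centralizer ((S : Subgroup G) : Set G)) := by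
  set Z := (S : Subgroup G) ⊓ Subgroup.centralizer ((S : Subgroup G) : Set G) with hZdef
  set O := Cfsg.pPrimeCore p G with hO
  set M := Cfsg.pPrimePCore p G with hM
  haveI : (Cfsg.pCore p (G ⧸ O)).Normal := by
    haveI := Cfsg.Agent.Solv.pCore_characteristic p (G ⧸ O); infer_instance
  haveI hMn : M.Normal := Subgroup.Normal.comap inferInstance _
  set Q := (S : Subgroup G) ⊓ M with hQ
  set N := Subgroup.normalizer (Q : Set G) with hN
  let T : Sylow p M := (S.isPGroup'.comap_of_injective M.subtype M.subtype_injective).toSylow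
    (Cfsg.Agent.Solv.index_sylow_inf_subnormal M (Subgroup.Normal.isSubnormal hMn) S)
  have hTQ : (T : Subgroup M).map M.subtype = Q := Subgroup.subgroupOf_map_subtype _ _
  have hMOQ : M ≤ O ⊔ Q := by
    intro x hx
    have h1 : (⟨x, hx⟩ : M) ∈ (T : Subgroup M) ⊔ Cfsg.pResidual p M := by
      rw [Cfsg.Agent.Solv.sup_pResidual_eq_top]; trivial
    have h2 : ((T : Subgroup M) ⊔ Cfsg.pResidual p M).map M.subtype ≤ O ⊔ Q := by
      rw [Subgroup.map_sup, hTQ]
      refine sup_le le_sup_right (le_sup_of_le_left ?_)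
      rw [Subgroup.map_le_iff_le_comap, Cfsg.pResidual, Subgroup.closure_le]
      intro g hg
      have h3 : QuotientGroup.mk' O (g : G) ∈ Cfsg.pCore p (G ⧸ O) := g.2
      obtain ⟨k, hk⟩ := IsPGroup.iff_card.1 (Cfsg.Agent.Solv.isPGroup_pCore p (G ⧸ O))
      show (g : G) ∈ O
      rw [← QuotientGroup.eq_one_iff]
      exact orderOf_eq_one_iff.1 (Nat.eq_one_of_dvd_coprimes
        ((show (orderOf g).Coprime p from hg).pow_right k)
        ((orderOf_map_dvd (QuotientGroup.mk' O) (g : G)).trans (Subgroup.orderOf_coe g).dvd)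
        (hk ▸ Subgroup.orderOf_dvd_natCard _ h3))
    exact h2 ⟨_, h1, rfl⟩
  have hON : ∀ g : G, ∃ o ∈ O, ∃ n ∈ N, o * n = g := by
    intro g
    have htop : O ⊔ N = ⊤ := by
      rw [eq_top_iff, ← Sylow.normalizer_sup_eq_top T, hTQ]
      exact sup_le le_sup_right (hMOQ.trans (sup_le_sup_left Subgroup.le_normalizer _))
    exact Subgroup.mem_sup_of_normal_left.1 (htop ▸ Subgroup.mem_top g)
  have hSN : (S : Subgroup G) ≤ N := by
    intro s hs
    rw [hN, Subgroup.mem_normalizer_iff]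
    intro x
    constructor
    · intro hx
      obtain ⟨h1, h2⟩ := Subgroup.mem_inf.1 hx
      exact Subgroup.mem_inf.2 ⟨mul_mem (mul_mem hs h1) (inv_mem hs), hMn.conj_mem x h2 s⟩
    · intro hx
      obtain ⟨h1, h2⟩ := Subgroup.mem_inf.1 hx
      refine Subgroup.mem_inf.2 ⟨?_, ?_⟩
      · simpa [mul_assoc] using mul_mem (mul_mem (inv_mem hs) h1) hs
      · simpa [mul_assoc] using hMn.conj_mem _ h2 s⁻¹
  have hSO : ∀ x ∈ (S : Subgroup G), x ∈ O → x = 1 := fun x hxS hxO => by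
    have h1 : x ∈ (S : Subgroup G) ⊓ O := Subgroup.mem_inf.2 ⟨hxS, hxO⟩
    rwa [Cfsg.Agent.Solv.inf_eq_bot_of_isPGroup S.isPGroup' (Cfsg.Agent.Solv.card_pPrimeCore_coprime p G),
      Subgroup.mem_bot] at h1
  set W := Z ⊓ Subgroup.centralizer (N : Set G) with hW
  set V := Q ⊓ Subgroup.centralizer (Q : Set G) with hV
  haveI : IsMulCommutative V := ⟨⟨fun a b => Subtype.ext
    (Subgroup.mem_centralizer_iff.1 (Subgroup.mem_inf.1 b.2).2 a (Subgroup.mem_inf.1 a.2).1)⟩⟩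
  have hNV : N ≤ Subgroup.normalizer (V : Set G) := by
    intro n hn
    have key : ∀ n ∈ N, V ≤ V.comap (MulAut.conj n).toMonoidHom := by
      intro n hn v hv
      obtain ⟨h1, h2⟩ := Subgroup.mem_inf.1 hv
      refine Subgroup.mem_inf.2 ⟨(Subgroup.mem_normalizer_iff.1 hn v).1 h1, Subgroup.mem_centralizer_iff.2 fun q hq => ?_⟩
      have h3 := Subgroup.mem_centralizer_iff.1 h2 (n⁻¹ * q * n) ((Subgroup.mem_normalizer_iff''.1 hn q).1 hq)
      show q * (n * v * n⁻¹) = n * v * n⁻¹ * q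
      calc q * (n * v * n⁻¹) = n * ((n⁻¹ * q * n) * v) * n⁻¹ := by group
        _ = n * (v * (n⁻¹ * q * n)) * n⁻¹ := by rw [h3]
        _ = _ := by group
    rw [Subgroup.mem_normalizer_iff]
    intro x
    refine ⟨fun hx => key n hn hx, fun hx => ?_⟩
    have := key n⁻¹ (inv_mem hn) hx
    simpa [mul_assoc] using this
  have hZV : Z ≤ V := fun z hz => by
    obtain ⟨h1, h2⟩ := Subgroup.mem_inf.1 hz
    exact Subgroup.mem_inf.2 ⟨Subgroup.mem_inf.2 ⟨h1, hZ hz⟩, Subgroup.centralizer_le (show (Q : Set G) ⊆ (S : Subgroup G) from fun y hy => (Subgroup.mem_inf.1 hy).1) h2⟩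
  have hVS : ∀ v : V, (∀ s ∈ (S : Subgroup G), s * (v : G) = v * s) → (v : G) ∈ Z := fun v hv =>
    Subgroup.mem_inf.2 ⟨(Subgroup.mem_inf.1 (Subgroup.mem_inf.1 v.2).1).1, Subgroup.mem_centralizer_iff.2 hv⟩
  obtain ⟨τ, h1, h2, -, -⟩ := Cfsg.Agent.Local.OmegaCenter.exists_norm N (S : Subgroup G) V hNV
  set m := ((S : Subgroup G).subgroupOf N).index
  have hm : ¬ p ∣ m := fun hd => S.not_dvd_index (hd.trans
    (Dvd.intro N.index (Subgroup.relIndex_mul_index hSN)))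
  refine ⟨W, τ.ker.map V.subtype ⊓ Z, ?_, inf_le_right, ?_, ?_⟩
  · intro x
    constructor
    · intro hx
      obtain ⟨hxZ, hxN⟩ := Subgroup.mem_inf.1 hx
      refine ⟨(Subgroup.mem_inf.1 hxZ).1, fun g hg => ?_⟩
      obtain ⟨o, ho, n, hn, rfl⟩ := hON g
      have e : o * n * x * (o * n)⁻¹ = (o * x * o⁻¹ * x⁻¹) * x := by
        have h3 := Subgroup.mem_centralizer_iff.1 hxN n hn
        calc o * n * x * (o * n)⁻¹ = o * (n * x) * n⁻¹ * o⁻¹ := by group
          _ = o * (x * n) * n⁻¹ * o⁻¹ := by rw [h3]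
          _ = _ := by group
      rw [e] at hg ⊢
      have h4 : o * x * o⁻¹ * x⁻¹ ∈ (S : Subgroup G) := by
        have := mul_mem hg (inv_mem (Subgroup.mem_inf.1 hxZ).1)
        rwa [mul_inv_cancel_right] at this
      rw [hSO _ h4 (by
        rw [show o * x * o⁻¹ * x⁻¹ = o * (x * o⁻¹ * x⁻¹) by group]
        exact mul_mem ho ((inferInstance : O.Normal).conj_mem _ (inv_mem ho) x)), one_mul]
    · rintro ⟨hxS, hx⟩
      have hxZ : x ∈ Z := Subgroup.mem_inf.2 ⟨hxS, Subgroup.mem_centralizer_iff.2 fun s hs =>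
        mul_inv_eq_iff_eq_mul.1 (hx s (mul_mem (mul_mem hs hxS) (inv_mem hs)))⟩
      refine Subgroup.mem_inf.2 ⟨hxZ, Subgroup.mem_centralizer_iff.2 fun n hn => mul_inv_eq_iff_eq_mul.1 (hx n ?_)⟩
      exact (Subgroup.mem_inf.1 ((Subgroup.mem_normalizer_iff.1 hn x).1 (Subgroup.mem_inf.2 ⟨hxS, hZ hxZ⟩))).1
  · rw [eq_bot_iff]
    intro x hx
    obtain ⟨hxW, hxK⟩ := Subgroup.mem_inf.1 hx
    obtain ⟨⟨v, hv, rfl⟩, -⟩ := Subgroup.mem_inf.1 hxK
    have h3 := h2 v fun d hd => Subgroup.mem_centralizer_iff.1 (Subgroup.mem_inf.1 hxW).2 d hd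
    rw [show τ v = 1 from hv] at h3
    have h4 : (v : G) ^ m = 1 := by rw [← Subgroup.coe_pow, ← h3]; rfl
    obtain ⟨k, hk⟩ := IsPGroup.iff_card.1 S.isPGroup'
    refine Subgroup.mem_bot.2 (orderOf_eq_one_iff.1 (Nat.eq_one_of_dvd_coprimes
      ((((Fact.out : p.Prime).coprime_iff_not_dvd.2 hm).symm).pow_right k) (orderOf_dvd_of_pow_eq_one h4)
      (hk ▸ Subgroup.orderOf_dvd_natCard _ (Subgroup.mem_inf.1 (Subgroup.mem_inf.1 hxW).1).1)))
  · refine le_antisymm (sup_le inf_le_left inf_le_right) fun z hz => ?_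
    set v : V := ⟨z, hZV hz⟩
    have hvS : ∀ s ∈ (S : Subgroup G), s * (v : G) = v * s :=
      Subgroup.mem_centralizer_iff.1 (Subgroup.mem_inf.1 hz).2
    have hfix := h1 v hvS
    have hτZ : (τ v : G) ∈ Z := hVS _ fun s hs => hfix s (hSN hs)
    have hτW : (τ v : G) ∈ W := Subgroup.mem_inf.2 ⟨hτZ, Subgroup.mem_centralizer_iff.2 hfix⟩
    have hK : ((v ^ m * (τ v)⁻¹ : V) : G) ∈ τ.ker.map V.subtype ⊓ Z := by
      refine Subgroup.mem_inf.2 ⟨⟨v ^ m * (τ v)⁻¹, ?_, rfl⟩, mul_mem (pow_mem hz m) (inv_mem hτZ)⟩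
      show τ (v ^ m * (τ v)⁻¹) = 1
      rw [map_mul, map_inv, map_pow, h2 (τ v) hfix, mul_inv_cancel]
    have hzm : z ^ m ∈ W ⊔ (τ.ker.map V.subtype ⊓ Z) := by
      have := mul_mem (Subgroup.mem_sup_right (S := W) hK) (Subgroup.mem_sup_left (T := τ.ker.map V.subtype ⊓ Z) hτW)
      simpa using this
    obtain ⟨k, hk⟩ := IsPGroup.iff_card.1 S.isPGroup'
    obtain ⟨i, hi⟩ := exists_pow_eq_self_of_coprime (n := m) (x := z)
      (Nat.Coprime.coprime_dvd_right (hk ▸ Subgroup.orderOf_dvd_natCard _ (Subgroup.mem_inf.1 hz).1)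
        ((((Fact.out : p.Prime).coprime_iff_not_dvd.2 hm).symm).pow_right k))
    exact hi ▸ pow_mem hzm i

end Cfsg.Agent.S1944
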