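import Cfsg.Statements.S1945
import Cfsg.Agent.S1944
import Cfsg.Agent.S1985
import Cfsg.Agent.Lib.Local.ExtendedLayer
import Cfsg.Agent.Lib.Local.Balance

set_option autoImplicit false
open Cfsg

namespace Cfsg.Agent.S1945

/-- Averaging splits off the centralizer of an overgroup from the centre of a Sylow subgroup. -/
theorem split_center {G : Type*} [Group G] [Finite G] {p : ℕ} [Fact p.Prime] (S : Sylow p G) (N V : Subgroup G)
    [IsMulCommutative V] (hSN : (S : Subgroup G) ≤ N) (hNV : N ≤ Subgroup.normalizer (V : Set G))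
    (hVS : V ≤ (S : Subgroup G))
    (hZV : (S : Subgroup G) ⊓ Subgroup.centralizer ((S : Subgroup G) : Set G) ≤ V) :
    ∃ K : Subgroup G, K ≤ (S : Subgroup G) ⊓ Subgroup.centralizer ((S : Subgroup G) : Set G) ∧
      (S : Subgroup G) ⊓ Subgroup.centralizer ((S : Subgroup G) : Set G) ⊓ Subgroup.centralizer (N : Set G) ⊓ K = ⊥ ∧
      (S : Subgroup G) ⊓ Subgroup.centralizer ((S : Subgroup G) : Set G) ⊓ Subgroup.centralizer (N : Set G) ⊔ K =
        (S : Subgroup G) ⊓ Subgroup.centralizer ((S : Subgroup G) : Set G) := by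
  set Z := (S : Subgroup G) ⊓ Subgroup.centralizer ((S : Subgroup G) : Set G) with hZdef
  set W := Z ⊓ Subgroup.centralizer (N : Set G) with hW
  have hVZ : ∀ v : V, (∀ s ∈ (S : Subgroup G), s * (v : G) = v * s) → (v : G) ∈ Z := fun v hv =>
    Subgroup.mem_inf.2 ⟨hVS v.2, Subgroup.mem_centralizer_iff.2 hv⟩
  obtain ⟨τ, h1, h2, -, -⟩ := Cfsg.Agent.Local.OmegaCenter.exists_norm N (S : Subgroup G) V hNV
  set m := ((S : Subgroup G).subgroupOf N).index
  have hm : ¬ p ∣ m := fun hd => S.not_dvd_index (hd.trans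
    (Dvd.intro N.index (Subgroup.relIndex_mul_index hSN)))
  obtain ⟨k, hk⟩ := IsPGroup.iff_card.1 S.isPGroup'
  have hcop : m.Coprime (p ^ k) := (((Fact.out : p.Prime).coprime_iff_not_dvd.2 hm).symm).pow_right k
  refine ⟨τ.ker.map V.subtype ⊓ Z, inf_le_right, ?_, ?_⟩
  · rw [eq_bot_iff]
    intro x hx
    obtain ⟨hxW, hxK⟩ := Subgroup.mem_inf.1 hx
    obtain ⟨⟨v, hv, rfl⟩, -⟩ := Subgroup.mem_inf.1 hxK
    have h3 := h2 v fun d hd => Subgroup.mem_centralizer_iff.1 (Subgroup.mem_inf.1 hxW).2 d hd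
    rw [show τ v = 1 from hv] at h3
    have h4 : (v : G) ^ m = 1 := by rw [← Subgroup.coe_pow, ← h3]; rfl
    exact Subgroup.mem_bot.2 (orderOf_eq_one_iff.1 (Nat.eq_one_of_dvd_coprimes hcop (orderOf_dvd_of_pow_eq_one h4)
      (hk ▸ Subgroup.orderOf_dvd_natCard _ (hVS v.2))))
  · refine le_antisymm (sup_le inf_le_left inf_le_right) fun z hz => ?_
    set v : V := ⟨z, hZV hz⟩
    have hvS : ∀ s ∈ (S : Subgroup G), s * (v : G) = v * s :=
      Subgroup.mem_centralizer_iff.1 (Subgroup.mem_inf.1 hz).2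
    have hfix := h1 v hvS
    have hτZ : (τ v : G) ∈ Z := hVZ _ fun s hs => hfix s (hSN hs)
    have hτW : (τ v : G) ∈ W := Subgroup.mem_inf.2 ⟨hτZ, Subgroup.mem_centralizer_iff.2 hfix⟩
    have hK : ((v ^ m * (τ v)⁻¹ : V) : G) ∈ τ.ker.map V.subtype ⊓ Z := by
      refine Subgroup.mem_inf.2 ⟨⟨v ^ m * (τ v)⁻¹, ?_, rfl⟩, mul_mem (pow_mem hz m) (inv_mem hτZ)⟩
      show τ (v ^ m * (τ v)⁻¹) = 1
      rw [map_mul, map_inv, map_pow, h2 (τ v) hfix, mul_inv_cancel]
    have hzm : z ^ m ∈ W ⊔ (τ.ker.map V.subtype ⊓ Z) := by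
      have := mul_mem (Subgroup.mem_sup_right (S := W) hK) (Subgroup.mem_sup_left (T := τ.ker.map V.subtype ⊓ Z) hτW)
      simpa using this
    obtain ⟨i, hi⟩ := exists_pow_eq_self_of_coprime (n := m) (x := z)
      (Nat.Coprime.coprime_dvd_right (hk ▸ Subgroup.orderOf_dvd_natCard _ (Subgroup.mem_inf.1 hz).1) hcop)
    exact hi ▸ pow_mem hzm i


/-- The centre of a Sylow subgroup lies in the `p',p`-core of a solvable group. -/
theorem center_le_pPrimePCore {G : Type*} [Group G] [Finite G] [Group.IsSolvable G] {p : ℕ} [Fact p.Prime] (S : Sylow p G) :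
    (S : Subgroup G) ⊓ Subgroup.centralizer ((S : Subgroup G) : Set G) ≤ Cfsg.pPrimePCore p G := by
  intro z hz
  show QuotientGroup.mk' (Cfsg.pPrimeCore p G) z ∈ Cfsg.pCore p (G ⧸ Cfsg.pPrimeCore p G)
  refine Solv.centralizer_pCore_le_of_isSolvable (Solv.pPrimeCore_quotient_pPrimeCore p) ?_
  rw [Subgroup.mem_centralizer_iff]
  intro q hq
  obtain ⟨s, hs, rfl⟩ := Solv.pCore_le_sylow (S.mapSurjective (QuotientGroup.mk'_surjective (Cfsg.pPrimeCore p G))) hq
  rw [← map_mul, ← map_mul, (Subgroup.mem_inf.1 hz).2 s hs]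

/-- Weak closure at one Sylow subgroup gives weak closure at every Sylow subgroup. -/
theorem weakly_closed_transport {G : Type*} [Group G] [Finite G] {p : ℕ} [Fact p.Prime]
    (F : Subgroup G → Subgroup G) (hF : Cfsg.IsConjugacyFunctor p F) (S : Sylow p G) (T' : Subgroup G) (hT'p : IsPGroup p ↥T')
    (hidx : ¬ p ∣ T'.relIndex ⊤)
    (hweak : ∀ x ∈ T' ⊓ Subgroup.centralizer ((⊤ ⊓ Subgroup.normalizer ((F T' : Subgroup G) : Set G) : Subgroup G) : Set G),
        ∀ h ∈ (⊤ : Subgroup G), h * x * h⁻¹ ∈ T' → h * x * h⁻¹ = x)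
    (x : G) (hxS : x ∈ (S : Subgroup G))
    (hx : x ∈ Subgroup.centralizer ((Subgroup.normalizer ((F (S : Subgroup G) : Subgroup G) : Set G)) : Set G))
    (g : G) (hg : g * x * g⁻¹ ∈ (S : Subgroup G)) : g * x * g⁻¹ = x := by
  rw [Subgroup.relIndex_top_right] at hidx
  obtain ⟨c, hc⟩ := MulAction.exists_smul_eq G S (hT'p.toSylow hidx)
  have hcS : T' = (S : Subgroup G).map (MulAut.conj c).toMonoidHom := (congrArg (fun P : Sylow p G => (P : Subgroup G)) hc).symm
  have hFT : F T' = (F (S : Subgroup G)).map (MulAut.conj c).toMonoidHom := hcS ▸ (hF _ S.isPGroup').2.2 c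
  have h1 := hweak (c * x * c⁻¹) (Subgroup.mem_inf.2 ⟨hcS ▸ ⟨x, hxS, rfl⟩, ?_⟩) (c * g * c⁻¹) (Subgroup.mem_top _)
    (by rw [hcS]; exact ⟨g * x * g⁻¹, hg, by simp [mul_assoc]⟩)
  · have h2 : c * (g * x * g⁻¹) * c⁻¹ = c * x * c⁻¹ := by simpa [mul_assoc] using h1
    exact mul_left_cancel (mul_right_cancel h2)
  · rw [Subgroup.mem_centralizer_iff]
    intro n hn
    have h3 : c⁻¹ * n * c ∈ Subgroup.normalizer ((F (S : Subgroup G) : Subgroup G) : Set G) := by
      rw [Subgroup.mem_normalizer_iff]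
      intro y
      have h4 := Subgroup.mem_normalizer_iff.1 (Subgroup.mem_inf.1 hn).2 (c * y * c⁻¹)
      rw [hFT] at h4
      have hy : ∀ z : G, c * z * c⁻¹ ∈ (F (S : Subgroup G)).map (MulAut.conj c).toMonoidHom ↔ z ∈ F (S : Subgroup G) :=
        fun z => Subgroup.mem_map_iff_mem (f := (MulAut.conj c).toMonoidHom) (MulAut.conj c).injective
      rw [hy, show n * (c * y * c⁻¹) * n⁻¹ = c * (c⁻¹ * n * c * y * (c⁻¹ * n * c)⁻¹) * c⁻¹ by group, hy] at h4
      exact h4
    have h5 := Subgroup.mem_centralizer_iff.1 hx _ h3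
    calc n * (c * x * c⁻¹) = c * (c⁻¹ * n * c * x) * c⁻¹ := by group
      _ = c * (x * (c⁻¹ * n * c)) * c⁻¹ := by rw [h5]
      _ = c * x * c⁻¹ * n := by group

/-- Let S be a Sylow p-subgroup of the finite group G, and assume that p is odd or that G is solvable. The elements of S each of which is its only G-conjugate in S form a subgroup W of Z(S); W is then a direct factor of Z(S): there is a subgroup K of Z(S) with W ∩ K = 1 and WK = Z(S). (For p = 2 and G not solvable this can fail.) -/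
theorem result {G : Type*} [Group G] [Finite G] {p : ℕ} [Fact p.Prime] (S : Sylow p G) (h : p ≠ 2 ∨ Group.IsSolvable G) :
    ∃ W K : Subgroup G, (∀ x : G, x ∈ W ↔ (x ∈ (S : Subgroup G) ∧ ∀ g : G, g * x * g⁻¹ ∈ (S : Subgroup G) → g * x * g⁻¹ = x)) ∧
      K ≤ ((S : Subgroup G) ⊓ Subgroup.centralizer ((S : Subgroup G) : Set G)) ∧ W ⊓ K = ⊥ ∧ W ⊔ K = ((S : Subgroup G) ⊓ Subgroup.centralizer ((S : Subgroup G) : Set G)) := by
  rcases eq_or_ne p 2 with hp2 | hp
  · have hsolv : Group.IsSolvable G := h.resolve_left (not_not.2 hp2)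
    exact S1944.result S (center_le_pPrimePCore S)
  · set T := Cfsg.inducedFunctor (G := G) Cfsg.kInfLower (S : Subgroup G) with hT
    obtain ⟨hTS, -, hTconj⟩ := Solv.KInf.isConjugacyFunctor_kInfLower (G := G) (p := p) (S : Subgroup G) S.isPGroup'
    set N := Subgroup.normalizer (T : Set G) with hN
    have hSN : (S : Subgroup G) ≤ N := Subgroup.le_normalizer.trans
      (Local.FusionRed.normalizer_le_normalizer_functor Solv.KInf.isConjugacyFunctor_kInfLower S.isPGroup')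
    set V := T ⊓ Subgroup.centralizer (T : Set G) with hV
    haveI : IsMulCommutative V := ⟨⟨fun a b => Subtype.ext
      (Subgroup.mem_centralizer_iff.1 (Subgroup.mem_inf.1 b.2).2 a (Subgroup.mem_inf.1 a.2).1)⟩⟩
    have hNV : N ≤ Subgroup.normalizer (V : Set G) := by
      exact (le_inf le_rfl (Local.ExtLayer.normalizer_le_normalizer_centralizer' T)).trans Subgroup.inf_normalizer_le_normalizer_inf
    have hZV : (S : Subgroup G) ⊓ Subgroup.centralizer ((S : Subgroup G) : Set G) ≤ V :=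
      le_inf (Solv.KInf.center_le_inducedFunctor (S : Subgroup G))
        (inf_le_right.trans (Subgroup.centralizer_le (SetLike.coe_subset_coe.2 hTS)))
    obtain ⟨K, hK1, hK2, hK3⟩ := split_center S N V hSN hNV (inf_le_left.trans hTS) hZV
    refine ⟨_, K, fun x => ⟨fun hx => ⟨(Subgroup.mem_inf.1 (Subgroup.mem_inf.1 hx).1).1, ?_⟩, ?_⟩, hK1, hK2, hK3⟩
    · obtain ⟨-, T', -, hT'p, hidx, hweak⟩ := S1985.result (G := G) hp
      exact weakly_closed_transport _ Solv.KInf.isConjugacyFunctor_kInfLower S T' hT'p hidx hweak x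
        (Subgroup.mem_inf.1 (Subgroup.mem_inf.1 hx).1).1 (Subgroup.mem_inf.1 hx).2
    · rintro ⟨hxS, hx⟩
      have hxZ : x ∈ (S : Subgroup G) ⊓ Subgroup.centralizer ((S : Subgroup G) : Set G) :=
        Subgroup.mem_inf.2 ⟨hxS, Subgroup.mem_centralizer_iff.2 fun s hs =>
          mul_inv_eq_iff_eq_mul.1 (hx s (mul_mem (mul_mem hs hxS) (inv_mem hs)))⟩
      refine Subgroup.mem_inf.2 ⟨hxZ, Subgroup.mem_centralizer_iff.2 fun n hn => mul_inv_eq_iff_eq_mul.1 (hx n ?_)⟩
      exact hTS ((Subgroup.mem_normalizer_iff.1 hn x).1 (Subgroup.mem_inf.1 (hZV hxZ)).1)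

end Cfsg.Agent.S1945
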