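import Cfsg.Statements.S5298
import Cfsg.Agent.Lib.Fusion.SmallElements
-- import your own Cfsg.Agent.* helpers here

set_option autoImplicit false
universe u
open Cfsg

namespace Cfsg.Agent.S5298

/-- Let F be a saturated fusion system over a finite p-group S. If every map of F between cyclic subgroups of the hyperfocal subgroup of F of order p or 4 is conjugation by an element of S, then F is the inner fusion system of S. -/
theorem result {Ω : Type u} [Group Ω] {S : Subgroup Ω} [Finite S] (p : ℕ) [Fact p.Prime] (hS : IsPGroup p S)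
    (F : Cfsg.FusionSystem S) (hF : F.IsSaturated p)
    (h : ∀ A B : Subgroup Ω, A ≤ (F.hyperfocalSubgroup p) → B ≤ (F.hyperfocalSubgroup p) → IsCyclic ↥A → (Nat.card ↥A = p ∨ Nat.card ↥A = 4) → IsCyclic ↥B → (Nat.card ↥B = p ∨ Nat.card ↥B = 4) →
      F.homSet A B ⊆ (Cfsg.innerFusionSystem S).Hom A) :
    ∀ P : Subgroup Ω, F.Hom P = (Cfsg.innerFusionSystem S).Hom P := by
  have hn : ∀ A B : Subgroup Ω, A ≤ (F.hyperfocalSubgroup p) → B ≤ (F.hyperfocalSubgroup p) → IsCyclic ↥A →
      (Nat.card ↥A = p ∨ Nat.card ↥A = 4) → IsCyclic ↥B → (Nat.card ↥B = p ∨ Nat.card ↥B = 4) →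
      F.homSet A B ⊆ F.normalizerHom S A := by
    intro A B hA hB hAc hA4 hBc hB4 φ hφ
    obtain ⟨hAS, a, ha, hax⟩ := h A B hA hB hAc hA4 hBc hB4 hφ
    have hS' : (S : Subgroup Ω) ≤ Subgroup.normalizer (S : Set Ω) := Subgroup.le_normalizer
    refine ⟨hφ.1, le_inf hAS (hAS.trans hS'), fun x => ⟨(F.le_of_mem hφ.1).2 x, hS' ((F.le_of_mem hφ.1).2 x)⟩,
      Cfsg.conjHom (A ⊔ S) a, F.conj_mem (sup_le hAS le_rfl) ha, fun x => ?_, ?_⟩
    · rw [hax]; rfl
    · ext y
      constructor
      · rintro ⟨z, hz, rfl⟩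
        exact S.mul_mem (S.mul_mem ha hz) (S.inv_mem ha)
      · intro hy
        have hz : a⁻¹ * y * a ∈ S := S.mul_mem (S.mul_mem (S.inv_mem ha) hy) ha
        refine ⟨⟨a⁻¹ * y * a, Subgroup.mem_sup_right hz⟩, hz, ?_⟩
        show a * (a⁻¹ * y * a) * a⁻¹ = y
        group
  have hL := Fusion.hyperfocal_stronglyClosed hS hF
  have hnil := hS.isNilpotent
  have := Fusion.finite_autGroup (F := F) (P := S) le_rfl
  have hA : IsPGroup p (F.autGroup S) := Fusion.isPGroup_of_forall_coprime fun ⟨α, hα⟩ hc => by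
    rw [← Subgroup.orderOf_coe] at hc
    have hT : ∀ x ∈ F.hyperfocalSubgroup p, Fusion.autFun α x ∈ F.hyperfocalSubgroup p := fun x hx =>
      Fusion.stronglyClosed_apply hL (Fusion.isMor_of_mem_autGroup le_rfl hα) (hL.1 hx) hx
    obtain ⟨D, hDT, hsm, hDinv, hDfaith⟩ := Fusion.exists_small_faithful_in hS (le_refl S) hL.1
    have hDS : D ≤ S := hDT.trans hL.1
    refine Subtype.ext (Fusion.eq_one_of_fix hS le_rfl hL.1 α hc (hDfaith α hT hc ?_)
      fun x hx => Fusion.disp_mem_hyperfocal le_rfl hα hc hx)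
    refine Fusion.fix_of_stabilizes hS le_rfl hDS α hc (hDinv α hT) (m := Group.nilpotencyClass S)
      (fun i => D ⊓ Fusion.centralSeriesOf S i) ?_ ?_
      (fun i _ => inf_le_inf_left D (Fusion.centralSeriesOf_mono S (Nat.le_succ i))) ?_
    · simp [Fusion.centralSeriesOf, Subgroup.upperCentralSeries_zero]
    · simp [Fusion.centralSeriesOf, Subgroup.upperCentralSeries_nilpotencyClass, ← MonoidHom.range_eq_map, hDS]
    intro i _ x hx
    by_cases hx1 : x = 1
    · rw [hx1, (Fusion.isMor_of_mem_autGroup le_rfl hα).map_one, inv_one, one_mul]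
      exact one_mem _
    have hf := Fusion.isMor_of_mem_autGroup le_rfl hα
    have hy := hDinv α hT x hx.1
    have hy1 : Fusion.autFun α x ≠ 1 := fun e => hx1 (hf.eq_one (hDS hx.1) e)
    obtain ⟨φ, hφ, he⟩ := hf.restrict (Subgroup.zpowers_le.2 (hDS hx.1))
    have hhom : φ ∈ F.homSet (Subgroup.zpowers x) (Subgroup.zpowers (Fusion.autFun α x)) := by
      refine ⟨hφ, ?_⟩
      rintro ⟨_, k, rfl⟩
      refine ⟨k, ?_⟩
      show Fusion.autFun α x ^ k = φ ((⟨x, Subgroup.mem_zpowers x⟩ : Subgroup.zpowers x) ^ k)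
      rw [map_zpow, he]
    obtain ⟨-, a, ha, hax⟩ := h _ _ (Subgroup.zpowers_le.2 (hDT hx.1))
      (Subgroup.zpowers_le.2 (hDT hy)) inferInstance (Fusion.card_zpowers_of_small (hsm x hx.1) hx1) inferInstance
      (Fusion.card_zpowers_of_small (hsm _ hy) hy1) hhom
    refine ⟨D.mul_mem (D.inv_mem hx.1) hy, ?_⟩
    have e := (he ⟨x, Subgroup.mem_zpowers x⟩).symm.trans (hax _)
    rw [e]
    have := Fusion.commutator_centralSeriesOf S i (Subgroup.commutator_mem_commutator (inv_mem hx.2) ha)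
    simpa [commutatorElement_def, mul_assoc] using this
  have hle : F ≤ Cfsg.innerFusionSystem S := Fusion.le_of_essential hS hF fun P hP => by
    rcases hP with rfl | hP
    · intro α hα
      obtain ⟨R, hR⟩ := (Fusion.fullyAutomized_top hS hF).2
      have hR' : (R : Subgroup (F.autGroup P)) = ⊤ := (R.is_maximal' (Q := ⊤) (hA.to_subgroup ⊤) le_top).symm
      have hm : (⟨α, hα⟩ : F.autGroup P) ∈ (R : Subgroup (F.autGroup P)) := hR' ▸ Subgroup.mem_top _
      rw [hR] at hm
      exact Fusion.autInducedBy_le_autGroup le_rfl hm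
    · exact (Fusion.not_isEssential_of_small hS hF hn hP).elim
  refine fun P => Set.Subset.antisymm (hle P) ?_
  rintro φ ⟨hP, a, ha, hax⟩
  rw [show φ = Cfsg.conjHom P a from MonoidHom.ext hax]
  exact F.conj_mem hP ha

end Cfsg.Agent.S5298
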