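import Cfsg.Statements.S1946
import Cfsg.Agent.S5298
import Cfsg.Agent.S5076
import Cfsg.Agent.Lib.Solv.NormalPComplement
-- import your own Cfsg.Agent.* helpers here

set_option autoImplicit false
open Cfsg

namespace Cfsg.Agent.S1946

/-- Let P be a Sylow p-subgroup of the finite group G. Then G has a normal p-complement if and only if P controls the fusion of its elements of order dividing p (dividing 4 when p = 2): whenever such an element a of P has a G-conjugate g a g⁻¹ in P, that conjugate is already x a x⁻¹ for some x in P. -/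
theorem result {G : Type*} [Group G] [Finite G] {p : ℕ} [Fact p.Prime] (P : Sylow p G) :
    Cfsg.HasNormalPComplement p G ↔
      ∀ a ∈ (P : Subgroup G), (a ^ p = 1 ∨ (p = 2 ∧ a ^ 4 = 1)) → ∀ g : G, g * a * g⁻¹ ∈ (P : Subgroup G) →
        ∃ x ∈ (P : Subgroup G), g * a * g⁻¹ = x * a * x⁻¹ := by
  classical
  constructor
  · intro h a ha _ g hg
    have hc := Cfsg.Agent.Solv.isComplement'_pPrimeCore h P
    have h1 := hc.sup_eq_top.ge (Subgroup.mem_top g)
    rw [Subgroup.mem_sup_of_normal_left] at h1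
    obtain ⟨k, hk, x, hx, rfl⟩ := h1
    refine ⟨x, hx, ?_⟩
    set b := x * a * x⁻¹ with hb
    have hbP : b ∈ (P : Subgroup G) := mul_mem (mul_mem hx ha) (inv_mem hx)
    have hm : k * b * k⁻¹ * b⁻¹ ∈ Cfsg.pPrimeCore p G ⊓ (P : Subgroup G) := by
      refine Subgroup.mem_inf.2 ⟨?_, ?_⟩
      · rw [show k * b * k⁻¹ * b⁻¹ = k * (b * k⁻¹ * b⁻¹) by group]
        exact mul_mem hk ((inferInstance : (Cfsg.pPrimeCore p G).Normal).conj_mem _ (inv_mem hk) b)
      · refine mul_mem ?_ (inv_mem hbP)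
        rwa [hb, show k * (x * a * x⁻¹) * k⁻¹ = k * x * a * (k * x)⁻¹ by group]
    rw [(Subgroup.IsComplement'.disjoint hc).eq_bot, Subgroup.mem_bot, mul_inv_eq_one] at hm
    rw [show k * x * a * (k * x)⁻¹ = k * b * k⁻¹ by rw [hb]; group, hm]
  · intro h
    have hF := Cfsg.Agent.S5298.result p (P.isPGroup') (Cfsg.groupFusionSystem (P : Subgroup G))
      (Cfsg.Agent.S5076.result p P) (fun A B _ _ hA hA4 _ _ φ hφ => ?_)
    · refine Cfsg.Agent.Solv.hasNormalPComplement_of_fusion P fun x hx g hg => ?_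
      let φ : Subgroup.zpowers x →* G := (MulAut.conj g).toMonoidHom.comp (Subgroup.zpowers x).subtype
      have hmem : φ ∈ (Cfsg.groupFusionSystem (P : Subgroup G)).Hom (Subgroup.zpowers x) := by
        refine ⟨Subgroup.zpowers_le.2 hx, ?_, g, fun _ => rfl⟩
        rintro ⟨_, i, rfl⟩
        show g * x ^ i * g⁻¹ ∈ (P : Subgroup G)
        rw [← conj_zpow]
        exact zpow_mem hg i
      rw [hF] at hmem
      obtain ⟨-, z, hz, hze⟩ := hmem
      exact ⟨z, hz, (hze ⟨x, Subgroup.mem_zpowers x⟩).symm⟩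
    obtain ⟨⟨hAP, hφP, g, hg⟩, -⟩ := hφ
    obtain ⟨a, ha⟩ := hA.exists_generator
    have hgen : ∀ y : A, ∃ i : ℤ, (a : G) ^ i = y := fun y => by
      obtain ⟨i, hi⟩ := ha y
      exact ⟨i, by rw [← Subgroup.coe_zpow, ← hi]⟩
    have hsm : (a : G) ^ p = 1 ∨ (p = 2 ∧ (a : G) ^ 4 = 1) := by
      have hcard : (a : G) ^ Nat.card A = 1 := by
        rw [← Subgroup.coe_pow, pow_card_eq_one']; rfl
      rcases hA4 with h4 | h4
      · left; rwa [h4] at hcard
      · right
        refine ⟨?_, h4 ▸ hcard⟩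
        obtain ⟨k, hk⟩ := IsPGroup.iff_card.1 (P.isPGroup'.to_le hAP)
        have h5 : p ∣ 4 := by
          rw [← h4, hk]
          refine dvd_pow_self p fun h0 => ?_
          rw [h4, h0, pow_zero] at hk
          omega
        exact (Nat.prime_dvd_prime_iff_eq (Fact.out : p.Prime) Nat.prime_two).1
          ((Fact.out : p.Prime).dvd_of_dvd_pow (show p ∣ 2 ^ 2 by norm_num; exact h5))
    obtain ⟨x, hx, hxe⟩ := h a (hAP a.2) hsm g (hg a ▸ hφP a)
    refine ⟨hAP, x, hx, fun y => ?_⟩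
    obtain ⟨i, hi⟩ := hgen y
    rw [hg y, ← hi, ← conj_zpow, ← conj_zpow, hxe]

end Cfsg.Agent.S1946
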