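import Cfsg.Statements.S1947
import Cfsg.Agent.S1946
-- import your own Cfsg.Agent.* helpers here

set_option autoImplicit false
open Cfsg

namespace Cfsg.Agent.S1947

/-- Elements of coprime orders commute when one lies in a term of the upper central series. -/
theorem commute_of_ucs : ∀ (n : ℕ) {G : Type*} [Group G] [Finite G] (a y : G),
    a ∈ Subgroup.upperCentralSeries G n → (orderOf a).Coprime (orderOf y) → Commute a y := by
  intro n
  induction n with
  | zero =>
    intro G _ _ a y ha _
    rw [Subgroup.upperCentralSeries_zero, Subgroup.mem_bot] at ha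
    rw [ha]; exact Commute.one_left y
  | succ n ih =>
    intro G _ _ a y ha hco
    set f := QuotientGroup.mk' (Subgroup.center G)
    have ha' : f a ∈ Subgroup.upperCentralSeries (G ⧸ Subgroup.center G) n := by
      rw [← Subgroup.mem_comap, Subgroup.comap_upperCentralSeries_quotient_center]; exact ha
    have h1 : Commute (f a) (f y) := ih (f a) (f y) ha'
      ((hco.coprime_dvd_left (orderOf_map_dvd f a)).coprime_dvd_right (orderOf_map_dvd f y))
    set c := a * y * a⁻¹ * y⁻¹ with hc
    have hcz : c ∈ Subgroup.center G := by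
      rw [← QuotientGroup.eq_one_iff]
      show f c = 1
      rw [hc, map_mul, map_mul, map_mul, map_inv, map_inv, h1.eq]; group
    have hcc : ∀ z, z * c = c * z := Subgroup.mem_center_iff.1 hcz
    have hay : a * y * a⁻¹ = c * y := by rw [hc]; group
    have hk : ∀ k : ℕ, a ^ k * y * (a ^ k)⁻¹ = c ^ k * y := by
      intro k
      induction k with
      | zero => simp
      | succ k ihk =>
        calc a ^ (k + 1) * y * (a ^ (k + 1))⁻¹ = a * (a ^ k * y * (a ^ k)⁻¹) * a⁻¹ := by rw [pow_succ']; group
          _ = (a * c ^ k) * y * a⁻¹ := by rw [ihk]; group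
          _ = c ^ k * (a * y * a⁻¹) := by rw [((show Commute a c from hcc a).pow_right k).eq]; group
          _ = c ^ (k + 1) * y := by rw [hay, pow_succ]; group
    have h2 : c ^ orderOf a = 1 := by
      have h4 := hk (orderOf a)
      simp only [pow_orderOf_eq_one, one_mul, inv_one, mul_one] at h4
      exact right_eq_mul.1 h4
    have h3 : c ^ orderOf y = 1 := by
      have h4 : (a * y * a⁻¹) ^ orderOf y = c ^ orderOf y * y ^ orderOf y := by
        rw [hay, (show Commute c y from (hcc y).symm).mul_pow]
      rw [conj_pow, pow_orderOf_eq_one] at h4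
      simpa using h4.symm
    have hc1 : c = 1 := orderOf_eq_one_iff.1 (Nat.eq_one_of_dvd_coprimes hco
      (orderOf_dvd_of_pow_eq_one h2) (orderOf_dvd_of_pow_eq_one h3))
    rw [hc1, one_mul] at hay
    exact mul_inv_eq_iff_eq_mul.1 hay


/-- Let G be a finite group and p a prime. If every element of G of order dividing p (dividing 4 when p = 2) lies in some fixed term Z_n(G) of the upper central series, then G has a normal p-complement. -/
theorem result {G : Type*} [Group G] [Finite G] {p : ℕ} [Fact p.Prime] (n : ℕ)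
    (h : ∀ a : G, (a ^ p = 1 ∨ (p = 2 ∧ a ^ 4 = 1)) → a ∈ Subgroup.upperCentralSeries G n) : Cfsg.HasNormalPComplement p G := by
  classical
  obtain ⟨P⟩ : Nonempty (Sylow p G) := inferInstance
  refine (Cfsg.Agent.S1946.result P).2 fun a ha hsm g hg => ?_
  have hcomm : ∀ y : G, (orderOf y).Coprime p → Commute a y := by
    intro y hy
    obtain ⟨k, hk⟩ := P.isPGroup' ⟨a, ha⟩
    exact commute_of_ucs n a y (h a hsm) ((Nat.Coprime.pow_left k hy.symm).coprime_dvd_left
      (orderOf_dvd_of_pow_eq_one (congrArg Subtype.val hk)))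
  have hres : Cfsg.pResidual p G ≤ Subgroup.centralizer ({a} : Set G) := by
    rw [Cfsg.pResidual, Subgroup.closure_le]
    exact fun y hy => Subgroup.mem_centralizer_singleton_iff.2 (hcomm y hy).symm.eq
  haveI : (Cfsg.pResidual p G).Normal := by
    haveI := Cfsg.Agent.Solv.pResidual_characteristic p G
    infer_instance
  have h1 := (Cfsg.Agent.Solv.sup_pResidual_eq_top P).ge (Subgroup.mem_top g)
  obtain ⟨x, hx, k, hk, rfl⟩ : ∃ x ∈ (P : Subgroup G), ∃ k ∈ Cfsg.pResidual p G, x * k = g := by
    first
      | exact Subgroup.mem_sup_of_normal_right.1 h1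
      | exact Subgroup.mem_sup_of_normal_right.1 (sup_comm _ _ ▸ h1)
  refine ⟨x, hx, ?_⟩
  have hka := Subgroup.mem_centralizer_singleton_iff.1 (hres hk)
  calc x * k * a * (x * k)⁻¹ = x * (k * a) * k⁻¹ * x⁻¹ := by group
    _ = x * a * x⁻¹ := by rw [hka]; group

end Cfsg.Agent.S1947
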