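import Cfsg.Statements.S1948
import Cfsg.Agent.Lib.Solv.NormalPComplement
import Cfsg.Agent.Lib.Solv.PSolvable
-- import your own Cfsg.Agent.* helpers here

set_option autoImplicit false
open Cfsg

namespace Cfsg.Agent.S1948

/-- Let S be a Sylow p-subgroup of the finite group G. Then G = N_G(S)·O_{p'}(G) if and only if G is p-constrained and N_G(S) controls fusion in S, in the sense that whenever a subgroup Q of S has a conjugate g Q g⁻¹ inside S, the element g is a product n c with n normalizing S and c centralizing Q. -/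
theorem result {G : Type*} [Group G] [Finite G] {p : ℕ} [Fact p.Prime] (S : Sylow p G) :
    Subgroup.normalizer ((S : Subgroup G) : Set G) ⊔ Cfsg.pPrimeCore p G = ⊤ ↔
      (Cfsg.IsPConstrained p G ∧
        ∀ Q : Subgroup G, Q ≤ (S : Subgroup G) → ∀ g : G, Q.map (MulAut.conj g).toMonoidHom ≤ (S : Subgroup G) →
          ∃ n ∈ Subgroup.normalizer ((S : Subgroup G) : Set G), ∃ c ∈ Subgroup.centralizer (Q : Set G), g = n * c) := by
  classical
  set O := Cfsg.pPrimeCore p G with hO
  set H := Cfsg.pPrimePCore p G with hH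
  set f := QuotientGroup.mk' O with hf
  haveI : O.Normal := by
    haveI := Cfsg.Agent.Solv.pPrimeCore_characteristic p G
    infer_instance
  haveI hHn : H.Normal := Subgroup.Normal.comap inferInstance _
  have hOc : (Nat.card O).Coprime p := Cfsg.Agent.Solv.card_pPrimeCore_coprime p G
  have hSO : (S : Subgroup G) ⊓ O = ⊥ := Cfsg.Agent.Solv.inf_eq_bot_of_isPGroup S.isPGroup' hOc
  have hHle : H ≤ (S : Subgroup G) ⊔ O := by
    refine le_trans (Subgroup.comap_mono (Cfsg.Agent.Solv.pCore_le_sylow
      (S.mapSurjective (QuotientGroup.mk'_surjective O)))) ?_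
    rw [Sylow.coe_mapSurjective, Subgroup.comap_map_eq, QuotientGroup.ker_mk']
  constructor
  · intro hG
    have hfus : ∀ Q : Subgroup G, Q ≤ (S : Subgroup G) → ∀ g : G,
        Q.map (MulAut.conj g).toMonoidHom ≤ (S : Subgroup G) →
        ∃ n ∈ Subgroup.normalizer ((S : Subgroup G) : Set G), ∃ c ∈ Subgroup.centralizer (Q : Set G),
          g = n * c := by
      intro Q hQ g hg
      have h1 := hG.ge (Subgroup.mem_top g)
      rw [Subgroup.mem_sup_of_normal_right] at h1
      obtain ⟨n, hn, o, ho, rfl⟩ := h1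
      refine ⟨n, hn, o, ?_, rfl⟩
      rw [Subgroup.mem_centralizer_iff]
      intro q hq
      have h2 : (n * o) * q * (n * o)⁻¹ ∈ (S : Subgroup G) :=
        hg ⟨q, hq, by simp [mul_assoc]⟩
      have h3 : o * q * o⁻¹ ∈ (S : Subgroup G) := by
        have := (Subgroup.mem_normalizer_iff''.1 hn _).1 h2
        simpa [mul_assoc] using this
      have h4 : o * q * o⁻¹ * q⁻¹ ∈ (S : Subgroup G) ⊓ O := by
        refine ⟨(mul_mem h3 (inv_mem (hQ hq)) : o * q * o⁻¹ * q⁻¹ ∈ (S : Subgroup G)), (?_ : o * q * o⁻¹ * q⁻¹ ∈ O)⟩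
        rw [show o * q * o⁻¹ * q⁻¹ = o * (q * o⁻¹ * q⁻¹) by group]
        exact mul_mem ho ((inferInstance : O.Normal).conj_mem _ (inv_mem ho) q)
      rw [hSO, Subgroup.mem_bot, mul_inv_eq_one, mul_inv_eq_iff_eq_mul] at h4
      exact h4.symm
    refine ⟨fun P => ?_, hfus⟩
    have hn : ((S : Subgroup G) ⊔ O).Normal := by
      refine Subgroup.normalizer_eq_top_iff.1 (top_le_iff.1 (hG.ge.trans (sup_le ?_ ?_)))
      · exact (le_inf le_rfl (Subgroup.le_normalizer_of_normal)).trans
          (Subgroup.normalizer_inf_normalizer_le_normalizer_sup _ _)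
      · exact le_sup_right.trans Subgroup.le_normalizer
    have hSH : (S : Subgroup G) ≤ H := by
      intro s hs
      refine Cfsg.Agent.Solv.le_pCore (hN := hn.map f (QuotientGroup.mk'_surjective O)) ?_
        (Subgroup.mem_map_of_mem f (Subgroup.mem_sup_left hs))
      rw [Subgroup.map_sup, (Subgroup.map_eq_bot_iff _).2 (QuotientGroup.ker_mk' O).ge, sup_bot_eq]
      exact S.isPGroup'.map f
    have hC : Subgroup.centralizer ((S : Subgroup G) : Set G) ≤ H := by
      set C := Subgroup.centralizer ((S : Subgroup G) : Set G) with hC'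
      obtain ⟨T⟩ : Nonempty (Sylow p C) := inferInstance
      have hT : (T : Subgroup C).map C.subtype ≤ (S : Subgroup G) := by
        have hle : (T : Subgroup C).map C.subtype ≤ Subgroup.normalizer ((S : Subgroup G) : Set G) :=
          (Subgroup.map_subtype_le _).trans (Subgroup.centralizer_le_normalizer _)
        have h1 := S.3 (IsPGroup.to_sup_of_normal_right' (T.isPGroup'.map C.subtype) S.isPGroup' hle)
          le_sup_right
        exact le_sup_left.trans h1.le
      have hnpc : Cfsg.HasNormalPComplement p C := by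
        refine Cfsg.Agent.Solv.hasNormalPComplement_of_burnside T fun x _ => ?_
        rw [Subgroup.mem_centralizer_iff]
        intro t ht
        apply Subtype.ext
        have h1 : (t : G) ∈ (S : Subgroup G) := hT ⟨t, ht, rfl⟩
        exact (Subgroup.mem_centralizer_iff.1 x.2 _ h1)
      set X := (Cfsg.pPrimeCore p C).map C.subtype with hX
      have hXO : X ≤ O := by
        have hnX : Subgroup.normalizer ((S : Subgroup G) : Set G) ≤ Subgroup.normalizer (X : Set G) := by
          refine Cfsg.Agent.Solv.le_normalizer_of_conj_mem fun g hg x hx => ?_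
          obtain ⟨y, hy, rfl⟩ := hx
          have hyC : g * (y : G) * g⁻¹ ∈ C := by
            show g * (y : G) * g⁻¹ ∈ Subgroup.centralizer ((S : Subgroup G) : Set G)
            rw [Subgroup.mem_centralizer_iff]
            intro s hs
            have h1 := Subgroup.mem_centralizer_iff.1 y.2 _ ((Subgroup.mem_normalizer_iff''.1 hg s).1 hs)
            calc s * (g * y * g⁻¹) = g * ((g⁻¹ * s * g) * y) * g⁻¹ := by group
              _ = g * y * g⁻¹ * s := by rw [h1]; group
          refine ⟨⟨_, hyC⟩, ?_, rfl⟩
          rw [SetLike.mem_coe, Cfsg.Agent.Solv.mem_pPrimeCore_iff hnpc] at hy ⊢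
          have e : orderOf (g * (y : G) * g⁻¹) = orderOf (y : G) :=
            orderOf_injective (MulAut.conj g).toMonoidHom (MulAut.conj g).injective (y : G)
          rwa [← Subgroup.orderOf_coe, e, Subgroup.orderOf_coe]
        have hXn : (X ⊔ O).Normal := by
          refine Subgroup.normalizer_eq_top_iff.1 (top_le_iff.1 (hG.ge.trans (sup_le ?_ ?_)))
          · exact (le_inf hnX (Subgroup.le_normalizer_of_normal)).trans
              (Subgroup.normalizer_inf_normalizer_le_normalizer_sup _ _)
          · exact le_sup_right.trans Subgroup.le_normalizer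
        refine le_sup_left.trans (Cfsg.Agent.Solv.le_pPrimeCore (hN := hXn) ?_)
        refine Nat.Coprime.coprime_dvd_left (k := Nat.card O * Nat.card X)
          (by rw [sup_comm]; exact Cfsg.Agent.Solv.card_sup_dvd_of_normal O X) ?_
        refine hOc.mul_left ?_
        rw [hX, Subgroup.card_map_of_injective C.subtype_injective]
        exact Cfsg.Agent.Solv.card_pPrimeCore_coprime p C
      intro c hc
      have h1 : (⟨c, hc⟩ : C) ∈ Cfsg.pPrimeCore p C ⊔ (T : Subgroup C) := by
        rw [Subgroup.IsComplement'.sup_eq_top (Cfsg.Agent.Solv.isComplement'_pPrimeCore hnpc T)]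
        exact Subgroup.mem_top _
      have h2 := Subgroup.mem_map_of_mem C.subtype h1
      rw [Subgroup.map_sup] at h2
      refine (sup_le (hXO.trans ?_) (hT.trans hSH)) h2
      intro o ho
      rw [hH, Cfsg.pPrimePCore, Subgroup.mem_comap,
        show QuotientGroup.mk' O o = 1 from (QuotientGroup.eq_one_iff o).2 ho]
      exact one_mem _
    obtain ⟨k, hk⟩ := MulAction.exists_smul_eq H (S.subtype hSH) P
    intro c hc
    have h1 : (k : G)⁻¹ * c * k ∈ H := by
      refine hC ?_
      rw [Subgroup.mem_centralizer_iff]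
      intro s hs
      have hm : (k : G) * s * (k : G)⁻¹ ∈ (P : Subgroup H).map H.subtype := by
        refine ⟨k * ⟨s, hSH hs⟩ * k⁻¹, ?_, rfl⟩
        rw [← hk, Sylow.coe_subgroup_smul]
        exact ⟨⟨s, hSH hs⟩, hs, rfl⟩
      have h2 := Subgroup.mem_centralizer_iff.1 hc _ hm
      calc s * ((k : G)⁻¹ * c * k) = (k : G)⁻¹ * ((k : G) * s * (k : G)⁻¹ * c) * k := by group
        _ = (k : G)⁻¹ * c * k * s := by rw [h2]; group
    have := hHn.conj_mem _ h1 (k : G)
    simpa [mul_assoc] using this
  · rintro ⟨hc, hfus⟩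
    obtain ⟨P⟩ : Nonempty (Sylow p H) := inferInstance
    set P' := (P : Subgroup H).map H.subtype with hP'
    obtain ⟨S', hS'⟩ := (P.isPGroup'.map H.subtype : IsPGroup p P').exists_le_sylow
    obtain ⟨x, hx⟩ := MulAction.exists_smul_eq G S' S
    set Q := P'.map (MulAut.conj x).toMonoidHom with hQ
    have hQS : Q ≤ (S : Subgroup G) := by
      rw [← hx]; exact Subgroup.map_mono hS'
    have hQC : Subgroup.centralizer (Q : Set G) ≤ H := by
      intro c hc'
      have h1 : x⁻¹ * c * x ∈ H := by
        refine hc P ?_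
        rw [Subgroup.mem_centralizer_iff]
        intro z hz
        have h2 := Subgroup.mem_centralizer_iff.1 hc' _ ⟨z, hz, rfl⟩
        simp only [MulEquiv.coe_toMonoidHom, MulAut.conj_apply] at h2
        calc z * (x⁻¹ * c * x) = x⁻¹ * (x * z * x⁻¹ * c) * x := by group
          _ = x⁻¹ * c * x * z := by rw [h2]; group
      simpa [mul_assoc] using hHn.conj_mem _ h1 x
    have hfr : Subgroup.normalizer (Q : Set G) ⊔ H = ⊤ := by
      have h1 := congrArg (Subgroup.map (MulAut.conj x).toMonoidHom) (Sylow.normalizer_sup_eq_top P)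
      rw [Subgroup.map_sup, Subgroup.map_top_of_surjective _ (MulAut.conj x).surjective] at h1
      refine top_le_iff.1 (h1.ge.trans (sup_le_sup ?_ ?_))
      · exact Subgroup.le_normalizer_map _
      · rintro _ ⟨z, hz, rfl⟩
        exact hHn.conj_mem z hz x
    refine top_le_iff.1 (hfr.ge.trans (sup_le (fun g hg => ?_) (hHle.trans
      (sup_le_sup_right Subgroup.le_normalizer _))))
    obtain ⟨n, hn, c, hc', rfl⟩ := hfus Q hQS g (by
      rintro _ ⟨q, hq, rfl⟩
      exact hQS ((Subgroup.mem_normalizer_iff.1 hg q).1 hq))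
    exact mul_mem (Subgroup.mem_sup_left hn)
      ((hHle.trans (sup_le_sup_right Subgroup.le_normalizer _)) (hQC hc'))

end Cfsg.Agent.S1948
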