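import Cfsg.Statements.S1949
import Cfsg.Agent.Lib.Fusion.Critical
-- import your own Cfsg.Agent.* helpers here

set_option autoImplicit false
open Cfsg

namespace Cfsg.Agent.S1949
open scoped commutatorElement

/-- A characteristic subgroup of small exponent on which coprime automorphisms act faithfully. -/
theorem small_faithful' {P : Type*} [Group P] [Finite P] {p : ℕ} [Fact p.Prime] (hP : IsPGroup p P) :
    ∃ D : Subgroup P, D.Characteristic ∧ (∀ x ∈ D, x ^ p = 1 ∨ (p = 2 ∧ x ^ 4 = 1)) ∧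
      (∀ a ∈ D, ∀ g : P, ∀ b ∈ D, ⁅a, g⁆ * b = b * ⁅a, g⁆) ∧
      ∀ α : MulAut P, Nat.Coprime (orderOf α) p → (∀ x ∈ D, α x = x) → α = 1 := by
  obtain ⟨C, hC1, hC2, hC3, hC4⟩ := Fusion.exists_critical hP
  have hcom : ∀ a ∈ C, ∀ b ∈ C, ∀ k : ℕ, ⁅a ^ k, b⁆ = ⁅a, b⁆ ^ k := by
    intro a ha b hb k
    induction k with
    | zero => simp
    | succ k ihk =>
      have e : ⁅a ^ (k + 1), b⁆ = a * ⁅a ^ k, b⁆ * a⁻¹ * ⁅a, b⁆ := by
        simp [commutatorElement_def, pow_succ', mul_assoc]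
      have hc : Commute a (⁅a, b⁆ ^ k) := (show Commute a ⁅a, b⁆ from ((hC3 a ha b).2 a ha).symm).pow_right k
      rw [e, ihk, hc.eq, mul_inv_cancel_right, pow_succ]
  have hcp : ∀ a ∈ C, ∀ b ∈ C, ⁅a, b⁆ ^ p = 1 := fun a ha b hb => by
    rw [← hcom a ha b hb, commutatorElement_eq_one_iff_mul_comm]
    exact hC2 a ha b hb
  set e : ℕ := if p = 2 then 4 else p with he
  have hep : p ∣ e.choose 2 := by
    rw [he]
    split_ifs with h
    · subst h; exact ⟨3, rfl⟩
    · exact (Fact.out : p.Prime).dvd_choose_self two_ne_zero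
        (lt_of_le_of_ne (Fact.out : p.Prime).two_le (Ne.symm h))
  have hmul : ∀ a ∈ C, ∀ b ∈ C, (a * b) ^ e = a ^ e * b ^ e := by
    intro a ha b hb
    set c := ⁅a, b⁆ with hc
    have hcZ : ∀ h ∈ C, ∀ j : ℕ, h * c ^ j = c ^ j * h := fun h hh j =>
      ((show Commute h c from ((hC3 a ha b).2 h hh).symm).pow_right j).eq
    have hmove : ∀ j : ℕ, a * b ^ j = c ^ j * (b ^ j * a) := by
      intro j
      induction j with
      | zero => simp
      | succ j ihj =>
        calc a * b ^ (j + 1) = a * b ^ j * b := by rw [pow_succ, mul_assoc]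
          _ = c ^ j * b ^ j * (a * b) := by rw [ihj]; group
          _ = c ^ j * (b ^ j * c ^ 1) * (b * a) := by rw [hc, pow_one, commutatorElement_def]; group
          _ = c ^ (j + 1) * (b ^ (j + 1) * a) := by
              rw [hcZ _ (pow_mem hb j) 1, pow_one, pow_succ, pow_succ]; group
    have hpow : ∀ k : ℕ, (a * b) ^ k * c ^ (k.choose 2) = a ^ k * b ^ k := by
      intro k
      induction k with
      | zero => simp
      | succ k ihk =>
        calc (a * b) ^ (k + 1) * c ^ ((k + 1).choose 2)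
            = (a * b) ^ k * ((a * b) * c ^ (k.choose 2)) * c ^ k := by
              rw [pow_succ, show (k + 1).choose 2 = k.choose 2 + k by
                rw [Nat.choose_succ_succ', Nat.choose_one_right, add_comm], pow_add]
              group
          _ = (a * b) ^ k * c ^ (k.choose 2) * (a * b) * c ^ k := by rw [hcZ _ (C.mul_mem ha hb)]; group
          _ = a ^ k * b ^ k * (a * b) * c ^ k := by rw [ihk]
          _ = a ^ k * (b ^ k * a) * (b * c ^ k) := by group
          _ = a ^ k * (c ^ k * (b ^ k * a)) * b := by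
              rw [hcZ b hb k, ← hcZ _ (C.mul_mem (pow_mem hb k) ha) k]; group
          _ = a ^ (k + 1) * b ^ (k + 1) := by rw [← hmove, pow_succ, pow_succ]; group
    obtain ⟨t, ht⟩ := hep
    have := hpow e
    rwa [ht, pow_mul, hcp a ha b hb, one_pow, mul_one] at this
  let D : Subgroup P :=
    { carrier := {x | x ∈ C ∧ x ^ e = 1}
      one_mem' := ⟨one_mem _, one_pow _⟩
      inv_mem' := fun h => ⟨inv_mem h.1, by rw [inv_pow, h.2, inv_one]⟩
      mul_mem' := fun {x y} hx hy => ⟨mul_mem hx.1 hy.1, by rw [hmul x hx.1 y hy.1, hx.2, hy.2, one_mul]⟩ }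
  refine ⟨D, ?_, ?_, fun a ha g b hb => (hC3 a ha.1 g).2 b hb.1, ?_⟩
  · rw [Subgroup.characteristic_iff_le_comap]
    intro α x hx
    exact ⟨Subgroup.characteristic_iff_le_comap.1 hC1 α hx.1, by
      show (α x) ^ e = 1
      rw [← map_pow, hx.2, map_one]⟩
  · intro x hx
    have h1 := hx.2
    rw [he] at h1
    split_ifs at h1 with h
    · exact Or.inr ⟨h, h1⟩
    · exact Or.inl h1
  · intro α hα hfix
    refine S0121.result hP C hC1 (Fusion.frattini_le_centralizer hP hC2 hC3) ?_ hC4 α hα fun x hx => ?_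
    · rw [Subgroup.commutator_le]
      exact fun a ha g _ => ⟨(hC3 a ha g).1, Subgroup.mem_centralizer_iff.2 fun b hb => ((hC3 a ha g).2 b hb).symm⟩
    have hmap : C.map α.toMonoidHom = C := Subgroup.characteristic_iff_map_eq.1 hC1 α
    let β : MulAut C := (α.subgroupMap C).trans (MulEquiv.subgroupCongr hmap)
    have hβ : ∀ v : C, ((β v : C) : P) = α v := fun v => rfl
    have hpw : ∀ (k : ℕ) (v : C), (((β ^ k : MulAut C) v : C) : P) = (α ^ k) v := by
      intro k
      induction k with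
      | zero => intro v; rfl
      | succ k ihk => intro v; rw [pow_succ', pow_succ', MulAut.mul_apply, MulAut.mul_apply, hβ, ihk]
    have := Fusion.eq_of_coprime_fix (hP.to_subgroup C) β (n := orderOf α)
      (MulEquiv.ext fun v => Subtype.ext (by rw [hpw, pow_orderOf_eq_one]; rfl))
      ((Fact.out : p.Prime).coprime_iff_not_dvd.1 hα.symm) (fun v hv => Subtype.ext ((hβ v).trans (hfix v ⟨v.2, by
        rw [he]
        rcases hv with h | ⟨h2, h⟩
        · split_ifs with hp2
          · rw [← Subgroup.coe_pow, show (4 : ℕ) = p * 2 by rw [hp2], pow_mul, h, one_pow]; rfl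
          · rw [← Subgroup.coe_pow, h]; rfl
        · rw [if_pos h2, ← Subgroup.coe_pow, h]; rfl⟩))) ⟨x, hx⟩
    exact congrArg Subtype.val this


/-- An element displaced by a coprime automorphism fixing the displacement is fixed. -/
theorem fixed_of_displacement {P : Type*} [Group P] [Finite P] {p : ℕ} [Fact p.Prime] (hP : IsPGroup p P)
    (α : MulAut P) (hα : (orderOf α).Coprime p) (x : P) (h : α (x⁻¹ * α x) = x⁻¹ * α x) : α x = x := by
  obtain ⟨y, hy⟩ : ∃ y, y = x⁻¹ * α x := ⟨_, rfl⟩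
  rw [← hy] at h
  have hk : ∀ k : ℕ, (α ^ k) x = x * y ^ k := by
    intro k
    induction k with
    | zero => simp
    | succ k ih =>
      rw [pow_succ', MulAut.mul_apply, ih, map_mul, map_pow, h, pow_succ' y, hy, ← mul_assoc x,
        mul_inv_cancel_left]
  have h1 := hk (orderOf α)
  rw [pow_orderOf_eq_one, MulAut.one_apply, left_eq_mul] at h1
  have h2 : orderOf y ∣ orderOf α := orderOf_dvd_of_pow_eq_one h1
  obtain ⟨k, hk'⟩ := IsPGroup.iff_orderOf.1 hP y
  have h3 : orderOf y = 1 := Nat.dvd_one.1 (by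
    have h4 : Nat.gcd (orderOf α) (p ^ k) = 1 := hα.pow_right k
    exact h4 ▸ Nat.dvd_gcd h2 (hk' ▸ dvd_rfl))
  rw [orderOf_eq_one_iff] at h3
  rw [hy, inv_mul_eq_one] at h3
  exact h3.symm


/-- Let P be a finite p-group and G a group of automorphisms of P containing the inner automorphisms. Then there is a G-invariant subgroup D of P, contained in the subgroup generated by the elements x⁻¹α(x) with x in P and α in O^p(G), of exponent dividing p when p is odd and dividing 4 when p = 2, with [D, P] ≤ Z(D), such that every automorphism in G of order prime to p that fixes D elementwise is the identity; moreover every maximal abelian subgroup A of D is normal in P and every automorphism in G fixing A elementwise has p-power order. -/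
theorem result {P : Type*} [Group P] [Finite P] {p : ℕ} [Fact p.Prime] (hP : IsPGroup p P)
    (G : Subgroup (MulAut P)) (hG : Cfsg.Inn P ≤ G) :
    ∃ D : Subgroup P,
      (∀ α ∈ G, D.map α.toMonoidHom = D) ∧
      D ≤ Subgroup.closure {y : P | ∃ α ∈ Cfsg.pResidual p ↥G, ∃ x : P, y = x⁻¹ * (α : MulAut P) x} ∧
      (∀ d ∈ D, d ^ p = 1 ∨ (p = 2 ∧ d ^ 4 = 1)) ∧
      ⁅D, (⊤ : Subgroup P)⁆ ≤ D ⊓ Subgroup.centralizer (D : Set P) ∧
      (∀ α ∈ G, (orderOf α).Coprime p → (∀ d ∈ D, α d = d) → α = 1) ∧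
      ∀ A : Subgroup P, A ≤ D → IsMulCommutative ↥A →
        (∀ B : Subgroup P, A ≤ B → B ≤ D → IsMulCommutative ↥B → B = A) →
        A.Normal ∧ ∀ α ∈ G, (∀ a ∈ A, α a = a) → ∃ k : ℕ, orderOf α = p ^ k := by
  skip
  classical
  obtain ⟨D₀, hch, hexp, hcom, hfaith⟩ := small_faithful' hP
  have hD₀ : ∀ (β : MulAut P), ∀ x ∈ D₀, β x ∈ D₀ := fun β x hx =>
    Subgroup.characteristic_iff_le_comap.1 hch β hx
  set S : Set P := {y : P | ∃ α ∈ Cfsg.pResidual p ↥G, ∃ x ∈ D₀, y = x⁻¹ * (α : MulAut P) x} with hS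
  set D := Subgroup.closure S with hD
  have hDD : D ≤ D₀ := (Subgroup.closure_le _).2 (by
    rintro _ ⟨α, -, x, hx, rfl⟩
    exact mul_mem (inv_mem hx) (hD₀ _ x hx))
  have hres : ∀ β α : ↥G, α ∈ Cfsg.pResidual p ↥G → β * α * β⁻¹ ∈ Cfsg.pResidual p ↥G := by
    intro β α hα
    have : Cfsg.pResidual p ↥G ≤ (Cfsg.pResidual p ↥G).comap (MulAut.conj β).toMonoidHom := by
      refine (Subgroup.closure_le _).2 fun g hg => Subgroup.subset_closure ?_
      show Nat.Coprime (orderOf ((MulAut.conj β) g)) p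
      rw [MulEquiv.orderOf_eq]
      exact hg
    exact this hα
  have hinv : ∀ β ∈ G, ∀ d ∈ D, (β : MulAut P) d ∈ D := by
    intro β hβ
    have : D ≤ D.comap β.toMonoidHom := by
      refine (Subgroup.closure_le _).2 ?_
      rintro _ ⟨α, hα, x, hx, rfl⟩
      refine Subgroup.subset_closure ⟨_, hres ⟨β, hβ⟩ α hα, β x, hD₀ β x hx, ?_⟩
      simp
    exact fun d hd => this hd
  have hcd : ∀ d ∈ D, ∀ g : P, ⁅d, g⁆ ∈ D ∧ ∀ b ∈ D, ⁅d, g⁆ * b = b * ⁅d, g⁆ := by
    intro d hd g
    refine ⟨?_, fun b hb => hcom d (hDD hd) g b (hDD hb)⟩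
    have h1 : g * d⁻¹ * g⁻¹ ∈ D := by
      have := hinv (MulAut.conj g) (hG ⟨g, rfl⟩) d⁻¹ (inv_mem hd)
      simpa using this
    have : d * (g * d⁻¹ * g⁻¹) ∈ D := mul_mem hd h1
    simpa [commutatorElement_def, mul_assoc] using this
  have hfD : ∀ α ∈ G, (orderOf α).Coprime p → (∀ d ∈ D, α d = d) → α = 1 := by
    intro α hα hco hfix
    refine hfaith α hco fun x hx => fixed_of_displacement hP α hco x (hfix _ ?_)
    refine Subgroup.subset_closure ⟨⟨α, hα⟩, Subgroup.subset_closure ?_, x, hx, rfl⟩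
    show Nat.Coprime (orderOf (⟨α, hα⟩ : ↥G)) p
    rwa [Subgroup.orderOf_mk]
  refine ⟨D, ?_, ?_, fun d hd => hexp d (hDD hd), ?_, hfD, ?_⟩
  · intro α hα
    refine le_antisymm ?_ fun d hd => ⟨α⁻¹ d, hinv _ (inv_mem hα) d hd, by simp⟩
    rintro _ ⟨d, hd, rfl⟩
    exact hinv α hα d hd
  · refine Subgroup.closure_mono ?_
    rintro _ ⟨α, hα, x, hx, rfl⟩
    exact ⟨α, hα, x, rfl⟩
  · rw [Subgroup.commutator_le]
    intro d hd g _
    exact ⟨(hcd d hd g).1, Subgroup.mem_centralizer_iff.2 fun b hb => ((hcd d hd g).2 b hb).symm⟩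
  intro A hA hAc hmax
  have hcA : ∀ y ∈ D, (∀ a ∈ A, a * y = y * a) → y ∈ A := by
    intro y hy hya
    haveI := hAc
    have hB : IsMulCommutative ↥(Subgroup.closure ((A : Set P) ∪ {y})) := by
      refine Subgroup.isMulCommutative_closure ?_
      rintro u (hu | rfl) v (hv | rfl)
      · exact congrArg Subtype.val (mul_comm' (⟨u, hu⟩ : A) ⟨v, hv⟩)
      · exact hya u hu
      · exact (hya v hv).symm
      · rfl
    have hle : A ≤ Subgroup.closure ((A : Set P) ∪ {y}) := fun a ha => Subgroup.subset_closure (Or.inl ha)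
    have hBD : Subgroup.closure ((A : Set P) ∪ {y}) ≤ D :=
      (Subgroup.closure_le _).2 (Set.union_subset hA (Set.singleton_subset_iff.2 hy))
    exact hmax _ hle hBD hB ▸ Subgroup.subset_closure (Or.inr rfl)
  have hnorm : A.Normal := by
    refine ⟨fun a ha g => ?_⟩
    have h1 : ⁅a, g⁆ ∈ A := hcA _ (hcd a (hA ha) g).1 fun b hb => ((hcd a (hA ha) g).2 b (hA hb)).symm
    have h2 : g * a * g⁻¹ = ⁅a, g⁆⁻¹ * a := by simp [commutatorElement_def, mul_assoc]
    rw [h2]
    exact mul_mem (inv_mem h1) ha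
  refine ⟨hnorm, fun α hα hfix => ?_⟩
  obtain ⟨v, m, hm, he⟩ := Nat.exists_eq_pow_mul_and_not_dvd (orderOf_pos α).ne' p (Fact.out : p.Prime).ne_one
  have hpv : p ^ v ≠ 0 := pow_ne_zero _ (Fact.out : p.Prime).ne_zero
  have hco : (orderOf (α ^ p ^ v)).Coprime p := by
    rw [orderOf_pow' α hpv, he, Nat.gcd_eq_right (dvd_mul_right _ _), Nat.mul_div_cancel_left _ (Nat.pos_of_ne_zero hpv)]
    exact ((Fact.out : p.Prime).coprime_iff_not_dvd.2 hm).symm
  have hβ : ∀ a ∈ A, (α ^ p ^ v) a = a := by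
    intro a ha
    have : ∀ k : ℕ, (α ^ k) a = a := by
      intro k
      induction k with
      | zero => simp
      | succ k ih => rw [pow_succ, MulAut.mul_apply, hfix a ha, ih]
    exact this _
  have h1 : α ^ p ^ v = 1 := by
    refine hfD _ (pow_mem hα _) hco fun x hx => fixed_of_displacement hP _ hco x (hβ _ ?_)
    refine hcA _ (mul_mem (inv_mem hx) (hinv _ (pow_mem hα _) x hx)) fun a ha => ?_
    have h2 := hβ _ (hnorm.conj_mem a ha x)
    rw [map_mul, map_mul, map_inv, hβ a ha] at h2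
    generalize (α ^ p ^ v) x = z at h2 ⊢
    calc a * (x⁻¹ * z) = x⁻¹ * (x * a * x⁻¹) * z := by group
      _ = x⁻¹ * (z * a * z⁻¹) * z := by rw [h2]
      _ = x⁻¹ * z * a := by group
  obtain ⟨k, -, hk⟩ := (Nat.dvd_prime_pow (Fact.out : p.Prime)).1 (orderOf_dvd_of_pow_eq_one h1)
  exact ⟨k, hk⟩

end Cfsg.Agent.S1949
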