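import Cfsg.Statements.S1952
import Cfsg.Agent.Lib.Fusion.Yoshida

set_option autoImplicit false
open Cfsg

namespace Cfsg.Agent.S1952

/-- Let P be a finite p-group with a normal elementary abelian subgroup A of index p, and let x ∈ A and y ∈ P with y outside A. If the product of the p conjugates y^(-i) x y^i (i = 0, …, p−1) is not the identity, then the wreath product Z_p ≀ Z_p, realised as a Sylow p-subgroup of the symmetric group of degree p², is a homomorphic image of P. -/
theorem result {P : Type*} [Group P] [Finite P] {p : ℕ} [Fact p.Prime] (hP : IsPGroup p P) (A : Subgroup P) [A.Normal]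
    (hA : Cfsg.IsElementaryAbelian p A) (hidx : A.index = p) (x y : P) (hx : x ∈ A) (hy : y ∉ A)
    (hprod : ((List.range p).map (fun i => (y ^ i)⁻¹ * x * y ^ i)).prod ≠ 1) :
    ∃ (Q : Sylow p (Equiv.Perm (Fin (p ^ 2)))) (f : P →* ↥(Q : Subgroup (Equiv.Perm (Fin (p ^ 2))))), Function.Surjective f := by
  classical
  have := hA.1
  letI : CommGroup A := { (inferInstance : Group A) with mul_comm := fun a b => Subtype.ext (congrArg Subtype.val (hA.1.is_comm.comm a b)) }
  have hpow : ∀ a : A, a ^ p = 1 := fun a => Subtype.ext (by simpa using hA.2 a a.2)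
  let g : ℕ → A := fun i => ⟨(y ^ i)⁻¹ * x * y ^ i, Subgroup.Normal.conj_mem' (H := A) inferInstance x hx (y ^ i)⟩
  have hne : ((List.range p).map g).prod ≠ 1 := fun h => hprod (by
    have := congrArg Subtype.val h
    rw [SubmonoidClass.coe_list_prod, List.map_map] at this
    exact this)
  obtain ⟨θ, hθ⟩ := Cfsg.Agent.Fusion.Yoshida.exists_hom_ne (p := p) hpow hne
  refine Cfsg.Agent.Fusion.WreathQ.exists_wreath_of_norm hP A hidx θ hy hx fun h => hθ ?_
  rw [map_list_prod, List.map_map, ← h]
  rfl

end Cfsg.Agent.S1952
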