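import Cfsg.Statements.S1954
import Cfsg.Agent.Lib.Local.PairControlFull
import Cfsg.Agent.Lib.Solv.Basic
-- import your own Cfsg.Agent.* helpers here

set_option autoImplicit false
open Cfsg

namespace Cfsg.Agent.S1954

open Subgroup

theorem mem_normalizer_of_conj {G : Type*} [Group G] [Finite G] (W : Subgroup G) (g : G)
    (h : ∀ w ∈ W, g * w * g⁻¹ ∈ W) : g ∈ normalizer (W : Set G) := by
  have hm : W.map (MulAut.conj g).toMonoidHom = W := eq_of_le_of_card_ge (by rintro _ ⟨w, hw, rfl⟩; exact h w hw)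
    (Nat.card_congr (W.equivMapOfInjective _ (MulAut.conj g).injective).toEquiv).le
  rw [mem_normalizer_iff]
  refine fun w => ⟨h w, fun hw => ?_⟩
  rw [← hm] at hw
  obtain ⟨w', hw', e⟩ := hw
  exact (MulAut.conj g).injective e ▸ hw'

theorem step {G : Type*} [Group G] [Finite G] {p : ℕ} [Fact p.Prime] (N : Subgroup G) [hNn : N.Normal]
    (P : Sylow p G) (V : Subgroup G) (hV : V ≤ (P : Subgroup G) ⊓ N)
    (hVn : ∀ x ∈ (P : Subgroup G) ⊓ N, V.map (MulAut.conj x).toMonoidHom = V)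
    (hctrl : ∀ A : Subgroup G, A ≤ (P : Subgroup G) ⊓ N → ∀ n ∈ N, A.map (MulAut.conj n).toMonoidHom ≤ (P : Subgroup G) ⊓ N →
      ∃ h ∈ N ⊓ normalizer (V : Set G), ∃ c ∈ N ⊓ centralizer (A : Set G), n = h * c)
    (W : Subgroup G) (hW : W = closure (⋃ x ∈ normalizer (((P : Subgroup G) ⊓ N : Subgroup G) : Set G),
      ((V.map (MulAut.conj x).toMonoidHom : Subgroup G) : Set G)))
    (U : Subgroup G) (hU : U ≤ (P : Subgroup G))
    (ih : ∀ E : Subgroup G, E ≤ (P : Subgroup G) → Nat.card U < Nat.card E → ∀ c : G,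
      (∀ e ∈ E, c * e * c⁻¹ ∈ (P : Subgroup G)) →
        ∃ h ∈ normalizer (W : Set G), ∀ d ∈ E, c * d * c⁻¹ = h * d * h⁻¹)
    (hfn : ¬ p ∣ ((P : Subgroup G) ⊓ normalizer (U : Set G)).relIndex (normalizer (U : Set G)))
    (hcen : (P : Subgroup G) ⊓ centralizer (U : Set G) ≤ U) (n : G) (hn : n ∈ normalizer (U : Set G)) :
    ∃ h ∈ normalizer (W : Set G), ∀ d ∈ U, n * d * n⁻¹ = h * d * h⁻¹ := by
  classical
  obtain ⟨R, hR⟩ : ∃ R, R = (P : Subgroup G) ⊓ N := ⟨_, rfl⟩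
  rw [← hR] at hV hVn hctrl hW
  have hRP : R ≤ (P : Subgroup G) := hR ▸ inf_le_left
  have hRN : R ≤ N := hR ▸ inf_le_right
  have hNR : (P : Subgroup G) ≤ normalizer (R : Set G) := fun t ht => mem_normalizer_of_conj _ _ fun r hr => by
    rw [hR] at hr ⊢
    exact mem_inf.2 ⟨mul_mem (mul_mem ht hr.1) (inv_mem ht), hNn.conj_mem r hr.2 t⟩
  have hconjR : ∀ x ∈ normalizer (R : Set G), ∀ r ∈ R, x * r * x⁻¹ ∈ R := fun x hx r hr =>
    (mem_normalizer_iff.1 hx r).1 hr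
  have hVW : ∀ x ∈ normalizer (R : Set G), ∀ v ∈ V, x * v * x⁻¹ ∈ W := fun x hx v hv => by
    rw [hW]; exact subset_closure (Set.mem_iUnion₂.2 ⟨x, hx, ⟨v, hv, rfl⟩⟩)
  have hWle : ∀ K : Subgroup G, (∀ x ∈ normalizer (R : Set G), ∀ v ∈ V, x * v * x⁻¹ ∈ K) → W ≤ K := by
    intro K hK
    rw [hW, closure_le]
    intro y hy
    obtain ⟨x, hx, v, hv, rfl⟩ := Set.mem_iUnion₂.1 hy
    exact hK x hx v hv
  have hWR : W ≤ R := hWle R fun x hx v hv => hconjR x hx v (hV hv)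
  have hNW : ∀ k ∈ normalizer (R : Set G), k ∈ normalizer (W : Set G) := fun k hk => by
    refine mem_normalizer_of_conj _ _ fun w hw => ?_
    have : W ≤ W.comap (MulAut.conj k).toMonoidHom := hWle _ fun x hx v hv => by
      show k * (x * v * x⁻¹) * k⁻¹ ∈ W
      rw [show k * (x * v * x⁻¹) * k⁻¹ = (k * x) * v * (k * x)⁻¹ by group]
      exact hVW _ (mul_mem hk hx) v hv
    exact this hw
  -- control inside `N` for the conjugates of `V`
  have hctrl' : ∀ x ∈ normalizer (R : Set G), ∀ A : Subgroup G, A ≤ R → ∀ m ∈ N,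
      (∀ a ∈ A, m * a * m⁻¹ ∈ R) → ∃ h ∈ N, (∀ v ∈ V, h * (x * v * x⁻¹) * h⁻¹ ∈ V.map (MulAut.conj x).toMonoidHom) ∧
        ∀ a ∈ A, m * a * m⁻¹ = h * a * h⁻¹ := by
    intro x hx A hA m hm hmA
    obtain ⟨h, hh, c, hc, e⟩ := hctrl (A.map (MulAut.conj x⁻¹).toMonoidHom)
      (by rintro _ ⟨a, ha, rfl⟩; exact hconjR _ (inv_mem hx) a (hA ha)) (x⁻¹ * m * x)
      (by simpa using hNn.conj_mem m hm x⁻¹)
      (by
        rintro _ ⟨_, ⟨a, ha, rfl⟩, rfl⟩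
        show x⁻¹ * m * x * (x⁻¹ * a * x⁻¹⁻¹) * (x⁻¹ * m * x)⁻¹ ∈ R
        rw [show x⁻¹ * m * x * (x⁻¹ * a * x⁻¹⁻¹) * (x⁻¹ * m * x)⁻¹ = x⁻¹ * (m * a * m⁻¹) * x⁻¹⁻¹ by group]
        exact hconjR _ (inv_mem hx) _ (hmA a ha))
    refine ⟨x * h * x⁻¹, hNn.conj_mem h hh.1 x, fun v hv => ?_, fun a ha => ?_⟩
    · refine ⟨h * v * h⁻¹, (mem_normalizer_iff.1 hh.2 v).1 hv, ?_⟩
      show x * (h * v * h⁻¹) * x⁻¹ = _
      group
    · have hca := mem_centralizer_iff.1 hc.2 _ ⟨a, ha, rfl⟩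
      calc m * a * m⁻¹ = x * ((x⁻¹ * m * x) * (x⁻¹ * a * x⁻¹⁻¹) * (x⁻¹ * m * x)⁻¹) * x⁻¹ := by group
        _ = x * (h * (c * (MulAut.conj x⁻¹).toMonoidHom a) * c⁻¹ * h⁻¹) * x⁻¹ := by
            rw [e]; simp only [MulEquiv.coe_toMonoidHom, MulAut.conj_apply]; group
        _ = x * (h * (x⁻¹ * a * x⁻¹⁻¹) * h⁻¹) * x⁻¹ := by
            rw [← hca]; simp only [MulEquiv.coe_toMonoidHom, MulAut.conj_apply]; group
        _ = _ := by group
  -- weak closure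
  by_cases hWU : W ≤ U
  · refine ⟨n, ?_, fun d _ => rfl⟩
    obtain ⟨Q, hQ⟩ := Cfsg.Agent.Local.PairControl.exists_sylow_map_eq P N
    have hF := Sylow.normalizer_sup_eq_top Q
    rw [hQ, ← hR] at hF
    have hnF : n ∈ normalizer (R : Set G) ⊔ N := hF ▸ mem_top n
    rw [sup_comm, ← SetLike.mem_coe, Subgroup.normal_mul] at hnF
    obtain ⟨m, hm, k, hk, hmk⟩ := hnF
    change m * k = n at hmk
    subst hmk
    refine mul_mem ?_ (hNW k hk)
    have hmW : ∀ w ∈ W, m * w * m⁻¹ ∈ R := by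
      intro w hw
      have h1 : k⁻¹ * w * k⁻¹⁻¹ ∈ W := (mem_normalizer_iff.1 (inv_mem (hNW k hk)) w).1 hw
      have h2 := (mem_normalizer_iff.1 hn _).1 (hWU h1)
      rw [show m * k * (k⁻¹ * w * k⁻¹⁻¹) * (m * k)⁻¹ = m * w * m⁻¹ by group] at h2
      rw [hR]
      exact ⟨hU h2, hNn.conj_mem w (hRN (hWR hw)) m⟩
    refine mem_normalizer_of_conj _ _ fun w hw => ?_
    refine (show W ≤ W.comap (MulAut.conj m).toMonoidHom from hWle _ fun x hx v hv => ?_) hw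
    obtain ⟨h, -, h1, h2⟩ := hctrl' x hx W hWR m hm hmW
    show m * (x * v * x⁻¹) * m⁻¹ ∈ W
    rw [h2 _ (hVW x hx v hv)]
    obtain ⟨v', hv', e⟩ := h1 v hv
    rw [← e]
    exact hVW x hx v' hv'
  -- an element of `W` outside `U` normalizing `U`
  set M := normalizer (U : Set G) with hM
  set R₀ := R ⊓ normalizer ((U ⊓ N : Subgroup G) : Set G) with hR₀
  set C₀ := N ⊓ centralizer ((U ⊓ N : Subgroup G) : Set G) with hC₀
  have hUN : U ⊓ N ≤ R := hR ▸ inf_le_inf_right N hU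
  set S : Set G := {w | ∃ x ∈ normalizer (R : Set G), w ∈ V.map (MulAut.conj x).toMonoidHom ∧
    w ∈ normalizer ((U ⊓ N : Subgroup G) : Set G)} with hS
  set Z := closure S with hZ
  have hZR : Z ≤ R₀ := (closure_le _).2 fun w ⟨x, hx, hwV, hwN⟩ => by
    obtain ⟨v, hv, rfl⟩ := hwV
    exact ⟨hconjR x hx v (hV hv), hwN⟩
  have hUc : ∀ u ∈ U, ∀ s ∈ S, u * s * u⁻¹ ∈ S := by
    rintro u hu s ⟨x, hx, ⟨v, hv, rfl⟩, hsN⟩
    have hu' : u ∈ normalizer ((U ⊓ N : Subgroup G) : Set G) := mem_normalizer_of_conj _ _ fun w hw =>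
      mem_inf.2 ⟨mul_mem (mul_mem hu hw.1) (inv_mem hu), hNn.conj_mem w hw.2 u⟩
    refine ⟨u * x, mul_mem (hNR (hU hu)) hx, ⟨v, hv, ?_⟩, mul_mem (mul_mem hu' hsN) (inv_mem hu')⟩
    show u * x * v * (u * x)⁻¹ = u * (x * v * x⁻¹) * u⁻¹
    group
  have hUZ : U ≤ normalizer (Z : Set G) := fun u hu => mem_normalizer_of_conj _ _ fun w hw =>
    (show Z ≤ Z.comap (MulAut.conj u).toMonoidHom from (closure_le _).2 fun s hs => subset_closure (hUc u hu s hs)) hw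
  have hZU : ¬ Z ≤ U := by
    intro h
    apply hWU
    refine hWle U fun x hx v hv => ?_
    set Vx := V.map (MulAut.conj x).toMonoidHom with hVx
    have hVxR : Vx ≤ R := by rintro _ ⟨v, hv, rfl⟩; exact hconjR x hx v (hV hv)
    by_contra hvU
    set B := (U ⊓ N) ⊔ Vx with hB
    have hBR : B ≤ R := sup_le hUN hVxR
    have hBn : U ⊓ N ≤ normalizer (Vx : Set G) := fun r hr => mem_normalizer_of_conj _ _ (by
      rintro _ ⟨v, hv, rfl⟩
      have h1 := hVn _ (hconjR _ (inv_mem hx) r (hUN hr))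
      refine ⟨x⁻¹ * r * x * v * (x⁻¹ * r * x)⁻¹, ?_, ?_⟩
      · rw [← h1]; exact ⟨v, hv, by simp [mul_assoc]⟩
      · show x * (x⁻¹ * r * x * v * (x⁻¹ * r * x)⁻¹) * x⁻¹ = r * (x * v * x⁻¹) * r⁻¹
        group)
    haveI := (P.isPGroup'.to_le (hBR.trans hRP)).isNilpotent
    have hlt : (U ⊓ N).subgroupOf B < ⊤ := lt_top_iff_ne_top.2 fun e =>
      hvU ((subgroupOf_eq_top.1 e) (mem_sup_right ⟨v, hv, rfl⟩)).1
    obtain ⟨⟨b, hb⟩, hbN, hbU⟩ := SetLike.exists_of_lt (Group.normalizerCondition_of_isNilpotent _ hlt)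
    rw [mem_subgroupOf] at hbU
    have hb' : b ∈ normalizer ((U ⊓ N : Subgroup G) : Set G) := mem_normalizer_of_conj _ _ fun w hw =>
      mem_subgroupOf.1 ((mem_normalizer_iff.1 hbN ⟨w, mem_sup_left hw⟩).1 (mem_subgroupOf.2 hw))
    rw [← SetLike.mem_coe, Subgroup.coe_mul_of_left_le_normalizer_right _ _ hBn] at hb
    obtain ⟨r, hr, w, hw, rfl⟩ := hb
    have hw' : w ∈ normalizer ((U ⊓ N : Subgroup G) : Set G) := by
      have := mul_mem (inv_mem (le_normalizer hr)) hb'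
      rwa [inv_mul_cancel_left] at this
    exact hbU (mul_mem hr ⟨h (subset_closure ⟨x, hx, hw, hw'⟩), hRN (hVxR hw)⟩)
  obtain ⟨z, hzZ, hzM, hzU⟩ : ∃ z ∈ Z, z ∈ M ∧ z ∉ U := by
    obtain ⟨w, hw, hwU⟩ := SetLike.not_le_iff_exists.1 hZU
    haveI := (P.isPGroup'.to_le (sup_le hU (hZR.trans (inf_le_left.trans hRP)) : U ⊔ Z ≤ _)).isNilpotent
    have hlt : U.subgroupOf (U ⊔ Z) < ⊤ := lt_top_iff_ne_top.2 fun e =>
      hwU ((subgroupOf_eq_top.1 e) (mem_sup_right hw))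
    obtain ⟨⟨b, hb⟩, hbN, hbU⟩ := SetLike.exists_of_lt (Group.normalizerCondition_of_isNilpotent _ hlt)
    rw [mem_subgroupOf] at hbU
    have hbM : b ∈ M := mem_normalizer_of_conj _ _ fun u hu =>
      mem_subgroupOf.1 ((mem_normalizer_iff.1 hbN ⟨u, mem_sup_left hu⟩).1 (mem_subgroupOf.2 hu))
    rw [← SetLike.mem_coe, Subgroup.coe_mul_of_left_le_normalizer_right _ _ hUZ] at hb
    obtain ⟨u, hu, z, hz, rfl⟩ := hb
    refine ⟨z, hz, ?_, fun h => hbU (mul_mem hu h)⟩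
    have := mul_mem (inv_mem (le_normalizer hu)) hbM
    rwa [inv_mul_cancel_left] at this
  have hC₀n : R₀ ≤ normalizer (C₀ : Set G) := fun r hr => mem_normalizer_of_conj _ _ fun c hc => by
    refine ⟨hNn.conj_mem c hc.1 r, mem_centralizer_iff.2 fun a ha => ?_⟩
    have h1 : r⁻¹ * a * r ∈ U ⊓ N := (mem_normalizer_iff''.1 hr.2 a).1 ha
    have h2 := mem_centralizer_iff.1 hc.2 _ h1
    calc a * (r * c * r⁻¹) = r * ((r⁻¹ * a * r) * c) * r⁻¹ := by group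
      _ = _ := by rw [h2]; group
  -- conjugates of `z` under `M ⊓ N`
  have hgen : ∀ y ∈ M ⊓ N, y * z * y⁻¹ ∈ R₀ ⊔ C₀ := by
    intro y hy
    have hy0 : y ∈ normalizer ((U ⊓ N : Subgroup G) : Set G) := mem_normalizer_of_conj _ _ fun w hw =>
      ⟨(mem_normalizer_iff.1 hy.1 w).1 hw.1, hNn.conj_mem w hw.2 y⟩
    refine (show Z ≤ (R₀ ⊔ C₀).comap (MulAut.conj y).toMonoidHom from (closure_le _).2 ?_) hzZ
    rintro s ⟨x, hx, ⟨v, hv, rfl⟩, hsN⟩
    obtain ⟨h, hh, h1, h2⟩ := hctrl' x hx (U ⊓ N) hUN y hy.2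
      fun a ha => hUN ((mem_normalizer_iff.1 hy0 a).1 ha)
    have hsR : x * v * x⁻¹ ∈ R := hconjR x hx v (hV hv)
    have hh0 : h ∈ normalizer ((U ⊓ N : Subgroup G) : Set G) := mem_normalizer_of_conj _ _ fun a ha => by
      rw [← h2 a ha]; exact (mem_normalizer_iff.1 hy0 a).1 ha
    have hc : h⁻¹ * y ∈ C₀ := mem_inf.2 ⟨mul_mem (inv_mem hh) hy.2, mem_centralizer_iff.2 fun a ha => by
      calc a * (h⁻¹ * y) = h⁻¹ * (h * a * h⁻¹) * y := by group
        _ = h⁻¹ * (y * a * y⁻¹) * y := by rw [h2 a ha]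
        _ = _ := by group⟩
    obtain ⟨v', hv', e⟩ := h1 v hv
    have hm1 : h * (x * v * x⁻¹) * h⁻¹ ∈ R₀ := by
      refine mem_inf.2 ⟨e ▸ hconjR x hx v' (hV hv'), mul_mem (mul_mem hh0 hsN) (inv_mem hh0)⟩
    have hh0i : h ∈ normalizer (C₀ : Set G) := mem_normalizer_of_conj _ _ fun c hc' => by
      refine ⟨hNn.conj_mem c hc'.1 h, mem_centralizer_iff.2 fun a ha => ?_⟩
      have h1 : h⁻¹ * a * h ∈ U ⊓ N := (mem_normalizer_iff''.1 hh0 a).1 ha
      have h2 := mem_centralizer_iff.1 hc'.2 _ h1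
      calc a * (h * c * h⁻¹) = h * ((h⁻¹ * a * h) * c) * h⁻¹ := by group
        _ = _ := by rw [h2]; group
    obtain ⟨c, hcdef⟩ : ∃ c, c = h⁻¹ * y := ⟨_, rfl⟩
    rw [← hcdef] at hc
    show y * (x * v * x⁻¹) * y⁻¹ ∈ R₀ ⊔ C₀
    have e2 : y * (x * v * x⁻¹) * y⁻¹ = (h * (x * v * x⁻¹) * h⁻¹) *
        (h * (((x * v * x⁻¹)⁻¹ * c * (x * v * x⁻¹)⁻¹⁻¹) * c⁻¹) * h⁻¹) := by rw [hcdef]; group
    rw [e2]
    refine mul_mem (mem_sup_left hm1) (mem_sup_right ((mem_normalizer_iff.1 hh0i _).1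
      (mul_mem ((mem_normalizer_iff.1 (hC₀n (show (x * v * x⁻¹)⁻¹ ∈ R₀ from
        inv_mem (s := R₀) ⟨hsR, hsN⟩)) c).1 hc) (inv_mem hc))))
  set L₁ := closure {w | ∃ y ∈ M ⊓ N, w = y * z * y⁻¹} with hL₁
  have hL₁RC : L₁ ≤ R₀ ⊔ C₀ := (closure_le _).2 (by rintro _ ⟨y, hy, rfl⟩; exact hgen y hy)
  have hzN : z ∈ N := hRN (hZR hzZ).1
  have hL₁MN : L₁ ≤ M ⊓ N := (closure_le _).2 (by
    rintro _ ⟨y, hy, rfl⟩
    exact mem_inf.2 ⟨mul_mem (mul_mem hy.1 hzM) (inv_mem hy.1), hNn.conj_mem z hzN y⟩)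
  have hL₁n : ∀ y ∈ M ⊓ N, ∀ l ∈ L₁, y * l * y⁻¹ ∈ L₁ := fun y hy l hl =>
    (show L₁ ≤ L₁.comap (MulAut.conj y).toMonoidHom from (closure_le _).2 (by
      rintro _ ⟨y', hy', rfl⟩
      refine subset_closure ⟨y * y', mul_mem hy hy', ?_⟩
      show y * (y' * z * y'⁻¹) * y⁻¹ = _
      group)) hl
  have hpe : ∀ l ∈ L₁, ∃ k : ℕ, ∀ u ∈ U, l ^ p ^ k * u = u * l ^ p ^ k := by
    intro l hl
    obtain ⟨k, m, hm, hkm⟩ : ∃ k m : ℕ, ¬ p ∣ m ∧ orderOf l = p ^ k * m :=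
      Nat.exists_eq_pow_mul_and_not_dvd (orderOf_pos l).ne' p (Fact.out : p.Prime).ne_one
    refine ⟨k, ?_⟩
    set a := l ^ p ^ k with ha
    have hao : a ^ m = 1 := by rw [ha, ← pow_mul, ← hkm, pow_orderOf_eq_one]
    have haM : a ∈ M ⊓ N := pow_mem (hL₁MN hl) _
    have haC : a ∈ centralizer ((U ⊓ N : Subgroup G) : Set G) := by
      have haJ : a ∈ R₀ ⊔ C₀ := hL₁RC (pow_mem hl _)
      rw [← SetLike.mem_coe, Subgroup.coe_mul_of_left_le_normalizer_right _ _ hC₀n] at haJ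
      obtain ⟨r, hr, c, hc, hrc⟩ := haJ
      change r * c = a at hrc
      obtain ⟨j, hj⟩ : ∃ j, orderOf r = p ^ j := by
        obtain ⟨j, hj⟩ := IsPGroup.iff_orderOf.1 P.isPGroup' ⟨r, hRP hr.1⟩
        exact ⟨j, by rw [← hj, ← Subgroup.orderOf_coe]⟩
      have hpow : ∀ i : ℕ, ∃ c' ∈ C₀, (r * c) ^ i = r ^ i * c' := by
        intro i
        induction i with
        | zero => exact ⟨1, one_mem _, by simp⟩
        | succ i ih =>
          obtain ⟨c', hc', e⟩ := ih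
          exact ⟨r⁻¹ * c' * r * c, mul_mem ((mem_normalizer_iff''.1 (hC₀n hr) c').1 hc') hc, by
            rw [pow_succ, e]; group⟩
      obtain ⟨c', hc', e⟩ := hpow (p ^ j)
      rw [hrc, ← hj, pow_orderOf_eq_one, one_mul, hj] at e
      have h1 : a ^ p ^ j ∈ centralizer ((U ⊓ N : Subgroup G) : Set G) := e ▸ hc'.2
      obtain ⟨s, hs⟩ := exists_pow_eq_self_of_coprime (x := a) (n := p ^ j) (by
        refine Nat.Coprime.coprime_dvd_right (orderOf_dvd_of_pow_eq_one hao) ?_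
        exact Nat.Coprime.pow_left _ ((Fact.out : p.Prime).coprime_iff_not_dvd.2 hm))
      rw [← hs]; exact pow_mem h1 s
    intro u hu
    set d := a * u * a⁻¹ * u⁻¹ with hd
    have hdUN : d ∈ U ⊓ N := by
      refine mem_inf.2 ⟨mul_mem ((mem_normalizer_iff.1 haM.1 u).1 hu) (inv_mem hu), ?_⟩
      rw [hd, show a * u * a⁻¹ * u⁻¹ = a * (u * a⁻¹ * u⁻¹) by group]
      exact mul_mem haM.2 (hNn.conj_mem _ (inv_mem haM.2) u)
    have had : a * d * a⁻¹ = d := by rw [← mem_centralizer_iff.1 haC d hdUN]; group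
    have hi : ∀ i : ℕ, a ^ i * u * (a ^ i)⁻¹ = d ^ i * u := by
      intro i
      induction i with
      | zero => simp
      | succ i ih =>
        calc a ^ (i + 1) * u * (a ^ (i + 1))⁻¹ = a * (a ^ i * u * (a ^ i)⁻¹) * a⁻¹ := by rw [pow_succ']; group
          _ = (a * d * a⁻¹) ^ i * (a * u * a⁻¹) := by rw [ih, conj_pow]; group
          _ = _ := by
            rw [had, pow_succ, show a * u * a⁻¹ = d * u by rw [hd]; group]
            group
    have hdm : d ^ m = 1 := by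
      have := hi m
      rw [hao, one_mul, inv_one, mul_one] at this
      exact mul_eq_right.1 this.symm
    obtain ⟨j, hj⟩ := IsPGroup.iff_orderOf.1 P.isPGroup' ⟨d, hU hdUN.1⟩
    rw [← Subgroup.orderOf_coe] at hj
    have hd1 : d = 1 := by
      rw [← orderOf_eq_one_iff]
      refine Nat.eq_one_of_dvd_coprimes (Nat.Coprime.pow_left j ((Fact.out : p.Prime).coprime_iff_not_dvd.2 hm))
        (dvd_of_eq hj) (orderOf_dvd_of_pow_eq_one hdm)
    exact mul_inv_eq_iff_eq_mul.1 (mul_inv_eq_one.1 (hd ▸ hd1))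
  -- the automorphisms induced on `U`
  let f := (Subgroup.normalizerMonoidHom U).rangeRestrict
  have hf : Function.Surjective f := MonoidHom.rangeRestrict_surjective _
  have hker : ∀ a : M, f a = 1 ↔ ∀ u ∈ U, (a : G) * u = u * (a : G) := by
    intro a
    show a ∈ f.ker ↔ _
    rw [MonoidHom.ker_rangeRestrict, normalizerMonoidHom_ker, mem_subgroupOf, mem_centralizer_iff]
    exact ⟨fun h u hu => (h u hu).symm, fun h u hu => (h u hu).symm⟩
  haveI hBn : ((N.subgroupOf M).map f).Normal := Subgroup.Normal.map (hNn.subgroupOf M) _ hf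
  set B := (N.subgroupOf M).map f with hBdef
  set X₁ := (L₁.subgroupOf M).map f with hX₁
  have hX₁B : X₁ ≤ B := map_mono fun l hl => mem_subgroupOf.2 (hL₁MN hl).2
  have hX₁p : IsPGroup p X₁ := by
    rintro ⟨_, ⟨l, hl, rfl⟩⟩
    obtain ⟨k, hk⟩ := hpe l hl
    refine ⟨k, Subtype.ext ?_⟩
    show (f l) ^ p ^ k = 1
    rw [← map_pow, hker]
    simpa using hk
  haveI hX₁n : (X₁.subgroupOf B).Normal := by
    constructor
    rintro ⟨a, ha⟩ hx ⟨b, hb⟩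
    rw [mem_subgroupOf] at hx ⊢
    obtain ⟨l, hl, rfl⟩ := hx
    obtain ⟨y, hy, rfl⟩ := hb
    refine ⟨y * l * y⁻¹, ?_, by simp⟩
    exact mem_subgroupOf.2 (hL₁n _ ⟨y.2, hy⟩ _ hl)
  have hX₁core : X₁ ≤ Cfsg.pCore p ↥(Subgroup.normalizerMonoidHom U).range := by
    have h1 : X₁.subgroupOf B ≤ Cfsg.pCore p ↥B :=
      Cfsg.Agent.Solv.le_pCore (hX₁p.of_equiv (subgroupOfEquivOfLe hX₁B).symm)
    have h2 := map_mono (f := B.subtype) h1
    rw [subgroupOf_map_subtype, inf_eq_left.2 hX₁B, Cfsg.Agent.Solv.pCore_map_subtype] at h2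
    exact h2.trans inf_le_left
  haveI hcore : (Cfsg.pCore p ↥(Subgroup.normalizerMonoidHom U).range).Normal := by
    haveI := Cfsg.Agent.Solv.pCore_characteristic p ↥(Subgroup.normalizerMonoidHom U).range
    infer_instance
  set L := (Cfsg.pCore p ↥(Subgroup.normalizerMonoidHom U).range).comap f with hL
  haveI hLn : L.Normal := hcore.comap f
  set T : Sylow p M := ((P.isPGroup'.to_le (inf_le_left : (P : Subgroup G) ⊓ M ≤ _)).of_equiv
    (subgroupOfEquivOfLe (inf_le_right : (P : Subgroup G) ⊓ M ≤ M)).symm).toSylow hfn with hT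
  obtain ⟨Q, hQ⟩ := Cfsg.Agent.Local.PairControl.exists_sylow_map_eq T L
  have hF := Sylow.normalizer_sup_eq_top Q
  rw [hQ] at hF
  have hnF : (⟨n, hn⟩ : M) ∈ normalizer ((((T : Subgroup M) ⊓ L : Subgroup M)) : Set M) ⊔ L := hF ▸ mem_top _
  rw [← SetLike.mem_coe, Subgroup.mul_normal] at hnF
  obtain ⟨k, hk, l, hl, hkl⟩ := hnF
  change k * l = _ at hkl
  -- `L = (T ⊓ L) C_M(U)`
  have hsplit : ∀ l ∈ L, ∃ q ∈ (T : Subgroup M) ⊓ L, f (q⁻¹ * l) = 1 := by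
    intro l hl
    let g := (f.comp L.subtype).rangeRestrict
    have hgp : IsPGroup p ↥(f.comp L.subtype).range :=
      (Cfsg.Agent.Solv.isPGroup_pCore p _).to_le (by rintro _ ⟨a, rfl⟩; exact a.2)
    have htop : ((Q.mapSurjective (MonoidHom.rangeRestrict_surjective (f.comp L.subtype)) :
        Sylow p ↥(f.comp L.subtype).range) : Subgroup ↥(f.comp L.subtype).range) = ⊤ :=
      ((Q.mapSurjective (MonoidHom.rangeRestrict_surjective (f.comp L.subtype))).is_maximal'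
        (hgp.to_subgroup ⊤) le_top).symm
    obtain ⟨q, hq, e⟩ : g ⟨l, hl⟩ ∈ (Q : Subgroup L).map g := by
      rw [← Sylow.coe_mapSurjective (MonoidHom.rangeRestrict_surjective (f.comp L.subtype)), htop]
      exact mem_top _
    refine ⟨q, hQ ▸ ⟨q, hq, rfl⟩, ?_⟩
    have e' : f (q : M) = f l := congrArg Subtype.val e
    rw [map_mul, map_inv, e', inv_mul_cancel]
  obtain ⟨q, hq, hfq⟩ := hsplit l hl
  set E := ((T : Subgroup M) ⊓ L).map M.subtype with hE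
  have hEP : E ≤ (P : Subgroup G) := by
    rintro _ ⟨a, ha, rfl⟩
    exact (mem_subgroupOf.1 ha.1).1
  have hUE : U ≤ E := by
    intro u hu
    refine ⟨⟨u, le_normalizer hu⟩, ⟨mem_subgroupOf.2 ⟨hU hu, le_normalizer hu⟩, ?_⟩, rfl⟩
    haveI hUn : ((U.subgroupOf M).map f).Normal := Subgroup.Normal.map normal_in_normalizer _ hf
    exact Cfsg.Agent.Solv.le_pCore (N := (U.subgroupOf M).map f)
      (((P.isPGroup'.to_le hU).of_equiv (subgroupOfEquivOfLe le_normalizer).symm).map f) ⟨_, mem_subgroupOf.2 hu, rfl⟩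
  have hzE : z ∈ E := by
    refine ⟨⟨z, hzM⟩, ⟨mem_subgroupOf.2 ⟨hRP (hZR hzZ).1, hzM⟩, ?_⟩, rfl⟩
    exact hX₁core ⟨⟨z, hzM⟩, mem_subgroupOf.2 (subset_closure ⟨1, one_mem _, by group⟩), rfl⟩
  have hlt : Nat.card U < Nat.card E := lt_of_le_of_ne (card_le_of_le hUE) fun e =>
    hzU ((eq_of_le_of_card_ge hUE e.ge).symm ▸ hzE)
  obtain ⟨h, hh, e⟩ := ih E hEP hlt (((k * q : M)) : G) (by
    rintro _ ⟨a, ha, rfl⟩
    have h1 := (mem_normalizer_iff.1 (mul_mem hk (le_normalizer hq) : k * q ∈ normalizer _) a).1 ha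
    exact (mem_subgroupOf.1 h1.1).1)
  refine ⟨h, hh, fun d hd => ?_⟩
  rw [← e d (hUE hd)]
  have hc := (hker _).1 hfq d hd
  have hn' : n = ((k : G) * (q : G)) * ((q⁻¹ * l : M) : G) := by
    rw [show n = ((k * l : M) : G) by rw [hkl]]
    push_cast
    group
  rw [hn']
  push_cast at hc ⊢
  calc (k : G) * q * ((q : G)⁻¹ * l) * d * ((k : G) * q * ((q : G)⁻¹ * l))⁻¹
      = (k : G) * q * (((q : G)⁻¹ * l) * d) * ((k : G) * q * ((q : G)⁻¹ * l))⁻¹ := by group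
    _ = _ := by rw [hc]; group


/-- Let N be a normal subgroup of the finite group G, P a Sylow p-subgroup of G, and V a subgroup of P ∩ N normal in P ∩ N such that N_N(V) controls strong fusion in P ∩ N with respect to N (whenever a subgroup A of P ∩ N has n A n⁻¹ ≤ P ∩ N for some n in N, then n = h c with h in N_N(V) and c in C_N(A)). Let W be the subgroup generated by the conjugates of V under N_G(P ∩ N). Then N_G(W) controls strong fusion in P with respect to G. -/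
theorem result {G : Type*} [Group G] [Finite G] {p : ℕ} [Fact p.Prime] (N : Subgroup G) [N.Normal] (P : Sylow p G) (V : Subgroup G)
    (hV : V ≤ (P : Subgroup G) ⊓ N) (hVn : ∀ x ∈ (P : Subgroup G) ⊓ N, V.map (MulAut.conj x).toMonoidHom = V)
    (hctrl : ∀ A : Subgroup G, A ≤ (P : Subgroup G) ⊓ N → ∀ n ∈ N, A.map (MulAut.conj n).toMonoidHom ≤ (P : Subgroup G) ⊓ N →
      ∃ h ∈ N ⊓ Subgroup.normalizer (V : Set G), ∃ c ∈ N ⊓ Subgroup.centralizer (A : Set G), n = h * c)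
    (W : Subgroup G) (hW : W = Subgroup.closure (⋃ x ∈ Subgroup.normalizer (((P : Subgroup G) ⊓ N : Subgroup G) : Set G),
      ((V.map (MulAut.conj x).toMonoidHom : Subgroup G) : Set G))) :
    ∀ A : Subgroup G, A ≤ (P : Subgroup G) → ∀ g : G, A.map (MulAut.conj g).toMonoidHom ≤ (P : Subgroup G) →
        ∃ h ∈ Subgroup.normalizer (W : Set G), ∃ c ∈ Subgroup.centralizer (A : Set G), g = h * c := by
  skip
  classical
  intro A hA g hg
  have key := Cfsg.Agent.Local.PairControl.global_of_fullyNormalized P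
    (fun D a => ∃ h ∈ Subgroup.normalizer (W : Set G), ∀ d ∈ D, a * d * a⁻¹ = h * d * h⁻¹)
    (fun D c _ hc => ⟨1, one_mem _, fun d hd => by rw [hc d hd]; group⟩)
    (fun D a b _ _ ⟨h, hh, e⟩ ⟨k, hk, e'⟩ => ⟨k * h, mul_mem hk hh, fun d hd => by
      have := e' (a * d * a⁻¹) ⟨d, hd, rfl⟩
      calc b * a * d * (b * a)⁻¹ = b * (a * d * a⁻¹) * b⁻¹ := by group
        _ = k * (a * d * a⁻¹) * k⁻¹ := this
        _ = _ := by rw [e d hd]; group⟩)
    (fun D a _ ⟨h, hh, e⟩ => ⟨h⁻¹, inv_mem hh, by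
      rintro _ ⟨d, hd, rfl⟩
      show a⁻¹ * (a * d * a⁻¹) * a⁻¹⁻¹ = h⁻¹ * (a * d * a⁻¹) * h⁻¹⁻¹
      conv_rhs => rw [e d hd]
      group⟩)
    (fun D D' a hD ⟨h, hh, e⟩ => ⟨h, hh, fun d hd => e d (hD hd)⟩)
    (fun U hU ih hfn hcen n hn => step N P V hV hVn hctrl W hW U hU ih hfn hcen n hn)
    A hA g (fun d hd => hg ⟨d, hd, rfl⟩)
  obtain ⟨h, hh, e⟩ := key
  refine ⟨h, hh, h⁻¹ * g, Subgroup.mem_centralizer_iff.2 fun a ha => ?_, by group⟩
  calc a * (h⁻¹ * g) = h⁻¹ * (h * a * h⁻¹) * g := by group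
    _ = h⁻¹ * (g * a * g⁻¹) * g := by rw [e a ha]
    _ = h⁻¹ * g * a := by group

end Cfsg.Agent.S1954
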