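import Cfsg.Statements.S1961
import Cfsg.Agent.Lib.Local.FunctorControl

set_option autoImplicit false
open Cfsg

namespace Cfsg.Agent.S1961

theorem family_of_single {G : Type*} [Group G] {p : ℕ} {W : Subgroup G → Subgroup G} {H : Subgroup G}
    (h : Cfsg.ControlsStrongFusionIn p W H) : Cfsg.FamilyControlsStrongFusionIn p {W} H := by
  obtain ⟨T, h1, h2, h3, h4⟩ := h
  refine ⟨T, h1, h2, h3, fun A g hg hA hAg => ?_⟩
  obtain ⟨x, hx, he⟩ := h4 A g hg hA hAg
  refine ⟨1, ![1, x], rfl, fun i => ⟨W, rfl, ?_⟩, fun i => ?_, fun a ha => he a ha⟩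
  · fin_cases i; simpa using hx
  · fin_cases i
    · simpa using hA
    · rintro _ ⟨a, ha, rfl⟩
      show x * a * x⁻¹ ∈ T
      rw [he a ha]
      exact hAg ⟨a, ha, rfl⟩


/-- Local-to-global control of strong fusion through well-placed subgroups. Let p be a prime, G a finite group with Sylow p-subgroup S, and W a conjugacy functor for p on G. If W controls strong fusion in N_G(T) for every nonidentity subgroup T of S that is well placed in S with respect to W, then W controls strong fusion in G. -/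
theorem result {G : Type*} [Group G] [Finite G] {p : ℕ} [Fact p.Prime] (S : Sylow p G) (W : Subgroup G → Subgroup G) (hW : Cfsg.IsConjugacyFunctor p W) (hloc : ∀ T : Subgroup G, T ≠ ⊥ → Cfsg.IsWellPlaced p W (S : Subgroup G) T → Cfsg.ControlsStrongFusionIn p W (Subgroup.normalizer ((T : Subgroup G) : Set G))) : Cfsg.ControlsStrongFusionIn p W ⊤ := by
  refine ⟨(S : Subgroup G), le_top, S.isPGroup', by rw [Subgroup.relIndex_top_right]; exact S.not_dvd_index,
    fun A h _ hA hAh => ?_⟩
  have hD : Subgroup.closure A ≤ (S : Subgroup G) := (Subgroup.closure_le _).2 hA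
  have hg : ∀ d ∈ Subgroup.closure A, h * d * h⁻¹ ∈ (S : Subgroup G) := fun d hd => by
    have : Subgroup.closure A ≤ (S : Subgroup G).comap (MulAut.conj h).toMonoidHom :=
      (Subgroup.closure_le _).2 fun a ha => hAh ⟨a, ha, rfl⟩
    exact this hd
  have hR := Cfsg.Agent.Local.reach_of_family S {W} (by rintro _ rfl; exact hW)
    (fun T => Cfsg.IsWellPlaced p W (S : Subgroup G) T)
    (fun T hT hT0 => ?_) (fun T _ hT0 hwp => family_of_single (hloc T hT0 hwp)) _ hD h hg
  · obtain ⟨x, hx, he⟩ := (hR.mono Subgroup.subset_closure).exists_single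
    exact ⟨x, ⟨trivial, hx⟩, he⟩
  · obtain ⟨g, h1, h2⟩ := Cfsg.Agent.Local.exists_isWellPlaced S W hW T hT
    exact ⟨g, h2, h1, h1.2 0⟩

end Cfsg.Agent.S1961
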