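import Cfsg.Statements.S1966
import Cfsg.Agent.Lib.Local.ConjFamily
import Cfsg.Agent.Lib.Solv.Basic

set_option autoImplicit false
open Cfsg

namespace Cfsg.Agent.S1966


/-- Let p be a prime, G a finite group with Sylow p-subgroup S and 𝓕 a conjugation family for S in G. Then the members of 𝓕 containing O_p(G) still form a conjugation family for S in G. -/
theorem result {G : Type*} [Group G] [Finite G] {p : ℕ} [Fact p.Prime] (S : Sylow p G) (𝓕 : Set (Subgroup G)) (h : Cfsg.IsConjugationFamily 𝓕 (S : Subgroup G)) : Cfsg.IsConjugationFamily {T : Subgroup G | T ∈ 𝓕 ∧ Cfsg.pCore p G ≤ T} (S : Subgroup G) := by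
  refine ⟨fun T hT => h.1 T hT.1, fun A g hne hA hAg => ?_⟩
  set O := Cfsg.pCore p G
  have hO : O ≤ (S : Subgroup G) := Cfsg.Agent.Solv.pCore_le_sylow S
  have hconj : ∀ (w : G), ∀ o ∈ O, w⁻¹ * o * w ∈ O := fun w o ho => by
    simpa using (inferInstance : O.Normal).conj_mem o ho w⁻¹
  obtain ⟨n, T, x, hp, hT, hx, h0, hstep⟩ := h.2 (A ∪ (O : Set G)) g
    (hne.mono Set.subset_union_left) (Set.union_subset hA hO) (by
      rw [Set.image_union]
      refine Set.union_subset hAg ?_
      rintro _ ⟨o, ho, rfl⟩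
      exact hO (hconj g o ho))
  refine ⟨n, T, x, hp, fun i => ⟨hT i, fun o ho => ?_⟩, hx,
    fun hn => Set.subset_union_left.trans (h0 hn),
    fun i hi => (Set.image_mono Set.subset_union_left).trans (hstep i hi)⟩
  rcases Nat.eq_zero_or_pos i.val with hi | hi
  · rw [show i = ⟨0, by omega⟩ from Fin.ext hi]
    exact h0 _ (Or.inr ho)
  · obtain ⟨j, hj⟩ := Nat.exists_eq_succ_of_ne_zero hi.ne'
    set w := ((List.ofFn x).take (j + 1)).prod
    have h1 := hstep ⟨j, by omega⟩ (by simp only; omega)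
      ⟨w * o * w⁻¹, Or.inr ((inferInstance : O.Normal).conj_mem o ho w), rfl⟩
    rw [show i = ⟨j + 1, by omega⟩ from Fin.ext hj]
    simpa [mul_assoc, w] using h1

end Cfsg.Agent.S1966
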