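import Cfsg.Statements.S1967
import Cfsg.Agent.Lib.Local.ConjFamily

set_option autoImplicit false
open Cfsg

namespace Cfsg.Agent.S1967


/-- Let p be a prime, G a finite group with Sylow p-subgroup S and W a conjugacy functor for p on G. Then W controls strong fusion in G if and only if, whenever T ≤ S and g ∈ G satisfy gTg⁻¹ ≤ S, one can write g = n c with n ∈ N_G(W(S)) and c ∈ C_G(T). -/
theorem result {G : Type*} [Group G] [Finite G] {p : ℕ} [Fact p.Prime] (S : Sylow p G) (W : Subgroup G → Subgroup G) (hW : Cfsg.IsConjugacyFunctor p W) : Cfsg.ControlsStrongFusionIn p W ⊤ ↔ ∀ (T : Subgroup G) (g : G), T ≤ (S : Subgroup G) → T.map (MulAut.conj g).toMonoidHom ≤ (S : Subgroup G) → ∃ n ∈ Subgroup.normalizer ((W (S : Subgroup G) : Subgroup G) : Set G), ∃ c ∈ Subgroup.centralizer (T : Set G), g = n * c := by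
  constructor
  · rintro ⟨T₀, hT₀, hT₀p, hidx, hc⟩ T g hTS hTg
    obtain ⟨x, -, hx⟩ := Cfsg.Agent.Local.exists_conj_le_of_not_dvd_relIndex hT₀ hT₀p hidx le_top S.isPGroup' (U := (S : Subgroup G))
    have hmapS : (S : Subgroup G).map (MulAut.conj x).toMonoidHom = T₀ := by
      refine Cfsg.Agent.Local.eq_of_isPGroup_of_le (H := ⊤) ?_ le_top hT₀p ?_
      · rintro _ ⟨u, hu, rfl⟩; exact hx u hu
      · rw [Subgroup.relIndex_top_right, Subgroup.index_map_of_bijective (MulAut.conj x).bijective]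
        exact S.not_dvd_index
    have hWT : W T₀ = (W (S : Subgroup G)).map (MulAut.conj x).toMonoidHom := by
      rw [← hmapS]; exact (hW _ S.isPGroup').2.2 x
    obtain ⟨y, ⟨-, hy⟩, he⟩ := hc ((fun t => x * t * x⁻¹) '' (T : Set G)) (x * g * x⁻¹) trivial
      (by rintro _ ⟨t, ht, rfl⟩; exact hx t (hTS ht)) (by
        rintro _ ⟨_, ⟨t, ht, rfl⟩, rfl⟩
        have := hx _ (hTg ⟨t, ht, rfl⟩)
        show x * g * x⁻¹ * (x * t * x⁻¹) * (x * g * x⁻¹)⁻¹ ∈ T₀
        rw [show x * g * x⁻¹ * (x * t * x⁻¹) * (x * g * x⁻¹)⁻¹ = x * (g * t * g⁻¹) * x⁻¹ by group]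
        exact this)
    refine ⟨x⁻¹ * y * x, ?_, (x⁻¹ * y * x)⁻¹ * g, ?_, by group⟩
    · rw [hWT, ← Cfsg.Agent.Local.map_conj_normalizer] at hy
      obtain ⟨m, hm, rfl⟩ := hy
      simpa [mul_assoc] using hm
    · rw [Subgroup.mem_centralizer_iff]
      intro t ht
      have h2 := he _ ⟨t, ht, rfl⟩
      have h3 : g * t * g⁻¹ = (x⁻¹ * y * x) * t * (x⁻¹ * y * x)⁻¹ := by
        have := congrArg (fun z => x⁻¹ * z * x) h2.symm
        simpa [mul_assoc] using this
      calc t * ((x⁻¹ * y * x)⁻¹ * g)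
          = (x⁻¹ * y * x)⁻¹ * ((x⁻¹ * y * x) * t * (x⁻¹ * y * x)⁻¹) * g := by group
        _ = (x⁻¹ * y * x)⁻¹ * g * t := by rw [← h3]; group
  · intro h
    refine ⟨(S : Subgroup G), le_top, S.isPGroup', by rw [Subgroup.relIndex_top_right]; exact S.not_dvd_index,
      fun A g _ hA hAg => ?_⟩
    have hle : Subgroup.closure A ≤ (S : Subgroup G) := (Subgroup.closure_le _).2 hA
    have hle2 : (Subgroup.closure A).map (MulAut.conj g).toMonoidHom ≤ (S : Subgroup G) := by
      rw [MonoidHom.map_closure, Subgroup.closure_le]; exact hAg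
    obtain ⟨n, hn, c, hc, rfl⟩ := h _ g hle hle2
    refine ⟨n, ⟨trivial, hn⟩, fun a ha => ?_⟩
    have hca : a * c = c * a := Subgroup.mem_centralizer_iff.1 hc a (Subgroup.subset_closure ha)
    calc n * a * n⁻¹ = n * (a * c) * (c⁻¹ * n⁻¹) := by group
      _ = n * c * a * (n * c)⁻¹ := by rw [hca]; group

end Cfsg.Agent.S1967
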