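import Cfsg.Statements.S1968
import Cfsg.Agent.Lib.Local.ConjFamily

set_option autoImplicit false
open Cfsg

namespace Cfsg.Agent.S1968

theorem tower_shift {G : Type*} [Group G] (W : Subgroup G → Subgroup G) (S T : Subgroup G) (i : ℕ) :
    Cfsg.functorTower W S (W (S ⊓ Subgroup.normalizer ((T : Subgroup G) : Set G))) i =
      Cfsg.functorTower W S T (i + 1) := by
  induction i with
  | zero => rfl
  | succ i ih =>
    show W (S ⊓ Subgroup.normalizer ((Cfsg.functorTower W S _ i : Subgroup G) : Set G)) = _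
    rw [ih]; rfl

theorem map_conj_eq {G : Type*} [Group G] {R : Subgroup G} {u : G}
    (hu : u ∈ Subgroup.normalizer (R : Set G)) : R.map (MulAut.conj u).toMonoidHom = R := by
  ext z
  constructor
  · rintro ⟨r, hr, rfl⟩; exact (Subgroup.mem_normalizer_iff.1 hu r).1 hr
  · intro hz
    exact ⟨u⁻¹ * z * u, (Subgroup.mem_normalizer_iff''.1 hu z).1 hz, by simp [mul_assoc]⟩

theorem mem_normalizer_of_map_eq {G : Type*} [Group G] {R : Subgroup G} {u : G}
    (h : R.map (MulAut.conj u).toMonoidHom = R) : u ∈ Subgroup.normalizer (R : Set G) := by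
  rw [Subgroup.mem_normalizer_iff]
  intro z
  conv_rhs => rw [← h]
  constructor
  · exact fun hz => ⟨z, hz, rfl⟩
  · rintro ⟨w, hw, he⟩
    have : w = z := (MulAut.conj u).injective he
    exact this ▸ hw

theorem chain_moves {G : Type*} [Group G] [Finite G] {𝓕 : Set (Subgroup G)} (A : Subgroup G) {g : G}
    (h : Cfsg.Agent.Local.Chain 𝓕 (A : Set G) g) :
    ¬ (∀ a ∈ A, g⁻¹ * a * g ∈ A) →
    ∃ T, T ∈ 𝓕 ∧ A ≤ T ∧ ∃ x ∈ Subgroup.normalizer (T : Set G), ∃ a ∈ A, x⁻¹ * a * x ∉ A := by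
  generalize hB : (A : Set G) = B at h
  induction h with
  | nil => intro hne; exact absurd (fun a ha => by simpa using ha) hne
  | @cons B T x g hT hx hBT hrest ih =>
    subst hB
    intro hne
    by_cases hxA : ∀ a ∈ A, x⁻¹ * a * x ∈ A
    · by_cases himg : (fun a => x⁻¹ * a * x) '' (A : Set G) = (A : Set G)
      · refine ih himg.symm fun hgA => hne fun a ha => ?_
        rw [show (x * g)⁻¹ * a * (x * g) = g⁻¹ * (x⁻¹ * a * x) * g by group]
        exact hgA _ (hxA a ha)
      · exfalso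
        apply himg
        have : Set.MapsTo (fun a => x⁻¹ * a * x) (A : Set G) (A : Set G) := fun a ha => hxA a ha
        refine Set.Subset.antisymm this.image_subset fun a ha => ?_
        let f : A → A := fun b => ⟨x⁻¹ * b * x, hxA b b.2⟩
        have hf : Function.Injective f := fun b c e =>
          Subtype.ext (mul_left_cancel (mul_right_cancel (congrArg Subtype.val e)))
        obtain ⟨b, hb⟩ := (Finite.injective_iff_surjective.1 hf) ⟨a, ha⟩
        exact ⟨b, b.2, congrArg Subtype.val hb⟩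
    · push Not at hxA
      obtain ⟨a, ha, hax⟩ := hxA
      exact ⟨T, hT, hBT, x, hx, a, ha, hax⟩


/-- Let p be a prime, G a finite group with Sylow p-subgroup S and W a conjugacy functor for p on G with Z(P) ≤ W(P) for every p-subgroup P. Let A be a subgroup of Z(S) normalized by N_G(W(S)) that is not weakly closed in S with respect to G. Then there is a subgroup T of S, well placed in S with respect to W, such that: A ≤ T; N_G(W(N_S(T))) normalizes A; N_S(T) is a Sylow p-subgroup of N_G(T); A ≤ Z(N_S(T)); and A is not weakly closed in N_S(T) with respect to N_G(T), that is, some N_G(T)-conjugate of A other than A lies in N_S(T). -/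
theorem result {G : Type*} [Group G] [Finite G] {p : ℕ} [Fact p.Prime] (S : Sylow p G) (W : Subgroup G → Subgroup G) (hW : Cfsg.IsConjugacyFunctor p W) (hWZ : ∀ P : Subgroup G, IsPGroup p ↥P → P ⊓ Subgroup.centralizer (P : Set G) ≤ W P) (A : Subgroup G) (hAZ : A ≤ (S : Subgroup G) ⊓ Subgroup.centralizer ((S : Subgroup G) : Set G)) (hAN : Subgroup.normalizer ((W (S : Subgroup G) : Subgroup G) : Set G) ≤ Subgroup.normalizer ((A : Subgroup G) : Set G)) (hnwc : ¬ Cfsg.IsWeaklyClosed A (S : Subgroup G)) : ∃ T : Subgroup G, Cfsg.IsWellPlaced p W (S : Subgroup G) T ∧ A ≤ T ∧ Subgroup.normalizer ((W ((S : Subgroup G) ⊓ Subgroup.normalizer ((T : Subgroup G) : Set G)) : Subgroup G) : Set G) ≤ Subgroup.normalizer ((A : Subgroup G) : Set G) ∧ ¬ p ∣ ((S : Subgroup G) ⊓ Subgroup.normalizer ((T : Subgroup G) : Set G)).relIndex (Subgroup.normalizer ((T : Subgroup G) : Set G)) ∧ A ≤ Subgroup.centralizer (((S : Subgroup G) ⊓ Subgroup.normalizer ((T : Subgroup G) : Set G) : Subgroup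 G) : Set G) ∧ ∃ g ∈ Subgroup.normalizer ((T : Subgroup G) : Set G), A.map (MulAut.conj g).toMonoidHom ≤ (S : Subgroup G) ⊓ Subgroup.normalizer ((T : Subgroup G) : Set G) ∧ A.map (MulAut.conj g).toMonoidHom ≠ A := by
  have hAS : A ≤ (S : Subgroup G) := hAZ.trans inf_le_left
  obtain ⟨g, hg, hgne⟩ : ∃ g : G, A.map (MulAut.conj g).toMonoidHom ≤ (S : Subgroup G) ∧
      A.map (MulAut.conj g).toMonoidHom ≠ A := by
    by_contra hno
    push Not at hno
    exact hnwc ⟨hAS, hno⟩
  -- some well placed subgroup containing `A` has a normalizer moving `A`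
  have hc := Cfsg.Agent.Local.chain_of_conjugates S {T | Cfsg.IsWellPlaced p W (S : Subgroup G) T}
    (fun T hT => by
      obtain ⟨c, hc, -⟩ := Cfsg.Agent.Local.exists_isWellPlaced S W hW T hT
      exact ⟨_, hc, hc.1, ⟨c, rfl⟩, hc.2 0⟩) A hAS g⁻¹ (fun a ha => by
      rw [inv_inv]; exact hg ⟨a, ha, rfl⟩)
  have hex := chain_moves A hc (by
    intro h
    refine hgne (Subgroup.eq_of_le_of_card_ge ?_ (Nat.card_congr
      (A.equivMapOfInjective _ (MulAut.conj g).injective).toEquiv).le)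
    rintro _ ⟨a, ha, rfl⟩
    have h1 : g⁻¹⁻¹ * a * g⁻¹ ∈ A := h a ha
    rwa [inv_inv] at h1)
  obtain ⟨T, ⟨hT, hAT, hmove⟩, hmax⟩ := Set.Finite.exists_maximalFor
    (fun T : Subgroup G => Nat.card ↥((S : Subgroup G) ⊓ Subgroup.normalizer (T : Set G)))
    {T | Cfsg.IsWellPlaced p W (S : Subgroup G) T ∧ A ≤ T ∧
      ∃ x ∈ Subgroup.normalizer (T : Set G), ∃ a ∈ A, x⁻¹ * a * x ∉ A} (Set.toFinite _) hex
  set R := (S : Subgroup G) ⊓ Subgroup.normalizer (T : Set G) with hR
  have hRp : IsPGroup p R := S.isPGroup'.to_le inf_le_left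
  have hTR : T ≤ R := le_inf hT.1 Subgroup.le_normalizer
  have hAC : A ≤ Subgroup.centralizer (R : Set G) := fun a ha =>
    Subgroup.centralizer_le (inf_le_left : R ≤ (S : Subgroup G)) (hAZ ha).2
  obtain ⟨x, hx, a₀, ha₀, hxa⟩ := hmove
  refine ⟨T, hT, hAT, ?_, hT.2 0, hAC, x⁻¹, inv_mem hx, ?_, ?_⟩
  · intro y hy
    have hAU : A ≤ W R := fun a ha => hWZ R hRp ⟨hTR (hAT ha), hAC ha⟩
    by_cases hRS : R = (S : Subgroup G)
    · exact hAN (hRS ▸ hy)
    have hwp : Cfsg.IsWellPlaced p W (S : Subgroup G) (W R) := by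
      refine ⟨(hW R hRp).1.trans inf_le_left, fun i => ?_⟩
      rw [show Cfsg.functorTower W (S : Subgroup G) (W R) i = Cfsg.functorTower W (S : Subgroup G) T (i + 1) from
        tower_shift W (S : Subgroup G) T i]
      exact hT.2 (i + 1)
    have hlt := Cfsg.Agent.Local.lt_sylow_inf_normalizer S (lt_of_le_of_ne inf_le_left hRS)
    have hlt2 : R < (S : Subgroup G) ⊓ Subgroup.normalizer ((W R : Subgroup G) : Set G) := by
      refine hlt.trans_le (le_inf inf_le_left ?_)
      rintro u ⟨-, hu⟩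
      have h2 := (hW R hRp).2.2 u
      rw [map_conj_eq hu] at h2
      exact mem_normalizer_of_map_eq h2.symm
    have hall : ∀ z ∈ Subgroup.normalizer ((W R : Subgroup G) : Set G), ∀ a ∈ A, z⁻¹ * a * z ∈ A := by
      intro z hz a ha
      by_contra hmv
      have hcard := hmax (show W R ∈ {T | Cfsg.IsWellPlaced p W (S : Subgroup G) T ∧ A ≤ T ∧
        ∃ x ∈ Subgroup.normalizer (T : Set G), ∃ a ∈ A, x⁻¹ * a * x ∉ A} from ⟨hwp, hAU, z, hz, a, ha, hmv⟩)
        (Subgroup.card_le_of_le hlt2.le)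
      exact hlt2.ne (Subgroup.eq_of_le_of_card_ge hlt2.le hcard)
    rw [Subgroup.mem_normalizer_iff'']
    intro b
    refine ⟨hall y hy b, fun hb => ?_⟩
    have := hall y⁻¹ (inv_mem hy) _ hb
    simpa [mul_assoc] using this
  · rintro _ ⟨a, ha, rfl⟩
    refine hTR ?_
    have : x⁻¹ * a * x ∈ T := (Subgroup.mem_normalizer_iff''.1 hx a).1 (hAT ha)
    simpa using this
  · intro h
    have h1 : (MulAut.conj x⁻¹).toMonoidHom a₀ ∈ A.map (MulAut.conj x⁻¹).toMonoidHom :=
      Subgroup.mem_map_of_mem _ ha₀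
    rw [h] at h1
    exact hxa (by simpa using h1)

end Cfsg.Agent.S1968
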