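import Cfsg.Statements.S1970
import Cfsg.Agent.Lib.Local.TransferReduction

set_option autoImplicit false
universe u
open Cfsg

namespace Cfsg.Agent.S1970

/-- Let p be a prime, G a finite group and W an isomorphism-invariant p-group functor (W assigns to every group Q a subgroup W(Q), nontrivial whenever Q is a nontrivial finite p-group, and every isomorphism from a finite p-group Q onto a group R carries W(Q) onto W(R)). Suppose that for every section G* = K/R of G with C_{G*}(O_p(G*)) ≤ O_p(G*) and every Sylow p-subgroup S* of G*, one has O_p(G*) ∩ (G*)' = O_p(G*) ∩ (N_{G*}(W(S*)))'. Then W controls transfer in every section G* of G: S* ∩ (G*)' = S* ∩ (N_{G*}(W(S*)))' for a Sylow p-subgroup S* of G*. -/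
theorem result {G : Type u} [Group G] [Finite G] {p : ℕ} [Fact p.Prime] (W : ∀ (Q : Type u) [Group Q], Subgroup Q) (hW : Cfsg.IsCharPFunctor.{u} p W) (hloc : ∀ (K R : Subgroup G) [hR : (R.subgroupOf K).Normal], Subgroup.centralizer ((Cfsg.pCore p (↥K ⧸ R.subgroupOf K) : Subgroup (↥K ⧸ R.subgroupOf K)) : Set (↥K ⧸ R.subgroupOf K)) ≤ Cfsg.pCore p (↥K ⧸ R.subgroupOf K) → ∀ T : Sylow p (↥K ⧸ R.subgroupOf K), Cfsg.pCore p (↥K ⧸ R.subgroupOf K) ⊓ commutator (↥K ⧸ R.subgroupOf K) = Cfsg.pCore p (↥K ⧸ R.subgroupOf K) ⊓ ⁅Subgroup.normalizer ((Cfsg.inducedFunctor (G := (↥K ⧸ R.subgroupOf K)) W ((T : Subgroup (↥K ⧸ R.subgroupOf K))) : Subgroup (↥K ⧸ R.subgroupOf K)) : Set (↥K ⧸ R.subgroupOf K)), Subgroup.normalizer ((Cfsg.inducedFunctor (G := (↥K ⧸ R.subgroupOf K)) W ((T : Subgroup (↥K ⧸ R.subgroupOf K))) : Subgroup (↥K ⧸ R.subgroupOf K)) : Set (↥K ⧸ R.subgroupOf K))⁆) : ∀ (K R : Subgroup G) [hR : (R.subgroupOf K).Normal], Cfsg.ControlsTransferIn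 p (Cfsg.inducedFunctor (G := (↥K ⧸ R.subgroupOf K)) W) ⊤ := by
  have hF : Cfsg.Agent.Local.FusionRed.IsFam p {W} := by rintro _ rfl; exact hW
  have hyp : Cfsg.Agent.Local.TransferRed.HypT p G {W} := Cfsg.Agent.Local.TransferRed.hypT_of_sections hF fun K R _ hX T => by
    rw [hloc K R hX T]
    exact le_trans (inf_le_inf_right _ (Cfsg.Agent.Solv.pCore_le_sylow T))
      (Cfsg.Agent.Local.TransferRed.le_tSub (𝓕 := Cfsg.Agent.Local.FusionRed.ind (↥K ⧸ R.subgroupOf K) {W}) ⟨W, rfl, rfl⟩ _)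
  intro K R _
  obtain ⟨T⟩ := (inferInstance : Nonempty (Sylow p (↥K ⧸ R.subgroupOf K)))
  rw [Cfsg.Agent.Local.TransferRed.controlsTransferIn_iff]
  have h := Cfsg.Agent.Local.TransferRed.family_of_inf_commutator_le _ T (Cfsg.Agent.Local.TransferRed.ct_of_hyp hF _ (hyp.of_sec (Cfsg.Agent.Local.FusionRed.Sec.quotient K R)) T)
  rwa [Cfsg.Agent.Local.FusionRed.ind, Set.image_singleton] at h

end Cfsg.Agent.S1970
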