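import Cfsg.Statements.S1971
import Cfsg.Agent.Lib.Local.TransferReduction

set_option autoImplicit false
set_option linter.style.haveILetI false
universe u
open Cfsg

namespace Cfsg.Agent.S1971

open Subgroup in
theorem not_sylow_le_commutator {W : ∀ (Q : Type u) [Group Q], Subgroup Q} {p : ℕ} [Fact p.Prime]
    (hW : Cfsg.IsCharPFunctor.{u} p W) :
    ∀ (n : ℕ) (G : Type u) [Group G] [Finite G], Nat.card G ≤ n →
      (∀ (X : Type u) [Group X] [Finite X], Cfsg.Agent.Local.FusionRed.Sec X G →
        Cfsg.Agent.Local.TransferRed.CT p X {W}) →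
      ∀ S : Sylow p G, (S : Subgroup G) ≠ ⊥ →
      (∀ g ∈ normalizer ((S : Subgroup G) : Set G), (orderOf g).Coprime p → g ∈ centralizer ((S : Subgroup G) : Set G)) →
      ¬ (S : Subgroup G) ≤ _root_.commutator G := by
  intro n
  induction n with
  | zero =>
    intro G _ _ hn
    exact absurd (Nat.card_pos (α := G)) (by omega)
  | succ n ih =>
    intro G _ _ hn hsec S hS hN hle
    have hcj := Cfsg.Agent.Local.FusionRed.isConjugacyFunctor_induced (G := G) hW
    set WS := Cfsg.inducedFunctor W (S : Subgroup G) with hWS
    set N := normalizer (WS : Set G) with hNdef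
    have h1 : (S : Subgroup G) ≤ ⁅N, N⁆ := by
      intro x hx
      have h := hsec G Cfsg.Agent.Local.FusionRed.Sec.refl S ⟨hx, hle hx⟩
      rw [Cfsg.Agent.Local.TransferRed.tSub, Cfsg.Agent.Local.FusionRed.ind, Set.image_singleton] at h
      simp only [Set.mem_singleton_iff, iSup_iSup_eq_left] at h
      exact h.2
    have hSN : (S : Subgroup G) ≤ N :=
      le_normalizer.trans (Cfsg.Agent.Local.FusionRed.normalizer_le_normalizer_functor hcj S.isPGroup')
    by_cases htop : N = ⊤
    · haveI : WS.Normal := normalizer_eq_top_iff.1 htop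
      have hWle : WS ≤ (S : Subgroup G) := (hcj _ S.isPGroup').1
      have hWne : WS ≠ ⊥ := (hcj _ S.isPGroup').2.1 hS
      by_cases hWeq : WS = (S : Subgroup G)
      · haveI hSn : (S : Subgroup G).Normal := hWeq ▸ (inferInstance : WS.Normal)
        have hC : centralizer ((S : Subgroup G) : Set G) ⊔ (S : Subgroup G) = ⊤ := by
          refine eq_top_iff.2 fun g _ => ?_
          obtain ⟨k, m, hm, hom⟩ : ∃ k m : ℕ, ¬ p ∣ m ∧ orderOf g = p ^ k * m :=
            Nat.exists_eq_pow_mul_and_not_dvd (orderOf_pos g).ne' p (Fact.out : p.Prime).ne_one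
          have hm' : (p ^ k).Coprime m := Nat.Coprime.pow_left k ((Nat.Prime.coprime_iff_not_dvd Fact.out).2 hm)
          have hy : g ^ p ^ k ∈ centralizer ((S : Subgroup G) : Set G) := by
            refine hN _ (by rw [normalizer_eq_top_iff.2 hSn]; trivial) ?_
            rw [orderOf_pow_of_dvd (by simp [(Fact.out : p.Prime).ne_zero]) (hom ▸ dvd_mul_right _ _), hom,
              Nat.mul_div_cancel_left _ (pow_pos (Fact.out : p.Prime).pos k)]
            exact ((Nat.Prime.coprime_iff_not_dvd Fact.out).2 hm).symm
          have hx : g ^ m ∈ (S : Subgroup G) := by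
            have hp' : IsPGroup p (zpowers (g ^ m)) := by
              refine IsPGroup.of_card (n := k) ?_
              rw [Nat.card_zpowers, orderOf_pow_of_dvd (fun e : m = 0 => hm (e ▸ dvd_zero p)) (hom ▸ dvd_mul_left _ _),
                hom, Nat.mul_div_cancel _ (Nat.pos_of_ne_zero (n := m) fun e => hm (e ▸ dvd_zero p))]
            obtain ⟨P, hP⟩ := hp'.exists_le_sylow
            haveI := Sylow.unique_of_normal S hSn
            rw [← Subsingleton.elim P S]
            exact hP (mem_zpowers _)
          have hab : ((p ^ k : ℕ) : ℤ) * Nat.gcdA (p ^ k) m + ((m : ℕ) : ℤ) * Nat.gcdB (p ^ k) m = 1 := by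
            rw [← Nat.gcd_eq_gcd_ab, hm']; rfl
          rw [← zpow_one g, ← hab, zpow_add, zpow_mul, zpow_mul, zpow_natCast, zpow_natCast]
          exact mul_mem (mem_sup_left (zpow_mem hy _)) (mem_sup_right (zpow_mem hx _))
        haveI : Group.IsNilpotent (S : Subgroup G) := S.isPGroup'.isNilpotent
        haveI : Nontrivial (S : Subgroup G) := ((S : Subgroup G).nontrivial_iff_ne_bot).2 hS
        refine (Group.IsSolvable.commutator_lt_top_of_nontrivial (S : Subgroup G)).ne ?_
        refine map_injective (S : Subgroup G).subtype_injective ?_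
        rw [map_subtype_commutator, ← MonoidHom.range_eq_map, range_subtype]
        exact le_antisymm (commutator_le_self _) fun q hq =>
          Cfsg.Agent.Local.TransferRed.mem_commutator_sylow S _ le_rfl hC hq (hle hq)
      · let π := QuotientGroup.mk' WS
        have hπs : Function.Surjective π := QuotientGroup.mk'_surjective WS
        let Sb := S.mapSurjective hπs
        have hcomap : ((Sb : Subgroup (G ⧸ WS))).comap π = (S : Subgroup G) := by
          rw [Sylow.coe_mapSurjective, comap_map_eq, QuotientGroup.ker_mk', sup_eq_left.2 hWle]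
        refine ih (G ⧸ WS) ?_ (fun X _ _ hX => hsec X (hX.trans (Cfsg.Agent.Local.FusionRed.Sec.of_surjective π hπs)))
          Sb ?_ ?_ ?_
        · have h1 := card_eq_card_quotient_mul_card_subgroup WS
          have h2 := WS.one_lt_card_iff_ne_bot.2 hWne
          have h3 : Nat.card (G ⧸ WS) < Nat.card G := by
            rw [h1]; exact (lt_mul_iff_one_lt_right Nat.card_pos).2 h2
          omega
        · intro e
          refine hWeq (le_antisymm hWle fun x hx => (QuotientGroup.eq_one_iff x).1 ?_)
          have hx' : π x ∈ (Sb : Subgroup (G ⧸ WS)) := ⟨x, hx, rfl⟩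
          rwa [e, mem_bot] at hx'
        · intro yb hyb hcop
          obtain ⟨y, rfl⟩ := hπs yb
          have hyN : y ∈ normalizer ((S : Subgroup G) : Set G) := by
            have hy : y ∈ (normalizer ((Sb : Subgroup (G ⧸ WS)) : Set (G ⧸ WS))).comap π := hyb
            rwa [← hcomap, ← comap_normalizer_eq_of_surjective _ hπs]
          obtain ⟨k, m, hm, hom⟩ : ∃ k m : ℕ, ¬ p ∣ m ∧ orderOf y = p ^ k * m :=
            Nat.exists_eq_pow_mul_and_not_dvd (orderOf_pos y).ne' p (Fact.out : p.Prime).ne_one
          have hy' : y ^ p ^ k ∈ centralizer ((S : Subgroup G) : Set G) := by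
            refine hN _ (pow_mem hyN _) ?_
            rw [orderOf_pow_of_dvd (by simp [(Fact.out : p.Prime).ne_zero]) (hom ▸ dvd_mul_right _ _), hom,
              Nat.mul_div_cancel_left _ (pow_pos (Fact.out : p.Prime).pos k)]
            exact ((Nat.Prime.coprime_iff_not_dvd Fact.out).2 hm).symm
          obtain ⟨j, hj⟩ := exists_pow_eq_self_of_coprime (x := π y) (n := p ^ k)
            (Nat.Coprime.pow_left k hcop.symm)
          rw [← hj, ← map_pow π y]
          refine pow_mem ?_ j
          rw [mem_centralizer_iff]
          rintro _ ⟨a, ha, rfl⟩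
          rw [← map_mul, ← map_mul, mem_centralizer_iff.1 hy' a ha]
        · rintro _ ⟨x, hx, rfl⟩
          have : (_root_.commutator G).map π ≤ _root_.commutator (G ⧸ WS) := by
            rw [_root_.commutator_def, map_commutator]
            exact commutator_mono le_top le_top
          exact this ⟨x, hle hx, rfl⟩
    · let S' : Sylow p N := S.subtype hSN
      refine ih N ?_ (fun X _ _ hX => hsec X (hX.trans (Cfsg.Agent.Local.FusionRed.Sec.subgroup N))) S' ?_ ?_ ?_
      · have h1 := card_le_card_group N
        have h2 : Nat.card N ≠ Nat.card G := fun e => htop (eq_top_of_card_eq N e)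
        omega
      · intro e
        refine hS ?_
        rw [← map_subgroupOf_eq_of_le hSN, ← Sylow.coe_subtype S hSN, e, Subgroup.map_bot]
      · intro g hg hcop
        have hg' : (g : G) ∈ normalizer ((S : Subgroup G) : Set G) := by
          rw [← map_subgroupOf_eq_of_le hSN]
          exact le_normalizer_map N.subtype ⟨g, hg, rfl⟩
        rw [← Subgroup.orderOf_coe] at hcop
        have hc := hN _ hg' hcop
        rw [mem_centralizer_iff]
        intro a ha
        exact Subtype.ext (mem_centralizer_iff.1 hc (a : G) ha)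
      · intro x hx
        have h := h1 hx
        rw [← map_subtype_commutator] at h
        obtain ⟨y, hy, hyx⟩ := h
        rwa [← Subtype.ext hyx]


/-- Let p be a prime, G a finite group with nontrivial Sylow p-subgroup S, and W an isomorphism-invariant p-group functor (W assigns to every group Q a subgroup W(Q), nontrivial whenever Q is a nontrivial finite p-group, and every isomorphism from a finite p-group Q onto a group R carries W(Q) onto W(R)) that controls transfer in every section of G. If N_G(S)/C_G(S) is a p-group (every element of N_G(S) of order prime to p centralizes S), then G has a normal subgroup of index p. -/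
theorem result {G : Type u} [Group G] [Finite G] {p : ℕ} [Fact p.Prime] (W : ∀ (Q : Type u) [Group Q], Subgroup Q) (hW : Cfsg.IsCharPFunctor.{u} p W) (hctl : ∀ (K R : Subgroup G) [hR : (R.subgroupOf K).Normal], Cfsg.ControlsTransferIn p (Cfsg.inducedFunctor (G := (↥K ⧸ R.subgroupOf K)) W) ⊤) (S : Sylow p G) (hS : (S : Subgroup G) ≠ ⊥) (hN : ∀ g ∈ Subgroup.normalizer (((S : Subgroup G) : Subgroup G) : Set G), (orderOf g).Coprime p → g ∈ Subgroup.centralizer ((S : Subgroup G) : Set G)) : ∃ N : Subgroup G, N.Normal ∧ N.index = p := by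
  have hsec : ∀ (X : Type u) [Group X] [Finite X], Cfsg.Agent.Local.FusionRed.Sec X G →
      Cfsg.Agent.Local.TransferRed.CT p X {W} := by
    rintro X _ _ ⟨K, f, hf⟩
    have hF : Cfsg.Agent.Local.FusionRed.IsFam p {W} := by rintro _ rfl; exact hW
    have hker : (f.ker.map K.subtype).subgroupOf K = f.ker :=
      Subgroup.comap_map_eq_self_of_injective K.subtype_injective _
    haveI : ((f.ker.map K.subtype).subgroupOf K).Normal := by rw [hker]; infer_instance
    refine Cfsg.Agent.Local.TransferRed.ct_of_equiv hF
      ((QuotientGroup.quotientMulEquivOfEq hker).trans (QuotientGroup.quotientKerEquivOfSurjective f hf)) ?_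
    refine Cfsg.Agent.Local.TransferRed.ct_of_family hF ?_
    rw [Cfsg.Agent.Local.FusionRed.ind, Set.image_singleton, ← Cfsg.Agent.Local.TransferRed.controlsTransferIn_iff]
    exact hctl K _
  have hnle := not_sylow_le_commutator hW (Nat.card G) G le_rfl hsec S hS hN
  haveI : Nontrivial ((S : Subgroup G) ⧸ (S : Subgroup G).focalSubgroupOf) := by
    rw [← not_subsingleton_iff_nontrivial, QuotientGroup.subsingleton_iff]
    intro h
    refine hnle fun x hx => ?_
    exact Subgroup.focalSubgroup_le_commutator _
      (Subgroup.mem_subgroupOf.1 (h.ge (Subgroup.mem_top (⟨x, hx⟩ : (S : Subgroup G)))))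
  have hp : IsPGroup p ((S : Subgroup G) ⧸ (S : Subgroup G).focalSubgroupOf) := S.isPGroup'.to_quotient _
  obtain ⟨k, hk0, hk⟩ := (IsPGroup.nontrivial_iff_card hp).1 inferInstance
  obtain ⟨M, hM⟩ := Sylow.exists_subgroup_card_pow_prime p (n := k - 1)
    (G := (S : Subgroup G) ⧸ (S : Subgroup G).focalSubgroupOf) (hk ▸ pow_dvd_pow p (by omega))
  refine ⟨M.comap (S : Subgroup G).transferFocal, ?_, ?_⟩
  · refine Subgroup.Normal.comap ?_ _
    exact ⟨fun a ha g => by rwa [IsMulCommutative.is_comm.comm g a, mul_inv_cancel_right]⟩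
  · rw [Subgroup.index_comap_of_surjective _ (Subgroup.transferFocal_surjective S)]
    have h := M.card_mul_index
    rw [hM, hk] at h
    refine Nat.eq_of_mul_eq_mul_left (pow_pos (Fact.out : p.Prime).pos (k - 1)) (h.trans ?_)
    rw [← pow_succ]
    congr 1
    omega

end Cfsg.Agent.S1971
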