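import Cfsg.Statements.S1972
import Cfsg.Agent.Lib.Local.EngelTransfer

set_option autoImplicit false
universe u
open Cfsg

namespace Cfsg.Agent.S1972

/-- Let p be a prime, G a finite group and W an isomorphism-invariant p-group functor (W assigns to every group Q a subgroup W(Q), nontrivial whenever Q is a nontrivial finite p-group, and every isomorphism from a finite p-group Q onto a group R carries W(Q) onto W(R)). Suppose that whenever G* = K/R is a section of G with C_{G*}(O_p(G*)) ≤ O_p(G*) and S* is a Sylow p-subgroup of G* with W(S*) not normal in G*, there is an element g of S* outside O_p(G*) such that [X, g, …, g] ≤ Y with p − 1 entries g, for every chief factor X/Y of G* with X ≤ O_p(G*). Then W controls transfer in every section of G. -/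
theorem result {G : Type u} [Group G] [Finite G] {p : ℕ} [Fact p.Prime] (W : ∀ (Q : Type u) [Group Q], Subgroup Q) (hW : Cfsg.IsCharPFunctor.{u} p W) (hloc : ∀ (K R : Subgroup G) [hR : (R.subgroupOf K).Normal], Subgroup.centralizer ((Cfsg.pCore p (↥K ⧸ R.subgroupOf K) : Subgroup (↥K ⧸ R.subgroupOf K)) : Set (↥K ⧸ R.subgroupOf K)) ≤ Cfsg.pCore p (↥K ⧸ R.subgroupOf K) → ∀ T : Sylow p (↥K ⧸ R.subgroupOf K), ¬ (Cfsg.inducedFunctor (G := (↥K ⧸ R.subgroupOf K)) W ((T : Subgroup (↥K ⧸ R.subgroupOf K)))).Normal → ∃ g : (↥K ⧸ R.subgroupOf K), g ∈ (T : Subgroup (↥K ⧸ R.subgroupOf K)) ∧ g ∉ Cfsg.pCore p (↥K ⧸ R.subgroupOf K) ∧ ∀ U V : Subgroup (↥K ⧸ R.subgroupOf K), Cfsg.IsChiefFactor U V → U ≤ Cfsg.pCore p (↥K ⧸ R.subgroupOf K) → Cfsg.iterCommutator U (Subgroup.zpowers g) (p - 1) ≤ V) : ∀ (K R : Subgroup G) [hR : (R.subgroupOf K).Normal], Cfsg.ControlsTransferIn p (Cfsg.inducedFunctor (G := (↥K ⧸ R.subgroupOf K)) W) ⊤ := by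
  have hF : Cfsg.Agent.Local.FusionRed.IsFam p {W} := by rintro _ rfl; exact hW
  have hall := Cfsg.Agent.Local.EngelTransfer.ct_of_engel (G := G) hF (fun Y _ _ hY hYc T => ?_)
  · intro K R _
    obtain ⟨T⟩ := (inferInstance : Nonempty (Sylow p (↥K ⧸ R.subgroupOf K)))
    rw [Cfsg.Agent.Local.TransferRed.controlsTransferIn_iff]
    have h := Cfsg.Agent.Local.TransferRed.family_of_inf_commutator_le _ T
      (hall _ (Cfsg.Agent.Local.FusionRed.Sec.quotient K R) T)
    rwa [Cfsg.Agent.Local.FusionRed.ind, Set.image_singleton] at h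
  obtain ⟨K, f, hf⟩ := hY
  have hker : (f.ker.map K.subtype).subgroupOf K = f.ker :=
    Subgroup.comap_map_eq_self_of_injective K.subtype_injective _
  haveI : ((f.ker.map K.subtype).subgroupOf K).Normal := by rw [hker]; infer_instance
  let e : K ⧸ (f.ker.map K.subtype).subgroupOf K ≃* Y :=
    (QuotientGroup.quotientMulEquivOfEq hker).trans (QuotientGroup.quotientKerEquivOfSurjective f hf)
  let T' := T.mapSurjective (f := e.symm.toMonoidHom) e.symm.surjective
  have hback : (T'.toSubgroup).map e.toMonoidHom = (T : Subgroup Y) := by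
    show ((T : Subgroup Y).map e.symm.toMonoidHom).map e.toMonoidHom = _
    rw [Subgroup.map_map]
    convert Subgroup.map_id (T : Subgroup Y)
    ext; simp
  have hcore : (Cfsg.pCore p _).map e.toMonoidHom = Cfsg.pCore p Y := Cfsg.Agent.Solv.pCore_map_equiv p e
  by_cases hn : (Cfsg.inducedFunctor W T'.toSubgroup).Normal
  · refine Or.inl ⟨W, rfl, ?_⟩
    rw [← hback, Cfsg.Agent.Local.FusionRed.inducedFunctor_map hW e.toMonoidHom _ T'.isPGroup'
      fun x _ hx => e.injective (hx.trans (map_one _).symm)]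
    exact hn.map _ e.surjective
  right
  obtain ⟨g, hgT, hgQ, hg⟩ := hloc K _ (Cfsg.Agent.Local.FusionRed.centralizer_pCore_le_of_equiv e.symm hYc) T' hn
  refine ⟨e g, hback ▸ Subgroup.mem_map_of_mem _ hgT, fun h => hgQ ?_, fun U V hUV hU => ?_⟩
  · rw [← hcore] at h
    obtain ⟨x, hx, hxe⟩ := h
    rwa [← e.injective hxe]
  · have hcm : ∀ A : Subgroup Y, (A.comap e.toMonoidHom).map e.toMonoidHom = A :=
      fun A => Subgroup.map_comap_eq_self_of_surjective e.surjective A
    have hmc : ∀ A : Subgroup (K ⧸ (f.ker.map K.subtype).subgroupOf K), (A.map e.toMonoidHom).comap e.toMonoidHom = A :=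
      fun A => Subgroup.comap_map_eq_self_of_injective e.injective A
    obtain ⟨hlt, hUn, hVn, hmin⟩ := hUV
    have h := hg (U.comap e.toMonoidHom) (V.comap e.toMonoidHom)
      ⟨(Subgroup.comap_lt_comap_of_surjective e.surjective).2 hlt, hUn.comap _, hVn.comap _, fun N hN h1 h2 => by
        rcases hmin (N.map e.toMonoidHom) (hN.map _ e.surjective) ((hcm V).ge.trans (Subgroup.map_mono h1))
          ((Subgroup.map_mono h2).trans (hcm U).le) with h | h
        · exact Or.inl ((hmc N).symm.trans (congrArg _ h))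
        · exact Or.inr ((hmc N).symm.trans (congrArg _ h))⟩
      ((Subgroup.comap_mono (hU.trans hcore.ge)).trans (hmc _).le)
    have hit : ∀ k, Cfsg.iterCommutator U (Subgroup.zpowers (e g)) k =
        (Cfsg.iterCommutator (U.comap e.toMonoidHom) (Subgroup.zpowers g) k).map e.toMonoidHom := by
      intro k
      induction k with
      | zero => exact (hcm U).symm
      | succ k ih =>
        rw [Cfsg.iterCommutator, Cfsg.iterCommutator, ih, Subgroup.map_commutator, MonoidHom.map_zpowers]
        rfl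
    rw [hit]
    exact (Subgroup.map_mono h).trans (hcm V).le

end Cfsg.Agent.S1972
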