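import Cfsg.Statements.S1976
import Cfsg.Agent.S1975

set_option autoImplicit false
open Cfsg

namespace Cfsg.Agent.S1976


/-- Let P be a finite p-group. The K-sequence of P is eventually constant on each parity: from some index on, every even-indexed term equals the lower K-infinity subgroup and every odd-indexed term equals the upper K-infinity subgroup. -/
theorem result {P : Type*} [Group P] [Finite P] {p : ℕ} [Fact p.Prime] (hP : IsPGroup p P) : ∃ n : ℕ, ∀ m : ℕ, n ≤ m → Cfsg.kSeqEven P m = Cfsg.kInfLower P ∧ Cfsg.kSeqOdd P m = Cfsg.kInfUpper P := by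
  have hm : Monotone (Cfsg.kSeqEven P) := monotone_nat_of_le_succ fun n => (S1975.result hP n).2
  have ha : Antitone (Cfsg.kSeqOdd P) := antitone_nat_of_succ_le fun n => (S1975.result hP n).1
  obtain ⟨a, ha'⟩ := wellFoundedGT_iff_monotone_chain_condition.1 inferInstance ⟨_, hm⟩
  obtain ⟨b, hb'⟩ := wellFoundedGT_iff_monotone_chain_condition.1 (inferInstance : WellFoundedGT (Subgroup P)ᵒᵈ)
    ⟨fun n => OrderDual.toDual (Cfsg.kSeqOdd P n), ha⟩
  refine ⟨max a b, fun m hm' => ⟨?_, ?_⟩⟩
  · refine le_antisymm (le_iSup (Cfsg.kSeqEven P) m) (iSup_le fun k => ?_)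
    rcases le_total k m with h | h
    · exact hm h
    · exact ((ha' k (by omega)).symm.trans (ha' m (by omega))).le
  · refine le_antisymm (le_iInf fun k => ?_) (iInf_le (Cfsg.kSeqOdd P) m)
    rcases le_total k m with h | h
    · exact ha h
    · exact ((OrderDual.toDual.injective (hb' m (by omega))).symm.trans
        (OrderDual.toDual.injective (hb' k (by omega)))).le

end Cfsg.Agent.S1976
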