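import Cfsg.Statements.S1979
import Cfsg.Agent.Lib.Solv.KSeq

set_option autoImplicit false
open scoped Pointwise
open Cfsg

namespace Cfsg.Agent.S1979

/-- Let P be a finite p-group and Q a subgroup of P containing every term of the K-sequence of P of nonnegative index (every even-indexed term and every odd-indexed term after the initial term P). Then the K-infinity subgroups of Q, computed in Q and viewed in P, equal those of P. -/
theorem result {P : Type*} [Group P] [Finite P] {p : ℕ} [Fact p.Prime] (hP : IsPGroup p P) (Q : Subgroup P) (hQ : ∀ n : ℕ, Cfsg.kSeqEven P n ≤ Q ∧ Cfsg.kSeqOdd P (n + 1) ≤ Q) : (Cfsg.kInfLower ↥Q).map Q.subtype = Cfsg.kInfLower P ∧ (Cfsg.kInfUpper ↥Q).map Q.subtype = Cfsg.kInfUpper P := by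
  have hE : ∀ n, Solv.KInf.seqE (⊤ : Subgroup P) n ≤ Q := fun n => by
    rw [Solv.KInf.seqE, Solv.KInf.seqO_top, Solv.KInf.lo_top]
    exact (hQ n).1
  have hO : Solv.KInf.seqO (⊤ : Subgroup P) 1 ≤ Q := by
    rw [Solv.KInf.seqO_top]
    exact (hQ 0).2
  constructor
  · rw [← Solv.KInf.kLo_top, ← Solv.KInf.kLo_map Q.subtype Q.subtype_injective, ← MonoidHom.range_eq_map,
      Subgroup.range_subtype, Solv.KInf.kLo_eq_of_contains le_top hO hE, Solv.KInf.kLo_top]
  · rw [← Solv.KInf.kUp_top, ← Solv.KInf.kUp_map Q.subtype Q.subtype_injective, ← MonoidHom.range_eq_map,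
      Subgroup.range_subtype, Solv.KInf.kUp_eq_of_contains le_top hO hE, Solv.KInf.kUp_top]

end Cfsg.Agent.S1979
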