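import Cfsg.Statements.S1980
-- import your own Cfsg.Agent.* helpers here

set_option autoImplicit false
open Cfsg

namespace Cfsg.Agent.S1980


/-- Let P be a finite p-group and A an abelian normal subgroup of P. Then A belongs to every family used to build the K-sequence of P: the class-two family, every lower-star family relative to an odd-indexed term, and every upper-star family relative to an even-indexed term. In particular A lies in every term of the K-sequence. -/
theorem result {P : Type*} [Group P] [Finite P] {p : ℕ} [Fact p.Prime] (hP : IsPGroup p P) (A : Subgroup P) [A.Normal] (hA : IsMulCommutative ↥A) : A ∈ Cfsg.classTwoSubgroups P ∧ ∀ n : ℕ, A ∈ Cfsg.kLowerStarFamily (Cfsg.kSeqOdd P n) ∧ A ∈ Cfsg.kUpperStarFamily (Cfsg.kSeqEven P n) := by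
  have hc : ∀ X : Subgroup P, ⁅A, X⁆ ≤ A ⊓ Subgroup.centralizer (A : Set P) := fun X => by
    haveI := hA
    rw [inf_eq_left.2 (Subgroup.le_centralizer A)]
    exact Subgroup.commutator_le_left A X
  have h2 : A ∈ Cfsg.classTwoSubgroups P :=
    (Subgroup.commutator_le_self A).trans (haveI := hA; Subgroup.le_centralizer A)
  exact ⟨h2, fun n => ⟨⟨h2, Subgroup.le_normalizer_of_normal, fun B _ _ _ _ _ => hc B⟩, h2, hc _⟩⟩

end Cfsg.Agent.S1980
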