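import Cfsg.Statements.S1983
import Cfsg.Agent.Lib.Solv.KFourStep

set_option autoImplicit false
open scoped Pointwise
universe u
open Cfsg

namespace Cfsg.Agent.S1983

/-- Let p be a prime, G a finite group with Sylow p-subgroup S and T = O_p(G). Suppose that the lower or the upper K-infinity subgroup of S is not normal in G. Then there is an element g of S outside T such that [X, g, g, g, g] ≤ Y for every chief factor X/Y of G with X ≤ T, and [Z(T), g, g] = 1; and if moreover C_G(T) ≤ T then some quotient group of G is not p-stable (in the normalizer form: some quadratically acting element of a normalizer fails to map into O_p of the automizer). -/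
theorem result {G : Type u} [Group G] [Finite G] {p : ℕ} [Fact p.Prime] (S : Sylow p G) (hK : ¬ (Cfsg.inducedFunctor Cfsg.kInfLower (S : Subgroup G)).Normal ∨ ¬ (Cfsg.inducedFunctor Cfsg.kInfUpper (S : Subgroup G)).Normal) : ∃ g : G, g ∈ (S : Subgroup G) ∧ g ∉ (Cfsg.pCore p G) ∧ (∀ U V : Subgroup G, Cfsg.IsChiefFactor U V → U ≤ (Cfsg.pCore p G) → Cfsg.iterCommutator U (Subgroup.zpowers g) 4 ≤ V) ∧ ⁅⁅((Cfsg.pCore p G) ⊓ Subgroup.centralizer (((Cfsg.pCore p G) : Subgroup G) : Set G)), (Subgroup.zpowers g)⁆, (Subgroup.zpowers g)⁆ = ⊥ ∧ (Subgroup.centralizer (((Cfsg.pCore p G) : Subgroup G) : Set G) ≤ (Cfsg.pCore p G) → ∃ (N : Subgroup G) (_ : N.Normal), ¬ Cfsg.IsNormalizerPStable p (G ⧸ N)) := by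
  classical
  obtain ⟨H, hH, -, hH3, hH4⟩ := Agent.Fusion.exists_critical (Agent.Solv.isPGroup_pCore p G)
  haveI := hH
  haveI := Agent.Solv.pCore_characteristic p G
  set A := H.map (Cfsg.pCore p G).subtype with hA
  haveI hAn : A.Normal := inferInstance
  have hpre : Solv.KInf.PreCrit p G A := by
    refine ⟨hAn, Subgroup.map_subtype_le _, ?_⟩
    rintro _ ⟨a, ha, rfl⟩ q hq
    obtain ⟨h1, h2⟩ := hH3 a ha ⟨q, hq⟩
    refine ⟨⟨_, h1, rfl⟩, Subgroup.mem_centralizer_iff.mpr ?_⟩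
    rintro _ ⟨b, hb, rfl⟩
    exact (congrArg Subtype.val (h2 b hb)).symm
  have hself : Cfsg.pCore p G ⊓ Subgroup.centralizer (A : Set G) ≤ A := by
    rintro x ⟨hxQ, hxA⟩
    refine ⟨⟨x, hxQ⟩, hH4 (Subgroup.mem_centralizer_iff.mpr fun b hb => Subtype.ext ?_), rfl⟩
    exact Subgroup.mem_centralizer_iff.mp hxA _ (Subgroup.mem_map_of_mem (Cfsg.pCore p G).subtype hb)
  obtain ⟨T, hTS, hgood, hTQ⟩ := Solv.KInf.exists_good hpre S hK
  have main : ∀ g ∈ T, (∀ U V : Subgroup G, Cfsg.IsChiefFactor U V → U ≤ Cfsg.pCore p G →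
      Cfsg.iterCommutator U (Subgroup.zpowers g) 4 ≤ V) ∧
      ⁅⁅Cfsg.pCore p G ⊓ Subgroup.centralizer (Cfsg.pCore p G : Set G), Subgroup.zpowers g⁆, Subgroup.zpowers g⁆ = ⊥ := fun g hg => by
    have hz := Subgroup.zpowers_le.mpr hg
    have hq : ⁅⁅A ⊓ Subgroup.centralizer (A : Set G), Subgroup.zpowers g⁆, Subgroup.zpowers g⁆ = ⊥ :=
      le_bot_iff.mp ((Subgroup.commutator_mono (Subgroup.commutator_mono le_rfl hz) hz).trans hgood.quad.le)
    have hc : Cfsg.iterCommutator A (Subgroup.zpowers g) 3 ≤ A ⊓ Subgroup.centralizer (A : Set G) :=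
      (Subgroup.commutator_mono (Subgroup.commutator_mono (Subgroup.commutator_mono le_rfl hz) hz) hz).trans hgood.cubic
    refine ⟨fun U V hUV hU => Solv.KInf.iterCommutator_le_chief (Solv.KInf.four_below_pCore hpre hself hq hc) hUV hU,
      le_bot_iff.mp ((Subgroup.commutator_mono (Subgroup.commutator_mono ?_ le_rfl) le_rfl).trans hq.le)⟩
    intro x hx
    have hxA : x ∈ Subgroup.centralizer (A : Set G) :=
      Subgroup.centralizer_le (SetLike.coe_subset_coe.mpr hpre.le) hx.2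
    exact ⟨hself ⟨hx.1, hxA⟩, hxA⟩
  by_cases hc : Subgroup.centralizer (Cfsg.pCore p G : Set G) ≤ Cfsg.pCore p G
  · obtain ⟨g, hg, hgQ, U, V, hUV, hUA, hq, hn⟩ := Solv.KInf.exists_chief hpre
      (Solv.KInf.isPGroup_centralizer_of_self hc hself) hgood hTQ
    exact ⟨g, hTS hg, hgQ, (main g hg).1, (main g hg).2, fun _ => Solv.KInf.not_isNormalizerPStable_of_chief hUV
      ((Agent.Solv.isPGroup_pCore p G).to_le (hUA.trans hpre.le)) hq hn⟩
  · obtain ⟨g, hg, hgQ⟩ := SetLike.not_le_iff_exists.mp hTQ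
    exact ⟨g, hTS hg, hgQ, (main g hg).1, (main g hg).2, fun h => absurd h hc⟩

end Cfsg.Agent.S1983
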