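import Cfsg.Statements.S1984
import Cfsg.Agent.Lib.Solv.KLocal
import Cfsg.Agent.Lib.Local.EngelTransfer

set_option autoImplicit false
open scoped Pointwise
universe u
open Cfsg

namespace Cfsg.Agent.S1984

/-- Let p ≥ 5 be a prime and G a finite group. Then the lower K-infinity subgroup controls transfer in G: for some (equivalently, every) Sylow p-subgroup S of G, S ∩ G' = S ∩ (N_G(K))', where K is the lower K-infinity subgroup of S. -/
theorem result {G : Type u} [Group G] [Finite G] {p : ℕ} [Fact p.Prime] (hp : 5 ≤ p) : Cfsg.ControlsTransferIn p (Cfsg.inducedFunctor (G := G) Cfsg.kInfLower) ⊤ := by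
  have hF := Solv.KInf.isFam_kInfLower (p := p)
  have hall := Local.EngelTransfer.ct_of_engel (G := G) hF (fun Y _ _ hY hYc T => ?_)
  · obtain ⟨T⟩ := (inferInstance : Nonempty (Sylow p G))
    rw [Local.TransferRed.controlsTransferIn_iff]
    have h := Local.TransferRed.family_of_inf_commutator_le _ T (hall _ Local.FusionRed.Sec.refl T)
    rwa [Local.FusionRed.ind, Set.image_singleton] at h
  · by_cases hn : (Cfsg.inducedFunctor Cfsg.kInfLower (T : Subgroup Y)).Normal
    · exact Or.inl ⟨_, rfl, hn⟩
    right
    obtain ⟨g, hgT, hgQ, h4, -⟩ := Solv.KInf.exists_offender T hn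
    refine ⟨g, hgT, hgQ, fun U V hUV hU => ?_⟩
    obtain ⟨j, hj⟩ := Nat.exists_eq_add_of_le (show 4 ≤ p - 1 by omega)
    rw [hj]
    clear hj
    induction j with
    | zero => exact h4 U V hUV hU
    | succ j ih =>
      haveI := hUV.2.2.1
      exact (Subgroup.commutator_mono ih le_rfl).trans (Subgroup.commutator_le_left V _)

end Cfsg.Agent.S1984
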