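import Cfsg.Statements.S1988
import Cfsg.Agent.Lib.Solv.KApps
import Cfsg.Agent.Lib.Solv.KSelfCentralizing

set_option autoImplicit false
open scoped Pointwise
universe u
open Cfsg

namespace Cfsg.Agent.S1988

/-- Let p be an odd prime, G a finite group with Sylow p-subgroup S and K the lower K-infinity subgroup of S. If N_G(K) has a normal p-complement, or if N_G(K)/C_G(K) is a p-group (every element of N_G(K) of order prime to p centralizes K), then G has a normal p-complement. -/
theorem result {G : Type u} [Group G] [Finite G] {p : ℕ} [Fact p.Prime] (hp : p ≠ 2) (S : Sylow p G) (h : Cfsg.HasNormalPComplement p ↥(Subgroup.normalizer ((Cfsg.inducedFunctor Cfsg.kInfLower (S : Subgroup G) : Subgroup G) : Set G)) ∨ ∀ g ∈ Subgroup.normalizer ((Cfsg.inducedFunctor Cfsg.kInfLower (S : Subgroup G) : Subgroup G) : Set G), (orderOf g).Coprime p → g ∈ Subgroup.centralizer ((Cfsg.inducedFunctor Cfsg.kInfLower (S : Subgroup G) : Subgroup G) : Set G)) : Cfsg.HasNormalPComplement p G := by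
  refine Solv.KInf.npc_of_kInfLower hp S ?_
  rcases h with h | h
  · exact h
  · refine Solv.KInf.npc_normalizer_of_centralizing S (Subgroup.map_subtype_le _) ?_ ?_ h
    · exact Subgroup.le_normalizer.trans (Local.FusionRed.normalizer_le_normalizer_functor
        (Local.FusionRed.isConjugacyFunctor_induced Solv.KInf.isCharPFunctor_kInfLower) S.isPGroup')
    · rintro x ⟨hx, hxc⟩
      refine ⟨⟨x, hx⟩, Solv.KInf.centralizer_kInfLower_le S.isPGroup' (Subgroup.mem_centralizer_iff.mpr fun k hk => Subtype.ext ?_), rfl⟩
      exact Subgroup.mem_centralizer_iff.mp hxc _ ⟨k, hk, rfl⟩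

end Cfsg.Agent.S1988
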