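import Cfsg.Statements.S1989
import Cfsg.Agent.Lib.Solv.KApps

set_option autoImplicit false
open scoped Pointwise
universe u
open Cfsg

namespace Cfsg.Agent.S1989

/-- Let p be an odd prime and G a finite group. Then Qd(p) (the natural semidirect product of an elementary abelian group of order p² by SL₂(p)) is not involved in G if and only if, in every section K/R of G and for every Sylow p-subgroup T of K/R, the lower K-infinity subgroup of T controls strong fusion in K/R. -/
theorem result {G : Type u} [Group G] [Finite G] {p : ℕ} [Fact p.Prime] (hp : p ≠ 2) : ¬ Cfsg.Involves ↥(Cfsg.qd p) G ↔ ∀ (K R : Subgroup G) [hR : (R.subgroupOf K).Normal], ∀ T : Sylow p (↥K ⧸ R.subgroupOf K), Cfsg.ControlsStrongFusion p (Cfsg.inducedFunctor (G := (↥K ⧸ R.subgroupOf K)) Cfsg.kInfLower (T : Subgroup (↥K ⧸ R.subgroupOf K))) := by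
  constructor
  · intro h K R hR T
    haveI := hR
    exact Solv.KInf.controls_kInfLower (Solv.KInf.stabSec_of_qdFree hp fun h' => h (Solv.Quad.involves_of_section h')) T
  · rintro h ⟨K, R, hR, ⟨e⟩⟩
    haveI := hR
    obtain ⟨T, hT⟩ := Solv.KInf.exists_sylow_not_controls_kInf (p := p) hp
    apply hT
    rw [Solv.KInf.inducedFunctor_kInfLower]
    have h1 := h K R (T.mapSurjective (f := e.symm.toMonoidHom) e.symm.surjective)
    rw [Solv.KInf.inducedFunctor_kInfLower] at h1
    have h2 := Solv.Quad.controlsStrongFusion_map e h1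
    rw [← Solv.KInf.kLo_map e.toMonoidHom e.injective] at h2
    change ControlsStrongFusion p (Solv.KInf.kLo (((T : Subgroup (qd p)).map e.symm.toMonoidHom).map e.toMonoidHom)) at h2
    rwa [Subgroup.map_map, show e.toMonoidHom.comp e.symm.toMonoidHom = MonoidHom.id _ from MonoidHom.ext (fun x => e.apply_symm_apply x),
      Subgroup.map_id] at h2

end Cfsg.Agent.S1989
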