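import Cfsg.Statements.S1990
import Cfsg.Agent.Lib.Solv.QdProj
import Cfsg.Agent.Lib.Solv.ZJApps
import Cfsg.Agent.Lib.Local.NPCFunctor

set_option autoImplicit false
universe u
open Cfsg

namespace Cfsg.Agent.S1990

/-- Let p be an odd prime, G a finite group with Sylow p-subgroup S, and W an isomorphism-invariant p-group functor (W assigns to every group Q a subgroup W(Q), nontrivial whenever Q is a nontrivial finite p-group, and every isomorphism from a finite p-group Q onto a group R carries W(Q) onto W(R)). Suppose N_G(W(S)) has a normal p-complement, and W(T) controls strong fusion in every section G* = K/R of G all of whose sections are p-stable in the normalizer form, for every Sylow p-subgroup T of G*. Then G has a normal p-complement. -/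
theorem result {G : Type u} [Group G] [Finite G] {p : ℕ} [Fact p.Prime] (hp : p ≠ 2) (W : ∀ (Q : Type u) [Group Q], Subgroup Q) (hW : Cfsg.IsCharPFunctor.{u} p W) (S : Sylow p G) (hN : Cfsg.HasNormalPComplement p ↥(Subgroup.normalizer ((Cfsg.inducedFunctor (G := G) W (S : Subgroup G) : Subgroup G) : Set G))) (hctl : ∀ (K R : Subgroup G) [hR : (R.subgroupOf K).Normal], (∀ (K' R' : Subgroup (↥K ⧸ R.subgroupOf K)) [hR' : (R'.subgroupOf K').Normal], Cfsg.IsNormalizerPStable p (↥K' ⧸ R'.subgroupOf K')) → ∀ T : Sylow p (↥K ⧸ R.subgroupOf K), Cfsg.ControlsStrongFusion p (Cfsg.inducedFunctor (G := (↥K ⧸ R.subgroupOf K)) W (T : Subgroup (↥K ⧸ R.subgroupOf K)))) : Cfsg.HasNormalPComplement p G := by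
  refine Cfsg.Agent.Local.NPCFunctor.npc_of_functor hW (fun Y _ _ hYG hC hQ T hco => ?_) S hN
  obtain ⟨K, f, hf⟩ := hYG
  -- `Y` as a quotient of a subgroup of `G`
  haveI hn : ((f.ker.map K.subtype).subgroupOf K).Normal := by
    rw [show (f.ker.map K.subtype).subgroupOf K = f.ker from
      Subgroup.comap_map_eq_self_of_injective K.subtype_injective _]
    infer_instance
  let e : (↥K ⧸ (f.ker.map K.subtype).subgroupOf K) ≃* Y :=
    (QuotientGroup.quotientMulEquivOfEq (show (f.ker.map K.subtype).subgroupOf K = f.ker from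
      Subgroup.comap_map_eq_self_of_injective K.subtype_injective _)).trans
      (QuotientGroup.quotientKerEquivOfSurjective f hf)
  have hstab : ∀ (K' R' : Subgroup (↥K ⧸ (f.ker.map K.subtype).subgroupOf K))
      [hR' : (R'.subgroupOf K').Normal], Cfsg.IsNormalizerPStable p (↥K' ⧸ R'.subgroupOf K') := by
    intro K' R' hR'
    have hfree : ¬ Cfsg.Involves ↥(Cfsg.qd p) (↥K ⧸ (f.ker.map K.subtype).subgroupOf K) := fun h =>
      Cfsg.Agent.Local.not_involves_qd_of_not_invSL
        (Cfsg.Agent.Solv.ZJ.not_invSL_of_coatom hp hQ T hco)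
        (Cfsg.Agent.Solv.Quad.involves_of_surjective e.symm.toMonoidHom e.symm.surjective h)
    exact Cfsg.Agent.Solv.Quad.isNormalizerPStable_of_qdFree hp fun h =>
      hfree (Cfsg.Agent.Solv.Quad.involves_of_section h)
  let T' : Sylow p (↥K ⧸ (f.ker.map K.subtype).subgroupOf K) :=
    T.mapSurjective (f := e.symm.toMonoidHom) e.symm.surjective
  obtain ⟨U, hWU, hU⟩ := hctl K (f.ker.map K.subtype) hstab T'
  -- transport back to `Y`
  set W0 := Cfsg.inducedFunctor W (T : Subgroup Y) with hW0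
  have hW' : Cfsg.inducedFunctor W (T' : Subgroup _) = W0.map e.symm.toMonoidHom :=
    Cfsg.Agent.Local.FusionRed.inducedFunctor_map hW e.symm.toMonoidHom (T : Subgroup Y) T.isPGroup'
      (fun y _ hy => e.symm.injective (hy.trans e.symm.toMonoidHom.map_one.symm))
  rw [hW'] at hWU hU
  by_contra hnn
  have hW0T : (W0 : Subgroup Y) ≤ (T : Subgroup Y) := Subgroup.map_subtype_le _
  have hTN : (T : Subgroup Y) ≤ Subgroup.normalizer (W0 : Set Y) :=
    Subgroup.le_normalizer.trans (Cfsg.Agent.Local.FusionRed.normalizer_le_normalizer_functor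
      (Cfsg.Agent.Local.FusionRed.isConjugacyFunctor_induced hW) T.isPGroup')
  have hN0 : Subgroup.normalizer (W0 : Set Y) = (T : Subgroup Y) := by
    rcases hco.le_iff.mp hTN with h | h
    · exact absurd (Subgroup.normalizer_eq_top_iff.mp h) hnn
    · exact h
  have hz : ∀ z, z ∈ Subgroup.normalizer ((W0.map e.symm.toMonoidHom : Subgroup _) : Set _) →
      e z ∈ (T : Subgroup Y) := by
    intro z hz
    rw [← hN0, Subgroup.mem_normalizer_iff]
    intro y
    have h := Subgroup.mem_normalizer_iff.1 hz (e.symm y)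
    have hm : ∀ y : Y, e.symm y ∈ W0.map e.symm.toMonoidHom ↔ y ∈ W0 := fun y =>
      ⟨fun ⟨x, hx, h⟩ => e.symm.injective h ▸ hx, fun hy => ⟨y, hy, rfl⟩⟩
    rw [show z * e.symm y * z⁻¹ = e.symm (e z * y * (e z)⁻¹) by simp, hm, hm] at h
    exact h
  set O := Cfsg.pCore p Y with hOdef
  haveI hOn : O.Normal := by
    haveI := Cfsg.Agent.Solv.pCore_characteristic p Y
    infer_instance
  -- the Sylow subgroup of the fusion statement is the image of `T`
  have hU0 : ((U : Subgroup (↥K ⧸ (f.ker.map K.subtype).subgroupOf K))).map e.toMonoidHom =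
      (T : Subgroup Y) := by
    let U0 : Sylow p Y := U.mapSurjective (f := e.toMonoidHom) e.surjective
    have hOU : O ≤ (U0 : Subgroup Y) := Cfsg.Agent.Solv.pCore_le_sylow U0
    refine Subgroup.eq_of_le_of_card_ge ?_ ?_
    · rintro _ ⟨u, hu, rfl⟩
      obtain ⟨x, hx, hxu⟩ := (hU ((U : Subgroup (↥K ⧸ (f.ker.map K.subtype).subgroupOf K)) : Set (↥K ⧸ (f.ker.map K.subtype).subgroupOf K)) subset_rfl).2 u (by
        rintro _ ⟨a, ha, rfl⟩
        exact mul_mem (mul_mem hu (SetLike.mem_coe.1 ha)) (inv_mem hu))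
      have hc : e (x⁻¹ * u) ∈ O := by
        refine hC fun y hy => ?_
        obtain ⟨a, ha, rfl⟩ := hOU hy
        show e a * e (x⁻¹ * u) = e (x⁻¹ * u) * e a
        rw [← map_mul, ← map_mul]
        congr 1
        have h := hxu a ha
        calc a * (x⁻¹ * u) = x⁻¹ * (x * a * x⁻¹) * u := by group
          _ = x⁻¹ * (u * a * u⁻¹) * u := by rw [← h]
          _ = x⁻¹ * u * a := by group
      have h2 : e u = e x * e (x⁻¹ * u) := by rw [← map_mul]; congr 1; group
      show e u ∈ (T : Subgroup Y)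
      rw [h2]
      exact mul_mem (hz x hx) (Cfsg.Agent.Solv.pCore_le_sylow T hc)
    · exact ((show Nat.card (U0 : Subgroup Y) = Nat.card (T : Subgroup Y) from by
        rw [U0.card_eq_multiplicity, T.card_eq_multiplicity])).ge
  -- `T` controls its own fusion
  have hnpc : Cfsg.HasNormalPComplement p Y := by
    refine Cfsg.Agent.Solv.hasNormalPComplement_of_fusion T fun x hx g hg => ?_
    obtain ⟨x', hx', rfl⟩ := hU0.ge hx
    obtain ⟨w, hw, hwe⟩ := hU0.ge hg
    obtain ⟨z, hzN, hzx⟩ := (hU {x'} (Set.singleton_subset_iff.2 hx')).2 (e.symm g) (by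
      rintro _ ⟨a, ha, rfl⟩
      obtain rfl : x' = a := ha.symm
      have hwe' : e w = g * e x' * g⁻¹ := hwe
      show e.symm g * x' * (e.symm g)⁻¹ ∈ (U : Subgroup _)
      rwa [show e.symm g * x' * (e.symm g)⁻¹ = w from e.injective (by simp [hwe'])])
    refine ⟨e z, hz z hzN, ?_⟩
    have h := congrArg e (hzx x' rfl)
    simp at h
    exact h.symm
  obtain ⟨P, N, hNn, hNP⟩ := hnpc
  haveI := hNn
  have hNc : (Nat.card N).Coprime p := by
    rw [← hNP.index_eq_card]
    exact ((Fact.out : p.Prime).coprime_iff_not_dvd.2 P.not_dvd_index).symm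
  have hNO : N ≤ O := fun x hx => hC fun y hy => Subgroup.commute_of_normal_of_disjoint O N hOn hNn
    (disjoint_iff.2 (Cfsg.Agent.Solv.inf_eq_bot_of_isPGroup (Cfsg.Agent.Solv.isPGroup_pCore p Y) hNc))
    y x hy hx
  have hNbot : N = ⊥ := le_bot_iff.1 ((le_inf hNO le_rfl).trans
    (Cfsg.Agent.Solv.inf_eq_bot_of_isPGroup (Cfsg.Agent.Solv.isPGroup_pCore p Y) hNc).le)
  have hPtop : (P : Subgroup Y) = ⊤ := by
    have h := hNP.sup_eq_top
    rwa [hNbot, bot_sup_eq] at h
  refine hco.1 (Subgroup.eq_top_of_card_eq _ ?_)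
  rw [show Nat.card (T : Subgroup Y) = Nat.card (P : Subgroup Y) from by
    rw [T.card_eq_multiplicity, P.card_eq_multiplicity], hPtop, Subgroup.card_top]

end Cfsg.Agent.S1990
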