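import Cfsg.Statements.S1992
import Cfsg.Agent.S1991
import Cfsg.Agent.Lib.Char.Burnside

set_option autoImplicit false
open scoped Pointwise
open Cfsg

namespace Cfsg.Agent.S1992

/-- A solvable group all of whose Sylow subgroups are self-normalizing has prime power order. -/
theorem prime_power_of_solvable {G : Type*} [Group G] [Finite G] (hsolv : Group.IsSolvable G)
    (h : ∀ q : ℕ, q.Prime → q ∣ Nat.card G → ∀ Q : Sylow q G, Subgroup.normalizer ((Q : Subgroup G) : Set G) = Q) :
    ∃ q : ℕ, q.Prime ∧ IsPGroup q G := by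
  classical
  suffices main : ∀ (n : ℕ) (G : Type _) [Group G] [Finite G], Nat.card G ≤ n → Group.IsSolvable G →
      (∀ q : ℕ, q.Prime → q ∣ Nat.card G → ∀ Q : Sylow q G, Subgroup.normalizer ((Q : Subgroup G) : Set G) = Q) →
      ∃ q : ℕ, q.Prime ∧ IsPGroup q G from main _ G le_rfl hsolv h
  intro n
  induction n with
  | zero => intro G _ _ hn; exact absurd hn (not_le.mpr Nat.card_pos)
  | succ n ih =>
    intro G _ _ hn hsolv h
    haveI := hsolv
    by_cases htop : (⊤ : Subgroup G) = ⊥
    · refine ⟨2, Nat.prime_two, fun g => ⟨0, ?_⟩⟩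
      rw [pow_zero, pow_one]
      exact (Subgroup.mem_bot.mp (htop ▸ Subgroup.mem_top g))
    obtain ⟨N, hN, -, hN0, hmin⟩ := Agent.Solv.exists_minimal_normal_le (N := (⊤ : Subgroup G)) htop
    haveI := hN
    obtain ⟨r, hr, hNr⟩ : ∃ r, r.Prime ∧ IsPGroup r N := by
      obtain ⟨-, r, hr, he⟩ := Agent.Solv.minimal_normal_elementary N hN0 hmin
      exact ⟨r, hr, fun x => ⟨1, Subtype.ext (by simpa using he _ x.2)⟩⟩
    have hlt : Nat.card (G ⧸ N) ≤ n := by
      have h1 := N.card_mul_index
      rw [Subgroup.index_eq_card] at h1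
      have h2 : 1 < Nat.card N := N.one_lt_card_iff_ne_bot.mpr hN0
      have h3 : 0 < Nat.card (G ⧸ N) := Nat.card_pos
      nlinarith
    obtain ⟨q, hq, hQ⟩ := ih (G ⧸ N) hlt inferInstance (by
      intro q hq hqd Qb
      haveI : Fact q.Prime := ⟨hq⟩
      obtain ⟨Q, rfl⟩ := Sylow.mapSurjective_surjective (f := QuotientGroup.mk' N) (QuotientGroup.mk'_surjective N) q Qb
      have hqG : q ∣ Nat.card G := hqd.trans (Subgroup.card_quotient_dvd_card N)
      refine le_antisymm (fun y hy => ?_) Subgroup.le_normalizer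
      obtain ⟨g, rfl⟩ := QuotientGroup.mk'_surjective N y
      set K := ((Q : Subgroup G).map (QuotientGroup.mk' N)).comap (QuotientGroup.mk' N) with hK
      have hQK : (Q : Subgroup G) ≤ K := Subgroup.le_comap_map _ _
      have hgK : g ∈ Subgroup.normalizer (K : Set G) := by
        rw [Subgroup.mem_normalizer_iff]
        intro x
        have h1 := Subgroup.mem_normalizer_iff.mp hy (QuotientGroup.mk' N x)
        change (QuotientGroup.mk' N x ∈ (Q : Subgroup G).map (QuotientGroup.mk' N)) ↔ (QuotientGroup.mk' N (g * x * g⁻¹) ∈ (Q : Subgroup G).map (QuotientGroup.mk' N))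
        rw [map_mul, map_mul, map_inv]
        exact h1
      haveI : (K.subgroupOf (Subgroup.normalizer (K : Set G))).Normal := Subgroup.normal_in_normalizer
      have hle : (Q : Subgroup G) ≤ Subgroup.normalizer (K : Set G) := hQK.trans Subgroup.le_normalizer
      let QM : Sylow q (Subgroup.normalizer (K : Set G)) := Q.subtype hle
      obtain ⟨QK, hQK'⟩ : ∃ QK : Sylow q (K.subgroupOf (Subgroup.normalizer (K : Set G))),
          (QK : Subgroup _).map (K.subgroupOf (Subgroup.normalizer (K : Set G))).subtype = (QM : Subgroup _) := by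
        have hle' : (QM : Subgroup _) ≤ K.subgroupOf (Subgroup.normalizer (K : Set G)) := fun x hx => hQK hx
        exact ⟨QM.subtype hle', Subgroup.map_subgroupOf_eq_of_le hle'⟩
      have hfr := Sylow.normalizer_sup_eq_top QK
      rw [hQK'] at hfr
      have hall : Subgroup.normalizer (((QM : Sylow q (Subgroup.normalizer (K : Set G))) : Subgroup (Subgroup.normalizer (K : Set G))) : Set (Subgroup.normalizer (K : Set G))) ≤
          K.subgroupOf (Subgroup.normalizer (K : Set G)) := by
        intro x hx
        have hx' : (x : G) ∈ Subgroup.normalizer ((Q : Subgroup G) : Set G) :=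
          Subgroup.mem_normalizer_iff.mpr fun z => by
            constructor
            · intro hz
              exact (Subgroup.mem_normalizer_iff.mp hx ⟨z, hle hz⟩).mp hz
            · intro hz
              have hzM : z ∈ Subgroup.normalizer (K : Set G) := by
                have := mul_mem (mul_mem (inv_mem x.2) (hle hz)) x.2
                simpa [mul_assoc] using this
              exact (Subgroup.mem_normalizer_iff.mp hx ⟨z, hzM⟩).mpr hz
        rw [h q hq hqG Q] at hx'
        exact hQK hx'
      rw [sup_eq_right.mpr hall] at hfr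
      have : (⟨g, hgK⟩ : Subgroup.normalizer (K : Set G)) ∈ K.subgroupOf (Subgroup.normalizer (K : Set G)) :=
        hfr.ge (Subgroup.mem_top _)
      exact this)
    by_cases hrq : r = q
    · subst hrq
      haveI : Fact r.Prime := ⟨hr⟩
      refine ⟨r, hr, fun g => ?_⟩
      obtain ⟨k, hk⟩ := hQ (QuotientGroup.mk g)
      rw [← QuotientGroup.mk_pow, QuotientGroup.eq_one_iff] at hk
      obtain ⟨j, hj⟩ := hNr ⟨_, hk⟩
      refine ⟨k + j, ?_⟩
      rw [pow_add, pow_mul]
      exact congrArg Subtype.val hj
    · haveI : Fact r.Prime := ⟨hr⟩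
      haveI : Fact q.Prime := ⟨hq⟩
      obtain ⟨R, hR⟩ := hNr.exists_le_sylow
      have hRN : (R : Subgroup G) ≤ N := fun x hx => by
        rw [← QuotientGroup.eq_one_iff, ← orderOf_eq_one_iff]
        obtain ⟨k, hk⟩ := R.isPGroup' ⟨x, hx⟩
        obtain ⟨j, hj⟩ := hQ (QuotientGroup.mk x)
        exact Nat.eq_one_of_dvd_coprimes (Nat.Coprime.pow k j ((Nat.coprime_primes hr hq).mpr hrq))
          ((orderOf_map_dvd (QuotientGroup.mk' N) x).trans (orderOf_dvd_of_pow_eq_one (congrArg Subtype.val hk : x ^ r ^ k = 1)))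
          (orderOf_dvd_of_pow_eq_one hj)
      have hrd : r ∣ Nat.card G := by
        obtain ⟨m, hm⟩ := IsPGroup.iff_card.mp hNr
        have h2 : 1 < Nat.card N := N.one_lt_card_iff_ne_bot.mpr hN0
        refine dvd_trans ?_ N.card_subgroup_dvd_card
        rw [hm]
        exact dvd_pow_self r fun h0 => by rw [hm, h0, pow_zero] at h2; omega
      have := h r hr hrd R
      rw [le_antisymm hRN hR] at this
      refine ⟨r, hr, fun g => ?_⟩
      rw [Subgroup.normalizer_eq_top] at this
      obtain ⟨j, hj⟩ := hNr ⟨g, this.le (Subgroup.mem_top g)⟩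
      exact ⟨j, congrArg Subtype.val hj⟩

/-- Let G be a finite group in which, for every prime q dividing the order of G, every Sylow q-subgroup is its own normalizer. Then the order of G is a power of a single prime (G is a q-group for some prime q; for G trivial any prime works). -/
theorem result {G : Type*} [Group G] [Finite G] (h : ∀ q : ℕ, q.Prime → q ∣ Nat.card G → ∀ Q : Sylow q G, Subgroup.normalizer ((Q : Subgroup G) : Set G) = Q) : ∃ q : ℕ, q.Prime ∧ IsPGroup q G := by
  classical
  by_cases hbig : ∃ q, q.Prime ∧ 5 ≤ q ∧ q ∣ Nat.card G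
  · obtain ⟨q, hq, hq5, hqd⟩ := hbig
    haveI : Fact q.Prime := ⟨hq⟩
    obtain ⟨Q⟩ : Nonempty (Sylow q G) := inferInstance
    have hQne : (Q : Subgroup G) ≠ ⊥ := fun e => by
      have := Q.dvd_card_of_dvd_card hqd
      rw [e, Subgroup.card_bot] at this
      exact hq.one_lt.ne' (Nat.dvd_one.mp this)
    obtain ⟨N, hN, hidx⟩ := S1991.result hq5 Q hQne (by
      intro g hg hcop
      rw [h q hq hqd Q] at hg
      obtain ⟨k, hk⟩ := Q.isPGroup' ⟨g, hg⟩
      have h1 : g ^ q ^ k = 1 := congrArg Subtype.val hk
      have h2 : orderOf g = 1 :=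
        Nat.eq_one_of_dvd_coprimes (hcop.pow_right k) dvd_rfl (orderOf_dvd_of_pow_eq_one h1)
      rw [orderOf_eq_one_iff.mp h2]
      exact one_mem _)
    refine ⟨q, hq, ?_⟩
    by_contra hnp
    obtain ⟨r, hr, hrd, hrq⟩ : ∃ r, r.Prime ∧ r ∣ Nat.card G ∧ r ≠ q := by
      by_contra hno
      push Not at hno
      refine hnp (IsPGroup.of_card (n := (Nat.card G).primeFactorsList.length) ?_)
      exact Nat.eq_prime_pow_of_unique_prime_dvd Nat.card_pos.ne' fun {d} hd hdd => hno d hd hdd
    haveI : Fact r.Prime := ⟨hr⟩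
    haveI := hN
    obtain ⟨R⟩ : Nonempty (Sylow r G) := inferInstance
    have hRN : (R : Subgroup G) ≤ N := by
      intro x hx
      rw [← QuotientGroup.eq_one_iff, ← orderOf_eq_one_iff]
      obtain ⟨k, hk⟩ := R.isPGroup' ⟨x, hx⟩
      have h1 : x ^ r ^ k = 1 := congrArg Subtype.val hk
      have h2 : orderOf (QuotientGroup.mk' N x) ∣ r ^ k := (orderOf_map_dvd _ x).trans (orderOf_dvd_of_pow_eq_one h1)
      have h3 : orderOf (QuotientGroup.mk' N x) ∣ q := hidx ▸ (N.index_eq_card ▸ orderOf_dvd_natCard _)
      exact Nat.eq_one_of_dvd_coprimes (((Nat.coprime_primes hr hq).mpr hrq).pow_left k) h2 h3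
    obtain ⟨RN, hRN'⟩ : ∃ RN : Sylow r N, (RN : Subgroup N).map N.subtype = (R : Subgroup G) :=
      ⟨R.subtype hRN, Subgroup.map_subgroupOf_eq_of_le hRN⟩
    have hfr := Sylow.normalizer_sup_eq_top RN
    rw [hRN', h r hr hrd R, sup_eq_right.mpr hRN] at hfr
    rw [hfr, Subgroup.index_top] at hidx
    exact hq.one_lt.ne hidx
  · push Not at hbig
    have hsolv : Group.IsSolvable G := by
      refine Char.solvable_of_card_prime_pow_mul 2 3 Nat.prime_two Nat.prime_three _ G rfl
        ⟨(Nat.card G).factorization 2, (Nat.card G).factorization 3, ?_⟩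
      apply Nat.eq_of_factorization_eq Nat.card_pos.ne' (by positivity)
      intro r
      rw [Nat.factorization_mul (by positivity) (by positivity), Nat.Prime.factorization_pow Nat.prime_two,
        Nat.Prime.factorization_pow Nat.prime_three]
      simp only [Finsupp.add_apply, Finsupp.single_apply]
      by_cases hr : r.Prime
      · by_cases h2 : r = 2
        · subst h2; simp
        by_cases h3 : r = 3
        · subst h3; simp
        have hnd : ¬ r ∣ Nat.card G := fun hd => by
          have h5 := hbig r hr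
          have h6 := hr.two_le
          have : r ≠ 4 := fun e => by subst e; norm_num at hr
          by_contra
          exact absurd hd (h5 (by omega))
        rw [Nat.factorization_eq_zero_of_not_dvd hnd, if_neg (Ne.symm h2), if_neg (Ne.symm h3), add_zero]
      · rw [Nat.factorization_eq_zero_of_not_prime _ hr, if_neg (fun e => hr (by rw [← e]; exact Nat.prime_two)),
          if_neg (fun e => hr (by rw [← e]; exact Nat.prime_three)), add_zero]
    exact prime_power_of_solvable hsolv h

end Cfsg.Agent.S1992
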