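import Cfsg.Statements.S1993
import Cfsg.Agent.Lib.Solv.KLocal
import Cfsg.Agent.Lib.Local.EngelTransfer

set_option autoImplicit false
open scoped Pointwise
universe u
open Cfsg

namespace Cfsg.Agent.S1993

/-- Let p be a prime, G a finite group with Sylow p-subgroup S, and K the upper K-infinity subgroup of S. If p ≥ 5 then S ∩ G' = S ∩ (N_G(K))'; and if p is odd and every section of G is p-stable in the normalizer form, then K controls strong fusion in G. -/
theorem result {G : Type u} [Group G] [Finite G] {p : ℕ} [Fact p.Prime] (S : Sylow p G) : (5 ≤ p → (S : Subgroup G) ⊓ commutator G = (S : Subgroup G) ⊓ ⁅Subgroup.normalizer ((Cfsg.inducedFunctor Cfsg.kInfUpper (S : Subgroup G) : Subgroup G) : Set G), Subgroup.normalizer ((Cfsg.inducedFunctor Cfsg.kInfUpper (S : Subgroup G) : Subgroup G) : Set G)⁆) ∧ (p ≠ 2 → (∀ (K R : Subgroup G) [hR : (R.subgroupOf K).Normal], Cfsg.IsNormalizerPStable p (↥K ⧸ R.subgroupOf K)) → Cfsg.ControlsStrongFusion p (Cfsg.inducedFunctor Cfsg.kInfUpper (S : Subgroup G))) := by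
  constructor
  · intro hp
    have hF := Solv.KInf.isFam_kInfUpper (p := p)
    have hall := Local.EngelTransfer.ct_of_engel (G := G) hF (fun Y _ _ hY hYc T => ?_)
    · refine le_antisymm (fun x hx => ?_) (inf_le_inf_left _ (Subgroup.commutator_mono le_top le_top))
      have h := hall G Local.FusionRed.Sec.refl S hx
      rw [Local.TransferRed.tSub, Local.FusionRed.ind, Set.image_singleton] at h
      simp only [Set.mem_singleton_iff, iSup_iSup_eq_left] at h
      exact h
    · by_cases hn : (Cfsg.inducedFunctor Cfsg.kInfUpper (T : Subgroup Y)).Normal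
      · exact Or.inl ⟨_, rfl, hn⟩
      · right
        obtain ⟨g, h1, h2, h3⟩ := Solv.KInf.exists_engel hp T (Or.inr hn)
        exact ⟨g, h1, h2, h3⟩
  · intro hp hst
    exact Solv.KInf.controls_kInfUpper (Solv.KInf.stabSec_of_qdFree hp (Solv.KInf.not_involves_qd_of_sections hp hst)) S

end Cfsg.Agent.S1993
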