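import Cfsg.Statements.S1996
import Cfsg.Agent.Lib.Local.FusionReduction

set_option autoImplicit false
universe u
open Cfsg

namespace Cfsg.Agent.S1996

/-- Let p be a prime, G a finite group and W₁, W₂ two isomorphism-invariant p-group functors (W assigns to every group Q a subgroup W(Q), nontrivial whenever Q is a nontrivial finite p-group, and every isomorphism from a finite p-group Q onto a group R carries W(Q) onto W(R)). Suppose that G* = N_{G*}(W₁(S*)) N_{G*}(W₂(S*)) whenever G* = K/R is a section of G with C_{G*}(O_p(G*)) ≤ O_p(G*) and S* is a Sylow p-subgroup of G*. Then the pair {W₁, W₂} controls strong fusion in G. -/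
theorem result {G : Type u} [Group G] [Finite G] {p : ℕ} [Fact p.Prime] (W₁ W₂ : ∀ (Q : Type u) [Group Q], Subgroup Q) (hW₁ : Cfsg.IsCharPFunctor.{u} p W₁) (hW₂ : Cfsg.IsCharPFunctor.{u} p W₂) (hfac : ∀ (K R : Subgroup G) [hR : (R.subgroupOf K).Normal], Subgroup.centralizer ((Cfsg.pCore p (↥K ⧸ R.subgroupOf K) : Subgroup (↥K ⧸ R.subgroupOf K)) : Set (↥K ⧸ R.subgroupOf K)) ≤ Cfsg.pCore p (↥K ⧸ R.subgroupOf K) → ∀ T : Sylow p (↥K ⧸ R.subgroupOf K), ∀ x : (↥K ⧸ R.subgroupOf K), ∃ a ∈ Subgroup.normalizer ((Cfsg.inducedFunctor (G := (↥K ⧸ R.subgroupOf K)) W₁ (T : Subgroup (↥K ⧸ R.subgroupOf K)) : Subgroup (↥K ⧸ R.subgroupOf K)) : Set (↥K ⧸ R.subgroupOf K)), ∃ b ∈ Subgroup.normalizer ((Cfsg.inducedFunctor (G := (↥K ⧸ R.subgroupOf K)) W₂ (T : Subgroup (↥K ⧸ R.subgroupOf K)) : Subgroup (↥K ⧸ R.subgroupOf K)) : Set (↥K ⧸ R.subgroupOf K)), x = a * b) : Cfsg.FamilyControlsStrongFusionIn p {Cfsg.inducedFunctor (G :=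 G) W₁, Cfsg.inducedFunctor (G := G) W₂} ⊤ := by
  have hF : Cfsg.Agent.Local.FusionRed.IsFam p {W₁, W₂} := by rintro _ (rfl | rfl) <;> assumption
  obtain ⟨S⟩ := (inferInstance : Nonempty (Sylow p G))
  have he : ({Cfsg.inducedFunctor (G := G) W₁, Cfsg.inducedFunctor (G := G) W₂} : Set (Subgroup G → Subgroup G)) =
      Cfsg.Agent.Local.FusionRed.ind G {W₁, W₂} := by rw [Cfsg.Agent.Local.FusionRed.ind, Set.image_pair]
  rw [he]
  refine Cfsg.Agent.Local.FusionRed.family_of_ctrlAt (Cfsg.Agent.Local.FusionRed.ctrl_of_hyp hF G (Cfsg.Agent.Local.FusionRed.hyp_of_sections hF fun K R _ hX T => ?_) S)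
  intro A g hA hg
  obtain ⟨a, ha, b, hb, rfl⟩ := hfac K R hX T g
  have h1 : (T : Subgroup _) ≤ Subgroup.normalizer
      ((Cfsg.inducedFunctor W₁ (T : Subgroup (↥K ⧸ R.subgroupOf K)) : Subgroup (↥K ⧸ R.subgroupOf K)) : Set (↥K ⧸ R.subgroupOf K)) :=
    Subgroup.le_normalizer.trans
      (Cfsg.Agent.Local.FusionRed.normalizer_le_normalizer_functor (Cfsg.Agent.Local.FusionRed.isConjugacyFunctor_induced hW₁) T.isPGroup')
  have h2 : (T : Subgroup _) ≤ Subgroup.normalizer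
      ((Cfsg.inducedFunctor W₂ (T : Subgroup (↥K ⧸ R.subgroupOf K)) : Subgroup (↥K ⧸ R.subgroupOf K)) : Set (↥K ⧸ R.subgroupOf K)) :=
    Subgroup.le_normalizer.trans
      (Cfsg.Agent.Local.FusionRed.normalizer_le_normalizer_functor (Cfsg.Agent.Local.FusionRed.isConjugacyFunctor_induced hW₂) T.isPGroup')
  obtain ⟨m, hm, hmA⟩ := Cfsg.Agent.Local.FusionRed.exists_split T h1 h2 ha hb hA hg
  have r1 := Cfsg.Agent.Local.Reach.single (𝓦 := Cfsg.Agent.Local.FusionRed.ind (↥K ⧸ R.subgroupOf K) {W₁, W₂}) (A := A)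
    (W := Cfsg.inducedFunctor W₂) ⟨W₂, Or.inr rfl, rfl⟩ (Subgroup.mul_mem _ hm.2 hb) hA hmA
  have r2 := Cfsg.Agent.Local.Reach.single (𝓦 := Cfsg.Agent.Local.FusionRed.ind (↥K ⧸ R.subgroupOf K) {W₁, W₂})
    (W := Cfsg.inducedFunctor W₁) (y := a * m⁻¹) ⟨W₁, Or.inl rfl, rfl⟩
    (Subgroup.mul_mem _ ha (Subgroup.inv_mem _ hm.1)) r1.image_subset (by
      rw [Cfsg.Agent.Local.image_lconj_mul, show a * m⁻¹ * (m * b) = a * b by group]
      exact hg)
  have r3 := r1.trans r2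
  rwa [show a * m⁻¹ * (m * b) = a * b by group] at r3

end Cfsg.Agent.S1996
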