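import Cfsg.Statements.S1997
import Cfsg.Agent.Lib.Local.TripleFactor
-- import your own Cfsg.Agent.* helpers here

set_option autoImplicit false
universe u
open Cfsg

namespace Cfsg.Agent.S1997

/-- Let p be a prime, G a finite group with Sylow p-subgroup S, and W₁, W₂ two isomorphism-invariant p-group functors (W assigns to every group Q a subgroup W(Q), nontrivial whenever Q is a nontrivial finite p-group, and every isomorphism from a finite p-group Q onto a group R carries W(Q) onto W(R)). Suppose that G* = C_{G*}(Ω₁Z(S*)) N_{G*}(W₁(S*)) = C_{G*}(Ω₁Z(S*)) N_{G*}(W₂(S*)) = N_{G*}(W₁(S*)) N_{G*}(W₂(S*)) whenever G* = K/R is a section of G with C_{G*}(O_p(G*)) ≤ O_p(G*) and S* is a Sylow p-subgroup of G*, where Ω₁Z denotes the subgroup generated by the elements of order dividing p in the centre. Suppose also Ω₁Z(S) ≤ W₁(S) ∩ W₂(S), and let A be the normal closure of Ω₁Z(S) in N_G(W₁(S)). Then A is an elementary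 abelian subgroup of S, strongly closed in S with respect to G, and A controls strong fusion in G. -/
theorem result {G : Type u} [Group G] [Finite G] {p : ℕ} [Fact p.Prime] (S : Sylow p G) (W₁ W₂ : ∀ (Q : Type u) [Group Q], Subgroup Q) (hW₁ : Cfsg.IsCharPFunctor.{u} p W₁) (hW₂ : Cfsg.IsCharPFunctor.{u} p W₂) (hfac : ∀ (K R : Subgroup G) [hR : (R.subgroupOf K).Normal], Subgroup.centralizer ((Cfsg.pCore p (↥K ⧸ R.subgroupOf K) : Subgroup (↥K ⧸ R.subgroupOf K)) : Set (↥K ⧸ R.subgroupOf K)) ≤ Cfsg.pCore p (↥K ⧸ R.subgroupOf K) → ∀ T : Sylow p (↥K ⧸ R.subgroupOf K), (∀ x : (↥K ⧸ R.subgroupOf K), ∃ a ∈ Subgroup.centralizer ((Cfsg.omegaOne p ((T : Subgroup (↥K ⧸ R.subgroupOf K)) ⊓ Subgroup.centralizer (((T : Subgroup (↥K ⧸ R.subgroupOf K)) : Subgroup (↥K ⧸ R.subgroupOf K)) : Set (↥K ⧸ R.subgroupOf K))) : Subgroup (↥K ⧸ R.subgroupOf K)) : Set (↥K ⧸ R.subgroupOf K)), ∃ b ∈ Subgroup.normalizer ((Cfsg.inducedFunctor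 (G := (↥K ⧸ R.subgroupOf K)) W₁ (T : Subgroup (↥K ⧸ R.subgroupOf K)) : Subgroup (↥K ⧸ R.subgroupOf K)) : Set (↥K ⧸ R.subgroupOf K)), x = a * b) ∧ (∀ x : (↥K ⧸ R.subgroupOf K), ∃ a ∈ Subgroup.centralizer ((Cfsg.omegaOne p ((T : Subgroup (↥K ⧸ R.subgroupOf K)) ⊓ Subgroup.centralizer (((T : Subgroup (↥K ⧸ R.subgroupOf K)) : Subgroup (↥K ⧸ R.subgroupOf K)) : Set (↥K ⧸ R.subgroupOf K))) : Subgroup (↥K ⧸ R.subgroupOf K)) : Set (↥K ⧸ R.subgroupOf K)), ∃ b ∈ Subgroup.normalizer ((Cfsg.inducedFunctor (G := (↥K ⧸ R.subgroupOf K)) W₂ (T : Subgroup (↥K ⧸ R.subgroupOf K)) : Subgroup (↥K ⧸ R.subgroupOf K)) : Set (↥K ⧸ R.subgroupOf K)), x = a * b) ∧ (∀ x : (↥K ⧸ R.subgroupOf K), ∃ a ∈ Subgroup.normalizer ((Cfsg.inducedFunctor (G := (↥K ⧸ R.subgroupOf K)) W₁ (T : Subgroup (↥K ⧸ R.subgroupOf K)) : Subgroup (↥K ⧸ R.subgroupOf K)) : Set (↥K ⧸ R.subgroupOf K)), ∃ b ∈ Subgroup.normalizer ((Cfsg.inducedFunctor (G := (↥K ⧸ R.subgroupOf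 K)) W₂ (T : Subgroup (↥K ⧸ R.subgroupOf K)) : Subgroup (↥K ⧸ R.subgroupOf K)) : Set (↥K ⧸ R.subgroupOf K)), x = a * b)) (hZ : Cfsg.omegaOne p ((S : Subgroup G) ⊓ Subgroup.centralizer (((S : Subgroup G) : Subgroup G) : Set G)) ≤ Cfsg.inducedFunctor (G := G) W₁ (S : Subgroup G) ⊓ Cfsg.inducedFunctor (G := G) W₂ (S : Subgroup G)) (N₁ : Subgroup G) (hN₁ : N₁ = Subgroup.normalizer ((Cfsg.inducedFunctor (G := G) W₁ (S : Subgroup G) : Subgroup G) : Set G)) (A : Subgroup G) (hA : A = (Subgroup.normalClosure (((Cfsg.omegaOne p ((S : Subgroup G) ⊓ Subgroup.centralizer (((S : Subgroup G) : Subgroup G) : Set G))).subgroupOf N₁ : Subgroup ↥N₁) : Set ↥N₁)).map N₁.subtype) : A ≤ (S : Subgroup G) ∧ Cfsg.IsElementaryAbelian p A ∧ Cfsg.IsStronglyClosed A (S : Subgroup G) ∧ Cfsg.ControlsStrongFusion p A := by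
  classical
  set Z := Cfsg.omegaOne p ((S : Subgroup G) ⊓ Subgroup.centralizer (((S : Subgroup G) : Subgroup G) : Set G)) with hZdef
  set w₁ := Cfsg.inducedFunctor (G := G) W₁ (S : Subgroup G) with hw₁
  set w₂ := Cfsg.inducedFunctor (G := G) W₂ (S : Subgroup G) with hw₂
  set N₂ := Subgroup.normalizer (w₂ : Set G) with hN₂
  let Cl : Subgroup G → Subgroup G := fun N =>
    Subgroup.closure {x | ∃ n ∈ N, ∃ z ∈ Z, n * z * n⁻¹ = x}
  have hClN : ∀ N : Subgroup G, N ≤ Subgroup.normalizer (Cl N : Set G) := by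
    intro N
    refine Cfsg.Agent.Solv.le_normalizer_of_conj_mem fun g hg x hx => ?_
    have h : (Cl N).map (MulAut.conj g).toMonoidHom ≤ Cl N := by
      rw [MonoidHom.map_closure, Subgroup.closure_le]
      rintro _ ⟨_, ⟨n, hn, z, hz, rfl⟩, rfl⟩
      exact Subgroup.subset_closure ⟨g * n, mul_mem hg hn, z, hz, by simp [mul_assoc]⟩
    exact h ⟨x, hx, rfl⟩
  have hwS₁ : w₁ ≤ (S : Subgroup G) := Subgroup.map_subtype_le _
  have hwS₂ : w₂ ≤ (S : Subgroup G) := Subgroup.map_subtype_le _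
  have hZ₁ : Z ≤ w₁ := hZ.trans inf_le_left
  have hZ₂ : Z ≤ w₂ := hZ.trans inf_le_right
  have hZS : Z ≤ (S : Subgroup G) := hZ₁.trans hwS₁
  have hSN₁ : (S : Subgroup G) ≤ N₁ := hN₁ ▸ Subgroup.le_normalizer.trans
    (Cfsg.Agent.Local.FusionRed.normalizer_le_normalizer_functor
      (Cfsg.Agent.Local.FusionRed.isConjugacyFunctor_induced hW₁) S.isPGroup')
  -- the two closures agree
  have hswap : ∀ (Wa Wb : ∀ (Q : Type u) [Group Q], Subgroup Q), Cfsg.IsCharPFunctor.{u} p Wa →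
      Cfsg.IsCharPFunctor.{u} p Wb → Z ≤ Cfsg.inducedFunctor (G := G) Wa (S : Subgroup G) →
      (∀ (K R : Subgroup G) [hR : (R.subgroupOf K).Normal],
        Subgroup.centralizer (Cfsg.pCore p (K ⧸ R.subgroupOf K) : Set (K ⧸ R.subgroupOf K)) ≤ Cfsg.pCore p (K ⧸ R.subgroupOf K) →
        ∀ T : Sylow p (K ⧸ R.subgroupOf K), ∀ x : K ⧸ R.subgroupOf K,
          ∃ a ∈ Subgroup.centralizer ((Cfsg.omegaOne p ((T : Subgroup (K ⧸ R.subgroupOf K)) ⊓
            Subgroup.centralizer ((T : Subgroup (K ⧸ R.subgroupOf K)) : Set (K ⧸ R.subgroupOf K))) :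
              Subgroup (K ⧸ R.subgroupOf K)) : Set (K ⧸ R.subgroupOf K)),
          ∃ b ∈ Subgroup.normalizer ((Cfsg.inducedFunctor Wb (T : Subgroup (K ⧸ R.subgroupOf K)) :
              Subgroup (K ⧸ R.subgroupOf K)) : Set (K ⧸ R.subgroupOf K)), x = a * b) →
      Cl (Subgroup.normalizer ((Cfsg.inducedFunctor (G := G) Wa (S : Subgroup G) : Subgroup G) : Set G)) ≤
        Cl (Subgroup.normalizer ((Cfsg.inducedFunctor (G := G) Wb (S : Subgroup G) : Subgroup G) : Set G)) := by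
    intro Wa Wb hWa hWb hle hf
    rw [Subgroup.closure_le]
    rintro _ ⟨n, hn, z, hz, rfl⟩
    obtain ⟨c, hc, b, hb, he⟩ :=
      Cfsg.Agent.Local.TripleFactor.exists_factor hWa hWb hf S hle (inv_mem hn)
    refine Subgroup.subset_closure ⟨b⁻¹, inv_mem hb, z, hz, ?_⟩
    have hn' : n = b⁻¹ * c⁻¹ := by rw [← inv_inv n, he, mul_inv_rev]
    have hcz : c⁻¹ * z * c = z := by
      rw [mul_assoc, Subgroup.mem_centralizer_iff.1 hc z hz, inv_mul_cancel_left]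
    rw [hn']
    calc b⁻¹ * z * b⁻¹⁻¹ = b⁻¹ * (c⁻¹ * z * c) * b := by rw [hcz, inv_inv]
      _ = b⁻¹ * c⁻¹ * z * (b⁻¹ * c⁻¹)⁻¹ := by group
  have hCl : Cl N₁ = Cl N₂ := by
    rw [hN₁]
    exact le_antisymm (hswap W₁ W₂ hW₁ hW₂ hZ₁ fun K R _ h T => (hfac K R h T).2.1)
      (hswap W₂ W₁ hW₂ hW₁ hZ₂ fun K R _ h T => (hfac K R h T).1)
  have hA' : A = Cl N₁ := by
    subst hA
    refine le_antisymm ?_ ?_
    · rw [Subgroup.map_le_iff_le_comap]
      haveI : ((Cl N₁).comap N₁.subtype).Normal :=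
        ⟨fun x hx g => (Subgroup.mem_normalizer_iff.1 (hClN N₁ g.2) x).1 hx⟩
      refine Subgroup.normalClosure_le_normal fun x hx => ?_
      exact Subgroup.subset_closure ⟨1, one_mem _, x, hx, by simp⟩
    · rw [Subgroup.closure_le]
      rintro _ ⟨n, hn, z, hz, rfl⟩
      exact ⟨⟨n, hn⟩ * ⟨z, hSN₁ (hZS hz)⟩ * (⟨n, hn⟩ : N₁)⁻¹,
        Subgroup.normalClosure_normal.conj_mem _
          (Subgroup.subset_normalClosure (show (⟨z, hSN₁ (hZS hz)⟩ : N₁) ∈ Z.subgroupOf N₁ from hz)) _, rfl⟩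
  have hAw : A ≤ w₁ := by
    rw [hA', Subgroup.closure_le]
    rintro _ ⟨n, hn, z, hz, rfl⟩
    rw [hN₁] at hn
    exact (Subgroup.mem_normalizer_iff.1 hn z).1 (hZ₁ hz)
  have hAS : A ≤ (S : Subgroup G) := hAw.trans hwS₁
  have hZc : ∀ z ∈ Z, z ∈ Subgroup.centralizer ((S : Subgroup G) : Set G) := fun z hz =>
    ((Subgroup.closure_le _).2 (fun v hv => hv.1.2 : _ ⊆ (Subgroup.centralizer ((S : Subgroup G) : Set G) : Set G))) hz
  have hAel : Cfsg.IsElementaryAbelian p A := by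
    have hgen : ∀ x ∈ {x | ∃ n ∈ N₁, ∃ z ∈ Z, n * z * n⁻¹ = x}, x ∈ Subgroup.centralizer (A : Set G) := by
      rintro _ ⟨n, hn, z, hz, rfl⟩
      rw [Subgroup.mem_centralizer_iff]
      intro a ha
      have h1 : n⁻¹ * a * n ∈ (S : Subgroup G) := by
        refine hwS₁ ((Subgroup.mem_normalizer_iff''.1 (hN₁ ▸ hn) a).1 (hAw ha))
      have h2 := Subgroup.mem_centralizer_iff.1 (hZc z hz) _ h1
      calc a * (n * z * n⁻¹) = n * ((n⁻¹ * a * n) * z) * n⁻¹ := by group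
        _ = n * z * n⁻¹ * a := by rw [h2]; group
    have hAA : A ≤ Subgroup.centralizer (A : Set G) := hA'.le.trans ((Subgroup.closure_le _).2 hgen)
    have hexp : ∀ a ∈ A, a ∈ A ∧ a ^ p = 1 := by
      intro a ha
      rw [hA'] at ha
      refine ⟨hA'.ge ha, ?_⟩
      induction ha using Subgroup.closure_induction with
      | mem x hx =>
        obtain ⟨n, hn, z, hz, rfl⟩ := hx
        have hzp : z ^ p = 1 := by
          rw [hZdef] at hz
          suffices z ∈ (S : Subgroup G) ⊓ Subgroup.centralizer ((S : Subgroup G) : Set G) ∧ z ^ p = 1 from this.2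
          induction hz using Subgroup.closure_induction with
          | mem v hv => exact hv
          | one => exact ⟨one_mem _, one_pow p⟩
          | mul a b _ _ ha hb =>
            refine ⟨mul_mem ha.1 hb.1, ?_⟩
            rw [(show Commute a b from (Subgroup.mem_centralizer_iff.1 hb.1.2 a ha.1.1)).mul_pow, ha.2, hb.2, one_mul]
          | inv a _ ha => exact ⟨inv_mem ha.1, by rw [inv_pow, ha.2, inv_one]⟩
        rw [conj_pow, hzp]; group
      | one => exact one_pow p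
      | mul a b ha' hb' ha hb =>
        rw [(show Commute a b from (Subgroup.mem_centralizer_iff.1 (hAA (hA'.ge ha')) b (hA'.ge hb')).symm).mul_pow,
          ha, hb, one_mul]
      | inv a _ ha => rw [inv_pow, ha, inv_one]
    exact ⟨⟨⟨fun a b => Subtype.ext (Subgroup.mem_centralizer_iff.1 (hAA b.2) a a.2)⟩⟩, fun a ha => (hexp a ha).2⟩
  -- fusion
  let 𝓦 : Set (∀ (Q : Type u) [Group Q], Subgroup Q) := {W | W = W₁ ∨ W = W₂}
  have hF : Cfsg.Agent.Local.FusionRed.IsFam p 𝓦 := by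
    rintro W (rfl | rfl)
    · exact hW₁
    · exact hW₂
  have hyp : Cfsg.Agent.Local.FusionRed.Hyp p G 𝓦 := by
    refine Cfsg.Agent.Local.FusionRed.hyp_of_sections hF fun K R _ hX T B g hB hg => ?_
    obtain ⟨a, ha, b, hb, rfl⟩ := (hfac K R hX T).2.2 g
    have hle : ∀ W, Cfsg.IsCharPFunctor.{u} p W → (T : Subgroup (K ⧸ R.subgroupOf K)) ≤
        Subgroup.normalizer ((Cfsg.inducedFunctor W (T : Subgroup (K ⧸ R.subgroupOf K)) : Subgroup _) : Set _) :=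
      fun W hW => Subgroup.le_normalizer.trans (Cfsg.Agent.Local.FusionRed.normalizer_le_normalizer_functor
        (Cfsg.Agent.Local.FusionRed.isConjugacyFunctor_induced hW) T.isPGroup')
    obtain ⟨m, hm, hmB⟩ := Cfsg.Agent.Local.FusionRed.exists_split T (hle W₁ hW₁) (hle W₂ hW₂) ha hb hB hg
    have h1 := Cfsg.Agent.Local.Reach.single (S := (T : Subgroup (K ⧸ R.subgroupOf K)))
      (𝓦 := Cfsg.Agent.Local.FusionRed.ind _ 𝓦) ⟨W₂, Or.inr rfl, rfl⟩ (mul_mem hm.2 hb) hB hmB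
    have h2 := h1.trans (Cfsg.Agent.Local.Reach.single (y := a * m⁻¹) ⟨W₁, Or.inl rfl, rfl⟩
      (mul_mem ha (inv_mem hm.1)) h1.image_subset (by
        rw [Cfsg.Agent.Local.image_lconj_mul, show a * m⁻¹ * (m * b) = a * b by group]
        exact hg))
    rwa [show a * m⁻¹ * (m * b) = a * b by group] at h2
  have hctl := Cfsg.Agent.Local.FusionRed.ctrl_of_hyp hF G hyp S
  have hnA : ∀ B g, Cfsg.Agent.Local.Reach (S : Subgroup G) (Cfsg.Agent.Local.FusionRed.ind G 𝓦) B g →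
      ∃ x ∈ Subgroup.normalizer (A : Set G), ∀ a ∈ B, g * a * g⁻¹ = x * a * x⁻¹ := by
    intro B g h
    induction h with
    | refl _ hg => exact ⟨1, one_mem _, fun a ha => by rw [hg a ha]; group⟩
    | @step B g y g' W _ hW hy _ he ih =>
      obtain ⟨x, hx, hxe⟩ := ih
      obtain ⟨W₀, hW₀ | hW₀, rfl⟩ := hW
      · subst hW₀
        refine ⟨x * y, mul_mem hx (hA' ▸ hClN N₁ (hN₁ ▸ hy)), fun a ha => ?_⟩
        rw [he a ha, hxe _ ⟨a, ha, rfl⟩]; group
      · subst hW₀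
        refine ⟨x * y, mul_mem hx ((hA'.trans hCl) ▸ hClN N₂ hy), fun a ha => ?_⟩
        rw [he a ha, hxe _ ⟨a, ha, rfl⟩]; group
  refine ⟨hAS, hAel, ⟨hAS, fun x hx g hg => ?_⟩, ⟨S, hAS, fun B hB => ⟨hB, fun g hg => hnA B g (hctl B g hB hg)⟩⟩⟩
  obtain ⟨y, hy, he⟩ := hnA {x} g (hctl {x} g (Set.singleton_subset_iff.2 (hAS hx)) (by rintro _ ⟨_, rfl, rfl⟩; exact hg))
  rw [he x rfl]
  exact (Subgroup.mem_normalizer_iff.1 hy x).1 hx

end Cfsg.Agent.S1997
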