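import Cfsg.Statements.S1998
import Cfsg.Agent.Lib.Local.EngelTransfer

set_option autoImplicit false
universe u
open Cfsg

namespace Cfsg.Agent.S1998

/-- Let p be a prime, G a finite group with Sylow p-subgroup S, and 𝓦 a nonempty set of isomorphism-invariant p-group functors (W assigns to every group Q a subgroup W(Q), nontrivial whenever Q is a nontrivial finite p-group, and every isomorphism from a finite p-group Q onto a group R carries W(Q) onto W(R)). Suppose the induced conjugacy functors control transfer in every section of G other than G itself, but not in G. Let T be the subgroup generated by the S ∩ (N_G(W(S)))', W ∈ 𝓦, and M = N_G(T ∩ O_p(G)). Then: C_G(O_p(G)) ≤ O_p(G); M is a proper subgroup of G containing every proper subgroup of G that contains S (the unique maximal subgroup over S); [O_p(G), M] ≤ O_p(G) ∩ M' ≤ O_p(G) ∩ T; and every element u of S outside O_p(G) satisfies [X, u, …, u] ≰ Y with p − 1 entries u, for some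 chief factor X/Y of G with X ≤ O_p(G). -/
theorem result {G : Type u} [Group G] [Finite G] {p : ℕ} [Fact p.Prime] (S : Sylow p G) (𝓦 : Set (∀ (Q : Type u) [Group Q], Subgroup Q)) (h𝓦 : ∀ W ∈ 𝓦, Cfsg.IsCharPFunctor.{u} p W) (hne : 𝓦.Nonempty) (hsec : ∀ (K R : Subgroup G) [hR : (R.subgroupOf K).Normal], (K = ⊤ → R ≠ ⊥) → Cfsg.FamilyControlsTransferIn p ((fun W => Cfsg.inducedFunctor (G := (↥K ⧸ R.subgroupOf K)) W) '' 𝓦) ⊤) (hG : ¬ Cfsg.FamilyControlsTransferIn p ((fun W => Cfsg.inducedFunctor (G := G) W) '' 𝓦) ⊤) (T M : Subgroup G) (hT : T = (⨆ W ∈ 𝓦, (S : Subgroup G) ⊓ ⁅Subgroup.normalizer ((Cfsg.inducedFunctor (G := G) W (S : Subgroup G) : Subgroup G) : Set G), Subgroup.normalizer ((Cfsg.inducedFunctor (G := G) W (S : Subgroup G) : Subgroup G) : Set G)⁆)) (hM : M = Subgroup.normalizer ((T ⊓ Cfsg.pCore p G : Subgroup G) : Set G)) : Subgroup.centralizer ((Cfsg.pCore p G : Subgroup G) : Set G) ≤ Cfsg.pCore p G ∧ (M ≠ ⊤ ∧ ∀ H : Subgroup G, (S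 : Subgroup G) ≤ H → H ≠ ⊤ → H ≤ M) ∧ (⁅Cfsg.pCore p G, M⁆ ≤ Cfsg.pCore p G ⊓ ⁅M, M⁆ ∧ Cfsg.pCore p G ⊓ ⁅M, M⁆ ≤ Cfsg.pCore p G ⊓ T) ∧ ∀ u : G, u ∈ (S : Subgroup G) → u ∉ Cfsg.pCore p G → ∃ U V : Subgroup G, Cfsg.IsChiefFactor U V ∧ U ≤ Cfsg.pCore p G ∧ ¬ Cfsg.iterCommutator U (Subgroup.zpowers u) (p - 1) ≤ V := by
  classical
  have hF : Cfsg.Agent.Local.FusionRed.IsFam p 𝓦 := h𝓦
  have hsmall : ∀ (X : Type u) [Group X] [Finite X], Cfsg.Agent.Local.FusionRed.Sec X G →
      Nat.card X < Nat.card G → Cfsg.Agent.Local.TransferRed.CT p X 𝓦 := by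
    rintro X _ _ ⟨K, f, hf⟩ hlt
    have hker : (f.ker.map K.subtype).subgroupOf K = f.ker :=
      Subgroup.comap_map_eq_self_of_injective K.subtype_injective _
    haveI : ((f.ker.map K.subtype).subgroupOf K).Normal := by rw [hker]; infer_instance
    refine Cfsg.Agent.Local.TransferRed.ct_of_equiv hF
      ((QuotientGroup.quotientMulEquivOfEq hker).trans (QuotientGroup.quotientKerEquivOfSurjective f hf))
      (Cfsg.Agent.Local.TransferRed.ct_of_family hF (hsec K _ fun hK hR => ?_))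
    rw [Subgroup.map_eq_bot_iff_of_injective _ K.subtype_injective, MonoidHom.ker_eq_bot_iff] at hR
    subst hK
    rw [← Nat.card_eq_of_bijective f ⟨hR, hf⟩, Subgroup.card_top] at hlt
    exact lt_irrefl _ hlt
  have hnot : ¬ (S : Subgroup G) ⊓ _root_.commutator G ≤
      Cfsg.Agent.Local.TransferRed.tSub (Cfsg.Agent.Local.FusionRed.ind G 𝓦) (S : Subgroup G) :=
    fun h => hG (Cfsg.Agent.Local.TransferRed.family_of_inf_commutator_le _ S h)
  have hT' : T = Cfsg.Agent.Local.TransferRed.tSub (Cfsg.Agent.Local.FusionRed.ind G 𝓦) (S : Subgroup G) := by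
    rw [hT, Cfsg.Agent.Local.TransferRed.tSub, Cfsg.Agent.Local.FusionRed.ind, iSup_image]
  have hctH : ∀ H : Subgroup G, H ≠ ⊤ → Cfsg.Agent.Local.TransferRed.CT p H 𝓦 := fun H hH =>
    hsmall H (Cfsg.Agent.Local.FusionRed.Sec.subgroup H)
      (lt_of_le_of_ne (Subgroup.card_le_card_group H) fun e => hH (Subgroup.eq_top_of_card_eq H e))
  have hTloc : ∀ H : Subgroup G, H ≠ ⊤ → (S : Subgroup G) ≤ H → (S : Subgroup G) ⊓ ⁅H, H⁆ ≤ T :=
    fun H hH hSH => hT' ▸ Cfsg.Agent.Local.TransferRed.inf_commutator_subgroup_le hF S hSH (hctH H hH)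
  -- the centralizer of the core
  have hC : Subgroup.centralizer ((Cfsg.pCore p G : Subgroup G) : Set G) ≤ Cfsg.pCore p G := by
    by_contra hC
    refine hnot (Cfsg.Agent.Local.TransferRed.ct_of_hyp hF G (fun X _ _ hX hXc P x hx => ?_) S)
    refine hsmall X hX (lt_of_le_of_ne (Cfsg.Agent.Local.EngelTransfer.card_le_of_sec hX) fun e => hC ?_) P
      ⟨Cfsg.Agent.Solv.pCore_le_sylow P hx.1, hx.2⟩
    obtain ⟨K, f, hf⟩ := hX
    have hK : K = ⊤ := Subgroup.eq_top_of_card_eq K (le_antisymm (Subgroup.card_le_card_group K)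
      (e ▸ Nat.card_le_card_of_surjective f hf))
    subst hK
    have hb : Function.Bijective f := hf.bijective_of_nat_card_le (by rw [Subgroup.card_top, e])
    exact Cfsg.Agent.Local.FusionRed.centralizer_pCore_le_of_equiv
      ((MulEquiv.ofBijective f hb).symm.trans Subgroup.topEquiv) hXc
  haveI : (Cfsg.pCore p G).Normal := by
    haveI := Cfsg.Agent.Solv.pCore_characteristic p G
    infer_instance
  have hQS : Cfsg.pCore p G ≤ (S : Subgroup G) := Cfsg.Agent.Solv.pCore_le_sylow S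
  obtain ⟨W₀, hW₀⟩ := hne
  have hcj := Cfsg.Agent.Local.FusionRed.isConjugacyFunctor_induced (G := G) (h𝓦 W₀ hW₀)
  have hSN : ¬ (S : Subgroup G) ≤ Cfsg.pCore p G := by
    intro hle
    refine hnot (le_trans (le_of_eq ?_) (Cfsg.Agent.Local.TransferRed.le_tSub
      (𝓕 := Cfsg.Agent.Local.FusionRed.ind G 𝓦) (W := Cfsg.inducedFunctor W₀) ⟨W₀, hW₀, rfl⟩ _))
    have htop : Subgroup.normalizer ((S : Subgroup G) : Set G) = ⊤ := by
      rw [le_antisymm hle hQS]; exact Subgroup.normalizer_eq_top_iff.2 inferInstance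
    rw [top_le_iff.1 (htop.ge.trans
      (Cfsg.Agent.Local.FusionRed.normalizer_le_normalizer_functor hcj S.isPGroup'))]
    rfl
  have hQ0 : Cfsg.pCore p G ≠ ⊥ := by
    intro h
    refine hSN ((le_top).trans (le_trans ?_ hC))
    intro g _
    rw [h, Subgroup.mem_centralizer_iff]
    intro z hz
    rw [Subgroup.mem_bot.1 hz, one_mul, mul_one]
  have hq : ¬ Cfsg.pCore p G ⊓ _root_.commutator G ≤ T := by
    intro h
    refine hnot (Cfsg.Agent.Local.TransferRed.ct_of_core hF S _ rfl hctH (fun _ => ?_) hQ0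
      fun q h1 h2 => hT' ▸ h ⟨h1, h2⟩)
    refine hsmall _ (Cfsg.Agent.Local.FusionRed.Sec.of_surjective _ (QuotientGroup.mk'_surjective _)) ?_
    rw [Subgroup.card_eq_card_quotient_mul_card_subgroup (Cfsg.pCore p G)]
    exact (lt_mul_iff_one_lt_right Nat.card_pos).2 ((Cfsg.pCore p G).one_lt_card_iff_ne_bot.2 hQ0)
  have hTS : T ≤ (S : Subgroup G) := hT' ▸ Cfsg.Agent.Local.TransferRed.tSub_le _ _
  have hMtop : M ≠ ⊤ := fun h => hq (Cfsg.Agent.Local.EngelTransfer.inf_commutator_le_of_engel S T _ rfl hTS hTloc hSN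
    fun hne => absurd (hM ▸ h) hne)
  have hover : ∀ H : Subgroup G, (S : Subgroup G) ≤ H → H ≠ ⊤ → H ≤ M := fun H hSH hH =>
    hM ▸ Cfsg.Agent.Local.EngelTransfer.le_normalizer_inf _ T _ hQS hTloc H hH hSH
  have hSne : (S : Subgroup G) ≠ ⊤ := fun e => hSN (e ▸ Cfsg.Agent.Solv.le_pCore
    (hN := (inferInstance : (⊤ : Subgroup G).Normal)) (e ▸ S.isPGroup'))
  have hSM : (S : Subgroup G) ≤ M := hover _ le_rfl hSne
  refine ⟨hC, ⟨hMtop, hover⟩, ⟨le_inf (Subgroup.commutator_le_left _ _) (Subgroup.commutator_mono (hQS.trans hSM) le_rfl),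
    le_inf inf_le_left ((inf_le_inf_right _ hQS).trans (hTloc M hMtop hSM))⟩, fun u hu huQ => ?_⟩
  by_contra hcon
  push Not at hcon
  exact hq (Cfsg.Agent.Local.EngelTransfer.inf_commutator_le_of_engel S T _ rfl hTS hTloc hSN
    fun _ => ⟨u, hu, huQ, fun U V hUV hU => hcon U V hUV hU⟩)

end Cfsg.Agent.S1998
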