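import Cfsg.Statements.S2001
import Cfsg.Agent.Lib.Local.PairControl
import Cfsg.Agent.Lib.Local.TransferReduction
-- import your own Cfsg.Agent.* helpers here

set_option autoImplicit false
open scoped commutatorElement
open Cfsg

namespace Cfsg.Agent.S2001

/-- Let p be a prime dividing the order of the finite group G, P a Sylow p-subgroup, W a conjugacy functor for p on G with Z(H) ≤ W(H) for every nontrivial p-subgroup H, and V a central functor: a conjugacy functor with V(H) ≤ Z(H), and V(H) ≤ V(K) whenever Z(H) ≤ Z(K), for nontrivial p-subgroups H, K. Say that W with V controls transfer in a subgroup L when some Sylow p-subgroup Q of L satisfies Q ∩ L' = (Q ∩ (N_L(W(Q)))')·(Q ∩ (C_L(V(Q)))') as a product of two subgroups. If W with V controls transfer in N_G(H) for every subgroup H with Z(P) ≤ H ≤ P, then W with V controls transfer in G. -/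
theorem result {G : Type*} [Group G] [Finite G] {p : ℕ} [Fact p.Prime] (hdiv : p ∣ Nat.card G) (P : Sylow p G) (W V : Subgroup G → Subgroup G) (hW : Cfsg.IsConjugacyFunctor p W) (hV : Cfsg.IsConjugacyFunctor p V) (hWZ : ∀ H : Subgroup G, IsPGroup p ↥H → H ⊓ Subgroup.centralizer ((H : Subgroup G) : Set G) ≤ W H) (hVZ : ∀ H : Subgroup G, IsPGroup p ↥H → V H ≤ H ⊓ Subgroup.centralizer ((H : Subgroup G) : Set G)) (hVmono : ∀ H K : Subgroup G, IsPGroup p ↥H → IsPGroup p ↥K → H ≠ ⊥ → K ≠ ⊥ → H ⊓ Subgroup.centralizer ((H : Subgroup G) : Set G) ≤ K ⊓ Subgroup.centralizer ((K : Subgroup G) : Set G) → V H ≤ V K) (hloc : ∀ H : Subgroup G, (P : Subgroup G) ⊓ Subgroup.centralizer (((P : Subgroup G) : Subgroup G) : Set G) ≤ H → H ≤ (P : Subgroup G) → ∃ Q : Subgroup G, Q ≤ Subgroup.normalizer ((H : Subgroup G) : Set G) ∧ IsPGroup p ↥Q ∧ ¬ p ∣ (Q).relIndex (Subgroup.normalizer ((H : Subgroup G) : Set G)) ∧ ∀ x : G, x ∈ Q ⊓ ⁅Subgroup.normalizer ((H : Subgroup G)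 : Set G), Subgroup.normalizer ((H : Subgroup G) : Set G)⁆ ↔ ∃ a ∈ Q ⊓ ⁅Subgroup.normalizer ((H : Subgroup G) : Set G) ⊓ Subgroup.normalizer ((W Q : Subgroup G) : Set G), Subgroup.normalizer ((H : Subgroup G) : Set G) ⊓ Subgroup.normalizer ((W Q : Subgroup G) : Set G)⁆, ∃ b ∈ Q ⊓ ⁅Subgroup.normalizer ((H : Subgroup G) : Set G) ⊓ Subgroup.centralizer ((V Q : Subgroup G) : Set G), Subgroup.normalizer ((H : Subgroup G) : Set G) ⊓ Subgroup.centralizer ((V Q : Subgroup G) : Set G)⁆, x = a * b) : ∃ Q : Subgroup G, IsPGroup p ↥Q ∧ ¬ p ∣ Q.index ∧ ∀ x : G, x ∈ Q ⊓ commutator G ↔ ∃ a ∈ Q ⊓ ⁅Subgroup.normalizer ((W Q : Subgroup G) : Set G), Subgroup.normalizer ((W Q : Subgroup G) : Set G)⁆, ∃ b ∈ Q ⊓ ⁅Subgroup.centralizer ((V Q : Subgroup G) : Set G), Subgroup.centralizer ((V Q : Subgroup G) : Set G)⁆, x = a * b := by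
  classical
  set PG : Subgroup G := (P : Subgroup G) with hPG
  set A := Subgroup.normalizer ((W PG : Subgroup G) : Set G) with hA
  set B := Subgroup.centralizer ((V PG : Subgroup G) : Set G) with hB
  have hPA : PG ≤ A := Subgroup.le_normalizer.trans
    (Cfsg.Agent.Local.FusionRed.normalizer_le_normalizer_functor hW P.isPGroup')
  have hPB : PG ≤ B := Subgroup.le_centralizer_iff.1 ((hVZ PG P.isPGroup').trans inf_le_right)
  set T₀ := (PG ⊓ ⁅A, A⁆) ⊔ (PG ⊓ ⁅B, B⁆) with hT₀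
  have hP0 : PG ≠ ⊥ := P.ne_bot_of_dvd_card hdiv
  have hglob : ∀ D : Subgroup G, D ≤ PG → ∀ c : G, (∀ d ∈ D, c * d * c⁻¹ ∈ PG) →
      ∀ d ∈ D, d⁻¹ * (c * d * c⁻¹) ∈ T₀ := by
    refine Cfsg.Agent.Local.PairControl.global_of_local P (fun D g => ∀ d ∈ D, d⁻¹ * (g * d * g⁻¹) ∈ T₀)
      (fun D c _ hc d hd => by rw [hc d hd, inv_mul_cancel]; exact one_mem _)
      (fun D a b _ _ ha hb d hd => ?_) (fun D a _ ha => ?_) (fun D D' a hle ha d hd => ha d (hle hd)) ?_
    · have h2 := hb _ ⟨d, hd, rfl⟩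
      simp only [MulEquiv.coe_toMonoidHom, MulAut.conj_apply] at h2
      have h3 := mul_mem (ha d hd) h2
      rwa [show d⁻¹ * (a * d * a⁻¹) * ((a * d * a⁻¹)⁻¹ * (b * (a * d * a⁻¹) * b⁻¹)) =
        d⁻¹ * (b * a * d * (b * a)⁻¹) by group] at h3
    · rintro _ ⟨d, hd, rfl⟩
      simp only [MulEquiv.coe_toMonoidHom, MulAut.conj_apply]
      have h1 := inv_mem (ha d hd)
      rwa [show (d⁻¹ * (a * d * a⁻¹))⁻¹ = (a * d * a⁻¹)⁻¹ * (a⁻¹ * (a * d * a⁻¹) * a⁻¹⁻¹) by group] at h1
    intro N₀ IH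
    suffices key : ∀ (j : ℕ) (H : Subgroup G),
        Nat.card PG ≤ j + Nat.card ↥(PG ⊓ Subgroup.normalizer (H : Set G)) → H ≤ PG →
        PG ⊓ Subgroup.centralizer (PG : Set G) ≤ H →
        (PG ⊓ Subgroup.normalizer (H : Set G) = PG ∨ N₀ < Nat.card ↥(PG ⊓ Subgroup.normalizer (H : Set G))) →
        PG ⊓ Subgroup.normalizer (H : Set G) ⊓
          ⁅Subgroup.normalizer (H : Set G), Subgroup.normalizer (H : Set G)⁆ ≤ T₀ by
      intro H hHP hZH hcase D hD n hn hnD d hd
      refine key (Nat.card PG) H (Nat.le_add_right _ _) hHP hZH hcase (Subgroup.mem_inf.2 ⟨Subgroup.mem_inf.2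
        ⟨mul_mem (inv_mem (hD hd).1) (hnD d hd),
          mul_mem (inv_mem (hD hd).2) (mul_mem (mul_mem hn (hD hd).2) (inv_mem hn))⟩, ?_⟩)
      rw [show d⁻¹ * (n * d * n⁻¹) = ⁅d⁻¹, n⁆ by rw [commutatorElement_def]; group]
      exact Subgroup.commutator_mem_commutator (inv_mem (hD hd).2) hn
    intro j
    induction j using Nat.strong_induction_on with
    | _ j ihj =>
    intro H hj hHP hZH hcase z hz
    obtain ⟨Q, hQN, hQp, hQidx, hQ⟩ := hloc H hZH hHP
    obtain ⟨u, hu, hu1, t, htu, hQt⟩ := Cfsg.Agent.Local.PairControl.exists_move P H Q hQN hQp hQidx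
    set H' := H.map (MulAut.conj u).toMonoidHom with hH'
    set Qs := PG ⊓ Subgroup.normalizer (H' : Set G) with hQs
    set R := PG ⊓ Subgroup.normalizer (H : Set G) with hR
    have hRu : ∀ r ∈ R, u * r * u⁻¹ ∈ Qs := fun r hr =>
      ⟨hu r hr, (Cfsg.Agent.Local.map_conj_normalizer u H).le ⟨r, hr.2, rfl⟩⟩
    have hRQ : Nat.card R ≤ Nat.card Qs :=
      (Nat.card_congr (R.equivMapOfInjective (MulAut.conj u).toMonoidHom (MulAut.conj u).injective).toEquiv).trans_le
        (Subgroup.card_le_of_le (by rintro _ ⟨r, hr, rfl⟩; exact hRu r hr))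
    have hQmem : ∀ w, w ∈ Qs ↔ t⁻¹ * w * t ∈ Q := by
      intro w
      rw [← hQt]
      constructor
      · rintro ⟨q, hq, rfl⟩; simpa [mul_assoc] using hq
      · intro h; exact ⟨_, h, by simp [mul_assoc]⟩
    have hH'P : H' ≤ PG := by
      rintro _ ⟨x, hx, rfl⟩; exact hu x ⟨hHP hx, Subgroup.le_normalizer hx⟩
    have hZQs : PG ⊓ Subgroup.centralizer (PG : Set G) ≤ Qs :=
      le_inf inf_le_left (inf_le_right.trans ((Subgroup.centralizer_le hH'P).trans
        (Subgroup.centralizer_le_normalizer _)))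
    have hQsp : IsPGroup p Qs := P.isPGroup'.to_le inf_le_left
    have hZZ : PG ⊓ Subgroup.centralizer (PG : Set G) ≤ Qs ⊓ Subgroup.centralizer (Qs : Set G) :=
      le_inf hZQs (inf_le_right.trans (Subgroup.centralizer_le inf_le_left))
    have hWQ : W Qs = (W Q).map (MulAut.conj t).toMonoidHom := by rw [← hQt]; exact (hW Q hQp).2.2 t
    have hVQ : V Qs = (V Q).map (MulAut.conj t).toMonoidHom := by rw [← hQt]; exact (hV Q hQp).2.2 t
    -- the two pieces
    have hpiece₁ : Qs ⊓ ⁅Subgroup.normalizer ((W Qs : Subgroup G) : Set G),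
        Subgroup.normalizer ((W Qs : Subgroup G) : Set G)⁆ ≤ T₀ := by
      by_cases hQP : Qs = PG
      · rw [hQP]; exact le_sup_left
      have hlt : Qs < PG := lt_of_le_of_ne inf_le_left hQP
      have hbig : Nat.card Qs < Nat.card ↥(PG ⊓ Subgroup.normalizer ((W Qs : Subgroup G) : Set G)) := by
        have hs := Cfsg.Agent.Local.lt_sylow_inf_normalizer P hlt
        refine lt_of_lt_of_le ?_ (Subgroup.card_le_of_le (inf_le_inf_left _
          (Cfsg.Agent.Local.FusionRed.normalizer_le_normalizer_functor hW hQsp)))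
        exact lt_of_le_of_ne (Subgroup.card_le_of_le hs.le) fun e =>
          hs.ne (Subgroup.eq_of_le_of_card_ge hs.le e.ge)
      have hle := Subgroup.card_le_of_le (inf_le_left : PG ⊓ Subgroup.normalizer ((W Qs : Subgroup G) : Set G) ≤ PG)
      refine le_trans (inf_le_inf_right _ (le_inf inf_le_left (Subgroup.le_normalizer.trans
        (Cfsg.Agent.Local.FusionRed.normalizer_le_normalizer_functor hW hQsp))))
        (ihj (j - 1) (by omega) (W Qs) (by omega) ((hW Qs hQsp).1.trans inf_le_left)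
          (hZZ.trans (hWZ Qs hQsp)) ?_)
      rcases hcase with h | h
      · exact absurd (Subgroup.eq_of_le_of_card_ge inf_le_left
          ((congrArg (fun K : Subgroup G => Nat.card K) h).ge.trans hRQ)) hQP
      · right; omega
    have hpiece₂ : Qs ⊓ ⁅Subgroup.centralizer ((V Qs : Subgroup G) : Set G),
        Subgroup.centralizer ((V Qs : Subgroup G) : Set G)⁆ ≤ T₀ := by
      have hle : Subgroup.centralizer ((V Qs : Subgroup G) : Set G) ≤ B := by
        refine Subgroup.centralizer_le (hVmono PG Qs P.isPGroup' hQsp hP0 (fun h0 => ?_) hZZ)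
        haveI : Nontrivial PG := (Subgroup.nontrivial_iff_ne_bot _).2 hP0
        haveI : Nontrivial (Subgroup.center PG) := IsPGroup.center_nontrivial P.isPGroup'
        obtain ⟨w, hw⟩ := exists_ne (1 : Subgroup.center PG)
        refine hw (Subtype.ext (Subtype.ext (Subgroup.mem_bot.1 (h0 ▸ hZQs ⟨(w : PG).2, fun v hv =>
          congrArg Subtype.val (Subgroup.mem_center_iff.1 w.2 ⟨v, hv⟩)⟩))))
      exact le_trans (inf_le_inf inf_le_left (Subgroup.commutator_mono hle hle)) le_sup_right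
    -- the moved element
    have hz1 : t⁻¹ * (u * z * u⁻¹) * t ∈
        Q ⊓ ⁅Subgroup.normalizer (H : Set G), Subgroup.normalizer (H : Set G)⁆ := by
      refine ⟨(hQmem _).1 (hRu z hz.1), ?_⟩
      have hn : (⁅Subgroup.normalizer (H : Set G), Subgroup.normalizer (H : Set G)⁆).map
          (MulAut.conj (t⁻¹ * u)).toMonoidHom ≤ ⁅Subgroup.normalizer (H : Set G), Subgroup.normalizer (H : Set G)⁆ := by
        rw [Subgroup.map_commutator]
        have : (Subgroup.normalizer (H : Set G)).map (MulAut.conj (t⁻¹ * u)).toMonoidHom ≤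
            Subgroup.normalizer (H : Set G) := by
          rintro _ ⟨w, hw, rfl⟩
          exact mul_mem (mul_mem htu hw) (inv_mem htu)
        exact Subgroup.commutator_mono this this
      rw [SetLike.mem_coe, show t⁻¹ * (u * z * u⁻¹) * t = (t⁻¹ * u) * z * (t⁻¹ * u)⁻¹ by group]
      exact hn ⟨z, hz.2, rfl⟩
    obtain ⟨a, ha, b, hb, hab⟩ := (hQ _).1 hz1
    have hconj : ∀ (N K : Subgroup G) (w : G), w ∈ Q ⊓ ⁅N ⊓ K, N ⊓ K⁆ →
        t * w * t⁻¹ ∈ Qs ⊓ ⁅K.map (MulAut.conj t).toMonoidHom, K.map (MulAut.conj t).toMonoidHom⁆ := by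
      intro N K w hw
      refine ⟨(hQmem _).2 (by simpa [mul_assoc] using hw.1), ?_⟩
      rw [← Subgroup.map_commutator]
      exact ⟨w, Subgroup.commutator_mono inf_le_right inf_le_right hw.2, rfl⟩
    have ha' := hconj _ _ a ha
    rw [Cfsg.Agent.Local.map_conj_normalizer, ← hWQ] at ha'
    have hb' := hconj _ _ b hb
    rw [Cfsg.Agent.Local.PairControl.map_conj_centralizer, ← hVQ] at hb'
    have huz : u * z * u⁻¹ ∈ T₀ := by
      rw [show u * z * u⁻¹ = t * (t⁻¹ * (u * z * u⁻¹) * t) * t⁻¹ by group, hab,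
        show t * (a * b) * t⁻¹ = t * a * t⁻¹ * (t * b * t⁻¹) by group]
      exact mul_mem (hpiece₁ ha') (hpiece₂ hb')
    rcases hcase with h | h
    · rw [hu1 h] at huz
      simpa using huz
    · have h1 := IH R inf_le_left h u hu z hz.1
      have h2 := mul_mem huz (inv_mem h1)
      rwa [show u * z * u⁻¹ * (z⁻¹ * (u * z * u⁻¹))⁻¹ = z by group] at h2
  have hfoc : PG ⊓ commutator G ≤ T₀ := by
    refine Cfsg.Agent.Local.TransferRed.inf_commutator_le P T₀ fun a ha g hg => ?_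
    have h := hglob (Subgroup.zpowers a) (Subgroup.zpowers_le.2 ha) g⁻¹ (by
      rintro _ ⟨i, rfl⟩
      simp only [← conj_zpow]
      exact zpow_mem (by simpa using hg) i) a (Subgroup.mem_zpowers a)
    simpa using h
  refine ⟨PG, P.isPGroup', P.not_dvd_index, fun x => ⟨fun hx => ?_, ?_⟩⟩
  · have h := hfoc hx
    have hn : PG ⊓ ⁅B, B⁆ ≤ Subgroup.normalizer ((PG ⊓ ⁅A, A⁆ : Subgroup G) : Set G) := by
      refine inf_le_left.trans (Cfsg.Agent.Solv.le_normalizer_inf Subgroup.le_normalizer (hPA.trans ?_))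
      refine Cfsg.Agent.Solv.le_normalizer_of_conj_mem fun g hg w hw => ?_
      have : (⁅A, A⁆).map (MulAut.conj g).toMonoidHom ≤ ⁅A, A⁆ := by
        rw [Subgroup.map_commutator]
        have : A.map (MulAut.conj g).toMonoidHom ≤ A := by
          rintro _ ⟨v, hv, rfl⟩
          exact mul_mem (mul_mem hg hv) (inv_mem hg)
        exact Subgroup.commutator_mono this this
      exact this ⟨w, hw, rfl⟩
    rw [hT₀, ← SetLike.mem_coe, Subgroup.coe_mul_of_right_le_normalizer_left _ _ hn, Set.mem_mul] at h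
    obtain ⟨a, ha, b, hb, hab⟩ := h
    exact ⟨a, ha, b, hb, hab.symm⟩
  · rintro ⟨a, ha, b, hb, rfl⟩
    refine ⟨mul_mem ha.1 hb.1, ?_⟩
    rw [commutator_def]
    exact mul_mem (Subgroup.commutator_mono le_top le_top ha.2) (Subgroup.commutator_mono le_top le_top hb.2)

end Cfsg.Agent.S2001
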