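import Cfsg.Statements.S2002
import Cfsg.Agent.Lib.Local.PairControl
-- import your own Cfsg.Agent.* helpers here

set_option autoImplicit false
open Cfsg

namespace Cfsg.Agent.S2002

open Subgroup

variable {G : Type*} [Group G]

/-- Conjugation inside `P` realized by steps from `Gen`. -/
inductive RP (P : Subgroup G) (Gen : Set G) : Set G → G → Prop
  | refl {A : Set G} {g : G} (hA : A ⊆ P) (hg : ∀ a ∈ A, g * a * g⁻¹ = a) : RP P Gen A g
  | step {A : Set G} {g y g' : G} (hA : A ⊆ P) (hy : y ∈ Gen)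
      (h : RP P Gen ((fun a => y * a * y⁻¹) '' A) g')
      (he : ∀ a ∈ A, g * a * g⁻¹ = g' * (y * a * y⁻¹) * g'⁻¹) : RP P Gen A g

variable {P : Subgroup G} {Gen : Set G}

theorem RP.subset {A : Set G} {g : G} (h : RP P Gen A g) : A ⊆ P := by
  cases h with
  | refl hA _ => exact hA
  | step hA _ _ _ => exact hA

theorem RP.image_subset {A : Set G} {g : G} (h : RP P Gen A g) :
    (fun a => g * a * g⁻¹) '' A ⊆ P := by
  induction h with
  | refl hA hg => rintro _ ⟨a, ha, rfl⟩; simp only; rw [hg a ha]; exact hA ha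
  | @step A g y g' _ _ _ he ih =>
    rintro _ ⟨a, ha, rfl⟩
    simp only
    rw [he a ha]
    exact ih ⟨_, ⟨a, ha, rfl⟩, rfl⟩

theorem RP.mono {A B : Set G} {g : G} (h : RP P Gen A g) : B ⊆ A → RP P Gen B g := by
  induction h generalizing B with
  | refl hA hg => intro hBA; exact .refl (hBA.trans hA) fun a ha => hg a (hBA ha)
  | step hA hy _ he ih =>
    intro hBA
    exact .step (hBA.trans hA) hy (ih (Set.image_mono hBA)) fun a ha => he a (hBA ha)

theorem RP.congr {A : Set G} {g g₁ : G} (h : RP P Gen A g)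
    (he : ∀ a ∈ A, g₁ * a * g₁⁻¹ = g * a * g⁻¹) : RP P Gen A g₁ := by
  cases h with
  | refl hA hg => exact .refl hA fun a ha => (he a ha).trans (hg a ha)
  | step hA hy h' he' => exact .step hA hy h' fun a ha => (he a ha).trans (he' a ha)

theorem RP.single {A : Set G} {y : G} (hy : y ∈ Gen) (hA : A ⊆ P)
    (hA' : (fun a => y * a * y⁻¹) '' A ⊆ P) : RP P Gen A y :=
  .step hA hy (g' := 1) (.refl hA' fun a _ => by group) fun a _ => by group

theorem RP.trans {A : Set G} {g k : G} (h : RP P Gen A g) :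
    RP P Gen ((fun a => g * a * g⁻¹) '' A) k → RP P Gen A (k * g) := by
  induction h with
  | @refl A g hA hg =>
    intro h2
    rw [Set.image_congr hg, Set.image_id'] at h2
    exact h2.congr fun a ha => by
      rw [show k * g * a * (k * g)⁻¹ = k * (g * a * g⁻¹) * k⁻¹ by group, hg a ha]
  | @step A g y g' hA hy h' he ih =>
    intro h2
    refine .step hA hy (ih ?_) fun a ha => ?_
    · rw [Set.image_image]
      rwa [Set.image_congr he] at h2
    · rw [show k * g * a * (k * g)⁻¹ = k * (g * a * g⁻¹) * k⁻¹ by group, he a ha]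
      group

theorem RP.symm (hGen : ∀ y ∈ Gen, y⁻¹ ∈ Gen) {A : Set G} {g : G} (h : RP P Gen A g) :
    RP P Gen ((fun a => g * a * g⁻¹) '' A) g⁻¹ := by
  induction h with
  | @refl A g hA hg =>
    rw [Set.image_congr hg, Set.image_id']
    exact .refl hA fun a ha => by
      calc g⁻¹ * a * g⁻¹⁻¹ = g⁻¹ * (g * a * g⁻¹) * g⁻¹⁻¹ := by rw [hg a ha]
        _ = a := by group
  | @step A g y g' hA hy h' he ih =>
    have hse : (fun a => g * a * g⁻¹) '' A =
        (fun a => g' * a * g'⁻¹) '' ((fun a => y * a * y⁻¹) '' A) := by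
      rw [Set.image_image]; exact Set.image_congr he
    rw [hse]
    have h1 : RP P Gen ((fun a => g' * a * g'⁻¹) '' ((fun a => y * a * y⁻¹) '' A)) (y⁻¹ * g'⁻¹) := by
      refine ih.trans (RP.single (hGen y hy) ?_ ?_)
      · rintro _ ⟨_, ⟨b, hb, rfl⟩, rfl⟩
        have e : g'⁻¹ * (g' * b * g'⁻¹) * g'⁻¹⁻¹ = b := by group
        simp only
        rw [e]
        exact h'.subset hb
      · rintro _ ⟨_, ⟨_, ⟨_, ⟨a, ha, rfl⟩, rfl⟩, rfl⟩, rfl⟩
        have e : y⁻¹ * (g'⁻¹ * (g' * (y * a * y⁻¹) * g'⁻¹) * g'⁻¹⁻¹) * y⁻¹⁻¹ = a := by group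
        simp only
        rw [e]
        exact hA ha
    refine h1.congr ?_
    rintro _ ⟨_, ⟨a, ha, rfl⟩, rfl⟩
    simp only
    rw [← he a ha]
    calc g⁻¹ * (g * a * g⁻¹) * g⁻¹⁻¹ = a := by group
      _ = _ := by rw [he a ha]; group

/-- A list of right conjugations. -/
theorem rp_of_list (S : Subgroup G) (hSP : S ≤ P) (L : List G)
    (hstep : ∀ b ∈ L, ∀ A : Set G, A ⊆ S → (fun a => b⁻¹ * a * b⁻¹⁻¹) '' A ⊆ S → RP P Gen A b⁻¹) :
    ∀ A : Set G, (∀ k ≤ L.length, (fun a => ((L.take k).prod)⁻¹ * a * (L.take k).prod) '' A ⊆ S) →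
      RP P Gen A L.prod⁻¹ := by
  induction L with
  | nil =>
    intro A hk
    refine .refl (fun a ha => hSP ?_) fun a _ => by simp
    have := hk 0 le_rfl ⟨a, ha, rfl⟩
    simpa using this
  | cons b L ih =>
    intro A hk
    have hA : A ⊆ S := fun a ha => by simpa using hk 0 (Nat.zero_le _) ⟨a, ha, rfl⟩
    have h1 : (fun a => b⁻¹ * a * b⁻¹⁻¹) '' A ⊆ S := by
      rintro _ ⟨a, ha, rfl⟩
      simpa using hk 1 (by simp) ⟨a, ha, rfl⟩
    have h2 := hstep b (by simp) A hA h1
    rw [List.prod_cons, mul_inv_rev]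
    refine h2.trans (ih (fun c hc => hstep c (List.mem_cons_of_mem _ hc)) _ fun k hkL => ?_)
    rintro _ ⟨_, ⟨a, ha, rfl⟩, rfl⟩
    have := hk (k + 1) (by simpa using hkL) ⟨a, ha, rfl⟩
    simp only [List.take_succ_cons, List.prod_cons] at this
    simpa [mul_assoc] using this

/-- Reachability gives a list. -/
theorem RP.exists_list (hGen : ∀ y ∈ Gen, y⁻¹ ∈ Gen) {A : Set G} {g : G} (h : RP P Gen A g) :
    ∃ L : List G, (∀ b ∈ L, b ∈ Gen) ∧ (∀ a ∈ A, L.prod⁻¹ * a * L.prod = g * a * g⁻¹) ∧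
      ∀ k ≤ L.length, (fun a => ((L.take k).prod)⁻¹ * a * (L.take k).prod) '' A ⊆ P := by
  induction h with
  | @refl A g hA hg => exact ⟨[], by simp, fun a ha => by simp [hg a ha], fun k _ => by simpa using hA⟩
  | @step A g y g' hA hy _ he ih =>
    obtain ⟨L, hL, he', hk⟩ := ih
    refine ⟨y⁻¹ :: L, ?_, fun a ha => ?_, fun k hkL => ?_⟩
    · rintro b hb
      rcases List.mem_cons.1 hb with rfl | hb
      · exact hGen y hy
      · exact hL b hb
    · rw [List.prod_cons, he a ha, ← he' _ ⟨a, ha, rfl⟩]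
      group
    · rcases k with _ | k
      · simpa using hA
      · rintro _ ⟨a, ha, rfl⟩
        have h3 := hk k (by simpa using hkL) ⟨_, ⟨a, ha, rfl⟩, rfl⟩
        simp only [List.take_succ_cons, List.prod_cons]
        simpa [mul_assoc] using h3


/-- Let p be a prime dividing the order of the finite group G, P a Sylow p-subgroup, W a conjugacy functor for p on G with Z(H) ≤ W(H) for every nontrivial p-subgroup H, and V a central functor (a conjugacy functor with V(H) ≤ Z(H), and V(H) ≤ V(K) whenever Z(H) ≤ Z(K)). Say that W with V controls strong fusion in a subgroup L when some Sylow p-subgroup Q of L has the property: whenever X ⊆ Q and a ∈ L with a⁻¹Xa ⊆ Q, then a = c b with c ∈ C_L(X) and b = b₁ ⋯ bₙ a product of elements each in N_L(W(Q)) or in C_L(V(Q)) such that every partial conjugate (b₁ ⋯ bₖ)⁻¹ X (b₁ ⋯ bₖ) lies in Q. If W with V controls strong fusion in N_G(H) for every subgroup H with Z(P) ≤ H ≤ P, then W with V controls strong fusion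 in G. -/
theorem result {G : Type*} [Group G] [Finite G] {p : ℕ} [Fact p.Prime] (hdiv : p ∣ Nat.card G) (P : Sylow p G) (W V : Subgroup G → Subgroup G) (hW : Cfsg.IsConjugacyFunctor p W) (hV : Cfsg.IsConjugacyFunctor p V) (hWZ : ∀ H : Subgroup G, IsPGroup p ↥H → H ⊓ Subgroup.centralizer ((H : Subgroup G) : Set G) ≤ W H) (hVZ : ∀ H : Subgroup G, IsPGroup p ↥H → V H ≤ H ⊓ Subgroup.centralizer ((H : Subgroup G) : Set G)) (hVmono : ∀ H K : Subgroup G, IsPGroup p ↥H → IsPGroup p ↥K → H ≠ ⊥ → K ≠ ⊥ → H ⊓ Subgroup.centralizer ((H : Subgroup G) : Set G) ≤ K ⊓ Subgroup.centralizer ((K : Subgroup G) : Set G) → V H ≤ V K) (hloc : ∀ H : Subgroup G, (P : Subgroup G) ⊓ Subgroup.centralizer (((P : Subgroup G) : Subgroup G) : Set G) ≤ H → H ≤ (P : Subgroup G) → ∃ Q : Subgroup G, Q ≤ Subgroup.normalizer ((H : Subgroup G) : Set G) ∧ IsPGroup p ↥Q ∧ ¬ p ∣ (Q).relIndex (Subgroup.normalizer ((H : Subgroup G) : Set G)) ∧ ∀ (X : Set G) (a : G), X ⊆ Q → a ∈ Subgroup.normalizer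 ((H : Subgroup G) : Set G) → (fun x => a⁻¹ * x * a) '' X ⊆ Q → ∃ c ∈ Subgroup.normalizer ((H : Subgroup G) : Set G) ⊓ Subgroup.centralizer X, ∃ (n : ℕ) (b : Fin n → G), (∀ i, b i ∈ Subgroup.normalizer ((H : Subgroup G) : Set G) ⊓ Subgroup.normalizer ((W Q : Subgroup G) : Set G) ∨ b i ∈ Subgroup.normalizer ((H : Subgroup G) : Set G) ⊓ Subgroup.centralizer ((V Q : Subgroup G) : Set G)) ∧ a = c * (List.ofFn b).prod ∧ ∀ k : ℕ, k ≤ n → (fun x => (((List.ofFn b).take k).prod)⁻¹ * x * ((List.ofFn b).take k).prod) '' ((fun x => c⁻¹ * x * c) '' X) ⊆ Q) : ∃ Q : Subgroup G, IsPGroup p ↥Q ∧ ¬ p ∣ Q.index ∧ ∀ (X : Set G) (a : G), X ⊆ Q → (fun x => a⁻¹ * x * a) '' X ⊆ Q → ∃ c ∈ Subgroup.centralizer X, ∃ (n : ℕ) (b : Fin n → G), (∀ i, b i ∈ ⊤ ⊓ Subgroup.normalizer ((W Q : Subgroup G) : Set G) ∨ b i ∈ ⊤ ⊓ Subgroup.centralizer ((V Q : Subgroup G) : Set G)) ∧ a = c * (List.ofFn b).prod ∧ ∀ k : ℕ, k ≤ n → (fun x => (((List.ofFn b).take k).prod)⁻¹ * x * ((List.ofFn b).take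 k).prod) '' ((fun x => c⁻¹ * x * c) '' X) ⊆ Q := by
  classical
  set PG : Subgroup G := (P : Subgroup G) with hPG
  set Gen : Set G := (Subgroup.normalizer ((W PG : Subgroup G) : Set G) : Set G) ∪
    (Subgroup.centralizer ((V PG : Subgroup G) : Set G) : Set G) with hGen
  have hGi : ∀ y ∈ Gen, y⁻¹ ∈ Gen := by
    rintro y (h | h)
    · exact Or.inl (inv_mem (s := Subgroup.normalizer ((W PG : Subgroup G) : Set G)) h)
    · exact Or.inr (inv_mem (s := Subgroup.centralizer ((V PG : Subgroup G) : Set G)) h)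
  have hP0 : PG ≠ ⊥ := P.ne_bot_of_dvd_card hdiv
  have hglob : ∀ D : Subgroup G, D ≤ PG → ∀ c : G, (∀ d ∈ D, c * d * c⁻¹ ∈ PG) → RP PG Gen (D : Set G) c := by
    refine Cfsg.Agent.Local.PairControl.global_of_local P (fun D g => RP PG Gen (D : Set G) g)
      (fun D c hD hc => .refl hD hc) (fun D a b _ _ ha hb => ha.trans (by rwa [Subgroup.coe_map] at hb))
      (fun D a _ ha => by rw [Subgroup.coe_map]; exact ha.symm hGi) (fun D D' a hle ha => ha.mono hle) ?_
    intro N₀ IH H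
    suffices ∀ (j : ℕ) (H : Subgroup G),
        Nat.card PG ≤ j + Nat.card ↥(PG ⊓ Subgroup.normalizer (H : Set G)) → H ≤ PG →
        PG ⊓ Subgroup.centralizer (PG : Set G) ≤ H →
        (PG ⊓ Subgroup.normalizer (H : Set G) = PG ∨ N₀ < Nat.card ↥(PG ⊓ Subgroup.normalizer (H : Set G))) →
        ∀ D : Subgroup G, D ≤ PG ⊓ Subgroup.normalizer (H : Set G) → ∀ n ∈ Subgroup.normalizer (H : Set G),
          (∀ d ∈ D, n * d * n⁻¹ ∈ PG) → RP PG Gen (D : Set G) n from this (Nat.card PG) H (Nat.le_add_right _ _)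
    clear H
    intro j
    induction j using Nat.strong_induction_on with
    | _ j ihj =>
    intro H hj hHP hZH hcase D hD n hn hnD
    obtain ⟨Q, hQN, hQp, hQidx, hQ⟩ := hloc H hZH hHP
    obtain ⟨u, hu, hu1, t, htu, hQt⟩ := Cfsg.Agent.Local.PairControl.exists_move P H Q hQN hQp hQidx
    set H' := H.map (MulAut.conj u).toMonoidHom with hH'
    set Qs := PG ⊓ Subgroup.normalizer (H' : Set G) with hQs
    set R := PG ⊓ Subgroup.normalizer (H : Set G) with hR
    have hRu : ∀ r ∈ R, u * r * u⁻¹ ∈ Qs := fun r hr =>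
      ⟨hu r hr, (Cfsg.Agent.Local.map_conj_normalizer u H).le ⟨r, hr.2, rfl⟩⟩
    have hRQ : Nat.card R ≤ Nat.card Qs :=
      (Nat.card_congr (R.equivMapOfInjective (MulAut.conj u).toMonoidHom (MulAut.conj u).injective).toEquiv).trans_le
        (Subgroup.card_le_of_le (by rintro _ ⟨r, hr, rfl⟩; exact hRu r hr))
    have hRok : RP PG Gen (R : Set G) u := by
      rcases hcase with h | h
      · rw [hu1 h]; exact .refl (fun r hr => hr.1) fun a _ => by group
      · exact IH R inf_le_left h u hu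
    -- elements of the moved Sylow subgroup
    have hQmem : ∀ w, w ∈ Qs ↔ t⁻¹ * w * t ∈ Q := by
      intro w
      rw [← hQt]
      constructor
      · rintro ⟨q, hq, rfl⟩; simpa [mul_assoc] using hq
      · intro h; exact ⟨_, h, by simp [mul_assoc]⟩
    have hH'P : H' ≤ PG := by
      rintro _ ⟨x, hx, rfl⟩; exact hu x ⟨hHP hx, Subgroup.le_normalizer hx⟩
    have hZQs : PG ⊓ Subgroup.centralizer (PG : Set G) ≤ Qs :=
      le_inf inf_le_left (inf_le_right.trans ((Subgroup.centralizer_le hH'P).trans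
        (Subgroup.centralizer_le_normalizer _)))
    have hQsp : IsPGroup p Qs := P.isPGroup'.to_le inf_le_left
    have hZZ : PG ⊓ Subgroup.centralizer (PG : Set G) ≤ Qs ⊓ Subgroup.centralizer (Qs : Set G) :=
      le_inf hZQs (inf_le_right.trans (Subgroup.centralizer_le inf_le_left))
    -- a single step
    have hstep : ∀ y : G, (y ∈ Subgroup.normalizer (H' : Set G) ⊓ Subgroup.normalizer ((W Qs : Subgroup G) : Set G) ∨
        y ∈ Subgroup.normalizer (H' : Set G) ⊓ Subgroup.centralizer ((V Qs : Subgroup G) : Set G)) →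
        ∀ A : Set G, A ⊆ Qs → (fun a => y * a * y⁻¹) '' A ⊆ Qs → RP PG Gen A y := by
      rintro y (hy | hy) A hA hA'
      · by_cases hQP : Qs = PG
        · exact RP.single (Or.inl (show y ∈ Subgroup.normalizer ((W PG : Subgroup G) : Set G) by
            rw [← hQP]; exact hy.2)) (fun a ha => (hA ha).1) fun a ha => (hA' ha).1
        have hlt : Qs < PG := lt_of_le_of_ne inf_le_left hQP
        have hbig : Nat.card Qs < Nat.card ↥(PG ⊓ Subgroup.normalizer ((W Qs : Subgroup G) : Set G)) := by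
          have hs := Cfsg.Agent.Local.lt_sylow_inf_normalizer P hlt
          refine lt_of_lt_of_le ?_ (Subgroup.card_le_of_le (inf_le_inf_left _
            (Cfsg.Agent.Local.FusionRed.normalizer_le_normalizer_functor hW hQsp)))
          exact lt_of_le_of_ne (Subgroup.card_le_of_le hs.le) fun e =>
            hs.ne (Subgroup.eq_of_le_of_card_ge hs.le e.ge)
        have hle := Subgroup.card_le_of_le (inf_le_left : PG ⊓ Subgroup.normalizer ((W Qs : Subgroup G) : Set G) ≤ PG)
        have hcl : Subgroup.closure A ≤ Qs := (Subgroup.closure_le _).2 hA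
        refine (ihj (j - 1) (by omega) (W Qs) (by omega) ((hW Qs hQsp).1.trans inf_le_left)
          (hZZ.trans (hWZ Qs hQsp)) ?_ (Subgroup.closure A) ?_ y hy.2 fun d hd => ?_).mono Subgroup.subset_closure
        · rcases hcase with h | h
          · exact absurd (Subgroup.eq_of_le_of_card_ge inf_le_left ((congrArg (fun K : Subgroup G => Nat.card K) h).ge.trans hRQ)) hQP
          · right; omega
        · exact hcl.trans (le_inf inf_le_left (Subgroup.le_normalizer.trans
            (Cfsg.Agent.Local.FusionRed.normalizer_le_normalizer_functor hW hQsp)))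
        · have : Subgroup.closure A ≤ Qs.comap (MulAut.conj y).toMonoidHom :=
            (Subgroup.closure_le _).2 fun a ha => hA' ⟨a, ha, rfl⟩
          exact (this hd).1
      · refine RP.single (Or.inr ?_) (fun a ha => (hA ha).1) fun a ha => (hA' ha).1
        refine Subgroup.centralizer_le (hVmono PG Qs P.isPGroup' hQsp hP0 (fun h0 => ?_) hZZ) hy.2
        haveI : Nontrivial PG := (Subgroup.nontrivial_iff_ne_bot _).2 hP0
        haveI : Nontrivial (Subgroup.center PG) := IsPGroup.center_nontrivial P.isPGroup'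
        obtain ⟨z, hz⟩ := exists_ne (1 : Subgroup.center PG)
        refine hz (Subtype.ext (Subtype.ext (Subgroup.mem_bot.1 (h0 ▸ hZQs ⟨(z : PG).2, fun w hw =>
          congrArg Subtype.val (Subgroup.mem_center_iff.1 z.2 ⟨w, hw⟩)⟩))))
    -- the moved element
    set n' := u * n * u⁻¹ with hn'
    set D' : Set G := (fun a => u * a * u⁻¹) '' (D : Set G) with hD'
    have hD'Q : D' ⊆ Qs := by rintro _ ⟨d, hd, rfl⟩; exact hRu d (hD hd)
    have hnR : ∀ d ∈ D, n * d * n⁻¹ ∈ R := fun d hd =>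
      ⟨hnD d hd, (mul_mem (mul_mem hn (hD hd).2) (inv_mem hn) : n * d * n⁻¹ ∈ Subgroup.normalizer (H : Set G))⟩
    have hnN : t⁻¹ * n'⁻¹ * t ∈ Subgroup.normalizer (H : Set G) := by
      have := mul_mem (mul_mem htu (inv_mem hn)) (inv_mem htu)
      rw [hn', show t⁻¹ * (u * n * u⁻¹)⁻¹ * t = t⁻¹ * u * n⁻¹ * (t⁻¹ * u)⁻¹ by group]
      exact this
    obtain ⟨c, hc, m, b, hb, hab, hpre⟩ := hQ ((fun a => t⁻¹ * a * t) '' D') (t⁻¹ * n'⁻¹ * t)
      (by rintro _ ⟨a, ha, rfl⟩; exact (hQmem a).1 (hD'Q ha)) hnN (by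
        rintro _ ⟨_, ⟨_, ⟨d, hd, rfl⟩, rfl⟩, rfl⟩
        have h1 := (hQmem _).1 (hRu _ (hnR d hd))
        rw [hn']
        simpa [mul_assoc] using h1)
    set L := (List.ofFn b).map (MulAut.conj t) with hL
    have hprod : ∀ k, (L.take k).prod = t * ((List.ofFn b).take k).prod * t⁻¹ := fun k => by
      rw [hL, ← List.map_take, ← map_list_prod]
      rfl
    have hLp : L.prod = t * (List.ofFn b).prod * t⁻¹ := by
      rw [hL, ← map_list_prod]; rfl
    have hWQ : W Qs = (W Q).map (MulAut.conj t).toMonoidHom := by rw [← hQt]; exact (hW Q hQp).2.2 t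
    have hVQ : V Qs = (V Q).map (MulAut.conj t).toMonoidHom := by rw [← hQt]; exact (hV Q hQp).2.2 t
    have hNH : ∀ w ∈ Subgroup.normalizer (H : Set G), t * w * t⁻¹ ∈ Subgroup.normalizer (H' : Set G) := by
      intro w hw
      rw [hH', ← Cfsg.Agent.Local.map_conj_normalizer]
      exact ⟨(t⁻¹ * u)⁻¹ * w * (t⁻¹ * u), mul_mem (mul_mem (inv_mem htu) hw) htu, by simp [mul_assoc]⟩
    have hn1 : RP PG Gen D' n' := by
      have hc' : ∀ a ∈ (fun a => t⁻¹ * a * t) '' D', c⁻¹ * a * c = a := fun a ha => by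
        rw [mul_assoc, Subgroup.mem_centralizer_iff.1 hc.2 a ha, inv_mul_cancel_left]
      have h1 : RP PG Gen D' L.prod⁻¹ := by
        refine rp_of_list Qs inf_le_left L (fun z hz A hA hA' => hstep z⁻¹ ?_ A hA hA') D' fun k hk => ?_
        · obtain ⟨z₀, hz₀, rfl⟩ := List.mem_map.1 hz
          obtain ⟨i, rfl⟩ := List.mem_ofFn.1 hz₀
          rw [MulAut.conj_apply]
          rcases hb i with h | h
          · left
            refine Subgroup.mem_inf.2 ⟨inv_mem (hNH _ h.1), inv_mem ?_⟩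
            rw [hWQ, ← Cfsg.Agent.Local.map_conj_normalizer]
            exact ⟨b i, h.2, rfl⟩
          · right
            refine Subgroup.mem_inf.2 ⟨inv_mem (hNH _ h.1), inv_mem ?_⟩
            rw [hVQ, ← Cfsg.Agent.Local.PairControl.map_conj_centralizer]
            exact ⟨b i, h.2, rfl⟩
        · rintro _ ⟨a, ha, rfl⟩
          have h2 := hpre k (by rw [hL, List.length_map, List.length_ofFn] at hk; exact hk)
            ⟨_, ⟨_, ⟨a, ha, rfl⟩, rfl⟩, rfl⟩
          simp only at h2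
          rw [hc' _ ⟨a, ha, rfl⟩] at h2
          refine (hQmem _).2 ?_
          simp only [hprod]
          simpa [mul_assoc] using h2
      refine h1.congr fun a ha => ?_
      have e : n'⁻¹ = (t * c * t⁻¹) * L.prod := by
        rw [hLp, show n'⁻¹ = t * (t⁻¹ * n'⁻¹ * t) * t⁻¹ by group, hab]; group
      have e2 : (t * c * t⁻¹)⁻¹ * a * (t * c * t⁻¹) = a := by
        calc (t * c * t⁻¹)⁻¹ * a * (t * c * t⁻¹) = t * (c⁻¹ * (t⁻¹ * a * t) * c) * t⁻¹ := by group
          _ = a := by rw [hc' _ ⟨a, ha, rfl⟩]; group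
      calc n' * a * n'⁻¹ = (n'⁻¹)⁻¹ * a * n'⁻¹ := by rw [inv_inv]
        _ = L.prod⁻¹ * ((t * c * t⁻¹)⁻¹ * a * (t * c * t⁻¹)) * L.prod := by rw [e]; group
        _ = _ := by rw [e2]; group
    -- assemble
    have h3 : RP PG Gen (D : Set G) u := hRok.mono fun d hd => hD hd
    have h4 : RP PG Gen ((fun a => u * a * u⁻¹) '' ((fun a => n * a * n⁻¹) '' (D : Set G))) u⁻¹ :=
      (hRok.mono (by rintro _ ⟨d, hd, rfl⟩; exact hnR d hd)).symm hGi
    have h5 := h3.trans hn1
    have h6 := h5.trans (k := u⁻¹) (by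
      convert h4 using 1
      rw [Set.image_image]
      refine Set.image_congr fun a _ => ?_
      rw [hn']; group)
    rwa [hn', show u⁻¹ * (u * n * u⁻¹ * u) = n by group] at h6
  refine ⟨PG, P.isPGroup', P.not_dvd_index, fun X a hX ha => ?_⟩
  have hX' : Subgroup.closure X ≤ PG := (Subgroup.closure_le _).2 hX
  have h := hglob (Subgroup.closure X) hX' a⁻¹ fun d hd => by
    have : Subgroup.closure X ≤ PG.comap (MulAut.conj a⁻¹).toMonoidHom :=
      (Subgroup.closure_le _).2 fun x hx => by simpa using ha ⟨x, hx, rfl⟩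
    exact this hd
  obtain ⟨L, hL, hLe, hLk⟩ := (h.mono Subgroup.subset_closure).exists_list hGi
  have hcent : ∀ x ∈ X, (a * L.prod⁻¹)⁻¹ * x * (a * L.prod⁻¹) = x := fun x hx => by
    have := hLe x hx
    calc (a * L.prod⁻¹)⁻¹ * x * (a * L.prod⁻¹) = L.prod * (a⁻¹ * x * a⁻¹⁻¹) * L.prod⁻¹ := by group
      _ = L.prod * (L.prod⁻¹ * x * L.prod) * L.prod⁻¹ := by rw [← this]
      _ = x := by group
  refine ⟨a * L.prod⁻¹, Subgroup.mem_centralizer_iff.2 fun x hx => ?_, L.length, fun i => L.get i, fun i => ?_, ?_,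
    fun k hk => ?_⟩
  · have := hcent x hx
    calc x * (a * L.prod⁻¹) = (a * L.prod⁻¹) * ((a * L.prod⁻¹)⁻¹ * x * (a * L.prod⁻¹)) := by group
      _ = _ := by rw [this]
  · rcases hL _ (List.get_mem L i) with h1 | h1
    · exact Or.inl ⟨Subgroup.mem_top _, h1⟩
    · exact Or.inr ⟨Subgroup.mem_top _, h1⟩
  · rw [List.ofFn_get, inv_mul_cancel_right]
  · rw [List.ofFn_get, Set.image_congr (fun x hx => hcent x hx), Set.image_id']
    exact hLk k hk

end Cfsg.Agent.S2002
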