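import Cfsg.Statements.S2003
import Cfsg.Prelude
-- import your own Cfsg.Agent.* helpers here

set_option autoImplicit false
open Cfsg

namespace Cfsg.Agent.S2003
open Subgroup
open scoped commutatorElement

section
variable {G : Type*} [Group G]

theorem three {A B C N : Subgroup G} (hA : A ≤ normalizer (N : Set G)) (hB : B ≤ normalizer (N : Set G))
    (hC : C ≤ normalizer (N : Set G)) (h1 : ⁅⁅B, C⁆, A⁆ ≤ N) (h2 : ⁅⁅C, A⁆, B⁆ ≤ N) :
    ⁅⁅A, B⁆, C⁆ ≤ N := by
  let M := normalizer (N : Set G)
  let f := QuotientGroup.mk' (N.subgroupOf M)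
  have hk : ∀ Y : Subgroup M, Y.map f = ⊥ ↔ Y.map M.subtype ≤ N := fun Y => by
    rw [Subgroup.map_eq_bot_iff, QuotientGroup.ker_mk', map_le_iff_le_comap]
    rfl
  have hm : ∀ Y : Subgroup G, Y ≤ M → (Y.subgroupOf M).map M.subtype = Y := fun Y hY => by
    rw [subgroupOf_map_subtype]
    exact inf_eq_left.2 hY
  have e : ∀ A B C : Subgroup G, A ≤ M → B ≤ M → C ≤ M →
      (⁅⁅A.subgroupOf M, B.subgroupOf M⁆, C.subgroupOf M⁆).map M.subtype = ⁅⁅A, B⁆, C⁆ := fun A B C a b c => by
    rw [map_commutator, map_commutator, hm A a, hm B b, hm C c]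
  have t1 := (hk _).2 ((e B C A hB hC hA).trans_le h1)
  have t2 := (hk _).2 ((e C A B hC hA hB).trans_le h2)
  rw [map_commutator, map_commutator] at t1 t2
  have t3 := commutator_commutator_eq_bot_of_rotate t1 t2
  rw [← map_commutator, ← map_commutator, hk, e A B C hA hB hC] at t3
  exact t3

theorem iter_le {U : Subgroup G} (hU : U.Normal) (Z : Subgroup G) (n : ℕ) :
    Cfsg.iterCommutator U Z n ≤ U := by
  induction n with
  | zero => exact le_rfl
  | succ n ih => exact (commutator_mono ih le_rfl).trans (haveI := hU; commutator_le_left U Z)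

theorem iter_mono {U V : Subgroup G} (h : U ≤ V) (Z : Subgroup G) (n : ℕ) :
    Cfsg.iterCommutator U Z n ≤ Cfsg.iterCommutator V Z n := by
  induction n with
  | zero => exact h
  | succ n ih => exact commutator_mono ih le_rfl

theorem iter_later {U V : Subgroup G} (hV : V.Normal) (Z : Subgroup G) {a : ℕ}
    (h : Cfsg.iterCommutator U Z a ≤ V) : ∀ b, a ≤ b → Cfsg.iterCommutator U Z b ≤ V := by
  intro b hb
  induction b, hb using Nat.le_induction with
  | base => exact h
  | succ n _ ih => exact (commutator_mono ih le_rfl).trans (haveI := hV; commutator_le_left V Z)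

theorem iter_norm {U : Subgroup G} (hU : U.Normal) (Z : Subgroup G) (n : ℕ) :
    Z ≤ normalizer (Cfsg.iterCommutator U Z n : Set G) := by
  induction n with
  | zero => haveI := hU; rw [show (Cfsg.iterCommutator U Z 0) = U from rfl, normalizer_eq_top]; exact le_top
  | succ n ih =>
    intro z hz
    refine (mem_normalizer_iff_map_conj_eq.2 ?_)
    show (⁅_, _⁆ : Subgroup G).map _ = _
    rw [map_commutator, mem_normalizer_iff_map_conj_eq.1 (ih hz), mem_normalizer_iff_map_conj_eq.1 (le_normalizer hz)]
    rfl

theorem commutator_sup_le {V : Subgroup G} (hV : V.Normal) (A Z : Subgroup G) :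
    ⁅A ⊔ V, Z⁆ ≤ ⁅A, Z⁆ ⊔ V := by
  rw [commutator_le]
  intro y hy z hz
  haveI := hV
  obtain ⟨a, ha, v, hv, rfl⟩ := mem_sup_of_normal_right.1 hy
  have e : ⁅a * v, z⁆ = (a * ⁅v, z⁆ * a⁻¹) * ⁅a, z⁆ := by simp only [commutatorElement_def]; group
  rw [e]
  exact mul_mem (mem_sup_right (hV.conj_mem _ (commutator_le_left V Z
    (commutator_mem_commutator hv hz)) a)) (mem_sup_left (commutator_mem_commutator ha hz))

theorem iter_sup {V : Subgroup G} (hV : V.Normal) (A Z : Subgroup G) (n : ℕ) :
    Cfsg.iterCommutator (A ⊔ V) Z n ≤ Cfsg.iterCommutator A Z n ⊔ V := by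
  induction n with
  | zero => exact le_rfl
  | succ n ih => exact (commutator_mono ih le_rfl).trans (commutator_sup_le hV _ Z)

variable [Finite G]

theorem descend {U V K : Subgroup G} (h : Cfsg.IsChiefFactor U V) (hK : K.Normal) (hUK : U ≤ V ⊔ K) :
    ∃ U₀ V₀ : Subgroup G, Cfsg.IsChiefFactor U₀ V₀ ∧ U₀ ≤ K ∧ U₀ ⊔ V = U ∧ V₀ ≤ V := by
  obtain ⟨hVU, hUn, hVn, hmid⟩ := h
  haveI := hUn; haveI := hVn; haveI := hK
  have h0 : ¬ U ⊓ K ≤ V := by
    intro hle
    apply hVU.not_ge
    intro u hu
    obtain ⟨v, hv, k, hk, rfl⟩ := mem_sup_of_normal_right.1 (hUK hu)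
    have hkU : k ∈ U := by
      have := mul_mem (inv_mem (hVU.le hv)) hu
      rwa [inv_mul_cancel_left] at this
    exact mul_mem hv (hle (mem_inf.2 ⟨hkU, hk⟩))
  obtain ⟨U₀, hU₀⟩ := (Set.toFinite {N : Subgroup G | N.Normal ∧ N ≤ U ⊓ K ∧ ¬ N ≤ V}).exists_minimal
    ⟨U ⊓ K, inferInstance, le_rfl, h0⟩
  obtain ⟨hn0, hle0, hnot0⟩ := hU₀.1
  haveI := hn0
  refine ⟨U₀, U₀ ⊓ V, ⟨lt_of_le_of_ne inf_le_left fun e => hnot0 (e ▸ inf_le_right), hn0, inferInstance,
    fun N hN h1 h2 => ?_⟩, hle0.trans inf_le_right, ?_, inf_le_right⟩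
  · by_cases hNV : N ≤ V
    · exact .inl (le_antisymm (le_inf h2 hNV) h1)
    · exact .inr (le_antisymm h2 (hU₀.2 ⟨hN, h2.trans hle0, hNV⟩ h2))
  · haveI : (U₀ ⊔ V).Normal := sup_normal _ _
    rcases hmid (U₀ ⊔ V) inferInstance le_sup_right (sup_le (hle0.trans inf_le_left) hVU.le) with e | e
    · exact absurd (le_sup_left.trans e.le) hnot0
    · exact e

theorem trivial_on_factor {p : ℕ} [Fact p.Prime] {P U V : Subgroup G} [P.Normal] (hP : IsPGroup p P)
    (hUP : U ≤ P) (h : Cfsg.IsChiefFactor U V) : ⁅U, P⁆ ≤ V := by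
  obtain ⟨hVU, hUn, hVn, hmid⟩ := h
  haveI := hUn; haveI := hVn
  haveI : (⁅U, P⁆ ⊔ V).Normal := sup_normal _ _
  rcases hmid _ inferInstance le_sup_right (sup_le (commutator_le_left U P) hVU.le) with e | e
  · exact le_sup_left.trans e.le
  exfalso
  apply hVU.not_ge
  haveI := hP.isNilpotent
  obtain ⟨n, hn⟩ := Subgroup.nilpotent_iff_lowerCentralSeries.1 (inferInstance : Group.IsNilpotent P)
  have key : ∀ k, U ≤ ((Subgroup.lowerCentralSeries (⊤ : Subgroup P) k).map P.subtype) ⊔ V := by
    intro k
    induction k with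
    | zero =>
      refine le_sup_of_le_left ?_
      intro u hu
      exact ⟨⟨u, hUP hu⟩, by simp, rfl⟩
    | succ k ih =>
      conv_lhs => rw [← e]
      refine sup_le ((commutator_mono ih le_rfl).trans ?_) le_sup_right
      refine (commutator_sup_le hVn _ P).trans (sup_le_sup_right ?_ _)
      rw [Subgroup.lowerCentralSeries_succ, map_commutator, ← MonoidHom.range_eq_map, range_subtype]
  have := key n
  rw [hn, Subgroup.map_bot, bot_sup_eq] at this
  exact this

end


/-- Let p be a prime, G a finite group, P a normal p-subgroup of G and Q a critical subgroup of P: a characteristic subgroup with Q/Z(Q) elementary abelian, [P, Q] ≤ Z(Q), C_P(Q) = Z(Q), and such that every automorphism of P of order prime to p fixing Q elementwise is trivial. Let g ∈ G and i, j ≥ 1, and suppose that [X, g, …, g] ≤ Y with i entries g for every chief factor X/Y of G with X ≤ Q, and with j entries g for every chief factor X/Y of G with X ≤ Z(Q). Then [X, g, …, g] ≤ Y with i + j − 1 entries g for every chief factor X/Y of G with X ≤ P. -/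
theorem result {G : Type*} [Group G] [Finite G] {p : ℕ} [Fact p.Prime] (P : Subgroup G) [P.Normal] (hP : IsPGroup p ↥P) (Q : Subgroup G) (hQP : Q ≤ P) (hQchar : (Q.subgroupOf P).Characteristic) (hQ1 : ∀ a ∈ Q, a ^ p ∈ Q ⊓ Subgroup.centralizer ((Q : Subgroup G) : Set G)) (hQ2 : ⁅Q, Q⁆ ≤ Subgroup.centralizer ((Q : Subgroup G) : Set G)) (hQ3 : ⁅P, Q⁆ ≤ Q ⊓ Subgroup.centralizer ((Q : Subgroup G) : Set G)) (hQ4 : P ⊓ Subgroup.centralizer ((Q : Subgroup G) : Set G) = Q ⊓ Subgroup.centralizer ((Q : Subgroup G) : Set G)) (hQ5 : ∀ φ : MulAut ↥P, (orderOf φ).Coprime p → (∀ a : ↥P, (a : G) ∈ Q → φ a = a) → φ = 1) (g : G) (i j : ℕ) (hi : 1 ≤ i) (hj : 1 ≤ j) (hQi : ∀ U V : Subgroup G, Cfsg.IsChiefFactor U V → U ≤ Q → Cfsg.iterCommutator U (Subgroup.zpowers g) i ≤ V) (hZj : ∀ U V : Subgroup G, Cfsg.IsChiefFactor U V → U ≤ Q ⊓ Subgroup.centralizer ((Q : Subgroup G) : Set G) → Cfsg.iterCommutator U (Subgroup.zpowers g) j ≤ V) : ∀ U V : Subgroup G, Cfsg.IsChiefFactor U V → U ≤ P → Cfsg.iterCommutator U (Subgroup.zpowers g) (i + j - 1) ≤ V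 := by
  skip
  classical
  haveI hQn : Q.Normal := by
    haveI := hQchar
    have : ((Q.subgroupOf P).map P.subtype).Normal := ConjAct.normal_of_characteristic_of_normal
    rwa [subgroupOf_map_subtype, inf_eq_left.2 hQP] at this
  set Z : Subgroup G := Q ⊓ centralizer (Q : Set G) with hZdef
  haveI : Z.Normal := inferInstance
  set T := zpowers g with hT
  set n := i + j - 1 with hn
  have norm : ∀ (N : Subgroup G) (W : Subgroup G), N.Normal → W ≤ normalizer (N : Set G) := fun N W h => by
    rw [normalizer_eq_top]; exact le_top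
  have finish : ∀ U V U₀ V₀ : Subgroup G, Cfsg.IsChiefFactor U V → U₀ ⊔ V = U → V₀ ≤ V →
      Cfsg.iterCommutator U₀ T n ≤ V₀ → Cfsg.iterCommutator U T n ≤ V := fun U V U₀ V₀ h e hle h0 => by
    rw [← e]
    exact (iter_sup h.2.2.1 U₀ T n).trans (sup_le (h0.trans hle) le_rfl)
  have main : ∀ R : Subgroup G, R.Normal → R ≤ Q → ∀ U V : Subgroup G, Cfsg.IsChiefFactor U V → U ≤ P →
      ¬ U ≤ V ⊔ (P ⊓ centralizer (R : Set G)) → Cfsg.iterCommutator U T n ≤ V := by
    intro R
    induction R using (wellFounded_lt (α := Subgroup G)).induction with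
    | _ R ih =>
      intro hRn hRQ U V hUV hUP hnot
      by_cases hR1 : R = ⊥
      · subst hR1
        exact absurd (le_sup_of_le_right (le_inf hUP fun u _ => mem_centralizer_iff.2 fun x hx => by
          rw [mem_bot.1 hx, one_mul, mul_one])) hnot
      obtain ⟨R', hR'⟩ := (Set.toFinite {N : Subgroup G | N.Normal ∧ N < R}).exists_maximal
        ⟨⊥, inferInstance, bot_lt_iff_ne_bot.2 hR1⟩
      obtain ⟨hR'n, hR'lt⟩ := hR'.1
      haveI := hR'n; haveI := hRn
      have hRchief : Cfsg.IsChiefFactor R R' := ⟨hR'lt, hRn, hR'n, fun N hN h1 h2 => by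
        rcases h2.eq_or_lt with e | e
        · exact .inr e
        · exact .inl (le_antisymm (hR'.2 ⟨hN, e⟩ h1) h1)⟩
      by_cases hK : U ≤ V ⊔ (P ⊓ centralizer (R' : Set G))
      swap
      · exact ih R' hR'lt hR'n (hR'lt.le.trans hRQ) U V hUV hUP hK
      have second : ∀ W : Subgroup G, W.Normal → W ≤ Z → ∀ U V : Subgroup G, Cfsg.IsChiefFactor U V → U ≤ P →
          U ≤ centralizer (R' : Set G) → (∀ r ∈ R, ∀ x ∈ U, ⁅r, x⁆ ∈ W) →
          ¬ U ≤ V ⊔ (P ⊓ centralizer (R : Set G)) → Cfsg.iterCommutator U T n ≤ V := by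
        intro W
        induction W using (wellFounded_lt (α := Subgroup G)).induction with
        | _ W ihW =>
          intro hWn hWZ U V hUV hUP hUR hUW hnot
          by_cases hW1 : W = ⊥
          · subst hW1
            exact absurd (le_sup_of_le_right (le_inf hUP fun x hx => mem_centralizer_iff.2 fun r hr =>
              commutatorElement_eq_one_iff_mul_comm.1 (mem_bot.1 (hUW r hr x hx)))) hnot
          obtain ⟨W', hW'⟩ := (Set.toFinite {N : Subgroup G | N.Normal ∧ N < W}).exists_maximal
            ⟨⊥, inferInstance, bot_lt_iff_ne_bot.2 hW1⟩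
          obtain ⟨hW'n, hW'lt⟩ := hW'.1
          haveI := hW'n; haveI := hWn
          have hWchief : Cfsg.IsChiefFactor W W' := ⟨hW'lt, hWn, hW'n, fun N hN h1 h2 => by
            rcases h2.eq_or_lt with e | e
            · exact .inr e
            · exact .inl (le_antisymm (hW'.2 ⟨hN, e⟩ h1) h1)⟩
          have hWP : W ≤ P := hWZ.trans (inf_le_left.trans hQP)
          have hRP : R ≤ P := hRQ.trans hQP
          -- the kernel
          let K : Subgroup G :=
            { carrier := {x | x ∈ P ∧ ∀ r ∈ R, ⁅r, x⁆ ∈ W'}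
              one_mem' := ⟨one_mem P, fun r _ => by simp [commutatorElement_def, one_mem]⟩
              mul_mem' := fun {a b} ha hb => ⟨mul_mem ha.1 hb.1, fun r hr => by
                have e : ⁅r, a * b⁆ = ⁅r, a⁆ * (a * ⁅r, b⁆ * a⁻¹) := by
                  simp only [commutatorElement_def]; group
                rw [e]; exact mul_mem (ha.2 r hr) (hW'n.conj_mem _ (hb.2 r hr) a)⟩
              inv_mem' := fun {a} ha => ⟨inv_mem ha.1, fun r hr => by
                have e : ⁅r, a⁻¹⁆ = a⁻¹ * ⁅r, a⁆⁻¹ * a := by simp only [commutatorElement_def]; group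
                rw [e]; simpa using hW'n.conj_mem _ (inv_mem (ha.2 r hr)) a⁻¹⟩ }
          haveI hKn : K.Normal := ⟨fun x hx c => ⟨Normal.conj_mem inferInstance x hx.1 c, fun r hr => by
            have h := hW'n.conj_mem _ (hx.2 _ (by simpa using hRn.conj_mem r hr c⁻¹)) c
            convert h using 1
            simp only [commutatorElement_def]; group⟩⟩
          by_cases hUK : U ≤ V ⊔ K
          · obtain ⟨U₀, V₀, h0, h0K, h0e, h0V⟩ := descend hUV hKn hUK
            have hle : U₀ ≤ U := h0e ▸ le_sup_left
            refine finish U V U₀ V₀ hUV h0e h0V (ihW W' hW'lt hW'n (hW'lt.le.trans hWZ) U₀ V₀ h0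
              (hle.trans hUP) (hle.trans hUR) (fun r hr x hx => (h0K hx).2 r hr) fun h => hnot ?_)
            conv_lhs => rw [← h0e]
            exact sup_le (h.trans (sup_le_sup_right h0V _)) le_sup_left
          · -- the three subgroup lemma
            haveI hUn : U.Normal := hUV.2.1
            set C : ℕ → Subgroup G := fun t => Cfsg.iterCommutator W T t ⊔ W' with hC
            have hCW : ∀ t, C t ≤ W := fun t => sup_le (iter_le hWn T t) hW'lt.le
            have hW'P := trivial_on_factor hP hWP hWchief
            have hCP : ∀ t, P ≤ normalizer (C t : Set G) := fun t x hx => by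
              have hconj : ∀ x ∈ P, ∀ w ∈ C t, x * w * x⁻¹ ∈ C t := fun x hx w hw => by
                have h1 : ⁅w, x⁆⁻¹ ∈ W' := inv_mem (hW'P (commutator_mem_commutator (hCW t hw) hx))
                have e : x * w * x⁻¹ = ⁅w, x⁆⁻¹ * w := by simp only [commutatorElement_def]; group
                rw [e]; exact mul_mem (mem_sup_right h1) hw
              exact mem_normalizer_iff.2 fun w => ⟨hconj x hx w, fun h => by
                simpa [mul_assoc] using hconj x⁻¹ (inv_mem hx) _ h⟩
            have hCT : ∀ t, T ≤ normalizer (C t : Set G) := fun t z hz => by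
              refine (mem_normalizer_iff_map_conj_eq.2 ?_)
              rw [Subgroup.map_sup, mem_normalizer_iff_map_conj_eq.1 (iter_norm hWn T t hz),
                mem_normalizer_iff_map_conj_eq.1 (norm W' T hW'n hz)]
            have hCs : ∀ t, ⁅C t, T⁆ ≤ C (t + 1) := fun t => commutator_sup_le hW'n _ T
            have hCanti : ∀ a b, a ≤ b → C b ≤ C a := by
              intro a b hab
              induction b, hab using Nat.le_induction with
              | base => exact le_rfl
              | succ m _ ihm =>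
                refine le_trans ?_ ihm
                refine sup_le ?_ le_sup_right
                show ⁅Cfsg.iterCommutator W T m, T⁆ ≤ _
                rw [commutator_le]
                intro w hw z hz
                have h1 := (mem_normalizer_iff.1 (iter_norm hWn T m hz) w⁻¹).1 (inv_mem hw)
                have h2 := mul_mem hw h1
                refine mem_sup_left ?_
                convert h2 using 1
                simp only [commutatorElement_def]; group
            have hCj : C j ≤ W' := sup_le (hZj W W' hWchief hWZ) le_rfl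
            set A : ℕ → Subgroup G := fun s => Cfsg.iterCommutator R T s with hA
            have hAR : ∀ s, A s ≤ R := fun s => iter_le hRn T s
            have step : ∀ k s, ⁅A s, Cfsg.iterCommutator U T k⁆ ≤ C (s + k + 1 - i) := by
              intro k
              induction k with
              | zero =>
                intro s
                by_cases hs : i ≤ s
                · have h1 : A s ≤ R' := iter_later hR'n T (hQi R R' hRchief hRQ) s hs
                  refine (commutator_mono h1 le_rfl).trans (le_of_eq_of_le ?_ bot_le)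
                  rw [commutator_eq_bot_iff_le_centralizer]
                  intro r hr
                  exact mem_centralizer_iff.2 fun x hx => ((mem_centralizer_iff.1 (hUR hx)) r hr).symm
                · rw [show s + 0 + 1 - i = 0 by omega, commutator_le]
                  intro r hr x hx
                  exact mem_sup_left (hUW r (hAR s hr) x hx)
              | succ k ihk =>
                intro s
                have hXP : Cfsg.iterCommutator U T k ≤ P := (iter_le hUn T k).trans hUP
                show ⁅A s, ⁅Cfsg.iterCommutator U T k, T⁆⁆ ≤ _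
                rw [commutator_comm]
                refine three (hXP.trans (hCP _)) (hCT _) ((hAR s).trans (hRP.trans (hCP _))) ?_ ?_
                · rw [commutator_comm T (A s)]
                  refine (ihk (s + 1)).trans (hCanti _ _ ?_)
                  omega
                · refine (commutator_mono (ihk s) le_rfl).trans ((hCs _).trans (hCanti _ _ ?_))
                  omega
            have hXK : Cfsg.iterCommutator U T n ≤ U ⊓ K := by
              refine le_inf (iter_le hUn T n) fun x hx => ⟨hUP (iter_le hUn T n hx), fun r hr => ?_⟩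
              have h1 := step n 0 (commutator_mem_commutator (show r ∈ A 0 from hr) hx)
              rw [show 0 + n + 1 - i = j by omega] at h1
              exact hCj h1
            refine hXK.trans ?_
            haveI := hUV.2.2.1
            haveI : ((U ⊓ K) ⊔ V).Normal := sup_normal _ _
            rcases hUV.2.2.2 ((U ⊓ K) ⊔ V) inferInstance le_sup_right (sup_le inf_le_left hUV.1.le) with e | e
            · exact le_sup_left.trans e.le
            · exact absurd (e.ge.trans (sup_le (inf_le_right.trans le_sup_right) le_sup_left)) hUK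
      obtain ⟨U₀, V₀, h0, h0K, h0e, h0V⟩ := descend hUV inferInstance hK
      have hle : U₀ ≤ U := h0e ▸ le_sup_left
      refine finish U V U₀ V₀ hUV h0e h0V (second Z inferInstance le_rfl U₀ V₀ h0 (hle.trans hUP)
        (h0K.trans inf_le_right) (fun r hr x hx => ?_) fun h => hnot ?_)
      · have := hQ3 (commutator_mem_commutator (hUP (hle hx)) (hRQ hr))
        rw [← commutatorElement_inv]
        exact inv_mem this
      · conv_lhs => rw [← h0e]
        exact sup_le (h.trans (sup_le_sup_right h0V _)) le_sup_left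
  intro U V hUV hUP
  by_cases hUZ : U ≤ V ⊔ Z
  · obtain ⟨U₀, V₀, h0, h0Z, h0e, h0V⟩ := descend hUV inferInstance hUZ
    exact finish U V U₀ V₀ hUV h0e h0V (iter_later h0.2.2.1 T (hZj U₀ V₀ h0 h0Z) n (by omega))
  · exact main Q hQn le_rfl U V hUV hUP (by rw [hQ4]; exact hUZ)

end Cfsg.Agent.S2003
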