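import Cfsg.Statements.S2004
import Cfsg.Agent.Lib.Solv.QdProj

set_option autoImplicit false
open scoped Pointwise
open Cfsg

namespace Cfsg.Agent.S2004

/-- Let p be an odd prime and G a finite group such that SL₂(p) is not involved in N_G(P) for any nonidentity p-subgroup P of G. Then every section of G is p-stable in the normalizer form: in each section, whenever an element of the normalizer of a p-subgroup Q acts quadratically on Q, its image in N(Q)/C(Q) lies in O_p(N(Q)/C(Q)). -/
theorem result {G : Type*} [Group G] [Finite G] {p : ℕ} [Fact p.Prime] (hp : p ≠ 2) (h : ∀ P : Subgroup G, IsPGroup p ↥P → P ≠ ⊥ → ¬ Cfsg.Involves (Matrix.SpecialLinearGroup (Fin 2) (ZMod p)) ↥(Subgroup.normalizer ((P : Subgroup G) : Set G))) : ∀ (K R : Subgroup G) [hR : (R.subgroupOf K).Normal], Cfsg.IsNormalizerPStable p (↥K ⧸ R.subgroupOf K) := by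
  intro K R hR
  classical
  refine Cfsg.Agent.Solv.Quad.isNormalizerPStable_of_qdFree hp fun hqd => ?_
  obtain ⟨H, θ, hθ⟩ := Cfsg.Agent.Solv.Quad.exists_hom_of_involves (Cfsg.Agent.Solv.Quad.involves_of_section hqd)
  let f : H →* Matrix.SpecialLinearGroup (Fin 2) (ZMod p) := Cfsg.Agent.Local.qdLinear.comp θ
  have hf : Function.Surjective f := Cfsg.Agent.Local.qdLinear_surjective.comp hθ
  obtain ⟨P⟩ : Nonempty (Sylow p f.ker) := inferInstance
  have hdvd : p ∣ Nat.card f.ker := by
    obtain ⟨z, hz⟩ := hθ (Cfsg.Agent.Local.trans (1 : ZMod p) 0)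
    have hzk : z ∈ f.ker := by
      rw [MonoidHom.mem_ker]
      show Cfsg.Agent.Local.qdLinear (θ z) = 1
      rw [hz]
      apply Subtype.ext
      change Matrix.submatrix _ _ _ = _
      ext i j
      fin_cases i <;> fin_cases j <;> simp [Cfsg.Agent.Local.trans, Cfsg.Agent.Local.qdElt, Cfsg.Agent.Local.affMat]
    have h1 : orderOf (Cfsg.Agent.Local.trans (1 : ZMod p) 0) = p := by
      refine orderOf_eq_prime ?_ ?_
      · rw [Cfsg.Agent.Local.trans_pow]
        simp [Cfsg.Agent.Local.trans, Cfsg.Agent.Local.qdElt_one]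
      · intro h2
        have h3 := congrArg (fun q : Cfsg.qd p => ((q : Matrix.SpecialLinearGroup (Fin 3) (ZMod p)) : Matrix (Fin 3) (Fin 3) (ZMod p)) 0 2) h2
        simp [Cfsg.Agent.Local.trans, Cfsg.Agent.Local.qdElt, Cfsg.Agent.Local.affMat] at h3
    have h4 : p ∣ orderOf z := h1 ▸ hz ▸ orderOf_map_dvd θ z
    exact h4.trans ((orderOf_submonoid (⟨z, hzk⟩ : f.ker)).symm ▸ orderOf_dvd_natCard (⟨z, hzk⟩ : f.ker))
  have hPne : (P : Subgroup f.ker) ≠ ⊥ := P.ne_bot_of_dvd_card hdvd
  have htop := Sylow.normalizer_sup_eq_top P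
  set P' : Subgroup H := (P : Subgroup f.ker).map f.ker.subtype with hP'
  refine h (P'.map H.subtype) ((P.isPGroup'.map _).map _) ?_ ?_
  · intro hb
    exact hPne ((Subgroup.map_eq_bot_iff_of_injective _ f.ker.subtype_injective).mp ((Subgroup.map_eq_bot_iff_of_injective P' H.subtype_injective).mp hb))
  have hsur : Function.Surjective (f.comp (Subgroup.normalizer (P' : Set H)).subtype) := by
    intro m
    obtain ⟨x, rfl⟩ := hf m
    have hx : x ∈ Subgroup.normalizer (P' : Set H) ⊔ f.ker := by rw [htop]; exact Subgroup.mem_top x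
    rw [Subgroup.mem_sup_of_normal_right] at hx
    obtain ⟨n, hn, k, hk, rfl⟩ := hx
    exact ⟨⟨n, hn⟩, by show f n = f (n * k); rw [map_mul, MonoidHom.mem_ker.mp hk, mul_one]⟩
  have h5 : Cfsg.Involves (Matrix.SpecialLinearGroup (Fin 2) (ZMod p)) ((Subgroup.normalizer (P' : Set H)).map H.subtype) := by
    let e := (Subgroup.normalizer (P' : Set H)).equivMapOfInjective H.subtype H.subtype_injective
    exact Cfsg.Agent.Solv.Quad.involves_of_hom ⊤ ((f.comp (Subgroup.normalizer (P' : Set H)).subtype).comp (e.symm.toMonoidHom.comp Subgroup.topEquiv.toMonoidHom))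
      (by
        intro m
        obtain ⟨n, hn⟩ := hsur m
        exact ⟨⟨e n, Subgroup.mem_top _⟩, by simpa using hn⟩)
  have hle : (Subgroup.normalizer (P' : Set H)).map H.subtype ≤ Subgroup.normalizer ((P'.map H.subtype : Subgroup G) : Set G) := Subgroup.le_normalizer_map H.subtype
  obtain ⟨L, φ, hφ⟩ := Cfsg.Agent.Solv.Quad.exists_hom_of_involves h5
  let i := Subgroup.inclusion hle
  let e2 := L.equivMapOfInjective i (Subgroup.inclusion_injective hle)
  exact Cfsg.Agent.Solv.Quad.involves_of_hom _ (φ.comp e2.symm.toMonoidHom) (hφ.comp e2.symm.surjective)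

end Cfsg.Agent.S2004
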