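import Cfsg.Statements.S2005
import Cfsg.Agent.Lib.Local.NPCFunctor
-- import your own Cfsg.Agent.* helpers here

set_option autoImplicit false
universe u
open Cfsg

namespace Cfsg.Agent.S2005

/-- Thompson's normal p-complement criterion in functor form. Let p be a prime, G a finite group with Sylow p-subgroup S, and W an isomorphism-invariant p-group functor (W assigns to every group Q a subgroup W(Q), nontrivial whenever Q is a nontrivial finite p-group, and every isomorphism from a finite p-group Q onto a group R carries W(Q) onto W(R)). Suppose N_G(W(S)) has a normal p-complement, and that W(S*) is normal in G* whenever G* = K/R is a section of G with C_{G*}(O_p(G*)) ≤ O_p(G*) such that G*/O_p(G*) has a normal p-complement, and S* is a Sylow p-subgroup of G* that is a maximal subgroup of G*. Then G has a normal p-complement. -/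
theorem result {G : Type u} [Group G] [Finite G] {p : ℕ} [Fact p.Prime] (W : ∀ (Q : Type u) [Group Q], Subgroup Q) (hW : Cfsg.IsCharPFunctor.{u} p W) (S : Sylow p G) (hN : Cfsg.HasNormalPComplement p ↥(Subgroup.normalizer ((Cfsg.inducedFunctor (G := G) W (S : Subgroup G) : Subgroup G) : Set G))) (hloc : ∀ (K R : Subgroup G) [hR : (R.subgroupOf K).Normal], Subgroup.centralizer ((Cfsg.pCore p (↥K ⧸ R.subgroupOf K) : Subgroup (↥K ⧸ R.subgroupOf K)) : Set (↥K ⧸ R.subgroupOf K)) ≤ Cfsg.pCore p (↥K ⧸ R.subgroupOf K) → Cfsg.HasNormalPComplement p ((↥K ⧸ R.subgroupOf K) ⧸ Cfsg.pCore p (↥K ⧸ R.subgroupOf K)) → ∀ T : Sylow p (↥K ⧸ R.subgroupOf K), IsCoatom (T : Subgroup (↥K ⧸ R.subgroupOf K)) → (Cfsg.inducedFunctor (G := (↥K ⧸ R.subgroupOf K)) W ((T : Subgroup (↥K ⧸ R.subgroupOf K)))).Normal) : Cfsg.HasNormalPComplement p G := by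
  classical
  refine Cfsg.Agent.Local.NPCFunctor.npc_of_functor hW (fun Y _ _ hY hYc hYq T hT => ?_) S hN
  obtain ⟨K, f, hf⟩ := hY
  have hker : (f.ker.map K.subtype).subgroupOf K = f.ker :=
    Subgroup.comap_map_eq_self_of_injective K.subtype_injective _
  haveI : ((f.ker.map K.subtype).subgroupOf K).Normal := by rw [hker]; infer_instance
  let e : K ⧸ (f.ker.map K.subtype).subgroupOf K ≃* Y :=
    (QuotientGroup.quotientMulEquivOfEq hker).trans (QuotientGroup.quotientKerEquivOfSurjective f hf)
  let T' := T.mapSurjective (f := e.symm.toMonoidHom) e.symm.surjective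
  have hback : T'.toSubgroup.map e.toMonoidHom = (T : Subgroup Y) := by
    show ((T : Subgroup Y).map e.symm.toMonoidHom).map e.toMonoidHom = _
    rw [Subgroup.map_map]
    convert Subgroup.map_id (T : Subgroup Y)
    ext; simp
  have hcore : (Cfsg.pCore p Y).map e.symm.toMonoidHom = Cfsg.pCore p _ :=
    Cfsg.Agent.Solv.pCore_map_equiv p e.symm
  have hq := Cfsg.Agent.Solv.hasNormalPComplement_of_mulEquiv
    (QuotientGroup.congr (Cfsg.pCore p Y) (Cfsg.pCore p _) e.symm hcore) hYq
  have hn := hloc K _ (Cfsg.Agent.Local.FusionRed.centralizer_pCore_le_of_equiv e.symm hYc) hq T' ?_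
  · rw [← hback, Cfsg.Agent.Local.FusionRed.inducedFunctor_map hW e.toMonoidHom _ T'.isPGroup'
      fun x _ hx => e.injective (hx.trans (map_one _).symm)]
    exact hn.map _ e.surjective
  · have hinv : ∀ A : Subgroup Y, (A.map e.symm.toMonoidHom).map e.toMonoidHom = A := fun A => by
      rw [Subgroup.map_map]
      convert Subgroup.map_id A
      ext; simp
    refine ⟨fun h => hT.1 ?_, fun H hH => ?_⟩
    · rw [← hback, show T'.toSubgroup = ⊤ from h, Subgroup.map_top_of_surjective _ e.surjective]
    · have h2 := hT.2 (H.map e.toMonoidHom)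
        (hback.symm.trans_lt ((Subgroup.map_lt_map_iff_of_injective e.injective).2 hH))
      exact Subgroup.map_injective e.injective (h2.trans (Subgroup.map_top_of_surjective _ e.surjective).symm)

end Cfsg.Agent.S2005
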