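import Cfsg.Statements.S2006
import Cfsg.Agent.Lib.Local.NPCFunctor
-- import your own Cfsg.Agent.* helpers here

set_option autoImplicit false
universe u
open Cfsg

namespace Cfsg.Agent.S2006

/-- Let p be a prime, G a finite group with Sylow p-subgroup S, and W an isomorphism-invariant p-group functor (W assigns to every group Q a subgroup W(Q), nontrivial whenever Q is a nontrivial finite p-group, and every isomorphism from a finite p-group Q onto a group R carries W(Q) onto W(R)). Suppose N_G(W(S)) has a normal p-complement, and that whenever G* = K/R is a section of G with C_{G*}(O_p(G*)) ≤ O_p(G*) and S* is a Sylow p-subgroup of G* with W(S*) not normal in G*, there are an element g of S* outside O_p(G*) and a chief factor X/Y of G* with X ≤ O_p(G*) such that [X, g, …, g] ≤ Y with p − 1 entries g but [X, g] ≰ Y. Then G has a normal p-complement. -/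
theorem result {G : Type u} [Group G] [Finite G] {p : ℕ} [Fact p.Prime] (W : ∀ (Q : Type u) [Group Q], Subgroup Q) (hW : Cfsg.IsCharPFunctor.{u} p W) (S : Sylow p G) (hN : Cfsg.HasNormalPComplement p ↥(Subgroup.normalizer ((Cfsg.inducedFunctor (G := G) W (S : Subgroup G) : Subgroup G) : Set G))) (hloc : ∀ (K R : Subgroup G) [hR : (R.subgroupOf K).Normal], Subgroup.centralizer ((Cfsg.pCore p (↥K ⧸ R.subgroupOf K) : Subgroup (↥K ⧸ R.subgroupOf K)) : Set (↥K ⧸ R.subgroupOf K)) ≤ Cfsg.pCore p (↥K ⧸ R.subgroupOf K) → ∀ T : Sylow p (↥K ⧸ R.subgroupOf K), ¬ (Cfsg.inducedFunctor (G := (↥K ⧸ R.subgroupOf K)) W ((T : Subgroup (↥K ⧸ R.subgroupOf K)))).Normal → ∃ g : (↥K ⧸ R.subgroupOf K), g ∈ (T : Subgroup (↥K ⧸ R.subgroupOf K)) ∧ g ∉ Cfsg.pCore p (↥K ⧸ R.subgroupOf K) ∧ ∃ U V : Subgroup (↥K ⧸ R.subgroupOf K), Cfsg.IsChiefFactor U V ∧ U ≤ Cfsg.pCore p (↥K ⧸ R.subgroupOf K) ∧ Cfsg.iterCommutator U (Subgroup.zpowers g) (p - 1) ≤ V ∧ ¬ ⁅U, Subgroup.zpowers g⁆ ≤ V) : Cfsg.HasNormalPComplement p G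 := by
  classical
  refine Cfsg.Agent.Local.NPCFunctor.npc_of_functor hW (fun Y _ _ hY hYc hYq T hT => ?_) S hN
  obtain ⟨K, f, hf⟩ := hY
  have hker : (f.ker.map K.subtype).subgroupOf K = f.ker :=
    Subgroup.comap_map_eq_self_of_injective K.subtype_injective _
  haveI : ((f.ker.map K.subtype).subgroupOf K).Normal := by rw [hker]; infer_instance
  let e : K ⧸ (f.ker.map K.subtype).subgroupOf K ≃* Y :=
    (QuotientGroup.quotientMulEquivOfEq hker).trans (QuotientGroup.quotientKerEquivOfSurjective f hf)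
  let T' := T.mapSurjective (f := e.symm.toMonoidHom) e.symm.surjective
  have hback : T'.toSubgroup.map e.toMonoidHom = (T : Subgroup Y) := by
    show ((T : Subgroup Y).map e.symm.toMonoidHom).map e.toMonoidHom = _
    rw [Subgroup.map_map]
    convert Subgroup.map_id (T : Subgroup Y)
    ext; simp
  by_contra hn
  have hn' : ¬ (Cfsg.inducedFunctor W T'.toSubgroup).Normal := by
    intro h
    apply hn
    rw [← hback, Cfsg.Agent.Local.FusionRed.inducedFunctor_map hW e.toMonoidHom _ T'.isPGroup'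
      fun x _ hx => e.injective (hx.trans (map_one _).symm)]
    exact h.map _ e.surjective
  obtain ⟨g, hgT, hgQ, U, V, hUV, hU, hit, hne⟩ :=
    hloc K _ (Cfsg.Agent.Local.FusionRed.centralizer_pCore_le_of_equiv e.symm hYc) T' hn'
  have hcore : (Cfsg.pCore p Y).map e.symm.toMonoidHom = Cfsg.pCore p _ :=
    Cfsg.Agent.Solv.pCore_map_equiv p e.symm
  refine Cfsg.Agent.Local.NPCFunctor.false_of_chief_engel (Cfsg.Agent.Solv.hasNormalPComplement_of_mulEquiv
    (QuotientGroup.congr (Cfsg.pCore p Y) (Cfsg.pCore p _) e.symm hcore) hYq) T' ?_ hgT hgQ hUV hU hit hne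
  refine ⟨fun h => hT.1 ?_, fun H hH => ?_⟩
  · rw [← hback, show T'.toSubgroup = ⊤ from h, Subgroup.map_top_of_surjective _ e.surjective]
  · have h2 := hT.2 (H.map e.toMonoidHom)
      (hback.symm.trans_lt ((Subgroup.map_lt_map_iff_of_injective e.injective).2 hH))
    exact Subgroup.map_injective e.injective (h2.trans (Subgroup.map_top_of_surjective _ e.surjective).symm)

end Cfsg.Agent.S2006
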