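import Cfsg.Statements.S2007
import Cfsg.Agent.Lib.Solv.Basic

set_option autoImplicit false
open Cfsg

namespace Cfsg.Agent.S2007

open Subgroup

theorem exists_index_eq_prime_pow {N : Type*} [Group N] [Finite N] {p : ℕ} (C : Subgroup N)
    (h : ∀ q : ℕ, q.Prime → q ∣ C.index → q = p) : ∃ k, C.index = p ^ k :=
  ⟨_, Nat.eq_prime_pow_of_unique_prime_dvd index_ne_zero_of_finite fun {q} hq hd => h q hq hd⟩

theorem hasNormalPComplement_of {N : Type*} [Group N] [Finite N] {p : ℕ} [Fact p.Prime]
    (S : Sylow p N) (C : Subgroup N) [C.Normal] (hi : ∃ k, C.index = p ^ k)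
    (hc : (C ⊓ (S : Subgroup N)).subgroupOf C ≤ center C) : Cfsg.HasNormalPComplement p N := by
  obtain ⟨Q⟩ := Sylow.nonempty (p := p) (G := C)
  obtain ⟨T, hT⟩ := (Q.isPGroup'.map C.subtype).exists_le_sylow
  obtain ⟨g, hg⟩ := MulAction.exists_smul_eq N S T
  have hQc : (Q : Subgroup C) ≤ center C := fun x hx => by
    have hxT : (x : N) ∈ (T : Subgroup N) := hT ⟨x, hx, rfl⟩
    have hy : g⁻¹ * (x : N) * g ∈ (S : Subgroup N) := by
      rw [← hg] at hxT
      have := Subgroup.mem_pointwise_smul_iff_inv_smul_mem.1 hxT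
      simpa [← map_inv, mul_assoc] using this
    have hyC : g⁻¹ * (x : N) * g ∈ C := by
      simpa using (inferInstance : C.Normal).conj_mem (x : N) x.2 g⁻¹
    have hz := hc (show (⟨_, hyC⟩ : C) ∈ (C ⊓ (S : Subgroup N)).subgroupOf C from ⟨hyC, hy⟩)
    have e : x = MulAut.conjNormal g (⟨_, hyC⟩ : C) := Subtype.ext (by simp [mul_assoc])
    rw [e]
    exact Subgroup.characteristic_iff_map_le.1 (inferInstanceAs (center C).Characteristic)
      (MulAut.conjNormal g) (Subgroup.mem_map_of_mem _ hz)
  have hQN : normalizer ((Q : Subgroup C) : Set C) ≤ centralizer ((Q : Subgroup C) : Set C) := by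
    intro y _
    rw [mem_centralizer_iff]
    intro z hz
    exact ((mem_center_iff.1 (hQc hz)) y).symm
  set K := (MonoidHom.transferSylow Q hQN).ker
  have hK : K.IsComplement' (Q : Subgroup C) := MonoidHom.ker_transferSylow_isComplement' Q hQN
  have hKi : ¬ p ∣ Nat.card K := by
    rw [← hK.index_eq_card]; exact Q.not_dvd_index
  haveI : (pPrimeCore p C).Characteristic := inferInstance
  have hKle : K ≤ pPrimeCore p C :=
    Solv.le_pPrimeCore (Nat.coprime_comm.1 ((Fact.out : p.Prime).coprime_iff_not_dvd.2 hKi))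
  set M := (pPrimeCore p C).map C.subtype
  have hcop : (Nat.card M).Coprime (Nat.card S) := by
    obtain ⟨k, hk⟩ := IsPGroup.iff_card.1 S.isPGroup'
    rw [Solv.card_map_subtype, hk]
    exact (Solv.card_pPrimeCore_coprime p C).pow_right k
  refine ⟨S, M, inferInstance, Subgroup.isComplement'_of_coprime ?_ hcop⟩
  obtain ⟨k, hk⟩ := hi
  obtain ⟨a, ha⟩ := IsPGroup.iff_card.1 Q.isPGroup'
  have hN : Nat.card N = Nat.card K * p ^ (a + k) := by
    rw [← C.card_mul_index, ← hK.card_mul, hk, ha, pow_add, mul_assoc]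
  have hMK : Nat.card M = Nat.card K := by
    rw [Solv.card_map_subtype]
    refine Nat.dvd_antisymm ?_ (card_dvd_of_le hKle)
    have h2 := (pPrimeCore p C).card_subgroup_dvd_card
    rw [← hK.card_mul, ha] at h2
    exact ((Solv.card_pPrimeCore_coprime p C).pow_right a).dvd_of_dvd_mul_right h2
  have hS : Nat.card S = p ^ (a + k) := by
    rw [S.card_eq_multiplicity, hN, Nat.factorization_mul Nat.card_pos.ne'
      (pow_ne_zero _ (Fact.out : p.Prime).ne_zero), Finsupp.add_apply,
      Nat.factorization_eq_zero_of_not_dvd hKi, zero_add,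
      (Fact.out : p.Prime).factorization_pow, Finsupp.single_eq_same]
  rw [hMK, hS, hN]


/-- Let p be a prime, G a finite group with Sylow p-subgroup S, and T a normal subgroup of S containing C_S(T). If N_G(T)/C_G(T) is a p-group (every element of N_G(T) of order prime to p centralizes T), then N_G(T) has a normal p-complement. -/
theorem result {G : Type*} [Group G] [Finite G] {p : ℕ} [Fact p.Prime] (S : Sylow p G) (T : Subgroup G) (hTS : T ≤ (S : Subgroup G)) (hTn : (S : Subgroup G) ≤ Subgroup.normalizer ((T : Subgroup G) : Set G)) (hC : (S : Subgroup G) ⊓ Subgroup.centralizer ((T : Subgroup G) : Set G) ≤ T) (hN : ∀ g ∈ Subgroup.normalizer ((T : Subgroup G) : Set G), (orderOf g).Coprime p → g ∈ Subgroup.centralizer ((T : Subgroup G) : Set G)) : Cfsg.HasNormalPComplement p ↥(Subgroup.normalizer ((T : Subgroup G) : Set G)) := by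
  set N : Subgroup G := Subgroup.normalizer ((T : Subgroup G) : Set G) with hNdef
  have hSN : (S : Subgroup G) ≤ N := hTn
  set C : Subgroup N := (Subgroup.centralizer ((T : Subgroup G) : Set G)).subgroupOf N with hCdef
  haveI hCn : C.Normal := by
    rw [hCdef, hNdef]; exact Subgroup.normalizerMonoidHom_ker T ▸ MonoidHom.normal_ker _
  set SN : Sylow p N := S.subtype hSN with hSNdef
  haveI hPC : (C ⊓ (SN : Subgroup N)).subgroupOf C ≤ Subgroup.center C := fun x hx => by
    rw [Subgroup.mem_center_iff]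
    intro y
    have hxT : ((x : N) : G) ∈ T := hC ⟨hx.2, x.1.2 |> fun _ => x.2⟩
    exact Subtype.ext (Subtype.ext ((Subgroup.mem_centralizer_iff.1 y.2 _ hxT).symm))
  have hindex : ∃ k, C.index = p ^ k := by
    refine exists_index_eq_prime_pow C fun q hq hd => ?_
    by_contra hne
    haveI := Fact.mk hq
    rw [Subgroup.index_eq_card] at hd
    obtain ⟨z, hz⟩ := exists_prime_orderOf_dvd_card' q hd
    obtain ⟨g, rfl⟩ := QuotientGroup.mk'_surjective C z
    set m := orderOf g with hm
    set e := m / q ^ m.factorization q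
    have hcop : (orderOf (g ^ e)).Coprime p := by
      rw [orderOf_pow, ← hm]
      have hd1 : q ^ m.factorization q ∣ m := Nat.ordProj_dvd m q
      rw [Nat.gcd_eq_right (Nat.div_dvd_of_dvd hd1), Nat.div_div_self hd1 (orderOf_pos g).ne']
      exact ((Nat.coprime_primes hq (Fact.out : p.Prime)).2 hne).pow_left _
    have hg : ((g ^ e : N) : G) ∈ Subgroup.centralizer ((T : Subgroup G) : Set G) :=
      hN _ (g ^ e).2 (by rwa [Subgroup.orderOf_coe])
    have h1 : (QuotientGroup.mk' C g) ^ e = 1 := by
      rw [← map_pow]; exact (QuotientGroup.eq_one_iff _).2 hg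
    have h2 := orderOf_dvd_of_pow_eq_one h1
    rw [hz] at h2
    exact Nat.not_dvd_ordCompl hq (orderOf_pos g).ne' h2
  exact hasNormalPComplement_of SN C hindex hPC

end Cfsg.Agent.S2007
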