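import Cfsg.Statements.S2008
import Mathlib
-- import your own Cfsg.Agent.* helpers here

set_option autoImplicit false
open Cfsg

namespace Cfsg.Agent.S2008
theorem inverts {H : Type*} [Group H] [Finite H] (z : H) (hN : ∀ N : Subgroup H, N.Normal → N ≠ ⊤ → N ⊓ Subgroup.centralizer ({z} : Set H) = ⊥) (N : Subgroup H) [N.Normal] (hne : N ≠ ⊤) {e : H} (he : e * e = 1) (hc : IsConj z e) {n : H} (hn : n ∈ N) : e * n * e = n⁻¹ := by
  obtain ⟨g, hg⟩ := isConj_iff.1 hc
  have hfix : ∀ m ∈ N, e * m = m * e → m = 1 := by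
    intro m hm hme
    have h1 : g⁻¹ * m * g ∈ N := by
      simpa using (inferInstance : N.Normal).conj_mem m hm g⁻¹
    have h2 : g⁻¹ * m * g ∈ N ⊓ Subgroup.centralizer ({z} : Set H) := by
      refine Subgroup.mem_inf.2 ⟨h1, Subgroup.mem_centralizer_iff.2 fun y hy => ?_⟩
      rw [Set.mem_singleton_iff.1 hy]
      calc z * (g⁻¹ * m * g) = g⁻¹ * ((g * z * g⁻¹) * m) * g := by group
        _ = g⁻¹ * (m * (g * z * g⁻¹)) * g := by rw [hg, hme]
        _ = g⁻¹ * m * g * z := by group
    rw [hN N inferInstance hne, Subgroup.mem_bot] at h2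
    calc m = g * (g⁻¹ * m * g) * g⁻¹ := by group
      _ = 1 := by rw [h2]; group
  have hei : e⁻¹ = e := inv_eq_of_mul_eq_one_right he
  let φ : N → N := fun m => ⟨(m : H)⁻¹ * (e * m * e⁻¹), mul_mem (inv_mem m.2) ((inferInstance : N.Normal).conj_mem m m.2 e)⟩
  have hinj : Function.Injective φ := by
    intro a b hab
    have h : (a : H)⁻¹ * (e * a * e⁻¹) = (b : H)⁻¹ * (e * b * e⁻¹) := congrArg Subtype.val hab
    have h' : e * ((b : H) * (a : H)⁻¹) = ((b : H) * (a : H)⁻¹) * e := by
      have h2 : (b : H) * (a : H)⁻¹ * (e * a * e⁻¹) = e * b * e⁻¹ := by rw [mul_assoc, h]; group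
      calc e * ((b : H) * (a : H)⁻¹) = (e * b * e⁻¹) * (e * a * e⁻¹)⁻¹ * e := by group
        _ = ((b : H) * (a : H)⁻¹ * (e * a * e⁻¹)) * (e * a * e⁻¹)⁻¹ * e := by rw [h2]
        _ = _ := by group
    have := hfix _ (mul_mem b.2 (inv_mem a.2)) h'
    exact Subtype.ext (mul_inv_eq_one.1 this).symm
  obtain ⟨m, hm⟩ := (Finite.injective_iff_surjective.1 hinj) ⟨n, hn⟩
  have hm' : (m : H)⁻¹ * (e * m * e⁻¹) = n := congrArg Subtype.val hm
  rw [← hm', hei]
  calc e * ((m : H)⁻¹ * (e * m * e)) * e = e * (m : H)⁻¹ * e * m * (e * e) := by group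
    _ = e * (m : H)⁻¹ * e⁻¹ * m := by rw [he, hei]; group
    _ = _ := by rw [hei]; simp [mul_assoc, hei]

theorem normal_eq_bot {H : Type*} [Group H] [Finite H] (z : H) (hN : ∀ N : Subgroup H, N.Normal → N ≠ ⊤ → N ⊓ Subgroup.centralizer ({z} : Set H) = ⊥) (E : Subgroup H) (hE : IsKleinFour ↥E) (hzE : z ∈ E) (hz1 : z ≠ 1) (hc : ∀ e ∈ E, e ≠ 1 → IsConj z e) (N : Subgroup H) [N.Normal] (hne : N ≠ ⊤) : N = ⊥ := by
  classical
  have hsq : ∀ e ∈ E, e * e = 1 := fun e he => by
    have h := hE.exponent_two ▸ Monoid.pow_exponent_eq_one (⟨e, he⟩ : E)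
    rw [pow_two] at h
    exact congrArg Subtype.val h
  obtain ⟨f, hf, hf1, hfz⟩ : ∃ f ∈ E, f ≠ 1 ∧ f ≠ z := by
    by_contra h
    push Not at h
    have hsub : (E : Set H) ⊆ {1, z} := fun x hx => by
      by_cases h1 : x = 1
      · exact Or.inl h1
      · exact Or.inr (h x hx h1)
    have h4 := hE.card_four
    have : Nat.card E ≤ 2 := le_trans (Nat.card_mono (Set.toFinite _) hsub) (by
      rw [Nat.card_coe_set_eq]; exact (Set.ncard_insert_le _ _).trans (by simp))
    omega
  have hzf1 : z * f ≠ 1 := fun h => hfz (by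
    have := inv_eq_of_mul_eq_one_right h
    rw [inv_eq_of_mul_eq_one_right (hsq z hzE)] at this
    exact this.symm)
  rw [eq_bot_iff]
  intro n hn
  have h1 := inverts z hN N hne (hsq z hzE) (hc z hzE hz1) hn
  have h2 := inverts z hN N hne (hsq f hf) (hc f hf hf1) (inv_mem hn)
  rw [inv_inv] at h2
  have h3 := inverts z hN N hne (hsq _ (mul_mem hzE hf)) (hc _ (mul_mem hzE hf) hzf1) hn
  have hcomm : z * f = f * z := by
    have e := inv_eq_of_mul_eq_one_right (hsq _ (mul_mem hzE hf))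
    rw [mul_inv_rev, inv_eq_of_mul_eq_one_right (hsq f hf), inv_eq_of_mul_eq_one_right (hsq z hzE)] at e
    exact e.symm
  have h4 : z * f * n * (z * f) = n := by
    calc z * f * n * (z * f) = f * z * n * (z * f) := by rw [hcomm]
      _ = f * (z * n * z) * f := by group
      _ = n := by rw [h1, h2]
  have hnn : n⁻¹ = n := h3.symm.trans h4
  have h5 : n ∈ N ⊓ Subgroup.centralizer ({z} : Set H) := by
    refine Subgroup.mem_inf.2 ⟨hn, Subgroup.mem_centralizer_iff.2 fun y hy => ?_⟩
    rw [Set.mem_singleton_iff.1 hy]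
    rw [hnn] at h1
    calc z * n = z * n * (z * z) := by rw [hsq z hzE, mul_one]
      _ = (z * n * z) * z := by group
      _ = n * z := by rw [h1]
  rwa [hN N inferInstance hne] at h5


/-- Let H be a finite group and z an involution such that every proper normal subgroup of H meets the centralizer of z trivially, and suppose z lies in a Klein four-subgroup E of H all three of whose involutions are conjugate to z in H. Then H has no non-trivial abelian normal subgroup. -/
theorem result {H : Type*} [Group H] [Finite H] (z : H) (hz : orderOf z = 2) (hN : ∀ N : Subgroup H, N.Normal → N ≠ ⊤ → N ⊓ Subgroup.centralizer ({z} : Set H) = ⊥) (E : Subgroup H) (hE : IsKleinFour ↥E) (hzE : z ∈ E) (hc : ∀ e ∈ E, e ≠ 1 → IsConj z e) (N : Subgroup H) [N.Normal] (hab : IsMulCommutative ↥N) : N = ⊥ := by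
  have hz1 : z ≠ 1 := fun h => by rw [h, orderOf_one] at hz; omega
  refine normal_eq_bot z hN E hE hzE hz1 hc N fun hne => ?_
  have hsub : (E : Set H) ⊆ {1, z} := fun x hx => by
    by_cases h1 : x = 1
    · exact Or.inl h1
    · obtain ⟨g, hg⟩ := isConj_iff.1 (hc x hx h1)
      refine Or.inr (hg.symm.trans ?_)
      rw [show g * z = z * g from congrArg Subtype.val (hab.is_comm.comm (⟨g, hne ▸ Subgroup.mem_top g⟩ : N) ⟨z, hne ▸ Subgroup.mem_top z⟩)]
      simp
  have : Nat.card E ≤ 2 := le_trans (Nat.card_mono (Set.toFinite _) hsub) (by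
    rw [Nat.card_coe_set_eq]; exact (Set.ncard_insert_le _ _).trans (by simp))
  have h4 := hE.card_four
  omega

end Cfsg.Agent.S2008
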