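import Cfsg.Statements.S2011
import Cfsg.Agent.Lib.Fusion.GroupSystem
import Cfsg.Agent.Lib.Solv.NormalPComplement
-- import your own Cfsg.Agent.* helpers here

set_option autoImplicit false
open Cfsg

namespace Cfsg.Agent.S2011

/-- Let G be a finite group with Sylow p-subgroup P and Q ≤ P. Then Q is centric in the fusion system of G on P (C_P(R) ≤ R for every G-conjugate R of Q lying in P) if and only if C_G(Q) is the internal direct product of Z(Q) = Q ∩ C_G(Q) and the largest normal subgroup of C_G(Q) of order prime to p. -/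
theorem result {G : Type*} [Group G] [Finite G] (p : ℕ) [Fact p.Prime] (P : Sylow p G) (Q : Subgroup G) (hQ : Q ≤ P) : (Cfsg.groupFusionSystem (P : Subgroup G)).IsCentric Q ↔ Cfsg.IsInternalDirectProduct (Q ⊓ Subgroup.centralizer (Q : Set G)) ((Cfsg.pPrimeCore p ↥(Subgroup.centralizer (Q : Set G))).map (Subgroup.centralizer (Q : Set G)).subtype) (Subgroup.centralizer (Q : Set G)) := by
  classical
  set C := Subgroup.centralizer (Q : Set G) with hC
  set Z := Q ⊓ C with hZ
  set X := (Cfsg.pPrimeCore p C).map C.subtype with hX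
  have hXC : X ≤ C := Subgroup.map_subtype_le _
  have hXc : (Nat.card X).Coprime p := by
    rw [hX, Subgroup.card_map_of_injective C.subtype_injective]
    exact Cfsg.Agent.Solv.card_pPrimeCore_coprime p C
  have hZp : IsPGroup p Z := P.isPGroup'.to_le (inf_le_left.trans hQ)
  have hZX : Z ⊓ X = ⊥ := Cfsg.Agent.Solv.inf_eq_bot_of_isPGroup hZp hXc
  have hcen : ∀ a ∈ Z, ∀ b ∈ C, a * b = b * a := fun a ha b hb => Subgroup.mem_centralizer_iff.1 hb a ha.1
  constructor
  · rintro ⟨-, h⟩
    obtain ⟨T⟩ : Nonempty (Sylow p C) := inferInstance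
    set T' := (T : Subgroup C).map C.subtype with hT'
    have hTC : T' ≤ C := Subgroup.map_subtype_le _
    obtain ⟨g, hg⟩ := Cfsg.Agent.Fusion.exists_conj_le_sylow P (IsPGroup.to_sup_of_normal_right'
      (T.isPGroup'.map C.subtype) (P.isPGroup'.to_le hQ) (hTC.trans (Subgroup.centralizer_le_normalizer _)))
    rw [Subgroup.map_sup, sup_le_iff] at hg
    have hR := h _ (Cfsg.Agent.Fusion.isConj_groupFusionSystem.2 ⟨hQ, hg.2, g, rfl⟩)
    have hTQ : T' ≤ Z := by
      refine le_inf (fun t ht => ?_) hTC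
      have h1 : g * t * g⁻¹ ∈ Q.map (MulAut.conj g).toMonoidHom := by
        refine hR ⟨hg.1 ⟨t, ht, rfl⟩, Subgroup.mem_centralizer_iff.2 ?_⟩
        rintro _ ⟨q, hq, rfl⟩
        simp only [MulEquiv.coe_toMonoidHom, MulAut.conj_apply]
        have h2 := Subgroup.mem_centralizer_iff.1 (hTC ht) q hq
        calc g * q * g⁻¹ * (g * t * g⁻¹) = g * (q * t) * g⁻¹ := by group
          _ = _ := by rw [h2]; group
      obtain ⟨q, hq, hqe⟩ := h1
      have : q = t := (MulAut.conj g).injective hqe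
      exact this ▸ hq
    have hnpc : Cfsg.HasNormalPComplement p C := by
      refine Cfsg.Agent.Solv.hasNormalPComplement_of_burnside T fun x _ => ?_
      rw [Subgroup.mem_centralizer_iff]
      intro t ht
      exact Subtype.ext (hcen _ (hTQ ⟨t, ht, rfl⟩) _ x.2)
    refine ⟨inf_le_right, hXC, fun a ha b hb => hcen a ha b (hXC hb), hZX, le_antisymm (sup_le inf_le_right hXC) ?_⟩
    intro c hc
    have h1 := (Cfsg.Agent.Solv.isComplement'_pPrimeCore hnpc T).sup_eq_top.ge (Subgroup.mem_top (⟨c, hc⟩ : C))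
    have h2 := Subgroup.mem_map_of_mem C.subtype h1
    rw [Subgroup.map_sup] at h2
    exact sup_le (le_sup_right (a := Z) (b := X)) (hTQ.trans le_sup_left) h2
  · rintro ⟨-, -, -, -, hsup⟩
    refine ⟨hQ, fun R hR => ?_⟩
    obtain ⟨-, hRP, g, rfl⟩ := Cfsg.Agent.Fusion.isConj_groupFusionSystem.1 hR
    intro c hc
    obtain ⟨hcP, hcc⟩ := hc
    have hc' : g⁻¹ * c * g ∈ C := by
      rw [hC, Subgroup.mem_centralizer_iff]
      intro q hq
      have h2 : g * q * g⁻¹ * c = c * (g * q * g⁻¹) := Subgroup.mem_centralizer_iff.1 hcc _ ⟨q, hq, rfl⟩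
      calc q * (g⁻¹ * c * g) = g⁻¹ * (g * q * g⁻¹ * c) * g := by group
        _ = _ := by rw [h2]; group
    rw [← hsup] at hc'
    have hXn : Z ≤ Subgroup.normalizer (X : Set G) := fun z hz => by
      rw [Subgroup.mem_normalizer_iff]
      intro x
      constructor
      · intro hx; rwa [hcen z hz x (hXC hx), mul_inv_cancel_right]
      · intro hx
        have h3 : z⁻¹ * (z * x * z⁻¹) * z = z * x * z⁻¹ := by
          rw [mul_assoc, ← hcen z hz _ (hXC hx), inv_mul_cancel_left]
        rw [show z⁻¹ * (z * x * z⁻¹) * z = x by group] at h3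
        rwa [← h3] at hx
    rw [← SetLike.mem_coe, Subgroup.coe_mul_of_left_le_normalizer_right Z X hXn, Set.mem_mul] at hc'
    obtain ⟨z, hz, x, hx, hzx⟩ := hc'
    obtain ⟨k, hk⟩ := P.isPGroup' ⟨c, hcP⟩
    have hk' : (g⁻¹ * c * g) ^ (p ^ k) = 1 := by
      have hck : c ^ (p ^ k) = 1 := congrArg Subtype.val hk
      have := conj_pow (a := g⁻¹) (b := c) (i := p ^ k)
      rw [inv_inv] at this
      rw [this, hck]; group
    rw [← hzx, (show Commute z x from hcen z hz x (hXC hx)).mul_pow] at hk'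
    have hx1 : x ^ (p ^ k) = 1 := by
      have : x ^ (p ^ k) ∈ Z ⊓ X := by
        refine Subgroup.mem_inf.2 ⟨?_, pow_mem hx _⟩
        rw [eq_inv_of_mul_eq_one_right hk']
        exact inv_mem (pow_mem hz _)
      rw [hZX, Subgroup.mem_bot] at this
      exact this
    have hx2 : x = 1 := orderOf_eq_one_iff.1 (Nat.eq_one_of_dvd_coprimes
      (hXc.pow_right k) (Subgroup.orderOf_dvd_natCard X hx) (orderOf_dvd_of_pow_eq_one hx1))
    refine ⟨z, hz.1, ?_⟩
    rw [hx2, mul_one] at hzx
    simp [hzx, mul_assoc]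

end Cfsg.Agent.S2011
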