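import Cfsg.Statements.S2012
import Cfsg.Agent.Lib.Local.ConjFamily
import Cfsg.Agent.Lib.Local.WeaklyClosedBasics
-- import your own Cfsg.Agent.* helpers here

set_option autoImplicit false
open Cfsg

namespace Cfsg.Agent.S2012
open Cfsg.Agent

variable {G : Type*} [Group G] {p : ℕ}

/-- Image under right conjugation. -/
abbrev img (x : G) (A : Set G) : Set G := (fun a => x⁻¹ * a * x) '' A

theorem img_eq (x : G) (D : Subgroup G) :
    img x (D : Set G) = ((D.map (MulAut.conj x⁻¹).toMonoidHom : Subgroup G) : Set G) := by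
  ext z
  constructor
  · rintro ⟨a, ha, rfl⟩; exact ⟨a, ha, by simp⟩
  · rintro ⟨a, ha, rfl⟩; exact ⟨a, ha, by simp⟩

/-- An admissible step through the tame intersection of `P` and `Q`. -/
def Good (P Q : Sylow p G) (x : G) : Prop :=
  x ∈ Subgroup.normalizer ((((P : Subgroup G) ⊓ (Q : Subgroup G)) : Subgroup G) : Set G) ∧
    ¬ p ∣ ((P : Subgroup G) ⊓ Subgroup.normalizer ((((P : Subgroup G) ⊓ (Q : Subgroup G)) : Subgroup G) : Set G)).relIndex
      (Subgroup.normalizer ((((P : Subgroup G) ⊓ (Q : Subgroup G)) : Subgroup G) : Set G)) ∧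
    ¬ p ∣ ((Q : Subgroup G) ⊓ Subgroup.normalizer ((((P : Subgroup G) ⊓ (Q : Subgroup G)) : Subgroup G) : Set G)).relIndex
      (Subgroup.normalizer ((((P : Subgroup G) ⊓ (Q : Subgroup G)) : Subgroup G) : Set G)) ∧
    (Q = P ∨ ∃ k : ℕ, orderOf x = p ^ k)

/-- Chains of admissible steps. -/
inductive Ch (P : Sylow p G) : Set G → G → Prop
  | nil (A : Set G) : Ch P A 1
  | cons {A : Set G} {x g : G} (Q : Sylow p G) (hx : Good P Q x)
      (hA : A ⊆ (((P : Subgroup G) ⊓ (Q : Subgroup G) : Subgroup G) : Set G))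
      (h : Ch P (img x A) g) : Ch P A (x * g)

theorem img_mul (A : Set G) (x y : G) : img y (img x A) = img (x * y) A := Cfsg.Agent.Local.image_conj_mul A x y

theorem Ch.mono {P : Sylow p G} {A B : Set G} {g : G} (h : Ch P A g) : B ⊆ A → Ch P B g := by
  induction h generalizing B with
  | nil A => intro _; exact .nil B
  | cons Q hx hA _ ih => intro hBA; exact .cons Q hx (hBA.trans hA) (ih (Set.image_mono hBA))

theorem Ch.trans {P : Sylow p G} {A : Set G} {g h : G} (h1 : Ch P A g) :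
    Ch P (img g A) h → Ch P A (g * h) := by
  induction h1 with
  | nil A => intro h2; rw [show img (1 : G) A = A from Cfsg.Agent.Local.image_conj_one A] at h2; simpa using h2
  | @cons A x g Q hx hA _ ih =>
    intro h2
    rw [mul_assoc]
    exact .cons Q hx hA (ih (by rwa [img_mul]))

theorem Ch.exists_list {P : Sylow p G} {A : Set G} {g : G} (h1 : Ch P A g) :
    ∃ (n : ℕ) (Q : Fin n → Sylow p G) (x : Fin n → G), (List.ofFn x).prod = g ∧
      (∀ i, Good P (Q i) (x i)) ∧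
      (∀ h : 0 < n, A ⊆ (((P : Subgroup G) ⊓ (Q ⟨0, h⟩ : Subgroup G) : Subgroup G) : Set G)) ∧
      ∀ (i : Fin n) (h : i.val + 1 < n),
        img (((List.ofFn x).take (i.val + 1)).prod) A ⊆
          (((P : Subgroup G) ⊓ (Q ⟨i.val + 1, h⟩ : Subgroup G) : Subgroup G) : Set G) := by
  induction h1 with
  | nil A => exact ⟨0, Fin.elim0, Fin.elim0, by simp, Fin.rec0, fun h => absurd h (by omega), Fin.rec0⟩
  | @cons A x g Q hx hA _ ih =>
    obtain ⟨n, Qs, xs, hprod, h2, h3, h4⟩ := ih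
    refine ⟨n + 1, Fin.cons Q Qs, Fin.cons x xs, ?_, ?_, fun _ => hA, ?_⟩
    · rw [List.ofFn_cons, List.prod_cons, hprod]
    · intro i; induction i using Fin.cases with
      | zero => exact hx
      | succ j => simpa using h2 j
    · intro i hi
      rw [List.ofFn_cons]
      simp only [List.take_succ_cons, List.prod_cons]
      rw [show (⟨i.val + 1, hi⟩ : Fin (n + 1)) = Fin.succ ⟨i.val, by omega⟩ from rfl, Fin.cons_succ, ← img_mul]
      cases i using Fin.cases with
      | zero => simpa [img] using h3 (by omega)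
      | succ j => exact h4 j (by simp at hi; omega)


/-- Alperin's fusion Theorem with the factors taken to be p-elements: let P be a Sylow p-subgroup of a finite group G, A a subset of P and g an element with g⁻¹Ag ⊆ P. Then g = x_1 ⋯ x_n where, for each i, Q_i is a Sylow p-subgroup with P ∩ Q_i a tame intersection (the normalizers in P and in Q_i of P ∩ Q_i are Sylow in N_G(P ∩ Q_i)), x_i normalizes P ∩ Q_i, x_i has p-power order unless Q_i = P, A ⊆ P ∩ Q_1, and (x_1 ⋯ x_i)⁻¹ A (x_1 ⋯ x_i) lies in P ∩ Q_{i+1} for i < n. -/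
theorem result {G : Type*} [Group G] [Finite G] {p : ℕ} [Fact p.Prime] (P : Sylow p G) (A : Set G) (g : G) (hA : A ⊆ (P : Set G)) (hAg : (fun a => g⁻¹ * a * g) '' A ⊆ (P : Set G)) : ∃ (n : ℕ) (Q : Fin n → Sylow p G) (x : Fin n → G), (List.ofFn x).prod = g ∧ (∀ i : Fin n, x i ∈ Subgroup.normalizer ((((P : Subgroup G) ⊓ (Q i : Subgroup G)) : Subgroup G) : Set G) ∧ ¬ p ∣ ((P : Subgroup G) ⊓ Subgroup.normalizer ((((P : Subgroup G) ⊓ (Q i : Subgroup G)) : Subgroup G) : Set G)).relIndex (Subgroup.normalizer ((((P : Subgroup G) ⊓ (Q i : Subgroup G)) : Subgroup G) : Set G)) ∧ ¬ p ∣ ((Q i : Subgroup G) ⊓ Subgroup.normalizer ((((P : Subgroup G) ⊓ (Q i : Subgroup G)) : Subgroup G) : Set G)).relIndex (Subgroup.normalizer ((((P : Subgroup G) ⊓ (Q i : Subgroup G)) : Subgroup G) : Set G)) ∧ ((Q i : Subgroup G) = (P : Subgroup G) ∨ ∃ k : ℕ, orderOf (x i) = p ^ k)) ∧ (∀ h : 0 < n, A ⊆ (((P : Subgroup G) ⊓ (Q ⟨0, h⟩ : Subgroup G) : Subgroup G) : Set G)) ∧ ∀ i :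 Fin n, ∀ h : i.val + 1 < n, (fun a => (((List.ofFn x).take (i.val + 1)).prod)⁻¹ * a * ((List.ofFn x).take (i.val + 1)).prod) '' A ⊆ (((P : Subgroup G) ⊓ (Q ⟨i.val + 1, h⟩ : Subgroup G) : Subgroup G) : Set G) := by
  skip
  classical
  have hp : p.Prime := Fact.out
  have hext : ∀ (N V : Subgroup G), V ≤ N → IsPGroup p V → ∃ S : Sylow p G, V ≤ (S : Subgroup G) ∧
      ¬ p ∣ ((S : Subgroup G) ⊓ N).relIndex N := by
    intro N V hVN hV
    obtain ⟨A, hA⟩ := (hV.comap_subtype (K := N)).exists_le_sylow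
    obtain ⟨S, hS⟩ := (A.isPGroup'.map N.subtype).exists_le_sylow
    refine ⟨S, fun v hv => hS ⟨⟨v, hVN hv⟩, hA hv, rfl⟩, ?_⟩
    have h1 : (S : Subgroup G).subgroupOf N = (A : Subgroup N) :=
      A.is_maximal' (S.isPGroup'.comap_subtype (K := N)) fun a ha => hS ⟨a, ha, rfl⟩
    rw [Subgroup.inf_relIndex_right, Subgroup.relIndex, h1]
    exact A.not_dvd_index
  -- every Sylow subgroup is carried to `P`
  suffices hmain : ∀ (n : ℕ) (Q : Sylow p G), Nat.card (P : Subgroup G) - Nat.card ↥((P : Subgroup G) ⊓ (Q : Subgroup G)) < n →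
      ∃ k, Ch P (((P : Subgroup G) ⊓ (Q : Subgroup G) : Subgroup G) : Set G) k ∧ k⁻¹ • Q = P by
    obtain ⟨k, hk, hkQ⟩ := hmain _ (g • P) (Nat.lt_succ_self _)
    have hAD : A ⊆ (((P : Subgroup G) ⊓ ((g • P : Sylow p G) : Subgroup G) : Subgroup G) : Set G) := fun a ha =>
      Subgroup.mem_inf.2 ⟨hA ha, g⁻¹ * a * g, hAg ⟨a, ha, rfl⟩, by simp [mul_assoc]⟩
    have hy : k⁻¹ * g ∈ Subgroup.normalizer ((P : Subgroup G) : Set G) :=
      Sylow.smul_eq_iff_mem_normalizer.1 (by rw [mul_smul]; exact hkQ)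
    have hlast : Good P P (k⁻¹ * g) := by
      refine ⟨?_, ?_, ?_, Or.inl rfl⟩
      · rw [inf_idem]; exact hy
      all_goals
        rw [inf_idem, inf_eq_left.2 Subgroup.le_normalizer, Subgroup.relIndex]
        exact (P.subtype Subgroup.le_normalizer).not_dvd_index
    have h1 : Ch P A k := hk.mono hAD
    have h2 : Ch P (img k A) (k⁻¹ * g * 1) := by
      refine Ch.cons P hlast ?_ (Ch.nil _)
      rw [inf_idem]
      rintro _ ⟨a, ha, rfl⟩
      rw [← hkQ]
      exact ⟨a, (Subgroup.mem_inf.1 (hAD ha)).2, by simp [mul_assoc]⟩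
    obtain ⟨n, Q, x, hprod, hgood, h0, hnext⟩ := (h1.trans h2).exists_list
    refine ⟨n, Q, x, by rw [hprod]; group, fun i => ⟨(hgood i).1, (hgood i).2.1, (hgood i).2.2.1, ?_⟩, h0, hnext⟩
    rcases (hgood i).2.2.2 with h | h
    · exact Or.inl (by rw [h])
    · exact Or.inr h
  intro n
  induction n with
  | zero => intro Q h; omega
  | succ n ih =>
  intro Q hQ
  set D := (P : Subgroup G) ⊓ (Q : Subgroup G) with hD
  by_cases hDP : D = (P : Subgroup G)
  · have hQP : Q = P := Sylow.ext (P.is_maximal' Q.isPGroup' (inf_eq_left.1 hDP))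
    exact ⟨1, Ch.nil _, by rw [inv_one, one_smul, hQP]⟩
  have hDlt : D < (P : Subgroup G) := lt_of_le_of_ne inf_le_left hDP
  have hcardlt : Nat.card D < Nat.card (P : Subgroup G) := by
    by_contra h
    exact hDP (Subgroup.eq_of_le_of_card_ge hDlt.le (not_lt.1 h))
  have big : ∀ (T : Sylow p G) (E : Subgroup G), E ≤ (P : Subgroup G) ⊓ (T : Subgroup G) →
      Nat.card D < Nat.card ↥((P : Subgroup G) ⊓ (T : Subgroup G)) →
      ∃ k, Ch P (E : Set G) k ∧ k⁻¹ • T = P := by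
    intro T E hE hlt
    have h2 : Nat.card ↥((P : Subgroup G) ⊓ (T : Subgroup G)) ≤ Nat.card (P : Subgroup G) :=
      Subgroup.card_le_of_le inf_le_left
    obtain ⟨k, hk, hkT⟩ := ih T (by omega)
    exact ⟨k, hk.mono hE, hkT⟩
  have card_lt : ∀ {E F : Subgroup G}, E < F → Nat.card E < Nat.card F := fun {E F} h => by
    by_contra h'
    exact h.ne (Subgroup.eq_of_le_of_card_ge h.le (not_lt.1 h'))
  -- move so that `P` meets the normalizer in a Sylow subgroup
  set N := Subgroup.normalizer (D : Set G) with hN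
  have hNP : D < (P : Subgroup G) ⊓ N := Cfsg.Agent.Local.lt_sylow_inf_normalizer P hDlt
  obtain ⟨S, hPS, hS⟩ := hext N ((P : Subgroup G) ⊓ N) inf_le_right (P.isPGroup'.to_le inf_le_left)
  obtain ⟨y, hy, hyS⟩ := big S D (le_inf hDlt.le (hNP.le.trans hPS))
    (lt_of_lt_of_le (card_lt hNP) (Subgroup.card_le_of_le (le_inf inf_le_left hPS)))
  set c := (MulAut.conj y⁻¹).toMonoidHom with hc
  have hcinj : Function.Injective c := (MulAut.conj y⁻¹).injective
  have hSc : (S : Subgroup G).map c = (P : Subgroup G) := by rw [← hyS]; rfl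
  set D' := D.map c with hD'
  set Q' := y⁻¹ • Q with hQ'
  have hD'P : D' ≤ (P : Subgroup G) := hSc ▸ Subgroup.map_mono (hNP.le.trans hPS)
  have hD'Q : D' ≤ (Q' : Subgroup G) := Subgroup.map_mono inf_le_right
  have himg : img y (D : Set G) = (D' : Set G) := img_eq y D
  have hD'c : Nat.card D' = Nat.card D := Subgroup.card_map_of_injective hcinj
  rcases lt_or_ge (Nat.card D) (Nat.card ↥((P : Subgroup G) ⊓ (Q' : Subgroup G))) with hcase | hcase
  · obtain ⟨v, hv, hvQ⟩ := big Q' D' (le_inf hD'P hD'Q) hcase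
    exact ⟨y * v, hy.trans (himg ▸ hv), by rw [mul_inv_rev, mul_smul]; exact hvQ⟩
  have hPQ' : (P : Subgroup G) ⊓ (Q' : Subgroup G) = D' :=
    (Subgroup.eq_of_le_of_card_ge (le_inf hD'P hD'Q) (hD'c.symm ▸ hcase)).symm
  set N' := Subgroup.normalizer (D' : Set G) with hN'
  have hN'eq : N' = N.map c := (Cfsg.Agent.Local.map_conj_normalizer y⁻¹ D).symm
  have hPN' : ¬ p ∣ ((P : Subgroup G) ⊓ N').relIndex N' := by
    rw [hN'eq, ← hSc, ← Subgroup.map_inf _ _ _ hcinj, Subgroup.relIndex_map_map_of_injective _ _ hcinj]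
    exact hS
  have hD'ltP : D' < (P : Subgroup G) := lt_of_le_of_ne hD'P fun e => by rw [e] at hD'c; omega
  have hD'ltQ : D' < (Q' : Subgroup G) := lt_of_le_of_ne hD'Q fun e => by
    have h1 : Nat.card (Q' : Subgroup G) = Nat.card (P : Subgroup G) :=
      Q'.card_eq_multiplicity.trans P.card_eq_multiplicity.symm
    rw [e] at hD'c; omega
  have hPN'lt : D' < (P : Subgroup G) ⊓ N' := Cfsg.Agent.Local.lt_sylow_inf_normalizer P hD'ltP
  have hQN'lt : D' < (Q' : Subgroup G) ⊓ N' := Cfsg.Agent.Local.lt_sylow_inf_normalizer Q' hD'ltQ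
  obtain ⟨T, hQT, hT⟩ := hext N' ((Q' : Subgroup G) ⊓ N') inf_le_right (Q'.isPGroup'.to_le inf_le_left)
  have hD'T : D' ≤ (T : Subgroup G) := hQN'lt.le.trans hQT
  obtain ⟨w, hw, hwT⟩ : ∃ w, Ch P (D' : Set G) w ∧ w⁻¹ • T = P := by
    rcases lt_or_ge (Nat.card D) (Nat.card ↥((P : Subgroup G) ⊓ (T : Subgroup G))) with h | h
    · exact big T D' (le_inf hD'P hD'T) h
    have hPT : (P : Subgroup G) ⊓ (T : Subgroup G) = D' :=
      (Subgroup.eq_of_le_of_card_ge (le_inf hD'P hD'T) (hD'c.symm ▸ h)).symm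
    -- the subgroup generated by `p`-elements of `N'`
    set K := Subgroup.closure {u : ↥N' | ∃ e : ℕ, orderOf u = p ^ e} with hK
    haveI hKn : K.Normal := by
      refine ⟨fun u hu v => ?_⟩
      induction hu using Subgroup.closure_induction with
      | mem u hu =>
        obtain ⟨e, he⟩ := hu
        exact Subgroup.subset_closure ⟨e, ((orderOf_injective (MulAut.conj v).toMonoidHom (MulAut.conj v).injective u)).trans he⟩
      | one => simp
      | mul a b _ _ ha hb => simpa [mul_assoc] using mul_mem ha hb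
      | inv a _ ha => simpa [mul_assoc] using inv_mem ha
    have hle : ∀ R : Sylow p G, (R : Subgroup G).subgroupOf N' ≤ K := by
      intro R u hu
      obtain ⟨e, he⟩ := (R.isPGroup'.comap_subtype (K := N')) ⟨u, hu⟩
      have h1 : u ^ p ^ e = 1 := congrArg Subtype.val he
      obtain ⟨e', -, he'⟩ := (Nat.dvd_prime_pow hp).1 (orderOf_dvd_of_pow_eq_one h1)
      exact Subgroup.subset_closure ⟨e', he'⟩
    have mk : ∀ R : Sylow p G, ¬ p ∣ ((R : Subgroup G) ⊓ N').relIndex N' →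
        ∃ A : Sylow p N', (A : Subgroup N') = (R : Subgroup G).subgroupOf N' := by
      intro R hR
      rw [Subgroup.inf_relIndex_right, Subgroup.relIndex] at hR
      exact ⟨(R.isPGroup'.comap_subtype (K := N')).toSylow hR, IsPGroup.toSylow_coe _ _⟩
    obtain ⟨A1, hA1⟩ := mk P hPN'
    obtain ⟨A2, hA2⟩ := mk T hT
    obtain ⟨m, hm⟩ := MulAction.exists_smul_eq ↥K (A2.subtype (hA2.le.trans (hle T))) (A1.subtype (hA1.le.trans (hle P)))
    have hchain : Ch P (D' : Set G) ((m : ↥N')⁻¹ : ↥N') := by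
      have hall : ∀ u ∈ K, Ch P (D' : Set G) (u : G) ∧ Ch P (D' : Set G) ((u⁻¹ : ↥N') : G) := by
        have hfix : ∀ u : ↥N', img (u : G) (D' : Set G) = (D' : Set G) := fun u => by
          rw [img_eq]
          exact congrArg _ (Cfsg.Agent.Local.WCB.map_conj_eq_of_mem_normalizer (inv_mem u.2))
        intro u hu
        induction hu using Subgroup.closure_induction with
        | mem u hu =>
          have gen : ∀ v : ↥N', (∃ e : ℕ, orderOf v = p ^ e) → Ch P (D' : Set G) (v : G) := by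
            rintro v ⟨e, he⟩
            have hg : Good P T (v : G) :=
              ⟨by rw [hPT]; exact v.2, by rw [hPT]; exact hPN', by rw [hPT]; exact hT,
                Or.inr ⟨e, by rw [Subgroup.orderOf_coe]; exact he⟩⟩
            have h1 := Ch.cons T hg (show (D' : Set G) ⊆ _ by rw [hPT]) (Ch.nil _)
            rwa [mul_one] at h1
          exact ⟨gen u hu, gen u⁻¹ (by rw [orderOf_inv]; exact hu)⟩
        | one =>
          constructor
          · exact Ch.nil _
          · rw [inv_one]; exact Ch.nil _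
        | mul a b _ _ ha hb =>
          exact ⟨ha.1.trans ((hfix a).symm ▸ hb.1), by rw [mul_inv_rev]; exact hb.2.trans ((hfix _).symm ▸ ha.2)⟩
        | inv a _ ha => exact ⟨ha.2, by rw [inv_inv]; exact ha.1⟩
      exact (hall _ m.2).2
    set u : G := (((m : ↥N')⁻¹ : ↥N') : G) with hu
    have hPu : (P : Subgroup G) ⊓ N' ≤ ((u⁻¹ • T : Sylow p G) : Subgroup G) := by
      intro x hx
      obtain ⟨hxP, hxN⟩ := Subgroup.mem_inf.1 hx
      have h1 : (⟨x, hxN⟩ : ↥N') ∈ (A1 : Subgroup ↥N') := by rw [hA1]; exact hxP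
      have h2 : (⟨⟨x, hxN⟩, hle P hxP⟩ : ↥K) ∈ ((m • A2.subtype (hA2.le.trans (hle T)) : Sylow p ↥K) : Subgroup ↥K) := by
        rw [hm]; exact h1
      obtain ⟨t, ht, e⟩ := h2
      refine ⟨((t : ↥N') : G), ?_, ?_⟩
      · have h3 : (t : ↥N') ∈ (A2 : Subgroup ↥N') := ht
        rw [hA2] at h3
        exact h3
      · show u⁻¹ * ((t : ↥N') : G) * u⁻¹⁻¹ = x
        rw [hu]
        have h4 : (m : ↥N') * (t : ↥N') * (m : ↥N')⁻¹ = ⟨x, hxN⟩ := congrArg Subtype.val e
        simpa using congrArg Subtype.val h4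
    obtain ⟨z, hz, hzT⟩ := big (u⁻¹ • T) D' (le_inf hD'P (hPN'lt.le.trans hPu))
      (hD'c ▸ lt_of_lt_of_le (card_lt hPN'lt) (Subgroup.card_le_of_le (le_inf inf_le_left hPu)))
    refine ⟨u * z, hchain.trans ?_, by rw [mul_inv_rev, mul_smul]; exact hzT⟩
    rw [img_eq, show D'.map (MulAut.conj u⁻¹).toMonoidHom = D' from
      Cfsg.Agent.Local.WCB.map_conj_eq_of_mem_normalizer (inv_mem (((m : ↥N')⁻¹ : ↥N')).2)]
    exact hz
  set Q'' := w⁻¹ • Q' with hQ''
  have hQw : ((Q' : Subgroup G) ⊓ N').map (MulAut.conj w⁻¹).toMonoidHom ≤ (P : Subgroup G) ⊓ (Q'' : Subgroup G) :=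
    le_inf (hwT ▸ Subgroup.map_mono hQT) (Subgroup.map_mono inf_le_left)
  obtain ⟨v, hv, hvQ⟩ := big Q'' (D'.map (MulAut.conj w⁻¹).toMonoidHom) ((Subgroup.map_mono hQN'lt.le).trans hQw)
    (lt_of_lt_of_le (hD'c ▸ card_lt hQN'lt)
      (le_trans (Subgroup.card_map_of_injective (MulAut.conj w⁻¹).injective).ge (Subgroup.card_le_of_le hQw)))
  refine ⟨y * (w * v), hy.trans (himg ▸ hw.trans (img_eq w D' ▸ hv)), ?_⟩
  rw [mul_inv_rev, mul_smul, mul_inv_rev, mul_smul]
  exact hvQ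

end Cfsg.Agent.S2012
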