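import Cfsg.Statements.S2014
import Cfsg.Agent.Lib.Local.ConjFamily

set_option autoImplicit false
open Cfsg

namespace Cfsg.Agent.S2014

open Subgroup

theorem sup_pResidual_eq_top {N : Type*} [Group N] [Finite N] {p : ℕ} [Fact p.Prime] {R : Subgroup N}
    (hR : IsPGroup p R) (hidx : ¬ p ∣ R.index) : Cfsg.pResidual p N ⊔ R = ⊤ := by
  have hpow : ∀ q : ℕ, q.Prime → q ∣ (Cfsg.pResidual p N ⊔ R).index → False := by
    intro q hq hd
    haveI := Fact.mk hq
    have hd1 : q ∣ R.index := hd.trans (index_dvd_of_le le_sup_right)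
    have hqp : q ≠ p := fun e => hidx (e ▸ hd1)
    obtain ⟨Q⟩ := Sylow.nonempty (p := q) (G := N)
    have hQ : (Q : Subgroup N) ≤ Cfsg.pResidual p N := fun x hx => by
      refine Cfsg.Agent.Solv.mem_pResidual ?_
      obtain ⟨k, hk⟩ := IsPGroup.iff_orderOf.1 Q.isPGroup' ⟨x, hx⟩
      rw [Subgroup.orderOf_mk] at hk
      rw [hk]
      exact ((Nat.coprime_primes hq (Fact.out : p.Prime)).2 hqp).pow_left k
    exact Q.not_dvd_index (hd.trans (index_dvd_of_le (hQ.trans le_sup_left)))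
  rw [← index_eq_one]
  by_contra h
  obtain ⟨q, hq, hd⟩ := Nat.exists_prime_and_dvd h
  exact hpow q hq hd


/-- Let P be a Sylow p-subgroup of a finite group G and A, C ≤ P subgroups conjugate in G, with C extremal: N_P(C) is a Sylow p-subgroup of N_G(C). Then there is g with gAg⁻¹ = C and g N_P(A) g⁻¹ ≤ N_P(C); moreover, given any h with hAh⁻¹ = C, g can be chosen so that h g⁻¹ lies in O^p(N_G(C)), the subgroup of N_G(C) generated by its elements of order prime to p. -/
theorem result {G : Type*} [Group G] [Finite G] (p : ℕ) [Fact p.Prime] (P : Sylow p G) (A C : Subgroup G) (hA : A ≤ P) (hC : C ≤ P) (hext : ¬ p ∣ ((P : Subgroup G) ⊓ Subgroup.normalizer ((C : Subgroup G) : Set G)).relIndex (Subgroup.normalizer ((C : Subgroup G) : Set G))) (h : G) (hh : A.map (MulAut.conj h).toMonoidHom = C) : ∃ g : G, A.map (MulAut.conj g).toMonoidHom = C ∧ ((P : Subgroup G) ⊓ Subgroup.normalizer ((A : Subgroup G) : Set G)).map (MulAut.conj g).toMonoidHom ≤ (P :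 Subgroup G) ⊓ Subgroup.normalizer ((C : Subgroup G) : Set G) ∧ h * g⁻¹ ∈ (Cfsg.pResidual p ↥(Subgroup.normalizer ((C : Subgroup G) : Set G))).map (Subgroup.normalizer ((C : Subgroup G) : Set G)).subtype := by
  set N := Subgroup.normalizer ((C : Subgroup G) : Set G) with hNdef
  set M := ((P : Subgroup G) ⊓ Subgroup.normalizer ((A : Subgroup G) : Set G)).map (MulAut.conj h).toMonoidHom
  have hMN : M ≤ N := by
    refine (Subgroup.map_mono inf_le_right).trans ?_
    rw [Cfsg.Agent.Local.map_conj_normalizer, hh]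
  obtain ⟨n, hn, hn'⟩ := Cfsg.Agent.Local.exists_conj_le_of_not_dvd_relIndex (R := (P : Subgroup G) ⊓ N)
    inf_le_right (P.isPGroup'.to_le inf_le_left) hext hMN ((P.isPGroup'.to_le inf_le_left).map _)
  set K := Cfsg.pResidual p N
  have hsup : K ⊔ ((P : Subgroup G) ⊓ N).subgroupOf N = ⊤ :=
    sup_pResidual_eq_top ((P.isPGroup'.to_le (inf_le_left : (P : Subgroup G) ⊓ N ≤ _)).of_equiv
      (Subgroup.subgroupOfEquivOfLe inf_le_right).symm) hext
  obtain ⟨s, hs, k, hk, hsk⟩ := Subgroup.mem_sup_of_normal_right.1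
    (show (⟨n, hn⟩ : N) ∈ ((P : Subgroup G) ⊓ N).subgroupOf N ⊔ K by rw [sup_comm, hsup]; trivial)
  have hs' : (s : G) ∈ (P : Subgroup G) ⊓ N := hs
  have hn2 : n = (s : G) * (k : G) := congrArg Subtype.val hsk.symm
  refine ⟨(k : G) * h, ?_, ?_, ?_⟩
  · have hC1 : ∀ a : G, a ∈ A → h * a * h⁻¹ ∈ C := fun a ha => hh ▸ ⟨a, ha, rfl⟩
    have hkN : (k : G) ∈ Subgroup.normalizer ((C : Subgroup G) : Set G) := k.2
    refine Subgroup.eq_of_le_of_card_ge ?_ ?_
    · rintro _ ⟨a, ha, rfl⟩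
      have := (Subgroup.mem_normalizer_iff.1 hkN _).1 (hC1 a ha)
      simpa [mul_assoc] using this
    · rw [← hh]
      exact ((Nat.card_congr (A.equivMapOfInjective _ (MulAut.conj h).injective).toEquiv).symm.trans
        (Nat.card_congr (A.equivMapOfInjective _ (MulAut.conj ((k : G) * h)).injective).toEquiv)).le
  · rintro _ ⟨m, hm, rfl⟩
    have h1 := hn' _ ⟨m, hm, rfl⟩
    rw [hn2] at h1
    have h2 := mul_mem (mul_mem (inv_mem hs') h1) hs'
    rw [show (MulAut.conj ((k : G) * h)).toMonoidHom m =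
      (s : G)⁻¹ * ((s : G) * (k : G) * (MulAut.conj h).toMonoidHom m * ((s : G) * (k : G))⁻¹) * (s : G) by
        simp [mul_assoc]]
    exact h2
  · rw [show h * ((k : G) * h)⁻¹ = (((k⁻¹ : N)) : G) by simp]
    exact ⟨k⁻¹, inv_mem hk, rfl⟩

end Cfsg.Agent.S2014
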