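import Cfsg.Statements.S2015
import Cfsg.Agent.S1993
import Cfsg.Agent.S1978

set_option autoImplicit false
open scoped Pointwise
universe u
open Cfsg

namespace Cfsg.Agent.S2015

/-- For p ≥ 5, every finite p-group P has a characteristic subgroup K containing Z(P), depending only on P, whose normalizer controls transfer wherever P is a Sylow subgroup: for every finite group G and every embedding ι of P onto a Sylow p-subgroup of G, the intersection of ι(P) with the derived subgroup of G equals its intersection with the derived subgroup of N_G(ι(K)). -/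
theorem result (p : ℕ) [Fact p.Prime] (hp : 5 ≤ p) (P : Type u) [Group P] [Finite P] (hP : IsPGroup p P) : ∃ K : Subgroup P, K.Characteristic ∧ Subgroup.center P ≤ K ∧ ∀ (G : Type u) [Group G] [Finite G] (ι : P →* G), Function.Injective ι → (∃ T : Sylow p G, (T : Subgroup G) = ι.range) → ι.range ⊓ commutator G = ι.range ⊓ (commutator ↥(Subgroup.normalizer ((K.map ι : Subgroup G) : Set G))).map (Subgroup.normalizer ((K.map ι : Subgroup G) : Set G)).subtype := by
  have hchar : IsCharPFunctor.{u} p Cfsg.kInfUpper := (Cfsg.Agent.Solv.KInf.isFam_kInfUpper (p := p)) _ rfl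
  obtain ⟨-, -, h3, h4⟩ := Cfsg.Agent.S1978.result hP
  refine ⟨Cfsg.kInfUpper P, Subgroup.characteristic_iff_map_eq.mpr fun φ => hchar.2 P P hP φ, h4.trans h3, ?_⟩
  intro G _ _ ι hι hT
  obtain ⟨T, hT⟩ := hT
  let e : P ≃* (T : Subgroup G) := (MonoidHom.ofInjective hι).trans (MulEquiv.subgroupCongr hT.symm)
  have he : ((T : Subgroup G).subtype.comp e.toMonoidHom) = ι := MonoidHom.ext fun _ => rfl
  have hK : (Cfsg.kInfUpper P).map ι = Cfsg.inducedFunctor Cfsg.kInfUpper (T : Subgroup G) := by
    rw [Cfsg.inducedFunctor, ← hchar.2 P _ hP e, Subgroup.map_map, he]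
  rw [hK, ← hT, (Cfsg.Agent.S1993.result T).1 hp, map_commutator_eq, Subgroup.range_subtype]

end Cfsg.Agent.S2015
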