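import Cfsg.Statements.S2117
import Cfsg.Agent.Lib.GL2.SteinbergPres

set_option autoImplicit false
open Cfsg

open Cfsg.Agent.GL2 Cfsg.Agent.GL2.CentralExt Cfsg.Agent.Classical
open scoped commutatorElement

namespace Cfsg.Agent.S2117

/-- For a finite field with q elements, q ≠ 4 and q ≠ 9, the special linear group SL₂ has trivial Schur multiplier (here the Schur multiplier is described through stem extensions, as in the definitions). -/
theorem result {F : Type*} [Field F] [Fintype F] (h4 : Fintype.card F ≠ 4) (h9 : Fintype.card F ≠ 9) : Cfsg.HasCyclicSchurMultiplier (Matrix.SpecialLinearGroup (Fin 2) F) 1 := by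
  classical
  refine Cfsg.Agent.Struct.Schur.hasCyclic_one_of_ker_bot _ fun Γ _ _ σ hσ => ?_
  obtain ⟨hsurj, hc, hk⟩ := hσ
  obtain ⟨p, hpc⟩ := CharP.exists F
  haveI : Fact p.Prime := ⟨CharP.char_is_prime F p⟩
  suffices hU : ∀ a b : Γ, σ a ∈ U0 F → σ b ∈ U0 F → a * b = b * a by
    have := ker_inf_commutator p σ hsurj hc hU
    rwa [inf_eq_left.mpr hk] at this
  choose L hL using fun s : F => hsurj (uS s)
  let c : F → F → Γ := fun s t => ⁅L s, L t⁆
  have hcen : ∀ z, σ z = 1 → ∀ g, g * z = z * g := fun z hz => Subgroup.mem_center_iff.mp (hc hz)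
  have hadd : ∀ s t, σ (L s * L t) = uS (s + t) := fun s t => by rw [map_mul, hL, hL, uS_mul]
  have hcz : ∀ s t, σ (c s t) = 1 := fun s t => by
    rw [map_commutatorElement, hL, hL, commutatorElement_eq_one_iff_mul_comm, uS_mul, uS_mul, add_comm]
  have hwd : ∀ a b s t, σ a = uS s → σ b = uS t → ⁅a, b⁆ = c s t := by
    intro a b s t ha hb
    have hka : σ ((L s)⁻¹ * a) = 1 := by rw [map_mul, map_inv, hL, ha, inv_mul_cancel]
    have hkb : σ ((L t)⁻¹ * b) = 1 := by rw [map_mul, map_inv, hL, hb, inv_mul_cancel]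
    set k := (L s)⁻¹ * a with hkdef
    set m := (L t)⁻¹ * b with hmdef
    have ea : a = L s * k := by rw [hkdef, mul_inv_cancel_left]
    have eb : b = L t * m := by rw [hmdef, mul_inv_cancel_left]
    rw [ea, eb]
    show _ = ⁅L s, L t⁆
    rw [commutatorElement_def, commutatorElement_def]
    calc L s * k * (L t * m) * (L s * k)⁻¹ * (L t * m)⁻¹
        = L s * (k * L t) * m * k⁻¹ * (L s)⁻¹ * m⁻¹ * (L t)⁻¹ := by group
      _ = L s * (L t * k) * m * k⁻¹ * (L s)⁻¹ * m⁻¹ * (L t)⁻¹ := by rw [hcen k hka]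
      _ = L s * L t * (k * m) * k⁻¹ * (L s)⁻¹ * m⁻¹ * (L t)⁻¹ := by group
      _ = L s * L t * (m * k) * k⁻¹ * (L s)⁻¹ * m⁻¹ * (L t)⁻¹ := by rw [hcen m hkb k]
      _ = L s * L t * (m * (L s)⁻¹) * m⁻¹ * (L t)⁻¹ := by group
      _ = L s * L t * ((L s)⁻¹ * m) * m⁻¹ * (L t)⁻¹ := by rw [hcen m hkb (L s)⁻¹]
      _ = _ := by group
  intro a b ha hb
  obtain ⟨s, hs⟩ := ha
  obtain ⟨t, ht⟩ := hb
  suffices hall : ∀ s t, c s t = 1 by
    exact commutatorElement_eq_one_iff_mul_comm.mp ((hwd a b s t hs.symm ht.symm).trans (hall s t))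
  -- biadditivity
  have hl : ∀ s s' t, c (s + s') t = c s t * c s' t := by
    intro s s' t
    rw [← hwd (L s * L s') (L t) (s + s') t (hadd s s') (hL t)]
    show ⁅L s * L s', L t⁆ = ⁅L s, L t⁆ * ⁅L s', L t⁆
    have h0 := hcen _ (hcz s' t) (L s)
    have h0' : ⁅L s, L t⁆ * ⁅L s', L t⁆ = ⁅L s', L t⁆ * ⁅L s, L t⁆ := hcen _ (hcz s' t) _
    calc ⁅L s * L s', L t⁆ = L s * ⁅L s', L t⁆ * (L t * (L s)⁻¹ * (L t)⁻¹) := by simp only [commutatorElement_def]; group
      _ = ⁅L s', L t⁆ * L s * (L t * (L s)⁻¹ * (L t)⁻¹) := by rw [show L s * ⁅L s', L t⁆ = ⁅L s', L t⁆ * L s from h0]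
      _ = ⁅L s, L t⁆ * ⁅L s', L t⁆ := by
        rw [h0']
        simp only [commutatorElement_def]; group
  have hr : ∀ s t t', c s (t + t') = c s t * c s t' := by
    intro s t t'
    rw [← hwd (L s) (L t * L t') s (t + t') (hL s) (hadd t t')]
    show ⁅L s, L t * L t'⁆ = ⁅L s, L t⁆ * ⁅L s, L t'⁆
    calc ⁅L s, L t * L t'⁆ = ⁅L s, L t⁆ * (L t * ⁅L s, L t'⁆ * (L t)⁻¹) := by simp only [commutatorElement_def]; group
      _ = _ := by rw [show L t * ⁅L s, L t'⁆ = ⁅L s, L t'⁆ * L t from hcen _ (hcz s t') (L t), mul_inv_cancel_right]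
  by_cases hprime : ∀ x : F, ∃ n : ℕ, (n : F) = x
  · intro s t
    have h0r : ∀ s, c s 0 = 1 := fun s => by simpa using hr s 0 0
    have h0l : ∀ t, c 0 t = 1 := fun t => by simpa using hl 0 0 t
    have h11 : c 1 1 = 1 := commutatorElement_self _
    have h1 : ∀ n : ℕ, c 1 (n : F) = 1 := fun n => by
      induction n with
      | zero => rw [Nat.cast_zero]; exact h0r 1
      | succ n ih => rw [Nat.cast_succ, hr, ih, h11, one_mul]
    have h2 : ∀ m n : ℕ, c (m : F) (n : F) = 1 := fun m n => by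
      induction m with
      | zero => rw [Nat.cast_zero]; exact h0l _
      | succ m ih => rw [Nat.cast_succ, hl, ih, h1, one_mul]
    obtain ⟨m, rfl⟩ := hprime s
    obtain ⟨n, rfl⟩ := hprime t
    exact h2 m n
  -- invariance under the squares
  have hinv : ∀ (x : Fˣ) (s t : F), c ((x : F) ^ 2 * s) ((x : F) ^ 2 * t) = c s t := by
    intro x s t
    obtain ⟨T, hT⟩ := hsurj (SteinbergPres.dS x)
    have hconj : ∀ s, σ (T * L s * T⁻¹) = uS ((x : F) ^ 2 * s) := fun s => by
      rw [map_mul, map_mul, map_inv, hL, hT, mul_inv_eq_iff_eq_mul]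
      apply Subtype.ext
      show (!![(x : F), 0; 0, (↑x⁻¹ : F)] * !![1, s; 0, 1] : Matrix (Fin 2) (Fin 2) F) =
        !![1, (x : F) ^ 2 * s; 0, 1] * !![(x : F), 0; 0, (↑x⁻¹ : F)]
      apply SL2.coord <;> simp [Matrix.mul_apply, Fin.sum_univ_two] <;> field_simp
    rw [← hwd _ _ _ _ (hconj s) (hconj t), ← conjugate_commutatorElement, hcen _ (hcz s t) T,
      mul_inv_cancel_right]
  -- two squares with square sum
  obtain ⟨l, m, n, hl0, hm0, hn0, hsum, hbad⟩ : ∃ l m n : F, l ≠ 0 ∧ m ≠ 0 ∧ n ≠ 0 ∧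
      l ^ 2 + m ^ 2 = n ^ 2 ∧ (l ^ 2) ^ 2 + l ^ 2 * m ^ 2 + (m ^ 2) ^ 2 ≠ 0 := by
    have hp2 := (Fact.out : p.Prime).two_le
    obtain ⟨k, hk0, hk⟩ := SL2.exists_card_eq (F := F) p
    have hk2 : 2 ≤ k := by
      by_contra hk1
      apply hprime
      intro x
      have hbij : Function.Bijective (ZMod.castHom (dvd_refl p) F) := by
        rw [Fintype.bijective_iff_injective_and_card]
        exact ⟨RingHom.injective _, by rw [ZMod.card, hk, show k = 1 by omega, pow_one]⟩
      obtain ⟨z, rfl⟩ := hbij.2 x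
      exact ⟨z.val, by rw [← map_natCast (ZMod.castHom (dvd_refl p) F), ZMod.natCast_zmod_val]⟩
    rcases eq_or_ne p 2 with rfl | hp
    · -- characteristic two
      have hq : 5 ≤ Fintype.card F := by
        by_contra hq
        have := Nat.pow_le_pow_right (show 0 < 2 by norm_num) hk2
        omega
      have h2 : (2 : F) = 0 := by exact_mod_cast (CharP.cast_eq_zero F 2)
      obtain ⟨z, hz⟩ : ∃ z : F, z ≠ 0 ∧ z ≠ 1 ∧ (z ^ 2) ^ 2 + z ^ 2 + 1 ≠ 0 := by
        by_contra hcon
        push Not at hcon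
        have hsub : (Finset.univ : Finset F) ⊆ ({0, 1} : Finset F) ∪ ((Polynomial.X ^ 2 + Polynomial.X + 1 : Polynomial F)).roots.toFinset := by
          intro z _
          by_cases h0 : z = 0
          · simp [h0]
          by_cases h1 : z = 1
          · simp [h1]
          have h := hcon z h0 h1
          have hsq : (z ^ 2 + z + 1) ^ 2 = 0 := by linear_combination h + (z ^ 3 + z ^ 2 + z) * h2
          refine Finset.mem_union_right _ ?_
          rw [Multiset.mem_toFinset, Polynomial.mem_roots]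
          · simpa using pow_eq_zero_iff (by norm_num : 2 ≠ 0) |>.mp hsq
          · intro e
            have := congrArg (Polynomial.eval 0) e
            simp at this
        have h1 := (Finset.card_le_card hsub).trans (Finset.card_union_le _ _)
        have h3 := (Multiset.toFinset_card_le (Polynomial.X ^ 2 + Polynomial.X + 1 : Polynomial F).roots).trans
          (Polynomial.card_roots' _)
        have h4 : (Polynomial.X ^ 2 + Polynomial.X + 1 : Polynomial F).natDegree ≤ 2 := by compute_degree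
        have h5 : ({0, 1} : Finset F).card ≤ 2 := Finset.card_le_two
        rw [Finset.card_univ] at h1
        omega
      refine ⟨1, z, 1 + z, one_ne_zero, hz.1, fun e => hz.2.1 ?_, ?_, ?_⟩
      · linear_combination e - h2
      · linear_combination (-z) * h2
      · intro e; apply hz.2.2; linear_combination e
    · -- odd characteristic
      have h2 : (2 : F) ≠ 0 := fun e => hp ((Nat.prime_dvd_prime_iff_eq Fact.out Nat.prime_two).mp
        ((CharP.cast_eq_zero_iff F p 2).mp (by exact_mod_cast e)))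
      have hq : 14 ≤ Fintype.card F := by
        have hp3 : 3 ≤ p := by omega
        rcases Nat.lt_or_ge k 3 with hk3 | hk3
        · have hkk : k = 2 := by omega
          rw [hkk] at hk
          have hp5 : p ≠ 3 := fun e => h9 (by rw [hk, e]; norm_num)
          have : 4 ≤ p := by omega
          have := Nat.pow_le_pow_left this 2
          omega
        · have h1 := Nat.pow_le_pow_right (show 0 < p by omega) hk3
          have h2 := Nat.pow_le_pow_left hp3 3
          omega
      let P : Polynomial F := Polynomial.X * (Polynomial.X ^ 4 - 1) *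
        (((Polynomial.X ^ 2 - 1) ^ 2) ^ 2 + (Polynomial.X ^ 2 - 1) ^ 2 * (4 * Polynomial.X ^ 2) + (4 * Polynomial.X ^ 2) ^ 2)
      have hdeg : P.natDegree ≤ 13 := by simp only [P]; compute_degree
      have hmon : P.coeff 13 = 1 := by simp only [P]; compute_degree!
      have hP : P ≠ 0 := fun e => by rw [e, Polynomial.coeff_zero] at hmon; exact zero_ne_one hmon
      obtain ⟨z, hz⟩ : ∃ z : F, P.eval z ≠ 0 := by
        by_contra hcon
        push Not at hcon
        have hsub : (Finset.univ : Finset F) ⊆ P.roots.toFinset := fun z _ => by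
          rw [Multiset.mem_toFinset, Polynomial.mem_roots hP]; exact hcon z
        have h1 := (Finset.card_le_card hsub).trans ((Multiset.toFinset_card_le _).trans (Polynomial.card_roots' _))
        rw [Finset.card_univ] at h1
        omega
      simp only [P, Polynomial.eval_mul, Polynomial.eval_add, Polynomial.eval_sub, Polynomial.eval_pow,
        Polynomial.eval_X, Polynomial.eval_one, Polynomial.eval_ofNat, mul_ne_zero_iff] at hz
      obtain ⟨⟨hz0, hz4⟩, hzb⟩ := hz
      refine ⟨z ^ 2 - 1, 2 * z, z ^ 2 + 1, fun e => hz4 ?_, mul_ne_zero h2 hz0, fun e => hz4 ?_, by ring, ?_⟩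
      · linear_combination (z ^ 2 + 1) * e
      · linear_combination (z ^ 2 - 1) * e
      · intro e; apply hzb; linear_combination e
  intro s t
  have hadj : ∀ (x : F) (hx : x ≠ 0) (s t : F), c (x ^ 2 * s) t = c s ((x ^ 2)⁻¹ * t) := fun x hx s t => by
    rw [← hinv (Units.mk0 x hx) s ((x ^ 2)⁻¹ * t)]
    simp [hx]
  set δ := (n ^ 2)⁻¹ - (l ^ 2)⁻¹ - (m ^ 2)⁻¹ with hδdef
  have hδ : δ ≠ 0 := by
    intro e
    apply hbad
    rw [hδdef, ← hsum] at e
    have : l ^ 2 + m ^ 2 ≠ 0 := hsum ▸ pow_ne_zero 2 hn0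
    field_simp at e
    linear_combination -e
  have h := hadj n hn0 s (δ⁻¹ * t)
  rw [← hsum, add_mul, hl, hadj l hl0, hadj m hm0, ← hr, hsum] at h
  have hsplit : (n ^ 2)⁻¹ * (δ⁻¹ * t) = ((l ^ 2)⁻¹ * (δ⁻¹ * t) + (m ^ 2)⁻¹ * (δ⁻¹ * t)) + t := by
    have : δ * (δ⁻¹ * t) = t := by rw [← mul_assoc, mul_inv_cancel₀ hδ, one_mul]
    rw [hδdef] at this ⊢
    linear_combination this
  rw [hsplit, hr _ (_ + _) t] at h
  exact mul_eq_left.mp h.symm

end Cfsg.Agent.S2117
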