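import Cfsg.Statements.S2087
import Cfsg.Agent.S2117
import Cfsg.Agent.S0255
import Cfsg.Agent.Lib.Classical.Linear
import Cfsg.Agent.Lib.GL2.PerfectCover

set_option autoImplicit false
open Cfsg

namespace Cfsg.Agent.S2087

/-- Exceptional Schur multiplier: over the field with 2 elements, PSL₃ has Schur multiplier cyclic of order 2 (here the Schur multiplier is described through stem extensions, as in the definitions). -/
theorem result {F : Type*} [Field F] [Fintype F] (hF : Fintype.card F = 2) : Cfsg.HasCyclicSchurMultiplier (Matrix.ProjectiveSpecialLinearGroup (Fin 3) F) 2 := by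
  have h20 : (2 : ZMod 7) ≠ 0 := by decide
  have h21 : (2 : ZMod 7) ^ 2 ≠ 1 := by decide
  classical
  haveI : Fact (Nat.Prime 7) := ⟨by norm_num⟩
  let K : Type _ := ULift (ZMod 7)
  have hK : Fintype.card K = 7 := by simp [K]
  obtain ⟨e⟩ := Cfsg.Agent.S0255.result (F := K) hK hF
  let π : Matrix.SpecialLinearGroup (Fin 2) K →* Matrix.ProjectiveSpecialLinearGroup (Fin 3) F :=
    e.toMonoidHom.comp (QuotientGroup.mk' _)
  have hker : π.ker = Subgroup.center _ := by
    ext g
    rw [MonoidHom.mem_ker]
    show e (QuotientGroup.mk' (Subgroup.center (Matrix.SpecialLinearGroup (Fin 2) K)) g) = 1 ↔ _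
    rw [map_eq_one_iff e e.injective]
    exact QuotientGroup.eq_one_iff g
  have hperf : Group.IsPerfect (Matrix.SpecialLinearGroup (Fin 2) K) :=
    ⟨Cfsg.Agent.Classical.SL_commutator_eq_top (Or.inr ⟨(2 : K), fun e => absurd (congrArg ULift.down e) h20, fun e => absurd (congrArg ULift.down e) h21⟩)⟩
  have hm := Cfsg.Agent.S2117.result (F := K) (by omega) (by omega)
  have hcard : Nat.card π.ker = 2 := by
    rw [hker, Cfsg.Agent.Classical.card_center_SL, hK]
    rfl
  exact Cfsg.Agent.GL2.hasCyclic_of_perfect_cover hperf hm π (e.surjective.comp (QuotientGroup.mk'_surjective _))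
    hker.le (isCyclic_of_prime_card (p := 2) hcard) hcard

end Cfsg.Agent.S2087
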