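import Cfsg.Statements.S2100
import Cfsg.Agent.Lib.Chev.StMultTor
import Cfsg.Agent.S1078
-- import your own Cfsg.Agent.* helpers here

set_option autoImplicit false
open Cfsg

namespace Cfsg.Agent.S2100

/-- Schur multipliers of the Chevalley groups of type G₂: over a field with q ≥ 5 elements the Schur multiplier of G₂(q) is trivial (here the Schur multiplier is described through stem extensions, as in the definitions); the cases q = 3 and q = 4 are exceptional and q = 2 gives a non-simple group. -/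
theorem result {F : Type*} [Field F] [Fintype F] (hF : 5 ≤ Fintype.card F) : Cfsg.HasCyclicSchurMultiplier ↥(Cfsg.Lie.chevG2.group F) 1 := by
  have hD : Cfsg.Lie.chevG2 ∈ [Cfsg.Lie.chevG2, Cfsg.Lie.chevF4, Cfsg.Lie.chevE8] := by simp
  obtain ⟨a, ha0, ha⟩ := Cfsg.Agent.Chev.exists_pow_ne_one (F := F) (m := 1) (by omega)
  have ha1 : a ≠ 1 := by simpa using ha 1 one_ne_zero le_rfl
  obtain ⟨e, -⟩ := Cfsg.Agent.S2397.result (K := F) Cfsg.Lie.chevG2 (by simp) (fun _ => ⟨a, ha0, ha1⟩)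
  have st := Cfsg.Agent.Chev.G2.okx.presented_hyp (F := F) (R := Cfsg.Lie.chevG2.steinbergRelsAB F) (Set.Subset.refl _)
    Cfsg.Agent.Chev.G2.dn_ok Cfsg.Agent.Chev.G2.wit_ok Cfsg.Agent.Chev.G2.okx.scHom
    fun _ hr t => Cfsg.Agent.Chev.G2.okx.scHom_gen hr t
  refine Cfsg.Agent.Chev.hasMultiplier_of_hom Cfsg.Agent.Chev.G2.okx Cfsg.Agent.Chev.G2.dn_ok
    Cfsg.Agent.Chev.G2.wit_ok Cfsg.Agent.Chev.G2.cow_ok
    (st.perfect (Or.inr ⟨Cfsg.Agent.Chev.G2.perf, a, ha0, ha1⟩))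
    (fun Γ _ ρ hl => Cfsg.Agent.Chev.univ_G2 hF st Γ ρ hl) e (Or.inr rfl) ?_
  rw [Cfsg.Agent.S1078.result (K := F) Cfsg.Lie.chevG2 hD]
  exact Subgroup.card_bot

end Cfsg.Agent.S2100
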