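import Cfsg.Statements.S2103
import Cfsg.Agent.Lib.Chev.StMultTor
import Cfsg.Agent.S1078
-- import your own Cfsg.Agent.* helpers here

set_option autoImplicit false
open Cfsg

namespace Cfsg.Agent.S2103

/-- Schur multipliers of the Chevalley groups of type F₄: over a finite field with more than 2 elements the Schur multiplier of F₄(q) is trivial (here the Schur multiplier is described through stem extensions, as in the definitions); q = 2 is exceptional. -/
theorem result {F : Type*} [Field F] [Fintype F] (hF : 3 ≤ Fintype.card F) : Cfsg.HasCyclicSchurMultiplier ↥(Cfsg.Lie.chevF4.group F) 1 := by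
  have hD : Cfsg.Lie.chevF4 ∈ [Cfsg.Lie.chevG2, Cfsg.Lie.chevF4, Cfsg.Lie.chevE8] := by simp
  obtain ⟨e, -⟩ := Cfsg.Agent.S2397.result (K := F) Cfsg.Lie.chevF4 (by simp)
    (fun h => absurd h (by simp [Cfsg.Lie.chevF4, Cfsg.Lie.chevB2, Cfsg.Lie.chevG2]))
  have st := Cfsg.Agent.Chev.F4.okx.presented_hyp (F := F) (R := Cfsg.Lie.chevF4.steinbergRelsAB F) (Set.Subset.refl _)
    Cfsg.Agent.Chev.F4.dn_ok Cfsg.Agent.Chev.F4.wit_ok Cfsg.Agent.Chev.F4.okx.scHom
    fun _ hr t => Cfsg.Agent.Chev.F4.okx.scHom_gen hr t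
  refine Cfsg.Agent.Chev.hasMultiplier_of_hom Cfsg.Agent.Chev.F4.okx Cfsg.Agent.Chev.F4.dn_ok
    Cfsg.Agent.Chev.F4.wit_ok Cfsg.Agent.Chev.F4.cow_ok (st.perfect (Or.inl Cfsg.Agent.Chev.F4.perf))
    (fun Γ _ ρ hl => Cfsg.Agent.Chev.univ_F4 hF st Γ ρ hl) e (Or.inr rfl) ?_
  rw [Cfsg.Agent.S1078.result (K := F) Cfsg.Lie.chevF4 hD]
  exact Subgroup.card_bot

end Cfsg.Agent.S2103
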