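import Cfsg.Statements.S2105
import Cfsg.Agent.Lib.Chev.StMult
import Cfsg.Agent.S1079
-- import your own Cfsg.Agent.* helpers here

set_option autoImplicit false
open Cfsg

namespace Cfsg.Agent.S2105

/-- Schur multipliers of the (adjoint, simple) Chevalley groups of type E₆: over a field with q elements the Schur multiplier is cyclic of order gcd(3, q − 1) (here the Schur multiplier is described through stem extensions, as in the definitions). -/
theorem result {F : Type*} [Field F] [Fintype F] {q : ℕ} (hF : Fintype.card F = q) : Cfsg.HasCyclicSchurMultiplier ↥(Cfsg.Lie.chevE6.group F) (Nat.gcd 3 (q - 1)) := by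
  obtain ⟨e, -⟩ := Cfsg.Agent.S2397.result (K := F) Cfsg.Lie.chevE6 (by simp)
    (fun h => absurd h (by simp [Cfsg.Lie.chevE6, Cfsg.Lie.chevB2, Cfsg.Lie.chevG2]))
  refine Cfsg.Agent.Chev.hasMultiplier_of_univ Cfsg.Agent.Chev.E6.okx Cfsg.Agent.Chev.E6.dn_ok
    Cfsg.Agent.Chev.E6.wit_ok Cfsg.Agent.Chev.E6.cow_ok Cfsg.Agent.Chev.E6.perf Cfsg.Agent.Chev.E6.univ_ok e
    ?_ (Cfsg.Agent.S1079.result (K := F) hF (Cfsg.Lie.chevE6, 3) (by simp))
  rcases (Nat.dvd_prime (p := 3) (by norm_num)).mp (Nat.gcd_dvd_left 3 (q - 1)) with h | h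
  · exact Or.inr h
  · exact Or.inl (h.symm ▸ (by norm_num))

end Cfsg.Agent.S2105
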