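import Cfsg.Statements.S2107
import Cfsg.Agent.Lib.Chev.StMult
import Cfsg.Agent.S1078
-- import your own Cfsg.Agent.* helpers here

set_option autoImplicit false
open Cfsg

namespace Cfsg.Agent.S2107

/-- Schur multipliers of the Chevalley groups of type E₈: over every finite field the Schur multiplier of E₈(q) is trivial (here the Schur multiplier is described through stem extensions, as in the definitions). -/
theorem result {F : Type*} [Field F] [Fintype F] : Cfsg.HasCyclicSchurMultiplier ↥(Cfsg.Lie.chevE8.group F) 1 := by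
  obtain ⟨e, -⟩ := Cfsg.Agent.S2397.result (K := F) Cfsg.Lie.chevE8 (by simp)
    (fun h => absurd h (by simp [Cfsg.Lie.chevE8, Cfsg.Lie.chevB2, Cfsg.Lie.chevG2]))
  refine Cfsg.Agent.Chev.hasMultiplier_of_univ Cfsg.Agent.Chev.E8.okx Cfsg.Agent.Chev.E8.dn_ok
    Cfsg.Agent.Chev.E8.wit_ok Cfsg.Agent.Chev.E8.cow_ok Cfsg.Agent.Chev.E8.perf Cfsg.Agent.Chev.E8.univ_ok e
    (Or.inr rfl) ?_
  rw [Cfsg.Agent.S1078.result (K := F) Cfsg.Lie.chevE8 (by simp)]
  exact Subgroup.card_bot

end Cfsg.Agent.S2107
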