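import Cfsg.Statements.S2111
import Cfsg.Agent.Lib.Suzuki.Multiplier
import Cfsg.Agent.Lib.Suzuki.LieSz

set_option autoImplicit false
open Cfsg

namespace Cfsg.Agent.S2111

/-- Schur multipliers of the Suzuki groups: for q = 2^(2m+1) with m ≥ 2 the Schur multiplier of Sz(q) is trivial (here the Schur multiplier is described through stem extensions, as in the definitions); q = 8 is exceptional. -/
theorem result {F : Type*} [Field F] [Fintype F] {m : ℕ} (hm : 2 ≤ m) (hF : Fintype.card F = 2 ^ (2 * m + 1)) : Cfsg.HasCyclicSchurMultiplier ↥(Cfsg.Lie.Sz F (2 ^ (m + 1))) 1 := by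
  have hs : Cfsg.Agent.Suzuki.SzHyp F m := ⟨by omega, hF⟩
  refine ⟨⟨_, inferInstance, inferInstance, MonoidHom.id _, ⟨Function.surjective_id, ?_, ?_⟩, ?_⟩, fun Γ _ _ σ hσ => ?_⟩
  · rw [MonoidHom.ker_id]; exact bot_le
  · rw [MonoidHom.ker_id]; exact bot_le
  · rw [MonoidHom.ker_id]
    haveI : Subsingleton (Multiplicative (ZMod 1)) := ⟨fun a b => Multiplicative.toAdd.injective (Subsingleton.elim (α := ZMod 1) _ _)⟩
    exact ⟨⟨⟨fun _ => 1, fun _ => 1, fun x => Subsingleton.elim _ _, fun x => Subsingleton.elim _ _⟩, fun _ _ => Subsingleton.elim _ _⟩⟩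
  · obtain ⟨hσs, hσc, hσd⟩ := hσ
    let f : Γ →* ↥(Cfsg.Sz F m) := hs.lieEquiv.toMonoidHom.comp σ
    have hk : f.ker = σ.ker := by
      ext x
      simp [f, MonoidHom.mem_ker]
    have h := Cfsg.Agent.Suzuki.Multiplier.ker_inf_commutator hs f hm (hs.lieEquiv.surjective.comp hσs) (hk ▸ hσc)
    rw [hk, inf_eq_left.mpr hσd] at h
    refine ⟨1, fun x => ⟨1, Subtype.ext ?_⟩⟩
    rw [map_one]
    exact (Subgroup.mem_bot.mp (h ▸ x.2 : (x : Γ) ∈ (⊥ : Subgroup Γ))).symm

end Cfsg.Agent.S2111
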