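import Cfsg.Statements.S2113
import Cfsg.Agent.Lib.SmallRee.Multiplier

set_option autoImplicit false
open Cfsg

namespace Cfsg.Agent.S2113

/-- Schur multipliers of the small Ree groups: for q = 3^(2m+1) with m ≥ 1 the Schur multiplier of ²G₂(q) is trivial (here the Schur multiplier is described through stem extensions, as in the definitions). -/
theorem result {K : Type*} [Field K] [Fintype K] {m : ℕ} (hm : 1 ≤ m) (hK : Fintype.card K = 3 ^ (2 * m + 1)) : Cfsg.HasCyclicSchurMultiplier ↥(Cfsg.Lie.twistedG2 K (3 ^ m)) 1 := by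
  obtain ⟨hch, S, hS⟩ := Cfsg.Agent.SmallRee.exists_setup hK
  haveI := hch
  refine ⟨⟨_, inferInstance, inferInstance, MonoidHom.id _, ⟨Function.surjective_id, ?_, ?_⟩, ?_⟩, fun Γ _ _ σ hσ => ?_⟩
  · rw [MonoidHom.ker_id]; exact bot_le
  · rw [MonoidHom.ker_id]; exact bot_le
  · rw [MonoidHom.ker_id]
    haveI : Subsingleton (Multiplicative (ZMod 1)) := ⟨fun a b => Multiplicative.toAdd.injective (Subsingleton.elim (α := ZMod 1) _ _)⟩
    exact ⟨⟨⟨fun _ => 1, fun _ => 1, fun x => Subsingleton.elim _ _, fun x => Subsingleton.elim _ _⟩, fun _ _ => Subsingleton.elim _ _⟩⟩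
  · obtain ⟨hσs, hσc, hσd⟩ := hσ
    let e := MulEquiv.subgroupCongr (S.Gr_eq hK hS).symm
    let f : Γ →* ↥S.Gr := e.toMonoidHom.comp σ
    have hk : f.ker = σ.ker := by
      ext x
      simp [f, MonoidHom.mem_ker]
    have h := Cfsg.Agent.SmallRee.Multiplier.ker_inf_commutator S f hm hK hS (e.surjective.comp hσs) (hk ▸ hσc)
    rw [hk, inf_eq_left.mpr hσd] at h
    refine ⟨1, fun x => ⟨1, Subtype.ext ?_⟩⟩
    rw [map_one]
    exact (Subgroup.mem_bot.mp (h ▸ x.2 : (x : Γ) ∈ (⊥ : Subgroup Γ))).symm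

end Cfsg.Agent.S2113
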