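import Cfsg.Statements.S2121
import Cfsg.Agent.Lib.Chev.ChevAutF
import Cfsg.Agent.Lib.Chev.ChevAutData
import Cfsg.Agent.Lib.Chev.TorusKer
import Cfsg.Agent.Lib.Chev.CowData
import Cfsg.Agent.Lib.Chev.StData
-- import your own Cfsg.Agent.* helpers here

set_option autoImplicit false
open Cfsg

namespace Cfsg.Agent.S2121

/-- Outer automorphisms of the Chevalley groups of type G₂: over a field with q = p^f (p prime) ≥ 3 elements, the outer automorphism group of G₂(q) has order f when p ≠ 3 and 2f when p = 3 (field automorphisms, and in characteristic 3 also the exceptional graph automorphism). -/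
theorem result {F : Type*} [Field F] [Fintype F] (p f : ℕ) [Fact p.Prime] [CharP F p] (hF : Fintype.card F = p ^ f) (hq : 3 ≤ p ^ f) : Nat.card (Cfsg.Out ↥(Cfsg.Lie.chevG2.group F)) = (if p = 3 then 2 * f else f) := by
  
  classical
  have hdiag := Chev.G2.okx.diag_inner (F := F) (Chev.G2.torus_ker F)
  have hker : Nat.card ↥(Chev.monoMap (G := Fˣ) (Chev.OK.torMat Cfsg.Lie.chevG2 Chev.G2.T)).ker = 1 := by
    rw [Chev.G2.torus_ker F, Subgroup.card_bot]
  have h1 : ∀ i < Cfsg.Lie.chevG2.rank, (([0, 1], [1, 1]) : List ℕ × List ℕ).1.getD i 0 = i ∧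
      (([0, 1], [1, 1]) : List ℕ × List ℕ).2.getD i 1 = 1 := by
    show ∀ i < 2, _
    decide
  have hnot : p ≠ 3 → ∀ x ∈ Chev.G2.autS, (∀ i < Cfsg.Lie.chevG2.rank, ∀ u v : F,
      (u + v) ^ x.2.getD i 1 = u ^ x.2.getD i 1 + v ^ x.2.getD i 1) → x ∈ [(([0, 1], [1, 1]) : List ℕ × List ℕ)] := by
    intro hp x hx hadd
    simp only [Chev.G2.autS, List.mem_cons, List.not_mem_nil, or_false] at hx
    rcases hx with rfl | rfl
    · exact List.mem_singleton.mpr rfl
    · exact absurd (Chev.char_of_pow_add (F := F) p 3 (by omega) (by simp) fun u v => hadd 0 (by decide) u v) hp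
  split_ifs with hp
  · subst hp
    rw [Chev.G2.okx.card_out_list 3 f hF Chev.G2.autW_ok Chev.G2.opp_ok Chev.G2.autS_ok
      (fun x hx _ => hx) ?_ ?_ hdiag ?_, hker, mul_one]
    · rfl
    · show ∀ x ∈ Chev.G2.autS, (∀ i < 2, _) ∧ (∀ i < 2, ∀ j < 2, _) ∧ ∃ i, i < 2 ∧ _
      decide +kernel
    · intro a b h
      refine Chev.G2.autS_nd a b fun i hi => ?_
      rw [List.getD_eq_getElem _ _ a.isLt, List.getD_eq_getElem _ _ b.isLt]
      exact h i hi
    · intro x hx
      simp only [Chev.G2.autS, List.mem_cons, List.not_mem_nil, or_false] at hx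
      rcases hx with rfl | rfl
      · exact Chev.G2.okx.gam_one (fun i hi => (h1 i hi).1) fun i hi => (h1 i hi).2
      · exact Chev.G2.okx.gam_exc 3 Chev.G2.xtab_ok Chev.G2.dn_ok Chev.G2.wit_ok Chev.G2.cow_ok Chev.G2.xsign
  · rw [Chev.G2.okx.card_out_list p f hF Chev.G2.autW_ok Chev.G2.opp_ok Chev.G2.autS_ok
      (hnot hp) ?_ ?_ hdiag ?_, hker, mul_one]
    · exact one_mul f
    · show ∀ x ∈ [(([0, 1], [1, 1]) : List ℕ × List ℕ)], (∀ i < 2, _) ∧ (∀ i < 2, ∀ j < 2, _) ∧ ∃ i, i < 2 ∧ _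
      decide +kernel
    · exact fun a b _ => Subsingleton.elim (α := Fin 1) a b
    · intro x hx
      obtain rfl := List.mem_singleton.mp hx
      exact Chev.G2.okx.gam_one (fun i hi => (h1 i hi).1) fun i hi => (h1 i hi).2

end Cfsg.Agent.S2121
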