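import Cfsg.Statements.S2122
import Cfsg.Agent.Lib.Chev.ChevAutF
import Cfsg.Agent.Lib.Chev.ChevAutData
import Cfsg.Agent.Lib.Chev.TorusKer
import Cfsg.Agent.Lib.Chev.CowData
import Cfsg.Agent.Lib.Chev.StData
-- import your own Cfsg.Agent.* helpers here

set_option autoImplicit false
open Cfsg

namespace Cfsg.Agent.S2122

/-- Outer automorphisms of the Chevalley groups of type F₄: over a field with q = p^f (p prime) elements, the outer automorphism group of F₄(q) has order gcd(2, p) · f (field automorphisms, and in characteristic 2 also the exceptional graph automorphism). -/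
theorem result {F : Type*} [Field F] [Fintype F] (p f : ℕ) [Fact p.Prime] [CharP F p] (hF : Fintype.card F = p ^ f) : Nat.card (Cfsg.Out ↥(Cfsg.Lie.chevF4.group F)) = Nat.gcd 2 p * f := by
  
  rw [show Nat.gcd 2 p * f = if p = 2 then 2 * f else f by
    split_ifs with hp
    · subst hp; rfl
    · rw [Nat.coprime_iff_gcd_eq_one.mp ((Nat.coprime_primes Nat.prime_two Fact.out).mpr (Ne.symm hp)), one_mul]]
  classical
  have hdiag := Chev.F4.okx.diag_inner (F := F) (Chev.F4.torus_ker F)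
  have hker : Nat.card ↥(Chev.monoMap (G := Fˣ) (Chev.OK.torMat Cfsg.Lie.chevF4 Chev.F4.T)).ker = 1 := by
    rw [Chev.F4.torus_ker F, Subgroup.card_bot]
  have h1 : ∀ i < Cfsg.Lie.chevF4.rank, (([0, 1, 2, 3], [1, 1, 1, 1]) : List ℕ × List ℕ).1.getD i 0 = i ∧
      (([0, 1, 2, 3], [1, 1, 1, 1]) : List ℕ × List ℕ).2.getD i 1 = 1 := by
    show ∀ i < 4, _
    decide
  have hnot : p ≠ 2 → ∀ x ∈ Chev.F4.autS, (∀ i < Cfsg.Lie.chevF4.rank, ∀ u v : F,
      (u + v) ^ x.2.getD i 1 = u ^ x.2.getD i 1 + v ^ x.2.getD i 1) → x ∈ [(([0, 1, 2, 3], [1, 1, 1, 1]) : List ℕ × List ℕ)] := by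
    intro hp x hx hadd
    simp only [Chev.F4.autS, List.mem_cons, List.not_mem_nil, or_false] at hx
    rcases hx with rfl | rfl
    · exact List.mem_singleton.mpr rfl
    · exact absurd (Chev.char_of_pow_add (F := F) p 2 (by
        have h2 := (Fact.out : p.Prime).two_le
        have hf : f ≠ 0 := by
          rintro rfl
          exact absurd (Fintype.one_lt_card (α := F)) (by rw [hF]; simp)
        have := Nat.le_self_pow hf p
        omega) (by simp) fun u v => hadd 0 (by decide) u v) hp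
  split_ifs with hp
  · subst hp
    rw [Chev.F4.okx.card_out_list 2 f hF Chev.F4.autW_ok Chev.F4.opp_ok Chev.F4.autS_ok
      (fun x hx _ => hx) ?_ ?_ hdiag ?_, hker, mul_one]
    · rfl
    · show ∀ x ∈ Chev.F4.autS, (∀ i < 4, _) ∧ (∀ i < 4, ∀ j < 4, _) ∧ ∃ i, i < 4 ∧ _
      decide +kernel
    · intro a b h
      refine Chev.F4.autS_nd a b fun i hi => ?_
      rw [List.getD_eq_getElem _ _ a.isLt, List.getD_eq_getElem _ _ b.isLt]
      exact h i hi
    · intro x hx
      simp only [Chev.F4.autS, List.mem_cons, List.not_mem_nil, or_false] at hx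
      rcases hx with rfl | rfl
      · exact Chev.F4.okx.gam_one (fun i hi => (h1 i hi).1) fun i hi => (h1 i hi).2
      · exact Chev.F4.okx.gam_exc 2 Chev.F4.xtab_ok Chev.F4.dn_ok Chev.F4.wit_ok Chev.F4.cow_ok Chev.F4.xsign
  · rw [Chev.F4.okx.card_out_list p f hF Chev.F4.autW_ok Chev.F4.opp_ok Chev.F4.autS_ok
      (hnot hp) ?_ ?_ hdiag ?_, hker, mul_one]
    · exact one_mul f
    · show ∀ x ∈ [(([0, 1, 2, 3], [1, 1, 1, 1]) : List ℕ × List ℕ)], (∀ i < 4, _) ∧ (∀ i < 4, ∀ j < 4, _) ∧ ∃ i, i < 4 ∧ _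
      decide +kernel
    · exact fun a b _ => Subsingleton.elim (α := Fin 1) a b
    · intro x hx
      obtain rfl := List.mem_singleton.mp hx
      exact Chev.F4.okx.gam_one (fun i hi => (h1 i hi).1) fun i hi => (h1 i hi).2

end Cfsg.Agent.S2122
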