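import Cfsg.Statements.S2123
import Cfsg.Agent.Lib.Chev.ChevAutF
import Cfsg.Agent.Lib.Chev.ChevAutData
import Cfsg.Agent.Lib.Chev.CardE6
import Cfsg.Agent.Lib.Chev.CardE7
import Cfsg.Agent.Lib.Chev.GraphE6
-- import your own Cfsg.Agent.* helpers here

set_option autoImplicit false
open Cfsg

namespace Cfsg.Agent.S2123

/-- Outer automorphisms of the (adjoint, simple) Chevalley groups of type E₆: over a field with q = p^f (p prime) elements, the outer automorphism group of E₆(q) has order 2 · gcd(3, q − 1) · f (diagonal, field and graph automorphisms). -/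
theorem result {F : Type*} [Field F] [Fintype F] (p f : ℕ) [Fact p.Prime] [CharP F p] (hF : Fintype.card F = p ^ f) : Nat.card (Cfsg.Out ↥(Cfsg.Lie.chevE6.group F)) = 2 * Nat.gcd 3 (p ^ f - 1) * f := by
  
  classical
  have hq : Fintype.card F - 1 = Nat.card Fˣ := by rw [Nat.card_eq_fintype_card, Fintype.card_units]
  have hker : Nat.card ↥(Chev.monoMap (G := Fˣ) (Chev.OK.torMat Cfsg.Lie.chevE6 Chev.E6.T)).ker =
      Nat.gcd 3 (p ^ f - 1) := by
    refine (Chev.card_ker_monoMap (A := Chev.OK.torMat Cfsg.Lie.chevE6 Chev.E6.T) (e := Chev.E6.torE)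
      (show Chev.E6.torP * Chev.E6.torP' = 1 by decide +kernel)
      (show Chev.E6.torQ * Chev.E6.torQ' = 1 by decide +kernel)
      (show Chev.E6.torP * Chev.E6.torA * Chev.E6.torQ = Matrix.diagonal fun i => (Chev.E6.torE i : ℤ) by
        decide +kernel)).trans ?_
    simp only [IsCyclic.card_powMonoidHom_ker, ← hq, hF]
    show (∏ i : Fin 6, Nat.gcd (p ^ f - 1) (Chev.E6.torE i)) = _
    simp [Fin.prod_univ_six, Chev.E6.torE, Nat.gcd_comm]
  rw [Chev.E6.okx.card_out_list p f hF Chev.E6.autW_ok Chev.E6.opp_ok Chev.E6.autS_ok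
    (fun x hx _ => hx) ?_ ?_ (Chev.E6.okx.diag_char Chev.E6.chain Chev.E6.coradd_ok) ?_, hker]
  · rfl
  · show ∀ x ∈ Chev.E6.autS, (∀ i < 6, _) ∧ (∀ i < 6, ∀ j < 6, _) ∧ ∃ i, i < 6 ∧ _
    decide +kernel
  · intro a b h
    refine Chev.E6.autS_nd a b fun i hi => ?_
    rw [List.getD_eq_getElem _ _ a.isLt, List.getD_eq_getElem _ _ b.isLt]
    exact h i hi
  · intro x hx
    simp only [Chev.E6.autS, List.mem_cons, List.not_mem_nil, or_false] at hx
    rcases hx with rfl | rfl
    · refine Chev.E6.okx.gam_one ?_ ?_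
      · show ∀ i < 6, _
        decide
      · show ∀ i < 6, _
        decide
    · refine Chev.E6.okx.gam_graph Chev.E6.gok ?_ ?_
      · intro i hi
        have h := congrArg (fun l : List ℕ => l.getD i 0) Chev.E6.psi_eq
        beta_reduce at h
        rw [← h, List.getD_eq_getElem _ _ (by simp; exact hi), List.getElem_map, List.getElem_range]
      · show ∀ i < 6, _
        decide

end Cfsg.Agent.S2123
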