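import Cfsg.Statements.S2124
import Cfsg.Agent.Lib.Chev.ChevAutF
import Cfsg.Agent.Lib.Chev.ChevAutData
import Cfsg.Agent.Lib.Chev.CardE6
import Cfsg.Agent.Lib.Chev.CardE7
-- import your own Cfsg.Agent.* helpers here

set_option autoImplicit false
open Cfsg

namespace Cfsg.Agent.S2124

/-- Outer automorphisms of the (adjoint, simple) Chevalley groups of type E₇: over a field with q = p^f (p prime) elements, the outer automorphism group of E₇(q) has order gcd(2, q − 1) · f (diagonal and field automorphisms). -/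
theorem result {F : Type*} [Field F] [Fintype F] (p f : ℕ) [Fact p.Prime] [CharP F p] (hF : Fintype.card F = p ^ f) : Nat.card (Cfsg.Out ↥(Cfsg.Lie.chevE7.group F)) = Nat.gcd 2 (p ^ f - 1) * f := by
  
  classical
  have hq : Fintype.card F - 1 = Nat.card Fˣ := by rw [Nat.card_eq_fintype_card, Fintype.card_units]
  have hker : Nat.card ↥(Chev.monoMap (G := Fˣ) (Chev.OK.torMat Cfsg.Lie.chevE7 Chev.E7.T)).ker =
      Nat.gcd 2 (p ^ f - 1) := by
    refine (Chev.card_ker_monoMap (A := Chev.OK.torMat Cfsg.Lie.chevE7 Chev.E7.T) (e := Chev.E7.torE)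
      (show Chev.E7.torP * Chev.E7.torP' = 1 by decide +kernel)
      (show Chev.E7.torQ * Chev.E7.torQ' = 1 by decide +kernel)
      (show Chev.E7.torP * Chev.E7.torA * Chev.E7.torQ = Matrix.diagonal fun i => (Chev.E7.torE i : ℤ) by
        decide +kernel)).trans ?_
    simp only [IsCyclic.card_powMonoidHom_ker, ← hq, hF]
    show (∏ i : Fin 7, Nat.gcd (p ^ f - 1) (Chev.E7.torE i)) = _
    simp [Fin.prod_univ_seven, Chev.E7.torE, Nat.gcd_comm]
  rw [Chev.E7.okx.card_out_list p f hF Chev.E7.autW_ok Chev.E7.opp_ok Chev.E7.autS_ok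
    (fun x hx _ => hx) ?_ ?_ (Chev.E7.okx.diag_char Chev.E7.chain Chev.E7.coradd_ok) ?_, hker]
  · simp [Chev.E7.autS]
  · show ∀ x ∈ Chev.E7.autS, (∀ i < 7, _) ∧ (∀ i < 7, ∀ j < 7, _) ∧ ∃ i, i < 7 ∧ _
    decide +kernel
  · exact fun a b _ => Subsingleton.elim (α := Fin 1) a b
  · intro x hx
    simp only [Chev.E7.autS, List.mem_cons, List.not_mem_nil, or_false] at hx
    subst hx
    refine Chev.E7.okx.gam_one ?_ ?_
    · show ∀ i < 7, _
      decide
    · show ∀ i < 7, _
      decide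

end Cfsg.Agent.S2124
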