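import Cfsg.Statements.S2125
import Cfsg.Agent.Lib.Chev.ChevAutF
import Cfsg.Agent.Lib.Chev.ChevAutData
import Cfsg.Agent.Lib.Chev.TorusKer
import Cfsg.Agent.Lib.Chev.CowData
import Cfsg.Agent.Lib.Chev.StData
-- import your own Cfsg.Agent.* helpers here

set_option autoImplicit false
open Cfsg

namespace Cfsg.Agent.S2125

/-- Outer automorphisms of the Chevalley groups of type E₈: over a field with p^f elements, p prime, the outer automorphism group of E₈(p^f) has order f (field automorphisms only). -/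
theorem result {F : Type*} [Field F] [Fintype F] (p f : ℕ) [Fact p.Prime] [CharP F p] (hF : Fintype.card F = p ^ f) : Nat.card (Cfsg.Out ↥(Cfsg.Lie.chevE8.group F)) = f := by
  
  classical
  rw [Chev.E8.okx.card_out_list p f hF Chev.E8.autW_ok Chev.E8.opp_ok Chev.E8.autS_ok
    (fun x hx _ => hx) ?_ ?_ (Chev.E8.okx.diag_inner (Chev.E8.torus_ker F)) ?_, Chev.E8.torus_ker F,
    Subgroup.card_bot, mul_one]
  · exact one_mul f
  · show ∀ x ∈ Chev.E8.autS, (∀ i < 8, _) ∧ (∀ i < 8, ∀ j < 8, _) ∧ ∃ i, i < 8 ∧ _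
    decide +kernel
  · exact fun a b _ => Subsingleton.elim (α := Fin 1) a b
  · intro x hx
    simp only [Chev.E8.autS, List.mem_cons, List.not_mem_nil, or_false] at hx
    subst hx
    refine Chev.E8.okx.gam_one ?_ ?_
    · show ∀ i < 8, _
      decide
    · show ∀ i < 8, _
      decide

end Cfsg.Agent.S2125
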