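import Cfsg.Statements.S2155
import Cfsg.Agent.Lib.Chev.JoinData
import Cfsg.Agent.Lib.Local.QuotientLocal

set_option autoImplicit false
open Cfsg

namespace Cfsg.Agent.S2155

/-- In a Chevalley group of type G₂, B₂, D₄, F₄, E₆, E₇ or E₈ over a finite field of characteristic p (for types G₂ and B₂ the field is assumed to have at least 3 elements, so that the group is simple), the generalized Fitting subgroup of every proper standard parabolic subgroup P_J is a p-group (P_J is p-constrained with trivial largest normal subgroup of order prime to p). -/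
theorem result {F : Type*} [Field F] [Fintype F] (p : ℕ) [Fact p.Prime] [CharP F p] (D : Cfsg.Lie.ChevalleyDatum) (hD : D ∈ [Cfsg.Lie.chevG2, Cfsg.Lie.chevB2, Cfsg.Lie.chevD4, Cfsg.Lie.chevF4, Cfsg.Lie.chevE6, Cfsg.Lie.chevE7, Cfsg.Lie.chevE8]) (hq : (D = Cfsg.Lie.chevG2 ∨ D = Cfsg.Lie.chevB2) → 3 ≤ Fintype.card F) (J : Set ℕ) (hJ : ∃ i, i < D.rank ∧ i ∉ J) : IsPGroup p ↥(Cfsg.generalizedFittingSubgroup ↥(D.parabolicSubgroup F J)) := by
  obtain ⟨T, ok, ⟨M, hM⟩, hJn⟩ := Cfsg.Agent.Chev.exists_cow_join hD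
  haveI : Finite (GL D.Idx F) := Finite.of_injective _ Units.val_injective
  set P := D.parabolicSubgroup F J
  have hUP : D.unipotentRadical F J ≤ P :=
    (ok.uJ_le_pos J).trans (le_sup_left.trans (ok.borel_le_parabolic J))
  set N : Subgroup ↥P := (D.unipotentRadical F J).subgroupOf P with hN
  haveI hNn : N.Normal := Subgroup.normal_subgroupOf_iff_le_normalizer hUP |>.mpr (ok.parabolic_normalizes hM J)
  have hNp : IsPGroup p ↥N := by
    have hU : IsPGroup p ↥(D.posUnipotent F) := by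
      obtain ⟨k, hp, hq⟩ := FiniteField.card F p
      exact IsPGroup.of_card (n := (k : ℕ) * (D.nroots / 2)) (by rw [ok.card_pos, hq, ← pow_mul])
    exact (hU.to_le (ok.uJ_le_pos J)).of_equiv (Subgroup.subgroupOfEquivOfLe hUP).symm
  have hC : Subgroup.centralizer (N : Set ↥P) ≤ N := by
    intro g hg
    refine ok.cJ_le_uJ hM hJn J hJ (Subgroup.mem_inf.mpr ⟨g.2, fun x hx => ?_⟩)
    exact congrArg Subtype.val (hg ⟨x, hUP hx⟩ hx)
  have hO : Cfsg.pPrimeCore p ↥P = ⊥ := by
    have h1 := (Cfsg.Agent.Local.pPrimeCore_le_centralizer_of_isPGroup hNp).trans hC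
    exact (inf_eq_left.2 h1).symm.trans
      (by rw [inf_comm]; exact Cfsg.Agent.Solv.inf_eq_bot_of_isPGroup hNp (Cfsg.Agent.Solv.card_pPrimeCore_coprime p _))
  have hE : Cfsg.layer ↥P = ⊥ := by
    rw [eq_bot_iff]
    refine sSup_le fun K hK => ?_
    exfalso
    haveI := hNp.isNilpotent
    have hNF : N ≤ Cfsg.fittingSubgroup ↥P := Cfsg.Agent.Solv.le_fittingSubgroup inferInstance
    exact Cfsg.Agent.Local.component_ne_isPGroup hK (hNp.to_le
      (((Cfsg.Agent.Local.component_le_centralizer_fitting hK).trans (Subgroup.centralizer_le hNF)).trans hC))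
  rw [Cfsg.Agent.Local.generalizedFitting_eq_pCore_iff.mpr ⟨hE, hO⟩]
  exact Cfsg.Agent.Solv.isPGroup_pCore p _

end Cfsg.Agent.S2155
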