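import Cfsg.Statements.S2160
import Cfsg.Agent.Lib.Chev.Gens
import Cfsg.Agent.Lib.Chev.AllX

set_option autoImplicit false
open Cfsg

namespace Cfsg.Agent.S2160

/-- In a Chevalley group of type G₂, B₂, D₄, F₄, E₆, E₇ or E₈ over a finite field, every field automorphism commutes with every graph automorphism. -/
theorem result {F : Type*} [Field F] [Finite F] (D : Cfsg.Lie.ChevalleyDatum) (hD : D ∈ [Cfsg.Lie.chevG2, Cfsg.Lie.chevB2, Cfsg.Lie.chevD4, Cfsg.Lie.chevF4, Cfsg.Lie.chevE6, Cfsg.Lie.chevE7, Cfsg.Lie.chevE8]) (f g : ↥(D.group F) ≃* ↥(D.group F))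
    (hf : D.IsFieldAut f) (hg : D.IsGraphAut g) (y : ↥(D.group F)) : f (g y) = g (f y) := by
  obtain ⟨T, ok⟩ := Cfsg.Agent.Chev.exists_okx hD
  obtain ⟨σ, hσ⟩ := hf
  obtain ⟨π, -, hπ⟩ := hg
  refine ok.toOK.hom_ext (a := f.toMonoidHom.comp g.toMonoidHom) (b := g.toMonoidHom.comp f.toMonoidHom)
    (fun x i t hi hx => Subtype.ext (Units.ext ?_)) y
  show ((f (g x) : GL D.Idx F) : Matrix D.Idx D.Idx F) = ((g (f x) : GL D.Idx F) : Matrix D.Idx D.Idx F)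
  have hp : ∀ j < D.rank, D.simple j < D.nroots ∧ D.neg (D.simple j) < D.nroots := fun j hj => by
    rw [ok.toOK.simple_eq hj, ok.toOK.neg_eq (ok.toOK.smp_lt hj)]
    exact ⟨ok.toOK.smp_lt hj, ok.toOK.neg_lt (ok.toOK.smp_lt hj)⟩
  rcases hx with hx | hx
  · have h1 := (hπ x ⟨i, hi⟩ t).1 hx
    have h2 := hσ x _ t (hp i hi).1 hx
    rw [hσ (g x) _ _ (hp _ (π ⟨i, hi⟩).isLt).1 h1, (hπ (f x) ⟨i, hi⟩ (σ t)).1 h2, map_pow]
  · have h1 := (hπ x ⟨i, hi⟩ t).2 hx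
    have h2 := hσ x _ t (hp i hi).2 hx
    rw [hσ (g x) _ _ (hp _ (π ⟨i, hi⟩).isLt).2 h1, (hπ (f x) ⟨i, hi⟩ (σ t)).2 h2, map_pow]

end Cfsg.Agent.S2160
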