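import Cfsg.Statements.S2161
import Cfsg.Agent.Lib.Chev.GraphD4All
import Cfsg.Agent.Lib.Chev.GraphE6All

set_option autoImplicit false
open Cfsg

namespace Cfsg.Agent.S2161

open Cfsg.Agent.Chev in
theorem of_gtab {F : Type*} [Field F] {D : Cfsg.Lie.ChevalleyDatum} {T : Tabs} (ok : OK D T)
    {gs : List GTab} (hsym : T.chkSym D gs = true) (hgs : ∀ g ∈ gs, GOK D T g ∧ T.chkUniq D g = true)
    (π : Equiv.Perm (Fin D.rank)) (hπ : D.IsDiagramSymmetry π) (φ : ↥(D.group F) ≃* ↥(D.group F))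
    (hφ : ∀ (g : ↥(D.group F)) (i : Fin D.rank) (t : F),
      (((g : GL D.Idx F) : Matrix D.Idx D.Idx F) = D.x F (D.simple i) t →
        ((φ g : GL D.Idx F) : Matrix D.Idx D.Idx F) = D.x F (D.simple (π i)) t) ∧
      (((g : GL D.Idx F) : Matrix D.Idx D.Idx F) = D.x F (D.neg (D.simple i)) t →
        ((φ g : GL D.Idx F) : Matrix D.Idx D.Idx F) = D.x F (D.neg (D.simple (π i))) t))
    (r : ℕ) (hr : r < D.nroots) :
    ∃ ε : F, (ε = 1 ∨ ε = -1) ∧ ∀ (g : ↥(D.group F)) (t : F),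
      ((g : GL D.Idx F) : Matrix D.Idx D.Idx F) = D.x F r t →
        ((φ g : GL D.Idx F) : Matrix D.Idx D.Idx F) = D.x F (D.permRoot π r) (ε * t) := by
  obtain ⟨g, hg, hgi⟩ := ok.exists_gtab hsym hπ
  obtain ⟨hgok, huniq⟩ := hgs g hg
  obtain ⟨α, hα⟩ := hgok.exists_graphAut ok (F := F)
  refine ⟨(g.sgn r : F), ?_, fun x t hx => ?_⟩
  · rcases (hgok.root_facts hr).2.1 with e | e
    · exact Or.inl (by rw [e, Int.cast_one])
    · exact Or.inr (by rw [e, Int.cast_neg, Int.cast_one])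
  have hext := ok.hom_ext (a := φ.toMonoidHom) (b := α.toMonoidHom) (fun y i u hi hy => Subtype.ext (Units.ext ?_)) x
  · rw [show φ x = α x from hext, hα x r t hr hx, hgok.permRoot_eq ok huniq hgi hr]
  obtain ⟨h1, h2, h3, -⟩ := hgok.simple_facts hi
  have hp := ok.smp_lt hi
  have hpi : (π ⟨i, hi⟩ : ℕ) = g.psi i := (hgi ⟨i, hi⟩).symm
  show ((φ y : GL D.Idx F) : Matrix D.Idx D.Idx F) = ((α y : GL D.Idx F) : Matrix D.Idx D.Idx F)
  rcases hy with hy | hy
  · rw [(hφ y ⟨i, hi⟩ u).1 hy]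
    rw [ok.simple_eq hi] at hy
    rw [hα y _ u hp hy, h2, h3, Int.cast_one, one_mul, hpi, ok.simple_eq h1]
  · rw [(hφ y ⟨i, hi⟩ u).2 hy]
    rw [ok.simple_eq hi, ok.neg_eq hp] at hy
    rw [hα y _ u (ok.neg_lt hp) hy, (hgok.root_facts hp).2.2.1, (hgok.root_facts hp).2.2.2.1, h2, h3, Int.cast_one,
      one_mul, hpi, ok.simple_eq h1, ok.neg_eq (ok.smp_lt h1)]

/-- For the Chevalley groups of types D₄ and E₆ (one root length) over any field: if `π` is a symmetry of the Dynkin diagram and `φ` is an automorphism sending `x_{p_i}(t)` to `x_{p_{π i}}(t)` and `x_{-p_i}(t)` to `x_{-p_{π i}}(t)` for every fundamental root `p_i`, then for every root `r` there is a sign `ε = ±1` with `φ(x_r(t)) = x_{π·r}(ε t)` for all `t`, where `π·r` is the root whose coefficients are those of `r` permuted by `π`. -/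
theorem result {F : Type*} [Field F] (D : Cfsg.Lie.ChevalleyDatum) (hD : D ∈ [Cfsg.Lie.chevD4, Cfsg.Lie.chevE6])
    (π : Equiv.Perm (Fin D.rank)) (hπ : D.IsDiagramSymmetry π) (φ : ↥(D.group F) ≃* ↥(D.group F))
    (hφ : ∀ (g : ↥(D.group F)) (i : Fin D.rank) (t : F),
      (((g : GL D.Idx F) : Matrix D.Idx D.Idx F) = D.x F (D.simple i) t →
        ((φ g : GL D.Idx F) : Matrix D.Idx D.Idx F) = D.x F (D.simple (π i)) t) ∧
      (((g : GL D.Idx F) : Matrix D.Idx D.Idx F) = D.x F (D.neg (D.simple i)) t →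
        ((φ g : GL D.Idx F) : Matrix D.Idx D.Idx F) = D.x F (D.neg (D.simple (π i))) t))
    (r : ℕ) (hr : r < D.nroots) :
    ∃ ε : F, (ε = 1 ∨ ε = -1) ∧ ∀ (g : ↥(D.group F)) (t : F),
      ((g : GL D.Idx F) : Matrix D.Idx D.Idx F) = D.x F r t →
        ((φ g : GL D.Idx F) : Matrix D.Idx D.Idx F) = D.x F (D.permRoot π r) (ε * t) := by
  simp only [List.mem_cons, List.not_mem_nil, or_false] at hD
  rcases hD with rfl | rfl
  · exact of_gtab Cfsg.Agent.Chev.D4.ok Cfsg.Agent.Chev.D4.syms Cfsg.Agent.Chev.D4.sym_cover π hπ φ hφ r hr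
  · exact of_gtab Cfsg.Agent.Chev.E6.ok Cfsg.Agent.Chev.E6.syms Cfsg.Agent.Chev.E6.sym_cover π hπ φ hφ r hr

end Cfsg.Agent.S2161
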