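import Cfsg.Statements.S2162
import Cfsg.Agent.Lib.Classical.SquareZero

set_option autoImplicit false
open Cfsg

open Cfsg.Agent.Classical
open scoped Matrix

namespace Cfsg.Agent.S2162
open Module

theorem exists_det_one_intertwine {F V : Type*} [Field F] [Finite F] [CharP F 2] [AddCommGroup V] [Module F V]
    [FiniteDimensional F V] (N N' : V →ₗ[F] V) (h : ∀ v, N (N v) = 0) (h' : ∀ v, N' (N' v) = 0)
    (hr : finrank F (LinearMap.range N) = finrank F (LinearMap.range N')) (h0 : N ≠ 0) :
    ∃ L : V →ₗ[F] V, LinearMap.det L = 1 ∧ ∀ v, L (N v) = N' (L v) := by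
  classical
  obtain ⟨k, b, b1, b2, b3⟩ := SquareZero.exists_basis N h
  obtain ⟨k', b', b1', b2', b3'⟩ := SquareZero.exists_basis N' h'
  have hk : k = k' := by
    have e1 := finrank_eq_card_basis b
    have e2 := finrank_eq_card_basis b'
    simp only [Fintype.card_sum, Fintype.card_fin] at e1 e2
    omega
  obtain ⟨c, hc1, hc2, hc3⟩ : ∃ c : Basis ((Fin (finrank F (LinearMap.range N)) ⊕ Fin (finrank F (LinearMap.range N))) ⊕ Fin k) F V,
      (∀ i, N' (c (Sum.inl (Sum.inl i))) = c (Sum.inl (Sum.inr i))) ∧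
      (∀ i, N' (c (Sum.inl (Sum.inr i))) = 0) ∧ ∀ j, N' (c (Sum.inr j)) = 0 := by
    refine ⟨b'.reindex (((finCongr hr.symm).sumCongr (finCongr hr.symm)).sumCongr (finCongr hk.symm)), ?_, ?_, ?_⟩
    · intro i; simp [b1']
    · intro i; simp [b2']
    · intro j; simp [b3']
  let e : V ≃ₗ[F] V := b.equiv c (Equiv.refl _)
  have he : ∀ x, e (b x) = c x := fun x => by simp [e]
  have hpos : 0 < finrank F (LinearMap.range N) := by
    rw [Module.finrank_pos_iff (R := F)]
    exact Submodule.nontrivial_iff_ne_bot.2 (fun hb => h0 (LinearMap.range_eq_bot.1 hb))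
  let i0 : Fin (finrank F (LinearMap.range N)) := ⟨0, hpos⟩
  have hd : LinearMap.det (e : V →ₗ[F] V) ≠ 0 := (LinearEquiv.isUnit_det' e).ne_zero
  obtain ⟨s, hs⟩ := FiniteField.isSquare_of_char_two (ringChar.eq F 2) (LinearMap.det (e : V →ₗ[F] V))⁻¹
  let w : (Fin (finrank F (LinearMap.range N)) ⊕ Fin (finrank F (LinearMap.range N))) ⊕ Fin k → F :=
    Sum.elim (Sum.elim (fun i => if i = i0 then s else 1) (fun i => if i = i0 then s else 1)) (fun _ => 1)
  let Q : V →ₗ[F] V := Matrix.toLin b b (Matrix.diagonal w)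
  have hQ : ∀ x, Q (b x) = w x • b x := fun x => by
    simp [Q, Matrix.toLin_self, Matrix.diagonal_apply, ite_smul]
  refine ⟨(e : V →ₗ[F] V) ∘ₗ Q, ?_, fun v => ?_⟩
  · rw [LinearMap.det_comp, LinearMap.det_toLin, Matrix.det_diagonal]
    have hp : ∏ i, (if i = i0 then s else 1) = s := by rw [Finset.prod_ite_eq']; simp
    simp only [w, Fintype.prod_sum_type, Sum.elim_inl, Sum.elim_inr, hp, Finset.prod_const_one,
      mul_one, ← hs]
    exact mul_inv_cancel₀ hd
  · have : ((e : V →ₗ[F] V) ∘ₗ Q) ∘ₗ N = N' ∘ₗ ((e : V →ₗ[F] V) ∘ₗ Q) := by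
      refine b.ext fun x => ?_
      simp only [LinearMap.comp_apply, LinearEquiv.coe_coe]
      rcases x with (i | i) | j
      · rw [b1, hQ, hQ, map_smul, map_smul, he, he, map_smul, hc1]
        rfl
      · rw [b2, hQ, map_smul, map_zero, map_zero, he, map_smul, hc2, smul_zero]
      · rw [b3, hQ, map_smul, map_zero, map_zero, he, map_smul, hc3, smul_zero]
    exact LinearMap.congr_fun this v

end Cfsg.Agent.S2162

namespace Cfsg.Agent.S2162

/-- Conjugacy of involutions in the special linear group over a finite field of characteristic two, in dimension at least 3: two elements of order 2 of SL_n(F) are conjugate in SL_n(F) exactly when the matrices a − 1 and b − 1 have the same rank (the rank of a − 1 is the dimension of the commutator space [V, a]). -/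
theorem result {F : Type*} [Field F] [Fintype F] [CharP F 2] {n : ℕ} (hn : 3 ≤ n) (a b : Matrix.SpecialLinearGroup (Fin n) F) (ha : orderOf a = 2) (hb : orderOf b = 2) :
    IsConj a b ↔ ((a : Matrix (Fin n) (Fin n) F) - 1).rank = ((b : Matrix (Fin n) (Fin n) F) - 1).rank := by
  classical
  have h2 : (2 : F) = 0 := by exact_mod_cast CharP.cast_eq_zero F 2
  constructor
  · intro hab
    obtain ⟨c, hc⟩ := isConj_iff.1 hab
    have hc' : (c : Matrix (Fin n) (Fin n) F) * ((a : Matrix (Fin n) (Fin n) F) - 1) =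
        ((b : Matrix (Fin n) (Fin n) F) - 1) * c := by
      have := congrArg (fun x : Matrix.SpecialLinearGroup (Fin n) F => (x : Matrix (Fin n) (Fin n) F))
        (mul_inv_eq_iff_eq_mul.1 hc)
      simp only [Matrix.SpecialLinearGroup.coe_mul] at this
      rw [mul_sub, sub_mul, mul_one, one_mul, this]
    have hu : IsUnit (c : Matrix (Fin n) (Fin n) F).det := by rw [c.2]; exact isUnit_one
    rw [← Matrix.rank_mul_eq_right_of_isUnit_det _ ((a : Matrix (Fin n) (Fin n) F) - 1) hu, hc',
      Matrix.rank_mul_eq_left_of_isUnit_det _ _ hu]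
  · intro hr
    have hsq : ∀ x : Matrix.SpecialLinearGroup (Fin n) F, orderOf x = 2 →
        (∀ v, Matrix.toLin' ((x : Matrix (Fin n) (Fin n) F) - 1) (Matrix.toLin' ((x : Matrix (Fin n) (Fin n) F) - 1) v) = 0) ∧
        Matrix.toLin' ((x : Matrix (Fin n) (Fin n) F) - 1) ≠ 0 := by
      intro x hx
      have hx2 : x ^ 2 = 1 := by rw [← hx]; exact pow_orderOf_eq_one x
      have hm := congrArg Subtype.val hx2
      simp [pow_two] at hm
      refine ⟨fun v => ?_, fun h0 => ?_⟩
      · rw [← LinearMap.comp_apply, ← Matrix.toLin'_mul]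
        have : ((x : Matrix (Fin n) (Fin n) F) - 1) * ((x : Matrix (Fin n) (Fin n) F) - 1) = 0 := by
          rw [sub_mul, mul_sub, hm, mul_one, one_mul]
          rw [show (1 : Matrix (Fin n) (Fin n) F) - (x : Matrix (Fin n) (Fin n) F) - ((x : Matrix (Fin n) (Fin n) F) - 1) = (2 : F) • (1 - (x : Matrix (Fin n) (Fin n) F)) by rw [two_smul]; abel, h2, zero_smul]
        rw [this, map_zero, LinearMap.zero_apply]
      · rw [LinearEquiv.map_eq_zero_iff, sub_eq_zero] at h0
        have : x = 1 := Subtype.ext h0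
        rw [this, orderOf_one] at hx
        exact absurd hx (by norm_num)
    obtain ⟨L, hdet, hL⟩ := S2162.exists_det_one_intertwine (Matrix.toLin' ((a : Matrix (Fin n) (Fin n) F) - 1))
      (Matrix.toLin' ((b : Matrix (Fin n) (Fin n) F) - 1)) (hsq a ha).1 (hsq b hb).1
      (by simp only [Matrix.toLin'_apply']; exact hr) (hsq a ha).2
    let c : Matrix.SpecialLinearGroup (Fin n) F := ⟨LinearMap.toMatrix' L, by rw [LinearMap.det_toMatrix', hdet]⟩
    refine isConj_iff.2 ⟨c, ?_⟩
    rw [mul_inv_eq_iff_eq_mul]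
    refine Subtype.ext (Matrix.toLin'.injective (LinearMap.ext fun v => ?_))
    show Matrix.toLin' (LinearMap.toMatrix' L * (a : Matrix (Fin n) (Fin n) F)) v =
      Matrix.toLin' ((b : Matrix (Fin n) (Fin n) F) * LinearMap.toMatrix' L) v
    have := hL v
    simp [Matrix.toLin'_apply, Matrix.sub_mulVec, LinearMap.toMatrix'_mulVec, ← Matrix.mulVec_mulVec] at this ⊢
    exact this

end Cfsg.Agent.S2162
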