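import Cfsg.Statements.S2167
import Cfsg.Agent.Lib.Classical.Forms
import Cfsg.Agent.Lib.Classical.CharTwoForms

set_option autoImplicit false
open Cfsg

open Cfsg.Agent.Classical
open scoped Matrix

namespace Cfsg.Agent.S2167

theorem card_ker_dual {F V : Type*} [Field F] [Finite F] [AddCommGroup V] [Module F V] [FiniteDimensional F V]
    (f : Module.Dual F V) (hf : f ≠ 0) : Nat.card (LinearMap.ker f) * Nat.card F = Nat.card V := by
  rw [Submodule.card_eq_card_quotient_mul_card (LinearMap.ker f)]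
  congr 1
  exact (Nat.card_congr ((f.quotKerEquivOfSurjective (LinearMap.surjective_iff_ne_zero.2 hf)).toEquiv)).symm

end Cfsg.Agent.S2167

namespace Cfsg.Agent.S2167

/-- For an involution t of the symplectic group Sp_{2m}(F), m ≥ 2, F a finite field of characteristic two (matrices A with A J Aᵀ = J acting on column vectors, alternating form f(u, v) = u ⬝ (J v)): the set V(t) of vectors v with f(v, t v) = 0 has either q^{2m} or q^{2m−1} elements, q the order of F (it is a subspace of codimension at most 1), and if it is the whole space then t − 1 has even rank. -/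
theorem result {F : Type*} [Field F] [Fintype F] [CharP F 2] {m : ℕ} (hm : 2 ≤ m) (a : ↥(Matrix.symplecticGroup (Fin m) F)) (ha : orderOf a = 2) :
    (Nat.card {v : Fin m ⊕ Fin m → F // Cfsg.sympForm m F v (Matrix.mulVec ((a : ↥(Matrix.symplecticGroup (Fin m) F)) : Matrix (Fin m ⊕ Fin m) (Fin m ⊕ Fin m) F) v) = 0} = Fintype.card F ^ (2 * m) ∨ Nat.card {v : Fin m ⊕ Fin m → F // Cfsg.sympForm m F v (Matrix.mulVec ((a : ↥(Matrix.symplecticGroup (Fin m) F)) : Matrix (Fin m ⊕ Fin m) (Fin m ⊕ Fin m) F) v) = 0} * Fintype.card F = Fintype.card F ^ (2 * m)) ∧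
    ((∀ v : Fin m ⊕ Fin m → F, Cfsg.sympForm m F v (Matrix.mulVec ((a : ↥(Matrix.symplecticGroup (Fin m) F)) : Matrix (Fin m ⊕ Fin m) (Fin m ⊕ Fin m) F) v) = 0) → Even (((a : ↥(Matrix.symplecticGroup (Fin m) F)) : Matrix (Fin m ⊕ Fin m) (Fin m ⊕ Fin m) F) - 1).rank) := by
  classical
  set B := Sp.sympB F m with hB
  set L : (Fin m ⊕ Fin m → F) →ₗ[F] (Fin m ⊕ Fin m → F) :=
    Matrix.toLin' (a : Matrix (Fin m ⊕ Fin m) (Fin m ⊕ Fin m) F) with hL
  have hLB : ∀ u v, B (L u) (L v) = B u v := (Sp.mem_symplectic_iff m _).1 a.2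
  have h2 : (2 : F) = 0 := Cfsg.Agent.Classical.CharTwo.two_zero
  have hLL : ∀ v, L (L v) = v := by
    intro v
    have h : ((a : Matrix (Fin m ⊕ Fin m) (Fin m ⊕ Fin m) F) * a) = 1 := by
      have h' : a ^ 2 = 1 := by rw [← ha]; exact pow_orderOf_eq_one a
      have := congrArg Subtype.val h'
      simpa [pow_two] using this
    show (a : Matrix (Fin m ⊕ Fin m) (Fin m ⊕ Fin m) F) *ᵥ ((a : Matrix (Fin m ⊕ Fin m) (Fin m ⊕ Fin m) F) *ᵥ v) = v
    rw [Matrix.mulVec_mulVec, h, Matrix.one_mulVec]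
  have hneg : ∀ u v, B u v = B v u := fun u v => by
    rw [Sp.alt_neg B (Sp.sympB_isAlt m) v u]
    linear_combination -(B v u) * h2
  have hadd : ∀ u v, B (u + v) (L (u + v)) = B u (L u) + B v (L v) := by
    intro u v
    simp only [map_add, LinearMap.add_apply]
    have e : B v (L u) = B u (L v) := by rw [← hLB v (L u), hLL, hneg]
    linear_combination e + (B u (L v)) * h2
  have hsmul : ∀ (c : F) v, B (c • v) (L (c • v)) = c ^ 2 * B v (L v) := fun c v => by
    simp [map_smul, pow_two, mul_assoc]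
  obtain ⟨f, hf⟩ := Cfsg.Agent.Classical.CharTwo.exists_sqrt_linear (fun v => B v (L v)) hadd hsmul
  have hset : Nat.card {v : Fin m ⊕ Fin m → F // Cfsg.sympForm m F v (Matrix.mulVec ((a : ↥(Matrix.symplecticGroup (Fin m) F)) : Matrix (Fin m ⊕ Fin m) (Fin m ⊕ Fin m) F) v) = 0} = Nat.card (LinearMap.ker f) := by
    refine Nat.card_congr (Equiv.subtypeEquivRight fun v => ?_)
    rw [← Sp.sympB_apply, LinearMap.mem_ker]
    constructor
    · intro h
      exact pow_eq_zero_iff two_ne_zero |>.1 ((hf v).trans h)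
    · intro h
      exact (hf v).symm.trans (by rw [h]; simp)
  have hV : Nat.card (Fin m ⊕ Fin m → F) = Fintype.card F ^ (2 * m) := by
    simp [Nat.card_eq_fintype_card, two_mul]
  refine ⟨?_, fun hall => ?_⟩
  · rw [hset]
    by_cases h0 : f = 0
    · left
      rw [h0, LinearMap.ker_zero, Nat.card_congr Submodule.topEquiv.toEquiv, hV]
    · right
      rw [← hV, ← S2167.card_ker_dual f h0, Nat.card_eq_fintype_card (α := F)]
  · let N : (Fin m ⊕ Fin m → F) →ₗ[F] (Fin m ⊕ Fin m → F) :=
      Matrix.toLin' ((a : Matrix (Fin m ⊕ Fin m) (Fin m ⊕ Fin m) F) - 1)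
    have hN : ∀ v, N v = L v - v := fun v => by
      show _ = (a : Matrix (Fin m ⊕ Fin m) (Fin m ⊕ Fin m) F) *ᵥ v - v
      simp [N, Matrix.sub_mulVec]
    let C : LinearMap.BilinForm F (Fin m ⊕ Fin m → F) := B.compl₂ N
    have hC : ∀ u v, C u v = B u (N v) := fun u v => rfl
    have hCA : C.IsAlt := fun v => by
      rw [hC, hN, map_sub, hB, Sp.sympB_isAlt m v, sub_zero, Sp.sympB_apply]
      exact hall v
    obtain ⟨R, C', -, -, hd, hsup, hrad, hnd⟩ := Forms.exists_rad_compl C hCA ⊤
    obtain ⟨⟨k, hk⟩, -⟩ := Sp.exists_equiv (Module.finrank F C') (Sp.res C C') (Sp.res C C')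
      (Sp.isAlt_res C hCA C') hnd (Sp.isAlt_res C hCA C') hnd rfl rfl
    have hR : ∀ r ∈ R, N r = 0 := by
      intro r hr
      by_contra h
      obtain ⟨y, hy⟩ := Sp.sympB_nondeg m (N r) h
      apply hy
      rw [← hB, hneg, ← hC, Sp.alt_neg C hCA r y, hrad r hr y trivial, neg_zero]
    have hrange : LinearMap.range N = C'.map N := by
      rw [← Submodule.map_top, ← hsup, Submodule.map_sup]
      refine sup_eq_right.2 ?_
      rintro _ ⟨r, hr, rfl⟩
      rw [hR r hr]
      exact zero_mem _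
    have hinj : Function.Injective (N.domRestrict C') := by
      rw [injective_iff_map_eq_zero]
      intro c hc
      by_contra h
      obtain ⟨y, hy⟩ := hnd c h
      apply hy
      show C c y = 0
      rw [Sp.alt_neg C hCA (y : Fin m ⊕ Fin m → F) c, hC]
      rw [show N c = 0 from hc, map_zero, neg_zero]
    have : Module.finrank F (LinearMap.range N) = Module.finrank F C' := by
      rw [hrange, ← LinearMap.range_domRestrict, LinearMap.finrank_range_of_inj hinj]
    show Even (Module.finrank F (LinearMap.range ((a : Matrix (Fin m ⊕ Fin m) (Fin m ⊕ Fin m) F) - 1).mulVecLin))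
    rw [← Matrix.toLin'_apply']
    change Even (Module.finrank F (LinearMap.range N))
    rw [this, hk]
    exact Even.add_self k

end Cfsg.Agent.S2167
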