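import Cfsg.Statements.S2185
import Cfsg.Agent.Lib.Chev.Ree4Two

set_option autoImplicit false
set_option maxRecDepth 8000
open Cfsg

namespace Cfsg.Agent.S2185

/-- In the group ²F₄(2) (realised inside the Chevalley group of type F₄ over the field with two elements, θ the identity) every element of order 2 lies in the commutator subgroup (the Tits group, of index 2): there are no involutions outside it. -/
theorem result (g : ↥(Cfsg.Lie.twistedF4 (ZMod 2) 1)) (hg : orderOf g = 2) :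
    g ∈ commutator ↥(Cfsg.Lie.twistedF4 (ZMod 2) 1) := by
  classical
  let S := Cfsg.Agent.Chev.Ree4Two.S0
  haveI : Fact (Nat.Prime 2) := ⟨Nat.prime_two⟩
  have hU : Cfsg.Lie.chevF4.posUnipotent (ZMod 2) ⊓ S.Fx ≤ Cfsg.Lie.twistedF4 (ZMod 2) 1 := S.U_le_G1
  revert g
  set G := Cfsg.Lie.twistedF4 (ZMod 2) 1 with hG
  intro g hg
  set P : Subgroup ↥G := (Cfsg.Lie.chevF4.posUnipotent (ZMod 2) ⊓ S.Fx).subgroupOf G with hP
  have hcP : Nat.card ↥P = 2 ^ 12 := by
    rw [Nat.card_congr (Subgroup.subgroupOfEquivOfLe hU).toEquiv, S.card_U, ZMod.card]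
  have hcG : ∃ k, Nat.card ↥G = 2 ^ 12 * (2 * k + 1) := by
    have h := S.card_G1
    rw [ZMod.card] at h
    have e : (Cfsg.Agent.Chev.Ree4.L16.map fun v => 2 ^ Cfsg.Agent.Chev.Ree4.Ctx.cnt v).sum % 2 = 1 := by
      decide +kernel
    refine ⟨(Cfsg.Agent.Chev.Ree4.L16.map fun v => 2 ^ Cfsg.Agent.Chev.Ree4.Ctx.cnt v).sum / 2, ?_⟩
    rw [show Nat.card ↥G = Nat.card ↥S.G1 from rfl, h]
    norm_num
    omega
  obtain ⟨k, hk⟩ := hcG
  have hfac : (Nat.card ↥G).factorization 2 = 12 := by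
    rw [hk, Nat.factorization_mul (by norm_num) (by omega), Finsupp.add_apply,
      Nat.factorization_eq_zero_of_not_dvd (n := 2 * k + 1) (by omega),
      Nat.Prime.factorization_pow Nat.prime_two, Finsupp.single_eq_same]
  let PS : Sylow 2 ↥G := Sylow.ofCard P (by rw [hcP, hfac])
  have hpg : IsPGroup 2 ↥(Subgroup.zpowers g) := IsPGroup.of_card (n := 1) (by rw [Nat.card_zpowers, hg]; rfl)
  obtain ⟨Q, hQ⟩ := hpg.exists_le_sylow
  obtain ⟨h, hh⟩ := MulAction.exists_smul_eq ↥G Q PS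
  have hmem : h * g * h⁻¹ ∈ P := by
    have h1 : h * g * h⁻¹ ∈ ((h • Q : Sylow 2 ↥G) : Subgroup ↥G) := by
      rw [Sylow.coe_subgroup_smul]
      exact Subgroup.smul_mem_pointwise_smul _ (MulAut.conj h) _ (hQ (Subgroup.mem_zpowers g))
    rw [hh] at h1
    exact h1
  obtain ⟨hu, hF⟩ := Subgroup.mem_inf.mp (Subgroup.mem_subgroupOf.mp hmem)
  have h2 : (((h * g * h⁻¹ : ↥G)) : GL Cfsg.Lie.chevF4.Idx (ZMod 2)) * ((h * g * h⁻¹ : ↥G)) = 1 := by
    rw [← Subgroup.coe_mul, ← sq, conj_pow, show g ^ 2 = 1 from orderOf_dvd_iff_pow_eq_one.mp (dvd_of_eq hg)]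
    simp
  obtain ⟨_, hi⟩ := Cfsg.Agent.Chev.Ree4Two.invol_U hu hF h2
  have hi' : Abelianization.of g = (1 : Abelianization ↥G) := by
    have hi2 : Abelianization.of (h * g * h⁻¹) = (1 : Abelianization ↥G) := hi
    rwa [map_mul, map_mul, mul_comm (Abelianization.of h), map_inv, mul_inv_cancel_right] at hi2
  rw [← Abelianization.ker_of]
  exact MonoidHom.mem_ker.mpr hi'

end Cfsg.Agent.S2185
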