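import Cfsg.Statements.S2186
import Cfsg.Agent.Lib.Chev.RootPairData

set_option autoImplicit false
open Cfsg

namespace Cfsg.Agent.S2186

theorem result {F : Type*} [Field F] [Fintype F] [CharP F 2] (D : Cfsg.Lie.ChevalleyDatum) (hD : D ∈ [Cfsg.Lie.chevG2, Cfsg.Lie.chevD4, Cfsg.Lie.chevE6, Cfsg.Lie.chevE7, Cfsg.Lie.chevE8]) (hF : D = Cfsg.Lie.chevG2 → 4 ≤ Fintype.card F) (g : GL D.Idx F) (hg : g ∈ D.group F) :
    IsPGroup 2 ↥(D.rootSubgroup F (D.nroots - 1) ⊔ (D.rootSubgroup F (D.nroots - 1)).map (MulAut.conj g).toMonoidHom) ∨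
    ∃ h ∈ D.group F, (D.rootSubgroup F (D.nroots - 1) ⊔ (D.rootSubgroup F (D.nroots - 1)).map (MulAut.conj g).toMonoidHom).map (MulAut.conj h).toMonoidHom = D.rootSubgroup F (D.nroots - 1) ⊔ D.rootSubgroup F 0 := by
  simp only [List.mem_cons, List.not_mem_nil, or_false] at hD
  rcases hD with rfl | rfl | rfl | rfl | rfl
  · exact Cfsg.Agent.Chev.OKX.two_conjugates Cfsg.Agent.Chev.G2.okx 2 Cfsg.Agent.Chev.G2.pairs_ok hg
  · exact Cfsg.Agent.Chev.OKX.two_conjugates Cfsg.Agent.Chev.D4.okx 2 Cfsg.Agent.Chev.D4.pairs_ok hg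
  · exact Cfsg.Agent.Chev.OKX.two_conjugates Cfsg.Agent.Chev.E6.okx 2 Cfsg.Agent.Chev.E6.pairs_ok hg
  · exact Cfsg.Agent.Chev.OKX.two_conjugates Cfsg.Agent.Chev.E7.okx 2 Cfsg.Agent.Chev.E7.pairs_ok hg
  · exact Cfsg.Agent.Chev.OKX.two_conjugates Cfsg.Agent.Chev.E8.okx 2 Cfsg.Agent.Chev.E8.pairs_ok hg

end Cfsg.Agent.S2186
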