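import Cfsg.Statements.S2222
import Cfsg.Agent.Lib.Struct.SymSylowTwo

set_option autoImplicit false
open Cfsg

namespace Cfsg.Agent.S2222

theorem exists_conj {G : Type*} [Group G] [Finite G] (H : Subgroup G) (R : Sylow 2 G) (hR : (R : Subgroup G) ≤ H)
    (g : G) : ∃ y ∈ H ⊔ H.map (MulAut.conj g).toMonoidHom, y * g ∈ Subgroup.normalizer ((R : Subgroup G) : Set G) := by
  haveI : Fact (Nat.Prime 2) := ⟨Nat.prime_two⟩
  set L := H ⊔ H.map (MulAut.conj g).toMonoidHom
  have h1 : (R : Subgroup G) ≤ L := hR.trans le_sup_left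
  have h2 : ((g • R : Sylow 2 G) : Subgroup G) ≤ L := by
    rw [Sylow.coe_subgroup_smul, Subgroup.pointwise_smul_def]
    exact le_trans (Subgroup.map_mono hR) le_sup_right
  obtain ⟨y, hy⟩ := MulAction.exists_smul_eq L ((g • R).subtype h2) (R.subtype h1)
  refine ⟨y, y.2, Sylow.smul_eq_iff_mem_normalizer.1 ?_⟩
  rw [mul_smul]
  rw [Sylow.smul_subtype] at hy
  exact Sylow.subtype_injective hy

theorem pronormal_of_normalizer_le {G : Type*} [Group G] [Finite G] (H : Subgroup G) (R : Sylow 2 G)
    (hR : (R : Subgroup G) ≤ H)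
    (hN : H = (R : Subgroup G) ∨ Subgroup.normalizer ((R : Subgroup G) : Set G) ≤ H) : Cfsg.IsPronormal H := by
  intro g
  obtain ⟨y, hy, hyg⟩ := exists_conj H R hR g
  have h : y * g ∈ Subgroup.normalizer (H : Set G) := by
    rcases hN with rfl | hN
    · exact hyg
    · exact Subgroup.le_normalizer (hN hyg)
  refine ⟨y⁻¹, inv_mem hy, ?_⟩
  have hfix : H.map (MulAut.conj (y * g)).toMonoidHom = H := Subgroup.mem_normalizer_iff_map_conj_eq.1 h
  conv_rhs => rw [← hfix]
  rw [Subgroup.map_map]
  congr 1
  ext k
  simp [mul_assoc]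

theorem pronormal_of_index_prime {G : Type*} [Group G] [Finite G] (H : Subgroup G) (hi : H.index = 1 ∨ H.index.Prime) :
    Cfsg.IsPronormal H := by
  intro g
  set L := H ⊔ H.map (MulAut.conj g).toMonoidHom
  have hHL : H ≤ L := le_sup_left
  rcases hi with hi | hi
  · rw [Subgroup.index_eq_one] at hi
    exact ⟨g, hHL (by rw [hi]; trivial), rfl⟩
  have hd : L.index ∣ H.index := Subgroup.index_dvd_of_le hHL
  rcases (Nat.dvd_prime hi).1 hd with h | h
  · exact ⟨g, by rw [Subgroup.index_eq_one] at h; show g ∈ L; rw [h]; trivial, rfl⟩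
  · have hLH : L = H := by
      refine le_antisymm (Subgroup.relIndex_eq_one.1 ?_) hHL
      have h2 := Subgroup.relIndex_mul_index hHL
      rw [h] at h2
      exact (mul_eq_right₀ hi.ne_zero).1 h2
    refine ⟨1, one_mem _, ?_⟩
    have hle : H.map (MulAut.conj g).toMonoidHom ≤ H := by
      conv_rhs => rw [← hLH]
      exact le_sup_right
    rw [Subgroup.eq_of_le_of_card_ge hle (by rw [Subgroup.card_map_of_injective (MulAut.conj g).injective]), map_one]
    exact (Subgroup.map_id H).symm


/-- In the alternating group of degree n ≥ 5 every subgroup H of odd index is pronormal: for every element g, the subgroups H and gHg⁻¹ are conjugate by an element of the subgroup they generate. -/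
theorem result (n : ℕ) (hn : 5 ≤ n)
    (H : Subgroup (alternatingGroup (Fin n))) (hH : Odd H.index) : Cfsg.IsPronormal H := by
  classical
  haveI : Fact (Nat.Prime 2) := ⟨Nat.prime_two⟩
  obtain ⟨R₀⟩ : Nonempty (Sylow 2 H) := inferInstance
  have hcard : (R₀ : Subgroup H).index * H.index = ((R₀ : Subgroup H).map H.subtype).index := by
    rw [Subgroup.index_map_subtype]
  have hnd : ¬ 2 ∣ ((R₀ : Subgroup H).map H.subtype).index := by
    rw [← hcard]
    intro h
    rcases Nat.prime_two.dvd_mul.1 h with h | h
    · exact R₀.not_dvd_index h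
    · exact Nat.odd_iff.1 hH |> fun h' => by omega
  let R : Sylow 2 (alternatingGroup (Fin n)) := (R₀.2.map H.subtype).toSylow hnd
  have hR : (R : Subgroup (alternatingGroup (Fin n))) ≤ H := Subgroup.map_subtype_le _
  rcases Nat.lt_or_ge n 6 with h6 | h6
  · obtain rfl : n = 5 := by omega
    have hG : Nat.card (alternatingGroup (Fin 5)) = 60 := by
      rw [nat_card_alternatingGroup, Nat.card_eq_fintype_card, Fintype.card_fin]; rfl
    have hi : H.index ∣ 60 := hG ▸ H.index_dvd_card
    have h15 : H.index ∣ 15 := by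
      refine Nat.Coprime.dvd_of_dvd_mul_left (Nat.Coprime.pow_right 2 (Nat.coprime_two_right.2 hH)) (?_ : H.index ∣ 2 ^ 2 * 15)
      exact hi
    have h4 : H.index = 1 ∨ H.index.Prime ∨ H.index = 15 := by
      have hle : H.index ≤ 15 := Nat.le_of_dvd (by norm_num) h15
      interval_cases hk : H.index <;> (first | omega | (norm_num at h15 ⊢))
    rcases h4 with h | h | h
    · exact pronormal_of_index_prime H (Or.inl h)
    · exact pronormal_of_index_prime H (Or.inr h)
    · refine pronormal_of_normalizer_le H R hR (Or.inl ?_)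
      refine (Subgroup.eq_of_le_of_card_ge hR ?_).symm
      have h1 := H.card_mul_index
      rw [h, hG] at h1
      rw [Sylow.card_eq_multiplicity, hG, show Nat.factorization 60 2 = 2 from ?_]
      · omega
      · rw [Nat.factorization_def _ Nat.prime_two]
        rw [show (60 : ℕ) = 2 ^ 2 * 15 by norm_num, padicValNat.mul (by norm_num) (by norm_num), padicValNat.prime_pow,
          padicValNat.eq_zero_of_not_dvd (by norm_num)]
  · refine pronormal_of_normalizer_le H R hR (Or.inr fun g hg => hR ?_)
    exact Cfsg.Agent.Struct.SymSylowTwo.alt_self_normalizing h6 R g hg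

end Cfsg.Agent.S2222
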