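import Cfsg.Statements.S2231
import Cfsg.Agent.Lib.Classical.DicksonTools
import Cfsg.Agent.Lib.Classical.SL2Two
import Cfsg.Agent.Lib.Fusion.QdGroup

set_option autoImplicit false
open Cfsg

open Cfsg.Agent.Classical
open scoped MatrixGroups Classical

namespace Cfsg.Agent.S2231

/-- Let p be an odd prime and K a finite field of characteristic p. Then Qd(p) (the natural semidirect product of an elementary abelian group of order p² by SL₂(p)) is not involved in the projective special linear group PSL₂(K). -/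
theorem result {p : ℕ} [Fact p.Prime] (hp : p ≠ 2) {K : Type*} [Field K] [Fintype K] [CharP K p] : ¬ Cfsg.Involves ↥(Cfsg.qd p) (Matrix.ProjectiveSpecialLinearGroup (Fin 2) K) := by
  rintro hinv
  obtain ⟨M, Q, f, hQM, hQ, hnorm, hf, hfQ⟩ := Fusion.QdGroup.exists_pSubgroup_section hinv
  haveI : Finite (Matrix.ProjectiveSpecialLinearGroup (Fin 2) K) := Finite.of_surjective _ SL2Two.proj_surjective
  let u : Cfsg.qd p := Local.qdElt 1 1 0 1 0 0 (by ring)
  have hu : ∀ (n : ℕ) (r s : ZMod p), u ^ n * Local.trans r s =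
      Local.trans (r + (n : ZMod p) * s) s * u ^ n := by
    intro n r s
    induction n generalizing r with
    | zero => simp
    | succ n ih =>
      have h1 : u * Local.trans r s = Local.trans (r + s) s * u := by
        rw [Local.trans, Local.trans, Local.qdElt_mul, Local.qdElt_mul]
        exact Local.qdElt_congr _ _ (by ring) (by ring) (by ring) (by ring) (by ring) (by ring)
      rw [pow_succ, mul_assoc, h1, ← mul_assoc, ih, mul_assoc,
        show r + s + (n : ZMod p) * s = r + ((n + 1 : ℕ) : ZMod p) * s by push_cast; ring]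
  have hun : ∀ n : ℕ, u ^ n = Local.qdElt 1 (n : ZMod p) 0 1 0 0 (by ring) := by
    intro n
    induction n with
    | zero => rw [pow_zero, ← Local.qdElt_one]; exact Local.qdElt_congr _ _ rfl (by simp) rfl rfl rfl rfl
    | succ n ih =>
      rw [pow_succ, ih, Local.qdElt_mul]
      exact Local.qdElt_congr _ _ (by ring) (by push_cast; ring) (by ring) (by ring) (by ring) (by ring)
  have hup : u ^ p = 1 := by
    rw [hun, ← Local.qdElt_one]
    exact Local.qdElt_congr _ _ rfl (ZMod.natCast_self p) rfl rfl rfl rfl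
  obtain ⟨S, hS⟩ := (IsPGroup.iff_card.2 (show ∃ n, Nat.card (Subgroup.zpowers u) = p ^ n by
    rw [Nat.card_zpowers]
    obtain ⟨k, -, hk⟩ := (Nat.dvd_prime_pow (Fact.out : p.Prime)).1
      (show orderOf u ∣ p ^ 1 by rw [pow_one]; exact orderOf_dvd_of_pow_eq_one hup)
    exact ⟨k, hk⟩)).exists_le_sylow
  haveI : (Local.transGroup (p := p)).Normal := Local.transGroup_normal
  have hT : Local.transGroup (p := p) ≤ (S : Subgroup (Cfsg.qd p)) := by
    have hp' : IsPGroup p (Local.transGroup (p := p)) := IsPGroup.of_card Local.card_transGroup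
    exact le_sup_right.trans (S.is_maximal' (S.isPGroup'.to_sup_of_normal_right hp') le_sup_left).le
  obtain ⟨P, hP⟩ := Sylow.mapSurjective_surjective hf p S
  have htm : Local.trans (0 : ZMod p) 1 ∈ (S : Subgroup (Cfsg.qd p)) := hT ⟨0, 1, rfl⟩
  have hum : u ∈ (S : Subgroup (Cfsg.qd p)) := hS (Subgroup.mem_zpowers u)
  rw [← hP, Sylow.coe_mapSurjective] at htm hum
  obtain ⟨a, ha, hfa⟩ := hum
  obtain ⟨b, hb, hfb⟩ := htm
  have hcomm := Dickson.pGroup_comm (F := K) p (Dickson.ambient_pslF (F := K))
    (P := (((P : Subgroup M).map M.subtype).map Dickson.emb))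
    (by rintro _ ⟨x, -, rfl⟩; exact ⟨x, rfl⟩) ((P.isPGroup'.map _).map _)
    ⟨_, ⟨a, ha, rfl⟩, rfl⟩ ⟨_, ⟨b, hb, rfl⟩, rfl⟩
  have hab : a * b = b * a := Subtype.ext (Dickson.emb_injective (by simpa using hcomm))
  have h1 : u * Local.trans 0 1 = Local.trans 0 1 * u := by
    rw [← hfa, ← hfb, ← map_mul, hab, map_mul]
  have h2 := hu 1 0 1
  rw [pow_one, h1] at h2
  have h3 := (Local.trans_inj (mul_right_cancel h2)).1
  simp at h3

end Cfsg.Agent.S2231
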