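import Cfsg.Statements.S2245
import Cfsg.Agent.Lib.Struct.SymTwoMaximal

set_option autoImplicit false
open Cfsg

namespace Cfsg.Agent.S2245

open Equiv Cfsg.Agent.Struct.SymSylowTwo Cfsg.Agent.Struct.SymTwoMaximal MulAction

theorem permCongr_mul' {α β : Type*} (e : α ≃ β) (p q : Perm α) :
    e.permCongr (p * q) = e.permCongr p * e.permCongr q := by
  ext x
  simp

theorem opt_some {β : Type*} [DecidableEq β] [Fintype β] (p : Perm (β × Bool)) (x : β × Bool) :
    opt p (some x) = some (p x) := rfl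

theorem opt_none {β : Type*} [DecidableEq β] [Fintype β] (p : Perm (β × Bool)) : opt p none = none := rfl

theorem exists_tau {n : ℕ} (R : Subgroup (Perm (Fin n))) (hR : IsPGroup 2 R) (hn : Even (Fintype.card (Fin n))) :
    ∃ τ : Perm (Fin n), τ * τ = 1 ∧ (∀ x, τ x ≠ x) ∧ R ≤ Subgroup.centralizer {τ} := by
  rw [Fintype.card_fin] at hn
  obtain ⟨m, rfl⟩ := hn
  obtain ⟨e, he⟩ := exists_model (Fintype.equivFinOfCardEq (α := Fin m × Bool) (by simp [mul_two]))
    (wreath (⊤ : Subgroup (Perm (Fin m)))) (by rw [← two_mul]; exact card_wreath_top m) R hR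
  refine ⟨e.permCongr (mk (fun _ => true) 1), ?_, ?_, ?_⟩
  · rw [← permCongr_mul', mk_mul]
    ext x
    simp
  · intro x h
    have h2 := congrArg (fun y => (e.symm y).2) h
    simp at h2
  · intro r hr
    obtain ⟨w, ⟨f, σ, -, rfl⟩, rfl⟩ := he r hr
    refine Subgroup.mem_centralizer_singleton_iff.2 ?_
    rw [← permCongr_mul', ← permCongr_mul', mk_mul, mk_mul, one_mul, mul_one]
    congr 2
    funext b
    simp [Bool.xor_comm]

theorem not_uniq_four {n l : ℕ} (hn : n = 4 * l) (hl : 2 ≤ l) {G R : Subgroup (Perm (Fin n))} (hG : IsBig G)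
    (hR : IsPGroup 2 R) (hRG : R ≤ G) : ¬ Uniq G R := by
  subst hn
  obtain ⟨e, he⟩ := exists_model (Fintype.equivFinOfCardEq (α := (Fin l × Bool) × Bool) (by simp; ring))
    (wreath (wreath (⊤ : Subgroup (Perm (Fin l))))) (card_wreath_two l) R hR
  have hnot : ∀ b : Bool, (!b) ≠ b := by decide
  refine not_uniq_blocks hG hRG (e.permCongr (mk (fun _ => true) 1)) (fun x => (e.symm x).1.1) ?_ ?_
    (by rw [Fintype.card_fin]; omega) ?_ ?_ ?_ ?_ ?_
  · rw [← permCongr_mul', mk_mul]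
    ext x
    simp
  · intro x h
    have h2 := congrArg (fun y => (e.symm y).2) h
    simp at h2
  · intro x
    simp
  · intro x
    obtain ⟨⟨⟨c, a⟩, b⟩, rfl⟩ := e.surjective x
    refine ⟨e ((c, !a), b), e ((c, !a), !b), ?_, ⟨?_, ?_⟩, ⟨?_, ?_⟩, ?_, ?_⟩ <;> simp [e.injective.eq_iff]
  · exact ⟨e ((⟨0, by omega⟩, false), false), e ((⟨1, by omega⟩, false), false), by simp [Fin.ext_iff]⟩
  · intro r hr
    obtain ⟨w, ⟨f, σ', -, rfl⟩, rfl⟩ := he r hr
    refine Subgroup.mem_centralizer_singleton_iff.2 ?_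
    rw [← permCongr_mul', ← permCongr_mul', mk_mul, mk_mul, one_mul, mul_one]
    congr 2
    funext b
    simp [Bool.xor_comm]
  · intro r hr x y
    obtain ⟨w, ⟨f, σ', ⟨g, σ, -, rfl⟩, rfl⟩, rfl⟩ := he r hr
    simp

/-- The structure of a Sylow 2-subgroup of `Sym(2^k+1)`. -/
theorem odd_model {k m : ℕ} (hk : 2 ≤ k) (hm : 2 * m = 2 ^ k) (P : Sylow 2 (Perm (Fin (2 * m + 1)))) :
    ∃ (x₀ : Fin (2 * m + 1)) (τ : Fin (2 * m + 1) → Fin (2 * m + 1)),
      (∀ r ∈ (P : Subgroup (Perm (Fin (2 * m + 1)))), r x₀ = x₀) ∧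
      (∀ x y, x ≠ x₀ → y ≠ x₀ → ∃ r ∈ (P : Subgroup (Perm (Fin (2 * m + 1)))), r x = y) ∧
      (∀ x, x ≠ x₀ → τ x ≠ x₀ ∧ τ x ≠ x ∧ τ (τ x) = x) ∧
      (∀ u, u ≠ x₀ → swap u (τ u) ∈ (P : Subgroup (Perm (Fin (2 * m + 1))))) := by
  classical
  haveI : Fact (Nat.Prime 2) := ⟨Nat.prime_two⟩
  obtain ⟨e, he⟩ := exists_model (Fintype.equivFinOfCardEq (α := Option (Fin m × Bool)) (by simp [mul_comm]))
    ((wreath (⊤ : Subgroup (Perm (Fin m)))).map opt) (card_wreath_opt m) _ P.2
  have hfix : ∀ r ∈ (P : Subgroup (Perm (Fin (2 * m + 1)))), r (e none) = e none := fun r hr => by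
    obtain ⟨w, ⟨w', -, rfl⟩, rfl⟩ := he r hr
    simp [opt_none]
  let τ : Fin (2 * m + 1) → Fin (2 * m + 1) := fun x => e (opt (mk (fun _ => true) 1) (e.symm x))
  refine ⟨e none, τ, hfix, ?_, ?_, ?_⟩
  · obtain ⟨c, hc⟩ := (Equiv.Perm.exists_with_cycleType_iff (Fin (2 * m + 1)) (m := {2 ^ k})).2 ⟨by
      rw [Multiset.sum_singleton, Fintype.card_fin]; omega, by
      intro a ha
      rw [Multiset.mem_singleton] at ha
      subst ha
      calc 2 ≤ 2 ^ 1 := by norm_num
        _ ≤ 2 ^ k := Nat.pow_le_pow_right (by norm_num) (by omega)⟩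
    have hord : orderOf c = 2 ^ k := by
      rw [← Equiv.Perm.lcm_cycleType, hc, Multiset.lcm_singleton, normalize_eq]
    have hz : IsPGroup 2 (Subgroup.zpowers c) := IsPGroup.of_card (n := k) (by rw [Nat.card_zpowers, hord])
    obtain ⟨Q, hQ⟩ := hz.exists_le_sylow
    obtain ⟨g, hg⟩ := MulAction.exists_smul_eq (Perm (Fin (2 * m + 1))) Q P
    have hr : g * c * g⁻¹ ∈ (P : Subgroup (Perm (Fin (2 * m + 1)))) := by
      rw [← hg, Sylow.coe_subgroup_smul]
      exact Subgroup.smul_mem_pointwise_smul c (MulAut.conj g) _ (hQ (Subgroup.mem_zpowers c))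
    set r := g * c * g⁻¹
    have hct : r.cycleType = {2 ^ k} := by rw [Equiv.Perm.cycleType_conj, hc]
    have hcyc : r.IsCycle := by
      rw [← Equiv.Perm.card_cycleType_eq_one, hct]
      rfl
    have hsupp : r.support = Finset.univ.erase (e none) := by
      refine Finset.eq_of_subset_of_card_le ?_ ?_
      · intro z hz
        rw [Equiv.Perm.mem_support] at hz
        exact Finset.mem_erase.2 ⟨fun h => hz (h ▸ hfix r hr), Finset.mem_univ _⟩
      · rw [Finset.card_erase_of_mem (Finset.mem_univ _), Finset.card_univ, Fintype.card_fin, ← Equiv.Perm.sum_cycleType,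
          hct, Multiset.sum_singleton]
        omega
    intro x y hx hy
    have hx' : r x ≠ x := Equiv.Perm.mem_support.1 (by rw [hsupp]; exact Finset.mem_erase.2 ⟨hx, Finset.mem_univ _⟩)
    have hy' : r y ≠ y := Equiv.Perm.mem_support.1 (by rw [hsupp]; exact Finset.mem_erase.2 ⟨hy, Finset.mem_univ _⟩)
    obtain ⟨i, -, hi⟩ := (hcyc.sameCycle hx' hy').exists_pow_eq'
    exact ⟨r ^ i, pow_mem hr i, hi⟩
  · intro x hx
    obtain ⟨o, rfl⟩ := e.surjective x
    cases o with
    | none => exact absurd rfl hx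
    | some z =>
      obtain ⟨b, a⟩ := z
      simp [τ, opt_some, e.injective.eq_iff]
  · intro u hu
    obtain ⟨o, rfl⟩ := e.surjective u
    cases o with
    | none => exact absurd rfl hu
    | some z =>
      obtain ⟨b, a⟩ := z
      let E : Subgroup (Perm (Fin (2 * m + 1))) :=
        ((wreath (⊥ : Subgroup (Perm (Fin m)))).map opt).map e.permCongrHom.toMonoidHom
      have hE : IsPGroup 2 E := by
        refine IsPGroup.map (IsPGroup.map (IsPGroup.of_card (n := m) ?_) _) _
        rw [card_wreath, Subgroup.card_bot, mul_one, Nat.card_fin]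
      have hn : (P : Subgroup (Perm (Fin (2 * m + 1)))) ≤ Subgroup.normalizer (E : Set (Perm (Fin (2 * m + 1)))) := by
        intro p hp
        refine Subgroup.mem_normalizer_fintype fun x hx => ?_
        obtain ⟨x', hx', rfl⟩ := Subgroup.mem_map.1 hx
        obtain ⟨x'', ⟨f, σ, hσ, rfl⟩, rfl⟩ := Subgroup.mem_map.1 hx'
        obtain ⟨w, ⟨w', ⟨f', ρ, -, rfl⟩, rfl⟩, rfl⟩ := he p hp
        obtain rfl := Subgroup.mem_bot.1 hσ
        refine Subgroup.mem_map.2 ⟨_, Subgroup.mem_map.2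
          ⟨mk f' ρ * mk f 1 * (mk f' ρ)⁻¹, ?_, rfl⟩, ?_⟩
        · refine ⟨fun x => f (ρ⁻¹ x), 1, rfl, ?_⟩
          rw [mul_inv_eq_iff_eq_mul, mk_mul, mk_mul, mul_one, one_mul]
          congr 1
          funext i
          simp [Bool.xor_comm]
        · show e.permCongrHom _ = e.permCongrHom _ * e.permCongrHom _ * (e.permCongrHom _)⁻¹
          simp only [map_mul, map_inv]
      have hPE : IsPGroup 2 ↥(E ⊔ (P : Subgroup (Perm (Fin (2 * m + 1))))) := by
        rw [sup_comm]
        exact IsPGroup.to_sup_of_normal_right' P.2 hE hn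
      have heq := P.3 hPE le_sup_right
      rw [← heq]
      refine Subgroup.mem_sup_left (Subgroup.mem_map.2 ⟨_, Subgroup.mem_map.2 ⟨flip b, flip_mem _ b, rfl⟩, ?_⟩)
      refine Equiv.ext fun y => ?_
      obtain ⟨o, rfl⟩ := e.surjective y
      show e.permCongr (opt (flip b)) (e o) = _
      cases o with
      | none => simp [opt_none, τ, opt_some, Equiv.swap_apply_of_ne_of_ne, e.injective.eq_iff]
      | some z =>
        obtain ⟨c, a'⟩ := z
        rcases eq_or_ne c b with rfl | hc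
        · cases a <;> cases a' <;> simp [τ, opt_some, Cfsg.Agent.Struct.SymSylowTwo.flip, swap_apply_def, e.injective.eq_iff]
        · simp [τ, opt_some, Cfsg.Agent.Struct.SymSylowTwo.flip, swap_apply_def, e.injective.eq_iff, hc]

theorem uniq_odd {n k : ℕ} (hn : n = 2 ^ k + 1) (hk : 2 ≤ k) {G R : Subgroup (Perm (Fin n))} (hG : IsBig G)
    (P : Sylow 2 (Perm (Fin n))) (hR : R = (P : Subgroup (Perm (Fin n))) ⊓ G)
    (hfive : n = 5 → G = alternatingGroup (Fin n) → ∀ H, R ≤ H → H ≤ G → IsPretransitive H (Fin n) → G ≤ H) :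
    Uniq G R := by
  classical
  obtain ⟨m, hm⟩ : ∃ m, 2 * m = 2 ^ k := ⟨2 ^ (k - 1), by rw [← pow_succ', show k - 1 + 1 = k by omega]⟩
  have h4 : 4 ≤ 2 ^ k := le_trans (by norm_num) (Nat.pow_le_pow_right (by norm_num : 0 < 2) hk)
  obtain rfl : n = 2 * m + 1 := by omega
  obtain ⟨x₀, τ, hfix, htr, hττ, hflip⟩ := odd_model hk hm P
  subst hR
  have hdouble : ∀ u r, u ≠ x₀ → r ≠ x₀ → swap u (τ u) * swap r (τ r) ∈ (P : Subgroup (Perm (Fin (2 * m + 1)))) ⊓ G :=
    fun u r hu hr => ⟨mul_mem (hflip u hu) (hflip r hr),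
      hG.alt_le (double_mem_alt (hττ u hu).2.1.symm (hττ r hr).2.1.symm)⟩
  refine uniq_point hG (by rw [Fintype.card_fin]; omega) x₀ (fun r hr => hfix r hr.1) ?_ ?_
  · intro x y hx hy
    obtain ⟨r, hr, hrxy⟩ := htr x y hx hy
    rcases hG with rfl | rfl
    · rcases Int.units_eq_one_or (Perm.sign r) with h | h
      · exact ⟨r, ⟨hr, h⟩, hrxy⟩
      · obtain ⟨w, -, hw⟩ := Finset.exists_mem_notMem_of_card_lt_card (s := ({x₀, x, τ x} : Finset (Fin (2 * m + 1))))
          (t := Finset.univ) (by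
            refine lt_of_le_of_lt Finset.card_le_three ?_
            rw [Finset.card_univ, Fintype.card_fin]; omega)
        simp only [Finset.mem_insert, Finset.mem_singleton, not_or] at hw
        refine ⟨r * swap w (τ w), ⟨mul_mem hr (hflip w hw.1), ?_⟩, ?_⟩
        · show Perm.sign (r * swap w (τ w)) = 1
          rw [map_mul, h, Perm.sign_swap (hττ w hw.1).2.1.symm]
          rfl
        · rw [Perm.mul_apply, swap_apply_of_ne_of_ne (Ne.symm hw.2.1)
            (fun h' => hw.2.2 (by rw [h', (hττ w hw.1).2.2])), hrxy]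
    · exact ⟨r, ⟨hr, Subgroup.mem_top _⟩, hrxy⟩
  · intro H hRH hHG htrans hprim g hg hgx
    have hswap : G = ⊤ → ∃ t ∈ H, t.IsSwap := fun hT => by
      obtain ⟨u, hu, -⟩ := exists_third (by rw [Fintype.card_fin]; omega) x₀ x₀
      exact ⟨swap u (τ u), hRH ⟨hflip u hu, hT ▸ Subgroup.mem_top _⟩, ⟨u, τ u, (hττ u hu).2.1.symm, rfl⟩⟩
    rcases hG with hA | hT
    · by_cases h5 : 2 * m + 1 = 5
      · exact hfive h5 hA H hRH hHG htrans
      · have hk3 : 8 ≤ 2 ^ k := by
          rcases Nat.lt_or_ge k 3 with hk3 | hk3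
          · obtain rfl : k = 2 := by omega
            omega
          · exact le_trans (by norm_num) (Nat.pow_le_pow_right (by norm_num : 0 < 2) hk3)
        obtain ⟨c, hc, hc3⟩ := exists_three_cycle (x₀ := x₀) (τ := τ) (by rw [Fintype.card_fin]; omega) hττ
          (fun u r hu hr _ _ => hRH (hdouble u r hu hr)) hg hgx
        exact le_of_three_cycle (Or.inl hA) hprim hc3 hc hswap
    · obtain ⟨t, ht, hts⟩ := hswap hT
      rw [Equiv.Perm.subgroup_eq_top_of_isPreprimitive_of_isSwap_mem hprim t hts ht]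
      exact le_top

theorem five {H : Subgroup (Perm (Fin 5))} (R : Sylow 2 (alternatingGroup (Fin 5)))
    (hRH : (R : Subgroup (alternatingGroup (Fin 5))).map (alternatingGroup (Fin 5)).subtype ≤ H)
    (htrans : IsPretransitive H (Fin 5)) : alternatingGroup (Fin 5) ≤ H ∨ ¬ H ≤ alternatingGroup (Fin 5) := by
  haveI : Fact (Nat.Prime 2) := ⟨Nat.prime_two⟩
  by_contra hcon
  rw [not_or, not_not] at hcon
  obtain ⟨hne, hle⟩ := hcon
  have hG : Nat.card (alternatingGroup (Fin 5)) = 60 := by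
    rw [nat_card_alternatingGroup, Nat.card_eq_fintype_card, Fintype.card_fin]; rfl
  set K := H.subgroupOf (alternatingGroup (Fin 5))
  have hK : Nat.card K = Nat.card H := Nat.card_congr (Subgroup.subgroupOfEquivOfLe hle).toEquiv
  have h5 : 5 ∣ Nat.card H := by
    haveI := htrans
    have h := MulAction.index_stabilizer_of_transitive (G := H) (0 : Fin 5)
    rw [Nat.card_fin] at h
    have h' := Subgroup.index_dvd_card (MulAction.stabilizer H (0 : Fin 5))
    rwa [h] at h'
  have h4 : 4 ∣ Nat.card K := by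
    have hR4 : Nat.card (R : Subgroup (alternatingGroup (Fin 5))) = 4 := by
      rw [Sylow.card_eq_multiplicity, hG, Nat.factorization_def _ Nat.prime_two,
        show (60 : ℕ) = 2 ^ 2 * 15 by norm_num, padicValNat.mul (by norm_num) (by norm_num), padicValNat.prime_pow,
        padicValNat.eq_zero_of_not_dvd (by norm_num : ¬ 2 ∣ 15)]
      rfl
    rw [← hR4]
    exact Subgroup.card_dvd_of_le (Subgroup.map_le_iff_le_comap.1 hRH)
  have h20 : 20 ∣ Nat.card K := Nat.Coprime.mul_dvd_of_dvd_of_dvd (by norm_num : Nat.Coprime 4 5) h4 (hK ▸ h5)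
  have hi : K.index ∣ 3 := by
    obtain ⟨j, hj⟩ := h20
    have h1 := K.card_mul_index
    rw [hG, hj] at h1
    exact ⟨j, by nlinarith⟩
  have hK1 : K.index = 1 := by
    rcases (Nat.dvd_prime Nat.prime_three).1 hi with h | h
    · exact h
    exfalso
    haveI : IsSimpleGroup (alternatingGroup (Fin 5)) := alternatingGroup.isSimpleGroup_five
    have hd : K.normalCore.index ∣ 6 := by
      rw [Subgroup.normalCore_eq_ker, Subgroup.index_ker]
      refine (Subgroup.card_subgroup_dvd_card _).trans ?_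
      rw [Nat.card_perm, ← Subgroup.index_eq_card, h]
      rfl
    rcases IsSimpleGroup.eq_bot_or_eq_top_of_normal K.normalCore inferInstance with hb | ht
    · rw [hb, Subgroup.index_bot, hG] at hd
      norm_num at hd
    · have : K = ⊤ := top_le_iff.1 (ht ▸ K.normalCore_le)
      rw [this, Subgroup.index_top] at h
      norm_num at h
  rw [Subgroup.index_eq_one] at hK1
  exact hne (Subgroup.subgroupOf_eq_top.1 hK1)

theorem not_top_pgroup {G : Type*} [Group G] [Finite G] (h3 : 3 ∣ Nat.card G) {R : Subgroup G} (hR : IsPGroup 2 R) :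
    R < ⊤ := by
  refine lt_top_iff_ne_top.2 fun h => ?_
  haveI : Fact (Nat.Prime 2) := ⟨Nat.prime_two⟩
  obtain ⟨j, hj⟩ := IsPGroup.iff_card.1 hR
  rw [h, Subgroup.card_top] at hj
  rw [hj] at h3
  exact absurd (Nat.Prime.dvd_of_dvd_pow Nat.prime_three h3) (by norm_num)

theorem sym_case {n : ℕ} (hn : 5 ≤ n) (h6 : n ≠ 6) {G R : Subgroup (Perm (Fin n))} (hG : IsBig G)
    (P : Sylow 2 (Perm (Fin n))) (hR : R = (P : Subgroup (Perm (Fin n))) ⊓ G)
    (hfive : n = 5 → G = alternatingGroup (Fin n) → ∀ H, R ≤ H → H ≤ G → IsPretransitive H (Fin n) → G ≤ H) :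
    Uniq G R ↔ ∃ k : ℕ, 2 ≤ k ∧ n = 2 ^ k + 1 := by
  refine ⟨fun hu => ?_, fun ⟨k, hk, hk'⟩ => uniq_odd hk' hk hG P hR hfive⟩
  by_contra hcon
  push Not at hcon
  have hp : IsPGroup 2 R := P.2.to_le (hR ▸ inf_le_left)
  have hle : R ≤ G := hR ▸ inf_le_right
  by_cases hpow : ∃ k, n = 2 ^ k
  · obtain ⟨k, rfl⟩ := hpow
    have hk : 3 ≤ k := by
      by_contra h
      have := Nat.pow_le_pow_right (by norm_num : 0 < 2) (show k ≤ 2 by omega)
      omega
    refine not_uniq_four (l := 2 ^ (k - 2)) ?_ ?_ hG hp hle hu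
    · rw [show 4 = 2 ^ 2 by norm_num, ← pow_add]; congr 1; omega
    · calc 2 ≤ 2 ^ 1 := by norm_num
        _ ≤ 2 ^ (k - 2) := Nat.pow_le_pow_right (by norm_num) (by omega)
  · push Not at hpow
    refine not_uniq_intransitive hG hp hle (by rw [Fintype.card_fin]; exact hn) (fun k => by rw [Fintype.card_fin]; exact hpow k)
      (fun k => ?_) (fun he => exists_tau R hp he) hu
    rw [Fintype.card_fin]
    intro h
    rcases Nat.lt_or_ge k 2 with hk | hk
    · interval_cases k <;> omega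
    · exact hcon k hk h


/-- For n ≥ 5 with n ≠ 6, a Sylow 2-subgroup of the alternating group A_n lies in exactly one maximal subgroup of A_n if and only if n = 2^k + 1 for some k ≥ 2; the same holds for the symmetric group S_n. -/
theorem result (n : ℕ) (hn : 5 ≤ n) (h6 : n ≠ 6) :
    ((∀ R : Sylow 2 ↥(alternatingGroup (Fin n)), (∃! M : Subgroup ↥(alternatingGroup (Fin n)), IsCoatom M ∧ (R : Subgroup ↥(alternatingGroup (Fin n))) ≤ M) ↔ ∃ k : ℕ, 2 ≤ k ∧ n = 2 ^ k + 1) ∧
    (∀ R : Sylow 2 (Equiv.Perm (Fin n)), (∃! M : Subgroup (Equiv.Perm (Fin n)), IsCoatom M ∧ (R : Subgroup (Equiv.Perm (Fin n))) ≤ M) ↔ ∃ k : ℕ, 2 ≤ k ∧ n = 2 ^ k + 1)) := by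
  classical
  haveI : Fact (Nat.Prime 2) := ⟨Nat.prime_two⟩
  have h3 : 3 ∣ Nat.card (Perm (Fin n)) := by
    rw [Nat.card_perm, Nat.card_fin]
    exact Nat.dvd_factorial (by norm_num) (by omega)
  haveI : Nontrivial (Fin n) := Fin.nontrivial_iff_two_le.2 (by omega)
  have h3A : 3 ∣ Nat.card (alternatingGroup (Fin n)) := by
    have h2 : 3 ∣ 2 * Nat.card (alternatingGroup (Fin n)) := by
      rw [two_mul_nat_card_alternatingGroup]
      exact h3
    exact (Nat.Coprime.dvd_mul_left (by norm_num)).1 h2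
  refine ⟨fun R => ?_, fun R => ?_⟩
  · rw [existsUnique_iff _ (not_top_pgroup h3A R.2), uniq_subgroupOf]
    obtain ⟨P, hP⟩ := (R.2.map (alternatingGroup (Fin n)).subtype).exists_le_sylow
    have hR : (P : Subgroup (Perm (Fin n))).comap (alternatingGroup (Fin n)).subtype = R :=
      R.3 (P.2.comap_of_injective _ Subtype.val_injective) (Subgroup.map_le_iff_le_comap.1 hP)
    refine sym_case hn h6 (Or.inl rfl) P ?_ fun h5 _ H hRH hHG htr => ?_
    · rw [← hR, Subgroup.map_comap_eq, Subgroup.range_subtype, inf_comm]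
    · subst h5
      rcases five R hRH htr with h | h
      · exact h
      · exact absurd hHG h
  · rw [existsUnique_iff _ (not_top_pgroup h3 R.2)]
    exact sym_case hn h6 (Or.inr rfl) R (by rw [inf_top_eq]) fun _ h => absurd h (by
      intro h'
      have hmem : Equiv.swap (⟨0, by omega⟩ : Fin n) ⟨1, by omega⟩ ∈ (⊤ : Subgroup (Perm (Fin n))) := Subgroup.mem_top _
      rw [h', Equiv.Perm.mem_alternatingGroup, Equiv.Perm.sign_swap (by simp [Fin.ext_iff])] at hmem
      exact absurd hmem (by decide))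

end Cfsg.Agent.S2245
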