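import Cfsg.Statements.S2250
import Cfsg.Agent.S2234
import Cfsg.Agent.S0245
import Cfsg.Agent.Lib.Classical.SL2
-- import your own Cfsg.Agent.* helpers here

set_option autoImplicit false
open Cfsg

namespace Cfsg.Agent.S2250


open Matrix
open scoped Pointwise

variable {F : Type*} [Field F] [Fintype F] {n : ℕ}

local notation "SL2" => Matrix.SpecialLinearGroup (Fin 2) F

def Dm (A : Fin n → SL2) : Matrix (Fin n ⊕ Fin n) (Fin n ⊕ Fin n) F :=
  fromBlocks (diagonal fun i => (A i).1 0 0) (diagonal fun i => (A i).1 0 1)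
    (diagonal fun i => (A i).1 1 0) (diagonal fun i => (A i).1 1 1)

theorem det_one' (A : SL2) : A.1 0 0 * A.1 1 1 - A.1 0 1 * A.1 1 0 = 1 := by
  rw [← Matrix.det_fin_two]; exact A.2

theorem Dm_mem (A : Fin n → SL2) : Dm A ∈ Matrix.symplecticGroup (Fin n) F := by
  rw [SymplecticGroup.mem_iff, Dm, Matrix.J, fromBlocks_transpose, fromBlocks_multiply, fromBlocks_multiply,
    fromBlocks_inj]
  refine ⟨?_, ?_, ?_, ?_⟩ <;> ext i j <;> rcases eq_or_ne i j with rfl | h
  all_goals try simp [diagonal_transpose, diagonal_apply_ne, *]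
  all_goals first
    | linear_combination (det_one' (A i))
    | linear_combination -(det_one' (A i))
    | ring

def perm (σ : Equiv.Perm (Fin n)) : Matrix (Fin n) (Fin n) F := Matrix.of fun i j => if j = σ i then 1 else 0

theorem perm_mul (σ τ : Equiv.Perm (Fin n)) : perm (F := F) σ * perm τ = perm (τ * σ) := by
  ext i j
  rw [Matrix.mul_apply, Finset.sum_eq_single (σ i) (fun x _ hx => by simp [perm, hx]) (by simp)]
  simp only [perm, Matrix.of_apply, Equiv.Perm.mul_apply, if_true, one_mul]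
  congr

theorem perm_transpose (σ : Equiv.Perm (Fin n)) : (perm (F := F) σ)ᵀ = perm σ⁻¹ := by
  ext i j
  simp only [perm, transpose_apply, Matrix.of_apply]
  refine if_congr ⟨fun h => ?_, fun h => ?_⟩ rfl rfl
  · rw [h]; simp
  · rw [h]; simp

theorem perm_one : perm (F := F) (1 : Equiv.Perm (Fin n)) = 1 := by
  ext i j; simp [perm, Matrix.one_apply, eq_comm]

def Wm (σ : Equiv.Perm (Fin n)) : Matrix (Fin n ⊕ Fin n) (Fin n ⊕ Fin n) F := fromBlocks (perm σ) 0 0 (perm σ)

theorem Wm_mem (σ : Equiv.Perm (Fin n)) : Wm (F := F) σ ∈ Matrix.symplecticGroup (Fin n) F := by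
  rw [SymplecticGroup.mem_iff, Wm, Matrix.J, fromBlocks_transpose, fromBlocks_multiply, fromBlocks_multiply]
  simp [perm_transpose, perm_mul, perm_one]

/-- The product of the planes. -/
def D : (Fin n → SL2) →* Matrix.symplecticGroup (Fin n) F where
  toFun A := ⟨Dm A, Dm_mem A⟩
  map_one' := Subtype.ext (by simp [Dm, fromBlocks_one])
  map_mul' A B := Subtype.ext (by
    show Dm (A * B) = Dm A * Dm B
    rw [Dm, Dm, Dm, fromBlocks_multiply]
    simp [diagonal_mul_diagonal, diagonal_add, Matrix.mul_apply, Fin.sum_univ_two])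

/-- The permutations of the planes. -/
def W : Equiv.Perm (Fin n) →* Matrix.symplecticGroup (Fin n) F where
  toFun σ := ⟨Wm σ⁻¹, Wm_mem _⟩
  map_one' := Subtype.ext (by simp [Wm, perm_one, fromBlocks_one])
  map_mul' σ τ := Subtype.ext (by
    show Wm (σ * τ)⁻¹ = Wm σ⁻¹ * Wm τ⁻¹
    rw [Wm, Wm, Wm, fromBlocks_multiply]
    simp [perm_mul, _root_.mul_inv_rev])

theorem push (σ : Equiv.Perm (Fin n)) (A : Fin n → SL2) : W σ * D A = D (A ∘ ⇑σ⁻¹) * W σ := by
  refine Subtype.ext ?_
  show Wm σ⁻¹ * Dm A = Dm (A ∘ ⇑σ⁻¹) * Wm σ⁻¹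
  have key : ∀ x : Fin n → F, perm σ⁻¹ * diagonal x = diagonal (fun i => x (σ⁻¹ i)) * perm (F := F) σ⁻¹ := by
    intro x; ext i j
    rw [Matrix.mul_diagonal, Matrix.diagonal_mul]
    simp only [perm, Matrix.of_apply]
    split_ifs with h
    · subst h; ring
    · ring
  rw [Dm, Dm, Wm, fromBlocks_multiply, fromBlocks_multiply]
  simp [key, Function.comp_apply]

/-- A sign on each plane. -/
def sgn : (Fin n → ℤˣ) →* (Fin n → SL2) where
  toFun s i := ⟨((s i : ℤ) : F) • (1 : Matrix (Fin 2) (Fin 2) F), by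
    rw [det_smul, det_one, mul_one, Fintype.card_fin, sq, ← Int.cast_mul, Int.units_coe_mul_self, Int.cast_one]⟩
  map_one' := funext fun i => Subtype.ext (by simp)
  map_mul' s t := funext fun i => Subtype.ext (by
    show (((s * t) i : ℤ) : F) • (1 : Matrix (Fin 2) (Fin 2) F) =
      ((((s i : ℤ) : F) • (1 : Matrix (Fin 2) (Fin 2) F)) * (((t i : ℤ) : F) • (1 : Matrix (Fin 2) (Fin 2) F)))
    rw [smul_mul_smul_comm, one_mul, Pi.mul_apply, Units.val_mul, Int.cast_mul])

theorem sgn_central (s : Fin n → ℤˣ) (A : Fin n → SL2) : sgn (F := F) s * A = A * sgn s :=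
  funext fun i => Subtype.ext (by
    show (((s i : ℤ) : F) • (1 : Matrix (Fin 2) (Fin 2) F)) * (A i).1 = (A i).1 * (((s i : ℤ) : F) • (1 : Matrix (Fin 2) (Fin 2) F))
    rw [smul_one_mul, mul_smul_comm, mul_one])

theorem D_injective : Function.Injective (D (F := F) (n := n)) := by
  intro A B h
  have h' : Dm A = Dm B := congrArg Subtype.val h
  rw [Dm, Dm, fromBlocks_inj] at h'
  obtain ⟨h1, h2, h3, h4⟩ := h'
  funext i
  refine Subtype.ext (Matrix.ext fun a b => ?_)
  fin_cases a <;> fin_cases b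
  · exact congrFun (diagonal_injective h1) i
  · exact congrFun (diagonal_injective h2) i
  · exact congrFun (diagonal_injective h3) i
  · exact congrFun (diagonal_injective h4) i

/-- The signs on the planes. -/
def E : Subgroup (Matrix.symplecticGroup (Fin n) F) := ((D (F := F) (n := n)).comp sgn).range

theorem W_normalizes (σ : Equiv.Perm (Fin n)) :
    W (F := F) σ ∈ Subgroup.normalizer ((E : Subgroup (Matrix.symplecticGroup (Fin n) F)) : Set (Matrix.symplecticGroup (Fin n) F)) := by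
  have key : ∀ τ : Equiv.Perm (Fin n), ∀ g ∈ (E : Subgroup (Matrix.symplecticGroup (Fin n) F)),
      W τ * g * (W τ)⁻¹ ∈ (E : Subgroup (Matrix.symplecticGroup (Fin n) F)) := by
    rintro τ _ ⟨s, rfl⟩
    refine ⟨s ∘ ⇑τ⁻¹, ?_⟩
    show D (sgn (s ∘ ⇑τ⁻¹)) = W τ * D (sgn s) * (W τ)⁻¹
    rw [push, mul_inv_cancel_right]
    rfl
  rw [Subgroup.mem_normalizer_iff]
  refine fun g => ⟨key σ g, fun h => ?_⟩
  have := key σ⁻¹ _ h
  rwa [map_inv, inv_inv, show (W σ)⁻¹ * (W σ * g * (W σ)⁻¹) * W σ = g by group] at this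

theorem D_centralizes (A : Fin n → SL2) :
    D A ∈ Subgroup.normalizer ((E : Subgroup (Matrix.symplecticGroup (Fin n) F)) : Set (Matrix.symplecticGroup (Fin n) F)) := by
  refine Subgroup.centralizer_le_normalizer _ ?_
  rw [Subgroup.mem_centralizer_iff]
  rintro _ ⟨s, rfl⟩
  show D (sgn s) * D A = D A * D (sgn s)
  rw [← map_mul, ← map_mul, sgn_central]

theorem WD_injective (hne : ∀ x : F, x ≠ 0 → True) :
    Function.Injective fun p : Equiv.Perm (Fin n) × (Fin n → SL2) => W p.1 * D p.2 := by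
  rintro ⟨σ, A⟩ ⟨τ, B⟩ h
  have hσ : σ = τ := by
    by_contra hne'
    have hd : (W τ)⁻¹ * W σ = D (B * A⁻¹) := by
      rw [map_mul, map_inv]
      calc (W τ)⁻¹ * W σ = (W τ)⁻¹ * (W σ * D A) * (D A)⁻¹ := by group
        _ = _ := by rw [show W σ * D A = W τ * D B from h]; group
    rw [← map_inv, ← map_mul] at hd
    have hd' : Wm (τ⁻¹ * σ)⁻¹ = Dm (B * A⁻¹) := congrArg Subtype.val hd
    rw [Wm, Dm, fromBlocks_inj] at hd'
    obtain ⟨i, hi⟩ : ∃ i, (τ⁻¹ * σ)⁻¹ i ≠ i := by
      by_contra hc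
      push Not at hc
      exact hne' (inv_mul_eq_one.1 (inv_eq_one.1 (Equiv.ext hc))).symm
    have := congrFun (congrFun hd'.1 i) ((τ⁻¹ * σ)⁻¹ i)
    rw [Matrix.diagonal_apply_ne _ (Ne.symm hi)] at this
    simp [perm] at this
  subst hσ
  exact Prod.ext rfl (D_injective (mul_left_cancel (h : W σ * D A = W σ * D B)))

theorem odd_index (hF : Odd (Fintype.card F)) :
    ¬ 2 ∣ (Subgroup.normalizer ((E : Subgroup (Matrix.symplecticGroup (Fin n) F)) : Set (Matrix.symplecticGroup (Fin n) F))).index := by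
  classical
  set q := Fintype.card F with hq
  set N := Subgroup.normalizer ((E : Subgroup (Matrix.symplecticGroup (Fin n) F)) : Set (Matrix.symplecticGroup (Fin n) F))
  let H := (W (F := F) (n := n)).range ⊔ (D (F := F) (n := n)).range
  have hH : H ≤ N := sup_le (by rintro _ ⟨σ, rfl⟩; exact W_normalizes σ) (by rintro _ ⟨A, rfl⟩; exact D_centralizes A)
  have hWD : (W (F := F) (n := n)).range ≤ Subgroup.normalizer ((D (F := F) (n := n)).range : Set (Matrix.symplecticGroup (Fin n) F)) := by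
    have key : ∀ τ : Equiv.Perm (Fin n), ∀ g ∈ (D (F := F) (n := n)).range,
        W τ * g * (W τ)⁻¹ ∈ (D (F := F) (n := n)).range := by
      rintro τ _ ⟨A, rfl⟩
      exact ⟨A ∘ ⇑τ⁻¹, by rw [push, mul_inv_cancel_right]⟩
    rintro _ ⟨σ, rfl⟩
    rw [Subgroup.mem_normalizer_iff]
    refine fun g => ⟨key σ g, fun h => ?_⟩
    have := key σ⁻¹ _ h
    rwa [map_inv, inv_inv, show (W σ)⁻¹ * (W σ * g * (W σ)⁻¹) * W σ = g by group] at this
  let Φ : Equiv.Perm (Fin n) × (Fin n → SL2) → ↥H := fun p =>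
    ⟨W p.1 * D p.2, mul_mem (Subgroup.mem_sup_left ⟨_, rfl⟩) (Subgroup.mem_sup_right ⟨_, rfl⟩)⟩
  have hbij : Function.Bijective Φ := by
    refine ⟨fun a b h => WD_injective (fun _ _ => trivial) (congrArg Subtype.val h), fun g => ?_⟩
    have hg : (g : Matrix.symplecticGroup (Fin n) F) ∈
        ((W (F := F) (n := n)).range : Set (Matrix.symplecticGroup (Fin n) F)) * ((D (F := F) (n := n)).range : Set (Matrix.symplecticGroup (Fin n) F)) := by
      rw [← Subgroup.coe_mul_of_left_le_normalizer_right _ _ hWD]; exact g.2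
    obtain ⟨_, ⟨σ, rfl⟩, _, ⟨A, rfl⟩, e⟩ := hg
    exact ⟨(σ, A), Subtype.ext e⟩
  have hcardH : Nat.card H = n.factorial * (q * (q ^ 2 - 1)) ^ n := by
    rw [← Nat.card_congr (Equiv.ofBijective Φ hbij), Nat.card_prod, Nat.card_perm, Nat.card_fin, Nat.card_fun,
      Nat.card_fin, Cfsg.Agent.Classical.SL2.card_SL2]
  have hG : Nat.card (Matrix.symplecticGroup (Fin n) F) = q ^ (n ^ 2) * ∏ i ∈ Finset.range n, (q ^ (2 * (i + 1)) - 1) :=
    Cfsg.Agent.S0245.result rfl n
  have hq1 : 1 < q := Fintype.one_lt_card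
  have hqodd : ¬ 2 ∣ q := Nat.odd_iff.1 hF |> fun h h' => by omega
  have hv : ∀ i, padicValNat 2 (q ^ (2 * (i + 1)) - 1) = padicValNat 2 (q ^ 2 - 1) + padicValNat 2 (i + 1) := by
    intro i
    have h1 := padicValNat.pow_two_sub_one hq1 hqodd (n := 2 * (i + 1)) (by omega) (even_two_mul _)
    have h2 := padicValNat.pow_two_sub_one hq1 hqodd (n := 2) (by omega) even_two
    rw [padicValNat.mul (by omega) (by omega)] at h1
    have h3 : padicValNat 2 2 = 1 := padicValNat.self (by norm_num)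
    omega
  have hq0 : padicValNat 2 q = 0 := padicValNat.eq_zero_of_not_dvd hqodd
  have hne : ∀ i, q ^ (2 * (i + 1)) - 1 ≠ 0 := fun i => by
    have : 1 < q ^ (2 * (i + 1)) := Nat.one_lt_pow (by omega) hq1
    omega
  have hsum : ∀ k, padicValNat 2 (∏ i ∈ Finset.range k, (q ^ (2 * (i + 1)) - 1)) =
      k * padicValNat 2 (q ^ 2 - 1) + padicValNat 2 k.factorial := by
    intro k
    induction k with
    | zero => simp
    | succ k ih =>
      rw [Finset.prod_range_succ, padicValNat.mul (Finset.prod_ne_zero_iff.2 fun i _ => hne i) (hne k), ih, hv,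
        Nat.factorial_succ, padicValNat.mul (by omega) (Nat.factorial_ne_zero k)]
      ring
  have hq2 : q ^ 2 - 1 ≠ 0 := by have := hne 0; simpa using this
  have hvH : padicValNat 2 (Nat.card H) = padicValNat 2 (Nat.card (Matrix.symplecticGroup (Fin n) F)) := by
    rw [hcardH, hG, padicValNat.mul (Nat.factorial_ne_zero n) (pow_ne_zero _ (Nat.mul_ne_zero (by omega) hq2)),
      padicValNat.pow _, padicValNat.mul (by omega) hq2, hq0,
      padicValNat.mul (pow_ne_zero _ (by omega)) (Finset.prod_ne_zero_iff.2 fun i _ => hne i),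
      padicValNat.pow _, hq0, hsum]
    ring
  intro hdvd
  have h1 : 2 ∣ H.index := hdvd.trans (Subgroup.index_dvd_of_le hH)
  have h2 := H.card_mul_index
  have h3 := congrArg (padicValNat 2) h2
  rw [padicValNat.mul Nat.card_pos.ne' H.index_ne_zero_of_finite, hvH] at h3
  have h4 : 1 ≤ padicValNat 2 H.index := one_le_padicValNat_of_dvd H.index_ne_zero_of_finite h1
  omega


/-- The normal 2-rank of the symplectic group over a finite field of odd order: for n ≥ 1 and S a Sylow 2-subgroup of Sp_{2n}(F), the largest rank of an elementary abelian subgroup of S that is normal in S equals n. -/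
theorem result {F : Type*} [Field F] [Fintype F] (hF : Odd (Fintype.card F)) (n : ℕ) (hn : 1 ≤ n) (S : Sylow 2 ↥(Matrix.symplecticGroup (Fin n) F)) :
    ((∃ E : Subgroup ↥(S : Subgroup ↥(Matrix.symplecticGroup (Fin n) F)), E.Normal ∧ Cfsg.IsElementaryAbelian 2 E ∧ 2 ^ (n) ≤ Nat.card ↥E) ∧
      ∀ E : Subgroup ↥(S : Subgroup ↥(Matrix.symplecticGroup (Fin n) F)), E.Normal → Cfsg.IsElementaryAbelian 2 E → Nat.card ↥E ≤ 2 ^ (n)) := by
  classical
  have h2 : (2 : F) ≠ 0 := Ring.two_ne_zero (fun h => Nat.not_even_iff_odd.mpr hF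
    (Nat.even_iff.mpr (FiniteField.even_card_iff_char_two.mp h)))
  haveI : Fact (Nat.Prime 2) := ⟨Nat.prime_two⟩
  refine ⟨?_, fun E' _ hE => ?_⟩
  · set N := Subgroup.normalizer ((E : Subgroup (Matrix.symplecticGroup (Fin n) F)) : Set (Matrix.symplecticGroup (Fin n) F))
    obtain ⟨R⟩ : Nonempty (Sylow 2 N) := inferInstance
    have hR : IsPGroup 2 ↥((R : Subgroup N).map N.subtype) := R.2.map N.subtype
    obtain ⟨P, hP⟩ := hR.exists_le_sylow
    have hPR : (P : Subgroup (Matrix.symplecticGroup (Fin n) F)) = (R : Subgroup N).map N.subtype := by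
      refine (Subgroup.eq_of_le_of_card_ge hP ?_).symm
      rw [Subgroup.card_map_of_injective N.subtype_injective, P.card_eq_multiplicity, R.card_eq_multiplicity]
      refine Nat.pow_le_pow_right (by norm_num) ?_
      rw [← N.card_mul_index, Nat.factorization_mul Nat.card_pos.ne' N.index_ne_zero_of_finite, Finsupp.add_apply,
        Nat.factorization_eq_zero_of_not_dvd (odd_index hF), add_zero]
    have hPN : (P : Subgroup (Matrix.symplecticGroup (Fin n) F)) ≤ N := hPR ▸ Subgroup.map_subtype_le _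
    have hE2 : IsPGroup 2 ↥(E : Subgroup (Matrix.symplecticGroup (Fin n) F)) := by
      rintro ⟨g, s, rfl⟩
      refine ⟨1, Subtype.ext ?_⟩
      show (D (sgn s) : Matrix.symplecticGroup (Fin n) F) ^ 2 ^ 1 = 1
      rw [← map_pow, ← map_pow, pow_one, show s ^ 2 = 1 from funext fun i => Int.units_sq _, map_one, map_one]
    have hEP : (E : Subgroup (Matrix.symplecticGroup (Fin n) F)) ≤ P := by
      have h := P.is_maximal' (IsPGroup.to_sup_of_normal_right' P.2 hE2 hPN) le_sup_left
      rw [← h]; exact le_sup_right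
    obtain ⟨g, rfl⟩ := MulAction.exists_smul_eq (Matrix.symplecticGroup (Fin n) F) P S
    set c := (MulAut.conj g).toMonoidHom with hc
    have hS : ((g • P : Sylow 2 _) : Subgroup (Matrix.symplecticGroup (Fin n) F)) = (P : Subgroup _).map c := by
      rw [Sylow.coe_subgroup_smul]; rfl
    refine ⟨((E : Subgroup (Matrix.symplecticGroup (Fin n) F)).map c).subgroupOf _, ?_, ?_, ?_⟩
    · refine ⟨fun x hx y => ?_⟩
      obtain ⟨e, he, hex⟩ := Subgroup.mem_subgroupOf.1 hx
      obtain ⟨u, hu, huy⟩ := (hS ▸ y.2 : (y : Matrix.symplecticGroup (Fin n) F) ∈ (P : Subgroup _).map c)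
      refine Subgroup.mem_subgroupOf.2 ⟨u * e * u⁻¹, (Subgroup.mem_normalizer_iff.1 (hPN hu) e).1 he, ?_⟩
      simp [← hex, ← huy]
    · refine ⟨⟨⟨?_⟩⟩, ?_⟩
      · rintro ⟨⟨x, _⟩, hx⟩ ⟨⟨y, _⟩, hy⟩
        obtain ⟨_, ⟨s, rfl⟩, hxs⟩ := Subgroup.mem_subgroupOf.1 hx
        obtain ⟨_, ⟨t, rfl⟩, hyt⟩ := Subgroup.mem_subgroupOf.1 hy
        refine Subtype.ext (Subtype.ext ?_)
        show x * y = y * x
        change c (D (sgn s)) = x at hxs
        change c (D (sgn t)) = y at hyt
        rw [← hxs, ← hyt, ← map_mul, ← map_mul, ← map_mul, ← map_mul, ← map_mul, ← map_mul, mul_comm]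
      · intro x hx
        obtain ⟨_, ⟨s, rfl⟩, hxs⟩ := Subgroup.mem_subgroupOf.1 hx
        refine Subtype.ext ?_
        change c (D (sgn s)) = (x : Matrix.symplecticGroup (Fin n) F) at hxs
        rw [SubmonoidClass.coe_pow, ← hxs, ← map_pow, ← map_pow, ← map_pow,
          show s ^ 2 = 1 from funext fun i => Int.units_sq _, map_one, map_one, map_one]
        rfl
    · have hle : (E : Subgroup (Matrix.symplecticGroup (Fin n) F)).map c ≤ ((g • P : Sylow 2 _) : Subgroup _) :=
        hS ▸ Subgroup.map_mono hEP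
      rw [Nat.card_congr (Subgroup.subgroupOfEquivOfLe hle).toEquiv, Subgroup.card_map_of_injective (MulAut.conj g).injective]
      have hinj : Function.Injective ((D (F := F) (n := n)).comp sgn) := by
        intro s t h
        have h' := D_injective h
        funext i
        have h4 : ((s i : ℤ) : F) • (1 : Matrix (Fin 2) (Fin 2) F) = ((t i : ℤ) : F) • 1 :=
          congrArg Subtype.val (congrFun h' i)
        have h5 : ((s i : ℤ) : F) = ((t i : ℤ) : F) := by
          have h6 := congrFun (congrFun h4 0) 0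
          simpa using h6
        rcases Int.units_eq_one_or (s i) with hs | hs <;> rcases Int.units_eq_one_or (t i) with ht | ht <;>
          rw [hs, ht] at h5 ⊢ <;> push_cast at h5
        · exact absurd (by linear_combination h5 : (2 : F) = 0) h2
        · exact absurd (by linear_combination -h5 : (2 : F) = 0) h2
      rw [E, ← Nat.card_congr (MonoidHom.ofInjective hinj).toEquiv]
      simp [Nat.card_eq_fintype_card, Fintype.card_units_int]
  · set M := E'.map (S : Subgroup (Matrix.symplecticGroup (Fin n) F)).subtype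
    have hup := (Cfsg.Agent.S2234.result hF n hn).2 M ⟨⟨?_⟩⟩ ?_
    · rwa [Subgroup.card_map_of_injective (S : Subgroup (Matrix.symplecticGroup (Fin n) F)).subtype_injective] at hup
    · rintro ⟨_, x, hx, rfl⟩ ⟨_, y, hy, rfl⟩
      refine Subtype.ext ?_
      show (x : Matrix.symplecticGroup (Fin n) F) * y = y * x
      exact congrArg Subtype.val (congrArg Subtype.val (hE.1.is_comm.comm ⟨x, hx⟩ ⟨y, hy⟩))
    · rintro _ ⟨x, hx, rfl⟩
      rw [← map_pow, hE.2 x hx, map_one]

end Cfsg.Agent.S2250
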