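import Cfsg.Statements.S2253

set_option autoImplicit false
open Cfsg

open MulAction
open scoped Nat

namespace Cfsg.Agent.S2253

/-- The exponent of two in a factorial. -/
noncomputable def s (n : ℕ) : ℕ := (n)!.factorization 2

theorem s_rec (n : ℕ) : s n = n / 2 + s (n / 2) := by
  unfold s
  rcases Nat.even_or_odd n with ⟨m, rfl⟩ | ⟨m, rfl⟩
  · rw [show (m + m) / 2 = m by omega, show m + m = 2 * m by omega,
      Nat.factorization_factorial_mul Nat.prime_two, add_comm]
  · rw [show (2 * m + 1) / 2 = m by omega, Nat.factorial_succ,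
      Nat.factorization_mul (by omega) (Nat.factorial_ne_zero _), Finsupp.add_apply,
      Nat.factorization_eq_zero_of_not_dvd (show ¬ 2 ∣ 2 * m + 1 by omega),
      Nat.factorization_factorial_mul Nat.prime_two, zero_add, add_comm]

theorem s_zero : s 0 = 0 := by simp [s]

theorem s_superadd (a b : ℕ) : s a + s b ≤ s (a + b) := by
  unfold s
  rw [← Finsupp.add_apply, ← Nat.factorization_mul (Nat.factorial_ne_zero _) (Nat.factorial_ne_zero _)]
  exact (Nat.factorization_le_iff_dvd (mul_ne_zero (Nat.factorial_ne_zero _) (Nat.factorial_ne_zero _))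
    (Nat.factorial_ne_zero _)).2 (Nat.factorial_mul_factorial_dvd_factorial_add a b) 2

theorem s_mono {a b : ℕ} (h : a ≤ b) : s a ≤ s b := by
  obtain ⟨c, rfl⟩ := Nat.exists_eq_add_of_le h
  exact le_trans (Nat.le_add_right _ _) (s_superadd a c)

theorem s_succ_odd {c : ℕ} (hc : c % 2 = 1) : s c + 1 ≤ s (c + 1) := by
  rw [s_rec c, s_rec (c + 1)]
  have := s_mono (show c / 2 ≤ (c + 1) / 2 by omega)
  omega

theorem s_add_odd {a b : ℕ} (ha : a % 2 = 1) (hb : b % 2 = 1) : s a + s b + 1 ≤ s (a + b) := by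
  rw [s_rec a, s_rec b, s_rec (a + b), show (a + b) / 2 = a / 2 + b / 2 + 1 by omega]
  have := s_superadd (a / 2) (b / 2)
  have := s_mono (show a / 2 + b / 2 ≤ a / 2 + b / 2 + 1 by omega)
  omega

theorem s_add_odd_two {a b : ℕ} (ha : a % 4 = 3) (hb : b % 2 = 1) : s a + s b + 2 ≤ s (a + b) := by
  rw [s_rec a, s_rec b, s_rec (a + b), show (a + b) / 2 = a / 2 + 1 + b / 2 by omega]
  have := s_superadd (a / 2 + 1) (b / 2)
  have := s_succ_odd (show a / 2 % 2 = 1 by omega)
  omega

theorem s_add_two {a b : ℕ} (ha : a % 4 = 3) (hb : b % 4 = 2) : s a + s b + 1 ≤ s (a + b) := by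
  rw [s_rec a, s_rec b, s_rec (a + b), show (a + b) / 2 = a / 2 + b / 2 by omega]
  have := s_add_odd (show a / 2 % 2 = 1 by omega) (show b / 2 % 2 = 1 by omega)
  omega

/-- Twice the bound for the order of a nilpotent subgroup. -/
noncomputable def B (n : ℕ) : ℕ := 2 ^ s n * if n % 4 = 3 then 3 else 2

theorem B_ge (n : ℕ) : 2 ≤ B n := by
  unfold B
  have := Nat.one_le_two_pow (n := s n)
  split_ifs <;> nlinarith

theorem B_superadd (a b : ℕ) : B a * B b ≤ 2 * B (a + b) := by
  unfold B
  have h0 := Nat.pow_le_pow_right (show 1 ≤ 2 by norm_num) (s_superadd a b)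
  rw [pow_add] at h0
  by_cases ha : a % 4 = 3 <;> by_cases hb : b % 4 = 3
  · have h1 := Nat.pow_le_pow_right (show 1 ≤ 2 by norm_num) (s_add_odd_two ha (show b % 2 = 1 by omega))
    rw [pow_add, pow_add] at h1
    rw [if_pos ha, if_pos hb, if_neg (show ¬ (a + b) % 4 = 3 by omega)]
    nlinarith
  · rw [if_pos ha, if_neg hb]
    rcases (by omega : b % 4 = 0 ∨ b % 2 = 1 ∨ b % 4 = 2) with h | h | h
    · rw [if_pos (show (a + b) % 4 = 3 by omega)]
      nlinarith
    · have h1 := Nat.pow_le_pow_right (show 1 ≤ 2 by norm_num) (s_add_odd_two ha h)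
      rw [pow_add, pow_add] at h1
      split_ifs <;> nlinarith
    · have h1 := Nat.pow_le_pow_right (show 1 ≤ 2 by norm_num) (s_add_two ha h)
      rw [pow_add, pow_add] at h1
      rw [if_neg (show ¬ (a + b) % 4 = 3 by omega)]
      nlinarith
  · rw [if_pos hb, if_neg ha]
    rcases (by omega : a % 4 = 0 ∨ a % 2 = 1 ∨ a % 4 = 2) with h | h | h
    · rw [if_pos (show (a + b) % 4 = 3 by omega)]
      nlinarith
    · have h1 := Nat.pow_le_pow_right (show 1 ≤ 2 by norm_num) (s_add_odd_two hb h)
      rw [pow_add, pow_add, add_comm b a] at h1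
      split_ifs <;> nlinarith
    · have h1 := Nat.pow_le_pow_right (show 1 ≤ 2 by norm_num) (s_add_two hb h)
      rw [pow_add, pow_add, add_comm b a] at h1
      rw [if_neg (show ¬ (a + b) % 4 = 3 by omega)]
      nlinarith
  · rw [if_neg ha, if_neg hb]
    split_ifs <;> nlinarith [Nat.zero_le (2 ^ s a * 2 ^ s b)]

theorem B_mono {a b : ℕ} (h : a ≤ b) : B a ≤ B b := by
  obtain ⟨c, rfl⟩ := Nat.exists_eq_add_of_le h
  have := B_superadd a c
  have := B_ge c
  nlinarith

theorem two_pow_le (n : ℕ) : 2 ^ n ≤ 2 ^ s n * (n + 1) := by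
  induction n using Nat.strong_induction_on with
  | _ n ih =>
    rcases Nat.eq_zero_or_pos n with rfl | h
    · simp [s_zero]
    have h1 := ih (n / 2) (by omega)
    rw [s_rec n, pow_add]
    rcases Nat.even_or_odd n with ⟨m, rfl⟩ | ⟨m, rfl⟩
    · rw [show (m + m) / 2 = m by omega] at h1 ⊢
      rw [pow_add]
      calc 2 ^ m * 2 ^ m ≤ 2 ^ m * (2 ^ s m * (m + 1)) := Nat.mul_le_mul_left _ h1
        _ ≤ 2 ^ m * 2 ^ s m * (m + m + 1) := by
          rw [← mul_assoc]; exact Nat.mul_le_mul_left _ (by omega)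
    · rw [show (2 * m + 1) / 2 = m by omega] at h1 ⊢
      rw [pow_succ, two_mul m, pow_add]
      calc 2 ^ m * 2 ^ m * 2 ≤ 2 ^ m * (2 ^ s m * (m + 1)) * 2 :=
            Nat.mul_le_mul_right _ (Nat.mul_le_mul_left _ h1)
        _ = _ := by ring

theorem three_four : ∀ n : ℕ, 16 ≤ n → 3 ^ n * (n + 1) ^ 2 ≤ 3 * 4 ^ n := by
  intro n hn
  induction n, hn using Nat.le_induction with
  | base => norm_num
  | succ k hk ih =>
    have hk2 : 3 * (k + 1 + 1) ^ 2 ≤ 4 * (k + 1) ^ 2 := by nlinarith
    rw [pow_succ 3 k, pow_succ 4 k]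
    calc 3 ^ k * 3 * (k + 1 + 1) ^ 2 = 3 ^ k * (3 * (k + 1 + 1) ^ 2) := by ring
      _ ≤ 3 ^ k * (4 * (k + 1) ^ 2) := Nat.mul_le_mul_left _ hk2
      _ = 4 * (3 ^ k * (k + 1) ^ 2) := by ring
      _ ≤ 4 * (3 * 4 ^ k) := Nat.mul_le_mul_left _ ih
      _ = _ := by ring

theorem sq_le_three_pow {p : ℕ} (hp : 3 ≤ p) : p ^ 2 ≤ 3 ^ (p - 1) := by
  induction p, hp using Nat.le_induction with
  | base => norm_num
  | succ k hk ih =>
    rw [show k + 1 - 1 = (k - 1) + 1 by omega, pow_succ 3]
    nlinarith

/-- The product of the local factors. -/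
noncomputable def g (n : ℕ) : ℕ := n.factorization.prod fun p a => p ^ (p ^ a)!.factorization p

theorem g_prime_pow {p : ℕ} (hp : p.Prime) (a : ℕ) : g (p ^ a) = p ^ (p ^ a)!.factorization p := by
  rw [g, hp.factorization_pow, Finsupp.prod_single_index]
  simp

theorem g_le : ∀ n : ℕ, 1 ≤ n → 2 * g n ≤ B n := by
  intro n
  induction n using Nat.recOnPrimeCoprime with
  | zero => omega
  | prime_pow p a hp =>
    intro _
    rw [g_prime_pow hp]
    rcases hp.eq_two_or_odd with rfl | hodd
    · unfold B s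
      rw [mul_comm]
      exact Nat.mul_le_mul_left _ (by split_ifs <;> omega)
    have hp3 : 3 ≤ p := by have := hp.two_le; omega
    set n := p ^ a with hn
    set v := (n)!.factorization p with hv
    have hn1 : 1 ≤ n := Nat.one_le_pow _ _ hp.pos
    have hnodd : n % 2 = 1 := by
      rw [hn, Nat.pow_mod, hodd]; simp
    by_cases hbig : 16 ≤ n
    · have hpv : (p - 1) * v ≤ n - 1 := by
        rw [hv, Nat.sub_one_mul_factorization_factorial hp]
        rcases Nat.eq_zero_or_pos (p.digits n).sum with h | h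
        · exfalso
          have hne : p.digits n ≠ [] := Nat.digits_ne_nil_iff_ne_zero.2 (by omega)
          have h2 := Nat.getLast_digit_ne_zero p (m := n) (by omega)
          exact h2 (List.sum_eq_zero_iff.1 h _ (List.getLast_mem hne))
        · omega
      have h1 : (p ^ v) ^ 2 ≤ 3 ^ (n - 1) := by
        rw [← pow_mul, mul_comm, pow_mul]
        calc (p ^ 2) ^ v ≤ (3 ^ (p - 1)) ^ v := Nat.pow_le_pow_left (sq_le_three_pow hp3) _
          _ ≤ _ := by rw [← pow_mul]; exact Nat.pow_le_pow_right (by norm_num) hpv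
      have h2 := two_pow_le n
      have h3 := three_four n hbig
      have h4 : 3 ^ n = 3 * 3 ^ (n - 1) := by rw [← pow_succ', Nat.sub_add_cancel hn1]
      have h5 : 4 ^ n ≤ (2 ^ s n) ^ 2 * (n + 1) ^ 2 := by
        rw [show (4 : ℕ) = 2 ^ 2 by norm_num, ← pow_mul, mul_comm, pow_mul, ← mul_pow]
        exact Nat.pow_le_pow_left h2 2
      have h6 : (p ^ v) ^ 2 ≤ (2 ^ s n) ^ 2 := by
        refine Nat.le_of_mul_le_mul_right ?_ (show 0 < 3 * (n + 1) ^ 2 by positivity)
        calc (p ^ v) ^ 2 * (3 * (n + 1) ^ 2) ≤ 3 ^ (n - 1) * (3 * (n + 1) ^ 2) := Nat.mul_le_mul_right _ h1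
          _ = 3 ^ n * (n + 1) ^ 2 := by rw [h4]; ring
          _ ≤ 3 * 4 ^ n := h3
          _ ≤ 3 * ((2 ^ s n) ^ 2 * (n + 1) ^ 2) := Nat.mul_le_mul_left _ h5
          _ = _ := by ring
      unfold B
      rw [mul_comm 2]
      exact Nat.mul_le_mul ((Nat.pow_le_pow_iff_left (by norm_num)).1 h6) (by split_ifs <;> omega)
    · -- small cases
      have key : ∀ m : ℕ, (p ^ v) ∣ m ! → p ^ v ≤ (m)! := fun m h => Nat.le_of_dvd (Nat.factorial_pos _) h
      have hpv : (p - 1) * v ≤ n - 1 ∨ n = 1 := by
        by_cases h1 : n = 1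
        · exact Or.inr h1
        left
        rw [hv, Nat.sub_one_mul_factorization_factorial hp]
        rcases Nat.eq_zero_or_pos (p.digits n).sum with h | h
        · exfalso
          have hne : p.digits n ≠ [] := Nat.digits_ne_nil_iff_ne_zero.2 (by omega)
          have h2 := Nat.getLast_digit_ne_zero p (m := n) (by omega)
          exact h2 (List.sum_eq_zero_iff.1 h _ (List.getLast_mem hne))
        · omega
      rcases hpv with hpv | h1
      swap
      · rw [hv, h1]; norm_num [B, s_rec 1, s_zero]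
      have ha : a = 0 ∨ a = 1 ∨ (p = 3 ∧ a = 2) := by
        by_contra hc
        push Not at hc
        rcases eq_or_ne p 3 with rfl | hp3'
        · have : (3 : ℕ) ^ 3 ≤ 3 ^ a := Nat.pow_le_pow_right (by norm_num) (by
            have := hc.2.2 rfl; omega)
          omega
        · have : (4 : ℕ) ^ 2 ≤ p ^ a :=
            (Nat.pow_le_pow_left (show 4 ≤ p by omega) 2).trans (Nat.pow_le_pow_right hp.pos (by omega))
          omega
      have sv : s 1 = 0 ∧ s 3 = 1 ∧ s 5 = 3 ∧ s 6 = 4 ∧ s 7 = 4 ∧ s 9 = 7 ∧ s 11 = 8 ∧ s 13 = 10 := by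
        refine ⟨?_, ?_, ?_, ?_, ?_, ?_, ?_, ?_⟩ <;>
          norm_num [s_rec 1, s_rec 2, s_rec 3, s_rec 4, s_rec 5, s_rec 6, s_rec 7, s_rec 9, s_rec 11, s_rec 13, s_zero]
      obtain ⟨s1, s3, s5, s6, s7, s9, s11, s13⟩ := sv
      rcases ha with rfl | rfl | ⟨rfl, rfl⟩
      · rw [pow_zero] at hn
        rw [hv, hn]; norm_num [B, s_rec 1, s_zero]
      · rw [pow_one] at hn
        clear_value n
        subst n
        have hv1 : v ≤ 1 := by
          by_contra hc
          have : (p - 1) * 2 ≤ (p - 1) * v := Nat.mul_le_mul_left _ (by omega)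
          omega
        have : 2 * p ^ v ≤ 2 * p := Nat.mul_le_mul_left _ ((Nat.pow_le_pow_right hp.pos hv1).trans (le_of_eq (pow_one p)))
        refine this.trans ?_
        have hcases : p = 3 ∨ p = 5 ∨ p = 7 ∨ p = 11 ∨ p = 13 := by
          have : p ≠ 9 := fun e => by subst e; norm_num at hp
          have : p ≠ 15 := fun e => by subst e; norm_num at hp
          omega
        rcases hcases with rfl | rfl | rfl | rfl | rfl <;> simp [B, s3, s5, s7, s11, s13]
      · have : v ≤ 4 := by omega
        calc 2 * 3 ^ v ≤ 2 * 3 ^ 4 := Nat.mul_le_mul_left _ (Nat.pow_le_pow_right (by norm_num) this)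
          _ ≤ B n := by rw [hn]; norm_num [B, s9]
  | coprime a b ha hb hab iha ihb =>
    intro _
    have e : g (a * b) = g a * g b := by
      rw [g, g, g, Nat.factorization_mul_of_coprime hab,
        Finsupp.prod_add_index_of_disjoint]
      simpa [Nat.support_factorization] using hab.disjoint_primeFactors
    rw [e]
    have h1 := iha (by omega)
    have h2 := ihb (by omega)
    have h3 := B_superadd a b
    have h4 : B (a + b) ≤ B (a * b) := B_mono (Nat.add_le_mul ha hb)
    nlinarith

variable {H : Type} [Group H] [Finite H] [Group.IsNilpotent H] {X : Type} [Finite X] [MulAction H X]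

theorem card_dvd_g [FaithfulSMul H X] [IsPretransitive H X] [Nonempty X] :
    Nat.card H ∣ g (Nat.card X) := by
  classical
  set n := Nat.card X with hn
  have hn0 : n ≠ 0 := Nat.card_pos.ne'
  rw [Nat.dvd_iff_prime_pow_dvd_dvd]
  intro p k hp hk
  haveI := Fact.mk hp
  obtain ⟨x⟩ := ‹Nonempty X›
  let P : Sylow p H := default
  have hdec : ∀ h : H, ∃ c ∈ Subgroup.centralizer ((P : Subgroup H) : Set H), ∃ m ∈ (P : Subgroup H), c * m = h := by
    have htop : Subgroup.centralizer ((P : Subgroup H) : Set H) ⊔ (P : Subgroup H) = ⊤ := by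
      by_contra hne
      set K := Subgroup.centralizer ((P : Subgroup H) : Set H) ⊔ (P : Subgroup H) with hK
      obtain ⟨r, hr, hrd⟩ := Nat.exists_prime_and_dvd (n := K.index) (by rwa [ne_eq, Subgroup.index_eq_one])
      haveI := Fact.mk hr
      let R : Sylow r H := default
      have hle : (R : Subgroup H) ≤ K := by
        by_cases e : r = p
        · subst e
          intro y hy
          haveI := Sylow.unique_of_normal P inferInstance
          have : R = P := Subsingleton.elim _ _
          exact Subgroup.mem_sup_right (this ▸ hy)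
        · refine le_trans ?_ le_sup_left
          intro y hy
          refine Subgroup.mem_centralizer_iff.2 fun z hz => ?_
          exact Subgroup.commute_of_normal_of_disjoint _ _ inferInstance inferInstance
            (IsPGroup.disjoint_of_ne p r (Ne.symm e) _ _ P.isPGroup' R.isPGroup') z y hz hy
      exact R.not_dvd_index (hrd.trans (Subgroup.index_dvd_of_le hle))
    intro h
    have hh : h ∈ Subgroup.centralizer ((P : Subgroup H) : Set H) ⊔ (P : Subgroup H) := htop ▸ Subgroup.mem_top h
    obtain ⟨c, hc, m, hm, hcm⟩ := Subgroup.mem_sup_of_normal_right.1 hh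
    exact ⟨c, hc, m, hm, hcm⟩
  set O := MulAction.orbit (P : Subgroup H) x with hO
  have hOdvd : Nat.card O ∣ n := by
    rw [Nat.card_coe_set_eq]
    exact (MulAction.IsBlock.orbit_of_normal (G := H) x).ncard_dvd_card ⟨x, MulAction.mem_orbit_self x⟩
  have hOP : Nat.card O ∣ Nat.card (P : Subgroup H) := by
    rw [hO, ← MulAction.index_stabilizer_of_transitive (P : Subgroup H) (⟨x, MulAction.mem_orbit_self x⟩ : MulAction.orbit (P : Subgroup H) x)]
    exact Subgroup.index_dvd_card _
  obtain ⟨e, he⟩ := P.isPGroup'.exists_card_eq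
  rw [he, Nat.dvd_prime_pow hp] at hOP
  obtain ⟨j, -, hj⟩ := hOP
  rw [hj] at hOdvd
  have hjv : j ≤ n.factorization p := (hp.pow_dvd_iff_le_factorization hn0).1 hOdvd
  have hinj : Function.Injective (MulAction.toPermHom (P : Subgroup H) O) := by
    refine (injective_iff_map_eq_one _).2 fun h hh => Subtype.ext (FaithfulSMul.eq_of_smul_eq_smul (α := X) fun y => ?_)
    obtain ⟨z, rfl⟩ := MulAction.exists_smul_eq H x y
    obtain ⟨c, hc, m, hm, rfl⟩ := hdec z
    have h1 : (h : H) • (m • x) = m • x :=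
      congrArg Subtype.val (Equiv.Perm.congr_fun hh ⟨m • x, ⟨⟨m, hm⟩, rfl⟩⟩)
    rw [Subgroup.coe_one, one_smul, ← mul_smul, ← mul_assoc,
      Subgroup.mem_centralizer_iff.1 hc h h.2, mul_assoc, mul_smul, mul_smul, h1, mul_smul]
  have hPd := Subgroup.card_dvd_of_injective _ hinj
  rw [Nat.card_perm, hj, he] at hPd
  have hke : p ^ k ∣ p ^ e := by
    rw [← he, P.card_eq_multiplicity]
    exact pow_dvd_pow _ ((hp.pow_dvd_iff_le_factorization Nat.card_pos.ne').1 hk)
  refine hke.trans ?_
  have h2 : p ^ e ∣ p ^ ((p ^ n.factorization p)!).factorization p :=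
    pow_dvd_pow _ ((hp.pow_dvd_iff_le_factorization (Nat.factorial_ne_zero _)).1
      (hPd.trans (Nat.factorial_dvd_factorial (Nat.pow_le_pow_right hp.pos hjv))))
  refine h2.trans ?_
  rw [g, Finsupp.prod, Nat.support_factorization]
  by_cases hd : p ∈ n.primeFactors
  · exact Finset.dvd_prod_of_mem _ hd
  · have : n.factorization p = 0 := Finsupp.notMem_support_iff.1 (by rwa [Nat.support_factorization])
    simp [this]

theorem bound : ∀ k : ℕ, ∀ (H X : Type) [Group H] [Finite H] [Group.IsNilpotent H] [Finite X]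
    [MulAction H X] [FaithfulSMul H X], Nat.card X = k → 2 * Nat.card H ≤ B k := by
  intro k
  induction k using Nat.strong_induction_on with
  | _ k ih =>
    intro H X _ _ _ _ _ _ hk
    rcases isEmpty_or_nonempty X with hX | hX
    · have : Subsingleton H := ⟨fun a b => FaithfulSMul.eq_of_smul_eq_smul (α := X) fun x => (hX.false x).elim⟩
      rw [Nat.card_unique]
      exact B_ge k
    by_cases ht : IsPretransitive H X
    · have h := Nat.le_of_dvd (by
        unfold g; exact Finset.prod_pos fun p hp => pow_pos (Nat.pos_of_mem_primeFactors (by simpa [Nat.support_factorization] using hp)) _) (card_dvd_g (H := H) (X := X))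
      have h1 : 1 ≤ Nat.card X := Nat.card_pos
      have := g_le (Nat.card X) h1
      rw [hk] at h this
      omega
    obtain ⟨x, y, hxy⟩ : ∃ x y : X, y ∉ MulAction.orbit H x := by
      by_contra hc
      push Not at hc
      exact ht ⟨fun a b => hc a b⟩
    let O : Set X := MulAction.orbit H x
    have hstab : ∀ (h : H) (z : X), h • z ∈ O ↔ z ∈ O := fun h z => by
      rw [← MulAction.orbit_eq_iff, ← MulAction.orbit_eq_iff, MulAction.orbit_smul]
    let e1 : H →* Equiv.Perm O :=
      { toFun := fun h => (MulAction.toPerm h).subtypePerm fun z => hstab h z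
        map_one' := by ext z; simp
        map_mul' := fun a b => Equiv.ext fun z => Subtype.ext (mul_smul a b (z : X)) }
    let e2 : H →* Equiv.Perm (Oᶜ : Set X) :=
      { toFun := fun h => (MulAction.toPerm h).subtypePerm fun z => not_congr (hstab h z)
        map_one' := by ext z; simp
        map_mul' := fun a b => Equiv.ext fun z => Subtype.ext (mul_smul a b (z : X)) }
    have hinj : Function.Injective (fun h => ((⟨e1 h, ⟨h, rfl⟩⟩ : e1.range), (⟨e2 h, ⟨h, rfl⟩⟩ : e2.range))) := by
      intro a b hab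
      obtain ⟨h1, h2⟩ := Prod.ext_iff.1 hab
      refine FaithfulSMul.eq_of_smul_eq_smul (α := X) fun z => ?_
      by_cases hz : z ∈ O
      · exact congrArg Subtype.val (Equiv.Perm.congr_fun (congrArg Subtype.val h1) ⟨z, hz⟩)
      · exact congrArg Subtype.val (Equiv.Perm.congr_fun (congrArg Subtype.val h2) ⟨z, hz⟩)
    have hc := Nat.card_le_card_of_injective _ hinj
    rw [Nat.card_prod] at hc
    haveI : Group.IsNilpotent e1.range := Group.nilpotent_of_surjective e1.rangeRestrict e1.rangeRestrict_surjective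
    haveI : Group.IsNilpotent e2.range := Group.nilpotent_of_surjective e2.rangeRestrict e2.rangeRestrict_surjective
    have hsum : Nat.card O + Nat.card (Oᶜ : Set X) = k := by
      rw [Nat.card_coe_set_eq, Nat.card_coe_set_eq, Set.ncard_add_ncard_compl, hk]
    have hpos1 : 0 < Nat.card O := @Nat.card_pos _ ⟨⟨x, MulAction.mem_orbit_self x⟩⟩ _
    have hpos2 : 0 < Nat.card (Oᶜ : Set X) := @Nat.card_pos _ ⟨⟨y, hxy⟩⟩ _
    have b1 := ih (Nat.card O) (by omega) e1.range O rfl
    have b2 := ih (Nat.card (Oᶜ : Set X)) (by omega) e2.range (Oᶜ : Set X) rfl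
    have b3 := B_superadd (Nat.card O) (Nat.card (Oᶜ : Set X))
    rw [hsum] at b3
    have b4 := Nat.mul_le_mul b1 b2
    nlinarith

/-- Let n be a natural number not congruent to 3 modulo 4. Then every nilpotent subgroup of the symmetric group on n letters has order at most the order of a Sylow 2-subgroup (so the nilpotent subgroups of largest order are exactly the Sylow 2-subgroups). -/
theorem result  (n : ℕ) (hn : n % 4 ≠ 3)
    (N : Subgroup (Equiv.Perm (Fin n))) (hN : Group.IsNilpotent N)
    (P : Sylow 2 (Equiv.Perm (Fin n))) :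
    Nat.card N ≤ Nat.card P := by
  haveI := hN
  have h := bound n N (Fin n) (Nat.card_fin n)
  rw [P.card_eq_multiplicity, Nat.card_perm, Nat.card_fin]
  unfold B s at h
  rw [if_neg hn] at h
  omega

end Cfsg.Agent.S2253
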