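import Cfsg.Statements.S2255
import Cfsg.Agent.S2253

set_option autoImplicit false
open Cfsg

namespace Cfsg.Agent.S2255

open Cfsg.Agent.S2253 MulAction

/-- Four times the bound for a nilpotent group of even permutations. -/
noncomputable def E (n : ℕ) : ℕ :=
  if n = 1 then 4 else if n = 3 then 12 else if n = 5 then 20 else if n = 6 then 36 else if n = 9 then 324 else B n

theorem B_small : B 1 = 2 ∧ B 2 = 4 ∧ B 3 = 6 ∧ B 4 = 16 ∧ B 5 = 16 ∧ B 6 = 32 ∧ B 7 = 48 ∧ B 8 = 256 ∧ B 9 = 256 ∧
    B 10 = 512 ∧ B 11 = 768 ∧ B 12 = 2048 ∧ B 13 = 2048 ∧ B 14 = 4096 ∧ B 15 = 6144 ∧ B 18 = 131072 := by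
  refine ⟨?_, ?_, ?_, ?_, ?_, ?_, ?_, ?_, ?_, ?_, ?_, ?_, ?_, ?_, ?_, ?_⟩ <;>
    norm_num [B, s_rec 1, s_rec 2, s_rec 3, s_rec 4, s_rec 5, s_rec 6, s_rec 7, s_rec 8, s_rec 9, s_rec 10, s_rec 11,
      s_rec 12, s_rec 13, s_rec 14, s_rec 15, s_rec 18, s_zero]

theorem B_le_E (n : ℕ) : B n ≤ E n := by
  obtain ⟨h1, -, h3, -, h5, h6, -, -, h9, -⟩ := B_small
  unfold E
  split_ifs with a b c d e <;> subst_vars <;> omega

theorem E_le (n : ℕ) : E n ≤ 2 * B n := by
  obtain ⟨h1, -, h3, -, h5, h6, -, -, h9, -⟩ := B_small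
  unfold E
  split_ifs with a b c d e <;> subst_vars <;> omega

theorem E_good {n : ℕ} (h1 : n ≠ 1) (h3 : n ≠ 3) (h5 : n ≠ 5) (h6 : n ≠ 6) (h9 : n ≠ 9) : E n = B n := by
  rw [E, if_neg h1, if_neg h3, if_neg h5, if_neg h6, if_neg h9]

theorem E_superadd (a b : ℕ) : E a * E b ≤ 4 * E (a + b) := by
  have h1 := B_le_E (a + b)
  have h2 := B_superadd a b
  have h3 := E_le a
  have h4 := E_le b
  by_cases ha : a = 1 ∨ a = 3 ∨ a = 5 ∨ a = 6 ∨ a = 9
  · by_cases hb : b = 1 ∨ b = 3 ∨ b = 5 ∨ b = 6 ∨ b = 9
    · obtain ⟨e1, e2, e3, e4, e5, e6, e7, e8, e9, e10, e11, e12, e13, e14, e15, e18⟩ := B_small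
      rcases ha with rfl | rfl | rfl | rfl | rfl <;> rcases hb with rfl | rfl | rfl | rfl | rfl <;> simp [E] <;> omega
    · push Not at hb
      rw [E_good hb.1 hb.2.1 hb.2.2.1 hb.2.2.2.1 hb.2.2.2.2]
      nlinarith
  · push Not at ha
    rw [E_good ha.1 ha.2.1 ha.2.2.1 ha.2.2.2.1 ha.2.2.2.2]
    nlinarith

theorem four_four : ∀ n : ℕ, 24 ≤ n → 4 * (3 ^ n * (n + 1) ^ 2) ≤ 3 * 4 ^ n := by
  intro n hn
  induction n, hn using Nat.le_induction with
  | base => norm_num
  | succ k hk ih =>
    have hk2 : 3 * (k + 1 + 1) ^ 2 ≤ 4 * (k + 1) ^ 2 := by nlinarith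
    rw [pow_succ 3 k, pow_succ 4 k]
    calc 4 * (3 ^ k * 3 * (k + 1 + 1) ^ 2) = 4 * 3 ^ k * (3 * (k + 1 + 1) ^ 2) := by ring
      _ ≤ 4 * 3 ^ k * (4 * (k + 1) ^ 2) := Nat.mul_le_mul_left _ hk2
      _ = 4 * (4 * (3 ^ k * (k + 1) ^ 2)) := by ring
      _ ≤ 4 * (3 * 4 ^ k) := Nat.mul_le_mul_left _ ih
      _ = _ := by ring

theorem g_four : ∀ n : ℕ, 2 ≤ n → (∀ a : ℕ, n ≠ 2 ^ a) → 4 * g n ≤ E n := by
  intro n
  induction n using Nat.recOnPrimeCoprime with
  | zero => omega
  | prime_pow p a hp =>
    intro h2 hne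
    have hp2 : p ≠ 2 := fun e => hne a (by rw [e])
    have hp3 : 3 ≤ p := by have := hp.two_le; omega
    have hodd : p % 2 = 1 := hp.eq_two_or_odd.resolve_left hp2
    rw [g_prime_pow hp]
    set n := p ^ a with hn
    set v := (n.factorial).factorization p with hv
    have hpv : (p - 1) * v ≤ n - 1 := by
      rw [hv, Nat.sub_one_mul_factorization_factorial hp]
      rcases Nat.eq_zero_or_pos (p.digits n).sum with h | h
      · exfalso
        have hne : p.digits n ≠ [] := Nat.digits_ne_nil_iff_ne_zero.2 (by omega)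
        have h' := Nat.getLast_digit_ne_zero p (m := n) (by omega)
        exact h' (List.sum_eq_zero_iff.1 h _ (List.getLast_mem hne))
      · omega
    obtain ⟨e1, e2, e3, e4, e5, e6, e7, e8, e9, e10, e11, e12, e13, e14, e15, e18⟩ := B_small
    by_cases hbig : 24 ≤ n
    · refine le_trans ?_ (B_le_E n)
      have hn1 : 1 ≤ n := by omega
      have h1 : (p ^ v) ^ 2 ≤ 3 ^ (n - 1) := by
        rw [← pow_mul, mul_comm, pow_mul]
        calc (p ^ 2) ^ v ≤ (3 ^ (p - 1)) ^ v := Nat.pow_le_pow_left (sq_le_three_pow hp3) _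
          _ ≤ _ := by rw [← pow_mul]; exact Nat.pow_le_pow_right (by norm_num) hpv
      have h4 : 3 ^ n = 3 * 3 ^ (n - 1) := by rw [← pow_succ', Nat.sub_add_cancel hn1]
      have h5 : 4 ^ n ≤ (2 ^ S2253.s n) ^ 2 * (n + 1) ^ 2 := by
        rw [show (4 : ℕ) = 2 ^ 2 by norm_num, ← pow_mul, mul_comm, pow_mul, ← mul_pow]
        exact Nat.pow_le_pow_left (two_pow_le n) 2
      have h6 : (2 * p ^ v) ^ 2 ≤ (2 ^ S2253.s n) ^ 2 := by
        refine Nat.le_of_mul_le_mul_right ?_ (show 0 < 3 * (n + 1) ^ 2 by positivity)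
        calc (2 * p ^ v) ^ 2 * (3 * (n + 1) ^ 2) = 4 * ((p ^ v) ^ 2 * (3 * (n + 1) ^ 2)) := by ring
          _ ≤ 4 * (3 ^ (n - 1) * (3 * (n + 1) ^ 2)) := Nat.mul_le_mul_left _ (Nat.mul_le_mul_right _ h1)
          _ = 4 * (3 ^ n * (n + 1) ^ 2) := by rw [h4]; ring
          _ ≤ 3 * 4 ^ n := four_four n hbig
          _ ≤ 3 * ((2 ^ S2253.s n) ^ 2 * (n + 1) ^ 2) := Nat.mul_le_mul_left _ h5
          _ = _ := by ring
      have h7 := (Nat.pow_le_pow_iff_left (by norm_num)).1 h6
      unfold B
      split_ifs <;> omega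
    · have ha : a = 1 ∨ (p = 3 ∧ a = 2) := by
        by_contra hc
        push Not at hc
        rcases Nat.eq_zero_or_pos a with rfl | hapos
        · simp [hn] at h2
        rcases eq_or_ne p 3 with rfl | hp3'
        · have : (3 : ℕ) ^ 3 ≤ 3 ^ a := Nat.pow_le_pow_right (by norm_num) (by
            have := hc.2 rfl; omega)
          omega
        · have : (5 : ℕ) ^ 2 ≤ p ^ a :=
            (Nat.pow_le_pow_left (show 5 ≤ p by omega) 2).trans (Nat.pow_le_pow_right hp.pos (by omega))
          omega
      rcases ha with rfl | ⟨rfl, rfl⟩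
      · rw [pow_one] at hn
        clear_value n
        subst n
        have hv1 : v ≤ 1 := by
          by_contra hc
          have : (p - 1) * 2 ≤ (p - 1) * v := Nat.mul_le_mul_left _ (by omega)
          omega
        refine (Nat.mul_le_mul_left 4 ((Nat.pow_le_pow_right hp.pos hv1).trans (le_of_eq (pow_one p)))).trans ?_
        have hlt : p < 24 := by omega
        interval_cases p <;> first | omega | (norm_num at hp; done) | (simp [E]; done) | (simp [E]; omega) | skip
        all_goals
          refine le_trans ?_ (B_le_E _)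
          have := B_mono (show 15 ≤ 17 by norm_num)
          have := B_mono (show 15 ≤ 19 by norm_num)
          have := B_mono (show 15 ≤ 23 by norm_num)
          omega
      · have hv4 : v ≤ 4 := by omega
        calc 4 * 3 ^ v ≤ 4 * 3 ^ 4 := Nat.mul_le_mul_left _ (Nat.pow_le_pow_right (by norm_num) hv4)
          _ ≤ E n := by rw [hn]; norm_num [E]
  | coprime a b ha hb hab iha ihb =>
    intro _ _
    have e : g (a * b) = g a * g b := by
      rw [g, g, g, Nat.factorization_mul_of_coprime hab, Finsupp.prod_add_index_of_disjoint]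
      simpa [Nat.support_factorization] using hab.disjoint_primeFactors
    rw [e]
    have h1 := g_le a (by omega)
    have h2 := g_le b (by omega)
    have h3 := B_superadd a b
    by_cases h23 : a + b + 2 ≤ a * b
    · have h4 := B_superadd (a + b) 2
      rw [B_small.2.1] at h4
      have h5 := (B_mono h23).trans (B_le_E (a * b))
      nlinarith
    · have hab' : (a = 2 ∧ b = 3) ∨ (a = 3 ∧ b = 2) := by
        have ha' : a ≤ 3 := by
          by_contra h
          have : 4 * b ≤ a * b := Nat.mul_le_mul_right _ (by omega)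
          have : a * 2 ≤ a * b := Nat.mul_le_mul_left _ (by omega)
          omega
        interval_cases a
        · have : b ≤ 3 := by omega
          interval_cases b
          · norm_num at hab
          · exact Or.inl ⟨rfl, rfl⟩
        · have : b ≤ 2 := by omega
          interval_cases b
          exact Or.inr ⟨rfl, rfl⟩
      obtain ⟨-, e2, e3, -⟩ := B_small
      rcases hab' with ⟨rfl, rfl⟩ | ⟨rfl, rfl⟩ <;> rw [show E (_ * _) = 36 from rfl] <;> nlinarith

theorem bound : ∀ k : ℕ, ∀ (H X : Type) [Group H] [Finite H] [Group.IsNilpotent H] [Fintype X] [DecidableEq X]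
    [MulAction H X] [FaithfulSMul H X], Nat.card X = k → 1 ≤ k →
    (∀ h : H, Equiv.Perm.sign (MulAction.toPerm h : Equiv.Perm X) = 1) → 4 * Nat.card H ≤ E k := by
  intro k
  induction k using Nat.strong_induction_on with
  | _ k ih =>
    intro H X _ _ _ _ _ _ _ hk hk1 hsign
    classical
    haveI : Nonempty X := (Nat.card_pos_iff.1 (by omega)).1
    by_cases ht : IsPretransitive H X
    · have hgpos : 0 < g k := by
        unfold g; exact Finset.prod_pos fun p hp => pow_pos (Nat.pos_of_mem_primeFactors (by simpa [Nat.support_factorization] using hp)) _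
      have hd := card_dvd_g (H := H) (X := X)
      rw [hk] at hd
      rcases eq_or_lt_of_le hk1 with rfl | hk2
      · have : g 1 = 1 := by simp [g]
        rw [this, Nat.dvd_one] at hd
        rw [hd]; simp [E]
      by_cases h2 : ∃ a, k = 2 ^ a
      · obtain ⟨a, rfl⟩ := h2
        rw [g_prime_pow Nat.prime_two, Nat.dvd_prime_pow Nat.prime_two] at hd
        obtain ⟨e, -, he⟩ := hd
        let φ : H →* alternatingGroup X := (MulAction.toPermHom H X).codRestrict (alternatingGroup X) fun h =>
          Equiv.Perm.mem_alternatingGroup.2 (hsign h)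
        have hφ : Function.Injective φ := fun x y hxy =>
          MulAction.toPerm_injective (congrArg Subtype.val hxy)
        have h1 := Subgroup.card_dvd_of_injective φ hφ
        haveI : Nontrivial X := Finite.one_lt_card_iff_nontrivial.1 (by rw [hk]; exact hk2)
        have h3 := mul_dvd_mul_left 2 h1
        rw [two_mul_nat_card_alternatingGroup, Nat.card_perm, hk, he, ← pow_succ'] at h3
        have h4 : e + 1 ≤ S2253.s (2 ^ a) :=
          (Nat.prime_two.pow_dvd_iff_le_factorization (Nat.factorial_ne_zero _)).1 h3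
        refine le_trans ?_ (B_le_E _)
        unfold B
        have := Nat.pow_le_pow_right (show 1 ≤ 2 by norm_num) h4
        rw [pow_succ] at this
        rw [he]
        split_ifs <;> omega
      · push Not at h2
        exact (Nat.mul_le_mul_left 4 (Nat.le_of_dvd hgpos hd)).trans (g_four k hk2 h2)
    obtain ⟨x, y, hxy⟩ : ∃ x y : X, y ∉ MulAction.orbit H x := by
      by_contra hc
      push Not at hc
      exact ht ⟨fun a b => hc a b⟩
    let O : Set X := MulAction.orbit H x
    have hstab : ∀ (h : H) (z : X), h • z ∈ O ↔ z ∈ O := fun h z => by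
      rw [← MulAction.orbit_eq_iff, ← MulAction.orbit_eq_iff, MulAction.orbit_smul]
    let e1 : H →* Equiv.Perm O :=
      { toFun := fun h => (MulAction.toPerm h).subtypePerm fun z => hstab h z
        map_one' := by ext z; simp
        map_mul' := fun a b => Equiv.ext fun z => Subtype.ext (mul_smul a b (z : X)) }
    let e2 : H →* Equiv.Perm (Oᶜ : Set X) :=
      { toFun := fun h => (MulAction.toPerm h).subtypePerm fun z => not_congr (hstab h z)
        map_one' := by ext z; simp
        map_mul' := fun a b => Equiv.ext fun z => Subtype.ext (mul_smul a b (z : X)) }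
    have hsplit : ∀ h : H, Equiv.Perm.sign (e1 h) * Equiv.Perm.sign (e2 h) = 1 := fun h => by
      rw [← hsign h, ← Equiv.Perm.sign_subtypeCongr]
      congr 1
      ext z
      by_cases hz : z ∈ O
      · exact (Equiv.Perm.subtypeCongr.left_apply _ _ hz).trans rfl
      · exact (Equiv.Perm.subtypeCongr.right_apply _ _ hz).trans rfl
    let f : H →* e1.range × e2.range := e1.rangeRestrict.prod e2.rangeRestrict
    have hinj : Function.Injective f := by
      intro a b hab
      obtain ⟨h1, h2⟩ := Prod.ext_iff.1 hab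
      refine FaithfulSMul.eq_of_smul_eq_smul (α := X) fun z => ?_
      by_cases hz : z ∈ O
      · exact congrArg Subtype.val (Equiv.Perm.congr_fun (congrArg Subtype.val h1) ⟨z, hz⟩)
      · exact congrArg Subtype.val (Equiv.Perm.congr_fun (congrArg Subtype.val h2) ⟨z, hz⟩)
    haveI : Group.IsNilpotent e1.range := Group.nilpotent_of_surjective e1.rangeRestrict e1.rangeRestrict_surjective
    haveI : Group.IsNilpotent e2.range := Group.nilpotent_of_surjective e2.rangeRestrict e2.rangeRestrict_surjective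
    have hsum : Nat.card O + Nat.card (Oᶜ : Set X) = k := by
      rw [Nat.card_coe_set_eq, Nat.card_coe_set_eq, Set.ncard_add_ncard_compl, hk]
    have hpos1 : 0 < Nat.card O := @Nat.card_pos _ ⟨⟨x, MulAction.mem_orbit_self x⟩⟩ _
    have hpos2 : 0 < Nat.card (Oᶜ : Set X) := @Nat.card_pos _ ⟨⟨y, hxy⟩⟩ _
    have hH : Nat.card H = Nat.card f.range := Nat.card_congr (MonoidHom.ofInjective hinj).toEquiv
    by_cases hev : ∀ σ ∈ e1.range, Equiv.Perm.sign σ = 1
    · have b1 := ih (Nat.card O) (by omega) e1.range O rfl hpos1 fun σ => hev σ.1 σ.2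
      have b2 := ih (Nat.card (Oᶜ : Set X)) (by omega) e2.range (Oᶜ : Set X) rfl hpos2 (by
        rintro ⟨_, h, rfl⟩
        have := hsplit h
        rwa [hev _ ⟨h, rfl⟩, one_mul] at this)
      have b3 := E_superadd (Nat.card O) (Nat.card (Oᶜ : Set X))
      rw [hsum] at b3
      have hc := Nat.card_le_card_of_injective _ hinj
      rw [Nat.card_prod] at hc
      have b4 := Nat.mul_le_mul b1 b2
      nlinarith
    · push Not at hev
      obtain ⟨σ, hσ, hodd⟩ := hev
      have hne : f.range ≠ ⊤ := fun h => by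
        obtain ⟨z, hz⟩ := h.ge (Subgroup.mem_top ((⟨σ, hσ⟩ : e1.range), (1 : e2.range)))
        have h1 : e1 z = σ := congrArg (fun p => Subtype.val p.1) hz
        have h2 : e2 z = 1 := congrArg (fun p => Subtype.val p.2) hz
        have := hsplit z
        rw [h1, h2, map_one, mul_one] at this
        exact hodd this
      have hhalf : 2 * Nat.card f.range ≤ Nat.card e1.range * Nat.card e2.range := by
        rw [← Nat.card_prod, ← f.range.card_mul_index, mul_comm 2]
        exact Nat.mul_le_mul_left _ (by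
          have := f.range.index_ne_zero_of_finite
          have : f.range.index ≠ 1 := fun e => hne (Subgroup.index_eq_one.1 e)
          omega)
      have b1 := S2253.bound (Nat.card O) e1.range O rfl
      have b2 := S2253.bound (Nat.card (Oᶜ : Set X)) e2.range (Oᶜ : Set X) rfl
      have b3 := B_superadd (Nat.card O) (Nat.card (Oᶜ : Set X))
      rw [hsum] at b3
      have b4 := Nat.mul_le_mul b1 b2
      have b5 := B_le_E k
      rw [hH]
      nlinarith

/-- Let n be a natural number not congruent to 3 modulo 4, with n ∉ {5, 6, 9}. Then every nilpotent subgroup of the alternating group on n letters has order at most the order of a Sylow 2-subgroup of the alternating group (so the nilpotent subgroups of largest order are exactly the Sylow 2-subgroups). -/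
theorem result  (n : ℕ) (hn : n % 4 ≠ 3)
    (h5 : n ≠ 5) (h6 : n ≠ 6) (h9 : n ≠ 9)
    (N : Subgroup (alternatingGroup (Fin n))) (hN : Group.IsNilpotent N)
    (P : Sylow 2 (alternatingGroup (Fin n))) :
    Nat.card N ≤ Nat.card P := by
  classical
  rcases Nat.lt_or_ge n 2 with hlt | hge
  · have h1 : Nat.card (alternatingGroup (Fin n)) = 1 := by
      interval_cases n <;> exact Nat.card_eq_one_iff_unique.2 ⟨inferInstance, inferInstance⟩
    have : Nat.card N ≤ 1 := h1 ▸ N.card_le_card_group
    exact this.trans Nat.card_pos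
  haveI := hN
  haveI : Nontrivial (Fin n) := Fin.nontrivial_iff_two_le.mpr hge
  have hf : FaithfulSMul N (Fin n) := ⟨fun {a b} h => Subtype.ext (Subtype.ext (Equiv.ext h))⟩
  have h := bound n N (Fin n) (Nat.card_fin n) (by omega) fun σ => by
    have e : (MulAction.toPerm σ : Equiv.Perm (Fin n)) = ((σ : alternatingGroup (Fin n)) : Equiv.Perm (Fin n)) :=
      Equiv.ext fun z => rfl
    rw [e]; exact Equiv.Perm.mem_alternatingGroup.1 (σ : alternatingGroup (Fin n)).2
  rw [E_good (by omega) (by omega) h5 h6 h9] at h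
  have hA : 2 * Nat.card (alternatingGroup (Fin n)) = n.factorial := by
    rw [two_mul_nat_card_alternatingGroup, Nat.card_perm, Nat.card_fin]
  have hv : 1 + (Nat.card (alternatingGroup (Fin n))).factorization 2 = S2253.s n := by
    have e := congrArg (fun m => m.factorization 2) hA
    simp only [Nat.factorization_mul (two_ne_zero) Nat.card_pos.ne', Finsupp.add_apply,
      Nat.prime_two.factorization_self] at e
    exact e
  rw [P.card_eq_multiplicity]
  unfold Cfsg.Agent.S2253.B at h
  rw [if_neg hn, ← hv, pow_add, pow_one] at h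
  omega

end Cfsg.Agent.S2255
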