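import Cfsg.Statements.S2257
import Cfsg.Agent.Lib.Classical.PSLTwoSolThree

set_option autoImplicit false
open Cfsg

open Cfsg.Agent.Classical
open Cfsg.Agent.Classical.SL2Two (proj)

namespace Cfsg.Agent.S2257

/-- Let G = PSL_2(F) with F a field of order q = 2^p, p prime, and for x ∈ G call the solubilizer of x the set of y ∈ G such that x and y generate a solvable subgroup. Then the solubilizer of an involution has 3q(q − 1) elements; that of a non-identity element of order dividing q − 1 has 2q(q − 1) elements; and that of a non-identity element of order dividing q + 1 has 2(q + 1) elements. -/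
theorem result (p : ℕ) (hp : p.Prime) {F : Type*} [Field F] [Fintype F]
    (hF : Fintype.card F = 2 ^ p) (x : Matrix.ProjectiveSpecialLinearGroup (Fin 2) F) :
    (orderOf x = 2 → Nat.card {y : Matrix.ProjectiveSpecialLinearGroup (Fin 2) F // Group.IsSolvable ↥(Subgroup.closure ({x, y} : Set (Matrix.ProjectiveSpecialLinearGroup (Fin 2) F)))} = 3 * 2 ^ p * (2 ^ p - 1)) ∧
    (x ≠ 1 → orderOf x ∣ 2 ^ p - 1 → Nat.card {y : Matrix.ProjectiveSpecialLinearGroup (Fin 2) F // Group.IsSolvable ↥(Subgroup.closure ({x, y} : Set (Matrix.ProjectiveSpecialLinearGroup (Fin 2) F)))} = 2 * 2 ^ p * (2 ^ p - 1)) ∧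
    (x ≠ 1 → orderOf x ∣ 2 ^ p + 1 → Nat.card {y : Matrix.ProjectiveSpecialLinearGroup (Fin 2) F // Group.IsSolvable ↥(Subgroup.closure ({x, y} : Set (Matrix.ProjectiveSpecialLinearGroup (Fin 2) F)))} = 2 * (2 ^ p + 1)) := by
  haveI : Fact (Nat.Prime 2) := ⟨Nat.prime_two⟩
  haveI : CharP F 2 := charP_of_card_eq_prime_pow hF
  rw [← hF]
  obtain ⟨X, rfl⟩ := SL2Two.proj_surjective x
  have h2 : (2 : F) = 0 := by exact_mod_cast CharP.cast_eq_zero F 2
  have hev : Fintype.card F % 2 = 0 := by
    rw [hF, Nat.pow_mod]; simp [zero_pow hp.ne_zero]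
  have hg : Nat.gcd 2 (Fintype.card F - 1) = 1 := by
    have h1 := Fintype.one_lt_card (α := F)
    rcases (Nat.dvd_prime Nat.prime_two).1 (Nat.gcd_dvd_left 2 (Fintype.card F - 1)) with h | h
    · exact h
    · have h' := Nat.gcd_dvd_right 2 (Fintype.card F - 1)
      rw [h] at h'
      omega
  have hgt : proj X ≠ 1 → (orderOf (proj X) ∣ Fintype.card F - 1 ∨ orderOf (proj X) ∣ Fintype.card F + 1) →
      2 < orderOf (proj X) := by
    intro h1 hd
    have h0 : orderOf (proj X) ≠ 0 := (orderOf_pos _).ne'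
    have h1' : orderOf (proj X) ≠ 1 := fun e => h1 (orderOf_eq_one_iff.1 e)
    by_contra hle
    rw [show orderOf (proj X) = 2 by omega] at hd
    have := Fintype.one_lt_card (α := F)
    omega
  refine ⟨fun ho => ?_, fun h1 hd => ?_, fun h1 hd => ?_⟩
  · have hne : proj X ≠ 1 := fun e => by rw [e, orderOf_one] at ho; omega
    have ht : (X : Matrix (Fin 2) (Fin 2) F).trace = 0 := by
      refine ((PSLTwoSol.proj_sq_iff X).1 ?_).resolve_right hne
      have e := pow_orderOf_eq_one (proj X)
      rw [ho] at e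
      rwa [pow_two] at e
    refine (PSLTwoSol.card_sol_eq_of_trace (X' := PSLTwoAut.uS (1 : F)) (PSLTwoCovering.nonscalar_of_proj hne)
      ?_ ?_).trans (PSLTwoSol.card_sol_invol_two p hp hF)
    · exact PSLTwoCovering.nonscalar_of_proj fun e => by
        simpa [PSLTwoAut.uS] using (PSLTwoSol.proj_one_entries e).1
    · rw [ht]; simp [PSLTwoAut.uS, Matrix.trace_fin_two]; linear_combination -h2
  · have := PSLTwoSol.card_sol_plus 2 (Or.inl rfl) hp hF (hgt h1 (Or.inl hd)) hd
    rw [PSLTwoSol.card_center_one h2, one_mul] at this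
    exact this
  · have := PSLTwoSol.card_sol_minus 2 (Or.inl rfl) hp hF (hgt h1 (Or.inr hd)) hd
    rw [hg, Nat.div_one] at this
    exact this

end Cfsg.Agent.S2257
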