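import Cfsg.Statements.S2258
import Cfsg.Agent.Lib.Classical.PSLTwoSolThree

set_option autoImplicit false
open Cfsg

open Cfsg.Agent.Classical
open Cfsg.Agent.Classical.SL2Two (proj)

namespace Cfsg.Agent.S2258

/-- Let G = PSL_2(F) with F a field of order q = 3^p, p an odd prime, and for x ∈ G call the solubilizer of x the set of y ∈ G such that x and y generate a solvable subgroup. Then the solubilizer of an involution has q(q + 1) elements; that of an element of order 3 has q(q + 5)/2 elements; that of an element of order neither 1 nor 2 dividing q − 1 has q(q − 1) elements; and that of an element of order neither 1 nor 2 dividing q + 1 has q + 1 elements. -/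
theorem result (p : ℕ) (hp : p.Prime) (hodd : Odd p) {F : Type*} [Field F] [Fintype F]
    (hF : Fintype.card F = 3 ^ p) (x : Matrix.ProjectiveSpecialLinearGroup (Fin 2) F) :
    (orderOf x = 2 → Nat.card {y : Matrix.ProjectiveSpecialLinearGroup (Fin 2) F // Group.IsSolvable ↥(Subgroup.closure ({x, y} : Set (Matrix.ProjectiveSpecialLinearGroup (Fin 2) F)))} = 3 ^ p * (3 ^ p + 1)) ∧
    (orderOf x = 3 → 2 * Nat.card {y : Matrix.ProjectiveSpecialLinearGroup (Fin 2) F // Group.IsSolvable ↥(Subgroup.closure ({x, y} : Set (Matrix.ProjectiveSpecialLinearGroup (Fin 2) F)))} = 3 ^ p * (3 ^ p + 5)) ∧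
    (x ≠ 1 → orderOf x ≠ 2 → orderOf x ∣ 3 ^ p - 1 → Nat.card {y : Matrix.ProjectiveSpecialLinearGroup (Fin 2) F // Group.IsSolvable ↥(Subgroup.closure ({x, y} : Set (Matrix.ProjectiveSpecialLinearGroup (Fin 2) F)))} = 3 ^ p * (3 ^ p - 1)) ∧
    (x ≠ 1 → orderOf x ≠ 2 → orderOf x ∣ 3 ^ p + 1 → Nat.card {y : Matrix.ProjectiveSpecialLinearGroup (Fin 2) F // Group.IsSolvable ↥(Subgroup.closure ({x, y} : Set (Matrix.ProjectiveSpecialLinearGroup (Fin 2) F)))} = 3 ^ p + 1) := by
  haveI : Fact (Nat.Prime 3) := ⟨Nat.prime_three⟩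
  haveI : CharP F 3 := charP_of_card_eq_prime_pow hF
  rw [← hF]
  obtain ⟨X, rfl⟩ := SL2Two.proj_surjective x
  obtain ⟨h3, h2, hq4, h4⟩ := PSLTwoSol.char_three_facts hp hodd hF
  have hg : Nat.gcd 2 (Fintype.card F - 1) = 2 := Nat.gcd_eq_left (by omega)
  have hgt : proj X ≠ 1 → orderOf (proj X) ≠ 2 → 2 < orderOf (proj X) := by
    intro h1 h
    have h0 : orderOf (proj X) ≠ 0 := (orderOf_pos _).ne'
    have h1' : orderOf (proj X) ≠ 1 := fun e => h1 (orderOf_eq_one_iff.1 e)
    omega
  refine ⟨fun ho => ?_, fun ho => ?_, fun h1 h2' hd => ?_, fun h1 h2' hd => ?_⟩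
  · have hne : proj X ≠ 1 := fun e => by rw [e, orderOf_one] at ho; omega
    have ht : (X : Matrix (Fin 2) (Fin 2) F).trace = 0 := by
      refine ((PSLTwoSol.proj_sq_iff X).1 ?_).resolve_right hne
      have e := pow_orderOf_eq_one (proj X)
      rw [ho] at e
      rwa [pow_two] at e
    refine (PSLTwoSol.card_sol_eq_of_trace (X' := SL2Two.g0) (PSLTwoCovering.nonscalar_of_proj hne)
      ?_ ?_).trans (PSLTwoSol.card_sol_invol_three hp hodd hF)
    · refine PSLTwoCovering.nonscalar_of_trace ?_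
      rw [SL2Two.trace_g0, mul_zero, show (4 : F) = 2 * 2 by norm_num]
      exact (mul_ne_zero h2 h2).symm
    · rw [ht, SL2Two.trace_g0]
  · have hne : proj X ≠ 1 := fun e => by rw [e, orderOf_one] at ho; omega
    have ht : (X : Matrix (Fin 2) (Fin 2) F).trace * (X : Matrix (Fin 2) (Fin 2) F).trace = 1 := by
      have e := pow_orderOf_eq_one (proj X)
      rw [ho] at e
      exact (PSLTwoSol.proj_cube_iff X).1 e
    obtain ⟨X', hX', e⟩ : ∃ X' : Matrix.SpecialLinearGroup (Fin 2) F,
        (X' : Matrix (Fin 2) (Fin 2) F).trace = 2 ∧ proj X' = proj X := by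
      rcases mul_self_eq_one_iff.1 ht with h | h
      · exact ⟨SL2Two.negOne * X, by rw [PSLTwoCovering.trace_negOne_mul, h]; linear_combination -h3,
          by rw [map_mul, PSLTwoCovering.proj_negOne, one_mul]⟩
      · exact ⟨X, by rw [h]; linear_combination -h3, rfl⟩
    have e1 := PSLTwoSol.card_sol_eq_of_trace (X := X') (X' := PSLTwoAut.uS (1 : F))
      (PSLTwoCovering.nonscalar_of_proj (e ▸ hne))
      (PSLTwoCovering.nonscalar_of_proj fun e => by
        simpa [PSLTwoAut.uS] using (PSLTwoSol.proj_one_entries e).1)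
      (by rw [hX']; simp [PSLTwoAut.uS, Matrix.trace_fin_two]; norm_num)
    rw [e] at e1
    exact (congrArg (2 * ·) e1).trans (PSLTwoSol.card_sol_three hp hodd hF)
  · have := PSLTwoSol.card_sol_plus 3 (Or.inr ⟨rfl, hodd⟩) hp hF (hgt h1 h2') hd
    rw [PSLTwoSol.card_center_two h2, mul_assoc] at this
    exact Nat.eq_of_mul_eq_mul_left two_pos this
  · have := PSLTwoSol.card_sol_minus 3 (Or.inr ⟨rfl, hodd⟩) hp hF (hgt h1 h2') hd
    rw [hg, Nat.mul_div_cancel' (by omega)] at this
    exact this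

end Cfsg.Agent.S2258
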