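import Cfsg.Statements.S2261
import Mathlib

set_option autoImplicit false
open Cfsg
open Matrix
set_option maxHeartbeats 1000000

namespace Cfsg.Agent.S2261

/-- Let F be a finite field with q elements and d ≥ 1. Then every element of PGL_d(F) = GL_d(F)/Z has order at most (q^d − 1)/(q − 1), and some element (the image of a Singer cycle) has exactly this order. -/
theorem result {F : Type*} [Field F] [Fintype F] (d : ℕ) (hd : 1 ≤ d) :
    (∀ g : (GL (Fin d) F ⧸ Subgroup.center (GL (Fin d) F)), (Fintype.card F - 1) * orderOf g ≤ Fintype.card F ^ d - 1) ∧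
    (∃ g : (GL (Fin d) F ⧸ Subgroup.center (GL (Fin d) F)), (Fintype.card F - 1) * orderOf g = Fintype.card F ^ d - 1) := by
  classical
  set q := Fintype.card F
  set Z := Subgroup.center (GL (Fin d) F)
  haveI : Nonempty (Fin d) := ⟨⟨0, hd⟩⟩
  have hmemZ : ∀ g : GL (Fin d) F, g ∈ Z → ∃ c : F, c ≠ 0 ∧ (g : Matrix (Fin d) (Fin d) F) = c • 1 := fun g hg => by
    obtain ⟨c, hc⟩ := Matrix.GeneralLinearGroup.mem_center_iff_val_mem_range_scalar.1 hg
    refine ⟨c, fun e => ?_, ?_⟩
    · have h := ((Matrix.isUnit_iff_isUnit_det _).1 g.isUnit).ne_zero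
      rw [← hc, e, map_zero, Matrix.det_zero] at h
      exact h rfl
    · rw [← hc, Matrix.scalar_apply, Matrix.smul_one_eq_diagonal]
  have hupper : ∀ g : (GL (Fin d) F ⧸ Z), (q - 1) * orderOf g ≤ q ^ d - 1 := by
    intro g
    obtain ⟨x, rfl⟩ := QuotientGroup.mk'_surjective Z g
    set o := orderOf (QuotientGroup.mk' Z x)
    set X := (x : Matrix (Fin d) (Fin d) F)
    let S := Algebra.adjoin F ({X} : Set (Matrix (Fin d) (Fin d) F))
    let f : Fin d → S := fun i => ⟨X ^ (i : ℕ), S.pow_mem (Algebra.self_mem_adjoin_singleton F X) i⟩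
    have hrank : Module.finrank F S ≤ d := by
      have hspan : Submodule.span F (Set.range f) = ⊤ := by
        rw [eq_top_iff]
        rintro ⟨s, hs⟩ -
        obtain ⟨P, rfl⟩ : ∃ P, Polynomial.aeval X P = s := by
          have h : s ∈ Algebra.adjoin F ({X} : Set (Matrix (Fin d) (Fin d) F)) := hs
          rw [Algebra.adjoin_singleton_eq_range_aeval] at h
          exact h
        have hP : Polynomial.aeval X P = Polynomial.aeval X (P %ₘ X.charpoly) := by
          conv_lhs => rw [← Polynomial.modByMonic_add_div P X.charpoly]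
          rw [map_add, map_mul, Matrix.aeval_self_charpoly, zero_mul, add_zero]
        have hdeg : (P %ₘ X.charpoly).natDegree < d := by
          have h := Polynomial.natDegree_modByMonic_lt P (Matrix.charpoly_monic X) (fun e => by
            have := congrArg Polynomial.natDegree e
            rw [Matrix.charpoly_natDegree_eq_dim, Fintype.card_fin, Polynomial.natDegree_one] at this
            omega)
          rwa [Matrix.charpoly_natDegree_eq_dim, Fintype.card_fin] at h
        rw [show (⟨_, _⟩ : S) = ∑ i : Fin d, (P %ₘ X.charpoly).coeff i • f i from Subtype.ext (by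
          show Polynomial.aeval X P = _
          rw [hP, Polynomial.aeval_eq_sum_range' hdeg, Finset.sum_range, AddSubmonoidClass.coe_finsetSum]
          rfl)]
        exact Submodule.sum_mem _ fun i _ => Submodule.smul_mem _ _ (Submodule.subset_span ⟨i, rfl⟩)
      have h := finrank_range_le_card (R := F) f
      rw [Set.finrank, hspan, finrank_top, Fintype.card_fin] at h
      exact h
    haveI : Fintype S := Fintype.ofFinite S
    let g : Fˣ × Fin o → {s : S // s ≠ 0} := fun p => ⟨⟨(p.1 : F) • X ^ (p.2 : ℕ), S.smul_mem (S.pow_mem (Algebra.self_mem_adjoin_singleton F X) _) _⟩, fun h => by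
      have h' : (p.1 : F) • X ^ (p.2 : ℕ) = 0 := congrArg Subtype.val h
      rw [smul_eq_zero, ← Units.val_pow_eq_pow_val] at h'
      rcases h' with h' | h'
      · exact p.1.ne_zero h'
      · exact (x ^ (p.2 : ℕ)).ne_zero h'⟩
    have hg : Function.Injective g := by
      rintro ⟨a, i⟩ ⟨b, j⟩ h
      have h' : (a : F) • X ^ (i : ℕ) = (b : F) • X ^ (j : ℕ) := congrArg (fun s => (s.1 : Matrix (Fin d) (Fin d) F)) h
      have hq : QuotientGroup.mk' Z x ^ (i : ℕ) = QuotientGroup.mk' Z x ^ (j : ℕ) := by
        rw [← map_pow, ← map_pow]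
        refine (QuotientGroup.eq).2 ?_
        have e : ((x ^ (i : ℕ))⁻¹ * x ^ (j : ℕ) : GL (Fin d) F) = Matrix.GeneralLinearGroup.scalar (Fin d) (b⁻¹ * a) := by
          rw [inv_mul_eq_iff_eq_mul]
          refine Units.ext ?_
          show (((x ^ (j : ℕ)) : GL (Fin d) F) : Matrix (Fin d) (Fin d) F) = ((x ^ (i : ℕ) : GL (Fin d) F) : Matrix (Fin d) (Fin d) F) * Matrix.scalar (Fin d) ((b⁻¹ * a : Fˣ) : F)
          rw [Matrix.scalar_apply, ← Matrix.smul_one_eq_diagonal, Matrix.mul_smul, Matrix.mul_one, Units.val_pow_eq_pow_val,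
            Units.val_pow_eq_pow_val, Units.val_mul, mul_smul, h', smul_smul, Units.inv_mul, one_smul]
        rw [e, Matrix.GeneralLinearGroup.mem_center_iff_val_mem_range_scalar]
        exact ⟨_, rfl⟩
      have hij : i = j := Fin.ext (pow_injOn_Iio_orderOf i.2 j.2 hq)
      subst hij
      refine Prod.ext (Units.ext (smul_left_injective F (fun e => ?_) h')) rfl
      rw [← Units.val_pow_eq_pow_val] at e
      exact (x ^ (i : ℕ)).ne_zero e
    have hle := Nat.card_le_card_of_injective g hg
    rw [Nat.card_prod, Nat.card_units, Nat.card_fin, Nat.card_eq_fintype_card, Nat.card_eq_fintype_card,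
      Fintype.card_subtype_compl, Fintype.card_subtype_eq, Module.card_eq_pow_finrank (K := F) (V := S)] at hle
    exact hle.trans (Nat.sub_le_sub_right (Nat.pow_le_pow_right Fintype.card_pos hrank) 1)
  refine ⟨hupper, ?_⟩
  -- the Singer cycle
  obtain ⟨p, _⟩ := CharP.exists F
  haveI : Fact p.Prime := ⟨CharP.char_is_prime F p⟩
  haveI : NeZero d := ⟨by omega⟩
  set K := FiniteField.Extension F p d
  have hK : Module.finrank F K = d := FiniteField.finrank_extension F p d
  let b := Module.finBasisOfFinrankEq F K hK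
  let L : K →* Matrix (Fin d) (Fin d) F := (Algebra.leftMulMatrix b).toMonoidHom
  let φ : Kˣ →* GL (Fin d) F := Units.map L
  obtain ⟨γ, hγ⟩ := IsCyclic.exists_generator (α := Kˣ)
  have hoγ : orderOf γ = q ^ d - 1 := by
    rw [orderOf_eq_card_of_forall_mem_zpowers hγ, Nat.card_units, FiniteField.natCard_extension, Nat.card_eq_fintype_card]
  refine ⟨QuotientGroup.mk' Z (φ γ), le_antisymm (hupper _) ?_⟩
  set o := orderOf (QuotientGroup.mk' Z (φ γ))
  have hq : 1 < q := Fintype.one_lt_card
  have ho : φ γ ^ o ∈ Z := (QuotientGroup.eq_one_iff _).1 (by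
    show QuotientGroup.mk' Z (φ γ ^ o) = 1
    rw [map_pow, pow_orderOf_eq_one])
  obtain ⟨c, hc0, hc⟩ := hmemZ _ ho
  have h1 : φ γ ^ (o * (q - 1)) = 1 := by
    refine Units.ext ?_
    rw [pow_mul, Units.val_pow_eq_pow_val, hc, smul_pow, one_pow, FiniteField.pow_card_sub_one_eq_one c hc0, one_smul, Units.val_one]
  have hinj : Function.Injective φ := Units.map_injective (Algebra.leftMulMatrix_injective b)
  rw [← map_pow] at h1
  have hd' := orderOf_dvd_of_pow_eq_one (hinj (h1.trans (map_one φ).symm))
  rw [hoγ, mul_comm] at hd'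
  exact Nat.le_of_dvd (Nat.mul_pos (by omega) (orderOf_pos _)) hd' 

end Cfsg.Agent.S2261
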