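import Cfsg.Statements.S2268

set_option autoImplicit false
open Cfsg

namespace Cfsg.Agent.S2268

/-- Let G be a finite group with an abelian Sylow p-subgroup P and let Q ≤ P. Then N_G(Q) = (N_G(Q) ∩ N_G(P))·C_G(Q), so that N_G(Q)/C_G(Q) is a homomorphic image of the subgroup (N_G(Q) ∩ N_G(P))/C_G(P) of N_G(P)/C_G(P); in particular the order of N_G(Q)/C_G(Q) divides the order of N_G(P)/C_G(P). -/
theorem result {G : Type*} [Group G] [Finite G] {p : ℕ} [Fact p.Prime]
    (P : Sylow p G) (hP : IsMulCommutative (P : Subgroup G)) (Q : Subgroup G) (hQ : Q ≤ (P : Subgroup G)) :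
    Subgroup.normalizer (Q : Set G) =
      (Subgroup.normalizer (Q : Set G) ⊓ Subgroup.normalizer ((P : Subgroup G) : Set G)) ⊔ Subgroup.centralizer (Q : Set G) ∧
    ((Subgroup.centralizer (Q : Set G)).subgroupOf (Subgroup.normalizer (Q : Set G))).index ∣ ((Subgroup.centralizer ((P : Subgroup G) : Set G)).subgroupOf (Subgroup.normalizer ((P : Subgroup G) : Set G))).index := by
  set NQ := Subgroup.normalizer (Q : Set G) with hNQ
  set NP := Subgroup.normalizer ((P : Subgroup G) : Set G) with hNP
  set C := Subgroup.centralizer (Q : Set G) with hC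
  have hCle : C ≤ NQ := (Subgroup.centralizer_le_normalizer _)
  have hPC : (P : Subgroup G) ≤ C := fun x hx =>
    Subgroup.mem_centralizer_iff.2 fun q hq => by
      have := hP.is_comm.comm ⟨q, hQ hq⟩ ⟨x, hx⟩
      exact congrArg Subtype.val this
  have heq : NQ = (NQ ⊓ NP) ⊔ C := by
    refine le_antisymm ?_ (sup_le inf_le_left hCle)
    intro n hn
    have hconj : ((n • P : Sylow p G) : Subgroup G) ≤ C := by
      intro y hy
      rw [Sylow.coe_subgroup_smul, Subgroup.mem_pointwise_smul_iff_inv_smul_mem] at hy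
      rw [hC, Subgroup.mem_centralizer_iff]
      intro q hq
      have hq' : n⁻¹ * q * n ∈ Q := by
        have := (Subgroup.mem_normalizer_iff.1 (inv_mem hn) q).1 hq
        simpa using this
      have hy' : n⁻¹ * y * n ∈ (P : Subgroup G) := by simpa [MulAut.smul_def] using hy
      have h2 := Subgroup.mem_centralizer_iff.1 (hPC hy') _ hq'
      have h3 := congrArg (fun z => n * z * n⁻¹) h2
      simpa [mul_assoc] using h3
    obtain ⟨c, hc⟩ := MulAction.exists_smul_eq ↥C ((n • P).subtype hconj) (P.subtype hPC)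
    rw [Sylow.smul_subtype] at hc
    have hcn : (c : G) • n • P = P := Sylow.subtype_injective hc
    rw [smul_smul, Sylow.smul_eq_iff_mem_normalizer] at hcn
    have : n = (c : G)⁻¹ * ((c : G) * n) := by group
    rw [this, sup_comm]
    exact Subgroup.mul_mem_sup (inv_mem c.2) ⟨mul_mem (hCle c.2) hn, hcn⟩
  refine ⟨heq, ?_⟩
  haveI : (C.subgroupOf NQ).Normal := by
    rw [hC, hNQ]; infer_instance
  set M := NQ ⊓ NP with hM
  show C.relIndex NQ ∣ (Subgroup.centralizer ((P : Subgroup G) : Set G)).relIndex NP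
  have h1 : (C.subgroupOf NQ).index = C.relIndex M := by
    have htop : M.subgroupOf NQ ⊔ C.subgroupOf NQ = ⊤ := by
      rw [← Subgroup.subgroupOf_sup inf_le_left hCle, ← heq, Subgroup.subgroupOf_self]
    rw [← Subgroup.relIndex_top_right, ← htop, Subgroup.relIndex_sup_right,
      Subgroup.relIndex_subgroupOf inf_le_left]
  show (C.subgroupOf NQ).index ∣ _
  rw [h1]
  set CP := Subgroup.centralizer ((P : Subgroup G) : Set G) with hCP
  have hCPC : CP ≤ C := Subgroup.centralizer_le hQ
  have hCPM : CP ≤ M := le_inf (hCPC.trans hCle) (Subgroup.centralizer_le_normalizer _)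
  refine dvd_trans (Subgroup.relIndex_dvd_of_le_left M hCPC) ?_
  exact ⟨M.relIndex NP, (Subgroup.relIndex_mul_relIndex CP M NP hCPM inf_le_right).symm⟩

end Cfsg.Agent.S2268
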