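import Cfsg.Statements.S2269
import Cfsg.Agent.Lib.Struct.SymSylowTwo

set_option autoImplicit false
open Cfsg

namespace Cfsg.Agent.S2269

open Equiv

theorem two_dvd_index {G : Type*} [Group G] [Finite G] (P : Subgroup G) {g x : G}
    (hg : g ∈ Subgroup.normalizer (P : Set G)) (hx : x ∈ P) (hinv : g * x * g⁻¹ = x⁻¹) (hne : x⁻¹ ≠ x) :
    2 ∣ ((Subgroup.centralizer (P : Set G)).subgroupOf (Subgroup.normalizer (P : Set G))).index := by
  set N := Subgroup.normalizer (P : Set G)
  set C := (Subgroup.centralizer (P : Set G)).subgroupOf N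
  haveI : C.Normal := by
    refine ⟨fun c hc n => ?_⟩
    rw [Subgroup.mem_subgroupOf, Subgroup.mem_centralizer_iff] at hc ⊢
    intro y hy
    have hy' : (n : G)⁻¹ * y * (n : G) ∈ P := (Subgroup.mem_normalizer_iff''.1 n.2 y).1 hy
    have h := hc _ hy'
    simp only [Subgroup.coe_mul, InvMemClass.coe_inv]
    calc y * ((n : G) * c * (n : G)⁻¹) = (n : G) * ((n : G)⁻¹ * y * n * c) * (n : G)⁻¹ := by group
      _ = (n : G) * (c * ((n : G)⁻¹ * y * n)) * (n : G)⁻¹ := by rw [h]
      _ = (n : G) * c * (n : G)⁻¹ * y := by group
  by_contra hodd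
  have hmem : (⟨g, hg⟩ : N) ^ C.index ∈ C := C.pow_index_mem _
  rw [Subgroup.mem_subgroupOf, Subgroup.mem_centralizer_iff] at hmem
  have hfix := hmem x hx
  simp only [SubmonoidClass.coe_pow] at hfix
  have key : ∀ j : ℕ, g ^ j * x * (g ^ j)⁻¹ = if j % 2 = 0 then x else x⁻¹ := by
    intro j
    induction j with
    | zero => simp
    | succ j ih =>
      rw [pow_succ', show g * g ^ j * x * (g * g ^ j)⁻¹ = g * (g ^ j * x * (g ^ j)⁻¹) * g⁻¹ by group, ih]
      rcases Nat.mod_two_eq_zero_or_one j with h | h
      · rw [if_pos h, if_neg (by omega), hinv]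
      · rw [if_neg (by omega), if_pos (by omega), show g * x⁻¹ * g⁻¹ = (g * x * g⁻¹)⁻¹ by group, hinv, inv_inv]
  have h1 := key C.index
  rw [← hfix, mul_assoc, mul_inv_cancel, mul_one, if_neg (by omega)] at h1
  exact hne h1.symm

theorem no_burnside {n : ℕ} (hn : 5 ≤ n) {p : ℕ} [Fact p.Prime] (P : Sylow p (alternatingGroup (Fin n)))
    (hp : p ∣ Nat.card (alternatingGroup (Fin n))) (hne : (P : Subgroup (alternatingGroup (Fin n))) ≠ ⊤) :
    ¬ Subgroup.normalizer ((P : Subgroup (alternatingGroup (Fin n))) : Set (alternatingGroup (Fin n))) ≤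
      Subgroup.centralizer ((P : Subgroup (alternatingGroup (Fin n))) : Set (alternatingGroup (Fin n))) := by
  intro h
  haveI : IsSimpleGroup (alternatingGroup (Fin n)) := alternatingGroup.isSimpleGroup (by simpa using hn)
  have hc := MonoidHom.ker_transferSylow_isComplement' P h
  rcases IsSimpleGroup.eq_bot_or_eq_top_of_normal (MonoidHom.transferSylow P h).ker inferInstance with hb | ht
  · rw [hb] at hc
    exact hne (Subgroup.isComplement'_bot_left.1 hc)
  · rw [ht] at hc
    have hbot : (P : Subgroup (alternatingGroup (Fin n))) = ⊥ := Subgroup.isComplement'_top_left.1 hc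
    exact P.ne_bot_of_dvd_card hp hbot

theorem three_dvd {n : ℕ} (hn : 5 ≤ n) : 3 ∣ Nat.card (alternatingGroup (Fin n)) := by
  haveI : Nontrivial (Fin n) := Fin.nontrivial_iff_two_le.2 (by omega)
  refine (Nat.Coprime.dvd_mul_left (by norm_num : Nat.Coprime 3 2)).1 ?_
  rw [two_mul_nat_card_alternatingGroup, Nat.card_perm, Nat.card_fin]
  exact Nat.dvd_factorial (by norm_num) (by omega)

theorem alt_five_sq : ∀ g : Perm (Fin 5), Perm.sign g = 1 → g ^ 4 = 1 → g ^ 2 = 1 := by decide +kernel


/-- Let n ≥ 5 and let P be an abelian Sylow p-subgroup of the alternating group A_n. Then N(P)/C(P) (taken in A_n) has even order, or P is cyclic, except when n = 5 and p = 2, where P is a four-group and N(P)/C(P) has order 3. -/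
theorem result (n : ℕ) (hn : 5 ≤ n) {p : ℕ} [Fact p.Prime]
    (P : Sylow p (alternatingGroup (Fin n))) (hP : IsMulCommutative (P : Subgroup (alternatingGroup (Fin n)))) :
    (¬ (n = 5 ∧ p = 2) → 2 ∣ ((Subgroup.centralizer ((P : Subgroup (alternatingGroup (Fin n))) : Set (alternatingGroup (Fin n)))).subgroupOf (Subgroup.normalizer ((P : Subgroup (alternatingGroup (Fin n))) : Set (alternatingGroup (Fin n))))).index ∨ IsCyclic (P : Subgroup (alternatingGroup (Fin n)))) ∧
    ((n = 5 ∧ p = 2) → ((Subgroup.centralizer ((P : Subgroup (alternatingGroup (Fin n))) : Set (alternatingGroup (Fin n)))).subgroupOf (Subgroup.normalizer ((P : Subgroup (alternatingGroup (Fin n))) : Set (alternatingGroup (Fin n))))).index = 3 ∧ IsKleinFour (P : Subgroup (alternatingGroup (Fin n)))) := by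
  classical
  refine ⟨fun h52 => ?_, fun ⟨h5, hp2⟩ => ?_⟩
  · by_cases hp2 : p = 2
    · subst hp2
      exfalso
      have h6 : 6 ≤ n := by omega
      have h3 := three_dvd hn
      have h2 : 2 ∣ Nat.card (alternatingGroup (Fin n)) := by
        haveI : Nontrivial (Fin n) := Fin.nontrivial_iff_two_le.2 (by omega)
        refine (Nat.mul_dvd_mul_iff_left (a := 2) (by norm_num)).1 ?_
        rw [two_mul_nat_card_alternatingGroup, Nat.card_perm, Nat.card_fin]
        exact Nat.dvd_factorial (by norm_num) (by omega)
      refine no_burnside hn P h2 ?_ ?_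
      · intro ht
        obtain ⟨j, hj⟩ := IsPGroup.iff_card.1 P.2
        rw [ht, Subgroup.card_top] at hj
        rw [hj] at h3
        exact absurd (Nat.Prime.dvd_of_dvd_pow Nat.prime_three h3) (by norm_num)
      · intro g hg
        rw [Subgroup.mem_centralizer_iff]
        intro h hh
        haveI := hP
        exact congrArg Subtype.val (mul_comm' (⟨h, hh⟩ : (P : Subgroup (alternatingGroup (Fin n))))
          ⟨g, Cfsg.Agent.Struct.SymSylowTwo.alt_self_normalizing h6 P g hg⟩)
    · have hpp : p.Prime := Fact.out
      have hp3 : 3 ≤ p := by have := hpp.two_le; omega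
      rcases Nat.lt_or_ge n (2 * p) with hlt | hge
      · right
        haveI : Nontrivial (Fin n) := Fin.nontrivial_iff_two_le.2 (by omega)
        have hv : (Nat.card (alternatingGroup (Fin n))).factorization p ≤ 1 := by
          have h1 : (2 * Nat.card (alternatingGroup (Fin n))).factorization p = (Nat.card (alternatingGroup (Fin n))).factorization p := by
            rw [Nat.factorization_mul (by norm_num) Nat.card_pos.ne', Finsupp.add_apply,
              Nat.factorization_eq_zero_of_not_dvd (n := 2) (fun h => by
                have := Nat.le_of_dvd (by norm_num) h; omega), zero_add]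
          rw [← h1, two_mul_nat_card_alternatingGroup, Nat.card_perm, Nat.card_fin, Nat.factorization_def _ hpp,
            ← padicValNat_mul_div_factorial n]
          rcases Nat.lt_or_ge n p with h | h
          · rw [Nat.div_eq_of_lt h, mul_zero]
            simp
          · rw [show n / p = 1 from Nat.div_eq_of_lt_le (by omega) (by omega), padicValNat_factorial_mul]
            simp
        have hcard : Nat.card (P : Subgroup (alternatingGroup (Fin n))) = p ^ (Nat.card (alternatingGroup (Fin n))).factorization p := P.card_eq_multiplicity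
        rcases Nat.le_one_iff_eq_zero_or_eq_one.1 hv with h0 | h1
        · rw [h0, pow_zero] at hcard
          haveI : Subsingleton (P : Subgroup (alternatingGroup (Fin n))) := (Nat.card_eq_one_iff_unique.1 hcard).1
          exact isCyclic_of_subsingleton
        · rw [h1, pow_one] at hcard
          exact isCyclic_of_prime_card hcard
      · left
        obtain ⟨c, hc⟩ := (Equiv.Perm.exists_with_cycleType_iff (Fin n) (m := {p, p})).2 ⟨by
          simp only [Multiset.insert_eq_cons, Multiset.sum_cons, Multiset.sum_singleton, Fintype.card_fin]; omega,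
          fun a ha => by simp at ha; omega⟩
        have hcA : c ∈ (alternatingGroup (Fin n)) := by
          show Perm.sign c = 1
          rw [Perm.sign_of_cycleType, hc]
          simp only [Multiset.insert_eq_cons, Multiset.sum_cons, Multiset.sum_singleton, Multiset.card_cons,
            Multiset.card_singleton]
          rw [show p + p + (1 + 1) = 2 * (p + 1) by ring, pow_mul]
          simp
        have hord : orderOf c = p := by
          rw [← Equiv.Perm.lcm_cycleType, hc]
          simp [Multiset.insert_eq_cons]
        have hz : IsPGroup p (Subgroup.zpowers (⟨c, hcA⟩ : (alternatingGroup (Fin n)))) := IsPGroup.of_card (n := 1) (by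
          rw [Nat.card_zpowers, pow_one, ← Subgroup.orderOf_coe]; exact hord)
        obtain ⟨Q, hQ⟩ := hz.exists_le_sylow
        obtain ⟨d, hd⟩ := MulAction.exists_smul_eq (alternatingGroup (Fin n)) Q P
        set x : (alternatingGroup (Fin n)) := d * ⟨c, hcA⟩ * d⁻¹
        have hx : x ∈ (P : Subgroup (alternatingGroup (Fin n))) := by
          rw [← hd, Sylow.coe_subgroup_smul]
          exact Subgroup.smul_mem_pointwise_smul _ (MulAut.conj d) _ (hQ (Subgroup.mem_zpowers _))
        have hxct : (x : Perm (Fin n)).cycleType = {p, p} := by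
          show ((d : Perm (Fin n)) * c * (d : Perm (Fin n))⁻¹).cycleType = _
          rw [Equiv.Perm.cycleType_conj, hc]
        have hne : x⁻¹ ≠ x := fun h => by
          have h2 : (x : Perm (Fin n)) ^ 2 = 1 := by
            have h' := congrArg Subtype.val (inv_eq_iff_mul_eq_one.1 h)
            rw [sq]; exact h'
          have h3 := orderOf_dvd_of_pow_eq_one h2
          rw [← Equiv.Perm.lcm_cycleType, hxct] at h3
          simp [Multiset.insert_eq_cons] at h3
          have := Nat.le_of_dvd (by norm_num) h3
          omega
        obtain ⟨g, hg⟩ := isConj_iff.1 ((Equiv.Perm.isConj_iff_cycleType_eq (σ := (x : Perm (Fin n)))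
          (τ := (x : Perm (Fin n))⁻¹)).2 (Equiv.Perm.cycleType_inv _).symm)
        obtain ⟨g', hg'A, hg'⟩ : ∃ g' ∈ (alternatingGroup (Fin n)), g' * (x : Perm (Fin n)) * g'⁻¹ = (x : Perm (Fin n))⁻¹ := by
          rcases Int.units_eq_one_or (Perm.sign g) with h | h
          · exact ⟨g, h, hg⟩
          · have hnle : ¬ Subgroup.centralizer {(x : Perm (Fin n))} ≤ alternatingGroup (Fin n) := fun hle => by
              have h1 := (Equiv.Perm.centralizer_le_alternating_iff.1 hle).2.2 p
              rw [hxct] at h1
              simp at h1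
            obtain ⟨t, ht, htA⟩ := SetLike.not_le_iff_exists.1 hnle
            refine ⟨g * t, ?_, ?_⟩
            · show Perm.sign (g * t) = 1
              rw [map_mul, h, (Int.units_eq_one_or (Perm.sign t)).resolve_left htA]
              rfl
            · rw [show g * t * (x : Perm (Fin n)) * (g * t)⁻¹ = g * (t * (x : Perm (Fin n)) * t⁻¹) * g⁻¹ by group,
                Subgroup.mem_centralizer_singleton_iff.1 ht, mul_inv_cancel_right, hg]
        haveI := hP
        obtain ⟨u, hu, hux⟩ := P.conj_eq_normalizer_conj_of_mem x ((⟨g', hg'A⟩ : (alternatingGroup (Fin n)))⁻¹) hx (by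
          rw [inv_inv, show (⟨g', hg'A⟩ : (alternatingGroup (Fin n))) * x * (⟨g', hg'A⟩ : (alternatingGroup (Fin n)))⁻¹ = x⁻¹ from Subtype.ext hg']
          exact inv_mem hx)
        refine two_dvd_index _ (inv_mem hu) hx ?_ hne
        rw [inv_inv, ← hux, inv_inv]
        exact Subtype.ext hg'
  · subst hp2
    obtain rfl := h5
    have h3 := three_dvd hn
    have hG : Nat.card (alternatingGroup (Fin 5)) = 60 := by
      rw [nat_card_alternatingGroup, Nat.card_eq_fintype_card, Fintype.card_fin]; rfl
    have hP4 : Nat.card (P : Subgroup (alternatingGroup (Fin 5))) = 4 := by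
      rw [P.card_eq_multiplicity, hG, Nat.factorization_def _ Nat.prime_two,
        show (60 : ℕ) = 2 ^ 2 * 15 by norm_num, padicValNat.mul (by norm_num) (by norm_num), padicValNat.prime_pow,
        padicValNat.eq_zero_of_not_dvd (by norm_num : ¬ 2 ∣ 15)]
      rfl
    haveI : Nontrivial (P : Subgroup (alternatingGroup (Fin 5))) := Finite.one_lt_card_iff_nontrivial.1 (by rw [hP4]; norm_num)
    have hsq : ∀ y : (P : Subgroup (alternatingGroup (Fin 5))), y ^ 2 = 1 := fun y => by
      have h4 : y ^ 4 = 1 := by rw [← hP4]; exact pow_card_eq_one'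
      have h4' : ((y : (alternatingGroup (Fin 5))) : Perm (Fin 5)) ^ 4 = 1 := congrArg (fun z : (P : Subgroup (alternatingGroup (Fin 5))) => ((z : (alternatingGroup (Fin 5))) : Perm (Fin 5))) h4
      exact Subtype.ext (Subtype.ext (alt_five_sq _ (y : (alternatingGroup (Fin 5))).2 h4'))
    refine ⟨?_, ⟨hP4, ?_⟩⟩
    · set N := Subgroup.normalizer ((P : Subgroup (alternatingGroup (Fin 5))) : Set (alternatingGroup (Fin 5)))
      set C := (Subgroup.centralizer ((P : Subgroup (alternatingGroup (Fin 5))) : Set (alternatingGroup (Fin 5)))).subgroupOf N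
      have hPC : (P : Subgroup (alternatingGroup (Fin 5))).subgroupOf N ≤ C := fun y hy => by
        rw [Subgroup.mem_subgroupOf, Subgroup.mem_centralizer_iff]
        intro z hz
        haveI := hP
        exact congrArg Subtype.val (mul_comm' (⟨z, hz⟩ : (P : Subgroup (alternatingGroup (Fin 5)))) ⟨(y : (alternatingGroup (Fin 5))), hy⟩)
      have hd : C.index ∣ ((P : Subgroup (alternatingGroup (Fin 5))).subgroupOf N).index := Subgroup.index_dvd_of_le hPC
      have hcard := ((P : Subgroup (alternatingGroup (Fin 5))).subgroupOf N).card_mul_index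
      rw [Nat.card_congr (Subgroup.subgroupOfEquivOfLe (Subgroup.le_normalizer (H := (P : Subgroup (alternatingGroup (Fin 5)))))).toEquiv, hP4] at hcard
      have hN60 := N.card_mul_index
      rw [hG] at hN60
      have hne1 : C.index ≠ 1 := fun h => by
        rw [Subgroup.index_eq_one, Subgroup.subgroupOf_eq_top] at h
        refine no_burnside hn P (by rw [hG]; norm_num) ?_ h
        intro ht
        rw [ht, Subgroup.card_top, hG] at hP4
        norm_num at hP4
      set j := ((P : Subgroup (alternatingGroup (Fin 5))).subgroupOf N).index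
      have hj : 4 * j * N.index = 60 := by rw [hcard]; exact hN60
      have hj15 : j ∣ 15 := ⟨N.index, by nlinarith⟩
      have hj3 : j ∣ 3 := by
        have hle : j ≤ 15 := Nat.le_of_dvd (by norm_num) hj15
        have hN1 : N.index ≠ 1 := fun h => by
          rw [Subgroup.index_eq_one] at h
          haveI : (P : Subgroup (alternatingGroup (Fin 5))).Normal := Subgroup.normalizer_eq_top_iff.1 h
          haveI : IsSimpleGroup (alternatingGroup (Fin 5)) := alternatingGroup.isSimpleGroup_five
          rcases IsSimpleGroup.eq_bot_or_eq_top_of_normal (P : Subgroup (alternatingGroup (Fin 5))) inferInstance with hb | ht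
          · rw [hb, Subgroup.card_bot] at hP4
            norm_num at hP4
          · rw [ht, Subgroup.card_top, hG] at hP4
            norm_num at hP4
        have hN3 : N.index ≠ 3 := fun h => by
          haveI : IsSimpleGroup (alternatingGroup (Fin 5)) := alternatingGroup.isSimpleGroup_five
          have hd' : N.normalCore.index ∣ 6 := by
            rw [Subgroup.normalCore_eq_ker, Subgroup.index_ker]
            refine (Subgroup.card_subgroup_dvd_card _).trans ?_
            rw [Nat.card_perm, ← Subgroup.index_eq_card, h]
            rfl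
          rcases IsSimpleGroup.eq_bot_or_eq_top_of_normal N.normalCore inferInstance with hb | ht
          · rw [hb, Subgroup.index_bot, hG] at hd'
            norm_num at hd'
          · have hNt : N = ⊤ := top_le_iff.1 (ht ▸ N.normalCore_le)
            rw [hNt, Subgroup.index_top] at h
            norm_num at h
        have hj' : j * N.index = 15 := by nlinarith
        interval_cases j <;> omega
      rcases (Nat.dvd_prime Nat.prime_three).1 (hd.trans hj3) with h | h
      · exact absurd h hne1
      · exact h
    · refine Nat.dvd_antisymm (Monoid.exponent_dvd_of_forall_pow_eq_one hsq) ?_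
      rcases (Nat.dvd_prime Nat.prime_two).1 (Monoid.exponent_dvd_of_forall_pow_eq_one hsq) with h | h
      · exact absurd (Monoid.exp_eq_one_iff.1 h) (not_subsingleton _)
      · rw [h]

end Cfsg.Agent.S2269
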