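import Cfsg.Statements.S2270

set_option autoImplicit false
open Cfsg

namespace Cfsg.Agent.S2270

/-- Let n ≥ 3, p an odd prime, and P an abelian Sylow p-subgroup of the symmetric group S_n (with p dividing n!, so that P ≠ 1). Then N(P)/C(P) has even order. -/
theorem result (n : ℕ) (hn : 3 ≤ n) {p : ℕ} [Fact p.Prime] (hp : p ≠ 2) (hpn : p ≤ n)
    (P : Sylow p (Equiv.Perm (Fin n))) (hP : IsMulCommutative (P : Subgroup (Equiv.Perm (Fin n)))) :
    2 ∣ ((Subgroup.centralizer ((P : Subgroup (Equiv.Perm (Fin n))) : Set (Equiv.Perm (Fin n)))).subgroupOf (Subgroup.normalizer ((P : Subgroup (Equiv.Perm (Fin n))) : Set (Equiv.Perm (Fin n))))).index := by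
  classical
  have hpc : p ∣ Nat.card (Equiv.Perm (Fin n)) := by
    rw [Nat.card_perm, Nat.card_fin]; exact (Nat.prime_iff.1 Fact.out).dvd_of_dvd_pow (n := 1) (by simpa using Nat.dvd_factorial (Fact.out : p.Prime).pos hpn)
  have hPbot : (P : Subgroup (Equiv.Perm (Fin n))) ≠ ⊥ := P.ne_bot_of_dvd_card hpc
  obtain ⟨g, hgP, hg1⟩ := (Subgroup.bot_or_exists_ne_one _).resolve_left hPbot
  obtain ⟨c, hc⟩ : IsConj g g⁻¹ := by
    rw [Equiv.Perm.isConj_iff_cycleType_eq, Equiv.Perm.cycleType_inv]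
  have hc' : (↑c : Equiv.Perm (Fin n)) * g * (↑c)⁻¹ = g⁻¹ := by
    rw [hc.eq, mul_inv_cancel_right]
  obtain ⟨m, hm, hmg⟩ : ∃ m ∈ Subgroup.normalizer ((P : Subgroup (Equiv.Perm (Fin n))) : Set (Equiv.Perm (Fin n))),
      m * g * m⁻¹ = g⁻¹ := by
    haveI := hP
    obtain ⟨m, hm, hmg⟩ := Sylow.conj_eq_normalizer_conj_of_mem P g ((↑c : Equiv.Perm (Fin n)))⁻¹ hgP (by
      rw [inv_inv, hc']; exact inv_mem hgP)
    refine ⟨m⁻¹, inv_mem hm, ?_⟩
    rw [inv_inv, hc'] at hmg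
    rw [inv_inv]; exact hmg.symm
  set N := Subgroup.normalizer ((P : Subgroup (Equiv.Perm (Fin n))) : Set (Equiv.Perm (Fin n)))
  set C := Subgroup.centralizer ((P : Subgroup (Equiv.Perm (Fin n))) : Set (Equiv.Perm (Fin n)))
  set k := (C.subgroupOf N).index
  haveI : (C.subgroupOf N).Normal := by infer_instance
  have hk : m ^ k ∈ C := by
    have := Subgroup.pow_index_mem (C.subgroupOf N) ⟨m, hm⟩
    exact this
  by_contra hodd
  have hodd' : Odd k := Nat.not_even_iff_odd.1 fun h => hodd h.two_dvd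
  have key : ∀ j : ℕ, m ^ (2 * j) * g * (m ^ (2 * j))⁻¹ = g := by
    intro j
    induction j with
    | zero => simp
    | succ j ih =>
      have : m ^ (2 * (j + 1)) * g * (m ^ (2 * (j + 1)))⁻¹ =
          m * (m * (m ^ (2 * j) * g * (m ^ (2 * j))⁻¹) * m⁻¹) * m⁻¹ := by
        rw [mul_add, add_comm, pow_add]; simp [pow_two, mul_assoc]
      rw [this, ih, hmg, ← inv_inj]
      simp only [mul_inv_rev, inv_inv, inv_inv]
      rw [← mul_assoc, hmg]
  obtain ⟨j, hj⟩ := hodd'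
  have h2 := Subgroup.mem_centralizer_iff.1 hk g hgP
  have h3 : g⁻¹ = g := by
    have : m ^ k * g * (m ^ k)⁻¹ = g := by rw [← h2, mul_inv_cancel_right]
    rw [hj, add_comm, pow_add, pow_one] at this
    have h4 : m * (m ^ (2 * j) * g * (m ^ (2 * j))⁻¹) * m⁻¹ = g := by
      simpa [mul_assoc] using this
    rwa [key, hmg] at h4
  have hord : orderOf g ∣ 2 := orderOf_dvd_of_pow_eq_one (by
    rw [pow_two]; nth_rewrite 1 [← h3]; exact inv_mul_cancel g)
  obtain ⟨s, hs⟩ := (IsPGroup.iff_orderOf.1 P.isPGroup') ⟨g, hgP⟩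
  rw [Subgroup.orderOf_mk] at hs
  rw [hs] at hord
  rcases Nat.eq_zero_or_pos s with rfl | hspos
  · exact hg1 (orderOf_eq_one_iff.1 (by simpa using hs))
  · have : p ∣ 2 := (dvd_pow_self p hspos.ne').trans hord
    exact hp ((Nat.prime_dvd_prime_iff_eq Fact.out Nat.prime_two).1 this)

end Cfsg.Agent.S2270
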