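import Cfsg.Statements.S2271
import Cfsg.Agent.Lib.Perm.ClassProductFix

set_option autoImplicit false
open Cfsg

namespace Cfsg.Agent.S2271

/-- Let n ≥ 5 and let a, b be non-identity permutations in the symmetric group S_n. Then the number of fixed points is not constant on the set of products a′b′ with a′ conjugate to a and b′ conjugate to b under the alternating group: there are even permutations g₁, h₁, g₂, h₂ such that (g₁ a g₁⁻¹)(h₁ b h₁⁻¹) and (g₂ a g₂⁻¹)(h₂ b h₂⁻¹) have different numbers of fixed points. -/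
theorem result (n : ℕ) (hn : 5 ≤ n) (a b : Equiv.Perm (Fin n)) (ha : a ≠ 1) (hb : b ≠ 1) :
    ∃ g₁ h₁ g₂ h₂ : Equiv.Perm (Fin n), g₁ ∈ alternatingGroup (Fin n) ∧ h₁ ∈ alternatingGroup (Fin n) ∧ g₂ ∈ alternatingGroup (Fin n) ∧ h₂ ∈ alternatingGroup (Fin n) ∧
      Nat.card (Function.fixedPoints ⇑(g₁ * a * g₁⁻¹ * (h₁ * b * h₁⁻¹))) ≠
        Nat.card (Function.fixedPoints ⇑(g₂ * a * g₂⁻¹ * (h₂ * b * h₂⁻¹))) := by
  have hc : a⁻¹ ≠ 1 := fun h => ha (inv_eq_one.1 h)
  have hconv : ∀ h : Equiv.Perm (Fin n), Nat.card (Function.fixedPoints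
      ⇑((1 : Equiv.Perm (Fin n)) * a * 1⁻¹ * (h * b * h⁻¹))) =
      Cfsg.Agent.Perm.ClassProductFix.agree a⁻¹ b h⁻¹ := by
    intro h
    rw [Cfsg.Agent.Perm.ClassProductFix.agree, ← Nat.card_eq_finsetCard]
    refine Nat.card_congr (Equiv.subtypeEquivRight fun x => ?_)
    simp only [Finset.mem_filter, Finset.mem_univ, true_and, Function.mem_fixedPoints,
      Function.IsFixedPt, one_mul, inv_one, mul_one, Equiv.Perm.mul_apply]
    constructor
    · intro e
      apply h.injective
      apply a.injective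
      rw [e]; simp
    · intro e
      rw [e]; simp
  by_contra hcon
  push Not at hcon
  refine Cfsg.Agent.Perm.ClassProductFix.not_const hn a⁻¹ b hc hb
    ⟨Cfsg.Agent.Perm.ClassProductFix.agree a⁻¹ b 1, fun h hh => ?_⟩
  have := hcon 1 h⁻¹ 1 1 (one_mem _) (Equiv.Perm.mem_alternatingGroup.2 (by simpa using hh))
    (one_mem _) (one_mem _)
  rw [hconv, hconv, inv_inv, inv_one] at this
  exact this

end Cfsg.Agent.S2271
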