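import Cfsg.Statements.S2277
import Cfsg.Agent.Lib.Solv.TwoGenFixed
import Cfsg.Agent.Lib.Solv.Coprime
import Cfsg.Agent.Lib.Solv.StructMisc
import Cfsg.Agent.Lib.Solv.Basic

set_option autoImplicit false
open Cfsg

namespace Cfsg.Agent.S2277

/-- Let p ≥ 3 be prime and G a finite group with a Sylow p-subgroup P and a normal p-complement N (N normal, of order prime to p, with NP = G). Suppose P is generated by a subset C and also by a subset D, and that ⟨x c x⁻¹, d⟩ is a p-group for all x ∈ N, c ∈ C, d ∈ D. Then P centralizes N, so that G = N × P. -/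
theorem result {G : Type*} [Group G] [Finite G] (p : ℕ) [Fact p.Prime] (hp3 : 3 ≤ p) (P : Sylow p G)
    (N : Subgroup G) [N.Normal] (hN : (Nat.card N).Coprime p) (hNP : N ⊔ (P : Subgroup G) = ⊤)
    (C D : Set G) (hC : Subgroup.closure C = (P : Subgroup G)) (hD : Subgroup.closure D = (P : Subgroup G))
    (h : ∀ x ∈ N, ∀ c ∈ C, ∀ d ∈ D, IsPGroup p ↥(Subgroup.closure ({x * c * x⁻¹, d} : Set G))) :
    ⁅(P : Subgroup G), N⁆ = ⊥ := by
  have hp' : p.Prime := Fact.out
  have hp2 : p ≠ 2 := by omega
  have hPcop : (Nat.card (P : Subgroup G)).Coprime (Nat.card N) := by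
    obtain ⟨k, hk⟩ := P.2.exists_card_eq
    rw [hk]; exact Nat.Coprime.pow_left k hN.symm
  haveI := P.2.isNilpotent
  have hPsol : Group.IsSolvable (P : Subgroup G) := inferInstance
  have hPN : (P : Subgroup G) ≤ Subgroup.normalizer (N : Set G) := Subgroup.le_normalizer_of_normal
  have hmain : ∀ (m : ℕ) (q : ℕ) [Fact q.Prime] (Q : Subgroup G), Nat.card Q = m → Q ≤ N →
      IsPGroup q Q → (P : Subgroup G) ≤ Subgroup.normalizer (Q : Set G) →
      ⁅Q, (P : Subgroup G)⁆ = ⊥ := by
    intro m
    induction m using Nat.strong_induction_on with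
    | _ m ih =>
    intro q _ Q hQm hQN hQq hPQ
    have hQcop : (Nat.card (P : Subgroup G)).Coprime (Nat.card Q) :=
      hPcop.coprime_dvd_right (Subgroup.card_dvd_of_le hQN)
    have hdisj : Q ⊓ (P : Subgroup G) = ⊥ :=
      Solv.inf_eq_bot_of_coprime_card _ _ hQcop.symm
    have hstar : ∀ c ∈ C, ∀ d ∈ D, ∀ x ∈ Q, ∃ a ∈ Q, ∃ b ∈ Q, a * c = c * a ∧ b * d = d * b ∧ x = b * a := by
      intro c hc d hd x hx
      have hcP : c ∈ (P : Subgroup G) := hC ▸ Subgroup.subset_closure hc
      have hdP : d ∈ (P : Subgroup G) := hD ▸ Subgroup.subset_closure hd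
      set H := Subgroup.closure ({x * c * x⁻¹, d} : Set G) with hH
      set K := Q ⊔ (P : Subgroup G) with hK
      have hHK : H ≤ K := (Subgroup.closure_le _).2 (by
        rintro y (rfl | rfl)
        · exact mul_mem (mul_mem (Subgroup.mem_sup_left hx) (Subgroup.mem_sup_right hcP))
            (inv_mem (Subgroup.mem_sup_left hx))
        · exact Subgroup.mem_sup_right hdP)
      have hHp : IsPGroup p H := h x (hQN hx) c hc d hd
      let S₀ : Sylow p K := P.subtype le_sup_right
      obtain ⟨S, hS⟩ := IsPGroup.exists_le_sylow (hHp.comap_subtype (H := H) (K := K))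
      obtain ⟨k, hk⟩ := MulAction.exists_smul_eq K S S₀
      obtain ⟨π, hπ, u, hu, hku⟩ : ∃ π ∈ (P : Subgroup G), ∃ u ∈ Q, (k : G) = π * u := by
        have hk2 : (k : G) ∈ (((P : Subgroup G) ⊔ Q : Subgroup G) : Set G) := by
          rw [sup_comm]; exact k.2
        rw [Subgroup.coe_mul_of_left_le_normalizer_right _ _ hPQ] at hk2
        obtain ⟨π, hπ, u, hu, e⟩ := hk2
        exact ⟨π, hπ, u, hu, e.symm⟩
      have hconj : ∀ y ∈ H, u * y * u⁻¹ ∈ (P : Subgroup G) := by
        intro y hy
        have h1 : (⟨y, hHK hy⟩ : K) ∈ (S : Subgroup K) := hS hy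
        have h2 : k * ⟨y, hHK hy⟩ * k⁻¹ ∈ (S₀ : Subgroup K) := by
          rw [← hk]
          exact ⟨⟨y, hHK hy⟩, h1, rfl⟩
        have h3 : (k : G) * y * (k : G)⁻¹ ∈ (P : Subgroup G) := h2
        have h4 := mul_mem (mul_mem (inv_mem hπ) h3) hπ
        rw [hku] at h4
        convert h4 using 1
        group
      have hcomm : ∀ v ∈ Q, ∀ e ∈ (P : Subgroup G), v * e * v⁻¹ ∈ (P : Subgroup G) → v * e = e * v := by
        intro v hv e he hve
        have h1 : v * e * v⁻¹ * e⁻¹ ∈ Q ⊓ (P : Subgroup G) := by
          refine Subgroup.mem_inf.2 ⟨?_, mul_mem hve (inv_mem he)⟩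
          show v * e * v⁻¹ * e⁻¹ ∈ Q
          have h2 : e * v⁻¹ * e⁻¹ ∈ Q :=
            (Subgroup.mem_normalizer_iff.1 (hPQ he) v⁻¹).1 (inv_mem hv)
          have := mul_mem hv h2
          simpa only [← mul_assoc] using this
        rw [hdisj, Subgroup.mem_bot, mul_inv_eq_one, mul_inv_eq_iff_eq_mul] at h1
        exact h1
      have hb : u * d = d * u := hcomm u hu d hdP (hconj d (Subgroup.subset_closure (by simp)))
      refine ⟨u * x, mul_mem hu hx, u⁻¹, inv_mem hu, hcomm _ (mul_mem hu hx) c hcP ?_, ?_, by group⟩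
      · have := hconj (x * c * x⁻¹) (Subgroup.subset_closure (by simp))
        convert this using 1
        group
      · exact (Commute.inv_left (hb : Commute u d)).eq
    -- the action on the abelianization
    classical
    let φ : (P : Subgroup G) →* MulAut (Abelianization Q) :=
      { toFun := fun g => MulEquiv.abelianizationCongr
          { toFun := fun y => ⟨g * y * (g : G)⁻¹, (Subgroup.mem_normalizer_iff.1 (hPQ g.2) y).1 y.2⟩
            invFun := fun y => ⟨(g : G)⁻¹ * y * g, by
              have := (Subgroup.mem_normalizer_iff.1 (hPQ (inv_mem g.2)) y).1 y.2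
              simpa using this⟩
            left_inv := fun y => Subtype.ext (by simp [mul_assoc])
            right_inv := fun y => Subtype.ext (by simp [mul_assoc])
            map_mul' := fun a b => Subtype.ext (by simp [mul_assoc]) }
        map_one' := by
          refine MulEquiv.ext fun y => ?_
          obtain ⟨y, rfl⟩ := QuotientGroup.mk_surjective y
          show Abelianization.of _ = Abelianization.of y
          congr 1
          exact Subtype.ext (by simp)
        map_mul' := fun a b => by
          refine MulEquiv.ext fun y => ?_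
          obtain ⟨y, rfl⟩ := QuotientGroup.mk_surjective y
          show Abelianization.of _ = Abelianization.of _
          congr 1
          exact Subtype.ext (by simp [mul_assoc]) }
    have hAcop : (Nat.card (Abelianization Q)).Coprime p := by
      refine (hN.of_dvd_left ?_)
      exact (Subgroup.card_quotient_dvd_card _).trans (Subgroup.card_dvd_of_le hQN)
    have hgen : ∀ E : Set G, Subgroup.closure E = (P : Subgroup G) →
        Subgroup.closure (φ '' ((P : Subgroup G).subtype ⁻¹' E)) = φ.range := by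
      intro E hE
      rw [← MonoidHom.map_closure, MonoidHom.range_eq_map]
      congr 1
      refine Subgroup.map_injective (P : Subgroup G).subtype_injective ?_
      rw [MonoidHom.map_closure, ← MonoidHom.range_eq_map, Subgroup.range_subtype, Subgroup.coe_subtype,
        Set.image_preimage_eq_of_subset, hE]
      exact fun e he => ⟨⟨e, hE ▸ Subgroup.subset_closure he⟩, rfl⟩
    have hφ := Solv.TwoGenFixed.action_trivial (p := p) _ rfl hp2 hAcop φ.range
      (P.2.of_surjective φ.rangeRestrict φ.rangeRestrict_surjective) _ _ (hgen C hC) (hgen D hD) (by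
        rintro _ ⟨c, hc, rfl⟩ _ ⟨d, hd, rfl⟩ v
        obtain ⟨x, rfl⟩ := QuotientGroup.mk_surjective v
        obtain ⟨a, ha, b, hb, hac, hbd, hx⟩ := hstar _ hc _ hd _ x.2
        refine ⟨Abelianization.of ⟨a, ha⟩, Abelianization.of ⟨b, hb⟩, ?_, ?_, ?_⟩
        · show Abelianization.of _ = Abelianization.of _
          congr 1
          exact Subtype.ext (show (c : G) * a * (c : G)⁻¹ = a by rw [mul_inv_eq_iff_eq_mul]; exact hac.symm)
        · show Abelianization.of _ = Abelianization.of _
          congr 1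
          exact Subtype.ext (show (d : G) * b * (d : G)⁻¹ = b by rw [mul_inv_eq_iff_eq_mul]; exact hbd.symm)
        · show Abelianization.of x = _
          rw [mul_comm, ← map_mul]
          congr 1
          exact Subtype.ext hx)
    have hle : ⁅Q, (P : Subgroup G)⁆ ≤ ⁅Q, Q⁆ := by
      rw [Subgroup.commutator_le]
      intro x hx g hg
      have h1 : φ ⟨g, hg⟩ = 1 := Subgroup.mem_bot.1 (hφ ▸ ⟨_, rfl⟩)
      have h2 := MulEquiv.congr_fun h1 (Abelianization.of ⟨x, hx⟩)
      have h3 : (⟨x, hx⟩ : Q) * (⟨g * x * g⁻¹, (Subgroup.mem_normalizer_iff.1 (hPQ hg) x).1 hx⟩ : Q)⁻¹ ∈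
          commutator Q := by
        rw [← Abelianization.ker_of, MonoidHom.mem_ker, map_mul, map_inv, mul_inv_eq_one]
        exact h2.symm
      have h4 := Subgroup.mem_map_of_mem Q.subtype h3
      rw [commutator_def, Subgroup.map_commutator, ← MonoidHom.range_eq_map, Subgroup.range_subtype] at h4
      convert h4 using 1
      simp [commutatorElement_def, mul_assoc]
    by_contra hne
    have hWQ : ⁅Q, (P : Subgroup G)⁆ ≤ Q := Solv.commutator_normalizer_le _ _ hPQ
    have hQne : Q ≠ ⊥ := fun e => hne (by rw [e]; exact Subgroup.commutator_bot_left _)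
    haveI : Group.IsNilpotent Q := hQq.isNilpotent
    have hlt : ⁅Q, (P : Subgroup G)⁆ < Q :=
      lt_of_le_of_lt hle (Solv.commutator_lt_of_nilpotent inferInstance le_rfl Subgroup.le_normalizer hQne)
    have hcard : Nat.card ↥⁅Q, (P : Subgroup G)⁆ < m :=
      hQm ▸ lt_of_not_ge fun h => hlt.ne (Subgroup.eq_of_le_of_card_ge hlt.le h)
    have hW := ih _ hcard q ⁅Q, (P : Subgroup G)⁆ rfl (hWQ.trans hQN)
      (hQq.to_le hWQ) (Subgroup.normalizer_commutator_ge_right _ _)
    exact hne (Solv.commutator_eq_bot_of_commutator_commutator_eq_bot _ _ hPQ hQcop (Or.inl hPsol) hW)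
  rw [Subgroup.commutator_comm, Subgroup.commutator_eq_bot_iff_le_centralizer]
  refine Subgroup.relIndex_eq_one.1 ?_
  by_contra hne
  obtain ⟨q, hq, hd⟩ := Nat.exists_prime_and_dvd hne
  haveI : Fact q.Prime := ⟨hq⟩
  obtain ⟨S, hS⟩ := Solv.exists_invariant_sylow _ N hPN hPcop (Or.inl hPsol) q
  have h1 := hmain _ q _ rfl (Subgroup.map_subtype_le _) (S.2.map _) hS
  rw [Subgroup.commutator_eq_bot_iff_le_centralizer] at h1
  exact S.not_dvd_index (hd.trans (Subgroup.index_dvd_of_le (Subgroup.map_le_iff_le_comap.1 h1)))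

end Cfsg.Agent.S2277
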