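import Cfsg.Statements.S2278
import Cfsg.Agent.Lib.Struct.RegUnipGen

set_option autoImplicit false
open Cfsg

namespace Cfsg.Agent.S2278

open Matrix
open Cfsg.Agent.Struct.RegUnipGen

variable {F : Type*} [Field F]

theorem vec_smul (r a b c : F) : r • (![a, b, c] : Fin 3 → F) = ![r * a, r * b, r * c] := by
  ext i; fin_cases i <;> simp

theorem vec_add (a b c a' b' c' : F) : (![a, b, c] : Fin 3 → F) + ![a', b', c'] = ![a + a', b + b', c + c'] := by
  ext i; fin_cases i <;> simp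

theorem vec_sub (a b c a' b' c' : F) : (![a, b, c] : Fin 3 → F) - ![a', b', c'] = ![a - a', b - b', c - c'] := by
  ext i; fin_cases i <;> simp

theorem vec_dot (a b c a' b' c' : F) : (![a, b, c] : Fin 3 → F) ⬝ᵥ ![a', b', c'] = a * a' + b * b' + c * c' := by
  simp [dotProduct, Fin.sum_univ_three]

theorem vecMul_inv_eq {g : SpecialLinearGroup (Fin 3) F} {φ ψ : Fin 3 → F}
    (h : ψ ᵥ* (g : Matrix (Fin 3) (Fin 3) F) = φ) :
    φ ᵥ* ((g⁻¹ : SpecialLinearGroup (Fin 3) F) : Matrix (Fin 3) (Fin 3) F) = ψ := by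
  rw [← h, vecMul_vecMul, val_mul_inv, vecMul_one]

theorem full_univ {H : Subgroup (SpecialLinearGroup (Fin 3) F)} (h0 : Full H ![1, 0, 0]) (h1 : Full H ![0, 1, 0])
    (h2 : Full H ![0, 0, 1]) : H = ⊤ := by
  refine eq_top_of_full (by norm_num) fun φ => ?_
  have e : φ = φ 0 • ![1, 0, 0] + φ 1 • ![0, 1, 0] + φ 2 • ![0, 0, 1] := by
    ext i; fin_cases i <;> simp
  rw [e]
  exact full_add (full_add (full_smul h0 _) (full_smul h1 _)) (full_smul h2 _)

variable [Fintype F]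

theorem card_units : Nat.card Fˣ = Fintype.card F - 1 := by
  rw [Nat.card_units, Nat.card_eq_fintype_card]

/-- A subring containing the inverse cube of a generator is everything, unless `q ≤ 4`. -/
theorem subring_top (R : Subring F) (μ : Fˣ) (hμ : ∀ x, x ∈ Subgroup.zpowers μ) (hν : (((μ⁻¹) ^ 3 : Fˣ) : F) ∈ R)
    (hq : Fintype.card F ≠ 2 ∧ Fintype.card F ≠ 4) : ∀ x, x ∈ R := by
  classical
  have h2 : 2 ≤ Fintype.card F := Fintype.one_lt_card
  let K : Subfield F := { R with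
    inv_mem' := fun x hx => by
      rcases eq_or_ne x 0 with rfl | hx0
      · rw [_root_.inv_zero]; exact R.zero_mem
      · have e : x⁻¹ = x ^ (Fintype.card F - 2) := by
          apply inv_eq_of_mul_eq_one_right
          rw [← pow_succ', show Fintype.card F - 2 + 1 = Fintype.card F - 1 by omega, FiniteField.pow_card_sub_one_eq_one x hx0]
        rw [e]; exact pow_mem (show x ∈ R from hx) _ }
  set ν : Fˣ := (μ⁻¹) ^ 3
  have hord : orderOf μ = Fintype.card F - 1 := by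
    rw [← card_units]
    exact orderOf_eq_card_of_forall_mem_zpowers hμ
  have hν3 : Fintype.card F - 1 ≤ 3 * orderOf ν := by
    refine Nat.le_of_dvd (Nat.mul_pos (by norm_num) (orderOf_pos ν)) ?_
    rw [← hord]
    refine orderOf_dvd_of_pow_eq_one ?_
    have h := pow_orderOf_eq_one ν
    rwa [show ν ^ orderOf ν = (μ ^ (3 * orderOf ν))⁻¹ by rw [show ν = (μ⁻¹) ^ 3 from rfl, ← pow_mul, inv_pow], inv_eq_one] at h
  have hK : orderOf ν + 1 ≤ Nat.card K := by
    have hi : Function.Injective (fun o : Option (Fin (orderOf ν)) =>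
        (Option.elim o (0 : K) (fun i => ⟨(ν : F) ^ (i : ℕ), pow_mem hν _⟩))) := by
      intro a b hab
      rcases a with _ | a <;> rcases b with _ | b
      · rfl
      · exact absurd (congrArg Subtype.val hab).symm (pow_ne_zero _ ν.ne_zero)
      · exact absurd (congrArg Subtype.val hab) (pow_ne_zero _ ν.ne_zero)
      · have h : (ν : F) ^ (a : ℕ) = (ν : F) ^ (b : ℕ) := congrArg Subtype.val hab
        rw [← Units.val_pow_eq_pow_val, ← Units.val_pow_eq_pow_val] at h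
        exact congrArg some (Fin.ext (pow_injOn_Iio_orderOf a.isLt b.isLt (Units.ext h)))
    have := Nat.card_le_card_of_injective _ hi
    simpa using this
  have hd : Nat.card F = Nat.card K ^ Module.finrank K F := Module.natCard_eq_pow_finrank
  have hK2 : 2 ≤ Nat.card K := Finite.one_lt_card
  intro x
  by_cases hd1 : Module.finrank K F = 1
  · rw [hd1, pow_one] at hd
    have hb : Function.Bijective (Subtype.val : K → F) :=
      ⟨Subtype.val_injective, ((Function.Injective.bijective_of_nat_card_le Subtype.val_injective hd.le)).2⟩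
    obtain ⟨y, rfl⟩ := hb.2 x
    exact y.2
  · exfalso
    have hd0 : 0 < Module.finrank K F := Module.finrank_pos
    have hle : Nat.card K ^ 2 ≤ Nat.card F := by
      rw [hd]; exact Nat.pow_le_pow_right (by omega) (by omega)
    rw [Nat.card_eq_fintype_card (α := F)] at hle hd
    have hKle : Nat.card K ≤ 2 := by
      by_contra hc
      have h3 : 3 * Nat.card K ≤ Nat.card K ^ 2 := by rw [pow_two]; exact Nat.mul_le_mul_right _ (by omega)
      omega
    have hKeq : Nat.card K = 2 := by omega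
    rw [hKeq] at hd hle
    have : Fintype.card F ≤ 4 := by omega
    omega

theorem regular_J : IsNilpotent ((!![1, 1, 0; 0, 1, 1; 0, 0, 1] : Matrix (Fin 3) (Fin 3) F) - 1) ∧
    ((!![1, 1, 0; 0, 1, 1; 0, 0, 1] : Matrix (Fin 3) (Fin 3) F) - 1) ^ (3 - 1) ≠ 0 := by
  have e : (!![1, 1, 0; 0, 1, 1; 0, 0, 1] : Matrix (Fin 3) (Fin 3) F) - 1 = !![0, 1, 0; 0, 0, 1; 0, 0, 0] := by
    ext i j; fin_cases i <;> fin_cases j <;> simp [Matrix.one_apply]
  rw [e]
  refine ⟨⟨3, ?_⟩, fun h => ?_⟩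
  · ext i j; fin_cases i <;> fin_cases j <;> simp [pow_succ, Matrix.mul_apply, Fin.sum_univ_three]
  · have h' := congrFun (congrFun h 0) 2
    simp [pow_succ, Matrix.mul_apply, Fin.sum_univ_three] at h'

/-- Characteristic two. -/
theorem two_gen_even (h2 : (2 : F) = 0) :
    ∃ u g : SpecialLinearGroup (Fin 3) F, (u : Matrix (Fin 3) (Fin 3) F) = !![1, 1, 0; 0, 1, 1; 0, 0, 1] ∧
      Subgroup.closure ({u, g * u * g⁻¹} : Set (SpecialLinearGroup (Fin 3) F)) = ⊤ := by
  obtain ⟨ω₀, hω₀⟩ := IsCyclic.exists_generator (α := Fˣ)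
  set ω : F := ω₀.val with hωd
  have hω : ω ≠ 0 := ω₀.ne_zero
  let J : SpecialLinearGroup (Fin 3) F := ⟨!![1, 1, 0; 0, 1, 1; 0, 0, 1], by simp [Matrix.det_fin_three]⟩
  let g : SpecialLinearGroup (Fin 3) F := ⟨!![0, 0, ω⁻¹; 1, 0, 0; 0, ω, 0], by simp [Matrix.det_fin_three, hω]⟩
  have hv : ((g * J * g⁻¹ : SpecialLinearGroup (Fin 3) F) : Matrix (Fin 3) (Fin 3) F) =
      !![1, 0, 0; 0, 1, ω⁻¹; ω ^ 2, 0, 1] := by
    have e : (g : Matrix (Fin 3) (Fin 3) F) * (J : Matrix (Fin 3) (Fin 3) F) = !![1, 0, 0; 0, 1, ω⁻¹; ω ^ 2, 0, 1] * (g : Matrix (Fin 3) (Fin 3) F) := by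
      show !![0, 0, ω⁻¹; 1, 0, 0; 0, ω, 0] * !![1, 1, 0; 0, 1, 1; 0, 0, 1] = _ * !![0, 0, ω⁻¹; 1, 0, 0; 0, ω, 0]
      ext i j; fin_cases i <;> fin_cases j <;> simp [Matrix.mul_apply, Fin.sum_univ_three, hω] <;> field_simp
    rw [val_mul, val_mul, e, Matrix.mul_assoc, val_mul_inv, Matrix.mul_one]
  refine ⟨J, g, rfl, ?_⟩
  set v := g * J * g⁻¹
  set H := Subgroup.closure ({J, v} : Set (SpecialLinearGroup (Fin 3) F))
  have hJH : J ∈ H := Subgroup.subset_closure (by simp)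
  have hvH : v ∈ H := Subgroup.subset_closure (by simp)
  have hT : In H ![1, 0, 0] ![0, 0, 1] := by
    refine ⟨J * J, H.mul_mem hJH hJH, ?_⟩
    show !![1, 1, 0; 0, 1, 1; 0, 0, 1] * !![1, 1, 0; 0, 1, 1; 0, 0, 1] = _
    ext i j
    fin_cases i <;> fin_cases j <;> simp [Matrix.mul_apply, Fin.sum_univ_three, vecMulVec_apply, one_add_one_eq_two, h2]
  have hT' : In H ![0, 1, 0] ![ω, 0, 0] := by
    refine ⟨v * v, H.mul_mem hvH hvH, ?_⟩
    rw [val_mul, hv]
    ext i j
    fin_cases i <;> fin_cases j <;> simp [Matrix.mul_apply, Fin.sum_univ_three, vecMulVec_apply, ← two_mul, h2] <;> field_simp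
  have hfJ : ![0, 0, 1] ᵥ* (J : Matrix (Fin 3) (Fin 3) F) = ![0, 0, 1] := by
    show ![0, 0, 1] ᵥ* !![1, 1, 0; 0, 1, 1; 0, 0, 1] = _
    ext i; fin_cases i <;> simp [Matrix.vecMul, vec_dot, dotProduct, Fin.sum_univ_three]
  have hstep : ∀ s : F, In H ![s, 0, 0] ![0, 0, 1] → In H ![0, ω * s, 0] ![0, 0, 1] ∧ In H ![ω * s, 0, 0] ![0, 0, 1] := by
    intro s hs
    have h1 := in_comm (y := ![0, 1, 0]) (by rw [vec_dot]; ring) (by rw [vec_dot]; ring) hs hT'
    rw [vec_dot, vec_smul] at h1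
    simp only [zero_mul, add_zero, mul_zero, mul_one] at h1
    refine ⟨h1, ?_⟩
    have h3 := in_fix hJH hfJ h1
    rw [show (J : Matrix (Fin 3) (Fin 3) F) *ᵥ ![0, ω * s, 0] = ![ω * s, ω * s, 0] by
      show !![1, 1, 0; 0, 1, 1; 0, 0, 1] *ᵥ _ = _
      ext i; fin_cases i <;> simp [Matrix.mulVec, dotProduct, Fin.sum_univ_three]] at h3
    have h4 := in_sub (by rw [vec_dot]; ring) h3 h1
    rw [vec_sub] at h4
    simpa using h4
  have hpow : ∀ j : ℕ, In H ![ω ^ j, 0, 0] ![0, 0, 1] := by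
    intro j
    induction j with
    | zero => rw [pow_zero]; exact hT
    | succ j ih => rw [pow_succ']; exact (hstep _ ih).2
  have hS : ∀ a : F, In H ![a, 0, 0] ![0, 0, 1] := by
    intro a
    rcases eq_or_ne a 0 with rfl | ha
    · rw [show (![0, 0, 0] : Fin 3 → F) = 0 by ext i; fin_cases i <;> simp]; exact in_zero_left _
    · obtain ⟨j, hj⟩ : Units.mk0 a ha ∈ Submonoid.powers ω₀ := mem_powers_iff_mem_zpowers.2 (hω₀ _)
      have h1 : ω ^ j = a := by
        rw [hωd, ← Units.val_pow_eq_pow_val, show ω₀ ^ j = Units.mk0 a ha from hj, Units.val_mk0]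
      exact h1 ▸ hpow j
  have hf : Full H ![0, 0, 1] := by
    intro x hx
    have hxe : x = ![x 0, x 1, x 2] := by ext i; fin_cases i <;> simp
    rw [hxe, vec_dot] at hx
    simp only [zero_mul, zero_add, one_mul] at hx
    have h1 := (hstep (x 1 / ω) (hS _)).1
    rw [mul_div_cancel₀ _ hω] at h1
    have h2' := in_add (by rw [vec_dot]; ring) (hS (x 0)) h1
    rw [vec_add, add_zero, zero_add, add_zero] at h2'
    rw [hxe, hx]
    exact h2'
  have h0 : Full H ![1, 0, 0] := by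
    have h1 := full_smul (full_add (full_conj hf hvH) (full_smul hf (-1))) (ω ^ 2)⁻¹
    rw [hv] at h1
    convert h1 using 1
    ext i; fin_cases i <;> simp [Matrix.vecMul, dotProduct, Fin.sum_univ_three, hω]
  have h1 : Full H ![0, 1, 0] := by
    have h1 := full_add (full_conj h0 hJH) (full_smul h0 (-1))
    convert h1 using 1
    show _ = ![1, 0, 0] ᵥ* !![1, 1, 0; 0, 1, 1; 0, 0, 1] + _
    ext i; fin_cases i <;> simp [Matrix.vecMul, dotProduct, Fin.sum_univ_three]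
  exact full_univ h0 h1 hf

/-- Odd characteristic. -/
theorem two_gen_odd (h2 : (2 : F) ≠ 0) :
    ∃ u g : SpecialLinearGroup (Fin 3) F, (u : Matrix (Fin 3) (Fin 3) F) = !![1, 1, 0; 0, 1, 1; 0, 0, 1] ∧
      Subgroup.closure ({u, g * u * g⁻¹} : Set (SpecialLinearGroup (Fin 3) F)) = ⊤ := by
  classical
  obtain ⟨μ₀, hμ₀⟩ := IsCyclic.exists_generator (α := Fˣ)
  set μ : F := μ₀.val with hμd
  have hμ : μ ≠ 0 := μ₀.ne_zero
  set q := Fintype.card F with hq
  have hqF : (q : F) = 0 := FiniteField.cast_card_eq_zero F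
  have hq2 : q ≠ 2 := fun e => h2 (by rw [e] at hqF; simpa using hqF)
  have hq4 : q ≠ 4 := fun e => h2 (by
    rw [e] at hqF
    have : (2 : F) * 2 = 0 := by rw [← hqF]; norm_num
    exact (mul_eq_zero.1 this).elim id id)
  have hqge : 2 ≤ q := Fintype.one_lt_card
  have hord : orderOf μ₀ = q - 1 := by
    rw [hq, ← card_units]
    exact orderOf_eq_card_of_forall_mem_zpowers hμ₀
  have hμ3 : μ ^ 3 ≠ 1 := fun e => by
    have h : orderOf μ₀ ∣ 3 := orderOf_dvd_of_pow_eq_one (Units.ext (by rw [Units.val_pow_eq_pow_val]; exact e))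
    rw [hord] at h
    have := Nat.le_of_dvd (by norm_num) h
    have hq3 : q = 3 := by omega
    rw [hq3] at h; norm_num at h
  have hμ1 : μ - 1 ≠ 0 := sub_ne_zero.2 fun e => hμ3 (by rw [e, one_pow])
  set lam : F := (μ ^ 2)⁻¹ with hlam
  have hlamμ : lam - μ ≠ 0 := by
    refine sub_ne_zero.2 fun e => hμ3 ?_
    rw [hlam] at e
    have : μ ^ 2 * μ = 1 := by
      calc μ ^ 2 * μ = μ ^ 2 * (μ ^ 2)⁻¹ := by rw [e]
        _ = 1 := mul_inv_cancel₀ (pow_ne_zero _ hμ)
    rw [← this]; ring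
  set p : F := -(μ - 1) ^ 3 / μ ^ 2 with hp
  set b : F := 2 * μ - 3 + p with hb
  set h : F := b + lam with hh
  let J : SpecialLinearGroup (Fin 3) F := ⟨!![1, 1, 0; 0, 1, 1; 0, 0, 1], by simp [Matrix.det_fin_three]⟩
  let g : SpecialLinearGroup (Fin 3) F :=
    ⟨!![-1, -1, 0; -(μ - 1), 1, 0; (μ - 1) ^ 2 * (μ + 1) / μ ^ 2, -(μ - 1) / μ, -1 / μ], by
      simp [Matrix.det_fin_three]; field_simp; ring⟩
  have hv : ((g * J * g⁻¹ : SpecialLinearGroup (Fin 3) F) : Matrix (Fin 3) (Fin 3) F) =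
      !![μ + p, b, μ; -p, -b, -μ; p, b + lam, μ] := by
    have e : (g : Matrix (Fin 3) (Fin 3) F) * (J : Matrix (Fin 3) (Fin 3) F) = !![μ + p, b, μ; -p, -b, -μ; p, b + lam, μ] * (g : Matrix (Fin 3) (Fin 3) F) := by
      show !![-1, -1, 0; -(μ - 1), 1, 0; (μ - 1) ^ 2 * (μ + 1) / μ ^ 2, -(μ - 1) / μ, -1 / μ] * !![1, 1, 0; 0, 1, 1; 0, 0, 1] = _ * !![-1, -1, 0; -(μ - 1), 1, 0; (μ - 1) ^ 2 * (μ + 1) / μ ^ 2, -(μ - 1) / μ, -1 / μ]
      ext i j
      fin_cases i <;> fin_cases j <;> simp [Matrix.mul_apply, Fin.sum_univ_three, hb, hp, hlam] <;> field_simp <;> ring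
    rw [val_mul, val_mul, e, Matrix.mul_assoc, val_mul_inv, Matrix.mul_one]
  refine ⟨J, g, rfl, ?_⟩
  set v := g * J * g⁻¹
  set H := Subgroup.closure ({J, v} : Set (SpecialLinearGroup (Fin 3) F))
  have hJH : J ∈ H := Subgroup.subset_closure (by simp)
  have hvH : v ∈ H := Subgroup.subset_closure (by simp)
  set A := J * v
  have hAH : A ∈ H := H.mul_mem hJH hvH
  have hA : (A : Matrix (Fin 3) (Fin 3) F) = !![μ, 0, 0; 0, lam, 0; p, h, μ] := by
    rw [val_mul, hv]
    show !![1, 1, 0; 0, 1, 1; 0, 0, 1] * _ = _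
    ext i j
    fin_cases i <;> fin_cases j <;> simp [Matrix.mul_apply, Fin.sum_univ_three, hh]
  have hApow : ∀ k : ℕ, ((A ^ k : SpecialLinearGroup (Fin 3) F) : Matrix (Fin 3) (Fin 3) F) =
      !![μ ^ k, 0, 0; 0, lam ^ k, 0; k * p * μ ^ k / μ, h * (lam ^ k - μ ^ k) / (lam - μ), μ ^ k] := by
    intro k
    induction k with
    | zero =>
      rw [pow_zero]
      show (1 : Matrix (Fin 3) (Fin 3) F) = _
      ext i j
      fin_cases i <;> fin_cases j <;> simp
    | succ k ih =>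
      rw [pow_succ, val_mul, ih, hA]
      ext i j
      fin_cases i <;> fin_cases j <;> simp [Matrix.mul_apply, Fin.sum_univ_three, pow_succ] <;> field_simp <;> ring
  set c : F := -(p / μ) with hc
  have hc0 : c ≠ 0 := by
    rw [hc, hp]
    exact neg_ne_zero.2 (div_ne_zero (div_ne_zero (neg_ne_zero.2 (pow_ne_zero _ hμ1)) (pow_ne_zero _ hμ)) hμ)
  have hT : In H ![0, 0, c] ![1, 0, 0] := by
    refine ⟨A ^ (q - 1), H.pow_mem hAH _, ?_⟩
    rw [hApow, FiniteField.pow_card_sub_one_eq_one μ hμ,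
      FiniteField.pow_card_sub_one_eq_one lam (inv_ne_zero (pow_ne_zero _ hμ)), Nat.cast_sub (by omega : 1 ≤ q), hqF]
    ext i j
    fin_cases i <;> fin_cases j <;> simp [vecMulVec_apply, hc, neg_div]
  -- two companions of `T`
  have hA1 : In H ![0, c * c, c * c] ![1, 0, 0] := by
    have h1 := in_conj hJH hT
    rw [show (J : Matrix (Fin 3) (Fin 3) F) *ᵥ ![0, 0, c] = ![0, c, c] by
        show !![1, 1, 0; 0, 1, 1; 0, 0, 1] *ᵥ _ = _
        ext i; fin_cases i <;> simp [Matrix.mulVec, dotProduct, Fin.sum_univ_three],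
      vecMul_inv_eq (g := J) (ψ := ![1, -1, 1]) (φ := ![1, 0, 0]) (by
        show ![1, -1, 1] ᵥ* !![1, 1, 0; 0, 1, 1; 0, 0, 1] = _
        ext i; fin_cases i <;> simp [Matrix.vecMul, dotProduct, Fin.sum_univ_three])] at h1
    have h3 := in_comm (by rw [vec_dot]; ring) (by rw [vec_dot]; ring) hT h1
    rw [vec_dot, vec_smul] at h3
    simpa using h3
  have hB : In H ![0, 0, c * c] ![1, 1, 0] := by
    have h1 := in_conj (H.inv_mem hJH) hT
    rw [inv_inv, show ((J⁻¹ : SpecialLinearGroup (Fin 3) F) : Matrix (Fin 3) (Fin 3) F) *ᵥ ![0, 0, c] = ![c, -c, c] by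
        rw [show (![0, 0, c] : Fin 3 → F) = (J : Matrix (Fin 3) (Fin 3) F) *ᵥ ![c, -c, c] by
          show _ = !![1, 1, 0; 0, 1, 1; 0, 0, 1] *ᵥ _
          ext i; fin_cases i <;> simp [Matrix.mulVec, dotProduct, Fin.sum_univ_three],
          mulVec_mulVec, val_inv_mul, one_mulVec],
      show ![1, 0, 0] ᵥ* (J : Matrix (Fin 3) (Fin 3) F) = ![1, 1, 0] by
        show _ ᵥ* !![1, 1, 0; 0, 1, 1; 0, 0, 1] = _
        ext i; fin_cases i <;> simp [Matrix.vecMul, dotProduct, Fin.sum_univ_three]] at h1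
    have h3 := in_comm (by rw [vec_dot]; ring) (by rw [vec_dot]; ring) h1 hT
    rw [vec_dot, vec_smul] at h3
    simpa using h3
  let W : AddSubgroup F :=
    { carrier := {s | ∃ t, In H ![0, s, t] ![1, 0, 0]}
      zero_mem' := ⟨0, by rw [show (![0, 0, 0] : Fin 3 → F) = 0 by ext i; fin_cases i <;> simp]; exact in_zero_left _⟩
      add_mem' := fun {s s'} ⟨t, ht⟩ ⟨t', ht'⟩ => ⟨t + t', by
        have := in_add (by rw [vec_dot]; ring) ht ht'
        rwa [vec_add, add_zero] at this⟩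
      neg_mem' := fun {s} ⟨t, ht⟩ => ⟨-t, by
        have := in_neg (by rw [vec_dot]; ring) ht
        rwa [← neg_one_smul F (![0, s, t] : Fin 3 → F), vec_smul, mul_zero, neg_one_mul, neg_one_mul] at this⟩ }
  let R : Subring F :=
    { carrier := {r | ∀ s ∈ W, r * s ∈ W}
      one_mem' := fun s hs => by rwa [one_mul]
      mul_mem' := fun {r r'} hr hr' s hs => by rw [mul_assoc]; exact hr _ (hr' s hs)
      zero_mem' := fun s _ => by rw [zero_mul]; exact W.zero_mem
      add_mem' := fun {r r'} hr hr' s hs => by rw [add_mul]; exact W.add_mem (hr s hs) (hr' s hs)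
      neg_mem' := fun {r} hr s hs => by rw [neg_mul]; exact W.neg_mem (hr s hs) }
  have hνR : (((μ₀⁻¹) ^ 3 : Fˣ) : F) ∈ R := by
    rintro s ⟨t, ht⟩
    refine ⟨μ⁻¹ * (h * s + μ * t), ?_⟩
    have h1 := in_conj hAH ht
    rw [hA, show !![μ, 0, 0; 0, lam, 0; p, h, μ] *ᵥ ![0, s, t] = ![0, lam * s, h * s + μ * t] by
        ext i; fin_cases i <;> simp [Matrix.mulVec, dotProduct, Fin.sum_univ_three],
      vecMul_inv_eq (g := A) (ψ := μ⁻¹ • ![1, 0, 0]) (φ := ![1, 0, 0]) (by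
        rw [hA]
        ext i; fin_cases i <;> simp [Matrix.vecMul, dotProduct, Fin.sum_univ_three, hμ]),
      in_smul_right, vec_smul, mul_zero] at h1
    convert h1 using 3
    rw [Units.val_pow_eq_pow_val, Units.val_inv_eq_inv_val, hlam, ← hμd]
    ring
  have hR : ∀ r, r ∈ R := subring_top R μ₀ hμ₀ hνR ⟨hq2, hq4⟩
  have hW : ∀ s, ∃ t, In H ![0, s, t] ![1, 0, 0] := by
    intro s
    have h1 := hR (s / (c * c)) (c * c) ⟨_, hA1⟩
    rwa [div_mul_cancel₀ _ (mul_ne_zero hc0 hc0)] at h1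
  have hZ : ∀ a, In H ![0, 0, a] ![1, 0, 0] := by
    intro a
    obtain ⟨t, ht⟩ := hW (a / (c * c))
    have h3 := in_comm (by rw [vec_dot]; ring) (by rw [vec_dot]; ring) ht hB
    rw [vec_dot, vec_smul] at h3
    simpa [hc0] using h3
  have h0 : Full H ![1, 0, 0] := by
    intro x hx
    have hxe : x = ![x 0, x 1, x 2] := by ext i; fin_cases i <;> simp
    rw [hxe, vec_dot] at hx
    simp only [zero_mul, add_zero, one_mul] at hx
    obtain ⟨t, ht⟩ := hW (x 1)
    have h1 := in_add (by rw [vec_dot]; ring) ht (hZ (x 2 - t))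
    rw [vec_add, add_zero, add_zero, add_sub_cancel] at h1
    rw [hxe, hx]
    exact h1
  have h1 : Full H ![0, 1, 0] := by
    have h1 := full_add (full_conj h0 hJH) (full_smul h0 (-1))
    convert h1 using 1
    show _ = ![1, 0, 0] ᵥ* !![1, 1, 0; 0, 1, 1; 0, 0, 1] + _
    ext i; fin_cases i <;> simp [Matrix.vecMul, dotProduct, Fin.sum_univ_three]
  have h2' : Full H ![0, 0, 1] := by
    have h2' := full_add (full_conj h1 hJH) (full_smul h1 (-1))
    convert h2' using 1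
    show _ = ![0, 1, 0] ᵥ* !![1, 1, 0; 0, 1, 1; 0, 0, 1] + _
    ext i; fin_cases i <;> simp [Matrix.vecMul, dotProduct, Fin.sum_univ_three]
  exact full_univ h0 h1 h2'

/-- Let F be a finite field. Then SL_3(F) is generated by two conjugate regular unipotent elements: there are u with u − 1 nilpotent and (u − 1)² ≠ 0, and g, such that u and g u g⁻¹ generate SL_3(F). -/
theorem result {F : Type*} [Field F] [Fintype F] :
    ∃ u g : Matrix.SpecialLinearGroup (Fin 3) F, IsNilpotent ((u : Matrix (Fin 3) (Fin 3) F) - 1) ∧ ((u : Matrix (Fin 3) (Fin 3) F) - 1) ^ (3 - 1) ≠ 0 ∧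
      Subgroup.closure ({u, g * u * g⁻¹} : Set (Matrix.SpecialLinearGroup (Fin 3) F)) = ⊤ := by
  obtain ⟨u, g, hu, hg⟩ : ∃ u g : Matrix.SpecialLinearGroup (Fin 3) F, (u : Matrix (Fin 3) (Fin 3) F) = !![1, 1, 0; 0, 1, 1; 0, 0, 1] ∧
      Subgroup.closure ({u, g * u * g⁻¹} : Set (Matrix.SpecialLinearGroup (Fin 3) F)) = ⊤ := by
    rcases eq_or_ne (2 : F) 0 with h2 | h2
    · exact two_gen_even h2
    · exact two_gen_odd h2
  exact ⟨u, g, by rw [hu]; exact regular_J.1, by rw [hu]; exact regular_J.2, hg⟩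

end Cfsg.Agent.S2278
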