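import Cfsg.Statements.S2279
import Cfsg.Agent.Lib.Struct.RegUnipTwo
import Cfsg.Agent.S2278

set_option autoImplicit false
open Cfsg

namespace Cfsg.Agent.S2279

open Matrix
open Cfsg.Agent.Struct.RegUnipGen
open Cfsg.Agent.Struct.RegUnipTwo

variable {F : Type*} [Field F] [Fintype F]

/-- The conclusion of the first half. -/
def Pair (n : ℕ) (F : Type*) [Field F] : Prop :=
  ∃ u v : SpecialLinearGroup (Fin n) F, (IsNilpotent ((u : Matrix (Fin n) (Fin n) F) - 1) ∧ ((u : Matrix (Fin n) (Fin n) F) - 1) ^ (n - 1) ≠ 0) ∧
    (IsNilpotent ((v : Matrix (Fin n) (Fin n) F) - 1) ∧ ((v : Matrix (Fin n) (Fin n) F) - 1) ^ (n - 1) ≠ 0) ∧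
    Subgroup.closure ({u, v} : Set (SpecialLinearGroup (Fin n) F)) = ⊤

/-- The conclusion of the second half. -/
def ConjPair (n : ℕ) (F : Type*) [Field F] : Prop :=
  ∃ u g : SpecialLinearGroup (Fin n) F, (IsNilpotent ((u : Matrix (Fin n) (Fin n) F) - 1) ∧ ((u : Matrix (Fin n) (Fin n) F) - 1) ^ (n - 1) ≠ 0) ∧
    Subgroup.closure ({u, g * u * g⁻¹} : Set (SpecialLinearGroup (Fin n) F)) = ⊤

theorem conj_regular {n : ℕ} (u g : SpecialLinearGroup (Fin n) F)
    (h : IsNilpotent ((u : Matrix (Fin n) (Fin n) F) - 1) ∧ ((u : Matrix (Fin n) (Fin n) F) - 1) ^ (n - 1) ≠ 0) :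
    IsNilpotent (((g * u * g⁻¹ : SpecialLinearGroup (Fin n) F) : Matrix (Fin n) (Fin n) F) - 1) ∧
      (((g * u * g⁻¹ : SpecialLinearGroup (Fin n) F) : Matrix (Fin n) (Fin n) F) - 1) ^ (n - 1) ≠ 0 := by
  set G := (g : Matrix (Fin n) (Fin n) F)
  set Gi := ((g⁻¹ : SpecialLinearGroup (Fin n) F) : Matrix (Fin n) (Fin n) F)
  set X := (u : Matrix (Fin n) (Fin n) F) - 1
  have e1 : G * Gi = 1 := val_mul_inv g
  have e2 : Gi * G = 1 := val_inv_mul g
  have e : ((g * u * g⁻¹ : SpecialLinearGroup (Fin n) F) : Matrix (Fin n) (Fin n) F) - 1 = G * X * Gi := by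
    rw [Matrix.mul_sub, Matrix.mul_one, Matrix.sub_mul, e1]; rfl
  have hk : ∀ k, (G * X * Gi) ^ k = G * X ^ k * Gi := by
    intro k
    induction k with
    | zero => rw [pow_zero, pow_zero, Matrix.mul_one, e1]
    | succ k ih =>
      rw [pow_succ, ih, pow_succ,
        show G * X ^ k * Gi * (G * X * Gi) = G * X ^ k * (Gi * G) * X * Gi by simp only [Matrix.mul_assoc], e2, Matrix.mul_one]
      simp only [Matrix.mul_assoc]
  rw [e]
  obtain ⟨⟨m, hm⟩, hne⟩ := h
  refine ⟨⟨m, by rw [hk, hm, Matrix.mul_zero, Matrix.zero_mul]⟩, fun h0 => hne ?_⟩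
  rw [hk] at h0
  have h1 := congrArg (fun Y => Gi * Y * G) h0
  rw [show Gi * (G * X ^ (n - 1) * Gi) * G = (Gi * G) * X ^ (n - 1) * (Gi * G) by simp only [Matrix.mul_assoc],
    e2, Matrix.one_mul, Matrix.mul_one, Matrix.mul_zero, Matrix.zero_mul] at h1
  exact h1

theorem pair_of_conjPair {n : ℕ} (h : ConjPair n F) : Pair n F := by
  obtain ⟨u, g, hu, hgen⟩ := h
  exact ⟨u, g * u * g⁻¹, hu, conj_regular u g hu, hgen⟩

theorem pair_of_gen {n : ℕ} (hn : 4 ≤ n) {ξ : F} (hξ : ξ ≠ 0)
    (h : Subgroup.closure ({V n F, U hn hξ} : Set (SpecialLinearGroup (Fin n) F)) = ⊤) : Pair n F :=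
  ⟨V n F, U hn hξ, V_nilpotent (by omega), U_nilpotent hn hξ, h⟩

theorem conjPair_of_gen {n : ℕ} (hn : 4 ≤ n) {ξ : F} (hξ : ξ ≠ 0) (t : F) (ht : t ^ n = ξ)
    (h : Subgroup.closure ({V n F, U hn hξ} : Set (SpecialLinearGroup (Fin n) F)) = ⊤) : ConjPair n F := by
  obtain ⟨g, hg⟩ := U_conj hn hξ t ht
  exact ⟨V n F, g, V_nilpotent (by omega), hg ▸ h⟩

theorem choose_lucas_block (p : ℕ) [Fact p.Prime] (A B : ℕ) :
    ∀ l : ℕ, (p ^ l * A + (p ^ l - 1)).choose (p ^ l * B) ≡ A.choose B [MOD p]
  | 0 => by simp [Nat.ModEq.refl]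
  | l + 1 => by
    have hp : 0 < p := (Fact.out : p.Prime).pos
    have e : p ^ (l + 1) * A + (p ^ (l + 1) - 1) = (p - 1) + p * (p ^ l * A + (p ^ l - 1)) := by
      have h1 : 0 < p ^ l := pow_pos hp l
      have h2 : p ≤ p * p ^ l := Nat.le_mul_of_pos_right p h1
      rw [pow_succ', Nat.mul_add, Nat.mul_sub, Nat.mul_one, ← mul_assoc]
      omega
    refine (Choose.choose_modEq_choose_mod_mul_choose_div_nat (p := p)).trans ?_
    rw [e, Nat.add_mul_mod_self_left, Nat.mod_eq_of_lt (show p - 1 < p by omega), Nat.add_mul_div_left _ _ hp,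
      Nat.div_eq_of_lt (show p - 1 < p by omega), zero_add, show p ^ (l + 1) * B = p * (p ^ l * B) by rw [pow_succ']; ring,
      Nat.mul_mod_right, Nat.mul_div_cancel_left _ hp, Nat.choose_zero_right, one_mul]
    exact choose_lucas_block p A B l

theorem cast_eq_of_mod (p : ℕ) [CharP F p] {a b : ℕ} (h : a ≡ b [MOD p]) : (a : F) = (b : F) :=
  (CharP.natCast_eq_natCast F p).2 h

theorem top_of_generator (K : Subfield F) (μ : Fˣ) (hμ : ∀ x, x ∈ Subgroup.zpowers μ) (h : (μ : F) ∈ K) : ∀ x, x ∈ K := by
  intro x
  rcases eq_or_ne x 0 with rfl | hx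
  · exact K.zero_mem
  · obtain ⟨i, hi⟩ := Subgroup.mem_zpowers_iff.1 (hμ (Units.mk0 x hx))
    have e : x = (μ : F) ^ i := by rw [← Units.val_zpow_eq_zpow_val, hi]; rfl
    rw [e]; exact zpow_mem h i

theorem mem_of_pow_two_mem [CharP F 2] (K : Subfield F) : ∀ (l : ℕ) (x : F), x ^ (2 ^ l) ∈ K → x ∈ K
  | 0, x, h => by simpa using h
  | l + 1, x, h => by
    refine mem_of_pow_two_mem K l x ?_
    rw [pow_succ, pow_mul] at h
    haveI : Fact (Nat.Prime 2) := ⟨Nat.prime_two⟩
    let s : K → K := fun y => ⟨(y : F) ^ 2, pow_mem y.2 2⟩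
    have hs : Function.Injective s := fun a b hab => Subtype.ext (frobenius_inj F 2 (congrArg Subtype.val hab))
    obtain ⟨y, hy⟩ := Finite.injective_iff_surjective.1 hs ⟨_, h⟩
    have e : (y : F) = x ^ 2 ^ l := frobenius_inj F 2 (congrArg Subtype.val hy)
    exact e ▸ y.2

theorem even_pair {n : ℕ} (hn : 4 ≤ n) (h2 : (2 : F) = 0) (h44 : n = 4 → Fintype.card F ≠ 4) : Pair n F := by
  classical
  haveI : CharP F 2 := CharTwo.of_one_ne_zero_of_two_eq_zero one_ne_zero h2
  haveI : Fact (Nat.Prime 2) := ⟨Nat.prime_two⟩
  by_cases hq2 : Fintype.card F = 2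
  · refine pair_of_gen hn (one_ne_zero : (1 : F) ≠ 0) (gen_generic hn one_ne_zero ?_ ?_ fun K _ _ x => ?_)
    · rw [h2, neg_zero, zero_pow (by omega), add_zero]; exact one_ne_zero
    · rw [h2, neg_zero, zero_pow (by omega)]; exact one_ne_zero
    · by_cases hx : x = 0
      · rw [hx]; exact K.zero_mem
      · rw [show x = 1 by have := FiniteField.pow_card_sub_one_eq_one x hx; simpa [hq2] using this]; exact K.one_mem
  obtain ⟨μ, hμ⟩ := IsCyclic.exists_generator (α := Fˣ)
  have hξ : (μ : F) ≠ 0 := μ.ne_zero
  refine pair_of_gen hn hξ (gen_generic hn hξ ?_ ?_ fun K hε hjump => ?_)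
  · rw [h2, neg_zero, zero_pow (by omega), add_zero]; exact hξ
  · rw [h2, neg_zero, zero_pow (by omega)]; exact hξ
  have hκ : A n (μ : F) (-1) = μ := by
    rw [A_neg_one (by omega), h2, neg_zero, zero_pow (show n ≠ 0 by omega), zero_sub, CharTwo.neg_eq, CharTwo.neg_eq,
      one_pow, one_mul]
  rw [hκ] at hε hjump
  rw [h2, neg_zero, zero_pow (show n ≠ 0 by omega), add_zero, ← pow_succ', show n - 2 + 1 = n - 1 by omega] at hε
  by_cases h4 : n = 4
  · subst h4
    refine Cfsg.Agent.S2278.subring_top K.toSubring μ hμ ?_ ⟨hq2, h44 rfl⟩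
    rw [Units.val_pow_eq_pow_val, Units.val_inv_eq_inv_val, inv_pow]
    exact K.inv_mem hε
  obtain ⟨l, N, hNodd, hlN⟩ := Nat.exists_eq_pow_mul_and_not_dvd (show n - 1 ≠ 0 by omega) 2 (by norm_num)
  refine top_of_generator K μ hμ (mem_of_pow_two_mem K l _ ?_)
  by_cases hN1 : N = 1
  · rw [hN1, mul_one] at hlN
    rwa [hlN] at hε
  have h2l : 1 ≤ 2 ^ l := Nat.one_le_two_pow
  obtain ⟨M, hM⟩ : ∃ M, N = 2 * M + 1 := Nat.odd_iff.2 (by omega) |>.imp fun _ h => h
  have hbig : 3 * 2 ^ l ≤ n - 1 := by
    rw [hlN, mul_comm]; exact Nat.mul_le_mul_left _ (by omega)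
  have h1 := hjump (1 + 2 ^ l) (by omega) (by omega)
  have hc : ((Nat.choose (1 + 2 ^ l + (n - 2) - 1) (n - 2) : ℕ) : F) = 1 := by
    rw [← Nat.choose_symm (show n - 2 ≤ 1 + 2 ^ l + (n - 2) - 1 by omega),
      show 1 + 2 ^ l + (n - 2) - 1 - (n - 2) = 2 ^ l * 1 by omega,
      show 1 + 2 ^ l + (n - 2) - 1 = 2 ^ l * N + (2 ^ l - 1) by omega]
    rw [cast_eq_of_mod 2 (choose_lucas_block 2 N 1 l), Nat.choose_one_right, hM]
    push_cast
    rw [h2, zero_mul, zero_add]
  have hA : A n (μ : F) (-((1 + 2 ^ l : ℕ) : ℤ)) = μ := by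
    rw [A_neg (by omega), hc, h2, neg_zero, zero_pow (show n ≠ 0 by omega), CharTwo.neg_eq, one_pow]
    ring
  rw [hA, pow_add, pow_one] at h1
  have e : (μ : F) / ((μ : F) * (μ : F) ^ 2 ^ l) = ((μ : F) ^ 2 ^ l)⁻¹ := by field_simp
  rw [e] at h1
  simpa using K.inv_mem h1

/-- Elements lying in some proper subfield. -/
noncomputable def small (F : Type*) [Field F] [Fintype F] (p D : ℕ) : Finset F := by
  classical exact (Finset.Icc 1 D).biUnion fun d => Finset.univ.filter fun x : F => x ^ (p ^ d) = x

theorem card_small (p : ℕ) (hp : 3 ≤ p) (D : ℕ) : 2 * (small F p D).card ≤ 3 * p ^ D := by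
  classical
  have hfix : ∀ d, 1 ≤ d → (Finset.univ.filter fun x : F => x ^ (p ^ d) = x).card ≤ p ^ d := fun d hd => by
    have h1 : 1 < p ^ d := Nat.one_lt_pow (by omega) (by omega)
    have h := Polynomial.card_le_degree_of_subset_roots (p := (Polynomial.X ^ (p ^ d) - Polynomial.X : Polynomial F))
      (Z := Finset.univ.filter fun x : F => x ^ (p ^ d) = x) (fun x hx => by
        rw [Polynomial.mem_roots (FiniteField.X_pow_card_sub_X_ne_zero F h1)]
        simp at hx
        simp [hx])
    rwa [FiniteField.X_pow_card_sub_X_natDegree_eq F h1] at h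
  induction D with
  | zero => simp [small]
  | succ D ih =>
    have e : small F p (D + 1) = small F p D ∪ Finset.univ.filter (fun x : F => x ^ (p ^ (D + 1)) = x) := by
      ext x
      simp only [small, Finset.mem_biUnion, Finset.mem_Icc, Finset.mem_filter, Finset.mem_univ, true_and, Finset.mem_union]
      constructor
      · rintro ⟨d, ⟨h1, h2⟩, h3⟩
        rcases Nat.eq_or_lt_of_le h2 with h | h
        · right; rw [← h]; exact h3
        · left; exact ⟨d, ⟨h1, by omega⟩, h3⟩
      · rintro (⟨d, ⟨h1, h2⟩, h3⟩ | h3)
        · exact ⟨d, ⟨h1, by omega⟩, h3⟩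
        · exact ⟨D + 1, ⟨by omega, le_rfl⟩, h3⟩
    rw [e]
    refine le_trans (Nat.mul_le_mul_left 2 (Finset.card_union_le _ _)) ?_
    have h1 := hfix (D + 1) (by omega)
    have h2 : 3 * p ^ D ≤ p ^ (D + 1) := by rw [pow_succ']; exact Nat.mul_le_mul_right _ hp
    omega

theorem card_small_one (p : ℕ) (hp : 3 ≤ p) : (small F p 1).card ≤ p := by
  classical
  have h := Polynomial.card_le_degree_of_subset_roots (p := (Polynomial.X ^ p - Polynomial.X : Polynomial F))
    (Z := small F p 1) (fun x hx => by
      rw [Polynomial.mem_roots (FiniteField.X_pow_card_sub_X_ne_zero F (by omega))]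
      simp [small] at hx
      simp [hx])
  rwa [FiniteField.X_pow_card_sub_X_natDegree_eq F (by omega)] at h

theorem zero_mem_small (p : ℕ) [Fact p.Prime] {D : ℕ} (hD : 1 ≤ D) : (0 : F) ∈ small F p D := by
  classical
  simp only [small, Finset.mem_biUnion, Finset.mem_Icc, Finset.mem_filter, Finset.mem_univ, true_and]
  exact ⟨1, ⟨le_rfl, hD⟩, zero_pow (pow_ne_zero _ (Fact.out : p.Prime).ne_zero)⟩

theorem proper_mem_small (p e : ℕ) [Fact p.Prime] [CharP F p] (hF : Fintype.card F = p ^ e) (K : Subfield F) {x : F}
    (hx : x ∈ K) (hK : ¬ ∀ y, y ∈ K) : x ∈ small F p (e / 2) := by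
  classical
  obtain ⟨d, -, hd⟩ := FiniteField.card K p
  have hp : p.Prime := Fact.out
  have hr : Fintype.card F = Fintype.card K ^ Module.finrank K F := Module.card_eq_pow_finrank
  have hr1 : Module.finrank K F ≠ 1 := fun h1 => hK fun y => by
    rw [h1, pow_one] at hr
    have hb : Function.Bijective (Subtype.val : K → F) :=
      (Fintype.bijective_iff_injective_and_card _).2 ⟨Subtype.val_injective, hr.symm⟩
    obtain ⟨z, rfl⟩ := hb.2 y
    exact z.2
  have hr0 : 0 < Module.finrank K F := Module.finrank_pos
  rw [hF, hd, ← pow_mul] at hr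
  have he : e = (d : ℕ) * Module.finrank K F := Nat.pow_right_injective hp.two_le hr
  have h2 : (d : ℕ) * 2 ≤ e := by rw [he]; exact Nat.mul_le_mul_left _ (by omega)
  simp only [small, Finset.mem_biUnion, Finset.mem_Icc, Finset.mem_filter, Finset.mem_univ, true_and]
  refine ⟨d, ⟨d.pos, by omega⟩, ?_⟩
  have h := congrArg Subtype.val (FiniteField.pow_card (⟨x, hx⟩ : K))
  rw [hd] at h
  simpa using h

/-- Counting: a value avoiding finitely many bad ones. -/
theorem exists_avoid (p e : ℕ) [Fact p.Prime] [CharP F p] (hp : 3 ≤ p) (he : 2 ≤ e) (hF : Fintype.card F = p ^ e)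
    (D : ℕ) (hD : D ≤ 3) (h9 : D = 3 → Fintype.card F ≠ 9) (Z : Finset F) (hZ : Z.card ≤ 4)
    (P : F → Polynomial F) (hP : ∀ c ∈ small F p (e / 2), c ≠ 0 → P c ≠ 0 ∧ (P c).natDegree ≤ D) :
    ∃ a, a ∉ Z ∧ ∀ c ∈ small F p (e / 2), c ≠ 0 → ¬ (P c).IsRoot a := by
  classical
  by_contra hc
  push Not at hc
  set W := (small F p (e / 2)).erase 0
  have hsub : (Finset.univ : Finset F) ⊆ Z ∪ W.biUnion (fun c => (P c).roots.toFinset) := by
    intro a _
    by_cases ha : a ∈ Z
    · exact Finset.mem_union_left _ ha
    · obtain ⟨c, hc1, hc0, hc2⟩ := hc a ha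
      refine Finset.mem_union_right _ (Finset.mem_biUnion.2 ⟨c, Finset.mem_erase.2 ⟨hc0, hc1⟩, ?_⟩)
      rw [Multiset.mem_toFinset, Polynomial.mem_roots (hP c hc1 hc0).1]
      exact hc2
  have h1 := (Finset.card_le_card hsub).trans (Finset.card_union_le _ _)
  have h2 : (W.biUnion fun c => (P c).roots.toFinset).card ≤ W.card * D :=
    Finset.card_biUnion_le_card_mul _ _ _ fun c hc => by
      obtain ⟨hc0, hc1⟩ := Finset.mem_erase.1 hc
      exact (Multiset.toFinset_card_le _).trans ((Polynomial.card_roots' _).trans (hP c hc1 hc0).2)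
  have h3 := card_small (F := F) p hp (e / 2)
  have hW : W.card = (small F p (e / 2)).card - 1 :=
    Finset.card_erase_of_mem (zero_mem_small p (by omega))
  have hS1 : 1 ≤ (small F p (e / 2)).card := Finset.card_pos.2 ⟨0, zero_mem_small p (by omega)⟩
  rw [Finset.card_univ, hF] at h1
  have hPP : p ^ (e / 2) * p ^ (e / 2) ≤ p ^ e := by
    rw [← pow_add]; exact Nat.pow_le_pow_right (by omega) (by omega)
  have hWD : W.card * D ≤ W.card * 3 := Nat.mul_le_mul_left _ hD
  rcases le_or_gt 5 (p ^ (e / 2)) with h5 | h5
  · have h55 : 5 * p ^ (e / 2) ≤ p ^ (e / 2) * p ^ (e / 2) := Nat.mul_le_mul_right _ h5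
    omega
  · have hpe : p ≤ p ^ (e / 2) := Nat.le_self_pow (by omega) p
    have hp3 : p = 3 := by
      rcases Nat.lt_or_ge p 4 with h | h
      · omega
      · have : p = 4 := by omega
        subst this; exact absurd (Fact.out : Nat.Prime 4) (by norm_num)
    subst hp3
    have he2 : e / 2 = 1 := by
      by_contra hne
      have : 3 ^ 2 ≤ 3 ^ (e / 2) := Nat.pow_le_pow_right (by norm_num) (by omega)
      omega
    rw [he2] at h3 hW hS1
    have hs1 : (small F 3 1).card ≤ 3 := card_small_one 3 le_rfl
    rcases (show e = 2 ∨ e = 3 by omega) with rfl | rfl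
    · have hne3 : D ≠ 3 := fun h => h9 h (by rw [hF]; norm_num)
      have : W.card * D ≤ W.card * 2 := Nat.mul_le_mul_left _ (by omega)
      omega
    · omega

theorem odd_pair {n : ℕ} (hn : 4 ≤ n) (p e : ℕ) [Fact p.Prime] [CharP F p] (hp : 3 ≤ p) (he : 2 ≤ e)
    (hF : Fintype.card F = p ^ e) : Pair n F := by
  classical
  have h2 : (2 : F) ≠ 0 := by
    intro h
    have h' : p ∣ 2 := (CharP.cast_eq_zero_iff F p 2).1 (by exact_mod_cast h)
    have := Nat.le_of_dvd (by norm_num) h'
    omega
  set b : F := (-2) ^ n with hb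
  have hb0 : b ≠ 0 := pow_ne_zero _ (neg_ne_zero.2 h2)
  set r : F := 2 * b with hr
  suffices h : ∃ a : F, a ≠ 0 ∧ a ≠ r ∧ a ≠ b ∧ ∀ K : Subfield F, a * A n (a - b) (-1) ^ (n - 2) ∈ K →
      (∀ m : ℕ, 2 ≤ m → m ≤ n - 3 → A n (a - b) (-(m : ℤ)) / A n (a - b) (-1) ^ m ∈ K) → ∀ x, x ∈ K by
    obtain ⟨a, ha0, har, hab, hgen⟩ := h
    refine pair_of_gen hn (sub_ne_zero.2 hab) (gen_generic hn _ ?_ ?_ ?_)
    · rw [sub_add_cancel]; exact ha0
    · intro hh; exact har (by rw [hr, hb]; linear_combination hh)
    · rw [sub_add_cancel]; exact hgen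
  have hκ : ∀ a, A n (a - b) (-1) = (-1) ^ n * (r - a) := fun a => by rw [A_neg_one (by omega), hr]; ring
  by_cases h4 : n = 4
  · subst h4
    by_cases h9 : Fintype.card F = 9
    · obtain ⟨i, hi⟩ : IsSquare (-1 : F) := FiniteField.isSquare_neg_one_iff.2 (by rw [h9]; norm_num)
      have hp3 : p = 3 := ((Nat.prime_dvd_prime_iff_eq (Fact.out : p.Prime) Nat.prime_three).1
        ((Fact.out : p.Prime).dvd_of_dvd_pow (show p ∣ 3 ^ 2 by rw [show (3 : ℕ) ^ 2 = 9 by norm_num, ← h9, hF]; exact dvd_pow_self p (by omega))))
      subst hp3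
      have h3 : (3 : F) = 0 := by exact_mod_cast CharP.cast_eq_zero F 3
      have hb1 : b = 1 := by rw [hb]; linear_combination 5 * h3
      have hii : ¬ i * i = 1 := fun h => h2 (by linear_combination -h - hi)
      refine ⟨1 + i, fun h => hii (by linear_combination (i - 1) * h), fun h => hii ?_,
        fun h => hii ?_, fun K hK _ => ?_⟩
      · rw [hr, hb1] at h; linear_combination (i + 1) * h
      · rw [hb1] at h
        have : i = 0 := by linear_combination h
        rw [this, mul_zero] at hi
        exact absurd hi (neg_ne_zero.2 one_ne_zero)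
      · have e1 : (1 + i) * A 4 (1 + i - b) (-1) ^ (4 - 2) = i - 1 := by
          rw [hκ, hr, hb1]
          norm_num
          linear_combination (1 - i) * hi + (1 - i) * h3
        rw [e1] at hK
        have hiK : i ∈ K := by simpa using K.add_mem hK K.one_mem
        intro x
        by_contra hx
        have h := proper_mem_small 3 e hF K hiK (fun hall => hx (hall x))
        have he2 : e = 2 := Nat.pow_right_injective (show 2 ≤ 3 by norm_num) (show 3 ^ e = 3 ^ 2 by rw [← hF, h9])
        subst he2
        simp [small] at h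
        exact hii (by
          have hi0 : i ≠ 0 := fun e => by rw [e, mul_zero] at hi; exact neg_ne_zero.2 one_ne_zero hi
          have : i * (i * i - 1) = 0 := by linear_combination h
          linear_combination (mul_eq_zero.1 this).resolve_left hi0)
    obtain ⟨a, ha, hroot⟩ := exists_avoid p e hp he hF 3 le_rfl (fun _ => h9) {0, r, b} (Finset.card_le_three.trans (by norm_num))
      (fun c => Polynomial.X * (Polynomial.X - Polynomial.C r) ^ 2 - Polynomial.C c) (fun c _ hc => by
        refine ⟨fun h => hc ?_, by compute_degree⟩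
        have h' := congrArg (Polynomial.eval 0) h
        simpa using h')
    simp only [Finset.mem_insert, Finset.mem_singleton, not_or] at ha
    refine ⟨a, ha.1, ha.2.1, ha.2.2, fun K hK _ => ?_⟩
    have e1 : a * A 4 (a - b) (-1) ^ (4 - 2) = a * (a - r) ^ 2 := by rw [hκ]; ring
    rw [e1] at hK
    intro x
    by_contra hx
    have h := proper_mem_small p e hF K hK (fun hall => hx (hall x))
    refine hroot _ h (mul_ne_zero ha.1 (pow_ne_zero _ (sub_ne_zero.2 ha.2.1))) ?_
    simp [Polynomial.IsRoot]
  -- `n ≥ 5`
  set s : F := (-1) ^ n with hs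
  have hs2 : s * s = 1 := by rw [hs, ← mul_pow]; norm_num
  obtain ⟨a, ha, hroot⟩ := exists_avoid p e hp he hF 2 (by norm_num) (fun h => absurd h (by norm_num))
    {0, r, b, if ((n : F) + 1) = 0 then 0 else (n : F) * r / ((n : F) + 1)} (Finset.card_le_four)
    (fun c => Polynomial.C c * (Polynomial.X - Polynomial.C r) ^ 2 +
      (Polynomial.C (s * ((n : F) + 1)) * Polynomial.X - Polynomial.C (s * n * r))) (fun c _ hc => by
      refine ⟨fun h => ?_, by compute_degree⟩
      have h' := congrArg (Polynomial.eval r) h
      simp at h'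
      have : s * r = 0 := by linear_combination h'
      exact (mul_ne_zero (left_ne_zero_of_mul_eq_one hs2) (mul_ne_zero h2 hb0)) this)
  simp only [Finset.mem_insert, Finset.mem_singleton, not_or] at ha
  refine ⟨a, ha.1, ha.2.1, ha.2.2.1, fun K _ hjump => ?_⟩
  have h1 := hjump 2 le_rfl (by omega)
  have hA2 : A n (a - b) (-((2 : ℕ) : ℤ)) = s * ((n : F) * r - ((n : F) + 1) * a) := by
    rw [A_neg (by omega), sub_add_cancel, show 2 + (n - 2) - 1 = n - 2 + 1 by omega, show 2 + (n - 1) - 1 = n - 1 + 1 by omega,
      Nat.choose_succ_self_right, Nat.choose_succ_self_right, show n - 1 + 1 = n by omega, show n - 2 + 1 = n - 1 by omega,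
      Nat.cast_sub (show 1 ≤ n by omega), hr]
    push_cast
    ring
  rw [hA2, hκ, mul_pow, pow_two s, hs2, one_mul] at h1
  intro x
  by_contra hx
  have h := proper_mem_small p e hF K h1 (fun hall => hx (hall x))
  have hra : (r - a) ^ 2 ≠ 0 := pow_ne_zero _ (sub_ne_zero.2 (Ne.symm ha.2.1))
  refine hroot _ h (div_ne_zero (mul_ne_zero (left_ne_zero_of_mul_eq_one hs2) fun h0 => ?_) hra) ?_
  · by_cases hn1 : ((n : F) + 1) = 0
    · rw [hn1, zero_mul, sub_zero] at h0
      rcases mul_eq_zero.1 h0 with h0 | h0
      · rw [h0, zero_add] at hn1; exact one_ne_zero hn1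
      · exact mul_ne_zero h2 hb0 h0
    · refine ha.2.2.2 ?_
      rw [if_neg hn1, eq_div_iff hn1]
      linear_combination -h0
  · simp only [Polynomial.IsRoot.def, Polynomial.eval_add, Polynomial.eval_sub, Polynomial.eval_mul, Polynomial.eval_pow,
      Polynomial.eval_C, Polynomial.eval_X]
    rw [show (a - r) ^ 2 = (r - a) ^ 2 by ring, div_mul_cancel₀ _ hra]
    ring

theorem exists_third : ∀ i : Fin 4, ∃ j : Fin 4, j ≠ 0 ∧ j ≠ i := by decide

/-- A transvection group element. -/
def El (H : Subgroup (SpecialLinearGroup (Fin 4) F)) (i j : Fin 4) (c : F) : Prop := In H (Pi.single i c) (Pi.single j 1)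

theorem el_mid {H : Subgroup (SpecialLinearGroup (Fin 4) F)} {i j k : Fin 4} (hik : i ≠ k) (hjk : j ≠ k) {c d : F}
    (h1 : El H i j c) (h2 : El H j k d) : El H i k (d * c) := by
  have h := in_comm (φ := (Pi.single k 1 : Fin 4 → F)) (x := Pi.single j d) (y := Pi.single i c) (ψ := Pi.single j 1)
    (by simp [hjk.symm]) (by simp [hik.symm]) h2 h1
  simp only [single_dotProduct, one_mul, Pi.single_eq_same] at h
  show In H _ _
  convert h using 2
  ext r
  by_cases hr : r = i
  · subst hr; simp
  · simp [hr]

theorem top_of_roots {H : Subgroup (SpecialLinearGroup (Fin 4) F)} (h1 : ∀ i j : Fin 4, i ≠ j → El H i j 1)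
    (hc : ∀ c : F, El H 0 1 c) : H = ⊤ := by
  haveI : NeZero (4 : ℕ) := ⟨by norm_num⟩
  have A0 : ∀ k : Fin 4, k ≠ 0 → ∀ c, El H 0 k c := fun k hk c => by
    by_cases hk1 : k = 1
    · rw [hk1]; exact hc c
    · simpa using el_mid hk.symm (Ne.symm hk1) (hc c) (h1 1 k (Ne.symm hk1))
  have A1 : ∀ i k : Fin 4, i ≠ k → k ≠ 0 → ∀ c, El H i k c := fun i k hik hk c => by
    by_cases hi : i = 0
    · rw [hi]; exact A0 k hk c
    · simpa using el_mid hik hk.symm (h1 i 0 hi) (A0 k hk c)
  have A2 : ∀ i k : Fin 4, i ≠ k → ∀ c, El H i k c := fun i k hik c => by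
    by_cases hk : k = 0
    · subst hk
      obtain ⟨j, hj0, hji⟩ := exists_third i
      simpa using el_mid hik hj0 (A1 i j hji.symm hj0 c) (h1 j 0 hj0)
    · exact A1 i k hik hk c
  have hk : ∀ k, Full H (Pi.single k (1 : F)) := by
    intro k x hx
    have hxk : x k = 0 := by simpa using hx
    have key : ∀ t : Finset (Fin 4), (Pi.single k (1 : F)) ⬝ᵥ (∑ i ∈ t, Pi.single i (x i)) = 0 ∧
        In H (∑ i ∈ t, Pi.single i (x i)) (Pi.single k (1 : F)) := by
      intro t
      induction t using Finset.induction_on with
      | empty => rw [Finset.sum_empty]; exact ⟨dotProduct_zero _, in_zero_left _⟩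
      | @insert i t hit ih =>
        rw [Finset.sum_insert hit]
        by_cases hik : i = k
        · rw [hik, hxk, Pi.single_zero, zero_add]; exact ih
        · exact ⟨by rw [dotProduct_add, ih.1, add_zero]; simp [Ne.symm hik], in_add ih.1 (A2 i k hik _) ih.2⟩
    have h := (key Finset.univ).2
    rwa [Finset.univ_sum_single] at h
  refine eq_top_of_full (by norm_num) fun φ => ?_
  rw [← Finset.univ_sum_single φ]
  exact Finset.sum_induction _ (Full H) (fun _ _ => full_add) (fun x _ => in_zero_right x) fun i _ => by
    have h := full_smul (hk i) (φ i)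
    rwa [← Pi.single_smul', smul_eq_mul, mul_one] at h

/-- The evaluation of a word. -/
def word {M : Type*} (mul : M → M → M) (one u v : M) : List Bool → M
  | [] => one
  | b :: w => mul (bif b then u else v) (word mul one u v w)

theorem special_model {M : Type*} (φ : M → Matrix (Fin 4) (Fin 4) F) (mul : M → M → M) (one um gm : M)
    (hmul : ∀ a b, φ (mul a b) = φ a * φ b) (hone : φ one = 1) (vm : M) (hvm : φ vm = (V 4 F : Matrix (Fin 4) (Fin 4) F))
    (hdet : (φ gm).det = 1) (hug : mul um gm = mul gm vm)
    (hroot : ∀ i j : Fin 4, i ≠ j → ∃ w, φ (word mul one um vm w) = 1 + vecMulVec (Pi.single i 1) (Pi.single j 1))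
    (hscal : ∀ H : Subgroup (SpecialLinearGroup (Fin 4) F), El H 0 1 1 →
      (∀ w : List Bool, (∃ h ∈ H, (h : Matrix (Fin 4) (Fin 4) F) = φ (word mul one um vm w))) → ∀ c, El H 0 1 c) :
    ConjPair 4 F := by
  let g : SpecialLinearGroup (Fin 4) F := ⟨φ gm, hdet⟩
  refine ⟨V 4 F, g, V_nilpotent (by norm_num), ?_⟩
  set H := Subgroup.closure ({V 4 F, g * V 4 F * g⁻¹} : Set (SpecialLinearGroup (Fin 4) F))
  have hu : ((g * V 4 F * g⁻¹ : SpecialLinearGroup (Fin 4) F) : Matrix (Fin 4) (Fin 4) F) = φ um := by
    rw [val_mul, val_mul]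
    show φ gm * _ * _ = _
    rw [← hvm, ← hmul, ← hug, hmul, Matrix.mul_assoc]
    show φ um * ((g : Matrix (Fin 4) (Fin 4) F) * _) = _
    rw [val_mul_inv, Matrix.mul_one]
  have hw : ∀ w : List Bool, ∃ h ∈ H, (h : Matrix (Fin 4) (Fin 4) F) = φ (word mul one um vm w) := by
    intro w
    induction w with
    | nil => exact ⟨1, H.one_mem, hone.symm⟩
    | cons b w ih =>
      obtain ⟨h, hh, he⟩ := ih
      cases b
      · exact ⟨V 4 F * h, H.mul_mem (Subgroup.subset_closure (by simp)) hh, by
          rw [val_mul, he, word, cond_false, hmul, hvm]⟩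
      · exact ⟨(g * V 4 F * g⁻¹) * h, H.mul_mem (Subgroup.subset_closure (by simp)) hh, by
          rw [val_mul, he, hu, word, cond_true, hmul]⟩
  have h1 : ∀ i j : Fin 4, i ≠ j → El H i j 1 := fun i j hij => by
    obtain ⟨w, hw'⟩ := hroot i j hij
    obtain ⟨h, hh, he⟩ := hw w
    exact ⟨h, hh, he.trans hw'⟩
  exact top_of_roots h1 (hscal H (h1 0 1 (by decide)) hw)

theorem el_prime (hp : (Fintype.card F).Prime) (H : Subgroup (SpecialLinearGroup (Fin 4) F)) (h : El H 0 1 1) (c : F) :
    El H 0 1 c := by
  let S : AddSubgroup F :=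
    { carrier := {s | El H 0 1 s}
      zero_mem' := by show In H _ _; rw [Pi.single_zero]; exact in_zero_left _
      add_mem' := fun {a b} ha hb => by show In H _ _; rw [Pi.single_add]; exact in_add (by simp) ha hb
      neg_mem' := fun {a} ha => by show In H _ _; rw [Pi.single_neg]; exact in_neg (by simp) ha }
  haveI : Fact (Nat.card F).Prime := ⟨by rw [Nat.card_eq_fintype_card]; exact hp⟩
  rcases S.eq_bot_or_eq_top_of_prime_card with h' | h'
  · exact absurd ((AddSubgroup.mem_bot).1 (h' ▸ (show (1 : F) ∈ S from h))) one_ne_zero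
  · exact (show c ∈ S from h' ▸ AddSubgroup.mem_top c)


/-- The model conjugator and generators modulo 3. -/
abbrev G3 : Matrix (Fin 4) (Fin 4) (ZMod 3) := !![0, 0, 0, 1; 2, 0, 0, 0; 0, 1, 0, 0; 0, 0, 1, 0]
abbrev U3 : Matrix (Fin 4) (Fin 4) (ZMod 3) := !![1, 0, 0, 1; 0, 1, 0, 0; 0, 2, 1, 0; 0, 0, 1, 1]
abbrev V3 : Matrix (Fin 4) (Fin 4) (ZMod 3) := !![1, 0, 0, 0; 1, 1, 0, 0; 0, 1, 1, 0; 0, 0, 1, 1]
abbrev R3 (i j : Fin 4) : Matrix (Fin 4) (Fin 4) (ZMod 3) := Matrix.of fun a b => if a = b then 1 else if a = i ∧ b = j then 1 else 0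

set_option maxRecDepth 20000 in
theorem roots3 : ∀ i j : Fin 4, i ≠ j → ∃ w, word (· * ·) 1 U3 V3 w = R3 i j
  | 0, 0, h => absurd rfl h
  | 0, 1, _ => ⟨[true, true, true, true, true, true], by decide +kernel⟩
  | 0, 2, _ => ⟨[false, true, false, true, false, false, false, false, true, false, true, false, true, false, true, false, true, false, true, true, true, true], by decide +kernel⟩
  | 0, 3, _ => ⟨[true, true, true, false, true, true, true, false, true, false, false, false, true, true, false, false, false, true, false, false, true, true, true, true], by decide +kernel⟩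
  | 1, 0, _ => ⟨[true, true, true, false, true, true, true, false, false, false, false, false, false, false, false, true, true, true, true, true, true], by decide +kernel⟩
  | 1, 1, h => absurd rfl h
  | 1, 2, _ => ⟨[false, true, true, true, true, false, true, false, false, false, true, true, true, true, false, true, true, true, false, true, false, false], by decide +kernel⟩
  | 1, 3, _ => ⟨[false, true, false, true, false, true, false, true, false, true, false, false, false, false, false, false, false, true, false, true, false, true], by decide +kernel⟩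
  | 2, 0, _ => ⟨[true, false, false, true, true, true, false, true, true, false, true, true, true, false, false, false, true, true, false, true, true], by decide +kernel⟩
  | 2, 1, _ => ⟨[true, false, true, true, true, true, true, true, false, true, true, true, false, false, true, true, true, false, false, true, true], by decide +kernel⟩
  | 2, 2, h => absurd rfl h
  | 2, 3, _ => ⟨[true, false, true, false, false, true, true, true, false, false, false, false, false, false, true, true, true, true, false, true, true], by decide +kernel⟩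
  | 3, 0, _ => ⟨[false, false, false], by decide +kernel⟩
  | 3, 1, _ => ⟨[true, true, false, false, false, false, false, false, true, true, true, false, false, false, true], by decide +kernel⟩
  | 3, 2, _ => ⟨[true, false, false, true, false, false, false, false, false, false, true, true, true, false, true, true, true, false, true, false, false, true], by decide +kernel⟩
  | 3, 3, h => absurd rfl h

theorem ug3 : U3 * G3 = G3 * V3 := by decide +kernel

theorem det3 : G3.det = 1 := by decide +kernel

theorem special3 (hq : Fintype.card F = 3) : ConjPair 4 F := by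
  haveI : Fact (Nat.Prime 3) := ⟨by norm_num⟩
  haveI : CharP F 3 := charP_of_card_eq_prime hq
  let f : ZMod 3 →+* F := ZMod.castHom (dvd_refl 3) F
  refine special_model (fun M : Matrix (Fin 4) (Fin 4) (ZMod 3) => M.map f) (· * ·) 1 U3 G3 (fun a b => Matrix.map_mul) ?_ V3 ?_ ?_
    ug3 ?_ (fun H h _ c => el_prime (by rw [hq]; exact (Fact.out : Nat.Prime 3)) H h c)
  · exact Matrix.map_one f (map_zero f) (map_one f)
  · show _ = 1 + sh 4 F
    ext i j
    fin_cases i <;> fin_cases j <;> simp [sh]
  · show (f.mapMatrix G3).det = 1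
    rw [← RingHom.map_det, det3, map_one]
  · intro i j hij
    obtain ⟨w, hw⟩ := roots3 i j hij
    refine ⟨w, ?_⟩
    rw [hw]
    ext a b
    by_cases hab : a = b
    · subst hab
      simp [vecMulVec_apply, Pi.single_apply]
      intro e1 e2
      exact absurd (e1.symm.trans e2) (fun e => hij (by first | exact e | exact e.symm))
    · by_cases hs : a = i ∧ b = j
      · obtain ⟨rfl, rfl⟩ := hs; simp [vecMulVec_apply, hab]
      · simp [vecMulVec_apply, Matrix.one_apply_ne hab, hab, hs, Pi.single_apply]
        tauto


/-- The model conjugator and generators modulo 5. -/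
abbrev G5 : Matrix (Fin 4) (Fin 4) (ZMod 5) := !![0, 0, 0, 1; 4, 0, 0, 0; 0, 1, 0, 0; 0, 0, 1, 0]
abbrev U5 : Matrix (Fin 4) (Fin 4) (ZMod 5) := !![1, 0, 0, 1; 0, 1, 0, 0; 0, 4, 1, 0; 0, 0, 1, 1]
abbrev V5 : Matrix (Fin 4) (Fin 4) (ZMod 5) := !![1, 0, 0, 0; 1, 1, 0, 0; 0, 1, 1, 0; 0, 0, 1, 1]
abbrev R5 (i j : Fin 4) : Matrix (Fin 4) (Fin 4) (ZMod 5) := Matrix.of fun a b => if a = b then 1 else if a = i ∧ b = j then 1 else 0

set_option maxRecDepth 20000 in
theorem roots5 : ∀ i j : Fin 4, i ≠ j → ∃ w, word (· * ·) 1 U5 V5 w = R5 i j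
  | 0, 0, h => absurd rfl h
  | 0, 1, _ => ⟨[false, true, false, false, true, true, false, false, false, false, true, true, false, false, true, true, true, false, false, true, false, true, false, true, true, true, false, false, false, true, true, true, true, false, true, false], by decide +kernel⟩
  | 0, 2, _ => ⟨[false, true, true, false, true, true, false, false, false, true, true, false, false, true, true, true, true, false, true, false, false, true, true, false, true, true, false, true, true, true, true, false, true, false, true, false], by decide +kernel⟩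
  | 0, 3, _ => ⟨[true, false, false, false, true, true, false, false, false, true, true, true, false, false, true, false, true, true, true, true, false, false, false, true, true, false, false, true, false, false], by decide +kernel⟩
  | 1, 0, _ => ⟨[false, false, false, true, true, false, false, true, true, true, true, false, true, false, true, true, true, false, true, true, false, true, false, false, false, false, true, false, false, true, false, true, true, false, false, true], by decide +kernel⟩
  | 1, 1, h => absurd rfl h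
  | 1, 2, _ => ⟨[false, false, true, false, false, false, false, true, true, true, true, false, true, true, false, true, false, false, false, true, true, true, false, false, true, true, true, false, true, false, false, false], by decide +kernel⟩
  | 1, 3, _ => ⟨[false, true, true, false, true, false, false, true, false, false, false, false, true, false, false, false, true, false, true, true, true, true, false, false, true, false, true, false, false, false, true, true, false, true, true, false], by decide +kernel⟩
  | 2, 0, _ => ⟨[true, true, true, false, true, false, true, false, true, true, false, true, false, false, false, true, true, false, true, false, false, true, false, true, false, false, true, true, false, false, false, true, false, true], by decide +kernel⟩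
  | 2, 1, _ => ⟨[true, true, true, false, false, false, false, true, false, false, false, false, true, false, false, true, false, false, true, false, true, false, false, false, false, true, false, false, false, true, false, true, false, false, true, false], by decide +kernel⟩
  | 2, 2, h => absurd rfl h
  | 2, 3, _ => ⟨[true, false, true, true, true, false, true, true, true, false, false, true, false, true, true, false, false, false, false, true, false, false, true, true, true, true, false, false, false, true, false, true, false, true, false], by decide +kernel⟩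
  | 3, 0, _ => ⟨[true, true, false, false, true, false, true, false, false, true, true, false, true, false, true, true, false, false, true, false, false, true, true, true, true, false, false, true, false, true, false, true, true, false, false, false, true], by decide +kernel⟩
  | 3, 1, _ => ⟨[true, false, false, false, false, true, false, true, false, true, true, false, false, true, true, false, false, true, false, false, true, true, false, false, false, true, true, true, false, false, false, false, true, true, true, true, false], by decide +kernel⟩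
  | 3, 2, _ => ⟨[false, false, true, true, true, false, true, false, false, true, false, false, true, false, true, true, false, false, false, true, true, true, false, true, false, false, true, false, false, true, false, true, true], by decide +kernel⟩
  | 3, 3, h => absurd rfl h

theorem ug5 : U5 * G5 = G5 * V5 := by decide +kernel

theorem det5 : G5.det = 1 := by decide +kernel

theorem special5 (hq : Fintype.card F = 5) : ConjPair 4 F := by
  haveI : Fact (Nat.Prime 5) := ⟨by norm_num⟩
  haveI : CharP F 5 := charP_of_card_eq_prime hq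
  let f : ZMod 5 →+* F := ZMod.castHom (dvd_refl 5) F
  refine special_model (fun M : Matrix (Fin 4) (Fin 4) (ZMod 5) => M.map f) (· * ·) 1 U5 G5 (fun a b => Matrix.map_mul) ?_ V5 ?_ ?_
    ug5 ?_ (fun H h _ c => el_prime (by rw [hq]; exact (Fact.out : Nat.Prime 5)) H h c)
  · exact Matrix.map_one f (map_zero f) (map_one f)
  · show _ = 1 + sh 4 F
    ext i j
    fin_cases i <;> fin_cases j <;> simp [sh]
  · show (f.mapMatrix G5).det = 1
    rw [← RingHom.map_det, det5, map_one]
  · intro i j hij
    obtain ⟨w, hw⟩ := roots5 i j hij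
    refine ⟨w, ?_⟩
    rw [hw]
    ext a b
    by_cases hab : a = b
    · subst hab
      simp [vecMulVec_apply, Pi.single_apply]
      intro e1 e2
      exact absurd (e1.symm.trans e2) (fun e => hij (by first | exact e | exact e.symm))
    · by_cases hs : a = i ∧ b = j
      · obtain ⟨rfl, rfl⟩ := hs; simp [vecMulVec_apply, hab]
      · simp [vecMulVec_apply, Matrix.one_apply_ne hab, hab, hs, Pi.single_apply]
        tauto


/-- Addition and multiplication in the field with four elements, on indices. -/
def a4 (a b : Fin 4) : Fin 4 := ![![0, 1, 2, 3], ![1, 0, 3, 2], ![2, 3, 0, 1], ![3, 2, 1, 0]] a b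
def m4 (a b : Fin 4) : Fin 4 := ![![0, 0, 0, 0], ![0, 1, 2, 3], ![0, 2, 3, 1], ![0, 3, 1, 2]] a b
def mm4 (A B : Matrix (Fin 4) (Fin 4) (Fin 4)) : Matrix (Fin 4) (Fin 4) (Fin 4) :=
  Matrix.of fun i j => a4 (a4 (m4 (A i 0) (B 0 j)) (m4 (A i 1) (B 1 j))) (a4 (m4 (A i 2) (B 2 j)) (m4 (A i 3) (B 3 j)))

abbrev I4 : Matrix (Fin 4) (Fin 4) (Fin 4) := Matrix.of fun a b => if a = b then 1 else 0
abbrev G4 : Matrix (Fin 4) (Fin 4) (Fin 4) := !![0, 0, 0, 1; 3, 0, 0, 0; 0, 2, 0, 0; 0, 0, 1, 0]
abbrev U4 : Matrix (Fin 4) (Fin 4) (Fin 4) := !![1, 0, 0, 1; 0, 1, 0, 0; 0, 3, 1, 0; 0, 0, 3, 1]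
abbrev V4 : Matrix (Fin 4) (Fin 4) (Fin 4) := !![1, 0, 0, 0; 1, 1, 0, 0; 0, 1, 1, 0; 0, 0, 1, 1]
abbrev R4 (i j c : Fin 4) : Matrix (Fin 4) (Fin 4) (Fin 4) := Matrix.of fun a b => if a = b then 1 else if a = i ∧ b = j then c else 0

set_option maxRecDepth 20000 in
theorem roots4 : ∀ i j : Fin 4, i ≠ j → ∃ w, word mm4 I4 U4 V4 w = R4 i j 1
  | 0, 0, h => absurd rfl h
  | 0, 1, _ => ⟨[true, false, false, false, true, true, false, true, true, false, false, false, true, true, false, true, false, false, false, true, true, false, true, true, false, false, false, true, true, false], by decide +kernel⟩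
  | 0, 2, _ => ⟨[false, true, false, true, true, false, false, true, true, false, false, false, true, true, true, false, false, true, true, true, false, true, false, false, true, true, true, false, false, false, true, false], by decide +kernel⟩
  | 0, 3, _ => ⟨[true, false, true, true, false, false, true, false, true, false, false, false, true, false, false, true, true, false, true, false, true, false, false, false, true, false, true, false, false, false, true, false], by decide +kernel⟩
  | 1, 0, _ => ⟨[false, false, true, false, false, true, true, true, false, false, false, true, false, false, false, true, true, false, true, false, true, false, true, true, true, false, false, true, false, false, false, true, true, false], by decide +kernel⟩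
  | 1, 1, h => absurd rfl h
  | 1, 2, _ => ⟨[true, true, false, true, true, false, false, true, false, true, false, false, true, false, true, true, true, false, true, false, true, false, true, false, true, false, false, true, true, true, false], by decide +kernel⟩
  | 1, 3, _ => ⟨[true, false, false, false, true, false, true, true, false, true, false, true, false, true, true, false, true, true, true, false, true, true, true, false, false, false, true, true, false, true], by decide +kernel⟩
  | 2, 0, _ => ⟨[false, true, false, true, false, true, true, true, false, true, false, false, true, true, true, false, true, false, true, false, false, false, true, false, true, true, false, false, true, false, true, false, false, false, true], by decide +kernel⟩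
  | 2, 1, _ => ⟨[false, true, false, false, true, false, true, true, false, false, true, true, false, true, false, false, false, true, false, true, true, false, true, true, true, false, true, false, true, false, true, false], by decide +kernel⟩
  | 2, 2, h => absurd rfl h
  | 2, 3, _ => ⟨[true, true, true, false, false, false, true, false, false, false, true, true, false, false, false, true, false, false, true, false, true, false, true, true, false, false, false, true, false, false, false, true, false], by decide +kernel⟩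
  | 3, 0, _ => ⟨[true, false, false, true, false, false, true, true, true, false, true, true, false, true, true, false, false, true, true, false, true, false, true, true, true, false, false, false, true, false, false], by decide +kernel⟩
  | 3, 1, _ => ⟨[true, false, false, true, true, true, false, false, true, false, false, true, true, false, false, true, true, true, false, false, true, false, false, true, true, false, false, true, true, true, false, false, true, false, false, true], by decide +kernel⟩
  | 3, 2, _ => ⟨[true, true, false, true, false, false, true, true, true, false, false, true, false, false, true, true, false, true, true, false, false, false, true, true, false, false, false, true, true, false, false, true, false, true], by decide +kernel⟩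
  | 3, 3, h => absurd rfl h

theorem scal4 : word mm4 I4 U4 V4 [true, false, false, true, false, false, true, true, true, false, false, true, true, true, false, true, false, true, true, false, true, false, true, true, true, false, true, false, false, false, true, false, true, true] = R4 0 1 2 := by decide +kernel

theorem special4 (hq : Fintype.card F = 4) : ConjPair 4 F := by
  classical
  haveI : Fact (Nat.Prime 2) := ⟨Nat.prime_two⟩
  haveI : CharP F 2 := charP_of_card_eq_prime_pow (f := 2) (by rw [hq]; norm_num)
  obtain ⟨ω, hω0, hω1⟩ : ∃ ω : F, ω ≠ 0 ∧ ω ≠ 1 := by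
    by_contra hc
    push Not at hc
    have h := Finset.card_le_card (show (Finset.univ : Finset F) ⊆ {0, 1} from fun x _ => by
      rcases eq_or_ne x 0 with h | h
      · simp [h]
      · simp [hc x h])
    rw [Finset.card_univ, hq] at h
    have := h.trans Finset.card_le_two
    omega
  have hω3 : ω ^ 3 = 1 := by
    have h := FiniteField.pow_card_sub_one_eq_one ω hω0
    rwa [hq] at h
  have hωω : ω * ω = ω + 1 := by
    have h : (ω - 1) * (ω * ω + ω + 1) = 0 := by linear_combination hω3
    have h' := (mul_eq_zero.1 h).resolve_left (sub_ne_zero.2 hω1)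
    have h2 : (2 : F) = 0 := CharTwo.two_eq_zero
    linear_combination h' - (ω + 1) * h2
  have h2 : (2 : F) = 0 := CharTwo.two_eq_zero
  let e : Fin 4 → F := ![0, 1, ω, ω + 1]
  have he : ∀ a b, e (a4 a b) = e a + e b ∧ e (m4 a b) = e a * e b := by
    intro a b
    fin_cases a <;> fin_cases b <;> simp [e, a4, m4] <;> (try constructor) <;>
      first
        | ring1
        | linear_combination h2
        | linear_combination -h2
        | linear_combination ω * h2
        | linear_combination -ω * h2
        | linear_combination (1 + ω) * h2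
        | linear_combination -(1 + ω) * h2
        | linear_combination (1 - ω) * h2
        | linear_combination (ω - 1) * h2
        | linear_combination hωω
        | linear_combination hωω + h2
        | linear_combination hωω + -h2
        | linear_combination hωω + ω * h2
        | linear_combination hωω + -ω * h2
        | linear_combination hωω + (1 + ω) * h2
        | linear_combination hωω + -(1 + ω) * h2
        | linear_combination hωω + (1 - ω) * h2
        | linear_combination hωω + (ω - 1) * h2
        | linear_combination -hωω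
        | linear_combination -hωω + h2
        | linear_combination -hωω + -h2
        | linear_combination -hωω + ω * h2
        | linear_combination -hωω + -ω * h2
        | linear_combination -hωω + (1 + ω) * h2
        | linear_combination -hωω + -(1 + ω) * h2
        | linear_combination -hωω + (1 - ω) * h2
        | linear_combination -hωω + (ω - 1) * h2
  let φ : Matrix (Fin 4) (Fin 4) (Fin 4) → Matrix (Fin 4) (Fin 4) F := fun M => M.map e
  have hφR : ∀ i j c : Fin 4, i ≠ j → φ (R4 i j c) = 1 + vecMulVec (Pi.single i (e c)) (Pi.single j 1) := by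
    intro i j c hij
    ext a b
    by_cases hab : a = b
    · subst hab
      simp [φ, e, vecMulVec_apply, Pi.single_apply]
      intro e1 e2
      exact absurd (e2.symm.trans e1) (fun e => hij (by first | exact e | exact e.symm))
    · by_cases hs : a = i ∧ b = j
      · obtain ⟨rfl, rfl⟩ := hs; simp [φ, vecMulVec_apply, hab]
      · simp [φ, e, vecMulVec_apply, Matrix.one_apply_ne hab, hab, hs, Pi.single_apply]
        tauto
  refine special_model φ mm4 I4 U4 G4 (fun A B => ?_) ?_ V4 ?_ ?_ (by decide +kernel) ?_ ?_
  · ext i j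
    simp [φ, mm4, (he _ _).1, (he _ _).2, Matrix.mul_apply, Fin.sum_univ_four]
    ring
  · ext a b
    by_cases hab : a = b
    · subst hab; simp [φ, e]
    · simp [φ, e, hab]
  · show _ = 1 + sh 4 F
    ext a b
    fin_cases a <;> fin_cases b <;> simp [φ, e, sh]
  · simp [φ, e, Matrix.det_succ_row_zero, Fin.sum_univ_succ, Fin.succAbove]
    linear_combination hωω - ω ^ 2 * h2
  · intro i j hij
    obtain ⟨w, hw⟩ := roots4 i j hij
    refine ⟨w, ?_⟩
    rw [hw, hφR i j 1 hij]
    simp [e]
  · intro H h1 hw c
    have hadd : ∀ a b : F, El H 0 1 a → El H 0 1 b → El H 0 1 (a + b) := fun a b ha hb => by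
      show In H _ _; rw [Pi.single_add]; exact in_add (by simp) ha hb
    have hωE : El H 0 1 ω := by
      obtain ⟨h, hh, hh'⟩ := hw [true, false, false, true, false, false, true, true, true, false, false, true, true, true, false, true, false, true, true, false, true, false, true, true, true, false, true, false, false, false, true, false, true, true]
      rw [scal4, hφR 0 1 2 (by decide)] at hh'
      exact ⟨h, hh, by rw [hh']; simp [e]⟩
    have h0 : El H 0 1 (0 : F) := by show In H _ _; rw [Pi.single_zero]; exact in_zero_left _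
    have hb : Function.Bijective e := (Fintype.bijective_iff_injective_and_card e).2 ⟨by
      intro a b hab
      fin_cases a <;> fin_cases b <;> simp [e] at hab ⊢ <;> first
        | exact hω0 hab | exact hω0 hab.symm | exact hω1 hab | exact hω1 hab.symm
        | exact one_ne_zero hab | exact one_ne_zero hab.symm
        | (exfalso; apply hω1; linear_combination hab - h2) | (exfalso; apply hω1; linear_combination -hab - h2)
        | (exfalso; apply hω0; linear_combination hab + ω * h2) | (exfalso; apply hω0; linear_combination -hab + ω * h2), by simp [hq]⟩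
    obtain ⟨a, rfl⟩ := hb.2 c
    fin_cases a <;> simp [e]
    · exact h0
    · exact h1
    · exact hωE
    · exact hadd _ _ hωE h1

theorem special_four (hq : Fintype.card F = 3 ∨ Fintype.card F = 5) : ConjPair 4 F := by
  rcases hq with hq | hq
  · exact special3 hq
  · exact special5 hq

theorem special_four_four (hq : Fintype.card F = 4) : Pair 4 F := pair_of_conjPair (special4 hq)

theorem prime_pair {n : ℕ} (hn : 4 ≤ n) (hp : (Fintype.card F).Prime) : ConjPair n F := by
  classical
  set q := Fintype.card F with hq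
  haveI : Fact q.Prime := ⟨hp⟩
  haveI : CharP F q := charP_of_card_eq_prime rfl
  have hall : ∀ K : Subfield F, ∀ x, x ∈ K := fun K x => by
    haveI : Fact (Nat.card F).Prime := ⟨by rw [Nat.card_eq_fintype_card]; exact hp⟩
    rcases K.toSubring.toAddSubgroup.eq_bot_or_eq_top_of_prime_card with h | h
    · exact absurd ((AddSubgroup.mem_bot).1 (h ▸ (show (1 : F) ∈ K.toSubring.toAddSubgroup from K.one_mem))) one_ne_zero
    · exact (show x ∈ K.toSubring.toAddSubgroup from h ▸ AddSubgroup.mem_top x)
  by_cases hex : ∃ t : F, t ≠ 0 ∧ t ^ n ≠ (-2) ^ n ∧ t ^ n + (-2) ^ n ≠ 0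
  · obtain ⟨t, ht0, ht1, ht2⟩ := hex
    exact conjPair_of_gen hn (pow_ne_zero n ht0) t rfl (gen_generic hn _ ht2 ht1 fun K _ _ => hall K)
  push Not at hex
  have h2 : (2 : F) ≠ 0 := by
    intro h
    have h1 := hex 1 one_ne_zero (by rw [h, neg_zero, zero_pow (show n ≠ 0 by omega), one_pow]; exact one_ne_zero)
    rw [h, neg_zero, zero_pow (show n ≠ 0 by omega), add_zero, one_pow] at h1
    exact one_ne_zero h1
  by_cases h4 : n = 4
  · subst h4
    obtain ⟨μ, hμ⟩ := IsCyclic.exists_generator (α := Fˣ)
    have h16 : (-2 : F) ^ 4 ≠ 0 := pow_ne_zero _ (neg_ne_zero.2 h2)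
    have hcase : ∀ t : F, t ≠ 0 → t ^ 4 = (-2) ^ 4 ∨ t ^ 4 = -(-2) ^ 4 := fun t ht => by
      by_cases h : t ^ 4 = (-2) ^ 4
      · exact Or.inl h
      · exact Or.inr (eq_neg_of_add_eq_zero_left (hex t ht h))
    have h8 : (μ : F) ^ 8 = 1 := by
      have h1 : ((1 : F) ^ 4) ^ 2 = ((-2 : F) ^ 4) ^ 2 := by
        rcases hcase 1 one_ne_zero with h | h <;> rw [h] ; ring
      have h3 : ((μ : F) ^ 4) ^ 2 = ((-2 : F) ^ 4) ^ 2 := by
        rcases hcase μ μ.ne_zero with h | h <;> rw [h] ; ring
      rw [one_pow, one_pow] at h1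
      rw [show (μ : F) ^ 8 = ((μ : F) ^ 4) ^ 2 by ring, h3, ← h1]
    have hord : orderOf μ = q - 1 := by
      rw [hq, ← Cfsg.Agent.S2278.card_units]
      exact orderOf_eq_card_of_forall_mem_zpowers hμ
    have hd : q - 1 ∣ 8 := by
      rw [← hord]
      exact orderOf_dvd_of_pow_eq_one (Units.ext (by rw [Units.val_pow_eq_pow_val]; exact h8))
    have h9 : q ≤ 9 := by have := Nat.le_of_dvd (by norm_num) hd; omega
    have hq2 : q ≠ 2 := fun h => h2 (by
      have := CharP.cast_eq_zero F q; rw [h] at this; exact_mod_cast this)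
    refine special_four ?_
    clear_value q
    interval_cases q <;> first
      | (left; rfl)
      | (right; rfl)
      | omega
      | (norm_num at hp; done)
      | (norm_num at hd; done)
  refine conjPair_of_gen hn (pow_ne_zero n (neg_ne_zero.2 h2)) (-2) rfl
    (gen_degenerate (by omega) hp h2 (pow_ne_zero n (neg_ne_zero.2 h2)) rfl fun he => ?_)
  have hqn : ∀ m : ℕ, (m : F) = 0 ↔ q ∣ m := CharP.cast_eq_zero_iff F q
  obtain ⟨j, hj⟩ := he
  by_cases hn0 : q ∣ n
  · have hq2 : q ≠ 2 := fun h => h2 (by
      have := CharP.cast_eq_zero F q; rw [h] at this; exact_mod_cast this)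
    obtain ⟨l, N, hN, hlN⟩ := Nat.exists_eq_pow_mul_and_not_dvd (show n ≠ 0 by omega) q hp.ne_one
    have hql : Odd (q ^ l) := (hp.odd_of_ne_two hq2).pow
    obtain ⟨i, hi⟩ := hql
    by_cases hbig : q ^ l + 2 ≤ n - 3
    · refine ⟨q ^ l + 2, ⟨i + 1, by omega⟩, by rw [Nat.choose_eq_zero_of_lt (by omega), Nat.cast_zero], ?_, Or.inl hbig⟩
      rw [← Nat.choose_symm (show n - 1 ≤ q ^ l + 2 + (n - 3) by omega),
        show q ^ l + 2 + (n - 3) - (n - 1) = q ^ l * 1 by omega,
        show q ^ l + 2 + (n - 3) = q ^ l * N + (q ^ l - 1) by omega]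
      rw [cast_eq_of_mod q (choose_lucas_block q N 1 l), Nat.choose_one_right]
      exact fun h => hN ((hqn N).1 h)
    · have h2N : 2 ≤ N := by
        rcases Nat.lt_or_ge N 2 with h | h
        · interval_cases N
          · simp at hlN; omega
          · rw [mul_one] at hlN; omega
        · exact h
      have h2n : 2 * q ^ l ≤ n := by rw [hlN, mul_comm]; exact Nat.mul_le_mul_left _ h2N
      have hn' : n ≤ 8 := by omega
      have h3q : 3 ≤ q := by have := hp.two_le; omega
      have hqle : q ≤ n := Nat.le_of_dvd (by omega) hn0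
      have h63 : n = 6 ∧ q = 3 := by
        clear_value q
        rcases (show n = 6 ∨ n = 8 by omega) with rfl | rfl <;> interval_cases q <;> first
          | exact ⟨rfl, rfl⟩
          | omega
          | (norm_num at hp; done)
          | (norm_num at hn0; done)
      obtain ⟨rfl, h3⟩ := h63
      refine ⟨5, by decide, ?_, ?_, Or.inr ⟨rfl, rfl, by norm_num⟩⟩
      · rw [hqn, h3]; decide
      · rw [ne_eq, hqn, h3]; decide
  · refine ⟨3, by decide, by rw [Nat.choose_eq_zero_of_lt (by omega), Nat.cast_zero], ?_, Or.inl (by omega)⟩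
    rw [show 3 + (n - 3) = n - 1 + 1 by omega, Nat.choose_succ_self_right, show n - 1 + 1 = n by omega]
    exact fun h => hn0 ((hqn n).1 h)

/-- Let F be a finite field with q elements and n ≥ 4. Then SL_n(F) is generated by two regular unipotent elements (elements u with u − 1 nilpotent and (u − 1)^(n−1) ≠ 0); if q is prime, the two can be taken conjugate in SL_n(F). -/
theorem result {F : Type*} [Field F] [Fintype F] (n : ℕ) (hn : 4 ≤ n) :
    (∃ u v : Matrix.SpecialLinearGroup (Fin n) F, (IsNilpotent ((u : Matrix (Fin n) (Fin n) F) - 1) ∧ ((u : Matrix (Fin n) (Fin n) F) - 1) ^ (n - 1) ≠ 0) ∧ (IsNilpotent ((v : Matrix (Fin n) (Fin n) F) - 1) ∧ ((v : Matrix (Fin n) (Fin n) F) - 1) ^ (n - 1) ≠ 0) ∧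
      Subgroup.closure ({u, v} : Set (Matrix.SpecialLinearGroup (Fin n) F)) = ⊤) ∧
    ((Fintype.card F).Prime → ∃ u g : Matrix.SpecialLinearGroup (Fin n) F, (IsNilpotent ((u : Matrix (Fin n) (Fin n) F) - 1) ∧ ((u : Matrix (Fin n) (Fin n) F) - 1) ^ (n - 1) ≠ 0) ∧
      Subgroup.closure ({u, g * u * g⁻¹} : Set (Matrix.SpecialLinearGroup (Fin n) F)) = ⊤) := by
  classical
  refine ⟨?_, fun hp => prime_pair hn hp⟩
  by_cases hp : (Fintype.card F).Prime
  · exact pair_of_conjPair (prime_pair hn hp)
  by_cases h2 : (2 : F) = 0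
  · by_cases h44 : n = 4 ∧ Fintype.card F = 4
    · obtain ⟨rfl, hq⟩ := h44
      exact special_four_four hq
    · exact even_pair hn h2 fun h hq => h44 ⟨h, hq⟩
  obtain ⟨p, hchar⟩ := CharP.exists F
  obtain ⟨e, hpp, hF⟩ := FiniteField.card F p
  haveI : Fact p.Prime := ⟨hpp⟩
  have hp3 : 3 ≤ p := by
    have := hpp.two_le
    have : p ≠ 2 := fun h => h2 (by have := CharP.cast_eq_zero F p; rw [h] at this; exact_mod_cast this)
    omega
  refine odd_pair hn p e hp3 ?_ hF
  by_contra he
  have he1 : (e : ℕ) = 1 := by have := e.pos; omega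
  exact hp (by rw [hF, he1, pow_one]; exact hpp)

end Cfsg.Agent.S2279
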