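import Cfsg.Statements.S2280
import Cfsg.Agent.Lib.Struct.RegUnipGen

set_option autoImplicit false
open Cfsg
open Matrix

namespace Cfsg.Agent.S2280

open Cfsg.Agent.Struct.RegUnipGen

variable {F : Type*} [Field F]

/-- The upper bidiagonal matrix. -/
def JM (m : ℕ) (F : Type*) [Field F] : Matrix (Fin (m + 3)) (Fin (m + 3)) F :=
  Matrix.of fun i j => if i = j then 1 else if (j : ℕ) = i + 1 then 1 else 0

theorem JM_det (m : ℕ) : (JM m F).det = 1 := by
  rw [Matrix.det_of_isUpperTriangular]
  · simp [JM]
  · intro i j h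
    have h' : (j : ℕ) < i := h
    simp only [JM, Matrix.of_apply]
    rw [if_neg (fun e => by rw [e] at h'; exact lt_irrefl _ h'), if_neg (by omega)]

theorem JM_sub_pow (m : ℕ) : ∀ k : ℕ, (JM m F - 1) ^ k =
    Matrix.of (fun i j : Fin (m + 3) => if (j : ℕ) = i + k then (1 : F) else 0)
  | 0 => by
    ext i j
    simp [Matrix.one_apply, Fin.ext_iff, eq_comm]
  | k + 1 => by
    rw [pow_succ, JM_sub_pow m k]
    ext i j
    have hN : ∀ x : Fin (m + 3), (JM m F - 1) x j = if (j : ℕ) = x + 1 then 1 else 0 := fun x => by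
      simp only [JM, Matrix.sub_apply, Matrix.of_apply, Matrix.one_apply]
      by_cases hx : x = j
      · subst hx; simp
      · rw [if_neg hx, if_neg hx, sub_zero]
    simp only [Matrix.mul_apply, Matrix.of_apply, hN]
    by_cases h : (j : ℕ) = i + (k + 1)
    · rw [if_pos h, Finset.sum_eq_single ⟨(i : ℕ) + k, by have := j.isLt; omega⟩]
      · rw [if_pos rfl, if_pos (by show (j : ℕ) = i + k + 1; omega), one_mul]
      · intro x _ hx
        rw [if_neg (fun e => hx (Fin.ext e)), zero_mul]
      · simp
    · rw [if_neg h]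
      refine Finset.sum_eq_zero fun x _ => ?_
      by_cases hx : (x : ℕ) = i + k
      · rw [if_pos hx, one_mul, if_neg (by omega)]
      · rw [if_neg hx, zero_mul]

theorem JM_mulVec (m : ℕ) (v : Fin (m + 3) → F) (i : Fin (m + 3)) :
    (JM m F *ᵥ v) i = v i + if h : (i : ℕ) + 1 < m + 3 then v ⟨(i : ℕ) + 1, h⟩ else 0 := by
  have h1 : ∀ j, JM m F i j * v j = (if j = i then v i else 0) + if (j : ℕ) = i + 1 then v j else 0 := fun j => by
    simp only [JM, Matrix.of_apply]
    by_cases hj : j = i
    · subst hj; simp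
    · rw [if_neg (Ne.symm hj), if_neg hj, ite_mul, one_mul, zero_mul, zero_add]
  simp only [Matrix.mulVec, dotProduct]
  rw [Finset.sum_congr rfl fun j _ => h1 j, Finset.sum_add_distrib, Finset.sum_ite_eq', if_pos (Finset.mem_univ i)]
  congr 1
  split_ifs with h
  · rw [Finset.sum_eq_single ⟨(i : ℕ) + 1, h⟩]
    · simp
    · intro x _ hx
      rw [if_neg (fun e => hx (Fin.ext e))]
    · simp
  · exact Finset.sum_eq_zero fun x _ => if_neg (by omega)


/-- Let F be a finite field and n ≥ 3. Then SL_n(F) is generated by three conjugate regular unipotent elements: there are u with u − 1 nilpotent and (u − 1)^(n−1) ≠ 0, and g, h, such that u, g u g⁻¹ and h u h⁻¹ generate SL_n(F). -/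
theorem result {F : Type*} [Field F] [Fintype F] (n : ℕ) (hn : 3 ≤ n) :
    ∃ u g h : Matrix.SpecialLinearGroup (Fin n) F, (IsNilpotent ((u : Matrix (Fin n) (Fin n) F) - 1) ∧ ((u : Matrix (Fin n) (Fin n) F) - 1) ^ (n - 1) ≠ 0) ∧
      Subgroup.closure ({u, g * u * g⁻¹, h * u * h⁻¹} : Set (Matrix.SpecialLinearGroup (Fin n) F)) = ⊤ := by
  classical
  obtain ⟨m, rfl⟩ : ∃ m, n = m + 3 := ⟨n - 3, by omega⟩
  let z : Fin (m + 3) := 0
  let o : Fin (m + 3) := ⟨1, by omega⟩
  let l : Fin (m + 3) := ⟨m + 2, by omega⟩
  have hzo : o ≠ z := fun e => by simp [o, z, Fin.ext_iff] at e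
  have hol : o ≠ l := fun e => by simp [o, l, Fin.ext_iff] at e
  have hzl : z ≠ l := fun e => by simp [z, l, Fin.ext_iff] at e
  let J : Matrix.SpecialLinearGroup (Fin (m + 3)) F := ⟨JM m F, JM_det m⟩
  -- the lower bidiagonal conjugate
  let P : Matrix (Fin (m + 3)) (Fin (m + 3)) F := Matrix.submatrix 1 id Fin.rev
  have hPsq : P * P = 1 := by
    ext i j
    simp [P, Matrix.mul_apply, Matrix.one_apply]
  have hPdet : P.det ≠ 0 := fun e => by
    have := congrArg Matrix.det hPsq
    rw [Matrix.det_mul, e, mul_zero, Matrix.det_one] at this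
    exact zero_ne_one this
  let σ : Fin (m + 3) → F := Function.update 1 z P.det⁻¹
  have hσ : ∀ i, σ i ≠ 0 := fun i => by
    simp only [σ, Function.update_apply]
    split_ifs
    · exact inv_ne_zero hPdet
    · exact one_ne_zero
  let h : Matrix.SpecialLinearGroup (Fin (m + 3)) F := ⟨P * Matrix.diagonal σ, by
    rw [Matrix.det_mul, Matrix.det_diagonal, Fintype.prod_eq_single z (fun i hi => by simp [σ, Function.update_of_ne hi])]
    simp [σ, mul_inv_cancel₀ hPdet]⟩
  have hhJ : ((h * J * h⁻¹ : Matrix.SpecialLinearGroup (Fin (m + 3)) F) : Matrix (Fin (m + 3)) (Fin (m + 3)) F) =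
      Matrix.of fun i j => σ i.rev * (σ j.rev)⁻¹ * JM m F i.rev j.rev := by
    rw [val_mul, val_mul]
    have e : (h : Matrix (Fin (m + 3)) (Fin (m + 3)) F) * JM m F =
        (Matrix.of fun i j : Fin (m + 3) => σ i.rev * (σ j.rev)⁻¹ * JM m F i.rev j.rev) * (h : Matrix (Fin (m + 3)) (Fin (m + 3)) F) := by
      show P * Matrix.diagonal σ * JM m F = _ * (P * Matrix.diagonal σ)
      generalize hQ : P * Matrix.diagonal σ = Q
      ext i j
      have hP : ∀ x y : Fin (m + 3), Q x y = if y = x.rev then σ y else 0 := fun x y => by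
        rw [← hQ]
        rw [Matrix.mul_diagonal]
        by_cases hy : y = x.rev
        · subst hy; rw [if_pos rfl]; show (1 : Matrix (Fin (m + 3)) (Fin (m + 3)) F) x (Fin.rev x).rev * _ = _; rw [Fin.rev_rev, Matrix.one_apply_eq, one_mul]
        · rw [if_neg hy, show P x y = 0 from Matrix.one_apply_ne (fun e => hy (by rw [show x = y.rev from e, Fin.rev_rev])), zero_mul]
      rw [Matrix.mul_apply, Finset.sum_eq_single i.rev, Matrix.mul_apply, Finset.sum_eq_single j.rev, hP, hP, if_pos rfl,
        if_pos (Fin.rev_rev j).symm, Matrix.of_apply, Fin.rev_rev]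
      · field_simp [hσ j]
      · intro x _ hx
        rw [hP, if_neg (fun e => hx (by rw [e, Fin.rev_rev])), mul_zero]
      · simp
      · intro x _ hx
        rw [hP, if_neg hx, zero_mul]
      · simp
    show (h : Matrix (Fin (m + 3)) (Fin (m + 3)) F) * JM m F * _ = _
    rw [e, Matrix.mul_assoc, val_mul_inv, Matrix.mul_one]
  have hnil : IsNilpotent ((J : Matrix (Fin (m + 3)) (Fin (m + 3)) F) - 1) := ⟨m + 3, by
    show (JM m F - 1) ^ (m + 3) = 0
    rw [JM_sub_pow]
    ext i j
    simp only [Matrix.of_apply, Matrix.zero_apply]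
    rw [if_neg (by have := j.isLt; omega)]⟩
  have hreg : ((J : Matrix (Fin (m + 3)) (Fin (m + 3)) F) - 1) ^ (m + 3 - 1) ≠ 0 := fun e => by
    have e' := congrFun (congrFun e z) l
    change ((JM m F - 1) ^ (m + 2)) z l = 0 at e'
    rw [JM_sub_pow, Matrix.of_apply, if_pos (by show m + 2 = 0 + (m + 2); omega)] at e'
    exact one_ne_zero e'
  set K := h * J * h⁻¹
  let e : Fin (m + 3) → Fin (m + 3) → F := fun i => Pi.single i 1
  let f := e l
  have hfdot : ∀ x : Fin (m + 3) → F, f ⬝ᵥ x = x l := fun x => by simp [f, e]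
  let k : Fin (m + 3) → F := fun i => if hi : 0 < (i : ℕ) then σ i.rev * (σ (⟨(i : ℕ) - 1, by omega⟩ : Fin (m + 3)).rev)⁻¹ else 0
  have hk0 : ∀ i : Fin (m + 3), 0 < (i : ℕ) → k i ≠ 0 := fun i hi => by
    simp only [k, dif_pos hi]; exact mul_ne_zero (hσ _) (inv_ne_zero (hσ _))
  have hKe : ∀ i j : Fin (m + 3), (K : Matrix (Fin (m + 3)) (Fin (m + 3)) F) i j =
      if i = j then 1 else if (i : ℕ) = j + 1 then k i else 0 := by
    intro i j
    rw [hhJ, Matrix.of_apply]
    simp only [JM, Matrix.of_apply, Fin.rev_inj, Fin.val_rev]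
    have := i.isLt
    have := j.isLt
    by_cases hij : i = j
    · subst hij; rw [if_pos rfl, if_pos rfl, mul_one, mul_inv_cancel₀ (hσ _)]
    · rw [if_neg hij, if_neg hij]
      by_cases hs : (i : ℕ) = j + 1
      · rw [if_pos (by omega), if_pos hs, mul_one]
        simp only [k, dif_pos (show 0 < (i : ℕ) by omega)]
        congr 3
        exact congrArg Fin.rev (Fin.ext (by show (j : ℕ) = (i : ℕ) - 1; omega))
      · rw [if_neg (by omega), if_neg hs, mul_zero]
  -- the first column of `K⁻¹`
  set Ki : Matrix (Fin (m + 3)) (Fin (m + 3)) F := ((K⁻¹ : Matrix.SpecialLinearGroup (Fin (m + 3)) F) : Matrix (Fin (m + 3)) (Fin (m + 3)) F)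
  have hcol : ∀ (a : ℕ) (i : Fin (m + 3)), (i : ℕ) = a → Ki i z ≠ 0 := by
    intro a
    induction a with
    | zero =>
      intro i hi
      have h1 := congrFun (congrFun (val_mul_inv K) i) z
      rw [Matrix.mul_apply, Finset.sum_eq_single i] at h1
      · rw [hKe, if_pos rfl, one_mul, show i = z from Fin.ext hi, Matrix.one_apply_eq] at h1
        rw [show i = z from Fin.ext hi, show Ki z z = 1 from h1]; exact one_ne_zero
      · intro x _ hx
        rw [hKe, if_neg (Ne.symm hx), if_neg (by omega), zero_mul]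
      · simp
    | succ a ih =>
      intro i hi h0
      have := i.isLt
      let i' : Fin (m + 3) := ⟨a, by omega⟩
      have hi'i : i' ≠ i := fun e => by have e' := congrArg Fin.val e; simp [i'] at e'; omega
      have h1 := congrFun (congrFun (val_mul_inv K) i) z
      rw [Matrix.mul_apply, Finset.sum_eq_single i'] at h1
      · rw [hKe, if_neg (Ne.symm hi'i), if_pos (by show (i : ℕ) = a + 1; exact hi), Matrix.one_apply_ne (fun e => by rw [e] at hi; simp [z] at hi)] at h1
        exact ih i' rfl ((mul_eq_zero.1 h1).resolve_left (hk0 i (by omega)))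
      · intro x _ hx
        by_cases hxi : x = i
        · subst hxi; rw [hKe, if_pos rfl, one_mul]; exact h0
        · rw [hKe, if_neg (Ne.symm hxi), if_neg (fun e => hx (Fin.ext (by show (x : ℕ) = a; omega))), zero_mul]
      · simp
  set ψ : Fin (m + 3) → F := f ᵥ* Ki
  set ε : F := ψ ⬝ᵥ e z
  have hε : ε ≠ 0 := by
    have h1 : ε = Ki l z := by simp [ε, ψ, f, e, Matrix.single_vecMul]
    rw [h1]; exact hcol _ l rfl
  obtain ⟨c₀, hc₀⟩ := IsCyclic.exists_generator (α := Fˣ)
  let c : F := (c₀ : F) / (ε * k o)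
  have hko : k o ≠ 0 := hk0 o (by simp [o])
  have hcne : c ≠ 0 := div_ne_zero c₀.ne_zero (mul_ne_zero hε hko)
  have hδ : ε * k o * c = (c₀ : F) := mul_div_cancel₀ _ (mul_ne_zero hε hko)
  let T : Matrix.SpecialLinearGroup (Fin (m + 3)) F := SpecialLinearGroup.transvection hzl c
  let g : Matrix.SpecialLinearGroup (Fin (m + 3)) F := SpecialLinearGroup.transvection hol (-c)
  have hgJ : g * J * g⁻¹ = J * T := by
    rw [mul_inv_eq_iff_eq_mul]
    refine Subtype.ext ?_
    show (g : Matrix (Fin (m + 3)) (Fin (m + 3)) F) * JM m F = JM m F * (T : Matrix (Fin (m + 3)) (Fin (m + 3)) F) * (g : Matrix (Fin (m + 3)) (Fin (m + 3)) F)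
    rw [SpecialLinearGroup.transvection_coe, SpecialLinearGroup.transvection_coe]
    have e1 : Matrix.single o l (-c) * JM m F = Matrix.single o l (-c) := by
      ext i j
      by_cases hi : i = o
      · subst hi
        rw [Matrix.single_mul_apply_same]
        by_cases hj : j = l
        · subst hj; simp [JM]
        · rw [show JM m F l j = 0 by simp only [JM, Matrix.of_apply]; rw [if_neg (Ne.symm hj), if_neg (by have := j.isLt; show ¬ (j : ℕ) = m + 2 + 1; omega)],
            mul_zero, Matrix.single_apply, if_neg (fun e => hj e.2.symm)]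
      · rw [Matrix.single_mul_apply_of_ne (h := hi), Matrix.single_apply, if_neg (fun e => hi e.1.symm)]
    have e2 : JM m F * Matrix.single z l c = Matrix.single z l c := by
      ext i j
      by_cases hj : j = l
      · subst hj
        rw [Matrix.mul_single_apply_same]
        by_cases hi : i = z
        · subst hi; simp [JM]
        · rw [show JM m F i z = 0 by simp only [JM, Matrix.of_apply]; rw [if_neg hi, if_neg (by show ¬ 0 = (i : ℕ) + 1; omega)],
            zero_mul, Matrix.single_apply, if_neg (fun e => hi e.1.symm)]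
      · rw [Matrix.mul_single_apply_of_ne (hbj := hj), Matrix.single_apply, if_neg (fun e => hj e.2.symm)]
    have e3 : JM m F * Matrix.single o l (-c) = Matrix.single o l (-c) + Matrix.single z l (-c) := by
      ext i j
      by_cases hj : j = l
      · subst hj
        rw [Matrix.mul_single_apply_same, Matrix.add_apply, Matrix.single_apply, Matrix.single_apply]
        by_cases hi : i = o
        · subst hi; simp [JM, hzo, Ne.symm hzo]
        · by_cases hi' : i = z
          · subst hi'; simp [JM, hi, hzo, Ne.symm hzo]; simp [o, z]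
          · rw [show JM m F i o = 0 by simp only [JM, Matrix.of_apply]; rw [if_neg hi, if_neg (fun e => hi' (Fin.ext (by have e' : 1 = (i : ℕ) + 1 := e; show (i : ℕ) = 0; omega)))],
              zero_mul, if_neg (fun e => hi e.1.symm), if_neg (fun e => hi' e.1.symm), add_zero]
      · rw [Matrix.mul_single_apply_of_ne (hbj := hj), Matrix.add_apply, Matrix.single_apply, Matrix.single_apply,
          if_neg (fun e => hj e.2.symm), if_neg (fun e => hj e.2.symm), add_zero]
    have e4 : Matrix.single z l c * Matrix.single o l (-c) = 0 := Matrix.single_mul_single_of_ne (h := hol.symm) ..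
    rw [add_mul, one_mul, e1, mul_add (JM m F) 1, mul_one, e2, mul_add, mul_one, add_mul, e3, e4, add_zero,
      show Matrix.single z l (-c) = -Matrix.single z l c from map_neg (Matrix.singleAddMonoidHom z l) c]
    abel
  refine ⟨J, g, h, ⟨hnil, hreg⟩, ?_⟩
  rw [hgJ]
  set H := Subgroup.closure ({J, J * T, K} : Set (Matrix.SpecialLinearGroup (Fin (m + 3)) F))
  have hJH : J ∈ H := Subgroup.subset_closure (by simp)
  have hKH : K ∈ H := Subgroup.subset_closure (by simp)
  have hTH : T ∈ H := by
    have h1 := H.mul_mem (H.inv_mem hJH) (Subgroup.subset_closure (by simp) : J * T ∈ H)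
    rwa [inv_mul_cancel_left] at h1
  have hKcol : ∀ i i' : Fin (m + 3), (i' : ℕ) = i + 1 →
      (K : Matrix (Fin (m + 3)) (Fin (m + 3)) F) *ᵥ e i = e i + k i' • e i' := by
    intro i i' hii
    funext r
    have hne : i ≠ i' := fun e => by rw [e] at hii; omega
    rw [Matrix.mulVec_single_one, Matrix.col_apply, hKe, Pi.add_apply, Pi.smul_apply, smul_eq_mul]
    by_cases h1 : r = i
    · subst h1; simp [e, hne]
    · by_cases h2 : r = i'
      · subst h2; simp [e, hii, hne.symm]
      · rw [if_neg h1, if_neg (fun e => h2 (Fin.ext (by omega)))]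
        simp [e, h1, h2]
  have hfT : In H (c • e z) f := by
    refine ⟨T, hTH, ?_⟩
    rw [SpecialLinearGroup.transvection_coe]
    congr 1
    ext r s
    by_cases h1 : z = r <;> by_cases h2 : l = s <;>
      simp [f, e, vecMulVec_apply, Matrix.single_apply, Pi.single_apply, h1, h2, eq_comm, Ne.symm]
  have hfJ : f ᵥ* (J : Matrix (Fin (m + 3)) (Fin (m + 3)) F) = f := by
    funext j
    show (Pi.single l 1 ᵥ* JM m F) j = _
    rw [Matrix.single_vecMul, one_smul]
    show JM m F l j = _
    simp only [JM, Matrix.of_apply, f, e, Pi.single_apply]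
    by_cases hj : j = l
    · subst hj; simp
    · rw [if_neg (Ne.symm hj), if_neg (by have := j.isLt; show ¬ (j : ℕ) = m + 2 + 1; omega), if_neg hj]
  have step : ∀ (i i' : Fin (m + 3)), (i' : ℕ) = i + 1 → (i' : ℕ) < m + 2 → ∀ (a : F) (x : Fin (m + 3) → F),
      In H (a • e i) f → f ⬝ᵥ x = 0 → In H x f → In H ((ψ ⬝ᵥ x) • (a • e i + (a * k i') • e i')) f := by
    intro i i' hii hlt a x ha hx hxin
    have h1 := in_conj hKH ha
    rw [Matrix.mulVec_smul, hKcol i i' hii, smul_add, smul_smul] at h1
    refine in_comm hx ?_ hxin h1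
    rw [hfdot]
    have e1 : l ≠ i := fun e => by rw [← e] at hii; simp [l] at hii; omega
    have e2 : l ≠ i' := fun e => by rw [← e] at hlt; simp [l] at hlt
    simp [e, Pi.single_apply, e1, e2]
  have hJe : ∀ b d : F, (J : Matrix (Fin (m + 3)) (Fin (m + 3)) F) *ᵥ (b • e z + d • e o) = b • e z + d • e o + d • e z := by
    intro b d
    funext r
    show (JM m F *ᵥ _) r = _
    rw [JM_mulVec, Pi.add_apply (b • e z + d • e o)]
    congr 1
    simp only [e, Pi.add_apply, Pi.smul_apply, smul_eq_mul, Pi.single_apply]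
    have hoz : ∀ h1, (⟨(r : ℕ) + 1, h1⟩ : Fin (m + 3)) ≠ z := fun h1 e => by
      have e' : (r : ℕ) + 1 = 0 := congrArg Fin.val e
      omega
    by_cases hr : r = z
    · subst hr
      rw [dif_pos (by show (0 : ℕ) + 1 < m + 3; omega), if_pos rfl]
      rw [if_neg (fun e => by have e' := congrArg Fin.val e; simp [z] at e'), if_pos (Fin.ext (by simp [z, o]))]
      ring
    · have hr0 : (r : ℕ) ≠ 0 := fun e => hr (Fin.ext e)
      rw [if_neg hr]
      by_cases h1 : (r : ℕ) + 1 < m + 3
      · rw [dif_pos h1, if_neg (hoz h1), if_neg (fun e => hr0 (by have e' : (r : ℕ) + 1 = 1 := congrArg Fin.val e; omega))]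
        ring
      · rw [dif_neg h1]
        ring
  -- all multiples of the first basis vector
  let S : AddSubgroup F :=
    { carrier := {a | In H (a • e z) f}
      zero_mem' := by show In H _ f; rw [zero_smul]; exact in_zero_left f
      add_mem' := fun {a b} ha hb => by
        show In H _ f
        rw [add_smul]
        exact in_add (by rw [hfdot]; simp [e, Ne.symm hzl]) ha hb
      neg_mem' := fun {a} ha => by
        show In H _ f
        rw [neg_smul]
        exact in_neg (by rw [hfdot]; simp [e, Ne.symm hzl]) ha }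
  have hmulS : ∀ a ∈ S, ε * k o * c * a ∈ S := by
    intro a ha
    have h1 := step z o (by simp [z, o]) (by show 1 < m + 2; omega) c (a • e z) hfT (by rw [hfdot]; simp [e, Ne.symm hzl]) ha
    rw [dotProduct_smul, smul_eq_mul] at h1
    rw [smul_add, smul_smul, smul_smul] at h1
    have h2 := in_fix hJH hfJ h1
    rw [hJe] at h2
    have hdot : f ⬝ᵥ ((a * ε * c) • e z + (a * ε * (c * k o)) • e o) = 0 := by
      rw [hfdot]; simp [e, Ne.symm hzl, Ne.symm hol]
    have h3 := in_sub hdot h2 h1
    rw [add_sub_cancel_left] at h3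
    show In H _ f
    convert h3 using 2
    ring
  have hSpow : ∀ j : ℕ, (c₀ : F) ^ j * c ∈ S := by
    intro j
    induction j with
    | zero => show In H _ f; rw [pow_zero, one_mul]; exact hfT
    | succ j ih =>
      have h1 := hmulS _ ih
      rwa [hδ, ← mul_assoc, ← pow_succ'] at h1
  have hSall : ∀ a : F, In H (a • e z) f := by
    intro a
    rcases eq_or_ne a 0 with rfl | ha
    · rw [zero_smul]; exact in_zero_left f
    · obtain ⟨j, hj⟩ : Units.mk0 (a / c) (div_ne_zero ha hcne) ∈ Submonoid.powers c₀ :=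
        mem_powers_iff_mem_zpowers.2 (hc₀ _)
      have h1 : (c₀ : F) ^ j * c = a := by
        rw [← Units.val_pow_eq_pow_val, show c₀ ^ j = Units.mk0 (a / c) (div_ne_zero ha hcne) from hj, Units.val_mk0,
          div_mul_cancel₀ a hcne]
      exact h1 ▸ hSpow j
  -- all unit vectors in the kernel of the last coordinate
  have hbasis : ∀ (s : ℕ) (i : Fin (m + 3)), (i : ℕ) = s → s < m + 2 → ∀ a : F, In H (a • e i) f := by
    intro s
    induction s with
    | zero => intro i hi _ a; rw [show i = z from Fin.ext hi]; exact hSall a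
    | succ s ih =>
      intro i hi hlt a
      let i₀ : Fin (m + 3) := ⟨s, by omega⟩
      have hki : k i ≠ 0 := hk0 i (by omega)
      set b : F := a / (ε * k i) with hb
      have h1 := step i₀ i hi (by omega) b (e z) (ih i₀ rfl (by omega) b) (by rw [hfdot]; simp [e, Ne.symm hzl])
        (by simpa using hSall 1)
      rw [show ψ ⬝ᵥ e z = ε from rfl, smul_add, smul_smul, smul_smul,
        show ε * (b * k i) = a by rw [hb]; field_simp] at h1
      have h2 := in_sub (y := (ε * b) • e i₀) (by
        rw [hfdot]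
        have : l ≠ i₀ := fun e => by have e' := congrArg Fin.val e; simp [l, i₀] at e'; omega
        simp [e, Pi.single_apply, this]) h1 (ih i₀ rfl (by omega) (ε * b))
      rwa [add_sub_cancel_left] at h2
  have hfull : Full H f := by
    intro x hx
    rw [hfdot] at hx
    have hx' : x = ∑ i, x i • e i := by
      funext r
      simp [e, Finset.sum_apply, Pi.single_apply]
    rw [hx']
    have : ∀ t : Finset (Fin (m + 3)), f ⬝ᵥ (∑ i ∈ t, x i • e i) = 0 ∧ In H (∑ i ∈ t, x i • e i) f := by
      intro t
      induction t using Finset.induction_on with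
      | empty => rw [Finset.sum_empty]; exact ⟨dotProduct_zero f, in_zero_left f⟩
      | @insert i t hit iht =>
        rw [Finset.sum_insert hit]
        by_cases hil : i = l
        · rw [hil, hx, zero_smul, zero_add]; exact iht
        · have h0 : f ⬝ᵥ (x i • e i) = 0 := by rw [hfdot]; simp [e, Pi.single_apply, Ne.symm hil]
          refine ⟨by rw [dotProduct_add, h0, iht.1, add_zero], in_add iht.1 (hbasis i i rfl ?_ (x i)) iht.2⟩
          have := i.isLt
          have : (i : ℕ) ≠ m + 2 := fun e => hil (Fin.ext e)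
          omega
    exact (this Finset.univ).2
  have hFe : ∀ (s : ℕ) (i : Fin (m + 3)), (i : ℕ) + s = m + 2 → Full H (e i) := by
    intro s
    induction s with
    | zero => intro i hi; rw [show i = l from Fin.ext (by show (i : ℕ) = m + 2; omega)]; exact hfull
    | succ s ih =>
      intro i hi
      let i' : Fin (m + 3) := ⟨(i : ℕ) + 1, by omega⟩
      have hi' := ih i' (by show (i : ℕ) + 1 + s = m + 2; omega)
      have h1 := full_add (full_conj hi' hKH) (full_smul hi' (-1))
      have hki : k i' ≠ 0 := hk0 i' (by show 0 < (i : ℕ) + 1; omega)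
      have h2 : e i' ᵥ* (K : Matrix (Fin (m + 3)) (Fin (m + 3)) F) + (-1 : F) • e i' = k i' • e i := by
        funext r
        simp only [e, Pi.add_apply, Matrix.single_vecMul, one_smul, Pi.smul_apply, smul_eq_mul]
        show (K : Matrix (Fin (m + 3)) (Fin (m + 3)) F) i' r + _ = _
        rw [hKe]
        have hne : i ≠ i' := fun e => by have e' := congrArg Fin.val e; simp [i'] at e'
        by_cases hr : i' = r
        · subst hr; simp [hne.symm]
        · rw [if_neg hr]
          by_cases hr2 : r = i
          · subst hr2; rw [if_pos rfl]; simp [Pi.single_apply, Ne.symm hr, hne]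
          · rw [if_neg (fun e => hr2 (Fin.ext (by show (r : ℕ) = i; have e' : (i : ℕ) + 1 = r + 1 := e; omega)))]
            simp [Pi.single_apply, Ne.symm hr, hr2]
      rw [h2] at h1
      have h3 := full_smul h1 (k i')⁻¹
      rwa [smul_smul, inv_mul_cancel₀ hki, one_smul] at h3
  refine eq_top_of_full (by omega) fun φ => ?_
  have hφ : φ = ∑ i, φ i • e i := by
    funext r
    simp [e, Finset.sum_apply, Pi.single_apply]
  rw [hφ]
  exact Finset.sum_induction _ (Full H) (fun _ _ => full_add) (fun x _ => in_zero_right x)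
    (fun i _ => full_smul (hFe (m + 2 - i) i (by have := i.isLt; omega)) _)

end Cfsg.Agent.S2280
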