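import Cfsg.Statements.S2298
import Cfsg.Agent.Lib.GL2.GLChars

set_option autoImplicit false
open Cfsg

namespace Cfsg.Agent.S2298

/-- Over a finite field F with q elements, every irreducible complex character of GL₂ has degree 1, q − 1, q or q + 1; and when q ≥ 3 (so that these four numbers are distinct) there are exactly q − 1 irreducible characters of degree 1, exactly q − 1 of degree q, exactly (q − 1)(q − 2)/2 of degree q + 1 and exactly q(q − 1)/2 of degree q − 1. -/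
theorem result {F : Type*} [Field F] [Fintype F] :
    (∀ χ : Matrix.GeneralLinearGroup (Fin 2) F → ℂ, Cfsg.IsIrrCharacter (Matrix.GeneralLinearGroup (Fin 2) F) χ →
      χ 1 = 1 ∨ χ 1 = (Fintype.card F : ℂ) - 1 ∨ χ 1 = (Fintype.card F : ℂ) ∨ χ 1 = (Fintype.card F : ℂ) + 1) ∧
    (3 ≤ Fintype.card F →
      Nat.card {χ : Cfsg.IrrCharacter (Matrix.GeneralLinearGroup (Fin 2) F) // (χ : Matrix.GeneralLinearGroup (Fin 2) F → ℂ) 1 = 1} = Fintype.card F - 1 ∧
      Nat.card {χ : Cfsg.IrrCharacter (Matrix.GeneralLinearGroup (Fin 2) F) // (χ : Matrix.GeneralLinearGroup (Fin 2) F → ℂ) 1 = (Fintype.card F : ℂ)} = Fintype.card F - 1 ∧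
      Nat.card {χ : Cfsg.IrrCharacter (Matrix.GeneralLinearGroup (Fin 2) F) // (χ : Matrix.GeneralLinearGroup (Fin 2) F → ℂ) 1 = (Fintype.card F : ℂ) + 1} = (Fintype.card F - 1) * (Fintype.card F - 2) / 2 ∧
      Nat.card {χ : Cfsg.IrrCharacter (Matrix.GeneralLinearGroup (Fin 2) F) // (χ : Matrix.GeneralLinearGroup (Fin 2) F → ℂ) 1 = (Fintype.card F : ℂ) - 1} = Fintype.card F * (Fintype.card F - 1) / 2) := by
  classical
  obtain ⟨hcu, cL, cT, cP, cC⟩ := GL2.gl_census (F := F)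
  refine ⟨fun χ hχ => ?_, fun h3 => ?_⟩
  · rcases GL2.gl_cases hχ with ⟨α, rfl⟩ | ⟨α, rfl⟩ | ⟨α, β, -, rfl⟩ | hc
    · exact Or.inl (GL2.linG_one α)
    · exact Or.inr (Or.inr (Or.inl (GL2.StT_one α)))
    · exact Or.inr (Or.inr (Or.inr (GL2.RG_one α β)))
    · exact Or.inr (Or.inl (GL2.isCusp_degree hχ hc).1)
  · have e := fun χ : Cfsg.IrrCharacter (Matrix.GeneralLinearGroup (Fin 2) F) =>
      GL2.kind_of_degree χ.2
    refine ⟨cL ▸ ?_, cT ▸ ?_, cP ▸ ?_, cC ▸ ?_⟩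
    · exact Nat.card_congr (Equiv.subtypeEquivRight fun χ =>
        ⟨(e χ).1 h3, fun ⟨α, h⟩ => by rw [h, GL2.linG_one]⟩)
    · exact Nat.card_congr (Equiv.subtypeEquivRight fun χ =>
        ⟨(e χ).2.1, fun ⟨α, h⟩ => by rw [h, GL2.StT_one]⟩)
    · exact Nat.card_congr (Equiv.subtypeEquivRight fun χ =>
        ⟨(e χ).2.2.1, fun ⟨α, β, _, h⟩ => by rw [h, GL2.RG_one]⟩)
    · exact Nat.card_congr (Equiv.subtypeEquivRight fun χ =>
        ⟨(e χ).2.2.2 h3, fun h => (GL2.isCusp_degree χ.2 h).1⟩)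

end Cfsg.Agent.S2298
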