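import Cfsg.Statements.S2299
import Cfsg.Agent.Lib.GL2.SLValues

set_option autoImplicit false
open Cfsg

namespace Cfsg.Agent.S2299

/-- Over a finite field F with q elements, q odd, every irreducible complex character of SL₂ has degree 1, q, q + 1, q − 1, (q + 1)/2 or (q − 1)/2; and when q ≥ 5 (so that these six numbers are distinct) there are exactly one irreducible character of degree 1, one of degree q, (q − 3)/2 of degree q + 1, (q − 1)/2 of degree q − 1, two of degree (q + 1)/2 and two of degree (q − 1)/2. -/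
theorem result {F : Type*} [Field F] [Fintype F] (hodd : Odd (Fintype.card F)) :
    (∀ χ : Matrix.SpecialLinearGroup (Fin 2) F → ℂ, Cfsg.IsIrrCharacter (Matrix.SpecialLinearGroup (Fin 2) F) χ →
      χ 1 = 1 ∨ χ 1 = (Fintype.card F : ℂ) ∨ χ 1 = (Fintype.card F : ℂ) + 1 ∨ χ 1 = (Fintype.card F : ℂ) - 1 ∨
        χ 1 = (((Fintype.card F + 1) / 2 : ℕ) : ℂ) ∨ χ 1 = (((Fintype.card F - 1) / 2 : ℕ) : ℂ)) ∧
    (5 ≤ Fintype.card F →
      Nat.card {χ : Cfsg.IrrCharacter (Matrix.SpecialLinearGroup (Fin 2) F) // (χ : Matrix.SpecialLinearGroup (Fin 2) F → ℂ) 1 = 1} = 1 ∧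
      Nat.card {χ : Cfsg.IrrCharacter (Matrix.SpecialLinearGroup (Fin 2) F) // (χ : Matrix.SpecialLinearGroup (Fin 2) F → ℂ) 1 = (Fintype.card F : ℂ)} = 1 ∧
      Nat.card {χ : Cfsg.IrrCharacter (Matrix.SpecialLinearGroup (Fin 2) F) // (χ : Matrix.SpecialLinearGroup (Fin 2) F → ℂ) 1 = (Fintype.card F : ℂ) + 1} = (Fintype.card F - 3) / 2 ∧
      Nat.card {χ : Cfsg.IrrCharacter (Matrix.SpecialLinearGroup (Fin 2) F) // (χ : Matrix.SpecialLinearGroup (Fin 2) F → ℂ) 1 = (Fintype.card F : ℂ) - 1} = (Fintype.card F - 1) / 2 ∧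
      Nat.card {χ : Cfsg.IrrCharacter (Matrix.SpecialLinearGroup (Fin 2) F) // (χ : Matrix.SpecialLinearGroup (Fin 2) F → ℂ) 1 = (((Fintype.card F + 1) / 2 : ℕ) : ℂ)} = 2 ∧
      Nat.card {χ : Cfsg.IrrCharacter (Matrix.SpecialLinearGroup (Fin 2) F) // (χ : Matrix.SpecialLinearGroup (Fin 2) F → ℂ) 1 = (((Fintype.card F - 1) / 2 : ℕ) : ℂ)} = 2) := by
  classical
  obtain ⟨hp, hm⟩ := GL2.odd_half hodd
  have hN := GL2.card_sq_one_odd (GL2.ringChar_ne_two_of_odd hodd)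
  refine ⟨fun χ hχ => ?_, fun h5 => ?_⟩
  · rcases GL2.sl_cases hχ with rfl | rfl | ⟨α, -, rfl⟩ | ⟨α, a, b, c⟩ | hc
    · exact Or.inl rfl
    · exact Or.inr (Or.inl GL2.StS_one)
    · exact Or.inr (Or.inr (Or.inl (GL2.RS_one_apply α)))
    · exact Or.inr (Or.inr (Or.inr (Or.inr (Or.inl
        (by linear_combination (GL2.half_props hχ a b c).1 / 2 - hp / 2)))))
    · rcases GL2.cusp_degree hχ hc with h | h
      · exact Or.inr (Or.inr (Or.inr (Or.inl h.2)))
      · exact Or.inr (Or.inr (Or.inr (Or.inr (Or.inr (by linear_combination h.2 / 2 - hm / 2)))))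
  · obtain ⟨cP, cH, cF, cC⟩ := GL2.sl_census (F := F)
    rw [hN] at cP cH cF cC
    have e := fun χ : Cfsg.IrrCharacter (Matrix.SpecialLinearGroup (Fin 2) F) =>
      GL2.kind_of_degreeS χ.2
    refine ⟨?_, ?_, ?_, ?_, ?_, ?_⟩
    · refine Nat.card_eq_one_iff_exists.mpr ⟨⟨⟨1, Char.isIrrCharacter_one⟩, rfl⟩, fun χ => ?_⟩
      exact Subtype.ext (Subtype.ext ((e χ.1).2.2.2.2.2 (by omega) χ.2))
    · refine Nat.card_eq_one_iff_exists.mpr ⟨⟨⟨_, GL2.isIrr_StS⟩, GL2.StS_one⟩, fun χ => ?_⟩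
      exact Subtype.ext (Subtype.ext ((e χ.1).1 χ.2))
    · rw [Nat.card_congr (Equiv.subtypeEquivRight fun χ =>
        ⟨(e χ).2.1, fun ⟨α, _, h⟩ => by rw [h, GL2.RS_one_apply]⟩)]
      omega
    · rw [Nat.card_congr (Equiv.subtypeEquivRight fun χ =>
        ⟨(e χ).2.2.1 (by omega), fun h => h.2⟩)]
      omega
    · rw [Nat.card_congr (Equiv.subtypeEquivRight fun χ =>
        ⟨fun h => (e χ).2.2.2.1 (by omega) (by linear_combination 2 * h + hp),
          fun ⟨α, a, b, c⟩ => by linear_combination (GL2.half_props χ.2 a b c).1 / 2 - hp / 2⟩)]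
      omega
    · rw [Nat.card_congr (Equiv.subtypeEquivRight fun χ =>
        ⟨fun h => (e χ).2.2.2.2.1 (by omega) (by linear_combination 2 * h + hm),
          fun h => by linear_combination h.2 / 2 - hm / 2⟩)]
      omega

end Cfsg.Agent.S2299
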