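import Cfsg.Statements.S2300
import Cfsg.Agent.Lib.GL2.SLValues

set_option autoImplicit false
open Cfsg

namespace Cfsg.Agent.S2300

/-- Over a finite field F with q elements, q even, every irreducible complex character of SL₂ has degree 1, q − 1, q or q + 1; and when q ≥ 4 (so that these four numbers are distinct) there are exactly one irreducible character of degree 1, one of degree q, (q − 2)/2 of degree q + 1 and q/2 of degree q − 1. -/
theorem result {F : Type*} [Field F] [Fintype F] [CharP F 2] :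
    (∀ χ : Matrix.SpecialLinearGroup (Fin 2) F → ℂ, Cfsg.IsIrrCharacter (Matrix.SpecialLinearGroup (Fin 2) F) χ →
      χ 1 = 1 ∨ χ 1 = (Fintype.card F : ℂ) - 1 ∨ χ 1 = (Fintype.card F : ℂ) ∨ χ 1 = (Fintype.card F : ℂ) + 1) ∧
    (4 ≤ Fintype.card F →
      Nat.card {χ : Cfsg.IrrCharacter (Matrix.SpecialLinearGroup (Fin 2) F) // (χ : Matrix.SpecialLinearGroup (Fin 2) F → ℂ) 1 = 1} = 1 ∧
      Nat.card {χ : Cfsg.IrrCharacter (Matrix.SpecialLinearGroup (Fin 2) F) // (χ : Matrix.SpecialLinearGroup (Fin 2) F → ℂ) 1 = (Fintype.card F : ℂ)} = 1 ∧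
      Nat.card {χ : Cfsg.IrrCharacter (Matrix.SpecialLinearGroup (Fin 2) F) // (χ : Matrix.SpecialLinearGroup (Fin 2) F → ℂ) 1 = (Fintype.card F : ℂ) + 1} = (Fintype.card F - 2) / 2 ∧
      Nat.card {χ : Cfsg.IrrCharacter (Matrix.SpecialLinearGroup (Fin 2) F) // (χ : Matrix.SpecialLinearGroup (Fin 2) F → ℂ) 1 = (Fintype.card F : ℂ) - 1} = Fintype.card F / 2) := by
  classical
  have hN := GL2.card_sq_one_even (ringChar.eq F 2)
  obtain ⟨cP, cH, cF, cC⟩ := GL2.sl_census (F := F)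
  rw [hN] at cP cH cF cC
  have noH : ∀ χ : Cfsg.IrrCharacter (Matrix.SpecialLinearGroup (Fin 2) F),
      ¬ GL2.IsHalf (χ : Matrix.SpecialLinearGroup (Fin 2) F → ℂ) := fun χ h => by
    haveI : Nonempty {χ : Cfsg.IrrCharacter (Matrix.SpecialLinearGroup (Fin 2) F) //
      GL2.IsHalf (χ : Matrix.SpecialLinearGroup (Fin 2) F → ℂ)} := ⟨⟨χ, h⟩⟩
    exact Nat.card_pos.ne' cH
  have noC : ∀ χ : Cfsg.IrrCharacter (Matrix.SpecialLinearGroup (Fin 2) F),
      ¬ GL2.IsCuspHalf (χ : Matrix.SpecialLinearGroup (Fin 2) F → ℂ) := fun χ h => by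
    haveI : Nonempty {χ : Cfsg.IrrCharacter (Matrix.SpecialLinearGroup (Fin 2) F) //
      GL2.IsCuspHalf (χ : Matrix.SpecialLinearGroup (Fin 2) F → ℂ)} := ⟨⟨χ, h⟩⟩
    exact Nat.card_pos.ne' cC
  refine ⟨fun χ hχ => ?_, fun h4 => ?_⟩
  · rcases GL2.sl_cases hχ with rfl | rfl | ⟨α, -, rfl⟩ | h | hc
    · exact Or.inl rfl
    · exact Or.inr (Or.inr (Or.inl GL2.StS_one))
    · exact Or.inr (Or.inr (Or.inr (GL2.RS_one_apply α)))
    · exact absurd h (noH ⟨χ, hχ⟩)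
    · rcases GL2.cusp_degree hχ hc with h | h
      · exact Or.inr (Or.inl h.2)
      · exact absurd h (noC ⟨χ, hχ⟩)
  · have e := fun χ : Cfsg.IrrCharacter (Matrix.SpecialLinearGroup (Fin 2) F) =>
      GL2.kind_of_degreeS χ.2
    refine ⟨?_, ?_, ?_, ?_⟩
    · refine Nat.card_eq_one_iff_exists.mpr ⟨⟨⟨1, Char.isIrrCharacter_one⟩, rfl⟩, fun χ => ?_⟩
      exact Subtype.ext (Subtype.ext ((e χ.1).2.2.2.2.2 h4 χ.2))
    · refine Nat.card_eq_one_iff_exists.mpr ⟨⟨⟨_, GL2.isIrr_StS⟩, GL2.StS_one⟩, fun χ => ?_⟩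
      exact Subtype.ext (Subtype.ext ((e χ.1).1 χ.2))
    · rw [Nat.card_congr (Equiv.subtypeEquivRight fun χ =>
        ⟨(e χ).2.1, fun ⟨α, _, h⟩ => by rw [h, GL2.RS_one_apply]⟩)]
      omega
    · rw [Nat.card_congr (Equiv.subtypeEquivRight fun χ =>
        ⟨(e χ).2.2.1 h4, fun h => h.2⟩)]
      omega

end Cfsg.Agent.S2300
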