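import Cfsg.Statements.S2301
import Cfsg.Agent.Lib.GL2.SLClasses

set_option autoImplicit false
open Cfsg

namespace Cfsg.Agent.S2301

open Cfsg.Agent.GL2 in
theorem one_z {F : Type*} [Field F] (b : F) :
    zS (⟨1, one_mul 1⟩ : {z : F // z * z = 1}) * uS b = uS b := by
  refine Subtype.ext ?_
  rw [zu_coe, uS_coe]
  apply Cfsg.Agent.Classical.SL2.coord <;> simp

open Cfsg.Agent.GL2 in
theorem size {F : Type*} [Field F] [Fintype F] {b : F} (hb : b ≠ 0)
    {g : Matrix.SpecialLinearGroup (Fin 2) F} (h : IsConj (uS b) g) :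
    Nat.card (ConjClasses.mk g).carrier * Nat.card {z : F // z * z = 1} =
      Fintype.card F ^ 2 - 1 := by
  have e := card_class (uS b)
  rw [ConjClasses.mk_eq_mk_iff_isConj.mpr h] at e
  rw [← one_z b, centralizer_zu _ hb, Cfsg.Agent.Classical.SL2.card_SL2, ← mul_assoc,
    mul_comm (Fintype.card F) (Fintype.card F ^ 2 - 1)] at e
  exact Nat.eq_of_mul_eq_mul_right Fintype.card_pos e

/-- Over a finite field with q elements of odd characteristic p, the elements of order p of SL₂ (the non-identity unipotent elements) fall into exactly two conjugacy classes, each of size (q² − 1)/2; two upper unitriangular matrices with non-zero off-diagonal entries b and b′ are conjugate exactly when bb′ is a square. -/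
theorem result {F : Type*} [Field F] [Fintype F] (p : ℕ) [Fact p.Prime] [CharP F p] (hp : p ≠ 2) :
    Nat.card {C : ConjClasses (Matrix.SpecialLinearGroup (Fin 2) F) // ∃ g : Matrix.SpecialLinearGroup (Fin 2) F, orderOf g = p ∧ ConjClasses.mk g = C} = 2 ∧
    (∀ g : Matrix.SpecialLinearGroup (Fin 2) F, orderOf g = p → Nat.card (ConjClasses.mk g).carrier = (Fintype.card F ^ 2 - 1) / 2) ∧
    ∀ g h : Matrix.SpecialLinearGroup (Fin 2) F, (g : Matrix (Fin 2) (Fin 2) F) 0 0 = 1 → (g : Matrix (Fin 2) (Fin 2) F) 1 1 = 1 → (g : Matrix (Fin 2) (Fin 2) F) 1 0 = 0 → (g : Matrix (Fin 2) (Fin 2) F) 0 1 ≠ 0 →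
      (h : Matrix (Fin 2) (Fin 2) F) 0 0 = 1 → (h : Matrix (Fin 2) (Fin 2) F) 1 1 = 1 → (h : Matrix (Fin 2) (Fin 2) F) 1 0 = 0 → (h : Matrix (Fin 2) (Fin 2) F) 0 1 ≠ 0 →
      (IsConj g h ↔ IsSquare ((g : Matrix (Fin 2) (Fin 2) F) 0 1 * (h : Matrix (Fin 2) (Fin 2) F) 0 1)) := by
  classical
  have hc : ringChar F ≠ 2 := by rw [ringChar.eq F p]; exact hp
  obtain ⟨R, h0, hex, hun, hZ, -, h2⟩ := GL2.exists_rep (F := F)
  have hiff : ∀ b b' : F, b ≠ 0 → b' ≠ 0 →
      (IsConj (GL2.uS b) (GL2.uS b') ↔ IsSquare (b * b')) := fun b b' hb hb' => by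
    rw [← one_z b, ← one_z b', GL2.isConj_zu_iff hb hb']; simp
  refine ⟨?_, ?_, ?_⟩
  · refine Eq.trans ?_ (h2 hc)
    rw [← Fintype.card_coe R, ← Nat.card_eq_fintype_card]
    symm
    refine Nat.card_eq_of_bijective (fun r : R => ⟨ConjClasses.mk (GL2.uS r.1), GL2.uS r.1,
      GL2.orderOf_uS p (h0 _ r.2), rfl⟩) ⟨fun r r' e => ?_, ?_⟩
    · have e' := ConjClasses.mk_eq_mk_iff_isConj.mp (congrArg Subtype.val e)
      exact Subtype.ext (hun _ r.2 _ r'.2 ((hiff _ _ (h0 _ r.2) (h0 _ r'.2)).mp e'))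
    · rintro ⟨_, g, hg, rfl⟩
      obtain ⟨b, hb, hbg⟩ := GL2.exists_uS p hg
      obtain ⟨r, hr, hs⟩ := hex b hb
      exact ⟨⟨r, hr⟩, Subtype.ext (ConjClasses.mk_eq_mk_iff_isConj.mpr
        (((hiff r b (h0 r hr) hb).mpr hs).trans hbg))⟩
  · intro g hg
    obtain ⟨b, hb, hbg⟩ := GL2.exists_uS p hg
    have e := size hb hbg
    rw [← hZ, h2 hc] at e
    omega
  · intro g h g00 g11 g10 g01 h00 h11 h10 h01
    have eg : g = GL2.uS ((g : Matrix (Fin 2) (Fin 2) F) 0 1) := Subtype.ext (by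
      rw [GL2.uS_coe]; apply Cfsg.Agent.Classical.SL2.coord <;> simp [g00, g11, g10])
    have eh : h = GL2.uS ((h : Matrix (Fin 2) (Fin 2) F) 0 1) := Subtype.ext (by
      rw [GL2.uS_coe]; apply Cfsg.Agent.Classical.SL2.coord <;> simp [h00, h11, h10])
    conv_lhs => rw [eg, eh]
    exact hiff _ _ g01 h01

end Cfsg.Agent.S2301
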