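import Cfsg.Statements.S2302
import Cfsg.Agent.Lib.GL2.SLClasses

set_option autoImplicit false
open Cfsg

namespace Cfsg.Agent.S2302

open Cfsg.Agent.GL2 in
theorem one_z {F : Type*} [Field F] (b : F) :
    zS (⟨1, one_mul 1⟩ : {z : F // z * z = 1}) * uS b = uS b := by
  refine Subtype.ext ?_
  rw [zu_coe, uS_coe]
  apply Cfsg.Agent.Classical.SL2.coord <;> simp

open Cfsg.Agent.GL2 in
theorem size {F : Type*} [Field F] [Fintype F] {b : F} (hb : b ≠ 0)
    {g : Matrix.SpecialLinearGroup (Fin 2) F} (h : IsConj (uS b) g) :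
    Nat.card (ConjClasses.mk g).carrier * Nat.card {z : F // z * z = 1} =
      Fintype.card F ^ 2 - 1 := by
  have e := card_class (uS b)
  rw [ConjClasses.mk_eq_mk_iff_isConj.mpr h] at e
  rw [← one_z b, centralizer_zu _ hb, Cfsg.Agent.Classical.SL2.card_SL2, ← mul_assoc,
    mul_comm (Fintype.card F) (Fintype.card F ^ 2 - 1)] at e
  exact Nat.eq_of_mul_eq_mul_right Fintype.card_pos e

/-- Over a finite field with q elements of characteristic 2, the involutions of SL₂ (the non-identity unipotent elements) form a single conjugacy class, of size q² − 1. -/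
theorem result {F : Type*} [Field F] [Fintype F] [CharP F 2] (g h : Matrix.SpecialLinearGroup (Fin 2) F) (hg : orderOf g = 2) (hh : orderOf h = 2) :
    IsConj g h ∧ Nat.card (ConjClasses.mk g).carrier = Fintype.card F ^ 2 - 1 := by
  classical
  obtain ⟨R, h0, hex, hun, hZ, h1, -⟩ := GL2.exists_rep (F := F)
  haveI : Fact (Nat.Prime 2) := ⟨Nat.prime_two⟩
  obtain ⟨b, hb, hbg⟩ := GL2.exists_uS 2 hg
  obtain ⟨c, hc, hch⟩ := GL2.exists_uS 2 hh
  refine ⟨hbg.symm.trans (IsConj.trans ?_ hch), ?_⟩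
  · rw [← one_z b, ← one_z c, GL2.isConj_zu_iff hb hc]
    exact ⟨rfl, FiniteField.isSquare_of_char_two (ringChar.eq F 2) _⟩
  · have e := size hb hbg
    rwa [← hZ, h1 (ringChar.eq F 2), mul_one] at e

end Cfsg.Agent.S2302
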