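import Cfsg.Statements.S2309
import Cfsg.Agent.Lib.GL2.GLChars

set_option autoImplicit false
open Cfsg

namespace Cfsg.Agent.S2309

/-- Over a finite field F with q elements: every irreducible complex character of GL₂ of degree q − 1 vanishes at every diagonal matrix with two distinct entries, and every irreducible complex character of degree q + 1 vanishes at every element with no eigenvector in F². -/
theorem result {F : Type*} [Field F] [Fintype F] (χ : Matrix.GeneralLinearGroup (Fin 2) F → ℂ) (hχ : Cfsg.IsIrrCharacter (Matrix.GeneralLinearGroup (Fin 2) F) χ) (g : Matrix.GeneralLinearGroup (Fin 2) F) :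
    (χ 1 = (Fintype.card F : ℂ) - 1 → (g : Matrix (Fin 2) (Fin 2) F) 0 1 = 0 → (g : Matrix (Fin 2) (Fin 2) F) 1 0 = 0 → (g : Matrix (Fin 2) (Fin 2) F) 0 0 ≠ (g : Matrix (Fin 2) (Fin 2) F) 1 1 → χ g = 0) ∧
    (χ 1 = (Fintype.card F : ℂ) + 1 → (∀ (c : F) (v : Fin 2 → F), v ≠ 0 → (g : Matrix (Fin 2) (Fin 2) F).mulVec v ≠ c • v) → χ g = 0) := by
  classical
  obtain ⟨-, -, h3, h4⟩ := GL2.kind_of_degree hχ
  refine ⟨fun hd h01 h10 hne => ?_, fun hd h => ?_⟩
  · refine GL2.cusp_split (Char.IsCharacter.isClassFunction (Char.IsIrrCharacter.isCharacter hχ))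
      (h4 ?_ hd) h10 hne
    have hd' := GL2.det_upper ⟨g, GL2.mem_BG.mpr h10⟩
    by_contra hlt
    have h2 : Fintype.card F = 2 := le_antisymm (by omega) Fintype.one_lt_card
    have : Nat.card Fˣ = 1 := by rw [Classical.card_units_eq, h2]
    haveI := (Nat.card_eq_one_iff_unique.mp this).1
    exact hne (congrArg Units.val (Subsingleton.elim (Units.mk0 _ hd'.1) (Units.mk0 _ hd'.2)))
  · obtain ⟨α, β, -, rfl⟩ := h3 hd
    rw [GL2.RG_apply]
    exact GL2.psFun_elliptic _ _ ((GL2.eig_empty_iff _).mpr h)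

end Cfsg.Agent.S2309
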