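import Cfsg.Statements.S2315
import Cfsg.Agent.Lib.Struct.NilpotentCount
import Cfsg.Agent.Lib.Struct.UnipotentGL

set_option autoImplicit false
open Cfsg
open Matrix

namespace Cfsg.Agent.S2315

/-- Steinberg's count of unipotent elements for the general linear group: over a finite field with q elements of characteristic p, the number of elements of GL_n of p-power order (the unipotent matrices) is q^(n(n−1)). -/
theorem result {F : Type*} [Field F] [Fintype F] (p : ℕ) [Fact p.Prime] [CharP F p] (n : ℕ) :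
    Nat.card {g : Matrix.GeneralLinearGroup (Fin n) F // ∃ k : ℕ, orderOf g = p ^ k} = Fintype.card F ^ (n * (n - 1)) := by
  classical
  let Φ : {g : Matrix.GeneralLinearGroup (Fin n) F // ∃ k : ℕ, orderOf g = p ^ k} →
      {N : Module.End F (Fin n → F) // IsNilpotent N} := fun g =>
    ⟨Matrix.toLinAlgEquiv' ((g.1 : Matrix (Fin n) (Fin n) F) - 1), by
      obtain ⟨k, hk⟩ := g.2
      exact (Cfsg.Agent.Struct.UnipotentGL.isNilpotent_of_orderOf p g.1 hk).map _⟩
  have hΦ : Function.Bijective Φ := by
    refine ⟨fun a b h => Subtype.ext (Units.ext (sub_left_injective (Matrix.toLinAlgEquiv'.injective (congrArg Subtype.val h)))), ?_⟩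
    rintro ⟨N, hN⟩
    have hM : IsNilpotent (Matrix.toLinAlgEquiv'.symm N) := hN.map _
    obtain ⟨u, hu⟩ := hM.isUnit_one_add
    have hu' : IsNilpotent ((u : Matrix (Fin n) (Fin n) F) - 1) := by rwa [hu, add_sub_cancel_left]
    obtain ⟨j, -, hj⟩ := (Nat.dvd_prime_pow (Fact.out : p.Prime)).1 (Cfsg.Agent.Struct.UnipotentGL.orderOf_dvd_clog p u hu')
    exact ⟨⟨u, j, hj⟩, Subtype.ext (by
      show Matrix.toLinAlgEquiv' ((u : Matrix (Fin n) (Fin n) F) - 1) = N
      rw [hu, add_sub_cancel_left, AlgEquiv.apply_symm_apply])⟩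
  rw [Nat.card_eq_of_bijective Φ hΦ]
  have h := Cfsg.Agent.Struct.NilpotentCount.card_nilpotent_mul (F := F) (V := Fin n → F)
  haveI : Finite (Module.End F (Fin n → F)) := Finite.of_injective _ DFunLike.coe_injective
  rw [Nat.card_congr (Matrix.toLinAlgEquiv' (R := F) (n := Fin n)).symm.toEquiv,
    Nat.card_eq_fintype_card (α := Fin n → F), Fintype.card_fun, Fintype.card_fin,
    Nat.card_eq_fintype_card (α := Matrix (Fin n) (Fin n) F)] at h
  have hc : Fintype.card (Matrix (Fin n) (Fin n) F) = Fintype.card F ^ (n * (n - 1)) * Fintype.card F ^ n := by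
    rw [show Fintype.card (Matrix (Fin n) (Fin n) F) = Fintype.card (Fin n → Fin n → F) from rfl, Fintype.card_fun,
      Fintype.card_fun, Fintype.card_fin, ← pow_mul, ← pow_add]
    congr 1
    rcases n with _ | m
    · rfl
    · rw [Nat.add_sub_cancel]; ring
  rw [hc] at h
  exact Nat.eq_of_mul_eq_mul_right (pow_pos Fintype.card_pos n) h

end Cfsg.Agent.S2315
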