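import Cfsg.Statements.S2317
import Cfsg.Agent.Lib.Struct.NilpotentForm
import Cfsg.Agent.Lib.Struct.UnipotentGL

set_option autoImplicit false
open Cfsg
open Matrix Cfsg.Agent.Struct

namespace Cfsg.Agent.S2317

variable {F : Type*} [Field F] {n : ℕ}

/-- The unipotent element of a partition. -/
noncomputable def U (μ : Nat.Partition n) : GL (Fin n) F :=
  ((Cfsg.Agent.Struct.NilpotentForm.isNilpotent_J (F := F) μ).isUnit_one_add).unit

theorem U_sub (μ : Nat.Partition n) :
    ((U μ : GL (Fin n) F) : Matrix (Fin n) (Fin n) F) - 1 = Cfsg.Agent.Struct.NilpotentForm.J F μ := by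
  rw [U, IsUnit.unit_spec, add_sub_cancel_left]

theorem U_inj {μ ν : Nat.Partition n} (h : ConjClasses.mk (U μ : GL (Fin n) F) = ConjClasses.mk (U ν)) : μ = ν := by
  obtain ⟨g, hg⟩ := isConj_iff.1 (ConjClasses.mk_eq_mk_iff_isConj.1 h)
  rw [mul_inv_eq_iff_eq_mul] at hg
  refine Cfsg.Agent.Struct.NilpotentForm.J_injective g ?_
  rw [← U_sub, ← U_sub, Matrix.mul_sub, Matrix.sub_mul, Matrix.mul_one, Matrix.one_mul, ← Units.val_mul, ← Units.val_mul, hg]

theorem U_surj (u : GL (Fin n) F) (hu : IsNilpotent ((u : Matrix (Fin n) (Fin n) F) - 1)) :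
    ∃ μ : Nat.Partition n, IsConj (U μ) u := by
  obtain ⟨μ, g, hg⟩ := Cfsg.Agent.Struct.NilpotentForm.exists_conj _ hu
  refine ⟨μ, (isConj_iff.2 ⟨g, ?_⟩).symm⟩
  rw [mul_inv_eq_iff_eq_mul]
  refine Units.ext ?_
  rw [Units.val_mul, Units.val_mul]
  rw [← U_sub, Matrix.mul_sub, Matrix.sub_mul, Matrix.mul_one, Matrix.one_mul] at hg
  exact sub_left_injective hg


/-- Over a finite field of characteristic p, the conjugacy classes of GL_n consisting of elements of p-power order (the unipotent classes) are as many as the partitions of n. -/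
theorem result {F : Type*} [Field F] [Fintype F] (p : ℕ) [Fact p.Prime] [CharP F p] (n : ℕ) :
    Nat.card {C : ConjClasses (Matrix.GeneralLinearGroup (Fin n) F) //
      ∃ g : Matrix.GeneralLinearGroup (Fin n) F, (∃ k : ℕ, orderOf g = p ^ k) ∧ ConjClasses.mk g = C} =
      Fintype.card (Nat.Partition n) := by
  classical
  let S := {C : ConjClasses (Matrix.GeneralLinearGroup (Fin n) F) //
      ∃ g : Matrix.GeneralLinearGroup (Fin n) F, (∃ k : ℕ, orderOf g = p ^ k) ∧ ConjClasses.mk g = C}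
  have hord : ∀ μ : Nat.Partition n, ∃ k : ℕ, orderOf (U μ : GL (Fin n) F) = p ^ k := fun μ => by
    have h := UnipotentGL.orderOf_dvd_clog p (U μ : GL (Fin n) F) (by rw [U_sub]; exact NilpotentForm.isNilpotent_J μ)
    exact ((Nat.dvd_prime_pow (Fact.out : p.Prime)).1 h).imp fun k hk => hk.2
  let f : Nat.Partition n → S := fun μ => ⟨ConjClasses.mk (U μ), U μ, hord μ, rfl⟩
  have hf : Function.Bijective f := by
    refine ⟨fun μ ν h => U_inj (congrArg Subtype.val h), ?_⟩
    rintro ⟨C, g, ⟨k, hk⟩, rfl⟩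
    obtain ⟨μ, hμ⟩ := U_surj g (UnipotentGL.isNilpotent_of_orderOf p g hk)
    exact ⟨μ, Subtype.ext (ConjClasses.mk_eq_mk_iff_isConj.2 hμ)⟩
  rw [← Nat.card_eq_fintype_card]
  exact (Nat.card_eq_of_bijective f hf).symm

end Cfsg.Agent.S2317
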