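import Cfsg.Statements.S2320
import Cfsg.Agent.Lib.GL2.GLChars

set_option autoImplicit false
open Cfsg

namespace Cfsg.Agent.S2320

/-- Over a finite field F with q elements, every irreducible complex character of GL₂ of degree q takes a value of absolute value 1 at every diagonal matrix with two different diagonal entries and at every element with no eigenvector in F². -/
theorem result {F : Type*} [Field F] [Fintype F] (χ : Matrix.GeneralLinearGroup (Fin 2) F → ℂ) (hχ : Cfsg.IsIrrCharacter (Matrix.GeneralLinearGroup (Fin 2) F) χ) (hdeg : χ 1 = (Fintype.card F : ℂ)) (g : Matrix.GeneralLinearGroup (Fin 2) F) :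
    ((g : Matrix (Fin 2) (Fin 2) F) 0 1 = 0 → (g : Matrix (Fin 2) (Fin 2) F) 1 0 = 0 → (g : Matrix (Fin 2) (Fin 2) F) 0 0 ≠ (g : Matrix (Fin 2) (Fin 2) F) 1 1 → ‖χ g‖ = 1) ∧
    ((∀ (c : F) (v : Fin 2 → F), v ≠ 0 → (g : Matrix (Fin 2) (Fin 2) F).mulVec v ≠ c • v) → ‖χ g‖ = 1) := by
  classical
  obtain ⟨α, rfl⟩ := (GL2.kind_of_degree hχ).2.1 hdeg
  have hn : ∀ x : Fˣ, ‖α (x : F)‖ = 1 := fun x => by
    refine Complex.norm_eq_one_of_pow_eq_one (n := orderOf x) ?_ (orderOf_pos x).ne'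
    rw [← map_pow, ← Units.val_pow_eq_pow_val, pow_orderOf_eq_one, Units.val_one, map_one]
  have hdet : ‖α (g : Matrix (Fin 2) (Fin 2) F).det‖ = 1 := by
    simpa using hn (Matrix.GeneralLinearGroup.det g)
  refine ⟨fun h01 h10 hne => ?_, fun h => ?_⟩
  · rw [GL2.StT_apply, GL2.psFun_upper_ne _ _ h10 hne]
    rw [Matrix.det_fin_two, h10, mul_zero, sub_zero, map_mul] at hdet ⊢
    rw [mul_comm (α ((g : Matrix (Fin 2) (Fin 2) F) 1 1)), add_sub_cancel_right]
    exact hdet
  · rw [GL2.StT_apply, GL2.psFun_elliptic _ _ ((GL2.eig_empty_iff _).mpr h), zero_sub, norm_neg]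
    exact hdet

end Cfsg.Agent.S2320
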