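import Cfsg.Statements.S2321
import Cfsg.Agent.Lib.GL2.SLValues

set_option autoImplicit false
open Cfsg

namespace Cfsg.Agent.S2321

/-- Over a finite field F with q elements, an irreducible complex character of SL₂ of degree q (the Steinberg character) takes the value 1 at every diagonal matrix whose diagonal entry a has a² ≠ 1, the value −1 at every element with no eigenvector in F², and the value 0 at every upper triangular matrix with equal diagonal entries and non-zero upper right entry. -/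
theorem result {F : Type*} [Field F] [Fintype F] (χ : Matrix.SpecialLinearGroup (Fin 2) F → ℂ) (hχ : Cfsg.IsIrrCharacter (Matrix.SpecialLinearGroup (Fin 2) F) χ) (hdeg : χ 1 = (Fintype.card F : ℂ)) (g : Matrix.SpecialLinearGroup (Fin 2) F) :
    ((g : Matrix (Fin 2) (Fin 2) F) 0 1 = 0 → (g : Matrix (Fin 2) (Fin 2) F) 1 0 = 0 → (g : Matrix (Fin 2) (Fin 2) F) 0 0 ^ 2 ≠ 1 → χ g = 1) ∧
    ((∀ (c : F) (v : Fin 2 → F), v ≠ 0 → (g : Matrix (Fin 2) (Fin 2) F).mulVec v ≠ c • v) → χ g = -1) ∧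
    ((g : Matrix (Fin 2) (Fin 2) F) 1 0 = 0 → (g : Matrix (Fin 2) (Fin 2) F) 0 0 = (g : Matrix (Fin 2) (Fin 2) F) 1 1 → (g : Matrix (Fin 2) (Fin 2) F) 0 1 ≠ 0 → χ g = 0) := by
  classical
  obtain rfl := (GL2.kind_of_degreeS hχ).1 hdeg
  have hv : GL2.StS g = GL2.psFun (⇑(1 : MulChar F ℂ)) (⇑(1 : MulChar F ℂ))
      (g : Matrix (Fin 2) (Fin 2) F) - 1 := by
    show GL2.RS 1 g - 1 = _
    rw [GL2.RS_apply]
  have hd := GL2.detS g
  rw [Matrix.det_fin_two] at hd
  have hone : ∀ x : F, x ≠ 0 → (1 : MulChar F ℂ) x = 1 := fun x hx =>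
    MulChar.one_apply (isUnit_iff_ne_zero.mpr hx)
  refine ⟨fun h01 h10 hsq => ?_, fun h => ?_, fun h10 he h01 => ?_⟩
  · rw [h10, mul_zero, sub_zero] at hd
    rw [hv, GL2.psFun_upper_ne _ _ h10 (fun e => hsq (by rw [pow_two]; nth_rw 2 [e]; exact hd)),
      hone _ (left_ne_zero_of_mul_eq_one hd), hone _ (right_ne_zero_of_mul_eq_one hd)]
    norm_num
  · rw [hv, GL2.psFun_elliptic _ _ ((GL2.eig_empty_iff _).mpr h), zero_sub]
  · rw [h10, mul_zero, sub_zero] at hd
    rw [hv, GL2.psFun_upper_eq _ _ h10 he h01, hone _ (left_ne_zero_of_mul_eq_one hd),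
      hone _ (right_ne_zero_of_mul_eq_one hd)]
    norm_num

end Cfsg.Agent.S2321
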