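import Cfsg.Statements.S2322
import Cfsg.Agent.Lib.GL2.Gauss

set_option autoImplicit false
open Cfsg

namespace Cfsg.Agent.S2322

/-- Over a finite field F with q elements, q odd: every irreducible complex character of SL₂ of degree q − 1 or (q − 1)/2 vanishes at every diagonal matrix whose diagonal entry a has a² ≠ 1, and every irreducible complex character of degree q + 1 or (q + 1)/2 vanishes at every element with no eigenvector in F². -/
theorem result {F : Type*} [Field F] [Fintype F] (hodd : Odd (Fintype.card F)) (χ : Matrix.SpecialLinearGroup (Fin 2) F → ℂ) (hχ : Cfsg.IsIrrCharacter (Matrix.SpecialLinearGroup (Fin 2) F) χ) (g : Matrix.SpecialLinearGroup (Fin 2) F) :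
    ((χ 1 = (Fintype.card F : ℂ) - 1 ∨ χ 1 = (((Fintype.card F - 1) / 2 : ℕ) : ℂ)) →
      (g : Matrix (Fin 2) (Fin 2) F) 0 1 = 0 → (g : Matrix (Fin 2) (Fin 2) F) 1 0 = 0 → (g : Matrix (Fin 2) (Fin 2) F) 0 0 ^ 2 ≠ 1 → χ g = 0) ∧
    ((χ 1 = (Fintype.card F : ℂ) + 1 ∨ χ 1 = (((Fintype.card F + 1) / 2 : ℕ) : ℂ)) →
      (∀ (c : F) (v : Fin 2 → F), v ≠ 0 → (g : Matrix (Fin 2) (Fin 2) F).mulVec v ≠ c • v) → χ g = 0) := by
  classical
  have hc := GL2.ringChar_ne_two_of_odd hodd
  obtain ⟨hp, hm⟩ := GL2.odd_half hodd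
  obtain ⟨k1, k2, k3, k4, k5, -⟩ := GL2.kind_of_degreeS hχ
  have hcf := Char.IsCharacter.isClassFunction (Char.IsIrrCharacter.isCharacter hχ)
  have hq : 2 ≤ Fintype.card F := Fintype.one_lt_card
  have h2 := Nat.odd_iff.mp hodd
  refine ⟨fun hd h01 h10 hsq => ?_, fun hd h => ?_⟩
  · have h4 : 4 ≤ Fintype.card F := by
      by_contra hlt
      have h3 : Fintype.card F = 3 := by omega
      apply hsq
      have hne : (g : Matrix (Fin 2) (Fin 2) F) 0 0 ≠ 0 := fun e => by
        have := GL2.detS g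
        rw [Matrix.det_fin_two, e, h10] at this
        simp at this
      have := FiniteField.pow_card_sub_one_eq_one _ hne
      rwa [h3] at this
    refine GL2.cuspS_split hcf ?_ h01 h10 hsq
    rcases hd with hd | hd
    · exact (k3 h4 hd).1
    · exact (k5 (by omega) (by linear_combination 2 * hd + hm)).1
  · have he := (GL2.eig_empty_iff _).mpr h
    rcases hd with hd | hd
    · obtain ⟨α, -, rfl⟩ := k2 hd
      rw [GL2.RS_apply]
      exact GL2.psFun_elliptic _ _ he
    · by_cases h3 : Fintype.card F = 3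
      · refine GL2.deg_two_elliptic h3 hχ ?_ he
        rw [hd, h3]; norm_num
      · exact GL2.half_elliptic hχ (k4 h3 (by linear_combination 2 * hd + hp)) he hc

end Cfsg.Agent.S2322
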