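import Cfsg.Statements.S2323
import Cfsg.Agent.Lib.GL2.SLValues

set_option autoImplicit false
open Cfsg

namespace Cfsg.Agent.S2323

/-- Over a finite field F with q ≥ 4 elements, let u be the upper unitriangular matrix of SL₂ with off-diagonal entry 1. An irreducible complex character of SL₂ takes at u the value 1 if its degree is q + 1 and the value −1 if its degree is q − 1. -/
theorem result {F : Type*} [Field F] [Fintype F] (hq : 4 ≤ Fintype.card F) (χ : Matrix.SpecialLinearGroup (Fin 2) F → ℂ) (hχ : Cfsg.IsIrrCharacter (Matrix.SpecialLinearGroup (Fin 2) F) χ)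
    (u : Matrix.SpecialLinearGroup (Fin 2) F) (hu : (u : Matrix (Fin 2) (Fin 2) F) = !![1, 1; 0, 1]) :
    (χ 1 = (Fintype.card F : ℂ) + 1 → χ u = 1) ∧ (χ 1 = (Fintype.card F : ℂ) - 1 → χ u = -1) := by
  classical
  have hu' := GL2.uS_one_eq hu
  refine ⟨fun h => ?_, fun h => ?_⟩
  · obtain ⟨α, -, rfl⟩ := (GL2.kind_of_degreeS hχ).2.1 h
    rw [GL2.RS_apply, GL2.psFun_upper_eq _ _ (by simp [hu]) (by simp [hu]) (by simp [hu])]
    simp [hu]
  · obtain ⟨hc, hd⟩ := (GL2.kind_of_degreeS hχ).2.2.1 hq h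
    obtain ⟨e, he, -⟩ := GL2.exists_covers (F := F)
    rcases GL2.cusp_kind hχ hc he with h' | h'
    · rw [hu']; exact h'.2.2 1 one_ne_zero
    · exfalso
      rw [hd] at h'
      exact GL2.card_sub_one_ne_zero (F := F) (by linear_combination h'.1)

end Cfsg.Agent.S2323
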