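import Cfsg.Statements.S2324
import Cfsg.Agent.Lib.GL2.Gauss

set_option autoImplicit false
open Cfsg

namespace Cfsg.Agent.S2324

/-- Over a finite field F with q elements, q odd and q ≥ 5, let u be the upper unitriangular matrix of SL₂ with off-diagonal entry 1 and let δ = (−1)^((q−1)/2). Every irreducible complex character χ of SL₂ of degree (q + 1)/2 satisfies (2χ(u) − 1)² = δq, and every irreducible complex character χ of degree (q − 1)/2 satisfies (2χ(u) + 1)² = δq; that is, χ(u) = (1 ± √(δq))/2 in the first case and χ(u) = (−1 ± √(δq))/2 in the second. Moreover two different irreducible characters of degree (q + 1)/2 take the two different values (their values at u add up to 1), and likewise for degree (q − 1)/2 (values adding up to −1). -/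
theorem result {F : Type*} [Field F] [Fintype F] (hodd : Odd (Fintype.card F)) (hq : 5 ≤ Fintype.card F)
    (u : Matrix.SpecialLinearGroup (Fin 2) F) (hu : (u : Matrix (Fin 2) (Fin 2) F) = !![1, 1; 0, 1]) :
    (∀ χ : Matrix.SpecialLinearGroup (Fin 2) F → ℂ, Cfsg.IsIrrCharacter (Matrix.SpecialLinearGroup (Fin 2) F) χ → χ 1 = (((Fintype.card F + 1) / 2 : ℕ) : ℂ) → (2 * χ u - 1) ^ 2 = (-1 : ℂ) ^ ((Fintype.card F - 1) / 2) * (Fintype.card F : ℂ)) ∧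
    (∀ χ : Matrix.SpecialLinearGroup (Fin 2) F → ℂ, Cfsg.IsIrrCharacter (Matrix.SpecialLinearGroup (Fin 2) F) χ → χ 1 = (((Fintype.card F - 1) / 2 : ℕ) : ℂ) → (2 * χ u + 1) ^ 2 = (-1 : ℂ) ^ ((Fintype.card F - 1) / 2) * (Fintype.card F : ℂ)) ∧
    (∀ χ₁ χ₂ : Matrix.SpecialLinearGroup (Fin 2) F → ℂ, Cfsg.IsIrrCharacter (Matrix.SpecialLinearGroup (Fin 2) F) χ₁ → Cfsg.IsIrrCharacter (Matrix.SpecialLinearGroup (Fin 2) F) χ₂ → χ₁ ≠ χ₂ →
      χ₁ 1 = (((Fintype.card F + 1) / 2 : ℕ) : ℂ) → χ₂ 1 = (((Fintype.card F + 1) / 2 : ℕ) : ℂ) → χ₁ u + χ₂ u = 1) ∧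
    (∀ χ₁ χ₂ : Matrix.SpecialLinearGroup (Fin 2) F → ℂ, Cfsg.IsIrrCharacter (Matrix.SpecialLinearGroup (Fin 2) F) χ₁ → Cfsg.IsIrrCharacter (Matrix.SpecialLinearGroup (Fin 2) F) χ₂ → χ₁ ≠ χ₂ →
      χ₁ 1 = (((Fintype.card F - 1) / 2 : ℕ) : ℂ) → χ₂ 1 = (((Fintype.card F - 1) / 2 : ℕ) : ℂ) → χ₁ u + χ₂ u = -1) := by
  classical
  have hc := GL2.ringChar_ne_two_of_odd hodd
  obtain ⟨hp, hm⟩ := GL2.odd_half hodd
  obtain ⟨e, he, hens⟩ := GL2.exists_covers (F := F)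
  have hu' := GL2.uS_one_eq hu
  subst hu'
  obtain ⟨-, cH, -, cC⟩ := GL2.sl_census (F := F)
  rw [GL2.card_sq_one_odd hc] at cH cC
  have hdeg : ∀ χ : Matrix.SpecialLinearGroup (Fin 2) F → ℂ, GL2.tw e χ 1 = χ 1 := fun χ => by
    show χ (GL2.conjS (GL2.dg e) 1) = χ 1
    rw [map_one]
  have htw1 : ∀ χ : Matrix.SpecialLinearGroup (Fin 2) F → ℂ,
      GL2.tw e χ (GL2.uS 1) = χ (GL2.uS (e : F)) := fun χ => by
    show χ (GL2.conjS (GL2.dg e) (GL2.uS 1)) = _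
    rw [GL2.conjS_uS, mul_one]
  -- upper halves
  have up : ∀ χ : Matrix.SpecialLinearGroup (Fin 2) F → ℂ, Cfsg.IsIrrCharacter _ χ →
      χ 1 = (((Fintype.card F + 1) / 2 : ℕ) : ℂ) →
      GL2.tw e χ ≠ χ ∧ χ (GL2.uS 1) + χ (GL2.uS (e : F)) = 1 := fun χ hχ hd => by
    obtain ⟨α, a, b, c⟩ := (GL2.kind_of_degreeS hχ).2.2.2.1 (by omega)
      (by linear_combination 2 * hd + hp)
    obtain ⟨-, hS, hpair⟩ := GL2.half_props hχ a b c
    obtain ⟨hsum, hne⟩ := hpair e he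
    refine ⟨hne, ?_⟩
    have hSp := GL2.SS_pair (Char.IsCharacter.isClassFunction (Char.IsIrrCharacter.isCharacter hχ)) he
    have hS2 := (GL2.half_props (GL2.isIrr_tw hχ e) a b (by
      rw [← GL2.tw_RS α e, GL2.classInner_tw]; exact c)).2.1 1
    rw [hS, hS2, hd, Units.val_one, map_one, mul_one] at hSp
    apply mul_left_cancel₀ (GL2.card_sub_one_ne_zero (F := F))
    linear_combination -hSp - hp
  have low : ∀ χ : Matrix.SpecialLinearGroup (Fin 2) F → ℂ, Cfsg.IsIrrCharacter _ χ →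
      χ 1 = (((Fintype.card F - 1) / 2 : ℕ) : ℂ) →
      GL2.tw e χ ≠ χ ∧ χ (GL2.uS 1) + χ (GL2.uS (e : F)) = -1 := fun χ hχ hd => by
    obtain ⟨hcu, hd2⟩ := (GL2.kind_of_degreeS hχ).2.2.2.2.1 (by omega)
      (by linear_combination 2 * hd + hm)
    rcases GL2.cusp_kind hχ hcu he with h' | h'
    · exfalso
      rw [h'.1] at hd2
      exact GL2.card_sub_one_ne_zero (F := F) (by linear_combination hd2)
    · exact h'.2
  refine ⟨fun χ hχ hd => ?_, fun χ hχ hd => ?_, fun χ₁ χ₂ h1 h2 hne d1 d2 => ?_,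
    fun χ₁ χ₂ h1 h2 hne d1 d2 => ?_⟩
  · obtain ⟨hne, hsum⟩ := up χ hχ hd
    rw [← GL2.gauss_sq hχ hc (hens hc) he hne,
      show 2 * χ (GL2.uS 1) - 1 = χ (GL2.uS 1) - χ (GL2.uS (e : F)) by linear_combination hsum]
  · obtain ⟨hne, hsum⟩ := low χ hχ hd
    rw [← GL2.gauss_sq hχ hc (hens hc) he hne,
      show 2 * χ (GL2.uS 1) + 1 = χ (GL2.uS 1) - χ (GL2.uS (e : F)) by linear_combination hsum]
  · obtain ⟨hne', hsum⟩ := up χ₁ h1 d1
    have hh : ∀ χ : Matrix.SpecialLinearGroup (Fin 2) F → ℂ, Cfsg.IsIrrCharacter _ χ → χ 1 = (((Fintype.card F + 1) / 2 : ℕ) : ℂ) →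
        GL2.IsHalf χ := fun χ hχ hd =>
      (GL2.kind_of_degreeS hχ).2.2.2.1 (by omega) (by linear_combination 2 * hd + hp)
    obtain ⟨y, -, huniq⟩ := (Nat.card_eq_two_iff'
      (⟨⟨χ₁, h1⟩, hh χ₁ h1 d1⟩ : {χ : Cfsg.IrrCharacter (Matrix.SpecialLinearGroup (Fin 2) F) //
        GL2.IsHalf (χ : Matrix.SpecialLinearGroup (Fin 2) F → ℂ)})).mp (by omega)
    have e1 := huniq ⟨⟨χ₂, h2⟩, hh χ₂ h2 d2⟩
      (fun h => hne (congrArg (fun z => z.1.1) h).symm)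
    have e2 := huniq ⟨⟨_, GL2.isIrr_tw h1 e⟩, hh _ (GL2.isIrr_tw h1 e) ((hdeg χ₁).trans d1)⟩
      (fun h => hne' (congrArg (fun z => z.1.1) h))
    have : χ₂ = GL2.tw e χ₁ := congrArg (fun z => z.1.1) (e1.trans e2.symm)
    rw [this, htw1]
    exact hsum
  · obtain ⟨hne', hsum⟩ := low χ₁ h1 d1
    have hh : ∀ χ : Matrix.SpecialLinearGroup (Fin 2) F → ℂ, Cfsg.IsIrrCharacter _ χ → χ 1 = (((Fintype.card F - 1) / 2 : ℕ) : ℂ) →
        GL2.IsCuspHalf χ := fun χ hχ hd =>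
      (GL2.kind_of_degreeS hχ).2.2.2.2.1 (by omega) (by linear_combination 2 * hd + hm)
    obtain ⟨y, -, huniq⟩ := (Nat.card_eq_two_iff'
      (⟨⟨χ₁, h1⟩, hh χ₁ h1 d1⟩ : {χ : Cfsg.IrrCharacter (Matrix.SpecialLinearGroup (Fin 2) F) //
        GL2.IsCuspHalf (χ : Matrix.SpecialLinearGroup (Fin 2) F → ℂ)})).mp (by omega)
    have e1 := huniq ⟨⟨χ₂, h2⟩, hh χ₂ h2 d2⟩
      (fun h => hne (congrArg (fun z => z.1.1) h).symm)
    have e2 := huniq ⟨⟨_, GL2.isIrr_tw h1 e⟩, hh _ (GL2.isIrr_tw h1 e) ((hdeg χ₁).trans d1)⟩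
      (fun h => hne' (congrArg (fun z => z.1.1) h))
    have : χ₂ = GL2.tw e χ₁ := congrArg (fun z => z.1.1) (e1.trans e2.symm)
    rw [this, htw1]
    exact hsum

end Cfsg.Agent.S2324
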