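import Cfsg.Statements.S2329
import Cfsg.Agent.Lib.GL2.SLClasses

set_option autoImplicit false
open Cfsg

namespace Cfsg.Agent.S2329

/-- Over a finite field of characteristic p, any two elements of order p of GL₂ are conjugate: there is a single conjugacy class of non-identity unipotent elements. -/
theorem result {F : Type*} [Field F] [Fintype F] (p : ℕ) [Fact p.Prime] [CharP F p] (g h : Matrix.GeneralLinearGroup (Fin 2) F)
    (hg : orderOf g = p) (hh : orderOf h = p) : IsConj g h := by
  have hg1 : g ^ p = 1 := hg ▸ pow_orderOf_eq_one g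
  have hh1 : h ^ p = 1 := hh ▸ pow_orderOf_eq_one h
  obtain ⟨dg, tg⟩ := GL2.trace_two_of_pow p hg1
  obtain ⟨dh, th⟩ := GL2.trace_two_of_pow p hh1
  exact GL2.isConj_of_invariants (GL2.nonscalar_of_order p hg) (GL2.nonscalar_of_order p hh)
    (tg.trans th.symm) (dg.trans dh.symm)

end Cfsg.Agent.S2329
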