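import Cfsg.Statements.S2331
import Cfsg.Agent.Lib.GL2.SLClasses

set_option autoImplicit false
open Cfsg

namespace Cfsg.Agent.S2331

/-- Over a finite field with q elements, q even, the special linear group SL₂ has exactly q + 1 conjugacy classes. -/
theorem result {F : Type*} [Field F] [Fintype F] [CharP F 2] :
    Nat.card (ConjClasses (Matrix.SpecialLinearGroup (Fin 2) F)) = Fintype.card F + 1 := by
  classical
  obtain ⟨R, h0, hex, hun, hZ, h1, -⟩ := GL2.exists_rep (F := F)
  rw [GL2.card_conjClassesS R h0 hex hun, ← hZ, h1 (ringChar.eq F 2)]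

end Cfsg.Agent.S2331
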