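import Cfsg.Statements.S2359
import Cfsg.Agent.Lib.SmallRee.TorusFacts

set_option autoImplicit false
open Cfsg

namespace Cfsg.Agent.S2359

/-- Let R be the small Ree group over the field with q = 3^(2m+1) ≥ 27 elements. If H is a cyclic subgroup of R of order (q−1)/2, then the centralizer of H in R is cyclic of order q−1, and every non-trivial subgroup of H has the same centralizer as H. If H is a cyclic subgroup of order (q+1)/4, then the centralizer of H is abelian of order q+1 with no element of order 4 (so it is the direct product of H and a group of order 4 whose non-identity elements all have order 2), and every non-trivial subgroup of H has the same centralizer as H. -/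
theorem result {K : Type*} [Field K] [Fintype K] {m : ℕ} (hm : 1 ≤ m)
    (hK : Fintype.card K = 3 ^ (2 * m + 1)) (H : Subgroup ↥(Cfsg.Lie.twistedG2 K (3 ^ m))) (hH : IsCyclic H) :
    (Nat.card H = (3 ^ (2 * m + 1) - 1) / 2 →
      IsCyclic ↥(Subgroup.centralizer (H : Set ↥(Cfsg.Lie.twistedG2 K (3 ^ m)))) ∧
        Nat.card ↥(Subgroup.centralizer (H : Set ↥(Cfsg.Lie.twistedG2 K (3 ^ m)))) = 3 ^ (2 * m + 1) - 1 ∧
        ∀ A : Subgroup ↥(Cfsg.Lie.twistedG2 K (3 ^ m)), A ≤ H → A ≠ ⊥ →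
          Subgroup.centralizer (A : Set ↥(Cfsg.Lie.twistedG2 K (3 ^ m))) = Subgroup.centralizer (H : Set ↥(Cfsg.Lie.twistedG2 K (3 ^ m)))) ∧
    (Nat.card H = (3 ^ (2 * m + 1) + 1) / 4 →
      IsMulCommutative ↥(Subgroup.centralizer (H : Set ↥(Cfsg.Lie.twistedG2 K (3 ^ m)))) ∧
        Nat.card ↥(Subgroup.centralizer (H : Set ↥(Cfsg.Lie.twistedG2 K (3 ^ m)))) = 3 ^ (2 * m + 1) + 1 ∧
        (∀ x ∈ Subgroup.centralizer (H : Set ↥(Cfsg.Lie.twistedG2 K (3 ^ m))), orderOf x ≠ 4) ∧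
        ∀ A : Subgroup ↥(Cfsg.Lie.twistedG2 K (3 ^ m)), A ≤ H → A ≠ ⊥ →
          Subgroup.centralizer (A : Set ↥(Cfsg.Lie.twistedG2 K (3 ^ m))) = Subgroup.centralizer (H : Set ↥(Cfsg.Lie.twistedG2 K (3 ^ m)))) := by
  obtain ⟨hchar, T, hT⟩ := Cfsg.Agent.SmallRee.exists_setup hK
  revert H
  rw [← T.Gr_eq hK hT]
  intro H hH
  obtain ⟨a1, a2, a3, a4, a5, -⟩ := Cfsg.Agent.SmallRee.Tw.arith' (F := K) hm hK
  rw [← hK]
  have hr : 0 < 3 ^ (m + 1) := pow_pos (by norm_num) _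
  refine ⟨fun hc => ?_, fun hc => ?_⟩
  · have hne : H ≠ ⊥ := fun h => by rw [h, Subgroup.card_bot] at hc; omega
    have hk : (Fintype.card K - 1) / 2 ∈ Cfsg.Agent.SmallRee.oddOrders (Fintype.card K) (3 ^ (m + 1)) := by
      simp [Cfsg.Agent.SmallRee.oddOrders]
    obtain ⟨hC, hcard, -⟩ := T.cent_odd hm hK hT hk hne hc.dvd (Cfsg.Agent.SmallRee.Tw.cyclic_le_cent hH)
    rw [Cfsg.Agent.SmallRee.bigOf, if_pos rfl] at hcard
    refine ⟨?_, hcard, fun A hA hA0 => T.cent_sub_eq hm hK hT hk hH hc.dvd hA hA0⟩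
    rcases hC.2 with ⟨-, h⟩ | ⟨h, -⟩
    · exact h
    · omega
  · have hne : H ≠ ⊥ := fun h => by rw [h, Subgroup.card_bot] at hc; omega
    have hk : (Fintype.card K + 1) / 4 ∈ Cfsg.Agent.SmallRee.oddOrders (Fintype.card K) (3 ^ (m + 1)) := by
      simp [Cfsg.Agent.SmallRee.oddOrders]
    obtain ⟨hC, hcard, -⟩ := T.cent_odd hm hK hT hk hne hc.dvd (Cfsg.Agent.SmallRee.Tw.cyclic_le_cent hH)
    rw [Cfsg.Agent.SmallRee.bigOf, if_neg (by omega), if_pos rfl] at hcard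
    refine ⟨hC.1, hcard, fun x hx h4 => ?_, fun A hA hA0 => T.cent_sub_eq hm hK hT hk hH hc.dvd hA hA0⟩
    rcases hC.2 with ⟨h | h | h, -⟩ | ⟨-, h, -⟩
    · omega
    · rw [hcard] at h; omega
    · rw [hcard] at h; omega
    · have h2 : x ^ ((Fintype.card K + 1) / 2) = 1 := congrArg Subtype.val (h ⟨x, hx⟩)
      have h3 : 4 ∣ (Fintype.card K + 1) / 2 := h4 ▸ orderOf_dvd_of_pow_eq_one h2
      omega

end Cfsg.Agent.S2359
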