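import Cfsg.Statements.S2364
import Cfsg.Agent.Lib.Classical.Linear
import Cfsg.Agent.Lib.Struct.UnipotentGL
import Cfsg.Agent.Lib.Struct.SemisimpleEnd

set_option autoImplicit false
open Cfsg
open Matrix
set_option maxHeartbeats 1000000

namespace Cfsg.Agent.S2364

variable {F : Type*} [Field F] [Fintype F] {n : ℕ}

/-- An element of prime order in `PSL` lifts to one of the same order when prime to the centre. -/
theorem lift_prime {s : ℕ} [Fact s.Prime] (a : Matrix.ProjectiveSpecialLinearGroup (Fin n) F) (ha : orderOf a = s)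
    (hZ : (Nat.card (Subgroup.center (Matrix.SpecialLinearGroup (Fin n) F))).Coprime s) :
    ∃ A : Matrix.SpecialLinearGroup (Fin n) F, QuotientGroup.mk' _ A = a ∧ A ^ s = 1 := by
  obtain ⟨A, hA⟩ := QuotientGroup.mk'_surjective (Subgroup.center (Matrix.SpecialLinearGroup (Fin n) F)) a
  obtain ⟨c, hc1, hc2⟩ := Nat.chineseRemainder hZ 0 1
  refine ⟨A ^ c, ?_, ?_⟩
  · rw [map_pow, hA]
    conv_rhs => rw [← pow_one a]
    rw [pow_eq_pow_iff_modEq, ha]
    exact hc2
  · obtain ⟨d, hd⟩ := Nat.modEq_zero_iff_dvd.1 hc1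
    have h1 : A ^ s ∈ Subgroup.center (Matrix.SpecialLinearGroup (Fin n) F) :=
      (QuotientGroup.eq_one_iff _).1 (show QuotientGroup.mk' _ (A ^ s) = 1 by rw [map_pow, hA, ← ha, pow_orderOf_eq_one])
    rw [← pow_mul, hd, mul_right_comm, mul_comm _ s, pow_mul, pow_mul]
    have h2 : (A ^ s) ^ Nat.card (Subgroup.center (Matrix.SpecialLinearGroup (Fin n) F)) = 1 :=
      congrArg Subtype.val (pow_card_eq_one' (x := (⟨A ^ s, h1⟩ : Subgroup.center (Matrix.SpecialLinearGroup (Fin n) F))))
    rw [h2, one_pow]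

theorem section_trivial {r m : ℕ} [Fact r.Prime] (T : Module.End F (Fin n → F)) (hT : T ^ r = 1)
    (hord : ∀ i, 1 ≤ i → i ≤ m → ¬ r ∣ Fintype.card F ^ i - 1) (hr : (r : F) ≠ 0)
    (U W : Submodule F (Fin n → F)) (hUW : U ≤ W) (hU : ∀ v ∈ U, T v ∈ U) (hW : ∀ v ∈ W, T v ∈ W)
    (hd : Module.finrank F W ≤ Module.finrank F U + m) : ∀ v ∈ W, (T - 1) v ∈ U := by
  classical
  obtain ⟨C', hC', hc⟩ := Cfsg.Agent.Struct.SemisimpleEnd.exists_compl hr hT hU
  set C := C' ⊓ W
  have hC : ∀ v ∈ C, T v ∈ C := fun v hv => ⟨hC' v hv.1, hW v hv.2⟩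
  have hsup : U ⊔ C = W := by
    show U ⊔ C' ⊓ W = W
    rw [← sup_inf_assoc_of_le C' hUW, hc.sup_eq_top, top_inf_eq]
  have hdim : Module.finrank F C ≤ m := by
    have h := Submodule.finrank_sup_add_finrank_inf_eq U C
    rw [hsup, show U ⊓ C = ⊥ by rw [← le_bot_iff, ← hc.inf_eq_bot]; exact inf_le_inf_left U inf_le_left, finrank_bot] at h
    omega
  have hfix : ∀ v ∈ C, T v = v := by
    let e : Equiv.Perm C :=
      { toFun := fun v => ⟨T v, hC v v.2⟩
        invFun := fun v => ⟨(T ^ (r - 1)) v, Module.End.pow_apply_mem_of_forall_mem (r - 1) hC v v.2⟩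
        left_inv := fun v => Subtype.ext (by
          show (T ^ (r - 1)) (T v) = v
          rw [← Module.End.mul_apply, ← pow_succ, Nat.sub_add_cancel (Fact.out : r.Prime).pos, hT, Module.End.one_apply])
        right_inv := fun v => Subtype.ext (by
          show T ((T ^ (r - 1)) v) = v
          rw [← Module.End.mul_apply, ← pow_succ', Nat.sub_add_cancel (Fact.out : r.Prime).pos, hT, Module.End.one_apply]) }
    have hpow : ∀ (j : ℕ) (v : C), (((e ^ j) v : C) : Fin n → F) = (T ^ j) v := by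
      intro j
      induction j with
      | zero => intro v; rfl
      | succ j ih => intro v; rw [pow_succ, Equiv.Perm.mul_apply, ih, pow_succ, Module.End.mul_apply]; rfl
    have her : e ^ r = 1 := Equiv.ext fun v => Subtype.ext (by rw [hpow, hT]; rfl)
    have hP : IsPGroup r (Subgroup.zpowers e) := by
      obtain ⟨i, -, hi⟩ := (Nat.dvd_prime_pow (Fact.out : r.Prime)).1
        (show orderOf e ∣ r ^ 1 by rw [pow_one]; exact orderOf_dvd_of_pow_eq_one her)
      exact IsPGroup.of_card (n := i) (by rw [Nat.card_zpowers, hi])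
    have h := hP.card_modEq_card_fixedPoints C
    let X : Submodule F C := LinearMap.ker ((T - 1).comp C.subtype)
    have hX : ∀ v : C, v ∈ X ↔ T v = v := fun v => by
      show (T - 1) (v : Fin n → F) = 0 ↔ _
      rw [LinearMap.sub_apply, Module.End.one_apply, sub_eq_zero]
    have hcard : Nat.card (MulAction.fixedPoints (Subgroup.zpowers e) C) = Nat.card X := by
      refine Nat.card_congr (Equiv.subtypeEquivRight fun v => ?_)
      rw [hX]
      refine ⟨fun hv => congrArg Subtype.val (hv ⟨e, Subgroup.mem_zpowers e⟩), fun hv => ?_⟩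
      rintro ⟨y, hy⟩
      have hle : Subgroup.zpowers e ≤ MulAction.stabilizer (Equiv.Perm C) v := Subgroup.zpowers_le.2 (Subtype.ext hv)
      exact hle hy
    rw [hcard, Nat.card_eq_fintype_card, Nat.card_eq_fintype_card, Module.card_eq_pow_finrank (K := F) (V := C),
      Module.card_eq_pow_finrank (K := F) (V := X)] at h
    have hle : Module.finrank F X ≤ Module.finrank F C := Submodule.finrank_le X
    have heq : Module.finrank F X = Module.finrank F C := by
      by_contra hne
      refine hord (Module.finrank F C - Module.finrank F X) (by omega) (by omega) ?_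
      have hd := (Nat.modEq_iff_dvd' (Nat.pow_le_pow_right (Nat.one_le_of_lt Fintype.one_lt_card) hle)).1 h.symm
      conv at hd => rhs; lhs; rw [← Nat.add_sub_cancel' hle, pow_add]
      rw [← Nat.mul_sub_one] at hd
      refine ((Fact.out : r.Prime).dvd_mul.1 hd).resolve_left fun h0 => hr ?_
      have hrq := (Fact.out : r.Prime).dvd_of_dvd_pow h0
      obtain ⟨s, hs⟩ := CharP.exists F
      obtain ⟨e', he'⟩ := FiniteField.card F s
      rw [he'.2] at hrq
      rw [(Nat.prime_dvd_prime_iff_eq (Fact.out : r.Prime) he'.1).1 ((Fact.out : r.Prime).dvd_of_dvd_pow hrq)]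
      exact CharP.cast_eq_zero F s
    intro v hv
    exact (hX ⟨v, hv⟩).1 (Submodule.eq_top_of_finrank_eq heq ▸ Submodule.mem_top)
  intro v hv
  rw [← hsup, Submodule.mem_sup] at hv
  obtain ⟨u, hu, c, hcc, rfl⟩ := hv
  rw [LinearMap.sub_apply, Module.End.one_apply, map_add, hfix c hcc, add_sub_add_right_eq_sub]
  exact U.sub_mem (hU u hu) hu


/-- Let F be a finite field of characteristic p, n ≥ 4, and let a, b be commuting elements of PSL(n, F) with a of order p. Then every prime divisor of the order of b divides the order of SL(n − 2, F). -/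
theorem result {F : Type*} [Field F] [Fintype F] (p : ℕ) [Fact p.Prime] [CharP F p] (n : ℕ) (hn : 4 ≤ n)
    (a b : Matrix.ProjectiveSpecialLinearGroup (Fin n) F) (ha : orderOf a = p) (hab : Commute a b) :
    (orderOf b).primeFactors ⊆ (Nat.card (Matrix.SpecialLinearGroup (Fin (n - 2)) F)).primeFactors := by
  classical
  intro r hr
  obtain ⟨hrp', hrb, -⟩ := Nat.mem_primeFactors.1 hr
  haveI := Fact.mk hrp'
  have hp : p.Prime := Fact.out
  set q := Fintype.card F with hqd
  have hq : 1 < q := Fintype.one_lt_card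
  obtain ⟨e, he⟩ := FiniteField.card F p
  have hpdq : p ∣ q := by rw [hqd, he.2]; exact dvd_pow_self p e.ne_zero
  haveI : Nonempty (Fin (n - 2)) := ⟨⟨0, by omega⟩⟩
  set m := n - 2 with hm
  by_contra hnot
  have hSL : ¬ r ∣ Nat.card (Matrix.SpecialLinearGroup (Fin m) F) := fun h =>
    hnot (Nat.mem_primeFactors.2 ⟨hrp', h, Nat.card_pos.ne'⟩)
  have hGL : Nat.card (GL (Fin m) F) = (q - 1) * Nat.card (Matrix.SpecialLinearGroup (Fin m) F) :=
    Cfsg.Agent.Classical.card_GL_eq_mul_card_SL
  rw [Matrix.card_GL_field, ← hqd] at hGL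
  have hfac : ∀ i : ℕ, ∀ h1 : 1 ≤ i, ∀ hi : i ≤ m, q ^ m - q ^ ((⟨m - i, by omega⟩ : Fin m) : ℕ) = q ^ (m - i) * (q ^ i - 1) := fun i h1 hi => by
    rw [Nat.mul_sub, mul_one, ← pow_add, Nat.sub_add_cancel hi]
  -- `r` is prime to `q - 1` and to `p`
  have hq1 : ¬ r ∣ q - 1 := fun h => by
    have hsub : ∏ i ∈ ({⟨m - 1, by omega⟩, ⟨m - 2, by omega⟩} : Finset (Fin m)), (q ^ m - q ^ (i : ℕ)) ∣
        ∏ i : Fin m, (q ^ m - q ^ (i : ℕ)) := Finset.prod_dvd_prod_of_subset _ _ _ (Finset.subset_univ _)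
    rw [hGL, Finset.prod_pair (by simp; omega), hfac 1 le_rfl (by omega), hfac 2 (by omega) (by omega), pow_one] at hsub
    refine hSL (h.trans (Nat.dvd_of_mul_dvd_mul_left (by omega : 0 < q - 1) (dvd_trans ?_ hsub)))
    obtain ⟨c, hc⟩ : q - 1 ∣ q ^ 2 - 1 := by simpa only [one_pow] using Nat.sub_dvd_pow_sub_pow q 1 2
    rw [hc]
    exact ⟨q ^ (m - 1) * q ^ (m - 2) * c, by ring⟩
  have hord : ∀ i : ℕ, 1 ≤ i → i ≤ m → ¬ r ∣ q ^ i - 1 := fun i h1 h2 h => by
    have hd : q ^ m - q ^ ((⟨m - i, by omega⟩ : Fin m) : ℕ) ∣ ∏ j : Fin m, (q ^ m - q ^ (j : ℕ)) :=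
      Finset.dvd_prod_of_mem _ (Finset.mem_univ _)
    rw [hGL, hfac i h1 h2] at hd
    exact hSL ((hrp'.dvd_mul.1 ((h.mul_left _).trans hd)).resolve_left hq1)
  have hrp : r ≠ p := fun h => by
    have hd : q ^ m - q ^ ((⟨m - 1, by omega⟩ : Fin m) : ℕ) ∣ ∏ j : Fin m, (q ^ m - q ^ (j : ℕ)) :=
      Finset.dvd_prod_of_mem _ (Finset.mem_univ _)
    rw [hGL, hfac 1 le_rfl (by omega)] at hd
    have hrq : r ∣ q ^ (m - 1) := dvd_trans (h ▸ hpdq) (dvd_pow_self q (by omega))
    exact hSL ((hrp'.dvd_mul.1 ((dvd_mul_of_dvd_left hrq _).trans hd)).resolve_left hq1)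
  -- lifts
  haveI : Nonempty (Fin n) := ⟨⟨0, by omega⟩⟩
  set Z := Subgroup.center (Matrix.SpecialLinearGroup (Fin n) F)
  have hZc : Nat.card Z ∣ q - 1 := by rw [Cfsg.Agent.Classical.card_center_SL, ← hqd]; exact Nat.gcd_dvd_right _ _
  have hZp : (Nat.card Z).Coprime p := by
    refine Nat.Coprime.coprime_dvd_left hZc (hp.coprime_iff_not_dvd.2 fun h => ?_).symm
    have hpq : p ∣ q := hpdq
    have h1 := Nat.dvd_sub hpq h
    rw [Nat.sub_sub_self (by omega : 1 ≤ q)] at h1
    exact hp.one_lt.ne' (Nat.dvd_one.1 h1)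
  have hZr : (Nat.card Z).Coprime r := Nat.Coprime.coprime_dvd_left hZc (hrp'.coprime_iff_not_dvd.2 hq1).symm
  set β := b ^ (orderOf b / r)
  have hβ : orderOf β = r := orderOf_pow_orderOf_div (orderOf_pos b).ne' hrb
  obtain ⟨A, hA, hAp⟩ := lift_prime (n := n) (F := F) a ha hZp
  obtain ⟨B, hB, hBr⟩ := lift_prime (n := n) (F := F) β hβ hZr
  have hβc : Commute a β := hab.pow_right _
  -- the lifts commute
  have hAB : A * B = B * A := by
    set z := A * B * A⁻¹ * B⁻¹ with hz
    have hzZ : z ∈ Z := (QuotientGroup.eq_one_iff z).1 (by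
      show QuotientGroup.mk' Z z = 1
      rw [hz, map_mul, map_mul, map_mul, map_inv, map_inv, hA, hB, hβc.eq]; group)
    have hzc : ∀ y, z * y = y * z := fun y => (Subgroup.mem_center_iff.1 hzZ y).symm
    have hAz : A * B * A⁻¹ = z * B := by rw [hz]; group
    have hiter : ∀ j : ℕ, A ^ j * B * (A ^ j)⁻¹ = z ^ j * B := by
      intro j
      induction j with
      | zero => simp
      | succ j ih =>
        calc A ^ (j + 1) * B * (A ^ (j + 1))⁻¹ = A * (A ^ j * B * (A ^ j)⁻¹) * A⁻¹ := by rw [pow_succ']; group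
          _ = (A * z ^ j) * (B * A⁻¹) := by rw [ih]; group
          _ = (z ^ j * A) * (B * A⁻¹) := by rw [((show Commute z A from hzc A).pow_left j).eq]
          _ = z ^ j * (A * B * A⁻¹) := by simp only [mul_assoc]
          _ = z ^ j * (z * B) := by rw [hAz]
          _ = z ^ (j + 1) * B := (mul_assoc _ _ _).symm.trans (congrArg (· * B) (pow_succ z j).symm)
    have h1 := hiter p
    rw [hAp, one_mul, inv_one, mul_one, eq_comm, mul_eq_right] at h1
    have h2 : z ^ Nat.card Z = 1 := congrArg Subtype.val (pow_card_eq_one' (x := (⟨z, hzZ⟩ : Z)))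
    have h3 : z = 1 := orderOf_eq_one_iff.1 (Nat.eq_one_of_dvd_coprimes hZp (orderOf_dvd_of_pow_eq_one h2) (orderOf_dvd_of_pow_eq_one h1))
    rw [h3, one_mul] at hAz
    exact mul_inv_eq_iff_eq_mul.1 hAz
  have hA1 : A ≠ 1 := fun e1 => by
    rw [e1, map_one] at hA
    rw [← hA, orderOf_one] at ha
    exact hp.ne_one ha.symm
  have hB1 : B ≠ 1 := fun e1 => by
    rw [e1, map_one] at hB
    rw [← hB, orderOf_one] at hβ
    exact hrp'.ne_one hβ.symm
  set T : Module.End F (Fin n → F) := Matrix.toLinAlgEquiv' (B : Matrix (Fin n) (Fin n) F) with hT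
  set N : Module.End F (Fin n → F) := Matrix.toLinAlgEquiv' ((A : Matrix (Fin n) (Fin n) F) - 1) with hN
  have hTr : T ^ r = 1 := by
    rw [hT, ← map_pow, ← Matrix.SpecialLinearGroup.coe_pow, hBr, Matrix.SpecialLinearGroup.coe_one, map_one]
  have hNp : N ^ p = 0 := by
    rw [hN, ← map_pow, ← pow_one p, Cfsg.Agent.Struct.UnipotentGL.sub_one_pow_char p, pow_one,
      ← Matrix.SpecialLinearGroup.coe_pow, hAp, Matrix.SpecialLinearGroup.coe_one, sub_self, map_zero]
  have hNnil : IsNilpotent N := ⟨p, hNp⟩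
  have hN0 : N ≠ 0 := fun h0 => hA1 (Subtype.ext (sub_eq_zero.1 (Matrix.toLinAlgEquiv'.injective (h0.trans (map_zero _).symm))))
  have hTN : Commute T N := by
    have h : Commute (B : Matrix (Fin n) (Fin n) F) ((A : Matrix (Fin n) (Fin n) F) - 1) := by
      refine Commute.sub_right ?_ (Commute.one_right _)
      show (B : Matrix (Fin n) (Fin n) F) * A = A * B
      rw [← Matrix.SpecialLinearGroup.coe_mul, ← hAB, Matrix.SpecialLinearGroup.coe_mul]
    exact h.map Matrix.toLinAlgEquiv'.toRingHom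
  -- an element of order `r` moves nothing in small invariant sections
  have hsmall := fun (U W : Submodule F (Fin n → F)) => section_trivial (r := r) T hTr (fun i h1 h2 => hord i h1 h2)
    (fun e1 => hrp ((Nat.prime_dvd_prime_iff_eq hp hrp').1 ((CharP.cast_eq_zero_iff F p r).1 e1)).symm) U W
  have hinv : ∀ j : ℕ, ∀ v ∈ LinearMap.ker (N ^ j), T v ∈ LinearMap.ker (N ^ j) := fun j v hv => by
    rw [LinearMap.mem_ker] at hv ⊢
    rw [← Module.End.mul_apply, ← (hTN.pow_right j).eq, Module.End.mul_apply, hv, map_zero]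
  have hinvR : ∀ v ∈ LinearMap.range N, T v ∈ LinearMap.range N := by
    rintro _ ⟨v, rfl⟩
    exact ⟨T v, by rw [← Module.End.mul_apply, ← hTN.eq, Module.End.mul_apply]⟩
  -- a flag with small steps
  obtain ⟨U, W, hU, hW, hUW, hd1, hd2, hd3⟩ : ∃ U W : Submodule F (Fin n → F), (∀ v ∈ U, T v ∈ U) ∧ (∀ v ∈ W, T v ∈ W) ∧ U ≤ W ∧
      Module.finrank F U ≤ m ∧ Module.finrank F W ≤ Module.finrank F U + m ∧ n ≤ Module.finrank F W + m := by
    have hsum := LinearMap.finrank_range_add_finrank_ker N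
    rw [Module.finrank_fin_fun] at hsum
    have hk : ∀ v ∈ LinearMap.ker N, T v ∈ LinearMap.ker N := fun v hv => by
      have := hinv 1 v (by rwa [pow_one])
      rwa [pow_one] at this
    have hd0 : Module.finrank F (LinearMap.range N) ≠ 0 := by
      rw [Ne, Submodule.finrank_eq_zero, LinearMap.range_eq_bot]; exact hN0
    have hk0 : Module.finrank F (LinearMap.ker N) ≠ 0 := by
      rw [Ne, Submodule.finrank_eq_zero]
      intro h0
      have hinj := LinearMap.ker_eq_bot.1 h0
      have : Function.Injective (N ^ p) := by rw [Module.End.coe_pow]; exact hinj.iterate p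
      rw [hNp] at this
      exact absurd (@this (Pi.single ⟨0, by omega⟩ 1) 0 (by simp)) (fun h => one_ne_zero (α := F) (by simpa using congrFun h ⟨0, by omega⟩))
    by_cases h1 : Module.finrank F (LinearMap.ker N) = 1
    · refine ⟨LinearMap.ker N, LinearMap.ker (N ^ 2), hk, hinv 2, fun v hv => ?_, by omega, ?_, ?_⟩
      · rw [LinearMap.mem_ker] at hv ⊢
        rw [pow_two, Module.End.mul_apply, hv, map_zero]
      · have := Cfsg.Agent.Struct.UnipotentGL.finrank_ker_pow_le N 2
        omega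
      · have hlt : Module.finrank F (LinearMap.ker N) < Module.finrank F (LinearMap.ker (N ^ 2)) := by
          refine Submodule.finrank_lt_finrank_of_lt (lt_of_le_not_ge (fun v hv => ?_) fun hle => ?_)
          · rw [LinearMap.mem_ker] at hv ⊢
            rw [pow_two, Module.End.mul_apply, hv, map_zero]
          · have hstab : ∀ j, LinearMap.ker (N ^ (j + 1)) ≤ LinearMap.ker N := by
              intro j
              induction j with
              | zero => rw [pow_one]
              | succ j ih =>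
                intro v hv
                rw [LinearMap.mem_ker, pow_succ, Module.End.mul_apply] at hv
                have h2 := ih (LinearMap.mem_ker.2 hv)
                refine hle (LinearMap.mem_ker.2 ?_)
                rw [pow_two, Module.End.mul_apply]
                exact LinearMap.mem_ker.1 h2
            have htop : LinearMap.ker N = ⊤ := by
              refine top_le_iff.1 (le_trans ?_ (hstab (p - 1)))
              rw [Nat.sub_add_cancel hp.pos, hNp, LinearMap.ker_zero]
            rw [htop, finrank_top, Module.finrank_fin_fun] at h1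
            omega
        omega
    by_cases h2 : Module.finrank F (LinearMap.range N) = 1
    · refine ⟨LinearMap.range N, LinearMap.ker N, hinvR, hk, ?_, by omega, by omega, by omega⟩
      intro v hv
      have h3 := Cfsg.Agent.Struct.UnipotentGL.pow_finrank_apply_eq_zero hNnil (W := LinearMap.range N) (fun w _ => LinearMap.mem_range_self N w) hv
      rw [h2, pow_one] at h3
      exact h3
    · exact ⟨LinearMap.ker N, LinearMap.ker N, hk, hk, le_rfl, by omega, by omega, by omega⟩
  have e1 := hsmall ⊥ U bot_le (fun v hv => by rw [Submodule.mem_bot] at hv ⊢; rw [hv, map_zero]) hU (by simpa using hd1)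
  have e2 := hsmall U W hUW hU hW hd2
  have e3 := hsmall W ⊤ le_top hW (fun v _ => Submodule.mem_top) (by rw [finrank_top, Module.finrank_fin_fun]; exact hd3)
  have hcube : ((B : Matrix (Fin n) (Fin n) F) - 1) ^ 3 = 0 := by
    apply Matrix.toLinAlgEquiv'.injective
    rw [map_pow, map_sub, map_one, map_zero]
    refine LinearMap.ext fun v => ?_
    simp only [pow_succ, pow_zero, one_mul, Module.End.mul_apply, LinearMap.sub_apply, Module.End.one_apply, LinearMap.zero_apply]
    exact (Submodule.mem_bot F).1 (e1 _ (e2 _ (e3 v Submodule.mem_top)))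
  have hBp : B ^ p ^ 2 = 1 := by
    refine Subtype.ext ?_
    rw [Matrix.SpecialLinearGroup.coe_pow, Matrix.SpecialLinearGroup.coe_one, ← sub_eq_zero,
      ← Cfsg.Agent.Struct.UnipotentGL.sub_one_pow_char p]
    exact pow_eq_zero_of_le (by nlinarith [hp.two_le] : 3 ≤ p ^ 2) hcube
  exact hB1 (orderOf_eq_one_iff.1 (Nat.eq_one_of_dvd_coprimes (Nat.Coprime.pow_left 2 ((Nat.coprime_primes hp hrp').2 hrp.symm))
    (orderOf_dvd_of_pow_eq_one hBp) (orderOf_dvd_of_pow_eq_one hBr)))

end Cfsg.Agent.S2364
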