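import Cfsg.Statements.S2367


set_option autoImplicit false
open Cfsg

namespace Cfsg.Agent.S2367

theorem key (N a : ℕ) (L : List (ℕ × ℕ)) (hL : (L.map fun x => x.1 ^ x.2).prod = N)
    (hpr : ∀ x ∈ L, Nat.Prime x.1) (h2 : 2 ^ a ∣ N)
    (hc : ∀ x ∈ L, x.1 = 2 ∨ x.1 ^ 3 < 2 ^ a ∨ ¬ x.1 ^ 3 ∣ N ∨ x.1 ^ 4 ∣ N)
    {m p : ℕ} (hm : m = N) (hp : p.Prime) (hodd : p ≠ 2) (h3 : m.factorization p = 3) :
    p ^ 3 < 2 ^ m.factorization 2 := by
  subst hm
  have hN : m ≠ 0 := by rintro rfl; simp at h3
  have hd : p ∣ m := Nat.dvd_of_factorization_pos (by omega)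
  have hd' := hd
  rw [← hL] at hd'
  obtain ⟨y, hy, hpy⟩ := (hp.prime.dvd_prod_iff).1 hd'
  obtain ⟨x, hx, rfl⟩ := List.mem_map.1 hy
  obtain rfl := (Nat.prime_dvd_prime_iff_eq hp (hpr x hx)).1 (hp.dvd_of_dvd_pow hpy)
  rcases hc x hx with e | e | e | e
  · exact absurd e hodd
  · exact e.trans_le (Nat.pow_le_pow_right (by norm_num)
      ((Nat.prime_two.pow_dvd_iff_le_factorization hN).1 h2))
  · exact absurd ((hp.pow_dvd_iff_le_factorization hN).2 h3.ge) e
  · have := (hp.pow_dvd_iff_le_factorization hN).1 e
    omega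

theorem v2_factorial (j : ℕ) : 3 * j ≤ (Nat.factorial (4 * j)).factorization 2 := by
  have hs : ∀ k : ℕ, (Nat.factorial (2 * k)).factorization 2 = k + (Nat.factorial k).factorization 2 := by
    intro k
    rw [Nat.factorization_factorial_mul Nat.prime_two, add_comm]
  rw [show 4 * j = 2 * (2 * j) by ring, hs, hs]
  omega

theorem growth (k : ℕ) (hk : 3 ≤ k) : 2 * k + 1 < 2 ^ k := by
  induction k, hk using Nat.le_induction with
  | base => norm_num
  | succ k hk ih =>
    rw [pow_succ]
    omega

theorem alt_bound (n p : ℕ) (hn : 5 ≤ n) (hp : p.Prime) (hodd : p ≠ 2)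
    (h3 : (Nat.factorial n / 2).factorization p = 3) :
    p ^ 3 < 2 ^ (Nat.factorial n / 2).factorization 2 := by
  have h2 : 2 ∣ Nat.factorial n := Nat.dvd_factorial two_pos (by omega)
  rw [Nat.factorization_div h2, Finsupp.tsub_apply, Nat.prime_two.factorization_self]
  rw [Nat.factorization_div h2, Finsupp.tsub_apply,
    Nat.factorization_eq_zero_of_not_dvd (n := 2) (p := p)
      (fun h => hodd ((Nat.prime_dvd_prime_iff_eq hp Nat.prime_two).1 h)), Nat.sub_zero] at h3
  have h3' : 3 * p ≤ n := by
    by_contra hlt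
    by_cases hp3 : p = 3
    · subst hp3
      have : n ≤ 8 := by omega
      have h27 := (hp.pow_dvd_iff_le_factorization (Nat.factorial_ne_zero n)).2 h3.ge
      interval_cases n <;> norm_num [Nat.factorial] at h27
    · have hp5 : 3 < p := by have := hp.two_le; omega
      have hlog : Nat.log p n < 2 := Nat.log_lt_of_lt_pow (by omega) (by nlinarith)
      rw [Nat.factorization_factorial hp hlog] at h3
      simp [Finset.sum_Ico_succ_top] at h3
      have : n / p < 3 := (Nat.div_lt_iff_lt_mul hp.pos).2 (by omega)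
      omega
  have hp5 : 5 ≤ p := by
    by_contra hlt
    have := hp.two_le
    obtain rfl : p = 3 := by
      interval_cases p <;> first | rfl | omega | norm_num at hp
    have h9 : 4 ≤ (Nat.factorial 9).factorization 3 :=
      (Nat.prime_three.pow_dvd_iff_le_factorization (Nat.factorial_ne_zero 9)).1 (by decide)
    have := h9.trans ((Nat.factorization_le_iff_dvd (Nat.factorial_ne_zero _)
      (Nat.factorial_ne_zero _)).2 (Nat.factorial_dvd_factorial h3') 3)
    omega
  have hj := v2_factorial (3 * p / 4)
  have hle := hj.trans ((Nat.factorization_le_iff_dvd (Nat.factorial_ne_zero _)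
    (Nat.factorial_ne_zero _)).2 (Nat.factorial_dvd_factorial (by omega : 4 * (3 * p / 4) ≤ n)) 2)
  refine lt_of_lt_of_le ?_ (Nat.pow_le_pow_right (by norm_num)
    (show 3 * (3 * p / 4) - 1 ≤ (Nat.factorial n).factorization 2 - 1 by omega))
  rcases Nat.lt_or_ge p 6 with h | h
  · interval_cases p
    norm_num
  · have hg := growth (p / 2) (by omega)
    have hlt : p < 2 ^ (3 * p / 4 - 1) :=
      lt_of_le_of_lt (by omega) (hg.trans_le (Nat.pow_le_pow_right (by norm_num) (by omega)))
    calc p ^ 3 < (2 ^ (3 * p / 4 - 1)) ^ 3 := Nat.pow_lt_pow_left hlt (by norm_num)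
      _ ≤ _ := by rw [← pow_mul]; exact Nat.pow_le_pow_right (by norm_num) (by omega)
end Cfsg.Agent.S2367

namespace Cfsg.Agent.S2367

/-- Let G be an alternating group of degree at least 5 or a simple group with the order of one of the 26 sporadic groups, and let p be an odd prime such that p³ is the exact power of p dividing the order of G. Then p³ is less than the 2-part of the order of G. -/
theorem result {G : Type*} [Group G] [Finite G] (hG : Cfsg.IsAlternating G ∨ Cfsg.IsSporadic G)
    (p : ℕ) (hp : p.Prime) (hodd : p ≠ 2) (h3 : (Nat.card G).factorization p = 3) :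
    p ^ 3 < 2 ^ (Nat.card G).factorization 2 := by
  rcases hG with ⟨n, hn, ⟨e⟩⟩ | hS
  · haveI : Nontrivial (Fin n) := Fin.nontrivial_iff_two_le.2 (by omega)
    have hc : Nat.card G = Nat.factorial n / 2 := by
      rw [Nat.card_congr e.toEquiv, nat_card_alternatingGroup, Nat.card_eq_fintype_card,
        Fintype.card_fin]
    rw [hc] at h3 ⊢
    exact alt_bound n p hn hp hodd h3
  · rcases hS with h | h | h | h | h | h | h | h | h | h | h | h | h | h | h | h | h | h | h | h | h | h | h | h | h | h
    · exact key 7920 4 [(2, 4), (3, 2), (5, 1), (11, 1)] (by decide) (by decide) (by decide) (by decide) h.2 hp hodd h3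
    · exact key 95040 6 [(2, 6), (3, 3), (5, 1), (11, 1)] (by decide) (by decide) (by decide) (by decide) h.2 hp hodd h3
    · exact key 443520 7 [(2, 7), (3, 2), (5, 1), (7, 1), (11, 1)] (by decide) (by decide) (by decide) (by decide) h.2 hp hodd h3
    · exact key 10200960 7 [(2, 7), (3, 2), (5, 1), (7, 1), (11, 1), (23, 1)] (by decide) (by decide) (by decide) (by decide) h.2 hp hodd h3
    · exact key 244823040 10 [(2, 10), (3, 3), (5, 1), (7, 1), (11, 1), (23, 1)] (by decide) (by decide) (by decide) (by decide) h.2 hp hodd h3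
    · exact key 175560 3 [(2, 3), (3, 1), (5, 1), (7, 1), (11, 1), (19, 1)] (by decide) (by decide) (by decide) (by decide) h.2 hp hodd h3
    · exact key 604800 7 [(2, 7), (3, 3), (5, 2), (7, 1)] (by decide) (by decide) (by decide) (by decide) h.2 hp hodd h3
    · exact key 50232960 7 [(2, 7), (3, 5), (5, 1), (17, 1), (19, 1)] (by decide) (by decide) (by decide) (by decide) h.2 hp hodd h3
    · exact key 86775571046077562880 21 [(2, 21), (3, 3), (5, 1), (7, 1), (11, 3), (23, 1), (29, 1), (31, 1), (37, 1), (43, 1)] (by decide) (by decide) (by decide) (by decide) h.2 hp hodd h3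
    · exact key 4157776806543360000 21 [(2, 21), (3, 9), (5, 4), (7, 2), (11, 1), (13, 1), (23, 1)] (by decide) (by decide) (by decide) (by decide) h.2 hp hodd h3
    · exact key 42305421312000 18 [(2, 18), (3, 6), (5, 3), (7, 1), (11, 1), (23, 1)] (by decide) (by decide) (by decide) (by decide) h.2 hp hodd h3
    · exact key 495766656000 10 [(2, 10), (3, 7), (5, 3), (7, 1), (11, 1), (23, 1)] (by decide) (by decide) (by decide) (by decide) h.2 hp hodd h3
    · exact key 64561751654400 17 [(2, 17), (3, 9), (5, 2), (7, 1), (11, 1), (13, 1)] (by decide) (by decide) (by decide) (by decide) h.2 hp hodd h3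
    · exact key 4089470473293004800 18 [(2, 18), (3, 13), (5, 2), (7, 1), (11, 1), (13, 1), (17, 1), (23, 1)] (by decide) (by decide) (by decide) (by decide) h.2 hp hodd h3
    · exact key 1255205709190661721292800 21 [(2, 21), (3, 16), (5, 2), (7, 3), (11, 1), (13, 1), (17, 1), (23, 1), (29, 1)] (by decide) (by decide) (by decide) (by decide) h.2 hp hodd h3
    · exact key 44352000 9 [(2, 9), (3, 2), (5, 3), (7, 1), (11, 1)] (by decide) (by decide) (by decide) (by decide) h.2 hp hodd h3
    · exact key 898128000 7 [(2, 7), (3, 6), (5, 3), (7, 1), (11, 1)] (by decide) (by decide) (by decide) (by decide) h.2 hp hodd h3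
    · exact key 4030387200 10 [(2, 10), (3, 3), (5, 2), (7, 3), (17, 1)] (by decide) (by decide) (by decide) (by decide) h.2 hp hodd h3
    · exact key 145926144000 14 [(2, 14), (3, 3), (5, 3), (7, 1), (13, 1), (29, 1)] (by decide) (by decide) (by decide) (by decide) h.2 hp hodd h3
    · exact key 448345497600 13 [(2, 13), (3, 7), (5, 2), (7, 1), (11, 1), (13, 1)] (by decide) (by decide) (by decide) (by decide) h.2 hp hodd h3
    · exact key 460815505920 9 [(2, 9), (3, 4), (5, 1), (7, 3), (11, 1), (19, 1), (31, 1)] (by decide) (by decide) (by decide) (by decide) h.2 hp hodd h3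
    · exact key 273030912000000 14 [(2, 14), (3, 6), (5, 6), (7, 1), (11, 1), (19, 1)] (by decide) (by decide) (by decide) (by decide) h.2 hp hodd h3
    · exact key 51765179004000000 8 [(2, 8), (3, 7), (5, 6), (7, 1), (11, 1), (31, 1), (37, 1), (67, 1)] (by decide) (by decide) (by decide) (by decide) h.2 hp hodd h3
    · exact key 90745943887872000 15 [(2, 15), (3, 10), (5, 3), (7, 2), (13, 1), (19, 1), (31, 1)] (by decide) (by decide) (by decide) (by decide) h.2 hp hodd h3
    · exact key 4154781481226426191177580544000000 41 [(2, 41), (3, 13), (5, 6), (7, 2), (11, 1), (13, 1), (17, 1), (19, 1), (23, 1), (31, 1), (47, 1)] (by decide) (by decide) (by decide) (by decide) h.2 hp hodd h3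
    · exact key 808017424794512875886459904961710757005754368000000000 46 [(2, 46), (3, 20), (5, 9), (7, 6), (11, 2), (13, 3), (17, 1), (19, 1), (23, 1), (29, 1), (31, 1), (41, 1), (47, 1), (59, 1), (71, 1)] (by decide) (by decide) (by decide) (by decide) h.2 hp hodd h3

end Cfsg.Agent.S2367
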