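import Cfsg.Statements.S2368
import Cfsg.Agent.Lib.Struct.UnipotentGL

set_option autoImplicit false
open Cfsg
open Cfsg.Agent.Struct.UnipotentGL Matrix

namespace Cfsg.Agent.S2368

/-- Let F be a finite field of characteristic p and m ≥ 1. Every element of GL(m, F) of p-power order has order less than p·m, and GL(m, F) has an element of p-power order at least m; so the largest order of a p-element of GL(m, F) is the least power of p that is at least m. -/
theorem result {F : Type*} [Field F] [Fintype F] (p : ℕ) [Fact p.Prime] [CharP F p] (m : ℕ) (hm : 1 ≤ m) :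
    (∀ g : Matrix.GeneralLinearGroup (Fin m) F, (∃ j : ℕ, orderOf g = p ^ j) → orderOf g < p * m) ∧
      ∃ g : Matrix.GeneralLinearGroup (Fin m) F, (∃ j : ℕ, orderOf g = p ^ j) ∧ m ≤ orderOf g := by
  have hp : p.Prime := Fact.out
  constructor
  · rintro g ⟨j, hj⟩
    have h := Nat.le_of_dvd (pow_pos hp.pos _) (orderOf_dvd_clog p g (isNilpotent_of_orderOf p g hj))
    rw [Fintype.card_fin] at h
    refine h.trans_lt ?_
    rcases eq_or_lt_of_le hm with h1 | h1
    · subst h1
      simpa using hp.one_lt
    obtain ⟨c, hc⟩ := Nat.exists_eq_succ_of_ne_zero (Nat.clog_pos hp.one_lt h1).ne'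
    have hlt : p ^ c < m := by
      rw [← Nat.lt_clog_iff_pow_lt hp.one_lt]
      omega
    rw [hc, pow_succ, mul_comm]
    exact Nat.mul_lt_mul_of_pos_left hlt hp.pos
  · -- a single Jordan block
    set N : Matrix (Fin m) (Fin m) F := Matrix.of fun (i j : Fin m) => if (j : ℕ) = i + 1 then 1 else 0 with hNd
    have hpow : ∀ k : ℕ, N ^ k = Matrix.of fun (i j : Fin m) => if (j : ℕ) = i + k then 1 else 0 := by
      intro k
      induction k with
      | zero =>
        ext i j
        by_cases h : i = j
        · subst h; simp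
        · simp [Matrix.one_apply_ne h, show ¬ (j : ℕ) = i from fun e => h (Fin.ext e.symm)]
      | succ k ih =>
        ext i j
        rw [pow_succ, Matrix.mul_apply, ih]
        simp only [hNd, Matrix.of_apply]
        by_cases hj : (j : ℕ) = i + (k + 1)
        · rw [if_pos hj, Finset.sum_eq_single (⟨i + k, by omega⟩ : Fin m)]
          · rw [if_pos rfl, one_mul, if_pos]
            show (j : ℕ) = i + k + 1
            omega
          · intro b _ hb
            rw [if_neg (fun e => hb (Fin.ext e)), zero_mul]
          · intro h; exact absurd (Finset.mem_univ _) h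
        · rw [if_neg hj]
          refine Finset.sum_eq_zero fun b _ => ?_
          by_cases hb : (b : ℕ) = i + k
          · rw [if_neg (show ¬ (j : ℕ) = b + 1 by omega), mul_zero]
          · rw [if_neg hb, zero_mul]
    have hnil : IsNilpotent N := ⟨m, by
      rw [hpow]; ext i j; simp [show ¬ (j : ℕ) = i + m by omega]⟩
    have hne : N ^ (m - 1) ≠ 0 := fun e => by
      have h := congrFun (congrFun e ⟨0, by omega⟩) ⟨m - 1, by omega⟩
      rw [hpow] at h
      simp at h
    have hu : IsUnit (1 + N) := hnil.isUnit_one_add
    have hval : ((hu.unit : GL (Fin m) F) : Matrix (Fin m) (Fin m) F) - 1 = N := by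
      rw [IsUnit.unit_spec, add_sub_cancel_left]
    have ho := orderOf_eq_clog p hu.unit (hval.symm ▸ hnil) (by rw [hval, Fintype.card_fin]; exact hne)
    rw [Fintype.card_fin] at ho
    exact ⟨hu.unit, ⟨_, ho⟩, ho ▸ Nat.le_pow_clog hp.one_lt m⟩

end Cfsg.Agent.S2368
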