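import Cfsg.Statements.S2379
import Cfsg.Agent.Lib.Struct.SylowLargePrime

set_option autoImplicit false
open Cfsg
open Matrix

namespace Cfsg.Agent.S2379

/-- Sylow subgroups of `SL_n(q)` for large primes. Let `F` be a field with `q` elements and `r` a prime with `r > n` and `r ∤ q` (so `r` does not divide the order `n!` of the Weyl group). Let `d` be the multiplicative order of `q` modulo `r`, `a` the number of integers `i` with `2 ≤ i ≤ n` divisible by `d` (the degrees of the Weyl group are `2, …, n`), and `m` the `r`-part of the value at `q` of the `d`-th cyclotomic polynomial. Then every Sylow `r`-subgroup of `SL_n(q)` is a direct product of `a` cyclic groups of order `m`. -/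
theorem result {F : Type*} [Field F] [Fintype F] {q : ℕ} (hq : Fintype.card F = q) (n : ℕ)
    (r : ℕ) [Fact r.Prime] (hrn : n < r) (hrq : ¬ r ∣ q) (P : Sylow r (Matrix.SpecialLinearGroup (Fin n) F)) :
    Nonempty (↥(P : Subgroup (Matrix.SpecialLinearGroup (Fin n) F)) ≃*
      (Fin ((Finset.Icc 2 n).filter (fun i => orderOf (q : ZMod r) ∣ i)).card →
        Multiplicative (ZMod (r ^ padicValNat r ((Polynomial.cyclotomic (orderOf (q : ZMod r)) ℤ).eval (q : ℤ)).natAbs)))) := by
  classical
  have hr : r.Prime := Fact.out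
  have hq1 : 1 < q := hq ▸ Fintype.one_lt_card
  set i := orderOf (q : ZMod r) with hi
  have hi0 : 0 < i := Cfsg.Agent.Struct.SylowLargePrime.order_pos hrq
  rcases Nat.eq_zero_or_pos n with rfl | hn0
  · haveI : IsEmpty (Fin ((Finset.Icc 2 0).filter (fun j => i ∣ j)).card) := by
      rw [show ((Finset.Icc 2 0).filter (fun j => i ∣ j)).card = 0 by simp]; infer_instance
    haveI : Subsingleton (Matrix.SpecialLinearGroup (Fin 0) F) := inferInstance
    let : Unique ↥(P : Subgroup (Matrix.SpecialLinearGroup (Fin 0) F)) := uniqueOfSubsingleton 1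
    exact ⟨MulEquiv.ofUnique⟩
  haveI : Nonempty (Fin n) := ⟨⟨0, hn0⟩⟩
  have hmul : Nat.card (GL (Fin n) F) = (q - 1) * Nat.card (Matrix.SpecialLinearGroup (Fin n) F) := by
    rw [Cfsg.Agent.Classical.card_GL_eq_mul_card_SL, hq]
  have hv : (Nat.card (GL (Fin n) F)).factorization r =
      (q - 1).factorization r + (Nat.card (Matrix.SpecialLinearGroup (Fin n) F)).factorization r := by
    rw [hmul, Nat.factorization_mul (by omega) Nat.card_pos.ne', Finsupp.coe_add, Pi.add_apply]
  set a := padicValNat r (q ^ i - 1) with ha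
  have hGL : (Nat.card (GL (Fin n) F)).factorization r = n / i * a :=
    Cfsg.Agent.Struct.SylowLargePrime.factorization_card_GL hq hrq (lt_of_le_of_lt (Nat.div_le_self n _) hrn)
  rw [Cfsg.Agent.Struct.SylowLargePrime.val_cyclotomic hq1 hrq, ← hi, ← ha]
  by_cases hi1 : i = 1
  · -- diagonal matrices
    have hcount : ((Finset.Icc 2 n).filter (fun j => i ∣ j)).card = n - 1 := by
      rw [hi1, Finset.filter_true_of_mem (fun j _ => one_dvd j), Nat.card_Icc]; omega
    rw [hcount]
    obtain ⟨k, rfl⟩ : ∃ k, n = k + 1 := ⟨n - 1, by omega⟩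
    rw [Nat.add_sub_cancel]
    have ha1 : a = padicValNat r (q - 1) := by rw [ha, hi1, pow_one]
    have hSL : (Nat.card (Matrix.SpecialLinearGroup (Fin (k + 1)) F)).factorization r = k * a := by
      rw [hGL, hi1, Nat.div_one, Nat.factorization_def _ hr, ← ha1, Nat.succ_mul] at hv
      omega
    obtain ⟨z, hz⟩ := (isCyclic_iff_exists_orderOf_eq_natCard (α := Fˣ)).1 inferInstance
    have hd : r ^ a ∣ orderOf z := by
      rw [hz, Nat.card_units, Nat.card_eq_fintype_card, hq, ha1]; exact pow_padicValNat_dvd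
    set c := z ^ (orderOf z / r ^ a)
    have hc : orderOf c = r ^ a := orderOf_pow_orderOf_div (orderOf_pos z).ne' hd
    haveI : NeZero (r ^ a) := ⟨pow_ne_zero _ hr.ne_zero⟩
    let u : Multiplicative (ZMod (r ^ a)) ≃* Subgroup.zpowers c :=
      mulEquivOfCyclicCardEq (by rw [Nat.card_zpowers, hc, Nat.card_congr Multiplicative.toAdd, Nat.card_zmod])
    let v : Multiplicative (ZMod (r ^ a)) →* Fˣ := (Subgroup.zpowers c).subtype.comp u.toMonoidHom
    let d : (Fin k → Multiplicative (ZMod (r ^ a))) → (Fin (k + 1) → F) := fun w i =>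
      ((v ((Fin.cons (α := fun _ => Multiplicative (ZMod (r ^ a))) (∏ j, w j)⁻¹ w) i) : Fˣ) : F)
    have hd1 : ∀ w, ∏ i, d w i = 1 := fun w => by
      simp only [d, ← Units.coe_prod, ← map_prod, Fin.prod_cons, inv_mul_cancel, map_one, Units.val_one]
    let f : (Fin k → Multiplicative (ZMod (r ^ a))) →* Matrix.SpecialLinearGroup (Fin (k + 1)) F :=
      MonoidHom.mk' (fun w => ⟨Matrix.diagonal (d w), by rw [Matrix.det_diagonal, hd1]⟩) (fun w w' => by
        refine Subtype.ext ?_
        show Matrix.diagonal (d (w * w')) = Matrix.diagonal (d w) * Matrix.diagonal (d w')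
        rw [Matrix.diagonal_mul_diagonal]
        congr 1
        funext i
        refine Fin.cases ?_ (fun j => ?_) i
        · simp only [d, Fin.cons_zero, Pi.mul_apply, Finset.prod_mul_distrib, mul_inv, map_mul, Units.val_mul]
        · simp only [d, Fin.cons_succ, Pi.mul_apply, map_mul, Units.val_mul])
    have hf : Function.Injective f := by
      intro w w' h
      funext j
      have h1 := congrFun (Matrix.diagonal_injective (congrArg Subtype.val h)) j.succ
      simp only [d, Fin.cons_succ] at h1
      exact u.injective (Subtype.ext (Units.ext h1))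
    have hcard : Nat.card f.range = r ^ (Nat.card (Matrix.SpecialLinearGroup (Fin (k + 1)) F)).factorization r := by
      rw [← Nat.card_congr (MonoidHom.ofInjective hf).toEquiv, Nat.card_fun, Nat.card_congr Multiplicative.toAdd,
        Nat.card_zmod, Nat.card_fin, ← pow_mul, hSL, mul_comm]
    exact ⟨(P.equiv (Sylow.ofCard f.range hcard)).trans (MonoidHom.ofInjective hf).symm⟩
  · have hcount : ((Finset.Icc 2 n).filter (fun j => i ∣ j)).card = n / i := by
      rw [← Nat.Ioc_filter_dvd_card_eq_div n i]
      congr 1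
      ext j
      simp only [Finset.mem_filter, Finset.mem_Icc, Finset.mem_Ioc]
      constructor
      · rintro ⟨⟨h1, h2⟩, h3⟩; exact ⟨⟨by omega, h2⟩, h3⟩
      · rintro ⟨⟨h1, h2⟩, h3⟩
        have := Nat.le_of_dvd h1 h3
        exact ⟨⟨by omega, h2⟩, h3⟩
    rw [hcount]
    have hq0 : (q - 1).factorization r = 0 := by
      refine Nat.factorization_eq_zero_of_not_dvd fun h => hi1 ?_
      rw [← pow_one q] at h
      exact Nat.dvd_one.1 ((Cfsg.Agent.Struct.SylowLargePrime.dvd_pow_sub_one_iff (by omega) 1).1 h)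
    have hcard : Nat.card ↥((P : Subgroup (Matrix.SpecialLinearGroup (Fin n) F)).map Matrix.SpecialLinearGroup.toGL) =
        r ^ (Nat.card (GL (Fin n) F)).factorization r := by
      rw [← Nat.card_congr (Subgroup.equivMapOfInjective _ _ Matrix.SpecialLinearGroup.toGL_injective).toEquiv,
        P.card_eq_multiplicity, hv, hq0, zero_add]
    obtain ⟨e⟩ := Cfsg.Agent.Struct.SylowLargePrime.sylow_equiv hq hrq (lt_of_le_of_lt (Nat.div_le_self n _) hrn) (Sylow.ofCard _ hcard)
    rw [Cfsg.Agent.Struct.SylowLargePrime.val_cyclotomic hq1 hrq, ← hi, ← ha] at e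
    exact ⟨(Subgroup.equivMapOfInjective _ _ Matrix.SpecialLinearGroup.toGL_injective).trans e⟩

end Cfsg.Agent.S2379
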