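import Cfsg.Statements.S2381
import Cfsg.Agent.Lib.Struct.SylowLargePrime
import Cfsg.Agent.S0245

set_option autoImplicit false
open Cfsg
open Matrix

namespace Cfsg.Agent.S2381

/-- Sylow subgroups of `Sp_{2n}(q)` for large primes. Let `F` be a field with `q` elements and `r` an odd prime with `r > n` and `r ∤ q` (so `r` does not divide the order `2^n n!` of the Weyl group). Let `d` be the multiplicative order of `q` modulo `r`, `a` the number of `i` with `1 ≤ i ≤ n` and `d ∣ 2i` (the degrees being `2, 4, …, 2n`), and `m` the `r`-part of the value at `q` of the `d`-th cyclotomic polynomial. Then every Sylow `r`-subgroup of the symplectic group `Sp_{2n}(q)` is a direct product of `a` cyclic groups of order `m`. -/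
theorem result {F : Type*} [Field F] [Fintype F] {q : ℕ} (hq : Fintype.card F = q) (n : ℕ)
    (r : ℕ) [Fact r.Prime] (hr2 : r ≠ 2) (hrn : n < r) (hrq : ¬ r ∣ q) (P : Sylow r ↥(Matrix.symplecticGroup (Fin n) F)) :
    Nonempty (↥(P : Subgroup ↥(Matrix.symplecticGroup (Fin n) F)) ≃*
      (Fin ((Finset.Icc 1 n).filter (fun i => orderOf (q : ZMod r) ∣ 2 * i)).card →
        Multiplicative (ZMod (r ^ padicValNat r ((Polynomial.cyclotomic (orderOf (q : ZMod r)) ℤ).eval (q : ℤ)).natAbs)))) := by
  classical
  have hr : r.Prime := Fact.out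
  have hq1 : 1 < q := hq ▸ Fintype.one_lt_card
  set i := orderOf (q : ZMod r) with hi
  have hi0 : 0 < i := Cfsg.Agent.Struct.SylowLargePrime.order_pos hrq
  set a := padicValNat r (q ^ i - 1) with ha
  set C := ((Finset.Icc 1 n).filter (fun j => i ∣ 2 * j)).card with hC
  rw [Cfsg.Agent.Struct.SylowLargePrime.val_cyclotomic hq1 hrq, ← hi, ← ha]
  have hSp : (Nat.card (Matrix.symplecticGroup (Fin n) F)).factorization r = C * a := by
    have hpos : ∀ j, q ^ (2 * (j + 1)) - 1 ≠ 0 := fun j => (Nat.sub_pos_of_lt (Nat.one_lt_pow (by omega) hq1)).ne'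
    rw [Cfsg.Agent.S0245.result hq n, Nat.factorization_mul (pow_ne_zero _ (by omega)) (Finset.prod_ne_zero_iff.2 fun j _ => hpos j),
      Finsupp.coe_add, Pi.add_apply, Nat.factorization_eq_zero_of_not_dvd (fun h => hrq (hr.dvd_of_dvd_pow h)), zero_add,
      Nat.factorization_prod_apply fun j _ => hpos j]
    have hterm : ∀ j ∈ Finset.range n, (q ^ (2 * (j + 1)) - 1).factorization r = if i ∣ 2 * (j + 1) then a else 0 := by
      intro j hj
      rw [Finset.mem_range] at hj
      rw [Nat.factorization_def _ hr]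
      split_ifs with h
      · obtain ⟨s, hs⟩ := h
        rw [hs]
        refine Cfsg.Agent.Struct.SylowLargePrime.val_pow_mul hq1 hrq s fun hrs => ?_
        have h1 : r ∣ 2 * (j + 1) := hs ▸ Dvd.dvd.mul_left hrs i
        rcases hr.dvd_mul.1 h1 with h2 | h2
        · exact hr2 ((Nat.prime_dvd_prime_iff_eq hr Nat.prime_two).1 h2)
        · have := Nat.le_of_dvd (by omega) h2
          omega
      · exact padicValNat.eq_zero_of_not_dvd fun h' => h ((Cfsg.Agent.Struct.SylowLargePrime.dvd_pow_sub_one_iff (by omega) _).1 h')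
    rw [Finset.sum_congr rfl hterm, ← Finset.sum_filter, Finset.sum_const, smul_eq_mul]
    congr 1
    refine Finset.card_bij (fun j _ => j + 1) ?_ (fun _ _ _ _ h => Nat.succ_injective h) ?_
    · intro j hj
      simp only [Finset.mem_filter, Finset.mem_range] at hj
      simp only [Finset.mem_filter, Finset.mem_Icc]
      exact ⟨⟨by omega, by omega⟩, hj.2⟩
    · intro x hx
      simp only [Finset.mem_filter, Finset.mem_Icc] at hx
      refine ⟨x - 1, ?_, by omega⟩
      simp only [Finset.mem_filter, Finset.mem_range, show x - 1 + 1 = x by omega]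
      exact ⟨by omega, hx.2⟩
  rcases Nat.even_or_odd i with hev | hodd
  · obtain ⟨j, hj⟩ := hev
    have hj0 : 0 < j := by omega
    have hCeq : C = (2 * n) / i := by
      rw [hC, show i = 2 * j by omega, Nat.mul_div_mul_left _ _ (by norm_num : 0 < 2), ← Nat.Ioc_filter_dvd_card_eq_div n j]
      congr 1
      ext x
      simp only [Finset.mem_filter, Finset.mem_Icc, Finset.mem_Ioc, Nat.mul_dvd_mul_iff_left (by norm_num : 0 < 2)]
      omega
    have hlt : (2 * n) / i < r := by
      rw [show i = 2 * j by omega, Nat.mul_div_mul_left _ _ (by norm_num : 0 < 2)]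
      exact lt_of_le_of_lt (Nat.div_le_self n j) hrn
    let φ : ↥(Matrix.symplecticGroup (Fin n) F) →* GL (Fin (2 * n)) F :=
      ((Matrix.reindexAlgEquiv F F (finSumFinEquiv.trans (finCongr (by omega : n + n = 2 * n)))).toMulEquiv.toMonoidHom.comp
        (Matrix.symplecticGroup (Fin n) F).subtype).toHomUnits
    have hφ : Function.Injective φ := fun x y h => Subtype.ext
      ((Matrix.reindexAlgEquiv F F _).injective (congrArg Units.val h))
    have hcard : Nat.card ↥((P : Subgroup ↥(Matrix.symplecticGroup (Fin n) F)).map φ) =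
        r ^ (Nat.card (GL (Fin (2 * n)) F)).factorization r := by
      rw [← Nat.card_congr (Subgroup.equivMapOfInjective _ _ hφ).toEquiv, P.card_eq_multiplicity, hSp,
        Cfsg.Agent.Struct.SylowLargePrime.factorization_card_GL hq hrq hlt, hCeq]
    obtain ⟨e⟩ := Cfsg.Agent.Struct.SylowLargePrime.sylow_equiv hq hrq hlt (Sylow.ofCard _ hcard)
    rw [Cfsg.Agent.Struct.SylowLargePrime.val_cyclotomic hq1 hrq, ← hi, ← ha, ← hCeq] at e
    exact ⟨(Subgroup.equivMapOfInjective _ _ hφ).trans e⟩
  · have hCeq : C = n / i := by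
      rw [hC, ← Nat.Ioc_filter_dvd_card_eq_div n i]
      congr 1
      ext x
      simp only [Finset.mem_filter, Finset.mem_Icc, Finset.mem_Ioc]
      constructor
      · rintro ⟨⟨h1, h2⟩, h3⟩
        exact ⟨⟨by omega, h2⟩, (Nat.coprime_two_right.2 hodd).dvd_of_dvd_mul_left h3⟩
      · rintro ⟨⟨h1, h2⟩, h3⟩
        exact ⟨⟨by omega, h2⟩, Dvd.dvd.mul_left h3 2⟩
    have hlt : n / i < r := lt_of_le_of_lt (Nat.div_le_self n i) hrn
    let ψ : GL (Fin n) F →* ↥(Matrix.symplecticGroup (Fin n) F) := MonoidHom.mk' (fun A =>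
      ⟨Matrix.fromBlocks (A : Matrix (Fin n) (Fin n) F) 0 0 ((A⁻¹ : GL (Fin n) F) : Matrix (Fin n) (Fin n) F)ᵀ, by
        rw [SymplecticGroup.mem_iff, Matrix.J, Matrix.fromBlocks_transpose, Matrix.fromBlocks_multiply, Matrix.fromBlocks_multiply]
        simp only [Matrix.transpose_transpose, Matrix.transpose_zero, Matrix.mul_zero, Matrix.zero_mul, add_zero, zero_add,
          Matrix.mul_one, Matrix.mul_neg, Matrix.neg_mul, neg_zero, Units.mul_inv]
        simp only [← Matrix.transpose_mul, Units.mul_inv, Matrix.transpose_one]⟩) (fun A B => Subtype.ext (by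
          show Matrix.fromBlocks _ _ _ _ = Matrix.fromBlocks _ _ _ _ * Matrix.fromBlocks _ _ _ _
          rw [Matrix.fromBlocks_multiply]
          simp only [Matrix.mul_zero, Matrix.zero_mul, add_zero, zero_add, _root_.mul_inv_rev, Units.val_mul, Matrix.transpose_mul]))
    have hψ : Function.Injective ψ := fun A B h => Units.ext (Matrix.fromBlocks_inj.1 (congrArg Subtype.val h)).1
    let Q : Sylow r (GL (Fin n) F) := default
    have hcard : Nat.card ↥((Q : Subgroup (GL (Fin n) F)).map ψ) =
        r ^ (Nat.card (Matrix.symplecticGroup (Fin n) F)).factorization r := by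
      rw [← Nat.card_congr (Subgroup.equivMapOfInjective _ _ hψ).toEquiv, Q.card_eq_multiplicity, hSp,
        Cfsg.Agent.Struct.SylowLargePrime.factorization_card_GL hq hrq hlt, hCeq]
    obtain ⟨e⟩ := Cfsg.Agent.Struct.SylowLargePrime.sylow_equiv hq hrq hlt Q
    rw [Cfsg.Agent.Struct.SylowLargePrime.val_cyclotomic hq1 hrq, ← hi, ← ha, ← hCeq] at e
    exact ⟨((P.equiv (Sylow.ofCard _ hcard)).trans (Subgroup.equivMapOfInjective _ _ hψ).symm).trans e⟩

end Cfsg.Agent.S2381
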