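import Cfsg.Statements.S2388
import Cfsg.Agent.Lib.Struct.SemisimpleEnd

set_option autoImplicit false
open Cfsg
open Matrix

namespace Cfsg.Agent.S2388

theorem det_mat {F : Type*} [Field F] [Finite F] {p : ℕ} [Fact p.Prime] [CharP F p] {n : ℕ} (hn : 0 < n) (A : Matrix (Fin n) (Fin n) F) {a : ℕ}
    (ha : ¬ p ∣ a) (hA : A ^ a = 1) {c : F} (hc : c ≠ 0) :
    ∃ D : GL (Fin n) F, (D : Matrix (Fin n) (Fin n) F).det = c ∧ (D : Matrix (Fin n) (Fin n) F) * A = A * D := by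
  haveI : Nonempty (Fin n) := ⟨⟨0, hn⟩⟩
  obtain ⟨D, hD, hDc⟩ := Cfsg.Agent.Struct.SemisimpleEnd.exists_commute_det (Matrix.toLinAlgEquiv' A)
    (m := a) (fun e => ha ((CharP.cast_eq_zero_iff F p _).1 e)) (by rw [← map_pow, hA, map_one]) (c := c)
  have hd : (LinearMap.toMatrix' D).det = c := by rw [LinearMap.det_toMatrix', hD]
  refine ⟨Matrix.GeneralLinearGroup.mkOfDetNeZero (LinearMap.toMatrix' D) (hd.symm ▸ hc), hd, ?_⟩
  show LinearMap.toMatrix' D * A = A * LinearMap.toMatrix' D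
  refine Matrix.toLin'.injective (LinearMap.ext fun v => ?_)
  simp only [Matrix.toLin'_mul, Matrix.toLin'_toMatrix', LinearMap.comp_apply]
  exact hDc v

theorem conj_mat {F : Type*} [Field F] {p : ℕ} [Fact p.Prime] [CharP F p] {n : ℕ} (A B : Matrix (Fin n) (Fin n) F) {a b : ℕ}
    (ha : ¬ p ∣ a) (hA : A ^ a = 1) (hb : ¬ p ∣ b) (hB : B ^ b = 1) (h : A.charpoly = B.charpoly) :
    ∃ g : GL (Fin n) F, (g : Matrix (Fin n) (Fin n) F) * A = B * g := by
  have key : ∀ {m : ℕ}, ¬ p ∣ m → (m : F) ≠ 0 := fun hm e => hm ((CharP.cast_eq_zero_iff F p _).1 e)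
  obtain ⟨e, he⟩ := Cfsg.Agent.Struct.SemisimpleEnd.exists_conj _ (Matrix.toLinAlgEquiv' A) (Matrix.toLinAlgEquiv' B)
    rfl (key ha) (by rw [← map_pow, hA, map_one]) (key hb) (by rw [← map_pow, hB, map_one])
    ((Matrix.charpoly_toLin' A).trans (h.trans (Matrix.charpoly_toLin' B).symm))
  let g : GL (Fin n) F := ⟨LinearMap.toMatrix' e.toLinearMap, LinearMap.toMatrix' e.symm.toLinearMap,
    by rw [← LinearMap.toMatrix'_comp]; simp [LinearMap.toMatrix'_id],
    by rw [← LinearMap.toMatrix'_comp]; simp [LinearMap.toMatrix'_id]⟩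
  refine ⟨g, Matrix.toLin'.injective (LinearMap.ext fun v => ?_)⟩
  simp only [g, Matrix.toLin'_mul, Matrix.toLin'_toMatrix', LinearMap.comp_apply]
  exact he v


/-- In `SL_n(q)`, `q` a power of the prime `p`, two elements of order prime to `p` with the same characteristic polynomial are conjugate in `SL_n(q)` (not merely in `GL_n`). -/
theorem result {F : Type*} [Field F] [Fintype F] (p : ℕ) [Fact p.Prime] [CharP F p] (n : ℕ)
    (g h : Matrix.SpecialLinearGroup (Fin n) F) (hg : (orderOf g).Coprime p) (hh : (orderOf h).Coprime p)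
    (hc : (g : Matrix (Fin n) (Fin n) F).charpoly = (h : Matrix (Fin n) (Fin n) F).charpoly) : IsConj g h := by
  classical
  rcases Nat.eq_zero_or_pos n with rfl | hn
  · rw [Subsingleton.elim g h]
  have hp : ∀ u : Matrix.SpecialLinearGroup (Fin n) F, (orderOf u).Coprime p → ¬ p ∣ orderOf u ∧ (u : Matrix (Fin n) (Fin n) F) ^ orderOf u = 1 :=
    fun u hu => ⟨(Fact.out : p.Prime).coprime_iff_not_dvd.1 hu.symm, by
      rw [← Matrix.SpecialLinearGroup.coe_pow, pow_orderOf_eq_one, Matrix.SpecialLinearGroup.coe_one]⟩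
  obtain ⟨e, he⟩ := conj_mat (p := p) (g : Matrix (Fin n) (Fin n) F) h (hp g hg).1 (hp g hg).2 (hp h hh).1 (hp h hh).2 hc
  have he0 : (e : Matrix (Fin n) (Fin n) F).det ≠ 0 := ((Matrix.isUnit_iff_isUnit_det _).1 e.isUnit).ne_zero
  obtain ⟨D, hD, hDc⟩ := det_mat hn (g : Matrix (Fin n) (Fin n) F) (hp g hg).1 (hp g hg).2 (inv_ne_zero he0)
  rw [isConj_iff]
  let c : Matrix.SpecialLinearGroup (Fin n) F :=
    ⟨(e : Matrix (Fin n) (Fin n) F) * D, by rw [det_mul, hD, mul_inv_cancel₀ he0]⟩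
  refine ⟨c, ?_⟩
  rw [mul_inv_eq_iff_eq_mul]
  refine Subtype.ext ?_
  show (e : Matrix (Fin n) (Fin n) F) * D * g = h * ((e : Matrix (Fin n) (Fin n) F) * D)
  rw [Matrix.mul_assoc, hDc, ← Matrix.mul_assoc, he, Matrix.mul_assoc]

end Cfsg.Agent.S2388
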