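import Cfsg.Statements.S2387
import Cfsg.Agent.Lib.Struct.SemisimpleEnd

set_option autoImplicit false
open scoped MatrixGroups
open Cfsg
open Matrix Polynomial

namespace Cfsg.Agent.S2387

theorem conj_mat {F : Type*} [Field F] {p : ℕ} [Fact p.Prime] [CharP F p] {n : ℕ} (A B : Matrix (Fin n) (Fin n) F) {a b : ℕ}
    (ha : ¬ p ∣ a) (hA : A ^ a = 1) (hb : ¬ p ∣ b) (hB : B ^ b = 1) (h : A.charpoly = B.charpoly) :
    ∃ g : GL (Fin n) F, (g : Matrix (Fin n) (Fin n) F) * A = B * g := by
  have key : ∀ {m : ℕ}, ¬ p ∣ m → (m : F) ≠ 0 := fun hm e => hm ((CharP.cast_eq_zero_iff F p _).1 e)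
  obtain ⟨e, he⟩ := Cfsg.Agent.Struct.SemisimpleEnd.exists_conj _ (Matrix.toLinAlgEquiv' A) (Matrix.toLinAlgEquiv' B)
    rfl (key ha) (by rw [← map_pow, hA, map_one]) (key hb) (by rw [← map_pow, hB, map_one])
    ((Matrix.charpoly_toLin' A).trans (h.trans (Matrix.charpoly_toLin' B).symm))
  let g : GL (Fin n) F := ⟨LinearMap.toMatrix' e.toLinearMap, LinearMap.toMatrix' e.symm.toLinearMap,
    by rw [← LinearMap.toMatrix'_comp]; simp [LinearMap.toMatrix'_id],
    by rw [← LinearMap.toMatrix'_comp]; simp [LinearMap.toMatrix'_id]⟩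
  refine ⟨g, Matrix.toLin'.injective (LinearMap.ext fun v => ?_)⟩
  simp only [g, Matrix.toLin'_mul, Matrix.toLin'_toMatrix', LinearMap.comp_apply]
  exact he v


/-- In `GL_n(q)` with `n ≥ 1`, `q` a power of the prime `p`, the number of conjugacy classes of elements of order prime to `p` (diagonalisable over the algebraic closure; determined by the characteristic polynomial) is `(q - 1) q^(n-1)`. -/
theorem result {F : Type*} [Field F] [Fintype F] {q : ℕ} (hq : Fintype.card F = q) (p : ℕ) [Fact p.Prime] [CharP F p] (n : ℕ) (hn : 1 ≤ n) :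
    Nat.card {c : ConjClasses (GL (Fin n) F) // ∃ g : GL (Fin n) F, ConjClasses.mk g = c ∧ (orderOf g).Coprime p} = (q - 1) * q ^ (n - 1) := by
  classical
  have hp : p.Prime := Fact.out
  obtain ⟨k, rfl⟩ : ∃ k, n = k + 1 := ⟨n - 1, by omega⟩
  let V := {v : Fin (k + 1) → F // v 0 ≠ 0}
  let S := {c : ConjClasses (GL (Fin (k + 1)) F) // ∃ g : GL (Fin (k + 1)) F, ConjClasses.mk g = c ∧ (orderOf g).Coprime p}
  let T := {P : F[X] // P.Monic ∧ P.natDegree = k + 1 ∧ P.coeff 0 ≠ 0}
  -- classes and characteristic polynomials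
  let cp : ConjClasses (GL (Fin (k + 1)) F) → F[X] := Quotient.lift (fun g : GL (Fin (k + 1)) F => (g : Matrix (Fin (k + 1)) (Fin (k + 1)) F).charpoly)
    (fun a b hab => by
      obtain ⟨u, rfl⟩ := isConj_iff.1 hab
      rw [Units.val_mul, Units.val_mul, Matrix.charpoly_mul_comm, ← Matrix.mul_assoc, Units.inv_mul, Matrix.one_mul])
  have hT : ∀ g : GL (Fin (k + 1)) F, (g : Matrix (Fin (k + 1)) (Fin (k + 1)) F).charpoly.Monic ∧
      (g : Matrix (Fin (k + 1)) (Fin (k + 1)) F).charpoly.natDegree = k + 1 ∧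
      (g : Matrix (Fin (k + 1)) (Fin (k + 1)) F).charpoly.coeff 0 ≠ 0 := fun g => by
    refine ⟨Matrix.charpoly_monic _, by rw [Matrix.charpoly_natDegree_eq_dim, Fintype.card_fin], fun e => ?_⟩
    have := ((Matrix.isUnit_iff_isUnit_det _).1 g.isUnit).ne_zero
    rw [Matrix.det_eq_sign_charpoly_coeff, e, mul_zero] at this
    exact this rfl
  let f : S → T := fun c => ⟨cp c.1, by
    obtain ⟨g, hg, -⟩ := c.2
    rw [← hg]
    exact hT g⟩
  have hf : Function.Bijective f := by
    constructor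
    · rintro ⟨c, g, rfl, hg⟩ ⟨c', h, rfl, hh⟩ he
      obtain ⟨e, he'⟩ := conj_mat (p := p) (g : Matrix (Fin (k + 1)) (Fin (k + 1)) F) h
        (hp.coprime_iff_not_dvd.1 hg.symm) (by rw [← Units.val_pow_eq_pow_val, pow_orderOf_eq_one, Units.val_one])
        (hp.coprime_iff_not_dvd.1 hh.symm) (by rw [← Units.val_pow_eq_pow_val, pow_orderOf_eq_one, Units.val_one])
        (congrArg Subtype.val he)
      refine Subtype.ext (ConjClasses.mk_eq_mk_iff_isConj.2 (isConj_iff.2 ⟨e, ?_⟩))
      rw [mul_inv_eq_iff_eq_mul]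
      exact Units.ext he'
    · rintro ⟨P, hPm, hPd, hP0⟩
      let pb := AdjoinRoot.powerBasis hPm.ne_zero
      have hdim : pb.dim = k + 1 := by rw [AdjoinRoot.powerBasis_dim]; exact hPd
      let C := Matrix.reindexAlgEquiv F F (finCongr hdim) (Algebra.leftMulMatrix pb.basis pb.gen)
      have hC : C.charpoly = P := by
        rw [show C = Matrix.reindex (finCongr hdim) (finCongr hdim) (Algebra.leftMulMatrix pb.basis pb.gen) from rfl,
          Matrix.charpoly_reindex, charpoly_leftMulMatrix]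
        exact AdjoinRoot.minpoly_powerBasis_gen_of_monic hPm
      have hCd : C.det ≠ 0 := by
        rw [Matrix.det_eq_sign_charpoly_coeff, hC]
        exact mul_ne_zero (pow_ne_zero _ (neg_ne_zero.2 one_ne_zero)) hP0
      let g₀ := Matrix.GeneralLinearGroup.mkOfDetNeZero C hCd
      obtain ⟨a, m, hm, hgm⟩ := Nat.exists_eq_pow_mul_and_not_dvd (orderOf_pos g₀).ne' p hp.ne_one
      obtain ⟨s, -, hs⟩ := FiniteField.card F p
      set g := g₀ ^ q ^ a with hgd
      have hiter : ∀ j : ℕ, (C ^ q ^ j).charpoly = P := by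
        intro j
        induction j with
        | zero => rw [pow_zero, pow_one, hC]
        | succ j ih => rw [pow_succ, pow_mul, ← hq, FiniteField.Matrix.charpoly_pow_card, hq, ih]
      have hgo : (orderOf g).Coprime p := by
        refine (hp.coprime_iff_not_dvd.2 fun hd => hm ?_).symm
        refine hd.trans (orderOf_dvd_of_pow_eq_one ?_)
        rw [hgd, ← pow_mul, ← orderOf_dvd_iff_pow_eq_one, hgm]
        refine Nat.mul_dvd_mul_right ?_ m
        rw [← hq, hs, ← pow_mul]
        exact pow_dvd_pow p (Nat.le_mul_of_pos_left a s.pos)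
      refine ⟨⟨ConjClasses.mk g, g, rfl, hgo⟩, Subtype.ext ?_⟩
      show (g : Matrix (Fin (k + 1)) (Fin (k + 1)) F).charpoly = P
      rw [hgd, Units.val_pow_eq_pow_val]
      exact hiter a
  -- count the polynomials
  let e : T ≃ V :=
    { toFun := fun P => ⟨fun i => P.1.coeff i, P.2.2.2⟩
      invFun := fun v => ⟨X ^ (k + 1) + ∑ i : Fin (k + 1), C (v.1 i) * X ^ (i : ℕ), by
        have hd : (∑ i : Fin (k + 1), C (v.1 i) * X ^ (i : ℕ)).degree < ((k + 1 : ℕ) : WithBot ℕ) :=
          Polynomial.degree_sum_fin_lt _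
        refine ⟨monic_X_pow_add hd, ?_, ?_⟩
        · refine natDegree_eq_of_degree_eq_some ?_
          rw [degree_add_eq_left_of_degree_lt (by rwa [degree_X_pow]), degree_X_pow]
        · rw [coeff_add, coeff_X_pow, if_neg (by omega), zero_add, finsetSum_coeff, Finset.sum_eq_single 0]
          · simpa using v.2
          · intro i _ hi
            rw [coeff_C_mul, coeff_X_pow, if_neg (fun h => hi (Fin.ext h.symm)), mul_zero]
          · simp⟩
      left_inv := fun P => Subtype.ext (by
        obtain ⟨P, hm, hd, h0⟩ := P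
        show X ^ (k + 1) + ∑ i : Fin (k + 1), C (P.coeff i) * X ^ (i : ℕ) = P
        conv_rhs => rw [hm.as_sum, hd]
        rw [Finset.sum_range])
      right_inv := fun v => Subtype.ext (funext fun j => by
        show (X ^ (k + 1) + ∑ i : Fin (k + 1), C (v.1 i) * X ^ (i : ℕ)).coeff (j : ℕ) = v.1 j
        rw [coeff_add, coeff_X_pow, if_neg (by omega), zero_add, finsetSum_coeff, Finset.sum_eq_single j]
        · simp
        · intro i _ hi
          rw [coeff_C_mul, coeff_X_pow, if_neg (fun h => hi (Fin.ext h.symm)), mul_zero]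
        · simp) }
  rw [Nat.card_eq_of_bijective f hf, Nat.card_congr e]
  let e2 : V ≃ {a : F // a ≠ 0} × (Fin k → F) :=
    { toFun := fun v => (⟨v.1 0, v.2⟩, fun i => v.1 i.succ)
      invFun := fun w => ⟨Fin.cons w.1.1 w.2, by simpa using w.1.2⟩
      left_inv := fun v => Subtype.ext (Fin.cons_self_tail v.1)
      right_inv := fun w => by simp }
  rw [Nat.card_congr e2, Nat.card_prod, Nat.card_eq_fintype_card, Nat.card_eq_fintype_card,
    Fintype.card_subtype_compl, Fintype.card_subtype_eq, Fintype.card_fun, Fintype.card_fin, hq]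
  rw [Nat.add_sub_cancel]

end Cfsg.Agent.S2387
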