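import Cfsg.Statements.S2391
import Mathlib

set_option autoImplicit false
open Cfsg
open Matrix

namespace Cfsg.Agent.S2391

/-- The Borel–Tits property of `SL_n(q)` in flag form: for a field `F` of characteristic `p` with finitely many elements and a non-trivial `p`-subgroup `U` of `SL_n(F)`, there is a flag `0 = V₀ < V₁ < ⋯ < V_{k+1} = F^n` with at least one proper non-zero member such that every element of the normaliser of `U` maps each `V_i` onto itself and every element of `U` acts trivially on each quotient `V_{i+1}/V_i` (so the normaliser lies in the parabolic subgroup of the flag and `U` in its unipotent radical). -/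
theorem result {F : Type*} [Field F] [Fintype F] (p : ℕ) [Fact p.Prime] [CharP F p] (n : ℕ)
    (U : Subgroup (Matrix.SpecialLinearGroup (Fin n) F)) (hU : IsPGroup p ↥U) (hne : U ≠ ⊥) :
    ∃ (k : ℕ) (V : Fin (k + 2) → Submodule F (Fin n → F)), 1 ≤ k ∧ StrictMono V ∧ V 0 = ⊥ ∧ V (Fin.last (k + 1)) = ⊤ ∧
      (∀ g ∈ Subgroup.normalizer (U : Set (Matrix.SpecialLinearGroup (Fin n) F)), ∀ i, (V i).map (Matrix.mulVecLin (g : Matrix (Fin n) (Fin n) F)) = V i) ∧
      (∀ u ∈ U, ∀ i : Fin (k + 1), ∀ v ∈ V i.succ, (u : Matrix (Fin n) (Fin n) F).mulVec v - v ∈ V (Fin.castSucc i)) := by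
  classical
  let SLn := Matrix.SpecialLinearGroup (Fin n) F
  let step : Submodule F (Fin n → F) → Submodule F (Fin n → F) := fun X =>
    ⨅ u ∈ U, X.comap (Matrix.mulVecLin ((u : SLn) : Matrix (Fin n) (Fin n) F) - 1)
  have hstep : ∀ X v, v ∈ step X ↔ ∀ u ∈ U, (u : Matrix (Fin n) (Fin n) F).mulVec v - v ∈ X := by
    intro X v
    simp [step, Submodule.mem_iInf]
  let W : ℕ → Submodule F (Fin n → F) := fun i => step^[i] ⊥
  have hW0 : W 0 = ⊥ := rfl
  have hWs : ∀ i, W (i + 1) = step (W i) := fun i => Function.iterate_succ_apply' step i ⊥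
  have hmap : ∀ i, ∀ u ∈ U, ∀ v ∈ W i, (u : Matrix (Fin n) (Fin n) F).mulVec v ∈ W i := by
    intro i
    induction i with
    | zero => intro u _ v hv; rw [hW0, Submodule.mem_bot] at hv ⊢; rw [hv, mulVec_zero]
    | succ i ih =>
      intro u hu v hv
      rw [hWs, hstep] at hv ⊢
      intro u' hu'
      have h := (W i).sub_mem (hv (u' * u) (mul_mem hu' hu)) (hv u hu)
      rwa [Matrix.SpecialLinearGroup.coe_mul, ← mulVec_mulVec, sub_sub_sub_cancel_right] at h
  have hle : ∀ i, W i ≤ W (i + 1) := fun i v hv => by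
    rw [hWs, hstep]
    exact fun u hu => (W i).sub_mem (hmap i u hu v hv) hv
  have hlt : ∀ i, W i ≠ ⊤ → W i < W (i + 1) := by
    intro i hi
    refine lt_of_le_of_ne (hle i) fun e => ?_
    let Q := (Fin n → F) ⧸ W i
    let f : U → Q →ₗ[F] Q := fun u =>
      (W i).mapQ (W i) (Matrix.mulVecLin ((u : SLn) : Matrix (Fin n) (Fin n) F)) (fun v hv => hmap i u u.2 v hv)
    have hf : ∀ (u : U) (v : Fin n → F), f u (Submodule.Quotient.mk v) =
        Submodule.Quotient.mk (((u : SLn) : Matrix (Fin n) (Fin n) F).mulVec v) := fun u v => rfl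
    letI : MulAction U Q :=
      { smul := fun u q => f u q
        one_smul := fun q => by
          obtain ⟨v, rfl⟩ := Submodule.Quotient.mk_surjective _ q
          show f 1 _ = _
          rw [hf, OneMemClass.coe_one, Matrix.SpecialLinearGroup.coe_one, one_mulVec]
        mul_smul := fun a b q => by
          obtain ⟨v, rfl⟩ := Submodule.Quotient.mk_surjective _ q
          show f (a * b) _ = f a (f b _)
          rw [hf, hf, hf, Subgroup.coe_mul, Matrix.SpecialLinearGroup.coe_mul, mulVec_mulVec] }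
    haveI : Nontrivial Q := Submodule.Quotient.nontrivial_iff.2 hi
    haveI : Finite Q := Finite.of_surjective _ (Submodule.Quotient.mk_surjective (W i))
    have hdvd : p ∣ Nat.card Q := by
      letI : Fintype Q := Fintype.ofFinite Q
      obtain ⟨k, hk⟩ := FiniteField.card F p
      rw [Nat.card_eq_fintype_card, Module.card_eq_pow_finrank (K := F) (V := Q), hk.2, ← pow_mul]
      exact dvd_pow_self p (Nat.mul_ne_zero k.ne_zero Module.finrank_pos.ne')
    have h0 : (0 : Q) ∈ MulAction.fixedPoints U Q := fun u => (f u).map_zero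
    obtain ⟨q, hq, hq0⟩ := hU.exists_fixed_point_of_prime_dvd_card_of_fixed_point Q hdvd h0
    obtain ⟨v, rfl⟩ := Submodule.Quotient.mk_surjective _ q
    refine hq0 ?_
    symm
    rw [Submodule.Quotient.mk_eq_zero, e, hWs, hstep]
    intro u hu
    rw [← Submodule.Quotient.eq]
    exact hq ⟨u, hu⟩
  have hdim : ∀ i, W i ≠ ⊤ → i ≤ Module.finrank F (W i) := by
    intro i
    induction i with
    | zero => intro _; exact Nat.zero_le _
    | succ i ih =>
      intro hi
      have hi' : W i ≠ ⊤ := fun e => hi (top_le_iff.1 (e ▸ hle i))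
      have := Submodule.finrank_lt_finrank_of_lt (hlt i hi')
      have := ih hi'
      omega
  have hex : ∃ i, W i = ⊤ := ⟨n + 1, by
    by_contra h
    have h1 := hdim _ h
    have h2 := Submodule.finrank_le (W (n + 1))
    rw [Module.finrank_fin_fun] at h2
    omega⟩
  obtain ⟨u₀, hu₀, hu₀1⟩ := SetLike.exists_of_lt (bot_lt_iff_ne_bot.2 hne)
  have hm1 : W 1 ≠ ⊤ := fun h => hu₀1 (by
    rw [Subgroup.mem_bot]
    refine Subtype.ext (Matrix.toLin'.injective (LinearMap.ext fun v => ?_))
    have this : v ∈ step (W 0) := by rw [← hWs 0, h]; exact Submodule.mem_top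
    rw [hstep, hW0] at this
    have := this u₀ hu₀
    rw [Submodule.mem_bot, sub_eq_zero] at this
    simpa using this)
  set m := Nat.find hex with hm
  have hmspec := Nat.find_spec hex
  have hm2 : 2 ≤ m := by
    by_contra h
    rcases (show m = 0 ∨ m = 1 by omega) with h' | h'
    · rw [← hm, h'] at hmspec
      exact hm1 (top_le_iff.1 (hmspec ▸ hle 0))
    · rw [← hm, h'] at hmspec
      exact hm1 hmspec
  obtain ⟨k, hk⟩ : ∃ k, m = k + 1 := ⟨m - 1, by omega⟩
  refine ⟨k, fun i => W i, by omega, ?_, rfl, ?_, ?_, ?_⟩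
  · exact Fin.strictMono_iff_lt_succ.2 fun i => hlt i (Nat.find_min hex (by have := i.2; omega))
  · show W (k + 1) = ⊤
    rw [← hk]; exact hmspec
  · have key : ∀ g ∈ Subgroup.normalizer (U : Set SLn), ∀ i, ∀ v ∈ W i, ((g : SLn) : Matrix (Fin n) (Fin n) F).mulVec v ∈ W i := by
      intro g hg i
      induction i with
      | zero => intro v hv; rw [hW0, Submodule.mem_bot] at hv ⊢; rw [hv, mulVec_zero]
      | succ i ih =>
        intro v hv
        rw [hWs, hstep] at hv ⊢
        intro u hu
        have h1 : g⁻¹ * u * g ∈ U := (Subgroup.mem_normalizer_iff''.1 hg u).1 hu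
        have h2 := ih _ (hv _ h1)
        rwa [mulVec_sub, mulVec_mulVec, ← Matrix.SpecialLinearGroup.coe_mul,
          show g * (g⁻¹ * u * g) = u * g by rw [mul_assoc g⁻¹, mul_inv_cancel_left], Matrix.SpecialLinearGroup.coe_mul, ← mulVec_mulVec] at h2
    intro g hg i
    refine le_antisymm ?_ fun v hv => ⟨((g⁻¹ : SLn) : Matrix (Fin n) (Fin n) F).mulVec v, key _ (inv_mem hg) _ v hv, ?_⟩
    · rintro _ ⟨v, hv, rfl⟩
      exact key g hg _ v hv
    · rw [Matrix.mulVecLin_apply, mulVec_mulVec, ← Matrix.SpecialLinearGroup.coe_mul, mul_inv_cancel,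
        Matrix.SpecialLinearGroup.coe_one, one_mulVec]
  · intro u hu i v hv
    have h : v ∈ W ((i : ℕ) + 1) := hv
    rw [hWs, hstep] at h
    exact h u hu

end Cfsg.Agent.S2391
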