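import Cfsg.Statements.S2394
import Mathlib.LinearAlgebra.SymplecticGroup
import Mathlib.LinearAlgebra.Eigenspace.Triangularizable
import Mathlib.FieldTheory.IsAlgClosed.AlgebraicClosure
import Mathlib.FieldTheory.Finite.Basic

set_option autoImplicit false
open scoped MatrixGroups
open Cfsg

namespace Cfsg.Agent.S2394

open Matrix

variable {F : Type*} [Field F] {n : ℕ}

/-- A matrix made of two-by-two pieces. -/
def blk (m : Fin n → Matrix (Fin 2) (Fin 2) F) : Matrix (Fin n ⊕ Fin n) (Fin n ⊕ Fin n) F :=
  fromBlocks (diagonal fun i => m i 0 0) (diagonal fun i => m i 0 1) (diagonal fun i => m i 1 0) (diagonal fun i => m i 1 1)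

theorem blk_mul (m m' : Fin n → Matrix (Fin 2) (Fin 2) F) : blk m * blk m' = blk fun i => m i * m' i := by
  simp [blk, fromBlocks_multiply, Matrix.mul_apply, Fin.sum_univ_two]

theorem blk_one : blk (fun _ : Fin n => (1 : Matrix (Fin 2) (Fin 2) F)) = 1 := by
  simp [blk, fromBlocks_one]

theorem blk_injective {m m' : Fin n → Matrix (Fin 2) (Fin 2) F} (h : blk m = blk m') : m = m' := by
  rw [blk, blk, fromBlocks_inj] at h
  funext i
  ext a b
  fin_cases a <;> fin_cases b
  · simpa using congrFun (congrFun h.1 i) i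
  · simpa using congrFun (congrFun h.2.1 i) i
  · simpa using congrFun (congrFun h.2.2.1 i) i
  · simpa using congrFun (congrFun h.2.2.2 i) i

theorem blk_mem (m : Fin n → Matrix (Fin 2) (Fin 2) F) (h : ∀ i, (m i).det = 1) :
    blk m ∈ Matrix.symplecticGroup (Fin n) F := by
  rw [SymplecticGroup.mem_iff, Matrix.J, blk, fromBlocks_transpose, fromBlocks_multiply, fromBlocks_multiply]
  simp only [diagonal_transpose, Matrix.mul_zero, Matrix.mul_one, zero_add, add_zero, Matrix.mul_neg, Matrix.neg_mul,
    diagonal_mul_diagonal]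
  congr 1 <;>
    · ext a b
      rcases eq_or_ne a b with rfl | hab
      · have := h a
        rw [det_fin_two] at this
        simp only [Matrix.add_apply, Matrix.neg_apply, diagonal_apply_eq, Matrix.one_apply_eq, Matrix.zero_apply]
        first
        | linear_combination this
        | linear_combination -this
        | linear_combination (0 : F) * this
      · simp [diagonal_apply_ne _ hab, Matrix.one_apply_ne hab]

/-- A permutation of the pieces. -/
def pm (σ : Equiv.Perm (Fin n)) : Matrix (Fin n ⊕ Fin n) (Fin n ⊕ Fin n) F :=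
  (1 : Matrix (Fin n ⊕ Fin n) (Fin n ⊕ Fin n) F).submatrix (Equiv.sumCongr σ σ) id

theorem pm_mul (σ : Equiv.Perm (Fin n)) (A : Matrix (Fin n ⊕ Fin n) (Fin n ⊕ Fin n) F) :
    pm σ * A = A.submatrix (Equiv.sumCongr σ σ) id := by
  ext i j
  simp [pm, Matrix.mul_apply, Matrix.one_apply]

theorem mul_pm (σ : Equiv.Perm (Fin n)) (A : Matrix (Fin n ⊕ Fin n) (Fin n ⊕ Fin n) F) :
    A * pm σ = A.submatrix id (Equiv.sumCongr σ σ).symm := by
  ext i j
  simp only [pm, Matrix.mul_apply, Matrix.submatrix_apply, id, Matrix.one_apply, mul_ite, mul_one, mul_zero]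
  rw [Finset.sum_eq_single ((Equiv.sumCongr σ σ).symm j)]
  · rw [if_pos (Equiv.apply_symm_apply _ _)]
  · intro b _ hb
    exact if_neg fun e => hb (by rw [← e, Equiv.symm_apply_apply])
  · simp

theorem pm_blk (σ : Equiv.Perm (Fin n)) (m : Fin n → Matrix (Fin 2) (Fin 2) F) :
    pm σ * blk m = blk (fun i => m (σ i)) * pm σ := by
  rw [pm_mul, mul_pm]
  ext i j
  rcases i with i | i <;> rcases j with j | j <;>
    simp only [blk, Matrix.submatrix_apply, id, Equiv.sumCongr_apply, Equiv.sumCongr_symm, Sum.map_inl, Sum.map_inr,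
      fromBlocks_apply₁₁, fromBlocks_apply₁₂, fromBlocks_apply₂₁, fromBlocks_apply₂₂, Matrix.diagonal_apply,
      Equiv.eq_symm_apply]

theorem pm_mem (σ : Equiv.Perm (Fin n)) : (pm σ : Matrix _ _ F) ∈ Matrix.symplecticGroup (Fin n) F := by
  rw [SymplecticGroup.mem_iff, pm_mul]
  ext i j
  simp only [pm, Matrix.mul_apply, Matrix.submatrix_apply, id, Matrix.transpose_apply, Matrix.one_apply, mul_ite, mul_one,
    mul_zero, Finset.sum_ite_eq, Finset.mem_univ, if_true]
  rcases i with i | i <;> rcases j with j | j <;> simp [Matrix.J, Matrix.one_apply]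

/-- An element of order prime to the characteristic, not squaring to one, and an element inverting it. -/
theorem exists_sl_two [Fintype F] : ∃ (x j : Matrix (Fin 2) (Fin 2) F) (x' : Matrix (Fin 2) (Fin 2) F) (m : ℕ),
    x.det = 1 ∧ j.det = 1 ∧ x'.det = 1 ∧ x * x' = 1 ∧ x' * x = 1 ∧ j * x = x' * j ∧ j * x' = x * j ∧ x * x ≠ 1 ∧
      x ^ m = 1 ∧ (m : F) ≠ 0 := by
  classical
  by_cases h : ∃ a : F, a ≠ 0 ∧ a * a ≠ a⁻¹ * a
  · by_cases h' : ∃ a : F, a ≠ 0 ∧ a * a ≠ 1
    · obtain ⟨a, ha, ha2⟩ := h'
      refine ⟨!![a, 0; 0, a⁻¹], !![0, 1; -1, 0], !![a⁻¹, 0; 0, a], Fintype.card F - 1, ?_, ?_, ?_, ?_, ?_, ?_, ?_, ?_, ?_, ?_⟩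
      · simp [det_fin_two_of, ha]
      · simp [det_fin_two_of]
      · simp [det_fin_two_of, ha]
      · simp [Matrix.mul_fin_two, ha, Matrix.one_fin_two]
      · simp [Matrix.mul_fin_two, ha, Matrix.one_fin_two]
      · simp [Matrix.mul_fin_two]
      · simp [Matrix.mul_fin_two]
      · intro e
        have := congrFun (congrFun e 0) 0
        simp [Matrix.mul_fin_two] at this
        exact ha2 this
      · rw [show (!![a, 0; 0, a⁻¹] : Matrix (Fin 2) (Fin 2) F) = diagonal ![a, a⁻¹] by
          ext i j; fin_cases i <;> fin_cases j <;> simp, diagonal_pow, ← diagonal_one]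
        congr 1
        funext i
        fin_cases i <;> simp [FiniteField.pow_card_sub_one_eq_one a ha]
      · rw [Nat.cast_sub Fintype.card_pos, FiniteField.cast_card_eq_zero]
        simp
    · push Not at h'
      obtain ⟨a, ha, ha2⟩ := h
      rw [inv_mul_cancel₀ ha] at ha2
      exact absurd (h' a ha) ha2
  push Not at h
  have hsq : ∀ a : F, a ≠ 0 → a * a = 1 := fun a ha => (h a ha).trans (inv_mul_cancel₀ ha)
  have hpm : ∀ a : F, a = 0 ∨ a = 1 ∨ a = -1 := fun a => by
    by_cases ha : a = 0
    · exact Or.inl ha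
    · exact Or.inr (mul_self_eq_one_iff.1 (hsq a ha))
  by_cases h2 : (2 : F) = 0
  · have hneg : (-1 : F) = 1 := by linear_combination -h2
    refine ⟨!![0, 1; 1, 1], !![0, 1; 1, 0], !![1, 1; 1, 0], 3, ?_, ?_, ?_, ?_, ?_, ?_, ?_, ?_, ?_, ?_⟩
    · rw [det_fin_two_of]; linear_combination -h2
    · rw [det_fin_two_of]; linear_combination -h2
    · rw [det_fin_two_of]; linear_combination -h2
    · ext i j; fin_cases i <;> fin_cases j <;> simp [Matrix.mul_apply, Fin.sum_univ_two, one_add_one_eq_two, h2]
    · ext i j; fin_cases i <;> fin_cases j <;> simp [Matrix.mul_apply, Fin.sum_univ_two, one_add_one_eq_two, h2]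
    · simp [Matrix.mul_fin_two]
    · simp [Matrix.mul_fin_two]
    · intro e
      have := congrFun (congrFun e 0) 1
      simp [Matrix.mul_fin_two] at this
    · rw [pow_succ, pow_two, Matrix.mul_fin_two, Matrix.mul_fin_two]
      ext i j; fin_cases i <;> fin_cases j <;> simp [one_add_one_eq_two, h2]
    · rw [show ((3 : ℕ) : F) = 2 + 1 by norm_num, h2, zero_add]; exact one_ne_zero
  · have h3 : (3 : F) = 0 := by
      rcases hpm 2 with e | e | e
      · exact absurd e h2
      · exact absurd (show (1 : F) = 0 by linear_combination e) one_ne_zero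
      · linear_combination e
    refine ⟨!![0, -1; 1, 0], !![1, 1; 1, -1], !![0, 1; -1, 0], 4, ?_, ?_, ?_, ?_, ?_, ?_, ?_, ?_, ?_, ?_⟩
    · simp [det_fin_two_of]
    · rw [det_fin_two_of]; linear_combination -h3
    · simp [det_fin_two_of]
    · simp [Matrix.mul_fin_two, Matrix.one_fin_two]
    · simp [Matrix.mul_fin_two, Matrix.one_fin_two]
    · simp [Matrix.mul_fin_two]
    · simp [Matrix.mul_fin_two]
    · intro e
      have := congrFun (congrFun e 0) 0
      simp [Matrix.mul_fin_two] at this
      exact h2 (by linear_combination -this)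
    · rw [pow_succ, pow_succ, pow_two, Matrix.mul_fin_two, Matrix.mul_fin_two, Matrix.mul_fin_two]
      simp [Matrix.one_fin_two]
    · intro e
      exact one_ne_zero (α := F) (by push_cast at e; linear_combination e - h3)

/-- A common eigenvector of commuting maps in an invariant subspace. -/
theorem exists_common {K V : Type*} [Field K] [IsAlgClosed K] [AddCommGroup V] [Module K V] [FiniteDimensional K V]
    {ι : Type*} (T : ι → Module.End K V) (hT : ∀ i j, T i * T j = T j * T i) :
    ∀ (l : List ι) (W : Submodule K V), W ≠ ⊥ → (∀ i, ∀ w ∈ W, T i w ∈ W) →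
      ∃ (v : V) (χ : ι → K), v ≠ 0 ∧ v ∈ W ∧ ∀ i ∈ l, T i v = χ i • v := by
  classical
  intro l
  induction l with
  | nil =>
    intro W hW _
    obtain ⟨v, hv, h0⟩ := W.exists_mem_ne_zero_of_ne_bot hW
    exact ⟨v, fun _ => 0, h0, hv, by simp⟩
  | cons i l ih =>
    intro W hW hinv
    haveI : Nontrivial W := Submodule.nontrivial_iff_ne_bot.2 hW
    obtain ⟨c, hc⟩ := Module.End.exists_eigenvalue ((T i).restrict (fun w hw => hinv i w hw))
    obtain ⟨w, hw, hw0⟩ := hc.exists_hasEigenvector
    rw [Module.End.mem_eigenspace_iff] at hw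
    let W' : Submodule K V := W ⊓ Module.End.eigenspace (T i) c
    have hW' : W' ≠ ⊥ := by
      rw [Submodule.ne_bot_iff]
      refine ⟨w, ⟨w.2, Module.End.mem_eigenspace_iff.2 ?_⟩, fun e => hw0 (Subtype.ext e)⟩
      exact congrArg Subtype.val hw
    obtain ⟨v, χ, h0, hv, hvl⟩ := ih W' hW' fun j u hu => by
      refine ⟨hinv j u hu.1, Module.End.mem_eigenspace_iff.2 ?_⟩
      have := LinearMap.congr_fun (hT i j) u
      simp only [Module.End.mul_apply] at this
      rw [this, Module.End.mem_eigenspace_iff.1 hu.2, map_smul]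
    refine ⟨v, Function.update χ i c, h0, hv.1, fun j hj => ?_⟩
    by_cases hji : j = i
    · subst hji; rw [Function.update_self]; exact Module.End.mem_eigenspace_iff.1 hv.2
    · rw [Function.update_of_ne hji]
      exact hvl j ((List.mem_cons.1 hj).resolve_left hji)

/-- Common eigenvectors with distinct values are independent. -/
theorem independent_of_distinct {K V : Type*} [Field K] [AddCommGroup V] [Module K V] {ι κ : Type*}
    (T : ι → Module.End K V) (v : κ → V) (χ : κ → ι → K) (hv : ∀ k, v k ≠ 0) (hT : ∀ k i, T i (v k) = χ k i • v k)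
    (hχ : Function.Injective χ) : LinearIndependent K v := by
  classical
  rw [linearIndependent_iff']
  intro s
  induction s using Finset.strongInduction with
  | _ s ih =>
    intro c hc k hk
    by_cases hone : s.card ≤ 1
    · have hs : s = {k} := Finset.eq_singleton_iff_unique_mem.2 ⟨hk, fun x hx => Finset.card_le_one.1 hone _ hx _ hk⟩
      rw [hs, Finset.sum_singleton] at hc
      exact (smul_eq_zero.1 hc).resolve_right (hv k)
    obtain ⟨l, hl, hlk⟩ := Finset.exists_mem_ne (s := s) (by omega) k
    obtain ⟨i, hi⟩ : ∃ i, χ k i ≠ χ l i := by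
      by_contra hcon
      push Not at hcon
      exact hlk (hχ (funext hcon)).symm
    have h1 : ∑ x ∈ s.erase l, (c x * (χ x i - χ l i)) • v x = 0 := by
      have e1 : ∑ x ∈ s, (c x * (χ x i - χ l i)) • v x = 0 := by
        have := congrArg (fun u => T i u - χ l i • u) hc
        simp only [map_sum, map_smul, hT, Finset.smul_sum, smul_smul, map_zero, smul_zero, sub_zero] at this
        rw [← Finset.sum_sub_distrib] at this
        refine Eq.trans (Finset.sum_congr rfl fun x _ => ?_) this
        rw [← sub_smul]; congr 1; ring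
      rw [← Finset.sum_erase_add s _ hl, sub_self, mul_zero, zero_smul, add_zero] at e1
      exact e1
    exact (mul_eq_zero.1 (ih _ (Finset.erase_ssubset hl) _ h1 k (Finset.mem_erase.2 ⟨hlk.symm, hk⟩))).resolve_right
      (sub_ne_zero.2 hi)

theorem choose_bound : ∀ n w : ℕ, 1 ≤ w → w ≤ n → 2 * n ≤ 2 ^ w * n.choose w := by
  intro n
  induction n with
  | zero => intro w h1 h2; omega
  | succ n ih =>
    intro w h1 h2
    rcases h2.lt_or_eq with hlt | rfl
    · have h3 := ih w h1 (by omega)
      obtain ⟨w', rfl⟩ : ∃ w', w = w' + 1 := ⟨w - 1, by omega⟩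
      rw [Nat.choose_succ_succ', mul_add]
      have h4 : 0 < n.choose w' := Nat.choose_pos (by omega)
      have h5 : 2 ≤ 2 ^ (w' + 1) := by
        calc 2 = 2 ^ 1 := rfl
          _ ≤ _ := Nat.pow_le_pow_right (by norm_num) h1
      nlinarith
    · rw [Nat.choose_self, mul_one]
      have := Nat.lt_two_pow_self (n := n)
      rw [pow_succ]
      omega


/-- The smallest degree of a faithful representation of the symplectic group `Sp_{2n}(q)` over its own field `F_q` is `2n`: every injective homomorphism from `Sp_{2n}(F)` to `GL_d(F)`, `F` the field with `q` elements, has `d ≥ 2n`. -/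
theorem result {F : Type*} [Field F] [Fintype F] (n : ℕ) {d : ℕ}
    (ρ : ↥(Matrix.symplecticGroup (Fin n) F) →* GL (Fin d) F) (hρ : Function.Injective ρ) : 2 * n ≤ d := by
  classical
  rcases Nat.eq_zero_or_pos n with rfl | hn
  · omega
  let K := AlgebraicClosure F
  obtain ⟨x, j, x', m, hxd, hjd, hx'd, hxx', hx'x, hjx, hjx', hx2, hxm, hm⟩ := exists_sl_two (F := F)
  let G := ↥(Matrix.symplecticGroup (Fin n) F)
  let single : Fin n → Matrix (Fin 2) (Fin 2) F → (Fin n → Matrix (Fin 2) (Fin 2) F) := fun i y k => if k = i then y else 1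
  have hsd : ∀ i y, y.det = 1 → ∀ k, (single i y k).det = 1 := fun i y hy k => by
    simp only [single]; split_ifs <;> simp [hy]
  let X : Fin n → G := fun i => ⟨blk (single i x), blk_mem _ (hsd i x hxd)⟩
  let X' : Fin n → G := fun i => ⟨blk (single i x'), blk_mem _ (hsd i x' hx'd)⟩
  let J : Finset (Fin n) → G := fun T => ⟨blk (fun k => if k ∈ T then j else 1), blk_mem _ fun k => by
    split_ifs <;> simp [hjd]⟩
  let P : Equiv.Perm (Fin n) → G := fun σ => ⟨pm σ, pm_mem σ⟩
  have hcomm : ∀ i k, X i * X k = X k * X i := fun i k => Subtype.ext (by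
    show blk _ * blk _ = blk _ * blk _
    rw [blk_mul, blk_mul]
    congr 1; funext l; simp only [single]
    split_ifs <;> simp)
  have hXX' : ∀ i, X i * X' i = 1 := fun i => Subtype.ext (by
    show blk _ * blk _ = 1
    rw [blk_mul, ← blk_one]
    congr 1; funext l; simp only [single]
    split_ifs <;> simp [hxx'])
  have hXP : ∀ σ i, X (σ.symm i) * P σ = P σ * X i := fun σ i => Subtype.ext (by
    show blk _ * pm σ = pm σ * blk _
    rw [pm_blk]
    congr 2; funext l; simp only [single]
    exact if_congr (Equiv.eq_symm_apply σ) rfl rfl)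
  have hXJ : ∀ T i, X i * J T = J T * (if i ∈ T then X' i else X i) := fun T i => Subtype.ext (by
    split_ifs with hi
    · show blk _ * blk _ = blk _ * blk _
      rw [blk_mul, blk_mul]
      congr 1; funext l; simp only [single]
      by_cases hl : l = i
      · subst hl; simp [hi, hjx']
      · simp [hl]
    · show blk _ * blk _ = blk _ * blk _
      rw [blk_mul, blk_mul]
      congr 1; funext l; simp only [single]
      by_cases hl : l = i
      · subst hl; simp [hi]
      · simp [hl])
  let R : G →* Module.End K (Fin d → K) :=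
    ((Matrix.toLinAlgEquiv' : Matrix (Fin d) (Fin d) K ≃ₐ[K] _).toRingEquiv.toMonoidHom).comp
      (((algebraMap F K).mapMatrix.toMonoidHom).comp ((Units.coeHom _).comp ρ))
  have hRinj : Function.Injective R := by
    intro a b h
    exact hρ (Units.ext (Matrix.map_injective (algebraMap F K).injective
      ((Matrix.toLinAlgEquiv' : Matrix (Fin d) (Fin d) K ≃ₐ[K] _).injective h)))
  have hXm : ∀ i, X i ^ m = 1 := fun i => by
    have hp : ∀ k : ℕ, (X i ^ k).1 = blk (fun l => (single i x l) ^ k) := by
      intro k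
      induction k with
      | zero => simp only [pow_zero, blk_one]; rfl
      | succ k ih =>
        rw [pow_succ]
        show (X i ^ k).1 * blk (single i x) = _
        rw [ih, blk_mul]
        simp [pow_succ]
    apply Subtype.ext
    rw [hp]
    show _ = (1 : Matrix _ _ F)
    rw [← blk_one]
    congr 1; funext l; simp only [single]
    split_ifs <;> simp [hxm]
  let i₀ : Fin n := ⟨0, hn⟩
  set T₀ : Module.End K (Fin d → K) := R (X i₀) * R (X i₀) with hT₀
  have hT₀ne : T₀ ≠ 1 := by
    rw [hT₀, ← map_mul, ← map_one R]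
    intro e
    have := congrArg Subtype.val (hRinj e)
    change blk _ * blk _ = (1 : Matrix _ _ F) at this
    rw [blk_mul, ← blk_one] at this
    have := congrFun (blk_injective this) i₀
    simp [single] at this
    exact hx2 this
  let W : Submodule K (Fin d → K) := LinearMap.range (T₀ - 1)
  have hW : W ≠ ⊥ := fun e => hT₀ne (sub_eq_zero.1 (LinearMap.range_eq_bot.1 e))
  have hinvW : ∀ i, ∀ w ∈ W, R (X i) w ∈ W := by
    rintro i _ ⟨u, rfl⟩
    refine ⟨R (X i) u, ?_⟩
    have hc : Commute (R (X i)) T₀ := by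
      have : Commute (R (X i)) (R (X i₀)) := by
        rw [Commute, SemiconjBy, ← map_mul, hcomm, map_mul]
      exact this.mul_right this
    have := LinearMap.congr_fun (hc.sub_right (Commute.one_right _)).eq u
    simpa [Module.End.mul_apply] using this.symm
  obtain ⟨v, χ, hv0, hvW, hvχ⟩ := exists_common (fun i => R (X i))
    (fun i k => by simp only [← map_mul, hcomm]) (List.finRange n) W hW hinvW
  replace hvχ : ∀ i, R (X i) v = χ i • v := fun i => hvχ i (List.mem_finRange i)
  have hχm : ∀ i, χ i ≠ 0 := fun i e => by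
    have h1 := hvχ i
    rw [e, zero_smul] at h1
    have h2 : R (X' i * X i) v = v := by
      have : X' i * X i = 1 := Subtype.ext (by
        show blk _ * blk _ = 1
        rw [blk_mul, ← blk_one]
        congr 1; funext l; simp only [single]
        split_ifs <;> simp [hx'x])
      rw [this, map_one]; rfl
    rw [map_mul, Module.End.mul_apply, h1, map_zero] at h2
    exact hv0 h2.symm
  have hvX' : ∀ i, R (X' i) v = (χ i)⁻¹ • v := fun i => by
    have h1 : R (X' i * X i) v = v := by
      have : X' i * X i = 1 := Subtype.ext (by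
        show blk _ * blk _ = 1
        rw [blk_mul, ← blk_one]
        congr 1; funext l; simp only [single]
        split_ifs <;> simp [hx'x])
      rw [this, map_one]; rfl
    rw [map_mul, Module.End.mul_apply, hvχ, map_smul] at h1
    rw [← h1, smul_smul, inv_mul_cancel₀ (hχm i), one_smul, h1]
  let S : Finset (Fin n) := Finset.univ.filter fun i => χ i * χ i ≠ 1
  have hi₀ : i₀ ∈ S := by
    refine Finset.mem_filter.2 ⟨Finset.mem_univ _, fun e => ?_⟩
    obtain ⟨w, hw⟩ := hvW
    have hTv : T₀ v = v := by
      rw [hT₀, Module.End.mul_apply, hvχ, map_smul, hvχ, smul_smul, e, one_smul]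
    have hTw : T₀ w = w + v := by
      rw [← hw]; simp
    have hit : ∀ k : ℕ, (T₀ ^ k) w = w + (k : K) • v := by
      intro k
      induction k with
      | zero => simp
      | succ k ih =>
        rw [pow_succ', Module.End.mul_apply, ih, map_add, map_smul, hTw, hTv, Nat.cast_succ, add_smul, one_smul]
        abel
    have h1 : T₀ ^ m = 1 := by
      rw [hT₀, ← map_mul, ← map_pow, (show Commute (X i₀) (X i₀) from hcomm i₀ i₀).mul_pow, hXm, one_mul, map_one]
    have h2 := hit m
    rw [h1, Module.End.one_apply, left_eq_add, smul_eq_zero] at h2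
    rcases h2 with h2 | h2
    · exact hm ((algebraMap F K).injective (by rw [map_natCast, map_zero]; exact h2))
    · exact hv0 h2
  have hσ : ∀ U : Finset (Fin n), U.card = S.card → ∃ σ : Equiv.Perm (Fin n), ∀ i, σ i ∈ S ↔ i ∈ U := by
    intro U hU
    let e : {i // i ∈ U} ≃ {i // i ∈ S} := Finset.equivOfCardEq hU
    refine ⟨Equiv.extendSubtype e, fun i => ?_⟩
    by_cases hi : i ∈ U
    · simp [hi, Equiv.extendSubtype_mem e i hi]
    · simp [hi, Equiv.extendSubtype_not_mem e i hi]
  choose! σ hσ using hσ
  let κ := {U : Finset (Fin n) // U ∈ Finset.powersetCard S.card Finset.univ} × {T : Finset (Fin n) // T ∈ S.powerset}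
  let vec : κ → Fin d → K := fun p => R (P (σ p.1.1) * J p.2.1) v
  let val : κ → Fin n → K := fun p i => if σ p.1.1 i ∈ p.2.1 then (χ (σ p.1.1 i))⁻¹ else χ (σ p.1.1 i)
  have heig : ∀ p i, R (X i) (vec p) = val p i • vec p := by
    intro p i
    simp only [vec]
    have e1 : X i * (P (σ p.1.1) * J p.2.1) =
        (P (σ p.1.1) * J p.2.1) * (if σ p.1.1 i ∈ p.2.1 then X' (σ p.1.1 i) else X (σ p.1.1 i)) := by
      rw [← mul_assoc]
      have h2 : X i * P (σ p.1.1) = P (σ p.1.1) * X (σ p.1.1 i) := by
        have := hXP (σ p.1.1) (σ p.1.1 i)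
        rwa [Equiv.symm_apply_apply] at this
      rw [h2, mul_assoc, mul_assoc, hXJ]
    rw [← Module.End.mul_apply, ← map_mul, e1, map_mul, Module.End.mul_apply]
    have e2 : R (if σ p.1.1 i ∈ p.2.1 then X' (σ p.1.1 i) else X (σ p.1.1 i)) v = val p i • v := by
      simp only [val]
      split_ifs
      · exact hvX' _
      · exact hvχ _
    rw [e2, map_smul]
  have hne : ∀ p, vec p ≠ 0 := by
    intro p e
    apply hv0
    have hgi : ∀ g : G, ∃ g' : G, g' * g = 1 := fun g => ⟨g⁻¹, inv_mul_cancel g⟩
    obtain ⟨g', hg'⟩ := hgi (P (σ p.1.1) * J p.2.1)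
    have := congrArg (R g') e
    rwa [map_zero, ← Module.End.mul_apply, ← map_mul, hg', map_one] at this
  have hinj : Function.Injective val := by
    rintro ⟨⟨U, hU⟩, ⟨T, hT⟩⟩ ⟨⟨U', hU'⟩, ⟨T', hT'⟩⟩ e
    have hUc : U.card = S.card := (Finset.mem_powersetCard.1 hU).2
    have hUc' : U'.card = S.card := (Finset.mem_powersetCard.1 hU').2
    rw [Finset.mem_powerset] at hT hT'
    have hmemU : ∀ (U T : Finset (Fin n)), U.card = S.card → ∀ i, i ∈ U ↔
        (if σ U i ∈ T then (χ (σ U i))⁻¹ else χ (σ U i)) * (if σ U i ∈ T then (χ (σ U i))⁻¹ else χ (σ U i)) ≠ 1 := by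
      intro U T hc i
      rw [← hσ U hc i]
      simp only [S, Finset.mem_filter, Finset.mem_univ, true_and]
      split_ifs
      · rw [← mul_inv, Ne, Ne, inv_eq_one]
      · rfl
    have hUU : U = U' := by
      ext i
      rw [hmemU U T hUc i, hmemU U' T' hUc' i]
      have := congrFun e i
      simp only [val] at this
      rw [this]
    subst hUU
    have hTT : T = T' := by
      ext k
      by_cases hk : k ∈ S
      · have h := congrFun e ((σ U).symm k)
        simp only [val, Equiv.apply_symm_apply] at h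
        have hne1 : χ k ≠ (χ k)⁻¹ := fun e' => (Finset.mem_filter.1 hk).2 (by
          nth_rewrite 2 [e']; exact mul_inv_cancel₀ (hχm k))
        split_ifs at h with a b b
        · simp [a, b]
        · exact absurd h.symm hne1
        · exact absurd h hne1
        · simp [a, b]
      · exact iff_of_false (fun h => hk (hT h)) (fun h => hk (hT' h))
    subst hTT
    rfl
  have hle := (independent_of_distinct (fun i => R (X i)) vec val hne heig hinj).fintype_card_le_finrank
  rw [Module.finrank_fintype_fun_eq_card, Fintype.card_fin, Fintype.card_prod, Fintype.card_coe, Fintype.card_coe,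
    Finset.card_powersetCard, Finset.card_powerset, Finset.card_univ, Fintype.card_fin] at hle
  have := choose_bound n S.card (Finset.card_pos.2 ⟨i₀, hi₀⟩) ((Finset.card_le_univ S).trans_eq (Fintype.card_fin n))
  rw [mul_comm] at hle
  omega

end Cfsg.Agent.S2394
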