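import Cfsg.Statements.S2395
import Cfsg.Agent.Lib.Chev.StPerf

set_option autoImplicit false
open Cfsg

namespace Cfsg.Agent.S2395

/-- The group presented by Steinberg's generators x̄_r(t) subject only to (R1) (additivity) and (R2) (the commutator formula) is perfect, for each of the types G₂, B₂, D₄, F₄, E₆, E₇, E₈ over any field (for types B₂ and G₂ the field must have more than two elements — the cases where the Chevalley group is not simple are set aside). -/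
theorem result {K : Type*} [Field K] (D : Cfsg.Lie.ChevalleyDatum) (hD : D ∈ [Cfsg.Lie.chevG2, Cfsg.Lie.chevB2, Cfsg.Lie.chevD4, Cfsg.Lie.chevF4, Cfsg.Lie.chevE6, Cfsg.Lie.chevE7, Cfsg.Lie.chevE8]) (hK : D ∈ [Cfsg.Lie.chevB2, Cfsg.Lie.chevG2] → ∃ x : K, x ≠ 0 ∧ x ≠ 1) :
    commutator (D.SteinbergCover K) = ⊤ := by
  suffices h : ∀ T : Chev.Tabs, Chev.OKX D T → Chev.Tabs.chkDn D T = true → Chev.Tabs.chkWit D T = true →
      (Chev.Tabs.chkPerfAll D T = true ∨ (Chev.Tabs.chkPerfOdd D T = true ∧ ∃ a : K, a ≠ 0 ∧ a ≠ 1)) →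
      commutator (D.SteinbergCover K) = ⊤ by
    simp only [List.mem_cons, List.not_mem_nil, or_false] at hD
    rcases hD with rfl | rfl | rfl | rfl | rfl | rfl | rfl
    · exact h _ Chev.G2.okx Chev.G2.dn_ok Chev.G2.wit_ok (Or.inr ⟨Chev.G2.perf, hK (by simp)⟩)
    · exact h _ Chev.B2.okx Chev.B2.dn_ok Chev.B2.wit_ok (Or.inr ⟨Chev.B2.perf, hK (by simp)⟩)
    · exact h _ Chev.D4.okx Chev.D4.dn_ok Chev.D4.wit_ok (Or.inl Chev.D4.perf)
    · exact h _ Chev.F4.okx Chev.F4.dn_ok Chev.F4.wit_ok (Or.inl Chev.F4.perf)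
    · exact h _ Chev.E6.okx Chev.E6.dn_ok Chev.E6.wit_ok (Or.inl Chev.E6.perf)
    · exact h _ Chev.E7.okx Chev.E7.dn_ok Chev.E7.wit_ok (Or.inl Chev.E7.perf)
    · exact h _ Chev.E8.okx Chev.E8.dn_ok Chev.E8.wit_ok (Or.inl Chev.E8.perf)
  intro T ok hdn hwit hp
  exact (ok.presented_hyp (R := D.steinbergRelsAB K) (Set.Subset.refl _) hdn hwit ok.scHom
    fun r hr t => ok.scHom_gen hr t).perfect hp

end Cfsg.Agent.S2395
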