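import Cfsg.Statements.S2398
import Cfsg.Agent.Lib.Chev.StUnivField
import Cfsg.Agent.Lib.Chev.AllPerf
-- import your own Cfsg.Agent.* helpers here

set_option autoImplicit false
open Cfsg

namespace Cfsg.Agent.S2398

/-- Universality of the group Δ presented by Steinberg's generators with relators (R1), (R2), over a field with more than four elements (types G₂, B₂, D₄, F₄, E₆, E₇, E₈): for every central extension `π₁ : E → G₁` (surjective, central kernel) and every homomorphism `σ : Δ → G₁` there is exactly one homomorphism `τ : Δ → E` with `π₁ ∘ τ = σ`. In particular every central extension of Δ splits; together with the fact that Δ maps onto the Chevalley group with central kernel, this makes Δ the universal central extension of the Chevalley group. -/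
theorem result {K : Type*} [Field K] (hK5 : ∃ s : Finset K, 4 < s.card) (D : Cfsg.Lie.ChevalleyDatum) (hD : D ∈ [Cfsg.Lie.chevG2, Cfsg.Lie.chevB2, Cfsg.Lie.chevD4, Cfsg.Lie.chevF4, Cfsg.Lie.chevE6, Cfsg.Lie.chevE7, Cfsg.Lie.chevE8])
    {G₁ E : Type*} [Group G₁] [Group E] (π₁ : E →* G₁) (hπ : Function.Surjective π₁) (hc : π₁.ker ≤ Subgroup.center E)
    (σ : D.SteinbergCover K →* G₁) : ∃! τ : D.SteinbergCover K →* E, π₁.comp τ = σ := by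
  have fin : ∀ (D : Cfsg.Lie.ChevalleyDatum) (T : Cfsg.Agent.Chev.Tabs) (ok : Cfsg.Agent.Chev.OKX D T),
      Cfsg.Agent.Chev.Tabs.chkDn D T = true → Cfsg.Agent.Chev.Tabs.chkWit D T = true →
      (∃ M, Cfsg.Agent.Chev.Tabs.chkCow D T M = true) →
      (T.chkPerfAll D = true ∨ (T.chkPerfOdd D = true ∧ ∃ a : K, a ≠ 0 ∧ a ≠ 1)) →
      ∀ (σ : D.SteinbergCover K →* G₁),
      (∀ (Γ : Subgroup (D.SteinbergCover K × E)) (ρ : ↥Γ →* GL D.Idx K), Cfsg.Agent.Chev.Lifts ok ρ →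
        ∀ {y : ℕ → K → D.SteinbergCover K} {θ : D.SteinbergCover K →* GL D.Idx K},
          Cfsg.Agent.Chev.StHyp ok y θ → ∃ φ : D.SteinbergCover K →* ↥Γ, ρ.comp φ = ok.scHom) →
      ∃! τ : D.SteinbergCover K →* E, π₁.comp τ = σ := by
    intro D T ok hdn hwit ⟨M, hM⟩ hperf σ huniv
    have st := ok.presented_hyp (R := D.steinbergRelsAB K) (Set.Subset.refl _) hdn hwit ok.scHom
      fun r hr t => ok.scHom_gen hr t
    exact Cfsg.Agent.Chev.existsUnique_lift_of_hom ok (st.ker_eq_center hM).le (st.perfect hperf) π₁ hπ hc σ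
      fun Γ ρ hl => huniv Γ ρ hl st
  obtain ⟨a, ha0, ha⟩ := Cfsg.Agent.Chev.exists_pow_ne_one_field (m := 1) (by norm_num) hK5
  have ha1 : a ≠ 1 := by simpa using ha 1 one_ne_zero le_rfl
  simp only [List.mem_cons, List.not_mem_nil, or_false] at hD
  rcases hD with rfl | rfl | rfl | rfl | rfl | rfl | rfl
  · refine fin _ _ Cfsg.Agent.Chev.G2.okx Cfsg.Agent.Chev.G2.dn_ok Cfsg.Agent.Chev.G2.wit_ok
      ⟨_, Cfsg.Agent.Chev.G2.cow_ok⟩ (Or.inr ⟨Cfsg.Agent.Chev.G2.perf, a, ha0, ha1⟩) σ fun _ _ hl _ _ st => ?_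
    obtain ⟨x, hx0, hx⟩ := Cfsg.Agent.Chev.exists_pow_ne_one_field (m := 3) le_rfl hK5
    obtain ⟨b, hb0, hb1, hb⟩ := Cfsg.Agent.Chev.exists_unit_quadratic_field hK5
    exact Cfsg.Agent.Chev.exists_hom_of_wt st hl Cfsg.Agent.Chev.G2.w1_ok Cfsg.Agent.Chev.G2.posPairs_ok
      Cfsg.Agent.Chev.G2.words_ok hx0 (by norm_num) hx
      fun r hr => hl.com_self Cfsg.Agent.Chev.G2.w1_ok hb0 hb1 hb hr
  · refine fin _ _ Cfsg.Agent.Chev.B2.okx Cfsg.Agent.Chev.B2.dn_ok Cfsg.Agent.Chev.B2.wit_ok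
      ⟨_, Cfsg.Agent.Chev.B2.cow_ok⟩ (Or.inr ⟨Cfsg.Agent.Chev.B2.perf, a, ha0, ha1⟩) σ fun _ _ hl _ _ st => ?_
    exact Cfsg.Agent.Chev.univ_B2_of (Cfsg.Agent.Chev.exists_pow_ne_one_field (m := 2) (by norm_num) hK5) st hl
  · refine fin _ _ Cfsg.Agent.Chev.D4.okx Cfsg.Agent.Chev.D4.dn_ok Cfsg.Agent.Chev.D4.wit_ok
      ⟨_, Cfsg.Agent.Chev.D4.cow_ok⟩ (Or.inl Cfsg.Agent.Chev.D4.perf) σ fun _ _ hl _ _ st => ?_
    obtain ⟨x, hx0, hx⟩ := Cfsg.Agent.Chev.exists_pow_ne_one_field (m := 2) (by norm_num) hK5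
    refine Cfsg.Agent.Chev.exists_hom_of_wt st hl Cfsg.Agent.Chev.D4.w1_ok Cfsg.Agent.Chev.D4.posPairs_ok
      Cfsg.Agent.Chev.D4.words_ok hx0 (by norm_num) hx fun r hr => ?_
    have h := Cfsg.Agent.Chev.D4.self_ok
    simp only [Cfsg.Agent.Chev.Tabs.chkSelf, Cfsg.Agent.Chev.allR_iff] at h
    exact hl.com_fac hr (h r hr) (by simp)
  · refine fin _ _ Cfsg.Agent.Chev.F4.okx Cfsg.Agent.Chev.F4.dn_ok Cfsg.Agent.Chev.F4.wit_ok
      ⟨_, Cfsg.Agent.Chev.F4.cow_ok⟩ (Or.inl Cfsg.Agent.Chev.F4.perf) σ fun _ _ hl _ _ st => ?_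
    obtain ⟨x, hx0, hx⟩ := Cfsg.Agent.Chev.exists_pow_ne_one_field (m := 2) (by norm_num) hK5
    refine Cfsg.Agent.Chev.exists_hom_of_wt st hl Cfsg.Agent.Chev.F4.w1_ok Cfsg.Agent.Chev.F4.posPairs_ok
      Cfsg.Agent.Chev.F4.words_ok hx0 (by norm_num) hx fun r hr => ?_
    have h := Cfsg.Agent.Chev.F4.self_ok
    simp only [Cfsg.Agent.Chev.Tabs.chkSelf, Cfsg.Agent.Chev.allR_iff] at h
    exact hl.com_fac hr (h r hr) (by simp)
  · exact fin _ _ Cfsg.Agent.Chev.E6.okx Cfsg.Agent.Chev.E6.dn_ok Cfsg.Agent.Chev.E6.wit_ok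
      ⟨_, Cfsg.Agent.Chev.E6.cow_ok⟩ (Or.inl Cfsg.Agent.Chev.E6.perf) σ fun _ _ hl _ _ _ =>
      hl.exists_hom Cfsg.Agent.Chev.E6.univ_ok
  · exact fin _ _ Cfsg.Agent.Chev.E7.okx Cfsg.Agent.Chev.E7.dn_ok Cfsg.Agent.Chev.E7.wit_ok
      ⟨_, Cfsg.Agent.Chev.E7.cow_ok⟩ (Or.inl Cfsg.Agent.Chev.E7.perf) σ fun _ _ hl _ _ _ =>
      hl.exists_hom Cfsg.Agent.Chev.E7.univ_ok
  · exact fin _ _ Cfsg.Agent.Chev.E8.okx Cfsg.Agent.Chev.E8.dn_ok Cfsg.Agent.Chev.E8.wit_ok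
      ⟨_, Cfsg.Agent.Chev.E8.cow_ok⟩ (Or.inl Cfsg.Agent.Chev.E8.perf) σ fun _ _ hl _ _ _ =>
      hl.exists_hom Cfsg.Agent.Chev.E8.univ_ok


end Cfsg.Agent.S2398
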