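import Cfsg.Statements.S2399
import Cfsg.Agent.S2398
import Cfsg.Agent.Lib.Chev.StUnivCoprime
import Mathlib.LinearAlgebra.Matrix.GeneralLinearGroup.Basic
-- import your own Cfsg.Agent.* helpers here

set_option autoImplicit false
open scoped MatrixGroups
open Cfsg

namespace Cfsg.Agent.S2399

/-- Projective representations in the natural characteristic lift: for each of the types G₂, B₂, D₄, F₄, E₆, E₇, E₈ over any field `K` (for types B₂ and G₂ the field must have more than two elements — the cases where the Chevalley group is not simple are set aside), every homomorphism from the Chevalley group to `PGL_n(L) = GL_n(L)/Z`, `L` a field of the same characteristic as `K`, lifts uniquely to a homomorphism from the group Δ presented by (R1), (R2) to `GL_n(L)`, compatibly with the projection Δ → Chevalley group sending x̄_r(t) to x_r(t). -/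
theorem result {K : Type*} [Field K] (D : Cfsg.Lie.ChevalleyDatum) (hD : D ∈ [Cfsg.Lie.chevG2, Cfsg.Lie.chevB2, Cfsg.Lie.chevD4, Cfsg.Lie.chevF4, Cfsg.Lie.chevE6, Cfsg.Lie.chevE7, Cfsg.Lie.chevE8]) (hK : D ∈ [Cfsg.Lie.chevB2, Cfsg.Lie.chevG2] → ∃ x : K, x ≠ 0 ∧ x ≠ 1)
    (θ : D.SteinbergCover K →* ↥(D.group K))
    (hθ : ∀ (r : ℕ) (t : K), r < D.nroots → ((θ (D.scGen K r t) : GL D.Idx K) : Matrix D.Idx D.Idx K) = D.x K r t)
    {L : Type*} [Field L] (hL : ringChar L = ringChar K) {n : ℕ}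
    (φ : ↥(D.group K) →* GL (Fin n) L ⧸ Subgroup.center (GL (Fin n) L)) :
    ∃! ψ : D.SteinbergCover K →* GL (Fin n) L, (QuotientGroup.mk' (Subgroup.center (GL (Fin n) L))).comp ψ = φ.comp θ := by
  have hmk : Function.Surjective (QuotientGroup.mk' (Subgroup.center (GL (Fin n) L))) := QuotientGroup.mk'_surjective _
  have hker : (QuotientGroup.mk' (Subgroup.center (GL (Fin n) L))).ker ≤ Subgroup.center (GL (Fin n) L) :=
    (QuotientGroup.ker_mk' _).le
  -- the scalars have no elements of the order of the characteristic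
  have hscal : ∀ (p : ℕ) [Fact p.Prime] [CharP K p],
      ∀ z ∈ (QuotientGroup.mk' (Subgroup.center (GL (Fin n) L))).ker, z ^ p = 1 → z = 1 := by
    intro p _ _ z hz hzp
    haveI : CharP L p := ringChar.of_eq (hL.trans (ringChar.eq K p))
    rcases Nat.eq_zero_or_pos n with rfl | hn
    · exact Units.ext (Subsingleton.elim _ _)
    haveI : NeZero n := ⟨by omega⟩
    have hz' := hker hz
    rw [Matrix.GeneralLinearGroup.center_eq_range_scalar] at hz'
    obtain ⟨u, rfl⟩ := hz'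
    rw [← map_pow] at hzp
    have h1 := congrArg (fun g : GL (Fin n) L => (g : Matrix (Fin n) (Fin n) L) ⟨0, hn⟩ ⟨0, hn⟩) hzp
    simp [Matrix.diagonal_pow] at h1
    have h2 : (u : L) = 1 := by
      have h3 : ((u : L) - 1) ^ p = 0 := by rw [sub_pow_char, one_pow, h1, sub_self]
      exact sub_eq_zero.mp (eq_zero_of_pow_eq_zero h3)
    rw [Units.val_eq_one.mp h2, map_one]
  have st' : ∀ (T : Cfsg.Agent.Chev.Tabs) (ok : Cfsg.Agent.Chev.OKX D T), Cfsg.Agent.Chev.Tabs.chkDn D T = true →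
      Cfsg.Agent.Chev.Tabs.chkWit D T = true →
      Cfsg.Agent.Chev.StHyp ok (fun r t => PresentedGroup.mk (D.steinbergRelsAB K) (D.stX r t)) ok.scHom :=
    fun T ok hdn hwit => ok.presented_hyp (R := D.steinbergRelsAB K) (Set.Subset.refl _) hdn hwit ok.scHom
      fun r hr t => ok.scHom_gen hr t
  have routeE : ∀ (T : Cfsg.Agent.Chev.Tabs) (ok : Cfsg.Agent.Chev.OKX D T), Cfsg.Agent.Chev.Tabs.chkDn D T = true →
      Cfsg.Agent.Chev.Tabs.chkWit D T = true → (∃ M, Cfsg.Agent.Chev.Tabs.chkCow D T M = true) →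
      T.chkPerfAll D = true →
      ∀ C, Cfsg.Agent.Chev.Tabs.chkUniv D T C = true →
      ∀ (σ : D.SteinbergCover K →* GL (Fin n) L ⧸ Subgroup.center (GL (Fin n) L)),
      ∃! ψ : D.SteinbergCover K →* GL (Fin n) L,
        (QuotientGroup.mk' (Subgroup.center (GL (Fin n) L))).comp ψ = σ := by
    intro T ok hdn hwit ⟨M, hM⟩ hperf C hu σ
    exact Cfsg.Agent.Chev.existsUnique_lift_of_hom ok ((st' T ok hdn hwit).ker_eq_center hM).le
      ((st' T ok hdn hwit).perfect (Or.inl hperf)) _ hmk hker σ fun _ _ hl => hl.exists_hom hu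
  have routeW : ∀ (T : Cfsg.Agent.Chev.Tabs) (ok : Cfsg.Agent.Chev.OKX D T), Cfsg.Agent.Chev.Tabs.chkDn D T = true →
      Cfsg.Agent.Chev.Tabs.chkWit D T = true → (∃ M, Cfsg.Agent.Chev.Tabs.chkCow D T M = true) →
      (T.chkPerfAll D = true ∨ (T.chkPerfOdd D = true ∧ ∃ a : K, a ≠ 0 ∧ a ≠ 1)) →
      ∀ W, Cfsg.Agent.Chev.Tabs.chkWords D T W = true →
      ∀ (σ : D.SteinbergCover K →* GL (Fin n) L ⧸ Subgroup.center (GL (Fin n) L)),
      ∃! ψ : D.SteinbergCover K →* GL (Fin n) L,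
        (QuotientGroup.mk' (Subgroup.center (GL (Fin n) L))).comp ψ = σ := by
    intro T ok hdn hwit ⟨M, hM⟩ hperf W hW σ
    by_cases hfin : Finite K
    · have := Fintype.ofFinite K
      obtain ⟨p, hp⟩ := CharP.exists K
      obtain ⟨k, hprime, -⟩ := FiniteField.card K p
      haveI := Fact.mk hprime
      exact Cfsg.Agent.Chev.existsUnique_lift_coprime ok hdn hwit hM hW ((st' T ok hdn hwit).perfect hperf) (p := p)
        _ hmk hker (hscal p) σ
    · have : Infinite K := not_finite_iff_infinite.mp hfin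
      obtain ⟨s, hs⟩ := Infinite.exists_subset_card_eq K 5
      exact Cfsg.Agent.S2398.result ⟨s, by omega⟩ D hD _ hmk hker σ
  simp only [List.mem_cons, List.not_mem_nil, or_false] at hD
  rcases hD with rfl | rfl | rfl | rfl | rfl | rfl | rfl
  · exact routeW _ Cfsg.Agent.Chev.G2.okx Cfsg.Agent.Chev.G2.dn_ok Cfsg.Agent.Chev.G2.wit_ok
      ⟨_, Cfsg.Agent.Chev.G2.cow_ok⟩ (Or.inr ⟨Cfsg.Agent.Chev.G2.perf, hK (by simp)⟩) _
      Cfsg.Agent.Chev.G2.words_ok (φ.comp θ)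
  · exact routeW _ Cfsg.Agent.Chev.B2.okx Cfsg.Agent.Chev.B2.dn_ok Cfsg.Agent.Chev.B2.wit_ok
      ⟨_, Cfsg.Agent.Chev.B2.cow_ok⟩ (Or.inr ⟨Cfsg.Agent.Chev.B2.perf, hK (by simp)⟩) _
      Cfsg.Agent.Chev.B2.words_ok (φ.comp θ)
  · exact routeW _ Cfsg.Agent.Chev.D4.okx Cfsg.Agent.Chev.D4.dn_ok Cfsg.Agent.Chev.D4.wit_ok
      ⟨_, Cfsg.Agent.Chev.D4.cow_ok⟩ (Or.inl Cfsg.Agent.Chev.D4.perf) _ Cfsg.Agent.Chev.D4.words_ok (φ.comp θ)
  · exact routeW _ Cfsg.Agent.Chev.F4.okx Cfsg.Agent.Chev.F4.dn_ok Cfsg.Agent.Chev.F4.wit_ok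
      ⟨_, Cfsg.Agent.Chev.F4.cow_ok⟩ (Or.inl Cfsg.Agent.Chev.F4.perf) _ Cfsg.Agent.Chev.F4.words_ok (φ.comp θ)
  · exact routeE _ Cfsg.Agent.Chev.E6.okx Cfsg.Agent.Chev.E6.dn_ok Cfsg.Agent.Chev.E6.wit_ok
      ⟨_, Cfsg.Agent.Chev.E6.cow_ok⟩ Cfsg.Agent.Chev.E6.perf _ Cfsg.Agent.Chev.E6.univ_ok (φ.comp θ)
  · exact routeE _ Cfsg.Agent.Chev.E7.okx Cfsg.Agent.Chev.E7.dn_ok Cfsg.Agent.Chev.E7.wit_ok
      ⟨_, Cfsg.Agent.Chev.E7.cow_ok⟩ Cfsg.Agent.Chev.E7.perf _ Cfsg.Agent.Chev.E7.univ_ok (φ.comp θ)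
  · exact routeE _ Cfsg.Agent.Chev.E8.okx Cfsg.Agent.Chev.E8.dn_ok Cfsg.Agent.Chev.E8.wit_ok
      ⟨_, Cfsg.Agent.Chev.E8.cow_ok⟩ Cfsg.Agent.Chev.E8.perf _ Cfsg.Agent.Chev.E8.univ_ok (φ.comp θ)


end Cfsg.Agent.S2399
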