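import Cfsg.Statements.S2400
import Cfsg.Agent.Lib.Chev.StMultSt
import Cfsg.Agent.Lib.Chev.StUnivB2Three
import Cfsg.Agent.Lib.Chev.StUnivD4
import Cfsg.Agent.Lib.Chev.AllPerf
-- import your own Cfsg.Agent.* helpers here

set_option autoImplicit false
open Cfsg

namespace Cfsg.Agent.S2400

/-- Over a finite field `K`, the group presented by Steinberg's relators (R1)–(R3) (the universal Chevalley group) of type E₆ or E₇, or of type B₂ or D₄ with `K` of more than two elements, has trivial Schur multiplier: every finite stem extension of it is an isomorphism (Schur multiplier described through stem extensions as in the definitions). Types G₂, F₄ and E₈ are not covered here. -/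
theorem result {K : Type*} [Field K] [Fintype K] (e : Cfsg.Lie.ChevalleyDatum × ℕ)
    (he : e ∈ [(Cfsg.Lie.chevE6, 0), (Cfsg.Lie.chevE7, 0), (Cfsg.Lie.chevB2, 2), (Cfsg.Lie.chevD4, 2)]) (hK : Fintype.card K ≠ e.2) :
    Cfsg.HasCyclicSchurMultiplier (e.1.SteinbergGroup K) 1 := by
  have hcard2 : 2 ≤ Fintype.card K := Fintype.one_lt_card
  have mk : ∀ (D : Cfsg.Lie.ChevalleyDatum), D ∈ [Cfsg.Lie.chevG2, Cfsg.Lie.chevB2, Cfsg.Lie.chevD4,
      Cfsg.Lie.chevF4, Cfsg.Lie.chevE6, Cfsg.Lie.chevE7, Cfsg.Lie.chevE8] →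
      (D ∈ [Cfsg.Lie.chevB2, Cfsg.Lie.chevG2] → ∃ x : K, x ≠ 0 ∧ x ≠ 1) →
      Nonempty (D.SteinbergCover K ≃* D.SteinbergGroup K) := fun D h1 h2 => by
    obtain ⟨f, -⟩ := Cfsg.Agent.S2397.result (K := K) D h1 h2
    exact ⟨f⟩
  simp only [List.mem_cons, List.not_mem_nil, or_false] at he
  rcases he with rfl | rfl | rfl | rfl
  · obtain ⟨f⟩ := mk Cfsg.Lie.chevE6 (by simp)
      (fun h => absurd h (by simp [Cfsg.Lie.chevE6, Cfsg.Lie.chevB2, Cfsg.Lie.chevG2]))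
    exact Cfsg.Agent.Chev.hasMultiplier_steinberg Cfsg.Agent.Chev.E6.okx Cfsg.Agent.Chev.E6.dn_ok
      Cfsg.Agent.Chev.E6.wit_ok Cfsg.Agent.Chev.E6.cow_ok
      ((Cfsg.Agent.Chev.E6.okx.presented_hyp (Set.Subset.refl _) Cfsg.Agent.Chev.E6.dn_ok Cfsg.Agent.Chev.E6.wit_ok
        Cfsg.Agent.Chev.E6.okx.scHom fun _ hr t => Cfsg.Agent.Chev.E6.okx.scHom_gen hr t).perfect
        (Or.inl Cfsg.Agent.Chev.E6.perf)) f
      fun _ _ _ hl => hl.exists_hom Cfsg.Agent.Chev.E6.univ_ok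
  · obtain ⟨f⟩ := mk Cfsg.Lie.chevE7 (by simp)
      (fun h => absurd h (by simp [Cfsg.Lie.chevE7, Cfsg.Lie.chevB2, Cfsg.Lie.chevG2]))
    exact Cfsg.Agent.Chev.hasMultiplier_steinberg Cfsg.Agent.Chev.E7.okx Cfsg.Agent.Chev.E7.dn_ok
      Cfsg.Agent.Chev.E7.wit_ok Cfsg.Agent.Chev.E7.cow_ok
      ((Cfsg.Agent.Chev.E7.okx.presented_hyp (Set.Subset.refl _) Cfsg.Agent.Chev.E7.dn_ok Cfsg.Agent.Chev.E7.wit_ok
        Cfsg.Agent.Chev.E7.okx.scHom fun _ hr t => Cfsg.Agent.Chev.E7.okx.scHom_gen hr t).perfect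
        (Or.inl Cfsg.Agent.Chev.E7.perf)) f
      fun _ _ _ hl => hl.exists_hom Cfsg.Agent.Chev.E7.univ_ok
  · have hq : 3 ≤ Fintype.card K := by
      have : Fintype.card K ≠ 2 := hK
      omega
    obtain ⟨a, ha0, ha⟩ := Cfsg.Agent.Chev.exists_pow_ne_one (F := K) (m := 1) (by omega)
    have ha1 : a ≠ 1 := by simpa using ha 1 one_ne_zero le_rfl
    obtain ⟨f⟩ := mk Cfsg.Lie.chevB2 (by simp) (fun _ => ⟨a, ha0, ha1⟩)
    have st := Cfsg.Agent.Chev.B2.okx.presented_hyp (R := Cfsg.Lie.chevB2.steinbergRelsAB K) (Set.Subset.refl _)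
      Cfsg.Agent.Chev.B2.dn_ok Cfsg.Agent.Chev.B2.wit_ok Cfsg.Agent.Chev.B2.okx.scHom
      fun _ hr t => Cfsg.Agent.Chev.B2.okx.scHom_gen hr t
    refine Cfsg.Agent.Chev.hasMultiplier_steinberg Cfsg.Agent.Chev.B2.okx Cfsg.Agent.Chev.B2.dn_ok
      Cfsg.Agent.Chev.B2.wit_ok Cfsg.Agent.Chev.B2.cow_ok
      (st.perfect (Or.inr ⟨Cfsg.Agent.Chev.B2.perf, a, ha0, ha1⟩)) f fun _ _ _ hl => ?_
    by_cases h3 : Fintype.card K = 3
    · exact Cfsg.Agent.Chev.univ_B2_three h3 st hl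
    · exact Cfsg.Agent.Chev.univ_B2 (by omega) st hl
  · have hq : 3 ≤ Fintype.card K := by
      have : Fintype.card K ≠ 2 := hK
      omega
    obtain ⟨f⟩ := mk Cfsg.Lie.chevD4 (by simp)
      (fun h => absurd h (by simp [Cfsg.Lie.chevD4, Cfsg.Lie.chevB2, Cfsg.Lie.chevG2]))
    have st := Cfsg.Agent.Chev.D4.okx.presented_hyp (R := Cfsg.Lie.chevD4.steinbergRelsAB K) (Set.Subset.refl _)
      Cfsg.Agent.Chev.D4.dn_ok Cfsg.Agent.Chev.D4.wit_ok Cfsg.Agent.Chev.D4.okx.scHom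
      fun _ hr t => Cfsg.Agent.Chev.D4.okx.scHom_gen hr t
    exact Cfsg.Agent.Chev.hasMultiplier_steinberg Cfsg.Agent.Chev.D4.okx Cfsg.Agent.Chev.D4.dn_ok
      Cfsg.Agent.Chev.D4.wit_ok Cfsg.Agent.Chev.D4.cow_ok
      (st.perfect (Or.inl Cfsg.Agent.Chev.D4.perf)) f fun _ _ _ hl => Cfsg.Agent.Chev.univ_D4 hq st hl


end Cfsg.Agent.S2400
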