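import Cfsg.Statements.S2402
import Cfsg.Agent.Lib.Struct.CycleGenSL

set_option autoImplicit false
open Cfsg
open Matrix

namespace Cfsg.Agent.S2402

/-- Explicit two-element generation of `PSL_{n+1}(K)` for a finite field `K` with more than three elements: let `k` generate the multiplicative group of `K`, `h = diag(k, k⁻¹, 1, …, 1)`, `x = 1 + E₁₂` (the elementary transvection) and `w` the monomial matrix with entries `1` in positions `(i, i+1)` and `(−1)^n` in position `(n+1, 1)`. Then `h` and `x·w` generate `SL_{n+1}(K)` modulo its centre: the subgroup they generate together with the centre is everything. -/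
theorem result {K : Type*} [Field K] [Fintype K] (hK : 3 < Fintype.card K) (n : ℕ) (hn : 1 ≤ n)
    (k : Kˣ) (hk : ∀ u : Kˣ, u ∈ Subgroup.zpowers k)
    (h x w : Matrix.SpecialLinearGroup (Fin (n + 1)) K)
    (hh : (h : Matrix (Fin (n + 1)) (Fin (n + 1)) K) =
      Matrix.diagonal (fun i => if i.val = 0 then (k : K) else if i.val = 1 then ((k⁻¹ : Kˣ) : K) else 1))
    (hx : (x : Matrix (Fin (n + 1)) (Fin (n + 1)) K) = Matrix.transvection (0 : Fin (n + 1)) (1 : Fin (n + 1)) 1)
    (hw : (w : Matrix (Fin (n + 1)) (Fin (n + 1)) K) =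
      Matrix.of (fun i j => if j.val = i.val + 1 then 1 else if i.val = n ∧ j.val = 0 then (-1) ^ n else 0)) :
    Subgroup.closure ({h, x * w} : Set (Matrix.SpecialLinearGroup (Fin (n + 1)) K)) ⊔
      Subgroup.center (Matrix.SpecialLinearGroup (Fin (n + 1)) K) = ⊤ := by
  classical
  set H := Subgroup.closure ({h, x * w} : Set (Matrix.SpecialLinearGroup (Fin (n + 1)) K)) with hH
  have hhH : h ∈ H := Subgroup.subset_closure (by simp)
  have hyH : x * w ∈ H := Subgroup.subset_closure (by simp)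
  let d : Fin (n + 1) → K := fun i => if i.val = 0 then (k : K) else if i.val = 1 then ((k⁻¹ : Kˣ) : K) else 1
  let d' : Fin (n + 1) → K := fun i => if hi : i.val < n then d ⟨i.val + 1, by omega⟩ else d 0
  have h1 : (1 : Fin (n + 1)).val = 1 := by simp [Fin.val_one', Nat.mod_eq_of_lt (show 1 < n + 1 by omega)]
  have h01 : (0 : Fin (n + 1)) ≠ 1 := fun e => by rw [Fin.ext_iff, h1] at e; simp at e
  let T := fun a : K => SpecialLinearGroup.transvection h01 a
  set h' := w * h * w⁻¹ with hh'
  have hh'v : (h' : Matrix (Fin (n + 1)) (Fin (n + 1)) K) = Matrix.diagonal d' := by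
    have e : (w : Matrix (Fin (n + 1)) (Fin (n + 1)) K) * h = Matrix.diagonal d' * w := by
      rw [hh]
      ext i j
      rw [Matrix.mul_diagonal, Matrix.diagonal_mul, hw, Matrix.of_apply]
      by_cases hj : j.val = i.val + 1
      · have hi : i.val < n := by omega
        rw [if_pos hj]
        simp only [d', dif_pos hi, one_mul, mul_one, d, hj]
      · rw [if_neg hj]
        by_cases hl : i.val = n ∧ j.val = 0
        · rw [if_pos hl]
          simp only [d', dif_neg (by omega : ¬ i.val < n), d, hl.2, Fin.val_zero, if_true]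
          ring
        · rw [if_neg hl, zero_mul, mul_zero]
    show (w : Matrix (Fin (n + 1)) (Fin (n + 1)) K) * h * (w⁻¹ : Matrix.SpecialLinearGroup (Fin (n + 1)) K) = _
    rw [e, Matrix.mul_assoc, show (w : Matrix (Fin (n + 1)) (Fin (n + 1)) K) * (w⁻¹ : Matrix.SpecialLinearGroup (Fin (n + 1)) K) = 1 from congrArg Subtype.val (mul_inv_cancel w),
      Matrix.mul_one]
  have hd0 : d' 0 = ((k⁻¹ : Kˣ) : K) := by
    simp only [d', dif_pos (show (0 : Fin (n + 1)).val < n by simp; omega), d]
    simp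
  set ρ : K := (k : K) * d' 1 with hρ
  have hdρ : d' 0 * ρ = d' 1 := by rw [hd0, hρ, ← mul_assoc, Units.inv_mul, one_mul]
  -- diagonal matrices and the root group
  have hcomm : ∀ (A : Matrix.SpecialLinearGroup (Fin (n + 1)) K) (e : Fin (n + 1) → K),
      (A : Matrix (Fin (n + 1)) (Fin (n + 1)) K) = Matrix.diagonal e → ∀ a b : K, e 0 * a = b * e 1 →
      A * T a = T b * A := by
    intro A e hA a b hab
    refine Subtype.ext ?_
    show (A : Matrix (Fin (n + 1)) (Fin (n + 1)) K) * _ = _ * (A : Matrix (Fin (n + 1)) (Fin (n + 1)) K)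
    rw [SpecialLinearGroup.transvection_coe, SpecialLinearGroup.transvection_coe, hA, mul_add, add_mul, mul_one, one_mul]
    congr 1
    ext i j
    rw [Matrix.diagonal_mul, Matrix.mul_diagonal, Matrix.single_apply, Matrix.single_apply]
    split_ifs with hij
    · obtain ⟨rfl, rfl⟩ := hij; exact hab
    · rw [mul_zero, zero_mul]
  have hTadd : ∀ a b : K, T a * T b = T (a + b) := fun a b =>
    Subtype.ext (Matrix.transvection_mul_transvection_same _ _ h01 a b)
  have hT0 : T 0 = 1 := SpecialLinearGroup.transvection_coeff_zero h01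
  have hxT : x = T 1 := Subtype.ext hx
  have hTinv : ∀ a : K, (T a)⁻¹ = T (-a) := fun a => inv_eq_of_mul_eq_one_right (by rw [hTadd, add_neg_cancel, hT0])
  have hg : x * w * h * (x * w)⁻¹ = h' * T (ρ - 1) := by
    have e1 : T 1 * h' = h' * T ρ := (hcomm h' d' hh'v ρ 1 (by rw [hdρ, one_mul])).symm
    calc x * w * h * (x * w)⁻¹ = x * h' * x⁻¹ := by rw [hh']; group
      _ = h' * T ρ * (T 1)⁻¹ := by rw [hxT, e1]
      _ = h' * T (ρ - 1) := by rw [hTinv, mul_assoc, hTadd, sub_eq_add_neg]
  have hk2 : ∀ a : K, h * T a = T ((k : K) ^ 2 * a) * h := fun a => hcomm h d hh a _ (by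
    simp only [d, h1, Fin.val_zero, if_true, one_ne_zero, if_false]
    rw [pow_two, mul_assoc (k : K) (k : K) a, mul_comm ((k : K) * ((k : K) * a)), ← mul_assoc, Units.inv_mul, one_mul])
  have hhh' : h * h' = h' * h := Subtype.ext (by
    show (h : Matrix (Fin (n + 1)) (Fin (n + 1)) K) * (h' : Matrix (Fin (n + 1)) (Fin (n + 1)) K) = (h' : Matrix (Fin (n + 1)) (Fin (n + 1)) K) * (h : Matrix (Fin (n + 1)) (Fin (n + 1)) K)
    rw [hh, hh'v, Matrix.diagonal_mul_diagonal, Matrix.diagonal_mul_diagonal]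
    exact congrArg Matrix.diagonal (funext fun i => mul_comm _ _))
  set b : K := ((k : K) ^ 2 - 1) * (ρ - 1) with hb
  have hbH : T b ∈ H := by
    have hgH : h' * T (ρ - 1) ∈ H := hg ▸ H.mul_mem (H.mul_mem hyH hhH) (H.inv_mem hyH)
    have e2 : (h' * T (ρ - 1))⁻¹ * (h * (h' * T (ρ - 1)) * h⁻¹) = T b := by
      rw [← mul_assoc h, hhh', mul_assoc h' h, hk2]
      rw [_root_.mul_inv_rev, hTinv]
      simp only [mul_assoc, mul_inv_cancel, mul_one, inv_mul_cancel_left]
      rw [hTadd, hb]
      congr 1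
      ring
    exact e2 ▸ H.mul_mem (H.inv_mem hgH) (H.mul_mem (H.mul_mem hhH hgH) (H.inv_mem hhH))
  have hord : orderOf k = Fintype.card K - 1 := by
    rw [orderOf_eq_card_of_forall_mem_zpowers hk, Nat.card_units, Nat.card_eq_fintype_card]
  have hk1 : (k : K) ^ 2 ≠ 1 ∧ (k : K) ≠ 1 := by
    have hne : ∀ m, 0 < m → m < 3 → (k : K) ^ m ≠ 1 := fun m h0 h3 e => by
      have := Nat.le_of_dvd h0 (orderOf_dvd_of_pow_eq_one (n := m) (Units.ext (by rw [Units.val_pow_eq_pow_val]; exact e) : k ^ m = 1))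
      omega
    exact ⟨hne 2 (by omega) (by omega), by simpa using hne 1 (by omega) (by omega)⟩
  have hb0 : b ≠ 0 := by
    refine mul_ne_zero (sub_ne_zero.2 hk1.1) (sub_ne_zero.2 ?_)
    rw [hρ]
    by_cases hn1 : 1 < n
    · simp only [d', h1, dif_pos hn1, d]
      simp [hk1.2]
    · simp only [d', h1, dif_neg hn1, d]
      simpa [pow_two] using hk1.1
  let S : AddSubgroup K :=
    { carrier := {a | T (b * a) ∈ H}
      zero_mem' := by show T (b * 0) ∈ H; rw [mul_zero, hT0]; exact H.one_mem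
      add_mem' := fun {u v} hu hv => by show T (b * (u + v)) ∈ H; rw [mul_add, ← hTadd]; exact H.mul_mem hu hv
      neg_mem' := fun {u} hu => by show T (b * -u) ∈ H; rw [mul_neg, ← hTinv]; exact H.inv_mem hu }
  have hsq : ∀ s : K, s ^ 2 ∈ S := by
    intro s
    rcases eq_or_ne s 0 with rfl | hs
    · rw [zero_pow two_ne_zero]; exact S.zero_mem
    obtain ⟨j, hj⟩ := (mem_powers_iff_mem_zpowers.2 (hk (Units.mk0 s hs)) : Units.mk0 s hs ∈ Submonoid.powers k)
    have hs' : s = (k : K) ^ j := by rw [← Units.val_pow_eq_pow_val, show k ^ j = Units.mk0 s hs from hj, Units.val_mk0]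
    subst hs'
    clear hj hs
    induction j with
    | zero => show T (b * ((k : K) ^ 0) ^ 2) ∈ H; rw [pow_zero, one_pow, mul_one]; exact hbH
    | succ j ih =>
      show T (b * ((k : K) ^ (j + 1)) ^ 2) ∈ H
      rw [show b * ((k : K) ^ (j + 1)) ^ 2 = (k : K) ^ 2 * (b * ((k : K) ^ j) ^ 2) by ring,
        show T ((k : K) ^ 2 * (b * ((k : K) ^ j) ^ 2)) = h * T (b * ((k : K) ^ j) ^ 2) * h⁻¹ by rw [hk2, mul_inv_cancel_right]]
      exact H.mul_mem (H.mul_mem hhH ih) (H.inv_mem hhH)
  have hall : ∀ a : K, T a ∈ H := by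
    intro a
    have : a / b ∈ S := by
      by_cases h2 : (2 : K) = 0
      · have hc : ringChar K = 2 := ((Nat.prime_dvd_prime_iff_eq (CharP.char_is_prime K (ringChar K)) Nat.prime_two).1 (ringChar.dvd (by exact_mod_cast h2)))
        obtain ⟨s, hs⟩ := FiniteField.isSquare_of_char_two hc (a / b)
        rw [hs, ← pow_two]
        exact hsq s
      · rw [show a / b = ((a / b + 1) / 2) ^ 2 - ((a / b - 1) / 2) ^ 2 by field_simp; ring]
        exact S.sub_mem (hsq _) (hsq _)
    have h3 : T (b * (a / b)) ∈ H := this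
    rwa [mul_div_cancel₀ _ hb0] at h3
  have hwH : w ∈ H := by
    have h4 := H.mul_mem (H.inv_mem (hxT ▸ hall 1)) hyH
    rwa [inv_mul_cancel_left] at h4
  rw [Cfsg.Agent.Struct.CycleGenSL.eq_top hn H w hw hwH (fun _ a => hall a), top_sup_eq]

end Cfsg.Agent.S2402
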