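import Cfsg.Statements.S2403
import Cfsg.Agent.Lib.Struct.CycleGenSL

set_option autoImplicit false
open Cfsg
open Matrix

namespace Cfsg.Agent.S2403

/-- Explicit two-element generation of `PSL_{n+1}(K)` over the fields with two or three elements: with `x = 1 + E₁₂` and `w` the monomial matrix with entries `1` in positions `(i, i+1)` and `(−1)^n` in position `(n+1, 1)`, the elements `x` and `w` generate `SL_{n+1}(K)` modulo its centre. -/
theorem result {K : Type*} [Field K] [Fintype K] (hK : Fintype.card K ≤ 3) (n : ℕ) (hn : 1 ≤ n)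
    (x w : Matrix.SpecialLinearGroup (Fin (n + 1)) K)
    (hx : (x : Matrix (Fin (n + 1)) (Fin (n + 1)) K) = Matrix.transvection (0 : Fin (n + 1)) (1 : Fin (n + 1)) 1)
    (hw : (w : Matrix (Fin (n + 1)) (Fin (n + 1)) K) =
      Matrix.of (fun i j => if j.val = i.val + 1 then 1 else if i.val = n ∧ j.val = 0 then (-1) ^ n else 0)) :
    Subgroup.closure ({x, w} : Set (Matrix.SpecialLinearGroup (Fin (n + 1)) K)) ⊔
      Subgroup.center (Matrix.SpecialLinearGroup (Fin (n + 1)) K) = ⊤ := by
  classical
  rw [Cfsg.Agent.Struct.CycleGenSL.eq_top hn (Subgroup.closure {x, w}) w hw (Subgroup.subset_closure (by simp)) ?_, top_sup_eq]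
  intro h01 a
  have hpow : ∀ j : ℕ, SpecialLinearGroup.transvection h01 (j : K) = x ^ j := by
    intro j
    induction j with
    | zero => rw [Nat.cast_zero, SpecialLinearGroup.transvection_coeff_zero, pow_zero]
    | succ j ih =>
      refine Subtype.ext ?_
      rw [pow_succ, ← ih, Nat.cast_succ]
      show _ = _ * (x : Matrix (Fin (n + 1)) (Fin (n + 1)) K)
      rw [hx]
      exact (Matrix.transvection_mul_transvection_same _ _ h01 _ _).symm
  obtain ⟨j, rfl⟩ : ∃ j : ℕ, (j : K) = a := by
    obtain ⟨p, hp⟩ := CharP.exists K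
    haveI := hp
    haveI : Fact p.Prime := ⟨CharP.char_is_prime K p⟩
    obtain ⟨e, -, he⟩ := FiniteField.card K p
    have hb : Function.Bijective (ZMod.castHom dvd_rfl K : ZMod p →+* K) := by
      refine (Fintype.bijective_iff_injective_and_card _).2 ⟨(ZMod.castHom dvd_rfl K : ZMod p →+* K).injective, ?_⟩
      rw [ZMod.card, he]
      have h2 := (Fact.out : p.Prime).two_le
      rcases Nat.lt_or_ge (e : ℕ) 2 with h | h
      · rw [show (e : ℕ) = 1 by have := e.pos; omega, pow_one]
      · have h3 := Nat.pow_le_pow_right (by omega : 0 < p) h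
        have h4 := Nat.pow_le_pow_left h2 2
        omega
    obtain ⟨z, hz⟩ := hb.2 a
    exact ⟨z.val, by rw [← hz, ← map_natCast (ZMod.castHom dvd_rfl K : ZMod p →+* K), ZMod.natCast_zmod_val]⟩
  rw [hpow]
  exact pow_mem (Subgroup.subset_closure (by simp)) j

end Cfsg.Agent.S2403
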