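import Cfsg.Statements.S2416
import Cfsg.Agent.Lib.Chev.GenNData

set_option autoImplicit false
open scoped MatrixGroups
open Cfsg

namespace Cfsg.Agent.S2416

theorem three_ne {K : Type*} [Field K] (h : ringChar K ≠ 3) : (3 : K) ≠ 0 := by
  intro e
  have h' : ((3 : ℕ) : K) = 0 := by exact_mod_cast e
  rcases (Nat.dvd_prime Nat.prime_three).mp ((ringChar.spec K 3).mp h') with h1 | h1
  · exact CharP.ringChar_ne_one h1
  · exact h h1

/-- A Chevalley group of type G₂, B₂, D₄, F₄, E₆, E₇ or E₈ over a finite field lies in (indeed equals) the subgroup generated by its monomial subgroup `N` and a single fundamental root subgroup `X_p`, where `p` is a short fundamental root if there are two root lengths (any fundamental root otherwise), provided the characteristic is not 2 for types B₂, F₄ and not 3 for type G₂ (and the field has more than two elements for B₂, G₂). -/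
theorem result {K : Type*} [Field K] [Finite K] (D : Cfsg.Lie.ChevalleyDatum) (hD : D ∈ [Cfsg.Lie.chevG2, Cfsg.Lie.chevB2, Cfsg.Lie.chevD4, Cfsg.Lie.chevF4, Cfsg.Lie.chevE6, Cfsg.Lie.chevE7, Cfsg.Lie.chevE8])
    (hK : D ∈ [Cfsg.Lie.chevB2, Cfsg.Lie.chevG2] → ∃ x : K, x ≠ 0 ∧ x ≠ 1)
    (h2 : D ∈ [Cfsg.Lie.chevB2, Cfsg.Lie.chevF4] → ringChar K ≠ 2) (h3 : D = Cfsg.Lie.chevG2 → ringChar K ≠ 3)
    (i : ℕ) (hi : i < D.rank) (hshort : D.isLong (D.simple i) = false) :
    D.group K ≤ D.monomialSubgroup K ⊔ D.rootSubgroup K (D.simple i) := by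
  simp only [List.mem_cons, List.not_mem_nil, or_false] at hD
  rcases hD with rfl | rfl | rfl | rfl | rfl | rfl | rfl
  · exact Cfsg.Agent.Chev.G2.okx.group_le_gen Cfsg.Agent.Chev.G2.gens_ok (by simpa using three_ne (h3 rfl)) (Cfsg.Agent.Chev.G2.short_nodes i hi hshort)
  · exact Cfsg.Agent.Chev.B2.okx.group_le_gen Cfsg.Agent.Chev.B2.gens_ok (by simpa using Ring.two_ne_zero (h2 (by simp))) (Cfsg.Agent.Chev.B2.short_nodes i hi hshort)
  · exact Cfsg.Agent.Chev.D4.okx.group_le_gen Cfsg.Agent.Chev.D4.gens_ok (by simp) (Cfsg.Agent.Chev.D4.short_nodes i hi hshort)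
  · exact Cfsg.Agent.Chev.F4.okx.group_le_gen Cfsg.Agent.Chev.F4.gens_ok (by simpa using Ring.two_ne_zero (h2 (by simp))) (Cfsg.Agent.Chev.F4.short_nodes i hi hshort)
  · exact Cfsg.Agent.Chev.E6.okx.group_le_gen Cfsg.Agent.Chev.E6.gens_ok (by simp) (Cfsg.Agent.Chev.E6.short_nodes i hi hshort)
  · exact Cfsg.Agent.Chev.E7.okx.group_le_gen Cfsg.Agent.Chev.E7.gens_ok (by simp) (Cfsg.Agent.Chev.E7.short_nodes i hi hshort)
  · exact Cfsg.Agent.Chev.E8.okx.group_le_gen Cfsg.Agent.Chev.E8.gens_ok (by simp) (Cfsg.Agent.Chev.E8.short_nodes i hi hshort)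

end Cfsg.Agent.S2416
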