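import Cfsg.Statements.S2418
import Cfsg.Agent.Lib.Chev.WeylData
import Cfsg.Agent.Lib.Chev.WeylCenter
-- import your own Cfsg.Agent.* helpers here

set_option autoImplicit false
open Cfsg

namespace Cfsg.Agent.S2418

/-- For the Coxeter groups of types B₂, G₂, D₄, F₄, E₇, E₈ the centre has order 2 (the element acting as −1 on the root system) and is generated by a power of the Coxeter element `s₁ s₂ ⋯ s_l`; the Coxeter group of type E₆ has trivial centre. -/
theorem result (c : (Σ n : ℕ, CoxeterMatrix (Fin n)) × ℕ)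
    (hc : c ∈ [(⟨2, CoxeterMatrix.B 2⟩, 2), (⟨2, CoxeterMatrix.G₂⟩, 2), (⟨4, Cfsg.Lie.coxeterD4⟩, 2), (⟨4, CoxeterMatrix.F₄⟩, 2),
      (⟨6, CoxeterMatrix.E₆⟩, 1), (⟨7, CoxeterMatrix.E₇⟩, 2), (⟨8, CoxeterMatrix.E₈⟩, 2)]) :
    Nat.card (Subgroup.center c.1.2.Group) = c.2 ∧
      Subgroup.center c.1.2.Group ≤ Subgroup.zpowers ((List.finRange c.1.1).map c.1.2.simple).prod := by
  suffices h : ∀ (D : Lie.ChevalleyDatum) (T : Chev.Tabs) (M : CoxeterMatrix (Fin D.rank)) (n : ℕ),
      Chev.OKX D T → Chev.CoxOK D T M → 0 < D.rank → Chev.Tabs.chkOwn D T = true → ∀ o : List ℕ, Chev.Tabs.chkLink D T o = true →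
      (∀ k : Fin D.rank, Chev.piW T ((List.replicate n (List.finRange D.rank)).flatten.map Fin.val) (T.smp k.val) =
        T.neg (T.smp k.val)) →
      (∀ i : Fin D.rank, Chev.Tabs.eqW D T (i.val :: (List.replicate n (List.finRange D.rank)).flatten.map Fin.val)
        ((List.replicate n (List.finRange D.rank)).flatten.map Fin.val ++ [i.val]) = true) →
      Nat.card (Subgroup.center M.Group) = 2 ∧
        Subgroup.center M.Group ≤ Subgroup.zpowers ((List.finRange D.rank).map M.simple).prod by
    simp only [List.mem_cons, List.not_mem_nil, or_false] at hc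
    rcases hc with rfl | rfl | rfl | rfl | rfl | rfl | rfl
    · exact h _ _ _ 2 Chev.B2.okx Chev.B2.coxOK (by decide) (by decide +kernel) [] (by decide +kernel)
        (by decide +kernel) (by decide +kernel)
    · exact h _ _ _ 3 Chev.G2.okx Chev.G2.coxOK (by decide) (by decide +kernel) [] (by decide +kernel)
        (by decide +kernel) (by decide +kernel)
    · exact h _ _ _ 3 Chev.D4.okx Chev.D4.coxOK (by decide) (by decide +kernel) [] (by decide +kernel)
        (by decide +kernel) (by decide +kernel)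
    · exact h _ _ _ 6 Chev.F4.okx Chev.F4.coxOK (by decide) (by decide +kernel) [] (by decide +kernel)
        (by decide +kernel) (by decide +kernel)
    · have hb := Chev.E6.okx.center_eq_bot Chev.E6.coxOK (by decide +kernel) (o := [0, 10]) (by decide +kernel)
        (w₀ := [0, 1, 2, 0, 3, 1, 2, 0, 3, 2, 4, 3, 1, 2, 0, 3, 2, 4, 3, 1, 5, 4, 3, 1, 2, 0, 3, 2, 4, 3, 1, 5, 4, 3, 2, 0])
        (by decide) (by decide +kernel) (i := (0 : Fin 6)) (by decide +kernel)
      refine ⟨?_, ?_⟩
      · show Nat.card ↥(Subgroup.center (CoxeterMatrix.Group CoxeterMatrix.E₆)) = 1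
        exact Subgroup.card_eq_one.mpr hb
      · exact hb.le.trans bot_le
    · exact h _ _ _ 9 Chev.E7.okx Chev.E7.coxOK (by decide) (by decide +kernel) [0, 10] (by decide +kernel)
        (by decide +kernel) (by decide +kernel)
    · exact h _ _ _ 15 Chev.E8.okx Chev.E8.coxOK (by decide) (by decide +kernel) [0, 10] (by decide +kernel)
        (by decide +kernel) (by decide +kernel)
  intro D T M n ok hM h0 hown o hlink hu hcom
  obtain ⟨hcard, hcen⟩ := ok.center_of_negation hM hown hlink _ h0 hu hcom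
  refine ⟨hcard, fun g hg => ?_⟩
  rcases hcen g hg with rfl | rfl
  · exact one_mem _
  · rw [Chev.wprod_replicate]
    exact pow_mem (Subgroup.mem_zpowers _) n

end Cfsg.Agent.S2418
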