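import Cfsg.Statements.S2419
import Cfsg.Agent.Lib.Chev.WeylData
import Cfsg.Agent.Lib.Chev.WeylGen
-- import your own Cfsg.Agent.* helpers here

set_option autoImplicit false
open Cfsg

namespace Cfsg.Agent.S2419

/-- The Coxeter groups of types B₂, G₂, E₆, E₇, E₈ are generated by the Coxeter element `s₁ s₂ ⋯ s_l` together with one suitable reflection (a conjugate of a simple reflection); for types D₄ and F₄ the Coxeter element together with two suitable reflections suffices. -/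
theorem result (c : (Σ n : ℕ, CoxeterMatrix (Fin n)) × ℕ)
    (hc : c ∈ [(⟨2, CoxeterMatrix.B 2⟩, 1), (⟨2, CoxeterMatrix.G₂⟩, 1), (⟨4, Cfsg.Lie.coxeterD4⟩, 2), (⟨4, CoxeterMatrix.F₄⟩, 2),
      (⟨6, CoxeterMatrix.E₆⟩, 1), (⟨7, CoxeterMatrix.E₇⟩, 1), (⟨8, CoxeterMatrix.E₈⟩, 1)]) :
    ∃ T : Finset c.1.2.Group, T.card = c.2 ∧ (∀ t ∈ T, ∃ (g : c.1.2.Group) (i : Fin c.1.1), t = g * c.1.2.simple i * g⁻¹) ∧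
      Subgroup.closure (({((List.finRange c.1.1).map c.1.2.simple).prod} : Set c.1.2.Group) ∪ ↑T) = ⊤ := by
  suffices h : ∀ (D : Lie.ChevalleyDatum) (T : Chev.Tabs) (M : CoxeterMatrix (Fin D.rank)) (k : ℕ),
      Chev.OKX D T → Chev.CoxOK D T M → ∀ (ts : List (List ℕ × Fin D.rank)) (prog : List (List ℕ × List ℕ)),
      ts.length = k → (∀ t ∈ ts, ∀ a ∈ t.1, a < D.rank) →
      (ts.Pairwise fun s t =>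
        Chev.Tabs.eqW D T (s.1 ++ s.2.val :: s.1.reverse) (t.1 ++ t.2.val :: t.1.reverse) = false) →
      Chev.Tabs.chkProg D T prog ((List.finRange D.rank).map Fin.val :: ((List.finRange D.rank).map Fin.val).reverse ::
        ts.map fun t => t.1 ++ t.2.val :: t.1.reverse) = true →
      ∃ S : Finset M.Group, S.card = k ∧ (∀ t ∈ S, ∃ (g : M.Group) (i : Fin D.rank), t = g * M.simple i * g⁻¹) ∧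
        Subgroup.closure (({((List.finRange D.rank).map M.simple).prod} : Set M.Group) ∪ ↑S) = ⊤ by
    simp only [List.mem_cons, List.not_mem_nil, or_false] at hc
    rcases hc with rfl | rfl | rfl | rfl | rfl | rfl | rfl
    · exact h _ _ _ _ Chev.B2.okx Chev.B2.coxOK [([], (0 : Fin 2))]
        [([1], [2, 0])] rfl (by decide) (by decide +kernel) (by decide +kernel)
    · exact h _ _ _ _ Chev.G2.okx Chev.G2.coxOK [([], (0 : Fin 2))]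
        [([1], [2, 0])] rfl (by decide) (by decide +kernel) (by decide +kernel)
    · exact h _ _ _ _ Chev.D4.okx Chev.D4.coxOK [([], (0 : Fin 4)), ([], (2 : Fin 4))]
        [([1], [0, 2, 1]), ([2, 1, 0, 1, 2], [0, 3, 1]), ([2, 1, 2], [2, 5, 2]), ([3], [0, 6, 1])] rfl (by decide) (by decide +kernel) (by decide +kernel)
    · exact h _ _ _ _ Chev.F4.okx Chev.F4.coxOK [([], (0 : Fin 4)), ([], (2 : Fin 4))]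
        [([1], [0, 2, 1]), ([3], [0, 3, 1])] rfl (by decide) (by decide +kernel) (by decide +kernel)
    · exact h _ _ _ _ Chev.E6.okx Chev.E6.coxOK [([], (0 : Fin 6))]
        [([2], [0, 2, 1]), ([2, 0, 2], [2, 3, 2]), ([3, 1, 3], [0, 3, 1]), ([2, 3, 1, 3, 2], [0, 4, 1]), ([4, 3, 2, 0, 2, 3, 4], [0, 5, 1]), ([3, 4, 1, 3, 2, 0, 2, 3, 1, 4, 3], [0, 6, 1]), ([4, 3, 2, 3, 4], [2, 7, 2]), ([3, 4, 2, 3, 1, 3, 2, 4, 3], [2, 8, 2]), ([4, 3, 4], [3, 9, 3]), ([5, 4, 2, 3, 1, 3, 2, 4, 5], [0, 7, 1]), ([5, 4, 3, 1, 3, 4, 5], [0, 9, 1]), ([4, 5, 3, 4, 1, 3, 2, 0, 2, 3, 1, 4, 3, 5, 4], [0, 10, 1]), ([5, 4, 5], [0, 11, 1]), ([3], [0, 12, 1]), ([1], [0, 13, 1]), ([5, 4, 3, 2, 3, 4, 5], [0, 14, 1]), ([4, 1, 3, 2, 0, 2, 3, 1, 4], [0, 15, 1]), ([5, 4, 3, 2, 0, 2, 3, 4, 5], [2, 18, 2]), ([4, 2,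 3, 1, 3, 2, 4], [2, 19, 2]), ([4, 3, 1, 3, 4], [3, 21, 3]), ([4], [5, 22, 5]), ([5], [7, 20, 7])] rfl (by decide) (by decide +kernel) (by decide +kernel)
    · exact h _ _ _ _ Chev.E7.okx Chev.E7.coxOK [([], (1 : Fin 7))]
        [([3, 2, 0, 2, 3], [0, 2, 1]), ([1, 3, 2, 0, 2, 3, 1], [2, 3, 2]), ([4, 2, 3, 1, 3, 2, 4], [0, 3, 1]), ([2, 3, 4, 1, 3, 2, 0, 2, 3, 1, 4, 3, 2], [0, 4, 1]), ([4, 3, 2, 3, 4], [2, 5, 2]), ([5, 3, 4, 1, 3, 2, 0, 2, 3, 1, 4, 3, 5], [0, 5, 1]), ([1, 3, 4, 5, 2, 3, 4, 1, 3, 2, 0, 2, 3, 1, 4, 3, 2, 5, 4, 3, 1], [0, 6, 1]), ([5, 4, 3, 1, 3, 4, 5], [0, 7, 1]), ([3, 4, 5, 2, 3, 4, 1, 3, 2, 0, 2, 3, 1, 4, 3, 2, 5, 4, 3], [2, 9, 2]), ([5, 4, 3, 4, 5], [2, 10, 2]), ([4, 5, 3, 4, 2, 3, 1, 3, 2, 4, 3, 5, 4], [3, 11, 3]), ([6, 5, 4, 3, 2, 0, 2, 3, 4, 5, 6], [0, 10,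 1]), ([4, 5, 6, 1, 3, 4, 5, 2, 3, 4, 1, 3, 2, 0, 2, 3, 1, 4, 3, 2, 5, 4, 3, 1, 6, 5, 4], [0, 11, 1]), ([6, 5, 4, 5, 6], [0, 12, 1]), ([5, 6, 4, 5, 3, 4, 1, 3, 2, 0, 2, 3, 1, 4, 3, 5, 4, 6, 5], [0, 13, 1]), ([4, 5, 6, 3, 4, 5, 2, 3, 4, 1, 3, 2, 0, 2, 3, 1, 4, 3, 2, 5, 4, 3, 6, 5, 4], [2, 15, 2]), ([0], [0, 14, 1]), ([4, 1, 3, 2, 0, 2, 3, 1, 4], [0, 16, 1]), ([6, 5, 4, 3, 2, 3, 4, 5, 6], [0, 17, 1]), ([5, 6, 4, 5, 3, 4, 2, 3, 1, 3, 2, 4, 3, 5, 4, 6, 5], [0, 18, 1]), ([4, 3, 2, 0, 2, 3, 4], [2, 20, 2]), ([6, 5, 4, 2, 3, 1, 3, 2, 4, 5, 6], [2, 21, 2]), ([4], [3, 23, 3]), ([2], [0, 19, 1]), ([6, 5, 4, 3, 4, 5, 6], [0, 22, 1]), ([3], [0, 24, 1]), ([5], [0, 25, 1]), ([6, 5, 4, 3, 1, 3, 4, 5, 6], [2, 27, 2]), ([6, 5, 3, 4, 1, 3, 2, 0, 2, 3, 1, 4, 3, 5, 6], [3, 30, 3]), ([6], [8, 31, 8])]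 rfl (by decide) (by decide +kernel) (by decide +kernel)
    · exact h _ _ _ _ Chev.E8.okx Chev.E8.coxOK [([], (0 : Fin 8))]
        [([2], [0, 2, 1]), ([2, 0, 2], [2, 3, 2]), ([3, 1, 3], [0, 3, 1]), ([2, 3, 1, 3, 2], [0, 4, 1]), ([4, 3, 2, 0, 2, 3, 4], [0, 5, 1]), ([3, 4, 1, 3, 2, 0, 2, 3, 1, 4, 3], [0, 6, 1]), ([4, 3, 2, 3, 4], [2, 7, 2]), ([3, 4, 2, 3, 1, 3, 2, 4, 3], [2, 8, 2]), ([4, 3, 4], [3, 9, 3]), ([5, 4, 2, 3, 1, 3, 2, 4, 5], [0, 7, 1]), ([5, 4, 3, 1, 3, 4, 5], [0, 9, 1]), ([4, 5, 3, 4, 1, 3, 2, 0, 2, 3, 1, 4, 3, 5, 4], [0, 10, 1]), ([5, 4, 5], [0, 11, 1]), ([4, 5, 3, 4, 2, 3, 1, 3, 2, 4, 3, 5, 4], [2, 14, 2]), ([6, 5, 3, 4, 1, 3, 2, 0, 2, 3, 1, 4, 3, 5, 6], [0, 12, 1]), ([6, 5, 4, 3, 2, 0, 2, 3, 4, 5, 6], [0, 13, 1]), ([6, 5, 6], [0, 15, 1]), ([5, 6, 4, 5, 3, 4, 1, 3,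 2, 0, 2, 3, 1, 4, 3, 5, 4, 6, 5], [0, 16, 1]), ([6, 5, 3, 4, 2, 3, 1, 3, 2, 4, 3, 5, 6], [2, 17, 2]), ([6, 5, 4, 3, 2, 3, 4, 5, 6], [2, 18, 2]), ([6, 5, 4, 3, 4, 5, 6], [3, 22, 3]), ([7, 6, 5, 4, 2, 3, 1, 3, 2, 4, 5, 6, 7], [0, 18, 1]), ([7, 6, 7], [0, 19, 1]), ([6, 7, 5, 6, 4, 5, 2, 3, 4, 1, 3, 2, 0, 2, 3, 1, 4, 3, 2, 5, 4, 6, 5, 7, 6], [0, 20, 1]), ([7, 6, 4, 5, 3, 4, 1, 3, 2, 0, 2, 3, 1, 4, 3, 5, 4, 6, 7], [0, 21, 1]), ([7, 6, 5, 4, 3, 1, 3, 4, 5, 6, 7], [0, 22, 1]), ([7, 6, 5, 4, 5, 6, 7], [0, 23, 1]), ([3], [0, 24, 1]), ([6, 5, 4, 1, 3, 2, 0, 2, 3, 1, 4, 5, 6], [0, 25, 1]), ([7, 6, 5, 3, 4, 2, 3, 1, 3, 2, 4, 3, 5, 6, 7], [0, 26, 1]), ([5, 4, 3, 2, 3, 4, 5], [0, 27, 1]), ([1], [0, 28, 1]), ([4, 1, 3, 2, 0, 2, 3, 1, 4], [0, 29, 1]), ([6, 5, 4, 2, 3, 1, 3, 2, 4, 5, 6], [2, 31,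 2]), ([7, 6, 5, 3, 4, 1, 3, 2, 0, 2, 3, 1, 4, 3, 5, 6, 7], [2, 32, 2]), ([5, 4, 3, 2, 0, 2, 3, 4, 5], [2, 33, 2]), ([4, 2, 3, 1, 3, 2, 4], [2, 35, 2]), ([4, 3, 1, 3, 4], [3, 39, 3]), ([4], [5, 40, 5]), ([5], [7, 38, 7]), ([6], [12, 36, 12]), ([7], [17, 37, 17])] rfl (by decide) (by decide +kernel) (by decide +kernel)
  intro D T M k ok hM ts prog hk hts hd hprog
  exact hk ▸ ok.exists_gens hM ts hts hd prog hprog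

end Cfsg.Agent.S2419
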