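import Cfsg.Statements.S2422
import Cfsg.Agent.S2420

set_option autoImplicit false
open scoped MatrixGroups
open Cfsg

namespace Cfsg.Agent.S2422

open scoped MatrixGroups
open Matrix

variable {n : ℕ}

theorem compLabel_card (μ : Fin n → ℕ) (hμ : ∑ i, μ i = n) (j : Fin n) :
    (Finset.univ.filter fun i => compLabel μ i = (j : ℕ)).card = μ j := by
  classical
  let E := finSigmaFinEquiv.trans (finCongr hμ)
  have h : (Finset.univ.filter fun i => compLabel μ i = (j : ℕ)) =
      Finset.univ.image (fun k : Fin (μ j) => E ⟨j, k⟩) := by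
    ext i
    obtain ⟨x, rfl⟩ := E.surjective i
    rw [Finset.mem_filter, Finset.mem_image, Cfsg.Agent.S2420.lab μ hμ x]
    constructor
    · rintro ⟨_, hx⟩
      obtain ⟨a, k⟩ := x
      obtain rfl : a = j := Fin.ext hx
      exact ⟨k, Finset.mem_univ _, rfl⟩
    · rintro ⟨k, _, hk⟩
      rw [← E.injective hk]
      exact ⟨Finset.mem_univ _, rfl⟩
  rw [h, Finset.card_image_of_injective, Finset.card_univ, Fintype.card_fin]
  intro a b hab
  simpa using E.injective hab

theorem compLabel_lt (μ : Fin n → ℕ) (hμ : ∑ i, μ i = n) (i : Fin n) : compLabel μ i < n := by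
  obtain ⟨x, rfl⟩ := (finSigmaFinEquiv.trans (finCongr hμ)).surjective i
  rw [Cfsg.Agent.S2420.lab μ hμ x]
  exact x.1.2

/-- Adjacent pairs on which the functional is nontrivial; `L` is good when it strictly decreases along them. -/
def Good (μ : Fin n → ℕ) (S : Finset (Fin n × Fin n)) (L : Fin n → ℕ) : Prop :=
  (∀ j : ℕ, (Finset.univ.filter fun i => L i = j).card = (Finset.univ.filter fun i => compLabel μ i = j).card) ∧
    ∀ p ∈ S, L p.2 < L p.1

variable {F : Type*} [Field F]

noncomputable def piv (V : Submodule F (Fin n → F)) : Finset (Fin n) := by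
  classical exact Finset.univ.filter fun i => ∃ v ∈ V, v i ≠ 0 ∧ ∀ k, i < k → v k = 0

theorem mem_piv {V : Submodule F (Fin n → F)} {i : Fin n} :
    i ∈ piv V ↔ ∃ v ∈ V, v i ≠ 0 ∧ ∀ k, i < k → v k = 0 := by
  classical simp [piv]

theorem card_piv (V : Submodule F (Fin n → F)) : (piv V).card = Module.finrank F V := by
  classical
  refine le_antisymm ?_ ?_
  · have hch : ∀ i : piv V, ∃ v : V, (v : Fin n → F) i ≠ 0 ∧ ∀ k, (i : Fin n) < k → (v : Fin n → F) k = 0 := fun i => by
      obtain ⟨v, hv, h1, h2⟩ := mem_piv.1 i.2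
      exact ⟨⟨v, hv⟩, h1, h2⟩
    choose v hv1 hv2 using hch
    have hli : LinearIndependent F v := by
      rw [Fintype.linearIndependent_iff]
      intro c hc
      by_contra hne
      push Not at hne
      obtain ⟨i, hi⟩ := hne
      obtain ⟨p, hp, hmax⟩ := (Finset.univ.filter fun i => c i ≠ 0).exists_max_image (fun i : piv V => (i : Fin n)) ⟨i, by simp [hi]⟩
      have h := congrFun (congrArg Subtype.val hc) (p : Fin n)
      simp only [AddSubmonoidClass.coe_finset_sum, Finset.sum_apply, SetLike.val_smul, Pi.smul_apply, smul_eq_mul] at h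
      rw [Finset.sum_eq_single p] at h
      · exact mul_ne_zero (by simpa using hp) (hv1 p) (by simpa using h)
      · intro b _ hb
        by_cases hcb : c b = 0
        · rw [hcb, zero_mul]
        · rw [hv2 b p (lt_of_le_of_ne (hmax b (by simp [hcb])) fun e => hb (Subtype.ext e)), mul_zero]
      · simp
    simpa using hli.fintype_card_le_finrank
  · let r : V →ₗ[F] (piv V → F) := (LinearMap.funLeft F F (fun i : piv V => (i : Fin n))).comp V.subtype
    have hr : Function.Injective r := by
      rw [← LinearMap.ker_eq_bot, LinearMap.ker_eq_bot']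
      intro v hv
      by_contra hne
      have hne' : (Finset.univ.filter fun i => (v : Fin n → F) i ≠ 0).Nonempty := by
        obtain ⟨i, hi⟩ := Function.ne_iff.1 (fun e => hne (Subtype.ext e) : (v : Fin n → F) ≠ 0)
        exact ⟨i, by simpa using hi⟩
      obtain ⟨i, hi, hmax⟩ := Finset.exists_max_image _ id hne'
      have hi' : (v : Fin n → F) i ≠ 0 := by simpa using hi
      refine hi' ?_
      have hip : i ∈ piv V := mem_piv.2 ⟨v, v.2, hi', fun k hk => by
        by_contra hk'
        exact absurd (hmax k (by simpa using hk')) (not_le.2 hk)⟩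
      exact congrFun hv ⟨i, hip⟩
    have h := LinearMap.finrank_le_finrank_of_injective hr
    simpa using h

/-- Coordinate subspace of the labels below `j`. -/
def coordSub (c : Fin n → ℕ) (j : ℕ) : Submodule F (Fin n → F) where
  carrier := {x | ∀ k, j ≤ c k → x k = 0}
  add_mem' := fun {a b} ha hb k hk => by simp [ha k hk, hb k hk]
  zero_mem' := fun _ _ => rfl
  smul_mem' := fun r {a} ha k hk => by simp [ha k hk]

variable [Fintype F]

/-- Upper unitriangular matrices. -/
def UU (n : ℕ) (F : Type*) [Field F] [Fintype F] : Subgroup (GL (Fin n) F) :=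
  let M : Submonoid (GL (Fin n) F) :=
    { carrier := {g | (∀ i, (g : Matrix (Fin n) (Fin n) F) i i = 1) ∧ ∀ i j, j < i → (g : Matrix (Fin n) (Fin n) F) i j = 0}
      one_mem' := ⟨fun i => by simp, fun i j h => by simp [h.ne']⟩
      mul_mem' := fun {a b} ⟨ha1, ha2⟩ ⟨hb1, hb2⟩ => by
        refine ⟨fun i => ?_, fun i j hji => ?_⟩
        · rw [Matrix.GeneralLinearGroup.coe_mul, Matrix.mul_apply, Finset.sum_eq_single i]
          · rw [ha1, hb1, mul_one]
          · intro k _ hk
            rcases lt_or_gt_of_ne hk with h | h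
            · rw [ha2 i k h, zero_mul]
            · rw [hb2 k i h, mul_zero]
          · simp
        · rw [Matrix.GeneralLinearGroup.coe_mul, Matrix.mul_apply]
          refine Finset.sum_eq_zero fun k _ => ?_
          rcases lt_or_ge k i with h | h
          · rw [ha2 i k h, zero_mul]
          · rw [hb2 k j (lt_of_lt_of_le hji h), mul_zero] }
  { M with
    inv_mem' := fun {g} hg => by
      rw [inv_eq_of_mul_eq_one_right (show g * g ^ (orderOf g - 1) = 1 by
        rw [← pow_succ', Nat.sub_add_cancel (orderOf_pos g), pow_orderOf_eq_one])]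
      exact M.pow_mem hg _ }

theorem mem_UU {g : GL (Fin n) F} :
    g ∈ UU n F ↔ (∀ i, (g : Matrix (Fin n) (Fin n) F) i i = 1) ∧ ∀ i j, j < i → (g : Matrix (Fin n) (Fin n) F) i j = 0 :=
  Iff.rfl

/-- The character of the unitriangular group given by `φ` and the adjacent pairs `S`. -/
noncomputable def psi (φ : AddChar F ℂ) (S : Finset (Fin n × Fin n)) (u : UU n F) : ℂ :=
  φ (∑ p ∈ S, ((u : GL (Fin n) F) : Matrix (Fin n) (Fin n) F) p.1 p.2)

theorem psi_mul (φ : AddChar F ℂ) {S : Finset (Fin n × Fin n)} (hS : ∀ p ∈ S, (p.2 : ℕ) = p.1 + 1) (u v : UU n F) :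
    psi φ S (u * v) = psi φ S u * psi φ S v := by
  unfold psi
  rw [← AddChar.map_add_eq_mul, ← Finset.sum_add_distrib]
  congr 1
  refine Finset.sum_congr rfl fun p hp => ?_
  obtain ⟨hu1, hu2⟩ := mem_UU.1 u.2
  obtain ⟨hv1, hv2⟩ := mem_UU.1 v.2
  have hlt : p.1 < p.2 := by have := hS p hp; rw [Fin.lt_def]; omega
  rw [Subgroup.coe_mul, Matrix.GeneralLinearGroup.coe_mul, Matrix.mul_apply, Fintype.sum_eq_add p.1 p.2 hlt.ne]
  · rw [hu1, hv1, one_mul, mul_one, add_comm]
  · rintro k ⟨hk1, hk2⟩
    rcases lt_or_gt_of_ne hk1 with h | h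
    · rw [hu2 p.1 k h, zero_mul]
    · have : p.2 < k := by
        have h1 := hS p hp
        have h2 : (k : ℕ) ≠ p.2 := fun e => hk2 (Fin.ext e)
        rw [Fin.lt_def] at h ⊢; omega
      rw [hv2 k p.2 this, mul_zero]

theorem exists_good (φ : AddChar F ℂ) (t : F) (ht : φ t ≠ 1) {S : Finset (Fin n × Fin n)}
    (hS : ∀ p ∈ S, (p.2 : ℕ) = p.1 + 1) (μ : Fin n → ℕ) (hμ : ∑ i, μ i = n) (g : GL (Fin n) F)
    (h : ∀ u : UU n F, g⁻¹ * (u : GL (Fin n) F) * g ∈ parabolicGL n F μ → psi φ S u = 1) :
    ∃ L, Good μ S L := by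
  classical
  set c := compLabel μ
  have hginj : Function.Injective (Matrix.mulVecLin (g : Matrix (Fin n) (Fin n) F)) := fun a b hab => by
    have h' := congrArg (fun v => ((g⁻¹ : GL (Fin n) F) : Matrix (Fin n) (Fin n) F) *ᵥ v) hab
    simpa [Matrix.mulVecLin_apply, Matrix.mulVec_mulVec, ← Matrix.GeneralLinearGroup.coe_mul] using h'
  set V : ℕ → Submodule F (Fin n → F) := fun j => (coordSub c j).map (Matrix.mulVecLin (g : Matrix (Fin n) (Fin n) F)) with hV
  have hmemV : ∀ j v, v ∈ V j ↔ ((g⁻¹ : GL (Fin n) F) : Matrix (Fin n) (Fin n) F) *ᵥ v ∈ coordSub (F := F) c j := by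
    intro j v
    constructor
    · rintro ⟨x, hx, rfl⟩
      simpa [Matrix.mulVecLin_apply, Matrix.mulVec_mulVec, ← Matrix.GeneralLinearGroup.coe_mul] using hx
    · intro hx
      refine ⟨_, hx, ?_⟩
      simp [Matrix.mulVecLin_apply, Matrix.mulVec_mulVec, ← Matrix.GeneralLinearGroup.coe_mul]
  have hmono : ∀ {j j'}, j ≤ j' → V j ≤ V j' := fun {j j'} hjj v hv => by
    rw [hmemV] at hv ⊢
    exact fun k hk => hv k (hjj.trans hk)
  have hpiv : ∀ {j j'}, j ≤ j' → piv (V j) ⊆ piv (V j') := fun hjj i hi => by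
    obtain ⟨v, hv, hv'⟩ := mem_piv.1 hi
    exact mem_piv.2 ⟨v, hmono hjj hv, hv'⟩
  have hcard : ∀ j, (piv (V j)).card = (Finset.univ.filter fun k => c k < j).card := by
    intro j
    have e1 : piv (coordSub (F := F) c j) = Finset.univ.filter fun k => c k < j := by
      ext i
      rw [mem_piv, Finset.mem_filter]
      refine ⟨fun ⟨v, hv, hvi, _⟩ => ⟨Finset.mem_univ _, not_le.1 fun hle => hvi (hv i hle)⟩, fun ⟨_, hi⟩ => ?_⟩
      refine ⟨Pi.single i 1, fun k hk => ?_, by simp, fun k hk => ?_⟩
      · have : k ≠ i := fun e => by subst e; omega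
        simp [this]
      · simp [hk.ne']
    rw [card_piv, ← e1, card_piv]
    exact (Submodule.equivMapOfInjective _ hginj _).finrank_eq.symm
  have hex : ∀ i : Fin n, ∃ j, i ∈ piv (V (j + 1)) := fun i => ⟨n, mem_piv.2 ⟨Pi.single i 1, (hmemV _ _).2 fun k hk => by
    have : c k < n := compLabel_lt μ hμ k; omega, by simp, fun k hk => by simp [hk.ne']⟩⟩
  set L : Fin n → ℕ := fun i => Nat.find (hex i) with hL
  have hL1 : ∀ i j, L i < j ↔ i ∈ piv (V j) := by
    intro i j
    constructor
    · intro hlt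
      exact hpiv hlt (Nat.find_spec (hex i))
    · intro hi
      rcases j with _ | j
      · exfalso
        obtain ⟨v, hv, hvi, _⟩ := mem_piv.1 hi
        refine hvi ?_
        have h0 : ((g⁻¹ : GL (Fin n) F) : Matrix (Fin n) (Fin n) F) *ᵥ v = 0 := funext fun k => (hmemV 0 v).1 hv k (Nat.zero_le _)
        have h1 := congrArg (fun v => (g : Matrix (Fin n) (Fin n) F) *ᵥ v) h0
        simp [Matrix.mulVec_mulVec, ← Matrix.GeneralLinearGroup.coe_mul] at h1
        rw [h1]; rfl
      · exact Nat.lt_succ_of_le (Nat.find_min' (hex i) hi)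
  refine ⟨L, fun j => ?_, fun p hp => ?_⟩
  · have h1 : ∀ j, (Finset.univ.filter fun i => L i < j).card = (Finset.univ.filter fun k => c k < j).card := fun j => by
      rw [← hcard]; congr 1; ext i; simp [hL1]
    have h2 : ∀ f : Fin n → ℕ, (Finset.univ.filter fun i => f i < j + 1).card =
        (Finset.univ.filter fun i => f i < j).card + (Finset.univ.filter fun i => f i = j).card := fun f => by
      rw [← Finset.card_union_of_disjoint]
      · congr 1; ext i; simp; omega
      · rw [Finset.disjoint_filter]; intro i _ h3; omega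
    have h3 := h1 (j + 1)
    rw [h2 L, h2 c, h1 j] at h3
    exact Nat.add_left_cancel h3
  · by_contra hle
    rw [not_lt] at hle
    obtain ⟨i, i'⟩ := p
    have hii : (i' : ℕ) = i + 1 := hS _ hp
    obtain ⟨v, hv, hvi, hvk⟩ := mem_piv.1 ((hL1 i (L i + 1)).1 (Nat.lt_succ_self _))
    set W := V (L i) ⊔ coordSub (F := F) (fun k : Fin n => (k : ℕ)) ((i : ℕ) + 1) with hW
    have hnot : (Pi.single i' 1 : Fin n → F) ∉ W := by
      intro hmem
      obtain ⟨a, ha, b, hb, hab⟩ := Submodule.mem_sup.1 hmem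
      have hpv : i' ∈ piv (V (L i)) := by
        refine mem_piv.2 ⟨a, ha, ?_, fun k hk => ?_⟩
        · have := congrFun hab i'
          rw [Pi.add_apply, hb i' (show (i : ℕ) + 1 ≤ (i' : ℕ) by omega), add_zero, Pi.single_eq_same] at this
          rw [this]; exact one_ne_zero
        · have := congrFun hab k
          rw [Pi.add_apply, hb k (show (i : ℕ) + 1 ≤ (k : ℕ) by rw [Fin.lt_def] at hk; omega), add_zero, Pi.single_eq_of_ne hk.ne'] at this
          exact this
      exact absurd ((hL1 i' (L i)).2 hpv) (not_lt.2 hle)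
    obtain ⟨f, hf1, hf2⟩ := Submodule.exists_dual_map_eq_bot_of_notMem hnot inferInstance
    have hfW : ∀ x ∈ W, f x = 0 := fun x hx => by
      have : f x ∈ W.map f := ⟨x, hx, rfl⟩
      rwa [hf2, Submodule.mem_bot] at this
    set f0 := f (Pi.single i' 1) with hf0
    set w : Fin n → F := fun k => f (Pi.single k 1) * f0⁻¹ with hw
    have hwdot : ∀ x : Fin n → F, w ⬝ᵥ x = f x * f0⁻¹ := fun x => by
      conv_rhs => rw [← Finset.univ_sum_single x]
      simp only [dotProduct, hw, map_sum, Finset.sum_mul]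
      refine Finset.sum_congr rfl fun k _ => ?_
      rw [show (Pi.single k (x k) : Fin n → F) = x k • Pi.single k 1 by
        ext m; rcases eq_or_ne m k with rfl | hm <;> simp [*], map_smul, smul_eq_mul]
      ring
    have hwi' : w i' = 1 := mul_inv_cancel₀ hf1
    have hwk : ∀ k, k ≤ i → w k = 0 := fun k hk => by
      show f (Pi.single k 1) * f0⁻¹ = 0
      rw [hfW _ (Submodule.mem_sup_right fun m hm => Pi.single_eq_of_ne (fun e => by
        have hm' : (i : ℕ) + 1 ≤ (m : ℕ) := hm
        rw [e] at hm'; rw [Fin.le_def] at hk; omega) _), zero_mul]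
    set x : Fin n → F := (v i)⁻¹ • v with hx
    have hxi : x i = 1 := by simp [hx, hvi]
    have hxk : ∀ k, i < k → x k = 0 := fun k hk => by simp [hx, hvk k hk]
    set M : Matrix (Fin n) (Fin n) F := 1 + t • vecMulVec x w with hM
    have hMdiag : ∀ k, M k k = 1 := fun k => by
      rcases le_or_gt k i with hk | hk
      · simp [hM, vecMulVec_apply, hwk k hk]
      · simp [hM, vecMulVec_apply, hxk k hk]
    have hMlow : ∀ a b, b < a → M a b = 0 := fun a b hba => by
      rcases le_or_gt b i with hk | hk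
      · simp [hM, vecMulVec_apply, hwk b hk, Matrix.one_apply_ne hba.ne']
      · simp [hM, vecMulVec_apply, hxk a (hk.trans hba), Matrix.one_apply_ne hba.ne']
    have hdet : M.det ≠ 0 := by
      rw [Matrix.det_of_isUpperTriangular (fun a b h => hMlow a b h)]
      simp [hMdiag]
    let u : UU n F := ⟨Matrix.GeneralLinearGroup.mkOfDetNeZero M hdet, mem_UU.2 ⟨hMdiag, hMlow⟩⟩
    have hu : psi φ S u = φ t := by
      unfold psi
      congr 1
      show ∑ p ∈ S, M p.1 p.2 = t
      rw [Finset.sum_eq_single (i, i')]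
      · have hne : i ≠ i' := fun e => by rw [e] at hii; omega
        simp [hM, vecMulVec_apply, Matrix.one_apply_ne hne, hxi, hwi']
      · rintro ⟨a, b⟩ hab hne
        have hb : (b : ℕ) = a + 1 := hS _ hab
        have hab' : a ≠ b := fun e => by rw [e] at hb; omega
        rcases le_or_gt b i with hk | hk
        · simp [hM, vecMulVec_apply, hwk b hk, Matrix.one_apply_ne hab']
        · have : i < a := by
            have h2 : a ≠ i := fun e => hne (by subst e; exact Prod.ext rfl (Fin.ext (by show (b : ℕ) = i'; omega)))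
            rw [Fin.lt_def] at hk ⊢
            have : (a : ℕ) ≠ i := fun e => h2 (Fin.ext e)
            omega
          simp [hM, vecMulVec_apply, hxk a this, Matrix.one_apply_ne hab']
      · exact fun h => absurd hp h
    refine ht (hu ▸ h u ?_)
    show ((g⁻¹ * (u : GL (Fin n) F) * g : GL (Fin n) F) : Matrix (Fin n) (Fin n) F).BlockTriangular c
    intro a b hab
    have e : ((g⁻¹ * (u : GL (Fin n) F) * g : GL (Fin n) F) : Matrix (Fin n) (Fin n) F) =
        1 + t • vecMulVec (((g⁻¹ : GL (Fin n) F) : Matrix (Fin n) (Fin n) F) *ᵥ x) (w ᵥ* (g : Matrix (Fin n) (Fin n) F)) := by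
      rw [Matrix.GeneralLinearGroup.coe_mul, Matrix.GeneralLinearGroup.coe_mul]
      show _ * M * _ = _
      rw [hM, Matrix.mul_add, Matrix.mul_one, Matrix.mul_smul, Matrix.mul_vecMulVec, Matrix.add_mul, Matrix.smul_mul,
        Matrix.vecMulVec_mul, ← Matrix.GeneralLinearGroup.coe_mul, inv_mul_cancel]
      rfl
    rw [e, Matrix.add_apply, Matrix.one_apply_ne (fun e => by subst e; omega), Matrix.smul_apply, vecMulVec_apply]
    rcases le_or_gt (c a) (L i) with hca | hca
    · have hcb : c b < L i := lt_of_lt_of_le hab hca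
      have h0 : (w ᵥ* (g : Matrix (Fin n) (Fin n) F)) b = 0 := by
        have h1 : (w ᵥ* (g : Matrix (Fin n) (Fin n) F)) b = w ⬝ᵥ ((g : Matrix (Fin n) (Fin n) F) *ᵥ Pi.single b 1) := by
          rw [Matrix.dotProduct_mulVec, dotProduct_single, mul_one]
        rw [h1, hwdot, hfW ((g : Matrix (Fin n) (Fin n) F) *ᵥ Pi.single b 1) (Submodule.mem_sup_left ⟨Pi.single b 1, fun m hm => Pi.single_eq_of_ne (fun e => by rw [e] at hm; omega) _, rfl⟩), zero_mul]
      rw [h0]; simp
    · have h0 : (((g⁻¹ : GL (Fin n) F) : Matrix (Fin n) (Fin n) F) *ᵥ x) a = 0 := by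
        rw [hx, Matrix.mulVec_smul, Pi.smul_apply, (hmemV _ v).1 hv a hca, smul_zero]
      rw [h0]; simp

/-- Fixed points paired with `ψ`. -/
noncomputable def T (φ : AddChar F ℂ) (S : Finset (Fin n × Fin n)) (f : GL (Fin n) F → ℂ) : ℂ := by
  classical exact ∑ u : UU n F, psi φ S u * f u

theorem T_perm (φ : AddChar F ℂ) (t : F) (ht : φ t ≠ 1) {S : Finset (Fin n × Fin n)}
    (hS : ∀ p ∈ S, (p.2 : ℕ) = p.1 + 1) (μ : Fin n → ℕ) (hμ : ∑ i, μ i = n) :
    ((¬ ∃ L, Good μ S L) → T φ S (fixedPointCharacter (parabolicGL n F μ)) = 0) ∧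
      ((∃ L, Good μ S L) → T φ S (fixedPointCharacter (parabolicGL n F μ)) ≠ 0) := by
  classical
  set P := parabolicGL n F μ
  haveI : Fintype (GL (Fin n) F ⧸ P) := Fintype.ofFinite _
  set Z : (GL (Fin n) F ⧸ P) → ℂ := fun x => ∑ u : UU n F, if (u : GL (Fin n) F) • x = x then psi φ S u else 0
  have hT : T φ S (fixedPointCharacter P) = ∑ x, Z x := by
    unfold T
    rw [Finset.sum_comm]
    refine Finset.sum_congr (by ext; simp) fun u _ => ?_
    rw [Finset.sum_ite, Finset.sum_const_zero, add_zero, Finset.sum_const, nsmul_eq_mul, mul_comm]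
    congr 1
    unfold fixedPointCharacter
    rw [Nat.card_eq_fintype_card, Fintype.card_ofFinset]
    congr 2
  have hfix : ∀ (g : GL (Fin n) F) (u : UU n F),
      (u : GL (Fin n) F) • (g : GL (Fin n) F ⧸ P) = (g : GL (Fin n) F ⧸ P) ↔ g⁻¹ * (u : GL (Fin n) F) * g ∈ P := fun g u => by
    rw [MulAction.Quotient.smul_coe, smul_eq_mul, eq_comm, QuotientGroup.eq, ← mul_assoc]
  have hZ0 : ∀ x, (∃ u : UU n F, (u : GL (Fin n) F) • x = x ∧ psi φ S u ≠ 1) → Z x = 0 := by
    rintro x ⟨u₀, hu₀, hne⟩
    have h1 : psi φ S u₀ * Z x = Z x := by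
      simp only [Z, Finset.mul_sum, mul_ite, mul_zero]
      refine (Fintype.sum_equiv (Equiv.mulLeft u₀) _ _ fun u => ?_)
      have hiff : ((u₀ * u : UU n F) : GL (Fin n) F) • x = x ↔ (u : GL (Fin n) F) • x = x := by
        rw [Subgroup.coe_mul, mul_smul]
        exact ⟨fun h => MulAction.injective _ (h.trans hu₀.symm), fun h => by rw [h, hu₀]⟩
      simp only [Equiv.coe_mulLeft, hiff, psi_mul φ hS]
    exact (mul_left_eq_self₀.1 h1).resolve_left hne
  set N : (GL (Fin n) F ⧸ P) → ℕ := fun x => (Finset.univ.filter fun u : UU n F => (u : GL (Fin n) F) • x = x).card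
  have hZ1 : ∀ x, (∀ u : UU n F, (u : GL (Fin n) F) • x = x → psi φ S u = 1) → Z x = (N x : ℂ) ∧ N x ≠ 0 := by
    intro x hx
    refine ⟨?_, Finset.card_ne_zero.2 ⟨1, by simp⟩⟩
    show _ = ((Finset.card _ : ℕ) : ℂ)
    rw [Finset.card_filter, Nat.cast_sum]
    refine Finset.sum_congr rfl fun u _ => ?_
    by_cases hu : (u : GL (Fin n) F) • x = x
    · simp [hu, hx u hu]
    · simp [hu]
  refine ⟨fun hno => ?_, fun ⟨L, hL⟩ => ?_⟩
  · rw [hT]
    refine Finset.sum_eq_zero fun x _ => hZ0 x ?_
    obtain ⟨g, rfl⟩ := QuotientGroup.mk_surjective x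
    by_contra hc
    push Not at hc
    exact hno (exists_good φ t ht hS μ hμ g fun u hu => hc u ((hfix g u).2 hu))
  · obtain ⟨σ, hσ⟩ : ∃ σ : Equiv.Perm (Fin n), ∀ i, compLabel μ (σ i) = L i := by
      have e : ∀ j, {i // L i = j} ≃ {i // compLabel μ i = j} := fun j =>
        Fintype.equivOfCardEq (by rw [Fintype.card_subtype, Fintype.card_subtype]; exact hL.1 j)
      exact ⟨Equiv.ofFiberEquiv e, fun i => Equiv.ofFiberEquiv_map e i⟩
    let A : Matrix (Fin n) (Fin n) F := (1 : Matrix (Fin n) (Fin n) F).submatrix id σ.symm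
    let B : Matrix (Fin n) (Fin n) F := (1 : Matrix (Fin n) (Fin n) F).submatrix σ.symm id
    have hAB : A * B = 1 := by
      ext a b
      rw [Matrix.mul_apply, Finset.sum_eq_single (σ a)]
      · simp [A, B, Matrix.one_apply]
      · intro k _ hk
        have : a ≠ σ.symm k := fun e => hk (by rw [e, Equiv.apply_symm_apply])
        simp [A, B, Matrix.one_apply, this]
      · simp
    have hBA : B * A = 1 := mul_eq_one_comm.1 hAB
    let g : GL (Fin n) F := ⟨A, B, hAB, hBA⟩
    have hx : ∀ u : UU n F, (u : GL (Fin n) F) • (g : GL (Fin n) F ⧸ P) = (g : GL (Fin n) F ⧸ P) → psi φ S u = 1 := by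
      intro u hu
      rw [hfix] at hu
      have hu' : (B * ((u : GL (Fin n) F) : Matrix (Fin n) (Fin n) F) * A).BlockTriangular (compLabel μ) := hu
      unfold psi
      rw [Finset.sum_eq_zero fun p hp => ?_, AddChar.map_zero_eq_one]
      have h1 := hu' (i := σ p.1) (j := σ p.2) (by rw [hσ, hσ]; exact hL.2 p hp)
      have e : (B * ((u : GL (Fin n) F) : Matrix (Fin n) (Fin n) F) * A) (σ p.1) (σ p.2) =
          ((u : GL (Fin n) F) : Matrix (Fin n) (Fin n) F) p.1 p.2 := by
        simp [A, B, Matrix.mul_apply, Matrix.one_apply]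
      rwa [e] at h1
    rw [hT]
    have hN : ∀ x, ∃ k : ℕ, Z x = (k : ℂ) := fun x => by
      by_cases hc : ∀ u : UU n F, (u : GL (Fin n) F) • x = x → psi φ S u = 1
      · exact ⟨_, (hZ1 x hc).1⟩
      · push Not at hc
        exact ⟨0, by rw [hZ0 x hc, Nat.cast_zero]⟩
    choose k hk using hN
    simp only [hk]
    rw [← Nat.cast_sum, Nat.cast_ne_zero]
    intro h0
    have h1 := Finset.sum_eq_zero_iff.1 h0 (g : GL (Fin n) F ⧸ P) (Finset.mem_univ _)
    obtain ⟨h2, h3⟩ := hZ1 _ hx
    rw [hk, h1] at h2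
    exact h3 (Nat.cast_injective h2).symm

theorem T_unip (φ : AddChar F ℂ) (S : Finset (Fin n × Fin n)) (ν : Fin n → ℕ) :
    T φ S (unipotentCharacterGL n F ν) = ∑ κ : Equiv.Perm (Fin n),
      if ∀ i : Fin n, (κ i).val ≤ ν i + i.val then
        ((Equiv.Perm.sign κ : ℤ) : ℂ) * T φ S (fixedPointCharacter (parabolicGL n F fun i => ν i + i.val - (κ i).val))
      else 0 := by
  classical
  unfold T unipotentCharacterGL
  simp only [Finset.mul_sum]
  rw [Finset.sum_comm]
  refine Finset.sum_congr rfl fun κ _ => ?_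
  split_ifs with h
  · exact Finset.sum_congr rfl fun u _ => by ring
  · simp

/-- Suffix sums. -/
def top (ν : Fin n → ℕ) (k : ℕ) : ℕ := ∑ i ∈ Finset.univ.filter (fun i : Fin n => k ≤ (i : ℕ)), ν i

theorem sum_term {ν : Fin n → ℕ} (hsum : ∑ i, ν i = n) {κ : Equiv.Perm (Fin n)} (h : ∀ i : Fin n, (κ i).val ≤ ν i + i.val) :
    ∑ i, (ν i + i.val - (κ i).val) = n := by
  rw [Finset.sum_tsub_distrib _ fun i _ => h i, Finset.sum_add_distrib, hsum, Equiv.sum_comp κ (fun i => (i : ℕ))]
  omega

theorem top_perm_le (κ : Equiv.Perm (Fin n)) (k : ℕ) :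
    top (fun i : Fin n => (κ i : ℕ)) k ≤ top (fun i : Fin n => (i : ℕ)) k := by
  classical
  unfold top
  set A := Finset.univ.filter (fun i : Fin n => k ≤ (i : ℕ)) with hA
  rw [show ∑ i ∈ A, (κ i : ℕ) = ∑ i ∈ A.image κ, (i : ℕ) from (Finset.sum_image (f := fun i : Fin n => (i : ℕ)) κ.injective.injOn).symm]
  rw [← Finset.sum_sdiff_le_sum_sdiff]
  have hc : (A.image κ \ A).card = (A \ A.image κ).card :=
    Finset.card_sdiff_comm (Finset.card_image_of_injective _ κ.injective)
  calc ∑ i ∈ A.image κ \ A, (i : ℕ) ≤ (A.image κ \ A).card • k := Finset.sum_le_card_nsmul _ _ _ fun i hi => by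
        rw [Finset.mem_sdiff] at hi; have := hi.2; simp [hA] at this; omega
    _ = (A \ A.image κ).card • k := by rw [hc]
    _ ≤ ∑ i ∈ A \ A.image κ, (i : ℕ) := Finset.card_nsmul_le_sum _ _ _ fun i hi => by
        rw [Finset.mem_sdiff] at hi; have := hi.1; simp [hA] at this; omega

theorem top_term {ν : Fin n → ℕ} {κ : Equiv.Perm (Fin n)} (h : ∀ i : Fin n, (κ i).val ≤ ν i + i.val) (k : ℕ) :
    top (fun i : Fin n => ν i + i.val - (κ i).val) k + top (fun i : Fin n => (κ i : ℕ)) k = top ν k + top (fun i : Fin n => (i : ℕ)) k := by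
  unfold top
  rw [← Finset.sum_add_distrib, ← Finset.sum_add_distrib]
  exact Finset.sum_congr rfl fun i _ => Nat.sub_add_cancel (h i)

/-- The column partition attached to `ν`: adjacent pairs `S`, a good labelling, and the dominance bound. -/
theorem exists_columns (ν : Fin n → ℕ) (hmono : Monotone ν) (hsum : ∑ i, ν i = n) :
    ∃ S : Finset (Fin n × Fin n), (∀ p ∈ S, (p.2 : ℕ) = p.1 + 1) ∧ (∃ L, Good ν S L) ∧
      ∀ (μ : Fin n → ℕ) (L : Fin n → ℕ), ∑ i, μ i = n → Good μ S L → ∀ k, top μ k ≤ top ν k := by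
  classical
  have hle : ∀ i, ν i ≤ n := fun i => hsum ▸ Finset.single_le_sum (fun j _ => Nat.zero_le _) (Finset.mem_univ i)
  set P := (Finset.univ : Finset (Fin n)).sigma (fun i => Finset.range (ν i)) with hP
  set code : ((_ : Fin n) × ℕ) → ℕ := fun x => x.2 * n + (n - 1 - x.1) with hcode
  have hdiv : ∀ x : (_ : Fin n) × ℕ, code x / n = x.2 ∧ code x % n = n - 1 - (x.1 : ℕ) := fun x => by
    have := x.1.2
    have hlt : n - 1 - (x.1 : ℕ) < n := by omega
    simp only [hcode]
    refine ⟨?_, ?_⟩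
    · rw [mul_comm, Nat.mul_add_div (by omega), Nat.div_eq_of_lt hlt, add_zero]
    · rw [mul_comm, Nat.mul_add_mod, Nat.mod_eq_of_lt hlt]
  have hinj : Set.InjOn code P := fun x _ y _ hxy => by
    obtain ⟨h1, h2⟩ := hdiv x
    obtain ⟨h3, h4⟩ := hdiv y
    rw [hxy, h3] at h1
    rw [hxy, h4] at h2
    have := x.1.2; have := y.1.2
    obtain ⟨a, b⟩ := x
    obtain ⟨a', b'⟩ := y
    obtain rfl : a = a' := Fin.ext (by simp only at h2; omega)
    simp only at h1; rw [h1]
  have hC : (P.image code).card = n := by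
    rw [Finset.card_image_of_injOn hinj, hP, Finset.card_sigma]
    simpa using hsum
  set e := (P.image code).orderEmbOfFin hC
  have he : ∀ p, ∃ x ∈ P, code x = e p := fun p => Finset.mem_image.1 ((P.image code).orderEmbOfFin_mem hC p)
  choose X hXP hXe using he
  have hXinj : Function.Injective X := fun a b hab => e.injective (by rw [← hXe, ← hXe, hab])
  have hXsurj : ∀ x ∈ P, ∃ p, X p = x := fun x hx => by
    have h : code x ∈ Set.range e := by
      rw [Finset.range_orderEmbOfFin]; exact Finset.mem_image_of_mem code hx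
    obtain ⟨p, hp⟩ := h
    exact ⟨p, hinj (hXP p) hx (by rw [hXe, hp])⟩
  set S := (Finset.univ : Finset (Fin n × Fin n)).filter fun p => (p.2 : ℕ) = p.1 + 1 ∧ (X p.1).2 = (X p.2).2
  have hBmono : Monotone fun p => (X p).2 := fun a b hab => by
    show (X a).2 ≤ (X b).2
    rw [← (hdiv (X a)).1, ← (hdiv (X b)).1, hXe, hXe]
    exact Nat.div_le_div_right (e.monotone hab)
  refine ⟨S, fun p hp => (Finset.mem_filter.1 hp).2.1, ⟨fun p => ((X p).1 : ℕ), fun j => ?_, fun p hp => ?_⟩, ?_⟩
  · rcases lt_or_ge j n with hj | hj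
    · rw [show (Finset.univ.filter fun i => compLabel ν i = j).card = ν ⟨j, hj⟩ from compLabel_card ν hsum ⟨j, hj⟩,
        ← Finset.card_range (ν ⟨j, hj⟩)]
      refine Finset.card_nbij' (fun p => (X p).2) (fun b => if hb : b < ν ⟨j, hj⟩ then
        (hXsurj ⟨⟨j, hj⟩, b⟩ (by simp [hP, hb])).choose else ⟨0, by omega⟩) ?_ ?_ ?_ ?_
      · intro p hp
        simp only [Finset.coe_filter, Finset.mem_univ, true_and, Set.mem_setOf_eq] at hp
        have h1 := hXP p
        simp [hP] at h1
        rw [show (X p).1 = ⟨j, hj⟩ from Fin.ext hp] at h1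
        simpa using h1
      · intro b hb
        simp only [Finset.coe_range, Set.mem_Iio] at hb
        simp only [Finset.coe_filter, Finset.mem_univ, true_and, Set.mem_setOf_eq, dif_pos hb]
        rw [(hXsurj ⟨⟨j, hj⟩, b⟩ (by simp [hP, hb])).choose_spec]
      · intro p hp
        simp only [Finset.coe_filter, Finset.mem_univ, true_and, Set.mem_setOf_eq] at hp
        have h1 := hXP p
        simp [hP] at h1
        rw [show (X p).1 = ⟨j, hj⟩ from Fin.ext hp] at h1
        simp only [dif_pos h1]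
        refine hXinj ?_
        rw [(hXsurj ⟨⟨j, hj⟩, (X p).2⟩ (by simp [hP, h1])).choose_spec]
        exact Sigma.ext (Fin.ext hp.symm) (heq_of_eq rfl)
      · intro b hb
        simp only [Finset.coe_range, Set.mem_Iio] at hb
        simp only [dif_pos hb]
        rw [(hXsurj ⟨⟨j, hj⟩, b⟩ (by simp [hP, hb])).choose_spec]
    · rw [Finset.filter_false_of_mem (fun i _ => Nat.ne_of_lt ((X i).1.2.trans_le hj)),
        Finset.filter_false_of_mem (fun i _ => by have := compLabel_lt ν hsum i; omega)]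
  · obtain ⟨-, h1, h2⟩ := Finset.mem_filter.1 hp
    have hlt : e p.1 < e p.2 := e.strictMono (by rw [Fin.lt_def]; omega)
    rw [← hXe, ← hXe] at hlt
    change (X p.1).2 * n + _ < (X p.2).2 * n + _ at hlt
    rw [h2] at hlt
    show ((X p.2).1 : ℕ) < ((X p.1).1 : ℕ)
    have := (X p.1).1.2; have := (X p.2).1.2
    omega
  · intro μ L hμ hL k
    have hinjb : ∀ a b, a < b → (X a).2 = (X b).2 → L b < L a := by
      intro a b hab hB
      have key : ∀ d (a : Fin n), (a : ℕ) + (d + 1) = b → (X a).2 = (X b).2 → L b < L a := by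
        intro d
        induction d with
        | zero => intro a ha hB; exact hL.2 (a, b) (Finset.mem_filter.2 ⟨Finset.mem_univ _, by simp; omega, hB⟩)
        | succ d ih =>
          intro a ha hB
          let a' : Fin n := ⟨(a : ℕ) + 1, by have := b.2; omega⟩
          have h1 : (X a).2 ≤ (X a').2 := hBmono (by rw [Fin.le_def]; simp [a'])
          have h2 : (X a').2 ≤ (X b).2 := hBmono (by rw [Fin.le_def]; simp [a']; omega)
          exact (ih a' (by simp [a']; omega) (by omega)).trans
            (hL.2 (a, a') (Finset.mem_filter.2 ⟨Finset.mem_univ _, by simp [a'], by simp only; omega⟩))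
      exact key ((b : ℕ) - a - 1) a (by rw [Fin.lt_def] at hab; omega) hB
    have hLlt : ∀ i, L i < n := fun i => by
      by_contra hc
      have h1 := hL.1 (L i)
      rw [Finset.filter_false_of_mem (s := (Finset.univ : Finset (Fin n))) (p := fun k => compLabel μ k = L i)
        (fun k _ => by have := compLabel_lt μ hμ k; omega), Finset.card_empty, Finset.card_eq_zero] at h1
      exact absurd (Finset.mem_filter.2 ⟨Finset.mem_univ i, rfl⟩ : i ∈ Finset.univ.filter fun a => L a = L i) (Finset.eq_empty_iff_forall_notMem.1 h1 i)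
    have e1 : top μ k = (Finset.univ.filter fun p => k ≤ L p).card := by
      unfold top
      rw [Finset.card_eq_sum_card_fiberwise (f := fun p => (⟨L p, hLlt p⟩ : Fin n))
        (t := Finset.univ.filter (fun i : Fin n => k ≤ (i : ℕ))) (fun p hp => by simpa using hp)]
      refine Finset.sum_congr rfl fun i hi => ?_
      rw [← compLabel_card μ hμ i, ← hL.1 (i : ℕ), Finset.filter_filter]
      congr 1
      ext p
      simp only [Finset.mem_filter, Finset.mem_univ, true_and] at hi ⊢
      exact ⟨fun h => ⟨by omega, Fin.ext h⟩, fun h => congrArg Fin.val h.2⟩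
    set Q := (Finset.univ.filter (fun i : Fin n => k ≤ (i : ℕ))).sigma (fun i => Finset.range (ν i)) with hQ
    have e2 : top ν k = Q.card := by unfold top; rw [hQ, Finset.card_sigma]; simp
    rw [e1, e2, Finset.card_eq_sum_card_fiberwise (f := fun p => (X p).2) (t := Finset.range (n + 1)) (fun p _ => by
        have h1 := hXP p; simp [hP] at h1; have := hle (X p).1; simp; omega),
      Finset.card_eq_sum_card_fiberwise (s := Q) (f := fun x => x.2) (t := Finset.range (n + 1)) (fun x hx => by
        simp [hQ] at hx; have := hle x.1; simp; omega)]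
    refine Finset.sum_le_sum fun b _ => ?_
    by_cases hk : ∀ i : Fin n, k ≤ (i : ℕ) → b < ν i
    · have hio : Set.InjOn (fun p => (⟨L p, hLlt p⟩ : Fin n)) ↑((Finset.univ.filter fun p => k ≤ L p).filter fun p => (X p).2 = b) := by
        intro a ha a' ha' heq
        simp only [Finset.coe_filter, Set.mem_setOf_eq] at ha ha'
        have heq' : L a = L a' := congrArg Fin.val heq
        rcases lt_trichotomy a a' with h | h | h
        · have := hinjb a a' h (by rw [ha.2, ha'.2]); omega
        · exact h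
        · have := hinjb a' a h (by rw [ha.2, ha'.2]); omega
      rw [← Finset.card_image_of_injOn hio]
      refine Finset.card_le_card_of_injOn (fun i => (⟨i, b⟩ : (_ : Fin n) × ℕ)) ?_ (fun x _ y _ h => congrArg Sigma.fst h)
      intro i hi
      simp only [Finset.coe_image, Set.mem_image, Finset.coe_filter, Set.mem_setOf_eq, Finset.mem_filter, Finset.mem_univ, true_and] at hi
      obtain ⟨p, ⟨hp, -⟩, rfl⟩ := hi
      simp [hQ, hp, hk _ (show k ≤ ((⟨L p, hLlt p⟩ : Fin n) : ℕ) from hp)]
    · push Not at hk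
      obtain ⟨i₀, hi₀, hi₀'⟩ := hk
      refine Finset.card_le_card_of_injOn X ?_ hXinj.injOn
      intro p hp
      simp only [Finset.coe_filter, Set.mem_setOf_eq, Finset.mem_filter, Finset.mem_univ, true_and] at hp
      have h1 := hXP p
      simp [hP] at h1
      have : k ≤ ((X p).1 : ℕ) := by
        by_contra hc
        have := hmono (show (X p).1 ≤ i₀ by rw [Fin.le_def]; omega)
        omega
      have h4 : b < ν (X p).1 := hp.2 ▸ h1
      simp [hQ, this, h4, hp.2]

theorem T_separates {ν ν' : Fin n → ℕ} (hmono : Monotone ν) (hsum : ∑ i, ν i = n) (hsum' : ∑ i, ν' i = n)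
    (k : ℕ) (hk : top ν k < top ν' k) : unipotentCharacterGL n F ν ≠ unipotentCharacterGL n F ν' := by
  classical
  obtain ⟨φ, hφ⟩ : ∃ φ : AddChar F ℂ, φ ≠ 0 := by
    obtain ⟨φ, hφ⟩ := AddChar.exists_apply_ne_zero.2 (one_ne_zero : (1 : F) ≠ 0)
    exact ⟨φ, fun e => hφ (by rw [e]; rfl)⟩
  obtain ⟨t, ht⟩ := AddChar.ne_zero_iff.1 hφ
  obtain ⟨S, hS, hgood, hdom⟩ := exists_columns ν hmono hsum
  intro heq
  have h := congrArg (T φ S) heq
  rw [T_unip, T_unip] at h
  have hR : ∀ κ : Equiv.Perm (Fin n), (if ∀ i : Fin n, (κ i).val ≤ ν' i + i.val then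
      ((Equiv.Perm.sign κ : ℤ) : ℂ) * T φ S (fixedPointCharacter (parabolicGL n F fun i => ν' i + i.val - (κ i).val))
      else 0) = 0 := by
    intro κ
    split_ifs with hκ
    · rw [(T_perm φ t ht hS _ (sum_term hsum' hκ)).1 ?_, mul_zero]
      rintro ⟨L, hL⟩
      have h1 := hdom _ L (sum_term hsum' hκ) hL k
      have h2 := top_term hκ k
      have h3 := top_perm_le κ k
      omega
    · rfl
  rw [Finset.sum_eq_zero fun κ _ => hR κ, Finset.sum_eq_single 1] at h
  · rw [if_pos (fun i => by simp)] at h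
    simp only [Equiv.Perm.sign_one, Units.val_one, Int.cast_one, one_mul, Equiv.Perm.one_apply, Nat.add_sub_cancel] at h
    exact (T_perm φ t ht hS ν hsum).2 hgood h
  · intro κ _ hκ
    split_ifs with hκ'
    · rw [(T_perm φ t ht hS _ (sum_term hsum hκ')).1 ?_, mul_zero]
      rintro ⟨L, hL⟩
      obtain ⟨j, hj, hmax⟩ := (Finset.univ.filter fun i => κ i ≠ i).exists_max_image id (by
        by_contra hc
        rw [Finset.not_nonempty_iff_eq_empty, Finset.filter_eq_empty_iff] at hc
        exact hκ (Equiv.ext fun i => by simpa using hc (Finset.mem_univ i)))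
      simp only [Finset.mem_filter, Finset.mem_univ, true_and, id] at hj hmax
      have hfixed : ∀ i, j < i → κ i = i := fun i hi => by
        by_contra hc; exact absurd (hmax i hc) (not_le.2 hi)
      have hlt : κ j < j := by
        rcases lt_or_gt_of_ne hj with h1 | h1
        · exact h1
        · exact absurd (κ.injective (hfixed _ h1)) hj
      have h1 := hdom _ L (sum_term hsum hκ') hL (j : ℕ)
      have h2 := top_term hκ' (j : ℕ)
      have h3 : top (fun i : Fin n => (κ i : ℕ)) (j : ℕ) < top (fun i : Fin n => (i : ℕ)) (j : ℕ) := by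
        unfold top
        refine Finset.sum_lt_sum (fun i hi => ?_) ⟨j, by simp, hlt⟩
        simp only [Finset.mem_filter, Finset.mem_univ, true_and] at hi
        rcases eq_or_lt_of_le (Fin.le_def.2 hi : j ≤ i) with h4 | h4
        · subst h4; exact le_of_lt hlt
        · rw [hfixed i h4]
      omega
    · rfl
  · simp

theorem eq_of_top_eq {ν ν' : Fin n → ℕ} (h : ∀ k, top ν k = top ν' k) : ν = ν' := by
  classical
  funext i
  have key : ∀ μ : Fin n → ℕ, top μ i = μ i + top μ ((i : ℕ) + 1) := fun μ => by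
    unfold top
    rw [show (Finset.univ.filter fun j : Fin n => (i : ℕ) ≤ (j : ℕ)) =
        insert i (Finset.univ.filter fun j : Fin n => (i : ℕ) + 1 ≤ (j : ℕ)) by
      ext j; simp [Fin.ext_iff]; omega, Finset.sum_insert (by simp)]
  have h1 := key ν
  rw [h, h, key ν'] at h1
  omega

/-- The irreducible characters of `GL_n(q)` attached to different partitions of `n` (each written with `n` non-decreasing parts, zeros allowed) by the alternating sum of flag permutation characters are different. -/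
theorem result {F : Type*} [Field F] [Fintype F] {n : ℕ} (ν ν' : Fin n → ℕ) (hmono : Monotone ν) (hsum : ∑ i, ν i = n)
    (hmono' : Monotone ν') (hsum' : ∑ i, ν' i = n) (h : Cfsg.unipotentCharacterGL n F ν = Cfsg.unipotentCharacterGL n F ν') : ν = ν' := by
  refine eq_of_top_eq fun k => ?_
  by_contra hne
  rcases lt_or_gt_of_ne hne with hk | hk
  · exact T_separates hmono hsum hsum' k hk h
  · exact T_separates hmono' hsum' hsum k hk h.symm

end Cfsg.Agent.S2422
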