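import Cfsg.Statements.S2426
import Cfsg.Agent.Lib.GL2.SteinbergPres

set_option autoImplicit false
open Cfsg

open Cfsg.Agent.GL2.SteinbergPres Cfsg.Agent.GL2.CentralExt Cfsg.Agent.Classical

namespace Cfsg.Agent.S2426

/-- The rank-one Steinberg presentation of `SL₂` over a finite field `K`: generators `x(t)`, `y(t)` (`t ∈ K`; the two opposite root subgroups) subject to additivity `x(t)x(u) = x(t+u)`, `y(t)y(u) = y(t+u)` and, with `w(t) = x(t) y(−t⁻¹) x(t)` and `w'(t) = y(t) x(−t⁻¹) y(t)` for `t ≠ 0`, the relations `w(t) x(u) w(t)⁻¹ = y(−t⁻² u)` and `w'(t) y(u) w'(t)⁻¹ = x(−t⁻² u)`, present `SL₂(K)`, with `x(t) ↦ (1 t; 0 1)` and `y(t) ↦ (1 0; t 1)`. -/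
theorem result {K : Type*} [Field K] [Finite K] :
    ∃ e : PresentedGroup
        ({g : FreeGroup (Bool × K) | ∃ (b : Bool) (t u : K), g = FreeGroup.of (b, t) * FreeGroup.of (b, u) * (FreeGroup.of (b, t + u))⁻¹} ∪
          {g | ∃ (b : Bool) (t u : K), t ≠ 0 ∧
            g = (FreeGroup.of (b, t) * FreeGroup.of (!b, -t⁻¹) * FreeGroup.of (b, t)) * FreeGroup.of (b, u) *
                  (FreeGroup.of (b, t) * FreeGroup.of (!b, -t⁻¹) * FreeGroup.of (b, t))⁻¹ * (FreeGroup.of (!b, -(t⁻¹ ^ 2 * u)))⁻¹})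
        ≃* Matrix.SpecialLinearGroup (Fin 2) K,
      (∀ t : K, ((e (PresentedGroup.of (true, t)) : Matrix (Fin 2) (Fin 2) K)) = !![1, t; 0, 1]) ∧
      (∀ t : K, ((e (PresentedGroup.of (false, t)) : Matrix (Fin 2) (Fin 2) K)) = !![1, 0; t, 1]) := by
  classical
  let rels : Set (FreeGroup (Bool × K)) :=
    ({g : FreeGroup (Bool × K) | ∃ (b : Bool) (t u : K), g = FreeGroup.of (b, t) * FreeGroup.of (b, u) * (FreeGroup.of (b, t + u))⁻¹} ∪
      {g | ∃ (b : Bool) (t u : K), t ≠ 0 ∧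
        g = (FreeGroup.of (b, t) * FreeGroup.of (!b, -t⁻¹) * FreeGroup.of (b, t)) * FreeGroup.of (b, u) *
              (FreeGroup.of (b, t) * FreeGroup.of (!b, -t⁻¹) * FreeGroup.of (b, t))⁻¹ * (FreeGroup.of (!b, -(t⁻¹ ^ 2 * u)))⁻¹})
  let im : Bool × K → Matrix.SpecialLinearGroup (Fin 2) K := fun q => if q.1 then uS q.2 else lS q.2
  have hWu : ∀ (t u : K), t ≠ 0 → uS t * lS (-t⁻¹) * uS t * uS u = lS (-(t⁻¹ ^ 2 * u)) * (uS t * lS (-t⁻¹) * uS t) := by
    intro t u ht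
    apply Subtype.ext
    show (!![1, t; 0, 1] * !![1, 0; -t⁻¹, 1] * !![1, t; 0, 1] * !![1, u; 0, 1] : Matrix (Fin 2) (Fin 2) K) =
      !![1, 0; -(t⁻¹ ^ 2 * u), 1] * (!![1, t; 0, 1] * !![1, 0; -t⁻¹, 1] * !![1, t; 0, 1])
    apply SL2.coord <;> simp [Matrix.mul_apply, Fin.sum_univ_two, ht] <;> field_simp
  have hWl : ∀ (t u : K), t ≠ 0 → lS t * uS (-t⁻¹) * lS t * lS u = uS (-(t⁻¹ ^ 2 * u)) * (lS t * uS (-t⁻¹) * lS t) := by
    intro t u ht
    apply Subtype.ext
    show (!![1, 0; t, 1] * !![1, -t⁻¹; 0, 1] * !![1, 0; t, 1] * !![1, 0; u, 1] : Matrix (Fin 2) (Fin 2) K) =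
      !![1, -(t⁻¹ ^ 2 * u); 0, 1] * (!![1, 0; t, 1] * !![1, -t⁻¹; 0, 1] * !![1, 0; t, 1])
    apply SL2.coord <;> simp [Matrix.mul_apply, Fin.sum_univ_two, ht] <;> field_simp
  have him : ∀ r ∈ rels, FreeGroup.lift im r = 1 := by
    rintro r (⟨b, t, u, rfl⟩ | ⟨b, t, u, ht, rfl⟩)
    · cases b <;> simp only [map_mul, map_inv, FreeGroup.lift_apply_of, im, Bool.false_eq_true, if_false, if_true]
      · rw [lS_mul, mul_inv_cancel]
      · rw [uS_mul, mul_inv_cancel]
    · cases b <;> simp only [map_mul, map_inv, FreeGroup.lift_apply_of, im, Bool.false_eq_true, if_false, if_true,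
        Bool.not_false, Bool.not_true]
      · rw [hWl t u ht, mul_inv_cancel_right, mul_inv_cancel]
      · rw [hWu t u ht, mul_inv_cancel_right, mul_inv_cancel]
  let φ : PresentedGroup rels →* Matrix.SpecialLinearGroup (Fin 2) K := PresentedGroup.toGroup him
  let x : K → PresentedGroup rels := fun t => PresentedGroup.of (true, t)
  let y : K → PresentedGroup rels := fun t => PresentedGroup.of (false, t)
  have hφx : ∀ t, φ (x t) = uS t := fun t => (PresentedGroup.toGroup.of him).trans (if_pos rfl)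
  have hφy : ∀ t, φ (y t) = lS t := fun t => (PresentedGroup.toGroup.of him).trans (if_neg Bool.false_ne_true)
  have hrel : ∀ r ∈ rels, PresentedGroup.mk rels r = 1 := fun r hr => PresentedGroup.one_of_mem hr
  have h : Rels x y := by
    refine ⟨fun t u => ?_, fun t u => ?_, fun t u ht => ?_⟩
    · have := hrel _ (Or.inl ⟨true, t, u, rfl⟩)
      rw [map_mul, map_mul, map_inv, mul_inv_eq_one] at this
      exact this
    · have := hrel _ (Or.inl ⟨false, t, u, rfl⟩)
      rw [map_mul, map_mul, map_inv, mul_inv_eq_one] at this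
      exact this
    · have := hrel _ (Or.inr ⟨true, t, u, ht, rfl⟩)
      simp only [map_mul, map_inv] at this
      rw [mul_inv_eq_one] at this
      exact this
  have hgen : Subgroup.closure (Set.range x ∪ Set.range y) = ⊤ := by
    rw [← PresentedGroup.closure_range_of rels]
    congr 1
    ext g
    constructor
    · rintro (⟨t, rfl⟩ | ⟨t, rfl⟩) <;> exact ⟨_, rfl⟩
    · rintro ⟨⟨b, t⟩, rfl⟩
      cases b
      · exact Or.inr ⟨t, rfl⟩
      · exact Or.inl ⟨t, rfl⟩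
  refine ⟨MulEquiv.ofBijective φ (bijective h φ hφx hφy hgen), fun t => ?_, fun t => ?_⟩
  · exact congrArg Subtype.val (hφx t)
  · exact congrArg Subtype.val (hφy t)

end Cfsg.Agent.S2426
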