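import Cfsg.Statements.S2427


set_option autoImplicit false
open Cfsg

namespace Cfsg.Agent.S2427

abbrev G3 := Matrix.SpecialLinearGroup (Fin 2) (ZMod 3)

theorem a1 : ∀ a b : G3, a^4 = 1 → b^4 = 1 → (a*b)^4 = 1 := by decide +kernel
theorem a2 : ∀ a b : G3, (a*b*a⁻¹*b⁻¹)^4 = 1 := by decide +kernel
theorem a3 : ∀ g : G3, g^4 ≠ 1 → ∃ h c, c*h*g = g*h ∧ c^4=1 ∧ c*c ≠ 1 := by decide +kernel
theorem a4 : ∀ g x : G3, g^4 ≠ 1 → x^4 = 1 ∨ (x*g)^4 = 1 ∨ (x*g*g)^4 = 1 := by decide +kernel
theorem a5 : ∀ g q : G3, g^4 = 1 → g*g ≠ 1 → q^4 = 1 → q = 1 ∨ q = g*g ∨ ∃ h, h*g = q*h := by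
  decide +kernel
theorem a6 : ∀ g z : G3, g*g = 1 → z*z = 1 → g ≠ 1 → z = 1 ∨ z = g := by decide +kernel
theorem a7 : ∀ q : G3, q^4 = 1 → ∃ a b, q*b*a = a*b := by decide +kernel
theorem a8 : ∀ z : G3, z*z = 1 → ∀ h, h*z = z*h := by decide +kernel
theorem a9 : ∀ z : G3, z*z ≠ 1 → ∃ h, h*z ≠ z*h := by decide +kernel
theorem c24 : Fintype.card G3 = 24 := by decide +kernel
theorem c2 : Fintype.card {z : G3 // z*z = 1} = 2 := by decide +kernel
theorem c8 : Fintype.card {q : G3 // q^4 = 1} = 8 := by decide +kernel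

def Q : Subgroup G3 where
  carrier := {g | g^4 = 1}
  mul_mem' := fun {a b} ha hb => a1 a b ha hb
  one_mem' := one_pow 4
  inv_mem' := fun {a} (ha : a^4 = 1) => show a⁻¹^4 = 1 by rw [inv_pow, ha, inv_one]

open scoped commutatorElement in
theorem commutator_eq : commutator G3 = Q := by
  refine le_antisymm ?_ fun q hq => ?_
  · rw [commutator_def, Subgroup.commutator_le]
    exact fun a _ b _ => show (⁅a, b⁆)^4 = 1 by rw [commutatorElement_def]; exact a2 a b
  · obtain ⟨a, b, h⟩ := a7 q hq
    have : q = ⁅a, b⁆ := by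
      rw [commutatorElement_def]
      calc q = q * b * a * a⁻¹ * b⁻¹ := by group
        _ = a * b * a⁻¹ * b⁻¹ := by rw [h]
    rw [this, commutator_def]
    exact Subgroup.commutator_mem_commutator (Subgroup.mem_top a) (Subgroup.mem_top b)

theorem mem_center_iff (z : G3) : z ∈ Subgroup.center G3 ↔ z * z = 1 := by
  rw [Subgroup.mem_center_iff]
  refine ⟨fun h => ?_, fun h => a8 z h⟩
  by_contra hz
  obtain ⟨g, hg⟩ := a9 z hz
  exact hg (h g)

def qA : G3 := ⟨!![0, 1; 2, 0], by decide⟩
def qB : G3 := ⟨!![1, 1; 1, 2], by decide⟩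

def qf : QuaternionGroup 2 → G3
  | .a i => qA ^ (i : ZMod 4).val
  | .xa i => qB * qA ^ (i : ZMod 4).val

theorem qf_mul : ∀ u v : QuaternionGroup 2, qf (u * v) = qf u * qf v := by decide +kernel
theorem qf_mem : ∀ u : QuaternionGroup 2, (qf u)^4 = 1 := by decide +kernel
theorem qf_inj : ∀ u v : QuaternionGroup 2, qf u = qf v → u = v := by decide +kernel

/-- The group SL₂ over the field with 3 elements has order 24 and centre of order 2; its commutator subgroup has order 8, is isomorphic to the quaternion group of order 8 and is complemented by every Sylow 3-subgroup (so the group is a semidirect product of a quaternion group of order 8 by a cyclic group of order 3); and its only normal subgroups besides the trivial subgroup and the whole group are the centre and the commutator subgroup. -/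
theorem result :
    Nat.card (Matrix.SpecialLinearGroup (Fin 2) (ZMod 3)) = 24 ∧
    Nat.card (Subgroup.center (Matrix.SpecialLinearGroup (Fin 2) (ZMod 3))) = 2 ∧
    Nat.card (commutator (Matrix.SpecialLinearGroup (Fin 2) (ZMod 3))) = 8 ∧
    Nonempty (commutator (Matrix.SpecialLinearGroup (Fin 2) (ZMod 3)) ≃* QuaternionGroup 2) ∧
    (∀ P : Sylow 3 (Matrix.SpecialLinearGroup (Fin 2) (ZMod 3)),
      Subgroup.IsComplement' (commutator (Matrix.SpecialLinearGroup (Fin 2) (ZMod 3)))
        (P : Subgroup (Matrix.SpecialLinearGroup (Fin 2) (ZMod 3)))) ∧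
    ∀ N : Subgroup (Matrix.SpecialLinearGroup (Fin 2) (ZMod 3)), N.Normal →
      N = ⊥ ∨ N = ⊤ ∨ N = Subgroup.center (Matrix.SpecialLinearGroup (Fin 2) (ZMod 3)) ∨
        N = commutator (Matrix.SpecialLinearGroup (Fin 2) (ZMod 3)) := by
  classical
  have hG : Nat.card G3 = 24 := by rw [Nat.card_eq_fintype_card]; exact c24
  have hQ : Nat.card Q = 8 := by
    rw [← c8, ← Nat.card_eq_fintype_card]; rfl
  have hZ : Nat.card (Subgroup.center G3) = 2 := by
    refine Eq.trans ?_ (Nat.card_eq_fintype_card.trans c2)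
    exact Nat.card_congr (Equiv.subtypeEquivRight mem_center_iff)
  rw [commutator_eq]
  refine ⟨hG, hZ, hQ, ?_, fun P => ?_, fun N hN => ?_⟩
  · let f : QuaternionGroup 2 →* Q :=
      MonoidHom.mk' (fun u => ⟨qf u, qf_mem u⟩) fun u v => Subtype.ext (qf_mul u v)
    refine ⟨(MulEquiv.ofBijective f ?_).symm⟩
    have hinj : Function.Injective f := fun u v h => qf_inj u v (congrArg Subtype.val h)
    refine (Nat.bijective_iff_injective_and_card f).mpr ⟨hinj, ?_⟩
    rw [hQ, Nat.card_eq_fintype_card, QuaternionGroup.card]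
  · have hP : Nat.card (P : Subgroup G3) = 3 := by
      rw [P.card_eq_multiplicity, hG]
      have : (24 : ℕ).factorization 3 = 1 := by
        rw [show (24 : ℕ) = 2 ^ 3 * 3 ^ 1 from rfl,
          Nat.factorization_mul (by norm_num) (by norm_num), Finsupp.add_apply,
          Nat.Prime.factorization_pow Nat.prime_two, Nat.Prime.factorization_pow Nat.prime_three]
        simp
      rw [this, pow_one]
    exact Subgroup.isComplement'_of_coprime (by rw [hQ, hP, hG]) (by rw [hQ, hP]; decide)
  · by_cases h1 : ∃ g ∈ N, g^4 ≠ 1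
    · obtain ⟨g, hgN, hg⟩ := h1
      obtain ⟨h, c, hc, hc4, hc2⟩ := a3 g hg
      have hcN : c ∈ N := by
        have : c = g * (h * g⁻¹ * h⁻¹) := by
          calc c = c * h * g * g⁻¹ * h⁻¹ := by group
            _ = g * (h * g⁻¹ * h⁻¹) := by rw [hc]; group
        rw [this]; exact mul_mem hgN (hN.conj_mem _ (inv_mem hgN) h)
      have hQN : ∀ q : G3, q^4 = 1 → q ∈ N := fun q hq => by
        rcases a5 c q hc4 hc2 hq with h | h | ⟨k, hk⟩
        · rw [h]; exact one_mem _
        · rw [h]; exact mul_mem hcN hcN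
        · rw [show q = k * c * k⁻¹ by rw [hk]; group]; exact hN.conj_mem _ hcN k
      refine Or.inr (Or.inl (eq_top_iff.mpr fun x _ => ?_))
      rcases a4 g x hg with h | h | h
      · exact hQN x h
      · exact (Subgroup.mul_mem_cancel_right _ hgN).mp (hQN _ h)
      · exact (Subgroup.mul_mem_cancel_right _ hgN).mp
          ((Subgroup.mul_mem_cancel_right _ hgN).mp (hQN _ h))
    · push Not at h1
      by_cases h2 : ∃ g ∈ N, g * g ≠ 1
      · obtain ⟨g, hgN, hg⟩ := h2
        refine Or.inr (Or.inr (Or.inr (le_antisymm h1 fun q hq => ?_)))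
        rcases a5 g q (h1 g hgN) hg hq with h | h | ⟨k, hk⟩
        · rw [h]; exact one_mem _
        · rw [h]; exact mul_mem hgN hgN
        · rw [show q = k * g * k⁻¹ by rw [hk]; group]; exact hN.conj_mem _ hgN k
      · push Not at h2
        by_cases h3 : ∃ g ∈ N, g ≠ 1
        · obtain ⟨g, hgN, hg⟩ := h3
          refine Or.inr (Or.inr (Or.inl (le_antisymm (fun x hx => (mem_center_iff x).mpr (h2 x hx))
            fun z hz => ?_)))
          rcases a6 g z (h2 g hgN) ((mem_center_iff z).mp hz) hg with h | h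
          · rw [h]; exact one_mem _
          · rw [h]; exact hgN
        · push Not at h3
          exact Or.inl (N.eq_bot_iff_forall.mpr h3)

end Cfsg.Agent.S2427
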