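import Cfsg.Statements.S2428
import Cfsg.Agent.Lib.GL2.Split

set_option autoImplicit false
open Cfsg

namespace Cfsg.Agent.S2428

/-- Let F be a finite field with q elements, q odd, and let d be a diagonal element of SL₂ over F whose diagonal entry a has a² ≠ 1 (such d exist exactly when q > 3). Then the centraliser of d is precisely the diagonal subgroup T; the normaliser of T has order 2(q − 1) and exactly (q + 5)/2 conjugacy classes; and every element of that normaliser outside T has square equal to −1. -/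
theorem result {F : Type*} [Field F] [Fintype F] (hodd : Odd (Fintype.card F))
    (d : Matrix.SpecialLinearGroup (Fin 2) F) (hd01 : (d : Matrix (Fin 2) (Fin 2) F) 0 1 = 0) (hd10 : (d : Matrix (Fin 2) (Fin 2) F) 1 0 = 0) (hda : (d : Matrix (Fin 2) (Fin 2) F) 0 0 ^ 2 ≠ 1) :
    (∀ g : Matrix.SpecialLinearGroup (Fin 2) F, g ∈ Subgroup.centralizer ({d} : Set (Matrix.SpecialLinearGroup (Fin 2) F)) ↔ ((g : Matrix (Fin 2) (Fin 2) F) 0 1 = 0 ∧ (g : Matrix (Fin 2) (Fin 2) F) 1 0 = 0)) ∧
    Nat.card (Subgroup.normalizer ((Subgroup.centralizer ({d} : Set (Matrix.SpecialLinearGroup (Fin 2) F))) : Set (Matrix.SpecialLinearGroup (Fin 2) F))) = 2 * (Fintype.card F - 1) ∧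
    Nat.card (ConjClasses (Subgroup.normalizer ((Subgroup.centralizer ({d} : Set (Matrix.SpecialLinearGroup (Fin 2) F))) : Set (Matrix.SpecialLinearGroup (Fin 2) F)))) = (Fintype.card F + 5) / 2 ∧
    ∀ g : Matrix.SpecialLinearGroup (Fin 2) F, g ∈ Subgroup.normalizer ((Subgroup.centralizer ({d} : Set (Matrix.SpecialLinearGroup (Fin 2) F))) : Set (Matrix.SpecialLinearGroup (Fin 2) F)) →
      g ∉ Subgroup.centralizer ({d} : Set (Matrix.SpecialLinearGroup (Fin 2) F)) → ((g * g) : Matrix (Fin 2) (Fin 2) F) = -1 := by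
  classical
  have hc := GL2.ringChar_ne_two_of_odd hodd
  have hd := GL2.detS d
  rw [Matrix.det_fin_two, hd10, mul_zero, sub_zero] at hd
  let a : Fˣ := Units.mk0 _ (left_ne_zero_of_mul_eq_one hd)
  have hde : d = GL2.bS a 0 := Subtype.ext (by
    rw [GL2.bS_coe]
    apply Classical.SL2.coord <;> simp [a, hd01, hd10]
    exact (inv_eq_of_mul_eq_one_right hd).symm)
  have ha : (a : F) ^ 2 ≠ 1 := hda
  rw [hde]
  obtain ⟨h1, h2, h3, -⟩ := GL2.normalizer_facts hc (GL2.bS_nonscalar ha) (GL2.bS_regular ha)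
    (GL2.exists_inv_bS a)
  rw [GL2.card_diag ha] at h1 h2
  refine ⟨fun g => GL2.mem_diag_iff ha, h1, ?_, fun g hg hgn => ?_⟩
  · have := Nat.odd_iff.mp hodd
    omega
  · rw [← GL2.coe_mulS, h3 g hg hgn, GL2.z1_coe]

end Cfsg.Agent.S2428
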