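import Cfsg.Statements.S2429
import Cfsg.Agent.Lib.GL2.Split

set_option autoImplicit false
open Cfsg

namespace Cfsg.Agent.S2429

/-- Let F be a finite field with q elements, q odd. Then SL₂ over F contains a cyclic subgroup T′ of order q + 1 (a non-split torus) with the following properties: T′ is its own centraliser, and indeed the centraliser of each element of T′ other than 1 and −1 is exactly T′; every element of SL₂ having no eigenvector in F² is conjugate to an element of T′; the normaliser of T′ has order 2(q + 1) and exactly (q + 7)/2 conjugacy classes; and every element of that normaliser outside T′ has square −1. -/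
theorem result {F : Type*} [Field F] [Fintype F] (hodd : Odd (Fintype.card F)) :
    ∃ T' : Subgroup (Matrix.SpecialLinearGroup (Fin 2) F), IsCyclic T' ∧ Nat.card T' = Fintype.card F + 1 ∧
      Subgroup.centralizer ((T' : Set (Matrix.SpecialLinearGroup (Fin 2) F))) = T' ∧
      (∀ g : Matrix.SpecialLinearGroup (Fin 2) F, g ∈ T' → (g : Matrix (Fin 2) (Fin 2) F) ≠ 1 → (g : Matrix (Fin 2) (Fin 2) F) ≠ -1 → Subgroup.centralizer ({g} : Set (Matrix.SpecialLinearGroup (Fin 2) F)) = T') ∧
      (∀ g : Matrix.SpecialLinearGroup (Fin 2) F, (∀ (c : F) (v : Fin 2 → F), v ≠ 0 → (g : Matrix (Fin 2) (Fin 2) F).mulVec v ≠ c • v) → ∃ h : Matrix.SpecialLinearGroup (Fin 2) F, h * g * h⁻¹ ∈ T') ∧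
      Nat.card (Subgroup.normalizer (T' : Set (Matrix.SpecialLinearGroup (Fin 2) F))) = 2 * (Fintype.card F + 1) ∧
      Nat.card (ConjClasses (Subgroup.normalizer (T' : Set (Matrix.SpecialLinearGroup (Fin 2) F)))) = (Fintype.card F + 7) / 2 ∧
      ∀ g : Matrix.SpecialLinearGroup (Fin 2) F, g ∈ Subgroup.normalizer (T' : Set (Matrix.SpecialLinearGroup (Fin 2) F)) → g ∉ T' → ((g * g) : Matrix (Fin 2) (Fin 2) F) = -1 := by
  classical
  have hc := GL2.ringChar_ne_two_of_odd hodd
  obtain ⟨g₀, hg₀⟩ := GL2.exists_elliptic (F := F) hc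
  obtain ⟨hns, ht⟩ := GL2.elliptic_regular hg₀ hc
  obtain ⟨hcard, hcyc, hex⟩ := GL2.elliptic_facts hc hg₀
  obtain ⟨h1, h2, h3, -⟩ := GL2.normalizer_facts hc hns ht hex
  rw [hcard] at h1 h2
  refine ⟨Subgroup.centralizer ({g₀} : Set (Matrix.SpecialLinearGroup (Fin 2) F)), hcyc, hcard,
    le_antisymm ?_ ?_, fun g hg h1' h2' => ?_, fun g hg => ?_, h1, ?_, fun g hg hgn => ?_⟩
  · intro x hx
    exact Subgroup.mem_centralizer_singleton_iff.mpr
      (Subgroup.mem_centralizer_iff.mp hx g₀ (Subgroup.mem_centralizer_singleton_iff.mpr rfl)).symm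
  · intro x hx
    exact Subgroup.mem_centralizer_iff.mpr fun y hy => GL2.centralizer_comm hns hy hx
  · refine GL2.centralizer_eq_of_mem hns hg fun hs => ?_
    rcases GL2.scalar_cases (fun h => h hs) with e | e
    · exact h1' (by rw [e]; rfl)
    · exact h2' (by rw [e, GL2.z1_coe])
  · exact GL2.exists_conj_mem hc hg₀ ((GL2.eig_empty_iff _).mpr hg)
  · have := Nat.odd_iff.mp hodd
    omega
  · rw [← GL2.coe_mulS, h3 g hg hgn, GL2.z1_coe]

end Cfsg.Agent.S2429
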