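import Cfsg.Statements.S2430
import Cfsg.Agent.Lib.GL2.Split
import Cfsg.Agent.Lib.GL2.PS

set_option autoImplicit false
open Cfsg

namespace Cfsg.Agent.S2430

/-- Let F be a finite field with q elements, q odd, ℓ an odd prime, and P a Sylow ℓ-subgroup of SL₂ over F. If ℓ divides q − 1, the centraliser of P is cyclic of order q − 1 (a split torus) and the normaliser of P has order 2(q − 1); if ℓ divides q + 1, the centraliser of P is cyclic of order q + 1 (a non-split torus) and the normaliser of P has order 2(q + 1). -/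
theorem result {F : Type*} [Field F] [Fintype F] (hodd : Odd (Fintype.card F)) (ℓ : ℕ) [Fact ℓ.Prime] (hℓ : ℓ ≠ 2)
    (P : Sylow ℓ (Matrix.SpecialLinearGroup (Fin 2) F)) :
    (ℓ ∣ Fintype.card F - 1 →
      Nat.card (Subgroup.centralizer ((P : Subgroup (Matrix.SpecialLinearGroup (Fin 2) F)) : Set (Matrix.SpecialLinearGroup (Fin 2) F))) = Fintype.card F - 1 ∧
      IsCyclic (Subgroup.centralizer ((P : Subgroup (Matrix.SpecialLinearGroup (Fin 2) F)) : Set (Matrix.SpecialLinearGroup (Fin 2) F))) ∧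
      Nat.card (Subgroup.normalizer ((P : Subgroup (Matrix.SpecialLinearGroup (Fin 2) F)) : Set (Matrix.SpecialLinearGroup (Fin 2) F))) = 2 * (Fintype.card F - 1)) ∧
    (ℓ ∣ Fintype.card F + 1 →
      Nat.card (Subgroup.centralizer ((P : Subgroup (Matrix.SpecialLinearGroup (Fin 2) F)) : Set (Matrix.SpecialLinearGroup (Fin 2) F))) = Fintype.card F + 1 ∧
      IsCyclic (Subgroup.centralizer ((P : Subgroup (Matrix.SpecialLinearGroup (Fin 2) F)) : Set (Matrix.SpecialLinearGroup (Fin 2) F))) ∧
      Nat.card (Subgroup.normalizer ((P : Subgroup (Matrix.SpecialLinearGroup (Fin 2) F)) : Set (Matrix.SpecialLinearGroup (Fin 2) F))) = 2 * (Fintype.card F + 1)) := by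
  classical
  have hc := GL2.ringChar_ne_two_of_odd hodd
  have hℓ' : ℓ.Prime := Fact.out
  have hq : 2 ≤ Fintype.card F := Fintype.one_lt_card
  have main : (ℓ ∣ Fintype.card F - 1 ∨ ℓ ∣ Fintype.card F + 1) →
      ∃ m, ℓ ∣ m ∧ (m = Fintype.card F - 1 ∨ m = Fintype.card F + 1) ∧
      Nat.card (Subgroup.centralizer ((P : Subgroup (Matrix.SpecialLinearGroup (Fin 2) F)) :
        Set (Matrix.SpecialLinearGroup (Fin 2) F))) = m ∧
      IsCyclic (Subgroup.centralizer ((P : Subgroup (Matrix.SpecialLinearGroup (Fin 2) F)) :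
        Set (Matrix.SpecialLinearGroup (Fin 2) F))) ∧
      Nat.card (Subgroup.normalizer ((P : Subgroup (Matrix.SpecialLinearGroup (Fin 2) F)) :
        Set (Matrix.SpecialLinearGroup (Fin 2) F))) = 2 * m := by
    intro hdvd
    have hndq : ¬ ℓ ∣ Fintype.card F := fun h => by
      rcases hdvd with h' | h'
      · have := Nat.dvd_sub h h'
        rw [show Fintype.card F - (Fintype.card F - 1) = 1 by omega] at this
        exact hℓ'.ne_one (Nat.dvd_one.mp this)
      · exact hℓ'.ne_one (Nat.dvd_one.mp ((Nat.dvd_add_right h).mp h'))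
    have hG : ℓ ∣ Nat.card (Matrix.SpecialLinearGroup (Fin 2) F) := by
      rw [Classical.SL2.card_SL2]
      refine Dvd.dvd.mul_left ?_ _
      have e : Fintype.card F ^ 2 - 1 = (Fintype.card F + 1) * (Fintype.card F - 1) := by
        simpa using Nat.sq_sub_sq (Fintype.card F) 1
      rw [e]
      rcases hdvd with h' | h'
      · exact h'.mul_left _
      · exact h'.mul_right _
    haveI : Nontrivial (P : Subgroup (Matrix.SpecialLinearGroup (Fin 2) F)) :=
      (Subgroup.nontrivial_iff_ne_bot _).mpr (Sylow.ne_bot_of_dvd_card P hG)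
    haveI := P.isPGroup'.center_nontrivial
    obtain ⟨z, hz⟩ := exists_ne (1 : Subgroup.center (P : Subgroup (Matrix.SpecialLinearGroup (Fin 2) F)))
    set x : Matrix.SpecialLinearGroup (Fin 2) F := ((z : (P : Subgroup (Matrix.SpecialLinearGroup (Fin 2) F))) : Matrix.SpecialLinearGroup (Fin 2) F) with hx
    have hxP : x ∈ (P : Subgroup (Matrix.SpecialLinearGroup (Fin 2) F)) := (z.1).2
    have hx1 : x ≠ 1 := fun h => hz (Subtype.ext (Subtype.ext h))
    have hcen : ∀ y ∈ (P : Subgroup (Matrix.SpecialLinearGroup (Fin 2) F)), y * x = x * y :=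
      fun y hy => congrArg Subtype.val (Subgroup.mem_center_iff.mp z.2 ⟨y, hy⟩)
    obtain ⟨k, hk⟩ := P.isPGroup' ⟨x, hxP⟩
    have hxk : x ^ ℓ ^ k = 1 := congrArg Subtype.val hk
    have hkodd : Odd (ℓ ^ k) := (hℓ'.odd_of_ne_two hℓ).pow
    have hns : GL2.Nonscalar (x : Matrix (Fin 2) (Fin 2) F) := by
      by_contra h
      rcases GL2.scalar_cases h with e | e
      · exact hx1 e
      · obtain ⟨j, hj⟩ := hkodd
        rw [e, hj, pow_succ, pow_mul, pow_two, show (GL2.z1 : Matrix.SpecialLinearGroup (Fin 2) F) *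
          GL2.z1 = 1 from Subtype.ext (by rw [GL2.coe_mulS, GL2.z1_coe, GL2.coe_oneS]; simp),
          one_pow, one_mul] at hxk
        exact hx1 (e.trans hxk)
    have ht : (x : Matrix (Fin 2) (Fin 2) F).trace * (x : Matrix (Fin 2) (Fin 2) F).trace ≠ 4 := by
      intro ht
      obtain ⟨w, b, hb, -, hcj⟩ := GL2.exists_zu hns ht
      obtain ⟨y, hy⟩ := isConj_iff.mp hcj
      rw [← hy, conj_pow, mul_inv_eq_one, mul_eq_left,
        (show Commute (GL2.zS w) (GL2.uS b) from GL2.zS_comm w _).mul_pow, GL2.uS_pow] at hxk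
      have hw : GL2.zS w ^ ℓ ^ k = GL2.zS w := by
        obtain ⟨j, hj⟩ := hkodd
        rw [hj, pow_succ, pow_mul, pow_two, show GL2.zS w * GL2.zS w = 1 from Subtype.ext (by
          rw [GL2.coe_mulS, GL2.zS_coe, GL2.coe_oneS]
          apply Classical.SL2.coord <;> simp [Matrix.mul_apply, Fin.sum_univ_two, w.2]),
          one_pow, one_mul]
      rw [hw] at hxk
      have h01 := congrArg (fun s : Matrix.SpecialLinearGroup (Fin 2) F =>
        (s : Matrix (Fin 2) (Fin 2) F) 0 1) hxk
      simp only [GL2.zu_coe, GL2.coe_oneS] at h01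
      simp at h01
      rcases h01 with h | h
      · exact GL2.z_ne_zero w h
      · rcases h with h | h
        · have h1 : ringChar F ∣ ℓ ^ k := ringChar.dvd (by rw [Nat.cast_pow, h.1, zero_pow h.2])
          have h2 : ringChar F ∣ Fintype.card F := ringChar.dvd (FiniteField.cast_card_eq_zero F)
          have := Nat.dvd_gcd h1 h2
          rw [Nat.Coprime.gcd_eq_one ((hℓ'.coprime_iff_not_dvd.mpr hndq).pow_left k)] at this
          exact CharP.ringChar_ne_one (Nat.dvd_one.mp this)
        · exact hb h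
    set A := Subgroup.centralizer ({x} : Set (Matrix.SpecialLinearGroup (Fin 2) F)) with hA
    obtain ⟨m, hm, hcard, hcyc, hex⟩ : ∃ m, (m = Fintype.card F - 1 ∨ m = Fintype.card F + 1) ∧
        Nat.card A = m ∧ IsCyclic A ∧ ∃ y, y * x * y⁻¹ = x⁻¹ := by
      by_cases he : GL2.eig (x : Matrix (Fin 2) (Fin 2) F) = ∅
      · exact ⟨_, Or.inr rfl, GL2.elliptic_facts hc he⟩
      · exact ⟨_, Or.inl rfl, GL2.split_facts hns ht he⟩
    have hxA : x ∈ A := Subgroup.mem_centralizer_singleton_iff.mpr rfl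
    have hCP : Subgroup.centralizer ((P : Subgroup (Matrix.SpecialLinearGroup (Fin 2) F)) :
        Set (Matrix.SpecialLinearGroup (Fin 2) F)) = A := by
      refine le_antisymm (fun y hy => ?_) (fun y hy => ?_)
      · exact Subgroup.mem_centralizer_singleton_iff.mpr
          (Subgroup.mem_centralizer_iff.mp hy x hxP).symm
      · exact Subgroup.mem_centralizer_iff.mpr fun p hp =>
          GL2.centralizer_comm hns (Subgroup.mem_centralizer_singleton_iff.mpr (hcen p hp)) hy
    have hPA : (P : Subgroup (Matrix.SpecialLinearGroup (Fin 2) F)) ≤ A := fun p hp =>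
      Subgroup.mem_centralizer_singleton_iff.mpr (hcen p hp)
    obtain ⟨h1, -, -, hinv⟩ := GL2.normalizer_facts hc hns ht hex
    have hN : Subgroup.normalizer ((P : Subgroup (Matrix.SpecialLinearGroup (Fin 2) F)) :
        Set (Matrix.SpecialLinearGroup (Fin 2) F)) =
        Subgroup.normalizer (A : Set (Matrix.SpecialLinearGroup (Fin 2) F)) := by
      refine le_antisymm (fun y hy => ?_) (fun y hy => ?_)
      · refine Subgroup.mem_normalizer_iff.mpr fun a => ?_
        rw [← hCP, Subgroup.mem_centralizer_iff, Subgroup.mem_centralizer_iff]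
        constructor
        · intro ha p hp
          have hp' : y⁻¹ * p * y ∈ (P : Subgroup (Matrix.SpecialLinearGroup (Fin 2) F)) :=
            (Subgroup.mem_normalizer_iff''.mp hy p).mp hp
          calc p * (y * a * y⁻¹) = y * ((y⁻¹ * p * y) * a) * y⁻¹ := by group
            _ = y * a * y⁻¹ * p := by rw [ha _ hp']; group
        · intro ha p hp
          have hp' : y * p * y⁻¹ ∈ (P : Subgroup (Matrix.SpecialLinearGroup (Fin 2) F)) :=
            (Subgroup.mem_normalizer_iff.mp hy p).mp hp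
          calc p * a = y⁻¹ * ((y * p * y⁻¹) * (y * a * y⁻¹)) * y := by group
            _ = a * p := by rw [ha _ hp']; group
      · have key : ∀ w ∈ Subgroup.normalizer (A : Set (Matrix.SpecialLinearGroup (Fin 2) F)),
            ∀ p ∈ (P : Subgroup (Matrix.SpecialLinearGroup (Fin 2) F)),
            w * p * w⁻¹ ∈ (P : Subgroup (Matrix.SpecialLinearGroup (Fin 2) F)) := by
          intro w hw p hp
          by_cases hwA : w ∈ A
          · rw [GL2.centralizer_comm hns hwA (hPA hp), mul_inv_cancel_right]; exact hp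
          · rw [hinv w hw hwA p (hPA hp)]; exact inv_mem hp
        refine Subgroup.mem_normalizer_iff.mpr fun p => ⟨key y hy p, fun hp => ?_⟩
        have := key y⁻¹ (inv_mem hy) _ hp
        simpa [mul_assoc] using this
    refine ⟨m, ?_, hm, by rw [hCP, hcard], by rw [hCP]; exact hcyc, by rw [hN, h1, hcard]⟩
    have hord : orderOf x ∣ m := hcard ▸ Subgroup.orderOf_dvd_natCard _ hxA
    obtain ⟨j, -, hj⟩ := (Nat.dvd_prime_pow hℓ').mp (orderOf_dvd_of_pow_eq_one hxk)
    have hj0 : j ≠ 0 := fun h => hx1 (orderOf_eq_one_iff.mp (by rw [hj, h, pow_zero]))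
    exact (dvd_pow_self ℓ hj0).trans (hj ▸ hord)
  have h2 : 2 < ℓ := lt_of_le_of_ne hℓ'.two_le (Ne.symm hℓ)
  have hexcl : ¬ (ℓ ∣ Fintype.card F - 1 ∧ ℓ ∣ Fintype.card F + 1) := fun ⟨ha, hb⟩ => by
    have := Nat.dvd_sub hb ha
    rw [show Fintype.card F + 1 - (Fintype.card F - 1) = 2 by omega] at this
    have := Nat.le_of_dvd two_pos this
    omega
  refine ⟨fun h => ?_, fun h => ?_⟩
  · obtain ⟨m, hd, rfl | rfl, r⟩ := main (Or.inl h)
    · exact r
    · exact absurd ⟨h, hd⟩ hexcl
  · obtain ⟨m, hd, rfl | rfl, r⟩ := main (Or.inr h)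
    · exact absurd ⟨hd, h⟩ hexcl
    · exact r

end Cfsg.Agent.S2430
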