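import Cfsg.Statements.S2431
import Cfsg.Agent.Lib.GL2.Split
import Cfsg.Agent.Lib.Classical.SL2Two

set_option autoImplicit false
open Cfsg

namespace Cfsg.Agent.S2431

open Cfsg.Agent.GL2 in
theorem exists_torus {F : Type*} [Field F] [Fintype F] [DecidableEq F]
    (hc : ringChar F ≠ 2) :
    ∃ (g : Matrix.SpecialLinearGroup (Fin 2) F) (m o k : ℕ),
      Nonscalar (g : Matrix (Fin 2) (Fin 2) F) ∧
      (g : Matrix (Fin 2) (Fin 2) F).trace * (g : Matrix (Fin 2) (Fin 2) F).trace ≠ 4 ∧
      (∃ x, x * g * x⁻¹ = g⁻¹) ∧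
      Nat.card (Subgroup.centralizer ({g} : Set (Matrix.SpecialLinearGroup (Fin 2) F))) = m ∧
      IsCyclic (Subgroup.centralizer ({g} : Set (Matrix.SpecialLinearGroup (Fin 2) F))) ∧
      m = 2 ^ k * o ∧ Odd o ∧ 2 ≤ k ∧
      (∃ r, Odd r ∧ Nat.card (Matrix.SpecialLinearGroup (Fin 2) F) = 2 ^ (k + 1) * r) ∧
      ((Fintype.card F % 8 = 1 ∨ Fintype.card F % 8 = 7) → 3 ≤ k) ∧
      ((Fintype.card F % 8 = 3 ∨ Fintype.card F % 8 = 5) → k = 2) := by
  have hodd := FiniteField.odd_card_of_char_ne_two hc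
  have hq : 2 ≤ Fintype.card F := Fintype.one_lt_card
  have hG := Cfsg.Agent.Classical.SL2.card_SL2 (F := F)
  have e2 : Fintype.card F ^ 2 - 1 = (Fintype.card F + 1) * (Fintype.card F - 1) := by
    simpa using Nat.sq_sub_sq (Fintype.card F) 1
  rw [e2] at hG
  have fin : ∀ (m k o : ℕ), m = 2 ^ k * o → Odd o → 2 ≤ k →
      (m = Fintype.card F - 1 ∧ Fintype.card F % 4 = 1 ∨
        m = Fintype.card F + 1 ∧ Fintype.card F % 4 = 3) →
      ((∃ r, Odd r ∧ Nat.card (Matrix.SpecialLinearGroup (Fin 2) F) = 2 ^ (k + 1) * r) ∧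
      ((Fintype.card F % 8 = 1 ∨ Fintype.card F % 8 = 7) → 3 ≤ k) ∧
      ((Fintype.card F % 8 = 3 ∨ Fintype.card F % 8 = 5) → k = 2)) := by
    intro m k o hm ho hk hcase
    have ho' := Nat.odd_iff.mp ho
    have h8 : 3 ≤ k → m % 8 = 0 := fun h3 => by
      obtain ⟨j, rfl⟩ := Nat.exists_eq_add_of_le h3
      rw [hm, pow_add, mul_assoc]; omega
    have h4 : k = 2 → m % 8 = 4 := fun h2 => by subst h2; rw [hm]; omega
    refine ⟨?_, fun h => ?_, fun h => ?_⟩
    · rcases hcase with ⟨hm1, h1⟩ | ⟨hm1, h1⟩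
      · refine ⟨Fintype.card F * ((Fintype.card F + 1) / 2) * o, ?_, ?_⟩
        · rw [Nat.odd_mul, Nat.odd_mul]
          exact ⟨⟨Nat.odd_iff.mpr hodd, Nat.odd_iff.mpr (by omega)⟩, ho⟩
        · have he : Fintype.card F + 1 = 2 * ((Fintype.card F + 1) / 2) := by omega
          rw [hG, ← hm1, hm]
          conv_lhs => rw [he]
          rw [pow_succ]; ring
      · refine ⟨Fintype.card F * o * ((Fintype.card F - 1) / 2), ?_, ?_⟩
        · rw [Nat.odd_mul, Nat.odd_mul]
          exact ⟨⟨Nat.odd_iff.mpr hodd, ho⟩, Nat.odd_iff.mpr (by omega)⟩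
        · have he : Fintype.card F - 1 = 2 * ((Fintype.card F - 1) / 2) := by omega
          rw [hG, ← hm1, hm]
          conv_lhs => rw [he]
          rw [pow_succ]; ring
    · by_contra hk3
      have := h4 (by omega)
      omega
    · by_contra hk2
      have := h8 (by omega)
      omega
  rcases (by omega : Fintype.card F % 4 = 1 ∨ Fintype.card F % 4 = 3) with h1 | h1
  · obtain ⟨a, ha⟩ : ∃ a : Fˣ, (a : F) ^ 2 ≠ 1 := by
      by_contra h
      push Not at h
      have : Nat.card Fˣ ≤ Nat.card {z : F // z * z = 1} :=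
        Nat.card_le_card_of_injective (fun a => ⟨(a : F), by rw [← pow_two]; exact h a⟩)
          fun a b e => Units.ext (congrArg Subtype.val e)
      rw [card_sq_one_odd hc, Cfsg.Agent.Classical.card_units_eq] at this
      omega
    have he : eig ((bS a 0 : Matrix.SpecialLinearGroup (Fin 2) F) : Matrix (Fin 2) (Fin 2) F) ≠ ∅ := by
      rw [eig_upper (by simp [bS_coe])]
      exact Set.Nonempty.ne_empty ⟨_, Set.mem_insert _ _⟩
    obtain ⟨hcard, hcyc, hex⟩ := split_facts (bS_nonscalar ha) (bS_regular ha) he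
    obtain ⟨k, o, ho, hm⟩ := Nat.exists_eq_two_pow_mul_odd (n := Fintype.card F - 1) (by omega)
    have hk : 2 ≤ k := by
      by_contra hk
      have ho' := Nat.odd_iff.mp ho
      interval_cases k <;> omega
    exact ⟨bS a 0, _, o, k, bS_nonscalar ha, bS_regular ha, hex, hcard, hcyc, hm, ho, hk,
      fin _ k o hm ho hk (Or.inl ⟨rfl, h1⟩)⟩
  · obtain ⟨g, hg⟩ := exists_elliptic (F := F) hc
    obtain ⟨hns, ht⟩ := elliptic_regular hg hc
    obtain ⟨hcard, hcyc, hex⟩ := elliptic_facts hc hg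
    obtain ⟨k, o, ho, hm⟩ := Nat.exists_eq_two_pow_mul_odd (n := Fintype.card F + 1) (by omega)
    have hk : 2 ≤ k := by
      by_contra hk
      have ho' := Nat.odd_iff.mp ho
      interval_cases k <;> omega
    exact ⟨g, _, o, k, hns, ht, hex, hcard, hcyc, hm, ho, hk, fin _ k o hm ho hk (Or.inr ⟨rfl, h1⟩)⟩

open Cfsg.Agent.GL2 in
theorem quat_step {F : Type*} [Field F] [Fintype F] [DecidableEq F]
    (hc : ringChar F ≠ 2) {c x : Matrix.SpecialLinearGroup (Fin 2) F}
    (hcc : c * c = z1) (hxx : x * x = z1) (hxc : x * c * x⁻¹ = c⁻¹) :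
    ∃ w : Matrix.SpecialLinearGroup (Fin 2) F, w * c * w⁻¹ = x ∧ w * x * w⁻¹ = c * x := by
  have h2 := two_ne_zero_of_odd hc
  let C : Matrix (Fin 2) (Fin 2) F := c
  let X : Matrix (Fin 2) (Fin 2) F := x
  have hC : C * C = -1 := by
    show (c : Matrix (Fin 2) (Fin 2) F) * (c : Matrix (Fin 2) (Fin 2) F) = -1
    rw [← coe_mulS, hcc, z1_coe]
  have hX : X * X = -1 := by
    show (x : Matrix (Fin 2) (Fin 2) F) * (x : Matrix (Fin 2) (Fin 2) F) = -1
    rw [← coe_mulS, hxx, z1_coe]
  have hz : (z1 : Matrix.SpecialLinearGroup (Fin 2) F) * z1 = 1 :=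
    Subtype.ext (by rw [coe_mulS, z1_coe, coe_oneS]; simp)
  have hci : c⁻¹ = z1 * c := inv_eq_of_mul_eq_one_right (by
    rw [← mul_assoc, Subgroup.mem_center_iff.mp z1_mem_center c, mul_assoc, hcc, hz])
  have hXC : X * C = -(C * X) := by
    show (x : Matrix (Fin 2) (Fin 2) F) * (c : Matrix (Fin 2) (Fin 2) F) = -((c : Matrix (Fin 2) (Fin 2) F) * (x : Matrix (Fin 2) (Fin 2) F))
    rw [mul_inv_eq_iff_eq_mul] at hxc
    rw [← coe_mulS, hxc, hci, coe_mulS, coe_mulS, z1_coe, neg_one_mul, neg_mul]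
  have hXCX : X * (C * X) = C := by
    rw [← mul_assoc, hXC, neg_mul, mul_assoc, hX, mul_neg, mul_one, neg_neg]
  have hCXC : C * X * C = X := by
    rw [mul_assoc, hXC, mul_neg, ← mul_assoc, hC, neg_one_mul, neg_neg]
  have hCXX : C * X * X = -C := by rw [mul_assoc, hX, mul_neg, mul_one]
  have hCXCX : C * X * (C * X) = -1 := by rw [← mul_assoc, hCXC, hX]
  set u : Matrix (Fin 2) (Fin 2) F := C + X + C * X with hu
  have tr0 : ∀ s : Matrix.SpecialLinearGroup (Fin 2) F, s * s = z1 →
      (s : Matrix (Fin 2) (Fin 2) F).trace = 0 := fun s hs =>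
    Cfsg.Agent.Classical.SL2Two.trace_zero_of_sq h2 s (hs.trans (Subtype.ext (by rw [z1_coe]; rfl)))
  have hcx : (c * x) * (c * x) = z1 :=
    Subtype.ext (by rw [coe_mulS, coe_mulS, z1_coe]; exact hCXCX)
  have htr : u.trace = 0 := by
    rw [hu, Matrix.trace_add, Matrix.trace_add,
      show C * X = ((c * x : Matrix.SpecialLinearGroup (Fin 2) F) : Matrix (Fin 2) (Fin 2) F) from rfl,
      tr0 c hcc, tr0 x hxx, tr0 _ hcx]
    simp
  have huu : u * u = -(3 : F) • (1 : Matrix (Fin 2) (Fin 2) F) := by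
    rw [hu]
    simp only [add_mul, mul_add, hC, hX, hXC, hXCX, hCXC, hCXX, hCXCX, ← mul_assoc]
    simp only [neg_mul, one_mul, hCXX, neg_neg]
    module
  have hdet : u.det = 3 := by
    have e := congrFun (congrFun huu 0) 0
    rw [Matrix.trace_fin_two] at htr
    simp [Matrix.mul_apply, Fin.sum_univ_two] at e
    rw [Matrix.det_fin_two]
    linear_combination -e + u 0 0 * htr
  have hw : ((2 : F)⁻¹ • ((1 : Matrix (Fin 2) (Fin 2) F) + u)).det = 1 := by
    rw [Matrix.trace_fin_two] at htr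
    rw [Matrix.det_fin_two] at hdet ⊢
    simp
    field_simp
    linear_combination hdet + htr
  let w : Matrix.SpecialLinearGroup (Fin 2) F := ⟨_, hw⟩
  refine ⟨w, ?_, ?_⟩
  · rw [mul_inv_eq_iff_eq_mul]
    refine Subtype.ext ?_
    show (2 : F)⁻¹ • ((1 : Matrix (Fin 2) (Fin 2) F) + u) * C = X * ((2 : F)⁻¹ • (1 + u))
    rw [smul_mul_assoc, mul_smul_comm, hu]
    congr 1
    simp only [add_mul, mul_add, one_mul, mul_one, hC, hX, hXC, hXCX, hCXC]
    abel
  · rw [mul_inv_eq_iff_eq_mul]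
    refine Subtype.ext ?_
    show (2 : F)⁻¹ • ((1 : Matrix (Fin 2) (Fin 2) F) + u) * X = C * X * ((2 : F)⁻¹ • (1 + u))
    rw [smul_mul_assoc, mul_smul_comm, hu]
    congr 1
    simp only [add_mul, mul_add, one_mul, mul_one, hX, hCXC, hCXX, hCXCX]
    abel

/-- Let F be a finite field with q elements, q odd, and S a Sylow 2-subgroup of SL₂ over F. The centraliser of S is the centre of SL₂ (of order 2); S is its own normaliser when q ≡ ±1 mod 8, and has index 3 in its normaliser when q ≡ ±3 mod 8. -/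
theorem result {F : Type*} [Field F] [Fintype F] (hodd : Odd (Fintype.card F)) (S : Sylow 2 (Matrix.SpecialLinearGroup (Fin 2) F)) :
    Subgroup.centralizer ((S : Subgroup (Matrix.SpecialLinearGroup (Fin 2) F)) : Set (Matrix.SpecialLinearGroup (Fin 2) F)) = Subgroup.center (Matrix.SpecialLinearGroup (Fin 2) F) ∧
    ((Fintype.card F % 8 = 1 ∨ Fintype.card F % 8 = 7) →
      Subgroup.normalizer ((S : Subgroup (Matrix.SpecialLinearGroup (Fin 2) F)) : Set (Matrix.SpecialLinearGroup (Fin 2) F)) = (S : Subgroup (Matrix.SpecialLinearGroup (Fin 2) F))) ∧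
    ((Fintype.card F % 8 = 3 ∨ Fintype.card F % 8 = 5) →
      Nat.card (Subgroup.normalizer ((S : Subgroup (Matrix.SpecialLinearGroup (Fin 2) F)) : Set (Matrix.SpecialLinearGroup (Fin 2) F))) = 3 * Nat.card S) := by
  classical
  have hc := GL2.ringChar_ne_two_of_odd hodd
  obtain ⟨g₀, m, o, k, hns₀, ht₀, hex₀, hcard₀, hcyc₀, hm, ho, hk, ⟨r, hr, hG⟩, hk8, hk4⟩ :=
    exists_torus (F := F) hc
  have hSc : Nat.card S = 2 ^ (k + 1) := by
    rw [S.card_eq_multiplicity, hG]
    congr 1
    rw [Nat.factorization_mul (pow_ne_zero _ two_ne_zero) (Nat.ne_of_odd_add (by simpa using hr)),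
      Finsupp.add_apply, Nat.Prime.factorization_pow Nat.prime_two, Finsupp.single_eq_same,
      Nat.factorization_eq_zero_of_not_dvd (fun h => by
        have := Nat.odd_iff.mp hr; omega), add_zero]
  obtain ⟨h₀N, -, -, -⟩ := GL2.normalizer_facts hc hns₀ ht₀ hex₀
  rw [hcard₀] at h₀N
  set N₀ := Subgroup.normalizer ((Subgroup.centralizer
    ({g₀} : Set (Matrix.SpecialLinearGroup (Fin 2) F)) : Subgroup _) :
    Set (Matrix.SpecialLinearGroup (Fin 2) F)) with hN₀
  obtain ⟨y, hy⟩ : ∃ y : Matrix.SpecialLinearGroup (Fin 2) F, ∀ s ∈ (S : Subgroup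
      (Matrix.SpecialLinearGroup (Fin 2) F)), y⁻¹ * s * y ∈ N₀ := by
    obtain ⟨T, hT⟩ := Sylow.exists_subgroup_card_pow_prime (G := N₀) 2 (n := k + 1)
      (by rw [h₀N, hm, pow_succ']; exact ⟨o, by ring⟩)
    have hTG : Nat.card (T.map N₀.subtype) = 2 ^ (k + 1) := by
      rw [Subgroup.card_map_of_injective N₀.subtype_injective, hT]
    have hp : IsPGroup 2 (T.map N₀.subtype) := IsPGroup.of_card hTG
    obtain ⟨Q, hQ⟩ := hp.exists_le_sylow
    have hQc : Nat.card Q = 2 ^ (k + 1) := by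
      rw [Q.card_eq_multiplicity, ← S.card_eq_multiplicity, hSc]
    have hQT : T.map N₀.subtype = (Q : Subgroup _) :=
      Subgroup.eq_of_le_of_card_ge hQ (by rw [hTG, hQc])
    obtain ⟨y, hy⟩ := MulAction.exists_smul_eq (Matrix.SpecialLinearGroup (Fin 2) F) Q S
    refine ⟨y, fun s hs => ?_⟩
    rw [← hy, Sylow.coe_subgroup_smul, Subgroup.mem_pointwise_smul_iff_inv_smul_mem] at hs
    have hs' : (MulAut.conj y)⁻¹ • s = y⁻¹ * s * y := by simp
    rw [hs', ← hQT] at hs
    obtain ⟨t, -, ht⟩ := Subgroup.mem_map.mp hs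
    rw [← ht]
    exact t.2
  set g := y * g₀ * y⁻¹ with hg
  set A := Subgroup.centralizer ({g} : Set (Matrix.SpecialLinearGroup (Fin 2) F)) with hA
  have hconjA : ∀ a, a ∈ A ↔ y⁻¹ * a * y ∈ Subgroup.centralizer
      ({g₀} : Set (Matrix.SpecialLinearGroup (Fin 2) F)) := fun a => by
    rw [hA, Subgroup.mem_centralizer_singleton_iff, Subgroup.mem_centralizer_singleton_iff, hg]
    constructor
    · intro h
      calc y⁻¹ * a * y * g₀ = y⁻¹ * (a * (y * g₀ * y⁻¹)) * y := by group
        _ = g₀ * (y⁻¹ * a * y) := by rw [h]; group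
    · intro h
      calc a * (y * g₀ * y⁻¹) = y * (y⁻¹ * a * y * g₀) * y⁻¹ := by group
        _ = y * g₀ * y⁻¹ * a := by rw [h]; group
  have hns : GL2.Nonscalar (g : Matrix (Fin 2) (Fin 2) F) :=
    GL2.nonscalar_isConjS (isConj_iff.mpr ⟨y, rfl⟩) hns₀
  have ht : (g : Matrix (Fin 2) (Fin 2) F).trace * (g : Matrix (Fin 2) (Fin 2) F).trace ≠ 4 := by
    rw [← GL2.trace_isConjS (isConj_iff.mpr ⟨y, rfl⟩ : IsConj g₀ g)]; exact ht₀
  have hex : ∃ x, x * g * x⁻¹ = g⁻¹ := by
    obtain ⟨x, hx⟩ := hex₀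
    exact ⟨y * x * y⁻¹, by
      rw [hg, show y * x * y⁻¹ * (y * g₀ * y⁻¹) * (y * x * y⁻¹)⁻¹ =
        y * (x * g₀ * x⁻¹) * y⁻¹ by group, hx]; group⟩
  let e : A ≃* Subgroup.centralizer ({g₀} : Set (Matrix.SpecialLinearGroup (Fin 2) F)) :=
    { toFun := fun a => ⟨y⁻¹ * a * y, (hconjA a).mp a.2⟩
      invFun := fun a => ⟨y * a * y⁻¹, (hconjA _).mpr (by simp [mul_assoc])⟩
      left_inv := fun a => Subtype.ext (by simp [mul_assoc])
      right_inv := fun a => Subtype.ext (by simp [mul_assoc])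
      map_mul' := fun a b => Subtype.ext (by simp [mul_assoc]) }
  haveI : IsCyclic A := e.isCyclic.mpr hcyc₀
  have hcard : Nat.card A = m := (Nat.card_congr e.toEquiv).trans hcard₀
  obtain ⟨hNc, -, hsq, hinv⟩ := GL2.normalizer_facts hc hns ht hex
  set N := Subgroup.normalizer (A : Set (Matrix.SpecialLinearGroup (Fin 2) F)) with hN
  have hSN : (S : Subgroup (Matrix.SpecialLinearGroup (Fin 2) F)) ≤ N := fun s hs => by
    have h := Subgroup.mem_normalizer_iff.mp (hy s hs)
    refine Subgroup.mem_normalizer_iff.mpr fun a => ?_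
    rw [hconjA, hconjA, h (y⁻¹ * a * y),
      show y⁻¹ * s * y * (y⁻¹ * a * y) * (y⁻¹ * s * y)⁻¹ = y⁻¹ * (s * a * s⁻¹) * y by group]
  set B := (S : Subgroup (Matrix.SpecialLinearGroup (Fin 2) F)) ⊓ A with hB
  have hnot : ¬ (S : Subgroup (Matrix.SpecialLinearGroup (Fin 2) F)) ≤ A := fun h => by
    have := Subgroup.card_dvd_of_le h
    rw [hSc, hcard, hm, pow_succ, Nat.mul_dvd_mul_iff_left (by positivity)] at this
    have := Nat.odd_iff.mp ho
    omega
  obtain ⟨x, hxS, hxA⟩ := SetLike.not_le_iff_exists.mp hnot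
  have hBc : Nat.card B = 2 ^ k := by
    obtain ⟨j, hj, hjc⟩ := (Nat.dvd_prime_pow Nat.prime_two).mp
      (hSc ▸ Subgroup.card_dvd_of_le (inf_le_left : B ≤ S))
    have hjk : j ≤ k := by
      have h1 := Subgroup.card_dvd_of_le (inf_le_right : B ≤ A)
      rw [hjc, hcard, hm] at h1
      exact (Nat.pow_dvd_pow_iff_le_right one_lt_two).mp
        (((Nat.coprime_two_left.mpr ho).pow_left j).dvd_of_dvd_mul_right h1)
    have hidx : (B.subgroupOf S).index = 2 := by
      rw [Subgroup.index_eq_two_iff]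
      refine ⟨⟨x, hxS⟩, fun b => ?_⟩
      simp only [Subgroup.mem_subgroupOf, Subgroup.coe_mul, hB, Subgroup.mem_inf]
      by_cases hb : (b : Matrix.SpecialLinearGroup (Fin 2) F) ∈ A
      · exact Or.inr ⟨⟨b.2, hb⟩, fun h => hxA ((Subgroup.mul_mem_cancel_left A hb).mp h.2)⟩
      · refine Or.inl ⟨⟨mul_mem b.2 hxS, Subgroup.mem_centralizer_singleton_iff.mpr ?_⟩, fun h => hb h.2⟩
        have hgA : g ∈ A := Subgroup.mem_centralizer_singleton_iff.mpr rfl
        have h1 := hinv x (hSN hxS) hxA g hgA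
        have h2 := hinv b (hSN b.2) hb g⁻¹ (inv_mem hgA)
        rw [inv_inv] at h2
        calc (b : Matrix.SpecialLinearGroup (Fin 2) F) * x * g
            = (b : Matrix.SpecialLinearGroup (Fin 2) F) * (x * g * x⁻¹) * x := by group
          _ = (b : Matrix.SpecialLinearGroup (Fin 2) F) * g⁻¹ *
                (b : Matrix.SpecialLinearGroup (Fin 2) F)⁻¹ *
                ((b : Matrix.SpecialLinearGroup (Fin 2) F) * x) := by rw [h1]; group
          _ = g * ((b : Matrix.SpecialLinearGroup (Fin 2) F) * x) := by rw [h2]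
    have := (B.subgroupOf (S : Subgroup (Matrix.SpecialLinearGroup (Fin 2) F))).card_mul_index
    rw [hidx, Nat.card_congr (Subgroup.subgroupOfEquivOfLe inf_le_left).toEquiv, hSc, pow_succ] at this
    exact mul_right_cancel₀ two_ne_zero this
  haveI : IsCyclic B :=
    isCyclic_of_injective (Subgroup.inclusion (inf_le_right : B ≤ A)) (Subgroup.inclusion_injective _)
  obtain ⟨⟨c, hcS, hcA⟩, hcgen⟩ := IsCyclic.exists_generator (α := B)
  have hco : orderOf c = 2 ^ k := by
    rw [← hBc, ← orderOf_eq_card_of_forall_mem_zpowers hcgen, ← Subgroup.orderOf_coe]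
  have h22 : 2 ^ 2 ≤ 2 ^ k := Nat.pow_le_pow_right two_pos hk
  have hcns : GL2.Nonscalar (c : Matrix (Fin 2) (Fin 2) F) := fun hs => by
    have h1 : orderOf c ≤ 2 := by
      rcases GL2.scalar_cases (fun h => h hs) with rfl | rfl
      · rw [orderOf_one]; norm_num
      · exact Nat.le_of_dvd two_pos (orderOf_dvd_of_pow_eq_one (by
          rw [pow_two]; exact Subtype.ext (by rw [GL2.coe_mulS, GL2.z1_coe, GL2.coe_oneS]; simp)))
    rw [hco] at h1; omega
  have hCc : Subgroup.centralizer ({c} : Set (Matrix.SpecialLinearGroup (Fin 2) F)) = A :=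
    GL2.centralizer_eq_of_mem hns hcA hcns
  have hxx := hsq x (hSN hxS) hxA
  have hxc := hinv x (hSN hxS) hxA c hcA
  have hpow : ∀ a ∈ A, a ^ (2 ^ (k + 1)) = 1 → a ∈ B := by
    intro a ha h
    have h1 : (⟨a, ha⟩ : A) ^ m = 1 := hcard ▸ pow_card_eq_one'
    have h2 : a ^ (2 ^ k) = 1 := by
      have hh : a ^ Nat.gcd (2 ^ (k + 1)) m = 1 :=
        pow_gcd_eq_one.mpr ⟨h, congrArg Subtype.val h1⟩
      have hgcd : Nat.gcd (2 ^ (k + 1)) m ∣ 2 ^ k := by
        obtain ⟨j, hj, hje⟩ := (Nat.dvd_prime_pow Nat.prime_two).mp (Nat.gcd_dvd_left (2 ^ (k + 1)) m)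
        rw [hje]
        have h1 := hje ▸ Nat.gcd_dvd_right (2 ^ (k + 1)) m
        rw [hm] at h1
        exact ((Nat.coprime_two_left.mpr ho).pow_left j).dvd_of_dvd_mul_right h1
      obtain ⟨d, hd⟩ := hgcd
      rw [hd, pow_mul, hh, one_pow]
    haveI := Fintype.ofFinite A
    have hsub : (Finset.univ.filter fun b : A => (b : Matrix.SpecialLinearGroup (Fin 2) F) ∈ B) ⊆
        Finset.univ.filter fun b : A => b ^ (2 ^ k) = 1 := fun b hb => by
      rw [Finset.mem_filter] at hb ⊢
      refine ⟨Finset.mem_univ _, Subtype.ext ?_⟩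
      have hbB : (⟨(b : Matrix.SpecialLinearGroup (Fin 2) F), hb.2⟩ : B) ^ (2 ^ k) = 1 :=
        hBc ▸ pow_card_eq_one'
      simpa using congrArg Subtype.val hbB
    have hle := IsCyclic.card_pow_eq_one_le (α := A) (show 0 < 2 ^ k by positivity)
    have hBA : (Finset.univ.filter fun b : A => (b : Matrix.SpecialLinearGroup (Fin 2) F) ∈ B).card =
        2 ^ k := by
      rw [← hBc, Nat.card_eq_fintype_card, ← Fintype.card_subtype]
      exact Fintype.card_congr
        { toFun := fun b => ⟨b.1, b.2⟩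
          invFun := fun b => ⟨⟨b.1, b.2.2⟩, b.2⟩
          left_inv := fun b => rfl
          right_inv := fun b => rfl }
    have heq := Finset.eq_of_subset_of_card_le hsub (by rw [hBA]; exact hle)
    have hmem : (⟨a, ha⟩ : A) ∈ Finset.univ.filter fun b : A => b ^ (2 ^ k) = 1 :=
      Finset.mem_filter.mpr ⟨Finset.mem_univ _, Subtype.ext h2⟩
    rw [← heq] at hmem
    exact (Finset.mem_filter.mp hmem).2
  set NS := Subgroup.normalizer ((S : Subgroup (Matrix.SpecialLinearGroup (Fin 2) F)) :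
    Set (Matrix.SpecialLinearGroup (Fin 2) F)) with hNS
  have hSNS : (S : Subgroup (Matrix.SpecialLinearGroup (Fin 2) F)) ≤ NS := Subgroup.le_normalizer
  have hNA : ∀ a ∈ A, a ∈ NS → a ∈ B := by
    intro a ha haN
    have h1 : a * x * a⁻¹ ∈ (S : Subgroup (Matrix.SpecialLinearGroup (Fin 2) F)) :=
      (Subgroup.mem_normalizer_iff.mp haN x).mp hxS
    have h2 : x * a⁻¹ * x⁻¹ = a := by rw [hinv x (hSN hxS) hxA a⁻¹ (inv_mem ha), inv_inv]
    have h3 : a * a ∈ B := by
      refine ⟨?_, mul_mem ha ha⟩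
      have := mul_mem h1 (inv_mem hxS)
      rwa [show a * x * a⁻¹ * x⁻¹ = a * (x * a⁻¹ * x⁻¹) by group, h2] at this
    refine hpow a ha ?_
    rw [pow_succ', pow_mul, pow_two]
    exact hco ▸ (by
      obtain ⟨i, hi⟩ := Subgroup.mem_zpowers_iff.mp (hcgen ⟨a * a, h3⟩)
      have hi' := congrArg Subtype.val hi
      simp only [SubgroupClass.coe_zpow] at hi'
      rw [← hi', ← zpow_natCast, ← zpow_mul, mul_comm, zpow_mul, zpow_natCast, pow_orderOf_eq_one,
        _root_.one_zpow])
  refine ⟨?_, fun h8 => ?_, fun h8 => ?_⟩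
  · refine le_antisymm (fun u hu => ?_) (Subgroup.center_le_centralizer _)
    have huA : u ∈ A := by
      rw [← hCc]
      exact Subgroup.mem_centralizer_singleton_iff.mpr (Subgroup.mem_centralizer_iff.mp hu c hcS).symm
    have h2 := hinv x (hSN hxS) hxA u huA
    rw [Subgroup.mem_centralizer_iff.mp hu x hxS, mul_inv_cancel_right] at h2
    rcases GL2.sq_one_cases hc (mul_eq_one_iff_eq_inv.mpr h2) with rfl | rfl
    · exact one_mem _
    · exact GL2.z1_mem_center
  · have hk3 := hk8 h8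
    refine le_antisymm (fun u hu => ?_) hSNS
    have huc : u * c * u⁻¹ ∈ A := by
      by_contra hn
      have hS' : u * c * u⁻¹ ∈ (S : Subgroup (Matrix.SpecialLinearGroup (Fin 2) F)) :=
        (Subgroup.mem_normalizer_iff.mp hu c).mp hcS
      have h2 := hsq _ (hSN hS') hn
      have h4 : (u * c * u⁻¹) ^ 4 = 1 := by
        rw [show (4 : ℕ) = 2 * 2 from rfl, pow_mul, pow_two (u * c * u⁻¹), h2, pow_two]
        exact Subtype.ext (by rw [GL2.coe_mulS, GL2.z1_coe, GL2.coe_oneS]; simp)
      rw [conj_pow, mul_inv_eq_one, mul_eq_left] at h4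
      have := Nat.le_of_dvd (by norm_num) (orderOf_dvd_of_pow_eq_one h4)
      have h23 : 2 ^ 3 ≤ 2 ^ k := Nat.pow_le_pow_right two_pos hk3
      omega
    have huN : u ∈ N := by
      have key : ∀ w, w * c * w⁻¹ ∈ A → ∀ a ∈ A, w * a * w⁻¹ ∈ A := fun w hw a ha => by
        have hwn : GL2.Nonscalar ((w * c * w⁻¹ : Matrix.SpecialLinearGroup (Fin 2) F) :
            Matrix (Fin 2) (Fin 2) F) := GL2.nonscalar_isConjS (isConj_iff.mpr ⟨w, rfl⟩) hcns
        rw [hA, ← GL2.centralizer_eq_of_mem hns hw hwn, Subgroup.mem_centralizer_singleton_iff]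
        rw [← hCc, Subgroup.mem_centralizer_singleton_iff] at ha
        calc w * a * w⁻¹ * (w * c * w⁻¹) = w * (a * c) * w⁻¹ := by group
          _ = w * c * w⁻¹ * (w * a * w⁻¹) := by rw [ha]; group
      have hinj : ∀ a, u * a * u⁻¹ ∈ A → a ∈ A := fun a hA' => by
        rw [← hCc, Subgroup.mem_centralizer_singleton_iff]
        have h' := GL2.centralizer_comm hns hA' huc
        calc a * c = u⁻¹ * (u * a * u⁻¹ * (u * c * u⁻¹)) * u := by group
          _ = c * a := by rw [h']; group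
      exact Subgroup.mem_normalizer_iff.mpr fun a => ⟨key u huc a, hinj a⟩
    by_cases huA : u ∈ A
    · exact (hNA u huA hu).1
    · have hux : u * x ∈ A := by
        have hgA : g ∈ A := Subgroup.mem_centralizer_singleton_iff.mpr rfl
        refine Subgroup.mem_centralizer_singleton_iff.mpr ?_
        have h1 := hinv x (hSN hxS) hxA g hgA
        have h2 := hinv u huN huA g⁻¹ (inv_mem hgA)
        rw [inv_inv] at h2
        calc u * x * g = u * (x * g * x⁻¹) * x := by group
          _ = u * g⁻¹ * u⁻¹ * (u * x) := by rw [h1]; group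
          _ = g * (u * x) := by rw [h2]
      have := (hNA _ hux (mul_mem hu (hSNS hxS))).1
      exact (Subgroup.mul_mem_cancel_right _ hxS).mp this
  · have hk2 := hk4 h8
    subst hk2
    have hcc : c * c = GL2.z1 := by
      have h4 : c * c * (c * c) = 1 := by
        have := pow_orderOf_eq_one c
        rw [hco] at this
        rw [← this]; simp [pow_succ, mul_assoc]
      rcases GL2.sq_one_cases hc h4 with h | h
      · have := Nat.le_of_dvd two_pos (orderOf_dvd_of_pow_eq_one ((pow_two c).trans h))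
        omega
      · exact h
    obtain ⟨w, hwc, hwx⟩ := quat_step hc hcc hxx hxc
    have hSgen : (S : Subgroup (Matrix.SpecialLinearGroup (Fin 2) F)) = Subgroup.closure {c, x} := by
      refine le_antisymm (fun s hs => ?_) ((Subgroup.closure_le _).mpr ?_)
      · have hBle : ∀ b ∈ B, b ∈ Subgroup.closure ({c, x} : Set _) := fun b hb => by
          obtain ⟨i, hi⟩ := Subgroup.mem_zpowers_iff.mp (hcgen ⟨b, hb⟩)
          have hi' := congrArg Subtype.val hi
          simp only [SubgroupClass.coe_zpow] at hi'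
          rw [← hi']
          exact zpow_mem (Subgroup.subset_closure (Set.mem_insert _ _)) i
        by_cases hsA : s ∈ A
        · exact hBle s ⟨hs, hsA⟩
        · have hsx : s * x ∈ B := by
            refine ⟨mul_mem hs hxS, Subgroup.mem_centralizer_singleton_iff.mpr ?_⟩
            have hgA : g ∈ A := Subgroup.mem_centralizer_singleton_iff.mpr rfl
            have h1 := hinv x (hSN hxS) hxA g hgA
            have h2 := hinv s (hSN hs) hsA g⁻¹ (inv_mem hgA)
            rw [inv_inv] at h2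
            calc s * x * g = s * (x * g * x⁻¹) * x := by group
              _ = s * g⁻¹ * s⁻¹ * (s * x) := by rw [h1]; group
              _ = g * (s * x) := by rw [h2]
          rw [show s = s * x * x⁻¹ by group]
          exact mul_mem (hBle _ hsx)
            (inv_mem (Subgroup.subset_closure (Set.mem_insert_of_mem _ rfl)))
      · rintro u (h | h) <;> subst u
        · exact hcS
        · exact hxS
    have hwN : w ∈ NS := by
      have hle : (S : Subgroup (Matrix.SpecialLinearGroup (Fin 2) F)).map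
          (MulAut.conj w).toMonoidHom ≤ S := by
        rw [hSgen, MonoidHom.map_closure, Subgroup.closure_le]
        rintro _ ⟨u, (h | h), rfl⟩ <;> subst u
        · show w * c * w⁻¹ ∈ _
          rw [hwc]; exact Subgroup.subset_closure (Set.mem_insert_of_mem _ rfl)
        · show w * x * w⁻¹ ∈ _
          rw [hwx]
          exact mul_mem (Subgroup.subset_closure (Set.mem_insert _ _))
            (Subgroup.subset_closure (Set.mem_insert_of_mem _ rfl))
      have heq := Subgroup.eq_of_le_of_card_ge hle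
        (by rw [Subgroup.card_map_of_injective (MulAut.conj w).injective])
      refine Subgroup.mem_normalizer_iff.mpr fun s => ⟨fun hs => hle ⟨s, hs, rfl⟩, fun hs => ?_⟩
      rw [← heq] at hs
      obtain ⟨t, htS, ht'⟩ := hs
      have : t = s := mul_left_cancel (mul_right_cancel (ht' : w * t * w⁻¹ = w * s * w⁻¹))
      exact this ▸ htS
    have hwS : w ∉ (S : Subgroup (Matrix.SpecialLinearGroup (Fin 2) F)) := fun h => hxA <| by
      rw [← hwc]
      by_cases hwA : w ∈ A
      · exact mul_mem (mul_mem hwA hcA) (inv_mem hwA)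
      · rw [hinv w (hSN h) hwA c hcA]; exact inv_mem hcA
    have hlt : Nat.card S < Nat.card NS := by
      refine lt_of_le_of_ne (Nat.le_of_dvd Nat.card_pos (Subgroup.card_dvd_of_le hSNS)) fun h => hwS ?_
      rw [Subgroup.eq_of_le_of_card_ge hSNS h.symm.le]
      exact hwN
    haveI := Fintype.ofFinite NS
    have hub : Nat.card NS ≤ 6 * 4 := by
      let T := ((S : Subgroup (Matrix.SpecialLinearGroup (Fin 2) F)) :
        Set (Matrix.SpecialLinearGroup (Fin 2) F)).toFinset.filter fun s => s ≠ 1 ∧ s ≠ GL2.z1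
      have hT : T.card ≤ 6 := by
        have hz : GL2.z1 ∈ (S : Subgroup (Matrix.SpecialLinearGroup (Fin 2) F)) :=
          hcc ▸ mul_mem hcS hcS
        have hsub : T ⊆ (((S : Subgroup (Matrix.SpecialLinearGroup (Fin 2) F)) :
            Set (Matrix.SpecialLinearGroup (Fin 2) F)).toFinset.erase 1).erase GL2.z1 := fun s hs => by
          simp only [T, Finset.mem_filter] at hs
          exact Finset.mem_erase.mpr ⟨hs.2.2, Finset.mem_erase.mpr ⟨hs.2.1, hs.1⟩⟩
        refine (Finset.card_le_card hsub).trans ?_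
        rw [Finset.card_erase_of_mem (Finset.mem_erase.mpr
            ⟨GL2.z1_ne_one hc, Set.mem_toFinset.mpr hz⟩),
          Finset.card_erase_of_mem (by simp), Set.toFinset_card, ← Nat.card_eq_fintype_card,
          SetLike.coe_sort_coe, hSc]
        norm_num
      rw [Nat.card_eq_fintype_card, ← Finset.card_univ]
      refine (Finset.card_le_mul_card_image_of_maps_to (f := fun u : NS =>
        (u : Matrix.SpecialLinearGroup (Fin 2) F) * c * (u : Matrix.SpecialLinearGroup (Fin 2) F)⁻¹)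
        (t := T) (fun u _ => ?_) 4 fun s _ => ?_).trans (by omega)
      · simp only [T, Finset.mem_filter, Set.mem_toFinset]
        refine ⟨(Subgroup.mem_normalizer_iff.mp u.2 c).mp hcS, fun h => ?_, fun h => ?_⟩
        · rw [mul_inv_eq_one, mul_eq_left] at h
          exact hcns ⟨1, by rw [h]; simp⟩
        · have hn := GL2.nonscalar_isConjS (isConj_iff.mpr ⟨(u : Matrix.SpecialLinearGroup (Fin 2) F), rfl⟩ :
            IsConj c ((u : Matrix.SpecialLinearGroup (Fin 2) F) * c * (u : Matrix.SpecialLinearGroup (Fin 2) F)⁻¹)) hcns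
          rw [h] at hn; exact GL2.z1_scalar hn
      · rw [show (4 : ℕ) = 2 ^ 2 from rfl, ← hBc, Nat.card_eq_fintype_card]
        by_cases hne : (Finset.univ.filter fun u : NS => (u : Matrix.SpecialLinearGroup (Fin 2) F) * c *
            (u : Matrix.SpecialLinearGroup (Fin 2) F)⁻¹ = s).Nonempty
        · obtain ⟨v, hv⟩ := hne
          refine Finset.card_le_card_of_injOn
            (fun u : NS => if h : (v : Matrix.SpecialLinearGroup (Fin 2) F)⁻¹ * u ∈ B then
              (⟨_, h⟩ : B) else 1) (fun u _ => Finset.mem_univ _) ?_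
          have hmem : ∀ u : NS, (u : Matrix.SpecialLinearGroup (Fin 2) F) * c *
              (u : Matrix.SpecialLinearGroup (Fin 2) F)⁻¹ = s →
              (v : Matrix.SpecialLinearGroup (Fin 2) F)⁻¹ * u ∈ B := fun u hu => by
            refine hNA _ ?_ (mul_mem (inv_mem v.2) u.2)
            rw [← hCc, Subgroup.mem_centralizer_singleton_iff]
            have hvv := (Finset.mem_filter.mp hv).2
            calc (v : Matrix.SpecialLinearGroup (Fin 2) F)⁻¹ * u * c
                = (v : Matrix.SpecialLinearGroup (Fin 2) F)⁻¹ * ((u : Matrix.SpecialLinearGroup (Fin 2) F) * c *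
                    (u : Matrix.SpecialLinearGroup (Fin 2) F)⁻¹) * u := by group
              _ = c * ((v : Matrix.SpecialLinearGroup (Fin 2) F)⁻¹ * u) := by rw [hu, ← hvv]; group
          intro u hu u' hu' e
          simp only [Finset.coe_filter, Set.mem_ofPred_eq] at hu hu'
          simp only [dif_pos (hmem u hu.2), dif_pos (hmem u' hu'.2)] at e
          exact Subtype.ext (mul_left_cancel (congrArg Subtype.val e))
        · rw [Finset.not_nonempty_iff_eq_empty] at hne
          rw [hne]; simp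
    obtain ⟨j, hj⟩ := Subgroup.card_dvd_of_le hSNS
    have hjodd : ¬ 2 ∣ j := fun ⟨i, hi⟩ => by
      have hd : Nat.card S * 2 ∣ Nat.card (Matrix.SpecialLinearGroup (Fin 2) F) :=
        (show Nat.card S * 2 ∣ Nat.card NS from ⟨i, by rw [hj, hi, mul_assoc]⟩).trans
          (Subgroup.card_subgroup_dvd_card _)
      rw [hSc, hG, Nat.mul_dvd_mul_iff_left (by positivity)] at hd
      have := Nat.odd_iff.mp hr
      omega
    rw [hj, mul_comm]
    rw [hj, hSc] at hlt hub
    congr 1
    omega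

end Cfsg.Agent.S2431
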