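import Cfsg.Statements.S2433
import Cfsg.Agent.Lib.GL2.Borel

set_option autoImplicit false
open Cfsg

namespace Cfsg.Agent.S2433

/-- Let F be a finite field with q elements, q odd, α a multiplicative character of F, and R(α) the function on SL₂ induced from the linear character b ↦ α(b₁₁) of the upper triangular subgroup. Then R(α) takes the value α(a) + α(a⁻¹) at a diagonal element with entries a, a⁻¹, a² ≠ 1; the value 0 at every element with no eigenvector in F²; the value α(ε) at an upper triangular element with both diagonal entries ε and non-zero upper right entry; and the value (q + 1)α(ε) at the scalar element ε (ε = ±1). -/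
theorem result {F : Type*} [Field F] [Fintype F] [DecidableEq F] (hodd : Odd (Fintype.card F)) (α : MulChar F ℂ) (g : Matrix.SpecialLinearGroup (Fin 2) F) :
    ((g : Matrix (Fin 2) (Fin 2) F) 0 1 = 0 → (g : Matrix (Fin 2) (Fin 2) F) 1 0 = 0 → (g : Matrix (Fin 2) (Fin 2) F) 0 0 ^ 2 ≠ 1 →
      (Cfsg.indFun ((Cfsg.upperTriangularGL 2 F).comap Matrix.SpecialLinearGroup.toGL) (fun b => α (((b : Matrix.SpecialLinearGroup (Fin 2) F) : Matrix (Fin 2) (Fin 2) F) 0 0))) g = α ((g : Matrix (Fin 2) (Fin 2) F) 0 0) + α ((g : Matrix (Fin 2) (Fin 2) F) 1 1)) ∧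
    ((∀ (c : F) (v : Fin 2 → F), v ≠ 0 → (g : Matrix (Fin 2) (Fin 2) F).mulVec v ≠ c • v) → (Cfsg.indFun ((Cfsg.upperTriangularGL 2 F).comap Matrix.SpecialLinearGroup.toGL) (fun b => α (((b : Matrix.SpecialLinearGroup (Fin 2) F) : Matrix (Fin 2) (Fin 2) F) 0 0))) g = 0) ∧
    ((g : Matrix (Fin 2) (Fin 2) F) 1 0 = 0 → (g : Matrix (Fin 2) (Fin 2) F) 0 0 = (g : Matrix (Fin 2) (Fin 2) F) 1 1 → (g : Matrix (Fin 2) (Fin 2) F) 0 1 ≠ 0 →
      (Cfsg.indFun ((Cfsg.upperTriangularGL 2 F).comap Matrix.SpecialLinearGroup.toGL) (fun b => α (((b : Matrix.SpecialLinearGroup (Fin 2) F) : Matrix (Fin 2) (Fin 2) F) 0 0))) g = α ((g : Matrix (Fin 2) (Fin 2) F) 0 0)) ∧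
    ((g : Matrix (Fin 2) (Fin 2) F) 0 1 = 0 → (g : Matrix (Fin 2) (Fin 2) F) 1 0 = 0 → (g : Matrix (Fin 2) (Fin 2) F) 0 0 = (g : Matrix (Fin 2) (Fin 2) F) 1 1 →
      (Cfsg.indFun ((Cfsg.upperTriangularGL 2 F).comap Matrix.SpecialLinearGroup.toGL) (fun b => α (((b : Matrix.SpecialLinearGroup (Fin 2) F) : Matrix (Fin 2) (Fin 2) F) 0 0))) g = ((Fintype.card F : ℂ) + 1) * α ((g : Matrix (Fin 2) (Fin 2) F) 0 0)) := by
  change
    (_ → _ → _ → GL2.RS α g = _) ∧ (_ → GL2.RS α g = _) ∧ (_ → _ → _ → GL2.RS α g = _) ∧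
      (_ → _ → _ → GL2.RS α g = _)
  rw [GL2.RS_apply]
  have hd := GL2.detS g
  rw [Matrix.det_fin_two] at hd
  refine ⟨fun h01 h10 hsq => ?_, fun h => ?_, fun h10 he h01 => ?_, fun h01 h10 he => ?_⟩
  · rw [h10, mul_zero, sub_zero] at hd
    have hne : (g : Matrix (Fin 2) (Fin 2) F) 0 0 ≠ (g : Matrix (Fin 2) (Fin 2) F) 1 1 :=
      fun e => hsq (by rw [pow_two]; nth_rw 2 [e]; exact hd)
    rw [GL2.psFun_upper_ne _ _ h10 hne,
      MulChar.one_apply (isUnit_iff_ne_zero.mpr (right_ne_zero_of_mul_eq_one hd)),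
      MulChar.one_apply (isUnit_iff_ne_zero.mpr (left_ne_zero_of_mul_eq_one hd)), mul_one, mul_one]
  · exact GL2.psFun_elliptic _ _ ((GL2.eig_empty_iff _).mpr h)
  · rw [h10, mul_zero, sub_zero] at hd
    rw [GL2.psFun_upper_eq _ _ h10 he h01,
      MulChar.one_apply (isUnit_iff_ne_zero.mpr (right_ne_zero_of_mul_eq_one hd)), mul_one]
  · rw [h10, mul_zero, sub_zero] at hd
    rw [GL2.psFun_scalar _ _ h10 h01 he,
      MulChar.one_apply (isUnit_iff_ne_zero.mpr (left_ne_zero_of_mul_eq_one hd)), mul_one]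

end Cfsg.Agent.S2433
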