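import Cfsg.Statements.S2434
import Cfsg.Agent.Lib.GL2.Cusp

set_option autoImplicit false
open Cfsg

namespace Cfsg.Agent.S2434

/-- Let F be a finite field with q elements, q odd, and C a cyclic subgroup of order q + 1 of SL₂ over F (a non-split torus; it contains the centre). For every homomorphism θ from C to the non-zero complex numbers with θ² ≠ 1 there is an irreducible complex character χ of degree q − 1 such that χ(c) = −θ(c) − θ(c)⁻¹ for every non-central c in C, χ(zg) = θ(z)χ(g) for central z in C, χ vanishes at diagonal elements with entry a, a² ≠ 1, and χ takes the value −1 at every upper unitriangular element other than 1. Conversely every irreducible character of degree q − 1 has, for some such θ, the values −θ(c) − θ(c)⁻¹ at the non-central elements c of C (for q ≥ 5 these are exactly the cuspidal characters of degree q − 1). -/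
theorem result {F : Type*} [Field F] [Fintype F] (hodd : Odd (Fintype.card F))
    (C : Subgroup (Matrix.SpecialLinearGroup (Fin 2) F)) (hC : IsCyclic C) (hcard : Nat.card C = Fintype.card F + 1) :
    (∀ θ : C →* ℂˣ, (∃ c : C, θ c ^ 2 ≠ 1) →
      ∃ χ : Matrix.SpecialLinearGroup (Fin 2) F → ℂ, Cfsg.IsIrrCharacter (Matrix.SpecialLinearGroup (Fin 2) F) χ ∧ χ 1 = (Fintype.card F : ℂ) - 1 ∧
        (∀ c : C, (c : Matrix.SpecialLinearGroup (Fin 2) F) ∉ Subgroup.center (Matrix.SpecialLinearGroup (Fin 2) F) → χ c = -((θ c).val + (θ c)⁻¹.val)) ∧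
        (∀ c : C, (c : Matrix.SpecialLinearGroup (Fin 2) F) ∈ Subgroup.center (Matrix.SpecialLinearGroup (Fin 2) F) → ∀ g : Matrix.SpecialLinearGroup (Fin 2) F, χ ((c : Matrix.SpecialLinearGroup (Fin 2) F) * g) = (θ c).val * χ g) ∧
        (∀ g : Matrix.SpecialLinearGroup (Fin 2) F, (g : Matrix (Fin 2) (Fin 2) F) 0 1 = 0 → (g : Matrix (Fin 2) (Fin 2) F) 1 0 = 0 → (g : Matrix (Fin 2) (Fin 2) F) 0 0 ^ 2 ≠ 1 → χ g = 0) ∧
        (∀ g : Matrix.SpecialLinearGroup (Fin 2) F, (g : Matrix (Fin 2) (Fin 2) F) 1 0 = 0 → (g : Matrix (Fin 2) (Fin 2) F) 0 0 = 1 → (g : Matrix (Fin 2) (Fin 2) F) 1 1 = 1 → (g : Matrix (Fin 2) (Fin 2) F) 0 1 ≠ 0 → χ g = -1)) ∧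
    (∀ χ : Matrix.SpecialLinearGroup (Fin 2) F → ℂ, Cfsg.IsIrrCharacter (Matrix.SpecialLinearGroup (Fin 2) F) χ → χ 1 = (Fintype.card F : ℂ) - 1 →
      ∃ θ : C →* ℂˣ, (∃ c : C, θ c ^ 2 ≠ 1) ∧
        ∀ c : C, (c : Matrix.SpecialLinearGroup (Fin 2) F) ∉ Subgroup.center (Matrix.SpecialLinearGroup (Fin 2) F) → χ c = -((θ c).val + (θ c)⁻¹.val)) := by
  classical
  have hc := GL2.ringChar_ne_two_of_odd hodd
  haveI := hC
  have hz := GL2.z1_mem_torus hc hcard
  obtain ⟨e, he, hens⟩ := GL2.exists_covers (F := F)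
  have hncen : ∀ c : Matrix.SpecialLinearGroup (Fin 2) F,
      c ∉ Subgroup.center (Matrix.SpecialLinearGroup (Fin 2) F) →
      GL2.Nonscalar (c : Matrix (Fin 2) (Fin 2) F) := fun c h => by
    by_contra hs
    rcases GL2.scalar_cases hs with rfl | rfl
    · exact h (one_mem _)
    · exact h GL2.z1_mem_center
  have hθz : ∀ θ : C →* ℂˣ, ((θ ⟨GL2.z1, hz⟩ : ℂˣ) : ℂ) = 1 ∨ ((θ ⟨GL2.z1, hz⟩ : ℂˣ) : ℂ) = -1 :=
    fun θ => mul_self_eq_one_iff.mp (by
      rw [← Units.val_mul, ← map_mul,
        show (⟨GL2.z1, hz⟩ : C) * ⟨GL2.z1, hz⟩ = 1 from Subtype.ext GL2.z1_sq, map_one,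
        Units.val_one])
  refine ⟨fun θ hθ => ?_, fun χ hχ hd => ?_⟩
  · obtain ⟨c₀, hc₀⟩ := hθ
    have hθ2 : θ ^ 2 ≠ 1 := fun h => hc₀ (DFunLike.congr_fun h c₀)
    obtain ⟨α, hα⟩ := GL2.exists_char_sign hc (hθz θ)
    have hirr := GL2.isIrr_psi θ α hc hcard hz hα hθ2
    refine ⟨GL2.psi C θ α, hirr, GL2.psi_one θ α hcard,
      fun c hcc => GL2.psi_torus θ α hc hcard c.2 (hncen _ hcc), fun c hcc g => ?_,
      fun g h01 h10 hsq => ?_, fun g h10 h00 h11 h01 => ?_⟩
    · rcases GL2.scalar_cases (GL2.scalar_of_mem_center hcc) with h | h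
      · rw [h, one_mul, show c = 1 from Subtype.ext h, map_one, Units.val_one, one_mul]
      · obtain ⟨ω, -, -, hω⟩ := GL2.exists_omega hirr
        have h1 := hω 1
        rw [mul_one, GL2.psi_z1 θ α hcard hz hα, GL2.psi_one θ α hcard, mul_comm ω] at h1
        rw [h, hω, show c = ⟨GL2.z1, hz⟩ from Subtype.ext h,
          mul_left_cancel₀ GL2.card_sub_one_ne_zero h1]
    · have hd' := GL2.detS g
      rw [Matrix.det_fin_two, h10, mul_zero, sub_zero] at hd'
      have hne : (g : Matrix (Fin 2) (Fin 2) F) 0 0 ≠ (g : Matrix (Fin 2) (Fin 2) F) 1 1 :=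
        fun e => hsq (by rw [pow_two]; nth_rw 2 [e]; exact hd')
      refine GL2.psi_split θ α hc hcard (GL2.nonscalar_iff.mpr (Or.inr (Or.inr hne))) (fun e => ?_) ?_
      · rw [Matrix.trace_fin_two] at e
        have h0 : ((g : Matrix (Fin 2) (Fin 2) F) 0 0 - (g : Matrix (Fin 2) (Fin 2) F) 1 1) *
            ((g : Matrix (Fin 2) (Fin 2) F) 0 0 - (g : Matrix (Fin 2) (Fin 2) F) 1 1) = 0 := by
          linear_combination e - 4 * hd'
        exact hne (sub_eq_zero.mp (mul_self_eq_zero.mp h0))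
      · rw [GL2.eig_upper h10]
        exact Set.Nonempty.ne_empty ⟨_, Set.mem_insert _ _⟩
    · have : g = GL2.uS ((g : Matrix (Fin 2) (Fin 2) F) 0 1) := Subtype.ext (by
        rw [GL2.uS_coe]; apply Classical.SL2.coord <;> simp [h10, h00, h11])
      rw [this]
      exact GL2.psi_uS θ α hc hcard h01
  · by_cases h4 : 4 ≤ Fintype.card F
    · have hfull := (GL2.kind_of_degreeS hχ).2.2.1 h4 hd
      by_contra hno
      push Not at hno
      rcases GL2.cusp_kind hχ hfull.1 he with ⟨-, -, hu⟩ | ⟨h', -⟩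
      · obtain ⟨h12, -⟩ := GL2.torus_mult hc hcard hχ (k := 2) (by norm_num) he (hens hc)
          (by rw [hd]; simp)
          (by rw [hu 1 one_ne_zero, hu _ e.ne_zero]; norm_num)
          (fun h1 => by
            rw [h1, Pi.one_apply] at hd
            have h3 : ((2 : ℕ) : ℂ) = Fintype.card F := by push_cast; linear_combination hd
            have : 2 = Fintype.card F := by exact_mod_cast h3
            omega)
          (fun h1 => by
            rw [h1, GL2.StS_one] at hd
            exact one_ne_zero (α := ℂ) (by linear_combination hd))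
          (fun θ α hθ hα h1 => by
            obtain ⟨c₀, hc₀⟩ : ∃ c, θ c ^ 2 ≠ 1 := by
              by_contra h
              push Not at h
              exact hθ (MonoidHom.ext h)
            obtain ⟨c, hcc, hne⟩ := hno θ ⟨c₀, hc₀⟩
            exact hne (by rw [← h1]; exact GL2.psi_torus θ α hc hcard c.2 (hncen _ hcc)))
        norm_num at h12
      · rw [hd] at h'
        exact GL2.card_sub_one_ne_zero (F := F) (by linear_combination h')
    · have hq : 2 ≤ Fintype.card F := Fintype.one_lt_card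
      have h3 : Fintype.card F = 3 := by have := Nat.odd_iff.mp hodd; omega
      have hc4 : Nat.card C = 4 := by omega
      obtain ⟨g, hg⟩ := IsCyclic.exists_generator (α := C)
      have hgo : orderOf g = 4 := by rw [orderOf_eq_card_of_forall_mem_zpowers hg, hc4]
      have h4' : ∀ c : C, c ^ 4 = 1 := fun c => hc4 ▸ pow_card_eq_one'
      have hg2 : g ^ 2 ≠ 1 := fun h => by
        have := Nat.le_of_dvd (by norm_num) (orderOf_dvd_of_pow_eq_one h)
        omega
      have hinv : ∀ x : C, x * x = 1 → x ≠ 1 → (x : Matrix.SpecialLinearGroup (Fin 2) F) = GL2.z1 :=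
        fun x hx hx1 => by
          by_cases hns : GL2.Nonscalar ((x : Matrix.SpecialLinearGroup (Fin 2) F) :
              Matrix (Fin 2) (Fin 2) F)
          · exact absurd (congrArg Subtype.val (inv_eq_of_mul_eq_one_right hx))
              (GL2.sq_nonscalar_of_elliptic hc (GL2.torus_elliptic hc hcard x.2 hns))
          · rcases GL2.scalar_cases hns with h | h
            · exact absurd (Subtype.ext h) hx1
            · exact h
      obtain ⟨θ, hθ⟩ := GL2.exists_dual_ne_one hg2
      refine ⟨θ, ⟨g, by rwa [← map_pow]⟩, fun c hcc => ?_⟩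
      have hns := hncen _ hcc
      rw [GL2.deg_two_elliptic h3 hχ (by rw [hd, h3]; norm_num)
        (GL2.torus_elliptic hc hcard c.2 hns)]
      have hc2 : c ^ 2 = g ^ 2 := Subtype.ext <| by
        rw [hinv (c ^ 2) (by rw [← pow_add]; exact h4' c) ?_,
          hinv (g ^ 2) (by rw [← pow_add]; exact h4' g) hg2]
        intro h
        refine GL2.sq_nonscalar_of_elliptic hc (GL2.torus_elliptic hc hcard c.2 hns) ?_
        rw [pow_two] at h
        exact congrArg Subtype.val (inv_eq_of_mul_eq_one_right h)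
      have hm1 : ((θ c : ℂˣ) : ℂ) * (θ c : ℂˣ) = -1 := by
        refine (mul_self_eq_one_iff.mp ?_).resolve_left fun h => hθ (Units.ext ?_)
        · rw [← Units.val_mul, ← Units.val_mul, ← map_mul, ← map_mul, ← pow_two, ← pow_two,
            ← pow_mul, h4' c, map_one, Units.val_one]
        · rw [← hc2, map_pow, pow_two, Units.val_mul, h, Units.val_one]
      have hi : ((θ c)⁻¹ : ℂˣ).val = -((θ c : ℂˣ) : ℂ) := by
        rw [Units.val_inv_eq_inv_val]
        exact inv_eq_of_mul_eq_one_right (by rw [mul_neg, hm1, neg_neg])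
      rw [hi]; ring

end Cfsg.Agent.S2434
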