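import Cfsg.Statements.S2435
import Cfsg.Agent.Lib.GL2.Cusp

set_option autoImplicit false
open Cfsg

namespace Cfsg.Agent.S2435

/-- Let F be a finite field with q elements, q odd and q ≥ 5, and χ an irreducible complex character of SL₂ over F. If χ has degree (q + 1)/2, then at a diagonal element with entry a, a² ≠ 1, χ takes the value 1 when a is a square in F and −1 otherwise. If χ has degree (q − 1)/2, then at an element g with no eigenvector in F² (so g has order dividing q + 1), χ takes the value −1 when g raised to the power (q + 1)/2 is the identity and the value 1 otherwise. -/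
theorem result {F : Type*} [Field F] [Fintype F] (hodd : Odd (Fintype.card F)) (hq : 5 ≤ Fintype.card F)
    (χ : Matrix.SpecialLinearGroup (Fin 2) F → ℂ) (hχ : Cfsg.IsIrrCharacter (Matrix.SpecialLinearGroup (Fin 2) F) χ) (g : Matrix.SpecialLinearGroup (Fin 2) F) :
    (χ 1 = (((Fintype.card F + 1) / 2 : ℕ) : ℂ) → (g : Matrix (Fin 2) (Fin 2) F) 0 1 = 0 → (g : Matrix (Fin 2) (Fin 2) F) 1 0 = 0 → (g : Matrix (Fin 2) (Fin 2) F) 0 0 ^ 2 ≠ 1 →
      (IsSquare ((g : Matrix (Fin 2) (Fin 2) F) 0 0) → χ g = 1) ∧ (¬ IsSquare ((g : Matrix (Fin 2) (Fin 2) F) 0 0) → χ g = -1)) ∧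
    (χ 1 = (((Fintype.card F - 1) / 2 : ℕ) : ℂ) → (∀ (c : F) (v : Fin 2 → F), v ≠ 0 → (g : Matrix (Fin 2) (Fin 2) F).mulVec v ≠ c • v) →
      (((g ^ ((Fintype.card F + 1) / 2)) : Matrix (Fin 2) (Fin 2) F) = 1 → χ g = -1) ∧ (((g ^ ((Fintype.card F + 1) / 2)) : Matrix (Fin 2) (Fin 2) F) ≠ 1 → χ g = 1)) := by
  classical
  have hc := GL2.ringChar_ne_two_of_odd hodd
  obtain ⟨hp, hm⟩ := GL2.odd_half hodd
  obtain ⟨e, he, hens⟩ := GL2.exists_covers (F := F)
  have hcf := Char.IsCharacter.isClassFunction (Char.IsIrrCharacter.isCharacter hχ)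
  refine ⟨fun hd h01 h10 hsq => ?_, fun hd h => ?_⟩
  · obtain ⟨α, a, b, c⟩ := (GL2.kind_of_degreeS hχ).2.2.2.1 (by omega)
      (by linear_combination 2 * hd + hp)
    obtain ⟨hsum, -⟩ := (GL2.half_props hχ a b c).2.2 e he
    have hd' := GL2.detS g
    rw [Matrix.det_fin_two, h10, mul_zero, sub_zero] at hd'
    have hne : (g : Matrix (Fin 2) (Fin 2) F) 0 0 ≠ (g : Matrix (Fin 2) (Fin 2) F) 1 1 :=
      fun e => hsq (by rw [pow_two]; nth_rw 2 [e]; exact hd')
    have hns : GL2.Nonscalar (g : Matrix (Fin 2) (Fin 2) F) :=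
      GL2.nonscalar_iff.mpr (Or.inr (Or.inr hne))
    have ht : (g : Matrix (Fin 2) (Fin 2) F).trace * (g : Matrix (Fin 2) (Fin 2) F).trace ≠ 4 :=
      fun e => by
        rw [Matrix.trace_fin_two] at e
        have h0 : ((g : Matrix (Fin 2) (Fin 2) F) 0 0 - (g : Matrix (Fin 2) (Fin 2) F) 1 1) *
            ((g : Matrix (Fin 2) (Fin 2) F) 0 0 - (g : Matrix (Fin 2) (Fin 2) F) 1 1) = 0 := by
          linear_combination e - 4 * hd'
        exact hne (sub_eq_zero.mp (mul_self_eq_zero.mp h0))
    have h2 := congrFun hsum g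
    rw [GL2.RS_apply, GL2.psFun_upper_ne _ _ h10 hne,
      MulChar.one_apply (isUnit_iff_ne_zero.mpr (left_ne_zero_of_mul_eq_one hd')),
      MulChar.one_apply (isUnit_iff_ne_zero.mpr (right_ne_zero_of_mul_eq_one hd')), mul_one, mul_one,
      Pi.add_apply, show GL2.tw e χ g = χ g from GL2.conjS_eq_of_regular hcf hns ht _] at h2
    have hα11 : α ((g : Matrix (Fin 2) (Fin 2) F) 1 1) = α ((g : Matrix (Fin 2) (Fin 2) F) 0 0) := by
      rw [eq_inv_of_mul_eq_one_right hd', ← MulChar.inv_apply', ← GL2.sq_eq_one_iff_inv.mp a]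
    rw [hα11] at h2
    have hχg : χ g = α ((g : Matrix (Fin 2) (Fin 2) F) 0 0) := by linear_combination -h2 / 2
    have hsq1 : ∀ x : F, x ≠ 0 → α x * α x = 1 := fun x hx => by
      rw [← MulChar.mul_apply, ← pow_two, a, MulChar.one_apply (isUnit_iff_ne_zero.mpr hx)]
    refine ⟨fun hs => ?_, fun hs => ?_⟩
    · obtain ⟨x, hx⟩ := hs
      rw [hχg, hx, map_mul]
      exact hsq1 x fun h0 => left_ne_zero_of_mul_eq_one hd' (by rw [hx, h0, mul_zero])
    · rw [hχg]
      obtain ⟨x, hx⟩ := MulChar.ne_one_iff.mp b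
      have hxs : ¬ IsSquare (x : F) := fun ⟨y, hy⟩ => hx (by
        rw [hy, map_mul]; exact hsq1 y fun h0 => x.ne_zero (by rw [hy, h0, mul_zero]))
      refine (mul_self_eq_one_iff.mp (hsq1 _ (left_ne_zero_of_mul_eq_one hd'))).resolve_left
        fun h1 => hx ?_
      obtain ⟨y, hy⟩ : IsSquare ((x : F) * (g : Matrix (Fin 2) (Fin 2) F) 0 0) :=
        (quadraticChar_one_iff_isSquare (mul_ne_zero x.ne_zero (left_ne_zero_of_mul_eq_one hd'))).mp
          (by rw [map_mul, quadraticChar_neg_one_iff_not_isSquare.mpr hxs,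
            quadraticChar_neg_one_iff_not_isSquare.mpr hs]; norm_num)
      have := congrArg α hy
      rw [map_mul, map_mul, h1, mul_one] at this
      rw [this]
      exact hsq1 y fun h0 => mul_ne_zero x.ne_zero (left_ne_zero_of_mul_eq_one hd')
        (by rw [hy, h0, mul_zero])
  · obtain ⟨hcu, hd2⟩ := (GL2.kind_of_degreeS hχ).2.2.2.2.1 (by omega)
      (by linear_combination 2 * hd + hm)
    have hge := (GL2.eig_empty_iff _).mpr h
    let C := Subgroup.centralizer ({g} : Set (Matrix.SpecialLinearGroup (Fin 2) F))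
    haveI : IsCyclic C := GL2.isCyclic_centralizer hge
    have hcard : Nat.card C = Fintype.card F + 1 := GL2.card_centralizer_ellS hge hc
    have hq1 : ((Fintype.card F : ℂ)) - 1 ≠ 0 := GL2.card_sub_one_ne_zero
    rcases GL2.cusp_kind hχ hcu he with h' | ⟨-, -, hu⟩
    · exfalso
      rw [h'.1] at hd2
      exact hq1 (by linear_combination hd2)
    have hdc : (starRingEnd ℂ) (χ 1) = χ 1 := by rw [hd, map_natCast]
    obtain ⟨-, hval⟩ := GL2.torus_mult hc hcard hχ (k := 1) le_rfl he (hens hc)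
      (by rw [hdc, hd]; linear_combination hm) (by rw [← map_add, hu]; simp)
      (fun h1 => by
        have := congrFun h1 1
        rw [Pi.one_apply] at this
        rw [this] at hd2
        have h3 : ((3 : ℕ) : ℂ) = Fintype.card F := by push_cast; linear_combination hd2
        have : 3 = Fintype.card F := by exact_mod_cast h3
        omega)
      (fun h1 => by
        have := congrFun h1 1
        rw [GL2.StS_one] at this
        rw [this] at hd2
        have h3 : ((Fintype.card F + 1 : ℕ) : ℂ) = ((0 : ℕ) : ℂ) := by push_cast; linear_combination hd2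
        have : Fintype.card F + 1 = 0 := by exact_mod_cast h3
        omega)
      (fun θ α _ _ h1 => by
        have := congrFun h1 1
        rw [GL2.psi_one θ α hcard] at this
        exact hq1 (by linear_combination 2 * this + hd2))
    have hn : Nat.card C = 2 * ((Fintype.card F + 1) / 2) := by
      rw [hcard]; have := Nat.odd_iff.mp hodd; omega
    let a : C := ⟨g, Subgroup.mem_centralizer_singleton_iff.mpr rfl⟩
    obtain ⟨h1, h2⟩ := hval a _ hn (GL2.nonscalar_of_eig_empty hge)
    have hiff : a ^ ((Fintype.card F + 1) / 2) = 1 ↔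
        g ^ ((Fintype.card F + 1) / 2) = 1 := by
      rw [← OneMemClass.coe_eq_one, SubmonoidClass.coe_pow]
    refine ⟨fun hp' => h1 (hiff.mpr (Subtype.ext ?_)), fun hp' => h2 fun e' => hp' ?_⟩
    · simpa using hp'
    · simpa using congrArg (fun s : Matrix.SpecialLinearGroup (Fin 2) F =>
        (s : Matrix (Fin 2) (Fin 2) F)) (hiff.mp e')

end Cfsg.Agent.S2435
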