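import Cfsg.Statements.S2437
import Cfsg.Agent.Lib.GL2.Split
import Cfsg.Agent.Lib.GL2.PS

set_option autoImplicit false
open Cfsg

namespace Cfsg.Agent.S2437

/-- Over a finite field F with q elements, q odd, the upper triangular subgroup of SL₂ (a Borel subgroup, of order q(q − 1)) has exactly q + 3 conjugacy classes. -/
theorem result {F : Type*} [Field F] [Fintype F] (hodd : Odd (Fintype.card F)) :
    Nat.card (ConjClasses ((Cfsg.upperTriangularGL 2 F).comap Matrix.SpecialLinearGroup.toGL)) = Fintype.card F + 3 := by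
  classical
  have hc := GL2.ringChar_ne_two_of_odd hodd
  set B := (Cfsg.upperTriangularGL 2 F).comap Matrix.SpecialLinearGroup.toGL with hB
  have hiff : ∀ (a b : Fˣ) (x y : F),
      Commute (GL2.eBS (a, x) : B) (GL2.eBS (b, y)) ↔
        y * ((a : F) - (a : F)⁻¹) = x * ((b : F) - (b : F)⁻¹) := by
    intro a b x y
    constructor
    · intro h
      have e0 : ((GL2.bS a x : Matrix.SpecialLinearGroup (Fin 2) F) : Matrix (Fin 2) (Fin 2) F) *
            (GL2.bS b y : Matrix.SpecialLinearGroup (Fin 2) F) =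
          ((GL2.bS b y : Matrix.SpecialLinearGroup (Fin 2) F) : Matrix (Fin 2) (Fin 2) F) *
            (GL2.bS a x : Matrix.SpecialLinearGroup (Fin 2) F) :=
        congrArg (fun s : B =>
          ((s : Matrix.SpecialLinearGroup (Fin 2) F) : Matrix (Fin 2) (Fin 2) F)) h.eq
      rw [GL2.bS_coe, GL2.bS_coe] at e0
      have e := congrFun (congrFun e0 0) 1
      simp [Matrix.mul_apply, Fin.sum_univ_two] at e
      linear_combination e
    · intro h
      refine Subtype.ext (Subtype.ext ?_)
      show ((GL2.bS a x : Matrix.SpecialLinearGroup (Fin 2) F) : Matrix (Fin 2) (Fin 2) F) *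
          (GL2.bS b y : Matrix.SpecialLinearGroup (Fin 2) F) =
        ((GL2.bS b y : Matrix.SpecialLinearGroup (Fin 2) F) : Matrix (Fin 2) (Fin 2) F) *
          (GL2.bS a x : Matrix.SpecialLinearGroup (Fin 2) F)
      rw [GL2.bS_coe, GL2.bS_coe]
      apply Classical.SL2.coord <;> simp [Matrix.mul_apply, Fin.sum_univ_two, mul_comm]
      linear_combination h
  let Z := Finset.univ.filter fun a : Fˣ => (a : F) - (a : F)⁻¹ = 0
  have hZ : Z.card = 2 := by
    rw [← GL2.card_sq_one_odd hc, Nat.card_eq_fintype_card]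
    refine (Fintype.card_congr ?_).trans (Fintype.card_coe Z) |>.symm
    exact
      { toFun := fun z => ⟨Units.mk0 z.1 (GL2.z_ne_zero z), Finset.mem_filter.mpr ⟨Finset.mem_univ _,
          by rw [Units.val_mk0]; field_simp [GL2.z_ne_zero z]; linear_combination z.2⟩⟩
        invFun := fun a => ⟨(a.1 : F), by
          have h := (Finset.mem_filter.mp a.2).2
          field_simp at h
          linear_combination h⟩
        left_inv := fun z => Subtype.ext rfl
        right_inv := fun a => Subtype.ext (Units.ext rfl) }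
  have hfib : ∀ a b : Fˣ, Nat.card {p : F × F //
      p.2 * ((a : F) - (a : F)⁻¹) = p.1 * ((b : F) - (b : F)⁻¹)} =
      if a ∈ Z ∧ b ∈ Z then Fintype.card F ^ 2 else Fintype.card F := by
    intro a b
    by_cases ha : (a : F) - (a : F)⁻¹ = 0
    · by_cases hb : (b : F) - (b : F)⁻¹ = 0
      · rw [if_pos ⟨by simp [Z, ha], by simp [Z, hb]⟩, pow_two, ← Fintype.card_prod,
          ← Nat.card_eq_fintype_card]
        exact Nat.card_congr (Equiv.subtypeUnivEquiv fun p => by rw [ha, hb, mul_zero, mul_zero])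
      · rw [if_neg (fun h => hb (by simpa [Z] using h.2)), ← Nat.card_eq_fintype_card]
        refine Nat.card_congr
          { toFun := fun p => p.1.2
            invFun := fun y => ⟨(0, y), by rw [ha]; simp⟩
            left_inv := fun p => Subtype.ext (Prod.ext ?_ rfl)
            right_inv := fun y => rfl }
        exact ((mul_eq_zero.mp (p.2.symm.trans (mul_eq_zero_of_right _ ha))).resolve_right hb).symm
    · rw [if_neg (fun h => ha (by simpa [Z] using h.1)), ← Nat.card_eq_fintype_card]
      exact Nat.card_congr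
        { toFun := fun p => p.1.1
          invFun := fun x => ⟨(x, x * ((b : F) - (b : F)⁻¹) / ((a : F) - (a : F)⁻¹)),
            div_mul_cancel₀ _ ha⟩
          left_inv := fun p => Subtype.ext (Prod.ext rfl ((eq_div_iff ha).mpr p.2).symm)
          right_inv := fun x => rfl }
  have key := card_comm_eq_card_conjClasses_mul_card B
  have hcount : Nat.card { p : B × B // Commute p.1 p.2 } =
      ∑ ab : Fˣ × Fˣ, (if ab.1 ∈ Z ∧ ab.2 ∈ Z then Fintype.card F ^ 2 else Fintype.card F) := by
    simp only [← hfib]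
    rw [← Nat.card_sigma]
    refine Nat.card_congr (Equiv.trans (Equiv.subtypeEquiv
      ((Equiv.prodCongr GL2.eBS.symm GL2.eBS.symm).trans (Equiv.prodProdProdComm Fˣ F Fˣ F))
      (q := fun p => p.2.2 * ((p.1.1 : F) - (p.1.1 : F)⁻¹) = p.2.1 * ((p.1.2 : F) - (p.1.2 : F)⁻¹))
      fun p => ?_) (Equiv.subtypeProdEquivSigmaSubtype
        fun (ab : Fˣ × Fˣ) (xy : F × F) =>
          xy.2 * ((ab.1 : F) - (ab.1 : F)⁻¹) = xy.1 * ((ab.2 : F) - (ab.2 : F)⁻¹)))
    obtain ⟨p1, p2⟩ := p
    obtain ⟨⟨a, x⟩, rfl⟩ := GL2.eBS.surjective p1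
    obtain ⟨⟨b, y⟩, rfl⟩ := GL2.eBS.surjective p2
    simp only [Equiv.trans_apply, Equiv.prodCongr_apply, Prod.map_apply, Equiv.symm_apply_apply,
      Equiv.prodProdProdComm_apply]
    exact hiff a b x y
  have hBc : Nat.card B = (Fintype.card F - 1) * Fintype.card F := by
    rw [← Nat.card_congr GL2.eBS, Nat.card_prod, Classical.card_units_eq, Nat.card_eq_fintype_card]
  rw [hcount, Finset.sum_ite, Finset.sum_const, Finset.sum_const, hBc] at key
  have e1 : (Finset.univ.filter fun ab : Fˣ × Fˣ => ab.1 ∈ Z ∧ ab.2 ∈ Z).card = 4 := by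
    rw [show (Finset.univ.filter fun ab : Fˣ × Fˣ => ab.1 ∈ Z ∧ ab.2 ∈ Z) = Z ×ˢ Z by ext; simp,
      Finset.card_product, hZ]
  have e2 := Finset.card_filter_add_card_filter_not (s := (Finset.univ : Finset (Fˣ × Fˣ)))
    (fun ab => ab.1 ∈ Z ∧ ab.2 ∈ Z)
  rw [e1, Finset.card_univ, Fintype.card_prod, ← Nat.card_eq_fintype_card (α := Fˣ),
    Classical.card_units_eq] at e2
  rw [e1, smul_eq_mul, smul_eq_mul] at key
  generalize hr : (Finset.univ.filter fun ab : Fˣ × Fˣ => ¬(ab.1 ∈ Z ∧ ab.2 ∈ Z)).card = r at key e2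
  obtain ⟨s, hs⟩ : ∃ s, Fintype.card F = s + 3 :=
    ⟨Fintype.card F - 3, by have := Nat.odd_iff.mp hodd; have := Fintype.one_lt_card (α := F); omega⟩
  rw [hs, show s + 3 - 1 = s + 2 by omega] at key e2
  rw [hs]
  have hr' : r = s * s + 4 * s := by nlinarith
  subst hr'
  refine Nat.eq_of_mul_eq_mul_right (show 0 < (s + 2) * (s + 3) by positivity) ?_
  nlinarith

end Cfsg.Agent.S2437
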