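import Cfsg.Statements.S2459
import Cfsg.Agent.Lib.Struct.GaussThree

set_option autoImplicit false
open Cfsg

namespace Cfsg.Agent.S2459

open Matrix
open Cfsg.Agent.Struct.GaussThree

abbrev X3 : Matrix (Fin 3) (Fin 3) (ZMod 3) := !![0, 0, 1; 1, 0, 0; 0, 1, 1]

/-- `B` is a product of two conjugates of `X3`, via adjugates. -/
def Good (B : Matrix (Fin 3) (Fin 3) (ZMod 3)) : Prop :=
  ∃ P R : Matrix (Fin 3) (Fin 3) (ZMod 3), P.det = 1 ∧ R.det = 1 ∧ P * X3 * P.adjugate * (R * X3 * R.adjugate) = B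

theorem good_0 : Good !![0, 0, 1; 1, 0, 0; 0, 1, 0] :=
  ⟨!![0, 0, 1; 0, 1, 0; 2, 0, 0], !![0, 0, 2; 0, 1, 1; 1, 0, 0], by decide, by decide, by decide⟩

theorem good_1 : Good !![0, 0, 1; 1, 0, 0; 0, 1, 1] :=
  ⟨!![0, 0, 1; 0, 1, 0; 2, 1, 0], !![0, 0, 1; 2, 1, 0; 1, 1, 0], by decide, by decide, by decide⟩

theorem good_2 : Good !![0, 0, 1; 1, 0, 0; 0, 1, 2] :=
  ⟨!![0, 0, 1; 0, 1, 1; 2, 2, 0], !![0, 0, 2; 2, 1, 0; 1, 0, 2], by decide, by decide, by decide⟩

theorem good_3 : Good !![0, 0, 1; 1, 0, 1; 0, 1, 0] :=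
  ⟨!![0, 0, 1; 0, 1, 0; 2, 0, 2], !![0, 1, 2; 0, 1, 1; 2, 0, 0], by decide, by decide, by decide⟩

theorem good_4 : Good !![0, 0, 1; 1, 0, 1; 0, 1, 1] :=
  ⟨!![0, 0, 1; 0, 1, 0; 2, 1, 2], !![0, 0, 2; 2, 1, 1; 1, 0, 2], by decide, by decide, by decide⟩

theorem good_5 : Good !![0, 0, 1; 1, 0, 1; 0, 1, 2] :=
  ⟨!![0, 0, 1; 0, 1, 2; 2, 1, 2], !![0, 1, 2; 2, 1, 0; 0, 1, 0], by decide, by decide, by decide⟩

theorem good_6 : Good !![0, 0, 1; 1, 0, 2; 0, 1, 0] :=
  ⟨!![0, 0, 1; 1, 0, 0; 1, 1, 2], !![0, 0, 1; 2, 2, 0; 0, 2, 0], by decide, by decide, by decide⟩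

theorem good_7 : Good !![0, 0, 1; 1, 0, 2; 0, 1, 1] :=
  ⟨!![0, 0, 1; 0, 1, 0; 2, 1, 1], !![0, 1, 2; 1, 0, 0; 1, 2, 0], by decide, by decide, by decide⟩

theorem good_8 : Good !![0, 0, 1; 1, 0, 2; 0, 1, 2] :=
  ⟨!![0, 0, 1; 0, 1, 0; 2, 1, 0], !![0, 0, 2; 0, 1, 0; 1, 2, 2], by decide, by decide, by decide⟩

theorem good_9 : Good !![1, 0, 0; 1, 1, 0; 0, 0, 1] :=
  ⟨!![0, 0, 1; 0, 1, 0; 2, 1, 0], !![0, 0, 2; 2, 0, 1; 2, 1, 1], by decide, by decide, by decide⟩

theorem good_10 : Good !![2, 0, 0; 1, 1, 0; 0, 0, 2] :=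
  ⟨!![0, 0, 1; 1, 2, 2; 0, 1, 0], !![0, 0, 1; 2, 1, 0; 2, 0, 2], by decide, by decide, by decide⟩

theorem good_comp : ∀ b c : ZMod 3, Good !![0, 0, 1; 1, 0, b; 0, 1, c]
  | 0, 0 => good_0
  | 0, 1 => good_1
  | 0, 2 => good_2
  | 1, 0 => good_3
  | 1, 1 => good_4
  | 1, 2 => good_5
  | 2, 0 => good_6
  | 2, 1 => good_7
  | 2, 2 => good_8

theorem good_shift : ∀ l κ : ZMod 3, l * l * (l + κ) = 1 → Good !![l, 0, 0; 1, l + κ, 0; 0, 0, l]
  | 0, κ, h => absurd h (by revert κ; decide)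
  | 1, 0, _ => good_9
  | 1, 1, h => absurd h (by decide)
  | 1, 2, h => absurd h (by decide)
  | 2, 0, h => absurd h (by decide)
  | 2, 1, h => absurd h (by decide)
  | 2, 2, _ => good_10

theorem cube_three : ∀ z : ZMod 3, z ≠ 0 → z * z * z = z := by decide
theorem sq_three : ∀ z : ZMod 3, z ≠ 0 → z * z = 1 := by decide

theorem good_sl (g : SpecialLinearGroup (Fin 3) (ZMod 3))
    (hg : ∀ c : ZMod 3, (g : Matrix (Fin 3) (Fin 3) (ZMod 3)) ≠ Matrix.scalar (Fin 3) c)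
    (x : SpecialLinearGroup (Fin 3) (ZMod 3)) (hx : (x : Matrix (Fin 3) (Fin 3) (ZMod 3)) = X3) :
    ∃ u v : SpecialLinearGroup (Fin 3) (ZMod 3), g = (u * x * u⁻¹) * (v * x * v⁻¹) := by
  haveI : Fact (Nat.Prime 3) := ⟨Nat.prime_three⟩
  obtain ⟨B, hB, hG⟩ : ∃ B, Sim (g : Matrix (Fin 3) (Fin 3) (ZMod 3)) B ∧ Good B := by
    rcases normal_form (g : Matrix (Fin 3) (Fin 3) (ZMod 3)) hg with ⟨a, b, c, h⟩ | ⟨l, κ, h⟩
    · have ha : a = 1 := by
        have := h.det_eq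
        rw [g.2] at this
        simpa [Matrix.det_fin_three] using this.symm
      exact ⟨_, h, ha ▸ good_comp b c⟩
    · refine ⟨_, h, good_shift l κ ?_⟩
      have := h.det_eq
      rw [g.2] at this
      simp [Matrix.det_fin_three] at this
      linear_combination -this
  obtain ⟨Q, hQ, he⟩ := hB
  obtain ⟨P, R, hP, hR, hPR⟩ := hG
  let S : SpecialLinearGroup (Fin 3) (ZMod 3) := ⟨Q.det • Q, by
    rw [Matrix.det_smul, Fintype.card_fin, pow_succ, pow_two, cube_three _ hQ, sq_three _ hQ]⟩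
  let P' : SpecialLinearGroup (Fin 3) (ZMod 3) := ⟨P, hP⟩
  let R' : SpecialLinearGroup (Fin 3) (ZMod 3) := ⟨R, hR⟩
  refine ⟨S * P', S * R', ?_⟩
  have h1 : g * S = S * ((P' * x * P'⁻¹) * (R' * x * R'⁻¹)) := by
    refine Subtype.ext ?_
    show (g : Matrix (Fin 3) (Fin 3) (ZMod 3)) * (Q.det • Q) =
      (Q.det • Q) * (P * (x : Matrix (Fin 3) (Fin 3) (ZMod 3)) * P.adjugate * (R * (x : Matrix (Fin 3) (Fin 3) (ZMod 3)) * R.adjugate))
    rw [hx, hPR, Matrix.mul_smul, Matrix.smul_mul, he]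
  rw [eq_mul_inv_of_mul_eq h1]
  group

theorem not_scalar_of_ne_one {F : Type*} [Field F] {y : SpecialLinearGroup (Fin 3) F}
    (hy : (QuotientGroup.mk y : ProjectiveSpecialLinearGroup (Fin 3) F) ≠ 1) (c : F) :
    (y : Matrix (Fin 3) (Fin 3) F) ≠ Matrix.scalar (Fin 3) c := fun e => hy (by
  rw [QuotientGroup.eq_one_iff, Subgroup.mem_center_iff]
  intro z
  refine Subtype.ext ?_
  show (z : Matrix (Fin 3) (Fin 3) F) * (y : Matrix (Fin 3) (Fin 3) F) = (y : Matrix (Fin 3) (Fin 3) F) * (z : Matrix (Fin 3) (Fin 3) F)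
  rw [e]
  exact (Matrix.scalar_commute c (fun r => Commute.all c r) _).symm.eq)

theorem lift_psl {F : Type*} [Field F] (x : SpecialLinearGroup (Fin 3) F) (m : ℕ) (p : ℕ) (hm : ¬ p ∣ m) (hxm : x ^ m = 1)
    (h : ∀ g : SpecialLinearGroup (Fin 3) F, (∀ c : F, (g : Matrix (Fin 3) (Fin 3) F) ≠ Matrix.scalar (Fin 3) c) →
      ∃ u v : SpecialLinearGroup (Fin 3) F, g = (u * x * u⁻¹) * (v * x * v⁻¹)) :
    ∃ x : ProjectiveSpecialLinearGroup (Fin 3) F, ¬ p ∣ orderOf x ∧ ∀ g : ProjectiveSpecialLinearGroup (Fin 3) F, g ≠ 1 →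
      ∃ u v : ProjectiveSpecialLinearGroup (Fin 3) F, g = (u * x * u⁻¹) * (v * x * v⁻¹) := by
  refine ⟨QuotientGroup.mk x, fun hd => hm (hd.trans (orderOf_dvd_of_pow_eq_one ?_)), fun g hg => ?_⟩
  · rw [← QuotientGroup.mk_pow, hxm, QuotientGroup.mk_one]
  · obtain ⟨y, rfl⟩ := QuotientGroup.mk_surjective g
    obtain ⟨u, v, huv⟩ := h y (not_scalar_of_ne_one hg)
    refine ⟨QuotientGroup.mk u, QuotientGroup.mk v, ?_⟩
    simp only [← QuotientGroup.mk_mul, ← QuotientGroup.mk_inv, ← huv]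

/-- A form of Thompson's conjecture for PSL(3,q), q > 2 (covering the non-identity elements), with a semisimple class: for F a finite field of characteristic p with more than 2 elements there is an element x of PSL(3,F) of order prime to p such that every non-identity element of PSL(3,F) is a product of two conjugates of x. -/
theorem result {F : Type*} [Field F] [Fintype F] (p : ℕ) [Fact p.Prime] [CharP F p] (h3 : 3 ≤ Fintype.card F) :
    ∃ x : Matrix.ProjectiveSpecialLinearGroup (Fin 3) F, ¬ p ∣ orderOf x ∧ ∀ g : Matrix.ProjectiveSpecialLinearGroup (Fin 3) F, g ≠ 1 → ∃ u v : Matrix.ProjectiveSpecialLinearGroup (Fin 3) F, g = (u * x * u⁻¹) * (v * x * v⁻¹) := by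
  classical
  have hp : p.Prime := Fact.out
  have hqF : ((Fintype.card F : ℕ) : F) = 0 := FiniteField.cast_card_eq_zero F
  have hpq : p ∣ Fintype.card F := (CharP.cast_eq_zero_iff F p _).1 hqF
  by_cases hq : Fintype.card F = 3
  · haveI : Fact (Nat.Prime 3) := ⟨Nat.prime_three⟩
    have hp3 : p = 3 := (Nat.prime_dvd_prime_iff_eq hp Nat.prime_three).1 (hq ▸ hpq)
    subst hp3
    let φ : ZMod 3 →+* F := ZMod.castHom (dvd_refl 3) F
    have hφ : Function.Bijective φ := (Fintype.bijective_iff_injective_and_card φ).2 ⟨φ.injective, by rw [ZMod.card, hq]⟩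
    let x₀ : SpecialLinearGroup (Fin 3) (ZMod 3) := ⟨X3, by decide⟩
    have hx₀ : x₀ ^ 8 = 1 := by decide
    refine lift_psl (SpecialLinearGroup.map φ x₀) 8 3 (by norm_num) (by rw [← map_pow, hx₀, map_one]) fun g hg => ?_
    let e := RingEquiv.ofBijective φ hφ
    obtain ⟨g₀, rfl⟩ : ∃ g₀, SpecialLinearGroup.map φ g₀ = g := ⟨SpecialLinearGroup.map e.symm.toRingHom g, by
      ext i j
      simp [SpecialLinearGroup.map_apply_coe]
      exact e.apply_symm_apply _⟩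
    obtain ⟨u, v, huv⟩ := good_sl g₀ (fun c hc => hg (φ c) (by
      ext i j
      rw [SpecialLinearGroup.map_apply_coe, RingHom.mapMatrix_apply, Matrix.map_apply, hc]
      by_cases hij : i = j
      · subst hij; simp [Matrix.scalar_apply]
      · simp [Matrix.scalar_apply, Matrix.diagonal_apply_ne _ hij])) x₀ rfl
    exact ⟨SpecialLinearGroup.map φ u, SpecialLinearGroup.map φ v, by rw [huv]; simp [map_mul, map_inv]⟩
  · obtain ⟨μ, hμ⟩ := IsCyclic.exists_generator (α := Fˣ)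
    have hord : orderOf μ = Fintype.card F - 1 := by
      rw [← Fintype.card_units, ← Nat.card_eq_fintype_card]
      exact orderOf_eq_card_of_forall_mem_zpowers hμ
    have hμ1 : (μ : F) ≠ 1 := fun e => by
      rw [Units.val_eq_one] at e
      rw [e, orderOf_one] at hord; omega
    have hμ2 : (μ : F) * μ ≠ 1 := fun e => by
      have h : orderOf μ ∣ 2 := orderOf_dvd_of_pow_eq_one (Units.ext (by rw [Units.val_pow_eq_pow_val, pow_two]; exact e))
      have := Nat.le_of_dvd (by norm_num) h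
      omega
    let d : SpecialLinearGroup (Fin 3) F := ⟨Matrix.diagonal ![1, (μ : F), ((μ⁻¹ : Fˣ) : F)], by
      rw [Matrix.det_diagonal, Fin.prod_univ_three]; simp⟩
    refine lift_psl d (Fintype.card F - 1) p ?_ ?_ (product_two_conj (Ne.symm hμ1) ?_ ?_ d rfl)
    · intro hd
      have h1 := Nat.dvd_sub hpq hd
      rw [show Fintype.card F - (Fintype.card F - 1) = 1 by omega] at h1
      exact hp.not_dvd_one h1
    · refine Subtype.ext ?_
      rw [SpecialLinearGroup.coe_pow]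
      show Matrix.diagonal ![1, (μ : F), ((μ⁻¹ : Fˣ) : F)] ^ _ = _
      rw [Matrix.diagonal_pow, SpecialLinearGroup.coe_one, ← Matrix.diagonal_one]
      congr 1
      funext i
      fin_cases i <;> simp [Pi.pow_apply, FiniteField.pow_card_sub_one_eq_one]
    · intro e
      have e' := congrArg (fun z => (μ : F) * z) e
      simp at e'
      exact hμ1 (by rw [e', Units.val_one])
    · intro e
      have e' := congrArg (fun z => (μ : F) * z) e
      simp at e'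
      exact hμ2 e' 

end Cfsg.Agent.S2459
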