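import Cfsg.Statements.S2466
import Mathlib.GroupTheory.Perm.Cycle.PossibleTypes
import Mathlib.GroupTheory.Perm.Cycle.Type

set_option autoImplicit false
open Cfsg

namespace Cfsg.Agent.S2466

/-- Adjacency of odd primes in the prime graph of the alternating groups: let r ≠ s be odd primes at most n. The alternating group of degree n has an element of order r·s if and only if r + s ≤ n. -/
theorem result (n r s : ℕ) (hr : r.Prime) (hs : s.Prime) (hr2 : r ≠ 2) (hs2 : s ≠ 2) (hrs : r ≠ s) (hrn : r ≤ n) (hsn : s ≤ n) :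
    (r * s ∈ Set.range (orderOf : alternatingGroup (Fin n) → ℕ)) ↔ r + s ≤ n := by
  classical
  constructor
  · rintro ⟨g, hg⟩
    rw [← Subgroup.orderOf_coe, ← Equiv.Perm.lcm_cycleType] at hg
    set m := (g : Equiv.Perm (Fin n)).cycleType with hm
    have hsum : m.sum ≤ n := by
      rw [hm, Equiv.Perm.sum_cycleType]; simpa using Finset.card_le_univ (g : Equiv.Perm (Fin n)).support
    have hmem : ∀ a ∈ m, a = r ∨ a = s ∨ a = r * s := by
      intro a ha
      have h2 : 2 ≤ a := Equiv.Perm.two_le_of_mem_cycleType ha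
      have hd : a ∣ r * s := hg ▸ Multiset.dvd_lcm ha
      obtain ⟨b, c, hb, hc, rfl⟩ := Nat.dvd_mul.1 hd
      rcases (Nat.dvd_prime hr).1 hb with h | h <;> rcases (Nat.dvd_prime hs).1 hc with h' | h' <;>
        subst h h'
      · omega
      · exact Or.inr (Or.inl (one_mul _))
      · exact Or.inl (mul_one _)
      · exact Or.inr (Or.inr rfl)
    have hle : ∀ (q q' : ℕ), q.Prime → q'.Prime → q ≠ q' → (∀ a ∈ m, a ≠ q * q') → q' * q = m.lcm →
        (∀ a ∈ m, a = q ∨ a = q' ∨ a = q * q') → q ∈ m := by
      intro q q' hq hq' hne h1 h2 h3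
      by_contra hq0
      have : m.lcm ∣ q' := Multiset.lcm_dvd.2 fun a ha => by
        rcases h3 a ha with rfl | rfl | rfl
        · exact absurd ha hq0
        · rfl
        · exact absurd rfl (h1 _ ha)
      rw [← h2] at this
      have h4 := Nat.le_of_dvd hq'.pos this
      have := Nat.mul_le_mul_left q' hq.two_le
      have := hq'.two_le
      omega
    by_cases hb : r * s ∈ m
    · have := Multiset.le_sum_of_mem hb
      have := Nat.mul_le_mul_left r hs.two_le
      have := Nat.mul_le_mul_right s hr.two_le
      omega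
    · have hr' := hle r s hr hs hrs (fun a ha e => hb (e ▸ ha)) (by rw [hg, mul_comm]) hmem
      have hs' := hle s r hs hr hrs.symm (fun a ha e => hb (by rw [mul_comm]; exact e ▸ ha))
        hg.symm (fun a ha => by rw [mul_comm s r]; rcases hmem a ha with h | h | h <;> simp [h])
      obtain ⟨m', hm'⟩ := Multiset.exists_cons_of_mem hr'
      rw [hm', Multiset.mem_cons] at hs'
      have := Multiset.le_sum_of_mem (hs'.resolve_left (fun e => hrs e.symm))
      rw [hm', Multiset.sum_cons] at hsum
      omega
  · intro h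
    obtain ⟨g, hg⟩ := (Equiv.Perm.exists_with_cycleType_iff (Fin n) (m := {r, s})).2
      ⟨by simpa using h, by simp [hr.two_le, hs.two_le]⟩
    have hsign : Equiv.Perm.sign g = 1 := by
      rw [Equiv.Perm.sign_of_cycleType, hg]
      have : Even ((({r, s} : Multiset ℕ).sum) + Multiset.card ({r, s} : Multiset ℕ)) := by
        simp only [Multiset.insert_eq_cons, Multiset.sum_cons, Multiset.sum_singleton,
          Multiset.card_cons, Multiset.card_singleton]
        exact ((hr.odd_of_ne_two hr2).add_odd (hs.odd_of_ne_two hs2)).add even_two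
      exact this.neg_one_pow
    refine ⟨⟨g, Equiv.Perm.mem_alternatingGroup.2 hsign⟩, ?_⟩
    rw [Subgroup.orderOf_mk, ← Equiv.Perm.lcm_cycleType, hg]
    simp only [Multiset.insert_eq_cons, Multiset.lcm_cons, Multiset.lcm_singleton, normalize_eq]
    exact (Nat.Coprime.lcm_eq_mul ((Nat.coprime_primes hr hs).2 hrs))

end Cfsg.Agent.S2466
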