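import Cfsg.Statements.S2467
import Mathlib.GroupTheory.Perm.Cycle.PossibleTypes
import Mathlib.GroupTheory.Perm.Cycle.Type

set_option autoImplicit false
open Cfsg

namespace Cfsg.Agent.S2467

/-- Adjacency of 2 and an odd prime in the prime graph of the alternating groups: let r be an odd prime at most n, with n ≥ 4. The alternating group of degree n has an element of order 2r if and only if r + 4 ≤ n. -/
theorem result (n r : ℕ) (hn : 4 ≤ n) (hr : r.Prime) (hr2 : r ≠ 2) (hrn : r ≤ n) :
    (2 * r ∈ Set.range (orderOf : alternatingGroup (Fin n) → ℕ)) ↔ r + 4 ≤ n := by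
  classical
  constructor
  · rintro ⟨g, hg⟩
    rw [← Subgroup.orderOf_coe, ← Equiv.Perm.lcm_cycleType] at hg
    have hsg := Equiv.Perm.mem_alternatingGroup.1 g.2
    rw [Equiv.Perm.sign_of_cycleType] at hsg
    set m := (g : Equiv.Perm (Fin n)).cycleType with hm
    have hsum : m.sum ≤ n := by
      rw [hm, Equiv.Perm.sum_cycleType]; simpa using Finset.card_le_univ (g : Equiv.Perm (Fin n)).support
    have hev : Even (m.sum + Multiset.card m) := by
      by_contra hc
      rw [(Nat.not_even_iff_odd.1 hc).neg_one_pow] at hsg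
      exact absurd hsg (by decide)
    have h2le : ∀ a ∈ m, 2 ≤ a := fun a ha => Equiv.Perm.two_le_of_mem_cycleType ha
    have hmem : ∀ a ∈ m, a = 2 ∨ a = r ∨ a = 2 * r := by
      intro a ha
      have h2 := h2le a ha
      have hd : a ∣ 2 * r := hg ▸ Multiset.dvd_lcm ha
      obtain ⟨b, c, hb, hc, rfl⟩ := Nat.dvd_mul.1 hd
      rcases (Nat.dvd_prime Nat.prime_two).1 hb with h | h <;> rcases (Nat.dvd_prime hr).1 hc with h' | h' <;>
        subst h h'
      · omega
      · exact Or.inr (Or.inl (one_mul _))
      · exact Or.inl (mul_one _)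
      · exact Or.inr (Or.inr rfl)
    have hr3 : 3 ≤ r := by have := hr.two_le; omega
    have hne0 : ∀ m' : Multiset ℕ, m' ≠ 0 → (∀ a ∈ m', 2 ≤ a) → 2 ≤ m'.sum := fun m' h0 h => by
      obtain ⟨a, ha⟩ := Multiset.exists_mem_of_ne_zero h0
      exact (h a ha).trans (Multiset.le_sum_of_mem ha)
    by_cases hb : 2 * r ∈ m
    · obtain ⟨m', hm'⟩ := Multiset.exists_cons_of_mem hb
      rw [hm', Multiset.sum_cons] at hsum
      by_cases h0 : m' = 0
      · rw [hm', h0] at hev
        simp [Nat.even_add] at hev
      · have := hne0 m' h0 (fun a ha => h2le a (hm' ▸ Multiset.mem_cons_of_mem ha))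
        omega
    · have hrm : r ∈ m := by
        by_contra hc
        have : m.lcm ∣ 2 := Multiset.lcm_dvd.2 fun a ha => by
          rcases hmem a ha with rfl | rfl | rfl
          · rfl
          · exact absurd ha hc
          · exact absurd ha hb
        rw [hg] at this
        have := Nat.le_of_dvd (by norm_num) this
        omega
      have h2m : 2 ∈ m := by
        by_contra hc
        have : m.lcm ∣ r := Multiset.lcm_dvd.2 fun a ha => by
          rcases hmem a ha with rfl | rfl | rfl
          · exact absurd ha hc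
          · rfl
          · exact absurd ha hb
        rw [hg] at this
        have := Nat.le_of_dvd hr.pos this
        omega
      obtain ⟨m', hm'⟩ := Multiset.exists_cons_of_mem hrm
      rw [hm', Multiset.mem_cons] at h2m
      obtain ⟨m'', hm''⟩ := Multiset.exists_cons_of_mem (h2m.resolve_left (fun e => hr2 e.symm))
      rw [hm', hm'', Multiset.sum_cons, Multiset.sum_cons] at hsum
      by_cases h0 : m'' = 0
      · rw [hm', hm'', h0] at hev
        simp [Nat.even_add] at hev
        exact absurd hev (Nat.not_even_iff_odd.2 (hr.odd_of_ne_two hr2))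
      · have := hne0 m'' h0 (fun a ha => h2le a (by rw [hm', hm'']; simp [ha]))
        omega
  · intro h
    obtain ⟨g, hg⟩ := (Equiv.Perm.exists_with_cycleType_iff (Fin n) (m := {r, 2, 2})).2
      ⟨by simpa using h, by simp [hr.two_le]⟩
    have hsign : Equiv.Perm.sign g = 1 := by
      rw [Equiv.Perm.sign_of_cycleType, hg]
      have : Even ((({r, 2, 2} : Multiset ℕ).sum) + Multiset.card ({r, 2, 2} : Multiset ℕ)) := by
        obtain ⟨j, hj⟩ := hr.odd_of_ne_two hr2
        exact ⟨j + 4, by simp; omega⟩
      exact this.neg_one_pow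
    refine ⟨⟨g, Equiv.Perm.mem_alternatingGroup.2 hsign⟩, ?_⟩
    rw [Subgroup.orderOf_mk, ← Equiv.Perm.lcm_cycleType, hg]
    simp only [Multiset.insert_eq_cons, Multiset.lcm_cons, Multiset.lcm_singleton, normalize_eq]
    show Nat.lcm r (Nat.lcm 2 2) = 2 * r
    rw [Nat.lcm_self, mul_comm]
    exact Nat.Coprime.lcm_eq_mul ((Nat.coprime_primes hr Nat.prime_two).2 hr2)

end Cfsg.Agent.S2467
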