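import Cfsg.Statements.S2471
import Cfsg.Agent.Lib.Classical.DicksonClasses

set_option autoImplicit false
open Cfsg

open Cfsg.Agent.Classical
open scoped MatrixGroups Classical

namespace Cfsg.Agent.S2471

/-- In PSL(2,q) with q odd, the characteristic p is isolated from 2 in the prime graph: for F a finite field of odd characteristic p with at least 5 elements, PSL(2,F) has no element of order 2p. -/
theorem result {F : Type*} [Field F] [Fintype F] (p : ℕ) [Fact p.Prime] [CharP F p] (hp : p ≠ 2) (h5 : 5 ≤ Fintype.card F) (g : Matrix.ProjectiveSpecialLinearGroup (Fin 2) F) :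
    orderOf g ≠ 2 * p := by
  intro ho
  haveI : CharP (AlgebraicClosure F) p :=
    charP_of_injective_algebraMap (algebraMap F (AlgebraicClosure F)).injective p
  have hpp : p.Prime := Fact.out
  have ho' : orderOf (Dickson.emb g) = 2 * p := (orderOf_injective _ Dickson.emb_injective g).trans ho
  have hne : Dickson.emb g ≠ 1 := fun h => by rw [h, orderOf_one] at ho'; omega
  rcases Dickson.centralizer_cases p (Dickson.ambient_pslF (F := F)) (by omega) ⟨g, rfl⟩ hne with
    ⟨h, -⟩ | ⟨k, -, h, -⟩
  · have := hpp.pos; omega
  · exact h (ho'.symm ▸ dvd_mul_left p 2)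

end Cfsg.Agent.S2471
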