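import Cfsg.Statements.S2475
import Cfsg.Agent.Lib.Classical.DicksonTools
import Cfsg.Agent.Lib.Classical.SL2Two

set_option autoImplicit false
open Cfsg

open Cfsg.Agent.Classical
open scoped MatrixGroups Classical

namespace Cfsg.Agent.S2475

/-- The set of element orders of PSL(2,q): let F be a finite field of characteristic p with q ≥ 4 elements and d = gcd(2, q − 1). The orders of elements of PSL(2,F) are exactly the divisors of p, of (q − 1)/d and of (q + 1)/d. -/
theorem result {F : Type*} [Field F] [Fintype F] (p : ℕ) [Fact p.Prime] [CharP F p] (h4 : 4 ≤ Fintype.card F) :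
    Set.range (orderOf : Matrix.ProjectiveSpecialLinearGroup (Fin 2) F → ℕ) =
      {m : ℕ | m ∣ p ∨ m ∣ (Fintype.card F - 1) / Nat.gcd 2 (Fintype.card F - 1) ∨ m ∣ (Fintype.card F + 1) / Nat.gcd 2 (Fintype.card F - 1)} := by
  have A := Dickson.ambient_pslF (F := F)
  ext m
  constructor
  · rintro ⟨g, rfl⟩
    rw [← orderOf_injective Dickson.emb Dickson.emb_injective g]
    exact Dickson.order_cases p A ⟨g, rfl⟩
  · intro hm
    have key : ∀ n, (∃ g ∈ Dickson.pslF F, orderOf g = n) → m ∣ n → 0 < n →
        m ∈ Set.range (orderOf : Matrix.ProjectiveSpecialLinearGroup (Fin 2) F → ℕ) := by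
      rintro n ⟨_, ⟨g, rfl⟩, hg⟩ hmn hn
      rw [orderOf_injective Dickson.emb Dickson.emb_injective g] at hg
      refine ⟨g ^ (n / m), ?_⟩
      rw [← hg, orderOf_pow_orderOf_div]
      · omega
      · rwa [hg]
    rcases hm with h | h | h
    · refine key p ?_ h (Fact.out : p.Prime).pos
      haveI : Finite (Dickson.pslF F) := inferInstance
      have hd : p ∣ Nat.card (Dickson.pslF F) := by
        rw [A.card]
        obtain ⟨s, hs⟩ : ∃ s, Fintype.card F = p * s := by
          obtain ⟨n, -, hn⟩ := FiniteField.card F p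
          exact hn ▸ dvd_pow_self p n.ne_zero
        exact Dvd.dvd.mul_left (Dvd.dvd.mul_right ⟨s, hs⟩ _) _
      obtain ⟨⟨g, hg⟩, hgo⟩ := exists_prime_orderOf_dvd_card' p hd
      exact ⟨g, hg, by rwa [Subgroup.orderOf_mk] at hgo⟩
    · exact key _ (Dickson.exists_order_e A) h A.e_pos
    · refine key _ (Dickson.exists_order_e' A) h ?_
      obtain ⟨g, hg, hgo⟩ := Dickson.exists_order_e' A
      have := orderOf_pos (⟨g, hg⟩ : Dickson.pslF F)
      rwa [Subgroup.orderOf_mk, hgo] at this

end Cfsg.Agent.S2475
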