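import Cfsg.Statements.S2485
import Cfsg.Agent.Lib.Classical.DicksonCentralizer

set_option autoImplicit false
open scoped Pointwise
open Cfsg

open Cfsg.Agent.Classical
open scoped MatrixGroups Classical Cfsg.Agent.Classical.Dickson
open OnePoint

namespace Cfsg.Agent.S2485

/-- Let q = 2^k − 1 ≥ 7 be a prime and let G = PGL(2,q), the general linear group of degree 2 over the field with q elements modulo its centre. Then any two Sylow 2-subgroups of G have a non-trivial intersection: for a Sylow 2-subgroup H and every x ∈ G, H ∩ H^x ≠ 1. -/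
theorem result {q k : ℕ} [Fact q.Prime] (hk : q + 1 = 2 ^ k) (hq : 7 ≤ q)
    (H : Sylow 2 (GL (Fin 2) (ZMod q) ⧸ Subgroup.center (GL (Fin 2) (ZMod q))))
    (x : GL (Fin 2) (ZMod q) ⧸ Subgroup.center (GL (Fin 2) (ZMod q))) :
    (H : Subgroup (GL (Fin 2) (ZMod q) ⧸ Subgroup.center (GL (Fin 2) (ZMod q)))) ⊓ MulAut.conj x • (H : Subgroup _) ≠ ⊥ := by
  haveI : Fintype (ZMod q) := ZMod.fintype q
  haveI : Fact (Nat.Prime 2) := ⟨Nat.prime_two⟩
  have hqp : q.Prime := Fact.out
  have hcard : Fintype.card (ZMod q) = q := ZMod.card q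
  haveI : CharP (AlgebraicClosure (ZMod q)) q :=
    charP_of_injective_algebraMap (algebraMap (ZMod q) (AlgebraicClosure (ZMod q))).injective q
  haveI : Finite (PGL(2, ZMod q)) := inferInstanceAs (Finite (GL (Fin 2) (ZMod q) ⧸ Subgroup.center (GL (Fin 2) (ZMod q))))
  change Sylow 2 (PGL(2, ZMod q)) at H
  change PGL(2, ZMod q) at x
  change (H : Subgroup (PGL(2, ZMod q))) ⊓ MulAut.conj x • (H : Subgroup (PGL(2, ZMod q))) ≠ ⊥
  have hq1 : ¬ 2 ∣ q * ((q - 1) / 2) := by
    intro h
    rcases Nat.prime_two.dvd_mul.1 h with h | h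
    · have := hqp.eq_two_or_odd; omega
    · have hk3 : 3 ≤ k := by
        by_contra hlt
        interval_cases k <;> omega
      obtain ⟨i, rfl⟩ := Nat.exists_eq_add_of_le hk3
      rw [show 3 + i = i + 2 + 1 by omega, pow_succ, pow_add] at hk
      omega
  have hHc : Nat.card H = 2 ^ (k + 1) := by
    have hG : Nat.card (PGL(2, ZMod q)) = 2 ^ (k + 1) * (q * ((q - 1) / 2)) := by
      rw [Dickson.card_PGL2, hcard, show q ^ 2 - 1 = (q + 1) * (q - 1) by simpa using Nat.sq_sub_sq q 1, pow_succ, ← hk]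
      have he : q - 1 = 2 * ((q - 1) / 2) := by have := hqp.eq_two_or_odd; omega
      nth_rewrite 1 [he]
      ring
    rw [H.card_eq_multiplicity, hG, Nat.factorization_mul (a := 2 ^ (k + 1)) (by positivity) (fun h => hq1 (by rw [h]; exact dvd_zero 2)),
      Finsupp.add_apply, Nat.factorization_eq_zero_of_not_dvd hq1, add_zero,
      Nat.Prime.factorization_pow Nat.prime_two, Finsupp.single_eq_same]
  haveI : Nontrivial H := Finite.one_lt_card_iff_nontrivial.1 (by rw [hHc]; exact Nat.one_lt_two_pow (by omega))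
  haveI := H.2.center_nontrivial
  obtain ⟨c₀, hc₀⟩ := exists_prime_orderOf_dvd_card' (G := Subgroup.center H) 2 (by
    obtain ⟨j, hj⟩ := (H.2.to_subgroup (Subgroup.center H)).exists_card_eq
    rw [hj]
    refine dvd_pow_self 2 fun e => ?_
    rw [e, pow_zero] at hj
    exact (Finite.one_lt_card (α := Subgroup.center H)).ne' hj)
  set u : PGL(2, ZMod q) := ((c₀ : H) : PGL(2, ZMod q)) with hu
  have hu2 : orderOf u = 2 := by rw [hu, Subgroup.orderOf_coe, Subgroup.orderOf_coe, hc₀]
  have husq : u * u = 1 := by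
    have h := pow_orderOf_eq_one u
    rwa [hu2, pow_two] at h
  have huH : u ∈ (H : Subgroup (PGL(2, ZMod q))) := (c₀ : H).2
  let P : PGL(2, ZMod q) →* PGL(2, AlgebraicClosure (ZMod q)) :=
    Matrix.ProjGenLinGroup.map (algebraMap (ZMod q) (AlgebraicClosure (ZMod q)))
  have hP : Function.Injective P := Dickson.map_injective _
  have A := Dickson.ambient_pglF (F := ZMod q)
  have hmapC : ∀ a, (Subgroup.centralizer ({a} : Set (PGL(2, ZMod q)))).map P =
      Dickson.pglF (ZMod q) ⊓ Subgroup.centralizer {P a} := by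
    intro a
    ext h
    simp only [Subgroup.mem_map, Subgroup.mem_inf, Subgroup.mem_centralizer_singleton_iff]
    exact ⟨fun ⟨b, hb, e⟩ => e ▸ ⟨⟨b, rfl⟩, by rw [← map_mul, hb, map_mul]⟩,
      fun ⟨⟨b, e⟩, hb⟩ => ⟨b, hP (by rw [map_mul, map_mul]; exact e ▸ hb), e⟩⟩
  have hne : P u ≠ 1 := fun h => by rw [← orderOf_injective P hP, h, orderOf_one] at hu2; omega
  have hPu2 : P u * P u = 1 := by rw [← map_mul, husq, map_one]
  have hHC : (H : Subgroup (PGL(2, ZMod q))) ≤ Subgroup.centralizer {u} := fun a ha => by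
    rw [Subgroup.mem_centralizer_singleton_iff]
    exact congrArg Subtype.val (Subgroup.mem_center_iff.1 c₀.2 ⟨a, ha⟩)
  -- no rational fixed point
  have hnofix : ∀ r : OnePoint (ZMod q), u • r ≠ r := by
    intro r hr
    set y := OnePoint.map (algebraMap (ZMod q) (AlgebraicClosure (ZMod q))) r with hy
    have hy' : P u • y = y := by rw [hy, ← Dickson.map_smul_point, hr]
    rcases Dickson.fixed_cases hne with ⟨a, ha, -⟩ | ⟨a, b, hab, -, -, hfix⟩
    · have hd := orderOf_dvd_of_pow_eq_one (Dickson.pow_char_of_isTr (p := q) ha)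
      rw [orderOf_injective P hP, hu2] at hd
      have := (Nat.prime_dvd_prime_iff_eq Nat.prime_two hqp).1 hd
      omega
    · have ha := (hfix a).2 (Or.inl rfl)
      have hb := (hfix b).2 (Or.inr rfl)
      obtain ⟨k', hk', hT, hD⟩ := Dickson.card_two_fix A (by omega) ⟨u, rfl⟩ hab hne ha hb
      have hC := Subgroup.card_dvd_of_le hHC
      rw [← Subgroup.card_map_of_injective hP (K := Subgroup.centralizer {u}), hmapC,
        (Dickson.centralizer_two (Dickson.pglF (ZMod q)) hab hne ha hb).1 hPu2, hD, hHc, pow_succ, ← hk] at hC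
      rw [hcard] at hk'
      obtain rfl : k' = q + 1 := by
        rcases hk' with e | e
        · exfalso
          have := Nat.le_of_dvd (by omega) hC
          omega
        · exact e
      have key : ∀ z, P u • z = z → z ∈ Dickson.orb (Dickson.pglF (ZMod q)) (∞ : OnePoint (AlgebraicClosure (ZMod q))) →
          ∀ z', P u • z' = z' → z' ≠ z →
          Nat.card ↥(Dickson.st (Dickson.pglF (ZMod q)) z ⊓ MulAction.stabilizer (PGL(2, AlgebraicClosure (ZMod q))) z') = q + 1 → False := by
        intro z hz hzo z' hz' _ hTz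
        have h' := Subgroup.card_dvd_of_le (inf_le_left :
          Dickson.st (Dickson.pglF (ZMod q)) z ⊓ MulAction.stabilizer (PGL(2, AlgebraicClosure (ZMod q))) z' ≤ _)
        rw [hTz, Dickson.card_st, Dickson.qOf_orb _ hzo, Dickson.eOf_orb _ hzo, A.hq, A.he, hcard] at h'
        have hc : Nat.Coprime (q + 1) q := by simp
        have := Nat.le_of_dvd (by omega) (hc.dvd_of_dvd_mul_left h')
        omega
      have hyo : y ∈ Dickson.orb (Dickson.pglF (ZMod q)) (∞ : OnePoint (AlgebraicClosure (ZMod q))) := by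
        rw [Dickson.orb_infty _ le_rfl (Dickson.pslF_le _)]
        exact ⟨r, rfl⟩
      rcases (hfix y).1 hy' with e | e
      · exact key y hy' hyo b hb (fun h => hab (by rw [h, e])) (by rw [e]; exact hT)
      · obtain ⟨k₂, hk₂, hT₂, hD₂⟩ := Dickson.card_two_fix A (by omega) ⟨u, rfl⟩ hab.symm hne hb ha
        have hsymm : Dickson.Ambient.pairStab (Dickson.pglF (ZMod q)) b a = Dickson.Ambient.pairStab (Dickson.pglF (ZMod q)) a b := by
          show _ ⊓ MulAction.stabilizer _ _ = _ ⊓ MulAction.stabilizer _ _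
          rw [Set.pair_comm]
        rw [hsymm, hD] at hD₂
        exact key y hy' hyo a ha (fun h => hab (by rw [h, e])) (by rw [e]; omega)
  have hCH : Subgroup.centralizer {u} ≤ (H : Subgroup (PGL(2, ZMod q))) := by
    refine le_of_eq (Subgroup.eq_of_le_of_card_ge hHC ?_).symm
    rw [← Subgroup.card_map_of_injective hP (K := Subgroup.centralizer {u}), hmapC]
    show _ ≤ Nat.card H
    rw [hHc, pow_succ, ← hk]
    rcases Dickson.centralizer_cases q A (by omega) ⟨u, rfl⟩ hne with ⟨h, -⟩ | ⟨k', hk', -, -, ⟨-, h⟩ | ⟨h, -⟩⟩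
    · rw [orderOf_injective P hP, hu2] at h; omega
    · rw [h, hcard] at *; omega
    · exact absurd hPu2 h
  set v := x * u * x⁻¹ with hv
  have hvmem : v ∈ MulAut.conj x • (H : Subgroup (PGL(2, ZMod q))) :=
    Subgroup.smul_mem_pointwise_smul u (MulAut.conj x) _ huH
  have hCv : ∀ z, z * v = v * z → z ∈ MulAut.conj x • (H : Subgroup (PGL(2, ZMod q))) := by
    intro z hz
    rw [Subgroup.mem_pointwise_smul_iff_inv_smul_mem, ← map_inv]
    refine hCH (Subgroup.mem_centralizer_singleton_iff.2 ?_)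
    show x⁻¹ * z * x⁻¹⁻¹ * u = u * (x⁻¹ * z * x⁻¹⁻¹)
    rw [show x⁻¹ * z * x⁻¹⁻¹ * u = x⁻¹ * (z * v) * x by rw [hv]; group, hz, hv]
    group
  have hv1 : v ≠ 1 := fun h => by
    rw [hv, conj_eq_one_iff] at h
    rw [h, orderOf_one] at hu2
    omega
  intro hbot
  -- lifts
  obtain ⟨U, hU⟩ := Matrix.ProjGenLinGroup.mk_surjective u
  obtain ⟨V, hV⟩ := Matrix.ProjGenLinGroup.mk_surjective v
  have hscal : ∀ W : GL (Fin 2) (ZMod q), Matrix.ProjGenLinGroup.mk W * Matrix.ProjGenLinGroup.mk W = 1 →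
      Matrix.ProjGenLinGroup.mk W ≠ 1 →
      ∃ c : ZMod q, c ≠ 0 ∧ (W : Matrix (Fin 2) (Fin 2) (ZMod q)) * W = c • 1 ∧ W 1 1 = -W 0 0 := by
    intro W hW hW1
    rw [← map_mul, ← Matrix.ProjGenLinGroup.mk_one, eq_comm, Matrix.ProjGenLinGroup.mk_eq_mk_iff] at hW
    obtain ⟨c, hc⟩ := hW
    have hc' : (W : Matrix (Fin 2) (Fin 2) (ZMod q)) * W = (c : ZMod q) • 1 := by
      rw [← Units.val_mul, ← hc]
      ext i j
      fin_cases i <;> fin_cases j <;> simp
    refine ⟨c, c.ne_zero, hc', ?_⟩
    have h01 := congrFun (congrFun hc' 0) 1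
    have h10 := congrFun (congrFun hc' 1) 0
    have h00 := congrFun (congrFun hc' 0) 0
    have h11 := congrFun (congrFun hc' 1) 1
    simp [Matrix.mul_apply, Fin.sum_univ_two] at h01 h10 h00 h11
    by_contra ht
    have ht' : W 0 0 + W 1 1 ≠ 0 := fun h => ht (by linear_combination h)
    have e01 : W 0 1 = 0 := (mul_eq_zero.1 (show (W 0 0 + W 1 1) * W 0 1 = 0 by linear_combination h01)).resolve_left ht'
    have e10 : W 1 0 = 0 := (mul_eq_zero.1 (show (W 0 0 + W 1 1) * W 1 0 = 0 by linear_combination h10)).resolve_left ht'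
    have e00 : W 0 0 = W 1 1 := by
      have := (mul_eq_zero.1 (show (W 0 0 + W 1 1) * (W 0 0 - W 1 1) = 0 by linear_combination h00 - h11)).resolve_left ht'
      linear_combination this
    refine hW1 ?_
    have hne0 : W 0 0 ≠ 0 := fun e => ht' (by rw [← e00, e, add_zero])
    rw [← Matrix.ProjGenLinGroup.mk_one, eq_comm, Matrix.ProjGenLinGroup.mk_eq_mk_iff]
    refine ⟨Units.mk0 _ hne0, Units.ext ?_⟩
    ext i j
    fin_cases i <;> fin_cases j <;> simp [e01, e10, e00]
  obtain ⟨a, ha0, hUU, hUt⟩ := hscal U (by rw [hU, husq]) (by rw [hU]; exact fun h => hne (by rw [h, map_one]))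
  obtain ⟨b, hb0, hVV, hVt⟩ := hscal V (by rw [hV, hv, show x * u * x⁻¹ * (x * u * x⁻¹) = x * (u * u) * x⁻¹ by group,
    husq, mul_one, mul_inv_cancel]) (by rw [hV]; exact hv1)
  set Z := (U : Matrix (Fin 2) (Fin 2) (ZMod q)) * V - (V : Matrix (Fin 2) (Fin 2) (ZMod q)) * U with hZ
  have hZU : Z * U = -((U : Matrix (Fin 2) (Fin 2) (ZMod q)) * Z) := by
    rw [hZ, sub_mul, mul_sub, mul_assoc (V : Matrix (Fin 2) (Fin 2) (ZMod q)), hUU, ← mul_assoc (U : Matrix (Fin 2) (Fin 2) (ZMod q)) U, hUU,
      mul_smul_comm, smul_mul_assoc, mul_one, one_mul, neg_sub, mul_assoc]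
  have hZV : Z * V = -((V : Matrix (Fin 2) (Fin 2) (ZMod q)) * Z) := by
    rw [hZ, sub_mul, mul_sub, mul_assoc (U : Matrix (Fin 2) (Fin 2) (ZMod q)), hVV, ← mul_assoc (V : Matrix (Fin 2) (Fin 2) (ZMod q)) V, hVV,
      mul_smul_comm, smul_mul_assoc, mul_one, one_mul, neg_sub, mul_assoc]
  by_cases hZ0 : Z = 0
  · have hcomm : u * v = v * u := by
      rw [← hU, ← hV, ← map_mul, ← map_mul]
      congr 1
      exact Units.ext (sub_eq_zero.1 hZ0)
    have hm : v ∈ (H : Subgroup (PGL(2, ZMod q))) ⊓ MulAut.conj x • (H : Subgroup (PGL(2, ZMod q))) :=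
      ⟨hCH (Subgroup.mem_centralizer_singleton_iff.2 hcomm.symm), hvmem⟩
    rw [hbot, Subgroup.mem_bot] at hm
    exact hv1 hm
  · have hdet : Z.det ≠ 0 := by
      intro hd
      have htr : Z 1 1 = -Z 0 0 := by
        simp [hZ, Matrix.mul_apply, Fin.sum_univ_two]
        ring
      have hzz : Z * Z = 0 := by
        rw [Matrix.det_fin_two, htr] at hd
        ext i j
        fin_cases i <;> fin_cases j <;> simp [Matrix.mul_apply, Fin.sum_univ_two, htr] <;>
          first | linear_combination -hd | ring1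
      obtain ⟨w, hw⟩ : ∃ w, Z.mulVec w ≠ 0 := by
        by_contra hc
        push Not at hc
        refine hZ0 ?_
        ext i j
        have := congrFun (hc (Pi.single j 1)) i
        simpa using this
      set e := Z.mulVec w with he
      have hUe : (U : Matrix (Fin 2) (Fin 2) (ZMod q)).mulVec e = -Z.mulVec ((U : Matrix (Fin 2) (Fin 2) (ZMod q)).mulVec w) := by
        rw [he, Matrix.mulVec_mulVec, Matrix.mulVec_mulVec, hZU, Matrix.neg_mulVec, neg_neg]
      -- the kernel of a nonzero nilpotent matrix is a line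
      obtain ⟨l, hl⟩ : ∃ l : ZMod q, (U : Matrix (Fin 2) (Fin 2) (ZMod q)).mulVec e = l • e := by
        set f := (U : Matrix (Fin 2) (Fin 2) (ZMod q)).mulVec e with hf
        have hkf : Z.mulVec f = 0 := by
          rw [hUe, Matrix.mulVec_neg, Matrix.mulVec_mulVec, hzz, Matrix.zero_mulVec, neg_zero]
        have hke : Z.mulVec e = 0 := by rw [he, Matrix.mulVec_mulVec, hzz, Matrix.zero_mulVec]
        have hcr : f 0 * e 1 = f 1 * e 0 := by
          by_contra hne'
          refine hZ0 ?_
          have a0 := congrFun hkf 0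
          have a1 := congrFun hkf 1
          have b0 := congrFun hke 0
          have b1 := congrFun hke 1
          simp [Matrix.mulVec, dotProduct, Fin.sum_univ_two] at a0 a1 b0 b1
          have hD : f 0 * e 1 - f 1 * e 0 ≠ 0 := sub_ne_zero.2 hne'
          ext i j
          fin_cases i <;> fin_cases j <;> refine (mul_eq_zero.1 ?_).resolve_left hD <;> simp [-mul_eq_zero]
          · linear_combination e 1 * a0 - f 1 * b0
          · linear_combination f 0 * b0 - e 0 * a0
          · linear_combination e 1 * a1 - f 1 * b1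
          · linear_combination f 0 * b1 - e 0 * a1
        by_cases he0 : e 0 = 0
        · have he1 : e 1 ≠ 0 := fun h => hw (by ext i; fin_cases i; exacts [he0, h])
          refine ⟨f 1 / e 1, funext fun i => ?_⟩
          fin_cases i
          · simp [he0]
            rw [he0, mul_zero] at hcr
            exact (mul_eq_zero.1 hcr).resolve_right he1
          · simp [he1]
        · refine ⟨f 0 / e 0, funext fun i => ?_⟩
          fin_cases i
          · simp [he0]
          · simp
            field_simp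
            linear_combination -hcr
      have hl2 : l * l = a := by
        have h2 : ((U : Matrix (Fin 2) (Fin 2) (ZMod q)) * U).mulVec e = (l * l) • e := by
          rw [← Matrix.mulVec_mulVec, hl, Matrix.mulVec_smul, hl, smul_smul]
        rw [hUU, Matrix.smul_mulVec, Matrix.one_mulVec] at h2
        exact (smul_left_injective _ hw h2).symm
      have h00 := congrFun (congrFun hUU 0) 0
      simp [Matrix.mul_apply, Fin.sum_univ_two] at h00
      by_cases h10 : U 1 0 = 0
      · refine hnofix ∞ ?_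
        rw [← hU, Dickson.mk_smul', smul_infty_eq_self_iff]
        exact h10
      · refine hnofix (((l + U 0 0) / U 1 0 : ZMod q) : OnePoint (ZMod q)) ?_
        have hl0 : l ≠ 0 := fun h => ha0 (by rw [← hl2, h, mul_zero])
        have hden : U 1 0 * ((l + U 0 0) / U 1 0) + U 1 1 = l := by rw [hUt]; field_simp; ring
        rw [← hU, Dickson.mk_smul', smul_some_eq_ite, if_neg (by rw [hden]; exact hl0), hden]
        congr 1
        field_simp
        linear_combination h00 - hl2
    let W := Matrix.GeneralLinearGroup.mkOfDetNeZero Z hdet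
    have hanti : ∀ T : GL (Fin 2) (ZMod q), Z * T = -((T : Matrix (Fin 2) (Fin 2) (ZMod q)) * Z) →
        Matrix.ProjGenLinGroup.mk W * Matrix.ProjGenLinGroup.mk T = Matrix.ProjGenLinGroup.mk T * Matrix.ProjGenLinGroup.mk W := by
      intro T hT
      rw [← map_mul, ← map_mul, Matrix.ProjGenLinGroup.mk_eq_mk_iff]
      refine ⟨-1, Units.ext ?_⟩
      rw [Units.val_mul, Units.val_mul]
      show Z * (T : Matrix (Fin 2) (Fin 2) (ZMod q)) * _ = (T : Matrix (Fin 2) (Fin 2) (ZMod q)) * Z
      rw [hT]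
      ext i j
      fin_cases i <;> fin_cases j <;> simp
    have hm : Matrix.ProjGenLinGroup.mk W ∈ (H : Subgroup (PGL(2, ZMod q))) ⊓ MulAut.conj x • (H : Subgroup (PGL(2, ZMod q))) :=
      ⟨hCH (Subgroup.mem_centralizer_singleton_iff.2 (by rw [← hU]; exact hanti U hZU)), hCv _ (by rw [← hV]; exact hanti V hZV)⟩
    rw [hbot, Subgroup.mem_bot, ← Matrix.ProjGenLinGroup.mk_one, eq_comm, Matrix.ProjGenLinGroup.mk_eq_mk_iff] at hm
    obtain ⟨c, hc⟩ := hm
    have hc' : Z = (c : ZMod q) • 1 := by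
      show (W : Matrix (Fin 2) (Fin 2) (ZMod q)) = _
      rw [← hc]
      ext i j
      fin_cases i <;> fin_cases j <;> simp
    have htrc : Z 0 0 + Z 1 1 = 0 := by simp [hZ, Matrix.mul_apply, Fin.sum_univ_two]; ring
    rw [hc'] at htrc
    simp at htrc
    have h2 : (2 : ZMod q) = 0 := (mul_eq_zero.1 (show (2 : ZMod q) * c = 0 by linear_combination htrc)).resolve_right c.ne_zero
    have : ((2 : ℕ) : ZMod q) = 0 := by exact_mod_cast h2
    rw [ZMod.natCast_eq_zero_iff] at this
    have := Nat.le_of_dvd two_pos this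
    omega

end Cfsg.Agent.S2485
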