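import Cfsg.Statements.S2486
import Cfsg.Agent.Lib.UnipGL.Bruhat

set_option autoImplicit false
set_option linter.style.haveILetI false
open scoped Pointwise
open Cfsg

namespace Cfsg.Agent.S2486

open Subgroup Cfsg.Agent.UnipGL

variable {n : ℕ}

theorem diag_one {g : GL (Fin n) (ZMod 2)} (hg : g ∈ upperTriangularGL n (ZMod 2)) (i : Fin n) :
    (g : Matrix (Fin n) (Fin n) (ZMod 2)) i i = 1 := by
  have hd := ((Matrix.isUnit_iff_isUnit_det _).1 g.isUnit).ne_zero
  rw [Matrix.det_of_isUpperTriangular hg, Finset.prod_ne_zero_iff] at hd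
  have := hd i (Finset.mem_univ i)
  revert this
  generalize (g : Matrix (Fin n) (Fin n) (ZMod 2)) i i = c
  revert c
  decide

theorem upper_isPGroup : IsPGroup 2 (upperTriangularGL n (ZMod 2)) := by
  rintro ⟨g, hg⟩
  refine ⟨n, Subtype.ext (Units.ext ?_)⟩
  have hcp : (g : Matrix (Fin n) (Fin n) (ZMod 2)).charpoly = (Polynomial.X - Polynomial.C 1) ^ n := by
    rw [Matrix.charpoly_of_isUpperTriangular _ hg]
    simp [diag_one hg]
  have hnil : ((g : Matrix (Fin n) (Fin n) (ZMod 2)) - 1) ^ n = 0 := by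
    have h1 := Matrix.aeval_self_charpoly (g : Matrix (Fin n) (Fin n) (ZMod 2))
    rw [hcp] at h1
    simpa using h1
  show (g : Matrix (Fin n) (Fin n) (ZMod 2)) ^ (2 ^ n) = 1
  haveI : CharP (Matrix (Fin n) (Fin n) (ZMod 2)) 2 ∨ n = 0 := by
    rcases Nat.eq_zero_or_pos n with h | h
    · exact Or.inr h
    · haveI : Nonempty (Fin n) := ⟨⟨0, h⟩⟩
      exact Or.inl (inferInstance)
  rcases this with hch | rfl
  · haveI : Fact (Nat.Prime 2) := ⟨Nat.prime_two⟩
    have h1 := sub_pow_char_pow_of_commute (p := 2) (n := n) (Commute.one_right (g : Matrix (Fin n) (Fin n) (ZMod 2)))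
    rw [one_pow, pow_eq_zero_of_le Nat.lt_two_pow_self.le hnil] at h1
    exact (sub_eq_zero.1 h1.symm)
  · exact Subsingleton.elim _ _

theorem conj_permGL (σ : Equiv.Perm (Fin n)) (A : GL (Fin n) (ZMod 2)) (a b : Fin n) :
    ((permGL σ * A * (permGL σ)⁻¹ : GL (Fin n) (ZMod 2)) : Matrix (Fin n) (Fin n) (ZMod 2)) (σ a) (σ b) =
      (A : Matrix (Fin n) (Fin n) (ZMod 2)) a b := by
  set X := permGL σ * A * (permGL σ)⁻¹ with hX
  have h : X * permGL σ = permGL σ * A := by rw [hX, inv_mul_cancel_right]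
  have h1 := congrArg (fun M : GL (Fin n) (ZMod 2) => (M : Matrix (Fin n) (Fin n) (ZMod 2)) (σ a) b) h
  simp only [Units.val_mul, Matrix.mul_apply] at h1
  simpa [permGL_apply, mul_ite, ite_mul, Finset.sum_ite_eq, σ.injective.eq_iff] using h1

theorem trans_mem {i j : Fin n} (hij : i < j) :
    ∃ A ∈ upperTriangularGL n (ZMod 2), A ≠ 1 ∧ ∀ σ : Equiv.Perm (Fin n), σ i < σ j →
      permGL σ * A * (permGL σ)⁻¹ ∈ upperTriangularGL n (ZMod 2) := by
  have hd : (Matrix.transvection i j (1 : ZMod 2)).det ≠ 0 := by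
    rw [Matrix.det_transvection_of_ne _ _ hij.ne]; exact one_ne_zero
  refine ⟨Matrix.GeneralLinearGroup.mkOfDetNeZero _ hd, ?_, ?_, fun σ hσ => ?_⟩
  · intro a b hab
    show Matrix.transvection i j (1 : ZMod 2) a b = 0
    simp only [id] at hab
    rw [Matrix.transvection, Matrix.add_apply, Matrix.one_apply_ne hab.ne', zero_add,
      Matrix.single_apply_of_ne]
    rintro ⟨rfl, rfl⟩
    exact absurd hij (not_lt.2 hab.le)
  · intro h
    have h1 := congrArg (fun M : GL (Fin n) (ZMod 2) => (M : Matrix (Fin n) (Fin n) (ZMod 2)) i j) h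
    change Matrix.transvection i j (1 : ZMod 2) i j = (1 : Matrix (Fin n) (Fin n) (ZMod 2)) i j at h1
    rw [Matrix.transvection, Matrix.add_apply, Matrix.one_apply_ne hij.ne, Matrix.single_apply_same, zero_add] at h1
    exact one_ne_zero h1
  · intro a b hab
    obtain ⟨a', rfl⟩ := σ.surjective a
    obtain ⟨b', rfl⟩ := σ.surjective b
    simp only [id] at hab
    rw [conj_permGL]
    show Matrix.transvection i j (1 : ZMod 2) a' b' = 0
    rw [Matrix.transvection, Matrix.add_apply, Matrix.one_apply_ne (fun e => hab.ne' (by rw [e])), zero_add,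
      Matrix.single_apply_of_ne]
    rintro ⟨rfl, rfl⟩
    exact absurd hσ (not_lt.2 hab.le)

theorem eq_rev_of_trivial {σ : Equiv.Perm (Fin n)}
    (h : ∀ A ∈ upperTriangularGL n (ZMod 2), permGL σ * A * (permGL σ)⁻¹ ∈ upperTriangularGL n (ZMod 2) → A = 1) :
    σ = Fin.revPerm := by
  have hanti : StrictAnti σ := fun i j hij => by
    rcases lt_trichotomy (σ i) (σ j) with h1 | h1 | h1
    · obtain ⟨A, hA, hA1, hc⟩ := trans_mem hij
      exact absurd (h A hA (hc σ h1)) hA1
    · exact absurd (σ.injective h1) hij.ne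
    · exact h1
  have hm : StrictMono fun i => Fin.rev (σ i) := fun i j hij => Fin.rev_lt_rev.2 (hanti hij)
  have hid : (fun i => Fin.rev (σ i)) = id :=
    congrArg (fun f : Fin n ≃o Fin n => (f : Fin n → Fin n))
      (Subsingleton.elim (StrictMono.orderIsoOfSurjective _ hm (fun i => ⟨σ.symm (Fin.rev i), by simp⟩)) (OrderIso.refl _))
  refine Equiv.ext fun i => ?_
  have := congrFun hid i
  simp only [id] at this
  rw [Fin.revPerm_apply]
  exact Fin.rev_eq_iff.1 this

theorem mem_double {k : GL (Fin n) (ZMod 2)}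
    (h : ∀ A ∈ upperTriangularGL n (ZMod 2), k * A * k⁻¹ ∈ upperTriangularGL n (ZMod 2) → A = 1) :
    ∃ a ∈ upperTriangularGL n (ZMod 2), ∃ b ∈ upperTriangularGL n (ZMod 2), k = a * permGL Fin.revPerm * b := by
  obtain ⟨a, ha, b, hb, σ, rfl⟩ := exists_bruhat k
  refine ⟨a, ha, b, hb, ?_⟩
  rw [← eq_rev_of_trivial (σ := σ) fun A hA hAc => ?_]
  have h1 := h (b⁻¹ * A * b) (mul_mem (mul_mem (inv_mem hb) hA) hb) (by
    rw [show a * permGL σ * b * (b⁻¹ * A * b) * (a * permGL σ * b)⁻¹ = a * (permGL σ * A * (permGL σ)⁻¹) * a⁻¹ by group]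
    exact mul_mem (mul_mem ha hAc) (inv_mem ha))
  exact (conj_eq_one_iff (a := b⁻¹)).1 (by rw [inv_inv]; exact h1)

theorem eq_of_normalizes {k : GL (Fin n) (ZMod 2)}
    (h : ∀ A ∈ upperTriangularGL n (ZMod 2), k * A * k⁻¹ ∈ upperTriangularGL n (ZMod 2)) :
    k ∈ upperTriangularGL n (ZMod 2) := by
  obtain ⟨a, ha, b, hb, σ, rfl⟩ := exists_bruhat k
  have h' : ∀ A ∈ upperTriangularGL n (ZMod 2), permGL σ * A * (permGL σ)⁻¹ ∈ upperTriangularGL n (ZMod 2) := by
    intro A hA
    have h1 := h (b⁻¹ * A * b) (mul_mem (mul_mem (inv_mem hb) hA) hb)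
    rw [show a * permGL σ * b * (b⁻¹ * A * b) * (a * permGL σ * b)⁻¹ = a * (permGL σ * A * (permGL σ)⁻¹) * a⁻¹ by group] at h1
    have := mul_mem (mul_mem (inv_mem ha) h1) ha
    simpa [mul_assoc] using this
  have hmono : StrictMono σ := fun i j hij => by
    rcases lt_trichotomy (σ i) (σ j) with h1 | h1 | h1
    · exact h1
    · exact absurd (σ.injective h1) hij.ne
    exfalso
    obtain ⟨A, hA, -, -⟩ := trans_mem hij
    have hd : (Matrix.transvection i j (1 : ZMod 2)).det ≠ 0 := by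
      rw [Matrix.det_transvection_of_ne _ _ hij.ne]; exact one_ne_zero
    have hT : Matrix.GeneralLinearGroup.mkOfDetNeZero _ hd ∈ upperTriangularGL n (ZMod 2) := by
      intro x y hxy
      show Matrix.transvection i j (1 : ZMod 2) x y = 0
      simp only [id] at hxy
      rw [Matrix.transvection, Matrix.add_apply, Matrix.one_apply_ne hxy.ne', zero_add,
        Matrix.single_apply_of_ne]
      rintro ⟨rfl, rfl⟩
      exact absurd hij (not_lt.2 hxy.le)
    have h2 := h' _ hT (show (id (σ j)) < id (σ i) from h1)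
    rw [conj_permGL] at h2
    change Matrix.transvection i j (1 : ZMod 2) i j = 0 at h2
    rw [Matrix.transvection, Matrix.add_apply, Matrix.one_apply_ne hij.ne, Matrix.single_apply_same, zero_add] at h2
    exact one_ne_zero h2
  have hσ : σ = 1 := Equiv.ext fun i => congrFun (congrArg (fun f : Fin n ≃o Fin n => (f : Fin n → Fin n))
    (Subsingleton.elim (StrictMono.orderIsoOfSurjective _ hmono σ.surjective) (OrderIso.refl _))) i
  rw [hσ, show (permGL (1 : Equiv.Perm (Fin n)) : GL (Fin n) (ZMod 2)) = 1 from ?_, mul_one]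
  · exact mul_mem ha hb
  · refine Units.ext (Matrix.ext fun i j => ?_)
    simp [permGL_apply, Matrix.one_apply, eq_comm]

/-- Let n ≥ 4 and let G be a finite group with a normal subgroup N of index 2 isomorphic to SL(n,2) and with trivial centralizer in G (so G is the extension of the simple group L_n(2) by its inverse-transpose automorphism, its full automorphism group). Then any two Sylow 2-subgroups of G have a non-trivial intersection: for a Sylow 2-subgroup H and every x ∈ G, H ∩ H^x ≠ 1. -/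
theorem result {G : Type*} [Group G] [Finite G] {n : ℕ} (hn : 4 ≤ n) (N : Subgroup G) [N.Normal]
    (e : N ≃* Matrix.SpecialLinearGroup (Fin n) (ZMod 2)) (hidx : N.index = 2)
    (hC : Subgroup.centralizer (N : Set G) = ⊥)
    (H : Sylow 2 G) (x : G) :
    (H : Subgroup G) ⊓ MulAut.conj x • (H : Subgroup G) ≠ ⊥ := by
  classical
  haveI : Fact (Nat.Prime 2) := ⟨Nat.prime_two⟩
  let toG : Matrix.SpecialLinearGroup (Fin n) (ZMod 2) ≃* GL (Fin n) (ZMod 2) :=
    MulEquiv.ofBijective Matrix.SpecialLinearGroup.toGL ⟨Matrix.SpecialLinearGroup.toGL_injective, fun g => by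
      refine ⟨⟨g, ?_⟩, Units.ext rfl⟩
      have hd := ((Matrix.isUnit_iff_isUnit_det _).1 g.isUnit).ne_zero
      show (g : Matrix (Fin n) (Fin n) (ZMod 2)).det = 1
      exact (show ∀ c : ZMod 2, c ≠ 0 → c = 1 from fun c hc => by
        fin_cases c; exacts [absurd rfl hc, rfl]) _ hd⟩
  let e0 : N ≃* GL (Fin n) (ZMod 2) := e.trans toG
  -- the Sylow subgroup of N
  have h2 : ¬ 2 ∣ (H : Subgroup G).index := H.not_dvd_index
  have hHN : ¬ (H : Subgroup G) ≤ N := fun h => h2 ((dvd_of_eq hidx.symm).trans (index_dvd_of_le h))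
  obtain ⟨h, hhH, hhN⟩ := SetLike.not_le_iff_exists.1 hHN
  let P : Subgroup N := (H : Subgroup G).subgroupOf N
  have hP : IsPGroup 2 P := (H.isPGroup'.comap_of_injective N.subtype N.subtype_injective)
  have hPi : ¬ 2 ∣ P.index := by
    intro hd
    have h3 : P.index * N.index = ((H : Subgroup G) ⊓ N).index := by
      rw [show P.index = (H : Subgroup G).relIndex N from rfl, ← inf_relIndex_right, relIndex_mul_index inf_le_right]
    have h4 : ((H : Subgroup G) ⊓ N).index = N.relIndex (H : Subgroup G) * (H : Subgroup G).index := by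
      rw [← relIndex_mul_index (inf_le_left (b := N) : (H : Subgroup G) ⊓ N ≤ H), inf_comm, inf_relIndex_right]
    obtain ⟨m, hm⟩ := hd
    rw [h4, hidx, hm] at h3
    have h5 : N.relIndex (H : Subgroup G) ∣ 2 := (relIndex_dvd_index_of_normal N _).trans (dvd_of_eq hidx)
    rcases (Nat.dvd_prime Nat.prime_two).1 h5 with h6 | h6 <;> rw [h6] at h3
    · exact h2 ⟨m * 2, by linarith⟩
    · exact h2 ⟨m, by linarith⟩
  -- the upper triangular group is a Sylow subgroup
  have hU : ∀ Q : Sylow 2 (GL (Fin n) (ZMod 2)), upperTriangularGL n (ZMod 2) ≤ Q →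
      (Q : Subgroup (GL (Fin n) (ZMod 2))) = upperTriangularGL n (ZMod 2) := by
    intro Q hQ
    by_contra hne
    have hlt : (upperTriangularGL n (ZMod 2)).subgroupOf (Q : Subgroup (GL (Fin n) (ZMod 2))) < ⊤ :=
      lt_top_iff_ne_top.2 fun h => hne (le_antisymm (subgroupOf_eq_top.1 h) hQ)
    haveI := Q.isPGroup'.isNilpotent
    have hn' := Group.normalizerCondition_of_isNilpotent _ hlt
    obtain ⟨q, hq, hqU⟩ := SetLike.exists_of_lt hn'
    refine hqU (mem_subgroupOf.2 (eq_of_normalizes fun A hA => ?_))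
    exact mem_subgroupOf.1 ((mem_normalizer_iff.1 hq ⟨A, hQ hA⟩).1 (mem_subgroupOf.2 hA))
  obtain ⟨Q, hQ⟩ := (upper_isPGroup (n := n)).exists_le_sylow
  have hQU := hU Q hQ
  let R : Sylow 2 (GL (Fin n) (ZMod 2)) := IsPGroup.toSylow (hP.map e0.toMonoidHom) (by
    rw [show P.map e0.toMonoidHom = P.map (e0 : N →* GL (Fin n) (ZMod 2)) from rfl, index_map_equiv]; exact hPi)
  obtain ⟨s, hs⟩ := MulAction.exists_smul_eq (GL (Fin n) (ZMod 2)) R Q
  let e1 : N ≃* GL (Fin n) (ZMod 2) := e0.trans (MulAut.conj s)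
  have hPU : ∀ y : N, (y : G) ∈ (H : Subgroup G) ↔ e1 y ∈ upperTriangularGL n (ZMod 2) := by
    intro y
    rw [← hQU, ← hs, Sylow.coe_subgroup_smul, mem_pointwise_smul_iff_inv_smul_mem]
    show y ∈ P ↔ _
    simp [e1, R, mem_map_equiv, ← map_inv, MulAut.smul_def, mul_assoc]
  -- move x into N
  obtain ⟨x0, hx0, hxH⟩ : ∃ x0 ∈ N, MulAut.conj x • (H : Subgroup G) = MulAut.conj x0 • (H : Subgroup G) := by
    by_cases hx : x ∈ N
    · exact ⟨x, hx, rfl⟩
    refine ⟨x * h, (mul_mem_iff_of_index_two hidx).2 (iff_of_false hx hhN), ?_⟩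
    rw [map_mul, mul_smul, conj_smul_eq_self_of_mem hhH]
  rw [hxH]
  intro hbot
  have htriv : ∀ g : G, g ∈ (H : Subgroup G) → x0⁻¹ * g * x0 ∈ (H : Subgroup G) → g = 1 := by
    intro g hg hg'
    rw [← mem_bot, ← hbot]
    refine mem_inf.2 ⟨hg, ?_⟩
    rw [mem_pointwise_smul_iff_inv_smul_mem, ← map_inv, MulAut.smul_def, MulAut.conj_apply, inv_inv]
    exact hg'
  -- both x0 and its conjugate by h lie in the big double coset
  have hbig : ∀ z : N, (∀ g : N, (g : G) ∈ (H : Subgroup G) → (z : G) * g * (z : G)⁻¹ ∈ (H : Subgroup G) → g = 1) →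
      ∃ a b : N, (a : G) ∈ (H : Subgroup G) ∧ (b : G) ∈ (H : Subgroup G) ∧
        z = a * e1.symm (permGL Fin.revPerm) * b := by
    intro z hz
    obtain ⟨a, ha, b, hb, hab⟩ := mem_double (k := e1 z) fun A hA hAc => by
      have h1 := hz (e1.symm A) ((hPU _).2 (by simpa using hA)) (by
        have h2 := (hPU (z * e1.symm A * z⁻¹)).2 (by simpa using hAc)
        exact h2)
      simpa using congrArg e1 h1
    refine ⟨e1.symm a, e1.symm b, (hPU _).2 (by simpa using ha), (hPU _).2 (by simpa using hb), e1.injective ?_⟩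
    simp [hab]
  have hH_conj : ∀ g : G, g ∈ (H : Subgroup G) ↔ h * g * h⁻¹ ∈ (H : Subgroup G) := fun g => by
    rw [mul_mem_cancel_right (inv_mem hhH), mul_mem_cancel_left hhH]
  obtain ⟨a, b, ha, hb, h1⟩ := hbig ⟨x0⁻¹, inv_mem hx0⟩ fun g hg hg' =>
    Subtype.ext (htriv g hg (by simpa using hg'))
  obtain ⟨c, d, hc, hd, h3⟩ := hbig ⟨h * x0⁻¹ * h⁻¹, Normal.conj_mem inferInstance _ (inv_mem hx0) h⟩ fun g hg hg' => by
    refine Subtype.ext ?_
    have h4 := htriv (h⁻¹ * g * h) (mul_mem (mul_mem (inv_mem hhH) hg) hhH) (by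
      rw [hH_conj]
      simpa [mul_assoc] using hg')
    have h5 : (g : G) = h * (h⁻¹ * g * h) * h⁻¹ := by group
    rw [h5, h4, mul_one, mul_inv_cancel]; rfl
  set w := e1.symm (permGL Fin.revPerm)
  have e1' : x0⁻¹ = (a : G) * w * b := congrArg Subtype.val h1
  have e3 : h * x0⁻¹ * h⁻¹ = (c : G) * w * d := congrArg Subtype.val h3
  -- an element outside N fixing both
  have key : h * x0⁻¹ = ((c : G) * (a : G)⁻¹) * x0⁻¹ * ((b : G)⁻¹ * d * h) := by
    rw [show h * x0⁻¹ = h * x0⁻¹ * h⁻¹ * h by group, e3, e1']; group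
  set g := (b : G)⁻¹ * d * h with hg
  have hgH : g ∈ (H : Subgroup G) := mul_mem (mul_mem (inv_mem hb) hd) hhH
  have hg1 : x0⁻¹ * g * x0 ∈ (H : Subgroup G) := by
    have h6 : x0⁻¹ * g * x0 = (a : G) * (c : G)⁻¹ * h := by
      have h7 : x0⁻¹ * g = (a : G) * (c : G)⁻¹ * (h * x0⁻¹) := by rw [key, hg]; group
      rw [h7]; group
    rw [h6]
    exact mul_mem (mul_mem ha (inv_mem hc)) hhH
  have hgN : g ∈ N := by rw [htriv g hgH hg1]; exact one_mem N
  apply hhN
  have h8 : h = ((b : G)⁻¹ * d)⁻¹ * g := by rw [hg]; group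
  rw [h8]
  exact mul_mem (inv_mem (mul_mem (inv_mem b.2) d.2)) hgN

end Cfsg.Agent.S2486
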