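import Cfsg.Statements.S2488
import Cfsg.Agent.Lib.Local.PGroup
import Cfsg.Agent.Lib.Alt.AltSixCount

set_option autoImplicit false
open scoped Pointwise
open Cfsg

namespace Cfsg.Agent.S2488

open Subgroup Cfsg.Agent.AltSix

variable {G : Type*} [Group G] [Finite G] (N : Subgroup G) (e : N ≃* alternatingGroup (Fin 6))

theorem card_cent_le (v : N) {c : ℕ} (hc : (Finset.univ.filter fun w : Equiv.Perm (Fin 6) =>
      Equiv.Perm.sign w = 1 ∧ (e v : Equiv.Perm (Fin 6)) * w = w * (e v : Equiv.Perm (Fin 6))).card ≤ c) :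
    Nat.card ↥(centralizer ({(v : G)} : Set G) ⊓ N) ≤ c := by
  refine le_trans ?_ hc
  rw [← Nat.card_eq_finsetCard]
  refine Nat.card_le_card_of_injective (fun g => ⟨(e ⟨g.1, g.2.2⟩ : Equiv.Perm (Fin 6)),
    Finset.mem_filter.2 ⟨Finset.mem_univ _, (e ⟨g.1, g.2.2⟩).2, ?_⟩⟩) fun g h hgh => ?_
  · have h1 : v * (⟨g.1, g.2.2⟩ : N) = ⟨g.1, g.2.2⟩ * v :=
      Subtype.ext (mem_centralizer_singleton_iff.1 g.2.1).symm
    have h2 := congrArg e h1
    rw [map_mul, map_mul] at h2
    exact congrArg Subtype.val h2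
  · have h0 : (e ⟨g.1, g.2.2⟩ : Equiv.Perm (Fin 6)) = (e ⟨h.1, h.2.2⟩ : Equiv.Perm (Fin 6)) :=
      (by have h00 := congrArg Subtype.val hgh; exact h00)
    have h1 := e.injective (Subtype.ext h0)
    have h2 : (g : G) = h := by have h00 := congrArg Subtype.val h1; exact h00
    exact Subtype.ext h2

omit [Finite G] in
theorem card_cent_sub [N.Normal] (hidx : N.index = 4) (g : G) :
    ∃ k, k ∣ 4 ∧ Nat.card ↥(centralizer ({g} : Set G)) = k * Nat.card ↥(centralizer ({g} : Set G) ⊓ N) := by
  refine ⟨N.relIndex (centralizer {g}), hidx ▸ relIndex_dvd_index_of_normal N _, ?_⟩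
  have h := relIndex_mul_relIndex ⊥ (centralizer ({g} : Set G) ⊓ N) (centralizer {g}) bot_le inf_le_left
  rw [relIndex_bot_left, relIndex_bot_left, inf_comm, inf_relIndex_right] at h
  rw [← h, mul_comm, inf_comm]

include e in
theorem exists_common [N.Normal] (hidx : N.index = 4) (t u : G) (ht : t ∈ N) (hu : u ∈ N)
    (ht2 : t * t = 1) (hu2 : u * u = 1) (ht1 : t ≠ 1) :
    ∃ g : G, g ≠ 1 ∧ g * t = t * g ∧ g * u = u * g := by
  set w := t * u with hw
  have hwN : w ∈ N := mul_mem ht hu
  have htinv : t⁻¹ = t := inv_eq_of_mul_eq_one_right ht2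
  have huinv : u⁻¹ = u := inv_eq_of_mul_eq_one_right hu2
  have hconj : t * w * t = w⁻¹ := by
    rw [hw, mul_inv_rev, htinv, huinv, ← mul_assoc t t u, ht2, one_mul]
  -- anything commuting with t and w commutes with u
  have hfin : ∀ g : G, g * t = t * g → g * w = w * g → g * u = u * g := by
    intro g h1 h2
    have h3 : Commute g (t⁻¹ * w) := (Commute.inv_right h1).mul_right h2
    rwa [hw, inv_mul_cancel_left] at h3
  have hpow : ∀ k : ℕ, (e ⟨w, hwN⟩ : Equiv.Perm (Fin 6)) ^ k = 1 → w ^ k = 1 := by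
    intro k hk
    have h1 : (e (⟨w, hwN⟩ ^ k)) = 1 := Subtype.ext (by rw [map_pow]; exact hk)
    exact congrArg Subtype.val (e.map_eq_one_iff.1 h1)
  by_cases h2 : w ^ 2 = 1
  · refine ⟨t, ht1, rfl, hfin t rfl ?_⟩
    have h3 : w⁻¹ = w := inv_eq_of_mul_eq_one_right (by rw [← pow_two]; exact h2)
    rw [h3] at hconj
    calc t * w = t * w * (t * t) := by rw [ht2, mul_one]
      _ = w * t := by rw [← mul_assoc, hconj]
  have key : ∀ q : ℕ, Odd q → w ^ q = 1 → ∀ a c : ℕ, a * c < 1440 →
      (Finset.univ.filter fun σ : Equiv.Perm (Fin 6) => σ ^ q = 1).card = a →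
      Nat.card ↥(centralizer ({w} : Set G) ⊓ N) ≤ c →
      ∃ g : G, g ≠ 1 ∧ g * t = t * g ∧ g * u = u * g := by
    intro q hq hwq a c hac ha hc
    classical
    set C := centralizer ({w} : Set G)
    have hGc : Nat.card G = 1440 := by
      rw [← N.card_mul_index, hidx, Nat.card_congr e.toEquiv, nat_card_alternatingGroup, Nat.card_fin]
      decide
    have hclass : C.index ≤ a := by
      rw [← ha, index_eq_card, ← Nat.card_eq_finsetCard]
      let f : G ⧸ C → {σ // σ ∈ Finset.univ.filter fun σ : Equiv.Perm (Fin 6) => σ ^ q = 1} := fun y =>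
        ⟨(e ⟨y.out * w * y.out⁻¹, Normal.conj_mem inferInstance w hwN _⟩ : Equiv.Perm (Fin 6)), by
          refine Finset.mem_filter.2 ⟨Finset.mem_univ _, ?_⟩
          rw [← SubgroupClass.coe_pow, ← map_pow]
          have h1 : (⟨y.out * w * y.out⁻¹, Normal.conj_mem inferInstance w hwN _⟩ : N) ^ q = 1 :=
            Subtype.ext (by show (y.out * w * y.out⁻¹) ^ q = 1; rw [conj_pow, hwq, mul_one, mul_inv_cancel])
          rw [h1, map_one]; rfl⟩
      refine Nat.card_le_card_of_injective f fun y y' h => ?_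
      have h1 : y.out * w * y.out⁻¹ = y'.out * w * y'.out⁻¹ :=
        have h0 : (e ⟨y.out * w * y.out⁻¹, Normal.conj_mem inferInstance w hwN _⟩ : Equiv.Perm (Fin 6)) =
            (e ⟨y'.out * w * y'.out⁻¹, Normal.conj_mem inferInstance w hwN _⟩ : Equiv.Perm (Fin 6)) :=
          (by have h00 := congrArg Subtype.val h; exact h00)
        congrArg Subtype.val (e.injective (Subtype.ext h0))
      have h2 : y.out⁻¹ * y'.out ∈ C := by
        rw [mem_centralizer_singleton_iff]
        calc y.out⁻¹ * y'.out * w = y.out⁻¹ * (y'.out * w * y'.out⁻¹) * y'.out := by group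
          _ = y.out⁻¹ * (y.out * w * y.out⁻¹) * y'.out := by rw [h1]
          _ = w * (y.out⁻¹ * y'.out) := by group
      rw [← QuotientGroup.out_eq' y, ← QuotientGroup.out_eq' y']
      exact QuotientGroup.eq.2 h2
    have heven : Even (Nat.card C) := by
      by_contra hodd
      obtain ⟨k, hk4, hk⟩ := card_cent_sub N hidx w
      have h1 : k = 1 := by
        rcases (Nat.dvd_prime_pow Nat.prime_two).1 (show k ∣ 2 ^ 2 from hk4) with ⟨j, hj, rfl⟩
        rcases j with _ | j
        · rfl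
        · exact absurd (show Even (Nat.card C) by rw [hk, pow_succ', mul_assoc]; exact even_two_mul _) hodd
      have h3 := C.index_mul_card
      rw [h1, one_mul] at hk
      have hk' : Nat.card C = Nat.card ↥(C ⊓ N) := hk
      rw [hGc, hk'] at h3
      have := Nat.mul_le_mul hclass hc
      omega
    -- conjugation by t fixes an involution of C
    have htC : ∀ y ∈ C, t * y * t⁻¹ ∈ C := by
      intro y hy
      rw [mem_centralizer_singleton_iff] at hy ⊢
      have h1 : w = t * w⁻¹ * t⁻¹ := by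
        rw [← hconj, htinv]
        calc w = (t * t) * w * (t * t) := by rw [ht2, one_mul, mul_one]
          _ = _ := by simp only [mul_assoc]
      have h4 : y * w⁻¹ = w⁻¹ * y := (Commute.inv_right hy)
      calc t * y * t⁻¹ * w = t * (y * w⁻¹) * t⁻¹ := by (conv_lhs => rw [h1]); group
        _ = t * (w⁻¹ * y) * t⁻¹ := by rw [h4]
        _ = w * (t * y * t⁻¹) := by (conv_rhs => rw [h1]); group
    let S := {y : C // y * y = 1}
    have hS : 2 ∣ Nat.card S := by
      haveI := Fintype.ofFinite C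
      have h1 : (∑ y ∈ Finset.univ.filter (fun y : C => ¬ y * y = 1), (1 : ZMod 2)) = 0 := by
        refine Finset.sum_involution (fun y _ => y⁻¹) (fun y _ => by decide) (fun y hy _ => ?_) (fun y hy => ?_)
          (fun y _ => inv_inv y)
        · intro h
          exact (Finset.mem_filter.1 hy).2 (mul_eq_one_iff_eq_inv.2 h.symm)
        · refine Finset.mem_filter.2 ⟨Finset.mem_univ _, fun h => (Finset.mem_filter.1 hy).2 ?_⟩
          rw [← mul_inv_rev, inv_eq_one] at h
          exact h
      rw [Finset.sum_const, nsmul_one, ZMod.natCast_eq_zero_iff] at h1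
      have h3 := Finset.card_filter_add_card_filter_not (s := (Finset.univ : Finset C)) (fun y : C => y * y = 1)
      rw [Finset.card_univ, ← Nat.card_eq_fintype_card] at h3
      have h5 : Nat.card S = (Finset.univ.filter fun y : C => y * y = 1).card := by
        rw [Nat.card_eq_fintype_card, Fintype.card_subtype]
      obtain ⟨m, hm⟩ := heven
      omega
    let φ : S → S := fun y => ⟨⟨t * y.1.1 * t⁻¹, htC _ y.1.2⟩, Subtype.ext (by
      have := congrArg Subtype.val y.2
      simp only [coe_mul, coe_one] at this ⊢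
      rw [show t * (y.1.1) * t⁻¹ * (t * y.1.1 * t⁻¹) = t * (y.1.1 * y.1.1) * t⁻¹ by group, this, mul_one,
        mul_inv_cancel])⟩
    haveI := Fintype.ofFinite S
    let s : Finset S := Finset.univ.filter fun y : S => (y : C) ≠ 1
    by_contra hcon
    push Not at hcon
    have h1 : (∑ y ∈ s, (1 : ZMod 2)) = 0 := by
      refine Finset.sum_involution (fun y _ => φ y) (fun y _ => by decide) (fun y hy _ hfix => ?_) (fun y hy => ?_)
        (fun y _ => ?_)
      · have hy1 : ((y : C) : G) ≠ 1 := fun h => (Finset.mem_filter.1 hy).2 (Subtype.ext h)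
        have h2 : t * (y : C).1 * t⁻¹ = (y : C).1 := congrArg (fun z : S => ((z : C) : G)) hfix
        have h3 : ((y : C) : G) * t = t * ((y : C) : G) := (mul_inv_eq_iff_eq_mul.1 h2).symm
        exact hcon _ hy1 h3 (hfin _ h3 (mem_centralizer_singleton_iff.1 (y : C).2))
      · refine Finset.mem_filter.2 ⟨Finset.mem_univ _, fun h => (Finset.mem_filter.1 hy).2 (Subtype.ext ?_)⟩
        have h2 : t * (y : C).1 * t⁻¹ = 1 := congrArg Subtype.val h
        rwa [conj_eq_one_iff] at h2
      · refine Subtype.ext (Subtype.ext ?_)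
        show t * (t * (y : C).1 * t⁻¹) * t⁻¹ = (y : C).1
        rw [htinv, ← mul_assoc, ← mul_assoc, ht2, one_mul, mul_assoc, ht2, mul_one]
    rw [Finset.sum_const, nsmul_one, ZMod.natCast_eq_zero_iff] at h1
    have h6 : s = Finset.univ.erase ⟨1, one_mul 1⟩ := by
      ext y
      simp only [s, Finset.mem_filter, Finset.mem_univ, true_and, Finset.mem_erase, and_true, ne_eq]
      exact ⟨fun h h' => h (by rw [h']), fun h h' => h (Subtype.ext h')⟩
    have h7 : 0 < Fintype.card S := Fintype.card_pos_iff.2 ⟨⟨1, one_mul 1⟩⟩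
    rw [h6, Finset.card_erase_of_mem (Finset.mem_univ _), Finset.card_univ] at h1
    rw [Nat.card_eq_fintype_card] at hS
    omega
  rcases orders6 _ (e ⟨w, hwN⟩).2 with h | h | h | h
  · exact absurd (hpow 2 h) h2
  · refine key 3 (by decide) (hpow 3 h) 81 9 (by norm_num) count3
      (card_cent_le N e ⟨w, hwN⟩ (cent3 _ h fun h' => h2 ?_))
    exact hpow 2 (by rw [h', one_pow])
  · have h4 : w ^ 2 * w ^ 2 = 1 := by rw [← pow_add]; exact hpow 4 h
    have h5 : (w ^ 2)⁻¹ = w ^ 2 := inv_eq_of_mul_eq_one_right h4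
    have h6 : t * w ^ 2 * t⁻¹ = w ^ 2 := by
      rw [← conj_pow, htinv, hconj, inv_pow, h5]
    have h7 : w ^ 2 * t = t * w ^ 2 := (mul_inv_eq_iff_eq_mul.1 h6).symm
    exact ⟨w ^ 2, h2, h7, hfin _ h7 ((Commute.refl w).pow_left 2).eq⟩
  · refine key 5 (by decide) (hpow 5 h) 145 5 (by norm_num) count5
      (card_cent_le N e ⟨w, hwN⟩ (cent5 _ h fun h' => h2 ?_))
    exact hpow 2 (by rw [h', one_pow])

include e in
theorem centralizer_eq_sylow [N.Normal] (hidx : N.index = 4) (H : Sylow 2 G) :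
    ∃ t ∈ N, t ≠ 1 ∧ t * t = 1 ∧ centralizer ({t} : Set G) = (H : Subgroup G) := by
  have hGc : Nat.card G = 1440 := by
    rw [← N.card_mul_index, hidx, Nat.card_congr e.toEquiv, nat_card_alternatingGroup, Nat.card_fin]
    decide
  have hH : Nat.card (H : Subgroup G) = 32 := by
    rw [H.card_eq_multiplicity, hGc, show (1440 : ℕ) = 2 ^ 5 * 45 by norm_num,
      Nat.factorization_mul (by norm_num) (by norm_num), Finsupp.add_apply, Nat.factorization_pow,
      Finsupp.smul_apply, Nat.prime_two.factorization_self, Nat.factorization_eq_zero_of_not_dvd (by norm_num)]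
    rfl
  have hM : N.subgroupOf (H : Subgroup G) ≠ ⊥ := by
    intro h
    have h1 : N.relIndex (H : Subgroup G) ∣ 4 := hidx ▸ relIndex_dvd_index_of_normal N _
    rw [relIndex, h, index_bot, hH] at h1
    exact absurd (Nat.le_of_dvd (by norm_num) h1) (by norm_num)
  obtain ⟨⟨c, ⟨hcN, hcZ⟩⟩, hc1⟩ := exists_prime_orderOf_dvd_card' 2 (show 2 ∣ Nat.card
      (N.subgroupOf (H : Subgroup G) ⊓ center (H : Subgroup G) : Subgroup (H : Subgroup G)) by
    have hne := Cfsg.Agent.Local.inf_center_ne_bot H.isPGroup' _ hM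
    obtain ⟨k, hk⟩ := IsPGroup.iff_card.1 (H.isPGroup'.to_subgroup (N.subgroupOf (H : Subgroup G) ⊓ center (H : Subgroup G)))
    rcases k with _ | k
    · exact absurd (eq_bot_of_card_eq _ (by simpa using hk)) hne
    · exact hk ▸ dvd_pow_self 2 k.succ_ne_zero)
  rw [← Subgroup.orderOf_coe, ← Subgroup.orderOf_coe] at hc1
  simp only at hc1
  have ht2 : (c : G) * c = 1 := by rw [← pow_two]; exact orderOf_dvd_iff_pow_eq_one.1 (dvd_of_eq hc1)
  have ht1 : (c : G) ≠ 1 := fun h => by simp [h] at hc1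
  refine ⟨(c : G), hcN, ht1, ht2, (eq_of_le_of_card_ge ?_ ?_).symm⟩
  · intro h hh
    rw [mem_centralizer_singleton_iff]
    exact congrArg Subtype.val (mem_center_iff.1 hcZ ⟨h, hh⟩)
  · obtain ⟨k, hk4, hk⟩ := card_cent_sub N hidx (c : G)
    have h8 := card_cent_le N e ⟨c, hcN⟩ (cent2 _ (e ⟨c, hcN⟩).2 ?_ ?_)
    · rw [hH, hk]
      exact le_trans (Nat.mul_le_mul (Nat.le_of_dvd (by norm_num) hk4) h8) (by norm_num)
    · rw [← SubgroupClass.coe_pow, ← map_pow]
      rw [show (⟨(c : G), hcN⟩ : N) ^ 2 = 1 from Subtype.ext (by show (c : G) ^ 2 = 1; rw [pow_two]; exact ht2),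
        map_one]
      rfl
    · intro h
      exact ht1 (congrArg Subtype.val (e.map_eq_one_iff.1 (Subtype.ext h)))

/-- Let G be a finite group with a normal subgroup N of index 4 isomorphic to the alternating group of degree 6 and with trivial centralizer in G (so G is the full automorphism group of A₆). Then any two Sylow 2-subgroups of G have a non-trivial intersection: for a Sylow 2-subgroup H and every x ∈ G, H ∩ H^x ≠ 1. -/
theorem result {G : Type*} [Group G] [Finite G] (N : Subgroup G) [N.Normal]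
    (e : N ≃* alternatingGroup (Fin 6)) (hidx : N.index = 4)
    (hC : Subgroup.centralizer (N : Set G) = ⊥)
    (H : Sylow 2 G) (x : G) :
    (H : Subgroup G) ⊓ MulAut.conj x • (H : Subgroup G) ≠ ⊥ := by
  obtain ⟨t, htN, ht1, ht2, hC'⟩ := centralizer_eq_sylow N e hidx H
  obtain ⟨g, hg1, hgt, hgu⟩ := exists_common N e hidx t (x * t * x⁻¹) htN
    (Subgroup.Normal.conj_mem inferInstance t htN x) ht2
    (by rw [show x * t * x⁻¹ * (x * t * x⁻¹) = x * (t * t) * x⁻¹ by group, ht2, mul_one, mul_inv_cancel]) ht1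
  intro hbot
  apply hg1
  rw [← Subgroup.mem_bot, ← hbot]
  refine Subgroup.mem_inf.2 ⟨hC' ▸ Subgroup.mem_centralizer_singleton_iff.2 hgt, ?_⟩
  rw [Subgroup.mem_pointwise_smul_iff_inv_smul_mem, ← hC', ← map_inv, MulAut.smul_def, MulAut.conj_apply,
    inv_inv, Subgroup.mem_centralizer_singleton_iff]
  calc x⁻¹ * g * x * t = x⁻¹ * (g * (x * t * x⁻¹)) * x := by group
    _ = x⁻¹ * (x * t * x⁻¹ * g) * x := by rw [hgu]
    _ = t * (x⁻¹ * g * x) := by group

end Cfsg.Agent.S2488
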