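import Cfsg.Statements.S2503
import Cfsg.Agent.Lib.Classical.DicksonClasses
import Cfsg.Agent.Lib.Classical.Icosa

set_option autoImplicit false
open Cfsg

open Cfsg.Agent.Classical
open scoped MatrixGroups Classical Cfsg.Agent.Classical.Dickson
open OnePoint

namespace Cfsg.Agent.S2503

/-- Let F be a finite field with q = 2^t ≥ 4 elements and L = PSL(2,F). Then L has a cyclic subgroup A of order q + 1 and an elementary abelian 2-subgroup B of order q such that L = ABA: every element of L is a product a·b·a' with a, a' ∈ A and b ∈ B. -/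
theorem result {F : Type*} [Field F] [Fintype F]
    (h2 : 2 ∣ Fintype.card F) (h4 : 4 ≤ Fintype.card F) :
    ∃ A B : Subgroup (Matrix.ProjectiveSpecialLinearGroup (Fin 2) F),
      IsCyclic A ∧ Nat.card A = Fintype.card F + 1 ∧ IsMulCommutative B ∧ (∀ b ∈ B, b * b = 1) ∧
        Nat.card B = Fintype.card F ∧
        ∀ g : Matrix.ProjectiveSpecialLinearGroup (Fin 2) F, ∃ a ∈ A, ∃ b ∈ B, ∃ c ∈ A, g = a * b * c := by
  haveI : Finite (Matrix.ProjectiveSpecialLinearGroup (Fin 2) F) := Finite.of_surjective _ SL2Two.proj_surjective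
  obtain ⟨p, hp⟩ := CharP.exists F
  obtain ⟨n, hpp, hn⟩ := FiniteField.card F p
  haveI : Fact p.Prime := ⟨hpp⟩
  have hp2 : p = 2 := ((Nat.prime_dvd_prime_iff_eq Nat.prime_two hpp).1 (Nat.prime_two.dvd_of_dvd_pow (hn ▸ h2))).symm
  subst hp2
  haveI : CharP (AlgebraicClosure F) 2 :=
    charP_of_injective_algebraMap (algebraMap F (AlgebraicClosure F)).injective 2
  have hgcd : Nat.gcd 2 (Fintype.card F - 1) = 1 := by
    rcases (Nat.dvd_prime Nat.prime_two).1 (Nat.gcd_dvd_left 2 (Fintype.card F - 1)) with h | h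
    · exact h
    · have h' := Nat.gcd_dvd_right 2 (Fintype.card F - 1)
      rw [h] at h'
      omega
  have A := Dickson.ambient_pslF (F := F)
  rw [hgcd, Nat.div_one, Nat.div_one] at A
  obtain ⟨g₀, hg₀⟩ := Dickson.exists_orderOf_torus A (k := Fintype.card F + 1) (Or.inr rfl)
  have hodd1 : ∀ d, d ∣ Fintype.card F - 1 → d ∣ Fintype.card F + 1 → d = 1 := by
    intro d hd hd'
    have h2d : d ∣ 2 := (Nat.dvd_sub hd' hd).trans (dvd_of_eq (by omega))
    rcases (Nat.dvd_prime Nat.prime_two).1 h2d with r | r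
    · exact r
    · rw [r] at hd; omega
  have hC := (Dickson.centralizer_card_of_order 2 h4 A (Or.inr rfl) hg₀ (by omega) dvd_rfl
    (fun h h' => by have := hodd1 _ h h'; omega)).2 (by omega)
  set S := Subgroup.zpowers g₀ with hS
  have hSc : Nat.card S = Fintype.card F + 1 := by rw [hS, Nat.card_zpowers, hg₀]
  have hSC : S = Subgroup.centralizer ({g₀} : Set (Matrix.ProjectiveSpecialLinearGroup (Fin 2) F)) :=
    Subgroup.eq_of_le_of_card_ge (Subgroup.zpowers_le.2 (Subgroup.mem_centralizer_singleton_iff.2 rfl))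
      (by rw [hSc, hC])
  obtain ⟨W, rfl⟩ := SL2Two.proj_surjective g₀
  -- the translations at infinity
  set B := (Dickson.tr (Dickson.pslF F) (∞ : OnePoint (AlgebraicClosure F))).comap Dickson.emb with hB
  have hBc : Nat.card B = Fintype.card F := by
    rw [hB, ← Subgroup.card_map_of_injective Dickson.emb_injective (K := Subgroup.comap _ _), Subgroup.map_comap_eq_self
      (H := Dickson.tr (Dickson.pslF F) (∞ : OnePoint (AlgebraicClosure F))) (fun _ hx => hx.1)]
    exact A.hq
  refine ⟨S, B, inferInstanceAs (IsCyclic (Subgroup.zpowers _)), hSc, ⟨⟨fun a b => ?_⟩⟩, fun b hb => ?_, hBc, ?_⟩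
  · exact Subtype.ext (Dickson.emb_injective (by
      rw [Subgroup.coe_mul, Subgroup.coe_mul, map_mul, map_mul]; exact Dickson.isTr_comm a.2.2 b.2.2))
  · apply Dickson.emb_injective
    have h := Dickson.pow_char_of_isTr (p := 2) hb.2
    rw [pow_two] at h
    rw [map_mul, map_one, h]
  -- the torus acts regularly on the rational points
  have hfree : ∀ s ∈ S, ∀ x ∈ Dickson.orb (Dickson.pslF F) (∞ : OnePoint (AlgebraicClosure F)),
      Dickson.emb s • x = x → s = 1 := by
    intro s hs x hx hsx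
    by_contra hs1
    have hd : orderOf s ∣ Fintype.card F + 1 := hSc ▸ Subgroup.orderOf_dvd_natCard _ hs
    rcases Dickson.orderOf_cases (Dickson.pslF F) (p := 2) (x := x) ⟨⟨s, rfl⟩, hsx⟩ with ⟨h, -⟩ | h
    · rw [orderOf_injective _ Dickson.emb_injective] at h
      rcases (Nat.dvd_prime Nat.prime_two).1 h with r | r
      · exact hs1 (orderOf_eq_one_iff.1 r)
      · rw [r] at hd; omega
    · rw [Dickson.eOf_orb _ hx, A.he, orderOf_injective _ Dickson.emb_injective] at h
      exact hs1 (orderOf_eq_one_iff.1 (hodd1 _ h hd))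
  have htrans : ∀ x ∈ Dickson.orb (Dickson.pslF F) (∞ : OnePoint (AlgebraicClosure F)),
      ∃ c ∈ S, Dickson.emb c • (∞ : OnePoint (AlgebraicClosure F)) = x := by
    let O := Dickson.orb (Dickson.pslF F) (∞ : OnePoint (AlgebraicClosure F))
    haveI : Finite O := (Dickson.finite_orb _ _).to_subtype
    let f : S → O := fun s => ⟨Dickson.emb (s : Matrix.ProjectiveSpecialLinearGroup (Fin 2) F) • (∞ : OnePoint (AlgebraicClosure F)),
      Dickson.emb (s : Matrix.ProjectiveSpecialLinearGroup (Fin 2) F), ⟨(s : Matrix.ProjectiveSpecialLinearGroup (Fin 2) F), rfl⟩, rfl⟩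
    have hf : Function.Injective f := fun s t h => by
      have h' : Dickson.emb (s : Matrix.ProjectiveSpecialLinearGroup (Fin 2) F) • (∞ : OnePoint (AlgebraicClosure F)) =
          Dickson.emb (t : Matrix.ProjectiveSpecialLinearGroup (Fin 2) F) • (∞ : OnePoint (AlgebraicClosure F)) :=
        congrArg Subtype.val h
      refine Subtype.ext (inv_mul_eq_one.1 (hfree _ (S.mul_mem (S.inv_mem t.2) s.2) _ (Dickson.self_mem_orb _ _) ?_)).symm
      rw [map_mul, map_inv, mul_smul, h', inv_smul_smul]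
    have hbij := hf.bijective_of_nat_card_le (by rw [hSc]; exact (A.ho).le)
    intro x hx
    obtain ⟨s, hs⟩ := hbij.2 ⟨x, hx⟩
    exact ⟨s, s.2, congrArg Subtype.val hs⟩
  intro g
  obtain ⟨G, rfl⟩ := SL2Two.proj_surjective g
  -- a unit of the quadratic algebra of W annihilating the trace
  set w := (W : Matrix (Fin 2) (Fin 2) F) with hw
  have hch : w * w = w.trace • w - 1 := Icosa.ch W
  have hirr : ∀ s : F, s * s + w.trace * s + 1 ≠ 0 := by
    intro s hs
    have hs0 : s ≠ 0 := fun h => by rw [h] at hs; simp at hs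
    have h2F : (2 : F) = 0 := by exact_mod_cast CharP.cast_eq_zero F 2
    have htr : w.trace = s + s⁻¹ := by
      field_simp
      linear_combination hs - (s * s + 1) * h2F
    have hne : s - s⁻¹ ≠ 0 := by
      intro h
      have ht0 : w.trace = 0 := by rw [htr]; linear_combination h + s⁻¹ * h2F
      have hsq : SL2Two.proj W * SL2Two.proj W = 1 := by
        rw [← map_mul]
        refine (SL2Two.proj_eq_one_iff _).2 (Or.inr (Subtype.ext ?_))
        rw [SL2.coe_mul', SL2Two.coe_negOne]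
        show w * w = -1
        rw [hch, ht0, zero_smul, zero_sub]
      have := Nat.le_of_dvd two_pos (hg₀ ▸ orderOf_dvd_of_pow_eq_one (show SL2Two.proj W ^ 2 = 1 by rw [pow_two, hsq]))
      omega
    have hstep : ∀ a b : F, a + b = w.trace → a * b = 1 → w * (w - b • 1) = a • (w - b • 1) := by
      intro a b hab hab1
      rw [mul_sub, mul_smul_comm, mul_one, hch, ← hab, smul_sub, smul_smul, hab1, one_smul, add_smul]
      abel
    have hpow : ∀ m : ℕ, (s - s⁻¹) • w ^ m = s ^ m • (w - s⁻¹ • 1) - s⁻¹ ^ m • (w - s • 1) := by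
      intro m
      induction m with
      | zero => rw [pow_zero, pow_zero, pow_zero, one_smul, one_smul, sub_smul]; abel
      | succ m ih =>
        rw [pow_succ', ← mul_smul_comm, ih, mul_sub, mul_smul_comm, mul_smul_comm,
          hstep s s⁻¹ htr.symm (mul_inv_cancel₀ hs0), hstep s⁻¹ s (by rw [htr, add_comm]) (inv_mul_cancel₀ hs0),
          smul_smul, smul_smul, ← pow_succ, ← pow_succ]
    have hW1 : w ^ (Fintype.card F - 1) = 1 := by
      refine smul_right_injective _ hne ?_
      show (s - s⁻¹) • _ = (s - s⁻¹) • (1 : Matrix (Fin 2) (Fin 2) F)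
      rw [hpow, FiniteField.pow_card_sub_one_eq_one s hs0, FiniteField.pow_card_sub_one_eq_one s⁻¹ (inv_ne_zero hs0),
        one_smul, one_smul, sub_smul]
      abel
    have hd : Fintype.card F + 1 ∣ Fintype.card F - 1 := by
      rw [← hg₀]
      refine orderOf_dvd_of_pow_eq_one ?_
      rw [← map_pow]
      exact (SL2Two.proj_eq_one_iff _).2 (Or.inl (Subtype.ext (by rw [Matrix.SpecialLinearGroup.coe_pow]; exact hW1)))
    have := Nat.le_of_dvd (by omega) hd
    omega
  obtain ⟨a, b, hab, htr⟩ : ∃ a b : F, (a ≠ 0 ∨ b ≠ 0) ∧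
      a * (G : Matrix (Fin 2) (Fin 2) F).trace + b * (w * (G : Matrix (Fin 2) (Fin 2) F)).trace = 0 := by
    by_cases h : (G : Matrix (Fin 2) (Fin 2) F).trace = 0
    · exact ⟨1, 0, Or.inl one_ne_zero, by rw [h]; ring⟩
    · exact ⟨-(w * (G : Matrix (Fin 2) (Fin 2) F)).trace, (G : Matrix (Fin 2) (Fin 2) F).trace, Or.inr h, by ring⟩
  have hdet : (a • (1 : Matrix (Fin 2) (Fin 2) F) + b • w).det = a * a + a * b * w.trace + b * b := by
    have hd := W.2
    rw [Matrix.det_fin_two] at hd ⊢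
    simp only [Matrix.add_apply, Matrix.smul_apply, Matrix.one_apply_eq, Matrix.one_apply_ne (show (0 : Fin 2) ≠ 1 by decide),
      Matrix.one_apply_ne (show (1 : Fin 2) ≠ 0 by decide), smul_eq_mul, Matrix.trace_fin_two]
    linear_combination (b * b) * hd
  have hN0 : (a • (1 : Matrix (Fin 2) (Fin 2) F) + b • w).det ≠ 0 := by
    rw [hdet]
    intro h
    by_cases hb : b = 0
    · subst hb
      exact hab.elim (fun ha => ha (mul_self_eq_zero.1 (by linear_combination h))) (fun hb => hb rfl)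
    · refine hirr (a / b) ?_
      field_simp
      linear_combination h
  obtain ⟨r, hr⟩ := FiniteField.isSquare_of_char_two (ringChar.eq F 2) (a • (1 : Matrix (Fin 2) (Fin 2) F) + b • w).det
  have hr0 : r ≠ 0 := fun h => hN0 (by rw [hr, h, mul_zero])
  let d : Matrix.SpecialLinearGroup (Fin 2) F := ⟨r⁻¹ • (a • (1 : Matrix (Fin 2) (Fin 2) F) + b • w), by
    rw [Matrix.det_smul, Fintype.card_fin, hr]; field_simp⟩
  have hdS : SL2Two.proj d ∈ S := by
    rw [hSC, Subgroup.mem_centralizer_singleton_iff, ← map_mul, ← map_mul]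
    congr 1
    apply Subtype.ext
    rw [SL2.coe_mul', SL2.coe_mul']
    show r⁻¹ • (a • (1 : Matrix (Fin 2) (Fin 2) F) + b • w) * w = w * (r⁻¹ • (a • (1 : Matrix (Fin 2) (Fin 2) F) + b • w))
    simp [smul_mul_assoc, mul_smul_comm, add_mul, mul_add]
  set h := SL2Two.proj d * SL2Two.proj G with hh
  have hh2 : h * h = 1 := by
    rw [hh, ← map_mul, ← map_mul]
    refine (SL2Two.proj_eq_one_iff _).2 (Or.inr (Subtype.ext ?_))
    rw [SL2.coe_mul', SL2Two.coe_negOne, Icosa.ch (d * G)]
    have ht : ((d * G : Matrix.SpecialLinearGroup (Fin 2) F) : Matrix (Fin 2) (Fin 2) F).trace = 0 := by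
      rw [SL2.coe_mul']
      show (r⁻¹ • (a • (1 : Matrix (Fin 2) (Fin 2) F) + b • w) * (G : Matrix (Fin 2) (Fin 2) F)).trace = 0
      rw [smul_mul_assoc, add_mul, smul_mul_assoc, smul_mul_assoc, one_mul, Matrix.trace_smul, Matrix.trace_add,
        Matrix.trace_smul, Matrix.trace_smul, smul_eq_mul, smul_eq_mul, smul_eq_mul, htr, mul_zero]
    rw [ht, zero_smul, zero_sub]
  by_cases h1 : h = 1
  · exact ⟨_, S.inv_mem hdS, 1, B.one_mem, 1, S.one_mem, by rw [mul_one, mul_one, eq_comm, inv_eq_of_mul_eq_one_right]; exact h1⟩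
  have hne : Dickson.emb h ≠ 1 := fun e => h1 (Dickson.emb_injective (e.trans Dickson.emb.map_one.symm))
  obtain ⟨x, hx⟩ : ∃ x, Dickson.IsTr x (Dickson.emb h) := by
    rcases Dickson.fixed_cases hne with ⟨x, hx, -⟩ | ⟨x, y, hxy, -, -, hfix⟩
    · exact ⟨x, hx⟩
    · exfalso
      refine Dickson.orderOf_two_fix (Dickson.pslF F) (p := 2) hxy ⟨h, rfl⟩ ((hfix x).2 (Or.inl rfl))
        ((hfix y).2 (Or.inr rfl)) (dvd_of_eq (orderOf_eq_prime ?_ hne).symm)
      rw [pow_two, ← map_mul, hh2, map_one]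
  have hxo : x ∈ Dickson.orb (Dickson.pslF F) (∞ : OnePoint (AlgebraicClosure F)) := by
    rcases A.split.1 x ⟨_, ⟨h, rfl⟩, hne, hx.1⟩ with ⟨r, -, -⟩ | ⟨-, r, -⟩
    · exact r
    · exfalso
      have hm : Dickson.emb h ∈ Dickson.tr (Dickson.pslF F) x := ⟨⟨h, rfl⟩, hx⟩
      rw [Subgroup.eq_bot_of_card_eq _ r, Subgroup.mem_bot] at hm
      exact hne hm
  obtain ⟨c, hc, hcx⟩ := htrans x hxo
  refine ⟨(SL2Two.proj d)⁻¹ * c, S.mul_mem (S.inv_mem hdS) hc, c⁻¹ * h * c, ⟨⟨_, rfl⟩, ?_⟩, c⁻¹, S.inv_mem hc, ?_⟩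
  · have h' := Dickson.isTr_conj (Dickson.emb c)⁻¹ hx
    rw [← hcx, inv_smul_smul, inv_inv] at h'
    rw [map_mul, map_mul, map_inv]
    exact Dickson.mem_trSub.2 h'
  · rw [hh]; group

end Cfsg.Agent.S2503
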