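import Cfsg.Statements.S2504
import Cfsg.Agent.Lib.Perm.AbelianMaxOrder

set_option autoImplicit false
open Cfsg

namespace Cfsg.Agent.S2504

/-- The largest order of an abelian subgroup of the alternating group of degree n is 3^k when n = 3k, 4·3^(k−1) when n = 3k + 1, and 16·3^(k−2) when n = 3k + 2, for every k ≥ 2 (so for all degrees n ≥ 6). -/
theorem result (k : ℕ) (hk : 2 ≤ k) :
    IsGreatest {c : ℕ | ∃ A : Subgroup (alternatingGroup (Fin (3 * k))), IsMulCommutative A ∧ Nat.card A = c} (3 ^ k) ∧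
    IsGreatest {c : ℕ | ∃ A : Subgroup (alternatingGroup (Fin (3 * k + 1))), IsMulCommutative A ∧ Nat.card A = c}
      (4 * 3 ^ (k - 1)) ∧
    IsGreatest {c : ℕ | ∃ A : Subgroup (alternatingGroup (Fin (3 * k + 2))), IsMulCommutative A ∧ Nat.card A = c}
      (16 * 3 ^ (k - 2)) := by
  obtain ⟨j, rfl⟩ := Nat.exists_eq_add_of_le' hk
  refine ⟨?_, ?_, ?_⟩
  · exact Cfsg.Agent.Lib.AbelianMaxOrder.greatest_alt (Cfsg.Agent.Lib.AbelianMaxOrder.h_three _)
      (by simpa using Cfsg.Agent.Lib.AbelianMaxOrder.witness (j + 2) 0)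
  · obtain ⟨A, h1, h2, h3⟩ := Cfsg.Agent.Lib.AbelianMaxOrder.witness (j + 1) 1
    rw [show 3 * (j + 2) + 1 = 3 * (j + 1) + 4 * 1 by ring, show j + 2 - 1 = j + 1 by omega]
    exact Cfsg.Agent.Lib.AbelianMaxOrder.greatest_alt (Cfsg.Agent.Lib.AbelianMaxOrder.h_three_one _)
      ⟨A, h1, by rw [h2]; ring, h3⟩
  · obtain ⟨A, h1, h2, h3⟩ := Cfsg.Agent.Lib.AbelianMaxOrder.witness j 2
    rw [show 3 * (j + 2) + 2 = 3 * j + 4 * 2 by ring, show j + 2 - 2 = j by omega]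
    exact Cfsg.Agent.Lib.AbelianMaxOrder.greatest_alt (Cfsg.Agent.Lib.AbelianMaxOrder.h_three_two _)
      ⟨A, h1, by rw [h2]; ring, h3⟩

end Cfsg.Agent.S2504
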