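import Cfsg.Statements.S2507
import Cfsg.Agent.Lib.Classical.DicksonClasses

set_option autoImplicit false
open Cfsg

open Cfsg.Agent.Classical
open scoped MatrixGroups Classical

namespace Cfsg.Agent.S2507

/-- Let F be a finite field with q = 2^f ≥ 4 elements. The conjugacy class sizes of PSL(2,F) are exactly 1, q(q − 1), q² − 1 and q(q + 1). -/
theorem result {F : Type*} [Field F] [Fintype F]
    (h2 : 2 ∣ Fintype.card F) (h4 : 4 ≤ Fintype.card F) :
    Set.range (fun g : (Matrix.ProjectiveSpecialLinearGroup (Fin 2) F) => (Subgroup.centralizer ({g} : Set (Matrix.ProjectiveSpecialLinearGroup (Fin 2) F))).index) =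
      {1, Fintype.card F * (Fintype.card F - 1), Fintype.card F ^ 2 - 1, Fintype.card F * (Fintype.card F + 1)} := by
  obtain ⟨p, hp⟩ := CharP.exists F
  obtain ⟨n, hpp, hn⟩ := FiniteField.card F p
  haveI : Fact p.Prime := ⟨hpp⟩
  haveI : Finite (Matrix.ProjectiveSpecialLinearGroup (Fin 2) F) := Finite.of_surjective _ SL2Two.proj_surjective
  have hp2 : p = 2 := ((Nat.prime_dvd_prime_iff_eq Nat.prime_two hpp).1 (Nat.prime_two.dvd_of_dvd_pow (hn ▸ h2))).symm
  have hgcd : Nat.gcd 2 (Fintype.card F - 1) = 1 := by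
    rcases (Nat.dvd_prime Nat.prime_two).1 (Nat.gcd_dvd_left 2 (Fintype.card F - 1)) with h | h
    · exact h
    · have h' := Nat.gcd_dvd_right 2 (Fintype.card F - 1)
      rw [h] at h'
      omega
  have A := Dickson.ambient_pslF (F := F)
  rw [hgcd, Nat.div_one, Nat.div_one] at A
  have hG := SL2.card_PSL2_mul (F := F)
  rw [hgcd, one_mul] at hG
  have hsq : Fintype.card F ^ 2 - 1 = (Fintype.card F + 1) * (Fintype.card F - 1) := by
    simpa using Nat.sq_sub_sq (Fintype.card F) 1
  have hidx : ∀ (g : Matrix.ProjectiveSpecialLinearGroup (Fin 2) F) (c i : ℕ),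
      Nat.card (Subgroup.centralizer ({g} : Set (Matrix.ProjectiveSpecialLinearGroup (Fin 2) F))) = c →
      c * i = Fintype.card F * (Fintype.card F ^ 2 - 1) →
      (Subgroup.centralizer ({g} : Set (Matrix.ProjectiveSpecialLinearGroup (Fin 2) F))).index = i := by
    intro g c i hc hi
    have h := (Subgroup.centralizer ({g} : Set (Matrix.ProjectiveSpecialLinearGroup (Fin 2) F))).card_mul_index
    rw [hG, hc, ← hi] at h
    refine Nat.eq_of_mul_eq_mul_left ?_ h
    rw [← hc]; exact Nat.card_pos
  have hq := hidx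
  have m1 : (Fintype.card F - 1) * (Fintype.card F * (Fintype.card F + 1)) = Fintype.card F * (Fintype.card F ^ 2 - 1) := by
    rw [hsq]; ring
  have m2 : (Fintype.card F + 1) * (Fintype.card F * (Fintype.card F - 1)) = Fintype.card F * (Fintype.card F ^ 2 - 1) := by
    rw [hsq]; ring
  ext i
  simp only [Set.mem_range, Set.mem_insert_iff, Set.mem_singleton_iff]
  constructor
  · rintro ⟨g, rfl⟩
    by_cases hg : g = 1
    · left
      rw [Subgroup.index_eq_one, eq_top_iff]
      intro a _
      rw [hg, Subgroup.mem_centralizer_singleton_iff, mul_one, one_mul]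
    rcases Dickson.centralizer_card_cases p h4 A hg with h | ⟨k, hk, h | ⟨-, hne, -⟩⟩
    · exact Or.inr (Or.inr (Or.inl (hidx g _ _ h rfl)))
    · rcases hk with rfl | rfl
      · exact Or.inr (Or.inr (Or.inr (hidx g _ _ h m1)))
      · exact Or.inr (Or.inl (hidx g _ _ h m2))
    · exact absurd hp2 hne
  · rintro (rfl | rfl | rfl | rfl)
    · refine ⟨1, ?_⟩
      rw [Subgroup.index_eq_one, eq_top_iff]
      intro a _
      rw [Subgroup.mem_centralizer_singleton_iff, mul_one, one_mul]
    · obtain ⟨g, hg⟩ := Dickson.exists_orderOf_torus A (k := Fintype.card F + 1) (Or.inr rfl)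
      refine ⟨g, hidx g _ _ ((Dickson.centralizer_card_of_order p h4 A (Or.inr rfl) hg (by omega) dvd_rfl
        (fun h _ => ?_)).2 (by omega)) m2⟩
      have := Nat.le_of_dvd (by omega) h
      omega
    · obtain ⟨g, hg⟩ := Dickson.exists_centralizer_q p h4 A
      exact ⟨g, hidx g _ _ hg rfl⟩
    · obtain ⟨g, hg⟩ := Dickson.exists_orderOf_torus A (k := Fintype.card F - 1) (Or.inl rfl)
      refine ⟨g, hidx g _ _ ((Dickson.centralizer_card_of_order p h4 A (Or.inl rfl) hg (by omega) dvd_rfl
        (fun _ h => ?_)).2 (by omega)) m1⟩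
      have := Nat.le_of_dvd two_pos ((Nat.dvd_sub h dvd_rfl).trans (dvd_of_eq (show Fintype.card F + 1 - (Fintype.card F - 1) = 2 by omega)))
      omega

end Cfsg.Agent.S2507
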