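import Cfsg.Statements.S2508
import Cfsg.Agent.Lib.Classical.DicksonClasses

set_option autoImplicit false
open Cfsg

open Cfsg.Agent.Classical
open scoped MatrixGroups Classical

namespace Cfsg.Agent.S2508

/-- Let F be a finite field with q elements, q odd and q ≥ 7. If q ≡ 1 (mod 4) the conjugacy class sizes of PSL(2,F) are exactly 1, (q² − 1)/2, q(q + 1)/2, q(q − 1) and q(q + 1); if q ≡ 3 (mod 4) they are exactly 1, (q² − 1)/2, q(q − 1)/2, q(q + 1) and q(q − 1). -/
theorem result {F : Type*} [Field F] [Fintype F]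
    (hodd : ¬ 2 ∣ Fintype.card F) (h7 : 7 ≤ Fintype.card F) :
    (Fintype.card F % 4 = 1 →
      Set.range (fun g : (Matrix.ProjectiveSpecialLinearGroup (Fin 2) F) => (Subgroup.centralizer ({g} : Set (Matrix.ProjectiveSpecialLinearGroup (Fin 2) F))).index) =
        {1, (Fintype.card F ^ 2 - 1) / 2, Fintype.card F * (Fintype.card F + 1) / 2,
          Fintype.card F * (Fintype.card F - 1), Fintype.card F * (Fintype.card F + 1)}) ∧
    (Fintype.card F % 4 = 3 →
      Set.range (fun g : (Matrix.ProjectiveSpecialLinearGroup (Fin 2) F) => (Subgroup.centralizer ({g} : Set (Matrix.ProjectiveSpecialLinearGroup (Fin 2) F))).index) =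
        {1, (Fintype.card F ^ 2 - 1) / 2, Fintype.card F * (Fintype.card F - 1) / 2,
          Fintype.card F * (Fintype.card F + 1), Fintype.card F * (Fintype.card F - 1)}) := by
  obtain ⟨p, hp⟩ := CharP.exists F
  obtain ⟨n, hpp, hn⟩ := FiniteField.card F p
  haveI : Fact p.Prime := ⟨hpp⟩
  haveI : Finite (Matrix.ProjectiveSpecialLinearGroup (Fin 2) F) := Finite.of_surjective _ SL2Two.proj_surjective
  have h4 : 4 ≤ Fintype.card F := by omega
  obtain ⟨e, he⟩ : ∃ e, Fintype.card F = 2 * e + 1 := ⟨Fintype.card F / 2, by omega⟩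
  have he3 : 3 ≤ e := by omega
  have A := Dickson.ambient_pslF (F := F)
  have hg2 : Nat.gcd 2 (Fintype.card F - 1) = 2 := Nat.gcd_eq_left (by omega)
  have e1 : (Fintype.card F - 1) / 2 = e := by omega
  have e2 : (Fintype.card F + 1) / 2 = e + 1 := by omega
  rw [hg2, e1, e2] at A
  have hG := SL2.card_PSL2_mul (F := F)
  rw [hg2, show Fintype.card F ^ 2 - 1 = (Fintype.card F + 1) * (Fintype.card F - 1) by
    simpa using Nat.sq_sub_sq (Fintype.card F) 1, show Fintype.card F + 1 = 2 * (e + 1) by omega,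
    show Fintype.card F - 1 = 2 * e by omega] at hG
  have hN : Nat.card (Matrix.ProjectiveSpecialLinearGroup (Fin 2) F) = 2 * (Fintype.card F * (e * (e + 1))) := by
    refine Nat.eq_of_mul_eq_mul_left two_pos (hG.trans ?_)
    ring
  have hidx : ∀ (g : Matrix.ProjectiveSpecialLinearGroup (Fin 2) F) (c i : ℕ),
      Nat.card (Subgroup.centralizer ({g} : Set (Matrix.ProjectiveSpecialLinearGroup (Fin 2) F))) = c →
      c * i = 2 * (Fintype.card F * (e * (e + 1))) →
      (Subgroup.centralizer ({g} : Set (Matrix.ProjectiveSpecialLinearGroup (Fin 2) F))).index = i := by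
    intro g c i hc hi
    have h := (Subgroup.centralizer ({g} : Set (Matrix.ProjectiveSpecialLinearGroup (Fin 2) F))).card_mul_index
    rw [hN, hc, ← hi] at h
    refine Nat.eq_of_mul_eq_mul_left ?_ h
    rw [← hc]; exact Nat.card_pos
  have v0 : (Fintype.card F ^ 2 - 1) / 2 = 2 * (e * (e + 1)) := by
    rw [show Fintype.card F ^ 2 - 1 = 2 * (2 * (e * (e + 1))) by
      rw [he, show (2 * e + 1) ^ 2 = 2 * (2 * (e * (e + 1))) + 1 by ring, Nat.add_sub_cancel],
      Nat.mul_div_cancel_left _ two_pos]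
  have v1 : Fintype.card F * (Fintype.card F + 1) = 2 * (Fintype.card F * (e + 1)) := by
    rw [show Fintype.card F + 1 = 2 * (e + 1) by omega]; ring
  have v2 : Fintype.card F * (Fintype.card F - 1) = 2 * (Fintype.card F * e) := by
    rw [show Fintype.card F - 1 = 2 * e by omega]; ring
  have m0 : Fintype.card F * ((Fintype.card F ^ 2 - 1) / 2) = 2 * (Fintype.card F * (e * (e + 1))) := by
    rw [v0]; ring
  have m1 : e * (Fintype.card F * (Fintype.card F + 1)) = 2 * (Fintype.card F * (e * (e + 1))) := by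
    rw [v1]; ring
  have m2 : (e + 1) * (Fintype.card F * (Fintype.card F - 1)) = 2 * (Fintype.card F * (e * (e + 1))) := by
    rw [v2]; ring
  have m1' : 2 * e * (Fintype.card F * (Fintype.card F + 1) / 2) = 2 * (Fintype.card F * (e * (e + 1))) := by
    rw [v1, Nat.mul_div_cancel_left _ two_pos]; ring
  have m2' : 2 * (e + 1) * (Fintype.card F * (Fintype.card F - 1) / 2) = 2 * (Fintype.card F * (e * (e + 1))) := by
    rw [v2, Nat.mul_div_cancel_left _ two_pos]; ring
  have hone : ∀ g : Matrix.ProjectiveSpecialLinearGroup (Fin 2) F, g = 1 →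
      (Subgroup.centralizer ({g} : Set (Matrix.ProjectiveSpecialLinearGroup (Fin 2) F))).index = 1 := by
    rintro g rfl
    rw [Subgroup.index_eq_one, eq_top_iff]
    intro a _
    rw [Subgroup.mem_centralizer_singleton_iff, mul_one, one_mul]
  have hcop : ∀ d, 1 < d → d ∣ e → d ∣ e + 1 → False := fun d hd h h' => by
    have := Nat.le_of_dvd one_pos ((Nat.dvd_add_right h).1 h'); omega
  obtain ⟨gq, hgq⟩ := Dickson.exists_centralizer_q p h4 A
  obtain ⟨ge, hge⟩ := Dickson.exists_orderOf_torus A (k := e) (Or.inl rfl)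
  obtain ⟨ge', hge'⟩ := Dickson.exists_orderOf_torus A (k := e + 1) (Or.inr rfl)
  have c1 := (Dickson.centralizer_card_of_order p h4 A (Or.inl rfl) hge (by omega) dvd_rfl
    (hcop _ (by omega))).2 (by omega)
  have c2 := (Dickson.centralizer_card_of_order p h4 A (Or.inr rfl) hge' (by omega) dvd_rfl
    (hcop _ (by omega))).2 (by omega)
  constructor <;> intro h4' <;> ext i <;> simp only [Set.mem_range, Set.mem_insert_iff, Set.mem_singleton_iff]
  · have heven : 2 ∣ e := by omega
    have hinv : orderOf (ge ^ (e / 2)) = 2 := by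
      rw [orderOf_pow' _ (by omega), hge, Nat.gcd_eq_right (Nat.div_dvd_of_dvd heven), Nat.div_div_self heven (by omega)]
    have c3 := (Dickson.centralizer_card_of_order p h4 A (Or.inl rfl) hinv one_lt_two heven
      (hcop _ one_lt_two)).1 rfl
    constructor
    · rintro ⟨g, rfl⟩
      by_cases hg : g = 1
      · exact Or.inl (hone g hg)
      rcases Dickson.centralizer_card_cases p h4 A hg with h | ⟨k, hk, h | ⟨hk2, -, h⟩⟩
      · exact Or.inr (Or.inl (hidx g _ _ h m0))
      · rcases hk with rfl | rfl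
        · exact Or.inr (Or.inr (Or.inr (Or.inr (hidx g _ _ h m1))))
        · exact Or.inr (Or.inr (Or.inr (Or.inl (hidx g _ _ h m2))))
      · rcases hk with rfl | rfl
        · exact Or.inr (Or.inr (Or.inl (hidx g _ _ h m1')))
        · exact (hcop 2 one_lt_two heven hk2).elim
    · rintro (rfl | rfl | rfl | rfl | rfl)
      · exact ⟨1, hone 1 rfl⟩
      · exact ⟨gq, hidx _ _ _ hgq m0⟩
      · exact ⟨_, hidx _ _ _ c3 m1'⟩
      · exact ⟨ge', hidx _ _ _ c2 m2⟩
      · exact ⟨ge, hidx _ _ _ c1 m1⟩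
  · have heven : 2 ∣ e + 1 := by omega
    have hinv : orderOf (ge' ^ ((e + 1) / 2)) = 2 := by
      rw [orderOf_pow' _ (by omega), hge', Nat.gcd_eq_right (Nat.div_dvd_of_dvd heven), Nat.div_div_self heven (by omega)]
    have c3 := (Dickson.centralizer_card_of_order p h4 A (Or.inr rfl) hinv one_lt_two heven
      (hcop _ one_lt_two)).1 rfl
    constructor
    · rintro ⟨g, rfl⟩
      by_cases hg : g = 1
      · exact Or.inl (hone g hg)
      rcases Dickson.centralizer_card_cases p h4 A hg with h | ⟨k, hk, h | ⟨hk2, -, h⟩⟩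
      · exact Or.inr (Or.inl (hidx g _ _ h m0))
      · rcases hk with rfl | rfl
        · exact Or.inr (Or.inr (Or.inr (Or.inl (hidx g _ _ h m1))))
        · exact Or.inr (Or.inr (Or.inr (Or.inr (hidx g _ _ h m2))))
      · rcases hk with rfl | rfl
        · exact (hcop 2 one_lt_two hk2 heven).elim
        · exact Or.inr (Or.inr (Or.inl (hidx g _ _ h m2')))
    · rintro (rfl | rfl | rfl | rfl | rfl)
      · exact ⟨1, hone 1 rfl⟩
      · exact ⟨gq, hidx _ _ _ hgq m0⟩
      · exact ⟨_, hidx _ _ _ c3 m2'⟩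
      · exact ⟨ge, hidx _ _ _ c1 m1⟩
      · exact ⟨ge', hidx _ _ _ c2 m2⟩

end Cfsg.Agent.S2508
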