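import Cfsg.Statements.S2510
import Cfsg.Agent.Lib.Struct.CubeAbsorb

set_option autoImplicit false
open Cfsg
open Cfsg.Agent.Struct

namespace Cfsg.Agent.S2510

theorem orderOf_elementary {r m : ℕ} (a : Multiplicative (Fin m → ZMod r)) : orderOf a ∣ r := by
  refine orderOf_dvd_of_pow_eq_one (Multiplicative.toAdd.injective ?_)
  rw [toAdd_pow, toAdd_one]
  ext i
  simp

theorem range_eq {G : Type*} [Monoid G] {H : Type*} [Monoid H] {r : ℕ} (hr : r.Prime) (ι : H →* G) (hι : Function.Injective ι)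
    (h : ∀ y : G, ∃ x : H, orderOf y = orderOf x ∨ (¬ r ∣ orderOf x ∧ orderOf y = r * orderOf x))
    (h' : ∀ x : H, ¬ r ∣ orderOf x → ∃ x' : H, orderOf x' = r * orderOf x) :
    Set.range (orderOf : G → ℕ) = Set.range (orderOf : H → ℕ) := by
  refine Set.Subset.antisymm ?_ ?_
  · rintro _ ⟨y, rfl⟩
    obtain ⟨x, hx | ⟨hx, hy⟩⟩ := h y
    · exact ⟨x, hx.symm⟩
    · obtain ⟨x', hx'⟩ := h' x hx
      exact ⟨x', hx'.trans hy.symm⟩
  · rintro _ ⟨x, rfl⟩
    exact ⟨ι x, orderOf_injective ι hι x⟩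

theorem lcm_cases {r k a : ℕ} (hr : r.Prime) (ha : a ∣ r) :
    Nat.lcm k a = k ∨ (¬ r ∣ k ∧ Nat.lcm k a = r * k) := by
  rcases (Nat.dvd_prime hr).1 ha with rfl | rfl
  · exact Or.inl (Nat.lcm_one_right k)
  · by_cases h : a ∣ k
    · exact Or.inl (Nat.lcm_eq_left h)
    · exact Or.inr ⟨h, by rw [Nat.Coprime.lcm_eq_mul ((hr.coprime_iff_not_dvd).2 h).symm, mul_comm]⟩

theorem not_dvd_lcm {r a b : ℕ} (hr : r.Prime) (h : ¬ r ∣ Nat.lcm a b) : ¬ r ∣ a ∧ ¬ r ∣ b :=
  ⟨fun h' => h (h'.trans (Nat.dvd_lcm_left a b)), fun h' => h (h'.trans (Nat.dvd_lcm_right a b))⟩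

theorem lcm_mul_left_coprime {r a b : ℕ} (hr : r.Prime) (ha : ¬ r ∣ a) (hb : ¬ r ∣ b) :
    Nat.lcm (r * a) b = r * Nat.lcm a b := by
  have h1 : Nat.lcm (Nat.lcm r a) b = Nat.lcm r (Nat.lcm a b) := Nat.lcm_assoc r a b
  rw [Nat.Coprime.lcm_eq_mul ((hr.coprime_iff_not_dvd).2 ha), Nat.Coprime.lcm_eq_mul ((hr.coprime_iff_not_dvd).2 ?_)] at h1
  · exact h1
  · intro h
    rcases hr.dvd_mul.1 (h.trans (Nat.lcm_dvd_mul a b)) with h2 | h2
    exacts [ha h2, hb h2]

theorem exists_orderOf {G : Type*} [Monoid G] (x : G) {k : ℕ} (hx : orderOf x ≠ 0) (hk : k ∣ orderOf x) :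
    ∃ y : G, orderOf y = k :=
  ⟨x ^ (orderOf x / k), orderOf_pow_orderOf_div hx hk⟩


/-- Let F be a finite field with q = p^a elements, n ≥ 2 (with q ≥ 4 when n = 2), L = PSL(n, F), and let r be a prime dividing q − 1 and not dividing n. Then for every m the direct product L × L × L × (ℤ/r)^m has the same set of element orders as L × L × L; and if n − 1 ≠ p^j for every j ≥ 0 (so never when n = 2, since 1 = p^0), then already L × L × (ℤ/r)^m has the same set of element orders as L × L. -/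
theorem result {F : Type*} [Field F] [Fintype F] (p a n r m : ℕ) (hp : p.Prime) (ha : 1 ≤ a) (hF : Fintype.card F = p ^ a)
    (hn : 2 ≤ n) (hn2 : n = 2 → 4 ≤ Fintype.card F) (hr : r.Prime) (hrq : r ∣ Fintype.card F - 1) (hrn : ¬ r ∣ n) :
    Set.range (orderOf : Matrix.ProjectiveSpecialLinearGroup (Fin n) F × Matrix.ProjectiveSpecialLinearGroup (Fin n) F × Matrix.ProjectiveSpecialLinearGroup (Fin n) F × Multiplicative (Fin m → ZMod r) → ℕ) =
      Set.range (orderOf : Matrix.ProjectiveSpecialLinearGroup (Fin n) F × Matrix.ProjectiveSpecialLinearGroup (Fin n) F × Matrix.ProjectiveSpecialLinearGroup (Fin n) F → ℕ) ∧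
    ((¬ ∃ j : ℕ, n - 1 = p ^ j) →
      Set.range (orderOf : Matrix.ProjectiveSpecialLinearGroup (Fin n) F × Matrix.ProjectiveSpecialLinearGroup (Fin n) F × Multiplicative (Fin m → ZMod r) → ℕ) =
        Set.range (orderOf : Matrix.ProjectiveSpecialLinearGroup (Fin n) F × Matrix.ProjectiveSpecialLinearGroup (Fin n) F → ℕ)) := by
  classical
  haveI : Fact p.Prime := ⟨hp⟩
  haveI : CharP F p := charP_of_card_eq_prime_pow hF
  haveI : Fact r.Prime := ⟨hr⟩
  have hn0 : 0 < n := by omega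
  have hrp : r ≠ p := by
    rintro rfl
    rw [hF] at hrq
    have h1 : r ∣ r ^ a := dvd_pow_self r (by omega)
    have h2 := Nat.dvd_sub h1 hrq
    rw [Nat.sub_sub_self (Nat.one_le_pow _ _ hp.pos)] at h2
    exact hp.not_dvd_one h2
  haveI : Finite (Matrix.SpecialLinearGroup (Fin n) F) := inferInstance
  haveI : Finite (Matrix.ProjectiveSpecialLinearGroup (Fin n) F) := inferInstance
  let π := QuotientGroup.mk' (Subgroup.center (Matrix.SpecialLinearGroup (Fin n) F))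
  obtain ⟨c, hc⟩ := CubeAbsorb.exists_singer (F := F) p hn0
  have comp := CubeAbsorb.component p hr hrq hrn hn0 hc
  constructor
  · refine range_eq hr (MonoidHom.prod (MonoidHom.fst _ _) (MonoidHom.prod
      ((MonoidHom.fst _ _).comp (MonoidHom.snd _ _)) (MonoidHom.prod ((MonoidHom.snd _ _).comp (MonoidHom.snd _ _)) 1)))
      ?_ ?_ ?_
    · rintro ⟨x, y, z⟩ ⟨x', y', z'⟩ h
      simpa using h
    · rintro ⟨x, y, z, w⟩
      refine ⟨(x, y, z), ?_⟩
      simp only [Prod.orderOf]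
      rw [← Nat.lcm_assoc (orderOf y), ← Nat.lcm_assoc (orderOf x)]
      exact lcm_cases hr (orderOf_elementary w)
    · rintro ⟨x, y, z⟩ h
      simp only [Prod.orderOf] at h ⊢
      obtain ⟨hx, hyz⟩ := not_dvd_lcm hr h
      obtain ⟨hy, hz⟩ := not_dvd_lcm hr hyz
      rcases comp x hx with ⟨x', hx'⟩ | ⟨M1, Q1, e1, hM1, hQ1⟩
      · exact ⟨(x', y, z), by simp only [Prod.orderOf]; rw [hx', lcm_mul_left_coprime hr hx hyz]⟩
      rcases comp y hy with ⟨y', hy'⟩ | ⟨M2, Q2, e2, hM2, hQ2⟩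
      · refine ⟨(y', x, z), ?_⟩
        simp only [Prod.orderOf]
        rw [hy', lcm_mul_left_coprime hr hy ?_]
        · congr 1; ac_rfl
        · intro h'
          rcases hr.dvd_mul.1 (h'.trans (Nat.lcm_dvd_mul _ _)) with h2 | h2
          exacts [hx h2, hz h2]
      rcases comp z hz with ⟨z', hz'⟩ | ⟨M3, Q3, e3, hM3, hQ3⟩
      · refine ⟨(z', x, y), ?_⟩
        simp only [Prod.orderOf]
        rw [hz', lcm_mul_left_coprime hr hz ?_]
        · congr 1; ac_rfl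
        · intro h'
          rcases hr.dvd_mul.1 (h'.trans (Nat.lcm_dvd_mul _ _)) with h2 | h2
          exacts [hx h2, hy h2]
      obtain ⟨u, hu⟩ := exists_orderOf (π c) (orderOf_pos (π c)).ne' (Nat.lcm_dvd hM1 (Nat.lcm_dvd hM2 hM3))
      have hJ := CubeAbsorb.orderOf_jordan (F := F) p hn le_rfl
      obtain ⟨v, hv⟩ := exists_orderOf _ (by rw [hJ]; exact pow_ne_zero _ hp.ne_zero)
        (hJ.symm ▸ Nat.lcm_dvd hQ1 (Nat.lcm_dvd hQ2 hQ3))
      obtain ⟨zz, -, hzz⟩ := CubeAbsorb.exists_absorb (F := F) hr hrq hrn (CubeAbsorb.proj_mul_proj (n - 1))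
        (CubeAbsorb.proj_ne_zero (by omega) hn0) (CubeAbsorb.proj_ne_one (by omega))
      refine ⟨(u, v, π zz), ?_⟩
      simp only [Prod.orderOf]
      rw [hu, hv, hzz, ← Nat.Coprime.lcm_eq_mul (m := r) ((hr.coprime_iff_not_dvd).2 h), e1, e2, e3]
      ac_rfl
  · intro hpow
    have hn3 : 3 ≤ n := by
      by_contra h3
      exact hpow ⟨0, by rw [pow_zero]; omega⟩
    refine range_eq hr (MonoidHom.prod (MonoidHom.fst _ _) (MonoidHom.prod (MonoidHom.snd _ _) 1)) ?_ ?_ ?_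
    · rintro ⟨x, y⟩ ⟨x', y'⟩ h
      simpa using h
    · rintro ⟨x, y, w⟩
      refine ⟨(x, y), ?_⟩
      simp only [Prod.orderOf]
      rw [← Nat.lcm_assoc (orderOf x)]
      exact lcm_cases hr (orderOf_elementary w)
    · rintro ⟨x, y⟩ h
      simp only [Prod.orderOf] at h ⊢
      obtain ⟨hx, hy⟩ := not_dvd_lcm hr h
      rcases comp x hx with ⟨x', hx'⟩ | ⟨M1, Q1, e1, hM1, hQ1⟩
      · exact ⟨(x', y), by simp only [Prod.orderOf]; rw [hx', lcm_mul_left_coprime hr hx hy]⟩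
      rcases comp y hy with ⟨y', hy'⟩ | ⟨M2, Q2, e2, hM2, hQ2⟩
      · exact ⟨(y', x), by simp only [Prod.orderOf]; rw [hy', lcm_mul_left_coprime hr hy hx, Nat.lcm_comm]⟩
      obtain ⟨u, hu⟩ := exists_orderOf (π c) (orderOf_pos (π c)).ne' (Nat.lcm_dvd hM1 hM2)
      have hcl : Nat.clog p (n - 1) = Nat.clog p n := by
        refine le_antisymm (Nat.clog_mono_right p (by omega)) (Nat.clog_le_of_le_pow ?_)
        have h1 := Nat.le_pow_clog hp.one_lt (n - 1)
        have h2 : n - 1 ≠ p ^ Nat.clog p (n - 1) := fun h' => hpow ⟨_, h'⟩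
        omega
      have hJ := CubeAbsorb.orderOf_jordan (F := F) (n := n) p (m := n - 1) (by omega) (by omega)
      rw [hcl] at hJ
      set J := CubeAbsorb.jordan F n (n - 1)
      obtain ⟨zz, hcomm, hzz⟩ := CubeAbsorb.exists_absorb (F := F) hr hrq hrn (CubeAbsorb.proj_mul_proj (n - 1))
        (CubeAbsorb.proj_ne_zero (by omega) hn0) (CubeAbsorb.proj_ne_one (by omega))
      have hJz : Commute J zz := (hcomm J ((Commute.one_right _).add_right (CubeAbsorb.proj_comm (n - 1)))).symm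
      set k := p ^ Nat.clog p n / Nat.lcm Q1 Q2
      have hk : orderOf (π (J ^ k)) = Nat.lcm Q1 Q2 := by
        rw [map_pow]
        simp only [k, ← hJ]
        exact orderOf_pow_orderOf_div (by rw [hJ]; exact pow_ne_zero _ hp.ne_zero) (hJ.symm ▸ Nat.lcm_dvd hQ1 hQ2)
      have hrQ : ¬ r ∣ Nat.lcm Q1 Q2 := fun h' => hrp ((Nat.prime_dvd_prime_iff_eq hr hp).1
        (hr.dvd_of_dvd_pow (h'.trans (Nat.lcm_dvd hQ1 hQ2))))
      refine ⟨(u, π (J ^ k * zz)), ?_⟩
      simp only [Prod.orderOf]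
      rw [hu, CubeAbsorb.orderOf_mk_mul (hJz.pow_left k) (by rw [hk, hzz]; exact ((hr.coprime_iff_not_dvd).2 hrQ).symm),
        hk, hzz, ← Nat.Coprime.lcm_eq_mul ((hr.coprime_iff_not_dvd).2 hrQ).symm,
        ← Nat.Coprime.lcm_eq_mul (m := r) ((hr.coprime_iff_not_dvd).2 h), e1, e2]
      ac_rfl

end Cfsg.Agent.S2510
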