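import Cfsg.Statements.S2513
import Cfsg.Agent.Lib.Known.TwoSpectrum

set_option autoImplicit false
open Cfsg

namespace Cfsg.Agent.S2513

/-- Let F be the field with two elements, n ≥ 2, L = PSL(n, F) and k₀ = ⌊(n + 3)/2⌋. Then for every k ≥ k₀ the direct product of k copies of L has the same set of element orders as the direct product of k₀ copies of L. -/
theorem result {F : Type*} [Field F] [Fintype F] (hF : Fintype.card F = 2) (n k : ℕ) (hn : 2 ≤ n) (hk : (n + 3) / 2 ≤ k) :
    Set.range (orderOf : (Fin k → Matrix.ProjectiveSpecialLinearGroup (Fin n) F) → ℕ) = Set.range (orderOf : (Fin ((n + 3) / 2) → Matrix.ProjectiveSpecialLinearGroup (Fin n) F) → ℕ) := by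
  letI : DecidableEq F := Classical.decEq F
  haveI : Fact (Nat.Prime 2) := ⟨Nat.prime_two⟩
  let e : F ≃+* ZMod 2 := (ZMod.ringEquivOfPrime F Nat.prime_two hF).symm
  have hc : Subgroup.center (Matrix.SpecialLinearGroup (Fin n) F) = ⊥ := by
    rw [eq_bot_iff]
    intro g hg
    obtain ⟨r, -, hr⟩ := Matrix.SpecialLinearGroup.mem_center_iff.mp hg
    rw [Subgroup.mem_bot]
    apply Subtype.ext
    rw [← hr, Matrix.SpecialLinearGroup.coe_one]
    have hr1 : r = 1 := by
      have hinj := e.injective
      have h0 : ∀ z : ZMod 2, z = 0 ∨ z = 1 := Known.zmod_two_cases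
      rcases h0 (e r) with h | h
      · exfalso
        have hr0 : r = 0 := hinj (by rw [h, map_zero])
        have h2 := g.2
        rw [← hr, hr0, map_zero] at h2
        haveI : Nonempty (Fin n) := ⟨⟨0, by omega⟩⟩
        rw [Matrix.det_zero] at h2
        exact zero_ne_one h2
      · exact hinj (by rw [h, map_one])
    rw [hr1, map_one]
  exact Known.range_order_pi
    (((QuotientGroup.quotientMulEquivOfEq hc).trans QuotientGroup.quotientBot).trans
      (MulEquiv.ofBijective (Matrix.SpecialLinearGroup.map (n := Fin n) e.toRingHom)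
        ⟨fun a b h => by
          apply Subtype.ext; ext i j
          exact e.injective (congrFun (congrFun (congrArg Subtype.val h) i) j),
        fun b => ⟨Matrix.SpecialLinearGroup.map e.symm.toRingHom b, by
          apply Subtype.ext; ext i j
          exact e.apply_symm_apply _⟩⟩)) hn hk

end Cfsg.Agent.S2513
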