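import Cfsg.Statements.S2514

set_option autoImplicit false
open Cfsg

namespace Cfsg.Agent.S2514

---pre
theorem exists_pow_orderOf {G : Type*} [Group G] [Finite G] (g : G) {n : ℕ} (h : n ∣ orderOf g) :
    ∃ g' : G, orderOf g' = n := by
  obtain ⟨c, hc⟩ := h
  have hn : orderOf g ≠ 0 := (orderOf_pos g).ne'
  refine ⟨g ^ c, ?_⟩
  rw [orderOf_pow_of_dvd (fun h0 => hn (by rw [hc, h0, mul_zero])) ⟨n, by rw [hc, mul_comm]⟩, hc,
    Nat.mul_div_cancel _ (Nat.pos_of_ne_zero (fun h0 => hn (by rw [hc, h0, mul_zero])))]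

theorem exists_maximal {K : Type*} [Group K] [Finite K] (x : K) :
    ∃ n, (n ∈ Set.range (orderOf : K → ℕ) ∧
      ∀ m ∈ Set.range (orderOf : K → ℕ), n ∣ m → m = n) ∧ orderOf x ∣ n := by
  classical
  have : Fintype K := Fintype.ofFinite K
  obtain ⟨y, hy, hymax⟩ := Finset.exists_max_image (Finset.univ.filter fun y : K => orderOf x ∣ orderOf y)
    orderOf ⟨x, by simp⟩
  simp only [Finset.mem_filter, Finset.mem_univ, true_and] at hy hymax
  refine ⟨orderOf y, ⟨⟨y, rfl⟩, ?_⟩, hy⟩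
  rintro _ ⟨z, rfl⟩ hz
  exact le_antisymm (hymax z (hy.trans hz)) (Nat.le_of_dvd (orderOf_pos z) hz)

/-- For a finite group X write μ(X) for the set of element orders of X that are maximal under divisibility. Let G and H be finite groups and k ≥ 1 such that μ(H) ⊆ μ(G) and μ(G) has fewer than k elements outside μ(H). Then the direct product of k copies of G has the same set of element orders as the direct product of k − 1 copies of G with H. -/
theorem result {G H : Type*} [Group G] [Finite G] [Group H] [Finite H] (k : ℕ) (hk : 1 ≤ k)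
    (hsub : {n : ℕ | n ∈ Set.range (orderOf : H → ℕ) ∧ ∀ m ∈ Set.range (orderOf : H → ℕ), n ∣ m → m = n} ⊆ {n : ℕ | n ∈ Set.range (orderOf : G → ℕ) ∧ ∀ m ∈ Set.range (orderOf : G → ℕ), n ∣ m → m = n})
    (hfew : ({n : ℕ | n ∈ Set.range (orderOf : G → ℕ) ∧ ∀ m ∈ Set.range (orderOf : G → ℕ), n ∣ m → m = n} \ {n : ℕ | n ∈ Set.range (orderOf : H → ℕ) ∧ ∀ m ∈ Set.range (orderOf : H → ℕ), n ∣ m → m = n}).ncard < k) :
    Set.range (orderOf : (Fin k → G) → ℕ) = Set.range (orderOf : (Fin (k - 1) → G) × H → ℕ) := by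
  classical
  set μG := {n : ℕ | n ∈ Set.range (orderOf : G → ℕ) ∧ ∀ m ∈ Set.range (orderOf : G → ℕ), n ∣ m → m = n} with hμG
  set μH := {n : ℕ | n ∈ Set.range (orderOf : H → ℕ) ∧ ∀ m ∈ Set.range (orderOf : H → ℕ), n ∣ m → m = n} with hμH
  have hmaxG : ∀ x : G, ∃ n ∈ μG, orderOf x ∣ n := fun x => exists_maximal x
  have hHG : ∀ y : H, ∃ x : G, orderOf x = orderOf y := by
    intro y
    obtain ⟨n, hn, hd⟩ := exists_maximal y
    obtain ⟨⟨x, hx⟩, -⟩ := hsub (show n ∈ μH from hn)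
    exact exists_pow_orderOf x (hx ▸ hd)
  obtain ⟨k, rfl⟩ : ∃ k', k = k' + 1 := ⟨k - 1, by omega⟩
  show Set.range (orderOf : (Fin (k + 1) → G) → ℕ) = Set.range (orderOf : (Fin k → G) × H → ℕ)
  have hpi : ∀ {N : ℕ} (f : Fin N → G) (i : ℕ), f ^ i = 1 ↔ ∀ j, orderOf (f j) ∣ i := by
    intro N f i
    simp [funext_iff, orderOf_dvd_iff_pow_eq_one]
  have hprod : ∀ (a : Fin k → G) (b : H) (i : ℕ), (a, b) ^ i = 1 ↔
      (∀ j, orderOf (a j) ∣ i) ∧ orderOf b ∣ i := by
    intro a b i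
    rw [Prod.pow_def, Prod.mk_eq_one, hpi, orderOf_dvd_iff_pow_eq_one]
  ext o
  constructor
  · rintro ⟨f, rfl⟩
    choose m hm hmd using fun i => hmaxG (f i)
    -- find a coordinate to be transferred to `H`
    suffices ∃ (i : Fin (k + 1)) (f' : Fin (k + 1) → G) (b : H), (∀ N, (∀ j, orderOf (f j) ∣ N) ↔
        (∀ j, j ≠ i → orderOf (f' j) ∣ N) ∧ orderOf b ∣ N) by
      obtain ⟨i, f', b, hf⟩ := this
      refine ⟨(fun j => f' (i.succAbove j), b), ?_⟩
      rw [orderOf_eq_orderOf_iff]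
      intro N
      rw [hprod, hpi, hf]
      refine and_congr ⟨fun h j hj => ?_, fun h j => h _ (Fin.succAbove_ne i j)⟩ Iff.rfl
      obtain ⟨j', rfl⟩ := Fin.exists_succAbove_eq hj
      exact h j'
    by_cases hex : ∃ i, m i ∈ μH
    · obtain ⟨i, hi⟩ := hex
      obtain ⟨⟨y, hy⟩, -⟩ := hi
      obtain ⟨b, hb⟩ := exists_pow_orderOf y (hy ▸ hmd i)
      refine ⟨i, f, b, fun N => ⟨fun h => ⟨fun j _ => h j, hb ▸ h i⟩, fun h j => ?_⟩⟩
      by_cases hj : j = i
      · rw [hj, ← hb]; exact h.2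
      · exact h.1 j hj
    · simp only [not_exists] at hex
      have hfin : (μG \ μH).Finite := (Set.finite_range (orderOf : G → ℕ)).subset fun x hx => hx.1.1
      have hni : ¬ Function.Injective m := by
        intro hinj
        have h1 : (Set.range m).ncard ≤ (μG \ μH).ncard :=
          Set.ncard_le_ncard (by rintro _ ⟨i, rfl⟩; exact ⟨hm i, hex i⟩) hfin
        rw [Set.ncard_range_of_injective hinj, Nat.card_fin] at h1
        omega
      obtain ⟨i, j, hij, hne⟩ := Function.not_injective_iff.1 hni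
      obtain ⟨⟨x, hx⟩, -⟩ := hm j
      obtain ⟨c, hc⟩ := exists_pow_orderOf x (n := Nat.lcm (orderOf (f i)) (orderOf (f j)))
        (hx ▸ Nat.lcm_dvd (hij ▸ hmd i) (hmd j))
      refine ⟨i, Function.update f j c, 1, fun N => ⟨fun h => ⟨fun l hl => ?_, by simp⟩, fun h l => ?_⟩⟩
      · by_cases hlj : l = j
        · rw [hlj, Function.update_self, hc]; exact Nat.lcm_dvd (h i) (h j)
        · rw [Function.update_of_ne hlj]; exact h l
      · have hj := h.1 j (Ne.symm hne)
        rw [Function.update_self, hc] at hj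
        by_cases hlj : l = j
        · rw [hlj]; exact (Nat.dvd_lcm_right _ _).trans hj
        by_cases hli : l = i
        · rw [hli]; exact (Nat.dvd_lcm_left _ _).trans hj
        have := h.1 l hli
        rwa [Function.update_of_ne hlj] at this
  · rintro ⟨⟨a, b⟩, rfl⟩
    obtain ⟨x, hx⟩ := hHG b
    refine ⟨Fin.snoc (α := fun _ => G) a x, ?_⟩
    rw [orderOf_eq_orderOf_iff]
    intro N
    rw [hprod, hpi, Fin.forall_fin_succ']
    simp [hx]

end Cfsg.Agent.S2514
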