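import Cfsg.Statements.S2515
import Mathlib

set_option autoImplicit false
open Cfsg

namespace Cfsg.Agent.S2515

open Matrix Polynomial

variable {F : Type} [Field F] [CharP F 3]

local notation "M2" => Matrix (Fin 2) (Fin 2) F
local notation "SL2" => Matrix.SpecialLinearGroup (Fin 2) F

instance fact_three : Fact (Nat.Prime 3) := ⟨by norm_num⟩

/-- The Frobenius twist of a matrix, transposed. -/
def tw (a : M2) : M2 := (a.map (frobenius F 3))ᵀ

theorem tw_mul (a b : M2) : tw (a * b) = tw b * tw a := by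
  rw [tw, tw, tw, Matrix.map_mul, Matrix.transpose_mul]

theorem tw_one : tw (1 : M2) = 1 := by
  rw [tw, Matrix.map_one _ (map_zero _) (map_one _), Matrix.transpose_one]

/-- The twisted tensor action on matrices. -/
def act (x : ℤˣ × SL2) (v : M2) : M2 := ((x.1 : ℤ) : F) • ((x.2 : M2) * v * tw (x.2 : M2))

theorem act_apply (x : ℤˣ × SL2) (v : M2) (i j : Fin 2) :
    act x v i j = ((x.1 : ℤ) : F) *
      (((x.2 : M2) i 0 * v 0 0 + (x.2 : M2) i 1 * v 1 0) * (x.2 : M2) j 0 ^ 3 +
        ((x.2 : M2) i 0 * v 0 1 + (x.2 : M2) i 1 * v 1 1) * (x.2 : M2) j 1 ^ 3) := by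
  rw [act, Matrix.smul_apply, smul_eq_mul, Matrix.mul_apply, Fin.sum_univ_two, Matrix.mul_apply, Fin.sum_univ_two,
    Matrix.mul_apply, Fin.sum_univ_two]
  simp only [tw, Matrix.transpose_apply, Matrix.map_apply, frobenius_def]

theorem act_one (v : M2) : act (1 : ℤˣ × SL2) v = v := by
  simp [act, tw_one]

theorem act_mul (x y : ℤˣ × SL2) (v : M2) : act (x * y) v = act x (act y v) := by
  simp only [act, Prod.fst_mul, Prod.snd_mul, Matrix.SpecialLinearGroup.coe_mul, tw_mul, Units.val_mul,
    Int.cast_mul, Matrix.mul_smul, Matrix.smul_mul, smul_smul, Matrix.mul_assoc]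

theorem act_add (x : ℤˣ × SL2) (v w : M2) : act x (v + w) = act x v + act x w := by
  simp only [act, Matrix.mul_add, Matrix.add_mul, smul_add]

/-- The action as a homomorphism. -/
def rho : ℤˣ × SL2 →* (M2 ≃ₗ[F] M2) where
  toFun x :=
    { toFun := act x
      invFun := act x⁻¹
      left_inv := fun v => by rw [← act_mul, inv_mul_cancel, act_one]
      right_inv := fun v => by rw [← act_mul, mul_inv_cancel, act_one]
      map_add' := act_add x
      map_smul' := fun c v => by
        simp only [act, Matrix.mul_smul, Matrix.smul_mul, RingHom.id_apply]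
        rw [smul_comm] }
  map_one' := LinearEquiv.ext act_one
  map_mul' x y := LinearEquiv.ext (act_mul x y)

theorem rho_apply (x : ℤˣ × SL2) (v : M2) : rho x v = act x v := rfl

/-- An additive automorphism as an automorphism of the multiplicative copy. -/
def toMult : (M2 ≃ₗ[F] M2) →* MulAut (Multiplicative M2) where
  toFun f := AddEquiv.toMultiplicative f.toAddEquiv
  map_one' := rfl
  map_mul' _ _ := rfl

theorem toMult_apply (f : (M2 ≃ₗ[F] M2)) (v : Multiplicative M2) :
    toMult f v = Multiplicative.ofAdd (f (Multiplicative.toAdd v)) := rfl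

theorem cayley (g : SL2) :
    (g : M2) * (g : M2) - Matrix.trace (g : M2) • (g : M2) + 1 = 0 := by
  have hd : (g : M2) 0 0 * (g : M2) 1 1 - (g : M2) 0 1 * (g : M2) 1 0 = 1 := by
    rw [← Matrix.det_fin_two]; exact g.2
  ext i j
  fin_cases i <;> fin_cases j <;> simp [Matrix.mul_apply, Fin.sum_univ_two, Matrix.trace_fin_two]
  · linear_combination -hd
  · ring
  · ring
  · linear_combination -hd

theorem scalar_of_sq {g : SL2} (h : g ^ 2 = 1) :
    (g : M2) = 1 ∨ (g : M2) = -1 := by
  have h2 : (2 : F) ≠ 0 := Ring.two_ne_zero (by rw [ringChar.eq F 3]; norm_num)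
  have hinv : g⁻¹ = g := inv_eq_of_mul_eq_one_right (by rw [← pow_two]; exact h)
  have he : Matrix.adjugate (g : M2) = (g : M2) := by
    rw [← Matrix.SpecialLinearGroup.coe_inv, hinv]
  rw [Matrix.adjugate_fin_two] at he
  have e00 := congrFun (congrFun he 0) 0
  have e01 := congrFun (congrFun he 0) 1
  have e10 := congrFun (congrFun he 1) 0
  simp at e00 e01 e10
  have hb : (g : M2) 0 1 = 0 := (mul_eq_zero.1 (show (2 : F) * (g : M2) 0 1 = 0 by linear_combination -e01)).resolve_left h2
  have hc : (g : M2) 1 0 = 0 := (mul_eq_zero.1 (show (2 : F) * (g : M2) 1 0 = 0 by linear_combination -e10)).resolve_left h2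
  have hd : (g : M2) 0 0 * (g : M2) 1 1 - (g : M2) 0 1 * (g : M2) 1 0 = 1 := by
    rw [← Matrix.det_fin_two]; exact g.2
  rw [hb, hc, e00] at hd
  simp only [mul_zero, sub_zero] at hd
  rcases mul_self_eq_one_iff.1 hd with h1 | h1
  · left
    ext i j
    fin_cases i <;> fin_cases j <;> simp [hb, hc, h1, e00.symm.trans rfl] <;> simp_all
  · right
    ext i j
    fin_cases i <;> fin_cases j <;> simp [hb, hc, h1] <;> simp_all

theorem rho_scalar (ε : ℤˣ) {g : SL2} (h : (g : M2) = 1 ∨ (g : M2) = -1) (v : M2) :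
    rho (ε, g) v = ((ε : ℤ) : F) • v := by
  show ((ε : ℤ) : F) • ((g : M2) * v * tw (g : M2)) = _
  rcases h with h | h <;> rw [h]
  · rw [tw_one, Matrix.one_mul, Matrix.mul_one]
  · have e : tw (-1 : M2) = -1 := by
      have := tw_one (F := F)
      rw [tw] at this ⊢
      rw [Matrix.map_neg _ (map_neg _), Matrix.transpose_neg, this]
    rw [e, Matrix.neg_mul, Matrix.one_mul, Matrix.neg_mul, Matrix.mul_neg, Matrix.mul_one, neg_neg]

theorem rho_eq_one_of_scalar {g : SL2} (h : (g : M2) = 1 ∨ (g : M2) = -1) :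
    rho ((1 : ℤˣ), g) = 1 :=
  LinearEquiv.ext fun v => by rw [rho_scalar 1 h]; simp

/-- Apart from three traces, the action is fixed point free. -/
theorem fixed_free (x : ℤˣ × SL2) (hq : ¬ IsSquare (-1 : F)) {v : M2} (hv : rho x v = v)
    (h0 : Matrix.trace (x.2 : M2) ≠ 0) (h1 : Matrix.trace (x.2 : M2) ^ 2 ≠ 1) : v = 0 := by
  obtain ⟨ε, g⟩ := x
  set τ := Matrix.trace (g : M2) with hτ
  set e : F := ((ε : ℤ) : F) with he
  have hee : e * e = 1 := by
    rw [he, ← Int.cast_mul, ← Units.val_mul, Int.units_mul_self, Units.val_one, Int.cast_one]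
  set h : M2 := tw (g : M2) with hh
  have hC := cayley g
  have hhC : h * h - τ ^ 3 • h + 1 = 0 := by
    have := congrArg tw hC
    have hz : tw (0 : M2) = 0 := by rw [tw, Matrix.map_zero _ (map_zero _), Matrix.transpose_zero]
    rw [hz] at this
    rw [← this, hh]
    simp only [tw, Matrix.map_add _ (map_add _), Matrix.map_sub _ (map_sub _), Matrix.map_mul,
      Matrix.map_one _ (map_zero _) (map_one _), Matrix.transpose_add, Matrix.transpose_sub,
      Matrix.transpose_mul, Matrix.transpose_one]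
    congr 2
    ext i j
    simp [Matrix.map_apply, frobenius_def, hτ, mul_pow]
  set k : M2 := τ ^ 3 • 1 - h with hk
  have hhk : h * k = 1 := by
    rw [hk, Matrix.mul_sub, Matrix.mul_smul, Matrix.mul_one]
    have := hhC
    rw [sub_add_eq_add_sub, sub_eq_zero] at this
    rw [← this]
    abel
  have hkC : k * k - τ ^ 3 • k + 1 = 0 := by
    rw [hk]
    calc (τ ^ 3 • (1 : M2) - h) * (τ ^ 3 • 1 - h) - τ ^ 3 • (τ ^ 3 • 1 - h) + 1
        = h * h - τ ^ 3 • h + 1 := by
          simp only [Matrix.sub_mul, Matrix.mul_sub, Matrix.smul_mul, Matrix.mul_smul, Matrix.one_mul,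
            Matrix.mul_one, smul_sub]
          abel
      _ = 0 := hhC
  have hg1 : (g : M2) * v = e • (v * k) := by
    replace hv : e • ((g : M2) * v * tw (g : M2)) = v := hv
    have := congrArg (fun w => e • (w * k)) hv
    simp only [Matrix.smul_mul, smul_smul, hee, one_smul] at this
    rw [Matrix.mul_assoc _ (tw (g : M2)) k, ← hh, hhk, Matrix.mul_one] at this
    exact this
  have hg2 : (g : M2) * (g : M2) * v = v * (k * k) := by
    rw [Matrix.mul_assoc, hg1, Matrix.mul_smul, ← Matrix.mul_assoc, hg1, Matrix.smul_mul, smul_smul, hee,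
      one_smul, Matrix.mul_assoc]
  have hA : v * (k * k) - (τ * e) • (v * k) + v = 0 := by
    have := congrArg (fun w : M2 => w * v) hC
    simp only [Matrix.add_mul, Matrix.sub_mul, Matrix.smul_mul, Matrix.one_mul, Matrix.zero_mul, hg2, hg1,
      smul_smul, ← hτ] at this
    exact this
  have hB : v * (k * k) - τ ^ 3 • (v * k) + v = 0 := by
    have := congrArg (fun w : M2 => v * w) hkC
    simp only [Matrix.mul_add, Matrix.mul_sub, Matrix.mul_smul, Matrix.mul_one, Matrix.mul_zero] at this
    exact this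
  have hd : (τ ^ 3 - τ * e) • (v * k) = 0 := by
    rw [sub_smul]
    calc τ ^ 3 • (v * k) - (τ * e) • (v * k)
        = (v * (k * k) - (τ * e) • (v * k) + v) - (v * (k * k) - τ ^ 3 • (v * k) + v) := by abel
      _ = 0 := by rw [hA, hB, sub_self]
  have hne : τ ^ 3 - τ * e ≠ 0 := by
    intro hz
    have h2 : τ ^ 2 = e := by
      have : τ * (τ ^ 2 - e) = 0 := by rw [← hz]; ring
      exact sub_eq_zero.1 ((mul_eq_zero.1 this).resolve_left h0)
    rcases Int.units_eq_one_or ε with hε | hε
    · exact h1 (by rw [h2, he, hε, Units.val_one, Int.cast_one])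
    · exact hq ⟨τ, by rw [← pow_two, h2, he, hε]; simp⟩
  have hvk : v * k = 0 := (smul_eq_zero.1 hd).resolve_left hne
  calc v = v * (k * h) := by rw [mul_eq_one_comm.1 hhk, Matrix.mul_one]
    _ = 0 := by rw [← Matrix.mul_assoc, hvk, Matrix.zero_mul]

theorem trace_one_unipotent {g : SL2} (h1 : Matrix.trace (g : M2) ^ 2 = 1) :
    ((g ^ 3 : SL2) : M2) = 1 ∨ ((g ^ 3 : SL2) : M2) = -1 := by
  have h3 : (3 : F) = 0 := by exact_mod_cast CharP.cast_eq_zero F 3
  haveI : CharP M2 3 := inferInstance
  have hC := cayley g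
  have hN : ∀ c : F, Matrix.trace (g : M2) = 2 * c → c * c = 1 → (g : M2) ^ 3 = (c ^ 3) • (1 : M2) := by
    intro c hc hcc
    have h0 : ((g : M2) - c • 1) ^ 2 = 0 := by
      rw [← hC, pow_two, hc]
      simp only [Matrix.sub_mul, Matrix.mul_sub, Matrix.smul_mul, Matrix.mul_smul, Matrix.one_mul,
        Matrix.mul_one, smul_smul, hcc, smul_sub, one_smul, two_mul, add_smul]
      abel
    have h4 := sub_pow_char_of_commute 3 ((Commute.one_right (g : M2)).smul_right c)
    rw [show ((g : M2) - c • 1) ^ 3 = 0 by rw [pow_succ, h0, Matrix.zero_mul], _root_.smul_pow, one_pow] at h4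
    exact sub_eq_zero.1 h4.symm
  rcases sq_eq_one_iff.1 h1 with h | h
  · right
    rw [Matrix.SpecialLinearGroup.coe_pow, hN (-1) (by rw [h]; linear_combination h3) (by ring),
      show ((-1 : F)) ^ 3 = -1 by ring, neg_smul, one_smul]
  · left
    rw [Matrix.SpecialLinearGroup.coe_pow, hN 1 (by rw [h]; linear_combination -h3) (by ring)]
    simp

theorem semisimple_order [Fintype F] (g : SL2) (h1 : Matrix.trace (g : M2) ^ 2 ≠ 4) :
    g ^ (Fintype.card F - 1) = 1 ∨ g ^ (Fintype.card F + 1) = 1 := by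
  classical
  set τ := Matrix.trace (g : M2) with hτ
  have hq1 : 1 ≤ Fintype.card F := Fintype.card_pos
  let P : F[X] := X ^ 2 - C τ * X + 1
  have hP : aeval (g : M2) P = 0 := by
    simp only [P, map_add, map_sub, map_mul, map_pow, aeval_X, aeval_C, map_one]
    rw [pow_two, ← Algebra.smul_def]
    exact cayley g
  by_cases hroot : ∃ l : F, P.IsRoot l
  · left
    obtain ⟨l, hl⟩ := hroot
    have hl' : l ^ 2 - τ * l + 1 = 0 := by simpa [P] using hl
    have hne : l ≠ τ - l := fun h => h1 (by linear_combination (-4 : F) * hl' + (2 * l - τ) * (2 : F) * h + (-(2 * l - τ)) * h)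
    have hfac : P = (X - C l) * (X - C (τ - l)) := by
      simp only [P, map_sub]
      have e : (C l * C τ - C l * C l : F[X]) = 1 := by
        rw [← map_mul, ← map_mul, ← map_sub, show l * τ - l * l = 1 by linear_combination -hl', map_one]
      linear_combination -e
    have hdvd : P ∣ X ^ Fintype.card F - X := by
      rw [hfac]
      refine IsCoprime.mul_dvd (isCoprime_X_sub_C_of_isUnit_sub (sub_ne_zero.2 hne).isUnit) ?_ ?_ <;>
        rw [dvd_iff_isRoot] <;> simp [FiniteField.pow_card]
    obtain ⟨R, hR⟩ := hdvd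
    have hg := congrArg (aeval (g : M2)) hR
    rw [map_mul, hP, Matrix.zero_mul, map_sub, map_pow, aeval_X, sub_eq_zero] at hg
    refine mul_right_cancel (b := g) ?_
    rw [one_mul, ← pow_succ, Nat.sub_add_cancel hq1]
    exact Subtype.ext ((Matrix.SpecialLinearGroup.coe_pow g _).trans hg)
  · right
    have hdeg : P.natDegree = 2 := by simp only [P]; compute_degree!
    have hirr : Irreducible P := Polynomial.irreducible_of_degree_le_three_of_not_isRoot
      (by rw [hdeg]; decide) fun x hx => hroot ⟨x, hx⟩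
    haveI : Fact (Irreducible P) := ⟨hirr⟩
    set r := AdjoinRoot.root P
    have hr : r ^ 2 - algebraMap F (AdjoinRoot P) τ * r + 1 = 0 := by
      have := AdjoinRoot.eval₂_root P
      simpa [P, AdjoinRoot.algebraMap_eq] using this
    haveI : CharP (AdjoinRoot P) 3 := charP_of_injective_algebraMap (algebraMap F (AdjoinRoot P)).injective 3
    obtain ⟨n, -, hn⟩ := FiniteField.card F 3
    have hr2 : (r ^ Fintype.card F) ^ 2 - algebraMap F (AdjoinRoot P) τ * r ^ Fintype.card F + 1 = 0 := by
      have := congrArg (fun z => z ^ (3 ^ (n : ℕ))) hr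
      simp only [add_pow_char_pow, sub_pow_char_pow, one_pow, mul_pow, zero_pow (show 3 ^ (n : ℕ) ≠ 0 by positivity)] at this
      rw [← hn, ← map_pow, FiniteField.pow_card, pow_right_comm] at this
      exact this
    have hne : r ^ Fintype.card F ≠ r := by
      intro h
      have hmem : r ∈ (algebraMap F (AdjoinRoot P)).range := by
        by_contra hnot
        have hb : (X ^ Fintype.card F - X : (AdjoinRoot P)[X]) ≠ 0 :=
          FiniteField.X_pow_card_sub_X_ne_zero (AdjoinRoot P) Fintype.one_lt_card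
        have hcard := Polynomial.card_roots' (X ^ Fintype.card F - X : (AdjoinRoot P)[X])
        rw [FiniteField.X_pow_card_sub_X_natDegree_eq (AdjoinRoot P) Fintype.one_lt_card] at hcard
        have hsub : insert r (Finset.univ.image (algebraMap F (AdjoinRoot P))) ⊆
            (X ^ Fintype.card F - X : (AdjoinRoot P)[X]).roots.toFinset := by
          intro z hz
          rw [Multiset.mem_toFinset, Polynomial.mem_roots hb, IsRoot, eval_sub, eval_pow, eval_X, sub_eq_zero]
          rcases Finset.mem_insert.1 hz with rfl | hz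
          · exact h
          · obtain ⟨a, -, rfl⟩ := Finset.mem_image.1 hz
            rw [← map_pow, FiniteField.pow_card]
        have := (Finset.card_le_card hsub).trans ((Multiset.toFinset_card_le _).trans hcard)
        rw [Finset.card_insert_of_notMem (fun hz => hnot (by
          obtain ⟨a, -, ha⟩ := Finset.mem_image.1 hz; exact ⟨a, ha⟩)),
          Finset.card_image_of_injective _ (algebraMap F (AdjoinRoot P)).injective, Finset.card_univ] at this
        omega
      obtain ⟨a, ha⟩ := hmem
      refine hroot ⟨a, (algebraMap F (AdjoinRoot P)).injective ?_⟩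
      rw [map_zero, ← hr, ← ha]
      simp [P]
    have h4 : r ^ Fintype.card F = algebraMap F (AdjoinRoot P) τ - r := by
      have : (r ^ Fintype.card F - r) * (r ^ Fintype.card F - (algebraMap F (AdjoinRoot P) τ - r)) = 0 := by
        linear_combination hr2 - hr
      exact sub_eq_zero.1 ((mul_eq_zero.1 this).resolve_left (sub_ne_zero.2 hne))
    have h5 : r ^ (Fintype.card F + 1) = 1 := by
      rw [pow_succ, h4]
      linear_combination -hr
    obtain ⟨R, hR⟩ := (AdjoinRoot.mk_eq_zero (f := P) (g := X ^ (Fintype.card F + 1) - 1)).1 (by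
      rw [map_sub, map_pow, map_one, AdjoinRoot.mk_X, h5, sub_self])
    have hg := congrArg (aeval (g : M2)) hR
    rw [map_mul, hP, Matrix.zero_mul, map_sub, map_pow, aeval_X, map_one, sub_eq_zero] at hg
    exact Subtype.ext ((Matrix.SpecialLinearGroup.coe_pow g _).trans hg)

set_option maxHeartbeats 4000000 in
/-- Let q = 3^α with α ≥ 3 odd. There is a finite group H having a non-trivial normal 3-subgroup and whose element orders maximal under divisibility are exactly 6, 9, q − 1 and (q + 1)/2. -/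
theorem result (α : ℕ) (hα : 3 ≤ α) (hodd : Odd α) :
    ∃ (H : Type) (_ : Group H) (_ : Fintype H), (∃ P : Subgroup H, P.Normal ∧ P ≠ ⊥ ∧ IsPGroup 3 ↥P) ∧
      {n : ℕ | n ∈ Set.range (orderOf : H → ℕ) ∧ ∀ m ∈ Set.range (orderOf : H → ℕ), n ∣ m → m = n} = ({6, 9, 3 ^ α - 1, (3 ^ α + 1) / 2} : Set ℕ) := by
  classical
  let F := GaloisField 3 α
  haveI : Finite F := inferInstance
  letI : Fintype F := Fintype.ofFinite F
  have hcard : Fintype.card F = 3 ^ α := by
    rw [← Nat.card_eq_fintype_card]; exact GaloisField.card 3 α (by omega)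
  have hq4 : 3 ^ α % 4 = 3 := by
    obtain ⟨j, rfl⟩ := hodd
    rw [pow_succ, pow_mul, Nat.mul_mod, Nat.pow_mod]
    norm_num
  have hq27 : 27 ≤ 3 ^ α := by
    calc 27 = 3 ^ 3 := by norm_num
      _ ≤ 3 ^ α := Nat.pow_le_pow_right (by norm_num) hα
  have hq3 : 3 ^ α % 3 = 0 := Nat.mod_eq_zero_of_dvd (dvd_pow_self 3 (by omega))
  have hneg : ¬ IsSquare (-1 : F) := by
    rw [FiniteField.isSquare_neg_one_iff, hcard, hq4]; simp
  let A : Subgroup ((Matrix (Fin 2) (Fin 2) F ≃ₗ[F] Matrix (Fin 2) (Fin 2) F)) := (rho : ℤˣ × Matrix.SpecialLinearGroup (Fin 2) F →* _).range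
  let φ : A →* MulAut (Multiplicative (Matrix (Fin 2) (Fin 2) F)) := (toMult).comp A.subtype
  let H := Multiplicative (Matrix (Fin 2) (Fin 2) F) ⋊[φ] A
  haveI : Finite ((Matrix (Fin 2) (Fin 2) F ≃ₗ[F] Matrix (Fin 2) (Fin 2) F)) := Finite.of_injective (fun f => (f : _ → _)) DFunLike.coe_injective
  haveI : Finite H := Finite.of_equiv _ SemidirectProduct.equivProd.symm
  let mk : ℤˣ × Matrix.SpecialLinearGroup (Fin 2) F → A := fun z => ⟨rho z, z, rfl⟩
  have hmk : ∀ z w, mk (z * w) = mk z * mk w := fun z w => Subtype.ext (map_mul rho z w)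
  have hmkpow : ∀ z n, mk z ^ n = mk (z ^ n) := fun z n => Subtype.ext (map_pow rho z n).symm
  have hV3 : ∀ w : Multiplicative (Matrix (Fin 2) (Fin 2) F), w ^ 3 = 1 := by
    intro w
    apply Multiplicative.toAdd.injective
    rw [toAdd_pow, toAdd_one]
    ext i j
    rw [Matrix.smul_apply, nsmul_eq_mul, CharP.cast_eq_zero, zero_mul, Matrix.zero_apply]
  have hright : ∀ (x : H) (n : ℕ), (x ^ n).right = x.right ^ n := fun x n =>
    map_pow SemidirectProduct.rightHom x n
  have hfix : ∀ (x : H) (n : ℕ), x.right ^ n = 1 →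
      (x.right : (Matrix (Fin 2) (Fin 2) F ≃ₗ[F] Matrix (Fin 2) (Fin 2) F)) (Multiplicative.toAdd (x ^ n).left) = Multiplicative.toAdd (x ^ n).left := by
    intro x n hn
    have hcom : x * x ^ n = x ^ n * x := ((Commute.refl x).pow_right n).eq
    have hl := congrArg SemidirectProduct.left hcom
    rw [SemidirectProduct.mul_left, SemidirectProduct.mul_left, hright, hn, map_one, MulAut.one_apply,
      mul_comm (x ^ n).left, mul_left_cancel_iff] at hl
    exact congrArg Multiplicative.toAdd hl
  have htriv : ∀ (x : H) (n : ℕ), x.right ^ n = 1 → x ^ (n * 3) = 1 := by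
    intro x n hn
    have : x ^ n = SemidirectProduct.inl (x ^ n).left := SemidirectProduct.ext rfl (by rw [hright, hn]; rfl)
    rw [pow_mul, this, ← map_pow, hV3, map_one]
  -- every order divides one of the four
  have hdvd : ∀ x : H, orderOf x ∣ 6 ∨ orderOf x ∣ 9 ∨ orderOf x ∣ 3 ^ α - 1 ∨ orderOf x ∣ (3 ^ α + 1) / 2 := by
    intro x
    obtain ⟨⟨ε, g⟩, hz⟩ := x.right.2
    have hxr : x.right = mk (ε, g) := Subtype.ext hz.symm
    by_cases h1 : Matrix.trace (g : Matrix (Fin 2) (Fin 2) F) ^ 2 = 1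
    · have h3 := trace_one_unipotent h1
      have hr3 : ∀ v, (x.right ^ 3 : A).1 v = ((ε : ℤ) : F) • v := by
        intro v
        rw [hxr, hmkpow]
        show rho ((ε, g) ^ 3) v = _
        rw [Prod.pow_mk, Int.units_pow_eq_pow_mod_two, show 3 % 2 = 1 from rfl, pow_one]
        exact rho_scalar _ h3 v
      rcases Int.units_eq_one_or ε with hε | hε
      · refine Or.inr (Or.inl (orderOf_dvd_of_pow_eq_one (htriv x 3 ?_)))
        exact Subtype.ext (LinearEquiv.ext fun v => by rw [hr3, hε]; simp)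
      · refine Or.inl (orderOf_dvd_of_pow_eq_one ?_)
        have h6 : x.right ^ 6 = 1 := Subtype.ext (LinearEquiv.ext fun v => by
          rw [show (6 : ℕ) = 3 + 3 from rfl, pow_add]
          show (x.right ^ 3 : A).1 ((x.right ^ 3 : A).1 v) = v
          rw [hr3, hr3, hε, smul_smul]; rw [Units.val_neg, Units.val_one, Int.cast_neg, Int.cast_one]; exact (congrArg (· • v) (neg_mul_neg (1 : F) 1)).trans (by rw [one_mul]; exact one_smul F v))
        have hw := hfix x 6 h6
        set w := Multiplicative.toAdd (x ^ 6).left with hwdef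
        have hw3 : (x.right ^ 3 : A).1 w = w := by
          show (x.right : (Matrix (Fin 2) (Fin 2) F ≃ₗ[F] Matrix (Fin 2) (Fin 2) F)) ((x.right : (Matrix (Fin 2) (Fin 2) F ≃ₗ[F] Matrix (Fin 2) (Fin 2) F))
            ((x.right : (Matrix (Fin 2) (Fin 2) F ≃ₗ[F] Matrix (Fin 2) (Fin 2) F)) w)) = w
          rw [hw, hw, hw]
        rw [hr3, hε] at hw3
        have hw0 : w = 0 := by
          ext i j
          have := congrFun (congrFun hw3 i) j
          simp at this
          have h2 : (2 : F) ≠ 0 := Ring.two_ne_zero (by rw [ringChar.eq F 3]; norm_num)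
          exact (mul_eq_zero.1 (show (2 : F) * w i j = 0 by linear_combination -this)).resolve_left h2
        exact SemidirectProduct.ext (Multiplicative.toAdd.injective hw0) (by rw [hright, h6]; rfl)
    by_cases h0 : Matrix.trace (g : Matrix (Fin 2) (Fin 2) F) = 0
    · refine Or.inl (orderOf_dvd_of_pow_eq_one (htriv x 2 ?_))
      rw [hxr, hmkpow, Prod.pow_mk, Int.units_sq]
      refine Subtype.ext (rho_eq_one_of_scalar (Or.inr ?_))
      have := cayley g
      rw [h0, zero_smul, sub_zero, ← pow_two] at this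
      rw [Matrix.SpecialLinearGroup.coe_pow]
      exact eq_neg_of_add_eq_zero_left this
    have hfpf : ∀ n, x.right ^ n = 1 → x ^ n = 1 := by
      intro n hn
      refine SemidirectProduct.ext (Multiplicative.toAdd.injective ?_) (by rw [hright, hn]; rfl)
      refine fixed_free (ε, g) hneg ?_ h0 h1
      have := hfix x n hn
      rwa [hxr] at this
    have h4 : Matrix.trace (g : Matrix (Fin 2) (Fin 2) F) ^ 2 ≠ 4 := fun h => h1 (by
      have h3 : (3 : F) = 0 := by exact_mod_cast CharP.cast_eq_zero F 3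
      linear_combination h + h3)
    rcases semisimple_order g h4 with hg | hg <;> rw [hcard] at hg
    · refine Or.inr (Or.inr (Or.inl (orderOf_dvd_of_pow_eq_one (hfpf _ ?_))))
      rw [hxr, hmkpow, Prod.pow_mk, hg, Int.units_pow_eq_pow_mod_two, show (3 ^ α - 1) % 2 = 0 by omega, pow_zero]
      exact Subtype.ext (map_one rho)
    · refine Or.inr (Or.inr (Or.inr (orderOf_dvd_of_pow_eq_one (hfpf _ ?_))))
      rw [hxr, hmkpow, Prod.pow_mk, Int.units_pow_eq_pow_mod_two, show (3 ^ α + 1) / 2 % 2 = 0 by omega, pow_zero]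
      refine Subtype.ext (rho_eq_one_of_scalar (scalar_of_sq ?_))
      rw [← pow_mul, show (3 ^ α + 1) / 2 * 2 = 3 ^ α + 1 by omega, hg]
  -- the four orders occur
  have h2F : (2 : F) ≠ 0 := Ring.two_ne_zero (by rw [ringChar.eq F 3]; norm_num)
  have hmem9 : ∃ x : H, orderOf x = 9 := by
    let u : Matrix.SpecialLinearGroup (Fin 2) F := ⟨!![1, 1; 0, 1], by simp [Matrix.det_fin_two]⟩
    let v : Matrix (Fin 2) (Fin 2) F := !![0, 0; 0, 1]
    refine ⟨⟨Multiplicative.ofAdd v, mk (1, u)⟩, ?_⟩
    set x : H := ⟨Multiplicative.ofAdd v, mk (1, u)⟩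
    have h3 : ((1 : ℤˣ), u) ^ 3 = 1 := by
      refine Prod.ext (one_pow 3) (Subtype.ext ?_)
      show ((u ^ 3 : Matrix.SpecialLinearGroup (Fin 2) F) : Matrix (Fin 2) (Fin 2) F) = 1
      have h30 : (3 : F) = 0 := by exact_mod_cast CharP.cast_eq_zero F 3
      rw [Matrix.SpecialLinearGroup.coe_pow, pow_succ, pow_two]
      ext i j
      fin_cases i <;> fin_cases j <;> simp [u, Matrix.mul_apply, Fin.sum_univ_two]
      linear_combination h30
    have hx9 : x ^ 9 = 1 := htriv x 3 (by rw [show x.right = mk (1, u) from rfl, hmkpow, h3]; exact Subtype.ext (map_one rho))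
    refine orderOf_eq_prime_pow (p := 3) (n := 1) ?_ (by simpa using hx9)
    intro h
    have hl := congrArg (fun y : H => Multiplicative.toAdd y.left) h
    rw [pow_one, pow_succ, pow_two] at hl
    rw [SemidirectProduct.mul_left, SemidirectProduct.mul_left, SemidirectProduct.mul_right] at hl
    replace hl : v + act ((1 : ℤˣ), u) v + rho ((1, u)) (rho (1, u) v) = 0 := hl
    rw [rho_apply, rho_apply] at hl
    have := congrFun (congrFun hl 0) 0
    simp [act_apply, u, v] at this
    have h30 : (3 : F) = 0 := by exact_mod_cast CharP.cast_eq_zero F 3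
    exact h2F (by linear_combination this - h30)
  have hmem6 : ∃ x : H, orderOf x = 6 := by
    let s : Matrix.SpecialLinearGroup (Fin 2) F := ⟨!![0, 1; -1, 0], by simp [Matrix.det_fin_two]⟩
    refine ⟨⟨Multiplicative.ofAdd 1, mk (1, s)⟩, ?_⟩
    set x : H := ⟨Multiplicative.ofAdd 1, mk (1, s)⟩
    have hs2 : (((1 : ℤˣ), s) ^ 2).2.1 = -1 := by
      show ((s ^ 2 : Matrix.SpecialLinearGroup (Fin 2) F) : Matrix (Fin 2) (Fin 2) F) = -1
      rw [Matrix.SpecialLinearGroup.coe_pow, pow_two]
      ext i j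
      fin_cases i <;> fin_cases j <;> simp [s, Matrix.mul_apply, Fin.sum_univ_two]
    have hr2 : x.right ^ 2 = 1 := by
      rw [show x.right = mk (1, s) from rfl, hmkpow, Prod.pow_mk, one_pow]
      exact Subtype.ext (rho_eq_one_of_scalar (Or.inr hs2))
    have h6 : x ^ 6 = 1 := htriv x 2 hr2
    have hr1 : x.right ≠ 1 := by
      intro h
      have := DFunLike.congr_fun (congrArg Subtype.val h) (!![1, 0; 0, 0] : Matrix (Fin 2) (Fin 2) F)
      replace this : act ((1 : ℤˣ), s) !![1, 0; 0, 0] = !![1, 0; 0, 0] := this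
      have := congrFun (congrFun this 0) 0
      simp [act_apply, s] at this
    have h2 : x ^ 2 ≠ 1 := by
      intro h
      have hl := congrArg (fun y : H => Multiplicative.toAdd y.left) h
      rw [pow_two] at hl
      replace hl : 1 + act ((1 : ℤˣ), s) 1 = 0 := hl
      have := congrFun (congrFun hl 0) 0
      simp [act_apply, s] at this
      exact h2F (by linear_combination this)
    have h3 : x ^ 3 ≠ 1 := fun h => hr1 (by
      have := congrArg SemidirectProduct.right h
      rwa [hright, pow_succ, hr2, one_mul] at this)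
    have hd := orderOf_dvd_of_pow_eq_one h6
    have hle := Nat.le_of_dvd (by norm_num) hd
    have hpos := orderOf_pos x
    have hp := pow_orderOf_eq_one x
    interval_cases h : orderOf x <;> first | rfl | omega | skip
    · rw [pow_one] at hp; exact absurd (by rw [hp, one_pow]) h2
    · exact absurd hp h2
    · exact absurd hp h3
  have hmemsplit : ∃ x : H, orderOf x = 3 ^ α - 1 := by
    obtain ⟨a, ha⟩ := IsCyclic.exists_generator (α := Fˣ)
    have hao : orderOf a = 3 ^ α - 1 := by
      rw [orderOf_eq_card_of_forall_mem_zpowers ha, Nat.card_units, Nat.card_eq_fintype_card, hcard]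
    let g : Matrix.SpecialLinearGroup (Fin 2) F := ⟨!![(a : F), 0; 0, ((a⁻¹ : Fˣ) : F)], by simp [Matrix.det_fin_two]⟩
    refine ⟨⟨1, mk (-1, g)⟩, ?_⟩
    set x : H := ⟨1, mk (-1, g)⟩
    have hx : x = SemidirectProduct.inr (mk (-1, g)) := rfl
    rw [hx, orderOf_injective _ SemidirectProduct.inr_injective]
    have hgk : ∀ k : ℕ, ((g ^ k : Matrix.SpecialLinearGroup (Fin 2) F) : Matrix (Fin 2) (Fin 2) F) =
        !![((a : F)) ^ k, 0; 0, (((a⁻¹ : Fˣ) : F)) ^ k] := by
      intro k
      induction k with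
      | zero => ext i j; fin_cases i <;> fin_cases j <;> simp
      | succ k ih =>
        rw [pow_succ, Matrix.SpecialLinearGroup.coe_mul, ih]
        ext i j
        fin_cases i <;> fin_cases j <;> simp [g, Matrix.mul_apply, Fin.sum_univ_two, pow_succ]
    refine Nat.dvd_antisymm (orderOf_dvd_of_pow_eq_one ?_) ?_
    · rw [hmkpow, Prod.pow_mk, Int.units_pow_eq_pow_mod_two, show (3 ^ α - 1) % 2 = 0 by omega, pow_zero]
      refine Subtype.ext (rho_eq_one_of_scalar (Or.inl ?_))
      rw [hgk, ← Units.val_pow_eq_pow_val, ← Units.val_pow_eq_pow_val, inv_pow, ← hao, pow_orderOf_eq_one]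
      ext i j
      fin_cases i <;> fin_cases j <;> simp
    · set k := orderOf (mk (-1, g)) with hk
      have hpk := congrArg Subtype.val (pow_orderOf_eq_one (mk (-1, g)))
      rw [← hk, hmkpow] at hpk
      have hE : ∀ i j, act ((-1 : ℤˣ) ^ k, g ^ k) (Matrix.single i j (1 : F)) i j = 1 := fun i j => by
        have := congrFun (congrFun (DFunLike.congr_fun hpk (Matrix.single i j (1 : F))) i) j
        exact this.trans (Matrix.single_apply_same i j 1)
      have e00 := hE 0 0
      have e01 := hE 0 1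
      simp [act_apply, hgk, Matrix.single_apply] at e00 e01
      set e : F := ((((-1 : ℤˣ) ^ k : ℤˣ) : ℤ) : F)
      have he : e = (-1) ^ k := by simp [e]
      have hA : (a : F) ^ k ≠ 0 := pow_ne_zero _ a.ne_zero
      have e00' : (-1 : F) ^ k * ((a : F) ^ k) ^ 4 = 1 := by linear_combination e00
      have e01' : (-1 : F) ^ k = ((a : F) ^ k) ^ 2 := by
        have hB : (a : F) ^ k * (((a : F) ^ k) ^ 3)⁻¹ * ((a : F) ^ k) ^ 2 = 1 := by
          rw [mul_right_comm, ← pow_succ', show 2 + 1 = 3 from rfl]; exact mul_inv_cancel₀ (G₀ := F) (pow_ne_zero 3 hA)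
        linear_combination ((a : F) ^ k) ^ 2 * e01 - (-1 : F) ^ k * hB
      have h6 : ((a : F) ^ k) ^ 6 = 1 := by
        rw [e01'] at e00'
        linear_combination e00'
      have h6' : 3 ^ α - 1 ∣ k * 6 := by
        rw [← hao]
        exact orderOf_dvd_of_pow_eq_one (Units.ext (by rw [Units.val_pow_eq_pow_val, pow_mul, h6, Units.val_one]))
      have hc3 : Nat.Coprime (3 ^ α - 1) 3 := Nat.coprime_comm.1 ((Nat.Prime.coprime_iff_not_dvd (by norm_num)).2 (by omega))
      have h2k : 3 ^ α - 1 ∣ k * 2 := hc3.dvd_of_dvd_mul_right (by rwa [mul_assoc])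
      have heven : k % 2 = 0 := by
        by_contra hodd'
        have hk1 : (-1 : F) ^ k = -1 := Odd.neg_one_pow (Nat.odd_iff.2 (by omega))
        rw [hk1] at e01'
        exact hneg ⟨(a : F) ^ k, by rw [← pow_two]; exact e01'⟩
      have hc2 : Nat.Coprime ((3 ^ α - 1) / 2) 2 := Nat.coprime_comm.1 ((Nat.Prime.coprime_iff_not_dvd (by norm_num)).2 (by omega))
      have hm : (3 ^ α - 1) / 2 ∣ k := Nat.dvd_of_mul_dvd_mul_right (by norm_num)
        (show (3 ^ α - 1) / 2 * 2 ∣ k * 2 by rwa [Nat.div_mul_cancel (by omega)])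
      have := hc2.mul_dvd_of_dvd_of_dvd hm (Nat.dvd_of_mod_eq_zero heven)
      rwa [Nat.div_mul_cancel (by omega)] at this
  have hmemnonsplit : ∃ x : H, orderOf x = (3 ^ α + 1) / 2 := by
    let E := FiniteField.Extension F 3 2
    haveI : Finite E := inferInstance
    have hEc : Nat.card E = (3 ^ α) ^ 2 := by
      rw [Module.natCard_eq_pow_finrank (K := F), FiniteField.finrank_extension, Nat.card_eq_fintype_card, hcard]
    obtain ⟨z, hz⟩ := IsCyclic.exists_generator (α := Eˣ)
    have hzo : orderOf z = (3 ^ α + 1) * (3 ^ α - 1) := by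
      rw [orderOf_eq_card_of_forall_mem_zpowers hz, Nat.card_units, hEc, ← Nat.sq_sub_sq, one_pow]
    let y := z ^ (3 ^ α - 1)
    have hyo : orderOf y = 3 ^ α + 1 := by
      rw [orderOf_pow' _ (by omega), hzo, Nat.gcd_eq_right (dvd_mul_left _ _), Nat.mul_div_cancel _ (by omega)]
    let b : Module.Basis (Fin 2) F E := Module.finBasisOfFinrankEq F E (FiniteField.finrank_extension F 3 2)
    let ι : E →ₐ[F] Matrix (Fin 2) (Fin 2) F := Algebra.leftMulMatrix b
    have hinj : Function.Injective ι := Algebra.leftMulMatrix_injective b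
    have hdet : (ι (y : E)).det = 1 := by
      refine (algebraMap F E).injective ?_
      rw [← Algebra.norm_eq_matrix_det, FiniteField.algebraMap_norm_eq_pow, map_one, Nat.card_eq_fintype_card (α := F), hcard, hEc,
        show ((3 ^ α) ^ 2 - 1) / (3 ^ α - 1) = 3 ^ α + 1 by
          rw [← one_pow 2, Nat.sq_sub_sq, one_pow]; exact Nat.mul_div_cancel _ (by omega),
        ← Units.val_pow_eq_pow_val, ← hyo, pow_orderOf_eq_one, Units.val_one]
    let g : Matrix.SpecialLinearGroup (Fin 2) F := ⟨ι (y : E), hdet⟩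
    have hgo : orderOf g = 3 ^ α + 1 := by
      rw [← hyo]
      let f : Matrix.SpecialLinearGroup (Fin 2) F →* Matrix (Fin 2) (Fin 2) F :=
        { toFun := fun x => x.1, map_one' := rfl, map_mul' := fun _ _ => rfl }
      rw [← orderOf_injective f (fun u v h => Subtype.ext h) g]
      show orderOf (ι.toMonoidHom (y : E)) = _
      rw [orderOf_injective ι.toMonoidHom hinj, orderOf_units]
    refine ⟨SemidirectProduct.inr (mk (1, g)), ?_⟩
    rw [orderOf_injective _ SemidirectProduct.inr_injective]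
    refine Nat.dvd_antisymm (orderOf_dvd_of_pow_eq_one ?_) ?_
    · rw [hmkpow, Prod.pow_mk, one_pow]
      refine Subtype.ext (rho_eq_one_of_scalar (scalar_of_sq ?_))
      rw [← pow_mul, show (3 ^ α + 1) / 2 * 2 = orderOf g by rw [hgo]; omega, pow_orderOf_eq_one]
    · set k := orderOf (mk (1, g))
      have hpk := congrArg Subtype.val (pow_orderOf_eq_one (mk (1, g)))
      rw [hmkpow, Prod.pow_mk, one_pow] at hpk
      set P := ((g ^ k : Matrix.SpecialLinearGroup (Fin 2) F) : Matrix (Fin 2) (Fin 2) F) with hP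
      have hE : ∀ i j i' j', P i i' * (P j j') ^ 3 = if i = i' ∧ j = j' then 1 else 0 := by
        intro i j i' j'
        have := congrFun (congrFun (DFunLike.congr_fun hpk (Matrix.single i' j' (1 : F))) i) j
        replace this : act ((1 : ℤˣ), g ^ k) (Matrix.single i' j' (1 : F)) i j = Matrix.single i' j' (1 : F) i j := this
        simp only [act, ← hP, Units.val_one, Int.cast_one, one_smul, tw] at this
        rw [Matrix.mul_apply, Finset.sum_eq_single j'] at this
        · rw [Matrix.mul_single_apply_same, mul_one, Matrix.transpose_apply, Matrix.map_apply, frobenius_def] at this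
          rw [this, Matrix.single_apply]
          simp only [eq_comm]
        · intro l _ hl
          rw [Matrix.mul_single_apply_of_ne _ _ _ _ _ hl, zero_mul]
        · simp
      have hsc : g ^ k * g ^ k = 1 := by
        have h01 : P 0 1 = 0 := by
          have h := hE 0 0 1 1
          simp at h
          tauto
        have h10 : P 1 0 = 0 := by
          have h := hE 1 1 0 0
          simp at h
          tauto
        have h00 := hE 0 0 0 0
        have h10' := hE 1 0 1 0
        have h01' := hE 0 1 0 1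
        have h11 := hE 1 1 1 1
        simp at h00 h10' h01' h11
        have hd : P 0 0 * P 1 1 - P 0 1 * P 1 0 = 1 := by rw [← Matrix.det_fin_two]; exact (g ^ k).2
        rw [h01, h10] at hd
        simp at hd
        have hab : P 0 0 = P 1 1 := by
          have hA : P 0 0 ≠ 0 := left_ne_zero_of_mul_eq_one hd
          have : P 0 0 ^ 3 * (P 0 0 - P 1 1) = 0 := by linear_combination h00 - h10'
          exact sub_eq_zero.1 ((mul_eq_zero.1 this).resolve_left (pow_ne_zero _ hA))
        refine Subtype.ext ?_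
        show P * P = 1
        ext i j
        fin_cases i <;> fin_cases j <;> simp [Matrix.mul_apply, Fin.sum_univ_two, h01, h10]
        · linear_combination hd + P 0 0 * hab
        · linear_combination hd - P 1 1 * hab
      have := orderOf_dvd_of_pow_eq_one (show g ^ (k * 2) = 1 by rw [pow_mul, pow_two]; exact hsc)
      rw [hgo, show 3 ^ α + 1 = (3 ^ α + 1) / 2 * 2 by omega] at this
      exact Nat.dvd_of_mul_dvd_mul_right (by norm_num) this
  refine ⟨H, inferInstance, Fintype.ofFinite _, ?_, ?_⟩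
  · refine ⟨(SemidirectProduct.inl : Multiplicative (Matrix (Fin 2) (Fin 2) F) →* H).range, ?_, ?_, ?_⟩
    · rw [SemidirectProduct.range_inl_eq_ker_rightHom]; infer_instance
    · intro h
      have h1 : (SemidirectProduct.inl (Multiplicative.ofAdd 1) : H) ∈ (⊥ : Subgroup H) := h ▸ ⟨_, rfl⟩
      rw [Subgroup.mem_bot, ← map_one SemidirectProduct.inl] at h1
      have := congrArg Multiplicative.toAdd (SemidirectProduct.inl_injective h1)
      exact one_ne_zero this
    · rintro ⟨y, v, rfl⟩
      exact ⟨1, Subtype.ext (by rw [SubmonoidClass.coe_pow, pow_one, ← map_pow, hV3, map_one]; rfl)⟩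
  have hmax : ∀ a ∈ ({6, 9, 3 ^ α - 1, (3 ^ α + 1) / 2} : Set ℕ), ∀ b ∈ ({6, 9, 3 ^ α - 1, (3 ^ α + 1) / 2} : Set ℕ), a ∣ b → b = a := by
    have h3a : ¬ 3 ∣ 3 ^ α - 1 := by omega
    have h3b : ¬ 3 ∣ (3 ^ α + 1) / 2 := by omega
    have hpq : ¬ 3 ^ α - 1 ∣ (3 ^ α + 1) / 2 := fun h => by
      have := Nat.le_of_dvd (by omega) h; omega
    have hqp : ¬ (3 ^ α + 1) / 2 ∣ 3 ^ α - 1 := fun h => by
      have : (3 ^ α + 1) / 2 ∣ 2 := by
        have h2 : (3 ^ α + 1) / 2 ∣ (3 ^ α + 1) / 2 * 2 := dvd_mul_right _ _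
        rw [show (3 ^ α + 1) / 2 * 2 = 3 ^ α - 1 + 2 by omega] at h2
        exact (Nat.dvd_add_right h).1 h2
      have := Nat.le_of_dvd (by norm_num) this; omega
    simp only [Set.mem_insert_iff, Set.mem_singleton_iff]
    rintro a (rfl | rfl | rfl | rfl) b (rfl | rfl | rfl | rfl) hab <;> first
      | rfl
      | exact absurd hab hpq
      | exact absurd hab hqp
      | (exfalso; exact h3a (dvd_trans (by norm_num) hab))
      | (exfalso; exact h3b (dvd_trans (by norm_num) hab))
      | (exfalso; norm_num at hab; done)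
      | (exfalso; have := Nat.le_of_dvd (by norm_num) hab; omega)
  have hin : ∀ a ∈ ({6, 9, 3 ^ α - 1, (3 ^ α + 1) / 2} : Set ℕ), a ∈ Set.range (orderOf : H → ℕ) := by
    simp only [Set.mem_insert_iff, Set.mem_singleton_iff]
    rintro a (rfl | rfl | rfl | rfl)
    exacts [hmem6, hmem9, hmemsplit, hmemnonsplit]
  have hup : ∀ m ∈ Set.range (orderOf : H → ℕ), ∃ a ∈ ({6, 9, 3 ^ α - 1, (3 ^ α + 1) / 2} : Set ℕ), m ∣ a := by
    rintro _ ⟨x, rfl⟩
    rcases hdvd x with h | h | h | h
    exacts [⟨_, by simp, h⟩, ⟨_, by simp, h⟩, ⟨_, by simp, h⟩, ⟨_, by simp, h⟩]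
  ext n
  refine ⟨fun ⟨hn, hn'⟩ => ?_, fun hn => ⟨hin n hn, fun m hm hnm => ?_⟩⟩
  · obtain ⟨a, ha, hna⟩ := hup n hn
    rwa [← hn' a (hin a ha) hna]
  · obtain ⟨a, ha, hma⟩ := hup m hm
    exact Nat.dvd_antisymm (hmax n hn a ha (hnm.trans hma) ▸ hma) hnm

end Cfsg.Agent.S2515
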