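import Cfsg.Statements.S2516

set_option autoImplicit false
open Cfsg

namespace Cfsg.Agent.S2516

/-- Let F be a field of characteristic p > 0, V a non-zero finite-dimensional F-vector space, G a finite group and ρ a representation of G on V; form the semidirect product V ⋊ G. For g ∈ G of order k, the coset Vg contains an element of order pk if and only if the minimal polynomial of ρ(g) does not divide 1 + X + ⋯ + X^(k−1). -/
theorem result {F : Type*} [Field F] (p : ℕ) [Fact p.Prime] [CharP F p] {V : Type*} [AddCommGroup V] [Module F V] [FiniteDimensional F V] [Nontrivial V]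
    {G : Type*} [Group G] [Finite G] (ρ : Representation F G V) (g : G) :
    (∃ x : Multiplicative V ⋊[(MulAutMultiplicative V).symm.toMonoidHom.comp
        ((DistribMulAction.toAddAut ((V →ₗ[F] V)ˣ) V).comp ρ.asGroupHom)] G,
        x.right = g ∧ orderOf x = p * orderOf g) ↔
      ¬ (minpoly F (ρ g) ∣ ∑ i ∈ Finset.range (orderOf g), (Polynomial.X : Polynomial F) ^ i) := by
  set φ := (MulAutMultiplicative V).symm.toMonoidHom.comp
    ((DistribMulAction.toAddAut ((V →ₗ[F] V)ˣ) V).comp ρ.asGroupHom) with hφ
  have hφa : ∀ (h : G) (v : V), φ h (Multiplicative.ofAdd v) = Multiplicative.ofAdd (ρ h v) :=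
    fun h v => rfl
  have hleft : ∀ (x : Multiplicative V ⋊[φ] G) (m : ℕ), Multiplicative.toAdd (x ^ m).left =
      ∑ i ∈ Finset.range m, (ρ x.right ^ i) (Multiplicative.toAdd x.left) := by
    intro x m
    induction m with
    | zero => simp
    | succ m ih =>
      rw [pow_succ, SemidirectProduct.mul_left, Finset.sum_range_succ, ← ih]
      have hr : (x ^ m).right = x.right ^ m := map_pow SemidirectProduct.rightHom x m
      rw [hr, toAdd_mul, ← map_pow]
      congr 1
  set k := orderOf g with hk
  have hkpos : 0 < k := orderOf_pos g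
  have hae : ∀ w : V, Polynomial.aeval (ρ g) (∑ i ∈ Finset.range k, (Polynomial.X : Polynomial F) ^ i) w =
      ∑ i ∈ Finset.range k, (ρ g ^ i) w := by
    intro w; simp [LinearMap.sum_apply]
  have hp := (Fact.out : p.Prime)
  have key : ∀ x : Multiplicative V ⋊[φ] G, x.right = g → (orderOf x = p * k ↔ x ^ k ≠ 1) := by
    intro x hx
    have hr : (x ^ k).right = 1 := by
      rw [show (x ^ k).right = x.right ^ k from map_pow SemidirectProduct.rightHom x k, hx,
        pow_orderOf_eq_one]
    have hp1 : (x ^ k) ^ p = 1 := by
      ext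
      · have := hleft (x ^ k) p
        rw [hr, map_one] at this
        rw [SemidirectProduct.one_left]
        apply Multiplicative.toAdd.injective
        rw [this, toAdd_one]
        simp [← Nat.cast_smul_eq_nsmul F, CharP.cast_eq_zero]
      · rw [show ((x ^ k) ^ p).right = (x ^ k).right ^ p from map_pow SemidirectProduct.rightHom _ p,
          hr, one_pow, SemidirectProduct.one_right]
    have hdvd : k ∣ orderOf x := by
      have := orderOf_map_dvd (SemidirectProduct.rightHom : Multiplicative V ⋊[φ] G →* G) x
      simpa [hx] using this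
    constructor
    · intro ho h1
      have := orderOf_dvd_of_pow_eq_one h1
      rw [ho] at this
      have h2 := Nat.le_of_dvd hkpos this
      have h3 := hp.two_le
      have : 2 * k ≤ p * k := Nat.mul_le_mul_right k h3
      omega
    · intro h1
      have h2 : orderOf (x ^ k) = p := orderOf_eq_prime hp1 h1
      obtain ⟨c, hc⟩ := hdvd
      rw [orderOf_pow_of_dvd hkpos.ne' ⟨c, hc⟩, hc, Nat.mul_div_cancel_left _ hkpos] at h2
      rw [hc, h2, mul_comm]
  constructor
  · rintro ⟨x, hx, ho⟩ hdvd
    apply (key x hx).1 ho
    have h0 : Polynomial.aeval (ρ g) (∑ i ∈ Finset.range k, (Polynomial.X : Polynomial F) ^ i) = 0 :=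
      minpoly.dvd_iff.1 hdvd
    ext
    · rw [SemidirectProduct.one_left]
      apply Multiplicative.toAdd.injective
      rw [hleft, hx, ← hae, h0, toAdd_one]
      rfl
    · rw [show (x ^ k).right = x.right ^ k from map_pow SemidirectProduct.rightHom x k, hx,
        pow_orderOf_eq_one, SemidirectProduct.one_right]
  · intro hnd
    obtain ⟨w, hw⟩ : ∃ w : V,
        Polynomial.aeval (ρ g) (∑ i ∈ Finset.range k, (Polynomial.X : Polynomial F) ^ i) w ≠ 0 := by
      by_contra h
      simp only [not_exists, not_not] at h
      exact hnd (minpoly.dvd _ _ (LinearMap.ext h))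
    refine ⟨⟨Multiplicative.ofAdd w, g⟩, rfl, (key ⟨Multiplicative.ofAdd w, g⟩ rfl).2 fun h1 => hw ?_⟩
    have := hleft ⟨Multiplicative.ofAdd w, g⟩ k
    rw [h1] at this
    rw [hae]
    simpa using this.symm

end Cfsg.Agent.S2516
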