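import Cfsg.Statements.S2521

set_option autoImplicit false
open Cfsg

namespace Cfsg.Agent.S2521

/-- Let B be a finite group that is the semidirect product of a nilpotent normal subgroup U by an abelian subgroup T (U ∩ T = 1, UT = B), and let t ∈ T have centralizer exactly T. Then every element of the coset tU is conjugate to t in B: for each u ∈ U there is b ∈ B with b t b⁻¹ = t u. -/
theorem result {B : Type*} [Group B] [Finite B] (U T : Subgroup B) [U.Normal] (hU : Group.IsNilpotent ↥U) (hT : IsMulCommutative ↥T)
    (hcompl : Subgroup.IsComplement' U T) (t : B) (ht : t ∈ T) (hreg : Subgroup.centralizer ({t} : Set B) = T) (u : B) (hu : u ∈ U) :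
    ∃ b : B, b * t * b⁻¹ = t * u := by
  classical
  have hUn : ∀ v ∈ U, t⁻¹ * v * t * v⁻¹ ∈ U := fun v hv => mul_mem (by
      simpa using Subgroup.Normal.conj_mem inferInstance v hv t⁻¹) (inv_mem hv)
  let f : U → U := fun v => ⟨t⁻¹ * (v : B) * t * (v : B)⁻¹, hUn _ v.2⟩
  have hinj : Function.Injective f := by
    intro v w hvw
    have h2 := congrArg Subtype.val hvw
    simp only [f] at h2
    have h3 : ((w : B)⁻¹ * v) ∈ Subgroup.centralizer ({t} : Set B) := by
      rw [Subgroup.mem_centralizer_singleton_iff]
      have := congrArg (fun z => (w : B)⁻¹ * t * z * (v : B)) h2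
      simpa [mul_assoc] using this
    rw [hreg] at h3
    have h4 := Subgroup.disjoint_def.1 hcompl.disjoint (mul_mem (inv_mem w.2) v.2) h3
    exact Subtype.ext (inv_mul_eq_one.1 h4).symm
  obtain ⟨v, hv⟩ := (Finite.injective_iff_surjective.1 hinj) ⟨u, hu⟩
  refine ⟨v, ?_⟩
  have := congrArg Subtype.val hv
  simp only [f] at this
  rw [← this]; group

end Cfsg.Agent.S2521
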