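import Cfsg.Statements.S2530
import Cfsg.Agent.Lib.BN.Coxeter

set_option autoImplicit false
open Cfsg

namespace Cfsg.Agent.S2530

open Equiv

/-- The adjacent transpositions. -/
def adj {n : ℕ} (i : Fin n) : Perm (Fin (n + 1)) := swap i.castSucc i.succ

theorem adj_sq {n : ℕ} (i : Fin n) : adj i * adj i = 1 := swap_mul_self _ _

theorem adj_inj {n : ℕ} : Function.Injective (adj (n := n)) := fun i j h => by
  by_contra hne
  have h1 := Equiv.congr_fun h i.castSucc
  rw [adj, adj, swap_apply_left] at h1
  rcases eq_or_ne i.castSucc j.castSucc with e | e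
  · exact hne (Fin.castSucc_inj.1 e)
  rcases eq_or_ne i.castSucc j.succ with e' | e'
  · rw [e', swap_apply_right] at h1
    have := congrArg Fin.val h1
    have := congrArg Fin.val e'
    simp at *
    omega
  · rw [swap_apply_of_ne_of_ne e e'] at h1
    exact absurd (congrArg Fin.val h1) (by simp)

theorem adj_mono {n : ℕ} (a : Fin n) {x y : Fin (n + 1)} (hxy : x < y) (h : ¬ (x = a.castSucc ∧ y = a.succ)) :
    adj a x < adj a y := by
  rw [Fin.lt_def] at hxy
  rw [Fin.ext_iff, Fin.ext_iff] at h
  simp only [Fin.val_castSucc, Fin.val_succ] at h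
  rw [adj, swap_apply_def, swap_apply_def, Fin.lt_def]
  simp only [Fin.ext_iff, Fin.val_castSucc, Fin.val_succ]
  split_ifs <;> simp <;> omega

/-- An inversion of a product of adjacent transpositions deletes one of the factors. -/
theorem delete {n : ℕ} : ∀ (l : List (Fin n)) (x y : Fin (n + 1)), x < y →
    (l.map adj).prod⁻¹ y < (l.map adj).prod⁻¹ x →
    ∃ j < l.length, swap x y * (l.map adj).prod = ((l.eraseIdx j).map adj).prod
  | [], x, y, hxy, h => absurd h (by simpa using hxy.le)
  | a :: r, x, y, hxy, h => by
    by_cases he : x = a.castSucc ∧ y = a.succ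
    · refine ⟨0, by simp, ?_⟩
      rw [he.1, he.2, List.map_cons, List.prod_cons, ← mul_assoc]
      show adj a * adj a * _ = _
      rw [adj_sq, one_mul]; rfl
    · rw [List.map_cons, List.prod_cons, mul_inv_rev, Perm.mul_apply, Perm.mul_apply] at h
      have hi : (adj a)⁻¹ = adj a := inv_eq_of_mul_eq_one_right (adj_sq a)
      rw [hi] at h
      obtain ⟨j, hj, e⟩ := delete r (adj a x) (adj a y) (adj_mono a hxy he) h
      refine ⟨j + 1, by simp [hj], ?_⟩
      rw [List.eraseIdx_cons_succ, List.map_cons, List.prod_cons, List.map_cons, List.prod_cons, ← e,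
        ← mul_assoc, ← mul_assoc, swap_apply_apply, hi]
      simp only [← mul_assoc, adj_sq, one_mul]

theorem exists_word {n : ℕ} (w : Perm (Fin (n + 1))) : ∃ l : List (Fin n), (l.map adj).prod = w := by
  have h : w ∈ Submonoid.closure (Set.range fun i : Fin n => swap i.castSucc i.succ) := by
    rw [Perm.mclosure_swap_castSucc_succ]; trivial
  obtain ⟨L, hL, rfl⟩ := Submonoid.exists_list_of_mem_closure h
  choose f hf using hL
  refine ⟨L.attach.map fun x => f x.1 x.2, ?_⟩
  rw [List.map_map]
  conv_rhs => rw [← List.attach_map_subtype_val L]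
  exact congrArg List.prod (List.map_congr_left fun x _ => hf x.1 x.2)

/-- The least length of a word. -/
noncomputable def len {n : ℕ} (w : Perm (Fin (n + 1))) : ℕ := sInf {k | ∃ l : List (Fin n), (l.map adj).prod = w ∧ l.length = k}

theorem len_le {n : ℕ} (l : List (Fin n)) : len (l.map adj).prod ≤ l.length := Nat.sInf_le ⟨l, rfl, rfl⟩

theorem exists_reduced {n : ℕ} (w : Perm (Fin (n + 1))) : ∃ l : List (Fin n), (l.map adj).prod = w ∧ l.length = len w := by
  obtain ⟨l, hl⟩ := exists_word w
  exact Nat.sInf_mem (s := {k | ∃ l : List (Fin n), (l.map adj).prod = w ∧ l.length = k}) ⟨_, l, hl, rfl⟩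

theorem exchange {n : ℕ} : Cfsg.Agent.BN.ExchangeData (adj (n := n)) len := by
  refine ⟨adj_sq, adj_inj, len_le, exists_reduced, fun l i hl hle => ?_⟩
  set w := (l.map adj).prod with hw
  have hlt : i.castSucc < i.succ := Fin.castSucc_lt_succ
  rcases lt_or_gt_of_ne ((w⁻¹).injective.ne hlt.ne') with h | h
  · exact delete l _ _ hlt h
  · exfalso
    obtain ⟨r, hr, hrl⟩ := exists_reduced (adj i * w)
    obtain ⟨j, hj, e⟩ := delete r _ _ hlt (by
      rw [hr, mul_inv_rev, Perm.mul_apply, Perm.mul_apply, inv_eq_of_mul_eq_one_right (adj_sq i)]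
      show w⁻¹ (swap i.castSucc i.succ i.succ) < w⁻¹ (swap i.castSucc i.succ i.castSucc)
      rw [swap_apply_right, swap_apply_left]; exact h)
    rw [hr] at e
    change adj i * (adj i * w) = _ at e
    rw [← mul_assoc, adj_sq, one_mul] at e
    have h1 := len_le (r.eraseIdx j)
    rw [← e, hl, List.length_eraseIdx_of_lt hj] at h1
    omega

theorem order_adj {n : ℕ} (i j : Fin n) : orderOf (adj i * adj j) = CoxeterMatrix.A n i j := by
  by_cases hij : i = j
  · subst hij
    rw [adj_sq, orderOf_one, CoxeterMatrix.diagonal]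
  show _ = if i = j then 1 else _
  rw [if_neg hij]
  have hv : (i : ℕ) ≠ j := fun e => hij (Fin.ext e)
  split_ifs with h
  · refine Perm.IsThreeCycle.orderOf ?_
    rcases h with h | h
    · have e : i.castSucc = j.succ := Fin.ext (by simp; omega)
      rw [adj, adj, swap_comm j.castSucc, ← e]
      exact Perm.isThreeCycle_swap_mul_swap_same (Fin.castSucc_lt_succ).ne
        (fun e' => by have := congrArg Fin.val e'; simp at this; omega)
        (fun e' => by have := congrArg Fin.val e'; simp at this; omega)
    · have e : i.succ = j.castSucc := Fin.ext (by simp; omega)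
      rw [adj, adj, swap_comm i.castSucc, ← e]
      exact Perm.isThreeCycle_swap_mul_swap_same (Fin.castSucc_lt_succ).ne'
        (fun e' => by have := congrArg Fin.val e'; simp at this; omega)
        (fun e' => by have := congrArg Fin.val e'; simp at this; omega)
  · rw [not_or] at h
    have hd : Perm.Disjoint (adj i) (adj j) := fun x => by
      rw [adj, adj, swap_apply_def, swap_apply_def]
      simp only [Fin.ext_iff, Fin.val_castSucc, Fin.val_succ]
      by_cases h1 : (x : ℕ) = i ∨ (x : ℕ) = i + 1
      · right; split_ifs <;> simp <;> omega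
      · left; split_ifs <;> simp <;> omega
    have h2 : ∀ k : Fin n, orderOf (adj k) = 2 := fun k =>
      orderOf_eq_prime (by rw [pow_two]; exact adj_sq k) fun e => (Fin.castSucc_lt_succ (i := k)).ne (swap_eq_one_iff.1 e)
    rw [hd.orderOf, h2, h2]
    rfl

/-- The Coxeter presentation of the symmetric group: for every n, the symmetric group on n+1 letters is the Coxeter group of type A_n with the adjacent transpositions (i, i+1) as simple reflections; that is, it is presented by generators r_1, …, r_n subject to r_i² = 1, (r_i r_j)² = 1 for |i − j| > 1 and (r_i r_{i+1})³ = 1, with r_i mapping to (i, i+1). -/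
theorem result (n : ℕ) :
    ∃ cs : CoxeterSystem (CoxeterMatrix.A n) (Equiv.Perm (Fin (n + 1))), ∀ i : Fin n, cs.simple i = Equiv.swap i.castSucc i.succ := by
  have hlift : CoxeterMatrix.IsLiftable (CoxeterMatrix.A n) (adj (n := n)) := fun i j => by
    rw [← order_adj]; exact pow_orderOf_eq_one _
  let φ := (CoxeterMatrix.A n).toCoxeterSystem.lift ⟨adj, hlift⟩
  have hφ : ∀ i, φ ((CoxeterMatrix.A n).simple i) = adj i := fun i =>
    CoxeterSystem.lift_apply_simple _ hlift i
  have hinj : Function.Injective φ := exchange.lift_injective _ (fun i j k h => by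
    rw [← order_adj]; exact orderOf_dvd_of_pow_eq_one h) φ hφ
  have hsur : Function.Surjective φ := fun w => by
    obtain ⟨l, rfl⟩ := exists_word w
    refine ⟨(l.map (CoxeterMatrix.A n).simple).prod, ?_⟩
    rw [map_list_prod, List.map_map]
    exact congrArg List.prod (List.map_congr_left fun i _ => hφ i)
  exact ⟨⟨(MulEquiv.ofBijective φ ⟨hinj, hsur⟩).symm⟩, fun i => hφ i⟩

end Cfsg.Agent.S2530
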