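import Cfsg.Statements.S2531
import Mathlib

set_option autoImplicit false
open Cfsg

namespace Cfsg.Agent.S2531

open Projectivization

section count

variable {F : Type*} [Field F] {V : Type*} [AddCommGroup V] [Module F V]

theorem rep_mem_iff (W : Submodule F V) (v : V) (hv : v ≠ 0) : (mk F v hv).rep ∈ W ↔ v ∈ W := by
  obtain ⟨a, ha⟩ := (mk_eq_mk_iff' F _ v (rep_nonzero _) hv).1 (mk_rep (mk F v hv))
  rw [← ha]
  refine ⟨fun h => ?_, fun h => W.smul_mem a h⟩
  have ha0 : a ≠ 0 := fun h0 => rep_nonzero (mk F v hv) (by rw [← ha, h0, zero_smul])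
  simpa [smul_smul, inv_mul_cancel₀ ha0] using W.smul_mem a⁻¹ h

theorem card_points_cast [Finite F] [Finite V] (p : ℕ) [CharP F p] [hp : Fact p.Prime] [Nontrivial V] :
    (Nat.card (Projectivization F V) : ZMod p) = 1 := by
  haveI := Fintype.ofFinite F
  obtain ⟨m, -, hm⟩ := FiniteField.card F p
  have hq : (Nat.card F : ZMod p) = 0 := by
    rw [Nat.card_eq_fintype_card, hm, Nat.cast_pow, ZMod.natCast_self, zero_pow m.pos.ne']
  have h := Projectivization.card' (k := F) (V := V)
  rw [Module.natCard_eq_pow_finrank (K := F) (V := V)] at h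
  have h' := congrArg (fun x : ℕ => (x : ZMod p)) h
  simp only [Nat.cast_pow, hq, zero_pow (Module.finrank_pos (R := F) (M := V)).ne', Nat.cast_add,
    Nat.cast_mul, Nat.cast_one, Nat.cast_sub (Nat.one_le_iff_ne_zero.2 (Nat.card_pos (α := F)).ne'),
    zero_sub, mul_neg, mul_one] at h'
  exact (neg_add_eq_zero.1 h'.symm)

theorem card_sub_points [Finite F] [Finite V] (p : ℕ) [CharP F p] [Fact p.Prime] (W : Submodule F V)
    (hW : W ≠ ⊥) : (Nat.card {x : Projectivization F V // x.rep ∈ W} : ZMod p) = 1 := by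
  haveI : Nontrivial W := Submodule.nontrivial_iff_ne_bot.2 hW
  let g : Projectivization F W → {x : Projectivization F V // x.rep ∈ W} := fun y =>
    ⟨Projectivization.map W.subtype W.injective_subtype y, by
      induction y using Projectivization.ind with
      | h v hv => rw [map_mk]; exact (rep_mem_iff W _ _).2 v.2⟩
  have hg : Function.Bijective g := by
    refine ⟨fun y z h => ?_, fun x => ?_⟩
    · exact Projectivization.map_injective W.subtype W.injective_subtype (congrArg Subtype.val h)
    · have hne : (⟨x.1.rep, x.2⟩ : W) ≠ 0 := fun h => rep_nonzero x.1 (congrArg Subtype.val h)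
      refine ⟨mk F ⟨x.1.rep, x.2⟩ hne, Subtype.ext ?_⟩
      exact ((map_mk W.subtype W.injective_subtype _ hne).trans (mk_rep x.1))
  rw [← Nat.card_eq_of_bijective g hg]
  exact card_points_cast p

end count

/-- Let `F` be a finite field and `n ≥ 3`. No set of permutations of the points of the projective space of `Fⁿ`, each induced by an invertible semilinear transformation of `Fⁿ` (so a subset of the full projective semilinear group), is sharply 2-transitive on the points: it is impossible that for all pairs of distinct points `(a, b)` and `(c, d)` exactly one member of the set sends `a` to `c` and `b` to `d`. -/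
theorem result {F : Type*} [Field F] [Finite F]
    (n : ℕ) (hn : 3 ≤ n) (S : Set (Equiv.Perm (Projectivization F (Fin n → F))))
    (hS : ∀ s ∈ S, ∃ (σ : F ≃+* F) (f : (Fin n → F) →ₛₗ[(σ : F →+* F)] (Fin n → F)) (hf : Function.Injective f),
      ∀ x, s x = Projectivization.map f hf x) :
    ¬ (∀ a b c d : Projectivization F (Fin n → F), a ≠ b → c ≠ d →
        ∃! s, s ∈ S ∧ s a = c ∧ s b = d) := by
  classical
  intro h2
  obtain ⟨p, hchar⟩ := CharP.exists F
  haveI : Fact p.Prime := ⟨(CharP.char_is_prime_or_zero F p).resolve_right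
    (fun h0 => by subst h0; haveI := CharP.charP_to_charZero F; exact not_finite F)⟩
  haveI : Nonempty (Fin n) := ⟨⟨0, by omega⟩⟩
  haveI := Fintype.ofFinite (Projectivization F (Fin n → F))
  set i0 : Fin n := ⟨0, by omega⟩
  let W : Submodule F (Fin n → F) := LinearMap.ker (LinearMap.proj i0)
  have hW : ∀ v : Fin n → F, v ∈ W ↔ v i0 = 0 := fun v => Iff.rfl
  let B : Finset (Projectivization F (Fin n → F)) := Finset.univ.filter fun x => x.rep ∈ W
  set P : Projectivization F (Fin n → F) := mk F (Pi.single i0 1) (by simp)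
  have hP : P ∉ B := by
    simp only [B, Finset.mem_filter, Finset.mem_univ, true_and, P]
    rw [rep_mem_iff W, hW]
    simp
  let T : Finset (Equiv.Perm (Projectivization F (Fin n → F))) := Finset.univ.filter fun s => s ∈ S ∧ s P = P
  have hkey : ∀ b d, b ≠ P → d ≠ P → ∃! s, s ∈ T ∧ s b = d := by
    intro b d hb hd
    obtain ⟨s, ⟨hs, hsP, hsb⟩, huniq⟩ := h2 P b P d hb.symm hd.symm
    refine ⟨s, ⟨Finset.mem_filter.2 ⟨Finset.mem_univ _, hs, hsP⟩, hsb⟩, fun s' hs' => ?_⟩
    obtain ⟨hs'T, hs'b⟩ := hs'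
    obtain ⟨-, hs'S, hs'P⟩ := Finset.mem_filter.1 hs'T
    exact huniq s' ⟨hs'S, hs'P, hs'b⟩
  have hBne : ∀ x ∈ B, x ≠ P := fun x hx h => hP (h ▸ hx)
  -- the number of incidences
  have hcount : ∑ s ∈ T, (B.filter fun x => s x ∈ B).card = B.card * B.card := by
    rw [← Finset.card_sigma, ← Finset.card_product]
    refine Finset.card_bij (fun z _ => (z.2, z.1 z.2)) (fun z hz => ?_) (fun z hz w hw e => ?_) (fun y hy => ?_)
    · simp only [Finset.mem_sigma, Finset.mem_filter] at hz
      exact Finset.mem_product.2 ⟨hz.2.1, hz.2.2⟩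
    · simp only [Finset.mem_sigma, Finset.mem_filter] at hz hw
      obtain ⟨s, x⟩ := z
      obtain ⟨s', x'⟩ := w
      simp only [Prod.mk.injEq] at e
      obtain ⟨rfl, e⟩ := e
      obtain ⟨u, -, hu⟩ := hkey x (s x) (hBne x hz.2.1) (hBne _ hz.2.2)
      obtain rfl : s = s' := (hu s ⟨hz.1, rfl⟩).trans (hu s' ⟨hw.1, e.symm⟩).symm
      rfl
    · obtain ⟨hy1, hy2⟩ := Finset.mem_product.1 hy
      obtain ⟨u, ⟨hu, hue⟩, -⟩ := hkey y.1 y.2 (hBne _ hy1) (hBne _ hy2)
      refine ⟨⟨u, y.1⟩, ?_, Prod.ext rfl hue⟩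
      simp only [Finset.mem_sigma, Finset.mem_filter]
      exact ⟨hu, hy1, by rw [hue]; exact hy2⟩
  -- the set of maps fixing `P`
  have hBcard : (B.card : ZMod p) = 1 := by
    have hne : W ≠ ⊥ := by
      rw [Submodule.ne_bot_iff]
      refine ⟨Pi.single (⟨1, by omega⟩ : Fin n) 1, ?_, by simp⟩
      rw [hW]; simp [i0, Fin.ext_iff]
    rw [← card_sub_points p W hne, Nat.card_eq_fintype_card, Fintype.card_subtype]
  obtain ⟨b0, hb0⟩ : B.Nonempty := Finset.card_pos.1 (Nat.pos_of_ne_zero fun h0 => by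
    rw [h0, Nat.cast_zero] at hBcard; exact zero_ne_one hBcard)
  have hT : (T.card : ZMod p) = 0 := by
    have h1 : T.card = (Finset.univ.erase P).card := by
      refine Finset.card_bij (fun s _ => s b0) (fun s hs => ?_) (fun s hs s' hs' e => ?_) (fun d hd => ?_)
      · refine Finset.mem_erase.2 ⟨fun h => hBne b0 hb0 ?_, Finset.mem_univ _⟩
        exact s.injective (h.trans (Finset.mem_filter.1 hs).2.2.symm)
      · obtain ⟨u, -, hu⟩ := hkey b0 (s b0) (hBne b0 hb0) (fun h =>
          hBne b0 hb0 (s.injective (h.trans (Finset.mem_filter.1 hs).2.2.symm)))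
        exact (hu s ⟨hs, rfl⟩).trans (hu s' ⟨hs', e.symm⟩).symm
      · obtain ⟨u, ⟨hu, hue⟩, -⟩ := hkey b0 d (hBne b0 hb0) (Finset.mem_erase.1 hd).1
        exact ⟨u, hu, hue⟩
    rw [h1, Finset.card_erase_of_mem (Finset.mem_univ P), Finset.card_univ,
      Nat.cast_sub Fintype.card_pos, ← Nat.card_eq_fintype_card, card_points_cast p, Nat.cast_one, sub_self]
  -- every map meets `B` in one point modulo `p`
  have hone : ∀ s ∈ T, ((B.filter fun x => s x ∈ B).card : ZMod p) = 1 := by
    intro s hs
    obtain ⟨σ, f, hf, hsf⟩ := hS s (Finset.mem_filter.1 hs).2.1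
    let W' : Submodule F (Fin n → F) :=
      { carrier := {v | v i0 = 0 ∧ f v i0 = 0}
        zero_mem' := by simp
        add_mem' := fun {a b} ha hb => by
          refine ⟨?_, ?_⟩
          · simp [ha.1, hb.1]
          · rw [map_add]; simp [ha.2, hb.2]
        smul_mem' := fun c a ha => by
          refine ⟨?_, ?_⟩
          · simp [ha.1]
          · rw [f.map_smulₛₗ]; simp [ha.2] }
    have hne : W' ≠ ⊥ := by
      rw [Submodule.ne_bot_iff]
      let i1 : Fin n := ⟨1, by omega⟩
      let i2 : Fin n := ⟨2, by omega⟩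
      have h10 : i1 ≠ i0 := by simp [i1, i0, Fin.ext_iff]
      have h20 : i2 ≠ i0 := by simp [i2, i0, Fin.ext_iff]
      have h12 : i1 ≠ i2 := by simp [i1, i2, Fin.ext_iff]
      by_cases hα : f (Pi.single i1 1) i0 = 0
      · exact ⟨Pi.single i1 1, ⟨by simp [h10.symm], hα⟩, by simp⟩
      · refine ⟨σ.symm (f (Pi.single i2 1) i0) • Pi.single i1 1 - σ.symm (f (Pi.single i1 1) i0) • Pi.single i2 1,
          ⟨by simp [h10.symm, h20.symm], ?_⟩, fun h0 => hα ?_⟩
        · rw [map_sub, f.map_smulₛₗ, f.map_smulₛₗ]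
          simp only [Pi.sub_apply, Pi.smul_apply, smul_eq_mul, RingHom.coe_coe, RingEquiv.apply_symm_apply]
          ring
        · have := congrFun h0 i2
          simp [h12.symm] at this
          exact this
    rw [← card_sub_points p W' hne, Nat.card_eq_fintype_card, Fintype.card_subtype]
    congr 2
    ext x
    simp only [B, Finset.mem_filter, Finset.mem_univ, true_and]
    constructor
    · rintro ⟨h1, h2'⟩
      refine ⟨h1, ?_⟩
      rw [hsf, ← mk_rep x, map_mk, rep_mem_iff] at h2'
      exact h2'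
    · rintro ⟨h1, h2'⟩
      refine ⟨h1, ?_⟩
      rw [hsf, ← mk_rep x, map_mk, rep_mem_iff]
      exact h2'
  have := congrArg (fun x : ℕ => (x : ZMod p)) hcount
  simp only [Nat.cast_sum, Nat.cast_mul, hBcard, one_mul] at this
  rw [Finset.sum_congr rfl hone, Finset.sum_const, nsmul_eq_mul, mul_one, hT] at this
  exact zero_ne_one this

end Cfsg.Agent.S2531
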