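import Cfsg.Statements.S2532
import Mathlib.GroupTheory.Perm.ViaEmbedding
import Mathlib.GroupTheory.GroupAction.Quotient

set_option autoImplicit false
open Cfsg

namespace Cfsg.Agent.S2532

open Equiv Equiv.Perm in
theorem aux {α : Type*} [Fintype α] [DecidableEq α] {Γ : Type*} [Group Γ] [Finite Γ] [MulAction Γ α] (r : ℕ)
    (hm : Nat.card Γ * (2 ^ Nat.card Γ * r + 1) ≤ Fintype.card α) :
    ∃ f : alternatingGroup (Fin r) →* alternatingGroup α, Function.Injective f ∧
      ∀ σ (h : Γ) (v : α), (f σ : Perm α) (h • v) = h • (f σ : Perm α) v := by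
  classical
  haveI : Fintype Γ := Fintype.ofFinite Γ
  haveI : Fintype (Subgroup Γ) := Fintype.ofFinite _
  -- many orbits
  let O := MulAction.orbitRel.Quotient Γ α
  haveI : Fintype O := Fintype.ofFinite O
  have hO : 2 ^ Nat.card Γ * r + 1 ≤ Fintype.card O := by
    refine Nat.le_of_mul_le_mul_left (le_trans hm ?_) (Nat.card_pos (α := Γ))
    let g : Γ × O → α := fun c => c.1 • c.2.out
    have hg : Function.Surjective g := fun v => by
      have h1 : MulAction.orbitRel Γ α v (⟦v⟧ : O).out :=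
        Quotient.exact (Quotient.out_eq (⟦v⟧ : O)).symm
      obtain ⟨c, hc⟩ := MulAction.orbitRel_apply.mp h1
      exact ⟨(c, (⟦v⟧ : O)), hc⟩
    refine (Fintype.card_le_of_surjective g hg).trans (le_of_eq ?_)
    rw [Fintype.card_prod, Nat.card_eq_fintype_card]
  have hsub : Fintype.card (Subgroup Γ) ≤ 2 ^ Nat.card Γ := by
    rw [Nat.card_eq_fintype_card, ← Fintype.card_set]
    exact Fintype.card_le_of_injective (fun K : Subgroup Γ => (K : Set Γ)) SetLike.coe_injective
  obtain ⟨L, hL⟩ := Fintype.exists_lt_card_fiber_of_mul_lt_card (f := fun o : O => MulAction.stabilizer Γ o.out) (n := r)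
    (lt_of_le_of_lt (Nat.mul_le_mul_right r hsub) (Nat.lt_of_succ_le hO))
  obtain ⟨b, hb, hbs⟩ : ∃ b : Fin r → O, Function.Injective b ∧ ∀ j, MulAction.stabilizer Γ (b j).out = L := by
    obtain ⟨e⟩ := Function.Embedding.nonempty_of_card_le
      (α := Fin r) (β := {o : O // MulAction.stabilizer Γ o.out = L}) (by
        rw [Fintype.card_fin, Fintype.card_subtype]; exact hL.le)
    exact ⟨fun j => (e j).1, fun u v h => e.injective (Subtype.ext h), fun j => (e j).2⟩
  let e : Fin r × (Γ ⧸ L) → α := fun c => (c.2.out : Γ) • (b c.1).out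
  have hsame : ∀ (j : Fin r) (u v : Γ), u • (b j).out = v • (b j).out ↔ (u : Γ ⧸ L) = (v : Γ ⧸ L) := by
    intro j u v
    rw [QuotientGroup.eq, ← hbs j, MulAction.mem_stabilizer_iff, mul_smul, inv_smul_eq_iff, eq_comm]
  have he : Function.Injective e := by
    rintro ⟨j, u⟩ ⟨k, v⟩ h
    simp only [e] at h
    have hjk : j = k := by
      refine hb ?_
      rw [← Quotient.out_eq (b j), ← Quotient.out_eq (b k)]
      refine Quotient.sound (MulAction.orbitRel_apply.mpr ⟨(u.out : Γ)⁻¹ * v.out, ?_⟩)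
      show ((u.out : Γ)⁻¹ * v.out) • (b k).out = _
      rw [mul_smul, ← h, inv_smul_smul]
    subst hjk
    have := (hsame j _ _).mp h
    rw [QuotientGroup.out_eq', QuotientGroup.out_eq'] at this
    rw [this]
  have hequi : ∀ (h : Γ) (j : Fin r) (u : Γ ⧸ L), h • e (j, u) = e (j, h • u) := by
    intro h j u
    simp only [e, smul_smul]
    rw [hsame, QuotientGroup.out_eq']
    conv_rhs => rw [← QuotientGroup.out_eq' u]
    rfl
  let ι : Fin r × (Γ ⧸ L) ↪ α := ⟨e, he⟩
  let pr : Perm (Fin r) →* Perm (Fin r × (Γ ⧸ L)) :=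
    { toFun := fun σ => Equiv.prodCongrLeft fun _ => σ, map_one' := Equiv.ext fun _ => rfl,
      map_mul' := fun _ _ => Equiv.ext fun _ => rfl }
  haveI : Fintype (Γ ⧸ L) := Fintype.ofFinite _
  have hsign : ∀ σ : alternatingGroup (Fin r), viaEmbeddingHom ι (pr σ.1) ∈ alternatingGroup α := fun σ => by
    rw [mem_alternatingGroup, viaEmbeddingHom_apply]
    unfold Equiv.Perm.viaEmbedding
    rw [sign_extendDomain]
    show sign (Equiv.prodCongrLeft fun _ => (σ : Perm (Fin r))) = 1
    rw [sign_prodCongrLeft]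
    exact Finset.prod_eq_one fun _ _ => mem_alternatingGroup.mp σ.2
  refine ⟨((viaEmbeddingHom ι).comp (pr.comp (alternatingGroup (Fin r)).subtype)).codRestrict _ hsign, ?_, ?_⟩
  · intro σ τ h
    have h1 : pr σ.1 = pr τ.1 := viaEmbeddingHom_injective ι (congrArg Subtype.val h)
    refine Subtype.ext (Equiv.ext fun j => ?_)
    exact congrArg Prod.fst (DFunLike.congr_fun h1 (j, ((1 : Γ) : Γ ⧸ L)))
  · intro σ h v
    show (pr σ.1).viaEmbedding ι (h • v) = h • (pr σ.1).viaEmbedding ι v
    by_cases hv : v ∈ Set.range ι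
    · obtain ⟨⟨j, u⟩, rfl⟩ := hv
      rw [show h • ι (j, u) = ι (j, h • u) from hequi h j u, viaEmbedding_apply, viaEmbedding_apply]
      exact (hequi h _ u).symm
    · have hv' : h • v ∉ Set.range ι := by
        rintro ⟨⟨j, u⟩, hju⟩
        refine hv ⟨(j, h⁻¹ • u), ?_⟩
        show e (j, h⁻¹ • u) = v
        rw [← hequi, show e (j, u) = h • v from hju, inv_smul_smul]
      rw [viaEmbedding_apply_of_notMem _ _ _ hv, viaEmbedding_apply_of_notMem _ _ _ hv']

/-- There is a function `f` of two natural-number arguments such that, whenever `m ≥ f(n, r)`, every subgroup of order `n` of the alternating group of degree `m` centralizes some subgroup of that alternating group isomorphic to the alternating group of degree `r`. -/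
theorem result :
    ∃ f : ℕ → ℕ → ℕ, ∀ (m r : ℕ) (H : Subgroup ↥(alternatingGroup (Fin m))), f (Nat.card H) r ≤ m →
      ∃ K : Subgroup ↥(alternatingGroup (Fin m)), Nonempty (↥K ≃* ↥(alternatingGroup (Fin r))) ∧
        K ≤ Subgroup.centralizer (H : Set ↥(alternatingGroup (Fin m))) := by
  refine ⟨fun n r => n * (2 ^ n * r + 1), fun m r H hm => ?_⟩
  obtain ⟨f, hf, hcomm⟩ := aux (α := Fin m) (Γ := H) r (by rw [Fintype.card_fin]; exact hm)
  refine ⟨f.range, ⟨(MonoidHom.ofInjective hf).symm⟩, ?_⟩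
  rintro - ⟨σ, rfl⟩
  refine Subgroup.mem_centralizer_iff.mpr fun h hh => Subtype.ext (Equiv.ext fun v => ?_)
  exact (hcomm σ ⟨h, hh⟩ v).symm

end Cfsg.Agent.S2532
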