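import Cfsg.Statements.S2533


set_option autoImplicit false
set_option linter.style.haveILetI false
open Cfsg

namespace Cfsg.Agent.S2533

open Matrix

variable (p : ℕ) [Fact p.Prime]

/-- The generalised dihedral action. -/
def invAct : ℤˣ →* MulAut (Multiplicative (Fin 3 → ZMod p)) where
  toFun u :=
    { toFun := fun a => a ^ (u : ℤ)
      invFun := fun a => a ^ (u : ℤ)
      left_inv := fun a => by
        show (a ^ (u : ℤ)) ^ (u : ℤ) = a
        rw [← _root_.zpow_mul, ← Units.val_mul, Int.units_mul_self, Units.val_one, zpow_one]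
      right_inv := fun a => by
        show (a ^ (u : ℤ)) ^ (u : ℤ) = a
        rw [← _root_.zpow_mul, ← Units.val_mul, Int.units_mul_self, Units.val_one, zpow_one]
      map_mul' := fun a b => mul_zpow a b _ }
  map_one' := by
    refine MulEquiv.ext fun a => ?_
    show a ^ ((1 : ℤˣ) : ℤ) = a
    rw [Units.val_one, zpow_one]
  map_mul' u v := by
    refine MulEquiv.ext fun a => ?_
    show a ^ ((u * v : ℤˣ) : ℤ) = (a ^ (v : ℤ)) ^ (u : ℤ)
    rw [← _root_.zpow_mul, Units.val_mul, mul_comm (v : ℤ)]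

variable (m : ℕ)

/-- The shift matrix. -/
def shiftM : Matrix (Fin m) (Fin m) (ZMod p) := Matrix.of fun i j => if (i : ℕ) + 1 = (j : ℕ) then 1 else 0

/-- The pencil spanned by the identity, the shift and its transpose. -/
def pencil (a : Fin 3 → ZMod p) : Matrix (Fin m) (Fin m) (ZMod p) :=
  a 0 • (1 : Matrix (Fin m) (Fin m) (ZMod p)) + a 1 • shiftM p m + a 2 • (shiftM p m)ᵀ

theorem pencil_add (a b : Fin 3 → ZMod p) : pencil p m (a + b) = pencil p m a + pencil p m b := by
  simp only [pencil, Pi.add_apply, add_smul]; abel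

theorem shift_comm {g : Matrix (Fin m) (Fin m) (ZMod p)} (h : g * shiftM p m = shiftM p m * g) (i j : ℕ)
    (hi : i + 1 < m) (hj : j < m) :
    g ⟨i + 1, hi⟩ ⟨j, hj⟩ = (if h0 : j = 0 then 0 else g ⟨i, by omega⟩ ⟨j - 1, by omega⟩) := by
  have h1 := congrFun (congrFun h ⟨i, by omega⟩) ⟨j, hj⟩
  simp only [Matrix.mul_apply, shiftM, Matrix.of_apply, mul_ite, mul_one, mul_zero, ite_mul, one_mul,
    zero_mul] at h1
  rw [Finset.sum_eq_single (⟨i + 1, hi⟩ : Fin m) (f := fun k : Fin m => if i + 1 = (k : ℕ) then g k ⟨j, hj⟩ else 0)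
    (fun k _ hk => if_neg fun e => hk (Fin.ext e.symm)) (fun h => absurd (Finset.mem_univ _) h), if_pos rfl] at h1
  rw [← h1]
  split_ifs with h0
  · exact Finset.sum_eq_zero fun k _ => if_neg (by omega)
  · rw [Finset.sum_eq_single (⟨j - 1, by omega⟩ : Fin m) (fun k _ hk => if_neg fun e => hk (Fin.ext (by simp; omega)))
      (fun h => absurd (Finset.mem_univ _) h), if_pos (by simp; omega)]

theorem eq_scalar (hm : 0 < m) {g : Matrix (Fin m) (Fin m) (ZMod p)} (h : g * shiftM p m = shiftM p m * g)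
    (h' : g * (shiftM p m)ᵀ = (shiftM p m)ᵀ * g) : g = g ⟨0, hm⟩ ⟨0, hm⟩ • (1 : Matrix (Fin m) (Fin m) (ZMod p)) := by
  have h2 : gᵀ * shiftM p m = shiftM p m * gᵀ := by
    have := congrArg Matrix.transpose h'
    rw [Matrix.transpose_mul, Matrix.transpose_mul, Matrix.transpose_transpose] at this
    exact this.symm
  have key : ∀ i j : ℕ, ∀ hi : i < m, ∀ hj : j < m,
      g ⟨i, hi⟩ ⟨j, hj⟩ = if i = j then g ⟨0, hm⟩ ⟨0, hm⟩ else 0 := by
    intro i
    induction i with
    | zero =>
      intro j hi hj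
      rcases j with _ | j
      · simp
      · have := shift_comm p m h2 j 0 hj hm
        simp only [↓reduceDIte, Matrix.transpose_apply] at this
        rw [this, if_neg (by omega)]
    | succ i ih =>
      intro j hi hj
      rw [shift_comm p m h i j hi hj]
      split_ifs with h0 h1 h2
      · omega
      · rfl
      · rw [ih (j - 1) (by omega) (by omega), if_pos (by omega)]
      · rw [ih (j - 1) (by omega) (by omega), if_neg (by omega)]
  ext ⟨i, hi⟩ ⟨j, hj⟩
  rw [key i j hi hj, Matrix.smul_apply, Matrix.one_apply]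
  simp [Fin.ext_iff]

abbrev Sum2 := Fin m ⊕ Fin m

/-- The unipotent part. -/
def fnHom : Multiplicative (Fin 3 → ZMod p) →* Matrix.SpecialLinearGroup (Sum2 m) (ZMod p) where
  toFun a := ⟨Matrix.fromBlocks 1 (pencil p m a.toAdd) 0 1, by
    rw [Matrix.det_fromBlocks_zero₂₁]; simp⟩
  map_one' := Subtype.ext (by simp [pencil])
  map_mul' a b := Subtype.ext (by
    show Matrix.fromBlocks 1 (pencil p m (a * b).toAdd) 0 1 = _ * _
    rw [Matrix.fromBlocks_multiply, toAdd_mul, pencil_add]
    simp [add_comm])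

/-- The involutory part. -/
def gnHom (hm : Even m) : ℤˣ →* Matrix.SpecialLinearGroup (Sum2 m) (ZMod p) where
  toFun u := ⟨Matrix.fromBlocks (((u : ℤ) : ZMod p) • 1) 0 0 1, by
    rw [Matrix.det_fromBlocks_zero₂₁, Matrix.det_smul, Matrix.det_one, mul_one, mul_one, Fintype.card_fin]
    obtain ⟨k, rfl⟩ := hm
    rcases Int.units_eq_one_or u with rfl | rfl <;> simp [← two_mul, pow_mul]⟩
  map_one' := Subtype.ext (by simp)
  map_mul' u v := Subtype.ext (by
    show Matrix.fromBlocks ((((u * v : ℤˣ) : ℤ) : ZMod p) • 1) 0 0 1 = _ * _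
    rw [Matrix.fromBlocks_multiply]
    simp [smul_smul, mul_comm ((u : ℤ) : ZMod p)])

/-- The representation. -/
def repHom (hm : Even m) :
    Multiplicative (Fin 3 → ZMod p) ⋊[invAct p] ℤˣ →* Matrix.SpecialLinearGroup (Sum2 m) (ZMod p) :=
  SemidirectProduct.lift (fnHom p m) (gnHom p m hm) fun u => MonoidHom.ext fun a => by
    show fnHom p m (a ^ (u : ℤ)) = gnHom p m hm u * fnHom p m a * (gnHom p m hm u)⁻¹
    rw [eq_mul_inv_iff_mul_eq]
    refine Subtype.ext ?_
    show Matrix.fromBlocks 1 (pencil p m (a ^ (u : ℤ)).toAdd) 0 1 *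
      Matrix.fromBlocks (((u : ℤ) : ZMod p) • 1) 0 0 1 =
        Matrix.fromBlocks (((u : ℤ) : ZMod p) • 1) 0 0 1 * Matrix.fromBlocks 1 (pencil p m a.toAdd) 0 1
    rw [Matrix.fromBlocks_multiply, Matrix.fromBlocks_multiply]
    rcases Int.units_eq_one_or u with rfl | rfl
    · simp
    · simp [pencil]; abel

theorem repHom_val (hm : Even m) (x : Multiplicative (Fin 3 → ZMod p) ⋊[invAct p] ℤˣ) :
    (repHom p m hm x).1 = Matrix.fromBlocks (((x.right : ℤ) : ZMod p) • 1) (pencil p m x.left.toAdd) 0 1 := by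
  show (fnHom p m x.left * gnHom p m hm x.right).1 = _
  show Matrix.fromBlocks 1 (pencil p m x.left.toAdd) 0 1 * Matrix.fromBlocks (((x.right : ℤ) : ZMod p) • 1) 0 0 1 = _
  rw [Matrix.fromBlocks_multiply]
  simp

theorem cast_units_eq_one (hp : p ≠ 2) {u : ℤˣ} (h : ((u : ℤ) : ZMod p) = 1) : u = 1 := by
  rcases Int.units_eq_one_or u with rfl | rfl
  · rfl
  · exfalso
    have h2 : ((2 : ℕ) : ZMod p) = 0 := by
      simp only [Units.val_neg, Units.val_one, Int.cast_neg, Int.cast_one] at h
      push_cast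
      linear_combination -h
    rw [ZMod.natCast_eq_zero_iff] at h2
    exact hp ((Nat.prime_dvd_prime_iff_eq Fact.out Nat.prime_two).1 h2)

theorem two_ne (hp : p ≠ 2) : (2 : ZMod p) ≠ 0 := fun h => by
  have h2 : ((2 : ℕ) : ZMod p) = 0 := by simpa using h
  rw [ZMod.natCast_eq_zero_iff] at h2
  exact hp ((Nat.prime_dvd_prime_iff_eq Fact.out Nat.prime_two).1 h2)

theorem central_of_projective (hp : p ≠ 2) (hm : Even m) (hm2 : 2 ≤ m)
    (g : Matrix.SpecialLinearGroup (Sum2 m) (ZMod p))
    (hg : ∀ x, ∃ r : ZMod p, g.1 * (repHom p m hm x).1 = r • ((repHom p m hm x).1 * g.1)) :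
    g ∈ Subgroup.center (Matrix.SpecialLinearGroup (Sum2 m) (ZMod p)) := by
  obtain ⟨X, Z, Y, W, hb⟩ : ∃ X Z Y W, g.1 = Matrix.fromBlocks X Z Y W :=
    ⟨_, _, _, _, (Matrix.fromBlocks_toBlocks g.1).symm⟩
  have hne : X = 0 → Y = 0 → False := fun hX hY => by
    have hd := g.2
    rw [hb, hX, hY, Matrix.det_fromBlocks_zero₂₁] at hd
    haveI : Nonempty (Fin m) := ⟨⟨0, by omega⟩⟩
    rw [Matrix.det_zero, zero_mul] at hd
    exact zero_ne_one hd
  have hU : ∀ a : Fin 3 → ZMod p, Y * pencil p m a = 0 ∧ pencil p m a * Y = 0 ∧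
      X * pencil p m a + Z = Z + pencil p m a * W := by
    intro a
    obtain ⟨r, hr⟩ := hg ⟨Multiplicative.ofAdd a, 1⟩
    rw [repHom_val, hb] at hr
    simp only [Units.val_one, Int.cast_one, one_smul, toAdd_ofAdd, Matrix.fromBlocks_multiply,
      Matrix.fromBlocks_smul, Matrix.fromBlocks_inj, mul_one, one_mul, mul_zero, zero_mul, add_zero, zero_add] at hr
    obtain ⟨h11, h12, h21, h22⟩ := hr
    have hr1 : r = 1 := by
      by_contra hne'
      have hY : Y = 0 := by
        have : (1 - r) • Y = 0 := by rw [sub_smul, one_smul, ← h21, sub_self]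
        exact (smul_eq_zero.1 this).resolve_left (sub_ne_zero.2 (Ne.symm hne'))
      rw [hY, mul_zero, add_zero] at h11
      have hX : X = 0 := by
        have : (1 - r) • X = 0 := by rw [sub_smul, one_smul, ← h11, sub_self]
        exact (smul_eq_zero.1 this).resolve_left (sub_ne_zero.2 (Ne.symm hne'))
      exact hne hX hY
    rw [hr1, one_smul] at h11 h12 h22
    exact ⟨by simpa using h22, by simpa using h11.symm, h12⟩
  have hY : Y = 0 := by
    have := (hU ![1, 0, 0]).1
    simpa [pencil] using this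
  have hXW : X = W := by
    have := (hU ![1, 0, 0]).2.2
    simp [pencil] at this
    rw [add_comm] at this
    exact add_left_cancel this
  have hJ : X * shiftM p m = shiftM p m * X := by
    have := (hU ![0, 1, 0]).2.2
    simpa [pencil, add_comm, ← hXW] using this
  have hJ' : X * (shiftM p m)ᵀ = (shiftM p m)ᵀ * X := by
    have := (hU ![0, 0, 1]).2.2
    simpa [pencil, add_comm, ← hXW] using this
  have hXs := eq_scalar p m (by omega) hJ hJ'
  have hX0 : X ≠ 0 := fun h => hne h hY
  obtain ⟨r, hr⟩ := hg ⟨1, -1⟩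
  rw [repHom_val, hb] at hr
  simp only [toAdd_one, Units.val_neg, Units.val_one, Int.cast_neg, Int.cast_one, Matrix.fromBlocks_multiply,
    Matrix.fromBlocks_smul, Matrix.fromBlocks_inj, mul_one, one_mul, mul_zero, zero_mul, add_zero, zero_add,
    hY, neg_smul, one_smul, mul_neg, neg_mul, smul_neg, neg_inj, pencil, Pi.zero_apply, zero_smul] at hr
  obtain ⟨h11, h12, -, -⟩ := hr
  have hr1 : r = 1 := by
    by_contra hne'
    have : (1 - r) • X = 0 := by rw [sub_smul, one_smul, ← h11, sub_self]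
    exact hX0 ((smul_eq_zero.1 this).resolve_left (sub_ne_zero.2 (Ne.symm hne')))
  rw [hr1, one_smul] at h12
  have hZ : Z = 0 := by
    have : (2 : ZMod p) • Z = 0 := by
      rw [two_smul]
      nth_rw 1 [h12]
      exact neg_add_cancel Z
    exact (smul_eq_zero.1 this).resolve_left (two_ne p hp)
  rw [Subgroup.mem_center_iff]
  intro h
  have hv : g.1 = X ⟨0, by omega⟩ ⟨0, by omega⟩ • (1 : Matrix (Sum2 m) (Sum2 m) (ZMod p)) := by
    rw [hb, hY, hZ, ← hXW, ← Matrix.fromBlocks_one, Matrix.fromBlocks_smul, smul_zero, ← hXs]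
  refine Subtype.ext ?_
  show h.1 * g.1 = g.1 * h.1
  rw [hv, Matrix.mul_smul, Matrix.smul_mul, mul_one, one_mul]

/-- Renumbering the coordinates. -/
def toFin : Matrix.SpecialLinearGroup (Sum2 m) (ZMod p) ≃*
    Matrix.SpecialLinearGroup (Fin (m + m)) (ZMod p) where
  toFun A := ⟨Matrix.reindexAlgEquiv (ZMod p) (ZMod p) finSumFinEquiv A.1, by
    rw [Matrix.coe_reindexAlgEquiv, Matrix.det_reindex_self]; exact A.2⟩
  invFun A := ⟨(Matrix.reindexAlgEquiv (ZMod p) (ZMod p) finSumFinEquiv).symm A.1, by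
    rw [Matrix.symm_reindexAlgEquiv, Matrix.coe_reindexAlgEquiv, Matrix.det_reindex_self]; exact A.2⟩
  left_inv A := Subtype.ext ((Matrix.reindexAlgEquiv (ZMod p) (ZMod p) finSumFinEquiv).symm_apply_apply A.1)
  right_inv A := Subtype.ext ((Matrix.reindexAlgEquiv (ZMod p) (ZMod p) finSumFinEquiv).apply_symm_apply A.1)
  map_mul' A B := Subtype.ext (map_mul (Matrix.reindexAlgEquiv (ZMod p) (ZMod p) finSumFinEquiv) A.1 B.1)

/-- For every odd prime `p` there is a finite group `H` of order `2p³` which, for infinitely many `n`, embeds in the projective special linear group `PSL(n, p)` as a subgroup with trivial centralizer. -/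
theorem result
    (p : ℕ) [Fact p.Prime] (hp : p ≠ 2) :
    ∃ (H : Type) (_ : Group H) (_ : Finite H), Nat.card H = 2 * p ^ 3 ∧
      ∀ N : ℕ, ∃ n, N ≤ n ∧ ∃ φ : H →* Matrix.ProjectiveSpecialLinearGroup (Fin n) (ZMod p),
        Function.Injective φ ∧ Subgroup.centralizer (φ.range : Set (Matrix.ProjectiveSpecialLinearGroup (Fin n) (ZMod p))) = ⊥ := by
  classical
  let e : (Multiplicative (Fin 3 → ZMod p) ⋊[invAct p] ℤˣ) ≃ Multiplicative (Fin 3 → ZMod p) × ℤˣ :=
    { toFun := fun x => (x.left, x.right), invFun := fun x => ⟨x.1, x.2⟩, left_inv := fun x => rfl, right_inv := fun x => rfl }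
  haveI : Finite (Multiplicative (Fin 3 → ZMod p) ⋊[invAct p] ℤˣ) := Finite.of_equiv _ e.symm
  refine ⟨Multiplicative (Fin 3 → ZMod p) ⋊[invAct p] ℤˣ, inferInstance, inferInstance, ?_, fun N => ?_⟩
  · rw [Nat.card_congr e, Nat.card_prod, Nat.card_congr Multiplicative.toAdd, Nat.card_fun, Nat.card_zmod,
      Nat.card_fin, Nat.card_eq_fintype_card, Fintype.card_units_int, mul_comm]
  obtain ⟨m, hm, hm2, hN⟩ : ∃ m, Even m ∧ 2 ≤ m ∧ N ≤ m := ⟨2 * (N + 1), even_two_mul _, by omega, by omega⟩
  let L := (toFin p m).toMonoidHom.comp (repHom p m hm)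
  have hcen : ∀ A : Matrix.SpecialLinearGroup (Fin (m + m)) (ZMod p), A ∈ Subgroup.center _ →
      ∃ r : ZMod p, ((toFin p m).symm A).1 = r • (1 : Matrix (Sum2 m) (Sum2 m) (ZMod p)) := by
    intro A hA
    have hA' : (toFin p m).symm A ∈ Subgroup.center _ := by
      rw [Subgroup.mem_center_iff]
      intro h
      apply (toFin p m).injective
      rw [map_mul, map_mul, MulEquiv.apply_symm_apply]
      exact Subgroup.mem_center_iff.1 hA _
    obtain ⟨r, -, hr⟩ := Matrix.SpecialLinearGroup.mem_center_iff.1 hA'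
    exact ⟨r, by rw [← hr, Matrix.smul_one_eq_diagonal]; rfl⟩
  refine ⟨m + m, by omega, (QuotientGroup.mk' (Subgroup.center _)).comp L, ?_, ?_⟩
  · refine (injective_iff_map_eq_one _).2 fun x hx => ?_
    obtain ⟨r, hr⟩ := hcen _ ((QuotientGroup.eq_one_iff _).1 hx)
    rw [show (toFin p m).symm (L x) = repHom p m hm x from (toFin p m).symm_apply_apply _, repHom_val,
      ← Matrix.fromBlocks_one, Matrix.fromBlocks_smul, Matrix.fromBlocks_inj, smul_zero] at hr
    obtain ⟨h11, h12, -, h22⟩ := hr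
    have hr1 : r = 1 := by
      have := congrFun (congrFun h22 ⟨0, by omega⟩) ⟨0, by omega⟩
      simpa using this.symm
    subst hr1
    refine SemidirectProduct.ext ?_ ?_
    · apply Multiplicative.toAdd.injective
      funext i
      have e0 := congrFun (congrFun h12 ⟨0, by omega⟩) ⟨0, by omega⟩
      have e1 := congrFun (congrFun h12 ⟨0, by omega⟩) ⟨1, by omega⟩
      have e2 := congrFun (congrFun h12 ⟨1, by omega⟩) ⟨0, by omega⟩
      simp [pencil, shiftM, Fin.ext_iff] at e0 e1 e2
      fin_cases i <;> simp [e0, e1, e2]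
    · refine cast_units_eq_one p hp ?_
      have := congrFun (congrFun h11 ⟨0, by omega⟩) ⟨0, by omega⟩
      simpa using this
  · rw [Subgroup.eq_bot_iff_forall]
    intro q hq
    induction q using QuotientGroup.induction_on with
    | H g =>
      rw [QuotientGroup.eq_one_iff]
      have hg' : ∀ x, ∃ r : ZMod p, ((toFin p m).symm g).1 * (repHom p m hm x).1 =
          r • ((repHom p m hm x).1 * ((toFin p m).symm g).1) := by
        intro x
        have h1 : ((L x * g)⁻¹ * (g * L x)) ∈ Subgroup.center (Matrix.SpecialLinearGroup (Fin (m + m)) (ZMod p)) :=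
          QuotientGroup.eq.1 (Subgroup.mem_centralizer_iff.1 hq _ ⟨x, rfl⟩)
        obtain ⟨r, hr⟩ := hcen _ h1
        refine ⟨r, ?_⟩
        have h2 : (toFin p m).symm g * repHom p m hm x =
            (repHom p m hm x * (toFin p m).symm g) * (toFin p m).symm ((L x * g)⁻¹ * (g * L x)) := by
          rw [map_mul, map_inv, map_mul, map_mul,
            show (toFin p m).symm (L x) = repHom p m hm x from (toFin p m).symm_apply_apply _, mul_inv_cancel_left]
        have h3 := congrArg Subtype.val h2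
        simp only [Matrix.SpecialLinearGroup.coe_mul] at h3
        rw [h3, hr, Matrix.mul_smul, mul_one]
      have h4 := central_of_projective p m hp hm hm2 _ hg'
      rw [Subgroup.mem_center_iff] at h4 ⊢
      intro h
      apply (toFin p m).symm.injective
      rw [map_mul, map_mul]
      exact h4 _

end Cfsg.Agent.S2533
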