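import Cfsg.Statements.S2537
import Cfsg.Agent.Lib.Classical.DicksonClasses
import Cfsg.Agent.Lib.Classical.DicksonSolvable
import Cfsg.Agent.Lib.Solv.Hall

set_option autoImplicit false
open Cfsg

open Cfsg.Agent.Classical
open scoped MatrixGroups Classical Cfsg.Agent.Classical.Dickson

namespace Cfsg.Agent.S2537

/-- Let `F` be a finite field with `q` elements of characteristic `p ≥ 5`, and `ε = 1` if `q ≡ 1 (mod 4)`, `ε = -1` otherwise. Then `PSL(2, F)` has a Hall `{2, 3}`-subgroup if and only if `3` divides `q − ε`, or the `{2,3}`-part of `q² − 1` is 24, or the `{2,3}`-part of `q² − 1` is 48 (the `{2,3}`-part of `m` being the largest divisor of `m` with no prime factor other than 2 and 3). -/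
theorem result {F : Type*} [Field F] [Fintype F] {p : ℕ} [Fact p.Prime] [CharP F p]
    (hp : 5 ≤ p) (q : ℕ) (hq : Fintype.card F = q) :
    (∃ H : Subgroup (Matrix.ProjectiveSpecialLinearGroup (Fin 2) F), Cfsg.IsPiHall ({2, 3} : Set ℕ) H) ↔
      (3 ∣ q - 1 ∧ q % 4 = 1) ∨ (3 ∣ q + 1 ∧ q % 4 = 3) ∨
        2 ^ (q ^ 2 - 1).factorization 2 * 3 ^ (q ^ 2 - 1).factorization 3 = 24 ∨
        2 ^ (q ^ 2 - 1).factorization 2 * 3 ^ (q ^ 2 - 1).factorization 3 = 48 := by
  subst hq
  obtain ⟨n, hpp, hn⟩ := FiniteField.card F p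
  haveI : Finite (Matrix.ProjectiveSpecialLinearGroup (Fin 2) F) := Finite.of_surjective _ SL2Two.proj_surjective
  haveI : CharP (AlgebraicClosure F) p :=
    charP_of_injective_algebraMap (algebraMap F (AlgebraicClosure F)).injective p
  have hpr : ∀ r : ℕ, r.Prime → r < p → ¬ r ∣ Fintype.card F := by
    intro r hr hlt h
    rw [hn] at h
    have := (Nat.prime_dvd_prime_iff_eq hr hpp).1 (hr.dvd_of_dvd_pow h)
    omega
  have hq2 : Fintype.card F % 2 = 1 := by have := hpr 2 Nat.prime_two (by omega); omega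
  have hq3 : Fintype.card F % 3 ≠ 0 := fun h => hpr 3 Nat.prime_three (by omega) (Nat.dvd_of_mod_eq_zero h)
  have hq5 : 5 ≤ Fintype.card F := le_trans hp (hn ▸ Nat.le_self_pow n.ne_zero p)
  have h2F : (2 : F) ≠ 0 := SL2Two.two_ne_zero' (Nat.odd_iff.2 hq2)
  set M := Fintype.card F ^ 2 - 1 with hM
  have h8 : 2 ^ 3 ∣ M := by
    obtain ⟨j, hj⟩ : ∃ j, Fintype.card F = 2 * j + 1 := ⟨Fintype.card F / 2, by omega⟩
    obtain ⟨i, hi⟩ := (Nat.even_mul_succ_self j).two_dvd
    refine ⟨i, ?_⟩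
    rw [hM, hj, show (2 * j + 1) ^ 2 = 4 * (j * (j + 1)) + 1 by ring, hi]
    omega
  have h3M : 3 ∣ M := by
    have h : Fintype.card F ^ 2 % 3 = 1 := by
      rw [Nat.pow_mod]
      rcases (show Fintype.card F % 3 = 1 ∨ Fintype.card F % 3 = 2 by omega) with e | e <;> rw [e] <;> norm_num
    omega
  have hM0 : M ≠ 0 := by
    have : 25 ≤ Fintype.card F ^ 2 := Nat.pow_le_pow_left hq5 2
    omega
  set a := M.factorization 2 with ha
  set b := M.factorization 3 with hb
  have ha3 : 3 ≤ a := (Nat.Prime.pow_dvd_iff_le_factorization Nat.prime_two hM0).1 h8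
  have hb1 : 1 ≤ b := (Nat.Prime.pow_dvd_iff_le_factorization (k := 1) Nat.prime_three hM0).1 (by simpa using h3M)
  obtain ⟨R, hR⟩ : 2 ^ a * 3 ^ b ∣ M :=
    ((Nat.coprime_primes Nat.prime_two Nat.prime_three).2 (by norm_num)).pow _ _ |>.mul_dvd_of_dvd_of_dvd
      (Nat.ordProj_dvd M 2) (Nat.ordProj_dvd M 3)
  have hR2 : ¬ 2 ∣ R := fun ⟨s, hs⟩ => Nat.pow_succ_factorization_not_dvd hM0 Nat.prime_two
    ⟨3 ^ b * s, by rw [← ha, hR, hs]; ring⟩
  have hR3 : ¬ 3 ∣ R := fun ⟨s, hs⟩ => Nat.pow_succ_factorization_not_dvd hM0 Nat.prime_three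
    ⟨2 ^ a * s, by rw [← hb, hR, hs]; ring⟩
  set m := 2 ^ (a - 1) * 3 ^ b with hm
  have hPm : 2 ^ a * 3 ^ b = 2 * m := by
    rw [hm, ← mul_assoc, ← pow_succ', Nat.sub_add_cancel (by omega)]
  have hG := SL2.card_PSL2_mul (F := F)
  rw [Nat.gcd_eq_left (show 2 ∣ Fintype.card F - 1 by omega), ← hM, hR, hPm] at hG
  have hN : Nat.card (Matrix.ProjectiveSpecialLinearGroup (Fin 2) F) = m * (Fintype.card F * R) :=
    Nat.eq_of_mul_eq_mul_left two_pos (hG.trans (by ring))
  have h12 : 12 ∣ m := by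
    obtain ⟨i, hi⟩ := Nat.exists_eq_add_of_le ha3
    obtain ⟨j, hj⟩ := Nat.exists_eq_add_of_le hb1
    exact ⟨2 ^ i * 3 ^ j, by rw [hm, hi, hj, show 3 + i - 1 = 2 + i by omega, pow_add, pow_add]; ring⟩
  have hpm : ∀ r : ℕ, r.Prime → r ∣ m → r = 2 ∨ r = 3 := by
    intro r hr h
    rcases hr.dvd_mul.1 h with h | h
    · exact Or.inl ((Nat.prime_dvd_prime_iff_eq hr Nat.prime_two).1 (hr.dvd_of_dvd_pow h))
    · exact Or.inr ((Nat.prime_dvd_prime_iff_eq hr Nat.prime_three).1 (hr.dvd_of_dvd_pow h))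
  have hqR : ∀ r : ℕ, r = 2 ∨ r = 3 → ¬ r ∣ Fintype.card F * R := by
    rintro r (rfl | rfl) h
    · exact (Nat.prime_two.dvd_mul.1 h).elim (hpr 2 Nat.prime_two (by omega)) hR2
    · exact (Nat.prime_three.dvd_mul.1 h).elim (hpr 3 Nat.prime_three (by omega)) hR3
  have hcop : m.Coprime (Fintype.card F * R) :=
    Nat.coprime_of_dvd fun r hr h h' => hqR r (hpm r hr h) h'
  have mk : ∀ H : Subgroup (Matrix.ProjectiveSpecialLinearGroup (Fin 2) F), Nat.card H = m →
      Cfsg.IsPiHall ({2, 3} : Set ℕ) H := by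
    intro H hH
    refine ⟨fun r hr h => hpm r hr (hH ▸ h), fun r _ hrπ h => ?_⟩
    have hidx : H.index = Fintype.card F * R := by
      have h := H.card_mul_index
      rw [hH, hN] at h
      exact Nat.eq_of_mul_eq_mul_left (by rw [← hH]; exact Nat.card_pos) h
    exact hqR r hrπ (hidx ▸ h)
  have A := Dickson.ambient_pslF (F := F)
  rw [Nat.gcd_eq_left (show 2 ∣ Fintype.card F - 1 by omega)] at A
  set e := (Fintype.card F - 1) / 2 with he
  set e' := (Fintype.card F + 1) / 2 with he'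
  constructor
  · rintro ⟨H, hHp, hHi⟩
    have hH : Nat.card H = m := by
      have h := H.card_mul_index
      rw [hN] at h
      have c1 : (Nat.card H).Coprime (Fintype.card F * R) :=
        Nat.coprime_of_dvd fun r hr hd hd' => hqR r (hHp r hr hd) hd'
      have c2 : m.Coprime H.index :=
        Nat.coprime_of_dvd fun r hr hd hd' => hHi r hr (hpm r hr hd) hd'
      exact Nat.dvd_antisymm (c1.dvd_of_dvd_mul_right ⟨_, h.symm⟩)
        (c2.dvd_of_dvd_mul_right ⟨_, h⟩)
    set H' := H.map Dickson.emb with hH'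
    have hH'c : Nat.card H' = m := (Subgroup.card_map_of_injective Dickson.emb_injective).trans hH
    have hle : H' ≤ Dickson.pslF F := by rintro _ ⟨g, -, rfl⟩; exact ⟨g, rfl⟩
    have hne : H' ≠ ⊥ := fun h => by
      rw [h, Subgroup.card_bot] at hH'c
      rw [← hH'c] at h12
      omega
    haveI : Finite H' := Finite.of_injective _ (Subgroup.inclusion_injective hle)
    have torus : ∀ k, (k = e ∨ k = e') → 6 ∣ k →
        (3 ∣ Fintype.card F - 1 ∧ Fintype.card F % 4 = 1) ∨ (3 ∣ Fintype.card F + 1 ∧ Fintype.card F % 4 = 3) := by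
      intro k hk h6
      rcases hk with rfl | rfl
      · exact Or.inl (by omega)
      · exact Or.inr (by omega)
    rcases Dickson.sub_cases p (Dickson.pslF_le F) le_rfl A (by omega) hle hne with
      ⟨x, hx, hHx⟩ | ⟨D, k, hk, hHD, -, hDc, -⟩ | ⟨-, -, ⟨f⟩⟩ | ⟨-, -, ⟨f⟩⟩ | ⟨-, -, -, ⟨f⟩⟩ |
      ⟨K₀, c, -, hK, h3, -, hcase⟩
    · have h := Subgroup.card_dvd_of_le hHx
      rw [hH'c, Dickson.card_st, Dickson.qOf_orb _ hx, Dickson.eOf_orb _ hx, A.hq, A.he] at h
      have he12 : 12 ∣ e := (Nat.Coprime.dvd_of_dvd_mul_left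
        (Nat.coprime_of_dvd fun r hr hd hd' => by
          rcases (Nat.le_of_dvd (by norm_num) hd) |>.lt_or_eq with _ | rfl
          · exact hqR r (hpm r hr (hd.trans h12)) (dvd_mul_of_dvd_left hd' _)
          · norm_num at hr) (h12.trans h))
      exact (torus e (Or.inl rfl) ((dvd_mul_left 6 2).trans he12)).imp_right Or.inl
    · have h := Subgroup.card_dvd_of_le hHD
      rw [hH'c, hDc] at h
      have h6 : 6 ∣ k := by obtain ⟨w, hw⟩ := h12.trans h; exact ⟨w, by omega⟩
      exact (torus k hk h6).imp_right Or.inl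
    · refine Or.inr (Or.inr (Or.inl ?_))
      rw [hPm, ← hH'c, Nat.card_congr f.toEquiv, nat_card_alternatingGroup, Nat.card_fin]; decide
    · refine Or.inr (Or.inr (Or.inr ?_))
      rw [hPm, ← hH'c, Nat.card_congr f.toEquiv, Nat.card_perm, Nat.card_fin]; decide
    · exfalso
      have h5 : 5 ∣ m := by
        rw [← hH'c, Nat.card_congr f.toEquiv, nat_card_alternatingGroup, Nat.card_fin]; decide
      rcases hpm 5 (by norm_num) h5 with h | h <;> omega
    · exfalso
      obtain ⟨i, hi, hic⟩ := Dickson.card_subfield_pow p hK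
      have hpK : p ∣ Nat.card K₀ := hic ▸ dvd_pow_self p (by omega)
      have hp2m : p ∣ 2 * m := by
        rw [← hH'c]
        rcases hcase with ⟨hc, -⟩ | ⟨-, hc, -⟩ <;> rw [hc]
        · exact Dvd.dvd.mul_left (Dvd.dvd.mul_right hpK _) _
        · exact Dvd.dvd.mul_right hpK _
      rcases hpp.dvd_mul.1 hp2m with h | h
      · have := Nat.le_of_dvd two_pos h; omega
      · rcases hpm p hpp h with h | h <;> omega
  · intro hcases
    have fromTorus : ∀ k k', ((k = e ∧ k' = e') ∨ (k = e' ∧ k' = e)) → 6 ∣ k → ∃ H : Subgroup (Matrix.ProjectiveSpecialLinearGroup (Fin 2) F), Nat.card H = m := by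
      intro k k' hk h6
      have hk' : k = e ∨ k = e' := hk.imp (·.1) (·.1)
      obtain ⟨g, hg⟩ := Dickson.exists_orderOf_torus A hk'
      have hg' : orderOf (Dickson.emb g) = k := (orderOf_injective _ Dickson.emb_injective g).trans hg
      have hk0 : k ≠ 0 := by rcases hk' with r | r <;> omega
      have hk6 : 6 ≤ k := Nat.le_of_dvd (Nat.pos_of_ne_zero hk0) h6
      have hne : Dickson.emb g ≠ 1 := fun h => by rw [h, orderOf_one] at hg'; omega
      obtain ⟨x, y, hxy, hx, hy⟩ : ∃ x y, x ≠ y ∧ Dickson.emb g • x = x ∧ Dickson.emb g • y = y := by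
        rcases Dickson.fixed_cases hne with ⟨x, hx, -⟩ | ⟨x, y, hxy, -, -, h⟩
        · exfalso
          have hd : k ∣ p := hg' ▸ orderOf_dvd_of_pow_eq_one (Dickson.pow_char_of_isTr hx)
          have := hpp.eq_one_or_self_of_dvd _ (h6.trans hd)
          rcases this with h | h
          · omega
          · rw [← h] at hpp; norm_num at hpp
        · exact ⟨x, y, hxy, (h x).2 (Or.inl rfl), (h y).2 (Or.inr rfl)⟩
      obtain ⟨k'', hk'', hgD, hDc, ⟨f⟩, -⟩ := A.torus (by omega) ⟨g, rfl⟩ hxy hne hx hy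
      have hkd : k ∣ 2 * k'' := hDc ▸ hg' ▸ Subgroup.orderOf_dvd_natCard _ hgD
      obtain rfl : k'' = k := by
        obtain ⟨i, hi⟩ := h6
        rcases hk'' with r | r <;> rcases hk' with r' | r'
        · omega
        · exfalso
          obtain ⟨w, hw⟩ := hkd
          have hlt : 2 * k'' < k * 3 := by omega
          rw [hw] at hlt
          have hw3 : w < 3 := Nat.lt_of_mul_lt_mul_left hlt
          interval_cases w <;> omega
        · exfalso
          obtain ⟨w, hw⟩ := hkd
          have hlt : 2 * k'' < k * 3 := by omega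
          rw [hw] at hlt
          have hw3 : w < 3 := Nat.lt_of_mul_lt_mul_left hlt
          interval_cases w <;> omega
        · omega
      haveI := Dickson.isSolvable_dihedral k''
      haveI : NeZero k'' := ⟨hk0⟩
      have hdm : m ∣ 2 * k'' := by
        have hee : 2 * k'' * (Fintype.card F * k') = m * (Fintype.card F * R) := by
          rw [← hN, ← Dickson.card_pslF, A.card]
          rcases hk with ⟨r, r'⟩ | ⟨r, r'⟩ <;> rw [r, r', show Fintype.card F + 1 = 2 * e' by omega] <;> ring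
        refine Nat.Coprime.dvd_of_dvd_mul_right (Nat.coprime_of_dvd fun r hr hd hd' => ?_) ⟨_, hee⟩
        rcases hr.dvd_mul.1 hd' with h | h
        · exact hqR r (hpm r hr hd) (dvd_mul_of_dvd_left h _)
        · rcases hpm r hr hd with rfl | rfl <;> rcases hk with ⟨r1, r2⟩ | ⟨r1, r2⟩ <;> omega
      obtain ⟨nn, hnn⟩ := hdm
      have hcop2 : m.Coprime nn := by
        refine Nat.coprime_of_dvd fun r hr hd hd' => ?_
        have h1 : m * r ∣ m * (Fintype.card F * R) := by
          rw [← hN, ← Dickson.card_pslF]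
          refine dvd_trans ?_ (Subgroup.card_dvd_of_le (show Dickson.Ambient.pairStab (Dickson.pslF F) x y ≤ Dickson.pslF F from inf_le_left))
          rw [hDc, hnn]; exact Nat.mul_dvd_mul_left m hd'
        exact hqR r (hpm r hr hd) ((Nat.mul_dvd_mul_iff_left (Nat.pos_of_ne_zero fun h => by rw [h] at hnn; omega)).1 h1)
      obtain ⟨S, hS⟩ := Cfsg.Agent.Solv.hall_exists (G := DihedralGroup k'') (by rw [DihedralGroup.nat_card, hnn]) hcop2
      refine ⟨((S.map f.symm.toMonoidHom).map (Subgroup.subtype _)).comap Dickson.emb, ?_⟩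
      rw [← Subgroup.card_map_of_injective Dickson.emb_injective (K := Subgroup.comap _ _), Subgroup.map_comap_eq_self,
        Subgroup.card_map_of_injective Subtype.val_injective, Subgroup.card_map_of_injective f.symm.injective, hS]
      rintro _ ⟨z, -, rfl⟩
      exact z.2.1
    obtain ⟨⟨V, hV⟩⟩ : Nonempty {V : Subgroup (Matrix.ProjectiveSpecialLinearGroup (Fin 2) F) // IsKleinFour V} := by
      have hk := SL2Two.twelve_mul_card_klein (F := F) h2F
      by_contra hc
      rw [not_nonempty_iff] at hc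
      rw [Nat.card_of_isEmpty, mul_zero] at hk
      exact Nat.card_pos.ne hk
    obtain ⟨hN24, hN12, -⟩ := SL2Two.card_normalizer_klein_dvd h2F V hV
    have hNG := (Subgroup.normalizer (V : Set (Matrix.ProjectiveSpecialLinearGroup (Fin 2) F))).card_subgroup_dvd_card
    rw [hN] at hNG
    rcases hcases with ⟨h3, h4⟩ | ⟨h3, h4⟩ | h24 | h48
    · obtain ⟨H, hH⟩ := fromTorus e e' (Or.inl ⟨rfl, rfl⟩) (by omega)
      exact ⟨H, mk H hH⟩
    · obtain ⟨H, hH⟩ := fromTorus e' e (Or.inr ⟨rfl, rfl⟩) (by omega)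
      exact ⟨H, mk H hH⟩
    · refine ⟨_, mk (Subgroup.normalizer (V : Set _)) ?_⟩
      rw [hPm] at h24
      have hm12 : m = 12 := by omega
      have h12' : Nat.card (Subgroup.normalizer (V : Set (Matrix.ProjectiveSpecialLinearGroup (Fin 2) F))) ≠ 24 := by
        intro hc
        rw [hc, hm12] at hNG
        refine hqR 2 (Or.inl rfl) ((Nat.mul_dvd_mul_iff_left (show 0 < 12 by norm_num)).1 hNG)
      have := Nat.le_of_dvd (by norm_num) hN24
      have := Nat.card_pos (α := Subgroup.normalizer (V : Set (Matrix.ProjectiveSpecialLinearGroup (Fin 2) F)))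
      omega
    · refine ⟨_, mk (Subgroup.normalizer (V : Set _)) ?_⟩
      rw [hPm] at h48
      have hm24 : m = 24 := by omega
      rw [hm24]
      refine SL2Two.card_normalizer_klein h2F ?_ V hV
      by_contra hne
      have h16 : (2 : ℕ) ^ 4 ∣ Fintype.card F ^ 2 - 1 := by
        rw [← hM, hR, hPm, hm24]; exact ⟨3 * R, by ring⟩
      obtain ⟨j, hj⟩ : ∃ j, Fintype.card F = 8 * j + 3 ∨ Fintype.card F = 8 * j + 5 := ⟨Fintype.card F / 8, by omega⟩
      rcases hj with hj | hj <;> rw [hj] at h16 <;> ring_nf at h16 <;> omega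

end Cfsg.Agent.S2537
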