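import Cfsg.Statements.S2540
import Cfsg.Agent.Lib.Classical.Linear

set_option autoImplicit false
open Cfsg
open Matrix
open scoped commutatorElement
set_option maxHeartbeats 1000000

namespace Cfsg.Agent.S2540

/-- Let F be a finite field and n ≥ 1, excluding the case n = 2 with #F ≤ 3. A subgroup of GL_n(F) that is normalized by every element of SL_n(F) either consists of scalar matrices or contains SL_n(F). -/
theorem result {F : Type*} [Field F] [Fintype F] (n : ℕ) (hn : 1 ≤ n) (hex : ¬ (n = 2 ∧ Fintype.card F ≤ 3)) (G : Subgroup (Matrix.GeneralLinearGroup (Fin n) F)) (hG : ∀ s : Matrix.SpecialLinearGroup (Fin n) F, ∀ g ∈ G, (Matrix.SpecialLinearGroup.toGL s) * g * (Matrix.SpecialLinearGroup.toGL s)⁻¹ ∈ G) : (∀ g ∈ G, ∃ c : F, (g : Matrix (Fin n) (Fin n) F) = c • (1 : Matrix (Fin n) (Fin n) F)) ∨ (Matrix.SpecialLinearGroup.toGL : Matrix.SpecialLinearGroup (Fin n) F →* _).range ≤ G := by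
  classical
  rcases eq_or_lt_of_le hn with h1 | h1
  · subst h1
    refine Or.inl fun g _ => ⟨(g : Matrix (Fin 1) (Fin 1) F) 0 0, ?_⟩
    ext i j
    rw [Subsingleton.elim i 0, Subsingleton.elim j 0]
    simp
  haveI : Nontrivial (Fin n) := Fin.nontrivial_iff_two_le.2 h1
  have hyp : 3 ≤ Fintype.card (Fin n) ∨ ∃ a : F, a ≠ 0 ∧ a ^ 2 ≠ 1 := by
    rcases Nat.lt_or_ge n 3 with h3 | h3
    swap
    · exact Or.inl (by simpa using h3)
    right
    by_contra hno
    push Not at hno
    have hq : 4 ≤ Fintype.card F := by by_contra hq; exact hex ⟨by omega, by omega⟩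
    have hsub : (Finset.univ : Finset F) ⊆ {0, 1, -1} := fun a _ => by
      rcases eq_or_ne a 0 with rfl | ha
      · simp
      · rcases (sq_eq_one_iff (a := a)).1 (hno a ha) with rfl | rfl <;> simp
    have := (Finset.card_le_card hsub).trans (Finset.card_le_three)
    rw [Finset.card_univ] at this
    omega
  set H := G.comap (Matrix.SpecialLinearGroup.toGL : Matrix.SpecialLinearGroup (Fin n) F →* _)
  haveI : H.Normal := ⟨fun s hs t => by
    rw [Subgroup.mem_comap, map_mul, map_mul, map_inv]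
    exact hG t _ hs⟩
  set Z := Subgroup.center (Matrix.SpecialLinearGroup (Fin n) F)
  set π := QuotientGroup.mk' Z
  haveI := Cfsg.Agent.Classical.PSL_simple (ι := Fin n) (F := F) hyp
  have hperf := Cfsg.Agent.Classical.SL_commutator_eq_top (ι := Fin n) (F := F) hyp
  haveI hMn : (H.map π).Normal := Subgroup.Normal.map inferInstance π (QuotientGroup.mk'_surjective Z)
  rcases hMn.eq_bot_or_eq_top with hbot | htop
  · left
    have hHZ : H ≤ Z := fun s hs => (QuotientGroup.eq_one_iff s).1 (Subgroup.mem_bot.1 (hbot ▸ Subgroup.mem_map_of_mem π hs))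
    intro g hg
    have hmem : ∀ s : Matrix.SpecialLinearGroup (Fin n) F, ∃ c : Matrix.SpecialLinearGroup (Fin n) F,
        c ∈ Z ∧ SpecialLinearGroup.toGL c = ⁅g, SpecialLinearGroup.toGL s⁆ := by
      intro s
      have hG' : ⁅g, SpecialLinearGroup.toGL s⁆ ∈ G := by
        rw [commutatorElement_def, show g * SpecialLinearGroup.toGL s * g⁻¹ * (SpecialLinearGroup.toGL s)⁻¹ =
          g * (SpecialLinearGroup.toGL s * g⁻¹ * (SpecialLinearGroup.toGL s)⁻¹) by group]
        exact mul_mem hg (hG s _ (inv_mem hg))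
      have hdet : ⁅g, SpecialLinearGroup.toGL s⁆ ∈ (SpecialLinearGroup.toGL : Matrix.SpecialLinearGroup (Fin n) F →* _).range := by
        rw [Cfsg.Agent.Classical.range_toGL, MonoidHom.mem_ker, map_commutatorElement,
          commutatorElement_eq_one_iff_mul_comm, mul_comm]
      obtain ⟨c, hc⟩ := hdet
      exact ⟨c, hHZ (show c ∈ H by rw [Subgroup.mem_comap, hc]; exact hG'), hc⟩
    choose f hfZ hf using hmem
    have hfc : ∀ (s : Matrix.SpecialLinearGroup (Fin n) F) (t : Matrix.SpecialLinearGroup (Fin n) F),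
        Commute (⁅g, SpecialLinearGroup.toGL s⁆) (SpecialLinearGroup.toGL t) := fun s t => by
      rw [← hf s]
      exact ((show Commute (f s) t from (Subgroup.mem_center_iff.1 (hfZ s) t).symm)).map SpecialLinearGroup.toGL
    have hmul : ∀ s t, f (s * t) = f s * f t := fun s t => SpecialLinearGroup.toGL_injective (by
      rw [map_mul, hf, hf, hf, map_mul, show ⁅g, SpecialLinearGroup.toGL s * SpecialLinearGroup.toGL t⁆ =
        ⁅g, SpecialLinearGroup.toGL s⁆ * (SpecialLinearGroup.toGL s * ⁅g, SpecialLinearGroup.toGL t⁆ * (SpecialLinearGroup.toGL s)⁻¹) by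
          simp only [commutatorElement_def]; group, ← (hfc t s).eq, mul_inv_cancel_right])
    let φ : Matrix.SpecialLinearGroup (Fin n) F →* Z := MonoidHom.mk' (fun s => ⟨f s, hfZ s⟩) fun s t => Subtype.ext (hmul s t)
    have hone : ∀ s, φ s = 1 := fun s => by
      have hle : commutator (Matrix.SpecialLinearGroup (Fin n) F) ≤ φ.ker := by
        rw [commutator_eq_closure, Subgroup.closure_le]
        rintro _ ⟨a, b, rfl⟩
        show φ ⁅a, b⁆ = 1
        rw [map_commutatorElement, commutatorElement_eq_one_iff_mul_comm]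
        exact Subtype.ext (Subgroup.mem_center_iff.1 (φ b).2 _)
      exact MonoidHom.mem_ker.1 (hle (hperf ▸ Subgroup.mem_top s))
    have hcomm : ∀ s, g * SpecialLinearGroup.toGL s = SpecialLinearGroup.toGL s * g := fun s => by
      rw [← commutatorElement_eq_one_iff_mul_comm, ← hf s, show f s = 1 from congrArg Subtype.val (hone s), map_one]
    obtain ⟨c, hc⟩ := Matrix.mem_range_scalar_of_commute_transvectionStruct (M := (g : Matrix (Fin n) (Fin n) F))
      (fun t => by
        have h := congrArg Units.val (hcomm ⟨t.toMatrix, t.det⟩)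
        exact h.symm)
    refine ⟨c, ?_⟩
    rw [← hc]
    ext i j
    by_cases h : i = j <;> simp [h, Matrix.scalar_apply, Matrix.one_apply]
  · right
    rintro _ ⟨s, rfl⟩
    suffices hs : s ∈ H from hs
    have hle : commutator (Matrix.SpecialLinearGroup (Fin n) F) ≤ H := by
      rw [commutator_eq_closure, Subgroup.closure_le]
      rintro _ ⟨a, b, rfl⟩
      obtain ⟨a', ha', hae⟩ : π a ∈ H.map π := htop ▸ Subgroup.mem_top _
      obtain ⟨z, hz, rfl⟩ : ∃ z ∈ Z, a = a' * z := ⟨a'⁻¹ * a, QuotientGroup.eq.1 hae, by group⟩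
      rw [SetLike.mem_coe, show ⁅a' * z, b⁆ = a' * (z * b) * z⁻¹ * a'⁻¹ * b⁻¹ by simp only [commutatorElement_def]; group,
        ← Subgroup.mem_center_iff.1 hz b, show a' * (b * z) * z⁻¹ * a'⁻¹ * b⁻¹ = a' * (b * a'⁻¹ * b⁻¹) by group]
      exact mul_mem ha' (Subgroup.Normal.conj_mem ‹H.Normal› _ (inv_mem ha') b)
    exact hle (hperf ▸ Subgroup.mem_top s)

end Cfsg.Agent.S2540
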