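import Cfsg.Statements.S2541

set_option autoImplicit false
open Cfsg

namespace Cfsg.Agent.S2541

/-- Let F be a field with 9 elements. The symmetric group S_6 is not isomorphic to PGL_2(F) (although both have index-2 subgroups isomorphic to A_6). -/
theorem result {F : Type*} [Field F] [Fintype F] (hF : Fintype.card F = 9) : ¬ Nonempty (Equiv.Perm (Fin 6) ≃* Matrix.ProjGenLinGroup (Fin 2) F) := by
  classical
  rintro ⟨e⟩
  obtain ⟨g, hg⟩ := IsCyclic.exists_generator (α := Fˣ)
  have hg8 : orderOf g = 8 := by
    rw [orderOf_eq_card_of_forall_mem_zpowers hg, Nat.card_eq_fintype_card, Fintype.card_units, hF]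
  let D : Fˣ →* GL (Fin 2) F :=
    { toFun := fun x => Matrix.GeneralLinearGroup.mkOfDetNeZero !![(x : F), 0; 0, 1]
        (by simp [Matrix.det_fin_two])
      map_one' := Units.ext (by simp [Matrix.one_fin_two, Matrix.GeneralLinearGroup.mkOfDetNeZero])
      map_mul' := fun x y => Units.ext (by simp [Matrix.GeneralLinearGroup.mkOfDetNeZero]) }
  have hinj : Function.Injective (Matrix.ProjGenLinGroup.mk.comp D) := by
    rw [injective_iff_map_eq_one]
    intro x hx
    rw [MonoidHom.comp_apply, Matrix.ProjGenLinGroup.mk_eq_one] at hx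
    let T : GL (Fin 2) F := Matrix.GeneralLinearGroup.mkOfDetNeZero !![1, 1; 0, 1] (by simp [Matrix.det_fin_two])
    have h := congrArg (fun M : GL (Fin 2) F => (M : Matrix (Fin 2) (Fin 2) F) 0 1) (Subgroup.mem_center_iff.1 hx T)
    simp [D, T, Matrix.GeneralLinearGroup.mkOfDetNeZero, Matrix.mul_apply, Fin.sum_univ_two] at h
    first | exact Units.ext h | exact Units.ext h.symm
  set s := e.symm ((Matrix.ProjGenLinGroup.mk.comp D) g) with hs
  have hs8 : orderOf s = 8 := by
    rw [hs, show orderOf (e.symm ((Matrix.ProjGenLinGroup.mk.comp D) g)) = orderOf ((Matrix.ProjGenLinGroup.mk.comp D) g) from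
      orderOf_injective e.symm.toMonoidHom e.symm.injective _, orderOf_injective _ hinj g, hg8]
  have hlcm := Equiv.Perm.lcm_cycleType s
  have : s.cycleType.lcm ∣ 4 := Multiset.lcm_dvd.2 fun a ha => by
    have h1 : a ∣ 8 := hs8 ▸ hlcm ▸ Multiset.dvd_lcm ha
    have h2 : a ≤ 6 := by
      refine (Multiset.le_sum_of_mem ha).trans ?_
      rw [Equiv.Perm.sum_cycleType]
      simpa using Finset.card_le_univ s.support
    have h3 : 1 ≤ a := le_trans (by norm_num) (Equiv.Perm.two_le_of_mem_cycleType ha)
    interval_cases a <;> omega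
  rw [hlcm, hs8] at this
  exact absurd this (by norm_num)

end Cfsg.Agent.S2541
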