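import Cfsg.Statements.S2542
import Cfsg.Agent.Lib.Classical.IcosaClasses
import Cfsg.Agent.S0675

set_option autoImplicit false
open Cfsg

open Cfsg.Agent.Classical
open scoped MatrixGroups Classical

namespace Cfsg.Agent.S2542

/-- Let F be a field with 11 elements. PSL_2(F) has a subgroup H of index 11 isomorphic to the alternating group A_5, and the action of PSL_2(F) on the cosets of H is 2-transitive (of degree 11). -/
theorem result {F : Type*} [Field F] [Fintype F] (hF : Fintype.card F = 11) : ∃ H : Subgroup (Matrix.ProjectiveSpecialLinearGroup (Fin 2) F), H.index = 11 ∧ Nonempty (H ≃* alternatingGroup (Fin 5)) ∧ MulAction.IsMultiplyPretransitive (Matrix.ProjectiveSpecialLinearGroup (Fin 2) F) ((Matrix.ProjectiveSpecialLinearGroup (Fin 2) F) ⧸ H) 2 := by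
  haveI : Finite (Matrix.ProjectiveSpecialLinearGroup (Fin 2) F) := Finite.of_surjective _ SL2Two.proj_surjective
  obtain ⟨t, ht⟩ := Icosa.exists_root (F := F) (by rw [hF]; norm_num)
  obtain ⟨A, B, hAB⟩ := Icosa.exists_isPair ht
  obtain ⟨eH⟩ := hAB.nonempty_grp
  set H := Icosa.IsPair.grp A B
  have hH60 : Nat.card H = 60 := hAB.card_grp
  have hG := SL2.card_PSL2_mul (F := F)
  rw [hF, show Nat.gcd 2 (11 - 1) = 2 by decide, show 11 * (11 ^ 2 - 1) = 1320 by decide] at hG
  have hidx : H.index = 11 := by
    have h := H.card_mul_index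
    rw [hH60] at h
    omega
  refine ⟨H, hidx, ⟨eH⟩, ?_⟩
  haveI := Dickson.psl_simple_of_four_le (F := F) (by rw [hF]; norm_num)
  haveI : Fintype (Matrix.ProjectiveSpecialLinearGroup (Fin 2) F ⧸ H) := Fintype.ofFinite _
  let φ := MulAction.toPermHom (Matrix.ProjectiveSpecialLinearGroup (Fin 2) F) (Matrix.ProjectiveSpecialLinearGroup (Fin 2) F ⧸ H)
  haveI : MulAction.IsPretransitive φ.range (Matrix.ProjectiveSpecialLinearGroup (Fin 2) F ⧸ H) := ⟨fun x y => by
    obtain ⟨g, hg⟩ := MulAction.exists_smul_eq (Matrix.ProjectiveSpecialLinearGroup (Fin 2) F) x y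
    exact ⟨⟨φ g, g, rfl⟩, hg⟩⟩
  have hp : (Fintype.card (Matrix.ProjectiveSpecialLinearGroup (Fin 2) F ⧸ H)).Prime := by
    rw [← Nat.card_eq_fintype_card, ← Subgroup.index_eq_card, hidx]; norm_num
  have hinj : Function.Injective φ := by
    rcases φ.normal_ker.eq_bot_or_eq_top with h | h
    · exact (MonoidHom.ker_eq_bot_iff φ).1 h
    · exfalso
      have htop : H = ⊤ := by
        rw [eq_top_iff]
        intro g _
        have hg : φ g = 1 := MonoidHom.mem_ker.1 (h ▸ Subgroup.mem_top g)
        have h' := congrArg (fun s : Equiv.Perm _ => s ((1 : Matrix.ProjectiveSpecialLinearGroup (Fin 2) F) : Matrix.ProjectiveSpecialLinearGroup (Fin 2) F ⧸ H)) hg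
        simp only [φ, MulAction.toPermHom_apply, MulAction.toPerm_apply, Equiv.Perm.coe_one, id_eq,
          MulAction.Quotient.smul_coe, smul_eq_mul, mul_one] at h'
        simpa using (QuotientGroup.eq.1 h')
      rw [htop, Subgroup.index_top] at hidx
      omega
  rcases S0675.result hp φ.range with hs | h2
  · exfalso
    haveI : Group.IsSolvable (Matrix.ProjectiveSpecialLinearGroup (Fin 2) F) :=
      solvable_of_solvable_injective (f := φ.rangeRestrict) (fun a b e => hinj (congrArg Subtype.val e))
    haveI : Group.IsSolvable (alternatingGroup (Fin 5)) :=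
      solvable_of_solvable_injective (f := H.subtype.comp eH.symm.toMonoidHom) fun a b e => eH.symm.injective (Subtype.ext e)
    have hcomm : ∀ a b : alternatingGroup (Fin 5), a * b = b * a :=
      fun a b => IsSimpleGroup.comm_iff_isSolvable.2 inferInstance a b
    obtain ⟨a, b, -, -, -, -, -, -, h⟩ := Dickson.alt_five_gens
    exact h (by rw [commutatorElement_eq_one_iff_mul_comm]; exact hcomm _ _)
  · rw [MulAction.is_two_pretransitive_iff] at h2 ⊢
    intro a b c d hab hcd
    obtain ⟨⟨_, g, rfl⟩, hg⟩ := h2 hab hcd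
    exact ⟨g, hg⟩

end Cfsg.Agent.S2542
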