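import Cfsg.Statements.S2543
import Cfsg.Agent.Lib.Classical.IcosaClasses

set_option autoImplicit false
open scoped Pointwise
open Cfsg

open Cfsg.Agent.Classical
open scoped MatrixGroups Classical Cfsg.Agent.Classical.Dickson
open OnePoint

namespace Cfsg.Agent.S2543

/-- Let F be a field with 11 elements. PSL_2(F) has exactly 22 subgroups isomorphic to the alternating group A_5, and they form two conjugacy classes: there are two such subgroups that are not conjugate, and every such subgroup is conjugate to one of these two. -/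
theorem result {F : Type*} [Field F] [Fintype F] (hF : Fintype.card F = 11) : Nat.card {H : Subgroup (Matrix.ProjectiveSpecialLinearGroup (Fin 2) F) // Nonempty (H ≃* alternatingGroup (Fin 5))} = 22 ∧ ∃ H K : Subgroup (Matrix.ProjectiveSpecialLinearGroup (Fin 2) F), Nonempty (H ≃* alternatingGroup (Fin 5)) ∧ Nonempty (K ≃* alternatingGroup (Fin 5)) ∧ (∀ g : Matrix.ProjectiveSpecialLinearGroup (Fin 2) F, MulAut.conj g • H ≠ K) ∧ ∀ L : Subgroup (Matrix.ProjectiveSpecialLinearGroup (Fin 2) F), Nonempty (L ≃* alternatingGroup (Fin 5)) → ∃ g : Matrix.ProjectiveSpecialLinearGroup (Fin 2) F, MulAut.conj g • L = H ∨ MulAut.conj g • L = K := by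
  haveI : Finite (Matrix.ProjectiveSpecialLinearGroup (Fin 2) F) := Finite.of_surjective _ SL2Two.proj_surjective
  obtain ⟨p, hp⟩ := CharP.exists F
  obtain ⟨n, hpp, hn⟩ := FiniteField.card F p
  haveI : Fact p.Prime := ⟨hpp⟩
  have h2 : (2 : F) ≠ 0 := SL2Two.two_ne_zero' (by rw [hF]; decide)
  have h5 : 5 ∣ Fintype.card F * (Fintype.card F ^ 2 - 1) := by rw [hF]; norm_num
  obtain ⟨t, ht⟩ := Icosa.exists_root h5
  obtain ⟨A, B, hAB⟩ := Icosa.exists_isPair ht
  set H := Icosa.IsPair.grp A B
  have hH : Nonempty (H ≃* alternatingGroup (Fin 5)) := hAB.nonempty_grp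
  have hG := SL2.card_PSL2_mul (F := F)
  rw [hF, show Nat.gcd 2 (11 - 1) = 2 by decide, show 11 * (11 ^ 2 - 1) = 1320 by decide] at hG
  have hcard : ∀ L : Subgroup (Matrix.ProjectiveSpecialLinearGroup (Fin 2) F), Nonempty (L ≃* alternatingGroup (Fin 5)) → Nat.card L = 60 := by
    rintro L ⟨e⟩
    rw [Nat.card_congr e.toEquiv, nat_card_alternatingGroup, Nat.card_fin]; rfl
  -- the rational normaliser of an icosahedral group lies in the special part
  have hnorm : ∀ c ∈ Dickson.pglF F, (H.map Dickson.emb).map (MulAut.conj c).toMonoidHom = H.map Dickson.emb →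
      c ∈ Dickson.pslF F := by
    intro c hc heq
    set H' := H.map Dickson.emb with hH'
    have hH'c : Nat.card H' = 60 := by rw [hH', Subgroup.card_map_of_injective Dickson.emb_injective, hcard H hH]
    set N := Dickson.pglF F ⊓ Subgroup.normalizer (H' : Set (PGL(2, AlgebraicClosure F))) with hN
    have hH'N : H' ≤ N := le_inf (fun x hx => Dickson.pslF_le F (by obtain ⟨a, -, rfl⟩ := hx; exact ⟨a, rfl⟩)) Subgroup.le_normalizer
    have hcN : c ∈ N := by
      refine ⟨hc, ?_⟩
      show c ∈ Subgroup.normalizer (H' : Set (PGL(2, AlgebraicClosure F)))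
      rw [Subgroup.mem_normalizer_iff]
      intro v
      constructor
      · intro hv
        rw [← heq]; exact ⟨v, hv, rfl⟩
      · intro hv
        rw [← heq] at hv
        obtain ⟨w, hw, hwe⟩ := hv
        exact (MulAut.conj c).injective hwe ▸ hw
    by_contra hcp
    have hne : H' ≠ N := fun e => hcp (by
      obtain ⟨a, -, ha⟩ := e.ge hcN
      exact ⟨a, ha⟩)
    haveI : Finite N := Finite.of_injective _ (Subgroup.inclusion_injective inf_le_left)
    have h120 : 120 ≤ Nat.card N := by
      obtain ⟨k, hk⟩ := Subgroup.card_dvd_of_le hH'N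
      have hk1 : k ≠ 1 := fun e => hne (Subgroup.eq_of_le_of_card_ge hH'N (by rw [hk, e, mul_one]))
      have hk0 : k ≠ 0 := fun e => (Nat.card_pos (α := N)).ne' (by rw [hk, e, mul_zero])
      rw [hk, hH'c]; omega
    have hNp : ¬ Dickson.pslF F ≤ N := by
      intro hle
      haveI := Dickson.psl_simple_of_four_le (F := F) (by rw [hF]; norm_num)
      have hnormal : H.Normal := ⟨fun v hv g => by
        have := (Subgroup.mem_normalizer_iff.1 (hle ⟨g, rfl⟩).2 _).1 ⟨v, hv, rfl⟩
        rw [← map_inv, ← map_mul, ← map_mul, hH', Subgroup.mem_map_iff_mem Dickson.emb_injective] at this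
        exact this⟩
      rcases hnormal.eq_bot_or_eq_top with e | e
      · have := hcard H hH; rw [e, Subgroup.card_bot] at this; omega
      · have := hcard H hH; rw [e, Subgroup.card_top] at this; omega
    obtain ⟨M, hM, hNM⟩ := Dickson.exists_isMax (G₀ := Dickson.pglF F) (H := N) inf_le_left
      (fun e => hNp (e ▸ Dickson.pslF_le F))
    haveI : Finite M := Finite.of_injective _ (Subgroup.inclusion_injective hM.1)
    have hMc : 120 ≤ Nat.card M := h120.trans (Subgroup.card_le_of_le hNM)
    have hMp : ¬ Dickson.pslF F ≤ M := by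
      intro hle
      have heqM : M = Dickson.pslF F := by
        by_contra hne'
        obtain ⟨k, hk⟩ := Subgroup.card_dvd_of_le hle
        have h2k : k * Nat.card (Dickson.pslF F) = Nat.card M := by rw [hk, mul_comm]
        have hd := Subgroup.card_dvd_of_le hM.1
        rw [Dickson.card_pglF, hF, ← h2k, Dickson.card_pslF, show Nat.card (Matrix.ProjectiveSpecialLinearGroup (Fin 2) F) = 660 by omega] at hd
        norm_num at hd
        have hk2 : k ∣ 2 := Nat.dvd_of_mul_dvd_mul_right (show 0 < 660 by norm_num) (by simpa using hd)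
        have := Nat.le_of_dvd two_pos hk2
        interval_cases k
        · rw [mul_zero] at hk; exact Nat.card_pos.ne' hk
        · exact hne' (Subgroup.eq_of_le_of_card_ge hle (by rw [hk, mul_one])).symm
        · exact hM.2.1 (Subgroup.eq_of_le_of_card_ge hM.1 (le_of_eq (by
            rw [hk, Dickson.card_pglF, Dickson.card_pslF, hF, show Nat.card (Matrix.ProjectiveSpecialLinearGroup (Fin 2) F) = 660 by omega]
            norm_num)))
      exact hcp (heqM ▸ hNM hcN)
    rcases Dickson.max_cases p le_rfl (Dickson.pslF_le F) (fun c hc => Dickson.conj_pglF hc)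
      (Dickson.ambient_pglF (F := F)) (by rw [hF]; norm_num) hM hMp with
      ⟨x, -, -, h⟩ | ⟨k, hk, h, -⟩ | ⟨-, -, ⟨f⟩⟩ | ⟨-, -, ⟨f⟩⟩ | ⟨-, -, -, ⟨f⟩⟩ | ⟨K₀, c', m, -, -, -, hm, hq, -⟩
    · rw [h, hF] at hMc; omega
    · rw [h] at hMc
      rw [hF] at hk
      rcases hk with rfl | rfl <;> omega
    · rw [Nat.card_congr f.toEquiv, nat_card_alternatingGroup, Nat.card_fin] at hMc
      exact absurd hMc (by decide)
    · rw [Nat.card_congr f.toEquiv, Nat.card_perm, Nat.card_fin] at hMc
      exact absurd hMc (by decide)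
    · rw [Nat.card_congr f.toEquiv, nat_card_alternatingGroup, Nat.card_fin] at hMc
      exact absurd hMc (by decide)
    · rw [hF] at hq
      exact hm.ne_one ((show Nat.Prime 11 by norm_num).pow_eq_iff.1 hq.symm).2
  -- an element outside the special part
  have hodd : Fintype.card F % 2 = 1 := by rw [hF]
  have hidx := Dickson.pslF_index_two (F := F) hodd
  obtain ⟨γ, hγ, hγn⟩ : ∃ γ ∈ Dickson.pglF F, γ ∉ Dickson.pslF F := by
    by_contra hc
    push Not at hc
    rw [show (Dickson.pslF F).subgroupOf (Dickson.pglF F) = ⊤ from Subgroup.subgroupOf_eq_top.2 hc, Subgroup.index_top] at hidx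
    omega
  have hK : (H.map Dickson.emb).map (MulAut.conj γ).toMonoidHom ≤ Dickson.pslF F := by
    refine (Subgroup.map_mono ?_).trans (Dickson.conj_pslF hγ).le
    rintro _ ⟨a, -, rfl⟩; exact ⟨a, rfl⟩
  set K := ((H.map Dickson.emb).map (MulAut.conj γ).toMonoidHom).comap Dickson.emb with hKdef
  have hKmap : K.map Dickson.emb = (H.map Dickson.emb).map (MulAut.conj γ).toMonoidHom := Subgroup.map_comap_eq_self hK
  have hKiso : Nonempty (K ≃* alternatingGroup (Fin 5)) :=
    ⟨((((K.equivMapOfInjective _ Dickson.emb_injective).trans (MulEquiv.subgroupCongr hKmap)).trans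
      (Subgroup.equivMapOfInjective _ _ (MulAut.conj γ).injective).symm).trans
      (H.equivMapOfInjective _ Dickson.emb_injective).symm).trans hH.some⟩
  have hconjmap : ∀ (g : Matrix.ProjectiveSpecialLinearGroup (Fin 2) F) (L : Subgroup (Matrix.ProjectiveSpecialLinearGroup (Fin 2) F)),
      (L.map (MulAut.conj g).toMonoidHom).map Dickson.emb =
        (L.map Dickson.emb).map (MulAut.conj (Dickson.emb g)).toMonoidHom := by
    intro g L
    rw [Subgroup.map_map, Subgroup.map_map]
    congr 1
    ext x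
    simp
  have hsmul : ∀ (g : Matrix.ProjectiveSpecialLinearGroup (Fin 2) F) (L : Subgroup (Matrix.ProjectiveSpecialLinearGroup (Fin 2) F)),
      MulAut.conj g • L = L.map (MulAut.conj g).toMonoidHom := fun g L => rfl
  have hHK : ∀ g : Matrix.ProjectiveSpecialLinearGroup (Fin 2) F, H.map (MulAut.conj g).toMonoidHom ≠ K := by
    intro g hg
    have e1 := congrArg (Subgroup.map Dickson.emb) hg
    rw [hconjmap, hKmap] at e1
    have e2 := congrArg (Subgroup.map (MulAut.conj γ⁻¹).toMonoidHom) e1
    rw [Dickson.map_conj_map, Subgroup.map_map] at e2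
    have e3 : (MulAut.conj γ⁻¹).toMonoidHom.comp (MulAut.conj (Dickson.emb g)).toMonoidHom =
        (MulAut.conj (γ⁻¹ * Dickson.emb g)).toMonoidHom := by
      ext x; simp [mul_assoc]
    rw [e3] at e2
    have h := hnorm _ ((Dickson.pglF F).mul_mem ((Dickson.pglF F).inv_mem hγ) (Dickson.pslF_le F ⟨g, rfl⟩)) e2
    have : γ⁻¹ ∈ Dickson.pslF F := by
      have := (Dickson.pslF F).mul_mem h ((Dickson.pslF F).inv_mem ⟨g, rfl⟩)
      rwa [mul_inv_cancel_right] at this
    exact hγn ((Dickson.pslF F).inv_mem_iff.1 this)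
  have hclass : ∀ L : Subgroup (Matrix.ProjectiveSpecialLinearGroup (Fin 2) F), Nonempty (L ≃* alternatingGroup (Fin 5)) →
      (∃ g, L = H.map (MulAut.conj g).toMonoidHom) ∨ (∃ g, L = K.map (MulAut.conj g).toMonoidHom) := by
    intro L hL
    obtain ⟨c, hc, hcL⟩ := Dickson.icosa_conj_all h2 h5 H L hH hL
    by_cases hcp : c ∈ Dickson.pslF F
    · obtain ⟨g, rfl⟩ := hcp
      refine Or.inl ⟨g, Subgroup.map_injective Dickson.emb_injective ?_⟩
      rw [hconjmap, hcL]
    · right
      have hmem : (⟨c, hc⟩ : Dickson.pglF F) * ⟨γ, hγ⟩⁻¹ ∈ (Dickson.pslF F).subgroupOf (Dickson.pglF F) := by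
        rw [Subgroup.mul_mem_iff_of_index_two hidx]
        exact iff_of_false hcp fun h => hγn ((Dickson.pslF F).inv_mem_iff.1 h)
      obtain ⟨g, hg⟩ := hmem
      refine ⟨g, Subgroup.map_injective Dickson.emb_injective ?_⟩
      rw [hconjmap, hKmap, ← hcL]; conv_rhs => rw [Subgroup.map_map]
      congr 1
      ext x
      change Dickson.emb g = c * γ⁻¹ at hg
      simp [hg, mul_assoc]
  have hnormc : ∀ L : Subgroup (Matrix.ProjectiveSpecialLinearGroup (Fin 2) F), Nonempty (L ≃* alternatingGroup (Fin 5)) →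
      Nat.card {W : Subgroup (Matrix.ProjectiveSpecialLinearGroup (Fin 2) F) // ∃ g, W = L.map (MulAut.conj g).toMonoidHom} = 11 := by
    intro L hL
    have h := SL2Two.card_conjugates_mul L
    haveI := Dickson.psl_simple_of_four_le (F := F) (by rw [hF]; norm_num)
    set N := Subgroup.normalizer (L : Set (Matrix.ProjectiveSpecialLinearGroup (Fin 2) F)) with hN
    have hLN : Nat.card L ∣ Nat.card N := Subgroup.card_dvd_of_le Subgroup.le_normalizer
    have hN660 : Nat.card N ≠ 660 := by
      intro e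
      have htop : N = ⊤ := Subgroup.eq_top_of_card_eq _ (by omega)
      have hnormal : L.Normal := Subgroup.normalizer_eq_top_iff.1 htop
      rcases hnormal.eq_bot_or_eq_top with e' | e'
      · have := hcard L hL; rw [e', Subgroup.card_bot] at this; omega
      · have := hcard L hL; rw [e', Subgroup.card_top] at this; omega
    have hd : Nat.card N ∣ 660 := by
      have := N.card_subgroup_dvd_card
      rwa [show Nat.card (Matrix.ProjectiveSpecialLinearGroup (Fin 2) F) = 660 by omega] at this
    rw [hcard L hL] at hLN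
    obtain ⟨a, ha⟩ := hLN
    have ha1 : a = 1 := by
      rw [ha] at hd hN660
      have := Nat.dvd_of_mul_dvd_mul_left (show 0 < 60 by norm_num) (show 60 * a ∣ 60 * 11 by simpa using hd)
      rcases (Nat.dvd_prime (by norm_num)).1 this with e | e <;> omega
    rw [ha, ha1] at h
    omega
  have hiso : ∀ (g : Matrix.ProjectiveSpecialLinearGroup (Fin 2) F) (L : Subgroup (Matrix.ProjectiveSpecialLinearGroup (Fin 2) F)),
      Nonempty (L ≃* alternatingGroup (Fin 5)) →
      Nonempty (L.map (MulAut.conj g).toMonoidHom ≃* alternatingGroup (Fin 5)) :=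
    fun g L ⟨e⟩ => ⟨(L.equivMapOfInjective _ (MulAut.conj g).injective).symm.trans e⟩
  refine ⟨?_, H, K, hH, hKiso, fun g => (hsmul g H).symm ▸ hHK g, fun L hL => ?_⟩
  · let SH : Set (Subgroup (Matrix.ProjectiveSpecialLinearGroup (Fin 2) F)) := {W | ∃ g, W = H.map (MulAut.conj g).toMonoidHom}
    let SK : Set (Subgroup (Matrix.ProjectiveSpecialLinearGroup (Fin 2) F)) := {W | ∃ g, W = K.map (MulAut.conj g).toMonoidHom}
    have hunion : {L : Subgroup (Matrix.ProjectiveSpecialLinearGroup (Fin 2) F) | Nonempty (L ≃* alternatingGroup (Fin 5))} = SH ∪ SK := by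
      ext L
      refine ⟨hclass L, ?_⟩
      rintro (⟨g, rfl⟩ | ⟨g, rfl⟩)
      · exact hiso g H hH
      · exact hiso g K hKiso
    have hdisj : Disjoint SH SK := Set.disjoint_left.2 fun W hW hW' => by
      obtain ⟨g, rfl⟩ := hW
      obtain ⟨k, hk⟩ := hW'
      refine hHK (k⁻¹ * g) ?_
      have := congrArg (Subgroup.map (MulAut.conj k⁻¹).toMonoidHom) hk
      rw [Dickson.map_conj_map, Subgroup.map_map] at this
      rw [← this]
      congr 1
      ext x
      simp [mul_assoc]
    show Nat.card ({L : Subgroup (Matrix.ProjectiveSpecialLinearGroup (Fin 2) F) | Nonempty (L ≃* alternatingGroup (Fin 5))} : Set _) = 22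
    rw [hunion, Nat.card_coe_set_eq, Set.ncard_union_eq hdisj (Set.toFinite _) (Set.toFinite _),
      ← Nat.card_coe_set_eq, ← Nat.card_coe_set_eq]
    exact congrArg₂ (· + ·) (hnormc H hH) (hnormc K hKiso)
  · rcases hclass L hL with ⟨g, hg⟩ | ⟨g, hg⟩
    · exact ⟨g⁻¹, Or.inl (by rw [hsmul, hg]; exact Dickson.map_conj_map g H)⟩
    · exact ⟨g⁻¹, Or.inr (by rw [hsmul, hg]; exact Dickson.map_conj_map g K)⟩

end Cfsg.Agent.S2543
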