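import Cfsg.Statements.S2550
import Cfsg.Agent.S0256
import Cfsg.Agent.S0819

set_option autoImplicit false
open Cfsg

open Cfsg.Agent.Classical

namespace Cfsg.Agent.S2550

/-- Let F be a field with 2 elements and K a field with 4 elements. PSL_4(F) and PSL_3(K) have the same order (20160) but are not isomorphic. -/
theorem result {F K : Type*} [Field F] [Fintype F] [Field K] [Fintype K] (hF : Fintype.card F = 2) (hK : Fintype.card K = 4) : Nat.card (Matrix.ProjectiveSpecialLinearGroup (Fin 4) F) = Nat.card (Matrix.ProjectiveSpecialLinearGroup (Fin 3) K) ∧ ¬ Nonempty (Matrix.ProjectiveSpecialLinearGroup (Fin 4) F ≃* Matrix.ProjectiveSpecialLinearGroup (Fin 3) K) := by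
  skip
  obtain ⟨j⟩ := Cfsg.Agent.S0256.result (F := F) hF
  obtain ⟨e⟩ := F4.nonempty_ringEquiv hK
  obtain ⟨E⟩ := psl_congr (n := Fin 3) e
  refine ⟨?_, fun ⟨f⟩ => ?_⟩
  · rw [Nat.card_congr j.toEquiv, Nat.card_congr E.toEquiv, SLThreeFour.card_psl, Nat.card_eq_fintype_card, card_alternatingGroup,
      Fintype.card_fin]
    decide
  · let σ : alternatingGroup (Fin 8) := ⟨Equiv.swap 0 1 * Equiv.swap 1 2 * (Equiv.swap 3 4 * Equiv.swap 4 5 * Equiv.swap 5 6 * Equiv.swap 6 7), Equiv.Perm.mem_alternatingGroup.2 (by decide +kernel)⟩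
    have h15 : orderOf σ = 15 := by
      rw [orderOf_eq_iff (by norm_num)]
      refine ⟨by decide +kernel, fun m hm hm0 => ?_⟩
      interval_cases m <;> decide +kernel
    exact Cfsg.Agent.S0819.result (F := K) hK (f (j.symm σ)) (by rw [MulEquiv.orderOf_eq, MulEquiv.orderOf_eq, h15])

end Cfsg.Agent.S2550
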