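import Cfsg.Statements.S2551
import Cfsg.Agent.Lib.Classical.AltSevenGL

set_option autoImplicit false
open Cfsg

namespace Cfsg.Agent.S2551

open Matrix Cfsg.Agent.AltSevenGL

/-- The embedding of the alternating group of degree seven in that of degree eight. -/
theorem exists_seven_in_eight : ∃ f : alternatingGroup (Fin 7) →* alternatingGroup (Fin 8), Function.Injective f := by
  let j : Equiv.Perm (Fin 7) →* Equiv.Perm (Fin 8) := Equiv.Perm.viaEmbeddingHom Fin.castSuccEmb
  have hs : ∀ σ : Equiv.Perm (Fin 7), Equiv.Perm.sign (j σ) = Equiv.Perm.sign σ := fun σ => by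
    show Equiv.Perm.sign (σ.viaEmbedding _) = _
    unfold Equiv.Perm.viaEmbedding
    convert Equiv.Perm.sign_extendDomain σ _
  refine ⟨(j.comp (alternatingGroup (Fin 7)).subtype).codRestrict _ fun σ => ?_, fun σ τ h => ?_⟩
  · rw [Equiv.Perm.mem_alternatingGroup, MonoidHom.comp_apply, hs]
    exact σ.2
  · exact Subtype.ext (Equiv.Perm.viaEmbeddingHom_injective _ (congrArg Subtype.val h))


/-- Let F be the field with 2 elements. GL_4(F) (≅ A_8) has a subgroup isomorphic to the alternating group A_7, and every such subgroup acts 2-transitively on the 15 non-zero vectors of F⁴: any ordered pair of distinct non-zero vectors is carried to any other by some element of the subgroup. -/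
theorem result {F : Type*} [Field F] [Fintype F] (hF : Fintype.card F = 2) : (∃ H : Subgroup (Matrix.GeneralLinearGroup (Fin 4) F), Nonempty (H ≃* alternatingGroup (Fin 7))) ∧ ∀ H : Subgroup (Matrix.GeneralLinearGroup (Fin 4) F), Nonempty (H ≃* alternatingGroup (Fin 7)) → ∀ v w v' w' : Fin 4 → F, v ≠ 0 → w ≠ 0 → v ≠ w → v' ≠ 0 → w' ≠ 0 → v' ≠ w' → ∃ g ∈ H, (g : Matrix (Fin 4) (Fin 4) F).mulVec v = v' ∧ (g : Matrix (Fin 4) (Fin 4) F).mulVec w = w' := by
  classical
  haveI : Fact (Nat.Prime 2) := ⟨Nat.prime_two⟩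
  obtain ⟨ee⟩ := Cfsg.Agent.Classical.SmallIso.exists_zmod (p := 2) hF
  obtain ⟨e⟩ : Nonempty (ZMod 2 ≃+* F) := by first | exact ⟨ee⟩ | exact ⟨ee.symm⟩
  let E : G4 →* Matrix.GeneralLinearGroup (Fin 4) F := Matrix.GeneralLinearGroup.map e.toRingHom
  let E' : Matrix.GeneralLinearGroup (Fin 4) F →* G4 := Matrix.GeneralLinearGroup.map e.symm.toRingHom
  have hEE' : ∀ g, E (E' g) = g := fun g => Units.ext (Matrix.ext fun i j => e.apply_symm_apply _)
  have hE'E : ∀ g, E' (E g) = g := fun g => Units.ext (Matrix.ext fun i j => e.symm_apply_apply _)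
  let EE : G4 ≃* Matrix.GeneralLinearGroup (Fin 4) F :=
    { toFun := E, invFun := E', left_inv := hE'E, right_inv := hEE', map_mul' := map_mul E }
  have hmv : ∀ (g : G4) (u : Fin 4 → ZMod 2),
      (E g : Matrix (Fin 4) (Fin 4) F) *ᵥ (fun i => e (u i)) = fun i => e (((g : Matrix (Fin 4) (Fin 4) (ZMod 2)) *ᵥ u) i) := by
    intro g u
    funext i
    exact (RingHom.map_mulVec e.toRingHom _ _ i).symm
  constructor
  · obtain ⟨f, hf⟩ := exists_seven_in_eight
    obtain ⟨k⟩ := nonempty_equiv_alt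
    let h : alternatingGroup (Fin 7) →* Matrix.GeneralLinearGroup (Fin 4) F :=
      EE.toMonoidHom.comp (k.symm.toMonoidHom.comp f)
    exact ⟨h.range, ⟨(MonoidHom.ofInjective (f := h) (EE.injective.comp (k.symm.injective.comp hf))).symm⟩⟩
  intro H ⟨j⟩ v w v' w' hv hw hvw hv' hw' hvw'
  set H' := H.comap EE.toMonoidHom with hH'
  have hidx : H'.index = 8 := by
    have hc : Nat.card H' = 2520 := by
      rw [Nat.card_congr (Equiv.subtypeEquiv EE.toEquiv fun g => Iff.rfl : H' ≃ H), Nat.card_congr j.toEquiv,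
        Nat.card_eq_fintype_card, card_alternatingGroup, Fintype.card_fin]
      rfl
    have := H'.card_mul_index
    rw [hc, card_G4] at this
    omega
  -- pull the vectors back
  let d : (Fin 4 → F) → Fin 4 → ZMod 2 := fun u i => e.symm (u i)
  have hd : ∀ u, (fun i => e (d u i)) = u := fun u => funext fun i => e.apply_symm_apply _
  have hd0 : ∀ u, u ≠ 0 → d u ≠ 0 := fun u hu h => hu (by rw [← hd u, h]; funext i; simp)
  have hdne : ∀ u u', u ≠ u' → d u ≠ d u' := fun u u' hu h => hu (by rw [← hd u, h, hd])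
  obtain ⟨a, ha0, ha1⟩ := exists_frame (d v) (d w) (hd0 v hv) (hd0 w hw) (hdne v w hvw)
  obtain ⟨b, hb0, hb1⟩ := exists_frame (d v') (d w') (hd0 v' hv') (hd0 w' hw') (hdne v' w' hvw')
  obtain ⟨s, hs, hst⟩ := S_transitive H' hidx ((a⁻¹ : G4) : G4 ⧸ H') ((b⁻¹ : G4) : G4 ⧸ H')
  have hmem : b * s * a⁻¹ ∈ H' := by
    rw [MulAction.Quotient.smul_mk, QuotientGroup.eq, smul_eq_mul] at hst
    have := inv_mem hst
    simpa [mul_assoc] using this
  refine ⟨E (b * s * a⁻¹), hmem, ?_, ?_⟩
  · rw [← hd v, hmv, ← hd v']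
    congr 1
    funext i
    rw [Units.val_mul, Units.val_mul, ← mulVec_mulVec, ← mulVec_mulVec, inv_mulVec ha0, hs.1, hb0]
  · rw [← hd w, hmv, ← hd w']
    congr 1
    funext i
    rw [Units.val_mul, Units.val_mul, ← mulVec_mulVec, ← mulVec_mulVec, inv_mulVec ha1, hs.2, hb1]

end Cfsg.Agent.S2551
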