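import Cfsg.Statements.S2564
import Cfsg.Agent.Lib.Classical.WittDecomp
import Cfsg.Agent.Lib.Classical.QuadZeros

set_option autoImplicit false
open Cfsg

open Cfsg.Agent.Classical
open Module QuadraticMap

namespace Cfsg.Agent.S2564

variable {m : ℕ}

local notation "QQ" => Cfsg.quadFormPlus m (ZMod 2)
local notation "VV" => (Fin m ⊕ Fin m → ZMod 2)

/-- Forms with the standard polarisation. -/
def Pol (q : VV → ZMod 2) : Prop := ∀ u v, q (u + v) = q u + q v + (QQ (u + v) - QQ u - QQ v)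

theorem two_zero : (2 : ZMod 2) = 0 := rfl

theorem Pol.zero {q : VV → ZMod 2} (hq : Pol q) : q 0 = 0 := by
  have h := hq 0 0
  rw [add_zero, show QQ 0 = 0 from QuadraticMap.map_zero (PlusMax.QP (F := ZMod 2) (m := m))] at h
  linear_combination -h

theorem polar_eq {q : VV → ZMod 2} (hq : Pol q) (u v : VV) :
    polar q u v = polar (PlusMax.QP (F := ZMod 2) (m := m)) u v := by
  simp only [polar, PlusMax.QP_apply]; rw [hq u v]; ring

/-- Such a form as a quadratic map. -/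
def toForm (q : VV → ZMod 2) (hq : Pol q) : QuadraticForm (ZMod 2) VV :=
  QuadraticMap.ofPolar q
    (fun a x => by
      rcases (show ∀ a : ZMod 2, a = 0 ∨ a = 1 by decide) a with rfl | rfl
      · simp [hq.zero]
      · simp)
    (fun x x' y => by rw [polar_eq hq, polar_eq hq, polar_eq hq, polar_add_left])
    (fun a x y => by rw [polar_eq hq, polar_eq hq, polar_smul_left])

theorem toForm_nondeg (q : VV → ZMod 2) (hq : Pol q) : (polarBilin (toForm q hq)).Nondegenerate := by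
  have h1 : ∀ x, (∀ y, polar q x y = 0) → x = 0 := fun x hx =>
    PlusMax.nondeg.1 x fun y => ((polar_eq hq x y).symm.trans (hx y))
  exact ⟨h1, fun y hy => h1 y fun x => by rw [polar_comm]; exact hy x⟩

/-- Plus type. -/
def IsPlus (q : VV → ZMod 2) : Prop :=
  ∃ g : VV ≃ₗ[ZMod 2] VV, ∀ v, q v = QQ (g v)

/-- Minus type. -/
def IsMinus (q : VV → ZMod 2) : Prop :=
  ∃ g : VV ≃ₗ[ZMod 2] ((Fin (m - 1) ⊕ Fin (m - 1)) ⊕ Fin 2 → ZMod 2), ∀ v, q v = Cfsg.quadFormMinus (m - 1) (ZMod 2) 1 1 (g v)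

theorem finrank_VV : finrank (ZMod 2) VV = 2 * m := by
  rw [finrank_pi, Fintype.card_sum, Fintype.card_fin]; omega

theorem aniso11 : ∀ z₁ z₂ : ZMod 2, z₁ ^ 2 + 1 * z₁ * z₂ + 1 * z₂ ^ 2 = 0 → z₁ = 0 ∧ z₂ = 0 := by decide

theorem plus_or_minus {q : VV → ZMod 2} (hq : Pol q) : IsPlus q ∨ IsMinus q := by
  haveI : Fact (Nat.Prime 2) := ⟨Nat.prime_two⟩
  by_cases h : ∃ W : Submodule (ZMod 2) VV, finrank (ZMod 2) W = m ∧ ∀ w ∈ W, (toForm q hq) w = 0
  · obtain ⟨φ, hφ⟩ := WittDec.exists_equiv_plus (toForm q hq) (toForm_nondeg q hq) finrank_VV h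
    exact Or.inl ⟨φ.symm, fun v => by rw [← hφ, LinearEquiv.apply_symm_apply]; rfl⟩
  · obtain ⟨φ, hφ⟩ := WittDec.exists_equiv_minus (toForm q hq) (toForm_nondeg q hq) finrank_VV h 1 1 aniso11
    exact Or.inr ⟨φ.symm, fun v => by rw [← hφ, LinearEquiv.apply_symm_apply]; rfl⟩

/-- Number of zeros. -/
noncomputable def Z (q : VV → ZMod 2) : ℕ := Nat.card {v : VV // q v = 0}

theorem two_Z_plus {q : VV → ZMod 2} (h : IsPlus q) : (2 : ℤ) * Z q = 2 ^ (2 * m) + 2 ^ m := by
  obtain ⟨g, hg⟩ := h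
  have h0 := QuadZeros.card_eq (fun _ : Fin 0 → ZMod 2 => (0 : ZMod 2)) m
  rw [show Nat.card (Fin 0 → ZMod 2) = 1 from Nat.card_unique,
    show Nat.card {d : Fin 0 → ZMod 2 // (fun _ : Fin 0 → ZMod 2 => (0 : ZMod 2)) d = 0} = 1 by
      rw [Nat.card_eq_one_iff_unique]; exact ⟨inferInstance, ⟨⟨0, rfl⟩⟩⟩, ZMod.card] at h0
  have e : Z q = Nat.card (QuadZeros.T (fun _ : Fin 0 → ZMod 2 => (0 : ZMod 2)) m) :=
    Nat.card_congr ((g.toEquiv.subtypeEquiv (q := fun v => QQ v = 0) fun v => by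
        show q v = 0 ↔ QQ (g v) = 0
        rw [hg]).trans
      { toFun := fun v => ⟨(0, fun i => (v.1 (.inl i), v.1 (.inr i))), by
          have := v.2; rw [Cfsg.quadFormPlus] at this; rw [zero_add]; exact this⟩
        invFun := fun p => ⟨Sum.elim (fun i => (p.1.2 i).1) (fun i => (p.1.2 i).2), by
          have := p.2; rw [zero_add] at this; exact this⟩
        left_inv := fun v => Subtype.ext (funext fun s => by rcases s with i | i <;> rfl)
        right_inv := fun p => Subtype.ext (Prod.ext (Subsingleton.elim _ _) rfl) })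
  rw [e]; push_cast at h0; linear_combination h0

theorem two_Z_minus (hm : 1 ≤ m) {q : VV → ZMod 2} (h : IsMinus q) : (2 : ℤ) * Z q = 2 ^ (2 * m) - 2 ^ m := by
  obtain ⟨g, hg⟩ := h
  obtain ⟨k, rfl⟩ : ∃ k, m = k + 1 := ⟨m - 1, by omega⟩
  have h0 := QuadZeros.card_eq (⇑(WittDec.plane (1 : ZMod 2) 1)) k
  rw [Nat.card_fun, Nat.card_fin, Nat.card_zmod, show Nat.card {d : Fin 2 → ZMod 2 // WittDec.plane (1 : ZMod 2) 1 d = 0} = 1 by
    rw [Nat.card_eq_one_iff_unique]
    refine ⟨⟨fun x y => Subtype.ext ?_⟩, ⟨⟨0, QuadraticMap.map_zero _⟩⟩⟩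
    have hx := x.2; have hy := y.2
    rw [WittDec.plane_apply] at hx hy
    funext i
    fin_cases i
    · exact (aniso11 _ _ hx).1.trans (aniso11 _ _ hy).1.symm
    · exact (aniso11 _ _ hx).2.trans (aniso11 _ _ hy).2.symm, ZMod.card] at h0
  have e : Z q = Nat.card (QuadZeros.T (⇑(WittDec.plane (1 : ZMod 2) 1)) k) :=
    Nat.card_congr ((g.toEquiv.subtypeEquiv (q := fun v => Cfsg.quadFormMinus k (ZMod 2) 1 1 v = 0) fun v => by
        show q v = 0 ↔ Cfsg.quadFormMinus k (ZMod 2) 1 1 (g v) = 0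
        rw [hg]; rfl).trans
      { toFun := fun v => ⟨(fun i => v.1 (.inr i), fun i => (v.1 (.inl (.inl i)), v.1 (.inl (.inr i)))), by
          have := v.2; rw [Cfsg.quadFormMinus] at this; rw [WittDec.plane_apply]; linear_combination this⟩
        invFun := fun p => ⟨Sum.elim (Sum.elim (fun i => (p.1.2 i).1) (fun i => (p.1.2 i).2)) p.1.1, by
          have := p.2; rw [WittDec.plane_apply] at this; rw [Cfsg.quadFormMinus]
          simp only [Sum.elim_inl, Sum.elim_inr]; linear_combination this⟩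
        left_inv := fun v => Subtype.ext (funext fun s => by rcases s with (i | i) | i <;> rfl)
        right_inv := fun p => rfl })
  rw [e]; push_cast at h0; linear_combination h0

theorem plus_iff (hm : 1 ≤ m) {q : VV → ZMod 2} (hq : Pol q) : IsPlus q ↔ (2 : ℤ) * Z q = 2 ^ (2 * m) + 2 ^ m := by
  refine ⟨two_Z_plus, fun h => (plus_or_minus hq).resolve_right fun h' => ?_⟩
  have hp : (0 : ℤ) < 2 ^ m := pow_pos two_pos m
  rw [two_Z_minus hm h'] at h
  linarith

/-- The translated form. -/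
def shift (q : VV → ZMod 2) (w : VV) : VV → ZMod 2 := fun v => q v + (QQ (v + w) - QQ v - QQ w)

theorem shift_pol {q : VV → ZMod 2} (hq : Pol q) (w : VV) : Pol (shift q w) := fun u v => by
  have h := polar_add_left (PlusMax.QP (F := ZMod 2) (m := m)) u v w
  simp only [polar, PlusMax.QP_apply] at h
  simp only [shift]
  rw [hq u v]
  linear_combination h

theorem shift_eq {q : VV → ZMod 2} (hq : Pol q) (w v : VV) : shift q w v = q (v + w) + q w := by
  simp only [shift]
  rw [hq v w]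
  linear_combination -(q w) * two_zero

theorem Z_shift {q : VV → ZMod 2} (hq : Pol q) (w : VV) :
    (q w = 0 → Z (shift q w) = Z q) ∧ (q w ≠ 0 → (Z (shift q w) : ℤ) + Z q = 2 ^ (2 * m)) := by
  have e : Z (shift q w) = Nat.card {v : VV // q v = q w} :=
    Nat.card_congr ((Equiv.addRight w).subtypeEquiv fun v => by
      show shift q w v = 0 ↔ q (v + w) = q w
      rw [shift_eq hq]
      constructor <;> intro h
      · linear_combination h - (q w) * two_zero
      · linear_combination h + (q w) * two_zero)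
  refine ⟨fun h => by rw [e, h]; rfl, fun h => ?_⟩
  have h1 : q w = 1 := ((show ∀ a : ZMod 2, a = 0 ∨ a = 1 by decide) (q w)).resolve_left h
  have h2 : Nat.card {v : VV // q v = q w} = Nat.card {v : VV // ¬ q v = 0} := by
    rw [h1]
    exact Nat.card_congr (Equiv.subtypeEquivRight fun v => (show ∀ a : ZMod 2, a = 1 ↔ ¬ a = 0 by decide) (q v))
  have h3 : Nat.card {v : VV // ¬ q v = 0} + Nat.card {v : VV // q v = 0} = 2 ^ (2 * m) := by
    classical
    rw [add_comm, ← Nat.card_sum, Nat.card_congr (Equiv.sumCompl fun v : VV => q v = 0), Nat.card_fun, Nat.card_zmod,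
      Nat.card_sum, Nat.card_fin]
    congr 1; omega
  rw [e, h2, Z]
  exact_mod_cast h3

end Cfsg.Agent.S2564

namespace Cfsg.Agent.S2564

/-- On the 2m-dimensional space over the field of two elements (m ≥ 1) let f be the alternating form obtained by polarizing the plus-type form Σ xᵢyᵢ, and let q be any quadratic form polarizing to f. For a vector w, the function q + f(·, w) again polarizes to f, and it is equivalent to q under an invertible linear map (that is, has the same type) if and only if q(w) = 0. -/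
theorem result (m : ℕ) (hm : 1 ≤ m) (q : (Fin m ⊕ Fin m → ZMod 2) → ZMod 2) (hq : (∀ u v : (Fin m ⊕ Fin m → ZMod 2), q (u + v) = q u + q v + (Cfsg.quadFormPlus m (ZMod 2) (u + v) - Cfsg.quadFormPlus m (ZMod 2) u - Cfsg.quadFormPlus m (ZMod 2) v))) (w : (Fin m ⊕ Fin m → ZMod 2)) :
    (∀ u v : (Fin m ⊕ Fin m → ZMod 2), (q (u + v) + (Cfsg.quadFormPlus m (ZMod 2) (u + v + w) - Cfsg.quadFormPlus m (ZMod 2) (u + v) - Cfsg.quadFormPlus m (ZMod 2) w)) =
        (q u + (Cfsg.quadFormPlus m (ZMod 2) (u + w) - Cfsg.quadFormPlus m (ZMod 2) u - Cfsg.quadFormPlus m (ZMod 2) w)) + (q v + (Cfsg.quadFormPlus m (ZMod 2) (v + w) - Cfsg.quadFormPlus m (ZMod 2) v - Cfsg.quadFormPlus m (ZMod 2) w)) +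
        (Cfsg.quadFormPlus m (ZMod 2) (u + v) - Cfsg.quadFormPlus m (ZMod 2) u - Cfsg.quadFormPlus m (ZMod 2) v)) ∧
    ((∃ g : (Fin m ⊕ Fin m → ZMod 2) ≃ₗ[ZMod 2] (Fin m ⊕ Fin m → ZMod 2), ∀ v, q v + (Cfsg.quadFormPlus m (ZMod 2) (v + w) - Cfsg.quadFormPlus m (ZMod 2) v - Cfsg.quadFormPlus m (ZMod 2) w) = q (g v)) ↔ q w = 0) := by
  have hp : Cfsg.Agent.S2564.Pol q := hq
  have hs := Cfsg.Agent.S2564.shift_pol hp w
  refine ⟨hs, ?_, fun h => ?_⟩
  · rintro ⟨g, hg⟩
    by_contra h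
    have h1 := (Cfsg.Agent.S2564.Z_shift hp w).2 h
    have h2 : Cfsg.Agent.S2564.Z (Cfsg.Agent.S2564.shift q w) = Cfsg.Agent.S2564.Z q :=
      Nat.card_congr (g.toEquiv.subtypeEquiv fun v => by
        show Cfsg.Agent.S2564.shift q w v = 0 ↔ q (g v) = 0
        rw [show Cfsg.Agent.S2564.shift q w v = q (g v) from hg v])
    rw [h2] at h1
    have hpos : (0 : ℤ) < 2 ^ m := pow_pos two_pos m
    rcases Cfsg.Agent.S2564.plus_or_minus hp with hh | hh
    · have := Cfsg.Agent.S2564.two_Z_plus hh; linarith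
    · have := Cfsg.Agent.S2564.two_Z_minus hm hh; linarith
  · have h1 := (Cfsg.Agent.S2564.Z_shift hp w).1 h
    by_cases hP : Cfsg.Agent.S2564.IsPlus q
    · obtain ⟨g', hg'⟩ := (Cfsg.Agent.S2564.plus_iff hm hs).2 (by rw [h1]; exact Cfsg.Agent.S2564.two_Z_plus hP)
      obtain ⟨g, hg⟩ := hP
      refine ⟨g'.trans g.symm, fun v => (hg' v).trans ?_⟩
      rw [hg, LinearEquiv.trans_apply, LinearEquiv.apply_symm_apply]
    · obtain ⟨g', hg'⟩ := (Cfsg.Agent.S2564.plus_or_minus hs).resolve_left fun hS => hP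
        ((Cfsg.Agent.S2564.plus_iff hm hp).2 (by rw [← h1]; exact Cfsg.Agent.S2564.two_Z_plus hS))
      obtain ⟨g, hg⟩ := (Cfsg.Agent.S2564.plus_or_minus hp).resolve_left hP
      refine ⟨g'.trans g.symm, fun v => (hg' v).trans ?_⟩
      rw [hg, LinearEquiv.trans_apply, LinearEquiv.apply_symm_apply]

end Cfsg.Agent.S2564
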