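import Cfsg.Statements.S2561
import Cfsg.Agent.S2564

set_option autoImplicit false
open Cfsg

open Cfsg.Agent.Classical
open Module QuadraticMap

namespace Cfsg.Agent.S2561

/-- Fix the non-singular alternating form on the 2m-dimensional space over the field of two elements obtained by polarizing the plus-type form Σ xᵢyᵢ (m ≥ 1). The functions q on the space with q(u + v) = q(u) + q(v) + f(u, v) (the quadratic forms polarizing to f) number 2^(2m); each is equivalent under an invertible linear map either to the plus-type form or to the minus-type form Σ xᵢyᵢ + (z₁² + z₁z₂ + z₂²); and those of plus type number 2^(2m−1) + 2^(m−1), those of minus type 2^(2m−1) − 2^(m−1). -/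
theorem result (m : ℕ) (hm : 1 ≤ m) :
    Nat.card {q : (Fin m ⊕ Fin m → ZMod 2) → ZMod 2 // (∀ u v : (Fin m ⊕ Fin m → ZMod 2), q (u + v) = q u + q v + (Cfsg.quadFormPlus m (ZMod 2) (u + v) - Cfsg.quadFormPlus m (ZMod 2) u - Cfsg.quadFormPlus m (ZMod 2) v))} = 2 ^ (2 * m) ∧
    (∀ q : (Fin m ⊕ Fin m → ZMod 2) → ZMod 2, (∀ u v : (Fin m ⊕ Fin m → ZMod 2), q (u + v) = q u + q v + (Cfsg.quadFormPlus m (ZMod 2) (u + v) - Cfsg.quadFormPlus m (ZMod 2) u - Cfsg.quadFormPlus m (ZMod 2) v)) →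
      (∃ g : (Fin m ⊕ Fin m → ZMod 2) ≃ₗ[ZMod 2] (Fin m ⊕ Fin m → ZMod 2), ∀ v, q v = Cfsg.quadFormPlus m (ZMod 2) (g v)) ∨
      (∃ g : (Fin m ⊕ Fin m → ZMod 2) ≃ₗ[ZMod 2] ((Fin (m - 1) ⊕ Fin (m - 1)) ⊕ Fin 2 → ZMod 2), ∀ v, q v = Cfsg.quadFormMinus (m - 1) (ZMod 2) 1 1 (g v))) ∧
    Nat.card {q : (Fin m ⊕ Fin m → ZMod 2) → ZMod 2 // (∀ u v : (Fin m ⊕ Fin m → ZMod 2), q (u + v) = q u + q v + (Cfsg.quadFormPlus m (ZMod 2) (u + v) - Cfsg.quadFormPlus m (ZMod 2) u - Cfsg.quadFormPlus m (ZMod 2) v)) ∧ ∃ g : (Fin m ⊕ Fin m → ZMod 2) ≃ₗ[ZMod 2] (Fin m ⊕ Fin m → ZMod 2), ∀ v, q v = Cfsg.quadFormPlus m (ZMod 2) (g v)} = 2 ^ (2 * m - 1) + 2 ^ (m - 1) ∧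
    Nat.card {q : (Fin m ⊕ Fin m → ZMod 2) → ZMod 2 // (∀ u v : (Fin m ⊕ Fin m → ZMod 2), q (u + v) = q u + q v + (Cfsg.quadFormPlus m (ZMod 2) (u + v) - Cfsg.quadFormPlus m (ZMod 2) u - Cfsg.quadFormPlus m (ZMod 2) v)) ∧ ∃ g : (Fin m ⊕ Fin m → ZMod 2) ≃ₗ[ZMod 2] ((Fin (m - 1) ⊕ Fin (m - 1)) ⊕ Fin 2 → ZMod 2), ∀ v, q v = Cfsg.quadFormMinus (m - 1) (ZMod 2) 1 1 (g v)} = 2 ^ (2 * m - 1) - 2 ^ (m - 1) := by
  classical
  haveI : Fact (Nat.Prime 2) := ⟨Nat.prime_two⟩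
  let Q0 := Cfsg.quadFormPlus m (ZMod 2)
  have h0 : Cfsg.Agent.S2564.Pol Q0 := fun u v => by ring
  let V := Fin m ⊕ Fin m → ZMod 2
  let e : V ≃ {q : V → ZMod 2 // Cfsg.Agent.S2564.Pol q} :=
    Equiv.ofBijective (fun w => ⟨Cfsg.Agent.S2564.shift Q0 w, Cfsg.Agent.S2564.shift_pol h0 w⟩) <| by
      constructor
      · intro w w' h
        have h' : ∀ v, Cfsg.Agent.S2564.shift Q0 w v = Cfsg.Agent.S2564.shift Q0 w' v := fun v => congrFun (congrArg Subtype.val h) v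
        refine sub_eq_zero.1 (PlusMax.nondeg.2 _ fun v => ?_)
        show polar (PlusMax.QP (F := ZMod 2) (m := m)) v (w - w') = 0
        rw [polar_sub_right]
        have := h' v
        simp only [Cfsg.Agent.S2564.shift, Q0] at this
        simp only [polar, PlusMax.QP_apply]
        linear_combination this
      · rintro ⟨q, hq⟩
        let ℓ : Module.Dual (ZMod 2) V := AddMonoidHom.toZModLinearMap 2 (AddMonoidHom.mk' (fun v => q v - Q0 v) fun u v => by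
          rw [hq u v]; ring)
        obtain ⟨w, hw⟩ := WittExt.exists_polar_eq (PlusMax.QP (F := ZMod 2) (m := m)) PlusMax.nondeg ℓ
        refine ⟨w, Subtype.ext (funext fun v => ?_)⟩
        have := hw v
        rw [polar_comm] at this
        simp only [polar, PlusMax.QP_apply] at this
        show Q0 v + (Q0 (v + w) - Q0 v - Q0 w) = q v
        rw [show Q0 (v + w) - Q0 v - Q0 w = q v - Q0 v from this]; ring
  have hP0 : Cfsg.Agent.S2564.IsPlus Q0 := ⟨LinearEquiv.refl _ _, fun v => rfl⟩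
  have hz := Cfsg.Agent.S2564.two_Z_plus hP0
  have hpos : (0 : ℤ) < 2 ^ m := pow_pos two_pos m
  have hplus : ∀ w, Cfsg.Agent.S2564.IsPlus (e w).1 ↔ Q0 w = 0 := fun w => by
    refine (Cfsg.Agent.S2564.plus_iff hm (e w).2).trans ?_
    obtain ⟨h1, h3⟩ := Cfsg.Agent.S2564.Z_shift h0 w
    show (2 : ℤ) * Cfsg.Agent.S2564.Z (Cfsg.Agent.S2564.shift Q0 w) = _ ↔ _
    refine ⟨fun h => ?_, fun h => by rw [h1 h]; exact hz⟩
    by_contra hne
    have := h3 hne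
    linarith
  have hminus : ∀ w, Cfsg.Agent.S2564.IsMinus (e w).1 ↔ ¬ Q0 w = 0 := fun w => by
    refine ⟨fun h hw => ?_, fun h => (Cfsg.Agent.S2564.plus_or_minus (e w).2).resolve_left (mt (hplus w).1 h)⟩
    have h1 := Cfsg.Agent.S2564.two_Z_plus ((hplus w).2 hw)
    have h3 := Cfsg.Agent.S2564.two_Z_minus hm h
    linarith
  have hcount : ∀ (P : (V → ZMod 2) → Prop) (R : V → Prop), (∀ w, P (e w).1 ↔ R w) →
      Nat.card {q : V → ZMod 2 // Cfsg.Agent.S2564.Pol q ∧ P q} = Nat.card {w : V // R w} := fun P R h =>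
    Nat.card_congr ((Equiv.subtypeSubtypeEquivSubtypeInter _ _).symm.trans
      (e.subtypeEquiv fun w => (h w).symm).symm)
  have hV : Nat.card V = 2 ^ (2 * m) := by
    rw [Nat.card_fun, Nat.card_zmod, Nat.card_sum, Nat.card_fin]; congr 1; omega
  obtain ⟨k, rfl⟩ : ∃ k, m = k + 1 := ⟨m - 1, by omega⟩
  have hpow : (2 : ℕ) ^ (2 * (k + 1)) = 2 * 2 ^ (2 * (k + 1) - 1) := by
    rw [← pow_succ', Nat.sub_add_cancel (by omega)]
  have hpowk : (2 : ℕ) ^ (k + 1) = 2 * 2 ^ (k + 1 - 1) := by rw [Nat.add_sub_cancel, pow_succ']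
  have hzn : 2 * Nat.card {v : V // Q0 v = 0} = 2 ^ (2 * (k + 1)) + 2 ^ (k + 1) := by exact_mod_cast hz
  refine ⟨(Nat.card_congr e).symm.trans hV, fun q hq => Cfsg.Agent.S2564.plus_or_minus hq, ?_, ?_⟩
  · refine (hcount Cfsg.Agent.S2564.IsPlus (fun w => Q0 w = 0) hplus).trans ?_
    omega
  · refine (hcount Cfsg.Agent.S2564.IsMinus (fun w => ¬ Q0 w = 0) hminus).trans ?_
    have h3 : Nat.card {w : V // Q0 w = 0} + Nat.card {w : V // ¬ Q0 w = 0} = 2 ^ (2 * (k + 1)) := by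
      rw [← Nat.card_sum, Nat.card_congr (Equiv.sumCompl fun v : V => Q0 v = 0), hV]
    omega

end Cfsg.Agent.S2561
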