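import Cfsg.Statements.S2563


set_option autoImplicit false
open Cfsg

namespace Cfsg.Agent.S2563

variable {α : Type} [Fintype α] [DecidableEq α] {ι : Type}

local notation "F" => ZMod 2

/-- Weight modulo four. -/
def wt (w : α → F) : ZMod 4 := ∑ i, ((w i).val : ZMod 4)

/-- Twice a bit, modulo four. -/
def two (x : F) : ZMod 4 := 2 * (x.val : ZMod 4)

theorem two_inj : ∀ x y : F, two x = two y → x = y := by decide

/-- An even-set model of a quadratic form: an injective additive map to the subsets of `α` avoiding `p`,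
with half the weight giving the form. -/
structure Rep (α : Type) [Fintype α] (p : α) (ι : Type) (q : (ι → F) → F) where
  L : (ι → F) →+ (α → F)
  zero : ∀ u, L u p = 0
  wt_eq : ∀ u, wt (L u) = two (q u)
  inj : Function.Injective L

/-- Weights add over a sum of types. -/
theorem wt_elim {β : Type} [Fintype β] (w : α → F) (v : β → F) : wt (Sum.elim w v) = wt w + wt v := by
  simp [wt, Fintype.sum_sum_type]

theorem wt_flip (p : α) (w : α → F) (b : F) (hw : w p = 0) (hc : (Fintype.card α : ZMod 4) = 0) :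
    wt (fun i => w i + if i = p then 0 else b) = if b = 0 then wt w else -1 - wt w := by
  by_cases hb : b = 0
  · simp [hb]
  · have hb1 : b = 1 := (show ∀ b : F, b ≠ 0 → b = 1 from by decide) b hb
    subst hb1
    rw [if_neg hb]
    have key : ∀ i, (((w i + if i = p then 0 else 1).val : ℕ) : ZMod 4) + ((w i).val : ZMod 4)
        = 1 - if i = p then 1 else 0 := by
      intro i
      by_cases h : i = p
      · subst h; simp [hw]
      · simp only [h, if_false, sub_zero]
        exact (show ∀ x : F, (((x + 1).val : ℕ) : ZMod 4) + ((x.val : ℕ) : ZMod 4) = 1 from by decide) (w i)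
    have := Finset.sum_congr (s₁ := Finset.univ) rfl (fun i _ => key i)
    rw [Finset.sum_add_distrib, Finset.sum_sub_distrib, Finset.sum_const, Finset.card_univ,
      Finset.sum_ite_eq' Finset.univ p] at this
    simp only [Finset.mem_univ, if_true, nsmul_one, hc] at this
    unfold wt
    linear_combination this

/-- The four new coordinates. -/
def newFour (a b c d : F) : Fin 4 → F := ![a + c, a + c + d, a + d, a + b]

theorem step_arith : ∀ q a b c d : F,
    (if b = 0 then two q else -1 - two q) + wt (newFour a b c d) = two (q + a * b + (c ^ 2 + c * d + d ^ 2)) := by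
  decide

theorem newFour_inj : ∀ a b c d : F, newFour a b c d = 0 → b = 0 → a = 0 ∧ c = 0 ∧ d = 0 := by decide

theorem step {p : α} {q : (ι → F) → F} (R : Rep α p ι q) (hc : (Fintype.card α : ZMod 4) = 0)
    {κ : Type} {q' : (κ → F) → F} (e : (κ → F) →+ (ι → F) × F × F × F × F) (he : Function.Injective e)
    (hq : ∀ v, q' v = q (e v).1 + (e v).2.1 * (e v).2.2.1 +
      ((e v).2.2.2.1 ^ 2 + (e v).2.2.2.1 * (e v).2.2.2.2 + (e v).2.2.2.2 ^ 2))
    (hpq : ∃ i, i ≠ p) :
    Nonempty (Rep (α ⊕ Fin 4) (Sum.inl p) κ q') := by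
  let G : (ι → F) × F × F × F × F →+ ((α ⊕ Fin 4) → F) := AddMonoidHom.mk'
    (fun x => Sum.elim (fun i => R.L x.1 i + if i = p then 0 else x.2.2.1)
      (newFour x.2.1 x.2.2.1 x.2.2.2.1 x.2.2.2.2)) (fun x y => by
      funext i
      rcases i with i | i
      · by_cases h : i = p <;> simp [h, map_add] <;> abel
      · fin_cases i <;> simp [newFour] <;> abel)
  refine ⟨⟨G.comp e, fun u => by simp [G, R.zero], fun u => ?_, fun u v huv => he ?_⟩⟩
  · show wt (Sum.elim _ _) = _
    rw [wt_elim, wt_flip p _ _ (R.zero _) hc, R.wt_eq, step_arith, hq]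
  · have h0 : G (e u - e v) = 0 := by rw [map_sub]; exact sub_eq_zero.2 huv
    rw [← sub_eq_zero]
    generalize e u - e v = x at h0
    obtain ⟨x, a, b, c, d⟩ := x
    have hnew : newFour a b c d = 0 := funext fun i => congrFun h0 (Sum.inr i)
    have hb : b = 0 := by
      obtain ⟨i, hi⟩ := hpq
      by_contra hb
      have hb1 : b = 1 := (show ∀ b : F, b ≠ 0 → b = 1 from by decide) b hb
      subst hb1
      have hall : ∀ i, i ≠ p → R.L x i = 1 := fun i hi => by
        have h := congrFun h0 (Sum.inl i)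
        simp [G, hi] at h
        exact (show ∀ y : F, y + 1 = 0 → y = 1 from by decide) _ h
      have hwt : wt (R.L x) = (-1 : ZMod 4) := by
        have hh := wt_flip p (0 : α → F) 1 rfl hc
        rw [if_neg one_ne_zero] at hh
        have hz : wt (0 : α → F) = 0 := by simp [wt]
        rw [hz, sub_zero] at hh
        rw [← hh]
        congr 1
        funext i
        by_cases h : i = p
        · subst h; simp [R.zero]
        · simp [hall i h, h]
      rw [R.wt_eq] at hwt
      exact (show ∀ y : F, two y ≠ -1 from by decide) _ hwt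
    obtain ⟨rfl, rfl, rfl⟩ := newFour_inj a b c d hnew hb
    subst hb
    have hx : R.L x = R.L 0 := by
      rw [map_zero]
      funext i
      simpa [G] using congrFun h0 (Sum.inl i)
    rw [R.inj hx]
    rfl

theorem Rep.transport {β : Type} [Fintype β] {p : α} {q : (ι → F) → F} (R : Rep α p ι q) (f : α ≃ β) :
    Nonempty (Rep β (f p) ι q) := by
  refine ⟨⟨AddMonoidHom.mk' (fun u => R.L u ∘ f.symm) (fun u v => by funext i; simp), fun u => by simp [R.zero],
    fun u => ?_, fun u v h => R.inj (funext fun i => by simpa using congrFun h (f i))⟩⟩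
  rw [← R.wt_eq]
  exact Equiv.sum_comp f.symm (fun i => (((R.L u i).val : ℕ) : ZMod 4))

local notation "QP" m => Cfsg.quadFormPlus m (ZMod 2)
local notation "QM" m => Cfsg.quadFormMinus m (ZMod 2) 1 1

theorem reps : ∀ k : ℕ, ∃ p : Fin (4 * k + 4),
    (Odd k → Nonempty (Rep (Fin (4 * k + 4)) p (Fin (2 * k + 1) ⊕ Fin (2 * k + 1)) (QP (2 * k + 1)))) ∧
    (Even k → Nonempty (Rep (Fin (4 * k + 4)) p ((Fin (2 * k) ⊕ Fin (2 * k)) ⊕ Fin 2) (QM (2 * k)))) := by
  intro k
  induction k with
  | zero =>
    refine ⟨3, fun h => absurd h (by decide), fun _ => ⟨⟨AddMonoidHom.mk'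
      (fun u => ![u (Sum.inr 0), u (Sum.inr 0) + u (Sum.inr 1), u (Sum.inr 1), 0])
      (fun u v => by funext i; fin_cases i <;> simp <;> abel), fun u => rfl, fun u => ?_, fun u v h => ?_⟩⟩⟩
    · have hq : (QM (2 * 0)) u = u (Sum.inr 0) ^ 2 + u (Sum.inr 0) * u (Sum.inr 1) + u (Sum.inr 1) ^ 2 := by
        simp [Cfsg.quadFormMinus]
      rw [hq]
      exact (show ∀ c d : F, wt ![c, c + d, d, 0] = two (c ^ 2 + c * d + d ^ 2) from by decide) _ _
    · funext i
      rcases i with (i | i) | i
      · exact i.elim0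
      · exact i.elim0
      · fin_cases i
        · exact congrFun h 0
        · exact congrFun h 2
  | succ k ih =>
    obtain ⟨p, hodd, heven⟩ := ih
    have hc : (Fintype.card (Fin (4 * k + 4)) : ZMod 4) = 0 := by
      rw [Fintype.card_fin]; push_cast; rw [show (4 : ZMod 4) = 0 from rfl]; ring
    have hpq : ∃ i : Fin (4 * k + 4), i ≠ p := exists_ne p
    have hf : Nonempty ((Fin (4 * k + 4) ⊕ Fin 4) ≃ Fin (4 * (k + 1) + 4)) :=
      ⟨finSumFinEquiv.trans (finCongr (by ring))⟩
    obtain ⟨f⟩ := hf
    refine ⟨f (Sum.inl p), fun h => ?_, fun h => ?_⟩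
    · have hk : Even k := by rw [Nat.odd_add_one] at h; exact Nat.not_odd_iff_even.1 h
      obtain ⟨R⟩ := heven hk
      let n0 : Fin (2 * k) → Fin (2 * (k + 1) + 1) := fun i => ⟨i.1, by omega⟩
      let j : Fin 3 → Fin (2 * (k + 1) + 1) := fun i => ⟨2 * k + i.1, by omega⟩
      let e : ((Fin (2 * (k + 1) + 1) ⊕ Fin (2 * (k + 1) + 1)) → F) →+
          (((Fin (2 * k) ⊕ Fin (2 * k)) ⊕ Fin 2) → F) × F × F × F × F := AddMonoidHom.mk'
        (fun u => (Sum.elim (Sum.elim (fun i => u (.inl (n0 i))) (fun i => u (.inr (n0 i))))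
            ![u (.inl (j 1)) + u (.inr (j 1)), u (.inr (j 1)) + u (.inl (j 2)) + u (.inr (j 2))],
          u (.inl (j 0)), u (.inr (j 0)),
          u (.inl (j 1)) + u (.inr (j 1)) + u (.inr (j 2)), u (.inl (j 2)) + u (.inr (j 2))))
        (fun u v => by
          ext i
          · rcases i with (i | i) | i
            · simp
            · simp
            · fin_cases i <;> simp <;> abel
          all_goals (simp <;> abel))
      obtain ⟨R'⟩ := step R hc (q' := QP (2 * (k + 1) + 1)) e (fun u v huv => by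
        simp only [e, AddMonoidHom.mk'_apply, Prod.mk.injEq] at huv
        obtain ⟨hs, h1, h2, h3, h4⟩ := huv
        have hb0 := congrFun hs (.inr 0)
        have hb1 := congrFun hs (.inr 1)
        simp at hb0 hb1
        obtain ⟨e1, e2, e3, e4⟩ := (show ∀ a b c d a' b' c' d' : F, a + b = a' + b' → b + c + d = b' + c' + d' →
          a + b + d = a' + b' + d' → c + d = c' + d' → a = a' ∧ b = b' ∧ c = c' ∧ d = d' from by decide)
          _ _ _ _ _ _ _ _ hb0 hb1 h3 h4
        funext i
        rcases i with ⟨i, hi⟩ | ⟨i, hi⟩ <;> by_cases hlt : i < 2 * k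
        · exact congrFun hs (.inl (.inl ⟨i, hlt⟩))
        · rcases (by omega : i = 2 * k + 0 ∨ i = 2 * k + 1 ∨ i = 2 * k + 2) with rfl | rfl | rfl
          exacts [h1, e1, e3]
        · exact congrFun hs (.inl (.inr ⟨i, hlt⟩))
        · rcases (by omega : i = 2 * k + 0 ∨ i = 2 * k + 1 ∨ i = 2 * k + 2) with rfl | rfl | rfl
          exacts [h2, e2, e4]) (fun u => by
        have hsum : ∀ g : Fin (2 * (k + 1) + 1) → F,
            ∑ i, g i = (∑ i, g (n0 i)) + g (j 0) + g (j 1) + g (j 2) := by
          intro g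
          show ∑ i : Fin (2 * k + 1 + 1 + 1), g i = _
          rw [Fin.sum_univ_castSucc, Fin.sum_univ_castSucc, Fin.sum_univ_castSucc]
          rfl
        simp only [e, AddMonoidHom.mk'_apply, Cfsg.quadFormPlus, Cfsg.quadFormMinus, Sum.elim_inl,
          Sum.elim_inr, hsum]
        generalize u (.inl (j 0)) = a0
        generalize u (.inr (j 0)) = b0
        generalize u (.inl (j 1)) = a1
        generalize u (.inr (j 1)) = b1
        generalize u (.inl (j 2)) = a2
        generalize u (.inr (j 2)) = b2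
        generalize (∑ i, u (.inl (n0 i)) * u (.inr (n0 i))) = s
        simp only [Matrix.cons_val_zero, Matrix.cons_val_one]
        revert s a0 b0 a1 b1 a2 b2
        decide) hpq
      exact R'.transport f
    · have hk : Odd k := by rw [Nat.even_add_one] at h; exact Nat.not_even_iff_odd.1 h
      obtain ⟨R⟩ := hodd hk
      let n0 : Fin (2 * k + 1) → Fin (2 * (k + 1)) := fun i => ⟨i.1, by omega⟩
      let j : Fin (2 * (k + 1)) := ⟨2 * k + 1, by omega⟩
      let e : (((Fin (2 * (k + 1)) ⊕ Fin (2 * (k + 1))) ⊕ Fin 2) → F) →+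
          ((Fin (2 * k + 1) ⊕ Fin (2 * k + 1)) → F) × F × F × F × F := AddMonoidHom.mk'
        (fun u => (Sum.elim (fun i => u (.inl (.inl (n0 i)))) (fun i => u (.inl (.inr (n0 i)))),
          u (.inl (.inl j)), u (.inl (.inr j)), u (.inr 0), u (.inr 1)))
        (fun u v => by
          ext i
          · rcases i with i | i <;> simp
          all_goals simp)
      obtain ⟨R'⟩ := step R hc (q' := QM (2 * (k + 1))) e (fun u v huv => by
        simp only [e, AddMonoidHom.mk'_apply, Prod.mk.injEq] at huv
        obtain ⟨hs, h1, h2, h3, h4⟩ := huv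
        funext i
        rcases i with (⟨i, hi⟩ | ⟨i, hi⟩) | i
        · by_cases hlt : i < 2 * k + 1
          · exact congrFun hs (.inl ⟨i, hlt⟩)
          · obtain rfl : i = 2 * k + 1 := by omega
            exact h1
        · by_cases hlt : i < 2 * k + 1
          · exact congrFun hs (.inr ⟨i, hlt⟩)
          · obtain rfl : i = 2 * k + 1 := by omega
            exact h2
        · fin_cases i
          exacts [h3, h4]) (fun u => by
        have hsum : ∀ g : Fin (2 * (k + 1)) → F, ∑ i, g i = (∑ i, g (n0 i)) + g j := by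
          intro g
          show ∑ i : Fin (2 * k + 1 + 1), g i = _
          rw [Fin.sum_univ_castSucc]
          rfl
        simp only [e, AddMonoidHom.mk'_apply, Cfsg.quadFormPlus, Cfsg.quadFormMinus, Sum.elim_inl,
          Sum.elim_inr, hsum, one_mul]) hpq
      exact R'.transport f

/-- Normalise at the base point. -/
def norm (p : α) (w : α → F) : α → F := fun i => w i + w p

theorem wt_norm (p : α) (w : α → F) (hc : (Fintype.card α : ZMod 4) = 0) (he : ∃ y, wt w = two y) :
    wt (norm p w) = wt w := by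
  obtain ⟨y, hy⟩ := he
  by_cases h : w p = 0
  · exact congrArg wt (funext fun i => by simp [norm, h])
  · have hb1 : w p = 1 := (show ∀ b : F, b ≠ 0 → b = 1 from by decide) _ h
    have key : ∀ i, (((norm p w i).val : ℕ) : ZMod 4) + ((w i).val : ZMod 4) = 1 := fun i => by
      simp only [norm, hb1]
      exact (show ∀ x : F, (((x + 1).val : ℕ) : ZMod 4) + ((x.val : ℕ) : ZMod 4) = 1 from by decide) (w i)
    have := Finset.sum_congr (s₁ := Finset.univ) rfl (fun i _ => key i)
    rw [Finset.sum_add_distrib, Finset.sum_const, Finset.card_univ, nsmul_one, hc] at this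
    have h2 : wt (norm p w) = - wt w := by unfold wt; linear_combination this
    rw [h2, hy]
    exact (show ∀ y : F, - two y = two y from by decide) y

theorem parity (w : α → F) : (ZMod.castHom (show 2 ∣ 4 by norm_num) F) (wt w) = ∑ i, w i := by
  simp [wt, map_sum]

theorem sum_eq_zero_of (w : α → F) {y : F} (h : wt w = two y) : ∑ i, w i = 0 := by
  rw [← parity, h]
  exact (show ∀ y : F, (ZMod.castHom (show 2 ∣ 4 by norm_num) F) (two y) = 0 from by decide) y

theorem embed [Fintype ι] [DecidableEq ι] {p : α} {q : (ι → F) → F} (R : Rep α p ι q)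
    (hc : (Fintype.card α : ZMod 4) = 0) (hd : Fintype.card ι + 2 = Fintype.card α) (h5 : 5 ≤ Fintype.card α) :
    ∃ φ : Equiv.Perm α →* ↥(Cfsg.isometryGroup (ZMod 2) q), Function.Injective φ := by
  classical
  obtain ⟨p1, hp1⟩ : ∃ i, i ≠ p := by
    haveI : Nontrivial α := Fintype.one_lt_card_iff_nontrivial.1 (by omega)
    exact exists_ne p
  let β := {a : α // a ≠ p ∧ a ≠ p1}
  have hβ : Fintype.card β + 2 = Fintype.card α := by
    have h : Fintype.card β = Fintype.card α - ({p, p1} : Finset α).card := by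
      rw [← Finset.card_compl]
      exact Fintype.card_of_subtype _ (by simp)
    rw [Finset.card_pair hp1.symm] at h
    omega
  let r : (ι → F) → (β → F) := fun u a => R.L u a.1
  have ext' : ∀ w w' : α → F, w p = w' p → (∑ i, w i) = ∑ i, w' i → (∀ a : β, w a.1 = w' a.1) → w = w' := by
    intro w w' hp hs ha
    have h1 : ∀ i, i ≠ p1 → w i = w' i := fun i hi => by
      by_cases h : i = p
      · exact h ▸ hp
      · exact ha ⟨i, h, hi⟩
    funext i
    by_cases hi : i = p1
    · subst hi
      rw [← Finset.add_sum_erase _ _ (Finset.mem_univ i), ← Finset.add_sum_erase _ w' (Finset.mem_univ i),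
        Finset.sum_congr rfl (fun j hj => h1 j (Finset.ne_of_mem_erase hj))] at hs
      exact add_right_cancel hs
    · exact h1 i hi
  have hLs : ∀ u, ∑ i, R.L u i = 0 := fun u => sum_eq_zero_of _ (R.wt_eq u)
  have hr : Function.Bijective r := by
    rw [Fintype.bijective_iff_injective_and_card]
    refine ⟨fun u v h => R.inj (ext' _ _ (by rw [R.zero, R.zero]) (by rw [hLs, hLs]) (fun a => congrFun h a)), ?_⟩
    rw [Fintype.card_fun, Fintype.card_fun, show Fintype.card β = Fintype.card ι by omega]
  have surj : ∀ w : α → F, w p = 0 → ∑ i, w i = 0 → ∃ u, R.L u = w := fun w h0 hs => by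
    obtain ⟨u, hu⟩ := hr.2 (fun a => w a.1)
    exact ⟨u, ext' _ _ (by rw [R.zero, h0]) (by rw [hLs, hs]) (fun a => congrFun hu a)⟩
  have hwp : ∀ (σ : Equiv.Perm α) u, wt (R.L u ∘ σ.symm) = two (q u) := fun σ u => by
    rw [← R.wt_eq]; exact Equiv.sum_comp σ.symm (fun i => (((R.L u i).val : ℕ) : ZMod 4))
  have hnw : ∀ (σ : Equiv.Perm α) u, wt (norm p (R.L u ∘ σ.symm)) = two (q u) := fun σ u => by
    rw [wt_norm p _ hc ⟨_, hwp σ u⟩, hwp]
  have hex : ∀ (σ : Equiv.Perm α) u, ∃ v, R.L v = norm p (R.L u ∘ σ.symm) := fun σ u =>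
    surj _ ((show ∀ x : F, x + x = 0 from by decide) _) (sum_eq_zero_of _ (hnw σ u))
  choose T hT using hex
  have hadd : ∀ σ u v, T σ (u + v) = T σ u + T σ v := fun σ u v => R.inj (by
    rw [map_add, hT, hT, hT, map_add]
    funext i
    simp [norm]; abel)
  let A : Equiv.Perm α → ((ι → F) →ₗ[F] (ι → F)) := fun σ =>
    (AddMonoidHom.mk' (T σ) (hadd σ)).toZModLinearMap 2
  have hA : ∀ σ u, A σ u = T σ u := fun σ u => rfl
  have hA1 : A 1 = 1 := LinearMap.ext fun u => R.inj (by
    rw [hA, hT]
    funext i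
    show R.L u i + R.L u p = R.L u i
    rw [R.zero, add_zero])
  have hAm : ∀ σ τ, A (σ * τ) = A σ * A τ := fun σ τ => LinearMap.ext fun u => R.inj (by
    rw [Module.End.mul_apply, hA, hA, hA, hT, hT, hT]
    funext i
    show R.L u (τ.symm (σ.symm i)) + R.L u (τ.symm (σ.symm p)) =
      R.L u (τ.symm (σ.symm i)) + R.L u (τ.symm p) + (R.L u (τ.symm (σ.symm p)) + R.L u (τ.symm p))
    exact (show ∀ a b c : F, a + b = a + c + (b + c) from by decide) _ _ _)
  let M : Equiv.Perm α →* Matrix ι ι F :=
    { toFun := fun σ => LinearMap.toMatrix' (A σ)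
      map_one' := by simp only [hA1]; exact LinearMap.toMatrix'_id
      map_mul' := fun σ τ => by simp only [hAm]; exact LinearMap.toMatrix'_comp _ _ }
  have hM : ∀ σ u, Matrix.mulVec (M σ) u = T σ u := fun σ u => LinearMap.toMatrix'_mulVec (A σ) u
  refine ⟨(M.toHomUnits).codRestrict _ (fun σ u v => ?_), fun σ τ h => ?_⟩
  · show q (Matrix.mulVec (M σ) u) = q u
    rw [hM]
    exact two_inj _ _ (by rw [← R.wt_eq, hT, hnw])
  · have hστ : M σ = M τ := congrArg (fun x : ↥(Cfsg.isometryGroup (ZMod 2) q) =>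
      ((x : Matrix.GeneralLinearGroup ι F) : Matrix ι ι F)) h
    have hρ : ∀ u, T (τ⁻¹ * σ) u = u := fun u => by
      rw [← hM, map_mul, hστ, ← map_mul, inv_mul_cancel, map_one, Matrix.one_mulVec]
    refine (inv_mul_eq_one.1 (?_ : τ⁻¹ * σ = 1)).symm
    have hns : ∀ w : α → F, w p = 0 → (∑ i, w i) = 0 → ∀ i,
        w ((τ⁻¹ * σ).symm i) + w ((τ⁻¹ * σ).symm p) = w i := fun w h0 hs i => by
      obtain ⟨u, rfl⟩ := surj w h0 hs
      have := congrFun (hT (τ⁻¹ * σ) u) i
      rw [hρ] at this
      exact this.symm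
    generalize τ⁻¹ * σ = π at hns
    by_contra hπ
    obtain ⟨a, ha⟩ : ∃ a, π a ≠ a := by
      by_contra hh
      push Not at hh
      exact hπ (Equiv.ext hh)
    have outside : ∀ s : Finset α, s.card < Fintype.card α → ∃ b, b ∉ s := fun s hs => by
      by_contra hh
      push Not at hh
      rw [Finset.eq_univ_of_forall hh, Finset.card_univ] at hs
      exact lt_irrefl _ hs
    have pair : ∀ x y : α, x ≠ p → y ≠ p → x ≠ y → ∀ i,
        (if π.symm i = x ∨ π.symm i = y then (1 : F) else 0) + (if π.symm p = x ∨ π.symm p = y then (1 : F) else 0)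
          = if i = x ∨ i = y then 1 else 0 := by
      intro x y hx hy hxy i
      refine hns (fun j => if j = x ∨ j = y then 1 else 0) (by simp [Ne.symm hx, Ne.symm hy]) ?_ i
      rw [Finset.sum_boole, show (Finset.univ.filter fun j => j = x ∨ j = y) = {x, y} by ext; simp,
        Finset.card_pair hxy]
      rfl
    by_cases hc0 : π.symm p = p
    · have hπp : π p = p := ((Equiv.symm_apply_eq π).1 hc0).symm
      have hap : a ≠ p := fun e => ha (e ▸ hπp)
      obtain ⟨y, hy⟩ := outside {p, a, π a} (lt_of_le_of_lt Finset.card_le_three (by omega))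
      simp only [Finset.mem_insert, Finset.mem_singleton, not_or] at hy
      have e := pair a y hap hy.1 (Ne.symm hy.2.1) (π a)
      rw [Equiv.symm_apply_apply, if_pos (Or.inl rfl), hc0, if_neg (not_or.2 ⟨Ne.symm hap, Ne.symm hy.1⟩),
        if_neg (not_or.2 ⟨ha, Ne.symm hy.2.2⟩)] at e
      exact absurd e (by decide)
    · obtain ⟨y, hy⟩ := outside {p, π.symm p} (lt_of_le_of_lt Finset.card_le_two (by omega))
      simp only [Finset.mem_insert, Finset.mem_singleton, not_or] at hy
      obtain ⟨i, hi⟩ := outside {π.symm p, y, π (π.symm p), π y} (lt_of_le_of_lt Finset.card_le_four (by omega))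
      simp only [Finset.mem_insert, Finset.mem_singleton, not_or] at hi
      have e := pair (π.symm p) y hc0 hy.1 (Ne.symm hy.2) i
      rw [if_neg (not_or.2 ⟨fun h => hi.2.2.1 (by rw [← h, Equiv.apply_symm_apply]),
        fun h => hi.2.2.2 (by rw [← h, Equiv.apply_symm_apply])⟩), if_pos (Or.inl rfl),
        if_neg (not_or.2 ⟨hi.1, hi.2.1⟩)] at e
      exact absurd e (by decide)

/-- For k ≥ 1 the symmetric group of degree 4k + 4 embeds in a full orthogonal group in dimension 4k + 2 over the field of two elements: in the isometry group of the plus-type form Σ xᵢyᵢ when k is odd, and in that of the minus-type form Σ xᵢyᵢ + (z₁² + z₁z₂ + z₂²) when k is even (through its action on even partitions of a (4k+4)-set, with the form 'half the size of a part, modulo 2'). -/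
theorem result (k : ℕ) (hk : 1 ≤ k) :
    (Odd k → ∃ φ : Equiv.Perm (Fin (4 * k + 4)) →* ↥(Cfsg.isometryGroup (ZMod 2) (Cfsg.quadFormPlus (2 * k + 1) (ZMod 2))), Function.Injective φ) ∧
    (Even k → ∃ φ : Equiv.Perm (Fin (4 * k + 4)) →* ↥(Cfsg.isometryGroup (ZMod 2) (Cfsg.quadFormMinus (2 * k) (ZMod 2) 1 1)), Function.Injective φ) := by
  obtain ⟨p, ho, he⟩ := reps k
  have hc : (Fintype.card (Fin (4 * k + 4)) : ZMod 4) = 0 := by
    rw [Fintype.card_fin]; push_cast; rw [show (4 : ZMod 4) = 0 from rfl]; ring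
  refine ⟨fun h => ?_, fun h => ?_⟩
  · obtain ⟨R⟩ := ho h
    exact embed R hc (by simp; omega) (by simp; omega)
  · obtain ⟨R⟩ := he h
    exact embed R hc (by simp; omega) (by simp; omega)

end Cfsg.Agent.S2563
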