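import Cfsg.Statements.S2566
import Cfsg.Agent.S0287

set_option autoImplicit false
open Cfsg

open Matrix
open scoped Kronecker

namespace Cfsg.Agent.S2566

abbrev P := Equiv.Perm (Fin 3)
abbrev K := ZMod 2
abbrev I := Fin 2 ⊕ Fin 2
abbrev O := Cfsg.isometryGroup K (Cfsg.quadFormPlus 2 K)

def vv : Fin 3 → Fin 2 → K := ![![1, 0], ![0, 1], ![1, 1]]

/-- The matrix of a permutation of the three nonzero vectors. -/
def f (σ : P) : Matrix (Fin 2) (Fin 2) K := Matrix.of fun i j => vv (σ (Fin.castSucc j)) i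

theorem f_mul : ∀ σ τ : P, f (σ * τ) = f σ * f τ := by decide +kernel
theorem f_one : f 1 = 1 := by decide +kernel

def e : I ≃ Fin 2 × Fin 2 where
  toFun := Sum.elim ![(0, 0), (0, 1)] ![(1, 1), (1, 0)]
  invFun p := ![![Sum.inl 0, Sum.inl 1], ![Sum.inr 1, Sum.inr 0]] p.1 p.2
  left_inv := by unfold Function.LeftInverse; decide
  right_inv := by unfold Function.RightInverse Function.LeftInverse; decide

def kr (g h : Matrix (Fin 2) (Fin 2) K) : Matrix I I K := (g ⊗ₖ h).submatrix e e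

theorem kr_mul (g h g' h' : Matrix (Fin 2) (Fin 2) K) : kr g h * kr g' h' = kr (g * g') (h * h') := by
  rw [kr, kr, kr, Matrix.submatrix_mul_equiv, Matrix.mul_kronecker_mul]

theorem kr_one : kr 1 1 = 1 := by rw [kr, Matrix.one_kronecker_one, Matrix.submatrix_one_equiv]

def MA : P →* Matrix I I K where
  toFun σ := kr (f σ) 1
  map_one' := by rw [f_one, kr_one]
  map_mul' σ τ := by rw [kr_mul, mul_one, f_mul]

def MB : P →* Matrix I I K where
  toFun σ := kr 1 (f σ)
  map_one' := by rw [f_one, kr_one]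
  map_mul' σ τ := by rw [kr_mul, mul_one, f_mul]

def q (v : I → K) : K := v (.inl 0) * v (.inr 0) + v (.inl 1) * v (.inr 1)

theorem qfp (v : I → K) : Cfsg.quadFormPlus 2 K v = q v := Fin.sum_univ_two _

theorem MA_pres : ∀ σ : P, ∀ v : I → K, q (MA σ *ᵥ v) = q v := by decide +kernel
theorem MB_pres : ∀ σ : P, ∀ v : I → K, q (MB σ *ᵥ v) = q v := by decide +kernel

def lift (M : P →* Matrix I I K) (h : ∀ σ : P, ∀ v : I → K, q (M σ *ᵥ v) = q v) : P →* O :=
  M.toHomUnits.codRestrict O fun σ u _ => by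
    show Cfsg.quadFormPlus 2 K (M σ *ᵥ u) = Cfsg.quadFormPlus 2 K u
    rw [qfp, qfp]; exact h σ u

def φA : P →* O := lift MA MA_pres
def φB : P →* O := lift MB MB_pres

theorem coe_φA (σ : P) : (((φA σ : O) : GL I K) : Matrix I I K) = MA σ := rfl
theorem coe_φB (σ : P) : (((φB σ : O) : GL I K) : Matrix I I K) = MB σ := rfl

def T : Matrix I I K :=
  Matrix.of fun i j => if (e i).1 = (e j).2 ∧ (e i).2 = (e j).1 then 1 else 0

theorem T_sq : T * T = 1 := by decide +kernel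
theorem T_pres : ∀ v : I → K, q (T *ᵥ v) = q v := by decide +kernel
theorem T_swap : ∀ σ : P, T * MA σ * T = MB σ := by decide +kernel
theorem MA_eq_MB : ∀ σ τ : P, MA σ = MB τ → σ = 1 ∧ τ = 1 := by decide +kernel

def tO : O := ⟨⟨T, T, T_sq, T_sq⟩, fun u _ => by
  show Cfsg.quadFormPlus 2 K (T *ᵥ u) = Cfsg.quadFormPlus 2 K u
  rw [qfp, qfp]; exact T_pres u⟩

theorem oext {a b : O} (h : ((a : GL I K) : Matrix I I K) = ((b : GL I K) : Matrix I I K)) : a = b :=
  Subtype.ext (Units.ext h)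

theorem φ_comm (σ τ : P) : Commute (φA σ) (φB τ) := oext (by
  show MA σ * MB τ = MB τ * MA σ
  show kr (f σ) 1 * kr 1 (f τ) = kr 1 (f τ) * kr (f σ) 1
  rw [kr_mul, kr_mul, mul_one, one_mul, mul_one, one_mul])

theorem φ_eq {σ τ : P} (h : φA σ = φB τ) : σ = 1 ∧ τ = 1 :=
  MA_eq_MB σ τ (congrArg (fun g : O => ((g : GL I K) : Matrix I I K)) h)

theorem φA_inj : Function.Injective φA := (injective_iff_map_eq_one _).2 fun σ h =>
  (φ_eq (τ := 1) (h.trans (map_one φB).symm)).1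

theorem φB_inj : Function.Injective φB := (injective_iff_map_eq_one _).2 fun τ h =>
  (φ_eq (σ := 1) ((map_one φA).trans h.symm)).2

end Cfsg.Agent.S2566

namespace Cfsg.Agent.S2566

/-- The full orthogonal group of the plus-type form x₁y₁ + x₂y₂ in dimension 4 over the field of two elements has order 72 and is isomorphic to the wreath product of the symmetric group of degree 3 by a group of order 2: it has a normal subgroup isomorphic to the direct product of two symmetric groups of degree 3, of index 2, whose two direct factors are interchanged by conjugation by some element. -/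
theorem result :
    Nat.card ↥(Cfsg.isometryGroup (ZMod 2) (Cfsg.quadFormPlus 2 (ZMod 2))) = 72 ∧
    ∃ (A B : Subgroup ↥(Cfsg.isometryGroup (ZMod 2) (Cfsg.quadFormPlus 2 (ZMod 2)))),
      Nonempty (↥A ≃* Equiv.Perm (Fin 3)) ∧ Nonempty (↥B ≃* Equiv.Perm (Fin 3)) ∧ A ⊓ B = ⊥ ∧ (∀ a ∈ A, ∀ b ∈ B, a * b = b * a) ∧
      (A ⊔ B).index = 2 ∧ ∃ g : ↥(Cfsg.isometryGroup (ZMod 2) (Cfsg.quadFormPlus 2 (ZMod 2))), A.map (MulAut.conj g).toMonoidHom = B := by
  have hcard : Nat.card ↥(Cfsg.isometryGroup (ZMod 2) (Cfsg.quadFormPlus 2 (ZMod 2))) = 72 := by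
    rw [Cfsg.Agent.S0287.result (F := ZMod 2) (q := 2) (ZMod.card 2) 2 (by norm_num)]
    decide
  refine ⟨hcard, S2566.φA.range, S2566.φB.range, ⟨(MonoidHom.ofInjective S2566.φA_inj).symm⟩,
    ⟨(MonoidHom.ofInjective S2566.φB_inj).symm⟩, ?_, ?_, ?_, S2566.tO, ?_⟩
  · rw [eq_bot_iff]
    rintro x ⟨⟨σ, rfl⟩, τ, hτ⟩
    rw [(S2566.φ_eq hτ.symm).1, map_one]
    exact one_mem _
  · rintro _ ⟨σ, rfl⟩ _ ⟨τ, rfl⟩
    exact (S2566.φ_comm σ τ).eq
  · have hinj : Function.Injective (S2566.φA.noncommCoprod S2566.φB S2566.φ_comm) := by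
      rw [injective_iff_map_eq_one]
      rintro ⟨σ, τ⟩ h
      replace h : S2566.φA σ * S2566.φB τ = 1 := h
      rw [← eq_inv_iff_mul_eq_one, ← map_inv] at h
      obtain ⟨h1, h2⟩ := S2566.φ_eq h
      exact Prod.ext h1 (inv_eq_one.1 h2)
    have h36 : Nat.card ↥(S2566.φA.range ⊔ S2566.φB.range) = 36 := by
      rw [← MonoidHom.noncommCoprod_range S2566.φA S2566.φB S2566.φ_comm,
        ← Nat.card_congr (MonoidHom.ofInjective hinj).toEquiv, Nat.card_prod, Nat.card_perm, Nat.card_fin]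
      rfl
    have := Subgroup.card_mul_index (S2566.φA.range ⊔ S2566.φB.range)
    rw [hcard, h36] at this
    omega
  · ext x
    simp only [Subgroup.mem_map, MonoidHom.mem_range, MulEquiv.coe_toMonoidHom, MulAut.conj_apply]
    have key : ∀ σ, S2566.tO * S2566.φA σ * S2566.tO⁻¹ = S2566.φB σ := fun σ => S2566.oext (S2566.T_swap σ)
    constructor
    · rintro ⟨_, ⟨σ, rfl⟩, rfl⟩
      exact ⟨σ, (key σ).symm⟩
    · rintro ⟨σ, rfl⟩
      exact ⟨_, ⟨σ, rfl⟩, key σ⟩

end Cfsg.Agent.S2566
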