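import Cfsg.Statements.S2567
import Cfsg.Agent.Lib.Known.MatBasic

set_option autoImplicit false
open Cfsg

namespace Cfsg.Agent.S2567

/-- Lifting elements of prime order from PGL to GL: let F be a finite field with q elements, r a prime not dividing q − 1, and x an element of order r in GL_n(F) modulo its centre (the scalar matrices). Then x has exactly one preimage in GL_n(F) of order r. -/
theorem result {F : Type*} [Field F] [Fintype F] {q n r : ℕ} (hF : Fintype.card F = q) (hr : r.Prime) (hdiv : ¬ r ∣ q - 1) (x : GL (Fin n) F ⧸ Subgroup.center (GL (Fin n) F)) (hx : orderOf x = r) : ∃! g : GL (Fin n) F, (QuotientGroup.mk g : GL (Fin n) F ⧸ Subgroup.center (GL (Fin n) F)) = x ∧ orderOf g = r := by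
  rcases Nat.eq_zero_or_pos n with rfl | hn
  · exfalso
    have : Subsingleton (GL (Fin 0) F) := ⟨fun a b => Units.ext (Matrix.ext fun i => i.elim0)⟩
    obtain ⟨g, rfl⟩ := QuotientGroup.mk_surjective x
    rw [Subsingleton.elim g 1, QuotientGroup.mk_one, orderOf_one] at hx
    exact hr.one_lt.ne hx
  · haveI : Nonempty (Fin n) := ⟨⟨0, hn⟩⟩
    refine Cfsg.Agent.Known.MatBasic.exists_unique_lift _ le_rfl hr ?_ x hx
    rw [Cfsg.Agent.Classical.card_center_GL, hF]
    exact hdiv

end Cfsg.Agent.S2567
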