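import Cfsg.Statements.S2568
import Cfsg.Agent.Lib.Struct.SemisimpleClasses

set_option autoImplicit false
open Cfsg
open Polynomial

namespace Cfsg.Agent.S2568

/-- Number of conjugacy classes of elements of a given prime order r, coprime to the characteristic, in GL_n(q): if i is the multiplicative order of q modulo r and t = (r − 1)/i, the classes correspond to the non-zero t-tuples of natural numbers (a_1, …, a_t) with i(a_1 + ⋯ + a_t) ≤ n (a_j is the multiplicity of the j-th Frobenius orbit of nontrivial r-th roots of unity among the eigenvalues), so there are exactly C(⌊n/i⌋ + t, t) − 1 of them. -/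
theorem result {F : Type*} [Field F] [Fintype F] {p q : ℕ} [Fact p.Prime] [CharP F p] (hF : Fintype.card F = q) (n r i t : ℕ) (hr : r.Prime) (hrp : r ≠ p) (hi : i = orderOf (q : ZMod r)) (ht : t * i = r - 1) : Nat.card {C : ConjClasses (GL (Fin n) F) // ∃ g : GL (Fin n) F, ConjClasses.mk g = C ∧ orderOf g = r} = Nat.choose (n / i + t) t - 1 := by
  classical
  haveI : Fact r.Prime := ⟨hr⟩
  obtain ⟨⟨f, hf⟩, -, hqf⟩ := FiniteField.card F p
  simp only [PNat.mk_coe] at hqf
  have hrF : (r : F) ≠ 0 := fun e => hrp.symm ((Nat.prime_dvd_prime_iff_eq Fact.out hr).1 ((CharP.cast_eq_zero_iff F p r).1 e))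
  have hco : p.Coprime r := (Nat.coprime_primes Fact.out hr).2 hrp.symm
  have hiu : orderOf (ZMod.unitOfCoprime _ (hco.pow_left f)) = i := by
    rw [← orderOf_units, ZMod.coe_unitOfCoprime, hi, ← hF, hqf]
  have hi0 : 0 < i := by rw [← hiu]; exact orderOf_pos _
  set P : Finset F[X] := (UniqueFactorizationMonoid.normalizedFactors (cyclotomic r F)).toFinset with hP
  have hPcard : P.card = t := by
    rw [hP, normalizedFactors_cyclotomic_card hqf hco, hiu, Nat.totient_prime hr, ← ht, Nat.mul_div_cancel _ hi0]
  have hPm : ∀ g ∈ P, g.Monic ∧ Irreducible g ∧ g ∣ X ^ r - 1 ∧ g.natDegree = i ∧ g ≠ X - 1 := by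
    intro g hg
    rw [hP, Multiset.mem_toFinset] at hg
    have hirr := UniqueFactorizationMonoid.irreducible_of_normalized_factor g hg
    refine ⟨?_, hirr, (UniqueFactorizationMonoid.dvd_of_mem_normalizedFactors hg).trans (cyclotomic.dvd_X_pow_sub_one r F), ?_, ?_⟩
    · have := UniqueFactorizationMonoid.normalize_normalized_factor g hg
      rw [← this]
      exact monic_normalize hirr.ne_zero
    · rw [natDegree_of_mem_normalizedFactors_cyclotomic hqf hco hg, hiu]
    · rintro rfl
      have h := UniqueFactorizationMonoid.dvd_of_mem_normalizedFactors hg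
      rw [← map_one (C : F →+* F[X]), dvd_iff_isRoot, IsRoot, eval_one_cyclotomic_prime] at h
      exact hrF h
  set m := n / i with hm
  have hmn : i * m ≤ n := Nat.mul_div_le n i
  have hX : (X - 1 : F[X]).Monic ∧ Irreducible (X - 1 : F[X]) ∧ (X - 1 : F[X]) ∣ X ^ r - 1 ∧ (X - 1 : F[X]).natDegree = 1 := by
    rw [← map_one (C : F →+* F[X])]
    exact ⟨monic_X_sub_C _, irreducible_X_sub_C _, by rw [map_one]; exact sub_one_dvd_pow_sub_one _ r, natDegree_X_sub_C _⟩
  let hfun : Option P → Multiset F[X] := fun o => o.elim (Multiset.replicate i (X - 1)) (fun g => {(g : F[X])})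
  let E : Sym (Option P) m → Multiset F[X] := fun M => Multiset.replicate (n - i * m) (X - 1) + (M : Multiset (Option P)).bind hfun
  have hEmem : ∀ M, ∀ g ∈ E M, g.Monic ∧ Irreducible g ∧ g ∣ X ^ r - 1 := by
    intro M g hg
    rcases Multiset.mem_add.1 hg with hg | hg
    · rw [Multiset.eq_of_mem_replicate hg]; exact ⟨hX.1, hX.2.1, hX.2.2.1⟩
    · obtain ⟨o, -, ho⟩ := Multiset.mem_bind.1 hg
      rcases o with _ | ⟨o, hoP⟩
      · rw [Multiset.eq_of_mem_replicate ho]; exact ⟨hX.1, hX.2.1, hX.2.2.1⟩
      · rw [Multiset.mem_singleton.1 ho]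
        exact ⟨(hPm o hoP).1, (hPm o hoP).2.1, (hPm o hoP).2.2.1⟩
  have hEdeg : ∀ M, ((E M).map natDegree).sum = n := by
    intro M
    simp only [E, Multiset.map_add, Multiset.sum_add, Multiset.map_replicate, Multiset.sum_replicate, hX.2.2.2,
      Multiset.map_bind, Multiset.sum_bind, smul_eq_mul, mul_one]
    rw [Multiset.map_congr rfl (g := fun _ => i) fun o _ => ?_]
    · have hMc : (M : Multiset (Option P)).card = m := M.2
      simp only [Multiset.map_const', Multiset.sum_replicate, smul_eq_mul]
      erw [hMc]
      rw [mul_comm m]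
      omega
    · rcases o with _ | ⟨o, hoP⟩
      · simp [hfun, hX.2.2.2]
      · simp [hfun, (hPm o hoP).2.2.2.1]
  have hreal : ∀ M, ∃ g : GL (Fin n) F, g ^ r = 1 ∧ (g : Matrix (Fin n) (Fin n) F).charpoly = (E M).prod := by
    intro M
    obtain ⟨A, hA, hAc⟩ := Cfsg.Agent.Struct.SemisimpleClasses.exists_charpoly (E M) (hEmem M) (hEdeg M)
    have hu : A * A ^ (r - 1) = 1 ∧ A ^ (r - 1) * A = 1 := by
      rw [← pow_succ', ← pow_succ, Nat.sub_add_cancel hr.one_le]
      exact ⟨hA, hA⟩
    exact ⟨⟨A, A ^ (r - 1), hu.1, hu.2⟩, Units.ext (by rw [Units.val_pow_eq_pow_val, Units.val_one]; exact hA), hAc⟩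
  choose φ hφ hφc using hreal
  have hnf : ∀ M, UniqueFactorizationMonoid.normalizedFactors (E M).prod = E M := fun M => by
    rw [UniqueFactorizationMonoid.normalizedFactors_prod_eq _ (fun a ha => (hEmem M a ha).2.1)]
    exact (Multiset.map_congr rfl fun a ha => (hEmem M a ha).1.normalize_eq_self).trans (Multiset.map_id' _)
  have hinj : Function.Injective fun M => ConjClasses.mk (φ M) := by
    intro M M' h
    have h1 := Cfsg.Agent.Struct.SemisimpleClasses.charpoly_eq_of_isConj (ConjClasses.mk_eq_mk_iff_isConj.1 h)
    rw [hφc, hφc] at h1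
    have h2 : E M = E M' := by rw [← hnf M, h1, hnf]
    have h3 : ∀ g : P, (M : Multiset (Option P)).count (some g) = (M' : Multiset (Option P)).count (some g) := by
      intro g
      have key : ∀ N : Multiset (Option P), (N.bind hfun).count (g : F[X]) = N.count (some g) := by
        intro N
        induction N using Multiset.induction with
        | empty => simp
        | cons o N ih =>
          rw [Multiset.cons_bind, Multiset.count_add, ih, Multiset.count_cons, add_comm]
          congr 1
          rcases o with _ | o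
          · simp [hfun, Multiset.count_replicate, (hPm _ g.2).2.2.2.2.symm]
          · by_cases hgo : g = o
            · subst hgo; simp [hfun]
            · have : (g : F[X]) ≠ (o : F[X]) := fun e => hgo (Subtype.ext e)
              simp [hfun, this, hgo, Multiset.count_singleton]
      have h4 := congrArg (Multiset.count (g : F[X])) h2
      simp only [E, Multiset.count_add, key, add_right_inj] at h4
      exact h4
    refine Sym.coe_injective (Multiset.ext' fun o => ?_)
    rcases o with _ | o
    · have hc : ∀ N : Multiset (Option P), N.card = N.count none + ∑ g : P, N.count (some g) := fun N => by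
        rw [← Multiset.sum_count_eq_card (s := (Finset.univ : Finset (Option P))) (fun a _ => Finset.mem_univ a), Fintype.sum_option]
      have := hc (M : Multiset (Option P))
      have := hc (M' : Multiset (Option P))
      have h5 : (M : Multiset (Option P)).card = (M' : Multiset (Option P)).card := M.2.trans M'.2.symm
      have h6 : ∑ g : P, (M : Multiset (Option P)).count (some g) = ∑ g : P, (M' : Multiset (Option P)).count (some g) :=
        Finset.sum_congr rfl fun g _ => h3 g
      omega
    · exact h3 o
  have hrange : Set.range (fun M => ConjClasses.mk (φ M)) = {C : ConjClasses (GL (Fin n) F) | ∃ g, ConjClasses.mk g = C ∧ g ^ r = 1} := by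
    refine Set.ext fun C => ⟨fun ⟨M, hM⟩ => ⟨φ M, hM, hφ M⟩, ?_⟩
    rintro ⟨g, rfl, hg⟩
    set Q := (g : Matrix (Fin n) (Fin n) F).charpoly with hQdef
    have hQm : Q.Monic := Matrix.charpoly_monic _
    set S := UniqueFactorizationMonoid.normalizedFactors Q with hS
    have hmem : ∀ f ∈ S, f = X - 1 ∨ f ∈ P := by
      intro f hf
      have hfi := UniqueFactorizationMonoid.irreducible_of_normalized_factor f hf
      have hfm : f.Monic := by
        rw [← UniqueFactorizationMonoid.normalize_normalized_factor f hf]
        exact monic_normalize hfi.ne_zero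
      have hd := Cfsg.Agent.Struct.SemisimpleClasses.dvd_of_dvd_charpoly (g : Matrix (Fin n) (Fin n) F) hrF
        (by rw [← Units.val_pow_eq_pow_val, hg, Units.val_one]) hfm hfi (UniqueFactorizationMonoid.dvd_of_mem_normalizedFactors hf)
      rw [← cyclotomic_prime_mul_X_sub_one] at hd
      rcases hfi.prime.dvd_or_dvd hd with h | h
      · right
        rw [hP, Multiset.mem_toFinset, Polynomial.mem_normalizedFactors_iff (cyclotomic_ne_zero r F)]
        exact ⟨hfi, hfm, h⟩
      · exact Or.inl (eq_of_monic_of_associated hfm hX.1 (hfi.associated_of_dvd hX.2.1 h))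
    have hprod : S.prod = Q := by
      have hSm : S.prod.Monic := by
        have := monic_multiset_prod_of_monic S id fun f hf => by
          rw [id, ← UniqueFactorizationMonoid.normalize_normalized_factor f hf]
          exact monic_normalize (UniqueFactorizationMonoid.irreducible_of_normalized_factor f hf).ne_zero
        simpa using this
      exact eq_of_monic_of_associated hSm hQm (UniqueFactorizationMonoid.prod_normalizedFactors hQm.ne_zero)
    set S₁ := S.filter (fun f => f ∈ P) with hS₁
    set k := (S.filter (fun f => f ∉ P)).card with hk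
    have hS₀ : S.filter (fun f => f ∉ P) = Multiset.replicate k (X - 1) :=
      Multiset.eq_replicate.2 ⟨rfl, fun f hf => (hmem f (Multiset.mem_filter.1 hf).1).resolve_right (Multiset.mem_filter.1 hf).2⟩
    have hsplit : S₁ + Multiset.replicate k (X - 1) = S := by rw [← hS₀, hS₁, Multiset.filter_add_not]
    have hdeg : i * S₁.card + k = n := by
      have h1 : (S.map natDegree).sum = n := by
        rw [← natDegree_multiset_prod _ (UniqueFactorizationMonoid.zero_notMem_normalizedFactors _), hprod,
          hQdef, Matrix.charpoly_natDegree_eq_dim, Fintype.card_fin]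
      rw [← hsplit, Multiset.map_add, Multiset.sum_add, Multiset.map_replicate, Multiset.sum_replicate, hX.2.2.2,
        Multiset.map_congr rfl (g := fun _ => i) (fun f hf => (hPm f (Multiset.mem_filter.1 hf).2).2.2.2.1),
        Multiset.map_const', Multiset.sum_replicate, smul_eq_mul, smul_eq_mul] at h1
      linarith
    have hle : S₁.card ≤ m := by
      rw [hm, Nat.le_div_iff_mul_le hi0, mul_comm]; omega
    let M₀ : Multiset (Option P) := S₁.attach.map (fun f => some ⟨f.1, (Multiset.mem_filter.1 f.2).2⟩) + Multiset.replicate (m - S₁.card) none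
    have hM₀ : M₀.card = m := by simp [M₀]; omega
    let M₁ : Sym (Option P) m := Sym.mk M₀ hM₀
    refine ⟨M₁, ConjClasses.mk_eq_mk_iff_isConj.2 (Cfsg.Agent.Struct.SemisimpleClasses.isConj_of_charpoly_eq hrF (hφ _) hrF hg ?_)⟩
    have hbind : M₀.bind hfun = S₁ + Multiset.replicate ((m - S₁.card) * i) (X - 1) := by
      simp only [M₀, Multiset.add_bind, Multiset.bind_map]
      congr 1
      · simp only [hfun, Option.elim]
        rw [Multiset.bind_singleton, Multiset.attach_map_val]
      · induction (m - S₁.card) with
        | zero => simp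
        | succ j ih => rw [Multiset.replicate_succ, Multiset.cons_bind, ih, Nat.succ_mul, add_comm (j * i), Multiset.replicate_add]; rfl
    rw [hφc, ← hQdef, ← hprod]
    congr 1
    show Multiset.replicate (n - i * m) (X - 1) + M₀.bind hfun = S
    rw [hbind, add_left_comm, ← Multiset.replicate_add]
    conv_rhs => rw [← hsplit]
    congr 2
    rw [Nat.sub_mul, mul_comm m i, mul_comm S₁.card i]
    have : i * S₁.card ≤ i * m := Nat.mul_le_mul_left i hle
    omega
  have hall : Nat.card {C : ConjClasses (GL (Fin n) F) | ∃ g, ConjClasses.mk g = C ∧ g ^ r = 1} = Nat.choose (m + t) t := by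
    rw [← hrange, Nat.card_range_of_injective hinj, Nat.card_eq_fintype_card, Sym.card_sym_eq_choose, Fintype.card_option,
      Fintype.card_coe, hPcard, Nat.add_right_comm t 1 m, Nat.add_sub_cancel, add_comm t m, Nat.choose_symm_add]
  have hone : ConjClasses.mk (1 : GL (Fin n) F) ∈ {C : ConjClasses (GL (Fin n) F) | ∃ g, ConjClasses.mk g = C ∧ g ^ r = 1} := ⟨1, rfl, one_pow r⟩
  rw [← hall, Nat.card_coe_set_eq, ← Set.ncard_sdiff_singleton_of_mem hone, ← Nat.card_coe_set_eq]
  refine Nat.card_congr (Equiv.subtypeEquivRight fun C => ?_)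
  constructor
  · rintro ⟨g, rfl, hg⟩
    refine ⟨⟨g, rfl, hg ▸ pow_orderOf_eq_one g⟩, fun h => ?_⟩
    rw [Set.mem_singleton_iff, ConjClasses.mk_eq_mk_iff_isConj, isConj_one_left] at h
    rw [h, orderOf_one] at hg
    exact hr.ne_one hg.symm
  · rintro ⟨⟨g, rfl, hg⟩, hne⟩
    exact ⟨g, rfl, orderOf_eq_prime hg fun e => hne (by rw [e]; rfl)⟩

end Cfsg.Agent.S2568
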