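import Cfsg.Statements.S2569
import Cfsg.Agent.Lib.Struct.SemisimpleEnd

set_option autoImplicit false
open Cfsg
open Matrix

namespace Cfsg.Agent.S2569

theorem det_mat {F : Type*} [Field F] [Finite F] {p : ℕ} [Fact p.Prime] [CharP F p] {n : ℕ} (hn : 0 < n) (A : Matrix (Fin n) (Fin n) F) {a : ℕ}
    (ha : ¬ p ∣ a) (hA : A ^ a = 1) {c : F} (hc : c ≠ 0) :
    ∃ D : GL (Fin n) F, (D : Matrix (Fin n) (Fin n) F).det = c ∧ (D : Matrix (Fin n) (Fin n) F) * A = A * D := by
  haveI : Nonempty (Fin n) := ⟨⟨0, hn⟩⟩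
  obtain ⟨D, hD, hDc⟩ := Cfsg.Agent.Struct.SemisimpleEnd.exists_commute_det (Matrix.toLinAlgEquiv' A)
    (m := a) (fun e => ha ((CharP.cast_eq_zero_iff F p _).1 e)) (by rw [← map_pow, hA, map_one]) (c := c)
  have hd : (LinearMap.toMatrix' D).det = c := by rw [LinearMap.det_toMatrix', hD]
  refine ⟨Matrix.GeneralLinearGroup.mkOfDetNeZero (LinearMap.toMatrix' D) (hd.symm ▸ hc), hd, ?_⟩
  show LinearMap.toMatrix' D * A = A * LinearMap.toMatrix' D
  refine Matrix.toLin'.injective (LinearMap.ext fun v => ?_)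
  simp only [Matrix.toLin'_mul, Matrix.toLin'_toMatrix', LinearMap.comp_apply]
  exact hDc v


/-- In GL_n over a finite field of characteristic p, the conjugacy class of a semisimple element (an element of order prime to p) under the special linear group is its whole GL-conjugacy class: for every such x and every invertible g there is h of determinant one with h x h⁻¹ = g x g⁻¹. -/
theorem result {F : Type*} [Field F] [Fintype F] {p : ℕ} [Fact p.Prime] [CharP F p] {n : ℕ} (x g : GL (Fin n) F) (hx : (orderOf x).Coprime p) : ∃ h : GL (Fin n) F, (h : Matrix (Fin n) (Fin n) F).det = 1 ∧ h * x * h⁻¹ = g * x * g⁻¹ := by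
  rcases Nat.eq_zero_or_pos n with rfl | hn
  · exact ⟨g, Matrix.det_isEmpty, rfl⟩
  have hp : ¬ p ∣ orderOf x := (Fact.out : p.Prime).coprime_iff_not_dvd.1 hx.symm
  have hg0 : (g : Matrix (Fin n) (Fin n) F).det ≠ 0 := ((Matrix.isUnit_iff_isUnit_det _).1 g.isUnit).ne_zero
  obtain ⟨D, hD, hDc⟩ := det_mat hn (x : Matrix (Fin n) (Fin n) F) hp
    (by rw [← Units.val_pow_eq_pow_val, pow_orderOf_eq_one, Units.val_one]) (inv_ne_zero hg0)
  refine ⟨g * D, by rw [Units.val_mul, det_mul, hD, mul_inv_cancel₀ hg0], ?_⟩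
  have hc : D * x = x * D := Units.ext hDc
  calc g * D * x * (g * D)⁻¹ = g * (D * x) * D⁻¹ * g⁻¹ := by group
    _ = g * x * g⁻¹ := by rw [hc]; group

end Cfsg.Agent.S2569
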