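import Cfsg.Statements.S2570
import Cfsg.Agent.Lib.Struct.NilpotentForm
import Cfsg.Agent.Lib.Struct.UnipotentGL

set_option autoImplicit false
open Cfsg
open Matrix Cfsg.Agent.Struct

namespace Cfsg.Agent.S2570

variable {F : Type*} [Field F] {n : ℕ}

/-- The unipotent element of a partition. -/
noncomputable def U (μ : Nat.Partition n) : GL (Fin n) F :=
  ((Cfsg.Agent.Struct.NilpotentForm.isNilpotent_J (F := F) μ).isUnit_one_add).unit

theorem U_sub (μ : Nat.Partition n) :
    ((U μ : GL (Fin n) F) : Matrix (Fin n) (Fin n) F) - 1 = Cfsg.Agent.Struct.NilpotentForm.J F μ := by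
  rw [U, IsUnit.unit_spec, add_sub_cancel_left]

theorem U_inj {μ ν : Nat.Partition n} (h : ConjClasses.mk (U μ : GL (Fin n) F) = ConjClasses.mk (U ν)) : μ = ν := by
  obtain ⟨g, hg⟩ := isConj_iff.1 (ConjClasses.mk_eq_mk_iff_isConj.1 h)
  rw [mul_inv_eq_iff_eq_mul] at hg
  refine Cfsg.Agent.Struct.NilpotentForm.J_injective g ?_
  rw [← U_sub, ← U_sub, Matrix.mul_sub, Matrix.sub_mul, Matrix.mul_one, Matrix.one_mul, ← Units.val_mul, ← Units.val_mul, hg]

theorem U_surj (u : GL (Fin n) F) (hu : IsNilpotent ((u : Matrix (Fin n) (Fin n) F) - 1)) :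
    ∃ μ : Nat.Partition n, IsConj (U μ) u := by
  obtain ⟨μ, g, hg⟩ := Cfsg.Agent.Struct.NilpotentForm.exists_conj _ hu
  refine ⟨μ, (isConj_iff.2 ⟨g, ?_⟩).symm⟩
  rw [mul_inv_eq_iff_eq_mul]
  refine Units.ext ?_
  rw [Units.val_mul, Units.val_mul]
  rw [← U_sub, Matrix.mul_sub, Matrix.sub_mul, Matrix.mul_one, Matrix.one_mul] at hg
  exact sub_left_injective hg

theorem rank_zero_iff {M : Matrix (Fin n) (Fin n) F} : M.rank = 0 ↔ M = 0 := by
  refine ⟨fun h => ?_, fun h => by rw [h, Matrix.rank_zero]⟩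
  rw [Matrix.rank, Submodule.finrank_eq_zero, LinearMap.range_eq_bot] at h
  exact Matrix.toLin'.injective (h.trans (map_zero _).symm)


/-- Number of conjugacy classes of elements of order p in GL_n over a finite field of characteristic p: they correspond to the Jordan types, that is, to the partitions of n with all parts at most p other than the partition into ones, so there are (number of partitions of n with parts ≤ p) − 1 of them. -/
theorem result {F : Type*} [Field F] [Fintype F] {p : ℕ} [Fact p.Prime] [CharP F p] (n : ℕ) : Nat.card {C : ConjClasses (GL (Fin n) F) // ∃ g : GL (Fin n) F, ConjClasses.mk g = C ∧ orderOf g = p} = (Finset.univ.filter (fun μ : Nat.Partition n => ∀ a ∈ μ.parts, a ≤ p)).card - 1 := by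
  classical
  have hp : p.Prime := Fact.out
  let T := {μ : Nat.Partition n // (∀ a ∈ μ.parts, a ≤ p) ∧ ∃ a ∈ μ.parts, a ≠ 1}
  let S := {C : ConjClasses (GL (Fin n) F) // ∃ g : GL (Fin n) F, ConjClasses.mk g = C ∧ orderOf g = p}
  have hiff : ∀ μ : Nat.Partition n, orderOf (U μ : GL (Fin n) F) = p ↔ (∀ a ∈ μ.parts, a ≤ p) ∧ ∃ a ∈ μ.parts, a ≠ 1 := by
    intro μ
    have hpow : (U μ : GL (Fin n) F) ^ p = 1 ↔ ∀ a ∈ μ.parts, a ≤ p := by
      have h1 := UnipotentGL.pow_char_eq_one_iff p (U μ : GL (Fin n) F) 1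
      rw [pow_one, U_sub] at h1
      rw [h1, ← rank_zero_iff, NilpotentForm.rank_J_pow, Multiset.sum_eq_zero_iff]
      simp only [Multiset.mem_map, forall_exists_index, and_imp, forall_apply_eq_imp_iff₂, Nat.sub_eq_zero_iff_le]
    have hone : (U μ : GL (Fin n) F) = 1 ↔ ∀ a ∈ μ.parts, a = 1 := by
      have h2 : (U μ : GL (Fin n) F) = 1 ↔ NilpotentForm.J F μ ^ 1 = 0 := by
        rw [pow_one, Units.ext_iff, Units.val_one, ← sub_eq_zero, U_sub]
      rw [h2, ← rank_zero_iff, NilpotentForm.rank_J_pow, Multiset.sum_eq_zero_iff]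
      simp only [Multiset.mem_map, forall_exists_index, and_imp, forall_apply_eq_imp_iff₂, Nat.sub_eq_zero_iff_le]
      exact forall₂_congr fun a ha => ⟨fun h => le_antisymm h (μ.parts_pos ha), fun h => h.le⟩
    constructor
    · intro h
      refine ⟨hpow.1 (h ▸ pow_orderOf_eq_one _), ?_⟩
      by_contra hall
      push Not at hall
      rw [hone.2 hall, orderOf_one] at h
      exact hp.ne_one h.symm
    · rintro ⟨h1, a, ha, ha1⟩
      exact orderOf_eq_prime (hpow.2 h1) fun e => ha1 (hone.1 e a ha)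
  let f : T → S := fun μ => ⟨ConjClasses.mk (U μ.1), U μ.1, rfl, (hiff μ.1).2 μ.2⟩
  have hf : Function.Bijective f := by
    refine ⟨fun μ ν h => Subtype.ext (U_inj (congrArg Subtype.val h)), ?_⟩
    rintro ⟨C, g, rfl, hg⟩
    obtain ⟨μ, hμ⟩ := U_surj g (UnipotentGL.isNilpotent_of_orderOf p g (k := 1) (by rw [pow_one, hg]))
    have ho : orderOf (U μ : GL (Fin n) F) = p := by
      obtain ⟨c, hc⟩ := isConj_iff.1 hμ
      rw [← hg, ← hc]
      exact (MulEquiv.orderOf_eq (MulAut.conj c) _).symm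
    exact ⟨⟨μ, (hiff μ).1 ho⟩, Subtype.ext (ConjClasses.mk_eq_mk_iff_isConj.2 hμ)⟩
  rw [show Nat.card _ = Nat.card T from (Nat.card_eq_of_bijective f hf).symm, Nat.card_eq_fintype_card, Fintype.card_subtype]
  let ones : Nat.Partition n :=
    ⟨Multiset.replicate n 1, fun h => by rw [Multiset.eq_of_mem_replicate h]; exact one_pos, by simp⟩
  have hset : (Finset.univ.filter fun μ : Nat.Partition n => (∀ a ∈ μ.parts, a ≤ p) ∧ ∃ a ∈ μ.parts, a ≠ 1) =
      (Finset.univ.filter fun μ : Nat.Partition n => ∀ a ∈ μ.parts, a ≤ p).erase ones := by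
    ext μ
    simp only [Finset.mem_filter, Finset.mem_univ, true_and, Finset.mem_erase]
    constructor
    · rintro ⟨h1, a, ha, ha1⟩
      refine ⟨fun e => ha1 ?_, h1⟩
      rw [e] at ha
      exact Multiset.eq_of_mem_replicate ha
    · rintro ⟨h1, h2⟩
      refine ⟨h2, ?_⟩
      by_contra hall
      push Not at hall
      refine h1 (Nat.Partition.ext ?_)
      show μ.parts = Multiset.replicate n 1
      refine Multiset.eq_replicate.2 ⟨?_, hall⟩
      have hs := μ.parts_sum
      rw [Multiset.eq_replicate.2 ⟨rfl, hall⟩, Multiset.sum_replicate, smul_eq_mul, mul_one] at hs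
      exact hs
  rw [hset, Finset.card_erase_of_mem]
  refine Finset.mem_filter.2 ⟨Finset.mem_univ _, fun a ha => ?_⟩
  rw [Multiset.eq_of_mem_replicate ha]
  exact hp.one_lt.le

end Cfsg.Agent.S2570
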