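import Cfsg.Statements.S2571
import Cfsg.Agent.Lib.Struct.UnipotentGL

set_option autoImplicit false
open Cfsg
open Cfsg.Agent.Struct.UnipotentGL Matrix

namespace Cfsg.Agent.S2571

/-- Centraliser of a regular unipotent element in GL_n(q): if u is an invertible n × n matrix over the field with q elements, n ≥ 1, with (u − 1)^n = 0 and rank(u − 1) = n − 1 (a single unipotent Jordan block), then its centraliser in GL_n(q) has order (q − 1) q^(n−1). -/
theorem result {F : Type*} [Field F] [Fintype F] {q n : ℕ} (hF : Fintype.card F = q) (hn : 1 ≤ n) (u : GL (Fin n) F) (hnil : ((u : Matrix (Fin n) (Fin n) F) - 1) ^ n = 0) (hreg : ((u : Matrix (Fin n) (Fin n) F) - 1).rank = n - 1) : Nat.card ↥(Subgroup.centralizer ({u} : Set (GL (Fin n) F))) = (q - 1) * q ^ (n - 1) := by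
  classical
  set N : Module.End F (Fin n → F) := Matrix.toLinAlgEquiv' ((u : Matrix (Fin n) (Fin n) F) - 1) with hN
  have hNnil : IsNilpotent N := ⟨n, by rw [hN, ← map_pow, hnil, map_zero]⟩
  have hk : Module.finrank F (LinearMap.ker N) ≤ 1 := by
    have h := LinearMap.finrank_range_add_finrank_ker N
    rw [show Module.finrank F (LinearMap.range N) = ((u : Matrix (Fin n) (Fin n) F) - 1).rank from rfl, hreg, Module.finrank_fin_fun] at h
    omega
  have hrange : LinearMap.range N ≤ LinearMap.ker (N ^ (n - 1)) := by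
    rintro _ ⟨w, rfl⟩
    rw [LinearMap.mem_ker, ← Module.End.mul_apply, ← pow_succ, Nat.sub_add_cancel hn, hN, ← map_pow, hnil, map_zero,
      LinearMap.zero_apply]
  have hdim : Module.finrank F (LinearMap.ker (N ^ (n - 1))) = n - 1 := by
    refine le_antisymm ((finrank_ker_pow_le N _).trans (by simpa using Nat.mul_le_mul_left (n - 1) hk)) ?_
    refine le_of_eq_of_le ?_ (Submodule.finrank_mono hrange)
    exact hreg.symm
  obtain ⟨v₀, -, hv₀⟩ := SetLike.exists_of_lt (lt_top_iff_ne_top.2 (fun e => by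
    rw [e, finrank_top, Module.finrank_fin_fun] at hdim; omega) : LinearMap.ker (N ^ (n - 1)) < ⊤)
  rw [LinearMap.mem_ker] at hv₀
  -- matrices commuting with `u` are determined by the image of a cyclic vector, which is arbitrary
  set U := (u : Matrix (Fin n) (Fin n) F)
  have hcomm : ∀ g : Matrix (Fin n) (Fin n) F, Commute g U → ∀ i w, Matrix.toLinAlgEquiv' g ((N ^ i) w) = (N ^ i) (Matrix.toLinAlgEquiv' g w) := by
    intro g hg i w
    have h : Commute (Matrix.toLinAlgEquiv' g) (N ^ i) :=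
      (((hg.sub_right (Commute.one_right g)).map Matrix.toLinAlgEquiv'.toRingHom).pow_right i)
    exact LinearMap.congr_fun h.eq w
  have hext : ∀ w, (N ^ (n - 1)) w ≠ 0 → ∀ g h : Matrix (Fin n) (Fin n) F, Commute g U → Commute h U →
      g.mulVec w = h.mulVec w → g = h := by
    intro w hw g h hg hh he
    apply Matrix.toLinAlgEquiv'.injective
    refine LinearMap.ext_on_range (span_pow_eq_top hNnil (v := w) (by rwa [Module.finrank_fin_fun])) fun i => ?_
    rw [hcomm g hg, hcomm h hh, Matrix.toLinAlgEquiv'_apply, Matrix.toLinAlgEquiv'_apply, he]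
  have hex : ∀ w, (N ^ (n - 1)) w ≠ 0 → ∀ t, ∃ g : Matrix (Fin n) (Fin n) F, Commute g U ∧ g.mulVec w = t := by
    intro w hw t
    have ht : t ∈ Submodule.span F (Set.range fun i : ℕ => (N ^ i) w) := by
      rw [span_pow_eq_top hNnil (v := w) (by rwa [Module.finrank_fin_fun])]; exact Submodule.mem_top
    induction ht using Submodule.span_induction with
    | mem x hx =>
      obtain ⟨i, rfl⟩ := hx
      refine ⟨(U - 1) ^ i, ((Commute.refl U).sub_left (Commute.one_left U)).pow_left i, ?_⟩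
      simp only [hN, ← map_pow, Matrix.toLinAlgEquiv'_apply]
    | zero => exact ⟨0, Commute.zero_left U, zero_mulVec _⟩
    | add x y _ _ hx hy =>
      obtain ⟨g, hg, rfl⟩ := hx
      obtain ⟨h, hh, rfl⟩ := hy
      exact ⟨g + h, hg.add_left hh, add_mulVec _ _ _⟩
    | smul c x _ hx =>
      obtain ⟨g, hg, rfl⟩ := hx
      exact ⟨c • g, hg.smul_left c, smul_mulVec _ _ _⟩
  let T := {w : Fin n → F // w ∉ LinearMap.ker (N ^ (n - 1))}
  have hcC : ∀ g : GL (Fin n) F, g ∈ Subgroup.centralizer ({u} : Set (GL (Fin n) F)) → Commute (g : Matrix (Fin n) (Fin n) F) U := fun g hg => by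
    have h := congrArg Units.val (Subgroup.mem_centralizer_singleton_iff.1 hg)
    exact h
  let f : ↥(Subgroup.centralizer ({u} : Set (GL (Fin n) F))) → T := fun g => ⟨((g : GL (Fin n) F) : Matrix (Fin n) (Fin n) F).mulVec v₀, fun h => by
    rw [LinearMap.mem_ker, ← Matrix.toLinAlgEquiv'_apply, ← hcomm _ (hcC g g.2)] at h
    refine hv₀ ?_
    have h' := congrArg (((g : GL (Fin n) F)⁻¹ : GL (Fin n) F) : Matrix (Fin n) (Fin n) F).mulVec h
    rwa [Matrix.toLinAlgEquiv'_apply, mulVec_mulVec, Units.inv_mul, one_mulVec, mulVec_zero] at h'⟩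
  have hf : Function.Bijective f := by
    refine ⟨fun a b hab => Subtype.ext (Units.ext (hext v₀ hv₀ _ _ (hcC a a.2) (hcC b b.2) (congrArg Subtype.val hab))), ?_⟩
    rintro ⟨w, hw⟩
    rw [LinearMap.mem_ker] at hw
    obtain ⟨g, hg, hgv⟩ := hex v₀ hv₀ w
    obtain ⟨h, hh, hhv⟩ := hex w hw v₀
    have h1 : h * g = 1 := hext v₀ hv₀ _ _ (hh.mul_left hg) (Commute.one_left U) (by rw [← mulVec_mulVec, hgv, hhv, one_mulVec])
    have h2 : g * h = 1 := mul_eq_one_comm.1 h1
    refine ⟨⟨⟨g, h, h2, h1⟩, Subgroup.mem_centralizer_singleton_iff.2 (Units.ext hg.eq)⟩, Subtype.ext hgv⟩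
  rw [Nat.card_eq_of_bijective f hf]
  show Nat.card {w : Fin n → F // ¬ w ∈ LinearMap.ker (N ^ (n - 1))} = _
  rw [Nat.card_eq_fintype_card, Fintype.card_subtype_compl]
  rw [show Fintype.card {w : Fin n → F // w ∈ LinearMap.ker (N ^ (n - 1))} = Fintype.card (LinearMap.ker (N ^ (n - 1))) from rfl,
    Module.card_eq_pow_finrank (K := F) (V := LinearMap.ker (N ^ (n - 1))), hdim, Fintype.card_fun, hF, Fintype.card_fin]
  obtain ⟨k, rfl⟩ : ∃ k, n = k + 1 := ⟨n - 1, by omega⟩
  rw [Nat.add_sub_cancel, pow_succ', Nat.sub_mul, one_mul]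

end Cfsg.Agent.S2571
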