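import Cfsg.Statements.S2573
import Cfsg.Agent.Lib.Struct.UnipotentGL

set_option autoImplicit false
open Cfsg
open Cfsg.Agent.Struct.UnipotentGL Matrix

namespace Cfsg.Agent.S2573

/-- The invariant subspaces of a regular unipotent matrix form a chain: over a finite field, if u is an n × n matrix with (u − 1)^n = 0 and rank(u − 1) = n − 1, then every subspace W of F^n with u W ⊆ W is the kernel of (u − 1)^(dim W); so u has at most one invariant subspace of each dimension. -/
theorem result {F : Type*} [Field F] [Finite F] {n : ℕ} (u : Matrix (Fin n) (Fin n) F) (hnil : (u - 1) ^ n = 0) (hreg : (u - 1).rank = n - 1) (W : Submodule F (Fin n → F)) (hW : ∀ v ∈ W, u.mulVec v ∈ W) : W = LinearMap.ker (Matrix.mulVecLin ((u - 1) ^ Module.finrank F W)) := by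
  classical
  set M := u - 1
  set N : Module.End F (Fin n → F) := Matrix.toLinAlgEquiv' M with hN
  have hNv : ∀ v, N v = u.mulVec v - v := fun v => by
    rw [hN, Matrix.toLinAlgEquiv'_apply, Matrix.sub_mulVec, Matrix.one_mulVec]
  have hker : LinearMap.ker (Matrix.mulVecLin (M ^ Module.finrank F W)) = LinearMap.ker (N ^ Module.finrank F W) := by
    rw [hN, ← map_pow]; rfl
  rw [hker]
  have h1 : Module.finrank F (LinearMap.ker N) ≤ 1 := by
    have h := LinearMap.finrank_range_add_finrank_ker N
    rw [show Module.finrank F (LinearMap.range N) = M.rank from rfl, hreg, Module.finrank_fin_fun] at h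
    omega
  have hWi : ∀ v ∈ W, N v ∈ W := fun v hv => by rw [hNv]; exact W.sub_mem (hW v hv) hv
  set R := N.restrict hWi
  have hR : IsNilpotent R := Module.End.isNilpotent.restrict hWi ⟨n, by rw [hN, ← map_pow, hnil, map_zero]⟩
  have hR0 : R ^ Module.finrank F W = 0 := by
    have := (hR.charpoly_eq_X_pow_finrank).symm ▸ LinearMap.aeval_self_charpoly R
    simpa using this
  refine Submodule.eq_of_le_of_finrank_le (fun v hv => ?_) ?_
  · rw [LinearMap.mem_ker]
    have h2 := LinearMap.congr_fun hR0 ⟨v, hv⟩
    rw [Module.End.pow_restrict] at h2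
    exact congrArg Subtype.val h2
  · exact (finrank_ker_pow_le N _).trans (by simpa using Nat.mul_le_mul_left (Module.finrank F W) h1)

end Cfsg.Agent.S2573
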