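import Cfsg.Statements.S2574
-- import your own Cfsg.Agent.* helpers here

set_option autoImplicit false
open Cfsg

namespace Cfsg.Agent.S2574

/-- A regular unipotent element of the symplectic group has totally isotropic small invariant subspaces: over a finite field, if u ∈ Sp_2m(F) satisfies (u − 1)^(2m) = 0 and rank(u − 1) = 2m − 1, and W is a u-invariant subspace with 2 dim W ≤ 2m, then the alternating form vanishes identically on W. -/
theorem result {F : Type*} [Field F] [Finite F] {m : ℕ} (u : Matrix.symplecticGroup (Fin m) F) (hnil : ((u : Matrix (Fin m ⊕ Fin m) (Fin m ⊕ Fin m) F) - 1) ^ (2 * m) = 0) (hreg : ((u : Matrix (Fin m ⊕ Fin m) (Fin m ⊕ Fin m) F) - 1).rank = 2 * m - 1) (W : Submodule F (Fin m ⊕ Fin m → F)) (hW : ∀ v ∈ W, (u : Matrix (Fin m ⊕ Fin m) (Fin m ⊕ Fin m) F).mulVec v ∈ W) (hdim : 2 * Module.finrank F W ≤ 2 * m) : ∀ v ∈ W, ∀ w ∈ W, Cfsg.sympForm m F v w = 0 := by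
  classical
  set U : Matrix (Fin m ⊕ Fin m) (Fin m ⊕ Fin m) F := (u : Matrix (Fin m ⊕ Fin m) (Fin m ⊕ Fin m) F) with hU
  set N := U - 1 with hN
  set T : Module.End F (Fin m ⊕ Fin m → F) := Matrix.toLinAlgEquiv' N with hT
  have hTpow : ∀ (j : ℕ) (x : Fin m ⊕ Fin m → F), (T ^ j) x = (N ^ j).mulVec x := fun j x => by
    rw [hT, ← map_pow]; rfl
  have hker1 : Module.finrank F (LinearMap.ker T) ≤ 1 := by
    have h := LinearMap.finrank_range_add_finrank_ker T
    have hr : Module.finrank F (LinearMap.range T) = 2 * m - 1 := hreg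
    rw [hr, Module.finrank_pi, Fintype.card_sum, Fintype.card_fin] at h
    omega
  have hker : ∀ j, Module.finrank F (LinearMap.ker (T ^ j)) ≤ j := by
    intro j
    induction j with
    | zero =>
      rw [pow_zero, show LinearMap.ker (1 : Module.End F (Fin m ⊕ Fin m → F)) = ⊥ from LinearMap.ker_id, finrank_bot]
    | succ j ih =>
      let φ : LinearMap.ker (T ^ (j + 1)) →ₗ[F] LinearMap.ker (T ^ j) :=
        T.restrict fun x hx => by
          rw [LinearMap.mem_ker] at hx ⊢
          rwa [pow_succ, Module.End.mul_apply] at hx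
      have h := LinearMap.finrank_range_add_finrank_ker φ
      have h1 : Module.finrank F (LinearMap.range φ) ≤ j := (Submodule.finrank_le _).trans ih
      have h2 : Module.finrank F (LinearMap.ker φ) ≤ 1 := by
        refine le_trans ?_ hker1
        let ψ : LinearMap.ker φ →ₗ[F] LinearMap.ker T :=
          { toFun := fun x => ⟨x.1.1, congrArg Subtype.val (LinearMap.mem_ker.1 x.2)⟩
            map_add' := fun _ _ => rfl
            map_smul' := fun _ _ => rfl }
        exact LinearMap.finrank_le_finrank_of_injective (f := ψ)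
          fun x y e => Subtype.ext (Subtype.ext (congrArg Subtype.val e :))
      omega
  set k := Module.finrank F W with hk
  have hWT : ∀ v ∈ W, T v ∈ W := fun v hv => by
    show N.mulVec v ∈ W
    rw [hN, Matrix.sub_mulVec, Matrix.one_mulVec]
    exact W.sub_mem (hW v hv) hv
  have hWk : W ≤ LinearMap.ker (T ^ k) := by
    intro v hv
    have hnil' : T ^ (2 * m) = 0 := by rw [hT, ← map_pow, hnil, map_zero]
    have h2 : (T.restrict hWT) ^ (2 * m) = 0 := by
      rw [Module.End.pow_restrict (2 * m)]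
      exact LinearMap.ext fun x => Subtype.ext (by simp [hnil'])
    have h3 := Module.End.ker_pow_le_ker_pow_finrank (T.restrict hWT) (2 * m)
    rw [h2, LinearMap.ker_zero] at h3
    have h4 : ((T.restrict hWT) ^ k) ⟨v, hv⟩ = 0 := h3 (Submodule.mem_top)
    rw [Module.End.pow_restrict k] at h4
    exact congrArg Subtype.val h4
  set j := 2 * m - k with hj
  have hR1 : LinearMap.range (T ^ j) ≤ LinearMap.ker (T ^ k) := by
    rintro _ ⟨x, rfl⟩
    rw [LinearMap.mem_ker, ← Module.End.mul_apply, ← pow_add, show k + j = 2 * m by omega, hT, ← map_pow, hnil, map_zero]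
    rfl
  have hWR : W ≤ LinearMap.range (T ^ j) := by
    have h := LinearMap.finrank_range_add_finrank_ker (T ^ j)
    rw [Module.finrank_pi, Fintype.card_sum, Fintype.card_fin] at h
    have := hker j
    have := hker k
    rw [Submodule.eq_of_le_of_finrank_le hR1 (by omega)]
    exact hWk
  have hsymp : U.transpose * Matrix.J (Fin m) F * U = Matrix.J (Fin m) F := SymplecticGroup.mem_iff'.1 u.2
  have hdet : IsUnit U.det := SymplecticGroup.symplectic_det u.2
  have hsc : SemiconjBy (Matrix.J (Fin m) F) (-(U⁻¹ * N)) N.transpose := by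
    show _ = _
    have hJ : U.transpose * Matrix.J (Fin m) F = Matrix.J (Fin m) F * U⁻¹ := by
      conv_rhs => rw [← hsymp]
      rw [Matrix.mul_assoc, Matrix.mul_nonsing_inv U hdet, Matrix.mul_one]
    rw [hN, Matrix.transpose_sub, Matrix.transpose_one, Matrix.sub_mul, Matrix.one_mul, hJ, Matrix.mul_neg,
      Matrix.mul_sub, Matrix.nonsing_inv_mul U hdet, Matrix.mul_one, Matrix.mul_sub, neg_sub, Matrix.mul_one]
  have hcomm : Commute U⁻¹ N := by
    show U⁻¹ * N = N * U⁻¹
    rw [hN, Matrix.mul_sub, Matrix.sub_mul, Matrix.nonsing_inv_mul U hdet, Matrix.mul_nonsing_inv U hdet,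
      Matrix.mul_one, Matrix.one_mul]
  intro v hv w hw
  obtain ⟨x, rfl⟩ := hWR hv
  have hwk : (N ^ k).mulVec w = 0 := by rw [← hTpow]; exact hWk hw
  unfold Cfsg.sympForm
  rw [hTpow, ← Matrix.vecMul_transpose, ← Matrix.dotProduct_mulVec, Matrix.mulVec_mulVec, Matrix.transpose_pow,
    ← (hsc.pow_right j).eq, neg_pow, hcomm.mul_pow, ← Matrix.mulVec_mulVec]
  have h0 : (((-1 : Matrix (Fin m ⊕ Fin m) (Fin m ⊕ Fin m) F)) ^ j * ((U⁻¹) ^ j * N ^ j)).mulVec w = 0 := by
    rw [show N ^ j = N ^ (j - k) * N ^ k by rw [← pow_add]; congr 1; omega, ← mul_assoc, ← mul_assoc,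
      ← Matrix.mulVec_mulVec, hwk, Matrix.mulVec_zero]
  rw [h0, Matrix.mulVec_zero, dotProduct_zero]

end Cfsg.Agent.S2574
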