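import Cfsg.Statements.S2670
import Cfsg.Agent.Lib.Struct.SemisimpleClasses

set_option autoImplicit false
open Cfsg
open Polynomial

namespace Cfsg.Agent.S2670

open scoped Classical

variable {F : Type*} [Field F] [Fintype F] {n r : ℕ}

/-- scalar matrices -/
abbrev sc (n : ℕ) {F : Type*} [Field F] : Fˣ →* GL (Fin n) F := Matrix.GeneralLinearGroup.scalar (Fin n)

theorem sc_inj (hn : 0 < n) : Function.Injective (sc n : Fˣ → GL (Fin n) F) := by
  intro a b h
  haveI : Nonempty (Fin n) := ⟨⟨0, hn⟩⟩
  exact Units.ext (Matrix.scalar_inj.1 (congrArg Units.val h))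

theorem sc_comm (c : Fˣ) (g : GL (Fin n) F) : sc n c * g = g * sc n c := by
  have h : sc n c ∈ Subgroup.center (GL (Fin n) F) := by
    rw [Matrix.GeneralLinearGroup.center_eq_range_scalar]; exact ⟨c, rfl⟩
  exact ((Subgroup.mem_center_iff.1 h) g).symm

theorem mem_Z {g : GL (Fin n) F} : g ∈ Subgroup.center (GL (Fin n) F) ↔ ∃ c, sc n c = g := by
  rw [Matrix.GeneralLinearGroup.center_eq_range_scalar]; rfl

/-- classes in the projective group -/
def cls (g : GL (Fin n) F) : ConjClasses (GL (Fin n) F ⧸ Subgroup.center (GL (Fin n) F)) :=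
  ConjClasses.mk (QuotientGroup.mk g)

theorem cls_eq {g h : GL (Fin n) F} : cls g = cls h ↔ ∃ c, IsConj g (sc n c * h) := by
  constructor
  · intro e
    obtain ⟨x, hx⟩ := isConj_iff.1 (ConjClasses.mk_eq_mk_iff_isConj.1 e)
    obtain ⟨x, rfl⟩ := QuotientGroup.mk_surjective x
    rw [← QuotientGroup.mk_inv, ← QuotientGroup.mk_mul, ← QuotientGroup.mk_mul, QuotientGroup.eq, mem_Z] at hx
    obtain ⟨c, hc⟩ := hx
    refine ⟨c⁻¹, isConj_iff.2 ⟨x, ?_⟩⟩
    have h1 : h = sc n c * (x * g * x⁻¹) := by rw [sc_comm, hc, mul_inv_cancel_left]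
    rw [h1, map_inv, inv_mul_cancel_left]
  · rintro ⟨c, hc⟩
    have h1 : (QuotientGroup.mk (sc n c * h) : GL (Fin n) F ⧸ Subgroup.center (GL (Fin n) F)) = QuotientGroup.mk h := by
      rw [QuotientGroup.eq]
      refine mem_Z.2 ⟨c⁻¹, ?_⟩
      rw [mul_inv_rev, ← map_inv, mul_assoc, sc_comm, ← mul_assoc, inv_mul_cancel, one_mul]
    refine ConjClasses.mk_eq_mk_iff_isConj.2 ?_
    rw [← h1]
    exact (QuotientGroup.mk' _).map_isConj hc

theorem pow_of_conj {g h : GL (Fin n) F} {c l l' : Fˣ} (hn : 0 < n) (hg : g ^ r = sc n l) (hh : h ^ r = sc n l')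
    (e : IsConj g (sc n c * h)) : l = c ^ r * l' := by
  refine sc_inj hn ?_
  obtain ⟨x, hx⟩ := isConj_iff.1 e
  have h1 : (x * g * x⁻¹) ^ r = sc n (c ^ r * l') := by
    have hcm : Commute (sc n c) h := sc_comm c h
    rw [hx, hcm.mul_pow, hh, ← map_pow, ← map_mul]
  rw [conj_pow, hg, ← sc_comm, mul_inv_cancel_right] at h1
  exact h1


/-- Number of conjugacy classes of elements of prime order r in PGL_n(q) = GL_n(q)/scalars when r divides q − 1 (n ≥ 2): the classes of elements with a diagonalisable lift correspond to the orbits of the cyclic rotation on the r-tuples of eigenvalue multiplicities (a_0, …, a_(r−1)) summing to n with every a_j < n, and when r divides n there are r − 1 further classes (lifts acting irreducibly on blocks of size r); in all (C(n+r−1, r−1) − r − [r ∣ n])/r + r·[r ∣ n] classes. -/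
theorem result {F : Type*} [Field F] [Fintype F] {q : ℕ} (hF : Fintype.card F = q) {n r : ℕ} (hn : 2 ≤ n) (hr : r.Prime) (hrq : r ∣ q - 1) : Nat.card {C : ConjClasses (GL (Fin n) F ⧸ Subgroup.center (GL (Fin n) F)) // ∃ g : GL (Fin n) F ⧸ Subgroup.center (GL (Fin n) F), ConjClasses.mk g = C ∧ orderOf g = r} = (Nat.choose (n + r - 1) (r - 1) - r - (if r ∣ n then 1 else 0)) / r + r * (if r ∣ n then 1 else 0) := by
  classical
  haveI : Fact r.Prime := ⟨hr⟩
  have hn0 : 0 < n := by omega
  haveI : Nonempty (Fin n) := ⟨⟨0, hn0⟩⟩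
  have hq1 : 1 < q := hF ▸ Fintype.one_lt_card
  have hcu : Nat.card Fˣ = q - 1 := by rw [Nat.card_units, Nat.card_eq_fintype_card, hF]
  have hq1F : ((q - 1 : ℕ) : F) = -1 := by
    rw [Nat.cast_sub hq1.le, ← hF, FiniteField.cast_card_eq_zero, Nat.cast_one, zero_sub]
  have hrF : (r : F) ≠ 0 := fun e => by
    obtain ⟨k, hk⟩ := hrq
    rw [hk, Nat.cast_mul, e, zero_mul] at hq1F
    exact one_ne_zero (α := F) (neg_eq_zero.1 hq1F.symm)
  have hm0 : ((r * (q - 1) : ℕ) : F) ≠ 0 := by
    rw [Nat.cast_mul, hq1F, mul_neg_one]; exact neg_ne_zero.2 hrF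
  have hlq : ∀ l : Fˣ, l ^ (q - 1) = 1 := fun l => by rw [← hcu]; exact pow_card_eq_one'
  have hmpow : ∀ (g : GL (Fin n) F) (l : Fˣ), g ^ r = sc n l → g ^ (r * (q - 1)) = 1 := fun g l h => by
    rw [pow_mul, h, ← map_pow, hlq, map_one]
  let R : Subgroup Fˣ := (powMonoidHom r : Fˣ →* Fˣ).range
  let K : Subgroup Fˣ := (powMonoidHom r : Fˣ →* Fˣ).ker
  have hgcd : (Nat.card Fˣ).gcd r = r := by rw [hcu]; exact Nat.gcd_eq_right hrq
  have hK : Nat.card K = r := by rw [IsCyclic.card_powMonoidHom_ker, hgcd]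
  have hQ : Nat.card (Fˣ ⧸ R) = r := by rw [← Subgroup.index_eq_card, IsCyclic.index_powMonoidHom_range, hgcd]
  have hKr : ∀ z : K, (z : Fˣ) ^ r = 1 := fun z => z.2
  -- classes over a non-trivial coset
  have hB : ∀ (g : GL (Fin n) F) (l : Fˣ), l ∉ R → g ^ r = sc n l →
      r ∣ n ∧ (g : Matrix (Fin n) (Fin n) F).charpoly = ((X : F[X]) ^ r - C (l : F)) ^ (n / r) := by
    intro g l hl hg
    have hirr : Irreducible ((X : F[X]) ^ r - C (l : F)) := X_pow_sub_C_irreducible_of_prime hr fun b hb => by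
      have hb0 : b ≠ 0 := fun e => l.ne_zero (by rw [← hb, e, zero_pow hr.ne_zero])
      exact hl ⟨Units.mk0 b hb0, Units.ext hb⟩
    have hmon : ((X : F[X]) ^ r - C (l : F)).Monic := monic_X_pow_sub_C _ hr.ne_zero
    set Q := (g : Matrix (Fin n) (Fin n) F).charpoly
    have hQm : Q.Monic := Matrix.charpoly_monic _
    have hS : UniqueFactorizationMonoid.normalizedFactors Q =
        Multiset.replicate (UniqueFactorizationMonoid.normalizedFactors Q).card ((X : F[X]) ^ r - C (l : F)) := by
      refine Multiset.eq_replicate.2 ⟨rfl, fun f hf => ?_⟩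
      have hfi := UniqueFactorizationMonoid.irreducible_of_normalized_factor f hf
      have hfm : f.Monic := by
        rw [← UniqueFactorizationMonoid.normalize_normalized_factor f hf]; exact monic_normalize hfi.ne_zero
      have hd := Cfsg.Agent.Struct.SemisimpleClasses.dvd_X_pow_sub_C_of_dvd_charpoly (g : Matrix (Fin n) (Fin n) F) hm0
        (by rw [← Units.val_pow_eq_pow_val, hmpow g l hg, Units.val_one])
        (by rw [← Units.val_pow_eq_pow_val, hg]; rfl) hfm hfi (UniqueFactorizationMonoid.dvd_of_mem_normalizedFactors hf)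
      exact eq_of_monic_of_associated hfm hmon (hfi.associated_of_dvd hirr hd)
    have hp : Q = ((X : F[X]) ^ r - C (l : F)) ^ (UniqueFactorizationMonoid.normalizedFactors Q).card := by
      refine eq_of_monic_of_associated hQm (hmon.pow _) ?_
      rw [← Multiset.prod_replicate, ← hS]
      exact (UniqueFactorizationMonoid.prod_normalizedFactors hQm.ne_zero).symm
    have hd : n = (UniqueFactorizationMonoid.normalizedFactors Q).card * r := by
      have h1 : Q.natDegree = n := by simp [Q, Matrix.charpoly_natDegree_eq_dim]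
      rw [hp, natDegree_pow, natDegree_X_pow_sub_C] at h1
      exact h1.symm
    refine ⟨Dvd.intro_left _ hd.symm, ?_⟩
    rw [Nat.div_eq_of_eq_mul_left hr.pos hd]
    exact hp
  let D := {C : ConjClasses (GL (Fin n) F ⧸ Subgroup.center (GL (Fin n) F)) //
    ∃ g : GL (Fin n) F ⧸ Subgroup.center (GL (Fin n) F), ConjClasses.mk g = C ∧ orderOf g = r}
  have hrep : ∀ C : D, ∃ (g : GL (Fin n) F) (l : Fˣ), cls g = C.1 ∧ g ^ r = sc n l ∧ g ∉ Subgroup.center (GL (Fin n) F) := by
    rintro ⟨_, g, rfl, hg⟩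
    obtain ⟨g, rfl⟩ := QuotientGroup.mk_surjective g
    have h1 : g ^ r ∈ Subgroup.center (GL (Fin n) F) := by
      rw [← QuotientGroup.eq_one_iff, QuotientGroup.mk_pow]
      exact hg ▸ pow_orderOf_eq_one _
    obtain ⟨l, hl⟩ := mem_Z.1 h1
    refine ⟨g, l, rfl, hl.symm, fun h => ?_⟩
    rw [← QuotientGroup.eq_one_iff] at h
    rw [h, orderOf_one] at hg
    exact hr.ne_one hg.symm
  have hmemD : ∀ (g : GL (Fin n) F) (l : Fˣ), g ^ r = sc n l → g ∉ Subgroup.center (GL (Fin n) F) →
      ∃ x : GL (Fin n) F ⧸ Subgroup.center (GL (Fin n) F), ConjClasses.mk x = cls g ∧ orderOf x = r := by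
    intro g l hg hgZ
    refine ⟨QuotientGroup.mk g, rfl, orderOf_eq_prime ?_ fun e => hgZ ((QuotientGroup.eq_one_iff g).1 e)⟩
    rw [← QuotientGroup.mk_pow, QuotientGroup.eq_one_iff]
    exact mem_Z.2 ⟨l, hg.symm⟩
  choose rg rl hrc hrp hrz using hrep
  let κ : D → Fˣ ⧸ R := fun C => QuotientGroup.mk (rl C)
  have hκ : ∀ (C : D) (g : GL (Fin n) F) (l : Fˣ), cls g = C.1 → g ^ r = sc n l → κ C = QuotientGroup.mk l := by
    intro C g l hC hg
    obtain ⟨c, hc⟩ := cls_eq.1 (hC.trans (hrc C).symm)
    have h := pow_of_conj hn0 hg (hrp C) hc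
    refine QuotientGroup.eq.2 ⟨c, ?_⟩
    rw [h, mul_comm (c ^ r), inv_mul_cancel_left]
    rfl
  have hfibB : ∀ x : Fˣ ⧸ R, x ≠ 1 → Nat.card {C : D // κ C = x} = if r ∣ n then 1 else 0 := by
    intro x hx
    obtain ⟨l, rfl⟩ := QuotientGroup.mk_surjective x
    have hlR : l ∉ R := fun h => hx ((QuotientGroup.eq_one_iff l).2 h)
    have hnorm : ∀ C : D, κ C = QuotientGroup.mk l → ∃ g : GL (Fin n) F, cls g = C.1 ∧ g ^ r = sc n l := by
      intro C hC
      obtain ⟨c, hc⟩ := QuotientGroup.eq.1 hC
      refine ⟨sc n c * rg C, (cls_eq.2 ⟨c, IsConj.refl _⟩).trans (hrc C), ?_⟩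
      have hcm : Commute (sc n c) (rg C) := sc_comm c _
      rw [hcm.mul_pow, hrp, ← map_pow, ← map_mul]
      congr 1
      rw [show c ^ r = (rl C)⁻¹ * l from hc, mul_comm, mul_inv_cancel_left]
    split_ifs with hrn
    · have hsub : Subsingleton {C : D // κ C = QuotientGroup.mk l} := by
        refine ⟨fun a b => Subtype.ext (Subtype.ext ?_)⟩
        obtain ⟨g, hg, hgr⟩ := hnorm a.1 a.2
        obtain ⟨h, hh, hhr⟩ := hnorm b.1 b.2
        rw [← hg, ← hh]
        refine cls_eq.2 ⟨1, ?_⟩
        rw [map_one, one_mul]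
        exact Cfsg.Agent.Struct.SemisimpleClasses.isConj_of_charpoly_eq hm0 (hmpow g l hgr) hm0 (hmpow h l hhr)
          ((hB g l hlR hgr).2.trans (hB h l hlR hhr).2.symm)
      obtain ⟨A, hA, hAc⟩ := Cfsg.Agent.Struct.SemisimpleClasses.exists_charpoly (F := F) (n := n) (m := r * (q - 1))
        (Multiset.replicate (n / r) ((X : F[X]) ^ r - C (l : F)))
        (fun f hf => by
          rw [Multiset.eq_of_mem_replicate hf]
          refine ⟨monic_X_pow_sub_C _ hr.ne_zero, X_pow_sub_C_irreducible_of_prime hr fun b hb => ?_, ?_⟩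
          · have hb0 : b ≠ 0 := fun e => l.ne_zero (by rw [← hb, e, zero_pow hr.ne_zero])
            exact hlR ⟨Units.mk0 b hb0, Units.ext hb⟩
          · have := sub_dvd_pow_sub_pow ((X : F[X]) ^ r) (C (l : F)) (q - 1)
            rwa [← pow_mul, ← map_pow, ← Units.val_pow_eq_pow_val, hlq, Units.val_one, map_one] at this)
        (by rw [Multiset.map_replicate, Multiset.sum_replicate, natDegree_X_pow_sub_C, smul_eq_mul, Nat.div_mul_cancel hrn])
      have hAr : A ^ r = Matrix.scalar (Fin n) (l : F) := by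
        -- the minimal polynomial divides `X ^ r - l`
        set T : Module.End F (Fin n → F) := Matrix.toLinAlgEquiv' A
        have hT : T ^ (r * (q - 1)) = 1 := by rw [← map_pow, hA, map_one]
        have hss : T.IsSemisimple := Module.End.isSemisimple_of_squarefree_aeval_eq_zero
          (p := (X : F[X]) ^ (r * (q - 1)) - 1) ((X_pow_sub_one_separable_iff.2 hm0).squarefree) (by simp [hT])
        have hch : T.charpoly = ((X : F[X]) ^ r - C (l : F)) ^ (n / r) := by
          show (Matrix.toLin' A).charpoly = _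
          rw [Matrix.charpoly_toLin', hAc, Multiset.prod_replicate]
        have hd : minpoly F T ∣ (X : F[X]) ^ r - C (l : F) :=
          ((Module.End.IsSemisimple.minpoly_squarefree hss).dvd_pow_iff_dvd
            (Nat.div_pos (Nat.le_of_dvd hn0 hrn) hr.pos).ne').1 (hch ▸ LinearMap.minpoly_dvd_charpoly T)
        have h0 := aeval_eq_zero_of_dvd_aeval_eq_zero hd (minpoly.aeval F T)
        rw [map_sub, map_pow, aeval_X, aeval_C, sub_eq_zero, ← map_pow] at h0
        exact Matrix.toLinAlgEquiv'.injective (h0.trans (Matrix.toLinAlgEquiv'.commutes (l : F)).symm)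
      have hdet : A.det ≠ 0 := fun e => by
        have h1 := congrArg Matrix.det hA
        rw [Matrix.det_pow, e, zero_pow (Nat.mul_ne_zero hr.ne_zero (by omega)), Matrix.det_one] at h1
        exact zero_ne_one h1
      let g : GL (Fin n) F := Matrix.GeneralLinearGroup.mkOfDetNeZero A hdet
      have hg : g ^ r = sc n l := Units.ext (by rw [Units.val_pow_eq_pow_val]; exact hAr)
      have hgZ : g ∉ Subgroup.center (GL (Fin n) F) := fun h => by
        obtain ⟨c, hc⟩ := mem_Z.1 h
        rw [← hc, ← map_pow] at hg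
        exact hlR ⟨c, sc_inj hn0 hg⟩
      haveI : Nonempty {C : D // κ C = QuotientGroup.mk l} := ⟨⟨⟨cls g, hmemD g l hg hgZ⟩, hκ _ g l rfl hg⟩⟩
      exact Nat.card_of_subsingleton (Classical.arbitrary _)
    · haveI : IsEmpty {C : D // κ C = QuotientGroup.mk l} := ⟨fun a => by
        obtain ⟨g, hg, hgr⟩ := hnorm a.1 a.2
        exact hrn (hB g l hlR hgr).1⟩
      exact Nat.card_of_isEmpty
  -- the trivial coset: diagonal matrices with entries in the r-th roots of unity
  have hdiag : ∀ M : Sym K n, ∃ g : GL (Fin n) F, g ^ r = 1 ∧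
      (g : Matrix (Fin n) (Fin n) F).charpoly = ((M : Multiset K).map (fun z : K => X - C ((z : Fˣ) : F))).prod := by
    intro M
    obtain ⟨A, hA, hAc⟩ := Cfsg.Agent.Struct.SemisimpleClasses.exists_charpoly (F := F) (n := n) (m := r)
      ((M : Multiset K).map (fun z : K => X - C ((z : Fˣ) : F)))
      (fun f hf => by
        obtain ⟨z, -, rfl⟩ := Multiset.mem_map.1 hf
        refine ⟨monic_X_sub_C _, irreducible_X_sub_C _, dvd_iff_isRoot.2 ?_⟩
        simp [← Units.val_pow_eq_pow_val, hKr z])
      (by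
        rw [Multiset.map_map]
        simp only [Function.comp_def, natDegree_X_sub_C, Multiset.map_const', Multiset.sum_replicate, smul_eq_mul, mul_one]
        exact M.2)
    have hdet : A.det ≠ 0 := fun e => by
      have h1 := congrArg Matrix.det hA
      rw [Matrix.det_pow, e, zero_pow hr.ne_zero, Matrix.det_one] at h1
      exact zero_ne_one h1
    exact ⟨Matrix.GeneralLinearGroup.mkOfDetNeZero A hdet, Units.ext (by rw [Units.val_pow_eq_pow_val]; exact hA), hAc⟩
  choose dg hdr hdc using hdiag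
  have hdinj : ∀ (M : Sym K n) (N : Multiset K),
      (dg M : Matrix (Fin n) (Fin n) F).charpoly = (N.map (fun z : K => X - C ((z : Fˣ) : F))).prod → (M : Multiset K) = N := by
    intro M N h
    have key : ∀ L : Multiset K, (L.map (fun z : K => X - C ((z : Fˣ) : F))).prod.roots = L.map (fun z : K => ((z : Fˣ) : F)) := fun L => by
      rw [← roots_multiset_prod_X_sub_C (L.map (fun z : K => ((z : Fˣ) : F))), Multiset.map_map]
      rfl
    rw [hdc] at h
    have h2 := congrArg Polynomial.roots h
    rw [key, key] at h2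
    exact Multiset.map_injective (fun a b e => Subtype.ext (Units.ext e)) h2
  have hscale : ∀ (c : Fˣ) (M : Sym K n), ∀ z : K, (z : Fˣ) = c → IsConj (sc n c * dg M) (dg (M.map (z * ·))) := by
    intro c M z hz
    have hc : c ^ r = 1 := hz ▸ hKr z
    have hpow : (sc n c * dg M) ^ r = 1 := by
      have hcm : Commute (sc n c) (dg M) := sc_comm c _
      rw [hcm.mul_pow, hdr, ← map_pow, hc, map_one, one_mul]
    refine Cfsg.Agent.Struct.SemisimpleClasses.isConj_of_charpoly_eq hrF hpow hrF (hdr _) ?_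
    rw [hdc, Sym.coe_map, Multiset.map_map]
    -- charpoly of a scalar multiple
    have h1 : ((sc n c * dg M : GL (Fin n) F) : Matrix (Fin n) (Fin n) F) = (c : F) • (dg M : Matrix (Fin n) (Fin n) F) := by
      rw [Units.val_mul, Matrix.GeneralLinearGroup.coe_scalar, Matrix.scalar_apply, ← Matrix.smul_eq_diagonal_mul]
    have h2 : ((sc n c * dg M : GL (Fin n) F) : Matrix (Fin n) (Fin n) F).charpoly.comp (C (c : F) * X) =
        C ((c : F) ^ n) * (dg M : Matrix (Fin n) (Fin n) F).charpoly := by
      have hd := Matrix.det_smul (Matrix.charmatrix (dg M : Matrix (Fin n) (Fin n) F)) (C (c : F))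
      rw [Fintype.card_fin] at hd
      rw [h1, Matrix.charpoly, Matrix.charpoly, ← coe_compRingHom_apply, RingHom.map_det, map_pow, ← hd]
      congr 1
      ext i j : 1
      by_cases e : i = j
      · subst e; simp [coe_compRingHom, mul_sub, map_mul]
      · simp [coe_compRingHom, Matrix.charmatrix_apply_ne _ _ _ e, map_mul]
    have h3 : (((M : Multiset K).map ((fun w : K => X - C ((w : Fˣ) : F)) ∘ (z * ·))).prod).comp (C (c : F) * X) =
        C ((c : F) ^ n) * (dg M : Matrix (Fin n) (Fin n) F).charpoly := by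
      rw [hdc, multiset_prod_comp, Multiset.map_map,
        Multiset.map_congr rfl (g := fun w : K => C (c : F) * (X - C ((w : Fˣ) : F))) fun w _ => by
          simp [hz, mul_sub],
        Multiset.prod_map_mul, Multiset.map_const', Multiset.prod_replicate, ← map_pow]
      congr 3
      exact M.2
    have hinv : ∀ f : F[X], (f.comp (C (c : F) * X)).comp (C ((c⁻¹ : Fˣ) : F) * X) = f := fun f => by
      rw [comp_assoc, mul_comp, C_comp, X_comp, ← mul_assoc, ← C_mul, Units.mul_inv, map_one, one_mul, comp_X]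
    rw [← hinv (Matrix.charpoly _), h2, ← h3, hinv]
  let S := {M : Sym K n // ∀ z : K, (M : Multiset K) ≠ Multiset.replicate n z}
  have hSnc : ∀ M : S, dg M.1 ∉ Subgroup.center (GL (Fin n) F) := by
    intro M h
    obtain ⟨c, hc⟩ := mem_Z.1 h
    have hc1 : c ^ r = 1 := sc_inj hn0 (by rw [map_pow, hc, hdr, map_one])
    refine M.2 ⟨c, hc1⟩ (hdinj M.1 _ ?_)
    rw [← hc, Matrix.GeneralLinearGroup.coe_scalar, Matrix.scalar_apply, Matrix.charpoly_diagonal, Multiset.map_replicate,
      Multiset.prod_replicate, Finset.prod_const, Finset.card_univ, Fintype.card_fin]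
  haveI : Fintype {C : D // κ C = 1} := Fintype.ofFinite _
  let Ψ : S → {C : D // κ C = 1} := fun M => ⟨⟨cls (dg M.1), hmemD _ 1 (by rw [hdr, map_one]) (hSnc M)⟩,
    hκ _ _ 1 rfl (by rw [hdr, map_one])⟩
  have hΨs : Function.Surjective Ψ := by
    rintro ⟨C₀, hC⟩
    obtain ⟨c, hc⟩ := (QuotientGroup.eq_one_iff (rl C₀)).1 hC
    set g := sc n c⁻¹ * rg C₀ with hgdef
    have hg : g ^ r = 1 := by
      have hcm : Commute (sc n c⁻¹) (rg C₀) := sc_comm _ _
      rw [hgdef, hcm.mul_pow, hrp, ← map_pow, ← map_mul, show rl C₀ = c ^ r from hc.symm, inv_pow, inv_mul_cancel, map_one]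
    have hgZ : g ∉ Subgroup.center (GL (Fin n) F) := fun h => by
      obtain ⟨d, hd⟩ := mem_Z.1 h
      refine hrz C₀ (mem_Z.2 ⟨c * d, ?_⟩)
      rw [map_mul, hd, hgdef, ← mul_assoc, ← map_mul, mul_inv_cancel, map_one, one_mul]
    set Q := (g : Matrix (Fin n) (Fin n) F).charpoly with hQdef
    have hQm : Q.Monic := Matrix.charpoly_monic _
    have hfac : ∀ f ∈ UniqueFactorizationMonoid.normalizedFactors Q, ∃ z : K, X - C ((z : Fˣ) : F) = f := by
      intro f hf
      have hfi := UniqueFactorizationMonoid.irreducible_of_normalized_factor f hf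
      have hfm : f.Monic := by
        rw [← UniqueFactorizationMonoid.normalize_normalized_factor f hf]; exact monic_normalize hfi.ne_zero
      have hd := Cfsg.Agent.Struct.SemisimpleClasses.dvd_of_dvd_charpoly (g : Matrix (Fin n) (Fin n) F) hrF
        (by rw [← Units.val_pow_eq_pow_val, hg, Units.val_one]) hfm hfi (UniqueFactorizationMonoid.dvd_of_mem_normalizedFactors hf)
      obtain ⟨ζ, hζ⟩ : ∃ ζ : F, IsPrimitiveRoot ζ r := by
        obtain ⟨z, hz⟩ := @exists_ne K (Finite.one_lt_card_iff_nontrivial.1 (hK.symm ▸ hr.one_lt)) 1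
        exact ⟨((z : Fˣ) : F), IsPrimitiveRoot.coe_units_iff.2
          (IsPrimitiveRoot.iff_orderOf.2 (orderOf_eq_prime (hKr z) fun e => hz (Subtype.ext e)))⟩
      rw [X_pow_sub_one_eq_prod hr.pos hζ] at hd
      obtain ⟨a, ha, had⟩ := hfi.prime.exists_mem_finset_dvd hd
      have ha' : a ^ r = 1 := (mem_nthRootsFinset hr.pos 1).1 ha
      have ha0 : a ≠ 0 := fun e => by rw [e, zero_pow hr.ne_zero] at ha'; exact zero_ne_one ha'
      exact ⟨⟨Units.mk0 a ha0, Units.ext (by simpa using ha')⟩,
        (eq_of_monic_of_associated hfm (monic_X_sub_C a) (hfi.associated_of_dvd (irreducible_X_sub_C a) had)).symm⟩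
    choose! zf hzf using hfac
    set L : Multiset K := (UniqueFactorizationMonoid.normalizedFactors Q).map zf with hL
    have hLp : (L.map (fun z : K => X - C ((z : Fˣ) : F))).prod = Q := by
      have h1 : L.map (fun z : K => X - C ((z : Fˣ) : F)) = UniqueFactorizationMonoid.normalizedFactors Q := by
        rw [hL, Multiset.map_map]
        exact (Multiset.map_congr rfl fun f hf => hzf f hf).trans (Multiset.map_id' _)
      refine eq_of_monic_of_associated (monic_multiset_prod_of_monic L _ fun z _ => monic_X_sub_C _) hQm ?_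
      rw [h1]
      exact UniqueFactorizationMonoid.prod_normalizedFactors hQm.ne_zero
    have hLc : L.card = n := by
      have h1 := natDegree_multiset_prod_X_sub_C_eq_card (L.map (fun z : K => ((z : Fˣ) : F)))
      rw [Multiset.map_map, Multiset.card_map] at h1
      rw [← h1]
      show ((L.map (fun z : K => X - C ((z : Fˣ) : F))).prod).natDegree = n
      rw [hLp, hQdef, Matrix.charpoly_natDegree_eq_dim, Fintype.card_fin]
    let M : Sym K n := Sym.mk L hLc
    have hconj : IsConj (dg M) g := Cfsg.Agent.Struct.SemisimpleClasses.isConj_of_charpoly_eq hrF (hdr M) hrF hg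
      ((hdc M).trans hLp)
    have hMS : ∀ z : K, (M : Multiset K) ≠ Multiset.replicate n z := by
      intro z hz
      refine hgZ (mem_Z.2 ⟨(z : Fˣ), ?_⟩)
      have h1 : IsConj g (sc n (z : Fˣ)) := by
        refine Cfsg.Agent.Struct.SemisimpleClasses.isConj_of_charpoly_eq hrF hg hrF (by rw [← map_pow, hKr z, map_one]) ?_
        rw [← hQdef, ← hLp, show L = Multiset.replicate n z from hz, Matrix.GeneralLinearGroup.coe_scalar, Matrix.scalar_apply,
          Matrix.charpoly_diagonal, Multiset.map_replicate, Multiset.prod_replicate, Finset.prod_const, Finset.card_univ,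
          Fintype.card_fin]
      obtain ⟨x, hx⟩ := isConj_iff.1 h1.symm
      rw [← sc_comm, mul_inv_cancel_right] at hx
      exact hx
    refine ⟨⟨M, hMS⟩, Subtype.ext (Subtype.ext ?_)⟩
    show cls (dg M) = C₀.1
    rw [← hrc C₀]
    exact cls_eq.2 ⟨c⁻¹, hconj⟩
  have hΨf : ∀ M M' : S, Ψ M' = Ψ M ↔ ∃ z : K, M'.1 = M.1.map (z * ·) := by
    intro M M'
    constructor
    · intro h
      obtain ⟨c, hc⟩ := cls_eq.1 (show cls (dg M'.1) = cls (dg M.1) from congrArg (fun x => x.1.1) h)
      have h1 := pow_of_conj hn0 (l := 1) (l' := 1) (r := r) (by rw [hdr, map_one]) (by rw [hdr, map_one]) hc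
      rw [mul_one] at h1
      refine ⟨⟨c, h1.symm⟩, Sym.coe_injective (hdinj _ _ ?_)⟩
      rw [Cfsg.Agent.Struct.SemisimpleClasses.charpoly_eq_of_isConj (hc.trans (hscale c M.1 ⟨c, h1.symm⟩ rfl)), hdc]
    · rintro ⟨z, hz⟩
      refine Subtype.ext (Subtype.ext ?_)
      show cls (dg M'.1) = cls (dg M.1)
      refine cls_eq.2 ⟨(z : Fˣ), ?_⟩
      rw [hz]
      exact (hscale _ M.1 z rfl).symm
  -- translation orbits
  let T : K → Sym K n → Sym K n := fun z M => M.map (z * ·)
  have hTS : ∀ (z : K) (M : S), ∀ w : K, (T z M.1 : Multiset K) ≠ Multiset.replicate n w := by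
    intro z M w h
    refine M.2 (z⁻¹ * w) ?_
    have h1 := congrArg (Multiset.map (z⁻¹ * ·)) h
    rw [Sym.coe_map, Multiset.map_map, Multiset.map_replicate] at h1
    simpa [Function.comp_def] using h1
  have hfix : ∀ (M : Sym K n) (z : K), z ≠ 1 → T z M = M → r ∣ n ∧ (M : Multiset K) = (n / r) • (Finset.univ : Finset K).val := by
    intro M z hz h
    have hst : ∀ w : K, (M : Multiset K).count (z * w) = (M : Multiset K).count w := fun w => by
      conv_lhs => rw [← h, show ((T z M : Sym K n) : Multiset K) = (M : Multiset K).map (z * ·) from Sym.coe_map _ _]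
      exact Multiset.count_map_eq_count' _ _ (mul_right_injective z) w
    have hconst : ∀ w : K, (M : Multiset K).count w = (M : Multiset K).count 1 := by
      intro w
      have hw : w ∈ Submonoid.powers z := mem_powers_of_prime_card (p := r) hK hz
      obtain ⟨k, rfl⟩ := hw
      induction k with
      | zero => simp
      | succ k ih => show Multiset.count (z ^ (k + 1)) _ = _; rw [pow_succ', hst]; exact ih
    have hn' : n = r * (M : Multiset K).count 1 := by
      have h1 := Multiset.sum_count_eq_card (s := (Finset.univ : Finset K)) (m := (M : Multiset K)) (fun a _ => Finset.mem_univ a)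
      rw [Finset.sum_congr rfl fun w _ => hconst w, Finset.sum_const, Finset.card_univ, smul_eq_mul,
        ← Nat.card_eq_fintype_card, hK] at h1
      rw [h1]; exact M.2.symm
    refine ⟨Dvd.intro _ hn'.symm, Multiset.ext' fun w => ?_⟩
    rw [Multiset.count_nsmul, Multiset.count_univ, mul_one, hconst, Nat.div_eq_of_eq_mul_right hr.pos hn']
  have hfib : ∀ M : S, Nat.card {M' : S // Ψ M' = Ψ M} =
      if r ∣ n ∧ (M.1 : Multiset K) = (n / r) • (Finset.univ : Finset K).val then 1 else r := by
    intro M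
    let orb : K → {M' : S // Ψ M' = Ψ M} := fun z => ⟨⟨T z M.1, hTS z M⟩, (hΨf _ _).2 ⟨z, rfl⟩⟩
    have horbs : Function.Surjective orb := by
      rintro ⟨M', hM'⟩
      obtain ⟨z, hz⟩ := (hΨf _ _).1 hM'
      exact ⟨z, Subtype.ext (Subtype.ext hz.symm)⟩
    split_ifs with hM
    · haveI : Subsingleton {M' : S // Ψ M' = Ψ M} := ⟨fun a b => by
        obtain ⟨z, rfl⟩ := horbs a
        obtain ⟨w, rfl⟩ := horbs b
        refine Subtype.ext (Subtype.ext (Sym.coe_injective ?_))
        show ((T z M.1 : Sym K n) : Multiset K) = T w M.1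
        have key : ∀ u : K, ((T u M.1 : Sym K n) : Multiset K) = M.1 := fun u => by
          rw [Sym.coe_map, hM.2, Multiset.map_nsmul, show (Finset.univ : Finset K).val.map (u * ·) = (Finset.univ : Finset K).val from ?_]
          exact Multiset.map_univ_val_equiv (Equiv.mulLeft u)
        rw [key, key]⟩
      exact Nat.card_of_subsingleton ⟨M, rfl⟩
    · rw [← hK]
      refine (Nat.card_eq_of_bijective orb ⟨fun z w h => ?_, horbs⟩).symm
      by_contra hzw
      refine hM (hfix M.1 (w⁻¹ * z) (fun e => hzw (inv_mul_eq_one.1 e).symm) ?_)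
      have h1 : T z M.1 = T w M.1 := congrArg (fun x => x.1.1) h
      show Sym.map _ M.1 = M.1
      have h2 := congrArg (Sym.map (w⁻¹ * ·)) h1
      simp only [T, Sym.map_map, Function.comp_def, ← mul_assoc, inv_mul_cancel, one_mul, Sym.map_id'] at h2
      exact h2
  have hScard : Nat.card S = Nat.choose (n + r - 1) (r - 1) - r := by
    have hcard : Nat.card (Sym K n) = Nat.choose (n + r - 1) (r - 1) := by
      rw [Nat.card_eq_fintype_card, Sym.card_sym_eq_choose, ← Nat.card_eq_fintype_card, hK, add_comm r n]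
      exact (Nat.choose_symm_of_eq_add (by have := hr.one_lt; omega))
    have hc : Nat.card {M : Sym K n // ¬ ∀ z : K, (M : Multiset K) ≠ Multiset.replicate n z} = r := by
      conv_rhs => rw [← hK]
      refine (Nat.card_eq_of_bijective (fun z => ⟨Sym.replicate n z, fun h => h z (Sym.coe_replicate ..)⟩) ⟨?_, ?_⟩).symm
      · intro a b h
        have h1 : Sym.replicate n a = Sym.replicate n b := congrArg Subtype.val h
        have h2 : a ∈ ((Sym.replicate n a : Sym K n) : Multiset K) := by
          rw [Sym.coe_replicate]; exact Multiset.mem_replicate.2 ⟨hn0.ne', rfl⟩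
        rw [h1, Sym.coe_replicate] at h2
        exact Multiset.eq_of_mem_replicate h2
      · rintro ⟨M, hM⟩
        push_neg at hM
        obtain ⟨z, hz⟩ := hM
        exact ⟨z, Subtype.ext (Sym.coe_injective (by rw [hz]; exact Sym.coe_replicate ..))⟩
    have h1 := Nat.card_congr (Equiv.sumCompl fun M : Sym K n => ∀ z : K, (M : Multiset K) ≠ Multiset.replicate n z)
    rw [Nat.card_sum, hc, hcard] at h1
    show Nat.card {M : Sym K n // ∀ z : K, (M : Multiset K) ≠ Multiset.replicate n z} = _
    omega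
  have hfib1 : Nat.card S + (r - 1) * (if r ∣ n then 1 else 0) = r * Nat.card {C : D // κ C = 1} := by
    have h1 := Nat.card_congr (Equiv.sigmaFiberEquiv Ψ)
    rw [Nat.card_sigma] at h1
    choose sec hsec using hΨs
    have h2 : ∀ C, Nat.card {M' : S // Ψ M' = C} =
        if r ∣ n ∧ ((sec C).1 : Multiset K) = (n / r) • (Finset.univ : Finset K).val then 1 else r := fun C => by
      rw [← hfib (sec C), hsec]
    rw [← h1, Finset.sum_congr rfl fun C _ => h2 C]
    by_cases hrn : r ∣ n
    · have hM0 : Multiset.card ((n / r) • (Finset.univ : Finset K).val) = n := by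
        rw [Multiset.card_nsmul, Finset.card_val, Finset.card_univ, ← Nat.card_eq_fintype_card, hK, Nat.div_mul_cancel hrn]
      have hM0S : ∀ z : K, (n / r) • (Finset.univ : Finset K).val ≠ Multiset.replicate n z := by
        intro z h
        obtain ⟨w, hw⟩ := @exists_ne K (Finite.one_lt_card_iff_nontrivial.1 (hK.symm ▸ hr.one_lt)) z
        have := congrArg (Multiset.count w) h
        rw [Multiset.count_nsmul, Multiset.count_univ, mul_one, Multiset.count_replicate, if_neg hw.symm] at this
        exact (Nat.div_pos (Nat.le_of_dvd hn0 hrn) hr.pos).ne' this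
      let M0 : S := ⟨Sym.mk _ hM0, hM0S⟩
      have huniq : ∀ C, (r ∣ n ∧ ((sec C).1 : Multiset K) = (n / r) • (Finset.univ : Finset K).val) ↔ C = Ψ M0 := by
        intro C
        constructor
        · rintro ⟨-, h⟩
          rw [← hsec C, show sec C = M0 from Subtype.ext (Sym.coe_injective h)]
        · rintro rfl
          refine ⟨hrn, ?_⟩
          have h0 := hfib M0
          rw [if_pos ⟨hrn, rfl⟩] at h0
          haveI := (Nat.card_eq_one_iff_unique.1 h0).1
          have := Subsingleton.elim (α := {M' : S // Ψ M' = Ψ M0}) ⟨sec (Ψ M0), hsec _⟩ ⟨M0, rfl⟩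
          rw [show sec (Ψ M0) = M0 from congrArg Subtype.val this]
          rfl
      simp only [huniq, if_pos hrn]
      have hsum : (∑ C : {C : D // κ C = 1}, if C = Ψ M0 then 1 else r) + (r - 1) = r * Nat.card {C : D // κ C = 1} := by
        rw [← Finset.add_sum_erase _ _ (Finset.mem_univ (Ψ M0)), if_pos rfl,
          Finset.sum_congr rfl fun C hC => if_neg (Finset.ne_of_mem_erase hC), Finset.sum_const, smul_eq_mul,
          Finset.card_erase_of_mem (Finset.mem_univ _), Finset.card_univ, ← Nat.card_eq_fintype_card]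
        have hpos : 0 < Nat.card {C : D // κ C = 1} := @Nat.card_pos _ ⟨Ψ M0⟩ _
        obtain ⟨k, hk⟩ := Nat.exists_eq_succ_of_ne_zero hpos.ne'
        rw [hk, Nat.succ_sub_one, Nat.mul_succ, mul_comm k]
        have := hr.one_lt
        omega
      rw [mul_one]; exact hsum
    · simp only [hrn, false_and, if_false, Finset.sum_const, smul_eq_mul, Finset.card_univ, ← Nat.card_eq_fintype_card]
      rw [mul_zero, add_zero, mul_comm]
  have hD := Nat.card_congr (Equiv.sigmaFiberEquiv κ)
  rw [Nat.card_sigma, ← Finset.add_sum_erase _ _ (Finset.mem_univ (1 : Fˣ ⧸ R)),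
    Finset.sum_congr rfl fun x hx => hfibB x (Finset.ne_of_mem_erase hx), Finset.sum_const, smul_eq_mul,
    Finset.card_erase_of_mem (Finset.mem_univ _), Finset.card_univ, ← Nat.card_eq_fintype_card, hQ] at hD
  show Nat.card D = _
  rw [← hD]
  set X₁ := Nat.card {C : D // κ C = 1}
  rw [hScard] at hfib1
  set B := Nat.choose (n + r - 1) (r - 1)
  have hr1 := hr.one_lt
  by_cases hrn : r ∣ n
  · simp only [if_pos hrn, mul_one] at hfib1 ⊢
    have hX1 : 0 < X₁ := by rcases Nat.eq_zero_or_pos X₁ with h | h <;> [(rw [h, mul_zero] at hfib1; omega); exact h]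
    obtain ⟨k, hk⟩ : ∃ k, X₁ = k + 1 := ⟨X₁ - 1, by omega⟩
    rw [hk, Nat.mul_succ] at hfib1
    rw [show B - r - 1 = r * k by omega, Nat.mul_div_cancel_left _ hr.pos, hk]
    omega
  · simp only [if_neg hrn, mul_zero, add_zero, Nat.sub_zero] at hfib1 ⊢
    rw [hfib1, Nat.mul_div_cancel_left _ hr.pos]

end Cfsg.Agent.S2670
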