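import Cfsg.Statements.S2578
import Cfsg.Agent.Lib.Struct.UnipotentGL

set_option autoImplicit false
open Cfsg
open Matrix Cfsg.Agent.Struct.UnipotentGL
set_option maxHeartbeats 1000000

namespace Cfsg.Agent.S2578

variable {F : Type*} [Field F] {n : ℕ}

theorem regular_vector (u : Matrix (Fin n) (Fin n) F) (hn : (u - 1) ^ n = 0) (hr : (u - 1).rank = n - 1) (hpos : 0 < n) :
    IsNilpotent (Matrix.toLinAlgEquiv' (u - 1)) ∧ ∃ v, (Matrix.toLinAlgEquiv' (u - 1) ^ (n - 1)) v ≠ 0 := by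
  refine ⟨⟨n, by rw [← map_pow, hn, map_zero]⟩, ?_⟩
  set N := Matrix.toLinAlgEquiv' (u - 1)
  have hk : Module.finrank F (LinearMap.ker N) ≤ 1 := by
    have h := LinearMap.finrank_range_add_finrank_ker N
    rw [show Module.finrank F (LinearMap.range N) = (u - 1).rank from rfl, hr, Module.finrank_fin_fun] at h
    omega
  have hlt : LinearMap.ker (N ^ (n - 1)) < ⊤ := lt_top_iff_ne_top.2 fun e => by
    have h := finrank_ker_pow_le N (n - 1)
    rw [e, finrank_top, Module.finrank_fin_fun] at h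
    have := h.trans (Nat.mul_le_mul_left (n - 1) hk)
    omega
  obtain ⟨v, -, hv⟩ := SetLike.exists_of_lt hlt
  exact ⟨v, hv⟩

theorem exists_conj_regular (u u' : Matrix (Fin n) (Fin n) F) (hn : (u - 1) ^ n = 0) (hr : (u - 1).rank = n - 1)
    (hn' : (u' - 1) ^ n = 0) (hr' : (u' - 1).rank = n - 1) :
    ∃ g : GL (Fin n) F, (g : Matrix (Fin n) (Fin n) F) * u = u' * g := by
  rcases Nat.eq_zero_or_pos n with h0 | hpos
  · subst h0
    exact ⟨1, Subsingleton.elim _ _⟩
  obtain ⟨hN, v, hv⟩ := regular_vector u hn hr hpos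
  obtain ⟨hN', v', hv'⟩ := regular_vector u' hn' hr' hpos
  set N := Matrix.toLinAlgEquiv' (u - 1) with hNd
  set N' := Matrix.toLinAlgEquiv' (u' - 1) with hNd'
  have hspan : ∀ (M : Module.End F (Fin n → F)) (w : Fin n → F), IsNilpotent M → M ^ n = 0 → (M ^ (n - 1)) w ≠ 0 →
      ⊤ ≤ Submodule.span F (Set.range fun i : Fin n => (M ^ (i : ℕ)) w) := by
    intro M w hM hMn hw
    rw [← span_pow_eq_top hM (v := w) (by rwa [Module.finrank_fin_fun]), Submodule.span_le]
    rintro _ ⟨i, rfl⟩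
    by_cases hi : i < n
    · exact Submodule.subset_span ⟨⟨i, hi⟩, rfl⟩
    · simp only [pow_eq_zero_of_le (not_lt.1 hi) hMn, LinearMap.zero_apply]
      exact Submodule.zero_mem _
  have hNn : N ^ n = 0 := by rw [hNd, ← map_pow, hn, map_zero]
  have hNn' : N' ^ n = 0 := by rw [hNd', ← map_pow, hn', map_zero]
  let b := basisOfTopLeSpanOfCardEqFinrank _ (hspan N v hN hNn hv) (by rw [Fintype.card_fin, Module.finrank_fin_fun])
  let b' := basisOfTopLeSpanOfCardEqFinrank _ (hspan N' v' hN' hNn' hv') (by rw [Fintype.card_fin, Module.finrank_fin_fun])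
  let e := b.equiv b' (Equiv.refl _)
  have he : ∀ i : ℕ, e ((N ^ i) v) = (N' ^ i) v' := fun i => by
    by_cases hi : i < n
    · have h1 : b ⟨i, hi⟩ = (N ^ i) v := by simp [b]
      have h2 : b' ⟨i, hi⟩ = (N' ^ i) v' := by simp [b']
      rw [← h1, ← h2]
      simp [e]
    · rw [pow_eq_zero_of_le (not_lt.1 hi) hNn, pow_eq_zero_of_le (not_lt.1 hi) hNn', LinearMap.zero_apply, map_zero, LinearMap.zero_apply]
  have hcomm : e.toLinearMap ∘ₗ N = N' ∘ₗ e.toLinearMap := by
    refine b.ext fun i => ?_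
    have h1 : b i = (N ^ (i : ℕ)) v := by simp [b]
    rw [LinearMap.comp_apply, LinearMap.comp_apply, h1, LinearEquiv.coe_coe, he, ← Module.End.mul_apply, ← pow_succ', he,
      pow_succ', Module.End.mul_apply]
  let g : GL (Fin n) F := ⟨LinearMap.toMatrix' e.toLinearMap, LinearMap.toMatrix' e.symm.toLinearMap,
    by rw [← LinearMap.toMatrix'_comp]; simp [LinearMap.toMatrix'_id],
    by rw [← LinearMap.toMatrix'_comp]; simp [LinearMap.toMatrix'_id]⟩
  refine ⟨g, ?_⟩
  have hN2 : N = Matrix.toLin' (u - 1) := rfl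
  have hN2' : N' = Matrix.toLin' (u' - 1) := rfl
  rw [hN2, hN2'] at hcomm
  have h := congrArg LinearMap.toMatrix' hcomm
  rw [LinearMap.toMatrix'_comp, LinearMap.toMatrix'_comp, LinearMap.toMatrix'_toLin', LinearMap.toMatrix'_toLin',
    Matrix.mul_sub, Matrix.mul_one, Matrix.sub_mul, Matrix.one_mul] at h
  exact sub_left_injective h

theorem det_smul_add_nilpotent (c : F) (M : Matrix (Fin n) (Fin n) F) (hM : IsNilpotent M) :
    (c • (1 : Matrix (Fin n) (Fin n) F) + M).det = c ^ n := by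
  have h1 := (Matrix.isNilpotent_charpoly_sub_pow_of_isNilpotent hM.neg).eq_zero
  rw [sub_eq_zero] at h1
  have h2 := Matrix.eval_charpoly (-M) c
  rw [h1, Polynomial.eval_pow, Polynomial.eval_X, Fintype.card_fin] at h2
  rw [h2, sub_neg_eq_add, Matrix.scalar_apply, Matrix.smul_one_eq_diagonal]

theorem det_commute (u : Matrix (Fin n) (Fin n) F) (hn : (u - 1) ^ n = 0) (hr : (u - 1).rank = n - 1)
    {g : Matrix (Fin n) (Fin n) F} (hg : Commute g u) : ∃ k : F, g.det = k ^ n := by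
  rcases Nat.eq_zero_or_pos n with h0 | hpos
  · subst h0
    exact ⟨1, by rw [Matrix.det_isEmpty, one_pow]⟩
  obtain ⟨hN, v, hv⟩ := regular_vector u hn hr hpos
  set N := Matrix.toLinAlgEquiv' (u - 1) with hNd
  set W := Submodule.span F ({v} : Set (Fin n → F)) ⊔ LinearMap.range N
  have hW : W = ⊤ := by
    rw [eq_top_iff, ← span_pow_eq_top hN (v := v) (by rwa [Module.finrank_fin_fun]), Submodule.span_le]
    rintro _ ⟨i, rfl⟩
    rcases i with _ | i
    · exact Submodule.mem_sup_left (Submodule.subset_span (by simp))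
    · exact Submodule.mem_sup_right ⟨(N ^ i) v, by simp [pow_succ']⟩
  obtain ⟨a, ha, w, ⟨y, rfl⟩, hgv⟩ := Submodule.mem_sup.1 (hW ▸ Submodule.mem_top : g.mulVec v ∈ W)
  obtain ⟨c, rfl⟩ := Submodule.mem_span_singleton.1 ha
  have hsp := span_pow_eq_top hN (v := v) (by rwa [Module.finrank_fin_fun])
  have hgN : Commute g (u - 1) := hg.sub_right (Commute.one_right g)
  obtain ⟨h, hh, hhv⟩ : ∃ h : Matrix (Fin n) (Fin n) F, Commute h (u - 1) ∧ h.mulVec v = y := by
    have hy : y ∈ Submodule.span F (Set.range fun i : ℕ => (N ^ i) v) := hsp ▸ Submodule.mem_top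
    clear hgv
    induction hy using Submodule.span_induction with
    | mem z hz =>
      obtain ⟨i, rfl⟩ := hz
      exact ⟨(u - 1) ^ i, (Commute.refl _).pow_left i, by simp only [hNd, ← map_pow, Matrix.toLinAlgEquiv'_apply]⟩
    | zero => exact ⟨0, Commute.zero_left _, zero_mulVec _⟩
    | add a b _ _ ha hb =>
      obtain ⟨g₁, hg₁, rfl⟩ := ha
      obtain ⟨g₂, hg₂, rfl⟩ := hb
      exact ⟨g₁ + g₂, hg₁.add_left hg₂, add_mulVec _ _ _⟩
    | smul r a _ ha =>
      obtain ⟨g₁, hg₁, rfl⟩ := ha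
      exact ⟨r • g₁, hg₁.smul_left r, smul_mulVec _ _ _⟩
  have hrhs : Commute (c • (1 : Matrix (Fin n) (Fin n) F) + (u - 1) * h) (u - 1) :=
    ((Commute.one_left _).smul_left c).add_left ((Commute.refl _).mul_left hh)
  have hge : g = c • (1 : Matrix (Fin n) (Fin n) F) + (u - 1) * h := by
    apply Matrix.toLinAlgEquiv'.injective
    refine LinearMap.ext_on_range hsp fun i => ?_
    have key : ∀ g : Matrix (Fin n) (Fin n) F, Commute g (u - 1) →
        Matrix.toLinAlgEquiv' g ((N ^ i) v) = (N ^ i) (g.mulVec v) := fun g hg =>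
      LinearMap.congr_fun ((hg.map Matrix.toLinAlgEquiv'.toRingHom).pow_right i).eq v
    rw [key g hgN, key _ hrhs, ← hgv, add_mulVec, smul_mulVec, one_mulVec, ← mulVec_mulVec, hhv]
    rfl
  refine ⟨c, ?_⟩
  rw [hge]
  exact det_smul_add_nilpotent c _ (hh.symm.isNilpotent_mul_right ⟨n, hn⟩)

theorem exists_regular (hn : 0 < n) : ∃ u : Matrix.SpecialLinearGroup (Fin n) F,
    ((u : Matrix (Fin n) (Fin n) F) - 1) ^ n = 0 ∧ ((u : Matrix (Fin n) (Fin n) F) - 1).rank = n - 1 := by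
  set N : Matrix (Fin n) (Fin n) F := Matrix.of fun (i j : Fin n) => if (j : ℕ) = i + 1 then 1 else 0 with hNd
  have happ : ∀ (v : Fin n → F) (i : Fin n), N.mulVec v i = if h : (i : ℕ) + 1 < n then v ⟨i + 1, h⟩ else 0 := by
    intro v i
    simp only [Matrix.mulVec, dotProduct, hNd, Matrix.of_apply, ite_mul, one_mul, zero_mul]
    split_ifs with h
    · rw [Finset.sum_eq_single (⟨i + 1, h⟩ : Fin n)]
      · simp
      · intro b _ hb; rw [if_neg (fun e => hb (Fin.ext e))]
      · simp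
    · exact Finset.sum_eq_zero fun b _ => by rw [if_neg (by omega)]
  have hpow : ∀ (k : ℕ) (v : Fin n → F) (i : Fin n), n ≤ i + k → (N ^ k).mulVec v i = 0 := by
    intro k
    induction k with
    | zero => intro v i h; omega
    | succ k ih =>
      intro v i h
      rw [pow_succ', ← mulVec_mulVec, happ]
      split_ifs with h'
      · exact ih v _ (by show n ≤ (i : ℕ) + 1 + k; omega)
      · rfl
  have hN : N ^ n = 0 := by
    apply Matrix.toLin'.injective
    refine LinearMap.ext fun v => funext fun i => ?_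
    rw [Matrix.toLin'_apply, map_zero, LinearMap.zero_apply, hpow n v i (by omega)]
    rfl
  have hker : Module.finrank F (LinearMap.ker N.mulVecLin) = 1 := by
    have he : LinearMap.ker N.mulVecLin = Submodule.span F {(Pi.single ⟨0, hn⟩ 1 : Fin n → F)} := by
      refine le_antisymm (fun v hv => Submodule.mem_span_singleton.2 ⟨v ⟨0, hn⟩, funext fun i => ?_⟩) ?_
      · rcases Nat.eq_zero_or_pos (i : ℕ) with h0 | h0
        · rw [show i = ⟨0, hn⟩ from Fin.ext h0]; simp
        · have h1 := congrFun (LinearMap.mem_ker.1 hv) ⟨i - 1, by omega⟩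
          rw [Matrix.mulVecLin_apply, happ, dif_pos (show (i : ℕ) - 1 + 1 < n by omega)] at h1
          rw [Pi.zero_apply] at h1
          have h2 : v i = 0 := by
            convert h1 using 2
            exact Fin.ext (by show (i : ℕ) = i - 1 + 1; omega)
          simp [h2, Pi.single_eq_of_ne (show i ≠ ⟨0, hn⟩ from fun e => by rw [e] at h0; exact lt_irrefl 0 h0)]
      · rw [Submodule.span_le, Set.singleton_subset_iff, SetLike.mem_coe, LinearMap.mem_ker, Matrix.mulVecLin_apply]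
        funext i
        rw [happ]
        split_ifs with h
        · exact Pi.single_eq_of_ne (fun e => Nat.succ_ne_zero _ (congrArg Fin.val e)) _
        · rfl
    rw [he, finrank_span_singleton]
    exact fun e => one_ne_zero (α := F) (by simpa using congrFun e ⟨0, hn⟩)
  have hrank : N.rank = n - 1 := by
    have h := LinearMap.finrank_range_add_finrank_ker N.mulVecLin
    rw [hker, Module.finrank_fin_fun] at h
    rw [Matrix.rank]
    omega
  have hdet : (1 + N).det = 1 := by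
    have := det_smul_add_nilpotent 1 N ⟨n, hN⟩
    rwa [one_smul, one_pow] at this
  refine ⟨⟨1 + N, hdet⟩, ?_⟩
  show (1 + N - 1) ^ n = 0 ∧ (1 + N - 1).rank = n - 1
  rw [add_sub_cancel_left]
  exact ⟨hN, hrank⟩


/-- Regular unipotent classes of SL_n(q): for n ≥ 2 over the field with q elements, the matrices u of determinant one with (u − 1)^n = 0 and rank(u − 1) = n − 1 form a single GL_n(q)-class which splits into exactly gcd(n, q − 1) conjugacy classes of SL_n(q). -/
theorem result {F : Type*} [Field F] [Fintype F] {q : ℕ} (hF : Fintype.card F = q) {n : ℕ} (hn : 2 ≤ n) : Nat.card {C : ConjClasses (Matrix.SpecialLinearGroup (Fin n) F) // ∃ u : Matrix.SpecialLinearGroup (Fin n) F, ConjClasses.mk u = C ∧ ((u : Matrix (Fin n) (Fin n) F) - 1) ^ n = 0 ∧ ((u : Matrix (Fin n) (Fin n) F) - 1).rank = n - 1} = Nat.gcd n (q - 1) := by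
  classical
  obtain ⟨u₀, hu₀n, hu₀r⟩ := exists_regular (F := F) (n := n) (by omega)
  set U₀ : Matrix (Fin n) (Fin n) F := (u₀ : Matrix (Fin n) (Fin n) F) with hU₀
  let dg : Fˣ → GL (Fin n) F := fun c => Matrix.GeneralLinearGroup.mkOfDetNeZero
    (Matrix.diagonal (Function.update (fun _ => (1 : F)) ⟨0, by omega⟩ (c : F))) (by
      rw [Matrix.det_diagonal, Fintype.prod_eq_single (⟨0, by omega⟩ : Fin n) (fun i hi => Function.update_of_ne hi _ _),
        Function.update_self]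
      exact c.ne_zero)
  have hdet : ∀ c : Fˣ, (dg c : Matrix (Fin n) (Fin n) F).det = c := fun c => by
    show (Matrix.diagonal _).det = _
    rw [Matrix.det_diagonal, Fintype.prod_eq_single (⟨0, by omega⟩ : Fin n) (fun i hi => Function.update_of_ne hi _ _),
      Function.update_self]
  let v : GL (Fin n) F → Matrix.SpecialLinearGroup (Fin n) F := fun g => ⟨(g : Matrix (Fin n) (Fin n) F) * U₀ * (g⁻¹ : GL (Fin n) F).val, by
    rw [det_mul, det_mul, u₀.2, mul_one, ← det_mul, Units.mul_inv, det_one]⟩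
  have hv : ∀ g : GL (Fin n) F, (v g : Matrix (Fin n) (Fin n) F) - 1 = (g : Matrix (Fin n) (Fin n) F) * (U₀ - 1) * (g⁻¹ : GL (Fin n) F).val := fun g => by
    show _ * U₀ * _ - 1 = _
    rw [Matrix.mul_sub, Matrix.sub_mul, Matrix.mul_one, Units.mul_inv]
  let S := {C : ConjClasses (Matrix.SpecialLinearGroup (Fin n) F) // ∃ u : Matrix.SpecialLinearGroup (Fin n) F, ConjClasses.mk u = C ∧ ((u : Matrix (Fin n) (Fin n) F) - 1) ^ n = 0 ∧ ((u : Matrix (Fin n) (Fin n) F) - 1).rank = n - 1}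
  let Φ : Fˣ → S := fun c => ⟨ConjClasses.mk (v (dg c)), v (dg c), rfl, by
    rw [hv]
    have hpow : ∀ j : ℕ, ((dg c : Matrix (Fin n) (Fin n) F) * (U₀ - 1) * ((dg c)⁻¹ : GL (Fin n) F).val) ^ j =
        (dg c : Matrix (Fin n) (Fin n) F) * (U₀ - 1) ^ j * ((dg c)⁻¹ : GL (Fin n) F).val := fun j => by
      exact Units.conj_pow (dg c) (U₀ - 1) j
    rw [hpow, hu₀n, Matrix.mul_zero, Matrix.zero_mul], by
    rw [hv, Matrix.rank_mul_eq_left_of_isUnit_det _ _ ((Matrix.isUnit_iff_isUnit_det _).1 ((dg c)⁻¹ : GL (Fin n) F).isUnit),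
      Matrix.rank_mul_eq_right_of_isUnit_det _ _ ((Matrix.isUnit_iff_isUnit_det _).1 (dg c).isUnit), hu₀r]⟩
  have hsurj : Function.Surjective Φ := by
    rintro ⟨C, u, rfl, hn', hr'⟩
    obtain ⟨g, hg⟩ := exists_conj_regular (u₀ : Matrix (Fin n) (Fin n) F) (u : Matrix (Fin n) (Fin n) F) hu₀n hu₀r hn' hr'
    have hg0 : (g : Matrix (Fin n) (Fin n) F).det ≠ 0 := ((Matrix.isUnit_iff_isUnit_det _).1 g.isUnit).ne_zero
    refine ⟨Units.mk0 _ hg0, Subtype.ext (ConjClasses.mk_eq_mk_iff_isConj.2 (isConj_iff.2 ?_))⟩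
    set D := dg (Units.mk0 _ hg0)
    let s : Matrix.SpecialLinearGroup (Fin n) F := ⟨((g * D⁻¹ : GL (Fin n) F) : Matrix (Fin n) (Fin n) F), by
      have h1 : (D : Matrix (Fin n) (Fin n) F).det * (D⁻¹ : GL (Fin n) F).val.det = 1 := by rw [← det_mul, Units.mul_inv, det_one]
      rw [hdet, Units.val_mk0] at h1
      rw [Units.val_mul, det_mul, h1]⟩
    refine ⟨s, ?_⟩
    rw [mul_inv_eq_iff_eq_mul]
    refine Subtype.ext ?_
    show ((g * D⁻¹ : GL (Fin n) F) : Matrix (Fin n) (Fin n) F) * ((D : Matrix (Fin n) (Fin n) F) * U₀ * (D⁻¹ : GL (Fin n) F).val) = u * ((g * D⁻¹ : GL (Fin n) F) : Matrix (Fin n) (Fin n) F)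
    rw [Units.val_mul, show (g : Matrix (Fin n) (Fin n) F) * (D⁻¹ : GL (Fin n) F).val * ((D : Matrix (Fin n) (Fin n) F) * U₀ * (D⁻¹ : GL (Fin n) F).val) =
      (g : Matrix (Fin n) (Fin n) F) * ((D⁻¹ : GL (Fin n) F).val * D) * U₀ * (D⁻¹ : GL (Fin n) F).val by simp only [Matrix.mul_assoc],
      Units.inv_mul, Matrix.mul_one, hg, Matrix.mul_assoc]
  set R := (powMonoidHom n : Fˣ →* Fˣ).range
  have hiff : ∀ a b : Fˣ, Φ a = Φ b ↔ a⁻¹ * b ∈ R := fun a b => by
    constructor
    · intro h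
      obtain ⟨s, hs⟩ := isConj_iff.1 (ConjClasses.mk_eq_mk_iff_isConj.1 (congrArg Subtype.val h))
      rw [mul_inv_eq_iff_eq_mul] at hs
      have hs' : (s : Matrix (Fin n) (Fin n) F) * ((dg a : Matrix (Fin n) (Fin n) F) * U₀ * ((dg a)⁻¹ : GL (Fin n) F).val) =
          (dg b : Matrix (Fin n) (Fin n) F) * U₀ * ((dg b)⁻¹ : GL (Fin n) F).val * s := congrArg Subtype.val hs
      set c := ((dg b)⁻¹ : GL (Fin n) F).val * (s : Matrix (Fin n) (Fin n) F) * (dg a : Matrix (Fin n) (Fin n) F)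
      have hc : Commute c U₀ := by
        calc c * U₀ = ((dg b)⁻¹ : GL (Fin n) F).val * ((s : Matrix (Fin n) (Fin n) F) * ((dg a : Matrix (Fin n) (Fin n) F) * U₀ * ((dg a)⁻¹ : GL (Fin n) F).val)) * (dg a : Matrix (Fin n) (Fin n) F) := by
              simp only [c, Matrix.mul_assoc, Units.inv_mul, Matrix.mul_one]
          _ = (((dg b)⁻¹ : GL (Fin n) F).val * (dg b : Matrix (Fin n) (Fin n) F)) * U₀ * c := by rw [hs']; simp only [c, Matrix.mul_assoc]
          _ = U₀ * c := by rw [Units.inv_mul, Matrix.one_mul]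
      obtain ⟨k, hk⟩ := det_commute (u₀ : Matrix (Fin n) (Fin n) F) hu₀n hu₀r hc
      have h1 : ((dg b)⁻¹ : GL (Fin n) F).val.det * (b : F) = 1 := by rw [← hdet b, ← det_mul, Units.inv_mul, det_one]
      have hcd : c.det = (b : F)⁻¹ * a := by
        rw [det_mul, det_mul, s.2, mul_one, hdet, eq_inv_of_mul_eq_one_left h1]
      have hk0 : k ≠ 0 := fun e => mul_ne_zero (inv_ne_zero b.ne_zero) a.ne_zero (by
        rw [← hcd, hk, e, zero_pow (by omega)])
      refine ⟨(Units.mk0 k hk0)⁻¹, Units.ext ?_⟩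
      simp only [powMonoidHom_apply, inv_pow, Units.val_inv_eq_inv_val, Units.val_pow_eq_pow_val, Units.val_mk0,
        Units.val_mul, ← hk, hcd]
      field_simp
    · rintro ⟨k, hk⟩
      refine Subtype.ext (ConjClasses.mk_eq_mk_iff_isConj.2 (isConj_iff.2 ?_))
      let s : Matrix.SpecialLinearGroup (Fin n) F := ⟨(dg b : Matrix (Fin n) (Fin n) F) * ((k : F)⁻¹ • ((dg a)⁻¹ : GL (Fin n) F).val), by
        have h1 : ((dg a)⁻¹ : GL (Fin n) F).val.det * (a : F) = 1 := by rw [← hdet a, ← det_mul, Units.inv_mul, det_one]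
        rw [det_mul, det_smul, hdet, eq_inv_of_mul_eq_one_left h1, Fintype.card_fin]
        have h2 : (k : F) ^ n = (a : F)⁻¹ * b := by
          have := congrArg Units.val hk
          simpa using this
        rw [inv_pow, h2]
        field_simp⟩
      refine ⟨s, ?_⟩
      rw [mul_inv_eq_iff_eq_mul]
      refine Subtype.ext ?_
      show (dg b : Matrix (Fin n) (Fin n) F) * ((k : F)⁻¹ • ((dg a)⁻¹ : GL (Fin n) F).val) * ((dg a : Matrix (Fin n) (Fin n) F) * U₀ * ((dg a)⁻¹ : GL (Fin n) F).val) =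
        (dg b : Matrix (Fin n) (Fin n) F) * U₀ * ((dg b)⁻¹ : GL (Fin n) F).val * ((dg b : Matrix (Fin n) (Fin n) F) * ((k : F)⁻¹ • ((dg a)⁻¹ : GL (Fin n) F).val))
      rw [show (dg b : Matrix (Fin n) (Fin n) F) * U₀ * ((dg b)⁻¹ : GL (Fin n) F).val * ((dg b : Matrix (Fin n) (Fin n) F) * ((k : F)⁻¹ • ((dg a)⁻¹ : GL (Fin n) F).val)) =
        (dg b : Matrix (Fin n) (Fin n) F) * U₀ * (((dg b)⁻¹ : GL (Fin n) F).val * (dg b : Matrix (Fin n) (Fin n) F)) * ((k : F)⁻¹ • ((dg a)⁻¹ : GL (Fin n) F).val) by simp only [Matrix.mul_assoc],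
        Units.inv_mul, Matrix.mul_one]
      simp only [Matrix.mul_smul, Matrix.smul_mul]
      rw [show (dg b : Matrix (Fin n) (Fin n) F) * ((dg a)⁻¹ : GL (Fin n) F).val * ((dg a : Matrix (Fin n) (Fin n) F) * U₀ * ((dg a)⁻¹ : GL (Fin n) F).val) =
        (dg b : Matrix (Fin n) (Fin n) F) * (((dg a)⁻¹ : GL (Fin n) F).val * (dg a : Matrix (Fin n) (Fin n) F)) * U₀ * ((dg a)⁻¹ : GL (Fin n) F).val by simp only [Matrix.mul_assoc],
        Units.inv_mul, Matrix.mul_one]
  let Ψ : Fˣ ⧸ R → S := Quotient.lift Φ fun a b h => (hiff a b).2 (QuotientGroup.leftRel_apply.1 h)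
  have hΨ : Function.Bijective Ψ := by
    refine ⟨fun x y => ?_, fun y => ?_⟩
    · induction x using QuotientGroup.induction_on
      induction y using QuotientGroup.induction_on
      intro h
      exact QuotientGroup.eq.2 ((hiff _ _).1 h)
    · obtain ⟨x, rfl⟩ := hsurj y
      exact ⟨x, rfl⟩
  show Nat.card S = _
  rw [← Nat.card_eq_of_bijective Ψ hΨ]
  have h1 := Subgroup.card_eq_card_quotient_mul_card_subgroup R
  have h2 := (powMonoidHom n : Fˣ →* Fˣ).ker.card_mul_index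
  rw [Subgroup.index_ker, IsCyclic.card_powMonoidHom_ker, Nat.card_units] at h2
  rw [Nat.card_units] at h1
  have h3 : Nat.gcd (Nat.card F - 1) n * Nat.card R = Nat.card (Fˣ ⧸ R) * Nat.card R := by rw [h2, ← h1]
  rw [← Nat.eq_of_mul_eq_mul_right Nat.card_pos h3, Nat.card_eq_fintype_card, hF, Nat.gcd_comm]

end Cfsg.Agent.S2578
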