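import Cfsg.Statements.S2579
import Cfsg.Agent.Lib.Struct.TransvectionGL

set_option autoImplicit false
open Cfsg
open Matrix

namespace Cfsg.Agent.S2579

/-- In SL_n(F) with n ≥ 3, over a finite field F, any two transvections (matrices t with t − 1 of rank one and square zero) are conjugate by an element of SL_n(F). -/
theorem result {F : Type*} [Field F] [Finite F] {n : ℕ} (hn : 3 ≤ n) (s t : Matrix.SpecialLinearGroup (Fin n) F) (hs : Cfsg.IsTransvection (s : Matrix (Fin n) (Fin n) F)) (ht : Cfsg.IsTransvection (t : Matrix (Fin n) (Fin n) F)) : IsConj s t := by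
  obtain ⟨g, hg, hD⟩ := Cfsg.Agent.Struct.TransvectionGL.exists_conj (s : Matrix (Fin n) (Fin n) F) t hs ht
  have hg0 : (g : Matrix (Fin n) (Fin n) F).det ≠ 0 := ((Matrix.isUnit_iff_isUnit_det _).1 g.isUnit).ne_zero
  obtain ⟨D, hDd, hDc⟩ := hD hn _ (inv_ne_zero hg0)
  rw [isConj_iff]
  let c : Matrix.SpecialLinearGroup (Fin n) F :=
    ⟨(D : Matrix (Fin n) (Fin n) F) * g, by rw [det_mul, hDd, inv_mul_cancel₀ hg0]⟩
  refine ⟨c, ?_⟩
  rw [mul_inv_eq_iff_eq_mul]
  refine Subtype.ext ?_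
  show (D : Matrix (Fin n) (Fin n) F) * g * s = t * ((D : Matrix (Fin n) (Fin n) F) * g)
  rw [Matrix.mul_assoc, hg, ← Matrix.mul_assoc, hDc, Matrix.mul_assoc]

end Cfsg.Agent.S2579
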