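import Cfsg.Statements.S2581
import Cfsg.Agent.Lib.Struct.NilpotentForm

set_option autoImplicit false
open Cfsg
open Matrix

namespace Cfsg.Agent.S2581

open Cfsg.Agent.Struct.NilpotentForm

variable {F : Type*} [Field F] {t : ℕ} (d : Fin t → ℕ)

/-- block indices -/
abbrev Idx : Type := (k : Fin t) × Fin (d k)

/-- parameters of a commuting matrix -/
abbrev Sl : Type := (x : Fin t × Fin t) × Fin (min (d x.1) (d x.2))

/-- the coefficient at offset `m` -/
def coef (p : Sl d → F) (k l : Fin t) (m : ℕ) : F :=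
  if h : d k - d l ≤ m ∧ m < d k then p ⟨(k, l), ⟨m - (d k - d l), by simp only [lt_min_iff]; omega⟩⟩ else 0

/-- the commuting matrix with given parameters -/
def toM (p : Sl d → F) : Matrix (Idx d) (Idx d) F :=
  Matrix.of fun x y => if (y.2 : ℕ) ≤ x.2 then coef d p x.1 y.1 ((x.2 : ℕ) - y.2) else 0

theorem jordan_eq : Cfsg.jordanTypeMatrix d F = 1 + shiftPow F d 1 := by
  ext ⟨k, r⟩ ⟨l, s⟩
  rw [Cfsg.jordanTypeMatrix, Matrix.blockDiagonal'_apply, Matrix.add_apply]
  by_cases hkl : k = l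
  · subst hkl
    simp only [dif_pos trivial, cast_eq, Cfsg.jordanBlock, Matrix.of_apply, shiftPow, true_and, Matrix.one_apply,
      Sigma.mk.injEq, heq_eq_eq, Fin.ext_iff]
    by_cases h : (r : ℕ) = s
    · simp [h]
    · simp [h]
  · simp [hkl, shiftPow, Matrix.one_apply]

theorem mul_shift (M : Matrix (Idx d) (Idx d) F) (x : Idx d) (l : Fin t) (s : Fin (d l)) :
    (M * shiftPow F d 1) x ⟨l, s⟩ = if h : (s : ℕ) + 1 < d l then M x ⟨l, ⟨(s : ℕ) + 1, h⟩⟩ else 0 := by
  rw [Matrix.mul_apply]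
  split_ifs with h
  · rw [Finset.sum_eq_single (⟨l, ⟨(s : ℕ) + 1, h⟩⟩ : Idx d)]
    · simp [shiftPow]
    · rintro ⟨a, b⟩ - hne
      simp only [shiftPow, Matrix.of_apply]
      rw [if_neg, mul_zero]
      rintro ⟨rfl, hb⟩
      exact hne (congrArg (Sigma.mk a) (Fin.ext hb))
    · simp
  · refine Finset.sum_eq_zero fun y _ => ?_
    obtain ⟨a, b⟩ := y
    simp only [shiftPow, Matrix.of_apply]
    rw [if_neg, mul_zero]
    rintro ⟨rfl, hb⟩
    have := b.isLt
    omega

theorem shift_mul (M : Matrix (Idx d) (Idx d) F) (k : Fin t) (r : Fin (d k)) (y : Idx d) :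
    (shiftPow F d 1 * M) ⟨k, r⟩ y = if h : 0 < (r : ℕ) then M ⟨k, ⟨(r : ℕ) - 1, by omega⟩⟩ y else 0 := by
  rw [Matrix.mul_apply]
  split_ifs with h
  · rw [Finset.sum_eq_single (⟨k, ⟨(r : ℕ) - 1, by omega⟩⟩ : Idx d)]
    · simp only [shiftPow, Matrix.of_apply]
      rw [if_pos ⟨by trivial, by show (r : ℕ) = (r : ℕ) - 1 + 1; omega⟩, one_mul]
    · rintro ⟨a, b⟩ - hne
      simp only [shiftPow, Matrix.of_apply]
      rw [if_neg, zero_mul]
      rintro ⟨rfl, hb⟩
      exact hne (congrArg (Sigma.mk k) (Fin.ext (by show (b : ℕ) = (r : ℕ) - 1; omega)))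
    · simp
  · refine Finset.sum_eq_zero fun y _ => ?_
    simp only [shiftPow, Matrix.of_apply]
    rw [if_neg, zero_mul]
    rintro ⟨-, hb⟩
    omega

theorem toM_comm (p : Sl d → F) : toM d p * shiftPow F d 1 = shiftPow F d 1 * toM d p := by
  ext ⟨k, r⟩ ⟨l, s⟩
  rw [mul_shift, shift_mul]
  have := r.isLt
  have := s.isLt
  simp only [toM, Matrix.of_apply]
  split_ifs <;> first
    | rfl
    | omega
    | (rw [show (r : ℕ) - ((s : ℕ) + 1) = (r : ℕ) - 1 - s by omega])
    | (unfold coef; rw [dif_neg (by omega)])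

theorem exists_param (M : Matrix (Idx d) (Idx d) F) (hM : M * shiftPow F d 1 = shiftPow F d 1 * M) :
    ∃ p : Sl d → F, toM d p = M := by
  have hd0 : ∀ (l : Fin t), Fin (d l) → 0 < d l := fun l s => Nat.lt_of_le_of_lt (Nat.zero_le _) s.isLt
  have step : ∀ (x y : Idx d), (y.2 : ℕ) ≤ x.2 →
      M x y = M ⟨x.1, ⟨(x.2 : ℕ) - y.2, by omega⟩⟩ ⟨y.1, ⟨0, hd0 _ y.2⟩⟩ := by
    rintro ⟨k, r⟩ ⟨l, s, hs⟩ hsr
    induction s generalizing r with
    | zero => rfl
    | succ s ih =>
      simp only at hsr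
      have h := congrFun (congrFun hM ⟨k, r⟩) ⟨l, ⟨s, by omega⟩⟩
      rw [mul_shift, shift_mul, dif_pos (show s + 1 < d l from hs), dif_pos (show 0 < (r : ℕ) by omega)] at h
      refine h.trans ((ih _ _ (by show s ≤ (r : ℕ) - 1; omega)).trans ?_)
      congr 3
      show (r : ℕ) - 1 - s = (r : ℕ) - (s + 1)
      omega
  have upper : ∀ (x y : Idx d), (x.2 : ℕ) < y.2 → M x y = 0 := by
    rintro ⟨k, r⟩ ⟨l, s, hs⟩ hsr
    induction s generalizing r with
    | zero => simp at hsr
    | succ s ih =>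
      simp only at hsr
      have h := congrFun (congrFun hM ⟨k, r⟩) ⟨l, ⟨s, by omega⟩⟩
      rw [mul_shift, shift_mul, dif_pos (show s + 1 < d l from hs)] at h
      refine h.trans ?_
      split_ifs with h0
      · exact ih _ _ (by show (r : ℕ) - 1 < s; omega)
      · rfl
  have low : ∀ (k l : Fin t) (m : Fin (d k)) (h0 : 0 < d l), (m : ℕ) < d k - d l → M ⟨k, m⟩ ⟨l, ⟨0, h0⟩⟩ = 0 := by
    intro k l m h0 hm
    have h := congrFun (congrFun hM ⟨k, ⟨(m : ℕ) + d l, by omega⟩⟩) ⟨l, ⟨d l - 1, by omega⟩⟩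
    rw [mul_shift, shift_mul, dif_neg (by show ¬ d l - 1 + 1 < d l; omega), dif_pos (by show 0 < (m : ℕ) + d l; omega),
      step _ _ (by show d l - 1 ≤ (m : ℕ) + d l - 1; omega)] at h
    refine Eq.trans ?_ h.symm
    exact congrArg (fun z => M ⟨k, z⟩ (⟨l, ⟨0, h0⟩⟩ : Idx d)) (Fin.ext (by show (m : ℕ) = (m : ℕ) + d l - 1 - (d l - 1); omega))
  refine ⟨fun z => M ⟨z.1.1, ⟨(z.2 : ℕ) + (d z.1.1 - d z.1.2), ?_⟩⟩ ⟨z.1.2, ⟨0, ?_⟩⟩, ?_⟩
  · have h1 := z.2.isLt; simp only [lt_min_iff] at h1; omega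
  · have h1 := z.2.isLt; simp only [lt_min_iff] at h1; omega
  ext ⟨k, r⟩ ⟨l, s⟩
  have := r.isLt
  have := s.isLt
  simp only [toM, Matrix.of_apply, coef]
  split_ifs with h1 h2
  · rw [step ⟨k, r⟩ ⟨l, s⟩ h1]
    congr 3
    show (r : ℕ) - s - (d k - d l) + (d k - d l) = (r : ℕ) - s
    omega
  · rw [step ⟨k, r⟩ ⟨l, s⟩ h1]
    exact (low k l _ _ (by show (r : ℕ) - s < d k - d l; omega)).symm
  · exact (upper ⟨k, r⟩ ⟨l, s⟩ (by show (r : ℕ) < s; omega)).symm

theorem toM_injective : Function.Injective (toM d (F := F)) := by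
  intro p p' h
  funext z
  obtain ⟨⟨k, l⟩, j, hj⟩ := z
  simp only [lt_min_iff] at hj
  have h1 := congrFun (congrFun h (⟨k, ⟨j + (d k - d l), by omega⟩⟩ : Idx d)) (⟨l, ⟨0, by omega⟩⟩ : Idx d)
  simp only [toM, Matrix.of_apply, Nat.zero_le, if_true, Nat.sub_zero, coef] at h1
  rw [dif_pos ⟨by omega, by omega⟩, dif_pos ⟨by omega, by omega⟩] at h1
  simpa only [Nat.add_sub_cancel] using h1

variable (hd : ∀ k, 1 ≤ d k)

/-- the induced matrix on the kernel of the shift -/
def top (p : Sl d → F) : Matrix (Fin t) (Fin t) F :=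
  Matrix.of fun k l => if d l ≤ d k then p ⟨(k, l), ⟨0, by have := hd k; have := hd l; simp only [lt_min_iff]; omega⟩⟩ else 0

theorem toM_mulVec (p : Sl d → F) (v : Idx d → F) (hv : ∀ x : Idx d, (x.2 : ℕ) + 1 < d x.1 → v x = 0) (k : Fin t) (r : Fin (d k)) :
    (toM d p).mulVec v ⟨k, r⟩ =
      if (r : ℕ) + 1 = d k then (top d hd p).mulVec (fun l => v ⟨l, ⟨d l - 1, by have := hd l; omega⟩⟩) k else 0 := by
  have hs : ∀ l : Fin t, ∑ s : Fin (d l), toM d p ⟨k, r⟩ ⟨l, s⟩ * v ⟨l, s⟩ =
      toM d p ⟨k, r⟩ ⟨l, ⟨d l - 1, by have := hd l; omega⟩⟩ * v ⟨l, ⟨d l - 1, by have := hd l; omega⟩⟩ := by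
    intro l
    refine Finset.sum_eq_single _ (fun s _ hs => ?_) (by simp)
    have hs' : (s : ℕ) ≠ d l - 1 := fun e => hs (Fin.ext e)
    rw [hv ⟨l, s⟩ (by show (s : ℕ) + 1 < d l; omega), mul_zero]
  simp only [Matrix.mulVec, dotProduct]
  rw [Fintype.sum_sigma, Finset.sum_congr rfl fun l _ => hs l]
  have hr := r.isLt
  split_ifs with h
  · refine Finset.sum_congr rfl fun l _ => ?_
    congr 1
    have := hd l
    simp only [toM, top, Matrix.of_apply, coef]
    by_cases hl : d l ≤ d k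
    · rw [if_pos (by omega), if_pos hl, dif_pos ⟨by omega, by omega⟩]
      congr 2
      exact Fin.ext (by show (r : ℕ) - (d l - 1) - (d k - d l) = 0; omega)
    · rw [if_neg (by omega), if_neg hl]
  · refine Finset.sum_eq_zero fun l _ => ?_
    have := hd l
    simp only [toM, Matrix.of_apply, coef]
    split_ifs <;> first | rw [zero_mul] | omega

theorem isUnit_toM_iff (p : Sl d → F) : IsUnit (toM d p) ↔ (top d hd p).det ≠ 0 := by
  classical
  rw [← isUnit_iff_ne_zero, ← Matrix.isUnit_iff_isUnit_det, ← Matrix.mulVec_injective_iff_isUnit, ← Matrix.mulVec_injective_iff_isUnit]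
  constructor
  · intro h
    refine fun a b hab => ?_
    let ι : (Fin t → F) → (Idx d → F) := fun a x => if (x.2 : ℕ) + 1 = d x.1 then a x.1 else 0
    have hι : ∀ a : Fin t → F, (fun l => ι a ⟨l, ⟨d l - 1, by have := hd l; omega⟩⟩) = a := fun a => funext fun l =>
      if_pos (by have := hd l; show d l - 1 + 1 = d l; omega)
    have h1 : ∀ a, ∀ k r, (toM d p).mulVec (ι a) ⟨k, r⟩ = if (r : ℕ) + 1 = d k then (top d hd p).mulVec a k else 0 := fun a k r => by
      rw [toM_mulVec d hd p (ι a) (fun x hx => if_neg (by omega)) k r, hι]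
    have h2 : ι a = ι b := h (funext fun ⟨k, r⟩ => by rw [h1, h1, hab])
    rw [← hι a, h2, hι]
  · intro h
    have key : ∀ j : ℕ, ∀ v : Idx d → F, (shiftPow F d j).mulVec v = 0 → (toM d p).mulVec v = 0 → v = 0 := by
      intro j
      induction j with
      | zero =>
        intro v hv _
        rwa [← shift_pow, pow_zero, Matrix.one_mulVec] at hv
      | succ j ih =>
        intro v hv hv2
        rw [← shift_pow, pow_succ, ← Matrix.mulVec_mulVec, shift_pow] at hv
        have hN := ih _ hv (by rw [Matrix.mulVec_mulVec, toM_comm, ← Matrix.mulVec_mulVec, hv2, Matrix.mulVec_zero])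
        have htop : ∀ x : Idx d, (x.2 : ℕ) + 1 < d x.1 → v x = 0 := by
          rintro ⟨k, r⟩ hr
          have h1 := congrFun hN ⟨k, ⟨(r : ℕ) + 1, hr⟩⟩
          simp only [Matrix.mulVec, dotProduct, shiftPow, Matrix.of_apply] at h1
          rw [Finset.sum_eq_single (⟨k, r⟩ : Idx d)] at h1
          · rwa [if_pos ⟨rfl, rfl⟩, one_mul] at h1
          · rintro ⟨a, b⟩ - hne
            rw [if_neg, zero_mul]
            rintro ⟨rfl, hb⟩
            exact hne (congrArg (Sigma.mk k) (Fin.ext (by simp at hb; omega)))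
          · simp
        have h3 : (fun l => v ⟨l, ⟨d l - 1, by have := hd l; omega⟩⟩) = (0 : Fin t → F) := by
          refine h (funext fun k => ?_)
          have h4 := congrFun hv2 ⟨k, ⟨d k - 1, by have := hd k; omega⟩⟩
          rw [toM_mulVec d hd p v htop, if_pos (by have := hd k; show d k - 1 + 1 = d k; omega)] at h4
          rw [h4, Matrix.mulVec_zero]
          rfl
        funext ⟨k, r⟩
        rcases Nat.lt_or_ge ((r : ℕ) + 1) (d k) with hr | hr
        · exact htop _ hr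
        · rw [show r = (⟨d k - 1, by omega⟩ : Fin (d k)) from Fin.ext (by show (r : ℕ) = d k - 1; omega)]
          exact congrFun h3 k
    intro a b hab
    refine sub_eq_zero.1 (key (Finset.univ.sup d) _ ?_ (by rw [Matrix.mulVec_sub, hab, sub_self]))
    funext ⟨k, r⟩
    simp only [Matrix.mulVec, dotProduct, shiftPow, Matrix.of_apply, Pi.zero_apply]
    refine Finset.sum_eq_zero fun x _ => ?_
    rw [if_neg, zero_mul]
    rintro ⟨-, hx⟩
    have := Finset.le_sup (f := d) (Finset.mem_univ k)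
    omega


/-- Order of the centraliser in GL of a unipotent matrix of given Jordan type over the field with q elements: if the type has a_i blocks of size i (all block sizes at least 1), the invertible matrices commuting with it number q^γ · Π_i |GL_(a_i)(q)| with γ = 2 Σ_(i<j) i a_i a_j + Σ_i (i − 1) a_i² (a group of order q^γ extended by Π GL_(a_i)(q)). -/
theorem result {F : Type*} [Field F] [Fintype F] {q : ℕ} (hF : Fintype.card F = q) {t : ℕ} (d : Fin t → ℕ) (hd : ∀ k, 1 ≤ d k) : Nat.card {g : GL ((k : Fin t) × Fin (d k)) F // (g : Matrix ((k : Fin t) × Fin (d k)) ((k : Fin t) × Fin (d k)) F) * Cfsg.jordanTypeMatrix d F = Cfsg.jordanTypeMatrix d F * (g : Matrix ((k : Fin t) × Fin (d k)) ((k : Fin t) × Fin (d k)) F)} = q ^ (2 * (∑ i ∈ Finset.range (Finset.univ.sup d + 1), ∑ j ∈ Finset.range (Finset.univ.sup d + 1), if i < j then i * (Finset.univ.filter (fun k : Fin t => d k = i)).card * (Finset.univ.filter (fun k : Fin t => d k = j)).card else 0) + ∑ i ∈ Finset.range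 (Finset.univ.sup d + 1), (i - 1) * (Finset.univ.filter (fun k : Fin t => d k = i)).card ^ 2) * ∏ i ∈ Finset.range (Finset.univ.sup d + 1), ∏ j : Fin ((Finset.univ.filter (fun k : Fin t => d k = i)).card), (q ^ (Finset.univ.filter (fun k : Fin t => d k = i)).card - q ^ (j : ℕ)) := by
  classical
  set R := Finset.range (Finset.univ.sup d + 1)
  have hmem : ∀ k, d k ∈ R := fun k => Finset.mem_range.2 (Nat.lt_succ_of_le (Finset.le_sup (f := d) (Finset.mem_univ k)))
  let A : ℕ → Type := fun i => {k : Fin t // d k = i}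
  let Q : Sl d → Prop := fun z => d z.1.1 = d z.1.2 ∧ (z.2 : ℕ) = 0
  let blk : ∀ i : R, ({z : Sl d // Q z} → F) → Matrix (A i) (A i) F := fun i q =>
    Matrix.of fun k l => q ⟨⟨(k.1, l.1), ⟨0, by have := hd k.1; have := hd l.1; simp only [lt_min_iff]; omega⟩⟩, k.2.trans l.2.symm, rfl⟩
  have hblk : Function.Bijective (fun q i => blk i q) := by
    refine ⟨fun q q' h => funext fun z => ?_, fun f => ?_⟩
    · obtain ⟨⟨⟨k, l⟩, j, hj⟩, hkl, hj0⟩ := z
      simp only at hkl hj0
      subst hj0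
      have h1 := congrFun (congrFun (congrFun h ⟨d k, hmem k⟩) ⟨k, rfl⟩) ⟨l, hkl.symm⟩
      exact h1
    · refine ⟨fun z => f ⟨d z.1.1.1, hmem _⟩ ⟨z.1.1.1, rfl⟩ ⟨z.1.1.2, z.2.1.symm⟩, funext fun i => ?_⟩
      have key : ∀ (i j : R), j = i → ∀ (k l : A i) (k' l' : A j), k'.1 = k.1 → l'.1 = l.1 → f j k' l' = f i k l := by
        rintro i j rfl k l k' l' e1 e2
        rw [Subtype.ext e1, Subtype.ext e2]
      ext k l
      exact key i _ (Subtype.ext k.2) k l _ _ rfl rfl
  let P := {p : Sl d → F // ∀ i : R, (blk i (fun z => p z.1)).det ≠ 0}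
  have hdet : ∀ p : Sl d → F, (top d hd p).det ≠ 0 ↔ ∀ i : R, (blk i (fun z => p z.1)).det ≠ 0 := by
    intro p
    have hbt : Matrix.BlockTriangular (top d hd p)ᵀ d := fun l k hlt => by
      simp only [Matrix.transpose_apply, top, Matrix.of_apply]
      rw [if_neg (by omega)]
    have hb : ∀ a : ℕ, ∀ ha : a ∈ R, ((top d hd p)ᵀ.toSquareBlock d a).det = (blk ⟨a, ha⟩ (fun z => p z.1)).det := by
      intro a ha
      rw [← Matrix.det_transpose]
      congr 1
      ext ⟨k, hk⟩ ⟨l, hl⟩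
      simp only [Matrix.transpose_apply, Matrix.toSquareBlock_def, Matrix.of_apply, top, blk]
      rw [if_pos (by omega)]
    rw [← Matrix.det_transpose, hbt.det, Finset.prod_ne_zero_iff]
    constructor
    · rintro h ⟨i, hi⟩
      by_cases hm : i ∈ Finset.univ.image d
      · rw [← hb i hi]; exact h i hm
      · haveI : IsEmpty (A i) := ⟨fun k => hm (Finset.mem_image.2 ⟨k.1, Finset.mem_univ _, k.2⟩)⟩
        rw [Matrix.det_isEmpty]; exact one_ne_zero
    · intro h a ha
      obtain ⟨k, -, rfl⟩ := Finset.mem_image.1 ha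
      rw [hb _ (hmem k)]; exact h _
  have hu : ∀ p : Sl d → F, (∀ i : R, (blk i (fun z => p z.1)).det ≠ 0) → IsUnit (toM d p) :=
    fun p h => (isUnit_toM_iff d hd p).2 ((hdet p).2 h)
  have hcomm : ∀ M : Matrix (Idx d) (Idx d) F,
      M * Cfsg.jordanTypeMatrix d F = Cfsg.jordanTypeMatrix d F * M ↔
        M * Cfsg.Agent.Struct.NilpotentForm.shiftPow F d 1 = Cfsg.Agent.Struct.NilpotentForm.shiftPow F d 1 * M := fun M => by
    rw [jordan_eq, mul_add, add_mul, mul_one, one_mul, add_right_inj]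
  let Φ : P → {g : GL (Idx d) F // (g : Matrix (Idx d) (Idx d) F) * Cfsg.jordanTypeMatrix d F = Cfsg.jordanTypeMatrix d F * (g : Matrix (Idx d) (Idx d) F)} :=
    fun p => ⟨(hu p.1 p.2).unit, by rw [IsUnit.unit_spec, hcomm]; exact toM_comm d p.1⟩
  have hΦ : Function.Bijective Φ := by
    refine ⟨fun a b h => Subtype.ext (toM_injective d (by simpa [Φ] using congrArg (fun g => (g.1 : Matrix (Idx d) (Idx d) F)) h)), fun g => ?_⟩
    obtain ⟨p, hp⟩ := exists_param d _ ((hcomm _).1 g.2)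
    refine ⟨⟨p, (hdet p).1 ((isUnit_toM_iff d hd p).1 (hp ▸ g.1.isUnit))⟩, Subtype.ext (Units.ext ?_)⟩
    simp only [Φ, IsUnit.unit_spec, hp]
  rw [← Nat.card_eq_of_bijective Φ hΦ]
  -- split off the diagonal blocks
  let e₁ : P ≃ ((i : R) → GL (A i) F) × ({z : Sl d // ¬ Q z} → F) :=
    { toFun := fun p => (fun i => ((Matrix.isUnit_iff_isUnit_det _).2 (isUnit_iff_ne_zero.2 (p.2 i))).unit, fun z => p.1 z.1)
      invFun := fun w => ⟨(Equiv.piEquivPiSubtypeProd Q fun _ => F).symm ((Equiv.ofBijective _ hblk).symm fun i => (w.1 i : Matrix (A i) (A i) F), w.2), by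
        intro i
        have h1 := congrFun ((Equiv.ofBijective _ hblk).apply_symm_apply fun i => (w.1 i : Matrix (A i) (A i) F)) i
        rw [show (fun z : {z : Sl d // Q z} => (Equiv.piEquivPiSubtypeProd Q fun _ => F).symm ((Equiv.ofBijective _ hblk).symm fun i => (w.1 i : Matrix (A i) (A i) F), w.2) z.1) =
          (Equiv.ofBijective _ hblk).symm fun i => (w.1 i : Matrix (A i) (A i) F) from funext fun z => by simp [z.2]]
        rw [show blk i ((Equiv.ofBijective _ hblk).symm fun i => (w.1 i : Matrix (A i) (A i) F)) = (w.1 i : Matrix (A i) (A i) F) from h1]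
        exact ((Matrix.isUnit_iff_isUnit_det _).1 (w.1 i).isUnit).ne_zero⟩
      left_inv := fun p => by
        refine Subtype.ext ((Equiv.symm_apply_eq _).2 ?_)
        refine Prod.ext ((Equiv.symm_apply_eq _).2 (funext fun i => IsUnit.unit_spec _)) rfl
      right_inv := fun w => by
        refine Prod.ext (funext fun i => Units.ext ?_) (funext fun z => ?_)
        · dsimp only
          rw [IsUnit.unit_spec]
          have h1 := congrFun ((Equiv.ofBijective _ hblk).apply_symm_apply fun i => (w.1 i : Matrix (A i) (A i) F)) i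
          rw [show (fun z : {z : Sl d // Q z} => (Equiv.piEquivPiSubtypeProd Q fun _ => F).symm ((Equiv.ofBijective _ hblk).symm fun i => (w.1 i : Matrix (A i) (A i) F), w.2) z.1) =
            (Equiv.ofBijective _ hblk).symm fun i => (w.1 i : Matrix (A i) (A i) F) from funext fun z => by simp [z.2]]
          exact h1
        · simp [z.2] }
  rw [Nat.card_congr e₁, Nat.card_prod, Nat.card_pi, Nat.card_fun, Nat.card_eq_fintype_card (α := F), hF]
  have hA : ∀ i : ℕ, Nat.card (A i) = (Finset.univ.filter (fun k : Fin t => d k = i)).card := fun i => by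
    rw [Nat.card_eq_fintype_card, Fintype.card_subtype]
  have hGL : ∀ i : ℕ, Nat.card (GL (A i) F) = ∏ j : Fin ((Finset.univ.filter (fun k : Fin t => d k = i)).card),
      (q ^ (Finset.univ.filter (fun k : Fin t => d k = i)).card - q ^ (j : ℕ)) := fun i => by
    rw [Nat.card_congr (Units.mapEquiv (Matrix.reindexAlgEquiv F F (Fintype.equivFinOfCardEq
      ((Nat.card_eq_fintype_card (α := A i)).symm.trans (hA i)))).toMulEquiv).toEquiv, Matrix.card_GL_field, hF]
  rw [show (∏ i : R, Nat.card (GL (A i) F)) = ∏ i : R, _ from Finset.prod_congr rfl (fun i _ => hGL i), Finset.prod_coe_sort R (fun i => ∏ j : Fin ((Finset.univ.filter (fun k : Fin t => d k = i)).card),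
      (q ^ (Finset.univ.filter (fun k : Fin t => d k = i)).card - q ^ (j : ℕ))), mul_comm]
  congr 2
  -- the exponent
  let a : ℕ → ℕ := fun i => (Finset.univ.filter (fun k : Fin t => d k = i)).card
  have hQ : Nat.card {z : Sl d // Q z} = ∑ i ∈ R, a i ^ 2 := by
    let e : {z : Sl d // Q z} ≃ (i : R) × (A i × A i) :=
      { toFun := fun z => ⟨⟨d z.1.1.1, hmem _⟩, (⟨z.1.1.1, rfl⟩, ⟨z.1.1.2, z.2.1.symm⟩)⟩
        invFun := fun w => ⟨⟨(w.2.1.1, w.2.2.1), ⟨0, by have := hd w.2.1.1; have := hd w.2.2.1; simp only [lt_min_iff]; omega⟩⟩,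
          w.2.1.2.trans w.2.2.2.symm, rfl⟩
        left_inv := fun z => Subtype.ext (by
          obtain ⟨⟨⟨k, l⟩, j, hj⟩, hkl, hj0⟩ := z
          simp only at hj0
          subst hj0
          rfl)
        right_inv := fun w => by
          obtain ⟨⟨i, hi⟩, ⟨k, hk⟩, ⟨l, hl⟩⟩ := w
          have hk' : d k = i := hk
          subst hk'
          rfl }
    rw [Nat.card_congr e, Nat.card_sigma, ← Finset.sum_coe_sort R]
    exact Finset.sum_congr rfl fun i _ => by rw [Nat.card_prod, hA, pow_two]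
  have hS : Nat.card (Sl d) = ∑ i ∈ R, ∑ j ∈ R, a i * a j * min i j := by
    rw [Nat.card_eq_fintype_card, Fintype.card_sigma]
    simp only [Fintype.card_fin]
    rw [Fintype.sum_prod_type, ← Finset.sum_fiberwise_of_maps_to (fun k _ => hmem k)]
    refine Finset.sum_congr rfl fun i _ => ?_
    rw [Finset.sum_congr rfl (g := fun _ => ∑ j ∈ R, a j * min i j) fun k hk => ?_, Finset.sum_const, smul_eq_mul, Finset.mul_sum]
    · exact Finset.sum_congr rfl fun j _ => (mul_assoc _ _ _).symm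
    · show ∑ l, min (d k) (d l) = _
      rw [(Finset.mem_filter.1 hk).2, ← Finset.sum_fiberwise_of_maps_to (fun l _ => hmem l)]
      refine Finset.sum_congr rfl fun j _ => ?_
      rw [Finset.sum_congr rfl (g := fun _ => min i j) fun l hl => by rw [(Finset.mem_filter.1 hl).2], Finset.sum_const, smul_eq_mul]
  have hsplit := Nat.card_congr (Equiv.sumCompl Q)
  rw [Nat.card_sum, hQ, hS] at hsplit
  have hkey : ∑ i ∈ R, ∑ j ∈ R, a i * a j * min i j = 2 * (∑ i ∈ R, ∑ j ∈ R, if i < j then i * a i * a j else 0) + ∑ i ∈ R, i * a i ^ 2 := by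
    have h1 : ∀ i j, a i * a j * min i j = (if i < j then i * a i * a j else 0) + (if j < i then j * a j * a i else 0) + (if i = j then i * a i ^ 2 else 0) := by
      intro i j
      rcases lt_trichotomy i j with h | h | h
      · rw [if_pos h, if_neg (by omega), if_neg (by omega), min_eq_left h.le]; ring
      · subst h; rw [if_neg (by omega), if_pos rfl, min_self]; ring
      · rw [if_neg (by omega), if_pos h, if_neg (by omega), min_eq_right h.le]; ring
    simp only [h1, Finset.sum_add_distrib]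
    rw [two_mul, Finset.sum_comm (f := fun i j => if j < i then j * a j * a i else 0)]
    congr 1
    exact Finset.sum_congr rfl fun i hi => by rw [Finset.sum_ite_eq, if_pos hi]
  have hsub : ∑ i ∈ R, i * a i ^ 2 = ∑ i ∈ R, (i - 1) * a i ^ 2 + ∑ i ∈ R, a i ^ 2 := by
    rw [← Finset.sum_add_distrib]
    refine Finset.sum_congr rfl fun i _ => ?_
    rcases Nat.eq_zero_or_pos i with rfl | hi
    · have h0 : a 0 = 0 := Finset.card_eq_zero.2 (Finset.filter_eq_empty_iff.2 fun k _ h => by have := hd k; omega)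
      simp [h0]
    · obtain ⟨m, hm⟩ : ∃ m, i = m + 1 := ⟨i - 1, by omega⟩
      rw [hm, Nat.add_sub_cancel]; ring
  simp only [a] at hkey hsub hsplit ⊢
  omega

end Cfsg.Agent.S2581
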