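import Cfsg.Statements.S2585
import Cfsg.Agent.Lib.Classical.CharTwoForms
import Cfsg.Agent.Lib.Classical.OrthCommutator

set_option autoImplicit false
open Cfsg

open Cfsg.Agent.Classical
open Module QuadraticMap Matrix

namespace Cfsg.Agent.S2585

/-- Over a finite field of characteristic two every element of the symplectic group is orthogonal for a suitable quadratic form: for each A in Sp_2m(F) there is a quadratic form Q on F^(2m) whose polar form is the alternating form defining Sp_2m(F) (so Q is non-degenerate) and which A preserves. Equivalently, for m ≥ 1, Sp_2m(F) is the union of the conjugates of its two orthogonal subgroups O⁺_2m(F) and O⁻_2m(F). -/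
theorem result {F : Type*} [Field F] [Fintype F] [CharP F 2] {m : ℕ} (A : Matrix.symplecticGroup (Fin m) F) : ∃ Q : QuadraticForm F (Fin m ⊕ Fin m → F), (∀ u v : Fin m ⊕ Fin m → F, QuadraticMap.polar ⇑Q u v = Cfsg.sympForm m F u v) ∧ ∀ v : Fin m ⊕ Fin m → F, Q ((A : Matrix (Fin m ⊕ Fin m) (Fin m ⊕ Fin m) F).mulVec v) = Q v := by
  classical
  set Q0 := PlusMax.QP (F := F) (m := m)
  set L : (Fin m ⊕ Fin m → F) →ₗ[F] (Fin m ⊕ Fin m → F) := (A : Matrix (Fin m ⊕ Fin m) (Fin m ⊕ Fin m) F).mulVecLin
  have hA : ∀ u v, polar Q0 (L u) (L v) = polar Q0 u v := fun u v => by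
    rw [Cfsg.Agent.Classical.CharTwo.polar_QP_eq_sympB, Cfsg.Agent.Classical.CharTwo.polar_QP_eq_sympB]; exact (Sp.mem_symplectic_iff m A.1).1 A.2 u v
  obtain ⟨lam, hlam⟩ := Cfsg.Agent.Classical.CharTwo.exists_sqrt_linear (fun v => Q0 (L v) + Q0 v) (fun u v => by
    have h := hA u v
    simp only [polar] at h
    rw [map_add L]
    linear_combination h + (Q0 (u + v) - Q0 u - Q0 v) * Cfsg.Agent.Classical.CharTwo.two_zero (F := F)) (fun c v => by
    rw [map_smul, QuadraticMap.map_smul, QuadraticMap.map_smul, smul_eq_mul, smul_eq_mul]; ring)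
  obtain ⟨l, hl⟩ : lam ∈ LinearMap.range (L - LinearMap.id).dualMap := by
    rw [LinearMap.range_dualMap_eq_dualAnnihilator_ker, Submodule.mem_dualAnnihilator]
    intro w hw
    have hw' : L w = w := sub_eq_zero.1 hw
    have h := hlam w
    rw [hw'] at h
    exact Cfsg.Agent.Classical.CharTwo.sq_inj (by rw [h]; linear_combination (Q0 w) * Cfsg.Agent.Classical.CharTwo.two_zero (F := F))
  refine ⟨Q0 + (QuadraticMap.sq (R := F)).comp l, fun u v => ?_, fun v => ?_⟩
  · rw [← Sp.sympB_apply, ← Cfsg.Agent.Classical.CharTwo.polar_QP_eq_sympB]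
    simp only [polar, QuadraticMap.add_apply, QuadraticMap.comp_apply, QuadraticMap.sq_apply, map_add]
    linear_combination (l u * l v) * Cfsg.Agent.Classical.CharTwo.two_zero (F := F)
  · show Q0 (L v) + l (L v) * l (L v) = Q0 v + l v * l v
    have h1 := hlam v
    rw [← hl, LinearMap.dualMap_apply, LinearMap.sub_apply, LinearMap.id_apply, map_sub] at h1
    linear_combination h1 + (l v * l (L v) - l v ^ 2 - Q0 v + (Q0 (L v) + Q0 v)) * Cfsg.Agent.Classical.CharTwo.two_zero (F := F)

end Cfsg.Agent.S2585
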