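import Cfsg.Statements.S2586
import Cfsg.Agent.Lib.Struct.TransposeConj

set_option autoImplicit false
open Cfsg
open Matrix

namespace Cfsg.Agent.S2586

/-- Over a finite field, every element of the symplectic group Sp_2m(F) is conjugate by an invertible matrix to its inverse. -/
theorem result {F : Type*} [Field F] [Finite F] {m : ℕ} (A : Matrix.symplecticGroup (Fin m) F) : IsConj (A : Matrix (Fin m ⊕ Fin m) (Fin m ⊕ Fin m) F) ((A⁻¹ : Matrix.symplecticGroup (Fin m) F) : Matrix (Fin m ⊕ Fin m) (Fin m ⊕ Fin m) F) := by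
  classical
  set M := (A : Matrix (Fin m ⊕ Fin m) (Fin m ⊕ Fin m) F)
  obtain ⟨P, hP⟩ := Cfsg.Agent.Struct.TransposeConj.exists_conj_transpose M
  set J := Matrix.J (Fin m) F
  have hJ2 : J * J = -1 := Matrix.J_squared (Fin m) F
  let Ju : GL (Fin m ⊕ Fin m) F := ⟨-J, J, by rw [Matrix.neg_mul, hJ2, neg_neg], by rw [Matrix.mul_neg, hJ2, neg_neg]⟩
  refine ⟨Ju * P, ?_⟩
  show ((Ju * P : GL (Fin m ⊕ Fin m) F) : Matrix (Fin m ⊕ Fin m) (Fin m ⊕ Fin m) F) * M = _ * _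
  rw [SymplecticGroup.coe_inv, Units.val_mul, Matrix.mul_assoc, hP]
  show (-J) * (M.transpose * (P : Matrix (Fin m ⊕ Fin m) (Fin m ⊕ Fin m) F)) = (-J) * M.transpose * J * ((-J) * (P : Matrix (Fin m ⊕ Fin m) (Fin m ⊕ Fin m) F))
  rw [show (-J) * M.transpose * J * ((-J) * (P : Matrix (Fin m ⊕ Fin m) (Fin m ⊕ Fin m) F)) =
    (-J) * M.transpose * (J * (-J)) * (P : Matrix (Fin m ⊕ Fin m) (Fin m ⊕ Fin m) F) by simp only [Matrix.mul_assoc],
    Matrix.mul_neg J J, hJ2, neg_neg, Matrix.mul_one, Matrix.mul_assoc]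

end Cfsg.Agent.S2586
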