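import Cfsg.Statements.S2587
import Cfsg.Agent.Lib.Classical.Unitary

set_option autoImplicit false
open Cfsg

namespace Cfsg.Agent.S2587

open Matrix Polynomial in
/-- A binary quadratic form of unit discriminant represents everything over a finite field. -/
theorem field_rep {k : Type*} [Field k] [Finite k] {n c : k} (hn : 1 - 4 * n ≠ 0) :
    ∃ u v : k, u * u + u * v + n * (v * v) = c := by
  cases nonempty_fintype k
  by_cases h2 : ringChar k = 2
  · obtain ⟨u, hu⟩ := FiniteField.isSquare_of_char_two h2 c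
    exact ⟨u, 0, by rw [hu]; ring⟩
  · have hodd : Fintype.card k % 2 = 1 := FiniteField.odd_card_of_char_ne_two h2
    have he : (4 * n - 1 : k) ≠ 0 := fun e => hn (by linear_combination -e)
    have h20 : (2 : k) ≠ 0 := Ring.two_ne_zero h2
    obtain ⟨a, v, hav⟩ := FiniteField.exists_root_sum_quadratic
      (f := (X ^ 2 - Polynomial.C (4 * c) : k[X])) (g := Polynomial.C (4 * n - 1) * X ^ 2)
      (degree_X_pow_sub_C (by decide) _) (by rw [degree_C_mul_X_pow 2 he]; rfl) hodd
    simp at hav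
    refine ⟨(a - v) / 2, v, ?_⟩
    field_simp
    linear_combination hav

section Rings

variable {R : Type*} [CommRing R]

/-- The form is multiplicative. -/
theorem form_mul (n u v u' v' : R) :
    (u * u + u * v + n * (v * v)) * (u' * u' + u' * v' + n * (v' * v')) =
      (u * u' - n * (v * v')) * (u * u' - n * (v * v')) +
        (u * u' - n * (v * v')) * (u * v' + v * u' + v * v') +
        n * ((u * v' + v * u' + v * v') * (u * v' + v * u' + v * v')) := by
  ring

/-- Unipotent units are represented. -/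
theorem unipotent_rep (n : R) : ∀ m : ℕ, ∀ a : R, a ^ m = 0 →
    ∃ u v : R, u * u + u * v + n * (v * v) = 1 + a := by
  intro m
  induction m using Nat.strong_induction_on with
  | _ m ih =>
    intro a ha
    by_cases hm : m ≤ 1
    · have : a = 0 := by
        rcases Nat.le_one_iff_eq_zero_or_eq_one.1 hm with rfl | rfl
        · rw [pow_zero] at ha; calc a = a * 1 := by ring
            _ = 0 := by rw [ha]; ring
        · simpa using ha
      exact ⟨1, 0, by rw [this]; ring⟩
    · have hnil : IsNilpotent (a + n * (a * a)) := ⟨m, by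
        rw [show a + n * (a * a) = a * (1 + n * a) by ring, mul_pow, ha, zero_mul]⟩
      obtain ⟨w, hw⟩ := hnil.isUnit_one_add
      obtain ⟨u, v, huv⟩ := ih ((m + 1) / 2) (by omega) (-(n * (a * a)) * ↑w⁻¹) (by
        rw [mul_pow, neg_pow, mul_pow, ← sq, ← pow_mul]
        rw [pow_eq_zero_of_le (show m ≤ 2 * ((m + 1) / 2) by omega) ha]; ring)
      refine ⟨1 * u - n * (a * v), 1 * v + a * u + a * v, ?_⟩
      rw [← form_mul, huv]
      have hw' : (1 : R) * 1 + 1 * a + n * (a * a) = ↑w := by rw [hw]; ring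
      rw [hw', mul_add, mul_one, mul_left_comm, Units.mul_inv, hw]
      ring

/-- Units of a finite commutative ring are represented by a form of unit discriminant. -/
theorem ring_rep [Finite R] {n : R} (hn : IsUnit (1 - 4 * n)) {c : R} (hc : IsUnit c) :
    ∃ u v : R, u * u + u * v + n * (v * v) = c := by
  have hk : ∀ I : MaximalSpectrum R, ∃ u v : R ⧸ I.asIdeal,
      u * u + u * v + Ideal.Quotient.mk _ n * (v * v) = Ideal.Quotient.mk _ c := by
    intro I
    haveI := I.isMaximal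
    haveI : Finite (R ⧸ I.asIdeal) := Finite.of_surjective _ Ideal.Quotient.mk_surjective
    letI := Ideal.Quotient.field I.asIdeal
    refine field_rep ?_
    have := (hn.map (Ideal.Quotient.mk I.asIdeal)).ne_zero
    simpa [map_ofNat (Ideal.Quotient.mk I.asIdeal)] using this
  choose U V hUV using hk
  have hlift : ∀ W : (∀ I : MaximalSpectrum R, R ⧸ I.asIdeal),
      ∃ r : R, ∀ I : MaximalSpectrum R, Ideal.Quotient.mk I.asIdeal r = W I := by
    intro W
    obtain ⟨r, hr⟩ := Ideal.Quotient.mk_surjective ((IsArtinianRing.quotNilradicalEquivPi R).symm W)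
    refine ⟨r, fun I => ?_⟩
    have := congrFun ((IsArtinianRing.quotNilradicalEquivPi R).apply_symm_apply W) I
    rw [← hr] at this
    exact this
  obtain ⟨u, hu⟩ := hlift U
  obtain ⟨v, hv⟩ := hlift V
  set a := c * 0 + ((u * u + u * v + n * (v * v)) - c) with hadef
  have ha : IsNilpotent a := by
    rw [← mem_nilradical, IsArtinianRing.nilradical_eq_iInf, Ideal.mem_iInf]
    intro I
    rw [← Ideal.Quotient.eq_zero_iff_mem, hadef]
    simp only [map_add, map_sub, map_mul, map_zero, mul_zero, zero_add, hu, hv, hUV I, sub_self]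
  obtain ⟨ci, hci⟩ := hc
  have ha' : IsNilpotent (↑ci⁻¹ * a) := Commute.isNilpotent_mul_left (Commute.all _ _) ha
  obtain ⟨t, ht⟩ := ha'.isUnit_one_add
  have hA : IsNilpotent ((↑t⁻¹ : R) * (-(↑ci⁻¹ * a))) :=
    Commute.isNilpotent_mul_left (Commute.all _ _) ha'.neg
  obtain ⟨m, hm⟩ := hA
  obtain ⟨u', v', h'⟩ := unipotent_rep n m _ hm
  refine ⟨u * u' - n * (v * v'), u * v' + v * u' + v * v', ?_⟩
  rw [← form_mul, h']
  have e1 : u * u + u * v + n * (v * v) = ↑ci * ↑t := by
    rw [ht, mul_add, mul_one, Units.mul_inv_cancel_left, hci, hadef]; ring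
  have e2 : (↑t : R) * (1 + ↑t⁻¹ * (-(↑ci⁻¹ * a))) = 1 := by
    rw [mul_add, mul_one, Units.mul_inv_cancel_left, ht]; ring
  rw [e1, mul_assoc, e2, mul_one, hci]

end Rings

section Adj

variable {K : Type*} [Field K] {n : ℕ} (σ : K →+* K)

/-- Conjugate transpose with respect to a field endomorphism. -/
def adj (X : Matrix (Fin n) (Fin n) K) : Matrix (Fin n) (Fin n) K :=
  Matrix.transpose (Matrix.map X σ)

theorem adj_apply (X : Matrix (Fin n) (Fin n) K) (i j : Fin n) : adj σ X i j = σ (X j i) := rfl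

theorem adj_mul (X Y : Matrix (Fin n) (Fin n) K) : adj σ (X * Y) = adj σ Y * adj σ X := by
  rw [adj, Matrix.map_mul, Matrix.transpose_mul]; rfl

theorem adj_add (X Y : Matrix (Fin n) (Fin n) K) : adj σ (X + Y) = adj σ X + adj σ Y := by
  ext i j; simp [adj_apply]

theorem adj_smul (a : K) (X : Matrix (Fin n) (Fin n) K) : adj σ (a • X) = σ a • adj σ X := by
  ext i j; simp [adj_apply]

theorem adj_neg (X : Matrix (Fin n) (Fin n) K) : adj σ (-X) = -adj σ X := by
  ext i j; simp [adj_apply]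

theorem adj_zero : adj σ (0 : Matrix (Fin n) (Fin n) K) = 0 := by
  ext i j; simp [adj_apply]

theorem adj_one : adj σ (1 : Matrix (Fin n) (Fin n) K) = 1 := by
  ext i j; simp [adj_apply, Matrix.one_apply, eq_comm, apply_ite σ]

theorem adj_adj (h : ∀ a, σ (σ a) = a) (X : Matrix (Fin n) (Fin n) K) : adj σ (adj σ X) = X := by
  ext i j; simp [adj_apply, h]

end Adj

/-- Conjugacy in the finite general unitary group is controlled by the general linear group: two elements of GU_n(q) (the invertible matrices over the field with q² elements preserving the Hermitian form Σ u_i v_i^q) are conjugate in GU_n(q) if and only if they are conjugate in GL_n(q²). -/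
theorem result {K : Type*} [Field K] [Fintype K] {q n : ℕ} (hK : Fintype.card K = q ^ 2) (A B : ↥(Cfsg.GU n K q)) : IsConj A B ↔ IsConj (A : GL (Fin n) K) (B : GL (Fin n) K) := by
  classical
  refine ⟨fun h => MonoidHom.map_isConj (Cfsg.GU n K q).subtype h, fun h => ?_⟩
  obtain ⟨σ, hσ, hσ1, hσ2⟩ := Classical.Unitary.exists_frob hK
  have st_mul := adj_mul (n := n) σ
  have st_add := adj_add (n := n) σ
  have st_smul := adj_smul (n := n) σ
  have st_one := adj_one (n := n) σ
  have st_neg := adj_neg (n := n) σ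
  have st_st := adj_adj (n := n) σ hσ2
  have mem : ∀ g : GL (Fin n) K, g ∈ Cfsg.GU n K q ↔ (adj σ) (g : Matrix (Fin n) (Fin n) K) * (g : Matrix (Fin n) (Fin n) K) = 1 := by
    intro g
    rw [Classical.Unitary.mem_GU_iff hK, ← Matrix.ext_iff]
    have key : ∀ i j, ((adj σ) (g : Matrix (Fin n) (Fin n) K) * (g : Matrix (Fin n) (Fin n) K)) i j =
        Cfsg.hermForm n K q (fun k => (g : Matrix (Fin n) (Fin n) K) k j) (fun k => (g : Matrix (Fin n) (Fin n) K) k i) := by
      intro i j
      simp only [Matrix.mul_apply, adj_apply, Cfsg.hermForm, hσ]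
      exact Finset.sum_congr rfl fun k _ => mul_comm _ _
    constructor
    · intro h i j
      rw [key, h j i, Matrix.one_apply]
      simp only [eq_comm]
    · intro h i j
      rw [← key, h j i, Matrix.one_apply]
      simp only [eq_comm]
  obtain ⟨⟨g, hg⟩, ⟨k, hk⟩⟩ := A, B
  obtain ⟨x, hx⟩ := isConj_iff.1 h
  simp only at hx
  set s : Matrix (Fin n) (Fin n) K := (adj σ) (x : Matrix (Fin n) (Fin n) K) * (x : Matrix (Fin n) (Fin n) K) with hs
  have hsherm : (adj σ) s = s := by rw [hs, st_mul, st_st]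
  have hgk : (x : Matrix (Fin n) (Fin n) K) * (g : Matrix (Fin n) (Fin n) K) = (k : Matrix (Fin n) (Fin n) K) * (x : Matrix (Fin n) (Fin n) K) := by
    rw [← hx, Units.val_mul, Units.val_mul, Units.inv_mul_cancel_right]
  have hgs : Commute s (g : Matrix (Fin n) (Fin n) K) := by
    have h2 : (adj σ) (g : Matrix (Fin n) (Fin n) K) * s * (g : Matrix (Fin n) (Fin n) K) = s := by
      calc (adj σ) (g : Matrix (Fin n) (Fin n) K) * s * (g : Matrix (Fin n) (Fin n) K) = (adj σ) (g : Matrix (Fin n) (Fin n) K) * (adj σ) (x : Matrix (Fin n) (Fin n) K) * ((x : Matrix (Fin n) (Fin n) K) * (g : Matrix (Fin n) (Fin n) K)) := by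
            rw [hs]; simp only [mul_assoc]
        _ = (adj σ) ((x : Matrix (Fin n) (Fin n) K) * (g : Matrix (Fin n) (Fin n) K)) * ((x : Matrix (Fin n) (Fin n) K) * (g : Matrix (Fin n) (Fin n) K)) := by rw [st_mul]
        _ = (adj σ) (x : Matrix (Fin n) (Fin n) K) * ((adj σ) (k : Matrix (Fin n) (Fin n) K) * (k : Matrix (Fin n) (Fin n) K)) * (x : Matrix (Fin n) (Fin n) K) := by
            rw [hgk, st_mul]; simp only [mul_assoc]
        _ = s := by rw [(mem k).1 hk, mul_one, hs]
    have h3 : (g : Matrix (Fin n) (Fin n) K) * (adj σ) (g : Matrix (Fin n) (Fin n) K) = 1 := mul_eq_one_comm.1 ((mem g).1 hg)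
    show s * (g : Matrix (Fin n) (Fin n) K) = (g : Matrix (Fin n) (Fin n) K) * s
    calc s * (g : Matrix (Fin n) (Fin n) K) = ((g : Matrix (Fin n) (Fin n) K) * (adj σ) (g : Matrix (Fin n) (Fin n) K)) * s * (g : Matrix (Fin n) (Fin n) K) := by rw [h3, one_mul]
      _ = (g : Matrix (Fin n) (Fin n) K) * ((adj σ) (g : Matrix (Fin n) (Fin n) K) * s * (g : Matrix (Fin n) (Fin n) K)) := by simp only [mul_assoc]
      _ = _ := by rw [h2]
  -- trace one element
  obtain ⟨θ, hθ1, hθ2⟩ : ∃ θ : K, θ + σ θ = 1 ∧ σ θ ≠ θ := by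
    obtain ⟨t, ht⟩ : ∃ t, σ t ≠ t := by
      by_contra hc; push Not at hc; exact hσ1 (RingHom.ext hc)
    by_cases hT : t + σ t = 0
    · have h20 : (2 : K) ≠ 0 := fun e => ht (by linear_combination hT - t * e)
      refine ⟨1 / 2 + t, ?_, ?_⟩
      · rw [map_add, map_div₀, map_one, map_ofNat]; field_simp; linear_combination 2 * hT
      · rw [map_add, map_div₀, map_one, map_ofNat]; simpa using ht
    · refine ⟨t / (t + σ t), ?_, ?_⟩
      · rw [map_div₀, map_add, hσ2, add_comm (σ t) t, ← add_div, div_self hT]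
      · rw [map_div₀, map_add, hσ2, add_comm (σ t) t]
        exact fun e => ht ((div_left_inj' hT).1 e)
  have hsum : σ θ + θ = 1 := by rw [add_comm]; exact hθ1
  set ν : K := θ * σ θ with hν
  have hνfix : σ ν = ν := by rw [hν, map_mul, hσ2, mul_comm]
  let S : Set (Matrix (Fin n) (Fin n) K) := {s} ∪ {X | ∃ a : K, σ a = a ∧ X = a • (1 : Matrix (Fin n) (Fin n) K)}
  have hcomm : ∀ a ∈ S, ∀ b ∈ S, a * b = b * a := by
    rintro a (rfl | ⟨α, -, rfl⟩) b (rfl | ⟨β, -, rfl⟩) <;> simp
    rw [smul_comm]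
  have hC : ∀ X ∈ Subring.closure S, (adj σ) X = X ∧ Commute X (g : Matrix (Fin n) (Fin n) K) := by
    intro X hX
    induction hX using Subring.closure_induction with
    | mem X hX =>
      rcases hX with rfl | ⟨a, ha, rfl⟩
      · exact ⟨hsherm, hgs⟩
      · exact ⟨by rw [st_smul, st_one, ha], (Commute.one_left _).smul_left a⟩
    | zero => exact ⟨adj_zero σ, Commute.zero_left _⟩
    | one => exact ⟨st_one, Commute.one_left _⟩
    | add X Y _ _ hX hY => exact ⟨by rw [st_add, hX.1, hY.1], hX.2.add_left hY.2⟩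
    | neg X _ hX => exact ⟨by rw [st_neg, hX.1], hX.2.neg_left⟩
    | mul X Y hX' hY' hX hY =>
      letI := Subring.closureCommRingOfComm hcomm
      refine ⟨?_, hX.2.mul_left hY.2⟩
      rw [st_mul, hX.1, hY.1]
      exact congrArg Subtype.val (mul_comm (⟨Y, hY'⟩ : Subring.closure S) ⟨X, hX'⟩)
  letI := Subring.closureCommRingOfComm hcomm
  have hscal : ∀ a : K, σ a = a → a • (1 : Matrix (Fin n) (Fin n) K) ∈ Subring.closure S :=
    fun a ha => Subring.subset_closure (Or.inr ⟨a, ha, rfl⟩)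
  have hd0 : (1 - 4 * ν : K) ≠ 0 := by
    rw [show (1 - 4 * ν : K) = (θ - σ θ) ^ 2 by
      rw [hν]; linear_combination -(θ + σ θ + 1) * hθ1]
    exact pow_ne_zero 2 (sub_ne_zero.2 (Ne.symm hθ2))
  have hdfix : σ ((1 - 4 * ν)⁻¹) = (1 - 4 * ν)⁻¹ := by
    rw [map_inv₀, map_sub, map_one, map_mul, hνfix, map_ofNat]
  let N : Subring.closure S := ⟨ν • (1 : Matrix (Fin n) (Fin n) K), hscal ν hνfix⟩
  have hN : IsUnit (1 - 4 * N) := by
    refine isUnit_iff_exists_inv.2 ⟨⟨_, hscal _ hdfix⟩, Subtype.ext ?_⟩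
    show (1 - 4 * (ν • (1 : Matrix (Fin n) (Fin n) K))) * ((1 - 4 * ν)⁻¹ • (1 : Matrix (Fin n) (Fin n) K)) = 1
    rw [show (1 - 4 * (ν • (1 : Matrix (Fin n) (Fin n) K))) = (1 - 4 * ν) • (1 : Matrix (Fin n) (Fin n) K) by
      simp only [← Algebra.algebraMap_eq_smul_one, map_sub, map_mul, map_one, map_ofNat]]
    rw [smul_mul_smul_comm, mul_inv_cancel₀ hd0, one_mul, one_smul]
  have hsu : IsUnit s := by
    have h1 : IsUnit ((adj σ) (x : Matrix (Fin n) (Fin n) K)) := by
      refine isUnit_iff_exists_inv.2 ⟨(adj σ) ((x⁻¹ : GL (Fin n) K) : Matrix (Fin n) (Fin n) K), ?_⟩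
      rw [← st_mul, ← Units.val_mul, inv_mul_cancel, Units.val_one, st_one]
    exact h1.mul x.isUnit
  let c : Subring.closure S := ⟨s, Subring.subset_closure (Or.inl rfl)⟩
  have hc : IsUnit c := by
    obtain ⟨w, hw⟩ := hsu
    have ho := orderOf_pos w
    refine isUnit_iff_exists_inv.2 ⟨c ^ (orderOf w - 1), Subtype.ext ?_⟩
    show s * s ^ (orderOf w - 1) = 1
    rw [← pow_succ', Nat.sub_add_cancel ho, ← hw, ← Units.val_pow_eq_pow_val, pow_orderOf_eq_one,
      Units.val_one]
  obtain ⟨⟨u, hu⟩, ⟨v, hv⟩, huv⟩ := ring_rep hN hc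
  have huv' : u * u + u * v + (ν • (1 : Matrix (Fin n) (Fin n) K)) * (v * v) = s := congrArg Subtype.val huv
  have hvu : v * u = u * v :=
    congrArg Subtype.val (mul_comm (⟨v, hv⟩ : Subring.closure S) ⟨u, hu⟩)
  set T : Matrix (Fin n) (Fin n) K := u + θ • v with hT
  have hTT : (adj σ) T * T = s := by
    rw [hT, st_add, st_smul, (hC u hu).1, (hC v hv).1, ← huv']
    simp only [add_mul, mul_add, mul_smul_comm, smul_mul_assoc, one_mul, hvu, smul_smul, smul_add]
    rw [show θ * σ θ = ν from hν.symm]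
    rw [add_assoc (u * u), ← add_assoc (σ θ • (u * v)), ← add_smul, hsum, one_smul, ← add_assoc]
  have hTg : Commute T (g : Matrix (Fin n) (Fin n) K) := by
    rw [hT]; exact (hC u hu).2.add_left ((hC v hv).2.smul_left θ)
  have hTu : IsUnit T := by
    rw [Matrix.isUnit_iff_isUnit_det] at hsu ⊢
    rw [← hTT, Matrix.det_mul] at hsu
    exact (IsUnit.mul_iff.1 hsu).2
  obtain ⟨Tu, hTu'⟩ := hTu
  set y : GL (Fin n) K := x * Tu⁻¹ with hy
  have hymem : y ∈ Cfsg.GU n K q := by
    rw [mem, hy, Units.val_mul, st_mul]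
    calc (adj σ) ((Tu⁻¹ : GL (Fin n) K) : Matrix (Fin n) (Fin n) K) * (adj σ) (x : Matrix (Fin n) (Fin n) K) * ((x : Matrix (Fin n) (Fin n) K) * ((Tu⁻¹ : GL (Fin n) K) : Matrix (Fin n) (Fin n) K))
        = (adj σ) ((Tu⁻¹ : GL (Fin n) K) : Matrix (Fin n) (Fin n) K) * s * ((Tu⁻¹ : GL (Fin n) K) : Matrix (Fin n) (Fin n) K) := by
          rw [hs]; simp only [mul_assoc]
      _ = (adj σ) ((Tu : Matrix (Fin n) (Fin n) K) * ((Tu⁻¹ : GL (Fin n) K) : Matrix (Fin n) (Fin n) K)) *
            ((Tu : Matrix (Fin n) (Fin n) K) * ((Tu⁻¹ : GL (Fin n) K) : Matrix (Fin n) (Fin n) K)) := by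
          rw [← hTT, ← hTu', st_mul]; simp only [mul_assoc]
      _ = 1 := by rw [← Units.val_mul, mul_inv_cancel, Units.val_one, st_one, one_mul]
  refine isConj_iff.2 ⟨⟨y, hymem⟩, Subtype.ext ?_⟩
  show y * g * y⁻¹ = k
  have hc' : Commute Tu g := Units.ext (by rw [Units.val_mul, Units.val_mul, hTu']; exact hTg)
  rw [hy, ← hx, mul_inv_rev, inv_inv, mul_assoc x, hc'.inv_left.eq]
  simp [mul_assoc]

end Cfsg.Agent.S2587
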