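import Cfsg.Statements.S2594
import Cfsg.Agent.Lib.Classical.SympTransvection

set_option autoImplicit false
open Cfsg

open Cfsg.Agent.Classical

namespace Cfsg.Agent.S2594

/-- Over a finite field with q elements, q even, an element t of Sp_2m(F) with rank(t − 1) = 1 (a symplectic transvection) has centraliser in Sp_2m(F) of order q^(2m−1) · |Sp_(2m−2)(q)| = q^(2m−1) · q^((m−1)²) · Π_(i=1)^(m−1) (q^(2i) − 1). -/
theorem result {F : Type*} [Field F] [Fintype F] [CharP F 2] {q : ℕ} (hF : Fintype.card F = q) {m : ℕ} (hm : 1 ≤ m) (t : Matrix.symplecticGroup (Fin m) F) (ht : ((t : Matrix (Fin m ⊕ Fin m) (Fin m ⊕ Fin m) F) - 1).rank = 1) : Nat.card ↥(Subgroup.centralizer ({t} : Set ↥(Matrix.symplecticGroup (Fin m) F))) = q ^ (2 * m - 1) * (q ^ ((m - 1) ^ 2) * ∏ i : Fin (m - 1), (q ^ (2 * ((i : ℕ) + 1)) - 1)) := by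
  classical
  set g := Sp.spEquiv m t with hg
  have hrank : Module.finrank F (LinearMap.range ((g : (Fin m ⊕ Fin m → F) ≃ₗ[F] _).toLinearMap - LinearMap.id)) = 1 := by
    have e : (g : (Fin m ⊕ Fin m → F) ≃ₗ[F] (Fin m ⊕ Fin m → F)).toLinearMap - LinearMap.id =
        Matrix.toLin' ((t : Matrix (Fin m ⊕ Fin m) (Fin m ⊕ Fin m) F) - 1) := by
      rw [map_sub, Matrix.toLin'_one]; rfl
    rw [e]
    simp only [Matrix.toLin'_apply']
    exact ht
  obtain ⟨v, c, hv, hc, hgT⟩ := Sp.exists_eq_T (Sp.sympB F m) (Sp.sympB_isAlt m) (Sp.sympB_nondeg m) g hrank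
  have hcent : Nat.card ↥(Subgroup.centralizer ({t} : Set ↥(Matrix.symplecticGroup (Fin m) F))) =
      Nat.card (Sp.vecStab (Sp.sympB F m) v) := by
    rw [← Sp.centralizer_T (Sp.sympB F m) (Sp.sympB_isAlt m) (Sp.sympB_nondeg m) hv hc, ← hgT, hg]
    refine Nat.card_congr (Equiv.subtypeEquiv (Sp.spEquiv m).toEquiv fun x => ?_)
    show x ∈ Subgroup.centralizer {t} ↔ (Sp.spEquiv m) x ∈ Subgroup.centralizer {(Sp.spEquiv m) t}
    rw [Subgroup.mem_centralizer_singleton_iff, Subgroup.mem_centralizer_singleton_iff, ← map_mul,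
      ← map_mul, (Sp.spEquiv m).injective.eq_iff]
  have h1 := Sp.card_vecStab_mul (Sp.sympB F m) (Sp.sympB_isAlt m) (Sp.sympB_nondeg m) hv
  rw [Sp.card_eq m (Sp.sympB F m) (Sp.sympB_isAlt m) (Sp.sympB_nondeg m) (Sp.finrank_space m), ← hcent] at h1
  have hVc : Nat.card (Fin m ⊕ Fin m → F) = q ^ (2 * m) := by
    simp [Nat.card_eq_fintype_card, two_mul, hF]
  rw [hVc, Nat.card_eq_fintype_card (α := F), hF] at h1
  obtain ⟨k, rfl⟩ : ∃ k, m = k + 1 := ⟨m - 1, by omega⟩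
  have hq : 1 < q := hF ▸ Fintype.one_lt_card
  have hpos : 0 < q ^ (2 * (k + 1)) - 1 := Nat.sub_pos_of_lt (Nat.one_lt_pow (by omega) hq)
  refine Nat.eq_of_mul_eq_mul_right hpos ?_
  rw [h1, Finset.prod_range_succ, Fin.prod_univ_eq_prod_range (fun i => q ^ (2 * (i + 1)) - 1)]
  simp only [Nat.add_sub_cancel]
  rw [show 2 * (k + 1) - 1 = 2 * k + 1 by omega, show (k + 1) ^ 2 = 2 * k + 1 + k ^ 2 by ring, pow_add]
  ring

end Cfsg.Agent.S2594
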