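import Cfsg.Statements.S2599
import Cfsg.Agent.Lib.Classical.CharTwoForms
import Cfsg.Agent.Lib.Classical.WittExt

set_option autoImplicit false
open Cfsg

open Cfsg.Agent.Classical
open Module QuadraticMap Matrix

namespace Cfsg.Agent.S2599

/-- An irreducible invariant subspace of a semisimple isometry is non-degenerate or totally singular: let Q be a quadratic form on F^n (F finite of characteristic p) with non-degenerate polar form f, x an isometry of Q of order prime to p, and U a non-zero x-invariant subspace containing no x-invariant subspace other than 0 and U. Then U meets its f-orthogonal trivially, or Q vanishes on U, or p = 2, U is a line spanned by a non-singular vector and x fixes U pointwise. -/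
theorem result {F : Type*} [Field F] [Fintype F] {p : ℕ} [Fact p.Prime] [CharP F p] {n : ℕ} (Q : QuadraticForm F (Fin n → F)) (hQ : (QuadraticMap.polarBilin Q).Nondegenerate) (x : ↥(Cfsg.isometryGroup F ⇑Q)) (hx : (orderOf x).Coprime p) (U : Submodule F (Fin n → F)) (hU0 : U ≠ ⊥) (hUx : ∀ u ∈ U, ((x : Matrix.GeneralLinearGroup (Fin n) F) : Matrix (Fin n) (Fin n) F).mulVec u ∈ U) (hirr : ∀ W : Submodule F (Fin n → F), W ≤ U → (∀ w ∈ W, ((x : Matrix.GeneralLinearGroup (Fin n) F) : Matrix (Fin n) (Fin n) F).mulVec w ∈ W) → W = ⊥ ∨ W = U) : U ⊓ LinearMap.BilinForm.orthogonal (QuadraticMap.polarBilin Q) U = ⊥ ∨ (∀ u ∈ U, Q u = 0) ∨ (p = 2 ∧ Module.finrank F U = 1 ∧ (∃ u ∈ U, Q u ≠ 0) ∧ ∀ u ∈ U, ((x : Matrix.GeneralLinearGroup (Fin n) F) : Matrix (Fin n) (Fin n) F).mulVec u = u) := by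
  classical
  set X : (Fin n → F) →ₗ[F] (Fin n → F) := (x.1.val).mulVecLin
  have hXQ : ∀ v, Q (X v) = Q v := fun v => x.2 v v
  have hXinj : Function.Injective X := Matrix.mulVec_injective_iff_isUnit.2 (Units.isUnit x.1)
  have hXU : ∀ u ∈ U, X u ∈ U := hUx
  have hXsurj : ∀ u ∈ U, ∃ u' ∈ U, X u' = u := by
    have hmap : U.map X = U := Submodule.eq_of_le_of_finrank_eq (fun y hy => by
      obtain ⟨u, hu, rfl⟩ := hy; exact hXU u hu) (Submodule.equivMapOfInjective X hXinj U).finrank_eq.symm
    exact fun u hu => by rw [← hmap] at hu; exact hu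
  have hinv : ∀ w ∈ U ⊓ LinearMap.BilinForm.orthogonal (polarBilin Q) U, X w ∈ U ⊓ LinearMap.BilinForm.orthogonal (polarBilin Q) U := by
    rintro w ⟨hw, hw'⟩
    refine ⟨hXU w hw, fun y hy => ?_⟩
    obtain ⟨y', hy', rfl⟩ := hXsurj y hy
    show polar Q (X y') (X w) = 0
    rw [WittExt.polar_map Q (fun a b => map_add X a b) hXQ]
    exact hw' y' hy'
  rcases hirr _ inf_le_left hinv with h | h
  · exact Or.inl h
  right
  have hpol : ∀ u ∈ U, ∀ w ∈ U, polar Q u w = 0 := fun u hu w hw => (Submodule.mem_inf.1 (show w ∈ U ⊓ LinearMap.BilinForm.orthogonal (polarBilin Q) U by rw [h]; exact hw)).2 u hu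
  by_cases h2 : (2 : F) ≠ 0
  · exact Or.inl fun u hu => (mul_eq_zero.1 ((WittExt.polar_self_eq Q u).symm.trans (hpol u hu u hu))).resolve_left h2
  push Not at h2
  have hp2 : p = 2 := ((Nat.prime_dvd_prime_iff_eq (Fact.out) Nat.prime_two).1 ((CharP.cast_eq_zero_iff F p 2).1 (by exact_mod_cast h2)))
  subst hp2
  obtain ⟨l, hl⟩ := Cfsg.Agent.Classical.CharTwo.exists_sqrt_linear (fun u : U => Q (u : Fin n → F)) (fun u v => by
    show Q ((u : Fin n → F) + v) = _
    rw [QuadraticMap.map_add (⇑Q), hpol _ u.2 _ v.2, add_zero]) (fun c v => by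
    show Q (c • (v : Fin n → F)) = _
    rw [QuadraticMap.map_smul, smul_eq_mul, pow_two])
  by_cases hzero : ∀ u ∈ U, Q u = 0
  · exact Or.inl hzero
  refine Or.inr ⟨rfl, ?_, by simpa only [not_forall, exists_prop] using hzero, ?_⟩
  all_goals
    have hker : LinearMap.ker l = ⊥ := by
      have hW : (LinearMap.ker l).map U.subtype ≤ U := Submodule.map_subtype_le _ _
      have hWi : ∀ w ∈ (LinearMap.ker l).map U.subtype, X w ∈ (LinearMap.ker l).map U.subtype := by
        rintro _ ⟨w, hw, rfl⟩
        refine ⟨⟨X w, hXU _ w.2⟩, ?_, rfl⟩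
        show l _ = 0
        refine Cfsg.Agent.Classical.CharTwo.sq_inj ?_
        rw [hl, show Q (X (w : Fin n → F)) = Q (w : Fin n → F) from hXQ _, ← hl, show l w = 0 from hw]
      rcases hirr _ hW hWi with e | e
      · exact Submodule.map_injective_of_injective U.injective_subtype (e.trans (Submodule.map_bot _).symm)
      · exfalso
        apply hzero
        intro u hu
        rw [← e] at hu
        obtain ⟨w, hw, rfl⟩ := hu
        show Q (w : Fin n → F) = 0
        rw [← hl, show l w = 0 from hw]; ring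
    have hinj : Function.Injective l := LinearMap.ker_eq_bot.1 hker
  · refine le_antisymm ((LinearMap.finrank_le_finrank_of_injective hinj).trans_eq (finrank_self F)) ?_
    rw [Nat.one_le_iff_ne_zero, ne_eq, Submodule.finrank_eq_zero]
    exact hU0
  · intro u hu
    have : (⟨X u, hXU u hu⟩ : U) = ⟨u, hu⟩ := hinj (Cfsg.Agent.Classical.CharTwo.sq_inj (by rw [hl, hl]; exact hXQ u))
    exact congrArg Subtype.val this

end Cfsg.Agent.S2599
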