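import Cfsg.Statements.S2612
import Cfsg.Agent.Lib.Classical.OrthSum

set_option autoImplicit false
open Cfsg

open Cfsg.Agent.Classical
open Module QuadraticMap Matrix

namespace Cfsg.Agent.S2612

/-- For the hyperbolic quadratic form Σ x_i y_i on F^(2m) (F finite, m ≥ 1, excluding m = 2 over the field of two elements), Ω⁺_2m(F) (the commutator subgroup of the orthogonal group) contains an element interchanging the two complementary maximal totally singular subspaces {y = 0} and {x = 0} if and only if m is even (dimension divisible by 4). -/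
theorem result {F : Type*} [Field F] [Fintype F] {m : ℕ} (hm : 1 ≤ m) (h : Fintype.card F ≠ 2 ∨ m ≠ 2) : (∃ g : ↥(Cfsg.isometryGroup F (Cfsg.quadFormPlus m F)), g ∈ Cfsg.Omega F (Cfsg.quadFormPlus m F) ∧ (∀ v : Fin m ⊕ Fin m → F, (∀ i, v (Sum.inr i) = 0) → ∀ i, (((g : Matrix.GeneralLinearGroup (Fin m ⊕ Fin m) F) : Matrix (Fin m ⊕ Fin m) (Fin m ⊕ Fin m) F).mulVec v) (Sum.inl i) = 0) ∧ (∀ v : Fin m ⊕ Fin m → F, (∀ i, v (Sum.inl i) = 0) → ∀ i, (((g : Matrix.GeneralLinearGroup (Fin m ⊕ Fin m) F) : Matrix (Fin m ⊕ Fin m) (Fin m ⊕ Fin m) F).mulVec v) (Sum.inr i) = 0)) ↔ Even m := by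
  classical
  set Q := PlusMax.QP (F := F) (m := m) with hQdef
  have hpolQ : ∀ u v, polar Q u v = ∑ i, (u (.inl i) * v (.inr i) + v (.inl i) * u (.inr i)) := PlusMax.polar_QP
  have hQ := PlusMax.nondeg (F := F) (m := m)
  have hn : 2 ≤ Fintype.card (Fin m ⊕ Fin m) := by simp; omega
  have hex : Fintype.card F ≠ 2 ∨ Fintype.card (Fin m ⊕ Fin m) ≠ 4 := h.imp id (fun h => by simp; omega)
  let w : Fin m → Fin m ⊕ Fin m → F := fun i => Pi.single (Sum.inl i) 1 - Pi.single (Sum.inr i) 1
  have hQw : ∀ i, Q (w i) = -1 := fun i => by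
    simp [Q, w, PlusMax.QP_apply, Cfsg.quadFormPlus, Pi.single_apply]
  let f : Fin m → {v : Fin m ⊕ Fin m → F // Q v ≠ 0} := fun i => ⟨w i, by rw [hQw]; exact neg_ne_zero.2 one_ne_zero⟩
  set S := Disc.reflList Q ((Finset.univ : Finset (Fin m)).toList.map f) with hS
  have key : ∀ L : List (Fin m), L.Nodup → ∀ (y : Fin m ⊕ Fin m → F) (j : Fin m),
      Refl.act Q (Disc.reflList Q (L.map f)) y (Sum.inl j) = (if j ∈ L then y (Sum.inr j) else y (Sum.inl j)) ∧
      Refl.act Q (Disc.reflList Q (L.map f)) y (Sum.inr j) = (if j ∈ L then y (Sum.inl j) else y (Sum.inr j)) := by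
    intro L
    induction L with
    | nil => intro _ y j; simp [Disc.reflList, Refl.act_one]
    | cons i L ih =>
      intro hnd y j
      obtain ⟨hi, hnd'⟩ := List.nodup_cons.1 hnd
      have hp : Refl.act Q (Disc.reflList Q ((i :: L).map f)) y =
          Refl.act Q (Disc.reflList Q (L.map f)) y - ((Q (w i))⁻¹ * polar Q (w i) (Refl.act Q (Disc.reflList Q (L.map f)) y)) • w i := by
        show Refl.act Q (Refl.refl Q (w i) _ * _) y = _
        rw [Refl.act_mul, Refl.act_refl]
      obtain ⟨h1, h2⟩ := ih hnd' y i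
      rw [if_neg hi] at h1 h2
      obtain ⟨h3, h4⟩ := ih hnd' y j
      have hc : (Q (w i))⁻¹ * polar Q (w i) (Refl.act Q (Disc.reflList Q (L.map f)) y) = y (Sum.inl i) - y (Sum.inr i) := by
        rw [hQw, hpolQ]
        simp [w, Pi.single_apply, Finset.sum_add_distrib, Finset.sum_neg_distrib]
        rw [h1, h2]; ring
      rw [hp, hc]
      by_cases hji : j = i
      · subst hji
        simp [w, h3, h4, hi]
      · simp [w, h3, h4, hji]
  have hSl : ∀ y j, Refl.act Q S y (Sum.inl j) = y (Sum.inr j) := fun y j => by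
    rw [(key _ (Finset.nodup_toList _) y j).1, if_pos (Finset.mem_toList.2 (Finset.mem_univ j))]
  have hSr : ∀ y j, Refl.act Q S y (Sum.inr j) = y (Sum.inl j) := fun y j => by
    rw [(key _ (Finset.nodup_toList _) y j).2, if_pos (Finset.mem_toList.2 (Finset.mem_univ j))]
  constructor
  · rintro ⟨g₀, hg, hl, hr⟩
    obtain ⟨g, rfl⟩ : ∃ g : Refl.O Q, g = g₀ := ⟨g₀, rfl⟩
    change g ∈ commutator (Refl.O Q) at hg
    by_contra hodd
    rw [Nat.not_even_iff_odd] at hodd
    set G := ((g : GL (Fin m ⊕ Fin m) F) : Matrix (Fin m ⊕ Fin m) (Fin m ⊕ Fin m) F) with hG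
    -- `S * g` preserves both subspaces
    have hC0 : ∀ i j, G (Sum.inl i) (Sum.inl j) = 0 := fun i j => by
      have := hl (Pi.single (Sum.inl j) 1) (fun i => by simp) i
      simpa [G, mulVec_single] using this
    have hB0 : ∀ i j, G (Sum.inr i) (Sum.inr j) = 0 := fun i j => by
      have := hr (Pi.single (Sum.inr j) 1) (fun i => by simp) i
      simpa [G, mulVec_single] using this
    set B := G.toBlocks₁₂
    set C := G.toBlocks₂₁
    have hGb : G = fromBlocks 0 B C 0 := by
      rw [← fromBlocks_toBlocks G, show G.toBlocks₁₁ = 0 from Matrix.ext hC0, show G.toBlocks₂₂ = 0 from Matrix.ext hB0]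
    have hval : ∀ x y : Fin m → F, (B *ᵥ y) ⬝ᵥ (C *ᵥ x) = x ⬝ᵥ y := fun x y => by
      have h1 := g.2 (Sum.elim x y) (Sum.elim x y)
      change Cfsg.quadFormPlus m F (G *ᵥ Sum.elim x y) = Cfsg.quadFormPlus m F (Sum.elim x y) at h1
      rw [hGb, fromBlocks_mulVec] at h1
      simp [Cfsg.quadFormPlus] at h1
      exact h1
    have hCB : Cᵀ * B = 1 := by
      refine Matrix.toLin'.injective (LinearMap.ext fun y => ?_)
      rw [Matrix.toLin'_apply, Matrix.toLin'_apply, one_mulVec]
      refine dotProduct_eq _ _ fun x => ?_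
      rw [← mulVec_mulVec, mulVec_transpose, ← dotProduct_mulVec, hval x y, dotProduct_comm]
    have hCd : C.det ≠ 0 := by
      have := congrArg Matrix.det hCB
      rw [det_mul, det_transpose, det_one] at this
      exact left_ne_zero_of_mul (this ▸ one_ne_zero)
    set A := Matrix.GeneralLinearGroup.mkOfDetNeZero C hCd
    have hlev : S * g = OrthSum.levi A := by
      refine Refl.act_ext Q fun y => ?_
      have hB' : B = (C⁻¹)ᵀ := by
        rw [transpose_nonsing_inv]; exact (inv_eq_right_inv hCB).symm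
      rw [Refl.act_mul]
      show Refl.act Q S (Refl.act Q g y) = ((OrthSum.levi A : GL (Fin m ⊕ Fin m) F) : Matrix _ _ F) *ᵥ y
      rw [OrthSum.levi_coe, show (A : Matrix (Fin m) (Fin m) F) = C from rfl, fromBlocks_mulVec]
      have hgy : Refl.act Q g y = Sum.elim (B *ᵥ (y ∘ Sum.inr)) (C *ᵥ (y ∘ Sum.inl)) := by
        show G *ᵥ y = _
        rw [hGb, fromBlocks_mulVec]; simp
      funext s
      rcases s with j | j
      · rw [hSl, hgy]; simp
      · rw [hSr, hgy, hB']; simp
    have e1 : Refl.dickson Q hQ hex (S * g) = 1 := by rw [hlev]; exact OrthSum.dsign_levi A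
    rw [map_mul, Refl.dickson_eq_one Q hQ hex hg, mul_one, hS, Refl.dickson_reflList', List.length_map,
      Finset.length_toList, Finset.card_univ, Fintype.card_fin, hodd.neg_one_pow] at e1
    exact absurd e1 (by decide)
  · intro hev
    refine ⟨S, ?_, fun v hv i => ?_, fun v hv i => ?_⟩
    · show S ∈ commutator (Refl.O Q)
      refine (Refl.reflList_mem_iff Q hQ hn hex _).2 ⟨by simpa using hev, ?_⟩
      rw [List.map_map, show ((fun v : {v : Fin m ⊕ Fin m → F // Q v ≠ 0} => Q v.1) ∘ f) = fun _ => (-1 : F) from funext hQw]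
      simp [hev.neg_one_pow]
    · exact (hSl v i).trans (hv i)
    · exact (hSr v i).trans (hv i)

end Cfsg.Agent.S2612
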