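import Cfsg.Statements.S2613
import Cfsg.Agent.Lib.Classical.OmegaTrans

set_option autoImplicit false
open Cfsg
open Cfsg.Agent.Classical Cfsg.Agent.OmegaTrans

namespace Cfsg.Agent.S2613

/-- For the hyperbolic form Σ x_j y_j on F^(2m), F finite with q elements, q odd, and 1 ≤ i ≤ m: the involution negating the first i hyperbolic pairs (x_j, y_j ↦ −x_j, −y_j for j < i) and fixing the rest lies in Ω⁺_2m(q) (commutator subgroup of the orthogonal group) if and only if q^i ≡ 1 (mod 4); its (−1)-eigenspace is a hyperbolic 2i-space. -/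
theorem result {F : Type*} [Field F] [Fintype F] {q : ℕ} (hF : Fintype.card F = q) (hq : Odd q) {m : ℕ} (i : ℕ) (hi : 1 ≤ i) (him : i ≤ m) : (∃ g : ↥(Cfsg.isometryGroup F (Cfsg.quadFormPlus m F)), g ∈ Cfsg.Omega F (Cfsg.quadFormPlus m F) ∧ ((g : Matrix.GeneralLinearGroup (Fin m ⊕ Fin m) F) : Matrix (Fin m ⊕ Fin m) (Fin m ⊕ Fin m) F) = Matrix.diagonal (fun k : Fin m ⊕ Fin m => if (Sum.elim (fun j : Fin m => (j : ℕ)) (fun j : Fin m => (j : ℕ)) k) < i then (-1 : F) else 1)) ↔ q ^ i % 4 = 1 := by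
  have h2 : (2 : F) ≠ 0 := Disc.two_ne_zero_of_odd (hF ▸ hq)
  refine Iff.trans (pairs_diag_mem_iff (PlusMax.QP (F := F) (m := m)) PlusMax.nondeg h2
    (by rw [Fintype.card_sum, Fintype.card_fin]; omega) (fun j => Sum.inl (Fin.castLE him j))
    (fun j => Sum.inr (Fin.castLE him j)) (fun j k => Sum.inl_ne_inr)
    (Sum.inl_injective.comp (Fin.castLE_injective him)) (Sum.inr_injective.comp (Fin.castLE_injective him))
    ?_ ?_ ?_ ?_ _ ?_ ?_) ?_
  · intro j; simp [PlusMax.QP_apply, Cfsg.quadFormPlus, Pi.single_apply]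
  · intro j; simp [PlusMax.QP_apply, Cfsg.quadFormPlus, Pi.single_apply]
  · intro j y; simp [PlusMax.polar_QP, Pi.single_apply]
  · intro j y; simp [PlusMax.polar_QP, Pi.single_apply]
  · intro j; simp
  · intro k hk
    rcases k with x | x <;> simp only [Sum.elim_inl, Sum.elim_inr] <;> refine if_neg fun hx => ?_
    · exact (hk ⟨x, hx⟩).1 rfl
    · exact (hk ⟨x, hx⟩).2 rfl
  rw [Disc.isSquare_neg_one_pow h2, ← (Disc.pow_mod_four (hF ▸ hq) i).1, hF]

end Cfsg.Agent.S2613
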