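import Cfsg.Statements.S2614
import Cfsg.Agent.Lib.Classical.OmegaTrans
import Cfsg.Agent.Lib.Classical.NotMaxOrth

set_option autoImplicit false
open Cfsg
open Cfsg.Agent.Classical Cfsg.Agent.OmegaTrans

namespace Cfsg.Agent.S2614

/-- For the form x_0² + Σ x_j y_j on F^(2m+1), F finite with q elements, q odd, and 1 ≤ i ≤ m: the involution of determinant one negating the first i hyperbolic pairs (and fixing x_0 and the other pairs) lies in Ω_(2m+1)(q) (commutator subgroup of the orthogonal group) if and only if q^i ≡ 1 (mod 4); its (−1)-eigenspace is a hyperbolic 2i-space. -/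
theorem result {F : Type*} [Field F] [Fintype F] {q : ℕ} (hF : Fintype.card F = q) (hq : Odd q) {m : ℕ} (i : ℕ) (hi : 1 ≤ i) (him : i ≤ m) : (∃ g : ↥(Cfsg.isometryGroup F (Cfsg.quadFormOdd m F)), g ∈ Cfsg.Omega F (Cfsg.quadFormOdd m F) ∧ ((g : Matrix.GeneralLinearGroup (Unit ⊕ (Fin m ⊕ Fin m)) F) : Matrix (Unit ⊕ (Fin m ⊕ Fin m)) (Unit ⊕ (Fin m ⊕ Fin m)) F) = Matrix.diagonal (fun k : Unit ⊕ (Fin m ⊕ Fin m) => if (Sum.elim (fun _ : Unit => i) (Sum.elim (fun j : Fin m => (j : ℕ)) (fun j : Fin m => (j : ℕ))) k) < i then (-1 : F) else 1)) ↔ q ^ i % 4 = 1 := by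
  have h2 : (2 : F) ≠ 0 := Disc.two_ne_zero_of_odd (hF ▸ hq)
  have hn : (QuadraticMap.polarBilin (NotMax.toQ (NotMax.quadFormOdd_nondeg (m := m) h2))).Nondegenerate :=
    NotMax.toQ_nondeg _
  refine Iff.trans (pairs_diag_mem_iff (NotMax.toQ (NotMax.quadFormOdd_nondeg (m := m) h2)) hn h2
    (by simp; omega) (fun j => Sum.inr (Sum.inl (Fin.castLE him j)))
    (fun j => Sum.inr (Sum.inr (Fin.castLE him j))) (fun j k => fun e => Sum.inl_ne_inr (Sum.inr.inj e))
    (Sum.inr_injective.comp (Sum.inl_injective.comp (Fin.castLE_injective him)))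
    (Sum.inr_injective.comp (Sum.inr_injective.comp (Fin.castLE_injective him)))
    ?_ ?_ ?_ ?_ _ ?_ ?_) ?_
  · intro j; simp [NotMax.toQ_coe, Cfsg.quadFormOdd, Pi.single_apply]
  · intro j; simp [NotMax.toQ_coe, Cfsg.quadFormOdd, Pi.single_apply]
  · intro j y
    simp [QuadraticMap.polar, NotMax.toQ_coe, Cfsg.quadFormOdd, Pi.single_apply, add_mul, mul_add,
      Finset.sum_add_distrib]
  · intro j y
    simp [QuadraticMap.polar, NotMax.toQ_coe, Cfsg.quadFormOdd, Pi.single_apply, add_mul, mul_add,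
      Finset.sum_add_distrib]
  · intro j; simp
  · intro k hk
    rcases k with u | x | x <;> simp only [Sum.elim_inl, Sum.elim_inr] <;> refine if_neg fun hx => ?_
    · omega
    · exact (hk ⟨x, hx⟩).1 rfl
    · exact (hk ⟨x, hx⟩).2 rfl
  rw [Disc.isSquare_neg_one_pow h2, ← (Disc.pow_mod_four (hF ▸ hq) i).1, hF]

end Cfsg.Agent.S2614
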