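import Cfsg.Statements.S2615
import Cfsg.Agent.Lib.Classical.OmegaTrans
import Cfsg.Agent.Lib.Classical.WittDecomp

set_option autoImplicit false
open Cfsg
open Cfsg.Agent.Classical Cfsg.Agent.OmegaTrans

namespace Cfsg.Agent.S2615

/-- For an elliptic form Σ_(j<m−1) x_j y_j + (z₁² + a z₁z₂ + b z₂²) (anisotropic binary part) on F^(2m), F finite with q elements, q odd, and 1 ≤ i ≤ m − 1: the involution negating the first i hyperbolic pairs and fixing the rest lies in Ω⁻_2m(q) (commutator subgroup of the orthogonal group) if and only if q^i ≡ 1 (mod 4). -/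
theorem result {F : Type*} [Field F] [Fintype F] {q : ℕ} (hF : Fintype.card F = q) (hq : Odd q) {m : ℕ} (a b : F) (hab : ∀ z₁ z₂ : F, z₁ ^ 2 + a * z₁ * z₂ + b * z₂ ^ 2 = 0 → z₁ = 0 ∧ z₂ = 0) (i : ℕ) (hi : 1 ≤ i) (him : i + 1 ≤ m) : (∃ g : ↥(Cfsg.isometryGroup F (Cfsg.quadFormMinus (m - 1) F a b)), g ∈ Cfsg.Omega F (Cfsg.quadFormMinus (m - 1) F a b) ∧ ((g : Matrix.GeneralLinearGroup ((Fin (m - 1) ⊕ Fin (m - 1)) ⊕ Fin 2) F) : Matrix ((Fin (m - 1) ⊕ Fin (m - 1)) ⊕ Fin 2) ((Fin (m - 1) ⊕ Fin (m - 1)) ⊕ Fin 2) F) = Matrix.diagonal (fun k : (Fin (m - 1) ⊕ Fin (m - 1)) ⊕ Fin 2 => if (Sum.elim (Sum.elim (fun j : Fin (m - 1) => (j : ℕ)) (fun j : Fin (m - 1) => (j : ℕ))) (fun _ : Fin 2 => i) k) < i then (-1 : F) else 1)) ↔ q ^ i % 4 = 1 := by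
  have h2 : (2 : F) ≠ 0 := Disc.two_ne_zero_of_odd (hF ▸ hq)
  have him' : i ≤ m - 1 := by omega
  have e : ⇑(WittDec.QM (F := F) (m - 1) a b) = Cfsg.quadFormMinus (m - 1) F a b := funext (WittDec.QM_apply _ a b)
  refine Iff.trans ?_ (Iff.trans (pairs_diag_mem_iff (WittDec.QM (F := F) (m - 1) a b)
    (WittDec.QM_nondeg _ a b hab) h2
    (by simp) (fun j => Sum.inl (Sum.inl (Fin.castLE him' j)))
    (fun j => Sum.inl (Sum.inr (Fin.castLE him' j))) (fun j k => fun e => Sum.inl_ne_inr (Sum.inl.inj e))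
    (Sum.inl_injective.comp (Sum.inl_injective.comp (Fin.castLE_injective him')))
    (Sum.inl_injective.comp (Sum.inr_injective.comp (Fin.castLE_injective him')))
    ?_ ?_ ?_ ?_
    (fun k : (Fin (m - 1) ⊕ Fin (m - 1)) ⊕ Fin 2 => if (Sum.elim (Sum.elim (fun j : Fin (m - 1) => (j : ℕ))
      (fun j : Fin (m - 1) => (j : ℕ))) (fun _ : Fin 2 => i) k) < i then (-1 : F) else 1) ?_ ?_) ?_)
  · have key : ∀ (f : ((Fin (m - 1) ⊕ Fin (m - 1)) ⊕ Fin 2 → F) → F), f = Cfsg.quadFormMinus (m - 1) F a b →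
        ∀ D : Matrix ((Fin (m - 1) ⊕ Fin (m - 1)) ⊕ Fin 2) ((Fin (m - 1) ⊕ Fin (m - 1)) ⊕ Fin 2) F,
        ((∃ g : ↥(Cfsg.isometryGroup F (Cfsg.quadFormMinus (m - 1) F a b)),
          g ∈ Cfsg.Omega F (Cfsg.quadFormMinus (m - 1) F a b) ∧
          ((g : Matrix.GeneralLinearGroup ((Fin (m - 1) ⊕ Fin (m - 1)) ⊕ Fin 2) F) : Matrix ((Fin (m - 1) ⊕ Fin (m - 1)) ⊕ Fin 2) ((Fin (m - 1) ⊕ Fin (m - 1)) ⊕ Fin 2) F) = D) ↔
        ∃ g : ↥(Cfsg.isometryGroup F f), g ∈ commutator ↥(Cfsg.isometryGroup F f) ∧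
          ((g : Matrix.GeneralLinearGroup ((Fin (m - 1) ⊕ Fin (m - 1)) ⊕ Fin 2) F) : Matrix ((Fin (m - 1) ⊕ Fin (m - 1)) ⊕ Fin 2) ((Fin (m - 1) ⊕ Fin (m - 1)) ⊕ Fin 2) F) = D) := by
      rintro f rfl D; exact Iff.rfl
    exact key _ e _
  · intro j; simp [WittDec.QM_apply, Cfsg.quadFormMinus, Pi.single_apply]
  · intro j; simp [WittDec.QM_apply, Cfsg.quadFormMinus, Pi.single_apply]
  · intro j y
    simp [QuadraticMap.polar, WittDec.QM_apply, Cfsg.quadFormMinus, Pi.single_apply, add_mul, mul_add,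
      Finset.sum_add_distrib]
  · intro j y
    simp [QuadraticMap.polar, WittDec.QM_apply, Cfsg.quadFormMinus, Pi.single_apply, add_mul, mul_add,
      Finset.sum_add_distrib]
  · intro j; simp
  · intro k hk
    rcases k with (x | x) | u <;> simp only [Sum.elim_inl, Sum.elim_inr] <;> refine if_neg fun hx => ?_
    · exact (hk ⟨x, hx⟩).1 rfl
    · exact (hk ⟨x, hx⟩).2 rfl
    · omega
  rw [Disc.isSquare_neg_one_pow h2, ← (Disc.pow_mod_four (hF ▸ hq) i).1, hF]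

end Cfsg.Agent.S2615
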