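import Cfsg.Statements.S2616
import Cfsg.Agent.Lib.Classical.WittDecomp

set_option autoImplicit false
open Cfsg

open Cfsg.Agent.Classical
open Module QuadraticMap

namespace Cfsg.Agent.S2616

/-- Standard bases of a non-degenerate quadratic space of even dimension 2m over a finite field: either there is a hyperbolic basis e_i, f_i (Q(e_i) = Q(f_i) = 0, B(e_i, f_j) = δ_ij, the e's pairwise orthogonal and the f's pairwise orthogonal, B the polar form), or there is an elliptic basis: hyperbolic pairs e_i, f_i for i < m − 1 together with x, y orthogonal to them with Q(x) = 1, B(x, y) = 1, Q(y) = ζ where t² + t + ζ has no root in the field. -/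
theorem result {F V : Type*} [Field F] [Finite F] [AddCommGroup V] [Module F V] [FiniteDimensional F V] {m : ℕ} (hm : 1 ≤ m) (hV : Module.finrank F V = 2 * m) (Q : QuadraticForm F V) (hQ : (QuadraticMap.polarBilin Q).Nondegenerate) : (∃ b : Module.Basis (Fin m ⊕ Fin m) F V, (∀ i, Q (b (Sum.inl i)) = 0 ∧ Q (b (Sum.inr i)) = 0) ∧ (∀ i j, QuadraticMap.polar ⇑Q (b (Sum.inl i)) (b (Sum.inr j)) = if i = j then 1 else 0) ∧ (∀ i j, QuadraticMap.polar ⇑Q (b (Sum.inl i)) (b (Sum.inl j)) = 0 ∧ QuadraticMap.polar ⇑Q (b (Sum.inr i)) (b (Sum.inr j)) = 0)) ∨ (∃ (b : Module.Basis ((Fin (m - 1) ⊕ Fin (m - 1)) ⊕ Fin 2) F V) (ζ : F), (∀ t : F, t ^ 2 + t + ζ ≠ 0) ∧ (∀ i, Q (b (Sum.inl (Sum.inl i))) = 0 ∧ Q (b (Sum.inl (Sum.inr i))) = 0) ∧ (∀ i j, QuadraticMap.polar ⇑Q (b (Sum.inl (Sum.inl i))) (b (Sum.inl (Sum.inr j))) = if i = j then 1 else 0) ∧ (∀ i j, QuadraticMap.polar ⇑Q (b (Sum.inl (Sum.inl i))) (b (Sum.inl (Sum.inl j))) = 0 ∧ QuadraticMap.polar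 ⇑Q (b (Sum.inl (Sum.inr i))) (b (Sum.inl (Sum.inr j))) = 0) ∧ (∀ i (k : Fin 2), QuadraticMap.polar ⇑Q (b (Sum.inl (Sum.inl i))) (b (Sum.inr k)) = 0 ∧ QuadraticMap.polar ⇑Q (b (Sum.inl (Sum.inr i))) (b (Sum.inr k)) = 0) ∧ Q (b (Sum.inr 0)) = 1 ∧ QuadraticMap.polar ⇑Q (b (Sum.inr 0)) (b (Sum.inr 1)) = 1 ∧ Q (b (Sum.inr 1)) = ζ) := by
  classical
  by_cases h : ∃ W : Submodule F V, finrank F W = m ∧ ∀ w ∈ W, Q w = 0
  · obtain ⟨φ, hφ⟩ := WittDec.exists_equiv_plus Q hQ hV h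
    refine Or.inl ⟨(Pi.basisFun F _).map φ, ?_, ?_, ?_⟩
    · intro i
      simp [hφ, Cfsg.quadFormPlus, Pi.single_apply]
    · intro i j
      have e : ∀ u v, polar Q (φ u) (φ v) = polar (PlusMax.QP (F := F) (m := m)) u v := fun u v => by
        simp only [polar, ← map_add, hφ, PlusMax.QP_apply]
      simp [e, PlusMax.polar_QP, Pi.single_apply, eq_comm]
    · intro i j
      have e : ∀ u v, polar Q (φ u) (φ v) = polar (PlusMax.QP (F := F) (m := m)) u v := fun u v => by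
        simp only [polar, ← map_add, hφ, PlusMax.QP_apply]
      simp [e, PlusMax.polar_QP, Pi.single_apply]
  · obtain ⟨-, ζ, hζ⟩ := WittDec.minus_irreducible Q hQ hV h
    have hab : ∀ z₁ z₂ : F, z₁ ^ 2 + 1 * z₁ * z₂ + ζ * z₂ ^ 2 = 0 → z₁ = 0 ∧ z₂ = 0 := by
      intro z₁ z₂ e
      by_cases hz : z₂ = 0
      · subst hz; exact ⟨by simpa using e, rfl⟩
      · exact absurd (by field_simp; linear_combination e) (hζ (z₁ / z₂))
    obtain ⟨φ, hφ⟩ := WittDec.exists_equiv_minus Q hQ hV h 1 ζ hab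
    have hp : ∀ u v, polar Q (φ u) (φ v) = Cfsg.quadFormMinus (m - 1) F 1 ζ (u + v) - Cfsg.quadFormMinus (m - 1) F 1 ζ u -
        Cfsg.quadFormMinus (m - 1) F 1 ζ v := fun u v => by simp only [polar, ← map_add, hφ]
    refine Or.inr ⟨(Pi.basisFun F _).map φ, ζ, hζ, ?_, ?_, ?_, ?_, ?_, ?_, ?_⟩
    · intro i
      simp [hφ, Cfsg.quadFormMinus, Pi.single_apply]
    · intro i j
      simp [hp, Cfsg.quadFormMinus, Pi.single_apply, add_mul, mul_add, Finset.sum_add_distrib, eq_comm]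
    · intro i j
      simp [hp, Cfsg.quadFormMinus, Pi.single_apply, add_mul, mul_add, Finset.sum_add_distrib]
    · intro i k
      fin_cases k <;> simp [hp, Cfsg.quadFormMinus, Pi.single_apply, add_mul, mul_add, Finset.sum_add_distrib]
    · simp [hφ, Cfsg.quadFormMinus, Pi.single_apply]
    · simp [hp, Cfsg.quadFormMinus, Pi.single_apply]; ring
    · simp [hφ, Cfsg.quadFormMinus, Pi.single_apply]

end Cfsg.Agent.S2616
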