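import Cfsg.Statements.S2617
import Cfsg.Agent.Lib.Classical.WittDecomp

set_option autoImplicit false
open Cfsg

open Cfsg.Agent.Classical
open Module QuadraticMap

namespace Cfsg.Agent.S2617

/-- The two standard quadratic forms of even dimension 2m over a finite field are not isometric: there is no linear isomorphism carrying the elliptic form Σ_(i<m−1) x_i y_i + z₁² + z₁z₂ + ζ z₂² (t² + t + ζ without roots) to the hyperbolic form Σ_(i<m) x_i y_i (they have different Witt index). -/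
theorem result {F : Type*} [Field F] [Finite F] {m : ℕ} (hm : 1 ≤ m) (ζ : F) (hζ : ∀ t : F, t ^ 2 + t + ζ ≠ 0) (g : (Fin m ⊕ Fin m → F) ≃ₗ[F] ((Fin (m - 1) ⊕ Fin (m - 1)) ⊕ Fin 2 → F)) : ¬ (∀ v : Fin m ⊕ Fin m → F, Cfsg.quadFormMinus (m - 1) F 1 ζ (g v) = Cfsg.quadFormPlus m F v) := by
  intro hg
  have hab : ∀ z₁ z₂ : F, z₁ ^ 2 + 1 * z₁ * z₂ + ζ * z₂ ^ 2 = 0 → z₁ = 0 ∧ z₂ = 0 := by
    intro z₁ z₂ e
    by_cases hz : z₂ = 0
    · subst hz; exact ⟨by simpa using e, rfl⟩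
    · exact absurd (by field_simp; linear_combination e) (hζ (z₁ / z₂))
  obtain ⟨W, hW, hW'⟩ := (WittDec.QP_decomp (F := F) m).exists_singular_subspace
  have h := (WittDec.QM_decomp (m - 1) 1 ζ).finrank_le_of_singular (WittDec.QM_nondeg (m - 1) 1 ζ hab)
    (WittDec.plane_aniso 1 ζ hab) (W.map g.toLinearMap) (by
      rintro _ ⟨w, hw, rfl⟩
      rw [WittDec.QM_apply]
      exact (hg w).trans (hW' w hw))
  rw [LinearEquiv.finrank_map_eq, hW] at h
  omega

end Cfsg.Agent.S2617
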