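import Cfsg.Statements.S2618
import Cfsg.Agent.Lib.Classical.WittDecomp

set_option autoImplicit false
open Cfsg

open Cfsg.Agent.Classical
open Module QuadraticMap

namespace Cfsg.Agent.S2618

/-- Standard (parabolic) basis of a non-degenerate quadratic space of odd dimension 2m + 1 over a finite field (the non-degeneracy of the polar form forces the characteristic to be odd): there is a basis e_i, f_i (i < m), x with Q(e_i) = Q(f_i) = 0, B(e_i, f_j) = δ_ij (B the polar form), the e's pairwise orthogonal and the f's pairwise orthogonal, x orthogonal to all of them and Q(x) ≠ 0. -/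
theorem result {F V : Type*} [Field F] [Finite F] [AddCommGroup V] [Module F V] [FiniteDimensional F V] {m : ℕ} (hV : Module.finrank F V = 2 * m + 1) (Q : QuadraticForm F V) (hQ : (QuadraticMap.polarBilin Q).Nondegenerate) : ∃ b : Module.Basis (Unit ⊕ (Fin m ⊕ Fin m)) F V, Q (b (Sum.inl ())) ≠ 0 ∧ (∀ i, QuadraticMap.polar ⇑Q (b (Sum.inl ())) (b (Sum.inr (Sum.inl i))) = 0 ∧ QuadraticMap.polar ⇑Q (b (Sum.inl ())) (b (Sum.inr (Sum.inr i))) = 0) ∧ (∀ i, Q (b (Sum.inr (Sum.inl i))) = 0 ∧ Q (b (Sum.inr (Sum.inr i))) = 0) ∧ (∀ i j, QuadraticMap.polar ⇑Q (b (Sum.inr (Sum.inl i))) (b (Sum.inr (Sum.inr j))) = if i = j then 1 else 0) ∧ (∀ i j, QuadraticMap.polar ⇑Q (b (Sum.inr (Sum.inl i))) (b (Sum.inr (Sum.inl j))) = 0 ∧ QuadraticMap.polar ⇑Q (b (Sum.inr (Sum.inr i))) (b (Sum.inr (Sum.inr j))) = 0) := by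
  classical
  obtain ⟨c, φ, hc, hφ⟩ := WittDec.exists_equiv_odd Q hQ hV
  let e : (Unit ⊕ (Fin m ⊕ Fin m) → F) ≃ₗ[F] ((Fin m ⊕ Fin m → F) × F) :=
    (LinearEquiv.sumArrowLequivProdArrow _ _ F F).trans ((LinearEquiv.prodComm F _ _).trans
      (LinearEquiv.prodCongr (LinearEquiv.refl F _) (LinearEquiv.funUnique Unit F F)))
  have hq : ∀ v, Q ((e.trans φ) v) = Cfsg.quadFormPlus m F (fun i => v (.inr i)) + c * v (.inl ()) ^ 2 := fun v => hφ (e v)
  have hp : ∀ u v, polar Q ((e.trans φ) u) ((e.trans φ) v) =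
      polar (PlusMax.QP (F := F) (m := m)) (fun i => u (.inr i)) (fun i => v (.inr i)) + 2 * c * (u (.inl ()) * v (.inl ())) := fun u v => by
    simp only [polar, ← map_add (e.trans φ), hq, PlusMax.QP_apply, Pi.add_apply]
    rw [show (fun i => u (Sum.inr i) + v (Sum.inr i)) = (fun i => u (Sum.inr i)) + (fun i => v (Sum.inr i)) from rfl]
    ring
  refine ⟨(Pi.basisFun F _).map (e.trans φ), ?_, ?_, ?_, ?_, ?_⟩
  · rw [Basis.map_apply, Pi.basisFun_apply, hq]
    simp [Cfsg.quadFormPlus, hc]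
  · intro i
    simp only [Basis.map_apply, Pi.basisFun_apply, hp]
    simp [PlusMax.polar_QP, Pi.single_apply]
  · intro i
    simp only [Basis.map_apply, Pi.basisFun_apply, hq]
    simp [Cfsg.quadFormPlus, Pi.single_apply]
  · intro i j
    simp only [Basis.map_apply, Pi.basisFun_apply, hp]
    simp [PlusMax.polar_QP, Pi.single_apply, eq_comm]
  · intro i j
    simp only [Basis.map_apply, Pi.basisFun_apply, hp]
    simp [PlusMax.polar_QP, Pi.single_apply]

end Cfsg.Agent.S2618
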