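import Cfsg.Statements.S2622
import Cfsg.Agent.Lib.Classical.OrthBasis

set_option autoImplicit false
open Cfsg

open Cfsg.Agent.Classical
open Module

namespace Cfsg.Agent.S2622

variable {F V : Type*} [Field F] [Finite F] [CharP F 2] [AddCommGroup V] [Module F V] [FiniteDimensional F V]

theorem aux (B : LinearMap.BilinForm F V) (hr : ∀ x y, B x y = B y x) :
    ∀ (n : ℕ) (W : Submodule F V), OrthBasis.NondegOn B W → finrank F W = n → (n ≠ 0 → ∃ v ∈ W, B v v ≠ 0) →
      ∃ b : Fin n → V, (∀ i, b i ∈ W) ∧ ∀ i j, B (b i) (b j) = if i = j then 1 else 0 := by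
  have hr0 : ∀ x y, B x y = 0 → B y x = 0 := fun x y h => by rw [hr, h]
  have two : (2 : F) = 0 := by exact_mod_cast CharP.cast_eq_zero F 2
  intro n
  induction n with
  | zero => intro W _ _ _; exact ⟨Fin.elim0, fun i => i.elim0, fun i => i.elim0⟩
  | succ n ih =>
    intro W hW hn hna
    obtain ⟨v, hv, hv1⟩ : ∃ v ∈ W, B v v = 1 := by
      obtain ⟨v, hv, hvv⟩ := hna (Nat.succ_ne_zero n)
      obtain ⟨r, hr'⟩ := FiniteField.isSquare_of_char_two (ringChar.eq F 2) (B v v)⁻¹
      exact ⟨r • v, W.smul_mem r hv, by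
        simp only [map_smul, LinearMap.smul_apply, smul_eq_mul]; rw [← mul_assoc, ← hr', inv_mul_cancel₀ hvv]⟩
    suffices h : ∃ u ∈ W, B u u = 1 ∧ (n ≠ 0 → ∃ w ∈ W, B u w = 0 ∧ B w w ≠ 0) by
      obtain ⟨u, hu, hu1, huw⟩ := h
      obtain ⟨W', hW', ho, hnd, hd⟩ := OrthBasis.split B hr0 hW hu (by rw [hu1]; exact one_ne_zero)
      have hmem : ∀ w ∈ W, B u w = 0 → w ∈ W' := by
        intro w hw hw0
        have hle : W' ≤ W ⊓ LinearMap.ker (B u) := le_inf hW' fun x hx => ho x hx
        have hlt : W ⊓ LinearMap.ker (B u) < W := lt_of_le_of_ne inf_le_left fun e => by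
          have h0 : u ∈ W ⊓ LinearMap.ker (B u) := e.symm ▸ hu
          exact one_ne_zero (hu1.symm.trans (Submodule.mem_inf.1 h0).2)
        have := Submodule.finrank_lt_finrank_of_lt hlt
        have heq := Submodule.eq_of_le_of_finrank_le hle (by omega)
        rw [heq]; exact ⟨hw, hw0⟩
      obtain ⟨b, hb, hbb⟩ := ih W' hnd (by omega) fun h0 => by
        obtain ⟨w, hw, hw0, hww⟩ := huw h0
        exact ⟨w, hmem w hw hw0, hww⟩
      refine ⟨Fin.cons u b, Fin.cases hu fun i => hW' (hb i), fun i j => ?_⟩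
      refine Fin.cases ?_ (fun i => ?_) i <;> refine Fin.cases ?_ (fun j => ?_) j
      · simpa using hu1
      · simpa [eq_comm (a := (0 : Fin (n + 1)))] using ho _ (hb j)
      · simpa [Fin.succ_ne_zero] using hr0 _ _ (ho _ (hb i))
      · simpa using hbb i j
    obtain ⟨W1, hW1, ho1, hnd1, hd1⟩ := OrthBasis.split B hr0 hW hv (by rw [hv1]; exact one_ne_zero)
    by_cases hna1 : n ≠ 0 ∧ ∀ w ∈ W1, B w w = 0
    · obtain ⟨hn0, halt⟩ := hna1
      haveI : Nontrivial W1 := Module.nontrivial_of_finrank_pos (R := F) (by omega)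
      obtain ⟨⟨e, he⟩, he0⟩ := exists_ne (0 : W1)
      obtain ⟨f, hf, hef⟩ : ∃ f ∈ W1, B e f = 1 := by
        obtain ⟨y, hy, hey⟩ : ∃ y ∈ W1, B e y ≠ 0 := by
          by_contra hc
          simp only [not_exists, not_and, not_not] at hc
          exact he0 (Subtype.ext (hnd1 e he hc))
        exact ⟨(B e y)⁻¹ • y, W1.smul_mem _ hy, by rw [map_smul, smul_eq_mul, inv_mul_cancel₀ hey]⟩
      refine ⟨v + e, W.add_mem hv (hW1 he), ?_, fun _ => ⟨v + f, W.add_mem hv (hW1 hf), ?_, ?_⟩⟩
      · simp only [map_add, LinearMap.add_apply, hv1, halt e he, ho1 e he, hr e v]; ring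
      · simp only [map_add, LinearMap.add_apply, hv1, hef, ho1 f hf, hr e v, ho1 e he]
        linear_combination two
      · simp only [map_add, LinearMap.add_apply, hv1, halt f hf, ho1 f hf, hr f v]
        norm_num
    · refine ⟨v, hv, hv1, fun h0 => ?_⟩
      simp only [not_and, not_forall] at hna1
      obtain ⟨w, hw, hww⟩ := hna1 h0
      exact ⟨w, hW1 hw, ho1 w hw, hww⟩

end Cfsg.Agent.S2622

namespace Cfsg.Agent.S2622

/-- Over a finite field of characteristic two, a non-degenerate symmetric bilinear form that is not alternating (some vector v has B(v, v) ≠ 0) admits an orthonormal basis. -/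
theorem result {F V : Type*} [Field F] [Finite F] [CharP F 2] [AddCommGroup V] [Module F V] [FiniteDimensional F V] {n : ℕ} (hV : Module.finrank F V = n) (B : LinearMap.BilinForm F V) (hS : B.IsSymm) (hB : B.Nondegenerate) (hna : ∃ v : V, B v v ≠ 0) : ∃ b : Module.Basis (Fin n) F V, ∀ i j, B (b i) (b j) = if i = j then 1 else 0 := by
  obtain ⟨v, hv⟩ := hna
  obtain ⟨b, -, hb⟩ := Cfsg.Agent.S2622.aux B hS.eq n ⊤ (fun w _ h => hB.1 w fun y => h y Submodule.mem_top)
    (by rw [finrank_top, hV]) (fun _ => ⟨v, Submodule.mem_top, hv⟩)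
  have hli : LinearIndependent F b := OrthBasis.independent_of_orth B
    (fun i j h => by rw [hb, if_neg h]) (fun i => by rw [hb, if_pos rfl]; exact one_ne_zero)
  haveI : Nonempty (Fin n) := Fin.pos_iff_nonempty.1 (by
    rw [← hV]; haveI : Nontrivial V := ⟨v, 0, fun e => hv (by simp [e])⟩; exact Module.finrank_pos)
  exact ⟨basisOfLinearIndependentOfCardEqFinrank hli (by simp [hV]), fun i j => by
    rw [coe_basisOfLinearIndependentOfCardEqFinrank]; exact hb i j⟩

end Cfsg.Agent.S2622
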