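import Cfsg.Statements.S2623
import Cfsg.Agent.Lib.Classical.Disc

set_option autoImplicit false
open Cfsg

open Cfsg.Agent.Classical
open Module QuadraticMap

namespace Cfsg.Agent.S2623

/-- Over a finite field of odd order, two quadratic forms on F^n with non-degenerate polar forms are isometric (related by an invertible linear change of variables) if and only if their discriminants (determinants of the Gram matrices of their polar forms) lie in the same square class. -/
theorem result {F : Type*} [Field F] [Fintype F] (h2 : (2 : F) ≠ 0) {n : ℕ} (Q₁ Q₂ : QuadraticForm F (Fin n → F)) (h₁ : (QuadraticMap.polarBilin Q₁).Nondegenerate) (h₂ : (QuadraticMap.polarBilin Q₂).Nondegenerate) : (∃ g : (Fin n → F) ≃ₗ[F] (Fin n → F), ∀ v, Q₂ (g v) = Q₁ v) ↔ IsSquare ((Matrix.of (fun i j : Fin n => QuadraticMap.polar ⇑Q₁ (Pi.single i 1) (Pi.single j 1))).det * (Matrix.of (fun i j : Fin n => QuadraticMap.polar ⇑Q₂ (Pi.single i 1) (Pi.single j 1))).det) := by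
  classical
  set b := Pi.basisFun F (Fin n)
  have hd : ∀ Q : QuadraticForm F (Fin n → F), (Matrix.of (fun i j : Fin n => polar ⇑Q (Pi.single i 1) (Pi.single j 1))).det =
      Disc.disc Q b := fun Q => by simp [Disc.disc, b]
  rw [hd, hd]
  constructor
  · rintro ⟨g, hg⟩
    obtain ⟨c, hc, e⟩ := Disc.disc_change Q₂ (b.map g) b
    rw [Disc.disc_equiv Q₂ Q₁ g hg] at e
    exact ⟨c * Disc.disc Q₂ b, by rw [e]; ring⟩
  · intro hsq
    rcases n with - | j
    · exact ⟨LinearEquiv.refl F _, fun v => by rw [show v = 0 from Subsingleton.elim _ _, map_zero, QuadraticMap.map_zero, QuadraticMap.map_zero]⟩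
    obtain ⟨α, hα⟩ := FiniteField.exists_nonsquare (Refl.ringChar_ne_two h2)
    have hex : ∀ Q : QuadraticForm F (Fin (j + 1) → F), (polarBilin Q).Nondegenerate →
        ∃ (δ : F) (e : Basis (Fin (j + 1)) F (Fin (j + 1) → F)), (δ = 1 ∨ δ = α) ∧
          ∀ i i', polar Q (e i) (e i') = if i = i' then (if i = Fin.last j then δ else 1) else 0 := by
      intro Q hQ
      have hS : LinearMap.BilinForm.IsSymm (polarBilin Q) := ⟨fun x y => polar_comm (⇑Q) x y⟩
      obtain ⟨v, -, ho, h1, hl⟩ := OrthBasis.exists_diag (polarBilin Q) h2 hS hα j ⊤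
        (fun w _ h => hQ.1 w fun y => h y Submodule.mem_top) (by simp)
      have hli : LinearIndependent F v := LinearMap.linearIndependent_of_isOrthoᵢ
        (B := polarBilin Q) (fun i i' h => ho i i' h) fun i hi => by
          by_cases hil : i = Fin.last j
          · subst hil
            rcases hl with h | h
            · exact one_ne_zero (h.symm.trans hi)
            · exact (fun e : α = 0 => hα ⟨0, by rw [e, mul_zero]⟩) (h.symm.trans hi)
          · exact one_ne_zero ((h1 i hil).symm.trans hi)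
      refine ⟨polar Q (v (Fin.last j)) (v (Fin.last j)), basisOfLinearIndependentOfCardEqFinrank hli (by simp), hl, ?_⟩
      intro i i'
      rw [coe_basisOfLinearIndependentOfCardEqFinrank]
      by_cases h : i = i'
      · subst h
        rw [if_pos rfl]
        split_ifs with hil
        · subst hil; rfl
        · exact h1 i hil
      · rw [if_neg h]; exact ho i i' h
    obtain ⟨δ₁, e₁, hδ₁, he₁⟩ := hex Q₁ h₁
    obtain ⟨δ₂, e₂, hδ₂, he₂⟩ := hex Q₂ h₂
    have hdisc : ∀ (Q : QuadraticForm F (Fin (j + 1) → F)) (δ : F) (e : Basis (Fin (j + 1)) F (Fin (j + 1) → F)),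
        (∀ i i', polar Q (e i) (e i') = if i = i' then (if i = Fin.last j then δ else 1) else 0) → Disc.disc Q e = δ := by
      intro Q δ e he
      rw [Disc.disc, show (Matrix.of fun i i' => polar Q (e i) (e i')) =
        Matrix.diagonal fun i => if i = Fin.last j then δ else 1 from Matrix.ext fun i i' => by
          rw [Matrix.of_apply, he]; by_cases h : i = i' <;> simp [h], Matrix.det_diagonal, Finset.prod_ite_eq']
      simp
    obtain ⟨c₁, hc₁, d₁⟩ := Disc.disc_change Q₁ b e₁
    obtain ⟨c₂, hc₂, d₂⟩ := Disc.disc_change Q₂ b e₂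
    rw [hdisc Q₁ δ₁ e₁ he₁] at d₁
    rw [hdisc Q₂ δ₂ e₂ he₂] at d₂
    obtain ⟨s, hs⟩ : IsSquare (δ₁ * δ₂) := by
      obtain ⟨s, hs⟩ := hsq
      exact ⟨s / (c₁ * c₂), by rw [d₁, d₂] at hs; field_simp; linear_combination hs⟩
    have hδ : δ₁ = δ₂ := by
      rcases hδ₁ with h | h <;> rcases hδ₂ with h' | h' <;> rw [h, h'] at hs ⊢
      · exact absurd ⟨s, by simpa using hs⟩ hα
      · exact absurd ⟨s, by simpa using hs⟩ hα
    subst hδ
    refine ⟨e₁.equiv e₂ (Equiv.refl _), fun v => ?_⟩
    have hB : (polarBilin Q₂).compl₁₂ (e₁.equiv e₂ (Equiv.refl _)).toLinearMap (e₁.equiv e₂ (Equiv.refl _)).toLinearMap =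
        polarBilin Q₁ := e₁.ext fun i => e₁.ext fun i' => by
      simp [he₁, he₂]
    have hv : polar Q₂ (e₁.equiv e₂ (Equiv.refl _) v) (e₁.equiv e₂ (Equiv.refl _) v) = polar Q₁ v v :=
      LinearMap.congr_fun₂ hB v v
    rw [WittExt.polar_self_eq, WittExt.polar_self_eq] at hv
    exact mul_left_cancel₀ h2 hv

end Cfsg.Agent.S2623
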