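import Cfsg.Statements.S2624
import Cfsg.Agent.Lib.Classical.WittDecomp

set_option autoImplicit false
open Cfsg

open Cfsg.Agent.Classical
open Module QuadraticMap

namespace Cfsg.Agent.S2624

/-- For a quadratic form Q on F^n with non-degenerate polar form, F finite and n ≥ 2 even, every non-zero scalar c is the multiplier of some similarity: there is an invertible linear map g with Q(g v) = c·Q(v) for all v. -/
theorem result {F : Type*} [Field F] [Fintype F] {n : ℕ} (hn : 2 ≤ n) (he : Even n) (Q : QuadraticForm F (Fin n → F)) (hQ : (QuadraticMap.polarBilin Q).Nondegenerate) (c : F) (hc : c ≠ 0) : ∃ g : (Fin n → F) ≃ₗ[F] (Fin n → F), ∀ v, Q (g v) = c * Q v := by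
  classical
  obtain ⟨m, rfl⟩ := he
  have hV : finrank F (Fin (m + m) → F) = 2 * m := by rw [finrank_fin_fun]; omega
  have hQ' : (polarBilin (c • Q)).Nondegenerate := by
    have e : ∀ x y, polar (c • Q : QuadraticForm F _) x y = c * polar Q x y := fun x y => by
      simp [polar]; ring
    have h1 : ∀ x, (∀ y, polar (c • Q : QuadraticForm F _) x y = 0) → x = 0 := fun x hx =>
      hQ.1 x fun y => (mul_eq_zero.1 ((e x y).symm.trans (hx y))).resolve_left hc
    exact ⟨h1, fun y hy => h1 y fun x => by rw [polar_comm]; exact hy x⟩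
  have hiff : ∀ W : Submodule F (Fin (m + m) → F), (∀ w ∈ W, (c • Q : QuadraticForm F _) w = 0) ↔ ∀ w ∈ W, Q w = 0 := fun W =>
    forall₂_congr fun w _ => by simp [hc]
  by_cases h : ∃ W : Submodule F (Fin (m + m) → F), finrank F W = m ∧ ∀ w ∈ W, Q w = 0
  · obtain ⟨φ, hφ⟩ := WittDec.exists_equiv_plus Q hQ hV h
    obtain ⟨ψ, hψ⟩ := WittDec.exists_equiv_plus (c • Q) hQ' hV (by simpa only [hiff] using h)
    refine ⟨ψ.symm.trans φ, fun v => ?_⟩
    show Q (φ (ψ.symm v)) = c * Q v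
    rw [hφ, ← hψ, LinearEquiv.apply_symm_apply]; rfl
  · obtain ⟨-, ζ, hζ⟩ := WittDec.minus_irreducible Q hQ hV h
    have hab : ∀ z₁ z₂ : F, z₁ ^ 2 + 1 * z₁ * z₂ + ζ * z₂ ^ 2 = 0 → z₁ = 0 ∧ z₂ = 0 := by
      intro z₁ z₂ e
      by_cases hz : z₂ = 0
      · subst hz; exact ⟨by simpa using e, rfl⟩
      · exact absurd (by field_simp; linear_combination e) (hζ (z₁ / z₂))
    obtain ⟨φ, hφ⟩ := WittDec.exists_equiv_minus Q hQ hV h 1 ζ hab
    obtain ⟨ψ, hψ⟩ := WittDec.exists_equiv_minus (c • Q) hQ' hV (by simpa only [hiff] using h) 1 ζ hab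
    refine ⟨ψ.symm.trans φ, fun v => ?_⟩
    show Q (φ (ψ.symm v)) = c * Q v
    rw [hφ, ← hψ, LinearEquiv.apply_symm_apply]; rfl

end Cfsg.Agent.S2624
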