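import Cfsg.Statements.S2625
import Cfsg.Agent.Lib.Classical.Disc

set_option autoImplicit false
open Cfsg

open Cfsg.Agent.Classical
open Module QuadraticMap

namespace Cfsg.Agent.S2625

/-- For a quadratic form Q on F^n with non-degenerate polar form, F finite and n odd (so |F| is odd), the multiplier of any similarity is a square: if g is an invertible linear map with Q(g v) = c·Q(v) for all v then c is a square. -/
theorem result {F : Type*} [Field F] [Fintype F] {n : ℕ} (hn : Odd n) (Q : QuadraticForm F (Fin n → F)) (hQ : (QuadraticMap.polarBilin Q).Nondegenerate) (g : (Fin n → F) ≃ₗ[F] (Fin n → F)) (c : F) (hg : ∀ v, Q (g v) = c * Q v) : IsSquare c := by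
  classical
  set b := Pi.basisFun F (Fin n)
  have hd : Disc.disc Q b ≠ 0 := by
    intro h
    obtain ⟨v, hv, hv'⟩ := Matrix.exists_mulVec_eq_zero_iff.2 h
    refine hv (hQ.1 v fun y => ?_)
    have hz : polarBilin Q v = 0 := b.ext fun j => by
      show polar Q v (b j) = 0
      rw [polar_comm, ← b.sum_repr v]
      have hj := congrFun hv' j
      simp only [Matrix.mulVec, dotProduct, Matrix.of_apply, Pi.zero_apply] at hj
      show polarBilin Q (b j) _ = 0
      rw [map_sum, ← hj]
      refine Finset.sum_congr rfl fun i _ => ?_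
      simp [b, mul_comm]
    rw [hz]; rfl
  obtain ⟨d, hd0, hde⟩ := Disc.disc_change Q (b.map g) b
  have e : Disc.disc Q (b.map g) = c ^ n * Disc.disc Q b := by
    rw [Disc.disc, Disc.disc, show (Matrix.of fun i j => polar Q (b.map g i) (b.map g j)) =
      c • Matrix.of fun i j => polar Q (b i) (b j) from Matrix.ext fun i j => by
        simp [polar, ← map_add, hg]; ring, Matrix.det_smul, Fintype.card_fin]
  have h : c ^ n = d ^ 2 := mul_right_cancel₀ hd (e.symm.trans hde)
  obtain ⟨r, rfl⟩ := hn
  by_cases hc : c = 0
  · exact ⟨0, by rw [hc, mul_zero]⟩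
  · exact ⟨d / c ^ r, by field_simp; rw [← h]; ring⟩

end Cfsg.Agent.S2625
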