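import Cfsg.Statements.S2627
import Cfsg.Agent.Lib.Classical.OrthSum

set_option autoImplicit false
open Cfsg

open Cfsg.Agent.Classical
open Module QuadraticMap

namespace Cfsg.Agent.S2627

/-- For an orthogonal direct sum Q = Q₁ ⊕ Q₂ of quadratic forms with non-degenerate polar forms over a finite field, an isometry g₁ of Q₁ extended by the identity on the second summand lies in Ω(Q) (the commutator subgroup of the orthogonal group of Q) if and only if g₁ lies in Ω(Q₁). (Excluded: the field of two elements when the first summand or the whole space has dimension 4, where the commutator subgroup of O⁺₄(2) is smaller than the group usually called Ω.) -/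
theorem result {F : Type*} [Field F] [Fintype F] {k l : ℕ} (h : Fintype.card F ≠ 2 ∨ (k ≠ 4 ∧ k + l ≠ 4)) (Q₁ : QuadraticForm F (Fin k → F)) (Q₂ : QuadraticForm F (Fin l → F)) (h₁ : (QuadraticMap.polarBilin Q₁).Nondegenerate) (h₂ : (QuadraticMap.polarBilin Q₂).Nondegenerate) (g₁ : ↥(Cfsg.isometryGroup F ⇑Q₁)) : (∃ g : ↥(Cfsg.isometryGroup F (fun v : Fin k ⊕ Fin l → F => Q₁ (v ∘ Sum.inl) + Q₂ (v ∘ Sum.inr))), g ∈ Cfsg.Omega F (fun v : Fin k ⊕ Fin l → F => Q₁ (v ∘ Sum.inl) + Q₂ (v ∘ Sum.inr)) ∧ ((g : Matrix.GeneralLinearGroup (Fin k ⊕ Fin l) F) : Matrix (Fin k ⊕ Fin l) (Fin k ⊕ Fin l) F) = Matrix.fromBlocks ((g₁ : Matrix.GeneralLinearGroup (Fin k) F) : Matrix (Fin k) (Fin k) F) 0 0 1) ↔ g₁ ∈ Cfsg.Omega F ⇑Q₁ := by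
  classical
  have hiff : (∃ g : ↥(Cfsg.isometryGroup F (fun v : Fin k ⊕ Fin l → F => Q₁ (v ∘ Sum.inl) + Q₂ (v ∘ Sum.inr))),
      g ∈ Cfsg.Omega F (fun v : Fin k ⊕ Fin l → F => Q₁ (v ∘ Sum.inl) + Q₂ (v ∘ Sum.inr)) ∧
      ((g : Matrix.GeneralLinearGroup (Fin k ⊕ Fin l) F) : Matrix (Fin k ⊕ Fin l) (Fin k ⊕ Fin l) F) =
        Matrix.fromBlocks ((g₁ : Matrix.GeneralLinearGroup (Fin k) F) : Matrix (Fin k) (Fin k) F) 0 0 1) ↔
      OrthSum.inl Q₁ Q₂ g₁ ∈ commutator (Refl.O (OrthSum.Qs Q₁ Q₂)) := by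
    constructor
    · rintro ⟨g, hg, he⟩
      rw [show OrthSum.inl Q₁ Q₂ g₁ = g from Subtype.ext (Units.ext he.symm)]
      exact hg
    · exact fun h => ⟨_, h, rfl⟩
  rw [hiff]
  have hnd := OrthSum.Qs_nondeg Q₁ Q₂ h₁ h₂
  have hex₁ : Fintype.card F ≠ 2 ∨ Fintype.card (Fin k) ≠ 4 := h.imp id (fun h => by simpa using h.1)
  have hex : Fintype.card F ≠ 2 ∨ Fintype.card (Fin k ⊕ Fin l) ≠ 4 := h.imp id (fun h => by simpa using h.2)
  constructor
  · intro hg
    obtain ⟨L, rfl⟩ := Refl.exists_reflList Q₁ h₁ hex₁ g₁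
    rw [OrthSum.inl_reflList] at hg
    by_cases hk : 2 ≤ k
    · rw [Refl.reflList_mem_iff _ hnd (by simp; omega) hex, List.length_map, List.map_map] at hg
      refine (Refl.reflList_mem_iff Q₁ h₁ (by simpa using hk) hex₁ L).2 ⟨hg.1, ?_⟩
      simpa [Function.comp_def, OrthSum.Qs_elim] using hg.2
    · have hd := Refl.dickson_eq_one _ hnd hex hg
      rw [Refl.dickson_reflList', List.length_map] at hd
      have hσ : ∀ v w : {v : Fin k → F // Q₁ v ≠ 0}, Refl.refl Q₁ v.1 v.2 = Refl.refl Q₁ w.1 w.2 := by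
        intro v w
        rcases Nat.lt_or_ge k 1 with hk0 | hk1
        · obtain rfl : k = 0 := by omega
          exact absurd (by rw [Subsingleton.elim v.1 0, QuadraticMap.map_zero]) v.2
        · obtain rfl : k = 1 := by omega
          have hw0 : w.1 0 ≠ 0 := fun e => w.2 (by
            rw [show w.1 = 0 from funext fun i => by fin_cases i; exact e, QuadraticMap.map_zero])
          have hv0 : v.1 0 ≠ 0 := fun e => v.2 (by
            rw [show v.1 = 0 from funext fun i => by fin_cases i; exact e, QuadraticMap.map_zero])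
          have ht : v.1 0 / w.1 0 ≠ 0 := div_ne_zero hv0 hw0
          rw [← Refl.refl_smul Q₁ w.1 w.2 ht]
          congr 1
          funext i; fin_cases i; simp [hw0]
      have key : ∀ L : List {v : Fin k → F // Q₁ v ≠ 0}, Even L.length → Disc.reflList Q₁ L = 1 := by
        intro L
        induction L using List.twoStepInduction with
        | nil => exact fun _ => rfl
        | singleton a => simp
        | cons_cons a b L ih _ =>
          intro hev
          show Refl.refl Q₁ a.1 a.2 * (Refl.refl Q₁ b.1 b.2 * Disc.reflList Q₁ L) = 1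
          rw [← mul_assoc, hσ a b, Refl.refl_mul_self, one_mul]
          exact ih (by simpa [parity_simps] using hev)
      rw [key L (by
        rcases Nat.even_or_odd L.length with he | ho
        · exact he
        · rw [ho.neg_one_pow] at hd; exact absurd hd (by decide))]
      exact one_mem _
  · intro hg
    have : (commutator (Refl.O Q₁)).map (OrthSum.inl Q₁ Q₂) ≤ commutator (Refl.O (OrthSum.Qs Q₁ Q₂)) := by
      rw [commutator_def, Subgroup.map_commutator]
      exact Subgroup.commutator_mono le_top le_top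
    exact this ⟨g₁, hg, rfl⟩

end Cfsg.Agent.S2627
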