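import Cfsg.Statements.S2628
import Cfsg.Agent.Lib.Classical.OrthSum

set_option autoImplicit false
open Cfsg

open Cfsg.Agent.Classical
open Module QuadraticMap
open scoped commutatorElement

namespace Cfsg.Agent.S2628

/-- For the orthogonal direct sum Q ⊕ Q of two copies of a quadratic form Q with non-degenerate polar form on F^k (F finite), every isometry g of Q acting diagonally, diag(g, g), lies in Ω(Q ⊕ Q), the commutator subgroup of the orthogonal group of Q ⊕ Q. (Excluded: k = 2 over the field of two elements, where Q ⊕ Q is the hyperbolic 4-space whose orthogonal group's commutator subgroup is smaller than the group usually called Ω.) -/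
theorem result {F : Type*} [Field F] [Fintype F] {k : ℕ} (h : Fintype.card F ≠ 2 ∨ k ≠ 2) (Q : QuadraticForm F (Fin k → F)) (hQ : (QuadraticMap.polarBilin Q).Nondegenerate) (g : ↥(Cfsg.isometryGroup F ⇑Q)) : ∃ x : ↥(Cfsg.isometryGroup F (fun v : Fin k ⊕ Fin k → F => Q (v ∘ Sum.inl) + Q (v ∘ Sum.inr))), x ∈ Cfsg.Omega F (fun v : Fin k ⊕ Fin k → F => Q (v ∘ Sum.inl) + Q (v ∘ Sum.inr)) ∧ ((x : Matrix.GeneralLinearGroup (Fin k ⊕ Fin k) F) : Matrix (Fin k ⊕ Fin k) (Fin k ⊕ Fin k) F) = Matrix.fromBlocks ((g : Matrix.GeneralLinearGroup (Fin k) F) : Matrix (Fin k) (Fin k) F) 0 0 ((g : Matrix.GeneralLinearGroup (Fin k) F) : Matrix (Fin k) (Fin k) F) := by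
  classical
  refine ⟨OrthSum.inl Q Q g * OrthSum.inr Q Q g, ?_, OrthSum.inl_mul_inr_coe Q Q g g⟩
  show _ ∈ commutator (Refl.O (OrthSum.Qs Q Q))
  rcases Nat.eq_zero_or_pos k with rfl | hk
  · have : OrthSum.inl Q Q g * OrthSum.inr Q Q g = 1 := Subtype.ext (Units.ext (Subsingleton.elim _ _))
    rw [this]; exact one_mem _
  have hnd := OrthSum.Qs_nondeg Q Q hQ hQ
  have hn : 2 ≤ Fintype.card (Fin k ⊕ Fin k) := by simp; omega
  have hex : Fintype.card F ≠ 2 ∨ Fintype.card (Fin k ⊕ Fin k) ≠ 4 := h.imp id (fun h => by simp; omega)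
  -- the swap of the two summands
  let s : (Fin k ⊕ Fin k → F) ≃ₗ[F] (Fin k ⊕ Fin k → F) := LinearEquiv.funCongrLeft F F (Equiv.sumComm _ _)
  have hs : ∀ v, OrthSum.Qs Q Q (s v) = OrthSum.Qs Q Q v := fun v => by
    rw [OrthSum.Qs_apply, OrthSum.Qs_apply, add_comm]; rfl
  set S := Refl.ofLin (OrthSum.Qs Q Q) s hs
  have hconj : OrthSum.inr Q Q g = S * OrthSum.inl Q Q g * S⁻¹ := by
    rw [eq_mul_inv_iff_mul_eq]
    refine Refl.act_ext _ fun y => ?_
    rw [Refl.act_mul, Refl.act_mul, Refl.act_ofLin, Refl.act_ofLin]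
    show (((OrthSum.inr Q Q g : GL (Fin k ⊕ Fin k) F) : Matrix _ _ F)).mulVec (s y) =
      s ((((OrthSum.inl Q Q g : GL (Fin k ⊕ Fin k) F) : Matrix _ _ F)).mulVec y)
    rw [OrthSum.inl_coe, OrthSum.inr_coe, Matrix.fromBlocks_mulVec, Matrix.fromBlocks_mulVec]
    funext i
    rcases i with i | i <;> simp [s, Function.comp_def]
  rw [hconj]
  set a := OrthSum.inl Q Q g
  rw [show a * (S * a * S⁻¹) = (a * a) * ⁅a⁻¹, S⁆ by rw [commutatorElement_def]; group]
  exact mul_mem (Refl.sq_mem_commutator _ hnd hn hex a) (Subgroup.commutator_mem_commutator (Subgroup.mem_top _) (Subgroup.mem_top _))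

end Cfsg.Agent.S2628
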