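import Cfsg.Statements.S2630
import Cfsg.Agent.Lib.Classical.OmegaTrans

set_option autoImplicit false
open Cfsg
open Cfsg.Agent.Classical Cfsg.Agent.OmegaTrans

namespace Cfsg.Agent.S2630

/-- For the hyperbolic form Σ x_i y_i on F^(2m) over a finite field of characteristic two (m ≥ 1, excluding m = 2 over the field of two elements), an isometry g preserves the class of the maximal totally singular subspace U₀ = {y = 0} (m − dim(U₀ ∩ gU₀) even) if and only if g lies in Ω (the commutator subgroup of the orthogonal group): the stabiliser of each class is Ω. -/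
theorem result {F : Type*} [Field F] [Fintype F] [CharP F 2] {m : ℕ} (hm : 1 ≤ m) (h : Fintype.card F ≠ 2 ∨ m ≠ 2) (g : ↥(Cfsg.isometryGroup F (Cfsg.quadFormPlus m F))) : Even (m - Module.finrank F ↥(LinearMap.ker (LinearMap.funLeft F F (Sum.inr : Fin m → Fin m ⊕ Fin m)) ⊓ (LinearMap.ker (LinearMap.funLeft F F (Sum.inr : Fin m → Fin m ⊕ Fin m))).map (Matrix.mulVecLin ((g : Matrix.GeneralLinearGroup (Fin m ⊕ Fin m) F) : Matrix (Fin m ⊕ Fin m) (Fin m ⊕ Fin m) F)))) ↔ g ∈ Cfsg.Omega F (Cfsg.quadFormPlus m F) := by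
  have hex : Fintype.card F ≠ 2 ∨ Fintype.card (Fin m ⊕ Fin m) ≠ 4 := by
    rw [Fintype.card_sum, Fintype.card_fin]; exact h.imp_right (by omega)
  have hd := dickson_eq_parity hex gen_kerFun g
  refine Iff.trans ?_ (Iff.trans (MonoidHom.mem_ker (f := Refl.dickson (PlusMax.QP (F := F) (m := m)) PlusMax.nondeg hex)).symm
    (SetLike.ext_iff.1 (Refl.ker_dickson (PlusMax.QP (F := F) (m := m)) PlusMax.nondeg
      (by rw [Fintype.card_sum, Fintype.card_fin]; omega) hex) g))
  rw [hd]
  exact (neg_one_pow_eq_one_iff_even (R := ℤˣ) (by decide)).symm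

end Cfsg.Agent.S2630
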