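import Cfsg.Statements.S2636
import Mathlib

set_option autoImplicit false
open Cfsg
open Matrix

namespace Cfsg.Agent.S2636

/-- Centraliser of a field automorphism in PGL_n: let F be the field with q = q₀^r elements, σ a field automorphism of F of prime order r (so its fixed field has q₀ elements) and n ≥ 1. The invertible matrices g whose entrywise image under σ is a scalar multiple of g — those whose coset modulo scalars is fixed by σ — number (q − 1)/(q₀ − 1) · |GL_n(q₀)|; equivalently the centraliser in PGL_n(q) of the induced automorphism has the order of PGL_n(q₀). -/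
theorem result {F : Type*} [Field F] [Fintype F] {q₀ r n : ℕ} (hr : r.Prime) (hn : 1 ≤ n) (hF : Fintype.card F = q₀ ^ r) (σ : F ≃+* F) (hσ : orderOf σ = r) : Nat.card {g : GL (Fin n) F // ∃ c : F, c ≠ 0 ∧ (g : Matrix (Fin n) (Fin n) F).map σ = c • (g : Matrix (Fin n) (Fin n) F)} = (q₀ ^ r - 1) / (q₀ - 1) * ∏ i : Fin n, (q₀ ^ n - q₀ ^ (i : ℕ)) := by
  classical
  haveI : Finite (F ≃+* F) := Finite.of_injective (fun e : F ≃+* F => (e : F → F)) DFunLike.coe_injective
  let G := Subgroup.zpowers σ
  let K := FixedPoints.subfield G F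
  have hmem : ∀ a : F, a ∈ K ↔ σ a = a := fun a => by
    refine ⟨fun h => h ⟨σ, Subgroup.mem_zpowers σ⟩, fun h g => ?_⟩
    obtain ⟨g, hg⟩ := g
    obtain ⟨j, rfl⟩ := mem_powers_iff_mem_zpowers.2 hg
    show (σ ^ j) a = a
    induction j with
    | zero => rfl
    | succ j ih => rw [pow_succ, RingAut.mul_apply, h]; exact ih (Subgroup.pow_mem _ (Subgroup.mem_zpowers σ) j)
  haveI : Fintype G := Fintype.ofFinite G
  haveI : Fintype K := Fintype.ofFinite K
  have hKc : Fintype.card K = q₀ := by
    have h := FixedPoints.finrank_eq_card G F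
    rw [← Nat.card_eq_fintype_card (α := G), Nat.card_zpowers, hσ] at h
    have h2 := Module.card_eq_pow_finrank (K := K) (V := F)
    rw [h, hF] at h2
    exact (Nat.pow_left_injective hr.ne_zero h2).symm
  have hq₀ : 1 < q₀ := hKc ▸ Fintype.one_lt_card
  let ι : GL (Fin n) K →* GL (Fin n) F := Matrix.GeneralLinearGroup.map K.subtype
  have hι : ∀ h i j, (ι h : Matrix (Fin n) (Fin n) F) i j = ((h : Matrix (Fin n) (Fin n) K) i j : F) := fun _ _ _ => rfl
  let S := {g : GL (Fin n) F // ∃ c : F, c ≠ 0 ∧ (g : Matrix (Fin n) (Fin n) F).map σ = c • (g : Matrix (Fin n) (Fin n) F)}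
  let sc : Fˣ → GL (Fin n) F := fun a => Matrix.GeneralLinearGroup.scalar (Fin n) a
  have hsc : ∀ (a : Fˣ) (g : GL (Fin n) F), ((sc a * g : GL (Fin n) F) : Matrix (Fin n) (Fin n) F) = (a : F) • (g : Matrix (Fin n) (Fin n) F) :=
    fun a g => by
      ext i j
      rw [Units.val_mul, show ((sc a : GL (Fin n) F) : Matrix (Fin n) (Fin n) F) = Matrix.diagonal fun _ => (a : F) from rfl,
        Matrix.diagonal_mul, Matrix.smul_apply, smul_eq_mul]
  let f : Fˣ × GL (Fin n) K → S := fun x => ⟨sc x.1 * ι x.2, σ (x.1 : F) / (x.1 : F),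
    div_ne_zero ((map_ne_zero σ.toRingHom).2 x.1.ne_zero) x.1.ne_zero, by
      ext i j
      simp only [hsc, Matrix.map_apply, Matrix.smul_apply, hι, smul_eq_mul, map_mul]
      rw [(hmem _).1 ((x.2 : Matrix (Fin n) (Fin n) K) i j).2]
      field_simp [x.1.ne_zero]⟩
  have hsurj : Function.Surjective f := by
    rintro ⟨g, c, hc, hg⟩
    obtain ⟨i, j, hij⟩ : ∃ i j, (g : Matrix (Fin n) (Fin n) F) i j ≠ 0 := by
      by_contra hall
      push Not at hall
      have h := ((Matrix.isUnit_iff_isUnit_det _).1 g.isUnit).ne_zero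
      haveI : Nonempty (Fin n) := ⟨⟨0, hn⟩⟩
      exact h (by rw [show (g : Matrix (Fin n) (Fin n) F) = 0 from Matrix.ext hall, Matrix.det_zero])
    set a := Units.mk0 _ hij
    have hK : ∀ k l, (a : F)⁻¹ * (g : Matrix (Fin n) (Fin n) F) k l ∈ K := fun k l => by
      rw [hmem, map_mul, map_inv₀]
      have e : ∀ k l, σ ((g : Matrix (Fin n) (Fin n) F) k l) = c * (g : Matrix (Fin n) (Fin n) F) k l := fun k l =>
        congrFun (congrFun hg k) l
      rw [e, show σ (a : F) = c * (a : F) from e i j, mul_inv]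
      field_simp
    let M : Matrix (Fin n) (Fin n) K := fun k l => ⟨_, hK k l⟩
    have hM : M.det ≠ 0 := fun h0 => by
      have h1 : K.subtype M.det = 0 := by rw [h0, map_zero]
      rw [RingHom.map_det, show K.subtype.mapMatrix M = (a : F)⁻¹ • (g : Matrix (Fin n) (Fin n) F) from rfl, det_smul] at h1
      exact mul_ne_zero (pow_ne_zero _ (inv_ne_zero a.ne_zero)) ((Matrix.isUnit_iff_isUnit_det _).1 g.isUnit).ne_zero h1
    refine ⟨(a, Matrix.GeneralLinearGroup.mkOfDetNeZero M hM), Subtype.ext (Units.ext ?_)⟩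
    show ((sc a * ι _ : GL (Fin n) F) : Matrix (Fin n) (Fin n) F) = _
    ext k l
    rw [hsc, Matrix.smul_apply, hι, smul_eq_mul]
    show (a : F) * ((a : F)⁻¹ * (g : Matrix (Fin n) (Fin n) F) k l) = _
    rw [mul_inv_cancel_left₀ a.ne_zero]
  have hfib : ∀ s, Nat.card {x // f x = s} = q₀ - 1 := by
    intro s
    obtain ⟨⟨a, h⟩, rfl⟩ := hsurj s
    let g : Kˣ → {x // f x = f (a, h)} := fun u => ⟨(a * Units.map (K.subtype : K →* F) u, Matrix.GeneralLinearGroup.scalar (Fin n) u⁻¹ * h), by
      refine Subtype.ext (Units.ext ?_)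
      ext i j
      show ((sc _ * ι _ : GL (Fin n) F) : Matrix (Fin n) (Fin n) F) i j = ((sc a * ι h : GL (Fin n) F) : Matrix (Fin n) (Fin n) F) i j
      dsimp only
      rw [hsc, hsc, Matrix.smul_apply, Matrix.smul_apply, hι, hι, Units.val_mul, Units.val_mul,
        show ((Matrix.GeneralLinearGroup.scalar (Fin n) u⁻¹ : GL (Fin n) K) : Matrix (Fin n) (Fin n) K) = Matrix.diagonal fun _ => ((u⁻¹ : Kˣ) : K) from rfl,
        Matrix.diagonal_mul]
      show (a : F) * ((u : K) : F) * ((((u⁻¹ : Kˣ) : K) * _ : K) : F) = _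
      rw [Subfield.coe_mul, mul_assoc, ← mul_assoc ((u : K) : F), ← Subfield.coe_mul, Units.mul_inv, Subfield.coe_one, one_mul]
      rfl⟩
    have hg : Function.Bijective g := by
      refine ⟨fun u v huv => ?_, ?_⟩
      · have h1 := congrArg (fun x => (x.1).1) huv
        have h2 := mul_left_cancel h1
        exact Units.ext (Subtype.ext (congrArg Units.val h2))
      · rintro ⟨⟨b, h'⟩, hb⟩
        have he := congrArg Units.val (congrArg Subtype.val hb)
        change ((sc b * ι h' : GL (Fin n) F) : Matrix (Fin n) (Fin n) F) = ((sc a * ι h : GL (Fin n) F) : Matrix (Fin n) (Fin n) F) at he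
        rw [hsc, hsc] at he
        have he' : ∀ i j, (b : F) * ((h' : Matrix (Fin n) (Fin n) K) i j : F) = (a : F) * ((h : Matrix (Fin n) (Fin n) K) i j : F) :=
          fun i j => congrFun (congrFun he i) j
        obtain ⟨i, j, hij⟩ : ∃ i j, (h' : Matrix (Fin n) (Fin n) K) i j ≠ 0 := by
          by_contra hall
          push Not at hall
          haveI : Nonempty (Fin n) := ⟨⟨0, hn⟩⟩
          exact ((Matrix.isUnit_iff_isUnit_det _).1 h'.isUnit).ne_zero
            (by rw [show (h' : Matrix (Fin n) (Fin n) K) = 0 from Matrix.ext hall, Matrix.det_zero])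
        have hij' : ((h' : Matrix (Fin n) (Fin n) K) i j : F) ≠ 0 := fun e => hij (Subtype.ext e)
        have hK : (b : F) / a ∈ K := by
          rw [show (b : F) / a = (((h : Matrix (Fin n) (Fin n) K) i j / (h' : Matrix (Fin n) (Fin n) K) i j : K) : F) by
            rw [Subfield.coe_div]
            field_simp [a.ne_zero]
            linear_combination he' i j]
          exact SetLike.coe_mem _
        let u : Kˣ := Units.mk0 ⟨_, hK⟩ fun e => div_ne_zero b.ne_zero a.ne_zero (congrArg Subtype.val e)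
        refine ⟨u, Subtype.ext (Prod.ext (Units.ext ?_) (Units.ext ?_))⟩
        · show (a : F) * ((b : F) / a) = b
          field_simp
        · ext i j
          show ((((Matrix.GeneralLinearGroup.scalar (Fin n) u⁻¹ : GL (Fin n) K) : Matrix (Fin n) (Fin n) K) * (h : Matrix (Fin n) (Fin n) K)) i j : F) = _
          rw [show ((Matrix.GeneralLinearGroup.scalar (Fin n) u⁻¹ : GL (Fin n) K) : Matrix (Fin n) (Fin n) K) = Matrix.diagonal fun _ => ((u⁻¹ : Kˣ) : K) from rfl,
            Matrix.diagonal_mul, Subfield.coe_mul, Units.val_inv_eq_inv_val, Subfield.coe_inv]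
          show ((b : F) / a)⁻¹ * _ = _
          field_simp
          linear_combination -(he' i j)
    rw [← Nat.card_eq_of_bijective g hg, Nat.card_units, Nat.card_eq_fintype_card, hKc]
  have hcount := Nat.card_congr (Equiv.sigmaFiberEquiv f)
  rw [Nat.card_sigma, Finset.sum_congr rfl (fun s _ => hfib s), Finset.sum_const, Finset.card_univ, smul_eq_mul,
    ← Nat.card_eq_fintype_card (α := S), Nat.card_prod, Nat.card_units, Matrix.card_GL_field, hKc,
    Nat.card_eq_fintype_card (α := F), hF] at hcount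
  show Nat.card S = _
  have hdvd : q₀ - 1 ∣ q₀ ^ r - 1 := by simpa only [one_pow] using Nat.sub_dvd_pow_sub_pow q₀ 1 r
  obtain ⟨d, hd⟩ := hdvd
  rw [hd, Nat.mul_div_cancel_left _ (by omega : 0 < q₀ - 1)]
  rw [hd] at hcount
  refine Nat.eq_of_mul_eq_mul_right (by omega : 0 < q₀ - 1) ?_
  rw [hcount]; ring

end Cfsg.Agent.S2636
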