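import Cfsg.Statements.S2638
import Mathlib

set_option autoImplicit false
open Cfsg
open Matrix
set_option maxHeartbeats 1000000

namespace Cfsg.Agent.S2638

/-- If an element x of GL_n(q), n ≥ 1, has prime order r and the multiplicative order of q modulo r is n (r is a primitive prime divisor of q^n − 1, so x acts irreducibly), then the centraliser of x in GL_n(q) is cyclic of order q^n − 1 (the multiplicative group of the field with q^n elements, a Singer cycle). -/
theorem result {F : Type*} [Field F] [Fintype F] {p q : ℕ} [Fact p.Prime] [CharP F p] (hF : Fintype.card F = q) {n r : ℕ} (hn : 1 ≤ n) (hr : r.Prime) (hrp : r ≠ p) (hi : orderOf (q : ZMod r) = n) (x : GL (Fin n) F) (hx : orderOf x = r) : IsCyclic ↥(Subgroup.centralizer ({x} : Set (GL (Fin n) F))) ∧ Nat.card ↥(Subgroup.centralizer ({x} : Set (GL (Fin n) F))) = q ^ n - 1 := by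
  classical
  haveI := Fact.mk hr
  have hq0 : 0 < orderOf (q : ZMod r) := hi ▸ hn
  set X₀ := (x : Matrix (Fin n) (Fin n) F)
  set T : Module.End F (Fin n → F) := Matrix.toLinAlgEquiv' X₀
  let perm : GL (Fin n) F →* Equiv.Perm (Fin n → F) :=
    { toFun := fun g => ⟨(g : Matrix (Fin n) (Fin n) F).mulVec, (g⁻¹ : GL (Fin n) F).val.mulVec,
        fun v => by simp [mulVec_mulVec], fun v => by simp [mulVec_mulVec]⟩
      map_one' := Equiv.ext fun v => one_mulVec v
      map_mul' := fun a b => Equiv.ext fun v => (mulVec_mulVec v _ _).symm }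
  -- counting modulo `r` on invariant subspaces
  have hcount : ∀ W : Submodule F (Fin n → F), (∀ v ∈ W, X₀.mulVec v ∈ W) →
      q ^ Module.finrank F W ≡ Nat.card {v : Fin n → F // v ∈ W ∧ X₀.mulVec v = v} [MOD r] := by
    intro W hW
    have hpowmem : ∀ (k : ℕ) (v), v ∈ W → ((x ^ k : GL (Fin n) F) : Matrix (Fin n) (Fin n) F).mulVec v ∈ W := by
      intro k
      induction k with
      | zero => intro v hv; rwa [pow_zero, Units.val_one, one_mulVec]
      | succ k ih => intro v hv; rw [pow_succ, Units.val_mul, ← mulVec_mulVec]; exact ih _ (hW v hv)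
    have hmem : ∀ g : Subgroup.zpowers x, ∀ v ∈ W, ((g : GL (Fin n) F) : Matrix (Fin n) (Fin n) F).mulVec v ∈ W := by
      rintro ⟨g, hg⟩ v hv
      obtain ⟨k, rfl⟩ := mem_powers_iff_mem_zpowers.2 hg
      exact hpowmem k v hv
    letI : MulAction (Subgroup.zpowers x) W :=
      { smul := fun g w => ⟨((g : GL (Fin n) F) : Matrix (Fin n) (Fin n) F).mulVec w, hmem g w w.2⟩
        one_smul := fun w => Subtype.ext (one_mulVec _)
        mul_smul := fun a b w => Subtype.ext (mulVec_mulVec (w : Fin n → F) ((a : GL (Fin n) F) : Matrix (Fin n) (Fin n) F) ((b : GL (Fin n) F) : Matrix (Fin n) (Fin n) F)).symm }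
    have hP : IsPGroup r (Subgroup.zpowers x) := IsPGroup.of_card (n := 1) (by rw [Nat.card_zpowers, hx, pow_one])
    have h := hP.card_modEq_card_fixedPoints W
    rw [Nat.card_eq_fintype_card, Module.card_eq_pow_finrank (K := F) (V := W), hF] at h
    refine h.trans (congrArg (· % r) ?_)
    refine Nat.card_congr ⟨fun w => ⟨w.1.1, w.1.2, congrArg Subtype.val (w.2 ⟨x, Subgroup.mem_zpowers x⟩)⟩,
      fun v => ⟨⟨v.1, v.2.1⟩, ?_⟩, fun w => rfl, fun v => rfl⟩
    rintro ⟨g, hg⟩
    obtain ⟨k, rfl⟩ := mem_powers_iff_mem_zpowers.2 hg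
    refine Subtype.ext ?_
    show ((x ^ k : GL (Fin n) F) : Matrix (Fin n) (Fin n) F).mulVec v.1 = v.1
    induction k with
    | zero => rw [pow_zero, Units.val_one, one_mulVec]
    | succ k ih => rw [pow_succ, Units.val_mul, ← mulVec_mulVec, v.2.2]; exact ih (Subgroup.pow_mem _ (Subgroup.mem_zpowers x) k)
  have hdvd : ∀ d : ℕ, q ^ d ≡ 1 [MOD r] → n ∣ d := fun d h => by
    rw [← hi]
    refine orderOf_dvd_of_pow_eq_one ?_
    rw [← Nat.cast_pow, ← Nat.cast_one, ZMod.natCast_eq_natCast_iff]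
    exact h
  have hqn : q ^ n ≡ 1 [MOD r] := by
    rw [← ZMod.natCast_eq_natCast_iff, Nat.cast_pow, Nat.cast_one, ← hi, pow_orderOf_eq_one]
  -- no fixed vectors
  let Fx : Submodule F (Fin n → F) := LinearMap.ker (Matrix.mulVecLin X₀ - 1)
  have hFx : ∀ v, v ∈ Fx ↔ X₀.mulVec v = v := fun v => by simp [Fx, sub_eq_zero]
  have hfix : ∀ v, X₀.mulVec v = v → v = 0 := by
    intro v hv
    have h1 := hcount ⊤ (fun v _ => Submodule.mem_top)
    rw [finrank_top, Module.finrank_fin_fun] at h1
    have h2 := hcount Fx (fun v hv => by rw [hFx] at hv ⊢; rw [hv, hv])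
    have e : Nat.card {v : Fin n → F // v ∈ (⊤ : Submodule F (Fin n → F)) ∧ X₀.mulVec v = v} =
        Nat.card {v : Fin n → F // v ∈ Fx ∧ X₀.mulVec v = v} :=
      Nat.card_congr (Equiv.subtypeEquivRight fun v => by rw [hFx]; simp)
    rw [e] at h1
    have hd := hdvd _ ((h2.trans h1.symm).trans hqn)
    have hle := Submodule.finrank_le Fx
    rw [Module.finrank_fin_fun] at hle
    rcases Nat.eq_zero_or_pos (Module.finrank F Fx) with h0 | h0
    · rw [Submodule.finrank_eq_zero] at h0
      have := (hFx v).2 hv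
      rwa [h0, Submodule.mem_bot] at this
    · exfalso
      have htop : Fx = ⊤ := Submodule.eq_top_of_finrank_eq (by
        rw [Module.finrank_fin_fun]; exact le_antisymm hle (Nat.le_of_dvd h0 hd))
      have hx1 : x = 1 := Units.ext (Matrix.toLin'.injective (LinearMap.ext fun w => by
        have := (hFx w).1 (htop ▸ Submodule.mem_top)
        simpa [X₀] using this))
      rw [hx1, orderOf_one] at hx
      exact hr.ne_one hx.symm
  -- every nonzero vector is cyclic
  have hspan : ∀ v, v ≠ 0 → Submodule.span F (Set.range fun i : ℕ => (T ^ i) v) = ⊤ := by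
    intro v hv
    set W := Submodule.span F (Set.range fun i : ℕ => (T ^ i) v)
    have hW : ∀ w ∈ W, X₀.mulVec w ∈ W := by
      suffices h : W.map T ≤ W from fun w hw => h (Submodule.mem_map_of_mem hw)
      rw [Submodule.map_span, Submodule.span_le]
      rintro _ ⟨_, ⟨i, rfl⟩, rfl⟩
      exact Submodule.subset_span ⟨i + 1, by simp [pow_succ']⟩
    have h := hcount W hW
    haveI : Unique {w : Fin n → F // w ∈ W ∧ X₀.mulVec w = w} :=
      ⟨⟨⟨0, W.zero_mem, mulVec_zero _⟩⟩, fun w => Subtype.ext (hfix _ w.2.2)⟩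
    rw [Nat.card_unique] at h
    have hd := hdvd _ h
    have hle := Submodule.finrank_le W
    rw [Module.finrank_fin_fun] at hle
    refine Submodule.eq_top_of_finrank_eq ?_
    rw [Module.finrank_fin_fun]
    refine le_antisymm hle (Nat.le_of_dvd (Nat.pos_of_ne_zero fun h0 => hv ?_) hd)
    rw [Submodule.finrank_eq_zero] at h0
    have hm : v ∈ W := Submodule.subset_span ⟨0, by simp⟩
    rwa [h0, Submodule.mem_bot] at hm
  have hext : ∀ v, v ≠ 0 → ∀ g h : Matrix (Fin n) (Fin n) F, Commute g X₀ → Commute h X₀ → g.mulVec v = h.mulVec v → g = h := by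
    intro v hv g h hg hh he
    apply Matrix.toLinAlgEquiv'.injective
    refine LinearMap.ext_on_range (hspan v hv) fun i => ?_
    have key : ∀ g : Matrix (Fin n) (Fin n) F, Commute g X₀ →
        Matrix.toLinAlgEquiv' g ((T ^ i) v) = (T ^ i) (g.mulVec v) := fun g hg =>
      LinearMap.congr_fun ((hg.map Matrix.toLinAlgEquiv'.toRingHom).pow_right i).eq v
    rw [key g hg, key h hh, he]
  set S := Algebra.adjoin F ({X₀} : Set (Matrix (Fin n) (Fin n) F))
  have hSc : ∀ s ∈ S, Commute s X₀ := fun s hs => by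
    induction hs using Algebra.adjoin_induction with
    | mem y hy => rw [Set.mem_singleton_iff.1 hy]
    | algebraMap c => exact Algebra.commute_algebraMap_left c X₀
    | add a b _ _ ha hb => exact ha.add_left hb
    | mul a b _ _ ha hb => exact ha.mul_left hb
  have hex : ∀ v, v ≠ 0 → ∀ t, ∃ g ∈ S, g.mulVec v = t := by
    intro v hv t
    have ht : t ∈ Submodule.span F (Set.range fun i : ℕ => (T ^ i) v) := by
      rw [hspan v hv]; exact Submodule.mem_top
    induction ht using Submodule.span_induction with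
    | mem y hy =>
      obtain ⟨i, rfl⟩ := hy
      refine ⟨X₀ ^ i, S.pow_mem (Algebra.self_mem_adjoin_singleton F X₀) i, ?_⟩
      simp only [T, ← map_pow, Matrix.toLinAlgEquiv'_apply]
    | zero => exact ⟨0, S.zero_mem, zero_mulVec _⟩
    | add a b _ _ ha hb =>
      obtain ⟨g, hg, rfl⟩ := ha
      obtain ⟨h, hh, rfl⟩ := hb
      exact ⟨g + h, S.add_mem hg hh, add_mulVec _ _ _⟩
    | smul c a _ ha =>
      obtain ⟨g, hg, rfl⟩ := ha
      exact ⟨c • g, S.smul_mem hg c, smul_mulVec _ _ _⟩
  haveI : Nonempty (Fin n) := ⟨⟨0, hn⟩⟩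
  obtain ⟨v₀, hv₀⟩ := exists_ne (0 : Fin n → F)
  set C := Subgroup.centralizer ({x} : Set (GL (Fin n) F))
  have hC : ∀ g : GL (Fin n) F, g ∈ C → Commute (g : Matrix (Fin n) (Fin n) F) X₀ := fun g hg =>
    congrArg Units.val (Subgroup.mem_centralizer_singleton_iff.1 hg)
  have hCS : ∀ g : GL (Fin n) F, g ∈ C → (g : Matrix (Fin n) (Fin n) F) ∈ S := fun g hg => by
    obtain ⟨s, hs, hsv⟩ := hex v₀ hv₀ ((g : Matrix (Fin n) (Fin n) F).mulVec v₀)
    rw [← hext v₀ hv₀ _ _ (hSc s hs) (hC g hg) hsv]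
    exact hs
  letI : CommRing S :=
    { (inferInstance : Ring S) with
      mul_comm := fun a b => Subtype.ext (by
        have h : ∀ a ∈ S, ∀ b ∈ S, Commute a b := fun a ha b hb => by
          induction ha using Algebra.adjoin_induction with
          | mem y hy => rw [Set.mem_singleton_iff.1 hy]; exact (hSc b hb).symm
          | algebraMap c => exact Algebra.commute_algebraMap_left c b
          | add u v _ _ hu hv => exact hu.add_left hv
          | mul u v _ _ hu hv => exact hu.mul_left hv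
        exact (h a a.2 b b.2).eq) }
  haveI : Nontrivial S := ⟨⟨1, 0, fun e => one_ne_zero (congrArg Subtype.val e : (1 : Matrix (Fin n) (Fin n) F) = 0)⟩⟩
  haveI : NoZeroDivisors S := ⟨fun {a b} hab => by
    by_cases hb : (b : Matrix (Fin n) (Fin n) F) = 0
    · exact Or.inr (Subtype.ext hb)
    · refine Or.inl (Subtype.ext (hext ((b : Matrix (Fin n) (Fin n) F).mulVec v₀) (fun h0 => hb ?_) _ _ (hSc a a.2) (Commute.zero_left _) ?_))
      · exact hext v₀ hv₀ _ _ (hSc b b.2) (Commute.zero_left _) (h0.trans (zero_mulVec _).symm)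
      · rw [mulVec_mulVec, show (a : Matrix (Fin n) (Fin n) F) * b = 0 from congrArg Subtype.val hab, zero_mulVec]
        exact (zero_mulVec _).symm⟩
  haveI : IsDomain S := NoZeroDivisors.to_isDomain S
  let φ : C →* S :=
    { toFun := fun g => ⟨((g : GL (Fin n) F) : Matrix (Fin n) (Fin n) F), hCS g g.2⟩
      map_one' := rfl
      map_mul' := fun _ _ => rfl }
  have hcyc : IsCyclic C := isCyclic_of_injective_ringHom φ (fun a b h => Subtype.ext (Units.ext (congrArg Subtype.val h)))
  refine ⟨hcyc, ?_⟩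
  let f : C → {v : Fin n → F // v ≠ 0} := fun g => ⟨((g : GL (Fin n) F) : Matrix (Fin n) (Fin n) F).mulVec v₀, fun h => hv₀ (by
    simpa [mulVec_mulVec] using congrArg (((g : GL (Fin n) F)⁻¹ : GL (Fin n) F) : Matrix (Fin n) (Fin n) F).mulVec h)⟩
  have hf : Function.Bijective f := by
    refine ⟨fun a b h => Subtype.ext (Units.ext (hext v₀ hv₀ _ _ (hC a a.2) (hC b b.2) (congrArg Subtype.val h))), ?_⟩
    rintro ⟨w, hw⟩
    obtain ⟨g, hg, hgv⟩ := hex v₀ hv₀ w
    obtain ⟨h, hh, hhv⟩ := hex w hw v₀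
    have h1 : h * g = 1 := hext v₀ hv₀ _ _ ((hSc h hh).mul_left (hSc g hg)) (Commute.one_left _) (by rw [← mulVec_mulVec, hgv, hhv, one_mulVec])
    exact ⟨⟨⟨g, h, mul_eq_one_comm.1 h1, h1⟩, Subgroup.mem_centralizer_singleton_iff.2 (Units.ext (hSc g hg).eq)⟩, Subtype.ext hgv⟩
  rw [Nat.card_eq_of_bijective f hf, Nat.card_eq_fintype_card, Fintype.card_subtype_compl, Fintype.card_subtype_eq,
    Fintype.card_fun, hF, Fintype.card_fin]

end Cfsg.Agent.S2638
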