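import Cfsg.Statements.S2639
import Cfsg.Agent.Lib.Classical.FieldExtension

set_option autoImplicit false
open Cfsg

open Cfsg.Agent.Classical
open Module

namespace Cfsg.Agent.S2639

/-- The unitary group embeds in the symplectic group of twice the dimension over the subfield: for a field K with q² elements and a field F with q elements (isomorphic to the subfield of K of order q), there is an injective homomorphism GU_m(q) → Sp_2m(F). -/
theorem result {K F : Type*} [Field K] [Fintype K] [Field F] [Fintype F] {q : ℕ} (hK : Fintype.card K = q ^ 2) (hF : Fintype.card F = q) (m : ℕ) : ∃ φ : ↥(Cfsg.GU m K q) →* ↥(Matrix.symplecticGroup (Fin m) F), Function.Injective φ := by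
  classical
  obtain ⟨i, σ, T, hσ, hne, hinv, hT, hTl, hzero, hfix⟩ := FieldExt.exists_setup hF hK
  letI : Algebra F K := i.toAlgebra
  obtain ⟨a, ha⟩ : ∃ a, σ a ≠ a := by
    by_contra hc
    simp only [not_exists, not_not] at hc
    exact hne (RingHom.ext hc)
  set β := σ a - a with hβdef
  have hβ0 : β ≠ 0 := sub_ne_zero.2 ha
  have hβ : σ β = -β := by rw [hβdef, map_sub, hinv]; ring
  have hA : (FieldExt.trForm (ι := Fin m) σ T hTl hfix β).IsAlt := fun u => i.injective (by
    have hs : σ (∑ j, u j * σ (u j)) = ∑ j, u j * σ (u j) := by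
      rw [map_sum]; exact Finset.sum_congr rfl fun j _ => by rw [map_mul, hinv, mul_comm]
    rw [FieldExt.trForm_apply, hT, map_mul, hs, hβ, map_zero]; ring)
  have hB : Sp.Nondeg (FieldExt.trForm (ι := Fin m) σ T hTl hfix β) := fun u hu => by
    by_contra hc
    simp only [not_exists, not_not] at hc
    refine hu (funext fun j => ?_)
    refine (mul_eq_zero.1 (hzero (β * u j) fun c => ?_)).resolve_left hβ0
    have h := hc (Pi.single j (σ c))
    rw [FieldExt.trForm_apply, Finset.sum_eq_single j (fun k _ hk => by simp [Pi.single_eq_of_ne hk]) (by simp),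
      Pi.single_eq_same, hinv] at h
    rwa [mul_left_comm, mul_comm c]
  obtain ⟨φ, hφ⟩ := FieldExt.exists_hom_symp ((FieldExt.restrictHom (F := F)).comp (Cfsg.GU m K q).subtype)
    (FieldExt.restrictHom_injective.comp Subtype.val_injective) _ hA hB
    (m := m) (by rw [FieldExt.finrank_eq hF hK, Fintype.card_fin])
    (fun g x y => by
      have hh := g.2 x y
      simp only [Cfsg.hermForm, ← hσ] at hh
      rw [FieldExt.trForm_apply, FieldExt.trForm_apply]
      exact congrArg (fun z => T (β * z)) hh)
  exact ⟨φ, hφ⟩

end Cfsg.Agent.S2639
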