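import Cfsg.Statements.S2640
import Cfsg.Agent.Lib.Classical.FieldExtension

set_option autoImplicit false
open Cfsg

open Cfsg.Agent.Classical
open Module QuadraticMap

namespace Cfsg.Agent.S2640

/-- For m even, the unitary group GU_m(q) (over the field with q² elements) embeds in the orthogonal group O⁺_2m(q) of the hyperbolic form Σ x_i y_i over the field with q elements (there is an injective homomorphism). -/
theorem result {K F : Type*} [Field K] [Fintype K] [Field F] [Fintype F] {q : ℕ} (hK : Fintype.card K = q ^ 2) (hF : Fintype.card F = q) (m : ℕ) (hm : Even m) : ∃ φ : ↥(Cfsg.GU m K q) →* ↥(Cfsg.isometryGroup F (Cfsg.quadFormPlus m F)), Function.Injective φ := by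
  classical
  obtain ⟨i, σ, T, hσ, hne, hinv, hT, hTl, hzero, hfix⟩ := FieldExt.exists_setup hF hK
  letI : Algebra F K := i.toAlgebra
  obtain ⟨c, hc⟩ : ∃ c, T c ≠ 0 := by
    by_contra hc
    simp only [not_exists, not_not] at hc
    exact one_ne_zero (hzero 1 fun a => hc _)
  set γ := i (T c)⁻¹ * c
  have hγ : T γ = 1 := by rw [hTl, inv_mul_cancel₀ hc]
  set Q := LinearMap.BilinMap.toQuadraticMap (FieldExt.trForm (ι := Fin m) σ T hTl hfix γ)
  have hQ := FieldExt.norm_nondeg σ T hTl hfix hinv hT hzero (ι := Fin m) hγ
  have hn := FieldExt.algebraMap_norm σ T hTl hfix hinv hT (ι := Fin m) hγ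
  have hV : finrank F (Fin m → K) = 2 * m := by rw [FieldExt.finrank_eq hF hK, Fintype.card_fin]
  obtain ⟨t, ht⟩ := OrthBasis.exists_norm hne hinv (a := (-1 : K)) (by simp) (by simp)
  obtain ⟨k, rfl⟩ := hm
  let f : (Fin k → K) →ₗ[F] (Fin (k + k) → K) :=
    { toFun := fun p => Fin.append p (fun j => t * p j)
      map_add' := fun p p' => by
        funext j
        refine Fin.addCases (fun l => ?_) (fun l => ?_) j <;> simp only [Pi.add_apply, Fin.append_left, Fin.append_right, mul_add]
      map_smul' := fun c p => by
        funext j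
        refine Fin.addCases (fun l => ?_) (fun l => ?_) j <;> simp only [RingHom.id_apply, Pi.smul_apply, Fin.append_left, Fin.append_right, mul_smul_comm] }
  have hf : Function.Injective f := fun p p' e => funext fun j => by
    have := congrFun e (Fin.castAdd k j)
    simpa [f] using this
  obtain ⟨φ, hφ⟩ := WittDec.exists_equiv_plus Q hQ hV ⟨LinearMap.range f, by
    rw [LinearMap.finrank_range_of_inj hf, FieldExt.finrank_eq hF hK, Fintype.card_fin]; omega, by
    rintro _ ⟨p, rfl⟩
    refine i.injective ?_
    rw [show i (Q (f p)) = _ from hn (f p), map_zero, Fin.sum_univ_add, ← Finset.sum_add_distrib]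
    refine Finset.sum_eq_zero fun j _ => ?_
    simp only [f, LinearMap.coe_mk, AddHom.coe_mk, Fin.append_left, Fin.append_right, map_mul]
    linear_combination (p j * σ (p j)) * ht⟩
  exact FieldExt.exists_hom_orth ((FieldExt.restrictHom (F := F)).comp (Cfsg.GU (k + k) K q).subtype)
    (FieldExt.restrictHom_injective.comp Subtype.val_injective) Q _ φ hφ
    (fun g x => i.injective (by
      have hh := g.2 x x
      simp only [Cfsg.hermForm, ← hσ] at hh
      exact (hn _).trans (hh.trans (hn x).symm)))

end Cfsg.Agent.S2640
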