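import Cfsg.Statements.S2641
import Cfsg.Agent.Lib.Classical.FieldExtension
import Cfsg.Agent.S0760

set_option autoImplicit false
open Cfsg

open Cfsg.Agent.Classical
open Module QuadraticMap

namespace Cfsg.Agent.S2641

/-- For m odd, the unitary group GU_m(q) (over the field with q² elements) embeds in the orthogonal group O⁻_2m(q) of an elliptic form (Σ_(i<m−1) x_i y_i plus an anisotropic binary form) over the field with q elements (there is an injective homomorphism). -/
theorem result {K F : Type*} [Field K] [Fintype K] [Field F] [Fintype F] {q : ℕ} (hK : Fintype.card K = q ^ 2) (hF : Fintype.card F = q) (m : ℕ) (hm : Odd m) (a b : F) (hab : ∀ z₁ z₂ : F, z₁ ^ 2 + a * z₁ * z₂ + b * z₂ ^ 2 = 0 → z₁ = 0 ∧ z₂ = 0) : ∃ φ : ↥(Cfsg.GU m K q) →* ↥(Cfsg.isometryGroup F (Cfsg.quadFormMinus (m - 1) F a b)), Function.Injective φ := by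
  classical
  obtain ⟨i, σ, T, hσ, hne, hinv, hT, hTl, hzero, hfix⟩ := FieldExt.exists_setup hF hK
  letI : Algebra F K := i.toAlgebra
  obtain ⟨c, hc⟩ : ∃ c, T c ≠ 0 := by
    by_contra hc
    simp only [not_exists, not_not] at hc
    exact one_ne_zero (hzero 1 fun a => hc _)
  set γ := i (T c)⁻¹ * c
  have hγ : T γ = 1 := by rw [hTl, inv_mul_cancel₀ hc]
  set Q := LinearMap.BilinMap.toQuadraticMap (FieldExt.trForm (ι := Fin m) σ T hTl hfix γ)
  have hQ := FieldExt.norm_nondeg σ T hTl hfix hinv hT hzero (ι := Fin m) hγ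
  have hn := FieldExt.algebraMap_norm σ T hTl hfix hinv hT (ι := Fin m) hγ
  have hV : finrank F (Fin m → K) = 2 * m := by rw [FieldExt.finrank_eq hF hK, Fintype.card_fin]
  obtain ⟨t, ht⟩ := OrthBasis.exists_norm hne hinv (a := (-1 : K)) (by simp) (by simp)
  have ht0 : t ≠ 0 := by rintro rfl; simp at ht
  obtain ⟨k, rfl⟩ := hm
  -- coordinates `(p, q, last)`
  let f : (Fin k → K) →ₗ[F] (Fin (2 * k + 1) → K) :=
    { toFun := fun p => Fin.snoc (fun j => Fin.append p (fun j => t * p j) (Fin.cast (two_mul k) j)) 0
      map_add' := fun p p' => by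
        funext j
        refine Fin.lastCases (by simp) (fun j => ?_) j
        simp only [Fin.snoc_castSucc, Pi.add_apply]
        generalize Fin.cast (two_mul k) j = j'
        refine Fin.addCases (fun l => ?_) (fun l => ?_) j' <;> simp only [Pi.add_apply, Fin.append_left, Fin.append_right, mul_add]
      map_smul' := fun c p => by
        funext j
        refine Fin.lastCases (by simp) (fun j => ?_) j
        simp only [Fin.snoc_castSucc, Pi.smul_apply, RingHom.id_apply]
        generalize Fin.cast (two_mul k) j = j'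
        refine Fin.addCases (fun l => ?_) (fun l => ?_) j' <;> simp only [Pi.smul_apply, Fin.append_left, Fin.append_right, mul_smul_comm] }
  have hsum : ∀ g : Fin (2 * k + 1) → K, ∑ j, g j =
      (∑ j, g (Fin.castSucc (Fin.cast (two_mul k).symm (Fin.castAdd k j))) +
       ∑ j, g (Fin.castSucc (Fin.cast (two_mul k).symm (Fin.natAdd k j)))) + g (Fin.last _) := fun g => by
    rw [Fin.sum_univ_castSucc, ← Fin.sum_univ_add (fun j => g (Fin.castSucc (Fin.cast (two_mul k).symm j)))]
    congr 1
    exact (Equiv.sum_comp (finCongr (two_mul k).symm) (fun j => g (Fin.castSucc j))).symm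
  have hfl : ∀ p j, f p (Fin.castSucc (Fin.cast (two_mul k).symm (Fin.castAdd k j))) = p j := fun p j => by simp [f]
  have hfr : ∀ p j, f p (Fin.castSucc (Fin.cast (two_mul k).symm (Fin.natAdd k j))) = t * p j := fun p j => by simp only [f, LinearMap.coe_mk, AddHom.coe_mk, Fin.snoc_castSucc, Fin.cast_cast, Fin.cast_eq_self, Fin.append_right]
  have hf0 : ∀ p, f p (Fin.last _) = 0 := fun p => by simp [f]
  have hfi : Function.Injective f := fun p p' e => funext fun j => by rw [← hfl p j, e, hfl]
  have hW0 : ∀ w ∈ LinearMap.range f, Q w = 0 := by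
    rintro _ ⟨p, rfl⟩
    refine i.injective ?_
    rw [show i (Q (f p)) = _ from hn (f p), map_zero, hsum]
    simp only [hfl, hfr, hf0, zero_mul, add_zero, map_mul, ← Finset.sum_add_distrib]
    exact Finset.sum_eq_zero fun j _ => by linear_combination (p j * σ (p j)) * ht
  have hmax : ∀ W : Submodule F (Fin (2 * k + 1) → K), LinearMap.range f ≤ W → (∀ w ∈ W, Q w = 0) → W = LinearMap.range f := by
    intro W hle hW
    refine le_antisymm (fun x hx => ?_) hle
    have hp : ∀ p, polar Q (f p) x = 0 := fun p => by
      rw [polar, hW _ (W.add_mem (hle ⟨p, rfl⟩) hx), hW _ (hle ⟨p, rfl⟩), hW _ hx]; ring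
    have hab : ∀ j, x (Fin.castSucc (Fin.cast (two_mul k).symm (Fin.natAdd k j))) =
        t * x (Fin.castSucc (Fin.cast (two_mul k).symm (Fin.castAdd k j))) := by
      intro j
      set a := x (Fin.castSucc (Fin.cast (two_mul k).symm (Fin.castAdd k j)))
      set b := x (Fin.castSucc (Fin.cast (two_mul k).symm (Fin.natAdd k j)))
      have key : ∀ c : K, T (c * (σ a + t * σ b)) = 0 := fun c => by
        have h := hp (Pi.single j c)
        refine i.injective ?_
        have hpol : ∀ u v, i (polar Q u v) = (∑ l, u l * σ (v l)) + ∑ l, v l * σ (u l) := fun u v => by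
          rw [polar, map_sub, map_sub, show i (Q (u + v)) = _ from hn (u + v), show i (Q u) = _ from hn u,
            show i (Q v) = _ from hn v, ← Finset.sum_sub_distrib, ← Finset.sum_sub_distrib, ← Finset.sum_add_distrib]
          exact Finset.sum_congr rfl fun l _ => by rw [Pi.add_apply, map_add]; ring
        have h' := congrArg i h
        rw [hpol, hsum, hsum] at h'
        simp only [hfl, hfr, hf0, zero_mul, mul_zero, map_zero, add_zero] at h'
        rw [Finset.sum_eq_single j (fun l _ hl => by simp [Pi.single_eq_of_ne hl]) (by simp),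
          Finset.sum_eq_single j (fun l _ hl => by simp [Pi.single_eq_of_ne hl]) (by simp),
          Finset.sum_eq_single j (fun l _ hl => by simp [Pi.single_eq_of_ne hl]) (by simp),
          Finset.sum_eq_single j (fun l _ hl => by simp [Pi.single_eq_of_ne hl]) (by simp),
          Pi.single_eq_same] at h'
        rw [hT, map_zero, map_mul, map_add, map_mul, hinv, hinv]
        rw [map_mul] at h'
        linear_combination h'
      have h0 := congrArg σ (hzero _ key)
      rw [map_add, map_mul, hinv, hinv, map_zero] at h0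
      linear_combination -t * h0 + b * ht
    refine ⟨fun j => x (Fin.castSucc (Fin.cast (two_mul k).symm (Fin.castAdd k j))), ?_⟩
    have hlast : x (Fin.last _) = 0 := by
      have h := congrArg i (hW x hx)
      rw [show i (Q x) = _ from hn x, map_zero, hsum] at h
      simp only [hab, map_mul, ← Finset.sum_add_distrib] at h
      rw [Finset.sum_eq_zero fun j _ => by
        linear_combination (x (Fin.castSucc (Fin.cast (two_mul k).symm (Fin.castAdd k j))) *
          σ (x (Fin.castSucc (Fin.cast (two_mul k).symm (Fin.castAdd k j))))) * ht, zero_add] at h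
      rcases mul_eq_zero.1 h with h | h
      · exact h
      · exact σ.injective (h.trans (map_zero σ).symm)
    funext j
    refine Fin.lastCases ((hf0 _).trans hlast.symm) (fun j => ?_) j
    obtain ⟨j', rfl⟩ : ∃ j', Fin.cast (two_mul k).symm j' = j := ⟨Fin.cast (two_mul k) j, rfl⟩
    refine Fin.addCases (fun l => hfl _ l) (fun l => ?_) j'
    rw [hfr, hab]
  have hno : ¬ ∃ W : Submodule F (Fin (2 * k + 1) → K), finrank F W = 2 * k + 1 ∧ ∀ w ∈ W, Q w = 0 := by
    rintro ⟨W, hd, hW⟩
    have h := Cfsg.Agent.S0760.le_of_max Q hQ (LinearMap.range f) W hW0 hW hmax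
    rw [hd, LinearMap.finrank_range_of_inj hfi, FieldExt.finrank_eq hF hK, Fintype.card_fin] at h
    omega
  obtain ⟨φ, hφ⟩ := WittDec.exists_equiv_minus Q hQ hV hno a b hab
  exact FieldExt.exists_hom_orth ((FieldExt.restrictHom (F := F)).comp (Cfsg.GU (2 * k + 1) K q).subtype)
    (FieldExt.restrictHom_injective.comp Subtype.val_injective) Q _ φ hφ
    (fun g x => i.injective (by
      have hh := g.2 x x
      simp only [Cfsg.hermForm, ← hσ] at hh
      exact (hn _).trans (hh.trans (hn x).symm)))

end Cfsg.Agent.S2641
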