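import Cfsg.Statements.S2644
import Cfsg.Agent.Lib.Classical.UnitaryTransvConj

set_option autoImplicit false
open Cfsg

namespace Cfsg.Agent.S2644

/-- In the special unitary group SU_n(q) with n ≥ 3 (isometries of Σ u_i v_i^q of determinant one over the field with q² elements), any two transvections (elements t with t − 1 of rank one and square zero) are conjugate. -/
theorem result {K : Type*} [Field K] [Fintype K] {q n : ℕ} (hK : Fintype.card K = q ^ 2) (hn : 3 ≤ n) (s t : ↥(Cfsg.SU n K q)) (hs : Cfsg.IsTransvection (((s : GL (Fin n) K) : Matrix (Fin n) (Fin n) K))) (ht : Cfsg.IsTransvection (((t : GL (Fin n) K) : Matrix (Fin n) (Fin n) K))) : IsConj s t := by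
  obtain ⟨σ, B, hσ, hσ2, hS, hB⟩ := Cfsg.Agent.Classical.Unitary.exists_sesq hK n
  have hp : ∀ (s : ↥(Cfsg.SU n K q)) x y, B (((s : Matrix.SpecialLinearGroup (Fin n) K) : Matrix (Fin n) (Fin n) K).mulVec x)
      (((s : Matrix.SpecialLinearGroup (Fin n) K) : Matrix (Fin n) (Fin n) K).mulVec y) = B x y := fun s x y => by
    rw [hB, hB]; exact s.2 y x
  have hnd : B.Nondegenerate := by
    have hq0 : q ≠ 0 := by have := Cfsg.Agent.Classical.Unitary.one_lt_q hK; omega
    have hs : ∀ (x : Fin n → K) i, Cfsg.hermForm n K q x (Pi.single i 1) = x i := fun x i => by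
      simp [Cfsg.hermForm, Pi.single_apply, hq0]
    refine ⟨fun x hx => funext fun i => ?_, fun y hy => funext fun i => ?_⟩
    · have h := hx (Pi.single i 1)
      rw [← hS.eq, hB, hs] at h
      exact (map_eq_zero σ).1 h
    · have h := hy (Pi.single i 1)
      rwa [hB, hs] at h
  have hN : ∀ a : K, a ≠ 0 → σ a = a → ∃ c : K, c * σ c = a := fun a ha hfix => by
    obtain ⟨c, hc⟩ := Cfsg.Agent.Classical.OrthBasis.exists_norm hσ hσ2 ha hfix
    exact ⟨c, by rw [mul_comm, hc]⟩
  obtain ⟨g, hdet, hg, hconj⟩ := Cfsg.Agent.UnitaryTransvConj.exists_conj hσ hσ2 B hS hnd hn hN hs ht (hp s) (hp t)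
  refine isConj_iff.2 ⟨⟨⟨g, hdet⟩, fun x y => by rw [← hB, ← hB]; exact hg y x⟩, ?_⟩
  rw [mul_inv_eq_iff_eq_mul]
  exact Subtype.ext (Subtype.ext hconj)

end Cfsg.Agent.S2644
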