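import Cfsg.Statements.S4624
import Cfsg.Agent.S2250
import Cfsg.Agent.S0261
import Cfsg.Agent.S4623
import Cfsg.Agent.Lib.Perm.SylowSymmGen
-- import your own Cfsg.Agent.* helpers here

set_option autoImplicit false
open Cfsg

namespace Cfsg.Agent.S4624


open scoped Pointwise

theorem quat_sq (k : ℕ) (hk : 1 ≤ k) (x : QuaternionGroup (2 ^ k)) : x ^ 2 ∈ commutator (QuaternionGroup (2 ^ k)) := by
  haveI : NeZero (2 ^ k) := ⟨by positivity⟩
  have hc : ∀ j : ZMod (2 * 2 ^ k), QuaternionGroup.a (2 * j) ∈ commutator (QuaternionGroup (2 ^ k)) := by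
    intro j
    have h := Subgroup.commutator_mem_commutator (Subgroup.mem_top (QuaternionGroup.a (n := 2 ^ k) j))
      (Subgroup.mem_top (QuaternionGroup.xa (n := 2 ^ k) 0))
    rw [← commutator_def] at h
    convert h using 1
    rw [commutatorElement_def, mul_assoc, mul_assoc]
    rw [show (QuaternionGroup.a (n := 2 ^ k) j)⁻¹ = QuaternionGroup.a (-j) from rfl,
      show (QuaternionGroup.xa (n := 2 ^ k) 0)⁻¹ = QuaternionGroup.xa (((2 ^ k : ℕ) : ZMod (2 * 2 ^ k)) + 0) from rfl]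
    simp only [QuaternionGroup.a_mul_xa, QuaternionGroup.xa_mul_xa, QuaternionGroup.a_mul_a, QuaternionGroup.xa_mul_a]
    congr 1
    have h2 : ((2 ^ k : ℕ) : ZMod (2 * 2 ^ k)) + ((2 ^ k : ℕ) : ZMod (2 * 2 ^ k)) = 0 := by
      rw [← Nat.cast_add, ← two_mul, ZMod.natCast_self]
    linear_combination -h2
  obtain ⟨r, rfl⟩ : ∃ r, k = r + 1 := ⟨k - 1, by omega⟩
  rcases x with i | i
  · rw [sq, QuaternionGroup.a_mul_a, ← two_mul]; exact hc i
  · rw [sq, QuaternionGroup.xa_mul_xa]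
    have e : ((2 ^ (r + 1) : ℕ) : ZMod (2 * 2 ^ (r + 1))) + i - i = 2 * ((2 ^ r : ℕ) : ZMod (2 * 2 ^ (r + 1))) := by
      rw [add_sub_cancel_right, show (2 : ZMod (2 * 2 ^ (r + 1))) = ((2 : ℕ) : ZMod (2 * 2 ^ (r + 1))) from (Nat.cast_two).symm, ← Nat.cast_mul]
      congr 1
      rw [pow_succ, mul_comm]
    rw [e]; exact hc _

theorem kill_sq {X H : Type*} [Group X] [Group H] (j : X →* H) (hX : ∀ y : X, y ^ 2 ∈ commutator X) (y : X) :
    (Abelianization.of (j y)) ^ 2 = 1 := by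
  rw [← map_pow, ← map_pow, ← MonoidHom.mem_ker, Abelianization.ker_of]
  have h1 : (commutator X).map j ≤ commutator H := by
    rw [commutator_def, Subgroup.map_commutator, commutator_def]
    exact Subgroup.commutator_mono le_top le_top
  exact h1 ⟨_, hX y, rfl⟩

open Cfsg.Agent.S2250 in
theorem exists_sylow {F : Type*} [Field F] [Fintype F] (hF : Odd (Fintype.card F)) (n : ℕ) :
    ∃ P : Sylow 2 (Matrix.symplecticGroup (Fin n) F),
      ∀ x : (P : Subgroup (Matrix.symplecticGroup (Fin n) F)), x ^ 2 ∈ commutator (P : Subgroup (Matrix.symplecticGroup (Fin n) F)) := by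
  classical
  haveI : Fact (Nat.Prime 2) := ⟨Nat.prime_two⟩
  obtain ⟨Q⟩ : Nonempty (Sylow 2 (Matrix.SpecialLinearGroup (Fin 2) F)) := inferInstance
  obtain ⟨T⟩ : Nonempty (Sylow 2 (Equiv.Perm (Fin n))) := inferInstance
  obtain ⟨k, hk, ⟨eQ⟩⟩ := Cfsg.Agent.S0261.result hF Q
  have hQsq := fun y => Cfsg.Agent.Perm.SylowSymmGen.pow_mem_commutator_of_equiv (p := 2) eQ.symm (quat_sq k hk) y
  have hTsq := (Cfsg.Agent.S4623.result 2 n T (default : Sylow 2 (alternatingGroup (Fin n)))).1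
  let fD : (Fin n → (Q : Subgroup (Matrix.SpecialLinearGroup (Fin 2) F))) →* Matrix.symplecticGroup (Fin n) F :=
    (D (F := F) (n := n)).comp
      { toFun := fun a i => (a i).1, map_one' := rfl, map_mul' := fun _ _ => rfl }
  let fW : (T : Subgroup (Equiv.Perm (Fin n))) →* Matrix.symplecticGroup (Fin n) F :=
    (W (F := F) (n := n)).comp (T : Subgroup (Equiv.Perm (Fin n))).subtype
  let H := fW.range ⊔ fD.range
  have hWD : fW.range ≤ Subgroup.normalizer (fD.range : Set (Matrix.symplecticGroup (Fin n) F)) := by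
    have key : ∀ τ : (T : Subgroup (Equiv.Perm (Fin n))), ∀ g ∈ fD.range, fW τ * g * (fW τ)⁻¹ ∈ fD.range := by
      rintro τ _ ⟨a, rfl⟩
      refine ⟨fun i => a ((τ : Equiv.Perm (Fin n))⁻¹ i), ?_⟩
      show D (fun i => (a ((τ : Equiv.Perm (Fin n))⁻¹ i)).1) = W (τ : Equiv.Perm (Fin n)) * D (fun i => (a i).1) * (W (τ : Equiv.Perm (Fin n)))⁻¹
      rw [push, mul_inv_cancel_right]
      rfl
    rintro _ ⟨σ, rfl⟩
    rw [Subgroup.mem_normalizer_iff]
    refine fun g => ⟨key σ g, fun h => ?_⟩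
    have := key σ⁻¹ _ h
    rwa [map_inv, inv_inv, show (fW σ)⁻¹ * (fW σ * g * (fW σ)⁻¹) * fW σ = g by group] at this
  let Φ : ↥(T : Subgroup (Equiv.Perm (Fin n))) × (Fin n → ↥(Q : Subgroup (Matrix.SpecialLinearGroup (Fin 2) F))) → ↥H :=
    fun p => ⟨fW p.1 * fD p.2, mul_mem (Subgroup.mem_sup_left ⟨_, rfl⟩) (Subgroup.mem_sup_right ⟨_, rfl⟩)⟩
  have hbij : Function.Bijective Φ := by
    refine ⟨?_, fun g => ?_⟩
    · rintro ⟨σ, a⟩ ⟨τ, b⟩ h
      have h' := WD_injective (F := F) (n := n) (fun _ _ => trivial)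
        (a₁ := ((σ : Equiv.Perm (Fin n)), fun i => (a i).1)) (a₂ := ((τ : Equiv.Perm (Fin n)), fun i => (b i).1))
        (congrArg Subtype.val h)
      exact Prod.ext (Subtype.ext (congrArg Prod.fst h'))
        (funext fun i => Subtype.ext (congrFun (congrArg Prod.snd h') i))
    · have hg : (g : Matrix.symplecticGroup (Fin n) F) ∈
          (fW.range : Set (Matrix.symplecticGroup (Fin n) F)) * (fD.range : Set (Matrix.symplecticGroup (Fin n) F)) := by
        rw [← Subgroup.coe_mul_of_left_le_normalizer_right _ _ hWD]; exact g.2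
      obtain ⟨_, ⟨σ, rfl⟩, _, ⟨A, rfl⟩, e⟩ := hg
      exact ⟨(σ, A), Subtype.ext e⟩
  set q := Fintype.card F with hq
  have hq1 : 1 < q := Fintype.one_lt_card
  have hqodd : ¬ 2 ∣ q := Nat.odd_iff.1 hF |> fun h h' => by omega
  have hq2 : q ^ 2 - 1 ≠ 0 := by
    have : 1 < q ^ 2 := Nat.one_lt_pow (by omega) hq1
    omega
  have hq0 : padicValNat 2 q = 0 := padicValNat.eq_zero_of_not_dvd hqodd
  have hv : ∀ i, padicValNat 2 (q ^ (2 * (i + 1)) - 1) = padicValNat 2 (q ^ 2 - 1) + padicValNat 2 (i + 1) := by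
    intro i
    have h1 := padicValNat.pow_two_sub_one hq1 hqodd (n := 2 * (i + 1)) (by omega) (even_two_mul _)
    have h2 := padicValNat.pow_two_sub_one hq1 hqodd (n := 2) (by omega) even_two
    rw [padicValNat.mul (by omega) (by omega)] at h1
    have h3 : padicValNat 2 2 = 1 := padicValNat.self (by norm_num)
    omega
  have hne : ∀ i, q ^ (2 * (i + 1)) - 1 ≠ 0 := fun i => by
    have : 1 < q ^ (2 * (i + 1)) := Nat.one_lt_pow (by omega) hq1
    omega
  have hsum : ∀ k, padicValNat 2 (∏ i ∈ Finset.range k, (q ^ (2 * (i + 1)) - 1)) =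
      k * padicValNat 2 (q ^ 2 - 1) + padicValNat 2 k.factorial := by
    intro k
    induction k with
    | zero => simp
    | succ k ih =>
      rw [Finset.prod_range_succ, padicValNat.mul (Finset.prod_ne_zero_iff.2 fun i _ => hne i) (hne k), ih, hv,
        Nat.factorial_succ, padicValNat.mul (by omega) (Nat.factorial_ne_zero k)]
      ring
  have hvG : padicValNat 2 (Nat.card (Matrix.symplecticGroup (Fin n) F)) =
      n * padicValNat 2 (q ^ 2 - 1) + padicValNat 2 n.factorial := by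
    rw [Cfsg.Agent.S0245.result rfl n, padicValNat.mul (pow_ne_zero _ (by omega))
      (Finset.prod_ne_zero_iff.2 fun i _ => hne i), padicValNat.pow _, hq0, hsum]
    ring
  have hQcard : Nat.card (Q : Subgroup (Matrix.SpecialLinearGroup (Fin 2) F)) = 2 ^ padicValNat 2 (q ^ 2 - 1) := by
    rw [Q.card_eq_multiplicity, Nat.factorization_def _ Nat.prime_two, Cfsg.Agent.Classical.SL2.card_SL2,
      padicValNat.mul (by omega) hq2, hq0, zero_add]
  have hTcard : Nat.card (T : Subgroup (Equiv.Perm (Fin n))) = 2 ^ padicValNat 2 n.factorial := by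
    rw [T.card_eq_multiplicity, Nat.factorization_def _ Nat.prime_two, Nat.card_perm, Nat.card_fin]
  have hHcard : Nat.card H = 2 ^ (Nat.card (Matrix.symplecticGroup (Fin n) F)).factorization 2 := by
    rw [← Nat.card_congr (Equiv.ofBijective Φ hbij), Nat.card_prod, Nat.card_fun, Nat.card_fin, hQcard, hTcard,
      ← pow_mul, ← pow_add, Nat.factorization_def _ Nat.prime_two, hvG]
    ring
  refine ⟨Sylow.ofCard H hHcard, ?_⟩
  show ∀ x : H, x ^ 2 ∈ commutator H
  intro x
  let f : H →* Abelianization H := (powMonoidHom 2).comp Abelianization.of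
  rw [← Abelianization.ker_of, MonoidHom.mem_ker, map_pow]
  show x ∈ f.ker
  let jD : (Fin n → (Q : Subgroup (Matrix.SpecialLinearGroup (Fin 2) F))) →* H :=
    fD.codRestrict H fun a => Subgroup.mem_sup_right ⟨a, rfl⟩
  let jW : (T : Subgroup (Equiv.Perm (Fin n))) →* H := fW.codRestrict H fun t => Subgroup.mem_sup_left ⟨t, rfl⟩
  obtain ⟨⟨t, a⟩, rfl⟩ := hbij.2 x
  rw [MonoidHom.mem_ker, show Φ (t, a) = jW t * jD a from Subtype.ext rfl, map_mul, show f (jW t) = 1 from kill_sq jW hTsq t, one_mul]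
  show (f.comp jD) a = 1
  rw [← MonoidHom.mem_ker]
  refine Subgroup.pi_mem_of_mulSingle_mem a fun i => ?_
  rw [MonoidHom.mem_ker]
  exact kill_sq (jD.comp (MonoidHom.mulSingle (fun _ : Fin n => ↥(Q : Subgroup (Matrix.SpecialLinearGroup (Fin 2) F))) i)) hQsq (a i)


/-- Let F be a finite field of odd order and n ≥ 1. A Sylow 2-subgroup P of the symplectic group Sp_{2n}(F) has P/P' elementary abelian: the square of every element of P lies in the derived subgroup of P. -/
theorem result {F : Type*} [Field F] [Fintype F] (hF : Odd (Fintype.card F)) (n : ℕ) (hn : 1 ≤ n) (P : Sylow 2 (Matrix.symplecticGroup (Fin n) F)) :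
    ∀ x : (P : Subgroup (Matrix.symplecticGroup (Fin n) F)), x ^ 2 ∈ commutator (P : Subgroup (Matrix.symplecticGroup (Fin n) F)) := by
  haveI : Fact (Nat.Prime 2) := ⟨Nat.prime_two⟩
  obtain ⟨P₀, h₀⟩ := exists_sylow hF n
  intro x
  exact Cfsg.Agent.Perm.SylowSymmGen.pow_mem_commutator_of_equiv (p := 2) (P₀.equiv P) h₀ x

end Cfsg.Agent.S4624
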