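import Cfsg.Statements.S2648
import Cfsg.Agent.S2250
import Cfsg.Agent.S4624
import Cfsg.Agent.S0261

set_option autoImplicit false
open Cfsg

namespace Cfsg.Agent.S2648

open Cfsg.Agent.S2250

/-- Derived series of a subgroup, in the ambient group. -/
def dser {G : Type*} [Group G] (K : Subgroup G) : ℕ → Subgroup G
  | 0 => K
  | k + 1 => ⁅dser K k, dser K k⁆

theorem dser_mono {G : Type*} [Group G] {K L : Subgroup G} (h : K ≤ L) : ∀ k, dser K k ≤ dser L k
  | 0 => h
  | k + 1 => Subgroup.commutator_mono (dser_mono h k) (dser_mono h k)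

theorem dser_le {G : Type*} [Group G] (K : Subgroup G) : ∀ k, dser K k ≤ K
  | 0 => le_rfl
  | k + 1 => (Subgroup.commutator_mono (dser_le K k) (dser_le K k)).trans K.commutator_le_self

theorem dser_add {G : Type*} [Group G] (K : Subgroup G) (a : ℕ) : ∀ b, dser K (a + b) = dser (dser K a) b
  | 0 => rfl
  | b + 1 => by
    show ⁅dser K (a + b), dser K (a + b)⁆ = ⁅dser (dser K a) b, dser (dser K a) b⁆
    rw [dser_add K a b]

theorem dser_map {G H : Type*} [Group G] [Group H] (f : G →* H) (K : Subgroup G) :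
    ∀ k, (dser K k).map f = dser (K.map f) k
  | 0 => rfl
  | k + 1 => by
    show (⁅dser K k, dser K k⁆).map f = ⁅dser (K.map f) k, dser (K.map f) k⁆
    rw [Subgroup.map_commutator, dser_map f K k]

theorem dser_top {G : Type*} [Group G] : ∀ k, dser (⊤ : Subgroup G) k = derivedSeries G k
  | 0 => rfl
  | k + 1 => by
    show ⁅dser (⊤ : Subgroup G) k, dser (⊤ : Subgroup G) k⁆ = _
    rw [dser_top k, derivedSeries_succ]

theorem derived_eq_bot_iff {G : Type*} [Group G] (K : Subgroup G) (k : ℕ) :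
    derivedSeries ↥K k = ⊥ ↔ dser K k = ⊥ := by
  rw [← dser_top, ← Subgroup.map_eq_bot_iff_of_injective _ K.subtype_injective, dser_map, ← MonoidHom.range_eq_map,
    Subgroup.range_subtype]

/-- The doubling step. -/
theorem dser_double {G : Type*} [Group G] (X K : Subgroup G) (t : G) (hX : X ≤ K) (ht : t ∈ K)
    (hc : ∀ x ∈ X, ∀ y ∈ X, x * (t * y * t⁻¹) = t * y * t⁻¹ * x) :
    ∀ k, ∀ x ∈ dser X k, ∃ y ∈ X, x * (t * y * t⁻¹) ∈ dser K (k + 1)
  | 0 => fun x hx => ⟨x⁻¹, X.inv_mem hx, by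
      have h := Subgroup.commutator_mem_commutator (H₁ := dser K 0) (H₂ := dser K 0) (hX hx) ht
      rw [commutatorElement_def] at h
      rwa [show x * (t * x⁻¹ * t⁻¹) = x * t * x⁻¹ * t⁻¹ by group]⟩
  | k + 1 => by
    let Z : Subgroup G :=
      { carrier := {x | x ∈ X ∧ ∃ y ∈ X, x * (t * y * t⁻¹) ∈ dser K (k + 1 + 1)}
        one_mem' := ⟨one_mem _, 1, one_mem _, by simp⟩
        mul_mem' := by
          rintro a b ⟨ha, y, hy, h1⟩ ⟨hb, z, hz, h2⟩
          refine ⟨mul_mem ha hb, y * z, mul_mem hy hz, ?_⟩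
          have := mul_mem h1 h2
          rwa [show a * (t * y * t⁻¹) * (b * (t * z * t⁻¹)) = a * ((t * y * t⁻¹) * b) * (t * z * t⁻¹) by group,
            ← hc b hb y hy, show a * (b * (t * y * t⁻¹)) * (t * z * t⁻¹) = a * b * (t * (y * z) * t⁻¹) by group] at this
        inv_mem' := by
          rintro a ⟨ha, y, hy, h1⟩
          refine ⟨inv_mem ha, y⁻¹, inv_mem hy, ?_⟩
          have := inv_mem h1
          rwa [hc a ha y hy, show (t * y * t⁻¹ * a)⁻¹ = a⁻¹ * (t * y⁻¹ * t⁻¹) by group] at this }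
    intro x hx
    have hle : dser X (k + 1) ≤ Z := by
      refine Subgroup.commutator_le.2 fun a ha b hb => ?_
      obtain ⟨y, hy, h1⟩ := dser_double X K t hX ht hc k a ha
      obtain ⟨z, hz, h2⟩ := dser_double X K t hX ht hc k b hb
      have haX := dser_le X k ha
      have hbX := dser_le X k hb
      refine ⟨mul_mem (mul_mem (mul_mem haX hbX) (inv_mem haX)) (inv_mem hbX), y * z * y⁻¹ * z⁻¹,
        mul_mem (mul_mem (mul_mem hy hz) (inv_mem hy)) (inv_mem hz), ?_⟩
      have h := Subgroup.commutator_mem_commutator h1 h2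
      have key : ∀ (c d u v : G), Commute c u → Commute c v → Commute d u → Commute d v →
          c * u * (d * v) * (c * u)⁻¹ * (d * v)⁻¹ = c * d * c⁻¹ * d⁻¹ * (u * v * u⁻¹ * v⁻¹) := by
        intro c d u v h1 h2 h3 h4
        calc c * u * (d * v) * (c * u)⁻¹ * (d * v)⁻¹ = c * (u * d) * v * u⁻¹ * c⁻¹ * v⁻¹ * d⁻¹ := by group
          _ = c * d * (u * v * u⁻¹ * c⁻¹) * v⁻¹ * d⁻¹ := by rw [← h3.eq]; group
          _ = c * d * (c⁻¹ * (u * v * u⁻¹)) * v⁻¹ * d⁻¹ := by
            rw [(((h1.mul_right h2).mul_right h1.inv_right).inv_left).eq.symm]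
          _ = c * d * c⁻¹ * ((u * v * u⁻¹ * v⁻¹) * d⁻¹) := by group
          _ = c * d * c⁻¹ * (d⁻¹ * (u * v * u⁻¹ * v⁻¹)) := by
            rw [((((h3.mul_right h4).mul_right h3.inv_right).mul_right h4.inv_right).inv_left).eq.symm]
          _ = _ := by group
      rw [commutatorElement_def, key a b _ _ (hc a haX y hy) (hc a haX z hz) (hc b hbX y hy) (hc b hbX z hz)] at h
      rwa [commutatorElement_def, show t * (y * z * y⁻¹ * z⁻¹) * t⁻¹ =
        t * y * t⁻¹ * (t * z * t⁻¹) * (t * y * t⁻¹)⁻¹ * (t * z * t⁻¹)⁻¹ by group]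
    exact (hle hx).2

theorem dser_two_group {G : Type*} [Group G] [Finite G] :
    ∀ (i : ℕ) (P : Subgroup G), IsPGroup 2 ↥P → ∀ S ≤ P, Nat.card P ≤ 2 ^ i * Nat.card S → dser P i ≤ S
  | 0 => fun P _ S hS h => (Subgroup.eq_of_le_of_card_ge hS (by simpa using h)).ge
  | i + 1 => fun P hP S hS h => by
    haveI : Fact (Nat.Prime 2) := ⟨Nat.prime_two⟩
    rcases eq_or_ne S P with rfl | hne
    · exact dser_le S _
    obtain ⟨M, hM, hSM⟩ : ∃ M : Subgroup ↥P, IsCoatom M ∧ S.subgroupOf P ≤ M := by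
      rcases eq_top_or_exists_le_coatom (S.subgroupOf P) with h' | h'
      · exact absurd (le_antisymm hS (Subgroup.subgroupOf_eq_top.1 h')) hne
      · exact h'
    haveI := hP.isNilpotent
    have hn : M.Normal := Subgroup.NormalizerCondition.normal_of_coatom M Group.normalizerCondition_of_isNilpotent hM
    have hidx : M.index = 2 := by
      obtain ⟨a, ha⟩ := IsPGroup.iff_card.1 hP
      obtain ⟨b, hb⟩ := IsPGroup.iff_card.1 (hP.to_subgroup M)
      have h2 := M.card_mul_index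
      have hba : b < a := by
        refine (Nat.pow_lt_pow_iff_right (by norm_num : 1 < 2)).1 ?_
        rw [← ha, ← hb]
        exact lt_of_le_of_ne M.card_le_card_group fun h => hM.1 (Subgroup.eq_top_of_card_eq M h)
      obtain ⟨K, hK, hMK⟩ := Sylow.exists_subgroup_card_pow_succ (p := 2) (n := b) (ha ▸ pow_dvd_pow 2 hba) hb
      have hKtop : K = ⊤ := by
        refine hM.2 K (lt_of_le_of_ne hMK fun h => ?_)
        rw [← h, hb, pow_succ] at hK
        have := Nat.two_pow_pos b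
        omega
      rw [hKtop, Subgroup.card_top, ← h2, hb, pow_succ] at hK
      exact Nat.eq_of_mul_eq_mul_left (Nat.two_pow_pos b) hK
    have hcom : dser P 1 ≤ M.map P.subtype := by
      haveI := hn
      haveI : IsCyclic (↥P ⧸ M) := isCyclic_of_prime_card (p := 2) (by rw [← Subgroup.index_eq_card, hidx])
      haveI : IsMulCommutative (↥P ⧸ M) := inferInstance
      have h1 : commutator ↥P ≤ M := (Subgroup.Normal.quotient_commutative_iff_commutator_le).1 inferInstance
      have h2 := Subgroup.map_mono (f := P.subtype) h1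
      rwa [← derivedSeries_one, ← dser_top, dser_map, ← MonoidHom.range_eq_map, Subgroup.range_subtype] at h2
    rw [show i + 1 = 1 + i by ring, dser_add]
    refine (dser_mono hcom i).trans (dser_two_group i _ ((hP.to_subgroup M).map _) S ?_ ?_)
    · intro x hx; exact ⟨⟨x, hS hx⟩, hSM hx, rfl⟩
    · have h2 := M.card_mul_index
      rw [hidx] at h2
      rw [Subgroup.card_map_of_injective P.subtype_injective]
      rw [pow_succ] at h
      nlinarith

variable {F : Type*} [Field F] [Fintype F] {n : ℕ}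

local notation "SL2" => Matrix.SpecialLinearGroup (Fin 2) F

theorem mulWD (σ τ : Equiv.Perm (Fin n)) (A B : Fin n → SL2) :
    W σ * D A * (W τ * D B) = W (σ * τ) * D ((A ∘ ⇑τ) * B) := by
  have h := push τ (A ∘ ⇑τ)
  rw [show ((A ∘ ⇑τ) ∘ ⇑τ⁻¹) = A from funext fun i => by simp] at h
  rw [map_mul, map_mul, mul_assoc, ← mul_assoc (D A), ← h]
  group

theorem invWD (σ : Equiv.Perm (Fin n)) (A : Fin n → SL2) :
    (W σ * D A)⁻¹ = W σ⁻¹ * D ((A ∘ ⇑σ⁻¹)⁻¹) := by
  refine inv_eq_of_mul_eq_one_right ?_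
  rw [mulWD, mul_inv_cancel, map_one, mul_inv_cancel, map_one, one_mul]

/-- Monomial elements supported on `s`. -/
def Ms (s : Set (Fin n)) : Subgroup (Matrix.symplecticGroup (Fin n) F) where
  carrier := {g | ∃ (σ : Equiv.Perm (Fin n)) (A : Fin n → SL2), g = W σ * D A ∧ ∀ i ∉ s, σ i = i ∧ A i = 1}
  one_mem' := ⟨1, 1, by simp, fun i _ => ⟨rfl, rfl⟩⟩
  mul_mem' := by
    rintro _ _ ⟨σ, A, rfl, h⟩ ⟨τ, B, rfl, h'⟩
    exact ⟨σ * τ, _, mulWD σ τ A B, fun i hi => ⟨by simp [(h i hi).1, (h' i hi).1], by simp [(h i hi).2, (h' i hi).1, (h' i hi).2]⟩⟩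
  inv_mem' := by
    rintro _ ⟨σ, A, rfl, h⟩
    refine ⟨σ⁻¹, _, invWD σ A, fun i hi => ?_⟩
    have : σ⁻¹ i = i := by rw [Equiv.Perm.inv_eq_iff_eq]; exact (h i hi).1.symm
    exact ⟨this, by show (A (σ⁻¹ i))⁻¹ = 1; rw [this, (h i hi).2, inv_one]⟩

theorem Ms_mono {s t : Set (Fin n)} (h : s ⊆ t) : (Ms s : Subgroup (Matrix.symplecticGroup (Fin n) F)) ≤ Ms t := by
  rintro _ ⟨σ, A, rfl, h'⟩; exact ⟨σ, A, rfl, fun i hi => h' i fun hs => hi (h hs)⟩

theorem Ms_comm {s t : Set (Fin n)} (hd : ∀ i, i ∈ s → i ∉ t) {g h : Matrix.symplecticGroup (Fin n) F}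
    (hg : g ∈ Ms s) (hh : h ∈ Ms t) : g * h = h * g := by
  obtain ⟨σ, A, rfl, hA⟩ := hg
  obtain ⟨τ, B, rfl, hB⟩ := hh
  have hst : ∀ i, σ (τ i) = τ (σ i) ∧ A (τ i) * B i = B (σ i) * A i := by
    intro i
    by_cases hi : i ∈ s
    · have h1 := hB i (hd i hi)
      have h2 : τ (σ i) = σ i ∧ B (σ i) = 1 := by
        refine hB _ (hd _ ?_)
        by_contra hc
        have := σ.injective (hA _ hc).1
        rw [this] at hc
        exact hc hi
      exact ⟨by rw [h1.1, h2.1], by rw [h1.1, h1.2, h2.2, mul_one, one_mul]⟩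
    · have h1 := hA i hi
      by_cases hi' : τ i ∈ s
      · have := (hB _ (hd _ hi')).1
        rw [τ.injective this] at hi'
        exact absurd hi' hi
      · exact ⟨by rw [h1.1, (hA _ hi').1], by rw [h1.1, h1.2, (hA _ hi').2, mul_one, one_mul]⟩
  rw [mulWD, mulWD]
  congr 1
  · congr 1; exact Equiv.ext fun i => (hst i).1
  · congr 1; exact funext fun i => (hst i).2

theorem Ms_inter {s t : Set (Fin n)} (hd : ∀ i, i ∈ s → i ∉ t) {g : Matrix.symplecticGroup (Fin n) F}
    (hg : g ∈ Ms s) (hh : g ∈ Ms t) : g = 1 := by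
  obtain ⟨σ, A, rfl, hA⟩ := hg
  obtain ⟨τ, B, e, hB⟩ := hh
  have h := WD_injective (F := F) (n := n) (fun _ _ => trivial) (a₁ := (σ, A)) (a₂ := (τ, B)) e
  have h1 : σ = τ := congrArg Prod.fst h
  have h2 : A = B := congrArg Prod.snd h
  have hh : ∀ i, σ i = i ∧ A i = 1 := by
    intro i
    by_cases hi : i ∈ s
    · have := hB i (hd i hi)
      rw [← h1, ← h2] at this
      exact this
    · exact hA i hi
  rw [show σ = 1 from Equiv.ext fun i => (hh i).1, show A = 1 from funext fun i => (hh i).2]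
  simp

theorem quat_nonabelian (k : ℕ) (hk : 1 ≤ k) : commutator (QuaternionGroup (2 ^ k)) ≠ ⊥ := by
  intro h
  haveI : NeZero (2 ^ k) := ⟨by positivity⟩
  have h1 := Cfsg.Agent.S4624.quat_sq k hk (QuaternionGroup.a 1)
  rw [h, Subgroup.mem_bot] at h1
  have h2 := Nat.le_of_dvd two_pos (orderOf_dvd_of_pow_eq_one h1)
  rw [QuaternionGroup.orderOf_a_one] at h2
  have : 2 ≤ 2 ^ k := Nat.le_self_pow (by omega) 2
  omega

theorem sl2_two_group (hF : Odd (Fintype.card F)) (X : Subgroup SL2) (hX : IsPGroup 2 ↥X) : dser X 2 = ⊥ := by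
  haveI : Fact (Nat.Prime 2) := ⟨Nat.prime_two⟩
  obtain ⟨Q, hXQ⟩ := hX.exists_le_sylow
  obtain ⟨k, hk, ⟨e⟩⟩ := Cfsg.Agent.S0261.result hF Q
  refine eq_bot_iff.2 ((dser_mono hXQ 2).trans (eq_bot_iff.1 ?_))
  haveI : NeZero (2 ^ k) := ⟨by positivity⟩
  have h1 : dser (⊤ : Subgroup (QuaternionGroup (2 ^ k))) 1 ≤ Subgroup.zpowers (QuaternionGroup.a 1) := by
    refine dser_two_group 1 ⊤ (Q.2.of_equiv (e.trans Subgroup.topEquiv.symm)) _ le_top ?_
    rw [Nat.card_zpowers, QuaternionGroup.orderOf_a_one, Subgroup.card_top, Nat.card_eq_fintype_card, QuaternionGroup.card]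
    omega
  have h2 : dser (⊤ : Subgroup (QuaternionGroup (2 ^ k))) 2 = ⊥ := by
    refine eq_bot_iff.2 ((Subgroup.commutator_mono h1 h1).trans (le_of_eq ?_))
    rw [Subgroup.commutator_eq_bot_iff_le_centralizer]
    intro a ha
    rw [Subgroup.mem_centralizer_iff]
    intro b hb
    obtain ⟨x, rfl⟩ := Subgroup.mem_zpowers_iff.1 ha
    obtain ⟨y, rfl⟩ := Subgroup.mem_zpowers_iff.1 hb
    exact (Commute.zpow_zpow (Commute.refl _) y x)
  have h3 := dser_map ((Q : Subgroup SL2).subtype.comp e.symm.toMonoidHom) ⊤ 2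
  rw [h2, Subgroup.map_bot, ← MonoidHom.range_eq_map, MonoidHom.range_comp,
    MonoidHom.range_eq_top.2 e.symm.surjective, ← MonoidHom.range_eq_map, Subgroup.range_subtype] at h3
  exact h3.symm

theorem upper (hF : Odd (Fintype.card F)) (R : Sylow 2 (Matrix.symplecticGroup (Fin n) F)) :
    dser (R : Subgroup (Matrix.symplecticGroup (Fin n) F)) (Nat.log 2 n + 2) = ⊥ := by
  classical
  haveI : Fact (Nat.Prime 2) := ⟨Nat.prime_two⟩
  set M : Subgroup (Matrix.symplecticGroup (Fin n) F) := Ms Set.univ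
  have hMv : padicValNat 2 (Nat.card M) = padicValNat 2 (Nat.card (Matrix.symplecticGroup (Fin n) F)) := by
    have hb : Function.Bijective fun p : Equiv.Perm (Fin n) × (Fin n → SL2) =>
        (⟨W p.1 * D p.2, p.1, p.2, rfl, fun i hi => absurd (Set.mem_univ i) hi⟩ : ↥M) :=
      ⟨fun a b h => WD_injective (fun _ _ => trivial) (congrArg Subtype.val h),
        fun ⟨g, σ, A, hg, _⟩ => ⟨(σ, A), Subtype.ext hg.symm⟩⟩
    set q := Fintype.card F
    have hq1 : 1 < q := Fintype.one_lt_card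
    have hqodd : ¬ 2 ∣ q := by obtain ⟨t, ht⟩ := hF; omega
    have hq0 : padicValNat 2 q = 0 := padicValNat.eq_zero_of_not_dvd hqodd
    have hne : ∀ i, q ^ (2 * (i + 1)) - 1 ≠ 0 := fun i => by
      have : 1 < q ^ (2 * (i + 1)) := Nat.one_lt_pow (by omega) hq1
      omega
    have hv : ∀ i, padicValNat 2 (q ^ (2 * (i + 1)) - 1) = padicValNat 2 (q ^ 2 - 1) + padicValNat 2 (i + 1) := by
      intro i
      have h1 := padicValNat.pow_two_sub_one hq1 hqodd (n := 2 * (i + 1)) (by omega) (even_two_mul _)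
      have h2 := padicValNat.pow_two_sub_one hq1 hqodd (n := 2) (by omega) even_two
      rw [padicValNat.mul (by omega) (by omega)] at h1
      have h3 : padicValNat 2 2 = 1 := padicValNat.self (by norm_num)
      omega
    have hsum : ∀ k, padicValNat 2 (∏ i ∈ Finset.range k, (q ^ (2 * (i + 1)) - 1)) =
        k * padicValNat 2 (q ^ 2 - 1) + padicValNat 2 k.factorial := by
      intro k
      induction k with
      | zero => simp
      | succ k ih =>
        rw [Finset.prod_range_succ, padicValNat.mul (Finset.prod_ne_zero_iff.2 fun i _ => hne i) (hne k), ih, hv,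
          Nat.factorial_succ, padicValNat.mul (by omega) (Nat.factorial_ne_zero k)]
        ring
    have hq2 : q ^ 2 - 1 ≠ 0 := by have := hne 0; simpa using this
    rw [← Nat.card_congr (Equiv.ofBijective _ hb), Nat.card_prod, Nat.card_perm, Nat.card_fin, Nat.card_fun,
      Nat.card_fin, Cfsg.Agent.Classical.SL2.card_SL2, Cfsg.Agent.S0245.result (q := q) rfl n,
      padicValNat.mul (Nat.factorial_ne_zero n) (pow_ne_zero _ (Nat.mul_ne_zero (by omega) hq2)),
      padicValNat.pow _, padicValNat.mul (by omega) hq2, hq0,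
      padicValNat.mul (pow_ne_zero _ (by omega)) (Finset.prod_ne_zero_iff.2 fun i _ => hne i),
      padicValNat.pow _, hq0, hsum]
    ring
  obtain ⟨P⟩ : Nonempty (Sylow 2 ↥M) := inferInstance
  let P' : Sylow 2 (Matrix.symplecticGroup (Fin n) F) := Sylow.ofCard ((P : Subgroup ↥M).map M.subtype) (by
    rw [Subgroup.card_map_of_injective M.subtype_injective, P.card_eq_multiplicity, Nat.factorization_def _ Nat.prime_two,
      Nat.factorization_def _ Nat.prime_two, hMv])
  rw [← derived_eq_bot_iff]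
  have key : dser (P : Subgroup ↥M) (Nat.log 2 n + 2) = ⊥ := by
    have hex : ∀ g : ↥M, ∃ p : Equiv.Perm (Fin n) × (Fin n → SL2), g.1 = W p.1 * D p.2 := fun g => by
      obtain ⟨σ, A, hg, -⟩ := g.2; exact ⟨(σ, A), hg⟩
    choose f hf using hex
    have hfm : ∀ a b, f (a * b) = ((f a).1 * (f b).1, ((f a).2 ∘ ⇑(f b).1) * (f b).2) := fun a b =>
      WD_injective (F := F) (n := n) (fun _ _ => trivial) (by
        show W _ * D _ = W _ * D _
        rw [← hf, Subgroup.coe_mul, hf a, hf b, mulWD])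
    let π : ↥M →* Equiv.Perm (Fin n) := MonoidHom.mk' (fun g => (f g).1) fun a b => by rw [hfm]
    have hT : dser ((P : Subgroup ↥M).map π) (Nat.log 2 n) = ⊥ := by
      refine eq_bot_iff.2 fun σ hσ => ?_
      set T := (P : Subgroup ↥M).map π
      have hT2 : IsPGroup 2 ↥T := P.2.map π
      rw [Subgroup.mem_bot]
      refine Equiv.ext fun a => ?_
      refine (Subgroup.mem_inf.1 (dser_two_group (Nat.log 2 n) T hT2 (T ⊓ MulAction.stabilizer (Equiv.Perm (Fin n)) a)
        inf_le_left ?_ hσ)).2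
      have h1 := ((MulAction.stabilizer (Equiv.Perm (Fin n)) a).subgroupOf T).card_mul_index
      have h2 : ((MulAction.stabilizer (Equiv.Perm (Fin n)) a).subgroupOf T).index ≤ n := by
        have h3 := Subgroup.relIndex_le_of_le_right (H := MulAction.stabilizer (Equiv.Perm (Fin n)) a) (K := T) le_top
        simp only [Subgroup.relIndex_top_right] at h3
        haveI : Nonempty (Fin n) := ⟨a⟩
        refine (h3 Subgroup.index_ne_zero_of_finite).trans_eq ?_
        rw [MulAction.index_stabilizer_of_transitive, Nat.card_fin]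
      obtain ⟨e, he⟩ := hT2.index ((MulAction.stabilizer (Equiv.Perm (Fin n)) a).subgroupOf T)
      have h4 : e ≤ Nat.log 2 n := Nat.le_log_of_pow_le (by norm_num) (he ▸ h2)
      rw [he] at h1
      rw [inf_comm, ← h1, ← Nat.card_congr (Subgroup.subgroupOfEquivOfLe (inf_le_right : MulAction.stabilizer (Equiv.Perm (Fin n)) a ⊓ T ≤ T)).toEquiv,
        Subgroup.inf_subgroupOf_right, mul_comm]
      exact Nat.mul_le_mul_right _ (Nat.pow_le_pow_right two_pos h4)
    rw [← dser_map, Subgroup.map_eq_bot_iff] at hT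
    let ev : Fin n → (↥π.ker →* SL2) := fun i => MonoidHom.mk' (fun g => (f g.1).2 i) fun a b => by
      rw [Subgroup.coe_mul, hfm, show (f b.1).1 = 1 from b.2]
      rfl
    rw [dser_add]
    refine eq_bot_iff.2 fun g hg => ?_
    set N := dser (P : Subgroup ↥M) (Nat.log 2 n)
    have hgk : g ∈ π.ker := hT (dser_le N 2 hg)
    have hA : ∀ i, (f g).2 i = 1 := by
      intro i
      have h5 : dser (N.subgroupOf π.ker) 2 = (dser N 2).subgroupOf π.ker := by
        refine Subgroup.map_injective π.ker.subtype_injective ?_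
        rw [dser_map, Subgroup.map_subgroupOf_eq_of_le hT, Subgroup.map_subgroupOf_eq_of_le ((dser_le N 2).trans hT)]
      have h6 := dser_map (ev i) (N.subgroupOf π.ker) 2
      have h7 : dser ((N.subgroupOf π.ker).map (ev i)) 2 = ⊥ := sl2_two_group hF _
        (((IsPGroup.to_le (P.2) (dser_le (P : Subgroup ↥M) (Nat.log 2 n))).comap_of_injective _ π.ker.subtype_injective).map (ev i))
      rw [h7, h5, Subgroup.map_eq_bot_iff] at h6
      exact h6 (show (⟨g, hgk⟩ : ↥π.ker) ∈ (dser N 2).subgroupOf π.ker from hg)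
    rw [Subgroup.mem_bot]
    refine Subtype.ext ?_
    rw [hf g, show (f g).1 = 1 from hgk, show (f g).2 = 1 from funext hA]
    simp
  have h7 : derivedSeries ↥(P' : Subgroup (Matrix.symplecticGroup (Fin n) F)) (Nat.log 2 n + 2) = ⊥ := by
    rw [derived_eq_bot_iff]
    show dser ((P : Subgroup ↥M).map M.subtype) _ = ⊥
    rw [← dser_map, key, Subgroup.map_bot]
  rw [← map_derivedSeries_eq (f := (P'.equiv R).toMonoidHom) (P'.equiv R).surjective, h7, Subgroup.map_bot]

theorem lower (hF : Odd (Fintype.card F)) :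
    ∀ j : ℕ, 2 ^ j ≤ n → ∃ K : Subgroup (Matrix.symplecticGroup (Fin n) F),
      IsPGroup 2 ↥K ∧ K ≤ Ms {i | i.1 < 2 ^ j} ∧ dser K (j + 1) ≠ ⊥
  | 0 => fun hn => by
    classical
    haveI : Fact (Nat.Prime 2) := ⟨Nat.prime_two⟩
    obtain ⟨Q⟩ : Nonempty (Sylow 2 SL2) := inferInstance
    obtain ⟨k, hk, ⟨e⟩⟩ := Cfsg.Agent.S0261.result hF Q
    let i₀ : Fin n := ⟨0, by rw [pow_zero] at hn; omega⟩
    let φ : SL2 →* Matrix.symplecticGroup (Fin n) F := D.comp (MonoidHom.mulSingle (fun _ : Fin n => SL2) i₀)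
    have hφ : Function.Injective φ := fun a b h => Pi.mulSingle_injective (M := fun _ : Fin n => SL2) i₀ (D_injective h)
    refine ⟨(Q : Subgroup SL2).map φ, Q.2.map φ, ?_, ?_⟩
    · rintro _ ⟨x, -, rfl⟩
      refine ⟨1, Pi.mulSingle i₀ x, by rw [map_one, one_mul]; rfl, fun i hi => ⟨rfl, Pi.mulSingle_eq_of_ne ?_ _⟩⟩
      rintro rfl; exact hi (by simp [i₀])
    · rw [← dser_map, Ne, Subgroup.map_eq_bot_iff_of_injective _ hφ, ← derived_eq_bot_iff, derivedSeries_one]
      intro h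
      apply quat_nonabelian k hk
      rw [← derivedSeries_one, ← map_derivedSeries_eq (f := e.toMonoidHom) e.surjective, derivedSeries_one, h,
        Subgroup.map_bot]
  | j + 1 => fun hn => by
    classical
    haveI : Fact (Nat.Prime 2) := ⟨Nat.prime_two⟩
    have hj : 2 ^ j + 2 ^ j ≤ n := by rw [pow_succ] at hn; omega
    obtain ⟨X, hX2, hXs, hXd⟩ := lower hF j (by omega)
    let g : Fin n → Fin n := fun i =>
      if h : i.1 < 2 ^ j then ⟨i.1 + 2 ^ j, by omega⟩
      else if i.1 < 2 ^ j + 2 ^ j then ⟨i.1 - 2 ^ j, lt_of_le_of_lt (Nat.sub_le _ _) i.2⟩ else i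
    have hg : Function.Involutive g := fun i => by
      by_cases h1 : i.1 < 2 ^ j
      · simp [g, h1]
      · by_cases h2 : i.1 < 2 ^ j + 2 ^ j
        · have h3 : i.1 - 2 ^ j < 2 ^ j := by omega
          simp [g, h1, h2, h3]
          exact Fin.ext (Nat.sub_add_cancel (not_lt.1 h1))
        · simp [g, h1, h2]
    let τ : Equiv.Perm (Fin n) := hg.toPerm
    set t := W (F := F) τ
    have ht2 : t * t = 1 := by rw [← map_mul, show τ * τ = 1 from Equiv.ext hg, map_one]
    have htinv : t⁻¹ = t := inv_eq_of_mul_eq_one_right ht2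
    set s : Set (Fin n) := {i | i.1 < 2 ^ j}
    set s' : Set (Fin n) := {i | 2 ^ j ≤ i.1 ∧ i.1 < 2 ^ j + 2 ^ j}
    have hconj : ∀ x ∈ X, t * x * t⁻¹ ∈ Ms s' := by
      intro x hx
      obtain ⟨σ, A, rfl, hA⟩ := hXs hx
      refine ⟨τ * σ * τ⁻¹, A ∘ ⇑τ⁻¹, ?_, fun i hi => ?_⟩
      · rw [map_mul, map_mul, map_inv, ← mul_assoc, mul_assoc (W τ * W σ) (D A), ← map_inv, ← mul_assoc]
        have h := push τ⁻¹ (A ∘ ⇑τ⁻¹)
        rw [show ((A ∘ ⇑τ⁻¹) ∘ ⇑τ⁻¹⁻¹) = A from funext fun i => by simp] at h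
        rw [mul_assoc (W τ * W σ) (W τ⁻¹), h, mul_assoc]
      · have hns : τ⁻¹ i ∉ s := by
          show ¬ (g i).1 < 2 ^ j
          intro hc
          apply hi
          show 2 ^ j ≤ i.1 ∧ i.1 < 2 ^ j + 2 ^ j
          by_cases h1 : i.1 < 2 ^ j
          · simp [g, h1] at hc
          · by_cases h2 : i.1 < 2 ^ j + 2 ^ j
            · exact ⟨by omega, h2⟩
            · simp [g, h1, h2] at hc
        obtain ⟨h1, h2⟩ := hA _ hns
        exact ⟨by simp only [Equiv.Perm.mul_apply, h1]; simp, h2⟩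
    have hd : ∀ i, i ∈ s → i ∉ s' := fun i h1 h2 => by
      change i.1 < 2 ^ j at h1; exact absurd h2.1 (by omega)
    have hc : ∀ x ∈ X, ∀ y ∈ X, x * (t * y * t⁻¹) = t * y * t⁻¹ * x := fun x hx y hy =>
      Ms_comm hd (hXs hx) (hconj y hy)
    set Y := X.map (MulAut.conj t).toMonoidHom
    have hXY : X ≤ Subgroup.normalizer (Y : Set (Matrix.symplecticGroup (Fin n) F)) := by
      refine le_trans ?_ (Subgroup.centralizer_le_normalizer _)
      intro x hx
      rw [Subgroup.mem_centralizer_iff]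
      rintro _ ⟨y, hy, rfl⟩
      exact (hc x hx y hy).symm
    have hXY2 : IsPGroup 2 ↥(X ⊔ Y) := IsPGroup.to_sup_of_normal_right' hX2 (hX2.map _) hXY
    have hswap : (X ⊔ Y).map (MulAut.conj t).toMonoidHom ≤ X ⊔ Y := by
      rw [Subgroup.map_sup, Subgroup.map_map]
      refine sup_le le_sup_right ?_
      rintro _ ⟨x, hx, rfl⟩
      show t * (t * x * t⁻¹) * t⁻¹ ∈ X ⊔ Y
      rw [htinv, show t * (t * x * t) * t = (t * t) * x * (t * t) by group, ht2, one_mul, mul_one]
      exact Subgroup.mem_sup_left hx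
    have hZ : IsPGroup 2 ↥(Subgroup.zpowers t) :=
      by
        obtain ⟨e, -, he⟩ := (Nat.dvd_prime_pow Nat.prime_two (m := 1)).1
          (by rw [pow_one]; exact orderOf_dvd_of_pow_eq_one (by rw [sq, ht2]) : orderOf t ∣ 2 ^ 1)
        exact IsPGroup.of_card (n := e) (by rw [Nat.card_zpowers, he])
    have hnorm : Subgroup.zpowers t ≤ Subgroup.normalizer ((X ⊔ Y : Subgroup _) : Set (Matrix.symplecticGroup (Fin n) F)) := by
      rw [Subgroup.zpowers_le, Subgroup.mem_normalizer_iff]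
      refine fun x => ⟨fun h => hswap ⟨x, h, rfl⟩, fun h => ?_⟩
      have h2 : t * (t * x * t⁻¹) * t⁻¹ ∈ X ⊔ Y := hswap ⟨_, h, rfl⟩
      rwa [htinv, show t * (t * x * t) * t = (t * t) * x * (t * t) by group, ht2, one_mul, mul_one] at h2
    refine ⟨Subgroup.zpowers t ⊔ (X ⊔ Y), IsPGroup.to_sup_of_normal_right' hZ hXY2 hnorm, ?_, ?_⟩
    · refine sup_le ?_ (sup_le (hXs.trans (Ms_mono fun i hi => ?_)) ?_)
      · rw [Subgroup.zpowers_le]
        refine ⟨τ, 1, by rw [map_one, mul_one], fun i hi => ⟨?_, rfl⟩⟩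
        change ¬ i.1 < 2 ^ (j + 1) at hi
        rw [pow_succ] at hi
        show g i = i
        simp [g, show ¬ i.1 < 2 ^ j by omega, show ¬ i.1 < 2 ^ j + 2 ^ j by omega]
      · change i.1 < 2 ^ j at hi; show i.1 < 2 ^ (j + 1); rw [pow_succ]; omega
      · rintro _ ⟨x, hx, rfl⟩
        refine Ms_mono (fun i hi => ?_) (hconj x hx)
        show i.1 < 2 ^ (j + 1); rw [pow_succ]; have := hi.2; omega
    · intro hbot
      obtain ⟨x, hx, hx1⟩ := (Subgroup.bot_or_exists_ne_one _).resolve_left hXd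
      obtain ⟨y, hy, h⟩ := dser_double X (Subgroup.zpowers t ⊔ (X ⊔ Y)) t (le_sup_left.trans le_sup_right)
        (Subgroup.mem_sup_left (Subgroup.mem_zpowers t)) hc (j + 1) x hx
      rw [hbot, Subgroup.mem_bot, ← eq_inv_iff_mul_eq_one] at h
      apply hx1
      exact Ms_inter hd (hXs (dser_le X _ hx)) (h ▸ inv_mem (hconj y hy))

/-- Let q be odd, F a field with q elements and n ≥ 1. A Sylow 2-subgroup R of the symplectic group Sp_{2n}(F) has derived length exactly k + 1, where 2^k ≤ 2n < 2^{k+1}: the (k+1)-st term of its derived series is trivial and the k-th is not. -/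
theorem result {F : Type*} [Field F] [Fintype F] [DecidableEq F] (q : ℕ) (hF : Fintype.card F = q) (hq : Odd q) (n : ℕ) (hn : 1 ≤ n) (R : Sylow 2 ↥(Matrix.symplecticGroup (Fin n) F)) : derivedSeries ↥(R : Subgroup ↥(Matrix.symplecticGroup (Fin n) F)) (Nat.log 2 (2 * n) + 1) = ⊥ ∧ derivedSeries ↥(R : Subgroup ↥(Matrix.symplecticGroup (Fin n) F)) (Nat.log 2 (2 * n)) ≠ ⊥ := by
  subst hF
  haveI : Fact (Nat.Prime 2) := ⟨Nat.prime_two⟩
  have hlog : Nat.log 2 (2 * n) = Nat.log 2 n + 1 := by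
    rw [mul_comm, Nat.log_mul_base (by norm_num) (by omega)]
  constructor
  · rw [derived_eq_bot_iff, hlog]
    exact upper hq R
  · intro h
    obtain ⟨K, hK2, -, hKd⟩ := lower (n := n) hq (Nat.log 2 n) (Nat.pow_log_le_self 2 (by omega))
    obtain ⟨P, hKP⟩ := hK2.exists_le_sylow
    apply hKd
    rw [← hlog]
    refine eq_bot_iff.2 ((dser_mono hKP _).trans (eq_bot_iff.1 ?_))
    rw [← derived_eq_bot_iff, ← map_derivedSeries_eq (f := (R.equiv P).toMonoidHom) (R.equiv P).surjective, h,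
      Subgroup.map_bot]

end Cfsg.Agent.S2648
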