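import Cfsg.Statements.S2665
-- import your own Cfsg.Agent.* helpers here

set_option autoImplicit false
open scoped MatrixGroups
open Cfsg

namespace Cfsg.Agent.S2665

open Polynomial

variable {K : Type*} [Field K]

/-- The polynomials giving the coordinates of a fixed vector. -/
noncomputable def coef (q : ℕ) (a : ℕ → K) : ℕ → K[X]
  | 0 => C (a 0) * X ^ q
  | i + 1 => coef q a i ^ q + C (a (i + 1)) * X ^ q

theorem coef_degree {q : ℕ} (hq : 2 ≤ q) (a : ℕ → K) :
    ∀ i, (coef q a i = 0 ∧ ∀ j ≤ i, a j = 0) ∨ q ≤ (coef q a i).natDegree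
  | 0 => by
    by_cases h : a 0 = 0
    · exact Or.inl ⟨by simp [coef, h], fun j hj => by rwa [Nat.le_zero.1 hj]⟩
    · exact Or.inr (by simp [coef, natDegree_C_mul_X_pow q (a 0) h])
  | i + 1 => by
    rcases coef_degree hq a i with ⟨h0, hall⟩ | h
    · by_cases h : a (i + 1) = 0
      · refine Or.inl ⟨by simp [coef, h0, h, show q ≠ 0 by omega], fun j hj => ?_⟩
        rcases Nat.lt_or_eq_of_le hj with hj | rfl
        · exact hall j (by omega)
        · exact h
      · refine Or.inr ?_
        simp [coef, h0, show q ≠ 0 by omega, natDegree_C_mul_X_pow q (a (i + 1)) h]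
    · refine Or.inr ?_
      have h1 : (C (a (i + 1)) * X ^ q).natDegree < (coef q a i ^ q).natDegree := by
        rw [natDegree_pow]
        have := natDegree_C_mul_X_pow_le (a (i + 1)) q
        nlinarith
      show q ≤ (coef q a i ^ q + C (a (i + 1)) * X ^ q).natDegree
      rw [natDegree_add_eq_left_of_natDegree_lt h1, natDegree_pow]
      nlinarith

theorem coef_coeff_one {q : ℕ} (hq : 2 ≤ q) (a : ℕ → K) : ∀ i, (coef q a i).coeff 0 = 0 ∧ (coef q a i).coeff 1 = 0
  | 0 => by simp [coef, coeff_X_pow, show (0 : ℕ) ≠ q by omega, show (1 : ℕ) ≠ q by omega]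
  | i + 1 => by
    have h0 := (coef_coeff_one hq a i).1
    have hd : X ^ 2 ∣ coef q a i ^ q := (pow_dvd_pow_of_dvd (X_dvd_iff.2 h0) 2).trans (pow_dvd_pow _ hq)
    have := X_pow_dvd_iff.1 hd
    simp [coef, coeff_X_pow, this 0 (by norm_num), this 1 (by norm_num), show (0 : ℕ) ≠ q by omega,
      show (1 : ℕ) ≠ q by omega]

theorem exists_root_coef [IsAlgClosed K] {q : ℕ} (hq : 2 ≤ q) (a : ℕ → K) (r : ℕ) (ha : ∃ j ≤ r, a j ≠ 0) :
    ∃ z : K, z ≠ 0 ∧ (coef q a r).eval z = z := by
  rcases coef_degree hq a r with ⟨-, hall⟩ | hd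
  · obtain ⟨j, hj, hj'⟩ := ha; exact absurd (hall j hj) hj'
  obtain ⟨h0, h1⟩ := coef_coeff_one hq a r
  set P := coef q a r - X
  have hP : q ≤ P.natDegree := by
    rw [show P.natDegree = (coef q a r).natDegree from
      natDegree_sub_eq_left_of_natDegree_lt (by rw [natDegree_X]; omega)]
    exact hd
  have hR : 1 ≤ P.divX.natDegree := by rw [natDegree_divX_eq_natDegree_tsub_one]; omega
  obtain ⟨z, hz⟩ := IsAlgClosed.exists_root P.divX (natDegree_pos_iff_degree_pos.1 hR).ne'
  have hz' : P.eval z = 0 := by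
    rw [← divX_mul_X_add P, eval_add, eval_mul, hz.eq_zero]
    simp [P, h0]
  refine ⟨z, fun e => ?_, ?_⟩
  · subst e
    have h := hz.eq_zero
    rw [← coeff_zero_eq_eval_zero, coeff_divX] at h
    simp [P, h1] at h
  · simpa [P, sub_eq_zero] using hz'

variable {V : Type*} [AddCommGroup V] [Module K V] [FiniteDimensional K V]

theorem exists_fixed [IsAlgClosed K] [Nontrivial V] {q : ℕ} (hq : 2 ≤ q) (T : V →+ V)
    (hT : ∀ (c : K) v, T (c • v) = c ^ q • T v) (hinj : Function.Injective T) : ∃ x : V, x ≠ 0 ∧ T x = x := by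
  classical
  obtain ⟨v, hv⟩ := exists_ne (0 : V)
  have hex : ∃ r, ¬ LinearIndependent K (fun i : Fin (r + 1) => T^[i] v) := ⟨Module.finrank K V, fun h => by
    have := h.fintype_card_le_finrank
    simp at this⟩
  obtain ⟨r, hr, hmin⟩ : ∃ r, ¬ LinearIndependent K (fun i : Fin (r + 1) => T^[i] v) ∧
      ∀ r' < r, LinearIndependent K (fun i : Fin (r' + 1) => T^[i] v) :=
    ⟨Nat.find hex, Nat.find_spec hex, fun r' h => not_not.1 (Nat.find_min hex h)⟩
  obtain ⟨k, rfl⟩ : ∃ k, r = k + 1 := by
    refine Nat.exists_eq_succ_of_ne_zero fun e => ?_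
    subst e
    exact hr (Fintype.linearIndependent_iff.2 fun c hc i => by
      rw [Fin.sum_univ_one] at hc
      rw [Fin.eq_zero i]
      exact (smul_eq_zero.1 hc).resolve_right hv)
  have hli := hmin k (by omega)
  rw [linearIndependent_fin_succ'] at hr
  have hmem : T^[k + 1] v ∈ Submodule.span K (Set.range fun i : Fin (k + 1) => T^[i] v) := by
    by_contra hc
    exact hr ⟨hli, hc⟩
  obtain ⟨w, hw⟩ := Submodule.mem_span_range_iff_exists_fun K |>.1 hmem
  let a : ℕ → K := fun i => if h : i < k + 1 then w ⟨i, h⟩ else 0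
  have ha : ∃ j ≤ k, a j ≠ 0 := by
    by_contra hc
    push Not at hc
    have : T^[k + 1] v = 0 := by
      rw [← hw]
      refine Finset.sum_eq_zero fun i _ => ?_
      have := hc i (by omega)
      simp only [a, dif_pos i.2] at this
      rw [this, zero_smul]
    exact hv ((hinj.iterate (k + 1)) (this.trans ((iterate_map_zero T (k + 1))).symm))
  obtain ⟨z, hz, hzr⟩ := exists_root_coef hq a k ha
  let c : ℕ → K := fun i => (coef q a i).eval z
  refine ⟨∑ i : Fin (k + 1), c i • T^[i] v, fun e => ?_, ?_⟩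
  · have := Fintype.linearIndependent_iff.1 hli _ e ⟨k, by omega⟩
    exact hz (hzr.symm.trans this)
  · have hwr : T^[k + 1] v = ∑ i ∈ Finset.range (k + 1), a i • T^[i] v := by
      rw [← hw, ← Fin.sum_univ_eq_sum_range]
      exact Finset.sum_congr rfl fun i _ => by simp [a, i.2, Fin.is_le]
    rw [Fin.sum_univ_eq_sum_range (fun i => c i • T^[i] v), map_sum,
      Finset.sum_congr rfl (fun i _ => (hT (c i) (T^[i] v)).trans (by rw [← Function.iterate_succ_apply' T])),
      Finset.sum_range_succ, show c k = z from hzr, hwr, Finset.sum_range_succ' (fun i => c i • T^[i] v),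
      Finset.sum_range_succ' (fun i => a i • T^[i] v), smul_add, Finset.smul_sum, ← add_assoc,
      ← Finset.sum_add_distrib]
    congr 1
    · refine Finset.sum_congr rfl fun i _ => ?_
      simp only [c, coef, eval_add, eval_pow, eval_mul, eval_C, eval_X, add_smul, smul_smul, mul_comm (a (i + 1))]
    · simp only [c, coef, eval_pow, eval_mul, eval_C, eval_X, smul_smul, mul_comm (a 0)]

theorem span_fixed_top [IsAlgClosed K] {q : ℕ} (hq : 2 ≤ q) (T : V →+ V)
    (hT : ∀ (c : K) v, T (c • v) = c ^ q • T v) (hinj : Function.Injective T) :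
    Submodule.span K {v | T v = v} = ⊤ := by
  classical
  by_contra hne
  set W := Submodule.span K {v | T v = v}
  obtain ⟨b, hb, hbs, hbi⟩ := exists_linearIndependent K {v | T v = v}
  let B : Module.Basis b K W := (Module.Basis.span hbi).map
    (LinearEquiv.ofEq _ _ (by rw [Subtype.range_coe]; exact hbs))
  have hBv : ∀ i, ((B i : W) : V) = i := fun i => by simp [B, Module.Basis.span_apply]
  haveI : Fintype b := FiniteDimensional.fintypeBasisIndex B
  have hrep : ∀ w : V, w ∈ W → ∃ c : b → K, w = ∑ i, c i • (i : V) := fun w hw => ⟨B.repr ⟨w, hw⟩, by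
    conv_lhs => rw [show w = ((∑ i, B.repr ⟨w, hw⟩ i • B i : W) : V) by rw [B.sum_repr]]
    rw [Submodule.coe_sum]
    exact Finset.sum_congr rfl fun i _ => by rw [Submodule.coe_smul, hBv]⟩
  have hsum : ∀ c : b → K, (∑ i, c i • (i : V)) ∈ W := fun c =>
    W.sum_mem fun i _ => W.smul_mem _ (Submodule.subset_span (hb i.2))
  have hTsum : ∀ c : b → K, T (∑ i, c i • (i : V)) = ∑ i, c i ^ q • (i : V) := fun c => by
    rw [map_sum]
    exact Finset.sum_congr rfl fun i _ => by rw [hT, show T i = i from hb i.2]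
  let T' : V ⧸ W →+ V ⧸ W := QuotientAddGroup.map W.toAddSubgroup W.toAddSubgroup T fun w hw => by
    obtain ⟨c, rfl⟩ := hrep w hw
    show T _ ∈ W
    rw [hTsum]; exact hsum _
  have hT'mk : ∀ v, T' (Submodule.Quotient.mk v) = Submodule.Quotient.mk (T v) := fun v => rfl
  have hT' : ∀ (c : K) x, T' (c • x) = c ^ q • T' x := fun c x => by
    induction x using Submodule.Quotient.induction_on with
    | _ v => rw [← Submodule.Quotient.mk_smul, hT'mk, hT, hT'mk, Submodule.Quotient.mk_smul]
  have hinj' : Function.Injective T' := (injective_iff_map_eq_zero T').2 fun x hx => by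
    induction x using Submodule.Quotient.induction_on with
    | _ v =>
      rw [hT'mk, Submodule.Quotient.mk_eq_zero] at hx
      obtain ⟨c, hc⟩ := hrep _ hx
      choose d hd using fun i => IsAlgClosed.exists_pow_nat_eq (c i) (show 0 < q by omega)
      have : v = ∑ i, d i • (i : V) := hinj (by rw [hTsum, hc]; simp [hd])
      rw [Submodule.Quotient.mk_eq_zero, this]; exact hsum d
  haveI : Nontrivial (V ⧸ W) := Submodule.Quotient.nontrivial_iff.2 hne
  obtain ⟨x, hx, hfix⟩ := exists_fixed hq T' hT' hinj'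
  induction x using Submodule.Quotient.induction_on with
  | _ v =>
    rw [hT'mk, Submodule.Quotient.eq] at hfix
    obtain ⟨c, hc⟩ := hrep _ hfix
    have hroot : ∀ i, ∃ d : K, d ^ q - d + c i = 0 := fun i => by
      obtain ⟨d, hd⟩ := IsAlgClosed.exists_root (X ^ q - X + C (c i) : K[X]) fun e => by
        have hdeg : (X ^ q - X + C (c i) : K[X]).natDegree = q := by
          rw [natDegree_add_C, natDegree_sub_eq_left_of_natDegree_lt] <;>
            simp <;> omega
        have := natDegree_eq_zero_iff_degree_le_zero.2 e.le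
        omega
      exact ⟨d, by simpa using hd⟩
    choose d hd using hroot
    apply hx
    rw [Submodule.Quotient.mk_eq_zero]
    have hmem : v + ∑ i, d i • (i : V) ∈ W := Submodule.subset_span (by
      show T _ = _
      rw [map_add, hTsum, show T v = v + ∑ i, c i • (i : V) by rw [← hc]; abel, add_assoc,
        ← Finset.sum_add_distrib]
      refine congrArg _ (Finset.sum_congr rfl fun i _ => ?_)
      rw [← add_smul, show c i + d i ^ q = d i by linear_combination hd i])
    simpa using W.sub_mem hmem (hsum d)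

/-- The Lang–Steinberg Theorem for the general linear group. Let `K` be an algebraically closed field of prime characteristic `p`, let `q = p^f` with `f ≥ 1`, and let `σ` be the endomorphism of GL_n(K) raising every matrix entry to the `q`-th power. Then every element `g` of GL_n(K) can be written `g = x · σ(x)⁻¹` for some `x` in GL_n(K): the map `x ↦ x σ(x)⁻¹` is surjective. -/
theorem result {K : Type*} [Field K] [IsAlgClosed K] (p : ℕ) [Fact p.Prime] [CharP K p]
    (f : ℕ) (hf : 1 ≤ f) (n : ℕ) (g : GL (Fin n) K) :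
    ∃ x : GL (Fin n) K, g = x * (Matrix.GeneralLinearGroup.map (iterateFrobenius K p f) x)⁻¹ := by
  classical
  set q := p ^ f with hqdef
  have hq : 2 ≤ q := le_trans (Fact.out : p.Prime).two_le (Nat.le_self_pow (by omega) p)
  set σ := iterateFrobenius K p f
  have hσ : ∀ x, σ x = x ^ q := fun x => iterateFrobenius_def p f x
  let G : Matrix (Fin n) (Fin n) K := (g : Matrix (Fin n) (Fin n) K)
  let T : (Fin n → K) →+ (Fin n → K) :=
    { toFun := fun v => G.mulVec (σ ∘ v)
      map_zero' := by rw [show (σ ∘ (0 : Fin n → K)) = 0 from funext fun i => map_zero σ, Matrix.mulVec_zero]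
      map_add' := fun v w => by
        rw [show σ ∘ (v + w) = σ ∘ v + σ ∘ w from funext fun i => map_add σ _ _, Matrix.mulVec_add] }
  have hT : ∀ (c : K) v, T (c • v) = c ^ q • T v := fun c v => by
    show G.mulVec (σ ∘ (c • v)) = _
    rw [show σ ∘ (c • v) = c ^ q • (σ ∘ v) from funext fun i => by simp [hσ, mul_pow], Matrix.mulVec_smul]
    rfl
  have hinj : Function.Injective T := fun v w e => by
    have h := congrArg ((↑g⁻¹ : Matrix (Fin n) (Fin n) K).mulVec) (show G.mulVec (σ ∘ v) = G.mulVec (σ ∘ w) from e)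
    simp only [G, Matrix.mulVec_mulVec, Units.inv_mul, Matrix.one_mulVec] at h
    exact funext fun i => σ.injective (congrFun h i)
  obtain ⟨b, hb, hbs, hbi⟩ := exists_linearIndependent K {v : Fin n → K | T v = v}
  rw [span_fixed_top hq T hT hinj] at hbs
  let bas : Module.Basis b K (Fin n → K) := Module.Basis.mk hbi (by rw [Subtype.range_coe, hbs])
  let e : Fin n ≃ b := (Pi.basisFun K (Fin n)).indexEquiv bas
  let M : Matrix (Fin n) (Fin n) K := Matrix.of fun i j => (e j : Fin n → K) i
  have hM : IsUnit M := by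
    rw [← Matrix.linearIndependent_cols_iff_isUnit]
    exact hbi.comp e e.injective
  refine ⟨hM.unit, ?_⟩
  rw [eq_mul_inv_iff_mul_eq]
  refine Units.ext (Matrix.ext fun i j => ?_)
  rw [Units.val_mul, Matrix.mul_apply, IsUnit.unit_spec]
  exact congrFun (hb (e j).2) i

end Cfsg.Agent.S2665
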