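import Cfsg.Statements.S2666

set_option autoImplicit false
open Cfsg

namespace Cfsg.Agent.S2666

---pre
theorem tele {X : Type*} [Group X] (σ : MulAut X) (a : X) (d : ℕ) :
    ((List.range d).map (fun i => (σ ^ i) (a * (σ a)⁻¹))).prod = a * ((σ ^ d) a)⁻¹ := by
  induction d with
  | zero => simp
  | succ d ih =>
    rw [List.range_succ, List.map_append, List.prod_append, ih]
    simp [pow_succ, mul_assoc]

/-- Shintani descent, in an abstract form. Let `σ` be an automorphism of a group `X` such that the maps `a ↦ a·σ(a)⁻¹` and `a ↦ a·σᵉ(a)⁻¹` are surjective on `X` (the Lang–Steinberg property, which holds when `X` is a connected algebraic group and `σ` a Steinberg endomorphism), where `e ≥ 1`. Write `G` for the subgroup of fixed points of `σᵉ` and `H` for the subgroup of fixed points of `σ`. The `G`-conjugacy classes in the coset `G σ` of the semidirect product of `G` by `σ` correspond to the orbits of `G` on itself under twisted conjugation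 `g ↦ k g σ(k)⁻¹`, and the `e`-th power of `g σ` has `G`-part the norm `g σ(g) ⋯ σ^(e-1)(g)`. For `g` in `G` and any `a` with `g = a σ(a)⁻¹`, put `x = σᵉ(a)⁻¹ a`. Then: (1) `x` lies in `H`, and `a⁻¹ · (g σ(g) ⋯ σ^(e-1)(g)) · a = x`; (2) for `g, g'` in `G` with such elements `a, b` and `x, x'`, the elements `g, g'` are twisted-conjugate under `G` if and only if `x, x'` are conjugate in `H`; (3) every element of `H` arises as such an `x`. So `g ↦ x` induces a well-defined bijection from the twisted `G`-classes of `G` onto the conjugacy classes of `H` (the Shintani map). -/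
theorem result {X : Type*} [Group X] (σ : MulAut X) (e : ℕ) (he : 1 ≤ e)
    (hL : ∀ g : X, ∃ a : X, g = a * (σ a)⁻¹) (hLe : ∀ g : X, ∃ a : X, g = a * ((σ ^ e) a)⁻¹) :
    (∀ g ∈ (MulEquiv.toMonoidHom (σ ^ e)).eqLocus (MonoidHom.id X), ∀ a : X, g = a * (σ a)⁻¹ →
        ((σ ^ e) a)⁻¹ * a ∈ (MulEquiv.toMonoidHom σ).eqLocus (MonoidHom.id X) ∧
          a⁻¹ * ((List.range e).map (fun i => (σ ^ i) g)).prod * a = ((σ ^ e) a)⁻¹ * a) ∧
    (∀ g ∈ (MulEquiv.toMonoidHom (σ ^ e)).eqLocus (MonoidHom.id X), ∀ g' ∈ (MulEquiv.toMonoidHom (σ ^ e)).eqLocus (MonoidHom.id X), ∀ a b : X,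
        g = a * (σ a)⁻¹ → g' = b * (σ b)⁻¹ →
          ((∃ k ∈ (MulEquiv.toMonoidHom (σ ^ e)).eqLocus (MonoidHom.id X), g' = k * g * (σ k)⁻¹) ↔
            (∃ h ∈ (MulEquiv.toMonoidHom σ).eqLocus (MonoidHom.id X), ((σ ^ e) b)⁻¹ * b = h * (((σ ^ e) a)⁻¹ * a) * h⁻¹))) ∧
    (∀ x ∈ (MulEquiv.toMonoidHom σ).eqLocus (MonoidHom.id X), ∃ g ∈ (MulEquiv.toMonoidHom (σ ^ e)).eqLocus (MonoidHom.id X), ∃ a : X,
        g = a * (σ a)⁻¹ ∧ ((σ ^ e) a)⁻¹ * a = x) := by
  have memE : ∀ (τ : MulAut X) (x : X),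
      x ∈ (MulEquiv.toMonoidHom τ).eqLocus (MonoidHom.id X) ↔ τ x = x := fun τ x => Iff.rfl
  simp only [memE]
  have hcomm : ∀ a, σ ((σ ^ e) a) = (σ ^ e) (σ a) := by
    intro a; rw [← MulAut.mul_apply, ← MulAut.mul_apply, ← pow_succ', ← pow_succ]
  have hx : ∀ g a : X, g = a * (σ a)⁻¹ → (σ ^ e) g = g →
      σ (((σ ^ e) a)⁻¹ * a) = ((σ ^ e) a)⁻¹ * a := by
    intro g a ha hg
    rw [map_mul, map_inv, hcomm]
    rw [ha, map_mul, map_inv] at hg
    have h2 := congrArg (fun z => ((σ ^ e) a)⁻¹ * z * σ a) hg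
    simpa [mul_assoc] using h2
  have fix : ∀ h : X, σ h = h → ∀ n : ℕ, (σ ^ n) h = h := by
    intro h hh n
    induction n with
    | zero => simp
    | succ n ih => rw [pow_succ, MulAut.mul_apply, hh, ih]
  refine ⟨?_, ?_, ?_⟩
  · intro g hg a ha
    refine ⟨hx g a ha hg, ?_⟩
    subst ha
    rw [tele]; group
  · intro g hg g' hg' a b ha hb
    constructor
    · rintro ⟨k, hk, hkg⟩
      have hh : σ (b⁻¹ * k * a) = b⁻¹ * k * a := by
        rw [ha, hb] at hkg
        have h2 := congrArg (fun z => b⁻¹ * z * (σ k * σ a)) hkg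
        simp [mul_assoc] at h2
        simp [mul_assoc, h2]
      refine ⟨b⁻¹ * k * a, hh, ?_⟩
      have he' := fix _ hh e
      rw [map_mul, map_mul, map_inv, hk] at he'
      have h2 := congrArg (fun z => z * ((σ ^ e) a)⁻¹ * k⁻¹ * b) he'
      simp [mul_assoc] at h2
      simp [mul_assoc, h2]
    · rintro ⟨h, hh, hhx⟩
      refine ⟨b * h * a⁻¹, ?_, ?_⟩
      · rw [map_mul, map_mul, map_inv, fix h hh e]
        have h2 := congrArg (fun z => (σ ^ e) b * z * h * a⁻¹) hhx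
        simp [mul_assoc] at h2
        simp [mul_assoc, h2]
      · rw [ha, hb, map_mul, map_mul, map_inv, hh]; group
  · intro x hx'
    obtain ⟨c, hc⟩ := hLe x⁻¹
    have hxe : ((σ ^ e) c⁻¹)⁻¹ * c⁻¹ = x := by
      rw [← inv_inv x, hc, map_inv]; group
    generalize c⁻¹ = a at hxe ⊢
    refine ⟨a * (σ a)⁻¹, ?_, a, rfl, hxe⟩
    rw [map_mul, map_inv, ← hcomm]
    have h2 : σ (((σ ^ e) a)⁻¹ * a) = ((σ ^ e) a)⁻¹ * a := by rw [hxe]; exact hx'
    rw [map_mul, map_inv] at h2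
    have h3 := congrArg (fun z => (σ ^ e) a * z * (σ a)⁻¹) h2
    simpa [mul_assoc] using h3

end Cfsg.Agent.S2666
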