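import Cfsg.Statements.S2667

set_option autoImplicit false
open Cfsg

namespace Cfsg.Agent.S2667

/-- Shintani descent, in an abstract form. Let `σ` be an automorphism of a group `X` and `e ≥ 1` (no surjectivity of the Lang maps is needed for this part; in the classical setting `X` is a connected algebraic group and `σ` a Steinberg endomorphism). Write `G` for the subgroup of fixed points of `σᵉ` and `H` for the subgroup of fixed points of `σ`. The `G`-conjugacy classes in the coset `G σ` of the semidirect product of `G` by `σ` correspond to the orbits of `G` on itself under twisted conjugation `g ↦ k g σ(k)⁻¹`, and the `e`-th power of `g σ` has `G`-part the norm `g σ(g) ⋯ σ^(e-1)(g)`. For `g` in `G` and any `a` with `g = a σ(a)⁻¹`, put `x = σᵉ(a)⁻¹ a`. Then conjugation by `a⁻¹` carries the twisted centralizer `{k ∈ G : k g σ(k)⁻¹ = g}` (the centralizer of `g σ` in `G`) exactly onto the centralizer of `x` in `H`: an element `k` of `X` lies in `G` and satisfies `k g σ(k)⁻¹ = g` if and only if `a⁻¹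 k a` lies in `H` and commutes with `x`. In particular the two centralizers are conjugate in `X` and have the same order. -/
theorem result {X : Type*} [Group X] (σ : MulAut X) (e : ℕ) (he : 1 ≤ e)
    (g : X) (hg : g ∈ (MulEquiv.toMonoidHom (σ ^ e)).eqLocus (MonoidHom.id X)) (a : X) (ha : g = a * (σ a)⁻¹) (k : X) :
    (k ∈ (MulEquiv.toMonoidHom (σ ^ e)).eqLocus (MonoidHom.id X) ∧ k * g * (σ k)⁻¹ = g) ↔
      (a⁻¹ * k * a ∈ (MulEquiv.toMonoidHom σ).eqLocus (MonoidHom.id X) ∧
        (a⁻¹ * k * a) * (((σ ^ e) a)⁻¹ * a) = (((σ ^ e) a)⁻¹ * a) * (a⁻¹ * k * a)) := by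
  have memE : ∀ (τ : MulAut X) (x : X),
      x ∈ (MulEquiv.toMonoidHom τ).eqLocus (MonoidHom.id X) ↔ τ x = x := fun τ x => Iff.rfl
  simp only [memE]
  have fix : ∀ h : X, σ h = h → ∀ n : ℕ, (σ ^ n) h = h := by
    intro h hh n
    induction n with
    | zero => simp
    | succ n ih => rw [pow_succ, MulAut.mul_apply, hh, ih]
  subst ha
  constructor
  · rintro ⟨hk, hkg⟩
    have hh : σ (a⁻¹ * k * a) = a⁻¹ * k * a := by
      have h2 := congrArg (fun z => a⁻¹ * z * σ k * σ a) hkg
      simp [mul_assoc] at h2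
      rw [map_mul, map_mul, map_inv, mul_assoc, mul_assoc]
      exact h2.symm
    refine ⟨hh, ?_⟩
    have he' := fix _ hh e
    rw [map_mul, map_mul, map_inv, hk] at he'
    calc a⁻¹ * k * a * (((σ ^ e) a)⁻¹ * a)
        = (((σ ^ e) a)⁻¹ * k * (σ ^ e) a) * (((σ ^ e) a)⁻¹ * a) := by rw [he']
      _ = _ := by group
  · rintro ⟨hh, hc⟩
    have he' := fix _ hh e
    rw [map_mul, map_mul, map_inv] at he'
    constructor
    · rw [← he'] at hc
      have h2 : (((σ ^ e) a)⁻¹ * (σ ^ e) k * (σ ^ e) a) * (((σ ^ e) a)⁻¹ * a) =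
          (((σ ^ e) a)⁻¹ * a) * (a⁻¹ * k * a) := by
        rw [hc, he']
      have h3 := congrArg (fun z => (σ ^ e) a * z * a⁻¹) h2
      simpa [mul_assoc] using h3
    · rw [map_mul, map_mul, map_inv] at hh
      have h2 := congrArg (fun z => a * z * (σ a)⁻¹ * (σ k)⁻¹) hh
      simp [mul_assoc] at h2
      simp [mul_assoc, ← h2]

end Cfsg.Agent.S2667
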