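import Cfsg.Statements.S2668

set_option autoImplicit false
open Cfsg

namespace Cfsg.Agent.S2668

/-- Shintani descent and powers (abstract form). Let `σ` be an automorphism of a group `X`, `e ≥ 1` and `d ≥ 1`, let `g` be fixed by `σᵉ` and let `a` satisfy `g = a σ(a)⁻¹`, so that the Shintani map of `(X, σ, e)` sends the class of `g σ` to the class of `x = σᵉ(a)⁻¹ a`. Put `h = g σ(g) ⋯ σ^(d-1)(g)`, the part in `X` of the `d`-th power `(g σ)^d = h σ^d`. Then `h = a σ^d(a)⁻¹` (so `a` also serves for `h` with respect to `σ^d`), `h` is fixed by `(σ^d)ᵉ`, and `(σ^d)ᵉ(a)⁻¹ a = x^d`: the Shintani map of `(X, σ^d, e)` sends the class of `(g σ)^d` to the class of `x^d`. (When `d` divides `e`, the Shintani map of `(X, σ^d, e/d)` sends it to the class of `x` itself, since `(σ^d)^(e/d) = σᵉ`.) -/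
theorem result {X : Type*} [Group X] (σ : MulAut X) (e d : ℕ) (he : 1 ≤ e) (hd : 1 ≤ d)
    (g : X) (hg : g ∈ (MulEquiv.toMonoidHom (σ ^ e)).eqLocus (MonoidHom.id X)) (a : X) (ha : g = a * (σ a)⁻¹) :
    ((List.range d).map (fun i => (σ ^ i) g)).prod = a * ((σ ^ d) a)⁻¹ ∧
      ((List.range d).map (fun i => (σ ^ i) g)).prod ∈ (MulEquiv.toMonoidHom ((σ ^ d) ^ e)).eqLocus (MonoidHom.id X) ∧
      (((σ ^ d) ^ e) a)⁻¹ * a = (((σ ^ e) a)⁻¹ * a) ^ d := by
  have memE : ∀ (τ : MulAut X) (x : X),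
      x ∈ (MulEquiv.toMonoidHom τ).eqLocus (MonoidHom.id X) ↔ τ x = x := fun τ x => Iff.rfl
  simp only [memE] at hg ⊢
  have tele : ∀ n : ℕ, ((List.range n).map (fun i => (σ ^ i) g)).prod = a * ((σ ^ n) a)⁻¹ := by
    intro n
    induction n with
    | zero => simp
    | succ n ih =>
      rw [List.range_succ, List.map_append, List.prod_append, ih, ha]
      simp [pow_succ, mul_assoc]
  have fix : ∀ (τ : MulAut X) (h : X), τ h = h → ∀ n : ℕ, (τ ^ n) h = h := by
    intro τ h hh n
    induction n with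
    | zero => simp
    | succ n ih => rw [pow_succ, MulAut.mul_apply, hh, ih]
  have hde : (σ ^ d) ^ e = (σ ^ e) ^ d := by rw [← pow_mul, ← pow_mul, mul_comm]
  refine ⟨tele d, ?_, ?_⟩
  · rw [map_list_prod, List.map_map]
    congr 1
    refine List.map_congr_left fun i _ => ?_
    show ((σ ^ d) ^ e) ((σ ^ i) g) = (σ ^ i) g
    rw [← MulAut.mul_apply, ← pow_mul, ← pow_add, add_comm, pow_add, MulAut.mul_apply, mul_comm,
      pow_mul, fix _ g hg]
  · set x := ((σ ^ e) a)⁻¹ * a with hxdef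
    have hsx : σ x = x := by
      have hg' := hg
      rw [ha, map_mul, map_inv] at hg'
      have h2 := congrArg (fun z => ((σ ^ e) a)⁻¹ * z * σ a) hg'
      have hcomm : σ ((σ ^ e) a) = (σ ^ e) (σ a) := by
        rw [← MulAut.mul_apply, ← MulAut.mul_apply, ← pow_succ', ← pow_succ]
      rw [hxdef, map_mul, map_inv, hcomm]
      simpa [mul_assoc] using h2
    rw [hde]
    clear hde hd tele
    induction d with
    | zero => simp
    | succ j ih =>
      have h1 : ((σ ^ e) ^ j) x = x := by rw [← pow_mul]; exact fix σ x hsx _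
      rw [pow_succ' x j, ← ih]
      nth_rewrite 1 [← h1]
      rw [hxdef, map_mul, map_inv, pow_succ, MulAut.mul_apply]
      group

end Cfsg.Agent.S2668
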