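import Cfsg.Statements.S2678
import Cfsg.Agent.Lib.Classical.FieldExtension

set_option autoImplicit false
open Cfsg

open Cfsg.Agent.Classical
open Module Matrix

namespace Cfsg.Agent.S2678

/-- Field-extension embedding of symplectic groups: for a field K with q² elements and a field F with q elements there is an injective homomorphism Sp_2a(K) → Sp_4a(F). -/
theorem result {K F : Type*} [Field K] [Fintype K] [Field F] [Fintype F] {q : ℕ} (hK : Fintype.card K = q ^ 2) (hF : Fintype.card F = q) (a : ℕ) : ∃ φ : ↥(Matrix.symplecticGroup (Fin a) K) →* ↥(Matrix.symplecticGroup (Fin (2 * a)) F), Function.Injective φ := by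
  classical
  obtain ⟨i, σ, T, hσ, hne, hinv, hT, hTl, hzero, hfix⟩ := FieldExt.exists_setup hF hK
  letI : Algebra F K := i.toAlgebra
  have hsm : ∀ (c : F) (u v : Fin a ⊕ Fin a → K), Sp.sympB K a (c • u) v = i c * Sp.sympB K a u v := fun c u v => by
    rw [show c • u = i c • u from funext fun j => Algebra.smul_def c (u j), map_smul, LinearMap.smul_apply, smul_eq_mul]
  have hsm' : ∀ (c : F) (u v : Fin a ⊕ Fin a → K), Sp.sympB K a u (c • v) = i c * Sp.sympB K a u v := fun c u v => by
    rw [show c • v = i c • v from funext fun j => Algebra.smul_def c (v j), map_smul, smul_eq_mul]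
  let B : LinearMap.BilinForm F (Fin a ⊕ Fin a → K) :=
    LinearMap.mk₂ F (fun u v => T (Sp.sympB K a u v))
      (fun u u' v => by simp) (fun c u v => by rw [hsm, hTl]; rfl)
      (fun u v v' => by simp) (fun c u v => by rw [hsm', hTl]; rfl)
  have hA : B.IsAlt := fun u => by
    show T (Sp.sympB K a u u) = 0
    rw [Sp.sympB_isAlt a u, map_zero]
  have hB : Sp.Nondeg B := fun u hu => by
    by_contra hc
    simp only [not_exists, not_not] at hc
    obtain ⟨v, hv⟩ := Sp.sympB_nondeg a u hu
    refine hv (hzero _ fun c => ?_)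
    have h := hc (c • v)
    change T (Sp.sympB K a u (c • v)) = 0 at h
    rwa [map_smul, smul_eq_mul] at h
  let U : Matrix.symplecticGroup (Fin a) K →* GL (Fin a ⊕ Fin a) K := (Matrix.symplecticGroup (Fin a) K).subtype.toHomUnits
  exact FieldExt.exists_hom_symp ((FieldExt.restrictHom (F := F)).comp U)
    (FieldExt.restrictHom_injective.comp fun g h e => Subtype.ext (congrArg Units.val e))
    B hA hB (m := 2 * a) (by rw [FieldExt.finrank_eq hF hK, Fintype.card_sum, Fintype.card_fin]; omega)
    (fun g x y => congrArg T ((Sp.mem_symplectic_iff a g.1).1 g.2 x y))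

end Cfsg.Agent.S2678
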