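import Cfsg.Statements.S2679
import Cfsg.Agent.Lib.Classical.FieldExtension

set_option autoImplicit false
open Cfsg

open Cfsg.Agent.Classical
open Module QuadraticMap Matrix

namespace Cfsg.Agent.S2679

/-- An elliptic orthogonal group embeds in the hyperbolic orthogonal group of the same dimension over the quadratic extension: for a field F with q elements and a field K with q² elements there is an injective homomorphism from O⁻_2m(F) (isometries of Σ_(j<m−1) x_j y_j + z₁² + a z₁z₂ + c z₂², binary part anisotropic) to O⁺_2m(K) (isometries of Σ_(j<m) x_j y_j over K). -/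
theorem result {F K : Type*} [Field F] [Fintype F] [Field K] [Fintype K] {q : ℕ} (hF : Fintype.card F = q) (hK : Fintype.card K = q ^ 2) {m : ℕ} (hm : 1 ≤ m) (a c : F) (hac : ∀ z₁ z₂ : F, z₁ ^ 2 + a * z₁ * z₂ + c * z₂ ^ 2 = 0 → z₁ = 0 ∧ z₂ = 0) : ∃ φ : ↥(Cfsg.isometryGroup F (Cfsg.quadFormMinus (m - 1) F a c)) →* ↥(Cfsg.isometryGroup K (Cfsg.quadFormPlus m K)), Function.Injective φ := by
  classical
  obtain ⟨i⟩ := FieldExt.exists_emb F K two_ne_zero (by rw [hK, hF])
  letI : Algebra F K := i.toAlgebra
  -- the quadratic splits over the extension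
  obtain ⟨r, hr⟩ : ∃ r : K, r ^ 2 + i a * r + i c = 0 := by
    have hirr : Irreducible (Polynomial.X ^ 2 + Polynomial.C a * Polynomial.X + Polynomial.C c : Polynomial F) := by
      have hd : (Polynomial.X ^ 2 + Polynomial.C a * Polynomial.X + Polynomial.C c : Polynomial F).natDegree = 2 := by
        compute_degree!
      rw [Polynomial.irreducible_iff_roots_eq_zero_of_degree_le_three (by omega) (by omega)]
      refine Multiset.eq_zero_of_forall_notMem fun t ht => ?_
      have := (Polynomial.mem_roots'.1 ht).2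
      simp at this
      exact one_ne_zero (hac t 1 (by linear_combination this)).2
    haveI := Fact.mk hirr
    have hfin : finrank F (AdjoinRoot (Polynomial.X ^ 2 + Polynomial.C a * Polynomial.X + Polynomial.C c : Polynomial F)) = 2 := by
      rw [(AdjoinRoot.powerBasis hirr.ne_zero).finrank, AdjoinRoot.powerBasis_dim]
      compute_degree!
    have hKF : finrank F K = 2 := by
      have h := Module.natCard_eq_pow_finrank (K := F) (V := K)
      rw [Nat.card_eq_fintype_card, Nat.card_eq_fintype_card, hK, hF] at h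
      exact (Nat.pow_right_injective (hF ▸ Fintype.one_lt_card : 1 < q) h).symm
    obtain ⟨f⟩ := FiniteField.nonempty_algHom_of_finrank_dvd (F := F)
      (K := AdjoinRoot (Polynomial.X ^ 2 + Polynomial.C a * Polynomial.X + Polynomial.C c : Polynomial F)) (L := K)
      (by rw [hfin, hKF])
    refine ⟨f (AdjoinRoot.root _), ?_⟩
    have h := congrArg f (AdjoinRoot.eval₂_root (Polynomial.X ^ 2 + Polynomial.C a * Polynomial.X + Polynomial.C c : Polynomial F))
    rw [Polynomial.eval₂_add, Polynomial.eval₂_add, Polynomial.eval₂_mul, Polynomial.eval₂_X_pow, Polynomial.eval₂_X,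
      Polynomial.eval₂_C, Polynomial.eval₂_C] at h
    have e : ∀ x, f (AdjoinRoot.of _ x) = i x := fun x => f.commutes x
    rw [map_add, map_add, map_mul, map_pow, map_zero, e, e] at h
    exact h
  set Q := WittDec.QM (m - 1) (i a) (i c) with hQdef
  have hmap : ∀ v, WittDec.QM (m - 1) (i a) (i c) (fun j => i (v j)) = i (WittDec.QM (m - 1) a c v) := fun v => by
    simp [WittDec.QM_apply, Cfsg.quadFormMinus, map_sum]
  have hpmap : ∀ u v, polar (WittDec.QM (m - 1) (i a) (i c)) (fun j => i (u j)) (fun j => i (v j)) =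
      i (polar (WittDec.QM (m - 1) a c) u v) := fun u v => by
    rw [polar, polar, map_sub, map_sub, ← hmap, ← hmap, ← hmap]
    congr 2
    congr 1
    funext j; simp
  have hQ : (polarBilin Q).Nondegenerate := by
    have hd := WittDec.plane_disc_ne a c hac
    have hd' : 4 * i c - i a ^ 2 ≠ 0 := fun e => hd (i.injective (by simpa [map_ofNat] using e))
    have hp : ∀ u v, polar Q u v = polar (PlusMax.QP (F := K) (m := m - 1)) (fun j => u (Sum.inl j)) (fun j => v (Sum.inl j)) +
        polar (WittDec.plane (i a) (i c)) (fun j => u (Sum.inr j)) (fun j => v (Sum.inr j)) := fun u v => by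
      have e : ∀ w, Q w = PlusMax.QP (fun j => w (Sum.inl j)) + WittDec.plane (i a) (i c) (fun j => w (Sum.inr j)) := fun w => rfl
      simp only [polar, e, Pi.add_apply]
      rw [show (fun j => u (Sum.inl j) + v (Sum.inl j)) = (fun j => u (Sum.inl j)) + (fun j => v (Sum.inl j)) from rfl,
        show (fun j => u (Sum.inr j) + v (Sum.inr j)) = (fun j => u (Sum.inr j)) + (fun j => v (Sum.inr j)) from rfl]
      ring
    have h1 : ∀ u, (∀ v, polar Q u v = 0) → u = 0 := fun u hu => by
      have e1 : (fun j => u (Sum.inl j)) = 0 := PlusMax.nondeg.1 _ fun y => by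
        have h := hu (Sum.elim y 0)
        rw [hp] at h
        simp only [Sum.elim_inl, Sum.elim_inr] at h
        rw [show (fun j => (0 : Fin 2 → K) j) = 0 from rfl, polar_zero_right, add_zero] at h
        exact h
      have e0 := hu (Sum.elim 0 (Pi.single 0 1))
      have e0' := hu (Sum.elim 0 (Pi.single 1 1))
      rw [hp, e1, polar_zero_left] at e0 e0'
      simp [WittDec.polar_plane] at e0 e0'
      have f0 : (4 * i c - i a ^ 2) * u (Sum.inr 0) = 0 := by linear_combination (2 * i c) * e0 - i a * e0'
      have f1 : (4 * i c - i a ^ 2) * u (Sum.inr 1) = 0 := by linear_combination (2 : K) * e0' - i a * e0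
      funext s
      rcases s with j | j
      · exact congrFun e1 j
      · fin_cases j
        · exact (mul_eq_zero.1 f0).resolve_left hd'
        · exact (mul_eq_zero.1 f1).resolve_left hd'
    exact ⟨h1, fun y hy => h1 y fun x => by rw [polar_comm]; exact hy x⟩
  have hV : finrank K ((Fin (m - 1) ⊕ Fin (m - 1)) ⊕ Fin 2 → K) = 2 * m := by
    rw [finrank_pi, Fintype.card_sum, Fintype.card_sum, Fintype.card_fin, Fintype.card_fin]; omega
  let L : ((Fin (m - 1) → K) × K) →ₗ[K] ((Fin (m - 1) ⊕ Fin (m - 1)) ⊕ Fin 2 → K) :=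
    { toFun := fun p => Sum.elim (Sum.elim p.1 0) ![r * p.2, p.2]
      map_add' := fun p p' => by funext s; rcases s with (j | j) | j <;> (try fin_cases j) <;> simp <;> ring
      map_smul' := fun c p => by funext s; rcases s with (j | j) | j <;> (try fin_cases j) <;> simp <;> ring }
  have hLi : Function.Injective L := fun p p' e => Prod.ext (funext fun j => by simpa [L] using congrFun e (.inl (.inl j)))
    (by simpa [L] using congrFun e (.inr 1))
  obtain ⟨φ, hφ⟩ := WittDec.exists_equiv_plus Q hQ hV ⟨LinearMap.range L, by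
    rw [LinearMap.finrank_range_of_inj hLi, finrank_prod, finrank_fin_fun, finrank_self]; omega, by
    rintro _ ⟨p, rfl⟩
    rw [WittDec.QM_apply]
    simp [L, Cfsg.quadFormMinus]
    linear_combination (p.2 ^ 2) * hr⟩
  let M : Cfsg.isometryGroup F (Cfsg.quadFormMinus (m - 1) F a c) →* GL ((Fin (m - 1) ⊕ Fin (m - 1)) ⊕ Fin 2) K :=
    (Matrix.GeneralLinearGroup.map i).comp (Cfsg.isometryGroup F (Cfsg.quadFormMinus (m - 1) F a c)).subtype
  have hMi : Function.Injective M := fun g h e => Subtype.ext (Units.ext (Matrix.map_injective i.injective (congrArg Units.val e)))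
  refine FieldExt.exists_hom_orth (F := K) ((FieldExt.restrictHom (F := K) (K := K)).comp M)
    (FieldExt.restrictHom_injective.comp hMi) Q _ φ hφ fun g x => ?_
  set A : Matrix ((Fin (m - 1) ⊕ Fin (m - 1)) ⊕ Fin 2) ((Fin (m - 1) ⊕ Fin (m - 1)) ⊕ Fin 2) F :=
    g.1.val with hA
  have hg : ∀ v, WittDec.QM (m - 1) a c (A *ᵥ v) = WittDec.QM (m - 1) a c v := fun v => by
    rw [WittDec.QM_apply, WittDec.QM_apply]; exact g.2 v v
  have hgp : ∀ u v, polar (WittDec.QM (m - 1) a c) (A *ᵥ u) (A *ᵥ v) = polar (WittDec.QM (m - 1) a c) u v := fun u v => by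
    simp only [polar, ← mulVec_add, hg]
  have hsingle : ∀ s : (Fin (m - 1) ⊕ Fin (m - 1)) ⊕ Fin 2, (fun j => i ((Pi.single s (1 : F) : _ → F) j)) = Pi.single s 1 := fun s => funext fun j => by
    by_cases h : j = s
    · subst h; simp
    · simp [h]
  have hcol : ∀ s : (Fin (m - 1) ⊕ Fin (m - 1)) ⊕ Fin 2, (A.map i) *ᵥ Pi.single s 1 = fun j => i ((A *ᵥ Pi.single s 1) j) := fun s => by
    funext j; simp
  set D := Q.comp (A.map i).mulVecLin - Q
  have hpD : polarBilin D = 0 := (Pi.basisFun K _).ext fun s => (Pi.basisFun K _).ext fun s' => by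
    simp only [Pi.basisFun_apply, LinearMap.zero_apply, polarBilin_apply_apply]
    have e : polar D (Pi.single s 1) (Pi.single s' 1) =
        polar Q ((A.map i) *ᵥ Pi.single s 1) ((A.map i) *ᵥ Pi.single s' 1) - polar Q (Pi.single s 1) (Pi.single s' 1) := by
      simp only [D, polar, QuadraticMap.sub_apply, QuadraticMap.comp_apply, mulVecLin_apply, mulVec_add]; ring
    rw [e, hcol, hcol, hQdef, hpmap, ← hsingle, ← hsingle, hpmap, hgp, sub_self]
  have hD : ∀ s : (Fin (m - 1) ⊕ Fin (m - 1)) ⊕ Fin 2, D (Pi.single s 1) = 0 := fun s => by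
    show Q ((A.map i) *ᵥ Pi.single s 1) - Q (Pi.single s 1) = 0
    rw [hcol, hQdef, hmap, ← hsingle, hmap, hg, sub_self]
  have hsum : ∀ t : Finset ((Fin (m - 1) ⊕ Fin (m - 1)) ⊕ Fin 2), D (∑ s ∈ t, x s • Pi.single s 1) = 0 := by
    intro t
    induction t using Finset.induction with
    | empty => simp
    | insert s t hs ih =>
      rw [Finset.sum_insert hs, QuadraticMap.map_add (⇑D), QuadraticMap.map_smul, hD, smul_zero, ih,
        ← polarBilin_apply_apply, hpD]
      simp
  have := hsum Finset.univ
  rw [← pi_eq_sum_univ' x] at this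
  exact sub_eq_zero.1 this

end Cfsg.Agent.S2679
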