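import Cfsg.Statements.S2690
import Cfsg.Agent.Lib.Classical.PSLMon
-- import your own Cfsg.Agent.* helpers here

set_option autoImplicit false
open Cfsg

namespace Cfsg.Agent.S2690

/-- Every automorphism of a simple projective special linear group PSL_n(F) over a finite field (n ≥ 2; |F| ≥ 4 when n = 2) is a product δ φ γ of an inner-diagonal automorphism δ (induced by an invertible matrix), a standard field automorphism φ (one automorphism of F applied to every entry, possibly the identity) and γ either the identity or the inverse-transpose automorphism. -/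
theorem result {F : Type*} [Field F] [Fintype F] {p f : ℕ} [Fact p.Prime] (hF : Fintype.card F = p ^ f) (hf : 1 ≤ f) {n : ℕ} (hn : 2 ≤ n) (hs : n = 2 → 4 ≤ Fintype.card F) (β : MulAut (Matrix.ProjectiveSpecialLinearGroup (Fin n) F)) :
    ∃ (δ φ γ : MulAut (Matrix.ProjectiveSpecialLinearGroup (Fin n) F)) (σ : F ≃+* F), Cfsg.IsInnerDiagonalAutPSL δ ∧ Cfsg.IsStdFieldAutPSL σ φ ∧ (γ = 1 ∨ Cfsg.IsInverseTransposeAutPSL γ) ∧ β = δ * φ * γ := by
  obtain ⟨g, σ, hβ⟩ := Cfsg.Agent.PSLMon.aut_eq hn β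
  have hmul : Cfsg.Agent.PSLAut.semi g σ =
      Cfsg.Agent.PSLAut.semi g 1 * Cfsg.Agent.PSLAut.semi 1 σ := by
    rw [Cfsg.Agent.PSLAut.semi_mul, one_mul, map_one, mul_one]
  have h1 : Cfsg.IsInnerDiagonalAutPSL (Cfsg.Agent.PSLAut.semi g 1) :=
    ⟨g, fun s s' h => Cfsg.Agent.PSLAut.semi_mk g 1 s s' (by rw [h]; congr 1)⟩
  have h2 : Cfsg.IsStdFieldAutPSL σ (Cfsg.Agent.PSLAut.semi (1 : GL (Fin n) F) σ) :=
    fun s s' h => Cfsg.Agent.PSLAut.semi_mk 1 σ s s' (by rw [h]; simp)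
  rcases hβ with hβ | ⟨-, hβ⟩
  · exact ⟨_, _, 1, σ, h1, h2, Or.inl rfl, by rw [← hmul, mul_one]; exact hβ⟩
  · exact ⟨_, _, Cfsg.Agent.PSLAut.it, σ, h1, h2,
      Or.inr Cfsg.Agent.PSLAut.it_isInverseTranspose, by rw [← hmul]; exact hβ⟩

end Cfsg.Agent.S2690
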