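import Cfsg.Statements.S2718
import Cfsg.Agent.Lib.Classical.PGOPlus
import Cfsg.Agent.Lib.Classical.PGOSplit

set_option autoImplicit false
set_option maxHeartbeats 2000000
open Cfsg

namespace Cfsg.Agent.S2718

/-- Let T = PΩ⁺_{2m}(F) with m ≥ 4 and |F| = q odd, G = Inndiag(T), and γ an involutory graph automorphism of T induced by a similarity (one interchanging the two classes of maximal totally singular subspaces). Then the G-class of γ is either a single T-class or the union of exactly two T-classes, and it is the union of two unless m is odd and q ≡ 3 (mod 4). -/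
theorem result {F : Type*} [Field F] [Fintype F] (hodd : Odd (Fintype.card F)) {m : ℕ} (hm : 4 ≤ m) (γ : MulAut (Cfsg.POmega F (Cfsg.quadFormPlus m F))) (hγ : Cfsg.IsSimilarityGraphAutPOmegaPlus m γ) (hγ2 : orderOf γ = 2) :
    (Cfsg.splitClassCount (Cfsg.inndiagPOmegaPlus m F) (Cfsg.Inn (Cfsg.POmega F (Cfsg.quadFormPlus m F))) γ = 1 ∨ Cfsg.splitClassCount (Cfsg.inndiagPOmegaPlus m F) (Cfsg.Inn (Cfsg.POmega F (Cfsg.quadFormPlus m F))) γ = 2) ∧ (¬ (Odd m ∧ Fintype.card F % 4 = 3) → Cfsg.splitClassCount (Cfsg.inndiagPOmegaPlus m F) (Cfsg.Inn (Cfsg.POmega F (Cfsg.quadFormPlus m F))) γ = 2) := by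
  have h2 := Cfsg.Agent.PGOPlus.two_ne_zero' hodd
  obtain ⟨μ, hμ⟩ := Cfsg.Agent.PGOPlus.exists_nonsquare_unit h2
  have hτ := Cfsg.Agent.PGOPlus.tau_notMem h2 hm hμ (m := m)
  have hτe := Cfsg.Agent.PGOPlus.eps_tau h2 hm μ (m := m)
  have hκ := Cfsg.Agent.PGOPlus.kappa_iff (m := m) h2
  have hc := Cfsg.Agent.PGOPlus.card_II_plus (m := m)
  have hQ := Cfsg.Agent.Classical.PlusMax.nondeg (F := F) (m := m)
  obtain ⟨g, hg, hnp, hind⟩ := hγ
  set G : Cfsg.Agent.PGOQuot.Sim (Cfsg.Agent.Classical.PlusMax.QP (F := F) (m := m)) := ⟨g, hg⟩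
  have hD := (Cfsg.Agent.PGOQuot.induced_iff _ G γ).1 hind
  have he : Cfsg.Agent.PGOQuot.eps _ hQ h2 hc hm G ≠ 1 := fun e => hnp (by
    rw [Cfsg.Agent.PGOQuot.eps_eq_one_iff] at e
    exact (Cfsg.Agent.PGOClasses.pres_iff h2 (Cfsg.quadFormPlus m F) (LinearEquiv.refl F _) (fun v => rfl) g
      (Cfsg.Agent.PGOQuot.mu _ hQ h2 hc hm G).ne_zero (Cfsg.Agent.PGOQuot.mu_spec _ hQ h2 hc hm G)).2 e)
  obtain ⟨a, ha⟩ := Cfsg.Agent.PGOQuot.ker_D _ hQ h2 hc hm (g := G * G) (by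
    rw [map_mul, hD]; exact (by have h := pow_orderOf_eq_one γ; rwa [hγ2, pow_two] at h : γ * γ = 1))
  have h := Cfsg.Agent.PGOSplit.split_main _ hQ h2 hc hm hτ hτe _ (Cfsg.Agent.PGOPlus.inndiag_eq h2 hm) he ha
  rw [hD] at h
  exact ⟨h.1, fun hh => h.2 (Or.inl (hκ.2 hh))⟩

end Cfsg.Agent.S2718
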