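import Cfsg.Statements.S2719
import Cfsg.Agent.Lib.Classical.PGOMinus
import Cfsg.Agent.Lib.Classical.PGOSemi

set_option autoImplicit false
set_option maxHeartbeats 4000000
open Cfsg

namespace Cfsg.Agent.S2719

/-- Let T = PΩ⁻_{2m+2}(F) with m ≥ 3 and |F| = q odd (form with anisotropic binary part z₁² + a z₁ z₂ + b z₂²), G = Inndiag(T), and γ an involutory graph automorphism of T (an automorphism in the image of the semisimilarity group, not inner-diagonal, of order 2). Then the G-class of γ is either a single T-class or the union of exactly two T-classes, and it is the union of two unless m is even and q ≡ 1 (mod 4). -/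
theorem result {F : Type*} [Field F] [Fintype F] (hodd : Odd (Fintype.card F)) {m : ℕ} (hm : 3 ≤ m) (a b : F) (hab : (∀ z₁ z₂ : F, z₁ ^ 2 + a * z₁ * z₂ + b * z₂ ^ 2 = 0 → z₁ = 0 ∧ z₂ = 0)) (γ : MulAut (Cfsg.POmega F (Cfsg.quadFormMinus m F a b))) (hγ : Cfsg.IsGraphAutClassPOmegaMinus m a b γ) (hγ2 : orderOf γ = 2) :
    (Cfsg.splitClassCount (Cfsg.inndiagPOmegaMinus m F a b) (Cfsg.Inn (Cfsg.POmega F (Cfsg.quadFormMinus m F a b))) γ = 1 ∨ Cfsg.splitClassCount (Cfsg.inndiagPOmegaMinus m F a b) (Cfsg.Inn (Cfsg.POmega F (Cfsg.quadFormMinus m F a b))) γ = 2) ∧ (¬ (Even m ∧ Fintype.card F % 4 = 1) → Cfsg.splitClassCount (Cfsg.inndiagPOmegaMinus m F a b) (Cfsg.Inn (Cfsg.POmega F (Cfsg.quadFormMinus m F a b))) γ = 2) := by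
  classical
  have h2 := Cfsg.Agent.PGOPlus.two_ne_zero' hodd
  obtain ⟨μ, hμ⟩ := Cfsg.Agent.PGOPlus.exists_nonsquare_unit h2
  obtain ⟨x, y, hxy⟩ := Cfsg.Agent.PGOMinus.exists_norm h2 hab μ
  have hτ := Cfsg.Agent.PGOMinus.tau_notMem h2 hm hab hμ x y hxy
  have hτe := Cfsg.Agent.PGOMinus.eps_tau h2 hm hab μ x y hxy
  have hκ := Cfsg.Agent.PGOMinus.kappa_iff (m := m) h2 hab
  have hc := Cfsg.Agent.PGOMinus.card_II (m := m)
  have h4 := Cfsg.Agent.PGOMinus.four_le hm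
  have hQ := Cfsg.Agent.PGOMinus.nondeg (m := m) hab
  obtain ⟨hgam, hni, -⟩ := hγ
  have hγγ : γ * γ = 1 := by have h := pow_orderOf_eq_one γ; rwa [hγ2, pow_two] at h
  have frame : ∃ e f z z' : (Fin m ⊕ Fin m) ⊕ Fin 2 → F,
      Cfsg.Agent.PGOMinus.QMc m a b e = 0 ∧ Cfsg.Agent.PGOMinus.QMc m a b f = 0 ∧
      Cfsg.Agent.PGOMinus.QMc m a b z = 0 ∧
      QuadraticMap.polar (Cfsg.Agent.PGOMinus.QMc m a b) e f = 1 ∧
      QuadraticMap.polar (Cfsg.Agent.PGOMinus.QMc m a b) z' z = 1 ∧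
      QuadraticMap.polar (Cfsg.Agent.PGOMinus.QMc m a b) e z = 0 ∧
      QuadraticMap.polar (Cfsg.Agent.PGOMinus.QMc m a b) f z = 0 ∧
      QuadraticMap.polar (Cfsg.Agent.PGOMinus.QMc m a b) z' e = 0 ∧
      QuadraticMap.polar (Cfsg.Agent.PGOMinus.QMc m a b) z' f = 0 := by
    refine ⟨Pi.single (.inl (.inl ⟨0, by omega⟩)) 1, Pi.single (.inl (.inr ⟨0, by omega⟩)) 1,
      Pi.single (.inl (.inl ⟨1, by omega⟩)) 1, Pi.single (.inl (.inr ⟨1, by omega⟩)) 1, ?_, ?_, ?_, ?_, ?_, ?_, ?_, ?_, ?_⟩ <;>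
      simp [QuadraticMap.polar, Cfsg.Agent.PGOMinus.QMc_apply, Pi.single_apply, Finset.sum_add_distrib, add_mul,
        mul_add]
  rcases Cfsg.Agent.PGOSemi.linear_or_square _ hQ h2 hc h4 frame hgam hγγ with ⟨G, hD⟩ | ⟨hsq, h41⟩
  swap
  · exact absurd (hκ.1 hsq).2 (by omega)
  have he : Cfsg.Agent.PGOQuot.eps _ hQ h2 hc h4 G ≠ 1 := fun e => hni (by
    rw [Cfsg.Agent.PGOMinus.inndiag_eq h2 hm hab]
    exact ⟨G, MonoidHom.mem_ker.2 e, hD⟩)
  obtain ⟨c, hc'⟩ := Cfsg.Agent.PGOQuot.ker_D _ hQ h2 hc h4 (g := G * G) (by rw [map_mul, hD]; exact hγγ)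
  have h := Cfsg.Agent.PGOSplit.split_main _ hQ h2 hc h4 hτ hτe _ (Cfsg.Agent.PGOMinus.inndiag_eq h2 hm hab) he hc'
  rw [hD] at h
  refine ⟨h.1, fun hh => h.2 ?_⟩
  rcases Nat.even_or_odd m with hev | hod
  · refine Or.inl (hκ.2 ⟨hev, ?_⟩)
    rw [Nat.odd_iff] at hodd
    have : ¬ Fintype.card F % 4 = 1 := fun e => hh ⟨hev, e⟩
    omega
  · exact Or.inr hod.add_one

end Cfsg.Agent.S2719
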