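import Cfsg.Statements.S2723
import Cfsg.Agent.Lib.Classical.PGOPlus

set_option autoImplicit false
open Cfsg

namespace Cfsg.Agent.S2723

/-- Let T = PΩ⁺_{2m}(F) with m ≥ 4 and |F| = q odd. The image of the special orthogonal group in Aut(T) contains the inner automorphism group T with index 1 (they coincide) when m is odd and q ≡ 3 (mod 4), and with index 2 otherwise (the index is 2 exactly when the discriminant of the form is a square). -/
theorem result {F : Type*} [Field F] [Fintype F] (hodd : Odd (Fintype.card F)) {m : ℕ} (hm : 4 ≤ m) :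
    ((Odd m ∧ Fintype.card F % 4 = 3) → (Cfsg.Inn (Cfsg.POmega F (Cfsg.quadFormPlus m F))).relIndex (Cfsg.psoAut F (Cfsg.quadFormPlus m F)) = 1) ∧ (¬ (Odd m ∧ Fintype.card F % 4 = 3) → (Cfsg.Inn (Cfsg.POmega F (Cfsg.quadFormPlus m F))).relIndex (Cfsg.psoAut F (Cfsg.quadFormPlus m F)) = 2) := by
  have h2 := Cfsg.Agent.PGOPlus.two_ne_zero' hodd
  obtain ⟨μ, hμ⟩ := Cfsg.Agent.PGOPlus.exists_nonsquare_unit h2
  have hτ := Cfsg.Agent.PGOPlus.tau_notMem h2 hm hμ (m := m)
  have hτe := Cfsg.Agent.PGOPlus.eps_tau h2 hm μ (m := m)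
  have hκ := Cfsg.Agent.PGOPlus.kappa_iff (m := m) h2
  have hc := Cfsg.Agent.PGOPlus.card_II_plus (m := m)
  have hQ := Cfsg.Agent.Classical.PlusMax.nondeg (F := F) (m := m)
  obtain ⟨h1, h3⟩ := Cfsg.Agent.PGOQuot.pso_inn _ hQ h2 hc hm
  exact ⟨fun h => h1 fun h' => hκ.1 h' h, fun h => h3 (hκ.2 h)⟩

end Cfsg.Agent.S2723
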