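import Cfsg.Statements.S2726
import Cfsg.Agent.Lib.Classical.PGOMinus

set_option autoImplicit false
open Cfsg

namespace Cfsg.Agent.S2726

/-- Let T = PΩ⁻_{2m+2}(F) with m ≥ 3 and |F| = q odd (form with anisotropic binary part). Inside Aut(T), the image G̃ of the conformal orthogonal group of the form modulo the image of the special orthogonal group is elementary abelian of order 4. -/
theorem result {F : Type*} [Field F] [Fintype F] (hodd : Odd (Fintype.card F)) {m : ℕ} (hm : 3 ≤ m) (a b : F) (hab : (∀ z₁ z₂ : F, z₁ ^ 2 + a * z₁ * z₂ + b * z₂ ^ 2 = 0 → z₁ = 0 ∧ z₂ = 0)) :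
    (∃ φ : ↥(Cfsg.pgoAut F (Cfsg.quadFormMinus m F a b)) →* Multiplicative (ZMod 2 × ZMod 2), Function.Surjective φ ∧ φ.ker = (Cfsg.psoAut F (Cfsg.quadFormMinus m F a b)).subgroupOf (Cfsg.pgoAut F (Cfsg.quadFormMinus m F a b))) := by
  have h2 := Cfsg.Agent.PGOPlus.two_ne_zero' hodd
  obtain ⟨μ, hμ⟩ := Cfsg.Agent.PGOPlus.exists_nonsquare_unit h2
  obtain ⟨x, y, hxy⟩ := Cfsg.Agent.PGOMinus.exists_norm h2 hab μ
  have hτ := Cfsg.Agent.PGOMinus.tau_notMem h2 hm hab hμ x y hxy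
  have hτe := Cfsg.Agent.PGOMinus.eps_tau h2 hm hab μ x y hxy
  have hκ := Cfsg.Agent.PGOMinus.kappa_iff (m := m) h2 hab
  have hc := Cfsg.Agent.PGOMinus.card_II (m := m)
  have h4 := Cfsg.Agent.PGOMinus.four_le hm
  have hQ := Cfsg.Agent.PGOMinus.nondeg (m := m) hab
  exact Cfsg.Agent.PGOQuot.pgo_pso _ hQ h2 hc h4 hτ

end Cfsg.Agent.S2726
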