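import Cfsg.Statements.S2727
import Cfsg.Agent.Lib.Classical.PGOMinus

set_option autoImplicit false
open Cfsg

namespace Cfsg.Agent.S2727

/-- Let T = PΩ⁻_{2m+2}(F) with m ≥ 3 and |F| = q odd (form with anisotropic binary part). The image of the special orthogonal group in Aut(T) contains the inner automorphism group T with index 2 when m is even and q ≡ 3 (mod 4), and coincides with it otherwise (the index is 2 exactly when the discriminant of the form is a square). -/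
theorem result {F : Type*} [Field F] [Fintype F] (hodd : Odd (Fintype.card F)) {m : ℕ} (hm : 3 ≤ m) (a b : F) (hab : (∀ z₁ z₂ : F, z₁ ^ 2 + a * z₁ * z₂ + b * z₂ ^ 2 = 0 → z₁ = 0 ∧ z₂ = 0)) :
    ((Even m ∧ Fintype.card F % 4 = 3) → (Cfsg.Inn (Cfsg.POmega F (Cfsg.quadFormMinus m F a b))).relIndex (Cfsg.psoAut F (Cfsg.quadFormMinus m F a b)) = 2) ∧ (¬ (Even m ∧ Fintype.card F % 4 = 3) → (Cfsg.Inn (Cfsg.POmega F (Cfsg.quadFormMinus m F a b))).relIndex (Cfsg.psoAut F (Cfsg.quadFormMinus m F a b)) = 1) := by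
  have h2 := Cfsg.Agent.PGOPlus.two_ne_zero' hodd
  obtain ⟨μ, hμ⟩ := Cfsg.Agent.PGOPlus.exists_nonsquare_unit h2
  obtain ⟨x, y, hxy⟩ := Cfsg.Agent.PGOMinus.exists_norm h2 hab μ
  have hτ := Cfsg.Agent.PGOMinus.tau_notMem h2 hm hab hμ x y hxy
  have hτe := Cfsg.Agent.PGOMinus.eps_tau h2 hm hab μ x y hxy
  have hκ := Cfsg.Agent.PGOMinus.kappa_iff (m := m) h2 hab
  have hc := Cfsg.Agent.PGOMinus.card_II (m := m)
  have h4 := Cfsg.Agent.PGOMinus.four_le hm
  have hQ := Cfsg.Agent.PGOMinus.nondeg (m := m) hab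
  obtain ⟨h1, h3⟩ := Cfsg.Agent.PGOQuot.pso_inn _ hQ h2 hc h4
  exact ⟨fun h => h3 (hκ.2 h), fun h => h1 (mt hκ.1 h)⟩

end Cfsg.Agent.S2727
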