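import Cfsg.Statements.S2728
import Cfsg.Agent.Lib.Classical.PGOMinus

set_option autoImplicit false
set_option maxHeartbeats 4000000
open Cfsg

namespace Cfsg.Agent.S2728

/-- Let T = PΩ⁻_{2m+2}(F) with m ≥ 3 and |F| = q odd (form with anisotropic binary part). The image G̃ of the conformal orthogonal group in Aut(T), taken modulo the inner automorphism group T, is dihedral of order 8 when m is even and q ≡ 3 (mod 4), and elementary abelian of order 4 otherwise. -/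
theorem result {F : Type*} [Field F] [Fintype F] (hodd : Odd (Fintype.card F)) {m : ℕ} (hm : 3 ≤ m) (a b : F) (hab : (∀ z₁ z₂ : F, z₁ ^ 2 + a * z₁ * z₂ + b * z₂ ^ 2 = 0 → z₁ = 0 ∧ z₂ = 0)) :
    ((Even m ∧ Fintype.card F % 4 = 3) → (∃ φ : ↥(Cfsg.pgoAut F (Cfsg.quadFormMinus m F a b)) →* DihedralGroup 4, Function.Surjective φ ∧ φ.ker = (Cfsg.Inn (Cfsg.POmega F (Cfsg.quadFormMinus m F a b))).subgroupOf (Cfsg.pgoAut F (Cfsg.quadFormMinus m F a b)))) ∧ (¬ (Even m ∧ Fintype.card F % 4 = 3) → (∃ φ : ↥(Cfsg.pgoAut F (Cfsg.quadFormMinus m F a b)) →* Multiplicative (ZMod 2 × ZMod 2), Function.Surjective φ ∧ φ.ker = (Cfsg.Inn (Cfsg.POmega F (Cfsg.quadFormMinus m F a b))).subgroupOf (Cfsg.pgoAut F (Cfsg.quadFormMinus m F a b)))) := by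
  have h2 := Cfsg.Agent.PGOPlus.two_ne_zero' hodd
  obtain ⟨μ, hμ⟩ := Cfsg.Agent.PGOPlus.exists_nonsquare_unit h2
  obtain ⟨x, y, hxy⟩ := Cfsg.Agent.PGOMinus.exists_norm h2 hab μ
  have hτ := Cfsg.Agent.PGOMinus.tau_notMem h2 hm hab hμ x y hxy
  have hτe := Cfsg.Agent.PGOMinus.eps_tau h2 hm hab μ x y hxy
  have hκ := Cfsg.Agent.PGOMinus.kappa_iff (m := m) h2 hab
  have hc := Cfsg.Agent.PGOMinus.card_II (m := m)
  have h4 := Cfsg.Agent.PGOMinus.four_le hm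
  have hQ := Cfsg.Agent.PGOMinus.nondeg (m := m) hab
  obtain ⟨h1, h3⟩ := Cfsg.Agent.PGOQuot.pgo_inn (Cfsg.Agent.PGOMinus.QMc m a b) hQ h2 hc h4 hτ
  exact ⟨fun h => h3 (hκ.2 h), fun h => h1 (mt hκ.1 h)⟩

end Cfsg.Agent.S2728
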