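import Cfsg.Statements.S2729
import Cfsg.Agent.Lib.Classical.PGOMinus

set_option autoImplicit false
open Cfsg

namespace Cfsg.Agent.S2729

/-- Let T = PΩ⁻_{2m+2}(F) with m ≥ 3 and |F| = q odd (form with anisotropic binary part). The inner-diagonal group G = Inndiag(T) (image of the class-preserving similarities) taken modulo the inner automorphism group T is cyclic of order 4 when m is even and q ≡ 3 (mod 4), and of order 2 otherwise. -/
theorem result {F : Type*} [Field F] [Fintype F] (hodd : Odd (Fintype.card F)) {m : ℕ} (hm : 3 ≤ m) (a b : F) (hab : (∀ z₁ z₂ : F, z₁ ^ 2 + a * z₁ * z₂ + b * z₂ ^ 2 = 0 → z₁ = 0 ∧ z₂ = 0)) :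
    ((Even m ∧ Fintype.card F % 4 = 3) → (∃ φ : ↥(Cfsg.inndiagPOmegaMinus m F a b) →* Multiplicative (ZMod 4), Function.Surjective φ ∧ φ.ker = (Cfsg.Inn (Cfsg.POmega F (Cfsg.quadFormMinus m F a b))).subgroupOf (Cfsg.inndiagPOmegaMinus m F a b))) ∧ (¬ (Even m ∧ Fintype.card F % 4 = 3) → (∃ φ : ↥(Cfsg.inndiagPOmegaMinus m F a b) →* Multiplicative (ZMod 2), Function.Surjective φ ∧ φ.ker = (Cfsg.Inn (Cfsg.POmega F (Cfsg.quadFormMinus m F a b))).subgroupOf (Cfsg.inndiagPOmegaMinus m F a b))) := by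
  have h2 := Cfsg.Agent.PGOPlus.two_ne_zero' hodd
  obtain ⟨μ, hμ⟩ := Cfsg.Agent.PGOPlus.exists_nonsquare_unit h2
  obtain ⟨x, y, hxy⟩ := Cfsg.Agent.PGOMinus.exists_norm h2 hab μ
  have hτ := Cfsg.Agent.PGOMinus.tau_notMem h2 hm hab hμ x y hxy
  have hτe := Cfsg.Agent.PGOMinus.eps_tau h2 hm hab μ x y hxy
  have hκ := Cfsg.Agent.PGOMinus.kappa_iff (m := m) h2 hab
  have hc := Cfsg.Agent.PGOMinus.card_II (m := m)
  have h4 := Cfsg.Agent.PGOMinus.four_le hm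
  have hQ := Cfsg.Agent.PGOMinus.nondeg (m := m) hab
  refine ⟨fun h => ?_, fun h => ?_⟩
  · have hns : ¬ IsSquare (((-1 : Fˣ) : F)) := by
      rw [Units.val_neg, Units.val_one, FiniteField.isSquare_neg_one_iff]
      omega
    obtain ⟨x', y', hxy'⟩ := Cfsg.Agent.PGOMinus.exists_norm h2 hab (-1 : Fˣ)
    exact (Cfsg.Agent.PGOQuot.inndiag_inn _ hQ h2 hc h4 (Cfsg.Agent.PGOMinus.tau_notMem h2 hm hab hns x' y' hxy')
      (Cfsg.Agent.PGOMinus.eps_tau h2 hm hab _ x' y' hxy') _ (Cfsg.Agent.PGOMinus.inndiag_eq h2 hm hab)).2.1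
      (hκ.2 h) (Cfsg.Agent.PGOMinus.tau_sq h2 hm hab x' y' hxy' (hκ.2 h))
  · exact (Cfsg.Agent.PGOQuot.inndiag_inn _ hQ h2 hc h4 hτ hτe _ (Cfsg.Agent.PGOMinus.inndiag_eq h2 hm hab)).1
      (mt hκ.1 h)

end Cfsg.Agent.S2729
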