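import Cfsg.Statements.S2739
import Mathlib

set_option autoImplicit false
open scoped Pointwise
open Cfsg
open scoped Matrix

namespace Cfsg.Agent.S2739

/-- In the projective special linear group PSL(3, 4) all subgroups of order 3 are conjugate. -/
theorem result (F : Type*) [Field F] [Fintype F] (hF : Fintype.card F = 4) (X Y : Subgroup (Matrix.ProjectiveSpecialLinearGroup (Fin 3) F)) (hX : Nat.card ↥X = 3) (hY : Nat.card ↥Y = 3) : ∃ g : Matrix.ProjectiveSpecialLinearGroup (Fin 3) F, MulAut.conj g • X = Y := by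
  classical
  haveI : Fact (Nat.Prime 2) := ⟨Nat.prime_two⟩
  haveI : Fact (Nat.Prime 3) := ⟨Nat.prime_three⟩
  haveI : CharP F 2 := by
    obtain ⟨p, hp⟩ := CharP.exists F
    obtain ⟨k, hpp, hk⟩ := FiniteField.card F p
    have : p = 2 := by
      have h2 : p ∣ 2 ^ 2 := by
        rw [show (2 : ℕ) ^ 2 = Fintype.card F from hF.symm, hk]; exact dvd_pow_self p k.ne_zero
      exact (Nat.prime_dvd_prime_iff_eq hpp Nat.prime_two).1 (hpp.dvd_of_dvd_pow h2)
    exact this ▸ hp
  have h4 : ∀ z : F, z ^ 4 = z := fun z => by rw [← hF]; exact FiniteField.pow_card z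
  have h3 : ∀ z : F, z ≠ 0 → z ^ 3 = 1 := fun z hz =>
    mul_left_cancel₀ hz (by rw [mul_one, ← pow_succ']; exact h4 z)
  let C0 : Matrix (Fin 3) (Fin 3) F := !![0, 0, 1; 1, 0, 0; 0, 1, 0]
  -- the canonical form of an element of order three
  have key : ∀ x : Matrix.ProjectiveSpecialLinearGroup (Fin 3) F, orderOf x = 3 →
      ∃ g P : Matrix.SpecialLinearGroup (Fin 3) F,
        (g : Matrix (Fin 3) (Fin 3) F) * P.1 = P.1 * C0 ∧ QuotientGroup.mk g = x := by
    intro x hx
    obtain ⟨g, rfl⟩ := QuotientGroup.mk_surjective x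
    obtain ⟨M, hM⟩ : ∃ M : Matrix (Fin 3) (Fin 3) F, M = g.1 := ⟨_, rfl⟩
    have hdet : M.det = 1 := hM ▸ g.2
    -- the cube of the lift is scalar
    obtain ⟨c, -, hc⟩ : ∃ r : F, r ^ Fintype.card (Fin 3) = 1 ∧
        Matrix.scalar (Fin 3) r = ((g ^ 3 : Matrix.SpecialLinearGroup (Fin 3) F) : Matrix (Fin 3) (Fin 3) F) := by
      refine Matrix.SpecialLinearGroup.mem_center_iff.1 ((QuotientGroup.eq_one_iff _).1 ?_)
      rw [QuotientGroup.mk_pow]
      have e := pow_orderOf_eq_one (QuotientGroup.mk g : Matrix.ProjectiveSpecialLinearGroup (Fin 3) F)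
      rw [hx] at e
      exact e
    have hns : ∀ r : F, M ≠ Matrix.scalar (Fin 3) r := fun r hr => by
      have h0 : r ≠ 0 := fun h0 => by
        rw [hr, h0, map_zero, Matrix.det_zero] at hdet; exact zero_ne_one hdet
      have : (g : Matrix.SpecialLinearGroup (Fin 3) F) ∈ Subgroup.center _ :=
        Matrix.SpecialLinearGroup.mem_center_iff.2 ⟨r, by rw [Fintype.card_fin]; exact h3 r h0, by
          rw [← hr, hM]⟩
      rw [(QuotientGroup.eq_one_iff _).2 this, orderOf_one] at hx
      norm_num at hx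
    have hM3 : M * (M * M) = Matrix.scalar (Fin 3) c := by
      rw [hc, hM, pow_succ', pow_two]; rfl
    have hcomm : ∀ (v : Fin 3 → F) (r : F), Matrix.scalar (Fin 3) r *ᵥ v = r • v := fun v r => by
      ext i; simp [Matrix.mulVec_diagonal]
    -- a vector moved by `M`
    obtain ⟨v, hv⟩ : ∃ v : Fin 3 → F, ∀ r : F, M *ᵥ v ≠ r • v := by
      by_contra! h
      choose r hr using h
      have hd : ∀ i j, i ≠ j → M i j = 0 := fun i j hij => by
        have e := congrFun (hr (Pi.single j 1)) i
        simpa [Pi.single_eq_of_ne hij] using e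
      have heq : ∀ i, M i i = M 0 0 := fun i => by
        rcases eq_or_ne i 0 with rfl | hi
        · rfl
        obtain ⟨w, hw⟩ : ∃ w : Fin 3 → F, w = Pi.single i 1 + Pi.single 0 1 := ⟨_, rfl⟩
        have e1 := congrFun (hr w) i
        have e2 := congrFun (hr w) 0
        subst hw
        simp [Matrix.mulVec_add, hi, Ne.symm hi, hd i 0 hi, hd 0 i (Ne.symm hi)] at e1 e2
        rw [e1, e2]
      exact hns (M 0 0) (Matrix.ext fun i j => by
        rcases eq_or_ne i j with rfl | hij
        · simp [heq i]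
        · simp [hd i j hij, hij])
    have hv0 : v ≠ 0 := fun h => hv 1 (by rw [h, Matrix.mulVec_zero, smul_zero])
    have hli2 : ∀ s t : F, s • v + t • (M *ᵥ v) = 0 → s = 0 ∧ t = 0 := fun s t h => by
      rcases eq_or_ne t 0 with rfl | ht
      · rw [zero_smul, add_zero] at h
        exact ⟨(smul_eq_zero.1 h).resolve_right hv0, rfl⟩
      · exfalso
        refine hv (-(t⁻¹ * s)) ?_
        have e := eq_neg_of_add_eq_zero_right h
        rw [neg_smul, mul_smul, ← smul_neg, ← e, inv_smul_smul₀ ht]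
    -- a cyclic vector
    obtain ⟨w, hw⟩ : ∃ w : Fin 3 → F, ∀ s t r : F,
        s • w + t • (M *ᵥ w) + r • (M *ᵥ (M *ᵥ w)) = 0 → s = 0 ∧ t = 0 ∧ r = 0 := by
      by_contra! h
      obtain ⟨s, t, r, he, hne⟩ := h v
      have hr0 : r ≠ 0 := fun h0 => by
        rw [h0, zero_smul, add_zero] at he
        obtain ⟨rfl, rfl⟩ := hli2 s t he
        exact hne rfl rfl h0
      obtain ⟨a, ha⟩ : ∃ a, a = -(t / r) := ⟨_, rfl⟩
      obtain ⟨b, hb⟩ : ∃ b, b = -(s / r) := ⟨_, rfl⟩
      have hvv : M *ᵥ (M *ᵥ v) = b • v + a • (M *ᵥ v) := by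
        refine smul_right_injective _ hr0 ?_
        show r • _ = r • _
        rw [smul_add, smul_smul, smul_smul, ha, hb, mul_neg, mul_neg, mul_div_cancel₀ _ hr0,
          mul_div_cancel₀ _ hr0]
        linear_combination (norm := module) he
      have hvvv : M *ᵥ (M *ᵥ (M *ᵥ v)) = c • v := by
        rw [Matrix.mulVec_mulVec, Matrix.mulVec_mulVec, mul_assoc, hM3, hcomm]
      rw [hvv, Matrix.mulVec_add, Matrix.mulVec_smul, Matrix.mulVec_smul, hvv] at hvvv
      obtain ⟨e1, e2⟩ := hli2 (a * b - c) (b + a * a) (by linear_combination (norm := module) hvvv)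
      have hspan : ∃ u : Fin 3 → F, u ∉ Submodule.span F (Set.range ![v, M *ᵥ v]) := by
        by_contra! hc'
        have htop : Submodule.span F (Set.range ![v, M *ᵥ v]) = ⊤ := eq_top_iff.2 fun u _ => hc' u
        have := finrank_range_le_card (R := F) ![v, M *ᵥ v]
        rw [Set.finrank, htop, finrank_top, Module.finrank_pi] at this
        simp at this
      obtain ⟨u, hu⟩ := hspan
      have hli : LinearIndependent F ![v, M *ᵥ v, u] := by
        rw [Fintype.linearIndependent_iff]
        intro g hg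
        simp [Fin.sum_univ_three] at hg
        have hg2 : g 2 = 0 := by
          by_contra h2
          apply hu
          have : u = (-(g 0 / g 2)) • v + (-(g 1 / g 2)) • (M *ᵥ v) := by
            refine smul_right_injective _ h2 ?_
            show g 2 • u = g 2 • _
            rw [smul_add, smul_smul, smul_smul, mul_neg, mul_neg, mul_div_cancel₀ _ h2, mul_div_cancel₀ _ h2]
            linear_combination (norm := module) hg
          rw [this]
          exact add_mem (Submodule.smul_mem _ _ (Submodule.subset_span ⟨0, rfl⟩))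
            (Submodule.smul_mem _ _ (Submodule.subset_span ⟨1, rfl⟩))
        rw [hg2, zero_smul, add_zero] at hg
        obtain ⟨e0, e1⟩ := hli2 _ _ hg
        intro i; fin_cases i <;> assumption
      have hmem : M *ᵥ u ∈ Submodule.span F (Set.range ![v, M *ᵥ v, u]) := by
        rw [hli.span_eq_top_of_card_eq_finrank (by simp)]; trivial
      obtain ⟨g, hg⟩ := Submodule.mem_span_range_iff_exists_fun F |>.1 hmem
      simp [Fin.sum_univ_three] at hg
      -- determinant
      obtain ⟨P, hP⟩ : ∃ P : Matrix (Fin 3) (Fin 3) F, P = Matrix.of fun i j => ![v, M *ᵥ v, u] j i :=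
        ⟨_, rfl⟩
      have hPu : IsUnit P := by
        rw [← Matrix.linearIndependent_cols_iff_isUnit]
        rw [hP]; exact hli
      have hMP : M * P = P * !![0, b, g 0; 1, a, g 1; 0, 0, g 2] := by
        ext i j
        have e0 := congrFun hvv i
        have e1 := congrFun hg i
        fin_cases j <;> simp [hP, Matrix.mul_apply, Fin.sum_univ_three, Matrix.mulVec, dotProduct] at e0 e1 ⊢
        · linear_combination e0
        · linear_combination -e1
      have hd := congrArg Matrix.det hMP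
      rw [Matrix.det_mul, Matrix.det_mul, hdet, one_mul] at hd
      have hd' : -(b * g 2) = 1 := by
        have e := (mul_eq_left₀ (Matrix.isUnit_iff_isUnit_det P |>.1 hPu).ne_zero).1 hd.symm
        simp [Matrix.det_fin_three] at e
        linear_combination e
      have hb0 : b ≠ 0 := fun h0 => by rw [h0, zero_mul, neg_zero] at hd'; exact zero_ne_one hd'
      have ha0 : a ≠ 0 := fun h0 => hb0 (by rw [h0, mul_zero, add_zero] at e2; exact e2)
      have hga : g 2 = a := by
        have e3 : a ^ 3 = 1 := h3 _ ha0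
        linear_combination a * hd' + (g 2 * a) * e2 - g 2 * e3
      have hu2 : M *ᵥ (M *ᵥ u) = (g 1 * b + g 2 * g 0) • v +
          (g 0 + g 1 * a + g 2 * g 1) • (M *ᵥ v) + (g 2 * g 2) • u := by
        conv_lhs => rw [← hg]
        rw [Matrix.mulVec_add, Matrix.mulVec_add, Matrix.mulVec_smul, Matrix.mulVec_smul,
          Matrix.mulVec_smul, hvv, ← hg]
        module
      have hu3 : M *ᵥ (M *ᵥ (M *ᵥ u)) = c • u := by
        rw [Matrix.mulVec_mulVec, Matrix.mulVec_mulVec, mul_assoc, hM3, hcomm]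
      -- an eigenvector outside the plane
      obtain ⟨z, hz⟩ : ∃ z, z = M *ᵥ (M *ᵥ u) - a • (M *ᵥ u) - b • u := ⟨_, rfl⟩
      have hMz : M *ᵥ z = a • z := by
        have c1 : c + a * b = 0 := by linear_combination CharTwo.add_self_eq_zero c + e1
        have c2 : a * a - b = 0 := by linear_combination e2 - CharTwo.add_self_eq_zero b
        have c3 : a + a = 0 := CharTwo.add_self_eq_zero a
        rw [hz, Matrix.mulVec_sub, Matrix.mulVec_sub, Matrix.mulVec_smul, Matrix.mulVec_smul, hu3]
        have e3 : (c + a * b) • u + (a * a - b) • (M *ᵥ u) - (a + a) • (M *ᵥ (M *ᵥ u)) = 0 := by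
          rw [c1, c2, c3, zero_smul, zero_smul, zero_smul, add_zero, sub_zero]
        linear_combination (norm := module) e3
      obtain ⟨s, t, r, he0, hne0⟩ := h (z + v)
      rw [Matrix.mulVec_add, Matrix.mulVec_add, hMz, Matrix.mulVec_smul, hMz, hvv, hz, hu2, ← hg] at he0
      have hzero := Fintype.linearIndependent_iff.1 hli
        ![(s + t * a + r * (a * a)) * ((g 1 * b + g 2 * g 0) - a * g 0) + (s + r * b),
          (s + t * a + r * (a * a)) * ((g 0 + g 1 * a + g 2 * g 1) - a * g 1) + (t + r * a),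
          (s + t * a + r * (a * a)) * (g 2 * g 2 - a * g 2 - b)]
        (by simp [Fin.sum_univ_three]; linear_combination (norm := module) he0)
      have z0 : (s + t * a + r * (a * a)) * ((g 1 * b + g 2 * g 0) - a * g 0) + (s + r * b) = 0 := hzero 0
      have z1 : (s + t * a + r * (a * a)) * ((g 0 + g 1 * a + g 2 * g 1) - a * g 1) + (t + r * a) = 0 := hzero 1
      have z2 : (s + t * a + r * (a * a)) * (g 2 * g 2 - a * g 2 - b) = 0 := hzero 2
      rw [hga, sub_self, zero_sub, mul_eq_zero, neg_eq_zero] at z2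
      have zk := z2.resolve_right hb0
      rw [zk, zero_mul, zero_add] at z0 z1
      have hr : r = 0 := by
        have : r * (a * a) = 0 := by
          linear_combination zk - z0 - a * z1 + r * e2 - CharTwo.add_self_eq_zero (0 : F)
        exact (mul_eq_zero.1 this).resolve_right (mul_ne_zero ha0 ha0)
      rw [hr, zero_mul, add_zero] at z0 z1
      exact hne0 z0 z1 hr
    obtain ⟨P, hP⟩ : ∃ P : Matrix (Fin 3) (Fin 3) F,
        P = Matrix.of fun i j => ![w, M *ᵥ w, M *ᵥ (M *ᵥ w)] j i := ⟨_, rfl⟩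
    have hli : LinearIndependent F ![w, M *ᵥ w, M *ᵥ (M *ᵥ w)] := by
      rw [Fintype.linearIndependent_iff]
      intro g hg
      simp [Fin.sum_univ_three] at hg
      obtain ⟨e0, e1, e2⟩ := hw (g 0) (g 1) (g 2) (by rw [Matrix.mulVec_mulVec]; exact hg)
      intro i; fin_cases i <;> assumption
    have hPu : IsUnit P := by
      rw [← Matrix.linearIndependent_cols_iff_isUnit]
      rw [hP]; exact hli
    have hw3 : M *ᵥ (M *ᵥ (M *ᵥ w)) = c • w := by
      rw [Matrix.mulVec_mulVec, Matrix.mulVec_mulVec, mul_assoc, hM3, hcomm]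
    have hMP : M * P = P * !![0, 0, c; 1, 0, 0; 0, 1, 0] := by
      ext i j
      have e0 := congrFun hw3 i
      fin_cases j <;> simp [hP, Matrix.mul_apply, Fin.sum_univ_three, Matrix.mulVec, dotProduct] at e0 ⊢
      all_goals first | ring1 | linear_combination e0
    have hd := congrArg Matrix.det hMP
    rw [Matrix.det_mul, Matrix.det_mul, hdet, one_mul] at hd
    have hc1 : c = 1 := by
      have e := (mul_eq_left₀ (Matrix.isUnit_iff_isUnit_det P |>.1 hPu).ne_zero).1 hd.symm
      simpa [Matrix.det_fin_three] using e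
    rw [hc1] at hMP
    obtain ⟨l, hl⟩ : ∃ l, l = P.det⁻¹ - 1 := ⟨_, rfl⟩
    let J : Matrix (Fin 3) (Fin 3) F := !![1, 1, 1; 1, 1, 1; 1, 1, 1]
    refine ⟨g, ⟨P * (1 + l • J), ?_⟩, ?_, rfl⟩
    · have hP0 := (Matrix.isUnit_iff_isUnit_det P |>.1 hPu).ne_zero
      have e : (1 + l • J).det = 1 + l := by
        simp [J, Matrix.det_fin_three]
        linear_combination CharTwo.add_self_eq_zero l
      rw [Matrix.det_mul, e, hl, add_sub_cancel, mul_inv_cancel₀ hP0]
    · show g.1 * (P * (1 + l • J)) = P * (1 + l • J) * C0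
      have hJ : J * C0 = C0 * J := by
        ext i j; fin_cases i <;> fin_cases j <;> simp [J, C0, Matrix.mul_apply, Fin.sum_univ_three]
      rw [← hM, ← mul_assoc, hMP]
      simp only [mul_add, add_mul, mul_one, mul_assoc, Matrix.mul_smul, Matrix.smul_mul, hJ]
      rfl
  obtain ⟨x, hx⟩ := exists_prime_orderOf_dvd_card' (G := X) 3 (by rw [hX])
  obtain ⟨y, hy⟩ := exists_prime_orderOf_dvd_card' (G := Y) 3 (by rw [hY])
  rw [← Subgroup.orderOf_coe] at hx hy
  obtain ⟨g, P, hg, hgx⟩ := key x hx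
  obtain ⟨g', P', hg', hgy⟩ := key y hy
  refine ⟨QuotientGroup.mk (P' * P⁻¹), ?_⟩
  obtain ⟨d, hd⟩ : ∃ d : Matrix.SpecialLinearGroup (Fin 3) F, d.1 = C0 :=
    ⟨⟨C0, by simp [C0, Matrix.det_fin_three]⟩, rfl⟩
  have e1 : g * P = P * d := Subtype.ext (by rw [Matrix.SpecialLinearGroup.coe_mul, Matrix.SpecialLinearGroup.coe_mul, hd]; exact hg)
  have e1' : g' * P' = P' * d := Subtype.ext (by rw [Matrix.SpecialLinearGroup.coe_mul, Matrix.SpecialLinearGroup.coe_mul, hd]; exact hg')
  have e : P' * P⁻¹ * g * (P' * P⁻¹)⁻¹ = g' := by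
    calc P' * P⁻¹ * g * (P' * P⁻¹)⁻¹ = P' * P⁻¹ * (g * P) * P'⁻¹ := by group
      _ = P' * d * P'⁻¹ := by rw [e1]; group
      _ = g' := by rw [← e1']; group
  have hXx : X = Subgroup.zpowers (x : Matrix.ProjectiveSpecialLinearGroup (Fin 3) F) :=
    (Subgroup.eq_of_le_of_card_ge (Subgroup.zpowers_le.2 x.2) (by rw [hX, Nat.card_zpowers, hx])).symm
  have hYy : Y = Subgroup.zpowers (y : Matrix.ProjectiveSpecialLinearGroup (Fin 3) F) :=
    (Subgroup.eq_of_le_of_card_ge (Subgroup.zpowers_le.2 y.2) (by rw [hY, Nat.card_zpowers, hy])).symm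
  rw [hXx, hYy, Subgroup.pointwise_smul_def, MulDistribMulAction.toMonoidEnd_apply, MonoidHom.map_zpowers]
  congr 1
  rw [MulDistribMulAction.toMonoidHom_apply, MulAut.smul_def, MulAut.conj_apply]
  rw [← hgx, ← hgy, ← QuotientGroup.mk_inv, ← QuotientGroup.mk_mul, ← QuotientGroup.mk_mul, e]

end Cfsg.Agent.S2739
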