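import Cfsg.Statements.S2756
import Cfsg.Agent.Lib.Solv.ZJReal

set_option autoImplicit false
open scoped Pointwise
open Cfsg

namespace Cfsg.Agent.S2756

/-- For a finite group G the following are equivalent: (a) G has a normal Sylow 2-subgroup; (b) for every odd prime q dividing the order of G and every Sylow q-subgroup T, the normalizer of Z(J(T)) has a normal Sylow 2-subgroup; (c) for every odd prime q and every Sylow q-subgroup T, no nonidentity element of T is inverted by an element of the normalizer of Z(J(T)). Here J(T) is the Thompson subgroup generated by the abelian subgroups of T of largest order. Stated as the two equivalences (a) ⇔ (b) and (a) ⇔ (c). -/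
theorem result {G : Type*} [Group G] [Finite G] : ((∀ P : Sylow 2 G, (P : Subgroup G).Normal) ↔ ∀ (q : ℕ) [Fact q.Prime], q ≠ 2 → q ∣ Nat.card G → ∀ T : Sylow q G, ∀ P : Sylow 2 ↥(Subgroup.normalizer (Cfsg.centerThompsonAOf (T : Subgroup G) : Set G)), (P : Subgroup ↥(Subgroup.normalizer (Cfsg.centerThompsonAOf (T : Subgroup G) : Set G))).Normal) ∧ ((∀ P : Sylow 2 G, (P : Subgroup G).Normal) ↔ ∀ (q : ℕ) [Fact q.Prime], q ≠ 2 → ∀ T : Sylow q G, ∀ x ∈ (T : Subgroup G), x ≠ 1 → ∀ g ∈ Subgroup.normalizer (Cfsg.centerThompsonAOf (T : Subgroup G) : Set G), g * x * g⁻¹ ≠ x⁻¹) := by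
  have hsub : (∀ P : Sylow 2 G, (P : Subgroup G).Normal) → ∀ (H : Subgroup G) (Q : Sylow 2 H), (Q : Subgroup H).Normal := by
    intro h H Q
    haveI : Fact (Nat.Prime 2) := ⟨Nat.prime_two⟩
    refine Cfsg.Agent.Solv.Real.normal_sylow_two_of_not_inv (fun q _ hq hi => ?_) Q
    obtain ⟨P⟩ : Nonempty (Sylow 2 G) := inferInstance
    exact Cfsg.Agent.Solv.Real.not_inv_of_normal_two hq (h P) ((hi.map H.subtype H.subtype_injective).mono le_top)
  have hkey : (∀ (q : ℕ) [Fact q.Prime], q ≠ 2 → ∀ T : Sylow q G,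
      ¬ Cfsg.Agent.Solv.Real.Inv q (Subgroup.normalizer (Cfsg.centerThompsonAOf (T : Subgroup G) : Set G))) →
      ∀ P : Sylow 2 G, (P : Subgroup G).Normal := by
    intro h P
    refine Cfsg.Agent.Solv.Real.normal_sylow_two_of_not_inv (fun q _ hq hi => ?_) P
    obtain ⟨T⟩ : Nonempty (Sylow q G) := inferInstance
    have h1 := Cfsg.Agent.Solv.Real.inv_normalizer_zj hq _ G le_rfl hi T
    rw [Cfsg.Agent.Solv.ZJ.zj_zero] at h1
    exact h q hq T h1
  refine ⟨⟨fun h q _ _ _ T P => hsub h _ P, fun h => hkey ?_⟩, ⟨fun h q _ hq T x hx hx1 g hg e => ?_, fun h => hkey ?_⟩⟩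
  · intro q _ hq T hi
    set N := Subgroup.normalizer (Cfsg.centerThompsonAOf (T : Subgroup G) : Set G) with hN
    by_cases hd : q ∣ Nat.card G
    · obtain ⟨P⟩ : Nonempty (Sylow 2 N) := inferInstance
      refine Cfsg.Agent.Solv.Real.not_inv_of_normal_two hq (h q hq hd T P) ?_
      rw [← Subgroup.subgroupOf_self]
      exact (Cfsg.Agent.Solv.Real.inv_subgroupOf le_rfl).mpr hi
    · obtain ⟨g, -, x, -, hx1, ⟨k, hk⟩, -⟩ := hi
      apply hd
      obtain ⟨i, -, hi⟩ := (Nat.dvd_prime_pow Fact.out).mp (orderOf_dvd_of_pow_eq_one hk)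
      have hi0 : i ≠ 0 := fun h0 => hx1 (orderOf_eq_one_iff.mp (by rw [hi, h0, pow_zero]))
      refine dvd_trans ?_ (orderOf_dvd_natCard x)
      rw [hi]
      exact dvd_pow_self q hi0
  · obtain ⟨P⟩ : Nonempty (Sylow 2 G) := inferInstance
    obtain ⟨k, hk⟩ := T.isPGroup' ⟨x, hx⟩
    exact Cfsg.Agent.Solv.Real.not_inv_of_normal_two hq (h P)
      ⟨g, Subgroup.mem_top g, x, Subgroup.mem_top x, hx1, ⟨k, by simpa using congrArg Subtype.val hk⟩, e⟩
  · intro q _ hq T hi
    set N := Subgroup.normalizer (Cfsg.centerThompsonAOf (T : Subgroup G) : Set G) with hN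
    obtain ⟨g, hg, x, hx, hx1, ⟨k, hk⟩, hgx⟩ := hi
    have hTN : (T : Subgroup G) ≤ N := by
      rw [hN, ← Cfsg.Agent.Solv.ZJ.zj_zero]
      exact Cfsg.Agent.Solv.ZJ.le_normalizer_zj _
    have hxp : IsPGroup q (Subgroup.zpowers x) := by
      rintro ⟨_, i, rfl⟩
      refine ⟨k, Subtype.ext ?_⟩
      change (x ^ i) ^ q ^ k = 1
      rw [← zpow_natCast, zpow_comm, zpow_natCast, hk, one_zpow]
    obtain ⟨n, hn, hnx⟩ := Cfsg.Agent.Local.exists_conj_le_of_not_dvd_relIndex hTN T.isPGroup'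
      (fun hd => T.not_dvd_index (hd.trans (Subgroup.relIndex_dvd_index_of_le hTN)))
      (Subgroup.zpowers_le.mpr hx) hxp
    refine h q hq T (n * x * n⁻¹) (hnx x (Subgroup.mem_zpowers x)) (by simpa using hx1)
      (n * g * n⁻¹) (N.mul_mem (N.mul_mem hn hg) (N.inv_mem hn)) ?_
    calc n * g * n⁻¹ * (n * x * n⁻¹) * (n * g * n⁻¹)⁻¹ = n * (g * x * g⁻¹) * n⁻¹ := by group
      _ = (n * x * n⁻¹)⁻¹ := by rw [hgx]; group

end Cfsg.Agent.S2756
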