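import Cfsg.Statements.S2760
import Cfsg.Agent.Lib.Local.CharPBasics
import Cfsg.Agent.Lib.Solv.Thompson
-- import your own Cfsg.Agent.* helpers here

set_option autoImplicit false
open Cfsg

namespace Cfsg.Agent.S2760

/-- Let G be a finite group with C_G(O₂(G)) ≤ O₂(G) and H a subgroup of G such that H is normal in G, or the subgroup O²(H) generated by the elements of H of odd order is normal in G. Then C_H(O₂(H)) ≤ O₂(H). -/
theorem result {G : Type*} [Group G] [Finite G] (hchar : Subgroup.centralizer (Cfsg.pCore 2 G : Set G) ≤ Cfsg.pCore 2 G) (H : Subgroup G) (hH : H.Normal ∨ ((Cfsg.pResidual 2 ↥H).map H.subtype).Normal) : Subgroup.centralizer (Cfsg.pCore 2 ↥H : Set ↥H) ≤ Cfsg.pCore 2 ↥H := by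
  classical
  set R := (pResidual 2 ↥H).map H.subtype with hR
  rcases hH with hH | hH
  · exact Local.CharPB.centralizer_pCore_le_of_normal hchar H
  haveI := hH
  have hRc := Local.CharPB.centralizer_pCore_le_of_normal hchar R
  haveI : (Subgroup.centralizer (pCore 2 ↥H : Set ↥H)).Normal := Subgroup.normal_centralizer
  refine Solv.le_pCore (Local.CharPB.isPGroup_of_forall_eq_one fun c hc hco => ?_)
  have hcR : (c : G) ∈ R := ⟨c, Solv.mem_pResidual hco, rfl⟩
  have hle : R ≤ H := Subgroup.map_subtype_le _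
  have h1 : (⟨c, hcR⟩ : R) ∈ Subgroup.centralizer (pCore 2 ↥R : Set ↥R) := by
    rw [Subgroup.mem_centralizer_iff]
    intro x hx
    haveI hn : ((pResidual 2 ↥H)).Normal := by
      have := (hH.comap H.subtype)
      rwa [hR, Subgroup.comap_map_eq_self_of_injective H.subtype_injective] at this
    let e : pResidual 2 ↥H ≃* R := (pResidual 2 ↥H).equivMapOfInjective H.subtype H.subtype_injective
    have h2 : (pCore 2 ↥(pResidual 2 ↥H)).map (pResidual 2 ↥H).subtype ≤ pCore 2 ↥H :=
      Solv.le_pCore ((Solv.isPGroup_pCore 2 _).map _)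
    have h3 : e.symm x ∈ pCore 2 ↥(pResidual 2 ↥H) := by
      haveI : ((pCore 2 ↥R).map e.symm.toMonoidHom).Normal :=
        Subgroup.Normal.map inferInstance _ e.symm.surjective
      exact (Solv.le_pCore ((Solv.isPGroup_pCore 2 ↥R).map e.symm.toMonoidHom)) ⟨x, hx, rfl⟩
    have h4 := Subgroup.mem_centralizer_iff.1 hc _ (h2 ⟨_, h3, rfl⟩)
    have h5 : (((e.symm x : pResidual 2 ↥H) : H) : G) = (x : G) := congrArg Subtype.val (e.apply_symm_apply x)
    refine Subtype.ext ?_
    have h6 := congrArg Subtype.val h4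
    simp only [Subgroup.coe_mul, Subgroup.coe_subtype, h5] at h6
    exact h6
  obtain ⟨k, hk⟩ := (Solv.isPGroup_pCore 2 ↥R).exists_card_eq
  have h7 := hk ▸ Subgroup.orderOf_dvd_natCard _ (hRc h1)
  rw [← Subgroup.orderOf_coe] at h7
  refine orderOf_eq_one_iff.1 (Nat.eq_one_of_dvd_coprimes (hco.pow_right k) dvd_rfl ?_)
  rw [← Subgroup.orderOf_coe c]
  exact h7

end Cfsg.Agent.S2760
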