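import Cfsg.Statements.S2761
import Cfsg.Agent.Lib.Local.QdExtension
-- import your own Cfsg.Agent.* helpers here

set_option autoImplicit false
open Cfsg

namespace Cfsg.Agent.S2761
open Cfsg.Agent Cfsg.Agent.Local

set_option synthInstance.maxSize 2048 in
set_option maxRecDepth 10000 in
theorem aff_key : ∀ p0 p1 p2 p3 : ZMod 2 × ZMod 2, p0 ≠ p1 → p0 ≠ p2 → p0 ≠ p3 → p1 ≠ p2 → p1 ≠ p3 → p2 ≠ p3 →
    (p1.1 - p0.1) * (p2.2 - p0.2) - (p2.1 - p0.1) * (p1.2 - p0.2) = 1 ∧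
      p3 = ((p1.1 - p0.1) + (p2.1 - p0.1) + p0.1, (p1.2 - p0.2) + (p2.2 - p0.2) + p0.2) := by
  decide

theorem aff_ne : ((0, 0) : ZMod 2 × ZMod 2) ≠ (1, 0) ∧ ((0, 0) : ZMod 2 × ZMod 2) ≠ (0, 1) ∧
    ((0, 0) : ZMod 2 × ZMod 2) ≠ (1, 1) ∧ ((1, 0) : ZMod 2 × ZMod 2) ≠ (0, 1) ∧
    ((1, 0) : ZMod 2 × ZMod 2) ≠ (1, 1) ∧ ((0, 1) : ZMod 2 × ZMod 2) ≠ (1, 1) := by
  decide

theorem aff_cases : ∀ v : ZMod 2 × ZMod 2, v = (0, 0) ∨ v = (1, 0) ∨ v = (0, 1) ∨ v = (1, 1) := by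
  decide


/-- The group Qd(2), the natural semidirect product of an elementary abelian group of order 4 by SL₂(2) (realised as the affine subgroup of SL₃(2)), is isomorphic to the symmetric group of degree 4. -/
theorem result : Nonempty (↥(Cfsg.qd 2) ≃* Equiv.Perm (Fin 4)) := by
  skip
  classical
  haveI : Fact (Nat.Prime 2) := ⟨Nat.prime_two⟩
  let aff : ↥(Cfsg.qd 2) → ZMod 2 × ZMod 2 → ZMod 2 × ZMod 2 := fun q v =>
    ((q.1.1 0 0) * v.1 + (q.1.1 0 1) * v.2 + q.1.1 0 2, (q.1.1 1 0) * v.1 + (q.1.1 1 1) * v.2 + q.1.1 1 2)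
  have haff : ∀ (a b c e r s : ZMod 2) (h : a * e - b * c = 1) (v : ZMod 2 × ZMod 2),
      aff (qdElt a b c e r s h) v = (a * v.1 + b * v.2 + r, c * v.1 + e * v.2 + s) := fun a b c e r s h v => rfl
  let act : MulAction ↥(Cfsg.qd 2) (ZMod 2 × ZMod 2) :=
    { smul := aff
      one_smul := fun v => by
        show aff 1 v = v
        rw [← qdElt_one, haff]
        simp
      mul_smul := fun q q' v => by
        show aff (q * q') v = aff q (aff q' v)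
        obtain ⟨a, b, c, e, r, s, h, rfl⟩ := exists_qdElt q
        obtain ⟨a', b', c', e', r', s', h', rfl⟩ := exists_qdElt q'
        rw [qdElt_mul, haff, haff, haff]
        simp only [Prod.mk.injEq]
        constructor <;> ring }
  let f : ↥(Cfsg.qd 2) →* Equiv.Perm (ZMod 2 × ZMod 2) :=
    @MulAction.toPermHom ↥(Cfsg.qd 2) (ZMod 2 × ZMod 2) _ act
  have hf : ∀ q v, f q v = aff q v := fun q v => rfl
  have hinj : Function.Injective f := by
    intro q q' h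
    obtain ⟨a, b, c, e, r, s, hd, rfl⟩ := exists_qdElt q
    obtain ⟨a', b', c', e', r', s', hd', rfl⟩ := exists_qdElt q'
    have h0 := Equiv.ext_iff.1 h (0, 0)
    have h1 := Equiv.ext_iff.1 h (1, 0)
    have h2 := Equiv.ext_iff.1 h (0, 1)
    rw [hf, hf, haff, haff] at h0 h1 h2
    simp only [Prod.mk.injEq, mul_zero, zero_add, mul_one, add_zero] at h0 h1 h2
    obtain ⟨rfl, rfl⟩ := h0
    exact qdElt_congr _ _ (add_right_cancel h1.1) (add_right_cancel h2.1) (add_right_cancel h1.2) (add_right_cancel h2.2) rfl rfl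
  have hsurj : Function.Surjective f := by
    intro σ
    have key := aff_key
    have hne : ∀ u v : ZMod 2 × ZMod 2, u ≠ v → σ u ≠ σ v := fun u v h h' => h (σ.injective h')
    obtain ⟨hdet, h3⟩ := key (σ (0, 0)) (σ (1, 0)) (σ (0, 1)) (σ (1, 1)) (hne _ _ aff_ne.1) (hne _ _ aff_ne.2.1)
      (hne _ _ aff_ne.2.2.1) (hne _ _ aff_ne.2.2.2.1) (hne _ _ aff_ne.2.2.2.2.1) (hne _ _ aff_ne.2.2.2.2.2)
    refine ⟨qdElt ((σ (1, 0)).1 - (σ (0, 0)).1) ((σ (0, 1)).1 - (σ (0, 0)).1) ((σ (1, 0)).2 - (σ (0, 0)).2)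
      ((σ (0, 1)).2 - (σ (0, 0)).2) (σ (0, 0)).1 (σ (0, 0)).2 hdet, Equiv.ext fun v => ?_⟩
    rw [hf, haff]
    have hv := aff_cases v
    rcases hv with rfl | rfl | rfl | rfl
    · simp
    · simp
    · simp
    · rw [h3]; simp
  exact ⟨(MulEquiv.ofBijective f ⟨hinj, hsurj⟩).trans (Equiv.permCongrHom (Fintype.equivFinOfCardEq (by simp)))⟩

end Cfsg.Agent.S2761
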