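import Cfsg.Statements.S2762
import Cfsg.Agent.Lib.Solv.Basic
import Cfsg.Prelude.Def_LocalEven
import Mathlib.LinearAlgebra.Matrix.Notation
import Mathlib.Tactic.LinearCombination
-- import your own Cfsg.Agent.* helpers here

set_option autoImplicit false
open Cfsg

namespace Cfsg.Agent.S2762
open Cfsg.Agent Matrix

variable {F : Type*} [Field F]

/-- The entries. -/
abbrev ent (M : ↥(Cfsg.qdOver F)) (i j : Fin 3) : F :=
  (((M : Matrix.SpecialLinearGroup (Fin 3) F)) : Matrix (Fin 3) (Fin 3) F) i j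

def affine (F : Type*) [Field F] : Subgroup (Matrix.SpecialLinearGroup (Fin 3) F) where
  carrier := {M | (M : Matrix (Fin 3) (Fin 3) F) 2 0 = 0 ∧ (M : Matrix (Fin 3) (Fin 3) F) 2 1 = 0 ∧ (M : Matrix (Fin 3) (Fin 3) F) 2 2 = 1}
  one_mem' := by simp
  mul_mem' := fun {a b} ⟨a0, a1, a2⟩ ⟨b0, b1, b2⟩ => by
    simp [Matrix.mul_apply, Fin.sum_univ_three, a0, a1, a2, b0, b1, b2]
  inv_mem' := fun {a} ⟨a0, a1, a2⟩ => by
    have h : ∀ j, ((a⁻¹ : Matrix.SpecialLinearGroup (Fin 3) F) : Matrix (Fin 3) (Fin 3) F) 2 j =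
        (1 : Matrix (Fin 3) (Fin 3) F) 2 j := fun j => by
      have e := congrArg (fun X : Matrix.SpecialLinearGroup (Fin 3) F => (X : Matrix (Fin 3) (Fin 3) F) 2 j) (mul_inv_cancel a)
      simp only [Matrix.SpecialLinearGroup.coe_mul, Matrix.SpecialLinearGroup.coe_one, Matrix.mul_apply, Fin.sum_univ_three, a0, a1, a2] at e
      simpa using e
    exact ⟨(h 0).trans (by simp), (h 1).trans (by simp), (h 2).trans (by simp)⟩

theorem qdOver_eq : Cfsg.qdOver F = affine F :=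
  le_antisymm ((Subgroup.closure_le _).2 fun _ h => h) fun _ h => Subgroup.subset_closure h

theorem last (M : ↥(Cfsg.qdOver F)) : ent M 2 0 = 0 ∧ ent M 2 1 = 0 ∧ ent M 2 2 = 1 := by
  exact (SetLike.ext_iff.1 (qdOver_eq (F := F)) _).1 M.2

theorem ent_mul_two (A B : ↥(Cfsg.qdOver F)) (i : Fin 3) :
    ent (A * B) i 2 = ent A i 0 * ent B 0 2 + ent A i 1 * ent B 1 2 + ent A i 2 := by
  simp [ent, Matrix.mul_apply, Fin.sum_univ_three, (last B).2.2]

theorem ent_mul_zero (A B : ↥(Cfsg.qdOver F)) (i : Fin 3) :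
    ent (A * B) i 0 = ent A i 0 * ent B 0 0 + ent A i 1 * ent B 1 0 := by
  simp [ent, Matrix.mul_apply, Fin.sum_univ_three, (last B).1]

theorem ent_mul_one (A B : ↥(Cfsg.qdOver F)) (i : Fin 3) :
    ent (A * B) i 1 = ent A i 0 * ent B 0 1 + ent A i 1 * ent B 1 1 := by
  simp [ent, Matrix.mul_apply, Fin.sum_univ_three, (last B).2.1]

theorem ent_one (i j : Fin 3) : ent (1 : ↥(Cfsg.qdOver F)) i j = (1 : Matrix (Fin 3) (Fin 3) F) i j := rfl

theorem ext3 {A B : ↥(Cfsg.qdOver F)} (h00 : ent A 0 0 = ent B 0 0) (h01 : ent A 0 1 = ent B 0 1)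
    (h02 : ent A 0 2 = ent B 0 2) (h10 : ent A 1 0 = ent B 1 0) (h11 : ent A 1 1 = ent B 1 1)
    (h12 : ent A 1 2 = ent B 1 2) : A = B := by
  obtain ⟨a0, a1, a2⟩ := last A
  obtain ⟨b0, b1, b2⟩ := last B
  refine Subtype.ext (Matrix.SpecialLinearGroup.ext _ _ fun i j => ?_)
  fin_cases i <;> fin_cases j
  exacts [h00, h01, h02, h10, h11, h12, a0.trans b0.symm, a1.trans b1.symm, a2.trans b2.symm]

def lin : ↥(Cfsg.qdOver F) →* Matrix.SpecialLinearGroup (Fin 2) F where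
  toFun M := ⟨!![ent M 0 0, ent M 0 1; ent M 1 0, ent M 1 1], by
    have h := (M : Matrix.SpecialLinearGroup (Fin 3) F).2
    rw [Matrix.det_fin_three] at h
    obtain ⟨a0, a1, a2⟩ := last M
    simp only [ent] at a0 a1 a2 ⊢
    rw [a0, a1, a2] at h
    rw [Matrix.det_fin_two_of]
    linear_combination h⟩
  map_one' := by
    refine Matrix.SpecialLinearGroup.ext _ _ fun i j => ?_
    fin_cases i <;> fin_cases j <;> simp [ent]
  map_mul' A B := by
    refine Subtype.ext ?_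
    show !![ent (A * B) 0 0, ent (A * B) 0 1; ent (A * B) 1 0, ent (A * B) 1 1] =
      !![ent A 0 0, ent A 0 1; ent A 1 0, ent A 1 1] * !![ent B 0 0, ent B 0 1; ent B 1 0, ent B 1 1]
    rw [Matrix.mul_fin_two, ent_mul_zero, ent_mul_zero, ent_mul_one, ent_mul_one]

theorem lin_eq_iff (M : ↥(Cfsg.qdOver F)) (A : Matrix.SpecialLinearGroup (Fin 2) F) :
    lin M = A ↔ ent M 0 0 = (A : Matrix (Fin 2) (Fin 2) F) 0 0 ∧ ent M 0 1 = (A : Matrix (Fin 2) (Fin 2) F) 0 1 ∧
      ent M 1 0 = (A : Matrix (Fin 2) (Fin 2) F) 1 0 ∧ ent M 1 1 = (A : Matrix (Fin 2) (Fin 2) F) 1 1 := by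
  constructor
  · rintro rfl; exact ⟨rfl, rfl, rfl, rfl⟩
  · rintro ⟨h1, h2, h3, h4⟩
    refine Matrix.SpecialLinearGroup.ext _ _ fun i j => ?_
    fin_cases i <;> fin_cases j
    exacts [h1, h2, h3, h4]

theorem mem_ker_lin (M : ↥(Cfsg.qdOver F)) : M ∈ (lin (F := F)).ker ↔
    ent M 0 0 = 1 ∧ ent M 0 1 = 0 ∧ ent M 1 0 = 0 ∧ ent M 1 1 = 1 := by
  rw [MonoidHom.mem_ker, lin_eq_iff]; simp

def kGroup : Subgroup ↥(Cfsg.qdOver F) where
  carrier := {M | ent M 0 2 = 0 ∧ ent M 1 2 = 0}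
  one_mem' := by simp [ent]
  mul_mem' := fun {a b} ⟨a0, a1⟩ ⟨b0, b1⟩ => by
    show ent (a * b) 0 2 = 0 ∧ ent (a * b) 1 2 = 0
    simp [ent_mul_two, a0, a1, b0, b1]
  inv_mem' := fun {a} ⟨a0, a1⟩ => by
    show ent a⁻¹ 0 2 = 0 ∧ ent a⁻¹ 1 2 = 0
    have h : ∀ i : Fin 3, i = 0 ∨ i = 1 → ent a⁻¹ i 2 = 0 := fun i hi => by
      have e := congrArg (fun X => ent X i 2) (inv_mul_cancel a)
      simp only [ent_mul_two, a0, a1] at e
      rcases hi with rfl | rfl <;> simpa [ent] using e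
    exact ⟨h 0 (Or.inl rfl), h 1 (Or.inr rfl)⟩

theorem exists_affine (A : Matrix.SpecialLinearGroup (Fin 2) F) (r s : F) :
    ∃ M : ↥(Cfsg.qdOver F), lin M = A ∧ ent M 0 2 = r ∧ ent M 1 2 = s := by
  let X : Matrix.SpecialLinearGroup (Fin 3) F :=
    ⟨!![(A : Matrix (Fin 2) (Fin 2) F) 0 0, (A : Matrix (Fin 2) (Fin 2) F) 0 1, r;
        (A : Matrix (Fin 2) (Fin 2) F) 1 0, (A : Matrix (Fin 2) (Fin 2) F) 1 1, s; 0, 0, 1], by
      have h := A.2
      rw [Matrix.det_fin_two] at h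
      rw [Matrix.det_fin_three]
      simp
      linear_combination h⟩
  have hX : X ∈ Cfsg.qdOver F := Subgroup.subset_closure ⟨rfl, rfl, rfl⟩
  exact ⟨⟨X, hX⟩, (lin_eq_iff _ _).2 ⟨rfl, rfl, rfl, rfl⟩, rfl, rfl⟩

theorem exists_kGroup (A : Matrix.SpecialLinearGroup (Fin 2) F) : ∃ k ∈ kGroup (F := F), lin k = A := by
  obtain ⟨M, h1, h2, h3⟩ := exists_affine A 0 0
  exact ⟨M, ⟨h2, h3⟩, h1⟩

theorem lin_surjective : Function.Surjective (lin (F := F)) := fun A =>
  (exists_affine A 0 0).imp fun _ h => h.1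

theorem exists_trans (r s : F) : ∃ T : ↥(Cfsg.qdOver F), T ∈ (lin (F := F)).ker ∧ ent T 0 2 = r ∧ ent T 1 2 = s :=
  exists_affine 1 r s

theorem ent_pow_trans {M : ↥(Cfsg.qdOver F)} (h00 : ent M 0 0 = 1) (h01 : ent M 0 1 = 0) (h10 : ent M 1 0 = 0)
    (h11 : ent M 1 1 = 1) (n : ℕ) :
    ent (M ^ n) 0 0 = 1 ∧ ent (M ^ n) 0 1 = 0 ∧ ent (M ^ n) 0 2 = n * ent M 0 2 ∧
    ent (M ^ n) 1 0 = 0 ∧ ent (M ^ n) 1 1 = 1 ∧ ent (M ^ n) 1 2 = n * ent M 1 2 := by
  induction n with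
  | zero => simp [ent]
  | succ n ih =>
    obtain ⟨i0, i1, i2, i3, i4, i5⟩ := ih
    simp only [pow_succ, ent_mul_zero, ent_mul_one, ent_mul_two, h00, h01, h10, h11, i0, i1, i2, i3, i4, i5]
    push_cast
    refine ⟨?_, ?_, ?_, ?_, ?_, ?_⟩ <;> ring

noncomputable def psi : Additive ↥((lin (F := F)).ker) ≃+ (Fin 2 → F) :=
  AddEquiv.ofBijective
    ({ toFun := fun v => ![ent (Additive.toMul v).1 0 2, ent (Additive.toMul v).1 1 2]
       map_zero' := by funext i; fin_cases i <;> simp [ent]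
       map_add' := fun v w => by
        obtain ⟨h00, h01, h10, h11⟩ := (mem_ker_lin _).1 (Additive.toMul v).2
        have e0 := ent_mul_two (Additive.toMul v).1 (Additive.toMul w).1 0
        have e1 := ent_mul_two (Additive.toMul v).1 (Additive.toMul w).1 1
        rw [h00, h01] at e0
        rw [h10, h11] at e1
        funext i
        fin_cases i
        · exact e0.trans (show _ = ent (Additive.toMul v).1 0 2 + ent (Additive.toMul w).1 0 2 by ring)
        · exact e1.trans (show _ = ent (Additive.toMul v).1 1 2 + ent (Additive.toMul w).1 1 2 by ring) } :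
      Additive ↥((lin (F := F)).ker) →+ (Fin 2 → F))
    ⟨fun v w h => by
      obtain ⟨a, b, c, d⟩ := (mem_ker_lin _).1 (Additive.toMul v).2
      obtain ⟨a', b', c', d'⟩ := (mem_ker_lin _).1 (Additive.toMul w).2
      exact Additive.toMul.injective (Subtype.ext (ext3 (a.trans a'.symm) (b.trans b'.symm) (congrFun h 0)
        (c.trans c'.symm) (d.trans d'.symm) (congrFun h 1))), fun f => by
      obtain ⟨T, hT, h0, h1⟩ := exists_trans (f 0) (f 1)
      refine ⟨Additive.ofMul ⟨T, hT⟩, ?_⟩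
      funext i; fin_cases i
      exacts [h0, h1]⟩

theorem normal_pgroup_eq_bot [Fintype F] {p : ℕ} [Fact p.Prime] [CharP F p]
    (P : Subgroup (Matrix.SpecialLinearGroup (Fin 2) F)) [hP : P.Normal] (hp : IsPGroup p P) : P = ⊥ := by
  classical
  let g (A : Matrix.SpecialLinearGroup (Fin 2) F) (v : Fin 2 → F) : Fin 2 → F := (A : Matrix (Fin 2) (Fin 2) F).mulVec v
  letI act : MulAction P (Fin 2 → F) :=
    { smul := fun A v => g A v
      one_smul := fun v => by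
        show Matrix.mulVec ((1 : Matrix.SpecialLinearGroup (Fin 2) F) : Matrix (Fin 2) (Fin 2) F) v = v
        rw [Matrix.SpecialLinearGroup.coe_one, Matrix.one_mulVec]
      mul_smul := fun A B v => by
        show Matrix.mulVec (((A : Matrix.SpecialLinearGroup (Fin 2) F) * B : Matrix.SpecialLinearGroup (Fin 2) F) : Matrix (Fin 2) (Fin 2) F) v = g A (g B v)
        rw [Matrix.SpecialLinearGroup.coe_mul]; exact (Matrix.mulVec_mulVec _ _ _).symm }
  have hdvd : p ∣ Nat.card (Fin 2 → F) := by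
    obtain ⟨n, -, hn⟩ := FiniteField.card F p
    rw [Nat.card_fun, Nat.card_eq_fintype_card, Nat.card_fin, hn, ← pow_mul]
    exact dvd_pow_self p (by simp)
  obtain ⟨v, hv, hv0⟩ := hp.exists_fixed_point_of_prime_dvd_card_of_fixed_point (Fin 2 → F) hdvd
    (a := 0) (fun A => by show g A 0 = 0; simp [g])
  let Fix (w : Fin 2 → F) : Prop := ∀ A ∈ P, g A w = w
  have hv' : Fix v := fun A hA => hv ⟨A, hA⟩
  have hsub : ∀ w w', Fix w → Fix w' → Fix (w - w') := fun w w' h h' A hA => by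
    show g A (w - w') = w - w'
    have e1 := h A hA
    have e2 := h' A hA
    simp only [g] at e1 e2 ⊢
    rw [Matrix.mulVec_sub, e1, e2]
  have hconj : ∀ w B, Fix w → Fix (g B w) := fun w B h A hA => by
    have h1 := h _ (hP.conj_mem' A hA B)
    show g A (g B w) = g B w
    have h2 : g B (g (B⁻¹ * A * B) w) = g B w := by rw [h1]
    refine Eq.trans ?_ h2
    simp only [g, Matrix.mulVec_mulVec, ← Matrix.SpecialLinearGroup.coe_mul]
    rw [← mul_assoc, ← mul_assoc, mul_inv_cancel, one_mul]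
  let up : Matrix.SpecialLinearGroup (Fin 2) F := ⟨!![1, 1; 0, 1], by simp [Matrix.det_fin_two_of]⟩
  let lo : Matrix.SpecialLinearGroup (Fin 2) F := ⟨!![1, 0; 1, 1], by simp [Matrix.det_fin_two_of]⟩
  have hup : ∀ w : Fin 2 → F, g up w - w = ![w 1, 0] := fun w => by
    funext i; fin_cases i <;> simp [g, up, Matrix.mulVec, dotProduct, Fin.sum_univ_two]
  have hlo : ∀ w : Fin 2 → F, g lo w - w = ![0, w 0] := fun w => by
    funext i; fin_cases i <;> simp [g, lo, Matrix.mulVec, dotProduct, Fin.sum_univ_two]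
  obtain ⟨a, ha, h1, h2⟩ : ∃ a : F, a ≠ 0 ∧ Fix ![a, 0] ∧ Fix ![0, a] := by
    have l1 : Fix ![v 1, 0] := hup v ▸ hsub _ _ (hconj v up hv') hv'
    have l2 : Fix ![0, v 0] := hlo v ▸ hsub _ _ (hconj v lo hv') hv'
    by_cases h : v 1 = 0
    · have hv00 : v 0 ≠ 0 := fun h0 => hv0 (by funext i; fin_cases i <;> simp [h, h0])
      refine ⟨v 0, hv00, ?_, l2⟩
      have h3 := hsub _ _ (hconj _ up l2) l2
      rw [hup] at h3
      simpa using h3
    · refine ⟨v 1, h, l1, ?_⟩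
      have h3 := hsub _ _ (hconj _ lo l1) l1
      rw [hlo] at h3
      simpa using h3
  rw [Subgroup.eq_bot_iff_forall]
  intro A hA
  have e1 := h1 A hA
  have e2 := h2 A hA
  have c00 := congrFun e1 0
  have c10 := congrFun e1 1
  have c01 := congrFun e2 0
  have c11 := congrFun e2 1
  simp [g, Matrix.mulVec, dotProduct, Fin.sum_univ_two] at c00 c10 c01 c11
  refine Matrix.SpecialLinearGroup.ext _ _ fun i j => ?_
  fin_cases i <;> fin_cases j <;> simp_all


/-- Structure of Qd over a finite field F of characteristic p (the affine subgroup of SL₃(F)): its largest normal p-subgroup is the group of translations (matrices with upper-left block the identity), the block-diagonal matrices form a complement isomorphic to SL₂(F), and the translation subgroup is a natural SL₂(F)-module for that complement. -/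
theorem result {F : Type*} [Field F] [Fintype F] {p : ℕ} [Fact p.Prime] [CharP F p] : (∀ M : ↥(Cfsg.qdOver F), M ∈ Cfsg.pCore p ↥(Cfsg.qdOver F) ↔ ((M : Matrix.SpecialLinearGroup (Fin 3) F) : Matrix (Fin 3) (Fin 3) F) 0 0 = 1 ∧ ((M : Matrix.SpecialLinearGroup (Fin 3) F) : Matrix (Fin 3) (Fin 3) F) 0 1 = 0 ∧ ((M : Matrix.SpecialLinearGroup (Fin 3) F) : Matrix (Fin 3) (Fin 3) F) 1 0 = 0 ∧ ((M : Matrix.SpecialLinearGroup (Fin 3) F) : Matrix (Fin 3) (Fin 3) F) 1 1 = 1) ∧ ∃ K : Subgroup ↥(Cfsg.qdOver F), (∀ M : ↥(Cfsg.qdOver F), M ∈ K ↔ ((M : Matrix.SpecialLinearGroup (Fin 3) F) : Matrix (Fin 3) (Fin 3) F) 0 2 = 0 ∧ ((M : Matrix.SpecialLinearGroup (Fin 3) F) : Matrix (Fin 3) (Fin 3) F) 1 2 = 0) ∧ K ⊓ Cfsg.pCore p ↥(Cfsg.qdOver F) = ⊥ ∧ K ⊔ Cfsg.pCore p ↥(Cfsg.qdOver F) = ⊤ ∧ Nonempty (↥K ≃* Matrix.SpecialLinearGroup (Fin 2) F) ∧ Cfsg.IsNaturalSL2Module F (Cfsg.pCore p ↥(Cfsg.qdOver F)) K := by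
  skip
  classical
  have hU : ∀ M : ↥(Cfsg.qdOver F), M ∈ (lin (F := F)).ker ↔
      ent M 0 0 = 1 ∧ ent M 0 1 = 0 ∧ ent M 1 0 = 0 ∧ ent M 1 1 = 1 := mem_ker_lin
  have hcore : Cfsg.pCore p ↥(Cfsg.qdOver F) = (lin (F := F)).ker := by
    haveI : Finite ↥(Cfsg.qdOver F) := inferInstance
    refine le_antisymm ?_ (Cfsg.Agent.Solv.le_pCore ?_)
    · intro M hM
      haveI : ((Cfsg.pCore p ↥(Cfsg.qdOver F)).map (lin (F := F))).Normal :=
        Subgroup.Normal.map inferInstance _ lin_surjective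
      have h1 := normal_pgroup_eq_bot (F := F) (p := p) _ ((Cfsg.Agent.Solv.isPGroup_pCore p ↥(Cfsg.qdOver F)).map (lin (F := F)))
      exact MonoidHom.mem_ker.2 (Subgroup.mem_bot.1 (h1 ▸ Subgroup.mem_map_of_mem _ hM))
    · intro M
      refine ⟨1, ?_⟩
      rw [pow_one]
      obtain ⟨h00, h01, h10, h11⟩ := (hU M.1).1 M.2
      refine Subtype.ext (ext3 ?_ ?_ ?_ ?_ ?_ ?_) <;> rw [SubgroupClass.coe_pow] <;>
        obtain ⟨a0, a1, a2, a3, a4, a5⟩ := ent_pow_trans h00 h01 h10 h11 p <;>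
        simp [a0, a1, a2, a3, a4, a5, ent_one]
  rw [hcore]
  refine ⟨hU, kGroup, fun M => Iff.rfl, ?_, ?_, ⟨MulEquiv.ofBijective ((lin (F := F)).comp (Subgroup.subtype kGroup)) ?_⟩, ?_⟩
  · rw [Subgroup.eq_bot_iff_forall]
    rintro M ⟨⟨h1, h2⟩, h3⟩
    obtain ⟨h00, h01, h10, h11⟩ := (hU M).1 h3
    apply ext3 <;> simp [h1, h2, h00, h01, h10, h11, ent_one]
  · rw [eq_top_iff]
    intro M _
    obtain ⟨k, hk, e⟩ := exists_kGroup (lin M)
    have h : k⁻¹ * M ∈ (lin (F := F)).ker := by rw [MonoidHom.mem_ker, map_mul, map_inv, e, inv_mul_cancel]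
    simpa using Subgroup.mul_mem_sup hk h
  · refine ⟨?_, fun A => ?_⟩
    · rw [injective_iff_map_eq_one]
      rintro ⟨M, h1, h2⟩ h3
      obtain ⟨h00, h01, h10, h11⟩ := (hU M).1 h3
      refine Subtype.ext (ext3 ?_ ?_ ?_ ?_ ?_ ?_) <;> simp [h1, h2, h00, h01, h10, h11, ent_one]
    · obtain ⟨k, hk, e⟩ := exists_kGroup A
      exact ⟨⟨k, hk⟩, e⟩
  · refine ⟨?_, (lin (F := F)).comp (Subgroup.subtype kGroup), psi, fun A => ?_, ?_, fun l v => ?_⟩
    · exact Subgroup.le_normalizer_of_normal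
    · obtain ⟨k, hk, e⟩ := exists_kGroup A
      exact ⟨⟨k, hk⟩, e⟩
    · ext ⟨M, hM1, hM2⟩
      rw [MonoidHom.mem_ker, Subgroup.mem_subgroupOf]
      constructor
      · intro h
        obtain ⟨h00, h01, h10, h11⟩ := (hU M).1 h
        have : M = 1 := by apply ext3 <;> simp [hM1, hM2, h00, h01, h10, h11, ent_one]
        simp only [this]
        exact one_mem _
      · intro h
        refine (hU M).2 ?_
        have key : ∀ r s : F, ent M 0 0 * r + ent M 0 1 * s = r ∧ ent M 1 0 * r + ent M 1 1 * s = s := by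
          intro r s
          obtain ⟨T, hT, hr, hs⟩ := exists_trans r s
          have e := Subgroup.mem_centralizer_iff.1 h T hT
          obtain ⟨g00, g01, g10, g11⟩ := (hU T).1 hT
          have e0 := congrArg (fun X => ent X 0 2) e
          have e1 := congrArg (fun X => ent X 1 2) e
          simp only [ent_mul_two, g00, g01, g10, g11, hr, hs, hM1, hM2] at e0 e1
          constructor
          · linear_combination -e0
          · linear_combination -e1
        obtain ⟨a1, a2⟩ := key 1 0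
        obtain ⟨b1, b2⟩ := key 0 1
        simp only [mul_one, mul_zero, add_zero, zero_add] at a1 a2 b1 b2
        exact ⟨a1, b1, a2, b2⟩
    · refine ⟨⟨(l : ↥(Cfsg.qdOver F)) * v * (l : ↥(Cfsg.qdOver F))⁻¹, ?_⟩, rfl, ?_⟩
      · exact (inferInstance : (lin (F := F)).ker.Normal).conj_mem _ v.2 _
      · set w : ↥(Cfsg.qdOver F) := (l : ↥(Cfsg.qdOver F)) * v * (l : ↥(Cfsg.qdOver F))⁻¹ with hw
        have hwv : w * (l : ↥(Cfsg.qdOver F)) = (l : ↥(Cfsg.qdOver F)) * v := by rw [hw, inv_mul_cancel_right]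
        obtain ⟨v00, v01, v10, v11⟩ := (hU v.1).1 v.2
        obtain ⟨w00, w01, w10, w11⟩ := (hU w).1 ((inferInstance : (lin (F := F)).ker.Normal).conj_mem _ v.2 _)
        have e0 := congrArg (fun X => ent X 0 2) hwv
        have e1 := congrArg (fun X => ent X 1 2) hwv
        simp only [ent_mul_two, w00, w01, w10, w11, l.2.1, l.2.2] at e0 e1
        funext i
        rw [Matrix.mulVec, dotProduct, Fin.sum_univ_two]
        fin_cases i
        · show ent w 0 2 = ent (l : ↥(Cfsg.qdOver F)) 0 0 * ent (v : ↥(Cfsg.qdOver F)) 0 2 + ent (l : ↥(Cfsg.qdOver F)) 0 1 * ent (v : ↥(Cfsg.qdOver F)) 1 2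
          linear_combination e0
        · show ent w 1 2 = ent (l : ↥(Cfsg.qdOver F)) 1 0 * ent (v : ↥(Cfsg.qdOver F)) 0 2 + ent (l : ↥(Cfsg.qdOver F)) 1 1 * ent (v : ↥(Cfsg.qdOver F)) 1 2
          linear_combination e1

end Cfsg.Agent.S2762
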