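import Cfsg.Statements.S2763
import Cfsg.Agent.Lib.Solv.QdChar

set_option autoImplicit false
open scoped Pointwise
open Cfsg

namespace Cfsg.Agent.S2763

/-- In the group Qd(p) (p prime; the natural semidirect product of an elementary abelian group of order p² by SL₂(p)), the normalizer of every nontrivial characteristic subgroup of a Sylow p-subgroup S equals the normalizer of S, which is a proper subgroup; in particular no such characteristic subgroup is normal. -/
theorem result {p : ℕ} [Fact p.Prime] (S : Sylow p ↥(Cfsg.qd p)) (T : Subgroup ↥(S : Subgroup ↥(Cfsg.qd p))) (hT : T ≠ ⊥) (hTc : T.Characteristic) : Subgroup.normalizer ((T.map (S : Subgroup ↥(Cfsg.qd p)).subtype : Subgroup ↥(Cfsg.qd p)) : Set ↥(Cfsg.qd p)) = Subgroup.normalizer ((S : Subgroup ↥(Cfsg.qd p)) : Set ↥(Cfsg.qd p)) ∧ Subgroup.normalizer ((S : Subgroup ↥(Cfsg.qd p)) : Set ↥(Cfsg.qd p)) ≠ ⊤ := by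
  classical
  obtain ⟨T0, hT0⟩ := Cfsg.Agent.Solv.KInf.exists_sylow_eq_qdU (p := p)
  obtain ⟨g, hg⟩ := MulAction.exists_smul_eq (Cfsg.qd p) S T0
  have hSU : (S : Subgroup (Cfsg.qd p)).map (MulAut.conj g).toMonoidHom = Cfsg.Agent.Solv.KInf.qdU := by
    rw [← hT0, ← hg]; rfl
  set W : Subgroup (Cfsg.qd p) := T.map (S : Subgroup (Cfsg.qd p)).subtype with hW
  have hle : Subgroup.normalizer ((S : Subgroup (Cfsg.qd p)) : Set (Cfsg.qd p)) ≤ Subgroup.normalizer (W : Set (Cfsg.qd p)) := by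
    intro x hx
    have hmem : ∀ y : (S : Subgroup (Cfsg.qd p)), x * y * x⁻¹ ∈ (S : Subgroup (Cfsg.qd p)) := fun y => (Subgroup.mem_normalizer_iff.mp hx _).mp y.2
    have hmem' : ∀ y : (S : Subgroup (Cfsg.qd p)), x⁻¹ * y * x ∈ (S : Subgroup (Cfsg.qd p)) := fun y => (Subgroup.mem_normalizer_iff'.mp hx _).mpr (by simp [mul_assoc])
    let φ : (S : Subgroup (Cfsg.qd p)) ≃* (S : Subgroup (Cfsg.qd p)) :=
      { toFun := fun y => ⟨_, hmem y⟩
        invFun := fun y => ⟨_, hmem' y⟩
        left_inv := fun y => Subtype.ext (by simp [mul_assoc])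
        right_inv := fun y => Subtype.ext (by simp [mul_assoc])
        map_mul' := fun y z => Subtype.ext (by simp [mul_assoc]) }
    have hφ := (Subgroup.characteristic_iff_map_eq.mp hTc) φ
    rw [Subgroup.mem_normalizer_iff_map_conj_eq]
    conv_rhs => rw [hW, ← hφ]
    rw [hW, Subgroup.map_map, Subgroup.map_map]
    rfl
  have hne : Subgroup.normalizer ((S : Subgroup (Cfsg.qd p)) : Set (Cfsg.qd p)) ≠ ⊤ := by
    intro h
    apply Cfsg.Agent.Solv.QdChar.normalizer_qdU_ne_top (p := p)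
    have h1 := Subgroup.map_equiv_normalizer_eq (S : Subgroup (Cfsg.qd p)) (MulAut.conj g)
    rw [h, hSU] at h1
    rw [← h1, Subgroup.map_top_of_surjective _ (MulAut.conj g).surjective]
  refine ⟨le_antisymm ?_ hle, hne⟩
  have hN := Cfsg.Agent.Solv.QdChar.normalizer_le_of_invariant (W.map (MulAut.conj g).toMonoidHom) ?_ ?_ ?_ ?_
  · intro x hx
    have h1 := hN ((Subgroup.map_equiv_normalizer_eq W (MulAut.conj g)).le ⟨x, hx, rfl⟩)
    rw [← hSU] at h1
    obtain ⟨x', hx', he⟩ := (Subgroup.map_equiv_normalizer_eq (S : Subgroup (Cfsg.qd p)) (MulAut.conj g)).ge h1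
    rwa [← (MulAut.conj g).injective he]
  · rw [← hSU]; exact Subgroup.map_mono (Subgroup.map_subtype_le T)
  · exact fun h => hT ((Subgroup.map_eq_bot_iff_of_injective T (Subgroup.subtype_injective _)).mp ((Subgroup.map_eq_bot_iff_of_injective W (MulAut.conj g).injective).mp h))
  · rw [← hSU]
    exact (Subgroup.map_mono (Subgroup.le_normalizer.trans hle)).trans (Subgroup.map_equiv_normalizer_eq W (MulAut.conj g)).le
  intro φ x hx
  let e : (S : Subgroup (Cfsg.qd p)) ≃* (Cfsg.Agent.Solv.KInf.qdU (p := p)) := ((S : Subgroup (Cfsg.qd p)).equivMapOfInjective _ (MulAut.conj g).injective).trans (MulEquiv.subgroupCongr hSU)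
  obtain ⟨_, ⟨t, ht, rfl⟩, htx⟩ := hx
  have hxe : e t = x := Subtype.ext htx
  have h1 : e.symm (φ x) ∈ T := by
    have h2 : ((e.trans φ).trans e.symm) t ∈ T := by
      have h3 := (Subgroup.characteristic_iff_map_eq.mp hTc) ((e.trans φ).trans e.symm)
      exact h3.le ⟨t, ht, rfl⟩
    simpa [hxe] using h2
  exact ⟨_, ⟨_, h1, rfl⟩, congrArg Subtype.val (e.apply_symm_apply (φ x))⟩

end Cfsg.Agent.S2763
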