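import Cfsg.Statements.S2779
import Cfsg.Agent.Lib.Local.NaturalSL2
-- import your own Cfsg.Agent.* helpers here

set_option autoImplicit false
open Cfsg

namespace Cfsg.Agent.S2779
open Cfsg.Agent


/-- Let L act on the elementary abelian p-group V (inside a finite group, by conjugation, faithfully) as SL₂(F) on its natural module, F a field with p^n elements, and let S be a Sylow p-subgroup of L. Then [V, S, S] = 1; |V| = p^(2n) and |C_V(S)| = p^n; and for every nonidentity s ∈ S and every v ∈ V outside C_V(S): C_V(s) = C_V(S) = [V, S] = [V, s] = the subgroup generated by the commutators [v, t], t ∈ S. -/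
theorem result {G : Type*} [Group G] [Finite G] {p : ℕ} [Fact p.Prime] {F : Type*} [Field F] [Fintype F] (n : ℕ) (hF : Fintype.card F = p ^ n) (V L : Subgroup G) (hnat : Cfsg.IsNaturalSL2Module F V L) (hf : L ⊓ Subgroup.centralizer (V : Set G) = ⊥) (S : Sylow p ↥L) (T : Subgroup G) (hT : T = ((S : Subgroup ↥L).map L.subtype)) : ⁅⁅V, T⁆, T⁆ = ⊥ ∧ Nat.card V = p ^ (2 * n) ∧ Nat.card ↥(V ⊓ Subgroup.centralizer ((T : Subgroup G) : Set G)) = p ^ n ∧ ∀ s ∈ T, s ≠ 1 → (V ⊓ Subgroup.centralizer ({s} : Set G)) = (V ⊓ Subgroup.centralizer ((T : Subgroup G) : Set G)) ∧ ⁅V, T⁆ = (V ⊓ Subgroup.centralizer ((T : Subgroup G) : Set G)) ∧ ⁅V, Subgroup.zpowers s⁆ = (V ⊓ Subgroup.centralizer ((T : Subgroup G) : Set G)) ∧ ∀ v ∈ V, v ∉ Subgroup.centralizer (T : Set G) → Subgroup.closure {x : G | ∃ t ∈ T, x = v * t * v⁻¹ * t⁻¹} = (V ⊓ Subgroup.centralizer ((T : Subgroup G) : Set G)) := by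
  skip
  classical
  obtain ⟨C⟩ := Cfsg.Agent.Local.NatSL2.exists_coord hF V L hnat hf S T hT
  set A := V ⊓ Subgroup.centralizer ((T : Subgroup G) : Set G) with hA
  have hVT : ⁅V, T⁆ ≤ A := by
    rw [Subgroup.commutator_le]
    intro v hv t ht
    obtain ⟨w, hw, hw'⟩ := C.exists_comm ⟨t, C.le_L ht⟩ ht ⟨v, hv⟩
    rw [commutatorElement_def, show v * t * v⁻¹ * t⁻¹ = (w : G) from hw.symm]
    exact Subgroup.mem_inf.2 ⟨w.2, (C.mem_fixed_iff w).2 (by rw [hw']; rfl)⟩
  refine ⟨le_bot_iff.1 ((Subgroup.commutator_mono hVT le_rfl).trans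
    (Subgroup.commutator_eq_bot_iff_le_centralizer.2 inf_le_right).le), ?_, ?_, ?_⟩
  · rw [Nat.card_congr (Additive.ofMul.trans C.c.toEquiv), Nat.card_fun, Nat.card_eq_fintype_card (α := F), hF,
      Nat.card_fin, ← pow_mul, mul_comm]
  · rw [← hF, ← Nat.card_eq_fintype_card]
    refine Nat.card_congr (Equiv.ofBijective (fun a : A => C.vec ⟨(a : G), a.2.1⟩ 0) ⟨fun a b h => ?_, fun r => ?_⟩)
    · have h1 := (C.mem_fixed_iff ⟨(a : G), a.2.1⟩).1 a.2.2
      have h2 := (C.mem_fixed_iff ⟨(b : G), b.2.1⟩).1 b.2.2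
      have h3 : C.vec ⟨(a : G), a.2.1⟩ = C.vec ⟨(b : G), b.2.1⟩ := by
        funext i; fin_cases i
        · exact h
        · exact h1.trans h2.symm
      exact Subtype.ext (congrArg (fun w : V => (w : G)) (C.vec_inj h3))
    · obtain ⟨v, hv⟩ := C.exists_vec ![r, 0]
      exact ⟨⟨v, Subgroup.mem_inf.2 ⟨v.2, (C.mem_fixed_iff v).2 (by rw [hv]; rfl)⟩⟩, by simp [hv]⟩
  · intro s hs hs1
    set l : L := ⟨s, C.le_L hs⟩ with hl
    have hb : C.m l 0 1 ≠ 0 := fun h => hs1 (by
      have h1 : C.m l = 1 := by rw [C.T_form l hs, h]; exact Matrix.one_fin_two.symm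
      have h2 : C.R l = 1 := Units.ext h1
      exact congrArg Subtype.val (C.inj (h2.trans (map_one _).symm) : l = 1))
    refine ⟨le_antisymm ?_ (inf_le_inf_left _ (Subgroup.centralizer_le (Set.singleton_subset_iff.2 hs))), ?_, ?_, ?_⟩
    · intro v hv
      obtain ⟨hvV, hvs⟩ := Subgroup.mem_inf.1 hv
      have e := congrFun ((C.commute_iff l ⟨v, hvV⟩).1 (Subgroup.mem_centralizer_singleton_iff.1 hvs).symm) 0
      rw [C.T_form l hs] at e
      simp [Matrix.mulVec, dotProduct, Fin.sum_univ_two, hb] at e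
      exact Subgroup.mem_inf.2 ⟨hvV, (C.mem_fixed_iff ⟨v, hvV⟩).2 e⟩
    · refine le_antisymm hVT fun a ha => ?_
      obtain ⟨v, hv⟩ := C.exists_vec ![0, -(C.vec ⟨a, ha.1⟩ 0) / C.m l 0 1]
      obtain ⟨w, hw, hw'⟩ := C.exists_comm l hs v
      have : w = ⟨a, ha.1⟩ := C.vec_inj (by
        rw [hw', hv]
        funext i; fin_cases i
        · simp; field_simp
        · exact ((C.mem_fixed_iff ⟨a, ha.1⟩).1 ha.2).symm)
      have h1 : a = (w : G) := (congrArg Subtype.val this).symm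
      rw [h1, hw]
      exact Subgroup.commutator_mem_commutator v.2 hs
    · refine le_antisymm ((Subgroup.commutator_mono le_rfl (Subgroup.zpowers_le.2 hs)).trans hVT) fun a ha => ?_
      obtain ⟨v, hv⟩ := C.exists_vec ![0, -(C.vec ⟨a, ha.1⟩ 0) / C.m l 0 1]
      obtain ⟨w, hw, hw'⟩ := C.exists_comm l hs v
      have : w = ⟨a, ha.1⟩ := C.vec_inj (by
        rw [hw', hv]
        funext i; fin_cases i
        · simp; field_simp
        · exact ((C.mem_fixed_iff ⟨a, ha.1⟩).1 ha.2).symm)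
      have h1 : a = (w : G) := (congrArg Subtype.val this).symm
      rw [h1, hw]
      exact Subgroup.commutator_mem_commutator v.2 (Subgroup.mem_zpowers s)
    · intro v hv hvc
      have hv1 : C.vec ⟨v, hv⟩ 1 ≠ 0 := fun h => hvc ((C.mem_fixed_iff ⟨v, hv⟩).2 h)
      refine le_antisymm ((Subgroup.closure_le _).2 ?_) fun a ha => ?_
      · rintro _ ⟨t, ht, rfl⟩
        exact hVT (Subgroup.commutator_mem_commutator hv ht)
      · obtain ⟨k, hk, hkm⟩ := C.exists_mem_T (-(C.vec ⟨a, ha.1⟩ 0) / C.vec ⟨v, hv⟩ 1)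
        obtain ⟨w, hw, hw'⟩ := C.exists_comm k hk ⟨v, hv⟩
        have : w = ⟨a, ha.1⟩ := C.vec_inj (by
          rw [hw', hkm]
          funext i; fin_cases i
          · simp; field_simp
          · exact ((C.mem_fixed_iff ⟨a, ha.1⟩).1 ha.2).symm)
        exact Subgroup.subset_closure ⟨k, hk, (congrArg Subtype.val this).symm.trans hw⟩

end Cfsg.Agent.S2779
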