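import Cfsg.Statements.S2780
import Cfsg.Agent.Lib.Local.NaturalSL2
import Cfsg.Prelude.Def_TwoFusion
-- import your own Cfsg.Agent.* helpers here

set_option autoImplicit false
open Cfsg

namespace Cfsg.Agent.S2780
open Cfsg.Agent


/-- Let L act on the elementary abelian p-group V (inside a finite group, faithfully) as SL₂(F) on its natural module, F a field with p^n elements, S a Sylow p-subgroup of L. Then: for every g ∈ L not normalizing S, V is the internal direct product of C_V(S) and C_V(gSg⁻¹); every nonidentity element of L of order prime to p acts on V without nonidentity fixed points; and C_V(S) and V/C_V(S) are irreducible for N_L(S): the only N_L(S)-invariant subgroups of C_V(S) are 1 and C_V(S), and the only N_L(S)-invariant subgroups between C_V(S) and V are those two. -/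
theorem result {G : Type*} [Group G] [Finite G] {p : ℕ} [Fact p.Prime] {F : Type*} [Field F] [Fintype F] (n : ℕ) (hF : Fintype.card F = p ^ n) (V L : Subgroup G) (hnat : Cfsg.IsNaturalSL2Module F V L) (hf : L ⊓ Subgroup.centralizer (V : Set G) = ⊥) (S : Sylow p ↥L) (T : Subgroup G) (hT : T = ((S : Subgroup ↥L).map L.subtype)) : (∀ g ∈ L, g ∉ Subgroup.normalizer (T : Set G) → Cfsg.IsInternalDirectProduct (V ⊓ Subgroup.centralizer ((T : Subgroup G) : Set G)) (V ⊓ Subgroup.centralizer ((T.map (MulAut.conj g).toMonoidHom : Subgroup G) : Set G)) V) ∧ (∀ x ∈ L, x ≠ 1 → (orderOf x).Coprime p → (V ⊓ Subgroup.centralizer ({x} : Set G)) = ⊥) ∧ (∀ U : Subgroup G, U ≤ (V ⊓ Subgroup.centralizer ((T : Subgroup G) : Set G)) → L ⊓ Subgroup.normalizer (T : Set G) ≤ Subgroup.normalizer (U : Set G) → U = ⊥ ∨ U = (V ⊓ Subgroup.centralizer ((T : Subgroup G) : Set G))) ∧ (∀ U : Subgroup G, (V ⊓ Subgroup.centralizer ((T : Subgroup G) : Set G)) ≤ U → U ≤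 V → L ⊓ Subgroup.normalizer (T : Set G) ≤ Subgroup.normalizer (U : Set G) → U = (V ⊓ Subgroup.centralizer ((T : Subgroup G) : Set G)) ∨ U = V) := by
  skip
  classical
  obtain ⟨hch, hn⟩ := Cfsg.Agent.Local.NatSL2.charP_of_card hF
  haveI := hch
  obtain ⟨C⟩ := Cfsg.Agent.Local.NatSL2.exists_coord hF V L hnat hf S T hT
  have hnorm : ∀ l : L, C.m l 1 0 = 0 → (l : G) ∈ Subgroup.normalizer (T : Set G) := by
    intro l hl
    have hdet := C.det_eq l
    change (C.m l).det = 1 at hdet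
    rw [Matrix.det_fin_two, hl, mul_zero, sub_zero] at hdet
    have ha : C.m l 0 0 ≠ 0 := left_ne_zero_of_mul_eq_one hdet
    have hd : C.m l 1 1 ≠ 0 := right_ne_zero_of_mul_eq_one hdet
    have hmap : ∀ t ∈ T, (l : G) * t * (l : G)⁻¹ ∈ T := by
      intro t ht
      set k : L := l * ⟨t, C.le_L ht⟩ * l⁻¹ with hk
      have e : C.m k * C.m l = C.m l * C.m ⟨t, C.le_L ht⟩ := by
        rw [← C.m_mul, ← C.m_mul, hk, inv_mul_cancel_right]
      rw [C.T_form ⟨t, C.le_L ht⟩ ht] at e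
      have e00 := congrFun (congrFun e 0) 0
      have e10 := congrFun (congrFun e 1) 0
      have e11 := congrFun (congrFun e 1) 1
      simp [Matrix.mul_apply, Fin.sum_univ_two, hl, ha] at e00 e10 e11
      refine (C.mem_T k).2 ?_
      change C.m k 0 0 = 1 ∧ C.m k 1 0 = 0 ∧ C.m k 1 1 = 1
      refine ⟨e00, e10, ?_⟩
      rw [e10, zero_mul, zero_add] at e11
      exact mul_right_cancel₀ hd (by rw [one_mul]; exact e11)
    have he : T.map (MulAut.conj (l : G)).toMonoidHom = T :=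
      Subgroup.eq_of_le_of_card_ge (by rintro _ ⟨t, ht, rfl⟩; exact hmap t ht)
        (by rw [Subgroup.card_map_of_injective (MulAut.conj (l : G)).injective])
    rw [Subgroup.mem_normalizer_iff]
    refine fun t => ⟨hmap t, fun h => ?_⟩
    obtain ⟨z, hz, e⟩ := he.symm ▸ h
    rwa [(MulAut.conj (l : G)).injective (e : MulAut.conj (l : G) z = MulAut.conj (l : G) t)] at hz
  have htorus : ∀ t : F, t ≠ 0 → ∃ l : L, (l : G) ∈ L ⊓ Subgroup.normalizer (T : Set G) ∧
      ∀ v : V, ∃ w : V, (w : G) = (l : G) * v * (l : G)⁻¹ ∧ C.vec w 0 = t * C.vec v 0 ∧ C.vec w 1 = t⁻¹ * C.vec v 1 := by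
    intro t ht
    obtain ⟨l, hl⟩ := C.surj !![t, 0; 0, t⁻¹] (by simp [Matrix.det_fin_two_of, ht])
    change C.m l = _ at hl
    refine ⟨l, Subgroup.mem_inf.2 ⟨l.2, hnorm l (by rw [hl]; rfl)⟩, fun v => ⟨⟨_, C.conj_mem l v⟩, rfl, ?_, ?_⟩⟩ <;>
      rw [C.vec_conj l v, hl] <;> simp [Matrix.mulVec, dotProduct, Fin.sum_univ_two]
  refine ⟨fun g hg hgN => ?_, fun x hx hx1 hxp => ?_, fun U hU hUN => ?_, fun U hU hUV hUN => ?_⟩
  · set l : L := ⟨g, hg⟩ with hl
    have hc : C.m l 1 0 ≠ 0 := fun h => hgN (hnorm l h)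
    have key : ∀ v : G, v ∈ V ⊓ Subgroup.centralizer ((T.map (MulAut.conj g).toMonoidHom : Subgroup G) : Set G) ↔
        ∃ w : V, (w : G) ∈ Subgroup.centralizer (T : Set G) ∧ v = g * w * g⁻¹ := by
      intro v
      constructor
      · intro hv
        obtain ⟨hvV, hvc⟩ := Subgroup.mem_inf.1 hv
        refine ⟨⟨g⁻¹ * v * g, by simpa using C.conj_mem l⁻¹ ⟨v, hvV⟩⟩, ?_, by simp [mul_assoc]⟩
        rw [Subgroup.mem_centralizer_iff]
        intro t ht
        have h1 : g * t * g⁻¹ * v = v * (g * t * g⁻¹) := Subgroup.mem_centralizer_iff.1 hvc _ ⟨t, ht, rfl⟩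
        show t * (g⁻¹ * v * g) = g⁻¹ * v * g * t
        calc t * (g⁻¹ * v * g) = g⁻¹ * (g * t * g⁻¹ * v) * g := by group
          _ = g⁻¹ * (v * (g * t * g⁻¹)) * g := by rw [h1]
          _ = _ := by group
      · rintro ⟨w, hw, rfl⟩
        refine Subgroup.mem_inf.2 ⟨C.conj_mem l w, Subgroup.mem_centralizer_iff.2 ?_⟩
        rintro _ ⟨t, ht, rfl⟩
        show g * t * g⁻¹ * (g * w * g⁻¹) = g * w * g⁻¹ * (g * t * g⁻¹)
        calc _ = g * (t * w) * g⁻¹ := by group
          _ = g * (w * t) * g⁻¹ := by rw [Subgroup.mem_centralizer_iff.1 hw t ht]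
          _ = _ := by group
    refine ⟨inf_le_left, inf_le_left, fun a ha b hb => C.comm ⟨a, ha.1⟩ ⟨b, hb.1⟩, ?_, ?_⟩
    · rw [Subgroup.eq_bot_iff_forall]
      rintro v ⟨hv1, hv2⟩
      obtain ⟨w, hw, rfl⟩ := (key v).1 hv2
      have h1 := (C.mem_fixed_iff ⟨_, C.conj_mem l w⟩).1 hv1.2
      rw [C.vec_conj l w] at h1
      have hw1 := (C.mem_fixed_iff w).1 hw
      simp [Matrix.mulVec, dotProduct, Fin.sum_univ_two, hw1, hc] at h1
      have h2 : w = 1 := C.vec_inj (by rw [C.vec_one]; funext i; fin_cases i <;> assumption)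
      simp [h2]
    · refine le_antisymm (sup_le inf_le_left inf_le_left) fun v hv => ?_
      obtain ⟨w, hw⟩ := C.exists_vec ![C.vec ⟨v, hv⟩ 1 / C.m l 1 0, 0]
      have hwT : (w : G) ∈ Subgroup.centralizer (T : Set G) := (C.mem_fixed_iff w).2 (by rw [hw]; rfl)
      set v' : V := ⟨g * w * g⁻¹, C.conj_mem l w⟩ with hv'
      have hfix : ((⟨v, hv⟩ * v'⁻¹ : V) : G) ∈ Subgroup.centralizer (T : Set G) := by
        refine (C.mem_fixed_iff _).2 ?_
        rw [C.vec_mul, C.vec_inv, hv', C.vec_conj l w, hw]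
        simp [Matrix.mulVec, dotProduct, Fin.sum_univ_two, hc]
        field_simp
        ring
      have h1 : v = ((⟨v, hv⟩ * v'⁻¹ : V) : G) * (g * w * g⁻¹) := by
        show v = v * (g * w * g⁻¹)⁻¹ * (g * w * g⁻¹)
        rw [inv_mul_cancel_right]
      rw [h1]
      exact Subgroup.mul_mem_sup (Subgroup.mem_inf.2 ⟨(⟨v, hv⟩ * v'⁻¹ : V).2, hfix⟩) ((key _).2 ⟨w, hwT, rfl⟩)
  · rw [Subgroup.eq_bot_iff_forall]
    intro v hv
    obtain ⟨hvV, hvx⟩ := Subgroup.mem_inf.1 hv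
    by_contra hv1
    set l : L := ⟨x, hx⟩ with hl
    have hfix := (C.commute_iff l ⟨v, hvV⟩).1 (Subgroup.mem_centralizer_singleton_iff.1 hvx).symm
    have hne : C.vec ⟨v, hvV⟩ ≠ 0 := fun h => hv1 (congrArg Subtype.val (C.vec_inj (h.trans C.vec_one.symm)))
    have hd0 : (C.m l - 1).det = 0 := Matrix.exists_mulVec_eq_zero_iff.1
      ⟨_, hne, by rw [Matrix.sub_mulVec, hfix, Matrix.one_mulVec, sub_self]⟩
    have hd1 : (C.m l).det = 1 := C.det_eq l
    rw [Matrix.det_fin_two] at hd0 hd1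
    simp at hd0
    have hN : (C.m l - 1) * (C.m l - 1) = 0 := by
      apply Cfsg.Agent.Classical.SL2.coord <;> simp [Matrix.mul_apply, Fin.sum_univ_two]
      · linear_combination (C.m l 0 0 - 1) * (hd1 - hd0) - hd0
      · linear_combination C.m l 0 1 * (hd1 - hd0)
      · linear_combination C.m l 1 0 * (hd1 - hd0)
      · linear_combination (C.m l 1 1 - 1) * (hd1 - hd0) - hd0
    have hpow : ∀ k : ℕ, C.m l ^ k = 1 + k • (C.m l - 1) := by
      intro k
      induction k with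
      | zero => simp
      | succ k ih =>
        have e : C.m l = 1 + (C.m l - 1) := by abel
        rw [pow_succ, ih, succ_nsmul]
        conv_lhs => enter [2]; rw [e]
        rw [mul_add, mul_one, add_mul, one_mul, smul_mul_assoc, hN, smul_zero, add_zero, add_assoc]
    have h1 : C.R (l ^ p) = 1 := Units.ext (by
      rw [map_pow, Units.val_pow_eq_pow_val]
      show C.m l ^ p = 1
      rw [hpow]
      apply Cfsg.Agent.Classical.SL2.coord <;> simp [CharP.cast_eq_zero])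
    have h2 : x ^ p = 1 := congrArg Subtype.val (C.inj (h1.trans (map_one _).symm) : l ^ p = 1)
    exact hx1 (orderOf_eq_one_iff.1 (Nat.eq_one_of_dvd_coprimes hxp (dvd_refl _) (orderOf_dvd_of_pow_eq_one h2)))
  · rcases eq_or_ne U ⊥ with h | h
    · exact Or.inl h
    · right
      obtain ⟨u, hu, hu1⟩ := U.bot_or_exists_ne_one.resolve_left h
      obtain ⟨huV, huC⟩ := Subgroup.mem_inf.1 (hU hu)
      have hu0 : C.vec ⟨u, huV⟩ 1 = 0 := (C.mem_fixed_iff ⟨u, huV⟩).1 huC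
      have hu00 : C.vec ⟨u, huV⟩ 0 ≠ 0 := fun h0 => hu1 (congrArg Subtype.val
        (C.vec_inj (v := ⟨u, huV⟩) (w := 1) (by rw [C.vec_one]; funext i; fin_cases i <;> assumption)))
      refine le_antisymm hU fun a ha => ?_
      have ha0 : C.vec ⟨a, ha.1⟩ 1 = 0 := (C.mem_fixed_iff ⟨a, ha.1⟩).1 ha.2
      by_cases hz : C.vec ⟨a, ha.1⟩ 0 = 0
      · have h1 : (⟨a, ha.1⟩ : V) = 1 := C.vec_inj (by rw [C.vec_one]; funext i; fin_cases i <;> assumption)
        rw [show a = 1 from congrArg Subtype.val h1]; exact one_mem U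
      · obtain ⟨l, hl, hact⟩ := htorus (C.vec ⟨a, ha.1⟩ 0 / C.vec ⟨u, huV⟩ 0) (div_ne_zero hz hu00)
        obtain ⟨w, hw, h0, h1⟩ := hact ⟨u, huV⟩
        have h2 : w = ⟨a, ha.1⟩ := C.vec_inj (by
          funext i; fin_cases i
          · simpa [hu00] using h0
          · simpa [hu0, ha0] using h1)
        rw [show a = (l : G) * u * (l : G)⁻¹ from ((congrArg Subtype.val h2).symm.trans hw)]
        exact (Subgroup.mem_normalizer_iff.1 (hUN hl) u).1 hu
  · rcases em (U ≤ V ⊓ Subgroup.centralizer ((T : Subgroup G) : Set G)) with h | h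
    · exact Or.inl (le_antisymm h hU)
    · right
      obtain ⟨u, hu, hu'⟩ := SetLike.not_le_iff_exists.1 h
      have hu1 : C.vec ⟨u, hUV hu⟩ 1 ≠ 0 := fun h0 => hu' ⟨hUV hu, (C.mem_fixed_iff ⟨u, hUV hu⟩).2 h0⟩
      refine le_antisymm hUV fun v hv => ?_
      by_cases hz : C.vec ⟨v, hv⟩ 1 = 0
      · exact hU ⟨hv, (C.mem_fixed_iff ⟨v, hv⟩).2 hz⟩
      · obtain ⟨l, hl, hact⟩ := htorus (C.vec ⟨u, hUV hu⟩ 1 / C.vec ⟨v, hv⟩ 1) (div_ne_zero hu1 hz)
        obtain ⟨w, hw, -, h1⟩ := hact ⟨u, hUV hu⟩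
        have hwv : C.vec w 1 = C.vec ⟨v, hv⟩ 1 := by rw [h1, inv_div, div_mul_cancel₀ _ hu1]
        have hwU : (w : G) ∈ U := hw ▸ (Subgroup.mem_normalizer_iff.1 (hUN hl) u).1 hu
        have hrest : ((⟨v, hv⟩ * w⁻¹ : V) : G) ∈ U := hU ⟨(⟨v, hv⟩ * w⁻¹ : V).2,
          (C.mem_fixed_iff _).2 (by rw [C.vec_mul, C.vec_inv]; simp [hwv])⟩
        simpa using mul_mem hrest hwU

end Cfsg.Agent.S2780
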