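import Cfsg.Statements.S2781
import Cfsg.Agent.Lib.Solv.NormalPComplement
import Cfsg.Agent.Lib.Solv.Misc
import Cfsg.Agent.Lib.Solv.Subnormal
import Cfsg.Agent.Lib.Struct.CoprimeMinimal
-- import your own Cfsg.Agent.* helpers here

set_option autoImplicit false
open Cfsg

namespace Cfsg.Agent.S2781
open Cfsg.Agent
open scoped commutatorElement


/-- Let H act faithfully by conjugation on the elementary abelian p-subgroup V of a finite group, let O^p(H) be the subgroup of H generated by its elements of order prime to p, and T a Sylow p-subgroup of O^p(H). If V is generated by the H-conjugates of C_V(T) (V is the smallest H-invariant subgroup containing C_V(T)), then V = [V, O^p(H)]·C_V(O^p(H)). -/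
theorem result {G : Type*} [Group G] [Finite G] {p : ℕ} [Fact p.Prime] (V H : Subgroup G) (hV : Cfsg.IsElementaryAbelian p V) (hHV : H ≤ Subgroup.normalizer (V : Set G)) (hf : H ⊓ Subgroup.centralizer (V : Set G) = ⊥) (R : Subgroup G) (hR : R = (Cfsg.pResidual p ↥H).map H.subtype) (S : Sylow p ↥R) (T : Subgroup G) (hT : T = ((S : Subgroup ↥R).map R.subtype)) (hgen : ∀ W : Subgroup G, H ≤ Subgroup.normalizer (W : Set G) → (V ⊓ Subgroup.centralizer ((T : Subgroup G) : Set G)) ≤ W → V ≤ W) : ⁅V, R⁆ ⊔ (V ⊓ Subgroup.centralizer ((R : Subgroup G) : Set G)) = V := by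
  skip
  classical
  have hp : p.Prime := Fact.out
  obtain ⟨hVc, hVp⟩ := hV
  letI : CommGroup ↥V := { (inferInstance : Group ↥V) with mul_comm := hVc.is_comm.comm }
  have hRH : R ≤ H := hR ▸ Subgroup.map_subtype_le _
  have hHR : H ≤ Subgroup.normalizer (R : Set G) := by
    rw [hR]
    haveI := Cfsg.Agent.Solv.pResidual_characteristic p ↥H
    exact Cfsg.Agent.Struct.CoprimeMinimal.le_normalizer_map_char H H Subgroup.le_normalizer _
  have hRV : R ≤ Subgroup.normalizer (V : Set G) := hRH.trans hHV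
  set W := ⁅V, R⁆ ⊔ (V ⊓ Subgroup.centralizer ((R : Subgroup G) : Set G)) with hW
  have hWV : W ≤ V := sup_le (Subgroup.le_normalizer_iff_commutator_le_left.1 hRV) inf_le_left
  refine le_antisymm hWV (hgen W ?_ ?_)
  · intro h hh
    refine Cfsg.Agent.Solv.mem_normalizer_of_conj_le (Subgroup.map_le_iff_le_comap.2 (sup_le ?_ ?_))
    · rw [Subgroup.commutator_le]
      intro v hv r hr
      refine Subgroup.mem_sup_left ?_
      show (MulAut.conj h).toMonoidHom ⁅v, r⁆ ∈ ⁅V, R⁆
      rw [map_commutatorElement]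
      exact Subgroup.commutator_mem_commutator ((Subgroup.mem_normalizer_iff.1 (hHV hh) v).1 hv)
        ((Subgroup.mem_normalizer_iff.1 (hHR hh) r).1 hr)
    · intro v hv
      obtain ⟨hv1, hv2⟩ := Subgroup.mem_inf.1 hv
      refine Subgroup.mem_sup_right (Subgroup.mem_inf.2 ⟨(Subgroup.mem_normalizer_iff.1 (hHV hh) v).1 hv1,
        Subgroup.mem_centralizer_iff.2 fun r hr => ?_⟩)
      have h1 := Subgroup.mem_centralizer_iff.1 hv2 _ ((Subgroup.mem_normalizer_iff''.1 (hHR hh) r).1 hr)
      show r * (h * v * h⁻¹) = h * v * h⁻¹ * r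
      calc r * (h * v * h⁻¹) = h * ((h⁻¹ * r * h) * v) * h⁻¹ := by group
        _ = h * (v * (h⁻¹ * r * h)) * h⁻¹ := by rw [h1]
        _ = _ := by group
  · intro v hv
    obtain ⟨hvV, hvT⟩ := Subgroup.mem_inf.1 hv
    haveI := Fintype.ofFinite (↥R ⧸ (S : Subgroup ↥R))
    let c : ↥R → ↥V := fun r => ⟨(r : G) * v * (r : G)⁻¹, (Subgroup.mem_normalizer_iff.1 (hRV r.2) v).1 hvV⟩
    let φ : ↥R ⧸ (S : Subgroup ↥R) → ↥V := Quotient.lift c (by
      intro r r' hrr
      have h1 : r⁻¹ * r' ∈ (S : Subgroup ↥R) := QuotientGroup.leftRel_apply.1 hrr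
      have h2 : ((r⁻¹ * r' : ↥R) : G) * v = v * ((r⁻¹ * r' : ↥R) : G) :=
        Subgroup.mem_centralizer_iff.1 hvT _ (by rw [hT]; exact ⟨_, h1, rfl⟩)
      refine Subtype.ext ?_
      show (r : G) * v * (r : G)⁻¹ = (r' : G) * v * (r' : G)⁻¹
      simp only [Subgroup.coe_mul, Subgroup.coe_inv] at h2
      calc (r : G) * v * (r : G)⁻¹ = (r : G) * (v * ((r : G)⁻¹ * r')) * (r' : G)⁻¹ := by group
        _ = (r : G) * ((r : G)⁻¹ * r' * v) * (r' : G)⁻¹ := by rw [h2]
        _ = _ := by group)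
    set u : ↥V := ∏ q, φ q with hu
    have hfix : ∀ s : ↥R, (s : G) * u * (s : G)⁻¹ = u := by
      intro s
      let ψ : ↥V →* ↥V := ((MulAut.conj (s : G)).toMonoidHom.comp V.subtype).codRestrict V fun w =>
        (Subgroup.mem_normalizer_iff.1 (hRV s.2) w).1 w.2
      have h1 : ψ u = u := by
        rw [hu, map_prod]
        refine Fintype.prod_equiv (MulAction.toPerm s) _ _ fun q => ?_
        induction q using QuotientGroup.induction_on with
        | H r =>
          refine Subtype.ext ?_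
          show (s : G) * ((r : G) * v * (r : G)⁻¹) * (s : G)⁻¹ = ((s * r : ↥R) : G) * v * ((s * r : ↥R) : G)⁻¹
          simp [mul_assoc]
      exact congrArg Subtype.val h1
    have huC : (u : G) ∈ W := Subgroup.mem_sup_right (Subgroup.mem_inf.2 ⟨u.2, Subgroup.mem_centralizer_iff.2 fun r hr =>
      mul_inv_eq_iff_eq_mul.1 (hfix ⟨r, hr⟩)⟩)
    set K := (⁅V, R⁆).subgroupOf V with hK
    let π : ↥V →* ↥V ⧸ K := QuotientGroup.mk' K
    set v' : ↥V := ⟨v, hvV⟩ with hv'
    have hπ : ∀ q, π (φ q) = π v' := by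
      intro q
      induction q using QuotientGroup.induction_on with
      | H r =>
        refine ((QuotientGroup.eq).2 ?_).symm
        show v⁻¹ * ((r : G) * v * (r : G)⁻¹) ∈ ⁅V, R⁆
        simpa [commutatorElement_def, mul_assoc] using Subgroup.commutator_mem_commutator (inv_mem hvV) r.2
    have h1 : π u = π v' ^ Fintype.card (↥R ⧸ (S : Subgroup ↥R)) := by
      rw [hu, map_prod]
      simp only [hπ, Finset.prod_const, Finset.card_univ]
    set m := Fintype.card (↥R ⧸ (S : Subgroup ↥R)) with hm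
    have hmp : m.Coprime p := by
      rw [hm, ← Nat.card_eq_fintype_card, ← Subgroup.index_eq_card]
      exact Nat.coprime_comm.1 (hp.coprime_iff_not_dvd.2 S.not_dvd_index)
    have hvm : v ^ m ∈ W := by
      rw [← map_pow] at h1
      have h2 : (u : G)⁻¹ * v ^ m ∈ ⁅V, R⁆ := by
        have h3 := (QuotientGroup.eq).1 h1
        exact h3
      simpa using mul_mem huC (Subgroup.mem_sup_left h2 : (u : G)⁻¹ * v ^ m ∈ W)
    obtain ⟨a, b, hab⟩ : ∃ a b : ℤ, (m : ℤ) * a + (p : ℤ) * b = 1 :=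
      ⟨_, _, (Nat.gcd_eq_gcd_ab m p).symm.trans (by rw [hmp]; rfl)⟩
    have h4 : v = (v ^ m) ^ a := by
      calc v = v ^ ((m : ℤ) * a + (p : ℤ) * b) := by rw [hab, zpow_one]
        _ = _ := by rw [zpow_add, zpow_mul, zpow_mul, zpow_natCast, zpow_natCast, hVp v hvV, one_zpow, mul_one]
    rw [h4]
    exact zpow_mem hvm a

end Cfsg.Agent.S2781
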