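import Cfsg.Statements.S2787
import Cfsg.Agent.Lib.Solv.QuadraticApps
import Cfsg.Agent.Lib.SmallRee.Centralizer
-- import your own Cfsg.Agent.* helpers here

set_option autoImplicit false
open Cfsg

namespace Cfsg.Agent.S2787
open scoped MatrixGroups
open Subgroup Matrix

/-- The commutant of a non-scalar two by two matrix is commutative. -/
theorem commutant_comm {F : Type*} [Field F] {a g h : Matrix (Fin 2) (Fin 2) F}
    (hns : ¬ (a 0 1 = 0 ∧ a 1 0 = 0 ∧ a 0 0 = a 1 1)) (hg : g * a = a * g) (hh : h * a = a * h) :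
    g * h = h * g := by
  have e : ∀ {x : Matrix (Fin 2) (Fin 2) F}, x * a = a * x →
      x 0 1 * a 1 0 = a 0 1 * x 1 0 ∧ a 0 1 * (x 0 0 - x 1 1) = x 0 1 * (a 0 0 - a 1 1) ∧
      a 1 0 * (x 0 0 - x 1 1) = x 1 0 * (a 0 0 - a 1 1) := by
    intro x hx
    have h00 := congrFun (congrFun hx 0) 0
    have h01 := congrFun (congrFun hx 0) 1
    have h10 := congrFun (congrFun hx 1) 0
    simp only [Matrix.mul_apply, Fin.sum_univ_two] at h00 h01 h10
    exact ⟨by linear_combination h00, by linear_combination h01, by linear_combination -h10⟩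
  obtain ⟨g1, g2, g3⟩ := e hg
  obtain ⟨h1, h2, h3⟩ := e hh
  by_cases hy : a 0 1 = 0
  · by_cases hw : a 1 0 = 0
    · have hd : a 0 0 - a 1 1 ≠ 0 := sub_ne_zero.2 fun h => hns ⟨hy, hw, h⟩
      simp [hy, hd] at g2 h2
      simp [hw, hd] at g3 h3
      ext i j; fin_cases i <;> fin_cases j <;> simp [Matrix.mul_apply, Fin.sum_univ_two, g2, h2, g3, h3, mul_comm]
    · simp [hy, hw] at g1 h1
      ext i j; fin_cases i <;> fin_cases j <;> simp [Matrix.mul_apply, Fin.sum_univ_two, g1, h1] <;>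
        first
        | ring1
        | (refine mul_left_cancel₀ hw ?_; linear_combination g 1 0 * h3 - h 1 0 * g3)
  · have k : g 1 0 * h 0 1 - h 1 0 * g 0 1 = 0 :=
      mul_left_cancel₀ hy (by linear_combination g 0 1 * h1 - h 0 1 * g1)
    ext i j; fin_cases i <;> fin_cases j <;> simp [Matrix.mul_apply, Fin.sum_univ_two] <;>
      refine mul_left_cancel₀ hy ?_
    · linear_combination h 0 1 * g1 - g 0 1 * h1
    · linear_combination h 0 1 * g2 - g 0 1 * h2
    · linear_combination g 1 0 * h2 - h 1 0 * g2 + (a 0 0 - a 1 1) * k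
    · linear_combination g 0 1 * h1 - h 0 1 * g1

theorem invol_scalar {F : Type*} [Field F] (h2 : (2 : F) ≠ 0) {x : SL(2, F)} (hx : x * x = 1) :
    x = 1 ∨ x = -1 := by
  have hinv : x⁻¹ = x := inv_eq_of_mul_eq_one_right hx
  have e : ((x⁻¹ : SL(2, F)) : Matrix (Fin 2) (Fin 2) F) = x := by rw [hinv]
  rw [Matrix.SpecialLinearGroup.coe_inv, Matrix.adjugate_fin_two] at e
  have a := congrFun (congrFun e 0) 1
  have b := congrFun (congrFun e 1) 0
  have c := congrFun (congrFun e 0) 0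
  simp at a b c
  have a' : x.1 0 1 = 0 := (mul_eq_zero.1 (show (2 : F) * x.1 0 1 = 0 by linear_combination -a)).resolve_left h2
  have b' : x.1 1 0 = 0 := (mul_eq_zero.1 (show (2 : F) * x.1 1 0 = 0 by linear_combination -b)).resolve_left h2
  have hd := x.2
  rw [Matrix.det_fin_two, a', b', c] at hd
  have hs : (x.1 0 0 - 1) * (x.1 0 0 + 1) = 0 := by linear_combination hd
  rcases mul_eq_zero.1 hs with h | h
  · left
    have h' := sub_eq_zero.1 h
    ext i j; fin_cases i <;> fin_cases j <;> simp [a', b', c, h']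
  · right
    have h' := eq_neg_of_add_eq_zero_left h
    ext i j; fin_cases i <;> fin_cases j <;> simp [a', b', c, h']

/-- No subgroup of `SL(2, F)` containing `-1` maps onto `SL(2, p)` killing `-1`. -/
theorem no_lift {F : Type*} [Field F] [Fintype F] (h2 : (2 : F) ≠ 0) {p : ℕ} [Fact p.Prime] (hp : p ≠ 2)
    (T : Subgroup SL(2, F)) (f : ↥T →* SL(2, ZMod p)) (hf : Function.Surjective f)
    (hneg : ∀ t : ↥T, (t : SL(2, F)) = -1 → f t = 1) : False := by
  haveI : Fact (Nat.Prime 2) := ⟨Nat.prime_two⟩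
  have h2p : (2 : ZMod p) ≠ 0 := by
    intro h
    have : (p : ℕ) ∣ 2 := by
      have h' : ((2 : ℕ) : ZMod p) = 0 := by simpa using h
      exact (ZMod.natCast_eq_zero_iff 2 p).1 h'
    exact hp ((Nat.prime_dvd_prime_iff_eq (Fact.out : p.Prime) Nat.prime_two).1 this)
  obtain ⟨M, hM, hMc⟩ := Cfsg.Agent.Solv.Quad.exists_nonabelian_two (p := p) hp
  set K : Subgroup ↥T := M.comap f with hK
  let g : ↥K →* ↥M := (f.comp K.subtype).codRestrict M fun k => k.2
  have hg : Function.Surjective g := fun m => by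
    obtain ⟨t, ht⟩ := hf m
    exact ⟨⟨t, by rw [hK, mem_comap, ht]; exact m.2⟩, Subtype.ext ht⟩
  obtain ⟨U⟩ : Nonempty (Sylow 2 ↥K) := inferInstance
  have htop : (↑(U.mapSurjective hg) : Subgroup ↥M) = ⊤ := by
    have h1 := (U.mapSurjective hg).is_maximal' (hM.to_subgroup (⊤ : Subgroup M)) le_top
    exact h1.symm
  have hlift : ∀ m : ↥M, ∃ u ∈ (U : Subgroup ↥K), g u = m := fun m => by
    have : m ∈ (↑(U.mapSurjective hg) : Subgroup ↥M) := htop ▸ mem_top m
    simpa using this
  -- an element of `U` which every element of `U` maps to itself or its negative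
  set W : Subgroup SL(2, F) := ((U : Subgroup ↥K).map K.subtype).map T.subtype with hW
  have hWp : IsPGroup 2 W := (U.isPGroup'.map _).map _
  have hWm : ∀ u ∈ (U : Subgroup ↥K), ((u : ↥T) : SL(2, F)) ∈ W := fun u hu =>
    mem_map_of_mem _ (mem_map_of_mem _ hu)
  obtain ⟨x, hxW, hxns, hxc⟩ : ∃ x ∈ W, (x ≠ 1 ∧ x ≠ -1) ∧ ∀ w ∈ W, w * x * w⁻¹ = x ∨ w * x * w⁻¹ = -x := by
    set Z : Subgroup ↥W := (Subgroup.zpowers (-1 : SL(2, F))).subgroupOf W with hZ
    have hZc : Z ≤ Subgroup.center ↥W := by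
      intro z hz
      obtain ⟨k, hk⟩ := mem_subgroupOf.1 hz
      refine mem_center_iff.2 fun w => Subtype.ext ?_
      show (w : SL(2, F)) * (z : SL(2, F)) = (z : SL(2, F)) * (w : SL(2, F))
      rw [← hk]
      exact (((show Commute (w : SL(2, F)) (-1) from Commute.neg_one_right _)).zpow_right k).eq
    haveI hZn : Z.Normal := ⟨fun z hz w => by rw [mem_center_iff.1 (hZc hz) w, mul_inv_cancel_right]; exact hz⟩
    have hpm : ∀ w : ↥W, w ∈ Z → (w : SL(2, F)) = 1 ∨ (w : SL(2, F)) = -1 := by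
      intro w hw
      obtain ⟨k, hk⟩ := mem_subgroupOf.1 hw
      refine invol_scalar h2 ?_
      rw [← hk, ← (Commute.refl (-1 : SL(2, F))).mul_zpow, neg_mul_neg, one_mul, _root_.one_zpow]
    by_cases hbig : Z = ⊤
    · exfalso
      refine hMc ⟨⟨fun m n => ?_⟩⟩
      obtain ⟨u, hu, rfl⟩ := hlift m
      have : g u = 1 := by
        refine Subtype.ext ?_
        show f (u : ↥T) = 1
        rcases hpm ⟨_, hWm u hu⟩ (hbig ▸ mem_top _) with h | h
        · rw [show (u : ↥T) = 1 from Subtype.ext h, map_one]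
        · exact hneg _ h
      rw [this, one_mul, mul_one]
    · haveI : Nontrivial (↥W ⧸ Z) := QuotientGroup.nontrivial_iff.2 hbig
      have := (hWp.to_quotient Z).center_nontrivial
      obtain ⟨⟨q, hq⟩, hq1⟩ := exists_ne (1 : Subgroup.center (↥W ⧸ Z))
      obtain ⟨x, rfl⟩ := QuotientGroup.mk'_surjective Z q
      refine ⟨x, x.2, ?_, fun w hw => ?_⟩
      · have hxZ : x ∉ Z := fun h => hq1 (Subtype.ext ((QuotientGroup.eq_one_iff x).2 h))
        refine ⟨fun h => hxZ (mem_subgroupOf.2 (by rw [h]; exact one_mem _)),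
          fun h => hxZ (mem_subgroupOf.2 (by rw [h]; exact mem_zpowers _))⟩
      · have h1 := mem_center_iff.1 hq (QuotientGroup.mk' Z ⟨w, hw⟩)
        have h2 : (⟨w, hw⟩ : ↥W) * x * (⟨w, hw⟩ : ↥W)⁻¹ * x⁻¹ ∈ Z := by
          rw [← QuotientGroup.eq_one_iff]
          show QuotientGroup.mk' Z _ = 1
          rw [map_mul, map_mul, map_mul, map_inv, map_inv, h1, mul_inv_cancel_right, mul_inv_cancel]
        rcases hpm _ h2 with h | h
        · left
          exact mul_inv_eq_one.1 h
        · right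
          have h' := mul_inv_eq_iff_eq_mul.1 h
          rwa [neg_one_mul] at h'
  have hns : ¬ (x.1 0 1 = 0 ∧ x.1 1 0 = 0 ∧ x.1 0 0 = x.1 1 1) := by
    rintro ⟨h01, h10, h00⟩
    have hd := x.2
    rw [Matrix.det_fin_two, h01, h10, h00] at hd
    have hs' : (x.1 1 1 - 1) * (x.1 1 1 + 1) = 0 := by linear_combination hd
    rcases mul_eq_zero.1 hs' with h | h
    · refine hxns.1 ?_
      have h' := sub_eq_zero.1 h
      ext i j; fin_cases i <;> fin_cases j <;> simp [h01, h10, h00, h']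
    · refine hxns.2 ?_
      have h' := eq_neg_of_add_eq_zero_left h
      ext i j; fin_cases i <;> fin_cases j <;> simp [h01, h10, h00, h']
  -- elements whose image has square different from one centralize `x`
  have hcent : ∀ w ∈ W, w * w ≠ -1 → w.1 * x.1 = x.1 * w.1 := by
    intro w hw hne
    rcases hxc w hw with h | h
    · exact congrArg Subtype.val ((mul_inv_eq_iff_eq_mul (G := SL(2, F))).1 h)
    · exfalso
      have h' : w.1 * x.1 = -(x.1 * w.1) := by
        have h1 := congrArg Subtype.val ((mul_inv_eq_iff_eq_mul (G := SL(2, F))).1 h)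
        simpa using h1
      have ht : w.1 0 0 + w.1 1 1 = 0 := by
        have h1 : w.1 = -(x.1 * w.1 * (x⁻¹).1) := by
          rw [← neg_mul, ← h', Matrix.mul_assoc, ← Matrix.SpecialLinearGroup.coe_mul, mul_inv_cancel]
          simp
        have h3 := congrArg Matrix.trace h1
        rw [Matrix.trace_neg, Matrix.trace_mul_cycle, ← Matrix.SpecialLinearGroup.coe_mul, inv_mul_cancel,
          Matrix.SpecialLinearGroup.coe_one, Matrix.one_mul, Matrix.trace_fin_two] at h3
        exact (mul_eq_zero.1 (show (2 : F) * (w.1 0 0 + w.1 1 1) = 0 by linear_combination h3)).resolve_left h2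
      refine hne ?_
      have hd := w.2
      rw [Matrix.det_fin_two] at hd
      have e : w.1 1 1 = - w.1 0 0 := by linear_combination ht
      rw [e] at hd
      ext i j; fin_cases i <;> fin_cases j <;> simp [Matrix.mul_apply, Fin.sum_univ_two, e] <;>
        first
        | linear_combination -hd
        | ring
  refine hMc ⟨⟨fun m n => ?_⟩⟩
  by_cases hm : (m : SL(2, ZMod p)) * m = 1
  · refine Subtype.ext ?_
    rcases invol_scalar h2p hm with h | h <;> simp [h]
  by_cases hn : (n : SL(2, ZMod p)) * n = 1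
  · refine Subtype.ext ?_
    rcases invol_scalar h2p hn with h | h <;> simp [h]
  obtain ⟨u, hu, rfl⟩ := hlift m
  obtain ⟨v, hv, rfl⟩ := hlift n
  have key : ∀ u : ↥K, u ∈ (U : Subgroup ↥K) → ¬ ((g u : SL(2, ZMod p)) * g u = 1) →
      ((u : ↥T) : SL(2, F)).1 * x.1 = x.1 * ((u : ↥T) : SL(2, F)).1 := by
    intro u hu hne
    refine hcent _ (hWm u hu) fun h => hne ?_
    show f (u : ↥T) * f (u : ↥T) = 1
    rw [← map_mul]
    exact hneg _ h
  have h' := commutant_comm hns (key u hu hm) (key v hv hn)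
  rw [← map_mul, ← map_mul]
  refine congrArg g ?_
  exact Subtype.ext (Subtype.ext (Subtype.ext h'))

theorem no_invSL_psl {F : Type*} [Field F] [Fintype F] (h2 : (2 : F) ≠ 0) {p : ℕ} [Fact p.Prime] (hp : p ≠ 2)
    (h : Cfsg.Agent.Solv.Quad.InvSL p (Matrix.ProjectiveSpecialLinearGroup (Fin 2) F)) : False := by
  obtain ⟨S, ψ, hψ⟩ := h
  set π := QuotientGroup.mk' (Subgroup.center SL(2, F))
  let r : ↥(S.comap π) →* ↥S := (π.comp (S.comap π).subtype).codRestrict S fun t => t.2
  have hr : Function.Surjective r := fun s => by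
    obtain ⟨t, ht⟩ := QuotientGroup.mk'_surjective (Subgroup.center SL(2, F)) (s : _)
    exact ⟨⟨t, by rw [mem_comap]; exact ht ▸ s.2⟩, Subtype.ext ht⟩
  refine no_lift h2 hp _ (ψ.comp r) (hψ.comp hr) fun t ht => ?_
  have : r t = 1 := Subtype.ext (by
    show π (t : SL(2, F)) = 1
    rw [ht]
    exact (QuotientGroup.eq_one_iff _).2 (mem_center_iff.2 fun g => (Commute.neg_one_right g).eq))
  rw [MonoidHom.comp_apply, this, map_one]


/-- Let p be a prime and let H act by conjugation on the elementary abelian p-subgroup V of a finite group, irreducibly (no H-invariant subgroups of V other than 1 and V) and nontrivially, and suppose H/C_H(V) is isomorphic to PSL₂(F) for a field F with p^n elements, p^n odd, or p = 3 and H/C_H(V) is isomorphic to a Ree group ²G₂(3^(2m+1)), m ≥ 1. Then no subgroup A of H acting nontrivially on V acts quadratically: [V, A, A] = 1 forces [V, A] = 1. -/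
theorem result {G : Type*} [Group G] [Finite G] {p : ℕ} [Fact p.Prime] (V H : Subgroup G) (hV : Cfsg.IsElementaryAbelian p V) (hHV : H ≤ Subgroup.normalizer (V : Set G)) (hirr : ∀ U : Subgroup G, U ≤ V → H ≤ Subgroup.normalizer (U : Set G) → U = ⊥ ∨ U = V) (hnt : ¬ H ≤ Subgroup.centralizer (V : Set G)) [hn : ((Subgroup.centralizer (V : Set G)).subgroupOf H).Normal] (hq : (∃ (F : Type) (_ : Field F) (_ : Fintype F) (n : ℕ), Fintype.card F = p ^ n ∧ Odd (Fintype.card F) ∧ Nonempty (↥H ⧸ (Subgroup.centralizer (V : Set G)).subgroupOf H ≃* Matrix.ProjectiveSpecialLinearGroup (Fin 2) F)) ∨ (p = 3 ∧ Cfsg.Lie.IsoRee (↥H ⧸ (Subgroup.centralizer (V : Set G)).subgroupOf H))) (A : Subgroup G) (hA : A ≤ H) (hquad : ⁅⁅V, A⁆, A⁆ = ⊥) : ⁅V, A⁆ = ⊥ := by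
  skip
  classical
  set C := (Subgroup.centralizer (V : Set G)).subgroupOf H with hC
  haveI := hV.1
  letI : CommGroup V := { (inferInstance : Group V) with mul_comm := fun x y => mul_comm' x y }
  let ψ := Cfsg.Agent.Solv.conjHom H V hHV
  have hψ : ∀ (h : H) (v : V), ((ψ h v : V) : G) = (h : G) * v * (h : G)⁻¹ := fun h v =>
    Cfsg.Agent.Solv.conjHom_apply H V hHV h v
  have hker : C = ψ.ker := by
    ext h
    rw [hC, mem_subgroupOf, MonoidHom.mem_ker, mem_centralizer_iff]
    constructor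
    · intro hh
      refine MulEquiv.ext fun v => Subtype.ext ?_
      rw [hψ, ← hh v v.2, mul_inv_cancel_right]
      rfl
    · intro hh v hv
      have := congrArg Subtype.val (DFunLike.congr_fun hh ⟨v, hv⟩)
      rw [hψ] at this
      exact (mul_inv_eq_iff_eq_mul.1 this).symm
  let φ : ↥H ⧸ C →* MulAut V := QuotientGroup.lift C ψ hker.le
  have hφ : Function.Injective φ := by
    rw [← MonoidHom.ker_eq_bot_iff, eq_bot_iff]
    intro q hq
    obtain ⟨h, rfl⟩ := QuotientGroup.mk'_surjective C q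
    exact mem_bot.2 ((QuotientGroup.eq_one_iff h).2 (hker.ge hq))
  have hO : Cfsg.pCore p (↥H ⧸ C) = ⊥ := by
    set N := Cfsg.pCore p (↥H ⧸ C) with hN
    haveI : N.Normal := Cfsg.pCore_normal p _
    letI : MulAction ↥N V := MulAction.compHom V (φ.comp N.subtype)
    let U : Subgroup G :=
      { carrier := {x | ∃ hx : x ∈ V, ∀ n ∈ N, φ n ⟨x, hx⟩ = ⟨x, hx⟩}
        one_mem' := ⟨one_mem _, fun n _ => map_one (φ n)⟩
        mul_mem' := by
          rintro a b ⟨ha, ha'⟩ ⟨hb, hb'⟩
          refine ⟨mul_mem ha hb, fun n hn => ?_⟩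
          have := map_mul (φ n) ⟨a, ha⟩ ⟨b, hb⟩
          rw [ha' n hn, hb' n hn] at this
          exact this
        inv_mem' := by
          rintro a ⟨ha, ha'⟩
          refine ⟨inv_mem ha, fun n hn => ?_⟩
          have := map_inv (φ n) ⟨a, ha⟩
          rw [ha' n hn] at this
          exact this }
    have hUV : U ≤ V := fun x hx => hx.1
    have hUH : H ≤ normalizer (U : Set G) := by
      have h1 : ∀ h ∈ H, ∀ x ∈ U, h * x * h⁻¹ ∈ U := by
        rintro h hh x ⟨hx, hx'⟩
        have hm : h * x * h⁻¹ ∈ V := (mem_normalizer_iff.1 (hHV hh) x).1 hx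
        refine ⟨hm, fun n hn => ?_⟩
        have e : (⟨h * x * h⁻¹, hm⟩ : V) = φ (QuotientGroup.mk' C ⟨h, hh⟩) ⟨x, hx⟩ :=
          Subtype.ext (hψ ⟨h, hh⟩ ⟨x, hx⟩).symm
        have h3 := hx' _ (Normal.conj_mem ‹N.Normal› n hn (QuotientGroup.mk' C ⟨h, hh⟩)⁻¹)
        rw [inv_inv, map_mul, map_mul, map_inv] at h3
        rw [e]
        have h4 := congrArg (φ (QuotientGroup.mk' C ⟨h, hh⟩)) h3
        simpa using h4
      intro h hh
      refine mem_normalizer_iff.2 fun x => ⟨h1 h hh x, fun hx => ?_⟩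
      have := h1 h⁻¹ (inv_mem hh) _ hx
      simpa [mul_assoc] using this
    rcases hirr U hUV hUH with hb | ht
    · exfalso
      have hNp : IsPGroup p ↥N := Cfsg.Agent.Solv.isPGroup_pCore p _
      have hVne : V ≠ ⊥ := fun h => hnt fun x _ => mem_centralizer_iff.2 fun v hv => by
        rw [show v = 1 from mem_bot.1 (h ▸ hv), one_mul, mul_one]
      obtain ⟨k, hk⟩ := IsPGroup.iff_card.1 (show IsPGroup p ↥V from fun v => ⟨1, Subtype.ext (by simpa using hV.2 v v.2)⟩)
      have hdvd : p ∣ Nat.card V := by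
        rw [hk]
        refine dvd_pow_self p fun h0 => hVne ?_
        rw [h0, pow_zero] at hk
        exact eq_bot_of_card_eq V hk
      obtain ⟨v, hv, hv1⟩ := hNp.exists_fixed_point_of_prime_dvd_card_of_fixed_point ↥V hdvd
        (a := (1 : V)) (fun n => map_one (φ _))
      have : (v : G) ∈ U := ⟨v.2, fun n hn => hv ⟨n, hn⟩⟩
      rw [hb, mem_bot] at this
      exact hv1 (Subtype.ext this).symm
    · rw [eq_bot_iff]
      intro n hn
      refine mem_bot.2 (hφ (MulEquiv.ext fun v => ?_))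
      have : (v : G) ∈ U := ht.symm ▸ v.2
      rw [map_one]
      exact this.2 n hn
  have hp2 : p ≠ 2 := by
    rcases hq with ⟨F, _, _, n, hF, hodd, -⟩ | ⟨rfl, -⟩
    · intro h
      rw [hF, h] at hodd
      rcases n with _ | n
      · simp at hF
        exact (Fintype.one_lt_card (α := F)).ne' hF
      · rw [pow_succ] at hodd
        exact Nat.not_odd_iff_even.2 (even_two.mul_left _) hodd
    · norm_num
  rw [commutator_eq_bot_iff_le_centralizer, le_centralizer_iff]
  intro a ha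
  have hq2 : ⁅⁅V, zpowers a⁆, zpowers a⁆ = ⊥ :=
    eq_bot_iff.2 (hquad ▸ commutator_mono (commutator_mono le_rfl (zpowers_le.2 ha)) (zpowers_le.2 ha))
  have hqa : Cfsg.Agent.Solv.Quad.QuadAct φ (QuotientGroup.mk' C ⟨a, hA ha⟩) :=
    Cfsg.Agent.Solv.Quad.quadAct_of_commutator hHV (hA ha) hq2
  by_cases hmem : QuotientGroup.mk' C ⟨a, hA ha⟩ = 1
  · exact mem_subgroupOf.1 ((QuotientGroup.eq_one_iff _).1 hmem)
  exfalso
  have hinv : Cfsg.Agent.Solv.Quad.InvSL p (↥H ⧸ C) :=
    Cfsg.Agent.Solv.Quad.invSL_of_not_mem_pCore hp2 (fun v : V => Subtype.ext (by simpa using hV.2 v v.2)) φ hφ hqa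
      (by rw [hO]; exact fun h => hmem (mem_bot.1 h))
  rcases hq with ⟨F, _, _, n, hF, hodd, ⟨e⟩⟩ | ⟨rfl, K, _, _, m, hm, hK, ⟨e⟩⟩
  · have h2 : (2 : F) ≠ 0 := by
      refine Ring.two_ne_zero fun h => ?_
      have := FiniteField.even_card_of_char_two h
      exact (Nat.not_even_iff_odd.2 hodd) (Nat.even_iff.2 this)
    exact no_invSL_psl h2 hp2 (hinv.of_surjective e.symm.toMonoidHom e.symm.surjective)
  · obtain ⟨hchar, T, hT⟩ := Cfsg.Agent.SmallRee.exists_setup hK
    have hGr := T.Gr_eq hK hT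
    let e' : ↥T.Gr ≃* ↥H ⧸ C := (MulEquiv.subgroupCongr hGr).trans e.symm
    have hinv' := hinv.of_surjective e'.toMonoidHom e'.surjective
    haveI : Fact (Nat.Prime 2) := ⟨Nat.prime_two⟩
    obtain ⟨P⟩ : Nonempty (Sylow 2 ↥T.Gr) := inferInstance
    refine hinv'.not_comm_sylow hp2 P ⟨⟨fun x y => ?_⟩⟩
    have hsq : ∀ z : ↥(P : Subgroup ↥T.Gr), z * z = 1 := fun z => Subtype.ext ((T.sylow_two hK P).2 z z.2)
    have hz : ∀ z : ↥(P : Subgroup ↥T.Gr), z⁻¹ = z := fun z => inv_eq_of_mul_eq_one_right (hsq z)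
    rw [← hz (x * y), _root_.mul_inv_rev, hz, hz]

end Cfsg.Agent.S2787
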