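import Cfsg.Statements.S2791
import Cfsg.Agent.Lib.Local.CharPBasics
import Cfsg.Agent.Lib.Solv.Misc
import Cfsg.Prelude.Def_LocalEven
-- import your own Cfsg.Agent.* helpers here

set_option autoImplicit false
open Cfsg

namespace Cfsg.Agent.S2791
open scoped commutatorElement Pointwise

/-- Let S be a Sylow p-subgroup of the finite group G and A an abelian subgroup of S that is strongly closed in S with respect to G. Then A controls strong fusion in G: for some Sylow p-subgroup T containing A, whenever a subset of T is conjugated into T by an element of G, the same elementwise conjugation is induced by an element of N_G(A). -/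
theorem result {G : Type*} [Group G] [Finite G] {p : ℕ} [Fact p.Prime] (S : Sylow p G) (A : Subgroup G) (hA : IsMulCommutative ↥A) (hsc : Cfsg.IsStronglyClosed A (S : Subgroup G)) : Cfsg.ControlsStrongFusion p A := by
  classical
  obtain ⟨hAS, hcl⟩ := hsc
  refine ⟨S, hAS, fun X hX => ⟨hX, fun g hg => ?_⟩⟩
  have hAn : ∀ s ∈ (S : Subgroup G), ∀ a ∈ A, s * a * s⁻¹ ∈ A := fun s hs a ha =>
    hcl a ha s (mul_mem (mul_mem hs (hAS ha)) (inv_mem hs))
  have main : ∀ Q : Subgroup G, Q ≤ (S : Subgroup G) → ∀ g : G, (∀ q ∈ Q, g * q * g⁻¹ ∈ (S : Subgroup G)) →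
      ∃ a ∈ Subgroup.normalizer (A : Set G), ∀ q ∈ Q, a * q * a⁻¹ = g * q * g⁻¹ := by
    intro Q
    induction hc : Nat.card (S : Subgroup G) - Nat.card Q using Nat.strong_induction_on generalizing Q with
    | _ c ih =>
    subst hc
    intro hQS g hg
    have hnormA : ∀ x : G, (∀ a ∈ A, x * a * x⁻¹ ∈ A) → x ∈ Subgroup.normalizer (A : Set G) := by
      intro x hx
      have e : A.map (MulAut.conj x).toMonoidHom = A := Subgroup.eq_of_le_of_card_ge
        (by rintro _ ⟨a, ha, rfl⟩; exact hx a ha) (Subgroup.card_map_of_injective (MulAut.conj x).injective).ge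
      rw [Subgroup.mem_normalizer_iff]
      intro y
      refine ⟨hx y, fun hy => ?_⟩
      rw [← e] at hy
      obtain ⟨a, ha, hay⟩ := hy
      have hay' : x * a * x⁻¹ = x * y * x⁻¹ := hay
      rwa [show y = a by simpa using hay'.symm]
    have hih : ∀ U : Subgroup G, Nat.card Q < Nat.card U → U ≤ (S : Subgroup G) → ∀ x : G,
        (∀ q ∈ U, x * q * x⁻¹ ∈ (S : Subgroup G)) →
        ∃ a ∈ Subgroup.normalizer (A : Set G), ∀ q ∈ U, a * q * a⁻¹ = x * q * x⁻¹ := by
      intro U hU hUS
      have h1 := Nat.card_le_card_of_injective (Subgroup.inclusion hUS) (Subgroup.inclusion_injective _)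
      exact ih _ (by omega) U rfl hUS
    by_cases hQ : Q = (S : Subgroup G)
    · exact ⟨g, hnormA g fun a ha => hcl a ha g (hg a (hQ ▸ hAS ha)), fun q _ => rfl⟩
    -- a conjugate with the largest normalizer in `S`
    set Cl : Set G := {h | ∀ q ∈ Q, h * q * h⁻¹ ∈ (S : Subgroup G)}
    set NS : G → Subgroup G := fun h => (S : Subgroup G) ⊓
      Subgroup.normalizer ((Q.map (MulAut.conj h).toMonoidHom : Subgroup G) : Set G)
    obtain ⟨h₀, hh₀, hmax⟩ := (Set.toFinite Cl).exists_maximalFor (fun h => Nat.card (NS h)) _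
      ⟨1, fun q hq => by simpa using hQS hq⟩
    set R := Q.map (MulAut.conj h₀).toMonoidHom with hR
    have hRS : R ≤ (S : Subgroup G) := by rintro _ ⟨q, hq, rfl⟩; exact hh₀ q hq
    set N := Subgroup.normalizer (R : Set G) with hN
    have hsyl : ¬ p ∣ ((S : Subgroup G).subgroupOf N).index := by
      intro hd
      obtain ⟨P, hP⟩ := (S.isPGroup'.comap_of_injective N.subtype N.subtype_injective).exists_le_sylow
      obtain ⟨P', hP'⟩ := (P.isPGroup'.map N.subtype).exists_le_sylow
      obtain ⟨k, hk⟩ := MulAction.exists_smul_eq G P' S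
      have hkP : ∀ y ∈ P', k * y * k⁻¹ ∈ (S : Subgroup G) := fun y hy => by rw [← hk]; exact ⟨y, hy, rfl⟩
      have hkR : ∀ r ∈ R, k * r * k⁻¹ ∈ (S : Subgroup G) := fun r hr =>
        hkP r (hP' ⟨⟨r, Subgroup.le_normalizer hr⟩, hP (hRS hr), rfl⟩)
      have hk' : k * h₀ ∈ Cl := fun q hq => by
        have := hkR _ ⟨q, hq, rfl⟩
        simpa [mul_assoc] using this
      have hle : ((P : Subgroup N).map N.subtype).map (MulAut.conj k).toMonoidHom ≤ NS (k * h₀) := by
        rintro _ ⟨_, ⟨y, hy, rfl⟩, rfl⟩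
        refine Subgroup.mem_inf.2 ⟨hkP _ (hP' ⟨y, hy, rfl⟩), ?_⟩
        have e : Q.map (MulAut.conj (k * h₀)).toMonoidHom = R.map (MulAut.conj k).toMonoidHom := by
          rw [hR, Subgroup.map_map]; congr 1; ext z; simp [mul_assoc]
        rw [e]
        exact Subgroup.le_normalizer_map (MulAut.conj k).toMonoidHom ⟨(y : G), y.2, rfl⟩
      have h1 : Nat.card (P : Subgroup N) ≤ Nat.card (NS h₀) := by
        have h2 := Nat.card_le_card_of_injective (Subgroup.inclusion hle) (Subgroup.inclusion_injective _)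
        rw [Subgroup.card_map_of_injective (MulAut.conj k).injective,
          Subgroup.card_map_of_injective N.subtype_injective] at h2
        rcases le_total (Nat.card (NS (k * h₀))) (Nat.card (NS h₀)) with h3 | h3
        · exact h2.trans h3
        · exact h2.trans (hmax (j := k * h₀) hk' h3)
      have h2 : Nat.card ((S : Subgroup G).subgroupOf N) = Nat.card (NS h₀) := by
        rw [← Subgroup.card_map_of_injective N.subtype_injective (K := (S : Subgroup G).subgroupOf N),
          Subgroup.subgroupOf_map_subtype]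
      have h3 : (S : Subgroup G).subgroupOf N = (P : Subgroup N) :=
        Subgroup.eq_of_le_of_card_ge hP (h2 ▸ h1)
      rw [h3] at hd
      exact P.not_dvd_index hd
    let T : Sylow p N := (S.isPGroup'.comap_of_injective N.subtype N.subtype_injective).toSylow hsyl
    -- moving conjugates of `Q` onto `R` by elements of the normalizer of `A`
    have hmove : ∀ g : G, (∀ q ∈ Q, g * q * g⁻¹ ∈ (S : Subgroup G)) →
        ∃ b ∈ Subgroup.normalizer (A : Set G), ∀ q ∈ Q, b * (g * q * g⁻¹) * b⁻¹ ∈ R := by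
      intro g hg
      set Q' := Q.map (MulAut.conj g).toMonoidHom with hQ'
      have hQ'S : Q' ≤ (S : Subgroup G) := by rintro _ ⟨q, hq, rfl⟩; exact hg q hq
      set M := (S : Subgroup G) ⊓ Subgroup.normalizer (Q' : Set G)
      have hQ'M : Q' < M := by
        haveI := S.isPGroup'.isNilpotent
        have hlt : Q'.subgroupOf (S : Subgroup G) < ⊤ := lt_top_iff_ne_top.2 fun e => hQ (by
          refine Subgroup.eq_of_le_of_card_ge hQS ?_
          rw [← Subgroup.card_map_of_injective (f := (MulAut.conj g).toMonoidHom) (MulAut.conj g).injective (K := Q)]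
          exact Nat.card_le_card_of_injective (Subgroup.inclusion (Subgroup.subgroupOf_eq_top.1 e))
            (Subgroup.inclusion_injective _))
        obtain ⟨s, hs1, hs2⟩ := SetLike.exists_of_lt (Group.normalizerCondition_of_isNilpotent (G := (S : Subgroup G)) _ hlt)
        refine lt_of_le_of_ne (le_inf hQ'S Subgroup.le_normalizer) fun e => hs2 ?_
        rw [← Subgroup.subgroupOf_normalizer_eq hQ'S] at hs1
        exact (e.symm.le (Subgroup.mem_inf.2 ⟨s.2, hs1⟩) : (s : G) ∈ Q')
      set k := h₀ * g⁻¹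
      have hkQ : Q'.map (MulAut.conj k).toMonoidHom = R := by
        rw [hQ', hR, Subgroup.map_map]; congr 1; ext z; simp [k, mul_assoc]
      have hkM : ∀ m ∈ M, k * m * k⁻¹ ∈ N := fun m hm => by
        have h1 : k * m * k⁻¹ ∈ (Subgroup.normalizer (Q' : Set G)).map (MulAut.conj k).toMonoidHom :=
          ⟨m, (Subgroup.mem_inf.1 hm).2, rfl⟩
        have h2 := Subgroup.le_normalizer_map (MulAut.conj k).toMonoidHom h1
        rw [hkQ] at h2
        exact h2
      let φ : M →* N := ((MulAut.conj k).toMonoidHom.comp M.subtype).codRestrict N fun m => hkM m m.2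
      have hMp : IsPGroup p M := S.isPGroup'.to_le inf_le_left
      obtain ⟨P, hP⟩ := ((hMp.of_equiv Subgroup.topEquiv.symm).map φ).exists_le_sylow
      obtain ⟨n, hn⟩ := MulAction.exists_smul_eq N P T
      set h := (n : G) * k
      have hhM : ∀ m ∈ M, h * m * h⁻¹ ∈ (S : Subgroup G) := by
        intro m hm
        have h1 : n * φ ⟨m, hm⟩ * n⁻¹ ∈ (T : Subgroup N) := by
          rw [← hn]; exact ⟨φ ⟨m, hm⟩, hP ⟨⟨m, hm⟩, trivial, rfl⟩, rfl⟩
        have h2 : (n : G) * (k * m * k⁻¹) * (n : G)⁻¹ ∈ (S : Subgroup G) := h1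
        simpa [h, mul_assoc] using h2
      obtain ⟨b, hb, hbq⟩ := hih M (by
        have h1 := Set.ncard_lt_ncard (SetLike.coe_ssubset_coe.2 hQ'M) (Set.toFinite _)
        rw [← Nat.card_coe_set_eq, ← Nat.card_coe_set_eq] at h1
        exact (Subgroup.card_map_of_injective (f := (MulAut.conj g).toMonoidHom) (MulAut.conj g).injective).symm.trans_lt h1)
        inf_le_left h hhM
      refine ⟨b, hb, fun q hq => ?_⟩
      have hbq' := hbq (g * q * g⁻¹) (hQ'M.le ⟨q, hq, rfl⟩)
      rw [hbq']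
      have h1 : k * (g * q * g⁻¹) * k⁻¹ ∈ R := hkQ ▸ ⟨_, ⟨q, hq, rfl⟩, rfl⟩
      have h2 := (Subgroup.mem_normalizer_iff.1 n.2 _).1 h1
      simpa [h, mul_assoc] using h2
    obtain ⟨b0, hb0, hb0q⟩ := hmove 1 (fun q hq => by simpa using hQS hq)
    obtain ⟨b1, hb1, hb1q⟩ := hmove g hg
    have hcardR : Nat.card R = Nat.card Q := Subgroup.card_map_of_injective (MulAut.conj h₀).injective
    have hb0R : Q.map (MulAut.conj b0).toMonoidHom = R := by
      refine Subgroup.eq_of_le_of_card_ge ?_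
        (hcardR.trans_le (Subgroup.card_map_of_injective (f := (MulAut.conj b0).toMonoidHom) (MulAut.conj b0).injective).ge)
      rintro _ ⟨q, hq, rfl⟩
      simpa using hb0q q hq
    set n₀ := b1 * g * b0⁻¹ with hn₀
    have hn₀R : ∀ r ∈ R, n₀ * r * n₀⁻¹ ∈ R := by
      intro r hr
      rw [← hb0R] at hr
      obtain ⟨q, hq, rfl⟩ := hr
      have := hb1q q hq
      simpa [hn₀, mul_assoc] using this
    have hn₀N : n₀ ∈ N := by
      have e : R.map (MulAut.conj n₀).toMonoidHom = R := Subgroup.eq_of_le_of_card_ge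
        (by rintro _ ⟨r, hr, rfl⟩; exact hn₀R r hr) (Subgroup.card_map_of_injective (MulAut.conj n₀).injective).ge
      rw [hN, Subgroup.mem_normalizer_iff]
      intro y
      refine ⟨hn₀R y, fun hy => ?_⟩
      rw [← e] at hy
      obtain ⟨r, hr, hry⟩ := hy
      have hry' : n₀ * r * n₀⁻¹ = n₀ * y * n₀⁻¹ := hry
      rwa [show y = r by simpa using hry'.symm]
    suffices hfin : ∃ a ∈ Subgroup.normalizer (A : Set G), ∀ r ∈ R, a * r * a⁻¹ = n₀ * r * n₀⁻¹ by
      obtain ⟨a, ha, har⟩ := hfin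
      refine ⟨b1⁻¹ * a * b0, mul_mem (mul_mem (inv_mem hb1) ha) hb0, fun q hq => ?_⟩
      have h1 := har (b0 * q * b0⁻¹) (hb0R ▸ ⟨q, hq, rfl⟩)
      calc b1⁻¹ * a * b0 * q * (b1⁻¹ * a * b0)⁻¹ = b1⁻¹ * (a * (b0 * q * b0⁻¹) * a⁻¹) * b1 := by group
        _ = g * q * g⁻¹ := by rw [h1, hn₀]; group
    -- the stabiliser of the series `1 ≤ A ⊓ R ≤ R`
    have hinvAR : ∀ n ∈ N, ∀ z ∈ A, z ∈ R → n * z * n⁻¹ ∈ A := fun n hn z hz hzR =>
      hcl z hz n (hRS ((Subgroup.mem_normalizer_iff.1 hn z).1 hzR))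
    let K : Subgroup N :=
      { carrier := {x : N | (∀ r ∈ R, (x : G) * r * (x : G)⁻¹ * r⁻¹ ∈ A) ∧
            ∀ z ∈ A, z ∈ R → (x : G) * z * (x : G)⁻¹ = z}
        one_mem' := ⟨fun r _ => by simp, fun z _ _ => by simp⟩
        mul_mem' := by
          rintro x y ⟨hx1, hx2⟩ ⟨hy1, hy2⟩
          refine ⟨fun r hr => ?_, fun z hz hzR => ?_⟩
          · have hzR : (y : G) * r * (y : G)⁻¹ * r⁻¹ ∈ R :=
              mul_mem ((Subgroup.mem_normalizer_iff.1 y.2 r).1 hr) (inv_mem hr)
            rw [show ((x * y : N) : G) * r * ((x * y : N) : G)⁻¹ * r⁻¹ =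
              ((x : G) * ((y : G) * r * (y : G)⁻¹ * r⁻¹) * (x : G)⁻¹) * ((x : G) * r * (x : G)⁻¹ * r⁻¹) by
                push_cast; group, hx2 _ (hy1 r hr) hzR]
            exact mul_mem (hy1 r hr) (hx1 r hr)
          · calc ((x * y : N) : G) * z * ((x * y : N) : G)⁻¹ =
                (x : G) * ((y : G) * z * (y : G)⁻¹) * (x : G)⁻¹ := by push_cast; group
              _ = z := by rw [hy2 z hz hzR, hx2 z hz hzR]
        inv_mem' := by
          rintro x ⟨hx1, hx2⟩
          have hx2' : ∀ z ∈ A, z ∈ R → (x : G)⁻¹ * z * (x : G) = z := fun z hz hzR => by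
            conv_lhs => rw [← hx2 z hz hzR]
            group
          refine ⟨fun r hr => ?_, fun z hz hzR => by push_cast; rw [inv_inv]; exact hx2' z hz hzR⟩
          have h1 := inv_mem (hx1 r hr)
          have h2 : ((x : G) * r * (x : G)⁻¹ * r⁻¹)⁻¹ ∈ R :=
            inv_mem (mul_mem ((Subgroup.mem_normalizer_iff.1 x.2 r).1 hr) (inv_mem hr))
          rw [show ((x⁻¹ : N) : G) * r * ((x⁻¹ : N) : G)⁻¹ * r⁻¹ =
            (x : G)⁻¹ * ((x : G) * r * (x : G)⁻¹ * r⁻¹)⁻¹ * (x : G) by push_cast; group, hx2' _ h1 h2]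
          exact h1 }
    haveI hKn : K.Normal := by
      refine ⟨fun x hx n => ?_⟩
      obtain ⟨hx1, hx2⟩ := hx
      refine ⟨fun r hr => ?_, fun z hz hzR => ?_⟩
      · have hr' : (n : G)⁻¹ * r * n ∈ R := (Subgroup.mem_normalizer_iff''.1 n.2 r).1 hr
        have h2 := hinvAR n n.2 _ (hx1 _ hr')
          (mul_mem ((Subgroup.mem_normalizer_iff.1 x.2 _).1 hr') (inv_mem hr'))
        convert h2 using 1
        push_cast; group
      · have hz' : (n : G)⁻¹ * z * n ∈ A := by
          have := hinvAR (n : G)⁻¹ (inv_mem n.2) z hz hzR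
          rwa [inv_inv] at this
        have h3 := hx2 _ hz' ((Subgroup.mem_normalizer_iff''.1 n.2 z).1 hzR)
        calc ((n * x * n⁻¹ : N) : G) * z * ((n * x * n⁻¹ : N) : G)⁻¹ =
            (n : G) * ((x : G) * ((n : G)⁻¹ * z * n) * (x : G)⁻¹) * (n : G)⁻¹ := by push_cast; group
          _ = z := by rw [h3]; group
    set C := (Subgroup.centralizer (R : Set G)).subgroupOf N with hC
    haveI hCn : C.Normal := inferInstance
    set T₀ := (T : Subgroup N) ⊓ K with hT₀
    let TK : Sylow p K := (T.isPGroup'.comap_of_injective K.subtype K.subtype_injective).toSylow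
      (Cfsg.Agent.Solv.index_sylow_inf_subnormal K (Subgroup.Normal.isSubnormal hKn) T)
    have hTKmap : (TK : Subgroup K).map K.subtype = T₀ := Subgroup.subgroupOf_map_subtype _ _
    have hKC : K ≤ C ⊔ T₀ := by
      intro x hx
      have h1 : (⟨x, hx⟩ : K) ∈ (TK : Subgroup K) ⊔ Cfsg.pResidual p K := by
        rw [Cfsg.Agent.Solv.sup_pResidual_eq_top]; trivial
      have h2 : ((TK : Subgroup K) ⊔ Cfsg.pResidual p K).map K.subtype ≤ C ⊔ T₀ := by
        rw [Subgroup.map_sup, hTKmap]
        refine sup_le le_sup_right (le_sup_of_le_left ?_)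
        rw [Subgroup.map_le_iff_le_comap, Cfsg.pResidual, Subgroup.closure_le]
        intro k hk
        obtain ⟨hk1, hk2⟩ := k.2
        have hco : (orderOf ((k : N) : G)).Coprime p := by
          rw [Subgroup.orderOf_coe, Subgroup.orderOf_coe]; exact hk
        refine Cfsg.Agent.Local.CharPB.centralizes_of_iterCommutator (S.isPGroup'.to_le hRS) hco
          (Subgroup.zpowers_le.2 (k : N).2) (n := 2) (le_bot_iff.1 ?_)
        show ⁅⁅R, Subgroup.zpowers ((k : N) : G)⁆, Subgroup.zpowers ((k : N) : G)⁆ ≤ ⊥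
        have hpow : ∀ m : ℤ, (k : N) ^ m ∈ K := fun m => zpow_mem k.2 m
        have h3 : ⁅R, Subgroup.zpowers ((k : N) : G)⁆ ≤ A ⊓ R := by
          refine le_inf ?_ (Subgroup.le_normalizer_iff_commutator_le_left.1 (Subgroup.zpowers_le.2 (k : N).2))
          rw [Subgroup.commutator_le]
          rintro r hr _ ⟨m, rfl⟩
          have h4 := inv_mem ((hpow m).1 r hr)
          show r * ((k : N) : G) ^ m * r⁻¹ * (((k : N) : G) ^ m)⁻¹ ∈ A
          rw [← Subgroup.coe_zpow]
          convert h4 using 1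
          group
        refine (Subgroup.commutator_mono h3 le_rfl).trans ?_
        rw [le_bot_iff, Subgroup.commutator_comm, Subgroup.commutator_eq_bot_iff_le_centralizer,
          Subgroup.zpowers_le, Subgroup.mem_centralizer_iff]
        intro z hz
        exact (mul_inv_eq_iff_eq_mul.1 (hk2 z (Subgroup.mem_inf.1 hz).1 (Subgroup.mem_inf.1 hz).2)).symm
      exact h2 ⟨_, h1, rfl⟩
    have htop : C ⊔ Subgroup.normalizer (T₀ : Set N) = ⊤ := by
      rw [eq_top_iff, ← Sylow.normalizer_sup_eq_top TK, hTKmap]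
      exact sup_le le_sup_right (hKC.trans (sup_le_sup_left Subgroup.le_normalizer _))
    obtain ⟨c, hc, n, hn, hcn⟩ :=
      Subgroup.mem_sup_of_normal_left.1 (htop ▸ Subgroup.mem_top (⟨n₀, hn₀N⟩ : N) :
        (⟨n₀, hn₀N⟩ : N) ∈ C ⊔ Subgroup.normalizer (T₀ : Set N))
    have hsame : ∀ r ∈ R, (n : G) * r * (n : G)⁻¹ = n₀ * r * n₀⁻¹ := by
      intro r hr
      have e : n₀ = (c : G) * n := (congrArg Subtype.val hcn).symm
      have h1 := Subgroup.mem_centralizer_iff.1 (Subgroup.mem_subgroupOf.1 hc) _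
        ((Subgroup.mem_normalizer_iff.1 n.2 r).1 hr)
      rw [e]
      calc (n : G) * r * (n : G)⁻¹ = ((n : G) * r * (n : G)⁻¹ * (c : G)) * (c : G)⁻¹ := by group
        _ = ((c : G) * ((n : G) * r * (n : G)⁻¹)) * (c : G)⁻¹ := by rw [h1]
        _ = _ := by group
    have hA₁ : ∀ a ∈ A, a ∈ N → (n : G) * a * (n : G)⁻¹ ∈ A := by
      intro a ha haN
      refine hcl a ha _ ?_
      have h1 : (⟨a, haN⟩ : N) ∈ T₀ := by
        refine Subgroup.mem_inf.2 ⟨hAS ha, fun r hr => ?_, fun z hz _ => ?_⟩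
        · show a * r * a⁻¹ * r⁻¹ ∈ A
          rw [show a * r * a⁻¹ * r⁻¹ = a * (r * a⁻¹ * r⁻¹) by group]
          exact mul_mem ha (hAn r (hRS hr) _ (inv_mem ha))
        · show a * z * a⁻¹ = z
          rw [show a * z = z * a from congrArg Subtype.val (hA.is_comm.comm ⟨a, ha⟩ ⟨z, hz⟩), mul_inv_cancel_right]
      exact (Subgroup.mem_inf.1 ((Subgroup.mem_normalizer_iff.1 hn _).1 h1)).1
    by_cases hAR : A ⊓ N ≤ R
    · have hAle : A ≤ R := by
        by_contra hne
        set U := R ⊔ A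
        have hUS : U ≤ (S : Subgroup G) := sup_le hRS hAS
        haveI : Group.IsNilpotent U := (S.isPGroup'.to_le hUS).isNilpotent
        have hlt : R.subgroupOf U < ⊤ := lt_top_iff_ne_top.2 fun e =>
          hne (le_sup_right.trans (Subgroup.subgroupOf_eq_top.1 e))
        obtain ⟨u, hu1, hu2⟩ := SetLike.exists_of_lt (Group.normalizerCondition_of_isNilpotent (G := U) _ hlt)
        rw [← Subgroup.subgroupOf_normalizer_eq (le_sup_left : R ≤ U)] at hu1
        have hu' : (u : G) ∈ (R : Set G) * (A : Set G) := by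
          rw [← Subgroup.coe_mul_of_left_le_normalizer_right R A (fun r hr => hnormA r (hAn r (hRS hr)))]
          exact u.2
        obtain ⟨r, hr, a, ha, hra⟩ := hu'
        have haN : a ∈ N := by
          have := mul_mem (inv_mem (Subgroup.le_normalizer hr : r ∈ Subgroup.normalizer (R : Set G)))
            (show (u : G) ∈ Subgroup.normalizer (R : Set G) from hu1)
          rwa [← hra, inv_mul_cancel_left] at this
        refine hu2 (Subgroup.mem_subgroupOf.2 ?_)
        rw [← hra]
        exact mul_mem hr (hAR (Subgroup.mem_inf.2 ⟨ha, haN⟩))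
      exact ⟨(n : G), hnormA _ fun a ha => hA₁ a ha (Subgroup.le_normalizer (hAle ha)), hsame⟩
    · set U := R ⊔ (A ⊓ N)
      have hUS : U ≤ (S : Subgroup G) := sup_le hRS (inf_le_left.trans hAS)
      have hcard : Nat.card Q < Nat.card U := by
        rw [← hcardR]
        have h1 := Set.ncard_lt_ncard (SetLike.coe_ssubset_coe.2
          (lt_of_le_of_ne (le_sup_left : R ≤ U) fun e => hAR (e.symm ▸ le_sup_right))) (Set.toFinite _)
        rwa [← Nat.card_coe_set_eq, ← Nat.card_coe_set_eq] at h1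
      have hUle : U ≤ (S : Subgroup G).comap (MulAut.conj (n : G)).toMonoidHom := sup_le
        (fun r hr => hRS ((Subgroup.mem_normalizer_iff.1 n.2 r).1 hr))
        (fun a ha => hAS (hA₁ a (Subgroup.mem_inf.1 ha).1 (Subgroup.mem_inf.1 ha).2))
      obtain ⟨a, ha, haq⟩ := hih U hcard hUS (n : G) fun q hq => hUle hq
      exact ⟨a, ha, fun r hr => (haq r (Subgroup.mem_sup_left hr)).trans (hsame r hr)⟩
  obtain ⟨a, ha, haq⟩ := main (Subgroup.closure X) ((Subgroup.closure_le _).2 hX) g fun q hq =>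
    ((Subgroup.closure_le ((S : Subgroup G).comap (MulAut.conj g).toMonoidHom)).2
      fun x hx => hg ⟨x, hx, rfl⟩) hq
  exact ⟨a, ha, fun x hx => (haq x (Subgroup.subset_closure hx)).symm⟩

end Cfsg.Agent.S2791
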