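import Cfsg.Statements.S2794
import Cfsg.Agent.Lib.Solv.QdFusion

set_option autoImplicit false
open scoped Pointwise
open Cfsg

namespace Cfsg.Agent.S2794

/-- For an odd prime p and a finite group G, the group Qd(p) is not involved in G if and only if in every section K/R of G, for every Sylow p-subgroup S* of K/R, the centre of J(S*) (J generated by the abelian subgroups of largest order) controls strong fusion in K/R. -/
theorem result {G : Type*} [Group G] [Finite G] {p : ℕ} [Fact p.Prime] (hp : p ≠ 2) : ¬ Cfsg.Involves ↥(Cfsg.qd p) G ↔ ∀ (K R : Subgroup G) [hR : (R.subgroupOf K).Normal], ∀ T : Sylow p (K ⧸ R.subgroupOf K), Cfsg.ControlsStrongFusion p (Cfsg.centerThompsonAOf (T : Subgroup (K ⧸ R.subgroupOf K))) := by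
  constructor
  · intro h K R hR T
    haveI := hR
    exact Solv.Quad.controlsStrongFusion_zj_of_qdFree hp (fun h' => h (Solv.Quad.involves_of_section h')) T
  · rintro h ⟨K, R, hR, ⟨e⟩⟩
    haveI := hR
    obtain ⟨T, hT⟩ := Solv.Quad.exists_sylow_not_controls (p := p)
    apply hT
    have h1 := Solv.Quad.controlsStrongFusion_map e (h K R (T.mapSurjective (f := e.symm.toMonoidHom) e.symm.surjective))
    rw [← Solv.ZJ.zj_zero, ← Solv.ZJ.zj_map (e := 0) e.toMonoidHom e.injective] at h1
    change ControlsStrongFusion p (Solv.ZJ.zj 0 (((T : Subgroup (qd p)).map e.symm.toMonoidHom).map e.toMonoidHom)) at h1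
    rwa [Subgroup.map_map, show e.toMonoidHom.comp e.symm.toMonoidHom = MonoidHom.id _ from MonoidHom.ext (fun x => e.apply_symm_apply x),
      Subgroup.map_id, Solv.ZJ.zj_zero] at h1

end Cfsg.Agent.S2794
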