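import Cfsg.Statements.S2799
import Cfsg.Agent.Lib.Solv.JWeakClosure
import Cfsg.Agent.S1974
import Cfsg.Agent.S1973

set_option autoImplicit false
open scoped Pointwise
open Cfsg

namespace Cfsg.Agent.S2799

/-- Let S be a Sylow p-subgroup of the finite group G, J(S) the subgroup generated by the abelian subgroups of S of largest order, and x an element of S lying in the centre of N_G(J(S)). Assume that p is odd, or that x is a p-th power of an element of Z(S), or that the symmetric group of degree 4 is not involved in G. Then x is weakly closed in S with respect to G: every G-conjugate of x that lies in S equals x. -/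
theorem result {G : Type*} [Group G] [Finite G] {p : ℕ} [Fact p.Prime] (S : Sylow p G) (x : G) (hxS : x ∈ (S : Subgroup G)) (hxZ : x ∈ (Subgroup.center ↥(Subgroup.normalizer ((Cfsg.thompsonSubgroupAOf (S : Subgroup G)) : Set G))).map (Subgroup.normalizer ((Cfsg.thompsonSubgroupAOf (S : Subgroup G)) : Set G)).subtype) (h : p ≠ 2 ∨ (∃ z ∈ (S : Subgroup G) ⊓ Subgroup.centralizer ((S : Subgroup G) : Set G), z ^ p = x) ∨ ¬ Cfsg.Involves (Equiv.Perm (Fin 4)) G) : ∀ g : G, g * x * g⁻¹ ∈ (S : Subgroup G) → g * x * g⁻¹ = x := by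
  classical
  obtain ⟨y, hy, hyx⟩ := hxZ
  have hW : Cfsg.IsConjugacyFunctor (G := G) p Cfsg.thompsonSubgroupAOf := Cfsg.Agent.Solv.JWC.isConjugacyFunctor_thompsonAOf
  have hWZ : ∀ P : Subgroup G, IsPGroup p ↥P → P ⊓ Subgroup.centralizer (P : Set G) ≤ Cfsg.thompsonSubgroupAOf P := fun P _ => Cfsg.Agent.Solv.JWC.center_le_thompsonAOf P
  set N := Subgroup.normalizer ((Cfsg.thompsonSubgroupAOf (S : Subgroup G)) : Set G) with hN
  have hcen : ∀ n ∈ N, n * x * n⁻¹ = x := fun n hn => by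
    have h1 := congrArg Subtype.val (Subgroup.mem_center_iff.mp hy ⟨n, hn⟩)
    rw [← hyx]
    exact mul_inv_eq_iff_eq_mul.mpr h1
  have hSN : (S : Subgroup G) ≤ N := fun s hs => Cfsg.Agent.Local.FusionRed.normalizer_le_normalizer_functor hW S.isPGroup' (Subgroup.le_normalizer hs)
  have hloc : ∀ (H T : Subgroup G), T ≤ H → IsPGroup p ↥T → ¬ p ∣ T.relIndex H → ¬ H ≤ Subgroup.normalizer ((Cfsg.thompsonSubgroupAOf T : Subgroup G) : Set G) → ∃ g : G, g ∈ T ∧ g ∉ Cfsg.pCoreOf p H ∧ ⁅⁅Cfsg.pCoreOf p H ⊓ Subgroup.centralizer ((Cfsg.pCoreOf p H : Subgroup G) : Set G), Subgroup.zpowers g⁆, Subgroup.zpowers g⁆ = ⊥ :=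
    fun H T h1 h2 h3 h4 => Cfsg.Agent.Solv.JWC.exists_quadratic h1 h2 h3 h4
  have hSidx : ¬ p ∣ (S : Subgroup G).relIndex ⊤ := by rw [Subgroup.relIndex_top_right]; exact S.not_dvd_index
  intro g hg
  by_cases hp2 : p = 2
  swap
  · have hloc' : ∀ (H T : Subgroup G), T ≤ H → IsPGroup p ↥T → ¬ p ∣ T.relIndex H → ¬ H ≤ Subgroup.normalizer ((Cfsg.thompsonSubgroupAOf T : Subgroup G) : Set G) → ∃ g : G, g ∈ T ∧ g ∉ Cfsg.pCoreOf p H ∧ ∀ U V : Subgroup ↥H, Cfsg.IsChiefFactor U V → U.map H.subtype ≤ Cfsg.pCoreOf p H ⊓ Subgroup.centralizer ((Cfsg.pCoreOf p H : Subgroup G) : Set G) → Cfsg.iterCommutator (U.map H.subtype) (Subgroup.zpowers g) (p - 1) ≤ V.map H.subtype := by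
      intro H T h1 h2 h3 h4
      obtain ⟨u, huT, huQ, hq⟩ := hloc H T h1 h2 h3 h4
      refine ⟨u, huT, huQ, fun U V _ hU => ?_⟩
      have h2' : ∀ j, Cfsg.iterCommutator (U.map H.subtype) (Subgroup.zpowers u) (j + 2) = ⊥ := by
        intro j
        induction j with
        | zero =>
          rw [Cfsg.iterCommutator, Cfsg.iterCommutator, Cfsg.iterCommutator]
          exact le_bot_iff.mp ((Subgroup.commutator_mono (Subgroup.commutator_mono hU le_rfl) le_rfl).trans hq.le)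
        | succ j ih =>
          rw [Nat.add_right_comm, Cfsg.iterCommutator, ih, Subgroup.commutator_bot_left]
      have hp3 : 3 ≤ p := by
        have := (Fact.out : p.Prime).two_le
        omega
      obtain ⟨j, hj⟩ := Nat.exists_eq_add_of_le hp3
      rw [show p - 1 = j + 2 by omega, h2' j]
      exact bot_le
    obtain ⟨-, T, -, hTp, hTidx, hT⟩ := Cfsg.Agent.S1973.result Cfsg.thompsonSubgroupAOf hW hWZ hloc' ⊤
    rw [Subgroup.relIndex_top_right] at hTidx
    obtain ⟨c, hc⟩ := MulAction.exists_smul_eq G (hTp.toSylow hTidx) S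
    have hST : T.map (MulAut.conj c).toMonoidHom = (S : Subgroup G) := by rw [← hc]; rfl
    have hmem : ∀ a ∈ (S : Subgroup G), c⁻¹ * a * c ∈ T := fun a ha => by
      rw [← hST] at ha
      obtain ⟨t, ht, rfl⟩ := ha
      simpa [mul_assoc] using ht
    have h1 := hT (c⁻¹ * x * c) ⟨hmem x hxS, ?_⟩ (c⁻¹ * g * c) (Subgroup.mem_top _) ?_
    · calc g * x * g⁻¹ = c * (c⁻¹ * g * c * (c⁻¹ * x * c) * (c⁻¹ * g * c)⁻¹) * c⁻¹ := by group
        _ = x := by rw [h1]; group
    · refine Subgroup.mem_centralizer_iff.mpr fun n hn => ?_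
      have hn' : c * n * c⁻¹ ∈ N := by
        rw [hN, ← hST, (hW T hTp).2.2 c]
        exact Subgroup.le_normalizer_map _ ⟨n, hn.2, rfl⟩
      refine mul_inv_eq_iff_eq_mul.mp ?_
      calc n * (c⁻¹ * x * c) * n⁻¹ = c⁻¹ * ((c * n * c⁻¹) * x * (c * n * c⁻¹)⁻¹) * c := by group
        _ = _ := by rw [hcen _ hn']
    · have := hmem _ hg
      simpa [mul_assoc] using this
  subst hp2
  rcases h with hp | ⟨z, hz, hzx⟩ | hfree
  · exact absurd rfl hp
  · refine (Cfsg.Agent.S1974.result S _ hW hWZ hloc (Subgroup.closure ((fun z : G => z ^ 2) '' (((S : Subgroup G) ⊓ Subgroup.centralizer (((S : Subgroup G) : Subgroup G) : Set G) : Subgroup G) : Set G))) rfl).1 x ⟨?_, ?_⟩ g hg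
    · exact Subgroup.subset_closure ⟨z, hz, hzx⟩
    · exact Subgroup.mem_centralizer_iff.mpr fun n hn => mul_inv_eq_iff_eq_mul.mp (hcen n hn)
  · refine Cfsg.Agent.Local.WeakClosure.weaklyClosed_of_core _ hW hWZ (fun _ => True) ?_ ⊤ (S : Subgroup G) le_top S.isPGroup' hSidx x hxS trivial (fun n hn => hcen n hn.2) g (Subgroup.mem_top g) hg
    intro H T hTH hTp hidx x hxT _ hx hxQ hover h hh
    by_cases hn : H ≤ Subgroup.normalizer ((Cfsg.thompsonSubgroupAOf T : Subgroup G) : Set G)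
    · exact hx h ⟨hh, hn hh⟩
    let R : Sylow 2 H := (hTp.comap_subtype).toSylow hidx
    obtain ⟨A, hA, hAQ⟩ := Cfsg.Agent.Solv.JWC.exists_outside hTH hTp hidx hn
    have hfree' : ¬ Cfsg.Involves (Equiv.Perm (Fin 4)) ↥H := fun h => hfree (Cfsg.Agent.Local.involves_of_injective H.subtype H.subtype_injective h)
    have hAH : A ≤ H := hA.1.trans hTH
    have hAfam : A.subgroupOf H ∈ Cfsg.Agent.Solv.ZJ.fam 0 (R : Subgroup H) := by
      refine ⟨Subgroup.comap_mono hA.1, ⟨?_, fun a _ => pow_zero a⟩, fun B hB hBa => ?_⟩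
      · haveI := hA.2.1.1; exact Subgroup.subgroupOf_isMulCommutative _ _
      · rw [Cfsg.Agent.Solv.card_subgroupOf hAH, ← Subgroup.card_map_of_injective H.subtype_injective]
        haveI := hBa.1
        exact hA.2.2 _ (by rintro _ ⟨b, hb, rfl⟩; exact hB hb) ⟨Subgroup.map_isMulCommutative _ _, fun a _ => pow_zero a⟩
    obtain ⟨k, hk⟩ := hTp ⟨x, hxT⟩
    obtain ⟨q, hq, hqx⟩ := hxQ
    have hqe : q = ⟨x, hTH hxT⟩ := Subtype.ext hqx
    subst hqe
    have key := Cfsg.Agent.Solv.JWC.fixed_of_free hfree' R ⟨_, hAfam, fun h => hAQ fun a ha => ⟨⟨a, hAH ha⟩, h (show (⟨a, hAH ha⟩ : H) ∈ A.subgroupOf H from ha), rfl⟩⟩ k ⟨x, hTH hxT⟩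
      (Subtype.ext (by simpa using congrArg Subtype.val hk)) hq (Subgroup.mem_centralizer_iff.mpr fun w hw => Subtype.ext ?_) (fun K hK hKne w hw => Subtype.ext ?_) ⟨h, hh⟩
    · exact congrArg Subtype.val key
    · have hwT : (w : G) ∈ T := Cfsg.Agent.Solv.pCore_le_sylow R hw
      exact mul_inv_eq_iff_eq_mul.mp (hx (w : G) ⟨w.2, Cfsg.Agent.Local.FusionRed.normalizer_le_normalizer_functor hW hTp (Subgroup.le_normalizer hwT)⟩)
    · refine hover (K.map H.subtype) ?_ ?_ _ ⟨w, hw, rfl⟩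
      · intro t ht
        exact ⟨⟨t, hTH ht⟩, hK ht, rfl⟩
      · refine lt_of_le_of_ne (Subgroup.map_subtype_le _) fun e => hKne ?_
        apply Subgroup.map_injective H.subtype_injective
        rw [e, ← MonoidHom.range_eq_map, Subgroup.range_subtype]

end Cfsg.Agent.S2799
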