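import Cfsg.Statements.S2801
import Cfsg.Agent.Lib.Solv.Thompson
-- import your own Cfsg.Agent.* helpers here

set_option autoImplicit false
open Cfsg

namespace Cfsg.Agent.S2801

/-- Let L be a finite group and p a prime with C_L(O_p(L)) ≤ O_p(L). Then L has a unique largest p-reduced normal subgroup: some normal elementary abelian p-subgroup Y with O_p(L/C_L(Y)) = 1 contains every other such subgroup. -/
theorem result {L : Type*} [Group L] [Finite L] {p : ℕ} [Fact p.Prime] (hchar : Subgroup.centralizer (Cfsg.pCore p L : Set L) ≤ Cfsg.pCore p L) : ∃ Y : Subgroup L, (Cfsg.IsPReducedNormal p Y ∧ ∀ V : Subgroup L, Cfsg.IsPReducedNormal p V → V ≤ Y) := by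
  classical
  set S : Set (Subgroup L) := {V | IsPReducedNormal p V}
  set Y := sSup S with hY
  have hp' := Solv.isPGroup_pCore p L
  have hcore : ∀ V ∈ S, pCore p L ≤ Subgroup.centralizer (V : Set L) := by
    rintro V ⟨hn, he, hc, hq⟩
    haveI := hc
    have h1 : (pCore p L).map (QuotientGroup.mk' _) ≤ pCore p (L ⧸ Subgroup.centralizer (V : Set L)) :=
      Solv.map_pCore_le_of_surjective p _ (QuotientGroup.mk'_surjective _)
    rw [hq, le_bot_iff, Subgroup.map_eq_bot_iff, QuotientGroup.ker_mk'] at h1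
    exact h1
  have hVO : ∀ V ∈ S, V ≤ pCore p L := fun V hV => by
    haveI := hV.1
    exact Solv.le_pCore (Solv.isPGroup_of_elemAbelian hV.2.1)
  have hYe : IsElementaryAbelian p Y := by
    have hgen : Y = Subgroup.closure (⋃ V ∈ S, (V : Set L)) := by
      rw [hY]
      exact le_antisymm (sSup_le fun V hV x hx => Subgroup.subset_closure (Set.mem_biUnion hV hx))
        ((Subgroup.closure_le _).2 (Set.iUnion₂_subset fun V hV => SetLike.coe_subset_coe.2 (le_sSup hV)))
    have hcomm : ∀ a ∈ ⋃ V ∈ S, (V : Set L), ∀ b ∈ ⋃ V ∈ S, (V : Set L), a * b = b * a := by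
      intro a ha b hb
      simp only [Set.mem_iUnion] at ha hb
      obtain ⟨V, hV, ha⟩ := ha
      obtain ⟨W, hW, hb⟩ := hb
      exact (Subgroup.mem_centralizer_iff.1 (hcore V hV (hVO W hW hb)) a ha)
    have hc : IsMulCommutative (Subgroup.closure (⋃ V ∈ S, (V : Set L))) :=
      Subgroup.isMulCommutative_closure hcomm
    rw [hgen]
    refine ⟨hc, fun a ha => ?_⟩
    induction ha using Subgroup.closure_induction with
    | mem a ha =>
      simp only [Set.mem_iUnion] at ha
      obtain ⟨V, hV, ha⟩ := ha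
      exact hV.2.1.2 a ha
    | one => exact one_pow p
    | mul a b ha hb iha ihb =>
      have : Commute a b := congrArg Subtype.val (hc.is_comm.comm ⟨a, ha⟩ ⟨b, hb⟩)
      rw [this.mul_pow, iha, ihb, one_mul]
    | inv a _ iha => rw [inv_pow, iha, inv_one]
  haveI hYn : Y.Normal := by
    refine ⟨fun a ha g => ?_⟩
    have h1 : Y.map (MulAut.conj g).toMonoidHom ≤ Y := by
      rw [Subgroup.map_le_iff_le_comap]
      exact sSup_le fun V hV x hx => (le_sSup hV : V ≤ Y) (hV.1.conj_mem x hx g)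
    exact h1 ⟨a, ha, rfl⟩
  haveI hCn : (Subgroup.centralizer (Y : Set L)).Normal := Subgroup.normal_centralizer
  refine ⟨Y, ⟨hYn, hYe, hCn, ?_⟩, fun V hV => le_sSup hV⟩
  set C := Subgroup.centralizer (Y : Set L)
  rw [eq_bot_iff]
  intro q hq
  obtain ⟨l, rfl⟩ := QuotientGroup.mk'_surjective C q
  refine (QuotientGroup.eq_one_iff l).2 (Subgroup.le_centralizer_iff.1 (sSup_le fun V hV => ?_) (Subgroup.mem_zpowers l))
  obtain ⟨hn, he, hc, hq'⟩ := hV
  haveI := hc
  rw [Subgroup.le_centralizer_iff, Subgroup.zpowers_le]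
  have hle : C ≤ (QuotientGroup.mk' (Subgroup.centralizer (V : Set L))).ker := by
    rw [QuotientGroup.ker_mk']
    exact Subgroup.centralizer_le (SetLike.coe_subset_coe.2 (le_sSup ⟨hn, he, hc, hq'⟩))
  have h2 := Solv.map_pCore_le_of_surjective p (QuotientGroup.lift C _ hle) (fun z => by
    obtain ⟨w, rfl⟩ := QuotientGroup.mk'_surjective _ z
    exact ⟨QuotientGroup.mk' C w, rfl⟩)
  have h3 := h2 ⟨_, hq, rfl⟩
  rw [hq'] at h3
  exact (QuotientGroup.eq_one_iff l).1 h3

end Cfsg.Agent.S2801
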