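import Cfsg.Statements.S2802
import Cfsg.Agent.Lib.Local.PReduced
import Cfsg.Agent.Lib.Local.ParabolicTransfer
-- import your own Cfsg.Agent.* helpers here

set_option autoImplicit false
open Cfsg

namespace Cfsg.Agent.S2802

/-- Let L be a finite group and p a prime with C_L(O_p(L)) ≤ O_p(L), T a Sylow p-subgroup of L and R a subgroup with T ≤ R. If X is a p-reduced normal subgroup of R (normal in R, elementary abelian, O_p(R/C_R(X)) = 1), then the normal closure of X in L is a p-reduced normal subgroup of L. -/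
theorem result {L : Type*} [Group L] [Finite L] {p : ℕ} [Fact p.Prime] (hchar : Subgroup.centralizer (Cfsg.pCore p L : Set L) ≤ Cfsg.pCore p L) (T : Sylow p L) (R : Subgroup L) (hTR : (T : Subgroup L) ≤ R) (X : Subgroup ↥R) (hX : Cfsg.IsPReducedNormal p X) : Cfsg.IsPReducedNormal p (Subgroup.normalClosure ((X.map R.subtype : Subgroup L) : Set L)) := by
  obtain ⟨hXn, ⟨hXc, hXp⟩, hCn, hq⟩ := hX
  haveI := hXn
  haveI := hCn
  have hX' : Cfsg.IsPReducedNormal p X := ⟨hXn, ⟨hXc, hXp⟩, hCn, hq⟩
  haveI : (Cfsg.pCore p R).Normal := by haveI := Cfsg.Agent.Solv.pCore_characteristic p R; infer_instance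
  haveI : (Cfsg.pCore p L).Normal := by haveI := Cfsg.Agent.Solv.pCore_characteristic p L; infer_instance
  have hRX : Cfsg.pCore p R ≤ Subgroup.centralizer (X : Set R) :=
    Cfsg.Agent.Local.PReduced.le_centralizer_of_subnormal hX' (Subgroup.Normal.isSubnormal inferInstance)
      fun x hx hco => by
        obtain ⟨k, hk⟩ := IsPGroup.iff_card.1 (Cfsg.Agent.Solv.isPGroup_pCore p R)
        rw [orderOf_eq_one_iff.1 (Nat.eq_one_of_dvd_coprimes (hco.pow_right k) dvd_rfl
          (hk ▸ Subgroup.orderOf_dvd_natCard _ hx))]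
        exact one_mem _
  have hQR : Cfsg.pCore p L ≤ R := (Cfsg.Agent.Solv.pCore_le_sylow T).trans hTR
  haveI : ((Cfsg.pCore p L).subgroupOf R).Normal := Subgroup.Normal.comap inferInstance _
  have hQR' : (Cfsg.pCore p L).subgroupOf R ≤ Cfsg.pCore p R :=
    Cfsg.Agent.Solv.le_pCore ((Cfsg.Agent.Solv.isPGroup_pCore p L).comap_of_injective _ R.subtype_injective)
  set X' := X.map R.subtype with hX'def
  have hXQ : X' ≤ Subgroup.centralizer (Cfsg.pCore p L : Set L) := by
    rintro _ ⟨x, hx, rfl⟩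
    exact Subgroup.mem_centralizer_iff.2 fun q hq => congrArg Subtype.val
      ((Subgroup.mem_centralizer_iff.1 (hRX (hQR' (show (⟨q, hQR hq⟩ : R) ∈ (Cfsg.pCore p L).subgroupOf R from hq))) x hx).symm)
  haveI : (Subgroup.centralizer (Cfsg.pCore p L : Set L)).Normal := Subgroup.normal_centralizer
  set Y := Subgroup.normalClosure (X' : Set L) with hY
  haveI hYn : Y.Normal := Subgroup.normalClosure_normal
  have hYC : Y ≤ Subgroup.centralizer (Cfsg.pCore p L : Set L) := Subgroup.normalClosure_le_normal hXQ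
  have hYab : IsMulCommutative Y := ⟨⟨fun a b => Subtype.ext
    (Subgroup.mem_centralizer_iff.1 (hYC b.2) a (hchar (hYC a.2)))⟩⟩
  have hYp : ∀ a ∈ Y, a ^ p = 1 := by
    intro a ha
    induction ha using Subgroup.closure_induction with
    | mem x hx =>
      obtain ⟨y, hy, hyx⟩ := Group.mem_conjugatesOfSet_iff.1 hx
      obtain ⟨c, rfl⟩ := isConj_iff.1 hyx
      obtain ⟨z, hz, rfl⟩ := hy
      rw [conj_pow]
      show c * ((z ^ p : R) : L) * c⁻¹ = 1
      rw [hXp z hz]; simp
    | one => exact one_pow p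
    | mul a b ha hb iha ihb =>
      have : Commute a b := congrArg Subtype.val (hYab.is_comm.comm ⟨a, ha⟩ ⟨b, hb⟩)
      rw [this.mul_pow, iha, ihb, one_mul]
    | inv a _ iha => rw [inv_pow, iha, inv_one]
  refine Cfsg.Agent.Local.PReduced.isPReducedNormal_of_forall hYn ⟨hYab, hYp⟩ fun N hN hNp => ?_
  haveI := hN
  have h1 : N.subgroupOf R ≤ Subgroup.centralizer (X : Set R) :=
    Cfsg.Agent.Local.PReduced.le_centralizer_of_subnormal hX'
      ((Subgroup.Normal.comap hN R.subtype).isSubnormal) fun x hx hco =>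
        Subgroup.mem_centralizer_iff.2 fun y hy => Subtype.ext (Subgroup.mem_centralizer_iff.1
          (hNp _ hx (by rw [Subgroup.coe_subtype, Subgroup.orderOf_coe]; exact hco)) _
          (Subgroup.subset_normalClosure (Subgroup.mem_map_of_mem R.subtype hy)))
  have h2 : N ≤ Subgroup.centralizer (X' : Set L) := by
    have hTX : (T : Subgroup L) ⊓ N ≤ Subgroup.centralizer (X' : Set L) := by
      intro t ht
      obtain ⟨htT, htN⟩ := Subgroup.mem_inf.1 ht
      refine Subgroup.mem_centralizer_iff.2 ?_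
      rintro _ ⟨y, hy, rfl⟩
      exact congrArg Subtype.val (Subgroup.mem_centralizer_iff.1 (h1 (show (⟨t, hTR htT⟩ : R) ∈ N.subgroupOf R from htN)) y hy)
    let TN : Sylow p N := (T.isPGroup'.comap_of_injective N.subtype N.subtype_injective).toSylow
      (Cfsg.Agent.Solv.index_sylow_inf_subnormal N (Subgroup.Normal.isSubnormal inferInstance) T)
    intro x hx
    have h3 : (⟨x, hx⟩ : N) ∈ (TN : Subgroup N) ⊔ Cfsg.pResidual p N := by
      rw [Cfsg.Agent.Solv.sup_pResidual_eq_top]; trivial
    have h4 : ((TN : Subgroup N) ⊔ Cfsg.pResidual p N).map N.subtype ≤ Subgroup.centralizer (X' : Set L) := by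
      rw [Subgroup.map_sup]
      refine sup_le ?_ ?_
      · rintro _ ⟨y, hy, rfl⟩
        exact hTX (Subgroup.mem_inf.2 ⟨hy, y.2⟩)
      · rw [Subgroup.map_le_iff_le_comap, Cfsg.pResidual, Subgroup.closure_le]
        intro g hg
        exact Subgroup.centralizer_le (fun y hy => Subgroup.subset_normalClosure hy)
          (hNp _ g.2 (by rw [Subgroup.coe_subtype, Subgroup.orderOf_coe]; exact hg))
    exact h4 ⟨_, h3, rfl⟩
  haveI : (Subgroup.centralizer (N : Set L)).Normal := Subgroup.normal_centralizer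
  exact Subgroup.le_centralizer_iff.1 (Subgroup.normalClosure_le_normal (Subgroup.le_centralizer_iff.1 h2))

end Cfsg.Agent.S2802
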