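import Cfsg.Statements.S2803
import Cfsg.Agent.Lib.Local.SylowCenter
-- import your own Cfsg.Agent.* helpers here

set_option autoImplicit false
open Cfsg

namespace Cfsg.Agent.S2803
open scoped Pointwise

/-- Let L be a finite group and p a prime with C_L(O_p(L)) ≤ O_p(L), T a Sylow p-subgroup, and Y the largest p-reduced normal subgroup of L. Put T_L = C_T(Y) and L_T = N_L(T_L). Then L = L_T · C_L(Y) (elementwise), T_L = O_p(L_T), and Y = Ω₁(Z(T_L)). -/
theorem result {L : Type*} [Group L] [Finite L] {p : ℕ} [Fact p.Prime] (hchar : Subgroup.centralizer (Cfsg.pCore p L : Set L) ≤ Cfsg.pCore p L) (T : Sylow p L) (Y : Subgroup L) (hY : (Cfsg.IsPReducedNormal p Y ∧ ∀ V : Subgroup L, Cfsg.IsPReducedNormal p V → V ≤ Y)) (TL : Subgroup L) (hTL : TL = (T : Subgroup L) ⊓ Subgroup.centralizer (Y : Set L)) : (∀ g : L, ∃ a ∈ Subgroup.normalizer (TL : Set L), ∃ c ∈ Subgroup.centralizer (Y : Set L), g = a * c) ∧ (Cfsg.pCore p ↥(Subgroup.normalizer (TL : Set L))).map (Subgroup.normalizer (TL : Set L)).subtype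 = TL ∧ Y = Cfsg.omegaOne p (TL ⊓ Subgroup.centralizer (TL : Set L)) := by
  obtain ⟨⟨hYn, hYe, hCn, hCq⟩, hmax⟩ := hY
  haveI := hYn
  haveI := hCn
  have hYred : Cfsg.IsPReducedNormal p Y := ⟨hYn, hYe, hCn, hCq⟩
  set C := Subgroup.centralizer (Y : Set L) with hC
  set T' : Subgroup L := (T : Subgroup L) with hT'
  subst hTL
  set TL := T' ⊓ C with hTLdef
  have hTLp : IsPGroup p TL := T.isPGroup'.to_le inf_le_left
  let P : Sylow p C := (hTLp.comap_subtype (K := C)).toSylow (by
    show ¬ p ∣ TL.relIndex C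
    rw [hTLdef, Subgroup.inf_relIndex_right]
    exact Local.SylowCenter.not_dvd_relIndex_normal T C)
  have hP : ((P : Subgroup C)).map C.subtype = TL := by
    show (TL.comap C.subtype).map C.subtype = TL
    exact Subgroup.map_subgroupOf_eq_of_le inf_le_right
  set N := Subgroup.normalizer (TL : Set L) with hN
  have hfr : N ⊔ C = ⊤ := by
    have h := Sylow.normalizer_sup_eq_top P
    rwa [hP] at h
  refine ⟨fun g => ?_, ?_, ?_⟩
  · have hg : g ∈ ((N ⊔ C : Subgroup L) : Set L) := by rw [hfr]; trivial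
    rw [Subgroup.mul_normal] at hg
    obtain ⟨a, ha, c, hc, rfl⟩ := Set.mem_mul.1 hg
    exact ⟨a, ha, c, hc, rfl⟩
  · haveI : (TL.subgroupOf N).Normal := Subgroup.normal_in_normalizer
    refine le_antisymm ?_ fun x hx => ⟨⟨x, Subgroup.le_normalizer hx⟩,
      Solv.le_pCore (N := TL.subgroupOf N) (hTLp.comap_subtype) hx, rfl⟩
    set O := (Cfsg.pCore p ↥N).map N.subtype with hO
    have hOp : IsPGroup p O := (Solv.isPGroup_pCore p N).map _
    set f := QuotientGroup.mk' C
    haveI hOn : (O.map f).Normal := by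
      refine ⟨fun x hx q => ?_⟩
      obtain ⟨g, rfl⟩ := QuotientGroup.mk'_surjective C q
      obtain ⟨_, ⟨y, hy, rfl⟩, rfl⟩ := hx
      have hg : g ∈ ((N ⊔ C : Subgroup L) : Set L) := by rw [hfr]; trivial
      rw [Subgroup.mul_normal] at hg
      obtain ⟨a, ha, c, hc, rfl⟩ := Set.mem_mul.1 hg
      have hc1 : f c = 1 := (QuotientGroup.eq_one_iff c).2 hc
      haveI : (Cfsg.pCore p ↥N).Normal := by
        haveI := Solv.pCore_characteristic p ↥N; infer_instance
      refine ⟨_, ⟨⟨a, ha⟩ * y * ⟨a, ha⟩⁻¹, Subgroup.Normal.conj_mem inferInstance y hy _, rfl⟩, ?_⟩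
      show f (a * (y : L) * a⁻¹) = f (a * c) * f y * (f (a * c))⁻¹
      rw [map_mul f a c, hc1, mul_one, map_mul, map_mul, map_inv]
    have h1 : O.map f ≤ Cfsg.pCore p (L ⧸ C) := Solv.le_pCore (hOp.map f)
    rw [hCq, le_bot_iff, Subgroup.map_eq_bot_iff, QuotientGroup.ker_mk'] at h1
    have h2 : TL.subgroupOf C ≤ O.subgroupOf C := fun x hx =>
      ⟨⟨x, Subgroup.le_normalizer hx⟩, Solv.le_pCore (N := TL.subgroupOf N) (hTLp.comap_subtype) hx, rfl⟩
    have h3 : O.subgroupOf C = TL.subgroupOf C := P.is_maximal' hOp.comap_subtype h2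
    intro x hx
    have h4 : (⟨x, h1 hx⟩ : C) ∈ O.subgroupOf C := hx
    rw [h3] at h4
    exact h4
  · have hOC : Cfsg.pCore p L ≤ C := Local.LargestPR.pCore_le_centralizer hYred
    have hOT : Cfsg.pCore p L ≤ T' := Solv.pCore_le_sylow T
    have hYT : Y ≤ TL := le_inf ((Local.LargestPR.le_pCore hYred).trans hOT)
      (fun y hy => Subgroup.mem_centralizer_iff.2 fun z hz =>
        (Solv.comm_of_elemAbelian hYe hz hy))
    refine le_antisymm (fun y hy => Local.SylowCenter.omega_mem (Subgroup.mem_inf.2 ⟨hYT hy,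
      Subgroup.mem_centralizer_iff.2 fun t ht => (Subgroup.mem_centralizer_iff.1 (Subgroup.mem_inf.1 ht).2 y hy).symm⟩)
        (hYe.2 y hy)) ?_
    set W := Cfsg.omegaOne p (TL ⊓ Subgroup.centralizer (TL : Set L)) with hW
    set Z := Cfsg.omegaOne p (Cfsg.pCore p L ⊓ Subgroup.centralizer (Cfsg.pCore p L : Set L)) with hZ
    haveI hZn : Z.Normal := by
      refine ⟨fun x hx g => ?_⟩
      have hle : Z ≤ Z.comap (MulAut.conj g).toMonoidHom := by
        refine (Subgroup.closure_le _).2 fun y hy => Local.SylowCenter.omega_mem ?_ ?_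
        · haveI : (Cfsg.pCore p L).Normal := by
            haveI := Solv.pCore_characteristic p L; infer_instance
          haveI : (Subgroup.centralizer (Cfsg.pCore p L : Set L)).Normal := Subgroup.normal_centralizer
          exact Subgroup.Normal.conj_mem (inferInstance : (Cfsg.pCore p L ⊓ Subgroup.centralizer (Cfsg.pCore p L : Set L)).Normal) y hy.1 g
        · show (MulAut.conj g y) ^ p = 1
          rw [← map_pow, hy.2, map_one]
      exact hle hx
    have hWZ : W ≤ Z := by
      refine (Subgroup.closure_le _).2 fun x hx => ?_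
      have hxc : x ∈ Subgroup.centralizer (Cfsg.pCore p L : Set L) :=
        Subgroup.centralizer_le (SetLike.coe_subset_coe.2 (le_inf hOT hOC)) hx.1.2
      exact Local.SylowCenter.omega_mem (Subgroup.mem_inf.2 ⟨hchar hxc, hxc⟩) hx.2
    refine (Subgroup.le_normalClosure (H := W)).trans (hmax _ ?_)
    set V := Subgroup.normalClosure (W : Set L) with hV
    have hVZ : V ≤ Z := Subgroup.normalClosure_le_normal (SetLike.coe_subset_coe.2 hWZ)
    refine Local.PReduced.isPReducedNormal_of_forall Subgroup.normalClosure_normal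
      (Solv.elemAbelian_of_le (Local.SylowCenter.omega_center_elem _) hVZ) fun K hK h => ?_
    haveI := hK
    have hKC : K ≤ C := Local.PReduced.le_centralizer_of_subnormal hYred hK.isSubnormal fun x hx hco =>
      Subgroup.centralizer_le (SetLike.coe_subset_coe.2 (fun y hy => Subgroup.le_normalClosure
        (Local.SylowCenter.omega_mem (Subgroup.mem_inf.2 ⟨hYT hy,
          Subgroup.mem_centralizer_iff.2 fun t ht => (Subgroup.mem_centralizer_iff.1 (Subgroup.mem_inf.1 ht).2 y hy).symm⟩)
          (hYe.2 y hy)))) (h x hx hco)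
    set CW := Subgroup.centralizer (W : Set L)
    have h1 : (CW.subgroupOf K).index = 1 := by
      by_contra hne
      obtain ⟨q, hq, hd⟩ := Nat.exists_prime_and_dvd hne
      haveI : Fact q.Prime := ⟨hq⟩
      by_cases hqp : q = p
      · subst hqp
        refine Local.SylowCenter.not_dvd_relIndex_normal T K
          (hd.trans (Subgroup.index_dvd_of_le fun x hx => ?_))
        rw [Subgroup.mem_subgroupOf, Subgroup.mem_centralizer_iff]
        intro w hw
        exact (Subgroup.mem_centralizer_iff.1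
          (((Local.Amalgam.omegaOne_le _).trans inf_le_right) hw) x ⟨hx, hKC x.2⟩).symm
      · obtain ⟨Q⟩ := Sylow.nonempty (p := q) (G := K)
        refine Q.not_dvd_index (hd.trans (Subgroup.index_dvd_of_le fun x hx => ?_))
        obtain ⟨k, hk⟩ := Q.isPGroup' ⟨x, hx⟩
        rw [Subgroup.mem_subgroupOf]
        refine Subgroup.centralizer_le (SetLike.coe_subset_coe.2 Subgroup.le_normalClosure) (h x x.2 ?_)
        rw [Subgroup.orderOf_coe]
        exact Nat.Coprime.coprime_dvd_left (orderOf_dvd_of_pow_eq_one (congrArg Subtype.val hk))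
          (((Nat.coprime_primes hq (Fact.out : p.Prime)).2 hqp).pow_left k)
    haveI : (Subgroup.centralizer (K : Set L)).Normal := Subgroup.normal_centralizer
    rw [Subgroup.le_centralizer_iff]
    refine Subgroup.normalClosure_le_normal (SetLike.coe_subset_coe.2 ?_)
    rw [Subgroup.le_centralizer_iff]
    intro x hx
    have h2 : (⟨x, hx⟩ : K) ∈ CW.subgroupOf K := by rw [Subgroup.index_eq_one.1 h1]; trivial
    exact h2

end Cfsg.Agent.S2803
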