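import Cfsg.Statements.S2804
import Cfsg.Agent.Lib.Local.PReduced
-- import your own Cfsg.Agent.* helpers here

set_option autoImplicit false
open Cfsg

namespace Cfsg.Agent.S2804
open scoped commutatorElement

/-- Let L be a finite group and p a prime with C_L(O_p(L)) ≤ O_p(L), V a p-reduced normal subgroup of L and K a subnormal subgroup of L. Then [V, O^p(K)] is contained in K and is a p-reduced normal subgroup of K, where O^p(K) is the subgroup of K generated by its elements of order prime to p. -/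
theorem result {L : Type*} [Group L] [Finite L] {p : ℕ} [Fact p.Prime] (hchar : Subgroup.centralizer (Cfsg.pCore p L : Set L) ≤ Cfsg.pCore p L) (V : Subgroup L) (hV : Cfsg.IsPReducedNormal p V) (K : Subgroup L) (hK : K.IsSubnormal) : ⁅V, (Cfsg.pResidual p ↥K).map K.subtype⁆ ≤ K ∧ Cfsg.IsPReducedNormal p ((⁅V, (Cfsg.pResidual p ↥K).map K.subtype⁆).subgroupOf K) := by
  obtain ⟨hVn, ⟨hVc, hVp⟩, hCn, hq⟩ := hV
  haveI := hVn
  have hV' : Cfsg.IsPReducedNormal p V := ⟨hVn, ⟨hVc, hVp⟩, hCn, hq⟩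
  have hVpg : IsPGroup p V := fun v => ⟨1, Subtype.ext (by rw [pow_one]; exact hVp v v.2)⟩
  set R := (Cfsg.pResidual p K).map K.subtype with hR
  set W := ⁅V, R⁆ with hW
  have hRK : R ≤ K := Subgroup.map_subtype_le _
  have hWV : W ≤ V := Subgroup.commutator_le_left V R
  have hgenR : ∀ x ∈ K, (orderOf x).Coprime p → x ∈ R := fun x hx hco =>
    ⟨⟨x, hx⟩, Subgroup.subset_closure (show (orderOf (⟨x, hx⟩ : K)).Coprime p by rwa [← Subgroup.orderOf_coe]), rfl⟩
  have hWR : W ≤ ⁅W, R⁆ := by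
    set W₂ := ⁅W, R⁆ with hW2
    have hW₂V : W₂ ≤ V := (Subgroup.commutator_mono hWV le_rfl).trans (Subgroup.commutator_le_left V R)
    have hRn : R ≤ Subgroup.normalizer (W₂ : Set L) :=
      Subgroup.normalizer_commutator_ge_right W R
    have key : ∀ r ∈ R, ∀ v ∈ V, v * r * v⁻¹ * r⁻¹ ∈ W₂ := by
      rintro _ ⟨r, hr, rfl⟩
      induction hr using Subgroup.closure_induction with
      | mem x hx =>
        intro v hv
        have hxR : (x : L) ∈ R := ⟨x, Subgroup.subset_closure hx, rfl⟩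
        have hco : (orderOf (x : L)).Coprime p := by rw [Subgroup.orderOf_coe]; exact hx
        have hn : Subgroup.zpowers (x : L) ≤ Subgroup.normalizer (V : Set L) :=
          (Subgroup.normalizer_eq_top V) ▸ le_top
        have h1 := Cfsg.Agent.Solv.commutator_commutator_eq (Subgroup.zpowers (x : L)) V hn
          (Cfsg.Agent.Local.CharPB.coprime_card_zpowers hVpg hco) (Or.inl inferInstance)
        have h2 : ⁅V, Subgroup.zpowers (x : L)⁆ ≤ W₂ := by
          rw [← h1]
          exact Subgroup.commutator_mono (Subgroup.commutator_mono le_rfl (Subgroup.zpowers_le.2 hxR))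
            (Subgroup.zpowers_le.2 hxR)
        exact h2 (Subgroup.commutator_mem_commutator hv (Subgroup.mem_zpowers _))
      | one => intro v hv; simp
      | mul a b ha hb iha ihb =>
        intro v hv
        have e : v * (((a * b : K)) : L) * v⁻¹ * (((a * b : K)) : L)⁻¹ =
            (v * (a : L) * v⁻¹ * (a : L)⁻¹) * ((a : L) * (v * (b : L) * v⁻¹ * (b : L)⁻¹) * (a : L)⁻¹) := by
          push_cast; group
        show v * ((a * b : K) : L) * v⁻¹ * ((a * b : K) : L)⁻¹ ∈ W₂
        rw [e]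
        exact mul_mem (iha v hv) ((Subgroup.mem_normalizer_iff.1 (hRn ⟨a, ha, rfl⟩) _).1 (ihb v hv))
      | inv a ha iha =>
        intro v hv
        have e : v * ((a⁻¹ : K) : L) * v⁻¹ * ((a⁻¹ : K) : L)⁻¹ =
            (a : L)⁻¹ * (v * (a : L) * v⁻¹ * (a : L)⁻¹)⁻¹ * (a : L) := by
          push_cast; group
        show v * ((a⁻¹ : K) : L) * v⁻¹ * ((a⁻¹ : K) : L)⁻¹ ∈ W₂
        rw [e]
        exact (Subgroup.mem_normalizer_iff''.1 (hRn ⟨a, ha, rfl⟩) _).1 (inv_mem (iha v hv))
    rw [hW, Subgroup.commutator_le]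
    exact fun v hv r hr => key r hr v hv
  have hsub : ∀ K' : Subgroup L, K'.IsSubnormal → R ≤ K' → W ≤ K' := by
    intro K' hK'
    induction hK' with
    | top => exact fun _ => le_top
    | step A B hle _ hN ih =>
      intro hRA
      refine hWR.trans ?_
      rw [Subgroup.commutator_le]
      intro w hw r hr
      have hwB : w ∈ B := ih (hRA.trans hle) hw
      have h1 := hN.conj_mem ⟨r, hle (hRA hr)⟩ (hRA hr) ⟨w, hwB⟩
      exact mul_mem h1 (inv_mem (hRA hr))
  have hWK : W ≤ K := hsub K hK hRK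
  refine ⟨hWK, ?_⟩
  haveI : (Cfsg.pResidual p K).Normal := inferInstance
  have hWn : (W.subgroupOf K).Normal := by
    refine (Subgroup.normal_subgroupOf_iff_le_normalizer hWK).2 fun k hk => ?_
    have hle : ∀ k ∈ K, W ≤ W.comap (MulAut.conj k).toMonoidHom := by
      intro k hk
      rw [hW, Subgroup.commutator_le]
      intro v hv r hr
      rw [Subgroup.mem_comap, MulEquiv.coe_toMonoidHom, MulAut.conj_apply]
      rw [show k * ⁅v, r⁆ * k⁻¹ = ⁅k * v * k⁻¹, k * r * k⁻¹⁆ by simp [commutatorElement_def, mul_assoc]]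
      refine Subgroup.commutator_mem_commutator (hVn.conj_mem v hv k) ?_
      obtain ⟨r', hr', rfl⟩ := hr
      exact ⟨⟨k, hk⟩ * r' * ⟨k, hk⟩⁻¹, (inferInstance : (Cfsg.pResidual p K).Normal).conj_mem r' hr' _, rfl⟩
    rw [Subgroup.mem_normalizer_iff]
    intro x
    refine ⟨fun hx => hle k hk hx, fun hx => ?_⟩
    have := hle k⁻¹ (inv_mem hk) hx
    simpa [mul_assoc] using this
  refine Cfsg.Agent.Local.PReduced.isPReducedNormal_of_forall hWn ⟨⟨⟨fun a b => Subtype.ext (Subtype.ext
    (congrArg (fun y : V => (y : L)) (hVc.is_comm.comm ⟨((a : K) : L), hWV a.2⟩ ⟨((b : K) : L), hWV b.2⟩)))⟩⟩,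
    fun a ha => Subtype.ext (hVp _ (hWV ha))⟩ fun N hN hNp => ?_
  haveI := hN
  have h1 : N.map K.subtype ≤ Subgroup.centralizer (V : Set L) := by
    refine Cfsg.Agent.Local.PReduced.le_centralizer_of_subnormal hV' (hN.isSubnormal.trans' hK) ?_
    rintro _ ⟨x, hx, rfl⟩ hco
    have hxR : (x : L) ∈ R := hgenR _ x.2 hco
    have hco' : (orderOf x).Coprime p := by rwa [← Subgroup.orderOf_coe]
    have hn : Subgroup.zpowers (x : L) ≤ Subgroup.normalizer (V : Set L) :=
      (Subgroup.normalizer_eq_top V) ▸ le_top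
    refine Cfsg.Agent.Local.CharPB.centralizes_of_iterCommutator hVpg hco hn (n := 2) (le_bot_iff.1 ?_)
    show ⁅⁅V, Subgroup.zpowers (x : L)⁆, Subgroup.zpowers (x : L)⁆ ≤ ⊥
    refine (Subgroup.commutator_mono (Subgroup.commutator_mono le_rfl (Subgroup.zpowers_le.2 hxR)) le_rfl).trans ?_
    rw [le_bot_iff, Subgroup.commutator_comm, Subgroup.commutator_eq_bot_iff_le_centralizer, Subgroup.zpowers_le,
      Subgroup.mem_centralizer_iff]
    intro w hw
    exact congrArg Subtype.val (Subgroup.mem_centralizer_iff.1 (hNp x hx hco') ⟨w, hWK hw⟩ hw)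
  intro x hx
  exact Subgroup.mem_centralizer_iff.2 fun w hw => Subtype.ext (Subgroup.mem_centralizer_iff.1
    (h1 (Subgroup.mem_map_of_mem _ hx)) _ (hWV hw))

end Cfsg.Agent.S2804
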