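import Cfsg.Statements.S2807
import Cfsg.Agent.Lib.Fusion.Yoshida
import Cfsg.Agent.Lib.Fusion.GroupSystem
import Cfsg.Agent.Lib.Local.TransferReduction

set_option autoImplicit false
open Cfsg

namespace Cfsg.Agent.S2807

/-- Let S be a Sylow p-subgroup of the finite group G. If S ∩ G' ≠ S ∩ (N_G(S))' (derived subgroups), then the wreath product Z_p ≀ Z_p — realised as a Sylow p-subgroup of the symmetric group of degree p² — is a homomorphic image of S. -/
theorem result {G : Type*} [Group G] [Finite G] {p : ℕ} [Fact p.Prime] (S : Sylow p G) (h : (S : Subgroup G) ⊓ commutator G ≠ (S : Subgroup G) ⊓ ⁅Subgroup.normalizer ((S : Subgroup G) : Set G), Subgroup.normalizer ((S : Subgroup G) : Set G)⁆) : ∃ (P : Sylow p (Equiv.Perm (Fin (p ^ 2)))) (f : ↥(S : Subgroup G) →* ↥(P : Subgroup (Equiv.Perm (Fin (p ^ 2))))), Function.Surjective f := by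
  classical
  set F := groupFusionSystem (S : Subgroup G) with hF
  obtain ⟨N, hN⟩ := Cfsg.Agent.Fusion.exists_normalizerSystem F (le_refl (S : Subgroup G))
  by_cases hne : N.focalSubgroup = F.focalSubgroup
  · refine absurd (le_antisymm (le_inf inf_le_left ?_) (inf_le_inf_left _ ?_)) h
    · refine le_trans (le_trans (Cfsg.Agent.Local.TransferRed.inf_commutator_le S F.focalSubgroup fun a ha g hg => ?_) hne.ge) ?_
      · have hm : Cfsg.Agent.Fusion.IsMor F ((S : Subgroup G) ⊓ (S : Subgroup G).comap (MulAut.conj g⁻¹).toMonoidHom)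
            (fun x => g⁻¹ * x * g) :=
          Cfsg.Agent.Fusion.isMor_groupFusionSystem.2 ⟨inf_le_left, fun x hx => (show g⁻¹ * x * g ∈ S from by simpa using hx.2), g⁻¹, fun x _ => by simp⟩
        exact Cfsg.Agent.Fusion.mem_focal_of_isMor hm ⟨ha, show (MulAut.conj g⁻¹).toMonoidHom a ∈ (S : Subgroup G) from by simp only [MulEquiv.coe_toMonoidHom, MulAut.conj_apply, inv_inv]; exact hg⟩
      · refine (Subgroup.closure_le _).2 ?_
        rintro _ ⟨P, φ, x, hφ, rfl⟩
        obtain ⟨hP, -, k, hk, hkx, -⟩ := (Cfsg.Agent.Fusion.isMor_normalizer_iff hN).1 (Cfsg.Agent.Fusion.isMor_extFun hφ)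
        obtain ⟨-, hkS, g, hg⟩ := Cfsg.Agent.Fusion.isMor_groupFusionSystem.1 hk
        have hgN : g ∈ Subgroup.normalizer ((S : Subgroup G) : Set G) :=
          Subgroup.mem_normalizer_fintype fun y hy => hg y (Subgroup.mem_sup_right hy) ▸ hkS y (Subgroup.mem_sup_right hy)
        rw [← Cfsg.Agent.Fusion.extFun_coe φ x, ← hkx _ x.2, hg _ (Subgroup.mem_sup_left x.2)]
        have hxN := Subgroup.le_normalizer (inv_mem (hP x.2).1)
        simpa [commutatorElement_def, mul_assoc] using Subgroup.commutator_mem_commutator hxN hgN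
    · exact Subgroup.commutator_mono le_top le_top
  · exact Cfsg.Agent.Fusion.Yoshida.exists_wreath S.2 (Cfsg.Agent.Fusion.isSaturated_groupFusionSystem S) N hN hne

end Cfsg.Agent.S2807
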