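import Cfsg.Statements.S2809
import Cfsg.Agent.Lib.Local.CharPBasics
import Cfsg.Agent.Lib.Solv.Thompson
-- import your own Cfsg.Agent.* helpers here

set_option autoImplicit false
open Cfsg

namespace Cfsg.Agent.S2809

/-- Let H be a finite group, p a prime, R a p-subgroup of H with C_H(R) ≤ R, and L a subgroup of N_H(R) acting nilpotently on R (some iterated commutator [R, L, …, L] is trivial). Then L is a p-group. -/
theorem result {H : Type*} [Group H] [Finite H] {p : ℕ} [Fact p.Prime] (R : Subgroup H) (hR : IsPGroup p ↥R) (hC : Subgroup.centralizer (R : Set H) ≤ R) (L : Subgroup H) (hL : L ≤ Subgroup.normalizer (R : Set H)) (hnil : ∃ n : ℕ, Cfsg.iterCommutator R L n = ⊥) : IsPGroup p ↥L := by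
  refine Local.CharPB.isPGroup_of_forall_eq_one fun l hl hco => ?_
  obtain ⟨n, hn⟩ := hnil
  have hmono : ∀ m, iterCommutator R (Subgroup.zpowers l) m ≤ iterCommutator R L m := by
    intro m
    induction m with
    | zero => exact le_rfl
    | succ m ih => exact Subgroup.commutator_mono ih (Subgroup.zpowers_le.2 hl)
  have h1 := hC (Local.CharPB.centralizes_of_iterCommutator hR hco ((Subgroup.zpowers_le.2 hl).trans hL)
    (le_bot_iff.1 ((hmono n).trans hn.le)))
  obtain ⟨k, hk⟩ := hR.exists_card_eq
  exact orderOf_eq_one_iff.1 (Nat.eq_one_of_dvd_coprimes (hco.pow_right k) dvd_rfl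
    (hk ▸ Subgroup.orderOf_dvd_natCard _ h1))

end Cfsg.Agent.S2809
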