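import Cfsg.Statements.S2810
import Cfsg.Agent.Lib.Local.CharPBasics
import Cfsg.Agent.Lib.Solv.Thompson
-- import your own Cfsg.Agent.* helpers here

set_option autoImplicit false
open Cfsg

namespace Cfsg.Agent.S2810
open scoped commutatorElement

/-- Let H be a finite group of characteristic p and L a subgroup of H centralizing every factor of some H-invariant chain 1 = A₀ ≤ A₁ ≤ … ≤ Aₙ = O_p(H) of normal subgroups (that is, [A_{i+1}, L] ≤ Aᵢ for each i). Then L ≤ O_p(H). -/
theorem result {H : Type*} [Group H] [Finite H] {p : ℕ} [Fact p.Prime] (hchar : Subgroup.centralizer (Cfsg.pCore p H : Set H) ≤ Cfsg.pCore p H) (L : Subgroup H) (n : ℕ) (A : Fin (n + 1) → Subgroup H) (h0 : A 0 = ⊥) (hn : A (Fin.last n) = Cfsg.pCore p H) (hmono : Monotone A) (hnorm : ∀ i, (A i).Normal) (hcent : ∀ i : Fin n, ⁅A i.succ, L⁆ ≤ A i.castSucc) : L ≤ Cfsg.pCore p H := by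
  haveI := hnorm
  let K : Subgroup H := ⨅ i : Fin n, (Subgroup.centralizer
    (((A i.succ).map (QuotientGroup.mk' (A i.castSucc)) : Subgroup _) : Set (H ⧸ A i.castSucc))).comap
      (QuotientGroup.mk' (A i.castSucc))
  have hmem : ∀ g : H, g ∈ K ↔ ∀ i : Fin n, ∀ a ∈ A i.succ, ⁅a, g⁆ ∈ A i.castSucc := by
    intro g
    simp only [K, Subgroup.mem_iInf, Subgroup.mem_comap, Subgroup.mem_centralizer_iff]
    refine forall_congr' fun i => ⟨fun h a ha => ?_, ?_⟩
    · rw [← QuotientGroup.eq_one_iff]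
      show QuotientGroup.mk' (A i.castSucc) ⁅a, g⁆ = 1
      rw [map_commutatorElement, commutatorElement_eq_one_iff_mul_comm]
      exact h _ ⟨a, ha, rfl⟩
    · rintro h _ ⟨a, ha, rfl⟩
      rw [← commutatorElement_eq_one_iff_mul_comm, ← map_commutatorElement]
      exact (QuotientGroup.eq_one_iff _).2 (h a ha)
  have hKn : K.Normal := ⟨fun g hg x => Subgroup.mem_iInf.2 fun i => by
    haveI : (((A i.succ).map (QuotientGroup.mk' (A i.castSucc)) : Subgroup _)).Normal :=
      Subgroup.Normal.map inferInstance _ (QuotientGroup.mk'_surjective _)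
    exact ((Subgroup.normal_centralizer (G := H ⧸ A i.castSucc)).comap _).conj_mem g (Subgroup.mem_iInf.1 hg i) x⟩
  have hp' : IsPGroup p (A (Fin.last n)) := by rw [hn]; exact Solv.isPGroup_pCore p H
  have hKp : IsPGroup p K := Local.CharPB.isPGroup_of_forall_eq_one fun l hl hco => by
    have h1 := Local.CharPB.centralizes_of_series A h0 hp' hco
      ((Subgroup.normalizer_eq_top (A (Fin.last n))) ▸ le_top) (fun i => by
        rw [Subgroup.commutator_le]
        intro a ha y hy
        exact (hmem y).1 (Subgroup.zpowers_le.2 hl hy) i a ha)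
    rw [hn] at h1
    obtain ⟨k, hk⟩ := (Solv.isPGroup_pCore p H).exists_card_eq
    exact orderOf_eq_one_iff.1 (Nat.eq_one_of_dvd_coprimes (hco.pow_right k) dvd_rfl
      (hk ▸ Subgroup.orderOf_dvd_natCard _ (hchar h1)))
  haveI := hKn
  exact le_trans (fun g hg => (hmem g).2 fun i a ha => hcent i (Subgroup.commutator_mem_commutator ha hg))
    (Solv.le_pCore hKp)

end Cfsg.Agent.S2810
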