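import Cfsg.Statements.S2812
import Cfsg.Agent.Lib.Local.FStar
import Cfsg.Agent.Lib.Solv.Thompson
import Cfsg.Agent.Lib.Solv.Coprime
import Cfsg.Agent.Lib.Struct.CoprimeMinimal
-- import your own Cfsg.Agent.* helpers here

set_option autoImplicit false
open Cfsg

namespace Cfsg.Agent.S2812
open Cfsg.Agent
open scoped commutatorElement

theorem gfit_top_congr {X Z : Type*} [Group X] [Group Z] (e : X ≃* Z)
    (h : Cfsg.generalizedFittingSubgroup X = ⊤) : Cfsg.generalizedFittingSubgroup Z = ⊤ := by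
  have h1 := congrArg (Subgroup.map (e : X →* Z)) h
  rw [Subgroup.map_top_of_surjective _ e.surjective, Cfsg.generalizedFittingSubgroup,
    Subgroup.map_sup, Solv.fittingSubgroup_map_equiv] at h1
  rw [eq_top_iff, ← h1, Cfsg.generalizedFittingSubgroup]
  refine sup_le_sup ?_ le_rfl
  rw [Subgroup.map_le_iff_le_comap]
  refine sSup_le fun K hK => ?_
  rw [← Subgroup.map_le_iff_le_comap]
  exact le_sSup (Local.isComponent_map_equiv e hK)

theorem fitting_coprime {X : Type*} [Group X] [Finite X] {p : ℕ} [Fact p.Prime]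
    (h : Cfsg.pCore p X = ⊥) : (Nat.card ↥(Cfsg.fittingSubgroup X)).Coprime p := by
  refine (Solv.card_pPrimeCore_coprime p X).coprime_dvd_left (Subgroup.card_dvd_of_le ?_)
  rw [Solv.fittingSubgroup_eq_iSup_pCore]
  refine iSup_le fun q => ?_
  rcases eq_or_ne (q : ℕ) p with e | e
  · rw [e, h]; exact bot_le
  · haveI : Fact (q : ℕ).Prime := ⟨q.2⟩
    refine Solv.le_pPrimeCore ?_
    obtain ⟨k, hk⟩ := IsPGroup.iff_card.mp (Solv.isPGroup_pCore (q : ℕ) X)
    rw [hk]
    exact ((Nat.coprime_primes q.2 (Fact.out : p.Prime)).mpr e).pow_left k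

/-- The intrinsic form: `L` with `F*(L) = L` and trivial `p`-core. -/
theorem decomp {G : Type*} [Group G] [Finite G] {p : ℕ} [Fact p.Prime] (Y L : Subgroup G)
    (hY : IsPGroup p ↥Y) (hYL : Y ≤ Subgroup.normalizer (L : Set G))
    (hF : Cfsg.generalizedFittingSubgroup ↥L = ⊤) (hO : Cfsg.pCore p ↥L = ⊥) :
    ⁅L, Y⁆ ⊔ (L ⊓ Subgroup.centralizer (Y : Set G)) = L ∧ ⁅L, Y⁆ = ⁅⁅L, Y⁆, Y⁆ := by
  have hTL : ⁅L, Y⁆ ≤ L := Solv.commutator_normalizer_le Y L hYL
  have hLT : L ≤ Subgroup.normalizer ((⁅L, Y⁆ : Subgroup G) : Set G) := Subgroup.normalizer_commutator_ge_left L Y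
  haveI hTn : ((⁅L, Y⁆).subgroupOf L).Normal :=
    (Subgroup.normal_subgroupOf_iff_le_normalizer hTL).2 hLT
  set C := L ⊓ Subgroup.centralizer (Y : Set G) with hC
  have hkey : L ≤ ⁅L, Y⁆ ⊔ C := by
    have h1 : L = (Cfsg.generalizedFittingSubgroup ↥L).map L.subtype := by
      rw [hF, ← MonoidHom.range_eq_map, Subgroup.range_subtype]
    refine h1.le.trans ?_
    rw [Cfsg.generalizedFittingSubgroup, Subgroup.map_sup]
    refine sup_le ?_ ?_
    · rw [Subgroup.map_le_iff_le_comap]
      refine sSup_le fun K hK => ?_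
      rw [← Subgroup.map_le_iff_le_comap]
      have hKL : K.map L.subtype ≤ L := Subgroup.map_subtype_le K
      rcases Local.component_le_or_commutator_eq_bot hK hTn.isSubnormal with h | h
      · refine ((Subgroup.map_mono h).trans ?_).trans le_sup_left
        rw [Subgroup.map_subgroupOf_eq_of_le hTL]
      · have h2 : ⁅K.map L.subtype, ⁅L, Y⁆⁆ = ⊥ := by
          have := congrArg (Subgroup.map L.subtype) h
          rwa [Subgroup.map_commutator, Subgroup.map_subgroupOf_eq_of_le hTL, Subgroup.map_bot]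
            at this
        have h3 : ⁅⁅K.map L.subtype, Y⁆, K.map L.subtype⁆ = ⊥ := le_bot_iff.1 <|
          (Subgroup.commutator_mono (Subgroup.commutator_mono hKL le_rfl) le_rfl).trans
            ((Subgroup.commutator_comm _ _).trans h2).le
        have h4 : ⁅⁅Y, K.map L.subtype⁆, K.map L.subtype⁆ = ⊥ := by
          rwa [Subgroup.commutator_comm Y (K.map L.subtype)]
        have h5 := Subgroup.commutator_commutator_eq_bot_of_rotate h3 h4
        rw [← Subgroup.map_commutator, Local.component_eq_commutator hK,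
          Subgroup.commutator_eq_bot_iff_le_centralizer] at h5
        exact (le_inf hKL h5).trans le_sup_right
    · have hFle : (Cfsg.fittingSubgroup ↥L).map L.subtype ≤ L := Subgroup.map_subtype_le _
      have hn : Y ≤ Subgroup.normalizer
          (((Cfsg.fittingSubgroup ↥L).map L.subtype : Subgroup G) : Set G) :=
        Struct.CoprimeMinimal.le_normalizer_map_char Y L hYL _
      have hcop : (Nat.card Y).Coprime
          (Nat.card ↥((Cfsg.fittingSubgroup ↥L).map L.subtype)) := by
        obtain ⟨n, hn'⟩ := IsPGroup.iff_card.mp hY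
        rw [hn', Subgroup.card_subtype]
        exact (fitting_coprime hO).symm.pow_left n
      have hsol : Group.IsSolvable ↥((Cfsg.fittingSubgroup ↥L).map L.subtype) := by
        haveI := Solv.fittingSubgroup_isNilpotent ↥L
        exact Group.isSolvable_of_isSolvable_injective
          (f := ((Cfsg.fittingSubgroup ↥L).equivMapOfInjective _ L.subtype_injective).symm.toMonoidHom)
          (MulEquiv.injective _)
      exact (Solv.commutator_sup_centralizer Y _ hn hcop (Or.inr hsol)).ge.trans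
        (sup_le_sup (Subgroup.commutator_mono hFle le_rfl) (inf_le_inf hFle le_rfl))
  refine ⟨le_antisymm (sup_le hTL inf_le_left) hkey,
    le_antisymm (Subgroup.commutator_le.2 fun x hx y hy => ?_)
      (Subgroup.commutator_mono hTL le_rfl)⟩
  have hCT : C ≤ Subgroup.normalizer ((⁅L, Y⁆ : Subgroup G) : Set G) := inf_le_left.trans hLT
  have hx' : x ∈ ((⁅L, Y⁆ ⊔ C : Subgroup G) : Set G) := hkey hx
  rw [Subgroup.coe_mul_of_right_le_normalizer_left _ _ hCT] at hx'
  obtain ⟨t, ht, c, hc, rfl⟩ := Set.mem_mul.1 hx'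
  have hcy : y * c = c * y := Subgroup.mem_centralizer_iff.1 hc.2 y hy
  have e : ⁅t * c, y⁆ = ⁅t, y⁆ := by
    rw [commutatorElement_def, commutatorElement_def, mul_assoc t c y, ← hcy]
    group
  rw [e]
  exact Subgroup.commutator_mem_commutator ht hy



/-- Let H be a subgroup of the finite group G with O_p(H) = 1, Y a p-subgroup of G normalizing H, and L a subgroup of the generalized Fitting subgroup F*(H) that is subnormal in H and normalized by Y. Then L = [L, Y]·C_L(Y) and [L, Y] = [L, Y, Y]. -/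
theorem result {G : Type*} [Group G] [Finite G] {p : ℕ} [Fact p.Prime] (H : Subgroup G) (hO : Cfsg.pCore p ↥H = ⊥) (Y : Subgroup G) (hY : IsPGroup p ↥Y) (hYH : Y ≤ Subgroup.normalizer (H : Set G)) (L : Subgroup G) (hLF : L ≤ (Cfsg.generalizedFittingSubgroup ↥H).map H.subtype) (hLsn : (L.subgroupOf H).IsSubnormal) (hYL : Y ≤ Subgroup.normalizer (L : Set G)) : ⁅L, Y⁆ ⊔ (L ⊓ Subgroup.centralizer (Y : Set G)) = L ∧ ⁅L, Y⁆ = ⁅⁅L, Y⁆, Y⁆ := by
  have hLH : L ≤ H := hLF.trans (Subgroup.map_subtype_le _)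
  set B := L.subgroupOf H with hBdef
  have hBF : B ≤ Cfsg.generalizedFittingSubgroup ↥H := by
    intro x hx
    obtain ⟨y, hy, hxy⟩ := hLF hx
    rwa [← Subtype.ext hxy]
  have h1 : Cfsg.generalizedFittingSubgroup ↥B = ⊤ := by
    have h := Local.generalizedFitting_inf hLsn
    rw [inf_eq_right.2 hBF] at h
    apply Subgroup.map_injective B.subtype_injective
    rw [← h, ← MonoidHom.range_eq_map, Subgroup.range_subtype]
  let e : ↥B ≃* ↥L := Subgroup.subgroupOfEquivOfLe hLH
  have h2 : Cfsg.pCore p ↥B = ⊥ := by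
    have h := Solv.le_pCore_of_isSubnormal
      (((inferInstance : (Cfsg.pCore p ↥B).Normal)).isSubnormal.trans' hLsn)
      ((Solv.isPGroup_pCore p ↥B).map B.subtype)
    rw [hO, le_bot_iff] at h
    exact (Subgroup.map_eq_bot_iff_of_injective _ B.subtype_injective).1 h
  refine decomp Y L hY hYL (gfit_top_congr e h1) ?_
  rw [← Solv.pCore_map_equiv p e, h2, Subgroup.map_bot]

end Cfsg.Agent.S2812
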