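import Cfsg.Statements.S2813
import Cfsg.Agent.Lib.Local.CharPBasics
import Cfsg.Agent.Lib.Solv.Thompson
-- import your own Cfsg.Agent.* helpers here

set_option autoImplicit false
open Cfsg

namespace Cfsg.Agent.S2813
open scoped commutatorElement

/-- Let K be a subgroup of the finite group H with O_p(K) = 1 and Y a p-subgroup of N_H(K) with [K, Y, Y] = 1. Then [K, Y] = 1. -/
theorem result {H : Type*} [Group H] [Finite H] {p : ℕ} [Fact p.Prime] (K : Subgroup H) (hO : Cfsg.pCore p ↥K = ⊥) (Y : Subgroup H) (hY : IsPGroup p ↥Y) (hYK : Y ≤ Subgroup.normalizer (K : Set H)) (hq : ⁅⁅K, Y⁆, Y⁆ = ⊥) : ⁅K, Y⁆ = ⊥ := by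
  set W := ⁅K, Y⁆ with hW
  have hWK : W ≤ K := Subgroup.le_normalizer_iff_commutator_le_left.1 hYK
  have hKW : K ≤ Subgroup.normalizer (W : Set H) := Subgroup.normalizer_commutator_ge_left K Y
  have hYc : ∀ y ∈ Y, ∀ w ∈ W, w * y = y * w := fun y hy w hw =>
    Subgroup.mem_centralizer_iff.1 (Subgroup.commutator_eq_bot_iff_le_centralizer.1 hq hw) y hy |>.symm
  have hWab : ∀ a ∈ W, ∀ b ∈ W, a * b = b * a := by
    intro a ha b hb
    have h1 : W ≤ Subgroup.centralizer ({a} : Set H) := by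
      rw [hW, Subgroup.commutator_le]
      intro k hk y hy
      have h2 : y * a = a * y := (hYc y hy a ha).symm
      have ha' : k⁻¹ * a * k ∈ W := (Subgroup.mem_normalizer_iff''.1 (hKW hk) a).1 ha
      have h3 : (k * y * k⁻¹) * a = a * (k * y * k⁻¹) := by
        calc (k * y * k⁻¹) * a = k * (y * (k⁻¹ * a * k)) * k⁻¹ := by group
          _ = k * ((k⁻¹ * a * k) * y) * k⁻¹ := by rw [hYc y hy _ ha']
          _ = a * (k * y * k⁻¹) := by group
      rw [Subgroup.mem_centralizer_iff]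
      intro z hz
      rw [Set.mem_singleton_iff.1 hz, commutatorElement_def]
      exact ((show Commute a (k * y * k⁻¹) from h3.symm).mul_right (show Commute a y⁻¹ from (show Commute a y from h2.symm).inv_right)).eq
    exact Subgroup.mem_centralizer_iff.1 (h1 hb) a rfl
  have hgen : ∀ k ∈ K, ∀ y ∈ Y, ∃ n : ℕ, ⁅k, y⁆ ^ p ^ n = 1 := by
    intro k hk y hy
    obtain ⟨n, hn⟩ := hY ⟨y, hy⟩
    have hn' : y ^ p ^ n = 1 := congrArg Subtype.val hn
    refine ⟨n, ?_⟩
    have hwy : Commute ⁅k, y⁆ y := hYc y hy _ (Subgroup.commutator_mem_commutator hk hy)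
    have e : k * y * k⁻¹ = ⁅k, y⁆ * y := by rw [commutatorElement_def]; group
    have h1 : (⁅k, y⁆ * y) ^ p ^ n = 1 := by rw [← e, conj_pow, hn']; group
    rwa [hwy.mul_pow, hn', mul_one] at h1
  have hWp : IsPGroup p W := by
    intro w
    have : ∃ n : ℕ, (w : H) ^ p ^ n = 1 ∧ (w : H) ∈ W := by
      obtain ⟨w, hw⟩ := w
      show ∃ n : ℕ, w ^ p ^ n = 1 ∧ w ∈ W
      have hw' := hw
      rw [hW, Subgroup.commutator_def] at hw'
      refine Subgroup.closure_induction (fun g hg => ?_) ⟨0, by simp, W.one_mem⟩ ?_ ?_ hw'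
      · obtain ⟨k, hk, y, hy, rfl⟩ := hg
        obtain ⟨n, hn⟩ := hgen k hk y hy
        exact ⟨n, hn, Subgroup.commutator_mem_commutator hk hy⟩
      · rintro a b - - ⟨m, hm, ha⟩ ⟨n, hn, hb⟩
        refine ⟨m + n, ?_, mul_mem ha hb⟩
        rw [(show Commute a b from hWab a ha b hb).mul_pow, pow_add, pow_mul, hm, one_pow, one_mul,
          mul_comm, pow_mul, hn, one_pow]
      · rintro a - ⟨m, hm, ha⟩
        exact ⟨m, by rw [inv_pow, hm, inv_one], inv_mem ha⟩
    obtain ⟨n, hn, -⟩ := this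
    exact ⟨n, Subtype.ext hn⟩
  haveI : (W.subgroupOf K).Normal := Subgroup.normal_subgroupOf_of_le_normalizer hKW
  have h1 : W.subgroupOf K ≤ pCore p K := Solv.le_pCore (hWp.comap_of_injective _ K.subtype_injective)
  rw [hO, le_bot_iff, Subgroup.subgroupOf_eq_bot, disjoint_iff] at h1
  rwa [inf_eq_left.2 hWK] at h1

end Cfsg.Agent.S2813
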