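import Cfsg.Statements.S2814
import Cfsg.Agent.Lib.Solv.Subnormal
import Cfsg.Agent.Lib.Solv.NormalPComplement
import Cfsg.Agent.Lib.Solv.Misc
import Cfsg.Prelude.Def_LocalStructure
-- import your own Cfsg.Agent.* helpers here

set_option autoImplicit false
open Cfsg

namespace Cfsg.Agent.S2814
open scoped commutatorElement

/-- Let A be a subgroup of the finite group H and K the subnormal closure of A (intersection of the subnormal subgroups containing A). Then K is the normal closure of A inside K and N_H(A) ≤ N_H(K); K = A·O^p(K), O^p(K) being generated by the elements of K of order prime to p; and if A is a p-group, O^p(K) = [O^p(K), A]. -/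
theorem result {H : Type*} [Group H] [Finite H] {p : ℕ} [Fact p.Prime] (A : Subgroup H) (K : Subgroup H) (hK : K = Cfsg.subnormalClosure A) : (Subgroup.normalClosure ((A.subgroupOf K : Subgroup ↥K) : Set ↥K)).map K.subtype = K ∧ Subgroup.normalizer (A : Set H) ≤ Subgroup.normalizer (K : Set H) ∧ A ⊔ (Cfsg.pResidual p ↥K).map K.subtype = K ∧ (IsPGroup p ↥A → ⁅(Cfsg.pResidual p ↥K).map K.subtype, A⁆ = (Cfsg.pResidual p ↥K).map K.subtype) := by
  have hne : ∀ S : Set (Subgroup H), S.Finite → (∀ U ∈ S, U.IsSubnormal) → (sInf S).IsSubnormal := by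
    intro S hS
    induction S, hS using Set.Finite.induction_on with
    | empty => intro _; rw [sInf_empty]; exact Subgroup.IsSubnormal.top
    | @insert a s _ _ ih =>
      intro h
      rw [sInf_insert]
      exact (h a (Set.mem_insert _ _)).inf (ih fun U hU => h U (Set.mem_insert_of_mem _ hU))
  have hKs : K.IsSubnormal := hK ▸ hne _ (Set.toFinite _) (fun U hU => hU.2)
  have hAK : A ≤ K := hK ▸ le_sInf fun U hU => hU.1
  have hmin : ∀ U : Subgroup H, A ≤ U → U.IsSubnormal → K ≤ U := fun U h1 h2 => hK ▸ sInf_le ⟨h1, h2⟩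
  have hmin' : ∀ M : Subgroup K, A.subgroupOf K ≤ M → M.IsSubnormal → M = ⊤ := by
    intro M h1 h2
    rw [eq_top_iff]
    intro x _
    obtain ⟨y, hy, e⟩ := hmin (M.map K.subtype) (fun a ha => ⟨⟨a, hAK ha⟩, h1 ha, rfl⟩) (h2.trans' hKs) x.2
    exact (Subtype.ext e : y = x) ▸ hy
  haveI hRn : (Cfsg.pResidual p K).Normal := inferInstance
  have h3 : A.subgroupOf K ⊔ Cfsg.pResidual p K = ⊤ := by
    refine hmin' _ le_sup_left ?_
    set f := QuotientGroup.mk' (Cfsg.pResidual p K)
    have hpq : IsPGroup p (K ⧸ Cfsg.pResidual p K) := by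
      intro q
      obtain ⟨x, rfl⟩ := QuotientGroup.mk_surjective q
      obtain ⟨a, m, hm, he⟩ := Nat.exists_eq_pow_mul_and_not_dvd (orderOf_pos x).ne' p (Fact.out : p.Prime).one_lt.ne'
      refine ⟨a, (QuotientGroup.eq_one_iff _).2 (Subgroup.subset_closure ?_)⟩
      show (orderOf (x ^ p ^ a)).Coprime p
      refine Nat.Coprime.coprime_dvd_left (orderOf_dvd_of_pow_eq_one ?_)
        ((Fact.out : p.Prime).coprime_iff_not_dvd.2 hm).symm
      rw [← pow_mul, ← he, pow_orderOf_eq_one]
    haveI := hpq.isNilpotent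
    have h1 := (Cfsg.Agent.Solv.isSubnormal_of_isNilpotent ((A.subgroupOf K).map f)).comap f
    rwa [Subgroup.comap_map_eq, QuotientGroup.ker_mk'] at h1
  refine ⟨?_, ?_, ?_, ?_⟩
  · rw [hmin' _ Subgroup.subset_normalClosure (Subgroup.Normal.isSubnormal Subgroup.normalClosure_normal),
      ← MonoidHom.range_eq_map, Subgroup.range_subtype]
  · intro g hg
    have key : ∀ g ∈ Subgroup.normalizer (A : Set H), K ≤ K.comap (MulAut.conj g).toMonoidHom := fun g hg =>
      hmin _ (fun a ha => hAK ((Subgroup.mem_normalizer_iff.1 hg a).1 ha)) (hKs.comap _)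
    rw [Subgroup.mem_normalizer_iff]
    intro x
    refine ⟨fun hx => key g hg hx, fun hx => ?_⟩
    have := key g⁻¹ (inv_mem hg) hx
    simpa [mul_assoc] using this
  · have := congrArg (Subgroup.map K.subtype) h3
    rwa [Subgroup.map_sup, Subgroup.map_subgroupOf_eq_of_le hAK, ← MonoidHom.range_eq_map,
      Subgroup.range_subtype] at this
  · intro hA
    set R := Cfsg.pResidual p K
    set A' := A.subgroupOf K
    set M := ⁅R, A'⁆
    have hRM : R ≤ Subgroup.normalizer (M : Set K) := Subgroup.normalizer_commutator_ge_left R A'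
    have hAM : A' ≤ Subgroup.normalizer (M : Set K) := Subgroup.normalizer_commutator_ge_right R A'
    haveI hMn : M.Normal := by
      rw [← Subgroup.normalizer_eq_top_iff, eq_top_iff, ← h3]
      exact sup_le hAM hRM
    have hMR : M ≤ R := Subgroup.commutator_le_left R A'
    have hAMn : (A' ⊔ M).Normal := by
      rw [← Subgroup.normalizer_eq_top_iff, eq_top_iff, ← h3]
      refine sup_le ((le_sup_left : A' ≤ A' ⊔ M).trans Subgroup.le_normalizer) ?_
      intro r hr
      have key : ∀ r ∈ R, A' ⊔ M ≤ (A' ⊔ M).comap (MulAut.conj r).toMonoidHom := by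
        intro r hr
        refine sup_le (fun a ha => ?_) (fun m hm => Subgroup.mem_sup_right (hMn.conj_mem m hm r))
        show r * a * r⁻¹ ∈ A' ⊔ M
        rw [show r * a * r⁻¹ = ⁅r, a⁆ * a by rw [commutatorElement_def]; group]
        exact mul_mem (Subgroup.mem_sup_right (Subgroup.commutator_mem_commutator hr ha)) (Subgroup.mem_sup_left ha)
      rw [Subgroup.mem_normalizer_iff]
      intro x
      refine ⟨fun hx => key r hr hx, fun hx => ?_⟩
      have := key r⁻¹ (inv_mem hr) hx
      simpa [mul_assoc] using this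
    have htop := hmin' _ le_sup_left hAMn.isSubnormal
    have hRle : R ≤ M := by
      refine (Subgroup.closure_le _).2 fun x hx => ?_
      obtain ⟨a, ha, m, hm, rfl⟩ := Subgroup.mem_sup_of_normal_right.1 (htop ▸ Subgroup.mem_top x : x ∈ A' ⊔ M)
      rw [SetLike.mem_coe, ← QuotientGroup.eq_one_iff]
      obtain ⟨k, hk⟩ := hA ⟨(a : H), ha⟩
      have h1 : (QuotientGroup.mk (a * m) : K ⧸ M) ^ p ^ k = 1 := by
        rw [QuotientGroup.mk_mul_of_mem a hm, ← QuotientGroup.mk_pow, QuotientGroup.eq_one_iff]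
        have e : a ^ p ^ k = 1 := Subtype.ext (congrArg (fun y : A => (y : H)) hk)
        rw [e]; exact one_mem _
      exact orderOf_eq_one_iff.1 (Nat.eq_one_of_dvd_coprimes ((show (orderOf (a * m)).Coprime p from hx).pow_right k)
        (orderOf_map_dvd (QuotientGroup.mk' M) (a * m)) (orderOf_dvd_of_pow_eq_one h1))
    have h4 : M = R := le_antisymm hMR hRle
    have h5 := congrArg (Subgroup.map K.subtype) h4
    rwa [Subgroup.map_commutator, Subgroup.map_subgroupOf_eq_of_le hAK] at h5

end Cfsg.Agent.S2814
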