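import Cfsg.Statements.S2815
import Cfsg.Agent.Lib.Local.FStarAction
import Cfsg.Agent.Lib.Solv.NormalPComplement
-- import your own Cfsg.Agent.* helpers here

set_option autoImplicit false
open Cfsg

namespace Cfsg.Agent.S2815
open Cfsg.Agent
open scoped commutatorElement


/-- Let H be a finite group and p a prime dividing its order with O_p(H) = 1, and suppose K = O^p(H) (generated by the elements of order prime to p) is quasisimple. Then K = F*(H); for every nontrivial p-subgroup Y of H, K = [K, Y] and K lies in the subgroup generated by the K-conjugates of Y; every normal subgroup of H not containing K has order prime to p; and H is p-irreducible. -/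
theorem result {H : Type*} [Group H] [Finite H] {p : ℕ} [Fact p.Prime] (hp : p ∣ Nat.card H) (hO : Cfsg.pCore p H = ⊥) (hq : Cfsg.IsQuasisimple ↥(Cfsg.pResidual p H)) : Cfsg.pResidual p H = Cfsg.generalizedFittingSubgroup H ∧ (∀ Y : Subgroup H, IsPGroup p ↥Y → Y ≠ ⊥ → ⁅Cfsg.pResidual p H, Y⁆ = Cfsg.pResidual p H ∧ Cfsg.pResidual p H ≤ ⨆ k : ↥(Cfsg.pResidual p H), Y.map (MulAut.conj (k : H)).toMonoidHom) ∧ (∀ C : Subgroup H, C.Normal → ¬ Cfsg.pResidual p H ≤ C → (Nat.card ↥C).Coprime p) ∧ Cfsg.IsPIrreducible p H := by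
  set K := Cfsg.pResidual p H with hKdef
  haveI : K.Normal := inferInstance
  have hK : Cfsg.IsComponent K := ⟨(inferInstance : K.Normal).isSubnormal, hq⟩
  set Fs := Cfsg.generalizedFittingSubgroup H with hFs
  have hQ : IsPGroup p (H ⧸ K) := by
    obtain ⟨k, hk⟩ := Solv.exists_pResidual_index (p := p) (G := H)
    exact IsPGroup.of_card (n := k) (by rw [← Subgroup.index_eq_card]; exact hk)
  have hlayer : Cfsg.layer H = K := by
    refine le_antisymm (sSup_le fun J hJ => ?_) (le_sSup hK)
    have hd : ∀ n, J ≤ derivedSeries H n := fun n => by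
      induction n with
      | zero => exact le_top
      | succ m ih =>
        rw [← Local.component_eq_commutator hJ, derivedSeries_succ]
        exact Subgroup.commutator_mono ih ih
    haveI : Group.IsNilpotent (H ⧸ K) := hQ.isNilpotent
    obtain ⟨n, hn⟩ := (Group.isSolvable_def _).1 (inferInstance : Group.IsSolvable (H ⧸ K))
    have h1 := (Subgroup.map_mono (hd n)).trans
      (map_derivedSeries_le_derivedSeries (QuotientGroup.mk' K) n)
    rw [hn, le_bot_iff, Subgroup.map_eq_bot_iff, QuotientGroup.ker_mk'] at h1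
    exact h1
  have hFsK : Fs = K := by
    rw [hFs, Cfsg.generalizedFittingSubgroup, hlayer]
    refine sup_eq_left.2 (le_trans ?_ (Solv.pPrimeCore_le_pResidual p))
    exact Solv.le_pPrimeCore (Local.FStarAction.fitting_coprime hO)
  refine ⟨hFsK.symm, fun Y hY hYne => ?_, ?_⟩
  · have hTK : ⁅K, Y⁆ ≤ K := Subgroup.commutator_le_left K Y
    haveI : ((⁅K, Y⁆).subgroupOf K).Normal :=
      (Subgroup.normal_subgroupOf_iff_le_normalizer hTK).2 (Subgroup.normalizer_commutator_ge_left K Y)
    have heq : ⁅K, Y⁆ = K := by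
      rcases Local.qs_normal_le_center_or_eq_top hq ((⁅K, Y⁆).subgroupOf K) with h | h
      · exfalso
        have h1 : ⁅⁅K, Y⁆, K⁆ = ⊥ := by
          rw [Subgroup.commutator_eq_bot_iff_le_centralizer]
          intro x hx k hk
          exact congrArg Subtype.val
            (Subgroup.mem_center_iff.1 (h (show (⟨x, hTK hx⟩ : ↥K) ∈ _ from hx)) ⟨k, hk⟩)
        have h2 : ⁅⁅Y, K⁆, K⁆ = ⊥ := by rwa [Subgroup.commutator_comm Y K]
        have h3 := Subgroup.commutator_commutator_eq_bot_of_rotate h1 h2
        rw [Local.component_eq_commutator hK, Subgroup.commutator_eq_bot_iff_le_centralizer] at h3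
        exact hYne (Local.FStarAction.eq_bot_of_le_centralizer_gfit hO hY
          (Subgroup.le_centralizer_iff.1 (by rw [← hFs, hFsK]; exact h3)))
      · exact le_antisymm hTK (Subgroup.subgroupOf_eq_top.1 h)
    refine ⟨heq, ?_⟩
    conv_lhs => rw [← heq]
    rw [Subgroup.commutator_le]
    intro k hk y hy
    rw [commutatorElement_def]
    refine mul_mem (Subgroup.mem_iSup_of_mem ⟨k, hk⟩ ⟨y, hy, rfl⟩)
      (inv_mem (Subgroup.mem_iSup_of_mem 1 ⟨y, hy, ?_⟩))
    simp
  have hC : ∀ C : Subgroup H, C.Normal → ¬ K ≤ C → (Nat.card ↥C).Coprime p := fun C hCn hKC => by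
    refine Local.FStarAction.coprime_of_le_centralizer_gfit hO ?_
    rw [← hFs, hFsK, ← Subgroup.commutator_eq_bot_iff_le_centralizer, Subgroup.commutator_comm]
    exact (Local.component_le_or_commutator_eq_bot hK hCn.isSubnormal).resolve_left hKC
  refine ⟨hC, fun hcl => ?_, fun N hN hNcl => ?_⟩
  · obtain ⟨P⟩ := Sylow.nonempty (p := p) (G := H)
    haveI : (P : Subgroup H).Normal := hcl P
    have h1 : (P : Subgroup H) ≤ Cfsg.pCore p H := Solv.le_pCore P.2
    rw [hO, le_bot_iff] at h1
    have h2 := P.not_dvd_index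
    rw [h1, Subgroup.index_bot] at h2
    exact h2 hp
  · by_contra hKN
    refine hNcl fun P => ?_
    obtain ⟨k, hk⟩ := IsPGroup.iff_card.mp P.2
    have hbot : (P : Subgroup ↥N) = ⊥ := by
      refine Subgroup.card_eq_one.1 (Nat.eq_one_of_dvd_coprimes ((hC N hN hKN).pow_right k)
        (Subgroup.card_subgroup_dvd_card (P : Subgroup ↥N)) ?_)
      rw [hk]
    rw [hbot]
    infer_instance

end Cfsg.Agent.S2815
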