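import Cfsg.Statements.S2816
import Cfsg.Agent.Lib.Local.FStarAction
-- import your own Cfsg.Agent.* helpers here

set_option autoImplicit false
open Cfsg

namespace Cfsg.Agent.S2816
open Cfsg.Agent


/-- Let H be a finite group and p a prime with O_p(H) = 1, and Y a p-subgroup of H. Then for every subnormal subgroup K of H containing Y, [F*(H), Y] = [F*(K), Y] = [F*(K), Y, Y]; and if Y₀ ≤ Y with [F*(H), Y, Y₀] = 1 then Y₀ = 1 (in particular [F*(H), Y] = 1 forces Y = 1). -/
theorem result {H : Type*} [Group H] [Finite H] {p : ℕ} [Fact p.Prime] (hO : Cfsg.pCore p H = ⊥) (Y : Subgroup H) (hY : IsPGroup p ↥Y) : (∀ K : Subgroup H, K.IsSubnormal → Y ≤ K → ⁅Cfsg.generalizedFittingSubgroup H, Y⁆ = ⁅(Cfsg.generalizedFittingSubgroup ↥K).map K.subtype, Y⁆ ∧ ⁅(Cfsg.generalizedFittingSubgroup ↥K).map K.subtype, Y⁆ = ⁅⁅(Cfsg.generalizedFittingSubgroup ↥K).map K.subtype, Y⁆, Y⁆) ∧ (∀ Y₀ : Subgroup H, Y₀ ≤ Y → ⁅⁅Cfsg.generalizedFittingSubgroup H, Y⁆, Y₀⁆ = ⊥ → Y₀ = ⊥) := by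
  set F := Cfsg.generalizedFittingSubgroup H with hFdef
  haveI := Local.FStarAction.gfit_normal (G := H)
  have hd := Local.FStarAction.decomp_gfit hO Y hY
  refine ⟨fun K hK hYK => ?_, fun Y₀ hY₀ h0 => ?_⟩
  · have key : ∀ M : Subgroup H, M.IsSubnormal → Y ≤ M → ⁅F, Y⁆ ≤ M := by
      intro M hM
      induction hM with
      | top => exact fun _ => le_top
      | step A B hle _ hN ih =>
        intro hYA
        rw [hd.2]
        refine (Subgroup.commutator_mono (ih (hYA.trans hle)) hYA).trans ?_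
        rw [Subgroup.commutator_comm]
        exact Solv.commutator_normalizer_le B A ((Subgroup.normal_subgroupOf_iff_le_normalizer hle).1 hN)
    have h1 : ⁅F, Y⁆ = ⁅F ⊓ K, Y⁆ := by
      refine le_antisymm ?_ (Subgroup.commutator_mono inf_le_left le_rfl)
      conv_lhs => rw [hd.2]
      exact Subgroup.commutator_mono
        (le_inf (Solv.commutator_normalizer_le Y F (Local.FStarAction.le_normalizer_gfit Y))
          (key K hK hYK)) le_rfl
    rw [← Local.generalizedFitting_inf hK, ← hFdef, ← h1]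
    exact ⟨rfl, hd.2⟩
  · refine Local.FStarAction.eq_bot_of_le_centralizer_gfit hO (hY.to_le hY₀) ?_
    rw [Subgroup.le_centralizer_iff, ← hd.1]
    refine sup_le (Subgroup.commutator_eq_bot_iff_le_centralizer.1 h0) ?_
    exact inf_le_right.trans (Subgroup.centralizer_le hY₀)

end Cfsg.Agent.S2816
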