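import Cfsg.Statements.S2817
import Cfsg.Agent.Lib.Local.FStarAction
import Cfsg.Agent.Lib.Local.ExtendedLayer
import Cfsg.Agent.Lib.Solv.SchurZassenhaus
-- import your own Cfsg.Agent.* helpers here

set_option autoImplicit false
open Cfsg

namespace Cfsg.Agent.S2817
open Cfsg.Agent
open scoped commutatorElement


/-- Let H be a finite group and p a prime with O_p(H) = 1, Q a p-subgroup of H, L = [F*(H), Q], and F the largest normal subgroup of F*(H) centralized by Q (a normal subgroup of F*(H) centralized by Q and containing every such). Then F = C_{F*(H)}(LQ); L = [L, Q]; L ∩ F ≤ Φ(L); every p-subgroup B of N_H(Q) with [L, B] ≤ F satisfies [L, B] = 1; and C_H(FL) has order prime to p. -/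
theorem result {H : Type*} [Group H] [Finite H] {p : ℕ} [Fact p.Prime] (hO : Cfsg.pCore p H = ⊥) (Q : Subgroup H) (hQ : IsPGroup p ↥Q) (L : Subgroup H) (hL : L = ⁅Cfsg.generalizedFittingSubgroup H, Q⁆) (F : Subgroup H) (hF : F ≤ Cfsg.generalizedFittingSubgroup H ∧ Cfsg.generalizedFittingSubgroup H ≤ Subgroup.normalizer (F : Set H) ∧ Q ≤ Subgroup.centralizer (F : Set H) ∧ ∀ N : Subgroup H, N ≤ Cfsg.generalizedFittingSubgroup H → Cfsg.generalizedFittingSubgroup H ≤ Subgroup.normalizer (N : Set H) → Q ≤ Subgroup.centralizer (N : Set H) → N ≤ F) : F = Cfsg.generalizedFittingSubgroup H ⊓ Subgroup.centralizer ((L ⊔ Q : Subgroup H) : Set H) ∧ ⁅L, Q⁆ = L ∧ L ⊓ F ≤ (frattini ↥L).map L.subtype ∧ (∀ B : Subgroup H, IsPGroup p ↥B → B ≤ Subgroup.normalizer (Q : Set H) → ⁅L, B⁆ ≤ F → ⁅L, B⁆ = ⊥) ∧ (Nat.card ↥(Subgroup.centralizer ((F ⊔ L : Subgroup H) : Set H))).Coprime p := by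
  set Fs := Cfsg.generalizedFittingSubgroup H with hFs
  haveI := Local.FStarAction.gfit_normal (G := H)
  obtain ⟨hFFs, hFsF, hQF, hFmax⟩ := hF
  have hd := Local.FStarAction.decomp_gfit hO Q hQ
  rw [← hL] at hd
  have hLFs : L ≤ Fs := hL ▸ Solv.commutator_normalizer_le Q Fs (Local.FStarAction.le_normalizer_gfit Q)
  have hFsL : Fs ≤ Subgroup.normalizer (L : Set H) := hL ▸ Subgroup.normalizer_commutator_ge_left Fs Q
  have hQL : Q ≤ Subgroup.normalizer (L : Set H) := hL ▸ Subgroup.normalizer_commutator_ge_right Fs Q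
  have hLQ : ⁅L, Q⁆ = L := hd.2.symm
  have hLF : L ≤ Subgroup.centralizer (F : Set H) := by
    rw [← Subgroup.commutator_eq_bot_iff_le_centralizer, hL]
    have hQF' : ⁅Q, F⁆ = ⊥ := Subgroup.commutator_eq_bot_iff_le_centralizer.2 hQF
    refine Subgroup.commutator_commutator_eq_bot_of_rotate ?_ ?_
    · rw [hQF', Subgroup.commutator_bot_left]
    · refine le_bot_iff.1 ((Subgroup.commutator_mono (Solv.commutator_normalizer_le Fs F hFsF)
        le_rfl).trans ?_)
      rw [Subgroup.commutator_comm, hQF']
  have hFC : F ≤ Fs ⊓ Subgroup.centralizer ((L ⊔ Q : Subgroup H) : Set H) :=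
    le_inf hFFs (Subgroup.le_centralizer_iff.1 (sup_le hLF hQF))
  have hFeq : F = Fs ⊓ Subgroup.centralizer ((L ⊔ Q : Subgroup H) : Set H) := by
    refine le_antisymm hFC (hFmax _ inf_le_left ?_ ?_)
    · have hn : Fs ≤ Subgroup.normalizer ((L ⊔ Q : Subgroup H) : Set H) := by
        refine Solv.le_normalizer_of_conj_mem fun f hf x hx => ?_
        have hle : L ⊔ Q ≤ (L ⊔ Q).comap (MulAut.conj f).toMonoidHom := by
          refine sup_le (fun y hy => ?_) (fun y hy => ?_)
          · show f * y * f⁻¹ ∈ L ⊔ Q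
            exact Subgroup.mem_sup_left ((Subgroup.mem_normalizer_iff.1 (hFsL hf) y).1 hy)
          · show f * y * f⁻¹ ∈ L ⊔ Q
            rw [show f * y * f⁻¹ = ⁅f, y⁆ * y by rw [commutatorElement_def]; group]
            exact mul_mem (Subgroup.mem_sup_left (hL ▸ Subgroup.commutator_mem_commutator hf hy))
              (Subgroup.mem_sup_right hy)
        exact hle hx
      exact Solv.le_normalizer_inf Subgroup.le_normalizer
        (hn.trans (Local.ExtLayer.normalizer_le_normalizer_centralizer' _))
    · exact (le_sup_right.trans (Subgroup.le_centralizer_iff.1 (inf_le_right :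
        Fs ⊓ Subgroup.centralizer ((L ⊔ Q : Subgroup H) : Set H) ≤ _)))
  have hLsn : L.IsSubnormal := by
    haveI : (L.subgroupOf Fs).Normal := (Subgroup.normal_subgroupOf_iff_le_normalizer hLFs).2 hFsL
    have := (inferInstance : (L.subgroupOf Fs).Normal).isSubnormal.trans'
      (inferInstance : Fs.Normal).isSubnormal
    rwa [Subgroup.map_subgroupOf_eq_of_le hLFs] at this
  obtain ⟨hLtop, hLO⟩ := Local.FStarAction.subnormal_facts hO hLFs hLsn
  have hcomm : ∀ x : H, ∀ hxL : x ∈ L, x ∈ F → (⟨x, hxL⟩ : ↥L) ∈ commutator ↥L := fun x hxL hxF =>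
    Local.FStarAction.mem_commutator_of_fixed Q L hQ hQL hLtop hLO hLQ ⟨x, hxL⟩
      (fun y hy => (Subgroup.mem_centralizer_iff.1 (hQF hy) x hxF).symm)
  refine ⟨hFeq, hLQ, ?_, ?_, ?_⟩
  · rintro x ⟨hxL, hxF⟩
    refine ⟨⟨x, hxL⟩, Local.FStarAction.mem_frattini_of_central ?_ (hcomm x hxL hxF), rfl⟩
    exact Subgroup.mem_center_iff.2 fun g =>
      Subtype.ext (Subgroup.mem_centralizer_iff.1 (hLF g.2) x hxF).symm
  · intro B hB hBQ hLB
    have hBL : B ≤ Subgroup.normalizer (L : Set H) := by
      refine Solv.le_normalizer_of_conj_mem fun b hb x hx => ?_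
      have h : L.map (MulAut.conj b).toMonoidHom ≤ L := by
        conv_lhs => rw [hL, Subgroup.map_commutator]
        conv_rhs => rw [hL]
        refine Subgroup.commutator_mono ?_ ?_
        · rintro _ ⟨y, hy, rfl⟩
          exact (inferInstance : Fs.Normal).conj_mem y hy b
        · rintro _ ⟨y, hy, rfl⟩
          exact (Subgroup.mem_normalizer_iff.1 (hBQ hb) y).1 hy
      exact h ⟨x, hx, rfl⟩
    have h1 : ⁅⁅L, B⁆, L⁆ = ⊥ := le_bot_iff.1 <|
      (Subgroup.commutator_mono hLB le_rfl).trans
        ((Subgroup.commutator_comm _ _).trans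
          (Subgroup.commutator_eq_bot_iff_le_centralizer.2 hLF)).le
    have h2 : ⁅⁅B, L⁆, L⁆ = ⊥ := by rwa [Subgroup.commutator_comm B L]
    have h3 : ⁅⁅L, L⁆, B⁆ = ⊥ := Subgroup.commutator_commutator_eq_bot_of_rotate h1 h2
    have h4 : ⁅L, B⁆ ≤ ⁅L, L⁆ := fun x hx => by
      have hxL : x ∈ L := Solv.commutator_normalizer_le B L hBL hx
      rw [← L.map_subtype_commutator]
      exact ⟨_, hcomm x hxL (hLB hx), rfl⟩
    rw [(Local.FStarAction.decomp_subnormal hO B hB hLFs hLsn hBL).2, eq_bot_iff, ← h3]
    exact Subgroup.commutator_mono h4 le_rfl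
  · have key : ∀ P : Subgroup H, IsPGroup p ↥P →
        P ≤ Subgroup.centralizer ((F ⊔ L : Subgroup H) : Set H) → P = ⊥ := by
      intro P hP hPC
      have hFP : F ≤ Subgroup.centralizer (P : Set H) :=
        le_sup_left.trans (Subgroup.le_centralizer_iff.1 hPC)
      have hLP : L ≤ Subgroup.centralizer (P : Set H) :=
        le_sup_right.trans (Subgroup.le_centralizer_iff.1 hPC)
      refine Local.FStarAction.eq_bot_of_le_centralizer_gfit hO hP (Subgroup.le_centralizer_iff.1 ?_)
      refine sup_le (sSup_le fun K hK => ?_) ?_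
      · rcases Local.component_le_or_commutator_eq_bot hK hLsn with h | h
        · exact h.trans hLP
        · have hKFs : K ≤ Fs := le_trans (le_sSup hK) (le_sup_left : Cfsg.layer H ≤ Fs)
          have h1 : ⁅⁅K, Q⁆, K⁆ = ⊥ := le_bot_iff.1 <|
            (Subgroup.commutator_mono ((Subgroup.commutator_mono hKFs le_rfl).trans hL.ge)
              le_rfl).trans ((Subgroup.commutator_comm _ _).trans h).le
          have h2 : ⁅⁅Q, K⁆, K⁆ = ⊥ := by rwa [Subgroup.commutator_comm Q K]
          have h3 := Subgroup.commutator_commutator_eq_bot_of_rotate h1 h2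
          rw [Local.component_eq_commutator hK] at h3
          refine le_trans ?_ hFP
          rw [hFeq]
          exact le_inf hKFs (Subgroup.le_centralizer_iff.1 (sup_le
            (Subgroup.le_centralizer_iff.1 (Subgroup.commutator_eq_bot_iff_le_centralizer.1 h))
            (Subgroup.le_centralizer_iff.1 (Subgroup.commutator_eq_bot_iff_le_centralizer.1 h3))))
      · set R := Cfsg.fittingSubgroup H with hR
        have hRFs : R ≤ Fs := le_sup_right
        set D := R ⊓ Subgroup.centralizer (L : Set H) with hD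
        haveI := Solv.fittingSubgroup_isNilpotent H
        have hRP : ⁅R, P⁆ ≤ D := by
          refine le_inf (Subgroup.commutator_le_left R P) ?_
          rw [← Subgroup.commutator_eq_bot_iff_le_centralizer]
          have hLP' : ⁅L, P⁆ = ⊥ := Subgroup.commutator_eq_bot_iff_le_centralizer.2 hLP
          refine Subgroup.commutator_commutator_eq_bot_of_rotate ?_ ?_
          · rw [Subgroup.commutator_comm P L, hLP', Subgroup.commutator_bot_left]
          · exact le_bot_iff.1 ((Subgroup.commutator_mono
              (Solv.commutator_normalizer_le R L (hRFs.trans hFsL)) le_rfl).trans hLP'.le)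
        have hQD : Q ≤ Subgroup.normalizer (D : Set H) :=
          Solv.le_normalizer_inf (by rw [Subgroup.normalizer_eq_top]; exact le_top)
            (hQL.trans (Local.ExtLayer.normalizer_le_normalizer_centralizer' _))
        obtain ⟨n, hn⟩ := IsPGroup.iff_card.mp hQ
        obtain ⟨m, hm⟩ := IsPGroup.iff_card.mp hP
        have hcR : p.Coprime (Nat.card R) := (Local.FStarAction.fitting_coprime hO).symm
        have hcQ : (Nat.card Q).Coprime (Nat.card D) := by
          rw [hn]
          exact (hcR.pow_left n).coprime_dvd_right (Subgroup.card_dvd_of_le inf_le_left)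
        have hDsol : Group.IsSolvable D := Group.isSolvable_of_isSolvable_injective
          (f := Subgroup.inclusion (inf_le_left : D ≤ R)) (Subgroup.inclusion_injective _)
        have hDP : D ≤ Subgroup.centralizer (P : Set H) := by
          rw [← Solv.commutator_sup_centralizer Q D hQD hcQ (Or.inr hDsol)]
          refine sup_le ((Subgroup.commutator_mono ((inf_le_left : D ≤ R).trans hRFs) le_rfl).trans
            (hL.ge.trans hLP)) (le_trans ?_ hFP)
          rw [hFeq]
          exact le_inf (inf_le_left.trans (inf_le_left.trans hRFs))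
            (Subgroup.le_centralizer_iff.1 (sup_le
              (Subgroup.le_centralizer_iff.1 (inf_le_left.trans inf_le_right))
              (Subgroup.le_centralizer_iff.1 inf_le_right)))
        rw [← Subgroup.commutator_eq_bot_iff_le_centralizer]
        refine Solv.commutator_eq_bot_of_commutator_commutator_eq_bot P R
          (by rw [Subgroup.normalizer_eq_top]; exact le_top) ?_ (Or.inr inferInstance) ?_
        · rw [hm]; exact hcR.pow_left m
        · exact le_bot_iff.1 ((Subgroup.commutator_mono hRP le_rfl).trans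
            (Subgroup.commutator_eq_bot_iff_le_centralizer.2 hDP).le)
    rw [Nat.coprime_comm, (Fact.out : p.Prime).coprime_iff_not_dvd]
    intro hdvd
    obtain ⟨x, hx⟩ := exists_prime_orderOf_dvd_card' p hdvd
    have hP : IsPGroup p ↥(Subgroup.zpowers (x : H)) :=
      IsPGroup.of_card (n := 1) (by rw [Nat.card_zpowers, Subgroup.orderOf_coe, hx, pow_one])
    have := key _ hP (Subgroup.zpowers_le.2 x.2)
    rw [Subgroup.zpowers_eq_bot, OneMemClass.coe_eq_one] at this
    rw [this, orderOf_one] at hx
    exact (Fact.out : p.Prime).ne_one hx.symm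

end Cfsg.Agent.S2817
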