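import Cfsg.Statements.S2818
import Cfsg.Agent.S0013
import Cfsg.Agent.Lib.Solv.Thompson
-- import your own Cfsg.Agent.* helpers here

set_option autoImplicit false
open Cfsg

namespace Cfsg.Agent.S2818
open scoped commutatorElement

/-- Let P be a finite p-subgroup of a group G and H a subgroup of N_G(P) with [P, H] ≤ Ω₁(Z(P)) (the elements of order dividing p in the centre of P). Then H centralizes the Frattini subgroup of P. -/
theorem result {G : Type*} [Group G] [Finite G] {p : ℕ} [Fact p.Prime] (P : Subgroup G) (hP : IsPGroup p ↥P) (H : Subgroup G) (hH : H ≤ Subgroup.normalizer (P : Set G)) (h : ⁅P, H⁆ ≤ Cfsg.omegaOne p (P ⊓ Subgroup.centralizer (P : Set G))) : ⁅(frattini ↥P).map P.subtype, H⁆ = ⊥ := by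
  classical
  rw [Subgroup.commutator_eq_bot_iff_le_centralizer]
  rintro _ ⟨x, hx, rfl⟩
  rw [Subgroup.mem_centralizer_iff]
  intro g hg
  have hZ : ∀ y ∈ omegaOne p (P ⊓ Subgroup.centralizer (P : Set G)), y ∈ P ∧ (∀ a ∈ P, a * y = y * a) ∧ y ^ p = 1 := by
    intro y hy
    refine Subgroup.closure_induction (fun a ha => ⟨ha.1.1, fun b hb => Subgroup.mem_centralizer_iff.1 ha.1.2 b hb, ha.2⟩)
      ⟨P.one_mem, fun _ _ => by simp, one_pow p⟩ ?_ ?_ hy
    · rintro a b - - ⟨ha, ha', ha''⟩ ⟨hb, hb', hb''⟩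
      exact ⟨mul_mem ha hb, fun c hc => by rw [← mul_assoc, ha' c hc, mul_assoc, hb' c hc, mul_assoc],
        by rw [(show Commute a b from hb' a ha).mul_pow, ha'', hb'', one_mul]⟩
    · rintro a - ⟨ha, ha', ha''⟩
      exact ⟨inv_mem ha, fun c hc => ((show Commute c a from ha' c hc).inv_right).eq, by rw [inv_pow, ha'', inv_one]⟩
  have hd : ∀ a ∈ P, g * a * g⁻¹ * a⁻¹ ∈ omegaOne p (P ⊓ Subgroup.centralizer (P : Set G)) := by
    intro a ha
    have h1 : ⁅g, a⁆ ∈ ⁅H, P⁆ := Subgroup.commutator_mem_commutator hg ha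
    rw [Subgroup.commutator_comm] at h1
    exact h h1
  let N : Subgroup P :=
    { carrier := {a | g * (a : G) * g⁻¹ = a}
      one_mem' := by simp
      mul_mem' := fun {a b} (ha : g * a * g⁻¹ = a) (hb : g * b * g⁻¹ = b) => by
        show g * ((a : G) * b) * g⁻¹ = a * b
        calc g * ((a : G) * b) * g⁻¹ = (g * a * g⁻¹) * (g * b * g⁻¹) := by group
          _ = a * b := by rw [ha, hb]
      inv_mem' := fun {a} (ha : g * a * g⁻¹ = a) => by
        show g * (a : G)⁻¹ * g⁻¹ = (a : G)⁻¹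
        rw [show g * (a : G)⁻¹ * g⁻¹ = (g * a * g⁻¹)⁻¹ by group, ha] }
  have hN1 : commutator P ≤ N := by
    rw [commutator_def, Subgroup.commutator_le]
    intro a _ b _
    show g * ((⁅a, b⁆ : P) : G) * g⁻¹ = _
    simp only [commutatorElement_def, Subgroup.coe_mul, Subgroup.coe_inv]
    obtain ⟨u, hu, eu⟩ : ∃ u, (∀ c ∈ P, c * u = u * c) ∧ g * (a : G) * g⁻¹ = u * a :=
      ⟨_, (hZ _ (hd a a.2)).2.1, by group⟩
    obtain ⟨v, hv, ev⟩ : ∃ v, (∀ c ∈ P, c * v = v * c) ∧ g * (b : G) * g⁻¹ = v * b :=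
      ⟨_, (hZ _ (hd b b.2)).2.1, by group⟩
    calc g * ((a : G) * b * (a : G)⁻¹ * (b : G)⁻¹) * g⁻¹
        = (g * a * g⁻¹) * (g * b * g⁻¹) * (g * a * g⁻¹)⁻¹ * (g * b * g⁻¹)⁻¹ := by group
      _ = u * (((a : G) * v) * b * (a : G)⁻¹ * u⁻¹ * ((b : G)⁻¹ * v⁻¹)) := by rw [eu, ev]; group
      _ = u * (v * ((a : G) * b * (a : G)⁻¹) * u⁻¹ * ((b : G)⁻¹ * v⁻¹)) := by rw [hv a a.2]; group
      _ = u * (v * (((a : G) * b * (a : G)⁻¹) * u⁻¹) * ((b : G)⁻¹ * v⁻¹)) := by group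
      _ = u * (v * (u⁻¹ * ((a : G) * b * (a : G)⁻¹)) * ((b : G)⁻¹ * v⁻¹)) := by
          rw [((show Commute ((a : G) * b * (a : G)⁻¹) u from hu _ (mul_mem (mul_mem a.2 b.2) (inv_mem a.2))).inv_right).eq]
      _ = (u * v * u⁻¹) * (((a : G) * b * (a : G)⁻¹ * (b : G)⁻¹) * v⁻¹) := by group
      _ = (u * v * u⁻¹) * (v⁻¹ * ((a : G) * b * (a : G)⁻¹ * (b : G)⁻¹)) := by
          rw [((show Commute ((a : G) * b * (a : G)⁻¹ * (b : G)⁻¹) v from hv _
            (mul_mem (mul_mem (mul_mem a.2 b.2) (inv_mem a.2)) (inv_mem b.2))).inv_right).eq]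
      _ = (a : G) * b * (a : G)⁻¹ * (b : G)⁻¹ := by
          have huv : Commute u v := by
            have h1 := hv _ ((hZ _ (hd a a.2)).1)
            have h2 : g * (a : G) * g⁻¹ * (a : G)⁻¹ = u := by rw [eu]; group
            rwa [h2] at h1
          rw [huv.eq]; group
  have hN2 : ∀ a : P, a ^ p ∈ N := by
    intro a
    obtain ⟨-, hu, hup⟩ := hZ _ (hd a a.2)
    show g * ((a ^ p : P) : G) * g⁻¹ = _
    rw [Subgroup.coe_pow, ← conj_pow]
    rw [show g * (a : G) * g⁻¹ = (g * a * g⁻¹ * (a : G)⁻¹) * a by group,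
      (show Commute (g * a * g⁻¹ * (a : G)⁻¹) (a : G) from (hu a a.2).symm).mul_pow, hup, one_mul]
  haveI : N.Normal := ⟨fun a ha c => by simpa [commutatorElement_def] using mul_mem (hN1 (Subgroup.commutator_mem_commutator (Subgroup.mem_top c) (Subgroup.mem_top a))) ha⟩
  have h1 : g * (x : G) * g⁻¹ = x := S0013.result p hP N hN1 hN2 hx
  calc g * (x : G) = (g * x * g⁻¹) * g := by group
    _ = (x : G) * g := by rw [h1]

end Cfsg.Agent.S2818
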