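import Cfsg.Statements.S2819
import Cfsg.Agent.S0013
import Cfsg.Agent.Lib.Struct.CoprimeMinimal
import Cfsg.Agent.Lib.Local.CharPBasics
-- import your own Cfsg.Agent.* helpers here

set_option autoImplicit false
open Cfsg

namespace Cfsg.Agent.S2819
open scoped commutatorElement

/-- Let P be a finite p-subgroup of a group G, H a subgroup of N_G(P), and Y a subgroup of H centralizing the derived subgroup P' such that [P, Y] is elementary abelian. Then O^p(⟨Y^H⟩), the subgroup of the normal closure of Y in H generated by its elements of order prime to p, centralizes the Frattini subgroup of P. -/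
theorem result {G : Type*} [Group G] [Finite G] {p : ℕ} [Fact p.Prime] (P : Subgroup G) (hP : IsPGroup p ↥P) (H : Subgroup G) (hH : H ≤ Subgroup.normalizer (P : Set G)) (Y : Subgroup G) (hYH : Y ≤ H) (hYc : Y ≤ Subgroup.centralizer ((⁅P, P⁆ : Subgroup G) : Set G)) (hel : Cfsg.IsElementaryAbelian p ⁅P, Y⁆) (NY : Subgroup G) (hNY : NY = (Subgroup.normalClosure ((Y.subgroupOf H : Subgroup ↥H) : Set ↥H)).map H.subtype) : (Cfsg.pResidual p ↥NY).map NY.subtype ≤ Subgroup.centralizer (((frattini ↥P).map P.subtype : Subgroup G) : Set G) := by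
  classical
  set D : Subgroup G := ⁅P, P⁆ with hD
  set Φ : Subgroup G := (frattini ↥P).map P.subtype with hΦ
  have hHD : H ≤ Subgroup.normalizer (D : Set G) :=
    (le_inf hH hH).trans (Solv.normalizer_le_normalizer_commutator P P)
  have hHΦ : H ≤ Subgroup.normalizer (Φ : Set G) := Struct.CoprimeMinimal.le_normalizer_map_char H P hH _
  have hYP : ∀ y ∈ Y, ∀ x ∈ P, y * x * y⁻¹ * x⁻¹ ∈ ⁅P, Y⁆ := fun y hy x hx => by
    have := Subgroup.commutator_mem_commutator (H₁ := Y) (H₂ := P) hy hx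
    rwa [Subgroup.commutator_comm, commutatorElement_def] at this
  -- `Y` centralizes `Φ(P)` modulo `P'`
  have hY : ∀ y ∈ Y, ∀ f ∈ Φ, y * f * y⁻¹ * f⁻¹ ∈ D := by
    intro y hy
    have hyD : ∀ d ∈ D, y * d * y⁻¹ = d := fun d hd => by
      rw [← Subgroup.mem_centralizer_iff.1 (hYc hy) d hd, mul_inv_cancel_right]
    have hPD : ∀ f ∈ P, ∀ d ∈ D, f * d * f⁻¹ ∈ D := fun f hf d hd =>
      (Subgroup.mem_normalizer_iff.1 (Subgroup.normalizer_commutator_ge_left P P hf) d).1 hd
    let T : Subgroup P :=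
      { carrier := {f | y * (f : G) * y⁻¹ * (f : G)⁻¹ ∈ D}
        one_mem' := by simp
        mul_mem' := by
          intro a b ha hb
          show y * ((a : G) * b) * y⁻¹ * ((a : G) * b)⁻¹ ∈ D
          rw [show y * ((a : G) * b) * y⁻¹ * ((a : G) * b)⁻¹ = (y * a * y⁻¹ * (a : G)⁻¹) *
            ((a : G) * (y * b * y⁻¹ * (b : G)⁻¹) * (a : G)⁻¹) by group]
          exact mul_mem ha (hPD a a.2 _ hb)
        inv_mem' := by
          intro a ha
          show y * (a : G)⁻¹ * y⁻¹ * (a : G)⁻¹⁻¹ ∈ D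
          rw [show y * (a : G)⁻¹ * y⁻¹ * (a : G)⁻¹⁻¹ =
            (a : G)⁻¹ * (y * a * y⁻¹ * (a : G)⁻¹)⁻¹ * ((a : G)⁻¹)⁻¹ by group]
          exact hPD _ (inv_mem a.2) _ (inv_mem ha) }
    have hcT : commutator P ≤ T := by
      intro f hf
      have hfD : (f : G) ∈ D := by rw [hD, ← Subgroup.map_subtype_commutator P]; exact ⟨f, hf, rfl⟩
      show y * (f : G) * y⁻¹ * (f : G)⁻¹ ∈ D
      rw [hyD _ hfD, mul_inv_cancel]
      exact one_mem _
    haveI : T.Normal := Subgroup.Normal.of_commutator_le P hcT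
    have hle : frattini P ≤ T := S0013.result p hP T hcT fun x => by
      set c' := y * (x : G) * y⁻¹ * (x : G)⁻¹
      have hc'P : c' ∈ P :=
        mul_mem ((Subgroup.mem_normalizer_iff.1 (hH (hYH hy)) _).1 x.2) (inv_mem x.2)
      set c : P := ⟨c', hc'P⟩
      set q := QuotientGroup.mk' (commutator P)
      have hab : ∀ a b : P, Commute (q a) (q b) := fun a b => by
        show q a * q b = q b * q a
        rw [← commutatorElement_eq_one_iff_mul_comm, ← map_commutatorElement]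
        exact (QuotientGroup.eq_one_iff _).2
          (Subgroup.commutator_mem_commutator (Subgroup.mem_top a) (Subgroup.mem_top b))
      have hcp : c ^ p = 1 := Subtype.ext (hel.2 c' (hYP y hy x x.2))
      have h1 : (c * x) ^ p * (x ^ p)⁻¹ ∈ commutator P := by
        rw [← QuotientGroup.eq_one_iff]
        show q ((c * x) ^ p * (x ^ p)⁻¹) = 1
        rw [map_mul, map_inv, map_pow, map_mul, (hab c x).mul_pow, ← map_pow q c, hcp, map_one, one_mul,
          map_pow, mul_inv_cancel]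
      show y * ((x ^ p : P) : G) * y⁻¹ * ((x ^ p : P) : G)⁻¹ ∈ D
      rw [hD, ← Subgroup.map_subtype_commutator P]
      refine ⟨_, h1, ?_⟩
      show (c' * (x : G)) ^ p * ((x : G) ^ p)⁻¹ = _
      rw [show c' * (x : G) = y * (x : G) * y⁻¹ by simp only [c']; group, conj_pow]
      push_cast
      rfl
    rintro _ ⟨f, hf, rfl⟩
    exact hle hf
  have hΦP : Φ ≤ P := Subgroup.map_subtype_le _
  let S : Subgroup G :=
    { carrier := {g | g ∈ H ∧ g ∈ Subgroup.centralizer (D : Set G) ∧ ∀ f ∈ Φ, g * f * g⁻¹ * f⁻¹ ∈ D}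
      one_mem' := ⟨one_mem _, one_mem _, fun f _ => by simp⟩
      mul_mem' := by
        rintro g h ⟨hg, hgc, hg'⟩ ⟨hh, hhc, hh'⟩
        refine ⟨mul_mem hg hh, mul_mem hgc hhc, fun f hf => ?_⟩
        rw [show g * h * f * (g * h)⁻¹ * f⁻¹ =
          (g * (h * f * h⁻¹ * f⁻¹) * g⁻¹) * (g * f * g⁻¹ * f⁻¹) by group]
        exact mul_mem ((Subgroup.mem_normalizer_iff.1 (hHD hg) _).1 (hh' f hf)) (hg' f hf)
      inv_mem' := by
        rintro g ⟨hg, hgc, hg'⟩
        refine ⟨inv_mem hg, inv_mem hgc, fun f hf => ?_⟩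
        rw [show g⁻¹ * f * g⁻¹⁻¹ * f⁻¹ = g⁻¹ * (g * f * g⁻¹ * f⁻¹)⁻¹ * g by group]
        exact (Subgroup.mem_normalizer_iff''.1 (hHD hg) _).1 (inv_mem (hg' f hf)) }
  have hNS : NY ≤ S := by
    rw [hNY, Subgroup.map_le_iff_le_comap, Subgroup.normalClosure, Subgroup.closure_le]
    intro z hz
    obtain ⟨y, hy, hyz⟩ := Group.mem_conjugatesOfSet_iff.1 hz
    obtain ⟨h, rfl⟩ := isConj_iff.1 hyz
    show (h : G) * y * (h : G)⁻¹ ∈ S
    refine ⟨mul_mem (mul_mem h.2 y.2) (inv_mem h.2), ?_, fun f hf => ?_⟩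
    · rw [Subgroup.mem_centralizer_iff]
      intro d hd
      have h1 : ((h : G)⁻¹ * d * h) * (y : G) = y * ((h : G)⁻¹ * d * h) :=
        Subgroup.mem_centralizer_iff.1 (hYc hy) _ ((Subgroup.mem_normalizer_iff''.1 (hHD h.2) d).1 hd)
      calc d * ((h : G) * y * (h : G)⁻¹) = h * (((h : G)⁻¹ * d * h) * y) * (h : G)⁻¹ := by group
        _ = h * (y * ((h : G)⁻¹ * d * h)) * (h : G)⁻¹ := by rw [h1]
        _ = h * y * (h : G)⁻¹ * d := by group
    · have h1 := hY y hy _ ((Subgroup.mem_normalizer_iff''.1 (hHΦ h.2) f).1 hf)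
      have h2 := (Subgroup.mem_normalizer_iff.1 (hHD h.2) _).1 h1
      convert h2 using 1
      group
  rw [Cfsg.pResidual, MonoidHom.map_closure, Subgroup.closure_le]
  rintro _ ⟨l, hl, rfl⟩
  have hlS : (l : G) ∈ S := hNS l.2
  have hl' : (orderOf (l : G)).Coprime p := by rw [Subgroup.orderOf_coe]; exact hl
  refine Local.CharPB.centralizes_of_iterCommutator (hP.to_le hΦP) hl'
    (Subgroup.zpowers_le.2 (hHΦ hlS.1)) (n := 2) (le_bot_iff.1 ?_)
  show ⁅⁅Φ, Subgroup.zpowers (l : G)⁆, Subgroup.zpowers (l : G)⁆ ≤ ⊥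
  have h1 : ⁅Φ, Subgroup.zpowers (l : G)⁆ ≤ D := by
    rw [Subgroup.commutator_comm, Subgroup.commutator_le]
    intro g hg f hf
    have hgS : g ∈ S := Subgroup.zpowers_le.2 hlS hg
    rw [commutatorElement_def]
    exact hgS.2.2 f hf
  refine (Subgroup.commutator_mono h1 le_rfl).trans (le_of_eq ?_)
  rw [Subgroup.commutator_comm, Subgroup.commutator_eq_bot_iff_le_centralizer, Subgroup.zpowers_le]
  exact hlS.2.1

end Cfsg.Agent.S2819
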