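import Cfsg.Statements.S2820
import Cfsg.Agent.Lib.Local.CharPBasics
import Cfsg.Agent.Lib.Solv.Thompson
-- import your own Cfsg.Agent.* helpers here

set_option autoImplicit false
open Cfsg

namespace Cfsg.Agent.S2820

/-- Let A and B be subnormal subgroups of the finite group H with A a p-group and B = O^p(B) (B generated by its elements of order prime to p). Then A normalizes B and B = O^p(AB), the subgroup of ⟨A, B⟩ generated by its elements of order prime to p. -/
theorem result {H : Type*} [Group H] [Finite H] {p : ℕ} [Fact p.Prime] (A B : Subgroup H) (hA : A.IsSubnormal) (hB : B.IsSubnormal) (hAp : IsPGroup p ↥A) (hBres : (Cfsg.pResidual p ↥B).map B.subtype = B) : A ≤ Subgroup.normalizer (B : Set H) ∧ (Cfsg.pResidual p ↥(A ⊔ B)).map (A ⊔ B).subtype = B := by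
  obtain ⟨M, hM, hMp, hAM⟩ : ∃ M : Subgroup H, M.Normal ∧ IsPGroup p M ∧ A ≤ M :=
    ⟨pCore p H, inferInstance, Solv.isPGroup_pCore p H, Solv.le_pCore_of_isSubnormal hA hAp⟩
  haveI := hM
  have key : ∀ K : Subgroup H, B ≤ K → K ≤ M ⊔ B → (pResidual p ↥K).map K.subtype = B := by
    intro K hBK hKM
    refine le_antisymm ?_ ?_
    · rw [Subgroup.map_le_iff_le_comap, pResidual, Subgroup.closure_le]
      intro g hg
      exact Local.CharPB.mem_of_coprime_of_subnormal hB hMp (hKM g.2)
        (by rw [Subgroup.coe_subtype, Subgroup.orderOf_coe]; exact hg)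
    · conv_lhs => rw [← hBres]
      rw [Subgroup.map_le_iff_le_comap, pResidual, Subgroup.closure_le]
      intro g hg
      refine ⟨⟨g, hBK g.2⟩, Solv.mem_pResidual ?_, rfl⟩
      rw [← Subgroup.orderOf_coe, Subgroup.coe_mk]
      rwa [Subgroup.orderOf_coe]
  refine ⟨?_, key (A ⊔ B) le_sup_right (sup_le_sup hAM le_rfl)⟩
  refine le_trans (hAM.trans (le_sup_left : M ≤ M ⊔ B)) ?_
  haveI : (pResidual p ↥(M ⊔ B)).Characteristic := Solv.pResidual_characteristic p _
  conv_rhs => rw [← key (M ⊔ B) le_sup_right le_rfl]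
  intro x hx
  exact Subgroup.le_normalizer_map (M ⊔ B).subtype ⟨⟨x, hx⟩, by
    rw [Subgroup.normalizer_eq_top]; trivial, rfl⟩

end Cfsg.Agent.S2820
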