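import Cfsg.Statements.S2821
import Cfsg.Agent.Lib.Local.SylowCenter
-- import your own Cfsg.Agent.* helpers here

set_option autoImplicit false
open Cfsg

namespace Cfsg.Agent.S2821

/-- Let H be a finite group, p a prime, T a Sylow p-subgroup and L a subgroup of characteristic p containing T; let Y_L be the largest p-reduced normal subgroup of L (the join of the normal elementary abelian p-subgroups V of L with O_p(L/C_L(V)) = 1). Then T₀ := C_T(Y_L) is a Sylow p-subgroup of C_H(Y_L); moreover O_p(L) ≤ T₀ ≤ C_L(Y_L) and Ω₁(Z(T)) ≤ Z_L ≤ Y_L ≤ Ω₁(Z(O_p(L))), where Z_L is generated by the Ω₁(Z(S)) over the Sylow p-subgroups S of L. -/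
theorem result {H : Type*} [Group H] [Finite H] {p : ℕ} [Fact p.Prime] (T : Sylow p H) (L : Subgroup H) (hTL : (T : Subgroup H) ≤ L) (hL : Subgroup.centralizer (Cfsg.pCore p ↥L : Set ↥L) ≤ Cfsg.pCore p ↥L) (T₀ : Subgroup H) (hT₀ : T₀ = (T : Subgroup H) ⊓ Subgroup.centralizer (((Cfsg.largestPReducedOf p L) : Subgroup H) : Set H)) : (∃ P : Sylow p ↥(Subgroup.centralizer (((Cfsg.largestPReducedOf p L) : Subgroup H) : Set H)), (P : Subgroup ↥(Subgroup.centralizer (((Cfsg.largestPReducedOf p L) : Subgroup H) : Set H))) = T₀.subgroupOf (Subgroup.centralizer (((Cfsg.largestPReducedOf p L) : Subgroup H) : Set H))) ∧ (Cfsg.pCoreOf p L) ≤ T₀ ∧ T₀ ≤ L ⊓ Subgroup.centralizer (((Cfsg.largestPReducedOf p L) : Subgroup H) : Set H) ∧ (Cfsg.omegaOne p ((T : Subgroup H) ⊓ Subgroup.centralizer (((T : Subgroup H) : Subgroup H) : Set H))) ≤ Cfsg.sylowCenterClosure p L ∧ Cfsg.sylowCenterClosure p L ≤ (Cfsg.largestPReducedOf p L) ∧ (Cfsg.largestPReducedOf p L) ≤ (Cfsg.omegaOne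 p ((Cfsg.pCoreOf p L) ⊓ Subgroup.centralizer (((Cfsg.pCoreOf p L) : Subgroup H) : Set H))) := by
  set T' : Subgroup H := (T : Subgroup H) with hT'
  set C := Subgroup.centralizer (((Cfsg.largestPReducedOf p L) : Subgroup H) : Set H) with hC
  set K := Subgroup.normalizer (((Cfsg.largestPReducedOf p L) : Subgroup H) : Set H) with hK
  subst hT₀
  have hCK : C ≤ K := Subgroup.centralizer_le_normalizer _
  have hLK : L ≤ K := by
    refine Solv.le_normalizer_of_conj_mem ?_
    rintro a ha _ ⟨y, hy, rfl⟩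
    exact ⟨⟨a, ha⟩ * y * ⟨a, ha⟩⁻¹, (Local.LargestPR.largest_normal).conj_mem y hy _, rfl⟩
  have hTK : T' ≤ K := hTL.trans hLK
  have hOT : Cfsg.pCoreOf p L ≤ T' := by
    rintro _ ⟨x, hx, rfl⟩
    have h := Solv.pCore_le_sylow (T.subtype hTL) hx
    exact h
  have hOC : Cfsg.pCoreOf p L ≤ C := by
    rintro _ ⟨x, hx, rfl⟩
    rw [Subgroup.mem_centralizer_iff]
    rintro _ ⟨y, hy, rfl⟩
    exact congrArg Subtype.val (Subgroup.mem_centralizer_iff.1
      (Local.LargestPR.pCore_le_centralizer Local.LargestPR.largest_spec hx) y hy)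
  refine ⟨?_, le_inf hOT hOC, inf_le_inf_right _ hTL, ?_, ?_, ?_⟩
  · have hp0 : IsPGroup p ((T' ⊓ C).subgroupOf C) :=
      (T.isPGroup'.to_le inf_le_left).comap_subtype
    refine ⟨hp0.toSylow ?_, rfl⟩
    haveI : (C.subgroupOf K).Normal := by
      refine ⟨fun c hc k => ?_⟩
      rw [Subgroup.mem_subgroupOf, Subgroup.mem_centralizer_iff] at hc ⊢
      intro y hy
      have h1 := hc _ ((Subgroup.mem_normalizer_iff''.1 k.2 y).1 hy)
      push_cast
      calc y * ((k : H) * c * (k : H)⁻¹) = k * (((k : H)⁻¹ * y * k) * c) * (k : H)⁻¹ := by group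
        _ = k * (c * ((k : H)⁻¹ * y * k)) * (k : H)⁻¹ := by rw [h1]
        _ = k * c * (k : H)⁻¹ * y := by group
    have h := Local.SylowCenter.not_dvd_relIndex_normal (T.subtype hTK) (C.subgroupOf K)
    rw [Sylow.coe_subtype, Subgroup.relIndex_subgroupOf hCK] at h
    show ¬ p ∣ (T' ⊓ C).relIndex C
    rwa [Subgroup.inf_relIndex_right]
  · rw [Local.SylowCenter.sylowCenterClosure_eq]
    refine (Subgroup.closure_le _).2 fun x hx => ⟨⟨x, hTL hx.1.1⟩, ?_, rfl⟩
    refine le_iSup (fun S : Sylow p L => Cfsg.omegaOne p ((S : Subgroup L) ⊓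
      Subgroup.centralizer ((S : Subgroup L) : Set L))) (T.subtype hTL)
      (Local.SylowCenter.omega_mem (Subgroup.mem_inf.2 ⟨hx.1.1, Subgroup.mem_centralizer_iff.2
        fun s hs => Subtype.ext (Subgroup.mem_centralizer_iff.1 hx.1.2 s hs)⟩) (Subtype.ext hx.2))
  · rw [Local.SylowCenter.sylowCenterClosure_eq]
    exact Subgroup.map_mono (Local.LargestPR.le_largest (Local.SylowCenter.zJoin_isPReducedNormal hL))
  · rintro _ ⟨y, hy, rfl⟩
    refine Local.SylowCenter.omega_mem (Subgroup.mem_inf.2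
      ⟨⟨y, Local.LargestPR.le_pCore Local.LargestPR.largest_spec hy, rfl⟩, ?_⟩)
      (congrArg Subtype.val ((Local.LargestPR.largest_spec (p := p)).2.1.2 y hy))
    rw [Subgroup.mem_centralizer_iff]
    rintro _ ⟨o, ho, rfl⟩
    exact congrArg Subtype.val (Subgroup.mem_centralizer_iff.1
      (Local.LargestPR.pCore_le_centralizer Local.LargestPR.largest_spec ho) y hy).symm

end Cfsg.Agent.S2821
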