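import Cfsg.Statements.S2823
import Cfsg.Agent.Lib.Local.SylowCenter
-- import your own Cfsg.Agent.* helpers here

set_option autoImplicit false
open Cfsg

namespace Cfsg.Agent.S2823
open scoped commutatorElement

/-- Let H be a finite group, p a prime, T a Sylow p-subgroup and L a subgroup of characteristic p containing T; let Z_L be the subgroup generated by the Ω₁(Z(S)) over the Sylow p-subgroups S of L and O^p(L) the subgroup generated by the elements of L of order prime to p. Then Z_L = Ω₁(Z(L))·[Z_L, O^p(L)] and [Z_L, L] = [Z_L, O^p(L)]. -/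
theorem result {H : Type*} [Group H] [Finite H] {p : ℕ} [Fact p.Prime] (T : Sylow p H) (L : Subgroup H) (hTL : (T : Subgroup H) ≤ L) (hL : Subgroup.centralizer (Cfsg.pCore p ↥L : Set ↥L) ≤ Cfsg.pCore p ↥L) : Cfsg.sylowCenterClosure p L = (Cfsg.omegaOne p (L ⊓ Subgroup.centralizer ((L : Subgroup H) : Set H))) ⊔ ⁅Cfsg.sylowCenterClosure p L, (Cfsg.pResidual p ↥L).map L.subtype⁆ ∧ ⁅Cfsg.sylowCenterClosure p L, L⁆ = ⁅Cfsg.sylowCenterClosure p L, (Cfsg.pResidual p ↥L).map L.subtype⁆ := by
  have hn : (Local.SylowCenter.zJoin p L).Normal := Local.SylowCenter.zJoin_normal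
  set Z := Local.SylowCenter.zJoin p L with hZ
  set R := ⁅Z, Cfsg.pResidual p ↥L⁆ with hR
  haveI hRn : R.Normal := Subgroup.commutator_normal Z _
  have hZe := (Local.SylowCenter.zJoin_isPReducedNormal hL).2.1
  haveI := hZe.1
  set W := Cfsg.omegaOne p (Subgroup.center L) with hW
  have hWeq : Cfsg.omegaOne p (L ⊓ Subgroup.centralizer ((L : Subgroup H) : Set H)) = W.map L.subtype := by
    rw [hW, Local.Amalgam.omegaOne_map _ L.subtype_injective]
    congr 1
    ext x
    constructor
    · rintro ⟨hx, hxc⟩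
      exact ⟨⟨x, hx⟩, Subgroup.mem_center_iff.2 fun d => Subtype.ext (Subgroup.mem_centralizer_iff.1 hxc d d.2), rfl⟩
    · rintro ⟨y, hy, rfl⟩
      exact Subgroup.mem_inf.2 ⟨y.2, Subgroup.mem_centralizer_iff.2 fun d hd =>
        congrArg Subtype.val (Subgroup.mem_center_iff.1 hy ⟨d, hd⟩)⟩
  have hWS : ∀ S : Sylow p L, W ≤ Cfsg.omegaOne p ((S : Subgroup L) ⊓
      Subgroup.centralizer ((S : Subgroup L) : Set L)) := fun S =>
    (Subgroup.closure_le _).2 fun x hx => Local.SylowCenter.omega_mem (Subgroup.mem_inf.2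
      ⟨Local.SylowCenter.center_le_sylow hL S hx.1,
        Subgroup.mem_centralizer_iff.2 fun d _ => Subgroup.mem_center_iff.1 hx.1 d⟩) hx.2
  have hRZ : R ≤ Z := Subgroup.commutator_le_left _ _
  have hZeq : Z = W ⊔ R := by
    refine le_antisymm (iSup_le fun S => (Subgroup.closure_le _).2 fun z hz => ?_)
      (sup_le ?_ hRZ)
    · have hzZ : z ∈ Z := le_iSup (fun S : Sylow p L => Cfsg.omegaOne p ((S : Subgroup L) ⊓
        Subgroup.centralizer ((S : Subgroup L) : Set L))) S (Local.SylowCenter.omega_mem hz.1 hz.2)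
      obtain ⟨n, hn', c, hcZ, hc, hmem⟩ := Local.SylowCenter.exists_split S Z hzZ
        (Subgroup.mem_centralizer_iff.1 hz.1.2)
      refine Local.SylowCenter.mem_of_pow_mem hz.2 hn' ?_
      rw [show z ^ n = z ^ n * c⁻¹ * c by group]
      exact mul_mem (Subgroup.mem_sup_right hmem)
        (Subgroup.mem_sup_left (Local.SylowCenter.omega_mem hc (hZe.2 c hcZ)))
    · obtain ⟨S⟩ := Sylow.nonempty (p := p) (G := L)
      exact (hWS S).trans (le_iSup (fun S : Sylow p L => Cfsg.omegaOne p ((S : Subgroup L) ⊓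
        Subgroup.centralizer ((S : Subgroup L) : Set L))) S)
  have hcomm : ⁅Z, (⊤ : Subgroup L)⁆ = R := by
    refine le_antisymm ?_ (Subgroup.commutator_mono le_rfl le_top)
    set f := QuotientGroup.mk' R
    have h1 : Z.map f ≤ Subgroup.center (↥L ⧸ R) := by
      rw [hZ, Subgroup.map_iSup]
      refine iSup_le fun S => ?_
      rintro _ ⟨z, hz, rfl⟩
      rw [Subgroup.mem_center_iff]
      intro q
      obtain ⟨d, rfl⟩ := QuotientGroup.mk'_surjective R q
      have hzS : z ∈ Subgroup.centralizer ((S : Subgroup L) : Set L) :=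
        ((Local.Amalgam.omegaOne_le _).trans inf_le_right) hz
      have hzZ : z ∈ Z := le_iSup (fun S : Sylow p L => Cfsg.omegaOne p ((S : Subgroup L) ⊓
        Subgroup.centralizer ((S : Subgroup L) : Set L))) S hz
      have h2 : (Subgroup.centralizer ({f z} : Set (↥L ⧸ R))).comap f = ⊤ := by
        refine top_le_iff.1 ((Solv.sup_pResidual_eq_top S).ge.trans (sup_le ?_ ?_))
        · intro s hs
          show f s ∈ Subgroup.centralizer ({f z} : Set (↥L ⧸ R))
          rw [Subgroup.mem_centralizer_singleton_iff, ← map_mul, ← map_mul,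
            Subgroup.mem_centralizer_iff.1 hzS s hs]
        · intro o ho
          show f o ∈ Subgroup.centralizer ({f z} : Set (↥L ⧸ R))
          rw [Subgroup.mem_centralizer_singleton_iff]
          refine Eq.symm (commutatorElement_eq_one_iff_mul_comm.1 ?_)
          rw [← map_commutatorElement]
          exact (QuotientGroup.eq_one_iff _).2 (Subgroup.commutator_mem_commutator hzZ ho)
      have h3 : d ∈ (Subgroup.centralizer ({f z} : Set (↥L ⧸ R))).comap f := h2 ▸ Subgroup.mem_top d
      exact Subgroup.mem_centralizer_singleton_iff.1 h3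
    refine Subgroup.commutator_le.2 fun z hz d _ => (QuotientGroup.eq_one_iff (N := R) _).1 ?_
    show f ⁅z, d⁆ = 1
    rw [map_commutatorElement, commutatorElement_eq_one_iff_mul_comm]
    exact (Subgroup.mem_center_iff.1 (h1 ⟨z, hz, rfl⟩) (f d)).symm
  rw [Local.SylowCenter.sylowCenterClosure_eq, hWeq, ← Subgroup.map_commutator, ← Subgroup.map_sup]
  refine ⟨congrArg (Subgroup.map L.subtype) hZeq, ?_⟩
  have e : L = (⊤ : Subgroup L).map L.subtype := by rw [← MonoidHom.range_eq_map, Subgroup.range_subtype]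
  refine (congrArg (fun A : Subgroup H => ⁅Z.map L.subtype, A⁆) e).trans ?_
  rw [← Subgroup.map_commutator, hcomm]

end Cfsg.Agent.S2823
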