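import Cfsg.Statements.S2825
import Cfsg.Agent.Lib.Local.LargestPReduced
-- import your own Cfsg.Agent.* helpers here

set_option autoImplicit false
open Cfsg

namespace Cfsg.Agent.S2825

/-- Let L be a subnormal subgroup of the finite group H, p a prime, Y_H and Y_L the largest p-reduced normal subgroups. Then Y_H ∩ L = Y_H ∩ Y_L and this subgroup is a p-reduced normal subgroup of L; C_L(Y_L) = C_L(Y_H) = C_L(Y_H ∩ L); and if O^p(H) ≤ L, then [Y_L, L] = 1 if and only if [Y_H, H] = 1. -/
theorem result {H : Type*} [Group H] [Finite H] {p : ℕ} [Fact p.Prime] (L : Subgroup H) (hL : L.IsSubnormal) : Cfsg.largestPReduced p H ⊓ L = Cfsg.largestPReduced p H ⊓ (Cfsg.largestPReducedOf p L) ∧ Cfsg.IsPReducedNormal p ((Cfsg.largestPReduced p H ⊓ L).subgroupOf L) ∧ L ⊓ Subgroup.centralizer ((Cfsg.largestPReducedOf p L : Subgroup H) : Set H) = L ⊓ Subgroup.centralizer (Cfsg.largestPReduced p H : Set H) ∧ L ⊓ Subgroup.centralizer (Cfsg.largestPReduced p H : Set H) = L ⊓ Subgroup.centralizer ((Cfsg.largestPReduced p H ⊓ L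 : Subgroup H) : Set H) ∧ (Cfsg.pResidual p H ≤ L → (⁅(Cfsg.largestPReducedOf p L), L⁆ = ⊥ ↔ ⁅Cfsg.largestPReduced p H, (⊤ : Subgroup H)⁆ = ⊥)) := by
  have hYn : (largestPReduced p H).Normal := Local.LargestPR.largest_normal
  set Y := largestPReduced p H with hY
  have hred := Local.LargestPR.isPReducedNormal_inf (p := p) hL
  have hZ : Y ⊓ L ≤ largestPReducedOf p L := fun x hx =>
    ⟨⟨x, (Subgroup.mem_inf.1 hx).2⟩, Local.LargestPR.le_largest hred hx, rfl⟩
  have hYL : largestPReducedOf p L ≤ L := Subgroup.map_subtype_le _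
  have hcent : ∀ S : Subgroup H, L ≤ Subgroup.normalizer (S : Set H) →
      L ≤ Subgroup.normalizer (Subgroup.centralizer (S : Set H) : Set H) := by
    intro S hS
    refine Solv.le_normalizer_of_conj_mem fun a ha c hc => ?_
    rw [Subgroup.mem_centralizer_iff]
    intro s hs
    have h1 := Subgroup.mem_centralizer_iff.1 hc _ ((Subgroup.mem_normalizer_iff''.1 (hS ha) s).1 hs)
    calc s * (a * c * a⁻¹) = a * ((a⁻¹ * s * a) * c) * a⁻¹ := by group
      _ = a * (c * (a⁻¹ * s * a)) * a⁻¹ := by rw [h1]
      _ = a * c * a⁻¹ * s := by group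
  have h4 : L ⊓ Subgroup.centralizer (Y : Set H) = L ⊓ Subgroup.centralizer ((Y ⊓ L : Subgroup H) : Set H) := by
    refine le_antisymm (inf_le_inf_left _ (Subgroup.centralizer_le (SetLike.coe_subset_coe.2 inf_le_left)))
      (le_inf inf_le_left ?_)
    refine Local.PReduced.le_centralizer_of_subnormal Local.LargestPR.largest_spec ?_ fun x hx hco =>
      Local.LargestPR.mem_centralizer_of_inf Local.LargestPR.isPGroup_largest hL hx.1 hco hx.2
    refine Subgroup.IsSubnormal.trans inf_le_left (Subgroup.Normal.isSubnormal ?_) hL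
    rw [Subgroup.normal_subgroupOf_iff_le_normalizer inf_le_left]
    exact le_trans (le_inf Subgroup.le_normalizer (hcent _ (le_trans (le_inf
      (Subgroup.normalizer_eq_top Y ▸ le_top) Subgroup.le_normalizer)
      Subgroup.inf_normalizer_le_normalizer_inf))) Subgroup.inf_normalizer_le_normalizer_inf
  have h3 : L ⊓ Subgroup.centralizer ((largestPReducedOf p L : Subgroup H) : Set H) =
      L ⊓ Subgroup.centralizer (Y : Set H) := by
    refine le_antisymm ?_ (le_inf inf_le_left (Local.LargestPR.inf_centralizer_le hL))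
    rw [h4]
    exact inf_le_inf_left _ (Subgroup.centralizer_le (SetLike.coe_subset_coe.2 hZ))
  refine ⟨le_antisymm (le_inf inf_le_left hZ) (inf_le_inf_left _ hYL), hred, h3, h4, fun hres => ?_⟩
  rw [Subgroup.commutator_comm, Subgroup.commutator_eq_bot_iff_le_centralizer,
    Subgroup.commutator_comm Y, Subgroup.commutator_eq_bot_iff_le_centralizer]
  constructor
  · intro h
    have hLY : L ≤ Subgroup.centralizer (Y : Set H) := (le_inf le_rfl h).trans (h3.le.trans inf_le_right)
    exact Local.PReduced.le_centralizer_of_subnormal Local.LargestPR.largest_spec Subgroup.IsSubnormal.top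
      fun x _ hco => hLY (hres (Subgroup.subset_closure hco))
  · intro h
    exact (le_inf le_rfl (le_top.trans h)).trans (Local.LargestPR.inf_centralizer_le hL)

end Cfsg.Agent.S2825
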