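import Cfsg.Statements.S2826
import Cfsg.Agent.Lib.Local.SylowCenter
-- import your own Cfsg.Agent.* helpers here

set_option autoImplicit false
open Cfsg

namespace Cfsg.Agent.S2826

/-- Let H be a finite group of characteristic p, T a Sylow p-subgroup, and V a normal elementary abelian p-subgroup of H containing Ω₁(Z(T)). Then C_H(Ω₁(Z(T))) = C_H([V, O^p(H)] ∩ Ω₁(Z(T))), O^p(H) being generated by the elements of order prime to p. -/
theorem result {H : Type*} [Group H] [Finite H] {p : ℕ} [Fact p.Prime] (hH : Subgroup.centralizer (Cfsg.pCore p H : Set H) ≤ Cfsg.pCore p H) (T : Sylow p H) (V : Subgroup H) [V.Normal] (hV : Cfsg.IsElementaryAbelian p V) (hZV : (Cfsg.omegaOne p ((T : Subgroup H) ⊓ Subgroup.centralizer (((T : Subgroup H) : Subgroup H) : Set H))) ≤ V) : Subgroup.centralizer ((Cfsg.omegaOne p ((T : Subgroup H) ⊓ Subgroup.centralizer (((T : Subgroup H) : Subgroup H) : Set H))) : Set H) = Subgroup.centralizer (((⁅V, Cfsg.pResidual p H⁆ ⊓ (Cfsg.omegaOne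 p ((T : Subgroup H) ⊓ Subgroup.centralizer (((T : Subgroup H) : Subgroup H) : Set H)))) : Subgroup H) : Set H) := by
  refine le_antisymm (Subgroup.centralizer_le (SetLike.coe_subset_coe.2 inf_le_right)) fun h hh => ?_
  haveI := hV.1
  set T' : Subgroup H := (T : Subgroup H) with hT'
  set R := ⁅V, Cfsg.pResidual p H⁆ with hR
  set Z := Cfsg.omegaOne p (T' ⊓ Subgroup.centralizer (T' : Set H)) with hZ
  rw [Subgroup.mem_centralizer_iff]
  intro z hz
  have hzT : z ∈ T' ⊓ Subgroup.centralizer (T' : Set H) := Local.Amalgam.omegaOne_le _ hz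
  have hzV : z ∈ V := hZV hz
  obtain ⟨n, hn, c, hcV, hc, hmem⟩ := Local.SylowCenter.exists_split T V hzV
    (Subgroup.mem_centralizer_iff.1 hzT.2)
  have hrV : z ^ n * c⁻¹ ∈ V := mul_mem (pow_mem hzV n) (inv_mem hcV)
  have hcT : c ∈ T' ⊓ Subgroup.centralizer (T' : Set H) :=
    Subgroup.mem_inf.2 ⟨Local.SylowCenter.center_le_sylow hH T hc,
      Subgroup.mem_centralizer_iff.2 fun t _ => Subgroup.mem_center_iff.1 hc t⟩
  have hrZ : z ^ n * c⁻¹ ∈ R ⊓ Z := Subgroup.mem_inf.2 ⟨hmem,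
    Local.SylowCenter.omega_mem (mul_mem (pow_mem hzT n) (inv_mem hcT)) (hV.2 _ hrV)⟩
  have h1 : z ^ n ∈ Subgroup.centralizer ({h} : Set H) := by
    rw [show z ^ n = z ^ n * c⁻¹ * c by group]
    exact mul_mem (Subgroup.mem_centralizer_singleton_iff.2 (Subgroup.mem_centralizer_iff.1 hh _ hrZ))
      (Subgroup.mem_centralizer_singleton_iff.2 (Subgroup.mem_center_iff.1 hc h).symm)
  exact Subgroup.mem_centralizer_singleton_iff.1 (Local.SylowCenter.mem_of_pow_mem (hV.2 z hzV) hn h1)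

end Cfsg.Agent.S2826
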