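import Cfsg.Statements.S2830
import Cfsg.Agent.Lib.Local.IrreducibleQuotient
import Cfsg.Prelude.Def_Amalgam
-- import your own Cfsg.Agent.* helpers here

set_option autoImplicit false
open Cfsg

namespace Cfsg.Agent.S2830
open Cfsg.Agent


/-- Let H act by conjugation on the elementary abelian p-subgroup V of a finite group G (H ≤ N(V)), with H p-irreducible and O^p(H) not centralizing V. Then C_H(V) is p-closed and C_T(V) ≤ O_p(H) for every p-subgroup T of H. If in addition O_p(H) centralizes V, then C_T(V) = T ∩ O_p(H) for every p-subgroup T of H, and V is p-reduced for H: O_p(H/C_H(V)) = 1. -/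
theorem result {G : Type*} [Group G] [Finite G] {p : ℕ} [Fact p.Prime] (V H : Subgroup G) (hV : Cfsg.IsElementaryAbelian p V) (hHV : H ≤ Subgroup.normalizer (V : Set G)) (hH : Cfsg.IsPIrreducible p ↥H) (hnc : ¬ (Cfsg.pResidual p ↥H).map H.subtype ≤ Subgroup.centralizer (V : Set G)) [hn : ((Subgroup.centralizer (V : Set G)).subgroupOf H).Normal] : Cfsg.IsPClosed p ↥(H ⊓ Subgroup.centralizer (V : Set G)) ∧ (∀ T : Subgroup G, T ≤ H → IsPGroup p ↥T → T ⊓ Subgroup.centralizer (V : Set G) ≤ Cfsg.pCoreOf p H) ∧ (Cfsg.pCoreOf p H ≤ Subgroup.centralizer (V : Set G) → (∀ T : Subgroup G, T ≤ H → IsPGroup p ↥T → T ⊓ Subgroup.centralizer (V : Set G) = T ⊓ Cfsg.pCoreOf p H) ∧ Cfsg.pCore p (↥H ⧸ (Subgroup.centralizer (V : Set G)).subgroupOf H) = ⊥) := by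
  skip
  classical
  have hp : p.Prime := Fact.out
  set C := Subgroup.centralizer (V : Set G) with hC
  set C' := C.subgroupOf H with hC'
  have hnr : ¬ Cfsg.pResidual p ↥H ≤ C' := fun h => hnc (Subgroup.map_le_iff_le_comap.2 h)
  have hcl : Cfsg.IsPClosed p ↥C' := by
    by_contra h
    exact hnr (hH.2 C' hn h)
  have hcl' : Cfsg.IsPClosed p ↥(H ⊓ C) := by
    let f : ↥C' →* ↥(H ⊓ C) := (H.subtype.comp C'.subtype).codRestrict (H ⊓ C) fun x => Subgroup.mem_inf.2 ⟨(x : ↥H).2, x.2⟩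
    refine Cfsg.Agent.Local.Irred.isPClosed_map f (fun y => ?_) hcl
    exact ⟨⟨⟨y, (Subgroup.mem_inf.1 y.2).1⟩, (Subgroup.mem_inf.1 y.2).2⟩, Subtype.ext rfl⟩
  have hT : ∀ T : Subgroup G, T ≤ H → IsPGroup p ↥T → T ⊓ C ≤ Cfsg.pCoreOf p H := by
    intro T hTH hTp x hx
    obtain ⟨hxT, hxC⟩ := Subgroup.mem_inf.1 hx
    haveI := hn
    have h1 := Cfsg.Agent.Local.Irred.le_pCore_of_isPClosed_normal C' hcl (Y := T.subgroupOf H ⊓ C')
      ((hTp.comap_subtype (K := H)).to_le inf_le_left) inf_le_right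
    exact ⟨⟨x, hTH hxT⟩, h1 (Subgroup.mem_inf.2 ⟨hxT, hxC⟩), rfl⟩
  refine ⟨hcl', hT, fun hO => ⟨fun T hTH hTp => le_antisymm (le_inf inf_le_left (hT T hTH hTp)) (inf_le_inf_left T hO), ?_⟩⟩
  have hO' : Cfsg.pCore p ↥H ≤ C' := fun x hx => hO ⟨x, hx, rfl⟩
  set f := QuotientGroup.mk' C' with hf
  set K := Cfsg.pCore p (↥H ⧸ C') with hK
  have hKp : IsPGroup p ↥K := Cfsg.Agent.Solv.isPGroup_pCore p _
  haveI hKn : K.Normal := by rw [hK]; infer_instance
  set N := K.comap f with hN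
  have hkill : ∀ g : ↥H, g ∈ N → (orderOf g).Coprime p → g ∈ C' := by
    intro g hg hco
    obtain ⟨k, hk⟩ := IsPGroup.iff_card.1 hKp
    exact (QuotientGroup.eq_one_iff g).1 (orderOf_eq_one_iff.1 (Nat.eq_one_of_dvd_coprimes
      (Nat.Coprime.pow_right k hco) (orderOf_map_dvd f g) (hk ▸ Subgroup.orderOf_dvd_natCard _ hg)))
  have hclN : Cfsg.IsPClosed p ↥N := by
    by_contra h
    have h1 := hH.2 N (hKn.comap f) h
    apply hnr
    rw [Cfsg.pResidual, Subgroup.closure_le]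
    exact fun g hg => hkill g (h1 (Cfsg.Agent.Solv.mem_pResidual hg)) hg
  rw [eq_bot_iff]
  intro q hq
  obtain ⟨x, rfl⟩ := QuotientGroup.mk'_surjective C' q
  have hxN : x ∈ N := hq
  rw [Subgroup.mem_bot]
  obtain ⟨e, m, hm, hxo⟩ := Nat.exists_eq_pow_mul_and_not_dvd (orderOf_pos x).ne' p hp.ne_one
  have hxm : x ^ m ∈ C' := by
    haveI : N.Normal := hKn.comap f
    refine hO' (Cfsg.Agent.Local.Irred.le_pCore_of_isPClosed_normal N hclN (Y := Subgroup.zpowers (x ^ m))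
      ?_ (Subgroup.zpowers_le.2 (pow_mem hxN m)) (Subgroup.mem_zpowers _))
    refine IsPGroup.of_card (n := e) ?_
    have hm0 : 0 < m := by rcases m with _ | m <;> simp_all
    rw [Nat.card_zpowers, orderOf_pow, hxo, Nat.gcd_mul_left_left, Nat.mul_div_cancel _ hm0]
  obtain ⟨k, hk⟩ := IsPGroup.iff_card.1 hKp
  have h1 : orderOf (f x) ∣ p ^ k := hk ▸ Subgroup.orderOf_dvd_natCard _ hq
  have h2 : orderOf (f x) ∣ m := orderOf_dvd_of_pow_eq_one (by rw [← map_pow]; exact (QuotientGroup.eq_one_iff _).2 hxm)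
  exact orderOf_eq_one_iff.1 (Nat.eq_one_of_dvd_coprimes ((Nat.coprime_comm.1 (hp.coprime_iff_not_dvd.2 hm)).pow_right k) h2 h1)

end Cfsg.Agent.S2830
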