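import Cfsg.Statements.S2833
import Mathlib
-- import your own Cfsg.Agent.* helpers here

set_option autoImplicit false
open Cfsg

namespace Cfsg.Agent.S2833
open scoped commutatorElement Pointwise

/-- Let V be a subgroup of a finite group G normalized by the subgroup L, let X ≤ L and g ∈ L with [V, X, X] = 1 and L generated by X and gXg⁻¹. Put W = [V, L]. Then W = [V, X]·[V, gXg⁻¹], C_W(X) = [V, X], and C_W(L) = [V, X] ∩ [V, gXg⁻¹]. -/
theorem result {G : Type*} [Group G] [Finite G] (V L : Subgroup G) (hLV : L ≤ Subgroup.normalizer (V : Set G)) (X : Subgroup G) (hX : X ≤ L) (g : G) (hg : g ∈ L) (hq : ⁅⁅V, X⁆, X⁆ = ⊥) (hgen : X ⊔ X.map (MulAut.conj g).toMonoidHom = L) (W : Subgroup G) (hW : W = ⁅V, L⁆) : ⁅V, X⁆ ⊔ ⁅V, X.map (MulAut.conj g).toMonoidHom⁆ = W ∧ W ⊓ Subgroup.centralizer (X : Set G) = ⁅V, X⁆ ∧ W ⊓ Subgroup.centralizer (L : Set G) = ⁅V, X⁆ ⊓ ⁅V, X.map (MulAut.conj g).toMonoidHom⁆ := by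
  subst hW
  set A := ⁅V, X⁆ with hA
  set Y := X.map (MulAut.conj g).toMonoidHom with hY
  set B := ⁅V, Y⁆ with hB
  have hYL : Y ≤ L := hgen ▸ le_sup_right
  have hXV : X ≤ Subgroup.normalizer (V : Set G) := hX.trans hLV
  have hYV : Y ≤ Subgroup.normalizer (V : Set G) := hYL.trans hLV
  have hAV : A ≤ V := Subgroup.le_normalizer_iff_commutator_le_left.1 hXV
  have hBV : B ≤ V := Subgroup.le_normalizer_iff_commutator_le_left.1 hYV
  have hVg : V.map (MulAut.conj g).toMonoidHom = V := by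
    ext w
    constructor
    · rintro ⟨y, hy, rfl⟩; exact (Subgroup.mem_normalizer_iff.1 (hLV hg) y).1 hy
    · intro hw
      exact ⟨g⁻¹ * w * g, (Subgroup.mem_normalizer_iff''.1 (hLV hg) w).1 hw, by simp [mul_assoc]⟩
  have hAB : A.map (MulAut.conj g).toMonoidHom = B := by rw [hA, Subgroup.map_commutator, hVg]
  have hLg : L.map (MulAut.conj g).toMonoidHom = L := by
    ext w
    constructor
    · rintro ⟨y, hy, rfl⟩; exact mul_mem (mul_mem hg hy) (inv_mem hg)
    · intro hw
      exact ⟨g⁻¹ * w * g, mul_mem (mul_mem (inv_mem hg) hw) hg, by simp [mul_assoc]⟩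
  -- the join
  set W := A ⊔ B with hW'
  have hWV : W ≤ V := sup_le hAV hBV
  have hn : ∀ (Z : Subgroup G), ⁅V, Z⁆ ≤ W → Z ≤ Subgroup.normalizer (W : Set G) := fun Z hZ =>
    Subgroup.le_normalizer_iff_commutator_le_left.2 ((Subgroup.commutator_mono hWV le_rfl).trans hZ)
  have hWn : V ≤ Subgroup.normalizer (W : Set G) := by
    refine le_trans (le_inf (Subgroup.normalizer_commutator_ge_left V X) (Subgroup.normalizer_commutator_ge_left V Y)) ?_
    intro v hv
    rw [Subgroup.mem_normalizer_iff]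
    intro x
    have hA' : ∀ v ∈ Subgroup.normalizer (A : Set G) ⊓ Subgroup.normalizer (B : Set G), W ≤ W.comap (MulAut.conj v).toMonoidHom :=
      fun v hv => sup_le (fun a ha => Subgroup.mem_sup_left ((Subgroup.mem_normalizer_iff.1 hv.1 a).1 ha))
        (fun a ha => Subgroup.mem_sup_right ((Subgroup.mem_normalizer_iff.1 hv.2 a).1 ha))
    refine ⟨fun hx => hA' v hv hx, fun hx => ?_⟩
    have h2 : v⁻¹ * (v * x * v⁻¹) * v⁻¹⁻¹ ∈ W := hA' v⁻¹ (inv_mem hv) hx
    rwa [show v⁻¹ * (v * x * v⁻¹) * v⁻¹⁻¹ = x by group] at h2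
  have hVL : ⁅V, L⁆ = W := by
    refine le_antisymm ?_ (sup_le (Subgroup.commutator_mono le_rfl hX) (Subgroup.commutator_mono le_rfl hYL))
    haveI : (W.subgroupOf (Subgroup.normalizer (W : Set G))).Normal := Subgroup.normal_subgroupOf_of_le_normalizer le_rfl
    have hLn : L ≤ Subgroup.normalizer (W : Set G) := hgen ▸ sup_le (hn X le_sup_left) (hn Y le_sup_right)
    rw [Subgroup.commutator_le]
    intro v hv l hl
    have key : ∀ l ∈ X ⊔ Y, ∀ v ∈ V, ⁅v, l⁆ ∈ W := by
      intro l hl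
      rw [Subgroup.sup_eq_closure] at hl
      induction hl using Subgroup.closure_induction with
      | mem x hx => intro v hv; rcases hx with hx | hx
                    · exact Subgroup.mem_sup_left (Subgroup.commutator_mem_commutator hv hx)
                    · exact Subgroup.mem_sup_right (Subgroup.commutator_mem_commutator hv hx)
      | one => intro v _; simp [W.one_mem]
      | mul a b ha hb iha ihb =>
        intro v hv
        rw [show ⁅v, a * b⁆ = ⁅v, a⁆ * (a * ⁅v, b⁆ * a⁻¹) by simp [commutatorElement_def, mul_assoc]]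
        exact mul_mem (iha v hv) ((Subgroup.mem_normalizer_iff.1 (hLn (hgen ▸ (Subgroup.sup_eq_closure X Y ▸ ha))) _).1 (ihb v hv))
      | inv a ha iha =>
        intro v hv
        rw [show ⁅v, a⁻¹⁆ = a⁻¹ * ⁅v, a⁆⁻¹ * a by simp [commutatorElement_def, mul_assoc]]
        exact (Subgroup.mem_normalizer_iff''.1 (hLn (hgen ▸ (Subgroup.sup_eq_closure X Y ▸ ha))) _).1 (inv_mem (iha v hv))
    exact key l (hgen ▸ hl) v hv
  have hAc : A ≤ Subgroup.centralizer (X : Set G) := Subgroup.commutator_eq_bot_iff_le_centralizer.1 hq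
  have hBc : B ≤ Subgroup.centralizer (Y : Set G) := by
    refine Subgroup.commutator_eq_bot_iff_le_centralizer.1 ?_
    rw [← hAB, hY, ← Subgroup.map_commutator, hA, hq, Subgroup.map_bot]
  have hCL : W ⊓ Subgroup.centralizer (L : Set G) = W ⊓ Subgroup.centralizer (X : Set G) ⊓ Subgroup.centralizer (Y : Set G) := by
    rw [inf_assoc]
    congr 1
    refine le_antisymm (le_inf (Subgroup.centralizer_le (SetLike.coe_subset_coe.2 hX))
      (Subgroup.centralizer_le (SetLike.coe_subset_coe.2 hYL))) ?_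
    rw [Subgroup.le_centralizer_iff]
    exact hgen.ge.trans (sup_le (Subgroup.le_centralizer_iff.1 inf_le_left) (Subgroup.le_centralizer_iff.1 inf_le_right))
  have hBn : B ≤ Subgroup.normalizer (A : Set G) := hBV.trans (Subgroup.normalizer_commutator_ge_left V X)
  have hWX : W ⊓ Subgroup.centralizer (X : Set G) = A := by
    refine le_antisymm ?_ (le_inf le_sup_left hAc)
    rintro w ⟨hw, hwX⟩
    haveI : (A.subgroupOf (A ⊔ B)).Normal := Subgroup.normal_subgroupOf_of_le_normalizer (sup_le Subgroup.le_normalizer hBn)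
    have hmul : (↑(B ⊔ A) : Set G) = B * A := Subgroup.coe_mul_of_left_le_normalizer_right _ _ hBn
    have hw' : w ∈ ((B : Set G) * A) := by rw [← hmul, sup_comm]; exact hw
    obtain ⟨b, hb, a, ha, rfl⟩ := Set.mem_mul.1 hw'
    have hwX' : b * a ∈ Subgroup.centralizer (X : Set G) := hwX
    have hbX : b ∈ Subgroup.centralizer (X : Set G) := by simpa using mul_mem hwX' (inv_mem (hAc ha))
    have hbL : b ∈ W ⊓ Subgroup.centralizer (L : Set G) := by
      rw [hCL]
      exact ⟨⟨Subgroup.mem_sup_right hb, hbX⟩, hBc hb⟩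
    obtain ⟨a', ha', e⟩ := (hAB.symm ▸ hb : b ∈ A.map (MulAut.conj g).toMonoidHom)
    have hgb := Subgroup.mem_centralizer_iff.1 hbL.2 g hg
    have : a' = b := by
      have e' : g * a' * g⁻¹ = b := e
      have : g * a' = g * b := by rw [hgb, ← e']; group
      exact mul_left_cancel this
    exact mul_mem (this ▸ ha') ha
  have hWg : W.map (MulAut.conj g).toMonoidHom = W := by
    rw [← hVL, Subgroup.map_commutator, hVg, hLg]
  have hWY : W ⊓ Subgroup.centralizer (Y : Set G) = B := by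
    have h1 := congrArg (Subgroup.map (MulAut.conj g).toMonoidHom) hWX
    rw [Subgroup.map_inf _ _ _ (MulAut.conj g).injective, hWg, hAB] at h1
    rw [← h1]
    congr 1
    ext y
    constructor
    · intro hy
      refine ⟨g⁻¹ * y * g, Subgroup.mem_centralizer_iff.2 fun x hx => ?_, by simp [mul_assoc]⟩
      have h2 : g * x * g⁻¹ * y = y * (g * x * g⁻¹) := Subgroup.mem_centralizer_iff.1 hy _ ⟨x, hx, rfl⟩
      calc x * (g⁻¹ * y * g) = g⁻¹ * (g * x * g⁻¹ * y) * g := by group
        _ = g⁻¹ * y * g * x := by rw [h2]; group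
    · rintro ⟨c, hc, rfl⟩
      refine Subgroup.mem_centralizer_iff.2 ?_
      rintro _ ⟨x, hx, rfl⟩
      show (MulAut.conj g) x * (MulAut.conj g) c = (MulAut.conj g) c * (MulAut.conj g) x
      rw [← map_mul, ← map_mul, Subgroup.mem_centralizer_iff.1 hc x hx]
  refine ⟨hVL.symm, by rw [hVL]; exact hWX, ?_⟩
  rw [hVL, hCL, hWX]
  refine le_antisymm (le_inf inf_le_left ?_) (le_inf inf_le_left (inf_le_right.trans hBc))
  rw [← hWY]
  exact inf_le_inf le_sup_left le_rfl

end Cfsg.Agent.S2833
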