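import Cfsg.Statements.S2834
import Cfsg.Agent.Lib.Local.FrakH
import Cfsg.Agent.Lib.Local.WeaklyClosedBasics
import Cfsg.Agent.Lib.Solv.Basic
-- import your own Cfsg.Agent.* helpers here

set_option autoImplicit false
open Cfsg

namespace Cfsg.Agent.S2834
open Cfsg.Agent

/-- Conjugate of a subgroup. -/
abbrev cj {G : Type*} [Group G] (g : G) (L : Subgroup G) : Subgroup G := L.map (MulAut.conj g).toMonoidHom

theorem cj_cj {G : Type*} [Group G] (a b : G) (L : Subgroup G) : cj a (cj b L) = cj (a * b) L := by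
  rw [cj, cj, cj, Subgroup.map_map]; congr 1; ext x; simp [mul_assoc]

theorem cj_one {G : Type*} [Group G] (L : Subgroup G) : cj 1 L = L := by ext x; simp [cj]

theorem cj_mono {G : Type*} [Group G] (g : G) {L K : Subgroup G} (h : L ≤ K) : cj g L ≤ cj g K :=
  Subgroup.map_mono h

theorem cj_inv_le {G : Type*} [Group G] {g : G} {L K : Subgroup G} (h : L ≤ cj g K) : cj g⁻¹ L ≤ K := by
  have := cj_mono g⁻¹ h
  rwa [cj_cj, inv_mul_cancel, cj_one] at this

theorem cj_inv_le' {G : Type*} [Group G] {g : G} {L K : Subgroup G} (h : cj g L ≤ K) : L ≤ cj g⁻¹ K := by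
  have := cj_mono g⁻¹ h
  rwa [cj_cj, inv_mul_cancel, cj_one] at this

theorem mem_cj {G : Type*} [Group G] {g x : G} {L : Subgroup G} : x ∈ cj g L ↔ g⁻¹ * x * g ∈ L := by
  constructor
  · rintro ⟨y, hy, rfl⟩; simpa [mul_assoc] using hy
  · intro h; exact ⟨_, h, by simp [mul_assoc]⟩

theorem cj_normal {G : Type*} [Group G] (g : G) {L : Subgroup G} (h : L.Normal) : cj g L = L := by
  refine le_antisymm ?_ fun x hx => ?_
  · rintro _ ⟨y, hy, rfl⟩; exact h.conj_mem y hy g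
  · exact mem_cj.2 (by simpa using h.conj_mem x hx g⁻¹)

theorem cj_normalizer {G : Type*} [Group G] (k : G) {L : Subgroup G} {x : G}
    (h : x ∈ Subgroup.normalizer (L : Set G)) : k * x * k⁻¹ ∈ Subgroup.normalizer (cj k L : Set G) := by
  rw [Subgroup.mem_normalizer_iff] at h ⊢
  intro y
  rw [mem_cj, mem_cj, h (k⁻¹ * y * k)]
  simp [mul_assoc]


/-- The L-Lemma: let H be a finite group with Sylow p-subgroup T such that H is T-minimal (generated by the conjugates of T, T in exactly one maximal subgroup M), and let A ≤ T with A not contained in O_p(H). Then there is a subgroup L of H containing A·O_p(H) such that (a) A·O_p(L) lies in exactly one maximal subgroup L₀ of L, and L₀ = L ∩ gMg⁻¹ for some g ∈ H; (b) L = ⟨A, xAx⁻¹⟩·O_p(L) for every x ∈ L outside L₀. -/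
theorem result {H : Type*} [Group H] [Finite H] {p : ℕ} [Fact p.Prime] (T : Sylow p H) (hmin : Cfsg.IsMinimalOver (T : Subgroup H)) (M : Subgroup H) (hM : IsCoatom M ∧ (T : Subgroup H) ≤ M) (A : Subgroup H) (hAT : A ≤ (T : Subgroup H)) (hA : ¬ A ≤ Cfsg.pCore p H) : ∃ L : Subgroup H, A ⊔ Cfsg.pCore p H ≤ L ∧ ∃ L₀ : Subgroup H, A ⊔ (Cfsg.pCoreOf p L) ≤ L₀ ∧ L₀ < L ∧ (∀ X : Subgroup H, A ⊔ (Cfsg.pCoreOf p L) ≤ X → X < L → X ≤ L₀) ∧ (∃ g : H, L₀ = L ⊓ ((M : Subgroup H).map (MulAut.conj (g : H)).toMonoidHom)) ∧ ∀ x ∈ L, x ∉ L₀ → (A ⊔ ((A : Subgroup H).map (MulAut.conj (x : H)).toMonoidHom)) ⊔ (Cfsg.pCoreOf p L) = L := by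
  skip
  classical
  obtain ⟨hMco, hTM⟩ := hM
  set O := Cfsg.pCore p H with hO
  haveI hOn : O.Normal := by rw [hO]; infer_instance
  have hOT : O ≤ (T : Subgroup H) := Cfsg.Agent.Solv.pCore_le_sylow T
  have hcoatom : ∀ k, IsCoatom (cj k M) := fun k => (OrderIso.isCoatom_iff (MulAut.conj k).mapSubgroup M).2 hMco
  have Tuniq : ∀ k K, IsCoatom K → cj k (T : Subgroup H) ≤ K → K = cj k M := by
    intro k K hK hle
    have h1 : cj k⁻¹ K = M := hmin.2.unique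
      ⟨(OrderIso.isCoatom_iff (MulAut.conj k⁻¹).mapSubgroup K).2 hK,
        le_trans (le_of_eq (by rw [cj_cj, inv_mul_cancel, cj_one])) (cj_mono k⁻¹ hle)⟩ ⟨hMco, hTM⟩
    rw [← h1, cj_cj, mul_inv_cancel, cj_one]
  have hMnn : ¬ M.Normal := fun hn => hMco.1 (top_le_iff.1 (hmin.1.ge.trans
    (haveI := hn; Subgroup.normalClosure_le_normal (SetLike.coe_subset_coe.2 hTM))))
  have hNM : Subgroup.normalizer (M : Set H) = M := by
    by_contra hne
    exact hMnn (Subgroup.normalizer_eq_top_iff.1 (hMco.2 _ (lt_of_le_of_ne Subgroup.le_normalizer (Ne.symm hne))))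
  have eq_cj : ∀ a b, cj a M = cj b M → b⁻¹ * a ∈ M := by
    intro a b h
    have h1 : cj (b⁻¹ * a) M = M := by rw [← cj_cj, h, cj_cj, inv_mul_cancel, cj_one]
    exact hNM.le (Cfsg.Agent.Local.WCB.mem_normalizer_of_map_conj_eq h1)
  set D : Subgroup H → Set (Subgroup H) := fun R => {a | a ≤ R ∧ ∃ h, cj h A = a} with hD
  have Dmono : ∀ {R S : Subgroup H}, R ≤ S → D R ⊆ D S := fun h a ha => ⟨ha.1.trans h, ha.2⟩
  have Dcj : ∀ k R, D (cj k R) = cj k '' D R := by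
    intro k R
    ext a
    constructor
    · rintro ⟨ha, h, rfl⟩
      exact ⟨cj (k⁻¹ * h) A, ⟨by rw [← cj_cj]; exact cj_inv_le ha, _, rfl⟩, by rw [cj_cj, mul_inv_cancel_left]⟩
    · rintro ⟨_, ⟨hb, h, rfl⟩, rfl⟩
      exact ⟨cj_mono k hb, k * h, (cj_cj k h A).symm⟩
  have Dcard : ∀ k R, (D (cj k R)).ncard = (D R).ncard := by
    intro k R
    rw [Dcj]
    refine Set.ncard_image_of_injective _ fun a b e => ?_
    simpa only [cj_cj, inv_mul_cancel, cj_one] using congrArg (cj k⁻¹) e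
  -- maximal subgroup lying in two conjugates of `M`
  let F : Set (Subgroup H) := {R | IsPGroup p R ∧ O ≤ R ∧ ∃ a b, R ≤ cj a M ∧ R ≤ cj b M ∧ cj a M ≠ cj b M}
  have hFne : F.Nonempty := by
    have : ∃ k, cj k M ≠ M := by
      by_contra hcon
      push_neg at hcon
      exact hMnn ⟨fun x hx k => (hcon k).le ⟨x, hx, rfl⟩⟩
    obtain ⟨k, hk⟩ := this
    refine ⟨O, Cfsg.Agent.Solv.isPGroup_pCore p H, le_rfl, k, 1, ?_, ?_, by rwa [cj_one]⟩
    · exact (cj_normal k hOn).ge.trans (cj_mono k (hOT.trans hTM))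
    · rw [cj_one]; exact hOT.trans hTM
  obtain ⟨Q1, ⟨hQ1p, hQ1O, b1, b2, hQ1a, hQ1b, hb12⟩, hQ1max⟩ :=
    Set.exists_max_image F (fun R => (D R).ncard) (Set.toFinite _) hFne
  set Q0 := sSup (D Q1) ⊔ O with hQ0
  have hQ01 : Q0 ≤ Q1 := sup_le (sSup_le fun a ha => ha.1) hQ1O
  have hOQ0 : O ≤ Q0 := le_sup_right
  have hQ0p : IsPGroup p Q0 := hQ1p.to_le hQ01
  have hD0 : D Q0 = D Q1 := Set.Subset.antisymm (Dmono hQ01)
    fun a ha => ⟨(le_sSup ha).trans le_sup_left, ha.2⟩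
  have uniq : ∀ R : Subgroup H, IsPGroup p R → O ≤ R → (D Q0).ncard < (D R).ncard →
      ∀ a b, R ≤ cj a M → R ≤ cj b M → cj a M = cj b M := by
    intro R h1 h2 h3 a b ha hb
    by_contra hne
    rw [hD0] at h3
    exact absurd (hQ1max R ⟨h1, h2, a, b, ha, hb, hne⟩) (not_le.2 h3)
  have hsyl : ∀ a (R : Subgroup H), IsPGroup p R → R ≤ cj a M →
      ∃ g, R ≤ cj g (T : Subgroup H) ∧ cj g M = cj a M := by
    intro a R hR hle
    have h1 : cj a⁻¹ R ≤ M := cj_inv_le hle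
    obtain ⟨P, hP⟩ := ((hR.map (MulAut.conj a⁻¹).toMonoidHom).comap_subtype (K := M)).exists_le_sylow
    obtain ⟨m, hm⟩ := MulAction.exists_smul_eq M (T.subtype hTM) P
    refine ⟨a * m, fun x hx => ?_, ?_⟩
    · have hx' : (MulAut.conj a⁻¹) x ∈ cj a⁻¹ R := ⟨x, hx, rfl⟩
      have hmem : (⟨_, h1 hx'⟩ : M) ∈ ((m • T.subtype hTM : Sylow p M) : Subgroup M) := hm ▸ hP hx'
      obtain ⟨t, ht, e⟩ := hmem
      have e' : (m : H) * (t : H) * (m : H)⁻¹ = a⁻¹ * x * a⁻¹⁻¹ := congrArg Subtype.val e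
      rw [mem_cj]
      have : (a * (m : H))⁻¹ * x * (a * (m : H)) = t := by
        calc (a * (m : H))⁻¹ * x * (a * (m : H)) = (m : H)⁻¹ * (a⁻¹ * x * a⁻¹⁻¹) * m := by group
          _ = _ := by rw [← e']; group
      rw [this]
      exact ht
    · rw [← cj_cj]
      exact congrArg (cj a) (Cfsg.Agent.Local.WCB.map_conj_eq_of_mem_normalizer (Subgroup.le_normalizer m.2))
  -- a conjugate of `A` normalizing `Q0` inside a Sylow subgroup
  have hd : ∀ g, Q0 ≤ cj g (T : Subgroup H) → ∃ h, cj h A ≤ cj g (T : Subgroup H) ∧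
      cj h A ≤ Subgroup.normalizer (Q0 : Set H) ∧ ¬ cj h A ≤ Q0 := by
    intro g hg
    set P := cj g (T : Subgroup H) with hP
    have hconj_le : ∀ x : H, (∀ a ∈ D Q0, cj x a ≤ Q0) → x ∈ Subgroup.normalizer (Q0 : Set H) := by
      intro x hx
      refine Cfsg.Agent.Solv.mem_normalizer_of_conj_le ?_
      refine Subgroup.map_le_iff_le_comap.2 (sup_le (sSup_le fun a ha => ?_) ?_)
      · exact Subgroup.map_le_iff_le_comap.1 (hx a (hD0 ▸ ha))
      · exact fun o ho => hOQ0 (hOn.conj_mem o ho x)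
    have hdiff : ∃ a ∈ D P, ¬ a ≤ Q0 := by
      by_contra hcon
      push_neg at hcon
      have hDP : D P = D Q0 := Set.Subset.antisymm (fun a ha => ⟨hcon a ha, ha.2⟩) (Dmono hg)
      have hnorm : ∀ g', Q0 ≤ cj g' (T : Subgroup H) → D (cj g' (T : Subgroup H)) = D Q0 →
          cj g' (T : Subgroup H) ≤ Subgroup.normalizer (Q0 : Set H) := by
        intro g' _ hD' x hx
        refine hconj_le x fun a ha => ?_
        rw [← hD'] at ha
        have h1 : cj x (cj g' (T : Subgroup H)) = cj g' (T : Subgroup H) :=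
          Cfsg.Agent.Local.WCB.map_conj_eq_of_mem_normalizer (Subgroup.le_normalizer hx)
        have h2 : cj x a ∈ D (cj g' (T : Subgroup H)) := by
          rw [← h1, Dcj]; exact ⟨a, ha, rfl⟩
        rw [hD'] at h2
        exact h2.1
      obtain ⟨b, hb, hbne⟩ : ∃ b, Q0 ≤ cj b M ∧ cj b M ≠ cj g M := by
        rcases eq_or_ne (cj b1 M) (cj g M) with h | h
        · exact ⟨b2, hQ01.trans hQ1b, fun e => hb12 (h.trans e.symm)⟩
        · exact ⟨b1, hQ01.trans hQ1a, h⟩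
      obtain ⟨g', hg', hgb⟩ := hsyl b Q0 hQ0p hb
      have hD' : D (cj g' (T : Subgroup H)) = D Q0 := by
        refine (Set.eq_of_subset_of_ncard_le (Dmono hg') ?_ (Set.toFinite _)).symm
        rw [Dcard, ← hDP, hP, Dcard]
      rcases eq_top_or_exists_le_coatom (Subgroup.normalizer (Q0 : Set H)) with htop | ⟨K, hK, hNK⟩
      · haveI : Q0.Normal := Subgroup.normalizer_eq_top_iff.1 htop
        have h1 : cj g A ≤ O := (hcon _ ⟨cj_mono g hAT, g, rfl⟩).trans (Cfsg.Agent.Solv.le_pCore hQ0p)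
        have h2 := cj_inv_le' h1
        rw [cj_normal g⁻¹ hOn] at h2
        exact hA h2
      · have h1 := Tuniq g K hK ((hnorm g hg hDP).trans hNK)
        have h2 := Tuniq g' K hK ((hnorm g' hg' hD').trans hNK)
        exact hbne (by rw [← hgb, ← h2, h1])
    by_cases hPN : P ≤ Subgroup.normalizer (Q0 : Set H)
    · obtain ⟨_, ⟨ha, h, rfl⟩, ha'⟩ := hdiff
      exact ⟨h, ha, ha.trans hPN, ha'⟩
    · set N1 := P ⊓ Subgroup.normalizer (Q0 : Set H) with hN1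
      haveI : Group.IsNilpotent P := (T.isPGroup'.map (MulAut.conj g).toMonoidHom).isNilpotent
      have hlt : N1.subgroupOf P < ⊤ := lt_top_iff_ne_top.2 fun e =>
        hPN ((Subgroup.subgroupOf_eq_top.1 e).trans inf_le_right)
      obtain ⟨x, hx1, hx2⟩ := SetLike.exists_of_lt
        ((Group.normalizerCondition_of_isNilpotent (G := P)) _ hlt)
      have hxN : ¬ (x : H) ∈ Subgroup.normalizer (Q0 : Set H) := fun h =>
        hx2 (show (x : H) ∈ N1 from Subgroup.mem_inf.2 ⟨x.2, h⟩)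
      obtain ⟨a, ha, ha'⟩ : ∃ a ∈ D Q0, ¬ cj (x : H) a ≤ Q0 := by
        by_contra hcon
        push_neg at hcon
        exact hxN (hconj_le _ hcon)
      obtain ⟨haQ, h, rfl⟩ := ha
      have hxa : cj (x : H) (cj h A) ≤ N1 := by
        rintro _ ⟨y, hy, rfl⟩
        have hy1 : y ∈ N1 := Subgroup.mem_inf.2 ⟨hg (haQ hy), Subgroup.le_normalizer (haQ hy)⟩
        exact (Subgroup.mem_normalizer_iff.1 hx1 ⟨y, hy1.1⟩).1 hy1
      rw [cj_cj] at ha' hxa
      exact ⟨x * h, hxa.trans inf_le_left, hxa.trans inf_le_right, ha'⟩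
  obtain ⟨g1, hg1, hg1M⟩ := hsyl b1 Q0 hQ0p (hQ01.trans hQ1a)
  obtain ⟨g2, hg2, hg2M⟩ := hsyl b2 Q0 hQ0p (hQ01.trans hQ1b)
  have hg12 : cj g1 M ≠ cj g2 M := by rwa [hg1M, hg2M]
  obtain ⟨h, hh1, hh2, hh3⟩ := hd g1 hg1
  have bigger : ∀ {k h' : H}, Q0 ≤ cj k (T : Subgroup H) → cj h' A ≤ cj k (T : Subgroup H) → ¬ cj h' A ≤ Q0 →
      ∀ a b, Q0 ⊔ cj h' A ≤ cj a M → Q0 ⊔ cj h' A ≤ cj b M → cj a M = cj b M := by
    intro k h' hk1 hk2 hk3
    refine uniq _ ((T.isPGroup'.map (MulAut.conj k).toMonoidHom).to_le (sup_le hk1 hk2)) (hOQ0.trans le_sup_left) ?_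
    refine Set.ncard_lt_ncard ⟨Dmono le_sup_left, fun hsub => hk3 (hsub ⟨le_sup_right, h', rfl⟩).1⟩ (Set.toFinite _)
  have hN0 : ¬ Subgroup.normalizer (Q0 : Set H) ≤ cj g1 M := by
    intro hle
    obtain ⟨h', h1', h2', h3'⟩ := hd g2 hg2
    exact hg12 (bigger hg2 h1' h3' g1 g2 (sup_le (hg1.trans (cj_mono g1 hTM)) (h2'.trans hle))
      (sup_le (hg2.trans (cj_mono g2 hTM)) (h1'.trans (cj_mono g2 hTM))))
  -- conjugate so that the chosen conjugate becomes `A`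
  set Q := cj h⁻¹ Q0 with hQ
  set g := h⁻¹ * g1 with hg
  have hgM : cj g M = cj h⁻¹ (cj g1 M) := (cj_cj _ _ _).symm
  have hOQ : O ≤ Q := (cj_normal h⁻¹ hOn).ge.trans (cj_mono _ hOQ0)
  have hQp : IsPGroup p Q := hQ0p.map _
  have hAN : A ≤ Subgroup.normalizer (Q : Set H) := by
    intro a ha
    have h1 := cj_normalizer h⁻¹ (hh2 ⟨a, ha, rfl⟩)
    simpa [hQ, mul_assoc] using h1
  have hAM : A ≤ cj g M := by
    rw [hgM]
    have := cj_mono h⁻¹ (hh1.trans (cj_mono g1 hTM))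
    rwa [cj_cj, inv_mul_cancel, cj_one] at this
  have hQM : Q ≤ cj g M := by rw [hgM]; exact cj_mono _ (hg1.trans (cj_mono g1 hTM))
  have uniqA : ∀ k, A ≤ cj k M → Q ≤ cj k M → cj k M = cj g M := by
    intro k hk1 hk2
    have h1 := bigger hg1 hh1 hh3 (h * k) g1
      (sup_le (by
        have := cj_mono h hk2
        rwa [hQ, cj_cj, mul_inv_cancel, cj_one, cj_cj] at this)
        (by rw [← cj_cj]; exact cj_mono h hk1))
      (sup_le (hg1.trans (cj_mono g1 hTM)) (hh1.trans (cj_mono g1 hTM)))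
    rw [hgM, ← h1, cj_cj, inv_mul_cancel_left]
  have hNg : ¬ Subgroup.normalizer (Q : Set H) ≤ cj g M := by
    intro hle
    refine hN0 fun y hy => ?_
    have h2 := (mem_cj).1 (hle (cj_normalizer h⁻¹ hy))
    rw [mem_cj]
    simpa [hg, mul_assoc] using h2
  let S : Set (Subgroup H) := {U | A ⊔ Q ≤ U ∧ U ≤ Subgroup.normalizer (Q : Set H) ∧ ¬ U ≤ cj g M}
  obtain ⟨L, ⟨hAQL, hLN, hLg⟩, hLmin⟩ := (Set.toFinite S).exists_minimal
    ⟨Subgroup.normalizer (Q : Set H), sup_le hAN Subgroup.le_normalizer, le_rfl, hNg⟩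
  have hX : ∀ X : Subgroup H, A ≤ X → Q ≤ X → X ≤ L → X ≠ L → X ≤ cj g M := by
    intro X h1 h2 h3 h4
    by_contra h5
    exact h4 (le_antisymm h3 (hLmin (y := X) ⟨sup_le h1 h2, h3.trans hLN, h5⟩ h3))
  have hAL : A ≤ L := le_sup_left.trans hAQL
  have hQL : Q ≤ L := le_sup_right.trans hAQL
  have hQP : Q ≤ Cfsg.pCoreOf p L := Cfsg.Agent.Local.FrakH.le_pCoreOf hQp hQL hLN
  have hPL : Cfsg.pCoreOf p L ≤ L := Subgroup.map_subtype_le _
  set AP := A ⊔ Cfsg.pCoreOf p L with hAP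
  have hAPp : IsPGroup p AP := by
    rw [hAP, sup_comm]
    exact Cfsg.Agent.Local.WCB.isPGroup_sup (Cfsg.Agent.Local.FrakH.isPGroup_pCoreOf L) (T.isPGroup'.to_le hAT)
      (hAL.trans (Cfsg.Agent.Local.FrakH.le_normalizer_pCoreOf L))
  have hAPne : AP ≠ L := by
    intro e
    obtain ⟨P, hP⟩ := (e ▸ hAPp : IsPGroup p L).exists_le_sylow
    obtain ⟨k, hk⟩ := MulAction.exists_smul_eq H T P
    have h1 : L ≤ cj k M := by
      intro x hx
      have hx' : x ∈ ((k • T : Sylow p H) : Subgroup H) := hk ▸ hP hx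
      obtain ⟨t, ht, e'⟩ := hx'
      exact ⟨t, hTM ht, e'⟩
    exact hLg (h1.trans (uniqA k (hAL.trans h1) (hQL.trans h1)).le)
  refine ⟨L, sup_le hAL (hOQ.trans hQL), L ⊓ cj g M, le_inf (sup_le hAL hPL) (hX AP le_sup_left (hQP.trans le_sup_right) (sup_le hAL hPL) hAPne),
    inf_lt_left.2 hLg, fun X h1 h2 => le_inf h2.le (hX X (le_sup_left.trans h1) (hQP.trans (le_sup_right.trans h1)) h2.le h2.ne),
    ⟨g, rfl⟩, fun x hxL hxn => ?_⟩
  have hle : A ⊔ cj x A ⊔ Cfsg.pCoreOf p L ≤ L := by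
    refine sup_le (sup_le hAL ?_) hPL
    rintro _ ⟨a, ha, rfl⟩
    exact mul_mem (mul_mem hxL (hAL ha)) (inv_mem hxL)
  by_contra hne
  have h1 := hX _ (le_sup_left.trans le_sup_left) (hQP.trans le_sup_right) hle hne
  have h2 : A ≤ cj (x⁻¹ * g) M := by
    rw [← cj_cj]
    have := cj_mono x⁻¹ ((le_sup_right.trans le_sup_left).trans h1)
    rwa [cj_cj, inv_mul_cancel, cj_one] at this
  have h3 : Q ≤ cj (x⁻¹ * g) M := by
    rw [← cj_cj]
    exact (Cfsg.Agent.Local.WCB.map_conj_eq_of_mem_normalizer (inv_mem (hLN hxL))).ge.trans (cj_mono x⁻¹ hQM)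
  have h4 := inv_mem (eq_cj _ _ (uniqA _ h2 h3))
  refine hxn (Subgroup.mem_inf.2 ⟨hxL, ?_⟩)
  rw [mem_cj]
  simpa [mul_assoc] using h4

end Cfsg.Agent.S2834
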