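import Cfsg.Statements.S2835
import Cfsg.Agent.Lib.Local.WeaklyClosedBasics
import Cfsg.Agent.Lib.Solv.Basic
import Cfsg.Prelude.Def_Amalgam
-- import your own Cfsg.Agent.* helpers here

set_option autoImplicit false
open Cfsg

namespace Cfsg.Agent.S2835

/-- Let L be a finite group, L₀ a maximal subgroup, T a Sylow p-subgroup of L₀ and Y ≤ T, and suppose L is Y-minimal (generated by the conjugates of Y, with Y in exactly one maximal subgroup, necessarily L₀). Then N_L(T) ≤ L₀, O_p(L) ≤ L₀ and T is a Sylow p-subgroup of L; N_L(L₀) = L₀; L = ⟨Y, gYg⁻¹⟩ for each g ∈ L outside L₀; and if Y is abelian then Y ∩ gYg⁻¹ = C_Y(L) for each such g. -/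
theorem result {L : Type*} [Group L] [Finite L] {p : ℕ} [Fact p.Prime] (L₀ : Subgroup L) (hL₀ : IsCoatom L₀) (T : Sylow p ↥L₀) (Y : Subgroup L) (hYT : Y ≤ (T : Subgroup ↥L₀).map L₀.subtype) (hmin : Cfsg.IsMinimalOver Y) : Subgroup.normalizer (((T : Subgroup ↥L₀).map L₀.subtype : Subgroup L) : Set L) ≤ L₀ ∧ Cfsg.pCore p L ≤ L₀ ∧ (∃ P : Sylow p L, (P : Subgroup L) = (T : Subgroup ↥L₀).map L₀.subtype) ∧ Subgroup.normalizer (L₀ : Set L) = L₀ ∧ (∀ g : L, g ∉ L₀ → Y ⊔ Y.map (MulAut.conj g).toMonoidHom = ⊤) ∧ (IsMulCommutative ↥Y → ∀ g : L, g ∉ L₀ → Y ⊓ Y.map (MulAut.conj g).toMonoidHom = Y ⊓ Subgroup.center L) := by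
  classical
  set T' := (T : Subgroup L₀).map L₀.subtype with hT'
  have hTL : T' ≤ L₀ := Subgroup.map_subtype_le _
  have hYL : Y ≤ L₀ := hYT.trans hTL
  have huniq : ∀ M : Subgroup L, IsCoatom M → Y ≤ M → M = L₀ := fun M hM hYM => hmin.2.unique ⟨hM, hYM⟩ ⟨hL₀, hYL⟩
  have hnotnormal : ∀ N : Subgroup L, N.Normal → Y ≤ N → N = ⊤ := fun N hN h => by
    haveI := hN
    exact top_le_iff.1 (hmin.1 ▸ Subgroup.normalClosure_le_normal (SetLike.coe_subset_coe.2 h))
  have hNT : Subgroup.normalizer (T' : Set L) ≤ L₀ := by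
    rcases eq_top_or_exists_le_coatom (Subgroup.normalizer (T' : Set L)) with h | ⟨M, hM, hle⟩
    · exact absurd (top_le_iff.1 ((hnotnormal T' (Subgroup.normalizer_eq_top_iff.1 h) hYT).ge.trans hTL)) hL₀.1
    · exact hle.trans (huniq M hM (hYT.trans (Subgroup.le_normalizer.trans hle))).le
  have hNL : Subgroup.normalizer (L₀ : Set L) = L₀ := by
    refine le_antisymm ?_ Subgroup.le_normalizer
    rcases eq_top_or_exists_le_coatom (Subgroup.normalizer (L₀ : Set L)) with h | ⟨M, hM, hle⟩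
    · exact absurd (hnotnormal L₀ (Subgroup.normalizer_eq_top_iff.1 h) hYL) hL₀.1
    · exact hle.trans (huniq M hM (hYL.trans (Subgroup.le_normalizer.trans hle))).le
  obtain ⟨P, hP⟩ := (T.isPGroup'.map L₀.subtype).exists_le_sylow
  have hPT : (P : Subgroup L) = T' := by
    refine le_antisymm ?_ hP
    by_contra hne
    haveI := P.isPGroup'.isNilpotent
    have hlt : T'.subgroupOf (P : Subgroup L) < ⊤ := lt_top_iff_ne_top.2 fun e => hne (Subgroup.subgroupOf_eq_top.1 e)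
    obtain ⟨g, hg1, hg2⟩ := SetLike.exists_of_lt ((Group.normalizerCondition_of_isNilpotent (G := (P : Subgroup L))) _ hlt)
    have hgN : (g : L) ∈ Subgroup.normalizer (T' : Set L) := by
      rw [Subgroup.mem_normalizer_iff]
      intro x
      constructor
      · intro hx; exact (Subgroup.mem_normalizer_iff.1 hg1 ⟨x, hP hx⟩).1 hx
      · intro hx
        have hxP : x ∈ (P : Subgroup L) := by
          simpa [mul_assoc] using mul_mem (mul_mem (inv_mem g.2) (hP hx)) g.2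
        exact (Subgroup.mem_normalizer_iff.1 hg1 ⟨x, hxP⟩).2 hx
    have hgY : (g : L) ∈ L₀ := hNT hgN
    have h2 : (P : Subgroup L).subgroupOf L₀ = T :=
      T.is_maximal' (P.isPGroup'.comap_of_injective _ L₀.subtype_injective) fun x hx => hP ⟨x, hx, rfl⟩
    exact hg2 ⟨⟨g, hgY⟩, (SetLike.ext_iff.1 h2 _).1 g.2, rfl⟩
  have hgen : ∀ g : L, g ∉ L₀ → Y ⊔ Y.map (MulAut.conj g).toMonoidHom = ⊤ := by
    intro g hg
    rcases eq_top_or_exists_le_coatom (Y ⊔ Y.map (MulAut.conj g).toMonoidHom) with h | ⟨M, hM, hle⟩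
    · exact h
    · exfalso
      have hM0 := huniq M hM (le_sup_left.trans hle)
      subst hM0
      have hc : IsCoatom (M.map (MulAut.conj g⁻¹).toMonoidHom) := (OrderIso.isCoatom_iff (MulAut.conj g⁻¹).mapSubgroup M).2 hM
      have hYc : Y ≤ M.map (MulAut.conj g⁻¹).toMonoidHom := fun y hy =>
        ⟨g * y * g⁻¹, hle (Subgroup.mem_sup_right ⟨y, hy, rfl⟩), by simp [mul_assoc]⟩
      have h3 := Local.WCB.mem_normalizer_of_map_conj_eq (huniq _ hc hYc)
      rw [hNL] at h3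
      exact hg (inv_mem_iff.1 h3)
  refine ⟨hNT, (Solv.pCore_le_sylow P).trans (hPT.le.trans hTL), ⟨P, hPT⟩, hNL, hgen, fun hcomm g hg => ?_⟩
  set Y' := Y.map (MulAut.conj g).toMonoidHom with hY'
  refine le_antisymm (le_inf inf_le_left ?_) ?_
  · rintro z ⟨hz, y', hy', e⟩
    rw [Subgroup.mem_center_iff]
    intro w
    have h1 : (Y ⊔ Y') ≤ Subgroup.centralizer ({z} : Set L) := by
      refine sup_le (fun a ha => ?_) ?_
      · rw [Subgroup.mem_centralizer_iff]
        intro b hb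
        rw [Set.mem_singleton_iff.1 hb]
        exact congrArg Subtype.val (hcomm.is_comm.comm ⟨z, hz⟩ ⟨a, ha⟩)
      · rintro _ ⟨a, ha, rfl⟩
        rw [Subgroup.mem_centralizer_iff]
        intro b hb
        rw [Set.mem_singleton_iff.1 hb, ← e]
        show (MulAut.conj g) y' * (MulAut.conj g) a = (MulAut.conj g) a * (MulAut.conj g) y'
        rw [← map_mul, ← map_mul, show y' * a = a * y' from congrArg Subtype.val (hcomm.is_comm.comm ⟨y', hy'⟩ ⟨a, ha⟩)]
    exact (Subgroup.mem_centralizer_iff.1 (h1 (hgen g hg ▸ Subgroup.mem_top w)) z rfl).symm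
  · rintro z ⟨hz, hzc⟩
    refine ⟨hz, z, hz, ?_⟩
    show g * z * g⁻¹ = z
    rw [Subgroup.mem_center_iff.1 hzc g, mul_inv_cancel_right]

end Cfsg.Agent.S2835
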