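import Cfsg.Statements.S2836
import Cfsg.Agent.Lib.Local.IrreducibleQuotient
import Cfsg.Agent.Lib.Solv.Coprime
import Cfsg.Agent.Lib.Solv.Basic
import Cfsg.Agent.Lib.Local.PGroup
import Cfsg.Agent.Lib.Local.SylowCenter
import Cfsg.Agent.Lib.Solv.StructMisc
-- import your own Cfsg.Agent.* helpers here

set_option autoImplicit false
open Cfsg

namespace Cfsg.Agent.S2836
open Cfsg.Agent


/-- Let L be a finite group, L₀ a maximal subgroup, T a Sylow p-subgroup of L₀, Y ≤ T, and suppose L is Y-minimal. Let D be the intersection of the conjugates of L₀ (the core of L₀). Then D contains O_p(L) and D/O_p(L) is the Frattini subgroup of L/O_p(L), so D is p-closed; and every normal subgroup N of L contained in L₀ is p-closed with N/O_p(N) a nilpotent group of order prime to p. -/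
theorem result {L : Type*} [Group L] [Finite L] {p : ℕ} [Fact p.Prime] (L₀ : Subgroup L) (hL₀ : IsCoatom L₀) (T : Sylow p ↥L₀) (Y : Subgroup L) (hYT : Y ≤ (T : Subgroup ↥L₀).map L₀.subtype) (hmin : Cfsg.IsMinimalOver Y) : (Cfsg.pCore p L ≤ L₀.normalCore ∧ (L₀.normalCore).map (QuotientGroup.mk' (Cfsg.pCore p L)) = frattini (L ⧸ Cfsg.pCore p L) ∧ Cfsg.IsPClosed p ↥(L₀.normalCore)) ∧ ∀ (N : Subgroup L) [N.Normal], N ≤ L₀ → Cfsg.IsPClosed p ↥N ∧ Group.IsNilpotent (↥N ⧸ Cfsg.pCore p ↥N) ∧ (Nat.card (↥N ⧸ Cfsg.pCore p ↥N)).Coprime p := by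
  classical
  obtain ⟨hNC, M₁, hM₁, huniq⟩ := hmin
  set T' := (T : Subgroup ↥L₀).map L₀.subtype with hT'
  have hT'L : T' ≤ L₀ := Subgroup.map_subtype_le _
  have hT'p : IsPGroup p T' := T.isPGroup'.map _
  have hYL : Y ≤ L₀ := hYT.trans hT'L
  have hYp : IsPGroup p Y := hT'p.to_le hYT
  have huni : ∀ M : Subgroup L, IsCoatom M → Y ≤ M → M = L₀ := fun M hM hYM =>
    (huniq M ⟨hM, hYM⟩).trans (huniq L₀ ⟨hL₀, hYL⟩).symm
  have hcase : ∀ X : Subgroup L, Y ≤ X → X = ⊤ ∨ X ≤ L₀ := fun X hX => by
    rcases eq_top_or_exists_le_coatom X with h | ⟨M, hM, hXM⟩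
    · exact Or.inl h
    · exact Or.inr (huni M hM (hX.trans hXM) ▸ hXM)
  set O := Cfsg.pCore p L with hOdef
  have hOp : IsPGroup p O := Solv.isPGroup_pCore p L
  have hOL : O ≤ L₀ := by
    rcases hcase (Y ⊔ O) le_sup_left with h | h
    · exfalso
      have hLp : IsPGroup p L := by
        have := hYp.to_sup_of_normal_right hOp
        rw [h] at this
        exact this.of_equiv Subgroup.topEquiv
      haveI := hLp.isNilpotent
      haveI hn : L₀.Normal := Solv.coatom_normal_of_isNilpotent (G := L) inferInstance L₀ hL₀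
      have h1 : Subgroup.normalClosure (Y : Set L) ≤ L₀ := Subgroup.normalClosure_le_normal hYL
      rw [hNC] at h1
      exact hL₀.1 (eq_top_iff.2 h1)
    · exact le_sup_right.trans h
  have hOcore : O ≤ L₀.normalCore := Subgroup.normal_le_normalCore.2 hOL
  have hclosed : ∀ (N : Subgroup L) [N.Normal], N ≤ L₀ → Cfsg.IsPClosed p ↥N := by
    intro N hN hNL
    have hidx : ¬ p ∣ (T'.subgroupOf L₀).index := by
      rw [hT', Subgroup.subgroupOf, Subgroup.comap_map_eq_self_of_injective L₀.subtype_injective]
      exact T.not_dvd_index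
    haveI : (N.subgroupOf L₀).Normal := inferInstance
    set P₀ := (T' ⊓ N).subgroupOf N
    have hP₀p : IsPGroup p P₀ := (hT'p.to_le inf_le_left).comap_subtype
    have hP₀idx : ¬ p ∣ P₀.index := by
      intro hd
      have h1 : p ∣ T'.relIndex N := by
        rw [← Subgroup.inf_relIndex_right]; exact hd
      have h2 : T'.relIndex N = (T : Subgroup ↥L₀).relIndex (N.subgroupOf L₀) := by
        conv_lhs => rw [hT', ← Subgroup.map_subgroupOf_eq_of_le hNL]
        exact Subgroup.relIndex_map_map_of_injective _ _ L₀.subtype_injective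
      exact Cfsg.Agent.Local.SylowCenter.not_dvd_relIndex_normal T (N.subgroupOf L₀) (h2 ▸ h1)
    set P : Sylow p N := hP₀p.toSylow hP₀idx
    have hPm : (P : Subgroup N).map N.subtype = T' ⊓ N := Subgroup.map_subgroupOf_eq_of_le inf_le_right
    have hYn : Y ≤ Subgroup.normalizer (((P : Subgroup N).map N.subtype : Subgroup L) : Set L) := by
      rw [hPm]
      exact Solv.le_normalizer_inf (hYT.trans Subgroup.le_normalizer) Subgroup.le_normalizer_of_normal
    rw [Cfsg.Agent.Local.Irred.isPClosed_iff P]
    rcases hcase _ hYn with h | h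
    · haveI : ((P : Subgroup N).map N.subtype).Normal := Subgroup.normalizer_eq_top_iff.1 h
      have := Subgroup.Normal.comap (f := N.subtype) this
      rwa [Subgroup.comap_map_eq_self_of_injective N.subtype_injective] at this
    · exfalso
      have htop := Sylow.normalizer_sup_eq_top P
      refine hL₀.1 (eq_top_iff.2 (htop.ge.trans (sup_le h hNL)))
  set π := QuotientGroup.mk' O
  have hker : π.ker = O := QuotientGroup.ker_mk' O
  have hNbar : ∀ (N : Subgroup L) [N.Normal], N ≤ L₀ → (Nat.card ↥(N.map π)).Coprime p ∧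
      Group.IsNilpotent ↥(N.map π) ∧ (Cfsg.pCore p ↥N).map N.subtype = O ⊓ N := by
    intro N hN hNL
    have hcop : (Nat.card ↥(N.map π)).Coprime p := by
      refine ((Fact.out : p.Prime).coprime_iff_not_dvd.2 ?_).symm
      intro hd
      obtain ⟨P⟩ := (inferInstance : Nonempty (Sylow p N))
      have hle : (P : Subgroup N).map N.subtype ≤ O :=
        Cfsg.Agent.Local.Irred.le_pCore_of_isPClosed_normal N (hclosed N hNL) (P.isPGroup'.map _)
          (Subgroup.map_subtype_le _)
      let f : N →* ↥(N.map π) := π.subgroupMap N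
      have hf : Function.Surjective f := π.subgroupMap_surjective N
      have hPk : (P : Subgroup N) ≤ f.ker := fun x hx => by
        rw [MonoidHom.mem_ker]
        exact Subtype.ext ((QuotientGroup.eq_one_iff _).2 (hle ⟨x, hx, rfl⟩))
      have h1 : Nat.card ↥(N.map π) = f.ker.index := by
        rw [Subgroup.index_ker, MonoidHom.range_eq_top.2 hf, Subgroup.card_top]
      exact P.not_dvd_index ((h1 ▸ hd).trans (Subgroup.index_dvd_of_le hPk))
    refine ⟨hcop, ?_, Solv.pCore_map_subtype p N⟩
    haveI : (N.map π).Normal := hN.map π (QuotientGroup.mk'_surjective O)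
    refine (Group.isNilpotent_of_finite_tfae (G := ↥(N.map π))).out 3 0 |>.1 ?_
    intro q hq Q₀
    haveI := hq
    have hc : (Nat.card ↥(Y.map π)).Coprime (Nat.card ↥(N.map π)) := by
      obtain ⟨k, hk⟩ := IsPGroup.iff_card.1 (hYp.map π)
      rw [hk]; exact (hcop.pow_right k).symm
    haveI : Group.IsNilpotent ↥(Y.map π) := (hYp.map π).isNilpotent
    obtain ⟨Q, hQ⟩ := Solv.exists_invariant_sylow (Y.map π) (N.map π) Subgroup.le_normalizer_of_normal hc
      (Or.inl inferInstance) q
    have hQn : (Q : Subgroup ↥(N.map π)).Normal := by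
      rcases hcase _ (Subgroup.map_le_iff_le_comap.1 hQ) with h | h
      · haveI : ((Q : Subgroup ↥(N.map π)).map (N.map π).subtype).Normal :=
          Subgroup.normalizer_eq_top_iff.1 (by
            rw [← Subgroup.map_comap_eq_self_of_surjective (QuotientGroup.mk'_surjective O)
              (Subgroup.normalizer (((Q : Subgroup ↥(N.map π)).map (N.map π).subtype : Subgroup (L ⧸ O)) : Set (L ⧸ O))),
              h, Subgroup.map_top_of_surjective _ (QuotientGroup.mk'_surjective O)])
        have := Subgroup.Normal.comap (f := (N.map π).subtype) this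
        rwa [Subgroup.comap_map_eq_self_of_injective (N.map π).subtype_injective] at this
      · exfalso
        have htop := Sylow.normalizer_sup_eq_top Q
        have h2 : (⊤ : Subgroup (L ⧸ O)) ≤ L₀.map π := htop.ge.trans (sup_le (by
          rw [← Subgroup.map_comap_eq_self_of_surjective (QuotientGroup.mk'_surjective O)
            (Subgroup.normalizer (((Q : Subgroup ↥(N.map π)).map (N.map π).subtype : Subgroup (L ⧸ O)) : Set (L ⧸ O)))]
          exact Subgroup.map_mono h) (Subgroup.map_mono hNL))
        have h3 := Subgroup.comap_mono (f := π) h2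
        rw [Subgroup.comap_top, Subgroup.comap_map_eq_self (hker.le.trans hOL)] at h3
        exact hL₀.1 (eq_top_iff.2 h3)
    haveI := Sylow.unique_of_normal Q hQn
    rwa [Subsingleton.elim Q₀ Q]
  refine ⟨⟨hOcore, ?_, hclosed _ L₀.normalCore_le⟩, fun N _ hNL => ?_⟩
  · apply le_antisymm
    · rw [frattini, Order.radical]
      refine le_iInf₂ fun M hM => ?_
      rw [Subgroup.map_le_iff_le_comap]
      set M' := M.comap π with hM'
      have hM'c : IsCoatom M' := Subgroup.isCoatom_comap_of_surjective (QuotientGroup.mk'_surjective O) hM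
      set C := L₀.normalCore with hC
      by_contra hCM
      have htop : C ⊔ M' = ⊤ := hM'c.2 _ (lt_of_le_of_ne le_sup_right fun e => hCM (by rw [e]; exact le_sup_left))
      have hOM : O ≤ M' := hker ▸ Subgroup.ker_le_comap π M
      have hidx : ¬ p ∣ M'.index := by
        intro hd
        have h1 : M'.index ∣ O.relIndex C := by
          have e := Solv.card_sup_mul_card_inf C M' (Subgroup.le_normalizer_of_normal)
          rw [htop, Subgroup.card_top, ← Subgroup.index_mul_card M'] at e
          have e' : M'.index * Nat.card ↥(C ⊓ M') = Nat.card C := by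
            refine Nat.eq_of_mul_eq_mul_left (Nat.card_pos (α := M')) ?_
            rw [mul_comm (Nat.card M') (Nat.card C), ← e]; ring
          have e2 := Subgroup.relIndex_mul_relIndex ⊥ (C ⊓ M') C bot_le inf_le_left
          rw [Subgroup.relIndex_bot_left, Subgroup.relIndex_bot_left, Subgroup.inf_relIndex_left] at e2
          have e3 : M'.index = M'.relIndex C :=
            Nat.eq_of_mul_eq_mul_right (Nat.card_pos (α := ↥(C ⊓ M'))) (by rw [e', ← e2, mul_comm])
          rw [e3]
          exact Subgroup.relIndex_dvd_of_le_left C hOM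
        have h2 : O.relIndex C = Nat.card ↥(C.map π) := by
          exact (congrArg (fun X : Subgroup L => X.relIndex C) hker.symm).trans (Subgroup.relIndex_ker _ π)
        have h3 := (hNbar C L₀.normalCore_le).1
        exact ((Fact.out : p.Prime).coprime_iff_not_dvd.1 h3.symm) (h2 ▸ hd.trans h1)
      obtain ⟨R⟩ := (inferInstance : Nonempty (Sylow p ↥M'))
      obtain ⟨S', hS'⟩ := hYp.exists_le_sylow
      set R' : Sylow p L := (R.isPGroup'.map M'.subtype).toSylow (by
        rw [Subgroup.index_map_subtype]
        exact Nat.Prime.not_dvd_mul (Fact.out : p.Prime) R.not_dvd_index hidx)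
      obtain ⟨g, hg⟩ := MulAction.exists_smul_eq L R' S'
      have hYg : Y ≤ M'.map (MulAut.conj g).toMonoidHom := by
        intro y hy
        have h1 : y ∈ ((g • R' : Sylow p L) : Subgroup L) := hg.symm ▸ hS' hy
        obtain ⟨r, hr, e⟩ := h1
        exact ⟨r, Subgroup.map_subtype_le _ hr, e⟩
      have h4 : M'.map (MulAut.conj g).toMonoidHom = L₀ := huni _ ((OrderIso.isCoatom_iff (MulAut.conj g).mapSubgroup M').2 hM'c) hYg
      refine hCM fun c hc => ?_
      have h5 : g * c * g⁻¹ ∈ M'.map (MulAut.conj g).toMonoidHom := by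
        rw [h4]
        exact L₀.normalCore_le ((L₀.normalCore_normal).conj_mem c hc g)
      obtain ⟨m, hm, e⟩ := h5
      have : m = c := (MulAut.conj g).injective e
      exact this ▸ hm
    · have h1 : (frattini (L ⧸ O)).comap π ≤ L₀.normalCore := by
        refine Subgroup.normal_le_normalCore.2 ?_
        have hc : IsCoatom (L₀.map π) := by
          rw [← Subgroup.comap_map_eq_self (show π.ker ≤ L₀ from hker.le.trans hOL)] at hL₀
          refine ⟨fun h => hL₀.1 (by rw [h, Subgroup.comap_top]), fun B hB => ?_⟩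
          have := hL₀.2 (B.comap π) ((Subgroup.comap_lt_comap_of_surjective (QuotientGroup.mk'_surjective O)).2 hB)
          rw [← Subgroup.map_comap_eq_self_of_surjective (QuotientGroup.mk'_surjective O) B, this,
            Subgroup.map_top_of_surjective _ (QuotientGroup.mk'_surjective O)]
        exact (Subgroup.comap_mono (frattini_le_coatom hc)).trans
          (Subgroup.comap_map_eq_self (show π.ker ≤ L₀ from hker.le.trans hOL)).le
      exact (Subgroup.map_comap_eq_self_of_surjective (QuotientGroup.mk'_surjective O) _).ge.trans (Subgroup.map_mono h1)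
  · obtain ⟨hcop, hnil, hcore⟩ := hNbar N hNL
    refine ⟨hclosed N hNL, ?_⟩
    let f : N →* ↥(N.map π) := π.subgroupMap N
    have hf : Function.Surjective f := π.subgroupMap_surjective N
    have hfk : f.ker = Cfsg.pCore p ↥N := by
      refine Subgroup.map_injective N.subtype_injective ?_
      rw [hcore]
      ext x
      constructor
      · rintro ⟨y, hy, rfl⟩
        exact Subgroup.mem_inf.2 ⟨(QuotientGroup.eq_one_iff _).1 (congrArg Subtype.val hy), y.2⟩
      · intro hx
        exact ⟨⟨x, hx.2⟩, Subtype.ext ((QuotientGroup.eq_one_iff x).2 hx.1), rfl⟩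
    let e : ↥N ⧸ Cfsg.pCore p ↥N ≃* ↥(N.map π) :=
      (QuotientGroup.quotientMulEquivOfEq hfk.symm).trans (QuotientGroup.quotientKerEquivOfSurjective f hf)
    exact ⟨Group.nilpotent_of_mulEquiv e.symm, by rw [Nat.card_congr e.toEquiv]; exact hcop⟩

end Cfsg.Agent.S2836
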