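import Cfsg.Statements.S2837
import Cfsg.Agent.S2835
import Cfsg.Agent.Lib.Solv.Basic
import Cfsg.Agent.Lib.Solv.StructMisc
import Cfsg.Agent.Lib.Struct.ClassTwoBasic
-- import your own Cfsg.Agent.* helpers here

set_option autoImplicit false
open Cfsg

namespace Cfsg.Agent.S2837
open Cfsg.Agent
open scoped commutatorElement


/-- Let L be a finite group of characteristic p, L₀ a maximal subgroup, Y an elementary abelian p-subgroup of L₀ with L Y-minimal and O_p(L) ≤ N_L(Y). Put A = the normal closure of O_p(L) ∩ Y in L. Then for every g ∈ L outside L₀: Φ(A) = A' = [A ∩ Y, A] = [A ∩ Y, A ∩ gYg⁻¹] ≤ C_Y(L), and Y ∩ gYg⁻¹ = (A ∩ Y) ∩ (A ∩ gYg⁻¹) = C_Y(L) = C_A(L). -/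
theorem result {L : Type*} [Group L] [Finite L] {p : ℕ} [Fact p.Prime] (hchar : Subgroup.centralizer (Cfsg.pCore p L : Set L) ≤ Cfsg.pCore p L) (L₀ : Subgroup L) (hL₀ : IsCoatom L₀) (Y : Subgroup L) (hYL₀ : Y ≤ L₀) (hYel : Cfsg.IsElementaryAbelian p Y) (hmin : Cfsg.IsMinimalOver Y) (hOY : Cfsg.pCore p L ≤ Subgroup.normalizer (Y : Set L)) (A : Subgroup L) (hA : A = Subgroup.normalClosure (((Cfsg.pCore p L ⊓ Y : Subgroup L)) : Set L)) (g : L) (hg : g ∉ L₀) : (frattini ↥A).map A.subtype = ⁅A, A⁆ ∧ ⁅A, A⁆ = ⁅A ⊓ Y, A⁆ ∧ ⁅A ⊓ Y, A⁆ = ⁅A ⊓ Y, A ⊓ Y.map (MulAut.conj g).toMonoidHom⁆ ∧ ⁅A ⊓ Y, A⁆ ≤ Y ⊓ Subgroup.center L ∧ Y ⊓ Y.map (MulAut.conj g).toMonoidHom = Y ⊓ Subgroup.center L ∧ (A ⊓ Y) ⊓ (A ⊓ Y.map (MulAut.conj g).toMonoidHom) = Y ⊓ Subgroup.center L ∧ A ⊓ Subgroup.center L = Y ⊓ Subgroup.center L := by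
  skip
  classical
  have hp : p.Prime := Fact.out
  obtain ⟨hYc, hYp⟩ := hYel
  obtain ⟨T, hT⟩ := (IsPGroup.comap_of_injective (p := p) (H := Y) (fun x => ⟨1, by
    rw [pow_one]; exact Subtype.ext (by rw [SubgroupClass.coe_pow]; exact hYp x x.2)⟩) L₀.subtype L₀.subtype_injective).exists_le_sylow
  have hYT : Y ≤ (T : Subgroup ↥L₀).map L₀.subtype := fun y hy => ⟨⟨y, hYL₀ hy⟩, hT hy, rfl⟩
  obtain ⟨-, -, -, -, hgen0, hint0⟩ := Cfsg.Agent.S2835.result L₀ hL₀ T Y hYT hmin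
  set O := Cfsg.pCore p L with hO
  haveI hOn : O.Normal := by rw [hO]; infer_instance
  set Yg := Y.map (MulAut.conj g).toMonoidHom with hYg
  have hgen : Y ⊔ Yg = ⊤ := hgen0 g hg
  have hint : Y ⊓ Yg = Y ⊓ Subgroup.center L := hint0 hYc g hg
  have comm : ∀ a ∈ Y, ∀ b ∈ Y, a * b = b * a := fun a ha b hb =>
    congrArg Subtype.val (hYc.is_comm.comm ⟨a, ha⟩ ⟨b, hb⟩)
  have memg : ∀ {x : L}, x ∈ Yg → g⁻¹ * x * g ∈ Y := by
    rintro x ⟨y, hy, rfl⟩
    simpa [mul_assoc] using hy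
  have memg' : ∀ {y : L}, y ∈ Y → g * y * g⁻¹ ∈ Yg := fun {y} hy => ⟨y, hy, rfl⟩
  have commg : ∀ a ∈ Yg, ∀ b ∈ Yg, a * b = b * a := by
    rintro _ ⟨a, ha, rfl⟩ _ ⟨b, hb, rfl⟩
    show (MulAut.conj g) a * (MulAut.conj g) b = (MulAut.conj g) b * (MulAut.conj g) a
    rw [← map_mul, ← map_mul, comm a ha b hb]
  have powg : ∀ a ∈ Yg, a ^ p = 1 := by
    rintro _ ⟨a, ha, rfl⟩
    show (MulAut.conj g) a ^ p = 1
    rw [← map_pow, hYp a ha, map_one]
  have normY : ∀ o ∈ O, ∀ y ∈ Y, o * y * o⁻¹ ∈ Y := fun o ho y hy =>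
    (Subgroup.mem_normalizer_iff.1 (hOY ho) y).1 hy
  have normYg : ∀ o ∈ O, ∀ y ∈ Yg, o * y * o⁻¹ ∈ Yg := fun o ho y hy => by
    have h1 := normY _ (hOn.conj_mem o ho g⁻¹) _ (memg hy)
    have h2 := memg' h1
    simpa [mul_assoc] using h2
  set B := O ⊓ Y with hB
  set Bg := O ⊓ Yg with hBg
  have cYg : ∀ b ∈ Bg, ∀ y ∈ Y, y * b * y⁻¹ * b⁻¹ ∈ B := fun b hb y hy => by
    refine Subgroup.mem_inf.2 ⟨mul_mem (hOn.conj_mem b hb.1 y) (inv_mem hb.1), ?_⟩
    have := mul_mem hy (normY b hb.1 y⁻¹ (inv_mem hy))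
    simpa [mul_assoc] using this
  have cY : ∀ b ∈ B, ∀ y ∈ Yg, y * b * y⁻¹ * b⁻¹ ∈ Bg := fun b hb y hy => by
    refine Subgroup.mem_inf.2 ⟨mul_mem (hOn.conj_mem b hb.1 y) (inv_mem hb.1), ?_⟩
    have := mul_mem hy (normYg b hb.1 y⁻¹ (inv_mem hy))
    simpa [mul_assoc] using this
  set A' := B ⊔ Bg with hA'
  have hY1 : Y ≤ Subgroup.normalizer (A' : Set L) := by
    intro y hy
    have key : ∀ y ∈ Y, A'.map (MulAut.conj y).toMonoidHom ≤ A' := by
      intro y hy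
      rw [hA', Subgroup.map_sup]
      refine sup_le ?_ ?_
      · rintro _ ⟨b, hb, rfl⟩
        show y * b * y⁻¹ ∈ B ⊔ Bg
        rw [comm y hy b hb.2, mul_inv_cancel_right]
        exact Subgroup.mem_sup_left hb
      · rintro _ ⟨b, hb, rfl⟩
        show y * b * y⁻¹ ∈ B ⊔ Bg
        have := mul_mem (Subgroup.mem_sup_left (cYg b hb y hy) : y * b * y⁻¹ * b⁻¹ ∈ B ⊔ Bg) (Subgroup.mem_sup_right hb)
        simpa using this
    rw [Subgroup.mem_normalizer_iff]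
    intro x
    refine ⟨fun hx => key y hy ⟨x, hx, rfl⟩, fun hx => ?_⟩
    have := key y⁻¹ (inv_mem hy) ⟨y * x * y⁻¹, hx, rfl⟩
    simpa [mul_assoc] using this
  have hY2 : Yg ≤ Subgroup.normalizer (A' : Set L) := by
    intro y hy
    have key : ∀ y ∈ Yg, A'.map (MulAut.conj y).toMonoidHom ≤ A' := by
      intro y hy
      rw [hA', Subgroup.map_sup]
      refine sup_le ?_ ?_
      · rintro _ ⟨b, hb, rfl⟩
        show y * b * y⁻¹ ∈ B ⊔ Bg
        have := mul_mem (Subgroup.mem_sup_right (cY b hb y hy) : y * b * y⁻¹ * b⁻¹ ∈ B ⊔ Bg) (Subgroup.mem_sup_left hb)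
        simpa using this
      · rintro _ ⟨b, hb, rfl⟩
        show y * b * y⁻¹ ∈ B ⊔ Bg
        rw [commg y hy b hb.2, mul_inv_cancel_right]
        exact Subgroup.mem_sup_right hb
    rw [Subgroup.mem_normalizer_iff]
    intro x
    refine ⟨fun hx => key y hy ⟨x, hx, rfl⟩, fun hx => ?_⟩
    have := key y⁻¹ (inv_mem hy) ⟨y * x * y⁻¹, hx, rfl⟩
    simpa [mul_assoc] using this
  haveI hA'n : A'.Normal := Subgroup.normalizer_eq_top_iff.1 (top_le_iff.1 (hgen ▸ sup_le hY1 hY2))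
  have hBgA : Bg ≤ A := by
    rintro x ⟨hxO, hxY⟩
    haveI : A.Normal := hA ▸ Subgroup.normalClosure_normal
    have h1 : g⁻¹ * x * g ∈ A := hA ▸ Subgroup.subset_normalClosure
      (Subgroup.mem_inf.2 ⟨(by simpa [mul_assoc] using hOn.conj_mem x hxO g⁻¹), memg hxY⟩)
    simpa [mul_assoc] using Subgroup.Normal.conj_mem inferInstance _ h1 g
  have hAA' : A = A' := by
    refine le_antisymm ?_ (sup_le ?_ hBgA)
    · rw [hA]; exact Subgroup.normalClosure_le_normal (SetLike.coe_subset_coe.2 le_sup_left)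
    · rw [hA]; exact Subgroup.subset_normalClosure
  have hAO : A ≤ O := by rw [hAA']; exact sup_le inf_le_left inf_le_left
  have hAY : A ⊓ Y = B := le_antisymm (inf_le_inf_right _ hAO)
    (le_inf (hAA' ▸ le_sup_left) inf_le_right)
  have hAYg : A ⊓ Yg = Bg := le_antisymm (inf_le_inf_right _ hAO) (le_inf hBgA inf_le_right)
  have hD_O : Subgroup.center L ≤ O := (Subgroup.center_le_centralizer _).trans hchar
  have hBB : B ⊓ Bg = Y ⊓ Subgroup.center L := by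
    refine le_antisymm (hint ▸ inf_le_inf inf_le_right inf_le_right) ?_
    intro z hz
    exact ⟨⟨hD_O hz.2, hz.1⟩, hD_O hz.2, (hint.ge hz).2⟩
  have hcent : ∀ {k : L}, k ∈ ⁅B, Bg⁆ → k ∈ Y ⊓ Subgroup.center L := by
    intro k hk
    refine hBB ▸ Subgroup.mem_inf.2 ?_
    have h1 : ⁅B, Bg⁆ ≤ B ⊓ Bg := by
      rw [Subgroup.commutator_le]
      intro b hb c hc
      refine Subgroup.mem_inf.2 ⟨?_, ?_⟩
      · have : c * b⁻¹ * c⁻¹ ∈ B := Subgroup.mem_inf.2 ⟨hOn.conj_mem _ (inv_mem hb.1) c, normY c hc.1 _ (inv_mem hb.2)⟩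
        simpa [commutatorElement_def, mul_assoc] using mul_mem hb this
      · have : b * c * b⁻¹ ∈ Bg := Subgroup.mem_inf.2 ⟨hOn.conj_mem _ hc.1 b, normYg b hb.1 _ hc.2⟩
        simpa [commutatorElement_def, mul_assoc] using mul_mem this (inv_mem hc)
    exact Subgroup.mem_inf.1 (h1 hk)
  have swap : ∀ b ∈ B, ∀ c ∈ Bg, ∃ k ∈ ⁅B, Bg⁆, c * b = k * (b * c) ∧ ∀ w, w * k = k * w := by
    intro b hb c hc
    have h1 : ⁅b, c⁆⁻¹ ∈ ⁅B, Bg⁆ := inv_mem (Subgroup.commutator_mem_commutator hb hc)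
    exact ⟨_, h1, by rw [commutatorElement_def]; group, Subgroup.mem_center_iff.1 (hcent h1).2⟩
  have hmem : ∀ a ∈ A, ∃ b ∈ B, ∃ c ∈ Bg, b * c = a := by
    intro a ha
    have hn : Bg ≤ Subgroup.normalizer (B : Set L) := by
      intro c hc
      rw [Subgroup.mem_normalizer_iff]
      intro x
      refine ⟨fun hx => Subgroup.mem_inf.2 ⟨hOn.conj_mem x hx.1 c, normY c hc.1 x hx.2⟩, fun hx => ?_⟩
      have := (Subgroup.mem_inf.2 ⟨hOn.conj_mem _ hx.1 c⁻¹, normY c⁻¹ (inv_mem hc.1) _ hx.2⟩ : c⁻¹ * (c * x * c⁻¹) * c⁻¹⁻¹ ∈ O ⊓ Y)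
      exact Subgroup.mem_inf.2 (by simpa [mul_assoc] using this)
    rw [hAA'] at ha
    have h2 : a ∈ ((B ⊔ Bg : Subgroup L) : Set L) := ha
    rw [Subgroup.coe_mul_of_right_le_normalizer_left _ _ hn] at h2
    exact Set.mem_mul.1 h2
  have hBA : B ≤ A := hAY ▸ inf_le_left
  have hcomm : ⁅A, A⁆ ≤ ⁅B, Bg⁆ := by
    rw [Subgroup.commutator_le]
    intro a ha a' ha'
    obtain ⟨b, hb, c, hc, rfl⟩ := hmem a ha
    obtain ⟨b', hb', c', hc', rfl⟩ := hmem a' ha'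
    obtain ⟨k, hk, e1, hkc⟩ := swap b' hb' c hc
    obtain ⟨k', hk', e2, hkc'⟩ := swap b hb c' hc'
    have h1 : b * c * (b' * c') = k * (b * b' * (c * c')) := by
      calc b * c * (b' * c') = b * (c * b') * c' := by group
        _ = b * (k * (b' * c)) * c' := by rw [e1]
        _ = (b * k) * (b' * c * c') := by group
        _ = (k * b) * (b' * c * c') := by rw [hkc]
        _ = _ := by group
    have h2 : b' * c' * (b * c) = k' * (b * b' * (c * c')) := by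
      calc b' * c' * (b * c) = b' * (c' * b) * c := by group
        _ = b' * (k' * (b * c')) * c := by rw [e2]
        _ = (b' * k') * (b * c' * c) := by group
        _ = (k' * b') * (b * c' * c) := by rw [hkc']
        _ = k' * ((b' * b) * (c' * c)) := by group
        _ = _ := by rw [comm b' hb'.2 b hb.2, commg c' hc'.2 c hc.2]
    have h3 : ⁅b * c, b' * c'⁆ = k * k'⁻¹ := by
      rw [commutatorElement_def, mul_assoc _ (b * c)⁻¹, ← mul_inv_rev, h1, h2]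
      group
    rw [h3]
    exact mul_mem hk (inv_mem hk')
  have e1 : ⁅A, A⁆ = ⁅B, Bg⁆ := le_antisymm hcomm (Subgroup.commutator_mono hBA hBgA)
  have e2 : ⁅B, A⁆ = ⁅B, Bg⁆ := le_antisymm ((Subgroup.commutator_mono hBA le_rfl).trans hcomm)
    (Subgroup.commutator_mono le_rfl hBgA)
  have hpA : IsPGroup p A := (Cfsg.Agent.Solv.isPGroup_pCore p L).to_le hAO
  refine ⟨le_antisymm ?_ ?_, ?_, ?_, ?_, hint, ?_, ?_⟩
  · rw [Subgroup.map_le_iff_le_comap]
    refine Cfsg.Agent.Struct.ClassTwo.frattini_le hp ?_ ?_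
    · rw [← Subgroup.map_le_iff_le_comap, Subgroup.map_subtype_commutator]
    · rintro ⟨x, hx⟩
      show x ^ p ∈ ⁅A, A⁆
      rw [e1]
      obtain ⟨b, hb, c, hc, rfl⟩ := hmem x hx
      have key : ∀ n : ℕ, ∃ k ∈ ⁅B, Bg⁆, (b * c) ^ n = k * (b ^ n * c ^ n) := by
        intro n
        induction n with
        | zero => exact ⟨1, one_mem _, by simp⟩
        | succ n ih =>
          obtain ⟨k, hk, e⟩ := ih
          obtain ⟨k', hk', e', hkc⟩ := swap b hb (c ^ n) (pow_mem hc n)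
          refine ⟨k * k', mul_mem hk hk', ?_⟩
          calc (b * c) ^ (n + 1) = k * (b ^ n * (c ^ n * b) * c) := by rw [pow_succ, e]; group
            _ = k * (b ^ n * (k' * (b * c ^ n)) * c) := by rw [e']
            _ = k * ((b ^ n * k') * (b * c ^ n * c)) := by group
            _ = k * ((k' * b ^ n) * (b * c ^ n * c)) := by rw [hkc]
            _ = _ := by rw [pow_succ b, pow_succ c]; group
      obtain ⟨k, hk, e⟩ := key p
      rw [e, hYp b hb.2, powg c hc.2, one_mul, mul_one]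
      exact hk
  · haveI := hpA.isNilpotent
    rw [← Subgroup.map_subtype_commutator A]
    exact Subgroup.map_mono Cfsg.Agent.Solv.commutator_le_frattini
  · rw [hAY, e1, e2]
  · rw [hAY, hAYg, e2]
  · rw [hAY, e2]
    exact fun k hk => hcent hk
  · rw [hAY, hAYg, hBB]
  · refine le_antisymm ?_ (le_inf ?_ inf_le_right)
    · intro z hz
      obtain ⟨b, hb, c, hc, e⟩ := hmem z hz.1
      have hzc := Subgroup.mem_center_iff.1 hz.2
      have hcz : c ∈ Subgroup.center L := by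
        rw [Subgroup.mem_center_iff]
        intro w
        have h1 : Y ⊔ Yg ≤ Subgroup.centralizer ({c} : Set L) := by
          refine sup_le (fun a ha => ?_) (fun a ha => ?_)
          · rw [Subgroup.mem_centralizer_singleton_iff]
            have ec : c = b⁻¹ * z := by rw [← e]; group
            rw [ec, ← mul_assoc, comm a ha _ (inv_mem hb.2), mul_assoc, hzc a, mul_assoc]
          · rw [Subgroup.mem_centralizer_singleton_iff]
            exact commg a ha c hc.2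
        exact Subgroup.mem_centralizer_singleton_iff.1 (h1 (hgen ▸ Subgroup.mem_top w))
      have hcY : c ∈ Y := by
        have := memg hc.2
        rwa [mul_assoc, ← Subgroup.mem_center_iff.1 hcz g, inv_mul_cancel_left] at this
      exact Subgroup.mem_inf.2 ⟨e ▸ mul_mem hb.2 hcY, hz.2⟩
    · rw [← hBB, ← hAY]
      exact inf_le_left.trans inf_le_left

end Cfsg.Agent.S2837
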