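import Cfsg.Statements.S2838
import Cfsg.Agent.Lib.Local.WeaklyClosedBasics
-- import your own Cfsg.Agent.* helpers here

set_option autoImplicit false
open Cfsg

namespace Cfsg.Agent.S2838

/-- For a nontrivial p-subgroup Q of a finite group H the following are equivalent: Q is a weakly closed subgroup (it is the only H-conjugate of itself inside some Sylow p-subgroup containing it); Q = P for every conjugate P of Q with [Q, P] ≤ Q ∩ P; Q is normal in N_H(R) for every p-subgroup R of H containing Q. -/
theorem result {H : Type*} [Group H] [Finite H] {p : ℕ} [Fact p.Prime] (Q : Subgroup H) (hQp : IsPGroup p ↥Q) (hQ1 : Q ≠ ⊥) : (Cfsg.IsWeaklyClosedSubgroup p Q ↔ ∀ g : H, ⁅Q, ((Q : Subgroup H).map (MulAut.conj (g : H)).toMonoidHom)⁆ ≤ Q ⊓ ((Q : Subgroup H).map (MulAut.conj (g : H)).toMonoidHom) → ((Q : Subgroup H).map (MulAut.conj (g : H)).toMonoidHom) = Q) ∧ (Cfsg.IsWeaklyClosedSubgroup p Q ↔ ∀ R : Subgroup H, IsPGroup p ↥R → Q ≤ R → Subgroup.normalizer ((R : Subgroup H) : Set H) ≤ Subgroup.normalizer ((Q : Subgroup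 H) : Set H)) := by
  classical
  constructor
  · refine ⟨fun h g hg => ?_, fun h => Local.WCB.isWeaklyClosedSubgroup_of_commutator hQp h⟩
    have h1 : (Q.map (MulAut.conj g).toMonoidHom) ≤ Subgroup.normalizer (Q : Set H) :=
      Subgroup.le_normalizer_iff_commutator_le_left.2 (hg.trans inf_le_left)
    have hp' := Local.WCB.isPGroup_sup hQp (hQp.map (MulAut.conj g).toMonoidHom) h1
    have h2 := Local.WCB.eq_of_isWeaklyClosedSubgroup h hp' (a := g) (b := 1) le_sup_right
      (by rw [Local.WCB.map_conj_one]; exact le_sup_left)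
    rwa [Local.WCB.map_conj_one] at h2
  · constructor
    · intro h R hR hQR g hg
      refine Local.WCB.mem_normalizer_of_map_conj_eq ?_
      have h2 := Local.WCB.eq_of_isWeaklyClosedSubgroup h hR (a := g) (b := 1) ?_
        (by rw [Local.WCB.map_conj_one]; exact hQR)
      · rwa [Local.WCB.map_conj_one] at h2
      · exact (Subgroup.map_mono hQR).trans (Local.WCB.map_conj_eq_of_mem_normalizer hg).le
    · intro h
      obtain ⟨T, hT⟩ := hQp.exists_le_sylow
      exact ⟨T, Local.WCB.weaklyClosed_of_sylow_le_normalizer T hT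
        (fun S hS => Subgroup.le_normalizer.trans (h S S.isPGroup' hS)) (h T T.isPGroup' hT)⟩

end Cfsg.Agent.S2838
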