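import Cfsg.Statements.S2839
import Cfsg.Agent.Lib.Local.WeaklyClosedBasics
import Cfsg.Agent.Lib.Local.Irreducible
-- import your own Cfsg.Agent.* helpers here

set_option autoImplicit false
open Cfsg

namespace Cfsg.Agent.S2839

/-- Let Q be a nontrivial p-subgroup of the finite group H that is a weakly closed subgroup, K a subgroup containing Q and N a normal subgroup of H. Then Q is a weakly closed subgroup of K; every H-conjugate of Q contained in K is a K-conjugate of Q; N_K(Q) contains a Sylow p-subgroup of K; N = N_N(Q)·O^p(N); and QN/N is a weakly closed subgroup of H/N. -/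
theorem result {H : Type*} [Group H] [Finite H] {p : ℕ} [Fact p.Prime] (Q : Subgroup H) (hQp : IsPGroup p ↥Q) (hQ1 : Q ≠ ⊥) (hwc : Cfsg.IsWeaklyClosedSubgroup p Q) (K : Subgroup H) (hQK : Q ≤ K) (N' : Subgroup H) [N'.Normal] : Cfsg.IsWeaklyClosedSubgroup p (Q.subgroupOf K) ∧ (∀ g : H, ((Q : Subgroup H).map (MulAut.conj (g : H)).toMonoidHom) ≤ K → ∃ k ∈ K, ((Q : Subgroup H).map (MulAut.conj (g : H)).toMonoidHom) = ((Q : Subgroup H).map (MulAut.conj (k : H)).toMonoidHom)) ∧ Cfsg.IsParabolic p ((Subgroup.normalizer ((Q : Subgroup H) : Set H)).subgroupOf K) ∧ (N' ⊓ Subgroup.normalizer ((Q : Subgroup H) : Set H)) ⊔ (Cfsg.pResidual p ↥N').map N'.subtype = N' ∧ Cfsg.IsWeaklyClosedSubgroup p (Q.map (QuotientGroup.mk' N')) := by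
  classical
  have hconj : ∀ (B : Subgroup H), Q ≤ B → ∀ g : H, Q.map (MulAut.conj g).toMonoidHom ≤ B →
      ∃ b ∈ B, Q.map (MulAut.conj g).toMonoidHom = Q.map (MulAut.conj b).toMonoidHom := by
    intro B hQB g hg
    obtain ⟨k, hk, hn⟩ := Inv.weaklyClosed_exists_mul_mem_normalizer hwc.choose_spec B hQB g⁻¹
      (fun w hw => by rw [inv_inv]; exact hg ⟨w, hw, rfl⟩)
    refine ⟨k, hk, ?_⟩
    have hn' : k⁻¹ * g ∈ Subgroup.normalizer (Q : Set H) := by simpa using inv_mem hn
    rw [show g = k * (k⁻¹ * g) by group, ← Local.WCB.map_conj_map,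
      Local.WCB.map_conj_eq_of_mem_normalizer hn']
  have hn : ∀ R : Subgroup H, IsPGroup p R → Q ≤ R → R ≤ Subgroup.normalizer (Q : Set H) := by
    intro R hR hQR r hr
    refine Local.WCB.mem_normalizer_of_map_conj_eq ?_
    have h2 := Local.WCB.eq_of_isWeaklyClosedSubgroup hwc hR (a := r) (b := 1) ?_
      (by rw [Local.WCB.map_conj_one]; exact hQR)
    · rwa [Local.WCB.map_conj_one] at h2
    · rintro _ ⟨x, hx, rfl⟩
      exact mul_mem (mul_mem hr (hQR hx)) (inv_mem hr)
  have hQKp : IsPGroup p (Q.subgroupOf K) := hQp.comap_of_injective _ K.subtype_injective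
  obtain ⟨T, hT⟩ := hQKp.exists_le_sylow
  have hTn : (T : Subgroup K).map K.subtype ≤ Subgroup.normalizer (Q : Set H) :=
    hn _ (T.isPGroup'.map _) (fun x hx => ⟨⟨x, hQK hx⟩, hT hx, rfl⟩)
  refine ⟨⟨T, hT, fun k hk => ?_⟩, hconj K hQK, ⟨T, fun x hx => hTn ⟨x, hx, rfl⟩⟩, ?_, ?_⟩
  · have h2 := Local.WCB.eq_of_isWeaklyClosedSubgroup hwc (T.isPGroup'.map K.subtype) (a := (k : H)) (b := 1)
      (by
        rintro _ ⟨x, hx, rfl⟩
        exact ⟨k * ⟨x, hQK hx⟩ * k⁻¹, hk ⟨⟨x, hQK hx⟩, hx, rfl⟩, rfl⟩)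
      (by rw [Local.WCB.map_conj_one]; exact fun x hx => ⟨⟨x, hQK hx⟩, hT hx, rfl⟩)
    rw [Local.WCB.map_conj_one] at h2
    apply Subgroup.map_injective K.subtype_injective
    rw [Subgroup.map_subgroupOf_eq_of_le hQK, Subgroup.map_map]
    conv_rhs => rw [← h2]
    conv_lhs => rw [show K.subtype.comp (MulAut.conj k).toMonoidHom =
      (MulAut.conj (k : H)).toMonoidHom.comp K.subtype from by ext; rfl]
    rw [← Subgroup.map_map, Subgroup.map_subgroupOf_eq_of_le hQK]
  · refine le_antisymm (sup_le inf_le_left (Subgroup.map_subtype_le _)) fun n hn' => ?_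
    haveI := Solv.pResidual_characteristic p ↥N'
    set R := (pResidual p ↥N').map N'.subtype with hR
    set M := N' ⊔ Q with hM
    obtain ⟨P, hP⟩ := (hQp.comap_of_injective M.subtype M.subtype_injective).exists_le_sylow
    have hPn : (P : Subgroup M).map M.subtype ≤ Subgroup.normalizer (Q : Set H) :=
      hn _ (P.isPGroup'.map _) (fun x hx => ⟨⟨x, Subgroup.mem_sup_right hx⟩, hP hx, rfl⟩)
    let PN : Sylow p N' := (((P.isPGroup'.map M.subtype).to_le (inf_le_left : _ ⊓ N' ≤ _)).comap_of_injective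
      N'.subtype N'.subtype_injective).toSylow (by
        intro hd
        refine Solv.index_sylow_inf_subnormal (N'.subgroupOf M)
          (Subgroup.Normal.isSubnormal (Subgroup.Normal.comap inferInstance _)) P (hd.trans (dvd_of_eq ?_))
        show ((P : Subgroup M).map M.subtype ⊓ N').relIndex N' = (P : Subgroup M).relIndex (N'.subgroupOf M)
        rw [Subgroup.inf_relIndex_right]
        conv_lhs => rw [show N' = (N'.subgroupOf M).map M.subtype from (Subgroup.map_subgroupOf_eq_of_le le_sup_left).symm]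
        exact Subgroup.relIndex_map_map_of_injective _ _ M.subtype_injective)
    have htop := Solv.sup_pResidual_eq_top PN
    have h1 : (⟨n, hn'⟩ : N') ∈ (PN : Subgroup N') ⊔ pResidual p N' := htop ▸ Subgroup.mem_top _
    have h2 : ((PN : Subgroup N') ⊔ pResidual p N').map N'.subtype ≤ (N' ⊓ Subgroup.normalizer (Q : Set H)) ⊔ R := by
      rw [Subgroup.map_sup]
      refine sup_le_sup ?_ le_rfl
      rintro _ ⟨x, hx, rfl⟩
      exact ⟨x.2, hPn hx.1⟩
    exact h2 ⟨_, h1, rfl⟩
  · set f := QuotientGroup.mk' N'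
    have hfs := QuotientGroup.mk'_surjective N'
    obtain ⟨T0, hT0⟩ := hQp.exists_le_sylow
    refine ⟨T0.mapSurjective hfs, Local.WCB.weaklyClosed_of_sylow_le_normalizer _ ?_ ?_ ?_⟩
    · rw [Sylow.coe_mapSurjective]; exact Subgroup.map_mono hT0
    · intro Sq hSq
      obtain ⟨c, hc⟩ := MulAction.exists_smul_eq (H ⧸ N') (T0.mapSurjective hfs) Sq
      obtain ⟨c, rfl⟩ := hfs c
      have hSq' : (Sq : Subgroup (H ⧸ N')) = ((c • T0 : Sylow p H) : Subgroup H).map f := by
        rw [← hc]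
        show ((T0.mapSurjective hfs : Subgroup (H ⧸ N'))).map (MulAut.conj (f c)).toMonoidHom =
          ((T0 : Subgroup H).map (MulAut.conj c).toMonoidHom).map f
        rw [Sylow.coe_mapSurjective, Subgroup.map_map, Subgroup.map_map]
        congr 1
      set S := (c • T0 : Sylow p H)
      set M := (S : Subgroup H) ⊔ N'
      have hQM : Q ≤ M := fun x hx => by
        have h1 : f x ∈ (S : Subgroup H).map f := hSq' ▸ hSq ⟨x, hx, rfl⟩
        obtain ⟨s, hs, e⟩ := h1
        rw [show x = s * (s⁻¹ * x) by group]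
        exact mul_mem (Subgroup.mem_sup_left hs) (Subgroup.mem_sup_right ((QuotientGroup.eq_one_iff _).1
          (show f (s⁻¹ * x) = 1 by rw [map_mul, map_inv, e, inv_mul_cancel])))
      obtain ⟨Q', hQ'⟩ := (hQp.comap_of_injective M.subtype M.subtype_injective).exists_le_sylow
      obtain ⟨k, hk⟩ := MulAction.exists_smul_eq M Q' (S.subtype le_sup_left)
      have hkQ : Q.map (MulAut.conj (k : H)).toMonoidHom ≤ (S : Subgroup H) := by
        rintro _ ⟨x, hx, rfl⟩
        have h1 : k * ⟨x, hQM hx⟩ * k⁻¹ ∈ ((S.subtype (le_sup_left : (S : Subgroup H) ≤ M) : Sylow p M) : Subgroup M) := by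
          rw [← hk]; exact ⟨⟨x, hQM hx⟩, hQ' hx, rfl⟩
        exact h1
      have hSn : (S : Subgroup H) ≤ Subgroup.normalizer ((Q.map (MulAut.conj (k : H)).toMonoidHom : Subgroup H) : Set H) := by
        intro s hs
        refine Local.WCB.mem_normalizer_of_map_conj_eq ?_
        refine Local.WCB.map_conj_map s k Q |>.trans ?_
        refine (Local.WCB.eq_of_isWeaklyClosedSubgroup hwc S.isPGroup' ?_ hkQ)
        rw [← Local.WCB.map_conj_map]
        rintro _ ⟨x, hx, rfl⟩
        exact mul_mem (mul_mem hs (hkQ hx)) (inv_mem hs)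
      have hfk : f k ∈ (S : Subgroup H).map f := by
        have h1 : M.map f ≤ (S : Subgroup H).map f := by
          rw [Subgroup.map_sup]
          refine sup_le le_rfl ?_
          rintro _ ⟨x, hx, rfl⟩
          rw [show f x = 1 from (QuotientGroup.eq_one_iff x).2 hx]
          exact one_mem _
        exact h1 ⟨k, k.2, rfl⟩
      have hn2 : (S : Subgroup H).map f ≤ Subgroup.normalizer (((Q.map (MulAut.conj (k : H)).toMonoidHom).map f : Subgroup (H ⧸ N')) : Set (H ⧸ N')) :=
        (Subgroup.map_mono hSn).trans (Subgroup.le_normalizer_map f)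
      have he : (Q.map f).map (MulAut.conj (f (k : H))).toMonoidHom = (Q.map (MulAut.conj (k : H)).toMonoidHom).map f := by
        rw [Subgroup.map_map, Subgroup.map_map]; congr 1
      have h3 := Local.WCB.map_conj_eq_of_mem_normalizer (hn2 (inv_mem hfk))
      rw [← he, Local.WCB.map_conj_map, inv_mul_cancel, Local.WCB.map_conj_one] at h3
      rw [hSq', h3, he]
      exact hn2
    · rw [Sylow.coe_mapSurjective]
      intro gq hgq
      obtain ⟨g, rfl⟩ := hfs gq
      set M := (T0 : Subgroup H) ⊔ N'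
      have hgM : ∀ x ∈ (T0 : Subgroup H), g * x * g⁻¹ ∈ M := fun x hx => by
        obtain ⟨t, ht, e⟩ := (Subgroup.mem_normalizer_iff.1 hgq (f x)).1 ⟨x, hx, rfl⟩
        rw [show g * x * g⁻¹ = t * (t⁻¹ * (g * x * g⁻¹)) by group]
        exact mul_mem (Subgroup.mem_sup_left ht) (Subgroup.mem_sup_right ((QuotientGroup.eq_one_iff _).1
          (show f (t⁻¹ * (g * x * g⁻¹)) = 1 by rw [map_mul, map_inv, e, map_mul, map_mul, map_inv, inv_mul_cancel])))
      have hgT : ((g • T0 : Sylow p H) : Subgroup H) ≤ M := by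
        rintro _ ⟨x, hx, rfl⟩; exact hgM x hx
      obtain ⟨k, hk⟩ := MulAction.exists_smul_eq M ((g • T0).subtype hgT) (T0.subtype le_sup_left)
      rw [Sylow.smul_subtype] at hk
      have h4 : ((k : H) * g) • T0 = T0 := by rw [mul_smul]; exact Sylow.subtype_injective hk
      have h5 : (k : H) * g ∈ Subgroup.normalizer (Q : Set H) := by
        refine Local.WCB.mem_normalizer_of_map_conj_eq ?_
        have h6 := Local.WCB.eq_of_isWeaklyClosedSubgroup hwc T0.isPGroup' (a := (k : H) * g) (b := 1)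
          (by rintro _ ⟨x, hx, rfl⟩; exact h4 ▸ ⟨x, hT0 hx, rfl⟩) (by rw [Local.WCB.map_conj_one]; exact hT0)
        rwa [Local.WCB.map_conj_one] at h6
      have h7 : M.map f ≤ Subgroup.normalizer ((Q.map f : Subgroup (H ⧸ N')) : Set (H ⧸ N')) := by
        rw [Subgroup.map_sup]
        refine sup_le ((Subgroup.map_mono (hn _ T0.isPGroup' hT0)).trans (Subgroup.le_normalizer_map f)) ?_
        rintro _ ⟨x, hx, rfl⟩
        rw [show f x = 1 from (QuotientGroup.eq_one_iff x).2 hx]
        exact one_mem _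
      rw [show f g = (f k)⁻¹ * f ((k : H) * g) by rw [map_mul, inv_mul_cancel_left]]
      exact mul_mem (inv_mem (h7 ⟨k, k.2, rfl⟩)) (Subgroup.le_normalizer_map f ⟨_, h5, rfl⟩)

end Cfsg.Agent.S2839
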