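import Cfsg.Statements.S2840
import Cfsg.Agent.Lib.Local.WeaklyClosedBasics
-- import your own Cfsg.Agent.* helpers here

set_option autoImplicit false
open Cfsg

namespace Cfsg.Agent.S2840

/-- Let Q be a nontrivial p-subgroup of the finite group H that is a weakly closed subgroup and K a subgroup containing Q; let K° be the weak closure of Q in K (generated by the H-conjugates of Q inside K). Then K° is generated by the K-conjugates of Q, and K° is the subnormal closure of Q in K. -/
theorem result {H : Type*} [Group H] [Finite H] {p : ℕ} [Fact p.Prime] (Q : Subgroup H) (hQp : IsPGroup p ↥Q) (hQ1 : Q ≠ ⊥) (hwc : Cfsg.IsWeaklyClosedSubgroup p Q) (K : Subgroup H) (hQK : Q ≤ K) (Kc : Subgroup H) (hKc : Kc = Cfsg.weakClosure Q K) : Kc = ⨆ k : ↥K, ((Q : Subgroup H).map (MulAut.conj ((k : H) : H)).toMonoidHom) ∧ Kc = (Cfsg.subnormalClosure (Q.subgroupOf K)).map K.subtype := by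
  classical
  subst hKc
  have hconj : ∀ (B : Subgroup H), Q ≤ B → ∀ g : H, Q.map (MulAut.conj g).toMonoidHom ≤ B →
      ∃ b ∈ B, Q.map (MulAut.conj g).toMonoidHom = Q.map (MulAut.conj b).toMonoidHom := by
    intro B hQB g hg
    obtain ⟨k, hk, hn⟩ := Inv.weaklyClosed_exists_mul_mem_normalizer hwc.choose_spec B hQB g⁻¹
      (fun w hw => by rw [inv_inv]; exact hg ⟨w, hw, rfl⟩)
    refine ⟨k, hk, ?_⟩
    have hn' : k⁻¹ * g ∈ Subgroup.normalizer (Q : Set H) := by simpa using inv_mem hn
    rw [show g = k * (k⁻¹ * g) by group, ← Local.WCB.map_conj_map,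
      Local.WCB.map_conj_eq_of_mem_normalizer hn']
  have hmemK : ∀ k : ↥K, Q.map (MulAut.conj (k : H)).toMonoidHom ≤ K := by
    rintro k _ ⟨x, hx, rfl⟩
    exact mul_mem (mul_mem k.2 (hQK hx)) (inv_mem k.2)
  have key : weakClosure Q K = ⨆ k : ↥K, Q.map (MulAut.conj (k : H)).toMonoidHom := by
    refine le_antisymm (iSup_le fun g => ?_) (iSup_le fun k => ?_)
    · obtain ⟨k, hk, e⟩ := hconj K hQK g.1 g.2
      rw [e]
      exact le_iSup (fun k : ↥K => Q.map (MulAut.conj (k : H)).toMonoidHom) ⟨k, hk⟩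
    · exact le_iSup (fun g : {g : H // Q.map (MulAut.conj g).toMonoidHom ≤ K} =>
        Q.map (MulAut.conj (g : H)).toMonoidHom) ⟨k, hmemK k⟩
  refine ⟨key, le_antisymm ?_ ?_⟩
  · rw [key]
    refine iSup_le fun k => ?_
    have hind : ∀ L : Subgroup K, L.IsSubnormal → Q.subgroupOf K ≤ L →
        ∀ g : H, Q.map (MulAut.conj g).toMonoidHom ≤ K → Q.map (MulAut.conj g).toMonoidHom ≤ L.map K.subtype := by
      intro L hL
      induction hL with
      | top => intro _ g hg; rwa [← MonoidHom.range_eq_map, Subgroup.range_subtype]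
      | step A B hle hB hN ih =>
        intro hQA g hg
        obtain ⟨_, ⟨b, hb, rfl⟩, e⟩ := hconj (B.map K.subtype)
          (by rw [← Subgroup.map_subgroupOf_eq_of_le hQK]; exact Subgroup.map_mono (hQA.trans hle)) g
          (ih (hQA.trans hle) g hg)
        rw [e]
        rintro _ ⟨x, hx, rfl⟩
        exact ⟨b * ⟨x, hQK hx⟩ * b⁻¹, (hN.conj_mem ⟨⟨x, hQK hx⟩, hle (hQA hx)⟩ (hQA hx) ⟨b, hb⟩), rfl⟩
    rintro x hx
    refine ⟨⟨x, hmemK k hx⟩, Subgroup.mem_sInf.2 fun L hL => ?_, rfl⟩
    obtain ⟨y, hy, e⟩ := hind L hL.2 hL.1 k (hmemK k) hx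
    exact (Subtype.ext e : y = ⟨x, hmemK k hx⟩) ▸ hy
  · have hle : weakClosure Q K ≤ K := iSup_le fun g => g.2
    have h1 : Q ≤ weakClosure Q K := by
      have := le_iSup (fun g : {g : H // Q.map (MulAut.conj g).toMonoidHom ≤ K} =>
        Q.map (MulAut.conj (g : H)).toMonoidHom) ⟨1, by rw [Local.WCB.map_conj_one]; exact hQK⟩
      rwa [Local.WCB.map_conj_one] at this
    have hn : ((weakClosure Q K).subgroupOf K).Normal := by
      refine Subgroup.normal_subgroupOf_of_le_normalizer ?_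
      intro a ha
      refine Local.WCB.mem_normalizer_of_map_conj_eq (Subgroup.eq_of_le_of_card_ge ?_
        (Nat.card_congr ((weakClosure Q K).equivMapOfInjective _ (MulAut.conj a).injective).toEquiv).le)
      rw [Subgroup.map_le_iff_le_comap, key]
      refine iSup_le fun k => ?_
      rw [← Subgroup.map_le_iff_le_comap, Local.WCB.map_conj_map]
      exact le_iSup (fun k : ↥K => Q.map (MulAut.conj (k : H)).toMonoidHom) (⟨a, ha⟩ * k)
    calc (subnormalClosure (Q.subgroupOf K)).map K.subtype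
        ≤ ((weakClosure Q K).subgroupOf K).map K.subtype :=
          Subgroup.map_mono (sInf_le ⟨fun x hx => h1 hx, hn.isSubnormal⟩)
      _ = weakClosure Q K := Subgroup.map_subgroupOf_eq_of_le hle

end Cfsg.Agent.S2840
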