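import Cfsg.Statements.S2841
import Cfsg.Agent.Lib.Local.WeaklyClosedBasics
-- import your own Cfsg.Agent.* helpers here

set_option autoImplicit false
open Cfsg

namespace Cfsg.Agent.S2841
open scoped Pointwise commutatorElement

/-- Let Q be a nontrivial p-subgroup of the finite group H that is a weakly closed subgroup and N a normal subgroup of H. Then N = N_N(Q)·[N, Q] and [N, Q] = (Q ∩ [N, Q])·[N, Q, Q]. -/
theorem result {H : Type*} [Group H] [Finite H] {p : ℕ} [Fact p.Prime] (Q : Subgroup H) (hQp : IsPGroup p ↥Q) (hQ1 : Q ≠ ⊥) (hwc : Cfsg.IsWeaklyClosedSubgroup p Q) (N' : Subgroup H) [N'.Normal] : (∀ n : H, n ∈ N' → ∃ a ∈ N' ⊓ Subgroup.normalizer ((Q : Subgroup H) : Set H), ∃ b ∈ ⁅N', Q⁆, n = a * b) ∧ (∀ c : H, c ∈ ⁅N', Q⁆ → ∃ a ∈ Q ⊓ ⁅N', Q⁆, ∃ b ∈ ⁅⁅N', Q⁆, Q⁆, c = a * b) := by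
  have hlem : ∀ X : Subgroup H, Q ≤ Subgroup.normalizer (X : Set H) → ∀ n ∈ X,
      ∃ a ∈ X ⊓ Subgroup.normalizer ((Q : Subgroup H) : Set H), ∃ b ∈ ⁅X, Q⁆, n = a * b := by
    intro X hX n hn
    set M : Subgroup H := ⁅X, Q⁆ with hM
    have hMX : M ≤ X := Subgroup.le_normalizer_iff_commutator_le_left.1 hX
    have hXM : X ≤ Subgroup.normalizer (M : Set H) := Subgroup.normalizer_commutator_ge_left X Q
    have hQM : Q ≤ Subgroup.normalizer (M : Set H) := Subgroup.normalizer_commutator_ge_right X Q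
    set K := M ⊔ Q with hK
    have hQn : Q.map (MulAut.conj n).toMonoidHom ≤ K := by
      rintro _ ⟨q, hq, rfl⟩
      show n * q * n⁻¹ ∈ K
      rw [show n * q * n⁻¹ = ⁅n, q⁆ * q by rw [commutatorElement_def]; group]
      exact mul_mem (Subgroup.mem_sup_left (Subgroup.commutator_mem_commutator hn hq)) (Subgroup.mem_sup_right hq)
    obtain ⟨S1, hS1⟩ := (hQp.comap_subtype (K := K)).exists_le_sylow
    obtain ⟨S2, hS2⟩ := ((hQp.map (MulAut.conj n).toMonoidHom).comap_subtype (K := K)).exists_le_sylow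
    obtain ⟨k, hk⟩ := MulAction.exists_smul_eq K S2 S1
    have hk' : (Q.map (MulAut.conj ((k : H) * n)).toMonoidHom) ≤ (S1 : Subgroup K).map K.subtype := by
      rw [← Local.WCB.map_conj_map]
      rintro _ ⟨y, hy, rfl⟩
      have h1 : (⟨y, hQn hy⟩ : K) ∈ (S2 : Subgroup K) := hS2 hy
      have h2 : k * ⟨y, hQn hy⟩ * k⁻¹ ∈ (S1 : Subgroup K) := by
        rw [← hk]
        exact ⟨_, h1, rfl⟩
      exact ⟨_, h2, rfl⟩
    have h1' : Q.map (MulAut.conj (1 : H)).toMonoidHom ≤ (S1 : Subgroup K).map K.subtype := by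
      rw [Local.WCB.map_conj_one]
      intro q hq
      exact ⟨⟨q, Subgroup.mem_sup_right hq⟩, hS1 hq, rfl⟩
    have heq := Local.WCB.eq_of_isWeaklyClosedSubgroup hwc (S1.isPGroup'.map K.subtype) hk' h1'
    rw [Local.WCB.map_conj_one] at heq
    have hkn := Local.WCB.mem_normalizer_of_map_conj_eq heq
    have hkK : (k : H) ∈ ((M ⊔ Q : Subgroup H) : Set H) := k.2
    rw [Subgroup.coe_mul_of_right_le_normalizer_left M Q hQM, ← Subgroup.set_mul_normalizer_comm Q M hQM] at hkK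
    obtain ⟨q, hq, m, hm, hqm⟩ := hkK
    have hmn : m * n ∈ Subgroup.normalizer (Q : Set H) := by
      have := mul_mem (inv_mem (Subgroup.le_normalizer hq)) hkn
      rwa [← show (q : H) * m = (k : H) from hqm, mul_assoc, inv_mul_cancel_left] at this
    refine ⟨m * n, Subgroup.mem_inf.2 ⟨mul_mem (hMX hm) hn, hmn⟩, n⁻¹ * m⁻¹ * n,
      (Subgroup.mem_normalizer_iff''.1 (hXM hn) _).1 (inv_mem hm), by group⟩
  refine ⟨fun n hn => hlem N' (Subgroup.normalizer_eq_top N' ▸ le_top) n hn, fun c hc => ?_⟩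
  set M : Subgroup H := ⁅N', Q⁆ with hM
  have hQM : Q ≤ Subgroup.normalizer (M : Set H) := Subgroup.normalizer_commutator_ge_right N' Q
  set D : Subgroup H := ⁅M, Q⁆ with hD
  have hMD : M ≤ Subgroup.normalizer (D : Set H) := Subgroup.normalizer_commutator_ge_left M Q
  have hDM : D ≤ M := Subgroup.le_normalizer_iff_commutator_le_left.1 hQM
  set E : Subgroup H := Q ⊓ M with hE
  have hle : M ≤ E ⊔ D := by
    rw [hM, Subgroup.commutator_le]
    intro n hn q hq
    obtain ⟨a, ha, b, hb, rfl⟩ := hlem N' (Subgroup.normalizer_eq_top N' ▸ le_top) n hn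
    obtain ⟨ha1, ha2⟩ := Subgroup.mem_inf.1 ha
    rw [show ⁅a * b, q⁆ = (a * ⁅b, q⁆ * a⁻¹) * ⁅a, q⁆ by simp [commutatorElement_def]; group]
    refine mul_mem (Subgroup.mem_sup_right ?_) (Subgroup.mem_sup_left (Subgroup.mem_inf.2
      ⟨?_, Subgroup.commutator_mem_commutator ha1 hq⟩))
    · have haD : a ∈ Subgroup.normalizer (D : Set H) :=
        Solv.normalizer_le_normalizer_commutator M Q
          (Subgroup.mem_inf.2 ⟨Subgroup.normalizer_commutator_ge_left N' Q ha1, ha2⟩)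
      exact (Subgroup.mem_normalizer_iff.1 haD _).1 (Subgroup.commutator_mem_commutator hb hq)
    · rw [commutatorElement_def]
      exact mul_mem ((Subgroup.mem_normalizer_iff.1 ha2 q).1 hq) (inv_mem hq)
  have hc' : c ∈ ((E ⊔ D : Subgroup H) : Set H) := hle hc
  rw [Subgroup.coe_mul_of_left_le_normalizer_right E D ((inf_le_right).trans hMD)] at hc'
  obtain ⟨a, ha, b, hb, rfl⟩ := hc'
  exact ⟨a, ha, b, hb, rfl⟩

end Cfsg.Agent.S2841
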