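import Cfsg.Statements.S2843
import Cfsg.Agent.Lib.Local.LargeSubgroup
import Cfsg.Agent.S2840
-- import your own Cfsg.Agent.* helpers here

set_option autoImplicit false
open Cfsg

namespace Cfsg.Agent.S2843
open scoped commutatorElement

/-- Let Q be a nontrivial large p-subgroup of the finite group H, Q ≤ L ≤ H, and Y a nontrivial p-subgroup of H normalized by L. Let L° be the weak closure of Q in L (generated by the conjugates of Q inside L). Then L° equals the weak closure of Q in L·C_H(Y), and [L°, C_H(Y)] ≤ O_p(L°); in particular C_H(Y) normalizes L°. -/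
theorem result {H : Type*} [Group H] [Finite H] {p : ℕ} [Fact p.Prime] (Q : Subgroup H) (hQp : IsPGroup p ↥Q) (hQ1 : Q ≠ ⊥) (hL : Cfsg.IsLarge Q) (L : Subgroup H) (hQL : Q ≤ L) (Y : Subgroup H) (hYp : IsPGroup p ↥Y) (hY1 : Y ≠ ⊥) (hLY : L ≤ Subgroup.normalizer ((Y : Subgroup H) : Set H)) : Cfsg.weakClosure Q L = Cfsg.weakClosure Q (L ⊔ Subgroup.centralizer ((Y : Subgroup H) : Set H)) ∧ ⁅Cfsg.weakClosure Q L, Subgroup.centralizer ((Y : Subgroup H) : Set H)⁆ ≤ (Cfsg.pCoreOf p (Cfsg.weakClosure Q L)) ∧ Subgroup.centralizer ((Y : Subgroup H) : Set H) ≤ Subgroup.normalizer (((Cfsg.weakClosure Q L) : Subgroup H) : Set H) := by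
  set C := Subgroup.centralizer ((Y : Subgroup H) : Set H) with hC
  have hwc := Local.LargeSub.isWeaklyClosed_of_isLarge hQp hQ1 hL
  have hnorm : ∀ l ∈ L, C ≤ Subgroup.normalizer ((Q.map (MulAut.conj l).toMonoidHom : Subgroup H) : Set H) := by
    intro l hl
    have hle : Q.map (MulAut.conj l).toMonoidHom ≤ L := by
      rintro _ ⟨x, hx, rfl⟩
      exact mul_mem (mul_mem hl (hQL hx)) (inv_mem hl)
    obtain ⟨⟨y, hy⟩, hy1⟩ := Subgroup.ne_bot_iff_exists_ne_one.1
      (Local.LargeSub.fixed_ne_bot hYp (hQp.map (MulAut.conj l).toMonoidHom) (hle.trans hLY) hY1)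
    refine le_trans ?_ (Local.LargeSub.centralizer_le_normalizer_large
      (Local.LargeSub.isLarge_conj hL l) (Subgroup.mem_inf.1 hy).2 (fun e => hy1 (Subtype.ext e)))
    exact Subgroup.centralizer_le (Set.singleton_subset_iff.2 (Subgroup.mem_inf.1 hy).1)
  have hLC : L ≤ Subgroup.normalizer (C : Set H) := Local.LargeSub.le_normalizer_centralizer hLY
  have key : ∀ K : Subgroup H, Q ≤ K → Cfsg.weakClosure Q K = ⨆ k : ↥K, Q.map (MulAut.conj (k : H)).toMonoidHom :=
    fun K hK => (S2840.result Q hQp hQ1 hwc K hK _ rfl).1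
  have hWeq : Cfsg.weakClosure Q L = Cfsg.weakClosure Q (L ⊔ C) := by
    rw [key L hQL, key _ (hQL.trans le_sup_left)]
    refine le_antisymm (iSup_le fun k => le_iSup (fun k : ↥(L ⊔ C) =>
      Q.map (MulAut.conj (k : H)).toMonoidHom) ⟨k, Subgroup.mem_sup_left k.2⟩) (iSup_le fun k => ?_)
    have hk : (k : H) ∈ ((L ⊔ C : Subgroup H) : Set H) := k.2
    rw [Subgroup.coe_mul_of_left_le_normalizer_right L C hLC] at hk
    obtain ⟨l, hl, c, hc, hlc⟩ := hk
    have hc' : c ∈ Subgroup.normalizer (Q : Set H) := by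
      have h := hnorm 1 (one_mem L) hc
      rwa [Local.WCB.map_conj_one] at h
    rw [show (k : H) = l * c from hlc.symm, ← Local.WCB.map_conj_map,
      Local.WCB.map_conj_eq_of_mem_normalizer hc']
    exact le_iSup (fun k : ↥L => Q.map (MulAut.conj (k : H)).toMonoidHom) ⟨l, hl⟩
  have hCW : C ≤ Subgroup.normalizer (Cfsg.weakClosure Q L : Set H) := by
    intro c hc
    refine Local.WCB.mem_normalizer_of_map_conj_eq ?_
    rw [key L hQL, Subgroup.map_iSup]
    exact iSup_congr fun k => Local.WCB.map_conj_eq_of_mem_normalizer (hnorm k k.2 hc)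
  refine ⟨hWeq, ?_, hCW⟩
  set W := Cfsg.weakClosure Q L with hW
  have hWL : W ≤ L := Local.LargeSub.weakClosure_le Q L
  haveI := Solv.pCore_characteristic p C
  set P := (Cfsg.pCore p ↥C).map C.subtype with hP
  have hPp : IsPGroup p P := (Solv.isPGroup_pCore p C).map _
  have hLP : L ≤ Subgroup.normalizer (P : Set H) := Struct.CoprimeMinimal.le_normalizer_map_char L C hLC _
  let S : Subgroup H :=
    { carrier := {g | g ∈ Subgroup.normalizer (P : Set H) ∧ ∀ c ∈ C, g * c * g⁻¹ * c⁻¹ ∈ P}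
      one_mem' := ⟨one_mem _, fun c _ => by simp⟩
      mul_mem' := by
        rintro g h ⟨hg, hg'⟩ ⟨hh, hh'⟩
        refine ⟨mul_mem hg hh, fun c hc => ?_⟩
        rw [show g * h * c * (g * h)⁻¹ * c⁻¹ = (g * (h * c * h⁻¹ * c⁻¹) * g⁻¹) * (g * c * g⁻¹ * c⁻¹) by group]
        exact mul_mem ((Subgroup.mem_normalizer_iff.1 hg _).1 (hh' c hc)) (hg' c hc)
      inv_mem' := by
        rintro g ⟨hg, hg'⟩
        refine ⟨inv_mem hg, fun c hc => ?_⟩
        rw [show g⁻¹ * c * g⁻¹⁻¹ * c⁻¹ = g⁻¹ * (g * c * g⁻¹ * c⁻¹)⁻¹ * g by group]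
        exact (Subgroup.mem_normalizer_iff''.1 hg _).1 (inv_mem (hg' c hc)) }
  have hWS : W ≤ S := by
    rw [hW, key L hQL]
    refine iSup_le fun k => ?_
    intro q hq
    have hqL : q ∈ L := by
      obtain ⟨x, hx, rfl⟩ := hq
      exact mul_mem (mul_mem k.2 (hQL hx)) (inv_mem k.2)
    refine ⟨hLP hqL, fun c hc => ?_⟩
    set Qk := Q.map (MulAut.conj (k : H)).toMonoidHom
    have hCk : C ≤ Subgroup.normalizer (Qk : Set H) := hnorm k k.2
    haveI : ((Qk ⊓ C).subgroupOf C).Normal := Subgroup.normal_subgroupOf_of_le_normalizer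
      (le_trans (le_inf hCk Subgroup.le_normalizer) Subgroup.inf_normalizer_le_normalizer_inf)
    have h1 : q * c * q⁻¹ * c⁻¹ ∈ Qk ⊓ C := by
      refine Subgroup.mem_inf.2 ⟨?_, mul_mem ((Subgroup.mem_normalizer_iff.1 (hLC hqL) c).1 hc) (inv_mem hc)⟩
      rw [show q * c * q⁻¹ * c⁻¹ = q * (c * q⁻¹ * c⁻¹) by group]
      exact mul_mem hq ((Subgroup.mem_normalizer_iff.1 (hCk hc) _).1 (inv_mem hq))
    exact ⟨⟨_, h1.2⟩, Solv.le_pCore (N := (Qk ⊓ C).subgroupOf C)
      (((hQp.map _).to_le inf_le_left).comap_subtype) h1, rfl⟩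
  haveI : ((P ⊓ W).subgroupOf W).Normal := Subgroup.normal_subgroupOf_of_le_normalizer
    (le_trans (le_inf (hWL.trans hLP) Subgroup.le_normalizer) Subgroup.inf_normalizer_le_normalizer_inf)
  refine Subgroup.commutator_le.2 fun w hw c hc => ?_
  have h1 : ⁅w, c⁆ ∈ P ⊓ W := by
    refine Subgroup.mem_inf.2 ⟨?_, ?_⟩
    · rw [commutatorElement_def]; exact (hWS hw).2 c hc
    · rw [commutatorElement_def, mul_assoc, mul_assoc]
      refine mul_mem hw ?_
      rw [← mul_assoc]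
      exact (Subgroup.mem_normalizer_iff.1 (hCW hc) _).1 (inv_mem hw)
  exact ⟨⟨_, h1.2⟩, Solv.le_pCore (N := (P ⊓ W).subgroupOf W) ((hPp.to_le inf_le_left).comap_subtype) h1, rfl⟩

end Cfsg.Agent.S2843
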