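import Cfsg.Statements.S2844
import Cfsg.Agent.Lib.Local.LargeSubgroup
-- import your own Cfsg.Agent.* helpers here

set_option autoImplicit false
open Cfsg

namespace Cfsg.Agent.S2844

/-- Let Q be a nontrivial large p-subgroup of the finite group H and Q• = O_p(N_H(Q)). Then for every g ∈ H outside N_H(Q): C_H(Q) ∩ C_H(gQg⁻¹) = 1, C_H(Q•) ∩ C_H(gQ•g⁻¹) = 1, Z(Q) ∩ Z(gQg⁻¹) = 1 and Z(Q•) ∩ Z(gQ•g⁻¹) = 1; moreover N_H(Q) = N_H(Q•) and Q• is large in H. -/
theorem result {H : Type*} [Group H] [Finite H] {p : ℕ} [Fact p.Prime] (Q : Subgroup H) (hQp : IsPGroup p ↥Q) (hQ1 : Q ≠ ⊥) (hL : Cfsg.IsLarge Q) (Qb : Subgroup H) (hQb : Qb = Cfsg.largeBullet p Q) : (∀ g : H, g ∉ Subgroup.normalizer ((Q : Subgroup H) : Set H) → Subgroup.centralizer ((Q : Subgroup H) : Set H) ⊓ Subgroup.centralizer ((((Q : Subgroup H).map (MulAut.conj (g : H)).toMonoidHom) : Subgroup H) : Set H) = ⊥ ∧ Subgroup.centralizer ((Qb : Subgroup H) : Set H) ⊓ Subgroup.centralizer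 ((((Qb : Subgroup H).map (MulAut.conj (g : H)).toMonoidHom) : Subgroup H) : Set H) = ⊥ ∧ (Q ⊓ Subgroup.centralizer ((Q : Subgroup H) : Set H)) ⊓ (((Q : Subgroup H).map (MulAut.conj (g : H)).toMonoidHom) ⊓ Subgroup.centralizer ((((Q : Subgroup H).map (MulAut.conj (g : H)).toMonoidHom) : Subgroup H) : Set H)) = ⊥ ∧ (Qb ⊓ Subgroup.centralizer ((Qb : Subgroup H) : Set H)) ⊓ (((Qb : Subgroup H).map (MulAut.conj (g : H)).toMonoidHom) ⊓ Subgroup.centralizer ((((Qb : Subgroup H).map (MulAut.conj (g : H)).toMonoidHom) : Subgroup H) : Set H)) = ⊥) ∧ Subgroup.normalizer ((Q : Subgroup H) : Set H) = Subgroup.normalizer ((Qb : Subgroup H) : Set H) ∧ Cfsg.IsLarge Qb := by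
  subst hQb
  set N := Subgroup.normalizer (Q : Set H) with hN
  haveI := Solv.pCore_characteristic p N
  have hwc := Local.LargeSub.isWeaklyClosed_of_isLarge hQp hQ1 hL
  have hle : Q ≤ Cfsg.largeBullet p Q := by
    intro x hx
    haveI : (Q.subgroupOf N).Normal := Subgroup.normal_in_normalizer
    exact ⟨⟨x, Subgroup.le_normalizer hx⟩, Solv.le_pCore (N := Q.subgroupOf N) hQp.comap_subtype hx, rfl⟩
  have hbp : IsPGroup p (Cfsg.largeBullet p Q) := (Solv.isPGroup_pCore p N).map _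
  have hN1 : N ≤ Subgroup.normalizer (Cfsg.largeBullet p Q : Set H) :=
    Struct.CoprimeMinimal.le_normalizer_map_char N N Subgroup.le_normalizer _
  have hN2 : Subgroup.normalizer (Cfsg.largeBullet p Q : Set H) ≤ N := by
    intro g hg
    refine Local.WCB.mem_normalizer_of_map_conj_eq ?_
    have h := Local.WCB.eq_of_isWeaklyClosedSubgroup hwc hbp (a := g) (b := 1) ?_
      (by rw [Local.WCB.map_conj_one]; exact hle)
    · rwa [Local.WCB.map_conj_one] at h
    · exact (Subgroup.map_mono hle).trans (Local.WCB.map_conj_eq_of_mem_normalizer hg).le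
  have hbL : Cfsg.IsLarge (Cfsg.largeBullet p Q) := by
    refine ⟨(Subgroup.centralizer_le (SetLike.coe_subset_coe.2 hle)).trans (hL.1.trans hle), fun U hU hU1 => ?_⟩
    exact (hL.2 U (hU.trans (Subgroup.centralizer_le (SetLike.coe_subset_coe.2 hle))) hU1).trans hN1
  have hb1 : Cfsg.largeBullet p Q ≠ ⊥ := fun e => hQ1 (le_bot_iff.1 (e ▸ hle))
  refine ⟨fun g hg => ?_, le_antisymm hN1 hN2, hbL⟩
  have h1 := Local.LargeSub.ti hQp hQ1 hL hg
  have h2 := Local.LargeSub.ti hbp hb1 hbL (g := g) (fun h => hg (hN2 h))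
  exact ⟨h1, h2, le_bot_iff.1 ((inf_le_inf inf_le_right inf_le_right).trans h1.le),
    le_bot_iff.1 ((inf_le_inf inf_le_right inf_le_right).trans h2.le)⟩

end Cfsg.Agent.S2844
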