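import Cfsg.Statements.S2845
import Cfsg.Agent.Lib.Local.LargeSubgroup
-- import your own Cfsg.Agent.* helpers here

set_option autoImplicit false
open Cfsg

namespace Cfsg.Agent.S2845

/-- Let Q be a nontrivial large p-subgroup of the finite group H. Then for every subgroup L ≥ Q with O_p(L) ≠ 1, C_H(O_p(L)) is a p-group and L has characteristic p, and either the weak closure L° of Q in L equals Q or C_H(L°) = 1; for every subgroup R of H containing a Sylow p-subgroup of H with O_p(R) ≠ 1, C_H(O_p(R)) ≤ O_p(R); and H has parabolic characteristic p. -/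
theorem result {H : Type*} [Group H] [Finite H] {p : ℕ} [Fact p.Prime] (Q : Subgroup H) (hQp : IsPGroup p ↥Q) (hQ1 : Q ≠ ⊥) (hL : Cfsg.IsLarge Q) : (∀ L : Subgroup H, Q ≤ L → Cfsg.pCore p ↥L ≠ ⊥ → IsPGroup p ↥(Subgroup.centralizer (((Cfsg.pCoreOf p L) : Subgroup H) : Set H)) ∧ Subgroup.centralizer (Cfsg.pCore p ↥L : Set ↥L) ≤ Cfsg.pCore p ↥L ∧ (Cfsg.weakClosure Q L = Q ∨ Subgroup.centralizer (((Cfsg.weakClosure Q L) : Subgroup H) : Set H) = ⊥)) ∧ (∀ R : Subgroup H, Cfsg.IsParabolic p R → Cfsg.pCore p ↥R ≠ ⊥ → Subgroup.centralizer (((Cfsg.pCoreOf p R) : Subgroup H) : Set H) ≤ (Cfsg.pCoreOf p R)) ∧ Cfsg.IsOfParabolicCharacteristic p H := by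
  have hconj : ∀ T : Sylow p H, ∃ g : H, Q.map (MulAut.conj g).toMonoidHom ≤ (T : Subgroup H) := by
    intro T
    obtain ⟨T₀, hT₀⟩ := hQp.exists_le_sylow
    obtain ⟨g, hg⟩ := MulAction.exists_smul_eq H T₀ T
    refine ⟨g, ?_⟩
    rw [← hg]
    rintro _ ⟨x, hx, rfl⟩
    exact ⟨x, hT₀ hx, rfl⟩
  have hQg : ∀ g : H, IsPGroup p ↥(Q.map (MulAut.conj g).toMonoidHom) ∧
      Q.map (MulAut.conj g).toMonoidHom ≠ ⊥ ∧ Cfsg.IsLarge (Q.map (MulAut.conj g).toMonoidHom) := fun g =>
    ⟨hQp.map _, fun e => hQ1 ((Subgroup.map_eq_bot_iff_of_injective _ (MulAut.conj g).injective).1 e),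
      Local.LargeSub.isLarge_conj hL g⟩
  refine ⟨fun L hQL hR => ?_, fun R hpar hR => ?_, fun R hRp hR1 hpar => ?_⟩
  · obtain ⟨-, h1, h2⟩ := Local.LargeSub.large_core hQp hQ1 hL hQL hR
    refine ⟨h1, h2, ?_⟩
    by_cases h : ∀ g : H, Q.map (MulAut.conj g).toMonoidHom ≤ L → g ∈ Subgroup.normalizer (Q : Set H)
    · left
      refine le_antisymm (iSup_le fun g => ?_) (Local.LargeSub.le_weakClosure hQL)
      rw [Local.WCB.map_conj_eq_of_mem_normalizer (h g.1 g.2)]
    · right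
      push Not at h
      obtain ⟨g, hg1, hg2⟩ := h
      rw [eq_bot_iff, ← Local.LargeSub.ti hQp hQ1 hL hg2]
      exact le_inf (Subgroup.centralizer_le (SetLike.coe_subset_coe.2 (Local.LargeSub.le_weakClosure hQL)))
        (Subgroup.centralizer_le (SetLike.coe_subset_coe.2
          (le_iSup (fun g : {g : H // Q.map (MulAut.conj g).toMonoidHom ≤ L} =>
            Q.map (MulAut.conj (g : H)).toMonoidHom) ⟨g, hg1⟩)))
  · obtain ⟨T, hT⟩ := hpar
    obtain ⟨g, hg⟩ := hconj T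
    obtain ⟨a, b, c⟩ := hQg g
    obtain ⟨-, hCp, hchar⟩ := Local.LargeSub.large_core a b c (hg.trans hT) hR
    haveI := Solv.pCore_characteristic p R
    have hn : (T : Subgroup H) ≤ Subgroup.normalizer
        ((Subgroup.centralizer (((Cfsg.pCoreOf p R) : Subgroup H) : Set H) : Subgroup H) : Set H) :=
      Local.LargeSub.le_normalizer_centralizer
        (hT.trans (Struct.CoprimeMinimal.le_normalizer_map_char R R Subgroup.le_normalizer _))
    have h1 := T.is_maximal' (hCp.to_sup_of_normal_left' T.isPGroup' hn) le_sup_right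
    intro x hx
    have hxR : x ∈ R := hT (h1 ▸ Subgroup.mem_sup_left hx)
    exact ⟨⟨x, hxR⟩, hchar (Subgroup.mem_centralizer_iff.2 fun r hr =>
      Subtype.ext (Subgroup.mem_centralizer_iff.1 hx r ⟨r, hr, rfl⟩)), rfl⟩
  · obtain ⟨T, hT⟩ := hpar
    obtain ⟨g, hg⟩ := hconj T
    obtain ⟨a, b, c⟩ := hQg g
    refine (Local.LargeSub.large_core a b c (hg.trans hT) ?_).2.2
    intro e
    haveI : (R.subgroupOf (Subgroup.normalizer (R : Set H))).Normal := Subgroup.normal_in_normalizer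
    have h2 := Solv.le_pCore (N := R.subgroupOf (Subgroup.normalizer (R : Set H))) hRp.comap_subtype
    rw [e, le_bot_iff, Subgroup.subgroupOf_eq_bot] at h2
    exact hR1 (h2.eq_bot_of_le Subgroup.le_normalizer)

end Cfsg.Agent.S2845
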