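import Cfsg.Statements.S2846
import Cfsg.Agent.Lib.Local.FrakM
import Cfsg.Agent.S2843
import Cfsg.Agent.S2845
-- import your own Cfsg.Agent.* helpers here

set_option autoImplicit false
open Cfsg

namespace Cfsg.Agent.S2846
open Cfsg.Agent


/-- Let Q be a nontrivial large p-subgroup of the finite group H, S a Sylow p-subgroup containing Q, and L a subgroup containing S with O_p(L) ≠ 1 and C_H(O_p(L)) ≤ O_p(L). Then there are a subgroup M containing S having the basic property (M ∈ 𝔐_H, writing Y_X for the largest p-reduced normal subgroup of X and 𝓛_H for the set of subgroups X with O_p(X) ≠ 1 and C_H(O_p(X)) ≤ O_p(X): M ∈ 𝓛_H, M·C_H(Y_M) is the only maximal member of 𝓛_H containing M and its largest p-reduced normal subgroup is again Y_M, C_M(Y_M) is p-closed, and the image of C_M(Y_M) in M/O_p(M) lies in the Frattini subgroup of M/O_p(M)) and a subgroup L* with S ≤ L* ≤ M, O_p(L*) ≠ 1, C_H(O_p(L*)) ≤ O_p(L*), such that L·C_H(Y_L)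 = L*·C_H(Y_L), the weak closures of Q in L and in L* agree and lie in that of M, and Y_L = Y_{L*} ≤ Y_M. If moreover Q is not normal in L, then Q is normal in neither L* nor M. -/
theorem result {H : Type*} [Group H] [Finite H] {p : ℕ} [Fact p.Prime] (Q : Subgroup H) (hQp : IsPGroup p ↥Q) (hQ1 : Q ≠ ⊥) (hLg : Cfsg.IsLarge Q) (S : Sylow p H) (hQS : Q ≤ (S : Subgroup H)) (L : Subgroup H) (hSL : (S : Subgroup H) ≤ L) (hL : L ∈ Cfsg.charPSubgroups p H) : ∃ M Ls : Subgroup H, (S : Subgroup H) ≤ M ∧ Cfsg.IsInFrakM p M ∧ (S : Subgroup H) ≤ Ls ∧ Ls ≤ M ∧ Ls ∈ Cfsg.charPSubgroups p H ∧ L ⊔ Subgroup.centralizer (((Cfsg.largestPReducedOf p L) : Subgroup H) : Set H) = Ls ⊔ Subgroup.centralizer (((Cfsg.largestPReducedOf p L) : Subgroup H) : Set H) ∧ Cfsg.weakClosure Q L = Cfsg.weakClosure Q Ls ∧ Cfsg.weakClosure Q Ls ≤ Cfsg.weakClosure Q M ∧ (Cfsg.largestPReducedOf p L) = (Cfsg.largestPReducedOf p Ls) ∧ (Cfsg.largestPReducedOf p Ls) ≤ (Cfsg.largestPReducedOf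 p M) ∧ (¬ L ≤ Subgroup.normalizer ((Q : Subgroup H) : Set H) → ¬ Ls ≤ Subgroup.normalizer ((Q : Subgroup H) : Set H) ∧ ¬ M ≤ Subgroup.normalizer ((Q : Subgroup H) : Set H)) := by
  have hH : Cfsg.IsOfParabolicCharacteristic p H := (Cfsg.Agent.S2845.result Q hQp hQ1 hLg).2.2
  obtain ⟨M, Ls, hSM, hM, hSLs, hLsM, hLs, hY, hYM, hC⟩ := Local.FrakM.exists_pair hH S hSL hL
  set Y := Cfsg.largestPReducedOf p L with hYdef
  obtain ⟨y, hyY, hyS, hy1⟩ := Local.FrakM.exists_fixed S hSL hL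
  have hyQ : y ∈ Subgroup.centralizer (Q : Set H) := Subgroup.centralizer_le (SetLike.coe_subset_coe.2 hQS) hyS
  have hCQ : Subgroup.centralizer (Y : Set H) ≤ Subgroup.normalizer (Q : Set H) :=
    (Subgroup.centralizer_le (Set.singleton_subset_iff.2 hyY)).trans
      (Local.LargeSub.centralizer_le_normalizer_large hLg hyQ hy1)
  have hY1 : Y ≠ ⊥ := Local.FrakM.largestOf_ne_bot S hSL hL
  have hYp : IsPGroup p ↥Y :=
    (Local.LargestPR.isPGroup_largest (L := ↥L) (p := p)).map L.subtype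
  have h1 := (Cfsg.Agent.S2843.result Q hQp hQ1 hLg L (hQS.trans hSL) Y hYp hY1
    (Local.FrakM.largestOf_le_normalizer L)).1
  have h2 := (Cfsg.Agent.S2843.result Q hQp hQ1 hLg Ls (hQS.trans hSLs) Y hYp hY1
    (by rw [hY]; exact Local.FrakM.largestOf_le_normalizer Ls)).1
  refine ⟨M, Ls, hSM, hM, hSLs, hLsM, hLs, hC, ?_, ?_, hY, hY.ge.trans hYM, fun hLQ => ?_⟩
  · rw [h1, h2, hC]
  · exact iSup_le fun g => le_iSup (fun g : {g : H // Q.map (MulAut.conj g).toMonoidHom ≤ M} =>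
      Q.map (MulAut.conj (g : H)).toMonoidHom) ⟨g.1, g.2.trans hLsM⟩
  · have hLsQ : ¬ Ls ≤ Subgroup.normalizer (Q : Set H) := fun h =>
      hLQ (le_sup_left.trans (hC.le.trans (sup_le h hCQ)))
    exact ⟨hLsQ, fun h => hLsQ (hLsM.trans h)⟩

end Cfsg.Agent.S2846
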