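import Cfsg.Statements.S2848
import Cfsg.Agent.Lib.Local.FrakMAsym
-- import your own Cfsg.Agent.* helpers here

set_option autoImplicit false
open Cfsg

namespace Cfsg.Agent.S2848
open Cfsg.Agent


/-- Standing hypotheses: G a finite group, S a Sylow p-subgroup, Q a nontrivial large p-subgroup of G contained in S (C_G(Q) ≤ Q and N_G(U) ≤ N_G(Q) for all nontrivial U ≤ C_G(Q)), and M a subgroup containing S with the basic property (M ∈ 𝔐_G(S)); Y_M denotes the largest p-reduced normal subgroup of M and M† = M·C_G(Y_M). Then O_p(M) is a weakly closed subgroup of M† (for p): it is the only M†-conjugate of itself inside some Sylow p-subgroup of M† containing it. -/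
theorem result {G : Type*} [Group G] [Finite G] {p : ℕ} [Fact p.Prime] (S : Sylow p G) (Q : Subgroup G) (hQp : IsPGroup p ↥Q) (hQ1 : Q ≠ ⊥) (hQS : Q ≤ (S : Subgroup G)) (hQ : Cfsg.IsLarge Q) (M : Subgroup G) (hSM : (S : Subgroup G) ≤ M) (hM : Cfsg.IsInFrakM p M) : Cfsg.IsWeaklyClosedSubgroup p (((Cfsg.pCoreOf p M)).subgroupOf (M ⊔ Subgroup.centralizer (((Cfsg.largestPReducedOf p M) : Subgroup G) : Set G))) := by
  skip
  classical
  set C := Subgroup.centralizer ((Cfsg.largestPReducedOf p M : Subgroup G) : Set G) with hC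
  set O := Cfsg.pCoreOf p M with hO
  set N := M ⊔ C with hN
  have hSN : (S : Subgroup G) ≤ N := hSM.trans le_sup_left
  have hOeq : O = (S : Subgroup G) ⊓ C := Cfsg.Agent.Local.FrakM.pCoreOf_eq S hSM hM
  have hON : O ≤ N := (Subgroup.map_subtype_le _).trans le_sup_left
  refine ⟨S.subtype hSN, fun x hx => ?_, fun g hg => ?_⟩
  · exact (hOeq.le hx).1
  have hY : N ≤ Subgroup.normalizer ((Cfsg.largestPReducedOf p M : Subgroup G) : Set G) :=
    Cfsg.Agent.Local.FrakM.dagger_le_normalizer M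
  have hNC : N ≤ Subgroup.normalizer (C : Set G) := by
    intro n hn
    refine Cfsg.Agent.Solv.mem_normalizer_of_conj_le ?_
    refine Subgroup.map_le_iff_le_comap.2 fun c hc => ?_
    show n * c * n⁻¹ ∈ C
    rw [hC, Subgroup.mem_centralizer_iff]
    intro y hy
    have hy' : n⁻¹ * y * n ∈ Cfsg.largestPReducedOf p M :=
      (Subgroup.mem_normalizer_iff''.1 (hY hn) y).1 hy
    have e := Subgroup.mem_centralizer_iff.1 hc _ hy'
    calc y * (n * c * n⁻¹) = n * (n⁻¹ * y * n * c) * n⁻¹ := by group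
      _ = n * (c * (n⁻¹ * y * n)) * n⁻¹ := by rw [e]
      _ = _ := by group
  refine Subgroup.eq_of_le_of_card_ge (fun x hx => ?_) (by rw [Subgroup.card_map_of_injective (MulAut.conj g).injective])
  have hxS : (x : G) ∈ (S : Subgroup G) := hg hx
  obtain ⟨y, hy, rfl⟩ := hx
  show (((MulAut.conj g) y : ↥N) : G) ∈ O
  rw [hOeq]
  refine Subgroup.mem_inf.2 ⟨hxS, ?_⟩
  show (g : G) * (y : G) * (g : G)⁻¹ ∈ C
  exact (Subgroup.mem_normalizer_iff.1 (hNC g.2) _).1 (hOeq.le hy).2

end Cfsg.Agent.S2848
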