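import Cfsg.Statements.S2849
import Cfsg.Agent.Lib.Local.FrakMAsym
-- import your own Cfsg.Agent.* helpers here

set_option autoImplicit false
open Cfsg

namespace Cfsg.Agent.S2849
open Cfsg.Agent
open scoped commutatorElement


/-- Standing hypotheses: G a finite group, S a Sylow p-subgroup, Q a nontrivial large p-subgroup of G contained in S (C_G(Q) ≤ Q and N_G(U) ≤ N_G(Q) for all nontrivial U ≤ C_G(Q)), and M a subgroup containing S with the basic property (M ∈ 𝔐_G(S)); Y_M denotes the largest p-reduced normal subgroup of M and M† = M·C_G(Y_M). Suppose Y_M is asymmetric in G. Then for every subgroup R with Y_M ≤ R ≤ M†, the normal closure of Y_M in N_G(R) is elementary abelian. -/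
theorem result {G : Type*} [Group G] [Finite G] {p : ℕ} [Fact p.Prime] (S : Sylow p G) (Q : Subgroup G) (hQp : IsPGroup p ↥Q) (hQ1 : Q ≠ ⊥) (hQS : Q ≤ (S : Subgroup G)) (hQ : Cfsg.IsLarge Q) (M : Subgroup G) (hSM : (S : Subgroup G) ≤ M) (hM : Cfsg.IsInFrakM p M) (hasym : ¬ Cfsg.IsSymmetricIn (Cfsg.largestPReducedOf p M)) (R : Subgroup G) (hYR : (Cfsg.largestPReducedOf p M) ≤ R) (hRM : R ≤ (M ⊔ Subgroup.centralizer (((Cfsg.largestPReducedOf p M) : Subgroup G) : Set G))) : Cfsg.IsElementaryAbelian p ((Subgroup.normalClosure ((((Cfsg.largestPReducedOf p M)).subgroupOf (Subgroup.normalizer ((R : Subgroup G) : Set G)) : Subgroup ↥(Subgroup.normalizer ((R : Subgroup G) : Set G))) : Set ↥(Subgroup.normalizer ((R : Subgroup G) : Set G)))).map (Subgroup.normalizer ((R : Subgroup G) : Set G)).subtype) := by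
  skip
  classical
  set Y := Cfsg.largestPReducedOf p M with hY
  set K := Subgroup.normalizer ((R : Subgroup G) : Set G) with hK
  have hYel : Cfsg.IsElementaryAbelian p Y :=
    Cfsg.Agent.Solv.elemAbelian_map _ (Cfsg.Agent.Local.LargestPR.largest_spec (p := p)).2.1
  have hYK : Y ≤ K := hYR.trans Subgroup.le_normalizer
  have hRY : R ≤ Subgroup.normalizer (Y : Set G) := hRM.trans (Cfsg.Agent.Local.FrakM.dagger_le_normalizer M)
  have hcom : ∀ k ∈ K, ∀ y ∈ Y, ∀ y' ∈ Y, y * (k * y' * k⁻¹) = (k * y' * k⁻¹) * y := by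
    intro k hk y hy y' hy'
    set Yk := Y.map (MulAut.conj k).toMonoidHom with hYk
    have hYkR : Yk ≤ R := by
      rintro _ ⟨z, hz, rfl⟩
      exact (Subgroup.mem_normalizer_iff.1 hk z).1 (hYR hz)
    have hle : ⁅Y, Yk⁆ ≤ Y ⊓ Yk := by
      rw [Subgroup.commutator_le]
      intro a ha b hb
      refine Subgroup.mem_inf.2 ⟨?_, ?_⟩
      · have h1 := (Subgroup.mem_normalizer_iff.1 (hRY (hYkR hb)) _).1 (inv_mem ha)
        simpa [commutatorElement_def, mul_assoc] using mul_mem ha h1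
      · have h1 : k⁻¹ * a * k ∈ R := (Subgroup.mem_normalizer_iff''.1 hk a).1 (hYR ha)
        obtain ⟨z, hz, rfl⟩ := hb
        have h2 := (Subgroup.mem_normalizer_iff.1 (hRY h1) z).1 hz
        have h3 : (MulAut.conj k) ((k⁻¹ * a * k) * z * (k⁻¹ * a * k)⁻¹ * z⁻¹) ∈ Yk :=
          ⟨_, mul_mem h2 (inv_mem hz), rfl⟩
        simpa [commutatorElement_def, mul_assoc] using h3
    by_contra hne
    apply hasym
    refine ⟨k, fun hbot => hne ?_, hle⟩
    exact Subgroup.mem_centralizer_iff.1 (Subgroup.commutator_eq_bot_iff_le_centralizer.1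
      ((Subgroup.commutator_comm _ _).trans hbot) ⟨y', hy', rfl⟩) y hy
  set W := Subgroup.normalClosure ((Y.subgroupOf K : Subgroup ↥K) : Set ↥K) with hW
  set s := Group.conjugatesOfSet ((Y.subgroupOf K : Subgroup ↥K) : Set ↥K) with hs
  have hWe : W = Subgroup.closure s := rfl
  have hcs : ∀ a ∈ s, ∀ b ∈ s, a * b = b * a := by
    intro a ha b hb
    obtain ⟨a', ha', hac⟩ := Group.mem_conjugatesOfSet_iff.1 ha
    obtain ⟨b', hb', hbc⟩ := Group.mem_conjugatesOfSet_iff.1 hb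
    obtain ⟨c, rfl⟩ := isConj_iff.1 hac
    obtain ⟨d, rfl⟩ := isConj_iff.1 hbc
    refine Subtype.ext ?_
    show (c : G) * a' * (c : G)⁻¹ * ((d : G) * b' * (d : G)⁻¹) = (d : G) * b' * (d : G)⁻¹ * ((c : G) * a' * (c : G)⁻¹)
    have h1 := hcom ((c : G)⁻¹ * d) (mul_mem (inv_mem c.2) d.2) a' ha' b' hb'
    calc (c : G) * a' * (c : G)⁻¹ * ((d : G) * b' * (d : G)⁻¹)
        = (c : G) * ((a' : G) * ((c : G)⁻¹ * d * b' * ((c : G)⁻¹ * d)⁻¹)) * (c : G)⁻¹ := by group
      _ = (c : G) * ((c : G)⁻¹ * d * b' * ((c : G)⁻¹ * d)⁻¹ * a') * (c : G)⁻¹ := by rw [h1]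
      _ = _ := by group
  refine Cfsg.Agent.Solv.elemAbelian_map _ ?_
  rw [hWe]
  refine ⟨Subgroup.isMulCommutative_closure hcs, fun x hx => ?_⟩
  induction hx using Subgroup.closure_induction with
  | mem a ha =>
    obtain ⟨a', ha', hac⟩ := Group.mem_conjugatesOfSet_iff.1 ha
    obtain ⟨c, rfl⟩ := isConj_iff.1 hac
    refine Subtype.ext ?_
    rw [conj_pow, show a' ^ p = 1 from Subtype.ext (by rw [SubgroupClass.coe_pow]; exact hYel.2 _ ha')]
    simp
  | one => exact one_pow _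
  | mul a b ha hb iha ihb =>
    have hab : Commute a b := congrArg Subtype.val
      ((Subgroup.isMulCommutative_closure hcs).is_comm.comm ⟨a, ha⟩ ⟨b, hb⟩)
    rw [hab.mul_pow, iha, ihb, one_mul]
  | inv a _ iha => rw [inv_pow, iha, inv_one]

end Cfsg.Agent.S2849
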