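import Cfsg.Statements.S2850
import Cfsg.Agent.Lib.Local.FrakMAsym
import Cfsg.Agent.S2845
-- import your own Cfsg.Agent.* helpers here

set_option autoImplicit false
open Cfsg

namespace Cfsg.Agent.S2850
open Cfsg.Agent


/-- Standing hypotheses: G a finite group, S a Sylow p-subgroup, Q a nontrivial large p-subgroup of G contained in S (C_G(Q) ≤ Q and N_G(U) ≤ N_G(Q) for all nontrivial U ≤ C_G(Q)), and M a subgroup containing S with the basic property (M ∈ 𝔐_G(S)); Y_M denotes the largest p-reduced normal subgroup of M and M† = M·C_G(Y_M). Suppose Y_M is asymmetric in G. Then N_G(L) ≤ N_G(O_p(M)) ≤ M† for every p-subgroup L containing O_p(M); O_p(M) is a weakly closed subgroup of G; for every subgroup L containing O_p(M), L ∩ M† contains a Sylow p-subgroup of L; and two elements of Y_M conjugate in G are conjugate in M. -/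
theorem result {G : Type*} [Group G] [Finite G] {p : ℕ} [Fact p.Prime] (S : Sylow p G) (Q : Subgroup G) (hQp : IsPGroup p ↥Q) (hQ1 : Q ≠ ⊥) (hQS : Q ≤ (S : Subgroup G)) (hQ : Cfsg.IsLarge Q) (M : Subgroup G) (hSM : (S : Subgroup G) ≤ M) (hM : Cfsg.IsInFrakM p M) (hasym : ¬ Cfsg.IsSymmetricIn (Cfsg.largestPReducedOf p M)) : (∀ L : Subgroup G, IsPGroup p ↥L → (Cfsg.pCoreOf p M) ≤ L → Subgroup.normalizer ((L : Subgroup G) : Set G) ≤ Subgroup.normalizer (((Cfsg.pCoreOf p M) : Subgroup G) : Set G) ∧ Subgroup.normalizer (((Cfsg.pCoreOf p M) : Subgroup G) : Set G) ≤ (M ⊔ Subgroup.centralizer (((Cfsg.largestPReducedOf p M) : Subgroup G) : Set G))) ∧ Cfsg.IsWeaklyClosedSubgroup p (Cfsg.pCoreOf p M) ∧ (∀ L : Subgroup G, (Cfsg.pCoreOf p M) ≤ L → Cfsg.IsParabolic p ((L ⊓ (M ⊔ Subgroup.centralizer (((Cfsg.largestPReducedOf p M) : Subgroup G) : Set G))).subgroupOf L)) ∧ (∀ x ∈ (Cfsg.largestPReducedOf p M), ∀ g : G, g * x * g⁻¹ ∈ (Cfsg.largestPReducedOf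 p M) → ∃ m ∈ M, m * x * m⁻¹ = g * x * g⁻¹) := by
  have hH : Cfsg.IsOfParabolicCharacteristic p G := (Cfsg.Agent.S2845.result Q hQp hQ1 hQ).2.2
  set O := Cfsg.pCoreOf p M with hOdef
  set Y := Cfsg.largestPReducedOf p M with hYdef
  have hwc := Local.FrakM.weaklyClosed_pCoreOf S hH hSM hM hasym
  have hNd := Local.FrakM.pCoreOf_normalizer_le_dagger S hH hSM hM
  have hOY : O ≤ Subgroup.centralizer (Y : Set G) := (Local.FrakM.pCoreOf_eq S hSM hM).le.trans inf_le_right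
  have hOp : IsPGroup p ↥O := (Solv.isPGroup_pCore p ↥M).map _
  refine ⟨fun L hL hOL => ⟨Local.FrakM.normalizer_le_of_pGroup S hH hSM hM hasym hL hOL, hNd⟩, hwc,
    fun L hOL => ?_, fun x hx g hgx => ?_⟩
  · obtain ⟨P, hP⟩ := (hOp.comap_subtype (K := L)).exists_le_sylow
    refine ⟨P, fun z hz => ⟨z.2, ?_⟩⟩
    have hOP : O ≤ (P : Subgroup ↥L).map L.subtype := fun o ho =>
      ⟨⟨o, hOL ho⟩, hP (show (⟨o, hOL ho⟩ : L) ∈ O.subgroupOf L from ho), rfl⟩
    exact hNd (Local.FrakM.normalizer_le_of_pGroup S hH hSM hM hasym (P.isPGroup'.map _) hOP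
      (Subgroup.le_normalizer ⟨z, hz, rfl⟩))
  · set y := g * x * g⁻¹ with hy
    set C := Subgroup.centralizer ({y} : Set G) with hC
    have h1 : O ≤ C := fun o ho => Subgroup.mem_centralizer_singleton_iff.2
      (Subgroup.mem_centralizer_iff.1 (hOY ho) y hgx).symm
    have h2 : O.map (MulAut.conj g).toMonoidHom ≤ C := by
      rintro _ ⟨o, ho, rfl⟩
      refine Subgroup.mem_centralizer_singleton_iff.2 ?_
      show g * o * g⁻¹ * (g * x * g⁻¹) = g * x * g⁻¹ * (g * o * g⁻¹)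
      have := Subgroup.mem_centralizer_iff.1 (hOY ho) x hx
      calc g * o * g⁻¹ * (g * x * g⁻¹) = g * (o * x) * g⁻¹ := by group
        _ = g * (x * o) * g⁻¹ := by rw [this]
        _ = _ := by group
    obtain ⟨P1, hP1⟩ := (hOp.comap_subtype (K := C)).exists_le_sylow
    obtain ⟨P2, hP2⟩ := ((hOp.map (MulAut.conj g).toMonoidHom).comap_subtype (K := C)).exists_le_sylow
    obtain ⟨c, hc⟩ := MulAction.exists_smul_eq ↥C P2 P1
    have hP1' : O ≤ (P1 : Subgroup ↥C).map C.subtype := fun o ho =>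
      ⟨⟨o, h1 ho⟩, hP1 (show (⟨o, h1 ho⟩ : C) ∈ O.subgroupOf C from ho), rfl⟩
    have hP2' : O.map (MulAut.conj ((c : G) * g)).toMonoidHom ≤ (P1 : Subgroup ↥C).map C.subtype := by
      rw [← Local.WCB.map_conj_map]
      rintro _ ⟨z, hz, rfl⟩
      refine ⟨c * ⟨z, h2 hz⟩ * c⁻¹, ?_, rfl⟩
      rw [← hc]
      exact ⟨⟨z, h2 hz⟩, hP2 (show (⟨z, h2 hz⟩ : C) ∈ (O.map _).subgroupOf C from hz), rfl⟩
    have heq := Local.WCB.eq_of_isWeaklyClosedSubgroup hwc (P1.isPGroup'.map C.subtype)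
      (a := (c : G) * g) (b := 1) hP2' (by rw [Local.WCB.map_conj_one]; exact hP1')
    rw [Local.WCB.map_conj_one] at heq
    have hmem : (c : G) * g ∈ ((M ⊔ Subgroup.centralizer (Y : Set G) : Subgroup G) : Set G) :=
      hNd (Local.WCB.mem_normalizer_of_map_conj_eq heq)
    rw [Subgroup.coe_mul_of_left_le_normalizer_right M _
      ((Local.FrakM.largestOf_le_normalizer M).trans (Local.LargeSub.le_normalizer_centralizer le_rfl))] at hmem
    obtain ⟨m, hm, d, hd, hmd⟩ := Set.mem_mul.1 hmem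
    refine ⟨m, hm, ?_⟩
    have hcy : (c : G) * y = y * c := Subgroup.mem_centralizer_singleton_iff.1 c.2
    have hdx : x * d = d * x := Subgroup.mem_centralizer_iff.1 hd x hx
    calc m * x * m⁻¹ = m * (x * d) * d⁻¹ * m⁻¹ := by group
      _ = (m * d) * x * (m * d)⁻¹ := by rw [hdx]; group
      _ = (c : G) * (g * x * g⁻¹) * (c : G)⁻¹ := by rw [hmd]; group
      _ = g * x * g⁻¹ := by rw [← hy, hcy, mul_inv_cancel_right]

end Cfsg.Agent.S2850
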