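import Cfsg.Statements.S2851
import Cfsg.Agent.Lib.Local.FrakMAsym
import Cfsg.Agent.S2845
import Cfsg.Agent.Lib.Local.FStarAction
-- import your own Cfsg.Agent.* helpers here

set_option autoImplicit false
open Cfsg

namespace Cfsg.Agent.S2851
open Cfsg.Agent
open scoped commutatorElement


/-- Standing hypotheses: G a finite group, S a Sylow p-subgroup, Q a nontrivial large p-subgroup of G contained in S, M a subgroup containing S with the basic property (M ∈ 𝔐_G(S)); Y_M the largest p-reduced normal subgroup of M and M† = M·C_G(Y_M). Let F be the preimage in M† of the generalized Fitting subgroup of M†/C_{M†}(Y_M). If Y_M is asymmetric in G and H is a subgroup of characteristic p containing F, then Y_M ≤ Y_H. -/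
theorem result {G : Type*} [Group G] [Finite G] {p : ℕ} [Fact p.Prime] (S : Sylow p G) (Q : Subgroup G) (hQp : IsPGroup p ↥Q) (hQ1 : Q ≠ ⊥) (hQS : Q ≤ (S : Subgroup G)) (hQ : Cfsg.IsLarge Q) (M : Subgroup G) (hSM : (S : Subgroup G) ≤ M) (hM : Cfsg.IsInFrakM p M) (hasym : ¬ Cfsg.IsSymmetricIn (Cfsg.largestPReducedOf p M)) [hn : ((Subgroup.centralizer (((Cfsg.largestPReducedOf p M) : Subgroup G) : Set G)).subgroupOf (M ⊔ Subgroup.centralizer (((Cfsg.largestPReducedOf p M) : Subgroup G) : Set G))).Normal] (F : Subgroup G) (hF : F = ((Cfsg.generalizedFittingSubgroup (↥(M ⊔ Subgroup.centralizer (((Cfsg.largestPReducedOf p M) : Subgroup G) : Set G)) ⧸ (Subgroup.centralizer (((Cfsg.largestPReducedOf p M) : Subgroup G) : Set G)).subgroupOf (M ⊔ Subgroup.centralizer (((Cfsg.largestPReducedOf p M) : Subgroup G) : Set G)))).comap (QuotientGroup.mk' ((Subgroup.centralizer (((Cfsg.largestPReducedOf p M) : Subgroup G) : Set G)).subgroupOf (M ⊔ Subgroup.centralizer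 (((Cfsg.largestPReducedOf p M) : Subgroup G) : Set G))))).map ((M ⊔ Subgroup.centralizer (((Cfsg.largestPReducedOf p M) : Subgroup G) : Set G))).subtype) (H : Subgroup G) (hFH : F ≤ H) (hH : Subgroup.centralizer (Cfsg.pCore p ↥H : Set ↥H) ≤ Cfsg.pCore p ↥H) : (Cfsg.largestPReducedOf p M) ≤ Cfsg.largestPReducedOf p H := by
  have hpar : Cfsg.IsOfParabolicCharacteristic p G := (Cfsg.Agent.S2845.result Q hQp hQ1 hQ).2.2
  set Y := Cfsg.largestPReducedOf p M with hYdef
  set C := Subgroup.centralizer (Y : Set G) with hCdef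
  set Md := M ⊔ C with hMd
  set O := Cfsg.pCoreOf p M with hOdef
  have hY' : Cfsg.largestPReducedOf p Md = Y := hM.2.2.2.1.symm
  set f := QuotientGroup.mk' (C.subgroupOf Md) with hf
  set Fb := (Cfsg.generalizedFittingSubgroup (↥Md ⧸ C.subgroupOf Md)).comap f with hFb
  haveI : (Cfsg.generalizedFittingSubgroup (↥Md ⧸ C.subgroupOf Md)).Normal := Local.FStarAction.gfit_normal
  haveI hFbn : Fb.Normal := Subgroup.Normal.comap inferInstance f
  have hCFb : C.subgroupOf Md ≤ Fb := fun c hc => by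
    rw [hFb, Subgroup.mem_comap, hf, QuotientGroup.mk'_apply, (QuotientGroup.eq_one_iff c).2 hc]
    exact one_mem _
  have hself : ∀ x : ↥Md, (∀ y ∈ Fb, ⁅x, y⁆ ∈ C.subgroupOf Md) → x ∈ Fb := by
    intro x hx
    rw [hFb, Subgroup.mem_comap]
    refine Local.centralizer_generalizedFitting_le (Subgroup.mem_centralizer_iff.2 fun q hq => ?_)
    obtain ⟨y, rfl⟩ := QuotientGroup.mk'_surjective _ q
    have h1 : f ⁅x, y⁆ = 1 := (QuotientGroup.eq_one_iff _).2 (hx y hq)
    rw [map_commutatorElement, commutatorElement_eq_one_iff_mul_comm] at h1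
    exact h1.symm
  -- subnormal subgroups with `p'`-elements in `C` lie in `C`
  have hred : ∀ N : Subgroup ↥Md, N.IsSubnormal → (∀ x ∈ N, (orderOf x).Coprime p → (x : G) ∈ C) →
      ∀ x ∈ N, (x : G) ∈ C := by
    intro N hN h x hx
    have h1 := Local.PReduced.le_centralizer_of_subnormal (Local.LargestPR.largest_spec (L := ↥Md) (p := p))
      hN (fun z hz hco => Subgroup.mem_centralizer_iff.2 fun v hv => Subtype.ext
        (Subgroup.mem_centralizer_iff.1 (h z hz hco) (v : G) (hY' ▸ ⟨v, hv, rfl⟩))) hx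
    refine Subgroup.mem_centralizer_iff.2 fun v hv => ?_
    obtain ⟨v', hv', rfl⟩ := (hY' ▸ hv : v ∈ Cfsg.largestPReducedOf p Md)
    exact congrArg Subtype.val (Subgroup.mem_centralizer_iff.1 h1 v' hv')
  have hFeq : F = Fb.map Md.subtype := hF
  have hCF : C ≤ F := fun c hc =>
    hFeq ▸ ⟨⟨c, Subgroup.mem_sup_right hc⟩, hCFb (show (⟨c, Subgroup.mem_sup_right hc⟩ : Md) ∈ C.subgroupOf Md from hc), rfl⟩
  have hOC : O ≤ C := (Local.FrakM.pCoreOf_eq S hSM hM).le.trans inf_le_right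
  have hYC : Y ≤ C := fun y hy => Subgroup.mem_centralizer_iff.2 fun z hz => by
    obtain ⟨a, ha, rfl⟩ := hy
    obtain ⟨b, hb, rfl⟩ := hz
    exact congrArg Subtype.val (congrArg Subtype.val
      ((Local.LargestPR.largest_spec (L := ↥M) (p := p)).2.1.1.is_comm.comm ⟨b, hb⟩ ⟨a, ha⟩))
  -- a Sylow subgroup of `H` inside `M C`
  have hOp : IsPGroup p ↥O := (Solv.isPGroup_pCore p ↥M).map _
  have hOH : O ≤ H := hOC.trans (hCF.trans hFH)
  obtain ⟨P, hP⟩ := (hOp.comap_subtype (K := H)).exists_le_sylow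
  have hPd : ∀ z ∈ (P : Subgroup ↥H), (z : G) ∈ Md := fun z hz =>
    Local.FrakM.pCoreOf_normalizer_le_dagger S hpar hSM hM
      (Local.FrakM.normalizer_le_of_pGroup S hpar hSM hM hasym (P.isPGroup'.map H.subtype)
        (fun o ho => ⟨⟨o, hOH ho⟩, hP (show (⟨o, hOH ho⟩ : H) ∈ O.subgroupOf H from ho), rfl⟩)
        (Subgroup.le_normalizer ⟨z, hz, rfl⟩))
  -- the trace of a normal subgroup of `H`
  have htrace : ∀ N : Subgroup ↥H, N.Normal → (∀ x ∈ N, (orderOf x).Coprime p → (x : G) ∈ C) →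
      ∀ x ∈ N, (x : G) ∈ Md → (x : G) ∈ C := by
    intro N hN h x hx hxd
    set N' := (N.map H.subtype).subgroupOf Md with hN'
    set NF := N' ⊓ Fb with hNF
    haveI : (NF.subgroupOf Fb).Normal := by
      refine ⟨fun z hz y => ⟨?_, ((y * z * y⁻¹ : ↥Fb)).2⟩⟩
      obtain ⟨n, hn, hnz⟩ := hz.1
      have hyH : ((y : ↥Md) : G) ∈ H := hFH (hFeq ▸ ⟨y, y.2, rfl⟩)
      refine ⟨⟨_, hyH⟩ * n * ⟨_, hyH⟩⁻¹, hN.conj_mem n hn _, ?_⟩
      show ((y : ↥Md) : G) * (n : G) * ((y : ↥Md) : G)⁻¹ = _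
      rw [show (n : G) = ((z : ↥Md) : G) from hnz]
      rfl
    have hsn : NF.IsSubnormal := by
      have h1 := (inferInstance : (NF.subgroupOf Fb).Normal).isSubnormal.trans'
        (inferInstance : Fb.Normal).isSubnormal
      rwa [Subgroup.map_subgroupOf_eq_of_le (inf_le_right : NF ≤ Fb)] at h1
    have hNFC := hred NF hsn fun z hz hco => by
      obtain ⟨n, hn, hnz⟩ := hz.1
      have e : (n : G) = (z : G) := hnz
      rw [← e]
      refine h n hn ?_
      rw [← Subgroup.orderOf_coe, e, Subgroup.orderOf_coe]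
      exact hco
    have hxF : (⟨(x : G), hxd⟩ : Md) ∈ Fb := hself _ fun y hy => by
      refine Subgroup.mem_subgroupOf.2 (hNFC ⁅(⟨(x : G), hxd⟩ : ↥Md), y⁆ ⟨?_, ?_⟩)
      · have hyH : (y : G) ∈ H := hFH (hFeq ▸ ⟨y, hy, rfl⟩)
        refine ⟨⁅x, ⟨(y : G), hyH⟩⁆, ?_, rfl⟩
        rw [commutatorElement_def, mul_assoc, mul_assoc, ← mul_assoc (⟨(y : G), hyH⟩ : H) x⁻¹]
        exact mul_mem hx (hN.conj_mem _ (inv_mem hx) _)
      · show ⁅(⟨(x : G), hxd⟩ : ↥Md), y⁆ ∈ Fb
        rw [commutatorElement_def]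
        exact mul_mem (hFbn.conj_mem y hy _) (inv_mem hy)
    exact hNFC ⟨(x : G), hxd⟩ ⟨⟨x, hx, rfl⟩, hxF⟩
  set OH := Cfsg.pCore p ↥H with hOH'
  have hOHC : ∀ o ∈ OH, (o : G) ∈ C := fun o ho => by
    refine htrace OH inferInstance (fun z hz hco => ?_) o ho (hPd o (Solv.pCore_le_sylow P ho))
    obtain ⟨k, hk⟩ := IsPGroup.iff_card.1 (Solv.isPGroup_pCore p ↥H)
    rw [orderOf_eq_one_iff.1 (Nat.eq_one_of_dvd_coprimes (hco.pow_right k) dvd_rfl
      (hk ▸ Subgroup.orderOf_dvd_natCard _ hz)), OneMemClass.coe_one]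
    exact one_mem _
  have hYH : Y ≤ H := hYC.trans (hCF.trans hFH)
  set W := Y.subgroupOf H with hWdef
  have hWc : W ≤ Subgroup.centralizer (OH : Set ↥H) := fun w hw =>
    Subgroup.mem_centralizer_iff.2 fun o ho =>
      Subtype.ext (Subgroup.mem_centralizer_iff.1 (hOHC o ho) (w : G) hw).symm
  let E : Subgroup ↥H :=
    { carrier := {x | x ∈ OH ⊓ Subgroup.centralizer (OH : Set ↥H) ∧ x ^ p = 1}
      one_mem' := ⟨one_mem _, one_pow p⟩
      mul_mem' := fun {a b} ha hb => ⟨mul_mem ha.1 hb.1, by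
        have hab : Commute a b := (Subgroup.mem_centralizer_iff.1 hb.1.2 a ha.1.1)
        rw [hab.mul_pow, ha.2, hb.2, one_mul]⟩
      inv_mem' := fun {a} ha => ⟨inv_mem ha.1, by rw [inv_pow, ha.2, inv_one]⟩ }
  haveI hEn : E.Normal := ⟨fun x hx g =>
    ⟨(inferInstance : (OH ⊓ Subgroup.centralizer (OH : Set ↥H)).Normal).conj_mem x hx.1 g, by
      rw [← MulAut.conj_apply, ← map_pow, hx.2, map_one]⟩⟩
  have hEe : Cfsg.IsElementaryAbelian p E :=
    ⟨⟨⟨fun a b => Subtype.ext (Subgroup.mem_centralizer_iff.1 b.2.1.2 (a : ↥H) a.2.1.1)⟩⟩,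
      fun x hx => hx.2⟩
  have hWE : W ≤ E := fun w hw => ⟨⟨hH (hWc hw), hWc hw⟩, by
    obtain ⟨y, hy, hyw⟩ := (Subgroup.mem_subgroupOf.1 hw : (w : G) ∈ Y)
    refine Subtype.ext ?_
    rw [SubmonoidClass.coe_pow, OneMemClass.coe_one, show (w : G) = (y : G) from hyw.symm]
    exact congrArg Subtype.val ((Local.LargestPR.largest_spec (p := p)).2.1.2 y hy)⟩
  set V := Subgroup.normalClosure (W : Set ↥H) with hVdef
  have hVred : Cfsg.IsPReducedNormal p V := by
    refine Local.PReduced.isPReducedNormal_of_forall Subgroup.normalClosure_normal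
      (Solv.elemAbelian_of_le hEe (Subgroup.normalClosure_le_normal hWE)) fun N hN hNp => ?_
    haveI := hN
    have hp' : ∀ x ∈ N, (orderOf x).Coprime p → (x : G) ∈ C := fun x hx hco =>
      Subgroup.mem_centralizer_iff.2 fun y hy => congrArg Subtype.val
        (Subgroup.mem_centralizer_iff.1 (hNp x hx hco) ⟨y, hYH hy⟩ (Subgroup.le_normalClosure (H := W) hy))
    have hnd := Local.SylowCenter.not_dvd_relIndex_normal P N
    have hnd' : ¬ p ∣ ((P : Subgroup ↥H).subgroupOf N).index := hnd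
    have hp0 : IsPGroup p ↥((P : Subgroup ↥H).subgroupOf N) := P.isPGroup'.comap_subtype
    have hgen := Solv.sup_pResidual_eq_top (hp0.toSylow hnd')
    have hle : (⊤ : Subgroup ↥N) ≤ (Subgroup.centralizer (W : Set ↥H)).subgroupOf N := by
      rw [← hgen, IsPGroup.toSylow_coe]
      refine sup_le (fun n hn => ?_) ?_
      · rw [Subgroup.mem_subgroupOf, Subgroup.mem_centralizer_iff]
        exact fun w hw => Subtype.ext
          (Subgroup.mem_centralizer_iff.1 (htrace N hN hp' n n.2 (hPd n hn)) (w : G) hw)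
      · rw [Cfsg.pResidual, Subgroup.closure_le]
        intro n hn
        exact Subgroup.centralizer_le (Subgroup.le_normalClosure (H := W))
          (hNp n n.2 (by rw [Subgroup.orderOf_coe]; exact hn))
    have hNW : N ≤ Subgroup.centralizer (W : Set ↥H) := fun n hn => hle (Subgroup.mem_top (⟨n, hn⟩ : ↥N))
    haveI : (Subgroup.centralizer (N : Set ↥H)).Normal := Subgroup.normal_centralizer
    exact Subgroup.le_centralizer_iff.1
      (Subgroup.normalClosure_le_normal (Subgroup.le_centralizer_iff.1 hNW))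
  intro y hy
  exact ⟨⟨y, hYH hy⟩, Local.LargestPR.le_largest hVred (Subgroup.le_normalClosure (H := W) hy), rfl⟩

end Cfsg.Agent.S2851
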