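import Cfsg.Statements.S2852
import Cfsg.Agent.Lib.Local.FrakH
import Cfsg.Agent.S2845
import Cfsg.Agent.Lib.Local.AmalgamBasics
import Cfsg.Agent.Lib.Local.CharPEquiv
-- import your own Cfsg.Agent.* helpers here

set_option autoImplicit false
open Cfsg

namespace Cfsg.Agent.S2852
open Cfsg.Agent


/-- Standing hypotheses: G a finite group, S a Sylow p-subgroup, Q a nontrivial large p-subgroup of G contained in S, M a subgroup containing S with the basic property (M ∈ 𝔐_G(S)); Y_M the largest p-reduced normal subgroup of M. If Y_M is char-p-tall and asymmetric in G, then some subgroup H of G lies in ℌ_G(O_p(M)): H has characteristic p, O_p(M) ≤ H, Y_M ≰ O_p(H), and Y_M ≤ O_p(P) for every proper subgroup P of H containing O_p(M). -/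
theorem result {G : Type*} [Group G] [Finite G] {p : ℕ} [Fact p.Prime] (S : Sylow p G) (Q : Subgroup G) (hQp : IsPGroup p ↥Q) (hQ1 : Q ≠ ⊥) (hQS : Q ≤ (S : Subgroup G)) (hQ : Cfsg.IsLarge Q) (M : Subgroup G) (hSM : (S : Subgroup G) ≤ M) (hM : Cfsg.IsInFrakM p M) (htall : Cfsg.IsCharPTall p (Cfsg.largestPReducedOf p M)) (hasym : ¬ Cfsg.IsSymmetricIn (Cfsg.largestPReducedOf p M)) : ∃ H : Subgroup G, Cfsg.IsInFrakH p M H := by
  have hpar : Cfsg.IsOfParabolicCharacteristic p G := (Cfsg.Agent.S2845.result Q hQp hQ1 hQ).2.2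
  set Y := Cfsg.largestPReducedOf p M with hYdef
  set C := Subgroup.centralizer (Y : Set G) with hCdef
  set O := Cfsg.pCoreOf p M with hOdef
  obtain ⟨T, L, hTL, hLchar, hYL⟩ := htall
  obtain ⟨P0, hP0⟩ := (Cfsg.Agent.S2821.result S M hSM (Local.FrakM.rel_of_mem hM.1) _ rfl).1
  obtain ⟨c, hc⟩ := MulAction.exists_smul_eq ↥C T P0
  set e := MulAut.conj (c : G) with he
  set L' := L.map e.toMonoidHom with hL'
  have hOT := Local.FrakM.pCoreOf_eq S hSM hM
  have hOL' : O ≤ L' := by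
    intro o ho
    have h1 : (⟨o, (hOT.le ho).2⟩ : C) ∈ (P0 : Subgroup ↥C) := by
      rw [hP0]; exact hOT.le ho
    rw [← hc] at h1
    obtain ⟨t, ht, hto⟩ := h1
    exact ⟨t, hTL ⟨t, ht, rfl⟩, congrArg Subtype.val hto⟩
  have hcy : ∀ y ∈ Y, e y = y := fun y hy => by
    show (c : G) * y * (c : G)⁻¹ = y
    rw [← Subgroup.mem_centralizer_iff.1 c.2 y hy, mul_inv_cancel_right]
  have hYL' : ¬ Y ≤ Cfsg.pCoreOf p L' := by
    rw [hL', Local.Amalgam.pCoreOf_map]
    intro h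
    refine hYL fun y hy => ?_
    obtain ⟨z, hz, hzy⟩ := h hy
    have : z = y := e.injective (hzy.trans (hcy y hy).symm)
    rwa [← this]
  have hL'char : Subgroup.centralizer (Cfsg.pCore p ↥L' : Set ↥L') ≤ Cfsg.pCore p ↥L' :=
    Local.CharPB.centralizer_pCore_le_of_mulEquiv (L.equivMapOfInjective e.toMonoidHom e.injective) hLchar
  have hCO : Subgroup.centralizer (O : Set G) ≤ O := hM.1.2
  have hOp : IsPGroup p ↥O := Local.FrakH.isPGroup_pCoreOf M
  obtain ⟨H, ⟨hOH, hHL, hYH⟩, hmin⟩ := Set.exists_min_image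
    {P : Subgroup G | O ≤ P ∧ P ≤ L' ∧ ¬ Y ≤ Cfsg.pCoreOf p P} (fun P => Nat.card ↥P) (Set.toFinite _)
    ⟨L', hOL', le_rfl, hYL'⟩
  obtain ⟨P, -, -, hR⟩ := Local.FrakH.sylow_le_normalizer S hpar hSM hM hasym hOL'
  refine ⟨H, Local.FrakH.charP_overgroup hOp hCO hL'char hOH hHL hR, hOH, hYH, fun X hOX hXH => ?_⟩
  by_contra hYX
  exact absurd (Subgroup.eq_of_le_of_card_ge hXH.le (hmin X ⟨hOX, hXH.le.trans hHL, hYX⟩)) hXH.ne

end Cfsg.Agent.S2852
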