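import Cfsg.Statements.S2853
import Cfsg.Agent.Lib.Local.FrakH
import Cfsg.Agent.S2845
-- import your own Cfsg.Agent.* helpers here

set_option autoImplicit false
open Cfsg

namespace Cfsg.Agent.S2853
open Cfsg.Agent


/-- Standing hypotheses: G a finite group, S a Sylow p-subgroup, Q a nontrivial large p-subgroup of G contained in S, M a subgroup containing S with the basic property (M ∈ 𝔐_G(S)); Y_M the largest p-reduced normal subgroup of M and M† = M·C_G(Y_M). Suppose Y_M is char-p-tall and asymmetric in G and H ∈ ℌ_G(O_p(M)). Then every Sylow p-subgroup of H ∩ M† is a Sylow p-subgroup of H; O_p(H) normalizes O_p(M) and Y_M; O^p(H) = [O^p(H), Y_M] and H = O^p(H)·O_p(M); O^p(H)·Y_M is the normal closure of Y_M in H; and H is the normal closure of O_p(M) in H. Here O^p(H) is the subgroup generated by the elements of H of order prime to p. -/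
theorem result {G : Type*} [Group G] [Finite G] {p : ℕ} [Fact p.Prime] (S : Sylow p G) (Q : Subgroup G) (hQp : IsPGroup p ↥Q) (hQ1 : Q ≠ ⊥) (hQS : Q ≤ (S : Subgroup G)) (hQ : Cfsg.IsLarge Q) (M : Subgroup G) (hSM : (S : Subgroup G) ≤ M) (hM : Cfsg.IsInFrakM p M) (htall : Cfsg.IsCharPTall p (Cfsg.largestPReducedOf p M)) (hasym : ¬ Cfsg.IsSymmetricIn (Cfsg.largestPReducedOf p M)) (H : Subgroup G) (hH : Cfsg.IsInFrakH p M H) (R : Subgroup G) (hR : R = (Cfsg.pResidual p ↥H).map H.subtype) : (∀ T : Sylow p ↥(H ⊓ (M ⊔ Subgroup.centralizer (((Cfsg.largestPReducedOf p M) : Subgroup G) : Set G))), ∃ P : Sylow p ↥H, ((P : Subgroup ↥H).map H.subtype) = (T : Subgroup ↥(H ⊓ (M ⊔ Subgroup.centralizer (((Cfsg.largestPReducedOf p M) : Subgroup G) : Set G)))).map (H ⊓ (M ⊔ Subgroup.centralizer (((Cfsg.largestPReducedOf p M) : Subgroup G) : Set G))).subtype) ∧ Cfsg.pCoreOf p H ≤ Subgroup.normalizer (((Cfsg.pCoreOf p M) : Subgroup G) : Set G) ⊓ Subgroup.normalizer (((Cfsg.largestPReducedOf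 p M) : Subgroup G) : Set G) ∧ ⁅R, (Cfsg.largestPReducedOf p M)⁆ = R ∧ R ⊔ (Cfsg.pCoreOf p M) = H ∧ R ⊔ (Cfsg.largestPReducedOf p M) = (Subgroup.normalClosure ((((Cfsg.largestPReducedOf p M)).subgroupOf H : Subgroup ↥H) : Set ↥H)).map H.subtype ∧ (Subgroup.normalClosure ((((Cfsg.pCoreOf p M)).subgroupOf H : Subgroup ↥H) : Set ↥H)).map H.subtype = H := by
  have hpar : Cfsg.IsOfParabolicCharacteristic p G := (Cfsg.Agent.S2845.result Q hQp hQ1 hQ).2.2
  set Y := Cfsg.largestPReducedOf p M with hYdef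
  set O := Cfsg.pCoreOf p M with hOdef
  set Md := M ⊔ Subgroup.centralizer (Y : Set G) with hMd
  have hOY : O ≤ Subgroup.centralizer (Y : Set G) := (Local.FrakM.pCoreOf_eq S hSM hM).le.trans inf_le_right
  obtain ⟨hD, hgen, hN0, hKR⟩ :=
    Local.FrakH.structure_facts (Local.FrakM.largestOf_le_pCoreOf M) hOY hH
  have hNd := Local.FrakM.pCoreOf_normalizer_le_dagger S hpar hSM hM
  obtain ⟨P, hOP, hPN, hON⟩ := Local.FrakH.sylow_le_normalizer S hpar hSM hM hasym hH.2.1
  have hYH : Y ≤ H := (Local.FrakM.largestOf_le_pCoreOf M).trans hH.2.1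
  refine ⟨?_, le_inf hON (hON.trans (hNd.trans (Local.FrakM.dagger_le_normalizer M))), ?_, ?_, ?_, ?_⟩
  · set J := H ⊓ Md with hJ
    intro T
    have hPJ : (P : Subgroup ↥H).map H.subtype ≤ J :=
      le_inf (Subgroup.map_subtype_le _) (hPN.trans hNd)
    obtain ⟨T', hT'⟩ := ((P.isPGroup'.map H.subtype).comap_subtype (K := J)).exists_le_sylow
    set Tg := (T : Subgroup ↥J).map J.subtype with hTg
    have hTgH : Tg ≤ H := (Subgroup.map_subtype_le _).trans inf_le_left
    obtain ⟨P', hP'⟩ := ((T.isPGroup'.map J.subtype).comap_subtype (K := H)).exists_le_sylow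
    have hle : Tg ≤ (P' : Subgroup ↥H).map H.subtype := fun x hx =>
      ⟨⟨x, hTgH hx⟩, hP' (show (⟨x, hTgH hx⟩ : H) ∈ Tg.subgroupOf H from hx), rfl⟩
    refine ⟨P', (Subgroup.eq_of_le_of_card_ge hle ?_).symm⟩
    rw [hTg, Subgroup.card_subtype, Subgroup.card_subtype, P'.card_eq_multiplicity,
      ← P.card_eq_multiplicity, T.card_eq_multiplicity, ← T'.card_eq_multiplicity,
      ← Subgroup.card_subtype H (P : Subgroup ↥H), ← Subgroup.card_subtype J (T' : Subgroup ↥J)]
    exact Subgroup.card_le_of_le fun x hx => ⟨⟨x, hPJ hx⟩, hT' hx, rfl⟩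
  · have h := congrArg (Subgroup.map H.subtype) hKR
    rw [Subgroup.map_commutator, Subgroup.map_subgroupOf_eq_of_le hYH] at h
    rw [hR]; exact h
  · have h := congrArg (Subgroup.map H.subtype) hgen
    rw [Subgroup.map_sup, Subgroup.map_subgroupOf_eq_of_le hH.2.1, ← MonoidHom.range_eq_map,
      Subgroup.range_subtype] at h
    rw [hR]; exact h
  · have h := congrArg (Subgroup.map H.subtype) hN0
    rw [Subgroup.map_sup, Subgroup.map_subgroupOf_eq_of_le hYH] at h
    rw [hR]; exact h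
  · rw [hD, ← MonoidHom.range_eq_map, Subgroup.range_subtype]

end Cfsg.Agent.S2853
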