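import Cfsg.Statements.S2854
import Cfsg.Agent.Lib.Local.FrakH
import Cfsg.Agent.S2845
-- import your own Cfsg.Agent.* helpers here

set_option autoImplicit false
open Cfsg

namespace Cfsg.Agent.S2854
open Cfsg.Agent
open scoped commutatorElement


/-- Standing hypotheses: G a finite group, S a Sylow p-subgroup, Q a nontrivial large p-subgroup of G contained in S, M a subgroup containing S with the basic property (M ∈ 𝔐_G(S)); Y_M the largest p-reduced normal subgroup of M and M† = M·C_G(Y_M). Suppose Y_M is asymmetric in G, H ∈ ℌ_G(O_p(M)), and H ≤ N_G(gQg⁻¹) for some g ∈ G. Then gQg⁻¹ ≤ O_p(H·gQg⁻¹) ≤ N_G(O_p(M)) ≤ N_G(Y_M) = M†; H is normal in H·gQg⁻¹ with O^p(H) = O^p(H·gQg⁻¹); and H·gQg⁻¹ is p-irreducible. -/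
theorem result {G : Type*} [Group G] [Finite G] {p : ℕ} [Fact p.Prime] (S : Sylow p G) (Q : Subgroup G) (hQp : IsPGroup p ↥Q) (hQ1 : Q ≠ ⊥) (hQS : Q ≤ (S : Subgroup G)) (hQ : Cfsg.IsLarge Q) (M : Subgroup G) (hSM : (S : Subgroup G) ≤ M) (hM : Cfsg.IsInFrakM p M) (hasym : ¬ Cfsg.IsSymmetricIn (Cfsg.largestPReducedOf p M)) (H : Subgroup G) (hH : Cfsg.IsInFrakH p M H) (g : G) (hHQ : H ≤ Subgroup.normalizer ((((Q : Subgroup G).map (MulAut.conj (g : G)).toMonoidHom) : Subgroup G) : Set G)) : ((Q : Subgroup G).map (MulAut.conj (g : G)).toMonoidHom) ≤ Cfsg.pCoreOf p (H ⊔ ((Q : Subgroup G).map (MulAut.conj (g : G)).toMonoidHom)) ∧ Cfsg.pCoreOf p (H ⊔ ((Q : Subgroup G).map (MulAut.conj (g : G)).toMonoidHom)) ≤ Subgroup.normalizer (((Cfsg.pCoreOf p M) : Subgroup G) : Set G) ∧ Subgroup.normalizer (((Cfsg.pCoreOf p M) : Subgroup G) : Set G) ≤ Subgroup.normalizer (((Cfsg.largestPReducedOf p M) : Subgroup G) : Set G) ∧ Subgroup.normalizer (((Cfsg.largestPReducedOf p M) : Subgroup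 G) : Set G) = (M ⊔ Subgroup.centralizer (((Cfsg.largestPReducedOf p M) : Subgroup G) : Set G)) ∧ (H.subgroupOf (H ⊔ ((Q : Subgroup G).map (MulAut.conj (g : G)).toMonoidHom))).Normal ∧ (Cfsg.pResidual p ↥H).map H.subtype = (Cfsg.pResidual p ↥(H ⊔ ((Q : Subgroup G).map (MulAut.conj (g : G)).toMonoidHom))).map (H ⊔ ((Q : Subgroup G).map (MulAut.conj (g : G)).toMonoidHom)).subtype ∧ Cfsg.IsPIrreducible p ↥(H ⊔ ((Q : Subgroup G).map (MulAut.conj (g : G)).toMonoidHom)) := by
  have hpar : Cfsg.IsOfParabolicCharacteristic p G := (Cfsg.Agent.S2845.result Q hQp hQ1 hQ).2.2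
  set Y := Cfsg.largestPReducedOf p M with hYdef
  set O := Cfsg.pCoreOf p M with hOdef
  set Q' := Q.map (MulAut.conj g).toMonoidHom with hQ'
  set K := H ⊔ Q' with hK
  have hOY : O ≤ Subgroup.centralizer (Y : Set G) := (Local.FrakM.pCoreOf_eq S hSM hM).le.trans inf_le_right
  have hYO : Y ≤ O := Local.FrakM.largestOf_le_pCoreOf M
  obtain ⟨hD, hgen, hN0, hKR⟩ := Local.FrakH.structure_facts hYO hOY hH
  obtain ⟨hchar, hOH, hYn, hmin⟩ := hH
  have hYH : Y ≤ H := hYO.trans hOH
  have hNd := Local.FrakM.pCoreOf_normalizer_le_dagger S hpar hSM hM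
  have hNY : Subgroup.normalizer (Y : Set G) = M ⊔ Subgroup.centralizer (Y : Set G) :=
    le_antisymm (Local.FrakM.normalizer_le_dagger S hpar hSM hM
      ((Local.LargestPR.isPGroup_largest (L := ↥M) (p := p)).map M.subtype)
      (Local.FrakM.largestOf_ne_bot S hSM hM.1) (Local.FrakM.largestOf_le_normalizer M))
      (Local.FrakM.dagger_le_normalizer M)
  have hQ'p : IsPGroup p ↥Q' := hQp.map _
  have hQ'K : Q' ≤ Cfsg.pCoreOf p K :=
    Local.FrakH.le_pCoreOf hQ'p le_sup_right (sup_le hHQ Subgroup.le_normalizer)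
  obtain ⟨P, -, -, hON⟩ := Local.FrakH.sylow_le_normalizer S hpar hSM hM hasym
    (H := K) (hOH.trans le_sup_left)
  have hQO : Q' ≤ Subgroup.normalizer (O : Set G) := hQ'K.trans hON
  -- `Q'` normalizes `H`
  have hQH : Q' ≤ Subgroup.normalizer (H : Set G) := by
    set X : Subgroup ↥H := Subgroup.normalClosure ((O.subgroupOf H : Subgroup ↥H) : Set ↥H) with hX
    have hHgen : H ≤ ⨆ h : ↥H, O.map (MulAut.conj (h : G)).toMonoidHom := by
      set Z := ⨆ h : ↥H, O.map (MulAut.conj (h : G)).toMonoidHom with hZ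
      haveI : (Z.subgroupOf H).Normal := by
        refine Subgroup.normal_subgroupOf_of_le_normalizer fun a ha =>
          Local.FrakH.mem_normalizer_of_le (iSup_le fun h => ?_)
        rw [← Subgroup.map_le_iff_le_comap, Local.WCB.map_conj_map]
        exact le_iSup (fun h : ↥H => O.map (MulAut.conj (h : G)).toMonoidHom) ⟨a * h, mul_mem ha h.2⟩
      have h1 : X ≤ Z.subgroupOf H := Subgroup.normalClosure_le_normal fun o ho =>
        Subgroup.mem_iSup_of_mem (1 : ↥H) ⟨_, ho, by simp⟩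
      rw [show X = ⊤ from hD] at h1
      exact Subgroup.subgroupOf_eq_top.1 (eq_top_iff.2 h1)
    intro q hq
    refine Local.FrakH.mem_normalizer_of_le (hHgen.trans (iSup_le fun h => ?_))
    rw [← Subgroup.map_le_iff_le_comap, Local.WCB.map_conj_map]
    have hq' : (h : G)⁻¹ * q * h ∈ Subgroup.normalizer (O : Set G) :=
      hQO ((Subgroup.mem_normalizer_iff''.1 (hHQ h.2) q).1 hq)
    rw [show q * (h : G) = h * ((h : G)⁻¹ * q * h) by group, ← Local.WCB.map_conj_map,
      Local.WCB.map_conj_eq_of_mem_normalizer hq']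
    rintro _ ⟨o, ho, rfl⟩
    exact mul_mem (mul_mem h.2 (hOH ho)) (inv_mem h.2)
  haveI hHn : (H.subgroupOf K).Normal :=
    Subgroup.normal_subgroupOf_of_le_normalizer (sup_le Subgroup.le_normalizer hQH)
  set H' := H.subgroupOf K with hH'
  -- `p'`-elements of `K` lie in `H`
  have hp' : ∀ x : ↥K, (orderOf x).Coprime p → x ∈ H' := by
    intro x hco
    have hQK : IsPGroup p (↥K ⧸ H') := by
      refine (hQ'p.comap_subtype (K := K)).of_surjective
        ((QuotientGroup.mk' H').comp (Q'.subgroupOf K).subtype) fun q => ?_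
      obtain ⟨z, rfl⟩ := QuotientGroup.mk'_surjective H' q
      have hz : (z : G) ∈ ((H ⊔ Q' : Subgroup G) : Set G) := z.2
      rw [Subgroup.coe_mul_of_right_le_normalizer_left H Q' hQH] at hz
      obtain ⟨a, ha, b, hb, hab⟩ := Set.mem_mul.1 hz
      refine ⟨⟨⟨b, Subgroup.mem_sup_right hb⟩, hb⟩, ?_⟩
      show QuotientGroup.mk' H' ⟨b, Subgroup.mem_sup_right hb⟩ = QuotientGroup.mk' H' z
      rw [show z = (⟨a, Subgroup.mem_sup_left ha⟩ : ↥K) * ⟨b, Subgroup.mem_sup_right hb⟩ from
        Subtype.ext hab.symm, map_mul,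
        show QuotientGroup.mk' H' (⟨a, Subgroup.mem_sup_left ha⟩ : ↥K) = 1 from
          (QuotientGroup.eq_one_iff _).2 ha, one_mul]
    obtain ⟨k, hk⟩ := IsPGroup.iff_card.1 hQK
    refine (QuotientGroup.eq_one_iff (N := H') x).1 (orderOf_eq_one_iff.1 ?_)
    exact Nat.eq_one_of_dvd_coprimes (hco.pow_right k) (orderOf_map_dvd (QuotientGroup.mk' H') x)
      (hk ▸ _root_.orderOf_dvd_natCard _)
  have hres : (Cfsg.pResidual p ↥H).map H.subtype = (Cfsg.pResidual p ↥K).map K.subtype := by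
    rw [Cfsg.pResidual, Cfsg.pResidual, MonoidHom.map_closure, MonoidHom.map_closure]
    refine le_antisymm (Subgroup.closure_mono ?_) (Subgroup.closure_mono ?_)
    · rintro _ ⟨x, hx, rfl⟩
      refine ⟨⟨(x : G), Subgroup.mem_sup_left x.2⟩, ?_, rfl⟩
      show (orderOf _).Coprime p
      rw [← Subgroup.orderOf_coe]
      show (orderOf (x : G)).Coprime p
      rw [Subgroup.orderOf_coe]
      exact hx
    · rintro _ ⟨x, hx, rfl⟩
      refine ⟨⟨(x : G), Subgroup.mem_subgroupOf.1 (hp' x hx)⟩, ?_, rfl⟩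
      show (orderOf _).Coprime p
      rw [← Subgroup.orderOf_coe]
      show (orderOf (x : G)).Coprime p
      rw [Subgroup.orderOf_coe]
      exact hx
  refine ⟨hQ'K, hON, hNd.trans (Local.FrakM.dagger_le_normalizer M), hNY, hHn, hres, ?_, ?_⟩
  · intro hcl
    obtain ⟨P1⟩ := Sylow.nonempty (p := p) (G := ↥K)
    haveI := hcl P1
    have hP1 : (P1 : Subgroup ↥K) ≤ Cfsg.pCore p ↥K := Solv.le_pCore P1.isPGroup'
    haveI := Sylow.unique_of_normal P1 (hcl P1)
    obtain ⟨P2, hP2⟩ := ((Local.FrakH.isPGroup_pCoreOf (p := p) M).comap_subtype (K := K)).exists_le_sylow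
    rw [Subsingleton.elim P2 P1] at hP2
    have hOK : O ≤ Cfsg.pCoreOf p K := fun o ho =>
      ⟨⟨o, Subgroup.mem_sup_left (hOH ho)⟩,
        hP1 (hP2 (show (⟨o, Subgroup.mem_sup_left (hOH ho)⟩ : K) ∈ O.subgroupOf K from ho)), rfl⟩
    exact hYn ((le_inf (hYO.trans hOK) hYH).trans (Local.FrakH.pCoreOf_inf_le le_sup_left))
  · intro N hN hNcl
    haveI := hN
    by_contra hRN
    set Dk : Subgroup ↥K := N ⊓ H' with hDk
    haveI : Dk.Normal := Subgroup.normal_inf_normal _ _
    set D := Dk.map K.subtype with hDdef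
    have hDH : D ≤ H := by rintro _ ⟨x, hx, rfl⟩; exact hx.2
    have hKD : K ≤ Subgroup.normalizer (D : Set G) := by
      refine Solv.le_normalizer_of_conj_mem ?_
      rintro a ha _ ⟨z, hz, rfl⟩
      exact ⟨⟨a, ha⟩ * z * ⟨a, ha⟩⁻¹, (inferInstance : Dk.Normal).conj_mem z hz _, rfl⟩
    set P1 := D ⊔ O with hP1
    have hP1H : P1 ≤ H := sup_le hDH hOH
    have hlt : P1 < H := by
      refine lt_of_le_of_ne hP1H fun e => hRN ?_
      rw [Cfsg.pResidual, Subgroup.closure_le]
      intro x hx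
      have hxH : (x : G) ∈ ((D ⊔ O : Subgroup G) : Set G) := by
        rw [← hP1, e]; exact hp' x hx
      rw [Subgroup.coe_mul_of_right_le_normalizer_left D O ((hOH.trans le_sup_left).trans hKD)] at hxH
      obtain ⟨d, hd, o, ho, hdo⟩ := Set.mem_mul.1 hxH
      obtain ⟨d', hd', rfl⟩ := hd
      set o' : ↥K := ⟨o, Subgroup.mem_sup_left (hOH ho)⟩
      have hx' : x = d' * o' := Subtype.ext hdo.symm
      have h1 : QuotientGroup.mk' N x = QuotientGroup.mk' N o' := by
        rw [hx', map_mul, show QuotientGroup.mk' N d' = 1 from (QuotientGroup.eq_one_iff d').2 hd'.1,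
          one_mul]
      obtain ⟨k, hk⟩ := (Local.FrakH.isPGroup_pCoreOf (p := p) M) ⟨o, ho⟩
      refine (QuotientGroup.eq_one_iff (N := N) x).1 (orderOf_eq_one_iff.1 ?_)
      refine Nat.eq_one_of_dvd_coprimes (hx.pow_right k) (orderOf_map_dvd (QuotientGroup.mk' N) x)
        (orderOf_dvd_of_pow_eq_one ?_)
      show (QuotientGroup.mk' N x) ^ p ^ k = 1
      rw [h1, ← map_pow, show o' ^ p ^ k = 1 from Subtype.ext (by
        have := congrArg Subtype.val hk
        rw [SubmonoidClass.coe_pow] at this ⊢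
        exact this), map_one]
    have hY1 := hmin P1 le_sup_right hlt
    -- a Sylow subgroup of `N` normalized by `O`
    obtain ⟨PK, hPK⟩ := ((Local.FrakH.isPGroup_pCoreOf (p := p) M).comap_subtype (K := K)).exists_le_sylow
    have hnd : ¬ p ∣ ((PK : Subgroup ↥K).subgroupOf N).index :=
      Local.SylowCenter.not_dvd_relIndex_normal PK N
    have hp0 : IsPGroup p ↥((PK : Subgroup ↥K).subgroupOf N) := PK.isPGroup'.comap_subtype
    set U : Subgroup ↥K := (PK : Subgroup ↥K) ⊓ N with hU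
    have hfr : Subgroup.normalizer (U : Set ↥K) ⊔ N = ⊤ := by
      have := Sylow.normalizer_sup_eq_top (hp0.toSylow hnd)
      rwa [IsPGroup.toSylow_coe, Subgroup.subgroupOf_map_subtype] at this
    have hNU : N ≤ U ⊔ Dk := by
      intro n hn
      have h := Solv.sup_pResidual_eq_top (hp0.toSylow hnd)
      rw [IsPGroup.toSylow_coe] at h
      have h2 : (⊤ : Subgroup ↥N) ≤ (U ⊔ Dk).subgroupOf N := by
        rw [← h]
        refine sup_le (fun z hz => Subgroup.mem_sup_left ⟨hz, z.2⟩) ?_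
        rw [Cfsg.pResidual, Subgroup.closure_le]
        intro z hz
        exact Subgroup.mem_sup_right ⟨z.2, hp' _ (by
          show (orderOf (z : ↥K)).Coprime p
          rw [Subgroup.orderOf_coe]; exact hz)⟩
      exact h2 (Subgroup.mem_top (⟨n, hn⟩ : ↥N))
    set Ug := U.map K.subtype with hUg
    have hUgn : (Subgroup.normalizer (U : Set ↥K)).map K.subtype ≤ Subgroup.normalizer (Ug : Set G) :=
      Subgroup.le_normalizer_map _
    by_cases hHU : H ≤ Subgroup.normalizer (Ug : Set G)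
    · apply hNcl
      have hNn : N ≤ Subgroup.normalizer (U : Set ↥K) := by
        refine hNU.trans (sup_le Subgroup.le_normalizer fun d hd => ?_)
        refine Local.FrakH.mem_normalizer_of_le fun u hu => ?_
        obtain ⟨w, hw, hwe⟩ := (Subgroup.mem_normalizer_iff.1 (hHU hd.2) (u : G)).1 ⟨u, hu, rfl⟩
        show d * u * d⁻¹ ∈ U
        rwa [show d * u * d⁻¹ = w from Subtype.ext hwe.symm]
      intro P3
      have hn' : ((hp0.toSylow hnd : Sylow p ↥N) : Subgroup ↥N).Normal := by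
        rw [IsPGroup.toSylow_coe, ← Subgroup.inf_subgroupOf_right]
        exact Subgroup.normal_subgroupOf_of_le_normalizer hNn
      haveI := Sylow.unique_of_normal (hp0.toSylow hnd) hn'
      exact (Subsingleton.elim (hp0.toSylow hnd) P3) ▸ hn'
    · set Pn := H ⊓ Subgroup.normalizer (Ug : Set G) with hPn
      have hOU : O ≤ Subgroup.normalizer (Ug : Set G) := fun o ho => hUgn
        ⟨⟨o, Subgroup.mem_sup_left (hOH ho)⟩, Solv.le_normalizer_inf (X := (PK : Subgroup ↥K))
          Subgroup.le_normalizer (by rw [Subgroup.normalizer_eq_top]; exact le_top)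
          (hPK (show (⟨o, Subgroup.mem_sup_left (hOH ho)⟩ : K) ∈ O.subgroupOf K from ho)), rfl⟩
      have hY2 := hmin Pn (le_inf hOH hOU)
        (lt_of_le_of_ne inf_le_left fun e => hHU (e.ge.trans inf_le_right))
      set Z := Cfsg.pCoreOf p H ⊔ Cfsg.pCoreOf p Pn with hZ
      have hPnH : Pn ≤ H := inf_le_left
      have hPnZ : Pn ≤ Subgroup.normalizer (Z : Set G) := fun m hm =>
        Local.FrakH.mem_normalizer_of_le (sup_le
          (fun z hz => Subgroup.mem_sup_left ((Subgroup.mem_normalizer_iff.1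
            (Local.FrakH.le_normalizer_pCoreOf H (hPnH hm)) z).1 hz))
          (fun z hz => Subgroup.mem_sup_right ((Subgroup.mem_normalizer_iff.1
            (Local.FrakH.le_normalizer_pCoreOf Pn hm) z).1 hz)))
      have hZp : IsPGroup p ↥Z := (Local.FrakH.isPGroup_pCoreOf H).to_sup_of_normal_left'
        (Local.FrakH.isPGroup_pCoreOf Pn)
        (((Subgroup.map_subtype_le _).trans hPnH).trans (Local.FrakH.le_normalizer_pCoreOf H))
      have hconj : ∀ h ∈ H, ∀ y ∈ Y, h * y * h⁻¹ ∈ Z := by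
        intro h hh y hy
        obtain ⟨m, hm, n, hn, hmn⟩ := Subgroup.mem_sup_of_normal_right.1
          (hfr ▸ Subgroup.mem_top (⟨h, Subgroup.mem_sup_left hh⟩ : ↥K))
        obtain ⟨u, hu, d, hd, hud⟩ := Subgroup.mem_sup_of_normal_right.1 (hNU hn)
        have hm' : m * u ∈ Subgroup.normalizer (U : Set ↥K) := mul_mem hm (Subgroup.le_normalizer hu)
        have hdH : (d : G) ∈ H := hd.2
        have hmu : h = ((m * u : ↥K) : G) * (d : G) := by
          have := congrArg Subtype.val hmn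
          rw [← hud] at this
          show h = (m : G) * (u : G) * (d : G)
          rw [mul_assoc]
          exact this.symm
        have hmPn : ((m * u : ↥K) : G) ∈ Pn := Subgroup.mem_inf.2 ⟨by
          rw [show ((m * u : ↥K) : G) = h * (d : G)⁻¹ by rw [hmu]; group]
          exact mul_mem hh (inv_mem hdH), hUgn ⟨_, hm', rfl⟩⟩
        rw [hmu, show ((m * u : ↥K) : G) * (d : G) * y * (((m * u : ↥K) : G) * (d : G))⁻¹ =
          ((m * u : ↥K) : G) * (⁅(d : G), y⁆ * y) * ((m * u : ↥K) : G)⁻¹ by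
            rw [commutatorElement_def]; group]
        refine (Subgroup.mem_normalizer_iff.1 (hPnZ hmPn) _).1
          (mul_mem (Subgroup.mem_sup_left ?_) (Subgroup.mem_sup_right (hY2 hy)))
        have hdD : (d : G) ∈ D := ⟨d, hd, rfl⟩
        refine Local.FrakH.pCoreOf_le_of_normal hDH ((le_sup_left : H ≤ K).trans hKD)
          (Local.FrakH.pCoreOf_inf_le (le_sup_left : D ≤ P1) (Subgroup.mem_inf.2 ⟨?_, ?_⟩))
        · rw [commutatorElement_def]
          exact mul_mem ((Subgroup.mem_normalizer_iff.1 (Local.FrakH.le_normalizer_pCoreOf P1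
            (Subgroup.mem_sup_left hdD)) y).1 (hY1 hy)) (inv_mem (hY1 hy))
        · rw [commutatorElement_def, mul_assoc, mul_assoc, ← mul_assoc y]
          exact mul_mem hdD ((Subgroup.mem_normalizer_iff.1 (hKD (Subgroup.mem_sup_left (hYH hy))) _).1
            (inv_mem hdD))
      set W : Subgroup ↥H := Subgroup.normalClosure ((Y.subgroupOf H : Subgroup ↥H) : Set ↥H) with hW
      have hWZ : W ≤ Z.subgroupOf H := by
        rw [hW, Subgroup.normalClosure, Subgroup.closure_le]
        intro w hw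
        obtain ⟨y, hy, hyw⟩ := Group.mem_conjugatesOfSet_iff.1 hw
        obtain ⟨c, rfl⟩ := isConj_iff.1 hyw
        exact hconj c c.2 y hy
      have hWp : IsPGroup p ↥W := (hZp.comap_subtype (K := H)).to_le hWZ
      haveI : W.Normal := Subgroup.normalClosure_normal
      have hW' : W ≤ Cfsg.pCore p ↥H := Solv.le_pCore hWp
      exact hYn fun y hy => ⟨⟨y, hYH hy⟩, hW' (Subgroup.le_normalClosure (show (⟨y, hYH hy⟩ : H) ∈
        Y.subgroupOf H from hy)), rfl⟩

end Cfsg.Agent.S2854
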