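import Cfsg.Statements.S2855
import Cfsg.Agent.Lib.Local.FrakH
import Cfsg.Agent.Lib.Local.FStarAction
import Cfsg.Agent.Lib.Local.IrreducibleQuotient
import Cfsg.Agent.Lib.Fusion.FactorHyperfocal
-- import your own Cfsg.Agent.* helpers here

set_option autoImplicit false
open Cfsg

namespace Cfsg.Agent.S2855
open Cfsg.Agent
open scoped commutatorElement Pointwise

variable {p : ℕ} [Fact p.Prime]

/-- A `p`-group centralizing `O^p(X)` is trivial when `O_p(X) = 1`. -/
theorem eq_bot_of_centralize {X : Type*} [Group X] [Finite X] (hO : Cfsg.pCore p X = ⊥)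
    {Y : Subgroup X} (hY : IsPGroup p ↥Y)
    (h : Y ≤ Subgroup.centralizer (Cfsg.pResidual p X : Set X)) : Y = ⊥ := by
  set R := Cfsg.pResidual p X with hR
  set C := Subgroup.centralizer (R : Set X) with hC
  haveI : C.Normal := Subgroup.normal_centralizer
  have hQ : IsPGroup p (X ⧸ R) := by
    obtain ⟨k, hk⟩ := Solv.exists_pResidual_index (p := p) (G := X)
    exact IsPGroup.of_card (n := k) (by rw [← Subgroup.index_eq_card]; exact hk)
  haveI := hQ.isNilpotent
  have hn : Group.IsNilpotent ↥C :=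
    Subgroup.isNilpotent_of_ker_le_center ((QuotientGroup.mk' R).comp C.subtype) (fun x hx => by
      rw [MonoidHom.mem_ker, MonoidHom.comp_apply] at hx
      have hxR : (x : X) ∈ R := (QuotientGroup.eq_one_iff _).1 hx
      exact Subgroup.mem_center_iff.2 fun g =>
        Subtype.ext (Subgroup.mem_centralizer_iff.1 g.2 (x : X) hxR).symm)
  obtain ⟨k, hk⟩ := IsPGroup.iff_card.1 hY
  refine Subgroup.card_eq_one.1 (Nat.eq_one_of_dvd_coprimes
    ((Local.FStarAction.fitting_coprime hO).pow_right k)
    (Subgroup.card_dvd_of_le (h.trans (Solv.le_fittingSubgroup (N := C) hn))) hk.dvd)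

/-- An element acting on `E` through central `p'`-commutators centralizes `E`. -/
theorem comm_trivial {X : Type*} [Group X] [Finite X] (E Z : Subgroup X)
    (hres : Cfsg.pResidual p ↥E ≤ commutator ↥E) (hZc : ∀ a ∈ Z, ∀ b ∈ Z, a * b = b * a)
    (hZE : E ≤ Subgroup.centralizer (Z : Set X)) (hZp : (Nat.card Z).Coprime p)
    (x : X) (hx : ∀ e ∈ E, ⁅x, e⁆ ∈ Z) : ∀ e ∈ E, x * e = e * x := by
  letI : CommGroup ↥Z := { (inferInstance : Group ↥Z) with
    mul_comm := fun a b => Subtype.ext (hZc a a.2 b b.2) }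
  let φ : ↥E →* ↥Z := MonoidHom.mk' (fun e => ⟨⁅x, (e : X)⁆, hx e e.2⟩) fun a b => by
    refine Subtype.ext ?_
    show ⁅x, (a : X) * (b : X)⁆ = ⁅x, (a : X)⁆ * ⁅x, (b : X)⁆
    rw [show ⁅x, (a : X) * (b : X)⁆ = ⁅x, (a : X)⁆ * ((a : X) * ⁅x, (b : X)⁆ * (a : X)⁻¹) by
      simp [commutatorElement_def, mul_assoc],
      ← Subgroup.mem_centralizer_iff.1 (hZE a.2) _ (hx b b.2), mul_inv_cancel_right]
  obtain ⟨P⟩ := Sylow.nonempty (p := p) (G := ↥E)
  have hle : (⊤ : Subgroup ↥E) ≤ φ.ker := by
    rw [← Solv.sup_pResidual_eq_top P]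
    refine sup_le (fun e he => ?_) (hres.trans (Abelianization.commutator_subset_ker φ))
    rw [MonoidHom.mem_ker, ← orderOf_eq_one_iff]
    obtain ⟨k, hk⟩ := IsPGroup.iff_card.1 P.isPGroup'
    exact Nat.eq_one_of_dvd_coprimes (hZp.pow_right k) (_root_.orderOf_dvd_natCard _)
      ((orderOf_map_dvd φ e).trans (hk ▸ Subgroup.orderOf_dvd_natCard _ he))
  intro e he
  have h1 : φ ⟨e, he⟩ = 1 := hle (Subgroup.mem_top _)
  exact commutatorElement_eq_one_iff_mul_comm.1 (congrArg Subtype.val h1)

variable {X : Type*} [Group X] [Finite X]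

/-- An abelian subgroup normalized by a normal `J` with `O_p(X) = 1` has order prime to `p`. -/
theorem coprime_of_comm (hO : Cfsg.pCore p X = ⊥) (J Z : Subgroup X) [J.Normal] (hZJ : Z ≤ J)
    (hJZ : J ≤ Subgroup.normalizer (Z : Set X)) (hZc : ∀ a ∈ Z, ∀ b ∈ Z, a * b = b * a) :
    (Nat.card Z).Coprime p := by
  haveI : (Z.subgroupOf J).Normal := Subgroup.normal_subgroupOf_of_le_normalizer hJZ
  have hOJ : Cfsg.pCore p ↥J = ⊥ := by
    have h := Solv.le_pCore_of_isSubnormal
      ((inferInstance : (Cfsg.pCore p ↥J).Normal).isSubnormal.trans' (inferInstance : J.Normal).isSubnormal)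
      ((Solv.isPGroup_pCore p ↥J).map J.subtype)
    rw [hO, le_bot_iff] at h
    exact (Subgroup.map_eq_bot_iff_of_injective _ J.subtype_injective).1 h
  have hn : Group.IsNilpotent ↥(Z.subgroupOf J) := by
    letI : CommGroup ↥(Z.subgroupOf J) := { (inferInstance : Group ↥(Z.subgroupOf J)) with
      mul_comm := fun a b => Subtype.ext (Subtype.ext (hZc _ a.2 _ b.2)) }
    infer_instance
  rw [← Nat.card_congr (Subgroup.subgroupOfEquivOfLe hZJ).toEquiv]
  exact (Local.FStarAction.fitting_coprime hOJ).coprime_dvd_left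
    (Subgroup.card_dvd_of_le (Solv.le_fittingSubgroup (N := Z.subgroupOf J) hn))

/-- The minimality part. -/
theorem minimal_part {H : Type*} [Group H] [Finite H] (𝒦 : Set (Subgroup H)) (hne : 𝒦.Nonempty)
    (hinv : ∀ h : H, ∀ E ∈ 𝒦, E.map (MulAut.conj h).toMonoidHom ∈ 𝒦)
    (htr : ∀ E ∈ 𝒦, ∀ K ∈ 𝒦, ∃ h : H, K = E.map (MulAut.conj h).toMonoidHom)
    (hres : Cfsg.pResidual p H ≤ sSup 𝒦)
    (hnorm : ∀ E ∈ 𝒦, sSup 𝒦 ⊔ Cfsg.pCore p H ≤ Subgroup.normalizer ((E ⊔ Cfsg.pCore p H : Subgroup H) : Set H))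
    (hmin : ∀ E ∈ 𝒦, ∀ T : Sylow p ↥E, Cfsg.IsMinimalOver (T : Subgroup ↥E)) :
    ∀ T : Sylow p H, Cfsg.IsMinimalOver (T : Subgroup H) := by
  intro T
  classical
  set J := sSup 𝒦 with hJ
  set O := Cfsg.pCore p H with hO
  set T' : Subgroup H := (T : Subgroup H) with hT'
  have hOT : O ≤ T' := Solv.pCore_le_sylow T
  haveI hJn : J.Normal := ⟨fun x hx h => by
    have hle : J ≤ J.comap (MulAut.conj h).toMonoidHom := sSup_le fun E hE =>
      Subgroup.map_le_iff_le_comap.1 (le_sSup (hinv h E hE))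
    exact hle hx⟩
  have hTJ : ∀ h : H, ∃ t ∈ T', ∃ j ∈ J, h = t * j := fun h => by
    have h1 : h ∈ T' ⊔ J := by
      have := Solv.sup_pResidual_eq_top T
      exact (this.ge.trans (sup_le_sup_left hres _)) (Subgroup.mem_top h)
    obtain ⟨t, ht, j, hj, rfl⟩ := Subgroup.mem_sup_of_normal_right.1 h1
    exact ⟨t, ht, j, hj, rfl⟩
  have hsn : ∀ E ∈ 𝒦, (E ⊔ O).IsSubnormal := by
    intro E hE
    haveI : (J ⊔ O).Normal := Subgroup.sup_normal _ _
    haveI : ((E ⊔ O).subgroupOf (J ⊔ O)).Normal :=
      Subgroup.normal_subgroupOf_of_le_normalizer (hnorm E hE)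
    have h := (inferInstance : ((E ⊔ O).subgroupOf (J ⊔ O)).Normal).isSubnormal.trans'
      (inferInstance : (J ⊔ O).Normal).isSubnormal
    rwa [Subgroup.map_subgroupOf_eq_of_le (sup_le_sup_right (le_sSup hE) O)] at h
  -- `T ∩ E` is a Sylow subgroup of `E`
  have hSyl : ∀ E ∈ 𝒦, ∃ S : Sylow p ↥E, (S : Subgroup ↥E) = T'.subgroupOf E := by
    intro E hE
    have hp0 : IsPGroup p ↥(T'.subgroupOf E) := T.isPGroup'.comap_subtype
    refine ⟨hp0.toSylow ?_, rfl⟩
    have h1 : ¬ p ∣ (T'.subgroupOf (E ⊔ O)).index := Solv.index_sylow_inf_subnormal (E ⊔ O) (hsn E hE) T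
    show ¬ p ∣ T'.relIndex E
    intro hd
    apply h1
    show p ∣ T'.relIndex (E ⊔ O)
    have hset : ((E ⊔ O : Subgroup H) : Set H) = (E : Set H) * (O : Set H) :=
      Subgroup.mul_normal E O
    have : T'.relIndex (E ⊔ O) = T'.relIndex E := by
      refine le_antisymm ?_ (Subgroup.relIndex_le_of_le_right le_sup_left ?_)
      · refine Nat.card_le_card_of_surjective
          (fun q : ↥E ⧸ T'.subgroupOf E => Quotient.map' (Subgroup.inclusion (le_sup_left : E ≤ E ⊔ O))
            (fun a b hab => by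
              rw [QuotientGroup.leftRel_apply] at hab ⊢
              exact hab) q) ?_
        intro q
        obtain ⟨z, rfl⟩ := QuotientGroup.mk_surjective q
        have hz : (z : H) ∈ ((E ⊔ O : Subgroup H) : Set H) := z.2
        rw [hset] at hz
        obtain ⟨e, he, o, ho, heo⟩ := Set.mem_mul.1 hz
        refine ⟨(QuotientGroup.mk ⟨e, he⟩ : ↥E ⧸ T'.subgroupOf E), ?_⟩
        refine QuotientGroup.eq.2 ?_
        show e⁻¹ * (z : H) ∈ T'
        rw [← heo, inv_mul_cancel_left]
        exact hOT ho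
      · exact Subgroup.index_ne_zero_of_finite
    rwa [this]
  choose S hS using hSyl
  -- the chosen maximal subgroups
  have hex : ∀ E, ∀ hE : E ∈ 𝒦, ∃ M : Subgroup ↥E, IsCoatom M ∧ (S E hE : Subgroup ↥E) ≤ M := fun E hE =>
    (hmin E hE (S E hE)).2.exists
  choose Mx hMx using hex
  let ME : ∀ E ∈ 𝒦, Subgroup H := fun E hE => (Mx E hE).map E.subtype
  have hfull : ∀ X : Subgroup H, T' ≤ X → ∀ E ∈ 𝒦, E ≤ X → X = ⊤ := by
    intro X hTX E hE hEX
    refine eq_top_iff.2 fun h _ => ?_
    obtain ⟨t, ht, j, hj, rfl⟩ := hTJ h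
    refine mul_mem (hTX ht) ((sSup_le fun K hK => ?_ : J ≤ X) hj)
    obtain ⟨g, rfl⟩ := htr E hE K hK
    obtain ⟨t', ht', j', hj', rfl⟩ := hTJ g
    rintro _ ⟨e, he, rfl⟩
    show t' * j' * e * (t' * j')⁻¹ ∈ X
    rw [show t' * j' * e * (t' * j')⁻¹ = t' * (j' * e * j'⁻¹) * t'⁻¹ by group]
    refine mul_mem (mul_mem (hTX ht') ((sup_le hEX (hOT.trans hTX) : E ⊔ O ≤ X) ?_)) (inv_mem (hTX ht'))
    exact (Subgroup.mem_normalizer_iff.1 (hnorm E hE (Subgroup.mem_sup_left hj')) e).1 (Subgroup.mem_sup_left he)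
  have hbound : ∀ X : Subgroup H, T' ≤ X → X ≠ ⊤ → ∀ E, ∀ hE : E ∈ 𝒦, X ⊓ E ≤ ME E hE := by
    intro X hTX hX E hE x hx
    have hne : X.subgroupOf E ≠ ⊤ := fun e => hX (hfull X hTX E hE (Subgroup.subgroupOf_eq_top.1 e))
    obtain ⟨M, hM, hle⟩ := (eq_top_or_exists_le_coatom (X.subgroupOf E)).resolve_left hne
    have hSM : (S E hE : Subgroup ↥E) ≤ M := by
      refine le_trans ?_ hle
      rw [hS]
      exact fun z hz => hTX hz
    have heq : M = Mx E hE := (hmin E hE (S E hE)).2.unique ⟨hM, hSM⟩ (hMx E hE)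
    exact ⟨⟨x, hx.2⟩, heq ▸ hle (show (⟨x, hx.2⟩ : E) ∈ X.subgroupOf E from hx.1), rfl⟩
  let M : Subgroup H :=
    { carrier := {h | ∀ E, ∀ hE : E ∈ 𝒦,
        (ME E hE).map (MulAut.conj h).toMonoidHom = ME (E.map (MulAut.conj h).toMonoidHom) (hinv h E hE)}
      one_mem' := fun E hE => by
        have e : E.map (MulAut.conj (1 : H)).toMonoidHom = E := Local.WCB.map_conj_one E
        rw [Local.WCB.map_conj_one]
        congr 1 <;> exact e.symm
      mul_mem' := fun {a b} ha hb E hE => by
        have e := (Local.WCB.map_conj_map a b E)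
        rw [← Local.WCB.map_conj_map, hb E hE, ha _ (hinv b E hE)]
        congr 1
      inv_mem' := fun {a} ha E hE => by
        have h1 := ha _ (hinv a⁻¹ E hE)
        have e : (E.map (MulAut.conj a⁻¹).toMonoidHom).map (MulAut.conj a).toMonoidHom = E := by
          rw [Local.WCB.map_conj_map, mul_inv_cancel, Local.WCB.map_conj_one]
        have h2 := congrArg (Subgroup.map (MulAut.conj a⁻¹).toMonoidHom) h1
        rw [Local.WCB.map_conj_map, inv_mul_cancel, Local.WCB.map_conj_one] at h2
        rw [h2]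
        congr 2 <;> exact e.symm }
  have hXM : ∀ X : Subgroup H, T' ≤ X → X ≠ ⊤ → X ≤ M := by
    intro X hTX hX x hx E hE
    set E' := E.map (MulAut.conj x).toMonoidHom with hE'
    set e : ↥E ≃* ↥E' := E.equivMapOfInjective (MulAut.conj x).toMonoidHom (MulAut.conj x).injective
    set S' := ((S E hE : Subgroup ↥E)).map e.toMonoidHom with hS'
    have hcoat : IsCoatom ((Mx E hE).map e.toMonoidHom) :=
      (e.mapSubgroup.isCoatom_iff (Mx E hE)).2 (hMx E hE).1
    have hS'p : IsPGroup p ↥S' := (S E hE).isPGroup'.map _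
    have hnd : ¬ p ∣ S'.index := by
      rw [hS', show (S E hE : Subgroup ↥E).map e.toMonoidHom = (S E hE : Subgroup ↥E).map (e : ↥E →* ↥E') from rfl,
        Subgroup.index_map_equiv]
      exact (S E hE).not_dvd_index
    have hS'le : S' ≤ (ME E' (hinv x E hE)).subgroupOf E' := by
      rintro _ ⟨z, hz, rfl⟩
      rw [hS] at hz
      refine hbound X hTX hX E' (hinv x E hE) (Subgroup.mem_inf.2 ⟨?_, (e z).2⟩)
      exact mul_mem (mul_mem hx (hTX hz)) (inv_mem hx)
    rw [show (ME E' (hinv x E hE)).subgroupOf E' = Mx E' (hinv x E hE) from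
      Subgroup.comap_map_eq_self_of_injective E'.subtype_injective _] at hS'le
    have heq : (Mx E hE).map e.toMonoidHom = Mx E' (hinv x E hE) :=
      (hmin E' (hinv x E hE) (hS'p.toSylow hnd)).2.unique
        ⟨hcoat, by rw [IsPGroup.toSylow_coe]; exact Subgroup.map_mono (hMx E hE).2⟩
        ⟨(hMx E' (hinv x E hE)).1, by rw [IsPGroup.toSylow_coe]; exact hS'le⟩
    show ((Mx E hE).map E.subtype).map _ = (Mx E' (hinv x E hE)).map E'.subtype
    rw [← heq, Subgroup.map_map, Subgroup.map_map]
    rfl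
  have hT_ne : T' ≠ ⊤ := by
    intro e
    obtain ⟨E, hE⟩ := hne
    refine (hMx E hE).1.1 (top_le_iff.1 (le_trans ?_ (hMx E hE).2))
    rw [hS, e, Subgroup.top_subgroupOf]
  have hTM : T' ≤ M := hXM T' le_rfl hT_ne
  have hM_ne : M ≠ ⊤ := by
    intro e
    obtain ⟨E, hE⟩ := hne
    refine (hMx E hE).1.1 ?_
    have hn : (Mx E hE).Normal := by
      refine ⟨fun z hz g => ?_⟩
      have hg : (g : H) ∈ M := e ▸ Subgroup.mem_top _
      have h1 := hg E hE
      have hEg : E.map (MulAut.conj (g : H)).toMonoidHom = E :=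
        Local.WCB.map_conj_eq_of_mem_normalizer (Subgroup.le_normalizer g.2)
      have h2 : ME (E.map (MulAut.conj (g : H)).toMonoidHom) (hinv g E hE) = ME E hE := by congr 1
      rw [h2] at h1
      obtain ⟨w, hw, hwe⟩ := h1.le ⟨(z : H), ⟨z, hz, rfl⟩, rfl⟩
      rwa [show g * z * g⁻¹ = w from Subtype.ext hwe.symm]
    refine top_le_iff.1 ((hmin E hE (S E hE)).1.ge.trans ?_)
    exact Subgroup.normalClosure_le_normal (hMx E hE).2
  refine ⟨?_, M, ⟨⟨hM_ne, fun X hX => ?_⟩, hTM⟩, fun X hX => ?_⟩
  · refine hfull _ Subgroup.le_normalClosure _ hne.some_mem ?_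
    intro x hx
    have h1 : (⊤ : Subgroup ↥hne.some) ≤
        (Subgroup.normalClosure (T' : Set H)).subgroupOf hne.some := by
      rw [← (hmin _ hne.some_mem (S _ hne.some_mem)).1]
      exact Subgroup.normalClosure_le_normal fun z hz =>
        Subgroup.le_normalClosure (H := T') ((hS _ hne.some_mem).le hz)
    exact h1 (Subgroup.mem_top (⟨x, hx⟩ : hne.some))
  · by_contra h
    exact absurd (hXM X (hTM.trans hX.le) h) (not_le_of_gt hX)
  · by_contra hne'
    exact hM_ne (hX.1.2 M (lt_of_le_of_ne (hXM X hX.2 hX.1.1) hne'))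


/-- Let H be a finite group, p a prime, and 𝒦 a nonempty set of subgroups of H permuted transitively by conjugation, with R the subgroup generated by the members of 𝒦. Suppose O^p(H) ≤ R, each E ∈ 𝒦 has E·O_p(H) normal in R·O_p(H), and each E ∈ 𝒦 is p-minimal (generated by the conjugates of a Sylow p-subgroup T_E of E, with T_E in exactly one maximal subgroup of E). Then H is p-minimal in the same sense. If instead each E ∈ 𝒦 is strongly p-irreducible, then H is p-irreducible and, for E, K ∈ 𝒦, either O^p(E·O_p(H)) = O^p(K·O_p(H)) or [E, K] ≤ O_p(H). -/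
theorem result {H : Type*} [Group H] [Finite H] {p : ℕ} [Fact p.Prime] (𝒦 : Set (Subgroup H)) (hne : 𝒦.Nonempty) (hinv : ∀ h : H, ∀ E ∈ 𝒦, E.map (MulAut.conj h).toMonoidHom ∈ 𝒦) (htr : ∀ E ∈ 𝒦, ∀ K ∈ 𝒦, ∃ h : H, K = E.map (MulAut.conj h).toMonoidHom) (hres : Cfsg.pResidual p H ≤ sSup 𝒦) (hnorm : ∀ E ∈ 𝒦, sSup 𝒦 ⊔ Cfsg.pCore p H ≤ Subgroup.normalizer ((E ⊔ Cfsg.pCore p H : Subgroup H) : Set H)) : ((∀ E ∈ 𝒦, ∀ T : Sylow p ↥E, Cfsg.IsMinimalOver (T : Subgroup ↥E)) → ∀ T : Sylow p H, Cfsg.IsMinimalOver (T : Subgroup H)) ∧ ((∀ E ∈ 𝒦, Cfsg.IsStronglyPIrreducible p ↥E) → Cfsg.IsPIrreducible p H ∧ ∀ E ∈ 𝒦, ∀ K ∈ 𝒦, (Cfsg.pResidual p ↥(E ⊔ Cfsg.pCore p H)).map (E ⊔ Cfsg.pCore p H).subtype = (Cfsg.pResidual p ↥(K ⊔ Cfsg.pCore p H)).map (K ⊔ Cfsg.pCore p H).subtype ∨ ⁅E, K⁆ ≤ Cfsg.pCore p H) := by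
  refine ⟨minimal_part 𝒦 hne hinv htr hres hnorm, fun hstr => ?_⟩
  set O := Cfsg.pCore p H with hO
  set π := QuotientGroup.mk' O with hπ
  have hπs : Function.Surjective π := QuotientGroup.mk'_surjective O
  have hOp : IsPGroup p ↥O := Solv.isPGroup_pCore p H
  have hOb : Cfsg.pCore p (H ⧸ O) = ⊥ := Solv.pCore_quotient_pCore p H
  set J := sSup 𝒦 with hJ
  haveI hJn : J.Normal := ⟨fun x hx h => by
    have hle : J ≤ J.comap (MulAut.conj h).toMonoidHom := sSup_le fun E hE =>
      Subgroup.map_le_iff_le_comap.1 (le_sSup (hinv h E hE))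
    exact hle hx⟩
  set Jb := J.map π with hJb
  haveI hJbn : Jb.Normal := hJn.map π hπs
  set Rb := Cfsg.pResidual p (H ⧸ O) with hRb
  have hRJ : Rb ≤ Jb := by
    rw [hRb, ← Fusion.map_pResidual_eq (p := p) hπs]
    exact Subgroup.map_mono hres
  have hEJ : ∀ E ∈ 𝒦, E.map π ≤ Jb := fun E hE => Subgroup.map_mono (le_sSup hE)
  have hEn : ∀ E ∈ 𝒦, Jb ≤ Subgroup.normalizer ((E.map π : Subgroup (H ⧸ O)) : Set (H ⧸ O)) := by
    rintro E hE _ ⟨j, hj, rfl⟩
    have h := Subgroup.le_normalizer_map π (Subgroup.mem_map_of_mem π (hnorm E hE (Subgroup.mem_sup_left hj)))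
    rwa [Subgroup.map_sup, show O.map π = ⊥ from
      (Subgroup.map_eq_bot_iff _).2 (QuotientGroup.ker_mk' O).ge, sup_bot_eq] at h
  have hEO : ∀ E ∈ 𝒦, Cfsg.pCore p ↥(E.map π) = ⊥ := by
    intro E hE
    haveI : ((E.map π).subgroupOf Jb).Normal := Subgroup.normal_subgroupOf_of_le_normalizer (hEn E hE)
    have hsn : (E.map π).IsSubnormal := by
      have h := (inferInstance : ((E.map π).subgroupOf Jb).Normal).isSubnormal.trans' hJbn.isSubnormal
      rwa [Subgroup.map_subgroupOf_eq_of_le (hEJ E hE)] at h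
    have h := Solv.le_pCore_of_isSubnormal
      ((inferInstance : (Cfsg.pCore p ↥(E.map π)).Normal).isSubnormal.trans' hsn)
      ((Solv.isPGroup_pCore p ↥(E.map π)).map (E.map π).subtype)
    rw [hOb, le_bot_iff] at h
    exact (Subgroup.map_eq_bot_iff_of_injective _ (E.map π).subtype_injective).1 h
  -- the strong irreducibility of the images
  have hdich : ∀ E ∈ 𝒦, ∀ N : Subgroup ↥(E.map π), N.Normal →
      ⁅N, (⊤ : Subgroup ↥(E.map π))⁆ = ⊥ ∨ Cfsg.pResidual p ↥(E.map π) ≤ N := by
    intro E hE N hN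
    set σ := π.subgroupMap E with hσ
    have hσs : Function.Surjective σ := π.subgroupMap_surjective E
    by_cases h : ⁅N.comap σ, (⊤ : Subgroup ↥E)⁆ ≤ Cfsg.pCore p ↥E
    · left
      have h1 := (Subgroup.map_mono (f := σ) h).trans (Solv.map_pCore_le_of_surjective p σ hσs)
      rw [hEO E hE, Subgroup.map_commutator, Subgroup.map_comap_eq_self_of_surjective hσs,
        Subgroup.map_top_of_surjective σ hσs, le_bot_iff] at h1
      exact h1
    · right
      have h1 := Subgroup.map_mono (f := σ) ((hstr E hE).2 (N.comap σ) (Subgroup.Normal.comap hN σ) h)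
      rwa [Fusion.map_pResidual_eq hσs, Subgroup.map_comap_eq_self_of_surjective hσs] at h1
  have hncl : ∀ E ∈ 𝒦, ¬ Cfsg.IsPClosed p ↥(E.map π) := fun E hE h => by
    refine (hstr E hE).1 (Local.Irred.isPClosed_of_ker (π.subgroupMap E) (π.subgroupMap_surjective E) ?_ h)
    refine (hOp.comap_subtype (K := E)).to_le fun x hx => ?_
    exact (QuotientGroup.eq_one_iff (N := O) (x : H)).1 (congrArg Subtype.val hx)
  have hcom : ∀ E ∈ 𝒦, Cfsg.pResidual p ↥(E.map π) ≤ commutator ↥(E.map π) := by
    intro E hE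
    refine (hdich E hE _ inferInstance).resolve_left fun h => hncl E hE ?_
    haveI : Group.IsNilpotent ↥(E.map π) := by
      refine Subgroup.isNilpotent_of_ker_le_center (Abelianization.of (G := ↥(E.map π))) ?_
      rw [Abelianization.ker_of]
      intro x hx
      rw [Subgroup.mem_center_iff]
      intro g
      exact (commutatorElement_eq_one_iff_mul_comm.1 (Subgroup.mem_bot.1
        (h ▸ Subgroup.commutator_mem_commutator hx (Subgroup.mem_top g)))).symm
    intro P
    exact ((Group.isNilpotent_of_finite_tfae (G := ↥(E.map π))).out 0 3 rfl rfl).mp inferInstance p inferInstance P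
  -- central commutators vanish
  have hcentral : ∀ E ∈ 𝒦, ∀ L : Subgroup (H ⧸ O), L ≤ Jb → Jb ≤ Subgroup.normalizer (L : Set (H ⧸ O)) →
      E.map π ≤ Subgroup.centralizer (L : Set (H ⧸ O)) →
      (∀ a ∈ L, ∀ b ∈ L, a * b = b * a) → ∀ x : H ⧸ O, (∀ e ∈ E.map π, ⁅x, e⁆ ∈ L) →
      ∀ e ∈ E.map π, x * e = e * x := fun E hE L hLJ hJL hEL hLc x hx =>
    comm_trivial (E.map π) L (hcom E hE) hLc hEL (coprime_of_comm hOb Jb L hLJ hJL hLc) x hx
  -- `[N, E]` for a subgroup normal in `J` meeting `E` centrally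
  have hsub : ∀ E ∈ 𝒦, ∀ N : Subgroup (H ⧸ O), Jb ≤ Subgroup.normalizer (N : Set (H ⧸ O)) →
      ⁅N ⊓ E.map π, E.map π⁆ = ⊥ ∨
        (Cfsg.pResidual p ↥(E.map π)).map (E.map π).subtype ≤ N := by
    intro E hE N hN
    haveI : ((N ⊓ E.map π).subgroupOf (E.map π)).Normal :=
      Subgroup.normal_subgroupOf_of_le_normalizer
        (Solv.le_normalizer_inf ((hEJ E hE).trans hN) Subgroup.le_normalizer)
    rcases hdich E hE ((N ⊓ E.map π).subgroupOf (E.map π)) inferInstance with h | h
    · left
      have h1 := congrArg (Subgroup.map (E.map π).subtype) h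
      rwa [Subgroup.map_commutator, Subgroup.map_subgroupOf_eq_of_le inf_le_right, Subgroup.map_bot,
        ← MonoidHom.range_eq_map, Subgroup.range_subtype] at h1
    · right
      refine (Subgroup.map_mono h).trans ?_
      rw [Subgroup.map_subgroupOf_eq_of_le inf_le_right]
      exact inf_le_left
  refine ⟨?_, ?_⟩
  · rw [(Local.Irred.quotient_iff O hOp).1]
    obtain ⟨E₀, hE₀⟩ := hne
    refine ⟨fun hcl => ?_, fun N hN hNcl => ?_⟩
    · refine hncl E₀ hE₀ fun P => ?_
      obtain ⟨Q, hQ⟩ := (P.isPGroup'.map (E₀.map π).subtype).exists_le_sylow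
      haveI := hcl Q
      have h1 : (P : Subgroup ↥(E₀.map π)).map (E₀.map π).subtype ≤ Cfsg.pCore p (H ⧸ O) :=
        hQ.trans (Solv.le_pCore Q.isPGroup')
      rw [hOb, le_bot_iff, Subgroup.map_eq_bot_iff_of_injective _ (E₀.map π).subtype_injective] at h1
      rw [h1]
      infer_instance
    haveI := hN
    rcases hsub E₀ hE₀ N (by rw [Subgroup.normalizer_eq_top]; exact le_top) with h0 | h0
    swap
    · -- `O^p(E) ≤ N` for all `E`
      have hall : ∀ K ∈ 𝒦, (Cfsg.pResidual p ↥(K.map π)).map (K.map π).subtype ≤ N := by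
        intro K hK
        obtain ⟨g, rfl⟩ := htr E₀ hE₀ K hK
        rw [Cfsg.pResidual, MonoidHom.map_closure, Subgroup.closure_le]
        rintro _ ⟨x, hx, rfl⟩
        obtain ⟨_, ⟨e, he, rfl⟩, hex⟩ := x.2
        have h1 : π e ∈ N := by
          refine h0 ⟨⟨π e, e, he, rfl⟩, Solv.mem_pResidual ?_, rfl⟩
          rw [← Subgroup.orderOf_coe]
          show (orderOf (π e)).Coprime p
          have h2 : orderOf (π e) = orderOf (x : H ⧸ O) := by
            rw [← hex]
            show orderOf (π e) = orderOf (π (g * e * g⁻¹))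
            rw [map_mul, map_mul, map_inv, ← MulAut.conj_apply (π g) (π e), MulEquiv.orderOf_eq]
          rw [h2, Subgroup.orderOf_coe]
          exact hx
        show (x : H ⧸ O) ∈ N
        rw [← hex]
        show π (g * e * g⁻¹) ∈ N
        rw [map_mul, map_mul, map_inv]
        exact hN.conj_mem _ h1 (π g)
      set W := N ⊓ Jb with hW
      haveI : W.Normal := Subgroup.normal_inf_normal _ _
      set f := QuotientGroup.mk' W with hf
      have hJp : IsPGroup p ↥(Jb.map f) := by
        haveI : (Jb.map f).Normal := hJbn.map f (QuotientGroup.mk'_surjective W)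
        refine (Solv.isPGroup_pCore p ((H ⧸ O) ⧸ W)).to_le ?_
        rw [hJb, Subgroup.map_map, hJ, Subgroup.map_le_iff_le_comap]
        refine sSup_le fun K hK => ?_
        rw [← Subgroup.map_le_iff_le_comap, ← Subgroup.map_map]
        haveI : (((K.map π).map f).subgroupOf (Jb.map f)).Normal := by
          refine Subgroup.normal_subgroupOf_of_le_normalizer ?_
          rintro _ ⟨j, hj, rfl⟩
          exact Subgroup.le_normalizer_map f (Subgroup.mem_map_of_mem f (hEn K hK hj))
        have hsn : ((K.map π).map f).IsSubnormal := by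
          have h := (inferInstance : (((K.map π).map f).subgroupOf (Jb.map f)).Normal).isSubnormal.trans'
            (inferInstance : (Jb.map f).Normal).isSubnormal
          rwa [Subgroup.map_subgroupOf_eq_of_le (Subgroup.map_mono (hEJ K hK))] at h
        refine Solv.le_pCore_of_isSubnormal hsn ?_
        obtain ⟨P⟩ := Sylow.nonempty (p := p) (G := ↥(K.map π))
        refine ((P.isPGroup'.map (K.map π).subtype).map f).to_le ?_
        rintro _ ⟨z, hz, rfl⟩
        obtain ⟨u, hu, r, hr, hur⟩ := Subgroup.mem_sup_of_normal_right.1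
          ((Solv.sup_pResidual_eq_top P).ge (Subgroup.mem_top (⟨z, hz⟩ : K.map π)))
        have hrW : f (r : H ⧸ O) = 1 := (QuotientGroup.eq_one_iff _).2
          (Subgroup.mem_inf.2 ⟨hall K hK ⟨r, hr, rfl⟩, hEJ K hK r.2⟩)
        refine ⟨_, ⟨u, hu, rfl⟩, ?_⟩
        rw [show z = (u : H ⧸ O) * (r : H ⧸ O) from congrArg Subtype.val hur.symm, map_mul, hrW, mul_one]
        rfl
      rw [Cfsg.pResidual, Subgroup.closure_le]
      intro x hx
      have hxJ : x ∈ Jb := hRJ (Solv.mem_pResidual hx)
      obtain ⟨k, hk⟩ := hJp ⟨f x, x, hxJ, rfl⟩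
      have h3 : orderOf (f x) = 1 :=
        Nat.eq_one_of_dvd_coprimes (hx.pow_right k) (orderOf_map_dvd f x)
          (orderOf_dvd_of_pow_eq_one (congrArg Subtype.val hk))
      exact ((QuotientGroup.eq_one_iff (N := W) x).1 (orderOf_eq_one_iff.1 h3)).1
    · -- `N` meets every `E` centrally
      exfalso
      set Z := N ⊓ Jb with hZ
      haveI : Z.Normal := Subgroup.normal_inf_normal _ _
      have hall : ∀ K ∈ 𝒦, ⁅N ⊓ K.map π, K.map π⁆ = ⊥ := by
        intro K hK
        obtain ⟨g, rfl⟩ := htr E₀ hE₀ K hK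
        have h2 := congrArg (Subgroup.map (MulAut.conj (π g)).toMonoidHom) h0
        rw [Subgroup.map_bot, Subgroup.map_commutator, Subgroup.map_inf _ _ _ (MulAut.conj (π g)).injective,
          Local.WCB.map_conj_eq_of_mem_normalizer ((Subgroup.normalizer_eq_top N).ge (Subgroup.mem_top _))] at h2
        have e : (E₀.map π).map (MulAut.conj (π g)).toMonoidHom =
            (E₀.map (MulAut.conj g).toMonoidHom).map π := by
          rw [Subgroup.map_map, Subgroup.map_map]
          congr 1
        rwa [e] at h2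
      have hZK : ∀ K ∈ 𝒦, ∀ x ∈ Z, ∀ e ∈ K.map π, x * e = e * x := by
        intro K hK x hx
        refine hcentral K hK (Z ⊓ K.map π) (inf_le_left.trans inf_le_right)
          (Solv.le_normalizer_inf (by rw [Subgroup.normalizer_eq_top]; exact le_top) (hEn K hK))
          ?_ ?_ x ?_
        · rw [Subgroup.le_centralizer_iff, ← Subgroup.commutator_eq_bot_iff_le_centralizer, eq_bot_iff,
            ← hall K hK]
          exact Subgroup.commutator_mono (inf_le_inf_right _ inf_le_left) le_rfl
        · intro a ha b hb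
          exact commutatorElement_eq_one_iff_mul_comm.1 (Subgroup.mem_bot.1 ((hall K hK) ▸
            Subgroup.commutator_mem_commutator (Subgroup.mem_inf.2 ⟨ha.1.1, ha.2⟩) hb.2))
        · intro e he
          refine Subgroup.mem_inf.2 ⟨?_, ?_⟩
          · rw [commutatorElement_def, mul_assoc, mul_assoc, ← mul_assoc e]
            exact mul_mem hx ((inferInstance : Z.Normal).conj_mem _ (inv_mem hx) e)
          · rw [commutatorElement_def]
            exact mul_mem ((Subgroup.mem_normalizer_iff.1 (hEn K hK hx.2) e).1 he) (inv_mem he)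
      have hJZ : Jb ≤ Subgroup.centralizer (Z : Set (H ⧸ O)) := by
        rw [hJb, Subgroup.map_le_iff_le_comap, hJ]
        refine sSup_le fun K hK => ?_
        rw [← Subgroup.map_le_iff_le_comap]
        exact fun e he => Subgroup.mem_centralizer_iff.2 fun x hx => hZK K hK x hx e he
      have hNJ : ∀ x ∈ N, x ∈ Subgroup.centralizer (Jb : Set (H ⧸ O)) := by
        intro x hx
        have hle : Jb ≤ Subgroup.centralizer ({x} : Set (H ⧸ O)) := by
          rw [hJb, Subgroup.map_le_iff_le_comap, hJ]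
          refine sSup_le fun K hK => ?_
          rw [← Subgroup.map_le_iff_le_comap]
          intro e he
          refine Subgroup.mem_centralizer_singleton_iff.2 (hcentral K hK Z inf_le_right
            (by rw [Subgroup.normalizer_eq_top]; exact le_top) ((hEJ K hK).trans hJZ)
            (fun a ha b hb => Subgroup.mem_centralizer_iff.1 (hJZ hb.2) a ha) x ?_ e he).symm
          intro e' he'
          refine Subgroup.mem_inf.2 ⟨?_, ?_⟩
          · rw [commutatorElement_def, mul_assoc, mul_assoc, ← mul_assoc e']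
            exact mul_mem hx (hN.conj_mem _ (inv_mem hx) e')
          · rw [commutatorElement_def]
            exact mul_mem (hJbn.conj_mem _ (hEJ K hK he') x) (inv_mem (hEJ K hK he'))
        exact Subgroup.mem_centralizer_iff.2 fun j hj => Subgroup.mem_centralizer_singleton_iff.1 (hle hj)
      refine hNcl fun P => ?_
      have h1 := eq_bot_of_centralize hOb (P.isPGroup'.map N.subtype) (by
        rintro _ ⟨y, -, rfl⟩
        exact Subgroup.centralizer_le (SetLike.coe_subset_coe.2 hRJ) (hNJ _ y.2))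
      rw [Subgroup.map_eq_bot_iff_of_injective _ N.subtype_injective] at h1
      rw [h1]
      infer_instance
  · intro E hE K hK
    rcases hsub E hE (K.map π) (hEn K hK) with h | h
    · right
      rcases hsub K hK (E.map π) (hEn E hE) with h' | h'
      · set L := E.map π ⊓ K.map π with hL
        rw [inf_comm] at h
        have hLE : ⁅L, E.map π⁆ = ⊥ := h
        have hcomm : ∀ x ∈ K.map π, ∀ e ∈ E.map π, x * e = e * x := by
          intro x hx
          refine hcentral E hE L (inf_le_left.trans (hEJ E hE))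
            (Solv.le_normalizer_inf (hEn E hE) (hEn K hK)) ?_ ?_ x ?_
          · rw [Subgroup.le_centralizer_iff, ← Subgroup.commutator_eq_bot_iff_le_centralizer]
            exact hLE
          · intro a ha b hb
            exact commutatorElement_eq_one_iff_mul_comm.1 (Subgroup.mem_bot.1 (hLE ▸
              Subgroup.commutator_mem_commutator ha hb.1))
          · intro e he
            refine Subgroup.mem_inf.2 ⟨?_, ?_⟩
            · rw [commutatorElement_def]
              exact mul_mem ((Subgroup.mem_normalizer_iff.1 (hEn E hE (hEJ K hK hx)) e).1 he) (inv_mem he)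
            · rw [commutatorElement_def, mul_assoc, mul_assoc, ← mul_assoc e]
              exact mul_mem hx ((Subgroup.mem_normalizer_iff.1 (hEn K hK (hEJ E hE he)) _).1 (inv_mem hx))
        rw [Subgroup.commutator_le]
        intro e he k hk
        refine (QuotientGroup.eq_one_iff _).1 ?_
        show π ⁅e, k⁆ = 1
        rw [map_commutatorElement, commutatorElement_eq_one_iff_mul_comm]
        exact (hcomm _ ⟨k, hk, rfl⟩ _ ⟨e, he, rfl⟩).symm
      · -- symmetric
        exfalso
        refine hncl K hK ?_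
        haveI : Group.IsNilpotent ↥(K.map π) := by
          have hle : (Cfsg.pResidual p ↥(K.map π)).map (K.map π).subtype ≤ K.map π ⊓ E.map π :=
            le_inf (Subgroup.map_subtype_le _) h'
          obtain ⟨g, hg⟩ := htr E hE K hK
          have hcardeq : Nat.card ↥(K.map π) = Nat.card ↥(E.map π) := by
            have e : K.map π = (E.map π).map (MulAut.conj (π g)).toMonoidHom := by
              rw [hg, Subgroup.map_map, Subgroup.map_map]
              congr 1
            rw [e, Subgroup.card_map_of_injective (MulAut.conj (π g)).injective]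
          have hRE : Cfsg.pResidual p ↥(E.map π) ≤ Subgroup.center ↥(E.map π) := by
            haveI : ((K.map π ⊓ E.map π).subgroupOf (E.map π)).Normal :=
              Subgroup.normal_subgroupOf_of_le_normalizer
                (Solv.le_normalizer_inf ((hEJ E hE).trans (hEn K hK)) Subgroup.le_normalizer)
            have e : K.map π = (E.map π).map (MulAut.conj (π g)).toMonoidHom := by
              rw [hg, Subgroup.map_map, Subgroup.map_map]
              congr 1
            have eRK : (Cfsg.pResidual p ↥(K.map π)).map (K.map π).subtype =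
                ((Cfsg.pResidual p ↥(E.map π)).map (E.map π).subtype).map (MulAut.conj (π g)).toMonoidHom := by
              let φ : ↥(E.map π) ≃* ↥(K.map π) :=
                ((E.map π).equivMapOfInjective (MulAut.conj (π g)).toMonoidHom
                  (MulAut.conj (π g)).injective).trans (MulEquiv.subgroupCongr e.symm)
              rw [← Fusion.map_pResidual_eq (p := p) (f := φ.toMonoidHom) φ.surjective,
                Subgroup.map_map, Subgroup.map_map]
              rfl
            have hRKle : (Cfsg.pResidual p ↥(K.map π)).map (K.map π).subtype ≤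
                (Cfsg.pResidual p ↥(E.map π)).map (E.map π).subtype := by
              rw [Cfsg.pResidual, Cfsg.pResidual, MonoidHom.map_closure, MonoidHom.map_closure]
              refine Subgroup.closure_mono ?_
              rintro _ ⟨x, hx, rfl⟩
              have hxE : (x : H ⧸ O) ∈ E.map π := h' ⟨x, Solv.mem_pResidual hx, rfl⟩
              refine ⟨⟨(x : H ⧸ O), hxE⟩, ?_, rfl⟩
              show (orderOf _).Coprime p
              rw [Subgroup.orderOf_mk, Subgroup.orderOf_coe]
              exact hx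
            have heq : (Cfsg.pResidual p ↥(K.map π)).map (K.map π).subtype =
                (Cfsg.pResidual p ↥(E.map π)).map (E.map π).subtype :=
              Subgroup.eq_of_le_of_card_ge hRKle (by
                rw [eRK]
                exact (Nat.card_congr (Subgroup.equivMapOfInjective _ (MulAut.conj (π g)).toMonoidHom
                  (MulAut.conj (π g)).injective).toEquiv).le)
            intro r hr
            have hrK : (r : H ⧸ O) ∈ K.map π :=
              Subgroup.map_subtype_le _ (heq.ge ⟨r, hr, rfl⟩)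
            refine Subgroup.mem_center_iff.2 fun y => Subtype.ext ?_
            exact (commutatorElement_eq_one_iff_mul_comm.1 (Subgroup.mem_bot.1 (h ▸
              Subgroup.commutator_mem_commutator (Subgroup.mem_inf.2 ⟨hrK, r.2⟩) y.2))).symm
          have hQ : IsPGroup p (↥(E.map π) ⧸ Cfsg.pResidual p ↥(E.map π)) := by
            obtain ⟨k, hk⟩ := Solv.exists_pResidual_index (p := p) (G := ↥(E.map π))
            exact IsPGroup.of_card (n := k) (by rw [← Subgroup.index_eq_card]; exact hk)
          haveI := hQ.isNilpotent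
          haveI : Group.IsNilpotent ↥(E.map π) :=
            Subgroup.isNilpotent_of_ker_le_center (QuotientGroup.mk' (Cfsg.pResidual p ↥(E.map π)))
              (by rw [QuotientGroup.ker_mk']; exact hRE)
          have e : K.map π = (E.map π).map (MulAut.conj (π g)).toMonoidHom := by
            rw [hg, Subgroup.map_map, Subgroup.map_map]
            congr 1
          exact Group.nilpotent_of_mulEquiv (((E.map π).equivMapOfInjective (MulAut.conj (π g)).toMonoidHom
            (MulAut.conj (π g)).injective).trans (MulEquiv.subgroupCongr e.symm))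
        intro P
        exact ((Group.isNilpotent_of_finite_tfae (G := ↥(K.map π))).out 0 3 rfl rfl).mp inferInstance p inferInstance P
    · left
      have hsame : ∀ A ∈ 𝒦, ∀ B ∈ 𝒦, (Cfsg.pResidual p ↥(A.map π)).map (A.map π).subtype ≤ B.map π →
          (Cfsg.pResidual p ↥(A ⊔ O)).map (A ⊔ O).subtype ≤
            (Cfsg.pResidual p ↥(B ⊔ O)).map (B ⊔ O).subtype := by
        intro A hA B hB hle
        rw [Cfsg.pResidual, Cfsg.pResidual, MonoidHom.map_closure, MonoidHom.map_closure]
        refine Subgroup.closure_mono ?_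
        rintro _ ⟨x, hx, rfl⟩
        have hxA : π (x : H) ∈ A.map π := by
          have h1 : π (x : H) ∈ (A ⊔ O).map π := ⟨x, x.2, rfl⟩
          rwa [Subgroup.map_sup, show O.map π = ⊥ from
            (Subgroup.map_eq_bot_iff _).2 (QuotientGroup.ker_mk' O).ge, sup_bot_eq] at h1
        have hxB : π (x : H) ∈ B.map π := by
          refine hle ⟨⟨_, hxA⟩, Solv.mem_pResidual ?_, rfl⟩
          rw [Subgroup.orderOf_mk]
          refine Nat.Coprime.coprime_dvd_left (orderOf_map_dvd π (x : H)) ?_
          rw [Subgroup.orderOf_coe]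
          exact hx
        have hxBO : (x : H) ∈ B ⊔ O := by
          have h1 : (x : H) ∈ (B.map π).comap π := hxB
          rwa [Subgroup.comap_map_eq, hπ, QuotientGroup.ker_mk'] at h1
        refine ⟨⟨(x : H), hxBO⟩, ?_, rfl⟩
        show (orderOf _).Coprime p
        rw [Subgroup.orderOf_mk, Subgroup.orderOf_coe]
        exact hx
      refine Subgroup.eq_of_le_of_card_ge (hsame E hE K hK h) (le_of_eq ?_)
      obtain ⟨g, hg⟩ := htr E hE K hK
      have e : (E ⊔ O).map (MulAut.conj g).toMonoidHom = K ⊔ O := by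
        rw [Subgroup.map_sup, ← hg,
          Local.WCB.map_conj_eq_of_mem_normalizer ((Subgroup.normalizer_eq_top O).ge (Subgroup.mem_top g))]
      let φ : ↥(E ⊔ O) ≃* ↥(K ⊔ O) :=
        ((E ⊔ O).equivMapOfInjective (MulAut.conj g).toMonoidHom (MulAut.conj g).injective).trans
          (MulEquiv.subgroupCongr e)
      rw [Subgroup.card_subtype, Subgroup.card_subtype,
        ← Fusion.map_pResidual_eq (p := p) (f := φ.toMonoidHom) φ.surjective,
        Subgroup.card_map_of_injective φ.injective]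

end Cfsg.Agent.S2855
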