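import Cfsg.Statements.S2859
import Cfsg.Agent.Lib.Local.FrakH
import Cfsg.Agent.Lib.Local.LargeSubgroup
import Cfsg.Agent.S2840
-- import your own Cfsg.Agent.* helpers here

set_option autoImplicit false
open Cfsg

namespace Cfsg.Agent.S2859
open Cfsg.Agent
open scoped commutatorElement

variable {G : Type*} [Group G] [Finite G] {p : ℕ} [Fact p.Prime]

theorem sup_eq_top {X : Type*} [Group X] [Finite X] (O : Subgroup X)
    (hD : Subgroup.normalClosure (O : Set X) = ⊤) : Cfsg.pResidual p X ⊔ O = ⊤ := by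
  set R := Cfsg.pResidual p X with hR
  set f := QuotientGroup.mk' R with hf
  have hQ : IsPGroup p (X ⧸ R) := by
    obtain ⟨k, hk⟩ := Solv.exists_pResidual_index (p := p) (G := X)
    exact IsPGroup.of_card (n := k) (by rw [← Subgroup.index_eq_card]; exact hk)
  haveI := hQ.isNilpotent
  set U := O.map f ⊔ commutator (X ⧸ R) with hU
  haveI : U.Normal := ⟨fun x hx g => by
    rw [show g * x * g⁻¹ = ⁅g, x⁆ * x by rw [commutatorElement_def]; group]
    exact mul_mem (Subgroup.mem_sup_right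
      (Subgroup.commutator_mem_commutator (Subgroup.mem_top g) (Subgroup.mem_top x))) hx⟩
  have h1 : Subgroup.normalClosure (O : Set X) ≤ U.comap f :=
    Subgroup.normalClosure_le_normal fun o ho => Subgroup.mem_sup_left ⟨o, ho, rfl⟩
  rw [hD] at h1
  have h2 : U = ⊤ := eq_top_iff.2 fun q _ => by
    obtain ⟨x, rfl⟩ := QuotientGroup.mk'_surjective R q
    exact h1 (Subgroup.mem_top x)
  have h3 : O.map f = ⊤ := frattini_nongenerating (eq_top_iff.2
    (h2.ge.trans (sup_le_sup_left Solv.commutator_le_frattini _)))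
  have h4 := congrArg (Subgroup.comap f) h3
  rw [Subgroup.comap_map_eq, hf, QuotientGroup.ker_mk', Subgroup.comap_top, sup_comm] at h4
  exact h4

theorem le_of_sup {X : Type*} [Group X] [Finite X] (O : Subgroup X) (hO : IsPGroup p ↥O)
    (K : Subgroup X) [K.Normal] (h : K ⊔ O = ⊤) : Cfsg.pResidual p X ≤ K := by
  have hQ : IsPGroup p (X ⧸ K) := by
    refine hO.of_surjective ((QuotientGroup.mk' K).comp O.subtype) fun q => ?_
    obtain ⟨x, rfl⟩ := QuotientGroup.mk'_surjective K q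
    obtain ⟨k, hk, o, ho, rfl⟩ := Subgroup.mem_sup_of_normal_left.1 (h ▸ Subgroup.mem_top x : x ∈ K ⊔ O)
    refine ⟨⟨o, ho⟩, ?_⟩
    show QuotientGroup.mk' K o = QuotientGroup.mk' K (k * o)
    rw [map_mul, show QuotientGroup.mk' K k = 1 from (QuotientGroup.eq_one_iff k).2 hk, one_mul]
  have := Solv.pResidual_le_ker_of_isPGroup hQ (QuotientGroup.mk' K)
  rwa [QuotientGroup.ker_mk'] at this

theorem conj_in (Q : Subgroup G) (hQp : IsPGroup p ↥Q) (hQ1 : Q ≠ ⊥)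
    (hwc : Cfsg.IsWeaklyClosedSubgroup p Q) (K : Subgroup G) (hQK : Q ≤ K)
    (hK : K ≤ Cfsg.weakClosure Q K) : K = ⨆ k : ↥K, Q.map (MulAut.conj (k : G)).toMonoidHom :=
  (le_antisymm hK (iSup_le fun g => g.2)).trans (Cfsg.Agent.S2840.result Q hQp hQ1 hwc K hQK _ rfl).1

/-- Everything about one factor. -/
theorem half (Q : Subgroup G) (hQp : IsPGroup p ↥Q) (hQ1 : Q ≠ ⊥)
    (hwc : Cfsg.IsWeaklyClosedSubgroup p Q) (Hc : Subgroup G) (hHc : Hc = Cfsg.weakClosure Q ⊤)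
    (H₁ H₂ : Subgroup G) (hn₁ : H₁ ≤ Hc ∧ Hc ≤ Subgroup.normalizer (H₁ : Set G))
    (hn₂ : H₂ ≤ Hc ∧ Hc ≤ Subgroup.normalizer (H₂ : Set G)) (hprod : H₁ ⊔ H₂ = Hc)
    (hcomm : ⁅H₁, H₂⁆ ≤ Subgroup.normalizer (Q : Set G)) (K₁ : Subgroup G)
    (hK₁ : K₁ = (Cfsg.pResidual p ↥(Cfsg.weakClosure Q (H₁ ⊔ Q))).map (Cfsg.weakClosure Q (H₁ ⊔ Q)).subtype) :
    (⁅K₁, Q⁆ = K₁ ∧ ⁅K₁, H₁⁆ = K₁ ∧ K₁ ≤ ⁅H₁, H₁⁆ ∧ Hc ≤ Subgroup.normalizer (K₁ : Set G)) ∧
      K₁ ≤ H₁ ∧ ⁅H₁, Q⁆ ≤ K₁ ⊔ Q ∧ ⁅⁅H₁, H₂⁆, Hc⁆ ≤ Cfsg.pCoreOf p Hc ∧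
      Q ≤ Hc ∧ Hc = ⨆ k : ↥Hc, Q.map (MulAut.conj (k : G)).toMonoidHom := by
  have hQHc : Q ≤ Hc := hHc ▸ Local.LargeSub.le_weakClosure le_top
  have hHcgen : Hc = ⨆ k : ↥Hc, Q.map (MulAut.conj (k : G)).toMonoidHom := by
    refine conj_in Q hQp hQ1 hwc Hc hQHc ?_
    conv_lhs => rw [hHc]
    exact iSup_le fun g => le_iSup (fun g : {g : G // Q.map (MulAut.conj g).toMonoidHom ≤ Hc} =>
      Q.map (MulAut.conj (g : G)).toMonoidHom) ⟨g.1, hHc ▸ le_iSup (fun g : {g : G //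
        Q.map (MulAut.conj g).toMonoidHom ≤ ⊤} => Q.map (MulAut.conj (g : G)).toMonoidHom) ⟨g.1, le_top⟩⟩
  have hQH₁ : Q ≤ Subgroup.normalizer (H₁ : Set G) := hQHc.trans hn₁.2
  set A := H₁ ⊔ Q with hA
  set W := Cfsg.weakClosure Q A with hW
  have hQW : Q ≤ W := Local.LargeSub.le_weakClosure le_sup_right
  have hWA : W ≤ A := Local.LargeSub.weakClosure_le Q A
  have hWgenA : W = ⨆ k : ↥A, Q.map (MulAut.conj (k : G)).toMonoidHom :=
    (Cfsg.Agent.S2840.result Q hQp hQ1 hwc A le_sup_right _ rfl).1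
  have hAW : A ≤ Subgroup.normalizer (W : Set G) := by
    intro a ha
    refine Local.FrakH.mem_normalizer_of_le ?_
    conv_lhs => rw [hWgenA]
    refine iSup_le fun k => ?_
    rw [← Subgroup.map_le_iff_le_comap, Local.WCB.map_conj_map, hWgenA]
    exact le_iSup (fun k : ↥A => Q.map (MulAut.conj (k : G)).toMonoidHom) ⟨a * k, mul_mem ha k.2⟩
  have hWgen : W = ⨆ k : ↥W, Q.map (MulAut.conj (k : G)).toMonoidHom := by
    refine conj_in Q hQp hQ1 hwc W hQW ?_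
    refine iSup_le fun g => le_iSup (fun g : {g : G // Q.map (MulAut.conj g).toMonoidHom ≤ W} =>
      Q.map (MulAut.conj (g : G)).toMonoidHom) ⟨g.1, ?_⟩
    exact le_iSup (fun g : {g : G // Q.map (MulAut.conj g).toMonoidHom ≤ A} =>
      Q.map (MulAut.conj (g : G)).toMonoidHom) g
  set Q' := Q.subgroupOf W with hQ'
  have hD : Subgroup.normalClosure (Q' : Set ↥W) = ⊤ := by
    set N := Subgroup.normalClosure (Q' : Set ↥W) with hN
    have h1 : W ≤ N.map W.subtype := by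
      conv_lhs => rw [hWgen]
      refine iSup_le fun k => ?_
      rintro _ ⟨q, hq, rfl⟩
      exact ⟨k * ⟨q, hQW hq⟩ * k⁻¹, (Subgroup.normalClosure_normal (s := (Q' : Set ↥W))).conj_mem _
        (Subgroup.le_normalClosure (show (⟨q, hQW hq⟩ : W) ∈ Q' from hq)) k, rfl⟩
    refine eq_top_iff.2 fun x _ => ?_
    obtain ⟨y, hy, hyx⟩ := h1 x.2
    rwa [← Subtype.ext hyx]
  set Rw := Cfsg.pResidual p ↥W with hRw
  have hgen : Rw ⊔ Q' = ⊤ := sup_eq_top Q' hD
  have hKeq : ⁅Rw, Q'⁆ = Rw := by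
    set K := ⁅Rw, Q'⁆ with hK
    haveI hKn : K.Normal := by
      rw [← Subgroup.normalizer_eq_top_iff, eq_top_iff, ← hgen]
      refine sup_le (Subgroup.normalizer_commutator_ge_left Rw Q') ?_
      exact Subgroup.normalizer_commutator_ge_right Rw Q'
    refine le_antisymm (Subgroup.commutator_le_left Rw Q') (le_of_sup Q' hQp.comap_subtype K ?_)
    haveI : (K ⊔ Q').Normal := by
      rw [← Subgroup.normalizer_eq_top_iff, eq_top_iff, ← hgen]
      refine sup_le (fun r hr => ?_) (fun o ho => ?_)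
      · refine Local.FrakH.mem_normalizer_of_le (sup_le (fun z hz => ?_) (fun z hz => ?_))
        · exact Subgroup.mem_sup_left (hKn.conj_mem z hz r)
        · show r * z * r⁻¹ ∈ K ⊔ Q'
          rw [show r * z * r⁻¹ = ⁅r, z⁆ * z by rw [commutatorElement_def]; group]
          exact mul_mem (Subgroup.mem_sup_left (Subgroup.commutator_mem_commutator hr hz))
            (Subgroup.mem_sup_right hz)
      · exact Subgroup.le_normalizer (Subgroup.mem_sup_right ho)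
    rw [eq_top_iff, ← hD]
    exact Subgroup.normalClosure_le_normal fun q hq => Subgroup.mem_sup_right hq
  have hR : K₁ = Rw.map W.subtype := hK₁
  have hRQ : ⁅K₁, Q⁆ = K₁ := by
    have h := congrArg (Subgroup.map W.subtype) hKeq
    rw [Subgroup.map_commutator, Subgroup.map_subgroupOf_eq_of_le hQW] at h
    rw [hR]; exact h
  have hRW : K₁ ≤ W := hR ▸ Subgroup.map_subtype_le _
  have hWK : W ≤ K₁ ⊔ Q := by
    have h := congrArg (Subgroup.map W.subtype) hgen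
    rw [Subgroup.map_sup, Subgroup.map_subgroupOf_eq_of_le hQW, ← MonoidHom.range_eq_map,
      Subgroup.range_subtype] at h
    rw [hR]; exact h.ge
  haveI := Solv.pResidual_characteristic p ↥W
  have hAR : A ≤ Subgroup.normalizer (K₁ : Set G) :=
    hR ▸ Struct.CoprimeMinimal.le_normalizer_map_char A W hAW Rw
  have hRH : K₁ ≤ H₁ := by
    haveI hn : ((H₁ ⊓ W).subgroupOf W).Normal :=
      Subgroup.normal_subgroupOf_of_le_normalizer (Solv.le_normalizer_inf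
        (hWA.trans (sup_le Subgroup.le_normalizer hQH₁)) Subgroup.le_normalizer)
    have hsup : (H₁ ⊓ W).subgroupOf W ⊔ Q' = ⊤ := by
      refine eq_top_iff.2 fun w _ => ?_
      have hw : (w : G) ∈ ((H₁ ⊔ Q : Subgroup G) : Set G) := hWA w.2
      rw [Subgroup.coe_mul_of_right_le_normalizer_left H₁ Q hQH₁] at hw
      obtain ⟨a, ha, b, hb, hab⟩ := Set.mem_mul.1 hw
      have haW : a ∈ W := by
        rw [show a = (w : G) * b⁻¹ from eq_mul_inv_of_mul_eq hab]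
        exact mul_mem w.2 (inv_mem (hQW hb))
      rw [show w = ⟨a, haW⟩ * ⟨b, hQW hb⟩ from Subtype.ext hab.symm]
      exact Subgroup.mul_mem_sup (show (⟨a, haW⟩ : W) ∈ (H₁ ⊓ W).subgroupOf W from ⟨ha, haW⟩) hb
    have h := Subgroup.map_mono (f := W.subtype) (le_of_sup Q' hQp.comap_subtype _ hsup)
    rw [Subgroup.map_subgroupOf_eq_of_le inf_le_right] at h
    exact hR ▸ h.trans inf_le_left
  have hH₁Q : ⁅H₁, Q⁆ ≤ K₁ ⊔ Q := by
    refine le_trans ?_ hWK
    rw [Subgroup.commutator_le]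
    intro h hh q hq
    have h1 : h * q * h⁻¹ ∈ W := (Subgroup.mem_normalizer_iff.1 (hAW (Subgroup.mem_sup_left hh)) q).1 (hQW hq)
    rw [commutatorElement_def]
    exact mul_mem h1 (inv_mem (hQW hq))
  set P0 := Cfsg.pCoreOf p Hc with hP0
  set Z := ⁅H₁, H₂⁆ with hZ
  have hZHc : Z ≤ Hc := (Subgroup.commutator_mono hn₁.1 hn₂.1).trans (Subgroup.commutator_le_self Hc)
  have hHcZ : Hc ≤ Subgroup.normalizer (Z : Set G) :=
    (le_inf hn₁.2 hn₂.2).trans (Solv.normalizer_le_normalizer_commutator H₁ H₂)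
  have hP0n : Hc ≤ Subgroup.normalizer (P0 : Set G) := Local.FrakH.le_normalizer_pCoreOf Hc
  -- `Z` is central modulo `O_p(Hc)`
  have hZc : ⁅Z, Hc⁆ ≤ P0 := by
    rw [Subgroup.commutator_comm, Subgroup.commutator_le]
    suffices key : ∀ x ∈ Hc, x ∈ Hc ∧ ∀ z ∈ Z, ⁅x, z⁆ ∈ P0 from fun x hx => (key x hx).2
    intro x hx
    have hx' : x ∈ ⨆ k : ↥Hc, Q.map (MulAut.conj (k : G)).toMonoidHom := hHcgen.le hx
    refine Subgroup.iSup_induction (C := fun x => x ∈ Hc ∧ ∀ z ∈ Z, ⁅x, z⁆ ∈ P0)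
      (fun k : ↥Hc => Q.map (MulAut.conj (k : G)).toMonoidHom) hx' ?_
      ⟨one_mem _, fun z _ => by rw [commutatorElement_one_left]; exact one_mem _⟩ ?_
    · intro k y hy
      set Qk := Q.map (MulAut.conj (k : G)).toMonoidHom with hQk
      have hQkHc : Qk ≤ Hc := by
        rintro _ ⟨q, hq, rfl⟩
        exact mul_mem (mul_mem k.2 (hQHc hq)) (inv_mem k.2)
      refine ⟨hQkHc hy, fun z hz => ?_⟩
      have hzn : ∀ z ∈ Z, z ∈ Subgroup.normalizer (Qk : Set G) := fun z hz => by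
        refine Local.WCB.mem_normalizer_of_map_conj_eq ?_
        rw [hQk, Local.WCB.map_conj_map, show z * (k : G) = k * ((k : G)⁻¹ * z * k) by group,
          ← Local.WCB.map_conj_map, Local.WCB.map_conj_eq_of_mem_normalizer
            (hcomm ((Subgroup.mem_normalizer_iff''.1 (hHcZ k.2) z).1 hz))]
      refine Local.FrakH.pCoreOf_le_of_normal hZHc hHcZ
        (Local.FrakH.le_pCoreOf ((hQp.map _).to_le inf_le_left) (inf_le_right : Qk ⊓ Z ≤ Z)
          (Solv.le_normalizer_inf hzn Subgroup.le_normalizer) (Subgroup.mem_inf.2 ⟨?_, ?_⟩))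
      · rw [commutatorElement_def, mul_assoc, mul_assoc, ← mul_assoc z]
        exact mul_mem hy ((Subgroup.mem_normalizer_iff.1 (hzn z hz) _).1 (inv_mem hy))
      · rw [commutatorElement_def]
        exact mul_mem ((Subgroup.mem_normalizer_iff.1 (hHcZ (hQkHc hy)) z).1 hz) (inv_mem hz)
    · intro a b ha hb
      refine ⟨mul_mem ha.1 hb.1, fun z hz => ?_⟩
      rw [show ⁅a * b, z⁆ = a * ⁅b, z⁆ * a⁻¹ * ⁅a, z⁆ by simp [commutatorElement_def, mul_assoc]]
      exact mul_mem ((Subgroup.mem_normalizer_iff.1 (hP0n ha.1) _).1 (hb.2 z hz)) (ha.2 z hz)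
  -- `[K₁, H₁] = K₁`
  set L := ⁅K₁, H₁⁆ with hL
  have hH₁R : H₁ ≤ Subgroup.normalizer (K₁ : Set G) := le_sup_left.trans hAR
  have hQR : Q ≤ Subgroup.normalizer (K₁ : Set G) := le_sup_right.trans hAR
  have hLR : L ≤ K₁ := Solv.commutator_normalizer_le H₁ K₁ hH₁R
  have hRL : K₁ ≤ Subgroup.normalizer (L : Set G) := Subgroup.normalizer_commutator_ge_left K₁ H₁
  have hQL : Q ≤ Subgroup.normalizer (L : Set G) :=
    (le_inf hQR hQH₁).trans (Solv.normalizer_le_normalizer_commutator K₁ H₁)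
  have hpel : ∀ x ∈ Q ⊓ K₁, x ∈ L := by
    intro x hx
    haveI : (L.subgroupOf K₁).Normal := Subgroup.normal_subgroupOf_of_le_normalizer hRL
    set f := QuotientGroup.mk' (L.subgroupOf K₁) with hf
    have hab : ∀ a b : ↥K₁, Commute (f a) (f b) := fun a b => by
      have h1 : f ⁅a, b⁆ = 1 := (QuotientGroup.eq_one_iff _).2
        (Subgroup.commutator_mem_commutator a.2 (hRH b.2))
      rw [map_commutatorElement, commutatorElement_eq_one_iff_mul_comm] at h1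
      exact h1
    have key : ∀ z ∈ Rw, ∀ hz : (z : G) ∈ K₁, (orderOf (f ⟨z, hz⟩)).Coprime p := by
      intro z hzR
      induction hzR using Subgroup.closure_induction with
      | mem w hw =>
        intro hz
        refine Nat.Coprime.coprime_dvd_left (orderOf_map_dvd f _) ?_
        rw [Subgroup.orderOf_mk, Subgroup.orderOf_coe]
        exact hw
      | one =>
        intro hz
        rw [show (⟨((1 : ↥W) : G), hz⟩ : ↥K₁) = 1 from Subtype.ext rfl, map_one, orderOf_one]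
        exact Nat.coprime_one_left p
      | mul a b ha hb iha ihb =>
        intro hz
        have ha' : (a : G) ∈ K₁ := hR.ge ⟨a, ha, rfl⟩
        have hb' : (b : G) ∈ K₁ := hR.ge ⟨b, hb, rfl⟩
        rw [show (⟨((a * b : ↥W) : G), hz⟩ : ↥K₁) = ⟨a, ha'⟩ * ⟨b, hb'⟩ from Subtype.ext rfl, map_mul]
        exact ((iha ha').mul_left (ihb hb')).coprime_dvd_left (hab _ _).orderOf_mul_dvd_mul_orderOf
      | inv a ha iha =>
        intro hz
        have ha' : (a : G) ∈ K₁ := hR.ge ⟨a, ha, rfl⟩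
        rw [show (⟨((a⁻¹ : ↥W) : G), hz⟩ : ↥K₁) = ⟨a, ha'⟩⁻¹ from Subtype.ext rfl, map_inv, orderOf_inv]
        exact iha ha'
    obtain ⟨y, hy, hyx⟩ := hR.le hx.2
    have hyK : (y : G) ∈ K₁ := hR.ge ⟨y, hy, rfl⟩
    have hco := key y hy hyK
    obtain ⟨k, hk⟩ := hQp ⟨x, hx.1⟩
    have h0 : orderOf (f ⟨y, hyK⟩) = 1 := by
      refine Nat.eq_one_of_dvd_coprimes (hco.pow_right k) dvd_rfl (orderOf_dvd_of_pow_eq_one ?_)
      have hk' : x ^ p ^ k = 1 := by
        have := congrArg Subtype.val hk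
        rw [SubmonoidClass.coe_pow] at this
        exact this
      rw [← map_pow, show (⟨y, hyK⟩ : ↥K₁) ^ p ^ k = 1 from Subtype.ext (by
        rw [SubmonoidClass.coe_pow, show (y : G) = x from hyx, hk', OneMemClass.coe_one]), map_one]
    have h2 := (QuotientGroup.eq_one_iff (N := L.subgroupOf K₁) _).1 (orderOf_eq_one_iff.1 h0)
    rw [← show (y : G) = x from hyx]
    exact h2
  have hRH₁ : L = K₁ := by
    refine le_antisymm hLR ?_
    set C := Z ⊓ K₁ with hC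
    have h1 : K₁ ≤ L ⊔ C := by
      conv_lhs => rw [← hRQ]
      rw [Subgroup.commutator_le]
      intro r hr q hq
      have hq' : q ∈ ((H₁ ⊔ H₂ : Subgroup G) : Set G) := hprod.ge (hQHc hq)
      rw [Subgroup.coe_mul_of_left_le_normalizer_right H₁ H₂ (hn₁.1.trans hn₂.2)] at hq'
      obtain ⟨a, ha, b, hb, rfl⟩ := Set.mem_mul.1 hq'
      rw [show ⁅r, a * b⁆ = ⁅r, a⁆ * (a * ⁅r, b⁆ * a⁻¹) by simp [commutatorElement_def, mul_assoc]]
      refine Subgroup.mul_mem_sup (Subgroup.commutator_mem_commutator hr ha) (Subgroup.mem_inf.2 ⟨?_, ?_⟩)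
      · exact (Subgroup.mem_normalizer_iff.1 (hHcZ (hn₁.1 ha)) _).1
          (Subgroup.commutator_mem_commutator (hRH hr) hb)
      · have h2 : ⁅r, a * b⁆ ∈ K₁ := hRQ.le (Subgroup.commutator_mem_commutator hr hq)
        rw [show ⁅r, a * b⁆ = ⁅r, a⁆ * (a * ⁅r, b⁆ * a⁻¹) by simp [commutatorElement_def, mul_assoc]] at h2
        have h3 := mul_mem (inv_mem (hLR (Subgroup.commutator_mem_commutator hr ha))) h2
        rwa [inv_mul_cancel_left] at h3
    conv_lhs => rw [← hRQ]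
    refine (Subgroup.commutator_mono h1 le_rfl).trans ?_
    rw [Subgroup.commutator_le]
    intro x hx q hq
    have hx' : x ∈ ((L ⊔ C : Subgroup G) : Set G) := hx
    rw [Subgroup.coe_mul_of_right_le_normalizer_left L C (inf_le_right.trans hRL)] at hx'
    obtain ⟨l, hl, c, hc, rfl⟩ := Set.mem_mul.1 hx'
    have hcq : ⁅c, q⁆ ∈ L := hpel _ (Subgroup.mem_inf.2 ⟨by
      rw [commutatorElement_def]
      exact mul_mem ((Subgroup.mem_normalizer_iff.1 (hcomm hc.1) q).1 hq) (inv_mem hq),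
      hRQ.le (Subgroup.commutator_mem_commutator hc.2 hq)⟩)
    have hlq : ⁅l, q⁆ ∈ L := by
      rw [commutatorElement_def, mul_assoc, mul_assoc, ← mul_assoc q]
      exact mul_mem hl ((Subgroup.mem_normalizer_iff.1 (hQL hq) _).1 (inv_mem hl))
    rw [show ⁅l * c, q⁆ = l * ⁅c, q⁆ * l⁻¹ * ⁅l, q⁆ by simp [commutatorElement_def, mul_assoc]]
    exact mul_mem (mul_mem (mul_mem hl hcq) (inv_mem hl)) hlq
  -- `Hc` normalizes `K₁`
  have hHcR : Hc ≤ Subgroup.normalizer (K₁ : Set G) := by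
    rw [← hprod]
    refine sup_le hH₁R fun h hh => ?_
    set T := K₁ ⊔ (P0 ⊓ Z) with hT
    have hZR : Z ≤ Subgroup.normalizer (K₁ : Set G) :=
      ((Solv.commutator_normalizer_le H₂ H₁ (hn₂.1.trans hn₁.2)).trans hH₁R)
    have hPZR : P0 ⊓ Z ≤ Subgroup.normalizer (K₁ : Set G) := inf_le_right.trans hZR
    have hconj : ∀ x ∈ K₁, h * x * h⁻¹ ∈ T := by
      have hle : L ≤ T.comap (MulAut.conj h).toMonoidHom := by
        rw [hL, Subgroup.commutator_le]
        intro a ha b hb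
        show h * ⁅a, b⁆ * h⁻¹ ∈ T
        have hz : ⁅h, a⁆ ∈ Z := by
          rw [hZ, Subgroup.commutator_comm]
          exact Subgroup.commutator_mem_commutator hh (hRH ha)
        have hb' : h * b * h⁻¹ ∈ H₁ := (Subgroup.mem_normalizer_iff.1 (hn₁.2 (hn₂.1 hh)) b).1 hb
        rw [show h * ⁅a, b⁆ * h⁻¹ = ⁅h, a⁆ * ⁅a, h * b * h⁻¹⁆ * ⁅h, a⁆⁻¹ * ⁅⁅h, a⁆, h * b * h⁻¹⁆ by
          simp [commutatorElement_def, mul_assoc]]
        refine mul_mem (Subgroup.mem_sup_left ((Subgroup.mem_normalizer_iff.1 (hZR hz) _).1 (hLR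
          (Subgroup.commutator_mem_commutator ha hb')))) (Subgroup.mem_sup_right (Subgroup.mem_inf.2
            ⟨hZc (Subgroup.commutator_mem_commutator hz (hn₁.1 hb')), ?_⟩))
        rw [commutatorElement_def ⁅h, a⁆, mul_assoc, mul_assoc, ← mul_assoc (h * b * h⁻¹)]
        exact mul_mem hz ((Subgroup.mem_normalizer_iff.1 (hHcZ (hn₁.1 hb')) _).1 (inv_mem hz))
      rw [hRH₁] at hle
      exact hle
    refine Local.FrakH.mem_normalizer_of_le ?_
    have hle : Rw ≤ ((K₁.comap (MulAut.conj h).toMonoidHom)).comap W.subtype := by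
      rw [hRw, Cfsg.pResidual, Subgroup.closure_le]
      intro x hx
      have hxR : (x : G) ∈ K₁ := hR.ge ⟨x, Solv.mem_pResidual hx, rfl⟩
      show h * (x : G) * h⁻¹ ∈ K₁
      have hxT : h * (x : G) * h⁻¹ ∈ ((K₁ ⊔ (P0 ⊓ Z) : Subgroup G) : Set G) := hconj _ hxR
      haveI : (K₁.subgroupOf T).Normal :=
        Subgroup.normal_subgroupOf_of_le_normalizer (sup_le Subgroup.le_normalizer hPZR)
      set f := QuotientGroup.mk' (K₁.subgroupOf T) with hf
      set x' : ↥T := ⟨_, hxT⟩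
      rw [Subgroup.coe_mul_of_right_le_normalizer_left K₁ (P0 ⊓ Z) hPZR] at hxT
      obtain ⟨a, ha, b, hb, hab⟩ := Set.mem_mul.1 hxT
      have hfx : f x' = f ⟨b, Subgroup.mem_sup_right hb⟩ := by
        rw [show x' = ⟨a, Subgroup.mem_sup_left ha⟩ * ⟨b, Subgroup.mem_sup_right hb⟩ from Subtype.ext hab.symm,
          map_mul, show f ⟨a, Subgroup.mem_sup_left ha⟩ = 1 from (QuotientGroup.eq_one_iff _).2 ha, one_mul]
      obtain ⟨k, hk⟩ := IsPGroup.iff_card.1 ((Local.FrakH.isPGroup_pCoreOf (p := p) Hc).to_le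
        (inf_le_left : P0 ⊓ Z ≤ P0))
      have h2 : orderOf (f x') = 1 := by
        refine Nat.eq_one_of_dvd_coprimes (Nat.Coprime.pow_right k (?_ : (orderOf x').Coprime p))
          (orderOf_map_dvd f x') ?_
        · rw [Subgroup.orderOf_mk]
          show (orderOf (MulAut.conj h (x : G))).Coprime p
          rw [MulEquiv.orderOf_eq, Subgroup.orderOf_coe]
          exact hx
        · rw [hfx]
          refine (orderOf_map_dvd f _).trans ?_
          rw [Subgroup.orderOf_mk, ← hk]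
          exact Subgroup.orderOf_dvd_natCard _ hb
      exact (QuotientGroup.eq_one_iff (N := K₁.subgroupOf T) x').1 (orderOf_eq_one_iff.1 h2)
    intro r hr
    obtain ⟨y, hy, rfl⟩ := hR.le hr
    exact hle hy
  exact ⟨⟨hRQ, hRH₁, hRH₁.ge.trans (Subgroup.commutator_mono hRH le_rfl), hHcR⟩, hRH, hH₁Q, hZc,
    hQHc, hHcgen⟩


/-- Let Q be a nontrivial p-subgroup of the finite group H that is a weakly closed subgroup, H° the weak closure of Q in H (generated by the conjugates of Q) and H_∘ = O^p(H°). Suppose H₁, H₂ are normal subgroups of H° with H° = H₁H₂ and [H₁, H₂] ≤ N_H(Q), and put Kᵢ = O^p of the weak closure of Q in HᵢQ. Then for i = 1, 2: Kᵢ = [Kᵢ, Q] = [Kᵢ, Hᵢ] ≤ Hᵢ′ and Kᵢ is normal in H°; H_∘ = K₁K₂; and [K₁, K₂] ≤ O_p(H°). -/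
theorem result {G : Type*} [Group G] [Finite G] {p : ℕ} [Fact p.Prime] (Q : Subgroup G) (hQp : IsPGroup p ↥Q) (hQ1 : Q ≠ ⊥) (hwc : Cfsg.IsWeaklyClosedSubgroup p Q) (Hc : Subgroup G) (hHc : Hc = Cfsg.weakClosure Q ⊤) (H₁ H₂ : Subgroup G) (hn₁ : H₁ ≤ Hc ∧ Hc ≤ Subgroup.normalizer ((H₁ : Subgroup G) : Set G)) (hn₂ : H₂ ≤ Hc ∧ Hc ≤ Subgroup.normalizer ((H₂ : Subgroup G) : Set G)) (hprod : H₁ ⊔ H₂ = Hc) (hcomm : ⁅H₁, H₂⁆ ≤ Subgroup.normalizer ((Q : Subgroup G) : Set G)) (K₁ K₂ : Subgroup G) (hK₁ : K₁ = ((Cfsg.pResidual p ↥(Cfsg.weakClosure Q (H₁ ⊔ Q))).map ((Cfsg.weakClosure Q (H₁ ⊔ Q))).subtype)) (hK₂ : K₂ = ((Cfsg.pResidual p ↥(Cfsg.weakClosure Q (H₂ ⊔ Q))).map ((Cfsg.weakClosure Q (H₂ ⊔ Q))).subtype)) : (⁅K₁, Q⁆ = K₁ ∧ ⁅K₁, H₁⁆ = K₁ ∧ K₁ ≤ ⁅H₁, H₁⁆ ∧ Hc ≤ Subgroup.normalizer ((K₁ : Subgroup G) : Set G)) ∧ (⁅K₂, Q⁆ = K₂ ∧ ⁅K₂, H₂⁆ = K₂ ∧ K₂ ≤ ⁅H₂, H₂⁆ ∧ Hc ≤ Subgroup.normalizer ((K₂ : Subgroup G) : Set G)) ∧ K₁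 ⊔ K₂ = ((Cfsg.pResidual p ↥Hc).map (Hc).subtype) ∧ ⁅K₁, K₂⁆ ≤ (Cfsg.pCoreOf p Hc) := by
  obtain ⟨hA, hA1, hA2, hZc, hQHc, hgen⟩ := half Q hQp hQ1 hwc Hc hHc H₁ H₂ hn₁ hn₂ hprod hcomm K₁ hK₁
  obtain ⟨hB, hB1, hB2, -, -, -⟩ := half Q hQp hQ1 hwc Hc hHc H₂ H₁ hn₂ hn₁ (by rwa [sup_comm])
    (by rwa [Subgroup.commutator_comm]) K₂ hK₂
  set P0 := Cfsg.pCoreOf p Hc with hP0
  refine ⟨hA, hB, ?_, ?_⟩
  · have hK : K₁ ⊔ K₂ ≤ Hc := sup_le (hA1.trans hn₁.1) (hB1.trans hn₂.1)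
    set K := K₁ ⊔ K₂ with hKdef
    have hKn : Hc ≤ Subgroup.normalizer (K : Set G) := fun a ha =>
      Local.FrakH.mem_normalizer_of_le (sup_le
        (fun z hz => Subgroup.mem_sup_left ((Subgroup.mem_normalizer_iff.1 (hA.2.2.2 ha) z).1 hz))
        (fun z hz => Subgroup.mem_sup_right ((Subgroup.mem_normalizer_iff.1 (hB.2.2.2 ha) z).1 hz)))
    haveI : (K.subgroupOf Hc).Normal := Subgroup.normal_subgroupOf_of_le_normalizer hKn
    refine le_antisymm (sup_le ?_ ?_) ?_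
    · rw [hK₁, Cfsg.pResidual, MonoidHom.map_closure, Subgroup.closure_le]
      rintro _ ⟨x, hx, rfl⟩
      have hxHc : (x : G) ∈ Hc := hn₁.1 (hA1 (hK₁ ▸ ⟨x, Solv.mem_pResidual hx, rfl⟩))
      refine ⟨⟨x, hxHc⟩, Solv.mem_pResidual ?_, rfl⟩
      rw [Subgroup.orderOf_mk, Subgroup.orderOf_coe]
      exact hx
    · rw [hK₂, Cfsg.pResidual, MonoidHom.map_closure, Subgroup.closure_le]
      rintro _ ⟨x, hx, rfl⟩
      have hxHc : (x : G) ∈ Hc := hn₂.1 (hB1 (hK₂ ▸ ⟨x, Solv.mem_pResidual hx, rfl⟩))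
      refine ⟨⟨x, hxHc⟩, Solv.mem_pResidual ?_, rfl⟩
      rw [Subgroup.orderOf_mk, Subgroup.orderOf_coe]
      exact hx
    · have hKQ : Hc ≤ K ⊔ Q := by
        have hn : Hc ≤ Subgroup.normalizer ((K ⊔ Q : Subgroup G) : Set G) := by
          rw [← hprod]
          have aux : ∀ J : Subgroup G, J ≤ Hc → ⁅J, Q⁆ ≤ K ⊔ Q →
              J ≤ Subgroup.normalizer ((K ⊔ Q : Subgroup G) : Set G) := by
            intro J hJ hJQ a ha
            refine Local.FrakH.mem_normalizer_of_le (sup_le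
              (fun z hz => Subgroup.mem_sup_left ((Subgroup.mem_normalizer_iff.1 (hKn (hJ ha)) z).1 hz))
              (fun z hz => ?_))
            show a * z * a⁻¹ ∈ K ⊔ Q
            rw [show a * z * a⁻¹ = ⁅a, z⁆ * z by rw [commutatorElement_def]; group]
            exact mul_mem (hJQ (Subgroup.commutator_mem_commutator ha hz)) (Subgroup.mem_sup_right hz)
          exact sup_le (aux H₁ hn₁.1 (hA2.trans (sup_le_sup_right le_sup_left Q)))
            (aux H₂ hn₂.1 (hB2.trans (sup_le_sup_right le_sup_right Q)))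
        refine hgen.le.trans (iSup_le fun k => ?_)
        rintro _ ⟨q, hq, rfl⟩
        exact (Subgroup.mem_normalizer_iff.1 (hn k.2) q).1 (Subgroup.mem_sup_right hq)
      have h := Subgroup.map_mono (f := Hc.subtype) (le_of_sup (p := p) (Q.subgroupOf Hc) hQp.comap_subtype
        (K.subgroupOf Hc) (by
          refine eq_top_iff.2 fun w _ => ?_
          rw [← Subgroup.subgroupOf_sup hK hQHc]
          exact hKQ w.2))
      rwa [Subgroup.map_subgroupOf_eq_of_le hK] at h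
  · have hn : ∀ J : Subgroup G, J ≤ Hc → J ≤ Subgroup.normalizer (P0 : Set G) := fun J hJ =>
      hJ.trans (Local.FrakH.le_normalizer_pCoreOf Hc)
    rw [← hA.2.1]
    refine Local.FrakH.rotate_le (hn _ (hA1.trans hn₁.1)) (hn _ hn₁.1) (hn _ (hB1.trans hn₂.1)) ?_ ?_
    · exact (Subgroup.commutator_mono (Subgroup.commutator_mono le_rfl hB1) (hA1.trans hn₁.1)).trans hZc
    · refine (Subgroup.commutator_mono ?_ hn₁.1).trans hZc
      rw [Subgroup.commutator_comm]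
      exact Subgroup.commutator_mono hA1 hB1

end Cfsg.Agent.S2859
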