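import Cfsg.Statements.S2860
import Cfsg.Agent.Lib.Local.FrakH
import Cfsg.Agent.Lib.Local.FStarAction
import Cfsg.Agent.Lib.Local.PLayer
import Cfsg.Agent.Lib.Fusion.FactorHyperfocal
import Cfsg.Agent.S2840
import Cfsg.Agent.S2843
-- import your own Cfsg.Agent.* helpers here

set_option autoImplicit false
open Cfsg

namespace Cfsg.Agent.S2860
open Cfsg.Agent
open scoped commutatorElement

variable {G : Type*} [Group G] [Finite G] {p : ℕ} [Fact p.Prime]

theorem sup_eq_top {X : Type*} [Group X] [Finite X] (O : Subgroup X)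
    (hD : Subgroup.normalClosure (O : Set X) = ⊤) : Cfsg.pResidual p X ⊔ O = ⊤ := by
  set R := Cfsg.pResidual p X with hR
  set f := QuotientGroup.mk' R with hf
  have hQ : IsPGroup p (X ⧸ R) := by
    obtain ⟨k, hk⟩ := Solv.exists_pResidual_index (p := p) (G := X)
    exact IsPGroup.of_card (n := k) (by rw [← Subgroup.index_eq_card]; exact hk)
  haveI := hQ.isNilpotent
  set U := O.map f ⊔ commutator (X ⧸ R) with hU
  haveI : U.Normal := ⟨fun x hx g => by
    rw [show g * x * g⁻¹ = ⁅g, x⁆ * x by rw [commutatorElement_def]; group]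
    exact mul_mem (Subgroup.mem_sup_right
      (Subgroup.commutator_mem_commutator (Subgroup.mem_top g) (Subgroup.mem_top x))) hx⟩
  have h1 : Subgroup.normalClosure (O : Set X) ≤ U.comap f :=
    Subgroup.normalClosure_le_normal fun o ho => Subgroup.mem_sup_left ⟨o, ho, rfl⟩
  rw [hD] at h1
  have h2 : U = ⊤ := eq_top_iff.2 fun q _ => by
    obtain ⟨x, rfl⟩ := QuotientGroup.mk'_surjective R q
    exact h1 (Subgroup.mem_top x)
  have h3 : O.map f = ⊤ := frattini_nongenerating (eq_top_iff.2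
    (h2.ge.trans (sup_le_sup_left Solv.commutator_le_frattini _)))
  have h4 := congrArg (Subgroup.comap f) h3
  rw [Subgroup.comap_map_eq, hf, QuotientGroup.ker_mk', Subgroup.comap_top, sup_comm] at h4
  exact h4

theorem le_of_sup {X : Type*} [Group X] [Finite X] (O : Subgroup X) (hO : IsPGroup p ↥O)
    (K : Subgroup X) [K.Normal] (h : K ⊔ O = ⊤) : Cfsg.pResidual p X ≤ K := by
  have hQ : IsPGroup p (X ⧸ K) := by
    refine hO.of_surjective ((QuotientGroup.mk' K).comp O.subtype) fun q => ?_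
    obtain ⟨x, rfl⟩ := QuotientGroup.mk'_surjective K q
    obtain ⟨k, hk, o, ho, rfl⟩ := Subgroup.mem_sup_of_normal_left.1 (h ▸ Subgroup.mem_top x : x ∈ K ⊔ O)
    refine ⟨⟨o, ho⟩, ?_⟩
    show QuotientGroup.mk' K o = QuotientGroup.mk' K (k * o)
    rw [map_mul, show QuotientGroup.mk' K k = 1 from (QuotientGroup.eq_one_iff k).2 hk, one_mul]
  have := Solv.pResidual_le_ker_of_isPGroup hQ (QuotientGroup.mk' K)
  rwa [QuotientGroup.ker_mk'] at this

/-- A `p`-group centralizing `O^p(X)` is trivial when `O_p(X) = 1`. -/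
theorem eq_bot_of_centralize {X : Type*} [Group X] [Finite X] (hO : Cfsg.pCore p X = ⊥)
    {Y : Subgroup X} (hY : IsPGroup p ↥Y)
    (h : Y ≤ Subgroup.centralizer (Cfsg.pResidual p X : Set X)) : Y = ⊥ := by
  set R := Cfsg.pResidual p X with hR
  set C := Subgroup.centralizer (R : Set X) with hC
  haveI : C.Normal := Subgroup.normal_centralizer
  have hQ : IsPGroup p (X ⧸ R) := by
    obtain ⟨k, hk⟩ := Solv.exists_pResidual_index (p := p) (G := X)
    exact IsPGroup.of_card (n := k) (by rw [← Subgroup.index_eq_card]; exact hk)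
  haveI := hQ.isNilpotent
  have hn : Group.IsNilpotent ↥C :=
    Subgroup.isNilpotent_of_ker_le_center ((QuotientGroup.mk' R).comp C.subtype) (fun x hx => by
      rw [MonoidHom.mem_ker, MonoidHom.comp_apply] at hx
      have hxR : (x : X) ∈ R := (QuotientGroup.eq_one_iff _).1 hx
      exact Subgroup.mem_center_iff.2 fun g =>
        Subtype.ext (Subgroup.mem_centralizer_iff.1 g.2 (x : X) hxR).symm)
  obtain ⟨k, hk⟩ := IsPGroup.iff_card.1 hY
  refine Subgroup.card_eq_one.1 (Nat.eq_one_of_dvd_coprimes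
    ((Local.FStarAction.fitting_coprime hO).pow_right k)
    (Subgroup.card_dvd_of_le (h.trans (Solv.le_fittingSubgroup (N := C) hn))) hk.dvd)



/-- Let Q be a nontrivial large p-subgroup of the finite group H, U a nontrivial elementary abelian p-subgroup of H, and Q ≤ E ≤ N_H(U) with Q not normal in E. Suppose O_p(E/C_E(U)) = 1 and O^p(E)·C_E(U)/C_E(U) is quasisimple. Let E° be the weak closure of Q in E (generated by the conjugates of Q inside E) and E_∘ = O^p(E°). Then O^p(E)·C_E(U) = E_∘·C_E(U); E_∘ is perfect and equals O^p(E_∘); E_∘/C_{E_∘}(U) and E_∘/O_p(E_∘) are quasisimple; and E_∘ = [E_∘, Y] for every p-subgroup Y of E not centralizing U. -/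
theorem result {G : Type*} [Group G] [Finite G] {p : ℕ} [Fact p.Prime] (Q : Subgroup G) (hQp : IsPGroup p ↥Q) (hQ1 : Q ≠ ⊥) (hQ : Cfsg.IsLarge Q) (U : Subgroup G) (hU : Cfsg.IsElementaryAbelian p U) (hU1 : U ≠ ⊥) (E : Subgroup G) (hQE : Q ≤ E) (hEU : E ≤ Subgroup.normalizer ((U : Subgroup G) : Set G)) (hQn : ¬ E ≤ Subgroup.normalizer ((Q : Subgroup G) : Set G)) [hn : ((Subgroup.centralizer ((U : Subgroup G) : Set G)).subgroupOf E).Normal] (hred : Cfsg.pCore p (↥E ⧸ (Subgroup.centralizer ((U : Subgroup G) : Set G)).subgroupOf E) = ⊥) (hqs : Cfsg.IsQuasisimple ↥(((Cfsg.pResidual p ↥E) ⊔ (Subgroup.centralizer ((U : Subgroup G) : Set G)).subgroupOf E).map (QuotientGroup.mk' ((Subgroup.centralizer ((U : Subgroup G) : Set G)).subgroupOf E)))) (Er : Subgroup G) (hEr : Er = ((Cfsg.pResidual p ↥(Cfsg.weakClosure Q E)).map ((Cfsg.weakClosure Q E)).subtype)) [hn2 : ((Subgroup.centralizer ((U : Subgroup G) : Set G)).subgroupOf Er).Normal] : ((Cfsg.pResidual p ↥E).map (E).subtype) ⊔ (E ⊓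 Subgroup.centralizer ((U : Subgroup G) : Set G)) = Er ⊔ (E ⊓ Subgroup.centralizer ((U : Subgroup G) : Set G)) ∧ ⁅Er, Er⁆ = Er ∧ ((Cfsg.pResidual p ↥Er).map (Er).subtype) = Er ∧ Cfsg.IsQuasisimple (↥Er ⧸ (Subgroup.centralizer ((U : Subgroup G) : Set G)).subgroupOf Er) ∧ Cfsg.IsQuasisimple (↥Er ⧸ Cfsg.pCore p ↥Er) ∧ ∀ Y : Subgroup G, Y ≤ E → IsPGroup p ↥Y → ¬ Y ≤ Subgroup.centralizer ((U : Subgroup G) : Set G) → ⁅Er, Y⁆ = Er := by
  set C := Subgroup.centralizer (U : Set G) with hCdef
  set W := Cfsg.weakClosure Q E with hWdef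
  have hwc := Local.LargeSub.isWeaklyClosed_of_isLarge hQp hQ1 hQ
  have hUp : IsPGroup p ↥U := Solv.isPGroup_of_elemAbelian hU
  have hWE : W ≤ E := Local.LargeSub.weakClosure_le Q E
  have hQW : Q ≤ W := Local.LargeSub.le_weakClosure hQE
  have hWgen : W = ⨆ k : ↥E, Q.map (MulAut.conj (k : G)).toMonoidHom :=
    (Cfsg.Agent.S2840.result Q hQp hQ1 hwc E hQE _ rfl).1
  have hEW : E ≤ Subgroup.normalizer (W : Set G) := by
    intro a ha
    refine Local.FrakH.mem_normalizer_of_le ?_
    conv_lhs => rw [hWgen]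
    refine iSup_le fun k => ?_
    rw [← Subgroup.map_le_iff_le_comap, Local.WCB.map_conj_map, hWgen]
    exact le_iSup (fun k : ↥E => Q.map (MulAut.conj (k : G)).toMonoidHom) ⟨a * k, mul_mem ha k.2⟩
  obtain ⟨-, hWC, -⟩ := Cfsg.Agent.S2843.result Q hQp hQ1 hQ E hQE U hUp hU1 hEU
  have hCQ : C ≤ Subgroup.normalizer (Q : Set G) := by
    obtain ⟨⟨y, hy⟩, hy1⟩ := Subgroup.ne_bot_iff_exists_ne_one.1
      (Local.LargeSub.fixed_ne_bot hUp hQp (hQE.trans hEU) hU1)
    refine le_trans ?_ (Local.LargeSub.centralizer_le_normalizer_large hQ (Subgroup.mem_inf.1 hy).2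
      (fun e => hy1 (Subtype.ext e)))
    exact Subgroup.centralizer_le (Set.singleton_subset_iff.2 (Subgroup.mem_inf.1 hy).1)
  -- the quotient of `E`
  set f := QuotientGroup.mk' (C.subgroupOf E) with hf
  set Kb := Cfsg.pResidual p (↥E ⧸ C.subgroupOf E) with hKb
  have hKmap : (Cfsg.pResidual p ↥E).map f = Kb :=
    Fusion.map_pResidual_eq (QuotientGroup.mk'_surjective _)
  have hKeq : (Cfsg.pResidual p ↥E ⊔ C.subgroupOf E).map f = Kb := by
    rw [Subgroup.map_sup, hKmap, show (C.subgroupOf E).map f = ⊥ from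
      (Subgroup.map_eq_bot_iff _).2 (QuotientGroup.ker_mk' _).ge, sup_bot_eq]
  have hKq : Cfsg.IsQuasisimple ↥Kb := Local.qs_congr hqs (MulEquiv.subgroupCongr hKeq)
  have hKcomp : Cfsg.IsComponent Kb :=
    ⟨(inferInstance : Kb.Normal).isSubnormal, hKq⟩
  -- `Q` does not centralize `U`
  have hQC : ¬ (Q.subgroupOf E).map f = ⊥ := by
    intro h
    have hQC : Q ≤ C := fun q hq => (QuotientGroup.eq_one_iff (N := C.subgroupOf E) ⟨q, hQE hq⟩).1
      (Subgroup.mem_bot.1 (h ▸ ⟨⟨q, hQE hq⟩, hq, rfl⟩))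
    refine hQn fun e he => Local.WCB.mem_normalizer_of_map_conj_eq ?_
    have hQe : Q.map (MulAut.conj e).toMonoidHom ≤ Subgroup.normalizer (Q : Set G) := by
      rintro _ ⟨q, hq, rfl⟩
      refine hCQ ?_
      exact (Subgroup.mem_normalizer_iff.1
        (Local.LargeSub.le_normalizer_centralizer hEU he) q).1 (hQC hq)
    have h2 := Local.WCB.eq_of_isWeaklyClosedSubgroup hwc (hQp.to_sup_of_normal_left' (hQp.map _) hQe)
      (a := e) (b := 1) le_sup_right (by rw [Local.WCB.map_conj_one]; exact le_sup_left)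
    rwa [Local.WCB.map_conj_one] at h2
  set ι := Subgroup.inclusion hWE with hι
  set Rw := Cfsg.pResidual p ↥W with hRw
  set ErE := Rw.map ι with hErE
  have hErEmap : ErE.map E.subtype = Er := by
    rw [hEr, hErE, Subgroup.map_map]; rfl
  haveI hErn : ErE.Normal := by
    rw [← Subgroup.normalizer_eq_top_iff, eq_top_iff]
    intro a _
    haveI := Solv.pResidual_characteristic p ↥W
    have hn := Struct.CoprimeMinimal.le_normalizer_map_char E W hEW Rw a.2
    have e : Rw.map W.subtype = Er := hEr.symm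
    rw [e] at hn
    refine Local.FrakH.mem_normalizer_of_le fun x hx => ?_
    obtain ⟨y, hy, hye⟩ := hErEmap.ge ((Subgroup.mem_normalizer_iff.1 hn (x : G)).1 (hErEmap.le ⟨x, hx, rfl⟩))
    show a * x * a⁻¹ ∈ ErE
    rwa [show a * x * a⁻¹ = y from Subtype.ext hye.symm]
  -- the image of `Er`
  have himg : ErE.map f = Kb := by
    refine le_antisymm ?_ ?_
    · rw [hErE, Subgroup.map_map]
      exact Fusion.map_pResidual_le (f.comp ι)
    · set g := f.comp ι with hg
      haveI hWn : g.range.Normal := by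
        rw [hg, MonoidHom.range_comp]
        haveI : (W.subgroupOf E).Normal := Subgroup.normal_subgroupOf_of_le_normalizer hEW
        rw [hι, Subgroup.inclusion_range]
        exact Subgroup.Normal.map inferInstance f (QuotientGroup.mk'_surjective _)
      rcases Local.component_le_or_commutator_eq_bot hKcomp hWn.isSubnormal with h | h
      · rw [hKb, Cfsg.pResidual, Subgroup.closure_le]
        intro x hx
        have hxr : x ∈ g.range := h (Solv.mem_pResidual hx)
        have h2 : (⟨x, hxr⟩ : g.range) ∈ (Cfsg.pResidual p ↥W).map g.rangeRestrict := by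
          rw [Fusion.map_pResidual_eq g.rangeRestrict_surjective]
          refine Solv.mem_pResidual ?_
          rw [Subgroup.orderOf_mk]
          exact hx
        obtain ⟨w, hw, hwx⟩ := h2
        exact ⟨ι w, ⟨w, hw, rfl⟩, congrArg Subtype.val hwx⟩
      · exfalso
        refine hQC (eq_bot_of_centralize hred ((hQp.comap_subtype (K := E)).map f) ?_)
        rw [Subgroup.le_centralizer_iff]
        refine (Subgroup.commutator_eq_bot_iff_le_centralizer.1 h).trans (Subgroup.centralizer_le ?_)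
        rintro _ ⟨q, hq, rfl⟩
        exact ⟨⟨q, hQW hq⟩, rfl⟩
  have hsplit : ∀ T : Subgroup ↥E, T ≤ ErE → T.map f = Kb → ErE ≤ T ⊔ (ErE ⊓ C.subgroupOf E) := by
    intro T hT hTf x hx
    obtain ⟨t, ht, htx⟩ := hTf.ge (himg.le ⟨x, hx, rfl⟩)
    rw [show x = t * (t⁻¹ * x) by group]
    refine Subgroup.mul_mem_sup ht (Subgroup.mem_inf.2 ⟨mul_mem (inv_mem (hT ht)) hx, ?_⟩)
    refine (QuotientGroup.eq_one_iff _).1 ?_
    show f (t⁻¹ * x) = 1
    rw [map_mul, map_inv, htx, inv_mul_cancel]
  set P0 : Subgroup ↥E := ErE ⊓ (Cfsg.pCoreOf p W).subgroupOf E with hP0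
  have hP0p : IsPGroup p ↥P0 :=
    ((Local.FrakH.isPGroup_pCoreOf W).comap_subtype (K := E)).to_le inf_le_right
  -- commutators with `Er ∩ C`
  have hcC : ∀ c ∈ ErE ⊓ C.subgroupOf E, ∀ w : ↥E, (w : G) ∈ W → ⁅c, w⁆ ∈ P0 := by
    intro c hc w hw
    refine Subgroup.mem_inf.2 ⟨?_, ?_⟩
    · rw [commutatorElement_def, mul_assoc, mul_assoc, ← mul_assoc w]
      exact mul_mem hc.1 (hErn.conj_mem _ (inv_mem hc.1) w)
    · rw [Subgroup.mem_subgroupOf]
      refine hWC ?_
      rw [Subgroup.commutator_comm]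
      exact Subgroup.commutator_mem_commutator hc.2 hw
  have hErW : ∀ x ∈ ErE, ((x : ↥E) : G) ∈ W := by
    rintro _ ⟨w, hw, rfl⟩; exact w.2
  set eRw : ↥Rw ≃* ↥ErE := Rw.equivMapOfInjective ι (Subgroup.inclusion_injective hWE) with heRw
  have hRtop : Cfsg.pResidual p ↥ErE = ⊤ := by
    rw [← Fusion.map_pResidual_eq (p := p) (f := eRw.toMonoidHom) eRw.surjective,
      Solv.pResidual_eq_top_of_map, Subgroup.map_top_of_surjective eRw.toMonoidHom eRw.surjective]
  have hfinal : ∀ T : Subgroup ↥E, T ≤ ErE → ErE ≤ Subgroup.normalizer (T : Set ↥E) →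
      ErE ≤ T ⊔ P0 → T = ErE := by
    intro T hT hTn hle
    refine le_antisymm hT ?_
    haveI : (T.subgroupOf ErE).Normal := Subgroup.normal_subgroupOf_of_le_normalizer hTn
    have hsup : T.subgroupOf ErE ⊔ P0.subgroupOf ErE = ⊤ := by
      rw [← Subgroup.subgroupOf_sup hT inf_le_left]
      exact Subgroup.subgroupOf_eq_top.2 hle
    have h := le_of_sup (p := p) (P0.subgroupOf ErE) hP0p.comap_subtype (T.subgroupOf ErE) hsup
    rw [hRtop, top_le_iff, Subgroup.subgroupOf_eq_top] at h
    exact h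
  -- `Er = [Er, Q]`
  set QE := Q.subgroupOf E with hQEdef
  have hErQ : ErE ≤ ⁅ErE, QE⁆ := by
    set Q' := Q.subgroupOf W with hQ'
    have hD : Subgroup.normalClosure (Q' : Set ↥W) = ⊤ := by
      set N := Subgroup.normalClosure (Q' : Set ↥W) with hN
      have hWgen' : W ≤ ⨆ k : ↥W, Q.map (MulAut.conj (k : G)).toMonoidHom := by
        refine le_of_le_of_eq ?_ (Cfsg.Agent.S2840.result Q hQp hQ1 hwc W hQW _ rfl).1
        refine iSup_le fun g => le_iSup (fun g : {g : G // Q.map (MulAut.conj g).toMonoidHom ≤ W} =>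
          Q.map (MulAut.conj (g : G)).toMonoidHom) ⟨g.1, ?_⟩
        exact le_iSup (fun g : {g : G // Q.map (MulAut.conj g).toMonoidHom ≤ E} =>
          Q.map (MulAut.conj (g : G)).toMonoidHom) g
      have h1 : W ≤ N.map W.subtype := by
        refine hWgen'.trans (iSup_le fun k => ?_)
        rintro _ ⟨q, hq, rfl⟩
        exact ⟨k * ⟨q, hQW hq⟩ * k⁻¹, (Subgroup.normalClosure_normal (s := (Q' : Set ↥W))).conj_mem _
          (Subgroup.le_normalClosure (show (⟨q, hQW hq⟩ : W) ∈ Q' from hq)) k, rfl⟩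
      refine eq_top_iff.2 fun x _ => ?_
      obtain ⟨y, hy, hyx⟩ := h1 x.2
      rwa [← Subtype.ext hyx]
    have hgen : Rw ⊔ Q' = ⊤ := sup_eq_top Q' hD
    set K := ⁅Rw, Q'⁆ with hK
    haveI hKn : K.Normal := by
      rw [← Subgroup.normalizer_eq_top_iff, eq_top_iff, ← hgen]
      exact sup_le (Subgroup.normalizer_commutator_ge_left Rw Q')
        (Subgroup.normalizer_commutator_ge_right Rw Q')
    haveI : (K ⊔ Q').Normal := by
      rw [← Subgroup.normalizer_eq_top_iff, eq_top_iff, ← hgen]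
      refine sup_le (fun r hr => ?_) (fun o ho => ?_)
      · refine Local.FrakH.mem_normalizer_of_le (sup_le (fun z hz => ?_) (fun z hz => ?_))
        · exact Subgroup.mem_sup_left (hKn.conj_mem z hz r)
        · show r * z * r⁻¹ ∈ K ⊔ Q'
          rw [show r * z * r⁻¹ = ⁅r, z⁆ * z by rw [commutatorElement_def]; group]
          exact mul_mem (Subgroup.mem_sup_left (Subgroup.commutator_mem_commutator hr hz))
            (Subgroup.mem_sup_right hz)
      · exact Subgroup.le_normalizer (Subgroup.mem_sup_right ho)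
    have h2 : Rw ≤ K := by
      refine le_of_sup Q' hQp.comap_subtype K ?_
      rw [eq_top_iff, ← hD]
      exact Subgroup.normalClosure_le_normal fun q hq => Subgroup.mem_sup_right hq
    refine (Subgroup.map_mono (f := ι) h2).trans ?_
    rw [hK, Subgroup.map_commutator]
    exact Subgroup.commutator_mono le_rfl (by rintro _ ⟨q, hq, rfl⟩; exact hq)
  set D := ⁅ErE, ErE⁆ with hDdef
  haveI hDn : D.Normal := by rw [hDdef]; infer_instance
  have hperf : D = ErE := by
    refine hfinal D (Subgroup.commutator_le_self ErE) (by rw [Subgroup.normalizer_eq_top]; exact le_top) ?_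
    have hDf : D.map f = Kb := by
      rw [hDdef, Subgroup.map_commutator, himg, Local.component_eq_commutator hKcomp]
    have h1 := hsplit D (Subgroup.commutator_le_self ErE) hDf
    refine hErQ.trans ((Subgroup.commutator_mono h1 le_rfl).trans ?_)
    rw [Subgroup.commutator_le]
    intro x hx q hq
    obtain ⟨d, hd, c, hc, rfl⟩ := Subgroup.mem_sup_of_normal_left.1 hx
    rw [show ⁅d * c, q⁆ = d * ⁅c, q⁆ * d⁻¹ * ⁅d, q⁆ by simp [commutatorElement_def, mul_assoc]]
    refine mul_mem (mul_mem (mul_mem (Subgroup.mem_sup_left hd)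
      (Subgroup.mem_sup_right (hcC c hc q (hQW hq)))) (inv_mem (Subgroup.mem_sup_left hd)))
      (Subgroup.mem_sup_left ?_)
    rw [commutatorElement_def, mul_assoc, mul_assoc, ← mul_assoc q]
    exact mul_mem hd (hDn.conj_mem _ (inv_mem hd) q)
  have hperfG : ⁅Er, Er⁆ = Er := by
    rw [← hErEmap, ← Subgroup.map_commutator, ← hDdef, hperf]
  have hresG : (Cfsg.pResidual p ↥Er).map Er.subtype = Er := by
    have e : ↥ErE ≃* ↥Er :=
      (ErE.equivMapOfInjective E.subtype E.subtype_injective).trans (MulEquiv.subgroupCongr hErEmap)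
    rw [← Fusion.map_pResidual_eq (p := p) (f := e.toMonoidHom) e.surjective, hRtop,
      Subgroup.map_top_of_surjective e.toMonoidHom e.surjective, ← MonoidHom.range_eq_map,
      Subgroup.range_subtype]
  have hErE' : Er ≤ E := hErEmap ▸ Subgroup.map_subtype_le _
  -- `Er / C_Er(U)`
  set h : ↥Er →* ↥E ⧸ C.subgroupOf E := f.comp (Subgroup.inclusion hErE') with hh
  have hrange : h.range = Kb := by
    rw [← himg, hh, MonoidHom.range_comp, Subgroup.inclusion_range]
    congr 1
    rw [← hErEmap]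
    exact Subgroup.comap_map_eq_self_of_injective E.subtype_injective ErE
  have hker : h.ker = C.subgroupOf Er := by
    ext x
    rw [MonoidHom.mem_ker, hh, MonoidHom.comp_apply, hf, QuotientGroup.mk'_apply, QuotientGroup.eq_one_iff]
    rfl
  have hq4 : Cfsg.IsQuasisimple (↥Er ⧸ C.subgroupOf Er) :=
    Local.qs_congr hKq (((MulEquiv.subgroupCongr hrange).symm.trans
      (QuotientGroup.quotientKerEquivRange h).symm).trans (QuotientGroup.quotientMulEquivOfEq hker))
  -- `Er / O_p(Er)`
  have hq5 : Cfsg.IsQuasisimple (↥Er ⧸ Cfsg.pCore p ↥Er) := by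
    set P := Cfsg.pCore p ↥Er with hP
    have hPC : P ≤ C.subgroupOf Er := by
      rw [← hker]
      intro x hx
      have hsub : ((P.map h.rangeRestrict).map h.range.subtype).IsSubnormal := by
        haveI : (P.map h.rangeRestrict).Normal :=
          Subgroup.Normal.map inferInstance _ h.rangeRestrict_surjective
        haveI : h.range.Normal := by rw [hrange]; infer_instance
        exact (inferInstance : (P.map h.rangeRestrict).Normal).isSubnormal.trans'
          (inferInstance : h.range.Normal).isSubnormal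
      have h1 := Solv.le_pCore_of_isSubnormal hsub (((Solv.isPGroup_pCore p ↥Er).map _).map _)
        ⟨h.rangeRestrict x, ⟨x, hx, rfl⟩, rfl⟩
      rw [hred, Subgroup.mem_bot] at h1
      exact h1
    refine Local.qs_of_central_quotient ((C.subgroupOf Er).map (QuotientGroup.mk' P)) ?_ ?_
      (Local.qs_congr hq4 (QuotientGroup.quotientQuotientEquivQuotient P (C.subgroupOf Er) hPC).symm)
    · rw [← Subgroup.map_top_of_surjective (QuotientGroup.mk' P) (QuotientGroup.mk'_surjective P),
        ← Subgroup.map_commutator]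
      congr 1
      apply Subgroup.map_injective Er.subtype_injective
      rw [Subgroup.map_commutator, ← MonoidHom.range_eq_map, Subgroup.range_subtype, hperfG]
    · rintro _ ⟨c, hc, rfl⟩
      rw [Subgroup.mem_center_iff]
      intro q
      obtain ⟨x, rfl⟩ := QuotientGroup.mk'_surjective P q
      have h1 : ⁅c, x⁆ ∈ P := by
        have hWEr : Er ≤ W := hEr ▸ Subgroup.map_subtype_le _
        have h2 : ⁅(c : G), (x : G)⁆ ∈ Cfsg.pCoreOf p W := by
          refine hWC ?_
          rw [Subgroup.commutator_comm]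
          exact Subgroup.commutator_mem_commutator hc (hWEr x.2)
        obtain ⟨y, hy, hye⟩ := Local.FrakH.pCoreOf_inf_le hWEr (Subgroup.mem_inf.2 ⟨h2, (⁅c, x⁆ : ↥Er).2⟩)
        rwa [show ⁅c, x⁆ = y from Subtype.ext hye.symm]
      have h2 : QuotientGroup.mk' P ⁅c, x⁆ = 1 := (QuotientGroup.eq_one_iff _).2 h1
      rw [map_commutatorElement, commutatorElement_eq_one_iff_mul_comm] at h2
      exact h2.symm
  refine ⟨?_, hperfG, hresG, hq4, hq5, fun Y hYE hYp hYC => ?_⟩
  · have h1 : Cfsg.pResidual p ↥E ⊔ C.subgroupOf E = ErE ⊔ C.subgroupOf E := by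
      have := congrArg (Subgroup.comap f) (hKmap.trans himg.symm)
      rwa [Subgroup.comap_map_eq, Subgroup.comap_map_eq, hf, QuotientGroup.ker_mk'] at this
    have h2 := congrArg (Subgroup.map E.subtype) h1
    rw [Subgroup.map_sup, Subgroup.map_sup, hErEmap, Subgroup.subgroupOf_map_subtype, inf_comm] at h2
    exact h2
  · set Y' := Y.subgroupOf E with hY'
    set T := ⁅ErE, Y'⁆ with hT
    have hTn : ErE ≤ Subgroup.normalizer (T : Set ↥E) := Subgroup.normalizer_commutator_ge_left ErE Y'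
    have hTle : T ≤ ErE := Subgroup.commutator_le_left ErE Y'
    have hTf : T.map f = Kb := by
      rw [hT, Subgroup.map_commutator, himg]
      set Yb := Y'.map f with hYb
      have hTK : ⁅Kb, Yb⁆ ≤ Kb := Subgroup.commutator_le_left Kb Yb
      haveI : ((⁅Kb, Yb⁆).subgroupOf Kb).Normal :=
        (Subgroup.normal_subgroupOf_iff_le_normalizer hTK).2 (Subgroup.normalizer_commutator_ge_left Kb Yb)
      rcases Local.qs_normal_le_center_or_eq_top hKq ((⁅Kb, Yb⁆).subgroupOf Kb) with h | h
      · exfalso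
        have h1 : ⁅⁅Kb, Yb⁆, Kb⁆ = ⊥ := by
          rw [Subgroup.commutator_eq_bot_iff_le_centralizer]
          intro x hx k hk
          exact congrArg Subtype.val
            (Subgroup.mem_center_iff.1 (h (show (⟨x, hTK hx⟩ : ↥Kb) ∈ _ from hx)) ⟨k, hk⟩)
        have h2 : ⁅⁅Yb, Kb⁆, Kb⁆ = ⊥ := by rwa [Subgroup.commutator_comm Yb Kb]
        have h3 := Subgroup.commutator_commutator_eq_bot_of_rotate h1 h2
        rw [Local.component_eq_commutator hKcomp, Subgroup.commutator_eq_bot_iff_le_centralizer,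
          Subgroup.le_centralizer_iff] at h3
        have hb := eq_bot_of_centralize hred ((hYp.comap_subtype (K := E)).map f) h3
        exact hYC fun y hy => (QuotientGroup.eq_one_iff (N := C.subgroupOf E) ⟨y, hYE hy⟩).1
          (Subgroup.mem_bot.1 (hb ▸ ⟨⟨y, hYE hy⟩, hy, rfl⟩))
      · exact le_antisymm hTK (Subgroup.subgroupOf_eq_top.1 h)
    have h1 := hsplit T hTle hTf
    have hT' : T = ErE := by
      refine hfinal T hTle hTn ?_
      conv_lhs => rw [← hperf, hDdef]
      refine (Subgroup.commutator_mono h1 le_rfl).trans ?_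
      rw [Subgroup.commutator_le]
      intro x hx q hq
      have hx' : x ∈ ((T ⊔ (ErE ⊓ C.subgroupOf E) : Subgroup ↥E) : Set ↥E) := hx
      rw [Subgroup.coe_mul_of_right_le_normalizer_left T _ (inf_le_left.trans hTn)] at hx'
      obtain ⟨d, hd, c, hc, rfl⟩ := Set.mem_mul.1 hx'
      rw [show ⁅d * c, q⁆ = d * ⁅c, q⁆ * d⁻¹ * ⁅d, q⁆ by simp [commutatorElement_def, mul_assoc]]
      refine mul_mem (mul_mem (mul_mem (Subgroup.mem_sup_left hd)
        (Subgroup.mem_sup_right (hcC c hc q (hErW q hq)))) (inv_mem (Subgroup.mem_sup_left hd)))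
        (Subgroup.mem_sup_left ?_)
      rw [commutatorElement_def, mul_assoc, mul_assoc, ← mul_assoc q]
      exact mul_mem hd ((Subgroup.mem_normalizer_iff.1 (hTn hq) _).1 (inv_mem hd))
    have h2 := congrArg (Subgroup.map E.subtype) hT'
    rw [hT, Subgroup.map_commutator, hErEmap, Subgroup.map_subgroupOf_eq_of_le hYE] at h2
    exact h2

end Cfsg.Agent.S2860
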