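import Cfsg.Statements.S2864
import Cfsg.Agent.Lib.Local.FrakM
import Cfsg.Agent.S2845
import Cfsg.Agent.Lib.Solv.StructMisc
import Cfsg.Agent.Lib.Solv.Subnormal
import Cfsg.Agent.Lib.Solv.Coprime
-- import your own Cfsg.Agent.* helpers here

set_option autoImplicit false
open Cfsg

namespace Cfsg.Agent.S2864
open Cfsg.Agent
open scoped commutatorElement

theorem normalizer_mem_charP {G : Type*} [Group G] [Finite G] {p : ℕ} [Fact p.Prime]
    (hH : Cfsg.IsOfParabolicCharacteristic p G) {I : Subgroup G} (hIp : IsPGroup p ↥I) (hI1 : I ≠ ⊥)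
    (hpar : Cfsg.IsParabolic p (Subgroup.normalizer (I : Set G))) :
    Subgroup.normalizer (I : Set G) ∈ Cfsg.charPSubgroups p G := by
  set N := Subgroup.normalizer (I : Set G) with hN
  have hc := hH I hIp hI1 hpar
  haveI : (I.subgroupOf N).Normal := Subgroup.normal_subgroupOf_of_le_normalizer le_rfl
  have hle : I.subgroupOf N ≤ Cfsg.pCore p ↥N :=
    Solv.le_pCore (N := I.subgroupOf N) (hIp.comap_subtype (K := N))
  have hIO : I ≤ Cfsg.pCoreOf p N := fun y hy =>
    ⟨⟨y, Subgroup.le_normalizer hy⟩,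
      hle (show (⟨y, Subgroup.le_normalizer hy⟩ : N) ∈ I.subgroupOf N from hy), rfl⟩
  refine ⟨fun e => hI1 (le_bot_iff.1 (hIO.trans_eq (by rw [Cfsg.pCoreOf, e, Subgroup.map_bot]))), ?_⟩
  intro x hx
  have hxN : x ∈ N := Subgroup.centralizer_le_normalizer _
    (Subgroup.centralizer_le (SetLike.coe_subset_coe.2 hIO) hx)
  exact ⟨⟨x, hxN⟩, hc (Subgroup.mem_centralizer_iff.2 fun o ho =>
    Subtype.ext (Subgroup.mem_centralizer_iff.1 hx _ ⟨o, ho, rfl⟩)), rfl⟩

/-- The core of the argument inside `L`. -/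
theorem key {L : Type*} [Group L] [Finite L] {p : ℕ} [Fact p.Prime] (A Y : Subgroup L) [A.Normal]
    (hA : IsPGroup p ↥A) (hY : IsPGroup p ↥Y) (hYA : ⁅Y, A⁆ ≤ ⁅A, A⁆)
    (hYC : ∀ y ∈ Y, ∀ c ∈ Subgroup.centralizer (A : Set L),
      ⁅y, c⁆ ∈ (Cfsg.pCore p ↥(Subgroup.centralizer (A : Set L))).map
        (Subgroup.centralizer (A : Set L)).subtype) :
    Y ≤ Cfsg.pCore p L := by
  set C := Subgroup.centralizer (A : Set L) with hC
  haveI hCn : C.Normal := Subgroup.normal_centralizer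
  set P := (Cfsg.pCore p ↥C).map C.subtype with hP
  haveI := Solv.pCore_characteristic p ↥C
  haveI hPn : P.Normal := by rw [hP]; infer_instance
  have hPp : IsPGroup p ↥P := (Solv.isPGroup_pCore p ↥C).map _
  set D := ⁅A, A⁆ with hD
  haveI hDn : D.Normal := by rw [hD]; infer_instance
  haveI : (C.map (QuotientGroup.mk' P)).Normal := Subgroup.Normal.map hCn _ (QuotientGroup.mk'_surjective P)
  haveI : (A.map (QuotientGroup.mk' D)).Normal :=
    Subgroup.Normal.map inferInstance _ (QuotientGroup.mk'_surjective D)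
  haveI : (Subgroup.centralizer (C.map (QuotientGroup.mk' P) : Set (L ⧸ P))).Normal :=
    Subgroup.normal_centralizer
  haveI : (Subgroup.centralizer (A.map (QuotientGroup.mk' D) : Set (L ⧸ D))).Normal :=
    Subgroup.normal_centralizer
  set X1 := (Subgroup.centralizer (C.map (QuotientGroup.mk' P) : Set (L ⧸ P))).comap (QuotientGroup.mk' P)
  set X2 := (Subgroup.centralizer (A.map (QuotientGroup.mk' D) : Set (L ⧸ D))).comap (QuotientGroup.mk' D)
  set K := X1 ⊓ X2 with hK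
  haveI : X1.Normal := Subgroup.Normal.comap inferInstance _
  haveI : X2.Normal := Subgroup.Normal.comap inferInstance _
  haveI hKn : K.Normal := Subgroup.normal_inf_normal _ _
  have hcomm : ∀ (N : Subgroup L) [N.Normal] (U : Subgroup L) (x : L),
      x ∈ (Subgroup.centralizer (U.map (QuotientGroup.mk' N) : Set (L ⧸ N))).comap (QuotientGroup.mk' N) ↔
        ∀ u ∈ U, ⁅x, u⁆ ∈ N := by
    intro N _ U x
    rw [Subgroup.mem_comap, Subgroup.mem_centralizer_iff]
    refine ⟨fun h u hu => ?_, ?_⟩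
    · have h1 := h _ ⟨u, hu, rfl⟩
      rw [← QuotientGroup.eq_one_iff]
      have e : ((⁅x, u⁆ : L) : L ⧸ N) = ⁅(x : L ⧸ N), (u : L ⧸ N)⁆ :=
        map_commutatorElement (QuotientGroup.mk' N) x u
      rw [e, commutatorElement_eq_one_iff_mul_comm]
      exact h1.symm
    · rintro h _ ⟨u, hu, rfl⟩
      have h1 := (QuotientGroup.eq_one_iff (⁅x, u⁆ : L)).2 (h u hu)
      have e : ((⁅x, u⁆ : L) : L ⧸ N) = ⁅(x : L ⧸ N), (u : L ⧸ N)⁆ :=
        map_commutatorElement (QuotientGroup.mk' N) x u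
      rw [e, commutatorElement_eq_one_iff_mul_comm] at h1
      exact h1.symm
  have hYK : Y ≤ K := fun y hy => ⟨(hcomm P C y).2 fun c hc => hYC y hy c hc,
    (hcomm D A y).2 fun a ha => hYA (Subgroup.commutator_mem_commutator hy ha)⟩
  -- `p'`-elements of `K` centralize `A`
  have hp' : ∀ x ∈ K, (orderOf x).Coprime p → x ∈ C := by
    intro x hx hco
    haveI := hA.isNilpotent
    refine Solv.centralizes_of_trivial_on_frattini_quotient (Subgroup.zpowers x) A
      (by rw [Subgroup.normalizer_eq_top]; exact le_top) ?_ ?_ (Subgroup.mem_zpowers x)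
    · obtain ⟨n, hn⟩ := IsPGroup.iff_card.1 (hA.to_subgroup (frattini ↥A))
      rw [Nat.card_zpowers, hn]
      exact hco.pow_right n
    · intro z hz a ha
      have h := (hcomm D A z).1 (Subgroup.zpowers_le.2 hx.2 hz) a ha
      rw [commutatorElement_def, hD, ← A.map_subtype_commutator] at h
      exact Subgroup.map_mono Solv.commutator_le_frattini h
  -- `K/P` is nilpotent
  set N := P.subgroupOf K with hN
  set f := QuotientGroup.mk' N with hf
  have hcen : (C.subgroupOf K).map f ≤ Subgroup.center (↥K ⧸ N) := by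
    rintro _ ⟨c, hc, rfl⟩
    rw [Subgroup.mem_center_iff]
    intro q
    obtain ⟨k, rfl⟩ := QuotientGroup.mk'_surjective N q
    have h1 : ⁅k, c⁆ ∈ N := (hcomm P C (k : L)).1 k.2.1 (c : L) hc
    have h2 : f ⁅k, c⁆ = 1 := (QuotientGroup.eq_one_iff _).2 h1
    rw [map_commutatorElement, commutatorElement_eq_one_iff_mul_comm] at h2
    exact h2
  have hpg : IsPGroup p ((↥K ⧸ N) ⧸ Subgroup.center (↥K ⧸ N)) := by
    intro q
    obtain ⟨q', rfl⟩ := QuotientGroup.mk'_surjective _ q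
    obtain ⟨k, rfl⟩ := QuotientGroup.mk'_surjective _ q'
    obtain ⟨a, m, hm, he⟩ := Nat.exists_eq_pow_mul_and_not_dvd (orderOf_pos (k : L)).ne' p
      (Fact.out : p.Prime).one_lt.ne'
    refine ⟨a, ?_⟩
    rw [← map_pow, ← map_pow]
    refine (QuotientGroup.eq_one_iff _).2 (hcen ⟨k ^ p ^ a, ?_, rfl⟩)
    refine hp' _ (pow_mem k.2 _) ?_
    refine Nat.Coprime.coprime_dvd_left (orderOf_dvd_of_pow_eq_one ?_)
      ((Fact.out : p.Prime).coprime_iff_not_dvd.2 hm).symm
    rw [Subgroup.coe_subtype, SubmonoidClass.coe_pow, ← pow_mul, ← he, pow_orderOf_eq_one]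
  haveI := hpg.isNilpotent
  haveI hnil : Group.IsNilpotent (↥K ⧸ N) :=
    Subgroup.isNilpotent_of_ker_le_center (QuotientGroup.mk' (Subgroup.center (↥K ⧸ N)))
      (by rw [QuotientGroup.ker_mk'])
  set Y' := Y.subgroupOf K with hY'
  set Z := (Y'.map f).comap f with hZ
  have hZsn : Z.IsSubnormal := (Solv.isSubnormal_of_isNilpotent (Y'.map f)).comap f
  have hZp : IsPGroup p ↥Z :=
    ((hY.comap_subtype (K := K)).map f).comap_of_ker_isPGroup f
      (by rw [hf, QuotientGroup.ker_mk']; exact hPp.comap_subtype)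
  have h1 : Y' ≤ Cfsg.pCore p ↥K :=
    (Subgroup.le_comap_map f Y').trans (Solv.le_pCore_of_isSubnormal hZsn hZp)
  have h2 : (Cfsg.pCore p ↥K).map K.subtype ≤ Cfsg.pCore p L := by
    haveI := Solv.pCore_characteristic p ↥K
    exact Solv.le_pCore ((Solv.isPGroup_pCore p ↥K).map _)
  exact fun y hy => h2 ⟨⟨y, hYK hy⟩, h1 hy, rfl⟩


/-- Standing hypotheses: G a finite group, S a Sylow p-subgroup, Q a nontrivial large p-subgroup of G contained in S, M a subgroup containing S with the basic property (M ∈ 𝔐_G(S)); Y_M the largest p-reduced normal subgroup of M and M† = M·C_G(Y_M). Let I be a nontrivial normal p-subgroup of M and Y ≤ O_p(M†); let L be a subgroup of G containing Y and A a normal p-subgroup of L with I ≤ A ≤ M. If [Y, A] ≤ [I, A], then Y ≤ O_p(L). -/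
theorem result {G : Type*} [Group G] [Finite G] {p : ℕ} [Fact p.Prime] (S : Sylow p G) (Q : Subgroup G) (hQp : IsPGroup p ↥Q) (hQ1 : Q ≠ ⊥) (hQS : Q ≤ (S : Subgroup G)) (hQ : Cfsg.IsLarge Q) (M : Subgroup G) (hSM : (S : Subgroup G) ≤ M) (hM : Cfsg.IsInFrakM p M) (I : Subgroup G) (hI1 : I ≠ ⊥) (hIp : IsPGroup p ↥I) (hIM : I ≤ M ∧ M ≤ Subgroup.normalizer ((I : Subgroup G) : Set G)) (Y : Subgroup G) (hY : Y ≤ (Cfsg.pCoreOf p (M ⊔ Subgroup.centralizer (((Cfsg.largestPReducedOf p M) : Subgroup G) : Set G)))) (L : Subgroup G) (hYL : Y ≤ L) (A : Subgroup G) (hAp : IsPGroup p ↥A) (hAL : A ≤ L ∧ L ≤ Subgroup.normalizer ((A : Subgroup G) : Set G)) (hIA : I ≤ A) (hAM : A ≤ M) (hc : ⁅Y, A⁆ ≤ ⁅I, A⁆) : Y ≤ (Cfsg.pCoreOf p L) := by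
  have hH : Cfsg.IsOfParabolicCharacteristic p G := (Cfsg.Agent.S2845.result Q hQp hQ1 hQ).2.2
  set Md := M ⊔ Subgroup.centralizer (((Cfsg.largestPReducedOf p M) : Subgroup G) : Set G) with hMd
  have hN := normalizer_mem_charP hH hIp hI1 ⟨S, hSM.trans hIM.2⟩
  obtain ⟨X, hNX, hX⟩ := Local.FrakM.exists_maximal_ge hN
  have hXM := hM.2.2.1 X hX (hIM.2.trans hNX)
  have hCI : Subgroup.centralizer (A : Set G) ≤ Md :=
    ((Subgroup.centralizer_le (SetLike.coe_subset_coe.2 hIA)).trans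
      (Subgroup.centralizer_le_normalizer _)).trans (hNX.trans hXM.le)
  set O := Cfsg.pCoreOf p Md with hO
  have hMdO : Md ≤ Subgroup.normalizer (O : Set G) :=
    Struct.CoprimeMinimal.le_normalizer_map_char Md Md Subgroup.le_normalizer _
  have hOp : IsPGroup p ↥O := (Solv.isPGroup_pCore p ↥Md).map _
  have hOMd : O ≤ Md := Subgroup.map_subtype_le _
  haveI : (A.subgroupOf L).Normal := Subgroup.normal_subgroupOf_of_le_normalizer hAL.2
  have hYA : ⁅Y.subgroupOf L, A.subgroupOf L⁆ ≤ ⁅A.subgroupOf L, A.subgroupOf L⁆ := by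
    refine (Subgroup.map_le_map_iff_of_injective L.subtype_injective).1 ?_
    rw [Subgroup.map_commutator, Subgroup.map_commutator, Subgroup.map_subgroupOf_eq_of_le hYL,
      Subgroup.map_subgroupOf_eq_of_le hAL.1]
    exact hc.trans (Subgroup.commutator_mono hIA le_rfl)
  have hres := key (p := p) (A.subgroupOf L) (Y.subgroupOf L) hAp.comap_subtype
    (hOp.to_le hY).comap_subtype hYA (by
    intro y hy c hc'
    set C := Subgroup.centralizer ((A.subgroupOf L : Subgroup ↥L) : Set ↥L) with hC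
    have hcM : ∀ x ∈ C, (x : G) ∈ Md := fun x hx => hCI (Subgroup.mem_centralizer_iff.2 fun a ha =>
      congrArg Subtype.val (Subgroup.mem_centralizer_iff.1 hx ⟨a, hAL.1 ha⟩ ha))
    haveI : C.Normal := Subgroup.normal_centralizer
    haveI : ((O.subgroupOf L).subgroupOf C).Normal := by
      refine ⟨fun z hz g => ?_⟩
      exact (Subgroup.mem_normalizer_iff.1 (hMdO (hcM _ g.2)) _).1 hz
    have hle : (O.subgroupOf L).subgroupOf C ≤ Cfsg.pCore p ↥C :=
      Solv.le_pCore (N := (O.subgroupOf L).subgroupOf C) hOp.comap_subtype.comap_subtype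
    have h1 : ⁅y, c⁆ ∈ C := by
      rw [commutatorElement_def]
      exact mul_mem ((inferInstance : C.Normal).conj_mem c hc' y) (inv_mem hc')
    refine ⟨⟨⁅y, c⁆, h1⟩, hle ?_, rfl⟩
    show (y : G) * c * (y : G)⁻¹ * (c : G)⁻¹ ∈ O
    rw [mul_assoc, mul_assoc, ← mul_assoc (c : G) (y : G)⁻¹]
    exact mul_mem (hY hy) ((Subgroup.mem_normalizer_iff.1 (hMdO (hcM c hc')) _).1 (inv_mem (hY hy))))
  exact fun y hy => ⟨⟨y, hYL hy⟩, hres (show (⟨y, hYL hy⟩ : L) ∈ Y.subgroupOf L from hy), rfl⟩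

end Cfsg.Agent.S2864
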