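import Cfsg.Statements.S2872
import Cfsg.Agent.Lib.Solv.NormalPComplement
-- import your own Cfsg.Agent.* helpers here

set_option autoImplicit false
open Cfsg

namespace Cfsg.Agent.S2872

/-- Let S be a Sylow 2-subgroup of the finite group G. Then G has a proper normal subgroup of 2-power index (O²(G) ≠ G), or Ω₁(Z(S)) is contained in the Frattini subgroup of S, or N_G(S) acts nontrivially on Ω₁(Z(S)) by conjugation. -/
theorem result {G : Type*} [Group G] [Finite G] (S : Sylow 2 G) : Cfsg.pResidual 2 G ≠ ⊤ ∨ Cfsg.omegaOne 2 ((S : Subgroup G) ⊓ Subgroup.centralizer ((S : Subgroup G) : Set G)) ≤ (frattini ↥(S : Subgroup G)).map (S : Subgroup G).subtype ∨ ∃ g ∈ Subgroup.normalizer ((S : Subgroup G) : Set G), ∃ z ∈ Cfsg.omegaOne 2 ((S : Subgroup G) ⊓ Subgroup.centralizer ((S : Subgroup G) : Set G)), g * z * g⁻¹ ≠ z := by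
  classical
  by_contra hcon
  push Not at hcon
  obtain ⟨hres, hΦ, hfix⟩ := hcon
  obtain ⟨z, ⟨⟨hzS, hzC⟩, hz2⟩, hzΦ⟩ : ∃ z, (z ∈ (S : Subgroup G) ⊓ Subgroup.centralizer ((S : Subgroup G) : Set G) ∧ z ^ 2 = 1) ∧
      z ∉ (frattini ↥(S : Subgroup G)).map (S : Subgroup G).subtype := by
    by_contra h
    push Not at h
    refine hΦ ?_
    rw [omegaOne, Subgroup.closure_le]
    exact fun x hx => h x hx
  have hzz : z⁻¹ = z := inv_eq_of_mul_eq_one_right (by rw [← pow_two]; exact hz2)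
  have hN : ∀ g ∈ Subgroup.normalizer ((S : Subgroup G) : Set G), g⁻¹ * z * g = z := fun g hg => by
    have := hfix g⁻¹ (inv_mem hg) z (Subgroup.subset_closure ⟨⟨hzS, hzC⟩, hz2⟩)
    rwa [inv_inv] at this
  obtain ⟨M, hM, hzM⟩ : ∃ M : Subgroup (S : Subgroup G), IsCoatom M ∧ (⟨z, hzS⟩ : (S : Subgroup G)) ∉ M := by
    by_contra h
    push Not at h
    refine hzΦ ⟨⟨z, hzS⟩, ?_, rfl⟩
    show (⟨z, hzS⟩ : (S : Subgroup G)) ∈ ⨅ a ∈ {H : Subgroup (S : Subgroup G) | IsCoatom H}, a
    rw [Subgroup.mem_iInf]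
    intro M
    rw [Subgroup.mem_iInf]
    exact fun hM => h M hM
  haveI := S.isPGroup'.isNilpotent
  have h13 : Group.IsNilpotent (S : Subgroup G) ↔ ∀ H : Subgroup (S : Subgroup G), IsCoatom H → H.Normal :=
    (Group.isNilpotent_of_finite_tfae (G := (S : Subgroup G))).out 0 2
  haveI hMn : M.Normal := h13.1 inferInstance M hM
  have hcard : Nat.card ((S : Subgroup G) ⧸ M) = 2 := by
    rw [← Subgroup.index_eq_card]
    have h2 : IsPGroup 2 ((S : Subgroup G) ⧸ M) := S.isPGroup'.to_quotient M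
    haveI : Nontrivial ((S : Subgroup G) ⧸ M) :=
      ⟨⟨(⟨z, hzS⟩ : (S : Subgroup G)), 1, fun e => hzM ((QuotientGroup.eq_one_iff _).1 e)⟩⟩
    obtain ⟨c, hc⟩ := exists_prime_orderOf_dvd_card' 2
      (show 2 ∣ Nat.card ((S : Subgroup G) ⧸ M) from by
        obtain ⟨k, hk⟩ := h2.exists_card_eq
        rcases k with _ | k
        · exact absurd hk (Finite.one_lt_card).ne'
        · exact hk ▸ dvd_pow_self 2 k.succ_ne_zero)
    have hcomap : M < (Subgroup.zpowers c).comap (QuotientGroup.mk' M) := by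
      refine lt_of_le_of_ne (fun x hx => ?_) fun e => ?_
      · show QuotientGroup.mk' M x ∈ Subgroup.zpowers c
        rw [show QuotientGroup.mk' M x = 1 from (QuotientGroup.eq_one_iff x).2 hx]
        exact one_mem _
      · obtain ⟨y, rfl⟩ := QuotientGroup.mk'_surjective M c
        have : y ∈ M := e ▸ Subgroup.mem_zpowers _
        rw [show QuotientGroup.mk' M y = 1 from (QuotientGroup.eq_one_iff y).2 this, orderOf_one] at hc
        omega
    have htop : Subgroup.zpowers c = ⊤ := by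
      apply Subgroup.comap_injective (QuotientGroup.mk'_surjective M)
      rw [hM.2 _ hcomap, Subgroup.comap_top]
    rw [Subgroup.index_eq_card, ← Subgroup.card_top, ← htop, Nat.card_zpowers, hc]
  haveI : IsCyclic ((S : Subgroup G) ⧸ M) := isCyclic_of_prime_card hcard
  letI : CommGroup ((S : Subgroup G) ⧸ M) := IsCyclic.commGroup
  set φ : (S : Subgroup G) →* (S : Subgroup G) ⧸ M := QuotientGroup.mk' M with hφ
  have hc1 : φ ⟨z, hzS⟩ ≠ 1 := fun e => hzM ((QuotientGroup.eq_one_iff _).1 e)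
  have htwo : ∀ a b : (S : Subgroup G) ⧸ M, a ≠ 1 → b ≠ 1 → a = b := by
    intro a b ha hb
    by_contra hab
    haveI : Fintype ((S : Subgroup G) ⧸ M) := Fintype.ofFinite _
    have h3 : ({1, a, b} : Finset ((S : Subgroup G) ⧸ M)).card = 3 :=
      Finset.card_eq_three.2 ⟨1, a, b, ha.symm, hb.symm, hab, rfl⟩
    have := Finset.card_le_univ ({1, a, b} : Finset ((S : Subgroup G) ⧸ M))
    rw [h3, ← Nat.card_eq_fintype_card, hcard] at this
    omega
  haveI : (S : Subgroup G).FiniteIndex := inferInstance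
  letI : Fintype (G ⧸ (S : Subgroup G)) := Subgroup.fintypeQuotientOfFiniteIndex
  set T : (S : Subgroup G).LeftTransversal := ⟨Set.range Quotient.out, Subgroup.isComplement_range_left QuotientGroup.out_eq'⟩ with hT
  set r : G ⧸ (S : Subgroup G) → G := Quotient.out with hr
  have hαr : ∀ q, ((T.2.leftQuotientEquiv q : _) : G) = r q := fun q =>
    Subgroup.IsComplement.leftQuotientEquiv_apply QuotientGroup.out_eq' q
  have hmem : ∀ q : G ⧸ (S : Subgroup G), (r q)⁻¹ * (z * r (z⁻¹ • q)) ∈ (S : Subgroup G) := fun q => by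
    rw [← QuotientGroup.eq]
    show ((r q : G) : G ⧸ (S : Subgroup G)) = z • ((r (z⁻¹ • q) : G) : G ⧸ (S : Subgroup G))
    rw [hr, QuotientGroup.out_eq', QuotientGroup.out_eq', smul_inv_smul]
  set ψ : G ⧸ (S : Subgroup G) → (S : Subgroup G) ⧸ M := fun q => φ ⟨_, hmem q⟩ with hψdef
  have hV : MonoidHom.transfer φ z = ∏ q, ψ q := by
    rw [MonoidHom.transfer_def φ T z, Subgroup.leftTransversals.diff]
    refine Finset.prod_congr rfl fun q _ => congrArg φ (Subtype.ext ?_)
    simp only [Subgroup.smul_apply_eq_smul_apply_inv_smul, smul_eq_mul, hαr]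
  have hψ : ∀ g : G, ∀ hh : g⁻¹ * z * g ∈ (S : Subgroup G), ψ (g : G ⧸ (S : Subgroup G)) = φ ⟨g⁻¹ * z * g, hh⟩ := by
    intro g hh
    have hfixq : z⁻¹ • (g : G ⧸ (S : Subgroup G)) = g := by
      rw [hzz]
      show ((z * g : G) : G ⧸ (S : Subgroup G)) = g
      rw [QuotientGroup.eq, show (z * g)⁻¹ * g = g⁻¹ * z⁻¹ * g by group, hzz]
      exact hh
    obtain ⟨s, hs⟩ : ∃ s : (S : Subgroup G), r (g : G ⧸ (S : Subgroup G)) = g * s :=
      ⟨⟨g⁻¹ * r (g : G ⧸ (S : Subgroup G)), QuotientGroup.eq.1 (QuotientGroup.out_eq' _).symm⟩, by simp⟩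
    have e : (⟨_, hmem (g : G ⧸ (S : Subgroup G))⟩ : (S : Subgroup G)) = s⁻¹ * ⟨g⁻¹ * z * g, hh⟩ * s := by
      refine Subtype.ext ?_
      simp only [hfixq, hs, Subgroup.coe_mul, Subgroup.coe_inv]
      group
    show φ _ = _
    rw [e, map_mul, map_mul, map_inv, mul_comm (φ s)⁻¹, inv_mul_cancel_right]
  have hfixmem : ∀ g : G, z • (g : G ⧸ (S : Subgroup G)) = g → g⁻¹ * z * g ∈ (S : Subgroup G) := by
    intro g hg
    have h1 : ((z * g : G) : G ⧸ (S : Subgroup G)) = g := hg
    rw [QuotientGroup.eq, show (z * g)⁻¹ * g = g⁻¹ * z⁻¹ * g by group, hzz] at h1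
    exact h1
  have hmoved : ∏ q ∈ Finset.univ.filter (fun q : G ⧸ (S : Subgroup G) => ¬ z • q = q), ψ q = 1 := by
    refine Finset.prod_involution (fun q _ => z • q) (fun q hq => ?_) (fun q hq _ => (Finset.mem_filter.1 hq).2)
      (fun q hq => ?_) (fun q hq => ?_)
    · show φ _ * φ _ = 1
      rw [← map_mul]
      convert map_one φ
      refine Subtype.ext ?_
      simp only [Subgroup.coe_mul, hzz, Subgroup.coe_one]
      rw [show z • (z • q) = q by rw [← mul_smul, ← pow_two, hz2, one_smul]]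
      calc (r q)⁻¹ * (z * r (z • q)) * ((r (z • q))⁻¹ * (z * r q)) = (r q)⁻¹ * (z ^ 2) * r q := by rw [pow_two]; group
        _ = 1 := by rw [hz2]; group
    · refine Finset.mem_filter.2 ⟨Finset.mem_univ _, fun e => (Finset.mem_filter.1 hq).2 ?_⟩
      exact MulAction.injective z e
    · show z • z • q = q
      rw [← mul_smul, ← pow_two, hz2, one_smul]
  let A : Type _ := {q : G ⧸ (S : Subgroup G) // z • q = q ∧ ψ q ≠ 1}
  have hzcomm : ∀ s ∈ (S : Subgroup G), s * z = z * s := fun s hs => Subgroup.mem_centralizer_iff.1 hzC s hs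
  have hinv : ∀ (s : (S : Subgroup G)) (q : G ⧸ (S : Subgroup G)), z • q = q → z • ((s : G) • q) = (s : G) • q ∧ ψ ((s : G) • q) = ψ q := by
    intro s q hq
    induction q using QuotientGroup.induction_on with
    | H g =>
      have h1 : z • (s : G) • (g : G ⧸ (S : Subgroup G)) = (s : G) • (g : G ⧸ (S : Subgroup G)) := by
        rw [← mul_smul, ← hzcomm s s.2, mul_smul, hq]
      have h2 := hfixmem g hq
      have h3 : ((s : G) * g)⁻¹ * z * ((s : G) * g) = g⁻¹ * z * g := by
        rw [show ((s : G) * g)⁻¹ * z * ((s : G) * g) = g⁻¹ * (s : G)⁻¹ * (z * s) * g by group, ← hzcomm s s.2]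
        group
      refine ⟨h1, ?_⟩
      rw [show (s : G) • (g : G ⧸ (S : Subgroup G)) = (((s : G) * g : G) : G ⧸ (S : Subgroup G)) from rfl,
        hψ _ (h3 ▸ h2), hψ g h2]
      exact congrArg φ (Subtype.ext h3)
  letI : MulAction (S : Subgroup G) A :=
    { smul := fun s a => ⟨(s : G) • a.1, (hinv s a.1 a.2.1).1, by rw [(hinv s a.1 a.2.1).2]; exact a.2.2⟩
      one_smul := fun a => Subtype.ext (one_smul G a.1)
      mul_smul := fun s t a => Subtype.ext (mul_smul (s : G) (t : G) a.1) }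
  set N := Subgroup.normalizer ((S : Subgroup G) : Set G)
  have hfp : Nat.card (MulAction.fixedPoints (S : Subgroup G) A) = (S : Subgroup G).relIndex N := by
    have hin : ∀ n : N, z • ((n : G) : G ⧸ (S : Subgroup G)) = (n : G) ∧ ψ ((n : G) : G ⧸ (S : Subgroup G)) ≠ 1 := by
      intro n
      have e := hN n n.2
      refine ⟨?_, ?_⟩
      · show ((z * n : G) : G ⧸ (S : Subgroup G)) = (n : G)
        rw [QuotientGroup.eq, show (z * (n : G))⁻¹ * n = (n : G)⁻¹ * z⁻¹ * n by group, hzz, e]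
        exact hzS
      · rw [hψ n (e.symm ▸ hzS)]
        convert hc1 using 3
    let F : N ⧸ (S : Subgroup G).subgroupOf N → MulAction.fixedPoints (S : Subgroup G) A := fun q =>
      Quotient.liftOn' q (fun n => ⟨⟨((n : G) : G ⧸ (S : Subgroup G)), hin n⟩, fun s => Subtype.ext (by
          show (((s : G) * n : G) : G ⧸ (S : Subgroup G)) = (n : G)
          rw [QuotientGroup.eq, show ((s : G) * n)⁻¹ * n = (n : G)⁻¹ * (s : G)⁻¹ * n by group]
          exact (Subgroup.mem_normalizer_iff''.1 n.2 _).1 (inv_mem s.2))⟩)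
        (fun a b hab => Subtype.ext (Subtype.ext (QuotientGroup.eq.2 ((QuotientGroup.leftRel_apply.1 hab :) : ((a⁻¹ * b : N) : G) ∈ (S : Subgroup G)))))
    have hF : Function.Bijective F := by
      constructor
      · intro a b
        induction a using QuotientGroup.induction_on
        induction b using QuotientGroup.induction_on
        intro hab
        exact QuotientGroup.eq.2 (QuotientGroup.eq.1 (congrArg (fun x : MulAction.fixedPoints (S : Subgroup G) A => x.1.1) hab) :)
      · rintro ⟨⟨q, hq⟩, hf⟩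
        obtain ⟨g, rfl⟩ : ∃ g : G, (g : G ⧸ (S : Subgroup G)) = q := ⟨r q, QuotientGroup.out_eq' q⟩
        have hgN : g ∈ N := by
          have hsub : ((S : Subgroup G)).map (MulAut.conj g⁻¹).toMonoidHom ≤ (S : Subgroup G) := by
            rintro _ ⟨s, hs, rfl⟩
            have h1 : (((⟨s, hs⟩ : (S : Subgroup G))⁻¹ : (S : Subgroup G)) : G) • (g : G ⧸ (S : Subgroup G)) = g :=
              congrArg Subtype.val (hf (⟨s, hs⟩ : (S : Subgroup G))⁻¹)
            have h2 : ((s⁻¹ * g : G) : G ⧸ (S : Subgroup G)) = g := h1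
            rw [QuotientGroup.eq, show (s⁻¹ * g)⁻¹ * g = g⁻¹ * s * g by group] at h2
            show g⁻¹ * s * g⁻¹⁻¹ ∈ (S : Subgroup G)
            rwa [inv_inv]
          have heq := Subgroup.eq_of_le_of_card_ge hsub
            (Nat.card_congr ((S : Subgroup G).equivMapOfInjective (MulAut.conj g⁻¹).toMonoidHom (MulAut.conj g⁻¹).injective).toEquiv).le
          rw [← inv_mem_iff, Subgroup.mem_normalizer_iff]
          intro x
          conv_rhs => rw [← heq]
          exact ⟨fun hx => ⟨x, hx, rfl⟩, fun ⟨y, hy, e⟩ => (MulAut.conj g⁻¹).injective e ▸ hy⟩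
        exact ⟨((⟨g, hgN⟩ : N) : N ⧸ (S : Subgroup G).subgroupOf N), rfl⟩
    exact (Nat.card_congr (Equiv.ofBijective F hF)).symm
  have hodd : Odd (Nat.card A) := by
    have h1 := S.isPGroup'.card_modEq_card_fixedPoints A
    rw [hfp] at h1
    rw [Nat.odd_iff]
    have h2 : ¬ 2 ∣ (S : Subgroup G).relIndex N := fun h => S.not_dvd_index
      (h.trans (Dvd.intro _ (Subgroup.relIndex_mul_index Subgroup.le_normalizer)))
    have : Nat.card A % 2 = (S : Subgroup G).relIndex N % 2 := h1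
    omega
  have hz1 : MonoidHom.transfer φ z ≠ 1 := by
    rw [hV, ← Finset.prod_filter_mul_prod_filter_not Finset.univ (fun q => z • q = q), hmoved, mul_one,
      ← Finset.prod_filter_ne_one, Finset.filter_filter,
      Finset.prod_congr rfl (fun q hq => htwo (ψ q) (φ ⟨z, hzS⟩) (Finset.mem_filter.1 hq).2.2 hc1),
      Finset.prod_const]
    have hcA : (Finset.univ.filter (fun q => z • q = q ∧ ψ q ≠ 1)).card = Nat.card A := by
      rw [Nat.card_eq_fintype_card, Fintype.card_subtype]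
    rw [hcA]
    obtain ⟨k, hk⟩ := hodd
    rw [hk, pow_succ, pow_mul]
    have hsq : φ ⟨z, hzS⟩ ^ 2 = 1 := by
      rw [← map_pow]
      convert map_one φ
      exact Subtype.ext hz2
    rw [hsq, one_pow, one_mul]
    exact hc1
  refine hz1 ?_
  have hp2 : IsPGroup 2 ((S : Subgroup G) ⧸ M) := IsPGroup.of_card (n := 1) (by rw [hcard]; rfl)
  have := Solv.pResidual_le_ker_of_isPGroup hp2 (MonoidHom.transfer φ)
  rw [hres] at this
  exact this (Subgroup.mem_top z)

end Cfsg.Agent.S2872
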