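import Cfsg.Statements.S2873
import Cfsg.Agent.Lib.Solv.Basic
import Mathlib.GroupTheory.SpecificGroups.Dihedral
-- import your own Cfsg.Agent.* helpers here

set_option autoImplicit false
open Cfsg

namespace Cfsg.Agent.S2873

/-- Let G be a finite group and r an odd prime such that G ⧸ O₂(G) is dihedral of order 2r, and let R be a Sylow r-subgroup of G with C_{O₂(G)}(R) = 1. Then N_G(R) is dihedral of order 2r; for any involution a of N_G(R), every involution of G outside O₂(G) is conjugate to a; and |C_{O₂(G)}(a)|² = |O₂(G)|. -/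
theorem result {G : Type*} [Group G] [Finite G] {r : ℕ} [Fact r.Prime] (hr : r ≠ 2) [hN : (Cfsg.pCore 2 G).Normal] (hquot : Nonempty (G ⧸ Cfsg.pCore 2 G ≃* DihedralGroup r)) (R : Sylow r G) (hC : Cfsg.pCore 2 G ⊓ Subgroup.centralizer ((R : Subgroup G) : Set G) = ⊥) : Nonempty (↥(Subgroup.normalizer ((R : Subgroup G) : Set G)) ≃* DihedralGroup r) ∧ ∀ a : G, a ∈ Subgroup.normalizer ((R : Subgroup G) : Set G) → orderOf a = 2 → (∀ b : G, orderOf b = 2 → b ∉ Cfsg.pCore 2 G → ∃ g : G, g * a * g⁻¹ = b) ∧ Nat.card ↥(Cfsg.pCore 2 G ⊓ Subgroup.centralizer ({a} : Set G)) ^ 2 = Nat.card ↥(Cfsg.pCore 2 G) := by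
  skip
  classical
  obtain ⟨e⟩ := hquot
  haveI : Fact (Nat.Prime 2) := ⟨Nat.prime_two⟩
  have hrp : r.Prime := Fact.out
  set O := Cfsg.pCore 2 G with hO
  set π := QuotientGroup.mk' O with hπ
  have hO2 : IsPGroup 2 O := Cfsg.Agent.Solv.isPGroup_pCore 2 G
  have hker : ∀ g, π g = 1 ↔ g ∈ O := fun g => QuotientGroup.eq_one_iff g
  have hRO : ∀ x ∈ (R : Subgroup G), x ∈ O → x = 1 := fun x hx hxO =>
    Subgroup.disjoint_def.1 (IsPGroup.disjoint_of_ne r 2 hr _ _ R.isPGroup' hO2) hx hxO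
  have hQcard : Nat.card (G ⧸ O) = 2 * r := by rw [Nat.card_congr e.toEquiv, DihedralGroup.nat_card]
  have hcard : Nat.card (R : Subgroup G) = r := by
    have hi : Function.Injective (π.comp (R : Subgroup G).subtype) := by
      rw [injective_iff_map_eq_one]
      exact fun x hx => Subtype.ext (hRO x x.2 ((hker _).1 hx))
    have h1 : Nat.card (R : Subgroup G) ∣ 2 * r := hQcard ▸ Subgroup.card_dvd_of_injective _ hi
    obtain ⟨n, hn⟩ := IsPGroup.iff_card.1 R.isPGroup'
    have hrd : r ∣ Nat.card G := (dvd_mul_left r 2).trans (hQcard ▸ Subgroup.card_quotient_dvd_card O)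
    rcases n with _ | _ | n
    · exact absurd (Subgroup.card_eq_one.1 (by simpa using hn)) (R.ne_bot_of_dvd_card hrd)
    · simpa using hn
    · rw [hn, pow_succ, pow_succ, Nat.mul_dvd_mul_iff_right hrp.pos] at h1
      have h2 : r ∣ 2 := (dvd_mul_left r (r ^ n)).trans h1
      exact absurd ((Nat.prime_dvd_prime_iff_eq hrp Nat.prime_two).1 h2) hr
  set N := Subgroup.normalizer ((R : Subgroup G) : Set G) with hN'
  have hNO : ∀ n ∈ N, n ∈ O → n = 1 := fun n hn hnO => by
    rw [← Subgroup.mem_bot, ← hC]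
    refine Subgroup.mem_inf.2 ⟨hnO, Subgroup.mem_centralizer_iff.2 fun x hx => ?_⟩
    have h1 : n * x * n⁻¹ * x⁻¹ = 1 := hRO _ (mul_mem ((Subgroup.mem_normalizer_iff.1 hn x).1 hx) (inv_mem hx))
      (by have := mul_mem hnO (hN.conj_mem _ (inv_mem hnO) x); simpa [mul_assoc] using this)
    exact (mul_inv_eq_iff_eq_mul.1 (mul_inv_eq_one.1 h1)).symm
  have htop : N ⊔ O = ⊤ := by
    set M := ((R : Subgroup G).map π).comap π with hM
    haveI : ((R : Subgroup G).map π).Normal := by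
      refine Subgroup.normal_of_index_eq_two ?_
      have h1 := ((R : Subgroup G).map π).card_mul_index
      have h2 : Nat.card ↥((R : Subgroup G).map π) = r := by
        have hi : Function.Injective (π.subgroupMap (R : Subgroup G)) := by
          rw [injective_iff_map_eq_one]
          exact fun x hx => Subtype.ext (hRO x x.2 ((hker _).1 (congrArg Subtype.val hx)))
        refine Eq.trans ?_ hcard
        exact (Nat.card_congr (Equiv.ofBijective _ ⟨hi, π.subgroupMap_surjective _⟩)).symm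
      rw [hQcard, h2, mul_comm 2] at h1
      exact Nat.eq_of_mul_eq_mul_left hrp.pos h1
    haveI : M.Normal := Subgroup.Normal.comap inferInstance π
    have hRM : (R : Subgroup G) ≤ M := Subgroup.le_comap_map π _
    have h1 := Sylow.normalizer_sup_eq_top (N := M) (R.subtype hRM)
    have h2 : ((R.subtype hRM : Sylow r M) : Subgroup M).map M.subtype = R := by
      rw [Sylow.coe_subtype, Subgroup.map_subgroupOf_eq_of_le hRM]
    rw [h2] at h1
    rw [eq_top_iff, ← h1]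
    refine sup_le le_sup_left ?_
    rw [hM, Subgroup.comap_map_eq, hπ, QuotientGroup.ker_mk']
    exact sup_le (Subgroup.le_normalizer.trans le_sup_left) le_sup_right
  have hdec : ∀ g : G, ∃ t ∈ O, ∃ n ∈ N, t * n = g := fun g =>
    Subgroup.mem_sup_of_normal_left.1 (by rw [sup_comm, htop]; trivial)
  let π' : N →* G ⧸ O := π.comp N.subtype
  have hb : Function.Bijective π' := by
    refine ⟨by rw [injective_iff_map_eq_one]; exact fun n hn => Subtype.ext (hNO n n.2 ((hker _).1 hn)), fun q => ?_⟩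
    obtain ⟨g, rfl⟩ := QuotientGroup.mk'_surjective O q
    obtain ⟨t, ht, n, hn, rfl⟩ := hdec g
    exact ⟨⟨n, hn⟩, by rw [map_mul, (hker t).2 ht, one_mul]; rfl⟩
  let φ : N ≃* DihedralGroup r := (MulEquiv.ofBijective π' hb).trans e
  refine ⟨⟨φ⟩, ?_⟩
  have hφπ : ∀ n : N, φ n = e (π n) := fun _ => rfl
  have hinj : ∀ m ∈ N, ∀ n ∈ N, π m = π n → m = n := fun m hm n hn h =>
    congrArg Subtype.val (hb.1 (a₁ := (⟨m, hm⟩ : N)) (a₂ := ⟨n, hn⟩) h)
  have h2r : ((2 : ℕ) : ZMod r) ≠ 0 := fun h => hr ((Nat.prime_dvd_prime_iff_eq hrp Nat.prime_two).1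
    ((ZMod.natCast_eq_zero_iff _ _).1 h))
  -- reflections
  have hrefl : ∀ d : DihedralGroup r, orderOf d = 2 → ∃ i, d = DihedralGroup.sr i := by
    rintro (i | i) hd
    · haveI : NeZero r := ⟨hrp.ne_zero⟩
      rw [DihedralGroup.orderOf_r] at hd
      have h1 : 2 ∣ r := hd ▸ Nat.div_dvd_of_dvd (Nat.gcd_dvd_left r i.val)
      exact absurd ((Nat.prime_dvd_prime_iff_eq Nat.prime_two hrp).1 h1).symm hr
    · exact ⟨i, rfl⟩
  have hconj : ∀ i j : ZMod r, ∃ k, DihedralGroup.r k * DihedralGroup.sr i * (DihedralGroup.r k)⁻¹ = DihedralGroup.sr j := by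
    intro i j
    refine ⟨(((2 : ℕ) : ZMod r))⁻¹ * (i - j), ?_⟩
    rw [DihedralGroup.inv_r, DihedralGroup.r_mul_sr, DihedralGroup.sr_mul_r]
    congr 1
    calc i - ((2 : ℕ) : ZMod r)⁻¹ * (i - j) + -(((2 : ℕ) : ZMod r)⁻¹ * (i - j))
        = i - (((2 : ℕ) : ZMod r) * ((2 : ℕ) : ZMod r)⁻¹) * (i - j) := by push_cast; ring
      _ = j := by rw [mul_inv_cancel₀ h2r]; ring
  have horder : ∀ n : N, orderOf (n : G) = 2 → ∃ i, φ n = DihedralGroup.sr i := fun n hn =>
    hrefl _ (by rw [MulEquiv.orderOf_eq, ← Subgroup.orderOf_coe, hn])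
  intro a ha ha2
  obtain ⟨i, hi⟩ := horder ⟨a, ha⟩ ha2
  obtain ⟨xR, hx⟩ := exists_prime_orderOf_dvd_card' (G := (R : Subgroup G)) r (by rw [hcard])
  set x : G := (xR : G) with hxdef
  have hxo : orderOf x = r := by rw [hxdef, Subgroup.orderOf_coe, hx]
  have hxR : Subgroup.zpowers x = R := Subgroup.eq_of_le_of_card_ge (Subgroup.zpowers_le.2 xR.2)
    (by rw [Nat.card_zpowers, hxo, hcard])
  have hxN : x ∈ N := Subgroup.le_normalizer xR.2
  obtain ⟨j, hj⟩ : ∃ j, φ ⟨x, hxN⟩ = DihedralGroup.r j := by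
    have ho : orderOf (φ ⟨x, hxN⟩) = r := (orderOf_injective φ.toMonoidHom φ.injective _).trans (by rw [Subgroup.orderOf_mk, hxo])
    rcases hd : φ ⟨x, hxN⟩ with k | k
    · exact ⟨k, rfl⟩
    · rw [hd, DihedralGroup.orderOf_sr] at ho; exact absurd ho.symm hr
  -- a second involution
  set a' := a * x with ha'def
  have ha' : a' ∈ N := mul_mem ha hxN
  have hφa' : φ ⟨a', ha'⟩ = DihedralGroup.sr (i + j) := by
    rw [show (⟨a', ha'⟩ : N) = ⟨a, ha⟩ * ⟨x, hxN⟩ from rfl, map_mul, hi, hj, DihedralGroup.sr_mul_r]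
  have ha'2 : a' * a' = 1 := congrArg Subtype.val (show (⟨a', ha'⟩ : N) * ⟨a', ha'⟩ = 1 from
    φ.injective (by rw [map_mul, map_one, hφa', DihedralGroup.sr_mul_self]))
  have haa : a * a = 1 := by rw [← pow_two, ← ha2, pow_orderOf_eq_one]
  obtain ⟨k, hk⟩ := hconj i (i + j)
  obtain ⟨g, hg⟩ := φ.surjective (DihedralGroup.r k)
  have hga : (g : G) * a * (g : G)⁻¹ = a' := congrArg Subtype.val (show g * ⟨a, ha⟩ * g⁻¹ = (⟨a', ha'⟩ : N) from
    φ.injective (by rw [map_mul, map_mul, map_inv, hg, hi, hk, hφa']))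
  set C := O ⊓ Subgroup.centralizer ({a} : Set G) with hCdef
  set C' := O ⊓ Subgroup.centralizer ({a'} : Set G) with hC'def
  have hCC : Nat.card C' = Nat.card C := by
    have h1 : C.map (MulAut.conj (g : G)).toMonoidHom = C' := by
      ext y
      constructor
      · rintro ⟨c, hc, rfl⟩
        refine Subgroup.mem_inf.2 ⟨hN.conj_mem _ hc.1 g, Subgroup.mem_centralizer_singleton_iff.2 ?_⟩
        rw [← hga]
        have h1 := congrArg (fun w => (g : G) * w * (g : G)⁻¹) (Subgroup.mem_centralizer_singleton_iff.1 hc.2)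
        simpa [mul_assoc] using h1
      · intro hy
        refine ⟨(g : G)⁻¹ * y * g, Subgroup.mem_inf.2 ⟨hN.conj_mem' _ hy.1 g, Subgroup.mem_centralizer_singleton_iff.2 ?_⟩, by simp [mul_assoc]⟩
        have e1 : a = (g : G)⁻¹ * a' * g := by rw [← hga]; group
        rw [e1]
        have h1 := congrArg (fun w => (g : G)⁻¹ * w * g) (Subgroup.mem_centralizer_singleton_iff.1 hy.2)
        simpa [mul_assoc] using h1
    rw [← h1, Subgroup.card_map_of_injective (MulAut.conj (g : G)).injective]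
  have hle : Nat.card C * Nat.card C' ≤ Nat.card O := by
    rw [← Nat.card_prod]
    refine Nat.card_le_card_of_injective (fun p : C × C' => (⟨p.1 * p.2, mul_mem p.1.2.1 p.2.2.1⟩ : O)) ?_
    rintro ⟨c1, d1⟩ ⟨c2, d2⟩ h
    have h1 : (c1 : G) * d1 = c2 * d2 := congrArg Subtype.val h
    have h2 : (c2 : G)⁻¹ * c1 = d2 * (d1 : G)⁻¹ := by
      rw [eq_mul_inv_iff_mul_eq, mul_assoc, h1, inv_mul_cancel_left]
    have h3 : (c2 : G)⁻¹ * c1 = 1 := by
      rw [← Subgroup.mem_bot, ← hC]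
      have hmC : (c2 : G)⁻¹ * c1 ∈ C := mul_mem (inv_mem c2.2) c1.2
      have hmC' : (c2 : G)⁻¹ * c1 ∈ C' := h2 ▸ mul_mem d2.2 (inv_mem d1.2)
      refine Subgroup.mem_inf.2 ⟨hmC.1, ?_⟩
      rw [← hxR, Subgroup.zpowers_eq_closure, Subgroup.centralizer_closure, Subgroup.mem_centralizer_singleton_iff]
      have hx' : x = a * a' := by rw [ha'def, ← mul_assoc, haa, one_mul]
      rw [hx']
      exact (Commute.mul_right (Subgroup.mem_centralizer_singleton_iff.1 hmC.2 : Commute _ a)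
        (Subgroup.mem_centralizer_singleton_iff.1 hmC'.2 : Commute _ a')).eq
    have h4 : (c1 : G) = c2 := (inv_mul_eq_one.1 h3).symm
    exact Prod.ext (Subtype.ext h4) (Subtype.ext (mul_left_cancel ((congrArg (· * (d1 : G)) h4).symm.trans h1)))
  set S := {b : G // b * b = 1 ∧ π b = π a} with hSdef
  have hS : ∀ b : S, ∃ t : C', (b : G) = t * x * (t : G)⁻¹ * a'⁻¹ := by
    rintro ⟨b, hb2, hba⟩
    set z := b * a' with hz
    have hzπ : π z = π x := by
      rw [hz, map_mul, hba, ← map_mul, ha'def, ← mul_assoc, haa, one_mul]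
    have hzr : z ^ r ∈ O := by
      rw [← hker, map_pow, hzπ, ← map_pow, ← hxo, pow_orderOf_eq_one, map_one]
    obtain ⟨m, hm⟩ := IsPGroup.iff_orderOf.1 hO2 ⟨_, hzr⟩
    rw [Subgroup.orderOf_mk] at hm
    set w := z ^ 2 ^ m with hw
    have hwr : w ^ r = 1 := by rw [hw, ← pow_mul, mul_comm, pow_mul, ← hm, pow_orderOf_eq_one]
    have hw1 : w ≠ 1 := fun h => by
      have h1 : π x ^ 2 ^ m = 1 := by rw [← hzπ, ← map_pow, ← hw, h, map_one]
      have h2 : orderOf (π x) = r := orderOf_eq_prime (by rw [← map_pow, ← hxo, pow_orderOf_eq_one, map_one])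
        (fun h3 => hrp.ne_one (by rw [← hxo, hRO x xR.2 ((hker x).1 h3), orderOf_one]))
      have h3 := orderOf_dvd_of_pow_eq_one h1
      rw [h2] at h3
      exact hr ((Nat.prime_dvd_prime_iff_eq hrp Nat.prime_two).1 (hrp.dvd_of_dvd_pow h3))
    have hwp : IsPGroup r (Subgroup.zpowers w) := IsPGroup.of_card (n := 1)
      (by rw [Nat.card_zpowers, orderOf_eq_prime hwr hw1, pow_one])
    obtain ⟨Q, hQ⟩ := hwp.exists_le_sylow
    obtain ⟨h, hhQ⟩ := MulAction.exists_smul_eq G R Q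
    have hQR : (Q : Subgroup G) = (R : Subgroup G).map (MulAut.conj h).toMonoidHom := by rw [← hhQ]; rfl
    obtain ⟨r0, hr0, er0⟩ := hQR ▸ hQ (Subgroup.mem_zpowers w)
    have er0' : h * r0 * h⁻¹ = w := er0
    have hr01 : r0 ≠ 1 := fun e0 => hw1 (by rw [← er0', e0, mul_one, mul_inv_cancel])
    have hr0R : Subgroup.zpowers r0 = R := by
      refine Subgroup.eq_of_le_of_card_ge (Subgroup.zpowers_le.2 hr0) ?_
      have hd : orderOf r0 ∣ r := hcard ▸ Subgroup.orderOf_dvd_natCard _ hr0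
      rcases (Nat.dvd_prime hrp).1 hd with h1 | h1
      · exact absurd (orderOf_eq_one_iff.1 h1) hr01
      · rw [Nat.card_zpowers, h1, hcard]
    have hzr1 : z ^ r = 1 := by
      have h1 : h⁻¹ * z ^ r * h = 1 := by
        rw [← Subgroup.mem_bot, ← hC]
        refine Subgroup.mem_inf.2 ⟨hN.conj_mem' _ hzr h, ?_⟩
        rw [← hr0R, Subgroup.zpowers_eq_closure, Subgroup.centralizer_closure, Subgroup.mem_centralizer_singleton_iff]
        have h2 : z ^ r * w = w * z ^ r := (Commute.pow_pow_self z r (2 ^ m)).eq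
        rw [← er0'] at h2
        calc h⁻¹ * z ^ r * h * r0 = h⁻¹ * (z ^ r * (h * r0 * h⁻¹)) * h := by group
          _ = h⁻¹ * (h * r0 * h⁻¹ * z ^ r) * h := by rw [h2]
          _ = _ := by group
      calc z ^ r = h * (h⁻¹ * z ^ r * h) * h⁻¹ := by group
        _ = 1 := by rw [h1, mul_one, mul_inv_cancel]
    have hzw : Subgroup.zpowers w = Subgroup.zpowers z := by
      refine Subgroup.eq_of_le_of_card_ge (Subgroup.zpowers_le.2 (Subgroup.npow_mem_zpowers z _)) ?_
      rw [Nat.card_zpowers, Nat.card_zpowers, orderOf_eq_prime hwr hw1]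
      exact Nat.le_of_dvd hrp.pos (orderOf_dvd_of_pow_eq_one hzr1)
    obtain ⟨t, ht, n, hn, rfl⟩ := hdec h
    have hzR : Subgroup.zpowers z = (R : Subgroup G).map (MulAut.conj t).toMonoidHom := by
      have hzh : Subgroup.zpowers z = (R : Subgroup G).map (MulAut.conj (t * n)).toMonoidHom := by
        rw [← hzw, ← er0', ← hr0R, MonoidHom.map_zpowers]; rfl
      rw [hzh]
      ext y
      constructor
      · rintro ⟨q, hq, rfl⟩
        exact ⟨n * q * n⁻¹, (Subgroup.mem_normalizer_iff.1 hn q).1 hq, by simp [mul_assoc]⟩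
      · rintro ⟨q, hq, rfl⟩
        exact ⟨n⁻¹ * q * n, (Subgroup.mem_normalizer_iff''.1 hn q).1 hq, by simp [mul_assoc]⟩
    have hbinv : b⁻¹ = b := inv_eq_of_mul_eq_one_right hb2
    have hainv : a'⁻¹ = a' := inv_eq_of_mul_eq_one_right ha'2
    have hzconj : a' * z * a'⁻¹ = z⁻¹ := by
      rw [hz, mul_inv_rev b a', hbinv]
      calc a' * (b * a') * a'⁻¹ = a' * b := by group
        _ = a'⁻¹ * b := by rw [hainv]
    have hta : t⁻¹ * a' * t ∈ N := by
      rw [Subgroup.mem_normalizer_iff]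
      have key : ∀ q ∈ (R : Subgroup G), (t⁻¹ * a' * t) * q * (t⁻¹ * a' * t)⁻¹ ∈ (R : Subgroup G) := by
        intro q hq
        have h1 : t * q * t⁻¹ ∈ Subgroup.zpowers z := hzR ▸ ⟨q, hq, rfl⟩
        obtain ⟨l, hl⟩ := h1
        have h2 : a' * (t * q * t⁻¹) * a'⁻¹ ∈ Subgroup.zpowers z := by
          rw [show t * q * t⁻¹ = z ^ l from hl.symm, ← conj_zpow, hzconj, inv_zpow]
          exact inv_mem (Subgroup.zpow_mem_zpowers z l)
        rw [hzR] at h2
        obtain ⟨q', hq', eq'⟩ := h2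
        have eq'' : t * q' * t⁻¹ = a' * (t * q * t⁻¹) * a'⁻¹ := eq'
        have h3 : (t⁻¹ * a' * t) * q * (t⁻¹ * a' * t)⁻¹ = q' := by
          calc _ = t⁻¹ * (a' * (t * q * t⁻¹) * a'⁻¹) * t := by group
            _ = q' := by rw [← eq'']; group
        rw [h3]; exact hq'
      intro q
      refine ⟨key q, fun hq => ?_⟩
      have h1 := key _ hq
      have h2 : (t⁻¹ * a' * t) * (t⁻¹ * a' * t) = 1 := by
        calc _ = t⁻¹ * (a' * a') * t := by group
          _ = 1 := by rw [ha'2, mul_one, inv_mul_cancel]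
      have h3 : (t⁻¹ * a' * t)⁻¹ = t⁻¹ * a' * t := inv_eq_of_mul_eq_one_right h2
      have h4 : q = (t⁻¹ * a' * t) * ((t⁻¹ * a' * t) * q * (t⁻¹ * a' * t)) * (t⁻¹ * a' * t) := by
        calc q = ((t⁻¹ * a' * t) * (t⁻¹ * a' * t)) * q * ((t⁻¹ * a' * t) * (t⁻¹ * a' * t)) := by rw [h2]; group
          _ = _ := by group
      rw [h3] at h1
      rw [h4]; exact h1
    have htc : t⁻¹ * a' * t = a' := hinj _ hta _ ha' (by
      rw [map_mul, map_mul, map_inv, (hker t).2 ht, inv_one, one_mul, mul_one])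
    refine ⟨⟨t, Subgroup.mem_inf.2 ⟨ht, Subgroup.mem_centralizer_singleton_iff.2 ?_⟩⟩, ?_⟩
    · calc t * a' = t * (t⁻¹ * a' * t) := by rw [htc]
        _ = a' * t := by group
    · have h1 : z ∈ (R : Subgroup G).map (MulAut.conj t).toMonoidHom := hzR ▸ Subgroup.mem_zpowers z
      obtain ⟨q, hq, eq'⟩ := h1
      have eq'' : t * q * t⁻¹ = z := eq'
      have hqx : q = x := hinj _ (Subgroup.le_normalizer hq) _ hxN (by
        rw [← hzπ, ← eq'', map_mul, map_mul, map_inv, (hker t).2 ht, inv_one, one_mul, mul_one])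
      show b = t * x * t⁻¹ * a'⁻¹
      rw [← hqx, eq'', hz, mul_inv_cancel_right]
  haveI : Finite S := Subtype.finite
  have hSle : Nat.card S ≤ Nat.card C := by
    choose f hf using hS
    rw [← hCC]
    exact Nat.card_le_card_of_injective f fun b1 b2 h => Subtype.ext (by rw [hf b1, hf b2, h])
  set Csub := C.subgroupOf O with hCsub
  have hmem : ∀ t : O, ((t : G) * a * (t : G)⁻¹) * ((t : G) * a * (t : G)⁻¹) = 1 ∧ π ((t : G) * a * (t : G)⁻¹) = π a := fun t => by
    refine ⟨?_, by rw [map_mul, map_mul, map_inv, (hker _).2 t.2, inv_one, one_mul, mul_one]⟩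
    calc _ = (t : G) * (a * a) * (t : G)⁻¹ := by group
      _ = 1 := by rw [haa, mul_one, mul_inv_cancel]
  let Φ : O ⧸ Csub → S := Quotient.lift (fun t : O => ⟨_, hmem t⟩) (fun t1 t2 h => Subtype.ext (by
    have h1 := (QuotientGroup.leftRel_apply.1 h)
    have h2 := Subgroup.mem_centralizer_singleton_iff.1 (Subgroup.mem_subgroupOf.1 h1).2
    show (t1 : G) * a * (t1 : G)⁻¹ = t2 * a * (t2 : G)⁻¹
    have h3 : ((t1 : G)⁻¹ * t2) * a = a * ((t1 : G)⁻¹ * t2) := by simpa using h2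
    calc (t1 : G) * a * (t1 : G)⁻¹ = t1 * (a * ((t1 : G)⁻¹ * t2)) * (t2 : G)⁻¹ := by group
      _ = t1 * (((t1 : G)⁻¹ * t2) * a) * (t2 : G)⁻¹ := by rw [h3]
      _ = _ := by group))
  have hΦ : Function.Injective Φ := by
    intro q1 q2 h
    obtain ⟨t1, rfl⟩ := QuotientGroup.mk_surjective q1
    obtain ⟨t2, rfl⟩ := QuotientGroup.mk_surjective q2
    have h1 : (t1 : G) * a * (t1 : G)⁻¹ = t2 * a * (t2 : G)⁻¹ := congrArg Subtype.val h
    rw [QuotientGroup.eq, Subgroup.mem_subgroupOf, hCdef, Subgroup.mem_inf]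
    refine ⟨mul_mem (inv_mem t1.2) t2.2, Subgroup.mem_centralizer_singleton_iff.2 ?_⟩
    show (t1 : G)⁻¹ * t2 * a = a * ((t1 : G)⁻¹ * t2)
    calc (t1 : G)⁻¹ * t2 * a = (t1 : G)⁻¹ * (t2 * a * (t2 : G)⁻¹) * t2 := by group
      _ = (t1 : G)⁻¹ * (t1 * a * (t1 : G)⁻¹) * t2 := by rw [h1]
      _ = _ := by group
  have hidx : Nat.card C * Csub.index = Nat.card O := by
    have h1 := Csub.card_mul_index
    rwa [hCsub, Cfsg.Agent.Solv.card_subgroupOf (inf_le_left : C ≤ O)] at h1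
  have hidx2 : Csub.index ≤ Nat.card S := Nat.card_le_card_of_injective Φ hΦ
  have hpos : 0 < Nat.card C := Nat.card_pos
  rw [hCC] at hle
  have hge : Csub.index ≥ Nat.card C := Nat.le_of_mul_le_mul_left (hidx.symm ▸ hle) hpos
  have hEq : Csub.index = Nat.card S := le_antisymm hidx2 (hSle.trans hge)
  have hEq2 : Csub.index = Nat.card C := le_antisymm (hidx2.trans hSle) hge
  refine ⟨fun b hb hbO => ?_, by rw [pow_two, ← hidx, hEq2]⟩
  have hbb : b * b = 1 := by rw [← pow_two, ← hb, pow_orderOf_eq_one]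
  have hbπ : orderOf (e (π b)) = 2 := by
    have hb2' := pow_orderOf_eq_one b
    rw [hb] at hb2'
    refine orderOf_eq_prime (by rw [← map_pow, ← map_pow, hb2', map_one, map_one]) ?_
    exact fun h => hbO ((hker b).1 (e.injective (h.trans (map_one e).symm)))
  obtain ⟨l, hl⟩ := hrefl _ hbπ
  obtain ⟨k', hk'⟩ := hconj i l
  obtain ⟨g', hg'⟩ := φ.surjective (DihedralGroup.r k')
  have hb' : π ((g' : G)⁻¹ * b * g') = π a := e.injective (by
    rw [← hφπ ⟨a, ha⟩, map_mul, map_mul, map_mul, map_mul, map_inv, map_inv, hl, ← hφπ g', hg', hi, ← hk']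
    group)
  have hb'2 : ((g' : G)⁻¹ * b * g') * ((g' : G)⁻¹ * b * g') = 1 := by
    calc _ = (g' : G)⁻¹ * (b * b) * g' := by group
      _ = 1 := by rw [hbb, mul_one, inv_mul_cancel]
  have hsurj : Function.Surjective Φ := ((Nat.bijective_iff_injective_and_card Φ).2 ⟨hΦ, hEq⟩).2
  obtain ⟨q, hq⟩ := hsurj ⟨_, hb'2, hb'⟩
  obtain ⟨t, rfl⟩ := QuotientGroup.mk_surjective q
  have ht : (t : G) * a * (t : G)⁻¹ = (g' : G)⁻¹ * b * g' := congrArg Subtype.val hq
  exact ⟨(g' : G) * t, by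
    calc (g' : G) * t * a * ((g' : G) * t)⁻¹ = g' * ((t : G) * a * (t : G)⁻¹) * (g' : G)⁻¹ := by group
      _ = b := by rw [ht]; group⟩

end Cfsg.Agent.S2873
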