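import Cfsg.Statements.S2874
import Mathlib.LinearAlgebra.Matrix.GeneralLinearGroup.Card
import Mathlib.GroupTheory.SpecificGroups.Alternating
import Mathlib.Tactic
-- import your own Cfsg.Agent.* helpers here

set_option autoImplicit false
open Cfsg

namespace Cfsg.Agent.S2874

open Matrix

section Helpers

variable {S : Type*} [CommRing S]

/-- The element `x + y s` in the coordinates of `r` and `s`. -/
def coord (x₀ x₁ y₀ y₁ : S) : Matrix (Fin 2) (Fin 2) S :=
  !![x₀ - y₁, -x₁ + y₀; x₁ + y₀ - y₁, x₀ - x₁ + y₁]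

theorem coord_mul (a b c d a' b' c' d' : S) :
    coord a b c d * coord a' b' c' d' =
      coord (a * a' - b * b' + (c * (c' - d') + d * d'))
        (a * b' + b * a' - b * b' + (-(c * d') + d * (c' - d') + d * d'))
        (a * c' - b * d' + (c * (a' - b') + d * b'))
        (a * d' + b * c' - b * d' + (-(c * b') + d * (a' - b') + d * b')) := by
  ext i j
  fin_cases i <;> fin_cases j <;> simp [coord, Matrix.mul_apply, Fin.sum_univ_two] <;> ring

theorem coord_one : coord (1 : S) 0 0 0 = 1 := by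
  ext i j
  fin_cases i <;> fin_cases j <;> simp [coord]

theorem coord_inj (t : S) (ht : 3 * t = 1) {a b c d a' b' c' d' : S}
    (h : coord a b c d = coord a' b' c' d') : a = a' ∧ b = b' ∧ c = c' ∧ d = d' := by
  have h00 := congrFun (congrFun h 0) 0
  have h01 := congrFun (congrFun h 0) 1
  have h10 := congrFun (congrFun h 1) 0
  have h11 := congrFun (congrFun h 1) 1
  simp [coord] at h00 h01 h10 h11
  have e1 : b = b' := by
    linear_combination (2 * t) * h10 - (2 * t) * h01 - t * h00 + t * h11 - (b - b') * ht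
  have e3 : c = c' := by linear_combination h01 + e1
  have e4 : d = d' := by linear_combination e1 + e3 - h10
  exact ⟨by linear_combination h00 + e4, e1, e3, e4⟩

theorem coord_surj (t : S) (ht : 3 * t = 1) (m : Matrix (Fin 2) (Fin 2) S) :
    ∃ a b c d, m = coord a b c d := by
  set b := t * (2 * (m 1 0 - m 0 1) - (m 0 0 - m 1 1)) with hb
  set d := t * ((m 1 0 - m 0 1) - 2 * (m 0 0 - m 1 1)) with hd
  refine ⟨m 0 0 + d, b, m 0 1 + b, d, ?_⟩
  ext i j
  fin_cases i <;> fin_cases j <;> simp [coord, hb, hd]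
  · linear_combination (-(m 1 0 - m 0 1)) * ht
  · linear_combination (m 0 0 - m 1 1) * ht

/-- The rigid solutions. -/
theorem solve (t : S) (ht : 3 * t = 1) (m : Matrix (Fin 2) (Fin 2) S) (h1 : m * m = 1)
    (h2 : m * (coord 0 1 0 0 * m * coord (-1) (-1) 0 0) = (coord 0 1 0 0 * m * coord (-1) (-1) 0 0) * m)
    (h3 : coord (-1) (-1) 0 0 * m * coord 0 1 0 0 = m * (coord 0 1 0 0 * m * coord (-1) (-1) 0 0)) :
    ∃ c d, 2 * c = 0 ∧ 2 * d = 0 ∧ m = coord 1 0 c d := by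
  obtain ⟨a, b, c, d, rfl⟩ := coord_surj t ht m
  simp only [coord_mul] at h1 h2 h3
  rw [← coord_one] at h1
  obtain ⟨p1, p2, p3, p4⟩ := coord_inj t ht h1
  obtain ⟨q1, q2, q3, q4⟩ := coord_inj t ht h2
  obtain ⟨r1, r2, r3, r4⟩ := coord_inj t ht h3
  have hN : c * c - c * d + d * d = 0 := by linear_combination q1
  have ha : a = 1 := by linear_combination r1 + p1 - hN
  have hb : b = 0 := by linear_combination r2 + p2 + hN
  subst ha hb
  refine ⟨c, d, ?_, ?_, rfl⟩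
  · linear_combination p3
  · linear_combination p4

end Helpers

theorem a4_rel : ∀ ρ v : alternatingGroup (Fin 4), ρ * ρ * ρ = 1 → ρ ≠ 1 → v * v = 1 → v ≠ 1 →
    v * (ρ * v * ρ⁻¹) = (ρ * v * ρ⁻¹) * v ∧ ρ⁻¹ * v * ρ = v * (ρ * v * ρ⁻¹) := by
  decide +kernel

theorem a4_gen : ∀ ρ x : alternatingGroup (Fin 4), ρ * ρ * ρ = 1 → ρ ≠ 1 →
    ∃ v : alternatingGroup (Fin 4), v * v = 1 ∧ (x = v ∨ x = v * ρ ∨ x = v * ρ * ρ) := by
  decide +kernel

theorem a4_count : Nat.card {v : alternatingGroup (Fin 4) // v * v = 1} = 4 := by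
  rw [Nat.card_eq_fintype_card]
  decide +kernel

section Main

variable {k : ℕ}

local notation "GG" => GL (Fin 2) (ZMod (2 ^ k))

theorem three_inv (k : ℕ) : ∃ t : ZMod (2 ^ k), 3 * t = 1 := by
  have h : IsUnit ((3 : ℕ) : ZMod (2 ^ k)) :=
    (ZMod.isUnit_iff_coprime 3 (2 ^ k)).2 ((by norm_num : Nat.Coprime 3 2).pow_right k)
  obtain ⟨t, ht⟩ := isUnit_iff_exists_inv.1 h
  exact ⟨t, by simpa using ht⟩

theorem two_torsion (hk : 1 ≤ k) {z : ZMod (2 ^ k)} (h : 2 * z = 0) :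
    z = 0 ∨ z = ((2 ^ (k - 1) : ℕ) : ZMod (2 ^ k)) := by
  obtain ⟨n, rfl⟩ : ∃ n, k = n + 1 := ⟨k - 1, by omega⟩
  haveI : NeZero (2 ^ (n + 1)) := ⟨by positivity⟩
  rw [← ZMod.natCast_zmod_val z] at h ⊢
  rw [show (2 : ZMod (2 ^ (n + 1))) * (z.val : ZMod (2 ^ (n + 1))) = ((2 * z.val : ℕ) : ZMod (2 ^ (n + 1))) by
    push_cast; ring, ZMod.natCast_eq_zero_iff] at h
  have hlt := ZMod.val_lt z
  obtain ⟨c, hc⟩ := h
  have h2p : 2 ^ (n + 1) = 2 * 2 ^ n := by ring
  have hcv : z.val = 2 ^ n * c := by nlinarith [hc, h2p]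
  have hc2 : c < 2 := by nlinarith [hlt, hcv, h2p]
  interval_cases c <;> simp [hcv]

theorem ker_two_group (hk : 1 ≤ k) :
    IsPGroup 2 (Matrix.GeneralLinearGroup.map (n := Fin 2)
      (ZMod.castHom (dvd_pow_self 2 (by omega : k ≠ 0)) (ZMod 2))).ker := by
  haveI : NeZero (2 ^ k) := ⟨by positivity⟩
  rintro ⟨g, hg⟩
  refine ⟨k, ?_⟩
  have hb : ∃ b : Matrix (Fin 2) (Fin 2) (ZMod (2 ^ k)),
      (g : Matrix (Fin 2) (Fin 2) (ZMod (2 ^ k))) = 1 + (2 : ZMod (2 ^ k)) • b := by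
    have hent : ∀ i j, ∃ w : ZMod (2 ^ k), (g : Matrix (Fin 2) (Fin 2) (ZMod (2 ^ k))) i j =
        (1 : Matrix (Fin 2) (Fin 2) (ZMod (2 ^ k))) i j + 2 * w := by
      intro i j
      set z := (g : Matrix (Fin 2) (Fin 2) (ZMod (2 ^ k))) i j - (1 : Matrix (Fin 2) (Fin 2) (ZMod (2 ^ k))) i j
        with hz
      have h0 : (ZMod.castHom (dvd_pow_self 2 (by omega : k ≠ 0)) (ZMod 2)) z = 0 := by
        have e : (ZMod.castHom (dvd_pow_self 2 (by omega : k ≠ 0)) (ZMod 2))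
            ((g : Matrix (Fin 2) (Fin 2) (ZMod (2 ^ k))) i j) = (1 : Matrix (Fin 2) (Fin 2) (ZMod 2)) i j :=
          congrArg (fun x : GL (Fin 2) (ZMod 2) => (x : Matrix (Fin 2) (Fin 2) (ZMod 2)) i j) hg
        rw [hz, map_sub, e]
        by_cases hij : i = j <;> simp only [Matrix.one_apply, hij, if_true, if_false, map_one, map_zero, sub_self]
      rw [← ZMod.natCast_zmod_val z, map_natCast, ZMod.natCast_eq_zero_iff] at h0
      obtain ⟨w, hw⟩ := h0
      refine ⟨(w : ZMod (2 ^ k)), ?_⟩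
      rw [← sub_eq_iff_eq_add', ← hz, ← ZMod.natCast_zmod_val z, hw]
      push_cast
      ring
    choose w hw using hent
    exact ⟨Matrix.of w, by ext i j; simp [hw i j]⟩
  obtain ⟨b, hb⟩ := hb
  have key : ∀ j : ℕ, ∃ c : Matrix (Fin 2) (Fin 2) (ZMod (2 ^ k)),
      (g : Matrix (Fin 2) (Fin 2) (ZMod (2 ^ k))) ^ (2 ^ j) = 1 + ((2 : ZMod (2 ^ k)) ^ (j + 1)) • c := by
    intro j
    induction j with
    | zero => exact ⟨b, by simpa using hb⟩
    | succ j ih =>
      obtain ⟨c, hc⟩ := ih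
      refine ⟨c + (2 : ZMod (2 ^ k)) ^ j • (c * c), ?_⟩
      rw [pow_succ 2 j, pow_mul, hc, pow_two]
      simp only [add_mul, mul_add, one_mul, mul_one, smul_mul_assoc, mul_smul_comm, smul_smul]
      module
  obtain ⟨c, hc⟩ := key k
  have h2 : ((2 : ZMod (2 ^ k)) ^ (k + 1)) = 0 := by
    rw [show (2 : ZMod (2 ^ k)) ^ (k + 1) = ((2 ^ k : ℕ) : ZMod (2 ^ k)) * 2 by push_cast; ring,
      ZMod.natCast_self, zero_mul]
  rw [h2, zero_smul, add_zero] at hc
  exact Subtype.ext (Units.ext (by simpa using hc))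

theorem not_nine (hk : 1 ≤ k) : ¬ 3 ^ 2 ∣ Nat.card GG := by
  haveI : NeZero (2 ^ k) := ⟨by positivity⟩
  set f := Matrix.GeneralLinearGroup.map (n := Fin 2)
    (ZMod.castHom (dvd_pow_self 2 (by omega : k ≠ 0)) (ZMod 2)) with hf
  intro hd
  have h1 := f.ker.card_mul_index
  obtain ⟨n, hn⟩ := IsPGroup.iff_card.1 (ker_two_group (k := k) hk)
  have h2 : f.ker.index ∣ 6 := by
    rw [Subgroup.index_ker]
    refine (Subgroup.card_subgroup_dvd_card _).trans ?_
    haveI : Fact (Nat.Prime 2) := ⟨Nat.prime_two⟩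
    rw [Matrix.card_GL_field]
    simp [Fin.prod_univ_two]
  rw [← h1, hn] at hd
  have hcop : Nat.Coprime (3 ^ 2) (2 ^ n) := (by norm_num : Nat.Coprime (3 ^ 2) 2).pow_right n
  have h9 := (hcop.dvd_of_dvd_mul_left hd).trans h2
  exact absurd (Nat.le_of_dvd (by norm_num) h9) (by norm_num)

/-- The fixed element of order three. -/
def rot (k : ℕ) : GL (Fin 2) (ZMod (2 ^ k)) where
  val := coord 0 1 0 0
  inv := coord (-1) (-1) 0 0
  val_inv := by rw [coord_mul, ← coord_one]; congr 1 <;> ring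
  inv_val := by rw [coord_mul, ← coord_one]; congr 1 <;> ring

theorem rot_order (hk : 1 ≤ k) : orderOf (rot k) = 3 := by
  haveI : Fact (Nat.Prime 3) := ⟨Nat.prime_three⟩
  haveI : Fact (1 < 2 ^ k) := ⟨Nat.one_lt_two_pow (by omega)⟩
  refine orderOf_eq_prime ?_ ?_
  · apply Units.ext
    rw [Units.val_pow_eq_pow_val, Units.val_one, pow_succ, pow_two, ← coord_one]
    show coord 0 1 0 0 * coord 0 1 0 0 * coord 0 1 0 0 = _
    rw [coord_mul, coord_mul]
    congr 1 <;> ring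
  · intro h
    have := congrArg (fun x : GG => (x : Matrix (Fin 2) (Fin 2) (ZMod (2 ^ k))) 0 0) h
    simp [rot, coord] at this

theorem exists_conj_rot (hk : 1 ≤ k) (H : Subgroup GG) (h : Nonempty (↥H ≃* ↥(alternatingGroup (Fin 4)))) :
    ∃ g : GG, rot k ∈ H.map (MulAut.conj g).toMonoidHom := by
  haveI : NeZero (2 ^ k) := ⟨by positivity⟩
  haveI : Fact (Nat.Prime 3) := ⟨Nat.prime_three⟩
  obtain ⟨e⟩ := h
  have hd : 3 ∣ Nat.card H := by
    rw [Nat.card_congr e.toEquiv, nat_card_alternatingGroup, Nat.card_fin]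
    decide
  obtain ⟨x, hx⟩ := exists_prime_orderOf_dvd_card' (G := H) 3 hd
  have hxo : orderOf (x : GG) = 3 := by rw [Subgroup.orderOf_coe, hx]
  have syl : ∀ z : GG, orderOf z = 3 → ∃ P : Sylow 3 GG, (P : Subgroup GG) = Subgroup.zpowers z := by
    intro z hz
    obtain ⟨P, hP⟩ := (IsPGroup.of_card (n := 1) (by rw [Nat.card_zpowers, hz, pow_one]) :
      IsPGroup 3 (Subgroup.zpowers z)).exists_le_sylow
    refine ⟨P, (Subgroup.eq_of_le_of_card_ge hP ?_).symm⟩
    obtain ⟨n, hn⟩ := IsPGroup.iff_card.1 P.isPGroup'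
    rw [Nat.card_zpowers, hz, hn]
    by_contra hlt
    have h2 : 2 ≤ n := by
      by_contra h2
      interval_cases n <;> simp at hlt
    exact not_nine hk ((pow_dvd_pow 3 h2).trans (hn ▸ Subgroup.card_subgroup_dvd_card (P : Subgroup GG)))
  obtain ⟨P, hP⟩ := syl _ hxo
  obtain ⟨Q, hQ⟩ := syl _ (rot_order hk)
  obtain ⟨g, hg⟩ := MulAction.exists_smul_eq GG P Q
  refine ⟨g, ?_⟩
  have hm : rot k ∈ ((g • P : Sylow 3 GG) : Subgroup GG) := by
    rw [hg, hQ]; exact Subgroup.mem_zpowers _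
  rw [Sylow.coe_subgroup_smul] at hm
  obtain ⟨y, hy, he⟩ := hm
  rw [SetLike.mem_coe, hP] at hy
  exact ⟨y, (Subgroup.zpowers_le.2 x.2) hy, he⟩

theorem normal_form (hk : 1 ≤ k) (H : Subgroup GG) (h : Nonempty (↥H ≃* ↥(alternatingGroup (Fin 4))))
    (hr : rot k ∈ H) :
    {g : GG | g ∈ H ∧ g * g = 1} =
      {g : GG | ∃ c d, 2 * c = 0 ∧ 2 * d = 0 ∧ (g : Matrix (Fin 2) (Fin 2) (ZMod (2 ^ k))) = coord 1 0 c d} ∧
    H = Subgroup.closure (insert (rot k) {g : GG | g ∈ H ∧ g * g = 1}) := by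
  haveI : NeZero (2 ^ k) := ⟨by positivity⟩
  obtain ⟨e⟩ := h
  obtain ⟨t, ht⟩ := three_inv k
  set r : H := ⟨rot k, hr⟩ with hr'
  have hr3 : e r * e r * e r = 1 := by
    rw [← map_mul, ← map_mul]
    convert map_one e
    apply Subtype.ext
    have := pow_orderOf_eq_one (rot k)
    rw [rot_order hk, pow_succ, pow_two] at this
    exact this
  have hr1 : e r ≠ 1 := fun h1 => by
    have := congrArg Subtype.val ((map_eq_one_iff e e.injective).1 h1)
    have ho := rot_order (k := k) hk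
    rw [show rot k = 1 from this, orderOf_one] at ho
    omega
  refine ⟨?_, ?_⟩
  · have hsub : {g : GG | g ∈ H ∧ g * g = 1} ⊆
        {g : GG | ∃ c d, 2 * c = 0 ∧ 2 * d = 0 ∧
          (g : Matrix (Fin 2) (Fin 2) (ZMod (2 ^ k))) = coord 1 0 c d} := by
      rintro g ⟨hgH, hg2⟩
      rcases eq_or_ne g 1 with rfl | hg1
      · exact ⟨0, 0, mul_zero _, mul_zero _, by rw [Units.val_one, coord_one]⟩
      set v : H := ⟨g, hgH⟩
      have hv2 : e v * e v = 1 := by
        rw [← map_mul, show v * v = 1 from Subtype.ext hg2, map_one]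
      have hv1 : e v ≠ 1 := fun h1 =>
        hg1 (congrArg Subtype.val ((map_eq_one_iff e e.injective).1 h1))
      obtain ⟨q1, q2⟩ := a4_rel (e r) (e v) hr3 hr1 hv2 hv1
      simp only [← map_mul, ← map_inv, e.injective.eq_iff] at q1 q2
      have u1 := congrArg (fun x : H => (((x : GG)) : Matrix (Fin 2) (Fin 2) (ZMod (2 ^ k)))) q1
      have u2 := congrArg (fun x : H => (((x : GG)) : Matrix (Fin 2) (Fin 2) (ZMod (2 ^ k)))) q2
      simp [v, hr', rot] at u1 u2
      exact solve t ht _ (by rw [← Units.val_mul, hg2, Units.val_one]) u1 u2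
    refine Set.eq_of_subset_of_ncard_le hsub ?_ (Set.toFinite _)
    have h4 : {g : GG | g ∈ H ∧ g * g = 1}.ncard = 4 := by
      rw [← Nat.card_coe_set_eq, ← a4_count]
      refine Nat.card_congr ?_
      refine ⟨fun g => ⟨e ⟨g.1, g.2.1⟩, ?_⟩, fun v => ⟨(e.symm v.1 : GG), (e.symm v.1).2, ?_⟩, ?_, ?_⟩
      · rw [← map_mul, show (⟨g.1, g.2.1⟩ : H) * ⟨g.1, g.2.1⟩ = 1 from Subtype.ext g.2.2, map_one]
      · rw [← Subgroup.coe_mul, ← map_mul, v.2, map_one, Subgroup.coe_one]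
      · intro g; simp
      · intro v; simp
    rw [h4]
    set z : ZMod (2 ^ k) := ((2 ^ (k - 1) : ℕ) : ZMod (2 ^ k))
    have hinj : Set.InjOn (fun g : GG => (g : Matrix (Fin 2) (Fin 2) (ZMod (2 ^ k))))
        {g : GG | ∃ c d, 2 * c = 0 ∧ 2 * d = 0 ∧
          (g : Matrix (Fin 2) (Fin 2) (ZMod (2 ^ k))) = coord 1 0 c d} := fun _ _ _ _ h => Units.ext h
    refine (Set.ncard_le_ncard_of_injOn (t := ({coord 1 0 0 0, coord 1 0 0 z, coord 1 0 z 0, coord 1 0 z z} :
      Set (Matrix (Fin 2) (Fin 2) (ZMod (2 ^ k))))) _ ?_ hinj (Set.toFinite _)).trans ?_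
    · rintro g ⟨c, d, hc, hd, he⟩
      show (g : Matrix (Fin 2) (Fin 2) (ZMod (2 ^ k))) ∈ _
      rw [he]
      rcases two_torsion hk hc with rfl | rfl <;> rcases two_torsion hk hd with rfl | rfl <;> simp [z]
    · refine (Set.ncard_insert_le _ _).trans (Nat.succ_le_succ ((Set.ncard_insert_le _ _).trans
        (Nat.succ_le_succ ((Set.ncard_insert_le _ _).trans ?_))))
      simp
  · refine le_antisymm (fun g hg => ?_) ((Subgroup.closure_le _).2 ?_)
    · obtain ⟨v, hv, hor⟩ := a4_gen (e r) (e ⟨g, hg⟩) hr3 hr1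
      have hvm : ((e.symm v : H) : GG) ∈ Subgroup.closure (insert (rot k) {g : GG | g ∈ H ∧ g * g = 1}) :=
        Subgroup.subset_closure (Or.inr ⟨(e.symm v).2, by
          rw [← Subgroup.coe_mul, ← map_mul, hv, map_one, Subgroup.coe_one]⟩)
      have hrm : rot k ∈ Subgroup.closure (insert (rot k) {g : GG | g ∈ H ∧ g * g = 1}) :=
        Subgroup.subset_closure (Or.inl rfl)
      rcases hor with h | h | h
      · rw [← e.eq_symm_apply] at h
        rw [show g = ((e.symm v : H) : GG) from congrArg Subtype.val h]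
        exact hvm
      · rw [← e.eq_symm_apply, map_mul, e.symm_apply_apply] at h
        rw [show g = ((e.symm v : H) : GG) * rot k from congrArg Subtype.val h]
        exact mul_mem hvm hrm
      · rw [← e.eq_symm_apply, map_mul, map_mul, e.symm_apply_apply] at h
        rw [show g = ((e.symm v : H) : GG) * rot k * rot k from congrArg Subtype.val h]
        exact mul_mem (mul_mem hvm hrm) hrm
    · rintro g (rfl | hg)
      · exact hr
      · exact hg.1

end Main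


/-- For k ≥ 2, any two subgroups of GL₂(ℤ/2ᵏℤ) (the automorphism group of the homocyclic group ℤ/2ᵏ × ℤ/2ᵏ) that are isomorphic to the alternating group of degree 4 are conjugate. -/
theorem result (k : ℕ) (hk : 2 ≤ k) (H₁ H₂ : Subgroup (GL (Fin 2) (ZMod (2 ^ k)))) (h₁ : Nonempty (↥H₁ ≃* ↥(alternatingGroup (Fin 4)))) (h₂ : Nonempty (↥H₂ ≃* ↥(alternatingGroup (Fin 4)))) : ∃ g : GL (Fin 2) (ZMod (2 ^ k)), H₂ = H₁.map (MulAut.conj g).toMonoidHom := by
  skip
  classical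
  have hk1 : 1 ≤ k := by omega
  obtain ⟨g₁, hg₁⟩ := exists_conj_rot hk1 H₁ h₁
  obtain ⟨g₂, hg₂⟩ := exists_conj_rot hk1 H₂ h₂
  have hmap : ∀ (H : Subgroup (GL (Fin 2) (ZMod (2 ^ k)))) (g : GL (Fin 2) (ZMod (2 ^ k))),
      Nonempty (↥H ≃* ↥(alternatingGroup (Fin 4))) →
      Nonempty (↥(H.map (MulAut.conj g).toMonoidHom) ≃* ↥(alternatingGroup (Fin 4))) :=
    fun H g ⟨e⟩ => ⟨(H.equivMapOfInjective _ (MulAut.conj g).injective).symm.trans e⟩
  obtain ⟨s1, c1⟩ := normal_form hk1 _ (hmap H₁ g₁ h₁) hg₁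
  obtain ⟨s2, c2⟩ := normal_form hk1 _ (hmap H₂ g₂ h₂) hg₂
  rw [s1] at c1
  rw [s2, ← c1] at c2
  refine ⟨g₂⁻¹ * g₁, ?_⟩
  apply Subgroup.map_injective (f := (MulAut.conj g₂).toMonoidHom) (MulAut.conj g₂).injective
  rw [c2, Subgroup.map_map]
  congr 1
  ext x
  simp [mul_assoc]

end Cfsg.Agent.S2874
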