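import Cfsg.Statements.S2879
import Cfsg.Agent.Lib.Local.SL2Three
import Cfsg.Agent.Lib.Solv.Basic
import Cfsg.Agent.S1896
-- import your own Cfsg.Agent.* helpers here

set_option autoImplicit false
open Cfsg

namespace Cfsg.Agent.S2879

open Subgroup

theorem q8_a : ∃ zq : QuaternionGroup 2, zq * zq = 1 ∧ zq ≠ 1 ∧ ∀ a : QuaternionGroup 2, a * a = 1 → a = 1 ∨ a = zq :=
  ⟨QuaternionGroup.a 2, by decide +kernel, by decide +kernel, by decide +kernel⟩

theorem q8_b : ∀ a b : QuaternionGroup 2, a * a ≠ 1 → b ≠ 1 → b ≠ a → b ≠ a * a → b ≠ a * a * a →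
    b * b = a * a ∧ b * a = a ^ 3 * b := by decide +kernel

theorem q8_c : ∀ a b c : QuaternionGroup 2, a * a ≠ 1 → b * b ≠ 1 → b ≠ a → b ≠ a * a * a → c * c ≠ 1 →
    c ≠ a → c ≠ a * a * a → c ≠ b → c ≠ b * b * b → c = a * b ∨ c = b * a := by decide +kernel

theorem q8_d : ∀ a b : QuaternionGroup 2, a * a ≠ 1 → b * b ≠ 1 → b ≠ a → b ≠ a * a * a →
    ∀ g : QuaternionGroup 2, ∃ i : Fin 4, g = a ^ i.val ∨ g = a ^ i.val * b := by decide +kernel

theorem q8_e : ∀ a b : QuaternionGroup 2, a * a ≠ 1 → b * b ≠ 1 →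
    (b = a ∨ b = a * a * a ∨ (b ≠ a ∧ b ≠ a * a * a)) ∧ a * a * a * (a * a * a) ≠ 1 ∧
    a * (a * a * a) = 1 ∧ (∀ c : QuaternionGroup 2, c * c = 1 → c = 1 ∨ c = a * a) := by decide +kernel

set_option synthInstance.maxSize 2000 in
set_option synthInstance.maxHeartbeats 400000 in
theorem q_v4 : ∀ c a b : Multiplicative (ZMod 2) × Multiplicative (ZMod 2), c ≠ 1 → a ≠ 1 → a ≠ c →
    b ≠ 1 → b ≠ c → (b = a ∨ b = c * a) ∧ c * (c * a) = a := by decide +kernel

theorem odd_fix {G : Type*} [Group G] {f a : G} {k : ℕ} (hk : Odd k) (hf : f ^ k = 1)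
    (h2 : f * f * a * (f * f)⁻¹ = a) : f * a * f⁻¹ = a := by
  obtain ⟨m, rfl⟩ := hk
  have hc : Commute (f * f) a := mul_inv_eq_iff_eq_mul.1 h2
  have h3 : Commute f a := by
    have e : f = ((f * f) ^ m)⁻¹ := by
      refine eq_inv_of_mul_eq_one_left ?_
      rw [← pow_two, ← pow_mul, ← pow_succ', hf]
    rw [e]
    exact (hc.pow_left m).inv_left
  rw [h3.eq, mul_inv_cancel_right]

theorem orderOf_cases {G : Type*} [Group G] [Finite G] (T : Sylow 2 G) (hne : (T : Subgroup G) ≠ ⊤) :
    ∃ (f : G) (q : ℕ), q.Prime ∧ q ≠ 2 ∧ orderOf f = q := by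
  have hidx : (T : Subgroup G).index ≠ 1 := fun h => hne (index_eq_one.1 h)
  obtain ⟨q, hq, hqd⟩ := Nat.exists_prime_and_dvd hidx
  haveI := Fact.mk hq
  obtain ⟨f, hf⟩ := exists_prime_orderOf_dvd_card' q (hqd.trans (index_dvd_card _))
  exact ⟨f, q, hq, fun h => T.not_dvd_index (h ▸ hqd), hf⟩

theorem main {G : Type*} [Group G] [Finite G] [Group.IsSolvable G] (hO : Cfsg.oddCore G = ⊥) (T : Sylow 2 G)
    (hne : (T : Subgroup G) ≠ ⊤)
    (hZ : ((T : Subgroup G) ⊓ centralizer ((T : Subgroup G) : Set G)).Normal)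
    (x : ↥(T : Subgroup G)) (hx : 2 * orderOf x = Nat.card ↥(T : Subgroup G))
    (hnc : ¬ ∀ a b : ↥(T : Subgroup G), a * b = b * a) :
    ∃ U : Subgroup G, U.Normal ∧ Nonempty (↥U ≃* Matrix.SpecialLinearGroup (Fin 2) (ZMod 3)) := by
  classical
  haveI : Fact (Nat.Prime 2) := ⟨Nat.prime_two⟩
  set C := zpowers x with hC
  have hCi : C.index = 2 := by
    have h1 := C.card_mul_index
    rw [Nat.card_zpowers, ← hx, mul_comm 2] at h1
    exact Nat.eq_of_mul_eq_mul_left (orderOf_pos x) h1
  haveI hCn : C.Normal := Subgroup.normal_of_index_eq_two hCi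
  set Z := (T : Subgroup G) ⊓ centralizer ((T : Subgroup G) : Set G) with hZdef
  set Q := Cfsg.pCore 2 G with hQ
  haveI hQn : Q.Normal := by
    haveI := Cfsg.Agent.Solv.pCore_characteristic 2 G
    infer_instance
  have hQT : Q ≤ (T : Subgroup G) := Cfsg.Agent.Solv.pCore_le_sylow T
  have hCQ : centralizer (Q : Set G) ≤ Q := Cfsg.Agent.Solv.centralizer_pCore_le_of_isSolvable hO
  have hQp : IsPGroup 2 Q := Cfsg.Agent.Solv.isPGroup_pCore 2 G
  have hZC : ∀ w (hw : w ∈ Z), (⟨w, (mem_inf.1 hw).1⟩ : ↥(T : Subgroup G)) ∈ C := by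
    intro w hw
    by_contra h
    apply hnc
    set w' : ↥(T : Subgroup G) := ⟨w, (mem_inf.1 hw).1⟩ with hw'
    have hwc : ∀ a : ↥(T : Subgroup G), w' * a = a * w' := fun a =>
      Subtype.ext (mem_centralizer_iff.1 (mem_inf.1 hw).2 a a.2).symm
    have hgen : ∀ a : ↥(T : Subgroup G), a ∈ C ∨ a * w' ∈ C := by
      intro a
      by_cases ha : a ∈ C
      · exact Or.inl ha
      · exact Or.inr ((Subgroup.mul_mem_iff_of_index_two hCi).2 (iff_of_false ha h))
    have hCc : ∀ a ∈ C, ∀ b ∈ C, a * b = b * a := fun a ha b hb => by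
      obtain ⟨i, rfl⟩ := mem_zpowers_iff.1 ha
      obtain ⟨j, rfl⟩ := mem_zpowers_iff.1 hb
      exact ((Commute.refl x).zpow_zpow i j)
    intro a b
    have hone : ∀ a : ↥(T : Subgroup G), ∃ c ∈ C, ∀ d : ↥(T : Subgroup G),
        (Commute a d ↔ Commute c d) := by
      intro a
      rcases hgen a with h' | h'
      · exact ⟨a, h', fun d => Iff.rfl⟩
      · refine ⟨a * w', h', fun d => ⟨fun hd => hd.mul_left (hwc d), fun hd => ?_⟩⟩
        have := hd.mul_left (show Commute w'⁻¹ d from (show Commute w' d from hwc d).inv_left)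
        rwa [mul_inv_cancel_right] at this
    obtain ⟨ca, hca, ea⟩ := hone a
    obtain ⟨cb, hcb, eb⟩ := hone b
    exact (ea b).2 (((eb ca).2 (hCc cb hcb ca hca)).symm)
  obtain ⟨z, hzZ, hz2, hz1⟩ : ∃ z ∈ Z, z * z = 1 ∧ z ≠ 1 := by
    haveI : Nontrivial ↥(T : Subgroup G) := by
      by_contra h
      rw [not_nontrivial_iff_subsingleton] at h
      exact hnc fun a b => Subsingleton.elim _ _
    haveI := (T.isPGroup').center_nontrivial
    have hd : 2 ∣ Nat.card (center ↥(T : Subgroup G)) := by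
      obtain ⟨k, hk⟩ := IsPGroup.iff_card.1 (T.isPGroup'.to_subgroup (center ↥(T : Subgroup G)))
      rcases k with _ | k
      · exfalso
        have := Finite.one_lt_card (α := center ↥(T : Subgroup G))
        rw [hk] at this
        simp at this
      · rw [hk]; exact dvd_pow_self 2 k.succ_ne_zero
    obtain ⟨w, hw⟩ := exists_prime_orderOf_dvd_card' 2 hd
    refine ⟨((w : ↥(T : Subgroup G)) : G), mem_inf.2 ⟨w.1.2, mem_centralizer_iff.2 fun a ha =>
      congrArg Subtype.val (mem_center_iff.1 w.2 ⟨a, ha⟩)⟩, ?_, ?_⟩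
    · have h1 := pow_orderOf_eq_one w
      rw [hw, pow_two] at h1
      simpa using congrArg (fun v : center ↥(T : Subgroup G) => ((v : ↥(T : Subgroup G)) : G)) h1
    · intro h
      have : w = 1 := Subtype.ext (Subtype.ext h)
      rw [this, orderOf_one] at hw
      omega
  have hCu : ∀ a ∈ C, ∀ b ∈ C, a * a = 1 → b * b = 1 → a ≠ 1 → b ≠ 1 → a = b := by
    intro a ha b hb ha2 hb2 ha1 hb1
    obtain ⟨e, he⟩ : ∃ e, orderOf x = 2 ^ e := IsPGroup.iff_orderOf.1 T.isPGroup' x
    rcases e with _ | e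
    · rw [pow_zero, orderOf_eq_one_iff] at he
      rw [hC, he, Subgroup.zpowers_one_eq_bot, mem_bot] at ha
      exact absurd ha ha1
    rw [Cfsg.Agent.S1896.unique_involution he ha ha2 ha1, Cfsg.Agent.S1896.unique_involution he hb hb2 hb1]
  have hzg : ∀ g : G, g * z * g⁻¹ = z := by
    intro g
    have h1 := hZ.conj_mem z hzZ g
    exact congrArg Subtype.val (hCu _ (hZC _ h1) _ (hZC z hzZ)
      (Subtype.ext (show g * z * g⁻¹ * (g * z * g⁻¹) = 1 by
        rw [show g * z * g⁻¹ * (g * z * g⁻¹) = g * (z * z) * g⁻¹ by group, hz2]; group))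
      (Subtype.ext hz2) (fun h => hz1 (by simpa using congrArg Subtype.val h))
      (fun h => hz1 (congrArg Subtype.val h)))
  have hzQ : z ∈ Q := by
    haveI hzn : (zpowers z).Normal := ⟨fun w hw g => by
      obtain ⟨i, rfl⟩ := mem_zpowers_iff.1 hw
      rw [← conj_zpow, hzg]; exact hw⟩
    exact Cfsg.Agent.Solv.le_pCore (N := zpowers z) (T.isPGroup'.to_le (zpowers_le.2 (mem_inf.1 hzZ).1)) (mem_zpowers z)
  obtain ⟨f, q, hq, hq2, hf⟩ := orderOf_cases T hne
  have hqodd : Odd q := hq.odd_of_ne_two hq2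
  have hfk : f ^ q = 1 := hf ▸ pow_orderOf_eq_one f
  set φ : MulAut Q := MulAut.conjNormal f with hφ
  have hφ1 : φ ≠ 1 := by
    intro h
    have hfQ : f ∈ Q := hCQ (mem_centralizer_iff.2 fun a ha => by
      have h1 : f * a * f⁻¹ = a := congrArg Subtype.val (DFunLike.congr_fun (show MulAut.conjNormal f = (1 : MulAut Q) from h) (⟨a, ha⟩ : Q))
      calc a * f = f * a * f⁻¹ * f := by rw [h1]
        _ = _ := by group)
    obtain ⟨k, hk⟩ := IsPGroup.iff_orderOf.1 hQp ⟨f, hfQ⟩
    rw [← Subgroup.orderOf_coe, hf] at hk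
    exact hq2 ((Nat.prime_dvd_prime_iff_eq hq Nat.prime_two).1 (hq.dvd_of_dvd_pow (dvd_of_eq hk)))
  have hφo : orderOf φ = q := by
    haveI := Fact.mk hq
    exact orderOf_eq_prime (by rw [hφ, ← map_pow, hfk, map_one]) hφ1
  have hmet : Cfsg.IsMetacyclic Q := by
    let ι : Q →* ↥(T : Subgroup G) := Subgroup.inclusion hQT
    haveI hn : (C.comap ι).Normal := hCn.comap ι
    refine ⟨C.comap ι, hn, ?_, ?_⟩
    · let ψ : ↥(C.comap ι) →* C :=
        { toFun := fun a => ⟨ι a, a.2⟩, map_one' := rfl, map_mul' := fun _ _ => rfl }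
      exact isCyclic_of_injective ψ fun a b h =>
        Subtype.ext (Subgroup.inclusion_injective hQT (congrArg Subtype.val h))
    · have hd : (C.comap ι).index ∣ 2 := by
        refine dvd_trans ?_ (dvd_of_eq hCi)
        rw [Subgroup.index_comap]
        exact Subgroup.relIndex_dvd_index_of_normal C _
      rcases (Nat.dvd_prime Nat.prime_two).1 hd with h | h
      · haveI : Subsingleton (Q ⧸ C.comap ι) := (Nat.card_eq_one_iff_unique.1 (by rw [← index_eq_card]; exact h)).1
        infer_instance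
      · exact isCyclic_of_prime_card (p := 2) (by rw [← index_eq_card]; exact h)
  -- `Q` is quaternion
  rcases Cfsg.Agent.S1896.main hQp hmet φ hq hq2 hφo with hQ8 | ⟨n, ⟨en⟩⟩
  swap
  · exfalso
    rcases (show n = 0 ∨ n = 1 ∨ 2 ≤ n by omega) with rfl | rfl | hn
    · haveI : Subsingleton (Multiplicative (ZMod (2 ^ 0))) := inferInstanceAs (Subsingleton (Fin 1))
      haveI : Subsingleton Q := en.toEquiv.subsingleton
      exact hφ1 (MulEquiv.ext fun a => Subsingleton.elim _ _)
    · -- four-group: the fixed involution `z` forces `f` to act trivially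
      apply hφ1
      have key : ∀ c a b : Multiplicative (ZMod (2 ^ 1)) × Multiplicative (ZMod (2 ^ 1)), c ≠ 1 → a ≠ 1 → a ≠ c →
          b ≠ 1 → b ≠ c → (b = a ∨ b = c * a) ∧ c * (c * a) = a := q_v4
      have hzφ : φ ⟨z, hzQ⟩ = ⟨z, hzQ⟩ := Subtype.ext (hzg f)
      refine MulEquiv.ext fun a => ?_
      by_cases ha1 : a = 1
      · rw [ha1, map_one, map_one]
      by_cases ha2 : a = ⟨z, hzQ⟩
      · rw [ha2]; exact hzφ
      have hφa1 : φ a ≠ 1 := fun h => ha1 (φ.injective (h.trans (map_one φ).symm))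
      have hφa2 : φ a ≠ ⟨z, hzQ⟩ := fun h => ha2 (φ.injective (h.trans hzφ.symm))
      obtain ⟨h, hcc⟩ := key (en ⟨z, hzQ⟩) (en a) (en (φ a))
        (fun h => hz1 (congrArg Subtype.val (en.injective (h.trans (map_one en).symm))))
        (fun h => ha1 (en.injective (h.trans (map_one en).symm))) (fun h => ha2 (en.injective h))
        (fun h => hφa1 (en.injective (h.trans (map_one en).symm))) (fun h => hφa2 (en.injective h))
      rcases h with h | h
      · exact en.injective h
      · rw [← map_mul] at h hcc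
        rw [← map_mul] at hcc
        have h' := en.injective h
        have hcc' := en.injective hcc
        have h2 : φ (φ a) = a := by rw [h', map_mul, hzφ, h', hcc']
        refine Subtype.ext (odd_fix (f := f) (a := (a : G)) hqodd hfk ?_)
        have h3 : f * (f * (a : G) * f⁻¹) * f⁻¹ = a := congrArg Subtype.val h2
        conv_rhs => rw [← h3]
        group
    · -- too large to lie in a group with a cyclic subgroup of index two
      have hcard : Nat.card Q = 2 ^ n * 2 ^ n := by
        rw [Nat.card_congr en.toEquiv, Nat.card_prod]; simp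
      have hex : ∀ a : Q, a ^ 2 ^ n = 1 := fun a => en.injective (by
        rw [map_pow, map_one]
        ext <;> simp [← toAdd_eq_zero, ← Multiplicative.toAdd.injective.eq_iff])
      let ι : Q →* ↥(T : Subgroup G) := Subgroup.inclusion hQT
      have hd : (C.comap ι).index ∣ 2 := by
        refine dvd_trans ?_ (dvd_of_eq hCi)
        rw [Subgroup.index_comap]
        exact Subgroup.relIndex_dvd_index_of_normal C _
      let ψ : ↥(C.comap ι) →* C :=
        { toFun := fun a => ⟨ι a, a.2⟩, map_one' := rfl, map_mul' := fun _ _ => rfl }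
      haveI := isCyclic_of_injective ψ fun a b h =>
        Subtype.ext (Subgroup.inclusion_injective hQT (congrArg Subtype.val h))
      obtain ⟨g, hg⟩ := IsCyclic.exists_ofOrder_eq_natCard (α := ↥(C.comap ι))
      have hg' : orderOf g ∣ 2 ^ n := orderOf_dvd_of_pow_eq_one (Subtype.ext (hex g))
      rw [hg] at hg'
      have h1 := (C.comap ι).card_mul_index
      rw [hcard] at h1
      have h4 : 4 ≤ 2 ^ n := le_trans (by norm_num) (Nat.pow_le_pow_right two_pos hn)
      have := Nat.le_of_dvd (by omega) hg'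
      have := Nat.le_of_dvd two_pos hd
      nlinarith
  obtain ⟨e⟩ := hQ8
  obtain ⟨zq, hzq2, hzq1, hzqu⟩ := q8_a
  set c : G → Q → Q := fun g a => MulAut.conjNormal g a with hc
  have hez : e ⟨z, hzQ⟩ = zq := (hzqu _ (by rw [← map_mul, show (⟨z, hzQ⟩ : Q) * ⟨z, hzQ⟩ = 1 from Subtype.ext hz2,
    map_one])).resolve_left fun h => hz1 (congrArg Subtype.val (e.injective (h.trans (map_one e).symm)))
  have hord : ∀ a : Q, a * a ≠ 1 → e a * e a ≠ 1 := fun a h h' => h (e.injective (by rw [map_mul, h', map_one]))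
  have hsq : ∀ a : Q, a * a ≠ 1 → a * a = ⟨z, hzQ⟩ := fun a ha => by
    refine e.injective ?_
    rw [hez, map_mul]
    exact ((hzqu _ (by
      obtain ⟨-, -, h4, -⟩ := q8_e (e a) (e a) (hord a ha) (hord a ha)
      calc e a * e a * (e a * e a) = e a * (e a * e a * e a) := by group
        _ = 1 := h4)).resolve_left (hord a ha))
  have hcord : ∀ g (a : Q), a * a ≠ 1 → c g a * c g a ≠ 1 := fun g a h h' =>
    h ((MulAut.conjNormal g).injective (by rw [map_mul, map_one]; exact h'))
  -- elements fixed up to inversion by `f` are fixed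
  have hfix : ∀ a : Q, a * a ≠ 1 → (c f a = a ∨ c f a = a * a * a) → c f a = a := by
    intro a ha h
    rcases h with h | h
    · exact h
    have h1 : a * a * a = a⁻¹ := eq_inv_of_mul_eq_one_right (e.injective (by
      rw [map_mul, map_mul, map_mul, map_one]; exact (q8_e (e a) (e a) (hord a ha) (hord a ha)).2.2.1))
    rw [h1] at h
    have h' : f * (a : G) * f⁻¹ = (a : G)⁻¹ := congrArg Subtype.val h
    refine Subtype.ext (odd_fix hqodd hfk ?_)
    calc f * f * (a : G) * (f * f)⁻¹ = f * (f * a * f⁻¹) * f⁻¹ := by group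
      _ = (f * a * f⁻¹)⁻¹ := by rw [h', ← conj_inv]; rw [h']
      _ = a := by rw [h', inv_inv]
  have hxq : ∃ a : Q, a * a ≠ 1 ∧ c f a ≠ a ∧ c f a ≠ a * a * a := by
    by_contra h
    push Not at h
    apply hφ1
    refine MulEquiv.ext fun a => ?_
    show c f a = a
    by_cases ha : a * a = 1
    · rcases hzqu (e a) (by rw [← map_mul, ha, map_one]) with h' | h'
      · rw [show a = 1 from e.injective (h'.trans (map_one e).symm)]; exact map_one _
      · rw [show a = ⟨z, hzQ⟩ from e.injective (h'.trans hez.symm)]; exact Subtype.ext (hzg f)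
    · by_cases hca : c f a = a
      · exact hca
      · exact hfix a ha (Or.inr (h a ha hca))
  obtain ⟨a, ha, hab1, hab2⟩ := hxq
  set b := c f a with hbdef
  have hb : b * b ≠ 1 := hcord f a ha
  set d := c f b with hddef
  have hd : d * d ≠ 1 := hcord f b hb
  have hcube : ∀ g (u : Q), c g (u * u * u) = c g u * c g u * c g u := fun g u => by
    show MulAut.conjNormal g (u * u * u) = _
    rw [map_mul, map_mul]
  have hinj : ∀ g, Function.Injective (c g) := fun g => (MulAut.conjNormal g).injective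
  have hdb1 : d ≠ b := fun h => hab1 (hinj f h)
  have hdb2 : d ≠ b * b * b := fun h => hab2 (hinj f (h.trans (hcube f a).symm))
  have hff : ∀ u : Q, c f (c f u) = u → c f u = u := fun u hu => by
    refine Subtype.ext (odd_fix hqodd hfk ?_)
    have h' : f * (f * (u : G) * f⁻¹) * f⁻¹ = u := congrArg Subtype.val hu
    calc f * f * (u : G) * (f * f)⁻¹ = f * (f * u * f⁻¹) * f⁻¹ := by group
      _ = u := h'
  have hda1 : d ≠ a := fun h => hab1 (hff a h)
  have hda2 : d ≠ a * a * a := by
    intro h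
    have h4 : c f (c f (c f (c f a))) = a := by
      rw [← hbdef, ← hddef, h, hcube, hcube, ← hbdef, ← hddef, h]
      exact e.injective (by
        have := (q8_e (e a) (e a) (hord a ha) (hord a ha)).2.2.1
        have h4 : e a * e a * (e a * e a) = 1 := by rw [← this]; group
        simp only [map_mul]
        calc e a * e a * e a * (e a * e a * e a) * (e a * e a * e a)
            = (e a * e a * (e a * e a)) * (e a * e a * (e a * e a)) * e a := by group
          _ = _ := by rw [h4, one_mul, one_mul])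
    have h4' : f * f * (f * f) * (a : G) * (f * f * (f * f))⁻¹ = a := by
      have h' : f * (f * (f * (f * (a : G) * f⁻¹) * f⁻¹) * f⁻¹) * f⁻¹ = a := congrArg Subtype.val h4
      conv_rhs => rw [← h']
      group
    have h2 := odd_fix (f := f * f) (a := (a : G)) hqodd (by rw [← pow_two, ← pow_mul, mul_comm, pow_mul, hfk, one_pow])
      (by rw [show f * f * (f * f) * (a : G) * (f * f * (f * f))⁻¹ = a from h4'])
    exact hda1 (Subtype.ext (by
      show f * (f * (a : G) * f⁻¹) * f⁻¹ = a
      conv_rhs => rw [← h2]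
      group))
  have hq8 := q8_c (e a) (e b) (e d) (hord a ha) (hord b hb)
    (fun h => hab1 (e.injective h)) (fun h => hab2 (e.injective (by rw [h, map_mul, map_mul])))
    (hord d hd) (fun h => hda1 (e.injective h)) (fun h => hda2 (e.injective (by rw [h, map_mul, map_mul])))
    (fun h => hdb1 (e.injective h)) (fun h => hdb2 (e.injective (by rw [h, map_mul, map_mul])))
  -- choose the generators
  obtain ⟨a, b, ha, hb, hab1, hab2, hfa, hfb⟩ : ∃ a b : Q, a * a ≠ 1 ∧ b * b ≠ 1 ∧ b ≠ a ∧ b ≠ a * a * a ∧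
      c f a = b ∧ c f b = a * b := by
    rcases hq8 with h | h
    · exact ⟨a, b, ha, hb, hab1, hab2, rfl, e.injective (by rw [map_mul]; exact h)⟩
    · refine ⟨a⁻¹, b⁻¹, ?_, ?_, fun h' => hab1 (inv_injective h'), ?_, ?_, ?_⟩
      · rw [← mul_inv_rev]; exact inv_ne_one.2 ha
      · rw [← mul_inv_rev]; exact inv_ne_one.2 hb
      · intro h'
        apply hab2
        rw [show b = (b⁻¹)⁻¹ from (inv_inv b).symm, h', mul_inv_rev, mul_inv_rev, inv_inv, mul_assoc]
      · show MulAut.conjNormal f a⁻¹ = b⁻¹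
        rw [map_inv, show MulAut.conjNormal f a = b from rfl]
      · show MulAut.conjNormal f b⁻¹ = a⁻¹ * b⁻¹
        rw [map_inv, ← mul_inv_rev]
        exact congrArg (·⁻¹) (e.injective (by rw [map_mul]; exact h))
  have hQcard : Nat.card Q = 8 := by rw [Nat.card_congr e.toEquiv, Nat.card_eq_fintype_card]; rfl
  -- `f` has order three
  have hf3 : f ^ 3 = 1 := by
    have h1 : c f (c f (c f a)) = a := by
      rw [hfa, hfb]
      show MulAut.conjNormal f (a * b) = a
      rw [map_mul, show MulAut.conjNormal f a = b from hfa, show MulAut.conjNormal f b = a * b from hfb]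
      obtain ⟨h1, h2⟩ := q8_b (e a) (e b) (hord a ha)
        (fun h => hb (e.injective (by rw [map_mul, map_one, h, one_mul]))) (fun h => hab1 (e.injective h))
        (fun h => hb (e.injective (by
          rw [map_mul, map_one, h]
          exact (q8_e (e a) (e a) (hord a ha) (hord a ha)).2.2.1.symm ▸ (by group))))
        (fun h => hab2 (e.injective (by rw [h, map_mul, map_mul])))
      refine e.injective ?_
      rw [map_mul, map_mul, ← mul_assoc, h2, mul_assoc, h1]
      have := (q8_e (e a) (e a) (hord a ha) (hord a ha)).2.2.1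
      calc e a ^ 3 * (e a * e a) = (e a * (e a * e a * e a)) * e a := by simp only [pow_succ, pow_zero, one_mul, mul_assoc]
        _ = e a := by rw [this, one_mul]
    have h3 : f ^ 3 * (a : G) * (f ^ 3)⁻¹ = a := by
      have h' : f * (f * (f * (a : G) * f⁻¹) * f⁻¹) * f⁻¹ = a := congrArg Subtype.val h1
      conv_rhs => rw [← h']
      simp only [pow_succ, pow_zero, one_mul, mul_assoc, mul_inv_rev]
    by_contra hne3
    have hq3 : ¬ q ∣ 3 := fun h => hne3 (orderOf_dvd_iff_pow_eq_one.1 (hf ▸ h))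
    have hcop : Nat.Coprime 3 q := ((hq.coprime_iff_not_dvd).2 hq3).symm
    obtain ⟨m, hm⟩ := exists_pow_eq_self_of_coprime (x := f) (n := 3) (hf.symm ▸ hcop)
    have hfa' : f * (a : G) * f⁻¹ = a := by
      have hc3 : Commute (f ^ 3) (a : G) := mul_inv_eq_iff_eq_mul.1 h3
      have := hc3.pow_left m
      rw [hm] at this
      rw [this.eq, mul_inv_cancel_right]
    exact hab1 (hfa.symm.trans (Subtype.ext hfa'))
  -- `U = Q ⟨f⟩`
  set U := Q ⊔ zpowers f with hUdef
  have hfU : f ∈ U := mem_sup_right (mem_zpowers f)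
  have hq3 : orderOf f = 3 := by
    rw [hf]
    exact (Nat.prime_dvd_prime_iff_eq hq Nat.prime_three).1 (hf ▸ orderOf_dvd_of_pow_eq_one hf3)
  have hUcard : Nat.card U = 24 := by
    have h0 := Cfsg.Agent.Solv.card_sup_mul_card_inf Q (zpowers f) le_normalizer_of_normal
    rw [Cfsg.Agent.Solv.inf_eq_bot_of_coprime_card Q (zpowers f) (by rw [hQcard, Nat.card_zpowers, hq3]; norm_num),
      card_bot, mul_one, hQcard, Nat.card_zpowers, hq3] at h0
    exact h0
  refine ⟨U, ?_, ?_⟩
  · -- index at most two, as `G / Q` embeds in `S₃`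
    haveI hZn : (zpowers (⟨z, hzQ⟩ : Q)).Normal := ⟨fun w hw g => by
      obtain ⟨i, rfl⟩ := mem_zpowers_iff.1 hw
      rw [← conj_zpow, show g * (⟨z, hzQ⟩ : Q) * g⁻¹ = ⟨z, hzQ⟩ from Subtype.ext (hzg g)]
      exact hw⟩
    let A := Q ⧸ zpowers (⟨z, hzQ⟩ : Q)
    have hzo : orderOf (⟨z, hzQ⟩ : Q) = 2 := orderOf_eq_prime (Subtype.ext (by rw [SubgroupClass.coe_pow, pow_two]; exact hz2))
      (fun h => hz1 (congrArg Subtype.val h))
    have hA : Nat.card A = 4 := by
      have h0 := (zpowers (⟨z, hzQ⟩ : Q)).card_mul_index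
      rw [Nat.card_zpowers, hzo, hQcard, index_eq_card] at h0
      have h0' : 2 * Nat.card A = 8 := h0
      omega
    have hpres : ∀ g : G, (zpowers (⟨z, hzQ⟩ : Q)).map (MulAut.conjNormal g : MulAut Q).toMonoidHom = zpowers ⟨z, hzQ⟩ := by
      intro g
      rw [MonoidHom.map_zpowers]
      congr 1
      exact Subtype.ext (hzg g)
    let π : G →* MulAut A :=
      { toFun := fun g => QuotientGroup.congr _ _ (MulAut.conjNormal g) (hpres g)
        map_one' := by
          ext a; induction a using QuotientGroup.induction_on with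
          | _ a => simp [A]
        map_mul' := fun g k => by
          ext a; induction a using QuotientGroup.induction_on with
          | _ a =>
            show (((MulAut.conjNormal (g * k) : MulAut Q) a : Q) : A) = _
            rw [map_mul]; rfl }
    let σ : MulAut A →* Equiv.Perm {v : A // v ≠ 1} :=
      { toFun := fun α => (MulEquiv.toEquiv α).subtypeEquiv fun v => (map_ne_one_iff α α.injective).symm
        map_one' := rfl
        map_mul' := fun _ _ => rfl }
    have hσ : Function.Injective σ := by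
      intro α β h
      ext v
      by_cases hv : v = 1
      · rw [hv, map_one, map_one]
      · exact congrArg Subtype.val (Equiv.congr_fun h ⟨v, hv⟩)
    have hker : (σ.comp π).ker ≤ Q := by
      haveI : ((σ.comp π).ker).Normal := MonoidHom.normal_ker _
      refine Cfsg.Agent.Solv.le_pCore ?_
      intro g
      obtain ⟨k, m, hm, hkm⟩ : ∃ k m : ℕ, ¬ 2 ∣ m ∧ orderOf (g : G) = 2 ^ k * m :=
        Nat.exists_eq_pow_mul_and_not_dvd (orderOf_pos _).ne' 2 (by norm_num)
      refine ⟨k, Subtype.ext ?_⟩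
      rw [SubgroupClass.coe_pow, OneMemClass.coe_one]
      set w := (g : G) ^ 2 ^ k with hw
      have hwm : w ^ m = 1 := by rw [hw, ← pow_mul, ← hkm, pow_orderOf_eq_one]
      have hπw : π w = 1 := hσ (by
        rw [map_one]
        exact (σ.comp π).mem_ker.1 (pow_mem g.2 _))
      have hwQ : w ∈ Q := by
        refine hCQ (mem_centralizer_iff.2 fun u hu => ?_)
        have h1 : ((MulAut.conjNormal w ⟨u, hu⟩ : Q) : A) = ((⟨u, hu⟩ : Q) : A) :=
          DFunLike.congr_fun hπw ((⟨u, hu⟩ : Q) : A)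
        rw [QuotientGroup.eq] at h1
        obtain ⟨i, hi⟩ := mem_zpowers_iff.1 h1
        have h2 : w * w * u * (w * w)⁻¹ = u := by
          have hi' : z ^ i = (w * u * w⁻¹)⁻¹ * u := by simpa using congrArg Subtype.val hi
          have e1 : w * u * w⁻¹ = u * (z ^ i)⁻¹ := by rw [hi']; group
          have e2 : w * z ^ i * w⁻¹ = z ^ i := by rw [← conj_zpow, hzg]
          have e3 : z ^ i * z ^ i = 1 := by
            rw [← zpow_add, ← two_mul, zpow_mul, zpow_two, hz2, one_zpow]
          calc w * w * u * (w * w)⁻¹ = w * (w * u * w⁻¹) * w⁻¹ := by group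
            _ = w * (u * (z ^ i)⁻¹) * w⁻¹ := by rw [e1]
            _ = (w * u * w⁻¹) * (w * z ^ i * w⁻¹)⁻¹ := by group
            _ = u * (z ^ i * z ^ i)⁻¹ := by rw [e2, e1]; group
            _ = u := by rw [e3, inv_one, mul_one]
        have h3 := odd_fix (Nat.odd_iff.2 (Nat.two_dvd_ne_zero.1 hm)) hwm h2
        exact (mul_inv_eq_iff_eq_mul.1 h3).symm
      obtain ⟨j, hj⟩ := IsPGroup.iff_orderOf.1 hQp ⟨w, hwQ⟩
      rw [← Subgroup.orderOf_coe] at hj
      rw [← orderOf_eq_one_iff]
      exact Nat.eq_one_of_dvd_coprimes (Nat.Coprime.pow_left j ((Nat.prime_two.coprime_iff_not_dvd).2 hm))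
        (dvd_of_eq hj) (orderOf_dvd_of_pow_eq_one hwm)
    have hGc : Nat.card G ∣ 8 * 6 := by
      have h0 := (σ.comp π).ker.card_mul_index
      rw [← h0, Subgroup.index_ker]
      refine mul_dvd_mul (hQcard ▸ Subgroup.card_dvd_of_le hker) ?_
      refine (Subgroup.card_subgroup_dvd_card _).trans (dvd_of_eq ?_)
      haveI := Fintype.ofFinite A
      rw [Nat.card_perm, Nat.card_eq_fintype_card, Fintype.card_subtype_compl, Fintype.card_subtype_eq,
        ← Nat.card_eq_fintype_card, hA]
      rfl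
    have hUi : U.index ∣ 2 := by
      have h0 := U.card_mul_index
      rw [hUcard] at h0
      rw [← h0] at hGc
      exact Nat.dvd_of_mul_dvd_mul_left (by norm_num : 0 < 24) hGc
    rcases (Nat.dvd_prime Nat.prime_two).1 hUi with h | h
    · rw [index_eq_one.1 h]; infer_instance
    · exact Subgroup.normal_of_index_eq_two h
  · have haU : (a : G) ∈ U := mem_sup_left a.2
    have hbU : (b : G) ∈ U := mem_sup_left b.2
    set X : U := ⟨a, haU⟩
    set Y : U := ⟨b, hbU⟩
    set F : U := ⟨f, hfU⟩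
    obtain ⟨hb2, hba⟩ := q8_b (e a) (e b) (hord a ha)
      (fun h => hb (e.injective (by rw [map_mul, map_one, h, one_mul]))) (fun h => hab1 (e.injective h))
      (fun h => hb (e.injective (by
        rw [map_mul, map_one, h]
        exact (q8_e (e a) (e a) (hord a ha) (hord a ha)).2.2.1.symm ▸ (by group))))
      (fun h => hab2 (e.injective (by rw [h, map_mul, map_mul])))
    have hrel : Cfsg.Agent.Local.SL2Three.Rels X Y F := by
      refine ⟨?_, ?_, ?_, ?_, ?_, ?_⟩
      · have : a ^ 4 = 1 := e.injective (by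
          rw [map_pow, map_one]
          calc e a ^ 4 = e a * (e a * e a * e a) := by simp only [pow_succ, pow_zero, one_mul, mul_assoc]
            _ = 1 := (q8_e (e a) (e a) (hord a ha) (hord a ha)).2.2.1)
        exact Subtype.ext (congrArg Subtype.val this :)
      · have : b * b = a * a := e.injective (by rw [map_mul, map_mul, hb2])
        exact Subtype.ext (congrArg Subtype.val this :)
      · have : b * a = a ^ 3 * b := e.injective (by rw [map_mul, map_mul, map_pow, hba])
        exact Subtype.ext (congrArg Subtype.val this :)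
      · exact Subtype.ext hf3
      · refine Subtype.ext ?_
        show f * (a : G) = (b : G) * f
        rw [← hfa]
        show _ = f * (a : G) * f⁻¹ * f
        group
      · refine Subtype.ext ?_
        show f * (b : G) = (a : G) * (b : G) * f
        rw [← Subgroup.coe_mul, ← hfb]
        show _ = f * (b : G) * f⁻¹ * f
        group
    refine Cfsg.Agent.Local.SL2Three.nonempty_equiv hrel ?_ hUcard
    rintro ⟨u, hu⟩
    rw [hUdef, ← SetLike.mem_coe, Subgroup.normal_mul] at hu
    obtain ⟨w, hw, v, hv, rfl⟩ := hu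
    obtain ⟨k, hk : f ^ k = v⟩ := mem_powers_iff_mem_zpowers.2 hv
    obtain ⟨i, hi⟩ := q8_d (e a) (e b) (hord a ha) (hord b hb) (fun h => hab1 (e.injective h))
      (fun h => hab2 (e.injective (by rw [h, map_mul, map_mul]))) (e ⟨w, hw⟩)
    have hfk' : f ^ (k % 3) = v := by rw [← hk, ← pow_eq_pow_mod k hf3]
    rcases hi with hi | hi
    · refine ⟨(i, 0, ⟨k % 3, Nat.mod_lt _ three_pos⟩), Subtype.ext ?_⟩
      rw [← map_pow] at hi
      have := congrArg Subtype.val (e.injective hi)
      show (a : G) ^ i.val * (b : G) ^ 0 * f ^ (k % 3) = w * v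
      rw [pow_zero, mul_one, hfk']
      simpa using congrArg (· * v) this.symm
    · refine ⟨(i, 1, ⟨k % 3, Nat.mod_lt _ three_pos⟩), Subtype.ext ?_⟩
      rw [← map_pow, ← map_mul] at hi
      have := congrArg Subtype.val (e.injective hi)
      show (a : G) ^ i.val * (b : G) ^ 1 * f ^ (k % 3) = w * v
      rw [pow_one, hfk']
      simpa using congrArg (· * v) this.symm


/-- Let G be a finite solvable group with O(G) = 1 whose Sylow 2-subgroup T is dihedral of order at least 8 or semidihedral, with G ≠ T and Z(T) normal in G. Then G has a normal subgroup isomorphic to SL₂(3). -/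
theorem result {G : Type*} [Group G] [Finite G] (hsol : IsSolvable G) (hO : Cfsg.oddCore G = ⊥) (T : Sylow 2 G) (hT : (∃ n : ℕ, 4 ≤ n ∧ Nonempty (↥(T : Subgroup G) ≃* DihedralGroup n)) ∨ Cfsg.IsQuasiDihedral ↥(T : Subgroup G)) (hne : (T : Subgroup G) ≠ ⊤) (hZ : ((T : Subgroup G) ⊓ Subgroup.centralizer ((T : Subgroup G) : Set G)).Normal) : ∃ U : Subgroup G, U.Normal ∧ Nonempty (↥U ≃* Matrix.SpecialLinearGroup (Fin 2) (ZMod 3)) := by
  skip
  classical
  haveI : Group.IsSolvable G := hsol
  have hT' : (∃ x : ↥(T : Subgroup G), 2 * orderOf x = Nat.card ↥(T : Subgroup G)) ∧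
      ¬ ∀ a b : ↥(T : Subgroup G), a * b = b * a := by
    rcases hT with ⟨n, hn, ⟨e⟩⟩ | ⟨n, hn, hc, x, y, hx, hy, hyx⟩
    · haveI : NeZero n := ⟨by omega⟩
      refine ⟨⟨e.symm (DihedralGroup.r 1), ?_⟩, fun h => ?_⟩
      · rw [MulEquiv.orderOf_eq, DihedralGroup.orderOf_r_one, Nat.card_congr e.toEquiv, DihedralGroup.nat_card]
      · have h1 := congrArg e (h (e.symm (DihedralGroup.r 1)) (e.symm (DihedralGroup.sr 0)))
        simp only [map_mul, MulEquiv.apply_symm_apply, DihedralGroup.r_mul_sr, DihedralGroup.sr_mul_r,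
          DihedralGroup.sr.injEq, zero_sub, zero_add] at h1
        have h2 : ((2 : ℕ) : ZMod n) = 0 := by
          push_cast
          linear_combination -h1
        have := Nat.le_of_dvd two_pos ((ZMod.natCast_eq_zero_iff _ _).1 h2)
        omega
    · refine ⟨⟨x, by rw [hx, hc, pow_succ, mul_comm]⟩, fun h => ?_⟩
      rw [h y x, mul_inv_cancel_right] at hyx
      have h1 : x ^ 1 = x ^ (2 ^ (n - 1) - 1) := by rwa [pow_one]
      rw [pow_eq_pow_iff_modEq, hx] at h1
      obtain ⟨k, rfl⟩ : ∃ k, n = k + 3 := ⟨n - 3, by omega⟩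
      rw [Nat.ModEq, Nat.add_sub_assoc (by omega : 1 ≤ 3)] at h1
      have h4 : 2 ^ (k + 2) = 4 * 2 ^ k := by rw [pow_add]; ring
      have h8 : 2 ^ (k + 3) = 8 * 2 ^ k := by rw [pow_add]; ring
      have h0 := Nat.one_le_two_pow (n := k)
      rw [h8, show k + (3 - 1) = k + 2 from rfl, h4, Nat.mod_eq_of_lt (by omega), Nat.mod_eq_of_lt (by omega)] at h1
      omega
  obtain ⟨⟨x, hx⟩, hnc⟩ := hT'
  exact main hO T hne hZ x hx hnc

end Cfsg.Agent.S2879
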