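import Cfsg.Statements.S2880
import Cfsg.Agent.Lib.Struct.RankBound
-- import your own Cfsg.Agent.* helpers here

set_option autoImplicit false
open Cfsg

namespace Cfsg.Agent.S2880
open Cfsg.Agent
open scoped commutatorElement


/-- Let E be an extraspecial 2-group of order 2^(2m+1) of plus type, that is, containing an elementary abelian subgroup of order 2^(m+1) (equivalently, a central product of m dihedral groups of order 8). Then E has exactly 2^(2m) − 2^m elements of order 4. -/
theorem result {E : Type*} [Group E] [Finite E] (m : ℕ) (hm : 1 ≤ m) (hE : Cfsg.IsExtraspecial 2 E) (hcard : Nat.card E = 2 ^ (2 * m + 1)) (hplus : ∃ A : Subgroup E, Cfsg.IsElementaryAbelian 2 A ∧ Nat.card A = 2 ^ (m + 1)) : Nat.card {x : E // orderOf x = 4} = 2 ^ (2 * m) - 2 ^ m := by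
  classical
  obtain ⟨⟨hp2, hfr, hcom⟩, hZ2⟩ := hE
  obtain ⟨A, hAel, hAcard⟩ := hplus
  set Z := Subgroup.center E with hZdef
  have hcomm : ∀ a b : E, a ∈ A → b ∈ A → a * b = b * a := fun a b ha hb =>
    congrArg Subtype.val (hAel.1.is_comm.comm (⟨a, ha⟩ : A) ⟨b, hb⟩)
  have hsq : ∀ a ∈ A, a * a = 1 := fun a ha => by
    have h := hAel.2 a ha
    rwa [pow_two] at h
  have hxx : ∀ x : E, x * x ∈ Z := fun x => by
    rw [← hfr, ← pow_two]; exact (Cfsg.Agent.Perm.frattini_facts hp2).1 x
  have hidx : ∀ x : E, (Subgroup.centralizer ({x} : Set E)).index ≤ 2 := fun x =>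
    (Cfsg.Agent.Struct.RankBound.index_centralizer_singleton_le hp2 x).trans (by rw [hfr, hZ2])
  have key : ∀ B : Subgroup E, (∀ a ∈ B, ∀ b ∈ B, a * b = b * a) → Z ≤ B →
      Nat.card B * Nat.card (Subgroup.centralizer (B : Set E)) ≤ 2 * Nat.card E := by
    intro B hB hZB
    set C := Subgroup.centralizer (B : Set E) with hCdef
    obtain ⟨H, ⟨hCH, hH⟩, hmax⟩ := (Set.toFinite {H : Subgroup E | C ≤ H ∧
        Nat.card B ≤ Nat.card ↥(B ⊓ Subgroup.centralizer (H : Set E)) * C.relIndex H}).exists_maximal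
      ⟨C, le_rfl, by
        rw [Subgroup.relIndex_self, mul_one]
        refine Subgroup.card_le_of_le (le_inf le_rfl ?_)
        exact fun b hb => Subgroup.mem_centralizer_iff.2 fun c hc =>
          ((Subgroup.mem_centralizer_iff.1 hc) b hb).symm⟩
    have htop : H = ⊤ := by
      by_contra hne
      obtain ⟨x, -, hx⟩ := SetLike.exists_of_lt (lt_top_iff_ne_top.2 hne)
      refine hx (hmax (y := H ⊔ Subgroup.zpowers x) ⟨hCH.trans le_sup_left, ?_⟩ le_sup_left
        (Subgroup.mem_sup_right (Subgroup.mem_zpowers x)))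
      set H' := H ⊔ Subgroup.zpowers x
      set X := B ⊓ Subgroup.centralizer (H : Set E)
      have h1 : X ⊓ Subgroup.centralizer ({x} : Set E) ≤ B ⊓ Subgroup.centralizer (H' : Set E) := by
        intro g hg
        obtain ⟨⟨hgB, hgH⟩, hgx⟩ := hg
        refine Subgroup.mem_inf.2 ⟨hgB, ?_⟩
        have h : H' ≤ Subgroup.centralizer ({g} : Set E) := sup_le
          (fun h hh => Subgroup.mem_centralizer_singleton_iff.2 (Subgroup.mem_centralizer_iff.1 hgH h hh))
          (Subgroup.zpowers_le.2 (Subgroup.mem_centralizer_singleton_iff.2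
            (Subgroup.mem_centralizer_singleton_iff.1 hgx).symm))
        exact Subgroup.mem_centralizer_iff.2 fun h' hh =>
          Subgroup.mem_centralizer_singleton_iff.1 (h hh)
      have h2 : Nat.card X ≤ 2 * Nat.card ↥(B ⊓ Subgroup.centralizer (H' : Set E)) := by
        have e := Subgroup.relIndex_mul_relIndex ⊥ (X ⊓ Subgroup.centralizer ({x} : Set E)) X bot_le inf_le_left
        rw [Subgroup.relIndex_bot_left, Subgroup.relIndex_bot_left, Subgroup.inf_relIndex_left] at e
        have e2 : (Subgroup.centralizer ({x} : Set E)).relIndex X ≤ 2 := by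
          refine le_trans ?_ (hidx x)
          rw [← Subgroup.relIndex_top_right]
          exact Subgroup.relIndex_le_of_le_right le_top (by rw [Subgroup.relIndex_top_right]; exact Subgroup.index_ne_zero_of_finite)
        calc Nat.card X = _ := e.symm
          _ ≤ Nat.card ↥(B ⊓ Subgroup.centralizer (H' : Set E)) * 2 :=
            Nat.mul_le_mul (Subgroup.card_le_of_le h1) e2
          _ = _ := mul_comm _ _
      have h3 : 2 * C.relIndex H ≤ C.relIndex H' := by
        rw [← Subgroup.relIndex_mul_relIndex C H H' hCH le_sup_left, mul_comm]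
        refine Nat.mul_le_mul_left _ ?_
        obtain ⟨k, hk⟩ := (hp2.to_subgroup H').index (H.subgroupOf H')
        change 2 ≤ (H.subgroupOf H').index
        rw [hk]
        rcases k with _ | k
        · exfalso
          rw [pow_zero, Subgroup.index_eq_one, Subgroup.subgroupOf_eq_top] at hk
          exact hx (hk (Subgroup.mem_sup_right (Subgroup.mem_zpowers x)))
        · exact Nat.le_self_pow (Nat.succ_ne_zero k) 2
      calc Nat.card B ≤ Nat.card X * C.relIndex H := hH
        _ ≤ 2 * Nat.card ↥(B ⊓ Subgroup.centralizer (H' : Set E)) * C.relIndex H :=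
          Nat.mul_le_mul_right _ h2
        _ = Nat.card ↥(B ⊓ Subgroup.centralizer (H' : Set E)) * (2 * C.relIndex H) := by ring
        _ ≤ _ := Nat.mul_le_mul_left _ h3
    rw [htop, Subgroup.relIndex_top_right, Subgroup.coe_top, Subgroup.centralizer_univ, ← hZdef,
      inf_eq_right.2 hZB, hZ2] at hH
    calc Nat.card B * Nat.card C ≤ 2 * C.index * Nat.card C := Nat.mul_le_mul_right _ hH
      _ = 2 * Nat.card E := by rw [mul_assoc, Subgroup.index_mul_card]
  have hA' : ∀ a ∈ A ⊔ Z, ∀ b ∈ A ⊔ Z, a * b = b * a := by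
    intro a ha b hb
    obtain ⟨a1, ha1, z1, hz1, rfl⟩ := Subgroup.mem_sup_of_normal_right.1 ha
    obtain ⟨b1, hb1, z2, hz2, rfl⟩ := Subgroup.mem_sup_of_normal_right.1 hb
    exact (Commute.mul_right
      (Commute.mul_left (hcomm a1 b1 ha1 hb1) ((Subgroup.mem_center_iff.1 hz1 b1).symm))
      (Subgroup.mem_center_iff.1 hz2 _))
  have hC2 : A ⊔ Z ≤ Subgroup.centralizer ((A ⊔ Z : Subgroup E) : Set E) := fun a ha =>
    Subgroup.mem_centralizer_iff.2 fun b hb => hA' b hb a ha
  have hb := key _ hA' le_sup_right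
  rw [hcard] at hb
  have hb2 : Nat.card ↥(A ⊔ Z) ≤ 2 ^ (m + 1) := by
    have := le_trans (Nat.mul_le_mul_left _ (Subgroup.card_le_of_le hC2)) hb
    by_contra hlt
    have h3 := Nat.mul_lt_mul'' (not_le.1 hlt) (not_le.1 hlt)
    rw [← pow_add] at h3
    have e : 2 * 2 ^ (2 * m + 1) = 2 ^ (m + 1 + (m + 1)) := by
      rw [← pow_succ']; ring_nf
    omega
  have hAZ : A = A ⊔ Z := Subgroup.eq_of_le_of_card_ge le_sup_left (hb2.trans hAcard.ge)
  have hCA : Subgroup.centralizer (A : Set E) = A := by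
    rw [← hAZ, hAcard] at hb
    refine (Subgroup.eq_of_le_of_card_ge ?_ ?_).symm
    · exact fun a ha => Subgroup.mem_centralizer_iff.2 fun b hb => hcomm b a hb ha
    · rw [hAcard]
      refine Nat.le_of_mul_le_mul_left ?_ (pow_pos (by norm_num : 0 < 2) (m + 1))
      refine hb.trans_eq ?_
      rw [← pow_succ', ← pow_add]; ring_nf
  have hZA : Z ≤ A := by rw [hAZ]; exact le_sup_right
  obtain ⟨zz, hzz, hzz1⟩ : ∃ z ∈ Z, z ≠ (1 : E) := by
    by_contra h
    push_neg at h
    rw [(Subgroup.eq_bot_iff_forall _).2 h, Subgroup.card_bot] at hZ2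
    omega
  have hZel : ∀ c ∈ Z, c = 1 ∨ c = zz := by
    intro c hc
    have h2 : Nat.card Z = 2 := hZ2
    rw [Nat.card_eq_two_iff] at h2
    obtain ⟨u, v, -, huv⟩ := h2
    have f : ∀ w : Z, w = u ∨ w = v := fun w => by
      have : w ∈ ({u, v} : Set Z) := by rw [huv]; trivial
      simpa using this
    rcases f 1 with h | h <;> rcases f ⟨zz, hzz⟩ with h' | h' <;> rcases f ⟨c, hc⟩ with h'' | h'' <;>
      first
        | exact absurd (congrArg Subtype.val (h'.trans h.symm)) hzz1
        | exact Or.inl (congrArg Subtype.val (h''.trans h.symm))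
        | exact Or.inr (congrArg Subtype.val (h''.trans h'.symm))
  have hcount : ∀ x : E, x ∉ A → Nat.card {a : A // (x * a) * (x * a) ≠ 1} = 2 ^ m := by
    intro x hx
    have hmem : ∀ a : A, x⁻¹ * a * x * a ∈ Z := fun a => by
      rw [← hcom]
      have := Subgroup.commutator_mem_commutator (Subgroup.mem_top x⁻¹) (Subgroup.mem_top (a : E))
      rw [commutatorElement_def, inv_inv] at this
      rwa [inv_eq_of_mul_eq_one_right (hsq a a.2)] at this
    let φ : A →* Z :=
      { toFun := fun a => ⟨x⁻¹ * a * x * a, hmem a⟩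
        map_one' := Subtype.ext (by simp)
        map_mul' := fun a b => Subtype.ext (by
          show x⁻¹ * ((a : E) * b) * x * ((a : E) * b) = x⁻¹ * a * x * a * (x⁻¹ * b * x * b)
          have hc := Subgroup.mem_center_iff.1 (hmem b) (a : E)
          calc x⁻¹ * ((a : E) * b) * x * ((a : E) * b)
              = x⁻¹ * a * x * (x⁻¹ * b * x) * (b * a) := by rw [← hcomm a b a.2 b.2]; group
            _ = x⁻¹ * a * x * ((x⁻¹ * b * x * b) * a) := by group
            _ = x⁻¹ * a * x * (a * (x⁻¹ * b * x * b)) := by rw [hc]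
            _ = _ := by group) }
    have hxC : x ∉ Subgroup.centralizer (A : Set E) := by rwa [hCA]
    obtain ⟨a₀, ha₀, hne⟩ : ∃ a ∈ A, a * x ≠ x * a := by
      by_contra h
      push_neg at h
      exact hxC (Subgroup.mem_centralizer_iff.2 h)
    have hφ0 : φ ⟨a₀, ha₀⟩ ≠ 1 := fun h => by
      have h' : x⁻¹ * a₀ * x * a₀ = 1 := congrArg Subtype.val h
      have h'' := mul_eq_one_iff_eq_inv.1 h'
      rw [inv_eq_of_mul_eq_one_right (hsq a₀ ha₀)] at h''
      exact hne (by rw [mul_assoc] at h''; exact (inv_mul_eq_iff_eq_mul.1 h''))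
    have hsurj : Function.Surjective φ := by
      intro c
      rcases hZel c c.2 with h | h
      · exact ⟨1, by rw [map_one]; exact Subtype.ext h.symm⟩
      · refine ⟨⟨a₀, ha₀⟩, Subtype.ext ?_⟩
        rcases hZel _ (φ ⟨a₀, ha₀⟩).2 with h' | h'
        · exact absurd (Subtype.ext h') hφ0
        · rw [h, h']
    have hker : Nat.card φ.ker = 2 ^ m := by
      have := Subgroup.card_mul_index φ.ker
      rw [Subgroup.index_ker, MonoidHom.range_eq_top.2 hsurj, Subgroup.card_top, hZ2, hAcard, pow_succ] at this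
      exact Nat.eq_of_mul_eq_mul_right (by norm_num) this
    set c₀ : Z := ⟨x * x, hxx x⟩
    obtain ⟨zc, hzc⟩ : ∃ zc : Z, zc = ⟨zz, hzz⟩ := ⟨_, rfl⟩
    obtain ⟨a₁, ha₁⟩ := hsurj (c₀⁻¹ * zc)
    have hiff : ∀ a : A, ((x * a) * (x * a) ≠ 1 ↔ φ a = c₀⁻¹ * zc) := by
      intro a
      have e : (x * a) * (x * a) = ((c₀ * φ a : Z) : E) := by
        show _ = x * x * (x⁻¹ * a * x * a)
        group
      rw [e]
      constructor
      · intro h
        rcases hZel _ (c₀ * φ a).2 with h' | h'
        · exact absurd h' h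
        · rw [eq_inv_mul_iff_mul_eq, hzc]; exact Subtype.ext h'
      · intro h h'
        rw [h, mul_inv_cancel_left, hzc] at h'
        exact hzz1 h'
    rw [← hker]
    refine Nat.card_congr
      { toFun := fun a => ⟨a.1 * a₁⁻¹, by rw [MonoidHom.mem_ker, map_mul, map_inv, (hiff a.1).1 a.2, ha₁, mul_inv_cancel]⟩
        invFun := fun k => ⟨k.1 * a₁, (hiff _).2 (by rw [map_mul, MonoidHom.mem_ker.1 k.2, one_mul, ha₁])⟩
        left_inv := fun a => Subtype.ext (by simp)
        right_inv := fun k => Subtype.ext (by simp) }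
  have hord : ∀ x : E, orderOf x = 4 ↔ x * x ≠ 1 := by
    intro x
    constructor
    · intro h hx
      have := orderOf_dvd_of_pow_eq_one (show x ^ 2 = 1 by rw [pow_two, hx])
      rw [h] at this
      norm_num at this
    · intro hx
      haveI : Fact (Nat.Prime 2) := ⟨Nat.prime_two⟩
      refine orderOf_eq_prime_pow (p := 2) (n := 1) (by rwa [pow_one, pow_two]) ?_
      show x ^ (2 ^ 2) = 1
      rw [show (2 : ℕ) ^ 2 = 2 * 2 by norm_num, pow_mul, pow_two x, pow_two]
      exact hsq _ (hZA (hxx x))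
  let e1 : E ≃ (E ⧸ A) × A :=
    { toFun := fun g => (QuotientGroup.mk g, ⟨(QuotientGroup.mk g : E ⧸ A).out⁻¹ * g,
        QuotientGroup.eq.1 (QuotientGroup.out_eq' _)⟩)
      invFun := fun qa => qa.1.out * qa.2
      left_inv := fun g => by simp
      right_inv := fun qa => by
        have h : (QuotientGroup.mk (qa.1.out * (qa.2 : E)) : E ⧸ A) = qa.1 := by
          rw [QuotientGroup.mk_mul_of_mem _ qa.2.2, QuotientGroup.out_eq']
        refine Prod.ext h (Subtype.ext ?_)
        simp [h] }
  have e2 : Nat.card {x : E // orderOf x = 4} =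
      Nat.card (Σ q : E ⧸ A, {a : A // (q.out * a) * (q.out * a) ≠ 1}) := by
    refine Nat.card_congr ((e1.subtypeEquiv (q := fun qa : (E ⧸ A) × A => (qa.1.out * qa.2) * (qa.1.out * qa.2) ≠ 1)
      (fun g => ?_)).trans (Equiv.subtypeProdEquivSigmaSubtype (fun (q : E ⧸ A) (a : A) => (q.out * a) * (q.out * a) ≠ 1)))
    have : (e1 g).1.out * (e1 g).2 = g := e1.left_inv g
    rw [this]
    exact hord g
  haveI : Fintype (E ⧸ A) := Fintype.ofFinite _
  rw [e2, Nat.card_sigma]
  set q₀ : E ⧸ A := QuotientGroup.mk 1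
  have hterm : ∀ q : E ⧸ A, Nat.card {a : A // (q.out * a) * (q.out * a) ≠ 1} = if q = q₀ then 0 else 2 ^ m := by
    intro q
    have hqA : q.out ∈ A ↔ q = q₀ := by
      conv_rhs => rw [← QuotientGroup.out_eq' q]
      rw [QuotientGroup.eq, mul_one]
      exact (Subgroup.inv_mem_iff A).symm
    by_cases hq : q = q₀
    · rw [if_pos hq]
      haveI : IsEmpty {a : A // (q.out * a) * (q.out * a) ≠ 1} :=
        ⟨fun a => a.2 (hsq _ (mul_mem (hqA.2 hq) a.1.2))⟩
      exact Nat.card_of_isEmpty
    · rw [if_neg hq]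
      exact hcount _ (fun h => hq (hqA.1 h))
  rw [Finset.sum_congr rfl (fun q _ => hterm q), Finset.sum_ite, Finset.sum_const_zero, zero_add,
    Finset.sum_const, smul_eq_mul, Finset.filter_ne', Finset.card_erase_of_mem (Finset.mem_univ _),
    Finset.card_univ, ← Nat.card_eq_fintype_card]
  have hq : Nat.card (E ⧸ A) = 2 ^ m := by
    have := Subgroup.card_eq_card_quotient_mul_card_subgroup A
    rw [hcard, hAcard] at this
    refine Nat.eq_of_mul_eq_mul_right (pow_pos (by norm_num : 0 < 2) (m + 1)) ?_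
    rw [← this, ← pow_add]; ring_nf
  rw [hq, Nat.sub_mul, one_mul, ← pow_add, ← two_mul]

end Cfsg.Agent.S2880
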