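import Cfsg.Statements.S2881
import Cfsg.Agent.Lib.Struct.RankBound
import Cfsg.Agent.Lib.Perm.GeneratingTuples
-- import your own Cfsg.Agent.* helpers here

set_option autoImplicit false
open Cfsg

namespace Cfsg.Agent.S2881
open Subgroup
open scoped commutatorElement

theorem count5 (m : ℕ) (h1 : (2 * (2 ^ m) ^ 2) % 5 = 2) (h2 : ((2 ^ m) ^ 2 + 2 ^ m) % 5 = 2) : 4 ∣ m := by
  have hm : m % 4 = 0 ∨ m % 4 = 1 ∨ m % 4 = 2 ∨ m % 4 = 3 := by omega
  have key : 2 ^ m % 5 = 2 ^ (m % 4) % 5 := by
    conv_lhs => rw [← Nat.div_add_mod m 4, pow_add, pow_mul]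
    rw [Nat.mul_mod, Nat.pow_mod]
    norm_num
  rw [Nat.mul_mod, Nat.pow_mod, key] at h1
  rw [Nat.add_mod, Nat.pow_mod, key] at h2
  rcases hm with h | h | h | h <;> rw [h] at h1 h2 <;> first | omega | (norm_num at h1 h2)


/-- Let E be an extraspecial 2-group of order 2^(2m+1) of plus type (containing an elementary abelian subgroup of order 2^(m+1)), and let ω be an automorphism of E of order 5 whose fixed points are exactly the centre of E. Then m is divisible by 4. -/
theorem result {E : Type*} [Group E] [Finite E] (m : ℕ) (hm : 1 ≤ m) (hE : Cfsg.IsExtraspecial 2 E) (hcard : Nat.card E = 2 ^ (2 * m + 1)) (hplus : ∃ A : Subgroup E, Cfsg.IsElementaryAbelian 2 A ∧ Nat.card A = 2 ^ (m + 1)) (ω : E ≃* E) (hω : orderOf ω = 5) (hfix : ∀ x : E, ω x = x ↔ x ∈ Subgroup.center E) : 4 ∣ m := by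
  skip
  classical
  haveI : Fact (Nat.Prime 2) := ⟨Nat.prime_two⟩
  haveI : Fact (Nat.Prime 5) := ⟨by norm_num⟩
  obtain ⟨⟨hP, hfr, -⟩, hZ⟩ := hE
  obtain ⟨hpow, hcom⟩ := Cfsg.Agent.Perm.frattini_facts hP
  have hsq : ∀ x : E, x ^ 2 ∈ center E := fun x => hfr ▸ hpow x
  haveI : Fintype E := Fintype.ofFinite E
  have hZtwo : ∀ w ∈ center E, ∀ v ∈ center E, w ≠ 1 → v ≠ 1 → w = v := by
    intro w hw v hv h1 h2
    by_contra hne
    have h3 : ({⟨1, one_mem _⟩, ⟨w, hw⟩, ⟨v, hv⟩} : Finset (center E)).card = 3 := by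
      rw [Finset.card_eq_three]
      exact ⟨_, _, _, by simpa using Ne.symm h1, by simpa using Ne.symm h2, by simpa using hne, rfl⟩
    have h4 := Finset.card_le_univ ({⟨1, one_mem _⟩, ⟨w, hw⟩, ⟨v, hv⟩} : Finset (center E))
    rw [h3, ← Nat.card_eq_fintype_card, hZ] at h4
    omega
  have hZsq : ∀ w ∈ center E, w ^ 2 = 1 := fun w hw => by
    have := pow_card_eq_one' (x := (⟨w, hw⟩ : center E))
    rw [hZ] at this
    simpa using congrArg Subtype.val this
  obtain ⟨A, ⟨hAc, hA2⟩, hAcard⟩ := hplus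
  -- centralizer bound
  have hbound : ∀ K : Subgroup E, center E ≤ K →
      Nat.card (centralizer (K : Set E)) * Nat.card K ≤ 2 * Nat.card E := by
    intro K hK
    obtain ⟨H, ⟨hKH, hH⟩, hmax⟩ := (Set.toFinite {H : Subgroup E | K ≤ H ∧
        Nat.card (centralizer (K : Set E)) * Nat.card K ≤ Nat.card (centralizer (H : Set E)) * Nat.card H}).exists_maximal
      ⟨K, le_rfl, le_rfl⟩
    by_cases hT : H = ⊤
    · subst hT
      rw [coe_top, centralizer_univ, hZ, card_top] at hH
      exact hH
    obtain ⟨x, -, hx⟩ := SetLike.exists_of_lt (lt_top_iff_ne_top.2 hT)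
    refine absurd (hmax (y := H ⊔ zpowers x) ⟨hKH.trans le_sup_left, hH.trans ?_⟩ le_sup_left
      (mem_sup_right (mem_zpowers x))) hx
    have hc : Nat.card ↥(H ⊔ zpowers x) = 2 * Nat.card H :=
      Cfsg.Agent.Perm.card_sup_zpowers hP (hfr.le.trans (hK.trans hKH)) hx
    have hle : centralizer (H : Set E) ⊓ centralizer ({x} : Set E) ≤
        centralizer ((H ⊔ zpowers x : Subgroup E) : Set E) := by
      intro g hg
      have h1 : H ⊔ zpowers x ≤ centralizer ({g} : Set E) := sup_le
        (fun h hh => mem_centralizer_singleton_iff.2 ((mem_centralizer_iff.1 hg.1 h hh)))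
        (zpowers_le.2 (mem_centralizer_singleton_iff.2 (mem_centralizer_singleton_iff.1 hg.2).symm))
      exact mem_centralizer_iff.2 fun h hh => mem_centralizer_singleton_iff.1 (h1 hh)
    have hi := Cfsg.Agent.Struct.RankBound.index_centralizer_singleton_le (p := 2) hP x
    rw [hfr, hZ] at hi
    have h2 : Nat.card (centralizer (H : Set E)) ≤
        2 * Nat.card ↥(centralizer (H : Set E) ⊓ centralizer ({x} : Set E)) := by
      have e1 := relIndex_mul_relIndex ⊥ (centralizer (H : Set E) ⊓ centralizer ({x} : Set E))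
        (centralizer (H : Set E)) bot_le inf_le_left
      rw [relIndex_bot_left, relIndex_bot_left, inf_relIndex_left] at e1
      have e2 : (centralizer ({x} : Set E)).relIndex (centralizer (H : Set E)) ≤ 2 := by
        refine le_trans ?_ hi
        rw [← relIndex_top_right (centralizer ({x} : Set E))]
        exact relIndex_le_of_le_right (le_top : centralizer (H : Set E) ≤ ⊤)
          (by rw [relIndex_top_right]; exact index_ne_zero_of_finite)
      nlinarith
    rw [hc]
    have := Subgroup.card_le_of_le hle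
    nlinarith
  have hcardE : Nat.card E = 2 * (2 ^ m) ^ 2 := by rw [hcard, pow_succ, ← pow_mul]; ring_nf
  have hp1 : 0 < 2 ^ m := Nat.two_pow_pos m
  have hA' : IsMulCommutative A := hAc
  have hAcomm : ∀ a ∈ A, ∀ b ∈ A, a * b = b * a := fun a ha b hb =>
    congrArg Subtype.val (mul_comm' (⟨a, ha⟩ : A) ⟨b, hb⟩)
  have hCA : centralizer (A : Set E) = A := by
    have hAC : A ≤ centralizer (A : Set E) := fun a ha => mem_centralizer_iff.2 fun b hb => hAcomm b hb a ha
    have hle : centralizer (A : Set E) ≤ centralizer ((A ⊔ center E : Subgroup E) : Set E) := by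
      intro g hg
      have h1 : A ⊔ center E ≤ centralizer ({g} : Set E) := sup_le
        (fun h hh => mem_centralizer_singleton_iff.2 (mem_centralizer_iff.1 hg h hh))
        (fun h hh => mem_centralizer_singleton_iff.2 (mem_center_iff.1 hh g).symm)
      exact mem_centralizer_iff.2 fun h hh => mem_centralizer_singleton_iff.1 (h1 hh)
    refine (eq_of_le_of_card_ge hAC ?_).symm
    have h1 := hbound (A ⊔ center E) le_sup_right
    have h2 := Subgroup.card_le_of_le hle
    have h3 := Subgroup.card_le_of_le (le_sup_left : A ≤ A ⊔ center E)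
    rw [hcardE] at h1
    rw [hAcard, pow_succ] at h3 ⊢
    nlinarith
  have hZA : center E ≤ A := hCA ▸ center_le_centralizer _
  -- the coset shift
  have hpick : ∀ q : E ⧸ A, ∃ a ∈ A, q.out ∉ A → a * q.out ≠ q.out * a := by
    intro q
    by_cases h : q.out ∈ A
    · exact ⟨1, one_mem A, fun h' => absurd h h'⟩
    · by_contra hcon
      push Not at hcon
      have hm : q.out ∈ centralizer (A : Set E) := mem_centralizer_iff.2 fun a ha => (hcon a ha).2
      rw [hCA] at hm
      exact h hm
  choose a₀ ha₀ hne₀ using hpick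
  have hmk : ∀ x : E, ((x * a₀ (x : E ⧸ A) : E) : E ⧸ A) = x := fun x => by
    rw [QuotientGroup.eq]
    simpa using inv_mem (ha₀ (x : E ⧸ A))
  have hflip : ∀ x : E, x ∉ A → ((x * a₀ (x : E ⧸ A)) ^ 2 = 1 ↔ ¬ x ^ 2 = 1) := by
    intro x hx
    set a := a₀ (x : E ⧸ A) with ha
    obtain ⟨b, hb, hxb⟩ : ∃ b ∈ A, x = (x : E ⧸ A).out * b :=
      ⟨(x : E ⧸ A).out⁻¹ * x, QuotientGroup.eq.1 (QuotientGroup.out_eq' _), by group⟩
    have hnc : a * x ≠ x * a := by
      intro he
      refine hne₀ (x : E ⧸ A) (fun h => hx (hxb ▸ mul_mem h hb)) ?_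
      rw [← ha]
      have e2 : a * b = b * a := hAcomm a (ha ▸ ha₀ _) b hb
      conv at he =>
        rw [hxb, mul_assoc _ b a, ← e2, ← mul_assoc, ← mul_assoc]
      exact mul_right_cancel he
    have haa : a ^ 2 = 1 := hA2 a (ha ▸ ha₀ _)
    have hai : a⁻¹ = a := inv_eq_of_mul_eq_one_right (by rw [← pow_two, haa])
    set c := a * x * a * x⁻¹ with hc
    have hcZ : c ∈ center E := by
      rw [← hfr]
      have : ⁅a, x⁆ ∈ frattini E := hcom (commutator_mem_commutator (mem_top _) (mem_top _))
      rw [commutatorElement_def, hai] at this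
      exact this
    have hc1 : c ≠ 1 := by
      intro h
      apply hnc
      rw [hc, mul_inv_eq_one] at h
      calc a * x = a * x * a * a⁻¹ := by group
        _ = x * a⁻¹ := by rw [h]
        _ = x * a := by rw [hai]
    have e : (x * a) ^ 2 = c * x ^ 2 := by
      rw [pow_two, show x * a * (x * a) = x * (a * x * a * x⁻¹) * x by group, ← hc,
        mem_center_iff.1 hcZ x, pow_two, mul_assoc]
    rw [e]
    constructor
    · intro h h'
      rw [h', mul_one] at h
      exact hc1 h
    · intro h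
      rw [← hZtwo c hcZ _ (hsq x) hc1 h, ← pow_two]
      exact hZsq c hcZ
  let σ : E → E := fun x => x * a₀ (x : E ⧸ A)
  have hσσ : ∀ x, σ (σ x) = x := fun x => by
    show x * a₀ _ * a₀ _ = x
    rw [hmk, mul_assoc, ← pow_two, hA2 _ (ha₀ _), mul_one]
  have hσA : ∀ x, σ x ∈ A ↔ x ∈ A := fun x => A.mul_mem_cancel_right (ha₀ _)
  have hcardS : (Finset.univ.filter fun x : E => x ∉ A ∧ x ^ 2 = 1).card
      = (Finset.univ.filter fun x : E => x ∉ A ∧ ¬ x ^ 2 = 1).card := by
    refine Finset.card_nbij' σ σ ?_ ?_ (fun x _ => hσσ x) (fun x _ => hσσ x)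
    · intro x hx
      simp only [Finset.coe_filter, Finset.mem_univ, true_and, Set.mem_setOf_eq] at hx ⊢
      exact ⟨fun h => hx.1 ((hσA x).1 h), fun h => (hflip x hx.1).1 h hx.2⟩
    · intro x hx
      simp only [Finset.coe_filter, Finset.mem_univ, true_and, Set.mem_setOf_eq] at hx ⊢
      exact ⟨fun h => hx.1 ((hσA x).1 h), (hflip x hx.1).2 hx.2⟩
  have hsplit : (Finset.univ.filter fun x : E => x ∉ A ∧ x ^ 2 = 1).card
      + (Finset.univ.filter fun x : E => x ∉ A ∧ ¬ x ^ 2 = 1).card + Nat.card A = Nat.card E := by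
    rw [← Finset.card_union_of_disjoint (Finset.disjoint_filter.2 fun x _ h h' => h'.2 h.2),
      Nat.card_eq_fintype_card (α := E), Nat.card_eq_fintype_card, Fintype.card_subtype,
      ← Finset.card_union_of_disjoint, ← Finset.card_univ]
    · congr 1
      ext x
      by_cases x ∈ A <;> by_cases x ^ 2 = 1 <;> simp_all
    · rw [Finset.disjoint_left]
      intro x hx
      simp only [Finset.mem_union, Finset.mem_filter, Finset.mem_univ, true_and] at hx ⊢
      rcases hx with h | h <;> exact h.1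
  have hN : Nat.card {x : E // x ^ 2 = 1} = (2 ^ m) ^ 2 + 2 ^ m := by
    rw [Nat.card_eq_fintype_card, Fintype.card_subtype]
    have e : (Finset.univ.filter fun x : E => x ^ 2 = 1) =
        (Finset.univ.filter fun x : E => x ∈ A) ∪ (Finset.univ.filter fun x : E => x ∉ A ∧ x ^ 2 = 1) := by
      ext x
      have := hA2 x
      by_cases x ∈ A <;> simp_all
    rw [e, Finset.card_union_of_disjoint (Finset.disjoint_filter.2 fun x _ h h' => h'.1 h),
      ← Fintype.card_subtype, ← Nat.card_eq_fintype_card]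
    change Nat.card A + _ = _
    rw [hAcard, hcardE] at hsplit
    rw [hAcard]
    rw [pow_succ] at hsplit ⊢
    omega
  -- the automorphism of order five
  have h5 : ∀ x : E, (ω ^ 5 : MulAut E) x = x := fun x => by
    rw [← hω, pow_orderOf_eq_one]; rfl
  have key : ∀ (T : Type _) [Finite T] (f : T ≃ T), (∀ t, f (f (f (f (f t)))) = t) →
      Nat.card {t : T // f t = t} = 2 → Nat.card T % 5 = 2 := by
    intro T _ f hf h2
    haveI : Fintype T := Fintype.ofFinite T
    let σ' : Function.End T := fun t => f t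
    have hp : σ' ^ (5 ^ 1) = 1 := by
      funext t
      exact hf t
    have h := Equiv.Perm.card_fixedPoints_modEq (p := 5) hp
    rw [Nat.ModEq, ← Nat.card_eq_fintype_card, ← Nat.card_eq_fintype_card] at h
    rw [h]
    change Nat.card {t : T // f t = t} % 5 = 2
    rw [h2]
  have h51 : ∀ x : E, ω (ω (ω (ω (ω x)))) = x := fun x => by
    have h := h5 x
    simpa [pow_succ] using h
  have hA1 : Nat.card E % 5 = 2 := by
    refine key E ω.toEquiv h51 ?_
    rw [← hZ]
    exact Nat.card_congr (Equiv.subtypeEquivRight fun x => hfix x)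
  have hA2' : Nat.card {x : E // x ^ 2 = 1} % 5 = 2 := by
    let f : {x : E // x ^ 2 = 1} ≃ {x : E // x ^ 2 = 1} := ω.toEquiv.subtypeEquiv fun x => by
      show x ^ 2 = 1 ↔ (ω x) ^ 2 = 1
      rw [← map_pow, MulEquiv.map_eq_one_iff]
    refine key _ f (fun t => Subtype.ext (h51 t.1)) ?_
    refine (Nat.card_congr ?_).trans hZ
    exact
      { toFun := fun t => ⟨t.1.1, (hfix _).1 (congrArg Subtype.val t.2)⟩
        invFun := fun w => ⟨⟨w.1, hZsq _ w.2⟩, Subtype.ext ((hfix _).2 w.2)⟩
        left_inv := fun t => rfl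
        right_inv := fun w => rfl }
  rw [hcardE] at hA1
  rw [hN] at hA2'
  exact count5 m hA1 hA2'

end Cfsg.Agent.S2881
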