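import Cfsg.Statements.S2896
import Cfsg.Agent.Lib.Local.CharPEquiv
import Cfsg.Agent.Lib.Local.AmalgamBasics
import Cfsg.Agent.Lib.Solv.Misc
import Cfsg.Prelude.Def_LocalEven
import Cfsg.Prelude.Def_LocalStructure
-- import your own Cfsg.Agent.* helpers here

set_option autoImplicit false
open Cfsg

namespace Cfsg.Agent.S2896

/-- Let p be a prime dividing the order of the finite group G, S a Sylow p-subgroup of G and X a subgroup of S. (i) If some nontrivial element z of the centre of X has F*(C_G(z)) = O_p(C_G(z)), then F*(N_G(X)) = O_p(N_G(X)). (ii) G has parabolic characteristic p if and only if F*(C_G(z)) = O_p(C_G(z)) for every nontrivial z ∈ Ω₁(Z(S)). (iii) If F*(C_G(z)) = O_p(C_G(z)) for every element z of S of order p, then G has local characteristic p. -/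
theorem result {G : Type*} [Group G] [Finite G] {p : ℕ} [Fact p.Prime] (hdiv : p ∣ Nat.card G) (S : Sylow p G) (X : Subgroup G) (hX : X ≤ (S : Subgroup G)) : (∀ z : G, z ≠ 1 → z ∈ X → (∀ x ∈ X, x * z = z * x) → Cfsg.generalizedFittingSubgroup ↥(Subgroup.centralizer ({z} : Set G)) = Cfsg.pCore p ↥(Subgroup.centralizer ({z} : Set G)) → Cfsg.generalizedFittingSubgroup ↥(Subgroup.normalizer (X : Set G)) = Cfsg.pCore p ↥(Subgroup.normalizer (X : Set G))) ∧ (Cfsg.IsOfParabolicCharacteristic p G ↔ ∀ z : G, z ≠ 1 → z ∈ Cfsg.omegaOne p ((S : Subgroup G) ⊓ Subgroup.centralizer ((S : Subgroup G) : Set G)) → Cfsg.generalizedFittingSubgroup ↥(Subgroup.centralizer ({z} : Set G)) = Cfsg.pCore p ↥(Subgroup.centralizer ({z} : Set G))) ∧ ((∀ z : G, z ∈ (S : Subgroup G) → orderOf z = p → Cfsg.generalizedFittingSubgroup ↥(Subgroup.centralizer ({z} : Set G)) = Cfsg.pCore p ↥(Subgroup.centralizer ({z} : Set G))) → Cfsg.IsOfLocalCharacteristic p G) := by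
  have hcl : ∀ z : G, Subgroup.centralizer ((Subgroup.zpowers z : Subgroup G) : Set G) =
      Subgroup.centralizer ({z} : Set G) := fun z => by
    rw [Subgroup.zpowers_eq_closure, Subgroup.centralizer_closure]
  have hconj : ∀ g z : G, (Subgroup.centralizer ({z} : Set G)).map (MulAut.conj g).toMonoidHom =
      Subgroup.centralizer ({g * z * g⁻¹} : Set G) := fun g z => by
    rw [← hcl, ← hcl, Cfsg.Agent.Local.Amalgam.map_centralizer, MonoidHom.map_zpowers]
    rfl
  have hmove : ∀ g z : G,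
      Cfsg.generalizedFittingSubgroup ↥(Subgroup.centralizer ({z} : Set G)) = Cfsg.pCore p ↥(Subgroup.centralizer ({z} : Set G)) →
      Subgroup.centralizer (Cfsg.pCore p ↥(Subgroup.centralizer ({g * z * g⁻¹} : Set G)) : Set _) ≤
        Cfsg.pCore p ↥(Subgroup.centralizer ({g * z * g⁻¹} : Set G)) := fun g z h =>
    Cfsg.Agent.Local.CharPB.centralizer_pCore_le_of_mulEquiv
      ((Subgroup.equivMapOfInjective _ (MulAut.conj g).toMonoidHom (MulAut.conj g).injective).trans
        (MulEquiv.subgroupCongr (hconj g z)))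
      (Cfsg.Agent.Local.CharPB.fstar_eq_pCore_iff.1 h)
  -- an element of order `p` in a normal nontrivial subgroup, central in a `p`-group
  have hexist : ∀ (P R : Subgroup G), IsPGroup p P → R ≤ P → R ≠ ⊥ → P ≤ Subgroup.normalizer (R : Set G) →
      ∃ z ∈ R, orderOf z = p ∧ ∀ x ∈ P, x * z = z * x := by
    intro P R hP hRP hR1 hPR
    haveI := hP.isNilpotent
    haveI : (R.subgroupOf P).Normal := (Subgroup.normal_subgroupOf_iff_le_normalizer hRP).2 hPR
    have hne : R.subgroupOf P ≠ ⊥ := fun e => hR1 (le_bot_iff.1 fun r hr => by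
      have := e.le (show (⟨r, hRP hr⟩ : P) ∈ R.subgroupOf P from hr)
      exact congrArg Subtype.val this)
    have hz0 := Cfsg.Agent.Solv.inf_center_ne_bot _ hne
    obtain ⟨j, hj⟩ := IsPGroup.iff_card.1 (hP.to_subgroup (R.subgroupOf P ⊓ Subgroup.center P))
    have hd : p ∣ Nat.card ↥(R.subgroupOf P ⊓ Subgroup.center P) := by
      rcases j with _ | j
      · exact absurd (Subgroup.card_eq_one.1 (by simpa using hj)) hz0
      · rw [hj]; exact dvd_pow_self p j.succ_ne_zero
    obtain ⟨x, hx⟩ := exists_prime_orderOf_dvd_card' p hd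
    obtain ⟨hxR, hxZ⟩ := Subgroup.mem_inf.1 x.2
    exact ⟨((x : P) : G), hxR, by rw [Subgroup.orderOf_coe, Subgroup.orderOf_coe, hx],
      fun y hy => congrArg Subtype.val (Subgroup.mem_center_iff.1 hxZ ⟨y, hy⟩)⟩
  refine ⟨fun z _ hzX hzc hz => ?_, ⟨fun hpar z hz1 hz => ?_, fun h R hR hR1 hpar => ?_⟩, fun h => ⟨hdiv, fun P hP hP1 => ?_⟩⟩
  · exact Cfsg.Agent.Local.CharPB.fstar_eq_pCore_iff.2
      (Cfsg.Agent.Local.CharPB.normalizer_charP_of_central (S.isPGroup'.to_le hX) hzX hzc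
        (Cfsg.Agent.Local.CharPB.fstar_eq_pCore_iff.1 hz))
  · apply Cfsg.Agent.Local.CharPB.fstar_eq_pCore_iff.2
    have hzS : z ∈ (S : Subgroup G) ⊓ Subgroup.centralizer ((S : Subgroup G) : Set G) :=
      Cfsg.Agent.Local.Amalgam.omegaOne_le _ hz
    obtain ⟨hz2, hz3⟩ := Subgroup.mem_inf.1 hzS
    have hch := hpar (Subgroup.zpowers z) (S.isPGroup'.to_le (Subgroup.zpowers_le.2 hz2))
      (Subgroup.zpowers_ne_bot.2 hz1) ⟨S, fun s hs => Subgroup.centralizer_le_normalizer _ (by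
        rw [hcl]; exact Subgroup.mem_centralizer_singleton_iff.2 (Subgroup.mem_centralizer_iff.1 hz3 s hs))⟩
    rw [← hcl]
    exact Cfsg.Agent.Local.CharPB.centralizer_pCore_le_of_mulEquiv
      (Subgroup.subgroupOfEquivOfLe (Subgroup.centralizer_le_normalizer _))
      (Cfsg.Agent.Local.CharPB.centralizer_pCore_le_of_normal hch _)
  · obtain ⟨T, hT⟩ := hpar
    set N := Subgroup.normalizer (R : Set G) with hN
    have hRT : R ≤ (T : Subgroup G) := by
      haveI : (R.subgroupOf N).Normal := Subgroup.normal_in_normalizer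
      have h1 : R.subgroupOf N ≤ (T.subtype hT : Subgroup N) :=
        (Cfsg.Agent.Solv.le_pCore (N := R.subgroupOf N) (hR.comap_of_injective _ N.subtype_injective)).trans
          (Cfsg.Agent.Solv.pCore_le_sylow _)
      exact fun r hr => h1 (show (⟨r, Subgroup.le_normalizer hr⟩ : N) ∈ R.subgroupOf N from hr)
    obtain ⟨z, hzR, hzo, hzc⟩ := hexist _ R T.isPGroup' hRT hR1 hT
    obtain ⟨g, rfl⟩ := MulAction.exists_smul_eq G S T
    obtain ⟨z₀, hz₀, hz₀e⟩ := hRT hzR
    have hz₀e' : g * z₀ * g⁻¹ = z := hz₀e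
    have hz₀1 : z₀ ≠ 1 := fun e => (Fact.out : p.Prime).ne_one (by
      rw [← hzo, ← hz₀e', e, mul_one, mul_inv_cancel, orderOf_one])
    have hz₀p : z₀ ^ p = 1 := by
      have h1 : (g * z₀ * g⁻¹) ^ p = 1 := by rw [hz₀e', ← hzo, pow_orderOf_eq_one]
      rw [conj_pow] at h1
      simpa using h1
    have hz₀m : z₀ ∈ Cfsg.omegaOne p ((S : Subgroup G) ⊓ Subgroup.centralizer ((S : Subgroup G) : Set G)) := by
      refine Subgroup.subset_closure ⟨Subgroup.mem_inf.2 ⟨hz₀, Subgroup.mem_centralizer_iff.2 fun s hs => ?_⟩, hz₀p⟩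
      have h1 := hzc (g * s * g⁻¹) ⟨s, hs, rfl⟩
      rw [← hz₀e'] at h1
      have h2 : g * (s * z₀) * g⁻¹ = g * (z₀ * s) * g⁻¹ := by simpa [mul_assoc] using h1
      simpa using h2
    have h3 := hmove g z₀ (h z₀ hz₀1 hz₀m)
    rw [hz₀e'] at h3
    exact Cfsg.Agent.Local.CharPB.normalizer_charP_of_central hR hzR (fun x hx => hzc x (hRT hx)) h3
  · obtain ⟨z, hzP, hzo, hzc⟩ := hexist P P hP le_rfl hP1 Subgroup.le_normalizer
    obtain ⟨T, hT⟩ := hP.exists_le_sylow
    obtain ⟨g, rfl⟩ := MulAction.exists_smul_eq G S T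
    obtain ⟨z₀, hz₀, hz₀e⟩ := hT hzP
    have hz₀e' : g * z₀ * g⁻¹ = z := hz₀e
    have hz₀o : orderOf z₀ = p := by
      rw [← hzo, ← hz₀e']
      exact (orderOf_injective (MulAut.conj g).toMonoidHom (MulAut.conj g).injective z₀).symm
    have h3 := hmove g z₀ (h z₀ hz₀ hz₀o)
    rw [hz₀e'] at h3
    exact Cfsg.Agent.Local.CharPB.normalizer_charP_of_central hP hzP hzc h3

end Cfsg.Agent.S2896
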