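import Cfsg.Statements.S2897
import Cfsg.Agent.Lib.Solv.Misc
import Cfsg.Agent.Lib.Local.ParabolicTransfer
-- import your own Cfsg.Agent.* helpers here

set_option autoImplicit false
open Cfsg

namespace Cfsg.Agent.S2897

/-- Let p be a prime dividing the order of the finite group G, suppose G has parabolic characteristic p, let S be a Sylow p-subgroup of G and G₁ a normal subgroup of G. If Ω₁(Z(S ∩ G₁)) is nontrivial and contained in Ω₁(Z(S)), then G₁ has parabolic characteristic p. -/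
theorem result {G : Type*} [Group G] [Finite G] {p : ℕ} [Fact p.Prime] (hdiv : p ∣ Nat.card G) (hG : Cfsg.IsOfParabolicCharacteristic p G) (S : Sylow p G) (G₁ : Subgroup G) [G₁.Normal] (hne : Cfsg.omegaOne p (((S : Subgroup G) ⊓ G₁) ⊓ Subgroup.centralizer (((S : Subgroup G) ⊓ G₁ : Subgroup G) : Set G)) ≠ ⊥) (hle : Cfsg.omegaOne p (((S : Subgroup G) ⊓ G₁) ⊓ Subgroup.centralizer (((S : Subgroup G) ⊓ G₁ : Subgroup G) : Set G)) ≤ Cfsg.omegaOne p ((S : Subgroup G) ⊓ Subgroup.centralizer ((S : Subgroup G) : Set G))) : Cfsg.IsOfParabolicCharacteristic p ↥G₁ := by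
  intro R hR hR1 hpar
  obtain ⟨T₁, hT₁⟩ := hpar
  set N := Subgroup.normalizer (R : Set G₁) with hN
  have hRT : R ≤ (T₁ : Subgroup G₁) := by
    haveI : (R.subgroupOf N).Normal := Subgroup.normal_in_normalizer
    have h1 : R.subgroupOf N ≤ Cfsg.pCore p N :=
      Cfsg.Agent.Solv.le_pCore (hR.comap_of_injective _ N.subtype_injective)
    intro r hr
    exact Cfsg.Agent.Local.CharPB.map_pCore_le_sylow T₁ hT₁
      ⟨⟨r, Subgroup.le_normalizer hr⟩, h1 (Subgroup.mem_subgroupOf.2 hr), rfl⟩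
  haveI : (R.subgroupOf (T₁ : Subgroup G₁)).Normal :=
    (Subgroup.normal_subgroupOf_iff_le_normalizer hRT).2 hT₁
  haveI hne' : Nontrivial (R.subgroupOf (T₁ : Subgroup G₁)) := by
    rw [Subgroup.nontrivial_iff_ne_bot]
    exact fun e => hR1 (le_bot_iff.1 fun r hr => by
      have := e.le (show (⟨r, hRT hr⟩ : (T₁ : Subgroup G₁)) ∈ R.subgroupOf _ from hr)
      exact congrArg Subtype.val this)
  haveI := T₁.isPGroup'.isNilpotent
  have hz0 : R.subgroupOf (T₁ : Subgroup G₁) ⊓ Subgroup.center _ ≠ ⊥ :=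
    Cfsg.Agent.Solv.inf_center_ne_bot _ ((Subgroup.nontrivial_iff_ne_bot _).1 hne')
  obtain ⟨z, hzR, hzp⟩ : ∃ z : (T₁ : Subgroup G₁),
      z ∈ R.subgroupOf (T₁ : Subgroup G₁) ⊓ Subgroup.center _ ∧ orderOf z = p := by
    obtain ⟨j, hj⟩ := IsPGroup.iff_card.1 (T₁.isPGroup'.to_subgroup
      (R.subgroupOf (T₁ : Subgroup G₁) ⊓ Subgroup.center _))
    have hd : p ∣ Nat.card ↥(R.subgroupOf (T₁ : Subgroup G₁) ⊓ Subgroup.center _) := by
      rcases j with _ | j
      · exact absurd (Subgroup.card_eq_one.1 (by simpa using hj)) hz0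
      · rw [hj]; exact dvd_pow_self p j.succ_ne_zero
    obtain ⟨x, hx⟩ := exists_prime_orderOf_dvd_card' p hd
    exact ⟨x, x.2, by rw [Subgroup.orderOf_coe, hx]⟩
  obtain ⟨hzR', hzZ⟩ := Subgroup.mem_inf.1 hzR
  set z₁ : G₁ := (z : G₁) with hz₁
  set zG : G := (z₁ : G) with hzG
  obtain ⟨S', hS'⟩ := (T₁.isPGroup'.map G₁.subtype).exists_le_sylow
  have hS'G : (S' : Subgroup G) ⊓ G₁ ≤ (T₁ : Subgroup G₁).map G₁.subtype := by
    intro x hx
    obtain ⟨hxS, hxG⟩ := Subgroup.mem_inf.1 hx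
    have h1 : (S' : Subgroup G).subgroupOf G₁ = (T₁ : Subgroup G₁) :=
      T₁.3 (S'.isPGroup'.comap_of_injective _ G₁.subtype_injective)
        fun t ht => hS' ⟨t, ht, rfl⟩
    exact ⟨⟨x, hxG⟩, h1.le (Subgroup.mem_subgroupOf.2 hxS), rfl⟩
  obtain ⟨g, hg⟩ := MulAction.exists_smul_eq G S S'
  have hconj : ∀ s ∈ (S : Subgroup G), g * s * g⁻¹ ∈ (S' : Subgroup G) := fun s hs => by
    rw [← hg]; exact ⟨s, hs, rfl⟩
  have hconj' : ∀ t ∈ (S' : Subgroup G), ∃ s ∈ (S : Subgroup G), g * s * g⁻¹ = t := fun t ht => by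
    rw [← hg] at ht; obtain ⟨s, hs, e⟩ := ht; exact ⟨s, hs, e⟩
  have hcentS : ∀ t ∈ (S' : Subgroup G), t * zG = zG * t := by
    obtain ⟨s₀, hs₀, hs₀e⟩ := hconj' zG (hS' ⟨z₁, z.2, rfl⟩)
    have hs₀G : s₀ ∈ G₁ := by
      have := (inferInstance : G₁.Normal).conj_mem _ z₁.2 g⁻¹
      rw [show (z₁ : G) = g * s₀ * g⁻¹ from hs₀e.symm] at this
      simpa [mul_assoc] using this
    have hmem : s₀ ∈ Cfsg.omegaOne p (((S : Subgroup G) ⊓ G₁) ⊓
        Subgroup.centralizer (((S : Subgroup G) ⊓ G₁ : Subgroup G) : Set G)) := by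
      refine Subgroup.subset_closure ⟨Subgroup.mem_inf.2 ⟨Subgroup.mem_inf.2 ⟨hs₀, hs₀G⟩, ?_⟩, ?_⟩
      · refine Subgroup.mem_centralizer_iff.2 fun s hs => ?_
        obtain ⟨hsS, hsG⟩ := Subgroup.mem_inf.1 hs
        obtain ⟨t, ht, hte⟩ := hS'G (Subgroup.mem_inf.2 ⟨hconj s hsS, (inferInstance : G₁.Normal).conj_mem _ hsG g⟩)
        have h2 : (t : G) * zG = zG * t :=
          congrArg (fun y : G₁ => (y : G)) (congrArg Subtype.val (Subgroup.mem_center_iff.1 hzZ ⟨t, ht⟩))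
        rw [show (t : G) = g * s * g⁻¹ from hte, ← hs₀e] at h2
        have h3 : g * (s * s₀) * g⁻¹ = g * (s₀ * s) * g⁻¹ := by
          simpa [mul_assoc] using h2
        simpa using h3
      · have h2 : zG ^ p = 1 := by
          rw [← hzp, ← Subgroup.orderOf_coe, ← Subgroup.orderOf_coe, pow_orderOf_eq_one]
        rw [← hs₀e, conj_pow] at h2
        simpa using h2
    have hle' : Cfsg.omegaOne p ((S : Subgroup G) ⊓ Subgroup.centralizer ((S : Subgroup G) : Set G)) ≤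
        Subgroup.centralizer ((S : Subgroup G) : Set G) :=
      (Subgroup.closure_le _).2 fun y hy => (Subgroup.mem_inf.1 hy.1).2
    intro t ht
    obtain ⟨s, hs, rfl⟩ := hconj' t ht
    have h3 := Subgroup.mem_centralizer_iff.1 (hle' (hle hmem)) s hs
    rw [← hs₀e]
    calc g * s * g⁻¹ * (g * s₀ * g⁻¹) = g * (s * s₀) * g⁻¹ := by group
      _ = g * (s₀ * s) * g⁻¹ := by rw [h3]
      _ = _ := by group
  set Z := Subgroup.zpowers zG with hZ
  have hzGp : orderOf zG = p := by rw [hzG, hz₁, Subgroup.orderOf_coe, Subgroup.orderOf_coe, hzp]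
  have hY := hG Z (IsPGroup.of_card (n := 1) (by rw [Nat.card_zpowers, hzGp, pow_one]))
    (fun e => (Fact.out : p.Prime).ne_one (by
      rw [← hzGp, Subgroup.zpowers_eq_bot.1 e, orderOf_one]))
    ⟨S', fun t ht => Subgroup.centralizer_le_normalizer _ (Subgroup.mem_centralizer_iff.2 fun y hy => by
      obtain ⟨m, rfl⟩ := hy
      exact ((show Commute t zG from hcentS t ht).zpow_right m).eq.symm)⟩
  set M := Subgroup.centralizer (Z : Set G) ⊓ G₁ with hM
  have hMle : M ≤ Subgroup.normalizer (Z : Set G) := inf_le_left.trans (Subgroup.centralizer_le_normalizer _)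
  haveI : (M.subgroupOf (Subgroup.normalizer (Z : Set G))).Normal := by
    show (((Subgroup.centralizer (Z : Set G)) ⊓ G₁).comap (Subgroup.normalizer (Z : Set G)).subtype).Normal
    rw [Subgroup.comap_inf]
    haveI h1 : ((Subgroup.centralizer (Z : Set G)).subgroupOf (Subgroup.normalizer (Z : Set G))).Normal :=
      inferInstance
    haveI h2 : (G₁.comap (Subgroup.normalizer (Z : Set G)).subtype).Normal :=
      Subgroup.Normal.comap inferInstance _
    exact ⟨fun x hx y => Subgroup.mem_inf.2 ⟨h1.conj_mem _ (Subgroup.mem_inf.1 hx).1 y,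
      h2.conj_mem _ (Subgroup.mem_inf.1 hx).2 y⟩⟩
  have hMc : Subgroup.centralizer (Cfsg.pCore p M : Set M) ≤ Cfsg.pCore p M :=
    Cfsg.Agent.Local.CharPB.centralizer_pCore_le_of_mulEquiv (Subgroup.subgroupOfEquivOfLe hMle)
      (Cfsg.Agent.Local.CharPB.centralizer_pCore_le_of_normal hY _)
  set M₁ := M.subgroupOf G₁ with hM₁
  have hz₁R : z₁ ∈ R := hzR'
  refine Cfsg.Agent.Local.CharPB.centralizer_pCore_le_of_parabolic T₁ (M := M₁) hT₁ ?_
    (Cfsg.Agent.Local.CharPB.centralizer_pCore_le_of_mulEquiv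
      (Subgroup.subgroupOfEquivOfLe (inf_le_right : M ≤ G₁)).symm hMc) ?_
  · intro t ht
    refine Subgroup.mem_subgroupOf.2 (Subgroup.mem_inf.2 ⟨Subgroup.mem_centralizer_iff.2 fun y hy => ?_, t.2⟩)
    obtain ⟨m, rfl⟩ := hy
    exact ((show Commute (t : G) zG from hcentS t (hS' ⟨t, ht, rfl⟩)).zpow_right m).eq.symm
  · intro c hc
    obtain ⟨hcN, hcC⟩ := Subgroup.mem_inf.1 hc
    haveI : (R.subgroupOf N).Normal := Subgroup.normal_in_normalizer
    have h1 : R.subgroupOf N ≤ Cfsg.pCore p N :=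
      Cfsg.Agent.Solv.le_pCore (hR.comap_of_injective _ N.subtype_injective)
    have h2 : z₁ * c = c * z₁ := Subgroup.mem_centralizer_iff.1 hcC z₁
      ⟨⟨z₁, Subgroup.le_normalizer hz₁R⟩, h1 (Subgroup.mem_subgroupOf.2 hz₁R), rfl⟩
    refine Subgroup.mem_subgroupOf.2 (Subgroup.mem_inf.2 ⟨Subgroup.mem_centralizer_iff.2 fun y hy => ?_, c.2⟩)
    obtain ⟨m, rfl⟩ := hy
    exact ((show Commute (c : G) zG from (congrArg (fun y : G₁ => (y : G)) h2).symm).zpow_right m).eq.symm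

end Cfsg.Agent.S2897
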