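import Cfsg.Statements.S2898
import Cfsg.Agent.Lib.Solv.Basic
import Cfsg.Agent.Lib.Solv.Coprime
import Cfsg.Agent.Lib.Solv.Misc
import Cfsg.Agent.Lib.Local.CharPBasics
-- import your own Cfsg.Agent.* helpers here

set_option autoImplicit false
open Cfsg

namespace Cfsg.Agent.S2898

/-- Let G be a finite group of even order with parabolic characteristic 2. If the centre of G ⧸ O(G) is trivial, then O(G) = 1. -/
theorem result {G : Type*} [Group G] [Finite G] (h2 : 2 ∣ Nat.card G) (hG : Cfsg.IsOfParabolicCharacteristic 2 G) [hN : (Cfsg.oddCore G).Normal] (hZ : Subgroup.center (G ⧸ Cfsg.oddCore G) = ⊥) : Cfsg.oddCore G = ⊥ := by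
  set O := Cfsg.oddCore G with hO
  have hOodd : (Nat.card O).Coprime 2 := Cfsg.Agent.Solv.card_pPrimeCore_coprime 2 G
  by_contra hOne
  obtain ⟨S⟩ := Sylow.nonempty (p := 2) (G := G)
  have hcentral : ∀ z ∈ (S : Subgroup G), orderOf z = 2 → (∀ s ∈ (S : Subgroup G), s * z = z * s) →
      ∀ x ∈ O, x * z = z * x → x = 1 := by
    intro z hzS hz hcen x hx hxz
    set N := Subgroup.normalizer (Subgroup.zpowers z : Set G) with hN
    have hch := hG (Subgroup.zpowers z) (IsPGroup.of_card (n := 1) (by rw [Nat.card_zpowers, hz, pow_one]))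
      (fun e => by rw [Subgroup.zpowers_eq_bot.1 e, orderOf_one] at hz; omega)
      ⟨S, fun s hs => Subgroup.centralizer_le_normalizer _ (Subgroup.mem_centralizer_iff.2 fun y hy => by
        obtain ⟨m, rfl⟩ := hy
        exact ((show Commute s z from hcen s hs).zpow_right m).eq.symm)⟩
    have hxN : x ∈ N := Subgroup.centralizer_le_normalizer _ (Subgroup.mem_centralizer_iff.2 fun y hy => by
      obtain ⟨m, rfl⟩ := hy
      exact ((show Commute x z from hxz).zpow_right m).eq.symm)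
    haveI : (O.subgroupOf N).Normal := Subgroup.Normal.comap inferInstance _
    haveI : (Cfsg.pCore 2 N).Normal := by
      haveI := Cfsg.Agent.Solv.pCore_characteristic 2 N; infer_instance
    have hcard : (Nat.card (O.subgroupOf N)).Coprime 2 :=
      hOodd.coprime_dvd_left (Subgroup.card_comap_dvd_of_injective O N.subtype N.subtype_injective)
    have h1 : (⟨x, hxN⟩ : N) ∈ Cfsg.pCore 2 N := hch (by
      refine (Subgroup.commutator_eq_bot_iff_le_centralizer.1 (le_bot_iff.1 ?_)) (show (⟨x, hxN⟩ : N) ∈ O.subgroupOf N from hx)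
      refine (Subgroup.commutator_le_inf _ _).trans ?_
      rw [inf_comm, Cfsg.Agent.Solv.inf_eq_bot_of_isPGroup (Cfsg.Agent.Solv.isPGroup_pCore 2 N) hcard])
    have h2 : (⟨x, hxN⟩ : N) ∈ Cfsg.pCore 2 N ⊓ O.subgroupOf N := Subgroup.mem_inf.2 ⟨h1, hx⟩
    rw [Cfsg.Agent.Solv.inf_eq_bot_of_isPGroup (Cfsg.Agent.Solv.isPGroup_pCore 2 N) hcard] at h2
    exact congrArg Subtype.val (Subgroup.mem_bot.1 h2)
  -- an involution central in `S` and lying in a normal subgroup of even order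
  have hexist : ∀ L : Subgroup G, L.Normal → 2 ∣ Nat.card L →
      ∃ z, z ∈ (S : Subgroup G) ∧ z ∈ L ∧ orderOf z = 2 ∧ ∀ s ∈ (S : Subgroup G), s * z = z * s := by
    intro L hL hev
    haveI := hL
    haveI : (L.subgroupOf (S : Subgroup G)).Normal := Subgroup.Normal.comap hL _
    have hne : L.subgroupOf (S : Subgroup G) ≠ ⊥ := by
      intro e
      obtain ⟨x, hx⟩ := exists_prime_orderOf_dvd_card' 2 hev
      obtain ⟨S', hS'⟩ := (IsPGroup.of_card (n := 1) (p := 2) (G := Subgroup.zpowers (x : G))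
        (by rw [Nat.card_zpowers, Subgroup.orderOf_coe, hx, pow_one])).exists_le_sylow
      obtain ⟨g, rfl⟩ := MulAction.exists_smul_eq G S S'
      obtain ⟨y, hy, hyx⟩ := hS' (Subgroup.mem_zpowers (x : G))
      have hyx' : g * y * g⁻¹ = (x : G) := hyx
      have hyL : y ∈ L := by
        have := hL.conj_mem _ x.2 g⁻¹
        rw [← hyx'] at this
        simpa [mul_assoc] using this
      have hy1 : y = 1 := congrArg Subtype.val (e.le (show (⟨y, hy⟩ : (S : Subgroup G)) ∈ L.subgroupOf _ from hyL))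
      rw [hy1, mul_one, mul_inv_cancel] at hyx'
      rw [← Subgroup.orderOf_coe, ← hyx', orderOf_one] at hx
      omega
    haveI := S.isPGroup'.isNilpotent
    have hz0 : L.subgroupOf (S : Subgroup G) ⊓ Subgroup.center _ ≠ ⊥ :=
      Cfsg.Agent.Solv.inf_center_ne_bot _ hne
    obtain ⟨j, hj⟩ := IsPGroup.iff_card.1 (S.isPGroup'.to_subgroup (L.subgroupOf (S : Subgroup G) ⊓ Subgroup.center _))
    have hd : 2 ∣ Nat.card ↥(L.subgroupOf (S : Subgroup G) ⊓ Subgroup.center _) := by
      rcases j with _ | j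
      · exact absurd (Subgroup.card_eq_one.1 (by simpa using hj)) hz0
      · rw [hj]; exact dvd_pow_self 2 j.succ_ne_zero
    obtain ⟨x, hx⟩ := exists_prime_orderOf_dvd_card' 2 hd
    obtain ⟨hxL, hxZ⟩ := Subgroup.mem_inf.1 x.2
    exact ⟨((x : (S : Subgroup G)) : G), (x : (S : Subgroup G)).2, hxL,
      by rw [Subgroup.orderOf_coe, Subgroup.orderOf_coe, hx],
      fun s hs => congrArg Subtype.val (Subgroup.mem_center_iff.1 hxZ ⟨s, hs⟩)⟩
  obtain ⟨z, hzS, -, hz, hzc⟩ := hexist ⊤ inferInstance (by rwa [Subgroup.card_top])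
  have hz2 : z * z = 1 := by rw [← pow_two, ← hz, pow_orderOf_eq_one]
  have hzi : z⁻¹ = z := inv_eq_of_mul_eq_one_left hz2
  have hOn : O.Normal := hN
  -- `z` inverts `O`
  have hinv : ∀ w ∈ O, z * w * z = w⁻¹ := by
    have hmem : ∀ x : O, (x : G)⁻¹ * (z * x * z) ∈ O := fun x =>
      mul_mem (inv_mem x.2) (by simpa [hzi] using hOn.conj_mem _ x.2 z)
    let φ : O → O := fun x => ⟨_, hmem x⟩
    have hinj : Function.Injective φ := by
      intro a b hab
      have h1 : (a : G)⁻¹ * (z * a * z) = (b : G)⁻¹ * (z * b * z) := congrArg Subtype.val hab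
      have h2 : z * ((b : G) * (a : G)⁻¹) * z = (b : G) * (a : G)⁻¹ := by
        calc z * ((b : G) * (a : G)⁻¹) * z = (z * b * z) * (z⁻¹ * (a : G)⁻¹ * z⁻¹) * (z * z) := by group
          _ = (b : G) * ((b : G)⁻¹ * (z * b * z)) * (z * a * z)⁻¹ := by rw [hz2]; group
          _ = _ := by rw [← h1]; group
      have h3 := hcentral z hzS hz hzc _ (mul_mem b.2 (inv_mem a.2)) (by
        calc (b : G) * (a : G)⁻¹ * z = z * ((b : G) * (a : G)⁻¹) * z * z := by rw [h2]
          _ = z * ((b : G) * (a : G)⁻¹) := by rw [mul_assoc, hz2, mul_one])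
      exact Subtype.ext (mul_inv_eq_one.1 h3).symm
    intro w hw
    obtain ⟨x, hx⟩ := (Finite.injective_iff_surjective.1 hinj) ⟨w, hw⟩
    have h4 : (x : G)⁻¹ * (z * x * z) = w := congrArg Subtype.val hx
    rw [← h4]
    calc z * ((x : G)⁻¹ * (z * x * z)) * z = z * (x : G)⁻¹ * z * x * (z * z) := by group
      _ = z⁻¹ * (x : G)⁻¹ * z⁻¹ * x := by rw [hz2, mul_one, hzi]
      _ = _ := by group
  -- the centraliser of `O` has odd order
  haveI : (Subgroup.centralizer (O : Set G)).Normal := Subgroup.normal_centralizer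
  have hCodd : ¬ 2 ∣ Nat.card (Subgroup.centralizer (O : Set G)) := by
    intro hev
    obtain ⟨y, hyS, hyC, hy, hyc⟩ := hexist _ inferInstance hev
    exact hOne ((Subgroup.eq_bot_iff_forall O).2 fun x hx =>
      hcentral y hyS hy hyc x hx (Subgroup.mem_centralizer_iff.1 hyC x hx))
  have hCO : Subgroup.centralizer (O : Set G) ≤ O :=
    Cfsg.Agent.Solv.le_pPrimeCore ((Nat.prime_two.coprime_iff_not_dvd.2 hCodd).symm)
  have hzc' : ∀ g : G, g * z * g⁻¹ * z⁻¹ ∈ O := fun g => hCO (Subgroup.mem_centralizer_iff.2 fun w hw => by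
    have h1 := hinv _ (by simpa using hOn.conj_mem _ hw g⁻¹ : g⁻¹ * w * g ∈ O)
    have h2 : (g * z * g⁻¹) * w * (g * z * g⁻¹) = w⁻¹ := by
      calc (g * z * g⁻¹) * w * (g * z * g⁻¹) = g * (z * (g⁻¹ * w * g) * z) * g⁻¹ := by group
        _ = _ := by rw [h1]; group
    have h3 : (g * z * g⁻¹) * (g * z * g⁻¹) = 1 := by
      calc _ = g * (z * z) * g⁻¹ := by group
        _ = 1 := by rw [hz2]; group
    generalize g * z * g⁻¹ = u at h2 h3 ⊢
    have h4 := hinv w hw
    calc w * (u * z⁻¹) = (u * u) * w * (u * z⁻¹) := by rw [h3, one_mul]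
      _ = u * (u * w * u) * z⁻¹ := by group
      _ = u * w⁻¹ * z⁻¹ := by rw [h2]
      _ = u * (z * w * z) * z⁻¹ := by rw [h4]
      _ = u * z⁻¹ * w := by rw [hzi]; simp [mul_assoc, hz2])
  have hzO : z ∈ O := by
    have h1 : (QuotientGroup.mk z : G ⧸ O) ∈ Subgroup.center (G ⧸ O) := by
      refine Subgroup.mem_center_iff.2 fun q => ?_
      obtain ⟨g, rfl⟩ := QuotientGroup.mk_surjective q
      rw [← QuotientGroup.mk_mul, ← QuotientGroup.mk_mul, QuotientGroup.eq]
      have h5 := hOn.conj_mem _ (hzc' g⁻¹) z⁻¹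
      simpa [mul_assoc] using h5
    rw [hZ] at h1
    exact (QuotientGroup.eq_one_iff z).1 (Subgroup.mem_bot.1 h1)
  have h5 : (2 : ℕ) ∣ Nat.card O := hz ▸ Subgroup.orderOf_dvd_natCard _ hzO
  exact absurd (Nat.eq_one_of_dvd_coprimes hOodd h5 dvd_rfl) (by norm_num)

end Cfsg.Agent.S2898
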