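import Cfsg.Statements.S2904
import Mathlib.RingTheory.Polynomial.Cyclotomic.Eval
import Mathlib.RingTheory.Polynomial.Cyclotomic.Expand
import Mathlib.NumberTheory.Multiplicity
import Mathlib.FieldTheory.Finite.Basic
-- import your own Cfsg.Agent.* helpers here

set_option autoImplicit false
open Cfsg

namespace Cfsg.Agent.S2904

open Polynomial

/-- The value of a cyclotomic polynomial, as a natural number. -/
noncomputable def Φv (n : ℕ) (x : ℤ) : ℕ := ((cyclotomic n ℤ).eval x).natAbs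

theorem lower (n x : ℕ) (hn : 1 < n) (hx : 1 < x) : (x - 1) ^ n.totient < Φv n (x : ℤ) :=
  sub_one_pow_totient_lt_natAbs_cyclotomic_eval hn (by omega)

theorem dvd_geom (a n d : ℕ) (ha : 1 < a) (q : ℕ) (hq : 1 < q) (hd : 0 < d) (hn : n = d * q) :
    ((cyclotomic n ℤ).eval (a : ℤ)) ∣ ∑ j ∈ Finset.range q, ((a : ℤ) ^ d) ^ j := by
  have hmem : d ∈ n.properDivisors := by
    rw [Nat.mem_properDivisors, hn]; exact ⟨dvd_mul_right _ _, lt_mul_of_one_lt_right hd hq⟩
  have h := eval_dvd (x := (a : ℤ)) (X_pow_sub_one_mul_cyclotomic_dvd_X_pow_sub_one_of_dvd ℤ hmem)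
  simp only [eval_mul, eval_sub, eval_pow, eval_X, eval_one] at h
  have hg := geom_sum_mul ((a : ℤ) ^ d) q
  rw [← pow_mul, ← hn] at hg
  rw [← hg, mul_comm (∑ j ∈ Finset.range q, ((a : ℤ) ^ d) ^ j)] at h
  refine (mul_dvd_mul_iff_left ?_).1 h
  have : (1 : ℤ) < (a : ℤ) ^ d := one_lt_pow₀ (by exact_mod_cast ha) hd.ne'
  omega

theorem nonprimitive (a n r : ℕ) (ha : 1 < a) (hn : 2 < n) (hr : r.Prime) (hdvd : r ∣ Φv n (a : ℤ))
    (hnp : ∃ k, 0 < k ∧ k < n ∧ r ∣ a ^ k - 1) :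
    r ∣ n ∧ (∀ q : ℕ, q.Prime → q ∣ n → q ≤ r) ∧ ¬ r ^ 2 ∣ Φv n (a : ℤ) ∧
      ∃ i, i < r ∧ 0 < i ∧ i ∣ n ∧ ∀ q : ℕ, q.Prime → i * q ∣ n → q = r := by
  haveI := Fact.mk hr
  have hΦ : (r : ℤ) ∣ (cyclotomic n ℤ).eval (a : ℤ) := Int.natCast_dvd.2 hdvd
  have hpown : (a : ZMod r) ^ n = 1 := by
    have h1 := eval_dvd (x := (a : ℤ)) (cyclotomic.dvd_X_pow_sub_one n ℤ)
    simp only [eval_sub, eval_pow, eval_X, eval_one] at h1
    have h2 := (ZMod.intCast_zmod_eq_zero_iff_dvd _ r).2 (hΦ.trans h1)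
    push_cast at h2
    exact sub_eq_zero.1 h2
  set i := orderOf (a : ZMod r) with hi
  have hin : i ∣ n := orderOf_dvd_of_pow_eq_one hpown
  have hi0 : 0 < i := Nat.pos_of_dvd_of_pos hin (by omega)
  have hilt : i < r := by
    have h0 : (a : ZMod r) ≠ 0 := fun h => by
      rw [h, zero_pow (by omega)] at hpown; exact zero_ne_one hpown
    have h1 := Nat.le_of_dvd (by have := hr.two_le; omega) (orderOf_dvd_of_pow_eq_one (ZMod.pow_card_sub_one_eq_one h0))
    have := hr.two_le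
    omega
  have hin' : i < n := by
    obtain ⟨k, hk0, hkn, hk⟩ := hnp
    have h1 : (a : ZMod r) ^ k = 1 := by
      have h2 := (ZMod.natCast_eq_zero_iff _ r).2 hk
      rw [Nat.cast_sub (Nat.one_le_pow _ _ (by omega)), Nat.cast_pow, Nat.cast_one, sub_eq_zero] at h2
      exact h2
    exact (Nat.le_of_dvd hk0 (orderOf_dvd_of_pow_eq_one h1)).trans_lt hkn
  have hq : ∀ q : ℕ, q.Prime → i * q ∣ n → q = r := by
    intro q hq ⟨e, he⟩
    have hd : n = i * e * q := by rw [he]; ring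
    have he0 : 0 < i * e := by
      rcases Nat.eq_zero_or_pos (i * e) with h | h
      · rw [h, zero_mul] at hd; omega
      · exact h
    have h2 := (ZMod.intCast_zmod_eq_zero_iff_dvd _ r).2 (hΦ.trans (dvd_geom a n (i * e) ha q hq.one_lt he0 hd))
    push_cast at h2
    rw [show (a : ZMod r) ^ (i * e) = 1 by rw [pow_mul, hi, pow_orderOf_eq_one, one_pow]] at h2
    simp only [one_pow, Finset.sum_const, Finset.card_range, nsmul_eq_mul, mul_one] at h2
    exact ((Nat.prime_dvd_prime_iff_eq hr hq).1 ((ZMod.natCast_eq_zero_iff _ r).1 h2)).symm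
  obtain ⟨t, ht⟩ := hin
  have ht1 : t ≠ 1 := fun h => by rw [h, mul_one] at ht; omega
  obtain ⟨s, hs, hst⟩ := Nat.exists_prime_and_dvd ht1
  have hsr : s = r := hq s hs (ht ▸ mul_dvd_mul_left i hst)
  subst hsr
  have hrn : s ∣ n := ht ▸ hst.mul_left i
  have hmax : ∀ q : ℕ, q.Prime → q ∣ n → q ≤ s := by
    intro q hq' hqn
    by_cases hqi : q ∣ i
    · exact ((Nat.le_of_dvd hi0 hqi).trans hilt.le)
    · exact (hq q hq' ((Nat.Coprime.mul_dvd_of_dvd_of_dvd
        ((hq'.coprime_iff_not_dvd.2 hqi).symm) (ht ▸ dvd_mul_right i t) hqn))).le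
  refine ⟨hrn, hmax, ?_, i, hilt, hi0, ht ▸ dvd_mul_right i t, hq⟩
  intro hsq
  obtain ⟨u, hu⟩ := hst
  have hu0 : 0 < u := by
    rcases Nat.eq_zero_or_pos u with h | h
    · rw [hu, h] at ht; simp at ht; omega
    · exact h
  have hd : n = i * u * s := by rw [ht, hu]; ring
  have hsum := (Int.natCast_dvd.2 hsq).trans (dvd_geom a n (i * u) ha s hr.one_lt (Nat.mul_pos hi0 hu0) hd)
  push_cast at hsum
  have hx : (s : ℤ) ∣ (a : ℤ) ^ (i * u) - 1 := by
    rw [← ZMod.intCast_zmod_eq_zero_iff_dvd]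
    push_cast
    rw [pow_mul, hi, pow_orderOf_eq_one, one_pow, sub_self]
  rcases hr.eq_two_or_odd' with h2 | hodd
  · -- `s = 2`
    subst h2
    have hi1 : i = 1 := by omega
    have hu2 : 2 ∣ u := by
      by_contra h
      rcases Nat.eq_zero_or_pos (u - 1) with h' | h'
      · rw [hi1] at hd; omega
      · obtain ⟨q, hq', hqu⟩ := Nat.exists_prime_and_dvd (show u ≠ 1 by omega)
        exact h (hq q hq' (hd ▸ (mul_dvd_mul_left i hqu).mul_right 2) ▸ hqu)
    obtain ⟨w, rfl⟩ := hu2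
    obtain ⟨m, hm⟩ := hx
    rw [hi1, one_mul] at hsum hm
    simp only [Finset.sum_range_succ, Finset.range_zero, Finset.sum_empty, pow_zero, zero_add, pow_one] at hsum
    obtain ⟨l, hl⟩ := hsum
    have hm' : (a : ℤ) ^ (2 * w) = ((a : ℤ) ^ w) ^ 2 := by rw [← pow_mul, mul_comm]
    rw [hm'] at hm hl
    generalize (a : ℤ) ^ w = z at hm hl
    rcases Int.even_or_odd z with ⟨v, hv⟩ | ⟨v, hv⟩
    · subst hv
      have e : (v + v) ^ 2 = 2 * (2 * v ^ 2) := by ring
      rw [e] at hm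
      omega
    · subst hv
      have e : (2 * v + 1) ^ 2 = 4 * (v ^ 2 + v) + 1 := by ring
      rw [e] at hl
      omega
  · obtain ⟨b, hb⟩ := hx
    have h1 := odd_sq_dvd_geom_sum₂_sub (R := ℤ) (a := 1) (b := b) hodd
    simp only [one_pow, mul_one] at h1
    rw [show (1 : ℤ) + (s : ℤ) * b = (a : ℤ) ^ (i * u) by omega] at h1
    have h3 := dvd_sub hsum h1
    rw [sub_sub_cancel] at h3
    have h4 : s ^ 2 ∣ s := by exact_mod_cast h3
    have := Nat.le_of_dvd hr.pos h4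
    nlinarith [hr.two_le]

theorem zsigmondy (a n : ℕ) (ha : 1 < a) (hn : 2 < n) (h6 : ¬ (a = 2 ∧ n = 6))
    (hno : ¬ ∃ r : ℕ, r.Prime ∧ r ∣ a ^ n - 1 ∧ ∀ k : ℕ, 0 < k → k < n → ¬ r ∣ a ^ k - 1) : False := by
  set N := Φv n (a : ℤ) with hN
  have hN1 : 1 < N := lt_of_le_of_lt (Nat.one_le_pow _ _ (by omega)) (lower n a (by omega) ha)
  have hdvdN : N ∣ a ^ n - 1 := by
    have h1 := eval_dvd (x := (a : ℤ)) (cyclotomic.dvd_X_pow_sub_one n ℤ)
    simp only [eval_sub, eval_pow, eval_X, eval_one] at h1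
    have h3 : ((a ^ n - 1 : ℕ) : ℤ) = (a : ℤ) ^ n - 1 := by
      rw [Nat.cast_sub (Nat.one_le_pow _ _ (by omega)), Nat.cast_pow, Nat.cast_one]
    rw [← h3] at h1
    exact Int.natAbs_dvd_natAbs.2 h1
  have hall : ∀ r : ℕ, r.Prime → r ∣ N → _ := fun r hr hrN => nonprimitive a n r ha hn hr hrN (by
    by_contra h
    push Not at h
    exact hno ⟨r, hr, hrN.trans hdvdN, h⟩)
  obtain ⟨P, hP, hPN⟩ := Nat.exists_prime_and_dvd hN1.ne'
  obtain ⟨hPn, hmax, hsq, i, hiP, hi0, hin, hq⟩ := hall P hP hPN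
  have hNP : N = P := by
    obtain ⟨c, hc⟩ := hPN
    by_contra hne
    have hc1 : c ≠ 1 := fun h => hne (by rw [hc, h, mul_one])
    obtain ⟨s, hs, hsc⟩ := Nat.exists_prime_and_dvd hc1
    have hsN : s ∣ N := hc ▸ hsc.mul_left P
    have hsP : s = P := le_antisymm (hmax s hs (hall s hs hsN).1) ((hall s hs hsN).2.1 P hP hPn)
    exact hsq (show P ^ 2 ∣ N by rw [hc, pow_two]; exact mul_dvd_mul_left P (hsP ▸ hsc))
  have hφ : P - 1 ≤ n.totient := by
    rw [← Nat.totient_prime hP]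
    exact Nat.le_of_dvd (Nat.totient_pos.2 (by omega)) (Nat.totient_dvd_of_dvd hPn)
  have hP2 := hP.two_le
  have hpow : P ≤ 2 ^ (P - 1) := by
    have := Nat.lt_two_pow_self (n := P - 1)
    omega
  by_cases ha2 : a = 2
  swap
  · have h1 := lower n a (by omega) ha
    have h2 : 2 ^ (P - 1) ≤ (a - 1) ^ n.totient :=
      (Nat.pow_le_pow_right two_pos hφ).trans (Nat.pow_le_pow_left (by omega) _)
    omega
  subst ha2
  obtain ⟨m, hm⟩ := hPn
  have hm0 : 0 < m := by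
    rcases Nat.eq_zero_or_pos m with h | h
    · rw [h] at hm; omega
    · exact h
  have h2P : P < 2 ^ P - 1 := by
    have h4 : 2 ^ P = 2 * 2 ^ (P - 1) := by rw [← pow_succ', Nat.sub_add_cancel hP.one_le]
    omega
  have hxc : (((2 ^ P : ℕ)) : ℤ) = (2 : ℤ) ^ P := by push_cast; rfl
  by_cases hPm : P ∣ m
  · have e := congrArg (Polynomial.eval (2 : ℤ)) (cyclotomic_expand_eq_cyclotomic hP hPm ℤ)
    rw [expand_eval, mul_comm, ← hm] at e
    have h1 := lower m (2 ^ P) (lt_of_lt_of_le hP.one_lt (Nat.le_of_dvd hm0 hPm)) (Nat.one_lt_two_pow hP.ne_zero)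
    rw [hxc] at h1
    have h2 : 2 ^ P - 1 ≤ (2 ^ P - 1) ^ m.totient := Nat.le_self_pow (Nat.totient_pos.2 hm0).ne' _
    have hN' : Φv m ((2 : ℤ) ^ P) = N := congrArg Int.natAbs e
    omega
  have e := congrArg (Polynomial.eval (2 : ℤ)) (cyclotomic_expand_eq_cyclotomic_mul hP hPm ℤ)
  rw [expand_eval, eval_mul, mul_comm m P, ← hm] at e
  have hN' : Φv m ((2 : ℤ) ^ P) = N * Φv m 2 := (congrArg Int.natAbs e).trans (Int.natAbs_mul _ _)
  rw [hNP] at hN'
  rcases (show m = 1 ∨ m = 2 ∨ 3 ≤ m by omega) with h | h | h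
  · subst h
    simp only [Φv, cyclotomic_one, eval_sub, eval_X, eval_one] at hN'
    have h1 : ((2 : ℤ) ^ P - 1).natAbs = 2 ^ P - 1 := by
      have : 1 ≤ 2 ^ P := Nat.one_le_two_pow
      rw [← hxc]; omega
    rw [h1] at hN'
    simp at hN'
    omega
  · subst h
    simp only [Φv, cyclotomic_two, eval_add, eval_X, eval_one] at hN'
    have h1 : ((2 : ℤ) ^ P + 1).natAbs = 2 ^ P + 1 := by rw [← hxc]; omega
    rw [h1] at hN'
    simp at hN'
    rcases (show P = 2 ∨ P = 3 ∨ P = 4 ∨ 5 ≤ P by omega) with h | h | h | h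
    · subst h; omega
    · subst h; exact h6 ⟨rfl, by omega⟩
    · subst h; omega
    · have h5 : ∀ k, 3 * (5 + k) < 2 ^ (5 + k) + 1 := by
        intro k
        induction k with
        | zero => norm_num
        | succ k ih => rw [← add_assoc, pow_succ]; omega
      have := h5 (P - 5)
      rw [Nat.add_sub_cancel' h] at this
      omega
  · have hmi : m ≤ P - 1 := by
      have hiP' : Nat.Coprime i P := ((hP.coprime_iff_not_dvd.2 fun hd => by
        have := Nat.le_of_dvd hi0 hd; omega)).symm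
      obtain ⟨c, rfl⟩ : i ∣ m := (Nat.Coprime.dvd_mul_left hiP').1 (hm ▸ hin)
      by_cases hc : c = 1
      · subst hc; omega
      obtain ⟨q, hq', hqc⟩ := Nat.exists_prime_and_dvd hc
      have := hq q hq' (hm ▸ (mul_dvd_mul_left i hqc).mul_left P)
      exact absurd ((this ▸ hqc).mul_left i) hPm
    have h1 := lower m (2 ^ P) (by omega) (Nat.one_lt_two_pow hP.ne_zero)
    rw [hxc] at h1
    have hφm : 2 ≤ m.totient := by
      obtain ⟨k, hk⟩ := Nat.totient_even (show 2 < m by omega)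
      have := Nat.totient_pos.2 hm0
      omega
    have h2 : (2 ^ P - 1) ^ 2 ≤ (2 ^ P - 1) ^ m.totient := Nat.pow_le_pow_right (by omega) hφm
    have h3 : Φv m 2 ≤ 2 ^ m := by
      have h4 := eval_dvd (x := (2 : ℤ)) (cyclotomic.dvd_X_pow_sub_one m ℤ)
      simp only [eval_sub, eval_pow, eval_X, eval_one] at h4
      have h5 : ((2 : ℤ) ^ m - 1).natAbs = 2 ^ m - 1 := by
        have : 1 ≤ 2 ^ m := Nat.one_le_two_pow
        have e : (((2 ^ m : ℕ)) : ℤ) = (2 : ℤ) ^ m := by push_cast; rfl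
        rw [← e]; omega
      have := Nat.le_of_dvd (by have := Nat.one_lt_two_pow (show m ≠ 0 by omega); omega) (h5 ▸ Int.natAbs_dvd_natAbs.2 h4)
      show _ ≤ _
      exact this.trans (Nat.sub_le _ _)
    have h6' : 2 ^ (P - 1) ≤ 2 ^ P - 1 := by
      have h4 : 2 ^ P = 2 * 2 ^ (P - 1) := by rw [← pow_succ', Nat.sub_add_cancel hP.one_le]
      have := Nat.one_le_two_pow (n := P - 1)
      omega
    have h7 : P * Φv m 2 ≤ (2 ^ P - 1) ^ 2 := by
      rw [pow_two]
      exact Nat.mul_le_mul (hpow.trans h6') (h3.trans ((Nat.pow_le_pow_right two_pos hmi).trans h6'))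
    omega


/-- Zsigmondy's Theorem: for natural numbers a > 1 and n > 1 there is a prime dividing aⁿ − 1 that divides aᵏ − 1 for no natural number 0 < k < n, unless a = 2 and n = 6, or n = 2 and a + 1 is a power of two. -/
theorem result (a n : ℕ) (ha : 1 < a) (hn : 1 < n) (h6 : ¬ (a = 2 ∧ n = 6)) (h2 : ¬ (n = 2 ∧ ∃ m : ℕ, a + 1 = 2 ^ m)) : ∃ r : ℕ, r.Prime ∧ r ∣ a ^ n - 1 ∧ ∀ k : ℕ, 0 < k → k < n → ¬ r ∣ a ^ k - 1 := by
  skip
  classical
  rcases eq_or_ne n 2 with rfl | hn2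
  · -- an odd prime divisor of `a + 1`
    obtain ⟨r, hr, hra, hr2⟩ : ∃ r : ℕ, r.Prime ∧ r ∣ a + 1 ∧ r ≠ 2 := by
      by_contra h
      push Not at h
      refine h2 ⟨rfl, (a + 1).primeFactorsList.length, ?_⟩
      exact Nat.eq_prime_pow_of_unique_prime_dvd (by omega) fun {d} hd hdvd => h d hd hdvd
    refine ⟨r, hr, ?_, fun k hk0 hk2 h => hr2 ?_⟩
    · have : a ^ 2 - 1 = (a + 1) * (a - 1) := by rw [← Nat.sq_sub_sq, one_pow]
      rw [this]
      exact hra.trans (dvd_mul_right _ _)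
    · obtain rfl : k = 1 := by omega
      rw [pow_one] at h
      have h' : r ∣ 2 := by
        have := Nat.dvd_sub hra h
        rwa [show a + 1 - (a - 1) = 2 by omega] at this
      exact (Nat.prime_dvd_prime_iff_eq hr Nat.prime_two).1 h'
  by_contra hno
  exact zsigmondy a n ha (by omega) h6 hno

end Cfsg.Agent.S2904
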