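import Cfsg.Statements.S2905
import Cfsg.Agent.Lib.Local.PairControlFull
import Cfsg.Agent.Lib.Solv.Basic
import Cfsg.Agent.Lib.Solv.Subnormal
import Cfsg.Agent.Lib.Solv.NormalPComplement
-- import your own Cfsg.Agent.* helpers here

set_option autoImplicit false
open Cfsg

namespace Cfsg.Agent.S2905

/-- Let P be a finite p-minimal group (a Sylow p-subgroup S is not normal and lies in a unique maximal subgroup M of P) and let F be the normal core of M. Then: every subnormal subgroup N of P contained in M satisfies N ∩ S ≤ O_p(P); if O^p(P) has a normal Sylow p-subgroup then the order of P has at most two prime divisors; every normal subgroup N of P either contains O^p(P) or is contained in F; and O^p(P)F ⧸ F is a minimal normal subgroup of P ⧸ F. -/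
theorem result {P : Type*} [Group P] [Finite P] {p : ℕ} [Fact p.Prime] (hP : Cfsg.IsPMinimal p P) (S : Sylow p P) (M : Subgroup P) (hM : IsCoatom M) (hSM : (S : Subgroup P) ≤ M) [hF : M.normalCore.Normal] : (∀ N : Subgroup P, N.IsSubnormal → N ≤ M → N ⊓ (S : Subgroup P) ≤ Cfsg.pCore p P) ∧ ((∀ T : Sylow p ↥(Cfsg.pResidual p P), (T : Subgroup ↥(Cfsg.pResidual p P)).Normal) → (Nat.card P).primeFactors.card ≤ 2) ∧ (∀ N : Subgroup P, N.Normal → Cfsg.pResidual p P ≤ N ∨ N ≤ M.normalCore) ∧ (∀ N : Subgroup P, N.Normal → M.normalCore ≤ N → N ≤ Cfsg.pResidual p P ⊔ M.normalCore → N = M.normalCore ∨ N = Cfsg.pResidual p P ⊔ M.normalCore) ∧ M.normalCore < Cfsg.pResidual p P ⊔ M.normalCore := by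
  skip
  classical
  obtain ⟨hSn, hex⟩ := hP S
  have hle : ∀ H : Subgroup P, (S : Subgroup P) ≤ H → H ≠ ⊤ → H ≤ M := by
    intro H hH hne
    rcases IsCoatomic.eq_top_or_exists_le_coatom H with h | ⟨C, hC, hHC⟩
    · exact absurd h hne
    · exact (hex.unique ⟨hC, hH.trans hHC⟩ ⟨hM, hSM⟩) ▸ hHC
  have htop : ∀ H : Subgroup P, (S : Subgroup P) ≤ H → ¬ H ≤ M → H = ⊤ := fun H h1 h2 =>
    by_contra fun h => h2 (hle H h1 h)
  obtain ⟨R, hR⟩ : ∃ R, R = Cfsg.pResidual p P := ⟨_, rfl⟩
  haveI hRn : R.Normal := by rw [hR]; infer_instance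
  have hSR : (S : Subgroup P) ⊔ R = ⊤ := hR ▸ Cfsg.Agent.Solv.sup_pResidual_eq_top S
  have hRM : ¬ R ≤ M := fun h => hM.1 (top_le_iff.1 (hSR ▸ sup_le hSM h))
  have h3 : ∀ N : Subgroup P, N.Normal → R ≤ N ∨ N ≤ M.normalCore := by
    intro N hN
    by_cases h : N ≤ M
    · exact Or.inr ((Subgroup.normal_le_normalCore).2 h)
    left
    have ht : (S : Subgroup P) ⊔ N = ⊤ := htop _ le_sup_left fun h' => h (le_sup_right.trans h')
    rw [hR]
    refine Cfsg.Agent.Solv.pResidual_le_of_index N ?_
    obtain ⟨k, hk⟩ := IsPGroup.iff_card.1 S.isPGroup'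
    have hd : N.index ∣ p ^ k := by
      rw [← Subgroup.relIndex_top_right, ← ht, Subgroup.relIndex_sup_right, ← hk]
      exact Subgroup.relIndex_dvd_card _ _
    obtain ⟨j, -, hj⟩ := (Nat.dvd_prime_pow (Fact.out : p.Prime)).1 hd
    exact ⟨j, hj⟩
  rw [← hR]
  refine ⟨?_, ?_, h3, ?_, ?_⟩
  · intro N hN hNM
    have hnorm : (S : Subgroup P) ⊓ M.normalCore ≤ Cfsg.pCore p P := by
      obtain ⟨Q, hQ⟩ := Cfsg.Agent.Local.PairControl.exists_sylow_map_eq S M.normalCore
      have hF := Sylow.normalizer_sup_eq_top Q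
      rw [hQ] at hF
      have hSN : (S : Subgroup P) ≤ Subgroup.normalizer ((((S : Subgroup P) ⊓ M.normalCore : Subgroup P)) : Set P) := by
        intro s hs
        refine Cfsg.Agent.Solv.mem_normalizer_of_conj_le ?_
        intro x hx
        obtain ⟨y, hy, rfl⟩ := hx
        refine Subgroup.mem_inf.2 ⟨mul_mem (mul_mem hs hy.1) (inv_mem hs), ?_⟩
        exact (inferInstance : M.normalCore.Normal).conj_mem y hy.2 s
      have ht := htop _ hSN fun h => hM.1 (top_le_iff.1 (hF ▸ sup_le h (Subgroup.normalCore_le M)))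
      haveI : ((S : Subgroup P) ⊓ M.normalCore).Normal := Subgroup.normalizer_eq_top_iff.1 ht
      exact Cfsg.Agent.Solv.le_pCore (S.isPGroup'.to_le inf_le_left)
    suffices N ≤ M.normalCore from fun x hx => hnorm ⟨hx.2, this hx.1⟩
    have hconj : ∀ (A : Subgroup P) (g : P), A.IsSubnormal → (A.map (MulAut.conj g).toMonoidHom).IsSubnormal :=
      fun A g hA => hA.map (MulAut.conj g).surjective
    let clos : Subgroup P → Subgroup P := fun A =>
      sSup (Set.range fun s : (S : Subgroup P) => A.map (MulAut.conj (s : P)).toMonoidHom)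
    have hclos : ∀ A : Subgroup P, A.IsSubnormal → A ≤ M → (clos A).IsSubnormal ∧ clos A ≤ M ∧
        (S : Subgroup P) ≤ Subgroup.normalizer (clos A : Set P) ∧ A ≤ clos A := by
      intro A hA hAM
      refine ⟨Cfsg.Agent.Solv.isSubnormal_sSup ?_, sSup_le ?_, ?_, ?_⟩
      · rintro _ ⟨s, rfl⟩; exact hconj A _ hA
      · rintro _ ⟨s, rfl⟩ _ ⟨a, ha, rfl⟩
        exact mul_mem (mul_mem (hSM s.2) (hAM ha)) (inv_mem (hSM s.2))
      · intro s hs
        refine Cfsg.Agent.Solv.mem_normalizer_of_conj_le ?_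
        show (clos A).map (MulAut.conj s).toMonoidHom ≤ clos A
        rw [Subgroup.map_le_iff_le_comap]
        refine sSup_le ?_
        rintro _ ⟨t, rfl⟩ _ ⟨a, ha, rfl⟩
        have h5 : A.map (MulAut.conj (s * (t : P))).toMonoidHom ≤ clos A :=
          le_sSup ⟨⟨s * (t : P), mul_mem hs t.2⟩, rfl⟩
        refine h5 ⟨a, ha, ?_⟩
        show s * (t : P) * a * (s * (t : P))⁻¹ = s * ((t : P) * a * (t : P)⁻¹) * s⁻¹
        group
      · refine le_trans ?_ (le_sSup ⟨1, rfl⟩)
        exact fun a ha => ⟨a, ha, by simp⟩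
    obtain ⟨h1, h2, h3', h4⟩ := hclos N hN hNM
    obtain ⟨J, ⟨hJN, hJ, hJM, hJS⟩, hmax⟩ := (Set.toFinite {J : Subgroup P | N ≤ J ∧ J.IsSubnormal ∧ J ≤ M ∧
      (S : Subgroup P) ≤ Subgroup.normalizer (J : Set P)}).exists_maximal ⟨clos N, h4, h1, h2, h3'⟩
    by_cases hJn : J.Normal
    · exact hJN.trans ((Subgroup.normal_le_normalCore).2 hJM)
    exfalso
    obtain ⟨g, hg1, hg2⟩ := Cfsg.Agent.Solv.exists_conj_le_normalizer hJ hJn
    have hNM' : Subgroup.normalizer (J : Set P) ≤ M :=
      hle _ hJS fun h => hJn (Subgroup.normalizer_eq_top_iff.1 h)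
    change J.map (MulAut.conj g).toMonoidHom ≠ J at hg1
    change J.map (MulAut.conj g).toMonoidHom ≤ _ at hg2
    obtain ⟨a1, a2, a3, a4⟩ := hclos (J ⊔ J.map (MulAut.conj g).toMonoidHom)
      (Cfsg.Agent.Solv.isSubnormal_sup hJ (hconj J g hJ)) (sup_le hJM (hg2.trans hNM'))
    have hJJ := hmax (y := clos _) ⟨(hJN.trans le_sup_left).trans a4, a1, a2, a3⟩ (le_sup_left.trans a4)
    refine hg1 (Subgroup.eq_of_le_of_card_ge ((le_sup_right.trans a4).trans hJJ) ?_)
    exact (Nat.card_congr (J.equivMapOfInjective _ (MulAut.conj g).injective).toEquiv).le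
  · intro hTn
    obtain ⟨T, hT⟩ := Cfsg.Agent.Local.PairControl.exists_sylow_map_eq S R
    set T₀ := (S : Subgroup P) ⊓ R with hT₀
    haveI hT₀n : T₀.Normal := by
      subst hR
      haveI := hTn T
      haveI := Sylow.characteristic_of_normal T inferInstance
      rw [← hT]
      infer_instance
    have hq : ∀ q : ℕ, q.Prime → q ≠ p → ∃ Q : Subgroup P, Q ≤ R ∧ IsPGroup q ↥Q ∧ ¬ q ∣ Q.relIndex R ∧
        (S : Subgroup P) ≤ Subgroup.normalizer ((T₀ ⊔ Q : Subgroup P) : Set P) := by
      intro q hqp hqne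
      haveI := Fact.mk hqp
      obtain ⟨Q⟩ := Sylow.nonempty (p := q) (G := R)
      set Q₀ := (Q : Subgroup R).map R.subtype with hQ₀
      set X := Subgroup.normalizer ((T₀ ⊔ Q₀ : Subgroup P) : Set P) with hX
      have hF := Sylow.normalizer_sup_eq_top Q
      have hNX : Subgroup.normalizer (Q₀ : Set P) ≤ X := by
        intro n hn
        refine Cfsg.Agent.Solv.mem_normalizer_of_conj_le ?_
        show (T₀ ⊔ Q₀).map (MulAut.conj n).toMonoidHom ≤ T₀ ⊔ Q₀
        rw [Subgroup.map_sup]
        refine sup_le_sup ?_ ?_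
        · rintro _ ⟨t, ht, rfl⟩; exact hT₀n.conj_mem t ht n
        · rintro _ ⟨t, ht, rfl⟩; exact (Subgroup.mem_normalizer_iff.1 hn t).1 ht
      have hXR : X ⊔ R = ⊤ := top_le_iff.1 (hF ▸ sup_le_sup_right hNX R)
      have hpX : ¬ p ∣ X.index := by
        have e0 : R.relIndex X = R.index := by
          rw [← Subgroup.relIndex_top_right R, ← hXR, Subgroup.relIndex_sup_right]
        have e1 := Subgroup.relIndex_mul_index (inf_le_left : R ⊓ X ≤ R)
        have e2 := Subgroup.relIndex_mul_index (inf_le_right : R ⊓ X ≤ X)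
        rw [Subgroup.inf_relIndex_left] at e1
        rw [Subgroup.inf_relIndex_right, e0] at e2
        have e3 : X.index = X.relIndex R := by
          have := e2.trans e1.symm
          exact Nat.eq_of_mul_eq_mul_left (Nat.pos_of_ne_zero Subgroup.index_ne_zero_of_finite)
            (this.trans (mul_comm _ _))
        rw [e3]
        intro h
        have hT0X : T₀ ≤ X := le_sup_left.trans Subgroup.le_normalizer
        refine T.not_dvd_index (h.trans ?_)
        rw [← Subgroup.relIndex_top_right, ← Subgroup.relIndex_map_map_of_injective _ _ R.subtype_injective, hT,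
          ← MonoidHom.range_eq_map, Subgroup.range_subtype]
        exact Subgroup.relIndex_dvd_of_le_left _ hT0X
      obtain ⟨T₁⟩ := Sylow.nonempty (p := p) (G := X)
      obtain ⟨U, hU⟩ := (T₁.isPGroup'.map X.subtype).exists_le_sylow
      have hUX : (U : Subgroup P) ≤ X := by
        have hcard : Nat.card ((T₁ : Subgroup X).map X.subtype) = Nat.card (U : Subgroup P) := by
          rw [← Nat.card_congr ((T₁ : Subgroup X).equivMapOfInjective _ X.subtype_injective).toEquiv,
            T₁.card_eq_multiplicity, U.card_eq_multiplicity, ← X.card_mul_index]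
          congr 1
          rw [Nat.factorization_mul Nat.card_pos.ne' Subgroup.index_ne_zero_of_finite,
            Finsupp.add_apply, Nat.factorization_eq_zero_of_not_dvd hpX, add_zero]
        exact (Subgroup.eq_of_le_of_card_ge hU hcard.ge) ▸ Subgroup.map_subtype_le _
      obtain ⟨g, hg⟩ := MulAction.exists_smul_eq P U S
      refine ⟨Q₀.map (MulAut.conj g).toMonoidHom, ?_, (Q.isPGroup'.map R.subtype).map _, ?_, ?_⟩
      · rintro _ ⟨x, hx, rfl⟩; exact hRn.conj_mem x (Subgroup.map_subtype_le _ hx) g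
      · have e : R.map (MulAut.conj g).toMonoidHom = R :=
          Subgroup.eq_of_le_of_card_ge (by rintro _ ⟨x, hx, rfl⟩; exact hRn.conj_mem x hx g)
            (Nat.card_congr (R.equivMapOfInjective _ (MulAut.conj g).injective).toEquiv).le
        conv => arg 1; arg 2; arg 2; rw [← e]
        rw [Subgroup.relIndex_map_map_of_injective _ _ (MulAut.conj g).injective]
        have e' : Q₀.relIndex R = (Q : Subgroup R).index := by
          rw [← Subgroup.relIndex_top_right (Q : Subgroup R), ← Subgroup.relIndex_map_map_of_injective _ ⊤ R.subtype_injective,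
            ← MonoidHom.range_eq_map, Subgroup.range_subtype]
        rw [e']
        exact Q.not_dvd_index
      · have eT : T₀.map (MulAut.conj g).toMonoidHom = T₀ :=
          Subgroup.eq_of_le_of_card_ge (by rintro _ ⟨x, hx, rfl⟩; exact hT₀n.conj_mem x hx g)
            (Nat.card_congr (T₀.equivMapOfInjective _ (MulAut.conj g).injective).toEquiv).le
        rw [← hg]
        show (U : Subgroup P).map (MulAut.conj g).toMonoidHom ≤ _
        conv_rhs => rw [← eT, ← Subgroup.map_sup]
        exact (Subgroup.map_mono hUX).trans (Subgroup.map_equiv_normalizer_eq _ (MulAut.conj g)).le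
    by_contra hcard
    apply hRM
    have hall : ∀ q : ℕ, q.Prime → ¬ q ∣ M.relIndex R := by
      intro q hqp
      by_cases hqne : q = p
      · subst hqne
        intro h
        refine T.not_dvd_index (h.trans ?_)
        rw [← Subgroup.relIndex_top_right, ← Subgroup.relIndex_map_map_of_injective _ _ R.subtype_injective, hT,
          ← MonoidHom.range_eq_map, Subgroup.range_subtype]
        exact Subgroup.relIndex_dvd_of_le_left _ ((inf_le_left).trans hSM)
      obtain ⟨Q, hQR, hQq, hQi, hQS⟩ := hq q hqp hqne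
      intro h
      by_cases ht : (S : Subgroup P) ⊔ (T₀ ⊔ Q) = ⊤
      · apply hcard
        haveI := Fact.mk hqp
        obtain ⟨a, ha⟩ := IsPGroup.iff_card.1 S.isPGroup'
        obtain ⟨b, hb⟩ := IsPGroup.iff_card.1 (S.isPGroup'.to_le (inf_le_left : T₀ ≤ _))
        obtain ⟨c, hc⟩ := IsPGroup.iff_card.1 hQq
        have hd : Nat.card P ∣ p ^ (a + b) * q ^ c := by
          have d1 := Cfsg.Agent.Solv.card_sup_dvd (T₀ ⊔ Q) (S : Subgroup P) hQS
          have d2 := Cfsg.Agent.Solv.card_sup_dvd_of_normal T₀ Q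
          rw [sup_comm, ht, Subgroup.card_top, ha] at d1
          rw [hb, hc] at d2
          refine d1.trans (dvd_trans (mul_dvd_mul_right d2 _) (dvd_of_eq ?_))
          rw [pow_add]; ring
        refine (Finset.card_le_card (t := {p, q}) fun r hr => ?_).trans (Finset.card_le_two)
        obtain ⟨hr1, hr2, -⟩ := Nat.mem_primeFactors.1 hr
        rcases (Nat.Prime.dvd_mul hr1).1 (hr2.trans hd) with h | h
        · simp [(Nat.prime_dvd_prime_iff_eq hr1 (Fact.out : p.Prime)).1 (hr1.dvd_of_dvd_pow h)]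
        · simp [(Nat.prime_dvd_prime_iff_eq hr1 hqp).1 (hr1.dvd_of_dvd_pow h)]
      · have hQM : Q ≤ M := (le_sup_of_le_right le_sup_right).trans (hle _ le_sup_left ht)
        exact hQi (h.trans (Subgroup.relIndex_dvd_of_le_left _ hQM))
    refine Subgroup.relIndex_eq_one.1 ?_
    by_contra h
    obtain ⟨q, hqp, hqd⟩ := Nat.exists_prime_and_dvd h
    exact hall q hqp hqd
  · intro N hN hFN hNR
    rcases h3 N hN with h | h
    · exact Or.inr (le_antisymm hNR (sup_le h hFN))
    · exact Or.inl (le_antisymm h hFN)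
  · refine lt_of_le_of_ne le_sup_right fun h => hRM ?_
    exact (le_sup_left.trans h.ge).trans (Subgroup.normalCore_le M)

end Cfsg.Agent.S2905
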