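import Cfsg.Statements.S2906
import Cfsg.Agent.Lib.Local.PairControlFull
import Cfsg.Agent.Lib.Solv.Basic
import Cfsg.Agent.Lib.Solv.Subnormal
import Cfsg.Agent.Lib.Solv.NormalPComplement
import Cfsg.Agent.Lib.Local.Component
import Cfsg.Agent.Lib.Local.FStar
import Cfsg.Agent.S2905
-- import your own Cfsg.Agent.* helpers here

set_option autoImplicit false
open Cfsg

namespace Cfsg.Agent.S2906

open Subgroup
open scoped commutatorElement

theorem subnormal_sylow {P : Type*} [Group P] [Finite P] {p : ℕ} [Fact p.Prime] (S : Sylow p P) {K : Subgroup P}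
    (hK : K.IsSubnormal) : ¬ p ∣ (S : Subgroup P).relIndex K := by
  induction hK with
  | top => rw [relIndex_top_right]; exact S.not_dvd_index
  | step H K' hle _ hn ih =>
    haveI := hn
    set T : Sylow p K' := ((S.isPGroup'.to_le (inf_le_left : (S : Subgroup P) ⊓ K' ≤ _)).of_equiv
      (subgroupOfEquivOfLe (inf_le_right : (S : Subgroup P) ⊓ K' ≤ K')).symm).toSylow
      (by rw [show (((S : Subgroup P) ⊓ K').subgroupOf K').index = ((S : Subgroup P) ⊓ K').relIndex K' from rfl,
        inf_relIndex_right]; exact ih) with hT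
    obtain ⟨Q, hQ⟩ := Cfsg.Agent.Local.PairControl.exists_sylow_map_eq T (H.subgroupOf K')
    intro h
    refine Q.not_dvd_index (h.trans (dvd_of_eq ?_))
    rw [← relIndex_top_right (Q : Subgroup ↥(H.subgroupOf K')), ← relIndex_map_map_of_injective _ _ (subtype_injective _), hQ,
      ← MonoidHom.range_eq_map, range_subtype, inf_relIndex_right]
    show (S : Subgroup P).relIndex H = (((S : Subgroup P) ⊓ K').subgroupOf K').relIndex (H.subgroupOf K')
    rw [relIndex_subgroupOf hle, ← inf_relIndex_right, ← inf_relIndex_right ((S : Subgroup P) ⊓ K'), inf_assoc,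
      inf_eq_right.2 hle]

theorem no_pprime {P : Type*} [Group P] [Finite P] {p : ℕ} [Fact p.Prime] {S : Sylow p P} {M : Subgroup P}
    (hM : IsCoatom M) (hSM : (S : Subgroup P) ≤ M)
    (hle : ∀ H : Subgroup P, (S : Subgroup P) ≤ H → H ≠ ⊤ → H ≤ M) {K : Subgroup P} (hK : Cfsg.IsComponent K)
    (hER : (⨆ s : ↥(S : Subgroup P), K.map (MulAut.conj (s : P)).toMonoidHom) = Cfsg.pResidual p P)
    (hOp : Cfsg.pCore p P = ⊥) : p ∣ Nat.card K := by
  classical
  by_contra h3
  haveI hRn : (Cfsg.pResidual p P).Normal := inferInstance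
  have hR : ¬ p ∣ Nat.card (Cfsg.pResidual p P) := by
    intro hd
    have key : ∀ T : Finset (↥(S : Subgroup P)), ¬ p ∣
        Nat.card ↥(T.sup fun s => K.map (MulAut.conj (s : P)).toMonoidHom) := by
      intro T
      induction T using Finset.induction_on with
      | empty => rw [Finset.sup_empty, card_bot]; exact (Fact.out : p.Prime).not_dvd_one
      | insert a T _ ih =>
        rw [Finset.sup_insert]
        intro hd'
        set X := T.sup fun s => K.map (MulAut.conj (s : P)).toMonoidHom with hX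
        by_cases hb : K.map (MulAut.conj (a : P)).toMonoidHom ≤ X
        · rw [sup_eq_right.2 hb] at hd'; exact ih hd'
        have hn : X ≤ normalizer ((K.map (MulAut.conj (a : P)).toMonoidHom : Subgroup P) : Set P) := by
          refine Finset.sup_le fun t ht => ?_
          refine le_trans ?_ (centralizer_le_normalizer _)
          rw [← commutator_eq_bot_iff_le_centralizer]
          refine Cfsg.Agent.Local.components_commute (Cfsg.Agent.Local.isComponent_conj hK _)
            (Cfsg.Agent.Local.isComponent_conj hK _) fun e => hb (e ▸ Finset.le_sup (f := fun s : ↥(S : Subgroup P) =>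
              K.map (MulAut.conj (s : P)).toMonoidHom) ht)
        have := hd'.trans (Cfsg.Agent.Solv.card_sup_dvd _ X hn)
        rcases (Fact.out : p.Prime).dvd_mul.1 this with h | h
        · exact h3 (h.trans (dvd_of_eq (Nat.card_congr (K.equivMapOfInjective _ (MulAut.conj (a : P)).injective).toEquiv).symm))
        · exact ih h
    classical
    haveI := Fintype.ofFinite ↥(S : Subgroup P)
    apply key Finset.univ
    rwa [Finset.sup_univ_eq_iSup, hER]
  set R := Cfsg.pResidual p P with hRdef
  have hall : ∀ q : ℕ, q.Prime → ∀ Q : Sylow q R, (((Q : Subgroup R).map R.subtype : Subgroup P)).Normal ∨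
      (∃ g : P, ((Q : Subgroup R).map R.subtype).map (MulAut.conj g).toMonoidHom ≤ M) := by
    intro q hq Q
    haveI := Fact.mk hq
    set N := normalizer (((Q : Subgroup R).map R.subtype : Subgroup P) : Set P) with hN
    have hF := Sylow.normalizer_sup_eq_top Q
    have hNM : ¬ p ∣ N.index := by
      have e0 : R.relIndex N = R.index := by
        rw [← relIndex_top_right R, ← hF, relIndex_sup_right]
      have e1 := relIndex_mul_index (inf_le_left : R ⊓ N ≤ _)
      have e2 := relIndex_mul_index (inf_le_right : R ⊓ N ≤ _)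
      rw [inf_relIndex_left] at e1
      rw [inf_relIndex_right, e0] at e2
      have e3 : N.index = N.relIndex R :=
        Nat.eq_of_mul_eq_mul_left (Nat.pos_of_ne_zero index_ne_zero_of_finite)
          ((e2.trans e1.symm).trans (mul_comm _ _))
      rw [e3]
      exact fun h => hR (h.trans (relIndex_dvd_card _ _))
    obtain ⟨T₁⟩ := Sylow.nonempty (p := p) (G := N)
    obtain ⟨U, hU⟩ := (T₁.isPGroup'.map N.subtype).exists_le_sylow
    have hUN : (U : Subgroup P) ≤ N := by
      have hcard : Nat.card ((T₁ : Subgroup N).map N.subtype) = Nat.card (U : Subgroup P) := by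
        rw [← Nat.card_congr ((T₁ : Subgroup N).equivMapOfInjective _ N.subtype_injective).toEquiv,
          T₁.card_eq_multiplicity, U.card_eq_multiplicity, ← N.card_mul_index]
        congr 1
        rw [Nat.factorization_mul Nat.card_pos.ne' index_ne_zero_of_finite,
          Finsupp.add_apply, Nat.factorization_eq_zero_of_not_dvd hNM, add_zero]
      exact (eq_of_le_of_card_ge hU hcard.ge) ▸ map_subtype_le _
    obtain ⟨g, hg⟩ := MulAction.exists_smul_eq P U S
    have hSN : (S : Subgroup P) ≤ N.map (MulAut.conj g).toMonoidHom := hg ▸ map_mono hUN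
    by_cases ht : N.map (MulAut.conj g).toMonoidHom = ⊤
    · exact Or.inl (normalizer_eq_top_iff.1 (map_injective (MulAut.conj g).injective
        (ht.trans (map_top_of_surjective _ (MulAut.conj g).surjective).symm)))
    · exact Or.inr ⟨g, (map_mono le_normalizer).trans (hle _ hSN ht)⟩
  have hKR : K ≤ R := by
    rw [← hER]
    exact fun k hk => le_iSup (fun s : ↥(S : Subgroup P) => K.map (MulAut.conj (s : P)).toMonoidHom) 1
      ⟨k, hk, by simp⟩
  have hnn : ∀ q : ℕ, ∀ Q : Sylow q R, q.Prime → (((Q : Subgroup R).map R.subtype : Subgroup P)).Normal →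
      K.map (MulAut.conj (1 : P)).toMonoidHom ⊓ ((Q : Subgroup R).map R.subtype) ≤ centralizer (K : Set P) := by
    intro q Q hq hn
    haveI := Fact.mk hq
    refine inf_le_right.trans ?_
    rw [← commutator_eq_bot_iff_le_centralizer, commutator_comm]
    refine (Cfsg.Agent.Local.component_le_or_commutator_eq_bot hK hn.isSubnormal).resolve_left fun h => ?_
    haveI := ((Q.isPGroup'.map R.subtype).to_le h).isNilpotent
    exact Cfsg.Agent.Local.qs_not_isSolvable hK.2 inferInstance
  apply hM.1
  rw [← top_le_iff, ← Cfsg.Agent.Solv.sup_pResidual_eq_top S]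
  refine sup_le hSM ?_
  refine relIndex_eq_one.1 ?_
  by_contra hne
  obtain ⟨q, hq, hqd⟩ := Nat.exists_prime_and_dvd hne
  haveI := Fact.mk hq
  obtain ⟨Q⟩ := Sylow.nonempty (p := q) (G := R)
  have hQc : ∀ g : P, ¬ ((Q : Subgroup R).map R.subtype).map (MulAut.conj g).toMonoidHom ≤ M := by
    intro g hg
    have e : R.map (MulAut.conj g).toMonoidHom = R :=
      eq_of_le_of_card_ge (by rintro _ ⟨x, hx, rfl⟩; exact hRn.conj_mem x hx g)
        (Nat.card_congr (R.equivMapOfInjective _ (MulAut.conj g).injective).toEquiv).le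
    refine Q.not_dvd_index ?_
    have h1 := hqd.trans (relIndex_dvd_of_le_left R hg)
    conv at h1 => arg 2; arg 2; rw [← e]
    rw [relIndex_map_map_of_injective _ _ (MulAut.conj g).injective] at h1
    rwa [← relIndex_top_right,
      show (Q : Subgroup R).relIndex ⊤ = ((Q : Subgroup R).map R.subtype).relIndex ((⊤ : Subgroup R).map R.subtype) from
        (relIndex_map_map_of_injective _ _ R.subtype_injective).symm,
      ← MonoidHom.range_eq_map, range_subtype]
  rcases hall q hq Q with hn | ⟨g, hg⟩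
  swap
  · exact hQc g hg
  -- `Q` is normal in `P`, so it centralizes every component and is central in `R`
  have hQcent : (Q : Subgroup R).map R.subtype ≤ centralizer (R : Set P) := by
    rw [← commutator_eq_bot_iff_le_centralizer, commutator_comm, commutator_eq_bot_iff_le_centralizer]
    refine hER.ge.trans (iSup_le fun s => ?_)
    rw [← commutator_eq_bot_iff_le_centralizer]
    refine (Cfsg.Agent.Local.component_le_or_commutator_eq_bot (Cfsg.Agent.Local.isComponent_conj hK _)
      hn.isSubnormal).resolve_left fun h => ?_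
    haveI := ((Q.isPGroup'.map R.subtype).to_le h).isNilpotent
    exact Cfsg.Agent.Local.qs_not_isSolvable (Cfsg.Agent.Local.isComponent_conj hK (s : P)).2 inferInstance
  -- so `R` has a normal `q`-complement and is not perfect
  have hQZ : (Q : Subgroup R) ≤ center R := fun x hx => mem_center_iff.2 fun r => Subtype.ext
    (mem_centralizer_iff.1 (hQcent ⟨x, hx, rfl⟩) r r.2)
  have hnc : normalizer ((Q : Subgroup R) : Set R) ≤ centralizer ((Q : Subgroup R) : Set R) := fun r _ =>
    mem_centralizer_iff.2 fun x hx => (mem_center_iff.1 (hQZ hx) r).symm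
  have hcompl := MonoidHom.ker_transferSylow_isComplement' Q hnc
  set T := MonoidHom.transferSylow Q hnc with hT
  have hTK : ∀ s : ↥(S : Subgroup P), (K.map (MulAut.conj (s : P)).toMonoidHom).subgroupOf R ≤ T.ker := by
    intro s
    set L := K.map (MulAut.conj (s : P)).toMonoidHom with hL
    have hLR : L ≤ R := (le_iSup (fun s : ↥(S : Subgroup P) => K.map (MulAut.conj (s : P)).toMonoidHom) s).trans hER.le
    have hperf : ⁅L.subgroupOf R, L.subgroupOf R⁆ = L.subgroupOf R := by
      refine map_injective R.subtype_injective ?_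
      rw [map_commutator, map_subgroupOf_eq_of_le hLR]
      exact Cfsg.Agent.Local.component_eq_commutator (Cfsg.Agent.Local.isComponent_conj hK _)
    rw [← hperf]
    refine commutator_le.2 fun a _ b _ => ?_
    rw [MonoidHom.mem_ker, map_commutatorElement, commutatorElement_eq_one_iff_mul_comm]
    exact Subtype.ext (mem_centralizer_iff.1 (hnc (le_normalizer (T a).2)) (T b : R) (T b).2).symm
  have htop : T.ker = ⊤ := by
    rw [eq_top_iff]
    intro r _
    have hr : (r : P) ∈ ⨆ s : ↥(S : Subgroup P), K.map (MulAut.conj (s : P)).toMonoidHom := hER.ge r.2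
    have hle' : (⨆ s : ↥(S : Subgroup P), K.map (MulAut.conj (s : P)).toMonoidHom) ≤ T.ker.map R.subtype := by
      refine iSup_le fun s x hx => ?_
      have hxR : x ∈ R := hER.le (le_iSup (fun s : ↥(S : Subgroup P) => K.map (MulAut.conj (s : P)).toMonoidHom) s hx)
      exact ⟨⟨x, hxR⟩, hTK s (mem_subgroupOf.2 hx), rfl⟩
    obtain ⟨y, hy, e⟩ := hle' hr
    exact Subtype.ext e ▸ hy
  rw [htop] at hcompl
  have hQ1 : (Q : Subgroup R) = ⊥ := isComplement'_top_left.1 hcompl
  refine Q.not_dvd_index (hqd.trans ?_)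
  rw [hQ1, index_bot]
  exact relIndex_dvd_card _ _

theorem pminimal {P : Type*} [Group P] [Finite P] {p : ℕ} [Fact p.Prime] {S : Sylow p P} {M : Subgroup P}
    (hM : IsCoatom M) (hSM : (S : Subgroup P) ≤ M)
    (hle : ∀ H : Subgroup P, (S : Subgroup P) ≤ H → H ≠ ⊤ → H ≤ M) {K : Subgroup P} (hK : Cfsg.IsComponent K)
    (hER : (⨆ s : ↥(S : Subgroup P), K.map (MulAut.conj (s : P)).toMonoidHom) = Cfsg.pResidual p P)
    (hOp : Cfsg.pCore p P = ⊥) :
    Cfsg.IsPMinimal p ↥(K ⊔ ((S : Subgroup P) ⊓ normalizer (K : Set P))) := by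
  classical
  set S₀ := (S : Subgroup P) ⊓ normalizer (K : Set P) with hS₀
  set H := K ⊔ S₀ with hH
  have hSR := Cfsg.Agent.Solv.sup_pResidual_eq_top S
  have hSK : (S : Subgroup P) ⊓ K ≤ S₀ := inf_le_inf_left _ le_normalizer
  have hKM : ¬ K ≤ M := by
    intro h
    refine hM.1 (top_le_iff.1 (hSR ▸ sup_le hSM ?_))
    rw [← hER]
    refine iSup_le fun s => ?_
    rintro _ ⟨a, ha, rfl⟩
    exact mul_mem (mul_mem (hSM s.2) (h ha)) (inv_mem (hSM s.2))
  have hidx : ¬ p ∣ S₀.relIndex H := by
    rw [hH, sup_comm]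
    intro h
    have hc := Cfsg.Agent.Solv.card_sup_mul_card_inf K S₀ inf_le_right
    rw [sup_comm] at hc
    have h1 : Nat.card S₀ * S₀.relIndex (S₀ ⊔ K) = Nat.card ↥(S₀ ⊔ K) := by
      have h0 := (S₀.subgroupOf (S₀ ⊔ K)).card_mul_index
      rwa [Cfsg.Agent.Solv.card_subgroupOf (le_sup_left : S₀ ≤ S₀ ⊔ K)] at h0
    have h2 : Nat.card ↥(K ⊓ S₀) * (S : Subgroup P).relIndex K = Nat.card K := by
      have e : K ⊓ S₀ = (S : Subgroup P) ⊓ K :=
        le_antisymm (le_inf (inf_le_right.trans inf_le_left) inf_le_left) (le_inf inf_le_right hSK)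
      have h0 := (((S : Subgroup P) ⊓ K).subgroupOf K).card_mul_index
      rw [Cfsg.Agent.Solv.card_subgroupOf (inf_le_right : (S : Subgroup P) ⊓ K ≤ K)] at h0
      rw [e, ← inf_relIndex_right]
      exact h0
    refine subnormal_sylow S hK.1 (h.trans (dvd_of_eq ?_))
    refine Nat.eq_of_mul_eq_mul_left
      (Nat.mul_pos (Nat.card_pos (α := S₀)) (Nat.card_pos (α := ↥(K ⊓ S₀)))) ?_
    calc Nat.card S₀ * Nat.card ↥(K ⊓ S₀) * S₀.relIndex (S₀ ⊔ K)
        = (Nat.card S₀ * S₀.relIndex (S₀ ⊔ K)) * Nat.card ↥(K ⊓ S₀) := by ring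
      _ = Nat.card K * Nat.card S₀ := by rw [h1, hc]
      _ = _ := by rw [← h2]; ring
  let T₀ : Sylow p H := ((S.isPGroup'.to_le (inf_le_left : S₀ ≤ _)).of_equiv
    (subgroupOfEquivOfLe (le_sup_right : S₀ ≤ H)).symm).toSylow hidx
  have hT₀ : (T₀ : Subgroup H) = S₀.subgroupOf H := rfl
  have hnormal : ¬ (T₀ : Subgroup H).Normal := by
    intro hn
    rw [hT₀, normal_subgroupOf_iff_le_normalizer le_sup_right] at hn
    haveI hn' : (((S : Subgroup P) ⊓ K).subgroupOf K).Normal := by
      rw [normal_subgroupOf_iff_le_normalizer inf_le_right]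
      intro k hk
      have h1 := mem_normalizer_iff.1 (hn (mem_sup_left hk))
      refine Cfsg.Agent.Solv.mem_normalizer_of_conj_le ?_
      rintro _ ⟨x, hx, rfl⟩
      exact mem_inf.2 ⟨((h1 x).1 (hSK hx)).1, mul_mem (mul_mem hk hx.2) (inv_mem hk)⟩
    have hsn : ((S : Subgroup P) ⊓ K).IsSubnormal := hn'.isSubnormal.trans inf_le_right hK.1
    have h2 := Cfsg.Agent.Solv.le_pCore_of_isSubnormal hsn (S.isPGroup'.to_le inf_le_left)
    rw [hOp, le_bot_iff] at h2
    have h3 : ¬ p ∣ Nat.card K := by
      intro hd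
      refine subnormal_sylow S hK.1 ?_
      rwa [← inf_relIndex_right, h2, relIndex_bot_left]
    exact h3 (no_pprime hM hSM hle hK hER hOp)
  have hmain : ∃! C : Subgroup H, IsCoatom C ∧ (T₀ : Subgroup H) ≤ C := by
    have key : ∀ X : Subgroup P, S₀ ≤ X → X ≤ H → X ≠ H → X ≤ M := by
      intro X hX hXH hne
      have hXK : ¬ K ≤ X := fun h => hne (le_antisymm hXH (sup_le h hX))
      set X₁ := X ⊓ K with hX₁
      set A := ⨆ s : ↥(S : Subgroup P), X₁.map (MulAut.conj (s : P)).toMonoidHom with hA
      have hSA : (S : Subgroup P) ≤ normalizer (A : Set P) := by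
        intro s hs
        refine Cfsg.Agent.Solv.mem_normalizer_of_conj_le ?_
        show A.map (MulAut.conj s).toMonoidHom ≤ A
        rw [hA, Subgroup.map_iSup]
        refine iSup_le fun t => ?_
        refine le_trans ?_ (le_iSup _ ⟨s * (t : P), mul_mem hs t.2⟩)
        rintro _ ⟨_, ⟨a, ha, rfl⟩, rfl⟩
        refine ⟨a, ha, ?_⟩
        show s * (t : P) * a * (s * (t : P))⁻¹ = s * ((t : P) * a * (t : P)⁻¹) * s⁻¹
        group
      have hX₁A : X₁ ≤ A := fun a ha => by
        have : X₁.map (MulAut.conj ((1 : (S : Subgroup P)) : P)).toMonoidHom ≤ A :=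
          le_iSup (fun s : ↥(S : Subgroup P) => X₁.map (MulAut.conj (s : P)).toMonoidHom) 1
        exact this ⟨a, ha, by simp⟩
      have hAne : A ⊔ (S : Subgroup P) ≠ ⊤ := by
        intro htop
        haveI hAn : A.Normal := normalizer_eq_top_iff.1
          (top_le_iff.1 (htop ▸ sup_le le_normalizer hSA))
        have hRA : Cfsg.pResidual p P ≤ A := by
          refine Cfsg.Agent.Solv.pResidual_le_of_index A ?_
          obtain ⟨k, hk⟩ := IsPGroup.iff_card.1 S.isPGroup'
          have hd : A.index ∣ p ^ k := by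
            rw [← relIndex_top_right, ← htop, sup_comm, relIndex_sup_right, ← hk]
            exact relIndex_dvd_card _ _
          obtain ⟨j, -, hj⟩ := (Nat.dvd_prime_pow (Fact.out : p.Prime)).1 hd
          exact ⟨j, hj⟩
        set C := centralizer (K : Set P) with hC
        have hAle : A ≤ X₁ ⊔ C := by
          refine iSup_le fun s => ?_
          by_cases he : K.map (MulAut.conj (s : P)).toMonoidHom = K
          · refine le_trans ?_ le_sup_left
            have hs0 : (s : P) ∈ S₀ := mem_inf.2 ⟨s.2, Cfsg.Agent.Solv.mem_normalizer_of_conj_le he.le⟩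
            rintro _ ⟨a, ha, rfl⟩
            exact mem_inf.2 ⟨mul_mem (mul_mem (hX hs0) ha.1) (inv_mem (hX hs0)), he ▸ ⟨a, ha.2, rfl⟩⟩
          · refine le_trans ?_ le_sup_right
            refine (map_mono inf_le_right).trans ?_
            rw [← commutator_eq_bot_iff_le_centralizer]
            exact Cfsg.Agent.Local.components_commute (Cfsg.Agent.Local.isComponent_conj hK _) hK he
        have hCn : X₁ ≤ normalizer (C : Set P) := fun a ha => by
          refine Cfsg.Agent.Solv.mem_normalizer_of_conj_le ?_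
          rintro _ ⟨c, hc, rfl⟩
          refine mem_centralizer_iff.2 fun k hk => ?_
          have hak : a⁻¹ * k * a ∈ K := mul_mem (mul_mem (inv_mem (inf_le_right (a := X) ha)) hk) (inf_le_right (a := X) ha)
          have hh := mem_centralizer_iff.1 hc _ hak
          show k * (a * c * a⁻¹) = a * c * a⁻¹ * k
          calc k * (a * c * a⁻¹) = a * ((a⁻¹ * k * a) * c) * a⁻¹ := by group
            _ = _ := by rw [hh]; group
        have hKA : ∀ k ∈ K, ∃ x ∈ X₁, ∃ z ∈ K ⊓ C, k = x * z := by
          intro k hk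
          have hkE : k ∈ X₁ ⊔ C := hAle (hRA (hER ▸ (le_iSup (fun s : ↥(S : Subgroup P) =>
            K.map (MulAut.conj (s : P)).toMonoidHom) 1) ⟨k, hk, by simp⟩))
          rw [← SetLike.mem_coe, Subgroup.coe_mul_of_left_le_normalizer_right _ _ hCn] at hkE
          obtain ⟨x, hx, c, hc, hxc⟩ := hkE
          refine ⟨x, hx, c, mem_inf.2 ⟨?_, hc⟩, hxc.symm⟩
          have : c = x⁻¹ * k := by rw [← hxc]; group
          rw [this]
          exact mul_mem (inv_mem (inf_le_right (a := X) hx)) hk
        apply hXK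
        rw [← Cfsg.Agent.Local.component_eq_commutator hK, commutator_le]
        intro a ha b hb
        obtain ⟨x, hx, z, hz, rfl⟩ := hKA a ha
        obtain ⟨y, hy, w, hw, rfl⟩ := hKA b hb
        have e1 : ∀ z ∈ K ⊓ C, ∀ k ∈ K, k * z = z * k := fun z hz k hk => mem_centralizer_iff.1 hz.2 k hk
        have hxK : x ∈ K := inf_le_right (a := X) hx
        have hyK : y ∈ K := inf_le_right (a := X) hy
        have : ⁅x * z, y * w⁆ = ⁅x, y⁆ := by
          have hz1 := e1 z hz (y * w) (mul_mem hyK hw.1)
          have hw1 := e1 w hw x hxK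
          calc ⁅x * z, y * w⁆ = x * (z * (y * w)) * z⁻¹ * x⁻¹ * (y * w)⁻¹ := by
                rw [commutatorElement_def]; group
            _ = x * y * w * x⁻¹ * (y * w)⁻¹ := by rw [← hz1]; group
            _ = x * y * (x⁻¹ * (x * w)) * x⁻¹ * (y * w)⁻¹ := by group
            _ = ⁅x, y⁆ := by rw [hw1, commutatorElement_def]; group
        rw [this, commutatorElement_def]
        exact inf_le_left (b := K) (mul_mem (mul_mem (mul_mem hx hy) (inv_mem hx)) (inv_mem hy))
      have hA1 := hle _ le_sup_right hAne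
      intro x hx
      have hxH := hXH hx
      rw [hH, ← SetLike.mem_coe, Subgroup.coe_mul_of_right_le_normalizer_left _ _ inf_le_right] at hxH
      obtain ⟨k, hk, s, hs, rfl⟩ := hxH
      refine mul_mem (hA1 (mem_sup_left (hX₁A ⟨?_, hk⟩))) (hSM hs.1)
      have := mul_mem hx (inv_mem (hX hs))
      rwa [mul_inv_cancel_right] at this
    have hS₀M : S₀ ≤ M := inf_le_left.trans hSM
    refine ⟨M.subgroupOf H, ⟨⟨fun h => hKM (le_sup_left.trans (subgroupOf_eq_top.1 h)), fun Y hY => ?_⟩,
      fun x hx => mem_subgroupOf.2 (hS₀M (mem_subgroupOf.1 hx))⟩, ?_⟩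
    · by_contra hne
      refine hY.not_ge fun y hy => mem_subgroupOf.2 (key (Y.map H.subtype) ?_ (map_subtype_le _) ?_ ⟨y, hy, rfl⟩)
      · intro s hs
        exact ⟨⟨s, mem_sup_right hs⟩, hY.le (mem_subgroupOf.2 (hS₀M hs)), rfl⟩
      · exact fun e => hne (map_injective H.subtype_injective (e.trans (by rw [← MonoidHom.range_eq_map, range_subtype])))
    · rintro Y ⟨hY, hYS⟩
      have hYM : Y ≤ M.subgroupOf H := fun y hy => mem_subgroupOf.2 (key (Y.map H.subtype)
        (fun s hs => ⟨⟨s, mem_sup_right hs⟩, hYS (mem_subgroupOf.2 hs), rfl⟩) (map_subtype_le _)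
        (fun e => hY.1 (map_injective H.subtype_injective (e.trans (by rw [← MonoidHom.range_eq_map, range_subtype]))))
        ⟨y, hy, rfl⟩)
      exact ((hY.le_iff.1 hYM).resolve_left fun h => hKM (le_sup_left.trans (subgroupOf_eq_top.1 h))).symm
  intro T
  obtain ⟨h, hh⟩ := MulAction.exists_smul_eq H T₀ T
  have hmap : (T : Subgroup H) = (T₀ : Subgroup H).map (MulAut.conj h).toMonoidHom := by rw [← hh]; rfl
  refine ⟨fun hn => hnormal ?_, ?_⟩
  · haveI := hn
    have := Sylow.unique_of_normal T hn
    rwa [Subsingleton.elim T₀ T]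
  · obtain ⟨C, ⟨hC, hCT⟩, hu⟩ := hmain
    refine ⟨C.map (MulAut.conj h).toMonoidHom, ⟨((MulAut.conj h).mapSubgroup.isCoatom_iff C).2 hC,
      hmap ▸ map_mono hCT⟩, fun D ⟨hD, hDT⟩ => ?_⟩
    have := hu (D.map (MulAut.conj h).symm.toMonoidHom)
      ⟨((MulAut.conj h).symm.mapSubgroup.isCoatom_iff D).2 hD, fun x hx => ⟨(MulAut.conj h) x,
        hDT (hmap ▸ ⟨x, hx, rfl⟩), by simp [mul_assoc]⟩⟩
    rw [← this, Subgroup.map_map]
    ext x
    simp [mul_assoc]


/-- Let P be a finite p-minimal group with O_p(P) = 1, S a Sylow p-subgroup of P and K a component of P. Then O^p(P) = F*(P) = E(P) is generated by the S-conjugates of K, and the subgroup K·N_S(K) is again p-minimal. -/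
theorem result {P : Type*} [Group P] [Finite P] {p : ℕ} [Fact p.Prime] (hP : Cfsg.IsPMinimal p P) (hOp : Cfsg.pCore p P = ⊥) (S : Sylow p P) (K : Subgroup P) (hK : Cfsg.IsComponent K) : Cfsg.pResidual p P = Cfsg.generalizedFittingSubgroup P ∧ Cfsg.generalizedFittingSubgroup P = Cfsg.layer P ∧ Cfsg.layer P = ⨆ s : ↥(S : Subgroup P), K.map (MulAut.conj (s : P)).toMonoidHom ∧ Cfsg.IsPMinimal p ↥(K ⊔ ((S : Subgroup P) ⊓ Subgroup.normalizer (K : Set P))) := by
  skip
  classical
  obtain ⟨hSn, M, ⟨hM, hSM⟩, huniq⟩ := hP S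
  obtain ⟨hsub, -, h3, -, -⟩ := Cfsg.Agent.S2905.result hP S M hM hSM
  have hle : ∀ H : Subgroup P, (S : Subgroup P) ≤ H → H ≠ ⊤ → H ≤ M := by
    intro H hH hne
    rcases IsCoatomic.eq_top_or_exists_le_coatom H with h | ⟨C, hC, hHC⟩
    · exact absurd h hne
    · exact (huniq C ⟨hC, hH.trans hHC⟩) ▸ hHC
  have hFS : (S : Subgroup P) ⊓ M.normalCore = ⊥ := by
    rw [eq_bot_iff, ← hOp, inf_comm]
    exact hsub _ (inferInstance : M.normalCore.Normal).isSubnormal (Subgroup.normalCore_le M)
  have hSR := Cfsg.Agent.Solv.sup_pResidual_eq_top S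
  -- `core M` is nilpotent
  have hFn : Group.IsNilpotent ↥M.normalCore := by
    obtain ⟨Qp, hQp⟩ := Cfsg.Agent.Local.PairControl.exists_sylow_map_eq S M.normalCore
    rw [hFS] at hQp
    refine (Group.isNilpotent_of_finite_tfae (G := M.normalCore)).out 3 0 |>.1 ?_
    intro q hq Q
    rcases eq_or_ne q p with rfl | hqne
    · have : (Qp : Subgroup M.normalCore) = ⊥ :=
        Subgroup.map_injective M.normalCore.subtype_injective (by rw [hQp, Subgroup.map_bot])
      have hc : Nat.card (Q : Subgroup M.normalCore) = 1 := by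
        rw [Q.card_eq_multiplicity, ← Qp.card_eq_multiplicity, this, Subgroup.card_bot]
      rw [Subgroup.card_eq_one.1 hc]
      infer_instance
    set N := Subgroup.normalizer (((Q : Subgroup M.normalCore).map M.normalCore.subtype : Subgroup P) : Set P) with hN
    have hF := Sylow.normalizer_sup_eq_top Q
    have hNM : ¬ p ∣ N.index := by
      have e0 : M.normalCore.relIndex N = M.normalCore.index := by
        rw [← Subgroup.relIndex_top_right M.normalCore, ← hF, Subgroup.relIndex_sup_right]
      have e1 := Subgroup.relIndex_mul_index (inf_le_left : M.normalCore ⊓ N ≤ _)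
      have e2 := Subgroup.relIndex_mul_index (inf_le_right : M.normalCore ⊓ N ≤ _)
      rw [Subgroup.inf_relIndex_left] at e1
      rw [Subgroup.inf_relIndex_right, e0] at e2
      have e3 : N.index = N.relIndex M.normalCore :=
        Nat.eq_of_mul_eq_mul_left (Nat.pos_of_ne_zero Subgroup.index_ne_zero_of_finite)
          ((e2.trans e1.symm).trans (mul_comm _ _))
      rw [e3]
      intro h
      haveI : Finite M.normalCore := inferInstance
      refine Qp.not_dvd_index (h.trans ?_)
      rw [show (Qp : Subgroup M.normalCore) = ⊥ from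
        Subgroup.map_injective M.normalCore.subtype_injective (by rw [hQp, Subgroup.map_bot]), Subgroup.index_bot]
      exact Subgroup.relIndex_dvd_card _ _
    obtain ⟨T₁⟩ := Sylow.nonempty (p := p) (G := N)
    obtain ⟨U, hU⟩ := (T₁.isPGroup'.map N.subtype).exists_le_sylow
    have hUN : (U : Subgroup P) ≤ N := by
      have hcard : Nat.card ((T₁ : Subgroup N).map N.subtype) = Nat.card (U : Subgroup P) := by
        rw [← Nat.card_congr ((T₁ : Subgroup N).equivMapOfInjective _ N.subtype_injective).toEquiv,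
          T₁.card_eq_multiplicity, U.card_eq_multiplicity, ← N.card_mul_index]
        congr 1
        rw [Nat.factorization_mul Nat.card_pos.ne' Subgroup.index_ne_zero_of_finite,
          Finsupp.add_apply, Nat.factorization_eq_zero_of_not_dvd hNM, add_zero]
      exact (Subgroup.eq_of_le_of_card_ge hU hcard.ge) ▸ Subgroup.map_subtype_le _
    obtain ⟨g, hg⟩ := MulAction.exists_smul_eq P U S
    have hSN : (S : Subgroup P) ≤ N.map (MulAut.conj g).toMonoidHom := hg ▸ Subgroup.map_mono hUN
    have htop : N.map (MulAut.conj g).toMonoidHom = ⊤ := by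
      by_contra h
      have h1 := hle _ hSN h
      have h2 := congrArg (Subgroup.map (MulAut.conj g).toMonoidHom) hF
      rw [Subgroup.map_sup, Subgroup.map_top_of_surjective _ (MulAut.conj g).surjective] at h2
      refine hM.1 (top_le_iff.1 (h2 ▸ sup_le h1 ?_))
      rintro _ ⟨x, hx, rfl⟩
      exact Subgroup.normalCore_le M ((inferInstance : M.normalCore.Normal).conj_mem x hx g)
    have hNtop : N = ⊤ := Subgroup.map_injective (MulAut.conj g).injective
      (htop.trans (Subgroup.map_top_of_surjective _ (MulAut.conj g).surjective).symm)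
    haveI : ((Q : Subgroup M.normalCore).map M.normalCore.subtype).Normal :=
      Subgroup.normalizer_eq_top_iff.1 hNtop
    have := Subgroup.Normal.comap this M.normalCore.subtype
    rwa [Subgroup.comap_map_eq_self_of_injective M.normalCore.subtype_injective] at this
  have hnotF : ∀ L : Subgroup P, Cfsg.IsComponent L → ¬ L ≤ M.normalCore := fun L hL h =>
    Cfsg.Agent.Local.component_not_le_fitting hL (h.trans (Cfsg.Agent.Solv.le_fittingSubgroup hFn))
  set E := ⨆ s : ↥(S : Subgroup P), K.map (MulAut.conj (s : P)).toMonoidHom with hE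
  set R := Cfsg.pResidual p P with hR
  have hKs : ∀ s : P, Cfsg.IsComponent (K.map (MulAut.conj s).toMonoidHom) := fun s =>
    Cfsg.Agent.Local.isComponent_conj hK s
  have hKE : K ≤ E := fun k hk => by
    have : K.map (MulAut.conj ((1 : (S : Subgroup P)) : P)).toMonoidHom ≤ E :=
      le_iSup (fun s : ↥(S : Subgroup P) => K.map (MulAut.conj (s : P)).toMonoidHom) 1
    exact this ⟨k, hk, by simp⟩
  have hEsub : E.IsSubnormal := Cfsg.Agent.Solv.isSubnormal_sSup (by rintro _ ⟨s, rfl⟩; exact (hKs _).1)
  have hSE : (S : Subgroup P) ≤ Subgroup.normalizer (E : Set P) := by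
    intro s hs
    refine Cfsg.Agent.Solv.mem_normalizer_of_conj_le ?_
    show E.map (MulAut.conj s).toMonoidHom ≤ E
    rw [hE, Subgroup.map_iSup]
    refine iSup_le fun t => ?_
    refine le_trans ?_ (le_iSup _ ⟨s * (t : P), mul_mem hs t.2⟩)
    rintro _ ⟨_, ⟨a, ha, rfl⟩, rfl⟩
    refine ⟨a, ha, ?_⟩
    show s * (t : P) * a * (s * (t : P))⁻¹ = s * ((t : P) * a * (t : P)⁻¹) * s⁻¹
    group
  have hEn : E.Normal := by
    by_contra hn
    have h1 := hle _ hSE fun h => hn (Subgroup.normalizer_eq_top_iff.1 h)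
    have hKM : K ≤ M := (hKE.trans Subgroup.le_normalizer).trans h1
    have hEM : E ≤ M := Subgroup.le_normalizer.trans h1
    obtain ⟨J, ⟨hJE, hJ, hJM, hJS⟩, hmax⟩ := (Set.toFinite {J : Subgroup P | E ≤ J ∧ J.IsSubnormal ∧ J ≤ M ∧
      (S : Subgroup P) ≤ Subgroup.normalizer (J : Set P)}).exists_maximal ⟨E, le_rfl, hEsub, hEM, hSE⟩
    by_cases hJn : J.Normal
    · exact hnotF K hK ((hKE.trans hJE).trans ((Subgroup.normal_le_normalCore).2 hJM))
    obtain ⟨g, hg1, hg2⟩ := Cfsg.Agent.Solv.exists_conj_le_normalizer hJ hJn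
    have hNM' : Subgroup.normalizer (J : Set P) ≤ M :=
      hle _ hJS fun h => hJn (Subgroup.normalizer_eq_top_iff.1 h)
    change J.map (MulAut.conj g).toMonoidHom ≠ J at hg1
    change J.map (MulAut.conj g).toMonoidHom ≤ _ at hg2
    let C : Subgroup P := ⨆ s : ↥(S : Subgroup P), (J ⊔ J.map (MulAut.conj g).toMonoidHom).map (MulAut.conj (s : P)).toMonoidHom
    have hC1 : J ⊔ J.map (MulAut.conj g).toMonoidHom ≤ C := fun a ha => by
      have : (J ⊔ J.map (MulAut.conj g).toMonoidHom).map (MulAut.conj ((1 : (S : Subgroup P)) : P)).toMonoidHom ≤ C :=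
        le_iSup (fun s : ↥(S : Subgroup P) =>
          (J ⊔ J.map (MulAut.conj g).toMonoidHom).map (MulAut.conj (s : P)).toMonoidHom) 1
      exact this ⟨a, ha, by simp⟩
    have hC2 : C.IsSubnormal := Cfsg.Agent.Solv.isSubnormal_sSup (by
      rintro _ ⟨s, rfl⟩
      exact (Cfsg.Agent.Solv.isSubnormal_sup hJ (hJ.map (MulAut.conj g).surjective)).map (MulAut.conj _).surjective)
    have hC3 : C ≤ M := iSup_le fun s => by
      rintro _ ⟨a, ha, rfl⟩
      exact mul_mem (mul_mem (hSM s.2) (sup_le hJM (hg2.trans hNM') ha)) (inv_mem (hSM s.2))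
    have hC4 : (S : Subgroup P) ≤ Subgroup.normalizer (C : Set P) := by
      intro s hs
      refine Cfsg.Agent.Solv.mem_normalizer_of_conj_le ?_
      show C.map (MulAut.conj s).toMonoidHom ≤ C
      simp only [C, Subgroup.map_iSup]
      refine iSup_le fun t => ?_
      refine le_trans ?_ (le_iSup _ ⟨s * (t : P), mul_mem hs t.2⟩)
      rw [Subgroup.map_map]
      rintro _ ⟨a, ha, rfl⟩
      refine ⟨a, ha, ?_⟩
      show s * (t : P) * a * (s * (t : P))⁻¹ = s * ((t : P) * a * (t : P)⁻¹) * s⁻¹
      group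
    have hJJ := hmax (y := C) ⟨hJE.trans (le_sup_left.trans hC1), hC2, hC3, hC4⟩ (le_sup_left.trans hC1)
    refine hg1 (Subgroup.eq_of_le_of_card_ge ((le_sup_right.trans hC1).trans hJJ) ?_)
    exact (Nat.card_congr (J.equivMapOfInjective _ (MulAut.conj g).injective).toEquiv).le
  have hcompR : ∀ L : Subgroup P, Cfsg.IsComponent L → L ≤ R := by
    intro L hL
    haveI : R.Normal := by rw [hR]; infer_instance
    obtain ⟨k, hk⟩ := Cfsg.Agent.Solv.exists_pResidual_index (G := P) (p := p)
    haveI : Group.IsNilpotent (P ⧸ R) := (IsPGroup.of_card (p := p) (n := k) (by rw [← Subgroup.index_eq_card]; exact hk)).isNilpotent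
    by_contra h
    obtain ⟨i, hi⟩ := (inferInstance : Group.IsSolvable (P ⧸ R)).solvable
    have hperf : ∀ j : ℕ, L.map (QuotientGroup.mk' R) ≤ derivedSeries (P ⧸ R) j := by
      intro j
      induction j with
      | zero => simp
      | succ j ih =>
        rw [derivedSeries_succ]
        refine le_trans (le_of_eq ?_) (Subgroup.commutator_mono ih ih)
        rw [← Subgroup.map_commutator, Cfsg.Agent.Local.component_eq_commutator hL]
    have h' := hperf i
    rw [hi, le_bot_iff, Subgroup.map_eq_bot_iff, QuotientGroup.ker_mk'] at h'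
    exact h h'
  have hER : E = R := by
    refine le_antisymm (iSup_le fun s => hcompR _ (hKs _)) ?_
    rcases h3 E hEn with h | h
    · exact h
    · exact absurd (hKE.trans h) (hnotF K hK)
  have hlayer : Cfsg.layer P = E := by
    refine le_antisymm (sSup_le fun L hL => ?_) (iSup_le fun s => le_sSup (hKs _))
    by_contra h
    have h0 : ∀ s : ↥(S : Subgroup P), K.map (MulAut.conj (s : P)).toMonoidHom ≤ Subgroup.centralizer (L : Set P) := by
      intro s
      rw [← Subgroup.commutator_eq_bot_iff_le_centralizer]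
      refine Cfsg.Agent.Local.components_commute (hKs _) hL fun e => h ?_
      rw [← e]
      exact le_iSup (fun s : ↥(S : Subgroup P) => K.map (MulAut.conj (s : P)).toMonoidHom) s
    have hc : ⁅L, L⁆ = ⊥ := by
      rw [Subgroup.commutator_eq_bot_iff_le_centralizer]
      exact (hcompR L hL).trans (hER ▸ iSup_le h0)
    rw [Cfsg.Agent.Local.component_eq_commutator hL] at hc
    exact Cfsg.Agent.Local.component_ne_bot hL hc
  have hFit : Cfsg.fittingSubgroup P ≤ E := by
    haveI := Cfsg.Agent.Solv.fittingSubgroup_normal P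
    haveI hn := Cfsg.Agent.Solv.fittingSubgroup_isNilpotent P
    rcases h3 _ (inferInstance : (Cfsg.fittingSubgroup P).Normal) with h | h
    · exact absurd ((hcompR K hK).trans h) (Cfsg.Agent.Local.component_not_le_fitting hK)
    rw [hER]
    intro x hx
    refine Cfsg.Agent.Solv.mem_pResidual ?_
    refine Nat.Coprime.symm ((Fact.out : p.Prime).coprime_iff_not_dvd.2 fun hd => ?_)
    haveI := Fact.mk (Fact.out : p.Prime)
    have hx' : p ∣ Nat.card (M.normalCore) := hd.trans (Subgroup.orderOf_dvd_natCard _ (h hx))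
    obtain ⟨Qp, hQp⟩ := Cfsg.Agent.Local.PairControl.exists_sylow_map_eq S M.normalCore
    rw [hFS] at hQp
    have hQ1 : (Qp : Subgroup M.normalCore) = ⊥ :=
      Subgroup.map_injective M.normalCore.subtype_injective (by rw [hQp, Subgroup.map_bot])
    have := Qp.not_dvd_index
    rw [hQ1, Subgroup.index_bot] at this
    exact this hx'
  have hFs : Cfsg.generalizedFittingSubgroup P = Cfsg.layer P := by
    rw [Cfsg.generalizedFittingSubgroup]
    exact le_antisymm (sup_le le_rfl (hlayer ▸ hFit)) le_sup_left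
  refine ⟨by rw [hFs, hlayer, hER], hFs, hlayer, ?_⟩
  exact pminimal hM hSM hle hK hER hOp

end Cfsg.Agent.S2906
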