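import Cfsg.Statements.S2907
import Cfsg.Agent.Lib.Solv.Basic
-- import your own Cfsg.Agent.* helpers here

set_option autoImplicit false
open Cfsg

namespace Cfsg.Agent.S2907
open Cfsg.Agent
open scoped commutatorElement


/-- Let X be a finite semi-extraspecial p-group and x an element of X outside the centre. Then the index of C_X(x) in X equals the order of Z(X), and the commutators [x, y], y ∈ X, form exactly the centre Z(X). -/
theorem result {X : Type*} [Group X] [Finite X] {p : ℕ} [Fact p.Prime] (hX : Cfsg.IsSemiExtraspecial p X) (x : X) (hx : x ∉ Subgroup.center X) : (Subgroup.centralizer ({x} : Set X)).index = Nat.card ↥(Subgroup.center X) ∧ {z : X | ∃ y : X, z = x * y * x⁻¹ * y⁻¹} = (Subgroup.center X : Set X) := by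
  skip
  classical
  obtain ⟨⟨hp, hfr, hcm⟩, hsemi⟩ := hX
  set Z := Subgroup.center X with hZ
  have hmem : ∀ y : X, x * y * x⁻¹ * y⁻¹ ∈ Z := fun y => by
    rw [← hcm]; exact Subgroup.commutator_mem_commutator (Subgroup.mem_top x) (Subgroup.mem_top y)
  let φ : X →* X := MonoidHom.mk' (fun y => x * y * x⁻¹ * y⁻¹) (fun a b => by
    have hb := Subgroup.mem_center_iff.1 (hmem b) a⁻¹
    calc x * (a * b) * x⁻¹ * (a * b)⁻¹ = (x * a * x⁻¹) * ((x * b * x⁻¹ * b⁻¹) * a⁻¹) := by group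
      _ = (x * a * x⁻¹) * (a⁻¹ * (x * b * x⁻¹ * b⁻¹)) := by rw [hb]
      _ = _ := by group)
  have hker : φ.ker = Subgroup.centralizer ({x} : Set X) := by
    ext y
    rw [MonoidHom.mem_ker, Subgroup.mem_centralizer_singleton_iff]
    show x * y * x⁻¹ * y⁻¹ = 1 ↔ _
    constructor
    · intro h; calc y * x = (x * y * x⁻¹ * y⁻¹) * (y * x) := by rw [h, one_mul]
        _ = x * y := by group
    · intro h; rw [← h]; group
  have hrange : φ.range = Z := by
    have hle : φ.range ≤ Z := by rintro _ ⟨y, rfl⟩; exact hmem y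
    refine le_antisymm hle ?_
    by_contra hne
    rcases eq_top_or_exists_le_coatom (φ.range.subgroupOf Z) with h | ⟨W, hW, hle'⟩
    · exact hne (Subgroup.subgroupOf_eq_top.1 h)
    set Y := W.map Z.subtype with hY
    have hYZ : Y ≤ Z := Subgroup.map_subtype_le _
    have hYW : Y.subgroupOf Z = W := Subgroup.comap_map_eq_self_of_injective Z.subtype_injective W
    obtain ⟨hYn, ⟨-, hZY, -⟩, hcard⟩ := hsemi Y hYZ (hYW.symm ▸ hW)
    haveI := hYn
    set f := QuotientGroup.mk' Y with hf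
    have hsurj := QuotientGroup.mk'_surjective Y
    have hxc : f x ∈ Subgroup.center (X ⧸ Y) := by
      rw [Subgroup.mem_center_iff]
      intro q
      obtain ⟨y, rfl⟩ := hsurj q
      have h1 : x * y * x⁻¹ * y⁻¹ ∈ Y := ⟨⟨_, hmem y⟩, hle' (show x * y * x⁻¹ * y⁻¹ ∈ φ.range from ⟨y, rfl⟩), rfl⟩
      have h2 : f (x * y * x⁻¹ * y⁻¹) = 1 := (QuotientGroup.eq_one_iff _).2 h1
      rw [map_mul, map_mul, map_mul, map_inv, map_inv, mul_inv_eq_one, mul_inv_eq_iff_eq_mul] at h2
      exact h2.symm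
    obtain ⟨z, hzW⟩ : ∃ z : ↥Z, z ∉ W := by
      by_contra h
      push_neg at h
      exact hW.1 (eq_top_iff.2 fun z _ => h z)
    have hzc : f (z : X) ∈ Subgroup.center (X ⧸ Y) := by
      rw [Subgroup.mem_center_iff]
      intro q
      obtain ⟨y, rfl⟩ := hsurj q
      rw [← map_mul, ← map_mul, Subgroup.mem_center_iff.1 z.2 y]
    have hz1 : f (z : X) ≠ 1 := by
      intro h
      have h1 : (z : X) ∈ Y := (QuotientGroup.eq_one_iff _).1 h
      exact hzW (hYW ▸ (show z ∈ Y.subgroupOf Z from h1))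
    have hgen : Subgroup.zpowers (⟨f (z : X), hzc⟩ : Subgroup.center (X ⧸ Y)) = ⊤ :=
      zpowers_eq_top_of_prime_card hcard (fun h => hz1 (congrArg Subtype.val h))
    obtain ⟨i, hi⟩ := Subgroup.mem_zpowers_iff.1 (hgen ▸ Subgroup.mem_top (⟨f x, hxc⟩ : Subgroup.center (X ⧸ Y)))
    have h3 : f ((z : X) ^ i) = f x := by rw [map_zpow]; exact congrArg Subtype.val hi
    have h4 : ((z : X) ^ i)⁻¹ * x ∈ Y := (QuotientGroup.eq).1 h3
    have h5 := mul_mem (zpow_mem z.2 i) (hYZ h4)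
    rw [mul_inv_cancel_left] at h5
    exact hx h5
  refine ⟨?_, ?_⟩
  · rw [← hker, Subgroup.index_ker, hrange]
  · ext z
    rw [Set.mem_setOf_eq, ← hrange, SetLike.mem_coe, MonoidHom.mem_range]
    exact ⟨fun ⟨y, hy⟩ => ⟨y, hy.symm⟩, fun ⟨y, hy⟩ => ⟨y, hy.symm⟩⟩

end Cfsg.Agent.S2907
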