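import Cfsg.Statements.S2908
import Cfsg.Agent.Lib.Solv.Coprime
import Cfsg.Agent.Lib.Struct.LowerCentralBounds
-- import your own Cfsg.Agent.* helpers here

set_option autoImplicit false
open Cfsg

namespace Cfsg.Agent.S2908
open scoped commutatorElement

/-- Let P be a p-subgroup of a finite group, normalized by a p-subgroup A and by a subgroup B of order prime to p that commutes elementwise with A. If [P, B] ≤ [P, A], then B centralizes P. -/
theorem result {G : Type*} [Group G] [Finite G] {p : ℕ} [Fact p.Prime] (P A B : Subgroup G) (hP : IsPGroup p ↥P) (hA : IsPGroup p ↥A) (hB : ¬ p ∣ Nat.card ↥B) (hnA : A ≤ Subgroup.normalizer (P : Set G)) (hnB : B ≤ Subgroup.normalizer (P : Set G)) (hAB : ⁅A, B⁆ = ⊥) (hcomm : ⁅P, B⁆ ≤ ⁅P, A⁆) : ⁅P, B⁆ = ⊥ := by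
  classical
  have hA0 : A ≤ Subgroup.centralizer (B : Set G) := Subgroup.commutator_eq_bot_iff_le_centralizer.1 hAB
  set M := P ⊔ A with hM
  have hMp : IsPGroup p M := hP.to_sup_of_normal_left' hA hnA
  haveI := hMp.isNilpotent
  obtain ⟨n, hn⟩ := (Subgroup.isNilpotent_iff_lowerCentralSeries M).mp inferInstance
  set K := M ⊔ B with hK
  have hBM : B ≤ Subgroup.normalizer (M : Set G) := by
    intro b hb
    rw [Subgroup.mem_normalizer_iff]
    have key : ∀ b ∈ B, M ≤ M.comap (MulAut.conj b).toMonoidHom := fun b hb =>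
      sup_le (fun x hx => Subgroup.mem_sup_left ((Subgroup.mem_normalizer_iff.1 (hnB hb) x).1 hx)) (fun a ha => by
        show b * a * b⁻¹ ∈ M
        rw [Subgroup.mem_centralizer_iff.1 (hA0 ha) b hb, mul_inv_cancel_right]
        exact Subgroup.mem_sup_right ha)
    intro x
    refine ⟨fun hx => key b hb hx, fun hx => ?_⟩
    have h2 : b⁻¹ * (b * x * b⁻¹) * b⁻¹⁻¹ ∈ M := key b⁻¹ (inv_mem hb) hx
    rwa [show b⁻¹ * (b * x * b⁻¹) * b⁻¹⁻¹ = x by group] at h2
  have hcop : (Nat.card B).Coprime (Nat.card P) := by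
    obtain ⟨k, hk⟩ := hP.exists_card_eq
    rw [hk]
    exact (((Fact.out : p.Prime).coprime_iff_not_dvd.2 hB).symm).pow_right k
  have hPB : ⁅⁅P, B⁆, B⁆ = ⁅P, B⁆ := Solv.commutator_commutator_eq B P hnB hcop (Or.inr (by haveI := hP.isNilpotent; infer_instance))
  have hPBP : ⁅P, B⁆ ≤ P := Subgroup.le_normalizer_iff_commutator_le_left.1 hnB
  have key : ∀ k, ⁅P, B⁆ ≤ M.lowerCentralSeries k := by
    intro k
    induction k with
    | zero => exact hPBP.trans le_sup_left
    | succ k ih =>
      set N := M.lowerCentralSeries (k + 1) with hN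
      have hNM : M ≤ Subgroup.normalizer (N : Set G) := by
        have h : ∀ j, M ≤ Subgroup.normalizer ((M.lowerCentralSeries j : Subgroup G) : Set G) := by
          intro j
          induction j with
          | zero => exact Subgroup.le_normalizer
          | succ j ihj => exact le_trans (le_inf ihj Subgroup.le_normalizer) (Solv.normalizer_le_normalizer_commutator _ _)
        exact h _
      have hNB : B ≤ Subgroup.normalizer (N : Set G) := by
        have h : ∀ j, B ≤ Subgroup.normalizer ((M.lowerCentralSeries j : Subgroup G) : Set G) := by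
          intro j
          induction j with
          | zero => exact hBM
          | succ j ihj => exact le_trans (le_inf ihj hBM) (Solv.normalizer_le_normalizer_commutator _ _)
        exact h _
      set L := Subgroup.normalizer (N : Set G)
      haveI : (N.subgroupOf L).Normal := Subgroup.normal_subgroupOf_of_le_normalizer le_rfl
      set f := QuotientGroup.mk' (N.subgroupOf L)
      have hPL : P ≤ L := le_sup_left.trans hNM
      have hAL : A ≤ L := le_sup_right.trans hNM
      have himg : ∀ X : Subgroup G, X ≤ L → X ≤ N → (X.subgroupOf L).map f = ⊥ := fun X hX hXN => by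
        rw [Subgroup.map_eq_bot_iff, QuotientGroup.ker_mk']
        exact fun x hx => hXN hx
      have hcm : ∀ X Y : Subgroup G, X ≤ L → Y ≤ L → (⁅X, Y⁆).subgroupOf L = ⁅X.subgroupOf L, Y.subgroupOf L⁆ := by
        intro X Y hX hY
        apply Subgroup.map_injective L.subtype_injective
        rw [Subgroup.map_commutator, Subgroup.map_subgroupOf_eq_of_le hX, Subgroup.map_subgroupOf_eq_of_le hY,
          Subgroup.map_subgroupOf_eq_of_le]
        rw [Subgroup.commutator_le]
        intro x hx y hy
        exact mul_mem (mul_mem (mul_mem (hX hx) (hY hy)) (inv_mem (hX hx))) (inv_mem (hY hy))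
      set P' := (P.subgroupOf L).map f
      set A' := (A.subgroupOf L).map f
      set B' := (B.subgroupOf L).map f
      have h1 : ⁅⁅B', P'⁆, A'⁆ = ⊥ := by
        rw [← Subgroup.map_commutator, ← Subgroup.map_commutator, ← hcm B P hNB hPL, ← hcm _ A ?_ hAL]
        · refine himg _ ?_ ?_
          · exact (Subgroup.commutator_mono (by rw [Subgroup.commutator_comm]; exact hPBP.trans le_sup_left) le_sup_right).trans
              ((Subgroup.commutator_le_self M).trans hNM)
          · refine le_trans (Subgroup.commutator_mono ?_ (le_sup_right : A ≤ M)) (le_of_eq rfl)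
            rw [Subgroup.commutator_comm]; exact ih
        · rw [Subgroup.commutator_comm]; exact hPBP.trans hPL
      have h2 : ⁅⁅A', B'⁆, P'⁆ = ⊥ := by
        have h0 : ⁅A', B'⁆ = ⊥ := by
          rw [← Subgroup.map_commutator, ← hcm A B hAL hNB, hAB]
          exact himg ⊥ bot_le bot_le
        rw [h0, Subgroup.commutator_bot_left]
      have h3 : ⁅⁅P', A'⁆, B'⁆ = ⊥ := Subgroup.commutator_commutator_eq_bot_of_rotate h2 h1
      have hPAL : ⁅P, A⁆ ≤ L := (Subgroup.commutator_mono le_sup_left le_sup_right).trans ((Subgroup.commutator_le_self M).trans hNM)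
      rw [← Subgroup.map_commutator, ← Subgroup.map_commutator, ← hcm P A hPL hAL, ← hcm _ B hPAL hNB,
        Subgroup.map_eq_bot_iff, QuotientGroup.ker_mk'] at h3
      have hle : ⁅⁅P, A⁆, B⁆ ≤ L := by
        rw [Subgroup.commutator_le]
        intro x hx y hy
        exact mul_mem (mul_mem (mul_mem (hPAL hx) (hNB hy)) (inv_mem (hPAL hx))) (inv_mem (hNB hy))
      calc ⁅P, B⁆ = ⁅⁅P, B⁆, B⁆ := hPB.symm
        _ ≤ ⁅⁅P, A⁆, B⁆ := Subgroup.commutator_mono hcomm le_rfl
        _ ≤ N := fun x hx => h3 (show (⟨x, hle hx⟩ : L) ∈ (⁅⁅P, A⁆, B⁆).subgroupOf L from hx)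
  exact le_bot_iff.1 (hn ▸ key n)

end Cfsg.Agent.S2908
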