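import Cfsg.Statements.S2909
import Cfsg.Agent.Lib.Local.CoprimeGeneration
import Cfsg.Agent.Lib.Solv.StructMisc
import Cfsg.Agent.Lib.Solv.Thompson
-- import your own Cfsg.Agent.* helpers here

set_option autoImplicit false
open Cfsg

namespace Cfsg.Agent.S2909
open scoped Pointwise commutatorElement

/-- Let p be a prime, E a normal p-subgroup of the finite group G, and U a non-cyclic elementary abelian p-subgroup of G such that either C_E(U) = C_E(u) for every nontrivial u ∈ U, or [E, U] = [E, ⟨u⟩] for every nontrivial u ∈ U. If R is a subgroup of order prime to p normalized by U, then [R, U] centralizes E. -/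
theorem result {G : Type*} [Group G] [Finite G] {p : ℕ} [Fact p.Prime] (E : Subgroup G) [E.Normal] (hE : IsPGroup p ↥E) (U : Subgroup G) (hU : Cfsg.IsElementaryAbelian p U) (hnc : ¬ IsCyclic ↥U) (hcond : (∀ u ∈ U, u ≠ 1 → E ⊓ Subgroup.centralizer (U : Set G) = E ⊓ Subgroup.centralizer ({u} : Set G)) ∨ (∀ u ∈ U, u ≠ 1 → ⁅E, U⁆ = ⁅E, Subgroup.zpowers u⁆)) (R : Subgroup G) (hR : ¬ p ∣ Nat.card ↥R) (hRU : U ≤ Subgroup.normalizer (R : Set G)) : ⁅R, U⁆ ≤ Subgroup.centralizer (E : Set G) := by
  classical
  haveI := hU.1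
  set C : Subgroup G := Subgroup.centralizer (E : Set G) with hC
  haveI hCn : C.Normal := Subgroup.normal_centralizer
  have hUp : IsPGroup p U := Solv.isPGroup_of_elemAbelian hU
  have hcopR : (Nat.card U).Coprime (Nat.card R) := by
    obtain ⟨k, hk⟩ := IsPGroup.iff_card.1 hUp
    rw [hk]
    exact ((Fact.out : p.Prime).coprime_iff_not_dvd.2 hR).pow_left k
  -- it suffices to treat the centralizer of each nontrivial element of `U`
  suffices h : ∀ u ∈ U, u ≠ 1 → ⁅R ⊓ Subgroup.centralizer ({u} : Set G), U⁆ ≤ C by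
    set π := QuotientGroup.mk' C
    have hle : R ≤ (Subgroup.centralizer ((U.map π : Subgroup (G ⧸ C)) : Set (G ⧸ C))).comap π := by
      refine Local.CoprimeGen.le_of_centralizers U R _ hnc hRU hcopR fun u hu hu1 => ?_
      rw [← Subgroup.map_le_iff_le_comap, ← Subgroup.commutator_eq_bot_iff_le_centralizer,
        ← Subgroup.map_commutator, Subgroup.map_eq_bot_iff, QuotientGroup.ker_mk']
      exact h u hu hu1
    rw [← Subgroup.map_le_iff_le_comap, ← Subgroup.commutator_eq_bot_iff_le_centralizer,
      ← Subgroup.map_commutator, Subgroup.map_eq_bot_iff, QuotientGroup.ker_mk'] at hle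
    exact hle
  intro u hu hu1
  set X : Subgroup G := R ⊓ Subgroup.centralizer ({u} : Set G) with hX
  set B : Subgroup G := ⁅X, U⁆ with hB
  have hUu : U ≤ Subgroup.centralizer ({u} : Set G) := fun v hv =>
    Subgroup.mem_centralizer_singleton_iff.2 (Solv.comm_of_elemAbelian hU hv hu)
  have hUX : U ≤ Subgroup.normalizer (X : Set G) :=
    le_trans (le_inf hRU (hUu.trans Subgroup.le_normalizer)) (Subgroup.inf_normalizer_le_normalizer_inf)
  have hBX : B ≤ X := Subgroup.le_normalizer_iff_commutator_le_left.1 hUX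
  have hcopB : (Nat.card B).Coprime p :=
    ((Fact.out : p.Prime).coprime_iff_not_dvd.2 fun h =>
      hR (h.trans (Subgroup.card_dvd_of_le (hBX.trans inf_le_left)))).symm
  have hz : IsPGroup p (Subgroup.zpowers u) := hUp.to_le (Subgroup.zpowers_le.2 hu)
  have hzB : Subgroup.zpowers u ≤ Subgroup.centralizer (B : Set G) := by
    rw [Subgroup.zpowers_le, Subgroup.mem_centralizer_iff]
    intro b hb
    exact (Subgroup.mem_centralizer_singleton_iff.1 (Subgroup.mem_inf.1 (hBX hb)).2)
  have hzn : Subgroup.zpowers u ≤ Subgroup.normalizer (E : Set G) :=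
    Subgroup.normalizer_eq_top E ▸ le_top
  have hBn : B ≤ Subgroup.normalizer (E : Set G) := Subgroup.normalizer_eq_top E ▸ le_top
  have hXz : X ≤ Subgroup.centralizer ((Subgroup.zpowers u : Subgroup G) : Set G) := by
    intro x hx
    rw [Subgroup.mem_centralizer_iff]
    intro y hy
    have h1 : Commute x u := Subgroup.mem_centralizer_singleton_iff.1 (Subgroup.mem_inf.1 hx).2
    obtain ⟨i, rfl⟩ := Subgroup.mem_zpowers_iff.1 hy
    exact (h1.zpow_right i).eq.symm
  rcases hcond with hc | hc
  · refine Solv.thompson_pq p (Subgroup.zpowers u) B E hz hcopB hE hzB hzn hBn ?_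
    set F : Subgroup G := E ⊓ Subgroup.centralizer ({u} : Set G) with hF
    have hle : E ⊓ Subgroup.centralizer ((Subgroup.zpowers u : Subgroup G) : Set G) ≤ F :=
      inf_le_inf_left E (Subgroup.centralizer_le
        (Set.singleton_subset_iff.2 (Subgroup.mem_zpowers u)))
    refine hle.trans ?_
    have hFU : F ≤ Subgroup.centralizer (U : Set G) := (hc u hu hu1).symm.le.trans inf_le_right
    have hXF : X ≤ Subgroup.normalizer (F : Set G) :=
      le_trans (le_inf (Subgroup.normalizer_eq_top E ▸ le_top) (inf_le_right.trans Subgroup.le_normalizer))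
        Subgroup.inf_normalizer_le_normalizer_inf
    rw [Subgroup.le_centralizer_iff, ← Subgroup.commutator_eq_bot_iff_le_centralizer]
    refine Subgroup.commutator_commutator_eq_bot_of_rotate ?_ ?_
    · rw [Subgroup.commutator_comm U F, Subgroup.commutator_eq_bot_iff_le_centralizer.2 hFU,
        Subgroup.commutator_bot_left]
    · exact Subgroup.commutator_eq_bot_iff_le_centralizer.2
        ((Subgroup.le_normalizer_iff_commutator_le_left.1 hXF).trans hFU)
  · set N : Subgroup G := ⁅E, U⁆ with hN
    have hNz : N = ⁅E, Subgroup.zpowers u⁆ := hc u hu hu1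
    have hEN : E ≤ Subgroup.normalizer (N : Set G) := Subgroup.normalizer_commutator_ge_left E U
    have hUN : U ≤ Subgroup.normalizer (N : Set G) := Subgroup.normalizer_commutator_ge_right E U
    have hXN : X ≤ Subgroup.normalizer (N : Set G) := by
      rw [hNz]
      exact le_trans (le_inf (Subgroup.normalizer_eq_top E ▸ le_top)
        (hXz.trans (Subgroup.centralizer_le_normalizer _)))
        (Solv.normalizer_le_normalizer_commutator E _)
    let S : Subgroup G :=
      { carrier := {g | g ∈ Subgroup.normalizer (N : Set G) ∧ ∀ e ∈ E, g * e * g⁻¹ * e⁻¹ ∈ N}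
        one_mem' := ⟨one_mem _, fun e _ => by simp⟩
        mul_mem' := by
          rintro g h ⟨hg, hg'⟩ ⟨hh, hh'⟩
          refine ⟨mul_mem hg hh, fun e he => ?_⟩
          rw [show g * h * e * (g * h)⁻¹ * e⁻¹ =
            (g * (h * e * h⁻¹ * e⁻¹) * g⁻¹) * (g * e * g⁻¹ * e⁻¹) by group]
          exact mul_mem ((Subgroup.mem_normalizer_iff.1 hg _).1 (hh' e he)) (hg' e he)
        inv_mem' := by
          rintro g ⟨hg, hg'⟩
          refine ⟨inv_mem hg, fun e he => ?_⟩
          rw [show g⁻¹ * e * g⁻¹⁻¹ * e⁻¹ = g⁻¹ * (g * e * g⁻¹ * e⁻¹)⁻¹ * g by group]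
          exact (Subgroup.mem_normalizer_iff''.1 hg _).1 (inv_mem (hg' e he)) }
    have hBS : B ≤ S := by
      rw [hB, Subgroup.commutator_le]
      intro x hx v hv
      have hxy : x * v * x⁻¹ * v⁻¹ ∈ Subgroup.normalizer (N : Set G) :=
        mul_mem (mul_mem (mul_mem (hXN hx) (hUN hv)) (inv_mem (hXN hx))) (inv_mem (hUN hv))
      refine ⟨by rw [commutatorElement_def]; exact hxy, fun e he => ?_⟩
      have key : ∀ w ∈ U, ∀ f ∈ E, w * f * w⁻¹ * f⁻¹ ∈ N := fun w hw f hf => by
        rw [hN, Subgroup.commutator_comm]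
        exact Subgroup.commutator_mem_commutator hw hf
      set e' := x⁻¹ * e * x with he'
      have he'E : e' ∈ E := Subgroup.Normal.conj_mem' inferInstance e he x
      have h1 := key v⁻¹ (inv_mem hv) e he
      have h2 := (Subgroup.mem_normalizer_iff''.1 (hXN hx) _).1 h1
      have h3 := (Subgroup.mem_normalizer_iff.1 (hUN hv) _).1 h2
      have h4 := key v hv e' he'E
      have h5 := (Subgroup.mem_normalizer_iff.1 (hXN hx) _).1 (mul_mem h3 h4)
      rw [commutatorElement_def]
      convert h5 using 1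
      rw [he']
      group
    set P : Subgroup G := E ⊔ Subgroup.zpowers u with hP
    have hPp : IsPGroup p P := hE.to_sup_of_normal_left' hz hzn
    haveI := hPp.isNilpotent
    have hNP : N ≤ (frattini P).map P.subtype := by
      rw [hNz]
      refine (Subgroup.commutator_mono (le_sup_left : E ≤ P) (le_sup_right : Subgroup.zpowers u ≤ P)).trans ?_
      rw [← Subgroup.map_subtype_commutator P]
      exact Subgroup.map_mono Solv.commutator_le_frattini
    have hBP : B ≤ Subgroup.normalizer (P : Set G) := by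
      refine fun b hb => Subgroup.mem_normalizer_iff_map_conj_eq.2 ?_
      rw [hP, Subgroup.map_sup, Subgroup.mem_normalizer_iff_map_conj_eq.1 (hBn hb),
        Subgroup.mem_normalizer_iff_map_conj_eq.1 (((hBX.trans hXz).trans (Subgroup.centralizer_le_normalizer _)) hb)]
    refine (Solv.centralizes_of_trivial_on_frattini_quotient B P hBP ?_ ?_).trans
      (Subgroup.centralizer_le (SetLike.coe_subset_coe.2 le_sup_left))
    · obtain ⟨k, hk⟩ := IsPGroup.iff_card.1 (hPp.to_subgroup (frattini P))
      rw [hk]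
      exact hcopB.pow_right k
    · intro b hb k hk
      obtain ⟨e, he, w, hw, rfl⟩ : ∃ e ∈ E, ∃ w ∈ Subgroup.zpowers u, e * w = k := by
        have : k ∈ ((E ⊔ Subgroup.zpowers u : Subgroup G) : Set G) := hk
        rw [Subgroup.normal_mul] at this
        obtain ⟨e, he, w, hw, rfl⟩ := Set.mem_mul.1 this
        exact ⟨e, he, w, hw, rfl⟩
      have hcomm : w * b⁻¹ = b⁻¹ * w :=
        (Subgroup.mem_centralizer_iff.1 (hzB hw) b⁻¹ (inv_mem hb)).symm
      rw [show b * (e * w) * b⁻¹ * (e * w)⁻¹ = b * e * (w * b⁻¹) * w⁻¹ * e⁻¹ by group, hcomm,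
        show b * e * (b⁻¹ * w) * w⁻¹ * e⁻¹ = b * e * b⁻¹ * e⁻¹ by group]
      exact hNP ((hBS hb).2 e he)

end Cfsg.Agent.S2909
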