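import Cfsg.Statements.S2910
import Cfsg.Agent.Lib.Fusion.FixOmega
import Cfsg.Agent.Lib.Solv.NormalPComplement
-- import your own Cfsg.Agent.* helpers here

set_option autoImplicit false
open Cfsg

namespace Cfsg.Agent.S2910
theorem conj_injective {G : Type*} [Group G] (h : G) : Function.Injective fun y => h * y * h⁻¹ :=
  fun a b e => by simpa using e


/-- Let p be an odd prime dividing the order of the finite group G and P a Sylow p-subgroup of G. If Ω₁(P) (generated by the elements of order dividing p) is contained in the centre of G, then G has a normal p-complement. In particular, if G is quasisimple then Ω₁(P) is not central in G. -/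
theorem result {G : Type*} [Group G] [Finite G] {p : ℕ} [Fact p.Prime] (hp : p ≠ 2) (hdiv : p ∣ Nat.card G) (P : Sylow p G) (hZ : Cfsg.omegaOne p (P : Subgroup G) ≤ Subgroup.center G) : Cfsg.HasNormalPComplement p G ∧ ¬ Cfsg.IsQuasisimple G := by
  have hcond : Cfsg.Agent.Solv.FrobeniusCond p G := by
    intro Q hQ g hg hco
    rw [Subgroup.mem_centralizer_iff]
    intro q hq
    have hpow : ∀ (k : ℕ) (x : Q), ((((Q.normalizerMonoidHom ⟨g, hg⟩) ^ k : MulAut Q) x : Q) : G)
        = g ^ k * x * (g ^ k)⁻¹ := by
      intro k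
      induction k with
      | zero => intro x; simp
      | succ k ih =>
        intro x
        rw [pow_succ', MulAut.mul_apply]
        show g * (((Q.normalizerMonoidHom ⟨g, hg⟩) ^ k : MulAut Q) x : Q) * g⁻¹ = _
        rw [ih, pow_succ']
        group
    have hfix := Cfsg.Agent.Fusion.eq_of_coprime_fix hQ (Q.normalizerMonoidHom ⟨g, hg⟩) (n := orderOf g)
      (MulEquiv.ext fun x => Subtype.ext (by rw [hpow, pow_orderOf_eq_one]; simp))
      ((Fact.out : p.Prime).coprime_iff_not_dvd.1 hco.symm)
      (fun x hx => Subtype.ext (by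
        show g * (x : G) * g⁻¹ = x
        rcases hx with hx | ⟨h2, -⟩
        swap
        · exact absurd h2 hp
        obtain ⟨P', hP'⟩ := hQ.exists_le_sylow
        obtain ⟨h, rfl⟩ := MulAction.exists_smul_eq G P P'
        obtain ⟨y, hy, hyx⟩ := hP' x.2
        have hyx' : h * y * h⁻¹ = (x : G) := hyx
        have hy1 : y ^ p = 1 := by
          apply conj_injective h
          show h * y ^ p * h⁻¹ = h * 1 * h⁻¹
          rw [mul_one, mul_inv_cancel, ← conj_pow, hyx', ← Subgroup.coe_pow, hx, Subgroup.coe_one]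
        have hyc : y ∈ Subgroup.center G := hZ (Subgroup.subset_closure ⟨hy, hy1⟩)
        have hxy : (x : G) = y := by
          rw [← hyx', Subgroup.mem_center_iff.1 hyc h, mul_inv_cancel_right]
        rw [hxy, Subgroup.mem_center_iff.1 hyc g, mul_inv_cancel_right])) ⟨q, hq⟩
    have h1 : g * q * g⁻¹ = q := congrArg Subtype.val hfix
    exact (mul_inv_eq_iff_eq_mul.1 h1).symm
  have hnpc := hcond.hasNormalPComplement
  refine ⟨hnpc, fun hqs => ?_⟩
  obtain ⟨hperf, -⟩ := hqs
  obtain ⟨k, hk⟩ := Cfsg.Agent.Solv.hasNormalPComplement_iff_index.1 hnpc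
  haveI : (Cfsg.pPrimeCore p G).Normal := inferInstance
  have hk0 : k ≠ 0 := by
    intro h0
    rw [h0, pow_zero] at hk
    have h1 := (Cfsg.pPrimeCore p G).card_mul_index
    rw [hk, mul_one] at h1
    have h2 := Cfsg.Agent.Solv.card_pPrimeCore_coprime p G
    rw [h1] at h2
    exact (Fact.out : p.Prime).coprime_iff_not_dvd.1 h2.symm hdiv
  have hcard : Nat.card (G ⧸ Cfsg.pPrimeCore p G) = p ^ k := hk
  haveI : Nontrivial (G ⧸ Cfsg.pPrimeCore p G) := Finite.one_lt_card_iff_nontrivial.1 (by
    rw [hcard]; exact Nat.one_lt_pow hk0 (Fact.out : p.Prime).one_lt)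
  haveI := (IsPGroup.of_card hcard).isNilpotent
  have h1 := IsSolvable.commutator_lt_top_of_nontrivial (G ⧸ Cfsg.pPrimeCore p G)
  apply h1.ne
  rw [commutator_def, ← Subgroup.map_top_of_surjective (QuotientGroup.mk' (Cfsg.pPrimeCore p G))
    (QuotientGroup.mk'_surjective _), ← Subgroup.map_commutator, ← commutator_def]
  exact congrArg _ hperf.commutator_eq_top

end Cfsg.Agent.S2910
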