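import Cfsg.Statements.S2911
import Cfsg.Prelude
-- import your own Cfsg.Agent.* helpers here

set_option autoImplicit false
open Cfsg

namespace Cfsg.Agent.S2911
open Subgroup

abbrev P16 := Multiplicative (ZMod 2) × DihedralGroup 4

def zz : P16 := (1, DihedralGroup.r 2)
def tt : P16 := (Multiplicative.ofAdd 1, 1)
def rr : P16 := (1, DihedralGroup.r 1)
def bb (i : ZMod 4) : P16 := (1, DihedralGroup.sr i)
def cc (i : ZMod 4) : P16 := (Multiplicative.ofAdd 1, DihedralGroup.sr i)

theorem sq_cases : ∀ x : P16, x * x = 1 ∨ x * x = zz := by decide +kernel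
theorem inv_cases : ∀ x : P16, x * x = 1 →
    x = 1 ∨ x = zz ∨ x = tt ∨ x = tt * zz ∨ (∃ i, x = bb i) ∨ (∃ i, x = cc i) := by decide +kernel
theorem conj_b : ∀ i : ZMod 4, rr * bb i * rr⁻¹ = bb (i + 2) ∨ rr * bb i * rr⁻¹ = bb (i - 2) := by decide +kernel
theorem conj_c : ∀ i : ZMod 4, rr * cc i * rr⁻¹ = cc (i + 2) ∨ rr * cc i * rr⁻¹ = cc (i - 2) := by decide +kernel

/-- the four homomorphisms nontrivial on `t` or `b` with small kernels -/
def chiFun (α γ : ZMod 2) : P16 → Multiplicative (ZMod 2) := fun x =>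
  match x.2 with
  | DihedralGroup.r i => Multiplicative.ofAdd (x.1.toAdd + α * (i.val : ZMod 2))
  | DihedralGroup.sr i => Multiplicative.ofAdd (x.1.toAdd + γ + α * (i.val : ZMod 2))

theorem chi_mul : ∀ α γ : ZMod 2, ∀ x y : P16, chiFun α γ (x * y) = chiFun α γ x * chiFun α γ y := by decide +kernel

def chi (α γ : ZMod 2) : P16 →* Multiplicative (ZMod 2) := MonoidHom.mk' (chiFun α γ) (chi_mul α γ)

theorem chi_t : ∀ α γ : ZMod 2, chiFun α γ tt ≠ 1 ∧ chiFun α γ (tt * zz) ≠ 1 := by decide +kernel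

theorem ker00 : ∀ y : P16, y * y = 1 → chiFun 0 0 y = 1 → y = 1 ∨ y = zz ∨ (∃ i, y = bb i) := by decide +kernel
theorem ker01 : ∀ y : P16, y * y = 1 → chiFun 0 1 y = 1 → y = 1 ∨ y = zz ∨ (∃ i, y = cc i) := by decide +kernel
theorem ker10 : ∀ y : P16, y * y = 1 → chiFun 1 0 y = 1 →
    y = 1 ∨ y = zz ∨ y = bb 0 ∨ y = bb 2 ∨ y = cc 1 ∨ y = cc 3 := by decide +kernel
theorem ker11 : ∀ y : P16, y * y = 1 → chiFun 1 1 y = 1 →
    y = 1 ∨ y = zz ∨ y = bb 1 ∨ y = bb 3 ∨ y = cc 0 ∨ y = cc 2 := by decide +kernel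

theorem key (u : ZMod 4) : ∀ x : P16, (x = tt ∨ x = bb u ∨ x = bb (u + 2) ∨ x = cc u ∨ x = cc (u + 2)) →
    ∀ y : P16, (y = tt * zz ∨ y = bb (u + 1) ∨ y = bb (u + 3) ∨ y = cc (u + 1) ∨ y = cc (u + 3)) →
    y = zz * x → x = tt := by
  rintro x (rfl | rfl | rfl | rfl | rfl) y (rfl | rfl | rfl | rfl | rfl) <;> revert u <;> decide +kernel

theorem ne1 : zz ≠ tt := by decide +kernel
theorem ne2 : zz ≠ tt * zz := by decide +kernel
theorem ne3 : tt ≠ tt * zz := by decide +kernel
theorem sq_u : tt * zz * (tt * zz) = 1 := by decide +kernel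
theorem two_elt : ∀ v a : Multiplicative (ZMod 2), v ≠ 1 → a ≠ 1 → a = v := by decide
theorem one_one : (1 : ZMod 4) + 1 = 0 + 2 := by decide

theorem basics : zz * zz = 1 ∧ rr * rr = zz ∧ tt * tt = 1 ∧ tt * zz * zz = tt ∧ zz * (tt * zz) = tt ∧
    (∀ x : P16, tt * x = x * tt) ∧ (∀ x : P16, zz * x = x * zz) ∧ zz ≠ 1 ∧ tt ≠ 1 ∧ tt * zz ≠ 1 := by decide +kernel

theorem bb_facts : ∀ u : ZMod 4, bb u ≠ tt ∧ bb u * bb u = 1 ∧ bb u * tt = tt * bb u ∧ bb u ≠ 1 ∧ cc u * cc u = 1 ∧ cc u ≠ 1 := by decide +kernel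

theorem main {G : Type*} [Group G] [Finite G] (S : Sylow 2 G) (ι : P16 →* G) (hι : Function.Injective ι)
    (hran : ι.range = (S : Subgroup G)) : ∃ H : Subgroup G, H.index = 2 := by
  classical
  haveI : Fact (Nat.Prime 2) := ⟨Nat.prime_two⟩
  by_contra hcon
  push Not at hcon
  obtain ⟨b1, b2, b3, b4, b5, b6, b7, b8, b9, b10⟩ := basics
  let R : P16 → P16 → Prop := fun a b => IsConj (ι a) (ι b)
  have Rs : ∀ a b, R a b → R b a := fun a b h => h.symm
  have Rt : ∀ a b c, R a b → R b c → R a c := fun a b c h h' => h.trans h'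
  have Rone : ∀ a, R a 1 → a = 1 := fun a h => by
    change IsConj (ι a) (ι 1) at h
    rw [map_one] at h
    exact hι ((isConj_one_left.1 h).trans (map_one ι).symm)
  have hrb : ∀ i, R (bb i) (bb (i + 2)) := fun i => by
    refine isConj_iff.2 ⟨ι rr, ?_⟩
    rw [← map_inv, ← map_mul, ← map_mul]
    rcases conj_b i with h | h <;> rw [h]
    exact congrArg (fun j => ι (bb j)) (by revert i; decide)
  have hrc : ∀ i, R (cc i) (cc (i + 2)) := fun i => by
    refine isConj_iff.2 ⟨ι rr, ?_⟩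
    rw [← map_inv, ← map_mul, ← map_mul]
    rcases conj_c i with h | h <;> rw [h]
    exact congrArg (fun j => ι (cc j)) (by revert i; decide)
  -- fusion of central elements
  have hcen : ∀ x : P16, (∀ y, x * y = y * x) → ι x ∈ centralizer ((S : Subgroup G) : Set G) := fun x hx => by
    rw [← hran]
    refine mem_centralizer_iff.2 ?_
    rintro _ ⟨y, rfl⟩
    rw [← map_mul, ← map_mul, hx y]
  have hburn : ∀ x y : P16, (∀ w, x * w = w * x) → (∀ w, y * w = w * y) → R x y →
      ∃ n ∈ normalizer ((S : Subgroup G) : Set G), n * ι x * n⁻¹ = ι y := by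
    intro x y hx hy h
    obtain ⟨g, hg⟩ := isConj_iff.1 h
    obtain ⟨n, hn, he⟩ := S.conj_eq_normalizer_conj_of_mem_centralizer (ι x) g⁻¹ (hcen x hx) (by
      rw [inv_inv, hg]; exact hcen y hy)
    refine ⟨n⁻¹, inv_mem hn, ?_⟩
    rw [inv_inv, ← he, inv_inv, hg]
  have hnorm_z : ∀ n ∈ normalizer ((S : Subgroup G) : Set G), n * ι zz * n⁻¹ = ι zz := by
    intro n hn
    have h1 : n * ι rr * n⁻¹ ∈ ι.range := by
      rw [hran]
      exact (mem_normalizer_iff.1 hn (ι rr)).1 (hran ▸ ⟨rr, rfl⟩)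
    obtain ⟨w, hw⟩ := h1
    have h2 : n * ι zz * n⁻¹ = ι (w * w) := by
      rw [map_mul, hw, ← b2, map_mul]; group
    rcases sq_cases w with h | h
    · rw [h, map_one, mul_inv_eq_one, mul_eq_left] at h2
      exact absurd (hι (h2.trans (map_one ι).symm)) b8
    · rw [h2, h]
  have htt : ∀ w, tt * zz * w = w * (tt * zz) := fun w => by
    rw [mul_assoc, b7, ← mul_assoc, b6, mul_assoc]
  have nzt : ¬ R zz tt := fun h => by
    obtain ⟨n, hn, he⟩ := hburn zz tt b7 b6 h
    rw [hnorm_z n hn] at he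
    exact absurd (hι he) (by first | exact ne1 | exact ne2)
  have nzu : ¬ R zz (tt * zz) := fun h => by
    obtain ⟨n, hn, he⟩ := hburn zz (tt * zz) b7 htt h
    rw [hnorm_z n hn] at he
    exact absurd (hι he) (by first | exact ne1 | exact ne2)
  have ntu : ¬ R tt (tt * zz) := fun h => by
    obtain ⟨n, hn, he⟩ := hburn tt (tt * zz) b6 htt h
    have hz := hnorm_z n hn
    have h2 : n * ι (tt * zz) * n⁻¹ = ι tt := by
      calc n * ι (tt * zz) * n⁻¹ = (n * ι tt * n⁻¹) * (n * ι zz * n⁻¹) := by rw [map_mul]; group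
        _ = ι tt := by rw [he, hz, ← map_mul, b4]
    have hiter : ∀ k : ℕ, n ^ (2 * k + 1) * ι tt * (n ^ (2 * k + 1))⁻¹ = ι (tt * zz) := by
      intro k
      induction k with
      | zero => simpa using he
      | succ k ih =>
        calc n ^ (2 * (k + 1) + 1) * ι tt * (n ^ (2 * (k + 1) + 1))⁻¹
            = n * (n * (n ^ (2 * k + 1) * ι tt * (n ^ (2 * k + 1))⁻¹) * n⁻¹) * n⁻¹ := by
              rw [show 2 * (k + 1) + 1 = (2 * k + 1) + 1 + 1 by ring, pow_succ' n (2 * k + 1 + 1),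
                pow_succ' n (2 * k + 1)]
              group
          _ = _ := by rw [ih, h2, he]
    set N := normalizer ((S : Subgroup G) : Set G) with hN
    set o := ((S : Subgroup G).subgroupOf N).index with ho
    have hodd : Odd o := by
      refine Nat.not_even_iff_odd.1 fun h => S.not_dvd_index (dvd_trans h.two_dvd ?_)
      rw [← relIndex_mul_index (le_normalizer (H := (S : Subgroup G)))]
      exact Dvd.intro _ rfl
    haveI : ((S : Subgroup G).subgroupOf N).Normal := normal_in_normalizer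
    have hmem := Subgroup.pow_index_mem ((S : Subgroup G).subgroupOf N) ⟨n, hn⟩
    obtain ⟨k, hk⟩ := hodd
    rw [← ho, hk, mem_subgroupOf, Subgroup.coe_pow, ← hran] at hmem
    obtain ⟨w, hw⟩ := hmem
    have h3 := hiter k
    rw [show (⟨n, hn⟩ : N).1 = n from rfl] at hw
    rw [← hw, ← map_inv, ← map_mul, ← map_mul, ← b6 w, mul_inv_cancel_right] at h3
    exact absurd (hι h3) ne3
  -- Thompson transfer
  have hsign : ∀ f : G →* ℤˣ, ∀ g, f g = 1 := by
    intro f g
    by_contra hg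
    apply hcon f.ker
    rw [index_ker]
    have htop : f.range = ⊤ := by
      rw [eq_top_iff]
      intro u _
      rcases Int.units_eq_one_or u with rfl | rfl
      · exact one_mem _
      · rcases Int.units_eq_one_or (f g) with h | h
        · exact absurd h hg
        · exact ⟨g, h⟩
    rw [htop, card_top, Nat.card_eq_fintype_card]
    rfl
  have hA : ∀ (α γ : ZMod 2) (x : P16), x * x = 1 → chiFun α γ x ≠ 1 →
      ∃ y : P16, y * y = 1 ∧ chiFun α γ y = 1 ∧ R x y := by
    intro α γ x hx hχ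
    set M : Subgroup G := (chi α γ).ker.map ι with hM
    have hMS : M ≤ (S : Subgroup G) := hran ▸ map_le_range _ _
    have hk : (chi α γ).ker.index = 2 := by
      rw [index_ker]
      have htop : (chi α γ).range = ⊤ := by
        rw [eq_top_iff]
        intro v _
        by_cases hv : v = 1
        · exact hv ▸ one_mem _
        · refine ⟨tt, ?_⟩
          have h1 := (chi_t α γ).1
          show chiFun α γ tt = v
          exact two_elt v _ hv h1
      rw [htop, card_top, Nat.card_eq_fintype_card]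
      rfl
    have hidx : M.index = 2 * (S : Subgroup G).index := by
      rw [← relIndex_mul_index hMS]
      congr 1
      have h1 := (chi α γ).ker.relIndex_map_map_of_injective ⊤ hι
      rw [← hran, MonoidHom.range_eq_map, h1, relIndex_top_right, hk]
    haveI : Fintype (G ⧸ M) := Fintype.ofFinite _
    let f : G →* ℤˣ := (Equiv.Perm.sign).comp (MulAction.toPermHom G (G ⧸ M))
    by_contra hno
    push Not at hno
    have hf : f (ι x) = -1 := by
      have hodd : Odd (S : Subgroup G).index := Nat.not_even_iff_odd.1 fun h => S.not_dvd_index h.two_dvd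
      show Equiv.Perm.sign (MulAction.toPermHom G (G ⧸ M) (ι x)) = -1
      set σ := MulAction.toPermHom G (G ⧸ M) (ι x) with hσ
      have hsq : σ ^ 2 = 1 := by rw [hσ, ← map_pow, ← map_pow, pow_two, hx, map_one, map_one]
      have hfix : ∀ q, σ q ≠ q := by
        intro q
        induction q using QuotientGroup.induction_on with
        | _ g =>
          intro h
          have h' : ((ι x * g : G) : G ⧸ M) = g := h
          rw [eq_comm, QuotientGroup.eq] at h'
          obtain ⟨y, hy, hye⟩ := h'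
          refine hno y ?_ hy (isConj_iff.2 ⟨g⁻¹, ?_⟩)
          · apply hι
            have hc : ι x * ι x = 1 := by rw [← map_mul, hx, map_one]
            rw [map_mul, map_one, hye]
            calc g⁻¹ * (ι x * g) * (g⁻¹ * (ι x * g)) = g⁻¹ * (ι x * ι x) * g := by group
              _ = 1 := by rw [hc]; group
          · rw [hye, inv_inv, mul_assoc]
      have hall : ∀ n ∈ σ.cycleType, n = 2 := fun n hn => le_antisymm
        (Nat.le_of_dvd two_pos ((Equiv.Perm.dvd_of_mem_cycleType hn).trans (orderOf_dvd_of_pow_eq_one hsq)))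
        (Equiv.Perm.two_le_of_mem_cycleType hn)
      have hsum : σ.cycleType.sum = 2 * (S : Subgroup G).index := by
        rw [Equiv.Perm.sum_cycleType, ← hidx, index_eq_card, Nat.card_eq_fintype_card, Finset.card_eq_iff_eq_univ]
        ext q
        simp [hfix q]
      have hrep := Multiset.eq_replicate.2 ⟨rfl, hall⟩
      have hc : Multiset.card σ.cycleType = (S : Subgroup G).index := by
        have h := hsum
        rw [hrep, Multiset.sum_replicate, smul_eq_mul] at h
        omega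
      rw [Equiv.Perm.sign_of_cycleType, hsum, hc]
      exact Odd.neg_one_pow (Even.add_odd ⟨_, two_mul _⟩ hodd)
    rw [hsign] at hf
    exact absurd hf (by decide)
  have hpick : ∀ t' : P16, (t' = tt ∨ t' = tt * zz) →
      (R t' (bb 0) ∨ R t' (bb 1)) ∧ (R t' (cc 0) ∨ R t' (cc 1)) ∧
      (R t' (bb 0) ∨ R t' (cc 1)) ∧ (R t' (bb 1) ∨ R t' (cc 0)) := by
    intro t' ht'
    have hne : t' ≠ 1 := by rcases ht' with rfl | rfl; exacts [b9, b10]
    have hnz : ¬ R t' zz := fun h => by
      rcases ht' with e | e <;> rw [e] at h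
      exacts [nzt (Rs _ _ h), nzu (Rs _ _ h)]
    have ht2 : t' * t' = 1 := by
      rcases ht' with rfl | rfl
      · exact b3
      · exact sq_u
    have hchi : ∀ α γ, chiFun α γ t' ≠ 1 := fun α γ => by
      rcases ht' with rfl | rfl
      exacts [(chi_t α γ).1, (chi_t α γ).2]
    have hb : ∀ i : ZMod 4, i = 0 ∨ i = 1 ∨ i = 0 + 2 ∨ i = 1 + 2 := by decide
    refine ⟨?_, ?_, ?_, ?_⟩
    · obtain ⟨y, hy, hy1, hR⟩ := hA 0 0 t' ht2 (hchi 0 0)
      rcases ker00 y hy hy1 with e | e | ⟨i, e⟩ <;> rw [e] at hR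
      · exact absurd (Rone _ hR) hne
      · exact absurd hR hnz
      · rcases hb i with h | h | h | h <;> rw [h] at hR
        exacts [.inl hR, .inr hR, .inl (Rt _ _ _ hR (Rs _ _ (hrb 0))), .inr (Rt _ _ _ hR (Rs _ _ (hrb 1)))]
    · obtain ⟨y, hy, hy1, hR⟩ := hA 0 1 t' ht2 (hchi 0 1)
      rcases ker01 y hy hy1 with e | e | ⟨i, e⟩ <;> rw [e] at hR
      · exact absurd (Rone _ hR) hne
      · exact absurd hR hnz
      · rcases hb i with h | h | h | h <;> rw [h] at hR
        exacts [.inl hR, .inr hR, .inl (Rt _ _ _ hR (Rs _ _ (hrc 0))), .inr (Rt _ _ _ hR (Rs _ _ (hrc 1)))]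
    · obtain ⟨y, hy, hy1, hR⟩ := hA 1 0 t' ht2 (hchi 1 0)
      rcases ker10 y hy hy1 with e | e | e | e | e | e <;> rw [e] at hR
      exacts [absurd (Rone _ hR) hne, absurd hR hnz, .inl hR, .inl (Rt _ _ _ hR (Rs _ _ (hrb 0))), .inr hR,
        .inr (Rt _ _ _ hR (Rs _ _ (hrc 1)))]
    · obtain ⟨y, hy, hy1, hR⟩ := hA 1 1 t' ht2 (hchi 1 1)
      rcases ker11 y hy hy1 with e | e | e | e | e | e <;> rw [e] at hR
      exacts [absurd (Rone _ hR) hne, absurd hR hnz, .inl hR, .inl (Rt _ _ _ hR (Rs _ _ (hrb 1))), .inr hR,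
        .inr (Rt _ _ _ hR (Rs _ _ (hrc 0)))]
  obtain ⟨p1, p2, p3, p4⟩ := hpick tt (.inl rfl)
  obtain ⟨q1, q2, q3, q4⟩ := hpick (tt * zz) (.inr rfl)
  have excl : ∀ y, R tt y → ¬ R (tt * zz) y := fun y h h' => ntu (Rt _ _ _ h (Rs _ _ h'))
  -- the two possible fusion patterns
  have hend : ∀ u : ZMod 4, R tt (bb u) → R tt (cc u) → R (tt * zz) (bb (u + 1)) → R (tt * zz) (cc (u + 1)) → False := by
    intro u h1 h2 h3 h4
    have hcl : ∀ x : P16, x * x = 1 → x = 1 ∨ x = zz ∨
        ((x = tt ∨ x = bb u ∨ x = bb (u + 2) ∨ x = cc u ∨ x = cc (u + 2)) ∧ R tt x) ∨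
        ((x = tt * zz ∨ x = bb (u + 1) ∨ x = bb (u + 3) ∨ x = cc (u + 1) ∨ x = cc (u + 3)) ∧ R (tt * zz) x) := by
      intro x hx
      have hi4 : ∀ i v : ZMod 4, i = v ∨ i = v + 2 ∨ i = v + 1 ∨ i = v + 3 := by decide
      have h13 : ∀ v : ZMod 4, v + 1 + 2 = v + 3 := by decide
      have hbb3 : R (tt * zz) (bb (u + 3)) := h13 u ▸ Rt _ _ _ h3 (hrb (u + 1))
      have hcc3 : R (tt * zz) (cc (u + 3)) := h13 u ▸ Rt _ _ _ h4 (hrc (u + 1))
      rcases inv_cases x hx with e | e | e | e | ⟨i, e⟩ | ⟨i, e⟩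
      · exact .inl e
      · exact .inr (.inl e)
      · exact .inr (.inr (.inl ⟨.inl e, e ▸ IsConj.refl _⟩))
      · exact .inr (.inr (.inr ⟨.inl e, e ▸ IsConj.refl _⟩))
      · rcases hi4 i u with h | h | h | h <;> rw [h] at e
        · exact .inr (.inr (.inl ⟨.inr (.inl e), e ▸ h1⟩))
        · exact .inr (.inr (.inl ⟨.inr (.inr (.inl e)), e ▸ Rt _ _ _ h1 (hrb u)⟩))
        · exact .inr (.inr (.inr ⟨.inr (.inl e), e ▸ h3⟩))
        · exact .inr (.inr (.inr ⟨.inr (.inr (.inl e)), e ▸ hbb3⟩))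
      · rcases hi4 i u with h | h | h | h <;> rw [h] at e
        · exact .inr (.inr (.inl ⟨.inr (.inr (.inr (.inl e))), e ▸ h2⟩))
        · exact .inr (.inr (.inl ⟨.inr (.inr (.inr (.inr e))), e ▸ Rt _ _ _ h2 (hrc u)⟩))
        · exact .inr (.inr (.inr ⟨.inr (.inr (.inr (.inl e))), e ▸ h4⟩))
        · exact .inr (.inr (.inr ⟨.inr (.inr (.inr (.inr e))), e ▸ hcc3⟩))
    obtain ⟨hbt, hb2, hbc, hb1, -, -⟩ := bb_facts u
    obtain ⟨g, hg⟩ := isConj_iff.1 h1
    -- `g⁻¹` maps `b` to `t`; move the centralizer of `b` into `S`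
    set E : Subgroup P16 := centralizer ({bb u} : Set P16) with hE
    have hmem : ∀ e ∈ E, g⁻¹ * ι e * g ∈ centralizer ({ι tt} : Set G) := by
      intro e he
      rw [mem_centralizer_singleton_iff]
      have hc : ι e * ι (bb u) = ι (bb u) * ι e := by rw [← map_mul, ← map_mul, mem_centralizer_singleton_iff.1 he]
      rw [← hg] at hc
      calc g⁻¹ * ι e * g * ι tt = g⁻¹ * (ι e * (g * ι tt * g⁻¹)) * g := by group
        _ = g⁻¹ * ((g * ι tt * g⁻¹) * ι e) * g := by rw [hc]
        _ = _ := by group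
    let f : ↥E →* ↥(centralizer ({ι tt} : Set G)) :=
      MonoidHom.mk' (fun e => ⟨g⁻¹ * ι e * g, hmem e e.2⟩) (fun a b => Subtype.ext (by
        show g⁻¹ * ι ((a : P16) * b) * g = g⁻¹ * ι a * g * (g⁻¹ * ι b * g)
        rw [map_mul]; group))
    have hpE : IsPGroup 2 E := by
      refine IsPGroup.to_subgroup (IsPGroup.of_card (n := 4) ?_) E
      rw [Nat.card_eq_fintype_card]; decide +kernel
    have hfr : IsPGroup 2 f.range := hpE.of_surjective f.rangeRestrict f.rangeRestrict_surjective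
    have hSC : (S : Subgroup G) ≤ centralizer ({ι tt} : Set G) := fun s hs => by
      rw [← hran] at hs
      obtain ⟨w, rfl⟩ := hs
      rw [mem_centralizer_singleton_iff, ← map_mul, ← map_mul, b6]
    obtain ⟨Q, hQ⟩ := hfr.exists_le_sylow
    obtain ⟨c, hc⟩ := MulAction.exists_smul_eq (centralizer ({ι tt} : Set G)) Q (S.subtype hSC)
    have hin : ∀ e : E, ((c : G) * (g⁻¹ * ι e * g) * (c : G)⁻¹) ∈ ι.range := by
      intro e
      rw [hran]
      have h0 : (MulAut.conj c) (f e) ∈ ((c • Q : Sylow 2 _) : Subgroup ↥(centralizer ({ι tt} : Set G))) := by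
        rw [Sylow.coe_subgroup_smul]
        exact Subgroup.smul_mem_pointwise_smul _ _ _ (hQ ⟨e, rfl⟩)
      rw [hc] at h0
      exact h0
    choose ν hν using hin
    have hνR : ∀ e : E, R (e : P16) (ν e) := fun e => isConj_iff.2 ⟨(c : G) * g⁻¹, by rw [hν e]; group⟩
    have hzE : zz ∈ E := mem_centralizer_singleton_iff.2 (b7 _)
    have huE : tt * zz ∈ E := mem_centralizer_singleton_iff.2 (htt _)
    have htE : tt ∈ E := mem_centralizer_singleton_iff.2 (b6 _)
    have hbE : bb u ∈ E := mem_centralizer_singleton_iff.2 rfl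
    have hνmul : ∀ a b : E, ν (a * b) = ν a * ν b := fun a b => hι (by
      rw [map_mul, hν, hν, hν, Subgroup.coe_mul, map_mul]; group)
    have hνinj : ∀ a b : E, ν a = ν b → a = b := fun a b h => by
      have := congrArg ι h
      rw [hν, hν] at this
      exact Subtype.ext (hι (by simpa using this))
    have hνb : ν ⟨bb u, hbE⟩ = tt := hι (by
      rw [hν]
      show (c : G) * (g⁻¹ * ι (bb u) * g) * (c : G)⁻¹ = ι tt
      rw [← hg, show g⁻¹ * (g * ι tt * g⁻¹) * g = ι tt by group, mem_centralizer_singleton_iff.1 c.2,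
        mul_inv_cancel_right])
    have hsq : ∀ e : E, (e : P16) * e = 1 → ν e * ν e = 1 := fun e he => by
      rw [← hνmul, show e * e = 1 from Subtype.ext he]
      exact hι (by rw [hν, Subgroup.coe_one, map_one]; group)
    have hz' : ν ⟨zz, hzE⟩ = zz := by
      have h := hνR ⟨zz, hzE⟩
      rcases hcl _ (hsq ⟨zz, hzE⟩ b1) with e | e | ⟨-, e⟩ | ⟨-, e⟩
      · rw [e] at h; exact absurd (Rone _ h) b8
      · exact e
      · exact absurd (Rt _ _ _ h (Rs _ _ e)) nzt
      · exact absurd (Rt _ _ _ h (Rs _ _ e)) nzu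
    have htν : ν ⟨tt, htE⟩ = tt := by
      have h := hνR ⟨tt, htE⟩
      have h' := hνR ⟨tt * zz, huE⟩
      have hu2 := sq_u
      have hprod : ν ⟨tt * zz, huE⟩ = zz * ν ⟨tt, htE⟩ := by
        rw [show (⟨tt * zz, huE⟩ : E) = ⟨zz, hzE⟩ * ⟨tt, htE⟩ from Subtype.ext (b7 tt).symm, hνmul, hz']
      rcases hcl _ (hsq ⟨tt, htE⟩ b3) with e | e | ⟨e, -⟩ | ⟨-, e⟩
      · rw [e] at h; exact absurd (Rone _ h) b9
      · rw [e] at h; exact absurd (Rs _ _ h) nzt
      · rcases hcl _ (hsq ⟨tt * zz, huE⟩ hu2) with e' | e' | ⟨-, e'⟩ | ⟨e', -⟩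
        · rw [e'] at h'; exact absurd (Rone _ h') b10
        · rw [e'] at h'; exact absurd (Rs _ _ h') nzu
        · exact absurd (Rt _ _ _ e' (Rs _ _ h')) ntu
        · exact key u _ e _ e' hprod
      · exact absurd (Rt _ _ _ h (Rs _ _ e)) ntu
    exact hbt (congrArg Subtype.val (hνinj _ _ (hνb.trans htν.symm)))
  rcases p1 with h | h
  · -- `t` fuses with `b`
    have e1 : R (tt * zz) (bb 1) := q1.resolve_left (excl _ h)
    have e2 : R (tt * zz) (cc 1) := q3.resolve_left (excl _ h)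
    have e3 : R tt (cc 0) := p4.resolve_left fun h' => excl _ h' e1
    exact hend 0 h e3 (by simpa using e1) (by simpa using e2)
  · have e1 : R (tt * zz) (bb 0) := q1.resolve_right (excl _ h)
    have e2 : R (tt * zz) (cc 0) := q4.resolve_left (excl _ h)
    have e3 : R tt (cc 1) := p3.resolve_left fun h' => excl _ h' e1
    have f2 : ∀ i : ZMod 4, i + 2 = i - 2 := by decide
    refine hend 1 h e3 ?_ ?_
    · rw [one_one]; exact Rt _ _ _ e1 (hrb 0)
    · rw [one_one]; exact Rt _ _ _ e2 (hrc 0)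


/-- A finite group whose Sylow 2-subgroups are isomorphic to the direct product of a group of order 2 and a dihedral group of order 8 has a subgroup of index two. -/
theorem result {G : Type*} [Group G] [Finite G] (S : Sylow 2 G) (hS : Nonempty (↥(S : Subgroup G) ≃* Multiplicative (ZMod 2) × DihedralGroup 4)) : ∃ H : Subgroup G, H.index = 2 := by
  skip
  classical
  obtain ⟨e⟩ := hS
  let ι : P16 →* G := ((S : Subgroup G).subtype).comp e.symm.toMonoidHom
  refine main S ι ((S : Subgroup G).subtype_injective.comp e.symm.injective) ?_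
  rw [show ι = ((S : Subgroup G).subtype).comp e.symm.toMonoidHom from rfl, MonoidHom.range_comp,
    MonoidHom.range_eq_top.2 e.symm.surjective, ← MonoidHom.range_eq_map, range_subtype]

end Cfsg.Agent.S2911
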