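import Cfsg.Statements.S2912
import Cfsg.Prelude
-- import your own Cfsg.Agent.* helpers here

set_option autoImplicit false
open Cfsg

namespace Cfsg.Agent.S2912
open Subgroup
open scoped commutatorElement

theorem indep {F M ι κ : Type*} [Field F] [AddCommGroup M] [Module F M] (T : ι → M) (L : κ → (M →ₗ[F] M))
    (μ : κ → ι → F) (hT : ∀ i, T i ≠ 0) (hL : ∀ k i, L k (T i) = μ k i • T i)
    (hsep : ∀ i j, i ≠ j → ∃ k, μ k i ≠ μ k j) : LinearIndependent F T := by
  classical
  rw [linearIndependent_iff']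
  intro s
  induction s using Finset.induction with
  | empty => simp
  | @insert a s ha ih =>
    intro c hc i hi
    have key : ∀ j ∈ s, c j = 0 := by
      intro j hj
      obtain ⟨k, hk⟩ := hsep j a (fun e => ha (e ▸ hj))
      have h1 := congrArg (L k) hc
      rw [map_sum, map_zero] at h1
      simp only [map_smul, hL, smul_smul] at h1
      have h2 : ∑ x ∈ insert a s, (c x * (μ k x - μ k a)) • T x = 0 := by
        have h3 : ∑ x ∈ insert a s, (μ k a * c x) • T x = 0 := by
          simp_rw [← smul_smul, ← Finset.smul_sum, hc, smul_zero]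
        rw [Finset.sum_congr rfl (fun x _ => show (c x * (μ k x - μ k a)) • T x
          = (c x * μ k x) • T x - (μ k a * c x) • T x by rw [← sub_smul]; congr 1; ring),
          Finset.sum_sub_distrib, h1, h3, sub_zero]
      rw [Finset.sum_insert ha, sub_self, mul_zero, zero_smul, zero_add] at h2
      exact (mul_eq_zero.1 (ih _ h2 j hj)).resolve_right (sub_ne_zero.2 hk)
    rcases Finset.mem_insert.1 hi with e | e
    · subst e
      rw [Finset.sum_insert ha, Finset.sum_eq_zero (fun x hx => by rw [key x hx, zero_smul]), add_zero] at hc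
      exact (smul_eq_zero.1 hc).resolve_right (hT _)
    · exact key i e

theorem field_bound {p r n w : ℕ} [hp : Fact p.Prime] [hr : Fact r.Prime] {X : Type*} [Group X] [Finite X]
    {W : Type*} [AddCommGroup W] [Finite W] [Nontrivial W] (hexp : ∀ x : W, r • x = 0)
    (ρ : X →* AddMonoid.End W) (z : X) (hz : z ∈ center X) (hzp : z ^ p = 1) (hρz : ρ z ≠ 1)
    (hcomm : ∀ a b : X, ⁅a, b⁆ ∈ zpowers z) (hX : p ^ (2 * w) * Nat.card (center X) ≤ Nat.card X)
    (hirr : ∀ U : AddSubgroup W, (∀ e : X, ∀ x ∈ U, ρ e x ∈ U) → U = ⊥ ∨ U = ⊤)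
    (hmin : ∀ k : ℕ, 1 ≤ k → p ∣ r ^ k - 1 → n ≤ k) : r ^ (n * p ^ w) ≤ Nat.card W := by
  classical
  let F : Subring (AddMonoid.End W) := Subring.closure {ρ z}
  have hFc : ∀ f ∈ F, ∀ e : X, ρ e * f = f * ρ e := by
    intro f hf e
    have hle : F ≤ Subring.centralizer ({ρ e} : Set (AddMonoid.End W)) := by
      refine Subring.closure_le.2 ?_
      rintro _ rfl
      refine Subring.mem_centralizer_iff.2 ?_
      rintro _ rfl
      rw [← map_mul, ← map_mul, mem_center_iff.1 hz e]
    exact Subring.mem_centralizer_iff.1 (hle hf) _ rfl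
  haveI : Finite (AddMonoid.End W) := Finite.of_injective (fun f : AddMonoid.End W => (⇑f : W → W)) DFunLike.coe_injective
  letI : CommRing F :=
    { (inferInstance : Ring F) with
      mul_comm := fun a b => Subtype.ext (by
        have hle : F ≤ Subring.centralizer ({(b : AddMonoid.End W)} : Set (AddMonoid.End W)) := by
          refine Subring.closure_le.2 ?_
          rintro _ rfl
          refine Subring.mem_centralizer_iff.2 ?_
          rintro _ rfl
          exact (hFc _ b.2 z).symm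
        exact (Subring.mem_centralizer_iff.1 (hle a.2) _ rfl).symm) }
  haveI : Nontrivial F := ⟨⟨0, 1, fun h => by
    obtain ⟨x, hx⟩ := exists_ne (0 : W)
    exact hx (congrArg (fun f : AddMonoid.End W => f x) (congrArg Subtype.val h)).symm⟩⟩
  haveI : NoZeroDivisors F := ⟨fun {a b} h => by
    by_contra hc
    push Not at hc
    obtain ⟨ha, hb⟩ := hc
    have hker : ∀ f : F, f ≠ 0 → ∀ x, (f : AddMonoid.End W) x = 0 → x = 0 := by
      intro f hf x hx
      let U : AddSubgroup W :=
        { carrier := {x | (f : AddMonoid.End W) x = 0}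
          zero_mem' := map_zero (f : AddMonoid.End W)
          add_mem' := fun {a b} (ha : (f : AddMonoid.End W) a = 0) (hb : (f : AddMonoid.End W) b = 0) => by
            show (f : AddMonoid.End W) (a + b) = 0
            rw [map_add, ha, hb, add_zero]
          neg_mem' := fun {a} (ha : (f : AddMonoid.End W) a = 0) => by
            show (f : AddMonoid.End W) (-a) = 0
            rw [map_neg, ha, neg_zero] }
      rcases hirr U (fun e y hy => by
          show (f : AddMonoid.End W) (ρ e y) = 0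
          have h1 := congrArg (fun g : AddMonoid.End W => g y) (hFc _ f.2 e)
          change ρ e ((f : AddMonoid.End W) y) = (f : AddMonoid.End W) (ρ e y) at h1
          rw [← h1, show (f : AddMonoid.End W) y = 0 from hy, map_zero]) with hU | hU
      · exact (AddSubgroup.eq_bot_iff_forall U).1 hU x hx
      · exact absurd (Subtype.ext (DFunLike.ext _ _ fun y =>
          show (f : AddMonoid.End W) y = 0 from (hU ▸ AddSubgroup.mem_top y : y ∈ U))) hf
    apply hb
    refine Subtype.ext (DFunLike.ext _ _ fun x => hker a ha _ ?_)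
    exact congrArg (fun g : AddMonoid.End W => g x) (congrArg Subtype.val h)⟩
  haveI : IsDomain F := NoZeroDivisors.to_isDomain F
  haveI : Fintype F := Fintype.ofFinite F
  letI : Field F := Fintype.fieldOfDomain F
  haveI : CharP F r := by
    refine (CharP.charP_iff_prime_eq_zero hr.out).2 (Subtype.ext (DFunLike.ext _ _ fun x => ?_))
    show ((((r : ℕ) : F) : AddMonoid.End W)) x = 0
    rw [Subring.coe_natCast, AddMonoid.End.natCast_apply, hexp]
  obtain ⟨k, -, hk⟩ := FiniteField.card F r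
  let ζ : F := ⟨ρ z, Subring.subset_closure rfl⟩
  have hζp : ζ ^ p = 1 := Subtype.ext (by
    show (ρ z) ^ p = 1
    rw [← map_pow, hzp, map_one])
  have hζ1 : ζ ≠ 1 := fun h => hρz (congrArg Subtype.val h)
  have hnk : n ≤ k := by
    refine hmin k k.pos ?_
    have ho : orderOf ζ = p := orderOf_eq_prime hζp hζ1
    have h0 : ζ ≠ 0 := fun h => by simp [h, hp.out.ne_zero] at hζp
    rw [← ho, ← hk]
    exact orderOf_dvd_of_pow_eq_one (FiniteField.pow_card_sub_one_eq_one ζ h0)
  let Z := center X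
  let L : X → (W →ₗ[F] W) := fun e =>
    { toFun := fun x => ρ e x
      map_add' := map_add (ρ e)
      map_smul' := fun f x => congrArg (fun g : AddMonoid.End W => g x) (hFc _ f.2 e) }
  have hLmul : ∀ a b, L (a * b) = L a * L b := fun a b => LinearMap.ext fun x => by
    show ρ (a * b) x = ρ a (ρ b x)
    rw [map_mul]; rfl
  have hzpow : ∀ v ∈ zpowers z, ∃ i < p, v = z ^ i := by
    intro v hv
    obtain ⟨i, rfl⟩ := (isOfFinOrder_of_finite z).mem_powers_iff_mem_zpowers.2 hv
    exact ⟨i % p, Nat.mod_lt _ hp.out.pos, pow_eq_pow_mod i hzp⟩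
  have hzL : ∀ i : ℕ, L (z ^ i) = (ζ ^ i) • (1 : W →ₗ[F] W) := fun i => LinearMap.ext fun x => by
    show ρ (z ^ i) x = ((ζ ^ i : F) : AddMonoid.End W) x
    rw [map_pow]
    rfl
  have hex : ∀ e u : X, ∃ i < p, ⁅e, u⁆ = z ^ i := fun e u => hzpow _ (hcomm e u)
  choose ι hιlt hι using hex
  let T : X ⧸ Z → (W →ₗ[F] W) := fun q => L q.out
  let conjL : X → ((W →ₗ[F] W) →ₗ[F] (W →ₗ[F] W)) := fun e =>
    { toFun := fun f => L e * f * L e⁻¹
      map_add' := fun a b => by rw [mul_add, add_mul]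
      map_smul' := fun c a => by simp [mul_smul_comm, smul_mul_assoc] }
  have hli : LinearIndependent F T := by
    refine indep T conjL (fun e q => ζ ^ ι e q.out) ?_ ?_ ?_
    · intro q h
      have h1 : L q.out * L q.out⁻¹ = 1 := by
        rw [← hLmul, mul_inv_cancel]
        exact LinearMap.ext fun x => by show ρ 1 x = x; rw [map_one]; rfl
      rw [show L q.out = 0 from h, zero_mul] at h1
      obtain ⟨x, hx⟩ := exists_ne (0 : W)
      exact hx (LinearMap.congr_fun h1 x).symm
    · intro e q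
      show L e * L q.out * L e⁻¹ = ζ ^ ι e q.out • L q.out
      rw [← hLmul, ← hLmul, show e * q.out * e⁻¹ = ⁅e, q.out⁆ * q.out by
        rw [commutatorElement_def]; group, hι, hLmul, hzL, smul_mul_assoc, one_mul]
    · intro q t hne
      have hnc : t.out⁻¹ * q.out ∉ Z := fun h => hne (by
        rw [← QuotientGroup.out_eq' q, ← QuotientGroup.out_eq' t]
        exact (QuotientGroup.eq.2 h).symm)
      obtain ⟨e, he⟩ : ∃ e, e * (t.out⁻¹ * q.out) ≠ (t.out⁻¹ * q.out) * e := by
        by_contra h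
        push Not at h
        exact hnc (mem_center_iff.2 h)
      refine ⟨e⁻¹, fun hpw => he ?_⟩
      have hinj : ι e⁻¹ q.out = ι e⁻¹ t.out := by
        have := pow_injOn_Iio_orderOf (x := ζ)
        rw [orderOf_eq_prime hζp hζ1] at this
        exact this (hιlt _ _) (hιlt _ _) hpw
      have h1 : ⁅e⁻¹, q.out⁆ = ⁅e⁻¹, t.out⁆ := by rw [hι, hι, hinj]
      simp only [commutatorElement_def, inv_inv] at h1
      generalize q.out = u, t.out = v at h1 ⊢
      have h2 : u * e * u⁻¹ = v * e * v⁻¹ := by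
        calc u * e * u⁻¹ = e * (e⁻¹ * u * e * u⁻¹) := by group
          _ = e * (e⁻¹ * v * e * v⁻¹) := by rw [h1]
          _ = v * e * v⁻¹ := by group
      calc e * (v⁻¹ * u) = v⁻¹ * (v * e * v⁻¹) * u := by group
        _ = v⁻¹ * (u * e * u⁻¹) * u := by rw [h2]
        _ = v⁻¹ * u * e := by group
  haveI : Module.Finite F W := Module.Finite.of_finite
  haveI : Fintype (X ⧸ Z) := Fintype.ofFinite _
  have hd := hli.fintype_card_le_finrank
  rw [Module.finrank_linearMap] at hd
  have hq : p ^ (2 * w) ≤ Fintype.card (X ⧸ Z) := by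
    rw [← Nat.card_eq_fintype_card]
    have := Subgroup.card_eq_card_quotient_mul_card_subgroup Z
    rw [this] at hX
    exact Nat.le_of_mul_le_mul_right hX Nat.card_pos
  have hdw : p ^ w ≤ Module.finrank F W := by
    by_contra hlt
    push Not at hlt
    have h2 : p ^ (2 * w) = p ^ w * p ^ w := by rw [two_mul, pow_add]
    nlinarith
  rw [Module.natCard_eq_pow_finrank (K := F), Nat.card_eq_fintype_card, hk, ← pow_mul]
  exact Nat.pow_le_pow_right hr.out.pos (Nat.mul_le_mul hnk hdw)


/-- Let p and r be distinct primes, let E be an extraspecial subgroup of order p^(2w+1) of a finite group, and let A be an elementary abelian r-subgroup normalized by E on which E acts faithfully (C_E(A) = 1). If n ≥ 1 is least with p dividing rⁿ − 1 (the smallest dimension of a faithful representation of a group of order p over the field with r elements), then the order of A is at least r^(n·p^w). -/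
theorem result {G : Type*} [Group G] [Finite G] {p r : ℕ} [Fact p.Prime] [hr : Fact r.Prime] (hpr : p ≠ r) (E A : Subgroup G) (w : ℕ) (hE : Cfsg.IsExtraspecial p ↥E) (hEcard : Nat.card ↥E = p ^ (2 * w + 1)) (hA : Cfsg.IsElementaryAbelian r A) (hnorm : E ≤ Subgroup.normalizer (A : Set G)) (hfaith : E ⊓ Subgroup.centralizer (A : Set G) = ⊥) (n : ℕ) (hn : 1 ≤ n) (hdiv : p ∣ r ^ n - 1) (hmin : ∀ k : ℕ, 1 ≤ k → p ∣ r ^ k - 1 → n ≤ k) : r ^ (n * p ^ w) ≤ Nat.card ↥A := by
  skip
  classical
  obtain ⟨⟨hEp, hfr, hder⟩, hZ⟩ := hE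
  obtain ⟨hAc, hAr⟩ := hA
  haveI := hAc
  have hAcomm : ∀ a ∈ A, ∀ b ∈ A, a * b = b * a := fun a ha b hb =>
    congrArg Subtype.val (mul_comm' (⟨a, ha⟩ : A) ⟨b, hb⟩)
  haveI : Nontrivial (center ↥E) := by
    rw [← Finite.one_lt_card_iff_nontrivial, hZ]
    exact (Fact.out : p.Prime).one_lt
  obtain ⟨z, hz1⟩ := exists_ne (1 : center ↥E)
  have hzc : (z : E) ∈ center E := z.2
  have hzp : (z : E) ^ p = 1 := by
    have := pow_card_eq_one' (x := z)
    rw [hZ] at this
    simpa using congrArg Subtype.val this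
  have hzne : (z : E) ≠ 1 := fun h => hz1 (Subtype.ext h)
  have hzgen : zpowers (z : E) = center E := by
    refine eq_of_le_of_card_ge (zpowers_le.2 hzc) ?_
    rw [hZ, Nat.card_zpowers, orderOf_eq_prime hzp hzne]
  set zz : G := ((z : E) : G) with hzz
  have hconjA : ∀ e ∈ E, ∀ a ∈ A, e * a * e⁻¹ ∈ A := fun e he a ha =>
    (mem_normalizer_iff.1 (hnorm he) a).1 ha
  -- A₁ = [z, A]
  let A₁ : Subgroup G :=
    { carrier := {x | ∃ a ∈ A, x = zz * a * zz⁻¹ * a⁻¹}
      one_mem' := ⟨1, one_mem A, by group⟩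
      mul_mem' := by
        rintro _ _ ⟨a, ha, rfl⟩ ⟨b, hb, rfl⟩
        refine ⟨a * b, mul_mem ha hb, ?_⟩
        have h1 := hAcomm a⁻¹ (inv_mem ha) (zz * b * zz⁻¹ * b⁻¹)
          (mul_mem (hconjA zz (z : E).2 b hb) (inv_mem hb))
        calc zz * a * zz⁻¹ * a⁻¹ * (zz * b * zz⁻¹ * b⁻¹)
            = zz * a * zz⁻¹ * ((zz * b * zz⁻¹ * b⁻¹) * a⁻¹) := by rw [← h1]; group
          _ = _ := by group
      inv_mem' := by
        rintro _ ⟨a, ha, rfl⟩
        refine ⟨a⁻¹, inv_mem ha, ?_⟩
        have h1 := hAcomm (zz * a⁻¹ * zz⁻¹) (hconjA zz (z : E).2 _ (inv_mem ha)) a ha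
        rw [inv_inv, h1]
        group }
  have hA₁A : A₁ ≤ A := by
    rintro _ ⟨a, ha, rfl⟩
    exact mul_mem (hconjA zz (z : E).2 a ha) (inv_mem ha)
  have hzcomm : ∀ e : E, (e : G) * zz = zz * e := fun e => congrArg Subtype.val (mem_center_iff.1 hzc e)
  have hA₁inv : ∀ e : E, ∀ x ∈ A₁, (e : G) * x * (e : G)⁻¹ ∈ A₁ := by
    rintro e _ ⟨a, ha, rfl⟩
    refine ⟨(e : G) * a * (e : G)⁻¹, hconjA e e.2 a ha, ?_⟩
    have h1 := hzcomm e
    have h2 : zz⁻¹ * (e : G) = (e : G) * zz⁻¹ := by
      rw [inv_mul_eq_iff_eq_mul, ← mul_assoc, ← h1, mul_inv_cancel_right]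
    calc (e : G) * (zz * a * zz⁻¹ * a⁻¹) * (e : G)⁻¹ = ((e : G) * zz) * a * zz⁻¹ * a⁻¹ * (e : G)⁻¹ := by group
      _ = zz * (e : G) * a * ((e : G)⁻¹ * ((e : G) * zz⁻¹)) * a⁻¹ * (e : G)⁻¹ := by rw [h1]; group
      _ = zz * (e : G) * a * ((e : G)⁻¹ * (zz⁻¹ * (e : G))) * a⁻¹ * (e : G)⁻¹ := by rw [h2]
      _ = _ := by group
  have hzzp : zz ^ p = 1 := by rw [hzz, ← Subgroup.coe_pow, hzp]; rfl
  have hfix : ∀ x ∈ A₁, zz * x * zz⁻¹ = x → x = 1 := by
    rintro _ ⟨a, ha, rfl⟩ hx
    set y := zz * a * zz⁻¹ * a⁻¹ with hy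
    have hpow : ∀ i : ℕ, zz ^ i * a * (zz ^ i)⁻¹ = y ^ i * a := by
      intro i
      induction i with
      | zero => group
      | succ i ih =>
        have hyy : zz * y ^ i * zz⁻¹ = y ^ i := by rw [← conj_pow, hx]
        calc zz ^ (i + 1) * a * (zz ^ (i + 1))⁻¹ = zz * (zz ^ i * a * (zz ^ i)⁻¹) * zz⁻¹ := by
              rw [pow_succ']; group
          _ = (zz * y ^ i * zz⁻¹) * (zz * a * zz⁻¹) := by rw [ih]; group
          _ = y ^ (i + 1) * a := by rw [hyy, pow_succ, hy]; group
    have h1 : y ^ p = 1 := by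
      have := hpow p
      rwa [hzzp, one_mul, inv_one, mul_one, eq_comm, mul_eq_right] at this
    have hyA : y ∈ A := mul_mem (hconjA zz (z : E).2 a ha) (inv_mem ha)
    refine orderOf_eq_one_iff.1 (Nat.eq_one_of_dvd_coprimes ((Nat.coprime_primes Fact.out Fact.out).2 hpr)
      (orderOf_dvd_of_pow_eq_one h1) (orderOf_dvd_of_pow_eq_one (hAr y hyA)))
  have hA₁ne : A₁ ≠ ⊥ := by
    intro h
    have : zz ∈ E ⊓ centralizer (A : Set G) := mem_inf.2 ⟨(z : E).2, mem_centralizer_iff.2 fun a ha => by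
      have h1 : zz * a * zz⁻¹ * a⁻¹ = 1 := mem_bot.1 (h ▸ (⟨a, ha, rfl⟩ : zz * a * zz⁻¹ * a⁻¹ ∈ A₁))
      rw [mul_inv_eq_one, mul_inv_eq_iff_eq_mul] at h1
      exact h1.symm⟩
    rw [hfaith, mem_bot] at this
    exact hzne (Subtype.ext this)
  obtain ⟨W, hW⟩ := (Set.toFinite {W : Subgroup G | W ≤ A₁ ∧ W ≠ ⊥ ∧ ∀ e : E, ∀ x ∈ W,
      (e : G) * x * (e : G)⁻¹ ∈ W}).exists_minimal ⟨A₁, le_rfl, hA₁ne, hA₁inv⟩
  obtain ⟨hWle, hWne, hWinv⟩ := hW.1
  haveI : IsMulCommutative W := ⟨⟨fun a b => Subtype.ext (hAcomm _ (hA₁A (hWle a.2)) _ (hA₁A (hWle b.2)))⟩⟩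
  letI : CommGroup W := { (inferInstance : Group W) with mul_comm := mul_comm' }
  let act : E → (W →* W) := fun e =>
    { toFun := fun x => ⟨(e : G) * x * (e : G)⁻¹, hWinv e x x.2⟩
      map_one' := Subtype.ext (by simp)
      map_mul' := fun a b => Subtype.ext (by
        show (e : G) * ((a : G) * b) * (e : G)⁻¹ = _ * _
        group) }
  let ρ : E →* AddMonoid.End (Additive W) :=
    { toFun := fun e => (MonoidHom.toAdditive (act e) : AddMonoid.End (Additive W))
      map_one' := AddMonoidHom.ext fun x => congrArg Additive.ofMul (Subtype.ext (by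
        show ((1 : E) : G) * _ * _ = _
        simp
        rfl))
      map_mul' := fun a b => AddMonoidHom.ext fun x => congrArg Additive.ofMul (Subtype.ext (by
        show ((a * b : E) : G) * _ * ((a * b : E) : G)⁻¹ = (a : G) * ((b : G) * _ * (b : G)⁻¹) * (a : G)⁻¹
        rw [Subgroup.coe_mul]; group)) }
  haveI : Nontrivial W := (Subgroup.nontrivial_iff_ne_bot W).2 hWne
  haveI : Nontrivial (Additive W) := ‹Nontrivial W›
  have key := field_bound (p := p) (r := r) (n := n) (w := w) (W := Additive W) (fun x => by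
      show Additive.ofMul ((Additive.toMul x) ^ r) = 0
      rw [show (Additive.toMul x) ^ r = 1 from Subtype.ext (hAr _ (hA₁A (hWle (Additive.toMul x).2)))]
      rfl) ρ z hzc hzp ?_ ?_ ?_ ?_ (fun k h1 h2 => hmin k h1 h2)
  · refine le_trans ?_ (Subgroup.card_le_of_le (hWle.trans hA₁A))
    exact key
  · intro h
    obtain ⟨x, hx⟩ := exists_ne (1 : W)
    have h1 := congrArg (fun f : AddMonoid.End (Additive W) => Additive.toMul (f (Additive.ofMul x))) h
    exact hx (Subtype.ext (hfix x (hWle x.2) (congrArg Subtype.val h1)))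
  · intro a b
    rw [hzgen, ← hder]
    exact commutator_mem_commutator (mem_top a) (mem_top b)
  · rw [hZ, hEcard, pow_succ]
  · intro U hU
    let U' : Subgroup G := (AddSubgroup.toSubgroup' U).map W.subtype
    have hU'le : U' ≤ W := map_subtype_le _
    by_cases hb : U' = ⊥
    · left
      rw [AddSubgroup.eq_bot_iff_forall]
      intro x hx
      have : ((Additive.toMul x : W) : G) ∈ U' := ⟨Additive.toMul x, hx, rfl⟩
      rw [hb, mem_bot] at this
      exact congrArg Additive.ofMul (Subtype.ext this : Additive.toMul x = 1)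
    · right
      have h2 : W ≤ U' := hW.2 ⟨hU'le.trans hWle, hb, fun e x hx => by
        obtain ⟨y, hy, rfl⟩ := hx
        exact ⟨act e y, hU e (Additive.ofMul y) hy, rfl⟩⟩ hU'le
      rw [eq_top_iff]
      intro x _
      obtain ⟨y, hy, e⟩ := h2 (Additive.toMul x).2
      rw [show x = Additive.ofMul y from congrArg Additive.ofMul (Subtype.ext e.symm)]
      exact hy

end Cfsg.Agent.S2912
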