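import Cfsg.Statements.S2922
import Cfsg.Agent.Lib.Local.CharPEquiv
-- import your own Cfsg.Agent.* helpers here

set_option autoImplicit false
open Cfsg

namespace Cfsg.Agent.S2922

/-- Let p be a prime, X a finite group, B a p-subgroup of X and C a normal subgroup of B. If N_X(C) has characteristic p (its generalized Fitting subgroup is O_p(N_X(C))), then N_X(B) and C_X(B) have characteristic p. -/
theorem result {X : Type*} [Group X] [Finite X] {p : ℕ} [Fact p.Prime] (B C : Subgroup X) (hB : IsPGroup p ↥B) (hCB : C ≤ B) (hCn : (C.subgroupOf B).Normal) (hC : Cfsg.generalizedFittingSubgroup ↥(Subgroup.normalizer (C : Set X)) = Cfsg.pCore p ↥(Subgroup.normalizer (C : Set X))) : Cfsg.generalizedFittingSubgroup ↥(Subgroup.normalizer (B : Set X)) = Cfsg.pCore p ↥(Subgroup.normalizer (B : Set X)) ∧ Cfsg.generalizedFittingSubgroup ↥(Subgroup.centralizer (B : Set X)) = Cfsg.pCore p ↥(Subgroup.centralizer (B : Set X)) := by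
  have hBN : B ≤ Subgroup.normalizer (C : Set X) :=
    (Subgroup.normal_subgroupOf_iff_le_normalizer hCB).1 hCn
  have hB' : IsPGroup p (B.subgroupOf (Subgroup.normalizer (C : Set X))) :=
    hB.comap_of_injective _ (Subgroup.normalizer (C : Set X)).subtype_injective
  have h1 := Cfsg.Agent.Local.CharPB.fstar_eq_pCore_iff.1
    (Cfsg.Agent.Local.fstar_normalizer_eq_pCore hC hB')
  set H := Subgroup.normalizer (B : Set X) ⊓ Subgroup.normalizer (C : Set X) with hH
  have hmap : (Subgroup.normalizer ((B.subgroupOf (Subgroup.normalizer (C : Set X))) :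
      Set (Subgroup.normalizer (C : Set X)))).map
      (Subgroup.normalizer (C : Set X)).subtype = H := by
    rw [← Subgroup.subgroupOf_normalizer_eq hBN, Subgroup.subgroupOf_map_subtype]
  have hHc : Subgroup.centralizer (Cfsg.pCore p H : Set H) ≤ Cfsg.pCore p H :=
    Cfsg.Agent.Local.CharPB.centralizer_pCore_le_of_mulEquiv
      ((Subgroup.equivMapOfInjective _ _ (Subgroup.normalizer (C : Set X)).subtype_injective).trans
        (MulEquiv.subgroupCongr hmap)) h1
  have hCBle : Subgroup.centralizer (B : Set X) ≤ H :=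
    le_inf (Subgroup.centralizer_le_normalizer _)
      ((Subgroup.centralizer_le hCB).trans (Subgroup.centralizer_le_normalizer _))
  haveI : ((Subgroup.centralizer (B : Set X)).subgroupOf (Subgroup.normalizer (B : Set X))).Normal :=
    inferInstance
  haveI : ((Subgroup.centralizer (B : Set X)).subgroupOf H).Normal :=
    (Subgroup.normal_subgroupOf_iff_le_normalizer hCBle).2 (inf_le_left.trans
      ((Subgroup.normal_subgroupOf_iff_le_normalizer (Subgroup.centralizer_le_normalizer _)).1
        inferInstance))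
  have hCc : Subgroup.centralizer (Cfsg.pCore p ↥(Subgroup.centralizer (B : Set X)) : Set _) ≤
      Cfsg.pCore p ↥(Subgroup.centralizer (B : Set X)) :=
    Cfsg.Agent.Local.CharPB.centralizer_pCore_le_of_mulEquiv (Subgroup.subgroupOfEquivOfLe hCBle)
      (Cfsg.Agent.Local.CharPB.centralizer_pCore_le_of_normal hHc _)
  refine ⟨?_, Cfsg.Agent.Local.CharPB.fstar_eq_pCore_iff.2 hCc⟩
  apply Cfsg.Agent.Local.CharPB.fstar_eq_pCore_iff.2
  set Y := Subgroup.normalizer (B : Set X) with hY
  set M := (Subgroup.centralizer (B : Set X)).subgroupOf Y with hM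
  have hMc : Subgroup.centralizer (Cfsg.pCore p M : Set M) ≤ Cfsg.pCore p M :=
    Cfsg.Agent.Local.CharPB.centralizer_pCore_le_of_mulEquiv
      (Subgroup.subgroupOfEquivOfLe (Subgroup.centralizer_le_normalizer _)).symm hCc
  haveI hCn' : (Subgroup.centralizer (Cfsg.pCore p Y : Set Y)).Normal := Subgroup.normal_centralizer
  refine Cfsg.Agent.Solv.le_pCore (Cfsg.Agent.Local.CharPB.isPGroup_of_forall_eq_one fun c hc hco => ?_)
  have hBY : B.subgroupOf Y ≤ Cfsg.pCore p Y := Cfsg.Agent.Solv.le_pCore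
    (hB.comap_of_injective _ Y.subtype_injective)
  have hcM : c ∈ M := by
    show (c : X) ∈ Subgroup.centralizer (B : Set X)
    exact Subgroup.mem_centralizer_iff.2 fun b hb => congrArg Subtype.val
      (Subgroup.mem_centralizer_iff.1 hc ⟨b, Subgroup.le_normalizer hb⟩
        (hBY (Subgroup.mem_subgroupOf.2 hb)))
  haveI := Cfsg.Agent.Solv.pCore_characteristic p M
  have hle : (Cfsg.pCore p M).map M.subtype ≤ Cfsg.pCore p Y :=
    Cfsg.Agent.Solv.le_pCore ((Cfsg.Agent.Solv.isPGroup_pCore p M).map _)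
  have h2 : (⟨c, hcM⟩ : M) ∈ Cfsg.pCore p M := hMc (Subgroup.mem_centralizer_iff.2 fun a ha =>
    Subtype.ext (Subgroup.mem_centralizer_iff.1 hc _ (hle (Subgroup.mem_map_of_mem _ ha))))
  have h3 : c ∈ Cfsg.pCore p Y := hle ⟨_, h2, rfl⟩
  obtain ⟨k, hk⟩ := IsPGroup.iff_card.1 (Cfsg.Agent.Solv.isPGroup_pCore p Y)
  exact orderOf_eq_one_iff.1 (Nat.eq_one_of_dvd_coprimes (hco.pow_right k) dvd_rfl
    (hk ▸ Subgroup.orderOf_dvd_natCard _ h3))

end Cfsg.Agent.S2922
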