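import Cfsg.Statements.S2923
import Cfsg.Agent.Lib.Local.CharPBasics
import Cfsg.Agent.Lib.Local.FusionReduction
-- import your own Cfsg.Agent.* helpers here

set_option autoImplicit false
open Cfsg

namespace Cfsg.Agent.S2923

/-- Let p be a prime and X a finite group of characteristic p, that is C_X(O_p(X)) ≤ O_p(X). Then every subnormal subgroup of X has characteristic p. -/
theorem result {X : Type*} [Group X] [Finite X] {p : ℕ} [Fact p.Prime] (hX : Subgroup.centralizer (Cfsg.pCore p X : Set X) ≤ Cfsg.pCore p X) (Y : Subgroup X) (hY : Y.IsSubnormal) : Subgroup.centralizer (Cfsg.pCore p ↥Y : Set ↥Y) ≤ Cfsg.pCore p ↥Y := by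
  induction hY with
  | top => exact Local.FusionRed.centralizer_pCore_le_of_equiv Subgroup.topEquiv.symm hX
  | step A B hle hB hN ih =>
    haveI := hN
    exact Local.FusionRed.centralizer_pCore_le_of_equiv (Subgroup.subgroupOfEquivOfLe hle)
      (Local.CharPB.centralizer_pCore_le_of_normal ih (A.subgroupOf B))

end Cfsg.Agent.S2923
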