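import Cfsg.Statements.S2924
import Cfsg.Agent.Lib.Local.FStar
import Cfsg.Agent.Lib.Solv.Coprime
-- import your own Cfsg.Agent.* helpers here

set_option autoImplicit false
open Cfsg

namespace Cfsg.Agent.S2924

open Subgroup Cfsg

variable {X : Type*} [Group X] [Finite X]

/-- `O(C(y))` inside the group -/
abbrev W (y : X) : Subgroup X :=
  (Cfsg.oddCore ↥(centralizer ({y} : Set X))).map (centralizer ({y} : Set X)).subtype

theorem W_le (y : X) : W y ≤ centralizer ({y} : Set X) := map_subtype_le _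

theorem W_card (y : X) : Odd (Nat.card (W y)) := by
  rw [card_map_of_injective Subtype.val_injective, Nat.odd_iff]
  exact Nat.two_dvd_ne_zero.1 fun h => (Nat.prime_two.one_lt.ne' (Nat.eq_one_of_dvd_coprimes
    (Cfsg.Agent.Solv.card_pPrimeCore_coprime 2 _) h dvd_rfl))

theorem W_conj_mem {y g w : X} (hg : g ∈ centralizer ({y} : Set X)) (hw : w ∈ W y) : g * w * g⁻¹ ∈ W y := by
  obtain ⟨v, hv, rfl⟩ := hw
  haveI : (Cfsg.oddCore ↥(centralizer ({y} : Set X))).Normal := by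
    haveI := Cfsg.Agent.Solv.pPrimeCore_characteristic 2 ↥(centralizer ({y} : Set X))
    infer_instance
  exact ⟨⟨g, hg⟩ * v * ⟨g, hg⟩⁻¹, Subgroup.Normal.conj_mem inferInstance v hv _, rfl⟩

theorem odd_orderOf {H : Subgroup X} (hH : Odd (Nat.card H)) {x : X} (hx : x ∈ H) : Odd (orderOf x) :=
  hH.of_dvd_nat (Subgroup.orderOf_dvd_natCard _ hx)

theorem eq_one_of_two {x : X} (h : Odd (orderOf x)) (h2 : ∃ k, orderOf x ∣ 2 ^ k) : x = 1 := by
  obtain ⟨k, hk⟩ := h2
  rw [← orderOf_eq_one_iff]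
  exact Nat.eq_one_of_dvd_coprimes ((Nat.coprime_two_right.2 h).pow_right k) dvd_rfl hk

theorem two_cases {Y : Subgroup X} (hY : Cfsg.IsElementaryAbelian 2 Y) {y : X} (hy : y ∈ Y) : y * y = 1 := by
  rw [← pow_two]; exact hY.2 y hy

theorem comm_Y {Y : Subgroup X} (hY : Cfsg.IsElementaryAbelian 2 Y) {a b : X} (ha : a ∈ Y) (hb : b ∈ Y) :
    a * b = b * a :=
  congrArg Subtype.val (hY.1.is_comm.comm (⟨a, ha⟩ : Y) ⟨b, hb⟩)

/-- the `O₂` part: a centralising argument -/
theorem centralizes_core {Y : Subgroup X} (hY : Cfsg.IsElementaryAbelian 2 Y) {a b u : X} (ha : a ∈ Y) (hb : b ∈ Y)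
    (hu : u ∈ W a ⊓ centralizer ({b} : Set X)) :
    ∀ q ∈ (Cfsg.pCore 2 ↥(centralizer ({b} : Set X))).map (centralizer ({b} : Set X)).subtype, u * q = q * u := by
  set H := centralizer ({b} : Set X) with hH
  set Q := (Cfsg.pCore 2 ↥H).map H.subtype with hQ
  haveI : (Cfsg.pCore 2 ↥H).Normal := by
    haveI := Cfsg.Agent.Solv.pCore_characteristic 2 ↥H
    infer_instance
  have hQp : IsPGroup 2 Q := (Cfsg.Agent.Solv.isPGroup_pCore 2 _).map _
  have hHQ : H ≤ normalizer (Q : Set X) := by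
    refine Cfsg.Agent.Solv.le_normalizer_of_conj_mem fun g hg x hx => ?_
    obtain ⟨v, hv, rfl⟩ := hx
    exact ⟨⟨g, hg⟩ * v * ⟨g, hg⟩⁻¹, Subgroup.Normal.conj_mem inferInstance v hv _, rfl⟩
  have hUodd : Odd (Nat.card ↥(W a ⊓ H)) := (W_card a).of_dvd_nat (card_dvd_of_le inf_le_left)
  haveI : Fact (Nat.Prime 2) := ⟨Nat.prime_two⟩
  have haH : a ∈ H := mem_centralizer_singleton_iff.2 (comm_Y hY ha hb)
  have hP : IsPGroup 2 (zpowers a) := fun x => ⟨1, Subtype.ext (by
    obtain ⟨i, hi⟩ := mem_zpowers_iff.1 x.2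
    rw [pow_one, SubgroupClass.coe_pow, ← hi, ← zpow_natCast, ← zpow_mul, mul_comm, zpow_mul, zpow_natCast,
      pow_two, two_cases hY ha, one_zpow, OneMemClass.coe_one])⟩
  have h := Cfsg.Agent.Solv.thompson_pq 2 (zpowers a) (W a ⊓ H) Q hP (Nat.coprime_two_right.2 hUodd) hQp ?_
    ((zpowers_le.2 haH).trans hHQ) (inf_le_right.trans hHQ) ?_
  · exact fun q hq => ((mem_centralizer_iff.1 (h hu)) q hq).symm
  · rw [zpowers_le, mem_centralizer_iff]
    exact fun v hv => mem_centralizer_singleton_iff.1 (W_le a hv.1)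
  · intro q hq
    have hqa : q ∈ centralizer ({a} : Set X) :=
      mem_centralizer_singleton_iff.2 ((mem_centralizer_iff.1 hq.2) a (mem_zpowers a)).symm
    rw [mem_centralizer_iff]
    intro v hv
    have h1 : q * v * q⁻¹ * v⁻¹ ∈ W a := mul_mem (W_conj_mem hqa hv.1) (inv_mem hv.1)
    have h2 : q * v * q⁻¹ * v⁻¹ ∈ Q := by
      rw [show q * v * q⁻¹ * v⁻¹ = q * (v * q⁻¹ * v⁻¹) by group]
      exact mul_mem hq.1 ((mem_normalizer_iff.1 (hHQ hv.2) _).1 (inv_mem hq.1))
    obtain ⟨k, hk⟩ := IsPGroup.iff_orderOf.1 hQp ⟨_, h2⟩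
    have := eq_one_of_two (odd_orderOf (W_card a) h1) ⟨k, by rw [← hk, ← Subgroup.orderOf_coe]⟩
    exact ((mul_inv_eq_iff_eq_mul.1 (mul_inv_eq_one.1 this))).symm

theorem main (Y : Subgroup X) (hY : Cfsg.IsElementaryAbelian 2 Y) (h8 : 8 ≤ Nat.card ↥Y)
    (hE : ∀ x ∈ Y, x ≠ 1 → Cfsg.layer ↥(centralizer ({x} : Set X)) = ⊥) (z : X) (hzY : z ∈ Y)
    (hz : Cfsg.generalizedFittingSubgroup ↥(centralizer ({z} : Set X)) = Cfsg.pCore 2 ↥(centralizer ({z} : Set X))) :
    Odd (Nat.card ↥(⨆ y : {y : X // y ∈ Y ∧ y ≠ 1}, W (y : X))) ∧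
      normalizer (Y : Set X) ≤ normalizer ((⨆ y : {y : X // y ∈ Y ∧ y ≠ 1}, W (y : X) : Subgroup X) : Set X) := by
  classical
  haveI : Fact (Nat.Prime 2) := ⟨Nat.prime_two⟩
  have hzH : ∀ y ∈ Y, z ∈ centralizer ({y} : Set X) := fun y hy => mem_centralizer_singleton_iff.2 (comm_Y hY hzY hy)
  have hfree : ∀ a ∈ Y, ∀ u ∈ W a, z * u * z⁻¹ = u → u = 1 := by
    intro a ha u hu huz
    have huH : u ∈ centralizer ({z} : Set X) := mem_centralizer_singleton_iff.2 (mul_inv_eq_iff_eq_mul.1 huz).symm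
    have hc : (⟨u, huH⟩ : ↥(centralizer ({z} : Set X))) ∈
        centralizer (Cfsg.generalizedFittingSubgroup ↥(centralizer ({z} : Set X)) : Set ↥(centralizer ({z} : Set X))) := by
      rw [hz, mem_centralizer_iff]
      intro q hq
      exact Subtype.ext (centralizes_core hY ha hzY (mem_inf.2 ⟨hu, huH⟩) q ⟨q, hq, rfl⟩).symm
    have hQ := hz ▸ Cfsg.Agent.Local.centralizer_generalizedFitting_le hc
    obtain ⟨k, hk⟩ := IsPGroup.iff_orderOf.1 (Cfsg.Agent.Solv.isPGroup_pCore 2 _) ⟨_, hQ⟩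
    exact eq_one_of_two (odd_orderOf (W_card a) hu)
      ⟨k, by rw [← hk, ← Subgroup.orderOf_coe, Subgroup.orderOf_mk]⟩
  have hinv : ∀ a ∈ Y, ∀ x ∈ W a, z * x * z⁻¹ = x⁻¹ := by
    intro a ha x hx
    let f : W a → W a := fun w =>
      ⟨(w : X)⁻¹ * (z * w * z⁻¹), mul_mem (inv_mem w.2) (W_conj_mem (hzH a ha) w.2)⟩
    have hf : Function.Injective f := fun v w h => by
      have h' : (v : X)⁻¹ * (z * v * z⁻¹) = (w : X)⁻¹ * (z * w * z⁻¹) := congrArg Subtype.val h
      have h1 := hfree a ha ((w : X) * (v : X)⁻¹) (mul_mem w.2 (inv_mem v.2)) (by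
        calc z * ((w : X) * (v : X)⁻¹) * z⁻¹ = (z * w * z⁻¹) * (z * v * z⁻¹)⁻¹ := by group
          _ = (w : X) * ((w : X)⁻¹ * (z * w * z⁻¹)) * ((v : X) * ((v : X)⁻¹ * (z * v * z⁻¹)))⁻¹ := by group
          _ = _ := by rw [h']; group)
      exact Subtype.ext (mul_inv_eq_one.1 h1).symm
    obtain ⟨w, hw⟩ := Finite.surjective_of_injective hf ⟨x, hx⟩
    have hw' : (w : X)⁻¹ * (z * w * z⁻¹) = x := congrArg Subtype.val hw
    have hzz : z⁻¹ = z := inv_eq_of_mul_eq_one_right (two_cases hY hzY)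
    rw [← hw', hzz]
    calc z * ((w : X)⁻¹ * (z * w * z)) * z = z * (w : X)⁻¹ * z * w * (z * z) := by group
      _ = z * (w : X)⁻¹ * z * w := by rw [two_cases hY hzY, mul_one]
      _ = _ := by rw [mul_inv_rev, mul_inv_rev, mul_inv_rev, inv_inv, hzz]; group
  have hab : ∀ a ∈ Y, ∀ u ∈ W a, ∀ v ∈ W a, u * v = v * u := by
    intro a ha u hu v hv
    have h1 := hinv a ha _ (mul_mem hu hv)
    rw [← conj_mul, hinv a ha u hu, hinv a ha v hv, ← mul_inv_rev, inv_inj] at h1
    exact h1.symm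
  have hhalf : ∀ a ∈ Y, ∀ x ∈ W a, ∃ m : ℕ, (x * x) ^ m = x := fun a ha x hx => by
    obtain ⟨m, hm⟩ := exists_pow_eq_self_of_coprime (x := x) (n := 2)
      (Nat.coprime_two_left.2 (odd_orderOf (W_card a) hx))
    exact ⟨m, by rw [← pow_two]; exact hm⟩
  have hbal : ∀ a ∈ Y, ∀ b ∈ Y, b ≠ 1 → ∀ x ∈ W a, x * b = b * x → x ∈ W b := by
    intro a ha b hb hb1 x hx hxb
    set H := centralizer ({b} : Set X) with hH
    have hxH : x ∈ H := mem_centralizer_singleton_iff.2 hxb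
    haveI hFn : (fittingSubgroup ↥H).Normal := Cfsg.Agent.Solv.fittingSubgroup_normal _
    haveI hFnil : Group.IsNilpotent ↥(fittingSubgroup ↥H) := Cfsg.Agent.Solv.fittingSubgroup_isNilpotent _
    set F := fittingSubgroup ↥H with hF
    have hsyl : ∀ (r : ℕ), r.Prime → ∀ R : Subgroup ↥H, IsPGroup r R → R ≤ F →
        (r = 2 → R ≤ Cfsg.pCore 2 ↥H) ∧ (r ≠ 2 → R ≤ Cfsg.oddCore ↥H) := by
      intro r hr R hR hRF
      haveI := Fact.mk hr
      obtain ⟨S, hS⟩ := (hR.comap_subtype (K := F)).exists_le_sylow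
      haveI hSn : (S : Subgroup F).Normal :=
        ((Group.isNilpotent_of_finite_tfae (G := F)).out 0 3 rfl rfl).mp hFnil r inferInstance S
      haveI hSc : (S : Subgroup F).Characteristic := Sylow.characteristic_of_normal S hSn
      haveI : ((S : Subgroup F).map F.subtype).Normal := inferInstance
      have hRS : R ≤ (S : Subgroup F).map F.subtype := fun v hv => ⟨⟨v, hRF hv⟩, hS hv, rfl⟩
      refine ⟨fun h => ?_, fun h => ?_⟩
      · subst h
        exact hRS.trans (Cfsg.Agent.Solv.le_pCore (S.isPGroup'.map _))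
      · obtain ⟨k, hk⟩ := IsPGroup.iff_card.1 (S.isPGroup'.map F.subtype)
        refine hRS.trans (Cfsg.Agent.Solv.le_pPrimeCore ?_)
        rw [hk]
        exact ((Nat.coprime_primes hr Nat.prime_two).2 h).pow_left k
    have hcent : (⟨x, hxH⟩ : ↥H) ∈ centralizer (Cfsg.generalizedFittingSubgroup ↥H : Set ↥H) := by
      rw [show Cfsg.generalizedFittingSubgroup ↥H = F by
        rw [generalizedFittingSubgroup, hE b hb hb1, bot_sup_eq], mem_centralizer_iff]
      have hle : F ≤ centralizer ({(⟨x, hxH⟩ : ↥H)} : Set ↥H) := by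
        refine (Cfsg.Agent.Solv.sup_sylow_eq F).trans (sSup_le ?_)
        rintro R ⟨r, hr, hR, hRF⟩ v hv
        rw [mem_centralizer_singleton_iff]
        refine Subtype.ext ?_
        show (v : X) * x = x * v
        by_cases h2 : r = 2
        · exact (centralizes_core hY ha hb (mem_inf.2 ⟨hx, hxH⟩) v ⟨v, (hsyl r hr R hR hRF).1 h2 hv, rfl⟩).symm
        · have hvW : (v : X) ∈ W b := ⟨v, (hsyl r hr R hR hRF).2 h2 hv, rfl⟩
          have h1 := hinv b hb _ (W_conj_mem hxH hvW)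
          have h3 : x⁻¹ * (v : X)⁻¹ * x = x * (v : X)⁻¹ * x⁻¹ := by
            calc x⁻¹ * (v : X)⁻¹ * x = x⁻¹ * (v : X)⁻¹ * (x⁻¹)⁻¹ := by rw [inv_inv]
              _ = (z * x * z⁻¹) * (z * v * z⁻¹) * (z * x * z⁻¹)⁻¹ := by rw [hinv a ha x hx, hinv b hb _ hvW]
              _ = z * (x * v * x⁻¹) * z⁻¹ := by group
              _ = _ := by rw [h1]; group
          have h4 : Commute (x * x) (v : X)⁻¹ := by
            show x * x * (v : X)⁻¹ = (v : X)⁻¹ * (x * x)
            calc x * x * (v : X)⁻¹ = x * (x * (v : X)⁻¹ * x⁻¹) * x := by group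
              _ = x * (x⁻¹ * (v : X)⁻¹ * x) * x := by rw [h3]
              _ = _ := by group
          obtain ⟨m, hm⟩ := hhalf a ha x hx
          have h5 := h4.inv_right.pow_left m
          rw [hm, inv_inv] at h5
          exact h5.eq.symm
      exact fun v hv => mem_centralizer_singleton_iff.1 (hle hv)
    have hxF := Cfsg.Agent.Local.centralizer_generalizedFitting_le hcent
    rw [show Cfsg.generalizedFittingSubgroup ↥H = F by rw [generalizedFittingSubgroup, hE b hb hb1, bot_sup_eq]] at hxF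
    have hle : zpowers (⟨x, hxH⟩ : ↥H) ≤ Cfsg.oddCore ↥H := by
      refine (Cfsg.Agent.Solv.sup_sylow_eq _).trans (sSup_le ?_)
      rintro R ⟨r, hr, hR, hRle⟩
      by_cases h2 : r = 2
      · subst h2
        intro v hv
        obtain ⟨k, hk⟩ := IsPGroup.iff_orderOf.1 hR ⟨v, hv⟩
        have hodd : Odd (orderOf v) := by
          refine Odd.of_dvd_nat ?_ (Subgroup.orderOf_dvd_natCard _ (hRle hv))
          rw [Nat.card_zpowers, Subgroup.orderOf_mk]
          exact odd_orderOf (W_card a) hx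
        rw [← Subgroup.orderOf_coe] at hk
        have : v = 1 := by
          rw [← orderOf_eq_one_iff]
          exact Nat.eq_one_of_dvd_coprimes ((Nat.coprime_two_right.2 hodd).pow_right k) dvd_rfl (dvd_of_eq hk)
        rw [this]; exact one_mem _
      · exact (hsyl r hr R hR (hRle.trans (zpowers_le.2 hxF))).2 h2
    exact ⟨⟨x, hxH⟩, hle (mem_zpowers _), rfl⟩
  -- generators split by `Y`
  have hsplit : ∀ a ∈ Y, ∀ s : Finset X, (∀ y ∈ s, y ∈ Y) →
      W a ≤ closure {x | x ∈ W a ∧ ∀ y ∈ s, y * x * y⁻¹ = x ∨ y * x * y⁻¹ = x⁻¹} := by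
    intro a ha s
    induction s using Finset.induction_on with
    | empty => exact fun _ x hx => subset_closure ⟨hx, by simp⟩
    | @insert y s _ ih =>
      intro hs
      have hy : y ∈ Y := hs y (Finset.mem_insert_self y s)
      refine (ih fun w hw => hs w (Finset.mem_insert_of_mem hw)).trans ((closure_le _).2 ?_)
      rintro x ⟨hx, hxs⟩
      set x' := y * x * y⁻¹ with hx'
      have hx'W : x' ∈ W a := W_conj_mem (mem_centralizer_singleton_iff.2 (comm_Y hY hy ha)) hx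
      have hyy : y⁻¹ = y := inv_eq_of_mul_eq_one_right (two_cases hY hy)
      have hback : y * x' * y⁻¹ = x := by
        rw [hx', hyy]
        calc y * (y * x * y) * y = (y * y) * x * (y * y) := by group
          _ = x := by rw [two_cases hY hy, one_mul, mul_one]
      have hcm : Commute x x' := hab a ha x hx x' hx'W
      have hsgn : ∀ w ∈ s, (w * x * w⁻¹ = x ∧ w * x' * w⁻¹ = x') ∨ (w * x * w⁻¹ = x⁻¹ ∧ w * x' * w⁻¹ = x'⁻¹) := by
        intro w hw
        have hwy := comm_Y hY (hs w (Finset.mem_insert_of_mem hw)) hy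
        have e : w * x' * w⁻¹ = y * (w * x * w⁻¹) * y⁻¹ := by
          rw [hx', show w * (y * x * y⁻¹) * w⁻¹ = w * y * x * (w * y)⁻¹ by group, hwy]; group
        rcases hxs w hw with h | h
        · exact Or.inl ⟨h, by rw [e, h]⟩
        · exact Or.inr ⟨h, by rw [e, h, ← conj_inv]⟩
      have hp : x * x' ∈ closure {x | x ∈ W a ∧ ∀ w ∈ insert y s, w * x * w⁻¹ = x ∨ w * x * w⁻¹ = x⁻¹} := by
        refine subset_closure ⟨mul_mem hx hx'W, fun w hw => ?_⟩
        rcases Finset.mem_insert.1 hw with rfl | hw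
        · exact Or.inl (by rw [← conj_mul, hback, ← hx']; exact hcm.eq.symm)
        · rcases hsgn w hw with ⟨h1, h2⟩ | ⟨h1, h2⟩
          · exact Or.inl (by rw [← conj_mul, h1, h2])
          · exact Or.inr (by rw [← conj_mul, h1, h2, ← mul_inv_rev, hcm.eq])
      have hm' : x * x'⁻¹ ∈ closure {x | x ∈ W a ∧ ∀ w ∈ insert y s, w * x * w⁻¹ = x ∨ w * x * w⁻¹ = x⁻¹} := by
        refine subset_closure ⟨mul_mem hx (inv_mem hx'W), fun w hw => ?_⟩
        rcases Finset.mem_insert.1 hw with rfl | hw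
        · refine Or.inr ?_
          rw [← conj_mul, ← conj_inv, hback, ← hx', mul_inv_rev, inv_inv]
        · rcases hsgn w hw with ⟨h1, h2⟩ | ⟨h1, h2⟩
          · exact Or.inl (by rw [← conj_mul, ← conj_inv, h1, h2])
          · refine Or.inr ?_
            rw [← conj_mul, ← conj_inv, h1, h2, inv_inv, mul_inv_rev, inv_inv]
            exact (hcm.inv_left).eq
      obtain ⟨m, hm⟩ := hhalf a ha x hx
      have e2 : x * x' * (x * x'⁻¹) = x * x := by
        rw [mul_assoc, ← mul_assoc x', ← hcm.eq]; group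
      have h := pow_mem (mul_mem hp hm') m
      rw [e2, hm] at h
      exact h
  have hfin : (Y : Set X).Finite := Set.toFinite _
  have hcomm : ∀ a ∈ Y, ∀ b ∈ Y, W a ≤ centralizer (W b : Set X) := by
    intro a ha b hb
    refine (hsplit a ha hfin.toFinset fun y hy => hfin.mem_toFinset.1 hy).trans ((closure_le _).2 ?_)
    rintro u ⟨hu, hus⟩
    rw [SetLike.mem_coe, mem_centralizer_iff]
    suffices W b ≤ centralizer ({u} : Set X) from fun v hv => mem_centralizer_singleton_iff.1 (this hv)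
    refine (hsplit b hb hfin.toFinset fun y hy => hfin.mem_toFinset.1 hy).trans ((closure_le _).2 ?_)
    rintro v ⟨hv, hvs⟩
    rw [SetLike.mem_coe, mem_centralizer_singleton_iff]
    let g : Y → Bool × Bool := fun y => (decide ((y : X) * u * (y : X)⁻¹ = u), decide ((y : X) * v * (y : X)⁻¹ = v))
    have hni : ¬ Function.Injective g := fun h => by
      have := Nat.card_le_card_of_injective g h
      simp [Nat.card_eq_fintype_card] at this
      omega
    simp only [Function.Injective, not_forall] at hni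
    obtain ⟨y₁, y₂, hg, hne⟩ := hni
    set c : X := (y₁ : X) * y₂
    have hc : c ∈ Y := mul_mem y₁.2 y₂.2
    have hc1 : c ≠ 1 := fun h => hne (Subtype.ext ((eq_inv_of_mul_eq_one_left h).trans
      (inv_eq_of_mul_eq_one_right (two_cases hY y₂.2))))
    have hfix : ∀ w : X, (∀ y ∈ hfin.toFinset, y * w * y⁻¹ = w ∨ y * w * y⁻¹ = w⁻¹) →
        ((y₁ : X) * w * (y₁ : X)⁻¹ = w ↔ (y₂ : X) * w * (y₂ : X)⁻¹ = w) → w * c = c * w := by
      intro w hw hiff
      refine (mul_inv_eq_iff_eq_mul.1 ?_).symm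
      show (y₁ : X) * y₂ * w * ((y₁ : X) * y₂)⁻¹ = w
      rw [show (y₁ : X) * y₂ * w * ((y₁ : X) * y₂)⁻¹ = (y₁ : X) * ((y₂ : X) * w * (y₂ : X)⁻¹) * (y₁ : X)⁻¹ by group]
      by_cases h2 : (y₂ : X) * w * (y₂ : X)⁻¹ = w
      · rw [h2, hiff.2 h2]
      · rw [(hw _ (hfin.mem_toFinset.2 y₂.2)).resolve_left h2, ← conj_inv,
          (hw _ (hfin.mem_toFinset.2 y₁.2)).resolve_left (mt hiff.1 h2), inv_inv]
    have h1 := congrArg Prod.fst hg
    have h2 := congrArg Prod.snd hg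
    simp only [g, decide_eq_decide] at h1 h2
    exact (hab c hc u (hbal a ha c hc hc1 u hu (hfix u hus h1)) v (hbal b hb c hc hc1 v hv (hfix v hvs h2))).symm
  refine ⟨?_, ?_⟩
  · set M := ⨆ y : {y : X // y ∈ Y ∧ y ≠ 1}, W (y : X) with hM
    have hMc : M ≤ centralizer (M : Set X) :=
      iSup_le fun a => le_centralizer_iff.2 (iSup_le fun b => hcomm b b.2.1 a a.2.1)
    rw [Nat.odd_iff]
    refine Nat.two_dvd_ne_zero.1 fun hd => ?_
    obtain ⟨w, hw⟩ := exists_prime_orderOf_dvd_card' 2 hd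
    let K : Subgroup X :=
      { carrier := {x | x ∈ M ∧ Odd (orderOf x)}
        one_mem' := ⟨one_mem _, by simp⟩
        mul_mem' := fun {u v} hu hv => ⟨mul_mem hu.1 hv.1, (hu.2.mul hv.2).of_dvd_nat
          ((show Commute u v from ((mem_centralizer_iff.1 (hMc hv.1)) u hu.1)).orderOf_mul_dvd_mul_orderOf)⟩
        inv_mem' := fun {u} hu => ⟨inv_mem hu.1, by rw [orderOf_inv]; exact hu.2⟩ }
    have hle : M ≤ K := iSup_le fun a v hv =>
      ⟨le_iSup (fun y : {y : X // y ∈ Y ∧ y ≠ 1} => W (y : X)) a hv, odd_orderOf (W_card _) hv⟩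
    have h' := (hle w.2).2
    rw [Subgroup.orderOf_coe, hw] at h'
    exact absurd h' (by decide)
  · have hmap : ∀ g ∈ normalizer (Y : Set X), ∀ w ∈ ⨆ y : {y : X // y ∈ Y ∧ y ≠ 1}, W (y : X),
        g * w * g⁻¹ ∈ ⨆ y : {y : X // y ∈ Y ∧ y ≠ 1}, W (y : X) := by
      intro g hg w hw
      suffices (⨆ y : {y : X // y ∈ Y ∧ y ≠ 1}, W (y : X)).map (MulAut.conj g).toMonoidHom ≤ _ from this ⟨w, hw, rfl⟩
      rw [Subgroup.map_iSup]
      refine iSup_le fun a => le_iSup_of_le ⟨g * a * g⁻¹, (mem_normalizer_iff.1 hg _).1 a.2.1,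
        fun h => a.2.2 (conj_eq_one_iff.1 h)⟩ ?_
      set C := centralizer ({g * (a : X) * g⁻¹} : Set X) with hC
      set V := (W (a : X)).map (MulAut.conj g).toMonoidHom with hV
      have hVC : V ≤ C := by
        rintro _ ⟨v, hv, rfl⟩
        rw [mem_centralizer_singleton_iff]
        show g * v * g⁻¹ * (g * a * g⁻¹) = g * a * g⁻¹ * (g * v * g⁻¹)
        rw [conj_mul, conj_mul, mem_centralizer_singleton_iff.1 (W_le _ hv)]
      haveI : (V.subgroupOf C).Normal := ⟨fun v hv k => by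
        obtain ⟨u, hu, he⟩ := hv
        have hk : g⁻¹ * (k : X) * g ∈ centralizer ({(a : X)} : Set X) := by
          have h1 := mem_centralizer_singleton_iff.1 k.2
          rw [mem_centralizer_singleton_iff]
          calc g⁻¹ * (k : X) * g * a = g⁻¹ * ((k : X) * (g * a * g⁻¹)) * g := by group
            _ = a * (g⁻¹ * (k : X) * g) := by rw [h1]; group
        refine ⟨g⁻¹ * (k : X) * g * u * (g⁻¹ * (k : X) * g)⁻¹, W_conj_mem hk hu, ?_⟩
        show g * (g⁻¹ * (k : X) * g * u * (g⁻¹ * (k : X) * g)⁻¹) * g⁻¹ = (k : X) * (v : X) * (k : X)⁻¹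
        rw [show (v : X) = g * u * g⁻¹ from he.symm]
        group⟩
      have h1 : V.subgroupOf C ≤ Cfsg.oddCore ↥C := Cfsg.Agent.Solv.le_pPrimeCore (by
        rw [Nat.card_congr (subgroupOfEquivOfLe hVC).toEquiv, card_map_of_injective (MulAut.conj g).injective]
        exact Nat.coprime_two_right.2 (W_card _))
      exact fun v hv => ⟨⟨v, hVC hv⟩, h1 hv, rfl⟩
    intro g hg
    rw [mem_normalizer_iff]
    refine fun w => ⟨hmap g hg w, fun h => ?_⟩
    have := hmap g⁻¹ (inv_mem hg) _ h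
    simpa [mul_assoc] using this


/-- Let X be a finite group and Y an elementary abelian 2-subgroup of X of order at least 8 such that C_X(x) has no components (E(C_X(x)) = 1) for every nontrivial x ∈ Y, and F*(C_X(z)) = O₂(C_X(z)) for some nontrivial z ∈ Y. Then the subgroup generated by the cores O(C_X(y)), y ∈ Y nontrivial, has odd order and is normalized by N_X(Y). -/
theorem result {X : Type*} [Group X] [Finite X] (Y : Subgroup X) (hY : Cfsg.IsElementaryAbelian 2 Y) (h8 : 8 ≤ Nat.card ↥Y) (hE : ∀ x ∈ Y, x ≠ 1 → Cfsg.layer ↥(Subgroup.centralizer ({x} : Set X)) = ⊥) (hz : ∃ z ∈ Y, z ≠ 1 ∧ Cfsg.generalizedFittingSubgroup ↥(Subgroup.centralizer ({z} : Set X)) = Cfsg.pCore 2 ↥(Subgroup.centralizer ({z} : Set X))) : Odd (Nat.card ↥(⨆ y : {y : X // y ∈ Y ∧ y ≠ 1}, (Cfsg.oddCore ↥(Subgroup.centralizer ({(y : X)} : Set X))).map (Subgroup.centralizer ({(y : X)} : Set X)).subtype)) ∧ Subgroup.normalizer (Y : Set X) ≤ Subgroup.normalizer ((⨆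 y : {y : X // y ∈ Y ∧ y ≠ 1}, (Cfsg.oddCore ↥(Subgroup.centralizer ({(y : X)} : Set X))).map (Subgroup.centralizer ({(y : X)} : Set X)).subtype : Subgroup X) : Set X) := by
  skip
  classical
  obtain ⟨z, hzY, hz1, hz⟩ := hz
  exact main Y hY h8 hE z hzY hz

end Cfsg.Agent.S2924
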