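import Cfsg.Statements.S2925
import Cfsg.Agent.Lib.Local.Component
import Cfsg.Agent.Lib.Solv.Misc
-- import your own Cfsg.Agent.* helpers here

set_option autoImplicit false
open Cfsg

namespace Cfsg.Agent.S2925
open Cfsg.Agent
open scoped commutatorElement

theorem mem_normalizer_of_maps {G : Type*} [Group G] [Finite G] (N : Subgroup G) {g : G}
    (h : ∀ n ∈ N, g * n * g⁻¹ ∈ N) : g ∈ Subgroup.normalizer (N : Set G) := by
  have he : N.map (MulAut.conj g).toMonoidHom = N :=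
    Subgroup.eq_of_le_of_card_ge (by rintro _ ⟨n, hn, rfl⟩; exact h n hn)
      (by rw [Subgroup.card_map_of_injective (MulAut.conj g).injective])
  rw [Subgroup.mem_normalizer_iff]
  refine fun n => ⟨h n, fun hn => ?_⟩
  obtain ⟨z, hz, e⟩ := he.symm ▸ hn
  rwa [(MulAut.conj g).injective (e : MulAut.conj g z = MulAut.conj g n)] at hz


/-- Let K be a component of the finite group X and T a Sylow 2-subgroup of X. If some abelian normal subgroup Y of T does not normalize K, then K ⧸ Z(K) has abelian Sylow 2-subgroups. -/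
theorem result {X : Type*} [Group X] [Finite X] (K : Subgroup X) (hK : Cfsg.IsComponent K) (T : Sylow 2 X) (Y : Subgroup X) (hYT : Y ≤ (T : Subgroup X)) (hYn : (Y.subgroupOf (T : Subgroup X)).Normal) (hYab : IsMulCommutative ↥Y) (hnot : ¬ Y ≤ Subgroup.normalizer (K : Set X)) (P : Sylow 2 (↥K ⧸ Subgroup.center ↥K)) : IsMulCommutative ↥(P : Subgroup (↥K ⧸ Subgroup.center ↥K)) := by
  skip
  classical
  haveI : Fact (Nat.Prime 2) := ⟨Nat.prime_two⟩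
  obtain ⟨y, hy, hyK⟩ := SetLike.not_le_iff_exists.1 hnot
  set K' := K.map (MulAut.conj y).toMonoidHom with hK'
  have hne : K ≠ K' := fun e => hyK (mem_normalizer_of_maps K fun n hn => by
    rw [e]; exact ⟨n, hn, rfl⟩)
  have hcomm : ∀ a ∈ K, ∀ b ∈ K', a * b = b * a := fun a ha b hb => by
    have h1 : ⁅a, b⁆ ∈ (⊥ : Subgroup X) := by
      rw [← Cfsg.Agent.Local.components_commute hK (Cfsg.Agent.Local.isComponent_conj hK y) hne]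
      exact Subgroup.commutator_mem_commutator ha hb
    exact commutatorElement_eq_one_iff_mul_comm.1 (Subgroup.mem_bot.1 h1)
  have hY : ∀ t ∈ (T : Subgroup X), t ∈ K → t * (y * t * y⁻¹)⁻¹ ∈ Y := fun t ht _ => by
    have h1 : t * y * t⁻¹ ∈ Y := by
      have := hYn.conj_mem ⟨y, hYT hy⟩ (Subgroup.mem_subgroupOf.2 hy) ⟨t, ht⟩
      exact Subgroup.mem_subgroupOf.1 this
    have := mul_mem h1 (inv_mem hy)
    simpa [mul_assoc] using this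
  have key : ∀ t₁ ∈ (T : Subgroup X), t₁ ∈ K → ∀ t₂ ∈ (T : Subgroup X), t₂ ∈ K →
      ∀ k ∈ K, (t₂ * t₁)⁻¹ * (t₁ * t₂) * k = k * ((t₂ * t₁)⁻¹ * (t₁ * t₂)) := by
    intro t₁ h₁ k₁ t₂ h₂ k₂ k hk
    set u₁ := y * t₁ * y⁻¹ with hu₁
    set u₂ := y * t₂ * y⁻¹ with hu₂
    have m₁ : u₁ ∈ K' := ⟨t₁, k₁, rfl⟩
    have m₂ : u₂ ∈ K' := ⟨t₂, k₂, rfl⟩
    haveI := hYab
    have e : (t₁ * u₁⁻¹) * (t₂ * u₂⁻¹) = (t₂ * u₂⁻¹) * (t₁ * u₁⁻¹) :=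
      congrArg Subtype.val (mul_comm' (⟨_, hY t₁ h₁ k₁⟩ : Y) ⟨_, hY t₂ h₂ k₂⟩)
    have e1 : (t₁ * u₁⁻¹) * (t₂ * u₂⁻¹) = t₁ * t₂ * (u₁⁻¹ * u₂⁻¹) := by
      calc (t₁ * u₁⁻¹) * (t₂ * u₂⁻¹) = t₁ * (u₁⁻¹ * t₂) * u₂⁻¹ := by group
        _ = t₁ * (t₂ * u₁⁻¹) * u₂⁻¹ := by rw [hcomm t₂ k₂ _ (inv_mem m₁)]
        _ = _ := by group
    have e2 : (t₂ * u₂⁻¹) * (t₁ * u₁⁻¹) = t₂ * t₁ * (u₂⁻¹ * u₁⁻¹) := by
      calc (t₂ * u₂⁻¹) * (t₁ * u₁⁻¹) = t₂ * (u₂⁻¹ * t₁) * u₁⁻¹ := by group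
        _ = t₂ * (t₁ * u₂⁻¹) * u₁⁻¹ := by rw [hcomm t₁ k₁ _ (inv_mem m₂)]
        _ = _ := by group
    rw [e1, e2] at e
    have h3 : (t₂ * t₁)⁻¹ * (t₁ * t₂) = (u₂⁻¹ * u₁⁻¹) * (u₁⁻¹ * u₂⁻¹)⁻¹ := by
      calc (t₂ * t₁)⁻¹ * (t₁ * t₂) = (t₂ * t₁)⁻¹ * (t₁ * t₂ * (u₁⁻¹ * u₂⁻¹)) * (u₁⁻¹ * u₂⁻¹)⁻¹ := by group
        _ = _ := by rw [e]; group
    have hm : (t₂ * t₁)⁻¹ * (t₁ * t₂) ∈ K' := by
      rw [h3]; exact mul_mem (mul_mem (inv_mem m₂) (inv_mem m₁)) (inv_mem (mul_mem (inv_mem m₁) (inv_mem m₂)))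
    exact (hcomm k hk _ hm).symm
  set π := QuotientGroup.mk' (Subgroup.center ↥K) with hπ
  let S : Sylow 2 K := (T.isPGroup'.comap_of_injective K.subtype K.subtype_injective).toSylow
    (Cfsg.Agent.Solv.index_sylow_inf_subnormal K hK.1 T)
  obtain ⟨g, hg⟩ := MulAction.exists_smul_eq (↥K ⧸ Subgroup.center ↥K) (S.mapSurjective (QuotientGroup.mk'_surjective (Subgroup.center ↥K))) P
  rw [← hg]
  have habel : ∀ a b : K, a ∈ (S : Subgroup K) → b ∈ (S : Subgroup K) → π a * π b = π b * π a := by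
    intro a b ha hb
    rw [← map_mul, ← map_mul]
    symm
    rw [hπ, QuotientGroup.mk'_apply, QuotientGroup.mk'_apply, QuotientGroup.eq, Subgroup.mem_center_iff]
    intro k
    exact Subtype.ext (key a ha a.2 b hb b.2 k k.2).symm
  refine ⟨⟨?_⟩⟩
  rintro ⟨_, _, ⟨a, ha, rfl⟩, rfl⟩ ⟨_, _, ⟨b, hb, rfl⟩, rfl⟩
  refine Subtype.ext ?_
  show (MulAut.conj g) (π a) * (MulAut.conj g) (π b) = (MulAut.conj g) (π b) * (MulAut.conj g) (π a)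
  rw [← map_mul, habel a b ha hb, map_mul]

end Cfsg.Agent.S2925
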