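import Cfsg.Statements.S2929
import Cfsg.Agent.Lib.Perm.AlternatingAut
import Cfsg.Agent.Lib.Perm.Transpositions
import Cfsg.Agent.Lib.Local.FStar
import Mathlib.GroupTheory.SpecificGroups.Alternating.Simple
-- import your own Cfsg.Agent.* helpers here

set_option autoImplicit false
open Cfsg

namespace Cfsg.Agent.S2929

open Subgroup Equiv Cfsg
open Cfsg.Agent.Perm (cyc cyc_apply_left cyc_apply_mid cyc_apply_right cyc_apply_other conj_cyc cyc_inv cyc_rotate eq_cyc_of_isThreeCycle isThreeCycle_cyc)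
open scoped commutatorElement

variable {α : Type*} [DecidableEq α]

/-- all three-cycles on `s` lie in `H` -/
def Good (H : Subgroup (Perm α)) (s : Finset α) : Prop :=
  ∀ a ∈ s, ∀ b ∈ s, ∀ c ∈ s, a ≠ b → a ≠ c → b ≠ c → cyc a b c ∈ H

theorem good_pair (H : Subgroup (Perm α)) {a b : α} (hab : a ≠ b) (s : Finset α)
    (h : ∀ x ∈ s, x ≠ a → x ≠ b → cyc a b x ∈ H) : Good H s := by
  have rot : ∀ u v w, u ≠ v → u ≠ w → v ≠ w → cyc u v w ∈ H → cyc v w u ∈ H := fun u v w h1 h2 h3 hh => by
    rwa [← cyc_rotate u v w h1 h2 h3]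
  have inv' : ∀ u v w, u ≠ v → u ≠ w → v ≠ w → cyc u v w ∈ H → cyc u w v ∈ H := fun u v w h1 h2 h3 hh => by
    rw [← cyc_inv u v w h1 h2 h3]; exact H.inv_mem hh
  have conjm : ∀ g : Perm α, g ∈ H → ∀ u v w, cyc u v w ∈ H → cyc (g u) (g v) (g w) ∈ H := fun g hg u v w hh => by
    rw [← conj_cyc]; exact H.mul_mem (H.mul_mem hg hh) (H.inv_mem hg)
  have hb : ∀ x ∈ s, ∀ y ∈ s, x ≠ a → x ≠ b → y ≠ a → y ≠ b → x ≠ y → cyc b x y ∈ H := by
    intro x hx y hy hxa hxb hya hyb hxy
    have h1 := conjm _ (h x hx hxa hxb) a b y (h y hy hya hyb)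
    rwa [cyc_apply_left hab hxb.symm, cyc_apply_mid, cyc_apply_other hya hyb (Ne.symm hxy)] at h1
  have ha : ∀ x ∈ s, ∀ y ∈ s, x ≠ a → x ≠ b → y ≠ a → y ≠ b → x ≠ y → cyc a x y ∈ H := by
    intro x hx y hy hxa hxb hya hyb hxy
    have h0 := h x hx hxa hxb
    have h0' : cyc a x b ∈ H := inv' a b x hab hxa.symm hxb.symm h0
    -- `(a x b)` sends `a ↦ x`, `b ↦ a`
    have h1 := conjm _ h0' a b y (h y hy hya hyb)
    rw [cyc_apply_left hxa.symm hxb, cyc_apply_right hab hxb, cyc_apply_other hya (Ne.symm hxy) hyb] at h1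
    exact inv' a y x (Ne.symm hya) hxa.symm (Ne.symm hxy) (rot x a y hxa hxy hya.symm h1)
  have hnone : ∀ x ∈ s, ∀ y ∈ s, ∀ z ∈ s, x ≠ a → x ≠ b → y ≠ a → y ≠ b → z ≠ a → z ≠ b → x ≠ y → x ≠ z → y ≠ z →
      cyc x y z ∈ H := by
    intro x hx y hy z hz hxa hxb hya hyb hza hzb hxy hxz hyz
    have h0 : cyc a x b ∈ H := inv' a b x hab hxa.symm hxb.symm (h x hx hxa hxb)
    have h1 := conjm _ h0 a y z (ha y hy z hz hya hyb hza hzb hyz)
    rwa [cyc_apply_left hxa.symm hxb, cyc_apply_other hya (Ne.symm hxy) hyb,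
      cyc_apply_other hza (Ne.symm hxz) hzb] at h1
  intro u hu v hv w hw huv huw hvw
  by_cases h1 : u = a
  · subst h1
    by_cases h2 : v = b
    · subst h2; exact h w hw huw.symm hvw.symm
    by_cases h3 : w = b
    · subst h3; exact inv' _ _ _ hab huv (Ne.symm hvw) (h v hv huv.symm hvw)
    exact ha v hv w hw huv.symm h2 huw.symm h3 hvw
  by_cases h1' : v = a
  · subst h1'
    by_cases h2 : w = b
    · subst h2; exact rot w u v huw.symm hvw.symm huv (rot _ _ _ hvw huv.symm huw.symm (h u hu huv huw)) 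
    by_cases h3 : u = b
    · subst h3
      exact rot w u v huw.symm hvw.symm huv (rot _ _ _ hvw huv.symm huw.symm (inv' _ _ _ hab hvw huw (h w hw hvw.symm h2)))
    exact rot w u v huw.symm hvw.symm huv (rot _ _ _ hvw huv.symm huw.symm (ha w hw u hu hvw.symm h2 h1 h3 huw.symm))
  by_cases h1'' : w = a
  · subst h1''
    by_cases h2 : u = b
    · subst h2; exact rot _ _ _ huw.symm hvw.symm huv (h v hv hvw huv.symm)
    by_cases h3 : v = b
    · subst h3; exact rot _ _ _ huw.symm hvw.symm huv (inv' _ _ _ hab huw.symm huv.symm (h u hu huw h2))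
    exact rot _ _ _ huw.symm hvw.symm huv (ha u hu v hv huw h2 hvw h3 huv)
  by_cases g1 : u = b
  · subst g1; exact hb v hv w hw h1' huv.symm h1'' huw.symm hvw
  by_cases g2 : v = b
  · subst g2
    exact rot w u v huw.symm hvw.symm huv (rot _ _ _ hvw huv.symm huw.symm (hb w hw u hu h1'' hvw.symm h1 g1 huw.symm))
  by_cases g3 : w = b
  · subst g3; exact rot _ _ _ huw.symm hvw.symm huv (hb u hu v hv h1 g1 h1' g2 huv)
  exact hnone u hu v hv w hw h1 g1 h1' g2 h1'' g3 huv huw hvw

theorem good_insert_pair {H : Subgroup (Perm α)} {s : Finset α} (hs : Good H s) {a b d : α} (ha : a ∈ s) (hb : b ∈ s)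
    (hab : a ≠ b) (h : cyc a b d ∈ H) : Good H (insert d s) := by
  refine good_pair H hab _ fun x hx hxa hxb => ?_
  rcases Finset.mem_insert.1 hx with rfl | hx
  · exact h
  · exact hs a ha b hb x hx hab hxa.symm hxb.symm

theorem good_insert_one {H : Subgroup (Perm α)} {s : Finset α} (hs : Good H s) {a b c d e : α} (ha : a ∈ s) (hb : b ∈ s)
    (hc : c ∈ s) (hab : a ≠ b) (hac : a ≠ c) (hbc : b ≠ c) (hd : d ∉ s) (he : e ∉ s) (hde : d ≠ e)
    (h : cyc a d e ∈ H) : Good H (insert d s) := by
  have hx : ∀ {x y : α}, x ∈ s → y ∉ s → x ≠ y := fun h1 h2 h => h2 (h ▸ h1)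
  refine good_insert_pair hs hb hc hbc ?_
  have h1 : cyc a d e * cyc a b c * (cyc a d e)⁻¹ ∈ H := H.mul_mem (H.mul_mem h (hs a ha b hb c hc hab hac hbc)) (H.inv_mem h)
  rw [conj_cyc, cyc_apply_left (hx ha hd) hde, cyc_apply_other hab.symm (hx hb hd) (hx hb he),
    cyc_apply_other hac.symm (hx hc hd) (hx hc he)] at h1
  rwa [cyc_rotate d b c (Ne.symm (hx hb hd)) (Ne.symm (hx hc hd)) hbc] at h1

/-- a class: a maximal good set -/
def IsClass (H : Subgroup (Perm α)) (s : Finset α) : Prop :=
  Good H s ∧ 3 ≤ s.card ∧ ∀ t, Good H t → s ⊆ t → t = s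

theorem class_subset {H : Subgroup (Perm α)} {s t : Finset α} (hs : IsClass H s) (ht : Good H t) (ht3 : 3 ≤ t.card)
    {a : α} (has : a ∈ s) (hat : a ∈ t) : t ⊆ s := by
  intro d hd
  by_contra hds
  have had : a ≠ d := fun h => hds (h ▸ has)
  obtain ⟨e, he, hea, hed⟩ : ∃ e ∈ t, e ≠ a ∧ e ≠ d := by
    by_contra h
    push Not at h
    have : t ⊆ {a, d} := fun x hx => by
      rw [Finset.mem_insert, Finset.mem_singleton]
      exact (em (x = a)).imp id (h x hx)
    have := Finset.card_le_card this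
    rw [Finset.card_pair had] at this
    omega
  have hgood : Good H (insert d s) := by
    by_cases hes : e ∈ s
    · exact good_insert_pair hs.1 has hes hea.symm (ht a hat e he d hd hea.symm had hed)
    · obtain ⟨b, hb, hba⟩ := Finset.exists_mem_ne (by have := hs.2.1; omega : 1 < s.card) a
      obtain ⟨c, hc, hca, hcb⟩ : ∃ c ∈ s, c ≠ a ∧ c ≠ b := by
        by_contra h
        push Not at h
        have : s ⊆ {a, b} := fun x hx => by
          rw [Finset.mem_insert, Finset.mem_singleton]
          exact (em (x = a)).imp id (h x hx)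
        have := Finset.card_le_card this
        rw [Finset.card_pair hba.symm] at this
        have := hs.2.1
        omega
      exact good_insert_one hs.1 has hb hc hba.symm hca.symm hcb.symm hds hes hed.symm
        (ht a hat d hd e he had hea.symm hed.symm)
  exact hds (hs.2.2 _ hgood (Finset.subset_insert d s) ▸ Finset.mem_insert_self d s)

variable [Fintype α]

theorem exists_class {H : Subgroup (Perm α)} {σ : Perm α} (hσ : σ.IsThreeCycle) (hσH : σ ∈ H) :
    ∃ s, IsClass H s ∧ σ.support ⊆ s := by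
  classical
  obtain ⟨a, ha⟩ : σ.support.Nonempty := Finset.card_pos.1 (by rw [hσ.card_support]; norm_num)
  obtain ⟨h1, h2, h3, h4, he⟩ := eq_cyc_of_isThreeCycle hσ (Perm.mem_support.1 ha)
  have hsub : σ.support ⊆ {a, σ a, σ (σ a)} := fun x hx => by
    by_contra h
    simp only [Finset.mem_insert, Finset.mem_singleton, not_or] at h
    rw [Perm.mem_support, he, cyc_apply_other h.1 h.2.1 h.2.2] at hx
    exact hx rfl
  have hgood : Good H ({a, σ a, σ (σ a)} : Finset α) := good_pair H h1 _ fun x hx hxa hxb => by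
    simp only [Finset.mem_insert, Finset.mem_singleton, hxa, hxb, false_or] at hx
    rw [hx, ← he]; exact hσH
  obtain ⟨s, hs⟩ := (Set.toFinite {s : Finset α | Good H s ∧ σ.support ⊆ s}).exists_maximal ⟨_, hgood, hsub⟩
  refine ⟨s, ⟨hs.prop.1, ?_, fun t ht hst => hs.eq_of_ge ⟨ht, hs.prop.2.trans hst⟩ hst⟩, hs.prop.2⟩
  rw [← hσ.card_support]
  exact Finset.card_le_card hs.prop.2

theorem perfect_hom_trivial {E : Type*} [Group E] (hE : _root_.commutator E = ⊤) {S : Type*} [Group S]
    [Group.IsSolvable S] (f : E →* S) (e : E) : f e = 1 := by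
  obtain ⟨n, hn⟩ := (inferInstance : Group.IsSolvable S).solvable
  have h : ∀ k, derivedSeries E k = ⊤ := fun k => by
    induction k with
    | zero => rfl
    | succ k ih => rw [derivedSeries_succ, ih, ← _root_.commutator_def, hE]
  have h2 := map_derivedSeries_le_derivedSeries f n
  rw [h n, hn] at h2
  exact mem_bot.1 (h2 ⟨e, mem_top _, rfl⟩)

theorem main (n : ℕ) (hn : 5 ≤ n) (H : Subgroup (Perm (Fin n)))
    (hF : Cfsg.IsQuasisimple ↥(Cfsg.generalizedFittingSubgroup ↥H))
    (hS : ∃ P : Sylow 3 (Perm (Fin n)), (P : Subgroup (Perm (Fin n))) ≤ H) :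
    ∃ m : ℕ, (m = n - 2 ∨ m = n - 1 ∨ m = n) ∧
      Nonempty (↥(Cfsg.generalizedFittingSubgroup ↥H) ≃* ↥(alternatingGroup (Fin m))) := by
  classical
  haveI : Fact (Nat.Prime 3) := ⟨Nat.prime_three⟩
  set E := Cfsg.generalizedFittingSubgroup ↥H with hEdef
  haveI hEn : E.Normal := by
    haveI := Cfsg.Agent.Local.layer_normal (G := ↥H)
    haveI := Cfsg.Agent.Solv.fittingSubgroup_normal ↥H
    exact Subgroup.sup_normal _ _
  have hperf : _root_.commutator E = ⊤ := hF.1.commutator_eq_top
  have hCE : centralizer (E : Set H) ≤ E := Cfsg.Agent.Local.centralizer_generalizedFitting_le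
  set K₀ : Subgroup (Perm (Fin n)) := closure {σ | σ.IsThreeCycle ∧ σ ∈ H} with hK₀
  have hK₀H : K₀ ≤ H := (closure_le _).2 fun σ hσ => hσ.2
  set K := K₀.subgroupOf H with hK
  haveI hKn : K.Normal := ⟨fun k hk g => by
    rw [hK, mem_subgroupOf] at hk ⊢
    suffices K₀.map (MulAut.conj (g : Perm (Fin n))).toMonoidHom ≤ K₀ from this ⟨_, hk, rfl⟩
    rw [hK₀, MonoidHom.map_closure, closure_le]
    rintro _ ⟨σ, hσ, rfl⟩
    refine subset_closure ⟨?_, H.mul_mem (H.mul_mem g.2 hσ.2) (H.inv_mem g.2)⟩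
    rw [Perm.IsThreeCycle, show ((MulAut.conj (g : Perm (Fin n))).toMonoidHom σ) = (g : Perm (Fin n)) * σ * (g : Perm (Fin n))⁻¹ from rfl,
      Perm.cycleType_conj]
    exact hσ.1⟩
  have hKfix : ∀ s, IsClass H s → ∀ k ∈ K₀, ∀ x, x ∈ s → k x ∈ s := by
    intro s hs k hk
    induction hk using Subgroup.closure_induction'' with
    | one => exact fun x hx => hx
    | mul k l _ _ ihk ihl => exact fun x hx => ihk _ (ihl x hx)
    | mem σ hσ =>
      intro x hx
      by_cases hx' : x ∈ σ.support
      · obtain ⟨t, ht, htσ⟩ := exists_class hσ.1 hσ.2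
        exact class_subset hs ht.1 ht.2.1 hx (htσ hx') (htσ (Perm.apply_mem_support.2 hx'))
      · rwa [Perm.notMem_support.1 hx']
    | inv_mem σ hσ =>
      intro x hx
      by_cases hx' : x ∈ σ.support
      · obtain ⟨t, ht, htσ⟩ := exists_class hσ.1 hσ.2
        refine class_subset hs ht.1 ht.2.1 hx (htσ hx') (htσ ?_)
        rw [← Perm.support_inv, Perm.apply_mem_support, Perm.support_inv]
        exact hx'
      · rw [← Perm.support_inv] at hx'
        rwa [Perm.notMem_support.1 hx']
  -- disjoint three-cycles inside `H`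
  obtain ⟨P, hP⟩ := hS
  obtain ⟨ψ, hψi, hψ⟩ : ∃ ψ : Fin (n / 3) × Fin 3 → Fin n, Function.Injective ψ ∧
      ∀ i, cyc (ψ (i, 0)) (ψ (i, 1)) (ψ (i, 2)) ∈ H := by
    let φ : Fin (n / 3) × Fin 3 → Fin n := fun v => ⟨3 * v.1.val + v.2.val, by omega⟩
    have hφ : Function.Injective φ := fun v w h => by
      have := congrArg Fin.val h
      simp only [φ] at this
      exact Prod.ext (Fin.ext (by omega)) (Fin.ext (by omega))
    let S : Set (Perm (Fin n)) := Set.range fun i => cyc (φ (i, 0)) (φ (i, 1)) (φ (i, 2))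
    have hne : ∀ i (u v : Fin 3), u ≠ v → φ (i, u) ≠ φ (i, v) := fun i u v h h' => h (Prod.ext_iff.1 (hφ h')).2
    have hcomm : ∀ u ∈ S, ∀ v ∈ S, u * v = v * u := by
      rintro _ ⟨i, rfl⟩ _ ⟨j, rfl⟩
      by_cases hij : i = j
      · rw [hij]
      refine Perm.Disjoint.commute (fun x => ?_)
      by_contra h
      push Not at h
      have e : ∀ l, cyc (φ (l, 0)) (φ (l, 1)) (φ (l, 2)) x ≠ x → ∃ u, x = φ (l, u) := fun l hl => by
        by_contra hh
        push Not at hh
        exact hl (cyc_apply_other (hh 0) (hh 1) (hh 2))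
      obtain ⟨u, hu⟩ := e i h.1
      obtain ⟨v, hv⟩ := e j h.2
      exact hij (Prod.ext_iff.1 (hφ (hu.symm.trans hv))).1
    have hWp : IsPGroup 3 ↥(closure S) := by
      have hcc : closure S ≤ centralizer (closure S : Set (Perm (Fin n))) := by
        rw [closure_le, centralizer_closure]
        exact fun u hu => mem_centralizer_iff.2 fun v hv => hcomm v hv u hu
      rintro ⟨w, hw⟩
      refine ⟨1, Subtype.ext ?_⟩
      rw [pow_one, SubgroupClass.coe_pow, OneMemClass.coe_one]
      induction hw using Subgroup.closure_induction with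
      | mem u hu =>
        obtain ⟨i, rfl⟩ := hu
        exact orderOf_dvd_iff_pow_eq_one.1 (dvd_of_eq (isThreeCycle_cyc (hne i 0 1 (by decide)) (hne i 0 2 (by decide)) (hne i 1 2 (by decide))).orderOf)
      | one => exact one_pow _
      | mul u v hu hv ihu ihv =>
        rw [(show Commute u v from ((mem_centralizer_iff.1 (hcc hv)) u hu)).mul_pow, ihu, ihv, one_mul]
      | inv u hu ihu => rw [inv_pow, ihu, inv_one]
    obtain ⟨R, hR⟩ := hWp.exists_le_sylow
    obtain ⟨g, hg⟩ := MulAction.exists_smul_eq (Perm (Fin n)) R P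
    refine ⟨fun v => g (φ v), g.injective.comp hφ, fun i => hP ?_⟩
    rw [← conj_cyc, ← hg, Sylow.coe_subgroup_smul]
    exact Subgroup.smul_mem_pointwise_smul _ (MulAut.conj g) _ (hR (subset_closure ⟨i, rfl⟩))
  have hψne : ∀ i (u v : Fin 3), u ≠ v → ψ (i, u) ≠ ψ (i, v) := fun i u v h h' => h (Prod.ext_iff.1 (hψi h')).2
  have hcov : ∀ v, ∃ s, IsClass H s ∧ ψ v ∈ s := by
    rintro ⟨i, u⟩
    obtain ⟨s, hs, hsub⟩ := exists_class (isThreeCycle_cyc (hψne i 0 1 (by decide)) (hψne i 0 2 (by decide)) (hψne i 1 2 (by decide))) (hψ i)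
    refine ⟨s, hs, hsub (Perm.mem_support.2 ?_)⟩
    fin_cases u <;> simp only [Fin.zero_eta, Fin.mk_one, Fin.reduceFinMk]
    · rw [cyc_apply_left (hψne i 0 1 (by decide)) (hψne i 1 2 (by decide))]; exact hψne i 1 0 (by decide)
    · rw [cyc_apply_mid]; exact hψne i 2 1 (by decide)
    · rw [cyc_apply_right (hψne i 0 2 (by decide)) (hψne i 1 2 (by decide))]; exact hψne i 0 2 (by decide)
  have hψcard : 3 * (n / 3) = (Finset.univ.image ψ).card := by
    rw [Finset.card_image_of_injective _ hψi]; simp [mul_comm]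
  -- the dichotomy for `K`
  have hKcases : K ≤ centralizer (E : Set H) ∨ E ≤ K := by
    rcases Cfsg.Agent.Local.qs_normal_le_center_or_eq_top hF (K.subgroupOf E) with h | h
    · left
      have h1 : ⁅⁅E, K⁆, E⁆ = ⊥ := by
        rw [commutator_eq_bot_iff_le_centralizer]
        intro x hx
        have hxE : x ∈ E := commutator_le_left E K hx
        have hxK : x ∈ K := commutator_le_right E K hx
        rw [mem_centralizer_iff]
        intro y hy
        exact congrArg Subtype.val (mem_center_iff.1 (h (show (⟨x, hxE⟩ : E) ∈ K.subgroupOf E from hxK)) ⟨y, hy⟩)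
      have h2 : ⁅⁅K, E⁆, E⁆ = ⊥ := by rwa [commutator_comm K E]
      have h3 := commutator_commutator_eq_bot_of_rotate h1 h2
      have hEE : ⁅E, E⁆ = E := by
        rw [← Subgroup.map_subtype_commutator, hperf, ← MonoidHom.range_eq_map, range_subtype]
      rw [hEE, commutator_eq_bot_iff_le_centralizer] at h3
      exact le_centralizer_iff.1 h3
    · exact Or.inr (subgroupOf_eq_top.1 h)
  by_cases hbig : ∃ s, IsClass H s ∧ 5 ≤ s.card
  · obtain ⟨s, hs, hs5⟩ := hbig
    let A₀ : Subgroup (Perm (Fin n)) := (alternatingGroup {x // x ∈ s}).map (Perm.ofSubtype (p := fun x => x ∈ s))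
    have hinj : Function.Injective (Perm.ofSubtype (p := fun x => x ∈ s) : Perm {x // x ∈ s} → Perm (Fin n)) :=
      Perm.ofSubtype_injective
    have hcyc : ∀ a b c : {x // x ∈ s}, a ≠ b → a ≠ c → b ≠ c →
        Perm.ofSubtype (cyc a b c) = cyc (a : Fin n) (b : Fin n) (c : Fin n) := by
      intro a b c h1 h2 h3
      simp only [cyc, map_mul, Perm.ofSubtype_swap_eq]
    have hA₀ : ∀ x ∈ A₀, ∀ k ∈ K₀, k * x * k⁻¹ ∈ A₀ := by
      intro x hx k hk
      suffices A₀.map (MulAut.conj k).toMonoidHom ≤ A₀ from this ⟨x, hx, rfl⟩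
      simp only [A₀, ← Equiv.Perm.closure_three_cycles_eq_alternating, MonoidHom.map_closure]
      refine closure_le _ |>.2 ?_
      rintro _ ⟨_, ⟨σ, hσ, rfl⟩, rfl⟩
      obtain ⟨a, ha⟩ : σ.support.Nonempty := Finset.card_pos.1 (by rw [hσ.card_support]; norm_num)
      obtain ⟨h1, h2, h3, -, he⟩ := eq_cyc_of_isThreeCycle hσ (Perm.mem_support.1 ha)
      rw [he, hcyc _ _ _ h1 h2 h3]
      refine subset_closure ⟨cyc ⟨k a, hKfix s hs k hk _ a.2⟩ ⟨k (σ a), hKfix s hs k hk _ (σ a).2⟩
        ⟨k (σ (σ a)), hKfix s hs k hk _ (σ (σ a)).2⟩, isThreeCycle_cyc ?_ ?_ ?_, ?_⟩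
      · exact fun h => h1 (Subtype.ext (k.injective (congrArg Subtype.val h)))
      · exact fun h => h2 (Subtype.ext (k.injective (congrArg Subtype.val h)))
      · exact fun h => h3 (Subtype.ext (k.injective (congrArg Subtype.val h)))
      · rw [hcyc _ _ _ (fun h => h1 (Subtype.ext (k.injective (congrArg Subtype.val h))))
          (fun h => h2 (Subtype.ext (k.injective (congrArg Subtype.val h))))
          (fun h => h3 (Subtype.ext (k.injective (congrArg Subtype.val h))))]
        exact (conj_cyc k _ _ _).symm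
    have hA₀K : A₀ ≤ K₀ := by
      simp only [A₀, ← Equiv.Perm.closure_three_cycles_eq_alternating, MonoidHom.map_closure]
      refine closure_le _ |>.2 ?_
      rintro _ ⟨σ, hσ, rfl⟩
      obtain ⟨a, ha⟩ : σ.support.Nonempty := Finset.card_pos.1 (by rw [hσ.card_support]; norm_num)
      obtain ⟨h1, h2, h3, -, he⟩ := eq_cyc_of_isThreeCycle hσ (Perm.mem_support.1 ha)
      rw [he, hcyc _ _ _ h1 h2 h3]
      exact subset_closure ⟨isThreeCycle_cyc (fun h => h1 (Subtype.ext h)) (fun h => h2 (Subtype.ext h))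
        (fun h => h3 (Subtype.ext h)), hs.1 _ a.2 _ (σ a).2 _ (σ (σ a)).2 (fun h => h1 (Subtype.ext h))
        (fun h => h2 (Subtype.ext h)) (fun h => h3 (Subtype.ext h))⟩
    set A := A₀.subgroupOf H with hA
    let eA : ↥A ≃* ↥(alternatingGroup {x // x ∈ s}) := (subgroupOfEquivOfLe (hA₀K.trans hK₀H)).trans
      ((alternatingGroup {x // x ∈ s}).equivMapOfInjective _ hinj).symm
    haveI hsimp : IsSimpleGroup ↥(alternatingGroup {x // x ∈ s}) :=
      alternatingGroup.isSimpleGroup (by rw [Nat.card_eq_fintype_card, Fintype.card_coe]; exact hs5)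
    haveI : IsSimpleGroup ↥A := eA.isSimpleGroup
    have hAna : ¬ IsMulCommutative ↥A := by
      intro hc
      obtain ⟨a, ha, b, hb, hab⟩ := Finset.one_lt_card.1 (by omega : 1 < s.card)
      obtain ⟨c, hc', hca, hcb⟩ : ∃ c ∈ s, c ≠ a ∧ c ≠ b := by
        by_contra h
        push Not at h
        have : s ⊆ {a, b} := fun x hx => by
          rw [Finset.mem_insert, Finset.mem_singleton]
          exact (em (x = a)).imp id (h x hx)
        have := Finset.card_le_card this
        rw [Finset.card_pair hab] at this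
        omega
      obtain ⟨d, hd, hda, hdb, hdc⟩ : ∃ d ∈ s, d ≠ a ∧ d ≠ b ∧ d ≠ c := by
        by_contra h
        push Not at h
        have : s ⊆ {a, b, c} := fun x hx => by
          rw [Finset.mem_insert, Finset.mem_insert, Finset.mem_singleton]
          by_cases h1 : x = a
          · exact Or.inl h1
          by_cases h2 : x = b
          · exact Or.inr (Or.inl h2)
          exact Or.inr (Or.inr (h x hx h1 h2))
        have h3 : ({a, b, c} : Finset (Fin n)).card ≤ 3 := Finset.card_le_three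
        have := Finset.card_le_card this
        omega
      have mem : ∀ u v w, u ∈ s → v ∈ s → w ∈ s → u ≠ v → u ≠ w → v ≠ w → cyc u v w ∈ A₀ := by
        intro u v w hu hv hw h1 h2 h3
        refine ⟨cyc ⟨u, hu⟩ ⟨v, hv⟩ ⟨w, hw⟩, ?_, hcyc _ _ _ ?_ ?_ ?_⟩
        · exact (isThreeCycle_cyc (fun h => h1 (congrArg Subtype.val h)) (fun h => h2 (congrArg Subtype.val h))
            (fun h => h3 (congrArg Subtype.val h))).mem_alternatingGroup
        all_goals intro h
        · exact h1 (congrArg Subtype.val h)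
        · exact h2 (congrArg Subtype.val h)
        · exact h3 (congrArg Subtype.val h)
      have m1 := mem a b c ha hb hc' hab hca.symm hcb.symm
      have m2 := mem a b d ha hb hd hab hda.symm hdb.symm
      have h' := congrArg (fun v : ↥A => ((v : ↥H) : Perm (Fin n)) a)
        (hc.is_comm.comm ⟨⟨_, (hA₀K.trans hK₀H) m1⟩, m1⟩ ⟨⟨_, (hA₀K.trans hK₀H) m2⟩, m2⟩)
      simp only [Subgroup.coe_mul, Perm.mul_apply] at h'
      rw [cyc_apply_left hab hdb.symm, cyc_apply_mid, cyc_apply_left hab hcb.symm, cyc_apply_mid] at h'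
      exact hdc h'.symm
    have hEK : E ≤ K := hKcases.resolve_left fun h => hAna (by
      have hAc : A ≤ centralizer (E : Set H) := fun x hx => h (hA₀K hx)
      exact ⟨⟨fun u v => Subtype.ext ((mem_centralizer_iff.1 (hAc v.2)) u (hCE (hAc u.2)))⟩⟩)
    have hEA : E ≤ normalizer (A : Set H) := by
      intro e he
      have hk : (e : Perm (Fin n)) ∈ K₀ := hEK he
      rw [mem_normalizer_iff]
      refine fun x => ⟨fun hx => hA₀ _ hx _ hk, fun hx => ?_⟩
      have := hA₀ _ hx _ (K₀.inv_mem hk)
      simpa [A, mem_subgroupOf, mul_assoc] using this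
    have hEA' : E ≤ A := by
      haveI := normal_subgroupOf_of_le_normalizer hEA
      rcases Cfsg.Agent.Local.qs_normal_le_center_or_eq_top hF (A.subgroupOf E) with h | h
      · exfalso
        haveI : (E.subgroupOf A).Normal := hEn.subgroupOf _
        rcases (inferInstance : IsSimpleGroup ↥A).eq_bot_or_eq_top_of_normal (E.subgroupOf A) inferInstance with h' | h'
        · apply hAna
          have hcomm : A ≤ centralizer (E : Set H) := by
            rw [← commutator_eq_bot_iff_le_centralizer, eq_bot_iff]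
            refine (le_inf ?_ (commutator_le_right A E)).trans ((subgroupOf_eq_bot.1 h').symm.le_bot.trans le_rfl)
            rw [commutator_le]
            intro a ha x hx
            rw [commutatorElement_def, mul_assoc a, mul_assoc a]
            exact mul_mem ha ((mem_normalizer_iff.1 (hEA hx) _).1 (inv_mem ha))
          exact ⟨⟨fun u v => Subtype.ext ((mem_centralizer_iff.1 (hcomm v.2)) u (hCE (hcomm u.2)))⟩⟩
        · apply hAna
          rw [subgroupOf_eq_top] at h'
          exact ⟨⟨fun u v => Subtype.ext (congrArg (fun w : ↥E => (w : ↥H))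
            (mem_center_iff.1 (h (show (⟨v, h' v.2⟩ : E) ∈ A.subgroupOf E from v.2)) ⟨u, h' u.2⟩))⟩⟩
      · exact subgroupOf_eq_top.1 h
    haveI : (E.subgroupOf A).Normal := hEn.subgroupOf _
    have hAE : A ≤ E := subgroupOf_eq_top.1
      (((inferInstance : IsSimpleGroup ↥A).eq_bot_or_eq_top_of_normal (E.subgroupOf A) inferInstance).resolve_left fun h => by
        haveI := Cfsg.Agent.Local.qs_nontrivial hF
        obtain ⟨x, hx⟩ := exists_ne (1 : E)
        exact hx (Subtype.ext (disjoint_iff_inf_le.1 (subgroupOf_eq_bot.1 h) ⟨x.2, hEA' x.2⟩)))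
    have hEA_eq : E = A := le_antisymm hEA' hAE
    -- no three-cycle outside the class
    have honly : ∀ t, IsClass H t → t = s := by
      intro t ht
      by_contra hne
      obtain ⟨a, ha, b, hb, hab⟩ := Finset.one_lt_card.1 (by have := ht.2.1; omega : 1 < t.card)
      obtain ⟨c, hc', hca, hcb⟩ : ∃ c ∈ t, c ≠ a ∧ c ≠ b := by
        by_contra h
        push Not at h
        have : t ⊆ {a, b} := fun x hx => by
          rw [Finset.mem_insert, Finset.mem_singleton]
          exact (em (x = a)).imp id (h x hx)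
        have := Finset.card_le_card this
        rw [Finset.card_pair hab] at this
        have := ht.2.1
        omega
      have hout : ∀ x ∈ t, x ∉ s := fun x hx hxs => hne (le_antisymm
        (class_subset hs ht.1 ht.2.1 hxs hx) (class_subset ht hs.1 hs.2.1 hx hxs))
      have hσ := ht.1 a ha b hb c hc' hab hca.symm hcb.symm
      have hcen : (⟨_, hσ⟩ : ↥H) ∈ centralizer (E : Set H) := by
        rw [mem_centralizer_iff, hEA_eq]
        intro x hx
        obtain ⟨y, -, hy⟩ := hx
        refine Subtype.ext (Perm.Disjoint.commute (fun z => ?_))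
        by_cases hz : z ∈ s
        · refine Or.inr (cyc_apply_other ?_ ?_ ?_) <;> rintro rfl
          · exact hout _ ha hz
          · exact hout _ hb hz
          · exact hout _ hc' hz
        · refine Or.inl ?_
          show (x : Perm (Fin n)) z = z
          rw [show (x : Perm (Fin n)) = Perm.ofSubtype y from hy.symm, Perm.ofSubtype_apply_of_not_mem _ hz]
      obtain ⟨y, -, hy⟩ := hEA' (hCE hcen)
      have h1 := congrArg (fun g : Perm (Fin n) => g a) hy
      simp only [Perm.ofSubtype_apply_of_not_mem _ (hout a ha)] at h1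
      exact hab (h1.trans (cyc_apply_left hab hcb.symm))
    refine ⟨s.card, ?_, ⟨((MulEquiv.subgroupCongr hEA_eq).trans eA).trans
      (Equiv.altCongrHom (s.equivFin))⟩⟩
    have h1 : (Finset.univ.image ψ).card ≤ s.card := Finset.card_le_card fun x hx => by
      obtain ⟨v, -, rfl⟩ := Finset.mem_image.1 hx
      obtain ⟨t, ht, hv⟩ := hcov v
      exact honly t ht ▸ hv
    have h2 : s.card ≤ n := (Finset.card_le_univ s).trans (by simp)
    omega
  · -- all classes small: `E` acts trivially
    exfalso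
    push Not at hbig
    have hpres : ∀ e ∈ E, ∀ s, IsClass H s → ∀ x ∈ s, ((e : ↥H) : Perm (Fin n)) x ∈ s := by
      intro e he s hs x hx
      rcases hKcases with h | h
      · obtain ⟨b, hb, hba⟩ := Finset.exists_mem_ne (by have := hs.2.1; omega : 1 < s.card) x
        obtain ⟨c, hc', hca, hcb⟩ : ∃ c ∈ s, c ≠ x ∧ c ≠ b := by
          by_contra h
          push Not at h
          have : s ⊆ {x, b} := fun y hy => by
            rw [Finset.mem_insert, Finset.mem_singleton]
            exact (em (y = x)).imp id (h y hy)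
          have := Finset.card_le_card this
          rw [Finset.card_pair hba.symm] at this
          have := hs.2.1
          omega
        have hσ := hs.1 x hx b hb c hc' hba.symm hca.symm hcb.symm
        have hσK : (⟨_, hσ⟩ : ↥H) ∈ K := subset_closure ⟨isThreeCycle_cyc hba.symm hca.symm hcb.symm, hσ⟩
        have h1 := congrArg (fun v : ↥H => (v : Perm (Fin n)) x) ((mem_centralizer_iff.1 (h hσK)) e he)
        simp only [Subgroup.coe_mul, Perm.mul_apply, cyc_apply_left hba.symm hcb.symm] at h1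
        by_contra hout
        have hfix : cyc x b c ((e : Perm (Fin n)) x) = (e : Perm (Fin n)) x := by
          refine cyc_apply_other ?_ ?_ ?_ <;> intro h' <;> apply hout <;> rw [h'] <;> assumption
        rw [hfix] at h1
        exact hba ((e : Perm (Fin n)).injective h1)
      · exact hKfix s hs _ (h he) x hx
    have hfix : ∀ e ∈ E, ∀ s, IsClass H s → ∀ x ∈ s, ((e : ↥H) : Perm (Fin n)) x = x := by
      intro e he s hs x hx
      haveI := Cfsg.Agent.Perm.isSolvable_perm_of_card_le_four (α := {y // y ∈ s})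
        (by rw [Fintype.card_coe]; have := hbig s hs; omega)
      let f : ↥E →* Perm {y // y ∈ s} :=
        { toFun := fun v => ((v : ↥H) : Perm (Fin n)).subtypePerm fun y => ⟨fun hy => by
            have := hpres _ (v⁻¹).2 s hs _ hy
            simpa using this, fun hy => hpres v v.2 s hs y hy⟩
          map_one' := Perm.ext fun y => Subtype.ext rfl
          map_mul' := fun v w => Perm.ext fun y => Subtype.ext rfl }
      have h1 := perfect_hom_trivial hperf f ⟨e, he⟩
      exact congrArg Subtype.val (congrArg (fun g : Perm {y // y ∈ s} => g ⟨x, hx⟩) h1)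
    let R : Finset (Fin n) := Finset.univ.filter fun x => ∀ s, IsClass H s → x ∉ s
    have hR : R.card ≤ 4 := by
      have hd : Disjoint R (Finset.univ.image ψ) := Finset.disjoint_right.2 fun x hx hxR => by
        obtain ⟨v, -, rfl⟩ := Finset.mem_image.1 hx
        obtain ⟨s, hs, hv⟩ := hcov v
        exact (Finset.mem_filter.1 hxR).2 s hs hv
      have h1 := Finset.card_le_univ (R ∪ Finset.univ.image ψ)
      rw [Finset.card_union_of_disjoint hd, Fintype.card_fin] at h1
      omega
    haveI := Cfsg.Agent.Perm.isSolvable_perm_of_card_le_four (α := {y // y ∈ R}) (by rwa [Fintype.card_coe])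
    have hRp : ∀ v : ↥E, ∀ y, y ∈ R → ((v : ↥H) : Perm (Fin n)) y ∈ R := fun v y hy =>
      Finset.mem_filter.2 ⟨Finset.mem_univ _, fun s hs hys => (Finset.mem_filter.1 hy).2 s hs (by
        have h1 := hfix v v.2 s hs _ hys
        rwa [((v : ↥H) : Perm (Fin n)).injective h1] at hys)⟩
    let f : ↥E →* Perm {y // y ∈ R} :=
      { toFun := fun v => ((v : ↥H) : Perm (Fin n)).subtypePerm fun y => ⟨fun hy => by
          have := hRp v⁻¹ _ hy
          simpa using this, hRp v y⟩
        map_one' := Perm.ext fun y => Subtype.ext rfl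
        map_mul' := fun v w => Perm.ext fun y => Subtype.ext rfl }
    haveI := Cfsg.Agent.Local.qs_nontrivial hF
    obtain ⟨e, he⟩ := exists_ne (1 : ↥E)
    refine he (Subtype.ext (Subtype.ext (Perm.ext fun x => ?_)))
    by_cases hx : ∃ s, IsClass H s ∧ x ∈ s
    · obtain ⟨s, hs, hxs⟩ := hx
      exact hfix e e.2 s hs x hxs
    · push Not at hx
      exact congrArg Subtype.val (congrArg (fun g : Perm {y // y ∈ R} => g ⟨x, Finset.mem_filter.2 ⟨Finset.mem_univ _, hx⟩⟩)
        (perfect_hom_trivial hperf f e))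


/-- Let n ≥ 5 and let H be a subgroup of the symmetric group of degree n whose generalized Fitting subgroup F*(H) is quasisimple. If H contains a Sylow 3-subgroup of the symmetric group, then F*(H) is isomorphic to an alternating group of degree m for some m ∈ {n − 2, n − 1, n}. -/
theorem result (n : ℕ) (hn : 5 ≤ n) (H : Subgroup (Equiv.Perm (Fin n))) (hF : Cfsg.IsQuasisimple ↥(Cfsg.generalizedFittingSubgroup ↥H)) (hS : ∃ P : Sylow 3 (Equiv.Perm (Fin n)), (P : Subgroup (Equiv.Perm (Fin n))) ≤ H) : ∃ m : ℕ, (m = n - 2 ∨ m = n - 1 ∨ m = n) ∧ Nonempty (↥(Cfsg.generalizedFittingSubgroup ↥H) ≃* ↥(alternatingGroup (Fin m))) := by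
  skip
  classical
  exact main n hn H hF hS

end Cfsg.Agent.S2929
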