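import Cfsg.Statements.S2939
import Cfsg.Agent.Lib.Local.WeaklyClosedBasics
-- import your own Cfsg.Agent.* helpers here

set_option autoImplicit false
open Cfsg

namespace Cfsg.Agent.S2939
open Cfsg.Agent

/-- Right conjugate. -/
abbrev rc {G : Type*} [Group G] (g : G) (X : Subgroup G) : Subgroup G := Cfsg.subgroupConjRight g X

theorem mem_rc {G : Type*} [Group G] {g x : G} {X : Subgroup G} : x ∈ rc g X ↔ g * x * g⁻¹ ∈ X := by
  constructor
  · rintro ⟨y, hy, rfl⟩; simpa [mul_assoc] using hy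
  · intro h; exact ⟨_, h, by simp [mul_assoc]⟩

theorem rc_rc {G : Type*} [Group G] (a b : G) (X : Subgroup G) : rc b (rc a X) = rc (a * b) X := by
  ext x; simp [mem_rc, mul_assoc]

theorem rc_one {G : Type*} [Group G] (X : Subgroup G) : rc 1 X = X := by ext x; simp [mem_rc]

theorem rc_self {G : Type*} [Group G] {X : Subgroup G} {y : G} (hy : y ∈ X) : rc y X = X := by
  ext x
  rw [mem_rc]
  exact ⟨fun h => by simpa [mul_assoc] using mul_mem (mul_mem (inv_mem hy) h) hy,
    fun h => mul_mem (mul_mem hy h) (inv_mem hy)⟩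

theorem mem_normalizer_of_rc {G : Type*} [Group G] {X : Subgroup G} {g : G} (h : rc g X = X) :
    g ∈ Subgroup.normalizer (X : Set G) := by
  rw [Subgroup.mem_normalizer_iff]
  intro x
  conv_lhs => rw [← h, mem_rc]

theorem members_rc {G : Type*} [Group G] [Finite G] {p : ℕ} [Fact p.Prime] {F : Set (Subgroup G)}
    (hF : Cfsg.IsNormalSet F) (g : G) {S X : Subgroup G} (h : X ∈ Cfsg.sylowMembers p F S) :
    rc g X ∈ Cfsg.sylowMembers p F (rc g S) := by
  obtain ⟨hX, P, hP⟩ := h
  let f : G →* G := (MulAut.conj g⁻¹).toMonoidHom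
  have hf : Function.Injective f := (MulAut.conj g⁻¹).injective
  let e := X.equivMapOfInjective f hf
  refine ⟨hF X hX g, ?_⟩
  show ∃ Q : Sylow p ↥(X.map f), (Q : Subgroup ↥(X.map f)).map (X.map f).subtype = S.map f ⊓ X.map f
  have hs : Function.Surjective e.toMonoidHom := e.surjective
  refine ⟨P.mapSurjective hs, ?_⟩
  rw [Sylow.coe_mapSurjective hs P, Subgroup.map_map]
  show (P : Subgroup X).map (f.comp X.subtype) = S.map f ⊓ X.map f
  rw [← Subgroup.map_map, hP, Subgroup.map_inf _ _ _ hf]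


/-- Let p be a prime dividing the order of the finite group G and 𝓕 a family of subgroups of G closed under conjugation, with conjugates taken as X^g = g⁻¹Xg. Then 𝓕 controls Sylow p-intersections in G (any two distinct Sylow p-subgroups S and T with S ∩ T ≠ 1 are joined by a chain S = S₀, S₁, …, Sₙ = T of Sylow p-subgroups where, for each i, some member Xᵢ of 𝓕 meets both S_{i-1} and Sᵢ in Sylow p-subgroups of Xᵢ, satisfies S ∩ T ≤ Sᵢ ∩ Xᵢ, and contains an element xᵢ with Sᵢ^{xᵢ} = S_{i-1}) if and only if 𝓕 strongly controls p-fusion in G (whenever A is a subset of a Sylow p-subgroup S, A contains an element other than 1, and A^g ⊆ S, the element g factorises as g = y₁⋯yₙy with y ∈ N_G(S) and each yᵢ in a member Yᵢ of 𝓕 that meets S in a Sylow p-subgroup of Yᵢ, with A^{y₁⋯yᵢ} ⊆ S ∩ Yᵢ for each i). -/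
theorem result {G : Type*} [Group G] [Finite G] {p : ℕ} [Fact p.Prime] (hdiv : p ∣ Nat.card G) (𝓕 : Set (Subgroup G)) (h𝓕 : Cfsg.IsNormalSet 𝓕) : Cfsg.ControlsSylowIntersections p 𝓕 ↔ Cfsg.FamilyStronglyControlsFusion p 𝓕 := by
  skip
  classical
  constructor
  · intro hcon S A g hA hA1 hAg
    set T : Sylow p G := g • S with hTd
    have hT : (T : Subgroup G) = rc g⁻¹ (S : Subgroup G) := by
      rw [rc, Cfsg.subgroupConjRight, inv_inv]; rfl
    rcases eq_or_ne S T with hST | hST
    · refine ⟨0, Fin.elim0, Fin.elim0, g, ?_, Fin.rec0, by simp, Fin.rec0⟩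
      exact Cfsg.Agent.Local.WCB.mem_normalizer_of_map_conj_eq (by
        have h := congrArg (fun P : Sylow p G => (P : Subgroup G)) hST
        exact h.symm)
    have hne : (S : Subgroup G) ⊓ (T : Subgroup G) ≠ ⊥ := by
      obtain ⟨a, ha, ha1⟩ := hA1
      intro h
      refine ha1 ((eq_bot_iff.1 h) (Subgroup.mem_inf.2 ⟨hA ha, ?_⟩))
      rw [hT, mem_rc, inv_inv]
      exact hAg ⟨a, ha, rfl⟩
    have hAD : ∀ a ∈ A, a ∈ (S : Subgroup G) ⊓ (T : Subgroup G) := fun a ha =>
      Subgroup.mem_inf.2 ⟨hA ha, by rw [hT, mem_rc, inv_inv]; exact hAg ⟨a, ha, rfl⟩⟩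
    obtain ⟨n, c, X, x, hc0, hcn, hstep⟩ := hcon S T hST hne
    let z : ℕ → G := fun i => Nat.rec 1 (fun j r => if h : j < n then x ⟨j, h⟩ * r else r) i
    have hz0 : z 0 = 1 := rfl
    have hzs : ∀ i : Fin n, z (i.val + 1) = x i * z i.val := fun i => by
      show (if h : i.val < n then x ⟨i.val, h⟩ * z i.val else z i.val) = _
      rw [dif_pos i.2]
    have hzc : ∀ (m : ℕ) (hm : m < n + 1), rc (z m) (c ⟨m, hm⟩ : Subgroup G) = (S : Subgroup G) := by
      intro m
      induction m with
      | zero =>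
        intro hm
        rw [hz0, rc_one, show (⟨0, hm⟩ : Fin (n + 1)) = 0 from rfl, hc0]
      | succ m ih =>
        intro hm
        have hm' : m < n := by omega
        rw [hzs ⟨m, hm'⟩, ← rc_rc]
        have h := (hstep ⟨m, hm'⟩).2.2.2.1
        have h' : rc (x ⟨m, hm'⟩) (c ⟨m + 1, hm⟩ : Subgroup G) = (c ⟨m, by omega⟩ : Subgroup G) := h
        rw [h']
        exact ih _
    set y : Fin n → G := fun i => (z i.val)⁻¹ * z (i.val + 1) with hy
    have htake : ∀ m : ℕ, m ≤ n → ((List.ofFn y).take m).prod = z m := by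
      intro m
      induction m with
      | zero => intro _; simp [hz0]
      | succ m ih =>
        intro hm
        rw [List.prod_take_succ _ m (by simpa using Nat.lt_of_succ_le hm), ih (by omega), List.getElem_ofFn]
        show z m * ((z m)⁻¹ * z (m + 1)) = _
        group
    have hzn : g⁻¹ * z n ∈ Subgroup.normalizer ((S : Subgroup G) : Set G) := by
      have h1 := hzc n (Nat.lt_succ_self n)
      rw [show (⟨n, Nat.lt_succ_self n⟩ : Fin (n + 1)) = Fin.last n from rfl, hcn, hT, rc_rc] at h1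
      exact mem_normalizer_of_rc h1
    refine ⟨n, fun i => rc (z (i.val + 1)) (X i), y, (g⁻¹ * z n)⁻¹, inv_mem hzn, fun i => ⟨?_, ?_⟩, ?_, fun i => ?_⟩
    · have h1 := members_rc h𝓕 (z (i.val + 1)) (hstep i).2.1
      have h2 := hzc (i.val + 1) (by omega)
      rw [show (⟨i.val + 1, by omega⟩ : Fin (n + 1)) = i.succ from rfl] at h2
      rwa [h2] at h1
    · show (z i.val)⁻¹ * z (i.val + 1) ∈ rc (z (i.val + 1)) (X i)
      rw [mem_rc, hzs i]
      simpa [mul_assoc] using (hstep i).2.2.1
    · have h1 := htake n le_rfl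
      rw [List.take_of_length_le (by simp)] at h1
      rw [h1]
      group
    · rw [htake _ (by omega)]
      rintro _ ⟨a, ha, rfl⟩
      have h1 := Subgroup.mem_inf.1 ((hstep i).2.2.2.2 (hAD a ha))
      have h2 := hzc (i.val + 1) (by omega)
      rw [show (⟨i.val + 1, by omega⟩ : Fin (n + 1)) = i.succ from rfl] at h2
      refine ⟨?_, ?_⟩
      · show _ ∈ (S : Subgroup G)
        rw [← h2, mem_rc]
        simpa [mul_assoc] using h1.1
      · show _ ∈ rc (z (i.val + 1)) (X i)
        rw [mem_rc]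
        simpa [mul_assoc] using h1.2
  · intro hcon S T hST hne
    obtain ⟨v, hv⟩ := MulAction.exists_smul_eq G S T
    set D := (S : Subgroup G) ⊓ (T : Subgroup G) with hD
    have hT : (T : Subgroup G) = rc v⁻¹ (S : Subgroup G) := by
      rw [← hv, rc, Cfsg.subgroupConjRight, inv_inv]; rfl
    obtain ⟨a, ha, ha1⟩ := D.bot_or_exists_ne_one.resolve_left hne
    obtain ⟨n, Y, y, y0, hy0, hY, hg, hsub⟩ := hcon S (D : Set G) v inf_le_left ⟨a, ha, ha1⟩ (by
      rintro _ ⟨d, hd, rfl⟩
      have h1 := (Subgroup.mem_inf.1 hd).2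
      rw [hT, mem_rc, inv_inv] at h1
      exact h1)
    set z : ℕ → G := fun i => ((List.ofFn y).take i).prod with hz
    have hzs : ∀ i : Fin n, z (i.val + 1) = z i.val * y i := fun i => by
      show ((List.ofFn y).take (i.val + 1)).prod = _
      rw [List.prod_take_succ _ i.val (by simp), List.getElem_ofFn]
    have hc : ∀ i : ℕ, ((z i • S : Sylow p G) : Subgroup G) = rc (z i)⁻¹ (S : Subgroup G) := fun i => by
      rw [rc, Cfsg.subgroupConjRight, inv_inv]; rfl
    refine ⟨n, fun i => z i.val • S, fun i => rc (z (i.val + 1))⁻¹ (Y i),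
      fun i => z i.val * y i * (z i.val)⁻¹, ?_, ?_, fun i => ⟨?_, ?_, ?_, ?_, ?_⟩⟩
    · show z 0 • S = S
      simp [hz]
    · have hzn : z n = v * y0⁻¹ := by
        rw [hz, hg]
        show ((List.ofFn y).take n).prod = _
        rw [List.take_of_length_le (by simp)]
        group
      show z n • S = T
      rw [hzn, mul_smul, Sylow.smul_eq_iff_mem_normalizer.2 (inv_mem hy0), hv]
    · have h1 := members_rc h𝓕 (z i.val)⁻¹ (hY i).1
      show rc (z (i.val + 1))⁻¹ (Y i) ∈ _
      rw [hzs i, mul_inv_rev, ← rc_rc, rc_self (inv_mem (hY i).2)]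
      show _ ∈ Cfsg.sylowMembers p 𝓕 ((z i.val • S : Sylow p G) : Subgroup G)
      rw [hc]
      exact h1
    · have h1 := members_rc h𝓕 (z (i.val + 1))⁻¹ (hY i).1
      show _ ∈ Cfsg.sylowMembers p 𝓕 ((z (i.val + 1) • S : Sylow p G) : Subgroup G)
      rw [hc]
      exact h1
    · show z i.val * y i * (z i.val)⁻¹ ∈ rc (z (i.val + 1))⁻¹ (Y i)
      rw [mem_rc, hzs i]
      simpa [mul_assoc] using (hY i).2
    · show rc _ ((z (i.val + 1) • S : Sylow p G) : Subgroup G) = ((z i.val • S : Sylow p G) : Subgroup G)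
      rw [hc, hc, rc_rc, hzs i]
      congr 1
      group
    · intro d hd
      have h1 := hsub i ⟨d, hd, rfl⟩
      refine Subgroup.mem_inf.2 ⟨?_, ?_⟩
      · show d ∈ ((z (i.val + 1) • S : Sylow p G) : Subgroup G)
        rw [hc, mem_rc, inv_inv]
        exact h1.1
      · rw [mem_rc]
        simpa [hz, mul_assoc] using h1.2

end Cfsg.Agent.S2939
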