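import Cfsg.Statements.S2940
import Cfsg.Agent.Lib.Solv.Basic
import Cfsg.Prelude.Def_SylowControl
-- import your own Cfsg.Agent.* helpers here

set_option autoImplicit false
open Cfsg

namespace Cfsg.Agent.S2940

/-- Let S be a Sylow p-subgroup of the finite group G and G₁, G₂ subgroups containing S with G = G₁G₂. Then for every g ∈ G there is a Sylow p-subgroup U of G with S ∩ S^g ≤ U ≤ G₁ ∩ G₂^g (conjugates taken as X^g = g⁻¹Xg). -/
theorem result {G : Type*} [Group G] [Finite G] {p : ℕ} [Fact p.Prime] (S : Sylow p G) (G₁ G₂ : Subgroup G) (h1 : (S : Subgroup G) ≤ G₁) (h2 : (S : Subgroup G) ≤ G₂) (hfact : ∀ g : G, ∃ g₁ ∈ G₁, ∃ g₂ ∈ G₂, g = g₁ * g₂) (g : G) : ∃ U : Sylow p G, (S : Subgroup G) ⊓ Cfsg.subgroupConjRight g (S : Subgroup G) ≤ (U : Subgroup G) ∧ (U : Subgroup G) ≤ G₁ ⊓ Cfsg.subgroupConjRight g G₂ := by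
  classical
  obtain ⟨a, ha, b, hb, hab⟩ := hfact g⁻¹
  have hgab : g = b⁻¹ * a⁻¹ := by rw [← mul_inv_rev, ← hab, inv_inv]
  set K := G₁ ⊓ subgroupConjRight g G₂ with hK
  have hSa : ((a • S : Sylow p G) : Subgroup G) ≤ K := by
    rintro _ ⟨s, hs, rfl⟩
    refine Subgroup.mem_inf.2 ⟨mul_mem (mul_mem ha (h1 hs)) (inv_mem ha), ?_⟩
    refine ⟨b⁻¹ * s * b, mul_mem (mul_mem (inv_mem hb) (h2 hs)) hb, ?_⟩
    show g⁻¹ * (b⁻¹ * s * b) * g⁻¹⁻¹ = a * s * a⁻¹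
    rw [hgab]; group
  have hD : (S : Subgroup G) ⊓ subgroupConjRight g (S : Subgroup G) ≤ K := fun x hx =>
    Subgroup.mem_inf.2 ⟨h1 hx.1, Subgroup.map_mono h2 hx.2⟩
  obtain ⟨Q, hQ⟩ := ((S.isPGroup'.to_le (inf_le_left : (S : Subgroup G) ⊓ subgroupConjRight g (S : Subgroup G) ≤ _)).comap_of_injective
    K.subtype K.subtype_injective).exists_le_sylow
  obtain ⟨k, hk⟩ := MulAction.exists_smul_eq K ((a • S).subtype hSa) Q
  rw [Sylow.smul_subtype] at hk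
  refine ⟨(k : G) • (a • S), fun x hx => ?_, ?_⟩
  · have h3 : (⟨x, hD hx⟩ : K) ∈ (Q : Subgroup K) := hQ hx
    rw [← hk] at h3
    exact h3
  · rintro _ ⟨y, hy, rfl⟩
    exact mul_mem (mul_mem k.2 (hSa hy)) (inv_mem k.2)

end Cfsg.Agent.S2940
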