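import Cfsg.Statements.S2941
import Cfsg.Agent.Lib.Solv.Basic
import Cfsg.Prelude.Def_JComponents
-- import your own Cfsg.Agent.* helpers here

set_option autoImplicit false
open Cfsg

namespace Cfsg.Agent.S2941
open Cfsg.Agent
open scoped commutatorElement

theorem mem_normalizer_of_maps {G : Type*} [Group G] [Finite G] (N : Subgroup G) {g : G}
    (h : ∀ n ∈ N, g * n * g⁻¹ ∈ N) : g ∈ Subgroup.normalizer (N : Set G) := by
  have he : N.map (MulAut.conj g).toMonoidHom = N :=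
    Subgroup.eq_of_le_of_card_ge (by rintro _ ⟨n, hn, rfl⟩; exact h n hn)
      (by rw [Subgroup.card_map_of_injective (MulAut.conj g).injective])
  rw [Subgroup.mem_normalizer_iff]
  refine fun n => ⟨h n, fun hn => ?_⟩
  obtain ⟨z, hz, e⟩ := he.symm ▸ hn
  rwa [(MulAut.conj g).injective (e : MulAut.conj g z = MulAut.conj g n)] at hz


/-- Let G be a finite group of characteristic 2 type in which every 2-local subgroup is solvable and the centralizer of Ω₁(Z(S)) lies in N_G(S) for every Sylow 2-subgroup S, and let T be a nontrivial 2-subgroup and K a J(T)-component (J the Thompson subgroup generated by the elementary abelian 2-subgroups of largest order). If a subgroup Q is normalized by ⟨K, J(T)⟩ and normalizes J(T), then Q normalizes K. -/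
theorem result {G : Type*} [Group G] [Finite G] (hL : Cfsg.IsCharacteristicTwoType G) (hN : ∀ N : Subgroup G, Cfsg.IsTwoLocal N → Group.IsSolvable ↥N)
    (hZ : ∀ S : Sylow 2 G, Subgroup.centralizer (Cfsg.omegaCenterOf (S : Subgroup G) : Set G) ≤ Subgroup.normalizer ((S : Subgroup G) : Set G)) (T : Subgroup G) (hT : IsPGroup 2 ↥T) (hT1 : T ≠ ⊥) (K : Subgroup G) (hK : Cfsg.IsJComponent T K)
    (Q : Subgroup G) (hQ1 : K ⊔ Cfsg.thompsonSubgroupOf 2 T ≤ Subgroup.normalizer (Q : Set G)) (hQ2 : Q ≤ Subgroup.normalizer (Cfsg.thompsonSubgroupOf 2 T : Set G)) :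
    Q ≤ Subgroup.normalizer (K : Set G) := by
  skip
  classical
  obtain ⟨hgen, hcomm, -⟩ := hK
  set J := Cfsg.thompsonSubgroupOf 2 T with hJdef
  have hJp : IsPGroup 2 J := hT.to_le (Subgroup.map_subtype_le _)
  set H := K ⊔ J with hH
  have hKH : K ≤ H := le_sup_left
  have hJH : J ≤ H := le_sup_right
  have hKn : H ≤ Subgroup.normalizer (K : Set G) := by
    refine sup_le Subgroup.le_normalizer fun j hj => mem_normalizer_of_maps K fun x hx => ?_
    have h1 : K ≤ K.comap (MulAut.conj j).toMonoidHom := by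
      conv_lhs => rw [← hcomm]
      rw [Subgroup.commutator_le]
      intro k hk j' hj'
      show j * ⁅k, j'⁆ * j⁻¹ ∈ K
      have e1 : ⁅k, j⁆ ∈ K := (SetLike.ext_iff.1 hcomm _).1 (Subgroup.commutator_mem_commutator hk hj)
      have e2 : ⁅k, j * j'⁆ ∈ K := (SetLike.ext_iff.1 hcomm _).1 (Subgroup.commutator_mem_commutator hk (mul_mem hj hj'))
      have := mul_mem (inv_mem e1) e2
      rwa [show ⁅k, j⁆⁻¹ * ⁅k, j * j'⁆ = j * ⁅k, j'⁆ * j⁻¹ by simp only [commutatorElement_def]; group] at this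
    exact h1 hx
  intro q hq
  have hqJ : ∀ j ∈ J, q * j * q⁻¹ ∈ J := fun j hj => (Subgroup.mem_normalizer_iff.1 (hQ2 hq) j).1 hj
  have hK1 : K ≤ H.comap (MulAut.conj q).toMonoidHom := by
    conv_lhs => rw [← hcomm]
    rw [Subgroup.commutator_le]
    intro k hk j hj
    show q * ⁅k, j⁆ * q⁻¹ ∈ H
    set j' := q * j * q⁻¹ with hj'
    set r := k⁻¹ * q * k * q⁻¹ with hr
    have hrQ : r ∈ Q := mul_mem ((Subgroup.mem_normalizer_iff''.1 (hQ1 (hKH hk)) q).1 hq) (inv_mem hq)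
    have hrJ : r * j' * r⁻¹ * j'⁻¹ ∈ J := mul_mem ((Subgroup.mem_normalizer_iff.1 (hQ2 hrQ) _).1 (hqJ j hj)) (inv_mem (hqJ j hj))
    have h1 : k * (r * j' * r⁻¹ * j'⁻¹) * k⁻¹ * (k * j' * k⁻¹ * j'⁻¹) ∈ H :=
      mul_mem (mul_mem (mul_mem (hKH hk) (hJH hrJ)) (inv_mem (hKH hk)))
        (mul_mem (mul_mem (mul_mem (hKH hk) (hJH (hqJ j hj))) (inv_mem (hKH hk))) (inv_mem (hJH (hqJ j hj))))
    have e : q * ⁅k, j⁆ * q⁻¹ = k * (r * j' * r⁻¹ * j'⁻¹) * k⁻¹ * (k * j' * k⁻¹ * j'⁻¹) := by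
      rw [hr, hj', commutatorElement_def]; group
    rw [e]; exact h1
  have hodd : ∀ h ∈ H, Odd (orderOf h) → h ∈ K := by
    intro h hh ho
    haveI : (K.subgroupOf H).Normal := (Subgroup.normal_subgroupOf_iff_le_normalizer hKH).2 hKn
    obtain ⟨k, hk, j, hj, e⟩ := Subgroup.mem_sup_of_normal_left.1
      (show (⟨h, hh⟩ : H) ∈ K.subgroupOf H ⊔ J.subgroupOf H by
        rw [← Subgroup.subgroupOf_sup hKH hJH, Subgroup.subgroupOf_self]; trivial)
    let π := QuotientGroup.mk' (K.subgroupOf H)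
    have hπ : π ⟨h, hh⟩ = π j := by
      rw [← e, map_mul, (show π k = 1 from (QuotientGroup.eq_one_iff k).2 hk), one_mul]
    obtain ⟨t, ht⟩ := IsPGroup.iff_orderOf.1 hJp ⟨(j : G), Subgroup.mem_subgroupOf.1 hj⟩
    rw [Subgroup.orderOf_mk] at ht
    have h1 : orderOf (π j) ∣ 2 ^ t := (orderOf_map_dvd π j).trans (by rw [← Subgroup.orderOf_coe, ht])
    have h2 : orderOf (π j) ∣ orderOf h := by
      rw [← hπ]; exact (orderOf_map_dvd π _).trans (by rw [Subgroup.orderOf_mk])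
    have h3 : π ⟨h, hh⟩ = 1 := by
      rw [hπ, ← orderOf_eq_one_iff]
      exact Nat.eq_one_of_dvd_coprimes (Nat.Coprime.pow_left t (Nat.coprime_two_left.2 ho)) h1 h2
    exact Subgroup.mem_subgroupOf.1 ((QuotientGroup.eq_one_iff _).1 h3)
  refine mem_normalizer_of_maps K fun x hx => ?_
  have h2 : Subgroup.closure {g : G | g ∈ K ∧ Odd (orderOf g)} ≤ K.comap (MulAut.conj q).toMonoidHom := by
    rw [Subgroup.closure_le]
    rintro g ⟨hg, hgo⟩
    refine hodd _ (hK1 hg) ?_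
    rw [orderOf_injective (MulAut.conj q).toMonoidHom (MulAut.conj q).injective g]
    exact hgo
  exact h2 (hgen.symm ▸ hx)

end Cfsg.Agent.S2941
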