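import Cfsg.Statements.S2947
import Cfsg.Agent.Lib.Local.StronglyPEmbeddedCriteria
import Cfsg.Prelude.Def_JComponents
import Cfsg.Prelude.Def_Involutions
-- import your own Cfsg.Agent.* helpers here

set_option autoImplicit false
open Cfsg

namespace Cfsg.Agent.S2947
open Cfsg.Agent


/-- Let G be a finite group of characteristic 2 type in which every 2-local subgroup is solvable and the centralizer of Ω₁(Z(S)) lies in N_G(S) for every Sylow 2-subgroup S; suppose O₂(G) = 1, fix a Sylow 2-subgroup S and a 2-local subgroup M containing N_G(J(S)) (J the Thompson subgroup generated by the elementary abelian 2-subgroups of largest order). Then M is strongly embedded in G (a proper subgroup of even order whose intersection with each conjugate by an element outside M has odd order) if and only if no nontrivial 2-subgroup of M lies in a 2-local subgroup of G not contained in M. -/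
theorem result {G : Type*} [Group G] [Finite G] (hL : Cfsg.IsCharacteristicTwoType G) (hN : ∀ N : Subgroup G, Cfsg.IsTwoLocal N → Group.IsSolvable ↥N)
    (hZ : ∀ S : Sylow 2 G, Subgroup.centralizer (Cfsg.omegaCenterOf (S : Subgroup G) : Set G) ≤ Subgroup.normalizer ((S : Subgroup G) : Set G)) (hO : Cfsg.pCore 2 G = ⊥) (S : Sylow 2 G) (M : Subgroup G) (hM : Cfsg.IsTwoLocal M)
    (hMJ : Subgroup.normalizer (Cfsg.thompsonSubgroupOf 2 (S : Subgroup G) : Set G) ≤ M) :
    Cfsg.IsStronglyEmbedded M ↔ Cfsg.straddlingTwoSubgroups M = ∅ := by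
  skip
  classical
  haveI : Fact (Nat.Prime 2) := ⟨Nat.prime_two⟩
  obtain ⟨T0, hT0, hT01, hMT0⟩ := hM
  have hT0M : T0 ≤ M := hMT0 ▸ Subgroup.le_normalizer
  have hne : M ≠ ⊤ := fun e => hT01 (by
    haveI : T0.Normal := Subgroup.normalizer_eq_top_iff.1 (hMT0 ▸ e)
    exact le_bot_iff.1 (hO ▸ Cfsg.Agent.Solv.le_pCore hT0))
  have h2M : 2 ∣ Nat.card M := by
    obtain ⟨k, hk⟩ := IsPGroup.iff_card.1 hT0
    rcases k with _ | k
    · exact absurd (Subgroup.card_eq_one.1 (by simpa using hk)) hT01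
    · exact (hk ▸ dvd_pow_self 2 k.succ_ne_zero).trans (Subgroup.card_dvd_of_le hT0M)
  constructor
  · rintro ⟨-, -, hodd⟩
    have hyp : Cfsg.Agent.Local.SPE.Hyp 2 M := fun g hg hd => (Nat.not_even_iff_odd.2 (hodd g hg)) (even_iff_two_dvd.2 hd)
    refine Set.eq_empty_iff_forall_notMem.2 fun T ⟨hT, hT1, hTM, L, ⟨U, hU, hU1, hLU⟩, hTL, hLM⟩ => hLM ?_
    have hTN : T ≤ Subgroup.normalizer (U : Set G) := hLU ▸ hTL
    have hle : T ⊔ U ≤ M := by
      refine Cfsg.Agent.Local.SPE.le_of_inf_ne_bot hyp (IsPGroup.to_sup_of_normal_right' hT hU hTN) fun e => hT1 ?_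
      exact le_bot_iff.1 (e ▸ le_inf le_sup_left hTM)
    intro g hg
    refine Cfsg.Agent.Local.SPE.mem_of_conj_le hyp hU hU1 (le_sup_right.trans hle) (g := g) ?_
    rintro _ ⟨x, hx, rfl⟩
    exact (le_sup_right.trans hle) ((Subgroup.mem_normalizer_iff.1 (hLU ▸ hg) x).1 hx)
  · intro hempty
    have h1 : Cfsg.IsStronglyPEmbedded 2 M := (Cfsg.Agent.Local.SPE.iff_normalizer_le hne h2M).2 fun A hA hAp hA1 => by
      by_contra hn
      exact Set.eq_empty_iff_forall_notMem.1 hempty A ⟨hAp, hA1, hA, _, ⟨A, hAp, hA1, rfl⟩, Subgroup.le_normalizer, hn⟩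
    refine ⟨hne, even_iff_two_dvd.2 h2M, fun g hg => Nat.not_even_iff_odd.1 fun he => ?_⟩
    exact Cfsg.Agent.Local.SPE.hyp_of h1 g hg (even_iff_two_dvd.1 he)

end Cfsg.Agent.S2947
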