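import Cfsg.Statements.S2955
import Cfsg.Agent.Lib.Solv.Basic
import Cfsg.Prelude.Def_SylowControl
import Cfsg.Prelude.Def_SylowChains
-- import your own Cfsg.Agent.* helpers here

set_option autoImplicit false
open Cfsg

namespace Cfsg.Agent.S2955

/-- Let p be a prime dividing the order of the finite group G and 𝓕 a conjugation-closed family of subgroups that controls Sylow p-intersections in G. Suppose the Sylow p-subgroups of G are chain-connected: any two of them are joined by a chain of Sylow p-subgroups, consecutive ones distinct with nontrivial intersection, all containing the intersection of the two ends (equivalently, the graph on the Sylow p-subgroups whose edges are the distinct pairs meeting nontrivially is connected). Then for every Sylow p-subgroup S, G is generated by N_G(S) together with the members of 𝓕 that meet S in a Sylow p-subgroup of themselves. -/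
theorem result {G : Type*} [Group G] [Finite G] (p : ℕ) [Fact p.Prime] (hdiv : p ∣ Nat.card G)
    (𝓕 : Set (Subgroup G)) (h𝓕 : Cfsg.IsNormalSet 𝓕) (hc : Cfsg.ControlsSylowIntersections p 𝓕)
    (hconn : Cfsg.IsSylowChainConnected p G) (S : Sylow p G) :
    (⨆ X ∈ Cfsg.sylowMembers p 𝓕 (S : Subgroup G), X) ⊔ Subgroup.normalizer ((S : Subgroup G) : Set G) = ⊤ := by
  classical
  set H := (⨆ X ∈ sylowMembers p 𝓕 (S : Subgroup G), X) ⊔ Subgroup.normalizer ((S : Subgroup G) : Set G) with hH
  have hmem : ∀ (h : G) (X : Subgroup G), X ∈ sylowMembers p 𝓕 ((h • S : Sylow p G) : Subgroup G) →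
      subgroupConjRight h X ∈ sylowMembers p 𝓕 (S : Subgroup G) := by
    rintro h X ⟨hX, P, hP⟩
    refine ⟨h𝓕 X hX h, ?_⟩
    set Y := subgroupConjRight h X
    have hmap : (((h • S : Sylow p G) : Subgroup G) ⊓ X).map (MulAut.conj h⁻¹).toMonoidHom = (S : Subgroup G) ⊓ Y := by
      rw [Subgroup.map_inf _ _ _ (MulAut.conj h⁻¹).injective]
      congr 1
      ext y
      constructor
      · rintro ⟨_, ⟨s, hs, rfl⟩, rfl⟩
        show h⁻¹ * (h * s * h⁻¹) * h⁻¹⁻¹ ∈ (S : Subgroup G)
        rw [show h⁻¹ * (h * s * h⁻¹) * h⁻¹⁻¹ = s by group]; exact hs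
      · intro hy
        refine ⟨h * y * h⁻¹, ⟨y, hy, rfl⟩, ?_⟩
        show h⁻¹ * (h * y * h⁻¹) * h⁻¹⁻¹ = y
        group
    have hidx : ¬ p ∣ (((S : Subgroup G) ⊓ Y).subgroupOf Y).index := by
      intro hd
      refine P.not_dvd_index (hd.trans (dvd_of_eq ?_))
      show ((S : Subgroup G) ⊓ Y).relIndex Y = _
      rw [← hmap]
      refine (Subgroup.relIndex_map_map_of_injective _ X (MulAut.conj h⁻¹).injective).trans ?_
      rw [← hP]
      show (((P : Subgroup X).map X.subtype).subgroupOf X).index = _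
      rw [Subgroup.subgroupOf, Subgroup.comap_map_eq_self_of_injective X.subtype_injective]
    exact ⟨((S.isPGroup'.to_le inf_le_left : IsPGroup p ((S : Subgroup G) ⊓ Y : Subgroup G)).comap_of_injective
      Y.subtype Y.subtype_injective).toSylow hidx, Subgroup.map_subgroupOf_eq_of_le inf_le_right⟩
  have hcstep : ∀ A B : Sylow p G, (∃ h ∈ H, h • S = A) → A ≠ B → (A : Subgroup G) ⊓ (B : Subgroup G) ≠ ⊥ →
      ∃ h ∈ H, h • S = B := by
    intro A B hA hAB hint
    obtain ⟨n, c, X, x, hc0, hcn, hstep⟩ := hc A B hAB hint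
    have key : ∀ (j : ℕ) (hj : j < n + 1), ∃ h ∈ H, h • S = c ⟨j, hj⟩ := by
      intro j
      induction j with
      | zero => intro _; obtain ⟨h, hh, e⟩ := hA; exact ⟨h, hh, e.trans hc0.symm⟩
      | succ j ih =>
        intro hj
        obtain ⟨h, hh, e⟩ := ih (by omega)
        obtain ⟨hX1, -, hxX, hconj, -⟩ := hstep ⟨j, by omega⟩
        set i : Fin n := ⟨j, by omega⟩
        have e' : h • S = c i.castSucc := e
        have hm := hmem h (X i) (e' ▸ hX1)
        have h1 : h⁻¹ * x i * h ∈ H := by
          refine Subgroup.mem_sup_left (Subgroup.mem_iSup_of_mem (subgroupConjRight h (X i)) (Subgroup.mem_iSup_of_mem hm ?_))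
          exact ⟨x i, hxX, by simp [mul_assoc]⟩
        refine ⟨x i * h, by simpa [mul_assoc] using mul_mem hh h1, ?_⟩
        rw [mul_smul, e']
        apply Sylow.ext
        show ((c i.castSucc : Subgroup G)).map (MulAut.conj (x i)).toMonoidHom = (c i.succ : Subgroup G)
        rw [← hconj, subgroupConjRight, Subgroup.map_map]
        convert Subgroup.map_id _
        ext; simp [mul_assoc]
    obtain ⟨h, hh, e⟩ := key n (Nat.lt_succ_self n)
    exact ⟨h, hh, e.trans hcn⟩
  refine top_le_iff.1 fun g _ => ?_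
  obtain ⟨n, c, hc0, hcn, -, hstep⟩ := hconn S (g • S)
  have key : ∀ (j : ℕ) (hj : j < n + 1), ∃ h ∈ H, h • S = c ⟨j, hj⟩ := by
    intro j
    induction j with
    | zero => intro _; exact ⟨1, one_mem _, (one_smul G S).trans hc0.symm⟩
    | succ j ih => intro hj; exact hcstep _ _ (ih (by omega)) (hstep ⟨j, by omega⟩).1 (hstep ⟨j, by omega⟩).2
  obtain ⟨h, hh, e⟩ := key n (Nat.lt_succ_self n)
  have e' : h • S = g • S := e.trans hcn
  have hN : h⁻¹ * g ∈ H := Subgroup.mem_sup_right (Sylow.smul_eq_iff_mem_normalizer.1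
    (by rw [mul_smul, ← e', inv_smul_smul]))
  simpa using mul_mem hh hN

end Cfsg.Agent.S2955
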