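import Cfsg.Statements.S2956
import Cfsg.Agent.S2939
import Cfsg.Agent.Lib.Solv.Basic
-- import your own Cfsg.Agent.* helpers here

set_option autoImplicit false
open Cfsg

namespace Cfsg.Agent.S2956
open Cfsg.Agent

variable {G : Type*} [Group G]

/-- One link of a chain over the family `F` through members containing `D`. -/
def Link {p : ℕ} (F : Set (Subgroup G)) (D : Subgroup G) (S T : Sylow p G) : Prop :=
  ∃ (X : Subgroup G) (x : G), X ∈ Cfsg.sylowMembers p F (S : Subgroup G) ∧
    X ∈ Cfsg.sylowMembers p F (T : Subgroup G) ∧ x ∈ X ∧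
    Cfsg.subgroupConjRight x (T : Subgroup G) = (S : Subgroup G) ∧
    D ≤ X ∧ D ≤ (S : Subgroup G) ∧ D ≤ (T : Subgroup G)

/-- Chains of links. -/
def Linked {p : ℕ} (F : Set (Subgroup G)) (D : Subgroup G) (S T : Sylow p G) : Prop :=
  Relation.ReflTransGen (Link F D) S T

theorem Linked.trans {p : ℕ} {F : Set (Subgroup G)} {D : Subgroup G} {S T U : Sylow p G}
    (h1 : Linked F D S T) (h2 : Linked F D T U) : Linked F D S U :=
  Relation.ReflTransGen.trans h1 h2

theorem Linked.mono {p : ℕ} {F : Set (Subgroup G)} {D D' : Subgroup G} (h : D ≤ D') {S T : Sylow p G}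
    (hl : Linked F D' S T) : Linked F D S T := by
  refine Relation.ReflTransGen.mono ?_ _ _ hl
  rintro A B ⟨X, x, h1, h2, h3, h4, h5, h6, h7⟩
  exact ⟨X, x, h1, h2, h3, h4, h.trans h5, h.trans h6, h.trans h7⟩

theorem exists_chain {p : ℕ} {F : Set (Subgroup G)} {D : Subgroup G} {S T : Sylow p G} (h : Linked F D S T) :
    ∃ (n : ℕ) (c : Fin (n + 1) → Sylow p G) (X : Fin n → Subgroup G) (x : Fin n → G),
      c 0 = S ∧ c (Fin.last n) = T ∧ ∀ i : Fin n,
        X i ∈ Cfsg.sylowMembers p F (c i.castSucc : Subgroup G) ∧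
        X i ∈ Cfsg.sylowMembers p F (c i.succ : Subgroup G) ∧ x i ∈ X i ∧
        Cfsg.subgroupConjRight (x i) (c i.succ : Subgroup G) = (c i.castSucc : Subgroup G) ∧
        D ≤ X i ∧ D ≤ (c i.castSucc : Subgroup G) ∧ D ≤ (c i.succ : Subgroup G) := by
  induction h using Relation.ReflTransGen.head_induction_on with
  | refl => exact ⟨0, fun _ => T, Fin.elim0, Fin.elim0, rfl, rfl, Fin.rec0⟩
  | @head A B hAB _ ih =>
    obtain ⟨n, c, X, x, h0, hn, hs⟩ := ih
    obtain ⟨Y, y, h1, h2, h3, h4, h5, h6, h7⟩ := hAB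
    refine ⟨n + 1, Fin.cons A c, Fin.cons Y X, Fin.cons y x, rfl, ?_, ?_⟩
    · rw [← Fin.succ_last, Fin.cons_succ, hn]
    · intro i
      induction i using Fin.cases with
      | zero => simp only [Fin.castSucc_zero, Fin.cons_zero, Fin.cons_succ, h0]; exact ⟨h1, h2, h3, h4, h5, h6, h7⟩
      | succ j => simp only [Fin.cons_succ, ← Fin.succ_castSucc]; exact hs j


/-- Let p be a prime dividing the order of the finite group G, and f an assignment to every p-subgroup P of a set f(P) of subgroups of P, each normalized by N_G(P), compatible with conjugation, such that for P ≠ 1 the members of f(P) are nontrivial. Let 𝓕 be the family of the normalizers N_G(F) of the members F of f(S) over the Sylow p-subgroups S of G, and 𝓕' the family of the maximal p-local subgroups M of G that are singular for f (the corresponding family of normalizers inside M does not control Sylow p-intersections in M). Then 𝓕 ∪ 𝓕' controls Sylow p-intersections in G. -/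
theorem result {G : Type*} [Group G] [Finite G] (p : ℕ) [Fact p.Prime] (hdiv : p ∣ Nat.card G)
    (f : Subgroup G → Set (Subgroup G)) (hf : Cfsg.IsNormalizerFunctor p f)
    (hf1 : ∀ P : Subgroup G, IsPGroup p ↥P → P ≠ ⊥ → ∀ F ∈ f P, F ≠ ⊥)
    (𝓕 𝓕' : Set (Subgroup G)) (h𝓕 : 𝓕 = Cfsg.functorFamily p f ⊤)
    (h𝓕' : 𝓕' = {M | Cfsg.IsMaximalPLocal p M ∧ ¬ Cfsg.IsFunctorRegular p f M}) :
    Cfsg.ControlsSylowIntersections p (𝓕 ∪ 𝓕') := by
  skip
  classical
  subst h𝓕 h𝓕'
  set Fam := Cfsg.functorFamily p f ⊤ ∪ {M | Cfsg.IsMaximalPLocal p M ∧ ¬ Cfsg.IsFunctorRegular p f M} with hFam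
  have hmax : ∀ E : Subgroup G, IsPGroup p E → E ≠ ⊥ →
      ∃ M, Cfsg.IsMaximalPLocal p M ∧ Subgroup.normalizer (E : Set G) ≤ M := by
    intro E hE hE1
    obtain ⟨M, ⟨hM, hNM⟩, hMmax⟩ := (Set.toFinite {N : Subgroup G | Cfsg.IsPLocal p N ∧
      Subgroup.normalizer (E : Set G) ≤ N}).exists_maximal ⟨_, ⟨E, hE, hE1, rfl⟩, le_rfl⟩
    exact ⟨M, ⟨hM, fun N hN hMN => le_antisymm (hMmax (y := N) ⟨hN, hNM.trans hMN⟩ hMN) hMN⟩, hNM⟩
  have hext : ∀ (M : Subgroup G) (U : Sylow p M), ∃ S : Sylow p G,
      (U : Subgroup M).map M.subtype = (S : Subgroup G) ⊓ M := by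
    intro M U
    obtain ⟨S, hS⟩ := (U.isPGroup'.map M.subtype).exists_le_sylow
    refine ⟨S, le_antisymm (le_inf hS (Subgroup.map_subtype_le _)) ?_⟩
    have h1 : ((S : Subgroup G).subgroupOf M) = (U : Subgroup M) :=
      U.is_maximal' (S.isPGroup'.comap_subtype (K := M)) fun u hu => hS ⟨u, hu, rfl⟩
    rw [← h1, Subgroup.subgroupOf_map_subtype]
  have hgrow : ∀ (U : Subgroup G), IsPGroup p U → ∀ S : Sylow p G, U ≤ (S : Subgroup G) → U ≠ (S : Subgroup G) →
      U < (S : Subgroup G) ⊓ Subgroup.normalizer (U : Set G) := by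
    intro U hU S hUS hne
    refine lt_of_le_of_ne (le_inf hUS Subgroup.le_normalizer) fun e => hne ?_
    haveI := S.isPGroup'.isNilpotent
    by_contra hne'
    have hlt : U.subgroupOf (S : Subgroup G) < ⊤ := lt_top_iff_ne_top.2 fun h =>
      hne' (le_antisymm hUS (Subgroup.subgroupOf_eq_top.1 h))
    obtain ⟨g, hg1, hg2⟩ := SetLike.exists_of_lt
      ((Group.normalizerCondition_of_isNilpotent (G := (S : Subgroup G))) _ hlt)
    refine hg2 ?_
    show (g : G) ∈ U
    rw [e]
    refine Subgroup.mem_inf.2 ⟨g.2, Subgroup.mem_normalizer_iff.2 fun x => ⟨fun hx => ?_, fun hx => ?_⟩⟩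
    · exact (Subgroup.mem_normalizer_iff.1 hg1 ⟨x, hUS hx⟩).1 hx
    · have hxS : x ∈ (S : Subgroup G) := by
        simpa [mul_assoc] using mul_mem (mul_mem (inv_mem g.2) (hUS hx)) g.2
      exact (Subgroup.mem_normalizer_iff.1 hg1 ⟨x, hxS⟩).2 hx
  -- main claim
  suffices hlink : ∀ (k : ℕ) (D : Subgroup G), Nat.card G - Nat.card D < k → IsPGroup p D → D ≠ ⊥ →
      ∀ S T : Sylow p G, D ≤ (S : Subgroup G) → D ≤ (T : Subgroup G) → Linked Fam D S T by
    intro S T _ hne
    set D := (S : Subgroup G) ⊓ (T : Subgroup G) with hD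
    obtain ⟨n, c, X, x, h0, hn, hstep⟩ := exists_chain
      (hlink _ D (Nat.lt_succ_self _) (S.isPGroup'.to_le inf_le_left) hne S T inf_le_left inf_le_right)
    refine ⟨n, c, X, x, h0, hn, fun i => ?_⟩
    obtain ⟨h1, h2, h3, h4, h5, h6, h7⟩ := hstep i
    exact ⟨h1, h2, h3, h4, le_inf h7 h5⟩
  intro k
  induction k with
  | zero => intro D h; omega
  | succ k ih =>
  intro D hDk hDp hD1 S T hDS hDT
  have bigger : ∀ D' : Subgroup G, D < D' → IsPGroup p D' → ∀ S T : Sylow p G,
      D' ≤ (S : Subgroup G) → D' ≤ (T : Subgroup G) → Linked Fam D S T := by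
    intro D' hlt hp' S T h1 h2
    refine Linked.mono hlt.le (ih D' ?_ hp' (ne_bot_of_le_ne_bot hD1 hlt.le) S T h1 h2)
    have h3 : Nat.card D < Nat.card D' := by
      by_contra h
      exact hlt.ne (Subgroup.eq_of_le_of_card_ge hlt.le (not_lt.1 h))
    have h4 : Nat.card D' ≤ Nat.card G := Nat.le_of_dvd Nat.card_pos (Subgroup.card_subgroup_dvd_card D')
    omega
  by_cases hDS' : D = (S : Subgroup G)
  · have hST : S = T := Sylow.ext (T.isPGroup'.to_le le_rfl |> fun h => (S.is_maximal' h (hDS' ▸ hDT)).symm)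
    subst hST
    exact Relation.ReflTransGen.refl
  have hDT' : D ≠ (T : Subgroup G) := by
    intro h
    exact hDS' (by
      have h2 : (S : Subgroup G) = (T : Subgroup G) := T.is_maximal' S.isPGroup' (h ▸ hDS)
      rw [h, h2])
  -- the claim inside maximal local subgroups
  have hB : ∀ (j : ℕ) (M : Subgroup G) (U : Sylow p M), Nat.card G - Nat.card U < j → Cfsg.IsMaximalPLocal p M →
      ∀ S T : Sylow p G, (∃ A : Sylow p M, (A : Subgroup M).map M.subtype = (S : Subgroup G) ⊓ M) →
        (∃ B : Sylow p M, (B : Subgroup M).map M.subtype = (T : Subgroup G) ⊓ M) →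
        D < (S : Subgroup G) ⊓ M → D < (T : Subgroup G) ⊓ M → Linked Fam D S T := by
    intro j
    induction j with
    | zero => intro M U h; omega
    | succ j ihj =>
    intro M U hUj hM S T ⟨A, hA⟩ ⟨B, hB⟩ hSD hTD
    by_cases hreg : Cfsg.IsFunctorRegular p f M
    swap
    · obtain ⟨m, hm⟩ := MulAction.exists_smul_eq M A B
      have hT'A : (S : Subgroup G) ⊓ M ≤ ((((m : G))⁻¹ • T : Sylow p G) : Subgroup G) := by
        intro x hx
        rw [← hA] at hx
        obtain ⟨a, ha, rfl⟩ := hx
        have h1 : m * a * m⁻¹ ∈ (B : Subgroup M) := by rw [← hm]; exact ⟨a, ha, rfl⟩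
        have h2 : ((m * a * m⁻¹ : M) : G) ∈ (T : Subgroup G) ⊓ M := hB ▸ ⟨_, h1, rfl⟩
        exact ⟨_, (Subgroup.mem_inf.1 h2).1, by simp [mul_assoc]⟩
      set T' : Sylow p G := ((m : G))⁻¹ • T with hT'
      refine (bigger _ hSD (S.isPGroup'.to_le inf_le_left) S T' inf_le_left hT'A).trans
        (Relation.ReflTransGen.single ⟨M, m, ⟨Or.inr ⟨hM, hreg⟩, A, ?_⟩, ⟨Or.inr ⟨hM, hreg⟩, B, hB⟩, m.2, ?_,
          hSD.le.trans inf_le_right, hSD.le.trans hT'A, hTD.le.trans inf_le_left⟩)
      · refine le_antisymm (le_inf (hA.le.trans hT'A) (Subgroup.map_subtype_le _)) ?_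
        have h1 : ((T' : Subgroup G).subgroupOf M) = (A : Subgroup M) :=
          A.is_maximal' (T'.isPGroup'.comap_subtype (K := M)) fun u hu =>
            hT'A (hA.le ⟨u, hu, rfl⟩)
        rw [← h1, Subgroup.subgroupOf_map_subtype]
      · show (T : Subgroup G).map (MulAut.conj ((m : G))⁻¹).toMonoidHom = (T' : Subgroup G)
        rfl
    · have hSM : D ≤ M := hSD.le.trans inf_le_right
      -- chain in `M`
      obtain ⟨n, c, X, x, hc0, hcn, hstep⟩ : ∃ (n : ℕ) (c : Fin (n + 1) → Sylow p M) (X : Fin n → Subgroup M) (x : Fin n → M),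
          c 0 = A ∧ c (Fin.last n) = B ∧ ∀ i : Fin n,
            X i ∈ Cfsg.sylowMembers p ((fun X : Subgroup G => X.subgroupOf M) '' Cfsg.functorFamily p f M) (c i.castSucc : Subgroup M) ∧
            X i ∈ Cfsg.sylowMembers p ((fun X : Subgroup G => X.subgroupOf M) '' Cfsg.functorFamily p f M) (c i.succ : Subgroup M) ∧
            x i ∈ X i ∧ Cfsg.subgroupConjRight (x i) (c i.succ : Subgroup M) = (c i.castSucc : Subgroup M) ∧
            D.subgroupOf M ≤ (c i.succ : Subgroup M) ⊓ X i := by
        rcases eq_or_ne A B with hAB | hAB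
        · exact ⟨0, fun _ => A, Fin.elim0, Fin.elim0, rfl, hAB, Fin.rec0⟩
        have hle : D.subgroupOf M ≤ (A : Subgroup M) ⊓ (B : Subgroup M) := by
          intro d hd
          have hdA : (d : G) ∈ (A : Subgroup M).map M.subtype := by rw [hA]; exact hSD.le hd
          have hdB : (d : G) ∈ (B : Subgroup M).map M.subtype := by rw [hB]; exact hTD.le hd
          obtain ⟨a, ha, ea⟩ := hdA
          obtain ⟨b, hb, eb⟩ := hdB
          exact Subgroup.mem_inf.2 ⟨(Subtype.ext ea : a = d) ▸ ha, (Subtype.ext eb : b = d) ▸ hb⟩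
        have hne : (A : Subgroup M) ⊓ (B : Subgroup M) ≠ ⊥ := by
          refine ne_bot_of_le_ne_bot (fun h => hD1 ?_) hle
          rw [← Subgroup.map_subgroupOf_eq_of_le hSM, h, Subgroup.map_bot]
        obtain ⟨n, c, X, x, h0, hn, hs⟩ := hreg A B hAB hne
        exact ⟨n, c, X, x, h0, hn, fun i => ⟨(hs i).1, (hs i).2.1, (hs i).2.2.1, (hs i).2.2.2.1, hle.trans (hs i).2.2.2.2⟩⟩
      choose E hE using fun i => hext M (c i)
      have hDc : ∀ i, D ≤ (c i : Subgroup M).map M.subtype := by
        intro i
        induction i using Fin.cases with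
        | zero => rw [hc0, hA]; exact hSD.le
        | succ i =>
          intro d hd
          exact ⟨⟨d, hSM hd⟩, (Subgroup.mem_inf.1 ((hstep i).2.2.2.2 (show (⟨d, hSM hd⟩ : M) ∈ D.subgroupOf M from hd))).1, rfl⟩
      have hcard : ∀ i, Nat.card ↥((c i : Subgroup M).map M.subtype) = Nat.card U := fun i => by
        rw [Subgroup.card_map_of_injective M.subtype_injective]
        exact (c i).card_eq_multiplicity.trans U.card_eq_multiplicity.symm
      have hlt : ∀ i, D < (c i : Subgroup M).map M.subtype := by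
        intro i
        refine lt_of_le_of_ne (hDc i) fun e => hSD.ne (Subgroup.eq_of_le_of_card_ge hSD.le ?_)
        rw [e, hcard, ← hA, Subgroup.card_map_of_injective M.subtype_injective]
        exact (A.card_eq_multiplicity.trans U.card_eq_multiplicity.symm).le
      have main : ∀ i : Fin (n + 1), Linked Fam D S (E i) := by
        intro i
        induction i using Fin.induction with
        | zero =>
          refine bigger _ (hlt 0) ((c 0).isPGroup'.map _) S (E 0) ?_ ((hE 0).le.trans inf_le_left)
          rw [hc0, hA]; exact inf_le_left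
        | succ i ihi =>
          refine ihi.trans ?_
          obtain ⟨⟨⟨X', ⟨P, F, hF, hX'⟩, hXe⟩, Q, hQ⟩, ⟨-, Q2, hQ2⟩, hx, hxc, -⟩ := hstep i
          set U1 := (c i.castSucc : Subgroup M).map M.subtype with hU1
          set U2 := (c i.succ : Subgroup M).map M.subtype with hU2
          -- both Sylow subgroups lie in `X i`
          have hfP := hf _ (P.isPGroup'.map M.subtype)
          have hPX : (P : Subgroup M) ≤ X i := by
            intro q hq
            rw [← hXe]
            show (q : G) ∈ X'
            rw [hX']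
            exact Subgroup.mem_inf.2 ⟨q.2, (hfP.1 F hF).2 (Subgroup.le_normalizer ⟨q, hq, rfl⟩)⟩
          have hin : ∀ (C : Sylow p M) (R : Sylow p ↥(X i)), (R : Subgroup ↥(X i)).map (X i).subtype = (C : Subgroup M) ⊓ X i →
              (C : Subgroup M) ≤ X i := by
            intro C R hR
            have h1 : Nat.card ((P : Subgroup M).subgroupOf (X i)) = Nat.card P :=
              Cfsg.Agent.Solv.card_subgroupOf hPX
            obtain ⟨R', hR'⟩ := (P.isPGroup'.comap_subtype (K := X i)).exists_le_sylow
            have h2 : Nat.card ((P : Subgroup M).subgroupOf (X i)) ≤ Nat.card R' :=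
              Nat.le_of_dvd Nat.card_pos (Subgroup.card_dvd_of_le hR')
            have h3 : Nat.card C ≤ Nat.card ↥((C : Subgroup M) ⊓ X i) := by
              rw [← hR, Subgroup.card_map_of_injective (X i).subtype_injective]
              calc Nat.card C = Nat.card P := C.card_eq_multiplicity.trans P.card_eq_multiplicity.symm
                _ ≤ Nat.card R' := h1 ▸ h2
                _ = _ := R'.card_eq_multiplicity.trans R.card_eq_multiplicity.symm
            exact inf_eq_left.1 (Subgroup.eq_of_le_of_card_ge inf_le_left h3)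
          have hc1X := hin _ Q hQ
          have hc2X := hin _ Q2 hQ2
          have hFU : ∀ C : Sylow p M, (C : Subgroup M) ≤ X i → F ∈ f ((C : Subgroup M).map M.subtype) := by
            intro C hC
            obtain ⟨y, hy⟩ := MulAction.exists_smul_eq ↥(X i) (P.subtype hPX) (C.subtype hC)
            have hyF : ((y : M) : G) ∈ Subgroup.normalizer (F : Set G) := by
              have h1 : ((y : M) : G) ∈ X' := by
                have h2 : (y : M) ∈ (fun X : Subgroup G => X.subgroupOf M) X' := by rw [hXe]; exact y.2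
                exact h2
              rw [hX'] at h1
              exact (Subgroup.mem_inf.1 h1).2
            have hCP : (C : Subgroup M).map M.subtype =
                ((P : Subgroup M).map M.subtype).map (MulAut.conj ((y : M) : G)).toMonoidHom := by
              refine le_antisymm ?_ ?_
              · rintro _ ⟨q, hq, rfl⟩
                have hq' : (⟨q, hC hq⟩ : ↥(X i)) ∈ ((y • P.subtype hPX : Sylow p ↥(X i)) : Subgroup ↥(X i)) := by
                  rw [hy]; exact hq
                obtain ⟨t, ht, e⟩ := hq'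
                exact ⟨_, ⟨(t : M), ht, rfl⟩, congrArg (fun w : ↥(X i) => ((w : M) : G)) e⟩
              · rintro _ ⟨_, ⟨q, hq, rfl⟩, rfl⟩
                have hq' : y * (⟨q, hPX hq⟩ : ↥(X i)) * y⁻¹ ∈ ((y • P.subtype hPX : Sylow p ↥(X i)) : Subgroup ↥(X i)) :=
                  ⟨⟨q, hPX hq⟩, hq, rfl⟩
                rw [hy] at hq'
                exact ⟨_, hq', rfl⟩
            rw [hCP, hfP.2]
            exact ⟨F, hF, Cfsg.Agent.Local.WCB.map_conj_eq_of_mem_normalizer hyF⟩
          have hF1 := hFU _ hc1X
          have hF2 := hFU _ hc2X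
          have hU1p : IsPGroup p U1 := (c i.castSucc).isPGroup'.map _
          have hU2p : IsPGroup p U2 := (c i.succ).isPGroup'.map _
          have hF1' := (hf U1 hU1p).1 F hF1
          have hF2' := (hf U2 hU2p).1 F hF2
          have hU1E : U1 ≤ (E i.castSucc : Subgroup G) := (hE _).le.trans inf_le_left
          have hU2E : U2 ≤ (E i.succ : Subgroup G) := (hE _).le.trans inf_le_left
          by_cases hfull : U1 = (E i.castSucc : Subgroup G)
          · have hfull2 : U2 = (E i.succ : Subgroup G) := by
              refine Subgroup.eq_of_le_of_card_ge hU2E ?_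
              rw [hU2, hcard, ← hcard i.castSucc, ← hU1, hfull]
              exact ((E i.succ).card_eq_multiplicity.trans (E i.castSucc).card_eq_multiplicity.symm).le
            have hmem : ∀ (Q' : Sylow p G), U1 = (Q' : Subgroup G) ∨ U2 = (Q' : Subgroup G) →
                Subgroup.normalizer (F : Set G) ∈ Cfsg.sylowMembers p Fam (Q' : Subgroup G) := by
              intro Q' hQ'
              have hsub : (Q' : Subgroup G) ≤ Subgroup.normalizer (F : Set G) := by
                rcases hQ' with h | h
                · exact h ▸ Subgroup.le_normalizer.trans hF1'.2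
                · exact h ▸ Subgroup.le_normalizer.trans hF2'.2
              refine ⟨Or.inl ⟨Q'.subtype le_top, F, ?_, (top_inf_eq _).symm⟩, Q'.subtype hsub, ?_⟩
              · have e : ((Q'.subtype le_top : Sylow p ↥(⊤ : Subgroup G)) : Subgroup ↥(⊤ : Subgroup G)).map (⊤ : Subgroup G).subtype = (Q' : Subgroup G) :=
                  Subgroup.map_subgroupOf_eq_of_le le_top
                rw [e]
                rcases hQ' with h | h
                · exact h ▸ hF1
                · exact h ▸ hF2
              · show ((Q' : Subgroup G).subgroupOf _).map _ = _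
                rw [Subgroup.subgroupOf_map_subtype]
            have hxF : ((x i : M) : G) ∈ Subgroup.normalizer (F : Set G) := by
              have h2 := hx
              rw [← hXe] at h2
              have h3 : ((x i : M) : G) ∈ X' := h2
              rw [hX'] at h3
              exact (Subgroup.mem_inf.1 h3).2
            refine Relation.ReflTransGen.single ⟨Subgroup.normalizer (F : Set G), (x i : M), hmem _ (Or.inl hfull),
              hmem _ (Or.inr hfull2), hxF, ?_, (hDc i.castSucc).trans (Subgroup.le_normalizer.trans hF1'.2),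
              hfull ▸ hDc i.castSucc, hfull2 ▸ hDc i.succ⟩
            rw [← hfull, ← hfull2, hU1, hU2, ← hxc, Cfsg.subgroupConjRight, Cfsg.subgroupConjRight,
              Subgroup.map_map, Subgroup.map_map]
            congr 1
          · have hF0 : F ≠ ⊥ := hf1 _ hU1p (ne_bot_of_le_ne_bot hD1 (hDc _)) F hF1
            obtain ⟨M', hM', hNM'⟩ := hmax F (hU1p.to_le hF1'.1) hF0
            have hne2 : U2 ≠ (E i.succ : Subgroup G) := by
              intro h
              refine hfull (Subgroup.eq_of_le_of_card_ge hU1E ?_)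
              rw [hU1, hcard, ← hcard i.succ, ← hU2, h]
              exact ((E i.castSucc).card_eq_multiplicity.trans (E i.succ).card_eq_multiplicity.symm).le
            have key : ∀ (V : Subgroup G) (E' : Sylow p G), IsPGroup p V → D ≤ V → V < (E' : Subgroup G) ⊓ Subgroup.normalizer (V : Set G) →
                Subgroup.normalizer (V : Set G) ≤ M' →
                ∃ (S' : Sylow p G) (A' : Sylow p M'), (A' : Subgroup M').map M'.subtype = (S' : Subgroup G) ⊓ M' ∧
                  D < (S' : Subgroup G) ⊓ M' ∧ Linked Fam D E' S' ∧ Linked Fam D S' E' ∧ Nat.card V < Nat.card A' := by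
              intro V E' hV hDV hlt' hVM
              set W := (E' : Subgroup G) ⊓ Subgroup.normalizer (V : Set G) with hW
              have hWp : IsPGroup p W := E'.isPGroup'.to_le inf_le_left
              obtain ⟨A', hA'⟩ := (hWp.comap_subtype (K := M')).exists_le_sylow
              obtain ⟨S', hS'⟩ := hext M' A'
              have hWM : W ≤ M' := inf_le_right.trans hVM
              have hWS : W ≤ (S' : Subgroup G) ⊓ M' := by
                rw [← hS', ← Subgroup.map_subgroupOf_eq_of_le hWM]
                exact Subgroup.map_mono hA'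
              have hDW : D < W := lt_of_le_of_lt hDV hlt'
              refine ⟨S', A', hS', lt_of_lt_of_le hDW hWS, bigger W hDW hWp E' S' inf_le_left (hWS.trans inf_le_left),
                bigger W hDW hWp S' E' (hWS.trans inf_le_left) inf_le_left, ?_⟩
              have h3 : Nat.card V < Nat.card W := by
                by_contra h
                exact hlt'.ne (Subgroup.eq_of_le_of_card_ge hlt'.le (not_lt.1 h))
              refine lt_of_lt_of_le h3 ?_
              rw [← Cfsg.Agent.Solv.card_subgroupOf hWM]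
              exact Nat.le_of_dvd Nat.card_pos (Subgroup.card_dvd_of_le hA')
            obtain ⟨S1, A1, hA1, hD1', hl1, -, hlt1⟩ := key U1 (E i.castSucc) hU1p (hDc _)
              (hgrow U1 hU1p _ hU1E hfull) (hF1'.2.trans hNM')
            obtain ⟨S2, A2, hA2, hD2', -, hl2, -⟩ := key U2 (E i.succ) hU2p (hDc _)
              (hgrow U2 hU2p _ hU2E hne2) (hF2'.2.trans hNM')
            refine (hl1.trans (ihj M' A1 ?_ hM' S1 S2 ⟨A1, hA1⟩ ⟨A2, hA2⟩ hD1' hD2')).trans hl2
            have h5 : Nat.card U < Nat.card A1 := by rw [← hcard i.castSucc]; exact hlt1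
            have h6 : Nat.card A1 ≤ Nat.card G :=
              (Nat.le_of_dvd Nat.card_pos (Subgroup.card_subgroup_dvd_card _)).trans
                (Nat.le_of_dvd Nat.card_pos (Subgroup.card_subgroup_dvd_card M'))
            omega
      refine (main (Fin.last n)).trans (bigger _ (hlt (Fin.last n)) ((c _).isPGroup'.map _) _ T
        ((hE _).le.trans inf_le_left) ?_)
      rw [hcn, hB]; exact inf_le_left
  -- enter a maximal local subgroup
  obtain ⟨M, hM, hNM⟩ := hmax D hDp hD1
  have key : ∀ E : Sylow p G, D ≤ (E : Subgroup G) → D ≠ (E : Subgroup G) →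
      ∃ (S' : Sylow p G) (A : Sylow p M), (A : Subgroup M).map M.subtype = (S' : Subgroup G) ⊓ M ∧
        D < (S' : Subgroup G) ⊓ M ∧ Linked Fam D E S' ∧ Linked Fam D S' E := by
    intro E hDE hne
    set W := (E : Subgroup G) ⊓ Subgroup.normalizer (D : Set G) with hW
    have hDW : D < W := hgrow D hDp E hDE hne
    have hWp : IsPGroup p W := E.isPGroup'.to_le inf_le_left
    obtain ⟨A, hA⟩ := (hWp.comap_subtype (K := M)).exists_le_sylow
    obtain ⟨S', hS'⟩ := hext M A
    have hWS : W ≤ (S' : Subgroup G) ⊓ M := by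
      have hWM : W ≤ M := inf_le_right.trans hNM
      rw [← hS', ← Subgroup.map_subgroupOf_eq_of_le hWM]
      exact Subgroup.map_mono hA
    exact ⟨S', A, hS', lt_of_lt_of_le hDW hWS, bigger W hDW hWp E S' inf_le_left (hWS.trans inf_le_left),
      bigger W hDW hWp S' E (hWS.trans inf_le_left) inf_le_left⟩
  obtain ⟨S', A, hA, hDA, hl1, -⟩ := key S hDS hDS'
  obtain ⟨T', B, hB', hDB, -, hl2⟩ := key T hDT hDT'
  exact (hl1.trans (hB _ M A (Nat.lt_succ_self _) hM S' T' ⟨A, hA⟩ ⟨B, hB'⟩ hDA hDB)).trans hl2

end Cfsg.Agent.S2956
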