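import Cfsg.Statements.S2957
import Cfsg.Agent.Lib.Local.FunctorRegular
-- import your own Cfsg.Agent.* helpers here

set_option autoImplicit false
open Cfsg

namespace Cfsg.Agent.S2957
open scoped Pointwise


/-- Let p be a prime dividing the order of the finite group G, f an equivariant assignment of a set of subgroups f(P) of P to every p-subgroup P, each normalized by N_G(P), and S a Sylow p-subgroup. If G = G₁G₂ for subgroups G₁, G₂ both containing S and both regular for f (in each Gᵢ, the family of normalizers in Gᵢ of the members of f(P), P a Sylow p-subgroup of Gᵢ, controls Sylow p-intersections), then G itself is regular for f. -/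
theorem result {G : Type*} [Group G] [Finite G] (p : ℕ) [Fact p.Prime] (hdiv : p ∣ Nat.card G)
    (f : Subgroup G → Set (Subgroup G)) (hf : Cfsg.IsNormalizerFunctor p f) (S : Sylow p G)
    (G₁ G₂ : Subgroup G) (h₁ : (S : Subgroup G) ≤ G₁) (h₂ : (S : Subgroup G) ≤ G₂)
    (hprod : ∀ g : G, ∃ g₁ ∈ G₁, ∃ g₂ ∈ G₂, g = g₁ * g₂)
    (hr₁ : Cfsg.IsFunctorRegular p f G₁) (hr₂ : Cfsg.IsFunctorRegular p f G₂) :
    Cfsg.IsFunctorRegular p f ⊤ := by
  classical
  refine Cfsg.Agent.Local.FunctorReg.regular_top f hf fun R R' hne => ?_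
  obtain ⟨a, rfl⟩ := MulAction.exists_smul_eq G S R
  obtain ⟨b, rfl⟩ := MulAction.exists_smul_eq G S R'
  set g := a⁻¹ * b with hg
  have hb : b • S = a • g • S := by rw [← mul_smul, hg, mul_inv_cancel_left]
  rw [hb] at hne ⊢
  set A := (S : Subgroup G) ⊓ ((g • S : Sylow p G) : Subgroup G) with hAdef
  have hcoe : ∀ (c : G) (T : Sylow p G), ((c • T : Sylow p G) : Subgroup G) =
      (T : Subgroup G).map (MulAut.conj c).toMonoidHom := fun c T => rfl
  have hA : ((a • S : Sylow p G) : Subgroup G) ⊓ ((a • g • S : Sylow p G) : Subgroup G) =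
      A.map (MulAut.conj a).toMonoidHom := by
    rw [hAdef, Subgroup.map_inf _ _ _ (MulAut.conj a).injective]; rfl
  have hA0 : A ≠ ⊥ := fun h => hne (by rw [hA, h, Subgroup.map_bot])
  refine Cfsg.Agent.Local.FunctorReg.chain_conj f hf a hA.le ?_
  obtain ⟨g₁, hg₁, g₂, hg₂, hgeq⟩ := hprod g
  have hconjmem : ∀ (K : Subgroup G) (c : G), c ∈ K → (S : Subgroup G) ≤ K →
      ((c • S : Sylow p G) : Subgroup G) ≤ K := by
    rintro K c hc hS _ ⟨s, hs, rfl⟩
    exact mul_mem (mul_mem hc (hS hs)) (inv_mem hc)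
  set H := (G₁ ⊓ G₂).map (MulAut.conj g₁).toMonoidHom with hH
  have hAH : A ≤ H := by
    rintro x ⟨hxS, hxT⟩
    rw [hgeq, mul_smul] at hxT
    obtain ⟨u, hu, rfl⟩ := hxT
    refine ⟨u, Subgroup.mem_inf.2 ⟨?_, hconjmem G₂ g₂ hg₂ h₂ hu⟩, rfl⟩
    have h' : g₁ * u * g₁⁻¹ ∈ G₁ := h₁ hxS
    have := mul_mem (mul_mem (inv_mem hg₁) h') hg₁
    simpa [mul_assoc] using this
  have hR0 : ((g₁ • S : Sylow p G) : Subgroup G) ≤ H := Subgroup.map_mono (le_inf h₁ h₂)
  obtain ⟨U, hU⟩ := ((S.isPGroup'.to_le inf_le_left : IsPGroup p A).comap_subtype (K := H)).exists_le_sylow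
  obtain ⟨d, hd⟩ := MulAction.exists_smul_eq H ((g₁ • S).subtype hR0) U
  set R : Sylow p G := (d : G) • g₁ • S with hRdef
  have hRH : (R : Subgroup G) ≤ H := by
    rintro _ ⟨s, hs, rfl⟩
    exact mul_mem (mul_mem d.2 (hR0 hs)) (inv_mem d.2)
  have hAR : A ≤ R := by
    intro x hx
    have h1 : (⟨x, hAH hx⟩ : H) ∈ ((d • (g₁ • S).subtype hR0 : Sylow p H) : Subgroup H) := by
      rw [hd]; exact hU hx
    obtain ⟨y, hy, e⟩ := h1
    exact ⟨y, hy, congrArg Subtype.val e⟩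
  have hRG1 : (R : Subgroup G) ≤ G₁ := hRH.trans (by
    rintro _ ⟨u, hu, rfl⟩
    exact mul_mem (mul_mem hg₁ hu.1) (inv_mem hg₁))
  refine (Cfsg.Agent.Local.FunctorReg.reflTransGen_of_regular f hf hr₁ hA0 S R h₁ hRG1 inf_le_left hAR).trans ?_
  set B := A.map (MulAut.conj g₁⁻¹).toMonoidHom
  have hB0 : B ≠ ⊥ := fun h => hA0 ((Subgroup.map_eq_bot_iff_of_injective _ (MulAut.conj g₁⁻¹).injective).1 h)
  have hR2 : ((g₁⁻¹ • R : Sylow p G) : Subgroup G) ≤ G₂ := by
    rintro _ ⟨r, hr, rfl⟩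
    obtain ⟨u, hu, rfl⟩ := hRH hr
    simpa [mul_assoc] using hu.2
  have hT2 : g₁⁻¹ • (g • S) = g₂ • S := by rw [← mul_smul, hgeq, inv_mul_cancel_left]
  have hchain := Cfsg.Agent.Local.FunctorReg.reflTransGen_of_regular f hf hr₂ hB0 (g₁⁻¹ • R) (g₁⁻¹ • (g • S))
    hR2 (by rw [hT2]; exact hconjmem G₂ g₂ hg₂ h₂) (Subgroup.map_mono hAR) (Subgroup.map_mono inf_le_right)
  have := Cfsg.Agent.Local.FunctorReg.chain_conj f hf g₁ (B := A) (by
    intro x hx
    exact ⟨g₁⁻¹ * x * g₁, ⟨x, hx, by simp⟩, by simp [mul_assoc]⟩) hchain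
  rwa [smul_inv_smul, smul_inv_smul] at this

end Cfsg.Agent.S2957
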