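import Cfsg.Statements.S2958
import Mathlib
-- import your own Cfsg.Agent.* helpers here

set_option autoImplicit false
open Cfsg

namespace Cfsg.Agent.S2958

/-- Let X, A, B be subgroups of a group G such that G is generated by the conjugates of X and every conjugate of X is contained in A or in B. Then A = G or B = G. -/
theorem result {G : Type*} [Group G] (X A B : Subgroup G) (hgen : (⨆ g : G, X.map (MulAut.conj g).toMonoidHom) = ⊤) (hcover : ∀ g : G, X.map (MulAut.conj g).toMonoidHom ≤ A ∨ X.map (MulAut.conj g).toMonoidHom ≤ B) : A = ⊤ ∨ B = ⊤ := by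
  by_contra hcon
  push Not at hcon
  obtain ⟨hA, hB⟩ := hcon
  let c : G → Subgroup G := fun g => X.map (MulAut.conj g).toMonoidHom
  let D : Subgroup G := ⨆ g : {g : G // ¬ c g ≤ A}, c g.1
  have hDB : D ≤ B := iSup_le fun g => (hcover g.1).resolve_left g.2
  have hnorm : ∀ a ∈ A, ∀ d ∈ D, a * d * a⁻¹ ∈ D := by
    intro a ha d hd
    have hle : D ≤ D.comap (MulAut.conj a).toMonoidHom := iSup_le fun g => by
      rw [← Subgroup.map_le_iff_le_comap]
      have e : (c g.1).map (MulAut.conj a).toMonoidHom = c (a * g.1) := by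
        simp only [c, Subgroup.map_map]; congr 1; ext x; simp [mul_assoc]
      rw [e]
      refine le_iSup (fun g : {g : G // ¬ c g ≤ A} => c g.1) ⟨a * g.1, fun hle => g.2 ?_⟩
      intro x hx
      have h1 : a * x * a⁻¹ ∈ c (a * g.1) := e ▸ ⟨x, hx, rfl⟩
      simpa [mul_assoc] using mul_mem (mul_mem (inv_mem ha) (hle h1)) ha
    exact hle hd
  have hall : ∀ g, c g ≤ Subgroup.normalizer (D : Set G) := by
    intro g x hx
    by_cases hg : c g ≤ A
    · rw [Subgroup.mem_normalizer_iff]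
      intro d
      refine ⟨hnorm x (hg hx) d, fun h => ?_⟩
      simpa [mul_assoc] using hnorm x⁻¹ (inv_mem (hg hx)) _ h
    · exact Subgroup.le_normalizer ((le_iSup (fun g : {g : G // ¬ c g ≤ A} => c g.1) ⟨g, hg⟩) hx)
  haveI : D.Normal := by
    rw [← Subgroup.normalizer_eq_top_iff, ← top_le_iff, ← hgen]
    exact iSup_le hall
  obtain ⟨g₀, hg₀⟩ : ∃ g, ¬ c g ≤ A := by
    by_contra h'
    push Not at h'
    exact hA (top_le_iff.1 (hgen.symm.trans_le (iSup_le h')))
  refine hB (top_le_iff.1 ?_)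
  refine le_trans ?_ hDB
  rw [← hgen]
  refine iSup_le fun g => ?_
  rintro _ ⟨x, hx, rfl⟩
  have h1 : g₀ * x * g₀⁻¹ ∈ D := le_iSup (fun g : {g : G // ¬ c g ≤ A} => c g.1) ⟨g₀, hg₀⟩ ⟨x, hx, rfl⟩
  have := Subgroup.Normal.conj_mem (inferInstance : D.Normal) _ h1 (g * g₀⁻¹)
  simpa [mul_assoc] using this

end Cfsg.Agent.S2958
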