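import Cfsg.Statements.S2960
import Cfsg.Agent.Lib.Solv.NormalPComplement
import Cfsg.Agent.Lib.Solv.Misc
-- import your own Cfsg.Agent.* helpers here

set_option autoImplicit false
open Cfsg

namespace Cfsg.Agent.S2960

/-- Let G be a finite group of characteristic p (C_G(O_p(G)) ≤ O_p(G)), p prime, T a Sylow p-subgroup of G and Q a normal subgroup of T with C_T(Q) ≤ Q. Then C_G(Q) ≤ Q. -/
theorem result {G : Type*} [Group G] [Finite G] {p : ℕ} [Fact p.Prime] (hG : Subgroup.centralizer (Cfsg.pCore p G : Set G) ≤ Cfsg.pCore p G) (T : Sylow p G) (Q : Subgroup G) (hQT : Q ≤ (T : Subgroup G)) (hQn : (T : Subgroup G) ≤ Subgroup.normalizer (Q : Set G)) (hC : (T : Subgroup G) ⊓ Subgroup.centralizer (Q : Set G) ≤ Q) : Subgroup.centralizer (Q : Set G) ≤ Q := by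
  classical
  set C := Subgroup.centralizer (Q : Set G) with hC'
  have hTC : (T : Subgroup G) ≤ Subgroup.normalizer (C : Set G) := by
    intro t ht
    have ht' := hQn ht
    rw [Subgroup.mem_normalizer_iff]
    intro x
    constructor
    · intro hx
      refine Subgroup.mem_centralizer_iff.2 fun q hq => ?_
      have h1 := Subgroup.mem_centralizer_iff.1 hx (t⁻¹ * q * t) ((Subgroup.mem_normalizer_iff''.1 ht' q).1 hq)
      calc q * (t * x * t⁻¹) = t * ((t⁻¹ * q * t) * x) * t⁻¹ := by group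
        _ = t * x * t⁻¹ * q := by rw [h1]; group
    · intro hx
      refine Subgroup.mem_centralizer_iff.2 fun q hq => ?_
      have h1 := Subgroup.mem_centralizer_iff.1 hx (t * q * t⁻¹) ((Subgroup.mem_normalizer_iff.1 ht' q).1 hq)
      calc q * x = t⁻¹ * ((t * q * t⁻¹) * (t * x * t⁻¹)) * t := by group
        _ = x * q := by rw [h1]; group
  let N : Subgroup G := C ⊔ (T : Subgroup G)
  have hCn : (C.subgroupOf N).Normal :=
    Subgroup.normal_subgroupOf_of_le_normalizer (sup_le Subgroup.le_normalizer hTC)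
  let T' : Sylow p N := T.subtype le_sup_right
  have hidx := Solv.index_sylow_inf_subnormal (C.subgroupOf N) hCn.isSubnormal T'
  have hidx' : ¬ p ∣ (((T : Subgroup G) ⊓ C).subgroupOf C).index := by
    intro hd
    apply hidx
    show p ∣ ((T : Subgroup G).subgroupOf N).relIndex (C.subgroupOf N)
    rw [Subgroup.relIndex_subgroupOf le_sup_left, ← Subgroup.inf_relIndex_right]
    exact hd
  let TC : Sylow p C := ((T.isPGroup'.to_le inf_le_left : IsPGroup p ((T : Subgroup G) ⊓ C : Subgroup G)).comap_of_injective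
    C.subtype C.subtype_injective).toSylow hidx'
  have hcomp := Solv.isComplement'_pPrimeCore (Solv.hasNormalPComplement_of_burnside TC (fun x _ => by
    rw [Subgroup.mem_centralizer_iff]
    intro t ht
    refine Subtype.ext ?_
    exact Subgroup.mem_centralizer_iff.1 x.2 (t : G) (hC ⟨ht.1, t.2⟩))) TC
  set K := (pPrimeCore p C).map C.subtype with hK
  have hKcop : (Nat.card K).Coprime p := by
    rw [hK, Subgroup.card_map_of_injective C.subtype_injective]
    exact Solv.card_pPrimeCore_coprime p C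
  have hK1 : K ≤ Subgroup.centralizer (pCore p G : Set G) := by
    intro k hk
    rw [Subgroup.mem_centralizer_iff]
    intro r hr
    have hrT : r ∈ (T : Subgroup G) := Solv.pCore_le_sylow T hr
    have hrk : r * k * r⁻¹ ∈ K := by
      obtain ⟨y, hy, rfl⟩ := hk
      have hc : ∀ z : C, r * (z : G) * r⁻¹ ∈ C := fun z => (Subgroup.mem_normalizer_iff.1 (hTC hrT) _).1 z.2
      have hc' : ∀ z : C, r⁻¹ * (z : G) * r ∈ C := fun z => (Subgroup.mem_normalizer_iff''.1 (hTC hrT) _).1 z.2
      let φ : C ≃* C :=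
        { toFun := fun z => ⟨r * z * r⁻¹, hc z⟩
          invFun := fun z => ⟨r⁻¹ * z * r, hc' z⟩
          left_inv := fun z => Subtype.ext (by simp [mul_assoc])
          right_inv := fun z => Subtype.ext (by simp [mul_assoc])
          map_mul' := fun a b => Subtype.ext (by simp [mul_assoc]) }
      exact ⟨φ y, (Solv.pPrimeCore_map_equiv p φ).le ⟨y, hy, rfl⟩, rfl⟩
    have h1 : r * k * r⁻¹ * k⁻¹ ∈ K := mul_mem hrk (inv_mem hk)
    have h2 : r * k * r⁻¹ * k⁻¹ ∈ pCore p G := by
      rw [show r * k * r⁻¹ * k⁻¹ = r * (k * r⁻¹ * k⁻¹) by group]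
      exact mul_mem hr ((inferInstance : (pCore p G).Normal).conj_mem _ (inv_mem hr) k)
    obtain ⟨j, hj⟩ := (Solv.isPGroup_pCore p G).exists_card_eq
    have h3 : r * k * r⁻¹ * k⁻¹ = 1 := orderOf_eq_one_iff.1 (Nat.eq_one_of_dvd_coprimes
      (hKcop.pow_right j) (Subgroup.orderOf_dvd_natCard K h1) (hj ▸ Subgroup.orderOf_dvd_natCard _ h2))
    exact mul_inv_eq_iff_eq_mul.1 (mul_inv_eq_one.1 h3)
  have hKbot : K = ⊥ := by
    obtain ⟨j, hj⟩ := (Solv.isPGroup_pCore p G).exists_card_eq
    refine Subgroup.card_eq_one.1 (Nat.eq_one_of_dvd_coprimes (hKcop.pow_right j) dvd_rfl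
      (hj ▸ Subgroup.card_dvd_of_le (hK1.trans hG)))
  rw [hK, Subgroup.map_eq_bot_iff_of_injective _ C.subtype_injective] at hKbot
  have htop := hcomp.sup_eq_top
  rw [hKbot, bot_sup_eq] at htop
  intro x hx
  have : (⟨x, hx⟩ : C) ∈ (TC : Subgroup C) := htop ▸ Subgroup.mem_top _
  exact hC ⟨this.1, hx⟩

end Cfsg.Agent.S2960
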