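import Cfsg.Statements.S2961
import Cfsg.Agent.S2960
import Cfsg.Agent.Lib.Local.CharPBasics
-- import your own Cfsg.Agent.* helpers here

set_option autoImplicit false
open Cfsg

namespace Cfsg.Agent.S2961
open scoped commutatorElement

/-- Let G be a finite group of characteristic p (C_G(O_p(G)) ≤ O_p(G)), p prime, T a Sylow p-subgroup of G and Q a normal subgroup of T with C_T(Q) ≤ Q. Then every subgroup L of G containing Q has characteristic p: C_L(O_p(L)) ≤ O_p(L). -/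
theorem result {G : Type*} [Group G] [Finite G] {p : ℕ} [Fact p.Prime] (hG : Subgroup.centralizer (Cfsg.pCore p G : Set G) ≤ Cfsg.pCore p G) (T : Sylow p G) (Q : Subgroup G) (hQT : Q ≤ (T : Subgroup G)) (hQn : (T : Subgroup G) ≤ Subgroup.normalizer (Q : Set G)) (hC : (T : Subgroup G) ⊓ Subgroup.centralizer (Q : Set G) ≤ Q) (L : Subgroup G) (hQL : Q ≤ L) : Subgroup.centralizer (Cfsg.pCore p ↥L : Set ↥L) ≤ Cfsg.pCore p ↥L := by
  have hCQ := Cfsg.Agent.S2960.result hG T Q hQT hQn hC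
  set R := Cfsg.pCore p G with hR
  have hRp : IsPGroup p R := Cfsg.Agent.Solv.isPGroup_pCore p G
  have hRT : R ≤ (T : Subgroup G) := Cfsg.Agent.Solv.pCore_le_sylow T
  set R₀ := R.subgroupOf L with hR0
  haveI : R₀.Normal := Subgroup.Normal.comap inferInstance _
  have hR0le : R₀ ≤ Cfsg.pCore p L :=
    Cfsg.Agent.Solv.le_pCore (hRp.comap_of_injective _ L.subtype_injective)
  set D := Subgroup.normalClosure ((Q.subgroupOf L : Subgroup L) : Set L) with hD
  haveI hDn : D.Normal := Subgroup.normalClosure_normal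
  have hDR : ∀ d ∈ D, ∀ r ∈ R, r * (d : G) * r⁻¹ * (d : G)⁻¹ ∈ R ⊓ L := by
    intro d hd
    induction hd using Subgroup.closure_induction with
    | mem x hx =>
      intro r hr
      obtain ⟨a, ha, hax⟩ := Group.mem_conjugatesOfSet_iff.1 hx
      obtain ⟨l, rfl⟩ := isConj_iff.1 hax
      have ha' : (a : G) ∈ Q := Subgroup.mem_subgroupOf.1 ha
      have hr' : (l : G)⁻¹ * r * (l : G) ∈ R := by
        simpa using (inferInstance : R.Normal).conj_mem r hr (l : G)⁻¹
      have h1 : ((l : G)⁻¹ * r * l) * a * ((l : G)⁻¹ * r * l)⁻¹ * (a : G)⁻¹ ∈ R ⊓ L := by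
        refine Subgroup.mem_inf.2 ⟨?_, hQL ?_⟩
        · have h2 := (inferInstance : R.Normal).conj_mem _ (inv_mem hr') (a : G)
          have h3 := mul_mem hr' h2
          simpa [mul_assoc] using h3
        · exact mul_mem ((Subgroup.mem_normalizer_iff.1 (hQn (hRT hr')) _).1 ha') (inv_mem ha')
      obtain ⟨h2, h3⟩ := Subgroup.mem_inf.1 h1
      have e : r * ((l * a * l⁻¹ : L) : G) * r⁻¹ * ((l * a * l⁻¹ : L) : G)⁻¹ =
          (l : G) * (((l : G)⁻¹ * r * l) * a * ((l : G)⁻¹ * r * l)⁻¹ * (a : G)⁻¹) * (l : G)⁻¹ := by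
        push_cast; group
      rw [e]
      exact Subgroup.mem_inf.2 ⟨(inferInstance : R.Normal).conj_mem _ h2 _,
        mul_mem (mul_mem l.2 h3) (inv_mem l.2)⟩
    | one => intro r hr; simp
    | mul x y hx hy ihx ihy =>
      intro r hr
      have e : r * ((x * y : L) : G) * r⁻¹ * ((x * y : L) : G)⁻¹ =
          (r * (x : G) * r⁻¹ * (x : G)⁻¹) * ((x : G) * (r * (y : G) * r⁻¹ * (y : G)⁻¹) * (x : G)⁻¹) := by
        push_cast; group
      rw [e]
      obtain ⟨h2, h3⟩ := Subgroup.mem_inf.1 (ihy r hr)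
      exact mul_mem (ihx r hr) (Subgroup.mem_inf.2
        ⟨(inferInstance : R.Normal).conj_mem _ h2 _, mul_mem (mul_mem x.2 h3) (inv_mem x.2)⟩)
    | inv x hx ihx =>
      intro r hr
      have e : r * ((x⁻¹ : L) : G) * r⁻¹ * ((x⁻¹ : L) : G)⁻¹ =
          (x : G)⁻¹ * (r * (x : G) * r⁻¹ * (x : G)⁻¹)⁻¹ * (x : G) := by
        push_cast; group
      rw [e]
      obtain ⟨h2, h3⟩ := Subgroup.mem_inf.1 (inv_mem (ihx r hr))
      exact Subgroup.mem_inf.2 ⟨by simpa using (inferInstance : R.Normal).conj_mem _ h2 (x : G)⁻¹,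
        mul_mem (mul_mem (inv_mem x.2) h3) x.2⟩
  set K := Subgroup.centralizer (Cfsg.pCore p L : Set L) with hK
  haveI : K.Normal := Subgroup.normal_centralizer
  have hpz : ∀ (H : Subgroup G), IsPGroup p H → ∀ x ∈ H, (orderOf x).Coprime p → x = 1 := by
    intro H hH x hx hco
    obtain ⟨k, hk⟩ := IsPGroup.iff_card.1 hH
    exact orderOf_eq_one_iff.1 (Nat.eq_one_of_dvd_coprimes (hco.pow_right k) dvd_rfl
      (hk ▸ Subgroup.orderOf_dvd_natCard _ hx))
  have hDK : D ⊓ K ≤ Cfsg.pCore p L := by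
    refine Cfsg.Agent.Solv.le_pCore (Cfsg.Agent.Local.CharPB.isPGroup_of_forall_eq_one
      fun d hd hco => ?_)
    obtain ⟨hdD, hdK⟩ := Subgroup.mem_inf.1 hd
    have hco' : (orderOf (d : G)).Coprime p := by rwa [Subgroup.orderOf_coe]
    have hn : Subgroup.zpowers (d : G) ≤ Subgroup.normalizer (R : Set G) :=
      (Subgroup.normalizer_eq_top R) ▸ le_top
    have h1 : ⁅R, Subgroup.zpowers (d : G)⁆ ≤ R ⊓ L := by
      rw [Subgroup.commutator_le]
      rintro r hr _ ⟨m, rfl⟩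
      show r * (d : G) ^ m * r⁻¹ * ((d : G) ^ m)⁻¹ ∈ R ⊓ L
      rw [← Subgroup.coe_zpow]
      exact hDR _ (zpow_mem hdD m) r hr
    have h2 : ⁅R ⊓ L, Subgroup.zpowers (d : G)⁆ = ⊥ := by
      rw [Subgroup.commutator_comm, Subgroup.commutator_eq_bot_iff_le_centralizer,
        Subgroup.zpowers_le, Subgroup.mem_centralizer_iff]
      intro x hx
      obtain ⟨hxR, hxL⟩ := Subgroup.mem_inf.1 hx
      exact congrArg Subtype.val (Subgroup.mem_centralizer_iff.1 hdK ⟨x, hxL⟩
        (hR0le (Subgroup.mem_subgroupOf.2 hxR)))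
    have h3 := hG (Cfsg.Agent.Local.CharPB.centralizes_of_iterCommutator hRp hco' hn (n := 2)
      (le_bot_iff.1 ((Subgroup.commutator_mono h1 le_rfl).trans h2.le)))
    exact Subtype.ext (hpz R hRp _ h3 hco')
  refine Cfsg.Agent.Solv.le_pCore (Cfsg.Agent.Local.CharPB.isPGroup_of_forall_eq_one fun c hc hco => ?_)
  set P' := Q.subgroupOf L ⊔ Cfsg.pCore p L with hP'
  have hP'p : IsPGroup p P' := ((T.isPGroup'.to_le hQT).comap_of_injective _ L.subtype_injective).to_sup_of_normal_right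
    (Cfsg.Agent.Solv.isPGroup_pCore p L)
  have h1 : ⁅P', Subgroup.zpowers c⁆ ≤ Cfsg.pCore p L := by
    rw [Subgroup.commutator_le]
    intro x hx g hg
    have hgK : g ∈ K := Subgroup.zpowers_le.2 hc hg
    obtain ⟨q, hq, o, ho, rfl⟩ := Subgroup.mem_sup_of_normal_right.1 hx
    refine hDK (Subgroup.mem_inf.2 ⟨?_, ?_⟩)
    · have hog : o * g = g * o := Subgroup.mem_centralizer_iff.1 hgK o ho
      have hqD : q ∈ D := Subgroup.subset_normalClosure hq
      have e : ⁅q * o, g⁆ = q * (g * q⁻¹ * g⁻¹) := by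
        rw [commutatorElement_def]
        calc (q * o) * g * (q * o)⁻¹ * g⁻¹ = q * (o * g) * o⁻¹ * q⁻¹ * g⁻¹ := by group
          _ = q * (g * o) * o⁻¹ * q⁻¹ * g⁻¹ := by rw [hog]
          _ = _ := by group
      rw [e]
      exact mul_mem hqD (hDn.conj_mem _ (inv_mem hqD) g)
    · rw [commutatorElement_def]
      exact mul_mem ((inferInstance : K.Normal).conj_mem g hgK _) (inv_mem hgK)
  have h2 : ⁅Cfsg.pCore p L, Subgroup.zpowers c⁆ = ⊥ := by
    rw [Subgroup.commutator_comm, Subgroup.commutator_eq_bot_iff_le_centralizer, Subgroup.zpowers_le]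
    exact hc
  have h3 := Cfsg.Agent.Local.CharPB.centralizes_of_iterCommutator hP'p hco
    (Subgroup.le_normalizer_iff_commutator_le_left.2 (h1.trans le_sup_right)) (n := 2)
    (le_bot_iff.1 ((Subgroup.commutator_mono h1 le_rfl).trans h2.le))
  have h4 : (c : G) ∈ Q := hCQ (Subgroup.mem_centralizer_iff.2 fun q hq => congrArg Subtype.val
    (Subgroup.mem_centralizer_iff.1 h3 ⟨q, hQL hq⟩ (Subgroup.mem_sup_left (Subgroup.mem_subgroupOf.2 hq))))
  exact Subtype.ext (hpz Q (T.isPGroup'.to_le hQT) _ h4 (by rwa [Subgroup.orderOf_coe]))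

end Cfsg.Agent.S2961
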