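import Cfsg.Statements.S2963
import Cfsg.Prelude.Def_LocalEven
import Mathlib.GroupTheory.PGroup
import Mathlib.GroupTheory.Perm.Sign
import Mathlib.GroupTheory.GroupAction.Defs
-- import your own Cfsg.Agent.* helpers here

set_option autoImplicit false
open Cfsg

namespace Cfsg.Agent.S2963
open Cfsg.Agent


/-- Let n be odd. If the symmetric group of degree n is a minimal parabolic group for the prime 2, that is, a Sylow 2-subgroup is not normal and lies in exactly one maximal subgroup, then n = 2^m + 1 for some natural number m. -/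
theorem result (n : ℕ) (hn : Odd n) (h : Cfsg.IsPMinimal 2 (Equiv.Perm (Fin n))) : ∃ m : ℕ, n = 2 ^ m + 1 := by
  skip
  classical
  haveI : Fact (Nat.Prime 2) := ⟨Nat.prime_two⟩
  obtain ⟨S⟩ := Sylow.nonempty (p := 2) (G := Equiv.Perm (Fin n))
  obtain ⟨hnn, M, ⟨hM, hSM⟩, huniq⟩ := h S
  have hn1 : n ≠ 1 := fun e => by
    subst e
    refine hnn ?_
    rw [Subsingleton.elim (S : Subgroup (Equiv.Perm (Fin 1))) ⊥]
    infer_instance
  have hp : IsPGroup 2 (S : Subgroup (Equiv.Perm (Fin n))) := S.isPGroup'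
  obtain ⟨x, hx⟩ := hp.nonempty_fixed_point_of_prime_not_dvd_card (Fin n)
    (by rw [Nat.card_fin]; exact hn.not_two_dvd_nat)
  obtain ⟨y, hy⟩ : ∃ y : Fin n, y ≠ x := by
    haveI : Nontrivial (Fin n) := Fin.nontrivial_iff_two_le.2 (by obtain ⟨t, rfl⟩ := hn; omega)
    exact exists_ne x
  set B := MulAction.orbit (S : Subgroup (Equiv.Perm (Fin n))) y with hB
  have hxB : x ∉ B := fun hxB => by
    obtain ⟨s, hs⟩ := hxB
    exact hy (by rw [← inv_smul_smul s y, show s • y = x from hs, hx s⁻¹])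
  by_contra hcon
  obtain ⟨z, hzx, hzB⟩ : ∃ z : Fin n, z ≠ x ∧ z ∉ B := by
    by_contra hall
    push Not at hall
    have heq : B = {x}ᶜ := Set.ext fun w => ⟨fun hw e => hxB (e ▸ hw), fun hw => hall w hw⟩
    obtain ⟨k, hk⟩ := hp.card_orbit y
    refine hcon ⟨k, ?_⟩
    have h1 := Set.ncard_add_ncard_compl ({x} : Set (Fin n))
    rw [Set.ncard_singleton, ← heq, Nat.card_fin] at h1
    have h2 : B.ncard = 2 ^ k := hk
    omega
  let Hx := MulAction.stabilizer (Equiv.Perm (Fin n)) x
  let HB : Subgroup (Equiv.Perm (Fin n)) :=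
    { carrier := {σ | ∀ w, σ w ∈ B ↔ w ∈ B}
      one_mem' := fun _ => Iff.rfl
      mul_mem' := fun {a b} ha hb w => (ha (b w)).trans (hb w)
      inv_mem' := fun {a} ha w => by
        have := ha (a⁻¹ w)
        rw [show a (a⁻¹ w) = w from Equiv.apply_symm_apply a w] at this
        exact this.symm }
  have hSx : (S : Subgroup (Equiv.Perm (Fin n))) ≤ Hx := fun s hs => hx ⟨s, hs⟩
  have hSB : (S : Subgroup (Equiv.Perm (Fin n))) ≤ HB := fun s hs w => by
    constructor
    · rintro ⟨t, ht⟩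
      refine ⟨(⟨s, hs⟩ : (S : Subgroup (Equiv.Perm (Fin n))))⁻¹ * t, ?_⟩
      show _ • y = w
      rw [mul_smul, show t • y = s w from ht]
      exact Equiv.symm_apply_apply s w
    · rintro ⟨t, ht⟩
      refine ⟨(⟨s, hs⟩ : (S : Subgroup (Equiv.Perm (Fin n)))) * t, ?_⟩
      show _ • y = s w
      rw [mul_smul, show t • y = w from ht]
      rfl
  have hswapB : Equiv.swap x z ∈ HB := fun w => by
    rcases eq_or_ne w x with rfl | hwx
    · rw [Equiv.swap_apply_left]; exact iff_of_false hzB hxB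
    · rcases eq_or_ne w z with rfl | hwz
      · rw [Equiv.swap_apply_right]; exact iff_of_false hxB hzB
      · rw [Equiv.swap_apply_of_ne_of_ne hwx hwz]
  have hle : ∀ H : Subgroup (Equiv.Perm (Fin n)), (S : Subgroup (Equiv.Perm (Fin n))) ≤ H → H ≠ ⊤ → H ≤ M := by
    intro H hSH hH
    obtain h' | ⟨M', hM', hHM'⟩ := eq_top_or_exists_le_coatom H
    · exact absurd h' hH
    · exact huniq M' ⟨hM', hSH.trans hHM'⟩ ▸ hHM'
  have hxM : Hx ≤ M := hle Hx hSx fun e => hy (by
    have h1 : Equiv.swap x y ∈ Hx := by rw [e]; trivial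
    have h2 : Equiv.swap x y x = x := h1
    rwa [Equiv.swap_apply_left] at h2)
  have hBM : HB ≤ M := hle HB hSB fun e => hxB (by
    have h1 : Equiv.swap x y ∈ HB := by rw [e]; trivial
    have h2 := h1 x
    rw [Equiv.swap_apply_left] at h2
    exact h2.1 (MulAction.mem_orbit_self y))
  have hout : ∀ w, w ≠ x → Equiv.swap x w ∈ M := by
    intro w hw
    rcases eq_or_ne w z with rfl | hwz
    · exact hBM hswapB
    · have hzw : Equiv.swap z w ∈ M := hxM (show Equiv.swap z w x = x from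
        Equiv.swap_apply_of_ne_of_ne hzx.symm hw.symm)
      have := mul_mem (mul_mem hzw (hBM hswapB)) (inv_mem hzw)
      rwa [← Equiv.swap_apply_apply, Equiv.swap_apply_of_ne_of_ne hzx.symm hw.symm, Equiv.swap_apply_left] at this
  refine hM.1 (eq_top_iff.2 ?_)
  rw [← Equiv.Perm.closure_isSwap, Subgroup.closure_le]
  rintro σ ⟨a, b, hab, rfl⟩
  rcases eq_or_ne a x with rfl | hax
  · exact hout b hab.symm
  · rcases eq_or_ne b x with rfl | hbx
    · rw [Equiv.swap_comm]; exact hout a hax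
    · exact hxM (show Equiv.swap a b x = x from Equiv.swap_apply_of_ne_of_ne hax.symm hbx.symm)

end Cfsg.Agent.S2963
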