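import Cfsg.Statements.S2968
import Cfsg.Agent.Lib.Local.WeaklyClosedBasics
import Cfsg.Prelude.Def_TwoFusion
-- import your own Cfsg.Agent.* helpers here

set_option autoImplicit false
open Cfsg

namespace Cfsg.Agent.S2968

/-- Let G be a finite group, p a prime, P a Sylow p-subgroup of G and x ∈ P an element of p-power order which is isolated in G (the only conjugate of x commuting with x is x itself). Then x lies in the centre of P, and the subgroup generated by x is both strongly closed and weakly closed in P with respect to G. -/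
theorem result {G : Type*} [Group G] [Finite G] {p : ℕ} [Fact p.Prime] (P : Sylow p G) (x : G) (hxP : x ∈ (P : Subgroup G)) (hx : ∃ k : ℕ, orderOf x = p ^ k) (hiso : Cfsg.IsIsolated x) : x ∈ (P : Subgroup G) ⊓ Subgroup.centralizer ((P : Subgroup G) : Set G) ∧ Cfsg.IsStronglyClosed (Subgroup.zpowers x) (P : Subgroup G) ∧ Cfsg.IsWeaklyClosed (Subgroup.zpowers x) (P : Subgroup G) := by
  have hcen := Local.WCB.isolated_central hiso P.isPGroup' hxP
  refine ⟨Subgroup.mem_inf.2 ⟨hxP, Subgroup.mem_centralizer_iff.2 fun r hr => hcen r hr⟩, ?_⟩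
  have hsc : IsStronglyClosed (Subgroup.zpowers x) (P : Subgroup G) := by
    refine ⟨Subgroup.zpowers_le.2 hxP, ?_⟩
    intro u hu g hv
    obtain ⟨k, rfl⟩ := Subgroup.mem_zpowers_iff.1 hu
    set v := g * x ^ k * g⁻¹ with hv'
    set C := Subgroup.centralizer ({v} : Set G) with hC
    have hxC : x ∈ C := Subgroup.mem_centralizer_iff.2 fun y hy => by
      rw [Set.mem_singleton_iff.1 hy]; exact (hcen v hv).eq
    have hgC : g * x * g⁻¹ ∈ C := Subgroup.mem_centralizer_iff.2 fun y hy => by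
      rw [Set.mem_singleton_iff.1 hy, hv']
      calc g * x ^ k * g⁻¹ * (g * x * g⁻¹) = g * (x ^ k * x) * g⁻¹ := by group
        _ = g * (x * x ^ k) * g⁻¹ := by rw [((Commute.refl x).zpow_left k).eq]
        _ = g * x * g⁻¹ * (g * x ^ k * g⁻¹) := by group
    have hxp : IsPGroup p (Subgroup.zpowers x) := P.isPGroup'.to_le (Subgroup.zpowers_le.2 hxP)
    obtain ⟨R₁, hR₁⟩ := (hxp.comap_of_injective C.subtype C.subtype_injective).exists_le_sylow
    obtain ⟨R₂, hR₂⟩ := ((hxp.map (MulAut.conj g).toMonoidHom).comap_of_injective C.subtype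
      C.subtype_injective).exists_le_sylow
    obtain ⟨c, hc⟩ := MulAction.exists_smul_eq C R₂ R₁
    have h2 : (⟨g * x * g⁻¹, hgC⟩ : C) ∈ (R₂ : Subgroup C) :=
      hR₂ ⟨x, Subgroup.mem_zpowers x, rfl⟩
    have h3 : ((c : G) * g) * x * ((c : G) * g)⁻¹ ∈ (R₁ : Subgroup C).map C.subtype := by
      refine ⟨c * ⟨g * x * g⁻¹, hgC⟩ * c⁻¹, hc ▸ ⟨_, h2, rfl⟩, ?_⟩
      show (c : G) * (g * x * g⁻¹) * (c : G)⁻¹ = _
      group
    have h1 : x ∈ (R₁ : Subgroup C).map C.subtype :=
      ⟨⟨x, hxC⟩, hR₁ (Subgroup.mem_zpowers x), rfl⟩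
    have h4 := Local.WCB.isolated_eq_of_mem hiso (R₁.isPGroup'.map C.subtype) h1 h3
    have h5 : v = x ^ k := by
      have hcv : (c : G) * v * (c : G)⁻¹ = v := by
        rw [← Subgroup.mem_centralizer_iff.1 c.2 v rfl, mul_inv_cancel_right]
      rw [← hcv]
      conv_rhs => rw [← h4, conj_zpow]
      rw [hv']; group
    rw [h5]
    exact zpow_mem (Subgroup.mem_zpowers x) k
  refine ⟨hsc, hsc.1, fun g hg => ?_⟩
  refine Subgroup.eq_of_le_of_card_ge ?_
    (Nat.card_congr ((Subgroup.zpowers x).equivMapOfInjective _ (MulAut.conj g).injective).toEquiv).le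
  rintro _ ⟨u, hu, rfl⟩
  exact hsc.2 u hu g (hg ⟨u, hu, rfl⟩)

end Cfsg.Agent.S2968
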