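import Cfsg.Statements.S2969
import Cfsg.Agent.Lib.Local.WeaklyClosedBasics
-- import your own Cfsg.Agent.* helpers here

set_option autoImplicit false
open Cfsg

namespace Cfsg.Agent.S2969

/-- Let G be a finite group, p a prime and x ∈ G an element of p-power order which is isolated in G. If R is a p-subgroup of G containing x, then N_G(R) ≤ C_G(x); in particular x lies in the centre of R. Moreover, if x lies in a normal subgroup N of a subgroup H of G, then H = N·C_H(x). -/
theorem result {G : Type*} [Group G] [Finite G] {p : ℕ} [Fact p.Prime] (x : G) (hx : ∃ k : ℕ, orderOf x = p ^ k) (hiso : Cfsg.IsIsolated x) : (∀ R : Subgroup G, IsPGroup p ↥R → x ∈ R → Subgroup.normalizer (R : Set G) ≤ Subgroup.centralizer ({x} : Set G)) ∧ (∀ H N : Subgroup G, N ≤ H → H ≤ Subgroup.normalizer (N : Set G) → x ∈ N → N ⊔ (H ⊓ Subgroup.centralizer ({x} : Set G)) = H) := by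
  refine ⟨fun R hR hxR g hg => ?_, fun H N hNH hHN hxN => ?_⟩
  · have h1 := Local.WCB.isolated_eq_of_mem hiso hR hxR ((Subgroup.mem_normalizer_iff.1 hg x).1 hxR)
    rw [Subgroup.mem_centralizer_iff]
    intro y hy
    rw [Set.mem_singleton_iff.1 hy]
    exact (mul_inv_eq_iff_eq_mul.1 h1).symm
  · refine le_antisymm (sup_le hNH inf_le_left) fun h hh => ?_
    obtain ⟨k, hk⟩ := hx
    have hxp : IsPGroup p (Subgroup.zpowers x) :=
      IsPGroup.of_card (n := k) (by rw [Nat.card_zpowers, hk])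
    have hgN : h * x * h⁻¹ ∈ N := (Subgroup.mem_normalizer_iff.1 (hHN hh) x).1 hxN
    obtain ⟨R₁, hR₁⟩ := (hxp.comap_of_injective N.subtype N.subtype_injective).exists_le_sylow
    obtain ⟨R₂, hR₂⟩ := ((hxp.map (MulAut.conj h).toMonoidHom).comap_of_injective N.subtype
      N.subtype_injective).exists_le_sylow
    obtain ⟨c, hc⟩ := MulAction.exists_smul_eq N R₂ R₁
    have h3 : ((c : G) * h) * x * ((c : G) * h)⁻¹ ∈ (R₁ : Subgroup N).map N.subtype := by
      refine ⟨c * ⟨h * x * h⁻¹, hgN⟩ * c⁻¹, hc ▸ ⟨_, hR₂ ⟨x, Subgroup.mem_zpowers x, rfl⟩, rfl⟩, ?_⟩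
      show (c : G) * (h * x * h⁻¹) * (c : G)⁻¹ = _
      group
    have h1 : x ∈ (R₁ : Subgroup N).map N.subtype :=
      ⟨⟨x, hxN⟩, hR₁ (Subgroup.mem_zpowers x), rfl⟩
    have h4 := Local.WCB.isolated_eq_of_mem hiso (R₁.isPGroup'.map N.subtype) h1 h3
    have hmem : (c : G) * h ∈ H ⊓ Subgroup.centralizer ({x} : Set G) := Subgroup.mem_inf.2
      ⟨mul_mem (hNH c.2) hh, Subgroup.mem_centralizer_iff.2 fun y hy => by
        rw [Set.mem_singleton_iff.1 hy]; exact (mul_inv_eq_iff_eq_mul.1 h4).symm⟩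
    rw [show h = (c : G)⁻¹ * ((c : G) * h) by group]
    exact mul_mem (Subgroup.mem_sup_left (inv_mem c.2)) (Subgroup.mem_sup_right hmem)

end Cfsg.Agent.S2969
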