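import Cfsg.Statements.S2970
import Cfsg.Agent.Lib.Local.WeaklyClosedBasics
import Cfsg.Agent.Lib.Solv.NormalPComplement
-- import your own Cfsg.Agent.* helpers here

set_option autoImplicit false
open Cfsg

namespace Cfsg.Agent.S2970

/-- Let G be a finite group, p a prime and x ∈ G an element of p-power order which is isolated in G. Then the image of x in any quotient G ⧸ N is isolated in G ⧸ N; and if x ≠ 1 and the Sylow p-subgroups of G are cyclic, then G has a normal p-complement. -/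
theorem result {G : Type*} [Group G] [Finite G] {p : ℕ} [Fact p.Prime] (x : G) (hx : ∃ k : ℕ, orderOf x = p ^ k) (hiso : Cfsg.IsIsolated x) : (∀ (N : Subgroup G) [N.Normal], Cfsg.IsIsolated (QuotientGroup.mk x : G ⧸ N)) ∧ (x ≠ 1 → (∀ P : Sylow p G, IsCyclic ↥(P : Subgroup G)) → Cfsg.HasNormalPComplement p G) := by
  classical
  have hxp : ∀ H : Subgroup G, IsPGroup p ((Subgroup.zpowers x).subgroupOf H) := by
    obtain ⟨k, hk⟩ := hx
    exact fun H => (IsPGroup.of_card (n := k) (by rw [Nat.card_zpowers, hk])).comap_of_injective _ H.subtype_injective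
  constructor
  · intro N _ gq hgq
    obtain ⟨g, rfl⟩ := QuotientGroup.mk'_surjective N gq
    set f := QuotientGroup.mk' N
    set A := Subgroup.zpowers (f x) ⊔ Subgroup.zpowers (f g * f x * (f g)⁻¹) with hA
    have hAc : ∀ a ∈ A, Commute a (f g * f x * (f g)⁻¹) := by
      intro a ha
      have h1 : A ≤ Subgroup.centralizer ({f g * f x * (f g)⁻¹} : Set (G ⧸ N)) := by
        rw [hA]
        refine sup_le (Subgroup.zpowers_le.2 ?_) (Subgroup.zpowers_le.2 ?_) <;>
          rw [Subgroup.mem_centralizer_iff] <;> intro z hz <;> rw [Set.mem_singleton_iff.1 hz]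
        exact hgq.eq.symm
      exact (Subgroup.mem_centralizer_iff.1 (h1 ha) _ rfl).symm
    set K := A.comap f with hK
    have hxK : x ∈ K := Subgroup.mem_sup_left (Subgroup.mem_zpowers _)
    have hvK : g * x * g⁻¹ ∈ K := by
      show f (g * x * g⁻¹) ∈ A
      rw [map_mul, map_mul, map_inv]
      exact Subgroup.mem_sup_right (Subgroup.mem_zpowers _)
    have hvp : IsPGroup p ((Subgroup.zpowers (g * x * g⁻¹)).subgroupOf K) := by
      obtain ⟨k, hk⟩ := hx
      refine (IsPGroup.of_card (n := k) ?_).comap_of_injective _ K.subtype_injective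
      rw [Nat.card_zpowers, show g * x * g⁻¹ = (MulAut.conj g).toMonoidHom x from rfl,
        orderOf_injective (MulAut.conj g).toMonoidHom (MulAut.conj g).injective, hk]
    obtain ⟨R₁, hR₁⟩ := (hxp K).exists_le_sylow
    obtain ⟨R₂, hR₂⟩ := hvp.exists_le_sylow
    obtain ⟨c, hc⟩ := MulAction.exists_smul_eq K R₂ R₁
    have h3 : (c : G) * g * x * ((c : G) * g)⁻¹ ∈ (R₁ : Subgroup K).map K.subtype := by
      refine ⟨c * ⟨g * x * g⁻¹, hvK⟩ * c⁻¹, hc ▸ ⟨_, hR₂ (Subgroup.mem_zpowers _), rfl⟩, ?_⟩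
      show (c : G) * (g * x * g⁻¹) * (c : G)⁻¹ = _
      group
    have h4 := Local.WCB.isolated_eq_of_mem hiso (R₁.isPGroup'.map K.subtype)
      (⟨⟨x, hxK⟩, hR₁ (Subgroup.mem_zpowers _), rfl⟩) h3
    have h5 : f x = f c * (f g * f x * (f g)⁻¹) * (f c)⁻¹ := by
      conv_lhs => rw [← h4]
      simp only [map_mul, map_inv, mul_inv_rev, mul_assoc]
    rw [(hAc _ c.2).eq, mul_inv_cancel_right] at h5
    exact h5.symm
  · intro hx1 hcyc
    have hzp : IsPGroup p (Subgroup.zpowers x) := by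
      obtain ⟨k, hk⟩ := hx
      exact IsPGroup.of_card (n := k) (by rw [Nat.card_zpowers, hk])
    obtain ⟨P, hP⟩ := hzp.exists_le_sylow
    have hxP : x ∈ (P : Subgroup G) := hP (Subgroup.mem_zpowers x)
    refine Solv.hasNormalPComplement_of_burnside P fun g hg => ?_
    haveI := hcyc P
    obtain ⟨γ, hγ⟩ := IsCyclic.exists_generator (α := (P : Subgroup G))
    have hab : ∀ a ∈ (P : Subgroup G), ∀ b ∈ (P : Subgroup G), a * b = b * a := fun a ha b hb => by
      obtain ⟨i, hi⟩ := Subgroup.mem_zpowers_iff.1 (hγ ⟨a, ha⟩)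
      obtain ⟨j, hj⟩ := Subgroup.mem_zpowers_iff.1 (hγ ⟨b, hb⟩)
      have : (⟨a, ha⟩ : (P : Subgroup G)) * ⟨b, hb⟩ = ⟨b, hb⟩ * ⟨a, ha⟩ := by
        rw [← hi, ← hj, ← zpow_add, ← zpow_add, add_comm]
      exact congrArg Subtype.val this
    have hcop : ∀ a ∈ Subgroup.normalizer ((P : Subgroup G) : Set G), (orderOf a).Coprime p →
        Commute a (γ : G) := by
      intro a ha hao
      obtain ⟨m, hm⟩ := Subgroup.mem_zpowers_iff.1 (hγ ⟨a * γ * a⁻¹, (Subgroup.mem_normalizer_iff.1 ha _).1 γ.2⟩)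
      have hm' : a * (γ : G) * a⁻¹ = (γ : G) ^ m := by
        have := congrArg Subtype.val hm
        simpa using this.symm
      obtain ⟨i, hi⟩ := Subgroup.mem_zpowers_iff.1 (hγ ⟨x, hxP⟩)
      have hi' : (γ : G) ^ i = x := by simpa using congrArg Subtype.val hi
      have hax : a * x * a⁻¹ = x :=
        Local.WCB.isolated_eq_of_mem hiso P.isPGroup' hxP ((Subgroup.mem_normalizer_iff.1 ha _).1 hxP)
      have hxm : x ^ (m - 1) = 1 := by
        rw [zpow_sub, zpow_one, mul_inv_eq_one]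
        conv_rhs => rw [← hax, ← hi', ← conj_zpow, hm', ← zpow_mul, mul_comm, zpow_mul, hi']
      have hpm : (p : ℤ) ∣ m - 1 := by
        refine dvd_trans (Int.natCast_dvd_natCast.2 ?_) (orderOf_dvd_iff_zpow_eq_one.2 hxm)
        obtain ⟨k, hk⟩ := hx
        rcases k with _ | k
        · exact absurd (orderOf_eq_one_iff.1 (by simpa using hk)) hx1
        · rw [hk]; exact dvd_pow_self p k.succ_ne_zero
      obtain ⟨k, hk⟩ := P.isPGroup'.exists_card_eq
      have hpow : (p : ℤ) ^ (k + 1) ∣ m ^ p ^ k - 1 := by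
        have := dvd_sub_pow_of_dvd_sub (R := ℤ) (p := p) hpm k
        simpa using this
      have hiter : ∀ j : ℕ, a ^ j * (γ : G) * (a ^ j)⁻¹ = (γ : G) ^ (m ^ j) := by
        intro j
        induction j with
        | zero => simp
        | succ j ih =>
          rw [pow_succ', show a * a ^ j * (γ : G) * (a * a ^ j)⁻¹ = a * (a ^ j * γ * (a ^ j)⁻¹) * a⁻¹ by group, ih,
            ← conj_zpow, hm', ← zpow_mul, pow_succ']
      have hone : (γ : G) ^ (m ^ p ^ k - 1) = 1 := by
        refine orderOf_dvd_iff_zpow_eq_one.1 (dvd_trans ?_ hpow)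
        have h1 : orderOf (γ : G) ∣ p ^ k := hk ▸ Subgroup.orderOf_dvd_natCard _ γ.2
        exact_mod_cast h1.trans (pow_dvd_pow p k.le_succ)
      have hc : Commute (a ^ p ^ k) (γ : G) := by
        have := hiter (p ^ k)
        rw [zpow_sub, zpow_one, mul_inv_eq_one] at hone
        rw [hone] at this
        exact mul_inv_eq_iff_eq_mul.1 this
      obtain ⟨j, hj⟩ := exists_pow_eq_self_of_coprime (x := a) (n := p ^ k) (Nat.Coprime.pow_left k hao.symm)
      have := hc.pow_left j
      rwa [hj] at this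
    obtain ⟨v, m, hm, he⟩ := Nat.exists_eq_pow_mul_and_not_dvd (orderOf_pos g).ne' p (Fact.out : p.Prime).one_lt.ne'
    have h1 : Commute (g ^ p ^ v) (γ : G) := by
      refine hcop _ (pow_mem hg _) ?_
      rw [orderOf_pow, he, Nat.gcd_eq_right (dvd_mul_right _ _), Nat.mul_div_cancel_left _ (pow_pos (Fact.out : p.Prime).pos v)]
      exact ((Fact.out : p.Prime).coprime_iff_not_dvd.2 hm).symm
    have h2 : g ^ m ∈ (P : Subgroup G) := by
      have hgm : IsPGroup p (Subgroup.zpowers (g ^ m)) := by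
        intro z
        refine ⟨v, Subtype.ext ?_⟩
        obtain ⟨i, hi⟩ := Subgroup.mem_zpowers_iff.1 z.2
        rw [SubmonoidClass.coe_pow, ← hi, ← zpow_natCast, ← zpow_mul, mul_comm, zpow_mul, zpow_natCast,
          ← pow_mul, mul_comm m, ← he, pow_orderOf_eq_one, one_zpow]
        rfl
      have hsup := P.is_maximal' (hgm.to_sup_of_normal_right' P.isPGroup' (Subgroup.zpowers_le.2 (pow_mem hg m))) le_sup_right
      exact hsup.le (Subgroup.mem_sup_left (Subgroup.mem_zpowers _))
    have h3 : Commute (g ^ m) (γ : G) := hab _ h2 _ γ.2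
    have hgc : Commute g (γ : G) := by
      have hcop' : Nat.Coprime (p ^ v) m := Nat.Coprime.pow_left v ((Fact.out : p.Prime).coprime_iff_not_dvd.2 hm)
      have h4 := (h1.zpow_left (Nat.gcdA (p ^ v) m)).mul_left (h3.zpow_left (Nat.gcdB (p ^ v) m))
      rwa [← zpow_natCast, ← zpow_natCast, ← zpow_mul, ← zpow_mul, ← zpow_add,
        ← Nat.gcd_eq_gcd_ab, hcop', Nat.cast_one, zpow_one] at h4
    rw [Subgroup.mem_centralizer_iff]
    intro y hy
    obtain ⟨i, hi⟩ := Subgroup.mem_zpowers_iff.1 (hγ ⟨y, hy⟩)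
    have hi' : (γ : G) ^ i = y := by simpa using congrArg Subtype.val hi
    rw [← hi']
    exact ((hgc.zpow_right i).symm).eq

end Cfsg.Agent.S2970
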