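import Cfsg.Statements.S2971
import Cfsg.Agent.Lib.Solv.NormalPComplement
import Cfsg.Agent.Lib.Local.OddPGroupInvolution
import Cfsg.Agent.Lib.Local.PGroup
-- import your own Cfsg.Agent.* helpers here

set_option autoImplicit false
open Cfsg

namespace Cfsg.Agent.S2971

/-- Let G be a finite group and p an odd prime such that G has p-rank at most 1 (no elementary abelian subgroup of order p²). If x ∈ G is an isolated element of order p, then x is central modulo the largest normal subgroup of G of order prime to p. -/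
theorem result {G : Type*} [Group G] [Finite G] {p : ℕ} [Fact p.Prime] (hp : p ≠ 2) (hrk : Cfsg.PRankLE p 1 G) (x : G) (hx : orderOf x = p) (hiso : Cfsg.IsIsolated x) : Cfsg.InZStar p x := by
  classical
  have hxp : x ^ p = 1 := hx ▸ pow_orderOf_eq_one x
  obtain ⟨P, hP⟩ := (IsPGroup.of_card (n := 1) (by rw [Nat.card_zpowers, hx, pow_one]) :
    IsPGroup p (Subgroup.zpowers x)).exists_le_sylow
  have hxP : x ∈ (P : Subgroup G) := hP (Subgroup.mem_zpowers x)
  have hx1 : x ≠ 1 := fun h => by
    rw [h, orderOf_one] at hx; exact (Fact.out : p.Prime).ne_one hx.symm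
  haveI : Nontrivial ↥(P : Subgroup G) := ⟨⟨⟨x, hxP⟩, 1, fun h => hx1 (congrArg Subtype.val h)⟩⟩
  haveI := P.isPGroup'.center_nontrivial
  obtain ⟨w, hwo⟩ := exists_prime_orderOf_dvd_card' (G := ↥(Subgroup.center ↥(P : Subgroup G))) p (by
    obtain ⟨n, hn⟩ := IsPGroup.iff_card.1 (P.isPGroup'.to_subgroup (Subgroup.center ↥(P : Subgroup G)))
    rw [hn]
    rcases n with _ | n
    · exfalso
      have := (Finite.one_lt_card_iff_nontrivial (α := ↥(Subgroup.center ↥(P : Subgroup G)))).2 inferInstance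
      rw [hn] at this
      simp at this
    · exact dvd_pow_self _ (Nat.succ_ne_zero n))
  set w' : G := ((w : ↥(P : Subgroup G)) : G)
  have hw'o : orderOf w' = p := by
    rw [← hwo, ← Subgroup.orderOf_coe w, ← Subgroup.orderOf_coe (w : ↥(P : Subgroup G))]
  have hw'p : w' ^ p = 1 := hw'o ▸ pow_orderOf_eq_one w'
  have huniq : ∀ y ∈ (P : Subgroup G), y ^ p = 1 → y ∈ Subgroup.zpowers w' := by
    intro y hy hyp
    have hc : Commute w' y := by
      have := Subgroup.mem_center_iff.1 w.2 ⟨y, hy⟩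
      exact (congrArg Subtype.val this).symm
    set A := Subgroup.closure ({w', y} : Set G) with hA
    have hAc : ∀ a ∈ A, ∀ b ∈ A, a * b = b * a := by
      have h1 : A ≤ Subgroup.centralizer (({w', y} : Set G)) := by
        rw [hA, Subgroup.closure_le]
        intro a ha
        refine Subgroup.mem_centralizer_iff.2 fun b hb => ?_
        rcases ha with rfl | rfl <;> rcases hb with rfl | rfl
        exacts [rfl, hc.symm.eq, hc.eq, rfl]
      intro a ha b hb
      have h2 : A ≤ Subgroup.centralizer ({a} : Set G) := by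
        rw [hA, Subgroup.closure_le]
        intro c hc'
        exact Subgroup.mem_centralizer_singleton_iff.2 (Subgroup.mem_centralizer_iff.1 (h1 ha) c hc')
      exact (Subgroup.mem_centralizer_singleton_iff.1 (h2 hb)).symm
    haveI hAc' : IsMulCommutative A := ⟨⟨fun a b => Subtype.ext (hAc _ a.2 _ b.2)⟩⟩
    have hAp : ∀ a ∈ A, a ^ p = 1 := by
      intro a ha
      induction ha using Subgroup.closure_induction with
      | mem a ha => rcases ha with rfl | rfl <;> assumption
      | one => exact one_pow _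
      | mul a b ha hb iha ihb => rw [Commute.mul_pow (hAc a ha b hb), iha, ihb, one_mul]
      | inv a _ iha => rw [inv_pow, iha, inv_one]
    have hcard := hrk A hAc' hAp
    rw [pow_one] at hcard
    have heq : Subgroup.zpowers w' = A := Subgroup.eq_of_le_of_card_ge
      (Subgroup.zpowers_le.2 (Subgroup.subset_closure (Set.mem_insert _ _))) (by rwa [Nat.card_zpowers, hw'o])
    rw [heq]
    exact Subgroup.subset_closure (Set.mem_insert_of_mem _ rfl)
  obtain ⟨g, hg, hPg⟩ := Cfsg.Agent.Local.isCyclic_of_unique_order hp hw'p (P : Subgroup G) P.isPGroup' huniq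
  have habel : ∀ a ∈ (P : Subgroup G), ∀ b ∈ (P : Subgroup G), Commute a b := by
    intro a ha b hb
    rw [hPg] at ha hb
    obtain ⟨i, rfl⟩ := Subgroup.mem_zpowers_iff.1 ha
    obtain ⟨j, rfl⟩ := Subgroup.mem_zpowers_iff.1 hb
    exact Commute.zpow_zpow (Commute.refl g) i j
  have hburn : Subgroup.normalizer ((P : Subgroup G) : Set G) ≤ Subgroup.centralizer ((P : Subgroup G) : Set G) := by
    intro n hn
    have hfix : n * x * n⁻¹ = x :=
      hiso n (habel x hxP _ ((Subgroup.mem_normalizer_iff.1 hn x).1 hxP))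
    have hmem : n * g * n⁻¹ ∈ Subgroup.zpowers g := hPg ▸ (Subgroup.mem_normalizer_iff.1 hn g).1 hg
    obtain ⟨k, hk⟩ := Subgroup.mem_zpowers_iff.1 hmem
    obtain ⟨t, ht⟩ := Subgroup.mem_zpowers_iff.1 (hPg ▸ hxP : x ∈ Subgroup.zpowers g)
    have hconj : ∀ (i : ℕ), n ^ i * g * (n ^ i)⁻¹ = g ^ (k ^ i) := by
      intro i
      induction i with
      | zero => simp
      | succ i ih =>
        have e : n ^ (i + 1) * g * (n ^ (i + 1))⁻¹ = MulAut.conj (n ^ i) (MulAut.conj n g) := by
          rw [← MulAut.mul_apply, ← map_mul, ← pow_succ]; rfl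
        rw [e, MulAut.conj_apply (g := n), ← hk, map_zpow, MulAut.conj_apply, ih, ← zpow_mul, pow_succ]
    have hgk : x ^ k = x := by
      conv_rhs => rw [← hfix, ← ht]
      rw [show n * g ^ t * n⁻¹ = MulAut.conj n (g ^ t) from rfl, map_zpow, MulAut.conj_apply, ← hk,
        ← zpow_mul, ← ht, ← zpow_mul, mul_comm]
    have hk1 : (p : ℤ) ∣ k - 1 := by
      rw [← hx, orderOf_dvd_iff_zpow_eq_one, zpow_sub, hgk, zpow_one, mul_inv_cancel]
    obtain ⟨e, he⟩ := IsPGroup.iff_card.1 P.isPGroup'
    have hgo : orderOf g = p ^ e := by rw [← he, hPg, Nat.card_zpowers]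
    set N := Subgroup.normalizer ((P : Subgroup G) : Set G)
    have hPN : (P : Subgroup G) ≤ N := Subgroup.le_normalizer
    haveI : ((P : Subgroup G).subgroupOf N).Normal := Subgroup.normal_in_normalizer
    set M := ((P : Subgroup G).subgroupOf N).index
    have hM : M.Coprime p := by
      refine ((Fact.out : p.Prime).coprime_iff_not_dvd.2 fun hd => P.not_dvd_index ?_).symm
      exact hd.trans (Subgroup.relIndex_dvd_index_of_le hPN)
    have hnM : n ^ M ∈ (P : Subgroup G) := by
      have := Subgroup.pow_index_mem ((P : Subgroup G).subgroupOf N) ⟨n, hn⟩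
      simpa [Subgroup.mem_subgroupOf] using this
    have h1 : ((k : ℤ) : ZMod (p ^ e)) ^ M = 1 := by
      have h := hconj M
      rw [(habel _ hnM g hg).eq, mul_inv_cancel_right] at h
      have h' : g ^ (k ^ M - 1) = 1 := by rw [zpow_sub, ← h, zpow_one, mul_inv_cancel]
      rw [← orderOf_dvd_iff_zpow_eq_one, hgo, ← ZMod.intCast_zmod_eq_zero_iff_dvd] at h'
      push_cast at h'
      exact sub_eq_zero.1 h'
    have h2 : ((k : ℤ) : ZMod (p ^ e)) ^ (p ^ e) = 1 := by
      have h := dvd_sub_pow_of_dvd_sub hk1 e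
      rw [one_pow] at h
      have h' : ((p ^ e : ℕ) : ℤ) ∣ k ^ p ^ e - 1 := by
        push_cast
        exact (pow_dvd_pow _ (Nat.le_succ e)).trans h
      rw [← ZMod.intCast_zmod_eq_zero_iff_dvd] at h'
      push_cast at h'
      exact sub_eq_zero.1 h'
    have h3 := pow_gcd_eq_one.2 ⟨h1, h2⟩
    rw [Nat.Coprime.gcd_eq_one (hM.pow_right e), pow_one] at h3
    have h4 : g ^ k = g := by
      have h5 : ((p ^ e : ℕ) : ℤ) ∣ k - 1 := by
        rw [← ZMod.intCast_zmod_eq_zero_iff_dvd]; push_cast; rw [h3, sub_self]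
      rw [← hgo, orderOf_dvd_iff_zpow_eq_one, zpow_sub, zpow_one, mul_inv_eq_one] at h5
      exact h5
    rw [h4] at hk
    have hcg : Commute n g := by
      show n * g = g * n
      conv_rhs => rw [hk, inv_mul_cancel_right]
    refine Subgroup.mem_centralizer_iff.2 fun a ha => ?_
    obtain ⟨i, rfl⟩ := Subgroup.mem_zpowers_iff.1 (hPg ▸ ha : a ∈ Subgroup.zpowers g)
    exact (hcg.zpow_right i).symm.eq
  have hnpc := Cfsg.Agent.Solv.hasNormalPComplement_of_burnside P hburn
  have hcomp := Cfsg.Agent.Solv.isComplement'_pPrimeCore hnpc P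
  intro a
  obtain ⟨⟨⟨c, hc⟩, ⟨b, hb⟩⟩, hcb⟩ := (hcomp.existsUnique a).exists
  have hcb' : c * b = a := hcb
  have hK : (Cfsg.pPrimeCore p G).Normal := inferInstance
  have e : a * x * a⁻¹ * x⁻¹ = c * (x * c⁻¹ * x⁻¹) := by
    rw [← hcb']
    have hbx : b * x * b⁻¹ = x := by rw [(habel b hb x hxP).eq, mul_inv_cancel_right]
    calc c * b * x * (c * b)⁻¹ * x⁻¹ = c * (b * x * b⁻¹) * c⁻¹ * x⁻¹ := by group
      _ = c * (x * c⁻¹ * x⁻¹) := by rw [hbx]; group
  rw [e]
  exact mul_mem hc (hK.conj_mem _ (inv_mem hc) x)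

end Cfsg.Agent.S2971
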