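import Cfsg.Statements.S2998
import Cfsg.Agent.Lib.Local.WeaklyClosedBasics
import Cfsg.Agent.Lib.Solv.Basic
import Cfsg.Agent.Lib.Solv.Misc
-- import your own Cfsg.Agent.* helpers here

set_option autoImplicit false
open Cfsg

namespace Cfsg.Agent.S2998

/-- Let G be a finite group, p a prime, P a Sylow p-subgroup of G and x ∈ P an element such that N_G(R) ≤ C_G(x) for every nontrivial subgroup R of P. Then P ≤ C_G(x); every G-conjugate of x lying in P equals x (so g ∈ C_G(x) whenever g x g⁻¹ ∈ P); and for every normal subgroup N of G, the image of x in G ⧸ N has the same property with respect to the image of P: the normalizer of every nontrivial subgroup of the image of P centralizes the image of x. -/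
theorem result {G : Type*} [Group G] [Finite G] {p : ℕ} [Fact p.Prime] (P : Sylow p G) (x : G) (hxP : x ∈ (P : Subgroup G)) (hlc : ∀ R : Subgroup G, R ≤ (P : Subgroup G) → R ≠ ⊥ → Subgroup.normalizer (R : Set G) ≤ Subgroup.centralizer ({x} : Set G)) : (P : Subgroup G) ≤ Subgroup.centralizer ({x} : Set G) ∧ (∀ g : G, g * x * g⁻¹ ∈ (P : Subgroup G) → g * x * g⁻¹ = x) ∧ ∀ (N : Subgroup G) [N.Normal], ∀ R : Subgroup (G ⧸ N), R ≤ (P : Subgroup G).map (QuotientGroup.mk' N) → R ≠ ⊥ → Subgroup.normalizer (R : Set (G ⧸ N)) ≤ Subgroup.centralizer ({(QuotientGroup.mk x : G ⧸ N)} : Set (G ⧸ N)) := by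
  classical
  by_cases hP : (P : Subgroup G) = ⊥
  · have hx1 : x = 1 := by rw [hP] at hxP; exact hxP
    subst hx1
    refine ⟨by rw [hP]; exact bot_le, fun g _ => by simp, fun N _ R hR hR1 => ?_⟩
    rw [hP, Subgroup.map_bot, le_bot_iff] at hR
    exact absurd hR hR1
  have hPC : (P : Subgroup G) ≤ Subgroup.centralizer ({x} : Set G) :=
    Subgroup.le_normalizer.trans (hlc _ le_rfl hP)
  refine ⟨hPC, fun g hg => ?_, fun N _ R hR hR1 => ?_⟩
  · by_cases hx1 : x = 1
    · subst hx1; simp
    set u := g * x * g⁻¹ with hu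
    have hu1 : u ≠ 1 := fun e => hx1 (by rw [hu] at e; simpa using e)
    have hle : Subgroup.centralizer ({u} : Set G) ≤ Subgroup.centralizer ({x} : Set G) := by
      refine le_trans (fun c hc => ?_) (hlc (Subgroup.zpowers u) (Subgroup.zpowers_le.2 hg)
        (by simpa using hu1))
      refine Subgroup.centralizer_le_normalizer _ ?_
      rw [Subgroup.mem_centralizer_iff]
      intro z hz
      obtain ⟨k, rfl⟩ := Subgroup.mem_zpowers_iff.1 hz
      exact ((show Commute u c from Subgroup.mem_centralizer_iff.1 hc u rfl).zpow_left k).eq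
    have hmap : (Subgroup.centralizer ({x} : Set G)).map (MulAut.conj g).toMonoidHom ≤
        Subgroup.centralizer ({u} : Set G) := by
      rintro _ ⟨y, hy, rfl⟩
      rw [Subgroup.mem_centralizer_iff]
      intro z hz
      rw [Set.mem_singleton_iff.1 hz, hu]
      show g * x * g⁻¹ * (g * y * g⁻¹) = g * y * g⁻¹ * (g * x * g⁻¹)
      calc g * x * g⁻¹ * (g * y * g⁻¹) = g * (x * y) * g⁻¹ := by group
        _ = g * (y * x) * g⁻¹ := by rw [Subgroup.mem_centralizer_iff.1 hy x rfl]
        _ = _ := by group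
    have hcard := Nat.card_congr ((Subgroup.centralizer ({x} : Set G)).equivMapOfInjective
      (MulAut.conj g).toMonoidHom (MulAut.conj g).injective).toEquiv
    have heq : Subgroup.centralizer ({u} : Set G) = Subgroup.centralizer ({x} : Set G) :=
      Subgroup.eq_of_le_of_card_ge hle (hcard.le.trans (Subgroup.card_le_of_le hmap))
    have hPu : (P : Subgroup G) ≤ Subgroup.centralizer ({u} : Set G) := heq ▸ hPC
    have hgP : ((g • P : Sylow p G) : Subgroup G) ≤ Subgroup.centralizer ({u} : Set G) := by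
      rintro _ ⟨y, hy, rfl⟩
      exact hmap ⟨y, hPC hy, rfl⟩
    obtain ⟨c, hc⟩ := MulAction.exists_smul_eq (Subgroup.centralizer ({u} : Set G))
      ((g • P).subtype hgP) (P.subtype hPu)
    rw [Sylow.smul_subtype] at hc
    have h4 : ((c : G) * g) • P = P := by rw [mul_smul]; exact Sylow.subtype_injective hc
    have h5 := Subgroup.mem_centralizer_iff.1 (hlc _ le_rfl hP (Sylow.smul_eq_iff_mem_normalizer.1 h4)) x rfl
    have h6 : (c : G) * u * (c : G)⁻¹ = u := by
      rw [← Subgroup.mem_centralizer_iff.1 c.2 u rfl, mul_inv_cancel_right]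
    have h7 : (c : G) * g * x * ((c : G) * g)⁻¹ = x := by rw [← h5, mul_inv_cancel_right]
    have h8 : (c : G) * g * x * ((c : G) * g)⁻¹ = (c : G) * (g * x * g⁻¹) * (c : G)⁻¹ := by group
    exact h6.symm.trans (h8.symm.trans h7)
  · set f := QuotientGroup.mk' N with hf
    set K := R.comap f with hK
    set R₀ := (P : Subgroup G) ⊓ K with hR₀
    have hR₀R : R₀.map f = R := by
      refine le_antisymm ((Subgroup.map_mono inf_le_right).trans (Subgroup.map_comap_le _ _)) fun r hr => ?_
      obtain ⟨y, hy, rfl⟩ := hR hr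
      exact ⟨y, Subgroup.mem_inf.2 ⟨hy, hr⟩, rfl⟩
    have hR₀1 : R₀ ≠ ⊥ := fun e => hR1 (by rw [← hR₀R, e, Subgroup.map_bot])
    have hidx : ¬ p ∣ (R₀.subgroupOf K).index := by
      intro hdiv
      have hNK : N ≤ K := fun n hn => by
        show f n ∈ R
        rw [show f n = 1 from (QuotientGroup.eq_one_iff n).2 hn]; exact R.one_mem
      have hsup : R₀ ⊔ N = K := by
        refine le_antisymm (sup_le inf_le_right hNK) fun k hk => ?_
        obtain ⟨y, hy, e⟩ := (hR₀R.symm ▸ (hk : f k ∈ R) : f k ∈ R₀.map f)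
        rw [show k = y * (y⁻¹ * k) by group]
        exact mul_mem (Subgroup.mem_sup_left hy) (Subgroup.mem_sup_right ((QuotientGroup.eq_one_iff _).1
          (show f (y⁻¹ * k) = 1 by rw [map_mul, map_inv, e, inv_mul_cancel])))
      have h1 := Solv.card_sup_mul_card_inf N R₀ (Subgroup.normalizer_eq_top N ▸ le_top)
      rw [sup_comm, hsup, inf_comm] at h1
      have h2 : R₀ ⊓ N = (P : Subgroup G) ⊓ N := by
        rw [hR₀, inf_assoc, inf_eq_right.2 hNK]
      have h3 := (R₀.subgroupOf K).card_mul_index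
      rw [Solv.card_subgroupOf inf_le_right] at h3
      have h5 := ((P : Subgroup G).subgroupOf N).card_mul_index
      have h6 : Nat.card ((P : Subgroup G).subgroupOf N) = Nat.card ↥((P : Subgroup G) ⊓ N) := by
        rw [← Subgroup.inf_subgroupOf_right, Solv.card_subgroupOf inf_le_right]
      rw [h6] at h5
      rw [h2] at h1
      have h4 : ((P : Subgroup G).subgroupOf N).index = (R₀.subgroupOf K).index := by
        apply Nat.eq_of_mul_eq_mul_left (Nat.mul_pos (Nat.card_pos (α := R₀)) (Nat.card_pos (α := ↥((P : Subgroup G) ⊓ N))))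
        calc _ = Nat.card R₀ * (Nat.card ↥((P : Subgroup G) ⊓ N) * ((P : Subgroup G).subgroupOf N).index) := by ring
          _ = Nat.card R₀ * Nat.card N := by rw [h5]
          _ = Nat.card K * Nat.card ↥((P : Subgroup G) ⊓ N) := by rw [h1]; ring
          _ = Nat.card R₀ * (R₀.subgroupOf K).index * Nat.card ↥((P : Subgroup G) ⊓ N) := by rw [h3]
          _ = _ := by ring
      refine Solv.index_sylow_inf_subnormal N (Subgroup.Normal.isSubnormal inferInstance) P ?_
      rw [h4]; exact hdiv
    let S : Sylow p K := ((P.isPGroup'.to_le inf_le_left : IsPGroup p R₀).comap_of_injective K.subtype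
      K.subtype_injective).toSylow hidx
    intro g hg
    obtain ⟨g', rfl⟩ := QuotientGroup.mk'_surjective N g
    have hgK : K.map (MulAut.conj g').toMonoidHom = K := by
      refine Subgroup.eq_of_le_of_card_ge ?_
        (Nat.card_congr (K.equivMapOfInjective _ (MulAut.conj g').injective).toEquiv).le
      rintro _ ⟨y, hy, rfl⟩
      show f (g' * y * g'⁻¹) ∈ R
      rw [map_mul, map_mul, map_inv]
      exact (Subgroup.mem_normalizer_iff.1 hg _).1 hy
    have hgR₀ : R₀.map (MulAut.conj g').toMonoidHom ≤ K :=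
      le_trans (Subgroup.map_mono inf_le_right) hgK.le
    let S' : Sylow p K := (((P.isPGroup'.to_le inf_le_left : IsPGroup p R₀).map (MulAut.conj g').toMonoidHom).comap_of_injective
      K.subtype K.subtype_injective).toSylow (by
        show ¬ p ∣ ((R₀.map (MulAut.conj g').toMonoidHom).subgroupOf K).index
        have : (R₀.map (MulAut.conj g').toMonoidHom).relIndex K = R₀.relIndex K := by
          conv_lhs => rw [← hgK]
          exact Subgroup.relIndex_map_map_of_injective _ _ (MulAut.conj g').injective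
        intro h
        apply hidx
        show p ∣ R₀.relIndex K
        rw [← this]
        exact h)
    obtain ⟨k, hk⟩ := MulAction.exists_smul_eq K S' S
    have hmem : (k : G) * g' ∈ Subgroup.normalizer (R₀ : Set G) := by
      refine Local.WCB.mem_normalizer_of_map_conj_eq (Subgroup.eq_of_le_of_card_ge ?_
        (Nat.card_congr (R₀.equivMapOfInjective _ (MulAut.conj ((k : G) * g')).injective).toEquiv).le)
      rintro _ ⟨y, hy, rfl⟩
      have h1 : (⟨g' * y * g'⁻¹, hgR₀ ⟨y, hy, rfl⟩⟩ : K) ∈ (S' : Subgroup K) := ⟨y, hy, rfl⟩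
      have h2 : k * ⟨g' * y * g'⁻¹, hgR₀ ⟨y, hy, rfl⟩⟩ * k⁻¹ ∈ (S : Subgroup K) := hk ▸ ⟨_, h1, rfl⟩
      have h3 : (k : G) * (g' * y * g'⁻¹) * (k : G)⁻¹ ∈ R₀ := h2
      show (k : G) * g' * y * ((k : G) * g')⁻¹ ∈ R₀
      rw [show (k : G) * g' * y * ((k : G) * g')⁻¹ = (k : G) * (g' * y * g'⁻¹) * (k : G)⁻¹ by group]
      exact h3
    have hc := hlc R₀ inf_le_left hR₀1 hmem
    obtain ⟨y, hy, e⟩ := (hR₀R.symm ▸ (k.2 : f k ∈ R) : f k ∈ R₀.map f)
    have hyx : Commute x y := Subgroup.mem_centralizer_iff.1 (hPC hy.1) x rfl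
    have h5 : Commute (f x) (f g') := by
      have h6 : Commute (f x) (f ((k : G) * g')) :=
        (show Commute x ((k : G) * g') from Subgroup.mem_centralizer_iff.1 hc x rfl).map f
      have h7 : Commute (f x) (f y)⁻¹ := (hyx.map f).inv_right
      have := h7.mul_right h6
      rwa [map_mul f (k : G), e, inv_mul_cancel_left] at this
    rw [Subgroup.mem_centralizer_iff]
    intro z hz
    rw [Set.mem_singleton_iff.1 hz]
    exact h5.eq

end Cfsg.Agent.S2998
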