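import Cfsg.Statements.S3003
import Cfsg.Agent.Lib.Local.CoprimeGeneration
-- import your own Cfsg.Agent.* helpers here

set_option autoImplicit false
open Cfsg

namespace Cfsg.Agent.S3003

/-- Let G be a finite group, p a prime and Q a large p-subgroup of G: C_G(Q) ≤ Q and N_G(U) ≤ N_G(Q) for every nontrivial subgroup U of C_G(Q). Let Q ≤ G₁ ≤ G, let R be a subgroup of order prime to p normalized by G₁, and let U ≤ G₁ be a p-subgroup. If U contains a nontrivial element which is G₁-conjugate to an element of Z(Q), then C_R(U) = 1. In particular, if U is elementary abelian of order at least p² and every maximal subgroup of U contains a nontrivial element G₁-conjugate into Z(Q), then R = 1. -/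
theorem result {G : Type*} [Group G] [Finite G] {p : ℕ} [Fact p.Prime] (Q : Subgroup G) (hQp : IsPGroup p ↥Q) (hlarge : Cfsg.IsLarge Q) (G₁ : Subgroup G) (hQG : Q ≤ G₁) (R : Subgroup G) (hR : (Nat.card ↥R).Coprime p) (hGR : G₁ ≤ Subgroup.normalizer (R : Set G)) (U : Subgroup G) (hUG : U ≤ G₁) (hUp : IsPGroup p ↥U) : ((∃ x ∈ U, x ≠ 1 ∧ ∃ g ∈ G₁, g * x * g⁻¹ ∈ Q ⊓ Subgroup.centralizer (Q : Set G)) → R ⊓ Subgroup.centralizer (U : Set G) = ⊥) ∧ (Cfsg.IsElementaryAbelian p U → p ^ 2 ≤ Nat.card ↥U → (∀ U₀ : Subgroup G, U₀ ≤ U → IsCoatom (U₀.subgroupOf U) → ∃ x ∈ U₀, x ≠ 1 ∧ ∃ g ∈ G₁, g * x * g⁻¹ ∈ Q ⊓ Subgroup.centralizer (Q : Set G)) → R = ⊥) := by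
  classical
  obtain ⟨hCQ, hnorm⟩ := hlarge
  have hRQ : R ⊓ Subgroup.normalizer (Q : Set G) = ⊥ := by
    have hint : R ⊓ Q = ⊥ := by
      obtain ⟨k, hk⟩ := IsPGroup.iff_card.1 hQp
      exact Subgroup.inf_eq_bot_of_coprime (hk ▸ hR.pow_right k)
    refine (Subgroup.eq_bot_iff_forall _).2 fun s hs => ?_
    obtain ⟨hsR, hsN⟩ := hs
    have hsC : s ∈ Subgroup.centralizer (Q : Set G) := by
      refine Subgroup.mem_centralizer_iff.2 fun q hq => ?_
      have h1 : q * s * q⁻¹ * s⁻¹ ∈ R ⊓ Q := Subgroup.mem_inf.2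
        ⟨mul_mem ((Subgroup.mem_normalizer_iff.1 (hGR (hQG hq)) _).1 hsR) (inv_mem hsR), by
          rw [show q * s * q⁻¹ * s⁻¹ = q * (s * q⁻¹ * s⁻¹) by group]
          exact mul_mem hq ((Subgroup.mem_normalizer_iff.1 hsN _).1 (inv_mem hq))⟩
      rw [hint, Subgroup.mem_bot, mul_inv_eq_one, mul_inv_eq_iff_eq_mul] at h1
      exact h1
    have h2 : s ∈ R ⊓ Q := Subgroup.mem_inf.2 ⟨hsR, hCQ hsC⟩
    rwa [hint, Subgroup.mem_bot] at h2
  have part1 : ∀ W : Subgroup G, (∃ x ∈ W, x ≠ 1 ∧ ∃ g ∈ G₁, g * x * g⁻¹ ∈ Q ⊓ Subgroup.centralizer (Q : Set G)) →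
      R ⊓ Subgroup.centralizer (W : Set G) = ⊥ := by
    rintro W ⟨x, hxW, hx1, g, hg, hy⟩
    set y := g * x * g⁻¹ with hydef
    have hyne : Subgroup.zpowers y ≠ ⊥ := by
      rw [Ne, Subgroup.zpowers_eq_bot]
      intro h
      exact hx1 (by rwa [hydef, mul_inv_eq_one, mul_eq_left] at h)
    refine (Subgroup.eq_bot_iff_forall _).2 fun r hr => ?_
    have h1 : g * r * g⁻¹ ∈ R := (Subgroup.mem_normalizer_iff.1 (hGR hg) _).1 hr.1
    have hcm : g * r * g⁻¹ * y = y * (g * r * g⁻¹) := by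
      rw [hydef]
      calc g * r * g⁻¹ * (g * x * g⁻¹) = g * (r * x) * g⁻¹ := by group
        _ = g * (x * r) * g⁻¹ := by rw [Subgroup.mem_centralizer_iff.1 hr.2 x hxW]
        _ = _ := by group
    have h2 : g * r * g⁻¹ ∈ Subgroup.normalizer ((Subgroup.zpowers y : Subgroup G) : Set G) := by
      refine Subgroup.centralizer_le_normalizer _ (Subgroup.mem_centralizer_iff.2 ?_)
      intro w hw
      obtain ⟨n, rfl⟩ := Subgroup.mem_zpowers_iff.1 hw
      exact (Commute.zpow_right (show Commute (g * r * g⁻¹) y from hcm) n).symm.eq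
    have h3 := hnorm _ (Subgroup.zpowers_le.2 hy.2) hyne h2
    have h4 : g * r * g⁻¹ ∈ R ⊓ Subgroup.normalizer (Q : Set G) := Subgroup.mem_inf.2 ⟨h1, h3⟩
    rwa [hRQ, Subgroup.mem_bot, mul_inv_eq_one, mul_eq_left] at h4
  refine ⟨part1 U, ?_⟩
  intro hel hU2 hhyp
  have hUcomm : ∀ a ∈ U, ∀ b ∈ U, a * b = b * a := fun a ha b hb =>
    congrArg Subtype.val (hel.1.is_comm.comm (⟨a, ha⟩ : U) ⟨b, hb⟩)
  have hcoat : ∀ W : Subgroup G, W ≤ U → IsCoatom (W.subgroupOf U) → R ⊓ Subgroup.centralizer (W : Set G) = ⊥ :=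
    fun W hW hc => part1 W (hhyp W hW hc)
  have main : ∀ n : ℕ, ∀ W : Subgroup G, W ≤ U → Nat.card U ≤ Nat.card W + n →
      R ⊓ Subgroup.centralizer (W : Set G) = ⊥ := by
    intro n
    induction n using Nat.strong_induction_on with
    | _ n ih =>
    intro W hW hn
    rcases eq_or_ne W U with rfl | hWU
    · rcases eq_top_or_exists_le_coatom (⊥ : Subgroup W) with h | ⟨M, hM, -⟩
      · exfalso
        have hb : Nat.card (⊥ : Subgroup W) = 1 := Subgroup.card_bot
        rw [h, Subgroup.card_top] at hb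
        rw [hb] at hU2
        nlinarith [(Fact.out : p.Prime).two_le]
      · have hM' : (M.map W.subtype).subgroupOf W = M :=
          Subgroup.comap_map_eq_self_of_injective W.subtype_injective M
        rw [eq_bot_iff, ← hcoat _ (Subgroup.map_subtype_le M) (by rw [hM']; exact hM)]
        exact inf_le_inf_left _ (Subgroup.centralizer_le (Subgroup.map_subtype_le M))
    by_cases hco : IsCoatom (W.subgroupOf U)
    · exact hcoat W hW hco
    have hne : W.subgroupOf U ≠ ⊤ := fun h => hWU (le_antisymm hW (Subgroup.subgroupOf_eq_top.1 h))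
    obtain ⟨B, hWB, hBtop⟩ : ∃ B, W.subgroupOf U < B ∧ B ≠ ⊤ := by
      by_contra h
      push_neg at h
      exact hco ⟨hne, fun b hb => h b hb⟩
    obtain ⟨v₁, hv₁B, hv₁W⟩ := SetLike.exists_of_lt hWB
    set u₁ : G := (v₁ : G)
    have hu₁U : u₁ ∈ U := v₁.2
    have hu₁W : u₁ ∉ W := hv₁W
    set W₁ := W ⊔ Subgroup.zpowers u₁
    have hW₁ : ¬ U ≤ W₁ := fun h => hBtop (eq_top_iff.2 fun v _ => by
      have hle : W₁ ≤ B.map U.subtype := sup_le
        (fun w hw => ⟨⟨w, hW hw⟩, hWB.le hw, rfl⟩) (Subgroup.zpowers_le.2 ⟨v₁, hv₁B, rfl⟩)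
      obtain ⟨v', hv', he⟩ := hle (h v.2)
      rwa [← Subtype.ext he])
    obtain ⟨u₂, hu₂U, hu₂W⟩ := SetLike.not_le_iff_exists.1 hW₁
    set E := Subgroup.zpowers u₁ ⊔ Subgroup.zpowers u₂ with hE
    have hEU : E ≤ U := sup_le (Subgroup.zpowers_le.2 hu₁U) (Subgroup.zpowers_le.2 hu₂U)
    haveI : IsMulCommutative E := ⟨⟨fun a b => Subtype.ext (hUcomm _ (hEU a.2) _ (hEU b.2))⟩⟩
    have hmem : ∀ e ∈ E, ∃ a b : ℤ, e = u₁ ^ a * u₂ ^ b := by
      intro e he
      have hle : E ≤ Subgroup.normalizer ((Subgroup.zpowers u₁ : Subgroup G) : Set G) := by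
        refine le_trans (fun x hx => Subgroup.mem_centralizer_iff.2 fun y hy => ?_) (Subgroup.centralizer_le_normalizer _)
        exact hUcomm y (Subgroup.zpowers_le.2 hu₁U hy) x (hEU hx)
      have h1 : e ∈ ((Subgroup.zpowers u₁ ⊔ Subgroup.zpowers u₂ : Subgroup G) : Set G) := he
      rw [Subgroup.coe_mul_of_right_le_normalizer_left _ _ (le_trans le_sup_right hle)] at h1
      obtain ⟨x, ⟨a, rfl⟩, y, ⟨b, rfl⟩, rfl⟩ := h1
      exact ⟨a, b, rfl⟩
    have hpz : ∀ u ∈ U, ∀ k : ℤ, (p : ℤ) ∣ k → u ^ k = 1 := by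
      rintro u hu _ ⟨c, rfl⟩
      rw [zpow_mul, zpow_natCast, hel.2 u hu, one_zpow]
    have hunit : ∀ u ∈ U, ∀ (K : Subgroup G) (k : ℤ), ¬ (p : ℤ) ∣ k → u ^ k ∈ K → u ∈ K := by
      intro u hu K k hk huk
      have hc : IsCoprime k (p : ℤ) :=
        ((Nat.prime_iff_prime_int.1 (Fact.out : p.Prime)).coprime_iff_not_dvd.2 hk).symm
      obtain ⟨r, s, hrs⟩ := hc
      have h := K.zpow_mem huk r
      rwa [← zpow_mul, show k * r = 1 - s * p by linarith, zpow_sub, zpow_one,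
        hpz u hu _ (dvd_mul_left _ _), inv_one, mul_one] at h
    have hEW : ∀ e ∈ E, e ∈ W → e = 1 := by
      intro e he heW
      obtain ⟨a, b, rfl⟩ := hmem e he
      have hb : (p : ℤ) ∣ b := by
        by_contra hb
        refine hu₂W (hunit u₂ hu₂U W₁ b hb ?_)
        have h : (u₁ ^ a)⁻¹ * (u₁ ^ a * u₂ ^ b) ∈ W₁ := mul_mem
          (inv_mem (Subgroup.mem_sup_right (Subgroup.zpow_mem _ (Subgroup.mem_zpowers u₁) a)))
          (Subgroup.mem_sup_left heW)
        rwa [inv_mul_cancel_left] at h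
      rw [hpz u₂ hu₂U b hb, mul_one] at heW ⊢
      by_contra ha
      exact hu₁W (hunit u₁ hu₁U W a (fun h => ha (hpz u₁ hu₁U a h)) heW)
    have hncyc : ¬ IsCyclic E := by
      intro hc
      obtain ⟨⟨e, he⟩, hgen⟩ := hc.exists_generator
      have hu₁0 : u₁ ≠ 1 := fun h => hu₁W (h ▸ W.one_mem)
      obtain ⟨a, ha⟩ := Subgroup.mem_zpowers_iff.1
        (hgen ⟨u₁, Subgroup.mem_sup_left (Subgroup.mem_zpowers u₁)⟩)
      have ha' : e ^ a = u₁ := congrArg Subtype.val ha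
      have hpa : ¬ (p : ℤ) ∣ a := fun h => hu₁0 (by rw [← ha', hpz e (hEU he) a h])
      have he1 : e ∈ Subgroup.zpowers u₁ := hunit e (hEU he) _ a hpa (by rw [ha']; exact Subgroup.mem_zpowers _)
      obtain ⟨b, hb⟩ := Subgroup.mem_zpowers_iff.1
        (hgen ⟨u₂, Subgroup.mem_sup_right (Subgroup.mem_zpowers u₂)⟩)
      have hb' : e ^ b = u₂ := congrArg Subtype.val hb
      exact hu₂W (Subgroup.mem_sup_right (hb' ▸ Subgroup.zpow_mem _ he1 b))
    set V := R ⊓ Subgroup.centralizer (W : Set G)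
    have hEV : E ≤ Subgroup.normalizer (V : Set G) := by
      intro e he
      have key : ∀ e ∈ E, ∀ v ∈ V, e * v * e⁻¹ ∈ V := by
        intro e he v hv
        refine Subgroup.mem_inf.2 ⟨(Subgroup.mem_normalizer_iff.1 (hGR (hUG (hEU he))) _).1 hv.1,
          Subgroup.mem_centralizer_iff.2 fun w hw => ?_⟩
        have c1 : Commute w e := hUcomm w (hW hw) e (hEU he)
        have c2 : Commute w v := Subgroup.mem_centralizer_iff.1 hv.2 w hw
        exact ((c1.mul_right c2).mul_right c1.inv_right).eq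
      refine Subgroup.mem_normalizer_iff.2 fun v => ⟨key e he v, fun hv => ?_⟩
      have := key e⁻¹ (inv_mem he) _ hv
      simpa [mul_assoc] using this
    have hcop : (Nat.card E).Coprime (Nat.card V) := by
      obtain ⟨k, hk⟩ := IsPGroup.iff_card.1 (hUp.to_le hEU)
      rw [hk]
      exact ((hR.coprime_dvd_left (Subgroup.card_dvd_of_le inf_le_left)).pow_right k).symm
    rw [eq_bot_iff]
    refine Cfsg.Agent.Local.CoprimeGen.le_of_centralizers E V ⊥ hncyc hEV hcop fun e he he1 => ?_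
    set W' := W ⊔ Subgroup.zpowers e
    have hlt : W < W' := lt_of_le_of_ne le_sup_left fun h =>
      he1 (hEW e he (h.symm ▸ Subgroup.mem_sup_right (Subgroup.mem_zpowers e)))
    have hW'U : W' ≤ U := sup_le hW (Subgroup.zpowers_le.2 (hEU he))
    have hcard : Nat.card W < Nat.card W' := by
      by_contra h
      exact hlt.ne (Subgroup.eq_of_le_of_card_ge hlt.le (not_lt.1 h))
    have hle := Subgroup.card_le_of_le hW'U
    have h0 := ih (Nat.card U - Nat.card W') (by omega) W' hW'U (by omega)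
    rw [← h0]
    intro v hv
    obtain ⟨⟨hvR, hvW⟩, hve⟩ := hv
    have h : W' ≤ Subgroup.centralizer ({v} : Set G) := sup_le
      (fun w hw => Subgroup.mem_centralizer_singleton_iff.2 (Subgroup.mem_centralizer_iff.1 hvW w hw))
      (Subgroup.zpowers_le.2 (Subgroup.mem_centralizer_singleton_iff.2
        (Subgroup.mem_centralizer_singleton_iff.1 hve).symm))
    exact Subgroup.mem_inf.2 ⟨hvR, Subgroup.mem_centralizer_iff.2 fun w hw =>
      Subgroup.mem_centralizer_singleton_iff.1 (h hw)⟩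
  have h := main (Nat.card U) ⊥ bot_le (Nat.le_add_left _ _)
  rwa [inf_eq_left.2 (fun v _ => Subgroup.mem_centralizer_iff.2 fun b hb => by
    rw [Subgroup.mem_bot.1 hb, one_mul, mul_one])] at h

end Cfsg.Agent.S3003
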