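import Cfsg.Statements.S3006
import Cfsg.Agent.Lib.Local.CentrallyLarge
-- import your own Cfsg.Agent.* helpers here

set_option autoImplicit false
open scoped Pointwise
open Cfsg

namespace Cfsg.Agent.S3006
open scoped Pointwise

/-- Let P be a finite p-group, Q a centrally large subgroup of P (|Q|·|Z(Q)| maximal among subgroups of P) and A an abelian subgroup of P of largest order. Then QA = AQ is a centrally large subgroup of P, C_{QA}(Q ∩ A) = Z(Q)·A, and the subgroup generated by all centrally large subgroups of P contains C_P(Z(J(P))), where J(P) is generated by the abelian subgroups of largest order. -/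
theorem result {p : ℕ} [Fact p.Prime] (P : Type*) [Group P] [Finite P] (hP : IsPGroup p P) (Q A : Subgroup P) (hQ : Cfsg.IsCentrallyLarge Q) (hA : A ∈ Cfsg.maxAbelianSubgroups P) : ((Q ⊔ A : Subgroup P) : Set P) = (Q : Set P) * (A : Set P) ∧ Cfsg.IsCentrallyLarge (Q ⊔ A) ∧ (Q ⊔ A) ⊓ Subgroup.centralizer ((Q ⊓ A : Subgroup P) : Set P) = (Q ⊓ Subgroup.centralizer (Q : Set P)) ⊔ A ∧ (((Q ⊓ Subgroup.centralizer (Q : Set P)) ⊔ A : Subgroup P) : Set P) = ((Q ⊓ Subgroup.centralizer (Q : Set P)) : Set P) * (A : Set P) ∧ Subgroup.centralizer ((Cfsg.thompsonSubgroupA P ⊓ Subgroup.centralizer (Cfsg.thompsonSubgroupA P : Set P) : Subgroup P) : Set P) ≤ Cfsg.centrallyLargeJoin P := by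
  obtain ⟨h1, h2, h3⟩ := Local.CLarge.centrally_sup_maxAbelian hQ hA
  obtain ⟨hQ1, hQ2⟩ := (Local.CLarge.centrally_iff Q).1 hQ
  have hCA := Local.CLarge.centralizer_maxAbelian hA
  rw [inf_eq_right.2 hQ2]
  set Z := Subgroup.centralizer (Q : Set P) with hZ
  have hsub : ∀ x ∈ (Q ⊔ A) ⊓ Subgroup.centralizer ((Q ⊓ A : Subgroup P) : Set P),
      x ∈ (Z : Set P) * (A : Set P) := by
    intro x hx
    obtain ⟨q, hq, a, ha, rfl⟩ : x ∈ (Q : Set P) * (A : Set P) := by
      rw [← h2]; exact (Subgroup.mem_inf.1 hx).1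
    have haR : a ∈ Subgroup.centralizer ((Q ⊓ A : Subgroup P) : Set P) :=
      Subgroup.centralizer_le (SetLike.coe_subset_coe.2 inf_le_right) (hCA.ge ha)
    have hq' : q ∈ Subgroup.centralizer ((Q ⊓ A : Subgroup P) : Set P) := by
      have := mul_mem (Subgroup.mem_inf.1 hx).2 (inv_mem haR)
      rwa [mul_inv_cancel_right] at this
    have hq'' : q ∈ Z ⊔ (Q ⊓ A) := h3 ▸ Subgroup.mem_inf.2 ⟨hq, hq'⟩
    have hn : Z ≤ Subgroup.normalizer ((Q ⊓ A : Subgroup P) : Set P) :=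
      (Subgroup.centralizer_le (SetLike.coe_subset_coe.2 inf_le_left)).trans (Subgroup.centralizer_le_normalizer _)
    rw [← SetLike.mem_coe, Subgroup.coe_mul_of_left_le_normalizer_right _ _ hn] at hq''
    obtain ⟨z, hz, r, hr, rfl⟩ := hq''
    exact ⟨z, hz, r * a, mul_mem (Subgroup.mem_inf.1 hr).2 ha, (mul_assoc _ _ _).symm⟩
  have hle : Z ⊔ A ≤ (Q ⊔ A) ⊓ Subgroup.centralizer ((Q ⊓ A : Subgroup P) : Set P) :=
    sup_le (le_inf (hQ2.trans le_sup_left) (Subgroup.centralizer_le (SetLike.coe_subset_coe.2 inf_le_left)))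
      (le_inf le_sup_right (hCA.ge.trans (Subgroup.centralizer_le (SetLike.coe_subset_coe.2 inf_le_right))))
  have hge : ∀ x ∈ (Z : Set P) * (A : Set P), x ∈ Z ⊔ A := by
    rintro _ ⟨z, hz, a, ha, rfl⟩
    exact mul_mem (Subgroup.mem_sup_left hz) (Subgroup.mem_sup_right ha)
  refine ⟨h2, h1, le_antisymm (fun x hx => hge x (hsub x hx)) hle,
    ?_, ?_⟩
  · rw [show (Q : Set P) ⊓ (Z : Set P) = (Z : Set P) from Set.inter_eq_right.2 (SetLike.coe_subset_coe.2 hQ2)]
    exact Set.Subset.antisymm (fun x hx => hsub x (hle hx)) hge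
  refine (Local.CLarge.centralizer_ZJ_le hQ).trans (sup_le (le_sSup hQ) ?_)
  exact sSup_le fun B hB => (le_sup_right : B ≤ Q ⊔ B).trans (le_sSup (Local.CLarge.centrally_sup_maxAbelian hQ hB).1)

end Cfsg.Agent.S3006
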