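import Cfsg.Statements.S3007
import Cfsg.Agent.Lib.Local.CentrallyLarge
-- import your own Cfsg.Agent.* helpers here

set_option autoImplicit false
open Cfsg

namespace Cfsg.Agent.S3007
open scoped Pointwise commutatorElement

/-- Let P be a finite p-group and Q, R minimal centrally large subgroups of P (centrally large: |Q|·|Z(Q)| maximal among subgroups of P; minimal among such under inclusion). Then Q = (Q ∩ R)·Z(Q), the derived subgroups [Q, Q] and [R, R] coincide, |Q| = |R| and |Z(Q)| = |Z(R)|; and if Q is abelian then the minimal centrally large subgroups of P are exactly the abelian subgroups of P of largest order. -/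
theorem result {p : ℕ} [Fact p.Prime] (P : Type*) [Group P] [Finite P] (hP : IsPGroup p P) (Q R : Subgroup P) (hQ : Cfsg.IsMinimalCentrallyLarge Q) (hR : Cfsg.IsMinimalCentrallyLarge R) : (Q ⊓ R) ⊔ (Q ⊓ Subgroup.centralizer (Q : Set P)) = Q ∧ ⁅Q, Q⁆ = ⁅R, R⁆ ∧ Nat.card ↥Q = Nat.card ↥R ∧ Nat.card ↥(Q ⊓ Subgroup.centralizer (Q : Set P)) = Nat.card ↥(R ⊓ Subgroup.centralizer (R : Set P)) ∧ (IsMulCommutative ↥Q → ∀ X : Subgroup P, Cfsg.IsMinimalCentrallyLarge X ↔ X ∈ Cfsg.maxAbelianSubgroups P) := by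
  obtain ⟨hQ1, hQ2⟩ := (Local.CLarge.centrally_iff Q).1 hQ.1
  obtain ⟨hR1, hR2⟩ := (Local.CLarge.centrally_iff R).1 hR.1
  obtain ⟨e1, e2, e3⟩ := Local.CLarge.minimal_pair hQ hR
  have hcomm : ∀ {Q R : Subgroup P}, Cfsg.IsMinimalCentrallyLarge Q → Cfsg.IsMinimalCentrallyLarge R →
      ⁅Q, Q⁆ ≤ ⁅R, R⁆ := by
    intro Q R hQ hR
    obtain ⟨hQ1, hQ2⟩ := (Local.CLarge.centrally_iff Q).1 hQ.1
    obtain ⟨e1, -, -⟩ := Local.CLarge.minimal_pair hQ hR
    have key : ∀ x ∈ Q, ∃ a ∈ Q ⊓ R, ∃ z ∈ Subgroup.centralizer (Q : Set P), a * z = x := by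
      intro x hx
      rw [← e1, ← SetLike.mem_coe, Subgroup.coe_mul_of_right_le_normalizer_left _ _
        ((Subgroup.centralizer_le (SetLike.coe_subset_coe.2 inf_le_left)).trans
          (Subgroup.centralizer_le_normalizer _))] at hx
      obtain ⟨a, ha, z, hz, rfl⟩ := hx
      exact ⟨a, ha, z, hz, rfl⟩
    rw [Subgroup.commutator_le]
    intro x hx y hy
    obtain ⟨a, ha, z, hz, rfl⟩ := key x hx
    obtain ⟨b, hb, w, hw, rfl⟩ := key y hy
    have c1 : Commute z (b * w) := (Subgroup.mem_centralizer_iff.1 hz _ hy).symm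
    have c2 : Commute w a := (Subgroup.mem_centralizer_iff.1 hw _ (Subgroup.mem_inf.1 ha).1).symm
    have : ⁅a * z, b * w⁆ = ⁅a, b⁆ := by
      rw [commutatorElement_def, commutatorElement_def]
      calc a * z * (b * w) * (a * z)⁻¹ * (b * w)⁻¹
          = a * (z * (b * w)) * z⁻¹ * a⁻¹ * w⁻¹ * b⁻¹ := by group
        _ = a * b * (w * a⁻¹) * w⁻¹ * b⁻¹ := by rw [c1.eq]; group
        _ = a * b * a⁻¹ * b⁻¹ := by rw [c2.inv_right.eq]; group
    rw [this]
    exact Subgroup.commutator_mem_commutator (Subgroup.mem_inf.1 ha).2 (Subgroup.mem_inf.1 hb).2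
  refine ⟨by rw [inf_eq_right.2 hQ2]; exact e1, le_antisymm (hcomm hQ hR) (hcomm hR hQ), e2,
    by rw [inf_eq_right.2 hQ2, inf_eq_right.2 hR2]; exact e3, fun hc X => ?_⟩
  have hQQ : Subgroup.centralizer (Q : Set P) = Q :=
    le_antisymm hQ2 (Subgroup.le_centralizer_iff_isMulCommutative.2 hc)
  have hf : Nat.card Q * Nat.card Q = Cfsg.maxCentralizerProduct P := by
    have h := hQ1
    unfold Cfsg.IsCentralizerLarge at h
    rwa [hQQ] at h
  have hab : ∀ B : Subgroup P, IsMulCommutative B → Nat.card B ≤ Nat.card Q := by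
    intro B hB
    refine Nat.mul_self_le_mul_self_iff.1 ?_
    rw [hf]
    refine le_trans (Nat.mul_le_mul_left _ ?_) (Local.CLarge.mu_le_max B)
    exact Nat.le_of_dvd Nat.card_pos (Subgroup.card_dvd_of_le (Subgroup.le_centralizer_iff_isMulCommutative.2 hB))
  constructor
  · intro hX
    obtain ⟨-, e2', -⟩ := Local.CLarge.minimal_pair hQ hX
    have hXc : IsMulCommutative X := by
      rw [← Subgroup.le_centralizer_iff_isMulCommutative, ← Subgroup.commutator_eq_bot_iff_le_centralizer, eq_bot_iff]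
      refine (hcomm hX hQ).trans (le_of_eq ?_)
      rw [Subgroup.commutator_eq_bot_iff_le_centralizer]
      exact hQQ.ge
    exact ⟨hXc, fun B hB => e2' ▸ hab B hB⟩
  · intro hX
    have hcard : Nat.card X = Nat.card Q := le_antisymm (hab X hX.1) (hX.2 Q hc)
    have hXX := Local.CLarge.centralizer_maxAbelian hX
    have hXl : Cfsg.IsCentrallyLarge X := (Local.CLarge.centrally_iff X).2
      ⟨by unfold Cfsg.IsCentralizerLarge; rw [hXX, hcard, hf], hXX.le⟩
    refine ⟨hXl, fun R' hle hR' => ?_⟩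
    obtain ⟨M, hM⟩ := (Set.toFinite {M : Subgroup P | M ≤ R' ∧ Cfsg.IsCentrallyLarge M}).exists_minimal
      ⟨R', le_rfl, hR'⟩
    have hMmin : Cfsg.IsMinimalCentrallyLarge M :=
      ⟨hM.1.2, fun M' h h' => le_antisymm h (hM.2 ⟨h.trans hM.1.1, h'⟩ h)⟩
    obtain ⟨-, e2', -⟩ := Local.CLarge.minimal_pair hQ hMmin
    refine Subgroup.eq_of_le_of_card_ge hle ?_
    rw [hcard, e2']
    exact Nat.le_of_dvd Nat.card_pos (Subgroup.card_dvd_of_le hM.1.1)

end Cfsg.Agent.S3007
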