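import Cfsg.Statements.S3009
import Cfsg.Agent.Lib.Local.QuadraticSL2
import Cfsg.Agent.Lib.Classical.SL2
-- import your own Cfsg.Agent.* helpers here

set_option autoImplicit false
open Cfsg
open scoped Pointwise commutatorElement
open Matrix

namespace Cfsg.Agent.S3009

/-- Let p be a prime and let G and V be subgroups of a finite group with V elementary abelian and normalized by G, and G isomorphic to SL₂(F) for a finite field F with pⁿ elements. Suppose G acts irreducibly and nontrivially on V by conjugation (no G-invariant subgroups of V other than 1 and V, and [V, G] ≠ 1), and let S be a Sylow p-subgroup of G and V₀ = C_V(S). If [V, S, S] = 1 or |V| ≤ |V₀|², then G acts on V as SL₂(F) on its natural two-dimensional module; in particular |V| = |F|². -/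
theorem result {X : Type*} [Group X] [Finite X] {p : ℕ} [Fact p.Prime] (G V : Subgroup X) (hV : Cfsg.IsElementaryAbelian p V) (hGV : G ≤ Subgroup.normalizer (V : Set X)) (F : Type) [Field F] [Fintype F] (n : ℕ) (hF : Fintype.card F = p ^ n) (hG : Nonempty (↥G ≃* Matrix.SpecialLinearGroup (Fin 2) F)) (hirr : ∀ U : Subgroup X, U ≤ V → G ≤ Subgroup.normalizer (U : Set X) → U = ⊥ ∨ U = V) (hnt : ⁅V, G⁆ ≠ ⊥) (S : Sylow p ↥G) (hyp : ⁅⁅V, (S : Subgroup ↥G).map G.subtype⁆, (S : Subgroup ↥G).map G.subtype⁆ = ⊥ ∨ Nat.card ↥V ≤ Nat.card ↥(V ⊓ Subgroup.centralizer (((S : Subgroup ↥G).map G.subtype : Subgroup X) : Set X)) ^ 2) : Cfsg.ActsAsSL2OnSection F ⊤ G V ⊥ := by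
  skip
  classical
  obtain ⟨f₀⟩ := hG
  haveI : CharP F p := by
    haveI := CharP.exists F
    obtain ⟨r, hr⟩ := this
    haveI := hr
    obtain ⟨m, hrp, hm⟩ := FiniteField.card F r
    have hn0 : n ≠ 0 := fun e => by rw [e, pow_zero] at hF; exact absurd hF (Fintype.one_lt_card (α := F)).ne'
    have h1 : p ∣ r ^ (m : ℕ) := by rw [← hm, hF]; exact dvd_pow_self p hn0
    exact ((Nat.prime_dvd_prime_iff_eq Fact.out hrp).1 ((Fact.out : p.Prime).dvd_of_dvd_pow h1)) ▸ hr
  have hn0 : n ≠ 0 := fun e => by rw [e, pow_zero] at hF; exact absurd hF (Fintype.one_lt_card (α := F)).ne'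
  let uh : Multiplicative F →* Matrix.SpecialLinearGroup (Fin 2) F :=
    MonoidHom.mk' (fun t => Cfsg.Agent.Local.QuadSL2.U t.toAdd) fun a b => Cfsg.Agent.Local.QuadSL2.U_add _ _
  have huinj : Function.Injective uh := fun a b h => by
    have h' := congrArg (fun g : Matrix.SpecialLinearGroup (Fin 2) F => (g : Matrix (Fin 2) (Fin 2) F) 0 1) h
    have h'' : ((Cfsg.Agent.Local.QuadSL2.U a.toAdd : Matrix.SpecialLinearGroup (Fin 2) F) : Matrix (Fin 2) (Fin 2) F) 0 1 =
        ((Cfsg.Agent.Local.QuadSL2.U b.toAdd : Matrix.SpecialLinearGroup (Fin 2) F) : Matrix (Fin 2) (Fin 2) F) 0 1 := h'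
    exact Multiplicative.toAdd.injective (by simpa [Cfsg.Agent.Local.QuadSL2.U] using h'')
  have hup : IsPGroup p uh.range := (IsPGroup.of_card (n := n) (by
    rw [Nat.card_congr Multiplicative.toAdd, Nat.card_eq_fintype_card, hF])).of_equiv (MonoidHom.ofInjective huinj)
  have hidx : ¬ p ∣ uh.range.index := by
    have h1 := uh.range.card_mul_index
    rw [Nat.card_congr (MonoidHom.ofInjective huinj).toEquiv.symm, Nat.card_congr Multiplicative.toAdd,
      Nat.card_eq_fintype_card, Cfsg.Agent.Classical.SL2.card_SL2] at h1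
    have h2 := Nat.eq_of_mul_eq_mul_left Fintype.card_pos h1
    rw [h2]
    intro hd
    have hp1 : p ∣ Fintype.card F ^ 2 := by rw [hF, ← pow_mul]; exact dvd_pow_self p (by omega)
    have h3 : p ∣ 1 := by
      have h4 := Nat.dvd_sub hp1 hd
      rwa [Nat.sub_sub_self (Nat.one_le_pow _ _ Fintype.card_pos)] at h4
    exact (Fact.out : p.Prime).not_dvd_one h3
  let Q : Sylow p (Matrix.SpecialLinearGroup (Fin 2) F) := hup.toSylow hidx
  have hsur : Function.Surjective f₀.toMonoidHom := f₀.surjective
  obtain ⟨c, hc⟩ := MulAction.exists_smul_eq (Matrix.SpecialLinearGroup (Fin 2) F)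
    (S.mapSurjective hsur) Q
  let f := f₀.trans (MulAut.conj c)
  have hS : ∀ t : F, f.symm (Cfsg.Agent.Local.QuadSL2.U t) ∈ (S : Subgroup ↥G) := by
    intro t
    have hm : Cfsg.Agent.Local.QuadSL2.U t ∈ (Q : Subgroup _) := ⟨Multiplicative.ofAdd t, rfl⟩
    rw [← hc, Sylow.coe_subgroup_smul, Subgroup.mem_pointwise_smul_iff_inv_smul_mem, Sylow.coe_mapSurjective,
      Subgroup.mem_map] at hm
    obtain ⟨x, hx, hxe⟩ := hm
    have : f x = Cfsg.Agent.Local.QuadSL2.U t := by
      show c * f₀ x * c⁻¹ = _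
      rw [show f₀ x = f₀.toMonoidHom x from rfl, hxe]
      simp [MulAut.smul_def, mul_assoc]
    rw [← this, f.symm_apply_apply]
    exact hx
  haveI : IsMulCommutative V := hV.1
  letI : CommGroup V := { (inferInstance : Group V) with mul_comm := mul_comm' }
  let act : ↥G → Monoid.End V := fun g =>
    { toFun := fun v => ⟨(g : X) * v * (g : X)⁻¹, (Subgroup.mem_normalizer_iff.1 (hGV g.2) _).1 v.2⟩
      map_one' := Subtype.ext (by simp)
      map_mul' := fun a b => Subtype.ext (by show _ = (g : X) * a * (g : X)⁻¹ * ((g : X) * b * (g : X)⁻¹); push_cast; group) }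
  let Rf : Matrix.SpecialLinearGroup (Fin 2) F → AddMonoid.End (Additive V) :=
    fun g => MonoidHom.toAdditive (act (f.symm g))
  let R : Matrix.SpecialLinearGroup (Fin 2) F →* AddMonoid.End (Additive V) :=
    { toFun := Rf
      map_one' := AddMonoidHom.ext fun v => congrArg Additive.ofMul (Subtype.ext (by
        show (f.symm 1 : X) * ((Additive.toMul v : V) : X) * (f.symm 1 : X)⁻¹ = ((Additive.toMul v : V) : X)
        simp))
      map_mul' := fun a b => AddMonoidHom.ext fun v => congrArg Additive.ofMul (Subtype.ext (by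
        show (f.symm (a * b) : X) * ((Additive.toMul v : V) : X) * (f.symm (a * b) : X)⁻¹ =
          (f.symm a : X) * ((f.symm b : X) * ((Additive.toMul v : V) : X) * (f.symm b : X)⁻¹) * (f.symm a : X)⁻¹
        rw [map_mul]; push_cast; group)) }
  have hRg : ∀ (g : Matrix.SpecialLinearGroup (Fin 2) F) (v : Additive V),
      ((Additive.toMul (R g v) : V) : X) = (f.symm g : X) * (Additive.toMul v : V) * (f.symm g : X)⁻¹ := fun g v => rfl
  refine (Cfsg.Agent.Local.QuadSL2.main (p := p) R ⟨n, hF⟩ (fun m => ?hM) ?hirr ?hnt ?hyp).elim fun Φ hΦ => ?_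
  case hM =>
    apply Additive.toMul.injective
    rw [toMul_nsmul, toMul_zero]
    exact Subtype.ext (hV.2 _ (Additive.toMul m).2)
  case hirr =>
    intro H hH
    let U' : Subgroup X := (AddSubgroup.toSubgroup' H).map V.subtype
    have hU' : U' ≤ V := Subgroup.map_subtype_le _
    have hmemU : ∀ v : V, (v : X) ∈ U' ↔ Additive.ofMul v ∈ H := fun v => by
      constructor
      · rintro ⟨w, hw, e⟩
        rw [← Subtype.ext e]; exact hw
      · intro h; exact ⟨v, h, rfl⟩
    have hnorm : G ≤ Subgroup.normalizer (U' : Set X) := by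
      intro g hg
      have key : ∀ g : ↥G, ∀ x ∈ U', (g : X) * x * (g : X)⁻¹ ∈ U' := by
        rintro g _ ⟨v, hv, rfl⟩
        have h := hH (f g) (Additive.ofMul v) hv
        refine ⟨Additive.toMul (R (f g) (Additive.ofMul v)), h, ?_⟩
        show ((Additive.toMul (R (f g) (Additive.ofMul v)) : V) : X) = _
        rw [hRg, f.symm_apply_apply]
        rfl
      rw [Subgroup.mem_normalizer_iff]
      refine fun x => ⟨key ⟨g, hg⟩ x, fun h => ?_⟩
      have h2 := key ⟨g, hg⟩⁻¹ _ h
      simpa [mul_assoc] using h2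
    rcases hirr U' hU' hnorm with h | h
    · left
      rw [eq_bot_iff]
      intro v hv
      have h1 : ((Additive.toMul v : V) : X) ∈ U' := (hmemU _).2 hv
      rw [h, Subgroup.mem_bot] at h1
      rw [AddSubgroup.mem_bot]
      exact Additive.toMul.injective (Subtype.ext h1)
    · right
      rw [eq_top_iff]
      intro v _
      exact (hmemU (Additive.toMul v)).1 (h.symm ▸ (Additive.toMul v).2)
  case hnt =>
    by_contra hcon
    push Not at hcon
    apply hnt
    rw [Subgroup.commutator_eq_bot_iff_le_centralizer]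
    intro v hv
    rw [Subgroup.mem_centralizer_iff]
    intro g hg
    have h := congrArg (fun w : Additive V => ((Additive.toMul w : V) : X)) (hcon (f ⟨g, hg⟩) (Additive.ofMul ⟨v, hv⟩))
    simp only [hRg, f.symm_apply_apply] at h
    exact mul_inv_eq_iff_eq_mul.1 h
  case hyp =>
    rcases hyp with h | h
    · left
      intro s t m
      apply Additive.toMul.injective
      apply Subtype.ext
      rw [hRg, toMul_sub, div_eq_mul_inv]
      push_cast
      rw [hRg]
      set v := ((Additive.toMul m : V) : X)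
      set a := (f.symm (Cfsg.Agent.Local.QuadSL2.U t) : X)
      set b := (f.symm (Cfsg.Agent.Local.QuadSL2.U s) : X)
      have ha : a ∈ (S : Subgroup ↥G).map G.subtype := ⟨_, hS t, rfl⟩
      have hb : b ∈ (S : Subgroup ↥G).map G.subtype := ⟨_, hS s, rfl⟩
      have h1 : ⁅v, a⁆ ∈ ⁅V, (S : Subgroup ↥G).map G.subtype⁆ :=
        Subgroup.commutator_mem_commutator (Additive.toMul m).2 ha
      have h2 := Subgroup.commutator_mem_commutator (Subgroup.inv_mem _ h1) hb
      rw [h, Subgroup.mem_bot, commutatorElement_eq_one_iff_mul_comm, commutatorElement_def] at h2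
      have e : (v * a * v⁻¹ * a⁻¹)⁻¹ = a * v * a⁻¹ * v⁻¹ := by group
      rw [e] at h2
      rw [← h2, mul_inv_cancel_right]
    · right
      rw [Nat.card_congr (Additive.toMul (α := V))]
      refine h.trans (Nat.pow_le_pow_left ?_ 2)
      refine Nat.card_le_card_of_injective (fun x => ⟨Additive.ofMul (⟨x.1, x.2.1⟩ : V), fun t => ?_⟩) ?_
      · apply Additive.toMul.injective
        apply Subtype.ext
        rw [hRg]
        have h1 := Subgroup.mem_centralizer_iff.1 x.2.2 _ ⟨_, hS t, rfl⟩
        exact mul_inv_eq_iff_eq_mul.2 h1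
      · intro a b e
        exact Subtype.ext (congrArg (fun w => ((Additive.toMul w.1 : V) : X)) e :)
  refine ⟨hGV, bot_le, f.toMonoidHom, (AddMonoidHom.toMultiplicativeRight Φ.symm.toAddMonoidHom), ?_, ?_, ?_, ?_⟩
  · rw [MonoidHom.range_eq_top]; exact f.surjective
  · intro y
    exact ⟨Additive.toMul (Φ (Multiplicative.toAdd y)), congrArg Multiplicative.ofAdd (Φ.symm_apply_apply _)⟩
  · intro u
    rw [Subgroup.mem_bot]
    constructor
    · intro h
      have h' : Φ.symm (Additive.ofMul u) = 0 := congrArg Multiplicative.toAdd h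
      rw [AddEquiv.map_eq_zero_iff] at h'
      exact congrArg Subtype.val (congrArg Additive.toMul h' : u = 1)
    · intro h
      show Multiplicative.ofAdd (Φ.symm (Additive.ofMul u)) = 1
      rw [show u = 1 from Subtype.ext h, ofMul_one, map_zero]
      rfl
  · intro e u
    refine ⟨Additive.toMul (R (f e) (Additive.ofMul u)), by rw [hRg, f.symm_apply_apply]; rfl, ?_⟩
    show Φ.symm (R (f e) (Additive.ofMul u)) = _
    rw [AddEquiv.symm_apply_eq]
    show _ = Φ (((f e : Matrix.SpecialLinearGroup (Fin 2) F) : Matrix (Fin 2) (Fin 2) F) *ᵥ Φ.symm (Additive.ofMul u))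
    rw [← hΦ, Φ.apply_symm_apply]

end Cfsg.Agent.S3009
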