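import Cfsg.Statements.S3012
import Cfsg.Prelude.Def_SubgroupEmbedding
import Mathlib
-- import your own Cfsg.Agent.* helpers here

set_option autoImplicit false
open Cfsg

namespace Cfsg.Agent.S3012

/-- Let G be a finite group, V a nontrivial elementary abelian 2-subgroup of G satisfying the Sidki pair condition (every odd-order element inverted by an element of V commutes with a nontrivial element of V), and K a normal subgroup of G with V ∩ K = 1. Then the image of V in G/K satisfies the Sidki pair condition in G/K. -/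
theorem result {G : Type*} [Group G] [Finite G] (V K : Subgroup G) [K.Normal] (hV : Cfsg.IsElementaryAbelian 2 V) (hV1 : V ≠ ⊥) (hS : Cfsg.IsSidkiPair V) (hVK : V ⊓ K = ⊥) : Cfsg.IsSidkiPair (V.map (QuotientGroup.mk' K)) := by
  classical
  intro hq vq hvq hodd hinv
  obtain ⟨v, hv, rfl⟩ := hvq
  obtain ⟨h, rfl⟩ := QuotientGroup.mk'_surjective K hq
  set y := v * h * v⁻¹ * h⁻¹ with hy
  have hvv : v⁻¹ = v := inv_eq_of_mul_eq_one_right (by rw [← pow_two]; exact hV.2 v hv)
  have hyinv : v * y * v⁻¹ = y⁻¹ := by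
    rw [hy, mul_inv_rev, mul_inv_rev, mul_inv_rev, inv_inv]
    calc v * (v * h * v⁻¹ * h⁻¹) * v⁻¹ = (v * v) * h * v⁻¹ * h⁻¹ * v⁻¹ := by group
      _ = h * v * h⁻¹ * v⁻¹ := by
          conv_lhs => rw [show v * v = 1 by rw [← pow_two]; exact hV.2 v hv, one_mul, hvv]
          rw [hvv]
      _ = _ := by group
  have himg : QuotientGroup.mk' K y = ((QuotientGroup.mk' K h) ^ 2)⁻¹ := by
    rw [hy, map_mul, map_mul, map_mul, map_inv, map_inv, hinv, pow_two, mul_inv_rev]
  obtain ⟨a, m, hm, he⟩ := Nat.exists_eq_pow_mul_and_not_dvd (orderOf_pos y).ne' 2 (by norm_num)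
  set y' := y ^ 2 ^ a with hy'
  have hy'odd : Odd (orderOf y') := by
    rw [hy', orderOf_pow, he, Nat.gcd_eq_right (dvd_mul_right _ _), Nat.mul_div_cancel_left _ (by positivity)]
    exact Nat.odd_iff.2 (by omega)
  have hy'inv : v * y' * v⁻¹ = y'⁻¹ := by rw [hy', ← conj_pow, hyinv, inv_pow]
  obtain ⟨w, hw, hw1, hwc⟩ := hS y' v hv hy'odd hy'inv
  refine ⟨QuotientGroup.mk' K w, ⟨w, hw, rfl⟩, fun e => hw1 ?_, ?_⟩
  · have : w ∈ V ⊓ K := ⟨hw, (QuotientGroup.eq_one_iff w).1 e⟩
    rwa [hVK] at this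
  · have h1 : Commute (QuotientGroup.mk' K w) (QuotientGroup.mk' K y') := (show Commute w y' from hwc).map _
    rw [hy', map_pow, himg, inv_pow, ← pow_mul] at h1
    have h2 : Commute (QuotientGroup.mk' K w) ((QuotientGroup.mk' K h) ^ (2 * 2 ^ a)) := by
      simpa using h1.inv_right
    have hcop : Nat.Coprime (2 * 2 ^ a) (orderOf (QuotientGroup.mk' K h)) := by
      rw [← pow_succ']
      exact Nat.Coprime.pow_left _ ((Nat.coprime_two_left).2 hodd)
    obtain ⟨j, hj⟩ := exists_pow_eq_self_of_coprime hcop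
    have h3 := h2.pow_right j
    rw [hj] at h3
    exact h3.eq

end Cfsg.Agent.S3012
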