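import Cfsg.Statements.S3013
import Cfsg.Prelude.Def_SubgroupEmbedding
import Mathlib
-- import your own Cfsg.Agent.* helpers here

set_option autoImplicit false
open Cfsg

namespace Cfsg.Agent.S3013

/-- Let G be a finite group and V a nontrivial elementary abelian 2-subgroup of G satisfying the Sidki pair condition. Let v ∈ V and let x be an element of odd order inverted by v, and put C = C_G(v) ∩ C_G(x), the centralizer of the dihedral subgroup generated by v and x. Then C ∩ V is nontrivial and satisfies the Sidki pair condition inside C: every odd-order element of C inverted by an element of C ∩ V commutes with a nontrivial element of C ∩ V. -/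
theorem result {G : Type*} [Group G] [Finite G] (V : Subgroup G) (hV : Cfsg.IsElementaryAbelian 2 V) (hV1 : V ≠ ⊥) (hS : Cfsg.IsSidkiPair V) (v x : G) (hv : v ∈ V) (hx : Odd (orderOf x)) (hinv : v * x * v⁻¹ = x⁻¹) (C : Subgroup G) (hC : C = Subgroup.centralizer ({v} : Set G) ⊓ Subgroup.centralizer ({x} : Set G)) : C ⊓ V ≠ ⊥ ∧ Cfsg.IsSidkiPair ((C ⊓ V).subgroupOf C) := by
  classical
  have hab : ∀ a ∈ V, ∀ b ∈ V, a * b = b * a := fun a ha b hb =>
    congrArg Subtype.val (hV.1.is_comm.comm ⟨a, ha⟩ ⟨b, hb⟩)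
  have hmem : ∀ g : G, g ∈ C ↔ v * g = g * v ∧ x * g = g * x := by
    intro g
    rw [hC, Subgroup.mem_inf, Subgroup.mem_centralizer_iff, Subgroup.mem_centralizer_iff]
    simp
  constructor
  · obtain ⟨w, hw, hw1, hwc⟩ := hS x v hv hx hinv
    intro hbot
    have : w ∈ C ⊓ V := ⟨(hmem w).2 ⟨hab v hv w hw, hwc.symm⟩, hw⟩
    rw [hbot] at this
    exact hw1 this
  · intro h u hu hodd hinv'
    obtain ⟨hhv, hhx⟩ := (hmem h).1 h.2
    have huV : (u : G) ∈ V := hu.2
    obtain ⟨huv, hux⟩ := (hmem u).1 u.2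
    have hinvG : (u : G) * h * (u : G)⁻¹ = (h : G)⁻¹ := congrArg Subtype.val hinv'
    have hoddG : Odd (orderOf (h : G)) := by rwa [Subgroup.orderOf_coe]
    have hcxh : Commute x (h : G) := hhx
    have hoxh : Odd (orderOf (x * h)) := Odd.of_dvd_nat (hx.mul hoddG) hcxh.orderOf_mul_dvd_mul_orderOf
    have hi : (v * u) * (x * h) * (v * u)⁻¹ = (x * h)⁻¹ := by
      calc (v * u) * (x * h) * (v * u)⁻¹ = v * (((u : G) * x * (u : G)⁻¹) * ((u : G) * h * (u : G)⁻¹)) * v⁻¹ := by group
        _ = v * (x * (h : G)⁻¹) * v⁻¹ := by rw [hinvG, ← hux]; group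
        _ = (v * x * v⁻¹) * (v * (h : G) * v⁻¹)⁻¹ := by group
        _ = x⁻¹ * (h : G)⁻¹ := by rw [hinv, hhv]; group
        _ = (x * h)⁻¹ := by rw [mul_inv_rev]; exact ((hcxh.inv_left).inv_right).eq
    obtain ⟨w, hw, hw1, hwc⟩ := hS (x * h) (v * u) (mul_mem hv huV) hoxh hi
    have hcwxh : Commute w (x * h) := hwc
    have hcwv : Commute w v := hab w hw v hv
    have h2 : Commute w (x⁻¹ * h) := by
      have h3 : Commute w (v * (x * h) * v⁻¹) := (hcwv.mul_right hcwxh).mul_right hcwv.inv_right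
      rwa [show v * (x * h) * v⁻¹ = x⁻¹ * h by
        calc v * (x * h) * v⁻¹ = (v * x * v⁻¹) * (v * (h : G) * v⁻¹) := by group
          _ = x⁻¹ * h := by rw [hinv, hhv]; group] at h3
    have h4 : Commute w ((h : G) ^ 2) := by
      have := hcwxh.mul_right h2
      rwa [show x * h * (x⁻¹ * h) = (h : G) ^ 2 by
        calc x * h * (x⁻¹ * h) = x * ((h : G) * x⁻¹) * h := by group
          _ = x * (x⁻¹ * (h : G)) * h := by rw [hcxh.inv_left.eq]
          _ = (h : G) ^ 2 := by rw [pow_two]; group] at this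
    obtain ⟨j, hj⟩ := exists_pow_eq_self_of_coprime ((Nat.coprime_two_left).2 hoddG)
    have h5 : Commute w (h : G) := by have := h4.pow_right j; rwa [hj] at this
    have h6 : Commute w x := by
      have := hcwxh.mul_right h5.inv_right
      rwa [mul_inv_cancel_right] at this
    have hwC : w ∈ C := (hmem w).2 ⟨hcwv.symm.eq, h6.symm.eq⟩
    exact ⟨⟨w, hwC⟩, ⟨hwC, hw⟩, fun e => hw1 (congrArg Subtype.val e), Subtype.ext h5.eq⟩

end Cfsg.Agent.S3013
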