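import Cfsg.Statements.S3014
import Cfsg.Agent.Lib.Local.CyclicTopTransfer
-- import your own Cfsg.Agent.* helpers here

set_option autoImplicit false
open Cfsg

namespace Cfsg.Agent.S3014
open Cfsg.Agent

theorem le_sup_zpowers {G : Type*} [Group G] {H M : Subgroup G} (hHM : H ≤ M)
    (hmax : IsCoatom (H.subgroupOf M)) {m : G} (hm : m ∈ M) (hmH : m ∉ H) : M ≤ H ⊔ Subgroup.zpowers m := by
  have h1 : H.subgroupOf M < (H ⊔ Subgroup.zpowers m).subgroupOf M := by
    refine SetLike.lt_iff_le_and_exists.2 ⟨Subgroup.comap_mono le_sup_left, ⟨m, hm⟩,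
      Subgroup.mem_subgroupOf.2 (Subgroup.mem_sup_right (Subgroup.mem_zpowers m)), fun h => hmH (Subgroup.mem_subgroupOf.1 h)⟩
  exact Subgroup.subgroupOf_eq_top.1 (hmax.2 _ h1)

/-- An element normalizing both subgroups normalizes the join. -/
theorem mem_normalizer_sup {G : Type*} [Group G] {A B : Subgroup G} {m : G} (hA : m ∈ Subgroup.normalizer (A : Set G))
    (hB : m ∈ Subgroup.normalizer (B : Set G)) : m ∈ Subgroup.normalizer ((A ⊔ B : Subgroup G) : Set G) := by
  have key : ∀ x : G, x ∈ Subgroup.normalizer (A : Set G) → x ∈ Subgroup.normalizer (B : Set G) →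
      ∀ z ∈ A ⊔ B, x * z * x⁻¹ ∈ A ⊔ B := fun x hxA hxB z hz => by
    have h : A ⊔ B ≤ (A ⊔ B).comap (MulAut.conj x).toMonoidHom := sup_le
      (fun a ha => Subgroup.mem_sup_left ((Subgroup.mem_normalizer_iff.1 hxA a).1 ha))
      (fun b hb => Subgroup.mem_sup_right ((Subgroup.mem_normalizer_iff.1 hxB b).1 hb))
    exact h hz
  rw [Subgroup.mem_normalizer_iff]
  refine fun z => ⟨key m hA hB z, fun h => ?_⟩
  simpa [mul_assoc] using key m⁻¹ (inv_mem hA) (inv_mem hB) _ h

theorem conj_mem_normalizer {G : Type*} [Group G] {H M : Subgroup G} (hn : M ≤ Subgroup.normalizer (H : Set G)) {g m : G}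
    (hm : m ∈ M.map (MulAut.conj g).toMonoidHom) :
    m ∈ Subgroup.normalizer ((H.map (MulAut.conj g).toMonoidHom : Subgroup G) : Set G) :=
  Subgroup.le_normalizer_map (MulAut.conj g).toMonoidHom (Subgroup.map_mono hn hm)


/-- Let G be a finite group and H ≤ M ≤ G subgroups such that for every g ∈ G the subgroup generated by H and g H g⁻¹ meets M exactly in H. If H is a maximal subgroup of M and M is a maximal subgroup of G, then the normal closure of H in G meets M exactly in H. -/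
theorem result {G : Type*} [Group G] [Finite G] (H M : Subgroup G) (hHM : H ≤ M) (hcl : ∀ g : G, (H ⊔ H.map (MulAut.conj g).toMonoidHom) ⊓ M = H) (hmaxH : IsCoatom (H.subgroupOf M)) (hmaxM : IsCoatom M) : Subgroup.normalClosure (H : Set G) ⊓ M = H := by
  skip
  classical
  have hn : M ≤ Subgroup.normalizer (H : Set G) := fun g hg => by
    have h1 : ∀ x ∈ M, ∀ h ∈ H, x * h * x⁻¹ ∈ H := fun x hx h hh => (SetLike.ext_iff.1 (hcl x) _).1
      (Subgroup.mem_inf.2 ⟨Subgroup.mem_sup_right ⟨h, hh, rfl⟩, mul_mem (mul_mem hx (hHM hh)) (inv_mem hx)⟩)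
    rw [Subgroup.mem_normalizer_iff]
    exact fun h => ⟨h1 g hg h, fun hh => by simpa [mul_assoc] using h1 g⁻¹ (M.inv_mem hg) _ hh⟩
  obtain ⟨m₀, hm₀, hm₀H⟩ : ∃ m ∈ M, m ∉ H := by
    by_contra hall
    push Not at hall
    exact hmaxH.1 (Subgroup.subgroupOf_eq_top.2 hall)
  by_cases hnorm : Subgroup.normalizer (H : Set G) = ⊤
  · haveI : H.Normal := Subgroup.normalizer_eq_top_iff.1 hnorm
    rw [Subgroup.normalClosure_eq_self, inf_eq_left.2 hHM]
  have hNH : Subgroup.normalizer (H : Set G) = M := by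
    by_contra hne
    exact hnorm (hmaxM.2 _ (lt_of_le_of_ne hn (Ne.symm hne)))
  by_cases hK : ∃ g : G, (H ⊔ H.map (MulAut.conj g).toMonoidHom).Normal
  · obtain ⟨g, hg⟩ := hK
    refine le_antisymm ?_ (le_inf Subgroup.le_normalClosure hHM)
    exact (inf_le_inf_right _ (@Subgroup.normalClosure_le_normal _ _ _ (H ⊔ H.map (MulAut.conj g).toMonoidHom) hg (fun x hx => Subgroup.mem_sup_left hx))).trans (hcl g).le
  refine Cfsg.Agent.Local.normalClosure_inf_eq_of_cyclicTop H M hHM hn hm₀ (le_sup_zpowers hHM hmaxH hm₀ hm₀H) ?_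
  intro g hg m hm
  by_contra hmH
  set K := H ⊔ H.map (MulAut.conj g).toMonoidHom with hKdef
  have hmN : m ∈ Subgroup.normalizer (K : Set G) := mem_normalizer_sup (hn hm.1) (conj_mem_normalizer hn hm.2)
  have hML : M ≤ K ⊔ Subgroup.zpowers m :=
    (le_sup_zpowers hHM hmaxH hm.1 hmH).trans (sup_le_sup le_sup_left le_rfl)
  rcases eq_or_lt_of_le hML with e | e
  · have hKM : K ≤ M := e ▸ le_sup_left
    have hKH : K = H := (inf_eq_left.2 hKM).symm.trans (hcl g)
    refine hg (hNH ▸ ?_)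
    have he : H.map (MulAut.conj g).toMonoidHom = H :=
      Subgroup.eq_of_le_of_card_ge (le_sup_right.trans hKH.le) (by rw [Subgroup.card_map_of_injective (MulAut.conj g).injective])
    rw [Subgroup.mem_normalizer_iff]
    intro h
    constructor
    · exact fun hh => he ▸ ⟨h, hh, rfl⟩
    · intro hh
      obtain ⟨z, hz, ez⟩ := he.symm ▸ hh
      rwa [(MulAut.conj g).injective (ez : MulAut.conj g z = MulAut.conj g h)] at hz
  · have hL := hmaxM.2 _ e
    exact hK ⟨g, Subgroup.normalizer_eq_top_iff.1 (eq_top_iff.2 (hL ▸ sup_le Subgroup.le_normalizer (Subgroup.zpowers_le.2 hmN)))⟩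

end Cfsg.Agent.S3014
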