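import Cfsg.Statements.S3015
import Cfsg.Agent.Lib.Local.CyclicTopTransfer
-- import your own Cfsg.Agent.* helpers here

set_option autoImplicit false
open Cfsg

namespace Cfsg.Agent.S3015
open Cfsg.Agent

theorem le_sup_zpowers {G : Type*} [Group G] {H M : Subgroup G} (hHM : H ≤ M)
    (hmax : IsCoatom (H.subgroupOf M)) {m : G} (hm : m ∈ M) (hmH : m ∉ H) : M ≤ H ⊔ Subgroup.zpowers m := by
  have h1 : H.subgroupOf M < (H ⊔ Subgroup.zpowers m).subgroupOf M := by
    refine SetLike.lt_iff_le_and_exists.2 ⟨Subgroup.comap_mono le_sup_left, ⟨m, hm⟩,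
      Subgroup.mem_subgroupOf.2 (Subgroup.mem_sup_right (Subgroup.mem_zpowers m)), fun h => hmH (Subgroup.mem_subgroupOf.1 h)⟩
  exact Subgroup.subgroupOf_eq_top.1 (hmax.2 _ h1)

/-- An element normalizing both subgroups normalizes the join. -/
theorem mem_normalizer_sup {G : Type*} [Group G] {A B : Subgroup G} {m : G} (hA : m ∈ Subgroup.normalizer (A : Set G))
    (hB : m ∈ Subgroup.normalizer (B : Set G)) : m ∈ Subgroup.normalizer ((A ⊔ B : Subgroup G) : Set G) := by
  have key : ∀ x : G, x ∈ Subgroup.normalizer (A : Set G) → x ∈ Subgroup.normalizer (B : Set G) →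
      ∀ z ∈ A ⊔ B, x * z * x⁻¹ ∈ A ⊔ B := fun x hxA hxB z hz => by
    have h : A ⊔ B ≤ (A ⊔ B).comap (MulAut.conj x).toMonoidHom := sup_le
      (fun a ha => Subgroup.mem_sup_left ((Subgroup.mem_normalizer_iff.1 hxA a).1 ha))
      (fun b hb => Subgroup.mem_sup_right ((Subgroup.mem_normalizer_iff.1 hxB b).1 hb))
    exact h hz
  rw [Subgroup.mem_normalizer_iff]
  refine fun z => ⟨key m hA hB z, fun h => ?_⟩
  simpa [mul_assoc] using key m⁻¹ (inv_mem hA) (inv_mem hB) _ h

theorem conj_mem_normalizer {G : Type*} [Group G] {H M : Subgroup G} (hn : M ≤ Subgroup.normalizer (H : Set G)) {g m : G}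
    (hm : m ∈ M.map (MulAut.conj g).toMonoidHom) :
    m ∈ Subgroup.normalizer ((H.map (MulAut.conj g).toMonoidHom : Subgroup G) : Set G) :=
  Subgroup.le_normalizer_map (MulAut.conj g).toMonoidHom (Subgroup.map_mono hn hm)


/-- Let G be a finite non-abelian simple group, M a maximal subgroup of G and H a normal subgroup of M of prime index in M. Then G is generated by H together with one of its conjugates. -/
theorem result {G : Type*} [Group G] [Finite G] [IsSimpleGroup G] (hG : ¬ IsMulCommutative G) (M H : Subgroup G) (hmaxM : IsCoatom M) (hHM : H ≤ M) (hHn : (H.subgroupOf M).Normal) (hidx : (H.relIndex M).Prime) : ∃ g : G, H ⊔ H.map (MulAut.conj g).toMonoidHom = ⊤ := by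
  skip
  classical
  by_contra hall
  push Not at hall
  have hn : M ≤ Subgroup.normalizer (H : Set G) := (Subgroup.normal_subgroupOf_iff_le_normalizer hHM).1 hHn
  have hlt : ¬ M ≤ H := fun h => Nat.not_prime_one (Subgroup.relIndex_eq_one.2 h ▸ hidx)
  have hmaxH : IsCoatom (H.subgroupOf M) := by
    refine ⟨fun e => hlt (Subgroup.subgroupOf_eq_top.1 e), fun X hX => ?_⟩
    have h1 := Subgroup.relIndex_mul_index hX.le
    rcases (Nat.dvd_prime hidx).1 (Dvd.intro_left _ h1 : X.index ∣ H.relIndex M) with h | h
    · exact Subgroup.index_eq_one.1 h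
    · exfalso
      have h2 : (H.subgroupOf M).relIndex X = 1 := by
        have h3 : (H.subgroupOf M).relIndex X * X.index = 1 * X.index := by
          rw [h1, one_mul, h]; rfl
        exact Nat.eq_of_mul_eq_mul_right (by rw [h]; exact hidx.pos) h3
      exact absurd (Subgroup.relIndex_eq_one.1 h2) (not_le_of_gt hX)
  obtain ⟨m₀, hm₀, hm₀H⟩ := SetLike.not_le_iff_exists.1 hlt
  have hH1 : H ≠ ⊥ := fun e => by
    have hle := le_sup_zpowers hHM hmaxH hm₀ hm₀H
    rw [e, bot_sup_eq] at hle
    -- then the maximal subgroup is cyclic of prime order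
    have hN : Subgroup.normalizer (M : Set G) = M := by
      by_contra hne
      haveI : M.Normal := Subgroup.normalizer_eq_top_iff.1 (hmaxM.2 _ (lt_of_le_of_ne Subgroup.le_normalizer (Ne.symm hne)))
      rcases (inferInstance : M.Normal).eq_bot_or_eq_top with h | h
      · exact hlt (h ▸ bot_le)
      · exact hmaxM.1 h
    have hgen : ∀ m ∈ M, m ≠ 1 → M ≤ Subgroup.zpowers m := fun m hm hm1 => by
      simpa [e] using le_sup_zpowers hHM hmaxH hm (by rw [e, Subgroup.mem_bot]; exact hm1)
    obtain ⟨N, hNn, -, hNM, hab⟩ := Cfsg.Agent.Local.exists_normal_complement H M hHM hn hm₀ (by rw [e, bot_sup_eq]; exact hle) fun g hg m hm => by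
      rw [e, Subgroup.mem_bot]
      by_contra hm1
      refine hg (hN ▸ ?_)
      have he : M.map (MulAut.conj g).toMonoidHom = M := (Subgroup.eq_of_le_of_card_ge
        ((hgen m hm.1 hm1).trans (Subgroup.zpowers_le.2 hm.2))
        (by rw [Subgroup.card_map_of_injective (MulAut.conj g).injective])).symm
      rw [Subgroup.mem_normalizer_iff]
      intro h
      constructor
      · exact fun hh => he ▸ ⟨h, hh, rfl⟩
      · intro hh
        obtain ⟨z, hz, ez⟩ := he.symm ▸ hh
        rwa [(MulAut.conj g).injective (ez : MulAut.conj g z = MulAut.conj g h)] at hz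
    rcases hNn.eq_bot_or_eq_top with h | h
    · refine hG ⟨⟨fun u v => ?_⟩⟩
      have h1 := hab u v
      rw [h, Subgroup.mem_bot, mul_inv_eq_one, mul_inv_eq_iff_eq_mul] at h1
      exact h1
    · exact hlt (le_trans (by rw [h, top_inf_eq]) hNM)
  have hneK : ∀ g : G, ¬ (H ⊔ H.map (MulAut.conj g).toMonoidHom).Normal := fun g h => by
    rcases h.eq_bot_or_eq_top with h' | h'
    · exact hH1 (le_bot_iff.1 (le_sup_left.trans h'.le))
    · exact hall g h'
  have hNH : Subgroup.normalizer (H : Set G) = M := by
    by_contra hne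
    haveI : H.Normal := Subgroup.normalizer_eq_top_iff.1 (hmaxM.2 _ (lt_of_le_of_ne hn (Ne.symm hne)))
    rcases (inferInstance : H.Normal).eq_bot_or_eq_top with h | h
    · exact hH1 h
    · exact hlt (h ▸ le_top)
  have hfix : ∀ g : G, H.map (MulAut.conj g).toMonoidHom = H → g ∈ M := fun g he => by
    rw [← hNH, Subgroup.mem_normalizer_iff]
    intro h
    constructor
    · exact fun hh => he ▸ ⟨h, hh, rfl⟩
    · intro hh
      obtain ⟨z, hz, ez⟩ := he.symm ▸ hh
      rwa [(MulAut.conj g).injective (ez : MulAut.conj g z = MulAut.conj g h)] at hz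
  have hbad : ∀ y : G, ¬ H.map (MulAut.conj y).toMonoidHom ≤ M → M ⊓ M.map (MulAut.conj y).toMonoidHom ≤ H := by
    intro y hy m hm
    by_contra hmH
    set K := H ⊔ H.map (MulAut.conj y).toMonoidHom with hKdef
    have hmN : m ∈ Subgroup.normalizer (K : Set G) := mem_normalizer_sup (hn hm.1) (conj_mem_normalizer hn hm.2)
    have hML : M ≤ K ⊔ Subgroup.zpowers m :=
      (le_sup_zpowers hHM hmaxH hm.1 hmH).trans (sup_le_sup le_sup_left le_rfl)
    rcases eq_or_lt_of_le hML with e | e
    · exact hy (e ▸ (le_sup_right : _ ≤ K).trans le_sup_left)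
    · have hL := hmaxM.2 _ e
      exact hneK y (Subgroup.normalizer_eq_top_iff.1 (eq_top_iff.2 (hL ▸ sup_le Subgroup.le_normalizer (Subgroup.zpowers_le.2 hmN))))
  have hres := Cfsg.Agent.Local.normalClosure_inf_eq_of_cyclicTop H M hHM hn hm₀ (le_sup_zpowers hHM hmaxH hm₀ hm₀H) fun g hg => by
    by_cases hgH : H.map (MulAut.conj g).toMonoidHom ≤ M
    · exfalso
      set D := H.map (MulAut.conj g).toMonoidHom with hD
      have hDH : D ≠ H := fun e => hg (hfix g e)
      obtain ⟨y, hy, hyM⟩ : ∃ y ∈ M.map (MulAut.conj g).toMonoidHom, y ∉ M := by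
        by_contra h
        push Not at h
        have he : M.map (MulAut.conj g).toMonoidHom = M :=
          Subgroup.eq_of_le_of_card_ge h (by rw [Subgroup.card_map_of_injective (MulAut.conj g).injective])
        have hgN : g ∈ Subgroup.normalizer (M : Set G) := by
          rw [Subgroup.mem_normalizer_iff]
          intro x
          constructor
          · exact fun hh => he ▸ ⟨x, hh, rfl⟩
          · intro hh
            obtain ⟨z, hz, ez⟩ := he.symm ▸ hh
            rwa [(MulAut.conj g).injective (ez : MulAut.conj g z = MulAut.conj g x)] at hz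
        haveI : M.Normal := Subgroup.normalizer_eq_top_iff.1 (hmaxM.2 _ (lt_of_le_of_ne Subgroup.le_normalizer fun e => hg (e ▸ hgN)))
        rcases (inferInstance : M.Normal).eq_bot_or_eq_top with h' | h'
        · exact hlt (h' ▸ bot_le)
        · exact hmaxM.1 h'
      have hyD : y ∈ Subgroup.normalizer (D : Set G) := conj_mem_normalizer hn hy
      have hDy : D ≤ M.map (MulAut.conj y).toMonoidHom := fun d hd =>
        ⟨y⁻¹ * d * y, hgH ((Subgroup.mem_normalizer_iff''.1 hyD d).1 hd), by simp [mul_assoc]⟩
      have hDnot : ¬ D ≤ H := fun h => hDH (Subgroup.eq_of_le_of_card_ge h (by rw [Subgroup.card_map_of_injective (MulAut.conj g).injective]))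
      have hyH : H.map (MulAut.conj y).toMonoidHom ≤ M := by
        by_contra h
        exact hDnot ((le_inf hgH hDy).trans (hbad y h))
      -- both conjugates lie in the meet
      set E := M ⊓ M.map (MulAut.conj y).toMonoidHom with hE
      have hEne : ¬ M ≤ E := fun h => by
        have he : M.map (MulAut.conj y).toMonoidHom = M := (Subgroup.eq_of_le_of_card_ge (h.trans inf_le_right)
          (by rw [Subgroup.card_map_of_injective (MulAut.conj y).injective])).symm
        have hyN : y ∈ Subgroup.normalizer (M : Set G) := by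
          rw [Subgroup.mem_normalizer_iff]
          intro x
          constructor
          · exact fun hh => he ▸ ⟨x, hh, rfl⟩
          · intro hh
            obtain ⟨z, hz, ez⟩ := he.symm ▸ hh
            rwa [(MulAut.conj y).injective (ez : MulAut.conj y z = MulAut.conj y x)] at hz
        haveI : M.Normal := Subgroup.normalizer_eq_top_iff.1 (hmaxM.2 _ (lt_of_le_of_ne Subgroup.le_normalizer fun e => hyM (e ▸ hyN)))
        rcases (inferInstance : M.Normal).eq_bot_or_eq_top with h' | h'
        · exact hlt (h' ▸ bot_le)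
        · exact hmaxM.1 h'
      have hcard : ∀ X : Subgroup G, X ≤ E → Nat.card X = Nat.card H → X = E := fun X hX hc => by
        refine Subgroup.eq_of_le_of_card_ge hX ?_
        have h1 : H.relIndex M = X.relIndex M := by
          have a1 := (H.subgroupOf M).card_mul_index
          have a2 := (X.subgroupOf M).card_mul_index
          rw [Nat.card_congr (Subgroup.subgroupOfEquivOfLe hHM).toEquiv] at a1
          rw [Nat.card_congr (Subgroup.subgroupOfEquivOfLe (hX.trans inf_le_left)).toEquiv, hc] at a2
          exact Nat.eq_of_mul_eq_mul_left Nat.card_pos (a1.trans a2.symm)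
        have h2 := Subgroup.relIndex_mul_relIndex X E M hX inf_le_left
        rw [← h1] at h2
        rcases (Nat.dvd_prime hidx).1 (Dvd.intro_left _ h2 : E.relIndex M ∣ H.relIndex M) with h | h
        · exact absurd (Subgroup.relIndex_eq_one.1 h) hEne
        · have h3 : X.relIndex E * E.relIndex M = 1 * E.relIndex M := by rw [h2, one_mul, h]
          have h4 := Nat.eq_of_mul_eq_mul_right (by rw [h]; exact hidx.pos) h3
          exact Subgroup.card_le_of_le (Subgroup.relIndex_eq_one.1 h4)
      have e1 : D = E := hcard D (le_inf hgH hDy) (by rw [Subgroup.card_map_of_injective (MulAut.conj g).injective])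
      have e2 : H.map (MulAut.conj y).toMonoidHom = E := hcard _ (le_inf hyH (Subgroup.map_mono hHM))
        (by rw [Subgroup.card_map_of_injective (MulAut.conj y).injective])
      -- hence the two conjugators differ by an element of `M`
      have hmem : g⁻¹ * y ∈ M := by
        refine hfix _ ?_
        have e3 : (H.map (MulAut.conj y).toMonoidHom).map (MulAut.conj g⁻¹).toMonoidHom =
            D.map (MulAut.conj g⁻¹).toMonoidHom := by rw [e2, e1]
        rw [hD, Subgroup.map_map, Subgroup.map_map] at e3
        convert e3 using 1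
        · congr 1; ext x; simp [mul_assoc]
        · symm
          ext x
          simp [mul_assoc]
      obtain ⟨z, hz, ez⟩ := hy
      have ez' : g * z * g⁻¹ = y := ez
      rw [← ez'] at hmem
      have h1 : z * g⁻¹ ∈ M := by simpa [mul_assoc] using hmem
      exact hg (by simpa using (Subgroup.mul_mem_cancel_left M hz).1 h1)
    · exact hbad g hgH
  have htop : Subgroup.normalClosure (H : Set G) = ⊤ := by
    rcases (Subgroup.normalClosure_normal (s := (H : Set G))).eq_bot_or_eq_top with h | h
    · exact absurd (le_bot_iff.1 (h ▸ Subgroup.le_normalClosure)) hH1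
    · exact h
  rw [htop, top_inf_eq] at hres
  exact hlt hres.le

end Cfsg.Agent.S3015
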