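import Cfsg.Statements.S3020
import Cfsg.Agent.Lib.Solv.NormalPComplement
-- import your own Cfsg.Agent.* helpers here

set_option autoImplicit false
open Cfsg

namespace Cfsg.Agent.S3020

/-- Let G be a finite group, p a prime and H an abelian p-subgroup of G that is extremely closed (for every g, the subgroup generated by H and g H g⁻¹ meets N_G(H) exactly in H). Then for every g ∈ G, the subgroup T generated by H and g H g⁻¹ is the product of H with O_{p'}(T), and H meets O_{p'}(T) trivially; that is, O_{p'}(T) is a normal p-complement of H in T. -/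
theorem result {G : Type*} [Group G] [Finite G] {p : ℕ} [Fact p.Prime] (H : Subgroup G) (hHp : IsPGroup p H) (hHab : IsMulCommutative H) (hcl : Cfsg.IsExtremelyClosed H) (g : G) (T : Subgroup G) (hT : T = H ⊔ H.map (MulAut.conj g).toMonoidHom) : H ⊔ (Cfsg.pPrimeCore p ↥T).map T.subtype = T ∧ H ⊓ (Cfsg.pPrimeCore p ↥T).map T.subtype = ⊥ := by
  classical
  subst hT
  set T := H ⊔ H.map (MulAut.conj g).toMonoidHom with hT
  have hHT : H ≤ T := le_sup_left
  have hN : ∀ t ∈ T, t ∈ Subgroup.normalizer (H : Set G) → t ∈ H := fun t ht hn => (hcl g).le ⟨ht, hn⟩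
  have hsub : ∀ t : T, t ∈ Subgroup.normalizer ((H.subgroupOf T : Subgroup T) : Set T) → t ∈ H.subgroupOf T := by
    intro t ht
    refine hN t t.2 ?_
    rw [Subgroup.mem_normalizer_iff]
    intro x
    constructor
    · intro hx; exact (Subgroup.mem_normalizer_iff.1 ht ⟨x, hHT hx⟩).1 hx
    · intro hx
      have hxT : x ∈ T := by simpa [mul_assoc] using mul_mem (mul_mem (inv_mem t.2) (hHT hx)) t.2
      exact (Subgroup.mem_normalizer_iff.1 ht ⟨x, hxT⟩).2 hx
  obtain ⟨P, hP⟩ := (hHp.comap_of_injective T.subtype T.subtype_injective).exists_le_sylow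
  have hPe : (P : Subgroup T) = H.subgroupOf T := by
    refine le_antisymm ?_ hP
    by_contra hne
    haveI := P.isPGroup'.isNilpotent
    have hlt : (H.subgroupOf T).subgroupOf (P : Subgroup T) < ⊤ :=
      lt_top_iff_ne_top.2 fun e => hne (Subgroup.subgroupOf_eq_top.1 e)
    obtain ⟨x, hx1, hx2⟩ := SetLike.exists_of_lt ((Group.normalizerCondition_of_isNilpotent (G := (P : Subgroup T))) _ hlt)
    refine hx2 (hsub x ?_)
    rw [Subgroup.mem_normalizer_iff]
    intro y
    constructor
    · intro hy; exact (Subgroup.mem_normalizer_iff.1 hx1 ⟨y, hP hy⟩).1 hy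
    · intro hy
      have hyP : y ∈ (P : Subgroup T) := by
        simpa [mul_assoc] using mul_mem (mul_mem (inv_mem x.2) (hP hy)) x.2
      exact (Subgroup.mem_normalizer_iff.1 hx1 ⟨y, hyP⟩).2 hy
  have hburn : Subgroup.normalizer ((P : Subgroup T) : Set T) ≤ Subgroup.centralizer ((P : Subgroup T) : Set T) := by
    rw [hPe]
    intro x hx
    have hxH : x ∈ H.subgroupOf T := hsub x hx
    rw [Subgroup.mem_centralizer_iff]
    intro y hy
    exact Subtype.ext (congrArg Subtype.val (hHab.is_comm.comm (⟨y, hy⟩ : H) ⟨x, hxH⟩) :)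
  have hc := Solv.isComplement'_pPrimeCore (Solv.hasNormalPComplement_of_burnside P hburn) P
  rw [hPe] at hc
  constructor
  · have h1 := congrArg (Subgroup.map T.subtype) hc.sup_eq_top
    rw [Subgroup.map_sup, Subgroup.map_subgroupOf_eq_of_le hHT, ← MonoidHom.range_eq_map,
      Subgroup.range_subtype, sup_comm] at h1
    exact h1
  · rw [eq_bot_iff]
    rintro x ⟨hx, y, hy, rfl⟩
    have := hc.disjoint.le_bot ⟨hy, hx⟩
    rw [Subgroup.mem_bot] at this ⊢
    rw [this, map_one]

end Cfsg.Agent.S3020
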