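import Cfsg.Statements.S3021
import Cfsg.Agent.Lib.Local.WeaklyClosedBasics
import Cfsg.Prelude.Def_SubgroupEmbedding
-- import your own Cfsg.Agent.* helpers here

set_option autoImplicit false
open Cfsg

namespace Cfsg.Agent.S3021

/-- Let G be a finite group, p a prime and H a p-subgroup of G that is extremely closed (for every g, the subgroup generated by H and g H g⁻¹ meets N_G(H) exactly in H). Then every p-subgroup Q of G containing H has N_G(Q) ≤ N_G(H); in particular every Sylow p-subgroup P of G containing H normalizes H, and H is strongly closed in P with respect to G. -/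
theorem result {G : Type*} [Group G] [Finite G] {p : ℕ} [Fact p.Prime] (H : Subgroup G) (hHp : IsPGroup p H) (hcl : Cfsg.IsExtremelyClosed H) : (∀ Q : Subgroup G, IsPGroup p Q → H ≤ Q → Subgroup.normalizer (Q : Set G) ≤ Subgroup.normalizer (H : Set G)) ∧ ∀ P : Sylow p G, H ≤ (P : Subgroup G) → (P : Subgroup G) ≤ Subgroup.normalizer (H : Set G) ∧ Cfsg.IsStronglyClosed H (P : Subgroup G) := by
  classical
  have key : ∀ (Q : Subgroup G) (g : G), IsPGroup p Q → H ≤ Q → H.map (MulAut.conj g).toMonoidHom ≤ Q →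
      H.map (MulAut.conj g).toMonoidHom = H := by
    intro Q g hQ hHQ hgQ
    set T := H ⊔ H.map (MulAut.conj g).toMonoidHom with hT
    have hTH : T ≤ H := by
      by_contra hne
      haveI := (hQ.to_le (sup_le hHQ hgQ) : IsPGroup p T).isNilpotent
      have hlt : H.subgroupOf T < ⊤ := lt_top_iff_ne_top.2 fun e => hne (Subgroup.subgroupOf_eq_top.1 e)
      obtain ⟨x, hx1, hx2⟩ := SetLike.exists_of_lt ((Group.normalizerCondition_of_isNilpotent (G := T)) _ hlt)
      refine hx2 ((hcl g).le ⟨x.2, ?_⟩)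
      show (x : G) ∈ Subgroup.normalizer (H : Set G)
      rw [Subgroup.mem_normalizer_iff]
      intro y
      constructor
      · intro hy; exact (Subgroup.mem_normalizer_iff.1 hx1 ⟨y, Subgroup.mem_sup_left hy⟩).1 hy
      · intro hy
        have hyT : y ∈ T := by
          simpa [mul_assoc] using mul_mem (mul_mem (inv_mem x.2) (Subgroup.mem_sup_left hy : (x : G) * y * (x : G)⁻¹ ∈ T)) x.2
        exact (Subgroup.mem_normalizer_iff.1 hx1 ⟨y, hyT⟩).2 hy
    exact Subgroup.eq_of_le_of_card_ge (le_sup_right.trans hTH)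
      (Nat.card_congr (H.equivMapOfInjective (MulAut.conj g).toMonoidHom (MulAut.conj g).injective).toEquiv).le
  have h1 : ∀ Q : Subgroup G, IsPGroup p Q → H ≤ Q →
      Subgroup.normalizer (Q : Set G) ≤ Subgroup.normalizer (H : Set G) := fun Q hQ hHQ g hg =>
    Local.WCB.mem_normalizer_of_map_conj_eq (key Q g hQ hHQ
      ((Subgroup.map_mono hHQ).trans (Local.WCB.map_conj_eq_of_mem_normalizer hg).le))
  refine ⟨h1, fun P hP => ⟨Subgroup.le_normalizer.trans (h1 P P.isPGroup' hP), hP, fun x hx g hg => ?_⟩⟩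
  refine (hcl g).le ⟨Subgroup.mem_sup_right ⟨x, hx, rfl⟩, ?_⟩
  exact (Subgroup.le_normalizer.trans (h1 P P.isPGroup' hP)) hg

end Cfsg.Agent.S3021
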