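import Cfsg.Statements.S3023
import Cfsg.Agent.Lib.Solv.Misc
import Cfsg.Agent.Lib.Local.ParabolicTransfer
import Cfsg.Agent.Lib.Local.CentralizerOmegaCenter
-- import your own Cfsg.Agent.* helpers here

set_option autoImplicit false
open Cfsg

namespace Cfsg.Agent.S3023

/-- Let p be a prime, G a finite group of parabolic characteristic p (every p-local subgroup containing a Sylow p-subgroup of G has characteristic p), S a Sylow p-subgroup of G and G₁ a subnormal subgroup of G. If the centre of S ∩ G₁ is nontrivial and contained in the centre of S, then G₁ has parabolic characteristic p. -/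
theorem result {G : Type*} [Group G] [Finite G] {p : ℕ} [Fact p.Prime] (hG : Cfsg.IsOfParabolicCharacteristic p G) (S : Sylow p G) (G₁ : Subgroup G) (hsn : G₁.IsSubnormal) (hne : ((S : Subgroup G) ⊓ G₁) ⊓ Subgroup.centralizer (((S : Subgroup G) ⊓ G₁ : Subgroup G) : Set G) ≠ ⊥) (hle : ((S : Subgroup G) ⊓ G₁) ⊓ Subgroup.centralizer (((S : Subgroup G) ⊓ G₁ : Subgroup G) : Set G) ≤ (S : Subgroup G) ⊓ Subgroup.centralizer ((S : Subgroup G) : Set G)) : Cfsg.IsOfParabolicCharacteristic p ↥G₁ := by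
  intro R hR hR1 hpar
  obtain ⟨T₁, hT₁⟩ := hpar
  set N := Subgroup.normalizer (R : Set G₁) with hN
  have hRT : R ≤ (T₁ : Subgroup G₁) := by
    haveI : (R.subgroupOf N).Normal := Subgroup.normal_in_normalizer
    have h1 : R.subgroupOf N ≤ Cfsg.pCore p N :=
      Cfsg.Agent.Solv.le_pCore (hR.comap_of_injective _ N.subtype_injective)
    intro r hr
    exact Cfsg.Agent.Local.CharPB.map_pCore_le_sylow T₁ hT₁
      ⟨⟨r, Subgroup.le_normalizer hr⟩, h1 (Subgroup.mem_subgroupOf.2 hr), rfl⟩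
  haveI : (R.subgroupOf (T₁ : Subgroup G₁)).Normal :=
    (Subgroup.normal_subgroupOf_iff_le_normalizer hRT).2 hT₁
  haveI hne' : Nontrivial (R.subgroupOf (T₁ : Subgroup G₁)) := by
    rw [Subgroup.nontrivial_iff_ne_bot]
    exact fun e => hR1 (le_bot_iff.1 fun r hr => by
      have := e.le (show (⟨r, hRT hr⟩ : (T₁ : Subgroup G₁)) ∈ R.subgroupOf _ from hr)
      exact congrArg Subtype.val this)
  haveI := T₁.isPGroup'.isNilpotent
  have hz0 : R.subgroupOf (T₁ : Subgroup G₁) ⊓ Subgroup.center _ ≠ ⊥ :=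
    Cfsg.Agent.Solv.inf_center_ne_bot _ ((Subgroup.nontrivial_iff_ne_bot _).1 hne')
  obtain ⟨z, hzR, hzp⟩ : ∃ z : (T₁ : Subgroup G₁),
      z ∈ R.subgroupOf (T₁ : Subgroup G₁) ⊓ Subgroup.center _ ∧ orderOf z = p := by
    obtain ⟨j, hj⟩ := IsPGroup.iff_card.1 (T₁.isPGroup'.to_subgroup
      (R.subgroupOf (T₁ : Subgroup G₁) ⊓ Subgroup.center _))
    have hd : p ∣ Nat.card ↥(R.subgroupOf (T₁ : Subgroup G₁) ⊓ Subgroup.center _) := by
      rcases j with _ | j
      · exact absurd (Subgroup.card_eq_one.1 (by simpa using hj)) hz0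
      · rw [hj]; exact dvd_pow_self p j.succ_ne_zero
    obtain ⟨x, hx⟩ := exists_prime_orderOf_dvd_card' p hd
    exact ⟨x, x.2, by rw [Subgroup.orderOf_coe, hx]⟩
  obtain ⟨hzR', hzZ⟩ := Subgroup.mem_inf.1 hzR
  set z₁ : G₁ := (z : G₁) with hz₁
  set zG : G := (z₁ : G) with hzG
  set TS₁ : Sylow p G₁ := (S.isPGroup'.comap_of_injective G₁.subtype G₁.subtype_injective).toSylow
    (Cfsg.Agent.Solv.index_sylow_inf_subnormal G₁ hsn S) with hTS₁
  obtain ⟨g₁, hg₁⟩ := MulAction.exists_smul_eq G₁ TS₁ T₁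
  set g : G := (g₁ : G) with hgdef
  set S' : Sylow p G := g • S with hS'def
  have hg : g • S = S' := rfl
  have hS' : (T₁ : Subgroup G₁).map G₁.subtype ≤ (S' : Subgroup G) := by
    rintro _ ⟨t, ht, rfl⟩
    rw [← hg₁] at ht
    obtain ⟨s, hs, rfl⟩ := ht
    exact ⟨(s : G), hs, rfl⟩
  have hS'G : (S' : Subgroup G) ⊓ G₁ ≤ (T₁ : Subgroup G₁).map G₁.subtype := by
    intro x hx
    obtain ⟨hxS, hxG⟩ := Subgroup.mem_inf.1 hx
    obtain ⟨s, hs, hse⟩ := hxS
    have hse' : g * s * g⁻¹ = x := hse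
    have hsG : s ∈ G₁ := by
      have := mul_mem (mul_mem (inv_mem g₁.2) hxG) g₁.2
      rw [← hse'] at this
      simpa [hgdef, mul_assoc] using this
    refine ⟨g₁ * ⟨s, hsG⟩ * g₁⁻¹, ?_, by simpa [hgdef] using hse'⟩
    rw [← hg₁]
    exact ⟨⟨s, hsG⟩, hs, rfl⟩
  have hconj : ∀ s ∈ (S : Subgroup G), g * s * g⁻¹ ∈ (S' : Subgroup G) := fun s hs => by
    rw [← hg]; exact ⟨s, hs, rfl⟩
  have hconj' : ∀ t ∈ (S' : Subgroup G), ∃ s ∈ (S : Subgroup G), g * s * g⁻¹ = t := fun t ht => by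
    rw [← hg] at ht; obtain ⟨s, hs, e⟩ := ht; exact ⟨s, hs, e⟩
  have hcentS : ∀ t ∈ (S' : Subgroup G), t * zG = zG * t := by
    obtain ⟨s₀, hs₀, hs₀e⟩ := hconj' zG (hS' ⟨z₁, z.2, rfl⟩)
    have hs₀G : s₀ ∈ G₁ := by
      have h9 := mul_mem (mul_mem (inv_mem g₁.2) z₁.2) g₁.2
      rw [show (z₁ : G) = g * s₀ * g⁻¹ from hs₀e.symm] at h9
      simpa [hgdef, mul_assoc] using h9
    have hmem : s₀ ∈ ((S : Subgroup G) ⊓ G₁) ⊓
        Subgroup.centralizer (((S : Subgroup G) ⊓ G₁ : Subgroup G) : Set G) := by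
      refine Subgroup.mem_inf.2 ⟨Subgroup.mem_inf.2 ⟨hs₀, hs₀G⟩, ?_⟩
      refine Subgroup.mem_centralizer_iff.2 fun s hs => ?_
      obtain ⟨hsS, hsG⟩ := Subgroup.mem_inf.1 hs
      obtain ⟨t, ht, hte⟩ := hS'G (Subgroup.mem_inf.2 ⟨hconj s hsS, mul_mem (mul_mem g₁.2 hsG) (inv_mem g₁.2)⟩)
      have h2 : (t : G) * zG = zG * t :=
        congrArg (fun y : G₁ => (y : G)) (congrArg Subtype.val (Subgroup.mem_center_iff.1 hzZ ⟨t, ht⟩))
      rw [show (t : G) = g * s * g⁻¹ from hte, ← hs₀e] at h2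
      have h3 : g * (s * s₀) * g⁻¹ = g * (s₀ * s) * g⁻¹ := by
        simpa [mul_assoc] using h2
      simpa using h3
    have hle' : (S : Subgroup G) ⊓ Subgroup.centralizer ((S : Subgroup G) : Set G) ≤
        Subgroup.centralizer ((S : Subgroup G) : Set G) := inf_le_right
    intro t ht
    obtain ⟨s, hs, rfl⟩ := hconj' t ht
    have h3 := Subgroup.mem_centralizer_iff.1 (hle' (hle hmem)) s hs
    rw [← hs₀e]
    calc g * s * g⁻¹ * (g * s₀ * g⁻¹) = g * (s * s₀) * g⁻¹ := by group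
      _ = g * (s₀ * s) * g⁻¹ := by rw [h3]
      _ = _ := by group
  set Z := Subgroup.zpowers zG with hZ
  have hzGp : orderOf zG = p := by rw [hzG, hz₁, Subgroup.orderOf_coe, Subgroup.orderOf_coe, hzp]
  have hY := hG Z (IsPGroup.of_card (n := 1) (by rw [Nat.card_zpowers, hzGp, pow_one]))
    (fun e => (Fact.out : p.Prime).ne_one (by
      rw [← hzGp, Subgroup.zpowers_eq_bot.1 e, orderOf_one]))
    ⟨S', fun t ht => Subgroup.centralizer_le_normalizer _ (Subgroup.mem_centralizer_iff.2 fun y hy => by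
      obtain ⟨m, rfl⟩ := hy
      exact ((show Commute t zG from hcentS t ht).zpow_right m).eq.symm)⟩
  set M := Subgroup.centralizer (Z : Set G) ⊓ G₁ with hM
  have hMle : M ≤ Subgroup.normalizer (Z : Set G) := inf_le_left.trans (Subgroup.centralizer_le_normalizer _)
  have hMsn : (M.subgroupOf (Subgroup.normalizer (Z : Set G))).IsSubnormal := by
    show (((Subgroup.centralizer (Z : Set G)) ⊓ G₁).comap (Subgroup.normalizer (Z : Set G)).subtype).IsSubnormal
    rw [Subgroup.comap_inf]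
    haveI h1 : ((Subgroup.centralizer (Z : Set G)).subgroupOf (Subgroup.normalizer (Z : Set G))).Normal :=
      inferInstance
    exact h1.isSubnormal.inf (hsn.comap _)
  obtain ⟨TZ⟩ := Sylow.nonempty (p := p) (G := Subgroup.normalizer (Z : Set G))
  have hMc : Subgroup.centralizer (Cfsg.pCore p M : Set M) ≤ Cfsg.pCore p M :=
    Cfsg.Agent.Local.CharPB.centralizer_pCore_le_of_mulEquiv (Subgroup.subgroupOfEquivOfLe hMle)
      (Cfsg.Agent.Local.OmegaCenter.inf_centralizer_eq hY TZ _ hMsn).1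
  set M₁ := M.subgroupOf G₁ with hM₁
  have hz₁R : z₁ ∈ R := hzR'
  refine Cfsg.Agent.Local.CharPB.centralizer_pCore_le_of_parabolic T₁ (M := M₁) hT₁ ?_
    (Cfsg.Agent.Local.CharPB.centralizer_pCore_le_of_mulEquiv
      (Subgroup.subgroupOfEquivOfLe (inf_le_right : M ≤ G₁)).symm hMc) ?_
  · intro t ht
    refine Subgroup.mem_subgroupOf.2 (Subgroup.mem_inf.2 ⟨Subgroup.mem_centralizer_iff.2 fun y hy => ?_, t.2⟩)
    obtain ⟨m, rfl⟩ := hy
    exact ((show Commute (t : G) zG from hcentS t (hS' ⟨t, ht, rfl⟩)).zpow_right m).eq.symm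
  · intro c hc
    obtain ⟨hcN, hcC⟩ := Subgroup.mem_inf.1 hc
    haveI : (R.subgroupOf N).Normal := Subgroup.normal_in_normalizer
    have h1 : R.subgroupOf N ≤ Cfsg.pCore p N :=
      Cfsg.Agent.Solv.le_pCore (hR.comap_of_injective _ N.subtype_injective)
    have h2 : z₁ * c = c * z₁ := Subgroup.mem_centralizer_iff.1 hcC z₁
      ⟨⟨z₁, Subgroup.le_normalizer hz₁R⟩, h1 (Subgroup.mem_subgroupOf.2 hz₁R), rfl⟩
    refine Subgroup.mem_subgroupOf.2 (Subgroup.mem_inf.2 ⟨Subgroup.mem_centralizer_iff.2 fun y hy => ?_, c.2⟩)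
    obtain ⟨m, rfl⟩ := hy
    exact ((show Commute (c : G) zG from (congrArg (fun y : G₁ => (y : G)) h2).symm).zpow_right m).eq.symm

end Cfsg.Agent.S3023
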