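import Cfsg.Statements.S3025
import Cfsg.Agent.Lib.Struct.UniqueOrderP
import Cfsg.Agent.Lib.Solv.Basic
import Cfsg.Agent.Lib.Solv.SchurZassenhaus
-- import your own Cfsg.Agent.* helpers here

set_option autoImplicit false
open Cfsg

namespace Cfsg.Agent.S3025
open Cfsg.Agent


/-- Let F be a finite group and H a nontrivial subgroup of F that is contained in every nontrivial subgroup of F which H normalizes. Then F has a nontrivial normal subgroup N contained in every nontrivial normal subgroup of F (a unique minimal normal subgroup), N is simple, and one of the following holds: C_F(N) = 1; or H = N has prime order p, C_F(N) is cyclic of order a power of p, and F/C_F(N) is cyclic of order dividing p − 1; or H = N has order 2, N is central in F, and F is a generalized quaternion group. -/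
theorem result {F : Type*} [Group F] [Finite F] (H : Subgroup F) (hH : H ≠ ⊥)
    (hmin : ∀ R : Subgroup F, R ≠ ⊥ → H ≤ Subgroup.normalizer (R : Set F) → H ≤ R) :
    ∃ N : Subgroup F, N.Normal ∧ N ≠ ⊥ ∧ (∀ M : Subgroup F, M.Normal → M ≠ ⊥ → N ≤ M) ∧ IsSimpleGroup ↥N ∧
      (Subgroup.centralizer (N : Set F) = ⊥ ∨
       (H = N ∧ (Nat.card N).Prime ∧ IsCyclic ↥(Subgroup.centralizer (N : Set F)) ∧
          (∃ k : ℕ, 1 ≤ k ∧ Nat.card ↥(Subgroup.centralizer (N : Set F)) = Nat.card N ^ k) ∧
          (∃ g : F, Subgroup.centralizer (N : Set F) ⊔ Subgroup.zpowers g = ⊤) ∧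
          (Subgroup.centralizer (N : Set F)).index ∣ Nat.card N - 1) ∨
       (H = N ∧ Nat.card N = 2 ∧ Subgroup.centralizer (N : Set F) = ⊤ ∧
          ∃ k : ℕ, 1 ≤ k ∧ Nonempty (F ≃* QuaternionGroup (2 ^ k)))) := by
  classical
  haveI : Nontrivial F := by
    obtain ⟨h, -, hne⟩ := (Subgroup.ne_bot_iff_exists_ne_one.1 hH).elim (fun a ha => ⟨(a : F), a.2, fun e => ha (Subtype.ext e)⟩ : (a : H) → a ≠ 1 → ∃ h ∈ H, h ≠ (1 : F))
    exact ⟨⟨h, 1, hne⟩⟩
  haveI : (⊤ : Subgroup F).Normal := inferInstance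
  obtain ⟨N, ⟨hNn, hN0⟩, hNmin'⟩ := (Set.toFinite {N : Subgroup F | N.Normal ∧ N ≠ ⊥}).exists_minimal
    ⟨⊤, inferInstance, top_ne_bot⟩
  haveI := hNn
  have hNmin : ∀ M : Subgroup F, M.Normal → M ≤ N → M ≠ ⊥ → N ≤ M := fun M hM hMN hM0 => hNmin' ⟨hM, hM0⟩ hMN
  have hHN : H ≤ N := hmin N hN0 Subgroup.le_normalizer_of_normal
  have hleast : ∀ M : Subgroup F, M.Normal → M ≠ ⊥ → N ≤ M := by
    intro M hM hM0
    haveI := hM
    refine le_trans (hNmin (N ⊓ M) inferInstance inf_le_left fun h => hH (le_bot_iff.1 (h ▸ ?_))) inf_le_right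
    exact le_inf hHN (hmin M hM0 Subgroup.le_normalizer_of_normal)
  haveI : Nontrivial N := (Subgroup.nontrivial_iff_ne_bot N).2 hN0
  have hsimple : IsSimpleGroup N := by
    refine ⟨fun K₀ hK₀ => ?_⟩
    by_contra hcon
    push_neg at hcon
    obtain ⟨hK0, hKt⟩ := hcon
    obtain ⟨K, ⟨hKn, hKne, hKle⟩, hKmin⟩ := (Set.toFinite {K : Subgroup N | K.Normal ∧ K ≠ ⊥ ∧ K ≤ K₀}).exists_minimal
      ⟨K₀, hK₀, hK0, le_rfl⟩
    haveI := hKn
    set K' := K.map N.subtype with hK'
    have hK'N : K' ≤ N := Subgroup.map_subtype_le K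
    have hNK : N ≤ Subgroup.normalizer (K' : Set F) := by
      intro n hn
      refine Subgroup.mem_normalizer_iff.2 fun x => ⟨?_, fun hx => ?_⟩
      · rintro ⟨k, hk, rfl⟩
        exact ⟨_, hKn.conj_mem k hk ⟨n, hn⟩, rfl⟩
      · obtain ⟨k, hk, e⟩ := hx
        exact ⟨_, hKn.conj_mem k hk ⟨n, hn⟩⁻¹, by
          show n⁻¹ * (k : F) * n⁻¹⁻¹ = x
          rw [show (k : F) = n * x * n⁻¹ from e]; group⟩
    have hK'0 : K' ≠ ⊥ := fun h => hKne ((Subgroup.map_eq_bot_iff_of_injective _ N.subtype_injective).1 h)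
    have hnorm : ∀ g : F, K'.map (MulAut.conj g).toMonoidHom = K' := by
      intro g
      set Kg := K'.map (MulAut.conj g).toMonoidHom
      have hKgN : Kg ≤ N := by rintro _ ⟨k, hk, rfl⟩; exact hNn.conj_mem k (hK'N hk) g
      have hKg0 : Kg ≠ ⊥ := fun h => hK'0 ((Subgroup.map_eq_bot_iff_of_injective _ (MulAut.conj g).injective).1 h)
      have hNKg : N ≤ Subgroup.normalizer (Kg : Set F) := by
        intro n hn
        have h1 : g⁻¹ * n * g ∈ Subgroup.normalizer (K' : Set F) := hNK (by simpa using hNn.conj_mem n hn g⁻¹)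
        have h2 := Subgroup.mem_map_of_mem (MulAut.conj g).toMonoidHom h1
        rw [Subgroup.map_equiv_normalizer_eq] at h2
        have e : (MulAut.conj g).toMonoidHom (g⁻¹ * n * g) = n := by simp [mul_assoc]
        rwa [e] at h2
      have hint : K' ⊓ Kg ≠ ⊥ := fun h => hH (le_bot_iff.1 (h ▸ le_inf (hmin K' hK'0 (hHN.trans hNK))
        (hmin Kg hKg0 (hHN.trans hNKg))))
      set I := (K' ⊓ Kg).subgroupOf N
      have hIn : I.Normal := Subgroup.normal_subgroupOf_of_le_normalizer (Solv.le_normalizer_inf hNK hNKg)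
      have hIK : I ≤ K := by
        intro x hx
        obtain ⟨k, hk, e⟩ := hx.1
        exact (Subtype.ext e : k = x) ▸ hk
      have hI0 : I ≠ ⊥ := fun h => hint (by
        rw [← Subgroup.map_subgroupOf_eq_of_le (inf_le_left.trans hK'N : K' ⊓ Kg ≤ N)]
        show I.map N.subtype = ⊥
        rw [h, Subgroup.map_bot])
      have hKI : K ≤ I := hKmin ⟨hIn, hI0, hIK.trans hKle⟩ hIK
      have hle : K' ≤ Kg := by
        rintro _ ⟨k, hk, rfl⟩
        exact (hKI hk).2
      refine (Subgroup.eq_of_le_of_card_ge hle (le_of_eq ?_)).symm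
      exact Subgroup.card_map_of_injective (MulAut.conj g).injective
    have hK'n : K'.Normal := ⟨fun k hk g => (hnorm g).le ⟨k, hk, rfl⟩⟩
    have h1 := hNmin K' hK'n hK'N hK'0
    refine hKt (eq_top_iff.2 fun x _ => hKle ?_)
    obtain ⟨k, hk, e⟩ := h1 x.2
    exact (Subtype.ext e : k = x) ▸ hk
  refine ⟨N, hNn, hN0, hleast, hsimple, ?_⟩
  set C := Subgroup.centralizer (N : Set F) with hC
  rcases eq_or_ne C ⊥ with h | hC0
  · exact Or.inl h
  right
  haveI hCn : C.Normal := inferInstance
  have hNC : N ≤ C := hleast C hCn hC0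
  have hab : ∀ a ∈ N, ∀ b ∈ N, a * b = b * a := fun a ha b hb => Subgroup.mem_centralizer_iff.1 (hNC hb) a ha
  haveI := hsimple
  letI : CommGroup N := { (inferInstance : Group N) with mul_comm := fun a b => Subtype.ext (hab a a.2 b b.2) }
  have hq : (Nat.card N).Prime := IsSimpleGroup.prime_card
  obtain ⟨q, hqdef⟩ : ∃ q, q = Nat.card N := ⟨_, rfl⟩
  rw [← hqdef] at hq
  haveI : Fact q.Prime := ⟨hq⟩
  have hHeq : H = N := by
    refine Subgroup.eq_of_le_of_card_ge hHN ?_
    have h2 : Nat.card H ∣ q := hqdef ▸ Subgroup.card_dvd_of_le hHN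
    rcases (Nat.dvd_prime hq).1 h2 with h | h
    · exact absurd (Subgroup.eq_bot_of_card_eq _ h) hH
    · rw [h, hqdef]
  have huniqN : ∀ y ∈ C, y ≠ 1 → N ≤ Subgroup.zpowers y := by
    intro y hy hy1
    rw [← hHeq]
    refine hmin _ (by rwa [Ne, Subgroup.zpowers_eq_bot]) (fun h hh => Subgroup.centralizer_le_normalizer _ ?_)
    refine Subgroup.mem_centralizer_iff.2 ?_
    rintro w hw
    obtain ⟨i, rfl⟩ := Subgroup.mem_zpowers_iff.1 hw
    have hc : Commute h y := Subgroup.mem_centralizer_iff.1 hy h (hHN hh)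
    exact (hc.zpow_right i).symm.eq
  have hCq : IsPGroup q C := by
    obtain ⟨n, hn⟩ : ∃ n, Nat.card C = q ^ n := by
      refine ⟨_, Nat.eq_prime_pow_of_unique_prime_dvd (Nat.card_pos).ne' fun {r} hr hd => ?_⟩
      haveI : Fact r.Prime := ⟨hr⟩
      obtain ⟨y, hy⟩ := exists_prime_orderOf_dvd_card' (G := C) r hd
      have h1 := Subgroup.card_dvd_of_le (huniqN y y.2 (fun e => hr.ne_one (by
        rw [← hy, ← Subgroup.orderOf_coe, e, orderOf_one])))
      rw [Nat.card_zpowers, Subgroup.orderOf_coe, hy, ← hqdef] at h1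
      exact ((Nat.prime_dvd_prime_iff_eq hq hr).1 h1).symm
    exact IsPGroup.of_card hn
  have huniq : ∀ x y : C, orderOf x = q → y ^ q = 1 → y ∈ Subgroup.zpowers x := by
    intro x y hx hy
    have hNx : N = Subgroup.zpowers (x : F) := by
      refine Subgroup.eq_of_le_of_card_ge (huniqN x x.2 (fun e => hq.ne_one (by
        rw [← hx, ← Subgroup.orderOf_coe, e, orderOf_one]))) ?_
      rw [Nat.card_zpowers, Subgroup.orderOf_coe, hx, hqdef]
    rcases eq_or_ne (y : F) 1 with h | h
    · rw [(Subtype.ext h : y = 1)]; exact one_mem _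
    · have hy' : (y : F) ^ q = 1 := by simpa using congrArg Subtype.val hy
      have hNy : N = Subgroup.zpowers (y : F) := by
        refine Subgroup.eq_of_le_of_card_ge (huniqN y y.2 h) ?_
        rw [Nat.card_zpowers, ← hqdef]
        exact Nat.le_of_dvd hq.pos (orderOf_dvd_of_pow_eq_one hy')
      have : (y : F) ∈ Subgroup.zpowers (x : F) := by rw [← hNx, hNy]; exact Subgroup.mem_zpowers _
      obtain ⟨i, hi⟩ := Subgroup.mem_zpowers_iff.1 this
      exact Subgroup.mem_zpowers_iff.2 ⟨i, Subtype.ext (by simpa using hi)⟩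
  obtain ⟨e, he⟩ := IsPGroup.iff_card.1 hCq
  have he1 : 1 ≤ e := by
    by_contra h
    rw [show e = 0 by omega, pow_zero] at he
    exact hC0 (Subgroup.eq_bot_of_card_eq _ he)
  by_cases hcase : IsCyclic C
  · left
    refine ⟨hHeq, hqdef ▸ hq, hcase, ⟨e, he1, hqdef ▸ he⟩, ?_, ?_⟩
    · let φ : F →* MulAut N := MulAut.conjNormal
      haveI : IsCyclic N := isCyclic_of_prime_card hqdef.symm
      let ψ : MulAut N ≃* (ZMod (Nat.card N))ˣ := IsCyclic.mulAutMulEquiv N
      haveI : Fact (Nat.card N).Prime := ⟨hqdef ▸ hq⟩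
      haveI : IsCyclic (MulAut N) := isCyclic_of_surjective ψ.symm.toMonoidHom ψ.symm.surjective
      have hker : φ.ker = C := by
        ext g
        rw [MonoidHom.mem_ker]
        constructor
        · intro hg
          refine Subgroup.mem_centralizer_iff.2 fun n hn => ?_
          have := congrArg (fun f : MulAut N => ((f ⟨n, hn⟩ : N) : F)) hg
          simp only [φ, MulAut.conjNormal_apply, MulAut.one_apply] at this
          exact ((mul_inv_eq_iff_eq_mul.1 this).symm)
        · intro hg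
          refine MulEquiv.ext fun n => Subtype.ext ?_
          simp only [φ, MulAut.conjNormal_apply, MulAut.one_apply]
          rw [mul_inv_eq_iff_eq_mul]
          exact (Subgroup.mem_centralizer_iff.1 hg n n.2).symm
      obtain ⟨u, hu⟩ := (inferInstance : IsCyclic φ.range).exists_generator
      obtain ⟨g, hg⟩ := u.2
      refine ⟨g, eq_top_iff.2 fun x _ => ?_⟩
      obtain ⟨i, hi⟩ := Subgroup.mem_zpowers_iff.1 (hu ⟨φ x, x, rfl⟩)
      have hi' : (u : MulAut N) ^ i = φ x := congrArg Subtype.val hi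
      have hxC : x * (g ^ i)⁻¹ ∈ C := by
        rw [← hker, MonoidHom.mem_ker, map_mul, map_inv, map_zpow, hg, hi', mul_inv_cancel]
      have := mul_mem (Subgroup.mem_sup_left hxC : x * (g ^ i)⁻¹ ∈ C ⊔ Subgroup.zpowers g)
        (Subgroup.mem_sup_right (Subgroup.zpow_mem _ (Subgroup.mem_zpowers g) i))
      rwa [inv_mul_cancel_right] at this
    · let φ : F →* MulAut N := MulAut.conjNormal
      have hker : φ.ker = C := by
        ext g
        rw [MonoidHom.mem_ker]
        constructor
        · intro hg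
          refine Subgroup.mem_centralizer_iff.2 fun n hn => ?_
          have := congrArg (fun f : MulAut N => ((f ⟨n, hn⟩ : N) : F)) hg
          simp only [φ, MulAut.conjNormal_apply, MulAut.one_apply] at this
          exact ((mul_inv_eq_iff_eq_mul.1 this).symm)
        · intro hg
          refine MulEquiv.ext fun n => Subtype.ext ?_
          simp only [φ, MulAut.conjNormal_apply, MulAut.one_apply]
          rw [mul_inv_eq_iff_eq_mul]
          exact (Subgroup.mem_centralizer_iff.1 hg n n.2).symm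
      rw [← hker, Subgroup.index_ker]
      haveI : IsCyclic N := isCyclic_of_prime_card hqdef.symm
      refine (Subgroup.card_subgroup_dvd_card φ.range).trans (dvd_of_eq ?_)
      haveI : Fact (Nat.card N).Prime := ⟨hqdef ▸ hq⟩
      rw [Nat.card_congr (IsCyclic.mulAutMulEquiv N).toEquiv, Nat.card_eq_fintype_card,
        ZMod.card_units]
  · right
    obtain ⟨hq2, n, hn, hiso⟩ := (Cfsg.Agent.Struct.cyclic_or_quaternion hCq huniq).resolve_left hcase
    have hN2 : Nat.card N = 2 := hqdef.symm.trans hq2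
    have hCtop : C = ⊤ := eq_top_iff.2 fun g _ => Subgroup.mem_centralizer_iff.2 fun a ha => by
      rcases eq_or_ne a 1 with rfl | ha1
      · simp
      have hb := hNn.conj_mem a ha g
      obtain ⟨u, v, -, huv⟩ := Nat.card_eq_two_iff.1 hN2
      have f : ∀ w : N, w = u ∨ w = v := fun w => by
        have : w ∈ ({u, v} : Set N) := by rw [huv]; trivial
        simpa using this
      have hg1 : g * a * g⁻¹ = a := by
        rcases f 1 with h | h <;> rcases f ⟨a, ha⟩ with h' | h' <;> rcases f ⟨_, hb⟩ with h'' | h'' <;>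
          first
            | exact congrArg Subtype.val (h''.trans h'.symm)
            | exact absurd (congrArg Subtype.val (h'.trans h.symm)) ha1
            | exact absurd (conj_eq_one_iff.1 (congrArg Subtype.val (h''.trans h.symm))) ha1
      exact (mul_inv_eq_iff_eq_mul.1 hg1).symm
    refine ⟨hHeq, hN2, hCtop, n, hn, ?_⟩
    obtain ⟨ε⟩ := hiso
    exact ⟨((MulEquiv.subgroupCongr hCtop).trans Subgroup.topEquiv).symm.trans ε⟩

end Cfsg.Agent.S3025
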