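import Cfsg.Statements.S3027
import Mathlib
-- import your own Cfsg.Agent.* helpers here

set_option autoImplicit false
open Cfsg

namespace Cfsg.Agent.S3027

/-- Let G be a finite group and D a normal subgroup of G such that G/D is perfect (that is, G = G′D). Then among the subnormal subgroups B of G with BD = G there is a least one, and it is normal in G. -/
theorem result {G : Type*} [Group G] [Finite G] (D : Subgroup G) [D.Normal] (hperf : ⁅(⊤ : Subgroup G), (⊤ : Subgroup G)⁆ ⊔ D = ⊤) :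
    ∃ B : Subgroup G, B.Normal ∧ B ⊔ D = ⊤ ∧ ∀ B' : Subgroup G, B'.IsSubnormal → B' ⊔ D = ⊤ → B ≤ B' := by
  classical
  let Sup : Set (Subgroup G) := {N | N.Normal ∧ N ⊔ D = ⊤}
  have hinf : ∀ N ∈ Sup, ∀ K : Subgroup G, K ≤ N → N ≤ Subgroup.normalizer (K : Set G) →
      ∀ K' : Subgroup G, K' ≤ N → N ≤ Subgroup.normalizer (K' : Set G) → K ⊔ D = ⊤ → K' ⊔ D = ⊤ → (K ⊓ K') ⊔ D = ⊤ := by
    intro N hN K hKN hNK K' hK'N hNK' hK hK'
    have h1 : ⁅K, K'⁆ ≤ K ⊓ K' :=
      le_inf (Subgroup.le_normalizer_iff_commutator_le_left.1 (hK'N.trans hNK))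
        (by rw [Subgroup.commutator_comm]; exact Subgroup.le_normalizer_iff_commutator_le_left.1 (hKN.trans hNK'))
    refine top_le_iff.1 (hperf.symm.trans_le (sup_le ?_ le_sup_right))
    refine le_trans ?_ (sup_le_sup_right h1 D)
    set f := QuotientGroup.mk' D
    have hk : ∀ X : Subgroup G, X ⊔ D = ⊤ → X.map f = ⊤ := fun X hX => by
      apply Subgroup.comap_injective (QuotientGroup.mk'_surjective D)
      rw [Subgroup.comap_map_eq, QuotientGroup.ker_mk', hX, Subgroup.comap_top]
    have h2 : (⁅(⊤ : Subgroup G), (⊤ : Subgroup G)⁆).map f ≤ (⁅K, K'⁆).map f := by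
      rw [Subgroup.map_commutator, Subgroup.map_commutator, hk K hK, hk K' hK',
        Subgroup.map_top_of_surjective f (QuotientGroup.mk'_surjective D)]
    rw [Subgroup.map_le_iff_le_comap, Subgroup.comap_map_eq, QuotientGroup.ker_mk'] at h2
    exact h2
  have main : ∀ B : Subgroup G, B.IsSubnormal → B ⊔ D = ⊤ → ∃ N ∈ Sup, N ≤ B := by
    intro B hB
    induction hB with
    | top => exact fun _ => ⟨⊤, ⟨inferInstance, top_sup_eq _⟩, le_rfl⟩
    | step A C hle hC hA ih =>
      intro hAD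
      obtain ⟨N, hN, hNC⟩ := ih (top_le_iff.1 (hAD.symm.trans_le (sup_le_sup_right hle D)))
      haveI := hN.1
      let T : Set (Subgroup G) := {K | K ≤ N ∧ N ≤ Subgroup.normalizer (K : Set G) ∧ K ⊔ D = ⊤}
      have hCA : C ≤ Subgroup.normalizer (A : Set G) := (Subgroup.normal_subgroupOf_iff_le_normalizer hle).1 hA
      have hNtop : N ≤ Subgroup.normalizer (N : Set G) := Subgroup.le_normalizer
      have hAN : A ⊓ N ∈ T := by
        refine ⟨inf_le_right, ?_, ?_⟩
        · intro n hn
          rw [Subgroup.mem_normalizer_iff]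
          intro x
          simp only [Subgroup.mem_inf]
          rw [← (Subgroup.mem_normalizer_iff.1 (hCA (hNC hn)) x), ← (Subgroup.mem_normalizer_iff.1 (hNtop hn) x)]
        · refine top_le_iff.1 (hperf.symm.trans_le (sup_le ?_ le_sup_right))
          have h1 : ⁅A, N⁆ ≤ A ⊓ N :=
            le_inf (Subgroup.le_normalizer_iff_commutator_le_left.1 (hNC.trans hCA)) (Subgroup.commutator_le_right _ _)
          refine le_trans ?_ (sup_le_sup_right h1 D)
          set f := QuotientGroup.mk' D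
          have hk : ∀ X : Subgroup G, X ⊔ D = ⊤ → X.map f = ⊤ := fun X hX => by
            apply Subgroup.comap_injective (QuotientGroup.mk'_surjective D)
            rw [Subgroup.comap_map_eq, QuotientGroup.ker_mk', hX, Subgroup.comap_top]
          have h2 : (⁅(⊤ : Subgroup G), (⊤ : Subgroup G)⁆).map f ≤ (⁅A, N⁆).map f := by
            rw [Subgroup.map_commutator, Subgroup.map_commutator, hk A hAD, hk N hN.2,
              Subgroup.map_top_of_surjective f (QuotientGroup.mk'_surjective D)]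
          rw [Subgroup.map_le_iff_le_comap, Subgroup.comap_map_eq, QuotientGroup.ker_mk'] at h2
          exact h2
      obtain ⟨K, hK, hmin⟩ := (Set.toFinite T).exists_minimal ⟨_, hAN⟩
      have hleast : ∀ L ∈ T, K ≤ L := by
        intro L hL
        have hKL : K ⊓ L ∈ T := by
          refine ⟨inf_le_left.trans hK.1, ?_, hinf N hN K hK.1 hK.2.1 L hL.1 hL.2.1 hK.2.2 hL.2.2⟩
          intro n hn
          rw [Subgroup.mem_normalizer_iff]
          intro x
          simp only [Subgroup.mem_inf]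
          rw [← (Subgroup.mem_normalizer_iff.1 (hK.2.1 hn) x), ← (Subgroup.mem_normalizer_iff.1 (hL.2.1 hn) x)]
        exact (hmin hKL inf_le_left).trans inf_le_right
      refine ⟨K, ⟨⟨fun k hk g => ?_⟩, hK.2.2⟩, (hleast _ hAN).trans inf_le_left⟩
      have hg : K.map (MulAut.conj g⁻¹).toMonoidHom ∈ T := by
        refine ⟨?_, ?_, ?_⟩
        · rintro _ ⟨y, hy, rfl⟩
          exact hN.1.conj_mem y (hK.1 hy) g⁻¹
        · intro n hn
          refine Subgroup.le_normalizer_map _ ⟨g * n * g⁻¹, hK.2.1 (hN.1.conj_mem n hn g), ?_⟩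
          simp [mul_assoc]
        · have h1 := congrArg (Subgroup.map (MulAut.conj g⁻¹).toMonoidHom) hK.2.2
          rw [Subgroup.map_sup, Subgroup.map_top_of_surjective _ (MulAut.conj g⁻¹).surjective] at h1
          rw [← h1]
          congr 1
          refine (Subgroup.eq_of_le_of_card_ge ?_ (Nat.card_congr (D.equivMapOfInjective (MulAut.conj g⁻¹).toMonoidHom (MulAut.conj g⁻¹).injective).toEquiv).le).symm
          rintro _ ⟨y, hy, rfl⟩
          exact Subgroup.Normal.conj_mem inferInstance y hy g⁻¹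
      obtain ⟨y, hy, e⟩ := hleast _ hg hk
      rw [← e]
      show g * (g⁻¹ * y * g⁻¹⁻¹) * g⁻¹ ∈ K
      rwa [show g * (g⁻¹ * y * g⁻¹⁻¹) * g⁻¹ = y by group]
  obtain ⟨B, hB, hmin⟩ := (Set.toFinite Sup).exists_minimal ⟨⊤, ⟨inferInstance, top_sup_eq _⟩⟩
  refine ⟨B, hB.1, hB.2, fun B' hB' hB'D => ?_⟩
  obtain ⟨N, hN, hNB'⟩ := main B' hB' hB'D
  haveI := hN.1
  haveI := hB.1
  have hBN : B ⊓ N ∈ Sup := ⟨inferInstance, hinf ⊤ ⟨inferInstance, top_sup_eq _⟩ B le_top
    (Subgroup.normalizer_eq_top B).ge N le_top (Subgroup.normalizer_eq_top N).ge hB.2 hN.2⟩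
  exact (hmin hBN inf_le_left).trans (inf_le_right.trans hNB')

end Cfsg.Agent.S3027
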