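import Cfsg.Statements.S3031
import Cfsg.Agent.Lib.Local.PairControlFull
import Cfsg.Agent.Lib.Solv.TransferApps
import Cfsg.Agent.Lib.Solv.StructMisc
import Cfsg.Agent.Lib.Struct.CoprimeMinimal
import Cfsg.Agent.Lib.Fusion.FixOmega
-- import your own Cfsg.Agent.* helpers here

set_option autoImplicit false
open Cfsg

namespace Cfsg.Agent.S3031

open Subgroup Cfsg
open scoped commutatorElement

theorem eq_one_of_units {m N : ℕ} (hN : Nat.Coprime N m.totient) (i : ℤ)
    (h : (m : ℤ) ∣ i ^ N - 1) (hN0 : N ≠ 0) : (m : ℤ) ∣ i - 1 := by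
  rcases Nat.eq_zero_or_pos m with rfl | hm
  · rw [Nat.totient_zero, Nat.coprime_zero_right] at hN
    subst hN
    simpa using h
  haveI : NeZero m := ⟨hm.ne'⟩
  rw [← ZMod.intCast_zmod_eq_zero_iff_dvd, Int.cast_sub, Int.cast_one, sub_eq_zero]
  rw [← ZMod.intCast_zmod_eq_zero_iff_dvd, Int.cast_sub, Int.cast_one, sub_eq_zero, Int.cast_pow] at h
  obtain ⟨v, hv⟩ := IsUnit.of_pow_eq_one h hN0
  rw [← hv, ← Units.val_pow_eq_pow_val, Units.val_eq_one] at h
  have h1 : v = 1 := orderOf_eq_one_iff.1 (Nat.eq_one_of_dvd_coprimes hN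
    (orderOf_dvd_of_pow_eq_one h) (orderOf_dvd_of_pow_eq_one (ZMod.pow_totient v)))
  rw [← hv, h1, Units.val_one]

theorem exists_index_p {Q : Type*} [Group Q] [Finite Q] {p : ℕ} [Fact p.Prime] (hQ : IsPGroup p Q)
    (u y : Q) (hy : y ∉ zpowers u ⊔ frattini Q) : ∃ M : Subgroup Q, M.index = p ∧ u ∈ M ∧ y ∉ M := by
  obtain ⟨M, hM⟩ := (Set.toFinite {M : Subgroup Q | zpowers u ⊔ frattini Q ≤ M ∧ y ∉ M}).exists_maximal
    ⟨_, le_rfl, hy⟩
  obtain ⟨hXM, hyM⟩ := hM.prop
  haveI := hQ.isNilpotent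
  have hΦ : frattini Q ≤ M := le_sup_right.trans hXM
  haveI hMn : M.Normal := Subgroup.Normal.of_commutator_le (G := Q) (H := M) (Cfsg.Agent.Solv.commutator_le_frattini.trans hΦ)
  have hp := (Fact.out : p.Prime)
  have hyp : y ^ p ∈ M := hΦ (Cfsg.Agent.Struct.CoprimeMinimal.pow_mem_frattini hQ y)
  have hgen : ∀ z : Q ⧸ M, z ∈ zpowers (y : Q ⧸ M) := by
    intro z
    induction z using QuotientGroup.induction_on with
    | _ z =>
      by_cases hz : z ∈ M
      · rw [(QuotientGroup.eq_one_iff z).2 hz]; exact one_mem _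
      have hy' : y ∈ M ⊔ zpowers z := by
        by_contra h
        exact hz (hM.le_of_ge ⟨hXM.trans le_sup_left, h⟩ le_sup_left (mem_sup_right (mem_zpowers z)))
      rw [← SetLike.mem_coe, Subgroup.normal_mul] at hy'
      obtain ⟨m, hm, w, hw, he⟩ := hy'
      obtain ⟨i, rfl⟩ := mem_zpowers_iff.1 hw
      have he' : (y : Q ⧸ M) = (z : Q ⧸ M) ^ i := by
        rw [← he]
        simp [(QuotientGroup.eq_one_iff m).2 hm]
      have hzp : (z : Q ⧸ M) ^ (p : ℤ) = 1 := by
        rw [zpow_natCast, ← QuotientGroup.mk_pow, QuotientGroup.eq_one_iff]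
        exact hΦ (Cfsg.Agent.Struct.CoprimeMinimal.pow_mem_frattini hQ z)
      by_cases hpi : (p : ℤ) ∣ i
      · obtain ⟨k, rfl⟩ := hpi
        rw [zpow_mul, hzp, one_zpow, QuotientGroup.eq_one_iff] at he'
        exact absurd he' hyM
      · obtain ⟨a, b, hab⟩ := ((Nat.prime_iff_prime_int.1 hp).coprime_iff_not_dvd.2 hpi)
        refine mem_zpowers_iff.2 ⟨b, ?_⟩
        calc (y : Q ⧸ M) ^ b = ((z : Q ⧸ M) ^ (p : ℤ)) ^ a * (z : Q ⧸ M) ^ (i * b) := by
              rw [hzp, one_zpow, one_mul, he', ← zpow_mul]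
          _ = z := by
              rw [← zpow_mul, ← zpow_add, show (p : ℤ) * a + i * b = 1 by linarith, zpow_one]
  refine ⟨M, ?_, hXM (mem_sup_left (mem_zpowers u)), hyM⟩
  rw [index_eq_card, ← orderOf_eq_card_of_forall_mem_zpowers hgen]
  exact orderOf_eq_prime (by rw [← QuotientGroup.mk_pow, QuotientGroup.eq_one_iff]; exact hyp)
    (fun h => hyM ((QuotientGroup.eq_one_iff y).1 h))

theorem main {G : Type*} [Group G] [Finite G] {p : ℕ} [Fact p.Prime]
    (hmin : ∀ q : ℕ, q.Prime → q ∣ Nat.card G → p ≤ q) (P : Sylow p G) (D : Subgroup G)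
    (hDP : D ≤ (P : Subgroup G)) (hD1 : 1 < Nat.card D) (hD2 : Nat.card D < Nat.card (P : Subgroup G))
    (h : ∀ E : Subgroup G, E ≤ (P : Subgroup G) → (Nat.card E = Nat.card D ∨ (Nat.card D = 2 ∧ Nat.card E = 4)) →
      ∀ g : G, E.map (MulAut.conj g).toMonoidHom ⊓ Subgroup.normalizer (E : Set G) ≤ E) :
    Cfsg.HasNormalPComplement p G := by
  classical
  have hp := (Fact.out : p.Prime)
  obtain ⟨k, hk⟩ := IsPGroup.iff_card.1 (P.isPGroup'.to_le hDP)
  have hk1 : 1 ≤ k := by
    rcases k with _ | k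
    · rw [pow_zero] at hk; omega
    · omega
  set d := Nat.card D with hd
  obtain ⟨e, he⟩ := IsPGroup.iff_card.1 P.isPGroup'
  have hke : k + 1 ≤ e := by
    rw [hk, he] at hD2
    exact (Nat.pow_lt_pow_iff_right hp.one_lt).1 hD2
  have hclosed : ∀ E : Subgroup G, E ≤ (P : Subgroup G) → (Nat.card E = d ∨ (d = 2 ∧ Nat.card E = 4)) →
      ∀ x ∈ E, ∀ g : G, g * x * g⁻¹ ∈ P → g * x * g⁻¹ ∈ E := by
    intro E hEP hEd x hx g hg
    have hN : (P : Subgroup G) ≤ normalizer (E : Set G) := by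
      by_contra hn
      set N₁ := (P : Subgroup G) ⊓ normalizer (E : Set G) with hN₁
      have hlt := Cfsg.Agent.Local.lt_sylow_inf_normalizer P
        (lt_of_le_of_ne inf_le_left fun h' => hn (inf_eq_left.1 h') : N₁ < (P : Subgroup G))
      obtain ⟨a, ha, haN⟩ := SetLike.exists_of_lt hlt
      apply haN
      refine mem_inf.2 ⟨ha.1, ?_⟩
      have hle : E.map (MulAut.conj a).toMonoidHom ≤ E := by
        refine le_trans (le_inf le_rfl ?_) (h E hEP hEd a)
        rintro _ ⟨w, hw, rfl⟩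
        exact ((mem_normalizer_iff.1 ha.2 w).1 (mem_inf.2 ⟨hEP hw, le_normalizer hw⟩)).2
      have heq := eq_of_le_of_card_ge hle
        (Nat.card_congr (E.equivMapOfInjective _ (MulAut.conj a).injective).toEquiv).le
      rw [mem_normalizer_iff]
      intro w
      conv_rhs => rw [← heq]
      constructor
      · exact fun hw => ⟨w, hw, rfl⟩
      · rintro ⟨w', hw', he'⟩
        exact (MulAut.conj a).injective he' ▸ hw'
    exact h E hEP hEd g (mem_inf.2 ⟨⟨x, hx, rfl⟩, hN hg⟩)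
  have hcop : ∀ n : G, (orderOf n).Coprime p → ∀ j : ℕ, Nat.Coprime (orderOf n) (p ^ j).totient := by
    intro n hn j
    rcases j with _ | j
    · simp
    rw [Nat.totient_prime_pow_succ hp]
    refine Nat.Coprime.mul_right (hn.pow_right j) ?_
    refine Nat.coprime_of_dvd fun q hq hqn hqp => ?_
    have h1 := hmin q hq (hqn.trans (orderOf_dvd_natCard n))
    have h2 := Nat.le_of_dvd (by have := hp.two_le; omega) hqp
    have := hp.two_le
    omega
  have hord : ∀ w : G, w ∈ P → ∃ a, orderOf w = p ^ a := fun w hw => by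
    obtain ⟨a, ha⟩ := IsPGroup.iff_orderOf.1 P.isPGroup' ⟨w, hw⟩
    exact ⟨a, by rw [← ha, ← Subgroup.orderOf_coe]⟩
  -- elements generating a cyclic closed subgroup are fixed
  have hcyc : ∀ U : Subgroup G, U ≤ (P : Subgroup G) → ∀ n ∈ normalizer (U : Set G), (orderOf n).Coprime p →
      ∀ w ∈ U, (orderOf w = d ∨ (d = 2 ∧ orderOf w = 4)) → n * w * n⁻¹ = w := by
    intro U hUP n hn hnp w hw hwo
    have hwn : n * w * n⁻¹ ∈ U := (mem_normalizer_iff.1 hn w).1 hw
    obtain ⟨i, hi⟩ := mem_zpowers_iff.1 (hclosed (zpowers w) (zpowers_le.2 (hUP hw))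
      (by rwa [Nat.card_zpowers]) w (mem_zpowers w) n (hUP hwn))
    have hit : ∀ j : ℕ, n ^ j * w * (n ^ j)⁻¹ = w ^ (i ^ j) := by
      intro j
      induction j with
      | zero => simp
      | succ j ih =>
        rw [pow_succ' n, show n * n ^ j * w * (n * n ^ j)⁻¹ = n * (n ^ j * w * (n ^ j)⁻¹) * n⁻¹ by group,
          ih, ← conj_zpow, ← hi, ← zpow_mul, pow_succ']
    have h1 := hit (orderOf n)
    rw [pow_orderOf_eq_one, one_mul, inv_one, mul_one] at h1
    have h2 : (orderOf w : ℤ) ∣ i ^ orderOf n - 1 := by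
      rw [orderOf_dvd_iff_zpow_eq_one, zpow_sub, ← h1, zpow_one, mul_inv_cancel]
    obtain ⟨a, ha⟩ := hord w (hUP hw)
    have h3 := eq_one_of_units (ha ▸ hcop n hnp a) i h2 (orderOf_pos n).ne'
    rw [orderOf_dvd_iff_zpow_eq_one, zpow_sub, zpow_one, mul_inv_eq_one] at h3
    rw [← hi, h3]
  have hdp : d = p ^ k := hk
  -- fixed entirely when an element of order `d` is present
  have hfixall : ∀ U : Subgroup G, U ≤ (P : Subgroup G) → ∀ n ∈ normalizer (U : Set G), (orderOf n).Coprime p →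
      ∀ y ∈ U, orderOf y = d → ∀ u ∈ U, n * u * n⁻¹ = u := by
    intro U hUP n hn hnp y hy hyo
    have hny := hcyc U hUP n hn hnp y hy (Or.inl hyo)
    have omega_fix : ∀ S : Subgroup G, S ≤ U → n ∈ normalizer (S : Set G) →
        (∀ z ∈ S, (z ^ p = 1 ∨ (p = 2 ∧ z ^ 4 = 1)) → n * z * n⁻¹ = z) → ∀ z ∈ S, n * z * n⁻¹ = z := by
      intro S hSU hnS hsmall z hz
      set α : MulAut S := S.normalizerMonoidHom ⟨n, hnS⟩ with hα
      have hα1 : α ^ orderOf n = 1 := by
        rw [hα, ← map_pow, show (⟨n, hnS⟩ : normalizer (S : Set G)) ^ orderOf n = 1 from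
          Subtype.ext (pow_orderOf_eq_one n), map_one]
      exact congrArg Subtype.val (Cfsg.Agent.Fusion.eq_of_coprime_fix (P.isPGroup'.to_le (hSU.trans hUP)) α hα1
        (fun hd => hp.ne_one (Nat.eq_one_of_dvd_coprimes hnp hd dvd_rfl))
        (fun x hx => Subtype.ext (hsmall x x.2 (by
          rcases hx with hx | ⟨h2, hx⟩
          · exact Or.inl (congrArg Subtype.val hx)
          · exact Or.inr ⟨h2, congrArg Subtype.val hx⟩))) ⟨z, hz⟩)
    set S := U ⊓ centralizer ({y} : Set G) with hS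
    have hnS : n ∈ normalizer (S : Set G) := by
      have hc : ∀ w, w ∈ centralizer ({y} : Set G) ↔ n * w * n⁻¹ ∈ centralizer ({y} : Set G) := by
        intro w
        rw [mem_centralizer_singleton_iff, mem_centralizer_singleton_iff]
        conv_rhs => rw [← hny]
        constructor
        · intro h'
          calc n * w * n⁻¹ * (n * y * n⁻¹) = n * (w * y) * n⁻¹ := by group
            _ = n * y * n⁻¹ * (n * w * n⁻¹) := by rw [h']; group
        · intro h'
          have := congrArg (fun t => n⁻¹ * t * n) h'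
          simpa [mul_assoc] using this
      rw [mem_normalizer_iff]
      intro w
      rw [mem_inf, mem_inf, ← hc w, ← mem_normalizer_iff.1 hn w]
    have hSfix : ∀ z ∈ S, n * z * n⁻¹ = z := by
      refine omega_fix S inf_le_left hnS fun z hz hzs => ?_
      by_cases hz1 : z = 1
      · simp [hz1]
      obtain ⟨a, ha⟩ := hord z (hUP hz.1)
      by_cases hq : orderOf z = d ∨ (d = 2 ∧ orderOf z = 4)
      · exact hcyc U hUP n hn hnp z hz.1 hq
      have hak : a < k := by
        by_contra hle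
        rw [hdp, ha] at hq
        have ha' : k < a := lt_of_le_of_ne (by omega) fun h' => hq (Or.inl (by rw [h']))
        rcases hzs with hzp | ⟨h2, hz4⟩
        · have h' := orderOf_dvd_of_pow_eq_one hzp
          rw [ha] at h'
          have := Nat.pow_dvd_pow_iff_le_right hp.one_lt |>.1 (h'.trans (dvd_of_eq (pow_one p).symm))
          omega
        · subst h2
          have h' := orderOf_dvd_of_pow_eq_one hz4
          rw [ha] at h'
          have := Nat.pow_dvd_pow_iff_le_right hp.one_lt |>.1 (h'.trans (dvd_of_eq (by norm_num : (4 : ℕ) = 2 ^ 2)))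
          have hk' : k = 1 := by omega
          have ha2 : a = 2 := by omega
          subst hk'; subst ha2
          exact hq (Or.inr ⟨by norm_num, by norm_num⟩)
      have hcm : Commute y z := (mem_centralizer_singleton_iff.1 hz.2).symm
      obtain ⟨j, rfl⟩ : ∃ j, k = j + 1 := ⟨k - 1, by omega⟩
      have hzj : z ^ p ^ j = 1 := orderOf_dvd_iff_pow_eq_one.1 (ha ▸ pow_dvd_pow p (by omega : a ≤ j))
      have hyz : orderOf (y * z) = p ^ (j + 1) := by
        refine orderOf_eq_prime_pow ?_ ?_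
        · rw [hcm.mul_pow, hzj, mul_one]
          intro h'
          have := orderOf_dvd_of_pow_eq_one h'
          rw [hyo, hdp, Nat.pow_dvd_pow_iff_le_right hp.one_lt] at this
          omega
        · rw [hcm.mul_pow, show z ^ p ^ (j + 1) = 1 by rw [pow_succ, pow_mul, hzj, one_pow], mul_one, ← hdp,
            ← hyo, pow_orderOf_eq_one]
      have h' := hcyc U hUP n hn hnp (y * z) (mul_mem hy hz.1) (Or.inl (hyz.trans hdp.symm))
      rw [show n * (y * z) * n⁻¹ = (n * y * n⁻¹) * (n * z * n⁻¹) by group, hny] at h'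
      exact mul_left_cancel h'
    refine omega_fix U le_rfl hn fun z hz hzs => ?_
    set w := z⁻¹ * (n * z * n⁻¹) with hw
    have hwU : w ∈ U := mul_mem (inv_mem hz) ((mem_normalizer_iff.1 hn z).1 hz)
    have hzy : n * (z * y * z⁻¹) * n⁻¹ = z * y * z⁻¹ :=
      hcyc U hUP n hn hnp _ (mul_mem (mul_mem hz hy) (inv_mem hz))
        (Or.inl ((show orderOf (z * y * z⁻¹) = orderOf y from (MulAut.conj z).orderOf_eq y).trans hyo))
    have hwS : w ∈ S := by
      refine mem_inf.2 ⟨hwU, mem_centralizer_singleton_iff.2 ?_⟩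
      have h1 : (n * z * n⁻¹) * y * (n * z * n⁻¹)⁻¹ = z * y * z⁻¹ := by
        rw [← hzy]
        conv_lhs => rw [← hny]
        group
      calc w * y = z⁻¹ * ((n * z * n⁻¹) * y * (n * z * n⁻¹)⁻¹) * (n * z * n⁻¹) := by rw [hw]; group
        _ = y * w := by rw [h1, hw]; group
    have hit : ∀ j : ℕ, n ^ j * z * (n ^ j)⁻¹ = z * w ^ j := by
      intro j
      induction j with
      | zero => simp
      | succ j ih =>
        rw [pow_succ' n, show n * n ^ j * z * (n * n ^ j)⁻¹ = n * (n ^ j * z * (n ^ j)⁻¹) * n⁻¹ by group, ih,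
          show n * (z * w ^ j) * n⁻¹ = (n * z * n⁻¹) * (n * w ^ j * n⁻¹) by group,
          hSfix _ (pow_mem hwS j), show n * z * n⁻¹ = z * w by rw [hw]; group, mul_assoc, ← pow_succ']
    have h1 := hit (orderOf n)
    rw [pow_orderOf_eq_one, one_mul, inv_one, mul_one, left_eq_mul] at h1
    obtain ⟨a, ha⟩ := hord w (hUP hwU)
    have hw1 : orderOf w = 1 := Nat.eq_one_of_dvd_coprimes (hnp.pow_right a).symm (dvd_of_eq ha)
      (orderOf_dvd_of_pow_eq_one h1)
    rw [orderOf_eq_one_iff, hw, inv_mul_eq_one] at hw1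
    exact hw1.symm
  -- congruence modulo the Frattini subgroup
  set Φ := (frattini P).map (P : Subgroup G).subtype with hΦ
  have hΦP : Φ ≤ (P : Subgroup G) := map_subtype_le _
  haveI := P.isPGroup'.isNilpotent
  let π : ↥(P : Subgroup G) →* ↥(P : Subgroup G) ⧸ frattini P := QuotientGroup.mk' _
  have hπ : ∀ a : ↥(P : Subgroup G), π a = 1 ↔ (a : G) ∈ Φ := fun a => by
    rw [QuotientGroup.mk'_apply, QuotientGroup.eq_one_iff, hΦ, Subgroup.mem_map]
    exact ⟨fun h' => ⟨a, h', rfl⟩, fun ⟨b, hb, he'⟩ => Subtype.ext he' ▸ hb⟩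
  have hsmall : ∀ u : ↥(P : Subgroup G), orderOf (u : G) ∣ d → ∀ g : G, ∀ y : ↥(P : Subgroup G),
      (y : G) = g * u * g⁻¹ → y ∈ zpowers u ⊔ frattini P := by
    intro u hu g y hyg
    by_contra hy
    obtain ⟨M, hMi, huM, hyM⟩ := exists_index_p P.isPGroup' u y hy
    have hMc : Nat.card M * p = p ^ e := by
      have hm' := M.card_mul_index
      rwa [hMi, he] at hm'
    obtain ⟨f, rfl⟩ : ∃ f, e = f + 1 := ⟨e - 1, by omega⟩
    rw [pow_succ] at hMc
    have hMc' : Nat.card M = p ^ f := Nat.eq_of_mul_eq_mul_right hp.pos hMc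
    obtain ⟨a, ha, hae⟩ := (Nat.dvd_prime_pow hp).1 (hdp ▸ hu)
    obtain ⟨K, hKc, hKu⟩ := Sylow.exists_subgroup_card_pow_prime_le (G := M) p
      (hMc' ▸ pow_dvd_pow p (by omega : k ≤ f)) (zpowers (⟨u, huM⟩ : M))
      (by rw [Nat.card_zpowers, Subgroup.orderOf_mk, ← Subgroup.orderOf_coe, hae]) ha
    set E := (K.map M.subtype).map (P : Subgroup G).subtype with hE
    have hEc : Nat.card E = d := by
      rw [hE, card_map_of_injective Subtype.val_injective, card_map_of_injective Subtype.val_injective, hKc, hdp]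
    have hmem := hclosed E (map_subtype_le _) (Or.inl hEc) (u : G)
      ⟨u, ⟨⟨u, huM⟩, hKu (mem_zpowers _), rfl⟩, rfl⟩ g (hyg ▸ y.2)
    rw [← hyg] at hmem
    obtain ⟨b, ⟨c, hc, rfl⟩, hb⟩ := hmem
    exact hyM (Subtype.ext hb ▸ c.2)
  have hstep : ∀ U : Subgroup G, U ≤ (P : Subgroup G) → ∀ n ∈ normalizer (U : Set G), (orderOf n).Coprime p →
      ∀ u ∈ U, n * u * n⁻¹ * u⁻¹ ∈ Φ := by
    intro U hUP n hn hnp u hu
    by_cases hy : ∃ y ∈ U, orderOf y = d
    · obtain ⟨y, hy, hyo⟩ := hy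
      rw [hfixall U hUP n hn hnp y hy hyo u hu, mul_inv_cancel]
      exact one_mem _
    have hsm : ∀ v ∈ U, orderOf v ∣ d := by
      intro v hv
      obtain ⟨a, ha⟩ := hord v (hUP hv)
      rw [ha, hdp, Nat.pow_dvd_pow_iff_le_right hp.one_lt]
      by_contra hlt
      refine hy ⟨v ^ p ^ (a - k), pow_mem hv _, ?_⟩
      rw [orderOf_pow_of_dvd (pow_ne_zero _ hp.ne_zero) (ha ▸ pow_dvd_pow p (Nat.sub_le a k)), ha,
        Nat.pow_div (Nat.sub_le a k) hp.pos, hdp]
      congr 1
      omega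
    let c : U →* U :=
      { toFun := fun v => ⟨n * v * n⁻¹, (mem_normalizer_iff.1 hn v).1 v.2⟩
        map_one' := Subtype.ext (by simp)
        map_mul' := fun a b => Subtype.ext (by
          show n * ((a : G) * b) * n⁻¹ = n * a * n⁻¹ * (n * b * n⁻¹); group) }
    let ρ : U →* ↥(P : Subgroup G) ⧸ frattini P := π.comp (Subgroup.inclusion hUP)
    have hline : ∀ v : U, ∃ i : ℤ, ρ (c v) = ρ v ^ i := by
      intro v
      have h1 := hsmall (inclusion hUP v) (hsm v v.2) n (inclusion hUP (c v)) rfl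
      rw [← SetLike.mem_coe, Subgroup.mul_normal] at h1
      obtain ⟨w, hw, φ, hφ, he'⟩ := h1
      obtain ⟨i, rfl⟩ := mem_zpowers_iff.1 hw
      refine ⟨i, ?_⟩
      show π (inclusion hUP (c v)) = π (inclusion hUP v) ^ i
      rw [← he', map_mul, map_zpow, show π φ = 1 from (QuotientGroup.eq_one_iff φ).2 hφ, mul_one]
    have hker : ∀ v : U, ρ v = 1 → ρ (c v) = 1 := fun v hv => by
      obtain ⟨i, hi⟩ := hline v
      rw [hi, hv, one_zpow]
    obtain ⟨i, hi⟩ := hline ⟨u, hu⟩
    set v₀ : U := ⟨u, hu⟩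
    have hit : ∀ j : ℕ, ρ (c^[j] v₀) = ρ v₀ ^ (i ^ j) := by
      intro j
      induction j with
      | zero => simp
      | succ j ih =>
        have h1 : ρ (c (c^[j] v₀ * (v₀ ^ (i ^ j))⁻¹)) = 1 := hker _ (by
          rw [map_mul, map_inv, map_zpow, ih, mul_inv_cancel])
        rw [map_mul, map_inv, map_zpow, map_mul, map_inv, map_zpow, hi, mul_inv_eq_one] at h1
        rw [Function.iterate_succ_apply', h1, ← zpow_mul, pow_succ']
    have hc : ∀ j : ℕ, ((c^[j] v₀ : U) : G) = n ^ j * u * (n ^ j)⁻¹ := by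
      intro j
      induction j with
      | zero => simp [v₀]
      | succ j ih =>
        rw [Function.iterate_succ_apply']
        show n * ((c^[j] v₀ : U) : G) * n⁻¹ = _
        rw [ih, pow_succ']
        group
    have hN : c^[orderOf n] v₀ = v₀ := Subtype.ext (by
      rw [hc, pow_orderOf_eq_one, one_mul, inv_one, mul_one])
    have h1 := hit (orderOf n)
    rw [hN] at h1
    have h2 : (orderOf (ρ v₀) : ℤ) ∣ i ^ orderOf n - 1 := by
      rw [orderOf_dvd_iff_zpow_eq_one, zpow_sub, ← h1, zpow_one, mul_inv_cancel]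
    obtain ⟨a, -, ha⟩ := (Nat.dvd_prime_pow hp).1 (((orderOf_map_dvd ρ v₀).trans
      (dvd_of_eq (Subgroup.orderOf_mk u hu))).trans (hdp ▸ hsm u hu))
    have h3 := eq_one_of_units (ha ▸ hcop n hnp a) i h2 (orderOf_pos n).ne'
    rw [orderOf_dvd_iff_zpow_eq_one, zpow_sub, zpow_one, mul_inv_eq_one] at h3
    have h4 : ρ (c v₀ * v₀⁻¹) = 1 := by rw [map_mul, map_inv, hi, h3, mul_inv_cancel]
    exact (hπ _).1 h4
  have hΦn : ∀ a ∈ (P : Subgroup G), ∀ w ∈ Φ, a * w * a⁻¹ ∈ Φ := by
    rintro a ha _ ⟨w, hw, rfl⟩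
    exact ⟨⟨a, ha⟩ * w * ⟨a, ha⟩⁻¹, (inferInstance : (frattini P).Normal).conj_mem w hw _, rfl⟩
  have hcP : ∀ a ∈ (P : Subgroup G), ∀ b ∈ (P : Subgroup G), a * b * a⁻¹ * b⁻¹ ∈ Φ := fun a ha b hb =>
    ⟨⁅(⟨a, ha⟩ : ↥(P : Subgroup G)), ⟨b, hb⟩⁆,
      Cfsg.Agent.Solv.commutator_le_frattini (commutator_mem_commutator (mem_top _) (mem_top _)), rfl⟩
  have hglobal : ∀ x ∈ (P : Subgroup G), ∀ c : G, c * x * c⁻¹ ∈ P → c * x * c⁻¹ * x⁻¹ ∈ Φ := by
    intro x hx c hc
    refine (Cfsg.Agent.Local.PairControl.global_of_fullyNormalized P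
      (fun D c => ∀ d ∈ D, d ∈ (P : Subgroup G) ∧ c * d * c⁻¹ * d⁻¹ ∈ Φ) ?_ ?_ ?_ ?_ ?_ (zpowers x)
      (zpowers_le.2 hx) c (fun w hw => ?_) x (mem_zpowers x)).2
    · intro D c hD hfix d hd
      rw [hfix d hd, mul_inv_cancel]
      exact ⟨hD hd, one_mem _⟩
    · intro D a b hD hDa ha hb d hd
      refine ⟨hD hd, ?_⟩
      rw [show b * a * d * (b * a)⁻¹ * d⁻¹ =
        (b * (a * d * a⁻¹) * b⁻¹ * (a * d * a⁻¹)⁻¹) * (a * d * a⁻¹ * d⁻¹) by group]
      exact mul_mem (hb _ ⟨d, hd, rfl⟩).2 (ha d hd).2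
    · intro D a hD ha w hw
      obtain ⟨d, hd, rfl⟩ := hw
      have h1 : a * d * a⁻¹ * d⁻¹ ∈ Φ := (ha d hd).2
      show a * d * a⁻¹ ∈ (P : Subgroup G) ∧ a⁻¹ * (a * d * a⁻¹) * (a⁻¹)⁻¹ * (a * d * a⁻¹)⁻¹ ∈ Φ
      refine ⟨?_, ?_⟩
      · simpa using mul_mem (hΦP h1) (hD hd)
      · convert inv_mem h1 using 1
        group
    · exact fun D D' a hle ha d hd => ha d (hle hd)
    · intro U hUP _ hidx _ n hn u hu
      refine ⟨hUP hu, ?_⟩
      let NU := normalizer (U : Set G)
      let K : Subgroup NU :=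
        { carrier := {m | ∀ u ∈ U, (m : G) * u * (m : G)⁻¹ * u⁻¹ ∈ Φ}
          one_mem' := fun u _ => by simp
          mul_mem' := fun {m m'} hm hm' u hu => by
            have h1 : (m' : G) * u * (m' : G)⁻¹ ∈ U := (mem_normalizer_iff.1 m'.2 u).1 hu
            rw [Subgroup.coe_mul, show (m : G) * m' * u * ((m : G) * m')⁻¹ * u⁻¹ =
              ((m : G) * (m' * u * (m' : G)⁻¹) * (m : G)⁻¹ * ((m' : G) * u * (m' : G)⁻¹)⁻¹) *
              ((m' : G) * u * (m' : G)⁻¹ * u⁻¹) by group]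
            exact mul_mem (hm _ h1) (hm' u hu)
          inv_mem' := fun {m} hm u hu => by
            have h1 : (m : G)⁻¹ * u * m ∈ U := by
              rw [mem_normalizer_iff.1 m.2]
              convert hu using 1
              group
            have h2 := inv_mem (hm _ h1)
            convert h2 using 1
            rw [Subgroup.coe_inv]
            group }
      have hT : IsPGroup p ↥(((P : Subgroup G) ⊓ NU).subgroupOf NU) :=
        (P.isPGroup'.to_le inf_le_left : IsPGroup p ↥((P : Subgroup G) ⊓ NU)).of_equiv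
          (subgroupOfEquivOfLe inf_le_right).symm
      have htop : K = ⊤ := by
        have hidx' : ¬ p ∣ (((P : Subgroup G) ⊓ NU).subgroupOf NU).index := hidx
        have hsup : ((P : Subgroup G) ⊓ NU).subgroupOf NU ⊔ pResidual p NU = ⊤ :=
          Cfsg.Agent.Solv.sup_pResidual_eq_top (hT.toSylow hidx')
        rw [eq_top_iff, ← hsup]
        refine sup_le ?_ ?_
        · intro m hm u hu
          rw [mem_subgroupOf] at hm
          exact hcP _ hm.1 u (hUP hu)
        · rw [pResidual, closure_le]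
          intro m hm
          exact hstep U hUP m m.2 (by rwa [Subgroup.orderOf_coe])
      exact (htop ▸ mem_top (⟨n, hn⟩ : NU) : (⟨n, hn⟩ : NU) ∈ K) u hu
    · obtain ⟨i, rfl⟩ := mem_zpowers_iff.1 hw
      rw [← conj_zpow]
      exact zpow_mem hc i
  have hfoc : (P : Subgroup G).focalSubgroup ≤ Φ := by
    rw [focalSubgroup_def, closure_le]
    rintro _ ⟨hg, x, hx, u, rfl⟩
    have h1 : u * x⁻¹ * u⁻¹ ∈ (P : Subgroup G) := by
      have := mul_mem (inv_mem hx) hg
      simpa [commutatorElement_def, mul_assoc] using this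
    have h2 := hΦn x hx _ (hglobal x⁻¹ (inv_mem hx) u h1)
    rw [SetLike.mem_coe, commutatorElement_def]
    convert h2 using 1
    group
  haveI := Cfsg.Agent.Solv.pResidual_characteristic p G
  haveI : (pResidual p G).Normal := inferInstance
  obtain ⟨r, hr⟩ := Cfsg.Agent.Solv.hasNormalPComplement_iff_index.1
    (Cfsg.Agent.Solv.hasNormalPComplement_of_le_frattini P (pResidual p G)
      ((inf_comm _ _).trans_le ((Cfsg.Agent.Solv.inf_pResidual_le_focal P).trans hfoc)))
  have h1 := Cfsg.Agent.Solv.pResidual_le_of_index _ ⟨r, hr⟩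
  rw [Cfsg.Agent.Solv.pResidual_eq_top_of_map, top_le_iff] at h1
  refine Cfsg.Agent.Solv.hasNormalPComplement_of_normal (pResidual p G) ?_ Cfsg.Agent.Solv.exists_pResidual_index
  have h2 := Cfsg.Agent.Solv.card_pPrimeCore_coprime p ↥(pResidual p G)
  rw [h1, card_top] at h2
  exact h2


/-- Let G be a finite group, p the smallest prime dividing |G| and P a Sylow p-subgroup. Suppose that P is cyclic, or that P has a subgroup D with 1 < |D| < |P| such that every subgroup E of P of order |D|, and also every subgroup E of P of order 4 when |D| = 2, satisfies g E g⁻¹ ∩ N_G(E) ≤ E for all g ∈ G (E is strongly closed in its normalizer with respect to G). Then G has a normal p-complement. -/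
theorem result {G : Type*} [Group G] [Finite G] {p : ℕ} [Fact p.Prime] (hdiv : p ∣ Nat.card G)
    (hmin : ∀ q : ℕ, q.Prime → q ∣ Nat.card G → p ≤ q) (P : Sylow p G)
    (h : IsCyclic ↥(P : Subgroup G) ∨ ∃ D : Subgroup G, D ≤ (P : Subgroup G) ∧ 1 < Nat.card D ∧ Nat.card D < Nat.card (P : Subgroup G) ∧
      ∀ E : Subgroup G, E ≤ (P : Subgroup G) → (Nat.card E = Nat.card D ∨ (Nat.card D = 2 ∧ Nat.card E = 4)) →
        ∀ g : G, E.map (MulAut.conj g).toMonoidHom ⊓ Subgroup.normalizer (E : Set G) ≤ E) :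
    Cfsg.HasNormalPComplement p G := by
  skip
  classical
  rcases h with hc | ⟨D, hDP, hD1, hD2, hE⟩
  · have hne1 : Nat.card G ≠ 1 := fun h => (Fact.out : p.Prime).ne_one (Nat.dvd_one.1 (h ▸ hdiv))
    have hp : (Nat.card G).minFac = p := le_antisymm
      (Nat.minFac_le_of_dvd (Fact.out : p.Prime).two_le hdiv)
      (hmin _ (Nat.minFac_prime hne1) (Nat.minFac_dvd _))
    exact Cfsg.Agent.Solv.hasNormalPComplement_of_burnside P (hc.normalizer_le_centralizer hp)
  · exact main hmin P D hDP hD1 hD2 hE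

end Cfsg.Agent.S3031
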