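import Cfsg.Statements.S3032
import Cfsg.Agent.Lib.Local.ClosedSubgroups
import Cfsg.Agent.Lib.Solv.Supersolvable
import Mathlib.NumberTheory.Basic
-- import your own Cfsg.Agent.* helpers here

set_option autoImplicit false
open Cfsg

namespace Cfsg.Agent.S3032

open Subgroup Cfsg Cfsg.Agent.Local.ClosedSubgroups
open scoped commutatorElement

universe u

theorem closed_of_hyp {G : Type*} [Group G] [Finite G] {p : ℕ} [Fact p.Prime] {P F : Subgroup G} (hP : IsPGroup p P)
    (hFP : F ≤ P) (h : ∀ g : G, F.map (MulAut.conj g).toMonoidHom ⊓ normalizer (F : Set G) ≤ F) :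
    ∀ x ∈ F, ∀ g : G, g * x * g⁻¹ ∈ P → g * x * g⁻¹ ∈ F := by
  intro x hx g hg
  have hN : P ≤ normalizer (F : Set G) := by
    by_contra hn
    set N₁ := P ⊓ normalizer (F : Set G) with hN₁
    haveI := hP.isNilpotent
    have hlt : N₁.subgroupOf P < ⊤ := lt_top_iff_ne_top.2 fun h' => hn fun a ha => (subgroupOf_eq_top.1 h' ha).2
    obtain ⟨⟨a, haP⟩, ha, haN⟩ := SetLike.exists_of_lt (Group.normalizerCondition_of_isNilpotent _ hlt)
    apply haN
    rw [mem_subgroupOf]
    refine mem_inf.2 ⟨haP, ?_⟩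
    have hle : F.map (MulAut.conj a).toMonoidHom ≤ F := by
      refine le_trans (le_inf le_rfl ?_) (h a)
      rintro _ ⟨w, hw, rfl⟩
      exact ((mem_normalizer_iff.1 ha ⟨w, hFP hw⟩).1 (mem_subgroupOf.2 (mem_inf.2 ⟨hFP hw, le_normalizer hw⟩))).2
    have heq := eq_of_le_of_card_ge hle
      (Nat.card_congr (F.equivMapOfInjective _ (MulAut.conj a).injective).toEquiv).le
    show a ∈ normalizer (F : Set G)
    rw [mem_normalizer_iff]
    intro w
    conv_rhs => rw [← heq]
    constructor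
    · exact fun hw => ⟨w, hw, rfl⟩
    · rintro ⟨w', hw', he⟩
      exact (MulAut.conj a).injective he ▸ hw'
  exact h g (mem_inf.2 ⟨⟨x, hx, rfl⟩, hN hg⟩)

/-- chief factors of `Q` are cyclic -/
theorem ss_of_action {p : ℕ} [Fact p.Prime] : ∀ (m : ℕ) (G : Type u) [Group G] [Finite G], Nat.card G ≤ m →
    ∀ (Q C : Subgroup G) [Q.Normal], C.Normal → IsPGroup p Q → Cfsg.IsSupersolvable (G ⧸ Q) →
      (∀ c ∈ C, (orderOf c).Coprime p → ∀ x ∈ Q, c * x * c⁻¹ = x) →
      (∀ g h : G, ⁅g, h⁆ ∈ C) → (∀ g : G, g ^ (p - 1) ∈ C) → Cfsg.IsSupersolvable G := by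
  intro m
  induction m with
  | zero => intro G _ _ h; exact absurd h (not_le.2 Nat.card_pos)
  | succ m ih =>
    intro G _ _ hm Q C _ hC hQ hGQ hcop hcomm hpow
    classical
    by_cases hQ1 : Q = ⊥
    · subst hQ1
      exact Cfsg.Agent.Solv.isSupersolvable_of_surjective (QuotientGroup.quotientBot (G := G)).toMonoidHom
        (MulEquiv.surjective _) hGQ
    obtain ⟨N, hN⟩ := (Set.toFinite {N : Subgroup G | N.Normal ∧ N ≠ ⊥ ∧ N ≤ Q}).exists_minimal ⟨Q, ‹_›, hQ1, le_rfl⟩
    obtain ⟨hNn, hN1, hNQ⟩ := hN.prop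
    have hNp : IsPGroup p N := hQ.to_le hNQ
    have hp := (Fact.out : p.Prime)
    obtain ⟨S⟩ := Sylow.nonempty (p := p) (G := C)
    set S' := (S : Subgroup C).map C.subtype with hS'
    haveI : Nontrivial N := (nontrivial_iff_ne_bot _).2 hN1
    have hSp : IsPGroup p ↥(S' ⊔ N) :=
      IsPGroup.to_sup_of_normal_right (S.isPGroup'.map C.subtype) hNp
    -- a fixed point of `C`
    obtain ⟨z, hzN, hz1, hzp, hzS, hzc⟩ : ∃ z ∈ N, z ≠ 1 ∧ z ^ p = 1 ∧ (∀ s ∈ S', s * z * s⁻¹ = z) ∧
        (∀ x ∈ N, x * z * x⁻¹ = z) := by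
      haveI : (N.subgroupOf (S' ⊔ N)).Normal := hNn.subgroupOf _
      haveI : Nontrivial ↥(N.subgroupOf (S' ⊔ N)) :=
        (subgroupOfEquivOfLe (le_sup_right : N ≤ S' ⊔ N)).toEquiv.nontrivial
      haveI := hSp.isNilpotent
      have hne : N.subgroupOf (S' ⊔ N) ⊓ center ↥(S' ⊔ N) ≠ ⊥ :=
        Cfsg.Agent.Solv.inf_center_ne_bot _ ((nontrivial_iff_ne_bot _).1 inferInstance)
      obtain ⟨w, hw⟩ := ((N.subgroupOf (S' ⊔ N) ⊓ center ↥(S' ⊔ N)).ne_bot_iff_exists_ne_one.1 hne)
      obtain ⟨a, ha⟩ := IsPGroup.iff_orderOf.1 hSp (w : ↥(S' ⊔ N))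
      rcases a with _ | a
      · rw [pow_zero, orderOf_eq_one_iff] at ha
        exact absurd (Subtype.ext ha) hw
      set v : ↥(S' ⊔ N) := (w : ↥(S' ⊔ N)) ^ p ^ a with hv
      have hvm : v ∈ N.subgroupOf (S' ⊔ N) ⊓ center ↥(S' ⊔ N) := pow_mem w.2 _
      refine ⟨v, hvm.1, ?_, ?_, fun s hs => ?_, fun s hs => ?_⟩
      · intro h
        have h' : v = 1 := Subtype.ext h
        have := Nat.le_of_dvd (pow_pos hp.pos a) (orderOf_dvd_of_pow_eq_one h')
        rw [ha, pow_succ] at this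
        nlinarith [hp.two_le, pow_pos hp.pos a]
      · have h' : v ^ p = 1 := by rw [hv, ← pow_mul, ← pow_succ, ← ha, pow_orderOf_eq_one]
        exact congrArg Subtype.val h'
      · rw [mul_inv_eq_iff_eq_mul]
        exact congrArg Subtype.val (mem_center_iff.1 hvm.2 ⟨s, mem_sup_left hs⟩)
      · rw [mul_inv_eq_iff_eq_mul]
        exact congrArg Subtype.val (mem_center_iff.1 hvm.2 ⟨s, mem_sup_right hs⟩)
    have hzC : ∀ c ∈ C, c * z * c⁻¹ = z := by
      have hK : (⊤ : Subgroup C) ≤ (centralizer ({z} : Set G)).subgroupOf C := by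
        rw [← Cfsg.Agent.Solv.sup_pResidual_eq_top S]
        refine sup_le ?_ ?_
        · intro s hs
          rw [mem_subgroupOf, mem_centralizer_singleton_iff]
          exact mul_inv_eq_iff_eq_mul.1 (hzS s ⟨s, hs, rfl⟩)
        · rw [pResidual, closure_le]
          intro c hc
          rw [SetLike.mem_coe, mem_subgroupOf, mem_centralizer_singleton_iff]
          exact mul_inv_eq_iff_eq_mul.1 (hcop c c.2 (by rwa [Subgroup.orderOf_coe]) z (hNQ hzN))
      intro c hc
      exact mul_inv_eq_iff_eq_mul.2 (mem_centralizer_singleton_iff.1 (hK (mem_top (⟨c, hc⟩ : C))))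
    let N₁ : Subgroup G :=
      { carrier := {x | x ∈ N ∧ x ^ p = 1 ∧ (∀ y ∈ N, y * x * y⁻¹ = x) ∧ ∀ c ∈ C, c * x * c⁻¹ = x}
        one_mem' := ⟨one_mem _, one_pow _, fun y _ => by group, fun y _ => by group⟩
        mul_mem' := fun {a b} ha hb => ⟨mul_mem ha.1 hb.1, by
          rw [(show Commute a b from mul_inv_eq_iff_eq_mul.1 (hb.2.2.1 a ha.1)).mul_pow, ha.2.1, hb.2.1, one_mul],
          fun y hy => by rw [← conj_mul, ha.2.2.1 y hy, hb.2.2.1 y hy],
          fun y hy => by rw [← conj_mul, ha.2.2.2 y hy, hb.2.2.2 y hy]⟩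
        inv_mem' := fun {a} ha => ⟨inv_mem ha.1, by rw [inv_pow, ha.2.1, inv_one],
          fun y hy => by rw [← conj_inv, ha.2.2.1 y hy], fun y hy => by rw [← conj_inv, ha.2.2.2 y hy]⟩ }
    have hN₁n : N₁.Normal := ⟨fun x hx g => ⟨hNn.conj_mem x hx.1 g, by rw [conj_pow, hx.2.1]; group,
      fun y hy => by
        have h1 := hx.2.2.1 (g⁻¹ * y * g) (by simpa using hNn.conj_mem y hy g⁻¹)
        conv_rhs => rw [← h1]
        group,
      fun y hy => by
        have h1 := hx.2.2.2 (g⁻¹ * y * g) (by simpa using hC.conj_mem y hy g⁻¹)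
        conv_rhs => rw [← h1]
        group⟩⟩
    have hN₁ : N₁ = N := hN.eq_of_le ⟨hN₁n, fun h => hz1 (mem_bot.1 (h ▸ (⟨hzN, hzp, hzc, hzC⟩ : z ∈ N₁))),
      fun x hx => hNQ hx.1⟩ (fun x hx => hx.1)
    have hNall : ∀ x ∈ N, x ^ p = 1 ∧ (∀ y ∈ N, y * x * y⁻¹ = x) ∧ ∀ c ∈ C, c * x * c⁻¹ = x :=
      fun x hx => ((SetLike.ext_iff.1 hN₁ x).2 hx).2
    have hab : IsMulCommutative N := ⟨⟨fun a b => Subtype.ext (mul_inv_eq_iff_eq_mul.1 ((hNall b b.2).2.1 a a.2))⟩⟩
    have hscal : ∀ g : G, ∃ i : ℕ, ∀ x ∈ N, g * x * g⁻¹ = x ^ i := by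
      intro g
      obtain ⟨w, hw, hw1, i, hi⟩ := Cfsg.Agent.Solv.exists_conj_eq_pow N hN1 hab (fun x hx => (hNall x hx).1)
        (fun x hx => hNn.conj_mem x hx g) (fun x hx => (hNall x hx).2.2 _ (hpow g))
      refine ⟨i, ?_⟩
      let E : Subgroup G :=
        { carrier := {x | x ∈ N ∧ g * x * g⁻¹ = x ^ i}
          one_mem' := ⟨one_mem _, by simp⟩
          mul_mem' := fun {a b} ha hb => ⟨mul_mem ha.1 hb.1, by
            rw [(show Commute a b from mul_inv_eq_iff_eq_mul.1 ((hNall b hb.1).2.1 a ha.1)).mul_pow, ← conj_mul,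
              ha.2, hb.2]⟩
          inv_mem' := fun {a} ha => ⟨inv_mem ha.1, by rw [← conj_inv, ha.2, inv_pow]⟩ }
      have hEn : E.Normal := ⟨fun x hx k => ⟨hNn.conj_mem x hx.1 k, by
        rw [conj_pow]
        have h1 := (hNall _ (hNn.conj_mem x hx.1 g)).2.2 _ (hcomm k⁻¹ g)
        rw [commutatorElement_def, inv_inv] at h1
        calc g * (k * x * k⁻¹) * g⁻¹ = k * (k⁻¹ * g * k * g⁻¹ * (g * x * g⁻¹) * (k⁻¹ * g * k * g⁻¹)⁻¹) * k⁻¹ := by group
          _ = k * x ^ i * k⁻¹ := by rw [h1, hx.2]⟩⟩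
      have hE : E = N := hN.eq_of_le ⟨hEn, fun h => hw1 (mem_bot.1 (h ▸ (⟨hw, hi⟩ : w ∈ E))),
        fun x hx => hNQ hx.1⟩ (fun x hx => hx.1)
      exact fun x hx => ((SetLike.ext_iff.1 hE x).2 hx).2
    have hzn : (zpowers z).Normal := ⟨fun x hx g => by
      obtain ⟨j, rfl⟩ := mem_zpowers_iff.1 hx
      obtain ⟨i, hi⟩ := hscal g
      rw [← conj_zpow, hi z hzN]
      exact zpow_mem (pow_mem (mem_zpowers z) i) j⟩
    have hNz : zpowers z = N := hN.eq_of_le ⟨hzn, fun h => hz1 (zpowers_eq_bot.1 h), zpowers_le.2 (hNQ hzN)⟩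
      (zpowers_le.2 hzN)
    have hNc : (Nat.card N).Prime := by
      rw [← hNz, Nat.card_zpowers, orderOf_eq_prime hzp hz1]; exact hp
    set f := QuotientGroup.mk' N
    have hf : Function.Surjective f := QuotientGroup.mk'_surjective N
    haveI : (Q.map f).Normal := Normal.map inferInstance f hf
    refine Cfsg.Agent.Solv.isSupersolvable_of_prime_normal N hNc (ih (G ⧸ N)
      (by have := Cfsg.Agent.Solv.card_quotient_lt hN1; omega) (Q.map f) (C.map f) (hC.map f hf) (hQ.map f) ?_ ?_ ?_ ?_)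
    · exact Cfsg.Agent.Solv.isSupersolvable_of_surjective
        (QuotientGroup.quotientQuotientEquivQuotient N Q hNQ).symm.toMonoidHom (MulEquiv.surjective _) hGQ
    · rintro _ ⟨c, hc, rfl⟩ hco _ ⟨x, hx, rfl⟩
      obtain ⟨a, m', hm', hcm⟩ := Nat.exists_eq_pow_mul_and_not_dvd (orderOf_pos c).ne' p hp.ne_one
      have h1 : f c ^ (p ^ a) * f x * (f c ^ (p ^ a))⁻¹ = f x := by
        rw [← map_pow, ← map_inv, ← map_mul, ← map_mul, hcop _ (pow_mem hc _) ?_ x hx]
        refine Nat.Coprime.coprime_dvd_left (orderOf_dvd_of_pow_eq_one ?_) ((hp.coprime_iff_not_dvd.2 hm').symm)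
        rw [← pow_mul, ← hcm, pow_orderOf_eq_one]
      obtain ⟨b, hb⟩ := exists_pow_eq_self_of_coprime (x := f c) (n := p ^ a) (hco.pow_right a).symm
      have h2 : Commute (f c ^ (p ^ a)) (f x) := mul_inv_eq_iff_eq_mul.1 h1
      have h3 := h2.pow_left b
      rw [hb] at h3
      exact mul_inv_eq_iff_eq_mul.2 h3
    · intro g h
      obtain ⟨g, rfl⟩ := hf g
      obtain ⟨h, rfl⟩ := hf h
      exact ⟨_, hcomm g h, map_commutatorElement f g h⟩
    · intro g
      obtain ⟨g, rfl⟩ := hf g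
      exact ⟨_, hpow g, map_pow f g _⟩

/-- lines give a subgroup containing commutators and `(p-1)`-th powers -/
theorem centralizer_line {G : Type*} [Group G] {p : ℕ} [Fact p.Prime] {y : G} (hy : y ^ p = 1)
    (hn : (zpowers y).Normal) :
    (∀ g h : G, ⁅g, h⁆ * y * ⁅g, h⁆⁻¹ = y) ∧ ∀ g : G, g ^ (p - 1) * y * (g ^ (p - 1))⁻¹ = y := by
  have hp := (Fact.out : p.Prime)
  by_cases hy1 : y = 1
  · subst hy1
    exact ⟨fun g h => by group, fun g => by group⟩
  have ho : orderOf y = p := orderOf_eq_prime hy hy1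
  have hex : ∀ g : G, ∃ i : ℤ, y ^ i = g * y * g⁻¹ := fun g => mem_zpowers_iff.1 (hn.conj_mem y (mem_zpowers y) g)
  choose χ hχ using hex
  have hconj : ∀ g (j : ℤ), g * y ^ j * g⁻¹ = y ^ (χ g * j) := fun g j => by
    rw [← conj_zpow, ← hχ g, ← zpow_mul]
  refine ⟨fun g h => ?_, fun g => ?_⟩
  · have e : g * h * y * (g * h)⁻¹ = h * g * y * (h * g)⁻¹ := by
      calc g * h * y * (g * h)⁻¹ = g * (h * y * h⁻¹) * g⁻¹ := by group
        _ = h * (g * y * g⁻¹) * h⁻¹ := by rw [← hχ h, ← hχ g, hconj, hconj, mul_comm]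
        _ = h * g * y * (h * g)⁻¹ := by group
    rw [commutatorElement_def]
    have e' : g * h * g⁻¹ * h⁻¹ * (h * g * y * (h * g)⁻¹) * (g * h * g⁻¹ * h⁻¹)⁻¹ =
        g * h * y * (g * h)⁻¹ := by group
    rw [e] at e'
    -- move from the conjugate back to `y`
    obtain ⟨j, hj⟩ : ∃ j : ℤ, h * g * (y ^ j) * (h * g)⁻¹ = y := by
      refine mem_zpowers_iff.1 (hn.conj_mem y (mem_zpowers y) (h * g)⁻¹) |>.imp fun j hj => ?_
      rw [hj]; group
    have := congrArg (fun t => t ^ j) e'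
    simp only [conj_zpow] at this
    rwa [hj] at this
  · have hit : ∀ k : ℕ, g ^ k * y * (g ^ k)⁻¹ = y ^ (χ g ^ k) := by
      intro k
      induction k with
      | zero => simp
      | succ k ih =>
        rw [pow_succ' g, show g * g ^ k * y * (g * g ^ k)⁻¹ = g * (g ^ k * y * (g ^ k)⁻¹) * g⁻¹ by group, ih,
          hconj, pow_succ']
    rw [hit]
    have hne : ((χ g : ℤ) : ZMod p) ≠ 0 := by
      intro h0
      obtain ⟨t, ht⟩ := (ZMod.intCast_zmod_eq_zero_iff_dvd _ _).1 h0
      have h1 := hχ g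
      rw [ht, zpow_mul, zpow_natCast, hy, one_zpow, eq_comm, mul_inv_eq_one, mul_eq_left] at h1
      exact hy1 h1
    have h1 : ((χ g ^ (p - 1) - 1 : ℤ) : ZMod p) = 0 := by
      push_cast
      rw [ZMod.pow_card_sub_one_eq_one hne, sub_self]
    rw [ZMod.intCast_zmod_eq_zero_iff_dvd, ← ho, orderOf_dvd_iff_zpow_eq_one, zpow_sub, zpow_one,
      mul_inv_eq_one, ho] at h1
    exact h1

theorem lines_ss {G : Type u} [Group G] [Finite G] {p : ℕ} [Fact p.Prime] (Q : Subgroup G) [Q.Normal]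
    (hQ : IsPGroup p Q) (hGQ : Cfsg.IsSupersolvable (G ⧸ Q)) {k : ℕ} (hk1 : 1 ≤ k) (hkQ : p ^ k < Nat.card Q)
    (hnorm : ∀ F : Subgroup G, F ≤ Q → (Nat.card F = p ^ k ∨ (p ^ k = 2 ∧ Nat.card F = 4)) → F.Normal) :
    Cfsg.IsSupersolvable G := by
  classical
  have hp := (Fact.out : p.Prime)
  have hord : ∀ w : G, w ∈ Q → ∃ a, orderOf w = p ^ a := fun w hw => by
    obtain ⟨a, ha⟩ := IsPGroup.iff_orderOf.1 hQ ⟨w, hw⟩
    exact ⟨a, by rw [← ha, ← Subgroup.orderOf_coe]⟩
  -- line data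
  suffices ∃ (S : Set G) (N : G → Subgroup G) (hN : ∀ x, (N x).Normal),
      (∀ x ∈ S, x ^ p ∈ N x ∧ ∀ g : G, ∃ i : ℤ, (g * x * g⁻¹)⁻¹ * x ^ i ∈ N x) ∧
      (∀ c : G, (orderOf c).Coprime p → (∀ x ∈ S, (c * x * c⁻¹)⁻¹ * x ∈ N x) → ∀ x ∈ Q, c * x * c⁻¹ = x) by
    obtain ⟨S, N, hN, hline, hfix⟩ := this
    haveI := hN
    let C : Subgroup G := ⨅ x ∈ S, (centralizer ({(QuotientGroup.mk' (N x) x)} : Set (G ⧸ N x))).comap (QuotientGroup.mk' (N x))
    have hmem : ∀ c : G, c ∈ C ↔ ∀ x ∈ S, (c * x * c⁻¹)⁻¹ * x ∈ N x := fun c => by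
      simp only [C, mem_iInf, mem_comap, mem_centralizer_singleton_iff]
      refine forall₂_congr fun x _ => ?_
      rw [← QuotientGroup.eq, ← mul_inv_eq_iff_eq_mul]
      simp only [QuotientGroup.mk'_apply, QuotientGroup.mk_mul, QuotientGroup.mk_inv]
    have hcl : ∀ x ∈ S, (zpowers (QuotientGroup.mk' (N x) x)).Normal ∧ (QuotientGroup.mk' (N x) x) ^ p = 1 := by
      intro x hx
      obtain ⟨h1, h2⟩ := hline x hx
      refine ⟨⟨fun w hw g => ?_⟩, by rw [← map_pow]; exact (QuotientGroup.eq_one_iff _).2 h1⟩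
      obtain ⟨j, rfl⟩ := mem_zpowers_iff.1 hw
      obtain ⟨g, rfl⟩ := QuotientGroup.mk'_surjective (N x) g
      obtain ⟨i, hi⟩ := h2 g
      rw [← QuotientGroup.eq] at hi
      rw [← conj_zpow, show QuotientGroup.mk' (N x) g * QuotientGroup.mk' (N x) x * (QuotientGroup.mk' (N x) g)⁻¹ =
        (QuotientGroup.mk' (N x) x) ^ i from hi]
      exact zpow_mem (zpow_mem (mem_zpowers _) i) j
    have hcomm : ∀ g h : G, ⁅g, h⁆ ∈ C := fun g h => by
      simp only [C, mem_iInf, mem_comap, mem_centralizer_singleton_iff]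
      intro x hx
      rw [map_commutatorElement, ← mul_inv_eq_iff_eq_mul]
      exact (centralizer_line (hcl x hx).2 (hcl x hx).1).1 _ _
    have hpow : ∀ g : G, g ^ (p - 1) ∈ C := fun g => by
      simp only [C, mem_iInf, mem_comap, mem_centralizer_singleton_iff]
      intro x hx
      rw [map_pow, ← mul_inv_eq_iff_eq_mul]
      exact (centralizer_line (hcl x hx).2 (hcl x hx).1).2 _
    exact ss_of_action (Nat.card G) G le_rfl Q C
      (Subgroup.Normal.of_commutator_le (G := G) (H := C) (by rw [_root_.commutator_def, Subgroup.commutator_le]; exact fun a _ b _ => hcomm a b))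
      hQ hGQ (fun c hc hco => hfix c hco ((hmem c).1 hc)) hcomm hpow
  by_cases hy : ∃ y ∈ Q, orderOf y = p ^ k
  · obtain ⟨y, hy, hyo⟩ := hy
    set S : Set G := {w | w ∈ Q ∧ (orderOf w = p ^ k ∨ (p ^ k = 2 ∧ orderOf w = 4))} with hS
    refine ⟨S, fun x => if hx : x ∈ S then zpowers (x ^ p) else ⊥, fun x => ?_, fun x hx => ?_, fun c hco hc => ?_⟩
    · dsimp only
      split_ifs with hx
      · exact Cfsg.Agent.Solv.normal_zpowers_pow (hnorm _ (zpowers_le.2 hx.1) (by rw [Nat.card_zpowers]; exact hx.2)) p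
      · infer_instance
    · dsimp only
      rw [dif_pos hx]
      refine ⟨mem_zpowers _, fun g => ?_⟩
      obtain ⟨i, hi⟩ := mem_zpowers_iff.1
        ((hnorm _ (zpowers_le.2 hx.1) (by rw [Nat.card_zpowers]; exact hx.2)).conj_mem x (mem_zpowers x) g)
      exact ⟨i, by rw [← hi, inv_mul_cancel]; exact one_mem _⟩
    · refine fix_all hQ hk1 (mem_normalizer_iff.2 fun w => ⟨fun hw => Subgroup.Normal.conj_mem ‹_› w hw c,
        fun hw => by simpa [mul_assoc] using Subgroup.Normal.conj_mem ‹Q.Normal› _ hw c⁻¹⟩) hco (fun w hw hwo => ?_) hy hyo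
      have hwS : w ∈ S := ⟨hw, hwo⟩
      have h1 := hc w hwS
      dsimp only at h1
      rw [dif_pos hwS] at h1
      obtain ⟨j, hj⟩ := mem_zpowers_iff.1 h1
      have hcw : c * w * c⁻¹ = w ^ (1 - (p : ℤ) * j) := by
        rw [zpow_sub, zpow_one, zpow_mul, zpow_natCast, hj]; group
      set i : ℤ := 1 - (p : ℤ) * j
      have hit : ∀ n : ℕ, c ^ n * w * (c ^ n)⁻¹ = w ^ (i ^ n) := by
        intro n
        induction n with
        | zero => simp
        | succ n ih =>
          rw [pow_succ' c, show c * c ^ n * w * (c * c ^ n)⁻¹ = c * (c ^ n * w * (c ^ n)⁻¹) * c⁻¹ by group, ih,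
            ← conj_zpow, hcw, ← zpow_mul, pow_succ']
      have h2 := hit (orderOf c)
      rw [pow_orderOf_eq_one, one_mul, inv_one, mul_one] at h2
      obtain ⟨a, ha⟩ := hord w hw
      have h3 : ((p ^ a : ℕ) : ℤ) ∣ i ^ orderOf c - 1 := by
        rw [← ha, orderOf_dvd_iff_zpow_eq_one, zpow_sub, ← h2, zpow_one, mul_inv_cancel]
      have h4 : ((p ^ a : ℕ) : ℤ) ∣ i ^ p ^ a - 1 := by
        have h5 := dvd_sub_pow_of_dvd_sub (R := ℤ) (p := p) (a := i) (b := 1) ⟨-j, by simp [i]⟩ a
        rw [one_pow] at h5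
        exact (dvd_of_eq (by push_cast; rfl)).trans ((pow_dvd_pow (p : ℤ) a.le_succ).trans h5)
      have h6 : ((i : ℤ) : ZMod (p ^ a)) = 1 := by
        haveI : NeZero (p ^ a) := ⟨pow_ne_zero _ hp.ne_zero⟩
        have e1 : ((i : ℤ) : ZMod (p ^ a)) ^ orderOf c = 1 := by
          rw [← sub_eq_zero, ← Int.cast_pow, ← Int.cast_one, ← Int.cast_sub, ZMod.intCast_zmod_eq_zero_iff_dvd]
          exact h3
        have e2 : ((i : ℤ) : ZMod (p ^ a)) ^ p ^ a = 1 := by
          rw [← sub_eq_zero, ← Int.cast_pow, ← Int.cast_one, ← Int.cast_sub, ZMod.intCast_zmod_eq_zero_iff_dvd]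
          exact h4
        exact orderOf_eq_one_iff.1 (Nat.eq_one_of_dvd_coprimes (hco.pow_right a)
          (orderOf_dvd_of_pow_eq_one e1) (orderOf_dvd_of_pow_eq_one e2))
      rw [← sub_eq_zero, ← Int.cast_one, ← Int.cast_sub, ZMod.intCast_zmod_eq_zero_iff_dvd, ← ha,
        orderOf_dvd_iff_zpow_eq_one, zpow_sub, zpow_one, mul_inv_eq_one] at h6
      rw [hcw, h6]
  · set Φ := (frattini Q).map Q.subtype with hΦ
    haveI hΦn : Φ.Normal := by
      haveI := frattini_characteristic (G := Q)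
      infer_instance
    refine ⟨(Q : Set G), fun _ => Φ, fun _ => hΦn, fun x hx => ⟨?_, fun g => ?_⟩, fun c hco hc x hx => ?_⟩
    · exact ⟨(⟨x, hx⟩ : Q) ^ p, Cfsg.Agent.Struct.CoprimeMinimal.pow_mem_frattini hQ _, rfl⟩
    · obtain ⟨a, ha⟩ := hord x hx
      have hak : a ≤ k := by
        by_contra hlt
        refine hy ⟨x ^ p ^ (a - k), pow_mem hx _, ?_⟩
        rw [orderOf_pow_of_dvd (pow_ne_zero _ hp.ne_zero) (ha ▸ pow_dvd_pow p (Nat.sub_le a k)), ha,
          Nat.pow_div (Nat.sub_le a k) hp.pos]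
        congr 1
        omega
      let u : Q := ⟨x, hx⟩
      let v : Q := ⟨g * x * g⁻¹, Subgroup.Normal.conj_mem ‹_› x hx g⟩
      have hvu : v ∈ zpowers u ⊔ frattini Q := by
        by_contra hv
        obtain ⟨M, hMi, huM, hvM⟩ := exists_index_p hQ u v hv
        obtain ⟨e, he⟩ := IsPGroup.iff_card.1 hQ
        have hMc := M.card_mul_index
        rw [hMi, he] at hMc
        have hke : k < e := (Nat.pow_lt_pow_iff_right hp.one_lt).1 (he ▸ hkQ)
        obtain ⟨f, rfl⟩ : ∃ f, e = f + 1 := ⟨e - 1, by omega⟩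
        rw [pow_succ] at hMc
        have hMc' : Nat.card M = p ^ f := Nat.eq_of_mul_eq_mul_right hp.pos hMc
        obtain ⟨K, hKc, hKu⟩ := Sylow.exists_subgroup_card_pow_prime_le (G := M) p
          (hMc' ▸ pow_dvd_pow p (by omega : k ≤ f)) (zpowers (⟨u, huM⟩ : M))
          (by rw [Nat.card_zpowers, Subgroup.orderOf_mk, ← Subgroup.orderOf_coe]; exact ha) hak
        set E := (K.map M.subtype).map Q.subtype with hE
        have hEc : Nat.card E = p ^ k := by
          rw [hE, card_map_of_injective Subtype.val_injective, card_map_of_injective Subtype.val_injective, hKc]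
        have hmem := (hnorm E (map_subtype_le _) (Or.inl hEc)).conj_mem x
          ⟨u, ⟨⟨u, huM⟩, hKu (mem_zpowers _), rfl⟩, rfl⟩ g
        obtain ⟨b, ⟨c, hc, rfl⟩, hb⟩ := hmem
        exact hvM (show v ∈ M from (Subtype.ext hb : (c : Q) = v) ▸ c.2)
      rw [← SetLike.mem_coe, Subgroup.mul_normal] at hvu
      obtain ⟨w, hw, φ, hφ, he⟩ := hvu
      obtain ⟨i, rfl⟩ := mem_zpowers_iff.1 hw
      refine ⟨i, ⟨φ⁻¹, inv_mem hφ, ?_⟩⟩
      have h1 : x ^ i * (φ : G) = g * x * g⁻¹ := congrArg Subtype.val he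
      show (φ : G)⁻¹ = _
      rw [← h1]; group
    · obtain ⟨e, he⟩ := IsPGroup.iff_card.1 (hQ.to_subgroup (frattini Q))
      have h1 := Cfsg.Agent.Solv.centralizes_of_trivial_on_frattini_quotient (zpowers c) Q le_normalizer_of_normal
        (by rw [Nat.card_zpowers, he]; exact hco.pow_right e) (fun a ha q hq => by
          suffices hle : zpowers c ≤ ⨅ y : Q, (centralizer ({QuotientGroup.mk' Φ (y : G)} : Set (G ⧸ Φ))).comap (QuotientGroup.mk' Φ) by
            have h2 := mem_centralizer_singleton_iff.1 (mem_iInf.1 (hle ha) ⟨q, hq⟩)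
            rw [← QuotientGroup.eq_one_iff]
            show QuotientGroup.mk' Φ (a * q * a⁻¹ * q⁻¹) = 1
            rw [map_mul, map_mul, map_mul, map_inv, map_inv, h2]
            group
          refine zpowers_le.2 (mem_iInf.2 fun y => mem_centralizer_singleton_iff.2 ?_)
          have h2 := hc y y.2
          rw [← QuotientGroup.eq] at h2
          exact mul_inv_eq_iff_eq_mul.1 h2)
      exact mul_inv_eq_iff_eq_mul.2 (mem_centralizer_iff.1 (h1 (mem_zpowers c)) x hx).symm

theorem tower : ∀ (m : ℕ) (G : Type u) [Group G] [Finite G], Nat.card G ≤ m → ∀ (E : Subgroup G) [E.Normal],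
    Cfsg.IsSupersolvable (G ⧸ E) →
    (∀ (p : ℕ), p.Prime → ∀ P : Subgroup G, P ≤ E → IsPGroup p P → ¬ p ∣ P.relIndex E → ¬ IsCyclic ↥P →
      ∃ D : Subgroup G, D ≤ P ∧ 1 < Nat.card D ∧ Nat.card D < Nat.card P ∧
        ∀ F : Subgroup G, F ≤ P → (Nat.card F = Nat.card D ∨ (Nat.card D = 2 ∧ Nat.card F = 4)) →
          ∀ x ∈ F, ∀ g : G, g * x * g⁻¹ ∈ P → g * x * g⁻¹ ∈ F) →
    Cfsg.IsSupersolvable G := by
  intro m
  induction m with
  | zero => intro G _ _ h; exact absurd h (not_le.2 Nat.card_pos)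
  | succ m ih =>
    intro G _ _ hm E _ hGE h
    classical
    by_cases hE1 : E = ⊥
    · subst hE1
      exact Cfsg.Agent.Solv.isSupersolvable_of_surjective (QuotientGroup.quotientBot (G := G)).toMonoidHom
        (MulEquiv.surjective _) hGE
    -- a normal Sylow subgroup of `E`
    obtain ⟨q, hq, Q, hQn, hQE, hQq, hQi, hQ1⟩ : ∃ (q : ℕ) (_ : q.Prime) (Q : Subgroup G), Q.Normal ∧ Q ≤ E ∧
        IsPGroup q Q ∧ ¬ q ∣ Q.relIndex E ∧ Q ≠ ⊥ := by
      suffices ∀ (c : ℕ) (K : Subgroup G), Nat.card K = c → K.Normal → K ≤ E → K ≠ ⊥ →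
          (∀ r : ℕ, r.Prime → r ∣ Nat.card K → ¬ r ∣ K.relIndex E) →
          ∃ (q : ℕ) (_ : q.Prime) (Q : Subgroup G), Q.Normal ∧ Q ≤ E ∧ IsPGroup q Q ∧ ¬ q ∣ Q.relIndex E ∧ Q ≠ ⊥ from
        this _ E rfl inferInstance le_rfl hE1 (fun r hr _ => by rw [relIndex_self]; exact hr.not_dvd_one)
      intro c
      induction c using Nat.strong_induction_on with
      | _ c ihc =>
        intro K hc hKn hKE hK1 hKi
        subst hc
        have hK1' : Nat.card K ≠ 1 := fun h => hK1 (K.eq_bot_of_card_eq h)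
        set p := (Nat.card K).minFac with hpdef
        haveI hpf : Fact p.Prime := ⟨Nat.minFac_prime hK1'⟩
        have hpK : p ∣ Nat.card K := Nat.minFac_dvd _
        obtain ⟨R⟩ := Sylow.nonempty (p := p) (G := K)
        set P := (R : Subgroup K).map K.subtype with hP
        have hPK : P ≤ K := map_subtype_le _
        have hPc : Nat.card P = Nat.card R := card_map_of_injective Subtype.val_injective
        have hPi : ¬ p ∣ P.relIndex E := by
          rw [← relIndex_mul_relIndex P K E hPK hKE]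
          intro hd
          rcases hpf.out.dvd_mul.1 hd with h' | h'
          · rw [hP, relIndex, subgroupOf, comap_map_eq_self_of_injective K.subtype_injective] at h'
            exact R.not_dvd_index h'
          · exact hKi p hpf.out hpK h'
        have hnpc : HasNormalPComplement p K := by
          by_cases hcyc : IsCyclic ↥P
          · haveI : IsCyclic R := isCyclic_of_injective
              ((R : Subgroup K).equivMapOfInjective K.subtype K.subtype_injective).toMonoidHom
              (MulEquiv.injective _)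
            exact Cfsg.Agent.Solv.hasNormalPComplement_of_burnside R
              (IsCyclic.normalizer_le_centralizer (rfl : (Nat.card K).minFac = p) inferInstance)
          obtain ⟨D, hDP, hD1, hD2, hD⟩ := h p hpf.out P (hPK.trans hKE) (R.isPGroup'.map _) hPi hcyc
          have hDK := hDP.trans hPK
          refine hasNormalPComplement_of_closed
            (fun r hr hrK => Nat.minFac_le_of_dvd hr.two_le hrK) R (D.subgroupOf K) ?_ ?_ ?_ ?_
          · intro x hx
            obtain ⟨y, hy, he⟩ := hDP hx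
            exact Subtype.ext he ▸ hy
          · rwa [Nat.card_congr (subgroupOfEquivOfLe hDK).toEquiv]
          · rw [Nat.card_congr (subgroupOfEquivOfLe hDK).toEquiv, ← hPc]; exact hD2
          · intro F hFR hFc x hx g hg
            rw [Nat.card_congr (subgroupOfEquivOfLe hDK).toEquiv] at hFc
            have hFc' : Nat.card (F.map K.subtype) = Nat.card F := card_map_of_injective Subtype.val_injective
            obtain ⟨y, hy, he⟩ := hD (F.map K.subtype) (map_mono hFR) (by rwa [hFc']) (x : G) ⟨x, hx, rfl⟩ (g : G)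
              ⟨g * x * g⁻¹, hg, rfl⟩
            have he' : y = g * x * g⁻¹ := Subtype.ext he
            exact he' ▸ hy
        obtain ⟨r, hr⟩ := Cfsg.Agent.Solv.hasNormalPComplement_iff_index.1 hnpc
        set K' := (pPrimeCore p K).map K.subtype with hK'
        have hK'c : Nat.card K' = Nat.card (pPrimeCore p K) := card_map_of_injective Subtype.val_injective
        by_cases hK'1 : K' = ⊥
        · refine ⟨p, hpf.out, K, hKn, hKE, IsPGroup.of_card (n := r) ?_, hKi p hpf.out hpK, hK1⟩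
          have h1 : pPrimeCore p K = ⊥ := map_injective K.subtype_injective (by rw [Subgroup.map_bot]; exact hK'1)
          rw [← hr, h1, index_bot]
        haveI : (pPrimeCore p K).Characteristic := Cfsg.Agent.Solv.pPrimeCore_characteristic p K
        haveI := hKn
        have hlt : Nat.card K' < Nat.card K := by
          rw [hK'c]
          refine lt_of_le_of_ne (Nat.le_of_dvd Nat.card_pos (card_subgroup_dvd_card _)) fun he => ?_
          have h2 := Cfsg.Agent.Solv.card_pPrimeCore_coprime p K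
          rw [he] at h2
          exact hpf.out.ne_one (Nat.eq_one_of_dvd_coprimes h2 hpK dvd_rfl)
        refine ihc _ hlt K' rfl inferInstance ((map_subtype_le _).trans hKE) hK'1 fun s hs hsK hsi => ?_
        rw [← relIndex_mul_relIndex K' K E (map_subtype_le _) hKE, hs.dvd_mul] at hsi
        rcases hsi with h' | h'
        · rw [hK', relIndex, subgroupOf, comap_map_eq_self_of_injective K.subtype_injective, hr] at h'
          have h2 := (Cfsg.Agent.Solv.card_pPrimeCore_coprime p K)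
          rw [← hK'c] at h2
          have := (Nat.prime_dvd_prime_iff_eq hs hpf.out).1 (hs.dvd_of_dvd_pow h')
          exact hs.ne_one (Nat.eq_one_of_dvd_coprimes h2 hsK (this ▸ dvd_rfl))
        · exact hKi s hs (hsK.trans (card_dvd_of_le (map_subtype_le _))) h'
    haveI := Fact.mk hq
    haveI := hQn
    set f := QuotientGroup.mk' Q with hfdef
    have hf : Function.Surjective f := QuotientGroup.mk'_surjective Q
    haveI : (E.map f).Normal := Normal.map inferInstance f hf
    have hGQ : Cfsg.IsSupersolvable (G ⧸ Q) := by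
      refine ih (G ⧸ Q) (by have := Cfsg.Agent.Solv.card_quotient_lt hQ1; omega) (E.map f)
        (Cfsg.Agent.Solv.isSupersolvable_of_surjective
          (QuotientGroup.quotientQuotientEquivQuotient Q E hQE).symm.toMonoidHom (MulEquiv.surjective _) hGE) ?_
      intro r hr PB hPE hPr hPi hPc
      haveI := Fact.mk hr
      set K := PB.comap f with hK
      have hQK : Q ≤ K := fun x hx => by
        show f x ∈ PB
        rw [hfdef, QuotientGroup.mk'_apply, (QuotientGroup.eq_one_iff x).2 hx]; exact one_mem _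
      have hKE : K ≤ E := by
        intro x hx
        have h1 := comap_map_eq f E
        rw [QuotientGroup.ker_mk', sup_eq_left.2 hQE] at h1
        rw [← h1]
        exact hPE hx
      have hKr : ¬ r ∣ K.relIndex E := by rwa [hK, relIndex_comap]
      have hrq : r ≠ q := by
        rintro rfl
        apply hPc
        have h1 : Nat.card PB ∣ Q.relIndex E := by
          refine dvd_trans (dvd_of_eq ?_) ⟨_, (relIndex_mul_relIndex Q K E hQK hKE).symm⟩
          have h3 := Subgroup.relIndex_ker (K := K) (QuotientGroup.mk' Q)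
          rw [QuotientGroup.ker_mk'] at h3
          rw [h3, ← hfdef, hK, map_comap_eq_self_of_surjective hf]
        obtain ⟨a, ha⟩ := IsPGroup.iff_card.1 hPr
        rcases a with _ | a
        · haveI : Subsingleton PB := (Nat.card_eq_one_iff_unique.1 (by simpa using ha)).1
          infer_instance
        · exact absurd ((ha ▸ dvd_pow_self r a.succ_ne_zero).trans h1) hQi
      obtain ⟨R⟩ := Sylow.nonempty (p := r) (G := K)
      set P := (R : Subgroup K).map K.subtype with hP
      have hPK : P ≤ K := map_subtype_le _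
      have hPi' : ¬ r ∣ P.relIndex E := by
        rw [← relIndex_mul_relIndex P K E hPK hKE]
        intro hd
        rcases hr.dvd_mul.1 hd with h' | h'
        · rw [hP, relIndex, subgroupOf, comap_map_eq_self_of_injective K.subtype_injective] at h'
          exact R.not_dvd_index h'
        · exact hKr h'
      have hPp : IsPGroup r P := R.isPGroup'.map _
      have hPQ : P ⊓ Q = ⊥ := by
        refine Cfsg.Agent.Solv.inf_eq_bot_of_coprime_card P Q ?_
        obtain ⟨a, ha⟩ := IsPGroup.iff_card.1 hPp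
        obtain ⟨b, hb⟩ := IsPGroup.iff_card.1 hQq
        rw [ha, hb]
        exact ((Nat.coprime_primes hr hq).2 hrq).pow a b
      have hinj : ∀ a ∈ P, ∀ b ∈ P, f a = f b → a = b := fun a ha b hb he => by
        rw [hfdef, QuotientGroup.mk'_apply, QuotientGroup.mk'_apply, QuotientGroup.eq] at he
        have h1 : a⁻¹ * b ∈ P ⊓ Q := mem_inf.2 ⟨mul_mem (inv_mem ha) hb, he⟩
        rw [hPQ, mem_bot, inv_mul_eq_one] at h1
        exact h1
      -- `K = P Q`
      have hKPQ : K ≤ P ⊔ Q := by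
        have hle : P ⊔ Q ≤ K := sup_le hPK hQK
        rw [← relIndex_eq_one]
        by_contra hne
        obtain ⟨s, hs, hsd⟩ := Nat.exists_prime_and_dvd hne
        have h1 : s ∣ P.relIndex K := hsd.trans (relIndex_dvd_of_le_left K le_sup_left)
        have h2 : s ∣ Q.relIndex K := hsd.trans (relIndex_dvd_of_le_left K le_sup_right)
        have hsr : s = r := by
          have h3 : Q.relIndex K = Nat.card PB := by
            have h3 := Subgroup.relIndex_ker (K := K) (QuotientGroup.mk' Q)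
            rw [QuotientGroup.ker_mk'] at h3
            rw [h3, ← hfdef, hK, map_comap_eq_self_of_surjective hf]
          obtain ⟨a, ha⟩ := IsPGroup.iff_card.1 hPr
          rw [h3, ha] at h2
          exact (Nat.prime_dvd_prime_iff_eq hs hr).1 (hs.dvd_of_dvd_pow h2)
        rw [hsr, hP, relIndex, subgroupOf, comap_map_eq_self_of_injective K.subtype_injective] at h1
        exact R.not_dvd_index h1
      have hmap : P.map f = PB := by
        refine le_antisymm (map_le_iff_le_comap.2 hPK) fun w hw => ?_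
        obtain ⟨x, rfl⟩ := hf w
        have hx := hKPQ (show x ∈ K from hw)
        rw [← SetLike.mem_coe, Subgroup.mul_normal] at hx
        obtain ⟨a, ha, b, hb, rfl⟩ := hx
        exact ⟨a, ha, by rw [map_mul, show f b = 1 from (QuotientGroup.eq_one_iff b).2 hb, mul_one]⟩
      have hcard : ∀ F : Subgroup G, F ≤ P → Nat.card (F.map f) = Nat.card F := fun F hF => by
        let e : F →* F.map f := f.subgroupMap F
        exact (Nat.card_congr (Equiv.ofBijective e ⟨fun a b he => Subtype.ext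
          (hinj a (hF a.2) b (hF b.2) (congrArg Subtype.val he)), f.subgroupMap_surjective F⟩)).symm
      have hPnc : ¬ IsCyclic ↥P := fun hc => hPc (by
        rw [← hmap]; exact isCyclic_of_surjective (f.subgroupMap P) (f.subgroupMap_surjective P))
      obtain ⟨D, hDP, hD1, hD2, hD⟩ := h r hr P (hPK.trans hKE) hPp hPi' hPnc
      refine ⟨D.map f, hmap ▸ map_mono hDP, by rwa [hcard D hDP], by rwa [hcard D hDP, ← hmap, hcard P le_rfl], ?_⟩
      intro FB hFP hFc xb hx gb hgx
      rw [← hmap] at hFP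
      have hF : (P ⊓ FB.comap f).map f = FB := by
        refine le_antisymm (map_le_iff_le_comap.2 inf_le_right) fun w hw => ?_
        obtain ⟨a, ha, rfl⟩ := hFP hw
        exact ⟨a, mem_inf.2 ⟨ha, hw⟩, rfl⟩
      rw [hcard D hDP, ← hF, hcard _ inf_le_left] at hFc
      rw [← hF] at hx
      obtain ⟨x, hx, rfl⟩ := hx
      obtain ⟨g, rfl⟩ := hf gb
      have hy : g * x * g⁻¹ ∈ K := by
        show f _ ∈ PB
        rw [map_mul, map_mul, map_inv]; exact hgx
      obtain ⟨a, ha⟩ := IsPGroup.iff_orderOf.1 hPp ⟨x, hx.1⟩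
      rw [← Subgroup.orderOf_coe] at ha
      have hyp : IsPGroup r (zpowers (⟨g * x * g⁻¹, hy⟩ : K)) := by
        refine IsPGroup.of_card (n := a) ?_
        rw [Nat.card_zpowers, Subgroup.orderOf_mk, ← ha]
        exact (MulAut.conj g).orderOf_eq x
      obtain ⟨T, hT⟩ := hyp.exists_le_sylow
      obtain ⟨n, hn⟩ := MulAction.exists_smul_eq K T R
      have h1 : (n : G) * (g * x * g⁻¹) * (n : G)⁻¹ ∈ P := by
        refine ⟨n * ⟨g * x * g⁻¹, hy⟩ * n⁻¹, ?_, rfl⟩
        rw [← hn, Sylow.coe_subgroup_smul]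
        exact Subgroup.smul_mem_pointwise_smul _ (MulAut.conj n) _ (hT (mem_zpowers _))
      have hn' := hKPQ n.2
      rw [← SetLike.mem_coe, Subgroup.mul_normal] at hn'
      obtain ⟨π, hπ, s, hs, hns⟩ := hn'
      rw [← hns] at h1
      have h2 : s * g * x * (s * g)⁻¹ ∈ P := by
        have h3 := mul_mem (mul_mem (inv_mem hπ) h1) hπ
        convert h3 using 1
        group
      have h4 := hD (P ⊓ FB.comap f) inf_le_left hFc x hx (s * g) h2
      have h5 : f (s * g * x * (s * g)⁻¹) ∈ FB := h4.2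
      rw [map_mul, map_mul, map_inv, map_mul, show f s = 1 from (QuotientGroup.eq_one_iff s).2 hs, one_mul] at h5
      exact h5
    by_cases hQc : IsCyclic ↥Q
    · exact Cfsg.Agent.Solv.isSupersolvable_of_cyclic_normal Q hGQ
    obtain ⟨D, hDQ, hD1, hD2, hD⟩ := h q hq Q hQE hQq hQi hQc
    obtain ⟨k, hk⟩ := IsPGroup.iff_card.1 (hQq.to_le hDQ)
    refine lines_ss Q hQq hGQ (k := k) ?_ (hk ▸ hD2) fun F hF hFc => ⟨fun x hx g => ?_⟩
    · rcases k with _ | k
      · rw [pow_zero] at hk; omega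
      · omega
    · exact hD F hF (by rwa [hk]) x hx g (hQn.conj_mem x (hF hx) g)


/-- Let G be a finite group and E a normal subgroup with G/E supersolvable. Suppose that for every prime p and every non-cyclic Sylow p-subgroup P of E there is a subgroup D of P with 1 < |D| < |P| such that every subgroup F of P of order |D|, and also every subgroup F of P of order 4 when |D| = 2, satisfies g F g⁻¹ ∩ N_G(F) ≤ F for all g ∈ G. Then G is supersolvable. -/
theorem result {G : Type*} [Group G] [Finite G] (E : Subgroup G) [E.Normal] (hGE : Cfsg.IsSupersolvable (G ⧸ E))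
    (h : ∀ (p : ℕ), p.Prime → ∀ P : Subgroup G, P ≤ E → IsPGroup p P → ¬ p ∣ P.relIndex E → ¬ IsCyclic ↥P →
      ∃ D : Subgroup G, D ≤ P ∧ 1 < Nat.card D ∧ Nat.card D < Nat.card P ∧
        ∀ F : Subgroup G, F ≤ P → (Nat.card F = Nat.card D ∨ (Nat.card D = 2 ∧ Nat.card F = 4)) →
          ∀ g : G, F.map (MulAut.conj g).toMonoidHom ⊓ Subgroup.normalizer (F : Set G) ≤ F) :
    Cfsg.IsSupersolvable G := by
  skip
  classical
  refine tower (Nat.card G) G le_rfl E hGE fun p hp P hPE hPp hPi hPc => ?_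
  obtain ⟨D, hDP, hD1, hD2, hD⟩ := h p hp P hPE hPp hPi hPc
  haveI := Fact.mk hp
  exact ⟨D, hDP, hD1, hD2, fun F hFP hFd => closed_of_hyp hPp hFP (hD F hFP hFd)⟩

end Cfsg.Agent.S3032
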