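import Cfsg.Statements.S3033
import Cfsg.Agent.Lib.Solv.SupersolvableApps
import Cfsg.Agent.Lib.Solv.NormalPComplement
import Mathlib.GroupTheory.SpecificGroups.Cyclic
import Mathlib.FieldTheory.Finite.Basic

set_option autoImplicit false
open Cfsg

namespace Cfsg.Agent.S3033

open Subgroup

universe u v

theorem isSolvable_of_ss {G : Type u} [Group G] [Finite G] (hG : Cfsg.IsSupersolvable G) :
    Group.IsSolvable G := by
  haveI := Cfsg.Agent.Solv.isNilpotent_commutator_of_isSupersolvable hG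
  haveI : Group.IsSolvable (commutator G) := inferInstance
  exact solvable_of_ker_le_range (commutator G).subtype (Abelianization.of (G := G)) (by
    rw [Subgroup.range_subtype, Abelianization.ker_of])

theorem eq_one_of_stab {G : Type u} [Group G] {p : ℕ} (hp : p.Prime) {g x : G}
    (hg : (orderOf g).Coprime p) (hc : (g * x * g⁻¹ * x⁻¹) ^ p = 1)
    (hfix : g * (g * x * g⁻¹ * x⁻¹) * g⁻¹ = g * x * g⁻¹ * x⁻¹) : g * x = x * g := by
  obtain ⟨a, ha⟩ : ∃ a, g * x * g⁻¹ * x⁻¹ = a := ⟨_, rfl⟩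
  rw [ha] at hc hfix
  have h1 : g * x * g⁻¹ = a * x := by rw [← ha]; group
  have hn : ∀ n : ℕ, g ^ n * x * (g ^ n)⁻¹ = a ^ n * x := by
    intro n
    induction n with
    | zero => simp
    | succ n ih =>
      calc g ^ (n + 1) * x * (g ^ (n + 1))⁻¹ = g * (g ^ n * x * (g ^ n)⁻¹) * g⁻¹ := by
            rw [pow_succ']; group
        _ = (g * a * g⁻¹) ^ n * (g * x * g⁻¹) := by rw [ih, conj_pow]; group
        _ = a ^ (n + 1) * x := by rw [hfix, h1, ← mul_assoc, ← pow_succ]
  have h2 := hn (orderOf g)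
  rw [pow_orderOf_eq_one, one_mul, inv_one, mul_one] at h2
  have h3 : a ^ orderOf g = 1 := by
    have := congrArg (· * x⁻¹) h2.symm
    simpa [mul_assoc] using this
  have h4 : a = 1 := by
    have := pow_gcd_eq_one.2 ⟨hc, h3⟩
    rwa [show Nat.gcd p (orderOf g) = 1 from Nat.Coprime.symm hg, pow_one] at this
  rw [h4, one_mul] at h1
  exact mul_inv_eq_iff_eq_mul.1 h1

theorem centralizes_aux (p : ℕ) (hp : p.Prime) : ∀ (n : ℕ) (H : Type u) [Group H] [Finite H],
    Nat.card H ≤ n → Cfsg.IsSupersolvable H →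
    (∀ r : ℕ, r.Prime → r ∣ Nat.card H → p ≤ r) →
    ∀ Q : Subgroup H, Q.Normal → IsPGroup p Q →
      ∀ g : H, (orderOf g).Coprime p → ∀ x ∈ Q, g * x = x * g := by
  intro n
  induction n with
  | zero => intro H _ _ hn; exact absurd hn (not_le.mpr Nat.card_pos)
  | succ n ih =>
    intro H _ _ hn hH hmin Q hQn hQp g hg x hx
    haveI : Fact p.Prime := ⟨hp⟩
    by_cases hQ : Q = ⊥
    · rw [hQ, mem_bot] at hx; subst hx; simp
    obtain ⟨M, hMn, hMQ, hMp⟩ := Cfsg.Agent.Solv.exists_prime_normal_le hH hQ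
    have hMcard : Nat.card M = p := by
      obtain ⟨k, hk⟩ := IsPGroup.iff_card.1 (hQp.to_le hMQ)
      rw [hk] at hMp ⊢
      rw [Nat.Prime.eq_one_of_pow hMp, pow_one]
    haveI := hMn
    haveI : IsCyclic M := isCyclic_of_prime_card hMcard
    have hfix : ∀ m ∈ M, g * m * g⁻¹ = m := by
      have h1 : orderOf (MulAut.conjNormal (H := M) g) ∣ orderOf g := orderOf_map_dvd _ g
      have h2 : orderOf (MulAut.conjNormal (H := M) g) ∣ p - 1 := by
        refine (_root_.orderOf_dvd_natCard _).trans ?_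
        rw [IsCyclic.card_mulAut, hMcard, Nat.totient_prime hp]
      have h3 : orderOf (MulAut.conjNormal (H := M) g) = 1 := by
        by_contra h
        obtain ⟨r, hr, hrd⟩ := Nat.exists_prime_and_dvd h
        have := hmin r hr ((hrd.trans h1).trans (_root_.orderOf_dvd_natCard g))
        have hp2 := hp.two_le
        have := Nat.le_of_dvd (by omega) (hrd.trans h2)
        omega
      intro m hm
      have := congrArg (fun e : MulAut M => ((e ⟨m, hm⟩ : M) : H)) (orderOf_eq_one_iff.1 h3)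
      simpa [MulAut.conjNormal_apply] using this
    have hMb : M ≠ ⊥ := fun e => Nat.not_prime_one (by rwa [e, card_bot] at hMp)
    have h4 := ih (H ⧸ M) (by have := Cfsg.Agent.Solv.card_quotient_lt hMb; omega)
      (Cfsg.Agent.Solv.isSupersolvable_of_surjective _ (QuotientGroup.mk'_surjective M) hH)
      (fun r hr hrd => hmin r hr (hrd.trans (Subgroup.card_quotient_dvd_card M)))
      (Q.map (QuotientGroup.mk' M)) (hQn.map _ (QuotientGroup.mk'_surjective M)) (hQp.map _)
      (g : H ⧸ M) (Nat.Coprime.coprime_dvd_left (orderOf_map_dvd (QuotientGroup.mk' M) g) hg)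
      (x : H ⧸ M) (mem_map_of_mem _ hx)
    have h5 : g * x * g⁻¹ * x⁻¹ ∈ M := by
      rw [← QuotientGroup.eq_one_iff, QuotientGroup.mk_mul, QuotientGroup.mk_mul,
        QuotientGroup.mk_mul, h4]
      simp
    refine eq_one_of_stab hp hg ?_ (hfix _ h5)
    rw [← hMcard]
    exact congrArg Subtype.val (pow_card_eq_one' (x := (⟨_, h5⟩ : M)))

theorem not_simple {G : Type u} [Group G] [Finite G] [IsSimpleGroup G]
    (hna : ¬ ∀ a b : G, a * b = b * a)
    (hss : ∀ H : Subgroup G, H ≠ ⊤ → Cfsg.IsSupersolvable H) : False := by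
  have hns : ¬ Group.IsSolvable G := fun h => hna (IsSimpleGroup.comm_iff_isSolvable.2 h)
  have hne : (Nat.card G).primeFactors.Nonempty :=
    Nat.nonempty_primeFactors.mpr Finite.one_lt_card
  set p := (Nat.card G).primeFactors.min' hne with hp'
  have hp : p.Prime := Nat.prime_of_mem_primeFactors (Finset.min'_mem _ hne)
  have hpd : p ∣ Nat.card G := Nat.dvd_of_mem_primeFactors (Finset.min'_mem _ hne)
  haveI : Fact p.Prime := ⟨hp⟩
  have hmin : ∀ r : ℕ, r.Prime → r ∣ Nat.card G → p ≤ r := fun r hr hrd =>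
    Finset.min'_le _ _ (Nat.mem_primeFactors.mpr ⟨hr, hrd, Nat.card_pos.ne'⟩)
  have hF : Cfsg.Agent.Solv.FrobeniusCond p G := by
    intro Q hQ g hg hgc
    rw [mem_centralizer_iff]
    intro x hx
    by_cases hQb : Q = ⊥
    · rw [SetLike.mem_coe, hQb, mem_bot] at hx; subst hx; simp
    have hN : normalizer (Q : Set G) ≠ ⊤ := by
      intro e
      haveI : Q.Normal := normalizer_eq_top_iff.1 e
      rcases IsSimpleGroup.eq_bot_or_eq_top_of_normal Q inferInstance with h | h
      · exact hQb h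
      · subst h
        haveI := (hQ.of_equiv Subgroup.topEquiv).isNilpotent
        exact hns inferInstance
    have := centralizes_aux p hp _ _ le_rfl (hss _ hN)
      (fun r hr hrd => hmin r hr (hrd.trans (Subgroup.card_subgroup_dvd_card _)))
      (Q.subgroupOf (normalizer (Q : Set G))) inferInstance
      (hQ.comap_of_injective _ (Subgroup.subtype_injective _)) ⟨g, hg⟩
      (by rwa [← Subgroup.orderOf_coe]) ⟨x, Subgroup.le_normalizer hx⟩
      (by simpa [mem_subgroupOf] using hx)
    exact (congrArg Subtype.val this).symm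
  have hN := hF.hasNormalPComplement
  obtain ⟨P, N, hNn, hNc⟩ := hN
  rcases hNn.eq_bot_or_eq_top with h | h
  · subst h
    have := hNc.card_mul
    rw [card_bot, one_mul] at this
    have hP : (P : Subgroup G) = ⊤ := Subgroup.eq_top_of_card_eq _ this
    haveI := ((hP ▸ P.isPGroup' : IsPGroup p (⊤ : Subgroup G)).of_equiv Subgroup.topEquiv).isNilpotent
    exact hns inferInstance
  · subst h
    have := hNc.card_mul
    rw [card_top] at this
    have : Nat.card (P : Subgroup G) = 1 := by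
      have h0 : 0 < Nat.card G := Nat.card_pos
      nlinarith
    exact P.ne_bot_of_dvd_card hpd (Subgroup.card_eq_one.1 this)

theorem power_map {V : Type u} [CommGroup V] [Finite V] {q : ℕ} (hq : q.Prime)
    (hexp : ∀ v : V, v ^ q = 1) (f : V →* V) (W : Subgroup V)
    (h : ∀ w ∈ W, f w ∈ zpowers w) : ∃ m : ℤ, ∀ w ∈ W, f w = w ^ m := by
  haveI : Fact q.Prime := ⟨hq⟩
  by_cases hW : W = ⊥
  · exact ⟨1, fun w hw => by rw [hW, mem_bot] at hw; subst hw; simp⟩
  obtain ⟨⟨w0, hw0⟩, hne'⟩ := Subgroup.ne_bot_iff_exists_ne_one.1 hW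
  have hne : w0 ≠ 1 := fun e => hne' (Subtype.ext e)
  obtain ⟨a, ha⟩ := mem_zpowers_iff.1 (h w0 hw0)
  have hord : orderOf w0 = q := orderOf_eq_prime (hexp w0) hne
  refine ⟨a, fun v hv => ?_⟩
  by_cases hmem : v ∈ zpowers w0
  · obtain ⟨k, rfl⟩ := mem_zpowers_iff.1 hmem
    rw [map_zpow, ← ha, zpow_comm]
  have hv1 : v ≠ 1 := fun e => hmem (e ▸ one_mem _)
  obtain ⟨b, hb⟩ := mem_zpowers_iff.1 (h v hv)
  obtain ⟨c, hc⟩ := mem_zpowers_iff.1 (h (w0 * v) (mul_mem hw0 hv))
  rw [map_mul, ← ha, ← hb, mul_zpow] at hc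
  have h1 : w0 ^ (a - c) = v ^ (c - b) := by
    rw [zpow_sub, zpow_sub]
    calc w0 ^ a * (w0 ^ c)⁻¹ = (w0 ^ a * v ^ b) * (v ^ b)⁻¹ * (w0 ^ c)⁻¹ := by group
      _ = (w0 ^ c * v ^ c) * (v ^ b)⁻¹ * (w0 ^ c)⁻¹ := by rw [hc]
      _ = v ^ c * (v ^ b)⁻¹ := by
          rw [mul_right_comm (w0 ^ c * v ^ c), mul_comm (w0 ^ c) (v ^ c), mul_inv_cancel_right]
  have h2 : w0 ^ (a - c) = 1 := by
    by_contra hn
    have e1 : zpowers (w0 ^ (a - c)) ≤ zpowers w0 := zpowers_le.2 (zpow_mem (mem_zpowers _) _)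
    have e2 : zpowers (w0 ^ (a - c)) ≤ zpowers v := h1 ▸ zpowers_le.2 (zpow_mem (mem_zpowers _) _)
    have c0 : ∀ y : V, y ≠ 1 → Nat.card (zpowers y) = q := fun y hy => by
      rw [Nat.card_zpowers]; exact orderOf_eq_prime (hexp y) hy
    have e3 := eq_of_le_of_card_ge e1 (by rw [c0 _ hne, c0 _ hn])
    have e4 := eq_of_le_of_card_ge e2 (by rw [c0 _ hv1, c0 _ hn])
    exact hmem (e3 ▸ e4.symm ▸ mem_zpowers v)
  rw [h2] at h1
  have h3 : (q : ℤ) ∣ a - c := hord ▸ orderOf_dvd_iff_zpow_eq_one.2 h2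
  have h4 : v ^ (a - c) = 1 := by
    obtain ⟨d, hd⟩ := h3
    rw [hd, zpow_mul, zpow_natCast, hexp, one_zpow]
  rw [← hb]
  calc v ^ b = v ^ b * v ^ (a - c) * v ^ (c - b) := by rw [h4, ← h1]; group
    _ = v ^ a := by rw [← zpow_add, ← zpow_add]; ring_nf

theorem zpow_eq_of_cast {V : Type u} [Group V] {q : ℕ} (hexp : ∀ v : V, v ^ q = 1) {a b : ℤ}
    (h : (a : ZMod q) = b) (v : V) : v ^ a = v ^ b := by
  rw [ZMod.intCast_eq_intCast_iff_dvd_sub] at h
  obtain ⟨d, hd⟩ := h
  have : b = a + (q : ℤ) * d := by omega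
  rw [this, zpow_add, zpow_mul, zpow_natCast, hexp, one_zpow, mul_one]

theorem cast_eq_of_zpow {V : Type u} [Group V] {q : ℕ} [Fact q.Prime]
    (hexp : ∀ v : V, v ^ q = 1) {a b : ℤ} {v : V} (hv : v ≠ 1) (h : v ^ a = v ^ b) :
    (a : ZMod q) = b := by
  rw [ZMod.intCast_eq_intCast_iff_dvd_sub]
  have h1 : v ^ (b - a) = 1 := by rw [zpow_sub, h, mul_inv_cancel]
  have := orderOf_dvd_iff_zpow_eq_one.2 h1
  rwa [orderOf_eq_prime (hexp v) hv] at this

theorem core {V : Type u} [CommGroup V] [Finite V] [Nontrivial V] {q : ℕ} (hq : q.Prime)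
    (hexp : ∀ v : V, v ^ q = 1) {A : Type v} [Group A] [Finite A] (φ : A →* MulAut V)
    (hφ : Function.Injective φ) (hA : Cfsg.IsSupersolvable A)
    (hirr : ∀ W : Subgroup V, (∀ g : A, ∀ v ∈ W, φ g v ∈ W) → W = ⊥ ∨ W = ⊤)
    (hK : ∀ x : A, ∀ r : ℕ, r.Prime → r ≠ q → (∃ a : ℕ, orderOf x = r ^ a) → ∀ v : V,
      φ x (φ x v / v) ∈ zpowers (φ x v / v)) :
    ∀ g : A, ∃ m : ℤ, ∀ v : V, φ g v = v ^ m := by
  classical
  haveI : Fact q.Prime := ⟨hq⟩
  have ext' : ∀ {x y : A}, (∀ v, φ x v = φ y v) → x = y := fun h => hφ (MulEquiv.ext h)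
  have hmul : ∀ (x y : A) (v : V), φ (x * y) v = φ x (φ y v) := fun x y v => by
    rw [map_mul]; rfl
  have hone : ∀ v : V, φ 1 v = v := fun v => by rw [map_one]; rfl
  let M : Submonoid A :=
    { carrier := {x | ∃ m : ℤ, ∀ v : V, φ x v = v ^ m}
      one_mem' := ⟨1, fun v => by rw [hone, zpow_one]⟩
      mul_mem' := by
        rintro x y ⟨m, hm⟩ ⟨k, hk⟩
        exact ⟨m * k, fun v => by rw [hmul, hk, map_zpow, hm, ← zpow_mul]⟩ }
  let Z : Subgroup A :=
    { M with
      inv_mem' := by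
        intro x hx
        have hx' : x⁻¹ = x ^ (orderOf x - 1) := by
          rw [inv_eq_iff_mul_eq_one, ← pow_succ', Nat.sub_add_cancel (orderOf_pos x),
            pow_orderOf_eq_one]
        rw [hx']
        exact M.pow_mem hx _ }
  have hcent : ∀ z ∈ Z, ∀ g : A, z * g = g * z := by
    rintro z ⟨m, hm⟩ g
    exact ext' fun v => by rw [hmul, hmul, hm, hm, map_zpow]
  suffices hZ : Z = ⊤ by
    intro g
    have : g ∈ Z := hZ ▸ mem_top g
    exact this
  by_contra hZ
  haveI hZn : Z.Normal := ⟨fun z hz g => by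
    rw [← hcent z hz g, mul_inv_cancel_right]; exact hz⟩
  -- scalar maps with a fixed point
  have hscfix : ∀ z ∈ Z, ∀ v : V, v ≠ 1 → φ z v = v → z = 1 := by
    rintro z ⟨m, hm⟩ v hv hzv
    rw [hm] at hzv
    have := cast_eq_of_zpow hexp hv (hzv.trans (zpow_one v).symm)
    exact ext' fun u => by rw [hone, hm, zpow_eq_of_cast hexp this, zpow_one]
  let d : A → V →* V := fun x =>
    { toFun := fun v => φ x v / v
      map_one' := by simp
      map_mul' := fun a b => by rw [map_mul, mul_div_mul_comm] }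
  have hd : ∀ (x : A) (v : V), d x v = φ x v / v := fun x v => rfl
  -- the exponent of an element of prime power order
  have hexpo : ∀ x : A, ∀ r : ℕ, r.Prime → r ≠ q → (∃ a : ℕ, orderOf x = r ^ a) →
      ∃ m : ℤ, ∀ v : V, φ x (φ x v / v) = (φ x v / v) ^ m := by
    intro x r hr hrq hx
    obtain ⟨m, hm⟩ := power_map hq hexp (φ x).toMonoidHom (d x).range (by
      rintro _ ⟨v, rfl⟩
      exact hK x r hr hrq hx v)
    exact ⟨m, fun v => hm _ ⟨v, rfl⟩⟩
  have hfixv : ∀ x : A, ∀ r : ℕ, r.Prime → r ≠ q → (∃ a : ℕ, orderOf x = r ^ a) → x ∉ Z →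
      ∃ v : V, v ≠ 1 ∧ φ x v = v := by
    intro x r hr hrq hx hxZ
    by_contra hn
    push Not at hn
    have hinj : Function.Injective (d x) := by
      rw [injective_iff_map_eq_one]
      intro v hv
      by_contra hv1
      exact hn v hv1 (div_eq_one.1 hv)
    obtain ⟨m, hm⟩ := hexpo x r hr hrq hx
    refine hxZ ⟨m, fun w => ?_⟩
    obtain ⟨v, rfl⟩ := (Finite.injective_iff_surjective.1 hinj) w
    exact hm v
  -- the normal subgroup of prime order over the scalars
  haveI : Nontrivial (A ⧸ Z) := QuotientGroup.nontrivial_iff.mpr hZ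
  obtain ⟨K, hKn, -, hKp⟩ := Cfsg.Agent.Solv.exists_prime_normal_le
    (Cfsg.Agent.Solv.isSupersolvable_of_surjective _ (QuotientGroup.mk'_surjective Z) hA)
    (N := (⊤ : Subgroup (A ⧸ Z))) top_ne_bot
  set r := Nat.card K with hr'
  haveI : Fact r.Prime := ⟨hKp⟩
  obtain ⟨⟨yb, hyb⟩, hybne'⟩ := (Subgroup.ne_bot_iff_exists_ne_one (H := K)).1
    (fun e => Nat.not_prime_one (by rw [hr', e, card_bot] at hKp; exact hKp))
  have hybne : yb ≠ 1 := fun e => hybne' (Subtype.ext e)
  obtain ⟨y0, rfl⟩ := QuotientGroup.mk'_surjective Z yb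
  have hyr : ∀ z : A ⧸ Z, z ∈ K → z ^ r = 1 := fun z hz => by
    exact congrArg Subtype.val (pow_card_eq_one' (x := (⟨z, hz⟩ : K)))
  obtain ⟨e, k, hk, hek⟩ := Nat.exists_eq_pow_mul_and_not_dvd (orderOf_pos y0).ne' r hKp.ne_one
  set y := y0 ^ k with hy'
  have hyK : ((y : A) : A ⧸ Z) ∈ K := by
    rw [hy', QuotientGroup.mk_pow]; exact pow_mem hyb k
  have hyZ : y ∉ Z := by
    intro h
    rw [← QuotientGroup.eq_one_iff, hy', QuotientGroup.mk_pow] at h
    have := pow_gcd_eq_one.2 ⟨hyr _ hyb, h⟩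
    rw [show Nat.gcd r k = 1 from (hKp.coprime_iff_not_dvd.2 hk), pow_one] at this
    exact hybne this
  have hyord : y ^ r ^ e = 1 := by
    rw [hy', ← pow_mul, mul_comm, ← hek, pow_orderOf_eq_one]
  have hyord' : ∃ a : ℕ, orderOf y = r ^ a := by
    obtain ⟨a, -, ha⟩ := (Nat.dvd_prime_pow hKp).1 (orderOf_dvd_of_pow_eq_one hyord)
    exact ⟨a, ha⟩
  have hgen : ∀ g : A, ∃ (i : ℕ) (z : A), z ∈ Z ∧ g * y * g⁻¹ = y ^ i * z := by
    intro g
    have h1 : ((g * y * g⁻¹ : A) : A ⧸ Z) ∈ K := by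
      rw [QuotientGroup.mk_mul, QuotientGroup.mk_mul, QuotientGroup.mk_inv]
      exact hKn.conj_mem _ hyK _
    have h2 : (y : A ⧸ Z) ≠ 1 := fun e => hyZ ((QuotientGroup.eq_one_iff y).1 e)
    have h3 := mem_powers_of_prime_card (G := K) (g := ⟨_, hyK⟩) (g' := ⟨_, h1⟩) rfl
      (fun e => h2 (congrArg Subtype.val e))
    obtain ⟨i, hi⟩ := h3
    have hi' : (y : A ⧸ Z) ^ i = ((g * y * g⁻¹ : A) : A ⧸ Z) := congrArg Subtype.val hi
    refine ⟨i, (y ^ i)⁻¹ * (g * y * g⁻¹), ?_, by group⟩
    rw [← QuotientGroup.eq, QuotientGroup.mk_pow, hi']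
  -- the fixed points of `y` are invariant if its conjugates are powers of it
  have hnop : (∃ v : V, v ≠ 1 ∧ φ y v = v) → ¬ ∀ g : A, ∃ i : ℕ, g * y * g⁻¹ = y ^ i := by
    rintro ⟨v, hv1, hv⟩ hall
    have hinv : ∀ g : A, ∀ u ∈ (d y).ker, φ g u ∈ (d y).ker := by
      intro g u hu
      rw [MonoidHom.mem_ker, hd, div_eq_one] at hu ⊢
      obtain ⟨i, hi⟩ := hall g⁻¹
      have hyi : ∀ n : ℕ, φ (y ^ n) u = u := by
        intro n
        induction n with
        | zero => rw [pow_zero, hone]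
        | succ n ih => rw [pow_succ, hmul, hu, ih]
      calc φ y (φ g u) = φ (g * (g⁻¹ * y * g⁻¹⁻¹)) u := by rw [← hmul]; congr 2; group
        _ = φ g (φ (y ^ i) u) := by rw [hmul, hi]
        _ = φ g u := by rw [hyi]
    rcases hirr _ hinv with h | h
    · have : v ∈ (d y).ker := by rw [MonoidHom.mem_ker, hd, hv, div_self']
      rw [h, mem_bot] at this
      exact hv1 this
    · refine hyZ ?_
      have : y = 1 := ext' fun u => by
        have hu : u ∈ (d y).ker := h ▸ mem_top u
        rw [MonoidHom.mem_ker, hd, div_eq_one] at hu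
        rw [hu, hone]
      rw [this]; exact one_mem Z
  have hzpow : ∀ g : A, ∀ i : ℕ, ∀ z ∈ Z, g * y * g⁻¹ = y ^ i * z → ∀ n : ℕ, y ^ n = 1 → z ^ n = 1 := by
    intro g i z hz he n hn
    have h1 : (g * y * g⁻¹) ^ n = 1 := by rw [conj_pow, hn, mul_one, mul_inv_cancel]
    rw [he, Commute.mul_pow (hcent z hz (y ^ i)).symm, ← pow_mul, mul_comm, pow_mul, hn, one_pow,
      one_mul] at h1
    exact h1
  by_cases hrq : r = q
  · have hfix : ∃ v : V, v ≠ 1 ∧ φ y v = v := by
      letI : MulAction (zpowers y) V := MulAction.compHom V (φ.comp (zpowers y).subtype)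
      have hP : IsPGroup q (zpowers y) := by
        obtain ⟨a, ha⟩ := hyord'
        exact IsPGroup.of_card (n := a) (by rw [Nat.card_zpowers, ha, hrq])
      have hqV : q ∣ Nat.card V := by
        obtain ⟨v, hv⟩ := exists_ne (1 : V)
        exact orderOf_eq_prime (hexp v) hv ▸ _root_.orderOf_dvd_natCard v
      have h1 : (1 : V) ∈ MulAction.fixedPoints (zpowers y) V := fun s => map_one (φ (s : A))
      obtain ⟨v, hv, hne⟩ := hP.exists_fixed_point_of_prime_dvd_card_of_fixed_point V hqV h1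
      exact ⟨v, hne.symm, hv ⟨y, mem_zpowers y⟩⟩
    refine hnop hfix fun g => ?_
    obtain ⟨i, z, hz, he⟩ := hgen g
    refine ⟨i, ?_⟩
    have hze := hzpow g i z hz he _ hyord
    obtain ⟨m, hm⟩ := hz
    suffices z = 1 by rw [he, this, mul_one]
    have hpw : ∀ (n : ℕ) (v : V), φ (z ^ n) v = v ^ (m ^ n) := by
      intro n
      induction n with
      | zero => intro v; rw [pow_zero, hone, pow_zero, zpow_one]
      | succ n ih => intro v; rw [pow_succ, hmul, hm, ih, ← zpow_mul, pow_succ, mul_comm]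
    obtain ⟨v, hv⟩ := exists_ne (1 : V)
    have h2 := hpw (r ^ e) v
    rw [hze, hone] at h2
    have h3 := cast_eq_of_zpow hexp hv (h2.symm.trans (zpow_one v).symm)
    rw [Int.cast_pow, hrq, ZMod.pow_card_pow] at h3
    exact ext' fun u => by rw [hone, hm, zpow_eq_of_cast hexp h3, zpow_one]
  · obtain ⟨v0, hv0, hyv0⟩ := hfixv y r hKp hrq hyord' hyZ
    have hyr1 : y ^ r = 1 := by
      apply hscfix (y ^ r) (by rw [← QuotientGroup.eq_one_iff, QuotientGroup.mk_pow]; exact hyr _ hyK)
        v0 hv0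
      have : ∀ n : ℕ, φ (y ^ n) v0 = v0 := by
        intro n
        induction n with
        | zero => rw [pow_zero, hone]
        | succ n ih => rw [pow_succ, hmul, hyv0, ih]
      exact this r
    obtain ⟨g0, hg0⟩ := not_forall.1 (hnop ⟨v0, hv0, hyv0⟩)
    obtain ⟨i0, z, hz, he0⟩ := hgen g0
    have hz1 : z ≠ 1 := fun e => hg0 ⟨i0, by rw [he0, e, mul_one]⟩
    have hzr : z ^ r = 1 := hzpow g0 i0 z hz he0 r hyr1
    set w := z⁻¹ with hw'
    have hwZ : w ∈ Z := inv_mem hz
    have hw1 : w ≠ 1 := by rwa [hw', ne_eq, inv_eq_one]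
    obtain ⟨a, ha⟩ := hwZ
    have hwZ : w ∈ Z := inv_mem hz
    obtain ⟨m, hm⟩ := hexpo y r hKp hrq hyord'
    have hwpow : ∀ (n : ℕ) (v : V), φ (w ^ n) v = v ^ (a ^ n) := by
      intro n
      induction n with
      | zero => intro v; rw [pow_zero, hone, pow_zero, zpow_one]
      | succ n ih => intro v; rw [pow_succ, hmul, ha, ih, ← zpow_mul, pow_succ, mul_comm]
    have hkey : ∀ j : ℕ, ((a : ZMod q) ^ j - 1) * ((a : ZMod q) ^ j - m) = 0 := by
      intro j
      have hxZ : z ^ j * y ∉ Z := fun h => hyZ ((Z.mul_mem_cancel_left (pow_mem hz j)).1 h)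
      have hxr : (z ^ j * y) ^ r = 1 := by
        rw [Commute.mul_pow (hcent _ (pow_mem hz j) y), ← pow_mul, mul_comm, pow_mul, hzr, one_pow,
          one_mul, hyr1]
      have hxo : orderOf (z ^ j * y) = r ^ 1 := by
        rw [pow_one]; exact orderOf_eq_prime hxr fun e => hxZ (e ▸ one_mem Z)
      obtain ⟨v, hv, hxv⟩ := hfixv _ r hKp hrq ⟨1, hxo⟩ hxZ
      have hyv : φ y v = v ^ (a ^ j) := by
        rw [← hwpow j v]
        conv_rhs => rw [← hxv]
        rw [← hmul, hw', inv_pow, inv_mul_cancel_left]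
      have h1 := hm v
      rw [hyv, div_eq_mul_inv, map_mul, map_inv, map_zpow, hyv, ← zpow_mul, ← zpow_neg, ← zpow_add,
        ← zpow_neg_one v, ← zpow_add, ← zpow_mul] at h1
      have h2 := cast_eq_of_zpow hexp hv h1
      push_cast at h2
      linear_combination h2
    have ha1 : (a : ZMod q) ≠ 1 := by
      intro e
      refine hw1 (ext' fun u => ?_)
      rw [hone, ha, zpow_eq_of_cast hexp (b := 1) (by simpa using e), zpow_one]
    have ham : (a : ZMod q) = m := by
      have h1 := hkey 1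
      rw [pow_one] at h1
      rcases mul_eq_zero.1 h1 with h | h
      · exact absurd (sub_eq_zero.1 h) ha1
      · exact sub_eq_zero.1 h
    have ha0 : (a : ZMod q) ≠ 0 := by
      intro e
      obtain ⟨u, hu⟩ := exists_ne (1 : V)
      have h1 := ha u
      rw [zpow_eq_of_cast hexp (b := 0) (by simpa using e), zpow_zero] at h1
      exact hu (by simpa using h1)
    have haneg : (a : ZMod q) = -1 := by
      have h1 := hkey 2
      rw [← ham] at h1
      rcases mul_eq_zero.1 h1 with h | h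
      · have : ((a : ZMod q) - 1) * ((a : ZMod q) + 1) = 0 := by linear_combination h
        rcases mul_eq_zero.1 this with h' | h'
        · exact absurd (sub_eq_zero.1 h') ha1
        · linear_combination h'
      · have : (a : ZMod q) * ((a : ZMod q) - 1) = 0 := by linear_combination h
        rcases mul_eq_zero.1 this with h' | h'
        · exact absurd h' ha0
        · exact absurd (sub_eq_zero.1 h') ha1
    have hwneg : ∀ u : V, φ w u = u⁻¹ := fun u => by
      rw [ha, zpow_eq_of_cast hexp (b := -1) (by simpa using haneg), zpow_neg_one]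
    have hww : w * w = 1 := ext' fun u => by rw [hmul, hwneg, hwneg, inv_inv, hone]
    have hr2 : r = 2 := by
      have hzz : z ^ 2 = 1 := by
        rw [← inv_inj, ← inv_pow, ← hw', pow_two, hww, inv_one]
      by_contra hne
      have := pow_gcd_eq_one.2 ⟨hzr, hzz⟩
      rw [show Nat.gcd r 2 = 1 from (Nat.coprime_primes hKp Nat.prime_two).2 hne, pow_one] at this
      exact hz1 this
    have hq2 : (2 : ZMod q) ≠ 0 := by
      intro e
      rw [show (2 : ZMod q) = ((2 : ℕ) : ZMod q) by norm_num, ZMod.natCast_eq_zero_iff,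
        Nat.prime_dvd_prime_iff_eq hq Nat.prime_two] at e
      exact hrq (hr2.trans e.symm)
    have hyy : y * y = 1 := by rw [← pow_two, ← hr2, hyr1]
    have hdich : ∀ g : A, g * y = y * g ∨ g * y = y * g * w := by
      intro g
      obtain ⟨i, z', hz', he⟩ := hgen g
      have hodd : y ^ i = y := by
        rcases Nat.even_or_odd i with ⟨c, hc⟩ | ⟨c, hc⟩
        · exfalso
          rw [hc, ← two_mul, pow_mul, pow_two, hyy, one_pow, one_mul] at he
          refine hyZ ?_
          have : y = g⁻¹ * z' * g⁻¹⁻¹ := by rw [← he]; group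
          rw [this]; exact hZn.conj_mem _ hz' _
        · rw [hc, pow_succ, pow_mul, pow_two, hyy, one_pow, one_mul]
      rw [hodd] at he
      have hsq := hzpow g 1 z' hz' (by rw [pow_one]; exact he) 2 (by rw [pow_two, hyy])
      obtain ⟨b, hb⟩ := hz'
      obtain ⟨u, hu⟩ := exists_ne (1 : V)
      have h2 : φ (z' ^ 2) u = u ^ (b * b) := by rw [pow_two, hmul, hb, hb, ← zpow_mul]
      rw [hsq, hone] at h2
      have h3 := cast_eq_of_zpow hexp hu ((zpow_one u).trans h2)
      push_cast at h3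
      have h4 : ((b : ZMod q) - 1) * ((b : ZMod q) + 1) = 0 := by linear_combination -h3
      rcases mul_eq_zero.1 h4 with h5 | h5
      · left
        have : z' = 1 := ext' fun x => by
          rw [hone, hb, zpow_eq_of_cast hexp (b := 1) (by simpa using sub_eq_zero.1 h5), zpow_one]
        rw [this, mul_one] at he
        exact mul_inv_eq_iff_eq_mul.1 he
      · right
        have : z' = w := ext' fun x => by
          rw [hwneg, hb, zpow_eq_of_cast hexp (b := -1) (by simpa using eq_neg_of_add_eq_zero_left h5),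
            zpow_neg_one]
        rw [this] at he
        rw [mul_inv_eq_iff_eq_mul] at he
        rw [he, mul_assoc, hcent w hwZ g, mul_assoc]
    -- a 2-element swapping the eigenspaces has order two
    have hswap : ∀ t : A, (∃ c : ℕ, orderOf t = 2 ^ c) → t * y = y * t * w → t * t = 1 := by
      intro t ht hty
      obtain ⟨n, hn⟩ := hexpo t r hKp hrq (hr2 ▸ ht)
      have hyt : y * t = t * y * w := by
        rw [hty, mul_assoc, hww, mul_one]
      set b := φ t v0 with hb
      have hyb : φ y b = b⁻¹ := by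
        rw [hb, ← hmul, hyt, hmul, hmul, hwneg, map_inv, map_inv, hyv0]
      have hyc : φ y (φ t b) = φ t b := by
        rw [← hmul, hyt, hmul, hmul, hwneg, map_inv, map_inv, hyb, map_inv, inv_inv]
      have hb1 : b ≠ 1 := fun e => hv0 ((φ t).injective (e.trans (map_one _).symm))
      have h1 := hn v0
      rw [← hb, map_div, ← hb] at h1
      have h2 := congrArg (φ y) h1
      rw [map_div, hyc, hyb, map_zpow, map_div, hyb, hyv0] at h2
      have h3 : b ^ (2 : ℤ) = b ^ (-2 * n) := by
        calc b ^ (2 : ℤ) = (φ t b / b⁻¹) / (φ t b / b) := by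
              rw [zpow_two]; simp [div_eq_mul_inv, mul_comm, mul_left_comm]
          _ = (b⁻¹ / v0) ^ n / (b / v0) ^ n := by rw [h2, h1]
          _ = ((b⁻¹ / v0) / (b / v0)) ^ n := (div_zpow _ _ _).symm
          _ = b ^ (-2 * n) := by
              rw [div_div_div_cancel_right, zpow_mul, div_eq_mul_inv, ← zpow_neg_one b, ← zpow_add]
              norm_num
      have h4 := cast_eq_of_zpow hexp hb1 h3
      push_cast at h4
      have h5 : (n : ZMod q) = -1 := by
        have h6 : (2 : ZMod q) * ((n : ZMod q) + 1) = 0 := by linear_combination h4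
        rcases mul_eq_zero.1 h6 with h7 | h7
        · exact absurd h7 hq2
        · linear_combination h7
      refine ext' fun u => ?_
      have h8 := hn u
      rw [zpow_eq_of_cast hexp (b := -1) (by simpa using h5), zpow_neg_one, inv_div, map_div] at h8
      rw [hone, hmul]
      exact div_left_injective h8
    obtain ⟨g1, hg1⟩ : ∃ g : A, g * y = y * g * w := by
      by_contra hn
      refine hnop ⟨v0, hv0, hyv0⟩ fun g => ⟨1, ?_⟩
      rcases hdich g with h | h
      · rw [pow_one, h, mul_inv_cancel_right]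
      · exact absurd ⟨g, h⟩ hn
    have hpar : ∀ n : ℕ, g1 ^ n * y = y * g1 ^ n * w ^ n := by
      intro n
      induction n with
      | zero => simp
      | succ n ih =>
        rw [pow_succ' g1 n, mul_assoc, ih, ← mul_assoc, ← mul_assoc, hg1, pow_succ' w n]
        simp only [mul_assoc]
        rw [← mul_assoc w (g1 ^ n), hcent w hwZ (g1 ^ n), mul_assoc]
    obtain ⟨c, k', hk', hck⟩ := Nat.exists_eq_pow_mul_and_not_dvd (orderOf_pos g1).ne' 2 (by norm_num)
    obtain ⟨l, hl⟩ := Nat.odd_iff.2 (by omega : k' % 2 = 1)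
    set t := g1 ^ k' with ht'
    have hty : t * y = y * t * w := by
      rw [ht', hpar, hl, pow_succ w, pow_mul, pow_two, hww, one_pow, one_mul]
    have htord : ∃ e : ℕ, orderOf t = 2 ^ e := by
      have : t ^ 2 ^ c = 1 := by rw [ht', ← pow_mul, mul_comm, ← hck, pow_orderOf_eq_one]
      obtain ⟨e, -, he⟩ := (Nat.dvd_prime_pow Nat.prime_two).1 (orderOf_dvd_of_pow_eq_one this)
      exact ⟨e, he⟩
    have htt := hswap t htord hty
    have hyt : y * t = t * y * w := by rw [hty, mul_assoc, hww, mul_one]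
    have hsq : t * y * (t * y) = w := by
      calc t * y * (t * y) = t * (y * t) * y := by group
        _ = t * (t * y * w) * y := by rw [hyt]
        _ = (t * t) * y * (w * y) := by group
        _ = w := by rw [htt, hcent w hwZ y, one_mul, ← mul_assoc, hyy, one_mul]
    have h4 : (t * y) ^ (2 ^ 2) = 1 := by
      rw [show (2 ^ 2 : ℕ) = 2 * 2 by norm_num, pow_mul, pow_two, pow_two, hsq, hww]
    obtain ⟨e', -, he'⟩ := (Nat.dvd_prime_pow Nat.prime_two).1 (orderOf_dvd_of_pow_eq_one h4)
    have := hswap (t * y) ⟨e', he'⟩ (by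
      calc t * y * y = t := by rw [mul_assoc, hyy, mul_one]
        _ = y * y * t * (w * w) := by rw [hyy, hww, one_mul, mul_one]
        _ = y * (y * t * w) * w := by group
        _ = y * (t * y) * w := by rw [hty])
    exact hw1 (hsq ▸ this)

theorem lift_pow {G : Type u} {A : Type v} [Group G] [Finite G] [Group A] (f : G →* A)
    (hf : Function.Surjective f) {p : ℕ} (hp : p.Prime) {x' : A} (h : ∃ a : ℕ, orderOf x' = p ^ a) :
    ∃ x : G, f x = x' ∧ ∃ a : ℕ, orderOf x = p ^ a := by
  obtain ⟨a, ha⟩ := h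
  obtain ⟨g, rfl⟩ := hf x'
  obtain ⟨e, k, hk, hek⟩ := Nat.exists_eq_pow_mul_and_not_dvd (orderOf_pos g).ne' p hp.ne_one
  obtain ⟨j, hj⟩ := Nat.chineseRemainder ((Nat.Coprime.pow_left a (hp.coprime_iff_not_dvd.2 hk)))
    1 0
  refine ⟨g ^ j, ?_, ?_⟩
  · rw [map_pow]
    conv_rhs => rw [← pow_one (f g)]
    rw [pow_eq_pow_iff_modEq, ha]
    exact hj.1
  · have : (g ^ j) ^ p ^ e = 1 := by
      obtain ⟨c, hc⟩ := Nat.modEq_zero_iff_dvd.1 hj.2
      rw [← pow_mul, hc, show k * c * p ^ e = p ^ e * k * c by ring, ← hek, pow_mul,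
        pow_orderOf_eq_one, one_pow]
    obtain ⟨e', -, he'⟩ := (Nat.dvd_prime_pow hp).1 (orderOf_dvd_of_pow_eq_one this)
    exact ⟨e', he'⟩

/-- The hypothesis of the criterion. -/
def Hyp (G : Type u) [Group G] : Prop :=
  ∀ (p q : ℕ), p.Prime → q.Prime → p ≠ q → ∀ (x g : G), (∃ a : ℕ, orderOf x = p ^ a) →
    (∃ b : ℕ, orderOf g = q ^ b) → ¬ q ^ 2 ∣ Nat.card ↥(zpowers x ⊔ zpowers (g * x * g⁻¹))

theorem hyp_subgroup {G : Type u} [Group G] [Finite G] (h : Hyp G) (H : Subgroup G) : Hyp H := by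
  intro p q hp hq hpq x g hx hg hd
  refine h p q hp hq hpq (x : G) (g : G) (by simpa [Subgroup.orderOf_coe] using hx)
    (by simpa [Subgroup.orderOf_coe] using hg) ?_
  have e : (zpowers x ⊔ zpowers (g * x * g⁻¹)).map H.subtype =
      zpowers (x : G) ⊔ zpowers ((g : G) * x * (g : G)⁻¹) := by
    rw [Subgroup.map_sup, MonoidHom.map_zpowers, MonoidHom.map_zpowers]; rfl
  rw [← e, Subgroup.card_map_of_injective H.subtype_injective]
  exact hd

theorem hyp_quotient {G : Type u} [Group G] [Finite G] (h : Hyp G) (N : Subgroup G) [N.Normal] :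
    Hyp (G ⧸ N) := by
  intro p q hp hq hpq x g hx hg hd
  obtain ⟨x', rfl, hx'⟩ := lift_pow _ (QuotientGroup.mk'_surjective N) hp hx
  obtain ⟨g', rfl, hg'⟩ := lift_pow _ (QuotientGroup.mk'_surjective N) hq hg
  refine h p q hp hq hpq x' g' hx' hg' (hd.trans ?_)
  rw [← map_inv, ← map_mul, ← map_mul, ← MonoidHom.map_zpowers, ← MonoidHom.map_zpowers,
    ← Subgroup.map_sup]
  exact Subgroup.card_map_dvd _ _

theorem main : ∀ (n : ℕ) (G : Type u) [Group G] [Finite G], Nat.card G ≤ n → Hyp G →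
    Cfsg.IsSupersolvable G := by
  intro n
  induction n with
  | zero => intro G _ _ hn; exact absurd hn (not_le.mpr Nat.card_pos)
  | succ n ih =>
    intro G _ _ hn h
    classical
    rcases subsingleton_or_nontrivial G with hs | hnt
    · exact Cfsg.Agent.Solv.isSupersolvable_of_subsingleton
    have hsub : ∀ H : Subgroup G, H ≠ ⊤ → Cfsg.IsSupersolvable H := fun H hH =>
      ih H (by
        have h1 : Nat.card H < Nat.card G :=
          lt_of_le_of_ne (Subgroup.card_le_card_group H) fun e => hH (Subgroup.eq_top_of_card_eq H e)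
        omega) (hyp_subgroup h H)
    have hquo : ∀ N : Subgroup G, N ≠ ⊥ → ∀ [N.Normal], Cfsg.IsSupersolvable (G ⧸ N) :=
      fun N hN _ => ih _ (by have := Cfsg.Agent.Solv.card_quotient_lt hN; omega) (hyp_quotient h N)
    have hsol : Group.IsSolvable G := by
      by_cases hsimp : IsSimpleGroup G
      · by_contra hns
        refine not_simple (fun hc => hns (IsSimpleGroup.comm_iff_isSolvable.1 hc)) hsub
      · obtain ⟨N, hNn, hNb, hNt⟩ : ∃ N : Subgroup G, N.Normal ∧ N ≠ ⊥ ∧ N ≠ ⊤ := by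
          by_contra hno
          push Not at hno
          exact hsimp ⟨fun N hN => or_iff_not_imp_left.2 (hno N hN)⟩
        haveI := isSolvable_of_ss (hsub N hNt)
        haveI := isSolvable_of_ss (hquo N hNb)
        exact solvable_of_ker_le_range N.subtype (QuotientGroup.mk' N)
          (by rw [QuotientGroup.ker_mk', Subgroup.range_subtype])
    haveI := hsol
    obtain ⟨N, hNn, -, hNb, hmin⟩ :=
      Cfsg.Agent.Solv.exists_minimal_normal_le (N := (⊤ : Subgroup G)) top_ne_bot
    haveI := hNn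
    obtain ⟨hab, q, hq, hexp⟩ := Cfsg.Agent.Solv.minimal_normal_elementary N hNb hmin
    haveI : Fact q.Prime := ⟨hq⟩
    refine Cfsg.Agent.Solv.isSupersolvable_of_prime_normal N ?_ (hquo N hNb)
    letI : CommGroup N :=
      { (inferInstance : Group N) with mul_comm := fun a b => hab.is_comm.comm a b }
    haveI : Nontrivial N := (nontrivial_iff_ne_bot N).2 hNb
    have hexp' : ∀ v : N, v ^ q = 1 := fun v => Subtype.ext (by simpa using hexp v v.2)
    let φ₀ : G →* MulAut N := MulAut.conjNormal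
    have hA : Cfsg.IsSupersolvable φ₀.range := by
      have hle : N ≤ φ₀.rangeRestrict.ker := by
        intro m hm
        rw [MonoidHom.ker_rangeRestrict, MonoidHom.mem_ker]
        ext v
        have hc : m * (v : G) = v * m := congrArg Subtype.val (hab.is_comm.comm ⟨m, hm⟩ v)
        simp [φ₀, MulAut.conjNormal_apply, hc]
      exact Cfsg.Agent.Solv.isSupersolvable_of_surjective (QuotientGroup.lift N φ₀.rangeRestrict hle)
        (QuotientGroup.lift_surjective_of_surjective _ _ φ₀.rangeRestrict_surjective _) (hquo N hNb)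
    have hcore := core hq hexp' φ₀.range.subtype Subtype.coe_injective hA ?_ ?_
    · obtain ⟨v, hv⟩ := exists_ne (1 : N)
      have hT : (zpowers (v : G)).Normal := ⟨fun u hu g => by
        obtain ⟨k, rfl⟩ := mem_zpowers_iff.1 hu
        obtain ⟨m, hm⟩ := hcore ⟨φ₀ g, g, rfl⟩
        have h1 : g * (v : G) * g⁻¹ = ((v : G)) ^ m := by
          have := congrArg Subtype.val (hm v)
          simpa [φ₀, MulAut.conjNormal_apply] using this
        rw [← conj_zpow, h1, ← zpow_mul]
        exact zpow_mem (mem_zpowers _) _⟩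
      rcases hmin _ hT (zpowers_le.2 v.2) with e | e
      · rw [zpowers_eq_bot] at e
        exact absurd (Subtype.ext e) hv
      · rw [← e, Nat.card_zpowers, Subgroup.orderOf_coe, orderOf_eq_prime (hexp' v) hv]
        exact hq
    · intro W hW
      have hWn : (W.map N.subtype).Normal := ⟨by
        rintro _ ⟨w, hw, rfl⟩ g
        exact ⟨φ₀ g w, hW ⟨φ₀ g, g, rfl⟩ w hw, by simp [φ₀, MulAut.conjNormal_apply]⟩⟩
      rcases hmin _ hWn (Subgroup.map_subtype_le W) with e | e
      · exact Or.inl ((Subgroup.map_eq_bot_iff_of_injective W N.subtype_injective).1 e)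
      · refine Or.inr (Subgroup.map_injective N.subtype_injective ?_)
        rw [e, ← MonoidHom.range_eq_map, Subgroup.range_subtype]
    · intro x' r hr hrq hx' v
      obtain ⟨x, hx, hxo⟩ := lift_pow φ₀.rangeRestrict φ₀.rangeRestrict_surjective hr hx'
      subst hx
      set c : N := φ₀ x v / v with hc
      have hgoal : φ₀ x c ∈ zpowers c → φ₀.range.subtype (φ₀.rangeRestrict x) c ∈ zpowers c := id
      apply hgoal
      by_contra hn
      have hv : orderOf (v : G) ∣ q := orderOf_dvd_of_pow_eq_one (hexp v v.2)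
      obtain ⟨b, -, hb⟩ := (Nat.dvd_prime_pow hq).1 (hv.trans (dvd_of_eq (pow_one q).symm))
      refine h r q hr hq hrq x v hxo ⟨b, hb⟩ ?_
      set H := zpowers x ⊔ zpowers ((v : G) * x * (v : G)⁻¹)
      have hxH : x ∈ H := mem_sup_left (mem_zpowers x)
      have hcH : (c : G) ∈ H := by
        have : (c : G) = x * ((v : G) * x * (v : G)⁻¹)⁻¹ := by
          simp [hc, φ₀, MulAut.conjNormal_apply, div_eq_mul_inv, mul_assoc]
        rw [this]
        exact mul_mem hxH (inv_mem (mem_sup_right (mem_zpowers _)))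
      have hcH' : ((φ₀ x c : N) : G) ∈ H := by
        simp only [φ₀, MulAut.conjNormal_apply]
        exact mul_mem (mul_mem hxH hcH) (inv_mem hxH)
      have hc1 : c ≠ 1 := fun e => hn (by rw [e, map_one]; exact one_mem _)
      set S : Subgroup N := zpowers c ⊔ zpowers (φ₀ x c)
      have hSH : S.map N.subtype ≤ H := by
        rw [Subgroup.map_sup, MonoidHom.map_zpowers, MonoidHom.map_zpowers]
        exact sup_le (zpowers_le.2 hcH) (zpowers_le.2 hcH')
      refine dvd_trans ?_ (Subgroup.card_dvd_of_le hSH)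
      rw [Subgroup.card_map_of_injective N.subtype_injective]
      have hN : IsPGroup q S := fun s => ⟨1, Subtype.ext (by
        rw [pow_one, SubgroupClass.coe_pow]; exact hexp' _)⟩
      obtain ⟨s, hs⟩ := IsPGroup.iff_card.1 hN
      have h1 : q < Nat.card S := by
        rw [← orderOf_eq_prime (hexp' c) hc1, ← Nat.card_zpowers]
        refine lt_of_le_of_ne (Subgroup.card_le_of_le le_sup_left) fun e => hn ?_
        rw [eq_of_le_of_card_ge le_sup_left e.ge]
        exact mem_sup_right (mem_zpowers _)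
      rw [hs] at h1 ⊢
      apply pow_dvd_pow
      by_contra hlt
      have := Nat.pow_le_pow_right hq.one_le (by omega : s ≤ 1)
      rw [pow_one] at this
      omega


/-- Let G be a finite group such that for every pair of distinct primes p and q, every p-element x and every q-element g of G, the order of the subgroup generated by x and g x g⁻¹ is not divisible by q². Then G is supersolvable. -/
theorem result {G : Type*} [Group G] [Finite G]
    (h : ∀ (p q : ℕ), p.Prime → q.Prime → p ≠ q → ∀ (x g : G), (∃ a : ℕ, orderOf x = p ^ a) → (∃ b : ℕ, orderOf g = q ^ b) →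
      ¬ q ^ 2 ∣ Nat.card ↥(Subgroup.zpowers x ⊔ Subgroup.zpowers (g * x * g⁻¹))) :
    Cfsg.IsSupersolvable G := by
  exact main _ G le_rfl h

end Cfsg.Agent.S3033
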