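import Cfsg.Statements.S3037
import Cfsg.Agent.Lib.Local.ChermakDelgado
-- import your own Cfsg.Agent.* helpers here

set_option autoImplicit false
open Cfsg

namespace Cfsg.Agent.S3037

/-- Let V and G be subgroups of a finite group with V an elementary abelian p-group (p prime) on which G acts faithfully and irreducibly by conjugation: G normalizes V, G ∩ C(V) = 1, and the only subgroups of V normalized by G are 1 and V. If for some nontrivial subgroup A of G and some real α > 0 one has |V| ≤ |A|^α · |C_V(A)|, then |V| ≤ |G|^α. -/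
theorem result {X : Type*} [Group X] [Finite X] {p : ℕ} [Fact p.Prime] (V G : Subgroup X) (hV : Cfsg.IsElementaryAbelian p V)
    (hGV : G ≤ Subgroup.normalizer (V : Set X)) (hfaith : G ⊓ Subgroup.centralizer (V : Set X) = ⊥)
    (hirr : ∀ W : Subgroup X, W ≤ V → G ≤ Subgroup.normalizer (W : Set X) → W = ⊥ ∨ W = V)
    (A : Subgroup X) (hA : A ≤ G) (hA1 : A ≠ ⊥) (α : ℝ) (hα : 0 < α)
    (hbig : (Nat.card V : ℝ) ≤ (Nat.card A : ℝ) ^ α * (Nat.card ↥(V ⊓ Subgroup.centralizer (A : Set X)) : ℝ)) :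
    (Nat.card V : ℝ) ≤ (Nat.card G : ℝ) ^ α := by
  classical
  obtain ⟨f, hf⟩ : ∃ f : Subgroup X → ℝ,
      ∀ B, f B = (Nat.card B : ℝ) ^ α * (Nat.card ↥(V ⊓ Subgroup.centralizer (B : Set X)) : ℝ) :=
    ⟨_, fun _ => rfl⟩
  haveI : Fintype (Subgroup X) := Fintype.ofFinite _
  set S := (Finset.univ : Finset (Subgroup X)).filter (fun B => B ≤ G) with hS
  have hSne : S.Nonempty := ⟨⊥, by simp [hS]⟩
  obtain ⟨B₁, hB₁, hB₁max⟩ := S.exists_max_image f hSne
  set T := S.filter (fun B => f B = f B₁) with hT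
  obtain ⟨B₀, hB₀, hB₀max⟩ := T.exists_max_image (fun B : Subgroup X => Nat.card B)
    ⟨B₁, Finset.mem_filter.2 ⟨hB₁, rfl⟩⟩
  have hB₀G : B₀ ≤ G := (Finset.mem_filter.1 (Finset.mem_filter.1 hB₀).1).2
  have hB₀f : f B₀ = f B₁ := (Finset.mem_filter.1 hB₀).2
  have hfle : ∀ B : Subgroup X, B ≤ G → f B ≤ f B₀ := fun B hB => by
    rw [hB₀f]; exact hB₁max B (by simp [hS, hB])
  have hpos : ∀ B : Subgroup X, 0 < f B := fun B => by
    rw [hf]
    have h1 : (0 : ℝ) < Nat.card B := by exact_mod_cast Nat.card_pos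
    have h2 : (0 : ℝ) < Nat.card ↥(V ⊓ Subgroup.centralizer (B : Set X)) := by exact_mod_cast Nat.card_pos
    positivity
  have hjoin : ∀ B C : Subgroup X, f B * f C ≤ f (B ⊔ C) * f (B ⊓ C) := by
    intro B C
    obtain ⟨h1, -⟩ := Cfsg.Agent.Local.CDMeasure.card_mul_le_card_sup B C
    set CB := V ⊓ Subgroup.centralizer (B : Set X)
    set CC := V ⊓ Subgroup.centralizer (C : Set X)
    obtain ⟨h2, -⟩ := Cfsg.Agent.Local.CDMeasure.card_mul_le_card_sup CB CC
    have h3 : Nat.card ↥(CB ⊔ CC) ≤ Nat.card ↥(V ⊓ Subgroup.centralizer ((B ⊓ C : Subgroup X) : Set X)) :=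
      Subgroup.card_le_of_le (sup_le (inf_le_inf_left _ (Subgroup.centralizer_le inf_le_left))
        (inf_le_inf_left _ (Subgroup.centralizer_le inf_le_right)))
    have h4 : Nat.card ↥(CB ⊓ CC) ≤ Nat.card ↥(V ⊓ Subgroup.centralizer ((B ⊔ C : Subgroup X) : Set X)) := by
      refine Subgroup.card_le_of_le fun v hv => ?_
      obtain ⟨⟨hvV, hvB⟩, -, hvC⟩ := hv
      have h : B ⊔ C ≤ Subgroup.centralizer ({v} : Set X) := sup_le
        (fun b hb => Subgroup.mem_centralizer_singleton_iff.2 (Subgroup.mem_centralizer_iff.1 hvB b hb))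
        (fun b hb => Subgroup.mem_centralizer_singleton_iff.2 (Subgroup.mem_centralizer_iff.1 hvC b hb))
      exact Subgroup.mem_inf.2 ⟨hvV, Subgroup.mem_centralizer_iff.2 fun b hb =>
        Subgroup.mem_centralizer_singleton_iff.1 (h hb)⟩
    have h5 : Nat.card CB * Nat.card CC ≤
        Nat.card ↥(V ⊓ Subgroup.centralizer ((B ⊔ C : Subgroup X) : Set X)) *
          Nat.card ↥(V ⊓ Subgroup.centralizer ((B ⊓ C : Subgroup X) : Set X)) :=
      h2.trans (by rw [mul_comm (Nat.card ↥(CB ⊔ CC))]; exact Nat.mul_le_mul h4 h3)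
    rw [hf, hf, hf, hf]
    calc (Nat.card B : ℝ) ^ α * Nat.card CB * ((Nat.card C : ℝ) ^ α * Nat.card CC)
        = ((Nat.card B : ℝ) * Nat.card C) ^ α * ((Nat.card CB : ℝ) * Nat.card CC) := by
          rw [Real.mul_rpow (Nat.cast_nonneg _) (Nat.cast_nonneg _)]; ring
      _ ≤ ((Nat.card ↥(B ⊔ C) : ℝ) * Nat.card ↥(B ⊓ C)) ^ α *
            ((Nat.card ↥(V ⊓ Subgroup.centralizer ((B ⊔ C : Subgroup X) : Set X)) : ℝ) *
              Nat.card ↥(V ⊓ Subgroup.centralizer ((B ⊓ C : Subgroup X) : Set X))) := by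
          refine mul_le_mul (Real.rpow_le_rpow (by positivity) (by exact_mod_cast h1) hα.le)
            (by exact_mod_cast h5) (by positivity) (by positivity)
      _ = _ := by
          rw [Real.mul_rpow (Nat.cast_nonneg _) (Nat.cast_nonneg _)]; ring
  have habs : ∀ B : Subgroup X, B ≤ G → f B = f B₀ → B ≤ B₀ := by
    intro B hB hBf
    have h1 := hjoin B B₀
    have h2 : f (B ⊔ B₀) = f B₀ := by
      refine le_antisymm (hfle _ (sup_le hB hB₀G)) ?_
      have h3 : f B₀ * f B₀ ≤ f (B ⊔ B₀) * f B₀ := by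
        calc f B₀ * f B₀ = f B * f B₀ := by rw [hBf]
          _ ≤ f (B ⊔ B₀) * f (B ⊓ B₀) := h1
          _ ≤ _ := mul_le_mul_of_nonneg_left (hfle _ (inf_le_right.trans hB₀G)) (hpos _).le
      exact le_of_mul_le_mul_right h3 (hpos _)
    have h4 := hB₀max (B ⊔ B₀) (Finset.mem_filter.2 ⟨by simp [hS, hB, hB₀G], h2.trans hB₀f⟩)
    exact le_sup_left.trans (Subgroup.eq_of_le_of_card_ge (le_sup_right : B₀ ≤ B ⊔ B₀) h4).ge
  have hconjV : ∀ g ∈ G, ∀ v, v ∈ V ↔ g * v * g⁻¹ ∈ V := fun g hg v =>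
    Subgroup.mem_normalizer_iff.1 (hGV hg) v
  have hBn : ∀ g ∈ G, B₀.map (MulAut.conj g).toMonoidHom ≤ B₀ := by
    intro g hg
    refine habs _ ?_ ?_
    · rintro _ ⟨b, hb, rfl⟩
      exact mul_mem (mul_mem hg (hB₀G hb)) (inv_mem hg)
    · rw [hf, hf]
      have e1 : Nat.card ↥(B₀.map (MulAut.conj g).toMonoidHom) = Nat.card B₀ :=
        Subgroup.card_map_of_injective (MulAut.conj g).injective
      have e2 : V ⊓ Subgroup.centralizer ((B₀.map (MulAut.conj g).toMonoidHom : Subgroup X) : Set X) =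
          (V ⊓ Subgroup.centralizer (B₀ : Set X)).map (MulAut.conj g).toMonoidHom := by
        ext v
        constructor
        · rintro ⟨hvV, hvC⟩
          refine ⟨g⁻¹ * v * g, Subgroup.mem_inf.2 ⟨?_, ?_⟩, by simp [mul_assoc]⟩
          · simpa using (hconjV g⁻¹ (inv_mem hg) v).1 hvV
          · refine Subgroup.mem_centralizer_iff.2 fun b hb => ?_
            have := Subgroup.mem_centralizer_iff.1 hvC (g * b * g⁻¹) ⟨b, hb, rfl⟩
            calc b * (g⁻¹ * v * g) = g⁻¹ * ((g * b * g⁻¹) * v) * g := by group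
              _ = g⁻¹ * (v * (g * b * g⁻¹)) * g := by rw [this]
              _ = g⁻¹ * v * g * b := by group
        · rintro ⟨w, ⟨hwV, hwC⟩, rfl⟩
          refine Subgroup.mem_inf.2 ⟨(hconjV g hg w).1 hwV, Subgroup.mem_centralizer_iff.2 ?_⟩
          rintro _ ⟨b, hb, rfl⟩
          simp only [MulEquiv.coe_toMonoidHom, MulAut.conj_apply]
          calc g * b * g⁻¹ * (g * w * g⁻¹) = g * (b * w) * g⁻¹ := by group
            _ = g * (w * b) * g⁻¹ := by rw [Subgroup.mem_centralizer_iff.1 hwC b hb]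
            _ = g * w * g⁻¹ * (g * b * g⁻¹) := by group
      rw [e1, e2, Subgroup.card_map_of_injective (MulAut.conj g).injective]
  have hnorm : G ≤ Subgroup.normalizer ((V ⊓ Subgroup.centralizer (B₀ : Set X) : Subgroup X) : Set X) := by
    have key : ∀ g ∈ G, ∀ v ∈ V ⊓ Subgroup.centralizer (B₀ : Set X),
        g * v * g⁻¹ ∈ V ⊓ Subgroup.centralizer (B₀ : Set X) := by
      intro g hg v hv
      refine Subgroup.mem_inf.2 ⟨(hconjV g hg v).1 hv.1, Subgroup.mem_centralizer_iff.2 fun b hb => ?_⟩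
      have hb' : g⁻¹ * b * g ∈ B₀ := hBn g⁻¹ (inv_mem hg) ⟨b, hb, by simp⟩
      have := Subgroup.mem_centralizer_iff.1 hv.2 _ hb'
      calc b * (g * v * g⁻¹) = g * ((g⁻¹ * b * g) * v) * g⁻¹ := by group
        _ = g * (v * (g⁻¹ * b * g)) * g⁻¹ := by rw [this]
        _ = g * v * g⁻¹ * b := by group
    intro g hg
    refine Subgroup.mem_normalizer_iff.2 fun v => ⟨key g hg v, fun hv => ?_⟩
    have := key g⁻¹ (inv_mem hg) _ hv
    simpa [mul_assoc] using this
  have hbot : f ⊥ = (Nat.card V : ℝ) := by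
    rw [hf, Subgroup.card_bot, Nat.cast_one, Real.one_rpow, one_mul,
      inf_eq_left.2 (fun v _ => Subgroup.mem_centralizer_iff.2 fun b hb => by
        rw [Subgroup.mem_bot.1 hb, one_mul, mul_one])]
  rcases hirr _ inf_le_left hnorm with h | h
  · have h1 := hfle ⊥ bot_le
    rw [hbot, hf, h, Subgroup.card_bot, Nat.cast_one, mul_one] at h1
    exact h1.trans (Real.rpow_le_rpow (Nat.cast_nonneg _) (by exact_mod_cast Subgroup.card_le_of_le hB₀G) hα.le)
  · exfalso
    have hB0 : B₀ = ⊥ := by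
      rw [eq_bot_iff, ← hfaith]
      refine le_inf hB₀G fun b hb => Subgroup.mem_centralizer_iff.2 fun v hv => ?_
      exact (Subgroup.mem_centralizer_iff.1 ((h.ge hv).2) b hb).symm
    have h1 : f A = f B₀ := by
      refine le_antisymm (hfle A hA) ?_
      rw [hB0, hbot, hf]
      exact hbig
    exact hA1 (le_bot_iff.1 (hB0 ▸ habs A hA h1))

end Cfsg.Agent.S3037
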