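import Cfsg.Statements.S3049
import Cfsg.Agent.Lib.Solv.NormalPComplement
import Cfsg.Agent.Lib.Solv.Misc
import Cfsg.Agent.Lib.Solv.Subnormal
import Cfsg.Agent.Lib.Local.Basic
import Cfsg.Agent.Lib.Local.Component
import Cfsg.Agent.Lib.Local.FStar
import Cfsg.Agent.Lib.Local.OrderPFix
-- import your own Cfsg.Agent.* helpers here

set_option autoImplicit false
open Cfsg

namespace Cfsg.Agent.S3049

open Subgroup
open scoped commutatorElement

section Helpers

variable {G : Type*} [Group G] [Finite G] {p : ℕ} [Fact p.Prime]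

theorem gen_mem {a y : G} (ha : orderOf a = p) (hy : y ∈ zpowers a) (hy1 : y ≠ 1) :
    a ∈ zpowers y := by
  have hle : zpowers y ≤ zpowers a := zpowers_le.2 hy
  have hyo : orderOf y = p := by
    have hd := orderOf_dvd_of_mem_zpowers hy
    rw [ha] at hd
    rcases (Nat.dvd_prime (Fact.out : p.Prime)).1 hd with e | e
    · exact absurd (orderOf_eq_one_iff.1 e) hy1
    · exact e
  have he : zpowers y = zpowers a :=
    eq_of_le_of_card_ge hle (by rw [Nat.card_zpowers, Nat.card_zpowers, hyo, ha])
  rw [he]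
  exact mem_zpowers a

theorem rank_two (hrank : Cfsg.PRankLE p 2 G) {a b c : G} (ha : orderOf a = p) (hb : b ^ p = 1)
    (hc : c ^ p = 1) (hab : Commute a b) (hac : Commute a c) (hbc : Commute b c)
    (hba : b ∉ zpowers a) : ∃ i j : ℤ, c = a ^ i * b ^ j := by
  set A := closure ({a, b, c} : Set G) with hA
  set W := closure ({a, b} : Set G) with hW
  have hWA : W ≤ A := closure_mono (by
    intro t ht
    rcases ht with rfl | rfl
    · exact Or.inl rfl
    · exact Or.inr (Or.inl rfl))
  haveI hAc : IsMulCommutative A := Subgroup.isMulCommutative_closure (by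
    intro s hs t ht
    rcases hs with rfl | rfl | rfl <;> rcases ht with rfl | rfl | rfl
    all_goals first
      | rfl
      | exact hab.eq
      | exact hab.eq.symm
      | exact hac.eq
      | exact hac.eq.symm
      | exact hbc.eq
      | exact hbc.eq.symm)
  have hpow : ∀ t ∈ A, t ^ p = 1 := by
    intro t ht
    induction ht using closure_induction with
    | mem y hy =>
      rcases hy with rfl | rfl | rfl
      · rw [← ha, pow_orderOf_eq_one]
      · exact hb
      · exact hc
    | one => exact one_pow p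
    | mul y z hy hz h1 h2 =>
      have : Commute y z := congrArg Subtype.val (hAc.is_comm.comm ⟨y, hy⟩ ⟨z, hz⟩)
      rw [this.mul_pow, h1, h2, one_mul]
    | inv y _ h => rw [inv_pow, h, inv_one]
  have hcard := hrank A hAc hpow
  have hWp : IsPGroup p W := fun t =>
    ⟨1, Subtype.ext (by rw [pow_one]; simpa using hpow t.1 (hWA t.2))⟩
  obtain ⟨n, hn⟩ := IsPGroup.iff_card.1 hWp
  have hlt : zpowers a < W := by
    refine lt_of_le_of_ne (zpowers_le.2 (subset_closure (Or.inl rfl))) fun e => hba ?_
    rw [e]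
    exact subset_closure (Or.inr rfl)
  have hn2 : 2 ≤ n := by
    have h1 : Nat.card (zpowers a) < Nat.card W := by
      by_contra h
      exact hlt.ne (eq_of_le_of_card_ge hlt.le (not_lt.1 h))
    rw [Nat.card_zpowers, ha, hn] at h1
    by_contra h
    interval_cases n <;> simp at h1
    have := (Fact.out : p.Prime).two_le
    omega
  have hWAe : W = A := eq_of_le_of_card_ge hWA (by
    rw [hn]
    exact hcard.trans (Nat.pow_le_pow_right (Fact.out : p.Prime).pos hn2))
  have hcW : c ∈ W := hWAe.symm ▸ subset_closure (Or.inr (Or.inr rfl))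
  suffices h : ∀ y ∈ closure ({a, b} : Set G), ∃ i j : ℤ, y = a ^ i * b ^ j from h c hcW
  clear hcW hWAe
  intro y hy
  induction hy using closure_induction with
  | mem y hy =>
    rcases hy with rfl | rfl
    · exact ⟨1, 0, by simp⟩
    · exact ⟨0, 1, by simp⟩
  | one => exact ⟨0, 0, by simp⟩
  | mul y z _ _ h1 h2 =>
    obtain ⟨i, j, rfl⟩ := h1
    obtain ⟨k, l, rfl⟩ := h2
    refine ⟨i + k, j + l, ?_⟩
    have hc' : b ^ j * a ^ k = a ^ k * b ^ j := ((hab.zpow_zpow k j).symm).eq
    calc a ^ i * b ^ j * (a ^ k * b ^ l) = a ^ i * (b ^ j * a ^ k) * b ^ l := by group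
      _ = a ^ i * (a ^ k * b ^ j) * b ^ l := by rw [hc']
      _ = a ^ (i + k) * b ^ (j + l) := by rw [zpow_add, zpow_add]; group
  | inv y _ h =>
    obtain ⟨i, j, rfl⟩ := h
    refine ⟨-i, -j, ?_⟩
    rw [mul_inv_rev, ← zpow_neg, ← zpow_neg, ((hab.zpow_zpow (-i) (-j)).symm).eq]

/-- An isolated element centralizes every `p`-subgroup containing it. -/
theorem isolated_centralizes {x : G} (hiso : Cfsg.IsIsolated x) (R : Subgroup G)
    (hR : IsPGroup p R) (hx : x ∈ R) {r : G} (hr : r ∈ R) : Commute x r := by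
  haveI : Group.IsNilpotent R := hR.isNilpotent
  set C := centralizer ({(⟨x, hx⟩ : R)} : Set R) with hC
  have htop : C = ⊤ := by
    by_contra hne
    have hlt : C < ⊤ := lt_of_le_of_ne le_top hne
    have hN := Group.normalizerCondition_of_isNilpotent (G := R) C hlt
    obtain ⟨g, hg, hgC⟩ := SetLike.exists_of_lt hN
    refine hgC ?_
    have hxC : (⟨x, hx⟩ : R) ∈ C := mem_centralizer_singleton_iff.2 rfl
    have h1 := mem_centralizer_singleton_iff.1 ((mem_normalizer_iff.1 hg _).1 hxC)
    have h2 : Commute x ((g : G) * x * (g : G)⁻¹) := (congrArg Subtype.val h1).symm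
    rw [hC, mem_centralizer_singleton_iff]
    refine Subtype.ext ?_
    exact mul_inv_eq_iff_eq_mul.1 (hiso g h2)
  have h := mem_centralizer_singleton_iff.1 (htop ▸ mem_top (⟨r, hr⟩ : R) : (⟨r, hr⟩ : R) ∈ C)
  exact (congrArg Subtype.val h).symm

theorem no_pcomplement {K : Subgroup G} (hK : Cfsg.IsComponent K) (hdvd : p ∣ Nat.card K) :
    ¬ Cfsg.HasNormalPComplement p K := by
  intro h
  obtain ⟨P⟩ := Sylow.nonempty (p := p) (G := K)
  have hc := Cfsg.Agent.Solv.isComplement'_pPrimeCore h
  haveI := hK.2.1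
  set N := Cfsg.pPrimeCore p K
  have hperf : commutator K = ⊤ := Group.IsPerfect.commutator_eq_top
  have hq : IsPGroup p (K ⧸ N) := by
    intro t
    obtain ⟨g, rfl⟩ := QuotientGroup.mk_surjective t
    refine ⟨(orderOf g).factorization p, ?_⟩
    rw [← QuotientGroup.mk_pow, QuotientGroup.eq_one_iff]
    refine Cfsg.Agent.Solv.mem_pPrimeCore_of_orderOf_coprime h ?_
    rw [orderOf_pow' g (pow_ne_zero _ (Fact.out : p.Prime).ne_zero),
      Nat.gcd_eq_right (Nat.ordProj_dvd _ _)]
    exact (Nat.coprime_ordCompl (Fact.out : p.Prime) (orderOf_pos g).ne').symm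
  haveI : Group.IsNilpotent (K ⧸ N) := hq.isNilpotent
  have hsol : commutator (K ⧸ N) = ⊤ := by
    rw [_root_.commutator_def, ← map_top_of_surjective (QuotientGroup.mk' N)
      (QuotientGroup.mk'_surjective N), ← map_commutator, ← _root_.commutator_def, hperf]
  have hsub : Subsingleton (K ⧸ N) := by
    by_contra hns
    rw [not_subsingleton_iff_nontrivial] at hns
    exact (Group.IsSolvable.commutator_lt_top_of_nontrivial (K ⧸ N)).ne hsol
  have htop : N = ⊤ := QuotientGroup.subsingleton_iff.1 hsub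
  have hco := Cfsg.Agent.Solv.card_pPrimeCore_coprime p K
  change (Nat.card N).Coprime p at hco
  rw [htop, card_top] at hco
  exact (Nat.Prime.coprime_iff_not_dvd (Fact.out : p.Prime)).1 hco.symm hdvd

/-- The key fusion argument. -/
theorem key {x : G} (hp : p ≠ 2) (hx : orderOf x = p) (hiso : Cfsg.IsIsolated x) (P : Sylow p G)
    (hxP : x ∈ (P : Subgroup G)) {K : Subgroup G} (hK : Cfsg.IsComponent K)
    (hdvd : p ∣ Nat.card K)
    (H : ∀ u ∈ (P : Subgroup G) ⊓ K, u ^ p = 1 →
      ∃ (i : ℤ) (z : G), z ∈ (P : Subgroup G) ∧ z ∈ centralizer (K : Set G) ∧ u = x ^ i * z) :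
    False := by
  refine no_pcomplement hK hdvd (Cfsg.Agent.Solv.FrobeniusCond.hasNormalPComplement ?_)
  intro Q hQ g hg hgc
  have hS := Cfsg.Agent.Solv.index_sylow_inf_subnormal K hK.1 P
  have hPp : IsPGroup p ((P : Subgroup G).subgroupOf K) := P.isPGroup'.comap_subtype
  obtain ⟨S, hQS⟩ := hQ.exists_le_sylow
  obtain ⟨k, hk⟩ := MulAction.exists_smul_eq K S (hPp.toSylow hS)
  have hmov : ∀ q ∈ Q, k * q * k⁻¹ ∈ (P : Subgroup G).subgroupOf K := by
    intro q hq
    have h1 : MulAut.conj k • q ∈ ((k • S : Sylow p K) : Subgroup K) := by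
      rw [Sylow.coe_subgroup_smul]
      exact smul_mem_pointwise_smul _ _ _ (hQS hq)
    rw [hk, IsPGroup.toSylow_coe] at h1
    simpa using h1
  set Q' : Subgroup G := Q.map (K.subtype.comp (MulAut.conj k).toMonoidHom) with hQ'
  set y : G := ((k * g * k⁻¹ : K) : G) with hy
  have hQ'P : Q' ≤ (P : Subgroup G) ⊓ K := by
    rintro _ ⟨q, hq, rfl⟩
    exact ⟨hmov q hq, SetLike.coe_mem _⟩
  have hyQ : ∀ u ∈ Q', y * u * y⁻¹ ∈ Q' := by
    rintro _ ⟨q, hq, rfl⟩
    refine ⟨g * q * g⁻¹, (mem_normalizer_iff.1 hg q).1 hq, ?_⟩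
    simp [hy, mul_assoc]
  have hyN : zpowers y ≤ normalizer (Q' : Set G) :=
    zpowers_le.2 (Cfsg.Agent.Solv.mem_normalizer_of_conj_le (by
      intro t ht
      obtain ⟨u, hu, rfl⟩ := (mem_smul_pointwise_iff_exists t _ Q').1 ht
      simpa using hyQ u hu))
  have hyo : (Nat.card (zpowers y)).Coprime p := by
    rw [Nat.card_zpowers, hy, Subgroup.orderOf_coe]
    have : orderOf (k * g * k⁻¹) = orderOf g := orderOf_injective (MulAut.conj k).toMonoidHom (MulAut.conj k).injective g
    rwa [this]
  have hcen := Cfsg.Agent.Local.centralizes_of_fixed hp (⊥ : Subgroup G) (zpowers y)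
    (IsPGroup.of_bot) hyo bot_le Q' (hQ.map _) bot_le hyN (fun u hu _ hup => by
      rw [mem_centralizer_iff]
      have hcomm : Commute y u := by
        obtain ⟨i, z, hzP, hzK, hu'⟩ := H u (hQ'P hu) hup
        have hyK : y ∈ K := SetLike.coe_mem _
        have hyz : y * z * y⁻¹ = z := by
          rw [mem_centralizer_iff.1 hzK y hyK, mul_inv_cancel_right]
        by_cases hi : x ^ i = 1
        · rw [hu', hi, one_mul]
          exact mem_centralizer_iff.1 hzK y hyK
        have hx' : orderOf (y * x * y⁻¹) = p := by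
          exact (orderOf_injective (MulAut.conj y).toMonoidHom (MulAut.conj y).injective x).trans hx
        have hpow : (y * x * y⁻¹) ^ i = (y * u * y⁻¹) * z⁻¹ := by
          rw [conj_zpow, hu']
          calc y * x ^ i * y⁻¹ = y * (x ^ i * z) * y⁻¹ * (y * z * y⁻¹)⁻¹ := by group
            _ = _ := by rw [hyz]
        have hne : (y * x * y⁻¹) ^ i ≠ 1 := by
          rw [conj_zpow]
          intro e
          exact hi (conj_eq_one_iff.1 e)
        have hgen := gen_mem hx' (mem_zpowers_iff.2 ⟨i, rfl⟩) hne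
        have hxP' : y * x * y⁻¹ ∈ (P : Subgroup G) := by
          refine zpowers_le.2 ?_ hgen
          rw [hpow]
          exact mul_mem (hQ'P (hyQ u hu)).1 (inv_mem hzP)
        have heq := hiso y (isolated_centralizes hiso _ P.isPGroup' hxP hxP')
        have hyx : Commute y x := mul_inv_eq_iff_eq_mul.1 heq
        rw [hu']
        exact (hyx.zpow_right i).mul_right (mem_centralizer_iff.1 hzK y hyK)
      intro t ht
      obtain ⟨m, rfl⟩ := mem_zpowers_iff.1 ht
      exact (hcomm.zpow_left m).eq)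
  rw [mem_centralizer_iff]
  intro q hq
  have h1 := mem_centralizer_iff.1
    (hcen (mem_map_of_mem (K.subtype.comp (MulAut.conj k).toMonoidHom) hq)) y (mem_zpowers y)
  have h2 : (k * g * k⁻¹) * (k * q * k⁻¹) = (k * q * k⁻¹) * (k * g * k⁻¹) := Subtype.ext (by
    simpa [hy, mul_assoc] using h1)
  have h3 : k * (g * q) * k⁻¹ = k * (q * g) * k⁻¹ := by
    calc k * (g * q) * k⁻¹ = (k * g * k⁻¹) * (k * q * k⁻¹) := by group
      _ = (k * q * k⁻¹) * (k * g * k⁻¹) := h2
      _ = k * (q * g) * k⁻¹ := by group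
  exact (mul_left_cancel (mul_right_cancel h3)).symm

theorem exists_central {P : Sylow p G} {K : Subgroup G} (hK : K.IsSubnormal)
    (hdvd : p ∣ Nat.card K) :
    ∃ a, a ∈ (P : Subgroup G) ⊓ K ∧ orderOf a = p ∧
      ∀ u ∈ (P : Subgroup G) ⊓ K, Commute a u := by
  set R : Subgroup G := (P : Subgroup G) ⊓ K with hR
  have hRp : IsPGroup p R := P.isPGroup'.to_le inf_le_left
  haveI : Nontrivial R := by
    rw [nontrivial_iff_ne_bot]
    intro e
    have hS := Cfsg.Agent.Solv.index_sylow_inf_subnormal K hK P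
    have : (P : Subgroup G).subgroupOf K = ⊥ := by
      rw [subgroupOf_eq_bot, disjoint_iff, ← hR, e]
    rw [this, index_bot] at hS
    exact hS hdvd
  haveI := hRp.center_nontrivial
  obtain ⟨n, hn, hcard⟩ := (hRp.to_subgroup (center R)).nontrivial_iff_card.1 inferInstance
  obtain ⟨a, ha⟩ := exists_prime_orderOf_dvd_card' (G := center R) p
    (hcard ▸ dvd_pow_self p hn.ne')
  refine ⟨((a : R) : G), (a : R).2, by rw [Subgroup.orderOf_coe, Subgroup.orderOf_coe, ha],
    fun u hu => ?_⟩
  exact (congrArg Subtype.val (mem_center_iff.1 a.2 ⟨u, hu⟩)).symm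

end Helpers


/-- Let G be a finite group and p an odd prime with O_{p'}(G) = 1. Suppose that G has p-rank at most 2 (no elementary abelian subgroup of order p³) and that some element x of order p is isolated in G (no G-conjugate of x other than x commutes with x) and not central. Then the generalized Fitting subgroup F*(G) is a non-abelian simple group. Since O_{p'}(G) = 1, such an x is not central modulo O_{p'}(G): the hypotheses describe a counterexample to the Z*_p statement in p-rank at most 2. -/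
theorem result {G : Type*} [Group G] [Finite G] {p : ℕ} [Fact p.Prime] (hp : p ≠ 2) (hcore : Cfsg.pPrimeCore p G = ⊥)
    (hrank : Cfsg.PRankLE p 2 G) (x : G) (hx : orderOf x = p) (hiso : Cfsg.IsIsolated x) (hnc : x ∉ Subgroup.center G) :
    IsSimpleGroup ↥(Cfsg.generalizedFittingSubgroup G) ∧ ¬ IsMulCommutative ↥(Cfsg.generalizedFittingSubgroup G) := by
  skip
  classical
  have hp' : p.Prime := Fact.out
  obtain ⟨P, hxP'⟩ := (IsPGroup.of_card (n := 1) (by rw [Nat.card_zpowers, hx, pow_one]) :
    IsPGroup p (zpowers x)).exists_le_sylow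
  have hxP : x ∈ (P : Subgroup G) := hxP' (mem_zpowers x)
  have hxcen : ∀ r ∈ (P : Subgroup G), Commute x r :=
    fun r hr => isolated_centralizes hiso _ P.isPGroup' hxP hr
  set O := Cfsg.pCore p G with hO
  have hOp : IsPGroup p O := Cfsg.Agent.Solv.isPGroup_pCore p G
  haveI hOn : O.Normal := inferInstance
  have hOP : O ≤ (P : Subgroup G) := hOp.le_sylow_of_normal P
  have hxO : x ∉ O := by
    intro hin
    refine hnc (mem_center_iff.2 fun g => ?_)
    exact mul_inv_eq_iff_eq_mul.1 (hiso g (hxcen _ (hOP (hOn.conj_mem x hin g))))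
  have hFO : Cfsg.fittingSubgroup G ≤ O := by
    haveI := Cfsg.Agent.Solv.fittingSubgroup_normal G
    haveI := Cfsg.Agent.Solv.fittingSubgroup_isNilpotent G
    set F := Cfsg.fittingSubgroup G
    refine le_sSup ⟨inferInstance, IsPGroup.of_card (n := (Nat.card F).primeFactorsList.length) ?_⟩
    refine Nat.eq_prime_pow_of_unique_prime_dvd Nat.card_pos.ne' fun {q} hq hqd => ?_
    by_contra hne
    haveI : Fact q.Prime := ⟨hq⟩
    obtain ⟨Q⟩ := Sylow.nonempty (p := q) (G := F)
    haveI : (Q : Subgroup F).Normal :=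
      Q.normal_of_normalizerCondition Group.normalizerCondition_of_isNilpotent
    haveI : (Q : Subgroup F).Characteristic := Q.characteristic_of_normal inferInstance
    have hle : (Q : Subgroup F).map F.subtype ≤ Cfsg.pPrimeCore p G := by
      refine Cfsg.Agent.Local.le_pPrimeCore_of_isSubnormal (Normal.isSubnormal inferInstance) ?_
      obtain ⟨n, hn⟩ := IsPGroup.iff_card.1 Q.isPGroup'
      rw [card_map_of_injective F.subtype_injective, hn]
      exact ((Nat.coprime_primes hq hp').2 hne).pow_left n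
    rw [hcore, le_bot_iff, map_eq_bot_iff_of_injective _ F.subtype_injective] at hle
    exact Q.ne_bot_of_dvd_card hqd hle
  have hdvd : ∀ K : Subgroup G, Cfsg.IsComponent K → p ∣ Nat.card K := by
    intro K hK
    by_contra h
    have := Cfsg.Agent.Local.le_pPrimeCore_of_isSubnormal (p := p)
      hK.1 (hp'.coprime_iff_not_dvd.2 h).symm
    rw [hcore, le_bot_iff] at this
    exact Cfsg.Agent.Local.component_ne_bot hK this
  obtain ⟨K, hK⟩ : ∃ K : Subgroup G, Cfsg.IsComponent K := by
    by_contra h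
    push_neg at h
    have hE : Cfsg.layer G = ⊥ := le_bot_iff.1 (sSup_le fun K hK => absurd hK (h K))
    have hFs : Cfsg.generalizedFittingSubgroup G ≤ O := by
      rw [Cfsg.generalizedFittingSubgroup, hE, bot_sup_eq]; exact hFO
    refine hxO (hFs (Cfsg.Agent.Local.centralizer_generalizedFitting_le ?_))
    exact mem_centralizer_iff.2 fun r hr => (hxcen r (hOP (hFs hr))).eq.symm
  have hObot : O = ⊥ := by
    by_contra hne
    haveI : (O.subgroupOf (P : Subgroup G)).Normal := inferInstance
    have hne' : O.subgroupOf (P : Subgroup G) ≠ ⊥ := by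
      rw [Ne, subgroupOf_eq_bot, disjoint_iff, inf_eq_left.2 hOP]
      exact hne
    haveI : Group.IsNilpotent (P : Subgroup G) := P.isPGroup'.isNilpotent
    have hmeet := Cfsg.Agent.Solv.inf_center_ne_bot (O.subgroupOf (P : Subgroup G)) hne'
    set D := O.subgroupOf (P : Subgroup G) ⊓ center (P : Subgroup G)
    haveI : Nontrivial D := (nontrivial_iff_ne_bot D).2 hmeet
    obtain ⟨n, hn, hcard⟩ := (P.isPGroup'.to_subgroup D).nontrivial_iff_card.1 inferInstance
    obtain ⟨w, hw⟩ := exists_prime_orderOf_dvd_card' (G := D) p (hcard ▸ dvd_pow_self p hn.ne')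
    set z : G := ((w : (P : Subgroup G)) : G) with hz
    have hzo : orderOf z = p := by rw [hz, Subgroup.orderOf_coe, Subgroup.orderOf_coe, hw]
    have hzO : z ∈ O := w.2.1
    have hzx : z ∉ zpowers x := by
      intro h
      have hz1 : z ≠ 1 := fun e => hp'.ne_one (by rw [← hzo, e, orderOf_one])
      exact hxO (zpowers_le.2 hzO (gen_mem hx h hz1))
    refine key hp hx hiso P hxP hK (hdvd K hK) fun u hu hup => ?_
    have hzu : Commute z u :=
      (congrArg Subtype.val (mem_center_iff.1 w.2.2 ⟨u, hu.1⟩)).symm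
    obtain ⟨i, j, hij⟩ := rank_two hrank hx (hzo ▸ pow_orderOf_eq_one z) hup (hxcen z (hOP hzO))
      (hxcen u hu.1) hzu hzx
    refine ⟨i, z ^ j, zpow_mem (hOP hzO) j, ?_, hij⟩
    have := commutator_eq_bot_iff_le_centralizer.1
      ((commutator_comm _ _).trans (Cfsg.Agent.Local.component_commutator_pCore hK p))
    exact this (zpow_mem hzO j)
  have hF : Cfsg.fittingSubgroup G = ⊥ := le_bot_iff.1 (hObot ▸ hFO)
  have hZ : ∀ L : Subgroup G, Cfsg.IsComponent L → center L = ⊥ := by
    intro L hL
    have h1 : (center L).map L.subtype ≤ Cfsg.fittingSubgroup G := by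
      refine Cfsg.Agent.Solv.le_fittingSubgroup_of_isSubnormal
        ((Normal.isSubnormal inferInstance).trans' hL.1) ?_
      haveI : Group.IsNilpotent (center L) :=
        Subgroup.isNilpotent_of_ker_le_center (1 : center L →* PUnit.{1})
          (fun a _ => mem_center_iff.2 fun b => Subtype.ext (mem_center_iff.1 a.2 b.1))
      exact (Group.isNilpotent_congr ((center L).equivMapOfInjective _ L.subtype_injective)).1
        inferInstance
    rw [hF, le_bot_iff] at h1
    exact (map_eq_bot_iff_of_injective _ L.subtype_injective).1 h1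
  have huniq : ∀ L : Subgroup G, Cfsg.IsComponent L → L = K := by
    intro L hL
    by_contra hne
    have hcomm : ∀ s ∈ K, ∀ t ∈ L, Commute s t := fun s hs t ht =>
      (mem_centralizer_iff.1 ((commutator_eq_bot_iff_le_centralizer.1
        (Cfsg.Agent.Local.components_commute hK hL (Ne.symm hne))) hs) t ht).symm
    have hKL : ∀ t ∈ K, t ∈ L → t = 1 := fun t htK htL => by
      have : (⟨t, htK⟩ : K) ∈ center K :=
        mem_center_iff.2 fun s => Subtype.ext (hcomm s.1 s.2 t htL).eq
      rw [hZ K hK, mem_bot] at this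
      exact congrArg Subtype.val this
    obtain ⟨a, ha, hao, hac⟩ := exists_central (P := P) hK.1 (hdvd K hK)
    obtain ⟨b, hb, hbo, hbc⟩ := exists_central (P := P) hL.1 (hdvd L hL)
    rw [mem_inf] at ha hb
    have hbp : b ^ p = 1 := hbo ▸ pow_orderOf_eq_one b
    have hap : a ^ p = 1 := hao ▸ pow_orderOf_eq_one a
    have hba : b ∉ zpowers a := fun h => by
      have := hKL b (zpowers_le.2 ha.2 h) hb.2
      exact hp'.ne_one (by rw [← hbo, this, orderOf_one])
    have hab : a ∉ zpowers b := fun h => by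
      have := hKL a ha.2 (zpowers_le.2 hb.2 h)
      exact hp'.ne_one (by rw [← hao, this, orderOf_one])
    obtain ⟨i, j, hij⟩ := rank_two hrank hao hbp (hx ▸ pow_orderOf_eq_one x) (hcomm a ha.2 b hb.2)
      (hxcen a ha.1).symm (hxcen b hb.1).symm hba
    by_cases hi : a ^ i = 1
    · rw [hi, one_mul] at hij
      have hx1 : x ≠ 1 := fun e => hp'.ne_one (by rw [← hx, e, orderOf_one])
      have hbx : b ∈ zpowers x := gen_mem hbo (mem_zpowers_iff.2 ⟨j, hij.symm⟩) hx1
      refine key hp hx hiso P hxP hL (hdvd L hL) fun u hu hup => ?_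
      obtain ⟨i', j', h'⟩ := rank_two hrank hao hbp hup (hcomm a ha.2 b hb.2)
        (hcomm a ha.2 u hu.2) (hbc u hu) hba
      have ha' : a ^ i' = 1 := by
        refine hKL _ (zpow_mem ha.2 _) ?_
        have : a ^ i' = u * (b ^ j')⁻¹ := by rw [h', mul_inv_cancel_right]
        rw [this]
        exact mul_mem hu.2 (inv_mem (zpow_mem hb.2 _))
      rw [ha', one_mul] at h'
      obtain ⟨m, hm⟩ := mem_zpowers_iff.1 hbx
      exact ⟨m * j', 1, one_mem _, one_mem _, by rw [mul_one, h', zpow_mul, hm]⟩
    · have hgen := gen_mem hao (mem_zpowers_iff.2 ⟨i, rfl⟩) hi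
      obtain ⟨m, hm⟩ := mem_zpowers_iff.1 hgen
      have hai : a ^ i = x * (b ^ j)⁻¹ := by rw [hij, mul_inv_cancel_right]
      have hxb : Commute x ((b ^ j)⁻¹) := ((hxcen b hb.1).zpow_right j).inv_right
      refine key hp hx hiso P hxP hK (hdvd K hK) fun u hu hup => ?_
      obtain ⟨i', j', h'⟩ := rank_two hrank hao hbp hup (hcomm a ha.2 b hb.2)
        (hac u hu) (hcomm u hu.2 b hb.2).symm hba
      have hb' : b ^ j' = 1 := by
        refine hKL _ ?_ (zpow_mem hb.2 _)
        have : b ^ j' = (a ^ i')⁻¹ * u := by rw [h', inv_mul_cancel_left]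
        rw [this]
        exact mul_mem (inv_mem (zpow_mem ha.2 _)) hu.2
      rw [hb', mul_one] at h'
      refine ⟨m * i', ((b ^ j)⁻¹) ^ (m * i'), zpow_mem (inv_mem (zpow_mem hb.1 _)) _,
        zpow_mem (inv_mem (zpow_mem ?_ _)) _, ?_⟩
      · exact mem_centralizer_iff.2 fun s hs => (hcomm s hs b hb.2).eq
      · rw [h', ← hm, ← zpow_mul, hai, hxb.mul_zpow]
  have hFs : Cfsg.generalizedFittingSubgroup G = K := by
    rw [Cfsg.generalizedFittingSubgroup, hF, sup_bot_eq]
    exact le_antisymm (sSup_le fun L hL => (huniq L hL).le) (le_sSup hK)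
  rw [hFs]
  haveI := hK.2.2
  have e : K ⧸ center K ≃* K :=
    (QuotientGroup.quotientMulEquivOfEq (hZ K hK)).trans QuotientGroup.quotientBot
  exact ⟨e.symm.isSimpleGroup, Cfsg.Agent.Local.qs_not_isMulCommutative hK.2⟩

end Cfsg.Agent.S3049
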