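import Cfsg.Statements.S3053
import Cfsg.Agent.Lib.Fusion.MetacyclicClosed
import Cfsg.Agent.Lib.Fusion.GroupSystem
import Cfsg.Prelude.Def_TwoFusion
-- import your own Cfsg.Agent.* helpers here

set_option autoImplicit false
open Cfsg

namespace Cfsg.Agent.S3053
open Cfsg.Agent


/-- Let p be an odd prime and G a finite group with a Sylow p-subgroup P that is extraspecial of order p³ and exponent p². Then the centre of P is strongly closed in P with respect to G: a G-conjugate of an element of Z(P) that lies in P already lies in Z(P). In particular a nontrivial central element of P is conjugate in G to no noncentral element of P. -/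
theorem result {G : Type*} [Group G] [Finite G]
    {p : ℕ} [Fact p.Prime] (hp : p ≠ 2) (P : Sylow p G) (hE : Cfsg.IsExtraspecial p ↥P)
    (hcard : Nat.card P = p ^ 3) (hexp : Monoid.exponent ↥P = p ^ 2) :
    Cfsg.IsStronglyClosed ((Subgroup.center ↥P).map (P : Subgroup G).subtype) (P : Subgroup G) := by
  skip
  classical
  have hP := P.isPGroup'
  have hexp : Monoid.exponent ↥(P : Subgroup G) = p ^ 2 := hexp
  have hcard : Nat.card ↥(P : Subgroup G) = p ^ 3 := hcard
  obtain ⟨x, hx⟩ : ∃ x : ↥(P : Subgroup G), x ^ p ≠ 1 := by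
    by_contra hall
    push Not at hall
    have h1 : Monoid.exponent ↥(P : Subgroup G) ∣ p := Monoid.exponent_dvd_of_forall_pow_eq_one hall
    rw [hexp] at h1
    have h2 := Nat.le_of_dvd (Fact.out : p.Prime).pos h1
    have h3 : p < p ^ 2 := by
      conv_lhs => rw [← pow_one p]
      exact Nat.pow_lt_pow_right (Fact.out : p.Prime).one_lt (by norm_num)
    omega
  have hord : orderOf x = p ^ 2 := by
    obtain ⟨k, hk⟩ := (IsPGroup.iff_orderOf.1 hP) x
    have h1 : p ^ k ∣ p ^ 2 := hk ▸ hexp ▸ Monoid.order_dvd_exponent x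
    have h2 := (Nat.pow_dvd_pow_iff_le_right (Fact.out : p.Prime).one_lt).1 h1
    rcases k with _ | _ | _ | k
    · exact absurd (by have h := orderOf_eq_one_iff.1 (hk.trans (pow_zero p)); rw [h, one_pow]) hx
    · exact absurd (by have h := pow_orderOf_eq_one x; rwa [hk, zero_add, pow_one] at h) hx
    · exact hk
    · omega
  set N := Subgroup.zpowers x with hN
  have hidx : N.index = p := by
    have h1 := N.card_mul_index
    rw [Nat.card_zpowers, hord, hcard, pow_succ p 2] at h1
    exact Nat.eq_of_mul_eq_mul_left (pow_pos (Fact.out : p.Prime).pos 2) h1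
  haveI hNn : N.Normal := Subgroup.normal_of_index_eq_minFac_card (by
    rw [hidx, hcard, (Fact.out : p.Prime).pow_minFac (by norm_num)])
  have hmeta : Cfsg.IsMetacyclic ↥(P : Subgroup G) := ⟨N, hNn, inferInstance,
    isCyclic_of_prime_card (p := p) (by rw [← Subgroup.index_eq_card]; exact hidx)⟩
  have hnorm := Cfsg.Agent.Fusion.MetaCl.isNormal_of_metacyclic (F := Cfsg.groupFusionSystem (P : Subgroup G)) hP
    (Cfsg.Agent.Fusion.isSaturated_groupFusionSystem P) (P := (P : Subgroup G))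
    ⟨le_rfl, fun R _ φ hφ r => hφ.2.1 r⟩ hp hmeta
  refine ⟨Subgroup.map_subtype_le _, ?_⟩
  rintro _ ⟨z, hz, rfl⟩ g hg
  let φ : ↥(Subgroup.zpowers (z : G)) →* G := (MulAut.conj g).toMonoidHom.comp (Subgroup.zpowers (z : G)).subtype
  have hφ : φ ∈ (Cfsg.groupFusionSystem (P : Subgroup G)).Hom (Subgroup.zpowers (z : G)) := by
    refine ⟨Subgroup.zpowers_le.2 z.2, ?_, g, fun r => rfl⟩
    rintro ⟨_, k, rfl⟩
    show (MulAut.conj g).toMonoidHom ((z : G) ^ k) ∈ (P : Subgroup G)
    rw [map_zpow]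
    exact Subgroup.zpow_mem _ hg k
  obtain ⟨ψ, ⟨-, -, g', hg'⟩, hψ, hψP⟩ := hnorm.2 _ φ hφ
  refine ⟨⟨_, hg⟩, Subgroup.mem_center_iff.2 fun y => ?_, rfl⟩
  have hy : (y : G) ∈ ((P : Subgroup G).subgroupOf (Subgroup.zpowers (z : G) ⊔ (P : Subgroup G))).map ψ := by
    rw [hψP]; exact y.2
  obtain ⟨w, hw, hwy⟩ := hy
  rw [hg'] at hwy
  have hzz : g' * (z : G) * g'⁻¹ = g * (z : G) * g⁻¹ :=
    (hg' (Subgroup.inclusion le_sup_left ⟨(z : G), Subgroup.mem_zpowers _⟩)).symm.trans (hψ ⟨(z : G), Subgroup.mem_zpowers _⟩)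
  refine Subtype.ext ?_
  show (y : G) * (g * z * g⁻¹) = g * z * g⁻¹ * y
  rw [← hzz, ← hwy]
  have hc : (w : G) * z = z * w := congrArg Subtype.val (Subgroup.mem_center_iff.1 hz ⟨(w : G), hw⟩)
  calc g' * (w : G) * g'⁻¹ * (g' * z * g'⁻¹) = g' * ((w : G) * z) * g'⁻¹ := by group
    _ = g' * (z * (w : G)) * g'⁻¹ := by rw [hc]
    _ = _ := by group

end Cfsg.Agent.S3053
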