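import Cfsg.Statements.S3054
import Cfsg.Agent.Lib.Local.HeisenbergSylow
-- import your own Cfsg.Agent.* helpers here

set_option autoImplicit false
open Cfsg

namespace Cfsg.Agent.S3054

/-- Let p be an odd prime and G a finite group with a Sylow p-subgroup P that is extraspecial of order p³ and exponent p. Suppose P contains three distinct subgroups A of order p² (each is elementary abelian of rank 2) such that every automorphism of A of order p is induced by conjugation by an element of G; equivalently the automorphism group induced on A by its normalizer contains the special linear group of A. Then p ≤ 13. -/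
theorem result {G : Type*} [Group G] [Finite G]
    {p : ℕ} [Fact p.Prime] (hp : p ≠ 2) (P : Sylow p G) (hE : Cfsg.IsExtraspecial p ↥P)
    (hcard : Nat.card P = p ^ 3) (hexp : Monoid.exponent ↥P = p)
    (A : Fin 3 → Subgroup G) (hA : Function.Injective A) (hAP : ∀ i, A i ≤ (P : Subgroup G))
    (hAcard : ∀ i, Nat.card ↥(A i) = p ^ 2)
    (hSL : ∀ i, ∀ φ : MulAut ↥(A i), orderOf φ = p → ∃ g : G, ∀ a : ↥(A i), (φ a : G) = g * (a : G) * g⁻¹) :
    p ≤ 13 := by
  skip
  classical
  have hexp' : Monoid.exponent ↥(P : Subgroup G) = p := hexp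
  obtain ⟨F⟩ := Cfsg.Agent.Local.HeisSylow.exists_frame (P : Subgroup G) hcard hexp' hE.2 hE.1.2.2
  have hpr : p.Prime := Fact.out
  have key : ∀ i, F.w ∈ A i ∧ ∃ a ∈ A i, a ∉ Subgroup.zpowers F.w ∧
      (∀ x ∈ A i, ∃ m n : ℕ, x = a ^ m * F.w ^ n) ∧ ∃ Y : G, Y * a * Y⁻¹ = a ∧ Y * F.w * Y⁻¹ = F.w * a := by
    intro i
    have hAc : ∀ x ∈ A i, ∀ y ∈ A i, x * y = y * x := fun x hx y hy => by
      haveI := IsPGroup.isMulCommutative_of_card_eq_prime_sq (hAcard i)
      exact congrArg Subtype.val (mul_comm' (⟨x, hx⟩ : A i) ⟨y, hy⟩)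
    have hw : F.w ∈ A i := by
      by_contra hw
      have hinj : ∀ x ∈ A i, F.cd x = 0 → x = 1 := by
        intro x hx h0
        by_contra hx1
        have hz := (F.cd_eq_zero x (hAP i hx)).1 h0
        have he : Subgroup.zpowers x = Subgroup.zpowers F.w :=
          Subgroup.eq_of_le_of_card_ge (Subgroup.zpowers_le.2 hz) (by
            rw [Nat.card_zpowers, Nat.card_zpowers, F.order_w, orderOf_eq_prime (F.exp x (hAP i hx)) hx1])
        exact hw (Subgroup.zpowers_le.2 hx (he ▸ Subgroup.mem_zpowers F.w))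
      have hi : Function.Injective (fun x : A i => F.cd x) := by
        intro x y h
        refine Subtype.ext (inv_mul_eq_one.1 (hinj _ ((A i).mul_mem ((A i).inv_mem x.2) y.2) ?_))
        exact F.cd_zpowers (F.cd_eq (hAP i x.2) (hAP i y.2) h)
      have hs := hi.bijective_of_nat_card_le (by
        rw [hAcard i, Nat.card_fun, Nat.card_zmod, Nat.card_fin])
      obtain ⟨x, hx⟩ := hs.2 ![1, 0]
      obtain ⟨y, hy⟩ := hs.2 ![0, 1]
      obtain ⟨k, hk⟩ := F.exists_pow_eq (F.cd_eq F.hu (hAP i x.2) (by rw [F.cd_u]; exact hx.symm))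
      obtain ⟨l, hl⟩ := F.exists_pow_eq (F.cd_eq F.hv (hAP i y.2) (by rw [F.cd_v]; exact hy.symm))
      have hc := hAc _ x.2 _ y.2
      rw [← (eq_inv_mul_iff_mul_eq.1 hk), ← (eq_inv_mul_iff_mul_eq.1 hl)] at hc
      have hu := (F.cen F.u F.hu).pow_right
      have hv := (F.cen F.v F.hv).pow_right
      rw [show F.u * F.w ^ k * (F.v * F.w ^ l) = F.u * F.v * (F.w ^ k * F.w ^ l) by
          rw [mul_assoc, ← mul_assoc (F.w ^ k), ← (hv k).eq]; group,
        show F.v * F.w ^ l * (F.u * F.w ^ k) = F.v * F.u * (F.w ^ k * F.w ^ l) by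
          rw [mul_assoc, ← mul_assoc (F.w ^ l), ← (hu l).eq, ((Commute.refl F.w).pow_pow k l).eq]; group,
        mul_left_inj, F.comm, mul_eq_right] at hc
      exact F.w_ne hc
    obtain ⟨a, ha, ha'⟩ : ∃ a ∈ A i, a ∉ Subgroup.zpowers F.w := by
      by_contra h
      push Not at h
      have h1 := Subgroup.card_le_of_le (H := A i) (K := Subgroup.zpowers F.w) h
      rw [hAcard i, Nat.card_zpowers, F.order_w, pow_two] at h1
      have := hpr.one_lt
      nlinarith
    have hap := F.exp a (hAP i ha)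
    have hwa : Commute a F.w := F.cen a (hAP i ha)
    let e₀ : Multiplicative (ZMod p × ZMod p) →* A i :=
      MonoidHom.mk' (fun x => (⟨a, ha⟩ : A i) ^ x.toAdd.1.val * (⟨F.w, hw⟩ : A i) ^ x.toAdd.2.val) fun x y => by
        refine Subtype.ext ?_
        push_cast
        simp only [toAdd_mul, Prod.fst_add, Prod.snd_add, ZMod.val_add]
        rw [← pow_eq_pow_mod _ hap, ← pow_eq_pow_mod _ F.w_pow, pow_add, pow_add, mul_assoc, mul_assoc,
          ← mul_assoc (a ^ _) (F.w ^ _), (hwa.pow_pow _ _).eq, mul_assoc]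
    have hinj : Function.Injective e₀ := by
      rw [injective_iff_map_eq_one]
      intro x hx
      have hx' : a ^ x.toAdd.1.val * F.w ^ x.toAdd.2.val = 1 := congrArg Subtype.val hx
      have h1 := congrArg F.cd hx'
      rw [F.cd_mul _ (Subgroup.pow_mem _ (hAP i ha) _) _ (Subgroup.pow_mem _ F.hw _), F.cd_pow (hAP i ha),
        F.cd_pow F.hw, F.cd_zpowers (Subgroup.mem_zpowers F.w), smul_zero, add_zero, F.cd_one,
        ZMod.natCast_zmod_val, smul_eq_zero] at h1
      have h1' := h1.resolve_right fun e => ha' ((F.cd_eq_zero _ (hAP i ha)).1 e)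
      rw [h1', ZMod.val_zero, pow_zero, one_mul] at hx'
      have h2 := orderOf_dvd_of_pow_eq_one hx'
      rw [F.order_w] at h2
      have h2' : x.toAdd.2.val = 0 := Nat.eq_zero_of_dvd_of_lt h2 (ZMod.val_lt _)
      exact Multiplicative.toAdd.injective (Prod.ext h1' ((ZMod.val_eq_zero _).1 h2'))
    have hbij := hinj.bijective_of_nat_card_le (by
      rw [hAcard i, Nat.card_congr Multiplicative.toAdd, Nat.card_prod, Nat.card_zmod, pow_two])
    refine ⟨hw, a, ha, ha', fun x hx => ?_, ?_⟩
    · obtain ⟨y, hy⟩ := hbij.2 ⟨x, hx⟩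
      exact ⟨_, _, (congrArg Subtype.val hy).symm⟩
    let e : Multiplicative (ZMod p × ZMod p) ≃* A i := MulEquiv.ofBijective e₀ hbij
    let sh : AddAut (ZMod p × ZMod p) :=
      { toFun := fun x => (x.1 + x.2, x.2)
        invFun := fun x => (x.1 - x.2, x.2)
        left_inv := fun x => by simp
        right_inv := fun x => by simp
        map_add' := fun x y => by ext <;> simp <;> abel }
    let φ : MulAut (A i) := e.symm.trans ((AddEquiv.toMultiplicative sh).trans e)
    have hφ : ∀ x, φ (e x) = e (Multiplicative.ofAdd (x.toAdd.1 + x.toAdd.2, x.toAdd.2)) := by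
      intro x
      show e ((AddEquiv.toMultiplicative sh) (e.symm (e x))) = _
      rw [e.symm_apply_apply]
      rfl
    have hφn : ∀ (n : ℕ) x, (φ ^ n) (e x) = e (Multiplicative.ofAdd (x.toAdd.1 + (n : ZMod p) * x.toAdd.2, x.toAdd.2)) := by
      intro n
      induction n with
      | zero => intro x; simp
      | succ n ih =>
        intro x
        rw [pow_succ', MulAut.mul_apply, ih, hφ]
        simp only [toAdd_ofAdd, Nat.cast_succ]
        congr 3
        ring
    have hφp : φ ^ p = 1 := by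
      refine MulEquiv.ext fun y => ?_
      obtain ⟨x, rfl⟩ := e.surjective y
      rw [hφn, ZMod.natCast_self, zero_mul, add_zero, MulAut.one_apply]
      rfl
    have hφ1 : φ ≠ 1 := by
      intro h
      have h1 := hφ (Multiplicative.ofAdd (0, 1))
      rw [h, MulAut.one_apply, e.injective.eq_iff] at h1
      exact zero_ne_one (α := ZMod p) (by simpa using congrArg (fun z => z.toAdd.1) h1)
    obtain ⟨g, hg⟩ := hSL i φ (orderOf_eq_prime hφp hφ1)
    have hea : (e (Multiplicative.ofAdd (1, 0)) : G) = a := by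
      show a ^ (1 : ZMod p).val * F.w ^ (0 : ZMod p).val = a
      rw [ZMod.val_one, ZMod.val_zero, pow_one, pow_zero, mul_one]
    have hew : (e (Multiplicative.ofAdd (0, 1)) : G) = F.w := by
      show a ^ (0 : ZMod p).val * F.w ^ (1 : ZMod p).val = F.w
      rw [ZMod.val_one, ZMod.val_zero, pow_one, pow_zero, one_mul]
    refine ⟨g, ?_, ?_⟩
    · have h1 := (hg (e (Multiplicative.ofAdd (1, 0)))).symm
      rw [hea, hφ] at h1
      simp only [toAdd_ofAdd, add_zero] at h1
      exact h1.trans hea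
    · have h1 := (hg (e (Multiplicative.ofAdd (0, 1)))).symm
      rw [hew, hφ] at h1
      simp only [toAdd_ofAdd, zero_add] at h1
      rw [h1]
      show a ^ (1 : ZMod p).val * F.w ^ (1 : ZMod p).val = _
      rw [ZMod.val_one, pow_one, pow_one, hwa.eq]
  choose hw a ha ha' hgen hY using key
  have hdist : ∀ i j, i ≠ j → ∀ c : ZMod p, F.cd (a i) ≠ c • F.cd (a j) := by
    intro i j hij c h
    apply hij
    apply hA
    refine Subgroup.eq_of_le_of_card_ge (fun x hx => ?_) (by rw [hAcard i, hAcard j])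
    have hai : a i ∈ A j := by
      obtain ⟨k, hk⟩ := F.exists_pow_eq (F.cd_eq (Subgroup.pow_mem _ (hAP j (ha j)) c.val) (hAP i (ha i)) (by
        rw [F.cd_pow (hAP j (ha j)), ZMod.natCast_zmod_val, h]))
      rw [← eq_inv_mul_iff_mul_eq.1 hk]
      exact Subgroup.mul_mem _ (Subgroup.pow_mem _ (ha j) _) (Subgroup.pow_mem _ (hw j) _)
    obtain ⟨m, n, rfl⟩ := hgen i x hx
    exact Subgroup.mul_mem _ (Subgroup.pow_mem _ hai _) (Subgroup.pow_mem _ (hw j) _)
  rcases Cfsg.Agent.Local.HeisSylow.bound F (ι := Fin 3) (by simp) a (fun i => hAP i (ha i)) ha' hdist hY with h | ⟨h, -⟩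
  · omega
  · exact h.le

end Cfsg.Agent.S3054
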