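import Cfsg.Statements.S3055
import Cfsg.Agent.Lib.Local.HeisenbergSylow
-- import your own Cfsg.Agent.* helpers here

set_option autoImplicit false
open Cfsg

namespace Cfsg.Agent.S3055

/-- Let p be an odd prime and G a finite group with a Sylow p-subgroup P that is extraspecial of order p³ and exponent p. If all nonidentity elements of P are conjugate in G, then p ≤ 7. -/
theorem result {G : Type*} [Group G] [Finite G]
    {p : ℕ} [Fact p.Prime] (hp : p ≠ 2) (P : Sylow p G) (hE : Cfsg.IsExtraspecial p ↥P)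
    (hcard : Nat.card P = p ^ 3) (hexp : Monoid.exponent ↥P = p)
    (hconj : ∀ x y : ↥P, x ≠ 1 → y ≠ 1 → ∃ g : G, g * (x : G) * g⁻¹ = (y : G)) :
    p ≤ 7 := by
  skip
  classical
  have hexp' : Monoid.exponent ↥(P : Subgroup G) = p := hexp
  obtain ⟨F⟩ := Cfsg.Agent.Local.HeisSylow.exists_frame (P : Subgroup G) hcard hexp' hE.2 hE.1.2.2
  have hpr : p.Prime := Fact.out
  let a : Option (ZMod p) → G := fun o => o.elim F.v fun k => F.u * F.v ^ k.val
  have ha : ∀ o, a o ∈ (P : Subgroup G) := fun o => by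
    cases o with
    | none => exact F.hv
    | some k => exact Subgroup.mul_mem _ F.hu (Subgroup.pow_mem _ F.hv _)
  have hcd : ∀ k : ZMod p, F.cd (a (some k)) = ![1, k] := fun k => by
    show F.cd (F.u * F.v ^ k.val) = _
    rw [F.cd_mul _ F.hu _ (Subgroup.pow_mem _ F.hv _), F.cd_pow F.hv, F.cd_u, F.cd_v, ZMod.natCast_zmod_val]
    ext i
    fin_cases i <;> simp
  have hne : ∀ o, a o ∉ Subgroup.zpowers F.w := fun o h => by
    have h0 := F.cd_zpowers h
    cases o with
    | none => exact one_ne_zero (α := ZMod p) (by simpa using congrFun (F.cd_v.symm.trans h0) 1)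
    | some k => exact one_ne_zero (α := ZMod p) (by simpa using congrFun ((hcd k).symm.trans h0) 0)
  have hdist : ∀ i j, i ≠ j → ∀ c : ZMod p, F.cd (a i) ≠ c • F.cd (a j) := by
    intro i j hij c h
    have hv : F.cd (a none) = ![0, 1] := F.cd_v
    rcases i with _ | i <;> rcases j with _ | j
    · exact hij rfl
    · rw [hv, hcd] at h
      have h0 := congrFun h 0
      simp only [Pi.smul_apply, smul_eq_mul, Matrix.cons_val_zero, mul_one] at h0
      have h1 := congrFun h 1
      simp [← h0] at h1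
    · rw [hv, hcd] at h
      simpa using congrFun h 0
    · rw [hcd, hcd] at h
      have h0 := congrFun h 0
      simp only [Pi.smul_apply, smul_eq_mul, Matrix.cons_val_zero, mul_one] at h0
      have h1 := congrFun h 1
      simp [← h0] at h1
      exact hij (by rw [h1])
  have hY : ∀ o, ∃ Y : G, Y * a o * Y⁻¹ = a o ∧ Y * F.w * Y⁻¹ = F.w * a o := by
    intro o
    have hA := ha o
    have ha1 : (⟨a o, hA⟩ : (P : Subgroup G)) ≠ 1 := fun e =>
      hne o (by have e' := congrArg Subtype.val e; simp only [OneMemClass.coe_one] at e'; rw [e']; exact one_mem _)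
    obtain ⟨g, hg⟩ := hconj ⟨F.w, F.hw⟩ ⟨a o, hA⟩ (fun e => F.w_ne (congrArg Subtype.val e)) ha1
    simp only at hg
    set x := a o with hx
    set H : Subgroup G := Subgroup.centralizer ({x} : Set G) with hH
    have hPH : ((g • P : Sylow p G) : Subgroup G) ≤ H := by
      intro y hy
      rw [Sylow.coe_subgroup_smul, Subgroup.mem_pointwise_smul_iff_inv_smul_mem] at hy
      rw [hH, Subgroup.mem_centralizer_singleton_iff, ← hg]
      have h1 := (F.cen _ hy).eq
      simp [MulAut.smul_def] at h1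
      calc y * (g * F.w * g⁻¹) = g * (g⁻¹ * y * g * F.w) * g⁻¹ := by group
        _ = g * (F.w * (g⁻¹ * y * g)) * g⁻¹ := by rw [h1]
        _ = g * F.w * g⁻¹ * y := by group
    have hwH : F.w ∈ H := by
      rw [hH, Subgroup.mem_centralizer_singleton_iff]
      exact (F.cen x hA).symm.eq
    have hwp : IsPGroup p ↥(Subgroup.zpowers (⟨F.w, hwH⟩ : H)) := IsPGroup.of_card (n := 1) (by
      rw [Nat.card_zpowers, Subgroup.orderOf_mk, F.order_w, pow_one])
    obtain ⟨Q, hQ⟩ := hwp.exists_le_sylow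
    obtain ⟨t, ht⟩ := MulAction.exists_smul_eq H ((g • P).subtype hPH) Q
    have hwQ := hQ (Subgroup.mem_zpowers _)
    rw [← ht, Sylow.coe_subgroup_smul, Subgroup.mem_pointwise_smul_iff_inv_smul_mem, Sylow.coe_subtype,
      Subgroup.mem_subgroupOf, Sylow.coe_subgroup_smul, Subgroup.mem_pointwise_smul_iff_inv_smul_mem] at hwQ
    set s := (t : G) * g with hs
    have hsw : s * F.w * s⁻¹ = x := by
      have h1 := Subgroup.mem_centralizer_singleton_iff.1 t.2
      calc s * F.w * s⁻¹ = (t : G) * (g * F.w * g⁻¹) * (t : G)⁻¹ := by rw [hs]; group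
        _ = (t : G) * x * (t : G)⁻¹ := by rw [hg]
        _ = x := by rw [h1, mul_inv_cancel_right]
    have hd : s⁻¹ * F.w * s ∈ (P : Subgroup G) := by
      simpa [MulAut.smul_def, hs, mul_assoc] using hwQ
    have hd' : s⁻¹ * F.w * s ∉ Subgroup.zpowers F.w := by
      intro h
      obtain ⟨k, hk⟩ := Subgroup.mem_zpowers_iff.1 h
      have hwx : F.w ∈ Subgroup.zpowers x := Subgroup.mem_zpowers_iff.2 ⟨k, by
        rw [← hsw, conj_zpow, hk]; group⟩
      have he : Subgroup.zpowers F.w = Subgroup.zpowers x :=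
        Subgroup.eq_of_le_of_card_ge (Subgroup.zpowers_le.2 hwx) (by
          rw [Nat.card_zpowers, Nat.card_zpowers, F.order_w]
          exact Nat.le_of_dvd hpr.pos (orderOf_dvd_of_pow_eq_one (F.exp x hA)))
      exact hne o (by rw [he]; exact Subgroup.mem_zpowers _)
    obtain ⟨b, hb, hbd⟩ := F.exists_X hd hd'
    refine ⟨s * b * s⁻¹, ?_, ?_⟩
    · calc s * b * s⁻¹ * x * (s * b * s⁻¹)⁻¹ = s * (b * F.w * b⁻¹) * s⁻¹ := by rw [← hsw]; group
        _ = x := by rw [(F.cen b hb).eq, mul_inv_cancel_right, hsw]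
    · calc s * b * s⁻¹ * F.w * (s * b * s⁻¹)⁻¹ = s * (b * (s⁻¹ * F.w * s) * b⁻¹) * s⁻¹ := by group
        _ = s * (s⁻¹ * F.w * s * F.w) * s⁻¹ := by rw [hbd]
        _ = F.w * (s * F.w * s⁻¹) := by group
        _ = _ := by rw [hsw]
  rcases Cfsg.Agent.Local.HeisSylow.bound F (ι := Option (ZMod p))
      (by rw [Fintype.card_option, ZMod.card]; exact Nat.succ_le_succ hpr.two_le) a ha hne hdist hY with h | ⟨h, h12⟩
  · exact h
  · rw [Fintype.card_option, ZMod.card] at h12
    omega

end Cfsg.Agent.S3055
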