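import Cfsg.Statements.S3057
import Cfsg.Agent.Lib.Solv.PSolvable
import Cfsg.Agent.Lib.Solv.Basic
import Cfsg.Agent.Lib.Perm.Fitting
import Cfsg.Agent.Lib.Inv.ZStarCor
import Cfsg.Agent.Lib.Struct.UniqueOrderP
import Cfsg.Agent.Lib.Local.CoprimeGeneration
-- import your own Cfsg.Agent.* helpers here

set_option autoImplicit false
open Cfsg

namespace Cfsg.Agent.S3057
open Subgroup
open scoped Pointwise
open Cfsg.Agent

theorem unique_of_cyc_or_quat {p : ℕ} [hp : Fact p.Prime] {P : Type*} [Group P] [Finite P]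
    (h : IsCyclic P ∨ (p = 2 ∧ ∃ n : ℕ, Nonempty (P ≃* QuaternionGroup (2 ^ n)))) :
    ∀ x y : P, orderOf x = p → y ^ p = 1 → y ∈ zpowers x := by
  classical
  intro x y hx hy
  rcases h with h | ⟨rfl, n, ⟨e⟩⟩
  · haveI : Fintype P := Fintype.ofFinite P
    have h1 := h.card_pow_eq_one_le (n := p) hp.out.pos
    by_contra hne
    have hsub : insert y (Finset.univ.filter fun a : P => a ∈ zpowers x) ⊆
        Finset.univ.filter fun a : P => a ^ p = 1 := by
      intro a ha
      rcases Finset.mem_insert.1 ha with rfl | ha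
      · simp [hy]
      · obtain ⟨k, rfl⟩ := mem_zpowers_iff.1 (Finset.mem_filter.1 ha).2
        simp only [Finset.mem_filter, Finset.mem_univ, true_and]
        rw [← zpow_natCast, ← zpow_mul, mul_comm, zpow_mul, zpow_natCast, ← hx, pow_orderOf_eq_one, one_zpow]
    have h2 := Finset.card_le_card hsub
    rw [Finset.card_insert_of_notMem (by simp [hne]), ← Fintype.card_subtype] at h2
    have h3 : Fintype.card {a : P // a ∈ zpowers x} = p := by
      rw [← Nat.card_eq_fintype_card]
      exact (Nat.card_zpowers x).trans hx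
    omega
  · by_cases hy1 : y = 1
    · exact hy1 ▸ one_mem _
    have hyo : orderOf y = 2 := orderOf_eq_prime hy hy1
    have : e x = e y := by
      rw [Cfsg.Agent.Inv.quaternion_involution_unique (x := e x) (by rw [MulEquiv.orderOf_eq, hx]),
        Cfsg.Agent.Inv.quaternion_involution_unique (x := e y) (by rw [MulEquiv.orderOf_eq, hyo])]
    exact e.injective this ▸ mem_zpowers _


/-- Let p be a prime and G a finite p-solvable group of order divisible by p, with Sylow p-subgroup P. Then the Sylow p-subgroups of G fail to be chain-connected through nontrivial intersections (equivalently, G has a strongly p-embedded subgroup) if and only if O_p(G) = 1 and P is cyclic or, for p = 2, generalized quaternion. -/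
theorem result {G : Type*} [Group G] [Finite G]
    (p : ℕ) [Fact p.Prime] (hdiv : p ∣ Nat.card G) (hsol : Cfsg.IsPSolvable p G) (P : Sylow p G) :
    ¬ Cfsg.IsSylowChainConnected p G ↔
      Cfsg.pCore p G = ⊥ ∧ (IsCyclic ↥P ∨ (p = 2 ∧ ∃ n : ℕ, Nonempty (↥P ≃* QuaternionGroup (2 ^ n)))) := by
  skip
  classical
  have hPne : ∀ S : Sylow p G, (S : Subgroup G) ≠ ⊥ := fun S => S.ne_bot_of_dvd_card hdiv
  have hsame : ∀ S : Sylow p G, (IsCyclic ↥P ∨ (p = 2 ∧ ∃ n : ℕ, Nonempty (↥P ≃* QuaternionGroup (2 ^ n)))) →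
      ∀ x ∈ (S : Subgroup G), ∀ y ∈ (S : Subgroup G), orderOf x = p → y ^ p = 1 → y ∈ zpowers x := by
    intro S h x hx y hy hxo hyo
    have e : ↥(S : Subgroup G) ≃* ↥(P : Subgroup G) := (P.equiv S).symm
    have h' := unique_of_cyc_or_quat (p := p) h (e ⟨x, hx⟩) (e ⟨y, hy⟩)
      (by rw [MulEquiv.orderOf_eq]; exact (Subgroup.orderOf_mk x hx).trans hxo)
      (by rw [← map_pow, MulEquiv.map_eq_one_iff]; exact Subtype.ext hyo)
    obtain ⟨k, hk⟩ := mem_zpowers_iff.1 h'
    rw [← map_zpow] at hk
    exact mem_zpowers_iff.2 ⟨k, congrArg Subtype.val (e.injective hk)⟩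
  constructor
  · intro hnot
    by_contra hcon
    apply hnot
    let R : Sylow p G → Sylow p G → Prop := fun a b => a ≠ b ∧ (a : Subgroup G) ⊓ (b : Subgroup G) ≠ ⊥
    suffices hR : ∀ S T : Sylow p G, Relation.ReflTransGen R S T by
      intro S T
      by_cases hST : (S : Subgroup G) ⊓ (T : Subgroup G) = ⊥
      · have hchain : ∀ b, Relation.ReflTransGen R S b → ∃ (n : ℕ) (c : Fin (n + 1) → Sylow p G),
            c 0 = S ∧ c (Fin.last n) = b ∧ ∀ i : Fin n, R (c i.castSucc) (c i.succ) := by
          intro b hb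
          induction hb with
          | refl => exact ⟨0, fun _ => S, rfl, rfl, fun i => i.elim0⟩
          | @tail x y _ hxy ih =>
            obtain ⟨n, c, h0, hl, hi⟩ := ih
            refine ⟨n + 1, Fin.snoc c y, ?_, by simp, fun i => ?_⟩
            · rw [← Fin.castSucc_zero, Fin.snoc_castSucc, h0]
            · induction i using Fin.lastCases with
              | last => rw [Fin.snoc_castSucc, Fin.succ_last, Fin.snoc_last, hl]; exact hxy
              | cast j => rw [Fin.snoc_castSucc, Fin.succ_castSucc, Fin.snoc_castSucc]; exact hi j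
        obtain ⟨n, c, h0, hl, hi⟩ := hchain T (hR S T)
        exact ⟨n, c, h0, hl, fun i => hST ▸ bot_le, hi⟩
      · by_cases he : S = T
        · subst he
          exact ⟨0, fun _ => S, rfl, rfl, fun i => inf_le_left, fun i => i.elim0⟩
        · refine ⟨1, ![S, T], rfl, rfl, fun i => ?_, fun i => ?_⟩
          · fin_cases i
            · exact inf_le_left
            · exact inf_le_right
          · fin_cases i
            exact ⟨he, hST⟩
    by_cases hO : Cfsg.pCore p G = ⊥
    swap
    · intro S T
      by_cases he : S = T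
      · subst he; exact .refl
      · refine .single ⟨he, fun h => hO (eq_bot_iff.2 (h ▸ le_inf ?_ ?_))⟩ <;>
          exact Cfsg.Agent.Perm.pCore_le_sylow _
    -- the set-up at a Sylow subgroup containing one of `O_{p',p}(G)`
    let K := Cfsg.pPrimeCore p G
    let M : Subgroup G := (Cfsg.pCore p (G ⧸ K)).comap (QuotientGroup.mk' K)
    haveI : M.Normal := inferInstance
    obtain ⟨Q₀⟩ := Sylow.nonempty (p := p) (G := ↥M)
    have hQp : IsPGroup p ↥((Q₀ : Subgroup M).map M.subtype) := Q₀.isPGroup'.map _
    obtain ⟨P₁, hP₁⟩ := hQp.exists_le_sylow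
    let Q : Subgroup G := (Q₀ : Subgroup M).map M.subtype
    have hnot' : ¬ (IsCyclic ↥(P₁ : Subgroup G) ∨
        (p = 2 ∧ ∃ n : ℕ, Nonempty (↥(P₁ : Subgroup G) ≃* QuaternionGroup (2 ^ n)))) := by
      intro h
      refine hcon ⟨hO, ?_⟩
      have e : ↥(P₁ : Subgroup G) ≃* ↥(P : Subgroup G) := P₁.equiv P
      rcases h with h | ⟨h2, n, ⟨f⟩⟩
      · haveI := h
        exact .inl (isCyclic_of_surjective e (MulEquiv.surjective e))
      · exact .inr ⟨h2, n, ⟨e.symm.trans f⟩⟩
    haveI : Nontrivial ↥(P₁ : Subgroup G) := (Subgroup.nontrivial_iff_ne_bot _).2 (hPne P₁)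
    haveI : Nontrivial (center ↥(P₁ : Subgroup G)) := P₁.isPGroup'.center_nontrivial
    obtain ⟨z, hz⟩ : ∃ z : center ↥(P₁ : Subgroup G), orderOf z = p := by
      obtain ⟨k, hk⟩ := IsPGroup.iff_card.1 (P₁.isPGroup'.to_subgroup (center ↥(P₁ : Subgroup G)))
      refine exists_prime_orderOf_dvd_card' p (hk ▸ dvd_pow_self p ?_)
      intro h0
      rw [h0, pow_zero] at hk
      exact (Finite.one_lt_card (α := center ↥(P₁ : Subgroup G))).ne' hk
    have hzo : orderOf (z : ↥(P₁ : Subgroup G)) = p := by rw [Subgroup.orderOf_coe, hz]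
    obtain ⟨y, hy, hyz⟩ : ∃ y : ↥(P₁ : Subgroup G), y ^ p = 1 ∧ y ∉ zpowers (z : ↥(P₁ : Subgroup G)) := by
      by_contra h
      push Not at h
      refine hnot' ((Cfsg.Agent.Struct.cyclic_or_quaternion P₁.isPGroup' fun x y hx hy => ?_).imp_right
        fun ⟨h2, n, _, hn⟩ => ⟨h2, n, hn⟩)
      have hxz : x ∈ zpowers (z : ↥(P₁ : Subgroup G)) := h x (orderOf_dvd_iff_pow_eq_one.1 (dvd_of_eq hx))
      have heq : zpowers x = zpowers (z : ↥(P₁ : Subgroup G)) :=
        eq_of_le_of_card_ge (zpowers_le.2 hxz) (by rw [Nat.card_zpowers, Nat.card_zpowers, hx, hzo])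
      exact heq ▸ h y hy
    have hcomm : Commute (z : ↥(P₁ : Subgroup G)) y := (mem_center_iff.1 z.2 y).symm
    let E : Subgroup G := Subgroup.closure {((z : ↥(P₁ : Subgroup G)) : G), (y : G)}
    haveI hEc : IsMulCommutative E := Subgroup.isMulCommutative_closure (by
      rintro a (rfl | rfl) b (rfl | rfl)
      · rfl
      · exact congrArg Subtype.val hcomm.eq
      · exact (congrArg Subtype.val hcomm.eq).symm
      · rfl)
    have hEcomm : ∀ a ∈ E, ∀ b ∈ E, a * b = b * a := fun a ha b hb =>
      congrArg Subtype.val (mul_comm' (⟨a, ha⟩ : E) ⟨b, hb⟩)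
    have hEP : E ≤ (P₁ : Subgroup G) := (closure_le _).2 (by
      rintro a (rfl | rfl)
      · exact (z : ↥(P₁ : Subgroup G)).2
      · exact y.2)
    have hEexp : ∀ a ∈ E, a ^ p = 1 := by
      intro a ha
      induction ha using Subgroup.closure_induction with
      | mem a ha =>
        rcases ha with rfl | rfl
        · have h0 := pow_orderOf_eq_one (z : ↥(P₁ : Subgroup G))
          rw [hzo] at h0
          exact congrArg Subtype.val h0
        · rw [← Subgroup.coe_pow, hy]; rfl
      | one => exact one_pow p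
      | mul a b ha hb h1 h2 => rw [(show Commute a b from hEcomm a ha b hb).mul_pow, h1, h2, one_mul]
      | inv a _ h1 => rw [inv_pow, h1, inv_one]
    have hEnc : ¬ IsCyclic E := by
      intro h
      obtain ⟨g, hg⟩ := h.exists_generator
      have hz' : ((z : ↥(P₁ : Subgroup G)) : G) ∈ E := subset_closure (Or.inl rfl)
      have h1 : Nat.card E ≤ p := by
        rw [← orderOf_eq_card_of_forall_mem_zpowers hg]
        exact Nat.le_of_dvd (Fact.out : p.Prime).pos
          (orderOf_dvd_of_pow_eq_one (Subtype.ext (by simpa using hEexp g g.2)))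
      have h2 : zpowers ((z : ↥(P₁ : Subgroup G)) : G) = E :=
        eq_of_le_of_card_ge (zpowers_le.2 hz') (by rw [Nat.card_zpowers, Subgroup.orderOf_coe, hzo]; exact h1)
      have h3 : (y : G) ∈ zpowers ((z : ↥(P₁ : Subgroup G)) : G) := by
        rw [h2]; exact subset_closure (Or.inr rfl)
      obtain ⟨k, hk⟩ := mem_zpowers_iff.1 h3
      exact hyz (mem_zpowers_iff.2 ⟨k, Subtype.ext (by simpa using hk)⟩)
    -- the stabilizer of the component of `P₁`
    have Rsymm : ∀ a b, R a b → R b a := fun a b h => ⟨h.1.symm, by rw [inf_comm]; exact h.2⟩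
    have rsymm : ∀ a b, Relation.ReflTransGen R a b → Relation.ReflTransGen R b a := fun a b h => by
      induction h with
      | refl => exact .refl
      | tail _ hxy ih => exact .head (Rsymm _ _ hxy) ih
    have rmap : ∀ (g : G) a b, Relation.ReflTransGen R a b → Relation.ReflTransGen R (g • a) (g • b) :=
      fun g a b h => h.lift (g • ·) fun x y hxy => ⟨fun e => hxy.1 ((MulAction.injective g) e), fun e => hxy.2 (by
        rw [Sylow.coe_subgroup_smul, Sylow.coe_subgroup_smul, ← Subgroup.smul_inf] at e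
        rw [← smul_left_cancel_iff (MulAut.conj g), e, Subgroup.smul_bot])⟩
    let H : Subgroup G :=
      { carrier := {g | Relation.ReflTransGen R P₁ (g • P₁)}
        one_mem' := by
          show Relation.ReflTransGen R P₁ ((1 : G) • P₁)
          rw [one_smul]
        mul_mem' := fun {a b} ha hb => by
          show Relation.ReflTransGen R P₁ ((a * b) • P₁)
          rw [mul_smul]
          exact Relation.ReflTransGen.trans ha (rmap a _ _ hb)
        inv_mem' := fun {a} ha => by
          show Relation.ReflTransGen R P₁ (a⁻¹ • P₁)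
          have := rmap a⁻¹ _ _ ha
          rw [inv_smul_smul] at this
          exact rsymm _ _ this }
    have hnorm : ∀ B : Subgroup G, B ≠ ⊥ → B ≤ (P₁ : Subgroup G) → normalizer (B : Set G) ≤ H := by
      intro B hB hBP g hg
      show Relation.ReflTransGen R P₁ (g • P₁)
      by_cases he : P₁ = g • P₁
      · rw [← he]
      · refine .single ⟨he, fun h => hB (eq_bot_iff.2 (h ▸ le_inf hBP fun b hb => ?_))⟩
        rw [Sylow.coe_subgroup_smul, Subgroup.mem_pointwise_smul_iff_inv_smul_mem]
        refine hBP ?_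
        simpa [MulAut.smul_def] using (mem_normalizer_iff''.1 hg b).1 hb
    have hKcop : (Nat.card K).Coprime p := Cfsg.Agent.Solv.card_pPrimeCore_coprime p G
    have hKH : K ≤ H := by
      refine Cfsg.Agent.Local.CoprimeGen.le_of_centralizers E K H hEnc ?_ ?_ ?_
      · exact le_top.trans (normalizer_eq_top (H := K)).ge
      · obtain ⟨a, ha⟩ := IsPGroup.iff_card.1 (P₁.isPGroup'.to_le hEP)
        rw [ha]
        exact Nat.Coprime.pow_left a hKcop.symm
      · intro e he he1 x hx
        refine hnorm (zpowers e) (by simpa using he1) (zpowers_le.2 (hEP he)) ?_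
        refine centralizer_le_normalizer _ (mem_centralizer_iff.2 fun b hb => ?_)
        obtain ⟨i, rfl⟩ := mem_zpowers_iff.1 hb
        exact ((mem_centralizer_singleton_iff.1 (mem_inf.1 hx).2 : x * e = e * x) |> fun h =>
          ((show Commute e x from h.symm).zpow_left i).eq)
    have hMnot : ¬ M ≤ K := by
      intro hle
      have hbot : Cfsg.pCore p (G ⧸ K) = ⊥ := by
        rw [eq_bot_iff]
        intro q hq
        obtain ⟨x, rfl⟩ := QuotientGroup.mk'_surjective K q
        exact mem_bot.2 ((QuotientGroup.eq_one_iff x).2 (hle hq))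
      have hpi : Cfsg.pPrimeCore p (G ⧸ K) = ⊥ := Cfsg.Agent.Solv.pPrimeCore_quotient_pPrimeCore p
      haveI : Nontrivial (G ⧸ K) := by
        rw [← Finite.one_lt_card_iff_nontrivial]
        by_contra h1
        have h2 : K.index = 1 := by
          rw [index_eq_card]
          exact le_antisymm (not_lt.1 h1) Nat.card_pos
        rw [index_eq_one] at h2
        rw [h2, card_top] at hKcop
        exact (Fact.out : p.Prime).coprime_iff_not_dvd.1 hKcop.symm hdiv
      rcases Cfsg.Agent.Solv.core_ne_bot_of_isPSolvable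
        (Cfsg.Agent.Solv.isPSolvable_quotient hsol K) with h | h
      · exact h hbot
      · exact h hpi
    have hQne : Q ≠ ⊥ := by
      intro h
      apply hMnot
      have hQ0 : (Q₀ : Subgroup M) = ⊥ := (map_eq_bot_iff_of_injective _ M.subtype_injective).1 h
      have hcopM : (Nat.card M).Coprime p := by
        refine ((Fact.out : p.Prime).coprime_iff_not_dvd.2 fun hd => ?_).symm
        exact Q₀.ne_bot_of_dvd_card hd hQ0
      exact Cfsg.Agent.Solv.le_pPrimeCore hcopM
    have hMH : M ≤ H := by
      -- `M = Q K`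
      have hQK : M ≤ Q ⊔ K := by
        intro m hm
        have hq : IsPGroup p ↥(M.map (QuotientGroup.mk' K)) := (Cfsg.Agent.Solv.isPGroup_pCore p (G ⧸ K)).to_le
          (map_comap_le _ _)
        have hs : (M.map (QuotientGroup.mk' K)) ≤ Q.map (QuotientGroup.mk' K) := by
          let f : ↥M →* ↥(M.map (QuotientGroup.mk' K)) := (QuotientGroup.mk' K).subgroupMap M
          have hf : Function.Surjective f := (QuotientGroup.mk' K).subgroupMap_surjective M
          have htop := (Q₀.mapSurjective hf)
          have e : ((Q₀.mapSurjective hf : Sylow p ↥(M.map (QuotientGroup.mk' K))) :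
              Subgroup ↥(M.map (QuotientGroup.mk' K))) = ⊤ :=
            (Q₀.mapSurjective hf).is_maximal' (hq.of_equiv topEquiv.symm) le_top |>.symm
          intro q hq'
          have : (⟨q, hq'⟩ : ↥(M.map (QuotientGroup.mk' K))) ∈ (Q₀ : Subgroup M).map f := by
            rw [← Sylow.coe_mapSurjective hf, e]; exact mem_top _
          obtain ⟨m, hm, hme⟩ := this
          exact ⟨(m : G), ⟨m, hm, rfl⟩, congrArg Subtype.val hme⟩
        obtain ⟨q, hq', hqe⟩ := hs ⟨m, hm, rfl⟩
        have hk : q⁻¹ * m ∈ K := QuotientGroup.eq.1 hqe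
        have := mul_mem (mem_sup_left hq' : q ∈ Q ⊔ K) (mem_sup_right hk)
        rwa [mul_inv_cancel_left] at this
      refine hQK.trans (sup_le ?_ hKH)
      exact fun q hq => hnorm _ (hPne P₁) le_rfl (Subgroup.le_normalizer (hP₁ hq))
    have hHtop : H = ⊤ := by
      rw [eq_top_iff, ← Sylow.normalizer_sup_eq_top Q₀]
      exact sup_le (hnorm Q hQne hP₁) hMH
    intro S T
    obtain ⟨a, rfl⟩ := MulAction.exists_smul_eq G P₁ S
    obtain ⟨b, rfl⟩ := MulAction.exists_smul_eq G P₁ T
    have ha : a ∈ H := hHtop ▸ mem_top _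
    have hb : b ∈ H := hHtop ▸ mem_top _
    exact (rsymm _ _ ha).trans hb
  · rintro ⟨hO, hcq⟩ hconn
    obtain ⟨x₀, hx₀⟩ := exists_prime_orderOf_dvd_card' (G := ↥(P : Subgroup G)) p (P.dvd_card_of_dvd_card hdiv)
    have hall : ∀ T : Sylow p G, (x₀ : G) ∈ (T : Subgroup G) := by
      intro T
      obtain ⟨n, c, h0, hl, -, hi⟩ := hconn P T
      have : ∀ i : Fin (n + 1), (x₀ : G) ∈ (c i : Subgroup G) := by
        intro i
        induction i using Fin.induction with
        | zero => rw [h0]; exact x₀.2
        | succ i ih =>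
          have hne := (hi i).2
          obtain ⟨w, hw⟩ := exists_prime_orderOf_dvd_card' (G := ↥((c i.castSucc : Subgroup G) ⊓ (c i.succ : Subgroup G))) p (by
            obtain ⟨k, hk⟩ := IsPGroup.iff_card.1 ((c i.castSucc).isPGroup'.to_le
              (inf_le_left : (c i.castSucc : Subgroup G) ⊓ (c i.succ : Subgroup G) ≤ c i.castSucc))
            rw [hk]
            refine dvd_pow_self p fun h => hne ?_
            rw [h, pow_zero] at hk
            exact card_eq_one.1 hk)
          have hm := hsame (c i.castSucc) hcq (w : G) (mem_inf.1 w.2).1 x₀ ih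
            (by rw [Subgroup.orderOf_coe, hw]) (by
              have h0 := pow_orderOf_eq_one x₀
              rw [hx₀] at h0
              exact congrArg Subtype.val h0)
          exact (zpowers_le.2 (mem_inf.1 w.2).2) hm
      exact hl ▸ this (Fin.last n)
    have hN : normalClosure ({(x₀ : G)} : Set G) ≤ (P : Subgroup G) := by
      refine (closure_le _).2 fun y hy => ?_
      obtain ⟨a, ha, hc⟩ := Group.mem_conjugatesOfSet_iff.1 hy
      rw [Set.mem_singleton_iff] at ha
      subst ha
      obtain ⟨g, rfl⟩ := isConj_iff.1 hc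
      have := hall (g⁻¹ • P)
      rw [Sylow.coe_subgroup_smul, Subgroup.mem_pointwise_smul_iff_inv_smul_mem] at this
      simp [MulAut.smul_def] at this
      exact this
    have hle := Cfsg.Agent.Solv.le_pCore (hN := normalClosure_normal) (P.isPGroup'.to_le hN)
    rw [hO] at hle
    have h1 : (x₀ : G) = 1 := mem_bot.1 (hle (subset_normalClosure rfl))
    rw [← Subgroup.orderOf_coe, h1, orderOf_one] at hx₀
    exact (Fact.out : p.Prime).one_lt.ne hx₀

end Cfsg.Agent.S3057
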