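import Cfsg.Statements.S3058
import Cfsg.Agent.Lib.Local.StronglyPEmbedded
import Cfsg.Agent.Lib.Local.CoprimeGeneration
-- import your own Cfsg.Agent.* helpers here

set_option autoImplicit false
open Cfsg

namespace Cfsg.Agent.S3058

/-- Let p be a prime and G a finite group whose Sylow p-subgroups are not chain-connected through nontrivial intersections (so G has a strongly p-embedded subgroup). If N and M are normal subgroups of G whose orders are both divisible by p, then the order of N ∩ M is divisible by p. Consequently, among the normal subgroups of G whose order is divisible by p there is a smallest one (the intersection of all of them). -/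
theorem result {G : Type*} [Group G] [Finite G]
    (p : ℕ) [Fact p.Prime] (hG : ¬ Cfsg.IsSylowChainConnected p G)
    (N M : Subgroup G) [N.Normal] [M.Normal] (hN : p ∣ Nat.card N) (hM : p ∣ Nat.card M) :
    p ∣ Nat.card ↥(N ⊓ M) := by
  obtain ⟨H, hHtop, hpH, hH⟩ := Cfsg.Agent.Local.SPE.exists_hyp hG
  by_contra hK
  set K := N ⊓ M with hKdef
  obtain ⟨S, hSH, -⟩ := Cfsg.Agent.Local.SPE.exists_sylow_le hH hpH
  have hmeet : ∀ L : Subgroup G, L.Normal → p ∣ Nat.card L →
      ∃ x : G, x ∈ (S : Subgroup G) ∧ x ∈ L ∧ orderOf x = p := by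
    intro L hL hpL
    haveI := hL
    let T : Sylow p L := (S.isPGroup'.comap_of_injective L.subtype L.subtype_injective).toSylow
      (Cfsg.Agent.Solv.index_sylow_inf_subnormal L (Subgroup.Normal.isSubnormal inferInstance) S)
    obtain ⟨x, hx⟩ := exists_prime_orderOf_dvd_card' p (T.dvd_card_of_dvd_card hpL)
    exact ⟨((x : L) : G), x.2, (x : L).2, by rw [Subgroup.orderOf_coe, Subgroup.orderOf_coe, hx]⟩
  obtain ⟨u, huS, huN, hu⟩ := hmeet N inferInstance hN
  obtain ⟨v, hvS, hvM, hv⟩ := hmeet M inferInstance hM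
  have hSK : ∀ x ∈ (S : Subgroup G), x ∈ N → x ∈ M → x = 1 := by
    intro x hxS hxN hxM
    obtain ⟨k, hk⟩ := IsPGroup.iff_card.1 S.isPGroup'
    refine orderOf_eq_one_iff.1 (Nat.eq_one_of_dvd_coprimes
      (((Fact.out : p.Prime).coprime_iff_not_dvd.2 hK).pow_left k)
      (hk ▸ Subgroup.orderOf_dvd_natCard _ hxS)
      (Subgroup.orderOf_dvd_natCard _ (Subgroup.mem_inf.2 ⟨hxN, hxM⟩)))
  have huv : u * v = v * u := by
    refine mul_inv_eq_iff_eq_mul.1 (mul_inv_eq_one.1 (hSK (u * v * u⁻¹ * v⁻¹) ?_ ?_ ?_))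
    · exact mul_mem (mul_mem (mul_mem huS hvS) (inv_mem huS)) (inv_mem hvS)
    · rw [show u * v * u⁻¹ * v⁻¹ = u * (v * u⁻¹ * v⁻¹) by group]
      exact mul_mem huN ((inferInstance : N.Normal).conj_mem _ (inv_mem huN) v)
    · exact mul_mem ((inferInstance : M.Normal).conj_mem _ hvM u) (inv_mem hvM)
  set E := Subgroup.closure ({u, v} : Set G) with hE
  have hES : E ≤ (S : Subgroup G) := (Subgroup.closure_le _).2 (Set.insert_subset huS
    (Set.singleton_subset_iff.2 hvS))
  haveI hEc : IsMulCommutative E := Subgroup.isMulCommutative_closure (by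
    intro x hx y hy
    rcases hx with rfl | rfl <;> rcases hy with rfl | rfl
    exacts [rfl, huv, huv.symm, rfl])
  have huE : u ∈ E := Subgroup.subset_closure (Or.inl rfl)
  have hvE : v ∈ E := Subgroup.subset_closure (Or.inr rfl)
  have hcyc : ¬ IsCyclic E := by
    intro hc
    have h2 : (⟨u, huE⟩ : E) ∈ Subgroup.zpowers (⟨v, hvE⟩ : E) := by
      classical
      haveI := Fintype.ofFinite E
      have hvp : orderOf (⟨v, hvE⟩ : E) = p := by rw [← Subgroup.orderOf_coe, hv]
      have hsub : ((Subgroup.zpowers (⟨v, hvE⟩ : E) : Set E).toFinset) ⊆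
          Finset.univ.filter fun x : E => x ^ p = 1 := by
        intro x hx
        obtain ⟨m, rfl⟩ := Set.mem_toFinset.1 hx
        refine Finset.mem_filter.2 ⟨Finset.mem_univ _, ?_⟩
        show ((⟨v, hvE⟩ : E) ^ m) ^ p = 1
        rw [← zpow_natCast, ← zpow_mul, mul_comm, zpow_mul, zpow_natCast, ← hvp,
          pow_orderOf_eq_one, one_zpow]
      have hcard : (Finset.univ.filter fun x : E => x ^ p = 1).card ≤
          ((Subgroup.zpowers (⟨v, hvE⟩ : E) : Set E).toFinset).card := by
        refine (IsCyclic.card_pow_eq_one_le (Fact.out : p.Prime).pos).trans ?_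
        rw [Set.toFinset_card, ← Nat.card_eq_fintype_card]
        exact le_of_eq (((Nat.card_zpowers _).trans hvp).symm)
      have hu' : (⟨u, huE⟩ : E) ^ p = 1 :=
        Subtype.ext (show u ^ p = 1 by rw [← hu, pow_orderOf_eq_one])
      exact Set.mem_toFinset.1 ((Finset.eq_of_subset_of_card_le hsub hcard).symm ▸
        Finset.mem_filter.2 ⟨Finset.mem_univ _, hu'⟩)
    obtain ⟨m, hm⟩ := h2
    have h3 : v ^ m = u := congrArg Subtype.val hm
    have := hSK u huS huN (h3 ▸ zpow_mem hvM m)
    rw [this, orderOf_one] at hu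
    exact (Fact.out : p.Prime).ne_one hu.symm
  have hcop : (Nat.card E).Coprime (Nat.card ↥K) := by
    obtain ⟨k, hk⟩ := IsPGroup.iff_card.1 (S.isPGroup'.to_le hES)
    rw [hk]
    exact ((Fact.out : p.Prime).coprime_iff_not_dvd.2 hK).pow_left k
  have hKH : K ≤ H := by
    refine Cfsg.Agent.Local.CoprimeGen.le_of_centralizers E K H hcyc
      ((Subgroup.normalizer_eq_top K) ▸ le_top) hcop fun e he he1 => inf_le_right.trans fun g hg => ?_
    refine Cfsg.Agent.Local.SPE.mem_of_conj_le hH (U := Subgroup.zpowers e)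
      (S.isPGroup'.to_le (Subgroup.zpowers_le.2 (hES he))) (Subgroup.zpowers_ne_bot.2 he1)
      (Subgroup.zpowers_le.2 (hSH (hES he))) ?_
    rw [MonoidHom.map_zpowers, Subgroup.zpowers_le]
    show g * e * g⁻¹ ∈ H
    rw [← Subgroup.mem_centralizer_iff.1 hg e rfl, mul_inv_cancel_right]
    exact hSH (hES he)
  have hNH : N ≤ H := by
    intro n hn
    refine Cfsg.Agent.Local.SPE.mem_of_conj_le hH (U := (S : Subgroup G) ⊓ M)
      (S.isPGroup'.to_le inf_le_left) ?_ (inf_le_left.trans hSH) ?_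
    · intro e
      have hv1 : v = 1 := e.le ⟨hvS, hvM⟩
      rw [hv1, orderOf_one] at hv
      exact (Fact.out : p.Prime).ne_one hv.symm
    · rintro _ ⟨r, hr, rfl⟩
      obtain ⟨hrS, hrM⟩ := Subgroup.mem_inf.1 hr
      show n * r * n⁻¹ ∈ H
      rw [show n * r * n⁻¹ = (n * (r * n⁻¹ * r⁻¹)) * r by group]
      refine mul_mem (hKH (Subgroup.mem_inf.2 ⟨?_, ?_⟩)) (hSH hrS)
      · exact mul_mem hn ((inferInstance : N.Normal).conj_mem _ (inv_mem hn) r)
      · rw [show n * (r * n⁻¹ * r⁻¹) = (n * r * n⁻¹) * r⁻¹ by group]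
        exact mul_mem ((inferInstance : M.Normal).conj_mem _ hrM n) (inv_mem hrM)
  refine hHtop (top_le_iff.1 ((Cfsg.Agent.Local.SPE.sup_coprime_eq_top hH hpH N hN).symm.trans_le ?_))
  exact sup_le le_rfl ((Subgroup.closure_le _).2 fun g hg => hNH hg.1)

end Cfsg.Agent.S3058
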