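import Cfsg.Statements.S3061
import Cfsg.Agent.Lib.Solv.SchurZassenhaus
import Cfsg.Agent.Lib.Local.WeaklyClosedBasics
import Cfsg.Prelude.Def_DStar
-- import your own Cfsg.Agent.* helpers here

set_option autoImplicit false
open Cfsg

namespace Cfsg.Agent.S3061
open scoped commutatorElement

/-- Let S be a finite p-group. Then D*(S) itself belongs to the family that generates it: D*(S) is abelian, and every x ∈ S with ⟨D*(S), x⟩ of class at most two centralizes D*(S). Hence D*(S) is the unique maximal member of that family. -/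
theorem result {S : Type*} [Group S] [Finite S] {p : ℕ} [Fact p.Prime] (hS : IsPGroup p S) :
    Cfsg.dStar S ∈ Cfsg.dStarFamily S := by
  classical
  have hnormcomm : ∀ A ∈ dStarFamily S, ∀ B ∈ dStarFamily S,
      A ≤ Subgroup.normalizer (B : Set S) → B ≤ Subgroup.normalizer (A : Set S) →
        ∀ a ∈ A, ∀ b ∈ B, a * b = b * a := by
    intro A hA B hB hAB hBA a ha b hb
    refine hA.2 b ?_ a ha
    set K := A ⊔ Subgroup.zpowers b with hK
    have hle : K ≤ A ⊔ B := sup_le_sup le_rfl (Subgroup.zpowers_le.2 hb)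
    have hI : ⁅A ⊔ B, A ⊔ B⁆ ≤ A ⊓ B := by
      rw [Subgroup.commutator_le]
      have hn : A ⊔ B ≤ Subgroup.normalizer ((A ⊓ B : Subgroup S) : Set S) :=
        Solv.le_normalizer_inf (sup_le Subgroup.le_normalizer hBA) (sup_le hAB Subgroup.le_normalizer)
      have hIA : ⁅A, B⁆ ≤ A := Subgroup.le_normalizer_iff_commutator_le_left.1 hBA
      have hIB : ⁅A, B⁆ ≤ B := by
        rw [Subgroup.commutator_comm]; exact Subgroup.le_normalizer_iff_commutator_le_left.1 hAB
      intro x hx y hy
      haveI : ((A ⊓ B).subgroupOf (A ⊔ B)).Normal := Subgroup.normal_subgroupOf_of_le_normalizer hn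
      set f := QuotientGroup.mk' ((A ⊓ B).subgroupOf (A ⊔ B))
      have hcomm : ∀ u v : ↥(A ⊔ B), f u * f v = f v * f u := by
        have hu : ∀ u : ↥(A ⊔ B), u ∈ Subgroup.closure {w : ↥(A ⊔ B) | (w : S) ∈ A ∨ (w : S) ∈ B} := by
          rintro ⟨u, hu⟩
          rw [Subgroup.sup_eq_closure] at hu
          induction hu using Subgroup.closure_induction with
          | mem w hw => exact Subgroup.subset_closure hw
          | one => exact one_mem _
          | mul w z hw hz iw iz => exact mul_mem (iw (Subgroup.sup_eq_closure A B ▸ hw)) (iz (Subgroup.sup_eq_closure A B ▸ hz))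
          | inv w hw iw => exact inv_mem (iw (Subgroup.sup_eq_closure A B ▸ hw))
        have hgen : ∀ u ∈ {w : ↥(A ⊔ B) | (w : S) ∈ A ∨ (w : S) ∈ B}, ∀ v ∈ {w : ↥(A ⊔ B) | (w : S) ∈ A ∨ (w : S) ∈ B},
            f u * f v = f v * f u := by
          intro u hu' v hv'
          rw [← commutatorElement_eq_one_iff_mul_comm, ← map_commutatorElement]
          refine (QuotientGroup.eq_one_iff _).2 ?_
          show ((⁅u, v⁆ : ↥(A ⊔ B)) : S) ∈ A ⊓ B
          rcases hu' with h1 | h1 <;> rcases hv' with h2 | h2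
          · have e : ((⁅u, v⁆ : ↥(A ⊔ B)) : S) = 1 := by
              simp only [commutatorElement_def, Subgroup.coe_mul, Subgroup.coe_inv]
              rw [show (u : S) * v = v * u from congrArg Subtype.val (hA.1.is_comm.comm ⟨u, h1⟩ ⟨v, h2⟩)]
              group
            rw [e]; exact one_mem _
          · have h3 : ⁅(u : S), (v : S)⁆ ∈ ⁅A, B⁆ := Subgroup.commutator_mem_commutator h1 h2
            exact Subgroup.mem_inf.2 ⟨hIA h3, hIB h3⟩
          · have h3 : ⁅(u : S), (v : S)⁆ ∈ ⁅A, B⁆ := by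
              rw [Subgroup.commutator_comm]; exact Subgroup.commutator_mem_commutator h1 h2
            exact Subgroup.mem_inf.2 ⟨hIA h3, hIB h3⟩
          · have e : ((⁅u, v⁆ : ↥(A ⊔ B)) : S) = 1 := by
              simp only [commutatorElement_def, Subgroup.coe_mul, Subgroup.coe_inv]
              rw [show (u : S) * v = v * u from congrArg Subtype.val (hB.1.is_comm.comm ⟨u, h1⟩ ⟨v, h2⟩)]
              group
            rw [e]; exact one_mem _
        intro u v
        have h1 : ∀ v ∈ {w : ↥(A ⊔ B) | (w : S) ∈ A ∨ (w : S) ∈ B}, f u * f v = f v * f u := by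
          intro v hv
          induction hu u using Subgroup.closure_induction with
          | mem w hw => exact hgen w hw v hv
          | one => simp
          | mul w z _ _ iw iz =>
            rw [map_mul]
            exact (show Commute (f w) (f v) from iw).mul_left iz
          | inv w _ iw => rw [map_inv]; exact (show Commute (f w) (f v) from iw).inv_left
        induction hu v using Subgroup.closure_induction with
        | mem w hw => exact h1 w hw
        | one => simp
        | mul w z _ _ iw iz => rw [map_mul]; exact (show Commute (f u) (f w) from iw).mul_right iz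
        | inv w _ iw => rw [map_inv]; exact (show Commute (f u) (f w) from iw).inv_right
      have := hcomm ⟨x, hx⟩ ⟨y, hy⟩
      rw [← commutatorElement_eq_one_iff_mul_comm, ← map_commutatorElement] at this
      exact ((QuotientGroup.eq_one_iff _).1 this : (⁅(⟨x, hx⟩ : ↥(A ⊔ B)), ⟨y, hy⟩⁆ : ↥(A ⊔ B)) ∈ (A ⊓ B).subgroupOf (A ⊔ B))
    rw [Subgroup.commutator_eq_bot_iff_le_centralizer]
    intro w hw
    have hw' := hI (Subgroup.commutator_mono hle hle hw)
    refine (SetLike.le_def.1 ?_ hw')
    rw [Subgroup.le_centralizer_iff, hK]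
    refine sup_le ?_ (Subgroup.zpowers_le.2 ?_)
    · exact fun a' ha' => Subgroup.mem_centralizer_iff.2 fun z hz => congrArg Subtype.val (hA.1.is_comm.comm ⟨z, hz.1⟩ ⟨a', ha'⟩)
    · exact Subgroup.mem_centralizer_iff.2 fun z hz => congrArg Subtype.val (hB.1.is_comm.comm ⟨z, hz.2⟩ ⟨b, hb⟩)
  have hconj : ∀ A ∈ dStarFamily S, ∀ g : S, A.map (MulAut.conj g).toMonoidHom ∈ dStarFamily S := by
    intro A hA g
    haveI := hA.1
    refine ⟨Subgroup.map_isMulCommutative _ _, ?_⟩
    rintro x hx _ ⟨a, ha, rfl⟩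
    have h1 := hA.2 (g⁻¹ * x * g) ?_ a ha
    · show g * a * g⁻¹ * x = x * (g * a * g⁻¹)
      calc g * a * g⁻¹ * x = g * (a * (g⁻¹ * x * g)) * g⁻¹ := by group
        _ = g * ((g⁻¹ * x * g) * a) * g⁻¹ := by rw [h1]
        _ = x * (g * a * g⁻¹) := by group
    · have e : (A ⊔ Subgroup.zpowers (g⁻¹ * x * g)).map (MulAut.conj g).toMonoidHom =
          A.map (MulAut.conj g).toMonoidHom ⊔ Subgroup.zpowers x := by
        rw [Subgroup.map_sup, MonoidHom.map_zpowers]; congr 2; simp [mul_assoc]
      apply Subgroup.map_injective (f := (MulAut.conj g).toMonoidHom) (MulAut.conj g).injective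
      rw [Subgroup.map_commutator, Subgroup.map_commutator, e, Subgroup.map_bot]
      exact hx
  have hjoin : ∀ A ∈ dStarFamily S, ∀ B ∈ dStarFamily S, (∀ a ∈ A, ∀ b ∈ B, a * b = b * a) →
      A ⊔ B ∈ dStarFamily S := by
    intro A hA B hB hc
    have hab : IsMulCommutative ↥(A ⊔ B) := by
      rw [Subgroup.sup_eq_closure]
      refine Subgroup.isMulCommutative_closure ?_
      rintro u (hu | hu) v (hv | hv)
      · exact congrArg Subtype.val (hA.1.is_comm.comm ⟨u, hu⟩ ⟨v, hv⟩)
      · exact hc u hu v hv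
      · exact (hc v hv u hu).symm
      · exact congrArg Subtype.val (hB.1.is_comm.comm ⟨u, hu⟩ ⟨v, hv⟩)
    refine ⟨hab, fun x hx a ha => ?_⟩
    have hle : A ⊔ B ≤ Subgroup.centralizer ({x} : Set S) := by
      refine sup_le (fun u hu => ?_) (fun u hu => ?_) <;> rw [Subgroup.mem_centralizer_iff] <;>
        intro z hz <;> rw [Set.mem_singleton_iff.1 hz]
      · exact (hA.2 x (le_bot_iff.1 (hx ▸ Subgroup.commutator_mono (Subgroup.commutator_mono
          (sup_le_sup le_sup_left le_rfl) (sup_le_sup le_sup_left le_rfl)) (sup_le_sup le_sup_left le_rfl))) u hu).symm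
      · exact (hB.2 x (le_bot_iff.1 (hx ▸ Subgroup.commutator_mono (Subgroup.commutator_mono
          (sup_le_sup le_sup_right le_rfl) (sup_le_sup le_sup_right le_rfl)) (sup_le_sup le_sup_right le_rfl))) u hu).symm
    exact (Subgroup.mem_centralizer_iff.1 (hle ha) x rfl).symm
  have hbot : (⊥ : Subgroup S) ∈ dStarFamily S :=
    ⟨⟨⟨fun a b => Subsingleton.elim _ _⟩⟩, fun x _ a ha => by rw [Subgroup.mem_bot.1 ha]; simp⟩
  obtain ⟨D, hD, hmax⟩ := (Set.toFinite (dStarFamily S)).exists_maximal ⟨⊥, hbot⟩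
  have hnormal : ∀ A ∈ dStarFamily S, (∀ B ∈ dStarFamily S, A ≤ B → B ≤ A) → A.Normal := by
    intro A hA hm
    by_contra hne
    haveI := hS.isNilpotent
    set N := Subgroup.normalizer (A : Set S) with hN
    have hlt : N < ⊤ := lt_top_iff_ne_top.2 fun e => hne (Subgroup.normalizer_eq_top_iff.1 e)
    obtain ⟨g, hg1, hg2⟩ := SetLike.exists_of_lt (Group.normalizerCondition_of_isNilpotent (G := S) N hlt)
    set B := A.map (MulAut.conj g).toMonoidHom with hB
    have hBN : B ≤ N := by
      rintro _ ⟨a, ha, rfl⟩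
      exact (Subgroup.mem_normalizer_iff.1 hg1 a).1 (Subgroup.le_normalizer ha)
    have hAB : A ≤ Subgroup.normalizer (B : Set S) := by
      intro a ha
      refine Local.WCB.mem_normalizer_of_map_conj_eq ?_
      have h3 : g⁻¹ * a * g ∈ N := (Subgroup.mem_normalizer_iff''.1 hg1 a).1 (Subgroup.le_normalizer ha)
      rw [hB, Local.WCB.map_conj_map, show a * g = g * (g⁻¹ * a * g) by group, ← Local.WCB.map_conj_map,
        Local.WCB.map_conj_eq_of_mem_normalizer h3]
    have hc := hnormcomm A hA B (hconj A hA g) hAB hBN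
    have := hm _ (hjoin A hA B (hconj A hA g) hc) le_sup_left
    refine hg2 (Local.WCB.mem_normalizer_of_map_conj_eq (Subgroup.eq_of_le_of_card_ge (le_sup_right.trans this)
      (Nat.card_congr (A.equivMapOfInjective (MulAut.conj g).toMonoidHom (MulAut.conj g).injective).toEquiv).le))
  haveI := hnormal D hD fun B hB h => hmax hB h
  have hall : ∀ A ∈ dStarFamily S, A ≤ D := by
    intro A hA
    obtain ⟨A', ⟨hA', hAA'⟩, hm'⟩ := (Set.toFinite {B ∈ dStarFamily S | A ≤ B}).exists_maximal ⟨A, hA, le_rfl⟩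
    haveI := hnormal A' hA' fun B hB h => hm' ⟨hB, hAA'.trans h⟩ h
    have hc := hnormcomm D hD A' hA' (Subgroup.normalizer_eq_top A' ▸ le_top) (Subgroup.normalizer_eq_top D ▸ le_top)
    exact hAA'.trans (le_sup_right.trans (hmax (hjoin D hD A' hA' hc) le_sup_left))
  have : dStar S = D := le_antisymm (sSup_le hall) (le_sSup hD)
  rw [this]
  exact hD

end Cfsg.Agent.S3061
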