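import Cfsg.Statements.S3060
import Cfsg.Agent.Lib.Solv.ZJ
import Cfsg.Agent.S3061
-- import your own Cfsg.Agent.* helpers here

set_option autoImplicit false
open Cfsg

namespace Cfsg.Agent.S3060
open Cfsg.Agent
open scoped commutatorElement

theorem dStar_conj {S : Type*} [Group S] (g : S) (d : S) (hd : d ∈ Cfsg.dStar S) : g * d * g⁻¹ ∈ Cfsg.dStar S := by
  have hle : Cfsg.dStar S ≤ (Cfsg.dStar S).comap (MulAut.conj g).toMonoidHom := sSup_le fun U hU => by
    rw [← Subgroup.map_le_iff_le_comap]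
    refine le_sSup ⟨⟨⟨?_⟩⟩, fun x hx => ?_⟩
    · rintro ⟨_, a, ha, rfl⟩ ⟨_, b, hb, rfl⟩
      refine Subtype.ext ?_
      show (MulAut.conj g) a * (MulAut.conj g) b = (MulAut.conj g) b * (MulAut.conj g) a
      rw [← map_mul, ← map_mul]
      exact congrArg _ (congrArg Subtype.val (hU.1.is_comm.comm ⟨a, ha⟩ ⟨b, hb⟩))
    · have hinj := (MulAut.conj g).injective
      set y := (MulAut.conj g).symm x with hy
      have hxy : (MulAut.conj g).toMonoidHom y = x := (MulAut.conj g).apply_symm_apply x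
      have e : U.map (MulAut.conj g).toMonoidHom ⊔ Subgroup.zpowers x =
          (U ⊔ Subgroup.zpowers y).map (MulAut.conj g).toMonoidHom := by
        rw [Subgroup.map_sup, MonoidHom.map_zpowers, hxy]
      rw [e, ← Subgroup.map_commutator, ← Subgroup.map_commutator,
        Subgroup.map_eq_bot_iff_of_injective _ hinj] at hx
      rintro _ ⟨a, ha, rfl⟩
      rw [← hxy, ← map_mul, ← map_mul, hU.2 y hx a ha]
  exact hle hd

/-- Class two from central commutators on generators. -/
theorem class_two {S : Type*} [Group S] (U : Subgroup S) (hU : IsMulCommutative U) (x : S)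
    (h : ∀ v ∈ U, (∀ w ∈ U, ⁅v, x⁆ * w = w * ⁅v, x⁆) ∧ ⁅v, x⁆ * x = x * ⁅v, x⁆) :
    ⁅⁅U ⊔ Subgroup.zpowers x, U ⊔ Subgroup.zpowers x⁆, U ⊔ Subgroup.zpowers x⁆ = ⊥ := by
  set K := U ⊔ Subgroup.zpowers x with hK
  have hKeq : K = Subgroup.closure ((U : Set S) ∪ {x}) := by
    rw [Subgroup.closure_union, Subgroup.closure_eq, ← Subgroup.zpowers_eq_closure]
  set C := Subgroup.centralizer (K : Set S) with hC
  have hCs : ∀ z, (∀ w ∈ (U : Set S) ∪ {x}, z * w = w * z) → z ∈ C := fun z hz => by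
    rw [hC, hKeq, Subgroup.centralizer_closure]
    exact Subgroup.mem_centralizer_iff.2 fun w hw => (hz w hw).symm
  have hgen : ∀ a ∈ (U : Set S) ∪ {x}, ∀ b ∈ (U : Set S) ∪ {x}, ⁅a, b⁆ ∈ C := by
    have hux : ∀ v ∈ U, ⁅v, x⁆ ∈ C := fun v hv => hCs _ fun w hw => by
      rcases hw with hw | hw
      · exact (h v hv).1 w hw
      · rw [show w = x from hw]; exact (h v hv).2
    rintro a (ha | ha) b (hb | hb)
    · rw [commutatorElement_eq_one_iff_mul_comm.2 (congrArg Subtype.val (hU.is_comm.comm (⟨a, ha⟩ : U) ⟨b, hb⟩))]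
      exact one_mem _
    · rw [show b = x from hb]; exact hux a ha
    · rw [show a = x from ha, ← commutatorElement_inv]; exact inv_mem (hux b hb)
    · rw [show a = x from ha, show b = x from hb, commutatorElement_self]; exact one_mem _
  have step : ∀ a ∈ K, ∀ b ∈ (U : Set S) ∪ {x}, ⁅a, b⁆ ∈ C := by
    intro a ha
    rw [hKeq] at ha
    induction ha using Subgroup.closure_induction with
    | mem a ha => exact hgen a ha
    | one => intro b _; rw [commutatorElement_one_left]; exact one_mem _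
    | mul a c ha _ iha ihc =>
      intro b hb
      have e : ⁅a * c, b⁆ = a * ⁅c, b⁆ * a⁻¹ * ⁅a, b⁆ := by simp [commutatorElement_def, mul_assoc]
      have hz := Subgroup.mem_centralizer_iff.1 (ihc b hb) a (hKeq ▸ ha)
      rw [e, hz, mul_inv_cancel_right]
      exact mul_mem (ihc b hb) (iha b hb)
    | inv a ha iha =>
      intro b hb
      have e : ⁅a⁻¹, b⁆ = a⁻¹ * ⁅a, b⁆⁻¹ * a := by simp [commutatorElement_def, mul_assoc]
      have hz := Subgroup.mem_centralizer_iff.1 (inv_mem (iha b hb)) a⁻¹ (inv_mem (hKeq ▸ ha))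
      rw [e, hz, inv_mul_cancel_right]
      exact inv_mem (iha b hb)
  have step2 : ∀ b ∈ K, ∀ a ∈ K, ⁅a, b⁆ ∈ C := by
    intro b hb
    rw [hKeq] at hb
    induction hb using Subgroup.closure_induction with
    | mem b hb => exact fun a ha => step a ha b hb
    | one => intro a _; rw [commutatorElement_one_right]; exact one_mem _
    | mul b d hb _ ihb ihd =>
      intro a ha
      have e : ⁅a, b * d⁆ = ⁅a, b⁆ * (b * ⁅a, d⁆ * b⁻¹) := by simp [commutatorElement_def, mul_assoc]
      have hz := Subgroup.mem_centralizer_iff.1 (ihd a ha) b (hKeq ▸ hb)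
      rw [e, hz, mul_inv_cancel_right]
      exact mul_mem (ihb a ha) (ihd a ha)
    | inv b hb ihb =>
      intro a ha
      have e : ⁅a, b⁻¹⁆ = b⁻¹ * ⁅a, b⁆⁻¹ * b := by simp [commutatorElement_def, mul_assoc]
      have hz := Subgroup.mem_centralizer_iff.1 (inv_mem (ihb a ha)) b⁻¹ (inv_mem (hKeq ▸ hb))
      rw [e, hz, inv_mul_cancel_right]
      exact inv_mem (ihb a ha)
  rw [Subgroup.commutator_eq_bot_iff_le_centralizer, Subgroup.commutator_le]
  exact fun a ha b hb => step2 b hb a ha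


/-- The D*-Theorem. For a finite p-group S let D*(S) be the subgroup generated by the abelian subgroups A of S such that every x ∈ S with ⟨A, x⟩ of nilpotency class at most two centralizes A. Let p be an odd prime and H a finite p-stable group with Sylow p-subgroup S. Here H is p-stable in the following sense: the largest normal p-subgroup O_p(H) contains its centralizer in H, and for every normal p-subgroup P of H, every element acting quadratically on P has image in O_p(H/C_H(P)). Then D*(S) is a normal subgroup of H. -/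
theorem result {G : Type*} [Group G] [Finite G] {p : ℕ} [Fact p.Prime] (hp : p ≠ 2)
    (hc : Subgroup.centralizer (Cfsg.pCore p G : Set G) ≤ Cfsg.pCore p G)
    (hst : ∀ (P : Subgroup G) [P.Normal], IsPGroup p P → Cfsg.IsPStableOn p P) (S : Sylow p G) :
    (Cfsg.dStarOf (S : Subgroup G)).Normal := by
  skip
  classical
  obtain ⟨hDab, hDfam⟩ := Cfsg.Agent.S3061.result S.isPGroup'
  set D := Cfsg.dStarOf (S : Subgroup G) with hD
  set Q := Cfsg.pCore p G with hQdef
  have hQp : IsPGroup p Q := Cfsg.Agent.Solv.isPGroup_pCore p G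
  have hDS : D ≤ (S : Subgroup G) := Subgroup.map_subtype_le _
  have hQS : Q ≤ (S : Subgroup G) := Cfsg.Agent.Solv.pCore_le_sylow S
  have hDc : ∀ u ∈ D, ∀ v ∈ D, u * v = v * u := by
    rintro _ ⟨u, hu, rfl⟩ _ ⟨v, hv, rfl⟩
    have h : u * v = v * u := congrArg Subtype.val (hDab.is_comm.comm (⟨u, hu⟩ : Cfsg.dStar ↥(S : Subgroup G)) ⟨v, hv⟩)
    rw [← map_mul, ← map_mul, h]
  have hDn : ∀ s ∈ (S : Subgroup G), ∀ d ∈ D, s * d * s⁻¹ ∈ D := by
    rintro s hs _ ⟨d, hd, rfl⟩
    exact ⟨_, dStar_conj ⟨s, hs⟩ d hd, rfl⟩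
  -- an element with central commutators centralizes `D`
  have hcent : ∀ x ∈ (S : Subgroup G), (∀ u ∈ D, (∀ v ∈ D, ⁅u, x⁆ * v = v * ⁅u, x⁆) ∧ ⁅u, x⁆ * x = x * ⁅u, x⁆) →
      ∀ u ∈ D, u * x = x * u := by
    rintro x hx hcl _ ⟨u, hu, rfl⟩
    refine congrArg Subtype.val (hDfam ⟨x, hx⟩ (class_two _ hDab ⟨x, hx⟩ fun v hv => ⟨fun w hw => ?_, ?_⟩) u hu)
    · exact Subtype.ext ((hcl _ ⟨v, hv, rfl⟩).1 _ ⟨w, hw, rfl⟩)
    · exact Subtype.ext (hcl _ ⟨v, hv, rfl⟩).2
  -- `D` lies in the core
  have hDQ : D ≤ Q := by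
    intro d hd
    have hq : ⁅⁅Q, Subgroup.zpowers d⁆, Subgroup.zpowers d⁆ = ⊥ := by
      have h1 : ⁅Q, D⁆ ≤ D := Subgroup.commutator_le.2 fun q hq u hu => by
        rw [commutatorElement_def]; exact mul_mem (hDn q (hQS hq) u hu) (inv_mem hu)
      have h2 : ⁅D, D⁆ = ⊥ := Subgroup.commutator_eq_bot_iff_le_centralizer.2 fun u hu =>
        Subgroup.mem_centralizer_iff.2 fun v hv => hDc v hv u hu
      exact le_bot_iff.1 ((Subgroup.commutator_mono ((Subgroup.commutator_mono le_rfl (Subgroup.zpowers_le.2 hd)).trans h1) (Subgroup.zpowers_le.2 hd)).trans h2.le)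
    have h := hst Q hQp d hq
    set C := Subgroup.centralizer (Q : Set G) with hC
    haveI : C.Normal := inferInstance
    have hp' : IsPGroup p ↥((Cfsg.pCore p (G ⧸ C)).comap (QuotientGroup.mk' C)) := by
      refine (Cfsg.Agent.Solv.isPGroup_pCore p (G ⧸ C)).comap_of_ker_isPGroup _ ?_
      rw [QuotientGroup.ker_mk']
      exact hQp.to_le hc
    haveI : ((Cfsg.pCore p (G ⧸ C)).comap (QuotientGroup.mk' C)).Normal := Subgroup.Normal.comap inferInstance _
    exact Cfsg.Agent.Solv.le_pCore hp' (Subgroup.mem_comap.2 h)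
  set W := Subgroup.normalClosure (D : Set G) with hWdef
  have hWQ : W ≤ Q := Subgroup.normalClosure_le_normal hDQ
  have hWS : W ≤ (S : Subgroup G) := hWQ.trans hQS
  -- conjugates of `D` centralize `D`
  have hconjc : ∀ g : G, ∀ e ∈ D, ∀ u ∈ D, u * (g * e * g⁻¹) = (g * e * g⁻¹) * u := by
    intro g e he
    have hxQ : g * e * g⁻¹ ∈ Q := (inferInstance : (Cfsg.pCore p G).Normal).conj_mem _ (hDQ he) g
    refine hcent _ (hQS hxQ) fun u hu => ?_
    set x := g * e * g⁻¹ with hx
    have hc1 : ⁅u, x⁆ ∈ D := by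
      have h := mul_mem hu (hDn x (hQS hxQ) u⁻¹ (inv_mem hu))
      simpa [commutatorElement_def, mul_assoc] using h
    have hc2 : g⁻¹ * ⁅u, x⁆ * g ∈ D := by
      have hu' : g⁻¹ * u * g ∈ (S : Subgroup G) := hQS (by simpa using (inferInstance : (Cfsg.pCore p G).Normal).conj_mem _ (hDQ hu) g⁻¹)
      have h := mul_mem (hDn _ hu' e he) (inv_mem he)
      have e1 : g⁻¹ * ⁅u, x⁆ * g = (g⁻¹ * u * g) * e * (g⁻¹ * u * g)⁻¹ * e⁻¹ := by
        rw [hx, commutatorElement_def]; group
      rwa [e1]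
    refine ⟨fun v hv => hDc _ hc1 v hv, ?_⟩
    have h := hDc _ hc2 e he
    calc ⁅u, x⁆ * x = g * ((g⁻¹ * ⁅u, x⁆ * g) * e) * g⁻¹ := by rw [hx]; group
      _ = g * (e * (g⁻¹ * ⁅u, x⁆ * g)) * g⁻¹ := by rw [h]
      _ = x * ⁅u, x⁆ := by rw [hx]; group
  have hWab : IsMulCommutative W := by
    rw [hWdef, Subgroup.normalClosure]
    refine Subgroup.isMulCommutative_closure fun a ha b hb => ?_
    obtain ⟨u, hu, hau⟩ := Group.mem_conjugatesOfSet_iff.1 ha
    obtain ⟨v, hv, hbv⟩ := Group.mem_conjugatesOfSet_iff.1 hb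
    obtain ⟨g, rfl⟩ := isConj_iff.1 hau
    obtain ⟨g', rfl⟩ := isConj_iff.1 hbv
    have h := hconjc (g⁻¹ * g') v hv u hu
    calc g * u * g⁻¹ * (g' * v * g'⁻¹) = g * (u * (g⁻¹ * g' * v * (g⁻¹ * g')⁻¹)) * g⁻¹ := by group
      _ = g * (g⁻¹ * g' * v * (g⁻¹ * g')⁻¹ * u) * g⁻¹ := by rw [h]
      _ = _ := by group
  haveI hWn : W.Normal := Subgroup.normalClosure_normal
  -- the normal closure belongs to the family
  have hWD : W ≤ D := by
    have hWfam : W.subgroupOf (S : Subgroup G) ∈ Cfsg.dStarFamily ↥(S : Subgroup G) := by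
      refine ⟨⟨⟨fun a b => Subtype.ext (Subtype.ext ?_)⟩⟩, ?_⟩
      · have h := congrArg Subtype.val (hWab.is_comm.comm (⟨_, a.2⟩ : W) ⟨_, b.2⟩)
        exact h
      intro x hcl a ha
      refine Subtype.ext ?_
      show (a : G) * (x : G) = (x : G) * a
      have hq : ⁅⁅W, Subgroup.zpowers (x : G)⁆, Subgroup.zpowers (x : G)⁆ = ⊥ := by
        have h0 := congrArg (Subgroup.map (S : Subgroup G).subtype) hcl
        rw [Subgroup.map_commutator, Subgroup.map_commutator, Subgroup.map_sup, Subgroup.map_bot, MonoidHom.map_zpowers,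
          Subgroup.map_subgroupOf_eq_of_le hWS] at h0
        exact le_bot_iff.1 ((Subgroup.commutator_mono (Subgroup.commutator_mono le_sup_left le_sup_right) le_sup_right).trans h0.le)
      have hWp : IsPGroup p W := hQp.to_le hWQ
      have hxL := hst W hWp x hq
      set C := Subgroup.centralizer (W : Set G) with hC
      haveI : C.Normal := inferInstance
      set L := (Cfsg.pCore p (G ⧸ C)).comap (QuotientGroup.mk' C) with hLdef
      haveI : L.Normal := Subgroup.Normal.comap inferInstance _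
      obtain ⟨T, hT⟩ := Cfsg.Agent.Solv.ZJ.exists_sylow_inf S L
      have hTC : L ≤ ((T : Subgroup L).map L.subtype) ⊔ C := by
        have hs : Function.Surjective ((QuotientGroup.mk' C).subgroupComap (Cfsg.pCore p (G ⧸ C))) :=
          MonoidHom.subgroupComap_surjective_of_surjective _ _ (QuotientGroup.mk'_surjective C)
        have htop : (T : Subgroup L).map ((QuotientGroup.mk' C).subgroupComap (Cfsg.pCore p (G ⧸ C))) = ⊤ :=
          ((T.mapSurjective hs).is_maximal' (Q := ⊤) ((Cfsg.Agent.Solv.isPGroup_pCore p (G ⧸ C)).to_subgroup ⊤) le_top).symm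
        intro l hl
        obtain ⟨t, ht, e⟩ : ((QuotientGroup.mk' C).subgroupComap (Cfsg.pCore p (G ⧸ C))) ⟨l, hl⟩ ∈
            (T : Subgroup L).map ((QuotientGroup.mk' C).subgroupComap (Cfsg.pCore p (G ⧸ C))) := by rw [htop]; trivial
        have e' : (QuotientGroup.mk (t : G) : G ⧸ C) = QuotientGroup.mk l := congrArg Subtype.val e
        rw [QuotientGroup.eq] at e'
        have : l = (t : G) * ((t : G)⁻¹ * l) := by group
        rw [this]
        exact Subgroup.mul_mem_sup ⟨t, ht, rfl⟩ e'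
      have htop' : Subgroup.normalizer (((T : Subgroup L).map L.subtype : Subgroup G) : Set G) ⊔ C = ⊤ := by
        rw [eq_top_iff, ← Sylow.normalizer_sup_eq_top T]
        exact sup_le le_sup_left (hTC.trans (sup_le (Subgroup.le_normalizer.trans le_sup_left) le_sup_right))
      have hxT : (x : G) ∈ (T : Subgroup L).map L.subtype := hT ▸ Subgroup.mem_inf.2 ⟨x.2, hxL⟩
      have key : ∀ g : G, ∀ u ∈ D, g * u * g⁻¹ * x = x * (g * u * g⁻¹) := by
        intro g u hu
        obtain ⟨n, hn, c, hcC, rfl⟩ := Subgroup.mem_sup_of_normal_right.1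
          (show g ∈ Subgroup.normalizer (((T : Subgroup L).map L.subtype : Subgroup G) : Set G) ⊔ C by rw [htop']; trivial)
        have hcu : n * c * u * (n * c)⁻¹ = n * u * n⁻¹ := by
          have h : u * c = c * u := Subgroup.mem_centralizer_iff.1 hcC u (Subgroup.subset_normalClosure hu)
          calc n * c * u * (n * c)⁻¹ = n * (c * u) * c⁻¹ * n⁻¹ := by group
            _ = n * (u * c) * c⁻¹ * n⁻¹ := by rw [h]
            _ = _ := by group
        rw [hcu]
        set y := n⁻¹ * (x : G) * n with hy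
        have hyS : y ∈ (S : Subgroup G) := by
          have h := (Subgroup.mem_normalizer_iff''.1 hn (x : G)).1 hxT
          rw [hT] at h
          exact (Subgroup.mem_inf.1 h).1
        have h := hcent y hyS (fun v hv => by
          have hvW : v ∈ W := Subgroup.subset_normalClosure hv
          have hcW : ⁅v, y⁆ ∈ W := by
            have h := mul_mem hvW (hWn.conj_mem _ (inv_mem hvW) y)
            simpa [commutatorElement_def, mul_assoc] using h
          refine ⟨fun w hw => congrArg Subtype.val (hWab.is_comm.comm (⟨_, hcW⟩ : W) ⟨w, Subgroup.subset_normalClosure hw⟩), ?_⟩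
          have h1 : ⁅n * v * n⁻¹, (x : G)⁆ ∈ ⁅W, Subgroup.zpowers (x : G)⁆ :=
            Subgroup.commutator_mem_commutator (hWn.conj_mem v hvW n) (Subgroup.mem_zpowers _)
          have h2 := Subgroup.commutator_mem_commutator h1 (Subgroup.mem_zpowers (x : G))
          rw [hq, Subgroup.mem_bot, commutatorElement_eq_one_iff_mul_comm] at h2
          calc ⁅v, y⁆ * y = n⁻¹ * (⁅n * v * n⁻¹, (x : G)⁆ * x) * n := by rw [hy, commutatorElement_def, commutatorElement_def]; group
            _ = n⁻¹ * (x * ⁅n * v * n⁻¹, (x : G)⁆) * n := by rw [h2]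
            _ = y * ⁅v, y⁆ := by rw [hy, commutatorElement_def, commutatorElement_def]; group) u hu
        calc n * u * n⁻¹ * x = n * (u * y) * n⁻¹ := by rw [hy]; group
          _ = n * (y * u) * n⁻¹ := by rw [h]
          _ = _ := by rw [hy]; group
      have hle : W ≤ Subgroup.centralizer ({(x : G)} : Set G) := by
        rw [hWdef, Subgroup.normalClosure, Subgroup.closure_le]
        intro b hb
        obtain ⟨u, hu, hbu⟩ := Group.mem_conjugatesOfSet_iff.1 hb
        obtain ⟨g, rfl⟩ := isConj_iff.1 hbu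
        exact Subgroup.mem_centralizer_singleton_iff.2 (key g u hu)
      exact Subgroup.mem_centralizer_singleton_iff.1 (hle ha)
    have h := Subgroup.map_mono (f := (S : Subgroup G).subtype) (le_sSup hWfam : _ ≤ Cfsg.dStar ↥(S : Subgroup G))
    rwa [Subgroup.map_subgroupOf_eq_of_le hWS] at h
  rw [show D = W from le_antisymm Subgroup.le_normalClosure hWD]
  exact hWn

end Cfsg.Agent.S3060
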