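import Cfsg.Statements.S3062
import Cfsg.Agent.S3061
import Cfsg.Agent.Lib.Solv.Replacement
-- import your own Cfsg.Agent.* helpers here

set_option autoImplicit false
open Cfsg

namespace Cfsg.Agent.S3062
open scoped commutatorElement

/-- Let S be a finite p-group, J(S) the subgroup generated by the abelian subgroups of S of largest order and Z(J(S)) its centre. Then Z(S) ≤ D*(S) ≤ Z(J(S)), and every maximal normal abelian subgroup of S contains D*(S). -/
theorem result {S : Type*} [Group S] [Finite S] {p : ℕ} [Fact p.Prime]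
    (hS : IsPGroup p S) :
    Subgroup.center S ≤ Cfsg.dStar S ∧
    Cfsg.dStar S ≤ Cfsg.thompsonSubgroupA S ⊓ Subgroup.centralizer (Cfsg.thompsonSubgroupA S : Set S) ∧
    ∀ A : Subgroup S, A.Normal → IsMulCommutative A →
      (∀ B : Subgroup S, B.Normal → IsMulCommutative B → A ≤ B → B = A) → Cfsg.dStar S ≤ A := by
  classical
  haveI := hS.isNilpotent
  set D := Cfsg.dStar S with hDdef
  have hD := Cfsg.Agent.S3061.result hS
  obtain ⟨hDc, hDprop⟩ := hD
  have hconjfam : ∀ (g : S) (U : Subgroup S), U ∈ Cfsg.dStarFamily S →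
      U.map (MulAut.conj g).toMonoidHom ∈ Cfsg.dStarFamily S := by
    rintro g U ⟨hUc, hU⟩
    refine ⟨⟨⟨?_⟩⟩, fun x hx => ?_⟩
    · rintro ⟨_, a, ha, rfl⟩ ⟨_, b, hb, rfl⟩
      refine Subtype.ext ?_
      show (MulAut.conj g) a * (MulAut.conj g) b = (MulAut.conj g) b * (MulAut.conj g) a
      rw [← map_mul, ← map_mul]
      exact congrArg _ (congrArg Subtype.val (hUc.is_comm.comm ⟨a, ha⟩ ⟨b, hb⟩))
    · have hinj := (MulAut.conj g).injective
      set y := (MulAut.conj g).symm x with hy
      have hxy : (MulAut.conj g).toMonoidHom y = x := (MulAut.conj g).apply_symm_apply x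
      have e : U.map (MulAut.conj g).toMonoidHom ⊔ Subgroup.zpowers x =
          (U ⊔ Subgroup.zpowers y).map (MulAut.conj g).toMonoidHom := by
        rw [Subgroup.map_sup, MonoidHom.map_zpowers, hxy]
      rw [e, ← Subgroup.map_commutator, ← Subgroup.map_commutator,
        Subgroup.map_eq_bot_iff_of_injective _ hinj] at hx
      rintro _ ⟨a, ha, rfl⟩
      rw [← hxy, ← map_mul, ← map_mul, hU y hx a ha]
  haveI hDn : D.Normal := ⟨fun d hd g => by
    have hle : D ≤ D.comap (MulAut.conj g).toMonoidHom := sSup_le fun U hU => by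
      rw [← Subgroup.map_le_iff_le_comap]
      exact le_sSup (hconjfam g U hU)
    exact hle hd⟩
  -- `D` centralises the invariant abelian subgroups
  have key : ∀ B : Subgroup S, IsMulCommutative B → D ≤ Subgroup.normalizer (B : Set S) →
      D ≤ Subgroup.centralizer (B : Set S) := by
    intro B hBc hDB
    rw [Subgroup.le_centralizer_iff]
    by_contra hne
    obtain ⟨n, hn⟩ : ∃ n, Cfsg.iterCommutator B D n = ⊥ := by
      obtain ⟨n, hn⟩ := Subgroup.nilpotent_iff_lowerCentralSeries.1 (inferInstance : Group.IsNilpotent S)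
      refine ⟨n, le_bot_iff.1 (le_of_le_of_eq ?_ hn)⟩
      have : ∀ m, Cfsg.iterCommutator B D m ≤ Subgroup.lowerCentralSeries (⊤ : Subgroup S) m := by
        intro m
        induction m with
        | zero => rw [Subgroup.lowerCentralSeries_zero]; exact le_top
        | succ m ih =>
          rw [Subgroup.lowerCentralSeries_succ]
          exact Subgroup.commutator_mono ih le_top
      exact this n
    have hex : ∃ n, Cfsg.iterCommutator B D n ≤ Subgroup.centralizer (D : Set S) := ⟨n, hn ▸ bot_le⟩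
    have hB0 : ∀ m, Cfsg.iterCommutator B D m ≤ B := by
      intro m
      induction m with
      | zero => exact le_rfl
      | succ m ih => exact (Subgroup.commutator_mono ih le_rfl).trans (Subgroup.le_normalizer_iff_commutator_le_left.1 hDB)
    rcases hj : Nat.find hex with _ | j
    · exact hne (by have := Nat.find_spec hex; rw [hj] at this; exact this)
    · obtain ⟨x, hx, hxD⟩ := Set.not_subset.1 (Nat.find_min hex (show j < Nat.find hex by omega))
      set M := B ⊓ Subgroup.centralizer (D : Set S)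
      set X := D ⊔ Subgroup.zpowers x
      have hxB : x ∈ B := hB0 j hx
      have hXM : X ≤ Subgroup.centralizer (M : Set S) := by
        refine sup_le ?_ (Subgroup.zpowers_le.2 (Subgroup.mem_centralizer_iff.2 fun m hm =>
          congrArg Subtype.val (hBc.is_comm.comm ⟨m, (Subgroup.mem_inf.1 hm).1⟩ ⟨x, hxB⟩)))
        exact (Subgroup.le_centralizer_iff.1 (inf_le_right : M ≤ _))
      have hxa : ∀ a ∈ D, x * a * x⁻¹ * a⁻¹ ∈ M := fun a ha => by
        have h1 : ⁅x, a⁆ ∈ Cfsg.iterCommutator B D (j + 1) := Subgroup.commutator_mem_commutator hx ha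
        refine Subgroup.mem_inf.2 ⟨hB0 _ h1, ?_⟩
        have := Nat.find_spec hex
        rw [hj] at this
        exact this h1
      have hgen : ∀ g ∈ (D : Set S) ∪ {x}, ∀ h ∈ (D : Set S) ∪ {x}, g * h * g⁻¹ * h⁻¹ ∈ M := by
        rintro g (hg | hg) h (hh | hh)
        · rw [show g * h = h * g from congrArg Subtype.val (hDc.is_comm.comm ⟨g, hg⟩ ⟨h, hh⟩)]
          rw [show h * g * g⁻¹ * h⁻¹ = 1 by group]; exact one_mem M
        · rw [Set.mem_singleton_iff] at hh; subst hh
          rw [show g * h * g⁻¹ * h⁻¹ = (h * g * h⁻¹ * g⁻¹)⁻¹ by group]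
          exact inv_mem (hxa g hg)
        · rw [Set.mem_singleton_iff] at hg; subst hg; exact hxa h hh
        · rw [Set.mem_singleton_iff] at hg hh; subst hg; subst hh
          rw [show h * h * h⁻¹ * h⁻¹ = 1 by group]; exact one_mem M
      have hXeq : X = Subgroup.closure ((D : Set S) ∪ {x}) := by
        rw [Subgroup.closure_union, Subgroup.closure_eq, ← Subgroup.zpowers_eq_closure]
      have hcl : ∀ g ∈ (D : Set S) ∪ {x}, ∀ h ∈ X, g * h * g⁻¹ * h⁻¹ ∈ M := by
        intro g hg h hh
        rw [hXeq] at hh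
        induction hh using Subgroup.closure_induction with
        | mem h hh => exact hgen g hg h hh
        | one => simp
        | mul a b ha _ iha ihb =>
          rw [show g * (a * b) * g⁻¹ * (a * b)⁻¹ = (g * a * g⁻¹ * a⁻¹) * (a * (g * b * g⁻¹ * b⁻¹) * a⁻¹) by group,
            ← Subgroup.mem_centralizer_iff.1 (hXM (hXeq ▸ ha)) _ ihb, mul_inv_cancel_right]
          exact mul_mem iha ihb
        | inv a ha iha =>
          rw [show g * a⁻¹ * g⁻¹ * a⁻¹⁻¹ = a⁻¹ * (g * a * g⁻¹ * a⁻¹)⁻¹ * a⁻¹⁻¹ by group,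
            ← Subgroup.mem_centralizer_iff.1 (hXM (inv_mem (hXeq ▸ ha))) _ (inv_mem iha), mul_inv_cancel_right]
          exact inv_mem iha
      have hXX : ⁅X, X⁆ ≤ M := by
        rw [Subgroup.commutator_le]
        intro g hg h hh
        show g * h * g⁻¹ * h⁻¹ ∈ M
        rw [hXeq] at hg
        induction hg using Subgroup.closure_induction with
        | mem g hg => exact hcl g hg h hh
        | one => simp
        | mul a b ha _ iha ihb =>
          rw [show a * b * h * (a * b)⁻¹ * h⁻¹ = (a * (b * h * b⁻¹ * h⁻¹) * a⁻¹) * (a * h * a⁻¹ * h⁻¹) by group,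
            ← Subgroup.mem_centralizer_iff.1 (hXM (hXeq ▸ ha)) _ ihb, mul_inv_cancel_right]
          exact mul_mem ihb iha
        | inv a ha iha =>
          rw [show a⁻¹ * h * a⁻¹⁻¹ * h⁻¹ = a⁻¹ * (a * h * a⁻¹ * h⁻¹)⁻¹ * a⁻¹⁻¹ by group,
            ← Subgroup.mem_centralizer_iff.1 (hXM (inv_mem (hXeq ▸ ha))) _ (inv_mem iha), mul_inv_cancel_right]
          exact inv_mem iha
      have hX3 : ⁅⁅X, X⁆, X⁆ = ⊥ := le_bot_iff.1 ((Subgroup.commutator_mono hXX le_rfl).trans
        (le_of_eq (Subgroup.commutator_eq_bot_iff_le_centralizer.2 (Subgroup.le_centralizer_iff.1 hXM))))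
      exact hxD (Subgroup.mem_centralizer_iff.2 (hDprop x hX3))
  refine ⟨?_, ?_, ?_⟩
  · refine le_sSup ⟨⟨⟨fun a b => Subtype.ext (Subgroup.mem_center_iff.1 b.2 a)⟩⟩, fun x _ a ha => ?_⟩
    exact (Subgroup.mem_center_iff.1 ha x).symm
  · have hmax : ∀ A : Subgroup S, A ∈ Cfsg.maxAbelianSubgroups S → D ≤ Subgroup.centralizer (A : Set S) := by
      by_contra hc
      simp only [not_forall] at hc
      set Bad : Set (Subgroup S) := {A | A ∈ Cfsg.maxAbelianSubgroups S ∧ ¬ D ≤ Subgroup.centralizer (A : Set S)}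
      obtain ⟨A₀, hA₀, hA₀n⟩ := hc
      obtain ⟨A, ⟨hA, hAn⟩, hmaxA⟩ := (Set.toFinite Bad).exists_maximalFor (fun A => Nat.card ↥(A ⊓ D)) _ ⟨A₀, hA₀, hA₀n⟩
      obtain ⟨hAc, hAmax⟩ := hA
      set N := Subgroup.normalizer (A : Set S) with hN
      have hDN : ¬ D ≤ N := fun h => hAn (key A hAc h)
      set Y := D ⊔ N
      haveI : Group.IsNilpotent Y := (hS.to_subgroup Y).isNilpotent
      have hlt : N.subgroupOf Y < ⊤ := lt_top_iff_ne_top.2 fun e => hDN (le_sup_left.trans (Subgroup.subgroupOf_eq_top.1 e))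
      obtain ⟨g, hg1, hg2⟩ := SetLike.exists_of_lt (Group.normalizerCondition_of_isNilpotent (G := Y) _ hlt)
      obtain ⟨d, hd, m, hm, hdm⟩ := Subgroup.mem_sup_of_normal_left.1 g.2
      have hgN : (g : S) ∈ Subgroup.normalizer (N : Set S) := by
        rw [← Subgroup.subgroupOf_normalizer_eq (le_sup_right : N ≤ Y)] at hg1
        exact hg1
      have hdN : d ∈ Subgroup.normalizer (N : Set S) := by
        have := mul_mem hgN (inv_mem (Subgroup.le_normalizer hm : m ∈ Subgroup.normalizer (N : Set S)))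
        rwa [← hdm, mul_inv_cancel_right] at this
      have hdA : d ∉ N := fun h => hg2 (Subgroup.mem_subgroupOf.2 (hdm ▸ mul_mem h hm))
      have hDD : ⁅D, D⁆ ≤ A := (Subgroup.commutator_eq_bot_iff_le_centralizer.2 fun a ha =>
        Subgroup.mem_centralizer_iff.2 fun b hb => congrArg Subtype.val (hDc.is_comm.comm ⟨b, hb⟩ ⟨a, ha⟩)).le.trans bot_le
      obtain ⟨s1, s2, -, s4, -, -, s7, -, -, -⟩ := Cfsg.Agent.Solv.Repl.star_spec hS D (fun _ => hDc) A hAc hDD d hd hdN hdA
      set A' := Cfsg.Agent.Solv.Repl.star A d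
      have hA' : A' ∈ Cfsg.maxAbelianSubgroups S := ⟨s2, fun B hB => s1 ▸ hAmax B hB⟩
      have hA'D : D ≤ Subgroup.centralizer (A' : Set S) := by
        by_contra h
        have h2 := hmaxA (j := A') ⟨hA', h⟩ (Nat.card_le_card_of_injective (Subgroup.inclusion s4.le)
          (Subgroup.inclusion_injective _))
        exact s4.ne (Subgroup.eq_of_le_of_card_ge s4.le h2)
      refine hDN (le_trans ?_ s7)
      intro x hx
      have hc' : IsMulCommutative ↥(A' ⊔ Subgroup.zpowers x) := by
        rw [← Subgroup.closure_eq A', Subgroup.zpowers_eq_closure, ← Subgroup.closure_union]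
        refine Subgroup.isMulCommutative_closure ?_
        rintro a (ha | ha) b (hb | hb)
        · exact congrArg Subtype.val (s2.is_comm.comm ⟨a, ha⟩ ⟨b, hb⟩)
        · rw [Set.mem_singleton_iff] at hb; subst hb
          exact Subgroup.mem_centralizer_iff.1 (hA'D hx) a ha
        · rw [Set.mem_singleton_iff] at ha; subst ha
          exact (Subgroup.mem_centralizer_iff.1 (hA'D hx) b hb).symm
        · rw [Set.mem_singleton_iff] at ha hb; rw [ha, hb]
      have h3 := Subgroup.eq_of_le_of_card_ge (le_sup_left : A' ≤ A' ⊔ Subgroup.zpowers x) (hA'.2 _ hc')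
      rw [h3]
      exact Subgroup.mem_sup_right (Subgroup.mem_zpowers x)
    refine le_inf ?_ ?_
    · obtain ⟨A, hAc, hAm⟩ := (Set.toFinite {A : Subgroup S | IsMulCommutative A}).exists_maximalFor
        (fun A : Subgroup S => Nat.card A) _ ⟨(⊥ : Subgroup S), ⟨⟨fun a b => Subsingleton.elim _ _⟩⟩⟩
      have hA : A ∈ Cfsg.maxAbelianSubgroups S := ⟨hAc, fun B hB => by
        rcases le_total (Nat.card B) (Nat.card A) with h | h
        · exact h
        · exact hAm hB h⟩
      refine le_trans ?_ (le_sSup hA)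
      intro x hx
      have hc' : IsMulCommutative ↥(A ⊔ Subgroup.zpowers x) := by
        rw [← Subgroup.closure_eq A, Subgroup.zpowers_eq_closure, ← Subgroup.closure_union]
        refine Subgroup.isMulCommutative_closure ?_
        rintro a (ha | ha) b (hb | hb)
        · exact congrArg Subtype.val (hAc.is_comm.comm ⟨a, ha⟩ ⟨b, hb⟩)
        · rw [Set.mem_singleton_iff] at hb; subst hb
          exact Subgroup.mem_centralizer_iff.1 (hmax A hA hx) a ha
        · rw [Set.mem_singleton_iff] at ha; subst ha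
          exact (Subgroup.mem_centralizer_iff.1 (hmax A hA hx) b hb).symm
        · rw [Set.mem_singleton_iff] at ha hb; rw [ha, hb]
      have h3 := Subgroup.eq_of_le_of_card_ge (le_sup_left : A ≤ A ⊔ Subgroup.zpowers x) (hA.2 _ hc')
      rw [h3]
      exact Subgroup.mem_sup_right (Subgroup.mem_zpowers x)
    · rw [Subgroup.le_centralizer_iff]
      exact sSup_le fun A hA => Subgroup.le_centralizer_iff.1 (hmax A hA)
  · intro A hAn hAc hAmax
    haveI := hAn
    have hDA := key A hAc (Subgroup.normalizer_eq_top A ▸ le_top)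
    have hc' : IsMulCommutative ↥(A ⊔ D) := by
      rw [← Subgroup.closure_eq A, ← Subgroup.closure_eq D, ← Subgroup.closure_union]
      refine Subgroup.isMulCommutative_closure ?_
      rintro a (ha | ha) b (hb | hb)
      · exact congrArg Subtype.val (hAc.is_comm.comm ⟨a, ha⟩ ⟨b, hb⟩)
      · exact Subgroup.mem_centralizer_iff.1 (hDA hb) a ha
      · exact (Subgroup.mem_centralizer_iff.1 (hDA ha) b hb).symm
      · exact congrArg Subtype.val (hDc.is_comm.comm ⟨a, ha⟩ ⟨b, hb⟩)
    exact le_sup_right.trans (hAmax (A ⊔ D) inferInstance hc' le_sup_left).le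

end Cfsg.Agent.S3062
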