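import Cfsg.Statements.S3063
import Cfsg.Agent.Lib.Solv.Misc
import Cfsg.Prelude.Def_PLocal
-- import your own Cfsg.Agent.* helpers here

set_option autoImplicit false
open Cfsg

namespace Cfsg.Agent.S3063
open Cfsg.Agent
open scoped commutatorElement

theorem comm_le_normalizer {S : Type*} [Group S] {A K : Subgroup S} (h : ∀ z ∈ A, ∀ y ∈ K, z * y = y * z) :
    K ≤ Subgroup.normalizer (A : Set S) := fun y hy => Subgroup.centralizer_le_normalizer _
  (Subgroup.mem_centralizer_iff.2 fun z hz => h z hz y hy)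

theorem isMulCommutative_sup {S : Type*} [Group S] {A K : Subgroup S} (hA : ∀ u ∈ A, ∀ v ∈ A, u * v = v * u)
    (hK : ∀ u ∈ K, ∀ v ∈ K, u * v = v * u) (h : ∀ z ∈ A, ∀ y ∈ K, z * y = y * z) : IsMulCommutative ↥(A ⊔ K) := by
  rw [Subgroup.sup_eq_closure]
  refine Subgroup.isMulCommutative_closure fun x hx y hy => ?_
  rcases hx with hx | hx <;> rcases hy with hy | hy
  exacts [hA x hx y hy, h x hx y hy, (h y hy x hx).symm, hK x hx y hy]


/-- A weak replacement Theorem for metabelian p-groups: let S be a finite p-group whose derived subgroup is abelian and A an abelian subgroup of S of largest possible order. Then the normal closure of A in S contains an abelian subgroup B of the same order as A that is normal in S. -/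
theorem result {S : Type*} [Group S] [Finite S] {p : ℕ} [Fact p.Prime]
    (hS : IsPGroup p S) (hmeta : IsMulCommutative ↥(commutator S))
    (A : Subgroup S) (hA : A ∈ Cfsg.maxAbelianSubgroups S) :
    ∃ B ∈ Cfsg.maxAbelianSubgroups S, B.Normal ∧ B ≤ Subgroup.normalClosure (A : Set S) := by
  skip
  classical
  set D := commutator S with hD
  haveI hDn : D.Normal := inferInstance
  have hDc : ∀ u ∈ D, ∀ v ∈ D, u * v = v * u := fun u hu v hv =>
    congrArg Subtype.val (hmeta.is_comm.comm (⟨u, hu⟩ : D) ⟨v, hv⟩)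
  obtain ⟨B, ⟨hB, hBle⟩, hmax⟩ := Set.exists_max_image
    {B : Subgroup S | B ∈ Cfsg.maxAbelianSubgroups S ∧ B ≤ Subgroup.normalClosure (A : Set S)}
    (fun B => Nat.card ↥(B ⊓ D)) (Set.toFinite _) ⟨A, hA, Subgroup.le_normalClosure⟩
  obtain ⟨hBab, hBmax⟩ := hB
  refine ⟨B, ⟨hBab, hBmax⟩, ?_, hBle⟩
  have hBc : ∀ u ∈ B, ∀ v ∈ B, u * v = v * u := fun u hu v hv =>
    congrArg Subtype.val (hBab.is_comm.comm (⟨u, hu⟩ : B) ⟨v, hv⟩)
  suffices key : ∀ b : S, B.map (MulAut.conj b⁻¹).toMonoidHom = B by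
    exact ⟨fun x hx g => by
      have := key g⁻¹
      rw [inv_inv] at this
      exact this ▸ ⟨x, hx, rfl⟩⟩
  intro b
  set B' := B.map (MulAut.conj b⁻¹).toMonoidHom with hB'
  have hB'c : ∀ u ∈ B', ∀ v ∈ B', u * v = v * u := by
    rintro _ ⟨u, hu, rfl⟩ _ ⟨v, hv, rfl⟩
    rw [← map_mul, hBc u hu v hv, map_mul]
  set A1 := B ⊓ B' with hA1
  set K := Subgroup.closure {g : S | ∃ a ∈ B, g = b⁻¹ * a * b * a⁻¹} with hK
  have hKD : K ≤ D := by
    rw [hK, Subgroup.closure_le]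
    rintro _ ⟨a, ha, rfl⟩
    have h : ⁅b⁻¹, a⁆ ∈ D := Subgroup.commutator_mem_commutator (Subgroup.mem_top _) (Subgroup.mem_top _)
    simpa [commutatorElement_def] using h
  have hA1K : ∀ z ∈ A1, ∀ y ∈ K, z * y = y * z := by
    intro z hz y hy
    rw [hK] at hy
    suffices Commute z y from this
    induction hy using Subgroup.closure_induction with
    | mem y hy =>
      obtain ⟨a, ha, rfl⟩ := hy
      have h2 : Commute z (b⁻¹ * a * b) := hB'c z hz.2 _ ⟨a, ha, by simp⟩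
      exact h2.mul_right (show Commute z a from hBc z hz.1 a ha).inv_right
    | one => exact Commute.one_right z
    | mul _ _ _ _ h h' => exact h.mul_right h'
    | inv _ _ h => exact h.inv_right
  -- the index inequality
  set A0 := B ⊓ B.comap (MulAut.conj b⁻¹).toMonoidHom with hA0
  have hA01 : A0.map (MulAut.conj b⁻¹).toMonoidHom = A1 := by
    ext y
    constructor
    · rintro ⟨x, hx, rfl⟩
      exact ⟨hx.2, x, hx.1, rfl⟩
    · rintro ⟨hy, x, hx, rfl⟩
      exact ⟨x, ⟨hx, hy⟩, rfl⟩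
  have hidx : (A0.subgroupOf B).index ≤ (B.subgroupOf K).index := by
    let κ : B → K := fun a => ⟨b⁻¹ * a * b * (a : S)⁻¹, Subgroup.subset_closure ⟨a, a.2, rfl⟩⟩
    have hiff : ∀ a a' : B, (κ a)⁻¹ * κ a' ∈ B.subgroupOf K ↔ a⁻¹ * a' ∈ A0.subgroupOf B := by
      intro a a'
      rw [Subgroup.mem_subgroupOf, Subgroup.mem_subgroupOf, hA0, Subgroup.mem_inf, Subgroup.mem_comap]
      show (b⁻¹ * a * b * (a : S)⁻¹)⁻¹ * (b⁻¹ * a' * b * (a' : S)⁻¹) ∈ B ↔
        (a : S)⁻¹ * a' ∈ B ∧ b⁻¹ * ((a : S)⁻¹ * a') * (b⁻¹)⁻¹ ∈ B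
      rw [show (b⁻¹ * a * b * (a : S)⁻¹)⁻¹ * (b⁻¹ * a' * b * (a' : S)⁻¹) =
        (a : S) * (b⁻¹ * ((a : S)⁻¹ * a') * (b⁻¹)⁻¹) * (a' : S)⁻¹ by group]
      rw [Subgroup.mul_mem_cancel_right _ (inv_mem a'.2), Subgroup.mul_mem_cancel_left _ a.2]
      exact ⟨fun h => ⟨mul_mem (inv_mem a.2) a'.2, h⟩, fun h => h.2⟩
    let Φ : B ⧸ A0.subgroupOf B → K ⧸ B.subgroupOf K :=
      Quotient.map' κ fun a a' h => QuotientGroup.leftRel_apply.2 ((hiff a a').2 (QuotientGroup.leftRel_apply.1 h))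
    refine Nat.card_le_card_of_injective Φ fun q q' h => ?_
    obtain ⟨a, rfl⟩ := QuotientGroup.mk_surjective q
    obtain ⟨a', rfl⟩ := QuotientGroup.mk_surjective q'
    rw [QuotientGroup.eq]
    exact (hiff a a').1 (QuotientGroup.eq.1 h)
  have hcA0 : Nat.card A0 = Nat.card A1 := by
    rw [← hA01, Subgroup.card_map_of_injective (MulAut.conj b⁻¹).injective]
  -- the replacement
  set Bs := A1 ⊔ K with hBs
  have hBsab : IsMulCommutative Bs := isMulCommutative_sup (fun u hu v hv => hBc u hu.1 v hv.1)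
    (fun u hu v hv => hDc u (hKD hu) v (hKD hv)) hA1K
  have hcardBs := Cfsg.Agent.Solv.card_sup_mul_card_inf A1 K (comm_le_normalizer hA1K)
  have hle1 := hBmax Bs hBsab
  have hBsle : Bs ≤ Subgroup.normalClosure (A : Set S) := by
    refine sup_le (inf_le_left.trans hBle) ((Subgroup.closure_le _).2 ?_)
    rintro _ ⟨a, ha, rfl⟩
    have h1 : b⁻¹ * a * b ∈ Subgroup.normalClosure (A : Set S) := by
      simpa using (Subgroup.normalClosure_normal (s := (A : Set S))).conj_mem _ (hBle ha) b⁻¹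
    exact mul_mem h1 (inv_mem (hBle ha))
  have e1 := (A0.subgroupOf B).card_mul_index
  rw [Cfsg.Agent.Solv.card_subgroupOf (inf_le_left : A0 ≤ B), hcA0] at e1
  have e2 := (B.subgroupOf K).card_mul_index
  rw [← Subgroup.inf_subgroupOf_right B K, Cfsg.Agent.Solv.card_subgroupOf (inf_le_right : B ⊓ K ≤ K),
    Subgroup.inf_subgroupOf_right] at e2
  have e3 : Nat.card ↥(A1 ⊓ K) ≤ Nat.card ↥(B ⊓ K) := Subgroup.card_le_of_le (inf_le_inf_right _ inf_le_left)
  have hp1 : 0 < Nat.card ↥(A1 ⊓ K) := Nat.card_pos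
  have hp2 : 0 < Nat.card A1 := Nat.card_pos
  have hp3 : 0 < Nat.card K := Nat.card_pos
  have hp4 : 0 < Nat.card ↥(B ⊓ K) := Nat.card_pos
  have hcardEq : Nat.card Bs = Nat.card B := by
    refine le_antisymm hle1 ?_
    have h1 : Nat.card B * Nat.card ↥(B ⊓ K) ≤ Nat.card A1 * Nat.card K := by
      rw [← e1, ← e2]
      nlinarith [Nat.mul_le_mul_left (Nat.card A1 * Nat.card ↥(B ⊓ K)) hidx]
    have h2 : Nat.card B * Nat.card ↥(A1 ⊓ K) ≤ Nat.card Bs * Nat.card ↥(A1 ⊓ K) := by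
      rw [hcardBs]
      exact le_trans (Nat.mul_le_mul_left _ e3) h1
    exact Nat.le_of_mul_le_mul_right h2 hp1
  have hBsmem : Bs ∈ Cfsg.maxAbelianSubgroups S := ⟨hBsab, fun C hC => hcardEq.symm ▸ hBmax C hC⟩
  have hbig := hmax Bs ⟨hBsmem, hBsle⟩
  set I1 := A1 ⊓ D with hI1
  have hI1K : I1 ⊔ K ≤ Bs ⊓ D := le_inf (sup_le_sup inf_le_left le_rfl) (sup_le inf_le_right hKD)
  have e4 := Cfsg.Agent.Solv.card_sup_mul_card_inf I1 K (comm_le_normalizer fun z hz y hy => hA1K z hz.1 y hy)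
  have e5 : I1 ⊓ K = A1 ⊓ K := le_antisymm (inf_le_inf_right _ inf_le_left)
    (le_inf (le_inf inf_le_left (inf_le_right.trans hKD)) inf_le_right)
  rw [e5] at e4
  have h4 : Nat.card B * Nat.card ↥I1 ≤ Nat.card A1 * Nat.card ↥(B ⊓ D) := by
    have a1 : Nat.card ↥(I1 ⊔ K) ≤ Nat.card ↥(B ⊓ D) := (Subgroup.card_le_of_le hI1K).trans hbig
    have a2 : Nat.card ↥I1 * Nat.card K ≤ Nat.card ↥(B ⊓ D) * Nat.card ↥(A1 ⊓ K) := e4 ▸ Nat.mul_le_mul_right _ a1
    rw [hcardEq] at hcardBs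
    have a3 : Nat.card ↥I1 * Nat.card B * Nat.card ↥(A1 ⊓ K) ≤ Nat.card A1 * Nat.card ↥(B ⊓ D) * Nat.card ↥(A1 ⊓ K) := by
      calc _ = Nat.card ↥I1 * (Nat.card B * Nat.card ↥(A1 ⊓ K)) := by ring
        _ = Nat.card A1 * (Nat.card ↥I1 * Nat.card K) := by rw [hcardBs]; ring
        _ ≤ Nat.card A1 * (Nat.card ↥(B ⊓ D) * Nat.card ↥(A1 ⊓ K)) := Nat.mul_le_mul_left _ a2
        _ = _ := by ring
    have := Nat.le_of_mul_le_mul_right a3 hp1
    rwa [mul_comm (Nat.card B)]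
  -- the second abelian subgroup
  set J := (B ⊓ D) ⊔ (B' ⊓ D) with hJ
  have hJD : J ≤ D := sup_le inf_le_right inf_le_right
  have hA1J : ∀ z ∈ A1, ∀ y ∈ J, z * y = y * z := by
    intro z hz y hy
    have hle : J ≤ Subgroup.centralizer ({z} : Set S) := sup_le
      (fun w hw => Subgroup.mem_centralizer_singleton_iff.2 (hBc w hw.1 z hz.1))
      (fun w hw => Subgroup.mem_centralizer_singleton_iff.2 (hB'c w hw.1 z hz.2))
    exact (Subgroup.mem_centralizer_singleton_iff.1 (hle hy)).symm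
  have hX := hBmax (A1 ⊔ J) (isMulCommutative_sup (fun u hu v hv => hBc u hu.1 v hv.1)
    (fun u hu v hv => hDc u (hJD hu) v (hJD hv)) hA1J)
  have e6 := Cfsg.Agent.Solv.card_sup_mul_card_inf A1 J (comm_le_normalizer hA1J)
  have e7 : Nat.card ↥(A1 ⊓ J) ≤ Nat.card ↥I1 := Subgroup.card_le_of_le (inf_le_inf_left _ hJD)
  have e8 := Cfsg.Agent.Solv.card_sup_mul_card_inf (B ⊓ D) (B' ⊓ D)
    (comm_le_normalizer fun z hz y hy => hDc z hz.2 y hy.2)
  have e9 : Nat.card ↥(B' ⊓ D) = Nat.card ↥(B ⊓ D) := by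
    have h : B' ⊓ D = (B ⊓ D).map (MulAut.conj b⁻¹).toMonoidHom := by
      rw [Subgroup.map_inf _ _ _ (MulAut.conj b⁻¹).injective]
      congr 1
      exact (Subgroup.eq_of_le_of_card_ge (by rintro _ ⟨x, hx, rfl⟩; exact hDn.conj_mem x hx _)
        (by rw [Subgroup.card_map_of_injective (MulAut.conj b⁻¹).injective])).symm
    rw [h, Subgroup.card_map_of_injective (MulAut.conj b⁻¹).injective]
  have e10 : B ⊓ D ⊓ (B' ⊓ D) = I1 := by
    rw [hI1, hA1]; ac_rfl
  rw [e9, e10, ← hJ] at e8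
  have hI1pos : 0 < Nat.card ↥I1 := Nat.card_pos
  have f1 : Nat.card A1 * Nat.card J ≤ Nat.card B * Nat.card ↥I1 :=
    e6 ▸ Nat.mul_le_mul hX e7
  have hfin : Nat.card B * Nat.card B ≤ Nat.card B * Nat.card A1 := by
    have g1 : Nat.card A1 * (Nat.card ↥(B ⊓ D) * Nat.card ↥(B ⊓ D)) ≤ Nat.card B * (Nat.card ↥I1 * Nat.card ↥I1) := by
      rw [← e8]
      calc Nat.card A1 * (Nat.card J * Nat.card ↥I1) = Nat.card A1 * Nat.card J * Nat.card ↥I1 := by ring
        _ ≤ Nat.card B * Nat.card ↥I1 * Nat.card ↥I1 := Nat.mul_le_mul_right _ f1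
        _ = _ := by ring
    have g2 : (Nat.card B * Nat.card B) * (Nat.card ↥I1 * Nat.card ↥I1) ≤
        (Nat.card B * Nat.card A1) * (Nat.card ↥I1 * Nat.card ↥I1) := by
      calc _ = (Nat.card B * Nat.card ↥I1) * (Nat.card B * Nat.card ↥I1) := by ring
        _ ≤ (Nat.card A1 * Nat.card ↥(B ⊓ D)) * (Nat.card A1 * Nat.card ↥(B ⊓ D)) := Nat.mul_le_mul h4 h4
        _ = Nat.card A1 * (Nat.card A1 * (Nat.card ↥(B ⊓ D) * Nat.card ↥(B ⊓ D))) := by ring
        _ ≤ Nat.card A1 * (Nat.card B * (Nat.card ↥I1 * Nat.card ↥I1)) := Nat.mul_le_mul_left _ g1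
        _ = _ := by ring
    exact Nat.le_of_mul_le_mul_right g2 (Nat.mul_pos hI1pos hI1pos)
  have hB1 : A1 = B := Subgroup.eq_of_le_of_card_ge inf_le_left (Nat.le_of_mul_le_mul_left hfin Nat.card_pos)
  refine (Subgroup.eq_of_le_of_card_ge (hB1 ▸ inf_le_right) ?_).symm
  rw [hB', Subgroup.card_map_of_injective (MulAut.conj b⁻¹).injective]

end Cfsg.Agent.S3063
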