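import Cfsg.Statements.S3069
import Cfsg.Agent.S1993
import Cfsg.Agent.Lib.Solv.KLocal
import Cfsg.Agent.Lib.Local.FusionReduction
import Cfsg.Agent.Lib.Solv.NormalPComplement
-- import your own Cfsg.Agent.* helpers here

set_option autoImplicit false
open Cfsg

namespace Cfsg.Agent.S3069

open Subgroup
open scoped commutatorElement

universe u

/-- `p'`-parts lift from a quotient into powers. -/
theorem lift_coprime {G : Type*} [Group G] [Finite G] {Q : Type*} [Group Q] (f : G →* Q) {p : ℕ} [Fact p.Prime]
    (x : G) (hx : (orderOf (f x)).Coprime p) : ∃ k : ℕ, (orderOf (x ^ k)).Coprime p ∧ f (x ^ k) = f x := by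
  obtain ⟨a, r, hr, he⟩ := Nat.exists_eq_pow_mul_and_not_dvd (orderOf_pos x).ne' p (Fact.out : p.Prime).ne_one
  have hc : (p ^ a).Coprime (orderOf (f x)) := (hx.pow_right a).symm
  obtain ⟨s, hs⟩ := exists_pow_eq_self_of_coprime (x := f x) hc
  refine ⟨p ^ a * s, ?_, by rw [map_pow, pow_mul]; exact hs⟩
  have hrp : r.Coprime p := ((Fact.out : p.Prime).coprime_iff_not_dvd.2 hr).symm
  refine Nat.Coprime.coprime_dvd_left ?_ hrp
  rw [orderOf_dvd_iff_pow_eq_one, ← pow_mul, mul_right_comm, ← he, pow_mul, pow_orderOf_eq_one, one_pow]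

/-- The inductive statement. -/
theorem main {p : ℕ} [Fact p.Prime] (hp : 5 ≤ p) : ∀ (n : ℕ) (G : Type u) [Group G] [Finite G], Nat.card G = n →
    ∀ S : Sylow p G, (S : Subgroup G) ≠ ⊥ →
      (∀ g ∈ Subgroup.normalizer ((S : Subgroup G) : Set G), (orderOf g).Coprime p →
        g ∈ Subgroup.centralizer ((S : Subgroup G) : Set G)) →
      Cfsg.pResidual p G ≠ ⊤ := by
  intro n
  induction n using Nat.strong_induction_on with
  | _ n ih =>
  intro G _ _ hn S hS hN htop
  have hF : Cfsg.IsConjugacyFunctor p (Cfsg.inducedFunctor (G := G) Cfsg.kInfUpper) :=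
    Local.FusionRed.isConjugacyFunctor_induced Solv.KInf.isCharPFunctor_kInfUpper
  set W := Cfsg.inducedFunctor Cfsg.kInfUpper (S : Subgroup G) with hWdef
  have hWS : W ≤ (S : Subgroup G) := (hF _ S.isPGroup').1
  have hW0 : W ≠ ⊥ := (hF _ S.isPGroup').2.1 hS
  have hNW : normalizer ((S : Subgroup G) : Set G) ≤ normalizer (W : Set G) :=
    Local.FusionRed.normalizer_le_normalizer_functor hF S.isPGroup'
  by_cases hnt : normalizer (W : Set G) = ⊤
  · have hWn : W.Normal := normalizer_eq_top_iff.1 hnt
    by_cases hSW : (S : Subgroup G) = W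
    · have hSn : (S : Subgroup G).Normal := hSW ▸ hWn
      have hc : Cfsg.pResidual p G ≤ centralizer ((S : Subgroup G) : Set G) := by
        rw [Cfsg.pResidual, closure_le]
        intro g hg
        exact hN g (le_top.trans (normalizer_eq_top_iff.2 hSn).ge (mem_top g)) hg
      rw [htop] at hc
      have hnc : Cfsg.HasNormalPComplement p G :=
        Solv.hasNormalPComplement_of_burnside S (le_top.trans hc)
      obtain ⟨P, N, hNn, hPN⟩ := hnc
      have hNtop : N = ⊤ := by
        refine top_le_iff.1 (htop ▸ Solv.pResidual_le_of_index N ?_)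
        rw [hPN.symm.index_eq_card]
        exact Solv.card_pow_of_sylow P
      have h1 : Nat.card (P : Subgroup G) = 1 := by
        rw [← hPN.symm.index_eq_card, hNtop, index_top]
      refine hS (Subgroup.eq_bot_of_card_eq _ ?_)
      rw [S.card_eq_multiplicity, ← P.card_eq_multiplicity, h1]
    · let π := QuotientGroup.mk' W
      have hπ : Function.Surjective π := QuotientGroup.mk'_surjective W
      let T : Sylow p (G ⧸ W) := S.mapSurjective hπ
      have hT : (T : Subgroup (G ⧸ W)) = (S : Subgroup G).map π := Sylow.coe_mapSurjective ..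
      have hlt : Nat.card (G ⧸ W) < n := by
        rw [← hn, W.card_eq_card_quotient_mul_card_subgroup]
        exact lt_mul_of_one_lt_right Nat.card_pos (Subgroup.one_lt_card_iff_ne_bot W |>.2 hW0)
      have hT0 : (T : Subgroup (G ⧸ W)) ≠ ⊥ := by
        intro h
        rw [hT, Subgroup.map_eq_bot_iff, QuotientGroup.ker_mk'] at h
        exact hSW (le_antisymm h hWS)
      refine ih _ hlt (G ⧸ W) rfl T hT0 ?_ ?_
      · intro g hg hgo
        obtain ⟨x, rfl⟩ := hπ g
        obtain ⟨k, hk, hk'⟩ := lift_coprime π x hgo
        have hxN : x ∈ normalizer ((S : Subgroup G) : Set G) := by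
          rw [mem_normalizer_iff]
          have hmem : ∀ y, π y ∈ (T : Subgroup (G ⧸ W)) ↔ y ∈ (S : Subgroup G) := by
            intro y
            rw [hT, ← mem_comap, comap_map_eq, QuotientGroup.ker_mk', sup_eq_left.2 hWS]
          intro y
          rw [← hmem, ← hmem, map_mul, map_mul, map_inv]
          exact mem_normalizer_iff.1 hg (π y)
        have hc := hN _ (pow_mem hxN k) hk
        rw [mem_centralizer_iff] at hc ⊢
        intro y hy
        rw [SetLike.mem_coe, hT] at hy
        obtain ⟨z, hz, rfl⟩ := hy
        rw [← hk', ← map_mul, ← map_mul, hc z hz]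
      · refine top_le_iff.1 ?_
        rw [← MonoidHom.range_eq_top.2 hπ, MonoidHom.range_eq_map, ← htop, Cfsg.pResidual,
          MonoidHom.map_closure, closure_le]
        rintro _ ⟨g, hg, rfl⟩
        exact Solv.mem_pResidual (Nat.Coprime.coprime_dvd_left (orderOf_map_dvd π g) hg)
  · set H := normalizer (W : Set G) with hH
    have hSH : (S : Subgroup G) ≤ H := Subgroup.le_normalizer.trans hNW
    let T : Sylow p H := S.subtype hSH
    have hT : (T : Subgroup H) = (S : Subgroup G).subgroupOf H := Sylow.coe_subtype ..
    have hlt : Nat.card H < n := by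
      rw [← hn]
      refine lt_of_le_of_ne (Nat.le_of_dvd Nat.card_pos H.card_subgroup_dvd_card) fun h => hnt ?_
      exact Subgroup.eq_top_of_card_eq _ h
    have hT0 : (T : Subgroup H) ≠ ⊥ := by
      intro h
      rw [hT, subgroupOf_eq_bot, disjoint_iff, inf_eq_left.2 hSH] at h
      exact hS h
    have hH' := ih _ hlt H rfl T hT0 (by
      intro g hg hgo
      have hgS : (g : G) ∈ normalizer ((S : Subgroup G) : Set G) := by
        rw [mem_normalizer_iff]
        intro y
        constructor
        · intro hy
          have := (mem_normalizer_iff.1 hg ⟨y, hSH hy⟩).1 (by rw [hT, mem_subgroupOf]; exact hy)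
          rw [hT, mem_subgroupOf] at this
          simpa using this
        · intro hy
          have hyH : y ∈ H := by
            have h' := H.mul_mem (H.mul_mem (H.inv_mem g.2) (hSH hy)) g.2
            simpa [mul_assoc] using h'
          have := (mem_normalizer_iff.1 hg ⟨y, hyH⟩).2 (by rw [hT, mem_subgroupOf]; simpa using hy)
          rw [hT, mem_subgroupOf] at this
          simpa using this
      have hc := hN g hgS (by rwa [Subgroup.orderOf_coe])
      rw [mem_centralizer_iff] at hc ⊢
      intro y hy
      rw [SetLike.mem_coe, hT, mem_subgroupOf] at hy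
      exact Subtype.ext (by simpa using hc y hy))
    set O := Cfsg.pResidual p H
    have hHO : commutator H ⊔ O ≠ ⊤ := by
      obtain ⟨k, hk⟩ := Solv.exists_pResidual_index (p := p) (G := H)
      have hpg : IsPGroup p (H ⧸ O) := IsPGroup.of_card (n := k) (by rw [← index_eq_card]; exact hk)
      haveI := hpg.isNilpotent
      haveI : Nontrivial (H ⧸ O) := QuotientGroup.nontrivial_iff.2 hH'
      intro h
      have h1 := congrArg (Subgroup.map (QuotientGroup.mk' O)) h
      rw [Subgroup.map_sup, QuotientGroup.map_mk'_self, sup_bot_eq, _root_.commutator_def, map_commutator,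
        map_top_of_surjective _ (QuotientGroup.mk'_surjective O), ← _root_.commutator_def] at h1
      exact (IsSolvable.commutator_lt_top_of_nontrivial (H ⧸ O)).ne h1
    have hnot : ¬ (S : Subgroup G) ≤ ⁅H, H⁆ := by
      intro h
      apply hHO
      refine top_le_iff.1 ((Solv.sup_pResidual_eq_top T).ge.trans (sup_le_sup_right ?_ _))
      intro y hy
      rw [hT, mem_subgroupOf] at hy
      have h' := h hy
      have e : ⁅H, H⁆ = (commutator H).map H.subtype := by
        rw [_root_.commutator_def, map_commutator, ← MonoidHom.range_eq_map, Subgroup.range_subtype]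
      rw [e] at h'
      obtain ⟨z, hz, hzy⟩ := h'
      rwa [Subtype.ext hzy] at hz
    have hGc : (S : Subgroup G) ≤ commutator G :=
      (Solv.focalSubgroup_eq_of_pResidual_eq_top S htop).ge.trans ((S : Subgroup G).focalSubgroup_le_commutator)
    have h93 := ((S1993.result (G := G) S).1 hp)
    rw [inf_eq_left.2 hGc] at h93
    exact hnot (h93.le.trans inf_le_right)


/-- Let p ≥ 7 be a prime and S a nontrivial Sylow p-subgroup of the finite group G. If N_G(S)/C_G(S) is a p-group (every element of N_G(S) of order prime to p centralizes S), then O^p(G) < G, i.e. G has a nontrivial p-factor group. -/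
theorem result {G : Type*} [Group G] [Finite G] {p : ℕ} [Fact p.Prime]
    (hp : 7 ≤ p) (S : Sylow p G) (hS : (S : Subgroup G) ≠ ⊥)
    (hN : ∀ g ∈ Subgroup.normalizer ((S : Subgroup G) : Set G), (orderOf g).Coprime p →
      g ∈ Subgroup.centralizer ((S : Subgroup G) : Set G)) :
    Cfsg.pResidual p G ≠ ⊤ := by
  skip
  exact main (p := p) (by omega) _ G rfl S hS hN

end Cfsg.Agent.S3069
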