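import Cfsg.Statements.S3071
import Cfsg.Agent.Lib.Solv.QdFusion
import Cfsg.Agent.Lib.Solv.QdProj
import Cfsg.Agent.Lib.Local.AlperinCentric
import Cfsg.Agent.Lib.Fusion.ThompsonAbelian
-- import your own Cfsg.Agent.* helpers here

set_option autoImplicit false
open Cfsg

namespace Cfsg.Agent.S3071

open Subgroup
open Cfsg.Agent.Solv Cfsg.Agent.Local

universe u

section Helpers

variable {G : Type u} [Group G] [Finite G] {p : ℕ} [Fact p.Prime]

/-- `g` agrees on `A` with an element normalizing `Z`. -/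
def Realized (Z : Subgroup G) (A : Set G) (g : G) : Prop :=
  ∃ n ∈ normalizer (Z : Set G), ∀ a ∈ A, g * a * g⁻¹ = n * a * n⁻¹

theorem Realized.comp {Z : Subgroup G} {A : Set G} {g h : G} (h1 : Realized Z A g)
    (h2 : Realized Z ((fun a => g * a * g⁻¹) '' A) h) : Realized Z A (h * g) := by
  obtain ⟨m, hm, h1⟩ := h1
  obtain ⟨n, hn, h2⟩ := h2
  refine ⟨n * m, mul_mem hn hm, fun a ha => ?_⟩
  calc h * g * a * (h * g)⁻¹ = h * (g * a * g⁻¹) * h⁻¹ := by group
    _ = n * (g * a * g⁻¹) * n⁻¹ := h2 _ ⟨a, ha, rfl⟩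
    _ = n * (m * a * m⁻¹) * n⁻¹ := by rw [h1 a ha]
    _ = n * m * a * (n * m)⁻¹ := by group

theorem Realized.symm {Z : Subgroup G} {A : Set G} {g : G} (h1 : Realized Z A g) :
    Realized Z ((fun a => g * a * g⁻¹) '' A) g⁻¹ := by
  obtain ⟨m, hm, h1⟩ := h1
  refine ⟨m⁻¹, inv_mem hm, ?_⟩
  rintro _ ⟨a, ha, rfl⟩
  show g⁻¹ * (g * a * g⁻¹) * g⁻¹⁻¹ = m⁻¹ * (g * a * g⁻¹) * m⁻¹⁻¹
  rw [h1 a ha]
  conv_lhs => rw [← h1 a ha]
  group

theorem Realized.mono {Z : Subgroup G} {A B : Set G} {g : G} (h1 : Realized Z A g) (hBA : B ⊆ A) :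
    Realized Z B g := ⟨h1.choose, h1.choose_spec.1, fun a ha => h1.choose_spec.2 a (hBA ha)⟩

theorem Realized.congr {Z : Subgroup G} {A : Set G} {g h : G} (h1 : Realized Z A g)
    (he : ∀ a ∈ A, h * a * h⁻¹ = g * a * g⁻¹) : Realized Z A h :=
  ⟨h1.choose, h1.choose_spec.1, fun a ha => (he a ha).trans (h1.choose_spec.2 a ha)⟩

theorem realized_centralizer {Z : Subgroup G} {A : Set G} {c : G} (hc : c ∈ centralizer A) :
    Realized Z A c := ⟨1, one_mem _, fun a ha => by
  rw [← mem_centralizer_iff.1 hc a ha]; group⟩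

variable (S : Sylow p G)

/-- No local subgroup over the centre of `S` involves `SL(2, p)`. -/
def Free : Prop :=
  ∀ P : Subgroup G, (S : Subgroup G) ⊓ centralizer ((S : Subgroup G) : Set G) ≤ P → P ≤ S →
    ¬ Quad.InvSL p ↥(normalizer (P : Set G))

variable {S}

theorem local_step (hp : p ≠ 2) (hfree : Free S) {W : Subgroup G}
    (hW : (S : Subgroup G) ⊓ centralizer ((S : Subgroup G) : Set G) ≤ W) (hWS : W ≤ S)
    {R : Subgroup G} (hRH : R ≤ normalizer (W : Set G)) (hRp : IsPGroup p R)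
    (hidx : ¬ p ∣ R.relIndex (normalizer (W : Set G))) {A : Set G} (hA : A ⊆ R) {m : G}
    (hm : m ∈ normalizer (W : Set G)) (hAm : (fun a => m * a * m⁻¹) '' A ⊆ R) :
    ∃ k ∈ normalizer (W : Set G), k ∈ normalizer (Cfsg.Agent.Solv.ZJ.zj 0 R : Set G) ∧
      ∀ a ∈ A, m * a * m⁻¹ = k * a * k⁻¹ := by
  set H := normalizer (W : Set G) with hH
  let SR : Sylow p H := (hRp.of_equiv (subgroupOfEquivOfLe hRH).symm).toSylow hidx
  have hfreeH : ¬ Cfsg.Involves ↥(Cfsg.qd p) H := not_involves_qd_of_not_invSL (hfree W hW hWS)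
  have hfam : FusionRed.IsFam p ({ZJ.WA.{u}} : Set (∀ (Q : Type u) [Group Q], Subgroup Q)) :=
    fun V hV => by rw [Set.mem_singleton_iff] at hV; subst hV; exact ZJ.isCharPFunctor_WA
  have hctl := FusionRed.ctrl_of_hyp hfam H (Quad.hyp_of_qdFree hp hfreeH) SR
  have h' := hctl (H.subtype ⁻¹' A) ⟨m, hm⟩ (fun a ha => hA ha) (by
    rintro _ ⟨a, ha, rfl⟩
    exact hAm ⟨(a : G), ha, rfl⟩)
  rw [FusionRed.ind, Set.image_singleton] at h'
  obtain ⟨x, hx, he⟩ := h'.exists_single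
  rw [ZJ.inducedFunctor_WA] at hx
  refine ⟨(x : G), x.2, ?_, fun a ha => ?_⟩
  · have h1 : (x : G) ∈ normalizer (((ZJ.zj 0 (SR : Subgroup H)).map H.subtype : Subgroup G) : Set G) :=
      le_normalizer_map H.subtype ⟨x, hx, rfl⟩
    rw [← ZJ.zj_map H.subtype H.subtype_injective] at h1
    have h2 : (SR : Subgroup H).map H.subtype = R := map_subgroupOf_eq_of_le hRH
    rwa [h2] at h1
  · exact (congrArg Subtype.val (he ⟨a, hRH (hA ha)⟩ ha)).symm

/-- The statement proved by induction. -/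
def Good (S : Sylow p G) (R : Subgroup G) : Prop :=
  R ≤ S → (S : Subgroup G) ⊓ centralizer ((S : Subgroup G) : Set G) ≤ R →
    ∀ (A : Set G) (m : G), A ⊆ R → m ∈ normalizer (Cfsg.Agent.Solv.ZJ.zj 0 R : Set G) →
      (fun a => m * a * m⁻¹) '' A ⊆ R →
      Realized (Cfsg.Agent.Solv.ZJ.zj 0 (S : Subgroup G)) A m

theorem member (hp : p ≠ 2) (hfree : Free S) {D : Subgroup G} (hD : D ∈ AlperinC.Fam S)
    (hQ : ∀ R : Subgroup G, Nat.card D ≤ Nat.card R → Good S R) {x : G}
    (hx : x ∈ normalizer (D : Set G)) :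
    Realized (Cfsg.Agent.Solv.ZJ.zj 0 (S : Subgroup G)) (D : Set G) x := by
  obtain ⟨hDS, hcen, hdir, hidx⟩ := hD
  set N := normalizer (D : Set G) with hN
  set O := (Cfsg.pPrimeCore p ↥N).map N.subtype with hO
  set M := (Cfsg.pPrimePCore p ↥N).map N.subtype with hM
  obtain ⟨hOM, hDM, hcomm, hinf, hsup⟩ := hdir
  have hOcop : (Nat.card O).Coprime p := by
    rw [hO, card_map_of_injective N.subtype_injective]
    exact Cfsg.Agent.Solv.card_pPrimeCore_coprime p N
  have hSO : (S : Subgroup G) ⊓ O = ⊥ := inf_eq_bot_of_isPGroup S.isPGroup' hOcop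
  have hZD : (S : Subgroup G) ⊓ centralizer ((S : Subgroup G) : Set G) ≤ D := by
    rintro z ⟨hz, hzc⟩
    have hzM : z ∈ O ⊔ D := hsup.symm ▸ hcen (centralizer_le hDS hzc)
    have hDO : D ≤ normalizer (O : Set G) := fun d hd => by
      refine mem_normalizer_iff.2 fun o => ⟨fun ho => ?_, fun ho => ?_⟩
      · rwa [← hcomm o ho d hd, mul_inv_cancel_right]
      · have h1 := hcomm _ ho d hd
        have : d * o * d⁻¹ = o := by
          calc d * o * d⁻¹ = d⁻¹ * (d * (d * o * d⁻¹)) := by group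
            _ = d⁻¹ * ((d * o * d⁻¹) * d) := by rw [h1]
            _ = o := by group
        rwa [this] at ho
    rw [← SetLike.mem_coe, coe_mul_of_right_le_normalizer_left O D hDO] at hzM
    obtain ⟨o, ho, d, hd, rfl⟩ := hzM
    have ho' : o ∈ (S : Subgroup G) ⊓ O :=
      ⟨SetLike.mem_coe.2 (by simpa using (S : Subgroup G).mul_mem hz ((S : Subgroup G).inv_mem (hDS hd))), ho⟩
    rw [hSO, mem_bot] at ho'
    simpa [ho'] using hd
  have hDT : D ≤ (S : Subgroup G) ⊓ N := le_inf hDS le_normalizer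
  obtain ⟨k, hkN, hkz, hke⟩ := local_step hp hfree hZD hDS (R := (S : Subgroup G) ⊓ N) inf_le_right
    (S.isPGroup'.to_le inf_le_left) hidx (A := (D : Set G)) hDT hx (by
      rintro _ ⟨d, hd, rfl⟩
      exact hDT ((mem_normalizer_iff.1 hx d).1 hd))
  refine (hQ ((S : Subgroup G) ⊓ N) (card_le_of_le hDT) inf_le_left (hZD.trans hDT) (D : Set G) k
    hDT hkz ?_).congr hke
  rintro _ ⟨d, hd, rfl⟩
  exact hDT ((mem_normalizer_iff.1 hkN d).1 hd)

theorem chain_real (hp : p ≠ 2) (hfree : Free S) (b : ℕ)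
    (hQ : ∀ R : Subgroup G, b ≤ Nat.card R → Good S R) {A : Set G} {g : G}
    (hg : Chain (AlperinC.Fam S) A g) : b ≤ A.ncard →
    Realized (Cfsg.Agent.Solv.ZJ.zj 0 (S : Subgroup G)) A g⁻¹ := by
  induction hg with
  | nil A => intro _; exact ⟨1, one_mem _, fun a _ => by group⟩
  | @cons A T x g hT hx hA _ ih =>
    intro hb
    have hbT : b ≤ Nat.card T := hb.trans (by
      rw [← Nat.card_coe_set_eq]
      exact Nat.card_mono (Set.toFinite _) hA)
    have h1 := (member hp hfree hT (fun R hR => hQ R (hbT.trans hR)) (inv_mem hx)).mono hA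
    have himg : (fun a => x⁻¹ * a * x⁻¹⁻¹) '' A = (fun a => x⁻¹ * a * x) '' A := by simp
    have h2 := ih (by
      rwa [Set.ncard_image_of_injective _ fun a c h => mul_left_cancel (mul_right_cancel h)])
    rw [← himg] at h2
    rw [mul_inv_rev]
    exact h1.comp h2

theorem ok_real (hp : p ≠ 2) (hfree : Free S) (b : ℕ)
    (hQ : ∀ R : Subgroup G, b ≤ Nat.card R → Good S R) (T : Subgroup G) (hTS : T ≤ (S : Subgroup G))
    (hb : b ≤ Nat.card T) (x : G) (hx : ∀ t ∈ T, x * t * x⁻¹ ∈ (S : Subgroup G)) :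
    Realized (Cfsg.Agent.Solv.ZJ.zj 0 (S : Subgroup G)) (T : Set G) x := by
  obtain ⟨c, hc, w, hw, he⟩ := AlperinC.ok_of_le (S := S) (Nat.card (S : Subgroup G)) T
    (Nat.le_add_right _ _) hTS x⁻¹ (fun t ht => by simpa using hx t ht)
  have h1 := chain_real hp hfree b hQ hw (by rwa [← Nat.card_coe_set_eq])
  have h2 : Realized (Cfsg.Agent.Solv.ZJ.zj 0 (S : Subgroup G)) (T : Set G) c⁻¹ :=
    realized_centralizer (inv_mem hc)
  have himg : (fun a => c⁻¹ * a * c⁻¹⁻¹) '' (T : Set G) = (T : Set G) := by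
    refine (Set.image_congr fun a ha => ?_).trans (Set.image_id' _)
    rw [← mem_centralizer_iff.1 (inv_mem hc) a ha]; group
  have h3 := h2.comp (himg.symm ▸ h1)
  rwa [← mul_inv_rev, ← he, inv_inv] at h3

theorem good (hp : p ≠ 2) (hfree : Free S) : ∀ (k : ℕ) (R : Subgroup G),
    Nat.card (S : Subgroup G) ≤ k + Nat.card R → Good S R := by
  intro k
  induction k using Nat.strong_induction_on with
  | _ k ih =>
    intro R hk hRS hZR A m hA hm hAm
    rcases hRS.eq_or_lt with rfl | hlt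
    · exact ⟨m, hm, fun a _ => rfl⟩
    set W := ZJ.zj 0 R with hW
    set H := normalizer (W : Set G) with hH
    have hZW : (S : Subgroup G) ⊓ centralizer ((S : Subgroup G) : Set G) ≤ W :=
      (le_inf hZR (inf_le_right.trans (centralizer_le hRS))).trans (Cfsg.Agent.Fusion.ThompsonA.center_le_zj R)
    have hWR : W ≤ R := ZJ.zj_le _ _
    have hWS : W ≤ S := hWR.trans hRS
    set T := (S : Subgroup G) ⊓ H with hT
    have hRT : R < T := by
      haveI : Group.IsNilpotent (S : Subgroup G) := S.isPGroup'.isNilpotent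
      have hlt' : R.subgroupOf (S : Subgroup G) < ⊤ := by
        refine lt_top_iff_ne_top.2 fun e => hlt.ne ?_
        rw [subgroupOf_eq_top] at e
        exact le_antisymm hRS e
      have hN := Group.normalizerCondition_of_isNilpotent (G := (S : Subgroup G)) _ hlt'
      obtain ⟨g, hg, hgR⟩ := SetLike.exists_of_lt hN
      refine lt_of_le_of_ne (le_inf hRS (ZJ.le_normalizer_zj R)) fun e => hgR ?_
      show (g : G) ∈ R
      rw [e]
      refine ⟨g.2, ZJ.normalizer_le_zj R ?_⟩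
      refine mem_normalizer_iff.2 fun r => ⟨fun hr => ?_, fun hr => ?_⟩
      · exact (mem_normalizer_iff.1 hg ⟨r, hRS hr⟩).1 hr
      · have hr' : r ∈ (S : Subgroup G) := by
          simpa [mul_assoc] using mul_mem (mul_mem (inv_mem g.2) (hRS hr)) g.2
        exact (mem_normalizer_iff.1 hg ⟨r, hr'⟩).2 hr
    have hcardT : Nat.card R < Nat.card T := lt_of_le_of_ne (card_le_of_le hRT.le)
      fun e => hRT.ne (eq_of_le_of_card_ge hRT.le e.ge)
    have hbig : ∀ R' : Subgroup G, Nat.card T ≤ Nat.card R' → Good S R' := by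
      intro R' hR'
      have := card_le_of_le hRS
      have : Nat.card T ≤ Nat.card (S : Subgroup G) := card_le_of_le inf_le_left
      exact ih (k - 1) (by omega) R' (by omega)
    obtain ⟨P0, hP0⟩ := ((S.isPGroup'.to_le (inf_le_left : T ≤ _)).comap_subtype :
      IsPGroup p (T.subgroupOf H)).exists_le_sylow
    set Rh := (P0 : Subgroup H).map H.subtype with hRh
    have hTRh : T ≤ Rh := fun t ht => ⟨⟨t, ht.2⟩, hP0 ht, rfl⟩
    have hRhH : Rh ≤ H := map_subtype_le _
    have hRhp : IsPGroup p Rh := P0.isPGroup'.map _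
    have hidx : ¬ p ∣ Rh.relIndex H := by
      rw [relIndex, hRh, subgroupOf, comap_map_eq_self_of_injective H.subtype_injective]
      exact P0.not_dvd_index
    obtain ⟨x, -, hx⟩ := exists_conj_le_of_not_dvd_relIndex (le_top : (S : Subgroup G) ≤ ⊤)
      S.isPGroup' (by rw [relIndex_top_right]; exact S.not_dvd_index) (le_top : Rh ≤ ⊤) hRhp
    obtain ⟨k', hk'H, hk'z, hk'e⟩ := local_step hp hfree hZW hWS hRhH hRhp hidx (A := A)
      (hA.trans fun r hr => hTRh (hRT.le hr)) hm (hAm.trans fun r hr => hTRh (hRT.le hr))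
    have hTx : Realized (ZJ.zj 0 (S : Subgroup G)) (T : Set G) x :=
      ok_real hp hfree (Nat.card T) hbig T inf_le_left le_rfl x fun t ht => hx t (hTRh ht)
    set R2 := Rh.map (MulAut.conj x).toMonoidHom with hR2
    have hR2S : R2 ≤ (S : Subgroup G) := by
      rintro _ ⟨r, hr, rfl⟩; exact hx r hr
    have hcard2 : Nat.card T ≤ Nat.card R2 := by
      rw [hR2, card_map_of_injective (MulAut.conj x).injective]
      exact card_le_of_le hTRh
    have hZR2 : (S : Subgroup G) ⊓ centralizer ((S : Subgroup G) : Set G) ≤ R2 := by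
      set U := (R2 ⊔ (S : Subgroup G) ⊓ centralizer ((S : Subgroup G) : Set G)).map
        (MulAut.conj x⁻¹).toMonoidHom with hU
      have hUH : U ≤ H := by
        rw [hU, map_le_iff_le_comap]
        refine sup_le ?_ fun z hz => ?_
        · rintro _ ⟨r, hr, rfl⟩
          simpa [mul_assoc] using hRhH hr
        · show (MulAut.conj x⁻¹).toMonoidHom z ∈ normalizer (W : Set G)
          refine centralizer_le_normalizer _ (mem_centralizer_iff.2 fun w hw => ?_)
          have hwS : x * w * x⁻¹ ∈ (S : Subgroup G) := hx w (hTRh (hRT.le (hWR hw)))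
          have h1 := mem_centralizer_iff.1 hz.2 _ hwS
          show w * (x⁻¹ * z * x⁻¹⁻¹) = x⁻¹ * z * x⁻¹⁻¹ * w
          calc w * (x⁻¹ * z * x⁻¹⁻¹) = x⁻¹ * ((x * w * x⁻¹) * z) * x := by group
            _ = x⁻¹ * (z * (x * w * x⁻¹)) * x := by rw [h1]
            _ = _ := by group
      have hUp : IsPGroup p U := (S.isPGroup'.to_le (sup_le hR2S inf_le_left)).map _
      have hRU : Rh ≤ U := fun r hr =>
        ⟨x * r * x⁻¹, mem_sup_left ⟨r, hr, rfl⟩, by simp [mul_assoc]⟩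
      have heq : U.subgroupOf H = P0 := P0.is_maximal' hUp.comap_subtype fun t ht =>
        hRU ⟨t, ht, rfl⟩
      intro z hz
      have hzU : (MulAut.conj x⁻¹).toMonoidHom z ∈ U := mem_map_of_mem _ (mem_sup_right hz)
      have hzR : (MulAut.conj x⁻¹).toMonoidHom z ∈ Rh :=
        ⟨⟨_, hUH hzU⟩, heq.le hzU, rfl⟩
      exact ⟨_, hzR, by simp [mul_assoc]⟩
    have hk2 : x * k' * x⁻¹ ∈ normalizer (ZJ.zj 0 R2 : Set G) := by
      rw [hR2, ZJ.zj_map _ (MulAut.conj x).injective]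
      exact le_normalizer_map _ ⟨k', hk'z, rfl⟩
    have hsub : (fun a => x * a * x⁻¹) '' A ⊆ (R2 : Set G) := by
      rintro _ ⟨a, ha, rfl⟩
      exact ⟨a, hTRh (hRT.le (hA ha)), rfl⟩
    have hmid := hbig R2 hcard2 hR2S hZR2 _ (x * k' * x⁻¹) hsub hk2 (by
      rintro _ ⟨_, ⟨a, ha, rfl⟩, rfl⟩
      have e : x * k' * x⁻¹ * (x * a * x⁻¹) * (x * k' * x⁻¹)⁻¹ = x * (m * a * m⁻¹) * x⁻¹ := by
        rw [hk'e a ha]; group
      refine SetLike.mem_coe.2 ?_
      dsimp only
      rw [e]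
      exact ⟨_, hTRh (hRT.le (hAm ⟨a, ha, rfl⟩)), rfl⟩)
    have h12 := (hTx.mono (hA.trans fun r hr => hRT.le hr)).comp hmid
    have hlast : Realized (ZJ.zj 0 (S : Subgroup G))
        ((fun a => x * k' * x⁻¹ * x * a * (x * k' * x⁻¹ * x)⁻¹) '' A) x⁻¹ := by
      refine hTx.symm.mono ?_
      rintro _ ⟨a, ha, rfl⟩
      refine ⟨m * a * m⁻¹, hRT.le (hAm ⟨a, ha, rfl⟩), ?_⟩
      dsimp only
      rw [hk'e a ha]
      group
    refine (h12.comp hlast).congr fun a ha => ?_
    rw [hk'e a ha]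
    group

end Helpers


/-- Let p be an odd prime and S a Sylow p-subgroup of the finite group G such that, for every subgroup P with Z(S) ≤ P ≤ S, the normalizer N_G(P) has no section isomorphic to SL₂(p). Let J(S) be the subgroup generated by the abelian subgroups of S of largest order. Then two elements of S are conjugate in G if and only if they are conjugate in N_G(Z(J(S))). -/
theorem result {G : Type*} [Group G] [Finite G] {p : ℕ} [Fact p.Prime]
    (hp : p ≠ 2) (S : Sylow p G)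
    (hfree : ∀ P : Subgroup G, (S : Subgroup G) ⊓ Subgroup.centralizer ((S : Subgroup G) : Set G) ≤ P → P ≤ S →
      ¬ ∃ (H K : Subgroup G) (hK : (K.subgroupOf H).Normal), H ≤ Subgroup.normalizer (P : Set G) ∧
        Nonempty ((H ⧸ K.subgroupOf H) ≃* Matrix.SpecialLinearGroup (Fin 2) (ZMod p))) :
    ∀ x ∈ S, ∀ y ∈ S, (∃ g : G, g * x * g⁻¹ = y) ↔
      ∃ n ∈ Subgroup.normalizer (Cfsg.centerThompsonAOf (S : Subgroup G) : Set G), n * x * n⁻¹ = y := by
  skip
  classical
  have hfree' : Free S := by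
    intro P hZP hPS h
    obtain ⟨K, L, hn, hKH, hiso⟩ := h.section_subgroup
    exact hfree P hZP hPS ⟨K, L, hn, hKH, hiso⟩
  intro x hx y hy
  refine ⟨?_, fun ⟨n, _, hn⟩ => ⟨n, hn⟩⟩
  rintro ⟨g, rfl⟩
  have hgood : ∀ R : Subgroup G, 0 ≤ Nat.card R → Good S R :=
    fun R _ => good hp hfree' (Nat.card (S : Subgroup G)) R (Nat.le_add_right _ _)
  have hT : Subgroup.zpowers x ≤ (S : Subgroup G) := Subgroup.zpowers_le.2 hx
  obtain ⟨n, hn, he⟩ := ok_real hp hfree' 0 hgood (Subgroup.zpowers x) hT (Nat.zero_le _) g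
    (fun t ht => by
      obtain ⟨i, rfl⟩ := Subgroup.mem_zpowers_iff.1 ht
      rw [← conj_zpow]
      exact zpow_mem hy i)
  rw [Cfsg.Agent.Solv.ZJ.zj_zero] at hn
  exact ⟨n, hn, (he x (Subgroup.mem_zpowers x)).symm⟩

end Cfsg.Agent.S3071
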