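import Cfsg.Statements.S3072
import Cfsg.Agent.Lib.Local.AlperinCentric
import Cfsg.Agent.Lib.Local.StronglyPEmbedded
import Cfsg.Agent.Lib.Local.CoprimeGeneration
-- import your own Cfsg.Agent.* helpers here

set_option autoImplicit false
open Cfsg

namespace Cfsg.Agent.S3072

open Subgroup
open Cfsg.Agent.Solv Cfsg.Agent.Local

section Helpers

variable {G : Type*} [Group G] [Finite G] {p : ℕ} [Fact p.Prime]

/-- The conditions on a single step. -/
structure Valid (S : Sylow p G) (H X : Subgroup G) (x : G) : Prop where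
  le : H ≤ (S : Subgroup G)
  idx : ¬ p ∣ ((S : Subgroup G) ⊓ normalizer (H : Set G)).relIndex (normalizer (H : Set G))
  centric : (S : Subgroup G) ⊓ centralizer (H : Set G) ≤ H
  radical : (Cfsg.pPrimePCore p ↥(normalizer (H : Set G))).map (normalizer (H : Set G)).subtype =
    H ⊔ centralizer (H : Set G)
  disc : ¬ Cfsg.IsSylowChainConnected p
    (↥(normalizer (H : Set G)) ⧸ H.subgroupOf (normalizer (H : Set G)))
  minimal : H ≤ X ∧ X ≤ normalizer (H : Set G) ∧
    (X.subgroupOf (normalizer (H : Set G))).Normal ∧ p ∣ H.relIndex X ∧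
    ∀ Y : Subgroup G, H ≤ Y → Y ≤ normalizer (H : Set G) →
      (Y.subgroupOf (normalizer (H : Set G))).Normal → p ∣ H.relIndex Y → X ≤ Y
  mem : x ∈ (Cfsg.pResidual p ↥X).map X.subtype

theorem pPrimePCore_map_equiv {A B : Type*} [Group A] [Finite A] [Group B] [Finite B] (f : A ≃* B) :
    (Cfsg.pPrimePCore p A).map (f : A →* B) = Cfsg.pPrimePCore p B := by
  have h1 := Cfsg.Agent.Solv.pPrimeCore_map_equiv p f
  let q := QuotientGroup.congr (Cfsg.pPrimeCore p A) (Cfsg.pPrimeCore p B) f h1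
  have h2 := Cfsg.Agent.Solv.pCore_map_equiv p q
  ext b
  constructor
  · rintro ⟨a, ha, rfl⟩
    show QuotientGroup.mk (f a) ∈ Cfsg.pCore p (B ⧸ Cfsg.pPrimeCore p B)
    rw [← h2]
    exact ⟨QuotientGroup.mk a, ha, rfl⟩
  · intro hb
    refine ⟨f.symm b, ?_, by simp⟩
    have hb' : (QuotientGroup.mk b : B ⧸ Cfsg.pPrimeCore p B) ∈ (Cfsg.pCore p (A ⧸ Cfsg.pPrimeCore p A)).map
        (q : A ⧸ Cfsg.pPrimeCore p A →* B ⧸ Cfsg.pPrimeCore p B) := by rw [h2]; exact hb
    obtain ⟨z, hz, hzb⟩ := hb'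
    show QuotientGroup.mk (f.symm b) ∈ Cfsg.pCore p (A ⧸ Cfsg.pPrimeCore p A)
    have : z = QuotientGroup.mk (f.symm b) := q.injective (hzb.trans (by
      show _ = QuotientGroup.mk (f (f.symm b))
      rw [f.apply_symm_apply]))
    rwa [← this]

theorem connected_of_equiv {A B : Type*} [Group A] [Finite A] [Group B] [Finite B] (f : A ≃* B)
    (h : Cfsg.IsSylowChainConnected p B) : Cfsg.IsSylowChainConnected p A := by
  intro S T
  obtain ⟨n, c, h0, hl, hint, hstep⟩ := h (S.mapSurjective (f := (f : A →* B)) f.surjective)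
    (T.mapSurjective (f := (f : A →* B)) f.surjective)
  let back : Sylow p B → Sylow p A := fun C => C.mapSurjective (f := (f.symm : B →* A)) f.symm.surjective
  have hback : ∀ C : Sylow p A, back (C.mapSurjective (f := (f : A →* B)) f.surjective) = C := fun C => by
    refine Sylow.ext ?_
    show Subgroup.map (f.symm : B →* A) (Subgroup.map (f : A →* B) (C : Subgroup A)) = (C : Subgroup A)
    rw [map_map]
    convert Subgroup.map_id (C : Subgroup A)
    ext a
    simp
  have hmem : ∀ (C : Sylow p B) (a : A), a ∈ (back C : Subgroup A) ↔ f a ∈ (C : Subgroup B) := by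
    intro C a
    show a ∈ Subgroup.map (f.symm : B →* A) (C : Subgroup B) ↔ _
    constructor
    · rintro ⟨b, hb, rfl⟩
      show f (f.symm b) ∈ _
      rw [f.apply_symm_apply]; exact hb
    · exact fun hb => ⟨f a, hb, by simp⟩
  refine ⟨n, fun i => back (c i), (congrArg back h0).trans (hback S), (congrArg back hl).trans (hback T), fun i a ha => ?_, fun i => ⟨?_, ?_⟩⟩
  · rw [hmem]
    exact hint i ⟨⟨a, ha.1, rfl⟩, ⟨a, ha.2, rfl⟩⟩
  · intro e
    refine (hstep i).1 (Sylow.ext (Subgroup.ext fun b => ?_))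
    have h1 := hmem (c i.castSucc) (f.symm b)
    have h2 := hmem (c i.succ) (f.symm b)
    rw [f.apply_symm_apply] at h1 h2
    have e' : back (c i.castSucc) = back (c i.succ) := e
    rw [← h1, e', h2]
  · intro e
    refine (hstep i).2 ((eq_bot_iff_forall _).2 fun b hb => ?_)
    have : f.symm b ∈ (back (c i.castSucc) : Subgroup A) ⊓ (back (c i.succ) : Subgroup A) :=
      ⟨(hmem _ _).2 (by rw [f.apply_symm_apply]; exact hb.1), (hmem _ _).2 (by rw [f.apply_symm_apply]; exact hb.2)⟩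
    rw [e, mem_bot] at this
    simpa using congrArg f this

theorem residual_eq (X : Subgroup G) : (Cfsg.pResidual p ↥X).map X.subtype =
    closure {g : G | g ∈ X ∧ (orderOf g).Coprime p} := by
  rw [Cfsg.pResidual, MonoidHom.map_closure]
  congr 1
  ext g
  constructor
  · rintro ⟨a, ha, rfl⟩
    exact ⟨a.2, by rw [coe_subtype, Subgroup.orderOf_coe]; exact ha⟩
  · rintro ⟨h1, h2⟩
    exact ⟨⟨g, h1⟩, by show Nat.Coprime _ _; rw [Subgroup.orderOf_mk]; exact h2, rfl⟩

theorem Valid.map {S : Sylow p G} {H X : Subgroup G} {x : G} (h : Valid S H X x) (e : G ≃* G)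
    (hS : (S : Subgroup G).map (e : G →* G) = (S : Subgroup G)) :
    Valid S (H.map (e : G →* G)) (X.map (e : G →* G)) (e x) := by
  set N := normalizer (H : Set G) with hN
  have hinj : Function.Injective (e : G →* G) := e.injective
  have hN' : normalizer ((H.map (e : G →* G) : Subgroup G) : Set G) = N.map (e : G →* G) :=
    (map_equiv_normalizer_eq H e).symm
  have hC' : centralizer ((H.map (e : G →* G) : Subgroup G) : Set G) =
      (centralizer (H : Set G)).map (e : G →* G) := by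
    ext g
    constructor
    · intro hg
      refine ⟨e.symm g, mem_centralizer_iff.2 fun a ha => e.injective ?_, by simp⟩
      simpa using mem_centralizer_iff.1 hg (e a) (mem_map_of_mem _ ha)
    · rintro ⟨c, hc, rfl⟩
      refine mem_centralizer_iff.2 ?_
      rintro _ ⟨a, ha, rfl⟩
      rw [← map_mul, ← map_mul, mem_centralizer_iff.1 hc a ha]
  have hnorm : ∀ Y : Subgroup G, Y ≤ N →
      ((Y.subgroupOf N).Normal ↔
        ((Y.map (e : G →* G)).subgroupOf (N.map (e : G →* G))).Normal) := by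
    intro Y hY
    have hn2 : normalizer ((Y.map (e : G →* G) : Subgroup G) : Set G) =
        (normalizer (Y : Set G)).map (e : G →* G) := (map_equiv_normalizer_eq Y e).symm
    rw [normal_subgroupOf_iff_le_normalizer hY, normal_subgroupOf_iff_le_normalizer (map_mono hY),
      hn2, map_le_map_iff_of_injective hinj]
  let eN : N ≃* ↥(normalizer ((H.map (e : G →* G) : Subgroup G) : Set G)) :=
    (N.equivMapOfInjective _ hinj).trans (MulEquiv.subgroupCongr hN'.symm)
  obtain ⟨m1, m2, m3, m4, m5⟩ := h.minimal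
  refine ⟨hS ▸ map_mono h.le, ?_, ?_, ?_, ?_, ⟨map_mono m1, ?_, ?_, ?_, ?_⟩, ?_⟩
  · rw [hN', ← hS, ← map_inf _ _ _ hinj, relIndex_map_map_of_injective _ _ hinj]
    exact h.idx
  · rw [hC', ← hS, ← map_inf _ _ _ hinj]
    exact map_mono h.centric
  · rw [← pPrimePCore_map_equiv eN, map_map, hC', ← Subgroup.map_sup, ← h.radical, map_map]
    rfl
  · intro hc
    refine h.disc (connected_of_equiv (QuotientGroup.congr (H.subgroupOf N)
      ((H.map (e : G →* G)).subgroupOf (normalizer ((H.map (e : G →* G) : Subgroup G) : Set G))) eN ?_) hc)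
    ext a
    constructor
    · rintro ⟨b, hb, rfl⟩
      exact mem_map_of_mem (e : G →* G) hb
    · rintro ⟨b, hb, hbe⟩
      exact ⟨⟨b, le_normalizer hb⟩, hb, Subtype.ext hbe⟩
  · rw [hN']; exact map_mono m2
  · rw [hN']; exact (hnorm X m2).1 m3
  · rwa [relIndex_map_map_of_injective _ _ hinj]
  · intro Y hY1 hY2 hY3 hY4
    rw [hN'] at hY2 hY3
    set Y₀ := Y.comap (e : G →* G) with hY₀
    have hY : Y₀.map (e : G →* G) = Y := map_comap_eq_self_of_surjective e.surjective Y
    rw [← hY] at hY1 hY2 hY3 hY4 ⊢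
    rw [map_le_map_iff_of_injective hinj] at hY1 hY2 ⊢
    rw [relIndex_map_map_of_injective _ _ hinj] at hY4
    exact m5 Y₀ hY1 hY2 ((hnorm Y₀ hY2).2 hY3) hY4
  · rw [residual_eq]
    have hm := h.mem
    rw [residual_eq] at hm
    have h1 := mem_map_of_mem (e : G →* G) hm
    rw [MonoidHom.map_closure] at h1
    refine closure_mono ?_ h1
    rintro _ ⟨g, ⟨hg1, hg2⟩, rfl⟩
    exact ⟨mem_map_of_mem _ hg1, by
      show Nat.Coprime (orderOf (e g)) p
      rw [MulEquiv.orderOf_eq]; exact hg2⟩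

/-- A list of valid steps moving `A`. -/
def Steps (S : Sylow p G) : Set G → List (Subgroup G × Subgroup G × G) → Prop
  | _, [] => True
  | A, s :: L => Valid S s.1 s.2.1 s.2.2 ∧ A ⊆ (s.1 : Set G) ∧
      Steps S ((fun a => s.2.2⁻¹ * a * s.2.2) '' A) L

/-- The product of the steps. -/
def prd (L : List (Subgroup G × Subgroup G × G)) : G := (L.map fun s => s.2.2).prod

theorem Steps.mono {S : Sylow p G} : ∀ {L : List (Subgroup G × Subgroup G × G)} {A B : Set G},
    Steps S A L → B ⊆ A → Steps S B L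
  | [], _, _, _, _ => trivial
  | _ :: _, _, _, ⟨h1, h2, h3⟩, hBA => ⟨h1, hBA.trans h2, h3.mono (Set.image_mono hBA)⟩

theorem Steps.append {S : Sylow p G} : ∀ {L L' : List (Subgroup G × Subgroup G × G)} {A : Set G},
    Steps S A L → Steps S ((fun a => (prd L)⁻¹ * a * prd L) '' A) L' → Steps S A (L ++ L')
  | [], _, A, _, h => by simpa [prd] using h
  | s :: L, L', A, ⟨h1, h2, h3⟩, h => ⟨h1, h2, h3.append (by
      rw [Set.image_image]
      convert h using 2
      simp [prd, mul_assoc])⟩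

theorem Steps.conj {S : Sylow p G} {y : G} (hy : y ∈ normalizer ((S : Subgroup G) : Set G)) :
    ∀ {L : List (Subgroup G × Subgroup G × G)} {A : Set G}, Steps S A L →
      Steps S ((fun a => y * a * y⁻¹) '' A)
        (L.map fun s => (s.1.map (MulAut.conj y).toMonoidHom, s.2.1.map (MulAut.conj y).toMonoidHom,
          y * s.2.2 * y⁻¹))
  | [], _, _ => trivial
  | s :: L, A, ⟨h1, h2, h3⟩ => by
    refine ⟨h1.map (MulAut.conj y) (mem_normalizer_iff_map_conj_eq.1 hy), ?_, ?_⟩
    · rintro _ ⟨a, ha, rfl⟩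
      exact ⟨a, h2 ha, rfl⟩
    · have := h3.conj hy
      rw [Set.image_image] at this ⊢
      convert this using 2
      simp [mul_assoc]

theorem prd_conj (y : G) : ∀ L : List (Subgroup G × Subgroup G × G),
    prd (L.map fun s => (s.1.map (MulAut.conj y).toMonoidHom, s.2.1.map (MulAut.conj y).toMonoidHom,
      y * s.2.2 * y⁻¹)) = y * prd L * y⁻¹
  | [] => by simp [prd]
  | s :: L => by
    have := prd_conj y L
    simp only [prd, List.map_cons, List.prod_cons] at this ⊢
    rw [this]; group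

/-- `g` has the required decomposition on `A`. -/
def Good (S : Sylow p G) (A : Set G) (g : G) : Prop :=
  ∃ L, ∃ c ∈ centralizer A, ∃ y ∈ normalizer ((S : Subgroup G) : Set G),
    Steps S A L ∧ g = c * prd L * y

theorem Good.mono {S : Sylow p G} {A B : Set G} {g : G} (h : Good S A g) (hBA : B ⊆ A) : Good S B g := by
  obtain ⟨L, c, hc, y, hy, hL, e⟩ := h
  exact ⟨L, c, centralizer_le hBA hc, y, hy, hL.mono hBA, e⟩

theorem good_of_normalizer {S : Sylow p G} (A : Set G) {y : G}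
    (hy : y ∈ normalizer ((S : Subgroup G) : Set G)) : Good S A y :=
  ⟨[], 1, one_mem _, y, hy, trivial, by simp [prd]⟩

theorem Good.trans {S : Sylow p G} {A : Set G} {g k : G} (h1 : Good S A g)
    (h2 : Good S ((fun a => g⁻¹ * a * g) '' A) k) : Good S A (g * k) := by
  obtain ⟨L₁, c₁, hc₁, y₁, hy₁, hL₁, rfl⟩ := h1
  obtain ⟨L₂, c₂, hc₂, y₂, hy₂, hL₂, rfl⟩ := h2
  rw [mul_assoc c₁, AlperinC.image_eq hc₁] at hc₂ hL₂
  have hL₂' := hL₂.conj hy₁
  rw [Set.image_image] at hL₂'
  refine ⟨_, c₁ * (prd L₁ * y₁ * c₂ * y₁⁻¹ * (prd L₁)⁻¹),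
    mul_mem hc₁ (mem_centralizer_iff.2 fun a ha => ?_), y₁ * y₂, mul_mem hy₁ hy₂,
    hL₁.append (L' := L₂.map fun s => (s.1.map (MulAut.conj y₁).toMonoidHom,
      s.2.1.map (MulAut.conj y₁).toMonoidHom, y₁ * s.2.2 * y₁⁻¹)) ?_, ?_⟩
  · have := mem_centralizer_iff.1 hc₂ _ ⟨a, ha, rfl⟩
    set w := prd L₁ * y₁
    calc a * (w * c₂ * y₁⁻¹ * (prd L₁)⁻¹) = w * ((w⁻¹ * a * w) * c₂) * w⁻¹ := by simp only [w]; group
      _ = w * (c₂ * (w⁻¹ * a * w)) * w⁻¹ := by rw [this]
      _ = w * c₂ * y₁⁻¹ * (prd L₁)⁻¹ * a := by simp only [w]; group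
  · convert hL₂' using 2
    simp [mul_assoc]
  · have hp' : ∀ l l', prd (G := G) (l ++ l') = prd l * prd l' := fun l l' => by simp [prd]
    rw [hp', prd_conj]
    group

theorem inf_center_order {P : Subgroup G} (hP : IsPGroup p P) {O : Subgroup G} (hO : P ≤ normalizer (O : Set G))
    (hne : O ⊓ P ≠ ⊥) : ∃ a ∈ O ⊓ P, orderOf a = p ∧ ∀ s ∈ P, s * a = a * s := by
  haveI : (O.subgroupOf P).Normal :=
    ⟨fun n hn g => (mem_normalizer_iff.1 (hO g.2) n).1 hn⟩
  have hne' : O.subgroupOf P ≠ ⊥ := by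
    rw [Ne, subgroupOf_eq_bot, disjoint_iff]
    exact hne
  haveI : Group.IsNilpotent P := hP.isNilpotent
  have hmeet := Cfsg.Agent.Solv.inf_center_ne_bot (O.subgroupOf P) hne'
  set D := O.subgroupOf P ⊓ center P
  haveI : Nontrivial D := (nontrivial_iff_ne_bot D).2 hmeet
  obtain ⟨n, hn, hcard⟩ := (hP.to_subgroup D).nontrivial_iff_card.1 inferInstance
  obtain ⟨w, hw⟩ := exists_prime_orderOf_dvd_card' (G := D) p (hcard ▸ dvd_pow_self p hn.ne')
  exact ⟨((w : P) : G), ⟨w.2.1, (w : P).2⟩, by rw [Subgroup.orderOf_coe, Subgroup.orderOf_coe, hw],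
    fun s hs => congrArg Subtype.val (mem_center_iff.1 w.2.2 ⟨s, hs⟩)⟩

/-- In a group with disconnected Sylow graph normal subgroups of order divisible by `p` meet so. -/
theorem dvd_inf {A : Type*} [Group A] [Finite A] (h : ¬ Cfsg.IsSylowChainConnected p A)
    (Y₁ Y₂ : Subgroup A) [Y₁.Normal] [Y₂.Normal] (h1 : p ∣ Nat.card Y₁) (h2 : p ∣ Nat.card Y₂) :
    p ∣ Nat.card ↥(Y₁ ⊓ Y₂) := by
  by_contra hno
  obtain ⟨M, hM, hpM, hyp⟩ := SPE.exists_hyp h
  obtain ⟨S, hSM, -⟩ := SPE.exists_sylow_le hyp hpM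
  have hne : ∀ (Y : Subgroup A) [Y.Normal], p ∣ Nat.card Y → Y ⊓ (S : Subgroup A) ≠ ⊥ := by
    intro Y _ hY e
    have hidx := Cfsg.Agent.Solv.index_sylow_inf_subnormal Y (Normal.isSubnormal inferInstance) S
    have : (S : Subgroup A).subgroupOf Y = ⊥ := by
      rw [subgroupOf_eq_bot, disjoint_iff, inf_comm, e]
    rw [this, index_bot] at hidx
    exact hidx hY
  obtain ⟨a, ha, hao, hac⟩ := inf_center_order S.isPGroup' (O := Y₁) le_normalizer_of_normal (hne Y₁ h1)
  obtain ⟨b, hb, hbo, hbc⟩ := inf_center_order S.isPGroup' (O := Y₂) le_normalizer_of_normal (hne Y₂ h2)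
  set E := closure ({a, b} : Set A) with hE
  have hES : E ≤ (S : Subgroup A) := by
    rw [hE, closure_le]
    rintro _ (rfl | rfl)
    exacts [ha.2, hb.2]
  haveI hEc : IsMulCommutative E := Subgroup.isMulCommutative_closure (by
    rintro s (rfl | rfl) t (rfl | rfl)
    exacts [rfl, (hac _ hb.2).symm, hac _ hb.2, rfl])
  have hEexp : ∀ t ∈ E, t ^ p = 1 := by
    intro t ht
    induction ht using closure_induction with
    | mem y hy =>
      rcases hy with h' | h'
      · rw [h', ← hao, pow_orderOf_eq_one]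
      · rw [Set.mem_singleton_iff.1 h', ← hbo, pow_orderOf_eq_one]
    | one => exact one_pow p
    | mul y z hy hz i1 i2 =>
      have : Commute y z := congrArg Subtype.val (hEc.is_comm.comm ⟨y, hy⟩ ⟨z, hz⟩)
      rw [this.mul_pow, i1, i2, one_mul]
    | inv y _ i => rw [inv_pow, i, inv_one]
  have hEnc : ¬ IsCyclic E := by
    intro hc
    obtain ⟨g, hg⟩ := hc.exists_generator
    have hle : Nat.card E ≤ p := by
      have hgc : Nat.card E = orderOf g := (orderOf_eq_card_of_forall_mem_zpowers hg).symm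
      rw [hgc]
      exact Nat.le_of_dvd (Fact.out : p.Prime).pos
        (orderOf_dvd_of_pow_eq_one (Subtype.ext (by simpa using hEexp g.1 g.2)))
    have heq : zpowers a = E := eq_of_le_of_card_ge (zpowers_le.2 (subset_closure (Or.inl rfl)))
      (by rwa [Nat.card_zpowers, hao])
    refine hno ?_
    have hb' : b ∈ Y₁ ⊓ Y₂ :=
      ⟨(zpowers_le.2 ha.1) (heq.symm ▸ (subset_closure (Or.inr rfl) : b ∈ E)), hb.1⟩
    rw [← hbo]
    exact Subgroup.orderOf_dvd_natCard _ hb'
  have hRM : Y₁ ⊓ Y₂ ≤ M := by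
    refine CoprimeGen.le_of_centralizers E _ M hEnc le_normalizer_of_normal ?_ fun e he he1 => ?_
    · obtain ⟨k, hk⟩ := IsPGroup.iff_card.1 (S.isPGroup'.to_le hES)
      rw [hk]
      exact ((Fact.out : p.Prime).coprime_iff_not_dvd.2 hno).pow_left k
    · rintro z ⟨-, hz⟩
      refine SPE.mem_of_conj_le hyp (U := zpowers e) (S.isPGroup'.to_le (zpowers_le.2 (hES he)))
        (zpowers_ne_bot.2 he1) (zpowers_le.2 (hSM (hES he))) ?_
      rintro _ ⟨t, ht, rfl⟩
      obtain ⟨i, rfl⟩ := mem_zpowers_iff.1 ht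
      have hc : z * e * z⁻¹ = e := by
        rw [← mem_centralizer_iff.1 hz e rfl, mul_inv_cancel_right]
      show z * e ^ i * z⁻¹ ∈ M
      rw [← conj_zpow, hc]
      exact zpow_mem (hSM (hES he)) i
  have hY1M : Y₁ ≤ M := by
    intro y hy
    refine SPE.mem_of_conj_le hyp (U := zpowers b) (S.isPGroup'.to_le (zpowers_le.2 hb.2))
      (zpowers_ne_bot.2 fun e => (Fact.out : p.Prime).ne_one (by rw [← hbo, e, orderOf_one]))
      (zpowers_le.2 (hSM hb.2)) ?_
    rintro _ ⟨t, ht, rfl⟩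
    obtain ⟨i, rfl⟩ := mem_zpowers_iff.1 ht
    have hc : y * b * y⁻¹ * b⁻¹ ∈ Y₁ ⊓ Y₂ :=
      ⟨by
        have := Y₁.mul_mem hy ((inferInstance : Y₁.Normal).conj_mem _ (Y₁.inv_mem hy) b)
        simpa [mul_assoc] using this,
      Y₂.mul_mem ((inferInstance : Y₂.Normal).conj_mem _ hb.1 y) (Y₂.inv_mem hb.1)⟩
    show y * b ^ i * y⁻¹ ∈ M
    rw [← conj_zpow]
    refine zpow_mem ?_ i
    have := M.mul_mem (hRM hc) (hSM hb.2)
    simpa using this
  have htop := SPE.sup_coprime_eq_top hyp hpM Y₁ h1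
  refine hM (top_le_iff.1 (htop.ge.trans (sup_le le_rfl ?_)))
  rw [closure_le]
  exact fun g hg => hY1M hg.1

variable {S : Sylow p G}

theorem good_of_chain (b : ℕ)
    (hmem : ∀ D ∈ AlperinC.Fam S, b ≤ Nat.card D → ∀ n ∈ normalizer (D : Set G), Good S (D : Set G) n)
    {A : Set G} {g : G} (hg : Chain (AlperinC.Fam S) A g) : b ≤ A.ncard → Good S A g := by
  induction hg with
  | nil A => intro _; exact good_of_normalizer A (one_mem _)
  | @cons A T x g hT hx hA _ ih =>
    intro hb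
    have hbT : b ≤ Nat.card T := hb.trans (by
      rw [← Nat.card_coe_set_eq]
      exact Nat.card_mono (Set.toFinite _) hA)
    refine ((hmem T hT hbT x hx).mono hA).trans (ih ?_)
    rwa [Set.ncard_image_of_injective _ fun a c h => mul_left_cancel (mul_right_cancel h)]

theorem good_of_le (b : ℕ)
    (hmem : ∀ D ∈ AlperinC.Fam S, b ≤ Nat.card D → ∀ n ∈ normalizer (D : Set G), Good S (D : Set G) n)
    (T : Subgroup G) (hTS : T ≤ (S : Subgroup G)) (hb : b ≤ Nat.card T) (g : G)
    (hg : ∀ t ∈ T, g⁻¹ * t * g ∈ (S : Subgroup G)) : Good S (T : Set G) g := by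
  obtain ⟨c, hc, w, hw, rfl⟩ := AlperinC.ok_of_le (S := S) (Nat.card (S : Subgroup G)) T
    (Nat.le_add_right _ _) hTS g hg
  obtain ⟨L, d, hd, y, hy, hL, rfl⟩ := good_of_chain b hmem hw (by rwa [← Nat.card_coe_set_eq])
  exact ⟨L, c * d, mul_mem hc hd, y, hy, hL, by group⟩

theorem member {D : Subgroup G} (hD : D ∈ AlperinC.Fam S)
    (hbig : ∀ T : Subgroup G, T ≤ (S : Subgroup G) → Nat.card D < Nat.card T → ∀ g : G,
      (∀ t ∈ T, g⁻¹ * t * g ∈ (S : Subgroup G)) → Good S (T : Set G) g)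
    {n : G} (hn : n ∈ normalizer (D : Set G)) : Good S (D : Set G) n := by
  classical
  obtain ⟨hDS, hcen, ⟨hOM, hDM, hcomm, hinf, hsup⟩, hidx⟩ := hD
  rcases hDS.eq_or_lt with rfl | hlt
  · exact good_of_normalizer _ hn
  set N := normalizer (D : Set G) with hN
  set O := (Cfsg.pPrimeCore p ↥N).map N.subtype with hO
  set M := (Cfsg.pPrimePCore p ↥N).map N.subtype with hM
  have hDN : D ≤ N := le_normalizer
  have hOC : O ≤ centralizer (D : Set G) := fun o ho =>
    mem_centralizer_iff.2 fun d hd => (hcomm o ho d hd).symm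
  have hradical : M = D ⊔ centralizer (D : Set G) := le_antisymm
    (hsup ▸ sup_le (hOC.trans le_sup_right) le_sup_left) (sup_le hDM hcen)
  have hcentric : (S : Subgroup G) ⊓ centralizer (D : Set G) ≤ D := by
    rintro z ⟨hz, hzc⟩
    have hzM : z ∈ O ⊔ D := hsup.symm ▸ hcen hzc
    have hDO : D ≤ normalizer (O : Set G) := fun d hd => by
      have h1 : ∀ o ∈ O, d * o * d⁻¹ = o := fun o ho => by
        rw [← hcomm o ho d hd, mul_inv_cancel_right]
      refine mem_normalizer_iff.2 fun o => ⟨fun ho => (h1 o ho).symm ▸ ho, fun ho => ?_⟩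
      have h2 := hcomm _ ho d hd
      have : d * o * d⁻¹ = o := by
        calc d * o * d⁻¹ = d⁻¹ * (d * (d * o * d⁻¹)) := by group
          _ = d⁻¹ * ((d * o * d⁻¹) * d) := by rw [h2]
          _ = o := by group
      rwa [this] at ho
    rw [← SetLike.mem_coe, coe_mul_of_right_le_normalizer_left O D hDO] at hzM
    obtain ⟨o, ho, d, hd, rfl⟩ := hzM
    have hOcop : (Nat.card O).Coprime p := by
      rw [hO, card_map_of_injective N.subtype_injective]
      exact Cfsg.Agent.Solv.card_pPrimeCore_coprime p N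
    have ho' : o ∈ (S : Subgroup G) ⊓ O :=
      ⟨SetLike.mem_coe.2 (by simpa using (S : Subgroup G).mul_mem hz ((S : Subgroup G).inv_mem (hDS hd))), ho⟩
    rw [inf_eq_bot_of_isPGroup S.isPGroup' hOcop, mem_bot] at ho'
    simpa [ho'] using hd
  set T := (S : Subgroup G) ⊓ N with hT
  have hDT : D < T := lt_sylow_inf_normalizer S hlt
  have hcard : ∀ R : Subgroup G, D < R → Nat.card D < Nat.card R := fun R hR =>
    lt_of_le_of_ne (card_le_of_le hR.le) fun e => hR.ne (eq_of_le_of_card_ge hR.le e.ge)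
  let D₀ := D.subgroupOf N
  haveI hD₀ : D₀.Normal := normal_in_normalizer
  let π := QuotientGroup.mk' D₀
  have hπs : Function.Surjective π := QuotientGroup.mk'_surjective D₀
  let PT : Sylow p N := (((S.isPGroup'.to_le (inf_le_left : T ≤ _))).of_equiv
    (subgroupOfEquivOfLe (inf_le_right : T ≤ N)).symm).toSylow hidx
  have hPT : ∀ u : N, u ∈ (PT : Subgroup N) ↔ (u : G) ∈ T := fun u => Iff.rfl
  by_cases hconn : Cfsg.IsSylowChainConnected p (N ⧸ D₀)
  · -- generated by larger normalizers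
    let Tb := PT.mapSurjective hπs
    have hTb : ∀ u : N, π u ∈ (Tb : Subgroup (N ⧸ D₀)) ↔ (u : G) ∈ T := by
      intro u
      constructor
      · rintro ⟨w, hw, he⟩
        have h1 : w⁻¹ * u ∈ D₀ := (QuotientGroup.eq).1 he
        have h2 := mul_mem ((hPT w).1 hw) (hDT.le h1)
        simpa using h2
      · exact fun hu => ⟨u, hu, rfl⟩
    obtain ⟨k, c, h0, hl, -, hstep⟩ := hconn Tb ((π ⟨n, hn⟩) • Tb)
    suffices hclaim : ∀ i : Fin (k + 1), ∀ g : N,
        (∀ u : N, π u ∈ (c i : Subgroup (N ⧸ D₀)) → (g : G)⁻¹ * u * g ∈ T) → Good S (D : Set G) g by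
      refine hclaim (Fin.last k) ⟨n, hn⟩ fun u hu => ?_
      rw [hl, Sylow.coe_subgroup_smul] at hu
      obtain ⟨w, hw, he⟩ := hu
      have : π ((⟨n, hn⟩ : N)⁻¹ * u * ⟨n, hn⟩) = w := by
        rw [map_mul, map_mul, map_inv, ← he]
        simp [mul_assoc]
      exact (hTb ((⟨n, hn⟩ : N)⁻¹ * u * ⟨n, hn⟩)).1 (this ▸ hw)
    intro i
    induction i using Fin.induction with
    | zero =>
      intro g hg
      refine (hbig T inf_le_left (hcard T hDT) g fun t ht => ?_).mono hDT.le
      have := hg ⟨t, ht.2⟩ (by rw [h0]; exact (hTb ⟨t, ht.2⟩).2 ht)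
      exact this.1
    | succ i ih =>
      intro g hg
      obtain ⟨z, hz⟩ := MulAction.exists_smul_eq (N ⧸ D₀) (c i.castSucc) Tb
      obtain ⟨v, rfl⟩ := hπs z
      have hgv : ∀ u : N, π u ∈ (c i.castSucc : Subgroup (N ⧸ D₀)) →
          ((v⁻¹ : N) : G)⁻¹ * u * (v⁻¹ : N) ∈ T := by
        intro u hu
        have h1 : π (v * u * v⁻¹) ∈ (Tb : Subgroup (N ⧸ D₀)) := by
          rw [← hz, Sylow.coe_subgroup_smul]
          exact ⟨π u, hu, by simp⟩
        simpa using (hTb _).1 h1
      have h1 := ih v⁻¹ hgv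
      set Q : Subgroup G := (((c i.castSucc : Subgroup (N ⧸ D₀)) ⊓ (c i.succ : Subgroup (N ⧸ D₀))).comap π).map
        ((MulAut.conj (v : G)).toMonoidHom.comp N.subtype) with hQ
      have hQS : Q ≤ T := by
        rintro _ ⟨u, hu, rfl⟩
        simpa using hgv u hu.1
      have hDQ : D < Q := by
        refine lt_of_le_of_ne (fun d hd => ?_) fun e => (hstep i).2 ((eq_bot_iff_forall _).2 fun w hw => ?_)
        · refine ⟨⟨(v : G)⁻¹ * d * v, ?_⟩, ?_, by simp [mul_assoc]⟩
          · exact mul_mem (mul_mem (inv_mem v.2) (hDN hd)) v.2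
          · rw [SetLike.mem_coe, mem_comap]
            have h0' : π (⟨(v : G)⁻¹ * d * v, mul_mem (mul_mem (inv_mem v.2) (hDN hd)) v.2⟩ : N) = 1 :=
              (QuotientGroup.eq_one_iff _).2 ((mem_normalizer_iff''.1 v.2 d).1 hd)
            rw [h0']; exact one_mem _
        · obtain ⟨u, rfl⟩ := hπs w
          have hu : (v : G) * u * (v : G)⁻¹ ∈ D := by
            rw [e]; exact ⟨u, hw, rfl⟩
          exact (QuotientGroup.eq_one_iff _).2 ((mem_normalizer_iff.1 v.2 _).2 hu)
      have h2 := (hbig Q (hQS.trans inf_le_left) (hcard Q hDQ) ((v : G) * g) (by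
        rintro _ ⟨u, hu, rfl⟩
        have := (hg u hu.2).1
        convert this using 1
        simp [mul_assoc]
        exact Iff.rfl)).mono hDQ.le
      have himg : (fun a => ((v⁻¹ : N) : G)⁻¹ * a * (v⁻¹ : N)) '' (D : Set G) = (D : Set G) := by
        ext a
        refine ⟨?_, fun ha => ⟨(v : G)⁻¹ * a * v, (mem_normalizer_iff''.1 v.2 a).1 ha, by simp [mul_assoc]⟩⟩
        rintro ⟨d, hd, rfl⟩
        simpa using (mem_normalizer_iff.1 v.2 d).1 hd
      have h3 := h1.trans (himg.symm ▸ h2)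
      simpa using h3
  · -- a minimal normal subgroup
    have hcardY : ∀ Y : Subgroup G, D ≤ Y → Y ≤ N → ∀ [(Y.subgroupOf N).Normal],
        Nat.card ↥((Y.subgroupOf N).map π) = D.relIndex Y ∧
          ((Y.subgroupOf N).map π).comap π = Y.subgroupOf N := by
      intro Y hDY hYN _
      have he : ((Y.subgroupOf N).map π).comap π = Y.subgroupOf N := by
        rw [comap_map_eq, QuotientGroup.ker_mk', sup_eq_left]
        exact fun u hu => hDY hu
      refine ⟨?_, he⟩
      have h1 := card_comap_mk' D₀ ((Y.subgroupOf N).map π)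
      rw [he, Nat.card_congr (subgroupOfEquivOfLe hYN).toEquiv,
        Nat.card_congr (subgroupOfEquivOfLe hDN).toEquiv] at h1
      have h2 := (D.subgroupOf Y).card_mul_index
      rw [Nat.card_congr (subgroupOfEquivOfLe hDY).toEquiv, h1] at h2
      exact (Nat.eq_of_mul_eq_mul_left Nat.card_pos h2).symm
    set 𝒴 := {Y : Subgroup G | D ≤ Y ∧ Y ≤ N ∧ (Y.subgroupOf N).Normal ∧ p ∣ D.relIndex Y} with h𝒴
    have hpT : p ∣ D.relIndex T := by
      obtain ⟨e, he⟩ := IsPGroup.iff_card.1 (S.isPGroup'.to_le (inf_le_left : T ≤ _))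
      have hd : D.relIndex T ∣ p ^ e := he ▸ relIndex_dvd_card D T |>.trans dvd_rfl
      obtain ⟨j, -, hj⟩ := (Nat.dvd_prime_pow Fact.out).1 hd
      rw [hj]
      refine dvd_pow_self p fun h0 => hDT.not_ge (relIndex_eq_one.1 (by rw [hj, h0, pow_zero]))
    obtain ⟨X, ⟨hDX, hXN, hXn, hXp⟩, hXmin⟩ := (Set.toFinite 𝒴).exists_minimal ⟨N, hDN, le_rfl, by
      rw [subgroupOf_self]; infer_instance, hpT.trans (Dvd.intro _ (relIndex_mul_relIndex D T N hDT.le inf_le_right))⟩
    have hmin : ∀ Y : Subgroup G, D ≤ Y → Y ≤ N → (Y.subgroupOf N).Normal → p ∣ D.relIndex Y → X ≤ Y := by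
      intro Y hDY hYN hYn hYp
      haveI := hXn
      haveI := hYn
      obtain ⟨cX, eX⟩ := hcardY X hDX hXN
      obtain ⟨cY, eY⟩ := hcardY Y hDY hYN
      haveI : ((X.subgroupOf N).map π).Normal := hXn.map _ hπs
      haveI : ((Y.subgroupOf N).map π).Normal := hYn.map _ hπs
      have hd := dvd_inf hconn ((X.subgroupOf N).map π) ((Y.subgroupOf N).map π) (cX ▸ hXp) (cY ▸ hYp)
      haveI hn' : ((X ⊓ Y).subgroupOf N).Normal := by
        rw [show (X ⊓ Y).subgroupOf N = X.subgroupOf N ⊓ Y.subgroupOf N from comap_inf _ _ _]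
        infer_instance
      obtain ⟨cI, eI⟩ := hcardY (X ⊓ Y) (le_inf hDX hDY) (inf_le_left.trans hXN)
      have heq : ((X ⊓ Y).subgroupOf N).map π = (X.subgroupOf N).map π ⊓ (Y.subgroupOf N).map π := by
        apply comap_injective hπs
        rw [eI, comap_inf, eX, eY]
        exact comap_inf _ _ _
      rw [← heq, cI] at hd
      exact (hXmin ⟨le_inf hDX hDY, inf_le_left.trans hXN, hn', hd⟩ inf_le_left).trans inf_le_right
    haveI := hXn
    set R := (S : Subgroup G) ⊓ X with hR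
    let X₀ := X.subgroupOf N
    have hidxX := Cfsg.Agent.Solv.index_sylow_inf_subnormal X₀ (Normal.isSubnormal inferInstance) PT
    let PR : Sylow p X₀ := (PT.isPGroup'.comap_subtype).toSylow hidxX
    have hPR : ∀ u : X₀, u ∈ (PR : Subgroup X₀) ↔ ((u : N) : G) ∈ R := fun u =>
      ⟨fun h => ⟨h.1, u.2⟩, fun h => ⟨h.1, (u : N).2⟩⟩
    have hDR : D < R := by
      refine lt_of_le_of_ne (le_inf hDS hDX) fun e => ?_
      have h1 : D.relIndex X = (PR : Subgroup X₀).index := by
        have h2 := ((D.subgroupOf X)).card_mul_index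
        have h3 := (PR : Subgroup X₀).card_mul_index
        have h4 : Nat.card (PR : Subgroup X₀) = Nat.card (D.subgroupOf X) := by
          rw [Nat.card_congr (subgroupOfEquivOfLe hDX).toEquiv]
          refine Nat.card_congr ⟨fun u => ⟨((u : X₀) : N), e ▸ (hPR u).1 u.2⟩,
            fun d => ⟨⟨⟨d, hDN d.2⟩, hDX d.2⟩, (hPR _).2 (e ▸ d.2)⟩, fun u => rfl, fun d => rfl⟩
        rw [h4, Nat.card_congr (subgroupOfEquivOfLe hXN).toEquiv,
          ← Nat.card_congr (subgroupOfEquivOfLe (le_refl X)).toEquiv] at h3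
        rw [Nat.card_congr (subgroupOfEquivOfLe (le_refl X)).toEquiv] at h3
        exact Nat.eq_of_mul_eq_mul_left Nat.card_pos (h2.trans h3.symm)
      exact PR.not_dvd_index (h1 ▸ hXp)
    have hmap : (PR : Subgroup X₀).map X₀.subtype = R.subgroupOf N := by
      ext u
      constructor
      · rintro ⟨w, hw, rfl⟩; exact (hPR w).1 hw
      · intro hu
        exact ⟨⟨u, hu.2⟩, (hPR ⟨u, hu.2⟩).2 hu, rfl⟩
    have hfr := Sylow.normalizer_sup_eq_top PR
    rw [hmap] at hfr
    obtain ⟨k, hk, m, hm, hkm⟩ := mem_sup_of_normal_left.1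
      ((sup_comm _ X₀ ▸ hfr).ge (mem_top (⟨n, hn⟩ : N)))
    haveI := Cfsg.Agent.Solv.pResidual_characteristic p X₀
    obtain ⟨x', hx', r, hr, hxr⟩ := mem_sup_of_normal_left.1
      (show (⟨k, hk⟩ : X₀) ∈ Cfsg.pResidual p X₀ ⊔ (PR : Subgroup X₀) by
        rw [sup_comm, Cfsg.Agent.Solv.sup_pResidual_eq_top PR]; trivial)
    set x : G := ((x' : N) : G) with hx
    have hxmem : x ∈ (Cfsg.pResidual p ↥X).map X.subtype := by
      rw [residual_eq]
      have h1 := mem_map_of_mem (N.subtype.comp X₀.subtype) hx'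
      rw [Cfsg.pResidual, MonoidHom.map_closure] at h1
      refine closure_mono ?_ h1
      rintro _ ⟨a, ha, rfl⟩
      refine ⟨a.2, ?_⟩
      show Nat.Coprime (orderOf ((a : N) : G)) p
      rw [Subgroup.orderOf_coe, Subgroup.orderOf_coe]
      exact ha
    have hxN : x ∈ N := (x' : N).2
    have hmR : ∀ t ∈ R, ((r : N) : G)⁻¹ * t * ((r : N) : G) ∈ R := fun t ht => by
      have h1 := (hPR r).1 hr
      exact mul_mem (mul_mem (inv_mem h1) ht) h1
    have hkm' : n = x * ((r : N) : G) * (m : G) := by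
      have := congrArg Subtype.val hkm
      rw [Subgroup.coe_mul] at this
      rw [show (k : G) = x * ((r : N) : G) by
        have h2 := congrArg (fun t : X₀ => ((t : N) : G)) hxr
        simpa using h2.symm] at this
      exact this.symm
    have hgood := (hbig R inf_le_left (hcard R hDR) (((r : N) : G) * m) fun t ht => by
      have h1 := hmR t ht
      have ht' : (⟨((r : N) : G)⁻¹ * t * ((r : N) : G), hXN h1.2⟩ : N) ∈ R.subgroupOf N := h1
      have h2 := (mem_normalizer_iff''.1 hm _).1 ht'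
      have h3 : ((m : G))⁻¹ * (((r : N) : G)⁻¹ * t * ((r : N) : G)) * (m : G) ∈ R := h2
      convert h3.1 using 1
      group
      exact Iff.rfl).mono hDR.le
    have hone : Good S (D : Set G) x := ⟨[(D, X, x)], 1, one_mem _, 1, one_mem _,
      ⟨⟨hDS, hidx, hcentric, hradical, hconn, ⟨hDX, hXN, hXn, hXp, hmin⟩, hxmem⟩, subset_rfl, trivial⟩,
      by simp [prd]⟩
    have himg : (fun a => x⁻¹ * a * x) '' (D : Set G) = (D : Set G) := by
      ext a
      refine ⟨?_, fun ha => ⟨x * a * x⁻¹, (mem_normalizer_iff.1 hxN a).1 ha, by group⟩⟩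
      rintro ⟨d, hd, rfl⟩
      exact (mem_normalizer_iff''.1 hxN d).1 hd
    have := hone.trans (himg.symm ▸ hgood)
    rwa [← mul_assoc, ← hkm'] at this

theorem all_members (S : Sylow p G) : ∀ (k : ℕ), ∀ D ∈ AlperinC.Fam S,
    Nat.card (S : Subgroup G) ≤ k + Nat.card D → ∀ n ∈ normalizer (D : Set G), Good S (D : Set G) n := by
  intro k
  induction k using Nat.strong_induction_on with
  | _ k ih =>
    intro D hD hk n hn
    refine member hD (fun T hTS hlt g hg => ?_) hn
    refine good_of_le (Nat.card T) (fun D' hD' hle => ?_) T hTS le_rfl g hg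
    have := card_le_of_le hTS
    exact ih (k - 1) (by omega) D' hD' (by omega)

end Helpers


/-- A strong form of the Alperin–Goldschmidt fusion Theorem. Let P be a Sylow p-subgroup of the finite group G, A a subset of P containing a nonidentity element, and g an element with g⁻¹Ag ⊆ P. Then g = c·x₁⋯xₙ·y with c ∈ C_G(A), y ∈ N_G(P) and, for each i, an element xᵢ and a subgroup Hᵢ ≤ P such that: N_P(Hᵢ) is a Sylow p-subgroup of N_G(Hᵢ); C_P(Hᵢ) ≤ Hᵢ; O_{p',p}(N_G(Hᵢ)) = Hᵢ·C_G(Hᵢ); the Sylow p-subgroups of N_G(Hᵢ)/Hᵢ are not chain-connected through nontrivial intersections (the quotient has a strongly p-embedded subgroup); xᵢ lies in O^p(Xᵢ), where Xᵢ/Hᵢ is the smallest normal subgroup of N_G(Hᵢ)/Hᵢ of order divisible by p; and (x₁⋯xᵢ₋₁)⁻¹A(x₁⋯xᵢ₋₁) ⊆ Hᵢ. -/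
theorem result {G : Type*} [Group G] [Finite G] {p : ℕ} [Fact p.Prime]
    (P : Sylow p G) (A : Set G) (hA : A ⊆ (P : Set G)) (hA1 : ∃ a ∈ A, a ≠ 1)
    (g : G) (hAg : (fun a => g⁻¹ * a * g) '' A ⊆ (P : Set G)) :
    ∃ (n : ℕ) (H X : Fin n → Subgroup G) (x : Fin n → G) (c y : G),
      c ∈ Subgroup.centralizer A ∧ y ∈ Subgroup.normalizer ((P : Subgroup G) : Set G) ∧
      g = c * (List.ofFn x).prod * y ∧
      ∀ i : Fin n,
        H i ≤ (P : Subgroup G) ∧
        ¬ p ∣ ((P : Subgroup G) ⊓ Subgroup.normalizer (H i : Set G)).relIndex (Subgroup.normalizer (H i : Set G)) ∧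
        (P : Subgroup G) ⊓ Subgroup.centralizer (H i : Set G) ≤ H i ∧
        (Cfsg.pPrimePCore p ↥(Subgroup.normalizer (H i : Set G))).map (Subgroup.normalizer (H i : Set G)).subtype =
          H i ⊔ Subgroup.centralizer (H i : Set G) ∧
        ¬ Cfsg.IsSylowChainConnected p
            (↥(Subgroup.normalizer (H i : Set G)) ⧸ (H i).subgroupOf (Subgroup.normalizer (H i : Set G))) ∧
        (H i ≤ X i ∧ X i ≤ Subgroup.normalizer (H i : Set G) ∧
          ((X i).subgroupOf (Subgroup.normalizer (H i : Set G))).Normal ∧ p ∣ (H i).relIndex (X i) ∧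
          ∀ Y : Subgroup G, H i ≤ Y → Y ≤ Subgroup.normalizer (H i : Set G) →
            (Y.subgroupOf (Subgroup.normalizer (H i : Set G))).Normal → p ∣ (H i).relIndex Y → X i ≤ Y) ∧
        x i ∈ (Cfsg.pResidual p ↥(X i)).map (X i).subtype ∧
        (fun a => (((List.ofFn x).take i.val).prod)⁻¹ * a * ((List.ofFn x).take i.val).prod) '' A ⊆ (H i : Set G) := by
  skip
  classical
  have hT : Subgroup.closure A ≤ (P : Subgroup G) := (Subgroup.closure_le _).2 hA
  have hg : ∀ t ∈ Subgroup.closure A, g⁻¹ * t * g ∈ (P : Subgroup G) := fun t ht => by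
    have : Subgroup.closure A ≤ (P : Subgroup G).comap (MulAut.conj g⁻¹).toMonoidHom :=
      (Subgroup.closure_le _).2 fun a ha => by simpa using hAg ⟨a, ha, rfl⟩
    simpa using this ht
  obtain ⟨L, c, hc, y, hy, hL, he⟩ := (good_of_le 0 (fun D hD _ => all_members P (Nat.card (P : Subgroup G)) D hD
    (Nat.le_add_right _ _)) _ hT (Nat.zero_le _) g hg).mono Subgroup.subset_closure
  have key : ∀ (L : List (Subgroup G × Subgroup G × G)) (A : Set G), Steps P A L →
      ∀ i : Fin L.length, Valid P L[i].1 L[i].2.1 L[i].2.2 ∧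
        (fun a => ((L.map fun s => s.2.2).take i.val).prod⁻¹ * a * ((L.map fun s => s.2.2).take i.val).prod) '' A
          ⊆ (L[i].1 : Set G) := by
    intro L
    induction L with
    | nil => intro A _ i; exact i.elim0
    | cons s L ih =>
      rintro A ⟨h1, h2, h3⟩ ⟨i, hi⟩
      rcases i with _ | i
      · exact ⟨h1, by simpa using h2⟩
      · obtain ⟨v, hv⟩ := ih _ h3 ⟨i, by simpa using hi⟩
        refine ⟨v, ?_⟩
        rw [Set.image_image] at hv
        simpa [mul_assoc] using hv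
  refine ⟨L.length, fun i => L[i].1, fun i => L[i].2.1, fun i => L[i].2.2, c, y, hc, hy, ?_, fun i => ?_⟩
  · rw [he, prd]
    congr 3
    exact List.ext_getElem (by simp) fun n h1 h2 => by simp
  · obtain ⟨v, hv⟩ := key L A hL i
    refine ⟨v.le, v.idx, v.centric, v.radical, v.disc, v.minimal, v.mem, ?_⟩
    have e : List.ofFn (fun j : Fin L.length => L[j].2.2) = L.map fun s => s.2.2 :=
      List.ext_getElem (by simp) fun n h1 h2 => by simp
    rw [e]
    exact hv

end Cfsg.Agent.S3072
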