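import Cfsg.Statements.S3073
import Cfsg.Agent.S1988
import Cfsg.Agent.S1978

set_option autoImplicit false
open scoped Pointwise
universe u
open Cfsg

namespace Cfsg.Agent.S3073

/-- For an odd prime p, every finite p-group S has a characteristic subgroup K with C_S(K) ≤ K such that, whenever S is (isomorphic to) a Sylow p-subgroup of a finite group G, G has a normal p-complement if and only if N_G(K)/C_G(K) is a p-group, i.e. every element of N_G(K) of order prime to p centralizes K (K transported into G along the isomorphism). -/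
theorem result (p : ℕ) [Fact p.Prime] (hp : p ≠ 2)
    (S : Type u) [Group S] [Finite S] (hS : IsPGroup p S) :
    ∃ K : Subgroup S, K.Characteristic ∧ Subgroup.centralizer (K : Set S) ≤ K ∧
      ∀ (G : Type u) [Group G] [Finite G] (P : Sylow p G) (e : ↥(P : Subgroup G) ≃* S),
        Cfsg.HasNormalPComplement p G ↔
          ∀ g ∈ Subgroup.normalizer (((K.comap (e : ↥(P : Subgroup G) →* S)).map (P : Subgroup G).subtype : Subgroup G) : Set G),
            (orderOf g).Coprime p →
              g ∈ Subgroup.centralizer (((K.comap (e : ↥(P : Subgroup G) →* S)).map (P : Subgroup G).subtype : Subgroup G) : Set G) := by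
  have hchar : IsCharPFunctor.{u} p Cfsg.kInfLower := Cfsg.Agent.Solv.KInf.isCharPFunctor_kInfLower
  obtain ⟨h1, -, -, -⟩ := Cfsg.Agent.S1978.result hS
  refine ⟨Cfsg.kInfLower S, Subgroup.characteristic_iff_map_eq.mpr fun φ => hchar.2 S S hS φ, h1, ?_⟩
  intro G _ _ P e
  have hK : (((Cfsg.kInfLower S).comap (e : ↥(P : Subgroup G) →* S)).map (P : Subgroup G).subtype : Subgroup G) = Cfsg.inducedFunctor Cfsg.kInfLower (P : Subgroup G) := by
    rw [Cfsg.inducedFunctor, ← hchar.2 _ _ P.isPGroup' e]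
    congr 1
    exact Subgroup.comap_map_eq_self_of_injective e.injective _
  rw [hK]
  refine ⟨?_, fun h => Cfsg.Agent.S1988.result hp P (Or.inr h)⟩
  rintro ⟨Q, N, hN, hc⟩ g hg hgo
  obtain ⟨-, hcop, k, hk⟩ := Cfsg.Agent.Solv.complement_eq_pPrimeCore hc
  have hgN : g ∈ N := by
    rw [← QuotientGroup.eq_one_iff, ← orderOf_eq_one_iff]
    have h2 : orderOf (g : G ⧸ N) ∣ p ^ k := by
      rw [← hk, Subgroup.index]; exact orderOf_dvd_natCard _
    have h3 : orderOf (g : G ⧸ N) ∣ orderOf g := orderOf_map_dvd (QuotientGroup.mk' N) g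
    exact Nat.eq_one_of_dvd_coprimes (hgo.pow_right k) h3 h2
  rw [Subgroup.mem_centralizer_iff]
  intro x hx
  have hxK := (Subgroup.mem_normalizer_iff.mp hg x).mp hx
  have hb : (g * x * g⁻¹ * x⁻¹) ∈ N ⊓ Cfsg.inducedFunctor Cfsg.kInfLower (P : Subgroup G) := by
    refine ⟨?_, Subgroup.mul_mem _ hxK (Subgroup.inv_mem _ hx)⟩
    have := hN.conj_mem _ (N.inv_mem hgN) x
    simpa [mul_assoc] using N.mul_mem hgN this
  have hKp : IsPGroup p (Cfsg.inducedFunctor Cfsg.kInfLower (P : Subgroup G) : Subgroup G) := P.isPGroup'.to_le (Subgroup.map_subtype_le _)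
  have h1 : orderOf ((g * x * g⁻¹ * x⁻¹)) = 1 := by
    obtain ⟨j, hj⟩ := IsPGroup.iff_card.mp hKp
    refine Nat.eq_one_of_dvd_coprimes (hcop.pow_right j) (Subgroup.orderOf_dvd_natCard N hb.1) ?_
    rw [← hj]; exact Subgroup.orderOf_dvd_natCard _ hb.2
  have h2 := orderOf_eq_one_iff.mp h1
  rw [mul_inv_eq_one, mul_inv_eq_iff_eq_mul] at h2
  exact h2.symm

end Cfsg.Agent.S3073
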