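import Cfsg.Statements.S3074
import Cfsg.Agent.Lib.Solv.KApps
import Cfsg.Agent.Lib.Solv.StructMisc
import Cfsg.Agent.Lib.Struct.ClassTwoBasic
-- import your own Cfsg.Agent.* helpers here

set_option autoImplicit false
open Cfsg

namespace Cfsg.Agent.S3074
open Cfsg.Agent Cfsg.Agent.Local
open scoped commutatorElement


/-- Let p be an odd prime. A Sylow p-subgroup of Qd(p), the split extension of an elementary abelian group of order p² by SL₂(p) acting naturally, is extraspecial of order p³ and exponent p. -/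
theorem result (p : ℕ) [Fact p.Prime] (hp : p ≠ 2) (P : Sylow p ↥(Cfsg.qd p)) :
    Cfsg.IsExtraspecial p ↥P ∧ Nat.card P = p ^ 3 ∧ Monoid.exponent ↥P = p := by
  skip
  classical
  have hpp : p.Prime := Fact.out
  obtain ⟨T, hT⟩ := Cfsg.Agent.Solv.KInf.exists_sylow_eq_qdU (p := p)
  obtain ⟨g, hg⟩ := MulAction.exists_smul_eq ↥(Cfsg.qd p) T P
  have hcard : Nat.card ↥P = p ^ 3 := by
    show Nat.card ↥(P : Subgroup ↥(Cfsg.qd p)) = p ^ 3
    rw [Sylow.card_eq_multiplicity, ← T.card_eq_multiplicity, ← Cfsg.Agent.Solv.KInf.card_qdU (p := p), ← hT]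
  have hpow : ∀ x ∈ (T : Subgroup ↥(Cfsg.qd p)), x ^ p = 1 := by
    rw [hT]
    rintro _ ⟨b, r, s, rfl⟩
    have key : ∀ n : ℕ, ∃ c : ZMod p, 2 * c = (n : ZMod p) * ((n : ZMod p) - 1) ∧
        qdElt 1 b 0 1 r s (by ring) ^ n =
          qdElt 1 ((n : ZMod p) * b) 0 1 ((n : ZMod p) * r + c * (b * s)) ((n : ZMod p) * s) (by ring) := by
      intro n
      induction n with
      | zero =>
        refine ⟨0, by simp, ?_⟩
        rw [pow_zero]
        exact qdElt_one.symm.trans (qdElt_congr _ _ rfl (by simp) rfl rfl (by simp) (by simp))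
      | succ n ih =>
        obtain ⟨c, hc, e⟩ := ih
        refine ⟨c + n, by push_cast; linear_combination hc, ?_⟩
        rw [pow_succ, e, qdElt_mul]
        exact qdElt_congr _ _ (by ring) (by push_cast; ring) (by ring) (by ring) (by push_cast; ring) (by push_cast; ring)
    obtain ⟨c, hc, e⟩ := key p
    rw [ZMod.natCast_self, zero_mul] at hc
    have h2 : (2 : ZMod p) ≠ 0 := by
      intro h
      have h' : ((2 : ℕ) : ZMod p) = 0 := by exact_mod_cast h
      rw [ZMod.natCast_eq_zero_iff] at h'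
      exact hp ((Nat.prime_dvd_prime_iff_eq hpp Nat.prime_two).1 h')
    have hc0 : c = 0 := (mul_eq_zero.1 hc).resolve_left h2
    rw [e]
    refine (qdElt_congr _ _ rfl ?_ rfl rfl ?_ ?_).trans qdElt_one <;> simp [hc0]
  have hmem : ∀ x : P, ∃ t ∈ (T : Subgroup ↥(Cfsg.qd p)), MulAut.conj g t = (x : ↥(Cfsg.qd p)) := by
    rintro ⟨x, hx⟩
    have hx' : x ∈ ((g • T : Sylow p ↥(Cfsg.qd p)) : Subgroup ↥(Cfsg.qd p)) := hg ▸ hx
    obtain ⟨t, ht, e⟩ := hx'
    exact ⟨t, ht, e⟩
  have hexp : ∀ x : P, x ^ p = 1 := by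
    intro x
    obtain ⟨t, ht, e⟩ := hmem x
    refine Subtype.ext ?_
    rw [SubgroupClass.coe_pow, ← e, ← map_pow, hpow t ht, map_one, OneMemClass.coe_one]
  have hmem' : ∀ t ∈ (T : Subgroup ↥(Cfsg.qd p)), MulAut.conj g t ∈ (P : Subgroup ↥(Cfsg.qd p)) := by
    intro t ht
    rw [← hg]
    exact ⟨t, ht, rfl⟩
  have hnab : ∃ x y : P, x * y ≠ y * x := by
    let a : ↥(Cfsg.qd p) := qdElt 1 1 0 1 0 0 (by ring)
    let b : ↥(Cfsg.qd p) := qdElt 1 0 0 1 0 1 (by ring)
    refine ⟨⟨_, hmem' a (hT ▸ ⟨1, 0, 0, rfl⟩)⟩, ⟨_, hmem' b (hT ▸ ⟨0, 0, 1, rfl⟩)⟩, fun h => ?_⟩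
    have h1 : MulAut.conj g a * MulAut.conj g b = MulAut.conj g b * MulAut.conj g a := congrArg Subtype.val h
    rw [← map_mul, ← map_mul] at h1
    have h2 := (MulAut.conj g).injective h1
    simp only [a, b, qdElt_mul] at h2
    have h3 := congrArg (fun q : ↥(Cfsg.qd p) => ((q : Matrix.SpecialLinearGroup (Fin 3) (ZMod p)) :
      Matrix (Fin 3) (Fin 3) (ZMod p)) 0 2) h2
    simp [qdElt, affMat] at h3
  have hP : IsPGroup p ↥(P : Subgroup ↥(Cfsg.qd p)) := P.isPGroup'
  haveI := hP.isNilpotent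
  haveI : Nontrivial ↥P := Finite.one_lt_card_iff_nontrivial.1 (by rw [hcard]; exact Nat.one_lt_pow (by norm_num) hpp.one_lt)
  set Z := Subgroup.center ↥P with hZ
  haveI : Nontrivial Z := hP.center_nontrivial
  obtain ⟨k, hk3, hk⟩ := (Nat.dvd_prime_pow hpp).1 (hcard ▸ Subgroup.card_subgroup_dvd_card Z)
  have hidx : Z.index * p ^ k = p ^ 3 := by rw [← hk, Subgroup.index_mul_card, hcard]
  have hk1 : k = 1 := by
    obtain ⟨x, y, hxy⟩ := hnab
    have h0 : k ≠ 0 := by
      rintro rfl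
      rw [pow_zero] at hk
      exact absurd (Finite.one_lt_card_iff_nontrivial.2 (inferInstance : Nontrivial Z)) (by omega)
    by_contra h1
    haveI : IsCyclic (↥P ⧸ Z) := by
      rcases (show k = 2 ∨ k = 3 by omega) with rfl | rfl
      · refine isCyclic_of_prime_card (p := p) ?_
        rw [← Subgroup.index_eq_card]
        exact Nat.eq_of_mul_eq_mul_right (pow_pos hpp.pos 2) (hidx.trans (by ring))
      · exact absurd ((Subgroup.eq_top_of_card_eq Z (hk.trans hcard.symm)) ▸ Subgroup.mem_top x : x ∈ Z)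
          fun hx => hxy (Subgroup.mem_center_iff.1 hx y).symm
    exact hxy (commutative_of_cyclic_center_quotient (QuotientGroup.mk' Z) (by simp [hZ]) x y)
  rw [hk1, pow_one] at hk hidx
  have hab : IsMulCommutative (↥P ⧸ Z) := by
    refine IsPGroup.isMulCommutative_of_card_eq_prime_sq (p := p) ?_
    rw [← Subgroup.index_eq_card]
    exact Nat.eq_of_mul_eq_mul_right hpp.pos (hidx.trans (by ring))
  have hcle : commutator ↥P ≤ Z := by
    rw [commutator_def, Subgroup.commutator_le]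
    intro x _ y _
    rw [← QuotientGroup.eq_one_iff]
    show ((⁅x, y⁆ : ↥P) : ↥P ⧸ Z) = 1
    simp only [commutatorElement_def, QuotientGroup.mk_mul, QuotientGroup.mk_inv]
    rw [hab.is_comm.comm (x : ↥P ⧸ Z) (y : ↥P ⧸ Z)]
    group
  have hceq : commutator ↥P = Z := by
    refine le_antisymm hcle ?_
    rcases (Nat.dvd_prime hpp).1 (hk ▸ Subgroup.card_dvd_of_le hcle) with h | h
    · exfalso
      obtain ⟨x, y, hxy⟩ := hnab
      exact hxy (((commutator_eq_bot_iff _).1 (Subgroup.card_eq_one.1 h)).is_comm.comm x y)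
    · exact (Subgroup.eq_of_le_of_card_ge hcle (by rw [h, hk])).ge
  have hfr : frattini ↥P = Z := le_antisymm
    (Cfsg.Agent.Struct.ClassTwo.frattini_le hpp hcle fun x => by rw [hexp x]; exact one_mem _)
    (hceq ▸ Cfsg.Agent.Solv.commutator_le_frattini)
  refine ⟨⟨⟨hP, hfr, hceq⟩, hk⟩, hcard, ?_⟩
  exact (Monoid.exponent_eq_prime_iff hpp).2 fun x hx => orderOf_eq_prime (hexp x) hx

end Cfsg.Agent.S3074
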