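import Cfsg.Statements.S3075
import Cfsg.Prelude
-- import your own Cfsg.Agent.* helpers here

set_option autoImplicit false
open Cfsg

namespace Cfsg.Agent.S3075
open Subgroup

theorem cyc_comm {N : Type*} [Group N] (W : Subgroup N) [W.Normal] [IsCyclic W] (n m : N) {w : N} (hw : w ∈ W) :
    n * (m * w * m⁻¹) * n⁻¹ = m * (n * w * n⁻¹) * m⁻¹ := by
  obtain ⟨g, hg⟩ := IsCyclic.exists_generator (α := W)
  have hpow : ∀ x ∈ W, ∃ k : ℤ, x = (g : N) ^ k := fun x hx => by
    obtain ⟨k, hk⟩ := mem_zpowers_iff.1 (hg ⟨x, hx⟩)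
    exact ⟨k, by simpa using (congrArg Subtype.val hk).symm⟩
  obtain ⟨i, hi⟩ := hpow _ (Normal.conj_mem inferInstance _ g.2 n)
  obtain ⟨j, hj⟩ := hpow _ (Normal.conj_mem inferInstance _ g.2 m)
  have e : ∀ (c : N) (l : ℤ), c * (g : N) ^ l * c⁻¹ = (c * g * c⁻¹) ^ l := fun c l => (conj_zpow).symm
  obtain ⟨k, rfl⟩ := hpow w hw
  rw [e m k, hj, ← zpow_mul, e n (j * k), hi, ← zpow_mul, e n k, hi, ← zpow_mul, e m (i * k), hj, ← zpow_mul]
  ring_nf


/-- Let p be an odd prime and N a finite group with a normal elementary abelian subgroup A of order p² that is its own centralizer in N, such that N/A is isomorphic to SL₂(p) (over any field F with p elements). Then N splits over A: some subgroup U of N satisfies A ∩ U = 1 and AU = N. -/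
theorem result {N : Type*} [Group N] [Finite N] {p : ℕ} [Fact p.Prime] (hp : p ≠ 2)
    (A : Subgroup N) [A.Normal] (hAcomm : IsMulCommutative A) (hAcard : Nat.card A = p ^ 2) (hAexp : Monoid.exponent ↥A = p)
    (hAself : Subgroup.centralizer (A : Set N) = A)
    {F : Type*} [Field F] [Fintype F] (hF : Fintype.card F = p) (e : N ⧸ A ≃* Matrix.SpecialLinearGroup (Fin 2) F) :
    ∃ U : Subgroup N, A ⊓ U = ⊥ ∧ A ⊔ U = ⊤ := by
  skip
  classical
  haveI := hAcomm
  have hp2 := (Fact.out : p.Prime).eq_two_or_odd'.resolve_left hp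
  have hcomm : ∀ a ∈ A, ∀ b ∈ A, a * b = b * a := fun a ha b hb =>
    congrArg Subtype.val (mul_comm' (⟨a, ha⟩ : A) ⟨b, hb⟩)
  have hexp : ∀ a ∈ A, a ^ p = 1 := fun a ha => by
    have h := Monoid.pow_exponent_eq_one (⟨a, ha⟩ : A)
    rw [hAexp] at h
    exact congrArg Subtype.val h
  haveI : CharP F p := by
    have := charP_of_card_eq_prime (R := F) (p := p) (by first | exact hF | rw [Nat.card_eq_fintype_card, hF])
    exact this
  have hneg : (-1 : F) ≠ 1 := fun h => hp (by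
    have h2 : ((2 : ℕ) : F) = 0 := by
      rw [Nat.cast_two, ← one_add_one_eq_two]
      nth_rewrite 1 [← h]
      exact neg_add_cancel 1
    exact (Nat.prime_dvd_prime_iff_eq Fact.out Nat.prime_two).1 ((CharP.cast_eq_zero_iff F p 2).1 h2))
  obtain ⟨t, ht⟩ := QuotientGroup.mk'_surjective A (e.symm (-1))
  have ht1 : t ∉ A := by
    intro h
    rw [QuotientGroup.mk'_apply, (QuotientGroup.eq_one_iff t).2 h, eq_comm, MulEquiv.map_eq_one_iff] at ht
    have := congrArg (fun M : Matrix.SpecialLinearGroup (Fin 2) F => (M : Matrix (Fin 2) (Fin 2) F) 0 0) ht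
    simp at this
    exact hneg this
  have htcen : ∀ n : N, n * t * n⁻¹ * t⁻¹ ∈ A := by
    intro n
    rw [← QuotientGroup.eq_one_iff]
    have hc : ∀ M : Matrix.SpecialLinearGroup (Fin 2) F, M * -1 = -1 * M := fun M => by
      apply Subtype.ext; simp
    have h := congrArg e.symm (hc (e (n : N ⧸ A)))
    rw [map_mul, map_mul, MulEquiv.symm_apply_apply, ← ht, QuotientGroup.mk'_apply] at h
    simp only [QuotientGroup.mk_mul, QuotientGroup.mk_inv, h]
    group
  have ht2 : t * t ∈ A := by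
    rw [← QuotientGroup.eq_one_iff, QuotientGroup.mk_mul]
    rw [QuotientGroup.mk'_apply] at ht
    rw [ht, ← map_mul, MulEquiv.map_eq_one_iff]
    apply Subtype.ext; simp
  have hconj : ∀ n a : N, a ∈ A → n * a * n⁻¹ ∈ A := fun n a ha => Normal.conj_mem inferInstance a ha n
  set W : Subgroup N := A ⊓ centralizer ({t} : Set N) with hW
  have hWfix : ∀ a ∈ W, t * a * t⁻¹ = a := fun a ha => by
    rw [← (mem_centralizer_singleton_iff.1 (mem_inf.1 ha).2), mul_inv_cancel_right]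
  have hWn : W.Normal := ⟨fun a ha n => mem_inf.2 ⟨hconj n a (mem_inf.1 ha).1, by
    rw [mem_centralizer_singleton_iff]
    have hta := hWfix a ha
    obtain ⟨c, hc, hnt⟩ : ∃ c ∈ A, n * t * n⁻¹ = c * t := ⟨_, htcen n, by group⟩
    have h1 : c * (t * (n * a * n⁻¹) * t⁻¹) * c⁻¹ = n * a * n⁻¹ := by
      calc c * (t * (n * a * n⁻¹) * t⁻¹) * c⁻¹ = (c * t) * (n * a * n⁻¹) * (c * t)⁻¹ := by group
        _ = n * (t * a * t⁻¹) * n⁻¹ := by rw [← hnt]; group
        _ = n * a * n⁻¹ := by rw [hta]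
    have h2 : t * (n * a * n⁻¹) * t⁻¹ = n * a * n⁻¹ := by
      rw [hcomm c hc _ (hconj t _ (hconj n a (mem_inf.1 ha).1)), mul_inv_cancel_right] at h1
      exact h1
    calc n * a * n⁻¹ * t = t * (n * a * n⁻¹) * t⁻¹ * t := by rw [h2]
      _ = t * (n * a * n⁻¹) := by group⟩⟩
  have hWA : W = ⊥ := by
    by_contra hne
    have hd : Nat.card W ∣ p ^ 2 := hAcard ▸ card_dvd_of_le inf_le_left
    obtain ⟨i, hi, hcard⟩ := (Nat.dvd_prime_pow (Fact.out : p.Prime)).1 hd
    have hi0 : i ≠ 0 := fun h => hne (card_eq_one.1 (by rw [hcard, h, pow_zero]))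
    by_cases hi2 : i = 2
    · apply ht1
      have hWA : W = A := eq_of_le_of_card_ge inf_le_left (by rw [hAcard, hcard, hi2])
      rw [← hAself]
      exact mem_centralizer_iff.2 fun a ha =>
        mem_centralizer_singleton_iff.1 (mem_inf.1 (hWA.ge ha)).2
    have hW1 : Nat.card W = p := by rw [hcard, show i = 1 by omega, pow_one]
    let f : ↥A →* N := MonoidHom.mk' (fun a => t * a * t⁻¹ * (a : N)⁻¹) (fun a b => by
      show t * ((a : N) * b) * t⁻¹ * ((a : N) * b)⁻¹ = t * a * t⁻¹ * (a : N)⁻¹ * (t * b * t⁻¹ * (b : N)⁻¹)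
      calc t * ((a : N) * b) * t⁻¹ * ((a : N) * b)⁻¹ = (t * a * t⁻¹) * ((t * b * t⁻¹ * (b : N)⁻¹) * (a : N)⁻¹) := by group
        _ = (t * a * t⁻¹) * ((a : N)⁻¹ * (t * b * t⁻¹ * (b : N)⁻¹)) := by
          rw [hcomm _ (mul_mem (hconj t b b.2) (inv_mem b.2)) _ (inv_mem a.2)]
        _ = _ := by group)
    set I := f.range with hI
    have hker : f.ker = W.subgroupOf A := by
      ext a
      rw [MonoidHom.mem_ker, mem_subgroupOf, hW, mem_inf, mem_centralizer_singleton_iff]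
      show t * a * t⁻¹ * (a : N)⁻¹ = 1 ↔ _
      rw [mul_inv_eq_one, mul_inv_eq_iff_eq_mul]
      exact ⟨fun h => ⟨a.2, h.symm⟩, fun h => h.2.symm⟩
    have hI1 : Nat.card I = p := by
      have h := f.ker.card_mul_index
      rw [index_ker, hker, Nat.card_congr (subgroupOfEquivOfLe (inf_le_left : W ≤ A)).toEquiv, hW1, hAcard,
        pow_two] at h
      exact Nat.eq_of_mul_eq_mul_left (Fact.out : p.Prime).pos h
    have hIA : I ≤ A := by
      rintro _ ⟨a, rfl⟩
      exact mul_mem (hconj t a a.2) (inv_mem a.2)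
    haveI hIn : I.Normal := ⟨by
      rintro _ ⟨a, rfl⟩ n
      refine ⟨⟨n * a * n⁻¹, hconj n a a.2⟩, ?_⟩
      show t * (n * a * n⁻¹) * t⁻¹ * (n * a * n⁻¹)⁻¹ = n * (t * a * t⁻¹ * (a : N)⁻¹) * n⁻¹
      obtain ⟨c, hc, hnt⟩ : ∃ c ∈ A, n * t * n⁻¹ = c * t := ⟨_, htcen n, by group⟩
      have hta := hconj t _ (hconj n a a.2)
      calc t * (n * a * n⁻¹) * t⁻¹ * (n * a * n⁻¹)⁻¹
          = c * (t * (n * a * n⁻¹) * t⁻¹) * c⁻¹ * (n * a * n⁻¹)⁻¹ := by
            rw [hcomm c hc _ hta, mul_inv_cancel_right]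
        _ = (c * t) * (n * a * n⁻¹) * (c * t)⁻¹ * (n * a * n⁻¹)⁻¹ := by group
        _ = _ := by rw [← hnt]; group⟩
    haveI := hWn
    haveI : IsCyclic W := isCyclic_of_prime_card hW1
    haveI : IsCyclic I := isCyclic_of_prime_card hI1
    have hdisj : W ⊓ I = ⊥ := by
      rw [eq_bot_iff]
      intro y hy
      obtain ⟨hyW, a, rfl⟩ := hy
      have hfix := hWfix _ hyW
      change t * (t * a * t⁻¹ * (a : N)⁻¹) * t⁻¹ = t * a * t⁻¹ * (a : N)⁻¹ at hfix
      set y := t * a * t⁻¹ * (a : N)⁻¹ with hy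
      have hta : t * a * t⁻¹ = y * a := by rw [hy]; group
      have h2 : t * t * a * (t * t)⁻¹ = a := by
        rw [hcomm _ ht2 a a.2, mul_inv_cancel_right]
      have h3 : y * y * a = (a : N) := by
        calc y * y * a = (t * y * t⁻¹) * (t * a * t⁻¹) := by rw [hfix, hta]; group
          _ = t * (y * a) * t⁻¹ := by group
          _ = t * (t * a * t⁻¹) * t⁻¹ := by rw [hta]
          _ = _ := by rw [← mul_assoc, ← mul_assoc]; simpa [mul_assoc] using h2
      have h4 : y ^ 2 = 1 := by rw [pow_two]; exact mul_eq_right.1 h3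
      rw [mem_bot]
      show y = 1
      refine orderOf_eq_one_iff.1 (Nat.eq_one_of_dvd_coprimes (Nat.coprime_two_left.2 hp2) (orderOf_dvd_of_pow_eq_one h4)
        (orderOf_dvd_of_pow_eq_one (hexp y (mul_mem (hconj t a a.2) (inv_mem a.2)))))
    have hsup : W ⊔ I = A := by
      refine eq_of_le_of_card_ge (sup_le inf_le_left hIA) ?_
      rw [hAcard, pow_two]
      conv_lhs => arg 1; rw [← hW1]
      conv_lhs => arg 2; rw [← hI1]
      rw [← Nat.card_prod]
      refine Nat.card_le_card_of_injective (fun q : ↥W × ↥I =>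
        (⟨q.1 * q.2, mul_mem (mem_sup_left q.1.2) (mem_sup_right q.2.2)⟩ : ↥(W ⊔ I))) ?_
      intro a b hab
      have h' : (a.1 : N) * a.2 = b.1 * b.2 := congrArg Subtype.val hab
      have hm : (b.1 : N)⁻¹ * a.1 = b.2 * (a.2 : N)⁻¹ := by
        rw [inv_mul_eq_iff_eq_mul, ← mul_assoc, ← h', mul_inv_cancel_right]
      have h1 : (b.1 : N)⁻¹ * a.1 ∈ W ⊓ I :=
        mem_inf.2 ⟨mul_mem (inv_mem b.1.2) a.1.2, hm ▸ mul_mem b.2.2 (inv_mem a.2.2)⟩
      rw [hdisj, mem_bot, inv_mul_eq_one] at h1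
      refine Prod.ext (Subtype.ext h1.symm) (Subtype.ext ?_)
      rw [← h1] at h'
      exact mul_left_cancel h'
    have hall : ∀ n m : N, n⁻¹ * m⁻¹ * n * m ∈ A := by
      intro n m
      rw [← hAself, mem_centralizer_iff]
      have hle : A ≤ centralizer ({n⁻¹ * m⁻¹ * n * m} : Set N) := by
        rw [← hsup]
        refine sup_le ?_ ?_
        all_goals
          intro w hw
          rw [mem_centralizer_singleton_iff]
        · have h := cyc_comm W n m hw
          calc w * (n⁻¹ * m⁻¹ * n * m) = n⁻¹ * m⁻¹ * (m * (n * w * n⁻¹) * m⁻¹) * (m * n) * (n⁻¹ * m⁻¹ * n * m) := by group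
            _ = n⁻¹ * m⁻¹ * (n * (m * w * m⁻¹) * n⁻¹) * (m * n) * (n⁻¹ * m⁻¹ * n * m) := by rw [h]
            _ = _ := by group
        · have h := cyc_comm I n m hw
          calc w * (n⁻¹ * m⁻¹ * n * m) = n⁻¹ * m⁻¹ * (m * (n * w * n⁻¹) * m⁻¹) * (m * n) * (n⁻¹ * m⁻¹ * n * m) := by group
            _ = n⁻¹ * m⁻¹ * (n * (m * w * m⁻¹) * n⁻¹) * (m * n) * (n⁻¹ * m⁻¹ * n * m) := by rw [h]
            _ = _ := by group
      exact fun a ha => mem_centralizer_singleton_iff.1 (hle ha)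
    -- but `SL₂` is not commutative
    have hc : ∀ a b : Matrix.SpecialLinearGroup (Fin 2) F, a * b = b * a := by
      intro a b
      obtain ⟨n, hn⟩ := QuotientGroup.mk'_surjective A (e.symm a)
      obtain ⟨m, hm⟩ := QuotientGroup.mk'_surjective A (e.symm b)
      apply e.symm.injective
      rw [map_mul, map_mul, ← hn, ← hm, ← map_mul, ← map_mul, eq_comm]
      refine QuotientGroup.eq.2 ?_
      have := hall n m
      convert this using 1
      group
    have h := hc ⟨!![1, 1; 0, 1], by simp [Matrix.det_fin_two]⟩ ⟨!![1, 0; 1, 1], by simp [Matrix.det_fin_two]⟩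
    have h00 := congrArg (fun M : Matrix.SpecialLinearGroup (Fin 2) F => (M : Matrix (Fin 2) (Fin 2) F) 0 0) h
    change (((!![1, 1; 0, 1] : Matrix (Fin 2) (Fin 2) F) * !![1, 0; 1, 1] : Matrix (Fin 2) (Fin 2) F)) 0 0
      = (((!![1, 0; 1, 1] : Matrix (Fin 2) (Fin 2) F) * !![1, 1; 0, 1] : Matrix (Fin 2) (Fin 2) F)) 0 0 at h00
    simp [Matrix.mul_apply, Fin.sum_univ_two] at h00
  refine ⟨centralizer ({t} : Set N), hWA, ?_⟩
  rw [eq_top_iff]
  intro n _
  obtain ⟨s, hs⟩ := hp2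
  set a := n * t * n⁻¹ * t⁻¹ with ha
  set b := a ^ (s + 1) with hb
  have haA : a ∈ A := htcen n
  have hbA : b ∈ A := pow_mem haA _
  have hbb : b * b = a := by
    rw [hb, ← pow_add, show s + 1 + (s + 1) = p + 1 by omega, pow_succ, hexp a haA, one_mul]
  have hinv : ∀ x ∈ A, t * x * t⁻¹ = x⁻¹ := by
    intro x hx
    have h : t * x * t⁻¹ * x ∈ W := by
      refine mem_inf.2 ⟨mul_mem (hconj t x hx) hx, mem_centralizer_singleton_iff.2 ?_⟩
      have h2 : t * t * x * (t * t)⁻¹ = x := by rw [hcomm _ ht2 x hx, mul_inv_cancel_right]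
      calc t * x * t⁻¹ * x * t = x * (t * x * t⁻¹) * t := by rw [hcomm _ (hconj t x hx) x hx]
        _ = t * t * x * (t * t)⁻¹ * (t * x * t⁻¹) * t := by rw [h2]
        _ = _ := by group
    rw [hWA, mem_bot] at h
    exact eq_inv_of_mul_eq_one_left h
  have hm : b⁻¹ * n ∈ centralizer ({t} : Set N) := by
    rw [mem_centralizer_singleton_iff]
    have h1 : n * t = a * (t * n) := by rw [ha]; group
    have h3 : t * b⁻¹ = b * t := by
      have h := hinv b⁻¹ (inv_mem hbA)
      rw [inv_inv, mul_inv_eq_iff_eq_mul] at h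
      exact h
    calc b⁻¹ * n * t = b⁻¹ * (n * t) := mul_assoc _ _ _
      _ = b⁻¹ * (b * b) * (t * n) := by rw [h1, hbb]; group
      _ = (b * t) * n := by group
      _ = t * (b⁻¹ * n) := by rw [← h3, mul_assoc]
  have := mul_mem (mem_sup_left hbA : b ∈ A ⊔ centralizer ({t} : Set N)) (mem_sup_right hm)
  rwa [mul_inv_cancel_left] at this

end Cfsg.Agent.S3075
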