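import Cfsg.Statements.S3076
import Cfsg.Agent.Lib.Solv.Basic
import Cfsg.Agent.Lib.Solv.Misc
import Cfsg.Prelude.Def_Local
-- import your own Cfsg.Agent.* helpers here

set_option autoImplicit false
open Cfsg

namespace Cfsg.Agent.S3076
open Cfsg.Agent


/-- Let P be a Sylow p-subgroup of the finite group G and H ≤ P a subgroup with N_P(H) a Sylow p-subgroup of N_G(H). Let N be the preimage in N_G(H) of O_p(N_G(H)/C_G(H)). Then H is a Sylow p-subgroup of N if and only if C_P(H) ≤ H and O_{p',p}(N_G(H)) = H·C_G(H). -/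
theorem result {G : Type*} [Group G] [Finite G] {p : ℕ} [Fact p.Prime]
    (P : Sylow p G) (H : Subgroup G) (hHP : H ≤ (P : Subgroup G))
    (hSyl : ¬ p ∣ ((P : Subgroup G) ⊓ Subgroup.normalizer (H : Set G)).relIndex (Subgroup.normalizer (H : Set G)))
    [hC : ((Subgroup.centralizer (H : Set G)).subgroupOf (Subgroup.normalizer (H : Set G))).Normal] :
    (H ≤ ((Cfsg.pCore p (↥(Subgroup.normalizer (H : Set G)) ⧸
              (Subgroup.centralizer (H : Set G)).subgroupOf (Subgroup.normalizer (H : Set G)))).comap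
            (QuotientGroup.mk' _)).map (Subgroup.normalizer (H : Set G)).subtype ∧
      ¬ p ∣ H.relIndex (((Cfsg.pCore p (↥(Subgroup.normalizer (H : Set G)) ⧸
              (Subgroup.centralizer (H : Set G)).subgroupOf (Subgroup.normalizer (H : Set G)))).comap
            (QuotientGroup.mk' _)).map (Subgroup.normalizer (H : Set G)).subtype)) ↔
    ((P : Subgroup G) ⊓ Subgroup.centralizer (H : Set G) ≤ H ∧
      (Cfsg.pPrimePCore p ↥(Subgroup.normalizer (H : Set G))).map (Subgroup.normalizer (H : Set G)).subtype =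
        H ⊔ Subgroup.centralizer (H : Set G)) := by
  skip
  classical
  have hp : p.Prime := Fact.out
  set N := Subgroup.normalizer (H : Set G) with hN
  have hHN : H ≤ N := Subgroup.le_normalizer
  set C := (Subgroup.centralizer (H : Set G)).subgroupOf N with hCd
  set H' := H.subgroupOf N with hH'
  haveI hH'n : H'.Normal := (Subgroup.normal_subgroupOf_iff_le_normalizer hHN).2 le_rfl
  set O := Cfsg.pPrimeCore p ↥N with hO
  haveI hOn : O.Normal := by rw [hO]; infer_instance
  set f := QuotientGroup.mk' C with hf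
  set K := (Cfsg.pCore p (↥N ⧸ C)).comap f with hKd
  set PPC := Cfsg.pPrimePCore p ↥N with hPPC
  have hH'p : IsPGroup p H' := (P.isPGroup'.to_le hHP).comap_subtype (K := N)
  have hHK : H' ≤ K := Subgroup.map_le_iff_le_comap.1 (by
    haveI : (H'.map f).Normal := hH'n.map f (QuotientGroup.mk'_surjective C)
    exact Cfsg.Agent.Solv.le_pCore (hH'p.map f))
  have hCK : C ≤ K := by
    rw [hKd]
    exact le_trans (le_of_eq (QuotientGroup.ker_mk' C).symm) (Subgroup.ker_le_comap f _)
  have hcent : ∀ c ∈ C, ∀ h ∈ H', h * c = c * h := fun c hc h hh =>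
    Subtype.ext (Subgroup.mem_centralizer_iff.1 hc _ hh)
  have hOC : O ≤ C := by
    have hdis : O ⊓ H' = ⊥ := by
      refine Cfsg.Agent.Solv.inf_eq_bot_of_coprime_card O H' ?_
      obtain ⟨k, hk⟩ := IsPGroup.iff_card.1 hH'p
      rw [hk]
      exact (Cfsg.Agent.Solv.card_pPrimeCore_coprime p ↥N).pow_right k
    intro o ho
    refine Subgroup.mem_centralizer_iff.2 fun h hh => ?_
    let h' : ↥N := ⟨h, hHN hh⟩
    have h1 : o * h' * o⁻¹ * h'⁻¹ ∈ O ⊓ H' := Subgroup.mem_inf.2 ⟨by
        have := mul_mem ho (hOn.conj_mem _ (inv_mem ho) h')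
        simpa [mul_assoc] using this,
      mul_mem (hH'n.conj_mem h' hh o) (inv_mem (show h' ∈ H' from hh))⟩
    rw [hdis, Subgroup.mem_bot, mul_inv_eq_one, mul_inv_eq_iff_eq_mul] at h1
    exact (congrArg Subtype.val h1).symm
  -- consequences of `H ∩ C` having index prime to `p` in `C`
  have hmain : ¬ p ∣ (H' ⊓ C).relIndex C → C ≤ H' ⊔ O ∧ K = PPC := by
    intro hidx
    set Z := (H' ⊓ C).subgroupOf C with hZ
    haveI : Z.Normal := by
      refine ⟨fun z hz c => ?_⟩
      have e : c * z * c⁻¹ = z := by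
        refine Subtype.ext ?_
        show (c : ↥N) * (z : ↥N) * (c : ↥N)⁻¹ = (z : ↥N)
        rw [← hcent c c.2 z (Subgroup.mem_inf.1 hz).1, mul_inv_cancel_right]
      rw [e]; exact hz
    have hZp : IsPGroup p Z := (hH'p.to_le (inf_le_left : H' ⊓ C ≤ H')).comap_subtype (K := C)
    obtain ⟨Q, hQ⟩ := Subgroup.exists_right_complement'_of_coprime (N := Z) (by
      obtain ⟨k, hk⟩ := IsPGroup.iff_card.1 hZp
      rw [hk]
      exact (hp.coprime_iff_not_dvd.2 hidx).pow_left k)
    have hQn : Q.Normal := by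
      refine ⟨fun q hq c => ?_⟩
      have hc : c ∈ Z ⊔ Q := hQ.sup_eq_top ▸ Subgroup.mem_top c
      obtain ⟨z, hz, q', hq', rfl⟩ := Subgroup.mem_sup_of_normal_left.1 hc
      have e : z * q' * q * (z * q')⁻¹ = q' * q * q'⁻¹ := by
        have h1 := mul_mem (mul_mem hq' hq) (inv_mem hq')
        have h2 : z * (q' * q * q'⁻¹) = (q' * q * q'⁻¹) * z := Subtype.ext
          (hcent _ (q' * q * q'⁻¹).2 _ (Subgroup.mem_inf.1 hz).1)
        calc z * q' * q * (z * q')⁻¹ = z * (q' * q * q'⁻¹) * z⁻¹ := by group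
          _ = _ := by rw [h2, mul_inv_cancel_right]
      rw [e]
      exact mul_mem (mul_mem hq' hq) (inv_mem hq')
    have hQc : (Nat.card Q).Coprime p := by
      rw [← hQ.symm.index_eq_card]
      exact Nat.coprime_comm.1 (hp.coprime_iff_not_dvd.2 hidx)
    haveI := hQn
    have hQO : Q ≤ Cfsg.pPrimeCore p ↥C := Cfsg.Agent.Solv.le_pPrimeCore hQc
    have hCO : (Cfsg.pPrimeCore p ↥C).map C.subtype ≤ O := by
      refine Cfsg.Agent.Solv.le_pPrimeCore (N := (Cfsg.pPrimeCore p ↥C).map C.subtype) ?_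
      rw [Subgroup.card_map_of_injective C.subtype_injective]
      exact Cfsg.Agent.Solv.card_pPrimeCore_coprime p ↥C
    have h1 : C ≤ H' ⊔ O := by
      intro c hc
      have hcZ : (⟨c, hc⟩ : C) ∈ Z ⊔ Q := hQ.sup_eq_top ▸ Subgroup.mem_top _
      obtain ⟨z, hz, q, hq, e⟩ := Subgroup.mem_sup_of_normal_left.1 hcZ
      have : c = (z : ↥N) * (q : ↥N) := (congrArg Subtype.val e).symm
      rw [this]
      exact mul_mem (Subgroup.mem_sup_left (Subgroup.mem_inf.1 hz).1) (Subgroup.mem_sup_right (hCO ⟨q, hQO hq, rfl⟩))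
    refine ⟨h1, le_antisymm ?_ ?_⟩
    · set g := QuotientGroup.mk' O with hg
      let π : ↥N ⧸ O →* ↥N ⧸ C := QuotientGroup.map O C (MonoidHom.id _) hOC
      have hπk : IsPGroup p π.ker := by
        refine (hH'p.map g).to_le ?_
        intro x hx
        obtain ⟨n, rfl⟩ := QuotientGroup.mk'_surjective O x
        have hnC : n ∈ C := (QuotientGroup.eq_one_iff n).1 hx
        obtain ⟨a, ha, b, hb, e⟩ := Subgroup.mem_sup_of_normal_left.1 (h1 hnC)
        refine ⟨a, ha, ?_⟩
        rw [← e, map_mul, show g b = 1 from (QuotientGroup.eq_one_iff b).2 hb, mul_one]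
      haveI : ((Cfsg.pCore p (↥N ⧸ C)).comap π).Normal := Subgroup.Normal.comap inferInstance π
      intro x hx
      have h2 : (Cfsg.pCore p (↥N ⧸ C)).comap π ≤ Cfsg.pCore p (↥N ⧸ O) :=
        Cfsg.Agent.Solv.le_pCore ((Cfsg.Agent.Solv.isPGroup_pCore p _).comap_of_ker_isPGroup π hπk)
      exact h2 (show π (g x) ∈ Cfsg.pCore p (↥N ⧸ C) from hx)
    · intro x hx
      have hs : Function.Surjective (QuotientGroup.map O C (MonoidHom.id ↥N) hOC) := fun y => by
        obtain ⟨n, rfl⟩ := QuotientGroup.mk'_surjective C y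
        exact ⟨QuotientGroup.mk' O n, rfl⟩
      exact Cfsg.Agent.Solv.map_pCore_le_of_surjective p _ hs ⟨_, hx, rfl⟩
  have hCN : Subgroup.centralizer (H : Set G) ≤ N := Subgroup.centralizer_le_normalizer _
  have hmapC : (H' ⊔ C).map N.subtype = H ⊔ Subgroup.centralizer (H : Set G) := by
    rw [Subgroup.map_sup, Subgroup.map_subgroupOf_eq_of_le hHN, Subgroup.map_subgroupOf_eq_of_le hCN]
  have hidxeq : H'.relIndex (H' ⊔ C) = (H' ⊓ C).relIndex C := by
    rw [sup_comm, Subgroup.relIndex_sup_right, Subgroup.inf_relIndex_right]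
  have hrel : H.relIndex (K.map N.subtype) = H'.relIndex K := by
    conv_lhs => rw [← Subgroup.map_subgroupOf_eq_of_le hHN]
    exact Subgroup.relIndex_map_map_of_injective _ _ N.subtype_injective
  constructor
  · rintro ⟨-, hidx⟩
    rw [hrel] at hidx
    have hmulK := Subgroup.relIndex_mul_relIndex H' (H' ⊔ C) K le_sup_left (sup_le hHK hCK)
    have hidxC : ¬ p ∣ (H' ⊓ C).relIndex C := fun h => hidx (hmulK ▸ (hidxeq ▸ h).trans (dvd_mul_right _ _))
    obtain ⟨-, hKP⟩ := hmain hidxC
    have hK : K = H' ⊔ C := by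
      refine le_antisymm (Subgroup.relIndex_eq_one.1 ?_) (sup_le hHK hCK)
      have hd : (H' ⊔ C).relIndex K ∣ C.relIndex K :=
        Subgroup.relIndex_dvd_of_le_left K le_sup_right
      have hCKp : ∃ k, C.relIndex K = p ^ k := by
        obtain ⟨k, hk⟩ := IsPGroup.iff_card.1 (Cfsg.Agent.Solv.isPGroup_pCore p (↥N ⧸ C))
        refine ⟨k, ?_⟩
        rw [← hk, Subgroup.relIndex]
        let φ : ↥K →* ↥(Cfsg.pCore p (↥N ⧸ C)) := (f.comp K.subtype).codRestrict _ fun x => x.2
        have hφs : Function.Surjective φ := by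
          rintro ⟨y, hy⟩
          obtain ⟨x, rfl⟩ := QuotientGroup.mk'_surjective C y
          exact ⟨⟨x, hy⟩, rfl⟩
        have hφk : φ.ker = C.subgroupOf K := by
          ext x
          rw [MonoidHom.mem_ker, Subgroup.mem_subgroupOf, ← QuotientGroup.eq_one_iff]
          exact ⟨fun h => congrArg Subtype.val h, fun h => Subtype.ext h⟩
        rw [← hφk, Subgroup.index_ker, MonoidHom.range_eq_top.2 hφs, Subgroup.card_top]
      obtain ⟨k, hk⟩ := hCKp
      have h2 : (H' ⊔ C).relIndex K ∣ H'.relIndex K := hmulK ▸ dvd_mul_left _ _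
      exact Nat.eq_one_of_dvd_coprimes ((Nat.coprime_comm.1 (hp.coprime_iff_not_dvd.2 hidx)).pow_right k)
        h2 (hk ▸ hd)
    refine ⟨?_, ?_⟩
    · intro x hx
      obtain ⟨hxP, hxC⟩ := Subgroup.mem_inf.1 hx
      let x' : ↥N := ⟨x, hCN hxC⟩
      have hxK : x' ∈ K := hCK hxC
      set U := H' ⊔ ((P : Subgroup G).subgroupOf N ⊓ K) with hU
      have hle : U ≤ (P : Subgroup G).subgroupOf N := sup_le (fun u hu => hHP hu) inf_le_left
      have hUp : IsPGroup p U := (P.isPGroup'.comap_subtype (K := N)).to_le hle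
      have h1 : H'.relIndex U = 1 := by
        obtain ⟨k, hk⟩ := IsPGroup.iff_card.1 hUp
        refine Nat.eq_one_of_dvd_coprimes ((Nat.coprime_comm.1 (hp.coprime_iff_not_dvd.2 hidx)).pow_right k) ?_
          (hk ▸ Subgroup.relIndex_dvd_card H' U)
        rw [← Subgroup.relIndex_mul_relIndex H' U K le_sup_left (sup_le hHK inf_le_right)]
        exact dvd_mul_right _ _
      exact Subgroup.relIndex_eq_one.1 h1 (Subgroup.mem_sup_right (Subgroup.mem_inf.2 ⟨hxP, hxK⟩) : x' ∈ U)
    · rw [← hKP, hK, hmapC]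
  · rintro ⟨hPC, hPP⟩
    have hidxC : ¬ p ∣ (H' ⊓ C).relIndex C := by
      rw [Subgroup.inf_relIndex_right, Subgroup.relIndex]
      rw [Subgroup.inf_relIndex_right, Subgroup.relIndex] at hSyl
      let S : Sylow p ↥N := (P.isPGroup'.comap_subtype (K := N)).toSylow hSyl
      haveI : C.Normal := hC
      have h1 := Cfsg.Agent.Solv.index_sylow_inf_subnormal C (Subgroup.Normal.isSubnormal inferInstance) S
      intro h
      refine h1 (h.trans (Subgroup.index_dvd_of_le ?_))
      intro c hc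
      exact hPC (Subgroup.mem_inf.2 ⟨hc, c.2⟩)
    obtain ⟨-, hKP⟩ := hmain hidxC
    have hK : K = H' ⊔ C := by
      refine Subgroup.map_injective N.subtype_injective ?_
      rw [hmapC, hKP]; exact hPP
    refine ⟨?_, ?_⟩
    · rw [hK, hmapC]; exact le_sup_left
    · rw [hrel, hK, hidxeq]; exact hidxC

end Cfsg.Agent.S3076
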