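import Cfsg.Statements.S3078
import Cfsg.Agent.Lib.Solv.Replacement
import Cfsg.Agent.Lib.Solv.ZJCenter
import Cfsg.Agent.Lib.Local.AmalgamBasics
-- import your own Cfsg.Agent.* helpers here

set_option autoImplicit false
open Cfsg

namespace Cfsg.Agent.S3078
open Cfsg.Agent

theorem omega_pow {G : Type*} [Group G] {p : ℕ} (A : Subgroup G) (hA : IsMulCommutative A) {x : G}
    (hx : x ∈ Cfsg.omegaOne p A) : x ∈ A ∧ x ^ p = 1 := by
  induction hx using Subgroup.closure_induction with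
  | mem y hy => exact hy
  | one => exact ⟨one_mem _, one_pow _⟩
  | mul y z _ _ hy hz =>
    have hc : Commute y z := congrArg Subtype.val (hA.is_comm.comm (⟨y, hy.1⟩ : A) ⟨z, hz.1⟩)
    exact ⟨mul_mem hy.1 hz.1, by rw [hc.mul_pow, hy.2, hz.2, one_mul]⟩
  | inv y _ hy => exact ⟨inv_mem hy.1, by rw [inv_pow, hy.2, inv_one]⟩

theorem omega_le {G : Type*} [Group G] [Finite G] {p : ℕ} [Fact p.Prime] (hp : p ≠ 2) (A : Subgroup G)
    (hA : IsMulCommutative A) (b : G) (hbN : b ∈ Subgroup.normalizer ((Subgroup.normalizer (A : Set G)) : Set G))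
    (hSab : IsMulCommutative ↥(Cfsg.Agent.Solv.Repl.star A b)) :
    Nat.card ↥(Cfsg.omegaOne p A) ≤ Nat.card ↥(Cfsg.omegaOne p (Cfsg.Agent.Solv.Repl.star A b)) := by
  classical
  set N := Subgroup.normalizer (A : Set G) with hN
  set Ab := A.map (MulAut.conj b⁻¹).toMonoidHom with hAb
  have hcA : ∀ z ∈ A, ∀ a ∈ A, z * a = a * z := fun z hz a ha =>
    congrArg Subtype.val (hA.is_comm.comm (⟨z, hz⟩ : A) ⟨a, ha⟩)
  have memAb : ∀ x : G, x ∈ Ab ↔ b * x * b⁻¹ ∈ A := fun x => by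
    constructor
    · rintro ⟨y, hy, rfl⟩
      simpa [mul_assoc] using hy
    · intro h
      exact ⟨_, h, by simp [mul_assoc]⟩
  have hbN'' : ∀ x ∈ N, b⁻¹ * x * b ∈ N := fun x hx => (Subgroup.mem_normalizer_iff''.1 hbN x).1 hx
  let M : Subgroup G := Cfsg.omegaOne p A
  have hM : ∀ x : M, (x : G) ∈ A ∧ (x : G) ^ p = 1 := fun x => omega_pow A hA x.2
  -- classes modulo the part moved into `A`
  let A0 : Subgroup G := A.comap (MulAut.conj b⁻¹).toMonoidHom
  let q : M → M ⧸ A0.subgroupOf M := fun x => (x : M ⧸ A0.subgroupOf M)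
  let κ : G → G := fun a => b⁻¹ * a * b * a⁻¹
  let F : M → G := fun x => (b⁻¹ * ((x : G) * ((q x).out : G)⁻¹) * b) * κ ((q x).out : G)
  have hA1 : ∀ x : M, b⁻¹ * ((x : G) * ((q x).out : G)⁻¹) * b ∈ A ⊓ Ab := fun x => by
    have h1 : ((q x).out)⁻¹ * x ∈ A0.subgroupOf M :=
      QuotientGroup.eq.1 (QuotientGroup.out_eq' (q x))
    have h2 : (MulAut.conj b⁻¹) (((q x).out : G)⁻¹ * (x : G)) ∈ A := h1
    rw [MulAut.conj_apply, inv_inv, hcA _ (inv_mem (hM _).1) _ (hM x).1] at h2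
    exact ⟨h2, (memAb _).2 (by
      simpa [mul_assoc] using mul_mem (hM x).1 (inv_mem (hM (q x).out).1))⟩
  have hκ : ∀ r : M, κ r ∈ Cfsg.Agent.Solv.Repl.star A b := fun r => by
    rw [Cfsg.Agent.Solv.Repl.star, Cfsg.Agent.Solv.Repl.closure_eq_comAt]
    exact Subgroup.mem_sup_right (Subgroup.subset_closure ⟨_, (hM r).1, rfl⟩)
  have hκp : ∀ r : M, κ r ^ p = 1 := fun r => by
    obtain ⟨hr, hrp⟩ := hM r
    set a := (r : G)
    set y := b⁻¹ * a * b with hy
    have hyA : y ∈ Ab := (memAb y).2 (by simpa [hy, mul_assoc] using hr)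
    have hyN : y ∈ N := hbN'' a (Subgroup.le_normalizer hr)
    set c := a⁻¹ * y * a * y⁻¹ with hc
    have hcA' : c ∈ A := by
      have h1 := (Subgroup.mem_normalizer_iff.1 hyN a).1 hr
      have h2 := mul_mem (inv_mem hr) h1
      simpa [hc, mul_assoc] using h2
    have hconj : a⁻¹ * y * a ∈ Ab := by
      rw [memAb]
      have hn : b * a⁻¹ * b⁻¹ ∈ N := (Subgroup.mem_normalizer_iff.1 hbN _).1 (inv_mem (Subgroup.le_normalizer hr))
      have h1 : b * y * b⁻¹ ∈ A := (memAb y).1 hyA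
      have h2 := (Subgroup.mem_normalizer_iff.1 hn _).1 h1
      simpa [mul_assoc] using h2
    have hcAb : c ∈ Ab := mul_mem hconj (inv_mem hyA)
    have habc : ∀ u ∈ Ab, ∀ v ∈ Ab, u * v = v * u := by
      rintro _ ⟨u, hu, rfl⟩ _ ⟨v, hv, rfl⟩
      rw [← map_mul, hcA u hu v hv, map_mul]
    have hyp : y ^ p = 1 := by
      have : y = (MulAut.conj b⁻¹).toMonoidHom a := by simp [hy]
      rw [this, ← map_pow, hrp, map_one]
    have hcp : c ^ p = 1 := by
      rw [hc, (show Commute (a⁻¹ * y * a) y⁻¹ from habc _ hconj _ (inv_mem hyA)).mul_pow, inv_pow, hyp, inv_one, mul_one]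
      have : a⁻¹ * y * a = (MulAut.conj a⁻¹).toMonoidHom y := by simp
      rw [this, ← map_pow, hyp, map_one]
    show (y * a⁻¹) ^ p = 1
    rw [Cfsg.Agent.Solv.ZJ.mul_pow_prime hp (c := c) (by rw [hc]; group) (habc _ hcAb _ hyA)
      (hcA _ hcA' _ (inv_mem hr)) hcp, hyp, inv_pow, hrp, inv_one, one_mul]
  have hF : ∀ x : M, F x ∈ Cfsg.omegaOne p (Cfsg.Agent.Solv.Repl.star A b) := fun x => by
    refine mul_mem (Subgroup.subset_closure ⟨?_, ?_⟩) (Subgroup.subset_closure ⟨hκ _, hκp _⟩)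
    · rw [Cfsg.Agent.Solv.Repl.star]; exact Subgroup.mem_sup_left (hA1 x)
    · have : b⁻¹ * ((x : G) * ((q x).out : G)⁻¹) * b = (MulAut.conj b⁻¹).toMonoidHom ((x : G) * ((q x).out : G)⁻¹) := by simp
      rw [this, ← map_pow, (show Commute (x : G) ((q x).out : G)⁻¹ from hcA _ (hM x).1 _ (inv_mem (hM _).1)).mul_pow,
        inv_pow, (hM x).2, (hM _).2, inv_one, one_mul, map_one]
  refine Nat.card_le_card_of_injective (fun x : M => (⟨F x, hF x⟩ : ↥(Cfsg.omegaOne p (Cfsg.Agent.Solv.Repl.star A b)))) ?_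
  intro x x' h
  have e : F x = F x' := congrArg Subtype.val h
  set r := (q x).out with hr
  set r' := (q x').out with hr'
  have e1 : κ r * (κ r')⁻¹ ∈ A := by
    have h1 : κ r * (κ r')⁻¹ = (b⁻¹ * ((x : G) * (r : G)⁻¹) * b)⁻¹ * (b⁻¹ * ((x' : G) * (r' : G)⁻¹) * b) := by
      have e' : (b⁻¹ * ((x : G) * (r : G)⁻¹) * b) * κ r = (b⁻¹ * ((x' : G) * (r' : G)⁻¹) * b) * κ r' := e
      calc κ r * (κ r')⁻¹ = (b⁻¹ * ((x : G) * (r : G)⁻¹) * b)⁻¹ * ((b⁻¹ * ((x : G) * (r : G)⁻¹) * b) * κ r) * (κ r')⁻¹ := by group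
        _ = (b⁻¹ * ((x : G) * (r : G)⁻¹) * b)⁻¹ * ((b⁻¹ * ((x' : G) * (r' : G)⁻¹) * b) * κ r') * (κ r')⁻¹ := by rw [e']
        _ = _ := by group
    rw [h1]
    exact mul_mem (inv_mem (hA1 x).1) (hA1 x').1
  have e2 : b⁻¹ * ((r : G) * (r' : G)⁻¹) * b ∈ A := by
    have hy'N : b⁻¹ * (r' : G) * b ∈ N := hbN'' _ (Subgroup.le_normalizer (hM r').1)
    have h1 : (b⁻¹ * (r' : G) * b) * ((r : G)⁻¹ * r')⁻¹ * (b⁻¹ * (r' : G) * b)⁻¹ ∈ A :=
      (Subgroup.mem_normalizer_iff.1 hy'N _).1 (inv_mem (mul_mem (inv_mem (hM r).1) (hM r').1))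
    have h2 : b⁻¹ * ((r : G) * (r' : G)⁻¹) * b =
        (κ r * (κ r')⁻¹) * ((b⁻¹ * (r' : G) * b) * ((r : G)⁻¹ * r')⁻¹ * (b⁻¹ * (r' : G) * b)⁻¹) := by
      simp only [κ]; group
    rw [h2]; exact mul_mem e1 h1
  have e3 : q x = q x' := by
    rw [← QuotientGroup.out_eq' (q x), ← QuotientGroup.out_eq' (q x'), ← hr, ← hr', QuotientGroup.eq]
    show (MulAut.conj b⁻¹) ((r : G)⁻¹ * r') ∈ A
    rw [MulAut.conj_apply, inv_inv]
    have h1 := inv_mem e2
    rw [hcA _ (inv_mem (hM r).1) _ (hM r').1]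
    simpa [mul_assoc] using h1
  have e' : (b⁻¹ * ((x : G) * (r : G)⁻¹) * b) * κ r = (b⁻¹ * ((x' : G) * (r' : G)⁻¹) * b) * κ r' := e
  rw [show r' = r from congrArg Quotient.out e3.symm] at e'
  have e4 := mul_right_cancel e'
  exact Subtype.ext (mul_right_cancel (mul_left_cancel (mul_right_cancel e4)))

theorem main {G : Type*} [Group G] [Finite G] {p : ℕ} [Fact p.Prime] (hp : p ≠ 2) (hG : IsPGroup p G) (A B : Subgroup G)
    [B.Normal] (hA : IsMulCommutative A) (hBA : ⁅B, B⁆ ≤ A) (hnot : ¬ B ≤ Subgroup.normalizer (A : Set G)) (htop : A ⊔ B = ⊤) :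
    ∃ S : Subgroup G, IsMulCommutative S ∧ Nat.card S = Nat.card A ∧ A ⊓ B < S ⊓ B ∧
      S ≤ Subgroup.normalizer (A : Set G) ∧ S ≤ Subgroup.normalClosure (A : Set G) ∧
      Monoid.exponent S ∣ Monoid.exponent A ∧ Nat.card (Cfsg.omegaOne p A) ≤ Nat.card (Cfsg.omegaOne p S) := by
  classical
  haveI := hG.isNilpotent
  have hlt : Subgroup.normalizer (A : Set G) < ⊤ := lt_top_iff_ne_top.2 fun e => hnot (e ▸ le_top)
  obtain ⟨g, hg1, hg2⟩ := SetLike.exists_of_lt ((Group.normalizerCondition_of_isNilpotent (G := G)) _ hlt)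
  obtain ⟨a, ha, b, hb, rfl⟩ := Subgroup.mem_sup_of_normal_right.1 (show g ∈ A ⊔ B by rw [htop]; trivial)
  have haN : a ∈ Subgroup.normalizer ((Subgroup.normalizer (A : Set G)) : Set G) :=
    Subgroup.le_normalizer (Subgroup.le_normalizer ha)
  have hbN : b ∈ Subgroup.normalizer ((Subgroup.normalizer (A : Set G)) : Set G) := by
    simpa using mul_mem (inv_mem haN) hg1
  have hbA : b ∉ Subgroup.normalizer (A : Set G) := fun h => hg2 (mul_mem (Subgroup.le_normalizer ha) h)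
  obtain ⟨s1, s2, -, s4, -, -, s7, -, -, s10⟩ :=
    Cfsg.Agent.Solv.Repl.star_spec hG B (fun h => absurd h hp) A hA hBA b hb hbN hbA
  refine ⟨_, s2, s1, s4, s7, ?_, s10 hp, omega_le hp A hA b hbN s2⟩
  rw [Cfsg.Agent.Solv.Repl.star]
  refine sup_le (inf_le_left.trans Subgroup.le_normalClosure) ((Subgroup.closure_le _).2 ?_)
  rintro _ ⟨a', ha', rfl⟩
  have h1 : b⁻¹ * a'⁻¹ * b ∈ Subgroup.normalClosure (A : Set G) := by
    simpa using (Subgroup.normalClosure_normal (s := (A : Set G))).conj_mem _ (Subgroup.subset_normalClosure (inv_mem ha')) b⁻¹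
  simpa [mul_assoc] using mul_mem (Subgroup.subset_normalClosure ha') h1


/-- A replacement Theorem for abelian subgroups of p-groups, p odd. Let G be a finite p-group with p odd, A an abelian subgroup of G, and B a subgroup of nilpotency class at most 2 with [B, B] ≤ A, such that A normalizes B but B does not normalize A. Then there is an abelian subgroup A* of G of the same order as A with A ∩ B strictly contained in A* ∩ B, A* contained in N_G(A) and in the normal closure of A, the exponent of A* dividing the exponent of A, and with the subgroup generated by the elements of order dividing p in A of order at most that of the corresponding subgroup of A* (the rank of A is at most the rank of A*). -/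
theorem result {G : Type*} [Group G] [Finite G] {p : ℕ} [Fact p.Prime] (hp : p ≠ 2) (hG : IsPGroup p G) (A B : Subgroup G) (hA : IsMulCommutative A) (hB2 : ⁅⁅B, B⁆, B⁆ = ⊥) (hBA : ⁅B, B⁆ ≤ A) (hAB : A ≤ Subgroup.normalizer (B : Set G)) (hBnA : ¬ B ≤ Subgroup.normalizer (A : Set G)) : ∃ Astar : Subgroup G, IsMulCommutative Astar ∧ Nat.card Astar = Nat.card A ∧ A ⊓ B < Astar ⊓ B ∧ Astar ≤ Subgroup.normalizer (A : Set G) ∧ Astar ≤ Subgroup.normalClosure (A : Set G) ∧ Monoid.exponent Astar ∣ Monoid.exponent A ∧ Nat.card (Cfsg.omegaOne p A) ≤ Nat.card (Cfsg.omegaOne p Astar) := by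
  skip
  classical
  set H := A ⊔ B with hH
  have hAH : A ≤ H := le_sup_left
  have hBH : B ≤ H := le_sup_right
  haveI : (B.subgroupOf H).Normal := (Subgroup.normal_subgroupOf_iff_le_normalizer hBH).2
    (sup_le hAB Subgroup.le_normalizer)
  have hA' : IsMulCommutative ↥(A.subgroupOf H) := ⟨⟨fun x y => Subtype.ext (Subtype.ext (by
    have h := congrArg Subtype.val (hA.is_comm.comm (⟨_, x.2⟩ : A) ⟨_, y.2⟩)
    exact h))⟩⟩
  have hBA' : ⁅B.subgroupOf H, B.subgroupOf H⁆ ≤ A.subgroupOf H := by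
    rw [Subgroup.commutator_le]
    intro x hx y hy
    exact hBA (Subgroup.commutator_mem_commutator (Subgroup.mem_subgroupOf.1 hx) (Subgroup.mem_subgroupOf.1 hy))
  have hnot : ¬ B.subgroupOf H ≤ Subgroup.normalizer ((A.subgroupOf H : Subgroup H) : Set H) := fun hle => hBnA fun x hx => by
    have h := Subgroup.le_normalizer_map H.subtype ⟨⟨x, hBH hx⟩, hle (Subgroup.mem_subgroupOf.2 hx), rfl⟩
    rwa [Subgroup.map_subgroupOf_eq_of_le hAH] at h
  have htop : A.subgroupOf H ⊔ B.subgroupOf H = ⊤ := by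
    rw [← Subgroup.subgroupOf_sup hAH hBH, Subgroup.subgroupOf_self]
  obtain ⟨S, hS1, hS2, hS3, hS4, hS5, hS6, hS7⟩ := main hp (hG.to_subgroup H) (A.subgroupOf H) (B.subgroupOf H) hA' hBA' hnot htop
  refine ⟨S.map H.subtype, Subgroup.map_isMulCommutative _ _, ?_, ?_, ?_, ?_, ?_, ?_⟩
  · rw [Subgroup.card_map_of_injective H.subtype_injective, hS2, Cfsg.Agent.Solv.card_subgroupOf hAH]
  · have h := Subgroup.map_lt_map_iff_of_injective (f := H.subtype) H.subtype_injective |>.2 hS3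
    rwa [Subgroup.map_inf _ _ _ H.subtype_injective, Subgroup.map_inf _ _ _ H.subtype_injective,
      Subgroup.map_subgroupOf_eq_of_le hAH, Subgroup.map_subgroupOf_eq_of_le hBH] at h
  · have h := (Subgroup.map_mono (f := H.subtype) hS4).trans (Subgroup.le_normalizer_map H.subtype)
    rwa [Subgroup.map_subgroupOf_eq_of_le hAH] at h
  · rw [Subgroup.map_le_iff_le_comap]
    refine hS5.trans ?_
    haveI : ((Subgroup.normalClosure (A : Set G)).comap H.subtype).Normal := Subgroup.Normal.comap inferInstance _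
    exact Subgroup.normalClosure_le_normal fun x hx => Subgroup.subset_normalClosure (Subgroup.mem_subgroupOf.1 hx)
  · rw [← Monoid.exponent_eq_of_mulEquiv (S.equivMapOfInjective H.subtype H.subtype_injective)]
    refine hS6.trans ?_
    rw [Monoid.exponent_eq_of_mulEquiv (Subgroup.subgroupOfEquivOfLe hAH)]
  · rw [← Cfsg.Agent.Local.Amalgam.omegaOne_map _ H.subtype_injective, Subgroup.card_map_of_injective H.subtype_injective]
    refine le_trans (le_of_eq ?_) hS7
    rw [← Subgroup.card_map_of_injective H.subtype_injective, Cfsg.Agent.Local.Amalgam.omegaOne_map _ H.subtype_injective,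
      Subgroup.map_subgroupOf_eq_of_le hAH]

end Cfsg.Agent.S3078
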