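import Cfsg.Statements.S3079
import Cfsg.Agent.Lib.Fusion.ZJStrong
import Cfsg.Agent.Lib.Local.AmalgamBasics

set_option autoImplicit false
open Cfsg

namespace Cfsg.Agent.S3079

/-- Glauberman's ZJ-Theorem for strongly closed subgroups, p odd. Let G be a finite group that is p-stable in the normalizer form (for every p-subgroup U and g ∈ N_G(U) with [U, g, g] = 1, the image of g lies in O_p(N_G(U)/C_G(U))), with C_G(O_p(G)) ≤ O_p(G), let P be a Sylow p-subgroup and D a subgroup of P strongly closed in P with respect to G. Then Z(J(D)) is normal in G, where J(D) is generated by the abelian subgroups of D of largest order; and so is Ω₁(Z(J_e(D))), where J_e(D) is generated by the elementary abelian subgroups of D of largest order. -/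
theorem result {G : Type*} [Group G] [Finite G] {p : ℕ} [Fact p.Prime] (hp : p ≠ 2) (P : Sylow p G) (D : Subgroup G) (hD : Cfsg.IsStronglyClosed D (P : Subgroup G)) (hst : Cfsg.IsNormalizerPStable p G) (hc : Subgroup.centralizer ((Cfsg.pCore p G : Subgroup G) : Set G) ≤ Cfsg.pCore p G) : (Cfsg.centerThompsonAOf D).Normal ∧ (Cfsg.omegaOne p (Cfsg.centerThompsonOf p D)).Normal := by
  have hstab : Agent.Solv.ZJ.Stab p G := by
    refine Agent.Solv.ZJ.stab_of_isPStableOn fun B hB hBp a ha => ?_
    have hN : Subgroup.normalizer (B : Set G) = ⊤ := Subgroup.normalizer_eq_top B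
    have h := hst B hBp a (hN.ge (Subgroup.mem_top a)) ha
    let N := Subgroup.normalizer (B : Set G)
    let C := (Subgroup.centralizer (B : Set G)).subgroupOf N
    let f : (N ⧸ C) →* G ⧸ Subgroup.centralizer (B : Set G) :=
      QuotientGroup.map C _ N.subtype (fun x hx => hx)
    have hf : Function.Surjective f := by
      intro y
      obtain ⟨g, rfl⟩ := QuotientGroup.mk_surjective y
      exact ⟨QuotientGroup.mk ⟨g, hN.ge (Subgroup.mem_top g)⟩, rfl⟩
    exact Agent.Solv.map_pCore_le_of_surjective p f hf ⟨_, h, rfl⟩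
  refine ⟨?_, ?_⟩
  · rw [← Agent.Solv.ZJ.zj_zero]
    exact Agent.Solv.ZJ.zj_normal_of_closed hp hstab hc P hD
  · have h : omegaOne p (centerThompsonOf p D) = Agent.Solv.ZJ.zj p D := by
      rw [Agent.Solv.ZJ.zj_prime, omegaCenterThompson, Agent.Local.Amalgam.omegaOne_map _ D.subtype_injective]
      congr 1
      ext x
      constructor
      · rintro ⟨⟨y, hy, rfl⟩, hx⟩
        refine ⟨y, ⟨hy, ?_⟩, rfl⟩
        intro z hz
        exact Subtype.ext (hx (z : G) ⟨z, hz, rfl⟩)
      · rintro ⟨y, ⟨hy, hc⟩, rfl⟩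
        refine ⟨⟨y, hy, rfl⟩, ?_⟩
        rintro _ ⟨z, hz, rfl⟩
        exact congrArg Subtype.val (hc z hz)
    rw [h]
    exact Agent.Solv.ZJ.zj_normal_of_closed hp hstab hc P hD

end Cfsg.Agent.S3079
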