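import Cfsg.Statements.S3085
import Cfsg.Prelude
import Cfsg.Agent.Lib.Struct.RankBound
import Cfsg.Agent.Lib.Perm.GeneratingTuples
-- import your own Cfsg.Agent.* helpers here

set_option autoImplicit false
open Cfsg

namespace Cfsg.Agent.S3085
open Subgroup
open scoped commutatorElement

namespace Model

/-- the cocycle: `b`-part of `x` against `a`-part of `y` -/
def dot (x y : ℕ) : Bool :=
  Bool.xor (Bool.xor (x.testBit 3 && y.testBit 0) (x.testBit 4 && y.testBit 1)) (x.testBit 5 && y.testBit 2)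

def e64 (d : Bool) : ℕ := if d then 64 else 0
def mulm (x y : ℕ) : ℕ := x ^^^ y ^^^ e64 (dot x y)
def bl (x y : ℕ) : Bool := Bool.xor (dot x y) (dot y x)
def rv (v x : ℕ) : ℕ := if bl x v then mulm x v else x
def Wg (x : ℕ) : ℕ := rv 15 (rv 30 (rv 46 x))
def Wh (x : ℕ) : ℕ := rv 15 (rv 63 x)
def F (W : ℕ → ℕ) (p x : ℕ) : ℕ := W x ^^^ e64 (bl p (W x))
def gens : List ℕ := [1, 2, 4, 8, 16, 32]
def Val (W : ℕ → ℕ) (p : ℕ) : Bool := gens.all fun x => F W p (F W p x) == x
def Com (p q : ℕ) : Bool := gens.all fun x => F Wg p (F Wh q x) == F Wh q (F Wg p x)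

theorem no_sol : ∀ p < 64, Val Wg p = true → ∀ q < 64, Val Wh q = true → Com p q = false := by decide +kernel
theorem wg_sq : ∀ x < 128, Wg (Wg x) % 64 = x % 64 := by decide +kernel
theorem wh_sq : ∀ x < 128, Wh (Wh x) % 64 = x % 64 := by decide +kernel
theorem wgh : ∀ x < 128, Wg (Wh (Wg (Wh x))) % 64 = x % 64 := by decide +kernel
theorem wg_lt : ∀ x < 128, Wg x < 128 ∧ Wg (x ^^^ 64) = Wg x ^^^ 64 := by decide +kernel
theorem wh_lt : ∀ x < 128, Wh x < 128 ∧ Wh (x ^^^ 64) = Wh x ^^^ 64 := by decide +kernel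
theorem mulm_lt : ∀ x < 128, ∀ y < 128, mulm x y < 128 := by decide +kernel
theorem bl_mod : ∀ p < 128, ∀ x < 128, bl (p % 64) x = bl p x := by decide +kernel
def sig (p : ℕ) : List Bool := [bl p 1, bl p 2, bl p 4, bl p 8, bl p 16, bl p 32]
theorem solve_aux : ∀ d0 d1 d2 d3 d4 d5 : Bool, ∃ p < 128, sig p = [d0, d1, d2, d3, d4, d5] := by decide +kernel
theorem solve_p (d0 d1 d2 d3 d4 d5 : Bool) : ∃ p < 128, bl p 1 = d0 ∧ bl p 2 = d1 ∧ bl p 4 = d2 ∧
    bl p 8 = d3 ∧ bl p 16 = d4 ∧ bl p 32 = d5 := by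
  obtain ⟨p, hp, e⟩ := solve_aux d0 d1 d2 d3 d4 d5
  simp only [sig, List.cons.injEq, and_true] at e
  exact ⟨p, hp, e⟩
theorem sep_aux : ∀ x < 128, sig x = List.replicate 6 false → x = 0 ∨ x = 64 := by decide +kernel
theorem sep (x : ℕ) (hx : x < 128) (h1 : bl x 1 = false) (h2 : bl x 2 = false) (h3 : bl x 4 = false)
    (h4 : bl x 8 = false) (h5 : bl x 16 = false) (h6 : bl x 32 = false) : x = 0 ∨ x = 64 :=
  sep_aux x hx (by simp [sig, h1, h2, h3, h4, h5, h6, List.replicate])

theorem testBit_e64 (d : Bool) (k : ℕ) : (e64 d).testBit k = (d && decide (6 = k)) := by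
  cases d
  · simp [e64]
  · show (2 ^ 6).testBit k = _
    rw [Nat.testBit_two_pow]
    simp

variable {Q : Type*} [Group Q]

def Tw (z u w : Q) (d : Bool) : Prop := u * w = w * u * z ^ d.toNat

/-- a frame for an extraspecial subgroup of order `2 ^ 7` -/
structure Frame (z : Q) (a b : Fin 3 → Q) : Prop where
  zc : ∀ g : Q, g * z = z * g
  zsq : z * z = 1
  zne : z ≠ 1
  asq : ∀ i, a i * a i = 1
  bsq : ∀ i, b i * b i = 1
  aa : ∀ i j, a i * a j = a j * a i
  bb : ∀ i j, b i * b j = b j * b i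
  ba : ∀ i j, Tw z (b i) (a j) (decide (i = j))

def iota (z : Q) (a b : Fin 3 → Q) (x : ℕ) : Q :=
  ((a 0 ^ (x.testBit 0).toNat * a 1 ^ (x.testBit 1).toNat * a 2 ^ (x.testBit 2).toNat) *
    (b 0 ^ (x.testBit 3).toNat * b 1 ^ (x.testBit 4).toNat * b 2 ^ (x.testBit 5).toNat)) *
    z ^ (x.testBit 6).toNat

variable {z : Q} {a b : Fin 3 → Q}

theorem pw {g : Q} (hg : g * g = 1) (i j : Bool) : g ^ (Bool.xor i j).toNat = g ^ i.toNat * g ^ j.toNat := by
  cases i <;> cases j <;> simp [hg]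

theorem zpow_comm (hz : ∀ g : Q, g * z = z * g) (g : Q) (n : ℕ) : g * z ^ n = z ^ n * g :=
  ((show Commute g z from hz g).pow_right n).eq

theorem tw_right (hz : ∀ g : Q, g * z = z * g) (h2 : z * z = 1) {u w w' : Q} {d d' : Bool}
    (h : Tw z u w d) (h' : Tw z u w' d') : Tw z u (w * w') (Bool.xor d d') := by
  unfold Tw at *
  rw [pw h2, ← mul_assoc u, h, mul_assoc (w * u) (z ^ d.toNat) w', ← zpow_comm hz w', ← mul_assoc,
    mul_assoc w u w', h']
  simp only [mul_assoc]
  rw [zpow_comm hz (z ^ d'.toNat) d.toNat]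

theorem tw_left (hz : ∀ g : Q, g * z = z * g) (h2 : z * z = 1) {u u' w : Q} {d d' : Bool}
    (h : Tw z u w d) (h' : Tw z u' w d') : Tw z (u * u') w (Bool.xor d d') := by
  unfold Tw at *
  rw [pw h2, mul_assoc u u' w, h', ← mul_assoc, ← mul_assoc, h, mul_assoc (w * u) (z ^ d.toNat) u',
    ← zpow_comm hz u']
  simp only [mul_assoc]

theorem tw_pow {u w : Q} {d : Bool} (h : Tw z u w d) (i j : Bool) :
    Tw z (u ^ i.toNat) (w ^ j.toNat) (i && j && d) := by
  unfold Tw at *
  cases i <;> cases j <;> simp [h]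

theorem iota_mul (h : Frame z a b) (x y : ℕ) :
    iota z a b (mulm x y) = iota z a b x * iota z a b y := by
  have hbit : ∀ k, (mulm x y).testBit k =
      Bool.xor (Bool.xor (x.testBit k) (y.testBit k)) (dot x y && decide (6 = k)) := fun k => by
    simp [mulm, Nat.testBit_xor, testBit_e64]
  have haa : ∀ (i j : Fin 3) (m n : ℕ), Commute (a i ^ m) (a j ^ n) := fun i j m n =>
    (show Commute (a i) (a j) from h.aa i j).pow_pow m n
  have hbb : ∀ (i j : Fin 3) (m n : ℕ), Commute (b i ^ m) (b j ^ n) := fun i j m n =>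
    (show Commute (b i) (b j) from h.bb i j).pow_pow m n
  set A : ℕ → Q := fun w => a 0 ^ (w.testBit 0).toNat * a 1 ^ (w.testBit 1).toNat * a 2 ^ (w.testBit 2).toNat with hA
  set B : ℕ → Q := fun w => b 0 ^ (w.testBit 3).toNat * b 1 ^ (w.testBit 4).toNat * b 2 ^ (w.testBit 5).toNat with hB
  have three : ∀ (p q r p' q' r' : Q), Commute q p' → Commute r p' → Commute r q' →
      (p * q * r) * (p' * q' * r') = (p * p') * (q * q') * (r * r') := by
    intro p q r p' q' r' h1 h2 h3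
    calc (p * q * r) * (p' * q' * r') = p * q * ((r * p') * q') * r' := by group
      _ = p * q * ((p' * r) * q') * r' := by rw [h2.eq]
      _ = p * (q * p') * (r * q') * r' := by group
      _ = p * (p' * q) * (q' * r) * r' := by rw [h1.eq, h3.eq]
      _ = _ := by group
  have hAm : A (mulm x y) = A x * A y := by
    simp only [hA, hbit]
    simp only [show decide (6 = 0) = false from rfl, show decide (6 = 1) = false from rfl,
      show decide (6 = 2) = false from rfl, Bool.and_false, Bool.xor_false]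
    rw [pw (h.asq 0), pw (h.asq 1), pw (h.asq 2), three _ _ _ _ _ _ (haa _ _ _ _) (haa _ _ _ _) (haa _ _ _ _)]
  have hBm : B (mulm x y) = B x * B y := by
    simp only [hB, hbit]
    simp only [show decide (6 = 3) = false from rfl, show decide (6 = 4) = false from rfl,
      show decide (6 = 5) = false from rfl, Bool.and_false, Bool.xor_false]
    rw [pw (h.bsq 0), pw (h.bsq 1), pw (h.bsq 2), three _ _ _ _ _ _ (hbb _ _ _ _) (hbb _ _ _ _) (hbb _ _ _ _)]
  have hBA : B x * A y = A y * B x * z ^ (dot x y).toNat := by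
    have r : ∀ (i : Fin 3) (s : Bool), Tw z (b i ^ s.toNat) (A y)
        (Bool.xor (Bool.xor (s && y.testBit 0 && decide (i = 0)) (s && y.testBit 1 && decide (i = 1)))
          (s && y.testBit 2 && decide (i = 2))) := fun i s =>
      tw_right h.zc h.zsq (tw_right h.zc h.zsq (tw_pow (h.ba i 0) s _) (tw_pow (h.ba i 1) s _)) (tw_pow (h.ba i 2) s _)
    have t := tw_left h.zc h.zsq (tw_left h.zc h.zsq (r 0 (x.testBit 3)) (r 1 (x.testBit 4))) (r 2 (x.testBit 5))
    unfold Tw at t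
    simpa [dot, hB] using t
  show A (mulm x y) * B (mulm x y) * z ^ ((mulm x y).testBit 6).toNat =
    A x * B x * z ^ (x.testBit 6).toNat * (A y * B y * z ^ (y.testBit 6).toNat)
  rw [hAm, hBm, hbit 6]
  simp only [decide_true, Bool.and_true]
  rw [pw h.zsq, pw h.zsq]
  have gen : ∀ (A₁ A₂ B₁ B₂ Z₁ Z₂ Zd : Q), (∀ g, g * Z₁ = Z₁ * g) → (∀ g, g * Zd = Zd * g) →
      B₁ * A₂ = A₂ * B₁ * Zd →
      A₁ * A₂ * (B₁ * B₂) * (Z₁ * Z₂ * Zd) = A₁ * B₁ * Z₁ * (A₂ * B₂ * Z₂) := by
    intro A₁ A₂ B₁ B₂ Z₁ Z₂ Zd k₁ kd e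
    calc A₁ * A₂ * (B₁ * B₂) * (Z₁ * Z₂ * Zd) = A₁ * A₂ * B₁ * (B₂ * (Z₁ * Z₂) * Zd) := by group
      _ = A₁ * (A₂ * B₁ * Zd) * B₂ * (Z₁ * Z₂) := by rw [kd]; group
      _ = A₁ * (B₁ * A₂) * B₂ * (Z₁ * Z₂) := by rw [e]
      _ = A₁ * B₁ * ((A₂ * B₂) * Z₁) * Z₂ := by group
      _ = A₁ * B₁ * (Z₁ * (A₂ * B₂)) * Z₂ := by rw [k₁]
      _ = _ := by group
  exact gen _ _ _ _ _ _ _ (fun g => zpow_comm h.zc g _) (fun g => zpow_comm h.zc g _) hBA

theorem iota_e64 (d : Bool) : iota z a b (e64 d) = z ^ d.toNat := by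
  simp only [iota, testBit_e64]
  simp

theorem iota_xor (h : Frame z a b) (x : ℕ) (d : Bool) :
    iota z a b (x ^^^ e64 d) = iota z a b x * z ^ d.toNat := by
  have e : mulm x (e64 d) = x ^^^ e64 d := by
    have hd : dot x (e64 d) = false := by
      simp only [dot, testBit_e64]
      simp
    unfold mulm
    rw [hd]
    exact Nat.xor_zero _
  rw [← e, iota_mul h, iota_e64]

theorem iota_comm (h : Frame z a b) (x y : ℕ) :
    iota z a b x * iota z a b y = iota z a b y * iota z a b x * z ^ (bl x y).toNat := by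
  rw [← iota_mul h, ← iota_mul h, ← iota_xor h]
  congr 1
  refine Nat.eq_of_testBit_eq fun k => ?_
  simp only [mulm, bl, Nat.testBit_xor, testBit_e64]
  cases x.testBit k <;> cases y.testBit k <;> cases dot x y <;> cases dot y x <;> cases decide (6 = k) <;> rfl

theorem iota_inj (h : Frame z a b) {x y : ℕ} (hx : x < 128) (hy : y < 128)
    (e : iota z a b x = iota z a b y) : x = y := by
  have hzero : ∀ w < 128, iota z a b w = 1 → w = 0 := by
    intro w hw he
    have hb : ∀ v, bl w v = false := fun v => by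
      have := iota_comm h w v
      rw [he, one_mul, mul_one, eq_comm, mul_eq_left] at this
      cases hv : bl w v
      · rfl
      · rw [hv] at this; simp [h.zne] at this
    rcases sep w hw (hb 1) (hb 2) (hb 4) (hb 8) (hb 16) (hb 32) with rfl | rfl
    · rfl
    · exfalso
      rw [show (64 : ℕ) = e64 true from rfl, iota_e64] at he
      simp [h.zne] at he
  -- the inverse of `iota y` inside the model
  obtain ⟨y', hy', hyy⟩ : ∃ y' < 128, mulm y y' = 0 := by
    refine ⟨y ^^^ e64 (dot y y), ?_, ?_⟩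
    · have : e64 (dot y y) < 128 := by cases dot y y <;> decide
      exact Nat.xor_lt_two_pow (n := 7) hy this
    · have hd : dot y (y ^^^ e64 (dot y y)) = dot y y := by
        simp only [dot, Nat.testBit_xor, testBit_e64, show decide (6 = 0) = false from rfl,
          show decide (6 = 1) = false from rfl, show decide (6 = 2) = false from rfl, Bool.and_false, Bool.xor_false]
      unfold mulm
      rw [hd, ← Nat.xor_assoc y y, Nat.xor_self, Nat.zero_xor, Nat.xor_self]
  have h0 : iota z a b (mulm x y') = 1 := by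
    rw [iota_mul h, e, ← iota_mul h, hyy]
    simp [iota]
  have h1 := hzero _ (mulm_lt x hx y' hy') h0
  have h2 : ∀ k, x.testBit k = y.testBit k := by
    intro k
    have h1' := fun k => congrArg (fun n => n.testBit k) h1
    have hy'' := fun k => congrArg (fun n => n.testBit k) hyy
    simp only [mulm, Nat.testBit_xor, testBit_e64, Nat.zero_testBit] at h1' hy''
    have key : ∀ k, k ≠ 6 → x.testBit k = y.testBit k := by
      intro k hk
      have a1 := h1' k
      have a2 := hy'' k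
      simp only [decide_eq_false (Ne.symm hk), Bool.and_false, Bool.xor_false] at a1 a2
      revert a1 a2
      cases x.testBit k <;> cases y.testBit k <;> cases y'.testBit k <;> simp
    by_cases hk : k = 6
    · subst hk
      have hd : dot x y' = dot y y' := by simp [dot, key 3, key 4, key 5]
      have a1 := h1' 6
      have a2 := hy'' 6
      rw [hd] at a1
      revert a1 a2
      cases x.testBit 6 <;> cases y.testBit 6 <;> cases y'.testBit 6 <;> cases dot y y' <;> simp
    · exact key k hk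
  exact Nat.eq_of_testBit_eq h2

end Model

open Model

theorem not_split {Q : Type*} [Group Q] [Finite Q] {z : Q} {a b : Fin 3 → Q} (h : Frame z a b)
    (hcomm : ∀ g g' : Q, g * g' = g' * g ∨ g * g' = g' * g * z) (L : Subgroup (MulAut Q))
    (hL : (Cfsg.Inn Q).IsComplement' L) : False := by
  classical
  -- reflections
  have href : ∀ v : Q, v * v = z → ∃ R : MulAut Q, ∀ g, R g = if g * v = v * g then g else g * v := by
    intro v hv
    let f : Q →* Q := MonoidHom.mk' (fun g => if g * v = v * g then g else g * v) (fun g g' => by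
      by_cases h1 : g * v = v * g <;> by_cases h2 : g' * v = v * g'
      · rw [if_pos h1, if_pos h2, if_pos (((show Commute g v from h1).mul_left h2).eq)]
      · rw [if_pos h1, if_neg h2, if_neg ?_, mul_assoc]
        intro h3
        apply h2
        rw [mul_assoc, ← mul_assoc v g g', ← h1, mul_assoc g v g'] at h3
        exact mul_left_cancel h3
      · rw [if_neg h1, if_pos h2, if_neg ?_]
        · rw [mul_assoc g v g', ← h2, mul_assoc]
        intro h3
        apply h1
        rw [mul_assoc g g' v, h2, ← mul_assoc, ← mul_assoc v g g'] at h3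
        exact mul_right_cancel h3
      · rw [if_neg h1, if_neg h2]
        have e1 := (hcomm g v).resolve_left h1
        have e2 := (hcomm g' v).resolve_left h2
        have e3 : g * g' * v = v * (g * g') := by
          calc g * g' * v = g * (v * g' * z) := by rw [mul_assoc, e2]
            _ = g * v * g' * z := by group
            _ = v * g * z * g' * z := by rw [e1]
            _ = v * g * (z * g') * z := by group
            _ = v * g * (g' * z) * z := by rw [h.zc g']
            _ = v * (g * g') * (z * z) := by group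
            _ = _ := by rw [h.zsq, mul_one]
        rw [if_pos e3]
        calc g * g' = g * g' * (v * v * z) := by rw [hv, h.zsq, mul_one]
          _ = g * (g' * v) * (v * z) := by group
          _ = g * (v * g' * z) * (v * z) := by rw [e2]
          _ = g * v * g' * (z * v) * z := by group
          _ = g * v * g' * (v * z) * z := by rw [h.zc v]
          _ = g * v * (g' * v) * (z * z) := by group
          _ = g * v * (g' * v) := by rw [h.zsq, mul_one])
    have hinj : Function.Injective f := (injective_iff_map_eq_one f).2 fun g hg => by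
      change (if g * v = v * g then g else g * v) = 1 at hg
      by_cases h1 : g * v = v * g
      · rwa [if_pos h1] at hg
      · rw [if_neg h1] at hg
        exact absurd (by rw [eq_inv_of_mul_eq_one_left hg, inv_mul_cancel, mul_inv_cancel]) h1
    exact ⟨MulEquiv.ofBijective f (Finite.injective_iff_bijective.1 hinj), fun g => rfl⟩
  have hv : ∀ v, mulm v v = 64 → (iota z a b) v * (iota z a b) v = z := fun v hv' => by
    rw [← iota_mul h, hv', show (64 : ℕ) = e64 true from rfl, iota_e64]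
    simp
  obtain ⟨R15, h15⟩ := href ((iota z a b) 15) (hv 15 rfl)
  obtain ⟨R30, h30⟩ := href ((iota z a b) 30) (hv 30 rfl)
  obtain ⟨R46, h46⟩ := href ((iota z a b) 46) (hv 46 rfl)
  obtain ⟨R63, h63⟩ := href ((iota z a b) 63) (hv 63 rfl)
  have hR : ∀ (v : ℕ) (R : MulAut Q), (∀ g, R g = if g * (iota z a b) v = (iota z a b) v * g then g else g * (iota z a b) v) →
      ∀ x, R ((iota z a b) x) = (iota z a b) (rv v x) := by
    intro v R hR x
    rw [hR, rv]
    have := iota_comm h x v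
    cases hb : bl x v
    · rw [hb] at this
      rw [if_pos (show (iota z a b) x * (iota z a b) v = (iota z a b) v * (iota z a b) x by simpa using this)]
      rfl
    · rw [hb] at this
      rw [if_neg ?_, if_pos rfl]
      · exact (iota_mul h x v).symm
      · intro e
        have t2 : (iota z a b) v * (iota z a b) x = (iota z a b) v * (iota z a b) x * z := e.symm.trans (by simpa using this)
        exact h.zne (mul_eq_left.1 t2.symm)
  let IsC : Q → Prop := fun c => ∀ x, (iota z a b) x * c = c * (iota z a b) x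
  have hRc : ∀ (v : ℕ) (R : MulAut Q), (∀ g, R g = if g * (iota z a b) v = (iota z a b) v * g then g else g * (iota z a b) v) →
      ∀ c, IsC c → R c = c := fun v R hR c hc => by rw [hR, if_pos (hc v).symm]
  have hz_iota : (iota z a b) 64 = z := by
    show iota z a b 64 = z
    rw [show (64 : ℕ) = e64 true from rfl, iota_e64]; simp
  -- decomposition
  have hgen : ∀ g : Q, ∃ p < 128, ∃ c, IsC c ∧ g = (iota z a b) p * c := by
    intro g
    have hd : ∀ w, ∃ d : Bool, g * (iota z a b) w = (iota z a b) w * g * z ^ d.toNat := fun w => by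
      rcases hcomm g ((iota z a b) w) with e | e
      · exact ⟨false, by simpa using e⟩
      · exact ⟨true, by simpa using e⟩
    choose d hd using hd
    obtain ⟨p, hp, h1, h2, h4, h8, h16, h32⟩ := solve_p (d 1) (d 2) (d 4) (d 8) (d 16) (d 32)
    refine ⟨p, hp, ((iota z a b) p)⁻¹ * g, ?_, by group⟩
    have hfix : ∀ w, bl p w = d w → (iota z a b) w * (((iota z a b) p)⁻¹ * g) = ((iota z a b) p)⁻¹ * g * (iota z a b) w := by
      intro w hw
      have e1 : (iota z a b) p * (iota z a b) w = (iota z a b) w * (iota z a b) p * z ^ (bl p w).toNat := iota_comm h p w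
      rw [hw] at e1
      apply mul_left_cancel (a := (iota z a b) p)
      calc (iota z a b) p * ((iota z a b) w * (((iota z a b) p)⁻¹ * g)) = (iota z a b) p * (iota z a b) w * ((iota z a b) p)⁻¹ * g := by group
        _ = (iota z a b) w * (iota z a b) p * (z ^ (d w).toNat * ((iota z a b) p)⁻¹) * g := by rw [e1]; group
        _ = (iota z a b) w * (iota z a b) p * (((iota z a b) p)⁻¹ * z ^ (d w).toNat) * g := by rw [zpow_comm h.zc ((iota z a b) p)⁻¹]
        _ = (iota z a b) w * (z ^ (d w).toNat * g) := by group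
        _ = (iota z a b) w * g * z ^ (d w).toNat := by rw [← zpow_comm h.zc g]; group
        _ = g * (iota z a b) w := (hd w).symm
        _ = _ := by group
    intro x
    set c := ((iota z a b) p)⁻¹ * g
    have hsub : ∀ w, (iota z a b) w ∈ Subgroup.centralizer ({c} : Set Q) ↔ (iota z a b) w * c = c * (iota z a b) w := fun w =>
      mem_centralizer_singleton_iff
    have ga : ∀ i, a i ∈ Subgroup.centralizer ({c} : Set Q) := by
      have q0 : (iota z a b) 1 = a 0 := by simp [iota, Nat.testBit_eq_decide_div_mod_eq]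
      have q1 : (iota z a b) 2 = a 1 := by simp [iota, Nat.testBit_eq_decide_div_mod_eq]
      have q2 : (iota z a b) 4 = a 2 := by simp [iota, Nat.testBit_eq_decide_div_mod_eq]
      intro i
      fin_cases i
      · exact q0 ▸ (hsub 1).2 (hfix 1 h1)
      · exact q1 ▸ (hsub 2).2 (hfix 2 h2)
      · exact q2 ▸ (hsub 4).2 (hfix 4 h4)
    have gb : ∀ i, b i ∈ Subgroup.centralizer ({c} : Set Q) := by
      have q0 : (iota z a b) 8 = b 0 := by simp [iota, Nat.testBit_eq_decide_div_mod_eq]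
      have q1 : (iota z a b) 16 = b 1 := by simp [iota, Nat.testBit_eq_decide_div_mod_eq]
      have q2 : (iota z a b) 32 = b 2 := by simp [iota, Nat.testBit_eq_decide_div_mod_eq]
      intro i
      fin_cases i
      · exact q0 ▸ (hsub 8).2 (hfix 8 h8)
      · exact q1 ▸ (hsub 16).2 (hfix 16 h16)
      · exact q2 ▸ (hsub 32).2 (hfix 32 h32)
    have gz : z ∈ Subgroup.centralizer ({c} : Set Q) := mem_centralizer_singleton_iff.2 (h.zc c).symm
    exact (hsub x).1 (mul_mem (mul_mem (mul_mem (mul_mem (pow_mem (ga 0) _) (pow_mem (ga 1) _)) (pow_mem (ga 2) _))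
      (mul_mem (mul_mem (pow_mem (gb 0) _) (pow_mem (gb 1) _)) (pow_mem (gb 2) _))) (pow_mem gz _))
  -- automorphisms compatible with a model map
  let Act : MulAut Q → (ℕ → ℕ) → Prop := fun φ W => φ z = z ∧
    (∀ x < 128, ∃ d : Bool, φ ((iota z a b) x) = (iota z a b) (W x ^^^ e64 d)) ∧ ∀ c, IsC c → ∃ d : Bool, φ c = c * z ^ d.toNat
  have hlift : ∀ (W : ℕ → ℕ) (φ : MulAut Q), (∀ x, φ ((iota z a b) x) = (iota z a b) (W x)) → (∀ c, IsC c → φ c = c) → φ z = z →
      ∃ l ∈ L, ∃ p < 128, Act l W ∧ ∀ x, l ((iota z a b) x) = (iota z a b) (F W p x) := by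
    intro W φ h1 h2 h3
    obtain ⟨⟨i, l⟩, hil, -⟩ := hL.existsUnique φ
    obtain ⟨u, hu⟩ := i.2
    obtain ⟨p, hp, c, hc, hup⟩ := hgen u⁻¹
    have hl : ∀ g, (l : MulAut Q) g = u⁻¹ * φ g * u := fun g => by
      have : (i : MulAut Q) * (l : MulAut Q) = φ := hil
      rw [← hu] at this
      rw [← this]
      show _ = u⁻¹ * (u * (l : MulAut Q) g * u⁻¹) * u
      group
    have hact : ∀ x, (l : MulAut Q) ((iota z a b) x) = (iota z a b) (F W p x) := fun x => by
      rw [hl, h1, F, iota_xor h]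
      have hu' : u = c⁻¹ * ((iota z a b) p)⁻¹ := by rw [← mul_inv_rev, ← hup, inv_inv]
      rw [hu', mul_inv_rev, inv_inv, inv_inv]
      calc (iota z a b) p * c * (iota z a b) (W x) * (c⁻¹ * ((iota z a b) p)⁻¹) = (iota z a b) p * (c * (iota z a b) (W x)) * c⁻¹ * ((iota z a b) p)⁻¹ := by group
        _ = (iota z a b) p * ((iota z a b) (W x) * c) * c⁻¹ * ((iota z a b) p)⁻¹ := by rw [hc]
        _ = (iota z a b) p * (iota z a b) (W x) * ((iota z a b) p)⁻¹ := by group
        _ = (iota z a b) (W x) * (iota z a b) p * (z ^ (bl p (W x)).toNat * ((iota z a b) p)⁻¹) := by rw [iota_comm h p (W x)]; group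
        _ = _ := by rw [← zpow_comm h.zc]; group
    refine ⟨l, l.2, p, hp, ⟨?_, fun x _ => ⟨_, hact x⟩, fun c' hc' => ?_⟩, hact⟩
    · rw [hl, h3, mul_assoc, ← h.zc u, inv_mul_cancel_left]
    · rw [hl, h2 c' hc']
      rcases hcomm c' u with e | e
      · exact ⟨false, by rw [mul_assoc, e, inv_mul_cancel_left]; simp⟩
      · exact ⟨true, by rw [mul_assoc, e, mul_assoc u c', inv_mul_cancel_left]; simp⟩
  have hφz : ∀ (v : ℕ) (R : MulAut Q), (∀ g, R g = if g * (iota z a b) v = (iota z a b) v * g then g else g * (iota z a b) v) → R z = z :=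
    fun v R hR => by rw [hR, if_pos (h.zc _).symm]
  obtain ⟨l₁, hl₁, p, hp, A₁, F₁⟩ := hlift Wg (R15 * R30 * R46)
    (fun x => by show R15 (R30 (R46 ((iota z a b) x))) = _; rw [hR _ _ h46, hR _ _ h30, hR _ _ h15]; rfl)
    (fun c hc => by show R15 (R30 (R46 c)) = _; rw [hRc _ _ h46 c hc, hRc _ _ h30 c hc, hRc _ _ h15 c hc])
    (by show R15 (R30 (R46 z)) = _; rw [hφz _ _ h46, hφz _ _ h30, hφz _ _ h15])
  obtain ⟨l₂, hl₂, q, hq, A₂, F₂⟩ := hlift Wh (R15 * R63)
    (fun x => by show R15 (R63 ((iota z a b) x)) = _; rw [hR _ _ h63, hR _ _ h15]; rfl)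
    (fun c hc => by show R15 (R63 c) = _; rw [hRc _ _ h63 c hc, hRc _ _ h15 c hc])
    (by show R15 (R63 z) = _; rw [hφz _ _ h63, hφz _ _ h15])
  -- elements of `L` inducing the identity are trivial
  have hbot : ∀ l ∈ L, ∀ W : ℕ → ℕ, Act l W → (∀ x < 128, W x < 128 ∧ W x % 64 = x % 64) →
      (∀ c, IsC c → l c = c) → l = 1 := by
    intro l hl W hA hW hc
    obtain ⟨-, hA2, -⟩ := hA
    have hd : ∀ x < 128, ∃ d : Bool, l ((iota z a b) x) = (iota z a b) x * z ^ d.toNat := fun x hx => by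
      obtain ⟨d, hd⟩ := hA2 x hx
      obtain ⟨hWlt, hWm⟩ := hW x hx
      have : W x = x ∨ W x = x ^^^ 64 := by
        have : ∀ u < 128, ∀ v < 128, u % 64 = v % 64 → u = v ∨ u = v ^^^ 64 := by decide +kernel
        exact this _ hWlt _ hx hWm
      rcases this with e | e
      · exact ⟨d, by rw [hd, e, iota_xor h]⟩
      · refine ⟨Bool.xor true d, ?_⟩
        rw [hd, e, show x ^^^ 64 = x ^^^ e64 true from rfl, iota_xor h, iota_xor h, pw h.zsq, mul_assoc]
    obtain ⟨d0, e0⟩ := hd 1 (by norm_num)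
    obtain ⟨d1, e1⟩ := hd 2 (by norm_num)
    obtain ⟨d2, e2⟩ := hd 4 (by norm_num)
    obtain ⟨d3, e3⟩ := hd 8 (by norm_num)
    obtain ⟨d4, e4⟩ := hd 16 (by norm_num)
    obtain ⟨d5, e5⟩ := hd 32 (by norm_num)
    obtain ⟨r, -, r0, r1, r2, r3, r4, r5⟩ := solve_p d0 d1 d2 d3 d4 d5
    have hconj : ∀ x d, bl r x = d → l ((iota z a b) x) = (iota z a b) x * z ^ d.toNat → l ((iota z a b) x) = (iota z a b) r * (iota z a b) x * ((iota z a b) r)⁻¹ := by
      intro x d hb he
      have e1 : (iota z a b) r * (iota z a b) x = (iota z a b) x * (iota z a b) r * z ^ (bl r x).toNat := iota_comm h r x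
      rw [he, e1, hb, mul_assoc ((iota z a b) x) ((iota z a b) r), zpow_comm h.zc ((iota z a b) r)]
      group
    let Fix : Subgroup Q :=
      { carrier := {g | l g = (iota z a b) r * g * ((iota z a b) r)⁻¹}
        one_mem' := by show l 1 = _; rw [map_one]; group
        mul_mem' := fun {g g'} (e : l g = _) (e' : l g' = _) => by show l (g * g') = _; rw [map_mul, e, e']; group
        inv_mem' := fun {g} (e : l g = _) => by show l g⁻¹ = _; rw [map_inv, e]; group }
    have m : ∀ g, g ∈ Fix ↔ l g = (iota z a b) r * g * ((iota z a b) r)⁻¹ := fun g => Iff.rfl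
    have ga : ∀ i, a i ∈ Fix := by
      have q0 : (iota z a b) 1 = a 0 := by simp [iota, Nat.testBit_eq_decide_div_mod_eq]
      have q1 : (iota z a b) 2 = a 1 := by simp [iota, Nat.testBit_eq_decide_div_mod_eq]
      have q2 : (iota z a b) 4 = a 2 := by simp [iota, Nat.testBit_eq_decide_div_mod_eq]
      intro i
      fin_cases i
      · exact q0 ▸ (m _).2 (hconj 1 d0 r0 e0)
      · exact q1 ▸ (m _).2 (hconj 2 d1 r1 e1)
      · exact q2 ▸ (m _).2 (hconj 4 d2 r2 e2)
    have gb : ∀ i, b i ∈ Fix := by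
      have q0 : (iota z a b) 8 = b 0 := by simp [iota, Nat.testBit_eq_decide_div_mod_eq]
      have q1 : (iota z a b) 16 = b 1 := by simp [iota, Nat.testBit_eq_decide_div_mod_eq]
      have q2 : (iota z a b) 32 = b 2 := by simp [iota, Nat.testBit_eq_decide_div_mod_eq]
      intro i
      fin_cases i
      · exact q0 ▸ (m _).2 (hconj 8 d3 r3 e3)
      · exact q1 ▸ (m _).2 (hconj 16 d4 r4 e4)
      · exact q2 ▸ (m _).2 (hconj 32 d5 r5 e5)
    have gC : ∀ c, IsC c → c ∈ Fix := fun c hc' => by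
      rw [m, hc c hc', hc' r, mul_inv_cancel_right]
    have gz : z ∈ Fix := gC z fun x => h.zc ((iota z a b) x)
    have hInn : l ∈ Cfsg.Inn Q := ⟨(iota z a b) r, MulEquiv.ext fun g => by
      obtain ⟨p', -, c, hc', rfl⟩ := hgen g
      refine ((m _).1 (mul_mem ?_ (gC c hc'))).symm
      exact mul_mem (mul_mem (mul_mem (mul_mem (pow_mem (ga 0) _) (pow_mem (ga 1) _)) (pow_mem (ga 2) _))
        (mul_mem (mul_mem (pow_mem (gb 0) _) (pow_mem (gb 1) _)) (pow_mem (gb 2) _))) (pow_mem gz _)⟩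
    exact (Subgroup.disjoint_def.1 hL.disjoint hInn hl)
  have hxor : ∀ u < 128, ∀ d : Bool, u ^^^ e64 d < 128 := fun u hu d => by
    exact Nat.xor_lt_two_pow (n := 7) hu (by cases d <;> decide)
  have hcompC : ∀ (l l' : MulAut Q), (l z = z) → (∀ c, IsC c → ∃ d : Bool, l c = c * z ^ d.toNat) →
      (∀ c, IsC c → ∃ d : Bool, l' c = c * z ^ d.toNat) → ∀ c, IsC c → ∃ d : Bool, (l * l') c = c * z ^ d.toNat := by
    intro l l' hz' hl hl' c hc
    obtain ⟨d', hd'⟩ := hl' c hc
    obtain ⟨d, hd⟩ := hl c hc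
    refine ⟨Bool.xor d d', ?_⟩
    show l (l' c) = _
    rw [hd', map_mul, map_pow, hz', hd, pw h.zsq, mul_assoc]
  have hcomp : ∀ l l' W W', Act l W → Act l' W' →
      (∀ x < 128, W x < 128 ∧ W (x ^^^ 64) = W x ^^^ 64) → (∀ x < 128, W' x < 128) →
      Act (l * l') (fun x => W (W' x)) := by
    intro l l' W W' hA hA' hW hW'
    refine ⟨by show l (l' z) = z; rw [hA'.1, hA.1], fun x hx => ?_, hcompC l l' hA.1 hA.2.2 hA'.2.2⟩
    obtain ⟨d', hd'⟩ := hA'.2.1 x hx
    obtain ⟨d, hd⟩ := hA.2.1 _ (hW' x hx)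
    refine ⟨Bool.xor d d', ?_⟩
    show l (l' ((iota z a b) x)) = _
    rw [hd', iota_xor h, map_mul, map_pow, hA.1, hd, iota_xor h, iota_xor h, pw h.zsq, mul_assoc]
  have hC2 : ∀ (l : MulAut Q), l z = z → (∀ c, IsC c → ∃ d : Bool, l c = c * z ^ d.toNat) →
      ∀ c, IsC c → l (l c) = c := by
    intro l hz' hl c hc
    obtain ⟨d, hd⟩ := hl c hc
    rw [hd, map_mul, map_pow, hz', hd, mul_assoc, ← pw h.zsq, Bool.xor_self]
    simp
  have i₁ : l₁ * l₁ = 1 := hbot _ (mul_mem hl₁ hl₁) _ (hcomp _ _ _ _ A₁ A₁ wg_lt fun x hx => (wg_lt x hx).1)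
    (fun x hx => ⟨(wg_lt _ (wg_lt x hx).1).1, wg_sq x hx⟩) (hC2 l₁ A₁.1 A₁.2.2)
  have i₂ : l₂ * l₂ = 1 := hbot _ (mul_mem hl₂ hl₂) _ (hcomp _ _ _ _ A₂ A₂ wh_lt fun x hx => (wh_lt x hx).1)
    (fun x hx => ⟨(wh_lt _ (wh_lt x hx).1).1, wh_sq x hx⟩) (hC2 l₂ A₂.1 A₂.2.2)
  have A₁₂ := hcomp _ _ _ _ A₁ A₂ wg_lt fun x hx => (wh_lt x hx).1
  have hW12 : ∀ x < 128, Wg (Wh x) < 128 ∧ Wg (Wh (x ^^^ 64)) = Wg (Wh x) ^^^ 64 := fun x hx => by
    refine ⟨(wg_lt _ (wh_lt x hx).1).1, ?_⟩
    rw [(wh_lt x hx).2, (wg_lt _ (wh_lt x hx).1).2]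
  have i₃ : l₁ * l₂ * (l₁ * l₂) = 1 := hbot _ (mul_mem (mul_mem hl₁ hl₂) (mul_mem hl₁ hl₂)) _
    (hcomp _ _ _ _ A₁₂ A₁₂ hW12 fun x hx => (hW12 x hx).1)
    (fun x hx => ⟨(hW12 _ (hW12 x hx).1).1, wgh x hx⟩) (hC2 (l₁ * l₂) A₁₂.1 A₁₂.2.2)
  have hc12 : l₁ * l₂ = l₂ * l₁ := by
    have e1 : l₁⁻¹ = l₁ := inv_eq_of_mul_eq_one_right i₁
    have e2 : l₂⁻¹ = l₂ := inv_eq_of_mul_eq_one_right i₂
    have e3 := eq_inv_of_mul_eq_one_left i₃
    rw [mul_inv_rev, e1, e2] at e3
    exact e3
  -- back to the model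
  have hp64 : ∀ W x, x < 128 → (∀ y < 128, W y < 128) → ∀ r < 128, F W (r % 64) x = F W r x := fun W x hx hW r hr => by
    unfold F; rw [bl_mod r hr _ (hW x hx)]
  have hFlt : ∀ W x, x < 128 → (∀ y < 128, W y < 128) → ∀ r, F W r x < 128 := fun W x hx hW r => hxor _ (hW x hx) _
  have gWg := fun x hx => (wg_lt x hx).1
  have gWh := fun x hx => (wh_lt x hx).1
  have hg : ∀ x ∈ gens, x < 128 := by decide
  have v1 : Val Wg (p % 64) = true := by
    rw [Val, List.all_eq_true]
    intro x hx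
    rw [beq_iff_eq, hp64 _ _ (hg x hx) gWg p hp, hp64 _ _ (hFlt _ _ (hg x hx) gWg p) gWg p hp]
    refine iota_inj h (hFlt _ _ (hFlt _ _ (hg x hx) gWg p) gWg p) (hg x hx) ?_
    show (iota z a b) _ = (iota z a b) x
    rw [← F₁, ← F₁]
    exact congrArg (fun f : MulAut Q => f ((iota z a b) x)) i₁
  have v2 : Val Wh (q % 64) = true := by
    rw [Val, List.all_eq_true]
    intro x hx
    rw [beq_iff_eq, hp64 _ _ (hg x hx) gWh q hq, hp64 _ _ (hFlt _ _ (hg x hx) gWh q) gWh q hq]
    refine iota_inj h (hFlt _ _ (hFlt _ _ (hg x hx) gWh q) gWh q) (hg x hx) ?_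
    show (iota z a b) _ = (iota z a b) x
    rw [← F₂, ← F₂]
    exact congrArg (fun f : MulAut Q => f ((iota z a b) x)) i₂
  have v3 : Com (p % 64) (q % 64) = true := by
    rw [Com, List.all_eq_true]
    intro x hx
    rw [beq_iff_eq, hp64 _ _ (hg x hx) gWg p hp, hp64 _ _ (hg x hx) gWh q hq,
      hp64 _ _ (hFlt _ _ (hg x hx) gWh q) gWg p hp, hp64 _ _ (hFlt _ _ (hg x hx) gWg p) gWh q hq]
    refine iota_inj h (hFlt _ _ (hFlt _ _ (hg x hx) gWh q) gWg p) (hFlt _ _ (hFlt _ _ (hg x hx) gWg p) gWh q) ?_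
    show (iota z a b) _ = (iota z a b) _
    rw [← F₁, ← F₂, ← F₂, ← F₁]
    exact congrArg (fun f : MulAut Q => f ((iota z a b) x)) hc12
  rw [no_sol _ (Nat.mod_lt _ (by norm_num)) v1 _ (Nat.mod_lt _ (by norm_num)) v2] at v3
  exact Bool.false_ne_true v3

theorem bound {E : Type*} [Group E] [Finite E] (hP : IsPGroup 2 E) (hfr : frattini E = center E)
    (hZ : Nat.card (center E) = 2) (K : Subgroup E) (hK : center E ≤ K) :
    Nat.card (centralizer (K : Set E)) * Nat.card K ≤ 2 * Nat.card E := by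
  haveI : Fact (Nat.Prime 2) := ⟨Nat.prime_two⟩
  obtain ⟨H, ⟨hKH, hH⟩, hmax⟩ := (Set.toFinite {H : Subgroup E | K ≤ H ∧
      Nat.card (centralizer (K : Set E)) * Nat.card K ≤ Nat.card (centralizer (H : Set E)) * Nat.card H}).exists_maximal
    ⟨K, le_rfl, le_rfl⟩
  by_cases hT : H = ⊤
  · subst hT
    rw [coe_top, centralizer_univ, hZ, card_top] at hH
    exact hH
  obtain ⟨x, -, hx⟩ := SetLike.exists_of_lt (lt_top_iff_ne_top.2 hT)
  refine absurd (hmax (y := H ⊔ zpowers x) ⟨hKH.trans le_sup_left, hH.trans ?_⟩ le_sup_left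
    (mem_sup_right (mem_zpowers x))) hx
  have hc : Nat.card ↥(H ⊔ zpowers x) = 2 * Nat.card H :=
    Cfsg.Agent.Perm.card_sup_zpowers hP (hfr.le.trans (hK.trans hKH)) hx
  have hle : centralizer (H : Set E) ⊓ centralizer ({x} : Set E) ≤
      centralizer ((H ⊔ zpowers x : Subgroup E) : Set E) := by
    intro g hg
    have h1 : H ⊔ zpowers x ≤ centralizer ({g} : Set E) := sup_le
      (fun h hh => mem_centralizer_singleton_iff.2 ((mem_centralizer_iff.1 hg.1 h hh)))
      (zpowers_le.2 (mem_centralizer_singleton_iff.2 (mem_centralizer_singleton_iff.1 hg.2).symm))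
    exact mem_centralizer_iff.2 fun h hh => mem_centralizer_singleton_iff.1 (h1 hh)
  have hi := Cfsg.Agent.Struct.RankBound.index_centralizer_singleton_le (p := 2) hP x
  rw [hfr, hZ] at hi
  have h2 : Nat.card (centralizer (H : Set E)) ≤
      2 * Nat.card ↥(centralizer (H : Set E) ⊓ centralizer ({x} : Set E)) := by
    have e1 := relIndex_mul_relIndex ⊥ (centralizer (H : Set E) ⊓ centralizer ({x} : Set E))
      (centralizer (H : Set E)) bot_le inf_le_left
    rw [relIndex_bot_left, relIndex_bot_left, inf_relIndex_left] at e1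
    have e2 : (centralizer ({x} : Set E)).relIndex (centralizer (H : Set E)) ≤ 2 := by
      refine le_trans ?_ hi
      rw [← relIndex_top_right (centralizer ({x} : Set E))]
      exact relIndex_le_of_le_right (le_top : centralizer (H : Set E) ≤ ⊤)
        (by rw [relIndex_top_right]; exact index_ne_zero_of_finite)
    nlinarith
  rw [hc]
  have := Subgroup.card_le_of_le hle
  nlinarith



/-- Let Q be an extraspecial 2-group of order 2^(2n+1) with n ≥ 3 that is of plus type (it contains an elementary abelian subgroup of order 2^(n+1)). Then the group of inner automorphisms of Q has no complement in the full automorphism group of Q: the extension of the inner automorphism group (elementary abelian of order 2^(2n)) by the outer automorphism group (the orthogonal group of plus type) does not split. -/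
theorem result {Q : Type*} [Group Q] [Finite Q] (n : ℕ) (hn : 3 ≤ n) (hQ : Cfsg.IsExtraspecial 2 Q) (hcard : Nat.card Q = 2 ^ (2 * n + 1)) (hplus : ∃ E : Subgroup Q, Cfsg.IsElementaryAbelian 2 E ∧ Nat.card ↥E = 2 ^ (n + 1)) (L : Subgroup (MulAut Q)) : ¬ (Cfsg.Inn Q).IsComplement' L := by
  skip
  classical
  intro hL
  haveI : Fact (Nat.Prime 2) := ⟨Nat.prime_two⟩
  obtain ⟨⟨hP, hfr, -⟩, hZ⟩ := hQ
  obtain ⟨hpow, hcom⟩ := Cfsg.Agent.Perm.frattini_facts hP
  obtain ⟨E, ⟨hEc, hE2⟩, hEcard⟩ := hplus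
  haveI : Nontrivial (center Q) := by rw [← Finite.one_lt_card_iff_nontrivial, hZ]; norm_num
  obtain ⟨z', hz'⟩ := exists_ne (1 : center Q)
  set z : Q := z'.1 with hz
  have hzc : z ∈ center Q := z'.2
  have hz1 : z ≠ 1 := fun e => hz' (Subtype.ext e)
  have hzsq : z * z = 1 := by
    have := pow_card_eq_one' (x := z')
    rw [hZ, pow_two] at this
    exact congrArg Subtype.val this
  have hcen : ∀ g : Q, g * z = z * g := fun g => mem_center_iff.1 hzc g
  have hzgen : ∀ c ∈ center Q, c = 1 ∨ c = z := by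
    intro c hc
    have h0 : zpowers z = center Q := eq_of_le_of_card_ge (zpowers_le.2 hzc)
      (by rw [hZ, Nat.card_zpowers, orderOf_eq_prime (by rw [pow_two]; exact hzsq) hz1])
    rw [← h0] at hc
    obtain ⟨k, rfl⟩ := mem_zpowers_iff.1 hc
    rw [← zpow_mod_orderOf, orderOf_eq_prime (by rw [pow_two]; exact hzsq) hz1]
    rcases Int.emod_two_eq k with e | e <;> simp [e]
  have hcomm : ∀ g g' : Q, g * g' = g' * g ∨ g * g' = g' * g * z := by
    intro g g'
    rcases hzgen _ (hfr ▸ hcom (commutator_mem_commutator (mem_top g) (mem_top g')) : ⁅g, g'⁆ ∈ center Q) with e | e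
    · exact .inl (commutatorElement_eq_one_iff_mul_comm.1 e)
    · refine .inr ?_
      calc g * g' = ⁅g, g'⁆ * (g' * g) := by simp only [commutatorElement_def]; group
        _ = _ := by rw [e, ← hcen]
  have hsqc : ∀ g : Q, g * g = 1 ∨ g * g = z := fun g => hzgen _ (by rw [← pow_two, ← hfr]; exact hpow g)
  have hEcomm : ∀ x ∈ E, ∀ y ∈ E, x * y = y * x := fun x hx y hy =>
    congrArg Subtype.val (hEc.is_comm.comm (⟨x, hx⟩ : E) ⟨y, hy⟩)
  have hEsq : ∀ x ∈ E, x * x = 1 := fun x hx => by rw [← pow_two]; exact hE2 x hx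
  -- the centre lies in `E`
  have hzE : z ∈ E := by
    by_contra hzE
    set K := E ⊔ zpowers z with hK
    have hcK : ∀ x ∈ K, ∀ y ∈ K, x * y = y * x := by
      intro x hx y hy
      have hle : ∀ x ∈ E, K ≤ centralizer ({x} : Set Q) := fun x hx => sup_le
        (fun y hy => mem_centralizer_singleton_iff.2 (hEcomm y hy x hx))
        (zpowers_le.2 (mem_centralizer_singleton_iff.2 (hcen x).symm))
      have hle2 : K ≤ centralizer ({y} : Set Q) := sup_le
        (fun u hu => mem_centralizer_singleton_iff.2 (mem_centralizer_singleton_iff.1 (hle u hu hy)).symm)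
        (zpowers_le.2 (mem_centralizer_singleton_iff.2 (hcen y).symm))
      exact mem_centralizer_singleton_iff.1 (hle2 hx)
    have h1 : Nat.card ↥K = 2 * Nat.card E := by
      refine Eq.trans ?_ (by rw [mul_comm, ← orderOf_eq_prime (p := 2) (by rw [pow_two]; exact hzsq) hz1, ← Nat.card_zpowers, ← Nat.card_prod])
      refine (Nat.card_congr (Equiv.ofBijective (fun q : ↥E × ↥(zpowers z) =>
        (⟨q.1 * q.2, mul_mem (mem_sup_left q.1.2) (mem_sup_right q.2.2)⟩ : K)) ⟨?_, ?_⟩)).symm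
      · rintro ⟨⟨e₁, he₁⟩, w₁, hw₁⟩ ⟨⟨e₂, he₂⟩, w₂, hw₂⟩ hab
        have h' : e₁ * w₁ = e₂ * w₂ := congrArg Subtype.val hab
        have hm : e₂⁻¹ * e₁ = w₂ * w₁⁻¹ := by rw [inv_mul_eq_iff_eq_mul, ← mul_assoc, ← h', mul_inv_cancel_right]
        have hmem : e₂⁻¹ * e₁ ∈ zpowers z := hm ▸ mul_mem hw₂ (inv_mem hw₁)
        rcases hzgen _ ((zpowers_le.2 hzc) hmem) with e | e
        · rw [inv_mul_eq_one] at e
          subst e
          simp [mul_left_cancel h']
        · exact absurd (e ▸ mul_mem (inv_mem he₂) he₁) hzE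
      · intro x
        have hx := x.2
        change (x : Q) ∈ ((E ⊔ zpowers z : Subgroup Q) : Set Q) at hx
        rw [coe_mul_of_right_le_normalizer_left E (zpowers z) (zpowers_le.2 (by
          rw [mem_normalizer_iff]; intro u
          rw [← hcen u, mul_inv_cancel_right]))] at hx
        obtain ⟨u, hu, w, hw, e⟩ := hx
        exact ⟨(⟨u, hu⟩, ⟨w, hw⟩), Subtype.ext e⟩
    have hb := bound hP hfr hZ K (fun c hc => by
      rcases hzgen c hc with e | e <;> rw [e]
      exacts [one_mem _, mem_sup_right (mem_zpowers z)])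
    have h2 : Nat.card K ≤ Nat.card (centralizer (K : Set Q)) :=
      Subgroup.card_le_of_le fun x hx => mem_centralizer_iff.2 fun y hy => hcK y hy x hx
    rw [h1, hEcard] at h2 hb
    rw [hcard] at hb
    have hpos := Nat.two_pow_pos n
    have e1 : 2 ^ (2 * n + 1) = 2 ^ n * 2 ^ n * 2 := by rw [pow_succ, two_mul, pow_add]
    rw [e1, pow_succ] at hb
    rw [pow_succ] at h2
    nlinarith
  have hCE : centralizer (E : Set Q) = E := by
    refine (eq_of_le_of_card_ge (fun x hx => mem_centralizer_iff.2 fun y hy => hEcomm y hy x hx) ?_).symm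
    have hb := bound hP hfr hZ E (fun c hc => by
      rcases hzgen c hc with e | e <;> rw [e]
      exacts [one_mem _, hzE])
    rw [hEcard, hcard] at hb
    rw [hEcard]
    have hpos := Nat.two_pow_pos n
    have e1 : 2 ^ (2 * n + 1) = 2 ^ n * 2 ^ n * 2 := by rw [pow_succ, two_mul, pow_add]
    rw [e1, pow_succ] at hb
    rw [pow_succ]
    nlinarith
  -- hyperbolic triples
  have hstep : ∀ D : Subgroup Q, ∀ k : ℕ, D ≤ E → 2 ^ (k + 2) ≤ Nat.card D → ∃ a ∈ D, ∃ w : Q,
      a * a = 1 ∧ w * a = a * w * z ∧ 2 ^ (k + 1) ≤ Nat.card ↥(D ⊓ centralizer ({w} : Set Q)) := by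
    intro D k hD hcardD
    obtain ⟨a, haD, ha⟩ : ∃ a ∈ D, a ∉ center Q := by
      by_contra hcon
      push Not at hcon
      have := Subgroup.card_le_of_le (show D ≤ center Q from hcon)
      rw [hZ] at this
      have h4 : 4 ≤ 2 ^ (k + 2) := by
        calc 4 = 2 ^ 2 := by norm_num
          _ ≤ _ := Nat.pow_le_pow_right (by norm_num) (by omega)
      omega
    obtain ⟨w, hw⟩ : ∃ w, w * a ≠ a * w := by
      by_contra hcon
      push Not at hcon
      exact ha (mem_center_iff.2 hcon)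
    refine ⟨a, haD, w, hEsq a (hD haD), (hcomm w a).resolve_left hw, ?_⟩
    have hi := Cfsg.Agent.Struct.RankBound.index_centralizer_singleton_le (p := 2) hP w
    rw [hfr, hZ] at hi
    have h1 := relIndex_mul_relIndex ⊥ (D ⊓ centralizer ({w} : Set Q)) D bot_le inf_le_left
    rw [relIndex_bot_left, relIndex_bot_left, inf_relIndex_left] at h1
    have h2 : (centralizer ({w} : Set Q)).relIndex D ≤ 2 := by
      refine le_trans ?_ hi
      rw [← relIndex_top_right (centralizer ({w} : Set Q))]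
      exact relIndex_le_of_le_right (le_top : D ≤ ⊤) (by rw [relIndex_top_right]; exact index_ne_zero_of_finite)
    rw [pow_succ] at hcardD
    nlinarith
  obtain ⟨a₀, ha₀, w₀, a₀sq, hw₀, hc₀⟩ := hstep E (n - 1) le_rfl (by rw [hEcard, show n - 1 + 2 = n + 1 by omega])
  set D₁ := E ⊓ centralizer ({w₀} : Set Q) with hD₁
  obtain ⟨a₁, ha₁, w₁, a₁sq, hw₁, hc₁⟩ := hstep D₁ (n - 2) inf_le_left
    (by rw [show n - 2 + 2 = n - 1 + 1 by omega]; exact hc₀)
  set D₂ := D₁ ⊓ centralizer ({w₁} : Set Q) with hD₂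
  obtain ⟨a₂, ha₂, w₂, a₂sq, hw₂, -⟩ := hstep D₂ (n - 3) (inf_le_left.trans inf_le_left)
    (by rw [show n - 3 + 2 = n - 2 + 1 by omega]; exact hc₁)
  have ha₁E : a₁ ∈ E := (mem_inf.1 ha₁).1
  have ha₂D₁ : a₂ ∈ D₁ := (mem_inf.1 ha₂).1
  have ha₂E : a₂ ∈ E := (mem_inf.1 ha₂D₁).1
  have c10 : a₁ * w₀ = w₀ * a₁ := mem_centralizer_singleton_iff.1 (mem_inf.1 ha₁).2
  have c20 : a₂ * w₀ = w₀ * a₂ := mem_centralizer_singleton_iff.1 (mem_inf.1 ha₂D₁).2
  have c21 : a₂ * w₁ = w₁ * a₂ := mem_centralizer_singleton_iff.1 (mem_inf.1 ha₂).2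
  -- twisting calculus
  have tz : ∀ u w : Q, ∃ d, Model.Tw z u w d := fun u w => by
    rcases hcomm u w with e | e
    · exact ⟨false, by simpa [Model.Tw] using e⟩
    · exact ⟨true, by simpa [Model.Tw] using e⟩
  have t0 : ∀ {u w : Q}, u * w = w * u → Model.Tw z u w false := fun e => by simpa [Model.Tw] using e
  have t1 : ∀ {u w : Q}, u * w = w * u * z → Model.Tw z u w true := fun e => by simpa [Model.Tw] using e
  have f0 : ∀ {u w : Q}, Model.Tw z u w false → u * w = w * u := fun e => by simpa [Model.Tw] using e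
  have one_left : ∀ w : Q, Model.Tw z 1 w false := fun w => t0 (by group)
  have R := @Model.tw_right Q _ z hcen hzsq
  have Lf := @Model.tw_left Q _ z hcen hzsq
  have aEE : ∀ x ∈ E, ∀ y ∈ E, Model.Tw z x y false := fun x hx y hy => t0 (hEcomm x hx y hy)
  -- first: make the squares trivial
  have mk : ∀ a w : Q, a * a = 1 → w * a = a * w * z → ∃ s : Bool, (w * a ^ s.toNat) * (w * a ^ s.toNat) = 1 := by
    intro a w ha hwa
    rcases hsqc w with e | e
    · exact ⟨false, by simpa using e⟩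
    · refine ⟨true, ?_⟩
      simp only [Bool.toNat_true, pow_one]
      calc w * a * (w * a) = w * (a * w) * a := by group
        _ = w * (w * a * z) * a := by rw [hwa, mul_assoc (a * w) z z, hzsq, mul_one]
        _ = w * w * (a * (z * a)) := by group
        _ = w * w * (a * (a * z)) := by rw [← hcen a]
        _ = w * w * ((a * a) * z) := by group
        _ = 1 := by rw [ha, e, one_mul, hzsq]
  have pa : ∀ {a u : Q} {d : Bool} (s : Bool), Model.Tw z a u d → Model.Tw z (a ^ s.toNat) u (s && d) := by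
    intro a u d s e
    cases s
    · simpa using one_left u
    · simpa using e
  have symm' : ∀ {u w : Q} {d : Bool}, Model.Tw z u w d → Model.Tw z w u d := by
    intro u w d e
    cases d
    · exact t0 (f0 e).symm
    · refine t1 ?_
      have e' : u * w = w * u * z := by simpa [Model.Tw] using e
      rw [e', mul_assoc (w * u), hzsq, mul_one]
  -- b₀
  obtain ⟨s₀, hb₀⟩ := mk a₀ w₀ a₀sq hw₀
  set b₀ := w₀ * a₀ ^ s₀.toNat with hb₀def
  have b00 : Model.Tw z b₀ a₀ true := by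
    simpa using Lf (t1 hw₀) (pa s₀ (aEE a₀ ha₀ a₀ ha₀))
  have b01 : Model.Tw z b₀ a₁ false := by
    simpa using Lf (t0 c10.symm) (pa s₀ (aEE a₀ ha₀ a₁ ha₁E))
  have b02 : Model.Tw z b₀ a₂ false := by
    simpa using Lf (t0 c20.symm) (pa s₀ (aEE a₀ ha₀ a₂ ha₂E))
  -- b₁
  obtain ⟨d, hd⟩ := tz w₁ b₀
  obtain ⟨e, he⟩ := tz w₁ a₀
  set w₁' := w₁ * a₀ ^ d.toNat * b₀ ^ e.toNat with hw₁'
  have hb00' : Model.Tw z a₀ b₀ true := symm' b00
  have hbb : Model.Tw z b₀ b₀ false := t0 rfl
  have w10 : Model.Tw z w₁' a₀ false := by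
    simpa using Lf (Lf he (pa d (aEE a₀ ha₀ a₀ ha₀))) (pa e b00)
  have w1b : Model.Tw z w₁' b₀ false := by
    simpa using Lf (Lf hd (pa d hb00')) (pa e hbb)
  have w11 : Model.Tw z w₁' a₁ true := by
    simpa using Lf (Lf (t1 hw₁) (pa d (aEE a₀ ha₀ a₁ ha₁E))) (pa e b01)
  have w12 : Model.Tw z w₁' a₂ false := by
    simpa using Lf (Lf (t0 c21.symm) (pa d (aEE a₀ ha₀ a₂ ha₂E))) (pa e b02)
  obtain ⟨s₁, hb₁⟩ := mk a₁ w₁' a₁sq (by simpa [Model.Tw] using w11)
  set b₁ := w₁' * a₁ ^ s₁.toNat with hb₁def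
  have b10 : Model.Tw z b₁ a₀ false := by simpa using Lf w10 (pa s₁ (aEE a₁ ha₁E a₀ ha₀))
  have b1b : Model.Tw z b₁ b₀ false := by simpa using Lf w1b (pa s₁ (symm' b01))
  have b11 : Model.Tw z b₁ a₁ true := by simpa using Lf w11 (pa s₁ (aEE a₁ ha₁E a₁ ha₁E))
  have b12 : Model.Tw z b₁ a₂ false := by simpa using Lf w12 (pa s₁ (aEE a₁ ha₁E a₂ ha₂E))
  -- b₂
  obtain ⟨d₀, hd₀⟩ := tz w₂ b₀
  obtain ⟨e₀, he₀⟩ := tz w₂ a₀
  obtain ⟨d₁, hd₁⟩ := tz w₂ b₁
  obtain ⟨e₁, he₁⟩ := tz w₂ a₁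
  set w₂' := w₂ * a₀ ^ d₀.toNat * b₀ ^ e₀.toNat * a₁ ^ d₁.toNat * b₁ ^ e₁.toNat with hw₂'
  have h11' : Model.Tw z a₁ b₁ true := symm' b11
  have h01' : Model.Tw z b₀ b₁ false := symm' b1b
  have w20 : Model.Tw z w₂' a₀ false := by
    simpa using Lf (Lf (Lf (Lf he₀ (pa d₀ (aEE a₀ ha₀ a₀ ha₀))) (pa e₀ b00)) (pa d₁ (aEE a₁ ha₁E a₀ ha₀))) (pa e₁ b10)
  have w2b : Model.Tw z w₂' b₀ false := by
    simpa using Lf (Lf (Lf (Lf hd₀ (pa d₀ hb00')) (pa e₀ hbb)) (pa d₁ (symm' b01))) (pa e₁ b1b)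
  have w21 : Model.Tw z w₂' a₁ false := by
    simpa using Lf (Lf (Lf (Lf he₁ (pa d₀ (aEE a₀ ha₀ a₁ ha₁E))) (pa e₀ b01)) (pa d₁ (aEE a₁ ha₁E a₁ ha₁E))) (pa e₁ b11)
  have w2b1 : Model.Tw z w₂' b₁ false := by
    simpa using Lf (Lf (Lf (Lf hd₁ (pa d₀ (symm' b10))) (pa e₀ h01')) (pa d₁ h11')) (pa e₁ (t0 (rfl : b₁ * b₁ = b₁ * b₁)))
  have w22 : Model.Tw z w₂' a₂ true := by
    simpa using Lf (Lf (Lf (Lf (t1 hw₂) (pa d₀ (aEE a₀ ha₀ a₂ ha₂E))) (pa e₀ b02)) (pa d₁ (aEE a₁ ha₁E a₂ ha₂E))) (pa e₁ b12)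
  obtain ⟨s₂, hb₂⟩ := mk a₂ w₂' a₂sq (by simpa [Model.Tw] using w22)
  set b₂ := w₂' * a₂ ^ s₂.toNat with hb₂def
  have b20 : Model.Tw z b₂ a₀ false := by simpa using Lf w20 (pa s₂ (aEE a₂ ha₂E a₀ ha₀))
  have b21 : Model.Tw z b₂ a₁ false := by simpa using Lf w21 (pa s₂ (aEE a₂ ha₂E a₁ ha₁E))
  have b22 : Model.Tw z b₂ a₂ true := by simpa using Lf w22 (pa s₂ (aEE a₂ ha₂E a₂ ha₂E))
  have b2b : Model.Tw z b₂ b₀ false := by simpa using Lf w2b (pa s₂ (symm' b02))
  have b2b1 : Model.Tw z b₂ b₁ false := by simpa using Lf w2b1 (pa s₂ (symm' b12))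
  refine not_split (a := ![a₀, a₁, a₂]) (b := ![b₀, b₁, b₂]) ⟨hcen, hzsq, hz1, ?_, ?_, ?_, ?_, ?_⟩ hcomm L hL
  · intro i; fin_cases i <;> assumption
  · intro i; fin_cases i <;> assumption
  · have hA : ∀ i, ![a₀, a₁, a₂] i ∈ E := by intro i; fin_cases i <;> assumption
    intro i j; exact hEcomm _ (hA i) _ (hA j)
  · intro i j
    fin_cases i <;> fin_cases j
    exacts [rfl, (f0 b1b).symm, (f0 b2b).symm, f0 b1b, rfl, (f0 b2b1).symm, f0 b2b, f0 b2b1, rfl]
  · intro i j
    fin_cases i <;> fin_cases j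
    exacts [b00, b01, b02, b10, b11, b12, b20, b21, b22]

end Cfsg.Agent.S3085
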