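import Cfsg.Statements.S3087
import Mathlib
-- import your own Cfsg.Agent.* helpers here

set_option autoImplicit false
open Cfsg

namespace Cfsg.Agent.S3087

/-- Let p be a prime, G a finite group acting linearly on a finite vector space V over the field with p elements, W a G-invariant subspace, and A a subgroup of G with |A|·|C_V(A)| ≥ |B|·|C_V(B)| for every subgroup B of A. Then |A|·|C_W(A)| ≥ |B|·|C_W(B)| for every subgroup B of A that contains C_A(W); that is, the image of A in the group induced on W satisfies the same maximality condition. -/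
theorem result {G V : Type*} [Group G] [Finite G] [AddCommGroup V] [Finite V] (p : ℕ) [Fact p.Prime] [Module (ZMod p) V]
    (ρ : Representation (ZMod p) G V) (W : Submodule (ZMod p) V) (hW : ∀ g : G, ∀ w ∈ W, ρ g w ∈ W)
    (A : Subgroup G)
    (hP : ∀ B : Subgroup G, B ≤ A →
      Nat.card ↥B * Nat.card {v : V // ∀ b ∈ B, ρ b v = v} ≤ Nat.card ↥A * Nat.card {v : V // ∀ a ∈ A, ρ a v = v})
    (B : Subgroup G) (hBA : B ≤ A) (hCB : ∀ a ∈ A, (∀ w ∈ W, ρ a w = w) → a ∈ B) :
    Nat.card ↥B * Nat.card {w : W // ∀ b ∈ B, ρ b w = w} ≤ Nat.card ↥A * Nat.card {w : W // ∀ a ∈ A, ρ a w = w} := by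
  classical
  let fx : Subgroup G → AddSubgroup V := fun C =>
    { carrier := {v | ∀ c ∈ C, ρ c v = v}
      zero_mem' := fun c _ => map_zero _
      add_mem' := fun {u v} hu hv c hc => by rw [map_add, hu c hc, hv c hc]
      neg_mem' := fun {u} hu c hc => by rw [map_neg, hu c hc] }
  set X := fx B ⊓ W.toAddSubgroup with hX
  set Y := fx A ⊓ W.toAddSubgroup with hY
  have hXB : X ≤ fx B := inf_le_left
  have hAB : fx A ≤ fx B := fun v hv c hc => hv c (hBA hc)
  have e1 : Nat.card {w : W // ∀ b ∈ B, ρ b w = w} = Nat.card X :=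
    Nat.card_congr ⟨fun w => ⟨w.1.1, w.2, w.1.2⟩, fun v => ⟨⟨v.1, v.2.2⟩, v.2.1⟩, fun _ => rfl, fun _ => rfl⟩
  have e2 : Nat.card {w : W // ∀ a ∈ A, ρ a w = w} = Nat.card Y :=
    Nat.card_congr ⟨fun w => ⟨w.1.1, w.2, w.1.2⟩, fun v => ⟨⟨v.1, v.2.2⟩, v.2.1⟩, fun _ => rfl, fun _ => rfl⟩
  have hAX : fx A ⊓ X = Y := by
    rw [hX, hY, ← inf_assoc, inf_eq_left.2 hAB]
  have hx : Nat.card X = Nat.card Y * (fx A).relIndex X := by
    rw [← hAX]
    have := ((fx A ⊓ X).addSubgroupOf X).card_mul_index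
    rw [Nat.card_congr (AddSubgroup.addSubgroupOfEquivOfLe (inf_le_right : fx A ⊓ X ≤ X)).toEquiv] at this
    rw [← this, ← AddSubgroup.inf_relIndex_right]
    rfl
  have hb : Nat.card (fx B) = Nat.card (fx A) * (fx A).relIndex (fx B) := by
    have := ((fx A).addSubgroupOf (fx B)).card_mul_index
    rw [Nat.card_congr (AddSubgroup.addSubgroupOfEquivOfLe hAB).toEquiv] at this
    exact this.symm
  have hidx : (fx A).relIndex X ≤ (fx A).relIndex (fx B) :=
    AddSubgroup.relIndex_le_of_le_right hXB (by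
      intro h0; rw [h0, mul_zero] at hb; exact Nat.card_pos.ne' hb)
  have hPB : Nat.card ↥B * Nat.card (fx B) ≤ Nat.card ↥A * Nat.card (fx A) := hP B hBA
  rw [e1, e2]
  rw [hb] at hPB
  have hpos : 0 < Nat.card (fx A) := Nat.card_pos
  have hfin : Nat.card B * (fx A).relIndex (fx B) ≤ Nat.card A := by
    refine Nat.le_of_mul_le_mul_right (?_ : _ * Nat.card (fx A) ≤ _ * Nat.card (fx A)) hpos
    rw [mul_assoc, mul_comm ((fx A).relIndex (fx B))]
    exact hPB
  calc Nat.card B * Nat.card X = Nat.card B * (fx A).relIndex X * Nat.card Y := by rw [hx]; ring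
    _ ≤ Nat.card B * (fx A).relIndex (fx B) * Nat.card Y := by gcongr
    _ ≤ Nat.card A * Nat.card Y := by gcongr

end Cfsg.Agent.S3087
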