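import Cfsg.Statements.S3116
import Cfsg.Agent.Lib.Fusion.DihedralModel

set_option autoImplicit false
open Cfsg

namespace Cfsg.Agent.S3116

/-- The automorphism group of a dihedral 2-group of order at least 8, or of a quasi-dihedral (semidihedral) 2-group of order at least 16, is a 2-group. -/
theorem result {X : Type*} [Group X] [Finite X] (h2 : IsPGroup 2 X)
    (h : (∃ n : ℕ, 4 ≤ n ∧ Nonempty (X ≃* DihedralGroup n)) ∨ Cfsg.IsQuasiDihedral X) : IsPGroup 2 (MulAut X) := by
  rcases h with ⟨n, hn, ⟨e⟩⟩ | h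
  · obtain ⟨j, hj⟩ := IsPGroup.iff_card.1 h2
    obtain ⟨k, -, rfl⟩ := (Nat.dvd_prime_pow Nat.prime_two).1 (show n ∣ 2 ^ j from ⟨2, by
      rw [← hj, Nat.card_congr e.toEquiv, DihedralGroup.nat_card, mul_comm]⟩)
    have hk : 2 ≤ k := by
      by_contra h
      have := Nat.pow_le_pow_right (show 0 < 2 by norm_num) (show k ≤ 1 by omega)
      omega
    exact (Fusion.DihedralModel.isPGroup_mulAut_self hk).of_equiv (MulAut.congr e.symm)
  · obtain ⟨n, hn, -, ⟨φ⟩⟩ := Fusion.QuasiDihedral.exists_equiv h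
    exact (Fusion.QuasiDihedral.isPGroup_mulAut_self hn).of_equiv (MulAut.congr φ)

end Cfsg.Agent.S3116
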