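import Cfsg.Statements.S3155
import Mathlib

set_option autoImplicit false
open Cfsg

namespace Cfsg.Agent.S3155

/-- Let B be the direct product of three cyclic groups of order 4. Then the automorphism of B inverting every element is not the square of any automorphism of B. -/
theorem result {B : Type*} [CommGroup B] [Finite B] (hB : Nonempty (B ≃* Multiplicative (ZMod 4 × ZMod 4 × ZMod 4)))
    (τ : B ≃* B) : τ.trans τ ≠ MulEquiv.inv B := by
  intro hτ
  haveI : Fact (1 < 4) := ⟨by norm_num⟩
  obtain ⟨e⟩ := hB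
  let f : (ZMod 4 × ZMod 4 × ZMod 4) →+ (ZMod 4 × ZMod 4 × ZMod 4) :=
    AddMonoidHom.mk' (fun v => Multiplicative.toAdd (e (τ (e.symm (Multiplicative.ofAdd v)))))
      (fun a b => by simp [map_mul])
  let L : (ZMod 4 × ZMod 4 × ZMod 4) →ₗ[ZMod 4] (ZMod 4 × ZMod 4 × ZMod 4) :=
    AddMonoidHom.toZModLinearMap 4 f
  have hLL : L ∘ₗ L = (-1 : ZMod 4) • LinearMap.id := by
    apply LinearMap.ext
    intro v
    have h2 : τ (τ (e.symm (Multiplicative.ofAdd v))) = (e.symm (Multiplicative.ofAdd v))⁻¹ := by
      have h3 := DFunLike.congr_fun hτ (e.symm (Multiplicative.ofAdd v))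
      simpa using h3
    have h4 : L (L v) = -v := by
      change f (f v) = -v
      simp [f, h2]
    simpa using h4
  have hdet : LinearMap.det L * LinearMap.det L = (-1 : ZMod 4) := by
    rw [← LinearMap.det_comp, hLL, LinearMap.det_smul, LinearMap.det_id]
    have h1 : Module.finrank (ZMod 4) (ZMod 4) = 1 := Module.finrank_self _
    have h3 : Module.finrank (ZMod 4) (ZMod 4 × ZMod 4 × ZMod 4) = 3 := by
      rw [Module.finrank_prod, Module.finrank_prod, h1]
    rw [h3]
    decide
  have key : ∀ d : ZMod 4, d * d ≠ -1 := by decide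
  exact key _ hdet

end Cfsg.Agent.S3155
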