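import Cfsg.Statements.S3156
import Cfsg.Agent.Lib.Fusion.SU3Aut

set_option autoImplicit false
open Cfsg

namespace Cfsg.Agent.S3156

/-- If a finite group T is isomorphic to a Sylow 2-subgroup of the projective special unitary group of dimension 3 with parameter 4 (realised over the field with 16 elements), then no subgroup of the automorphism group of T is isomorphic to the symmetric group of degree 3. -/
theorem result {T : Type*} [Group T] [Finite T] (hT : (∃ (F : Type) (_ : Field F) (_ : Fintype F), Fintype.card F = 16 ∧ ∃ S : Sylow 2 (Cfsg.PSU 3 F 4), Nonempty (T ≃* ↥(S : Subgroup (Cfsg.PSU 3 F 4))))) (H : Subgroup (MulAut T)) : ¬ Nonempty (↥H ≃* Equiv.Perm (Fin 3)) := by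
  classical
  obtain ⟨F, iF, iFt, hF, S, ⟨eS⟩⟩ := hT
  rintro ⟨eH⟩
  haveI : Fact (Nat.Prime 2) := ⟨Nat.prime_two⟩
  haveI : CharP F 2 := by
    obtain ⟨p, hp⟩ := CharP.exists F
    obtain ⟨k, hpp, hk⟩ := FiniteField.card F p
    have : p = 2 := by
      have h2 : p ∣ 2 ^ 4 := by
        rw [show (2 : ℕ) ^ 4 = Fintype.card F from hF.symm, hk]; exact dvd_pow_self p k.ne_zero
      exact (Nat.prime_dvd_prime_iff_eq hpp Nat.prime_two).1 (hpp.dvd_of_dvd_pow h2)
    exact this ▸ hp
  have hq : Fintype.card F = 4 ^ 2 := by rw [hF]; norm_num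
  have hch := SU3Index2.Chart.congr eS (SU3Index2.chart_sylow_psu hq (by decide) S)
  obtain ⟨K, Φ, hmul, -, hK, -, hcK, -⟩ :=
    SU3Index2.aut_structure (n := 2) (by norm_num) (by norm_num) hq hch
  -- the two generators
  obtain ⟨ρ, hρ⟩ : ∃ ρ : MulAut T, ρ = (eH.symm (finRotate 3) : MulAut T) := ⟨_, rfl⟩
  obtain ⟨x, hx⟩ : ∃ x : MulAut T, x = (eH.symm (Equiv.swap 0 1) : MulAut T) := ⟨_, rfl⟩
  have hρ3 : ρ * (ρ * ρ) = 1 := by
    rw [hρ, ← Subgroup.coe_mul, ← Subgroup.coe_mul, ← map_mul, ← map_mul,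
      show finRotate 3 * (finRotate 3 * finRotate 3) = 1 by decide, map_one, Subgroup.coe_one]
  have hx2 : x * x = 1 := by
    rw [hx, ← Subgroup.coe_mul, ← map_mul, Equiv.swap_mul_self, map_one, Subgroup.coe_one]
  have hxr : x * ρ = ρ * ρ * x := by
    rw [hρ, hx, ← Subgroup.coe_mul, ← Subgroup.coe_mul, ← Subgroup.coe_mul, ← map_mul, ← map_mul,
      ← map_mul, show Equiv.swap (0 : Fin 3) 1 * finRotate 3 = finRotate 3 * finRotate 3 * Equiv.swap 0 1 by
        decide]
  have hρ1 : ρ ≠ 1 := fun h => by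
    rw [hρ] at h
    have h1 : eH.symm (finRotate 3) = 1 := Subtype.ext h
    exact absurd (eH.symm.map_eq_one_iff.1 h1) (by decide)
  have h1Φ : Φ 1 = (1, RingEquiv.refl F) := (hK 1).1 (one_mem K)
  -- the image of ρ
  obtain ⟨⟨a, τ⟩, ha⟩ : ∃ y, Φ ρ = y := ⟨_, rfl⟩
  obtain ⟨⟨b, σ⟩, hb⟩ : ∃ y, Φ x = y := ⟨_, rfl⟩
  have e3 := congrArg Φ hρ3
  rw [hmul, hmul, ha, h1Φ] at e3
  have e2 := congrArg Φ hx2
  rw [hmul, hb, h1Φ] at e2
  have hτ3 : τ * (τ * τ) = 1 := congrArg Prod.snd e3
  have hcard : Nat.card (F ≃+* F) = 4 :=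
    SU3Index2.card_ringEquiv_self' 2 4 (by rw [hF]; norm_num)
  have hτ : τ = 1 := by
    haveI : Finite (F ≃+* F) := Nat.finite_of_card_ne_zero (by rw [hcard]; norm_num)
    have h4 : τ ^ 4 = 1 := by rw [← hcard]; exact pow_card_eq_one'
    rw [pow_succ', pow_succ', pow_succ', pow_one, hτ3, mul_one] at h4
    exact h4
  subst hτ
  have ha3 : (a : F) * ((a : F) * a) = 1 := by
    have := congrArg (fun y : Fˣ × (F ≃+* F) => (y.1 : F)) e3
    simpa using this
  have ha1 : (a : F) ≠ 1 := fun h => by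
    have ha' : a = 1 := Units.ext h
    have hρK : ρ ∈ K := (hK ρ).2 (by rw [ha, ha']; rfl)
    have hd : orderOf (⟨ρ, hρK⟩ : K) ∣ 2 ^ (2 * 2 ^ 2) := hcK ▸ orderOf_dvd_natCard _
    have h3 : orderOf ρ = 3 := by
      haveI : Fact (Nat.Prime 3) := ⟨Nat.prime_three⟩
      exact orderOf_eq_prime (by rw [pow_succ', pow_two]; exact hρ3) hρ1
    rw [Subgroup.orderOf_mk, h3] at hd
    revert hd; norm_num
  -- σ inverts a
  have hxr' := congrArg Φ hxr
  rw [hmul x ρ, hmul (ρ * ρ), hmul ρ ρ, ha, hb] at hxr'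
  have hσa : σ a = (a : F) * a := by
    have := congrArg (fun y : Fˣ × (F ≃+* F) => (y.1 : F)) hxr'
    simp at this
    exact mul_left_cancel₀ b.ne_zero (by linear_combination this)
  have hσ2 : ∀ c, σ (σ c) = c := fun c => RingEquiv.congr_fun (congrArg Prod.snd e2) c
  -- the fixed field of σ is the field with four elements
  let E : Subfield F := (σ : F →+* F).eqLocusField (RingHom.id F)
  have hE : ∀ c, c ∈ E ↔ σ c = c := fun c => Iff.rfl
  have haE : (a : F) ∉ E := fun h => ha1 (by
    have e := (hE a).1 h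
    rw [hσa] at e
    exact mul_right_cancel₀ a.ne_zero (e.trans (one_mul _).symm))
  let M : F →+ F := σ.toAddMonoidHom + AddMonoidHom.id F
  have hker : M.ker = E.toAddSubgroup := by
    ext c
    show σ c + c = 0 ↔ _
    rw [CharTwo.add_eq_zero]
    exact (hE c).symm
  have hle : M.range ≤ M.ker := by
    rintro _ ⟨c, rfl⟩
    rw [hker]
    show σ (σ c + c) = σ c + c
    rw [map_add, hσ2, add_comm]
  have hcount := SU3Index2.card_ker_mul_range M
  rw [Nat.card_eq_fintype_card (α := F), hF] at hcount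
  have hler := AddSubgroup.card_le_of_le hle
  have hE4 : 4 ≤ Nat.card M.ker := by nlinarith
  haveI : Fintype E := Fintype.ofFinite _
  have hEM : Nat.card M.ker = Fintype.card E := by rw [hker, ← Nat.card_eq_fintype_card]; rfl
  have hpow : ∀ c ∈ E, c ^ 4 = c := by
    intro c hc
    have h := Subtype.ext_iff.1 (FiniteField.pow_card (⟨c, hc⟩ : E))
    push_cast at h
    rw [← hEM] at h
    have h16 : c ^ 16 = c := by rw [← hF]; exact FiniteField.pow_card c
    have hd : Nat.card M.ker ∣ 2 ^ 4 := ⟨Nat.card M.range, hcount.symm⟩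
    obtain ⟨k, hk4, hk⟩ := (Nat.dvd_prime_pow Nat.prime_two).1 hd
    interval_cases k
    · omega
    · omega
    · rw [hk] at h; exact h
    · exfalso
      -- order eight would force all elements of E to be idempotent
      have hall : ∀ d ∈ E, d = 0 ∨ d = 1 := by
        intro d hd'
        have h8 := Subtype.ext_iff.1 (FiniteField.pow_card (⟨d, hd'⟩ : E))
        push_cast at h8
        rw [← hEM, hk] at h8
        have h16' : d ^ 16 = d := by rw [← hF]; exact FiniteField.pow_card d
        have hdd : d * d = d := by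
          calc d * d = d ^ 8 * d ^ 8 := by rw [show d ^ 8 = d from h8]
            _ = d ^ 16 := by ring
            _ = d := h16'
        rcases eq_or_ne d 0 with h0 | h0
        · exact Or.inl h0
        · exact Or.inr (mul_right_cancel₀ h0 (hdd.trans (one_mul d).symm))
      have hle2 : Fintype.card E ≤ 2 := by
        refine (Fintype.card_le_of_injective (fun d : E => decide ((d : F) = 0)) fun d e hde => ?_).trans_eq
          Fintype.card_bool
        simp only [decide_eq_decide] at hde
        rcases hall d d.2 with h0 | h0 <;> rcases hall e e.2 with h0' | h0'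
        · exact Subtype.ext (h0.trans h0'.symm)
        · exact absurd (h0'.symm.trans (hde.1 h0)) one_ne_zero
        · exact absurd (h0.symm.trans (hde.2 h0')) one_ne_zero
        · exact Subtype.ext (h0.trans h0'.symm)
      rw [hk] at hEM
      omega
    · exfalso
      have hbij := (Fintype.bijective_iff_injective_and_card (Subtype.val : E → F)).2
        ⟨Subtype.val_injective, by rw [← hEM, hk, hF]; norm_num⟩
      obtain ⟨⟨d, hd'⟩, hd''⟩ := hbij.2 a
      exact haE (hd'' ▸ hd')
  have hfin : (E : Set F) = {c : F | c ^ 4 = c} := by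
    refine Set.eq_of_subset_of_ncard_le (fun c hc => hpow c hc) ?_ (Set.toFinite _)
    rw [← Nat.card_coe_set_eq, ← Nat.card_coe_set_eq, show Nat.card {c : F | c ^ 4 = c} = 4 from
      SU3Index2.card_fix hq]
    show 4 ≤ Nat.card E
    rwa [Nat.card_eq_fintype_card, ← hEM]
  apply haE
  show (a : F) ∈ (E : Set F)
  rw [hfin]
  show (a : F) ^ 4 = a
  linear_combination (a : F) * ha3

end Cfsg.Agent.S3156
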