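import Cfsg.Statements.S3158
import Mathlib
import Cfsg.Agent.Lib.Local.PGroup

set_option autoImplicit false
open Cfsg

namespace Cfsg.Agent.S3158

/-- Let U be a group of order q² with q = 2^n ≥ 2, and y an automorphism of U of order q − 1 all of whose nontrivial powers fix only the identity. Let V be a proper normal y-invariant subgroup of U such that V and U/V are elementary abelian 2-groups and there is an isomorphism from V to U/V commuting with the actions of y. Then U is abelian. -/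
theorem result {U : Type*} [Group U] [Finite U] (n : ℕ) (hn : 1 ≤ n) (hU : Nat.card U = (2 ^ n) ^ 2)
    (y : MulAut U) (hy : orderOf y = 2 ^ n - 1) (hfp : ∀ k : ℕ, y ^ k ≠ 1 → ∀ u : U, (y ^ k) u = u → u = 1)
    (V : Subgroup U) [V.Normal] (hV : V ≠ ⊤) (hyV : ∀ v ∈ V, y v ∈ V)
    (hVe : ∀ v ∈ V, v ^ 2 = 1) (hQe : ∀ u : U, u ^ 2 ∈ V) (hQc : ∀ u w : U, u * w * u⁻¹ * w⁻¹ ∈ V)
    (φ : ↥V ≃* U ⧸ V) (hφ : ∀ (v : ↥V) (u : U), (QuotientGroup.mk u : U ⧸ V) = φ v → φ ⟨y v, hyV v v.2⟩ = QuotientGroup.mk (y u)) :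
    IsMulCommutative U := by
  classical
  haveI : Fintype ↥V := Fintype.ofFinite _
  haveI : Fact (Nat.Prime 2) := ⟨Nat.prime_two⟩
  have hVy : ∀ (k : ℕ), ∀ v ∈ V, (y ^ k) v ∈ V := by
    intro k
    induction k with
    | zero => intro v hv; simpa using hv
    | succ k ih => intro v hv; rw [pow_succ', MulAut.mul_apply]; exact hyV _ (ih v hv)
  have hφk : ∀ (k : ℕ) (v : ↥V) (u : U), (QuotientGroup.mk u : U ⧸ V) = φ v →
      φ ⟨(y ^ k) v, hVy k v v.2⟩ = QuotientGroup.mk ((y ^ k) u) := by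
    intro k
    induction k with
    | zero => intro v u h; simpa using h.symm
    | succ k ih =>
      intro v u h
      have h1 := hφ ⟨(y ^ k) v, hVy k v v.2⟩ ((y ^ k) u) (ih v u h).symm
      have e1 : (⟨(y ^ (k + 1)) v, hVy (k + 1) v v.2⟩ : ↥V) = ⟨y ((y ^ k) v), hyV _ (hVy k v v.2)⟩ :=
        Subtype.ext (by
          change (y ^ (k + 1)) (v : U) = y ((y ^ k) v)
          rw [pow_succ', MulAut.mul_apply])
      rw [e1, pow_succ', MulAut.mul_apply]
      exact h1
  have hcard : Nat.card ↥V = 2 ^ n := by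
    have h1 := V.card_mul_index
    rw [Subgroup.index_eq_card, ← Nat.card_congr φ.toEquiv, hU, ← pow_two] at h1
    exact (Nat.pow_left_injective (by norm_num)) h1
  -- the nontrivial elements of `V` form one orbit
  have htrans : ∀ v w : ↥V, v ≠ 1 → w ≠ 1 → ∃ k : ℕ, w = ⟨(y ^ k) v, hVy k v v.2⟩ := by
    intro v w hv hw
    have hlt : ∀ i j : Fin (2 ^ n - 1), (y ^ (i : ℕ)) (v : U) = (y ^ (j : ℕ)) v → i ≤ j → i = j := by
      intro i j h hij
      by_contra hne
      have hle : (i : ℕ) ≤ j := hij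
      have hk : y ^ ((j : ℕ) - i) ≠ 1 := pow_ne_one_of_lt_orderOf
        (by have : (i : ℕ) ≠ j := fun e => hne (Fin.ext e); omega) (by rw [hy]; have := j.2; omega)
      apply hv
      apply Subtype.ext
      refine hfp _ hk v ?_
      apply (y ^ (i : ℕ)).injective
      rw [← MulAut.mul_apply, ← pow_add, Nat.add_sub_cancel' hle]
      exact h.symm
    let f : Fin (2 ^ n - 1) → {x : ↥V // x ≠ 1} := fun i => ⟨⟨(y ^ (i : ℕ)) v, hVy _ v v.2⟩, fun h => hv (Subtype.ext
      ((y ^ (i : ℕ)).injective ((congrArg Subtype.val h).trans (map_one _).symm)))⟩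
    have hinj : Function.Injective f := by
      intro i j h
      have h' : (y ^ (i : ℕ)) (v : U) = (y ^ (j : ℕ)) v := congrArg Subtype.val (congrArg Subtype.val h)
      rcases le_total i j with hij | hij
      · exact hlt i j h' hij
      · exact (hlt j i h'.symm hij).symm
    have hbij := hinj.bijective_of_nat_card_le (le_of_eq (by
      rw [Nat.card_fin, Nat.card_eq_fintype_card, Fintype.card_subtype_compl, Fintype.card_subtype_eq,
        ← Nat.card_eq_fintype_card, hcard]))
    obtain ⟨i, hi⟩ := hbij.2 ⟨w, hw⟩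
    exact ⟨i, (congrArg Subtype.val hi).symm⟩
  -- `V` is central
  have hVZ : V ≤ Subgroup.center U := by
    by_cases hVbot : V = ⊥
    · rw [hVbot]; exact bot_le
    have hP : IsPGroup 2 U := IsPGroup.of_card (n := n * 2) (by rw [hU, ← pow_mul])
    obtain ⟨z, hz, hz1⟩ := (Subgroup.bot_or_exists_ne_one _).resolve_left (Cfsg.Agent.Local.inf_center_ne_bot hP V hVbot)
    intro v hv
    by_cases hv1 : v = 1
    · rw [hv1]; exact Subgroup.one_mem _
    obtain ⟨k, hk⟩ := htrans ⟨z, hz.1⟩ ⟨v, hv⟩ (fun e => hz1 (congrArg Subtype.val e)) (fun e => hv1 (congrArg Subtype.val e))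
    rw [show v = (y ^ k) z from congrArg Subtype.val hk, Subgroup.mem_center_iff]
    intro g
    obtain ⟨g', rfl⟩ := (y ^ k).surjective g
    rw [← map_mul, ← map_mul, Subgroup.mem_center_iff.mp hz.2 g']
  have hsq : ∀ u v : U, v ∈ V → (u * v) ^ 2 = u ^ 2 := by
    intro u v hv
    have hvv : v * v = 1 := by rw [← pow_two]; exact hVe v hv
    rw [pow_two, pow_two]
    calc u * v * (u * v) = u * (v * u) * v := by group
      _ = u * (u * v) * v := by rw [← Subgroup.mem_center_iff.mp (hVZ hv) u]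
      _ = u * u * (v * v) := by group
      _ = u * u := by rw [hvv, mul_one]
  by_cases hexp : ∀ u : U, u ^ 2 = 1
  · refine ⟨⟨fun a b => ?_⟩⟩
    have h1 := hexp (a * b); have h2 := hexp a; have h3 := hexp b
    rw [pow_two] at h1 h2 h3
    rw [eq_inv_of_mul_eq_one_left h1, mul_inv_rev, ← eq_inv_of_mul_eq_one_left h2, ← eq_inv_of_mul_eq_one_left h3]
  push_neg at hexp
  obtain ⟨a, ha⟩ := hexp
  have haV : a ∉ V := fun h => ha (hVe a h)
  obtain ⟨va, hva⟩ := φ.surjective (QuotientGroup.mk a)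
  have hva1 : va ≠ 1 := by
    intro h
    rw [h, map_one, eq_comm, QuotientGroup.eq_one_iff] at hva
    exact haV hva
  obtain ⟨m, hm⟩ := htrans va ⟨a ^ 2, hQe a⟩ hva1 (fun h => ha (congrArg Subtype.val h))
  have main : ∀ u : U, φ ⟨u ^ 2, hQe u⟩ = QuotientGroup.mk ((y ^ m) u) := by
    intro u
    by_cases hu : u ∈ V
    · rw [(QuotientGroup.eq_one_iff _).mpr (hVy m u hu)]
      rw [show (⟨u ^ 2, hQe u⟩ : ↥V) = 1 from Subtype.ext (hVe u hu), map_one]
    · obtain ⟨vu, hvu⟩ := φ.surjective (QuotientGroup.mk u)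
      have hvu1 : vu ≠ 1 := by
        intro h
        rw [h, map_one, eq_comm, QuotientGroup.eq_one_iff] at hvu
        exact hu hvu
      obtain ⟨k, hk⟩ := htrans va vu hva1 hvu1
      have h1 : (QuotientGroup.mk u : U ⧸ V) = QuotientGroup.mk ((y ^ k) a) := by
        rw [← hvu, hk]; exact hφk k va a hva.symm
      obtain ⟨v, hv, huv⟩ : ∃ v ∈ V, u = (y ^ k) a * v :=
        ⟨((y ^ k) a)⁻¹ * u, QuotientGroup.eq.mp h1.symm, by group⟩
      have h2 : u ^ 2 = (y ^ (k + m)) (va : U) := by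
        rw [huv, hsq _ _ hv, ← map_pow, pow_add, MulAut.mul_apply]
        exact congrArg (y ^ k) (congrArg Subtype.val hm)
      have h3 : (⟨u ^ 2, hQe u⟩ : ↥V) = ⟨(y ^ (k + m)) va, hVy _ va va.2⟩ := Subtype.ext h2
      rw [h3, hφk (k + m) va a hva.symm, add_comm, pow_add, MulAut.mul_apply, huv, map_mul, QuotientGroup.mk_mul,
        (QuotientGroup.eq_one_iff _).mpr (hVy m v hv), mul_one]
  refine ⟨⟨fun b c => ?_⟩⟩
  have h1 := main (b * c)
  rw [map_mul, QuotientGroup.mk_mul, ← main b, ← main c, ← map_mul] at h1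
  have h2 : (b * c) ^ 2 = b ^ 2 * c ^ 2 := congrArg Subtype.val (φ.injective h1)
  rw [pow_two, pow_two, pow_two] at h2
  have h3 : b * (c * b) * c = b * (b * c) * c := by
    calc b * (c * b) * c = b * c * (b * c) := by group
      _ = b * b * (c * c) := h2
      _ = b * (b * c) * c := by group
  exact (mul_left_cancel (mul_right_cancel h3)).symm

end Cfsg.Agent.S3158
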