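import Cfsg.Statements.S3163
import Mathlib

set_option autoImplicit false
open Cfsg

namespace Cfsg.Agent.S3163

/-- Let S be a non-abelian finite 2-group which is the product S = AB of two elementary abelian subgroups A and B, and suppose that the centralizer in S of every element of A outside B is exactly A. Then the centralizer of every element of B outside A is exactly B; A and B are maximal elementary abelian subgroups of S and the only ones; the centre of S is A ∩ B; and every element of S outside A ∪ B has centralizer of order at most min(|A|, |B|). -/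
theorem result {S : Type*} [Group S] [Finite S] (hS : IsPGroup 2 S) (hna : ¬ IsMulCommutative S) (A B : Subgroup S)
    (hA : Cfsg.IsElementaryAbelian 2 A) (hB : Cfsg.IsElementaryAbelian 2 B) (hAB : ∀ s : S, ∃ a ∈ A, ∃ b ∈ B, s = a * b)
    (hC : ∀ a ∈ A, a ∉ B → Subgroup.centralizer ({a} : Set S) = A) :
    (∀ b ∈ B, b ∉ A → Subgroup.centralizer ({b} : Set S) = B) ∧
      (∀ E : Subgroup S, Cfsg.IsElementaryAbelian 2 E → (∀ E' : Subgroup S, Cfsg.IsElementaryAbelian 2 E' → E ≤ E' → E' = E) → E = A ∨ E = B) ∧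
      (∀ E' : Subgroup S, Cfsg.IsElementaryAbelian 2 E' → A ≤ E' → E' = A) ∧ (∀ E' : Subgroup S, Cfsg.IsElementaryAbelian 2 E' → B ≤ E' → E' = B) ∧
      Subgroup.center S = A ⊓ B ∧
      (∀ x : S, x ∉ A → x ∉ B → Nat.card ↥(Subgroup.centralizer ({x} : Set S)) ≤ min (Nat.card ↥A) (Nat.card ↥B)) := by
  haveI : Fact (Nat.Prime 2) := ⟨Nat.prime_two⟩
  have hAc : ∀ a ∈ A, ∀ a' ∈ A, a * a' = a' * a := fun a ha a' ha' =>
    congrArg Subtype.val (hA.1.is_comm.comm ⟨a, ha⟩ ⟨a', ha'⟩)
  have hBc : ∀ a ∈ B, ∀ a' ∈ B, a * a' = a' * a := fun a ha a' ha' =>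
    congrArg Subtype.val (hB.1.is_comm.comm ⟨a, ha⟩ ⟨a', ha'⟩)
  have hBA : ∀ s : S, ∃ b ∈ B, ∃ a ∈ A, s = b * a := by
    intro s
    obtain ⟨a, ha, b, hb, h⟩ := hAB s⁻¹
    exact ⟨b⁻¹, B.inv_mem hb, a⁻¹, A.inv_mem ha, by rw [← mul_inv_rev, ← h, inv_inv]⟩
  have hnAB : ¬ A ≤ B := by
    intro h
    refine hna ⟨⟨fun s t => ?_⟩⟩
    obtain ⟨a, ha, b, hb, rfl⟩ := hAB s
    obtain ⟨a', ha', b', hb', rfl⟩ := hAB t
    exact hBc _ (B.mul_mem (h ha) hb) _ (B.mul_mem (h ha') hb')
  have hnBA : ¬ B ≤ A := by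
    intro h
    refine hna ⟨⟨fun s t => ?_⟩⟩
    obtain ⟨a, ha, b, hb, rfl⟩ := hAB s
    obtain ⟨a', ha', b', hb', rfl⟩ := hAB t
    exact hAc _ (A.mul_mem ha (h hb)) _ (A.mul_mem ha' (h hb'))
  -- an element of `A` commuting with an element of `B \ A` lies in `B`
  have hcross : ∀ a ∈ A, ∀ b, b ∉ A → a * b = b * a → a ∈ B := by
    intro a ha b hb h
    by_contra haB
    apply hb
    rw [← hC a ha haB, Subgroup.mem_centralizer_singleton_iff]
    exact h.symm
  have hCB : ∀ b ∈ B, b ∉ A → Subgroup.centralizer ({b} : Set S) = B := by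
    intro b hb hbA
    refine le_antisymm (fun x hx => ?_) (fun x hx => Subgroup.mem_centralizer_singleton_iff.mpr (hBc x hx b hb))
    rw [Subgroup.mem_centralizer_singleton_iff] at hx
    obtain ⟨a', ha', b', hb', rfl⟩ := hAB x
    have h1 : a' * b = b * a' := by
      apply mul_right_cancel (b := b')
      calc a' * b * b' = a' * (b' * b) := by rw [mul_assoc, hBc b hb b' hb']
        _ = b * (a' * b') := by rw [← mul_assoc, hx]
        _ = b * a' * b' := by rw [mul_assoc]
    exact B.mul_mem (hcross a' ha' b hbA h1) hb'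
  obtain ⟨a₀, ha₀, ha₀B⟩ := Set.not_subset.mp (fun h => hnAB h)
  obtain ⟨b₀, hb₀, hb₀A⟩ := Set.not_subset.mp (fun h => hnBA h)
  have hEA : ∀ E : Subgroup S, Cfsg.IsElementaryAbelian 2 E → ∀ a ∈ E, a ∈ A → a ∉ B → E ≤ A := by
    intro E hE a haE haA haB e he
    rw [← hC a haA haB, Subgroup.mem_centralizer_singleton_iff]
    exact congrArg Subtype.val (hE.1.is_comm.comm ⟨e, he⟩ ⟨a, haE⟩)
  have hEB : ∀ E : Subgroup S, Cfsg.IsElementaryAbelian 2 E → ∀ b ∈ E, b ∈ B → b ∉ A → E ≤ B := by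
    intro E hE b hbE hbB hbA e he
    rw [← hCB b hbB hbA, Subgroup.mem_centralizer_singleton_iff]
    exact congrArg Subtype.val (hE.1.is_comm.comm ⟨e, he⟩ ⟨b, hbE⟩)
  have hEAB : ∀ E : Subgroup S, Cfsg.IsElementaryAbelian 2 E → E ≤ A ∨ E ≤ B := by
    intro E hE
    by_cases h1 : ∃ e ∈ E, e ∈ A ∧ e ∉ B
    · obtain ⟨e, he, heA, heB⟩ := h1
      exact Or.inl (hEA E hE e he heA heB)
    by_cases h2 : ∃ e ∈ E, e ∈ B ∧ e ∉ A
    · obtain ⟨e, he, heB, heA⟩ := h2
      exact Or.inr (hEB E hE e he heB heA)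
    push_neg at h1 h2
    left
    intro e he
    by_contra heA
    obtain ⟨a, ha, b, hb, rfl⟩ := hAB e
    have heB : a * b ∉ B := fun h => heA (h2 _ he h)
    have haB : a ∉ B := fun h => heB (B.mul_mem h hb)
    have hbA : b ∉ A := fun h => heA (A.mul_mem ha h)
    have h3 := hE.2 _ he
    have ha2 := hA.2 a ha
    have hb2 := hB.2 b hb
    rw [pow_two] at h3 ha2 hb2
    have h4 : a * b = b * a := by
      rw [eq_inv_of_mul_eq_one_left h3, mul_inv_rev, ← eq_inv_of_mul_eq_one_left ha2,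
        ← eq_inv_of_mul_eq_one_left hb2]
    exact haB (hcross a ha b hbA h4)
  refine ⟨hCB, fun E hE hmax => ?_, fun E' hE' h => ?_, fun E' hE' h => ?_, ?_, fun x hxA hxB => ?_⟩
  · rcases hEAB E hE with h | h
    · exact Or.inl (hmax A hA h).symm
    · exact Or.inr (hmax B hB h).symm
  · exact le_antisymm (hEA E' hE' a₀ (h ha₀) ha₀ ha₀B) h
  · exact le_antisymm (hEB E' hE' b₀ (h hb₀) hb₀ hb₀A) h
  · ext z
    rw [Subgroup.mem_center_iff, Subgroup.mem_inf]
    constructor
    · intro hz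
      constructor
      · rw [SetLike.mem_coe] at ha₀
        rw [← hC a₀ ha₀ ha₀B, Subgroup.mem_centralizer_singleton_iff]; exact (hz a₀).symm
      · rw [← hCB b₀ hb₀ hb₀A, Subgroup.mem_centralizer_singleton_iff]; exact (hz b₀).symm
    · rintro ⟨hzA, hzB⟩ g
      obtain ⟨a, ha, b, hb, rfl⟩ := hAB g
      rw [mul_assoc, hBc b hb z hzB, ← mul_assoc, hAc a ha z hzA, mul_assoc]
  · set C := Subgroup.centralizer ({x} : Set S)
    obtain ⟨a₁, ha₁, b₁, hb₁, hx⟩ := hAB x
    have ha₁B : a₁ ∉ B := fun h => hxB (hx ▸ B.mul_mem h hb₁)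
    have hb₁A : b₁ ∉ A := fun h => hxA (hx ▸ A.mul_mem ha₁ h)
    have hAC : A ⊓ C ≤ A ⊓ B := by
      rintro a ⟨ha, hac⟩
      refine ⟨ha, hcross a ha b₁ hb₁A ?_⟩
      have h1 : a * x = x * a := Subgroup.mem_centralizer_singleton_iff.mp hac
      rw [hx] at h1
      apply mul_left_cancel (a := a₁)
      calc a₁ * (a * b₁) = a * a₁ * b₁ := by rw [← mul_assoc, hAc a₁ ha₁ a ha]
        _ = a₁ * b₁ * a := by rw [mul_assoc, h1]
        _ = a₁ * (b₁ * a) := by rw [mul_assoc]
    have hBC' : B ⊓ C ≤ A ⊓ B := by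
      rintro b ⟨hb, hbc⟩
      have h1 : b * x = x * b := Subgroup.mem_centralizer_singleton_iff.mp hbc
      rw [hx] at h1
      refine ⟨?_, hb⟩
      by_contra hbA
      refine ha₁B (hcross a₁ ha₁ b hbA ?_)
      apply mul_right_cancel (b := b₁)
      calc a₁ * b * b₁ = a₁ * b₁ * b := by rw [mul_assoc, hBc b hb b₁ hb₁, ← mul_assoc]
        _ = b * a₁ * b₁ := by rw [← h1, mul_assoc]
    have key : ∀ P Q : Subgroup S, (∀ s : S, ∃ q ∈ Q, ∃ p ∈ P, s = q * p) → P ⊓ C ≤ P ⊓ Q →
        Nat.card ↥C ≤ Nat.card ↥Q := by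
      intro P Q hPQ hle
      have hidx : P.index ≤ P.relIndex Q := by
        rw [Subgroup.relIndex, Subgroup.index, Subgroup.index]
        refine Nat.card_le_card_of_surjective
          (Quotient.map' (fun q : ↥Q => (q : S)) (fun a b h => ?_) :
            (↥Q ⧸ P.subgroupOf Q) → S ⧸ P) ?_
        · rw [QuotientGroup.leftRel_apply] at h ⊢
          exact h
        · intro s
          induction s using QuotientGroup.induction_on with
          | H s =>
            obtain ⟨q, hq, p, hp, rfl⟩ := hPQ s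
            refine ⟨QuotientGroup.mk ⟨q, hq⟩, ?_⟩
            change (QuotientGroup.mk q : S ⧸ P) = QuotientGroup.mk (q * p)
            rw [QuotientGroup.eq]
            simpa using hp
      have hcard : ∀ R : Subgroup S, Nat.card ↥R = P.relIndex R * Nat.card ↥(P ⊓ R : Subgroup S) := by
        intro R
        rw [Subgroup.relIndex, mul_comm]
        have e : Nat.card ↥(P.subgroupOf R) = Nat.card ↥(P ⊓ R : Subgroup S) :=
          (Nat.card_congr (Subgroup.equivMapOfInjective _ R.subtype R.subtype_injective).toEquiv).trans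
            (by rw [Subgroup.subgroupOf_map_subtype]) 
        rw [← e, Subgroup.card_mul_index]
      rw [hcard C, hcard Q]
      exact Nat.mul_le_mul (((Subgroup.relIndex_le_of_le_right le_top (by rw [Subgroup.relIndex_top_right]; exact Subgroup.index_ne_zero_of_finite)).trans_eq P.relIndex_top_right).trans hidx)
        (Subgroup.card_le_of_le hle)
    exact le_min (key B A (fun s => hAB s) (by rw [inf_comm A B] at hBC'; exact hBC')) (key A B hBA hAC)

end Cfsg.Agent.S3163
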