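import Cfsg.Statements.S3164
import Cfsg.Agent.Lib.Local.FStar
import Cfsg.Agent.Lib.Local.PLayer
import Cfsg.Agent.S1324

set_option autoImplicit false
open Cfsg

namespace Cfsg.Agent.S3164

open scoped commutatorElement
open Subgroup

variable {G : Type*} [Group G] [Finite G]

/-- In a centralizer with cyclic Sylow `2`-subgroups, commuting involutions coincide. -/
theorem involution_eq {C : Subgroup G} (hcyc : ∀ R : Sylow 2 ↥C, IsCyclic ↥(R : Subgroup ↥C)) {t u : G}
    (ht : orderOf t = 2) (htC : t ∈ C) (hu : orderOf u = 2) (huC : u ∈ C) (hcomm : Commute t u) : u = t := by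
  classical
  haveI : Fact (Nat.Prime 2) := ⟨Nat.prime_two⟩
  set T : C := ⟨t, htC⟩
  set U : C := ⟨u, huC⟩
  have hT : T ^ 2 = 1 := Subtype.ext (by rw [← ht]; exact pow_orderOf_eq_one t)
  have hU : U ^ 2 = 1 := Subtype.ext (by rw [← hu]; exact pow_orderOf_eq_one u)
  have hc : Commute T U := Subtype.ext hcomm
  have hp : IsPGroup 2 ↥(Subgroup.zpowers T ⊔ Subgroup.zpowers U) := by
    refine IsPGroup.to_sup_of_normal_right' ?_ ?_ ?_
    · exact IsPGroup.of_card (n := 1) (by rw [Nat.card_zpowers, ← Subgroup.orderOf_coe, pow_one]; exact ht)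
    · exact IsPGroup.of_card (n := 1) (by rw [Nat.card_zpowers, ← Subgroup.orderOf_coe, pow_one]; exact hu)
    · rw [Subgroup.zpowers_le, Subgroup.mem_normalizer_iff]
      intro h
      constructor
      · rintro ⟨i, rfl⟩
        exact ⟨i, by simp [(hc.zpow_right i).eq]⟩
      · rintro ⟨i, hi⟩
        refine ⟨i, ?_⟩
        have := (hc.zpow_right i).eq
        calc U ^ i = T⁻¹ * (T * U ^ i * T⁻¹) * T := by group
          _ = T⁻¹ * (U ^ i) * T := by rw [this]; group
          _ = T⁻¹ * (T * h * T⁻¹) * T := by simp only at hi; rw [hi]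
          _ = h := by group
  obtain ⟨R, hR⟩ := hp.exists_le_sylow
  haveI := hcyc R
  have hTR : T ∈ (R : Subgroup C) := hR (Subgroup.mem_sup_left (Subgroup.mem_zpowers T))
  have hUR : U ∈ (R : Subgroup C) := hR (Subgroup.mem_sup_right (Subgroup.mem_zpowers U))
  by_contra hne
  haveI : Fintype ↥(R : Subgroup C) := Fintype.ofFinite _
  have hcard := IsCyclic.card_pow_eq_one_le (α := ↥(R : Subgroup C)) (n := 2) (by norm_num)
  have hle : ({1, ⟨T, hTR⟩, ⟨U, hUR⟩} : Finset ↥(R : Subgroup C)) ⊆ ({a : ↥(R : Subgroup C) | a ^ 2 = 1} : Finset _) := by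
    intro a ha
    simp only [Finset.mem_insert, Finset.mem_singleton] at ha
    simp only [Finset.mem_filter, Finset.mem_univ, true_and]
    rcases ha with rfl | rfl | rfl
    · exact one_pow 2
    · exact Subtype.ext hT
    · exact Subtype.ext hU
  have hT1 : t ≠ 1 := fun e => by simp [e] at ht
  have hU1 : u ≠ 1 := fun e => by simp [e] at hu
  have h3 : ({1, ⟨T, hTR⟩, ⟨U, hUR⟩} : Finset ↥(R : Subgroup C)).card = 3 := by
    rw [Finset.card_insert_of_notMem, Finset.card_insert_of_notMem, Finset.card_singleton]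
    · simp only [Finset.mem_singleton]
      exact fun e => hne (congrArg (fun a : ↥(R : Subgroup C) => ((a : C) : G)) e).symm
    · simp only [Finset.mem_insert, Finset.mem_singleton, not_or]
      exact ⟨fun e => hT1 (congrArg (fun a : ↥(R : Subgroup C) => ((a : C) : G)) e).symm,
        fun e => hU1 (congrArg (fun a : ↥(R : Subgroup C) => ((a : C) : G)) e).symm⟩
  have := Finset.card_le_card hle
  omega

/-- An element moved by `t` giving a commutator that is an involution commuting with `t`. -/
theorem exists_commutator_involution {t : G} (ht : orderOf t = 2) {R : Subgroup G} (hR : IsPGroup 2 ↥R)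
    (hRt : ∀ r ∈ R, t * r * t⁻¹ ∈ R) (hne : ⁅R, Subgroup.zpowers t⁆ ≠ ⊥) :
    ∃ r ∈ R, orderOf (r * t * r⁻¹ * t) = 2 ∧ Commute (r * t * r⁻¹) t := by
  classical
  haveI : Fact (Nat.Prime 2) := ⟨Nat.prime_two⟩
  have htn : Subgroup.zpowers t ≤ Subgroup.normalizer (R : Set G) :=
    Solv.le_normalizer_of_conj_mem fun g hg r hr => by
      obtain rfl | rfl : g = 1 ∨ g = t := by
        obtain ⟨i, rfl⟩ := hg
        rcases Int.even_or_odd i with ⟨k, rfl⟩ | ⟨k, rfl⟩
        · left
          show t ^ (k + k) = 1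
          rw [← two_mul, zpow_mul]
          norm_cast
          rw [← ht, pow_orderOf_eq_one, one_zpow]
        · right
          show t ^ (2 * k + 1) = t
          rw [zpow_add_one, zpow_mul]
          norm_cast
          rw [← ht, pow_orderOf_eq_one, one_zpow, one_mul]
      · simpa using hr
      · exact hRt r hr
  set P := R ⊔ Subgroup.zpowers t
  have hP : IsPGroup 2 ↥P := IsPGroup.to_sup_of_normal_left' hR
    (IsPGroup.of_card (n := 1) (by simp [Nat.card_zpowers, ht])) htn
  haveI := hP.isNilpotent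
  set Q := (Subgroup.centralizer ({t} : Set G)).subgroupOf P
  have hQ : Q < ⊤ := by
    refine lt_top_iff_ne_top.2 fun e => hne ?_
    rw [Subgroup.commutator_eq_bot_iff_le_centralizer]
    intro r hr
    refine Subgroup.mem_centralizer_iff.2 ?_
    rintro _ ⟨i, rfl⟩
    have h := Subgroup.mem_centralizer_singleton_iff.1 (Subgroup.subgroupOf_eq_top.1 e (Subgroup.mem_sup_left hr))
    exact ((show Commute t r from h.symm).zpow_left i).eq
  obtain ⟨x, hx, hxQ⟩ := SetLike.exists_of_lt (normalizerCondition_of_isNilpotent Q hQ)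
  obtain ⟨r, hr, z, hz, hxe⟩ : ∃ r ∈ R, ∃ z ∈ Subgroup.zpowers t, r * z = x := by
    have h := x.2
    rw [← SetLike.mem_coe, Subgroup.coe_mul_of_right_le_normalizer_left R (Subgroup.zpowers t) htn] at h
    exact h
  have hzt : Commute z t := by
    obtain ⟨i, rfl⟩ := hz
    exact (Commute.refl t).zpow_left i
  have htP : t ∈ P := Subgroup.mem_sup_right (Subgroup.mem_zpowers t)
  have h1 : x.1 * t * x.1⁻¹ ∈ Subgroup.centralizer ({t} : Set G) :=
    (Subgroup.mem_normalizer_iff.1 hx ⟨t, htP⟩).1 (Subgroup.mem_centralizer_singleton_iff.2 rfl)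
  have he : x.1 * t * x.1⁻¹ = r * t * r⁻¹ := by
    rw [← hxe, mul_inv_rev, mul_assoc r z t, hzt.eq]; group
  rw [he] at h1
  have hc : Commute (r * t * r⁻¹) t := Subgroup.mem_centralizer_singleton_iff.1 h1
  refine ⟨r, hr, orderOf_eq_prime ?_ ?_, hc⟩
  · rw [hc.mul_pow, conj_pow, show t ^ 2 = 1 by rw [← ht, pow_orderOf_eq_one]]
    simp
  · intro e
    apply hxQ
    show x.1 ∈ Subgroup.centralizer ({t} : Set G)
    have : r * t * r⁻¹ = t := by
      have h := mul_eq_one_iff_eq_inv.1 e
      rwa [inv_eq_of_mul_eq_one_right (show t * t = 1 by rw [← pow_two, ← ht, pow_orderOf_eq_one])] at h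
    exact Subgroup.mem_centralizer_singleton_iff.2 (mul_inv_eq_iff_eq_mul.1 (he.trans this))

/-- A normal subgroup not containing the standard subgroup has odd order and is centralized by it. -/
theorem odd_and_centralized (A : Subgroup G) (hA : Cfsg.IsStandardSubgroup A)
    (hcyc : ∀ R : Sylow 2 ↥(Subgroup.centralizer (A : Set G)), IsCyclic ↥(R : Subgroup ↥(Subgroup.centralizer (A : Set G))))
    {t : G} (ht : orderOf t = 2) (htA : t ∈ Subgroup.centralizer (A : Set G)) {r : G}
    (hc : orderOf (r * t * r⁻¹ * t) = 2) (hcomm : Commute (r * t * r⁻¹) t)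
    (hcA : r * t * r⁻¹ * t ∈ A) (hcA' : r⁻¹ * (r * t * r⁻¹ * t) * r ∈ A) (N : Subgroup G) [N.Normal]
    (hN : ¬ A ≤ N) :
    Odd (Nat.card N) ∧ Subgroup.normalClosure (A : Set G) ≤ Subgroup.centralizer (N : Set G) := by
  classical
  haveI : Fact (Nat.Prime 2) := ⟨Nat.prime_two⟩
  obtain ⟨hq, hte, -, hNN⟩ := hA
  set C := Subgroup.centralizer (A : Set G)
  have hperf : ⁅A, A⁆ = A := by
    have h := congrArg (Subgroup.map A.subtype) (Local.qs_top_commutator hq)
    rw [Subgroup.map_commutator, ← MonoidHom.range_eq_map, A.range_subtype] at h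
    exact h
  have dich : ∀ M : Subgroup G, M.Normal → ¬ A ≤ M → M ⊓ A ≤ C := by
    intro M hM hAM
    haveI := hM
    rcases Local.qs_normal_le_center_or_eq_top hq (M.subgroupOf A) with e | e
    · intro y hy
      obtain ⟨hyM, hyA⟩ := Subgroup.mem_inf.1 hy
      refine Subgroup.mem_centralizer_iff.2 fun a ha => ?_
      exact congrArg Subtype.val (Subgroup.mem_center_iff.1 (e (show (⟨y, hyA⟩ : A) ∈ M.subgroupOf A from hyM)) ⟨a, ha⟩)
    · exact absurd (Subgroup.subgroupOf_eq_top.1 e) hAM
  have hcC : r * t * r⁻¹ * t ∉ C := by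
    intro h
    have e := involution_eq hcyc ht htA hc h
      ((hcomm.symm).mul_right (Commute.refl t))
    have h1 : r * t * r⁻¹ = 1 := by simpa using e
    have : t = 1 := by
      have h2 := congrArg (fun a => r⁻¹ * a * r) h1
      simpa [mul_assoc] using h2
    rw [this, orderOf_one] at ht
    exact absurd ht (by norm_num)
  have hfix : N ⊓ Subgroup.centralizer ({t} : Set G) ≤ C := by
    have hn : N ⊓ Subgroup.centralizer ({t} : Set G) ≤ Subgroup.normalizer (A : Set G) := by
      intro x hx
      rw [hNN]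
      by_contra hxn
      have hodd := hte.2 x hxn
      have hm : t ∈ C ⊓ C.map (MulAut.conj x).toMonoidHom := by
        refine Subgroup.mem_inf.2 ⟨htA, t, htA, ?_⟩
        show x * t * x⁻¹ = t
        exact mul_inv_eq_iff_eq_mul.2 (Subgroup.mem_centralizer_singleton_iff.1 (Subgroup.mem_inf.1 hx).2)
      exact Nat.not_even_iff_odd.2 hodd (even_iff_two_dvd.2 (ht ▸ Subgroup.orderOf_dvd_natCard _ hm))
    set X0 := N ⊓ Subgroup.centralizer ({t} : Set G)
    have h1 : ⁅X0, A⁆ ≤ N ⊓ A := by
      refine le_inf ((Subgroup.commutator_mono inf_le_left le_rfl).trans (Subgroup.commutator_le_left N A)) ?_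
      rw [Subgroup.commutator_le]
      intro x hx a ha
      exact mul_mem ((Subgroup.mem_normalizer_iff.1 (hn hx) a).1 ha) (inv_mem ha)
    have h2 : ⁅⁅X0, A⁆, A⁆ = ⊥ := Subgroup.commutator_eq_bot_iff_le_centralizer.2 (h1.trans (dich N inferInstance hN))
    have h3 : ⁅⁅A, X0⁆, A⁆ = ⊥ := by rwa [Subgroup.commutator_comm A X0]
    have h4 := Subgroup.commutator_commutator_eq_bot_of_rotate h3 h2
    rw [hperf, Subgroup.commutator_comm] at h4
    exact Subgroup.commutator_eq_bot_iff_le_centralizer.1 h4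
  have hodd : Odd (Nat.card N) := by
    by_contra hev
    have htN : t ∈ N := by
      obtain ⟨S, hS⟩ := (IsPGroup.of_card (n := 1) (by simp [Nat.card_zpowers, ht]) :
        IsPGroup 2 (Subgroup.zpowers t)).exists_le_sylow
      have hS1 : (S : Subgroup G) ⊓ N ≠ ⊥ := by
        intro e
        have h := Cfsg.Agent.Solv.index_sylow_inf_subnormal N (Subgroup.Normal.isSubnormal ‹N.Normal›) S
        rw [← Subgroup.inf_subgroupOf_right, e, Subgroup.bot_subgroupOf, Subgroup.index_bot] at h
        exact h (even_iff_two_dvd.1 (Nat.not_odd_iff_even.1 hev))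
      haveI : ((((S : Subgroup G) ⊓ N).subgroupOf (S : Subgroup G))).Normal :=
        ⟨fun y hy s => ⟨(s * y * s⁻¹).2, ‹N.Normal›.conj_mem _ hy.2 s⟩⟩
      haveI : Group.IsNilpotent ↥(S : Subgroup G) := S.isPGroup'.isNilpotent
      obtain ⟨⟨z, hzS⟩, hzN, hzZ, hz1⟩ : ∃ z : ↥(S : Subgroup G), z.1 ∈ N ∧ z ∈ Subgroup.center ↥(S : Subgroup G) ∧ z ≠ 1 := by
        have hne : ((S : Subgroup G) ⊓ N).subgroupOf (S : Subgroup G) ≠ ⊥ := by
          intro e
          rw [Subgroup.subgroupOf_eq_bot, disjoint_iff] at e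
          apply hS1
          simpa [inf_comm, inf_left_comm] using e
        haveI := (Subgroup.nontrivial_iff_ne_bot _).2 hne
        have h := Cfsg.Agent.Solv.inf_center_ne_bot _ hne
        obtain ⟨z, hz, hz1⟩ := (Subgroup.bot_or_exists_ne_one _).resolve_left h
        exact ⟨z, (Subgroup.mem_inf.1 hz).1.2, (Subgroup.mem_inf.1 hz).2, hz1⟩
      obtain ⟨k, hk⟩ : ∃ k : ℕ, orderOf z = 2 ^ (k + 1) := by
        obtain ⟨j, hj⟩ := (IsPGroup.iff_orderOf.1 S.isPGroup') ⟨z, hzS⟩
        rw [Subgroup.orderOf_mk] at hj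
        cases j with
        | zero => exact absurd (Subtype.ext (orderOf_eq_one_iff.1 (by simpa using hj)) : (⟨z, hzS⟩ : ↥(S : Subgroup G)) = 1) hz1
        | succ k => exact ⟨k, hj⟩
      have hw : orderOf (z ^ 2 ^ k) = 2 := by
        rw [orderOf_pow' z (by positivity), hk, Nat.gcd_eq_right (pow_dvd_pow 2 (Nat.le_succ k)), Nat.pow_succ,
          Nat.mul_div_cancel_left _ (by positivity)]
      have hzt : Commute t z := congrArg Subtype.val (Subgroup.mem_center_iff.1 hzZ ⟨t, hS (Subgroup.mem_zpowers t)⟩)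
      have hwt : Commute t (z ^ 2 ^ k) := hzt.pow_right _
      have hwC : z ^ 2 ^ k ∈ C := hfix (Subgroup.mem_inf.2 ⟨pow_mem hzN _, Subgroup.mem_centralizer_singleton_iff.2 hwt.symm.eq⟩)
      exact involution_eq hcyc ht htA hw hwC hwt ▸ pow_mem hzN _
    exact hcC (dich N inferInstance hN (Subgroup.mem_inf.2 ⟨mul_mem (‹N.Normal›.conj_mem t htN r) htN, hcA⟩))
  refine ⟨hodd, ?_⟩
  set c := r * t * r⁻¹ * t with hcdef
  have htt : t * t = 1 := by rw [← pow_two, ← ht, pow_orderOf_eq_one]
  have hct : Commute c t := hcomm.mul_left (Commute.refl t)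
  have hc1 : c ≠ 1 := fun e => by rw [e, orderOf_one] at hc; exact absurd hc (by norm_num)
  have hcc : c * c = 1 := by rw [← pow_two, ← hc, pow_orderOf_eq_one]
  have hrt : c * t = r * t * r⁻¹ := by rw [hcdef, mul_assoc, htt, mul_one]
  let E : Subgroup G := Subgroup.zpowers c ⊔ Subgroup.zpowers t
  have hEm : ∀ e ∈ E, e = 1 ∨ e = c ∨ e = t ∨ e = c * t := by
    intro e he
    have hn : Subgroup.zpowers t ≤ Subgroup.normalizer (Subgroup.zpowers c : Set G) := by
      refine le_trans ?_ (Subgroup.centralizer_le_normalizer _)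
      rw [Subgroup.zpowers_le]
      refine Subgroup.mem_centralizer_iff.2 ?_
      rintro _ ⟨i, rfl⟩
      exact (hct.zpow_left i).eq
    rw [← SetLike.mem_coe, Subgroup.coe_mul_of_right_le_normalizer_left _ _ hn] at he
    obtain ⟨a, ⟨i, rfl⟩, b, ⟨j, rfl⟩, rfl⟩ := he
    have key : ∀ (x : G), x * x = 1 → ∀ i : ℤ, x ^ i = 1 ∨ x ^ i = x := by
      intro x hx i
      rcases Int.even_or_odd i with ⟨k, rfl⟩ | ⟨k, rfl⟩
      · left; rw [zpow_add, ← (Commute.refl x).mul_zpow, hx, one_zpow]
      · right; rw [zpow_add_one, two_mul, zpow_add, ← (Commute.refl x).mul_zpow, hx, one_zpow, one_mul]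
    rcases key c hcc i with e1 | e1 <;> rcases key t htt j with e2 | e2 <;>
      simp only [e1, e2, one_mul, mul_one, true_or, or_true]
  have hE : Cfsg.IsElementaryAbelian 2 E := by
    have hcm : ∀ a ∈ E, ∀ b ∈ E, Commute a b := by
      intro a ha b hb
      rcases hEm a ha with h | h | h | h <;> rcases hEm b hb with h' | h' | h' | h' <;> subst a <;> subst b <;>
        first
          | exact Commute.one_left _
          | exact Commute.one_right _
          | exact Commute.refl _
          | exact hct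
          | exact hct.symm
          | exact (Commute.refl c).mul_right hct
          | exact ((Commute.refl c).mul_right hct).symm
          | exact hct.symm.mul_right (Commute.refl t)
          | exact (hct.symm.mul_right (Commute.refl t)).symm
    refine ⟨⟨⟨fun a b => Subtype.ext (hcm a a.2 b b.2)⟩⟩, fun e he => ?_⟩
    rcases hEm e he with h | h | h | h <;> subst e
    · exact one_pow 2
    · rw [pow_two, hcc]
    · rw [pow_two, htt]
    · rw [hct.mul_pow, pow_two, pow_two, hcc, htt, one_mul]
  have hct1 : c ≠ t := fun e => hcC (e ▸ htA)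
  have hE2 : 2 ^ 2 ≤ Nat.card E := by
    have hsub : ({1, c, t, c * t} : Finset G) ⊆ (E : Set G).toFinite.toFinset := by
      intro a ha
      rw [Set.Finite.mem_toFinset]
      have hce : c ∈ E := Subgroup.mem_sup_left (Subgroup.mem_zpowers c)
      have hte : t ∈ E := Subgroup.mem_sup_right (Subgroup.mem_zpowers t)
      simp only [Finset.mem_insert, Finset.mem_singleton] at ha
      rcases ha with rfl | rfl | rfl | rfl
      exacts [one_mem _, hce, hte, mul_mem hce hte]
    have h4 : ({1, c, t, c * t} : Finset G).card = 4 := by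
      have ht1 : t ≠ 1 := fun e => by rw [e, orderOf_one] at ht; exact absurd ht (by norm_num)
      have e1 : c * t ≠ 1 := fun e => hct1 (by rw [mul_eq_one_iff_eq_inv.1 e, inv_eq_of_mul_eq_one_right htt])
      have e2 : c * t ≠ c := fun e => ht1 (mul_eq_left.1 e)
      have e3 : c * t ≠ t := fun e => hc1 (mul_eq_right.1 e)
      simp [hc1.symm, ht1.symm, e1.symm, hct1, e2.symm, e3.symm]
    have := Finset.card_le_card hsub
    rw [h4, ← Set.ncard_eq_toFinset_card, ← Nat.card_coe_set_eq] at this
    exact this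
  have hAX : E ≤ Subgroup.normalizer (N : Set G) := by rw [Subgroup.normalizer_eq_top]; exact le_top
  have hNc : N ≤ Subgroup.centralizer ({c} : Set G) := by
    rw [S1324.result 2 E N hE hE2 (fun h => Nat.not_even_iff_odd.2 hodd (even_iff_two_dvd.2 h)) hAX]
    refine iSup_le fun B => ?_
    obtain ⟨e, heB, he1⟩ : ∃ e ∈ (B : Subgroup G), e ≠ 1 := by
      refine (Subgroup.bot_or_exists_ne_one _).resolve_left fun h => ?_
      have h2 := B.2.2
      rw [h, Subgroup.relIndex_bot_left] at h2
      omega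
    intro x hx
    obtain ⟨hxN, hxB⟩ := Subgroup.mem_inf.1 hx
    have hxe : e * x = x * e := Subgroup.mem_centralizer_iff.1 hxB e heB
    rw [Subgroup.mem_centralizer_singleton_iff]
    rcases hEm e (B.2.1 heB) with rfl | rfl | rfl | rfl
    · exact absurd rfl he1
    · exact hxe.symm
    · have hxC := hfix (Subgroup.mem_inf.2 ⟨hxN, Subgroup.mem_centralizer_singleton_iff.2 hxe.symm⟩)
      exact (Subgroup.mem_centralizer_iff.1 hxC c hcA).symm
    · have hy : r⁻¹ * x * r ∈ N ⊓ Subgroup.centralizer ({t} : Set G) := by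
        refine Subgroup.mem_inf.2 ⟨by simpa using ‹N.Normal›.conj_mem x hxN r⁻¹, ?_⟩
        rw [Subgroup.mem_centralizer_singleton_iff]
        calc r⁻¹ * x * r * t = r⁻¹ * (x * (r * t * r⁻¹)) * r := by group
          _ = r⁻¹ * ((r * t * r⁻¹) * x) * r := by rw [← hrt, hxe]
          _ = t * (r⁻¹ * x * r) := by group
      have h := Subgroup.mem_centralizer_iff.1 (hfix hy) _ hcA'
      calc x * c = r * (r⁻¹ * x * r * (r⁻¹ * c * r)) * r⁻¹ := by group
        _ = r * (r⁻¹ * c * r * (r⁻¹ * x * r)) * r⁻¹ := by rw [h]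
        _ = c * x := by group
  refine Subgroup.normalClosure_le_normal ?_
  by_contra h
  exact hcC (dich (Subgroup.centralizer (N : Set G)) inferInstance h (Subgroup.mem_inf.2
    ⟨Subgroup.mem_centralizer_iff.2 fun x hx => Subgroup.mem_centralizer_singleton_iff.1 (hNc hx), hcA⟩))

/-- Automorphic images of the layer lie in the layer. -/
theorem layer_map_le {H : Type*} [Group H] (e : H ≃* H) :
    (Cfsg.layer H).map e.toMonoidHom ≤ Cfsg.layer H := by
  rw [Subgroup.map_le_iff_le_comap]
  exact sSup_le fun K hK => Subgroup.map_le_iff_le_comap.1 (le_sSup (s := {K : Subgroup H | Cfsg.IsComponent K}) (Local.isComponent_map_equiv e hK))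

/-- Let A be a standard subgroup of a finite group G whose centralizer has cyclic Sylow 2-subgroups, t an involution centralizing A, and X the normal closure of A in G. If X has a t-invariant 2-subgroup R with [R, t] nontrivial and contained in A, then X is semisimple (X equals its own layer, a central product of quasisimple groups) and the centre of X has odd order. -/
theorem result {G : Type*} [Group G] [Finite G] (A : Subgroup G) (hA : Cfsg.IsStandardSubgroup A)
    (hcyc : ∀ R : Sylow 2 ↥(Subgroup.centralizer (A : Set G)), IsCyclic ↥(R : Subgroup ↥(Subgroup.centralizer (A : Set G)))) (t : G) (ht : orderOf t = 2) (htA : t ∈ Subgroup.centralizer (A : Set G))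
    (R : Subgroup G) (hR2 : IsPGroup 2 ↥R) (hRX : R ≤ Subgroup.normalClosure (A : Set G)) (hRt : ∀ r ∈ R, t * r * t⁻¹ ∈ R)
    (hc1 : ⁅R, Subgroup.zpowers t⁆ ≠ ⊥) (hc2 : ⁅R, Subgroup.zpowers t⁆ ≤ A) :
    Cfsg.layer ↥(Subgroup.normalClosure (A : Set G)) = ⊤ ∧ Odd (Nat.card ↥(Subgroup.center ↥(Subgroup.normalClosure (A : Set G)))) := by
  obtain ⟨r, hr, hc, hcomm⟩ := exists_commutator_involution ht hR2 hRt hc1
  have htt : t⁻¹ = t := inv_eq_of_mul_eq_one_right (by rw [← pow_two, ← ht, pow_orderOf_eq_one])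
  have hcA : r * t * r⁻¹ * t ∈ A := by
    refine hc2 ?_
    have := Subgroup.commutator_mem_commutator hr (Subgroup.mem_zpowers t)
    rwa [commutatorElement_def, htt] at this
  have hcA' : r⁻¹ * (r * t * r⁻¹ * t) * r ∈ A := by
    refine hc2 ?_
    have := inv_mem (Subgroup.commutator_mem_commutator (inv_mem hr) (Subgroup.mem_zpowers t))
    rw [commutatorElement_def, htt, inv_inv] at this
    convert this using 1
    rw [mul_inv_rev, mul_inv_rev, mul_inv_rev, htt, inv_inv]
    group
  have key := fun (N : Subgroup G) [N.Normal] => odd_and_centralized A hA hcyc ht htA hc hcomm hcA hcA' N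
  set X := Subgroup.normalClosure (A : Set G) with hX
  have hq := hA.1
  have hAX : A ≤ X := Subgroup.le_normalClosure
  have hAns : ∀ H : Subgroup G, A ≤ H → ¬ Group.IsSolvable H := fun H hH hs => by
    haveI := hs
    exact Local.qs_not_isSolvable hq
      (Group.isSolvable_of_isSolvable_injective (f := Subgroup.inclusion hH) (Subgroup.inclusion_injective hH))
  have hnorm : ∀ M : Subgroup ↥X, (∀ e : ↥X ≃* ↥X, M.map e.toMonoidHom ≤ M) → (M.map X.subtype).Normal := by
    intro M hM
    refine ⟨fun y hy g => ?_⟩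
    obtain ⟨m, hm, rfl⟩ := hy
    exact ⟨MulAut.conjNormal g m, hM (MulAut.conjNormal g) ⟨m, hm, rfl⟩, MulAut.conjNormal_apply g m⟩
  constructor
  · haveI hLn : ((Cfsg.layer ↥X).map X.subtype).Normal := hnorm _ layer_map_le
    by_cases hAL : A ≤ (Cfsg.layer ↥X).map X.subtype
    · refine eq_top_iff.2 fun x _ => ?_
      obtain ⟨y, hy, he⟩ := Subgroup.normalClosure_le_normal hAL x.2
      rwa [← Subtype.ext he]
    · exfalso
      have hL : Cfsg.layer ↥X = ⊥ := by
        refine eq_bot_iff.2 (sSup_le fun K hK => ?_)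
        exfalso
        refine Local.qs_not_isMulCommutative hK.2 ⟨⟨fun a b => Subtype.ext (Subtype.ext ?_)⟩⟩
        exact (Subgroup.mem_centralizer_iff.1 ((key _ hAL).2 (a : ↥X).2) _
          ⟨b, le_sSup (s := {K : Subgroup ↥X | Cfsg.IsComponent K}) hK b.2, rfl⟩).symm
      haveI : (Cfsg.fittingSubgroup ↥X).Normal := Solv.fittingSubgroup_normal _
      haveI hFn : ((Cfsg.fittingSubgroup ↥X).map X.subtype).Normal :=
        hnorm _ fun e => (Solv.fittingSubgroup_map_equiv e).le
      have hnil : Group.IsNilpotent ↥((Cfsg.fittingSubgroup ↥X).map X.subtype) :=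
        (Group.isNilpotent_congr ((Cfsg.fittingSubgroup ↥X).equivMapOfInjective _ X.subtype_injective)).1
          (Solv.fittingSubgroup_isNilpotent ↥X)
      have hAF : ¬ A ≤ (Cfsg.fittingSubgroup ↥X).map X.subtype := fun h => by
        haveI := hnil
        exact hAns _ h inferInstance
      have htop : (⊤ : Subgroup ↥X) ≤ Cfsg.fittingSubgroup ↥X := by
        refine le_trans ?_ ((Local.centralizer_generalizedFitting_le (G := ↥X)).trans (sup_le (hL.le.trans bot_le) le_rfl))
        intro x _
        refine Subgroup.mem_centralizer_iff.2 fun f hf => Subtype.ext ?_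
        have hf' : f ∈ Cfsg.fittingSubgroup ↥X := by
          have h : Cfsg.generalizedFittingSubgroup ↥X = Cfsg.fittingSubgroup ↥X := by
            rw [Cfsg.generalizedFittingSubgroup, hL, bot_sup_eq]
          rw [h] at hf; exact hf
        exact Subgroup.mem_centralizer_iff.1 ((key _ hAF).2 x.2) _ ⟨f, hf', rfl⟩
      exact hAF (hAX.trans fun x hx => ⟨⟨x, hx⟩, htop (Subgroup.mem_top _), rfl⟩)
  · haveI : ((Subgroup.center ↥X).map X.subtype).Normal := hnorm _ fun e => by
      rintro _ ⟨y, hy, rfl⟩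
      refine Subgroup.mem_center_iff.2 fun g => ?_
      obtain ⟨g, rfl⟩ := e.surjective g
      exact (map_mul e g y).symm.trans ((congrArg e (Subgroup.mem_center_iff.1 hy g)).trans (map_mul e y g))
    have hnA : ¬ A ≤ (Subgroup.center ↥X).map X.subtype := fun h => by
      refine Local.qs_not_isMulCommutative hq ⟨⟨fun a b => Subtype.ext ?_⟩⟩
      obtain ⟨y, hy, he⟩ := h b.2
      have := congrArg Subtype.val (Subgroup.mem_center_iff.1 hy ⟨a, hAX a.2⟩)
      simp only [Subgroup.coe_mul] at this
      change (y : G) = b at he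
      rw [he] at this
      exact this
    rw [← Subgroup.card_map_of_injective X.subtype_injective]
    exact (key _ hnA).1

end Cfsg.Agent.S3164
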