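import Cfsg.Statements.S3165
import Cfsg.Agent.Lib.Inv.WeaklyClosed
import Mathlib
-- import your own Cfsg.Agent.* helpers here

set_option autoImplicit false
open Cfsg

namespace Cfsg.Agent.S3165

/-- Let a group X act on a group Y by automorphisms and let z be an element of Y all of whose Y-conjugates are fixed by X. Then every element of the form (x·y)y⁻¹, x ∈ X, y ∈ Y (these generate the commutator [X, Y]) commutes with z. -/
theorem result {X Y : Type*} [Group X] [Group Y] [MulDistribMulAction X Y] (z : Y)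
    (hz : ∀ y : Y, ∀ x : X, x • (y * z * y⁻¹) = y * z * y⁻¹) :
    ∀ x : X, ∀ y : Y, Commute ((x • y) * y⁻¹) z := by
  intro x y
  have hz1 : x • z = z := by simpa using hz 1 x
  have h := hz y⁻¹ x
  rw [smul_mul', smul_mul', inv_inv, hz1, smul_inv'] at h
  show x • y * y⁻¹ * z = z * (x • y * y⁻¹)
  calc x • y * y⁻¹ * z = x • y * (y⁻¹ * z * y) * y⁻¹ := by group
    _ = x • y * ((x • y)⁻¹ * z * (x • y)) * y⁻¹ := by rw [h]
    _ = z * (x • y * y⁻¹) := by group

end Cfsg.Agent.S3165
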