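import Cfsg.Statements.S3166
import Mathlib

set_option autoImplicit false
open Cfsg

namespace Cfsg.Agent.S3166

/-- Let q = 2^n with n ≥ 1. If q⁴ − q³ + q² − q + 1 is a power p^m of a prime p, then m = 1: the value is never a prime power with exponent greater than 1. -/
theorem result (n p m : ℕ) (hn : 1 ≤ n) (hp : p.Prime) (h : (2 ^ n) ^ 4 - (2 ^ n) ^ 3 + (2 ^ n) ^ 2 - 2 ^ n + 1 = p ^ m) : m = 1 := by
  set q : ℕ := 2 ^ n with hq
  have hq2 : 2 ≤ q := by
    calc 2 = 2 ^ 1 := rfl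
      _ ≤ 2 ^ n := Nat.pow_le_pow_right (by norm_num) hn
  obtain ⟨r, hr⟩ : ∃ r, q = r + 2 := ⟨q - 2, by omega⟩
  have hle1 : q ^ 3 ≤ q ^ 4 := Nat.pow_le_pow_right (by omega) (by norm_num)
  have hle2 : q ≤ q ^ 4 - q ^ 3 + q ^ 2 := by
    have : q ≤ q ^ 2 := Nat.le_self_pow (by norm_num) q
    omega
  have hZ : ((p : ℤ)) ^ m = (q : ℤ) ^ 4 - (q : ℤ) ^ 3 + (q : ℤ) ^ 2 - (q : ℤ) + 1 := by
    have h2 : ((q ^ 4 - q ^ 3 + q ^ 2 - q + 1 : ℕ) : ℤ) = ((p ^ m : ℕ) : ℤ) := by rw [h]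
    push_cast [Nat.cast_sub hle2, Nat.cast_sub hle1] at h2
    linarith
  have hqZ : (2 : ℤ) ≤ (q : ℤ) := by exact_mod_cast hq2
  have hm0 : m ≠ 0 := by
    intro h0
    rw [h0, pow_zero] at hZ
    nlinarith [sq_nonneg (q : ℤ), mul_pos (show (0 : ℤ) < q by linarith) (show (0 : ℤ) < q by linarith)]
  by_contra hm1
  rcases Nat.even_or_odd m with ⟨k, hk⟩ | hodd
  · -- strictly between two consecutive squares
    set X : ℤ := 2 * (p : ℤ) ^ k with hX
    set A : ℤ := 2 * (q : ℤ) ^ 2 - q with hA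
    have hX0 : 0 ≤ X := by positivity
    have hA0 : 0 ≤ A := by nlinarith
    have hX2 : X ^ 2 = A ^ 2 + (3 * (q : ℤ) ^ 2 - 4 * q + 4) := by
      have : ((p : ℤ) ^ k) ^ 2 = (p : ℤ) ^ m := by rw [← pow_mul, hk]; ring_nf
      rw [hX, mul_pow, this, hZ, hA]; ring
    have hlo : A < X := by
      rcases lt_or_ge A X with h' | h'
      · exact h'
      · exfalso; nlinarith
    have hhi : X < A + 1 := by
      rcases lt_or_ge X (A + 1) with h' | h'
      · exact h'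
      · exfalso; nlinarith
    omega
  · have hm3 : 3 ≤ m := by
      obtain ⟨j, hj⟩ := hodd
      omega
    have hp2 : p ≠ 2 := by
      rintro rfl
      have h2 : (2 : ℤ) ∣ ((2 : ℕ) : ℤ) ^ m := dvd_pow (by norm_num) hm0
      rw [hZ] at h2
      have h3 : (2 : ℤ) ∣ (q : ℤ) := by
        exact_mod_cast (dvd_pow_self 2 (by omega : n ≠ 0) : 2 ∣ 2 ^ n)
      obtain ⟨c, hc⟩ := h3
      rw [hc] at h2
      obtain ⟨d, hd⟩ := h2
      have : (2 : ℤ) ∣ 1 := ⟨d - (8 * c ^ 4 - 4 * c ^ 3 + 2 * c ^ 2 - c), by linarith⟩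
      norm_num at this
    have hpodd : Odd p := hp.odd_of_ne_two hp2
    have hgeom : (∑ i ∈ Finset.range m, (p : ℤ) ^ i) * ((p : ℤ) - 1) = (p : ℤ) ^ m - 1 :=
      geom_sum_mul _ _
    have hSodd : Odd (∑ i ∈ Finset.range m, (p : ℤ) ^ i) := by
      have hpz : ((p : ℕ) : ZMod 2) = 1 := (ZMod.natCast_eq_one_iff_odd).mpr hpodd
      have hmz : ((m : ℕ) : ZMod 2) = 1 := (ZMod.natCast_eq_one_iff_odd).mpr hodd
      have : ((∑ i ∈ Finset.range m, (p : ℤ) ^ i : ℤ) : ZMod 2) = 1 := by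
        push_cast
        simp [hpz, hmz]
      exact (ZMod.intCast_eq_one_iff_odd).mp this
    have hcop : IsCoprime (q : ℤ) (∑ i ∈ Finset.range m, (p : ℤ) ^ i) := by
      obtain ⟨c, hc⟩ := hSodd
      have h21 : IsCoprime (2 : ℤ) (∑ i ∈ Finset.range m, (p : ℤ) ^ i) := ⟨-c, 1, by rw [hc]; ring⟩
      have : (q : ℤ) = (2 : ℤ) ^ n := by rw [hq]; push_cast; rfl
      rw [this]; exact h21.pow_left
    have hdvd : (q : ℤ) ∣ (p : ℤ) - 1 := by
      refine hcop.dvd_of_dvd_mul_left ?_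
      rw [hgeom, hZ]
      exact ⟨(q : ℤ) ^ 3 - (q : ℤ) ^ 2 + q - 1, by ring⟩
    obtain ⟨u, hu⟩ := hdvd
    have hp1 : (2 : ℤ) ≤ (p : ℤ) := by exact_mod_cast hp.two_le
    have hu1 : 1 ≤ u := by nlinarith
    have hp3 : (p : ℤ) ^ 3 ≤ (p : ℤ) ^ m := pow_le_pow_right₀ (by linarith) hm3
    have hupper : (p : ℤ) ^ m < (q : ℤ) ^ 4 := by rw [hZ]; nlinarith
    rcases eq_or_lt_of_le hm3 with h3 | h4
    · -- m = 3
      rw [← h3] at hZ hupper
      have hp' : (p : ℤ) = 1 + q * u := by linarith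
      have hu3 : u ^ 3 < q := by
        have : ((q : ℤ) * u) ^ 3 < (q : ℤ) ^ 4 := by
          have hle : ((q : ℤ) * u) ^ 3 ≤ (p : ℤ) ^ 3 := pow_le_pow_left₀ (by positivity) (by linarith) 3
          linarith
        have hq3 : (0 : ℤ) < (q : ℤ) ^ 3 := by positivity
        by_contra hh
        push_neg at hh
        nlinarith
      have hmod : (q : ℤ) ∣ 3 * u + 1 := by
        refine ⟨(q : ℤ) ^ 2 - q + 1 - 3 * u ^ 2 - u ^ 3 * q, ?_⟩
        have hq0 : (q : ℤ) ≠ 0 := by linarith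
        apply mul_left_cancel₀ hq0
        rw [hp'] at hZ
        linear_combination hZ
      have hle : (q : ℤ) ≤ 3 * u + 1 := Int.le_of_dvd (by linarith) hmod
      have hu' : u = 1 := by
        rcases eq_or_lt_of_le hu1 with hh | hh
        · exact hh.symm
        · exfalso
          have h2u : 2 ≤ u := hh
          have h4 : (4 : ℤ) ≤ u * u := by nlinarith
          have h5 : u * 4 ≤ u * (u * u) := mul_le_mul_of_nonneg_left h4 (by linarith)
          have h6 : u ^ 3 = u * (u * u) := by ring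
          linarith
      subst hu'
      have hq4 : (q : ℤ) ≤ 4 := by linarith
      rw [hp'] at hZ
      interval_cases hh : (q : ℤ) <;> norm_num at hZ
    · have hp5 : (p : ℤ) ^ 4 ≤ (p : ℤ) ^ m := pow_le_pow_right₀ (by linarith) h4
      have : (q : ℤ) ^ 4 ≤ (p : ℤ) ^ 4 := pow_le_pow_left₀ (by positivity) (by nlinarith) 4
      linarith

end Cfsg.Agent.S3166
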