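import Cfsg.Statements.S3183
import Mathlib

set_option autoImplicit false
open Cfsg

namespace Cfsg.Agent.S3183

/-- Let G be a finite group in which the intersection of any two distinct Sylow 2-subgroups is contained in the centre of some Sylow 2-subgroup, and let S be a Sylow 2-subgroup. Then for every x in S the centralizer of x in S is a Sylow 2-subgroup of the centralizer of x in G (no 2-subgroup centralizing x is larger), and for every other Sylow 2-subgroup T the intersection S ∩ T lies in both the centre of S and the centre of T. -/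
theorem result {G : Type*} [Group G] [Finite G]
    (hCI : ∀ S T : Sylow 2 G, S ≠ T → ∃ U : Sylow 2 G,
      (S : Subgroup G) ⊓ (T : Subgroup G) ≤ (Subgroup.center ↥(U : Subgroup G)).map (U : Subgroup G).subtype)
    (S : Sylow 2 G) :
    (∀ x ∈ (S : Subgroup G), ∀ P : Subgroup G, IsPGroup 2 ↥P → P ≤ Subgroup.centralizer ({x} : Set G) →
        Nat.card ↥P ≤ Nat.card ↥((S : Subgroup G) ⊓ Subgroup.centralizer ({x} : Set G))) ∧
    (∀ T : Sylow 2 G, T ≠ S →
        (S : Subgroup G) ⊓ (T : Subgroup G) ≤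
          (Subgroup.center ↥(S : Subgroup G)).map (S : Subgroup G).subtype ⊓
            (Subgroup.center ↥(T : Subgroup G)).map (T : Subgroup G).subtype) := by
  haveI : Fact (Nat.Prime 2) := ⟨Nat.prime_two⟩
  have hcen : ∀ (U : Sylow 2 G) (d : G), d ∈ (Subgroup.center ↥(U : Subgroup G)).map (U : Subgroup G).subtype →
      d ∈ (U : Subgroup G) ∧ ∀ u ∈ (U : Subgroup G), u * d = d * u := by
    rintro U d ⟨⟨d, hd⟩, hc, rfl⟩
    exact ⟨hd, fun u hu => congrArg Subtype.val (Subgroup.mem_center_iff.mp hc ⟨u, hu⟩)⟩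
  -- the centralizer statement, for every Sylow subgroup
  have hA : ∀ (S : Sylow 2 G), ∀ x ∈ (S : Subgroup G), ∀ P : Subgroup G, IsPGroup 2 ↥P →
      P ≤ Subgroup.centralizer ({x} : Set G) →
      Nat.card ↥P ≤ Nat.card ↥((S : Subgroup G) ⊓ Subgroup.centralizer ({x} : Set G)) := by
    intro S x hx P hP hPC
    set C := Subgroup.centralizer ({x} : Set G) with hC
    have hScard : ∀ T : Sylow 2 G, Nat.card ↥(T : Subgroup G) = Nat.card ↥(S : Subgroup G) := fun T => by
      rw [T.card_eq_multiplicity, S.card_eq_multiplicity]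
    have hfull : (S : Subgroup G) ≤ C → Nat.card ↥P ≤ Nat.card ↥((S : Subgroup G) ⊓ C) := by
      intro h
      rw [inf_eq_left.mpr h]
      obtain ⟨T, hT⟩ := hP.exists_le_sylow
      exact (Subgroup.card_le_of_le hT).trans (hScard T).le
    have hSC : IsPGroup 2 ↥(((S : Subgroup G) ⊓ C).subgroupOf C) :=
      (S.isPGroup'.to_le (inf_le_left : (S : Subgroup G) ⊓ C ≤ S)).of_equiv (Subgroup.subgroupOfEquivOfLe (inf_le_right : (S : Subgroup G) ⊓ C ≤ C)).symm
    obtain ⟨Q, hQ⟩ := hSC.exists_le_sylow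
    obtain ⟨Q₁, hQ₁⟩ := (hP.of_equiv (Subgroup.subgroupOfEquivOfLe hPC).symm).exists_le_sylow
    have hQ' : (S : Subgroup G) ⊓ C ≤ (Q : Subgroup ↥C).map C.subtype := fun s hs =>
      ⟨⟨s, hs.2⟩, hQ hs, rfl⟩
    have hPQ : Nat.card ↥P ≤ Nat.card ↥((Q : Subgroup ↥C).map C.subtype) := by
      rw [Subgroup.card_map_of_injective C.subtype_injective]
      calc Nat.card ↥P = Nat.card ↥(P.subgroupOf C) :=
            (Nat.card_congr (Subgroup.subgroupOfEquivOfLe hPC).toEquiv).symm
        _ ≤ Nat.card ↥(Q₁ : Subgroup ↥C) := Subgroup.card_le_of_le hQ₁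
        _ = _ := by rw [Q₁.card_eq_multiplicity, Q.card_eq_multiplicity]
    obtain ⟨T, hT⟩ := (Q.isPGroup'.map C.subtype).exists_le_sylow
    have hQC : (Q : Subgroup ↥C).map C.subtype ≤ C := Subgroup.map_subtype_le _
    by_cases hTS : T = S
    · subst hTS
      exact hPQ.trans (Subgroup.card_le_of_le (le_inf hT hQC))
    obtain ⟨U, hU⟩ := hCI S T (Ne.symm hTS)
    set D := (S : Subgroup G) ⊓ C with hD
    have hxC : x ∈ C := Subgroup.mem_centralizer_singleton_iff.mpr rfl
    have hxD : x ∈ D := ⟨hx, hxC⟩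
    have hDT : D ≤ (S : Subgroup G) ⊓ (T : Subgroup G) := le_inf inf_le_left (hQ'.trans hT)
    have hDU : ∀ d ∈ D, d ∈ (U : Subgroup G) ∧ ∀ u ∈ (U : Subgroup G), u * d = d * u :=
      fun d hd => hcen U d (hU (hDT hd))
    have hUC : (U : Subgroup G) ≤ C := fun u hu =>
      Subgroup.mem_centralizer_singleton_iff.mpr ((hDU x hxD).2 u hu)
    have hUD : (U : Subgroup G) ≤ Subgroup.centralizer (D : Set G) := fun u hu d hd =>
      ((hDU d hd).2 u hu).symm
    have hmeet : ∀ V : Sylow 2 G, V ≠ S → D ≤ (V : Subgroup G) → (S : Subgroup G) ⊓ (V : Subgroup G) ≤ D := by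
      intro V hV hDV s hs
      obtain ⟨W, hW⟩ := hCI S V (Ne.symm hV)
      refine ⟨hs.1, Subgroup.mem_centralizer_singleton_iff.mpr ?_⟩
      exact (hcen W x (hW ⟨hx, hDV hxD⟩)).2 s (hcen W s (hW hs)).1
    apply hfull
    by_contra hnS
    have hDS : D < (S : Subgroup G) := lt_of_le_of_ne inf_le_left (fun e => hnS (inf_eq_left.mp e))
    set N := Subgroup.normalizer (D : Set G) with hN
    have hUN : (U : Subgroup G) ≤ N := hUD.trans (Subgroup.centralizer_le_normalizer _)
    haveI : Group.IsNilpotent ↥(S : Subgroup G) := S.isPGroup'.isNilpotent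
    have hlt : D.subgroupOf S < Subgroup.normalizer ((D.subgroupOf S : Subgroup ↥(S : Subgroup G)) : Set ↥(S : Subgroup G)) :=
      Group.normalizerCondition_of_isNilpotent _ (lt_top_iff_ne_top.mpr (fun e =>
        hDS.not_ge (Subgroup.subgroupOf_eq_top.mp e)))
    obtain ⟨s, hsN, hsD⟩ := SetLike.exists_of_lt hlt
    have hsN' : (s : G) ∈ N := by
      rw [hN, Subgroup.mem_normalizer_iff]
      intro h
      constructor
      · intro hh
        exact (Subgroup.mem_normalizer_iff.mp hsN ⟨h, hDS.le hh⟩).mp hh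
      · intro hh
        have hhS : h ∈ (S : Subgroup G) := by
          have := (S : Subgroup G).mul_mem ((S : Subgroup G).mul_mem ((S : Subgroup G).inv_mem s.2) (hDS.le hh)) s.2
          simpa [mul_assoc] using this
        exact (Subgroup.mem_normalizer_iff.mp hsN ⟨h, hhS⟩).mpr hh
    obtain ⟨V', hV'⟩ := ((S.isPGroup'.to_le (inf_le_left : (S : Subgroup G) ⊓ N ≤ S)).of_equiv
      (Subgroup.subgroupOfEquivOfLe (inf_le_right : (S : Subgroup G) ⊓ N ≤ N)).symm).exists_le_sylow
    obtain ⟨V, hV⟩ := (V'.isPGroup'.map N.subtype).exists_le_sylow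
    have hcardV : Nat.card ↥(V : Subgroup G) ≤ Nat.card ↥((V' : Subgroup ↥N).map N.subtype) := by
      rw [Subgroup.card_map_of_injective N.subtype_injective, V'.card_eq_multiplicity,
        ← (U.subtype hUN).card_eq_multiplicity, Sylow.coe_subtype, hScard V, ← hScard U]
      exact (Nat.card_congr (Subgroup.subgroupOfEquivOfLe hUN).toEquiv).symm.le
    have hVN : (V : Subgroup G) ≤ N := by
      rw [← Subgroup.eq_of_le_of_card_ge hV hcardV]; exact Subgroup.map_subtype_le _
    have hSNV : (S : Subgroup G) ⊓ N ≤ (V : Subgroup G) := fun a ha => hV ⟨⟨a, ha.2⟩, hV' ha, rfl⟩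
    by_cases hVS : V = S
    · subst hVS
      obtain ⟨g, hg⟩ := MulAction.exists_smul_eq ↥N (U.subtype hUN) (V.subtype hVN)
      apply hnS
      intro a ha
      have hmem : (⟨a, hVN ha⟩ : ↥N) ∈ ((g • U.subtype hUN : Sylow 2 ↥N) : Subgroup ↥N) := by
        rw [hg]; exact ha
      rw [Sylow.coe_subgroup_smul, Subgroup.mem_pointwise_smul_iff_inv_smul_mem] at hmem
      have hb : (g : G)⁻¹ * a * g ∈ (U : Subgroup G) := by
        simpa [MulAut.smul_def, MulAut.inv_apply, Subgroup.mem_subgroupOf] using hmem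
      have hbD := hUD hb
      refine Subgroup.mem_centralizer_singleton_iff.mpr ?_
      have hx' : (g : G)⁻¹ * x * g ∈ D := by
        have := (Subgroup.mem_normalizer_iff.mp (N.inv_mem g.2) x).mp hxD
        simpa using this
      have h1 := hbD _ hx'
      calc a * x = (g : G) * (((g : G)⁻¹ * a * g) * ((g : G)⁻¹ * x * g)) * (g : G)⁻¹ := by group
        _ = (g : G) * (((g : G)⁻¹ * x * g) * ((g : G)⁻¹ * a * g)) * (g : G)⁻¹ := by rw [h1]
        _ = x * a := by group
    · have hDV : D ≤ (V : Subgroup G) := (le_inf inf_le_left Subgroup.le_normalizer).trans hSNV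
      exact hsD (hmeet V hVS hDV ⟨s.2, hSNV ⟨s.2, hsN'⟩⟩)
  refine ⟨hA S, fun T hTS => ?_⟩
  obtain ⟨U, hU⟩ := hCI S T (Ne.symm hTS)
  have hhalf : ∀ R : Sylow 2 G, (S : Subgroup G) ⊓ (T : Subgroup G) ≤ (R : Subgroup G) →
      (S : Subgroup G) ⊓ (T : Subgroup G) ≤ (Subgroup.center ↥(R : Subgroup G)).map (R : Subgroup G).subtype := by
    intro R hR x hx
    have hUC : (U : Subgroup G) ≤ Subgroup.centralizer ({x} : Set G) := fun u hu =>
      Subgroup.mem_centralizer_singleton_iff.mpr ((hcen U x (hU hx)).2 u hu)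
    have h1 := hA R x (hR hx) _ U.isPGroup' hUC
    have hUR : Nat.card ↥(U : Subgroup G) = Nat.card ↥(R : Subgroup G) := by
      rw [U.card_eq_multiplicity, R.card_eq_multiplicity]
    rw [hUR] at h1
    have hRC : (R : Subgroup G) ⊓ Subgroup.centralizer ({x} : Set G) = (R : Subgroup G) :=
      Subgroup.eq_of_le_of_card_ge inf_le_left h1
    refine ⟨⟨x, hR hx⟩, Subgroup.mem_center_iff.mpr (fun r => Subtype.ext ?_), rfl⟩
    exact Subgroup.mem_centralizer_singleton_iff.mp (inf_eq_left.mp hRC r.2)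
  exact le_inf (hhalf S inf_le_left) (hhalf T inf_le_right)

end Cfsg.Agent.S3183
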