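import Cfsg.Statements.S3184
import Cfsg.Agent.Lib.Inv.ZStarCor
import Cfsg.Agent.Lib.Inv.SylowIn

set_option autoImplicit false
open Cfsg

namespace Cfsg.Agent.S3184

/-- Let G be a finite group in which the intersection of any two distinct Sylow 2-subgroups is contained in the centre of some Sylow 2-subgroup, and let S be a Sylow 2-subgroup. If C is a nontrivial cyclic characteristic subgroup of S, then the involution of C is central modulo the largest normal subgroup of odd order of G: each of its conjugates has the same image in G/O(G). -/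
theorem result {G : Type*} [Group G] [Finite G]
    (hCI : ∀ S T : Sylow 2 G, S ≠ T → ∃ U : Sylow 2 G,
      (S : Subgroup G) ⊓ (T : Subgroup G) ≤ (Subgroup.center ↥(U : Subgroup G)).map (U : Subgroup G).subtype)
    (S : Sylow 2 G) (C : Subgroup ↥(S : Subgroup G)) (hC : C ≠ ⊥) (hCc : IsCyclic ↥C) (hCh : C.Characteristic)
    (c : ↥(S : Subgroup G)) (hc : c ∈ C) (hc2 : orderOf c = 2) :
    ∀ g : G, (QuotientGroup.mk (s := Cfsg.oddCore G) (g * (c : G) * g⁻¹)) =
      QuotientGroup.mk (s := Cfsg.oddCore G) (c : G) := by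
  classical
  haveI : Fact (Nat.Prime 2) := ⟨Nat.prime_two⟩
  intro g
  set z : G := (c : G) with hzdef
  have hz : orderOf z = 2 := by rw [hzdef, Subgroup.orderOf_coe, hc2]
  have hzS : z ∈ (S : Subgroup G) := c.2
  -- `c` is fixed by all automorphisms of `S`
  have haut : ∀ φ : MulAut (S : Subgroup G), φ c = c := by
    intro φ
    have hmem : φ c ∈ C := by
      have h := hCh.fixed φ
      rw [← h] at hc
      exact hc
    by_contra hne
    haveI := hCc
    haveI : Fintype C := Fintype.ofFinite _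
    have hsub : ({1, ⟨c, hc⟩, ⟨φ c, hmem⟩} : Finset C) ⊆ Finset.univ.filter fun a => a ^ 2 = 1 := by
      intro a ha
      simp only [Finset.mem_insert, Finset.mem_singleton] at ha
      refine Finset.mem_filter.2 ⟨Finset.mem_univ a, ?_⟩
      rcases ha with rfl | rfl | rfl
      · exact one_pow 2
      · exact Subtype.ext (orderOf_dvd_iff_pow_eq_one.1 (dvd_of_eq hc2))
      · refine Subtype.ext ?_
        show φ c ^ 2 = 1
        rw [← map_pow, orderOf_dvd_iff_pow_eq_one.1 (dvd_of_eq hc2), map_one]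
    have hc1 : c ≠ 1 := fun h => by rw [h, orderOf_one] at hc2; omega
    have h3 : ({1, ⟨c, hc⟩, ⟨φ c, hmem⟩} : Finset C).card = 3 := by
      rw [Finset.card_insert_of_notMem, Finset.card_insert_of_notMem, Finset.card_singleton]
      · simp only [Finset.mem_singleton, Subtype.mk.injEq]
        exact fun h => hne h.symm
      · simp only [Finset.mem_insert, Finset.mem_singleton, not_or]
        exact ⟨fun h => hc1 (congrArg Subtype.val h).symm,
          fun h => hc1 (by
            have := congrArg Subtype.val h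
            exact φ.injective (by rw [map_one]; exact this.symm))⟩
    have := (Finset.card_le_card hsub).trans (IsCyclic.card_pow_eq_one_le (α := C) two_pos)
    omega
  have hnorm : ∀ n : G, n • S = S → n * z * n⁻¹ = z := by
    intro n hn
    have hmem : ∀ x : G, x ∈ (S : Subgroup G) ↔ n * x * n⁻¹ ∈ (S : Subgroup G) := fun x => by
      have h := SetLike.ext_iff.1 hn (n * x * n⁻¹)
      rw [Inv.mem_smul_sylow] at h
      rw [show n⁻¹ * (n * x * n⁻¹) * n = x by group] at h
      exact h
    let φ : MulAut (S : Subgroup G) :=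
      { toFun := fun x => ⟨n * x * n⁻¹, (hmem x).1 x.2⟩
        invFun := fun x => ⟨n⁻¹ * x * n, (hmem _).2 (by
          rw [show n * (n⁻¹ * (x : G) * n) * n⁻¹ = x by group]; exact x.2)⟩
        left_inv := fun x => Subtype.ext (by group)
        right_inv := fun x => Subtype.ext (by group)
        map_mul' := fun x y => Subtype.ext (by simp [mul_assoc]) }
    exact congrArg Subtype.val (haut φ)
  have hSz : (S : Subgroup G) ≤ Subgroup.centralizer ({z} : Set G) := fun s hs => by
    have := hnorm s (Sylow.smul_eq_iff_mem_normalizer.2 (Subgroup.le_normalizer hs))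
    exact Subgroup.mem_centralizer_singleton_iff.2 (mul_inv_eq_iff_eq_mul.1 this)
  have hiso : Cfsg.IsIsolatedInvolution z := by
    rw [Inv.isolated_iff_sylow hz S hzS]
    intro a ha
    set w := a * z * a⁻¹ with hw
    set L := Subgroup.centralizer ({w} : Set G) with hL
    have haS : ((a • S : Sylow 2 G) : Subgroup G) ≤ L := fun x hx => by
      have h : (a⁻¹ * x * a) * z = z * (a⁻¹ * x * a) :=
        Subgroup.mem_centralizer_singleton_iff.1 (hSz (Inv.mem_smul_sylow.1 hx))
      refine Subgroup.mem_centralizer_singleton_iff.2 ?_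
      calc x * w = a * ((a⁻¹ * x * a) * z) * a⁻¹ := by rw [hw]; group
        _ = w * x := by rw [h, hw]; group
    obtain ⟨k, hk, hle⟩ := Inv.exists_le_smul_sylow
      (S.isPGroup'.to_le (inf_le_left : (S : Subgroup G) ⊓ L ≤ S)) inf_le_right haS
    set y := k * a with hy
    have hyz : y * z * y⁻¹ = w := by
      rw [hy, show k * a * z * (k * a)⁻¹ = k * w * k⁻¹ by rw [hw]; group,
        Subgroup.mem_centralizer_singleton_iff.1 hk, mul_inv_cancel_right]
    rw [smul_smul, ← hy] at hle
    by_cases hT : y • S = S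
    · rw [← hyz]; exact hnorm y hT
    obtain ⟨U, hU⟩ := hCI S (y • S) (fun h => hT h.symm)
    have hzw : Commute z w :=
      (Subgroup.mem_centralizer_singleton_iff.1 (hSz ha)).symm
    have hcomm : ∀ x ∈ (S : Subgroup G) ⊓ ((y • S : Sylow 2 G) : Subgroup G),
        (U : Subgroup G) ≤ Subgroup.centralizer ({x} : Set G) := by
      intro x hx u hu
      obtain ⟨x', hx', rfl⟩ := hU hx
      exact Subgroup.mem_centralizer_singleton_iff.2
        (congrArg Subtype.val (Subgroup.mem_center_iff.1 hx' ⟨u, hu⟩))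
    have hzT : z ∈ ((y • S : Sylow 2 G) : Subgroup G) :=
      hle ⟨hzS, Subgroup.mem_centralizer_singleton_iff.2 hzw.eq⟩
    have hwT : w ∈ ((y • S : Sylow 2 G) : Subgroup G) :=
      hle ⟨ha, Subgroup.mem_centralizer_singleton_iff.2 rfl⟩
    obtain ⟨k₁, hk₁, e₁⟩ := Inv.exists_smul_sylow_eq hSz (hcomm z ⟨hzS, hzT⟩)
    have hTL : ((y • S : Sylow 2 G) : Subgroup G) ≤ L := fun x hx => by
      have h : (y⁻¹ * x * y) * z = z * (y⁻¹ * x * y) :=
        Subgroup.mem_centralizer_singleton_iff.1 (hSz (Inv.mem_smul_sylow.1 hx))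
      refine Subgroup.mem_centralizer_singleton_iff.2 ?_
      calc x * w = y * ((y⁻¹ * x * y) * z) * y⁻¹ := by rw [← hyz]; group
        _ = w * x := by rw [h, ← hyz]; group
    obtain ⟨k₂, hk₂, e₂⟩ := Inv.exists_smul_sylow_eq hTL (hcomm w ⟨ha, hwT⟩)
    rw [smul_smul] at e₂
    have hn := hnorm (k₁⁻¹ * (k₂ * y)) (by rw [mul_smul, e₂, ← e₁, inv_smul_smul])
    have h1 : k₁ * z * k₁⁻¹ = z := by
      rw [Subgroup.mem_centralizer_singleton_iff.1 hk₁, mul_inv_cancel_right]
    have h2 : k₂ * w * k₂⁻¹ = w := by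
      rw [Subgroup.mem_centralizer_singleton_iff.1 hk₂, mul_inv_cancel_right]
    calc w = k₂ * (y * z * y⁻¹) * k₂⁻¹ := by rw [hyz, h2]
      _ = k₁ * ((k₁⁻¹ * (k₂ * y)) * z * (k₁⁻¹ * (k₂ * y))⁻¹) * k₁⁻¹ := by group
      _ = z := by rw [hn, h1]
  rw [QuotientGroup.eq]
  have h := inv_mem (Inv.glauberman hiso g)
  convert h using 1
  rw [show (g * z * g⁻¹)⁻¹ = g * z⁻¹ * g⁻¹ by group, Inv.inv_eq_self_of_orderOf_two hz]
  rw [mul_inv_rev, mul_inv_rev, mul_inv_rev, inv_inv, Inv.inv_eq_self_of_orderOf_two hz]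
  group

end Cfsg.Agent.S3184
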