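import Cfsg.Statements.S3190
import Cfsg.Agent.Lib.Local.PGroup
import Mathlib

set_option autoImplicit false
open Cfsg

namespace Cfsg.Agent.S3190

/-- Let p be an odd prime and, inside a finite group, let P be a p-subgroup normalized by a Klein four-group T. Let R be a subgroup of P, normal in P and normalized by T, such that P is the product of R with the centralizer of T in P. If T centralizes the centre of P, then T centralizes the centre of R. -/
theorem result {X : Type*} [Group X] [Finite X]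
    {p : ℕ} (hp : p.Prime) (hodd : Odd p) (P T R : Subgroup X) (hP : IsPGroup p ↥P) (hT : IsKleinFour ↥T)
    (hTP : T ≤ Subgroup.normalizer (P : Set X)) (hRP : R ≤ P) (hRn : (R.subgroupOf P).Normal)
    (hTR : T ≤ Subgroup.normalizer (R : Set X)) (hfac : R ⊔ (P ⊓ Subgroup.centralizer (T : Set X)) = P)
    (hZ : T ≤ Subgroup.centralizer (((Subgroup.center ↥P).map P.subtype : Subgroup X) : Set X)) :
    T ≤ Subgroup.centralizer (((Subgroup.center ↥R).map R.subtype : Subgroup X) : Set X) := by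
  haveI : Fact p.Prime := ⟨hp⟩
  haveI hT4 : IsKleinFour ↥T := hT
  haveI : Fintype ↥T := Fintype.ofFinite _
  let Z : Subgroup X := (Subgroup.center ↥R).map R.subtype
  have hZmem : ∀ z, z ∈ Z ↔ z ∈ R ∧ ∀ r ∈ R, r * z = z * r := by
    intro z
    constructor
    · rintro ⟨⟨z, hz⟩, hc, rfl⟩
      refine ⟨hz, fun r hr => ?_⟩
      exact congrArg Subtype.val (Subgroup.mem_center_iff.mp hc ⟨r, hr⟩)
    · rintro ⟨hz, hc⟩
      exact ⟨⟨z, hz⟩, Subgroup.mem_center_iff.mpr (fun r => Subtype.ext (hc r r.2)), rfl⟩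
  haveI hZab : IsMulCommutative ↥Z := ⟨⟨fun a b => Subtype.ext (((hZmem _).mp b.2).2 a ((hZmem _).mp a.2).1)⟩⟩
  letI : CommGroup ↥Z := { (inferInstance : Group ↥Z) with mul_comm := fun a b => hZab.is_comm.comm a b }
  -- conjugation by elements normalizing `R` maps `Z` to itself
  have hconjZ : ∀ g ∈ Subgroup.normalizer (R : Set X), ∀ z ∈ Z, g * z * g⁻¹ ∈ Z := by
    intro g hg z hz
    obtain ⟨hzR, hc⟩ := (hZmem z).mp hz
    refine (hZmem _).mpr ⟨(Subgroup.mem_normalizer_iff.mp hg z).mp hzR, fun r hr => ?_⟩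
    have h1 : g⁻¹ * r * g ∈ R := by
      have := (Subgroup.mem_normalizer_iff.mp hg (g⁻¹ * r * g)).mpr (by simpa [mul_assoc] using hr)
      exact this
    calc r * (g * z * g⁻¹) = g * ((g⁻¹ * r * g) * z) * g⁻¹ := by group
      _ = g * (z * (g⁻¹ * r * g)) * g⁻¹ := by rw [hc _ h1]
      _ = g * z * g⁻¹ * r := by group
  let act : ↥T → ↥Z → ↥Z := fun t z => ⟨(t : X) * z * (t : X)⁻¹, hconjZ _ (hTR t.2) _ z.2⟩
  have hact_mul : ∀ t a b, act t (a * b) = act t a * act t b := by
    intro t a b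
    exact Subtype.ext (by simp [act, mul_assoc])
  have hact_act : ∀ s t z, act s (act t z) = act (s * t) z := by
    intro s t z
    exact Subtype.ext (by simp [act, mul_assoc])
  let ν : ↥Z →* ↥Z := MonoidHom.mk' (fun z => ∏ t : ↥T, act t z)
    (fun a b => by simp [hact_mul, Finset.prod_mul_distrib])
  have hνact : ∀ s z, ν (act s z) = ν z := by
    intro s z
    change (∏ t : ↥T, act t (act s z)) = ∏ t : ↥T, act t z
    simp only [hact_act]
    exact Fintype.prod_equiv (Equiv.mulRight s) _ _ (fun t => rfl)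
  -- elements of `C_P(T)` commute with the norm map
  let actg : ∀ g ∈ Subgroup.normalizer (R : Set X), ↥Z →* ↥Z := fun g hg =>
    MonoidHom.mk' (fun z => ⟨g * z * g⁻¹, hconjZ g hg _ z.2⟩) (fun a b => Subtype.ext (by simp [mul_assoc]))
  have hPR : P ≤ Subgroup.normalizer (R : Set X) := (Subgroup.normal_subgroupOf_iff_le_normalizer hRP).mp hRn
  let K : Subgroup X := ν.ker.map Z.subtype
  have hKZ : K ≤ Z := Subgroup.map_subtype_le _
  have hKR : K ≤ R := fun k hk => ((hZmem k).mp (hKZ hk)).1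
  have hRK : R ≤ Subgroup.normalizer (K : Set X) := by
    intro r hr
    rw [Subgroup.mem_normalizer_iff]
    intro k
    constructor
    · intro hk
      rw [((hZmem k).mp (hKZ hk)).2 r hr]
      simpa [mul_assoc] using hk
    · intro hk
      have h1 := ((hZmem _).mp (hKZ hk)).2 r⁻¹ (R.inv_mem hr)
      have h2 : k = r * k * r⁻¹ := by
        calc k = (r⁻¹ * (r * k * r⁻¹)) * r := by group
          _ = ((r * k * r⁻¹) * r⁻¹) * r := by rw [h1]
          _ = r * k * r⁻¹ := by group
      rw [h2]; exact hk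
  have hCK : P ⊓ Subgroup.centralizer (T : Set X) ≤ Subgroup.normalizer (K : Set X) := by
    have key : ∀ c ∈ P ⊓ Subgroup.centralizer (T : Set X), ∀ k ∈ K, c * k * c⁻¹ ∈ K := by
      rintro c ⟨hcP, hcT⟩ k ⟨z, hz, rfl⟩
      refine ⟨actg c (hPR hcP) z, ?_, rfl⟩
      change ν (actg c (hPR hcP) z) = 1
      have hcomm : ∀ t : ↥T, act t (actg c (hPR hcP) z) = actg c (hPR hcP) (act t z) := by
        intro t
        apply Subtype.ext
        have h1 : (t : X) * c = c * (t : X) := hcT _ t.2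
        simp only [act, actg, MonoidHom.mk'_apply]
        calc (t : X) * (c * (z : X) * c⁻¹) * (t : X)⁻¹ = ((t : X) * c) * z * ((t : X) * c)⁻¹ := by group
          _ = (c * (t : X)) * z * (c * (t : X))⁻¹ := by rw [h1]
          _ = c * ((t : X) * z * (t : X)⁻¹) * c⁻¹ := by group
      change (∏ t : ↥T, act t (actg c (hPR hcP) z)) = 1
      rw [Finset.prod_congr rfl (fun t _ => hcomm t), ← map_prod]
      have hz' : (∏ t : ↥T, act t z) = 1 := hz
      rw [hz', map_one]
    intro c hc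
    rw [Subgroup.mem_normalizer_iff]
    intro k
    refine ⟨key c hc k, fun hk => ?_⟩
    have := key c⁻¹ (Subgroup.inv_mem _ hc) _ hk
    simpa [mul_assoc] using this
  have hPK : P ≤ Subgroup.normalizer (K : Set X) := by
    rw [← hfac]; exact sup_le hRK hCK
  -- the norm map is injective
  have hKbot : K = ⊥ := by
    by_contra hne
    have hKP : K ≤ P := hKR.trans hRP
    haveI hKn : (K.subgroupOf P).Normal := (Subgroup.normal_subgroupOf_iff_le_normalizer hKP).mpr hPK
    have hKne : K.subgroupOf P ≠ ⊥ := by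
      rw [Ne, Subgroup.subgroupOf_eq_bot, disjoint_iff, inf_eq_left.mpr hKP]
      exact hne
    obtain ⟨w, hw, hw1⟩ := (Subgroup.bot_or_exists_ne_one _).resolve_left
      (Cfsg.Agent.Local.inf_center_ne_bot hP (K.subgroupOf P) hKne)
    obtain ⟨hwK, hwC⟩ := hw
    obtain ⟨z, hz, hzw⟩ := hwK
    have hfix : ∀ t : ↥T, act t z = z := by
      intro t
      apply Subtype.ext
      have h1 := hZ t.2 ((w : X)) ⟨w, hwC, rfl⟩
      have h2 : (z : X) = (w : X) := hzw
      change (t : X) * z * (t : X)⁻¹ = z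
      rw [h2, ← h1]; group
    have hz4 : z ^ 4 = 1 := by
      have hz' : (∏ t : ↥T, act t z) = 1 := hz
      rw [Finset.prod_congr rfl (fun t _ => hfix t), Finset.prod_const, Finset.card_univ,
        ← Nat.card_eq_fintype_card, IsKleinFour.card_four] at hz'
      exact hz'
    obtain ⟨e, he⟩ := hP w
    have h4 : (w : X) ^ 4 = 1 := by
      rw [← show (z : X) = (w : X) from hzw]
      exact_mod_cast congrArg Subtype.val hz4
    have h4' : orderOf (w : X) ∣ 4 := orderOf_dvd_of_pow_eq_one h4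
    have hpe : orderOf (w : X) ∣ p ^ e := orderOf_dvd_of_pow_eq_one (by exact_mod_cast congrArg Subtype.val he)
    have hcop : Nat.Coprime 4 (p ^ e) := by
      apply Nat.Coprime.pow_right
      rw [show (4 : ℕ) = 2 ^ 2 by norm_num]
      exact Nat.Coprime.pow_left _ (Nat.coprime_two_left.mpr hodd)
    have : orderOf (w : X) = 1 := Nat.eq_one_of_dvd_one (hcop ▸ Nat.dvd_gcd h4' hpe)
    exact hw1 (Subtype.ext (orderOf_eq_one_iff.mp this))
  intro t ht
  rw [Subgroup.mem_centralizer_iff]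
  intro z hz
  have hmem : ν (act ⟨t, ht⟩ ⟨z, hz⟩ * (⟨z, hz⟩ : ↥Z)⁻¹) = 1 := by
    rw [map_mul, map_inv, hνact, mul_inv_cancel]
  have hk : ((act ⟨t, ht⟩ ⟨z, hz⟩ * (⟨z, hz⟩ : ↥Z)⁻¹ : ↥Z) : X) ∈ K := ⟨_, hmem, rfl⟩
  rw [hKbot, Subgroup.mem_bot] at hk
  have h5 : t * z * t⁻¹ * z⁻¹ = 1 := hk
  calc z * t = (t * z * t⁻¹ * z⁻¹)⁻¹ * (t * z) := by group
    _ = t * z := by rw [h5]; group

end Cfsg.Agent.S3190
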