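import Cfsg.Statements.S3196
import Mathlib
-- import your own Cfsg.Agent.* helpers here

set_option autoImplicit false
open Cfsg

namespace Cfsg.Agent.S3196

/-- Let p be a prime and K a set of subgroups of order p of a finite group G, closed under conjugation, such that at least two distinct members of K commute elementwise, and whenever two distinct members X, Y of K commute: every subgroup of order p of the group XY they generate belongs to K, and every member W of K has centralizer meeting XY nontrivially. Then some member V of K commutes elementwise with every member of K and lies in O_p(G); in particular G is not simple. -/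
theorem result {G : Type*} [Group G] [Finite G]
    {p : ℕ} (hp : p.Prime) (K : Set (Subgroup G)) (hK : ∀ X ∈ K, Nat.card ↥X = p)
    (hKc : ∀ X ∈ K, ∀ g : G, X.map (MulAut.conj g).toMonoidHom ∈ K)
    (hex : ∃ X ∈ K, ∃ Y ∈ K, X ≠ Y ∧ ∀ x ∈ X, ∀ y ∈ Y, x * y = y * x)
    (ha : ∀ X ∈ K, ∀ Y ∈ K, X ≠ Y → (∀ x ∈ X, ∀ y ∈ Y, x * y = y * x) →
      ∀ Z : Subgroup G, Z ≤ X ⊔ Y → Nat.card ↥Z = p → Z ∈ K)
    (hb : ∀ X ∈ K, ∀ Y ∈ K, X ≠ Y → (∀ x ∈ X, ∀ y ∈ Y, x * y = y * x) →
      ∀ W ∈ K, (X ⊔ Y) ⊓ Subgroup.centralizer (W : Set G) ≠ ⊥) :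
    (∃ V ∈ K, (∀ W ∈ K, ∀ v ∈ V, ∀ w ∈ W, v * w = w * v) ∧ V ≤ Cfsg.pCore p G) ∧ ¬ IsSimpleGroup G := by
  classical
  haveI : Fact p.Prime := ⟨hp⟩
  let E : Set G := {x | x ≠ 1 ∧ Subgroup.zpowers x ∈ K}
  have hord : ∀ x ∈ E, orderOf x = p := fun x hx => by rw [← Nat.card_zpowers, hK _ hx.2]
  -- generators
  have hgen : ∀ X ∈ K, ∀ x ∈ X, x ≠ 1 → Subgroup.zpowers x = X := by
    intro X hX x hx hx1
    refine Subgroup.eq_of_le_of_card_ge (Subgroup.zpowers_le.2 hx) ?_
    have hd := Subgroup.orderOf_dvd_natCard _ hx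
    rw [hK X hX] at hd ⊢
    rw [Nat.card_zpowers]
    rcases hp.eq_one_or_self_of_dvd _ hd with h | h
    · exact absurd (orderOf_eq_one_iff.1 h) hx1
    · exact h.ge
  have hgex : ∀ X ∈ K, ∃ x ∈ X, x ≠ 1 := by
    intro X hX
    by_contra! h
    have hb : X = ⊥ := (Subgroup.eq_bot_iff_forall X).2 h
    have := hK X hX
    rw [hb, Subgroup.card_bot] at this
    exact hp.one_lt.ne this
  have hcom : ∀ {x y : G}, x ∈ E → ∀ {a : G}, a ∈ Subgroup.zpowers x → a ≠ 1 → Commute a y →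
      Commute x y := by
    intro x y hx a ha ha1 hay
    have : x ∈ Subgroup.zpowers a := (hgen _ hx.2 a ha ha1).symm ▸ Subgroup.mem_zpowers x
    obtain ⟨k, rfl⟩ := Subgroup.mem_zpowers_iff.1 this
    exact hay.zpow_left k
  have hpw : ∀ {x : G}, x ∈ E → ∀ {a : G}, a ∈ Subgroup.zpowers x → a ≠ 1 → a ∈ E := by
    intro x hx a ha ha1
    exact ⟨ha1, (hgen _ hx.2 a ha ha1).symm ▸ hx.2⟩
  have hconjE : ∀ {x : G}, x ∈ E → ∀ g : G, g * x * g⁻¹ ∈ E := by
    intro x hx g
    refine ⟨fun h => hx.1 (conj_eq_one_iff.1 h), ?_⟩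
    have := hKc _ hx.2 g
    rwa [MonoidHom.map_zpowers] at this
  have hline : ∀ {x y : G}, x ∈ E → y ∈ E → Commute x y → ∀ i j : ℕ, x ^ i * y ^ j ≠ 1 →
      x ^ i * y ^ j ∈ E := by
    intro x y hx hy hxy i j hne
    by_cases heq : Subgroup.zpowers x = Subgroup.zpowers y
    · refine hpw hx (mul_mem (pow_mem (Subgroup.mem_zpowers x) i) ?_) hne
      rw [heq]; exact pow_mem (Subgroup.mem_zpowers y) j
    · refine ⟨hne, ha _ hx.2 _ hy.2 heq ?_ _ ?_ ?_⟩
      · intro a haa b hbb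
        obtain ⟨k, rfl⟩ := Subgroup.mem_zpowers_iff.1 haa
        obtain ⟨l, rfl⟩ := Subgroup.mem_zpowers_iff.1 hbb
        exact (hxy.zpow_zpow k l).eq
      · exact Subgroup.zpowers_le.2 (Subgroup.mul_mem_sup (pow_mem (Subgroup.mem_zpowers x) i)
          (pow_mem (Subgroup.mem_zpowers y) j))
      · rw [Nat.card_zpowers]
        apply orderOf_eq_prime ?_ hne
        rw [(hxy.pow_pow i j).mul_pow, ← pow_mul, ← pow_mul, mul_comm i, mul_comm j, pow_mul,
          pow_mul, ← hord x hx, pow_orderOf_eq_one, hord x hx, ← hord y hy, pow_orderOf_eq_one,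
          one_pow, one_pow, one_mul]
  have hmeet : ∀ {x y w : G}, x ∈ E → y ∈ E → w ∈ E → Commute x y →
      Subgroup.zpowers x ≠ Subgroup.zpowers y →
      ∃ i j : ℕ, x ^ i * y ^ j ≠ 1 ∧ Commute (x ^ i * y ^ j) w := by
    intro x y w hx hy hw hxy hne
    have hc : ∀ a ∈ Subgroup.zpowers x, ∀ b ∈ Subgroup.zpowers y, a * b = b * a := by
      intro a haa b hbb
      obtain ⟨k, rfl⟩ := Subgroup.mem_zpowers_iff.1 haa
      obtain ⟨l, rfl⟩ := Subgroup.mem_zpowers_iff.1 hbb
      exact (hxy.zpow_zpow k l).eq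
    obtain ⟨⟨z, hz⟩, hz1⟩ :=
      (Subgroup.nontrivial_iff_exists_ne_one _).1 (Subgroup.nontrivial_iff_ne_bot _ |>.2
        (hb _ hx.2 _ hy.2 hne hc _ hw.2)) |> fun ⟨z, hz, hz1⟩ =>
          (⟨⟨z, hz⟩, hz1⟩ : ∃ z : {z // z ∈ (Subgroup.zpowers x ⊔ Subgroup.zpowers y) ⊓
            Subgroup.centralizer (Subgroup.zpowers w : Set G)}, (z : G) ≠ 1)
    let φ := MonoidHom.noncommCoprod (Subgroup.zpowers x).subtype (Subgroup.zpowers y).subtype
      (fun a b => hc _ a.2 _ b.2)
    have hr : z ∈ φ.range := by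
      have e : φ.range = Subgroup.zpowers x ⊔ Subgroup.zpowers y :=
        (MonoidHom.noncommCoprod_range _ _ _).trans
          (congrArg₂ _ (Subgroup.range_subtype _) (Subgroup.range_subtype _))
      rw [e]
      exact hz.1
    obtain ⟨⟨⟨a, haa⟩, ⟨b, hbb⟩⟩, rfl⟩ := hr
    obtain ⟨i, rfl⟩ := (mem_powers_iff_mem_zpowers).2 haa
    obtain ⟨j, rfl⟩ := (mem_powers_iff_mem_zpowers).2 hbb
    exact ⟨i, j, hz1, (Subgroup.mem_centralizer_iff.1 hz.2 w (Subgroup.mem_zpowers w)).symm⟩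
  have hne_of : ∀ {x y w : G}, x ∈ E → y ∈ E → Commute y w → ¬ Commute x w →
      Subgroup.zpowers x ≠ Subgroup.zpowers y := by
    intro x y w hx hy hyw hxw h
    exact hxw (hcom hx (h ▸ Subgroup.mem_zpowers y) hy.1 hyw)
  -- a square of commuting pairs gives a central member
  have square : ∀ x y u w : G, x ∈ E → y ∈ E → u ∈ E → w ∈ E → Commute x y → Commute y w →
      Commute x u → Commute u w → ¬ Commute x w → ¬ Commute y u →
      ∃ c ∈ E, ∀ r ∈ E, Commute c r := by
    intro x y u w₀ hx hy hu hw₀ hxy hyw₀ hxu huw₀ hxw₀ hyu₀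
    have hxy1 : x ^ 1 * y ^ 1 ≠ 1 := by
      intro h
      rw [pow_one, pow_one] at h
      exact hxw₀ (by rw [eq_inv_of_mul_eq_one_left h]; exact hyw₀.inv_left)
    obtain ⟨a, b, hne, hcm⟩ := hmeet hw₀ hu (hline hx hy hxy 1 1 hxy1) huw₀.symm
      (Ne.symm (hne_of hu hw₀ hyw₀.symm (fun h => hyu₀ h.symm)))
    rw [pow_one, pow_one] at hcm
    have ha1 : w₀ ^ a ≠ 1 := by
      intro h
      rw [h, one_mul] at hne hcm
      apply hyu₀
      have h1 : Commute (u ^ b) x := (hxu.pow_right b).symm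
      have h2 : Commute (u ^ b) (x⁻¹ * (x * y)) := h1.inv_right.mul_right hcm
      rw [inv_mul_cancel_left] at h2
      exact (hcom hu (pow_mem (Subgroup.mem_zpowers u) b) hne h2).symm
    set w := w₀ ^ a with hw_def
    set v := u ^ b with hv_def
    have hwy : Commute w y := (hyw₀.pow_right a).symm
    have hwv : Commute w v := huw₀.symm.pow_pow a b
    have hvx : Commute v x := (hxu.pow_right b).symm
    have hxw : ¬ Commute x w := fun h =>
      hxw₀ ((hcom hw₀ (pow_mem (Subgroup.mem_zpowers w₀) a) ha1 h.symm).symm)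
    set c := x⁻¹ * w⁻¹ * x * w with hc
    have hc2 : c = v * y * v⁻¹ * y⁻¹ := by
      have e1 : x * y * (w * v) = x * w * (y * v) := by
        rw [mul_assoc x y, ← mul_assoc y w v, ← hwy.eq, mul_assoc w y v, ← mul_assoc x w]
      have e2 : w * v * (x * y) = w * x * (v * y) := by
        rw [mul_assoc w v, ← mul_assoc v x y, hvx.eq, mul_assoc x v y, ← mul_assoc w x]
      have e3 : x * w * (y * v) = w * x * (v * y) := by rw [← e1, ← e2]; exact hcm.eq.symm
      have e4 : x * w = w * x * (v * y) * (y * v)⁻¹ := eq_mul_inv_of_mul_eq e3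
      calc c = x⁻¹ * w⁻¹ * (x * w) := by rw [hc]; group
        _ = v * y * v⁻¹ * y⁻¹ := by rw [e4]; group
    have hcy : Commute c y := by
      rw [hc]
      exact (((hxy.inv_left).mul_left hwy.inv_left).mul_left hxy).mul_left hwy
    have hcx : Commute c x := by
      rw [hc2]
      exact (((hvx).mul_left hxy.symm).mul_left hvx.inv_left).mul_left hxy.symm.inv_left
    have hcw : Commute c w := by
      rw [hc2]
      exact (((hwv.symm).mul_left hwy.symm).mul_left hwv.symm.inv_left).mul_left hwy.symm.inv_left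
    have hc1 : c ≠ 1 := by
      intro h
      apply hxw
      calc x * w = w * x * c := by rw [hc]; group
        _ = w * x := by rw [h, mul_one]
    have hwE : w ∈ E := hpw hw₀ (pow_mem (Subgroup.mem_zpowers w₀) a) ha1
    have hxc : x * c ∈ E := by
      have h := hconjE hx w⁻¹
      have e : w⁻¹ * x * w⁻¹⁻¹ = x * c := by rw [hc]; group
      rwa [e] at h
    have hcE : c ∈ E := by
      have hcm' : Commute (x ^ (p - 1)) (x * c) :=
        ((Commute.refl x).mul_right hcx.symm).pow_left _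
      have hxinv : x ^ (p - 1) = x⁻¹ := by
        refine eq_inv_of_mul_eq_one_left ?_
        rw [← pow_succ, Nat.sub_add_cancel hp.one_lt.le, ← hord x hx, pow_orderOf_eq_one]
      have := hline hx hxc ((Commute.refl x).mul_right hcx.symm) (p - 1) 1
      rw [hxinv, pow_one, inv_mul_cancel_left] at this
      exact this hc1
    refine ⟨c, hcE, fun r hr => ?_⟩
    by_contra hcr
    obtain ⟨i, j, hij, hrij⟩ := hmeet hcE hx hr hcx
      (fun h => hxw (hcom hx (h ▸ Subgroup.mem_zpowers c) hc1 hcw))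
    obtain ⟨k, l, hkl, hrkl⟩ := hmeet hcE hwE hr hcw
      (fun h => hxw (hcom hwE (h ▸ Subgroup.mem_zpowers c) hc1 hcx).symm)
    have hj : x ^ j ≠ 1 := by
      intro h
      rw [h, mul_one] at hij hrij
      exact hcr (hcom hcE (pow_mem (Subgroup.mem_zpowers c) i) hij hrij)
    have hl : w ^ l ≠ 1 := by
      intro h
      rw [h, mul_one] at hkl hrkl
      exact hcr (hcom hcE (pow_mem (Subgroup.mem_zpowers c) k) hkl hrkl)
    have hcs : ∀ m n : ℕ, (w ^ n)⁻¹ * x ^ m * w ^ n = x ^ m * c ^ (m * n) := by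
      intro m n
      induction n with
      | zero => simp
      | succ n ih =>
        have h1 : w⁻¹ * x ^ m * w = x ^ m * c ^ m := by
          have := (map_pow (MulAut.conj w⁻¹) x m)
          simp only [MulAut.conj_apply, inv_inv] at this
          rw [this, show w⁻¹ * x * w = x * c by rw [hc]; group, hcx.symm.mul_pow]
        have h2 : w⁻¹ * c ^ (m * n) * w = c ^ (m * n) := by
          rw [(hcw.pow_left (m * n)).symm.inv_left.eq, inv_mul_cancel_right]
        calc (w ^ (n + 1))⁻¹ * x ^ m * w ^ (n + 1)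
            = w⁻¹ * ((w ^ n)⁻¹ * x ^ m * w ^ n) * w := by rw [pow_succ]; group
          _ = w⁻¹ * x ^ m * w * (w⁻¹ * c ^ (m * n) * w) := by rw [ih]; group
          _ = x ^ m * c ^ (m * (n + 1)) := by
            rw [h1, h2, mul_assoc, ← pow_add]; congr 2; ring
    set A := c ^ i * x ^ j with hA
    set B := c ^ k * w ^ l with hB
    have hAB : A⁻¹ * B⁻¹ * A * B = c ^ (j * l) := by
      have e1 : B⁻¹ * A * B = (w ^ l)⁻¹ * A * w ^ l := by
        have : Commute (c ^ k) A := ((Commute.pow_pow_self c k i)).mul_right (hcx.pow_pow k j)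
        rw [hB, mul_inv_rev, mul_assoc (w ^ l)⁻¹, mul_assoc (w ^ l)⁻¹]
        rw [← mul_assoc ((c ^ k)⁻¹ * A), mul_assoc (c ^ k)⁻¹ A, ← this.eq, inv_mul_cancel_left,
          ← mul_assoc]
      have e2 : (w ^ l)⁻¹ * A * w ^ l = c ^ i * (x ^ j * c ^ (j * l)) := by
        rw [← hcs j l, hA]
        have : Commute ((w ^ l)⁻¹) (c ^ i) := (hcw.pow_pow i l).symm.inv_left
        rw [← mul_assoc (w ^ l)⁻¹, this.eq]
        group
      calc A⁻¹ * B⁻¹ * A * B = A⁻¹ * (B⁻¹ * A * B) := by group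
        _ = A⁻¹ * (c ^ i * (x ^ j * c ^ (j * l))) := by rw [e1, e2]
        _ = c ^ (j * l) := by rw [hA]; group
    have hr' : Commute (c ^ (j * l)) r := by
      rw [← hAB]
      exact ((hrij.inv_left.mul_left hrkl.inv_left).mul_left hrij).mul_left hrkl
    refine hcr (hcom hcE (pow_mem (Subgroup.mem_zpowers c) _) (fun h => ?_) hr')
    have hd := orderOf_dvd_of_pow_eq_one h
    rw [hord c hcE] at hd
    rcases hp.dvd_mul.1 hd with h | h
    · obtain ⟨q, rfl⟩ := h
      exact hj (by rw [pow_mul, ← hord x hx, pow_orderOf_eq_one, one_pow])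
    · obtain ⟨q, rfl⟩ := h
      exact hl (by rw [pow_mul, ← hord w hwE, pow_orderOf_eq_one, one_pow])
  -- a central member exists
  obtain ⟨c, hcE, hrad⟩ : ∃ c ∈ E, ∀ r ∈ E, Commute c r := by
    obtain ⟨X, hX, Y, hY, hXY, hXYc⟩ := hex
    obtain ⟨x, hxX, hx1⟩ := hgex X hX
    obtain ⟨y₀, hyY, hy1⟩ := hgex Y hY
    have hx : x ∈ E := ⟨hx1, (hgen X hX x hxX hx1).symm ▸ hX⟩
    have hy₀ : y₀ ∈ E := ⟨hy1, (hgen Y hY y₀ hyY hy1).symm ▸ hY⟩
    have hxy₀ : Commute x y₀ := hXYc x hxX y₀ hyY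
    by_cases h1 : ∀ r ∈ E, Commute x r
    · exact ⟨x, hx, h1⟩
    push Not at h1
    obtain ⟨w, hw, hxw⟩ := h1
    obtain ⟨i, j, hne, hyw⟩ := hmeet hx hy₀ hw hxy₀
      (by rw [hgen X hX x hxX hx1, hgen Y hY y₀ hyY hy1]; exact hXY)
    set y := x ^ i * y₀ ^ j
    have hy : y ∈ E := hline hx hy₀ hxy₀ i j hne
    have hxy : Commute x y := (Commute.self_pow x i).mul_right (hxy₀.pow_right j)
    by_cases h2 : ∀ r ∈ E, Commute y r
    · exact ⟨y, hy, h2⟩
    push Not at h2
    obtain ⟨u, hu, hyu⟩ := h2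
    obtain ⟨i₁, j₁, ht1, htu⟩ := hmeet hy hx hu hxy.symm (Ne.symm (hne_of hx hy hyw hxw))
    obtain ⟨i₂, j₂, hs1, hsu⟩ := hmeet hy hw hu hyw
      (Ne.symm (hne_of hw hy hxy.symm fun h => hxw h.symm))
    set t := y ^ i₁ * x ^ j₁ with ht
    set s := y ^ i₂ * w ^ j₂ with hs
    have hxj : x ^ j₁ ≠ 1 := by
      intro h
      rw [h, mul_one] at ht
      exact hyu (hcom hy (ht ▸ pow_mem (Subgroup.mem_zpowers y) i₁) ht1 htu)
    have hwj : w ^ j₂ ≠ 1 := by
      intro h
      rw [h, mul_one] at hs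
      exact hyu (hcom hy (hs ▸ pow_mem (Subgroup.mem_zpowers y) i₂) hs1 hsu)
    have hty : Commute t y := ((Commute.pow_self y i₁)).mul_left (hxy.pow_left j₁)
    have hys : Commute y s := (Commute.self_pow y i₂).mul_right (hyw.pow_right j₂)
    refine square t y u s (hline hy hx hxy.symm _ _ ht1) hy hu (hline hy hw hyw _ _ hs1)
      hty hys htu hsu.symm ?_ hyu
    intro hts
    apply hxw
    have e1 : Commute (y ^ i₁) s := hys.pow_left i₁
    have h3 : Commute (x ^ j₁) s := by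
      have := (e1.inv_left).mul_left hts
      rwa [ht, inv_mul_cancel_left] at this
    have h4 : Commute (x ^ j₁) (w ^ j₂) := by
      have h5 : Commute (x ^ j₁) (y ^ i₂) := hxy.pow_pow j₁ i₂
      have := h5.inv_right.mul_right h3
      rwa [hs, inv_mul_cancel_left] at this
    have h6 : Commute x (w ^ j₂) := hcom hx (pow_mem (Subgroup.mem_zpowers x) j₁) hxj h4
    exact (hcom hw (pow_mem (Subgroup.mem_zpowers w) j₂) hwj h6.symm).symm
  have hVc : ∀ W ∈ K, ∀ v ∈ Subgroup.zpowers c, ∀ w ∈ W, v * w = w * v := by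
    intro W hW v hv w hwW
    by_cases hw1 : w = 1
    · subst hw1; simp
    obtain ⟨k, rfl⟩ := Subgroup.mem_zpowers_iff.1 hv
    exact ((hrad w ⟨hw1, (hgen W hW w hwW hw1).symm ▸ hW⟩).zpow_left k).eq
  set N := Subgroup.normalClosure ({c} : Set G) with hN
  set S := Group.conjugatesOfSet ({c} : Set G) with hS
  have hmemS : ∀ {w}, w ∈ S → ∃ g : G, g * c * g⁻¹ = w := by
    intro w hw
    obtain ⟨a, ha', haw⟩ := Group.mem_conjugatesOfSet_iff.1 hw
    rw [Set.mem_singleton_iff] at ha'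
    subst ha'
    exact isConj_iff.1 haw
  have hcomm : ∀ a ∈ N, ∀ b ∈ N, a * b = b * a := by
    have h1 : N ≤ Subgroup.centralizer (S : Set G) := by
      rw [hN, Subgroup.normalClosure, ← hS, Subgroup.closure_le]
      intro a ha'
      refine Subgroup.mem_centralizer_iff.2 fun b hb' => ?_
      obtain ⟨g, rfl⟩ := hmemS ha'
      obtain ⟨h, rfl⟩ := hmemS hb'
      have := (hrad _ (hconjE hcE (g⁻¹ * h))).map (MulAut.conj g)
      simpa [MulAut.conj_apply, mul_assoc] using this.eq.symm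
    have h2 : N ≤ Subgroup.centralizer (N : Set G) := by
      intro a ha'
      rw [hN, Subgroup.normalClosure, ← hS, Subgroup.centralizer_closure]
      exact h1 ha'
    exact fun a ha' b hb' => (Subgroup.mem_centralizer_iff.1 (h2 ha') b hb').symm
  have hexp : ∀ a ∈ N, a ^ p = 1 := by
    intro a ha'
    have ha'' : a ∈ Subgroup.closure S := ha'
    induction ha'' using Subgroup.closure_induction with
    | mem w hw =>
      obtain ⟨g, rfl⟩ := hmemS hw
      rw [← hord _ (hconjE hcE g), pow_orderOf_eq_one]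
    | one => exact one_pow p
    | mul a b ha₁ hb₁ iha ihb =>
      have hc' : Commute a b := hcomm a ha₁ b hb₁
      rw [hc'.mul_pow, iha ha₁, ihb hb₁, one_mul]
    | inv a ha₁ iha => rw [inv_pow, iha ha₁, inv_one]
  have hNn : N.Normal := Subgroup.normalClosure_normal
  have hcN : c ∈ N := Subgroup.subset_normalClosure rfl
  have hNp : IsPGroup p ↥N := fun a => ⟨1, Subtype.ext (by simpa using hexp a.1 a.2)⟩
  refine ⟨⟨Subgroup.zpowers c, hcE.2, hVc, ?_⟩, fun hsimple => ?_⟩
  · refine (Subgroup.zpowers_le.2 hcN).trans ?_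
    exact le_sSup ⟨hNn, hNp⟩
  · have htop : N = ⊤ := hNn.eq_bot_or_eq_top.resolve_left fun h =>
      hcE.1 (Subgroup.mem_bot.1 (h ▸ hcN))
    have hz : (Subgroup.zpowers c).Normal := ⟨fun a ha' g => by
      rw [hcomm g (htop ▸ Subgroup.mem_top g) a (htop ▸ Subgroup.mem_top a),
        mul_inv_cancel_right]
      exact ha'⟩
    have hzt : Subgroup.zpowers c = ⊤ := hz.eq_bot_or_eq_top.resolve_left fun h =>
      hcE.1 (Subgroup.zpowers_eq_bot.1 h)
    obtain ⟨X, hX, Y, hY, hXY, -⟩ := hex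
    have hcard : Nat.card G = p := by rw [← hK _ hcE.2, hzt, Subgroup.card_top]
    exact hXY ((Subgroup.eq_top_of_card_eq X (by rw [hK X hX, hcard])).trans
      (Subgroup.eq_top_of_card_eq Y (by rw [hK Y hY, hcard])).symm)

end Cfsg.Agent.S3196
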