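import Cfsg.Statements.S3200
import Cfsg.Agent.Lib.Solv.AbelianComplement

set_option autoImplicit false
open Cfsg

namespace Cfsg.Agent.S3200

/-- Let H be a finite group in which a Sylow 2-subgroup has an abelian complement (an abelian subgroup meeting it trivially whose product with it is all of H). Then H is solvable, and every subgroup and every quotient group of H again has a Sylow 2-subgroup with an abelian complement. -/
theorem result {H : Type*} [Group H] [Finite H]
    (S : Sylow 2 H) (C : Subgroup H) (hC : IsMulCommutative ↥C) (hSC : Subgroup.IsComplement' (S : Subgroup H) C) :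
    Group.IsSolvable H ∧
    (∀ L : Subgroup H, ∃ (P : Sylow 2 ↥L) (D : Subgroup ↥L), IsMulCommutative ↥D ∧ Subgroup.IsComplement' (P : Subgroup ↥L) D) ∧
    (∀ (N : Subgroup H) [N.Normal], ∃ (P : Sylow 2 (H ⧸ N)) (D : Subgroup (H ⧸ N)),
      IsMulCommutative ↥D ∧ Subgroup.IsComplement' (P : Subgroup (H ⧸ N)) D) := by
  classical
  haveI : Fact (Nat.Prime 2) := ⟨Nat.prime_two⟩
  haveI hsol := Cfsg.Agent.Solv.AbelianComplement.isSolvable S C hC hSC
  have hCodd := Cfsg.Agent.Solv.AbelianComplement.odd_card S C hSC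
  obtain ⟨k, hk⟩ := S.2.exists_card_eq
  have hHcard : Nat.card H = Nat.card ↥C * Nat.card ↥(S : Subgroup H) := by rw [mul_comm]; exact hSC.card_mul.symm
  refine ⟨hsol, fun L => ?_, fun N _ => ?_⟩
  · obtain ⟨P⟩ : Nonempty (Sylow 2 ↥L) := inferInstance
    have hLcard := (P : Subgroup ↥L).card_mul_index
    have hiodd : Odd (P : Subgroup ↥L).index :=
      Nat.not_even_iff_odd.mp (even_iff_two_dvd.not.mpr P.not_dvd_index)
    obtain ⟨j, hj⟩ := P.2.exists_card_eq
    obtain ⟨D, hD⟩ := Cfsg.Agent.Solv.hall_exists (G := ↥L) (m := (P : Subgroup ↥L).index)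
      (n := Nat.card ↥(P : Subgroup ↥L)) (by rw [← hLcard, mul_comm])
      (by rw [hj]; exact (Nat.coprime_two_right.mpr hiodd).pow_right j)
    have hD' : Nat.card ↥(D.map L.subtype) = Nat.card ↥D :=
      Subgroup.card_map_of_injective L.subtype_injective
    obtain ⟨g, hg⟩ := Cfsg.Agent.Solv.hall_conj_le hHcard (by rw [hk]; exact (Nat.coprime_two_right.mpr hCodd).pow_right k)
      (D.map L.subtype) C (by rw [hD', hD, hk]; exact (Nat.coprime_two_right.mpr hiodd).pow_right k) rfl
    refine ⟨P, D, ⟨⟨fun a b => ?_⟩⟩, Cfsg.Agent.Solv.AbelianComplement.complement_of P D (hD ▸ hiodd) ?_⟩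
    · have ha : g * (L.subtype a) * g⁻¹ ∈ C := hg ⟨L.subtype a, ⟨a, a.2, rfl⟩, rfl⟩
      have hb : g * (L.subtype b) * g⁻¹ ∈ C := hg ⟨L.subtype b, ⟨b, b.2, rfl⟩, rfl⟩
      have e : (g * (L.subtype a) * g⁻¹) * (g * (L.subtype b) * g⁻¹) = (g * (L.subtype b) * g⁻¹) * (g * (L.subtype a) * g⁻¹) :=
        congrArg Subtype.val (hC.is_comm.comm ⟨_, ha⟩ ⟨_, hb⟩)
      apply Subtype.ext
      apply Subtype.ext
      show (L.subtype a : H) * L.subtype b = L.subtype b * L.subtype a
      have e' := congrArg (fun z => g⁻¹ * z * g) e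
      simpa [mul_assoc] using e'
    · have h1 := D.card_mul_index
      rw [hD, ← hLcard, mul_comm (Nat.card ↥(P : Subgroup ↥L))] at h1
      exact dvd_of_eq (Nat.eq_of_mul_eq_mul_left hiodd.pos h1)
  · refine ⟨S.mapSurjective (QuotientGroup.mk'_surjective N), C.map (QuotientGroup.mk' N), ⟨⟨?_⟩⟩, ?_⟩
    · rintro ⟨_, a, ha, rfl⟩ ⟨_, b, hb, rfl⟩
      apply Subtype.ext
      change QuotientGroup.mk' N a * QuotientGroup.mk' N b = QuotientGroup.mk' N b * QuotientGroup.mk' N a
      rw [← map_mul, ← map_mul]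
      exact congrArg (QuotientGroup.mk' N) (congrArg Subtype.val (hC.is_comm.comm ⟨a, ha⟩ ⟨b, hb⟩))
    · refine Cfsg.Agent.Solv.AbelianComplement.complement_of _ _ (hCodd.of_dvd_nat (Subgroup.card_map_dvd C (QuotientGroup.mk' N))) ?_
      have hdvd : (C.map (QuotientGroup.mk' N)).index ∣ 2 ^ k :=
        (Subgroup.index_map_dvd C (QuotientGroup.mk'_surjective N)).trans (dvd_of_eq (hSC.index_eq_card.trans hk))
      obtain ⟨i, hi⟩ := (S.mapSurjective (QuotientGroup.mk'_surjective N)).2.exists_card_eq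
      obtain ⟨i', -, hi'⟩ := (Nat.dvd_prime_pow Nat.prime_two).mp hdvd
      have h2 : (C.map (QuotientGroup.mk' N)).index ∣ Nat.card ↥((S.mapSurjective (QuotientGroup.mk'_surjective N)) : Subgroup (H ⧸ N)) *
          ((S.mapSurjective (QuotientGroup.mk'_surjective N)) : Subgroup (H ⧸ N)).index :=
        (Subgroup.index_dvd_card (C.map (QuotientGroup.mk' N))).trans
          (dvd_of_eq (Subgroup.card_mul_index ((S.mapSurjective (QuotientGroup.mk'_surjective N)) : Subgroup (H ⧸ N))).symm)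
      refine Nat.Coprime.dvd_of_dvd_mul_right ?_ h2
      rw [hi']
      exact ((Nat.prime_two.coprime_iff_not_dvd).mpr (Sylow.not_dvd_index _)).pow_left i'

end Cfsg.Agent.S3200
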