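import Cfsg.Statements.S3203
import Mathlib

set_option autoImplicit false
open Cfsg

namespace Cfsg.Agent.S3203

/-- Let S be a Sylow 2-subgroup of a finite group G having exactly two subgroups A ≠ B that are maximal among its elementary abelian subgroups, with S = AB. Then A and B are each weakly closed in S with respect to G, and the normalizer of S normalizes both A and B. -/
theorem result {G : Type*} [Group G] [Finite G] (S : Sylow 2 G)
    (A B : Subgroup ↥(S : Subgroup G)) (hAB : A ≠ B)
    (hA : Cfsg.IsElementaryAbelian 2 A ∧ ∀ C : Subgroup ↥(S : Subgroup G), Cfsg.IsElementaryAbelian 2 C → A ≤ C → C = A)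
    (hB : Cfsg.IsElementaryAbelian 2 B ∧ ∀ C : Subgroup ↥(S : Subgroup G), Cfsg.IsElementaryAbelian 2 C → B ≤ C → C = B)
    (honly : ∀ C : Subgroup ↥(S : Subgroup G), Cfsg.IsElementaryAbelian 2 C →
      (∀ D : Subgroup ↥(S : Subgroup G), Cfsg.IsElementaryAbelian 2 D → C ≤ D → D = C) → C = A ∨ C = B)
    (hprod : ∀ s : ↥(S : Subgroup G), ∃ a ∈ A, ∃ b ∈ B, a * b = s)
    (A' B' : Subgroup G) (hA' : A' = A.map (S : Subgroup G).subtype) (hB' : B' = B.map (S : Subgroup G).subtype) :
    Cfsg.IsWeaklyClosed A' (S : Subgroup G) ∧ Cfsg.IsWeaklyClosed B' (S : Subgroup G) ∧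
      Subgroup.normalizer ((S : Subgroup G) : Set G) ≤ Subgroup.normalizer (A' : Set G) ⊓ Subgroup.normalizer (B' : Set G) := by
  subst hA' hB'
  -- it suffices to treat one of the two subgroups
  have main : ∀ (A B : Subgroup ↥(S : Subgroup G)), A ≠ B →
      (Cfsg.IsElementaryAbelian 2 A ∧ ∀ C : Subgroup ↥(S : Subgroup G), Cfsg.IsElementaryAbelian 2 C → A ≤ C → C = A) →
      (Cfsg.IsElementaryAbelian 2 B ∧ ∀ C : Subgroup ↥(S : Subgroup G), Cfsg.IsElementaryAbelian 2 C → B ≤ C → C = B) →
      (∀ C : Subgroup ↥(S : Subgroup G), Cfsg.IsElementaryAbelian 2 C →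
        (∀ D : Subgroup ↥(S : Subgroup G), Cfsg.IsElementaryAbelian 2 D → C ≤ D → D = C) → C = A ∨ C = B) →
      (∀ s : ↥(S : Subgroup G), ∃ a ∈ A, ∃ b ∈ B, a * b = s) →
      Cfsg.IsWeaklyClosed (A.map (S : Subgroup G).subtype) (S : Subgroup G) ∧
        Subgroup.normalizer ((S : Subgroup G) : Set G) ≤
          Subgroup.normalizer ((A.map (S : Subgroup G).subtype : Subgroup G) : Set G) := by
    clear hA hB hAB honly hprod A B
    intro A B hAB hA hB honly hprod
    set A' := A.map (S : Subgroup G).subtype with hA'
    set B' := B.map (S : Subgroup G).subtype with hB'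
    have hAS : A' ≤ (S : Subgroup G) := Subgroup.map_subtype_le _
    have hBS : B' ≤ (S : Subgroup G) := Subgroup.map_subtype_le _
    have hinjS := (S : Subgroup G).subtype_injective
    -- transporting elementary abelian subgroups
    have hEA : ∀ {X Y : Type _} [Group X] [Group Y] (f : X →* Y) (E : Subgroup X), Cfsg.IsElementaryAbelian 2 E →
        Cfsg.IsElementaryAbelian 2 (E.map f) := by
      intro X Y _ _ f E hE
      refine ⟨⟨⟨?_⟩⟩, ?_⟩
      · rintro ⟨_, a, ha, rfl⟩ ⟨_, b, hb, rfl⟩
        apply Subtype.ext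
        change f a * f b = f b * f a
        rw [← map_mul, ← map_mul]
        exact congrArg f (congrArg Subtype.val (hE.1.is_comm.comm ⟨a, ha⟩ ⟨b, hb⟩))
      · rintro _ ⟨a, ha, rfl⟩
        rw [← map_pow, hE.2 a ha, map_one]
    have hEAsub : ∀ E : Subgroup G, Cfsg.IsElementaryAbelian 2 E →
        Cfsg.IsElementaryAbelian 2 (E.subgroupOf (S : Subgroup G)) := by
      intro E hE
      refine ⟨⟨⟨?_⟩⟩, ?_⟩
      · intro a b
        have h := congrArg Subtype.val (hE.1.is_comm.comm (⟨((a : ↥(S : Subgroup G)) : G), a.2⟩ : ↥E)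
          ⟨((b : ↥(S : Subgroup G)) : G), b.2⟩)
        apply Subtype.ext; apply Subtype.ext
        simpa using h
      · intro a ha
        apply Subtype.ext
        exact hE.2 _ ha
    -- elementary abelian subgroups of `S` lie in `A'` or `B'`
    have hin : ∀ E : Subgroup G, Cfsg.IsElementaryAbelian 2 E → E ≤ (S : Subgroup G) → E ≤ A' ∨ E ≤ B' := by
      intro E hE hES
      obtain ⟨M, hM1, hM2⟩ := Finite.exists_le_maximal
        (p := fun C : Subgroup ↥(S : Subgroup G) => Cfsg.IsElementaryAbelian 2 C) (hEAsub E hE)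
      have hEM : E ≤ M.map (S : Subgroup G).subtype := fun e he => ⟨⟨e, hES he⟩, hM1 he, rfl⟩
      rcases honly M hM2.prop (fun D hD hMD => le_antisymm (hM2.le_of_ge hD hMD) hMD) with rfl | rfl
      · exact Or.inl hEM
      · exact Or.inr hEM
    have hE : Cfsg.IsElementaryAbelian 2 A' := hEA _ A hA.1
    have hEB : Cfsg.IsElementaryAbelian 2 B' := hEA _ B hB.1
    -- `A` is normal in `S`
    have hperm : ∀ (σ : ↥(S : Subgroup G) ≃* ↥(S : Subgroup G)), A.map σ.toMonoidHom = A ∨ A.map σ.toMonoidHom = B := by
      intro σ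
      refine honly _ (hEA σ.toMonoidHom A hA.1) (fun D hD h => ?_)
      have h1 := hA.2 (D.map σ.symm.toMonoidHom) (hEA _ D hD) (fun a ha => ⟨σ a, h ⟨a, ha, rfl⟩, by simp⟩)
      rw [← h1, Subgroup.map_map]
      ext x; simp
    have hnorm : ∀ s : ↥(S : Subgroup G), A.map (MulAut.conj s).toMonoidHom = A := by
      intro s
      obtain ⟨a, ha, b, hb, rfl⟩ := hprod s
      have hfixA : A.map (MulAut.conj a).toMonoidHom = A := by
        ext x
        constructor
        · rintro ⟨y, hy, rfl⟩; exact A.mul_mem (A.mul_mem ha hy) (A.inv_mem ha)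
        · intro hx
          exact ⟨a⁻¹ * x * a, A.mul_mem (A.mul_mem (A.inv_mem ha) hx) ha, by simp [mul_assoc]⟩
      have hfixB : A.map (MulAut.conj b).toMonoidHom = A := by
        rcases hperm (MulAut.conj b) with h | h
        · exact h
        · exfalso
          apply hAB
          ext x
          constructor
          · intro hx
            have h1 : (MulAut.conj b) x ∈ B := by rw [← h]; exact ⟨x, hx, rfl⟩
            have h2 := B.mul_mem (B.mul_mem (B.inv_mem hb) h1) hb
            simpa [mul_assoc] using h2
          · intro hx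
            have h1 : (MulAut.conj b) x ∈ A.map (MulAut.conj b).toMonoidHom := by
              rw [h]; exact B.mul_mem (B.mul_mem hb hx) (B.inv_mem hb)
            obtain ⟨y, hy, hyx⟩ := h1
            rwa [(MulAut.conj b).injective hyx] at hy
      rw [show (MulAut.conj (a * b)).toMonoidHom = (MulAut.conj a).toMonoidHom.comp (MulAut.conj b).toMonoidHom from
        MonoidHom.ext fun x => by simp [mul_assoc], ← Subgroup.map_map, hfixB, hfixA]
    have hSNA : (S : Subgroup G) ≤ Subgroup.normalizer (A' : Set G) := by
      have key : ∀ s ∈ (S : Subgroup G), ∀ x ∈ A', s * x * s⁻¹ ∈ A' := by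
        rintro s hs _ ⟨x, hx, rfl⟩
        have h1 : (MulAut.conj (⟨s, hs⟩ : ↥(S : Subgroup G))) x ∈
            A.map (MulAut.conj (⟨s, hs⟩ : ↥(S : Subgroup G))).toMonoidHom := ⟨x, hx, rfl⟩
        rw [hnorm] at h1
        exact ⟨_, h1, rfl⟩
      intro s hs
      rw [Subgroup.mem_normalizer_iff]
      intro x
      refine ⟨key s hs x, fun h => ?_⟩
      simpa [mul_assoc] using key s⁻¹ ((S : Subgroup G).inv_mem hs) _ h
    -- the normalizer of `S` fixes `A'`
    set N := Subgroup.normalizer ((S : Subgroup G) : Set G) with hN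
    have hperm' : ∀ g ∈ N, A'.map (MulAut.conj g).toMonoidHom = A' ∨ A'.map (MulAut.conj g).toMonoidHom = B' := by
      intro g hg
      let σ : ↥(S : Subgroup G) ≃* ↥(S : Subgroup G) :=
        { toFun := fun x => ⟨g * x * g⁻¹, (Subgroup.mem_normalizer_iff.mp hg _).mp x.2⟩
          invFun := fun x => ⟨g⁻¹ * x * g, (Subgroup.mem_normalizer_iff.mp hg _).mpr (by simp [mul_assoc])⟩
          left_inv := fun x => Subtype.ext (by simp [mul_assoc])
          right_inv := fun x => Subtype.ext (by simp [mul_assoc])
          map_mul' := fun x y => Subtype.ext (by simp [mul_assoc]) }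
      have h1 : A'.map (MulAut.conj g).toMonoidHom = (A.map σ.toMonoidHom).map (S : Subgroup G).subtype := by
        rw [hA', Subgroup.map_map, Subgroup.map_map]; rfl
      rcases hperm σ with h | h
      · exact Or.inl (by rw [h1, h])
      · exact Or.inr (by rw [h1, h])
    have hNA : N ≤ Subgroup.normalizer (A' : Set G) := by
      intro g hg
      by_contra hgn
      let K : Subgroup ↥N := (Subgroup.normalizer (A' : Set G)).subgroupOf N
      have hiff : ∀ x : ↥N, x ∈ K ↔ A'.map (MulAut.conj (x : G)).toMonoidHom = A' := by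
        intro x
        constructor
        · intro hx
          ext y
          constructor
          · rintro ⟨z, hz, rfl⟩
            exact (Subgroup.mem_normalizer_iff.mp hx z).mp hz
          · intro hy
            exact ⟨(x : G)⁻¹ * y * x, (Subgroup.mem_normalizer_iff.mp hx _).mpr (by simpa [mul_assoc] using hy), by simp [mul_assoc]⟩
        · intro hx
          rw [Subgroup.mem_subgroupOf, Subgroup.mem_normalizer_iff]
          intro y
          constructor
          · intro hy; rw [← hx]; exact ⟨y, hy, rfl⟩
          · intro hy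
            rw [← hx] at hy
            obtain ⟨z, hz, hzy⟩ := hy
            rwa [(MulAut.conj (x : G)).injective hzy] at hz
      have hidx : K.index = 2 := by
        rw [Subgroup.index_eq_two_iff']
        refine ⟨⟨g, hg⟩, fun x => ?_⟩
        have hg' : A'.map (MulAut.conj g).toMonoidHom = B' := by
          rcases hperm' g hg with h | h
          · exact absurd ((hiff ⟨g, hg⟩).mpr h) hgn
          · exact h
        rw [xor_iff_not_iff, hiff, hiff]
        have hcomp : A'.map (MulAut.conj ((⟨g, hg⟩ * x : ↥N) : G)).toMonoidHom =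
            (A'.map (MulAut.conj (x : G)).toMonoidHom).map (MulAut.conj g).toMonoidHom := by
          rw [show (MulAut.conj ((⟨g, hg⟩ * x : ↥N) : G)).toMonoidHom =
            (MulAut.conj g).toMonoidHom.comp (MulAut.conj (x : G)).toMonoidHom from
              MonoidHom.ext fun y => by simp [mul_assoc]]
          exact (Subgroup.map_map _ _ _).symm
        rw [hcomp]
        have hne : A' ≠ B' := fun h => hAB (Subgroup.map_injective hinjS h)
        have hinj : Function.Injective (Subgroup.map (MulAut.conj g).toMonoidHom) :=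
          Subgroup.map_injective (MulAut.conj g).injective
        rcases hperm' x x.2 with h | h <;> rw [h]
        · rw [hg']; simp [hne.symm]
        · rcases hperm' ((⟨g, hg⟩ * x : ↥N) : G) (Subtype.coe_prop _) with h' | h' <;> rw [hcomp, h] at h'
          · rw [h']; simp [hne.symm]
          · exact absurd (hinj (hg'.trans h'.symm)) hne
      have hSN : (S : Subgroup G) ≤ N := Subgroup.le_normalizer
      have hdvd : K.index ∣ ((S : Subgroup G).subgroupOf N).index :=
        Subgroup.index_dvd_of_le (fun x hx => hSNA hx)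
      rw [hidx] at hdvd
      have h2 := (S.subtype hSN).not_dvd_index
      rw [Sylow.coe_subtype] at h2
      exact h2 hdvd
    refine ⟨⟨hAS, fun g hg => ?_⟩, hNA⟩
    haveI : Fact (Nat.Prime 2) := ⟨Nat.prime_two⟩
    -- a Sylow `2`-subgroup of the centralizer of `A'` is `A'`
    have hcent : ∀ E : Subgroup G, IsPGroup 2 ↥E → E ≤ Subgroup.centralizer (A' : Set G) →
        Nat.card ↥E ≤ Nat.card ↥A' := by
      intro E hE2 hEC
      let M := Subgroup.normalizer (A' : Set G)
      have hCM : Subgroup.centralizer (A' : Set G) ≤ M := Subgroup.centralizer_le_normalizer _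
      obtain ⟨T, hT⟩ := (hE2.of_equiv (Subgroup.subgroupOfEquivOfLe (hEC.trans hCM)).symm).exists_le_sylow
      obtain ⟨h, hh⟩ := MulAction.exists_smul_eq ↥M T (S.subtype hSNA)
      have hle : E.map (MulAut.conj (h : G)).toMonoidHom ≤ A' := by
        rintro _ ⟨e, he, rfl⟩
        have heM : (⟨e, hCM (hEC he)⟩ : ↥M) ∈ T := hT he
        have hmem : h * ⟨e, hCM (hEC he)⟩ * h⁻¹ ∈ ((h • T : Sylow 2 ↥M) : Subgroup ↥M) := by
          rw [Sylow.coe_subgroup_smul]
          exact ⟨_, heM, rfl⟩
        rw [hh] at hmem
        have hcS : (h : G) * e * (h : G)⁻¹ ∈ (S : Subgroup G) := hmem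
        have hcC : (h : G) * e * (h : G)⁻¹ ∈ Subgroup.centralizer (A' : Set G) := by
          intro a ha
          have ha' : (h : G)⁻¹ * a * h ∈ A' := by
            simpa using (Subgroup.mem_normalizer_iff.mp (M.inv_mem h.2) a).mp ha
          have h1 := hEC he _ ha'
          calc a * ((h : G) * e * (h : G)⁻¹) = (h : G) * (((h : G)⁻¹ * a * h) * e) * (h : G)⁻¹ := by group
            _ = (h : G) * (e * ((h : G)⁻¹ * a * h)) * (h : G)⁻¹ := by rw [h1]
            _ = (h : G) * e * (h : G)⁻¹ * a := by group
        obtain ⟨a, ha, b, hb, hab⟩ := hprod ⟨_, hcS⟩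
        have hb' : (b : G) ∈ A' := by
          by_contra hbA
          have hbC : ∀ x ∈ A', x * (b : G) = (b : G) * x := by
            intro x hx
            have h1 := hcC x hx
            have hval : (h : G) * e * (h : G)⁻¹ = (a : G) * (b : G) := (congrArg Subtype.val hab).symm
            have h1' : x * ((a : G) * (b : G)) = ((a : G) * (b : G)) * x := by rw [← hval]; exact h1
            have h2 : x * (a : G) = (a : G) * x :=
              congrArg Subtype.val (hE.1.is_comm.comm ⟨x, hx⟩ ⟨_, ⟨a, ha, rfl⟩⟩)
            rw [← mul_assoc, h2, mul_assoc, mul_assoc] at h1'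
            exact mul_left_cancel h1'
          -- `A'` and `b` generate an elementary abelian subgroup of `S`
          have hset : ∀ u ∈ insert (b : G) (A' : Set G), u ^ 2 = 1 := by
            rintro u (rfl | hu)
            · exact_mod_cast congrArg Subtype.val (hB.1.2 b hb)
            · exact hE.2 u hu
          have hcm : ∀ u ∈ insert (b : G) (A' : Set G), ∀ v ∈ insert (b : G) (A' : Set G), u * v = v * u := by
            rintro u (rfl | hu) v (rfl | hv)
            · rfl
            · exact (hbC v hv).symm
            · exact hbC u hu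
            · exact congrArg Subtype.val (hE.1.is_comm.comm ⟨u, hu⟩ ⟨v, hv⟩)
          haveI hcomm : IsMulCommutative ↥(Subgroup.closure (insert (b : G) (A' : Set G))) := Subgroup.isMulCommutative_closure hcm
          have hel : Cfsg.IsElementaryAbelian 2 (Subgroup.closure (insert (b : G) (A' : Set G))) := by
            refine ⟨hcomm, fun x hx => ?_⟩
            induction hx using Subgroup.closure_induction with
            | mem u hu => exact hset u hu
            | one => simp
            | mul u v hu hv h1 h2 =>
              rw [Commute.mul_pow (congrArg Subtype.val (hcomm.is_comm.comm ⟨u, hu⟩ ⟨v, hv⟩)), h1, h2, one_mul]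
            | inv u hu h1 => rw [inv_pow, h1, inv_one]
          have hAle : A' ≤ Subgroup.closure (insert (b : G) (A' : Set G)) := fun x hx => Subgroup.subset_closure (Or.inr hx)
          have h3 := hA.2 _ (hEAsub _ hel) (fun x hx => hAle ⟨x, hx, rfl⟩)
          apply hbA
          refine ⟨b, ?_, rfl⟩
          rw [← h3]
          exact Subgroup.subset_closure (Or.inl rfl)
        rw [show (MulAut.conj (h : G)).toMonoidHom e = (a : G) * (b : G) from (congrArg Subtype.val hab).symm]
        exact A'.mul_mem ⟨a, ha, rfl⟩ hb'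
      have := Subgroup.card_le_of_le hle
      rwa [Subgroup.card_map_of_injective (f := (MulAut.conj (h : G)).toMonoidHom) (MulAut.conj (h : G)).injective] at this
    set A'' := A'.map (MulAut.conj g).toMonoidHom with hA''
    have hcard'' : Nat.card ↥A'' = Nat.card ↥A' :=
      Subgroup.card_map_of_injective (MulAut.conj g).injective
    rcases hin A'' (hEA _ _ hE) hg with h | h
    · exact Subgroup.eq_of_le_of_card_ge h hcard''.ge
    -- the conjugate lies in `B'`
    by_cases hcB : Nat.card ↥B' ≤ Nat.card ↥A'
    · have heq : A'' = B' := Subgroup.eq_of_le_of_card_ge h (by omega)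
      exfalso
      have hBn : (S : Subgroup G) ≤ Subgroup.normalizer (A'' : Set G) := by
        intro s hs
        obtain ⟨a, ha, b, hb, hab⟩ := hprod ⟨s, hs⟩
        have hbn : (b : G) ∈ Subgroup.normalizer (B' : Set G) := Subgroup.le_normalizer ⟨b, hb, rfl⟩
        have han : (a : G) ∈ Subgroup.normalizer (B' : Set G) := by
          rw [Subgroup.mem_normalizer_iff]
          intro y
          have hconj : B'.map (MulAut.conj (a : G)).toMonoidHom = B' := by
            rcases hin (B'.map (MulAut.conj (a : G)).toMonoidHom) (hEA _ _ hEB) (by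
              rintro _ ⟨y, hy, rfl⟩
              exact (S : Subgroup G).mul_mem ((S : Subgroup G).mul_mem a.2 (hBS hy)) ((S : Subgroup G).inv_mem a.2)) with h4 | h4
            · exfalso
              apply hAB
              have h5 : B' ≤ A' := by
                intro y hy
                have := h4 ⟨y, hy, rfl⟩
                have h6 := (Subgroup.mem_normalizer_iff.mp (hSNA a.2) y).mpr this
                exact h6
              exact (hB.2 A hA.1 (fun y hy => by
                obtain ⟨z, hz, hzy⟩ := h5 ⟨y, hy, rfl⟩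
                rwa [hinjS hzy] at hz))
            · exact Subgroup.eq_of_le_of_card_ge h4
                (Subgroup.card_map_of_injective (MulAut.conj (a : G)).injective).ge
          constructor
          · intro hy; rw [← hconj]; exact ⟨y, hy, rfl⟩
          · intro hy
            rw [← hconj] at hy
            obtain ⟨z, hz, hzy⟩ := hy
            rwa [(MulAut.conj (a : G)).injective hzy] at hz
        rw [heq, show s = (a : G) * (b : G) from (congrArg Subtype.val hab).symm]
        exact Subgroup.mul_mem _ han hbn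
      -- Burnside: conjugate normal subgroups of `S` are conjugate in `N`
      let M := Subgroup.normalizer (A'' : Set G)
      have hgS : (S : Subgroup G).map (MulAut.conj g).toMonoidHom ≤ M := by
        rintro _ ⟨s, hs, rfl⟩
        rw [Subgroup.mem_normalizer_iff]
        intro y
        have h1 := Subgroup.mem_normalizer_iff.mp (hSNA hs) (g⁻¹ * y * g)
        have hmem : ∀ z, z ∈ A'' ↔ g⁻¹ * z * g ∈ A' := by
          intro z
          constructor
          · rintro ⟨w, hw, rfl⟩; simpa [mul_assoc] using hw
          · intro hz; exact ⟨_, hz, by simp [mul_assoc]⟩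
        rw [hmem, hmem]
        simp [mul_assoc] at h1 ⊢
        exact h1
      obtain ⟨m, hm⟩ := MulAction.exists_smul_eq ↥M ((g • S).subtype (show ((g • S : Sylow 2 G) : Subgroup G) ≤ M from hgS))
        (S.subtype hBn)
      have hmg : (m : G) * g ∈ N := by
        have hfin : ∀ x ∈ (S : Subgroup G), ((m : G) * g) * x * ((m : G) * g)⁻¹ ∈ (S : Subgroup G) := by
          intro x hx
          have hx' : g * x * g⁻¹ ∈ M := hgS ⟨x, hx, rfl⟩
          have hmem : m * ⟨g * x * g⁻¹, hx'⟩ * m⁻¹ ∈ (S.subtype hBn : Subgroup ↥M) := by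
            rw [← hm, Sylow.coe_subgroup_smul]
            exact ⟨⟨g * x * g⁻¹, hx'⟩, ⟨x, hx, rfl⟩, rfl⟩
          have h2 : (m : G) * (g * x * g⁻¹) * (m : G)⁻¹ ∈ (S : Subgroup G) := hmem
          simpa [mul_assoc] using h2
        have heq' : (S : Subgroup G).map (MulAut.conj ((m : G) * g)).toMonoidHom = (S : Subgroup G) := by
          refine Subgroup.eq_of_le_of_card_ge ?_ (Subgroup.card_map_of_injective (MulAut.conj _).injective).ge
          rintro _ ⟨x, hx, rfl⟩; exact hfin x hx
        rw [hN, Subgroup.mem_normalizer_iff]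
        intro x
        refine ⟨hfin x, fun hx => ?_⟩
        have hx' := hx
        rw [← heq'] at hx'
        obtain ⟨z, hz, hzx⟩ := hx'
        rwa [(MulAut.conj ((m : G) * g)).injective hzx] at hz
      apply hAB
      apply Subgroup.map_injective hinjS
      change A' = B'
      rw [← heq]
      ext y
      have hmem : ∀ z, z ∈ A'' ↔ g⁻¹ * z * g ∈ A' := by
        intro z
        constructor
        · rintro ⟨w, hw, rfl⟩; simpa [mul_assoc] using hw
        · intro hz; exact ⟨_, hz, by simp [mul_assoc]⟩
      have h1 := Subgroup.mem_normalizer_iff.mp (hNA hmg) (g⁻¹ * ((m : G)⁻¹ * y * m) * g)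
      have h2 := Subgroup.mem_normalizer_iff.mp m.2 ((m : G)⁻¹ * y * m)
      rw [← hmem, h2] at h1
      simp only [mul_inv_rev, mul_assoc, mul_inv_cancel_left, inv_mul_cancel_left, mul_inv_cancel, mul_one] at h1
      exact h1.symm
    · exfalso
      have hB2 : IsPGroup 2 ↥(B'.map (MulAut.conj g⁻¹).toMonoidHom) := (S.isPGroup'.to_le hBS).map _
      have hle : B'.map (MulAut.conj g⁻¹).toMonoidHom ≤ Subgroup.centralizer (A' : Set G) := by
        rintro _ ⟨b, hb, rfl⟩ a ha
        have h1 : g * a * g⁻¹ ∈ B' := h ⟨a, ha, rfl⟩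
        have h2 : g * a * g⁻¹ * b = b * (g * a * g⁻¹) :=
          congrArg Subtype.val (hEB.1.is_comm.comm ⟨_, h1⟩ ⟨b, hb⟩)
        calc a * (MulAut.conj g⁻¹) b = g⁻¹ * (g * a * g⁻¹ * b) * g := by simp [mul_assoc]
          _ = g⁻¹ * (b * (g * a * g⁻¹)) * g := by rw [h2]
          _ = (MulAut.conj g⁻¹) b * a := by simp [mul_assoc]
      have h3 := hcent _ hB2 hle
      rw [Subgroup.card_map_of_injective (MulAut.conj g⁻¹).injective] at h3
      exact hcB h3
  obtain ⟨h1, h2⟩ := main A B hAB hA hB honly hprod
  obtain ⟨h3, h4⟩ := main B A hAB.symm hB hA (fun C hC hC' => (honly C hC hC').symm) (fun s => by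
    obtain ⟨a, ha, b, hb, h⟩ := hprod s⁻¹
    exact ⟨b⁻¹, B.inv_mem hb, a⁻¹, A.inv_mem ha, by rw [← mul_inv_rev, h, inv_inv]⟩)
  exact ⟨h1, h3, le_inf h2 h4⟩

end Cfsg.Agent.S3203
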