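import Cfsg.Statements.S3208
import Cfsg.Agent.Lib.Inv.WeaklyClosed
import Mathlib
-- import your own Cfsg.Agent.* helpers here

set_option autoImplicit false
open Cfsg

namespace Cfsg.Agent.S3208

/-- Let j be an involution of a finite group G, H a subgroup of G, and T a Sylow 2-subgroup of H ∩ C_G(j) containing j such that ⟨j⟩ is a characteristic subgroup of T. Then T is a Sylow 2-subgroup of H. -/
theorem result {G : Type*} [Group G] [Finite G]
    (j : G) (hj : orderOf j = 2) (H T : Subgroup G) (hT : T ≤ H ⊓ Subgroup.centralizer ({j} : Set G)) (h2 : IsPGroup 2 ↥T)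
    (hSyl : ¬ 2 ∣ T.relIndex (H ⊓ Subgroup.centralizer ({j} : Set G))) (hjT : j ∈ T)
    (hchar : ((Subgroup.zpowers j).subgroupOf T).Characteristic) :
    ¬ 2 ∣ T.relIndex H := by
  classical
  haveI : Fact (Nat.Prime 2) := ⟨Nat.prime_two⟩
  set K := H ⊓ Subgroup.centralizer ({j} : Set G) with hK
  obtain ⟨Q, hQ⟩ := (h2.comap_of_injective H.subtype H.subtype_injective).exists_le_sylow
  set Q' := (Q : Subgroup H).map H.subtype with hQ'
  have hTQ : T ≤ Q' := fun x hx => ⟨⟨x, (hT hx).1⟩, hQ hx, rfl⟩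
  have hQp : IsPGroup 2 Q' := Q.isPGroup'.map _
  have hQT : Q' = T := by
    by_contra hne
    haveI := hQp.isNilpotent
    have hlt : T.subgroupOf Q' < ⊤ := by
      rw [lt_top_iff_ne_top, Ne, Subgroup.subgroupOf_eq_top]
      exact fun e => hne (le_antisymm e hTQ)
    obtain ⟨s, hs, hsn⟩ := SetLike.exists_of_lt (Group.normalizerCondition_of_isNilpotent _ hlt)
    have hnorm : ∀ x : G, x ∈ T ↔ (s : G) * x * (s : G)⁻¹ ∈ T := by
      intro x
      refine ⟨fun hx => (Subgroup.mem_normalizer_iff.1 hs ⟨x, hTQ hx⟩).1 hx, fun hx => ?_⟩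
      have hxQ : x ∈ Q' := by
        have := mul_mem (mul_mem (inv_mem s.2) (hTQ hx)) s.2
        simpa [mul_assoc] using this
      exact (Subgroup.mem_normalizer_iff.1 hs ⟨x, hxQ⟩).2 hx
    let φ : ↥T ≃* ↥T :=
      { toFun := fun x => ⟨(s : G) * x * (s : G)⁻¹, (hnorm x).1 x.2⟩
        invFun := fun x => ⟨(s : G)⁻¹ * x * (s : G), (hnorm _).2 (by simp [mul_assoc])⟩
        left_inv := fun x => Subtype.ext (by simp [mul_assoc])
        right_inv := fun x => Subtype.ext (by simp [mul_assoc])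
        map_mul' := fun x y => Subtype.ext (by simp [mul_assoc]) }
    have hfix := hchar.fixed φ
    have hjmem : (⟨j, hjT⟩ : T) ∈ ((Subgroup.zpowers j).subgroupOf T).comap φ.toMonoidHom :=
      hfix.symm ▸ (Subgroup.mem_zpowers j : _)
    obtain ⟨k, hk⟩ := Subgroup.mem_zpowers_iff.1
      (show (s : G) * j * (s : G)⁻¹ ∈ Subgroup.zpowers j from hjmem)
    have hcomm : (s : G) * j = j * (s : G) := by
      have hjj : j ^ (2 : ℤ) = 1 := by
        rw [zpow_two, ← pow_two, ← hj, pow_orderOf_eq_one]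
      rcases Int.even_or_odd k with ⟨m, rfl⟩ | ⟨m, rfl⟩
      · rw [← two_mul, zpow_mul, hjj, one_zpow, eq_comm, conj_eq_one_iff] at hk
        simp [hk] at hj
      · rw [zpow_add, zpow_mul, hjj, one_zpow, one_mul, zpow_one] at hk
        exact (mul_inv_eq_iff_eq_mul.1 hk.symm)
    have hsK : (s : G) ∈ K := ⟨Subgroup.map_subtype_le _ s.2,
      Subgroup.mem_centralizer_singleton_iff.2 hcomm⟩
    have hle : T ≤ Q' ⊓ K := le_inf hTQ hT
    have heq : T = Q' ⊓ K := by
      refine Subgroup.eq_of_le_of_card_ge hle ?_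
      obtain ⟨a, ha⟩ := IsPGroup.iff_card.1 (hQp.to_le (inf_le_left : Q' ⊓ K ≤ Q'))
      obtain ⟨b, hb⟩ := IsPGroup.iff_card.1 h2
      have h5 : T.relIndex (Q' ⊓ K) ∣ T.relIndex K := by
        rw [← Subgroup.relIndex_mul_relIndex T (Q' ⊓ K) K hle inf_le_right]
        exact dvd_mul_right _ _
      have h6 : T.relIndex (Q' ⊓ K) ∣ Nat.card ↥(Q' ⊓ K) :=
        Subgroup.relIndex_dvd_card T (Q' ⊓ K)
      have h7 : T.relIndex (Q' ⊓ K) = 1 := by
        rw [ha] at h6
        obtain ⟨c, -, hc⟩ := (Nat.dvd_prime_pow Nat.prime_two).1 h6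
        rcases c.eq_zero_or_pos with rfl | hpos
        · simpa using hc
        · exact absurd ((hc ▸ dvd_pow_self 2 hpos.ne' : 2 ∣ _).trans h5) hSyl
      exact Subgroup.card_le_of_le (Subgroup.relIndex_eq_one.1 h7)
    exact hsn (show (s : G) ∈ T from heq ▸ ⟨s.2, hsK⟩)
  have hidx := Q.not_dvd_index
  rwa [Subgroup.relIndex, show T.subgroupOf H = (Q : Subgroup H) by
    rw [← hQT, hQ', Subgroup.subgroupOf, Subgroup.comap_map_eq_self_of_injective H.subtype_injective]]

end Cfsg.Agent.S3208
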