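import Cfsg.Statements.S3209
import Mathlib
import Cfsg.Agent.Lib.Classical.SL2Two

set_option autoImplicit false
open Cfsg

namespace Cfsg.Agent.S3209

theorem factor_facts {G : Type*} [Group G] [Finite G] {F : Type*} [Field F] [Fintype F] (h2 : (2 : F) ≠ 0)
    {j : G} (hj : orderOf j = 2) (L : Subgroup G)
    (e : ↥L ≃* Matrix.SpecialLinearGroup (Fin 2) F) (hjL : j ∈ L) :
    (∀ x ∈ L, x * x = 1 → x = 1 ∨ x = j) ∧ (∃ x ∈ L, x * x = j) ∧
      (∀ x ∈ L, ∀ x' ∈ L, x * x = j → x' * x' = j → ∃ g ∈ L, g * x * g⁻¹ = x') := by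
  have hej : e ⟨j, hjL⟩ = Cfsg.Agent.Classical.SL2Two.negOne := by
    rw [← Cfsg.Agent.Classical.SL2Two.orderOf_two_iff h2]
    rw [e.orderOf_eq, Subgroup.orderOf_mk, hj]
  refine ⟨fun x hx h => ?_, ?_, fun x hx x' hx' h h' => ?_⟩
  · have h1 : e ⟨x, hx⟩ * e ⟨x, hx⟩ = 1 := by
      rw [← map_mul, show (⟨x, hx⟩ : ↥L) * ⟨x, hx⟩ = 1 from Subtype.ext h, map_one]
    rcases (Cfsg.Agent.Classical.SL2Two.sq_eq_one_iff h2 _).mp h1 with h3 | h3
    · exact Or.inl (congrArg Subtype.val (e.injective (h3.trans (map_one e).symm)))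
    · exact Or.inr (congrArg Subtype.val (e.injective (h3.trans hej.symm)))
  · refine ⟨e.symm Cfsg.Agent.Classical.SL2Two.g0, (e.symm _).2, ?_⟩
    have h1 := Cfsg.Agent.Classical.SL2Two.sq_of_trace_zero _ (Cfsg.Agent.Classical.SL2Two.trace_g0 (F := F))
    have h2' : e.symm Cfsg.Agent.Classical.SL2Two.g0 * e.symm Cfsg.Agent.Classical.SL2Two.g0 = ⟨j, hjL⟩ := by
      rw [← map_mul, h1, ← hej, MulEquiv.symm_apply_apply]
    exact congrArg Subtype.val h2'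
  · have ht : ∀ z (hz : z ∈ L), z * z = j → ((e ⟨z, hz⟩ : Matrix.SpecialLinearGroup (Fin 2) F) : Matrix (Fin 2) (Fin 2) F).trace = 0 := by
      intro z hz hzz
      apply Cfsg.Agent.Classical.SL2Two.trace_zero_of_sq h2
      rw [← map_mul, show (⟨z, hz⟩ : ↥L) * ⟨z, hz⟩ = ⟨j, hjL⟩ from Subtype.ext hzz, hej]
    obtain ⟨a, ha⟩ := Cfsg.Agent.Classical.SL2Two.conj_g0 h2 _ (ht x hx h)
    obtain ⟨b, hb⟩ := Cfsg.Agent.Classical.SL2Two.conj_g0 h2 _ (ht x' hx' h')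
    refine ⟨e.symm (b * a⁻¹), (e.symm _).2, ?_⟩
    have h3 : e.symm (b * a⁻¹) * ⟨x, hx⟩ * (e.symm (b * a⁻¹))⁻¹ = ⟨x', hx'⟩ := by
      apply e.injective
      rw [map_mul, map_mul, map_inv, MulEquiv.apply_symm_apply, ← ha, ← hb]
      group
    exact congrArg Subtype.val h3

/-- Let L₁ ≅ SL₂(q₁) and L₂ ≅ SL₂(q₂), q₁ and q₂ odd, be elementwise-commuting subgroups of a finite group meeting in ⟨j⟩ for an involution j. Then L₁L₂ has exactly two conjugacy classes of involutions: the central involution j, and one further class (there is an involution x ≠ j in L₁L₂, and every involution of L₁L₂ other than j is conjugate to x by an element of L₁L₂). -/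
theorem result {G : Type*} [Group G] [Finite G]
    {F₁ : Type*} [Field F₁] [Fintype F₁] {F₂ : Type*} [Field F₂] [Fintype F₂]
    (hF₁ : Odd (Fintype.card F₁)) (hF₂ : Odd (Fintype.card F₂)) (L₁ L₂ : Subgroup G)
    (e₁ : ↥L₁ ≃* Matrix.SpecialLinearGroup (Fin 2) F₁) (e₂ : ↥L₂ ≃* Matrix.SpecialLinearGroup (Fin 2) F₂)
    (hc : ∀ x ∈ L₁, ∀ y ∈ L₂, x * y = y * x) (j : G) (hj : orderOf j = 2) (hm : L₁ ⊓ L₂ = Subgroup.zpowers j) :
    ∃ x ∈ L₁ ⊔ L₂, orderOf x = 2 ∧ x ≠ j ∧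
      ∀ y ∈ L₁ ⊔ L₂, orderOf y = 2 → y = j ∨ ∃ g ∈ L₁ ⊔ L₂, g * x * g⁻¹ = y := by
  classical
  have h21 : (2 : F₁) ≠ 0 := Cfsg.Agent.Classical.SL2Two.two_ne_zero' hF₁
  have h22 : (2 : F₂) ≠ 0 := Cfsg.Agent.Classical.SL2Two.two_ne_zero' hF₂
  obtain ⟨hj₁, hj₂⟩ : j ∈ L₁ ∧ j ∈ L₂ := by
    have := Subgroup.mem_zpowers j
    rwa [← hm] at this
  obtain ⟨hu₁, ⟨a₁, ha₁, haa₁⟩, hconj₁⟩ := factor_facts h21 hj L₁ e₁ hj₁
  obtain ⟨hu₂, ⟨a₂, ha₂, haa₂⟩, hconj₂⟩ := factor_facts h22 hj L₂ e₂ hj₂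
  have hjj : j * j = 1 := by rw [← pow_two, ← hj, pow_orderOf_eq_one]
  have hj1 : j ≠ 1 := fun e => by rw [e, orderOf_one] at hj; omega
  have hsq : ∀ x ∈ L₁, ∀ y ∈ L₂, (x * y) * (x * y) = (x * x) * (y * y) := by
    intro x hx y hy
    calc (x * y) * (x * y) = x * (y * x) * y := by group
      _ = x * (x * y) * y := by rw [hc x hx y hy]
      _ = (x * x) * (y * y) := by group
  refine ⟨a₁ * a₂, Subgroup.mul_mem _ (Subgroup.mem_sup_left ha₁) (Subgroup.mem_sup_right ha₂),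
    orderOf_eq_prime (by rw [pow_two, hsq _ ha₁ _ ha₂, haa₁, haa₂, hjj]) ?_, ?_, ?_⟩
  · intro h
    have h1 : a₁ = a₂⁻¹ := eq_inv_of_mul_eq_one_left h
    have h2 : a₁ ∈ L₁ ⊓ L₂ := ⟨ha₁, h1 ▸ L₂.inv_mem ha₂⟩
    rw [hm] at h2
    obtain ⟨k, hk⟩ := Subgroup.mem_zpowers_iff.mp h2
    apply hj1
    rw [← haa₁, ← hk, ← zpow_add, ← two_mul, zpow_mul, show j ^ (2 : ℤ) = 1 by rw [zpow_two, hjj], one_zpow]
  · intro h
    have h2 : a₁ ∈ L₁ ⊓ L₂ := ⟨ha₁, by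
      rw [show a₁ = j * a₂⁻¹ by rw [← h, mul_inv_cancel_right]]
      exact L₂.mul_mem hj₂ (L₂.inv_mem ha₂)⟩
    rw [hm] at h2
    obtain ⟨k, hk⟩ := Subgroup.mem_zpowers_iff.mp h2
    apply hj1
    rw [← haa₁, ← hk, ← zpow_add, ← two_mul, zpow_mul, show j ^ (2 : ℤ) = 1 by rw [zpow_two, hjj], one_zpow]
  · intro w hw hw2
    have hn : L₂ ≤ Subgroup.normalizer (L₁ : Set G) := by
      intro y hy
      rw [Subgroup.mem_normalizer_iff]
      intro x
      constructor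
      · intro hx; rwa [← hc x hx y hy, mul_inv_cancel_right]
      · intro hx
        have h5 := hc _ hx y hy
        have : x = y * x * y⁻¹ := by
          apply mul_left_cancel (a := y)
          rw [← h5, inv_mul_cancel_right]
        rwa [this]
    rw [← SetLike.mem_coe, Subgroup.coe_mul_of_right_le_normalizer_left L₁ L₂ hn] at hw
    obtain ⟨x, hx, y, hy, rfl⟩ := hw
    have h1 : (x * x) * (y * y) = 1 := by
      rw [← hsq x hx y hy]
      have := pow_orderOf_eq_one (x * y)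
      rwa [hw2, pow_two] at this
    have hxx : x * x ∈ L₁ ⊓ L₂ := ⟨L₁.mul_mem hx hx, by
      rw [eq_inv_of_mul_eq_one_left h1]; exact L₂.inv_mem (L₂.mul_mem hy hy)⟩
    rw [hm] at hxx
    have hor : x * x = 1 ∨ x * x = j := by
      obtain ⟨k, hk⟩ := Subgroup.mem_zpowers_iff.mp hxx
      have hj2 : j ^ (2 : ℤ) = 1 := by rw [zpow_two, hjj]
      rcases Int.even_or_odd' k with ⟨i, rfl | rfl⟩
      · left; rw [← hk, zpow_mul, hj2, one_zpow]
      · right; rw [← hk, zpow_add, zpow_mul, hj2, one_zpow, one_mul, zpow_one]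
    rcases hor with h | h
    · have hyy : y * y = 1 := by rw [h, one_mul] at h1; exact h1
      rcases hu₁ x hx h with rfl | rfl <;> rcases hu₂ y hy hyy with rfl | rfl
      · simp at hw2
      · exact Or.inl (one_mul _)
      · exact Or.inl (mul_one _)
      · simp only [hjj] at hw2; simp at hw2
    · have hyy : y * y = j := by
        rw [h] at h1
        rw [eq_inv_of_mul_eq_one_right h1]
        exact inv_eq_of_mul_eq_one_right hjj
      obtain ⟨g, hg, hgx⟩ := hconj₁ a₁ ha₁ x hx haa₁ h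
      obtain ⟨k, hk, hky⟩ := hconj₂ a₂ ha₂ y hy haa₂ hyy
      refine Or.inr ⟨g * k, Subgroup.mul_mem _ (Subgroup.mem_sup_left hg) (Subgroup.mem_sup_right hk), ?_⟩
      calc g * k * (a₁ * a₂) * (g * k)⁻¹ = g * (k * a₁) * a₂ * k⁻¹ * g⁻¹ := by group
        _ = g * (a₁ * k) * a₂ * k⁻¹ * g⁻¹ := by rw [hc a₁ ha₁ k hk]
        _ = g * a₁ * (k * a₂ * k⁻¹) * g⁻¹ := by group
        _ = g * a₁ * (y * g⁻¹) := by rw [hky, mul_assoc]
        _ = g * a₁ * (g⁻¹ * y) := by rw [← hc g⁻¹ (L₁.inv_mem hg) y hy]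
        _ = x * y := by rw [← mul_assoc, hgx]

end Cfsg.Agent.S3209
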