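import Cfsg.Statements.S3210
import Cfsg.Agent.Lib.TwoSL2
-- import your own Cfsg.Agent.* helpers here

set_option autoImplicit false
open Cfsg

namespace Cfsg.Agent.S3210

/-- Let G be a finite group with subgroups L₁ ≅ SL₂(q₁) and L₂ ≅ SL₂(q₂), q₁ and q₂ odd prime powers, which commute elementwise and meet in ⟨j⟩ for an involution j, and suppose L₁L₂ has index 2 in C_G(j). Then every element n of C_G(j) outside L₁L₂ either normalizes both L₁ and L₂, or conjugates L₁ onto L₂; in the second case q₁ = q₂ and there is an element n′ of C_G(j) outside L₁L₂ conjugating L₁ onto L₂ with n′² ∈ ⟨j⟩. -/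
theorem result {G : Type*} [Group G] [Finite G]
    {F₁ : Type*} [Field F₁] [Fintype F₁] {F₂ : Type*} [Field F₂] [Fintype F₂]
    (hF₁ : Odd (Fintype.card F₁)) (hF₂ : Odd (Fintype.card F₂)) (L₁ L₂ : Subgroup G)
    (e₁ : ↥L₁ ≃* Matrix.SpecialLinearGroup (Fin 2) F₁) (e₂ : ↥L₂ ≃* Matrix.SpecialLinearGroup (Fin 2) F₂)
    (hc : ∀ x ∈ L₁, ∀ y ∈ L₂, x * y = y * x) (j : G) (hj : orderOf j = 2) (hm : L₁ ⊓ L₂ = Subgroup.zpowers j)
    (hle : L₁ ⊔ L₂ ≤ Subgroup.centralizer ({j} : Set G)) (hi : (L₁ ⊔ L₂).relIndex (Subgroup.centralizer ({j} : Set G)) = 2) (n : G) (hn : n ∈ Subgroup.centralizer ({j} : Set G)) (hn' : n ∉ L₁ ⊔ L₂) :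
    (L₁.map (MulAut.conj n).toMonoidHom = L₁ ∧ L₂.map (MulAut.conj n).toMonoidHom = L₂) ∨
      (L₁.map (MulAut.conj n).toMonoidHom = L₂ ∧ Fintype.card F₁ = Fintype.card F₂ ∧
        ∃ n' ∈ Subgroup.centralizer ({j} : Set G), n' ∉ L₁ ⊔ L₂ ∧ L₁.map (MulAut.conj n').toMonoidHom = L₂ ∧ n' ^ 2 ∈ Subgroup.zpowers j) := by
  obtain ⟨K, hK⟩ : ∃ K, K = L₁ ⊔ L₂ := ⟨_, rfl⟩
  have hj1 : j ∈ L₁ ∧ j ∈ L₂ := Subgroup.mem_inf.mp (hm ▸ Subgroup.mem_zpowers j)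
  have hjn : n * j * n⁻¹ = j := by
    rw [Subgroup.mem_centralizer_singleton_iff] at hn
    rw [hn, mul_inv_cancel_right]
  have hKn : ((L₁ ⊔ L₂).subgroupOf (Subgroup.centralizer ({j} : Set G))).Normal := Subgroup.normal_of_index_eq_two hi
  have hconj : ∀ g ∈ Subgroup.centralizer ({j} : Set G), ∀ x ∈ L₁ ⊔ L₂, g * x * g⁻¹ ∈ L₁ ⊔ L₂ := fun g hg x hx =>
    hKn.conj_mem ⟨x, hle hx⟩ hx ⟨g, hg⟩
  obtain ⟨M, hM⟩ : ∃ M, M = L₁.map (MulAut.conj n).toMonoidHom := ⟨_, rfl⟩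
  obtain ⟨N, hN⟩ : ∃ N, N = L₂.map (MulAut.conj n).toMonoidHom := ⟨_, rfl⟩
  have hMle : M ≤ L₁ ⊔ L₂ := by rw [hM]; rintro _ ⟨x, hx, rfl⟩; exact hconj n hn x (Subgroup.mem_sup_left hx)
  have hNle : N ≤ L₁ ⊔ L₂ := by rw [hN]; rintro _ ⟨x, hx, rfl⟩; exact hconj n hn x (Subgroup.mem_sup_right hx)
  have hnormL : ∀ L : Subgroup G, L = L₁ ∨ L = L₂ → ∀ g ∈ L₁ ⊔ L₂, ∀ x ∈ L, g * x * g⁻¹ ∈ L := by
    intro L hL g hg
    have key : L₁ ⊔ L₂ ≤ Subgroup.normalizer (L : Set G) := by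
      have hcent : ∀ A B : Subgroup G, (∀ x ∈ A, ∀ y ∈ B, x * y = y * x) → A ≤ Subgroup.normalizer (B : Set G) :=
        fun A B h => by
          rw [Subgroup.le_normalizer_iff_commutator_le_right, Subgroup.commutator_eq_bot_iff_le_centralizer.mpr
            (fun x hx => Subgroup.mem_centralizer_iff.mpr fun y hy => (h x hx y hy).symm)]
          exact bot_le
      rcases hL with rfl | rfl
      · exact sup_le Subgroup.le_normalizer (hcent _ _ fun x hx y hy => (hc y hy x hx).symm)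
      · exact sup_le (hcent _ _ hc) Subgroup.le_normalizer
    exact fun x hx => (Subgroup.mem_normalizer_iff.mp (key hg) x).mp hx
  have hnormM : ∀ L : Subgroup G, L = L₁ ∨ L = L₂ → ∀ g ∈ L₁ ⊔ L₂, ∀ x ∈ L.map (MulAut.conj n).toMonoidHom,
      g * x * g⁻¹ ∈ L.map (MulAut.conj n).toMonoidHom := by
    rintro L hL g hg _ ⟨x, hx, rfl⟩
    have hg' := hconj n⁻¹ (inv_mem hn) g hg
    exact ⟨_, hnormL L hL _ hg' x hx, by simp [mul_assoc]⟩
  have hMN : ∀ x ∈ M, ∀ y ∈ N, x * y = y * x := by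
    rw [hM, hN]
    rintro _ ⟨x, hx, rfl⟩ _ ⟨y, hy, rfl⟩
    rw [← map_mul, ← map_mul, hc x hx y hy]
  have hjM : j ∈ M ∧ j ∈ N := by
    rw [hM, hN]; exact ⟨⟨j, hj1.1, hjn⟩, ⟨j, hj1.2, hjn⟩⟩
  have hsup : L₁ ⊔ L₂ ≤ M ⊔ N := by
    rw [hM, hN, ← Subgroup.map_sup]
    intro x hx
    exact ⟨_, hconj n⁻¹ (inv_mem hn) x hx, by simp [mul_assoc]⟩
  have s1 := Cfsg.Agent.TwoSL2.one_side hF₁ L₁ L₂ M N e₁ hc hj hm hjM.1 hjM.2 hMle hNle
    (hM ▸ hnormM L₁ (Or.inl rfl)) (hN ▸ hnormM L₂ (Or.inr rfl)) hMN (le_sup_left.trans hsup)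
  have s2 := Cfsg.Agent.TwoSL2.one_side hF₂ L₂ L₁ M N e₂ (fun x hx y hy => (hc y hy x hx).symm) hj
    (by rw [inf_comm, hm]) hjM.1 hjM.2 (sup_comm L₁ L₂ ▸ hMle) (sup_comm L₁ L₂ ▸ hNle)
    (fun g hg => (hM ▸ hnormM L₁ (Or.inl rfl)) g (sup_comm L₂ L₁ ▸ hg))
    (fun g hg => (hN ▸ hnormM L₂ (Or.inr rfl)) g (sup_comm L₂ L₁ ▸ hg)) hMN (le_sup_right.trans hsup)
  have hnot1 : ¬ L₁.map (MulAut.conj n).toMonoidHom ≤ L₁ ⊓ L₂ := by
    intro h
    rw [hm] at h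
    have h1 := Subgroup.card_le_of_le h
    rw [Subgroup.card_map_of_injective (f := (MulAut.conj n).toMonoidHom) (MulAut.conj n).injective,
      Nat.card_zpowers, hj, Nat.card_congr e₁.toEquiv, Cfsg.Agent.Classical.SL2.card_SL2] at h1
    have hq := Fintype.one_lt_card (α := F₁)
    have : 3 ≤ Fintype.card F₁ ^ 2 - 1 := by
      have := Nat.pow_le_pow_left (show 2 ≤ Fintype.card F₁ from hq) 2; omega
    nlinarith
  have hnot2 : ¬ L₂.map (MulAut.conj n).toMonoidHom ≤ L₁ ⊓ L₂ := by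
    intro h
    rw [hm] at h
    have h1 := Subgroup.card_le_of_le h
    rw [Subgroup.card_map_of_injective (f := (MulAut.conj n).toMonoidHom) (MulAut.conj n).injective,
      Nat.card_zpowers, hj, Nat.card_congr e₂.toEquiv, Cfsg.Agent.Classical.SL2.card_SL2] at h1
    have hq := Fintype.one_lt_card (α := F₂)
    have : 3 ≤ Fintype.card F₂ ^ 2 - 1 := by
      have := Nat.pow_le_pow_left (show 2 ≤ Fintype.card F₂ from hq) 2; omega
    nlinarith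
  -- equality from containments
  have fill : ∀ A B : Subgroup G, M ≤ A → N ≤ B → A ⊓ B ≤ L₁ ⊓ L₂ → A ⊔ B ≤ L₁ ⊔ L₂ → M = A ∧ N = B := by
    intro A B hA hB hAB hs
    have hjz : L₁ ⊓ L₂ ≤ M ⊓ N := hm ▸ (Subgroup.zpowers_le.mpr (Subgroup.mem_inf.mpr hjM))
    have hMNn : M ≤ Subgroup.normalizer (N : Set G) := fun x hx => Subgroup.mem_normalizer_iff.mpr fun y =>
      ⟨fun hy => by rw [hMN x hx y hy, mul_inv_cancel_right]; exact hy, fun hy => by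
        have h := hMN x⁻¹ (inv_mem hx) _ hy
        have h2 := congrArg (· * x) h
        simp only [mul_assoc, inv_mul_cancel_left, inv_mul_cancel, mul_one] at h2
        have e : y = x * y * x⁻¹ := by simpa [mul_assoc] using h2
        rw [e]; exact hy⟩
    have dec : ∀ z ∈ L₁ ⊔ L₂, ∃ m ∈ M, ∃ v ∈ N, m * v = z := by
      intro z hz
      have h' : z ∈ ((M ⊔ N : Subgroup G) : Set G) := hsup hz
      rw [Subgroup.coe_mul_of_left_le_normalizer_right M N hMNn] at h'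
      obtain ⟨m, hm', v, hv, rfl⟩ := h'
      exact ⟨m, hm', v, hv, rfl⟩
    refine ⟨le_antisymm hA fun a ha => ?_, le_antisymm hB fun b hb => ?_⟩
    · obtain ⟨m, hm', v, hv, rfl⟩ := dec a (hs (Subgroup.mem_sup_left ha))
      exact mul_mem hm' ((hjz (hAB ⟨by simpa using mul_mem (inv_mem (hA hm')) ha, hB hv⟩)).1)
    · obtain ⟨m, hm', v, hv, rfl⟩ := dec b (hs (Subgroup.mem_sup_right hb))
      exact mul_mem ((hjz (hAB ⟨hA hm', by simpa using mul_mem hb (inv_mem (hB hv))⟩)).2) hv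
  have hMnot : ¬ (M ≤ L₁ ⊓ L₂) := hM ▸ hnot1
  have hNnot : ¬ (N ≤ L₁ ⊓ L₂) := hN ▸ hnot2
  rcases s2 with hM1 | hN1
  · left
    have hN2 : N ≤ L₂ := s1.resolve_left fun h => hMnot (le_inf hM1 h)
    exact hM ▸ hN ▸ fill L₁ L₂ hM1 hN2 le_rfl le_rfl
  · right
    have hM2 : M ≤ L₂ := s1.resolve_right fun h => hNnot (le_inf hN1 h)
    obtain ⟨eM, eN⟩ := fill L₂ L₁ hM2 hN1 (inf_comm L₁ L₂).ge (sup_comm L₁ L₂).ge
    refine ⟨hM ▸ eM, ?_, ?_⟩
    · have h := congrArg (fun H : Subgroup G => Nat.card ↥H) eM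
      rw [hM] at h
      simp only [Subgroup.card_map_of_injective (f := (MulAut.conj n).toMonoidHom) (MulAut.conj n).injective] at h
      rw [Nat.card_congr e₁.toEquiv, Nat.card_congr e₂.toEquiv, Cfsg.Agent.Classical.SL2.card_SL2,
        Cfsg.Agent.Classical.SL2.card_SL2] at h
      have mono : ∀ a b : ℕ, 1 < a → a < b → a * (a ^ 2 - 1) < b * (b ^ 2 - 1) := fun a b ha hab =>
        Nat.mul_lt_mul_of_lt_of_le hab (Nat.sub_le_sub_right (Nat.pow_le_pow_left hab.le 2) 1)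
          (by have := Nat.pow_le_pow_left (show 2 ≤ b from lt_trans ha hab) 2; omega)
      rcases lt_trichotomy (Fintype.card F₁) (Fintype.card F₂) with hl | hl | hl
      · exact absurd h (mono _ _ Fintype.one_lt_card hl).ne
      · exact hl
      · exact absurd h (mono _ _ Fintype.one_lt_card hl).ne'
    · have hsq : n * n ∈ L₁ ⊔ L₂ :=
        (Subgroup.mul_mem_iff_of_index_two hi (a := (⟨n, hn⟩ : ↥(Subgroup.centralizer ({j} : Set G))))
          (b := ⟨n, hn⟩)).mpr Iff.rfl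
      have hnn : L₁ ≤ Subgroup.normalizer (L₂ : Set G) := fun x hx => Subgroup.mem_normalizer_iff.mpr fun y =>
        ⟨fun hy => hnormL L₂ (Or.inr rfl) x (Subgroup.mem_sup_left hx) y hy, fun hy => by
          simpa [mul_assoc] using hnormL L₂ (Or.inr rfl) x⁻¹ (Subgroup.mem_sup_left (inv_mem hx)) _ hy⟩
      have h' : n * n ∈ ((L₁ ⊔ L₂ : Subgroup G) : Set G) := hsq
      rw [Subgroup.coe_mul_of_left_le_normalizer_right L₁ L₂ hnn] at h'
      obtain ⟨l1, hl1, l2, hl2, hll⟩ := h'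
      have hncent : l1 ∈ Subgroup.centralizer ({j} : Set G) := hle (Subgroup.mem_sup_left hl1)
      refine ⟨n * l1⁻¹, mul_mem hn (inv_mem hncent), fun h => hn' ?_, ?_, ?_⟩
      · simpa using mul_mem h (Subgroup.mem_sup_left (T := L₂) hl1)
      · rw [← eM, hM]
        refine le_antisymm ?_ ?_
        · rintro _ ⟨x, hx, rfl⟩
          exact ⟨l1⁻¹ * x * l1, mul_mem (mul_mem (inv_mem hl1) hx) hl1, by simp [mul_assoc]⟩
        · rintro _ ⟨x, hx, rfl⟩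
          exact ⟨l1 * x * l1⁻¹, mul_mem (mul_mem hl1 hx) (inv_mem hl1), by simp [mul_assoc]⟩
      · have hy : n⁻¹ * l1⁻¹ * n ∈ L₂ := by
          obtain ⟨y, hy, e⟩ : l1⁻¹ ∈ L₂.map (MulAut.conj n).toMonoidHom := by
            rw [← hN, eN]; exact inv_mem hl1
          rw [← e]; simpa [mul_assoc] using hy
        have e2 : (n * l1⁻¹) ^ 2 = l2 * (n⁻¹ * l1⁻¹ * n) := by
          have hcom : l1 * (l2 * (n⁻¹ * l1⁻¹ * n)) = l2 * (n⁻¹ * l1⁻¹ * n) * l1 := hc l1 hl1 _ (mul_mem hl2 hy)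
          calc (n * l1⁻¹) ^ 2 = n * n * (n⁻¹ * l1⁻¹ * n) * l1⁻¹ := by rw [pow_two]; simp [mul_assoc]
            _ = l1 * l2 * (n⁻¹ * l1⁻¹ * n) * l1⁻¹ := by rw [← hll]
            _ = _ := by rw [mul_assoc l1 l2, hcom, mul_inv_cancel_right]
        rw [hm.symm]
        refine Subgroup.mem_inf.mpr ⟨?_, e2 ▸ mul_mem hl2 hy⟩
        have hz : (n * l1⁻¹) ^ 2 ∈ L₂ := e2 ▸ mul_mem hl2 hy
        have hin : n * (l1⁻¹ * (n * l1⁻¹) ^ 2 * l1) * n⁻¹ ∈ N := by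
          rw [hN]
          exact ⟨_, by simpa using hnormL L₂ (Or.inr rfl) l1⁻¹ (Subgroup.mem_sup_left (inv_mem hl1)) _ hz, rfl⟩
        rw [eN] at hin
        have e3 : n * (l1⁻¹ * (n * l1⁻¹) ^ 2 * l1) * n⁻¹ = (n * l1⁻¹) ^ 2 := by
          rw [pow_two]; simp [mul_assoc]
        rwa [e3] at hin

end Cfsg.Agent.S3210
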