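import Cfsg.Statements.S3215
import Mathlib
import Cfsg.Agent.Lib.Solv.Basic
import Cfsg.Agent.Lib.Local.PGroup
import Cfsg.Agent.Lib.Struct.FpfComplement

set_option autoImplicit false
open Cfsg

namespace Cfsg.Agent.S3215

open Subgroup
open scoped commutatorElement

variable {H : Type*} [Group H] [Finite H]

theorem commute_two (hI : ∀ t : H, orderOf t = 2 → Cfsg.HasNormalPComplement 2 ↥(centralizer ({t} : Set H)))
    {t x : H} (ht : orderOf t = 2) (hx : Odd (orderOf x)) (hxt : x * t = t * x)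
    {W : Subgroup H} [W.Normal] (hW : IsPGroup 2 ↥W) {w : H} (hw : w ∈ W) (hwt : w * t = t * w) :
    x * w = w * x := by
  have hI' := hI t ht
  set C := centralizer ({t} : Set H) with hC
  obtain ⟨P, N, hN, hPN⟩ := hI'
  haveI := hN
  haveI : Fact (Nat.Prime 2) := ⟨Nat.prime_two⟩
  have hxC : x ∈ C := mem_centralizer_singleton_iff.mpr hxt
  have hwC : w ∈ C := mem_centralizer_singleton_iff.mpr hwt
  have hidx : N.index = Nat.card ↥(P : Subgroup ↥C) := hPN.symm.index_eq_card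
  obtain ⟨k, hk⟩ := IsPGroup.iff_card.mp P.isPGroup'
  have hxN : (⟨x, hxC⟩ : ↥C) ∈ N := by
    apply Cfsg.Agent.Solv.mem_of_coprime_index
    rw [hidx, hk, orderOf_mk]
    exact (Nat.coprime_two_right.mpr hx).pow_right k
  have hcop : (Nat.card ↥N).Coprime (Nat.card ↥(W.subgroupOf C)) := by
    have hW' : IsPGroup 2 ↥(W.subgroupOf C) := hW.comap_of_injective C.subtype C.subtype_injective
    obtain ⟨j, hj⟩ := IsPGroup.iff_card.mp hW'
    rw [hj]
    refine Nat.Coprime.pow_right j ?_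
    rw [Nat.coprime_two_right, ← Nat.not_even_iff_odd, even_iff_two_dvd]
    intro hd
    obtain ⟨a, ha⟩ := exists_prime_orderOf_dvd_card' 2 hd
    have h1 : IsPGroup 2 ↥(zpowers (a : ↥C)) := IsPGroup.of_card (n := 1) (by rw [Nat.card_zpowers, orderOf_coe, ha, pow_one])
    obtain ⟨R, hR⟩ := h1.exists_le_sylow
    obtain ⟨g, hg⟩ := MulAction.exists_smul_eq ↥C R P
    have hmem : g * (a : ↥C) * g⁻¹ ∈ (P : Subgroup ↥C) := by
      rw [← hg, Sylow.coe_subgroup_smul]
      exact ⟨_, hR (mem_zpowers _), rfl⟩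
    have h2 : g * (a : ↥C) * g⁻¹ ∈ N ⊓ (P : Subgroup ↥C) := ⟨hN.conj_mem _ a.2 g, hmem⟩
    rw [hPN.disjoint.eq_bot, mem_bot, conj_eq_one_iff] at h2
    rw [show a = 1 from Subtype.ext h2, orderOf_one] at ha
    omega
  have := commute_of_normal_of_disjoint N (W.subgroupOf C) hN inferInstance
    (disjoint_iff.mpr (Cfsg.Agent.Solv.inf_eq_bot_of_coprime_card _ _ hcop))
    ⟨x, hxC⟩ ⟨w, hwC⟩ hxN hw
  exact congrArg Subtype.val this.eq

variable [Group.IsSolvable H]

/-- Odd order elements act without fixed points on the largest normal `2`-subgroup. -/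
theorem fixed_free (hO : Cfsg.oddCore H = ⊥)
    (hI : ∀ t : H, orderOf t = 2 → Cfsg.HasNormalPComplement 2 ↥(centralizer ({t} : Set H)))
    {x y : H} (hx : Odd (orderOf x)) (hy : y ∈ Cfsg.pCore 2 H) (hy1 : y ≠ 1) (hxy : x * y = y * x) : x = 1 := by
  haveI : Fact (Nat.Prime 2) := ⟨Nat.prime_two⟩
  set Y := Cfsg.pCore 2 H with hY
  have hYp : IsPGroup 2 ↥Y := Cfsg.Agent.Solv.isPGroup_pCore 2 H
  haveI : Y.Normal := Subgroup.sSup_normal _ (fun _ h => h.1)
  -- a central involution of `Y`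
  haveI : Nontrivial ↥Y := (nontrivial_iff_ne_bot _).mpr (fun e => hy1 (by rwa [e, mem_bot] at hy))
  haveI := hYp.center_nontrivial
  obtain ⟨m, hm, hmc⟩ := (hYp.to_subgroup (center ↥Y)).nontrivial_iff_card.mp inferInstance
  obtain ⟨z, hz⟩ := exists_prime_orderOf_dvd_card' (G := ↥(center ↥Y)) 2 (hmc ▸ dvd_pow_self 2 hm.ne')
  have hz2 : orderOf ((z : ↥Y) : H) = 2 := by rw [orderOf_coe, orderOf_coe, hz]
  have hzc : ∀ v ∈ Y, v * ((z : ↥Y) : H) = ((z : ↥Y) : H) * v := fun v hv =>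
    congrArg Subtype.val (mem_center_iff.mp z.2 ⟨v, hv⟩)
  -- an involution among the powers of `y`
  obtain ⟨e, he⟩ := IsPGroup.iff_orderOf.mp hYp ⟨y, hy⟩
  have he0 : e ≠ 0 := by
    rintro rfl
    rw [pow_zero, orderOf_eq_one_iff] at he
    exact hy1 (congrArg Subtype.val he)
  rw [orderOf_mk] at he
  set u := y ^ 2 ^ (e - 1) with hu
  have hu2 : orderOf u = 2 := by
    rw [hu, orderOf_pow_of_dvd (pow_ne_zero _ (by norm_num)) (he ▸ pow_dvd_pow 2 (Nat.sub_le e 1)), he,
      Nat.pow_div (Nat.sub_le e 1) (by norm_num), show e - (e - 1) = 1 by omega, pow_one]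
  have huY : u ∈ Y := Y.pow_mem hy _
  have hxu : x * u = u * x := (Commute.pow_right (show Commute x y from hxy) _).eq
  have hxz : x * ((z : ↥Y) : H) = ((z : ↥Y) : H) * x :=
    commute_two hI hu2 hx hxu hYp (z : ↥Y).2 (hzc u huY).symm
  have hxY : ∀ v ∈ Y, x * v = v * x := fun v hv => commute_two hI hz2 hx hxz hYp hv (hzc v hv)
  have hmem : x ∈ Y := Cfsg.Agent.Solv.centralizer_pCore_le_of_isSolvable hO (fun v hv => (hxY v hv).symm)
  obtain ⟨k, hk⟩ := IsPGroup.iff_orderOf.mp hYp ⟨x, hmem⟩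
  rw [orderOf_mk] at hk
  rcases k with _ | k
  · rw [← orderOf_eq_one_iff, hk, pow_zero]
  · rw [hk, pow_succ] at hx
    exact absurd hx (Nat.not_odd_iff_even.mpr (Even.mul_left even_two _))

/-- No involution commutes with a nontrivial element of odd order. -/
theorem involution_free (hO : Cfsg.oddCore H = ⊥)
    (hI : ∀ t : H, orderOf t = 2 → Cfsg.HasNormalPComplement 2 ↥(centralizer ({t} : Set H)))
    {x t : H} (hx : Odd (orderOf x)) (ht : orderOf t = 2) (hxt : x * t = t * x) : x = 1 := by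
  haveI : Fact (Nat.Prime 2) := ⟨Nat.prime_two⟩
  set Y := Cfsg.pCore 2 H with hY
  haveI : Y.Normal := Subgroup.sSup_normal _ (fun _ h => h.1)
  by_cases hY0 : Y = ⊥
  · have h := Cfsg.Agent.Solv.centralizer_pCore_le_of_isSolvable (G := H) (p := 2) hO
    rw [← hY, hY0] at h
    have : x ∈ (⊥ : Subgroup H) := h (fun v hv => by
      rw [SetLike.mem_coe, mem_bot] at hv; rw [hv, mul_one, one_mul])
    exact mem_bot.mp this
  have hp : IsPGroup 2 ↥(zpowers t) := IsPGroup.of_card (n := 1) (by rw [Nat.card_zpowers, ht, pow_one])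
  obtain ⟨S, hS⟩ := hp.exists_le_sylow
  have hYS : Y ≤ (S : Subgroup H) := Cfsg.Agent.Solv.pCore_le_sylow S
  have hne : Y.subgroupOf S ≠ ⊥ := fun e => hY0 (by
    rw [Subgroup.subgroupOf_eq_bot, disjoint_iff, inf_eq_left.mpr hYS] at e; exact e)
  obtain ⟨w, ⟨hwY, hwc⟩, hw1⟩ := (bot_or_exists_ne_one _).resolve_left
    (Cfsg.Agent.Local.inf_center_ne_bot S.isPGroup' (Y.subgroupOf S) hne)
  have hwt : (w : H) * t = t * w :=
    (congrArg Subtype.val (mem_center_iff.mp hwc ⟨t, hS (mem_zpowers t)⟩)).symm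
  exact fixed_free hO hI hx hwY (fun e => hw1 (Subtype.ext e))
    (commute_two hI ht hx hxt (Cfsg.Agent.Solv.isPGroup_pCore 2 H) hwY hwt)

/-- Let H be a finite solvable group with no nontrivial normal subgroup of odd order in which the centralizer of every involution has a normal 2-complement. Let X be a Hall 2'-subgroup of H (odd order, index a power of 2) and Y = O₂(H). Then no non-identity element of X commutes with a non-identity element of Y (so for X ≠ 1 the group XY is a Frobenius group with kernel Y), every Sylow subgroup of X is cyclic, XY is normal in H, and H/XY is a cyclic 2-group. -/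
theorem result {H : Type*} [Group H] [Finite H] (hsol : Group.IsSolvable H)
    (hO : Cfsg.oddCore H = ⊥)
    (hI : ∀ t : H, orderOf t = 2 → Cfsg.HasNormalPComplement 2 ↥(Subgroup.centralizer ({t} : Set H)))
    (X : Subgroup H) (hXodd : Odd (Nat.card X)) (hXidx : ∃ k : ℕ, X.index = 2 ^ k) :
    (∀ x ∈ X, x ≠ 1 → ∀ y ∈ Cfsg.pCore 2 H, y ≠ 1 → x * y ≠ y * x) ∧
      (∀ (p : ℕ) [Fact p.Prime] (P : Sylow p ↥X), IsCyclic ↥(P : Subgroup ↥X)) ∧
      (X ⊔ Cfsg.pCore 2 H).Normal ∧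
      ∀ hN : (X ⊔ Cfsg.pCore 2 H).Normal, IsCyclic (H ⧸ (X ⊔ Cfsg.pCore 2 H)) ∧ IsPGroup 2 (H ⧸ (X ⊔ Cfsg.pCore 2 H)) := by
  haveI := hsol
  haveI : Fact (Nat.Prime 2) := ⟨Nat.prime_two⟩
  set Y := Cfsg.pCore 2 H with hY
  have hYp : IsPGroup 2 ↥Y := Cfsg.Agent.Solv.isPGroup_pCore 2 H
  haveI hYn : Y.Normal := Subgroup.sSup_normal _ (fun _ h => h.1)
  have hordX : ∀ x ∈ X, Odd (orderOf x) := fun x hx =>
    hXodd.of_dvd_nat (orderOf_mk x hx ▸ orderOf_dvd_natCard _)
  have hfree : ∀ x : H, Odd (orderOf x) → ∀ y ∈ Y, y ≠ 1 → x * y = y * x → x = 1 := fun x hx y hy hy1 h =>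
    fixed_free hO hI hx hy hy1 h
  have hY0 : Y = ⊥ → ∀ x : H, x = 1 := by
    intro h x
    have hc := Cfsg.Agent.Solv.centralizer_pCore_le_of_isSolvable (G := H) (p := 2) hO
    rw [← hY, h] at hc
    exact mem_bot.mp (hc (fun v hv => by rw [SetLike.mem_coe, mem_bot] at hv; rw [hv, mul_one, one_mul]))
  refine ⟨fun x hx hx1 y hy hy1 h => hx1 (hfree x (hordX x hx) y hy hy1 h), ?_, ?_⟩
  · intro p hp P
    by_cases hbot : Y = ⊥
    · haveI : Subsingleton ↥(P : Subgroup ↥X) := ⟨fun a b => Subtype.ext (Subtype.ext (by rw [hY0 hbot (a : H), hY0 hbot (b : H)]))⟩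
      exact isCyclic_of_subsingleton
    let A := (P : Subgroup ↥X).map X.subtype
    have hA : A ≤ X := map_subtype_le _
    have hcop : (Nat.card ↥A).Coprime (Nat.card ↥Y) := by
      obtain ⟨k, hk⟩ := IsPGroup.iff_card.mp hYp
      rw [hk]
      exact (Nat.coprime_two_right.mpr (hXodd.of_dvd_nat (card_dvd_of_le hA))).pow_right k
    have hfpf : ∀ a ∈ A, a ≠ 1 → Y ⊓ centralizer {a} = ⊥ := by
      intro a ha ha1
      rw [eq_bot_iff]
      rintro y ⟨hy, hya⟩
      rw [mem_bot]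
      by_contra hy1
      exact ha1 (hfree a (hordX a (hA ha)) y hy hy1 (mem_centralizer_singleton_iff.mp hya).symm)
    rcases Cfsg.Agent.Struct.Frobenius.sylow_cyclic_or_quaternion (A := A) (K := Y) hbot
      (normalizer_eq_top (H := Y) ▸ le_top) hcop hfpf (P.isPGroup'.map X.subtype) with h | ⟨rfl, n, hn, ⟨e⟩⟩
    · exact (equivMapOfInjective _ X.subtype X.subtype_injective).isCyclic.mpr h
    · exfalso
      have h1 : Odd (Nat.card ↥A) := hXodd.of_dvd_nat (card_dvd_of_le hA)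
      rw [Nat.card_congr e.toEquiv] at h1
      rw [Nat.card_eq_fintype_card, QuaternionGroup.card] at h1
      exact absurd h1 (Nat.not_odd_iff_even.mpr ⟨2 * 2 ^ n, by ring⟩)
  -- the structure of `H`
  suffices hmain : ∃ L : Subgroup H, L.Normal ∧ X ⊔ Y = L ∧ ∀ _ : L.Normal, IsCyclic (H ⧸ L) ∧ IsPGroup 2 (H ⧸ L) by
    obtain ⟨L, hL, rfl, h⟩ := hmain
    exact ⟨hL, fun hN => h hN⟩
  obtain ⟨e₀, he₀⟩ := hXidx
  by_cases hYtop : Y = ⊤
  · refine ⟨⊤, inferInstance, by rw [hYtop, sup_top_eq], fun _ => ?_⟩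
    haveI : Subsingleton (H ⧸ (⊤ : Subgroup H)) := QuotientGroup.subsingleton_quotient_top
    exact ⟨isCyclic_of_subsingleton, fun g => ⟨0, Subsingleton.elim _ _⟩⟩
  let π := QuotientGroup.mk' Y
  haveI : Nontrivial (H ⧸ Y) := QuotientGroup.nontrivial_iff.mpr hYtop
  obtain ⟨M, hMn, -, hM0, hMmin⟩ := Cfsg.Agent.Solv.exists_minimal_normal_le (N := (⊤ : Subgroup (H ⧸ Y))) top_ne_bot
  haveI := hMn
  obtain ⟨hMab, q, hq, hMq⟩ := Cfsg.Agent.Solv.minimal_normal_elementary M hM0 hMmin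
  haveI : Fact q.Prime := ⟨hq⟩
  have hMp : IsPGroup q ↥M := fun m => ⟨1, Subtype.ext (by simpa using hMq m m.2)⟩
  have hq2 : q ≠ 2 := by
    rintro rfl
    apply hM0
    rw [eq_bot_iff, ← Cfsg.Agent.Solv.pCore_quotient_pCore 2 H]
    exact Cfsg.Agent.Solv.le_pCore hMp
  set M' := M.comap π with hM'
  haveI : M'.Normal := hMn.comap π
  obtain ⟨Q⟩ : Nonempty (Sylow q ↥M') := inferInstance
  set Qh := (Q : Subgroup ↥M').map M'.subtype with hQh
  set N := normalizer (Qh : Set H) with hN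
  have hfrat : N ⊔ M' = ⊤ := Sylow.normalizer_sup_eq_top Q
  have hYM : Y ≤ M' := fun v hv => by
    rw [hM', Subgroup.mem_comap, QuotientGroup.mk'_apply, (QuotientGroup.eq_one_iff v).mpr hv]; exact M.one_mem
  have hQp : IsPGroup q ↥Qh := Q.isPGroup'.map _
  have hQodd : ∀ a ∈ Qh, Odd (orderOf a) := by
    intro a ha
    obtain ⟨k, hk⟩ := IsPGroup.iff_orderOf.mp hQp ⟨a, ha⟩
    rw [orderOf_mk] at hk
    rw [hk]
    exact (hq.odd_of_ne_two hq2).pow
  have hQM : Qh ≤ M' := map_subtype_le _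
  have hQY : Qh ⊓ Y = ⊥ := Cfsg.Agent.Solv.inf_eq_bot_of_coprime_card _ _ (by
    obtain ⟨i, hi⟩ := IsPGroup.iff_card.mp hQp
    obtain ⟨j, hj⟩ := IsPGroup.iff_card.mp hYp
    rw [hi, hj]
    exact ((Nat.coprime_primes hq Nat.prime_two).mpr hq2).pow i j)
  -- the Sylow subgroup covers the minimal normal subgroup
  have hcover : Y ⊔ Qh = M' := by
    apply le_antisymm (sup_le hYM (map_subtype_le _))
    have hd1 : (Y ⊔ Qh).relIndex M' ∣ Qh.relIndex M' := relIndex_dvd_of_le_left _ le_sup_right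
    have hd2 : (Y ⊔ Qh).relIndex M' ∣ Y.relIndex M' := relIndex_dvd_of_le_left _ le_sup_left
    have h1 : ¬ q ∣ Qh.relIndex M' := by
      rw [relIndex, hQh, subgroupOf, comap_map_eq_self_of_injective M'.subtype_injective]
      exact Q.not_dvd_index
    have h2 : Y.relIndex M' = Nat.card ↥M := by
      have hkm : (M.comap π).map π = M := map_comap_eq_self_of_surjective (QuotientGroup.mk'_surjective Y) M
      have h : π.ker.relIndex M' = Nat.card ↥(M'.map π) := by rw [relIndex_ker]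
      rw [QuotientGroup.ker_mk'] at h
      rw [h, hM', hkm]
    rw [h2] at hd2
    obtain ⟨i, hi⟩ := IsPGroup.iff_card.mp hMp
    rw [hi] at hd2
    obtain ⟨k, hk, hkq⟩ := (Nat.dvd_prime_pow hq).mp hd2
    rcases k with _ | k
    · exact relIndex_eq_one.mp (by rw [hkq, pow_zero])
    · exact absurd ((dvd_pow_self q (Nat.succ_ne_zero k)).trans (hkq ▸ hd1)) h1
  have hQne : Qh ≠ ⊥ := by
    intro h
    apply hM0
    rw [eq_bot_iff]
    intro m hm
    obtain ⟨v, rfl⟩ := QuotientGroup.mk'_surjective Y m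
    have : v ∈ Y := by
      have h3 : v ∈ M' := hm
      rwa [← hcover, h, sup_bot_eq] at h3
    rw [mem_bot, QuotientGroup.mk'_apply, (QuotientGroup.eq_one_iff v).mpr this]
  have hNY : Y ⊔ N = ⊤ := by
    rw [eq_top_iff, ← hfrat]
    refine sup_le le_sup_right ?_
    rw [← hcover]
    exact sup_le le_sup_left (le_normalizer.trans le_sup_right)
  obtain ⟨a, ha, ha1⟩ := (bot_or_exists_ne_one _).resolve_left hQne
  -- the Sylow subgroup is cyclic of prime order
  have hQab : ∀ u ∈ Qh, ∀ v ∈ Qh, u * v = v * u := by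
    intro u hu v hv
    have hmem : ⁅u, v⁆ ∈ Qh ⊓ Y := by
      refine ⟨commutator_le_self Qh (commutator_mem_commutator hu hv), ?_⟩
      change ⁅u, v⁆ ∈ Y
      rw [← QuotientGroup.eq_one_iff, ← QuotientGroup.mk'_apply, map_commutatorElement,
        commutatorElement_eq_one_iff_mul_comm]
      exact congrArg Subtype.val (hMab.is_comm.comm ⟨π u, hQM hu⟩ ⟨π v, hQM hv⟩)
    rw [hQY, mem_bot] at hmem
    exact commutatorElement_eq_one_iff_mul_comm.mp hmem
  have hQexp : ∀ u ∈ Qh, u ^ q = 1 := by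
    intro u hu
    have hmem : u ^ q ∈ Qh ⊓ Y := by
      refine ⟨Qh.pow_mem hu q, ?_⟩
      change u ^ q ∈ Y
      rw [← QuotientGroup.eq_one_iff, QuotientGroup.mk_pow]
      exact hMq _ (hQM hu)
    rwa [hQY, mem_bot] at hmem
  have hQcyc : IsCyclic ↥Qh := by
    have hbot : Y ≠ ⊥ := fun h => ha1 (hY0 h a)
    have hfpf : ∀ b ∈ Qh, b ≠ 1 → Y ⊓ centralizer {b} = ⊥ := by
      intro b hb hb1
      rw [eq_bot_iff]
      rintro y ⟨hy, hyb⟩
      rw [mem_bot]
      by_contra hy1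
      exact hb1 (hfree b (hQodd b hb) y hy hy1 (mem_centralizer_singleton_iff.mp hyb).symm)
    rcases Cfsg.Agent.Struct.Frobenius.sylow_cyclic_or_quaternion (A := Qh) (K := Y) hbot
      (normalizer_eq_top (H := Y) ▸ le_top) (by
        obtain ⟨i, hi⟩ := IsPGroup.iff_card.mp hQp
        obtain ⟨j, hj⟩ := IsPGroup.iff_card.mp hYp
        rw [hi, hj]
        exact ((Nat.coprime_primes hq Nat.prime_two).mpr hq2).pow i j) hfpf hQp with h | ⟨h, -⟩
    · exact h
    · exact absurd h hq2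
  have hQcard : Nat.card ↥Qh = q := by
    haveI := hQcyc
    have h1 : Monoid.exponent ↥Qh ∣ q := Monoid.exponent_dvd_of_forall_pow_eq_one (fun u => Subtype.ext (hQexp u u.2))
    rw [IsCyclic.exponent_eq_card] at h1
    rcases (Nat.dvd_prime hq).mp h1 with h | h
    · exact absurd ((Subgroup.eq_bot_of_card_eq Qh h)) hQne
    · exact h
  have hcycAut : IsCyclic (MulAut ↥Qh) := by
    haveI := hQcyc
    haveI : IsCyclic (ZMod (Nat.card ↥Qh))ˣ := by rw [hQcard]; exact ZMod.isCyclic_units_prime hq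
    exact (IsCyclic.mulAutMulEquiv ↥Qh).isCyclic.mpr inferInstance
  set C := centralizer (Qh : Set H) with hC
  have hCN : C ≤ N := centralizer_le_normalizer _
  have hCodd : Odd (Nat.card ↥C) := by
    rw [← Nat.not_even_iff_odd, even_iff_two_dvd]
    intro hd
    obtain ⟨t, ht⟩ := exists_prime_orderOf_dvd_card' 2 hd
    rw [← orderOf_coe] at ht
    exact ha1 (involution_free hO hI (hQodd a ha) ht (t.2 a ha))
  have hYN : ∀ n ∈ N, n ∈ Y → n = 1 := by
    intro n hn hnY
    by_contra hn1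
    refine ha1 (hfree a (hQodd a ha) n hnY hn1 ?_)
    have hmem : ⁅n, a⁆ ∈ Qh ⊓ Y := by
      refine ⟨?_, ?_⟩
      · exact Qh.mul_mem ((mem_normalizer_iff.mp hn a).mp ha) (Qh.inv_mem ha)
      · rw [commutatorElement_def, mul_assoc n a, mul_assoc n]
        exact Y.mul_mem hnY (by simpa [mul_assoc] using hYn.conj_mem _ (Y.inv_mem hnY) a)
    rw [hQY, mem_bot] at hmem
    exact (commutatorElement_eq_one_iff_mul_comm.mp hmem).symm
  set K := Y ⊔ C with hK
  have hKn : K.Normal := by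
    rw [← normalizer_eq_top_iff, eq_top_iff, ← hNY]
    refine sup_le (le_sup_left.trans le_normalizer) ?_
    intro n hn
    have key : ∀ n ∈ N, ∀ v ∈ K, n * v * n⁻¹ ∈ K := by
      intro n hn v hv
      have hle : K.map (MulAut.conj n).toMonoidHom ≤ K := by
        rw [hK, Subgroup.map_sup]
        refine sup_le ?_ ?_
        · rintro _ ⟨w, hw, rfl⟩
          exact mem_sup_left (hYn.conj_mem w hw n)
        · rintro _ ⟨w, hw, rfl⟩
          refine mem_sup_right fun b hb => ?_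
          have hb' : n⁻¹ * b * n ∈ Qh := (mem_normalizer_iff''.mp hn b).mp hb
          have h1 := hw _ hb'
          calc b * (MulAut.conj n).toMonoidHom w = n * ((n⁻¹ * b * n) * w) * n⁻¹ := by simp [mul_assoc]
            _ = n * (w * (n⁻¹ * b * n)) * n⁻¹ := by rw [h1]
            _ = (MulAut.conj n).toMonoidHom w * b := by simp [mul_assoc]
      exact hle ⟨v, hv, rfl⟩
    rw [mem_normalizer_iff]
    intro v
    refine ⟨key n hn v, fun h => ?_⟩
    simpa [mul_assoc] using key n⁻¹ (N.inv_mem hn) _ h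
  haveI := hKn
  let φ := QuotientGroup.mk' K
  have hcycK : IsCyclic (H ⧸ K) := by
    let g : ↥N →* MulAut ↥Qh := Qh.normalizerMonoidHom
    haveI := hcycAut
    haveI hrg : IsCyclic ↥g.range := inferInstance
    let ψ : ↥N →* H ⧸ K := φ.comp N.subtype
    have hψ : Function.Surjective ψ := by
      intro c
      obtain ⟨h, rfl⟩ := QuotientGroup.mk'_surjective K c
      have hh : h ∈ Y ⊔ N := hNY ▸ mem_top h
      rw [← SetLike.mem_coe, Subgroup.normal_mul] at hh
      obtain ⟨v, hv, n, hn, rfl⟩ := hh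
      refine ⟨⟨n, hn⟩, ?_⟩
      change φ n = φ (v * n)
      rw [map_mul, QuotientGroup.mk'_apply K v, (QuotientGroup.eq_one_iff v).mpr (mem_sup_left hv), one_mul]
    have hker : g.ker ≤ ψ.ker := by
      rw [normalizerMonoidHom_ker]
      intro n hn
      rw [MonoidHom.mem_ker]
      exact (QuotientGroup.eq_one_iff _).mpr (mem_sup_right hn)
    let lift : ↥g.range →* H ⧸ K := (QuotientGroup.lift g.ker ψ hker).comp (QuotientGroup.quotientKerEquivRange g).symm.toMonoidHom
    refine isCyclic_of_surjective lift ?_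
    intro c
    obtain ⟨n, rfl⟩ := hψ c
    exact ⟨QuotientGroup.quotientKerEquivRange g (QuotientGroup.mk n), by simp [lift]⟩
  -- the subgroup generated by `X` and `Y`
  set L := X ⊔ K with hL
  haveI hLn : L.Normal := by
    have : L = (X.map φ).comap φ := by rw [comap_map_eq, QuotientGroup.ker_mk']
    rw [this]
    refine Subgroup.Normal.comap ⟨fun u hu g => ?_⟩ φ
    haveI := hcycK
    rw [(IsCyclic.commutative (α := H ⧸ K)).is_comm.comm g u, mul_inv_cancel_right]
    exact hu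
  have hcardK : Nat.card ↥K ∣ Nat.card ↥C * Nat.card ↥Y := by
    rw [hK, mul_comm]
    exact Cfsg.Agent.Solv.card_sup_dvd Y C (normalizer_eq_top (H := Y) ▸ le_top)
  have hXY : X ⊔ Y = L := by
    apply le_antisymm (sup_le le_sup_left (le_sup_left.trans le_sup_right))
    apply relIndex_eq_one.mp
    obtain ⟨i, hi⟩ : ∃ i, (X ⊔ Y).relIndex L = 2 ^ i := by
      have h1 : (X ⊔ Y).relIndex L ∣ 2 ^ e₀ := by
        rw [← he₀]
        exact (relIndex_dvd_index_of_le (sup_le le_sup_left (le_sup_left.trans le_sup_right))).trans (index_dvd_of_le le_sup_left)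
      obtain ⟨i, -, hi⟩ := (Nat.dvd_prime_pow Nat.prime_two).mp h1
      exact ⟨i, hi⟩
    rcases i with _ | i
    · rw [hi, pow_zero]
    exfalso
    -- the index divides an odd number
    have hodd : Odd (Nat.card ↥X * Nat.card ↥C) := hXodd.mul hCodd
    have hcardL : Nat.card ↥L ∣ Nat.card ↥X * (Nat.card ↥C * Nat.card ↥Y) := by
      refine (Cfsg.Agent.Solv.card_sup_dvd K X (normalizer_eq_top (H := K) ▸ le_top) |>.trans ?_ : Nat.card ↥(K ⊔ X) ∣ _) |> fun h => by
        rwa [sup_comm] at h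
      rw [mul_comm (Nat.card ↥X)]
      exact Nat.mul_dvd_mul_right hcardK _
    have hY' : Nat.card ↥Y ∣ Nat.card ↥(X ⊔ Y) := card_dvd_of_le le_sup_right
    have hlag := relIndex_mul_relIndex (⊥ : Subgroup H) (X ⊔ Y) L bot_le (sup_le le_sup_left (le_sup_left.trans le_sup_right))
    rw [relIndex_bot_left, relIndex_bot_left] at hlag
    have hd : (X ⊔ Y).relIndex L * Nat.card ↥Y ∣ (Nat.card ↥X * Nat.card ↥C) * Nat.card ↥Y := by
      refine (Nat.mul_dvd_mul_left _ hY').trans ?_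
      rw [mul_comm ((X ⊔ Y).relIndex L), hlag, mul_assoc]
      exact hcardL
    have hd2 : 2 ∣ Nat.card ↥X * Nat.card ↥C :=
      (hi ▸ dvd_pow_self 2 (Nat.succ_ne_zero i)).trans (Nat.dvd_of_mul_dvd_mul_right Nat.card_pos hd)
    exact (Nat.not_even_iff_odd.mpr hodd) (even_iff_two_dvd.mpr hd2)
  refine ⟨L, hLn, hXY, fun hn => ⟨?_, ?_⟩⟩
  · haveI := hcycK
    exact isCyclic_of_surjective (QuotientGroup.map K L (MonoidHom.id H) le_sup_right) (fun c => by
      obtain ⟨h, rfl⟩ := QuotientGroup.mk'_surjective L c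
      exact ⟨QuotientGroup.mk h, rfl⟩)
  · have h1 : L.index ∣ 2 ^ e₀ := he₀ ▸ index_dvd_of_le le_sup_left
    obtain ⟨i, -, hi⟩ := (Nat.dvd_prime_pow Nat.prime_two).mp h1
    exact IsPGroup.of_card (by rw [← index_eq_card, hi])

end Cfsg.Agent.S3215
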