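import Cfsg.Statements.S3224
import Cfsg.Agent.Lib.Solv.MaxClassTwo
import Cfsg.Agent.Lib.Classical.DihedralRecog

set_option autoImplicit false
open Cfsg
open scoped commutatorElement

namespace Cfsg.Agent.S3224

/-- A finite 2-group containing an involution whose centralizer has order 4 is dihedral, quasi-dihedral (semidihedral), or of order 4. -/
theorem result {S : Type*} [Group S] [Finite S] (hS : IsPGroup 2 S)
    (x : S) (hx : orderOf x = 2) (hC : Nat.card ↥(Subgroup.centralizer ({x} : Set S)) = 4) :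
    (∃ n : ℕ, Nonempty (S ≃* DihedralGroup n)) ∨ Cfsg.IsQuasiDihedral S ∨ Nat.card S = 4 := by
  classical
  haveI : Fact (Nat.Prime 2) := ⟨Nat.prime_two⟩
  obtain ⟨n, hn⟩ := IsPGroup.iff_card.mp hS
  set C := Subgroup.centralizer ({x} : Set S) with hCdef
  by_cases hCt : C = ⊤
  · right; right
    rw [hCt, Subgroup.card_top] at hC
    exact hC
  have hCdvd : 4 ∣ Nat.card S := hC ▸ Subgroup.card_subgroup_dvd_card C
  have h8 : 8 ≤ Nat.card S := by
    have h1 := C.card_mul_index
    have h2 : C.index ≠ 1 := fun h => hCt (Subgroup.index_eq_one.mp h)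
    have h3 : C.index ≠ 0 := Subgroup.index_ne_zero_of_finite
    rw [hC] at h1
    omega
  have hn3 : 3 ≤ n := by
    by_contra h
    have : 2 ^ n ≤ 2 ^ 2 := Nat.pow_le_pow_right two_pos (by omega)
    omega
  have hxC : ∀ a : S, a ∈ C ↔ a * x = x * a := fun a => by
    rw [hCdef, Subgroup.mem_centralizer_singleton_iff]
  have hna : ∃ a b : S, a * b ≠ b * a := by
    by_contra h
    simp only [ne_eq, not_exists, not_not] at h
    exact hCt ((Subgroup.eq_top_iff' C).mpr fun a => (hxC a).mpr (h a x))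
  -- the derived group is large
  let φ : S → ↥(commutator S) := fun g => ⟨⁅g, x⁆, Subgroup.commutator_mem_commutator (Subgroup.mem_top g) (Subgroup.mem_top x)⟩
  have hfib : ∀ g : S, (Function.invFun φ (φ g))⁻¹ * g ∈ C := by
    intro g
    have h1 : φ (Function.invFun φ (φ g)) = φ g := Function.invFun_eq ⟨g, rfl⟩
    set a := Function.invFun φ (φ g)
    have h2 : a * x * a⁻¹ * x⁻¹ = g * x * g⁻¹ * x⁻¹ := by
      have := congrArg Subtype.val h1
      simpa only [φ, commutatorElement_def] using this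
    have h3 : a * x * a⁻¹ = g * x * g⁻¹ := mul_right_cancel h2
    rw [hxC]
    calc a⁻¹ * g * x = a⁻¹ * (g * x * g⁻¹) * g := by group
      _ = a⁻¹ * (a * x * a⁻¹) * g := by rw [h3]
      _ = x * (a⁻¹ * g) := by group
  have hle : Nat.card S ≤ Nat.card (↥(commutator S) × ↥C) := by
    refine Nat.card_le_card_of_injective (fun g => (φ g, ⟨_, hfib g⟩)) ?_
    intro g g' h
    simp only [Prod.mk.injEq, Subtype.mk.injEq] at h
    obtain ⟨h1, h2⟩ := h
    rw [show φ g = φ g' from h1] at h2
    exact mul_left_cancel h2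
  rw [Nat.card_prod, hC] at hle
  have h4 : (commutator S).index = 4 := by
    have h1 := (commutator S).card_mul_index
    have hle4 : (commutator S).index ≤ 4 := by
      by_contra h
      have : Nat.card ↥(commutator S) * 5 ≤ Nat.card ↥(commutator S) * (commutator S).index :=
        Nat.mul_le_mul_left _ (by omega)
      omega
    have hnc := Cfsg.Agent.Solv.MaxClass.noncyclic_abelianization hS hna
    obtain ⟨k, -, hk⟩ := (Nat.dvd_prime_pow Nat.prime_two).mp
      (hn ▸ Subgroup.index_dvd_card (commutator S))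
    have hk2 : 2 ≤ k := by
      by_contra h
      apply hnc
      interval_cases k
      · haveI : Subsingleton (S ⧸ commutator S) :=
          (Nat.card_eq_one_iff_unique.mp ((Subgroup.index_eq_card _).symm.trans (by simpa using hk))).1
        infer_instance
      · exact isCyclic_of_prime_card (p := 2) ((Subgroup.index_eq_card _).symm.trans (by simpa using hk))
    have : 2 ^ 2 ≤ 2 ^ k := Nat.pow_le_pow_right two_pos hk2
    omega
  obtain ⟨c, g, hc, hg, hZ, -, hinv, hsq⟩ := Cfsg.Agent.Solv.MaxClass.structure_two hn3 hn h4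
  obtain ⟨m, rfl⟩ : ∃ m, n = m + 3 := ⟨n - 3, by omega⟩
  rw [show m + 3 - 1 = m + 2 from rfl] at hc
  rw [show m + 3 - 2 = m + 1 from rfl] at hZ
  set z := c ^ 2 ^ (m + 1) with hz
  have hzo : z * z = 1 := by
    rw [hz, ← pow_add, ← two_mul, ← pow_succ', ← hc, pow_orderOf_eq_one]
  have hci : (Subgroup.zpowers c).index = 2 := by
    have h1 := (Subgroup.zpowers c).card_mul_index
    rw [hn, Nat.card_zpowers, hc, pow_succ _ (m + 2)] at h1
    exact Nat.eq_of_mul_eq_mul_left (pow_pos two_pos _) h1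
  haveI hcn : (Subgroup.zpowers c).Normal := Subgroup.normal_of_index_eq_two hci
  have hx1 : x * x = 1 := by rw [← pow_two, ← hx, pow_orderOf_eq_one]
  have hxi : x⁻¹ = x := inv_eq_of_mul_eq_one_right hx1
  have hxc : x ∉ Subgroup.zpowers c := by
    intro hxc
    have hle2 : Subgroup.zpowers c ≤ C := by
      rw [Subgroup.zpowers_le, hxC]
      obtain ⟨i, rfl⟩ := Subgroup.mem_zpowers_iff.mp hxc
      exact ((Commute.refl c).zpow_right i).eq
    have h1 := Subgroup.card_le_of_le hle2
    rw [hC, Nat.card_zpowers, hc] at h1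
    have h5 : m = 0 := by
      by_contra h
      have : 2 ^ 3 ≤ 2 ^ (m + 2) := Nat.pow_le_pow_right two_pos (by omega)
      omega
    subst h5
    obtain ⟨i, hi⟩ := Subgroup.mem_zpowers_iff.mp hxc
    have hxz : x ∈ Subgroup.center S := by
      rw [hZ, Subgroup.mem_zpowers_iff]
      have h4' : ((4 : ℕ) : ℤ) ∣ 2 * i := by
        have h6 : c ^ (2 * i) = 1 := by rw [two_mul, zpow_add, hi, hx1]
        have := orderOf_dvd_iff_zpow_eq_one.mpr h6
        rw [hc] at this
        simpa using this
      obtain ⟨j, hj⟩ := h4'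
      refine ⟨j, ?_⟩
      rw [hz, ← zpow_natCast, ← zpow_mul, ← hi]
      congr 1
      push_cast
      omega
    exact hCt ((Subgroup.eq_top_iff' C).mpr fun a => (hxC a).mpr (Subgroup.mem_center_iff.mp hxz a))
  obtain ⟨i, hi⟩ : ∃ i : ℤ, c ^ i = g⁻¹ * x :=
    Subgroup.mem_zpowers_iff.mp ((Subgroup.mul_mem_iff_of_index_two hci).mpr
      ⟨fun h => absurd ((Subgroup.inv_mem_iff _).mp h) hg, fun h => absurd h hxc⟩)
  have hxg : x * c * x⁻¹ = g * c * g⁻¹ := by
    rw [show x = g * c ^ i by rw [hi]; group]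
    group
  rw [← hxg] at hinv
  have hcases : x * c * x⁻¹ = c⁻¹ ∨ x * c * x⁻¹ = z * c⁻¹ := by
    rw [hZ, Subgroup.mem_zpowers_iff] at hinv
    obtain ⟨j, hj⟩ := hinv
    rcases Int.even_or_odd j with ⟨l, hl⟩ | ⟨l, hl⟩
    · left
      rw [hl, zpow_add, ← (Commute.refl z).mul_zpow, hzo, one_zpow] at hj
      exact eq_inv_of_mul_eq_one_left hj.symm
    · right
      rw [hl, zpow_add, two_mul, zpow_add, ← (Commute.refl z).mul_zpow, hzo, one_zpow, one_mul,
        zpow_one] at hj
      rw [hj]; group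
  rcases hcases with hcase | hcase
  · left
    refine ⟨Nat.card ↥(Subgroup.zpowers c), Cfsg.Agent.Classical.nonempty_dihedral (Subgroup.zpowers c).subtype
      (Subgroup.subtype_injective _) x hx1 (fun a ha => hxc (ha ▸ a.2)) ?_ ?_⟩
    · rintro ⟨a, ha⟩
      obtain ⟨k, rfl⟩ := Subgroup.mem_zpowers_iff.mp ha
      show x * c ^ k * x = (c ^ k)⁻¹
      have := conj_zpow (a := x) (b := c) (i := k)
      rw [hcase, inv_zpow, hxi] at this
      exact this.symm
    · intro a
      by_cases ha : a ∈ Subgroup.zpowers c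
      · exact ⟨⟨a, ha⟩, Or.inl rfl⟩
      · refine ⟨⟨a * x, (Subgroup.mul_mem_iff_of_index_two hci).mpr
          ⟨fun h => absurd h ha, fun h => absurd h hxc⟩⟩, Or.inr ?_⟩
        show a = a * x * x
        rw [mul_assoc, hx1, mul_one]
  · right; left
    rcases Nat.eq_zero_or_pos m with rfl | hm
    · exfalso
      have h1 : x * c * x⁻¹ = c := by
        rw [hcase, hz, zero_add, pow_one, pow_two, mul_inv_cancel_right]
      have hle2 : Subgroup.zpowers c ≤ C := by
        rw [Subgroup.zpowers_le, hxC]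
        calc c * x = x * c * x⁻¹ * x := by rw [h1]
          _ = x * c := by group
      have hxC' : x ∈ C := (hxC x).mpr rfl
      have : Subgroup.zpowers c = C := Subgroup.eq_of_le_of_card_ge hle2 (by
        rw [hC, Nat.card_zpowers, hc]; norm_num)
      exact hxc (this ▸ hxC')
    · refine ⟨m + 2, by omega, by rw [hn], c, x, hc, hx, ?_⟩
      rw [hcase, hz, show m + 2 - 1 = m + 1 from rfl, pow_sub c (Nat.one_le_two_pow), pow_one]

end Cfsg.Agent.S3224
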