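import Cfsg.Statements.S3225
import Cfsg.Agent.Lib.Fusion.TransferControl

set_option autoImplicit false
open Cfsg

namespace Cfsg.Agent.S3225

/-- Let G be a finite group of even order with no subgroup of index 2, S a Sylow 2-subgroup of G and M a subgroup of index 2 in S such that, for some n ≥ 1, every element of S outside M has order greater than 2^(n−1). Then every element of S of order 2ⁿ is conjugate in G to an element of M. -/
theorem result {G : Type*} [Group G] [Finite G] (hev : Even (Nat.card G))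
    (hG : ∀ H : Subgroup G, H.index ≠ 2) (S : Sylow 2 G) (M : Subgroup G) (hMS : M ≤ (S : Subgroup G)) (hM : M.relIndex (S : Subgroup G) = 2)
    (n : ℕ) (hn : 1 ≤ n) (hord : ∀ y ∈ (S : Subgroup G), y ∉ M → 2 ^ (n - 1) < orderOf y)
    (x : G) (hx : x ∈ (S : Subgroup G)) (hxn : orderOf x = 2 ^ n) :
    ∃ g : G, g * x * g⁻¹ ∈ M := by
  classical
  by_contra hcon
  push_neg at hcon
  let N : Subgroup (S : Subgroup G) := M.subgroupOf S
  have hN : N.index = 2 := hM
  have : N.Normal := Subgroup.normal_of_index_eq_two hN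
  have hc : Nat.card ((S : Subgroup G) ⧸ N) = 2 := hN
  have : IsCyclic ((S : Subgroup G) ⧸ N) := isCyclic_of_prime_card hc
  letI : CommGroup ((S : Subgroup G) ⧸ N) := IsCyclic.commGroup
  let φ : (S : Subgroup G) →* (S : Subgroup G) ⧸ N := QuotientGroup.mk' N
  have hsq : ∀ a : (S : Subgroup G) ⧸ N, a ^ 2 = 1 := fun a => (congrArg (a ^ ·) hc.symm).trans pow_card_eq_one'
  have heq : ∀ a b : (S : Subgroup G) ⧸ N, a ≠ 1 → b ≠ 1 → a = b := fun a b ha hb => by
    obtain ⟨u, v, huv, h⟩ := Nat.card_eq_two_iff.1 hc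
    have : ∀ c : (S : Subgroup G) ⧸ N, c = u ∨ c = v := fun c => by
      have : c ∈ ({u, v} : Set _) := h ▸ Set.mem_univ c
      simpa using this
    rcases this 1 with h1 | h1 <;> rcases this a with rfl | rfl <;> rcases this b with rfl | rfl <;> first | rfl | exact absurd h1.symm ha | exact absurd h1.symm hb
  have hout : ∀ (y : G) (hy : y ∈ (S : Subgroup G)), y ∉ M → φ ⟨y, hy⟩ ≠ 1 := fun y hy hyM h =>
    hyM (Subgroup.mem_subgroupOf.1 ((QuotientGroup.eq_one_iff _).1 h))
  have hxM : x ∉ M := by simpa using hcon 1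
  have h1 : φ.transfer ((⟨x, hx⟩ : (S : Subgroup G)) : G) = φ ⟨x, hx⟩ ^ (S : Subgroup G).index :=
    Cfsg.Agent.Fusion.TransferControl.transfer_eq_pow_index φ ⟨x, hx⟩ fun k a ha => by
      rcases Nat.even_or_odd k with ⟨j, hj⟩ | ⟨j, hj⟩
      · conv_rhs => rw [hj, ← two_mul, pow_mul, hsq, one_pow]
        refine (QuotientGroup.eq_one_iff _).2 (Subgroup.mem_subgroupOf.2 ?_)
        by_contra hM'
        have hlt : 2 ^ (n - 1) < orderOf (a⁻¹ * x ^ (2 * j) * a) := by rw [two_mul, ← hj]; exact hord _ ha hM'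
        rw [show a⁻¹ * x ^ (2 * j) * a = MulAut.conj a⁻¹ (x ^ (2 * j)) by simp, MulEquiv.orderOf_eq, orderOf_pow, hxn] at hlt
        have h2 : 2 ≤ Nat.gcd (2 ^ n) (2 * j) :=
          Nat.le_of_dvd (Nat.gcd_pos_of_pos_left _ (by positivity)) (Nat.dvd_gcd (dvd_pow_self 2 (by omega)) (dvd_mul_right 2 j))
        have h3 : 2 ^ n / Nat.gcd (2 ^ n) (2 * j) ≤ 2 ^ n / 2 := Nat.div_le_div_left h2 (by norm_num)
        have h4 : 2 ^ n / 2 = 2 ^ (n - 1) := by
          rw [Nat.div_eq_iff_eq_mul_left (by norm_num) (dvd_pow_self 2 (by omega)), ← pow_succ]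
          congr 1; omega
        omega
      · have hk : (φ ⟨x, hx⟩) ^ k = φ ⟨x, hx⟩ := by rw [hj, pow_succ, pow_mul, hsq, one_pow, one_mul]
        rw [hk]
        refine heq _ _ (hout _ _ fun hM' => ?_) (hout _ _ hxM)
        have hcop : Nat.Coprime k (orderOf x) := by
          rw [hxn]; exact Nat.Coprime.pow_right _ ((Nat.prime_two.coprime_iff_not_dvd.2 (by omega)).symm)
        obtain ⟨l, hl⟩ := Nat.exists_mul_mod_eq_one_of_coprime hcop (by
          rw [hxn]; exact Nat.one_lt_two_pow (by omega))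
        refine hcon a⁻¹ ?_
        have hp : (x ^ k) ^ l = x := by rw [← pow_mul, ← pow_mod_orderOf, hl.2, pow_one]
        have := pow_mem hM' l
        rw [show a⁻¹ * x ^ k * a = MulAut.conj a⁻¹ (x ^ k) by simp, ← map_pow, hp] at this
        simpa using this
  have h2 : φ.transfer x = 1 := by
    by_contra h
    refine hG φ.transfer.ker ?_
    rw [Subgroup.index_ker]
    have hd := Subgroup.card_subgroup_dvd_card φ.transfer.range
    rw [hc] at hd
    rcases (Nat.dvd_prime Nat.prime_two).1 hd with h' | h'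
    · exact absurd (Subgroup.mem_bot.1 (Subgroup.card_eq_one.1 h' ▸ ⟨x, rfl⟩)) h
    · exact h'
  refine hout x hx hxM (Cfsg.Agent.Fusion.TransferControl.eq_one_of_pow_eq_one ?_ (h1.symm.trans h2) (hsq _))
  exact (Nat.prime_two.coprime_iff_not_dvd.2 S.not_dvd_index).symm

end Cfsg.Agent.S3225
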