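import Cfsg.Statements.S3246
import Cfsg.Agent.Lib.Local.ConstrainedLocal
import Cfsg.Agent.Lib.Solv.ZJApps
import Cfsg.Agent.Lib.Local.PGroup
import Cfsg.Agent.Lib.Perm.Fitting
-- import your own Cfsg.Agent.* helpers here

set_option autoImplicit false
open Cfsg

namespace Cfsg.Agent.S3246

open Subgroup in
theorem kill {G : Type*} [Group G] [Finite G] {M X R : Subgroup G} (hc : Cfsg.IsPConstrained 2 ↥M)
    (hO : Cfsg.oddCore ↥M = ⊥) (hX : X ≤ M) (hodd : Odd (Nat.card ↥X)) (hR : IsPGroup 2 ↥R) (hRM : R ≤ M)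
    (hRX : R ≤ normalizer (X : Set G))
    (hmax : ∀ T : Subgroup G, T ≤ M → IsPGroup 2 ↥T → R ≤ T → R.relIndex T ≤ 2) : X = ⊥ := by
  have hC := Cfsg.Agent.Solv.ZJ.centralizer_pCore_le_of_constrained hc hO
  haveI := Cfsg.Agent.Perm.pCore_normal' (G := ↥M) 2
  obtain ⟨Q, hQ⟩ : ∃ Q, Q = (Cfsg.pCore 2 ↥M).map M.subtype := ⟨_, rfl⟩
  have hQ2 : IsPGroup 2 ↥Q := hQ ▸ (Cfsg.Agent.Perm.pCore_isPGroup' 2).map M.subtype
  have hQM : Q ≤ M := hQ ▸ map_subtype_le _
  have hQn : ∀ m ∈ M, ∀ q ∈ Q, m * q * m⁻¹ ∈ Q := by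
    intro m hm q hq
    rw [hQ] at hq ⊢
    obtain ⟨q', hq', rfl⟩ := hq
    exact ⟨⟨m, hm⟩ * q' * ⟨m, hm⟩⁻¹, Normal.conj_mem inferInstance q' hq' ⟨m, hm⟩, rfl⟩
  have hRQ : R ≤ normalizer (Q : Set G) := fun r hr => mem_normalizer_iff.mpr fun y =>
    ⟨fun hy => hQn r (hRM hr) y hy, fun hy => by simpa [mul_assoc] using hQn r⁻¹ (inv_mem (hRM hr)) _ hy⟩
  have hT : IsPGroup 2 ↥(R ⊔ Q) := hR.to_sup_of_normal_right' hQ2 hRQ
  have h2 : R.relIndex Q ≤ 2 := (relIndex_le_of_le_right le_sup_right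
    (index_ne_zero_of_finite (H := R.subgroupOf (R ⊔ Q)))).trans (hmax _ (sup_le hRM hQM) hT le_sup_left)
  have hdis : ∀ y ∈ X, y ∈ Q → y = 1 := by
    intro y hyX hyQ
    obtain ⟨k, hk⟩ := hQ2 ⟨y, hyQ⟩
    have h1 : orderOf y ∣ 2 ^ k := orderOf_dvd_of_pow_eq_one (congrArg Subtype.val hk)
    have h3 : orderOf y ∣ Nat.card ↥X := Subgroup.orderOf_dvd_natCard X hyX
    exact orderOf_eq_one_iff.mp (Nat.dvd_one.mp ((Nat.Coprime.pow_left k hodd.coprime_two_left) ▸ Nat.dvd_gcd h1 h3))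
  have fixR : ∀ x ∈ X, ∀ r ∈ Q, r ∈ R → x * r * x⁻¹ = r := by
    intro x hx r hrQ hrR
    have e : x * r * x⁻¹ * r⁻¹ = 1 := hdis _ (by
      have := mul_mem hx ((mem_normalizer_iff.mp (hRX hrR) x⁻¹).mp (inv_mem hx))
      simpa [mul_assoc] using this) (mul_mem (hQn x (hX hx) r hrQ) (inv_mem hrQ))
    exact mul_inv_eq_one.mp e
  have fixQ : ∀ x ∈ X, ∀ q ∈ Q, x * q * x⁻¹ = q := by
    intro x hx q hq
    by_cases hqR : q ∈ R
    · exact fixR x hx q hq hqR
    have hidx : (R.subgroupOf Q).index = 2 := by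
      refine le_antisymm h2 ?_
      have h1 : (R.subgroupOf Q).index ≠ 1 := fun e => hqR (subgroupOf_eq_top.mp (index_eq_one.mp e) hq)
      have h0 : (R.subgroupOf Q).index ≠ 0 := index_ne_zero_of_finite
      omega
    have hout : x * q * x⁻¹ ∉ R := fun h => hqR (by
      have e := fixR x hx _ (hQn x (hX hx) q hq) h
      have e' : x * q * x⁻¹ = q := mul_left_cancel (mul_right_cancel e)
      rwa [e'] at h)
    obtain ⟨c, hcQ, hcR, hc'⟩ : ∃ c ∈ Q, c ∈ R ∧ x * q * x⁻¹ = q * c := by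
      refine ⟨q⁻¹ * (x * q * x⁻¹), mul_mem (inv_mem hq) (hQn x (hX hx) q hq), ?_, by simp [mul_assoc]⟩
      exact (Subgroup.mul_mem_iff_of_index_two hidx (a := (⟨q, hq⟩ : ↥Q)⁻¹)
        (b := ⟨_, hQn x (hX hx) q hq⟩)).mpr (iff_of_false (fun h => hqR (Subgroup.mem_subgroupOf.mp (inv_mem_iff.mp h))) hout)
    have hit : ∀ k : ℕ, x ^ k * q * (x ^ k)⁻¹ = q * c ^ k := by
      intro k
      induction k with
      | zero => simp
      | succ k ih =>
        have hk : x * c ^ k * x⁻¹ = c ^ k := fixR x hx _ (pow_mem hcQ k) (pow_mem hcR k)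
        calc x ^ (k + 1) * q * (x ^ (k + 1))⁻¹ = x * (x ^ k * q * (x ^ k)⁻¹) * x⁻¹ := by
              rw [pow_succ', mul_inv_rev]; simp [mul_assoc]
          _ = (x * q * x⁻¹) * (x * c ^ k * x⁻¹) := by rw [ih]; simp [mul_assoc]
          _ = q * c ^ (k + 1) := by rw [hk, hc', pow_succ', mul_assoc]
    have hc1 : c ^ Nat.card ↥X = 1 := by
      have hx1 : x ^ Nat.card ↥X = 1 := orderOf_dvd_iff_pow_eq_one.mp (Subgroup.orderOf_dvd_natCard X hx)
      have := hit (Nat.card ↥X)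
      rw [hx1, inv_one, mul_one, one_mul] at this
      exact left_eq_mul.mp this
    obtain ⟨k, hk⟩ := hQ2 ⟨c, hcQ⟩
    have h1 : orderOf c ∣ 2 ^ k := orderOf_dvd_of_pow_eq_one (congrArg Subtype.val hk)
    have h3 : orderOf c ∣ Nat.card ↥X := orderOf_dvd_of_pow_eq_one hc1
    have : c = 1 := orderOf_eq_one_iff.mp
      (Nat.dvd_one.mp ((Nat.Coprime.pow_left k hodd.coprime_two_left) ▸ Nat.dvd_gcd h1 h3))
    rw [hc', this, mul_one]
  refine (eq_bot_iff_forall _).mpr fun x hx => hdis x hx ?_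
  rw [hQ]
  refine ⟨⟨x, hX hx⟩, hC (mem_centralizer_iff.mpr fun q hq => Subtype.ext ?_), rfl⟩
  have hqQ : (q : G) ∈ Q := hQ ▸ ⟨q, hq, rfl⟩
  have := fixQ x hx _ hqQ
  exact (mul_inv_eq_iff_eq_mul.mp this).symm

open Subgroup in
theorem inverts {G : Type*} [Group G] [Finite G] {X : Subgroup G} {z : G} (hz : z * z = 1)
    (hn : z ∈ normalizer (X : Set G)) (hC : X ⊓ centralizer ({z} : Set G) = ⊥) {y : G} (hy : y ∈ X) :
    z * y * z = y⁻¹ := by
  have hzi : z⁻¹ = z := inv_eq_of_mul_eq_one_right hz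
  let f : ↥X → ↥X := fun x => ⟨(x : G)⁻¹ * (z * x * z), mul_mem (inv_mem x.2)
    (by have h := (mem_normalizer_iff.mp hn (x : G)).mp x.2; rwa [hzi] at h)⟩
  have hf : Function.Injective f := by
    intro a b h
    have h' : (a : G)⁻¹ * (z * a * z) = (b : G)⁻¹ * (z * b * z) := congrArg Subtype.val h
    have hm : (b : G) * (a : G)⁻¹ ∈ X ⊓ centralizer ({z} : Set G) := by
      refine mem_inf.mpr ⟨mul_mem b.2 (inv_mem a.2), mem_centralizer_singleton_iff.mpr ?_⟩
      have h2 := congrArg (fun w => (b : G) * w * (z * (a : G)⁻¹)) h'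
      simp only [mul_assoc, mul_inv_cancel_left] at h2
      simpa [mul_assoc, ← mul_assoc z z, hz] using h2
    rw [hC, mem_bot, mul_inv_eq_one] at hm
    exact (Subtype.ext hm).symm
  obtain ⟨x, hx⟩ := (Finite.injective_iff_surjective.mp hf) ⟨y, hy⟩
  have e : y = (x : G)⁻¹ * (z * x * z) := (congrArg Subtype.val hx).symm
  rw [e]
  simp [mul_assoc, hzi, hz]

/-- Let G be a finite group whose Sylow 2-subgroup S has a self-centralizing normal subgroup of rank at least 3. Suppose that either every maximal 2-local subgroup of G is 2-constrained with no nontrivial normal subgroup of odd order, or the centralizer of every involution of G is 2-constrained with no nontrivial normal subgroup of odd order. Then S normalizes no nontrivial subgroup of G of odd order and every 2-local subgroup of G is 2-constrained. -/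
theorem result {G : Type*} [Group G] [Finite G]
    (S : Sylow 2 G) (A : Subgroup G) (hA : Cfsg.IsSCN (S : Subgroup G) A) (hA3 : ¬ Cfsg.PRankLE 2 2 ↥A)
    (h : (∀ M : Subgroup G, Cfsg.IsMaximalTwoLocal M → Cfsg.IsPConstrained 2 ↥M ∧ Cfsg.oddCore ↥M = ⊥) ∨
      (∀ t : G, orderOf t = 2 → Cfsg.IsPConstrained 2 ↥(Subgroup.centralizer ({t} : Set G)) ∧
        Cfsg.oddCore ↥(Subgroup.centralizer ({t} : Set G)) = ⊥)) :
    (∀ X : Subgroup G, Odd (Nat.card ↥X) → (S : Subgroup G) ≤ Subgroup.normalizer (X : Set G) → X = ⊥) ∧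
      (∀ T : Subgroup G, IsPGroup 2 ↥T → T ≠ ⊥ → Cfsg.IsPConstrained 2 ↥(Subgroup.normalizer (T : Set G))) := by
  refine ⟨fun X hX hSX => ?_, fun T hT hT1 => ?_⟩
  swap
  · rcases h with h | h
    · let L : Set (Subgroup G) := {M | Cfsg.IsTwoLocal M}
      obtain ⟨M, hle, hM⟩ := (Set.toFinite L).exists_le_maximal
        (show Subgroup.normalizer (T : Set G) ∈ L from ⟨T, hT, hT1, rfl⟩)
      exact Cfsg.Agent.Local.isPConstrained_normalizer_of_le
        (h M ⟨hM.prop, fun N hN h' => le_antisymm (hM.le_of_ge hN h') h'⟩).1 hT hle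
    · exact Cfsg.Agent.Local.isPConstrained_of_elements (fun x hx => (h x hx).1) hT hT1
  have hmax : ∀ t : G, orderOf t = 2 → ∃ M : Subgroup G, Subgroup.centralizer ({t} : Set G) ≤ M ∧
      Cfsg.IsPConstrained 2 ↥M ∧ Cfsg.oddCore ↥M = ⊥ := by
    intro t ht
    rcases h with h | h
    · let L : Set (Subgroup G) := {M | Cfsg.IsTwoLocal M}
      have hT : IsPGroup 2 ↥(Subgroup.zpowers t) := IsPGroup.of_card (n := 1) (by rw [Nat.card_zpowers, ht, pow_one])
      have hne : Subgroup.zpowers t ≠ ⊥ := Subgroup.zpowers_ne_bot.mpr fun e => by simp [e] at ht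
      obtain ⟨M, hle, hM⟩ := (Set.toFinite L).exists_le_maximal
        (show Subgroup.normalizer (Subgroup.zpowers t : Set G) ∈ L from ⟨_, hT, hne, rfl⟩)
      refine ⟨M, le_trans (fun c hc => ?_) hle, h M ⟨hM.prop, fun N hN h' => le_antisymm (hM.le_of_ge hN h') h'⟩⟩
      rw [Subgroup.mem_centralizer_singleton_iff] at hc
      have key : ∀ k : ℤ, c * t ^ k * c⁻¹ = t ^ k := fun k => by
        rw [(show Commute c t from hc).zpow_right k |>.eq, mul_inv_cancel_right]
      refine Subgroup.mem_normalizer_iff.mpr fun y => ⟨fun ⟨k, hk⟩ => ⟨k, ?_⟩, fun ⟨k, hk⟩ => ⟨k, ?_⟩⟩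
      · subst hk; exact (key k).symm
      · exact mul_left_cancel (mul_right_cancel ((key k).trans hk))
    · exact ⟨_, le_rfl, h t ht⟩
  obtain ⟨hAS, hSA, hCA⟩ := hA
  have hS2 : IsPGroup 2 ↥(S : Subgroup G) := S.isPGroup'
  have hcardT : ∀ T : Subgroup G, IsPGroup 2 ↥T → Nat.card ↥T ≤ Nat.card ↥(S : Subgroup G) := by
    intro T hT
    obtain ⟨P, hP⟩ := hT.exists_le_sylow
    have e := Sylow.card_eq_multiplicity P
    have e' := Sylow.card_eq_multiplicity S
    exact (Subgroup.card_le_of_le hP).trans (le_of_eq (e.trans e'.symm))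
  -- the group of elements of order at most two in A
  have hAc : ∀ a ∈ A, ∀ b ∈ A, a * b = b * a := fun a ha b hb =>
    (Subgroup.mem_centralizer_iff.mp (Subgroup.mem_inf.mp (hCA.symm ▸ ha)).2 b hb).symm
  let W : Subgroup G :=
    { carrier := {a | a ∈ A ∧ a * a = 1}
      one_mem' := ⟨one_mem _, one_mul 1⟩
      mul_mem' := fun {a b} ha hb => ⟨mul_mem ha.1 hb.1, by
        rw [mul_assoc, ← mul_assoc b a b, hAc b hb.1 a ha.1, mul_assoc a b b, hb.2, mul_one, ha.2]⟩
      inv_mem' := fun {a} ha => ⟨inv_mem ha.1, by rw [← mul_inv_rev, ha.2, inv_one]⟩ }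
  have hWS : W.subgroupOf (S : Subgroup G) |>.Normal := ⟨fun w hw s => by
    obtain ⟨h1, h2⟩ := hw
    refine ⟨(Subgroup.mem_normalizer_iff.mp (hSA s.2) _).mp h1, ?_⟩
    simp only [Subgroup.coe_subtype, Subgroup.coe_mul, Subgroup.coe_inv]
    rw [conj_mul]
    rw [show ((w : G) * w) = 1 from h2, mul_one, mul_inv_cancel]⟩
  have hWcard : 2 < Nat.card ↥W := by
    by_contra hle
    refine hA3 fun E hE hc => ?_
    by_contra hb
    have hmap : ∀ e : ↥E, ((e : ↥A) : G) ∈ W := fun e => ⟨(e : ↥A).2, by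
      have h2 := hc e e.2
      have := congrArg Subtype.val h2
      simpa [pow_two] using this⟩
    have hinj : Nat.card ↥E ≤ Nat.card ↥W := Nat.card_le_card_of_injective (fun e => (⟨_, hmap e⟩ : ↥W))
      fun a b h => Subtype.ext (Subtype.ext (congrArg Subtype.val h :))
    exact hb (hinj.trans (by omega))
  obtain ⟨z, hzW, hzC, hz1⟩ : ∃ z ∈ W, (∀ s ∈ (S : Subgroup G), s * z = z * s) ∧ z ≠ 1 := by
    haveI := hWS
    have hne : W.subgroupOf (S : Subgroup G) ≠ ⊥ := fun e => by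
      have hWle : W ≤ (S : Subgroup G) := fun w hw => hAS hw.1
      have hc' := Nat.card_congr (Subgroup.subgroupOfEquivOfLe hWle).toEquiv
      rw [e, Subgroup.card_bot] at hc'
      omega
    obtain ⟨⟨z, hzS⟩, hz, hne1⟩ := (Subgroup.bot_or_exists_ne_one _).resolve_left
      (Cfsg.Agent.Local.inf_center_ne_bot hS2 _ hne)
    exact ⟨z, hz.1, fun s hs => congrArg Subtype.val (Subgroup.mem_center_iff.mp hz.2 ⟨s, hs⟩),
      fun e => hne1 (Subtype.ext e)⟩
  obtain ⟨u, huW, huz, hu1, hus⟩ : ∃ u ∈ W, u ≠ z ∧ u ≠ 1 ∧ ∀ s ∈ (S : Subgroup G), s * u * s⁻¹ = u ∨ s * u * s⁻¹ = u * z := by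
    haveI := hWS
    let Z' : Subgroup ↥(S : Subgroup G) := Subgroup.zpowers ⟨z, hAS hzW.1⟩
    haveI : Z'.Normal := ⟨fun w hw s => by
      obtain ⟨k, rfl⟩ := hw
      have hc : Commute s (⟨z, hAS hzW.1⟩ : ↥(S : Subgroup G)) := Subtype.ext (hzC s s.2)
      show s * _ ^ k * s⁻¹ ∈ Z'
      rw [(hc.zpow_right k).eq, mul_inv_cancel_right]
      exact ⟨k, rfl⟩⟩
    let W' := (W.subgroupOf (S : Subgroup G)).map (QuotientGroup.mk' Z')
    haveI : W'.Normal := hWS.map _ (QuotientGroup.mk'_surjective _)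
    have hz2 : Nat.card ↥Z' ≤ 2 := by
      rw [Nat.card_zpowers]
      exact Nat.le_of_dvd two_pos (orderOf_dvd_of_pow_eq_one (Subtype.ext (by simpa [pow_two] using hzW.2)))
    have hne : W' ≠ ⊥ := fun e => by
      rw [Subgroup.map_eq_bot_iff, QuotientGroup.ker_mk'] at e
      have hWle : W ≤ (S : Subgroup G) := fun w hw => hAS hw.1
      have hc' := Nat.card_congr (Subgroup.subgroupOfEquivOfLe hWle).toEquiv
      have := Subgroup.card_le_of_le e
      omega
    obtain ⟨w, hw, hw1⟩ := (Subgroup.bot_or_exists_ne_one _).resolve_left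
      (Cfsg.Agent.Local.inf_center_ne_bot (hS2.to_quotient Z') W' hne)
    obtain ⟨⟨u, hu, rfl⟩, hwc⟩ := hw
    have hz' : ∀ v : ↥(S : Subgroup G), v ∈ Z' → (v : G) = 1 ∨ (v : G) = z := by
      rintro v ⟨k, rfl⟩
      have hzz : z * z = 1 := hzW.2
      rcases Int.even_or_odd k with ⟨l, rfl⟩ | ⟨l, rfl⟩
      · left; simp [← two_mul, zpow_mul, zpow_two, pow_two, hzz]
      · right; simp [zpow_add, zpow_mul, zpow_two, pow_two, hzz]
    have hun : u ∉ Z' := fun h => hw1 ((QuotientGroup.eq_one_iff _).mpr h)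
    refine ⟨u, hu, fun e => hun ?_, fun e => hun ?_, fun s hs => ?_⟩
    · rw [show u = ⟨z, hAS hzW.1⟩ from Subtype.ext e]; exact Subgroup.mem_zpowers _
    · rw [show u = 1 from Subtype.ext e]; exact one_mem _
    · have hq := Subgroup.mem_center_iff.mp hwc (QuotientGroup.mk' Z' ⟨s, hs⟩)
      have hm : u⁻¹ * ((⟨s, hs⟩ : ↥(S : Subgroup G)) * u * (⟨s, hs⟩ : ↥(S : Subgroup G))⁻¹) ∈ Z' := by
        rw [← QuotientGroup.eq_one_iff, ← QuotientGroup.mk'_apply, map_mul, map_mul, map_mul, map_inv, map_inv, hq]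
        simp
      rcases hz' _ hm with e | e <;> simp only [Subgroup.coe_mul, Subgroup.coe_inv] at e
      · left; exact (inv_mul_eq_one.mp e).symm
      · right; exact inv_mul_eq_iff_eq_mul.mp e
  have hz0 : z * z = 1 := hzW.2
  have hu0 : u * u = 1 := huW.2
  have hzu : z * u = u * z := hAc z hzW.1 u huW.1
  -- fixed points of the three involutions are trivial
  have fpf : ∀ v : G, v ∈ (S : Subgroup G) → v * v = 1 → v ≠ 1 →
      (∀ s ∈ (S : Subgroup G), ∀ t ∈ (S : Subgroup G), s * v ≠ v * s → t * v ≠ v * t → (t⁻¹ * s) * v = v * (t⁻¹ * s)) →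
      X ⊓ Subgroup.centralizer ({v} : Set G) = ⊥ := by
    intro v hvS hv hv1 hpair
    obtain ⟨M, hle, hc, hO⟩ := hmax v (orderOf_eq_prime (by rw [pow_two]; exact hv) hv1)
    obtain ⟨R, hR⟩ : ∃ R, R = (S : Subgroup G) ⊓ Subgroup.centralizer ({v} : Set G) := ⟨_, rfl⟩
    have hR2 : R.relIndex (S : Subgroup G) ≤ 2 := by
      classical
      let f : ↥(S : Subgroup G) ⧸ R.subgroupOf (S : Subgroup G) → Bool := fun q => decide ((q.out : G) * v = v * q.out)
      have hf : Function.Injective f := by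
        intro a b hab
        rw [← QuotientGroup.out_eq' a, ← QuotientGroup.out_eq' b, QuotientGroup.eq, Subgroup.mem_subgroupOf]
        refine hR.ge (Subgroup.mem_inf.mpr ⟨SetLike.coe_mem _, Subgroup.mem_centralizer_singleton_iff.mpr ?_⟩)
        simp only [f, decide_eq_decide] at hab
        simp only [Subgroup.coe_mul, Subgroup.coe_inv]
        by_cases ha : (a.out : G) * v = v * a.out
        · exact ((show Commute (a.out : G) v from ha).inv_left.mul_left (hab.mp ha)).eq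
        · exact hpair _ b.out.2 _ a.out.2 (fun e => ha (hab.mpr e)) ha
      have := Nat.card_le_card_of_injective f hf
      simpa [Subgroup.relIndex, Subgroup.index] using this
    refine kill hc hO (inf_le_right.trans hle) ?_ (hS2.to_le (hR ▸ inf_le_left)) (hR ▸ inf_le_right.trans hle) ?_ ?_
    · exact hX.of_dvd_nat (Subgroup.card_dvd_of_le inf_le_left)
    · intro r hr
      rw [hR] at hr
      obtain ⟨hr1, hr2⟩ := Subgroup.mem_inf.mp hr
      refine Subgroup.mem_normalizer_iff.mpr fun x => ?_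
      simp only [Subgroup.mem_inf]
      refine and_congr (Subgroup.mem_normalizer_iff.mp (hSX hr1) x) ⟨fun hx => mul_mem (mul_mem hr2 hx) (inv_mem hr2),
        fun hx => by simpa [mul_assoc] using mul_mem (mul_mem (inv_mem hr2) hx) hr2⟩
    · intro T hTM hT hRT
      have h1 := Subgroup.relIndex_mul_relIndex ⊥ R T bot_le hRT
      have h2 := Subgroup.relIndex_mul_relIndex ⊥ R (S : Subgroup G) bot_le (hR ▸ inf_le_left)
      rw [Subgroup.relIndex_bot_left, Subgroup.relIndex_bot_left] at h1 h2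
      refine le_trans ?_ hR2
      exact Nat.le_of_mul_le_mul_left (h1.le.trans ((hcardT T hT).trans h2.ge)) Nat.card_pos
  have hpairu : ∀ v : G, (v = u ∨ v = z * u) → ∀ s ∈ (S : Subgroup G), ∀ t ∈ (S : Subgroup G),
      s * v ≠ v * s → t * v ≠ v * t → (t⁻¹ * s) * v = v * (t⁻¹ * s) := by
    intro v hv s hs t ht n1 n2
    have hconj : ∀ s ∈ (S : Subgroup G), s * v * s⁻¹ = v ∨ s * v * s⁻¹ = v * z := by
      intro s hs
      rcases hv with rfl | rfl
      · exact hus s hs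
      · have e : s * (z * u) * s⁻¹ = z * (s * u * s⁻¹) := by rw [← mul_assoc, hzC s hs]; simp [mul_assoc]
        rcases hus s hs with e1 | e1
        · left; rw [e, e1]
        · right; rw [e, e1, mul_assoc]
    have hs' := (hconj s hs).resolve_left fun e => n1 (mul_inv_eq_iff_eq_mul.mp e)
    have ht' := (hconj t ht).resolve_left fun e => n2 (mul_inv_eq_iff_eq_mul.mp e)
    have e := congrArg (fun w => t⁻¹ * w * s) (hs'.trans ht'.symm)
    simpa [mul_assoc] using e
  have hzS := hAS hzW.1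
  have huS := hAS huW.1
  have cz := fpf z hzS hz0 hz1 fun s hs t ht n1 _ => absurd (hzC s hs) n1
  have cu := fpf u huS hu0 hu1 (hpairu u (Or.inl rfl))
  have cw := fpf (z * u) (mul_mem hzS huS) (by rw [mul_assoc, ← mul_assoc u z u, ← hzu, mul_assoc z u u, hu0, mul_one, hz0])
    (fun e => huz (by
      have := congrArg (z * ·) e
      simpa [← mul_assoc, hz0] using this)) (hpairu _ (Or.inr rfl))
  refine (Subgroup.eq_bot_iff_forall _).mpr fun x hx => ?_
  have hin : x ∈ X ⊓ Subgroup.centralizer ({z * u} : Set G) := by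
    refine Subgroup.mem_inf.mpr ⟨hx, Subgroup.mem_centralizer_singleton_iff.mpr ?_⟩
    have e1 := inverts hz0 (hSX hzS) cz hx
    have e2 := inverts hu0 (hSX huS) cu hx
    have hzi : z⁻¹ = z := inv_eq_of_mul_eq_one_right hz0
    have e3 : z * (u * x * u) * z = x := by
      rw [e2, inverts hz0 (hSX hzS) cz (inv_mem hx), inv_inv]
    have e4 := congrArg (fun w => w * (z * u)) e3
    simp only [mul_assoc] at e4
    rw [← mul_assoc z z u, hz0, one_mul, hu0, mul_one] at e4
    simpa [mul_assoc] using e4.symm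
  rwa [cw, Subgroup.mem_bot] at hin

end Cfsg.Agent.S3246
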