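import Cfsg.Statements.S3269
import Cfsg.Agent.Lib.Inv.QuaternionFactor
import Cfsg.Agent.Lib.Inv.SylowIn

set_option autoImplicit false
open Cfsg

namespace Cfsg.Agent.S3269

/-- Let G be a finite group whose Sylow 2-subgroup S is an internal direct product Q × R with Q generalized quaternion (of order at least 8) and R a subgroup all of whose involutions are central in R. Then G is not simple. In particular no finite simple group has a Sylow 2-subgroup that is a direct product of one or more generalized quaternion groups. -/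
theorem result {G : Type*} [Group G] [Finite G]
    (S : Sylow 2 G) (Q R : Subgroup G) (hQR : Cfsg.IsInternalDirectProduct Q R (S : Subgroup G))
    (n : ℕ) (hn : 1 ≤ n) (eQ : ↥Q ≃* QuaternionGroup (2 ^ n))
    (hR : ∀ r ∈ R, orderOf r = 2 → ∀ s ∈ R, r * s = s * r) :
    ¬ IsSimpleGroup G := by
  classical
  haveI : Fact (Nat.Prime 2) := ⟨Nat.prime_two⟩
  intro hsimp
  haveI : NeZero (2 ^ n) := ⟨by positivity⟩
  have h2m : 2 ≤ 2 ^ n := le_of_eq_of_le (pow_one 2).symm (Nat.pow_le_pow_right two_pos hn)
  have hme : Even (2 ^ n) := Nat.even_pow.2 ⟨even_two, by omega⟩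
  obtain ⟨hQS, hRS, hcomm, hdisj, hsup⟩ := hQR
  set Q' := Q.subgroupOf (S : Subgroup G) with hQ'
  set R' := R.subgroupOf (S : Subgroup G) with hR'
  let e : Q' ≃* QuaternionGroup (2 ^ n) := (Subgroup.subgroupOfEquivOfLe hQS).trans eQ
  set zq : Q' := e.symm (QuaternionGroup.a ((2 ^ n : ℕ) : ZMod (2 * 2 ^ n))) with hzq
  have hzord : orderOf zq = 2 := by
    rw [hzq, MulEquiv.orderOf_eq]
    obtain ⟨x, y, hxy⟩ := Inv.quaternion_commutator hme
    have h4 : orderOf (QuaternionGroup.xa (0 : ZMod (2 * 2 ^ n))) = 4 := QuaternionGroup.orderOf_xa 0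
    have hsq : orderOf (QuaternionGroup.xa (0 : ZMod (2 * 2 ^ n)) ^ 2) = 2 :=
      Inv.orderOf_sq_of_four h4
    rwa [Inv.quaternion_involution_unique hsq] at hsq
  have hF : Inv.QFactor Q' R' ((zq : Q') : (S : Subgroup G)) := by
    refine ⟨fun q hq r hr => Subtype.ext (hcomm _ hq _ hr), ?_, ?_, ?_, zq.2, ?_, ?_, ?_, ?_⟩
    · refine eq_bot_iff.2 fun x hx => Subgroup.mem_bot.2 (Subtype.ext ?_)
      exact Subgroup.mem_bot.1 (hdisj ▸ (hx : (x : G) ∈ Q ⊓ R) : (x : G) ∈ (⊥ : Subgroup G))
    · rw [hQ', hR', ← Subgroup.subgroupOf_sup hQS hRS, hsup, Subgroup.subgroupOf_self]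
    · exact S.isPGroup'.to_subgroup Q'
    · rw [Subgroup.orderOf_coe, hzord]
    · intro x hx hox
      have h1 : e ⟨x, hx⟩ = e zq := by
        rw [hzq, MulEquiv.apply_symm_apply]
        exact Inv.quaternion_involution_unique (by
          rw [MulEquiv.orderOf_eq, ← Subgroup.orderOf_coe]; exact hox)
      exact congrArg Subtype.val (e.injective h1)
    · intro q hq hall
      rcases Inv.quaternion_center h2m (q := e ⟨q, hq⟩) (fun w => by
        rw [← e.apply_symm_apply w, ← map_mul, ← map_mul]
        exact congrArg e (Subtype.ext (hall _ (e.symm w).2))) with h | h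
      · rw [EmbeddingLike.map_eq_one_iff] at h
        exact Or.inl (congrArg Subtype.val h)
      · exact Or.inr (congrArg Subtype.val (e.eq_symm_apply.2 h))
    · obtain ⟨x, y, hxy⟩ := Inv.quaternion_commutator hme
      refine ⟨_, (e.symm x).2, _, (e.symm y).2, ?_⟩
      have := congrArg e.symm hxy
      rw [map_mul, map_mul, map_mul, map_inv, map_inv] at this
      exact congrArg Subtype.val this
  obtain ⟨p, hp2, hpc, hfix⟩ := hF.exists_fixed
  set t : G := (p : G)
  have ht2 : orderOf t = 2 := (Subgroup.orderOf_coe p).trans hp2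
  have htc : ∀ w : (S : Subgroup G), orderOf w = 2 → ∀ s, s * w = w * s := by
    intro w hw s
    obtain ⟨q, hq, r, hr, rfl⟩ := hF.exists_decomp w
    obtain ⟨q', hq', r', hr', rfl⟩ := hF.exists_decomp s
    have hsq : (q * q) * (r * r) = 1 * 1 := by
      rw [one_mul, ← Inv.mul_self_of_orderOf_two hw, mul_assoc q r, ← mul_assoc r q,
        ← hF.comm q hq r hr]
      simp only [mul_assoc]
    obtain ⟨hqq, hrr⟩ := hF.decomp_unique (mul_mem hq hq) (one_mem _) (mul_mem hr hr) (one_mem _) hsq
    have hqc : q' * q = q * q' := by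
      rcases eq_or_ne q 1 with rfl | hq1
      · simp
      · obtain rfl := hF.uniq q hq (Inv.orderOf_eq_two_of_mul_self hqq hq1)
        exact mul_inv_eq_iff_eq_mul.1 (hF.uniq _ (mul_mem (mul_mem hq' hq) (inv_mem hq'))
          ((Inv.orderOf_conj _ _).trans hF.ord))
    have hrc : r' * r = r * r' := by
      rcases eq_or_ne r 1 with rfl | hr1
      · simp
      · exact Subtype.ext ((hR (r : G) hr (by
          rw [Subgroup.orderOf_coe]; exact Inv.orderOf_eq_two_of_mul_self hrr hr1)
          (r' : G) hr').symm)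
    calc q' * r' * (q * r) = q' * (r' * q) * r := by simp [mul_assoc]
      _ = q' * (q * r') * r := by rw [hF.comm q hq r' hr']
      _ = (q' * q) * (r' * r) := by simp [mul_assoc]
      _ = q * (q' * r) * r' := by rw [hqc, hrc]; simp [mul_assoc]
      _ = q * (r * q') * r' := by rw [hF.comm q' hq' r hr]
      _ = _ := by simp [mul_assoc]
  have hiso : Cfsg.IsIsolatedInvolution t := by
    rw [Inv.isolated_iff_sylow ht2 S p.2]
    intro g hg
    have hcent : ∀ w : (S : Subgroup G), orderOf w = 2 →
        (w : G) ∈ Subgroup.centralizer ((S : Subgroup G) : Set G) := fun w hw x hx =>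
      congrArg Subtype.val (htc w hw ⟨x, hx⟩)
    obtain ⟨m, hm, he⟩ := S.conj_eq_normalizer_conj_of_mem_centralizer t g⁻¹ (hcent p hp2) (by
      rw [inv_inv]
      exact hcent ⟨_, hg⟩ (by rw [← Subgroup.orderOf_coe]; exact (Inv.orderOf_conj g t).trans ht2))
    rw [inv_inv] at he
    rw [he]
    have hm' := Sylow.smul_eq_iff_mem_normalizer.2 hm
    have hmem : ∀ x : G, x ∈ (S : Subgroup G) ↔ m⁻¹ * x * m ∈ (S : Subgroup G) := fun x => by
      have h := SetLike.ext_iff.1 hm' x
      rw [Inv.mem_smul_sylow] at h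
      exact h.symm
    let φ : MulAut (S : Subgroup G) :=
      { toFun := fun x => ⟨m⁻¹ * x * m, (hmem x).1 x.2⟩
        invFun := fun x => ⟨m * x * m⁻¹, (hmem _).2 (by
          rw [show m⁻¹ * (m * (x : G) * m⁻¹) * m = x by group]; exact x.2)⟩
        left_inv := fun x => Subtype.ext (by group)
        right_inv := fun x => Subtype.ext (by group)
        map_mul' := fun x y => Subtype.ext (by simp [mul_assoc]) }
    exact congrArg Subtype.val (hfix φ)
  have hcore : oddCore G = ⊥ := by
    refine (inferInstance : (oddCore G).Normal).eq_bot_or_eq_top.resolve_right fun h => ?_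
    have := Local.oddCore_card_odd (G := G)
    rw [h, Subgroup.card_top] at this
    exact Nat.not_even_iff_odd.2 this (even_iff_two_dvd.2 (ht2 ▸ orderOf_dvd_natCard t))
  have htop : Subgroup.center G = ⊤ :=
    (inferInstance : (Subgroup.center G).Normal).eq_bot_or_eq_top.resolve_left fun h =>
      Inv.ne_one_of_orderOf_two ht2
        (Subgroup.mem_bot.1 (h ▸ Inv.isolated_mem_center hcore hiso))
  obtain ⟨a, -, b, -, hab⟩ := hF.isCommutator
  refine Inv.ne_one_of_orderOf_two hF.ord ?_
  rw [← hab]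
  apply Subtype.ext
  have hc : (b : G) * a = a * b :=
    (Subgroup.mem_center_iff.1 (htop ▸ Subgroup.mem_top (b : G) : (b : G) ∈ Subgroup.center G) a).symm
  simp only [Subgroup.coe_mul, Subgroup.coe_inv, Subgroup.coe_one]
  rw [← hc]; group

end Cfsg.Agent.S3269
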