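import Cfsg.Statements.S3276
import Cfsg.Agent.Lib.Inv.Conj
import Mathlib
-- import your own Cfsg.Agent.* helpers here

set_option autoImplicit false
open Cfsg

namespace Cfsg.Agent.S3276

/-- Let x and y be commuting, non-conjugate involutions of a finite group G, and suppose that for every involution u commuting with x, each conjugate of y that commutes with u also commutes with y. Then the normal closure of y is a proper, normal, elementary abelian 2-subgroup of G; and if y is the only involution of that normal closure commuting with x, it has order at most 4. -/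
theorem result {G : Type*} [Group G] [Finite G] (x y : G) (hx : orderOf x = 2) (hy : orderOf y = 2)
    (hxy : Commute x y) (hnc : ¬ IsConj x y)
    (hstar : ∀ u : G, orderOf u = 2 → Commute u x → ∀ g : G, Commute (g * y * g⁻¹) u → Commute (g * y * g⁻¹) y) :
    Subgroup.normalClosure ({y} : Set G) ≠ ⊤ ∧ Cfsg.IsElementaryAbelian 2 (Subgroup.normalClosure ({y} : Set G)) ∧
      ((∀ u ∈ Subgroup.normalClosure ({y} : Set G), orderOf u = 2 → Commute u x → u = y) →
        Nat.card ↥(Subgroup.normalClosure ({y} : Set G)) ≤ 4) := by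
  open Cfsg.Agent.Inv in
  classical
  have hconj : ∀ g : G, Commute (g * y * g⁻¹) y := by
    intro g
    have hw : orderOf (g * y * g⁻¹) = 2 := (orderOf_conj g y).trans hy
    obtain ⟨u, hu, -, -, huc, huv⟩ := exists_commuting_of_not_isConj hx hw
      (fun h => hnc (h.trans (isConj_iff.2 ⟨g, rfl⟩).symm))
    exact hstar u hu huc g huv.symm
  set N := Subgroup.normalClosure ({y} : Set G) with hN
  set S := Group.conjugatesOfSet ({y} : Set G) with hS
  have hmemS : ∀ {w}, w ∈ S → ∃ g : G, g * y * g⁻¹ = w := by
    intro w hw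
    obtain ⟨a, ha, haw⟩ := Group.mem_conjugatesOfSet_iff.1 hw
    rw [Set.mem_singleton_iff] at ha
    subst ha
    exact isConj_iff.1 haw
  have hcomm : ∀ a ∈ N, ∀ b ∈ N, a * b = b * a := by
    have h1 : N ≤ Subgroup.centralizer (S : Set G) := by
      rw [hN, Subgroup.normalClosure, ← hS, Subgroup.closure_le]
      intro a ha
      refine Subgroup.mem_centralizer_iff.2 fun b hb => ?_
      obtain ⟨g, rfl⟩ := hmemS ha
      obtain ⟨h, rfl⟩ := hmemS hb
      have := (hconj (g⁻¹ * h)).map (MulAut.conj g)
      simpa [MulAut.conj_apply, mul_assoc] using this.eq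
    have h2 : N ≤ Subgroup.centralizer (N : Set G) := by
      intro a ha
      rw [hN, Subgroup.normalClosure, ← hS, Subgroup.centralizer_closure]
      exact h1 ha
    exact fun a ha b hb => (Subgroup.mem_centralizer_iff.1 (h2 ha) b hb).symm
  have hexp : ∀ a ∈ N, a ^ 2 = 1 := by
    intro a ha
    have ha' : a ∈ Subgroup.closure S := ha
    induction ha' using Subgroup.closure_induction with
    | mem w hw =>
      obtain ⟨g, rfl⟩ := hmemS hw
      rw [pow_two, mul_self_of_orderOf_two ((orderOf_conj g y).trans hy)]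
    | one => exact one_pow 2
    | mul a b ha₁ hb₁ iha ihb =>
      have hc : Commute a b := hcomm a ha₁ b hb₁
      rw [hc.mul_pow, iha ha₁, ihb hb₁, one_mul]
    | inv a ha₁ iha => rw [inv_pow, iha ha₁, inv_one]
  refine ⟨fun htop => ?_, ⟨⟨⟨fun a b => Subtype.ext (hcomm _ a.2 _ b.2)⟩⟩, hexp⟩, fun hu => ?_⟩
  · have hcen : ∀ g : G, g * y = y * g := fun g =>
      hcomm g (htop ▸ Subgroup.mem_top g) y (Subgroup.subset_normalClosure rfl)
    have hle : N ≤ Subgroup.zpowers y := by
      rw [hN, Subgroup.normalClosure, ← hS, Subgroup.closure_le]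
      intro w hw
      obtain ⟨g, rfl⟩ := hmemS hw
      rw [hcen, mul_inv_cancel_right]
      exact Subgroup.mem_zpowers y
    obtain ⟨k, hk⟩ := Subgroup.mem_zpowers_iff.1 (hle (htop ▸ Subgroup.mem_top x : x ∈ N))
    rcases Int.even_or_odd k with ⟨m, rfl⟩ | ⟨m, rfl⟩
    · rw [← two_mul, zpow_mul, zpow_two, mul_self_of_orderOf_two hy, one_zpow] at hk
      exact ne_one_of_orderOf_two hx hk.symm
    · rw [zpow_add, zpow_mul, zpow_two, mul_self_of_orderOf_two hy, one_zpow, one_mul,
        zpow_one] at hk
      exact hnc (hk ▸ IsConj.refl y)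
  · have hn : N.Normal := Subgroup.normalClosure_normal
    let f : ↥N →* G :=
      { toFun := fun n => (n : G) * (x * (n : G) * x⁻¹)
        map_one' := by simp
        map_mul' := fun a b => by
          have e : (b : G) * (x * (a : G) * x⁻¹) = (x * (a : G) * x⁻¹) * b :=
            hcomm _ b.2 _ (hn.conj_mem _ a.2 x)
          push_cast
          calc (a : G) * b * (x * ((a : G) * b) * x⁻¹)
              = (a : G) * ((b : G) * (x * (a : G) * x⁻¹)) * (x * (b : G) * x⁻¹) := by group
            _ = (a : G) * (x * (a : G) * x⁻¹) * ((b : G) * (x * (b : G) * x⁻¹)) := by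
              rw [e]; group }
    let K : Subgroup G := N ⊓ Subgroup.centralizer ({x} : Set G)
    have hK : Nat.card K ≤ 2 := by
      have hsub : (K : Set G) ⊆ {1, y} := by
        intro u hu'
        by_cases h1 : u = 1
        · exact Or.inl h1
        · exact Or.inr (hu u hu'.1 (orderOf_eq_prime (hexp u hu'.1) h1)
            (Subgroup.mem_centralizer_singleton_iff.1 hu'.2))
      calc Nat.card K ≤ Set.ncard ({1, y} : Set G) := by
            rw [← Nat.card_coe_set_eq ({1, y} : Set G)]
            exact Nat.card_mono (Set.toFinite _) hsub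
        _ ≤ 2 := (Set.ncard_insert_le _ _).trans (by simp)
    have hker : Nat.card f.ker ≤ Nat.card K := by
      refine Nat.card_le_card_of_injective (fun n => ⟨(n.1 : G), n.1.2, ?_⟩) ?_
      · have h1 : ((n.1 : ↥N) : G) * (x * ((n.1 : ↥N) : G) * x⁻¹) = 1 := n.2
        have h2 : ((n.1 : ↥N) : G) * ((n.1 : ↥N) : G) = 1 := by
          rw [← pow_two]; exact hexp _ n.1.2
        rw [← h2] at h1
        exact Subgroup.mem_centralizer_singleton_iff.2
          (mul_inv_eq_iff_eq_mul.1 (mul_left_cancel h1)).symm
      · intro a b e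
        exact Subtype.ext (Subtype.ext (congrArg Subtype.val e :))
    have hran : f.range ≤ K := by
      rintro _ ⟨n, rfl⟩
      refine ⟨mul_mem n.2 (hn.conj_mem _ n.2 x), Subgroup.mem_centralizer_singleton_iff.2 ?_⟩
      show (n : G) * (x * (n : G) * x⁻¹) * x = x * ((n : G) * (x * (n : G) * x⁻¹))
      have e : (x * (n : G) * x⁻¹) * n = (n : G) * (x * (n : G) * x⁻¹) :=
        hcomm _ (hn.conj_mem _ n.2 x) _ n.2
      calc (n : G) * (x * (n : G) * x⁻¹) * x = (n : G) * (x * (n : G) * x⁻¹) * x := rfl
        _ = (x * (n : G) * x⁻¹) * n * x := by rw [e]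
        _ = x * ((n : G) * (x * (n : G) * x⁻¹)) := by
          rw [inv_eq_self_of_orderOf_two hx]; simp only [mul_assoc]
    have h1 := f.ker.card_mul_index
    rw [Subgroup.index_ker] at h1
    rw [← h1]
    calc Nat.card f.ker * Nat.card f.range ≤ 2 * 2 :=
          Nat.mul_le_mul (hker.trans hK) ((Subgroup.card_le_of_le hran).trans hK)
      _ = 4 := rfl

end Cfsg.Agent.S3276
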