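import Cfsg.Statements.S3279
import Cfsg.Agent.Lib.Inv.Conj
import Mathlib
-- import your own Cfsg.Agent.* helpers here

set_option autoImplicit false
open Cfsg

namespace Cfsg.Agent.S3279

/-- Let G be a finite simple group and x an involution of G whose centralizer contains at most three involutions. Then C_G(x) contains a Sylow 2-subgroup of G, and all involutions of G are conjugate. -/
theorem result {G : Type*} [Group G] [Finite G] [IsSimpleGroup G] (x : G) (hx : orderOf x = 2)
    (h3 : Nat.card {u : ↥(Subgroup.centralizer ({x} : Set G)) // orderOf u = 2} ≤ 3) :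
    (∃ S : Sylow 2 G, (S : Subgroup G) ≤ Subgroup.centralizer ({x} : Set G)) ∧
      ∀ u v : G, orderOf u = 2 → orderOf v = 2 → IsConj u v := by
  open Cfsg.Agent.Inv in
  classical
  haveI : Fact (Nat.Prime 2) := ⟨Nat.prime_two⟩
  have three : ∀ a b c d : G, (∀ v ∈ ({a, b, c, d} : Finset G),
      orderOf v = 2 ∧ v ∈ Subgroup.centralizer ({x} : Set G)) →
      ({a, b, c, d} : Finset G).card ≤ 3 := by
    intro a b c d hv
    refine le_trans ?_ h3
    rw [← Nat.card_eq_finsetCard]
    refine Nat.card_le_card_of_injective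
      (fun v => ⟨⟨v.1, (hv v.1 v.2).2⟩, by simpa using (hv v.1 v.2).1⟩) ?_
    intro v w e
    simpa using e
  have hxC : x ∈ Subgroup.centralizer ({x} : Set G) :=
    Subgroup.mem_centralizer_singleton_iff.2 rfl
  -- the involutions centralising x are x, y, x * y for any one y ≠ x among them
  have htri : ∀ y, orderOf y = 2 → y ≠ x → Commute y x → ∀ v, orderOf v = 2 → Commute v x →
      v = x ∨ v = y ∨ v = x * y := by
    intro y hy hyx hcy v hv hcv
    by_contra! hne
    have hxy : orderOf (x * y) = 2 := by
      apply orderOf_eq_two_of_mul_self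
      · rw [mul_assoc, ← mul_assoc y x y, hcy.eq, mul_assoc x y y, mul_self_of_orderOf_two hy,
          mul_one, mul_self_of_orderOf_two hx]
      · exact orderOf_mul_ne_zero_of_ne hy hyx.symm
    have e1 : x ≠ y := hyx.symm
    have e2 : x ≠ x * y := fun e => ne_one_of_orderOf_two hy (mul_eq_left.1 e.symm)
    have e3 : y ≠ x * y := fun e => ne_one_of_orderOf_two hx (mul_eq_right.1 e.symm)
    have h4 : ({x, y, x * y, v} : Finset G).card = 4 := by
      simp [e1, e2, e3, hne.1.symm, hne.2.1.symm, hne.2.2.symm]
    have := three x y (x * y) v (by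
      intro w hw
      simp only [Finset.mem_insert, Finset.mem_singleton] at hw
      rw [Subgroup.mem_centralizer_singleton_iff]
      rcases hw with rfl | rfl | rfl | rfl
      · exact ⟨hx, rfl⟩
      · exact ⟨hy, hcy.eq⟩
      · exact ⟨hxy, ((Commute.refl x).mul_left hcy).eq⟩
      · exact ⟨hv, hcv.eq⟩)
    omega
  -- transporting the previous statement to a conjugate of x
  have htri' : ∀ a b, IsConj x a → orderOf b = 2 → b ≠ a → Commute b a →
      ∀ v, orderOf v = 2 → Commute v a → v = a ∨ v = b ∨ v = a * b := by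
    intro a b ha hb hba hcb v hv hcv
    obtain ⟨g, rfl⟩ := isConj_iff.1 ha
    let f := MulAut.conj g
    have fx : f.symm (g * x * g⁻¹) = x := by simp [f, mul_assoc]
    have key := htri (f.symm b) ((f.symm.orderOf_eq b).trans hb)
      (fun e => hba (by rw [← f.apply_symm_apply b, e]; rfl))
      (by have := hcb.map f.symm; rwa [fx] at this) (f.symm v) ((f.symm.orderOf_eq v).trans hv)
      (by have := hcv.map f.symm; rwa [fx] at this)
    rcases key with e | e | e
    · left; rw [← f.apply_symm_apply v, e]; rfl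
    · right; left; exact f.symm.injective e
    · right; right
      rw [← f.apply_symm_apply v, e, map_mul, f.apply_symm_apply]; rfl
  -- all involutions are conjugate to x
  have hall : ∀ w, orderOf w = 2 → IsConj x w := by
    intro w hw
    by_contra hxw
    obtain ⟨y, hy, hyx, -, hyc, -⟩ := exists_commuting_of_not_isConj hx hw hxw
    set z := x * y with hz
    have hz2 : orderOf z = 2 := by
      apply orderOf_eq_two_of_mul_self
      · rw [hz, mul_assoc, ← mul_assoc y x y, hyc.eq, mul_assoc x y y,
          mul_self_of_orderOf_two hy, mul_one, mul_self_of_orderOf_two hx]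
      · exact orderOf_mul_ne_zero_of_ne hy hyx.symm
    have hzc : Commute z x := (Commute.refl x).mul_left hyc
    have hzx : z ≠ x := fun e => ne_one_of_orderOf_two hy (mul_eq_left.1 e)
    have hyz : y ≠ z := fun e => ne_one_of_orderOf_two hx (mul_eq_right.1 e.symm)
    have hxyz : x * z = y := by
      rw [hz, ← mul_assoc, mul_self_of_orderOf_two hx, one_mul]
    -- every involution not conjugate to x commutes with y or z
    have hcom : ∀ v, orderOf v = 2 → ¬ IsConj x v → Commute v y ∨ Commute v z := by
      intro v hv hnv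
      obtain ⟨u, hu, hux, -, huc, huv⟩ := exists_commuting_of_not_isConj hx hv hnv
      rcases htri y hy hyx hyc u hu huc with rfl | rfl | rfl
      · exact absurd rfl hux
      · exact Or.inl huv.symm
      · exact Or.inr huv.symm
    -- if one of y, z is conjugate to x then so is the other
    have hpair : ∀ a b, a = y ∧ b = z ∨ a = z ∧ b = y → IsConj x a → IsConj x b := by
      intro a b hab hxa
      by_contra hxb
      have hb : orderOf b = 2 ∧ b ≠ x ∧ Commute b x ∧ Commute b a ∧ b ≠ a ∧ a ≠ x ∧ Commute a x ∧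
          orderOf a = 2 ∧ x * b = a := by
        rcases hab with ⟨rfl, rfl⟩ | ⟨rfl, rfl⟩
        · exact ⟨hz2, hzx, hzc, hyc.symm.mul_left (Commute.refl _), hyz.symm, hyx, hyc, hy, hxyz⟩
        · exact ⟨hy, hyx, hyc, hyc.mul_right (Commute.refl _), hyz, hzx, hzc, hz2, rfl⟩
      obtain ⟨hb2, hbx, hbc, hba, hne, hax, hac, ha2, hxb'⟩ := hb
      obtain ⟨v, hv, hnv⟩ := exists_conj_not_commute hx hb2 hbx.symm
      obtain ⟨g, hg⟩ := isConj_iff.1 hv
      have hv2 : orderOf v = 2 := by rw [← hg, orderOf_conj, hb2]
      have hnxv : ¬ IsConj x v := fun h => hxb (h.trans hv.symm)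
      have hva : Commute v a ∨ Commute v b := by
        rcases hab with ⟨rfl, rfl⟩ | ⟨rfl, rfl⟩
        · exact hcom v hv2 hnxv
        · exact (hcom v hv2 hnxv).symm
      rcases hva with h | h
      · rcases htri' a x hxa hx hax.symm hac.symm v hv2 h with rfl | rfl | rfl
        · exact hnxv hxa
        · exact hnxv (IsConj.refl _)
        · apply hnv
          exact hba.mul_right hbc
      · exact hnv h.symm
    have hny : ¬ IsConj x y := by
      intro hxy
      have hxz := hpair y z (Or.inl ⟨rfl, rfl⟩) hxy
      rcases hcom w hw hxw with h | h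
      · rcases htri' y x hxy hx hyx.symm hyc.symm w hw h with rfl | rfl | rfl
        · exact hxw hxy
        · exact hxw (IsConj.refl _)
        · rw [hyc.eq] at hxw; exact hxw hxz
      · rcases htri' z x hxz hx hzx.symm hzc.symm w hw h with rfl | rfl | rfl
        · exact hxw hxz
        · exact hxw (IsConj.refl _)
        · rw [hzc.eq, hxyz] at hxw; exact hxw hxy
    have hnz : ¬ IsConj x z := fun h => hny (hpair z y (Or.inr ⟨rfl, rfl⟩) h)
    -- a Sylow 2-subgroup through x centralises x
    have hSx : ∀ S : Sylow 2 G, x ∈ (S : Subgroup G) →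
        (S : Subgroup G) ≤ Subgroup.centralizer ({x} : Set G) := by
      intro S hxS
      have htop : (Subgroup.centralizer ({x} : Set G)).subgroupOf (S : Subgroup G) = ⊤ := by
        by_contra hne
        haveI := S.isPGroup'.isNilpotent
        have hlt := Group.normalizerCondition_of_isNilpotent _ (lt_top_iff_ne_top.2 hne)
        obtain ⟨s, hs, hsn⟩ := SetLike.exists_of_lt hlt
        apply hsn
        have hxH : (⟨x, hxS⟩ : (S : Subgroup G)) ∈
            (Subgroup.centralizer ({x} : Set G)).subgroupOf (S : Subgroup G) := hxC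
        have h1 : (s : G) * x * (s : G)⁻¹ ∈ Subgroup.centralizer ({x} : Set G) :=
          (Subgroup.mem_normalizer_iff.1 hs ⟨x, hxS⟩).1 hxH
        have h2 : orderOf ((s : G) * x * (s : G)⁻¹) = 2 := (orderOf_conj _ _).trans hx
        have h3 : IsConj x ((s : G) * x * (s : G)⁻¹) := isConj_iff.2 ⟨_, rfl⟩
        rw [Subgroup.mem_subgroupOf, Subgroup.mem_centralizer_singleton_iff]
        rcases htri y hy hyx hyc _ h2 (Subgroup.mem_centralizer_singleton_iff.1 h1) with e | e | e
        · exact mul_inv_eq_iff_eq_mul.1 e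
        · exact absurd (e ▸ h3) hny
        · exact absurd (by rw [hz]; exact e ▸ h3) hnz
      exact Subgroup.subgroupOf_eq_top.1 htop
    -- the classes of involutions in C(y), C(z)
    have hclass : ∀ a b, orderOf a = 2 → a ≠ x → Commute a x → x * a = b → b ≠ x → ∀ v,
        orderOf v = 2 → Commute v a →
        ∃ c : G, Commute c a ∧ (v = c * x * c⁻¹ ∨ v = c * a * c⁻¹ ∨ v = c * b * c⁻¹) := by
      intro a b ha hax hac hab _ v hv hva
      let C := Subgroup.centralizer ({a} : Set G)
      let x' : C := ⟨x, Subgroup.mem_centralizer_singleton_iff.2 hac.eq.symm⟩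
      let v' : C := ⟨v, Subgroup.mem_centralizer_singleton_iff.2 hva.eq⟩
      obtain ⟨Q, hQ⟩ := (IsPGroup.of_card (p := 2) (n := 1) (G := Subgroup.zpowers x')
        (by rw [Nat.card_zpowers, ← Subgroup.orderOf_coe, pow_one]; exact hx)).exists_le_sylow
      obtain ⟨R, hR⟩ := (IsPGroup.of_card (p := 2) (n := 1) (G := Subgroup.zpowers v')
        (by rw [Nat.card_zpowers, ← Subgroup.orderOf_coe, pow_one]; exact hv)).exists_le_sylow
      obtain ⟨c, hc⟩ := MulAction.exists_smul_eq C Q R
      obtain ⟨q, hq, hqv⟩ : ∃ q ∈ (Q : Subgroup C), c * q * c⁻¹ = v' := by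
        have := hR (Subgroup.mem_zpowers v')
        rw [← hc] at this
        obtain ⟨q, hq, e⟩ := this
        exact ⟨q, hq, e⟩
      obtain ⟨S, hS⟩ := (Q.isPGroup'.map C.subtype).exists_le_sylow
      have hle := hSx S (hS ⟨x', hQ (Subgroup.mem_zpowers x'), rfl⟩)
      have hqx : Commute (q : G) x :=
        Subgroup.mem_centralizer_singleton_iff.1 (hle (hS ⟨q, hq, rfl⟩))
      have hqv' : (c : G) * (q : G) * (c : G)⁻¹ = v := congrArg Subtype.val hqv
      have hq2 : orderOf (q : G) = 2 := by rw [← orderOf_conj (c : G), hqv', hv]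
      refine ⟨c, Subgroup.mem_centralizer_singleton_iff.1 c.2, ?_⟩
      rw [← hqv']
      rcases htri a ha hax hac _ hq2 hqx with e | e | e
      · exact Or.inl (by rw [e])
      · exact Or.inr (Or.inl (by rw [e]))
      · exact Or.inr (Or.inr (by rw [e, hab]))
    let A : Set G := {v | ∃ c, Commute c y ∧ v = c * z * c⁻¹}
    let B : Set G := {v | ∃ c, Commute c z ∧ v = c * y * c⁻¹}
    have hconj : ∀ {c a : G}, Commute c a → c * a * c⁻¹ = a := fun h => by
      rw [h.eq, mul_inv_cancel_right]
    have hcover : ∀ v, orderOf v = 2 → ¬ IsConj x v → v ∈ A ∪ B := by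
      intro v hv hnv
      rcases hcom v hv hnv with h | h
      · obtain ⟨c, hc, e | e | e⟩ := hclass y z hy hyx hyc rfl hzx v hv h
        · exact absurd (isConj_iff.2 ⟨c, e.symm⟩) hnv
        · exact Or.inr ⟨1, Commute.one_left z, by rw [e, hconj hc]; simp⟩
        · exact Or.inl ⟨c, hc, e⟩
      · obtain ⟨c, hc, e | e | e⟩ := hclass z y hz2 hzx hzc hxyz hyx v hv h
        · exact absurd (isConj_iff.2 ⟨c, e.symm⟩) hnv
        · exact Or.inl ⟨1, Commute.one_left y, by rw [e, hconj hc]; simp⟩
        · exact Or.inr ⟨c, hc, e⟩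
    have hAB : ∀ a ∈ A, ∀ b ∈ B, Commute a b := by
      rintro a ⟨c, hc, rfl⟩ b ⟨d, hd, rfl⟩
      have hay : Commute (c * z * c⁻¹) y := by
        have h1 : Commute z y := hyc.symm.mul_left (Commute.refl y)
        exact (hc.mul_left h1).mul_left hc.inv_left
      have hbz : Commute (d * y * d⁻¹) z := by
        have h1 : Commute y z := hyc.mul_right (Commute.refl y)
        exact (hd.mul_left h1).mul_left hd.inv_left
      have hb2 : orderOf (d * y * d⁻¹) = 2 := (orderOf_conj _ _).trans hy
      have hnb : ¬ IsConj x (d * y * d⁻¹) := fun h => hny (h.trans (isConj_iff.2 ⟨d, rfl⟩).symm)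
      have hnb' : ¬ IsConj x (c⁻¹ * (d * y * d⁻¹) * c) := fun h =>
        hnb (h.trans (isConj_iff.2 ⟨c, by group⟩))
      have hb2' : orderOf (c⁻¹ * (d * y * d⁻¹) * c) = 2 := by
        simpa using (orderOf_conj c⁻¹ (d * y * d⁻¹)).trans hb2
      rcases hcom _ hb2' hnb' with h | h
      · -- b commutes with y and z, hence with x
        have hby : Commute (d * y * d⁻¹) y := by
          have := h.map (MulAut.conj c)
          simpa [MulAut.conj_apply, mul_assoc, hc.eq] using this
        have hbx : Commute (d * y * d⁻¹) x := by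
          have := hbz.mul_right hby
          have e0 : z * y = x := by rw [hz, mul_assoc, mul_self_of_orderOf_two hy, mul_one]
          rwa [e0] at this
        rcases htri y hy hyx hyc _ hb2 hbx with e | e | e
        · exact absurd (e ▸ IsConj.refl _) hnb
        · rw [e]; exact hay
        · exfalso
          apply hyz
          have e1 : d * y * d⁻¹ = d * z * d⁻¹ := e.trans (hconj hd).symm
          exact mul_left_cancel (mul_right_cancel e1)
      · have := h.map (MulAut.conj c)
        exact (by simpa [MulAut.conj_apply, mul_assoc] using this : Commute _ _).symm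
    have hzA : z ∈ A := ⟨1, Commute.one_left _, by simp⟩
    have hyB : y ∈ B := ⟨1, Commute.one_left _, by simp⟩
    have htop : Subgroup.closure (A ∪ B) = ⊤ := by
      rw [eq_top_iff]
      refine le_trans (le_of_eq ?_) ((Subgroup.closure_le _).2 (fun v hv => ?_) :
        Subgroup.normalClosure ({y} : Set G) ≤ _)
      · exact ((Subgroup.normalClosure_normal (s := ({y} : Set G))).eq_bot_or_eq_top.resolve_left
          fun hb => ne_one_of_orderOf_two hy
            (Subgroup.mem_bot.1 (hb ▸ Subgroup.subset_normalClosure (Set.mem_singleton y)))).symm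
      · obtain ⟨a, ha, hav⟩ := Group.mem_conjugatesOfSet_iff.1 hv
        rw [Set.mem_singleton_iff] at ha
        subst ha
        obtain ⟨g, rfl⟩ := isConj_iff.1 hav
        exact Subgroup.subset_closure (hcover _ ((orderOf_conj _ _).trans hy)
          fun h => hny (h.trans hav.symm))
    have hBcent : B ⊆ Subgroup.centralizer (Subgroup.closure A : Set G) := by
      intro b hb
      rw [Subgroup.centralizer_closure]
      exact Subgroup.mem_centralizer_iff.2 fun a ha => (hAB a ha b hb).eq
    have hn : (Subgroup.closure A).Normal := by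
      rw [← Subgroup.normalizer_eq_top_iff, eq_top_iff, ← htop, Subgroup.closure_le]
      rintro v (hv | hv)
      · exact Subgroup.le_normalizer (Subgroup.subset_closure hv)
      · have hc := hBcent hv
        refine Subgroup.mem_normalizer_iff.2 fun a => ⟨fun ha => ?_, fun ha => ?_⟩
        · rw [show v * a = a * v from (Subgroup.mem_centralizer_iff.1 hc a ha).symm,
            mul_inv_cancel_right]
          exact ha
        · have e := Subgroup.mem_centralizer_iff.1 hc _ ha
          rw [inv_mul_cancel_right] at e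
          have e2 : v * a * v⁻¹ = a := mul_left_cancel e.symm
          rwa [e2] at ha
    have hAtop : Subgroup.closure A = ⊤ := hn.eq_bot_or_eq_top.resolve_left fun hb =>
      ne_one_of_orderOf_two hz2 (Subgroup.mem_bot.1 (hb ▸ Subgroup.subset_closure hzA))
    apply notMem_center_of_simple hx hy hyx.symm
    have := hBcent hyB
    rw [hAtop] at this
    exact Subgroup.mem_center_iff.2 fun g => Subgroup.mem_centralizer_iff.1 this g trivial
  refine ⟨?_, fun u v hu hv => (hall u hu).symm.trans (hall v hv)⟩
  obtain ⟨S, hS⟩ : ∃ S : Sylow 2 G, x ∈ (S : Subgroup G) := by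
    obtain ⟨S, hS⟩ := (IsPGroup.of_card (p := 2) (n := 1) (G := Subgroup.zpowers x)
      (by rw [Nat.card_zpowers, hx, pow_one])).exists_le_sylow
    exact ⟨S, hS (Subgroup.mem_zpowers x)⟩
  haveI : Nontrivial (S : Subgroup G) :=
    ⟨⟨⟨x, hS⟩, 1, fun e => ne_one_of_orderOf_two hx (congrArg Subtype.val e)⟩⟩
  haveI := S.isPGroup'.center_nontrivial
  obtain ⟨⟨⟨t, ht⟩, htc⟩, ht2⟩ :=
    exists_prime_orderOf_dvd_card' (G := Subgroup.center (S : Subgroup G)) 2 (by
      obtain ⟨n, hn, hn2⟩ := (S.isPGroup'.to_subgroup (Subgroup.center _)).nontrivial_iff_card.1 ‹_›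
      rw [hn2]; exact dvd_pow_self 2 hn.ne')
  have ht3 : orderOf t = 2 := by simpa using ht2
  obtain ⟨g, hg⟩ := isConj_iff.1 (hall t ht3).symm
  refine ⟨g • S, ?_⟩
  rintro a ⟨s, hs, rfl⟩
  rw [Subgroup.mem_centralizer_singleton_iff, ← hg]
  have e : s * t = t * s := congrArg Subtype.val (Subgroup.mem_center_iff.1 htc ⟨s, hs⟩)
  show g * s * g⁻¹ * (g * t * g⁻¹) = g * t * g⁻¹ * (g * s * g⁻¹)
  calc g * s * g⁻¹ * (g * t * g⁻¹) = g * (s * t) * g⁻¹ := by group
    _ = g * (t * s) * g⁻¹ := by rw [e]
    _ = g * t * g⁻¹ * (g * s * g⁻¹) := by group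

end Cfsg.Agent.S3279
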