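import Cfsg.Statements.S3303
import Cfsg.Agent.Lib.Fusion.QuasiDihedralAut
import Cfsg.Agent.Lib.Solv.Basic

set_option autoImplicit false
open Cfsg
open scoped Pointwise

namespace Cfsg.Agent.S3303

/-- Let G be a finite solvable group in which the intersection of any two distinct Sylow 2-subgroups is cyclic. Then G/O(G) has a normal Sylow 2-subgroup, where O(G) is the largest normal subgroup of odd order. -/
theorem result {G : Type*} [Group G] [Finite G] (hs : Group.IsSolvable G)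
    (hC : ∀ S T : Sylow 2 G, S ≠ T → IsCyclic ↥((S : Subgroup G) ⊓ (T : Subgroup G))) :
    ∃ P : Sylow 2 (G ⧸ Cfsg.oddCore G), (P : Subgroup (G ⧸ Cfsg.oddCore G)).Normal := by
  haveI : Fact (Nat.Prime 2) := ⟨Nat.prime_two⟩
  haveI := hs
  set f := QuotientGroup.mk' (Cfsg.oddCore G)
  have hf : Function.Surjective f := QuotientGroup.mk'_surjective _
  haveI : Group.IsSolvable (G ⧸ Cfsg.oddCore G) := Group.isSolvable_of_surjective hf
  by_contra hcon
  simp only [not_exists] at hcon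
  have hns : ¬ Subsingleton (Sylow 2 (G ⧸ Cfsg.oddCore G)) := fun h =>
    hcon (Classical.arbitrary _) (Sylow.normal_of_subsingleton _)
  rw [not_subsingleton_iff_nontrivial] at hns
  obtain ⟨S', T', hne⟩ := hns.exists_pair_ne
  obtain ⟨S, rfl⟩ := Sylow.mapSurjective_surjective hf 2 S'
  obtain ⟨T, rfl⟩ := Sylow.mapSurjective_surjective hf 2 T'
  set D := (S.mapSurjective hf : Subgroup (G ⧸ Cfsg.oddCore G)) ⊓ (T.mapSurjective hf : Subgroup (G ⧸ Cfsg.oddCore G))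
  set M := (T.mapSurjective hf : Subgroup (G ⧸ Cfsg.oddCore G)).comap f
  set R := (S : Subgroup G) ⊓ D.comap f
  have hRM : R ≤ M := fun x hx => hx.2.2
  have hTM : (T : Subgroup G) ≤ M := fun x hx => ⟨x, hx, rfl⟩
  obtain ⟨P, hP⟩ := ((S.2.to_le inf_le_left : IsPGroup 2 R).of_equiv (Subgroup.subgroupOfEquivOfLe hRM).symm).exists_le_sylow
  obtain ⟨⟨m, hm⟩, hmP⟩ := MulAction.exists_smul_eq M P (T.subtype hTM)
  have hRT : ∀ r ∈ R, m * r * m⁻¹ ∈ (T : Subgroup G) := by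
    intro r hr
    have h1 : (⟨m, hm⟩ : M) * ⟨r, hRM hr⟩ * (⟨m, hm⟩ : M)⁻¹ ∈ ((T.subtype hTM : Sylow 2 M) : Subgroup M) := by
      rw [← hmP]
      exact Subgroup.smul_mem_pointwise_smul _ (MulAut.conj (⟨m, hm⟩ : M)) _ (hP hr)
    exact h1
  have himg : ((m⁻¹ • T : Sylow 2 G).mapSurjective hf : Subgroup (G ⧸ Cfsg.oddCore G)) =
      (T.mapSurjective hf : Subgroup (G ⧸ Cfsg.oddCore G)) := by
    ext x
    constructor
    · rintro ⟨y, hy, rfl⟩
      obtain ⟨t, ht, rfl⟩ := hy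
      show f (m⁻¹ * t * m⁻¹⁻¹) ∈ _
      rw [map_mul, map_mul, inv_inv, map_inv]
      exact mul_mem (mul_mem (inv_mem hm) (⟨t, ht, rfl⟩ : f t ∈ (T.mapSurjective hf : Subgroup _))) hm
    · intro hx
      have h1 : f m * x * (f m)⁻¹ ∈ (T.mapSurjective hf : Subgroup (G ⧸ Cfsg.oddCore G)) := mul_mem (mul_mem hm hx) (inv_mem hm)
      obtain ⟨t, ht, he⟩ := Subgroup.mem_map.1 h1
      refine ⟨m⁻¹ * t * m⁻¹⁻¹, ⟨t, ht, rfl⟩, ?_⟩
      rw [map_mul, map_mul, inv_inv, map_inv, he]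
      group
  have hSne : S ≠ m⁻¹ • T := fun h => hne (Sylow.ext (by rw [← himg, h]))
  have hRle : R ≤ (S : Subgroup G) ⊓ ((m⁻¹ • T : Sylow 2 G) : Subgroup G) := fun r hr =>
    ⟨hr.1, m * r * m⁻¹, hRT r hr, by show m⁻¹ * (m * r * m⁻¹) * m⁻¹⁻¹ = r; group⟩
  haveI := hC S _ hSne
  haveI : IsCyclic R := isCyclic_of_injective (Subgroup.inclusion hRle) (Subgroup.inclusion_injective hRle)
  have hD : D = R.map f := by
    ext x
    constructor
    · intro hx
      obtain ⟨s, hs', rfl⟩ := hx.1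
      exact ⟨s, ⟨hs', hx⟩, rfl⟩
    · rintro ⟨r, hr, rfl⟩
      exact hr.2
  haveI : IsCyclic D := hD ▸ isCyclic_of_surjective (f.subgroupMap R) (f.subgroupMap_surjective R)
  set Q := Cfsg.pCore 2 (G ⧸ Cfsg.oddCore G)
  have hQD : Q ≤ D := le_inf (Cfsg.Agent.Solv.pCore_le_sylow _) (Cfsg.Agent.Solv.pCore_le_sylow _)
  haveI : IsCyclic Q := isCyclic_of_injective (Subgroup.inclusion hQD) (Subgroup.inclusion_injective hQD)
  obtain ⟨z, hz⟩ := IsCyclic.exists_generator (α := Q)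
  obtain ⟨k, hk⟩ := IsPGroup.iff_card.1 (Cfsg.Agent.Solv.isPGroup_pCore 2 (G ⧸ Cfsg.oddCore G))
  have hA : IsPGroup 2 (MulAut Q) := Cfsg.Agent.Fusion.QuasiDihedral.isPGroup_mulAut_of_cyclic_part hk z (by
    rw [(Subgroup.eq_top_iff' _).2 hz, Subgroup.index_top]; norm_num) (fun α => hz _)
  have hCQ := Cfsg.Agent.Solv.centralizer_pCore_le_of_isSolvable (Cfsg.Agent.Solv.pPrimeCore_quotient_pPrimeCore (G := G) 2)
  have hp : IsPGroup 2 (G ⧸ Cfsg.oddCore G) := by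
    intro h
    obtain ⟨a, ha⟩ := hA (MulAut.conjNormal h)
    have hc : h ^ 2 ^ a ∈ Q := hCQ (by
      rw [Subgroup.mem_centralizer_iff]
      intro x hx
      rw [← map_pow] at ha
      have h1 := congrArg Subtype.val (DFunLike.congr_fun ha ⟨x, hx⟩)
      rw [MulAut.conjNormal_apply, MulAut.one_apply] at h1
      calc x * h ^ 2 ^ a = h ^ 2 ^ a * x * (h ^ 2 ^ a)⁻¹ * h ^ 2 ^ a := by rw [h1]
        _ = h ^ 2 ^ a * x := by group)
    obtain ⟨b, hb⟩ := Cfsg.Agent.Solv.isPGroup_pCore 2 (G ⧸ Cfsg.oddCore G) ⟨_, hc⟩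
    refine ⟨a + b, ?_⟩
    rw [pow_add, pow_mul]
    exact congrArg Subtype.val hb
  refine hne (Sylow.ext ?_)
  rw [(S.mapSurjective hf).3 (hp.to_subgroup ⊤) le_top |>.symm, (T.mapSurjective hf).3 (hp.to_subgroup ⊤) le_top |>.symm]

end Cfsg.Agent.S3303
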