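import Cfsg.Statements.S3305
import Mathlib

set_option autoImplicit false
open Cfsg

namespace Cfsg.Agent.S3305

/-- If any two distinct Sylow 2-subgroups of the finite group G intersect in a cyclic group, then the same holds in every quotient group G/H, H a normal subgroup of G. -/
theorem result {G : Type*} [Group G] [Finite G]
    (hC : ∀ S T : Sylow 2 G, S ≠ T → IsCyclic ↥((S : Subgroup G) ⊓ (T : Subgroup G))) (H : Subgroup G) [H.Normal] :
    ∀ S T : Sylow 2 (G ⧸ H), S ≠ T → IsCyclic ↥((S : Subgroup (G ⧸ H)) ⊓ (T : Subgroup (G ⧸ H))) := by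
  intro S T hne
  have : Fact (Nat.Prime 2) := ⟨Nat.prime_two⟩
  set f := QuotientGroup.mk' H
  have hf : Function.Surjective f := QuotientGroup.mk'_surjective H
  have key : ∀ (S : Sylow 2 (G ⧸ H)) (P : Subgroup G), IsPGroup 2 P → P ≤ (S : Subgroup (G ⧸ H)).comap f →
      ∃ S' : Sylow 2 G, P ≤ (S' : Subgroup G) ∧ Sylow.mapSurjective hf S' = S := by
    intro S P hP hPle
    obtain ⟨S₀, hS₀⟩ := Sylow.mapSurjective_surjective hf 2 S
    set K := (S : Subgroup (G ⧸ H)).comap f
    have hS₀K : (S₀ : Subgroup G) ≤ K := Subgroup.map_le_iff_le_comap.1 (le_of_eq (congrArg Sylow.toSubgroup hS₀))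
    obtain ⟨R, hR⟩ := (hP.of_equiv (Subgroup.subgroupOfEquivOfLe hPle).symm).exists_le_sylow
    have hcard : Nat.card ((R : Subgroup K).map K.subtype) = Nat.card (S₀ : Subgroup G) := by
      rw [Subgroup.card_map_of_injective K.subtype_injective,
        Nat.card_congr (Sylow.equiv R (S₀.subtype hS₀K)).toEquiv, Sylow.coe_subtype,
        Nat.card_congr (Subgroup.subgroupOfEquivOfLe hS₀K).toEquiv]
    let S' : Sylow 2 G := Sylow.ofCard ((R : Subgroup K).map K.subtype) (by rw [hcard, S₀.card_eq_multiplicity])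
    refine ⟨S', fun x hx => ⟨⟨x, hPle hx⟩, hR (Subgroup.mem_subgroupOf.2 hx), rfl⟩, Sylow.ext ?_⟩
    refine ((Sylow.mapSurjective hf S').3 S.2 ?_).symm
    rintro _ ⟨x, ⟨y, hy, rfl⟩, rfl⟩
    exact y.2
  set X := ((S : Subgroup (G ⧸ H)) ⊓ (T : Subgroup (G ⧸ H))).comap f with hX
  obtain ⟨Q⟩ : Nonempty (Sylow 2 X) := inferInstance
  set P := (Q : Subgroup X).map X.subtype with hPdef
  have hP : IsPGroup 2 P := Q.2.map _
  have hPX : P ≤ X := Subgroup.map_subtype_le _
  obtain ⟨S', hS', eS⟩ := key S P hP (hPX.trans (Subgroup.comap_mono inf_le_left))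
  obtain ⟨T', hT', eT⟩ := key T P hP (hPX.trans (Subgroup.comap_mono inf_le_right))
  have hcyc : IsCyclic P := by
    have := hC S' T' (fun h => hne (by rw [← eS, ← eT, h]))
    exact isCyclic_of_injective (Subgroup.inclusion (le_inf hS' hT')) (Subgroup.inclusion_injective _)
  let g : X →* ↥((S : Subgroup (G ⧸ H)) ⊓ (T : Subgroup (G ⧸ H))) :=
    (f.comp X.subtype).codRestrict _ fun x => x.2
  have hg : Function.Surjective g := fun y => by
    obtain ⟨x, hx⟩ := hf y
    exact ⟨⟨x, by rw [hX, Subgroup.mem_comap, hx]; exact y.2⟩, Subtype.ext hx⟩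
  have htop : (Q : Subgroup X).map g = ⊤ :=
    ((Sylow.mapSurjective hg Q).3 ((S.2.to_le inf_le_left).to_subgroup ⊤) le_top).symm
  let e : (Q : Subgroup X) →* ↥((S : Subgroup (G ⧸ H)) ⊓ (T : Subgroup (G ⧸ H))) := g.comp (Q : Subgroup X).subtype
  have he : Function.Surjective e := fun y => by
    obtain ⟨x, hx, hxe⟩ := htop.ge (Subgroup.mem_top y)
    exact ⟨⟨x, hx⟩, hxe⟩
  have : IsCyclic (Q : Subgroup X) :=
    ((Q : Subgroup X).equivMapOfInjective X.subtype X.subtype_injective).isCyclic.2 hcyc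
  exact isCyclic_of_surjective e he

end Cfsg.Agent.S3305
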