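import Cfsg.Statements.S3335
import Mathlib

set_option autoImplicit false
open Cfsg

namespace Cfsg.Agent.S3335

open Equiv

section count

variable {G : Type*} [Group G] (x : ℕ → G)

/-- The products `x k * x (k-1) * ⋯` with `t` factors. -/
def dprod (k : ℕ) : ℕ → G
  | 0 => 1
  | t + 1 => dprod k t * x (k - t)

/-- Coset representatives. -/
def cs (k j : ℕ) : G := dprod x k (k + 1 - j)

theorem cs_top (k : ℕ) : cs x k (k + 1) = 1 := by simp [cs, dprod]

theorem cs_step {k j : ℕ} (h : j ≤ k) : cs x k j = cs x k (j + 1) * x j := by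
  rw [cs, cs, show k + 1 - j = (k + 1 - (j + 1)) + 1 by omega, dprod,
    show k - (k + 1 - (j + 1)) = j by omega]

/-- The subgroup generated by the first `k` generators. -/
def Hk (k : ℕ) : Subgroup G := Subgroup.closure (x '' {i | i < k})

theorem mem_Hk {k i : ℕ} (h : i < k) : x i ∈ Hk x k := Subgroup.subset_closure ⟨i, h, rfl⟩

variable {m : ℕ} (h3 : x 0 ^ 3 = 1) (h2 : ∀ i, 1 ≤ i → i < m → x i ^ 2 = 1)
  (h33 : ∀ i, i + 1 < m → (x i * x (i + 1)) ^ 3 = 1)
  (h22 : ∀ i j, i + 1 < j → j < m → (x i * x j) ^ 2 = 1)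

include h2 in
theorem inv_eq {i : ℕ} (h1 : 1 ≤ i) (hi : i < m) : (x i)⁻¹ = x i :=
  inv_eq_of_mul_eq_one_right (by rw [← pow_two]; exact h2 i h1 hi)

include h2 h22 in
theorem swap_far {i j : ℕ} (hij : i + 1 < j) (hj : j < m) : x j * x i = (x i)⁻¹ * x j := by
  have h := h22 i j hij hj
  rw [pow_two] at h
  have hji := inv_eq x h2 (show 1 ≤ j by omega) hj
  calc x j * x i = (x i)⁻¹ * (x i * x j * (x i * x j)) * (x j)⁻¹ := by group
    _ = (x i)⁻¹ * x j := by rw [h, mul_one, hji]

include h2 h22 in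
theorem far (k : ℕ) (hk : k < m) : ∀ d i j, j + d = k + 1 → i + 1 < j →
    (∃ h ∈ Hk x k, cs x k j * x i = h * cs x k j) ∧ ∃ h ∈ Hk x k, cs x k j * (x i)⁻¹ = h * cs x k j := by
  intro d
  induction d with
  | zero =>
    intro i j hj hij
    obtain rfl : j = k + 1 := by omega
    exact ⟨⟨x i, mem_Hk x (by omega), by simp [cs_top]⟩,
      ⟨(x i)⁻¹, inv_mem (mem_Hk x (by omega)), by simp [cs_top]⟩⟩
  | succ d ih =>
    intro i j hj hij
    obtain ⟨-, h, hh, e⟩ := ih i (j + 1) (by omega) (by omega)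
    have e1 : cs x k j * x i = h * cs x k j := by
      rw [cs_step x (by omega : j ≤ k), mul_assoc, swap_far x h2 h22 hij (by omega), ← mul_assoc, e,
        mul_assoc]
    refine ⟨⟨h, hh, e1⟩, ⟨h⁻¹, inv_mem hh, ?_⟩⟩
    calc cs x k j * (x i)⁻¹ = h⁻¹ * (h * cs x k j) * (x i)⁻¹ := by group
      _ = h⁻¹ * cs x k j := by rw [← e1]; group

include h2 h33 h22 in
theorem near (k : ℕ) (hk : k < m) : ∀ d i j, i = j + 1 + d → 1 ≤ j → i ≤ k →
    ∃ h ∈ Hk x k, cs x k j * x i = h * cs x k j := by
  intro d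
  induction d with
  | zero =>
    intro i j hi hj1 hik
    subst hi
    have hbr := h33 j (by omega)
    have ha := inv_eq x h2 hj1 (by omega)
    have hb := inv_eq x h2 (show 1 ≤ j + 1 by omega) (by omega)
    have e : x (j + 1) * x j * x (j + 1) = x j * x (j + 1) * x j := by
      rw [pow_three] at hbr
      calc x (j + 1) * x j * x (j + 1) = (x j)⁻¹ * (x j * x (j + 1) * (x j * x (j + 1) * (x j * x (j + 1)))) *
            ((x (j + 1))⁻¹ * (x j)⁻¹) * 1 := by group
        _ = x j * x (j + 1) * x j := by rw [hbr, ha, hb]; group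
    obtain ⟨⟨h, hh, e'⟩, -⟩ := far x h2 h22 k hk (k - 1 - j) j (j + 1 + 1) (by omega) (by omega)
    refine ⟨h, hh, ?_⟩
    rw [cs_step x (by omega : j ≤ k), cs_step x (by omega : j + 1 ≤ k)]
    calc cs x k (j + 1 + 1) * x (j + 1) * x j * x (j + 1)
        = cs x k (j + 1 + 1) * (x (j + 1) * x j * x (j + 1)) := by group
      _ = cs x k (j + 1 + 1) * x j * (x (j + 1) * x j) := by rw [e]; group
      _ = h * (cs x k (j + 1 + 1) * x (j + 1) * x j) := by rw [e']; group
  | succ d ih =>
    intro i j hi hj1 hik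
    obtain ⟨h, hh, e⟩ := ih i (j + 1) (by omega) (by omega) hik
    refine ⟨h, hh, ?_⟩
    have hc : x i * x j = (x j)⁻¹ * x i := swap_far x h2 h22 (by omega) (by omega)
    rw [inv_eq x h2 hj1 (by omega)] at hc
    rw [cs_step x (by omega : j ≤ k), mul_assoc, ← hc, ← mul_assoc, e, mul_assoc]

include h3 h2 h33 h22 in
theorem card_bound : ∀ k, k ≤ m → ((Hk x k : Set G)).Finite ∧
    2 * Nat.card (Hk x k) ≤ (k + 2).factorial := by
  classical
  intro k
  induction k with
  | zero =>
    intro _
    have h0 : Hk x 0 = ⊥ := by simp [Hk]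
    rw [h0]
    exact ⟨by simp, by simp⟩
  | succ k ih =>
    intro hk
    obtain ⟨hfin, hcard⟩ := ih (by omega)
    set C : Finset G := (Finset.range (k + 2)).image (cs x k) ∪ {cs x k 1 * (x 0)⁻¹} with hC
    have hCc : C.card ≤ k + 3 := le_trans (Finset.card_union_le _ _)
      (by have := Finset.card_image_le (s := Finset.range (k + 2)) (f := cs x k); simp at this ⊢; omega)
    set S : Finset G := (hfin.toFinset ×ˢ C).image (fun z => z.1 * z.2) with hS
    have memS : ∀ h ∈ Hk x k, ∀ c ∈ C, h * c ∈ S := fun h hh c hc =>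
      Finset.mem_image.2 ⟨(h, c), Finset.mem_product.2 ⟨hfin.mem_toFinset.2 hh, hc⟩, rfl⟩
    have hcsC : ∀ j, j ≤ k + 1 → cs x k j ∈ C := fun j hj => Finset.mem_union_left _
      (Finset.mem_image_of_mem _ (Finset.mem_range.2 (by omega)))
    have hc'C : cs x k 1 * (x 0)⁻¹ ∈ C := Finset.mem_union_right _ (Finset.mem_singleton_self _)
    have h00 : (x 0)⁻¹ * (x 0)⁻¹ = x 0 := by
      rw [pow_three] at h3
      calc (x 0)⁻¹ * (x 0)⁻¹ = (x 0)⁻¹ * (x 0)⁻¹ * (x 0 * (x 0 * x 0)) := by rw [h3, mul_one]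
        _ = x 0 := by group
    have h00' : x 0 * x 0 = (x 0)⁻¹ := by
      rw [pow_three] at h3
      exact eq_inv_of_mul_eq_one_right h3
    -- right multiplication on representatives
    have step : ∀ c ∈ C, ∀ i, i ≤ k → ∃ h ∈ Hk x k, ∃ c' ∈ C, c * x i = h * c' := by
      intro c hc i hi
      rcases Finset.mem_union.1 hc with hc | hc
      · obtain ⟨j, hj, rfl⟩ := Finset.mem_image.1 hc
        rw [Finset.mem_range] at hj
        rcases Nat.lt_trichotomy (i + 1) j with hlt | heq | hgt
        · obtain ⟨⟨h, hh, e⟩, -⟩ := far x h2 h22 k (by omega) (k + 1 - j) i j (by omega) hlt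
          exact ⟨h, hh, _, hcsC j (by omega), e⟩
        · subst heq
          exact ⟨1, one_mem _, _, hcsC i (by omega), by rw [one_mul, cs_step x hi]⟩
        · rcases Nat.eq_zero_or_pos j with rfl | hj1
          · rw [cs_step x (Nat.zero_le k)]
            rcases Nat.eq_zero_or_pos i with rfl | hi1
            · exact ⟨1, one_mem _, _, hc'C, by rw [one_mul, mul_assoc, h00']⟩
            rcases (show i = 1 ∨ 1 < i by omega) with rfl | hi2
            · have e : x 1 * x 0 * x 1 = (x 0)⁻¹ * x 1 * (x 0)⁻¹ := by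
                have hb := inv_eq x h2 le_rfl (show 1 < m by omega)
                have hbr := h33 0 (by omega)
                rw [Nat.zero_add, pow_three] at hbr
                calc x 1 * x 0 * x 1 = (x 0)⁻¹ * (x 0 * x 1 * (x 0 * x 1 * (x 0 * x 1))) * ((x 1)⁻¹ * (x 0)⁻¹) := by
                      group
                  _ = (x 0)⁻¹ * x 1 * (x 0)⁻¹ := by rw [hbr, hb]; group
              obtain ⟨-, h, hh, e'⟩ := far x h2 h22 k (by omega) (k - 1) 0 2 (by omega) (by omega)
              refine ⟨h, hh, _, hc'C, ?_⟩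
              rw [cs_step x hi]
              calc cs x k (1 + 1) * x 1 * x 0 * x 1 = cs x k (1 + 1) * (x 1 * x 0 * x 1) := by group
                _ = cs x k (1 + 1) * (x 0)⁻¹ * (x 1 * (x 0)⁻¹) := by rw [e]; group
                _ = h * (cs x k (1 + 1) * x 1 * (x 0)⁻¹) := by rw [e']; group
            · obtain ⟨h, hh, e⟩ := near x h2 h33 h22 k (by omega) (i - 2) i 1 (by omega) le_rfl hi
              refine ⟨h, hh, _, hc'C, ?_⟩
              have hc2 : x 0 * x i = x i * (x 0)⁻¹ := by
                have h := swap_far x h2 h22 (show 0 + 1 < i by omega) (show i < m by omega)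
                calc x 0 * x i = x 0 * (x i * x 0) * (x 0)⁻¹ := by group
                  _ = x i * (x 0)⁻¹ := by rw [h]; group
              rw [mul_assoc, hc2, ← mul_assoc, e, mul_assoc]
          · rcases (show i = j ∨ j < i by omega) with rfl | hji
            · refine ⟨1, one_mem _, _, hcsC (i + 1) (by omega), ?_⟩
              rw [one_mul, cs_step x hi, mul_assoc, ← pow_two, h2 i hj1 (by omega), mul_one]
            · obtain ⟨h, hh, e⟩ := near x h2 h33 h22 k (by omega) (i - j - 1) i j (by omega) hj1 hi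
              exact ⟨h, hh, _, hcsC j (by omega), e⟩
      · rw [Finset.mem_singleton] at hc
        subst hc
        rcases Nat.eq_zero_or_pos i with rfl | hi1
        · exact ⟨1, one_mem _, _, hcsC 1 (by omega), by rw [one_mul, inv_mul_cancel_right]⟩
        rcases (show i = 1 ∨ 1 < i by omega) with rfl | hi2
        · have e : x 1 * (x 0)⁻¹ * x 1 = x 0 * x 1 * x 0 := by
            have hb := inv_eq x h2 le_rfl (show 1 < m by omega)
            have hbr := h33 0 (by omega)
            rw [Nat.zero_add, pow_three] at hbr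
            calc x 1 * (x 0)⁻¹ * x 1 = (x 0 * x 1 * (x 0 * x 1 * (x 0 * x 1))) * ((x 1)⁻¹ * (x 0)⁻¹ * (x 1)⁻¹) := by
                  rw [hbr, hb, one_mul]
              _ = x 0 * x 1 * x 0 := by group
          obtain ⟨⟨h, hh, e'⟩, -⟩ := far x h2 h22 k (by omega) (k - 1) 0 2 (by omega) (by omega)
          refine ⟨h, hh, _, hcsC 0 (by omega), ?_⟩
          rw [cs_step x (Nat.zero_le k), cs_step x hi]
          calc cs x k (1 + 1) * x 1 * (x 0)⁻¹ * x 1 = cs x k (1 + 1) * (x 1 * (x 0)⁻¹ * x 1) := by group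
            _ = cs x k (1 + 1) * x 0 * (x 1 * x 0) := by rw [e]; group
            _ = h * (cs x k (1 + 1) * x 1 * x 0) := by rw [e']; group
        · obtain ⟨h, hh, e⟩ := near x h2 h33 h22 k (by omega) (i - 2) i 1 (by omega) le_rfl hi
          refine ⟨h, hh, _, hcsC 0 (by omega), ?_⟩
          have hc2 : (x 0)⁻¹ * x i = x i * x 0 := (swap_far x h2 h22 (show 0 + 1 < i by omega) (show i < m by omega)).symm
          rw [cs_step x (Nat.zero_le k), mul_assoc, hc2, ← mul_assoc, e, mul_assoc]
    have stepS : ∀ g ∈ S, ∀ i, i ≤ k → g * x i ∈ S := by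
      intro g hg i hi
      obtain ⟨⟨h, c⟩, hz, rfl⟩ := Finset.mem_image.1 hg
      obtain ⟨hh, hc⟩ := Finset.mem_product.1 hz
      obtain ⟨h', hh', c', hc', e⟩ := step c hc i hi
      show h * c * x i ∈ S
      rw [mul_assoc, e, ← mul_assoc]
      exact memS _ (mul_mem (hfin.mem_toFinset.1 hh) hh') _ hc'
    have hsub : (Hk x (k + 1) : Set G) ⊆ (S : Set G) := by
      intro g hg
      induction (show g ∈ Subgroup.closure (x '' {i | i < k + 1}) from hg) using
          Subgroup.closure_induction_right with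
      | one => simpa [cs_top] using memS 1 (one_mem _) _ (hcsC (k + 1) le_rfl)
      | mul_right a _ y hy iha =>
        obtain ⟨i, hi, rfl⟩ := hy
        exact stepS a (iha (by assumption)) i (Nat.lt_succ_iff.1 hi)
      | mul_inv_cancel a _ y hy iha =>
        obtain ⟨i, hi, rfl⟩ := hy
        rcases Nat.eq_zero_or_pos i with rfl | hi1
        · rw [← h00', ← mul_assoc]
          exact stepS _ (stepS a (iha (by assumption)) 0 (Nat.zero_le k)) 0 (Nat.zero_le k)
        · have hi' : i < k + 1 := hi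
          rw [inv_eq x h2 hi1 (show i < m by omega)]
          exact stepS a (iha (by assumption)) i (Nat.lt_succ_iff.1 hi)
    refine ⟨S.finite_toSet.subset hsub, ?_⟩
    have e1 : Nat.card (Hk x (k + 1)) ≤ S.card := by
      rw [← Set.ncard_coe_finset, show Nat.card (Hk x (k + 1)) = (Hk x (k + 1) : Set G).ncard from
        Nat.card_coe_set_eq _]
      exact Set.ncard_le_ncard hsub S.finite_toSet
    have e2 : S.card ≤ Nat.card (Hk x k) * (k + 3) := by
      refine Finset.card_image_le.trans ?_
      rw [Finset.card_product]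
      refine Nat.mul_le_mul (le_of_eq ?_) hCc
      rw [← Set.ncard_eq_toFinset_card _ hfin, ← Nat.card_coe_set_eq]
      rfl
    calc 2 * Nat.card (Hk x (k + 1)) ≤ 2 * Nat.card (Hk x k) * (k + 3) := by
          rw [mul_assoc]; exact Nat.mul_le_mul_left 2 (e1.trans e2)
      _ ≤ (k + 2).factorial * (k + 3) := Nat.mul_le_mul_right _ hcard
      _ = (k + 1 + 2).factorial := by
          conv_rhs => rw [show k + 1 + 2 = (k + 2) + 1 by omega, Nat.factorial_succ]
          ring

end count

theorem key (m : ℕ) (hm : 1 ≤ m) :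
    Nonempty (PresentedGroup
      ({g : FreeGroup (Fin m) | ∃ i : Fin m, i.val = 0 ∧ g = FreeGroup.of i ^ 3} ∪
       {g | ∃ i : Fin m, 1 ≤ i.val ∧ g = FreeGroup.of i ^ 2} ∪
       {g | ∃ i j : Fin m, j.val = i.val + 1 ∧ g = (FreeGroup.of i * FreeGroup.of j) ^ 3} ∪
       {g | ∃ i j : Fin m, i.val + 1 < j.val ∧ g = (FreeGroup.of i * FreeGroup.of j) ^ 2})
      ≃* alternatingGroup (Fin (m + 2))) := by
  classical
  set rels := ({g : FreeGroup (Fin m) | ∃ i : Fin m, i.val = 0 ∧ g = FreeGroup.of i ^ 3} ∪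
       {g | ∃ i : Fin m, 1 ≤ i.val ∧ g = FreeGroup.of i ^ 2} ∪
       {g | ∃ i j : Fin m, j.val = i.val + 1 ∧ g = (FreeGroup.of i * FreeGroup.of j) ^ 3} ∪
       {g | ∃ i j : Fin m, i.val + 1 < j.val ∧ g = (FreeGroup.of i * FreeGroup.of j) ^ 2}) with hrels
  let x : ℕ → PresentedGroup rels := fun i => if h : i < m then PresentedGroup.of ⟨i, h⟩ else 1
  have hone : ∀ r ∈ rels, PresentedGroup.mk rels r = 1 := fun r hr =>
    PresentedGroup.one_of_mem hr
  have hx : ∀ i (h : i < m), x i = PresentedGroup.mk rels (FreeGroup.of ⟨i, h⟩) := fun i h => dif_pos h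
  have h3 : x 0 ^ 3 = 1 := by
    rw [hx 0 hm, ← map_pow]
    exact hone _ (Or.inl (Or.inl (Or.inl ⟨_, rfl, rfl⟩)))
  have h2 : ∀ i, 1 ≤ i → i < m → x i ^ 2 = 1 := fun i h1 hi => by
    rw [hx i hi, ← map_pow]
    exact hone _ (Or.inl (Or.inl (Or.inr ⟨_, h1, rfl⟩)))
  have h33 : ∀ i, i + 1 < m → (x i * x (i + 1)) ^ 3 = 1 := fun i hi => by
    rw [hx i (by omega), hx (i + 1) hi, ← map_mul, ← map_pow]
    exact hone _ (Or.inl (Or.inr ⟨_, _, rfl, rfl⟩))
  have h22 : ∀ i j, i + 1 < j → j < m → (x i * x j) ^ 2 = 1 := fun i j hij hj => by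
    rw [hx i (by omega), hx j hj, ← map_mul, ← map_pow]
    exact hone _ (Or.inr ⟨_, _, hij, rfl⟩)
  obtain ⟨hfin, hcard⟩ := card_bound x h3 h2 h33 h22 m le_rfl
  have htop : Hk x m = ⊤ := by
    rw [eq_top_iff]
    intro g _
    exact PresentedGroup.generated_by rels (Hk x m) (fun j => by
      have := mem_Hk x j.2
      rwa [show x j.1 = PresentedGroup.of j from dif_pos j.2] at this) g
  haveI : Finite (PresentedGroup rels) := by
    have h : (Set.univ : Set (PresentedGroup rels)).Finite := by
      rw [← Subgroup.coe_top, ← htop]; exact hfin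
    exact Set.finite_univ_iff.1 h
  rw [htop, Subgroup.card_top] at hcard
  -- the map to the alternating group
  let s : Fin (m + 1) → Perm (Fin (m + 2)) := fun i => swap i.castSucc i.succ
  let a : Fin m → alternatingGroup (Fin (m + 2)) := fun i => ⟨s 0 * s i.succ, by
    rw [Perm.mem_alternatingGroup, map_mul, Perm.sign_swap, Perm.sign_swap]
    · decide
    · exact (Fin.castSucc_lt_succ (i := i.succ)).ne
    · exact (Fin.castSucc_lt_succ (i := (0 : Fin (m + 1)))).ne⟩
  have hs : ∀ i, s i * s i = 1 := fun i => swap_mul_self _ _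
  have hsc : ∀ i j : Fin (m + 1), i.val + 1 < j.val → s i * s j = s j * s i := by
    intro i j hij
    refine (Perm.Disjoint.commute ?_).eq
    intro y
    by_cases hy : y = i.castSucc ∨ y = i.succ
    · refine Or.inr (swap_apply_of_ne_of_ne ?_ ?_) <;>
        (intro he; rcases hy with rfl | rfl <;> simp [Fin.ext_iff] at he <;> omega)
    · rw [not_or] at hy
      exact Or.inl (swap_apply_of_ne_of_ne hy.1 hy.2)
  have hsb : ∀ i j : Fin (m + 1), j.val = i.val + 1 → (s i * s j) ^ 3 = 1 := by
    intro i j hij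
    have e : i.succ = j.castSucc := Fin.ext (by simp [hij])
    have h := (Perm.isThreeCycle_swap_mul_swap_same (α := Fin (m + 2)) (a := j.castSucc)
      (b := i.castSucc) (c := j.succ) (by simp [Fin.ext_iff]; omega) (by simp [Fin.ext_iff])
      (by simp [Fin.ext_iff]; omega)).orderOf
    have h' : s i * s j = swap j.castSucc i.castSucc * swap j.castSucc j.succ := by
      show swap i.castSucc i.succ * swap j.castSucc j.succ = _
      rw [e, swap_comm]
    rw [h', ← h]
    exact pow_orderOf_eq_one _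
  have hlift : ∀ r ∈ rels, FreeGroup.lift a r = 1 := by
    intro r hr
    apply Subtype.ext
    have hsz : ∀ j : Fin m, 1 ≤ j.val → s 0 * s j.succ = s j.succ * s 0 := fun j hj =>
      hsc 0 j.succ (by simp; omega)
    rcases hr with ((⟨i, hi, rfl⟩ | ⟨i, hi, rfl⟩) | ⟨i, j, hij, rfl⟩) | ⟨i, j, hij, rfl⟩
    · simp only [map_pow, FreeGroup.lift_apply_of, SubgroupClass.coe_pow, OneMemClass.coe_one]
      exact hsb 0 i.succ (by simp [hi])
    · simp only [map_pow, FreeGroup.lift_apply_of, SubgroupClass.coe_pow, OneMemClass.coe_one]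
      show (s 0 * s i.succ) ^ 2 = 1
      rw [(show Commute (s 0) (s i.succ) from hsz i hi).mul_pow, pow_two, pow_two, hs, hs, one_mul]
    · simp only [map_pow, map_mul, FreeGroup.lift_apply_of, SubgroupClass.coe_pow, MulMemClass.coe_mul,
        OneMemClass.coe_one]
      show (s 0 * s i.succ * (s 0 * s j.succ)) ^ 3 = 1
      rcases Nat.eq_zero_or_pos i.val with hi | hi
      · have hc : Commute (s 0) (s j.succ) := hsz j (by omega)
        rw [show s 0 * s i.succ * (s 0 * s j.succ) = s 0 * (s i.succ * s j.succ) * (s 0)⁻¹ by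
          rw [inv_eq_of_mul_eq_one_right (hs 0), hc.eq]; group, conj_pow, hsb i.succ j.succ (by simp; omega)]
        group
      · have hc : Commute (s 0) (s i.succ) := hsz i hi
        rw [show s 0 * s i.succ * (s 0 * s j.succ) = s i.succ * s j.succ by
          rw [hc.eq, mul_assoc, ← mul_assoc (s 0), hs, one_mul]]
        exact hsb i.succ j.succ (by simp; omega)
    · simp only [map_pow, map_mul, FreeGroup.lift_apply_of, SubgroupClass.coe_pow, MulMemClass.coe_mul,
        OneMemClass.coe_one]
      show (s 0 * s i.succ * (s 0 * s j.succ)) ^ 2 = 1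
      have hij' : Commute (s i.succ) (s j.succ) := hsc i.succ j.succ (by simp; omega)
      rcases Nat.eq_zero_or_pos i.val with hi | hi
      · have hc : Commute (s 0) (s j.succ) := hsz j (by omega)
        rw [show s 0 * s i.succ * (s 0 * s j.succ) = s 0 * (s i.succ * s j.succ) * (s 0)⁻¹ by
          rw [inv_eq_of_mul_eq_one_right (hs 0), hc.eq]; group, conj_pow, hij'.mul_pow, pow_two, pow_two, hs, hs]
        group
      · have hc : Commute (s 0) (s i.succ) := hsz i hi
        rw [show s 0 * s i.succ * (s 0 * s j.succ) = s i.succ * s j.succ by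
          rw [hc.eq, mul_assoc, ← mul_assoc (s 0), hs, one_mul]]
        rw [hij'.mul_pow, pow_two, pow_two, hs, hs, one_mul]
  let φ := PresentedGroup.toGroup hlift
  have hφ : ∀ i : Fin m, ((φ (PresentedGroup.of i) : alternatingGroup (Fin (m + 2))) : Perm (Fin (m + 2))) =
      s 0 * s i.succ := fun i => by simp only [φ, PresentedGroup.toGroup.of]; rfl
  set R : Subgroup (Perm (Fin (m + 2))) := φ.range.map (alternatingGroup (Fin (m + 2))).subtype with hR
  have hgen : ∀ i : Fin m, s 0 * s i.succ ∈ R := fun i => by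
    rw [← hφ i]; exact Subgroup.mem_map_of_mem _ ⟨PresentedGroup.of i, rfl⟩
  have hgen' : ∀ j : Fin (m + 1), s 0 * s j ∈ R ∧ s j * s 0 ∈ R := by
    intro j
    induction j using Fin.cases with
    | zero => rw [hs]; exact ⟨one_mem R, one_mem R⟩
    | succ i =>
      refine ⟨hgen i, ?_⟩
      have := R.inv_mem (hgen i)
      rwa [mul_inv_rev, inv_eq_of_mul_eq_one_right (hs _), inv_eq_of_mul_eq_one_right (hs _)] at this
  have hall : ∀ g : Perm (Fin (m + 2)), g ∈ R ∨ g * s 0 ∈ R := by
    intro g
    have hg : g ∈ Submonoid.closure (Set.range s) := by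
      rw [Perm.mclosure_swap_castSucc_succ]; exact Submonoid.mem_top g
    induction hg using Submonoid.closure_induction_right with
    | one => exact Or.inl (one_mem R)
    | mul_right a _ y hy iha =>
      obtain ⟨j, rfl⟩ := hy
      rcases iha with h | h
      · exact Or.inr (by rw [mul_assoc]; exact mul_mem h (hgen' j).2)
      · refine Or.inl ?_
        have := mul_mem h (hgen' j).1
        rwa [mul_assoc, ← mul_assoc (s 0), hs, one_mul] at this
  have hsurj : Function.Surjective φ := by
    intro g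
    rcases hall g with h | h
    · obtain ⟨y, ⟨z, rfl⟩, hy⟩ := h
      exact ⟨z, Subtype.ext hy⟩
    · exfalso
      obtain ⟨y, -, hy⟩ := h
      have h1 : Perm.sign ((g : Perm (Fin (m + 2))) * s 0) = 1 := by
        rw [← hy]; exact Perm.mem_alternatingGroup.1 y.2
      rw [map_mul, Perm.mem_alternatingGroup.1 g.2, Perm.sign_swap (Fin.castSucc_lt_succ (i := (0 : Fin (m + 1)))).ne] at h1
      exact absurd h1 (by decide)
  refine ⟨MulEquiv.ofBijective φ ((Nat.bijective_iff_surjective_and_card _).2 ⟨hsurj, ?_⟩)⟩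
  refine le_antisymm ?_ (Nat.card_le_card_of_surjective φ hsurj)
  haveI : Nontrivial (Fin (m + 2)) := Fin.nontrivial_iff_two_le.2 (by omega)
  have h4 := two_mul_nat_card_alternatingGroup (α := Fin (m + 2))
  rw [Nat.card_perm, Nat.card_eq_fintype_card (α := Fin (m + 2)), Fintype.card_fin] at h4
  omega

/-- A presentation of the alternating group of degree n ≥ 3 on generators x_1, …, x_{n−2} (indexed here by 0, …, n−3): the first generator cubes to 1, every other generator squares to 1, the product of two consecutive generators has order dividing 3, and the product of two generators at distance at least 2 has order dividing 2. The group so presented is isomorphic to the alternating group of degree n. -/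
theorem result (n : ℕ) (hn : 3 ≤ n) :
    Nonempty (PresentedGroup
      ({g : FreeGroup (Fin (n - 2)) | ∃ i : Fin (n - 2), i.val = 0 ∧ g = FreeGroup.of i ^ 3} ∪
       {g | ∃ i : Fin (n - 2), 1 ≤ i.val ∧ g = FreeGroup.of i ^ 2} ∪
       {g | ∃ i j : Fin (n - 2), j.val = i.val + 1 ∧ g = (FreeGroup.of i * FreeGroup.of j) ^ 3} ∪
       {g | ∃ i j : Fin (n - 2), i.val + 1 < j.val ∧ g = (FreeGroup.of i * FreeGroup.of j) ^ 2})
      ≃* alternatingGroup (Fin n)) := by
  obtain ⟨m, rfl⟩ : ∃ m, n = m + 2 := ⟨n - 2, by omega⟩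
  exact key m (by omega)

end Cfsg.Agent.S3335
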