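import Cfsg.Statements.S3349
import Cfsg.Agent.Lib.Solv.ExtraspecialTwo
-- import your own Cfsg.Agent.* helpers here

set_option autoImplicit false
open Cfsg

namespace Cfsg.Agent.S3349

open Subgroup Cfsg.Agent.Solv.ESClass
open scoped commutatorElement


/-- Let Q be a finite extraspecial p-group and α an automorphism of Q fixing every element of some maximal abelian subgroup of Q. Then the order of α is a power of p. -/
theorem result {Q : Type*} [Group Q] [Finite Q]
    (p : ℕ) [Fact p.Prime] (hQ : Cfsg.IsExtraspecial p Q) (α : MulAut Q)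
    (A : Subgroup Q) (hA : IsMulCommutative A) (hmax : ∀ B : Subgroup Q, A ≤ B → IsMulCommutative B → B = A)
    (hfix : ∀ a ∈ A, α a = a) :
    ∃ k : ℕ, orderOf α = p ^ k := by
  obtain ⟨D⟩ := ES.exists_of hQ
  have hAc : ∀ x ∈ A, ∀ y ∈ A, x * y = y * x := fun x hx y hy =>
    congrArg Subtype.val (hA.is_comm.comm ⟨x, hx⟩ ⟨y, hy⟩)
  have hcA : ∀ u : Q, (∀ a ∈ A, u * a = a * u) → u ∈ A := by
    intro u hu
    have hc : ∀ x ∈ Subgroup.closure ((A : Set Q) ∪ {u}), ∀ y ∈ Subgroup.closure ((A : Set Q) ∪ {u}), x * y = y * x := by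
      intro x hx y hy
      have hgen : ∀ s ∈ (A : Set Q) ∪ {u}, ∀ t ∈ (A : Set Q) ∪ {u}, s * t = t * s := by
        rintro s (hs | rfl) t (ht | rfl)
        · exact hAc s hs t ht
        · exact (hu s hs).symm
        · exact hu t ht
        · rfl
      haveI := Subgroup.isMulCommutative_closure hgen
      exact congrArg Subtype.val (mul_comm' (⟨x, hx⟩ : Subgroup.closure ((A : Set Q) ∪ {u})) ⟨y, hy⟩)
    have := hmax _ (fun a ha => Subgroup.subset_closure (Or.inl ha)) ⟨⟨fun x y => Subtype.ext (hc x x.2 y y.2)⟩⟩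
    rw [← this]
    exact Subgroup.subset_closure (Or.inr rfl)
  have hzA : D.z ∈ A := hcA _ fun a _ => D.cent a
  have hstep : ∀ x, α x * x⁻¹ ∈ A := by
    intro x
    refine hcA _ fun a ha => ?_
    obtain ⟨k, hk⟩ := mem_zpowers_iff.mp (D.comm a x)
    have h1 : ⁅a, α x⁆ = ⁅a, x⁆ := by
      have h2 : α ⁅a, x⁆ = ⁅a, x⁆ := by rw [← hk, map_zpow, hfix _ hzA]
      rwa [map_commutatorElement, hfix a ha] at h2
    have h3 : ⁅a, α x * x⁻¹⁆ = 1 := by
      rw [D.c_mul, h1, ← D.c_mul, mul_inv_cancel]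
      exact commutatorElement_one_right a
    exact (commutatorElement_eq_one_iff_mul_comm.mp h3).symm
  obtain ⟨k, hk⟩ := IsPGroup.iff_card.mp (hQ.1.1.to_subgroup A)
  have hpow : ∀ (m : ℕ) (x : Q), (α ^ m) x = (α x * x⁻¹) ^ m * x := by
    intro m
    induction m with
    | zero => intro x; simp
    | succ m ih =>
      intro x
      rw [pow_succ', MulAut.mul_apply, ih, map_mul, hfix _ (A.pow_mem (hstep x) m), pow_succ, mul_assoc,
        inv_mul_cancel_right]
  obtain ⟨j, -, hj⟩ := (Nat.dvd_prime_pow (Fact.out : p.Prime)).mp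
    (orderOf_dvd_of_pow_eq_one (x := α) (n := p ^ k) (MulEquiv.ext fun x => by
      rw [hpow, MulAut.one_apply]
      have : (⟨_, hstep x⟩ : A) ^ p ^ k = 1 := by rw [← hk]; exact pow_card_eq_one'
      have h4 := congrArg Subtype.val this
      simp only [SubmonoidClass.coe_pow, OneMemClass.coe_one] at h4
      rw [h4, one_mul]))
  exact ⟨j, hj⟩

end Cfsg.Agent.S3349
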