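import Cfsg.Statements.S3370
import Cfsg.Agent.Lib.Struct.UniqueOrderP
import Cfsg.Agent.Lib.Fusion.GLTwoSylow
-- import your own Cfsg.Agent.* helpers here

set_option autoImplicit false
open Cfsg

namespace Cfsg.Agent.S3370

/-- A power of two next to a power of a prime. -/
theorem mersenne {p a d : ℕ} (hp : p.Prime) (hd : 2 ≤ d) (h : 2 ^ d = p ^ a + 1) : a = 1 := by
  have hp2 : p ≠ 2 := by
    intro e
    subst e
    rcases a with _ | a
    · have : 2 ^ 2 ≤ 2 ^ d := Nat.pow_le_pow_right (by norm_num) hd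
      omega
    · have h1 : 2 ∣ 2 ^ d := dvd_pow_self 2 (by omega)
      rw [h, pow_succ] at h1
      omega
  have hodd : Odd a := by
    rcases Nat.even_or_odd a with ⟨b, hb⟩ | ho
    · exfalso
      have hpo : p % 2 = 1 := (hp.eq_two_or_odd).resolve_left hp2
      have h4 : 4 ∣ 2 ^ d := (pow_dvd_pow 2 hd : 2 ^ 2 ∣ 2 ^ d)
      have h1 : (p ^ b * p ^ b) % 4 = 1 := by
        have hx : (p ^ b) % 2 = 1 := by rw [Nat.pow_mod, hpo, one_pow]; rfl
        obtain ⟨t, ht⟩ : ∃ t, p ^ b = 2 * t + 1 := ⟨p ^ b / 2, by omega⟩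
        rw [ht, show (2 * t + 1) * (2 * t + 1) = 4 * (t * t + t) + 1 by ring]
        omega
      rw [h, hb, pow_add] at h4
      omega
    · exact ho
  have hdvd : p + 1 ∣ 2 ^ d := by
    rw [h]
    simpa using hodd.nat_add_dvd_pow_add_pow p 1
  obtain ⟨i, hid, hi⟩ := (Nat.dvd_prime_pow Nat.prime_two).1 hdvd
  have hi1 : 1 ≤ i := by
    rcases i with _ | i
    · have := hp.two_le; omega
    · omega
  by_cases hbig : d < 2 * i
  · by_contra hne
    have ha3 : 3 ≤ a := by
      obtain ⟨k, rfl⟩ := hodd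
      omega
    have h1 : 2 ^ d * 2 ≤ 2 ^ (2 * i) := by rw [← pow_succ]; exact Nat.pow_le_pow_right (by norm_num) hbig
    have h2 : p ^ 3 ≤ p ^ a := Nat.pow_le_pow_right hp.pos ha3
    have h3 : (2 ^ (2 * i) : ℕ) = (p + 1) * (p + 1) := by rw [hi, two_mul, pow_add]
    have h4 : 3 ≤ p := by have := hp.two_le; omega
    have h5 : 9 * p ≤ p ^ 3 := by
      rw [show p ^ 3 = p * p * p by ring]
      exact Nat.mul_le_mul_right p (Nat.mul_le_mul h4 h4)
    nlinarith
  · exfalso
    have hz : ((p : ℤ) + 1) ^ 2 ∣ (p : ℤ) ^ a + 1 := by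
      have h0 : (p + 1) ^ 2 ∣ p ^ a + 1 := by
        rw [hi, ← pow_mul, ← h]
        exact pow_dvd_pow 2 (by omega)
      exact_mod_cast h0
    have hexp : ∀ k : ℕ, ((p : ℤ) + 1) ^ 2 ∣ (p : ℤ) ^ (2 * k + 1) + 1 - (2 * k + 1) * ((p : ℤ) + 1) := by
      intro k
      induction k with
      | zero => simp
      | succ k ih =>
        obtain ⟨c, hc⟩ := ih
        refine ⟨c * (p : ℤ) ^ 2 - 1 + (2 * (k : ℤ) + 1) * ((p : ℤ) - 1), ?_⟩
        rw [show 2 * (k + 1) + 1 = (2 * k + 1) + 2 by ring, pow_add]
        push_cast at hc ⊢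
        linear_combination ((p : ℤ) ^ 2) * hc
    obtain ⟨k, rfl⟩ := hodd
    have h2 := dvd_sub hz (hexp k)
    rw [sub_sub_cancel, sq, mul_dvd_mul_iff_right (by positivity)] at h2
    have h3 : (2 : ℤ) ∣ (p : ℤ) + 1 := by
      have h' : 2 ∣ p + 1 := by rw [hi]; exact dvd_pow_self 2 (by omega)
      exact_mod_cast h'
    have h4 := h3.trans h2
    omega

/-- A prime power one more than a power of two. -/
theorem fermat {q d a : ℕ} (hq : q.Prime) (hd : 1 ≤ d) (h : q ^ d = 2 ^ a + 1) (hq2 : q ≠ 2) :
    d = 1 ∨ (q = 3 ∧ d = 2) := by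
  rcases Nat.even_or_odd d with ⟨b, rfl⟩ | ho
  · right
    set x := q ^ b with hx
    have hx' : x * x = 2 ^ a + 1 := by rw [hx, ← pow_add, h]
    have hx2 : 2 ≤ x := le_trans hq.two_le (Nat.le_self_pow (by omega) q)
    have hfac : (x + 1) * (x - 1) = 2 ^ a := by
      rw [show (x + 1) * (x - 1) = x ^ 2 - 1 ^ 2 from (Nat.sq_sub_sq x 1).symm, one_pow, sq, hx', Nat.add_sub_cancel]
    obtain ⟨i, -, hi⟩ := (Nat.dvd_prime_pow Nat.prime_two).1 (Dvd.intro _ hfac)
    obtain ⟨j, -, hj⟩ := (Nat.dvd_prime_pow Nat.prime_two).1 (Dvd.intro_left _ hfac)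
    have hj1 : j ≤ 1 := by
      by_contra hj1
      have h4 : 4 ∣ x - 1 := by rw [hj]; exact (pow_dvd_pow 2 (by omega : 2 ≤ j))
      have h4' : 4 ∣ x + 1 := by
        rw [hi]
        refine (pow_dvd_pow 2 ?_ : 2 ^ 2 ∣ 2 ^ i)
        by_contra hi2
        have hi' : 2 ^ i ≤ 2 ^ 1 := Nat.pow_le_pow_right (by norm_num) (by omega)
        omega
      omega
    have hx3 : x = 3 := by
      rcases j with _ | _ | j
      · exfalso
        have hxe : x = 2 := by rw [pow_zero] at hj; omega
        have : 2 ∣ q := Nat.prime_two.dvd_of_dvd_pow (n := b) (by rw [← hx, hxe])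
        exact hq2 ((Nat.prime_dvd_prime_iff_eq Nat.prime_two hq).1 this).symm
      · rw [zero_add, pow_one] at hj; omega
      · omega
    have hq3 : q = 3 := ((Nat.prime_dvd_prime_iff_eq hq Nat.prime_three).1
      (by rw [← hx3, hx]; exact dvd_pow_self q (by omega)))
    refine ⟨hq3, ?_⟩
    rw [hq3] at hx
    have hb : 3 ^ b = 3 ^ 1 := by rw [← hx, hx3, pow_one]
    have := Nat.pow_right_injective (by norm_num : 2 ≤ 3) hb
    omega
  · left
    have h1 := geom_sum_mul_add (q - 1) d
    rw [show q - 1 + 1 = q by have := hq.two_le; omega, h] at h1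
    have h2 : (∑ i ∈ Finset.range d, q ^ i) * (q - 1) = 2 ^ a := by omega
    obtain ⟨i, -, hi⟩ := (Nat.dvd_prime_pow Nat.prime_two).1 (Dvd.intro _ h2)
    have hoddsum : (∑ i ∈ Finset.range d, q ^ i) % 2 = 1 := by
      rw [Finset.sum_nat_mod, Finset.sum_congr rfl (g := fun _ => 1) (fun i _ => by
        rw [Nat.pow_mod, hq.eq_two_or_odd.resolve_left hq2, one_pow]; rfl), Finset.sum_const, Finset.card_range,
        smul_eq_mul, mul_one]
      exact Nat.odd_iff.1 ho
    have hi0 : i = 0 := by
      rcases i with _ | i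
      · rfl
      · rw [hi, pow_succ] at hoddsum; omega
    rw [hi0, pow_zero] at hi
    by_contra hne
    obtain ⟨d', rfl⟩ : ∃ d', d = d' + 2 := ⟨d - 2, by omega⟩
    rw [Finset.sum_range_succ, Finset.sum_range_succ] at hi
    have := Nat.pow_pos (n := d' + 1) hq.pos
    have := Nat.pow_pos (n := d') hq.pos
    omega


/-- Let q be a prime, V a non-trivial finite vector space over the field with q elements, and G a non-trivial finite p-group (p prime) acting faithfully and linearly on V and transitively on the non-zero vectors. Then either q = 2 and G has prime order p = |V| − 1; or p = 2, V has q elements with q = 2^m + 1 and G is cyclic of order 2^m; or p = 2, q = 3, V has 9 elements and G is cyclic of order 8, quaternion of order 8, or semidihedral of order 16. -/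
theorem result (q : ℕ) [Fact q.Prime] {V : Type*} [AddCommGroup V] [Module (ZMod q) V] [Finite V] [Nontrivial V]
    {G : Type*} [Group G] [Finite G] [Nontrivial G] (p : ℕ) [Fact p.Prime] (hG : IsPGroup p G)
    (ρ : G →* (V ≃ₗ[ZMod q] V)) (hρ : Function.Injective ρ)
    (htrans : ∀ v w : V, v ≠ 0 → w ≠ 0 → ∃ g : G, ρ g v = w) :
    (q = 2 ∧ p = Nat.card V - 1 ∧ Nat.card G = p) ∨
    (p = 2 ∧ Nat.card V = q ∧ (∃ m : ℕ, q = 2 ^ m + 1 ∧ Nat.card G = 2 ^ m) ∧ IsCyclic G) ∨
    (p = 2 ∧ q = 3 ∧ Nat.card V = 9 ∧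
      ((IsCyclic G ∧ Nat.card G = 8) ∨ Nonempty (G ≃* QuaternionGroup 2) ∨ (Cfsg.IsQuasiDihedral G ∧ Nat.card G = 16))) := by
  skip
  classical
  have hq : q.Prime := Fact.out
  have hp : p.Prime := Fact.out
  letI : MulAction G V := MulAction.compHom V ρ
  have hsm : ∀ (g : G) (v : V), g • v = ρ g v := fun g v => rfl
  obtain ⟨v₀, hv₀⟩ := exists_ne (0 : V)
  have horb : MulAction.orbit G v₀ = {v : V | v ≠ 0} := by
    ext v
    constructor
    · rintro ⟨g, rfl⟩
      show g • v₀ ≠ 0
      rw [hsm]
      exact (ρ g).map_ne_zero_iff.2 hv₀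
    · intro hv
      obtain ⟨g, hg⟩ := htrans v₀ v hv₀ hv
      exact ⟨g, hg⟩
  set d := Module.finrank (ZMod q) V with hd
  have hcardV : Nat.card V = q ^ d := by rw [Module.natCard_eq_pow_finrank (K := ZMod q) (V := V), Nat.card_zmod]
  have hd1 : 1 ≤ d := Module.finrank_pos
  have horbc : (q ^ d - 1) * Nat.card (MulAction.stabilizer G v₀) = Nat.card G := by
    rw [← Nat.card_congr (MulAction.orbitProdStabilizerEquivGroup G v₀), Nat.card_prod, horb]
    congr 1
    haveI := Fintype.ofFinite V
    rw [← hcardV, Nat.card_eq_fintype_card, Nat.card_eq_fintype_card]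
    show Fintype.card V - 1 = Fintype.card {v : V // v ≠ 0}
    rw [Fintype.card_subtype_compl, Fintype.card_subtype_eq]
  obtain ⟨k, hk⟩ := IsPGroup.iff_card.1 hG
  obtain ⟨a, -, ha⟩ := (Nat.dvd_prime_pow hp).1 (hk ▸ Dvd.intro _ horbc)
  have hqd : q ≤ q ^ d := Nat.le_self_pow (by omega) q
  have hq2le := hq.two_le
  have hscal : d = 1 → ∀ g : G, ∃ c : ZMod q, ∀ v, ρ g v = c • v := by
    intro h1 g
    obtain ⟨c, hc⟩ := (finrank_eq_one_iff_of_nonzero' v₀ hv₀).1 h1 (ρ g v₀)
    refine ⟨c, fun v => ?_⟩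
    obtain ⟨e, rfl⟩ := (finrank_eq_one_iff_of_nonzero' v₀ hv₀).1 h1 v
    rw [map_smul, ← hc, smul_comm]
  have hG1 : 1 < Nat.card G := Finite.one_lt_card
  by_cases hq2 : q = 2
  · left
    have hd2 : 2 ≤ d := by
      by_contra hlt
      have h1 : d = 1 := by omega
      obtain ⟨g, hg⟩ := exists_ne (1 : G)
      apply hg
      apply hρ
      rw [map_one]
      obtain ⟨c, hc⟩ := hscal h1 g
      refine LinearEquiv.ext fun v => ?_
      rw [hc]
      have h0 : c ≠ 0 := fun e => hv₀ ((ρ g).map_eq_zero_iff.1 (by rw [hc, e, zero_smul]))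
      have : c = 1 := by
        subst hq2
        revert h0
        revert c
        intro c _ h0
        fin_cases c
        · exact absurd rfl h0
        · rfl
      rw [this, one_smul]
      rfl
    have h2 : 2 ^ d = p ^ a + 1 := by rw [← ha, hq2]; have := Nat.one_le_two_pow (n := d); omega
    obtain rfl := mersenne hp hd2 h2
    rw [pow_one] at ha
    refine ⟨hq2, by rw [hcardV, ha], ?_⟩
    suffices hst : Nat.card (MulAction.stabilizer G v₀) = 1 by rw [← horbc, hst, ha, mul_one]
    set H := MulAction.stabilizer G v₀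
    have hHp : IsPGroup p H := hG.to_subgroup H
    let W : Submodule (ZMod q) V :=
      { carrier := {v | ∀ h ∈ H, ρ h v = v}
        zero_mem' := fun h _ => map_zero _
        add_mem' := fun ha hb h hh => by rw [map_add, ha h hh, hb h hh]
        smul_mem' := fun c v hv h hh => by rw [map_smul, hv h hh] }
    have hmod := hHp.card_modEq_card_fixedPoints V
    have hWfix : Nat.card (MulAction.fixedPoints H V) = Nat.card W :=
      Nat.card_congr (Equiv.subtypeEquivRight fun v => ⟨fun hv h hh => hv ⟨h, hh⟩, fun hv h => hv h h.2⟩)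
    have hv₀W : v₀ ∈ W := fun h hh => hh
    have hWe : Nat.card W = 2 ^ Module.finrank (ZMod q) W := by
      rw [Module.natCard_eq_pow_finrank (K := ZMod q) (V := W), Nat.card_zmod]
      exact congrArg (· ^ _) hq2
    have hj1 : 1 ≤ Module.finrank (ZMod q) W := by
      haveI : Nontrivial W := ⟨⟨⟨v₀, hv₀W⟩, 0, fun e => hv₀ (congrArg Subtype.val e)⟩⟩
      exact Module.finrank_pos
    rw [hWfix, hcardV.trans (congrArg (· ^ d) hq2), hWe] at hmod
    have hjd : Module.finrank (ZMod q) W ≤ d := Submodule.finrank_le _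
    set j := Module.finrank (ZMod q) W with hj
    have hle : 2 ^ j ≤ 2 ^ d := Nat.pow_le_pow_right (by norm_num) hjd
    have h3 : p ∣ 2 ^ d - 2 ^ j := (Nat.modEq_iff_dvd' hle).1 hmod.symm
    have h2j : 2 ^ 1 ≤ 2 ^ j := Nat.pow_le_pow_right (by norm_num) hj1
    replace ha : 2 ^ d - 1 = p := (congrArg (fun x => x ^ d - 1) hq2).symm.trans ha
    have hjd' : j = d := by
      by_contra hne
      have hlt : 2 ^ j < 2 ^ d := Nat.pow_lt_pow_right (by norm_num) (by omega)
      have := Nat.le_of_dvd (by omega) h3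
      omega
    have htop : W = ⊤ := Submodule.eq_top_of_finrank_eq hjd'
    rw [Subgroup.card_eq_one, Subgroup.eq_bot_iff_forall]
    intro h hh
    apply hρ
    rw [map_one]
    exact LinearEquiv.ext fun v => (show v ∈ W by rw [htop]; trivial) h hh
  · right
    have hp2 : p = 2 := by
      have hodd : (q ^ d) % 2 = 1 := by rw [Nat.pow_mod, hq.eq_two_or_odd.resolve_left hq2, one_pow]; rfl
      have h2 : 2 ∣ p ^ a := by rw [← ha]; omega
      exact ((Nat.prime_dvd_prime_iff_eq Nat.prime_two hp).1 (Nat.prime_two.dvd_of_dvd_pow h2)).symm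
    subst hp2
    have h2 : q ^ d = 2 ^ a + 1 := by omega
    rcases fermat hq hd1 h2 hq2 with h1 | ⟨rfl, hdd⟩
    · left
      choose c hc using hscal h1
      let f : G →* ZMod q :=
        { toFun := c
          map_one' := smul_left_injective _ hv₀ (by simp only [one_smul]; rw [← hc, map_one]; rfl)
          map_mul' := fun x y => smul_left_injective _ hv₀ (by
            simp only
            rw [← hc, map_mul, mul_smul, ← hc x, ← hc y]
            rfl) }
      have hinj : Function.Injective f := fun x y h => hρ (LinearEquiv.ext fun v => by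
        rw [hc, hc, show c x = c y from h])
      have hcyc : IsCyclic G := isCyclic_of_subgroup_isDomain f hinj
      have hst : MulAction.stabilizer G v₀ = ⊥ := by
        rw [Subgroup.eq_bot_iff_forall]
        intro g hg
        apply hinj
        rw [map_one]
        refine smul_left_injective _ hv₀ ?_
        show c g • v₀ = (1 : ZMod q) • v₀
        rw [one_smul, ← hc]
        exact hg
      rw [hst, Subgroup.card_bot, mul_one, h1, pow_one] at horbc
      rw [h1, pow_one] at h2
      exact ⟨rfl, by rw [hcardV, h1, pow_one], ⟨a, h2, by omega⟩, hcyc⟩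
    · right
      rw [hdd] at hcardV horbc
      refine ⟨rfl, rfl, hcardV, ?_⟩
      let b : Module.Basis (Fin 2) (ZMod 3) V := Module.finBasisOfFinrankEq (ZMod 3) V hdd
      let e : (V ≃ₗ[ZMod 3] V) ≃* GL (Fin 2) (ZMod 3) :=
        (LinearMap.GeneralLinearGroup.generalLinearEquiv (ZMod 3) V).symm.trans
          (Units.mapEquiv (LinearMap.toMatrixAlgEquiv b).toMulEquiv)
      have hinj : Function.Injective (e.toMonoidHom.comp ρ) := e.injective.comp hρ
      have hdvd : Nat.card G ∣ 48 := by
        have h := Subgroup.card_subgroup_dvd_card (e.toMonoidHom.comp ρ).range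
        rw [Nat.card_congr (MonoidHom.ofInjective hinj).toEquiv.symm, Matrix.card_GL_field] at h
        simpa [Fin.prod_univ_two] using h
      have hcases : Nat.card G = 8 ∨ Nat.card G = 16 := by
        rw [hk] at hdvd horbc ⊢
        have h16 : 2 ^ k ∣ 16 := (Nat.Coprime.dvd_of_dvd_mul_right (Nat.Coprime.pow_left k (show Nat.Coprime 2 3 by norm_num)) (hdvd : 2 ^ k ∣ 16 * 3))
        have h8 : 8 ∣ 2 ^ k := Dvd.intro _ horbc
        have hk4 : k ≤ 4 := (Nat.pow_dvd_pow_iff_le_right (by norm_num : 1 < 2)).1 (h16 : 2 ^ k ∣ 2 ^ 4)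
        interval_cases k <;> first | (exfalso; norm_num at h8; done) | norm_num
      rcases hcases with h8 | h16
      · have hst : MulAction.stabilizer G v₀ = ⊥ := by
          rw [← Subgroup.card_eq_one]
          omega
        have hfree : ∀ g : G, ∀ v : V, v ≠ 0 → ρ g v = v → g = 1 := by
          intro g v hv hgv
          obtain ⟨x, hx⟩ := htrans v₀ v hv₀ hv
          have hmem : x⁻¹ * g * x ∈ MulAction.stabilizer G v₀ := by
            rw [MulAction.mem_stabilizer_iff, mul_smul, mul_smul, hsm x, hx, hsm g, hgv, inv_smul_eq_iff, hsm x, hx]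
          rw [hst, Subgroup.mem_bot] at hmem
          calc g = x * (x⁻¹ * g * x) * x⁻¹ := by group
            _ = 1 := by rw [hmem]; group
        have hneg : ∀ g : G, g * g = 1 → g ≠ 1 → ∀ v, ρ g v = -v := by
          intro g hgg hg1 v
          by_contra hne
          refine hg1 (hfree g (v + ρ g v) (fun h => hne (eq_neg_of_add_eq_zero_right h)) ?_)
          have : ρ g (ρ g v) = v := by
            show (ρ g * ρ g) v = v
            rw [← map_mul, hgg, map_one]
            rfl
          rw [map_add, this, add_comm]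
        have huniq : ∀ x y : G, orderOf x = 2 → y ^ 2 = 1 → y ∈ Subgroup.zpowers x := by
          intro x y hx hy
          by_cases hy1 : y = 1
          · rw [hy1]; exact Subgroup.one_mem _
          have hx1 : x ≠ 1 := fun e => by rw [e, orderOf_one] at hx; norm_num at hx
          have hxx : x * x = 1 := by rw [← sq, ← hx, pow_orderOf_eq_one]
          have : y = x := hρ (LinearEquiv.ext fun v => by rw [hneg y (by rw [← sq, hy]) hy1, hneg x hxx hx1])
          rw [this]
          exact Subgroup.mem_zpowers x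
        rcases Cfsg.Agent.Struct.cyclic_or_quaternion hG huniq with hc | ⟨-, n, hn, ⟨f⟩⟩
        · exact Or.inl ⟨hc, h8⟩
        · right; left
          have hn1 : n = 1 := by
            have h := Nat.card_congr f.toEquiv
            rw [h8, Nat.card_eq_fintype_card, QuaternionGroup.card] at h
            have h2n : 2 ^ n = 2 ^ 1 := by rw [pow_one]; omega
            exact Nat.pow_right_injective le_rfl h2n
          subst hn1
          exact ⟨f⟩
      · right; right
        refine ⟨?_, h16⟩
        obtain ⟨P, hP⟩ := (hG.of_equiv (MonoidHom.ofInjective hinj)).exists_le_sylow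
        have hPc : Nat.card P = 16 := by
          refine Nat.le_antisymm ?_ ?_
          · obtain ⟨j, hj⟩ := IsPGroup.iff_card.1 P.isPGroup'
            have h48 : Nat.card P ∣ 48 := by
              have h := Subgroup.card_subgroup_dvd_card (P : Subgroup (GL (Fin 2) (ZMod 3)))
              rw [Matrix.card_GL_field] at h
              simpa [Fin.prod_univ_two] using h
            rw [hj] at h48 ⊢
            exact Nat.le_of_dvd (by norm_num)
              (Nat.Coprime.dvd_of_dvd_mul_right (Nat.Coprime.pow_left j (show Nat.Coprime 2 3 by norm_num)) (h48 : 2 ^ j ∣ 16 * 3))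
          · have := Subgroup.card_le_of_le hP
            rwa [Nat.card_congr (MonoidHom.ofInjective hinj).toEquiv.symm, h16] at this
        have heq : (e.toMonoidHom.comp ρ).range = (P : Subgroup (GL (Fin 2) (ZMod 3))) := by
          refine Subgroup.eq_of_le_of_card_ge hP ?_
          rw [hPc, Nat.card_congr (MonoidHom.ofInjective hinj).toEquiv.symm, h16]
        let f : G ≃* (P : Subgroup (GL (Fin 2) (ZMod 3))) :=
          (MonoidHom.ofInjective hinj).trans (MulEquiv.subgroupCongr heq)
        obtain ⟨n, hn, hcard, x, y, hx, hy, hxy⟩ :=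
          Cfsg.Agent.Fusion.GLTwoSylow.gl_case_three (F := ZMod 3) (by rw [ZMod.card]) P
        refine ⟨n, hn, (Nat.card_congr f.toEquiv).trans hcard, f.symm x, f.symm y, ?_, ?_, ?_⟩
        · rw [MulEquiv.orderOf_eq, hx]
        · rw [MulEquiv.orderOf_eq, hy]
        · rw [← map_inv, ← map_mul, ← map_mul, ← map_pow, hxy]

end Cfsg.Agent.S3370
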