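-- Template: statement S3374
import Cfsg.Statements.S3374

set_option autoImplicit false
open Cfsg

namespace Cfsg.Agent.S3374

abbrev Q (n : ℕ) := ZMod n × ZMod n × ZMod n × ZMod n

def qmul {n : ℕ} (A B : Q n) : Q n :=
  (A.1 * B.1 + A.2.1 * B.2.2.1, A.1 * B.2.1 + A.2.1 * B.2.2.2,
   A.2.2.1 * B.1 + A.2.2.2 * B.2.2.1, A.2.2.1 * B.2.1 + A.2.2.2 * B.2.2.2)

def qdet {n : ℕ} (A : Q n) : ZMod n := A.1 * A.2.2.2 - A.2.1 * A.2.2.1

def tT : ZMod 5 → Q 11 := ![(1, 0, 0, 1), (3, 0, 0, 4), (9, 0, 0, 5), (5, 0, 0, 9), (4, 0, 0, 3)]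

def tH : ZMod 5 → Q 11 :=
  ![(1, 0, 0, 1), (1, 0, 0, 1), (0, 4, 8, 0), (0, 7, 3, 0), (10, 0, 0, 10)]

def tW : Q 11 := (10, 1, 9, 1)

def f (g : Q 5) : Q 11 :=
  if g.2.2.1 = 0 then qmul (tH g.1) (tT (g.2.1 * (g.1 * g.1 * g.1)))
  else qmul (qmul (tT (g.1 * (g.2.2.1 * g.2.2.1 * g.2.2.1))) tW)
    (qmul (tH g.2.2.1) (tT (g.2.2.2 * (g.2.2.1 * g.2.2.1 * g.2.2.1))))

def Good (g : Q 5) : Prop :=
  qdet g = 1 → (qdet (f g) = 1 ∧ f (qmul g (1, 1, 0, 1)) = qmul (f g) (f (1, 1, 0, 1)) ∧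
    f (qmul g (0, 4, 1, 0)) = qmul (f g) (f (0, 4, 1, 0)) ∧
    f (qmul g (2, 0, 0, 3)) = qmul (f g) (f (2, 0, 0, 3)) ∧
    (g ≠ (1, 0, 0, 1) → ((f g).1 - 1) * ((f g).2.2.2 - 1) ≠ (f g).2.1 * (f g).2.2.1))

theorem good0 : ∀ b c d : ZMod 5, Good (0, b, c, d) := by unfold Good; decide +kernel
theorem good1 : ∀ b c d : ZMod 5, Good (1, b, c, d) := by unfold Good; decide +kernel
theorem good2 : ∀ b c d : ZMod 5, Good (2, b, c, d) := by unfold Good; decide +kernel
theorem good3 : ∀ b c d : ZMod 5, Good (3, b, c, d) := by unfold Good; decide +kernel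
theorem good4 : ∀ b c d : ZMod 5, Good (4, b, c, d) := by unfold Good; decide +kernel

theorem good (g : Q 5) : Good g := by
  obtain ⟨a, b, c, d⟩ := g
  match a with
  | 0 => exact good0 b c d
  | 1 => exact good1 b c d
  | 2 => exact good2 b c d
  | 3 => exact good3 b c d
  | 4 => exact good4 b c d

theorem qmul_assoc {n : ℕ} (A B C : Q n) : qmul (qmul A B) C = qmul A (qmul B C) := by
  simp only [qmul, Prod.mk.injEq]
  refine ⟨?_, ?_, ?_, ?_⟩ <;> ring

theorem qdet_mul {n : ℕ} (A B : Q n) : qdet (qmul A B) = qdet A * qdet B := by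
  simp only [qmul, qdet]; ring

abbrev S (n : ℕ) := Matrix.SpecialLinearGroup (Fin 2) (ZMod n)

def toQ {n : ℕ} (g : S n) : Q n := (g.1 0 0, g.1 0 1, g.1 1 0, g.1 1 1)

theorem toQ_mul {n : ℕ} (g h : S n) : toQ (g * h) = qmul (toQ g) (toQ h) := by
  simp [toQ, qmul, Matrix.SpecialLinearGroup.coe_mul, Matrix.mul_apply, Fin.sum_univ_two]

theorem toQ_det {n : ℕ} (g : S n) : qdet (toQ g) = 1 := by
  have := g.2
  rw [Matrix.det_fin_two] at this
  exact this

theorem toQ_one {n : ℕ} : toQ (1 : S n) = (1, 0, 0, 1) := by simp [toQ]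

theorem toQ_injective {n : ℕ} : Function.Injective (toQ (n := n)) := by
  intro g h e
  simp only [toQ, Prod.mk.injEq] at e
  obtain ⟨e1, e2, e3, e4⟩ := e
  apply Matrix.SpecialLinearGroup.ext
  intro i j
  fin_cases i <;> fin_cases j <;> assumption

def mk5 (a b c d : ZMod 5) (h : qdet (a, b, c, d) = 1) : S 5 :=
  ⟨!![a, b; c, d], by rw [Matrix.det_fin_two]; simpa [qdet] using h⟩

def uu : S 5 := mk5 1 1 0 1 (by decide)
def ww : S 5 := mk5 0 4 1 0 (by decide)
def hh : S 5 := mk5 2 0 0 3 (by decide)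

def mulSet : Submonoid (S 5) where
  carrier := {y | ∀ g : Q 5, qdet g = 1 → f (qmul g (toQ y)) = qmul (f g) (f (toQ y))}
  one_mem' := by
    intro g _
    rw [toQ_one]
    have e : f (1, 0, 0, 1) = (1, 0, 0, 1) := by decide
    rw [e]
    simp [qmul]
  mul_mem' := by
    intro y z hy hz g hg
    have h1 : qdet (qmul g (toQ y)) = 1 := by rw [qdet_mul, hg, toQ_det, mul_one]
    rw [toQ_mul, ← qmul_assoc, hz _ h1, hy g hg, hz _ (toQ_det y), qmul_assoc]

theorem uu_mem : uu ∈ mulSet := fun g hg => ((good g) hg).2.1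
theorem ww_mem : ww ∈ mulSet := fun g hg => ((good g) hg).2.2.1
theorem hh_mem : hh ∈ mulSet := fun g hg => ((good g) hg).2.2.2.1

def logTwo : ZMod 5 → ℕ := ![0, 0, 1, 3, 2]

def word (g : Q 5) : Q 5 :=
  if g.2.2.1 = 0 then
    qmul (toQ (hh ^ logTwo g.1)) (toQ (uu ^ (g.2.1 * (g.1 * g.1 * g.1)).val))
  else qmul (qmul (toQ (uu ^ (g.1 * (g.2.2.1 * g.2.2.1 * g.2.2.1)).val)) (toQ ww))
    (qmul (toQ (hh ^ logTwo g.2.2.1))
      (toQ (uu ^ (g.2.2.2 * (g.2.2.1 * g.2.2.1 * g.2.2.1)).val)))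

theorem uu_pow (n : ℕ) : toQ (uu ^ n) = (1, (n : ZMod 5), 0, 1) := by
  induction n with
  | zero => rw [pow_zero, toQ_one]; simp
  | succ n ih =>
    rw [pow_succ, toQ_mul, ih]
    simp [toQ, uu, mk5, qmul, add_comm]

theorem hh_pow : ∀ c : ZMod 5, c ≠ 0 → toQ (hh ^ logTwo c) = (c, 0, 0, c * c * c) := by
  intro c hc
  match c with
  | 0 => exact absurd rfl hc
  | 1 => decide +kernel
  | 2 => decide +kernel
  | 3 => decide +kernel
  | 4 => decide +kernel

theorem all_mem (y : S 5) : y ∈ mulSet := by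
  have hdet := toQ_det y
  rcases hy : toQ y with ⟨a, b, c, d⟩
  rw [hy] at hdet
  by_cases hc : c = 0
  · subst hc
    have key : ∀ a b d : ZMod 5, qdet (a, b, 0, d) = 1 →
        a ≠ 0 ∧ qmul (a, 0, 0, a * a * a) (1, b * (a * a * a), 0, 1) = (a, b, 0, d) := by
      decide +kernel
    obtain ⟨ha, he⟩ := key a b d hdet
    have e : y = hh ^ logTwo a * uu ^ (b * (a * a * a)).val := by
      apply toQ_injective
      rw [toQ_mul, uu_pow, hh_pow a ha, ZMod.natCast_zmod_val, he, hy]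
    rw [e]
    exact mul_mem (pow_mem hh_mem _) (pow_mem uu_mem _)
  · have key : ∀ a b c d : ZMod 5, c ≠ 0 → qdet (a, b, c, d) = 1 →
        qmul (qmul (1, a * (c * c * c), 0, 1) (0, 4, 1, 0))
          (qmul (c, 0, 0, c * c * c) (1, d * (c * c * c), 0, 1)) = (a, b, c, d) := by
      decide +kernel
    have e : y = uu ^ (a * (c * c * c)).val * ww * (hh ^ logTwo c * uu ^ (d * (c * c * c)).val) := by
      apply toQ_injective
      rw [toQ_mul, toQ_mul, toQ_mul, uu_pow, uu_pow, hh_pow c hc, ZMod.natCast_zmod_val,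
        ZMod.natCast_zmod_val, hy]
      exact (key a b c d hc hdet).symm
    rw [e]
    exact mul_mem (mul_mem (pow_mem uu_mem _) ww_mem) (mul_mem (pow_mem hh_mem _) (pow_mem uu_mem _))

theorem f_mul (g h : S 5) : f (toQ (g * h)) = qmul (f (toQ g)) (f (toQ h)) := by
  rw [toQ_mul]
  exact all_mem h _ (toQ_det g)

def act (A : Q 11) (v : ZMod 11 × ZMod 11) : ZMod 11 × ZMod 11 :=
  (A.1 * v.1 + A.2.1 * v.2, A.2.2.1 * v.1 + A.2.2.2 * v.2)

theorem act_mul (A B : Q 11) (v : ZMod 11 × ZMod 11) : act (qmul A B) v = act A (act B v) := by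
  simp only [act, qmul, Prod.mk.injEq]
  constructor <;> ring

theorem act_add (A : Q 11) (v w : ZMod 11 × ZMod 11) : act A (v + w) = act A v + act A w := by
  simp only [act, Prod.fst_add, Prod.snd_add, Prod.mk_add_mk, Prod.mk.injEq]
  constructor <;> ring

theorem act_f_one (v : ZMod 11 × ZMod 11) : act (f (toQ (1 : S 5))) v = v := by
  rw [toQ_one]
  have e : f (1, 0, 0, 1) = (1, 0, 0, 1) := by decide
  simp [e, act]

def phiFun (g : S 5) : MulAut (Multiplicative (ZMod 11 × ZMod 11)) where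
  toFun v := Multiplicative.ofAdd (act (f (toQ g)) v.toAdd)
  invFun v := Multiplicative.ofAdd (act (f (toQ g⁻¹)) v.toAdd)
  left_inv v := by simp [← act_mul, ← f_mul, act_f_one]
  right_inv v := by simp [← act_mul, ← f_mul, act_f_one]
  map_mul' v w := by simp [act_add]

def phi : S 5 →* MulAut (Multiplicative (ZMod 11 × ZMod 11)) :=
  MonoidHom.mk' phiFun (fun g h => by
    apply MulEquiv.ext
    intro v
    show Multiplicative.ofAdd (act (f (toQ (g * h))) v.toAdd) =
      Multiplicative.ofAdd (act (f (toQ g)) (act (f (toQ h)) v.toAdd))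
    rw [f_mul, act_mul])

theorem phi_fpf (g : S 5) (hg : g ≠ 1) (v : Multiplicative (ZMod 11 × ZMod 11))
    (hv : phi g v = v) : v = 1 := by
  have h1 : act (f (toQ g)) v.toAdd = v.toAdd := congrArg Multiplicative.toAdd hv
  have hne : toQ g ≠ (1, 0, 0, 1) := fun e => hg (toQ_injective (e.trans toQ_one.symm))
  have h2 := (good (toQ g) (toQ_det g)).2.2.2.2 hne
  have : Fact (Nat.Prime 11) := ⟨by norm_num⟩
  generalize f (toQ g) = A at h1 h2
  obtain ⟨a, b, c, d⟩ := A
  obtain ⟨x, y, hxy⟩ : ∃ x y, v.toAdd = (x, y) := ⟨_, _, rfl⟩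
  rw [hxy] at h1
  simp only [act, Prod.mk.injEq] at h1
  obtain ⟨e1, e2⟩ := h1
  have hx : ((a - 1) * (d - 1) - b * c) * x = 0 := by linear_combination (d - 1) * e1 - b * e2
  have hy : ((a - 1) * (d - 1) - b * c) * y = 0 := by linear_combination (a - 1) * e2 - c * e1
  have hD : (a - 1) * (d - 1) - b * c ≠ 0 := sub_ne_zero.mpr h2
  have hx0 := (mul_eq_zero.mp hx).resolve_left hD
  have hy0 := (mul_eq_zero.mp hy).resolve_left hD
  subst hx0; subst hy0
  exact hxy

/-- Some finite Frobenius group has a Frobenius complement isomorphic to SL(2,5). -/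
theorem result :
    ∃ (L : Type) (_ : Group L) (_ : Finite L) (H : Subgroup L),
      Cfsg.IsFrobeniusComplement H ∧ Nonempty (H ≃* Matrix.SpecialLinearGroup (Fin 2) (ZMod 5)) := by
  let L := SemidirectProduct (Multiplicative (ZMod 11 × ZMod 11)) (S 5) phi
  have : Finite L := Finite.of_equiv _ SemidirectProduct.equivProd.symm
  refine ⟨L, inferInstance, inferInstance, (SemidirectProduct.inr : S 5 →* L).range, ⟨?_, ?_, ?_⟩,
    ⟨(MonoidHom.ofInjective SemidirectProduct.inr_injective).symm⟩⟩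
  · intro h
    rw [Subgroup.eq_bot_iff_forall] at h
    have h1 : (SemidirectProduct.inr uu : L) = 1 := h _ ⟨uu, rfl⟩
    have h2 : uu = 1 := SemidirectProduct.inr_injective (h1.trans (map_one _).symm)
    exact absurd (congrArg toQ h2) (by decide)
  · intro h
    have h1 : (SemidirectProduct.inl (Multiplicative.ofAdd ((1, 0) : ZMod 11 × ZMod 11)) : L) ∈
        (SemidirectProduct.inr : S 5 →* L).range := h ▸ Subgroup.mem_top _
    obtain ⟨k, hk⟩ := h1
    have h2 := congrArg SemidirectProduct.left hk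
    simp only [SemidirectProduct.left_inr, SemidirectProduct.left_inl] at h2
    exact absurd (congrArg Multiplicative.toAdd h2) (by decide)
  · intro g hg
    rw [Subgroup.eq_bot_iff_forall]
    rintro x hx
    obtain ⟨⟨k, rfl⟩, hx2⟩ := Subgroup.mem_inf.mp hx
    rw [Subgroup.mem_pointwise_smul_iff_inv_smul_mem] at hx2
    obtain ⟨m, hm⟩ := hx2
    by_contra hk
    have hk1 : k ≠ 1 := fun e => hk (by rw [e, map_one])
    have h0 : g * SemidirectProduct.inr m = SemidirectProduct.inr k * g := by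
      rw [hm, MulAut.smul_def, MulAut.conj_inv_apply]
      group
    have h2 : phi k g.left = g.left := by
      have h1 := congrArg SemidirectProduct.left h0
      rw [SemidirectProduct.mul_left, SemidirectProduct.mul_left, SemidirectProduct.left_inr,
        SemidirectProduct.left_inr, SemidirectProduct.right_inr, map_one, mul_one, one_mul] at h1
      exact h1.symm
    refine hg ⟨g.right, SemidirectProduct.ext ?_ rfl⟩
    simp [phi_fpf k hk1 _ h2]

end Cfsg.Agent.S3374
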