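import Cfsg.Statements.S3375
import Mathlib
-- import your own Cfsg.Agent.* helpers here

set_option autoImplicit false
open Cfsg

namespace Cfsg.Agent.S3375

/-- Let γ be an automorphism of order 2 of a finite group H. (i) If γ fixes only the identity, then H is abelian and γ inverts every element. (ii) If γ has exactly two fixed points and H has a subgroup of index 2, then H has a γ-invariant abelian subgroup of index 2 on which γ acts by inversion. -/
theorem result {H : Type*} [Group H] [Finite H] (γ : MulAut H) (hγ : orderOf γ = 2) :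
    ((∀ h : H, γ h = h → h = 1) → (∀ a b : H, a * b = b * a) ∧ ∀ h : H, γ h = h⁻¹) ∧
    ((Nat.card {h : H // γ h = h} = 2 ∧ ∃ M : Subgroup H, M.index = 2) →
      ∃ A : Subgroup H, A.index = 2 ∧ IsMulCommutative A ∧ (∀ a ∈ A, γ a ∈ A) ∧ ∀ a ∈ A, γ a = a⁻¹) := by
  classical
  have hγ2 : ∀ h : H, γ (γ h) = h := fun h => by
    have := congrArg (fun g : MulAut H => g h) (pow_orderOf_eq_one γ)
    rw [hγ, pow_two] at this
    simpa using this
  have habel : ∀ A : Subgroup H, (∀ a ∈ A, γ a = a⁻¹) → ∀ a ∈ A, ∀ b ∈ A, a * b = b * a := by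
    intro A hA a ha b hb
    have h1 := hA (a * b) (mul_mem ha hb)
    rw [map_mul, hA a ha, hA b hb, mul_inv_rev] at h1
    calc a * b = (b⁻¹ * a⁻¹)⁻¹ := by group
      _ = (a⁻¹ * b⁻¹)⁻¹ := by rw [h1]
      _ = b * a := by group
  have hfpf : ∀ A : Subgroup H, (∀ a ∈ A, γ a ∈ A) → (∀ a ∈ A, γ a = a → a = 1) → ∀ a ∈ A, γ a = a⁻¹ := by
    intro A hA hfix
    let f : A → A := fun a => ⟨(a : H)⁻¹ * γ a, mul_mem (inv_mem a.2) (hA _ a.2)⟩
    have hinj : Function.Injective f := by
      intro a b h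
      have h' : (a : H)⁻¹ * γ a = (b : H)⁻¹ * γ b := congrArg Subtype.val h
      refine Subtype.ext (mul_inv_eq_one.mp (hfix _ (mul_mem b.2 (inv_mem a.2)) ?_)).symm
      rw [map_mul, map_inv]
      calc γ b * (γ a)⁻¹ = (b : H) * ((b : H)⁻¹ * γ b) * (γ a)⁻¹ := by group
        _ = (b : H) * ((a : H)⁻¹ * γ a) * (γ a)⁻¹ := by rw [h']
        _ = (b : H) * (a : H)⁻¹ := by group
    intro a ha
    obtain ⟨b, hb⟩ := (Finite.injective_iff_surjective.mp hinj) ⟨a, ha⟩
    have e : a = (b : H)⁻¹ * γ b := (congrArg Subtype.val hb).symm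
    subst e
    rw [map_mul, map_inv, hγ2, mul_inv_rev, inv_inv]
  refine ⟨fun hfix => ?_, ?_⟩
  · have h := hfpf ⊤ (fun a _ => Subgroup.mem_top _) fun a _ => hfix a
    exact ⟨fun a b => habel ⊤ h a (Subgroup.mem_top a) b (Subgroup.mem_top b), fun a => h a (Subgroup.mem_top a)⟩
  rintro ⟨hcard, M, hM⟩
  -- an invariant subgroup of index two
  obtain ⟨A, hAi, hA⟩ : ∃ A : Subgroup H, A.index = 2 ∧ ∀ a ∈ A, γ a ∈ A := by
    have hmul : ∀ a b : H, a * b ∈ M ↔ (a ∈ M ↔ b ∈ M) := fun a b => Subgroup.mul_mem_iff_of_index_two hM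
    by_cases hinv : ∀ a ∈ M, γ a ∈ M
    · exact ⟨M, hM, hinv⟩
    push Not at hinv
    obtain ⟨a₀, ha₀, ha₀'⟩ := hinv
    refine ⟨{ carrier := {h | h ∈ M ↔ γ h ∈ M}, one_mem' := by simp, mul_mem' := ?_, inv_mem' := ?_ }, ?_, ?_⟩
    · intro a b ha hb
      simp only [Set.mem_ofPred_eq, map_mul, hmul] at ha hb ⊢
      tauto
    · intro a ha
      simpa [Set.mem_ofPred_eq] using ha
    · refine Subgroup.index_eq_two_iff.mpr ⟨a₀, fun b => ?_⟩
      show Xor (b * a₀ ∈ M ↔ γ (b * a₀) ∈ M) (b ∈ M ↔ γ b ∈ M)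
      rw [map_mul, hmul, hmul]
      simp only [ha₀, ha₀', iff_true, iff_false, Xor]
      tauto
    · intro a ha
      show γ a ∈ M ↔ γ (γ a) ∈ M
      rw [hγ2]
      exact ha.symm
  have key : ∀ a ∈ A, γ a = a⁻¹ := by
    by_cases hz : ∀ a ∈ A, γ a = a → a = 1
    · exact hfpf A hA hz
    -- every fixed point lies in `A`, and the displacement map has all of `A` as image
    push Not at hz
    obtain ⟨z, hzA, hzf, hz1⟩ := hz
    have hfix : ∀ h : H, γ h = h → h = 1 ∨ h = z := by
      intro h hh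
      by_contra hc
      push Not at hc
      have h3 : 3 ≤ Nat.card {h : H // γ h = h} := by
        have : (({⟨1, map_one γ⟩, ⟨z, hzf⟩, ⟨h, hh⟩} : Finset {h : H // γ h = h})).card = 3 := by
          rw [Finset.card_eq_three]
          exact ⟨_, _, _, fun e => hz1 (congrArg Subtype.val e).symm, fun e => hc.1 (congrArg Subtype.val e).symm,
            fun e => hc.2 (congrArg Subtype.val e).symm, rfl⟩
        let _ : Fintype {h : H // γ h = h} := Fintype.ofFinite _
        rw [← this, Nat.card_eq_fintype_card]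
        exact Finset.card_le_univ _
      omega
    have hin : ∀ h : H, h⁻¹ * γ h ∈ A := fun h => by
      rw [Subgroup.mul_mem_iff_of_index_two hAi, inv_mem_iff]
      exact ⟨hA h, fun h' => hγ2 h ▸ hA _ h'⟩
    have hsame : ∀ a b : H, a⁻¹ * γ a = b⁻¹ * γ b → b = a ∨ b = z * a := by
      intro a b h
      have : γ (b * a⁻¹) = b * a⁻¹ := by
        rw [map_mul, map_inv]
        calc γ b * (γ a)⁻¹ = b * (b⁻¹ * γ b) * (γ a)⁻¹ := by group
          _ = b * (a⁻¹ * γ a) * (γ a)⁻¹ := by rw [h]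
          _ = b * a⁻¹ := by group
      rcases hfix _ this with e | e
      · exact Or.inl (mul_inv_eq_one.mp e)
      · exact Or.inr (mul_inv_eq_iff_eq_mul.mp e)
    have : Fintype H := Fintype.ofFinite H
    set S := Finset.univ.image fun h : H => h⁻¹ * γ h with hS
    have hle : Finset.univ.card ≤ 2 * S.card := Finset.card_le_mul_card_image Finset.univ 2 fun x hx => by
      obtain ⟨a, -, rfl⟩ := Finset.mem_image.mp hx
      refine (Finset.card_le_card (t := {a, z * a}) fun b hb => ?_).trans Finset.card_le_two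
      simpa using hsame a b (Finset.mem_filter.mp hb).2.symm
    have hcA : Fintype.card H = 2 * (Finset.univ.filter (· ∈ A)).card := by
      rw [← Fintype.card_subtype, ← Nat.card_eq_fintype_card, ← Nat.card_eq_fintype_card, ← A.card_mul_index, hAi, mul_comm]
    have hSA : S = Finset.univ.filter (· ∈ A) := by
      refine Finset.eq_of_subset_of_card_le (fun x hx => ?_) (by rw [Finset.card_univ] at hle; omega)
      obtain ⟨a, -, rfl⟩ := Finset.mem_image.mp hx
      simpa using hin a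
    intro a ha
    obtain ⟨b, -, rfl⟩ := Finset.mem_image.mp (hSA ▸ Finset.mem_filter.mpr ⟨Finset.mem_univ a, ha⟩ : a ∈ S)
    rw [map_mul, map_inv, hγ2, mul_inv_rev, inv_inv]
  exact ⟨A, hAi, ⟨⟨fun a b => Subtype.ext (habel A key a a.2 b b.2)⟩⟩, hA, key⟩

end Cfsg.Agent.S3375
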