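import Cfsg.Statements.S3376
import Mathlib
-- import your own Cfsg.Agent.* helpers here

set_option autoImplicit false
open Cfsg

namespace Cfsg.Agent.S3376

open Subgroup

/-- An element of order three without fixed points on nine points. -/
theorem cycleType_of_free {α : Type*} [Fintype α] [DecidableEq α] (hα : Fintype.card α = 9) (σ : Equiv.Perm α)
    (h3 : σ ^ 3 = 1) (hfree : ∀ x, σ x ≠ x) : σ.cycleType = Multiset.replicate 3 3 := by
  have hne : σ ≠ 1 := by
    intro e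
    obtain ⟨x⟩ : Nonempty α := Fintype.card_pos_iff.1 (by omega)
    exact hfree x (by rw [e]; rfl)
  have ho : orderOf σ = 3 := orderOf_eq_prime h3 hne
  obtain ⟨n, hn⟩ := Equiv.Perm.cycleType_prime_order (σ := σ) (by rw [ho]; norm_num)
  rw [ho] at hn
  have hs : σ.cycleType.sum = 9 := by
    rw [Equiv.Perm.sum_cycleType, ← hα, ← Finset.card_univ]
    congr 1
    ext x
    simp [hfree x]
  rw [hn, Multiset.sum_replicate, smul_eq_mul] at hs
  rw [hn, show n + 1 = 3 by omega]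

theorem conj_prod_of {G : Type*} [Group G] (g x y : G) : g * (x * y) * g⁻¹ = (g * x * g⁻¹) * (g * y * g⁻¹) := by group

theorem pow3_mem {G : Type*} [Group G] (J S : Subgroup G) [J.Normal] {s : G}
    (h : s ∈ S) (hi : J.relIndex S = 3) : s ^ 3 ∈ J := by
  have h2 := Subgroup.pow_index_mem (J.subgroupOf S) ⟨s, h⟩
  have hi' : (J.subgroupOf S).index = 3 := hi
  rw [hi', Subgroup.mem_subgroupOf] at h2
  exact h2


/-- Let G be a group of order 162 = 3⁴·2 with Sylow 3-subgroup S and Sylow 2-subgroup T, having an elementary abelian normal subgroup J of order 27, such that Z = Z(S) has order 3, Z centralizes T, and C_S(T) ≠ S. Then G is isomorphic to the centralizer in Sym(9) of a product of three disjoint 3-cycles. -/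
theorem result {G : Type*} [Group G] [Finite G] (hG : Nat.card G = 162)
    (S : Sylow 3 G) (T : Sylow 2 G) (J : Subgroup G) [hJn : J.Normal] (hJcomm : IsMulCommutative J)
    (hJexp : ∀ a ∈ J, a ^ 3 = 1) (hJcard : Nat.card J = 27)
    (Z : Subgroup G) (hZ : Z = (S : Subgroup G) ⊓ Subgroup.centralizer ((S : Subgroup G) : Set G)) (hZcard : Nat.card Z = 3)
    (hZT : Z ≤ Subgroup.centralizer ((T : Subgroup G) : Set G))
    (hST : (S : Subgroup G) ⊓ Subgroup.centralizer ((T : Subgroup G) : Set G) ≠ S) :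
    Nonempty (G ≃* Subgroup.centralizer ({Equiv.swap (0 : Fin 9) 1 * Equiv.swap 1 2 * Equiv.swap 3 4 * Equiv.swap 4 5 * Equiv.swap 6 7 * Equiv.swap 7 8} : Set (Equiv.Perm (Fin 9)))) := by
  skip
  classical
  haveI : Fact (Nat.Prime 3) := ⟨Nat.prime_three⟩
  haveI : Fact (Nat.Prime 2) := ⟨Nat.prime_two⟩
  have hS81 : Nat.card S = 81 := by
    obtain ⟨k, hk⟩ := IsPGroup.iff_card.1 S.isPGroup'
    have h1 := (S : Subgroup G).card_mul_index
    rw [hG, hk] at h1
    have h3 := S.not_dvd_index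
    have hk6 : k ≤ 4 := by
      by_contra hlt
      have h5 : 3 ^ 5 ∣ 3 ^ k := pow_dvd_pow 3 (by omega)
      have h6 : 3 ^ 5 ∣ 162 := h1 ▸ h5.mul_right _
      norm_num at h6
    rw [hk]
    interval_cases k <;> omega
  have hT2 : Nat.card T = 2 := by
    obtain ⟨k, hk⟩ := IsPGroup.iff_card.1 T.isPGroup'
    have h1 := (T : Subgroup G).card_mul_index
    rw [hG, hk] at h1
    have h3 := T.not_dvd_index
    have hk6 : k ≤ 1 := by
      by_contra hlt
      have h5 : 2 ^ 2 ∣ 2 ^ k := pow_dvd_pow 2 (by omega)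
      have h6 : 2 ^ 2 ∣ 162 := h1 ▸ h5.mul_right _
      norm_num at h6
    rw [hk]
    interval_cases k <;> omega
  have hSn : (S : Subgroup G).Normal := by
    refine Subgroup.normal_of_index_eq_two ?_
    have h1 := (S : Subgroup G).card_mul_index
    rw [hG, hS81] at h1
    omega
  have hJS : J ≤ (S : Subgroup G) := (IsPGroup.of_card (n := 3) (by rw [hJcard]; norm_num)).le_sylow_of_normal S
  have hidxS : J.relIndex (S : Subgroup G) = 3 := by
    have h := (J.subgroupOf (S : Subgroup G)).card_mul_index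
    rw [Nat.card_congr (Subgroup.subgroupOfEquivOfLe hJS).toEquiv, hJcard, hS81] at h
    show (J.subgroupOf (S : Subgroup G)).index = 3
    omega
  haveI : Nontrivial (T : Subgroup G) := Finite.one_lt_card_iff_nontrivial.1 (by rw [hT2]; norm_num)
  obtain ⟨⟨t, htT⟩, ht1'⟩ := exists_ne (1 : (T : Subgroup G))
  have ht1 : t ≠ 1 := fun e => ht1' (Subtype.ext e)
  have htt : t * t = 1 := by
    have h := pow_card_eq_one' (x := (⟨t, htT⟩ : (T : Subgroup G)))
    rw [hT2, sq] at h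
    exact congrArg Subtype.val h
  have hTt : ∀ x ∈ (T : Subgroup G), x = 1 ∨ x = t := by
    intro x hx
    by_contra hne
    push Not at hne
    have hinj : Function.Injective (![⟨1, one_mem _⟩, ⟨t, htT⟩, ⟨x, hx⟩] : Fin 3 → (T : Subgroup G)) := by
      intro i j hij
      fin_cases i <;> fin_cases j <;> simp_all [Subtype.ext_iff, eq_comm]
    have := Nat.card_le_card_of_injective _ hinj
    rw [hT2, Nat.card_fin] at this
    omega
  have htS : t ∉ (S : Subgroup G) := by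
    intro h
    have h1 : orderOf (⟨t, h⟩ : (S : Subgroup G)) ∣ 81 := hS81 ▸ orderOf_dvd_natCard _
    rw [Subgroup.orderOf_mk, orderOf_eq_prime (by rw [sq, htt]) ht1] at h1
    norm_num at h1
  obtain ⟨s, hsS, hsJ⟩ : ∃ s ∈ (S : Subgroup G), s ∉ J := by
    by_contra h
    push Not at h
    rw [Subgroup.relIndex_eq_one.2 h] at hidxS
    omega
  have hJc : ∀ a ∈ J, ∀ b ∈ J, a * b = b * a := fun a ha b hb =>
    congrArg Subtype.val (mul_comm' (⟨a, ha⟩ : J) ⟨b, hb⟩)
  have hJconj : ∀ g : G, ∀ a ∈ J, g * a * g⁻¹ ∈ J := fun g a ha => hJn.conj_mem a ha g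
  have hgenS : ∀ x ∈ (S : Subgroup G), ∃ i : ℕ, ∃ a ∈ J, x = s ^ i * a := by
    intro x hx
    haveI : (J.subgroupOf (S : Subgroup G)).Normal := inferInstance
    have hc : Nat.card (↥(S : Subgroup G) ⧸ J.subgroupOf (S : Subgroup G)) = 3 := by
      rw [← Subgroup.index_eq_card]; exact hidxS
    have hne : ((⟨s, hsS⟩ : (S : Subgroup G)) : ↥(S : Subgroup G) ⧸ J.subgroupOf (S : Subgroup G)) ≠ 1 := fun e =>
      hsJ (Subgroup.mem_subgroupOf.1 ((QuotientGroup.eq_one_iff _).1 e))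
    obtain ⟨i, hi⟩ := (mem_powers_of_prime_card hc hne :
      ((⟨x, hx⟩ : (S : Subgroup G)) : ↥(S : Subgroup G) ⧸ J.subgroupOf (S : Subgroup G)) ∈ Submonoid.powers _)
    dsimp only at hi
    rw [← QuotientGroup.mk_pow, QuotientGroup.eq, Subgroup.mem_subgroupOf] at hi
    exact ⟨i, _, hi, by push_cast; group⟩
  let D : G → G := fun a => s * a * s⁻¹ * a⁻¹
  have hDJ : ∀ a ∈ J, D a ∈ J := fun a ha => J.mul_mem (hJconj s a ha) (J.inv_mem ha)
  have hDmul : ∀ a ∈ J, ∀ b ∈ J, D (a * b) = D a * D b := by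
    intro a ha b hb
    show s * (a * b) * s⁻¹ * (a * b)⁻¹ = s * a * s⁻¹ * a⁻¹ * (s * b * s⁻¹ * b⁻¹)
    have h := hJc _ (hDJ b hb) _ (J.inv_mem ha)
    calc s * (a * b) * s⁻¹ * (a * b)⁻¹ = s * a * s⁻¹ * ((s * b * s⁻¹ * b⁻¹) * a⁻¹) := by group
      _ = s * a * s⁻¹ * (a⁻¹ * (s * b * s⁻¹ * b⁻¹)) := by rw [show s * b * s⁻¹ * b⁻¹ * a⁻¹ = _ from h]
      _ = _ := by group
  have hfix : ∀ a ∈ J, D a = 1 → a ∈ Z := by
    intro a ha hD
    rw [hZ]
    refine ⟨hJS ha, Subgroup.mem_centralizer_iff.2 fun x hx => ?_⟩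
    obtain ⟨i, b, hb, rfl⟩ := hgenS x hx
    have hsa : Commute s a := by
      show s * a = a * s
      exact mul_inv_eq_iff_eq_mul.1 (mul_inv_eq_one.1 hD)
    exact ((hsa.pow_left i).mul_left (hJc b hb a ha)).eq
  let Dh : J →* G := MonoidHom.mk' (fun a => D (a : G)) fun a b => hDmul _ a.2 _ b.2
  have hker : Nat.card Dh.ker ≤ 3 := by
    rw [← hZcard]
    exact Nat.card_le_card_of_injective (fun a => (⟨((a : J) : G), hfix _ (a : J).2 a.2⟩ : Z))
      fun a b h => Subtype.ext (Subtype.ext (congrArg (fun z : Z => (z : G)) h))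
  obtain ⟨a₀, ha₀, hN₀⟩ : ∃ a ∈ J, D (D a) ≠ 1 := by
    by_contra hcon
    push Not at hcon
    have h2 : Nat.card Dh.range ≤ 3 := by
      rw [← hZcard]
      refine Subgroup.card_le_of_le ?_
      rintro _ ⟨a, rfl⟩
      exact hfix _ (hDJ a a.2) (hcon a a.2)
    have h1 := Dh.ker.card_mul_index
    rw [hJcard, Subgroup.index_ker] at h1
    nlinarith
  have hZmem : ∀ z ∈ Z, ∀ x ∈ (S : Subgroup G), x * z = z * x := fun z hz x hx => by
    rw [hZ] at hz
    exact Subgroup.mem_centralizer_iff.1 hz.2 x hx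
  have hZt : ∀ z ∈ Z, t * z = z * t := fun z hz => Subgroup.mem_centralizer_iff.1 (hZT hz) t htT
  have hDZ : ∀ z ∈ Z, D z = 1 := fun z hz => by
    show s * z * s⁻¹ * z⁻¹ = 1
    rw [hZmem z hz s hsS, mul_inv_cancel_right, mul_inv_cancel]
  have hDinv : ∀ a ∈ J, D a⁻¹ = (D a)⁻¹ := fun a ha => map_inv Dh ⟨a, ha⟩
  have hN3 : ∀ a ∈ J, D (D a) ∈ Z := by
    -- the kernel has order at most three and meets the image of the square
    intro a ha
    refine hfix _ (hDJ _ (hDJ a ha)) ?_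
    have h3 : (s ^ 3) * a * (s ^ 3)⁻¹ = a := by
      have hs3 : s ^ 3 ∈ J := by
        have h := pow3_mem J (S : Subgroup G) hsS hidxS
        exact h
      rw [hJc _ hs3 a ha, mul_inv_cancel_right]
    -- expand
    set b := D a with hb
    set c := D b with hc
    set d := D c with hd
    have hbJ : b ∈ J := hDJ a ha
    have hcJ : c ∈ J := hDJ b hbJ
    have hdJ : d ∈ J := hDJ c hcJ
    have ea : s * a * s⁻¹ = b * a := by rw [hb]; simp [D, mul_assoc]
    have eb : s * b * s⁻¹ = c * b := by rw [hc]; simp [D, mul_assoc]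
    have ec : s * c * s⁻¹ = d * c := by rw [hd]; simp [D, mul_assoc]
    have hkey : s ^ 3 * a * (s ^ 3)⁻¹ = (d * c) * (c * b) * ((c * b) * (b * a)) := by
      calc s ^ 3 * a * (s ^ 3)⁻¹ = s * (s * (s * a * s⁻¹) * s⁻¹) * s⁻¹ := by simp [pow_succ, mul_assoc]
        _ = s * ((s * b * s⁻¹) * (s * a * s⁻¹)) * s⁻¹ := by rw [ea, conj_prod_of s b a, ea]
        _ = s * (c * b * (b * a)) * s⁻¹ := by rw [eb, ea]
        _ = (s * c * s⁻¹) * (s * b * s⁻¹) * ((s * b * s⁻¹) * (s * a * s⁻¹)) := by group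
        _ = _ := by rw [ea, eb, ec]
    rw [hkey] at h3
    have hc3 : c * c * c = 1 := by rw [← hJexp c hcJ]; simp [pow_succ, mul_assoc]
    have hb3 : b * b * b = 1 := by rw [← hJexp b hbJ]; simp [pow_succ, mul_assoc]
    have e : (d * c) * (c * b) * ((c * b) * (b * a)) = d * (c * c * c) * (b * b * b) * a := by
      have h := hJc b hbJ c hcJ
      calc (d * c) * (c * b) * ((c * b) * (b * a)) = d * c * c * (b * c) * b * b * a := by group
        _ = d * c * c * (c * b) * b * b * a := by rw [h]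
        _ = _ := by group
    rw [e, hc3, hb3, mul_one, mul_one] at h3
    exact mul_eq_right.1 h3
  have htJ : ∀ a ∈ J, t * a * t⁻¹ ∈ J := hJconj t
  have hs' : ∃ j ∈ J, t * s * t⁻¹ = s⁻¹ * j := by
    obtain ⟨i, b, hb, hib⟩ := hgenS (t * s * t⁻¹) (hSn.conj_mem s hsS t)
    have hs3J : s ^ 3 ∈ J := pow3_mem J (S : Subgroup G) hsS hidxS
    have hred : s ^ i = s ^ (i % 3) * (s ^ 3) ^ (i / 3) := by rw [← pow_mul, ← pow_add, Nat.mod_add_div]
    rcases (show i % 3 = 0 ∨ i % 3 = 1 ∨ i % 3 = 2 by omega) with h | h | h <;> rw [h] at hred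
    · exfalso
      apply hsJ
      have hm : t * s * t⁻¹ ∈ J := by
        rw [hib, hred, pow_zero, one_mul]; exact J.mul_mem (J.pow_mem hs3J _) hb
      have := hJconj t⁻¹ _ hm
      simpa [mul_assoc] using this
    · exfalso
      set j := (s ^ 3) ^ (i / 3) * b with hj
      have hjJ : j ∈ J := J.mul_mem (J.pow_mem hs3J _) hb
      have hts : t * s * t⁻¹ = s * j := by rw [hib, hred, pow_one, hj, mul_assoc]
      have hcomm : ∀ a ∈ J, t * D a * t⁻¹ = D (t * a * t⁻¹) := by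
        intro a ha
        show t * (s * a * s⁻¹ * a⁻¹) * t⁻¹ = s * (t * a * t⁻¹) * s⁻¹ * (t * a * t⁻¹)⁻¹
        have h := hJc j hjJ _ (htJ a ha)
        calc t * (s * a * s⁻¹ * a⁻¹) * t⁻¹ = (t * s * t⁻¹) * (t * a * t⁻¹) * (t * s * t⁻¹)⁻¹ * (t * a * t⁻¹)⁻¹ := by group
          _ = s * (j * (t * a * t⁻¹)) * j⁻¹ * s⁻¹ * (t * a * t⁻¹)⁻¹ := by rw [hts]; group
          _ = _ := by rw [h]; group
      have hfixall : ∀ a ∈ J, t * a * t⁻¹ = a := by
        intro a ha
        set b' := a⁻¹ * (t * a * t⁻¹) with hb'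
        have hb'J : b' ∈ J := J.mul_mem (J.inv_mem ha) (htJ a ha)
        have hinvb : t * b' * t⁻¹ = b'⁻¹ := by
          have ht' : t⁻¹ = t := inv_eq_of_mul_eq_one_right htt
          calc t * b' * t⁻¹ = (t * a * t⁻¹)⁻¹ * ((t * t) * a * (t * t)⁻¹) := by rw [hb']; group
            _ = b'⁻¹ := by rw [htt, hb']; group
        have htD : t * D b' * t⁻¹ = (D b')⁻¹ := by rw [hcomm b' hb'J, hinvb, hDinv b' hb'J]
        have hDb : D (D b') = 1 := by
          have hz := hN3 b' hb'J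
          have h1 : t * D (D b') * t⁻¹ = (D (D b'))⁻¹ := by rw [hcomm _ (hDJ _ hb'J), htD, hDinv _ (hDJ _ hb'J)]
          rw [hZt _ hz, mul_inv_cancel_right] at h1
          have h2 : D (D b') ^ 2 = 1 := by rw [sq]; nth_rewrite 1 [h1]; exact inv_mul_cancel _
          have h3 := hJexp _ (hDJ _ (hDJ _ hb'J))
          rw [pow_succ, h2, one_mul] at h3
          exact h3
        have hone : ∀ x ∈ Z, x ∈ J → t * x * t⁻¹ = x⁻¹ → x = 1 := by
          intro x hxZ hxJ hx
          rw [hZt x hxZ, mul_inv_cancel_right] at hx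
          have h2 : x ^ 2 = 1 := by rw [sq]; nth_rewrite 1 [hx]; exact inv_mul_cancel _
          have h3 := hJexp x hxJ
          rw [pow_succ, h2, one_mul] at h3
          exact h3
        have hD1 := hone _ (hfix _ (hDJ _ hb'J) hDb) (hDJ _ hb'J) htD
        have hb1 := hone _ (hfix _ hb'J hD1) hb'J hinvb
        rw [hb', inv_mul_eq_one] at hb1
        exact hb1.symm
      have hj1 : j = 1 := by
        have h1 : s = s * (j * j) := by
          calc s = (t * t) * s * (t * t)⁻¹ := by rw [htt]; group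
            _ = t * (t * s * t⁻¹) * t⁻¹ := by group
            _ = t * (s * j) * t⁻¹ := by rw [hts]
            _ = (t * s * t⁻¹) * (t * j * t⁻¹) := by group
            _ = s * (j * j) := by rw [hfixall j hjJ, hts, mul_assoc]
        have h2 : j ^ 2 = 1 := by rw [sq]; exact mul_eq_left.1 h1.symm
        have h3 := hJexp j hjJ
        rw [pow_succ, h2, one_mul] at h3
        exact h3
      apply hST
      refine inf_eq_left.2 fun x hx => Subgroup.mem_centralizer_iff.2 fun y hy => ?_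
      rcases hTt y hy with rfl | rfl
      · rw [one_mul, mul_one]
      · obtain ⟨k, c, hc, rfl⟩ := hgenS x hx
        rw [hj1, mul_one] at hts
        exact ((show Commute y s from mul_inv_eq_iff_eq_mul.1 hts).pow_right k).mul_right
          (show Commute y c from mul_inv_eq_iff_eq_mul.1 (hfixall c hc))
    · refine ⟨s ^ 3 * (s ^ 3) ^ (i / 3) * b, J.mul_mem (J.mul_mem hs3J (J.pow_mem hs3J _)) hb, ?_⟩
      rw [hib, hred]; group
  obtain ⟨j, hjJ, hts⟩ := hs'
  have htss : ∀ a ∈ J, t * (s * a * s⁻¹) * t⁻¹ = s⁻¹ * (t * a * t⁻¹) * s := by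
    intro a ha
    calc t * (s * a * s⁻¹) * t⁻¹ = (t * s * t⁻¹) * (t * a * t⁻¹) * (t * s * t⁻¹)⁻¹ := by group
      _ = s⁻¹ * (j * (t * a * t⁻¹)) * j⁻¹ * s := by rw [hts]; group
      _ = s⁻¹ * (t * a * t⁻¹) * s := by rw [hJc j hjJ _ (htJ a ha)]; group
  have hsinv : ∀ a ∈ J, s⁻¹ * a * s = s * (s * a * s⁻¹) * s⁻¹ := by
    intro a ha
    have hs3J : s ^ 3 ∈ J := pow3_mem J (S : Subgroup G) hsS hidxS
    calc s⁻¹ * a * s = s⁻¹ * (s ^ 3 * a * (s ^ 3)⁻¹) * s := by rw [hJc _ hs3J a ha, mul_inv_cancel_right]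
      _ = _ := by simp [pow_succ, mul_assoc]
  have hDD : ∀ a ∈ J, D (D a) = (s * (s * a * s⁻¹) * s⁻¹) * (s * a * s⁻¹) * a := by
    intro a ha
    set f := s * a * s⁻¹
    have hfJ : f ∈ J := hJconj s a ha
    have hf2 : f⁻¹ * f⁻¹ = f := by
      rw [← mul_inv_rev, inv_eq_iff_mul_eq_one, ← hJexp f hfJ]; simp [pow_succ, mul_assoc]
    have h1 : D (D a) = (s * f * s⁻¹) * ((f⁻¹ * a) * f⁻¹) := by
      show s * (f * a⁻¹) * s⁻¹ * (f * a⁻¹)⁻¹ = _
      rw [mul_inv_rev, inv_inv]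
      have h := hJc a ha f⁻¹ (J.inv_mem hfJ)
      calc s * (f * a⁻¹) * s⁻¹ * (a * f⁻¹) = s * f * s⁻¹ * (s * a * s⁻¹)⁻¹ * (a * f⁻¹) := by group
        _ = _ := by simp [f, mul_assoc]
    rw [h1, mul_assoc f⁻¹, hJc a ha _ (J.inv_mem hfJ), ← mul_assoc f⁻¹, hf2]
    simp only [mul_assoc]
  set e := a₀ * (t * a₀ * t⁻¹) with he
  have heJ : e ∈ J := J.mul_mem ha₀ (htJ a₀ ha₀)
  have hte : t * e * t⁻¹ = e := by
    calc t * e * t⁻¹ = (t * a₀ * t⁻¹) * ((t * t) * a₀ * (t * t)⁻¹) := by rw [he]; group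
      _ = e := by rw [htt, inv_one, mul_one, one_mul, hJc _ (htJ a₀ ha₀) _ ha₀]
  set n := D (D e) with hn
  have hn1 : n ≠ 1 := by
    have htN : D (D (t * a₀ * t⁻¹)) = D (D a₀) := by
      have hz := hN3 a₀ ha₀
      have hfJ := hJconj s a₀ ha₀
      rw [hDD _ (htJ a₀ ha₀)]
      have h2 : t * (s * (s * a₀ * s⁻¹) * s⁻¹) * t⁻¹ = s * (t * a₀ * t⁻¹) * s⁻¹ := by
        rw [← hsinv a₀ ha₀]
        have h := htss (s⁻¹ * a₀ * s) (by simpa using hJconj s⁻¹ a₀ ha₀)
        rw [show s * (s⁻¹ * a₀ * s) * s⁻¹ = a₀ by group] at h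
        rw [h]; group
      have h3 : t * (s * a₀ * s⁻¹) * t⁻¹ = s * (s * (t * a₀ * t⁻¹) * s⁻¹) * s⁻¹ := by
        rw [htss a₀ ha₀, hsinv _ (htJ a₀ ha₀)]
      conv_rhs => rw [← mul_inv_cancel_right (D (D a₀)) t, ← hZt _ hz, hDD a₀ ha₀, conj_prod_of, conj_prod_of, h2, h3]
      rw [hJc _ (hJconj s _ (hJconj s _ (htJ a₀ ha₀))) _ (hJconj s _ (htJ a₀ ha₀))]
    rw [hn, he, hDmul _ ha₀ _ (htJ a₀ ha₀), hDmul _ (hDJ _ ha₀) _ (hDJ _ (htJ a₀ ha₀)), htN]
    intro h
    have h3 := hJexp _ (hDJ _ (hDJ _ ha₀))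
    rw [pow_succ, sq, h, one_mul] at h3
    exact hN₀ h3
  set f := s * e * s⁻¹ with hf
  set g := s * f * s⁻¹ with hg
  have hfJ : f ∈ J := hJconj s e heJ
  have hgJ : g ∈ J := hJconj s f hfJ
  have hnJ : n ∈ J := hDJ _ (hDJ _ heJ)
  have hnZ : n ∈ Z := hN3 e heJ
  set u := D e with hu
  have huJ : u ∈ J := hDJ e heJ
  have hfue : f = u * e := by rw [hu, hf]; simp [D, mul_assoc]
  have hgue : g = n * u * (u * e) := by
    rw [hg, hfue, conj_prod_of, show s * e * s⁻¹ = u * e by rw [← hfue, hf], show s * u * s⁻¹ = n * u by rw [hn, hu]; simp [D, mul_assoc]]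
  have hindep : ∀ i k l : ℕ, e ^ i * f ^ k * g ^ l = 1 → 3 ∣ i ∧ 3 ∣ k ∧ 3 ∣ l := by
    intro i k l h
    let jx : J := ⟨e, heJ⟩
    let ju : J := ⟨u, huJ⟩
    let jn : J := ⟨n, hnJ⟩
    letI : CommGroup J := { (inferInstance : Group J) with mul_comm := mul_comm' }
    have hJ3 : ∀ x : J, x ^ 3 = 1 := fun x => Subtype.ext (hJexp x x.2)
    let Dj : J →* J := MonoidHom.mk' (fun a => ⟨D a, hDJ a a.2⟩) fun a b => Subtype.ext (hDmul _ a.2 _ b.2)
    have hDe : Dj jx = ju := rfl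
    have hDu : Dj ju = jn := rfl
    have hDn : Dj jn = 1 := Subtype.ext (hDZ n hnZ)
    have h0 : jx ^ (i + k + l) * ju ^ (k + 2 * l) * jn ^ l = 1 := by
      have h' : jx ^ i * (ju * jx) ^ k * (jn * ju * (ju * jx)) ^ l = 1 := Subtype.ext (by
        push_cast
        show e ^ i * (u * e) ^ k * (n * u * (u * e)) ^ l = 1
        rw [hgue, hfue] at h
        exact h)
      rw [← h']
      rw [two_mul]
      simp only [mul_pow, pow_add, mul_assoc, mul_comm, mul_left_comm]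
    have h1 := congrArg Dj h0
    rw [map_mul, map_mul, map_pow, map_pow, map_pow, map_one, hDe, hDu, hDn, one_pow, mul_one] at h1
    have h2 := congrArg Dj h1
    rw [map_mul, map_pow, map_pow, map_one, hDu, hDn, one_pow, mul_one] at h2
    have hjn : orderOf jn = 3 := orderOf_eq_prime (hJ3 jn) (fun e' => hn1 (congrArg Subtype.val e'))
    have d1 : 3 ∣ i + k + l := hjn ▸ orderOf_dvd_of_pow_eq_one h2
    have hu3 : ju ^ (i + k + l) = 1 := by obtain ⟨c, hc⟩ := d1; rw [hc, pow_mul, hJ3, one_pow]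
    rw [hu3, one_mul] at h1
    have d2 : 3 ∣ k + 2 * l := hjn ▸ orderOf_dvd_of_pow_eq_one h1
    have he3 : jx ^ (i + k + l) = 1 := by obtain ⟨c, hc⟩ := d1; rw [hc, pow_mul, hJ3, one_pow]
    have hu4 : ju ^ (k + 2 * l) = 1 := by obtain ⟨c, hc⟩ := d2; rw [hc, pow_mul, hJ3, one_pow]
    rw [he3, hu4, one_mul, one_mul] at h0
    have d3 : 3 ∣ l := hjn ▸ orderOf_dvd_of_pow_eq_one h0
    omega
  -- the subgroup of index nine
  set P := Subgroup.closure ({f, g} : Set G) with hP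
  have hPJ : P ≤ J := (Subgroup.closure_le _).2 (by rintro x (rfl | rfl) <;> assumption)
  have hPmem : ∀ x ∈ P, ∃ k l : ℕ, x = f ^ k * g ^ l := by
    intro x hx
    rw [hP] at hx
    induction hx using Subgroup.closure_induction with
    | mem y hy =>
      rcases hy with rfl | rfl
      · exact ⟨1, 0, by simp⟩
      · exact ⟨0, 1, by simp⟩
    | one => exact ⟨0, 0, by simp⟩
    | mul a b _ _ iha ihb =>
      obtain ⟨k, l, rfl⟩ := iha
      obtain ⟨k', l', rfl⟩ := ihb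
      refine ⟨k + k', l + l', ?_⟩
      have hc := hJc _ (J.pow_mem hgJ l) _ (J.pow_mem hfJ k')
      rw [pow_add, pow_add, mul_assoc (f ^ k), ← mul_assoc (g ^ l), hc]
      simp only [mul_assoc]
    | inv a _ iha =>
      obtain ⟨k, l, rfl⟩ := iha
      refine ⟨2 * k, 2 * l, ?_⟩
      rw [mul_inv_rev, hJc _ (J.inv_mem (J.pow_mem hgJ l)) _ (J.inv_mem (J.pow_mem hfJ k))]
      have hinv : ∀ x ∈ J, ∀ m : ℕ, (x ^ m)⁻¹ = x ^ (2 * m) := fun x hx m => by
        rw [inv_eq_iff_mul_eq_one, ← pow_add, show m + 2 * m = 3 * m by omega, pow_mul, hJexp x hx, one_pow]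
      rw [hinv f hfJ, hinv g hgJ]
  have htnP : ∀ x ∈ P, t * x * t⁻¹ ∈ P := by
    have hle : P ≤ P.comap (MulAut.conj t).toMonoidHom := by
      rw [hP, Subgroup.closure_le]
      rintro x (rfl | rfl)
      · show t * (s * e * s⁻¹) * t⁻¹ ∈ P
        rw [htss e heJ, hte, hsinv e heJ, ← hf, ← hg]
        exact Subgroup.subset_closure (Or.inr rfl)
      · show t * g * t⁻¹ ∈ P
        have e2 : t * g * t⁻¹ = f := by
          rw [hg, hf, ← hsinv e heJ]
          have h := htss (s⁻¹ * e * s) (by simpa using hJconj s⁻¹ e heJ)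
          rw [show s * (s⁻¹ * e * s) * s⁻¹ = e by group, hte] at h
          calc t * (s⁻¹ * e * s) * t⁻¹ = s * (s⁻¹ * (t * (s⁻¹ * e * s) * t⁻¹) * s) * s⁻¹ := by group
            _ = _ := by rw [← h]
        rw [e2]
        exact Subgroup.subset_closure (Or.inl rfl)
    exact fun x hx => hle hx
  let H : Subgroup G :=
    { carrier := {x | ∃ a ∈ P, x = a ∨ x = a * t}
      one_mem' := ⟨1, P.one_mem, Or.inl rfl⟩
      mul_mem' := by
        rintro x y ⟨a, ha, hx⟩ ⟨b, hb, hy⟩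
        have hb' := htnP b hb
        rcases hx with rfl | rfl <;> rcases hy with rfl | rfl
        · exact ⟨x * y, P.mul_mem ha hb, Or.inl rfl⟩
        · exact ⟨x * b, P.mul_mem ha hb, Or.inr (mul_assoc _ _ _).symm⟩
        · exact ⟨a * (t * y * t⁻¹), P.mul_mem ha hb', Or.inr (by group)⟩
        · refine ⟨a * (t * b * t⁻¹), P.mul_mem ha hb', Or.inl ?_⟩
          calc a * t * (b * t) = a * (t * b * t⁻¹) * (t * t) := by group
            _ = _ := by rw [htt, mul_one]
      inv_mem' := by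
        rintro x ⟨a, ha, rfl | rfl⟩
        · exact ⟨x⁻¹, P.inv_mem ha, Or.inl rfl⟩
        · refine ⟨t * a⁻¹ * t⁻¹, htnP _ (P.inv_mem ha), Or.inr ?_⟩
          rw [mul_inv_rev, inv_mul_cancel_right, inv_eq_of_mul_eq_one_right htt] }
  have hHJ : ∀ x ∈ H, x ∈ J → x ∈ P := by
    rintro x ⟨a, ha, rfl | rfl⟩ hxJ
    · exact ha
    · exact absurd (hJS (by simpa using J.mul_mem (J.inv_mem (hPJ ha)) hxJ)) htS
  have hlow : 9 ≤ Nat.card P := by
    have hinj : Function.Injective (fun x : Fin 3 × Fin 3 => (⟨f ^ (x.1 : ℕ) * g ^ (x.2 : ℕ),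
        P.mul_mem (P.pow_mem (Subgroup.subset_closure (Or.inl rfl)) _) (P.pow_mem (Subgroup.subset_closure (Or.inr rfl)) _)⟩ : P)) := by
      rintro ⟨a, b⟩ ⟨a', b'⟩ h
      have h' : f ^ (a : ℕ) * g ^ (b : ℕ) = f ^ (a' : ℕ) * g ^ (b' : ℕ) := congrArg Subtype.val h
      have h0 : e ^ 0 * f ^ ((a : ℕ) + 2 * a') * g ^ ((b : ℕ) + 2 * b') = 1 := by
        rw [pow_zero, one_mul, pow_add, pow_add, mul_assoc (f ^ (a : ℕ)), ← mul_assoc (f ^ (2 * (a' : ℕ))),
          ← hJc _ (J.pow_mem hgJ b) _ (J.pow_mem hfJ _), mul_assoc (g ^ (b : ℕ)), ← mul_assoc, h',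
          mul_assoc, ← mul_assoc (g ^ (b' : ℕ)), hJc _ (J.pow_mem hgJ b') _ (J.pow_mem hfJ _), mul_assoc, ← mul_assoc,
          ← pow_add, ← pow_add, show (a' : ℕ) + 2 * a' = 3 * a' by omega, show (b' : ℕ) + 2 * b' = 3 * b' by omega,
          pow_mul, pow_mul, hJexp f hfJ, hJexp g hgJ, one_pow, one_pow, one_mul]
      obtain ⟨-, h1, h2⟩ := hindep _ _ _ h0
      have := a.isLt
      have := a'.isLt
      have := b.isLt
      have := b'.isLt
      exact Prod.ext (Fin.ext (show (a : ℕ) = a' by omega)) (Fin.ext (show (b : ℕ) = b' by omega))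
    have := Nat.card_le_card_of_injective _ hinj
    simpa using this
  have hup : Nat.card P ≤ 9 := by
    have hsurj : Function.Surjective (fun x : Fin 3 × Fin 3 => (⟨f ^ (x.1 : ℕ) * g ^ (x.2 : ℕ),
        P.mul_mem (P.pow_mem (Subgroup.subset_closure (Or.inl rfl)) _) (P.pow_mem (Subgroup.subset_closure (Or.inr rfl)) _)⟩ : P)) := by
      rintro ⟨x, hx⟩
      obtain ⟨k, l, rfl⟩ := hPmem x hx
      refine ⟨(⟨k % 3, Nat.mod_lt _ (by norm_num)⟩, ⟨l % 3, Nat.mod_lt _ (by norm_num)⟩), Subtype.ext ?_⟩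
      show f ^ (k % 3) * g ^ (l % 3) = f ^ k * g ^ l
      rw [← pow_eq_pow_mod k (hJexp f hfJ), ← pow_eq_pow_mod l (hJexp g hgJ)]
    have := Nat.card_le_card_of_surjective _ hsurj
    simpa using this
  have hHcard : Nat.card H = 18 := by
    have hbij : Function.Bijective (fun x : P × Fin 2 => (⟨(x.1 : G) * t ^ (x.2 : ℕ), by
        rcases x with ⟨⟨a, ha⟩, i⟩
        fin_cases i
        · exact ⟨a, ha, Or.inl (by simp)⟩
        · exact ⟨a, ha, Or.inr (by simp)⟩⟩ : H)) := by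
      constructor
      · rintro ⟨⟨a, ha⟩, i⟩ ⟨⟨b, hb⟩, i'⟩ h
        have h' : a * t ^ (i : ℕ) = b * t ^ (i' : ℕ) := congrArg Subtype.val h
        have key : ∀ a ∈ P, ∀ b ∈ P, a ≠ b * t := fun a ha b hb e' =>
          htS (by
            have : b⁻¹ * a ∈ (S : Subgroup G) := hJS (J.mul_mem (J.inv_mem (hPJ hb)) (hPJ ha))
            rwa [e', inv_mul_cancel_left] at this)
        fin_cases i <;> fin_cases i' <;> simp at h' ⊢
        · exact h'
        · exact absurd h' (key a ha b hb)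
        · exact absurd h'.symm (key b hb a ha)
        · exact h'
      · rintro ⟨x, a, ha, rfl | rfl⟩
        · exact ⟨(⟨x, ha⟩, 0), Subtype.ext (by simp)⟩
        · exact ⟨(⟨a, ha⟩, 1), Subtype.ext (by simp)⟩
    rw [← Nat.card_eq_of_bijective _ hbij, Nat.card_prod, Nat.card_fin]
    omega
  have hidx : Nat.card (G ⧸ H) = 9 := by
    have h := Subgroup.card_eq_card_quotient_mul_card_subgroup H
    rw [hG, hHcard] at h
    omega
  have hnH : ∀ m : ℕ, ¬ 3 ∣ m → n ^ m ∉ H := by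
    intro m hm h
    obtain ⟨k, l, hkl⟩ := hPmem _ (hHJ _ h (J.pow_mem hnJ m))
    have hn' : n = e * f * g := by
      rw [hn, hDD e heJ, ← hf, ← hg, hJc (g * f) (J.mul_mem hgJ hfJ) e heJ, hJc g hgJ f hfJ]
      simp only [mul_assoc]
    have hc1 : Commute (e * f) g := hJc _ (J.mul_mem heJ hfJ) _ hgJ
    have hc2 : Commute e f := hJc _ heJ _ hfJ
    rw [hn', hc1.mul_pow, hc2.mul_pow] at hkl
    have h0 : e ^ m * f ^ (m + 2 * k) * g ^ (m + 2 * l) = 1 := by
      calc e ^ m * f ^ (m + 2 * k) * g ^ (m + 2 * l) = e ^ m * f ^ m * (f ^ (2 * k) * g ^ m) * g ^ (2 * l) := by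
            rw [pow_add, pow_add]; simp only [mul_assoc]
        _ = e ^ m * f ^ m * g ^ m * (f ^ (2 * k) * g ^ (2 * l)) := by
            rw [hJc _ (J.pow_mem hfJ (2 * k)) _ (J.pow_mem hgJ m)]; simp only [mul_assoc]
        _ = f ^ k * (g ^ l * f ^ (2 * k)) * g ^ (2 * l) := by rw [hkl]; simp only [mul_assoc]
        _ = (f ^ (k + 2 * k)) * (g ^ (l + 2 * l)) := by
            rw [hJc _ (J.pow_mem hgJ l) _ (J.pow_mem hfJ (2 * k)), pow_add, pow_add]; simp only [mul_assoc]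
        _ = 1 := by
          rw [show k + 2 * k = 3 * k by omega, show l + 2 * l = 3 * l by omega, pow_mul, pow_mul, hJexp f hfJ,
            hJexp g hgJ, one_pow, one_pow, one_mul]
    exact hm (hindep _ _ _ h0).1
  have hncen : ∀ x : G, x * n = n * x := by
    intro x
    have hle : (S : Subgroup G) ⊔ Subgroup.zpowers t ≤ Subgroup.centralizer ({n} : Set G) := sup_le
      (fun y hy => Subgroup.mem_centralizer_singleton_iff.2 (hZmem n hnZ y hy))
      (Subgroup.zpowers_le.2 (Subgroup.mem_centralizer_singleton_iff.2 (hZt n hnZ)))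
    have htop : (S : Subgroup G) ⊔ Subgroup.zpowers t = ⊤ := by
      by_contra hne
      have hi : (S : Subgroup G).index = 2 := by
        have h1 := (S : Subgroup G).card_mul_index
        rw [hG, hS81] at h1
        omega
      have hd : ((S : Subgroup G) ⊔ Subgroup.zpowers t).index ∣ (S : Subgroup G).index := Subgroup.index_dvd_of_le le_sup_left
      rw [hi, Nat.dvd_prime Nat.prime_two] at hd
      rcases hd with hd | hd
      · exact hne (Subgroup.index_eq_one.1 hd)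
      · refine htS ?_
        have heq : (S : Subgroup G) = (S : Subgroup G) ⊔ Subgroup.zpowers t := by
          refine Subgroup.eq_of_le_of_card_ge le_sup_left (le_of_eq ?_)
          have a1 := ((S : Subgroup G) ⊔ Subgroup.zpowers t).card_mul_index
          have a2 := (S : Subgroup G).card_mul_index
          rw [hd] at a1
          rw [hi] at a2
          omega
        rw [heq]
        exact Subgroup.mem_sup_right (Subgroup.mem_zpowers t)
    exact Subgroup.mem_centralizer_singleton_iff.1 (hle (htop ▸ Subgroup.mem_top x))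
  haveI : Fintype (G ⧸ H) := Fintype.ofFinite _
  let ε : G ⧸ H ≃ Fin 9 := Fintype.equivFinOfCardEq (by rw [← Nat.card_eq_fintype_card, hidx])
  let φ : G →* Equiv.Perm (Fin 9) := ε.permCongrHom.toMonoidHom.comp (MulAction.toPermHom G (G ⧸ H))
  have hinj : Function.Injective φ := by
    show Function.Injective (ε.permCongrHom ∘ MulAction.toPermHom G (G ⧸ H))
    refine Function.Injective.comp ε.permCongrHom.injective ?_
    rw [← MonoidHom.ker_eq_bot_iff]
    set N := (MulAction.toPermHom G (G ⧸ H)).ker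
    have hNH : N ≤ H := fun x hx => by
      have h := congrArg (fun σ : Equiv.Perm (G ⧸ H) => σ (((1 : G)) : G ⧸ H)) (MonoidHom.mem_ker.1 hx)
      simp only [MulAction.toPermHom_apply, MulAction.toPerm_apply, MulAction.Quotient.smul_mk, smul_eq_mul, mul_one,
        Equiv.Perm.coe_one, id_eq, QuotientGroup.eq] at h
      simpa using h
    have hNn : N.Normal := MonoidHom.normal_ker _
    have hNJ : ∀ x ∈ N, x ∈ J → x = 1 := by
      intro x hx hxJ
      obtain ⟨k, l, hkl⟩ := hPmem x (hHJ x (hNH hx) hxJ)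
      -- conjugate by s
      have hx1 := hNn.conj_mem x hx s
      obtain ⟨k1, l1, hkl1⟩ := hPmem _ (hHJ _ (hNH hx1) (hJconj s x hxJ))
      have hge : s * g * s⁻¹ = e := by
        rw [hg, hf, ← hsinv e heJ]; group
      have hkl' : s * x * s⁻¹ = g ^ k * e ^ l := by
        rw [hkl, conj_prod_of, ← conj_pow, ← conj_pow, hge, hg]
      have h0 : e ^ l * f ^ (2 * k1) * g ^ (k + 2 * l1) = 1 := by
        have h1 : e ^ l * g ^ k = f ^ k1 * g ^ l1 := by
          rw [hJc _ (J.pow_mem heJ l) _ (J.pow_mem hgJ k), ← hkl', hkl1]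
        calc e ^ l * f ^ (2 * k1) * g ^ (k + 2 * l1) = e ^ l * g ^ k * (f ^ (2 * k1) * g ^ (2 * l1)) := by
              rw [mul_assoc, pow_add, ← mul_assoc (f ^ (2 * k1)), hJc _ (J.pow_mem hfJ (2 * k1)) _ (J.pow_mem hgJ k)]
              simp only [mul_assoc]
          _ = f ^ (k1 + 2 * k1) * g ^ (l1 + 2 * l1) := by
              rw [h1, mul_assoc, ← mul_assoc (g ^ l1), hJc _ (J.pow_mem hgJ l1) _ (J.pow_mem hfJ (2 * k1)), pow_add, pow_add]
              simp only [mul_assoc]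
          _ = 1 := by
            rw [show k1 + 2 * k1 = 3 * k1 by omega, show l1 + 2 * l1 = 3 * l1 by omega, pow_mul, pow_mul, hJexp f hfJ,
              hJexp g hgJ, one_pow, one_pow, one_mul]
      obtain ⟨c1, -, c3⟩ := hindep _ _ _ h0
      have hx2 := hNn.conj_mem _ hx1 s
      obtain ⟨k2, l2, hkl2⟩ := hPmem _ (hHJ _ (hNH hx2) (hJconj s _ (hJconj s x hxJ)))
      obtain ⟨c, hc⟩ := c1
      rw [hkl', hc, pow_mul, hJexp e heJ, one_pow, mul_one, ← conj_pow, hge] at hkl2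
      have h0' : e ^ k * f ^ (2 * k2) * g ^ (2 * l2) = 1 := by
        rw [hkl2, mul_assoc (f ^ k2), hJc _ (J.pow_mem hgJ l2) _ (J.pow_mem hfJ (2 * k2)), ← mul_assoc, ← pow_add,
          mul_assoc, ← pow_add, show k2 + 2 * k2 = 3 * k2 by omega, show l2 + 2 * l2 = 3 * l2 by omega, pow_mul, pow_mul,
          hJexp f hfJ, hJexp g hgJ, one_pow, one_pow, one_mul]
      obtain ⟨⟨d, hd⟩, -, -⟩ := hindep _ _ _ h0'
      rw [hkl, hd, hc, pow_mul, pow_mul, hJexp f hfJ, hJexp g hgJ, one_pow, one_pow, one_mul]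
    rw [Subgroup.eq_bot_iff_forall]
    intro x hx
    obtain ⟨a, ha, rfl | rfl⟩ := hNH hx
    · exact hNJ x hx (hPJ ha)
    exfalso
    have hJcomm' : ∀ b ∈ J, (a * t) * b * (a * t)⁻¹ * b⁻¹ = 1 := by
      intro b hb
      refine hNJ _ ?_ (J.mul_mem (hJconj _ b hb) (J.inv_mem hb))
      have h1 := N.mul_mem hx (hNn.conj_mem _ (N.inv_mem hx) b)
      convert h1 using 1
      group
    have hef : f = e := by
      have h := hJcomm' f hfJ
      rw [mul_inv_eq_one] at h
      have h2 : (a * t) * f * (a * t)⁻¹ = g := by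
        calc (a * t) * f * (a * t)⁻¹ = a * (t * (s * e * s⁻¹) * t⁻¹) * a⁻¹ := by rw [hf]; group
          _ = a * g * a⁻¹ := by rw [htss e heJ, hte, hsinv e heJ, ← hf, ← hg]
          _ = g := by rw [hJc a (hPJ ha) g hgJ, mul_inv_cancel_right]
      rw [h2] at h
      have h0 : e ^ 0 * f ^ 2 * g ^ 1 = 1 := by
        rw [pow_zero, one_mul, pow_one, h, ← pow_succ, hJexp f hfJ]
      obtain ⟨-, h1, -⟩ := hindep _ _ _ h0
      omega
    have h0 : e ^ 1 * f ^ 2 * g ^ 0 = 1 := by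
      rw [pow_zero, mul_one, pow_one, hef, ← pow_succ', hJexp e heJ]
    obtain ⟨h1, -, -⟩ := hindep _ _ _ h0
    omega
  set σ := Equiv.swap (0 : Fin 9) 1 * Equiv.swap 1 2 * Equiv.swap 3 4 * Equiv.swap 4 5 * Equiv.swap 6 7 * Equiv.swap 7 8
  have hσ3 : σ ^ 3 = 1 := by decide
  have hσf : ∀ x, σ x ≠ x := by decide
  have hn3 : φ n ^ 3 = 1 := by rw [← map_pow, hJexp n hnJ, map_one]
  have hnf : ∀ x, φ n x ≠ x := by
    intro x h
    obtain ⟨y, hy⟩ := QuotientGroup.mk_surjective (ε.symm x)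
    have h' : n • ε.symm x = ε.symm x := by
      apply ε.injective
      rw [ε.apply_symm_apply]
      exact h
    rw [← hy, MulAction.Quotient.smul_mk, smul_eq_mul, QuotientGroup.eq, mul_inv_rev, mul_assoc] at h'
    have h2 : n⁻¹ ∈ H := by
      rwa [show y⁻¹ * (n⁻¹ * y) = n⁻¹ by
        rw [show n⁻¹ * y = y * n⁻¹ from (Commute.inv_left (show Commute n y from (hncen y).symm)).eq, inv_mul_cancel_left]] at h'
    refine hnH 1 (by norm_num) ?_
    rw [pow_one]
    simpa using H.inv_mem h2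
  obtain ⟨c, hc⟩ := isConj_iff.1 (Equiv.Perm.isConj_iff_cycleType_eq.2
    ((cycleType_of_free (by simp) _ hn3 hnf).trans (cycleType_of_free (by simp) _ hσ3 hσf).symm))
  let ψ : G →* Equiv.Perm (Fin 9) := (MulAut.conj c).toMonoidHom.comp φ
  have hψ : Function.Injective ψ := (MulAut.conj c).injective.comp hinj
  have hle : ψ.range ≤ Subgroup.centralizer ({σ} : Set (Equiv.Perm (Fin 9))) := by
    rintro _ ⟨x, rfl⟩
    rw [Subgroup.mem_centralizer_singleton_iff, show σ = ψ n from hc.symm, ← map_mul, ← map_mul, hncen]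
  have hcard : Nat.card (Subgroup.centralizer ({σ} : Set (Equiv.Perm (Fin 9)))) = 162 := by
    rw [Equiv.Perm.nat_card_centralizer, cycleType_of_free (by simp) _ hσ3 hσf]
    decide
  have heq : ψ.range = Subgroup.centralizer ({σ} : Set (Equiv.Perm (Fin 9))) := by
    refine Subgroup.eq_of_le_of_card_ge hle ?_
    rw [hcard, Nat.card_congr (MonoidHom.ofInjective hψ).toEquiv.symm, hG]
  exact ⟨(MonoidHom.ofInjective hψ).trans (MulEquiv.subgroupCongr heq)⟩

end Cfsg.Agent.S3376
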