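import Cfsg.Statements.S3377


set_option autoImplicit false
open Cfsg

namespace Cfsg.Agent.S3377

theorem step {G : Type*} [Group G] {y a b c P g : G} {i j : ℤ} (h : a * P = y ^ i * b)
    (e : b * g = y ^ j * c) : a * (P * g) = y ^ (i + j) * c := by
  rw [← mul_assoc, h, mul_assoc, e, zpow_add, mul_assoc]

theorem ded {G : Type*} [Group G] {y a f e P g B : G} {i j : ℤ} (hP : a * P = y ^ i * f)
    (hB : a * B = y ^ j * e) (hR : P * g = B) : f * g = y ^ (-i + j) * e := by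
  rw [← hR, ← mul_assoc, hP, mul_assoc] at hB
  rw [zpow_add, mul_assoc, ← hB, zpow_neg, inv_mul_cancel_left]

theorem back {G : Type*} [Group G] {y a b g : G} {i : ℤ} (h : a * g = y ^ i * b) :
    b * g⁻¹ = y ^ (-i) * a := by
  have e : b = y ^ (-i) * a * g := by rw [mul_assoc, h, zpow_neg, inv_mul_cancel_left]
  rw [e, mul_inv_cancel_right]

theorem back' {G : Type*} [Group G] {y a b g : G} {i : ℤ} (h : a * g⁻¹ = y ^ i * b) :
    b * g = y ^ (-i) * a := by simpa using back h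

theorem start {G : Type*} [Group G] (y a : G) : a * 1 = y ^ (0 : ℤ) * a := by simp

set_option maxHeartbeats 2000000 in
theorem coset_table {G : Type*} [Group G] (x y : G) (hx : x * x * x = 1) (hy : y * y * y * y * y = 1)
    (hxy : x * y * x * y = 1) : ∃ w : Fin 12 → G, w 0 = 1 ∧
      (∀ a, ∃ (i : ℤ) (b : Fin 12), w a * x = y ^ i * w b) ∧
      (∀ a, ∃ (i : ℤ) (b : Fin 12), w a * y = y ^ i * w b) := by

  have r0_0 : x * x * x = 1 := hx
  have r2_0 : x * y * x * y = 1 := hxy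
  have r1_0 : y * y * y * y * y = 1 := hy
  have r2_1 : y * x * y * x = 1 := by
    calc y * x * y * x = (x)⁻¹ * (x * y * x * y) * (x) := by group
      _ = 1 := by rw [hxy, mul_one, inv_mul_cancel]
  have e0y : (1 : G) * y = y ^ (1 : ℤ) * (1 : G) := by simp
  have e0Y : (1 : G) * y⁻¹ = y ^ (-1 : ℤ) * (1 : G) := back e0y
  have e0x : (1 : G) * x = y ^ (0 : ℤ) * (x) := by group
  have e1X : (x) * x⁻¹ = y ^ (0 : ℤ) * (1 : G) := back e0x
  have e0X : (1 : G) * x⁻¹ = y ^ (0 : ℤ) * (x⁻¹) := by group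
  have e2x : (x⁻¹) * x = y ^ (0 : ℤ) * (1 : G) := back' e0X
  have e1x : (x) * x = y ^ (0 : ℤ) * (x⁻¹) := (by
    have h := ded (step (start y (1 : G)) e0x) (step (start y (1 : G)) e0X) (g := x) (by
      calc (1 * x) * x = (x * x * x) * (1 * x⁻¹) := by group
        _ = (1 * x⁻¹) := by rw [r0_0, one_mul])
    simpa using h)
  have e2X : (x⁻¹) * x⁻¹ = y ^ (0 : ℤ) * (x) := back e1x
  have e1y : (x) * y = y ^ (-1 : ℤ) * (x⁻¹) := (by
    have h := ded (step (start y (1 : G)) e0x) (step (step (start y (1 : G)) e0Y) e0X) (g := y) (by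
      calc (1 * x) * y = (x * y * x * y) * ((1 * y⁻¹) * x⁻¹) := by group
        _ = ((1 * y⁻¹) * x⁻¹) := by rw [r2_0, one_mul])
    simpa using h)
  have e2Y : (x⁻¹) * y⁻¹ = y ^ (1 : ℤ) * (x) := back e1y
  have e1Y : (x) * y⁻¹ = y ^ (0 : ℤ) * (x * y⁻¹) := by group
  have e3y : (x * y⁻¹) * y = y ^ (0 : ℤ) * (x) := back' e1Y
  have e2y : (x⁻¹) * y = y ^ (0 : ℤ) * (x⁻¹ * y) := by group
  have e4Y : (x⁻¹ * y) * y⁻¹ = y ^ (0 : ℤ) * (x⁻¹) := back e2y
  have e4x : (x⁻¹ * y) * x = y ^ (0 : ℤ) * (x * y⁻¹) := (by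
    have h := ded (step (step (start y (x)) e1x) e2y) (step (start y (x)) e1Y) (g := x) (by
      calc ((1 * x) * y) * x = (x * y * x * y) * (1 * y⁻¹) := by group
        _ = (1 * y⁻¹) := by rw [r2_0, one_mul])
    simpa using h)
  have e3X : (x * y⁻¹) * x⁻¹ = y ^ (0 : ℤ) * (x⁻¹ * y) := back e4x
  have e3x : (x * y⁻¹) * x = y ^ (0 : ℤ) * (x * y⁻¹ * x) := by group
  have e5X : (x * y⁻¹ * x) * x⁻¹ = y ^ (0 : ℤ) * (x * y⁻¹) := back e3x
  have e5x : (x * y⁻¹ * x) * x = y ^ (0 : ℤ) * (x⁻¹ * y) := (by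
    have h := ded (step (start y (x * y⁻¹)) e3x) (step (start y (x * y⁻¹)) e3X) (g := x) (by
      calc (1 * x) * x = (x * x * x) * (1 * x⁻¹) := by group
        _ = (1 * x⁻¹) := by rw [r0_0, one_mul])
    simpa using h)
  have e4X : (x⁻¹ * y) * x⁻¹ = y ^ (0 : ℤ) * (x * y⁻¹ * x) := back e5x
  have e3Y : (x * y⁻¹) * y⁻¹ = y ^ (0 : ℤ) * (x * y⁻¹ * y⁻¹) := by group
  have e6y : (x * y⁻¹ * y⁻¹) * y = y ^ (0 : ℤ) * (x * y⁻¹) := back' e3Y
  have e4y : (x⁻¹ * y) * y = y ^ (1 : ℤ) * (x * y⁻¹ * y⁻¹) := (by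
    have h := ded (step (step (start y (x)) e1y) e2y) (step (step (start y (x)) e1Y) e3Y) (g := y) (by
      calc ((1 * y) * y) * y = (y * y * y * y * y) * ((1 * y⁻¹) * y⁻¹) := by simp [mul_assoc]
        _ = ((1 * y⁻¹) * y⁻¹) := by rw [r1_0, one_mul])
    simpa using h)
  have e6Y : (x * y⁻¹ * y⁻¹) * y⁻¹ = y ^ (-1 : ℤ) * (x⁻¹ * y) := back e4y
  have e5y : (x * y⁻¹ * x) * y = y ^ (0 : ℤ) * (x * y⁻¹ * x * y) := by group
  have e7Y : (x * y⁻¹ * x * y) * y⁻¹ = y ^ (0 : ℤ) * (x * y⁻¹ * x) := back e5y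
  have e7x : (x * y⁻¹ * x * y) * x = y ^ (0 : ℤ) * (x * y⁻¹ * y⁻¹) := (by
    have h := ded (step (step (start y (x * y⁻¹)) e3x) e5y) (step (start y (x * y⁻¹)) e3Y) (g := x) (by
      calc ((1 * x) * y) * x = (x * y * x * y) * (1 * y⁻¹) := by group
        _ = (1 * y⁻¹) := by rw [r2_0, one_mul])
    simpa using h)
  have e6X : (x * y⁻¹ * y⁻¹) * x⁻¹ = y ^ (0 : ℤ) * (x * y⁻¹ * x * y) := back e7x
  have e5Y : (x * y⁻¹ * x) * y⁻¹ = y ^ (0 : ℤ) * (x * y⁻¹ * x * y⁻¹) := by group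
  have e8y : (x * y⁻¹ * x * y⁻¹) * y = y ^ (0 : ℤ) * (x * y⁻¹ * x) := back' e5Y
  have e6x : (x * y⁻¹ * y⁻¹) * x = y ^ (-1 : ℤ) * (x * y⁻¹ * x * y⁻¹) := (by
    have h := ded (step (start y (x⁻¹ * y)) e4y) (step (step (start y (x⁻¹ * y)) e4X) e5Y) (g := x) (by
      calc (1 * y) * x = (y * x * y * x) * ((1 * x⁻¹) * y⁻¹) := by group
        _ = ((1 * x⁻¹) * y⁻¹) := by rw [r2_1, one_mul])
    simpa using h)
  have e8X : (x * y⁻¹ * x * y⁻¹) * x⁻¹ = y ^ (1 : ℤ) * (x * y⁻¹ * y⁻¹) := back e6x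
  have e8x : (x * y⁻¹ * x * y⁻¹) * x = y ^ (1 : ℤ) * (x * y⁻¹ * x * y) := (by
    have h := ded (step (start y (x * y⁻¹ * y⁻¹)) e6x) (step (start y (x * y⁻¹ * y⁻¹)) e6X) (g := x) (by
      calc (1 * x) * x = (x * x * x) * (1 * x⁻¹) := by group
        _ = (1 * x⁻¹) := by rw [r0_0, one_mul])
    simpa using h)
  have e7X : (x * y⁻¹ * x * y) * x⁻¹ = y ^ (-1 : ℤ) * (x * y⁻¹ * x * y⁻¹) := back e8x
  have e7y : (x * y⁻¹ * x * y) * y = y ^ (0 : ℤ) * (x * y⁻¹ * x * y * y) := by group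
  have e9Y : (x * y⁻¹ * x * y * y) * y⁻¹ = y ^ (0 : ℤ) * (x * y⁻¹ * x * y) := back e7y
  have e8Y : (x * y⁻¹ * x * y⁻¹) * y⁻¹ = y ^ (0 : ℤ) * (x * y⁻¹ * x * y⁻¹ * y⁻¹) := by group
  have e10y : (x * y⁻¹ * x * y⁻¹ * y⁻¹) * y = y ^ (0 : ℤ) * (x * y⁻¹ * x * y⁻¹) := back' e8Y
  have e9y : (x * y⁻¹ * x * y * y) * y = y ^ (0 : ℤ) * (x * y⁻¹ * x * y⁻¹ * y⁻¹) := (by
    have h := ded (step (step (start y (x * y⁻¹ * x)) e5y) e7y) (step (step (start y (x * y⁻¹ * x)) e5Y) e8Y) (g := y) (by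
      calc ((1 * y) * y) * y = (y * y * y * y * y) * ((1 * y⁻¹) * y⁻¹) := by simp [mul_assoc]
        _ = ((1 * y⁻¹) * y⁻¹) := by rw [r1_0, one_mul])
    simpa using h)
  have e10Y : (x * y⁻¹ * x * y⁻¹ * y⁻¹) * y⁻¹ = y ^ (0 : ℤ) * (x * y⁻¹ * x * y * y) := back e9y
  have e9x : (x * y⁻¹ * x * y * y) * x = y ^ (-1 : ℤ) * (x * y⁻¹ * x * y⁻¹ * y⁻¹) := (by
    have h := ded (step (start y (x * y⁻¹ * x * y)) e7y) (step (step (start y (x * y⁻¹ * x * y)) e7X) e8Y) (g := x) (by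
      calc (1 * y) * x = (y * x * y * x) * ((1 * x⁻¹) * y⁻¹) := by group
        _ = ((1 * x⁻¹) * y⁻¹) := by rw [r2_1, one_mul])
    simpa using h)
  have e10X : (x * y⁻¹ * x * y⁻¹ * y⁻¹) * x⁻¹ = y ^ (1 : ℤ) * (x * y⁻¹ * x * y * y) := back e9x
  have e9X : (x * y⁻¹ * x * y * y) * x⁻¹ = y ^ (0 : ℤ) * (x * y⁻¹ * x * y * y * x⁻¹) := by group
  have e11x : (x * y⁻¹ * x * y * y * x⁻¹) * x = y ^ (0 : ℤ) * (x * y⁻¹ * x * y * y) := back' e9X
  have e10x : (x * y⁻¹ * x * y⁻¹ * y⁻¹) * x = y ^ (1 : ℤ) * (x * y⁻¹ * x * y * y * x⁻¹) := (by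
    have h := ded (step (start y (x * y⁻¹ * x * y * y)) e9x) (step (start y (x * y⁻¹ * x * y * y)) e9X) (g := x) (by
      calc (1 * x) * x = (x * x * x) * (1 * x⁻¹) := by group
        _ = (1 * x⁻¹) := by rw [r0_0, one_mul])
    simpa using h)
  have e11X : (x * y⁻¹ * x * y * y * x⁻¹) * x⁻¹ = y ^ (-1 : ℤ) * (x * y⁻¹ * x * y⁻¹ * y⁻¹) := back e10x
  have e11y : (x * y⁻¹ * x * y * y * x⁻¹) * y = y ^ (-1 : ℤ) * (x * y⁻¹ * x * y * y * x⁻¹) := (by
    have h := ded (step (step (start y (x * y⁻¹ * x * y * y)) e9y) e10x) (step (start y (x * y⁻¹ * x * y * y)) e9X) (g := y) (by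
      calc ((1 * y) * x) * y = (y * x * y * x) * (1 * x⁻¹) := by group
        _ = (1 * x⁻¹) := by rw [r2_1, one_mul])
    simpa using h)
  have e11Y : (x * y⁻¹ * x * y * y * x⁻¹) * y⁻¹ = y ^ (1 : ℤ) * (x * y⁻¹ * x * y * y * x⁻¹) := back e11y
  refine ⟨![(1 : G), (x), (x⁻¹), (x * y⁻¹), (x⁻¹ * y), (x * y⁻¹ * x), (x * y⁻¹ * y⁻¹), (x * y⁻¹ * x * y), (x * y⁻¹ * x * y⁻¹), (x * y⁻¹ * x * y * y), (x * y⁻¹ * x * y⁻¹ * y⁻¹), (x * y⁻¹ * x * y * y * x⁻¹)], rfl, fun a => ?_, fun a => ?_⟩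
  · fin_cases a
    · exact ⟨_, 1, e0x⟩
    · exact ⟨_, 2, e1x⟩
    · exact ⟨_, 0, e2x⟩
    · exact ⟨_, 5, e3x⟩
    · exact ⟨_, 3, e4x⟩
    · exact ⟨_, 4, e5x⟩
    · exact ⟨_, 8, e6x⟩
    · exact ⟨_, 6, e7x⟩
    · exact ⟨_, 7, e8x⟩
    · exact ⟨_, 10, e9x⟩
    · exact ⟨_, 11, e10x⟩
    · exact ⟨_, 9, e11x⟩
  · fin_cases a
    · exact ⟨_, 0, e0y⟩
    · exact ⟨_, 2, e1y⟩
    · exact ⟨_, 4, e2y⟩
    · exact ⟨_, 1, e3y⟩
    · exact ⟨_, 6, e4y⟩
    · exact ⟨_, 7, e5y⟩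
    · exact ⟨_, 3, e6y⟩
    · exact ⟨_, 9, e7y⟩
    · exact ⟨_, 5, e8y⟩
    · exact ⟨_, 10, e9y⟩
    · exact ⟨_, 8, e10y⟩
    · exact ⟨_, 11, e11y⟩

abbrev rels : Set (FreeGroup (Fin 2)) := {FreeGroup.of (0 : Fin 2) ^ 3, FreeGroup.of (1 : Fin 2) ^ 5,
  (FreeGroup.of (0 : Fin 2) * FreeGroup.of 1) ^ 2}

def gx : alternatingGroup (Fin 5) :=
  ⟨Equiv.swap 0 1 * Equiv.swap 1 2, by rw [Equiv.Perm.mem_alternatingGroup]; decide⟩
def gy : alternatingGroup (Fin 5) := ⟨(finRotate 5) ^ 2, by rw [Equiv.Perm.mem_alternatingGroup]; decide⟩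

theorem g_rels : gx ^ 3 = 1 ∧ gy ^ 5 = 1 ∧ (gx * gy) ^ 2 = 1 := by
  refine ⟨?_, ?_, ?_⟩ <;> apply Subtype.ext <;> decide

/-- The alternating group of degree 5 has the presentation ⟨x, y | x³ = 1, y⁵ = 1, (xy)² = 1⟩: the group so presented is isomorphic to Alt(5). -/
theorem result :
    Nonempty (PresentedGroup ({FreeGroup.of (0 : Fin 2) ^ 3, FreeGroup.of (1 : Fin 2) ^ 5,
        (FreeGroup.of (0 : Fin 2) * FreeGroup.of 1) ^ 2} : Set (FreeGroup (Fin 2))) ≃* alternatingGroup (Fin 5)) := by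
  classical
  let x : PresentedGroup rels := PresentedGroup.of 0
  let y : PresentedGroup rels := PresentedGroup.of 1
  have hr : ∀ r ∈ rels, PresentedGroup.mk rels r = 1 := fun r hr => PresentedGroup.one_of_mem hr
  have hx3 : x ^ 3 = 1 := by rw [← hr _ (Or.inl rfl), map_pow]; rfl
  have hy5 : y ^ 5 = 1 := by rw [← hr _ (Or.inr (Or.inl rfl)), map_pow]; rfl
  have hxy2 : (x * y) ^ 2 = 1 := by
    rw [← hr _ (Or.inr (Or.inr rfl)), map_pow, map_mul]; rfl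
  obtain ⟨w, hw0, hwx, hwy⟩ := coset_table x y (by rw [← hx3]; simp [pow_succ, mul_assoc]) (by rw [← hy5]; simp [pow_succ, mul_assoc])
    (by rw [← hxy2]; simp [pow_succ, mul_assoc])
  let S : Set (PresentedGroup rels) := Set.range fun p : Fin 5 × Fin 12 => y ^ (p.1 : ℕ) * w p.2
  have hS : ∀ (i : ℤ) (b : Fin 12), y ^ i * w b ∈ S := by
    intro i b
    refine ⟨(⟨(i % 5).toNat, by omega⟩, b), ?_⟩
    show y ^ (i % 5).toNat * w b = _
    congr 1
    rw [← zpow_natCast, Int.toNat_of_nonneg (Int.emod_nonneg _ (by norm_num))]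
    conv_rhs => rw [← Int.mul_ediv_add_emod i 5, zpow_add, zpow_mul]
    rw [show y ^ (5 : ℤ) = 1 from by rw [← hy5]; norm_cast, one_zpow, one_mul]
  have hstep : ∀ g, (∀ a, ∃ (i : ℤ) (b : Fin 12), w a * g = y ^ i * w b) → ∀ u ∈ S, u * g ∈ S := by
    rintro g hg _ ⟨⟨i, a⟩, rfl⟩
    obtain ⟨j, b, e⟩ := hg a
    simp only
    rw [mul_assoc, e, ← mul_assoc, ← zpow_natCast, ← zpow_add]
    exact hS _ _
  have hall : ∀ g, g ∈ S := by
    intro g
    have hg : g ∈ Subgroup.closure (Set.range (PresentedGroup.of (rels := rels))) := by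
      rw [PresentedGroup.closure_range_of]; exact Subgroup.mem_top g
    have hpow : ∀ (v : PresentedGroup rels), (∀ u ∈ S, u * v ∈ S) → ∀ n : ℕ, ∀ u ∈ S, u * v ^ n ∈ S := by
      intro v hv n
      induction n with
      | zero => intro u hu; simpa using hu
      | succ n ih => intro u hu; rw [pow_succ, ← mul_assoc]; exact hv _ (ih u hu)
    have key : ∀ u ∈ S, u * g ∈ S := by
      refine Subgroup.closure_induction_right (p := fun g _ => ∀ u ∈ S, u * g ∈ S)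
        (fun u hu => by simpa using hu) ?_ ?_ hg
      · rintro a ha _ ⟨i, rfl⟩ h u hu
        rw [← mul_assoc]
        fin_cases i
        · exact hstep x hwx _ (h u hu)
        · exact hstep y hwy _ (h u hu)
      · rintro a ha _ ⟨i, rfl⟩ h u hu
        rw [← mul_assoc]
        fin_cases i
        · have e : x⁻¹ = x ^ 2 := inv_eq_of_mul_eq_one_right (by rw [← hx3]; group)
          show u * a * x⁻¹ ∈ S
          rw [e]
          exact hpow x (hstep x hwx) 2 _ (h u hu)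
        · have e : y⁻¹ = y ^ 4 := inv_eq_of_mul_eq_one_right (by rw [← hy5]; group)
          show u * a * y⁻¹ ∈ S
          rw [e]
          exact hpow y (hstep y hwy) 4 _ (h u hu)
    have h1 : (1 : PresentedGroup rels) ∈ S := ⟨(0, 0), by simp [hw0]⟩
    simpa using key 1 h1
  have hfin : Finite (PresentedGroup rels) :=
    Finite.of_surjective (fun p : Fin 5 × Fin 12 => y ^ (p.1 : ℕ) * w p.2) fun g => hall g
  have hcard : Nat.card (PresentedGroup rels) ≤ 60 := by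
    refine (Nat.card_le_card_of_surjective (fun p : Fin 5 × Fin 12 => y ^ (p.1 : ℕ) * w p.2)
      fun g => hall g).trans ?_
    simp
  let φ : PresentedGroup rels →* alternatingGroup (Fin 5) :=
    PresentedGroup.toGroup (f := ![gx, gy]) (by
      rintro r (rfl | rfl | rfl)
      · simpa using g_rels.1
      · simpa using g_rels.2.1
      · simpa using g_rels.2.2)
  have hφx : gx ∈ φ.range := ⟨x, PresentedGroup.toGroup.of _⟩
  have hφy : gy ∈ φ.range := ⟨y, PresentedGroup.toGroup.of _⟩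
  have htop : φ.range = ⊤ := by
    have hA : Nat.card (alternatingGroup (Fin 5)) = 60 := by
      rw [nat_card_alternatingGroup, Nat.card_fin]; rfl
    have hord : ∀ g ∈ φ.range, orderOf g ∣ Nat.card φ.range := fun g hg => by
      rw [← Subgroup.orderOf_mk g hg]; exact orderOf_dvd_natCard _
    have : Fact (Nat.Prime 2) := ⟨Nat.prime_two⟩
    have : Fact (Nat.Prime 3) := ⟨Nat.prime_three⟩
    have : Fact (Nat.Prime 5) := ⟨by norm_num⟩
    have h3 := hord gx hφx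
    rw [orderOf_eq_prime g_rels.1 (by decide)] at h3
    have h5 := hord gy hφy
    rw [orderOf_eq_prime g_rels.2.1 (by decide)] at h5
    have h2 := hord (gx * gy) (mul_mem hφx hφy)
    rw [orderOf_eq_prime g_rels.2.2 (by decide)] at h2
    have hi := φ.range.card_mul_index
    rw [hA] at hi
    have h30 : 30 ∣ Nat.card φ.range :=
      (Nat.Coprime.mul_dvd_of_dvd_of_dvd (by norm_num)
        (Nat.Coprime.mul_dvd_of_dvd_of_dvd (by norm_num) h2 h3) h5 : 2 * 3 * 5 ∣ _)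
    obtain ⟨c, hc⟩ := h30
    have hc2 : c * φ.range.index = 2 := by rw [hc] at hi; nlinarith
    rcases (Nat.dvd_prime Nat.prime_two).mp (Dvd.intro_left c hc2) with h | h
    · exact Subgroup.index_eq_one.mp h
    · have hn := Subgroup.normal_of_index_eq_two h
      rcases hn.eq_bot_or_eq_top with hb | ht
      · rw [hb, Subgroup.index_bot, hA] at h; norm_num at h
      · exact ht
  have hsurj : Function.Surjective φ := MonoidHom.range_eq_top.mp htop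
  refine ⟨MulEquiv.ofBijective φ ((Nat.bijective_iff_surjective_and_card _).mpr ⟨hsurj, ?_⟩)⟩
  have h1 := Nat.card_le_card_of_surjective φ hsurj
  rw [nat_card_alternatingGroup, Nat.card_fin] at h1 ⊢
  simp only [show (5 : ℕ).factorial / 2 = 60 from rfl] at h1 ⊢
  exact le_antisymm hcard h1

end Cfsg.Agent.S3377
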