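import Cfsg.Statements.S3378
import Cfsg.Agent.S3377
import Cfsg.Agent.Lib.Classical.SmallAlt
import Cfsg.Agent.Lib.Classical.SL2
import Cfsg.Agent.Lib.Classical.SimpleOrder
import Cfsg.Agent.Lib.GL2.TorusN
import Cfsg.Agent.Lib.Known.Laws
import Cfsg.Agent.Lib.Char.Burnside
import Mathlib.GroupTheory.SpecificGroups.ZGroup

set_option autoImplicit false
open Cfsg

namespace Cfsg.Agent.S3378


universe u

/-- The relators. -/
abbrev rels : Set (FreeGroup (Fin 3)) :=
  {FreeGroup.of (0 : Fin 3) ^ 3, FreeGroup.of (1 : Fin 3) ^ 5, FreeGroup.of (2 : Fin 3) ^ 2,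
        (FreeGroup.of (2 : Fin 3))⁻¹ * FreeGroup.of 0 * FreeGroup.of 2 * (FreeGroup.of (0 : Fin 3))⁻¹,
        (FreeGroup.of (2 : Fin 3))⁻¹ * FreeGroup.of 1 * FreeGroup.of 2 * (FreeGroup.of (1 : Fin 3))⁻¹,
        (FreeGroup.of (0 : Fin 3) * FreeGroup.of 1) ^ 2 * (FreeGroup.of (2 : Fin 3))⁻¹}

theorem solvable_of_lt_sixty {H : Type u} [Group H] [Finite H] (hd : Nat.card H ∣ 60)
    (hlt : Nat.card H < 60) : Group.IsSolvable H := by
  have hdiv : Nat.card H ∈ Nat.divisors 60 := Nat.mem_divisors.mpr ⟨hd, by norm_num⟩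
  have hl : Nat.divisors 60 = {1, 2, 3, 4, 5, 6, 10, 12, 15, 20, 30, 60} := by decide +kernel
  rw [hl] at hdiv
  simp only [Finset.mem_insert, Finset.mem_singleton] at hdiv
  have go : ∀ p q : ℕ, p.Prime → q.Prime → ∀ a b, Nat.card H = p ^ a * q ^ b → Group.IsSolvable H :=
    fun p q hp hq a b h =>
      Cfsg.Agent.Char.solvable_of_card_prime_pow_mul p q hp hq _ H rfl ⟨a, b, h⟩
  rcases hdiv with h | h | h | h | h | h | h | h | h | h | h | h
  · exact go 2 3 Nat.prime_two Nat.prime_three 0 0 (by rw [h]; rfl)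
  · exact go 2 3 Nat.prime_two Nat.prime_three 1 0 (by rw [h]; rfl)
  · exact go 2 3 Nat.prime_two Nat.prime_three 0 1 (by rw [h]; rfl)
  · exact go 2 3 Nat.prime_two Nat.prime_three 2 0 (by rw [h]; rfl)
  · exact go 2 5 Nat.prime_two (by norm_num) 0 1 (by rw [h]; rfl)
  · exact go 2 3 Nat.prime_two Nat.prime_three 1 1 (by rw [h]; rfl)
  · exact go 2 5 Nat.prime_two (by norm_num) 1 1 (by rw [h]; rfl)
  · exact go 2 3 Nat.prime_two Nat.prime_three 2 1 (by rw [h]; rfl)
  · exact go 3 5 Nat.prime_three (by norm_num) 1 1 (by rw [h]; rfl)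
  · exact go 2 5 Nat.prime_two (by norm_num) 2 1 (by rw [h]; rfl)
  · haveI : IsZGroup H := IsZGroup.of_squarefree (by rw [h]; decide +kernel)
    infer_instance
  · omega

theorem simple_of_nonsolvable_sixty {H : Type u} [Group H] [Finite H] (hc : Nat.card H = 60)
    (hns : ¬ Group.IsSolvable H) : IsSimpleGroup H := by
  haveI : Nontrivial H := Finite.one_lt_card_iff_nontrivial.mp (by omega)
  refine ⟨fun N hN => ?_⟩
  by_contra hne
  rw [not_or] at hne
  have hmul := N.card_mul_index
  rw [hc] at hmul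
  have h1 : 1 < Nat.card N := by
    by_contra h
    exact hne.1 (Subgroup.eq_bot_of_card_le N (by omega))
  have h2 : N.index ≠ 1 := fun h => hne.2 (Subgroup.index_eq_one.mp h)
  haveI := solvable_of_lt_sixty (H := N) (hc ▸ Subgroup.card_subgroup_dvd_card N) (by
    rcases Nat.lt_or_ge (Nat.card N) 60 with h | h
    · exact h
    · exfalso
      have h0 : N.index ≠ 0 := Subgroup.index_ne_zero_of_finite
      have : Nat.card N * 2 ≤ 60 := hmul ▸ Nat.mul_le_mul_left _ (by omega)
      omega)
  haveI := solvable_of_lt_sixty (H := H ⧸ N) (by rw [← Subgroup.index_eq_card]; exact ⟨_, (mul_comm N.index _ ▸ hmul).symm⟩) (by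
    rw [← Subgroup.index_eq_card]
    have : 2 * N.index ≤ 60 := hmul ▸ Nat.mul_le_mul_right _ (by omega)
    omega)
  exact hns (solvable_of_ker_le_range N.subtype (QuotientGroup.mk' N) (by simp))

/-- The presented group has at most `120` elements. -/
theorem presented_bound : Finite (PresentedGroup rels) ∧ Nat.card (PresentedGroup rels) ≤ 120 := by
  classical
  let x : PresentedGroup rels := PresentedGroup.of 0
  let y : PresentedGroup rels := PresentedGroup.of 1
  let z : PresentedGroup rels := PresentedGroup.of 2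
  have hr : ∀ r ∈ rels, PresentedGroup.mk rels r = 1 := fun r hr => PresentedGroup.one_of_mem hr
  have hx3 : x ^ 3 = 1 := by
    rw [← hr _ (Or.inl rfl), map_pow]; rfl
  have hy5 : y ^ 5 = 1 := by
    rw [← hr _ (Or.inr (Or.inl rfl)), map_pow]; rfl
  have hz2 : z ^ 2 = 1 := by
    rw [← hr _ (Or.inr (Or.inr (Or.inl rfl))), map_pow]; rfl
  have hzx : z⁻¹ * x * z * x⁻¹ = 1 := by
    rw [← hr _ (Or.inr (Or.inr (Or.inr (Or.inl rfl)))), map_mul, map_mul, map_mul, map_inv, map_inv]; rfl
  have hzy : z⁻¹ * y * z * y⁻¹ = 1 := by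
    rw [← hr _ (Or.inr (Or.inr (Or.inr (Or.inr (Or.inl rfl))))), map_mul, map_mul, map_mul, map_inv, map_inv]; rfl
  have hxy : (x * y) ^ 2 * z⁻¹ = 1 := by
    rw [← hr _ (Or.inr (Or.inr (Or.inr (Or.inr (Or.inr rfl))))), map_mul, map_pow, map_mul, map_inv]; rfl
  set Z := Subgroup.zpowers z with hZ
  have hcomm : ∀ g : PresentedGroup rels, g * z = z * g := by
    intro g
    have hg : g ∈ Subgroup.closure (Set.range (PresentedGroup.of (rels := rels))) := by
      rw [PresentedGroup.closure_range_of]; exact Subgroup.mem_top g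
    have : Subgroup.closure (Set.range (PresentedGroup.of (rels := rels))) ≤
        Subgroup.centralizer {z} := by
      rw [Subgroup.closure_le]
      rintro _ ⟨i, rfl⟩
      rw [SetLike.mem_coe, Subgroup.mem_centralizer_singleton_iff]
      fin_cases i
      · have := mul_inv_eq_one.mp hzx
        rw [mul_assoc, inv_mul_eq_iff_eq_mul] at this
        exact this
      · have := mul_inv_eq_one.mp hzy
        rw [mul_assoc, inv_mul_eq_iff_eq_mul] at this
        exact this
      · rfl
    exact Subgroup.mem_centralizer_singleton_iff.mp (this hg)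
  haveI : Z.Normal := ⟨fun n hn g => by
    obtain ⟨k, rfl⟩ := hn
    show g * z ^ k * g⁻¹ ∈ Z
    rw [((show Commute g z from hcomm g).zpow_right k).eq, mul_inv_cancel_right]
    exact ⟨k, rfl⟩⟩
  let π := QuotientGroup.mk' Z
  have hπz : π z = 1 := (QuotientGroup.eq_one_iff _).mpr (Subgroup.mem_zpowers z)
  let rels2 : Set (FreeGroup (Fin 2)) := {FreeGroup.of (0 : Fin 2) ^ 3, FreeGroup.of (1 : Fin 2) ^ 5,
        (FreeGroup.of (0 : Fin 2) * FreeGroup.of 1) ^ 2}
  let ψ : PresentedGroup rels2 →* PresentedGroup rels ⧸ Z :=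
    PresentedGroup.toGroup (f := ![π x, π y]) (by
      rintro r (rfl | rfl | rfl)
      · rw [map_pow, FreeGroup.lift_apply_of]; show π x ^ 3 = 1; rw [← map_pow, hx3, map_one]
      · rw [map_pow, FreeGroup.lift_apply_of]; show π y ^ 5 = 1; rw [← map_pow, hy5, map_one]
      · rw [map_pow, map_mul, FreeGroup.lift_apply_of, FreeGroup.lift_apply_of]
        show (π x * π y) ^ 2 = 1
        rw [← map_mul, ← map_pow, mul_inv_eq_one.mp hxy, hπz])
  obtain ⟨e⟩ := Cfsg.Agent.S3377.result
  haveI : Finite (PresentedGroup rels2) := Finite.of_equiv _ e.symm.toEquiv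
  have hψ : Function.Surjective ψ := by
    rw [← MonoidHom.range_eq_top, eq_top_iff]
    intro q _
    obtain ⟨g, rfl⟩ := QuotientGroup.mk'_surjective Z q
    have hg : g ∈ Subgroup.closure (Set.range (PresentedGroup.of (rels := rels))) := by
      rw [PresentedGroup.closure_range_of]; exact Subgroup.mem_top g
    have : Subgroup.closure (Set.range (PresentedGroup.of (rels := rels))) ≤ ψ.range.comap π := by
      rw [Subgroup.closure_le]
      rintro _ ⟨i, rfl⟩
      fin_cases i
      · exact ⟨PresentedGroup.of 0, PresentedGroup.toGroup.of _⟩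
      · exact ⟨PresentedGroup.of 1, PresentedGroup.toGroup.of _⟩
      · exact ⟨1, by rw [map_one]; exact hπz.symm⟩
    exact this hg
  haveI : Finite (PresentedGroup rels ⧸ Z) := Finite.of_surjective ψ hψ
  have hq : Nat.card (PresentedGroup rels ⧸ Z) ≤ 60 := by
    refine (Nat.card_le_card_of_surjective ψ hψ).trans ?_
    rw [Nat.card_congr e.toEquiv, nat_card_alternatingGroup, Nat.card_fin]
    exact le_of_eq rfl
  have hzo : orderOf z ∣ 2 := orderOf_dvd_of_pow_eq_one hz2
  have hzc : Nat.card Z ≤ 2 := by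
    rw [hZ, Nat.card_zpowers]; exact Nat.le_of_dvd two_pos hzo
  have hmul := Subgroup.card_eq_card_quotient_mul_card_subgroup Z
  have hfin : Finite (PresentedGroup rels) := Nat.finite_of_card_ne_zero (by
    rw [hmul]
    refine mul_ne_zero Nat.card_pos.ne' ?_
    rw [hZ, Nat.card_zpowers]
    exact fun h => by rw [h] at hzo; simp at hzo)
  exact ⟨hfin, by rw [hmul]; calc _ ≤ 60 * 2 := Nat.mul_le_mul hq hzc
                              _ = 120 := rfl⟩

/-- A non-solvable group of order `120` with one involution has the presentation. -/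
theorem equiv_presented {G : Type u} [Group G] [Finite G] (hc : Nat.card G = 120)
    (hns : ¬ Group.IsSolvable G) (huniq : ∀ a b : G, a * a = 1 → b * b = 1 → a ≠ 1 → b ≠ 1 → a = b) :
    Nonempty (PresentedGroup rels ≃* G) := by
  classical
  haveI : Fact (Nat.Prime 2) := ⟨Nat.prime_two⟩
  obtain ⟨z, hz⟩ := exists_prime_orderOf_dvd_card' (G := G) 2 (by rw [hc]; norm_num)
  have hz2 : z * z = 1 := by rw [← pow_two, ← hz, pow_orderOf_eq_one]
  have hz1 : z ≠ 1 := fun h => by rw [h, orderOf_one] at hz; omega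
  have hzc : ∀ g : G, g * z = z * g := fun g => by
    refine mul_inv_eq_iff_eq_mul.mp (huniq (g * z * g⁻¹) z ?_ hz2 ?_ hz1)
    · rw [show g * z * g⁻¹ * (g * z * g⁻¹) = g * (z * z) * g⁻¹ by group, hz2, mul_one, mul_inv_cancel]
    · intro h
      exact hz1 (conj_eq_one_iff.mp h)
  set Z := Subgroup.zpowers z with hZ
  haveI : Z.Normal := ⟨fun n hn g => by
    obtain ⟨k, rfl⟩ := hn
    show g * z ^ k * g⁻¹ ∈ Z
    rw [((show Commute g z from hzc g).zpow_right k).eq, mul_inv_cancel_right]
    exact ⟨k, rfl⟩⟩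
  have hZc : Nat.card Z = 2 := by rw [hZ, Nat.card_zpowers, hz]
  have hZmem : ∀ w ∈ Z, w = 1 ∨ w = z := by
    intro w hw
    by_cases h : w = 1
    · exact Or.inl h
    · refine Or.inr (huniq w z ?_ hz2 h hz1)
      obtain ⟨k, rfl⟩ := hw
      show z ^ k * z ^ k = 1
      rw [← zpow_add, ← two_mul, zpow_mul, zpow_two, hz2, one_zpow]
  have hQ : Nat.card (G ⧸ Z) = 60 := by
    have := Subgroup.card_eq_card_quotient_mul_card_subgroup Z
    rw [hc, hZc] at this; omega
  have hQns : ¬ Group.IsSolvable (G ⧸ Z) := by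
    intro h
    haveI := h
    haveI : Group.IsSolvable Z := inferInstance
    exact hns (solvable_of_ker_le_range Z.subtype (QuotientGroup.mk' Z) (by simp))
  haveI := simple_of_nonsolvable_sixty hQ hQns
  obtain ⟨e⟩ := Cfsg.Agent.Classical.SmallAlt.simple_sixty (G := G ⧸ Z) hQ
  set gx := e.symm Cfsg.Agent.S3377.gx
  set gy := e.symm Cfsg.Agent.S3377.gy
  obtain ⟨r1, r2, r3⟩ := Cfsg.Agent.S3377.g_rels
  have hlift : ∀ (q : G ⧸ Z) (n : ℕ), Odd n → q ^ n = 1 → ∃ a : G, QuotientGroup.mk a = q ∧ a ^ n = 1 := by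
    intro q n hn hq
    obtain ⟨a, rfl⟩ := QuotientGroup.mk_surjective q
    rw [← QuotientGroup.mk_pow, QuotientGroup.eq_one_iff] at hq
    rcases hZmem _ hq with h | h
    · exact ⟨a, rfl, h⟩
    · refine ⟨a * z, ?_, ?_⟩
      · exact QuotientGroup.mk_mul_of_mem a (Subgroup.mem_zpowers z)
      · rw [(show Commute a z from hzc a).mul_pow, h]
        obtain ⟨j, rfl⟩ := hn
        rw [pow_succ, pow_mul, pow_two, hz2, one_pow, one_mul, hz2]
  obtain ⟨a, ha, ha3⟩ := hlift gx 3 (by decide) (by rw [← map_pow, r1, map_one])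
  obtain ⟨b, hb, hb5⟩ := hlift gy 5 (by decide) (by rw [← map_pow, r2, map_one])
  have hab : (a * b) ^ 2 = z := by
    have hmem : (a * b) ^ 2 ∈ Z := by
      rw [← QuotientGroup.eq_one_iff, QuotientGroup.mk_pow, QuotientGroup.mk_mul, ha, hb, ← map_mul,
        ← map_pow, r3, map_one]
    rcases hZmem _ hmem with h | h
    · exfalso
      have h1 : a * b ∈ Z := by
        by_cases h' : a * b = 1
        · rw [h']; exact one_mem _
        · rw [huniq (a * b) z (by rw [← pow_two]; exact h) hz2 h' hz1]; exact Subgroup.mem_zpowers z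
      rw [← QuotientGroup.eq_one_iff, QuotientGroup.mk_mul, ha, hb, ← map_mul,
        MulEquiv.map_eq_one_iff] at h1
      revert h1
      decide
    · exact h
  let φ : PresentedGroup rels →* G :=
    PresentedGroup.toGroup (f := ![a, b, z]) (by
      rintro r (rfl | rfl | rfl | rfl | rfl | rfl)
      · simpa using ha3
      · simpa using hb5
      · simpa [pow_two] using hz2
      · simp only [map_mul, map_inv, FreeGroup.lift_apply_of]
        show z⁻¹ * a * z * a⁻¹ = 1
        rw [mul_assoc z⁻¹, hzc a]; group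
      · simp only [map_mul, map_inv, FreeGroup.lift_apply_of]
        show z⁻¹ * b * z * b⁻¹ = 1
        rw [mul_assoc z⁻¹, hzc b]; group
      · simp only [map_mul, map_inv, map_pow, FreeGroup.lift_apply_of]
        show (a * b) ^ 2 * z⁻¹ = 1
        rw [hab, mul_inv_cancel])
  have hφa : a ∈ φ.range := ⟨PresentedGroup.of 0, PresentedGroup.toGroup.of _⟩
  have hφb : b ∈ φ.range := ⟨PresentedGroup.of 1, PresentedGroup.toGroup.of _⟩
  have hφz : z ∈ φ.range := ⟨PresentedGroup.of 2, PresentedGroup.toGroup.of _⟩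
  have hsurj : Function.Surjective φ := by
    rw [← MonoidHom.range_eq_top, eq_top_iff]
    intro g _
    let rels2 : Set (FreeGroup (Fin 2)) := {FreeGroup.of (0 : Fin 2) ^ 3, FreeGroup.of (1 : Fin 2) ^ 5,
        (FreeGroup.of (0 : Fin 2) * FreeGroup.of 1) ^ 2}
    have hgen : Subgroup.closure ({gx, gy} : Set (G ⧸ Z)) = ⊤ := by
      set K := Subgroup.closure ({gx, gy} : Set (G ⧸ Z))
      have hord : ∀ q ∈ K, orderOf q ∣ Nat.card K := fun q hq => Subgroup.orderOf_dvd_natCard K hq
      have : Fact (Nat.Prime 3) := ⟨Nat.prime_three⟩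
      have : Fact (Nat.Prime 5) := ⟨by norm_num⟩
      have hgxK : gx ∈ K := Subgroup.subset_closure (by simp)
      have hgyK : gy ∈ K := Subgroup.subset_closure (by simp)
      have h3 := hord gx hgxK
      rw [orderOf_eq_prime (by rw [← map_pow, r1, map_one]) (fun h => absurd
        ((MulEquiv.map_eq_one_iff e.symm).mp h) (by decide))] at h3
      have h5 := hord gy hgyK
      rw [orderOf_eq_prime (by rw [← map_pow, r2, map_one]) (fun h => absurd
        ((MulEquiv.map_eq_one_iff e.symm).mp h) (by decide))] at h5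
      have h2 := hord (gx * gy) (mul_mem hgxK hgyK)
      rw [orderOf_eq_prime (p := 2) (by rw [← map_mul, ← map_pow, r3, map_one]) (fun h => absurd
        ((MulEquiv.map_eq_one_iff e.symm).mp (by rwa [map_mul])) (by decide))] at h2
      have h30 : 30 ∣ Nat.card K :=
        (Nat.Coprime.mul_dvd_of_dvd_of_dvd (by norm_num)
          (Nat.Coprime.mul_dvd_of_dvd_of_dvd (by norm_num) h2 h3) h5 : 2 * 3 * 5 ∣ _)
      have hi := K.card_mul_index
      rw [hQ] at hi
      obtain ⟨c, hc'⟩ := h30
      have hc2 : c * K.index = 2 := by rw [hc'] at hi; nlinarith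
      rcases (Nat.dvd_prime Nat.prime_two).mp (Dvd.intro_left c hc2) with h | h
      · exact Subgroup.index_eq_one.mp h
      · rcases (Subgroup.normal_of_index_eq_two h).eq_bot_or_eq_top with hb' | ht
        · rw [hb', Subgroup.index_bot, hQ] at h; omega
        · exact ht
    have hle : Subgroup.closure ({gx, gy} : Set (G ⧸ Z)) ≤ φ.range.map (QuotientGroup.mk' Z) := by
      rw [Subgroup.closure_le]
      rintro q (rfl | rfl)
      · exact ⟨a, hφa, ha⟩
      · exact ⟨b, hφb, hb⟩
    rw [hgen] at hle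
    obtain ⟨r, hr, hrg⟩ := hle (Subgroup.mem_top (QuotientGroup.mk g))
    have hrz : r⁻¹ * g ∈ Z := QuotientGroup.eq.mp hrg
    have : g = r * (r⁻¹ * g) := by group
    rw [this]
    exact mul_mem hr (Subgroup.zpowers_le.mpr hφz hrz)
  obtain ⟨hfin, hle⟩ := presented_bound
  refine ⟨MulEquiv.ofBijective φ ((Nat.bijective_iff_surjective_and_card _).mpr ⟨hsurj, ?_⟩)⟩
  have := Nat.card_le_card_of_surjective φ hsurj
  omega


theorem solvable_divisor_120 {H : Type u} [Group H] [Finite H] (hd : Nat.card H ∣ 120)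
    (h60 : Nat.card H ≠ 60) (h120 : Nat.card H ≠ 120) : Group.IsSolvable H := by
  have hm : Nat.card H ∈ Nat.divisors 120 := Nat.mem_divisors.mpr ⟨hd, by norm_num⟩
  rw [show Nat.divisors 120 = {1, 2, 3, 4, 5, 6, 8, 10, 12, 15, 20, 24, 30, 40, 60, 120} by decide +kernel] at hm
  simp only [Finset.mem_insert, Finset.mem_singleton] at hm
  by_cases h : Nat.card H ∣ 60
  · exact solvable_of_lt_sixty h (lt_of_le_of_ne (Nat.le_of_dvd (by norm_num) h) h60)
  · have h' : Nat.card H = 2 ^ 3 * 3 ^ 0 ∨ Nat.card H = 2 ^ 3 * 3 ^ 1 ∨ Nat.card H = 2 ^ 3 * 5 ^ 1 := by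
      rcases hm with e | e | e | e | e | e | e | e | e | e | e | e | e | e | e | e <;> rw [e] at h h60 h120 ⊢ <;> omega
    rcases h' with e | e | e
    · exact Cfsg.Agent.Char.solvable_of_card_prime_pow_mul 2 3 Nat.prime_two Nat.prime_three _ H rfl ⟨_, _, e⟩
    · exact Cfsg.Agent.Char.solvable_of_card_prime_pow_mul 2 3 Nat.prime_two Nat.prime_three _ H rfl ⟨_, _, e⟩
    · exact Cfsg.Agent.Char.solvable_of_card_prime_pow_mul 2 5 Nat.prime_two (by norm_num) _ H rfl ⟨_, _, e⟩

theorem not_simple_120 {G : Type u} [Group G] [Finite G] (hc : Nat.card G = 120) : ¬ IsSimpleGroup G := by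
  intro h
  haveI := h
  haveI : Fact (Nat.Prime 5) := ⟨by norm_num⟩
  have hG := Cfsg.Agent.Classical.SimpleOrder.not_comm (G := G) (by rw [hc]; norm_num)
  obtain ⟨h1, h2, h3, -⟩ := Cfsg.Agent.Classical.SimpleOrder.sylow_number (p := 5) hG (k := 1) (m := 24)
    (by rw [hc]; rfl) one_pos (by norm_num)
  obtain ⟨P⟩ : Nonempty (Sylow 5 G) := inferInstance
  have h6 : Nat.card (Sylow 5 G) = 6 := by
    have hmem : Nat.card (Sylow 5 G) ∈ Nat.divisors 24 := Nat.mem_divisors.mpr ⟨h1, by norm_num⟩
    rw [show Nat.divisors 24 = {1, 2, 3, 4, 6, 8, 12, 24} by decide +kernel] at hmem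
    simp only [Finset.mem_insert, Finset.mem_singleton] at hmem
    omega
  obtain ⟨f, hf⟩ := Cfsg.Agent.Classical.SimpleOrder.exists_alt_embedding hG
    (Subgroup.normalizer ((P : Subgroup G) : Set G))
    (Cfsg.Agent.Classical.SimpleOrder.normalizer_ne_top hG (by rw [hc]; norm_num) P)
  replace h6 : (Subgroup.normalizer ((P : Subgroup G) : Set G)).index = 6 := P.card_eq_index_normalizer.symm.trans h6
  haveI : IsSimpleGroup (alternatingGroup (Fin (Subgroup.normalizer ((P : Subgroup G) : Set G)).index)) :=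
    alternatingGroup.isSimpleGroup (by rw [Nat.card_fin, h6]; norm_num)
  have hA : Nat.card (alternatingGroup (Fin (Subgroup.normalizer ((P : Subgroup G) : Set G)).index)) = 360 := by
    rw [h6, nat_card_alternatingGroup, Nat.card_fin]; rfl
  have hi := f.range.card_mul_index
  rw [hA, ← Nat.card_congr (MonoidHom.ofInjective hf).toEquiv, hc] at hi
  have hne : f.range ≠ ⊤ := fun h => by rw [h, Subgroup.index_top] at hi; omega
  have hd := Cfsg.Agent.Classical.SmallAlt.dvd_factorial_index f.range hne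
  rw [hA, show f.range.index = 3 by omega] at hd
  norm_num [Nat.factorial] at hd

/-- Every non-solvable group of order 120 whose Sylow 2-subgroups are quaternion of order 8 is isomorphic to SL(2,5), and SL(2,5) has the presentation ⟨x, y, z | x³ = y⁵ = z² = 1, z⁻¹xz = x, z⁻¹yz = y, (xy)² = z⟩. -/
theorem result :
    (∀ (G : Type*) [Group G] [Finite G], Nat.card G = 120 → ¬ Group.IsSolvable G →
      (∀ P : Sylow 2 G, Nonempty ((P : Subgroup G) ≃* QuaternionGroup 2)) →
      Nonempty (G ≃* Matrix.SpecialLinearGroup (Fin 2) (ZMod 5))) ∧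
    Nonempty (PresentedGroup ({FreeGroup.of (0 : Fin 3) ^ 3, FreeGroup.of (1 : Fin 3) ^ 5, FreeGroup.of (2 : Fin 3) ^ 2,
        (FreeGroup.of (2 : Fin 3))⁻¹ * FreeGroup.of 0 * FreeGroup.of 2 * (FreeGroup.of (0 : Fin 3))⁻¹,
        (FreeGroup.of (2 : Fin 3))⁻¹ * FreeGroup.of 1 * FreeGroup.of 2 * (FreeGroup.of (1 : Fin 3))⁻¹,
        (FreeGroup.of (0 : Fin 3) * FreeGroup.of 1) ^ 2 * (FreeGroup.of (2 : Fin 3))⁻¹} : Set (FreeGroup (Fin 3)))
      ≃* Matrix.SpecialLinearGroup (Fin 2) (ZMod 5)) := by
  haveI : Fact (Nat.Prime 5) := ⟨by norm_num⟩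
  haveI : Fact (Nat.Prime 2) := ⟨Nat.prime_two⟩
  have hodd : ringChar (ZMod 5) ≠ 2 := by rw [ringChar.eq (ZMod 5) 5]; norm_num
  have hSL : Nonempty (PresentedGroup rels ≃* Matrix.SpecialLinearGroup (Fin 2) (ZMod 5)) := by
    refine equiv_presented ?_ ?_ ?_
    · rw [Cfsg.Agent.Classical.SL2.card_SL2, ZMod.card]; norm_num
    · intro h
      haveI := h
      haveI : Nontrivial (Matrix.SpecialLinearGroup (Fin 2) (ZMod 5)) :=
        ⟨⟨_, _, Cfsg.Agent.GL2.z1_ne_one hodd⟩⟩
      exact (Group.IsSolvable.commutator_lt_top_of_nontrivial (Matrix.SpecialLinearGroup (Fin 2) (ZMod 5))).ne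
        (Cfsg.Agent.Known.SL2_perfect (F := ZMod 5) (by rw [Nat.card_zmod]; norm_num))
    · intro a b ha hb ha1 hb1
      rw [(Cfsg.Agent.GL2.sq_one_cases hodd ha).resolve_left ha1,
        (Cfsg.Agent.GL2.sq_one_cases hodd hb).resolve_left hb1]
  refine ⟨fun G _ _ hc hns hQ => ?_, hSL⟩
  obtain ⟨eS⟩ := hSL
  obtain ⟨e⟩ := equiv_presented hc hns (fun a b ha hb ha1 hb1 => by
    obtain ⟨P⟩ := Sylow.nonempty (p := 2) (G := G)
    have key : ∀ (P : Sylow 2 G) (u v : (P : Subgroup G)), u * u = 1 → v * v = 1 → u ≠ 1 → v ≠ 1 → u = v := by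
      intro P u v hu hv hu1 hv1
      obtain ⟨e⟩ := hQ P
      have hq : ∀ q r : QuaternionGroup 2, q * q = 1 → r * r = 1 → q ≠ 1 → r ≠ 1 → q = r := by
        decide
      exact e.injective (hq _ _ (by rw [← map_mul, hu, map_one]) (by rw [← map_mul, hv, map_one])
        (fun h => hu1 (e.injective (by rw [h, map_one]))) (fun h => hv1 (e.injective (by rw [h, map_one]))))
    have inP : ∀ w : G, w * w = 1 → ∃ P : Sylow 2 G, w ∈ (P : Subgroup G) := by
      intro w hw
      have hp : IsPGroup 2 (Subgroup.zpowers w) := by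
        intro g
        obtain ⟨k, hk⟩ := g.2
        refine ⟨1, Subtype.ext ?_⟩
        show (g : G) ^ 2 ^ 1 = 1
        rw [← hk, pow_one, ← zpow_natCast, ← zpow_mul, mul_comm, zpow_mul]
        rw [zpow_natCast, pow_two, hw, one_zpow]
      obtain ⟨P, hP⟩ := hp.exists_le_sylow
      exact ⟨P, hP (Subgroup.mem_zpowers w)⟩
    -- any two commuting involutions lie in a common Sylow subgroup
    have hcomm : ∀ u v : G, u * u = 1 → v * v = 1 → u ≠ 1 → v ≠ 1 → u * v = v * u → u = v := by
      intro u v hu hv hu1 hv1 huv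
      have hp : IsPGroup 2 ↥(Subgroup.zpowers u ⊔ Subgroup.zpowers v) := by
        intro g
        refine ⟨1, Subtype.ext ?_⟩
        show (g : G) ^ 2 ^ 1 = 1
        have hle : Subgroup.zpowers u ⊔ Subgroup.zpowers v ≤
            { carrier := {w | w * w = 1 ∧ w ∈ Subgroup.centralizer ({u, v} : Set G) ∧
                  w ∈ Subgroup.closure ({u, v} : Set G)}
              one_mem' := ⟨one_mul 1, one_mem _, one_mem _⟩
              mul_mem' := by
                rintro w w' ⟨h1, h2, h3⟩ ⟨h1', h2', h3'⟩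
                have hc : w * w' = w' * w := by
                  have : Subgroup.closure ({u, v} : Set G) ≤ Subgroup.centralizer {w} := by
                    rw [Subgroup.closure_le]
                    intro s hs
                    exact Subgroup.mem_centralizer_singleton_iff.mpr (Subgroup.mem_centralizer_iff.mp h2 s hs)
                  exact (Subgroup.mem_centralizer_singleton_iff.mp (this h3')).symm
                refine ⟨?_, mul_mem h2 h2', mul_mem h3 h3'⟩
                rw [mul_assoc, ← mul_assoc w', ← hc, mul_assoc w, h1', mul_one, h1]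
              inv_mem' := by
                rintro w ⟨h1, h2, h3⟩
                exact ⟨by rw [← mul_inv_rev, h1, _root_.inv_one], inv_mem h2, inv_mem h3⟩ } := by
          refine sup_le ?_ ?_ <;> rw [Subgroup.zpowers_le]
          · refine ⟨hu, Subgroup.mem_centralizer_iff.mpr ?_, Subgroup.subset_closure (by simp)⟩
            rintro s (rfl | rfl)
            · rfl
            · exact huv.symm
          · refine ⟨hv, Subgroup.mem_centralizer_iff.mpr ?_, Subgroup.subset_closure (by simp)⟩
            rintro s (rfl | rfl)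
            · exact huv
            · rfl
        rw [pow_one, pow_two]
        exact (hle g.2).1
      obtain ⟨P, hP⟩ := hp.exists_le_sylow
      exact congrArg Subtype.val (key P ⟨u, hP (Subgroup.mem_sup_left (Subgroup.mem_zpowers u))⟩
        ⟨v, hP (Subgroup.mem_sup_right (Subgroup.mem_zpowers v))⟩ (Subtype.ext hu) (Subtype.ext hv)
        (fun h => hu1 (congrArg Subtype.val h)) (fun h => hv1 (congrArg Subtype.val h)))
    haveI : Nontrivial G := Finite.one_lt_card_iff_nontrivial.mp (by omega)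
    obtain ⟨N, hN, hN1, hN2⟩ : ∃ N : Subgroup G, N.Normal ∧ N ≠ ⊥ ∧ N ≠ ⊤ := by
      by_contra h
      push Not at h
      exact not_simple_120 hc ⟨fun N hN => (em (N = ⊥)).imp_right fun h' => h N hN h'⟩
    haveI := hN
    have hmul := N.card_mul_index
    rw [hc] at hmul
    have h1 : 1 < Nat.card N := by
      by_contra h
      exact hN1 (Subgroup.eq_bot_of_card_le N (by omega))
    have h2 : N.index ≠ 1 := fun h => hN2 (Subgroup.index_eq_one.mp h)
    have hdN : Nat.card N ∈ Nat.divisors 120 := Nat.mem_divisors.mpr ⟨⟨_, hmul.symm⟩, by norm_num⟩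
    rw [show Nat.divisors 120 = {1, 2, 3, 4, 5, 6, 8, 10, 12, 15, 20, 24, 30, 40, 60, 120} by decide +kernel] at hdN
    simp only [Finset.mem_insert, Finset.mem_singleton] at hdN
    have hNsol : Nat.card N = 2 := by
      by_contra hN2'
      by_cases h60 : Nat.card N = 60
      · by_cases hNs : Group.IsSolvable N
        · haveI := hNs
          haveI := solvable_of_lt_sixty (H := G ⧸ N) (by rw [← Subgroup.index_eq_card, show N.index = 2 by rw [h60] at hmul; omega]; norm_num)
            (by rw [← Subgroup.index_eq_card, show N.index = 2 by rw [h60] at hmul; omega]; norm_num)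
          exact hns (solvable_of_ker_le_range N.subtype (QuotientGroup.mk' N) (by simp))
        · haveI := simple_of_nonsolvable_sixty h60 hNs
          obtain ⟨eN⟩ := Cfsg.Agent.Classical.SmallAlt.simple_sixty (G := N) h60
          have hex : ∃ u v : alternatingGroup (Fin 5), u * u = 1 ∧ v * v = 1 ∧ u ≠ 1 ∧ v ≠ 1 ∧
              u * v = v * u ∧ u ≠ v :=
            ⟨⟨Equiv.swap 0 1 * Equiv.swap 2 3, by rw [Equiv.Perm.mem_alternatingGroup]; decide⟩, ⟨Equiv.swap 0 2 * Equiv.swap 1 3, by rw [Equiv.Perm.mem_alternatingGroup]; decide⟩,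
              by decide, by decide, by decide, by decide, by decide, by decide⟩
          obtain ⟨u, v, h1, h2, h3, h4, h5, h6⟩ := hex
          let f : alternatingGroup (Fin 5) →* G := N.subtype.comp eN.symm.toMonoidHom
          have hfi : Function.Injective f := Subtype.val_injective.comp eN.symm.injective
          exact h6 (hfi (hcomm (f u) (f v) (by rw [← map_mul, h1, map_one]) (by rw [← map_mul, h2, map_one])
            (fun h => h3 (hfi (h.trans (map_one f).symm))) (fun h => h4 (hfi (h.trans (map_one f).symm)))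
            (by rw [← map_mul, ← map_mul, h5])))
      · have h120 : N.index * Nat.card N = 120 := by rw [mul_comm]; exact hmul
        have hi2 : 2 ≤ N.index := by
          have : N.index ≠ 0 := Subgroup.index_ne_zero_of_finite
          omega
        haveI hsN := solvable_divisor_120 (H := N) ⟨_, hmul.symm⟩ h60 (fun h => by rw [h] at hmul; omega)
        haveI hsQ := solvable_divisor_120 (H := G ⧸ N) ⟨_, by rw [← Subgroup.index_eq_card]; exact h120.symm⟩
          (fun h => hN2' (by rw [← Subgroup.index_eq_card] at h; rw [h] at hmul; omega))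
          (fun h => by rw [← Subgroup.index_eq_card] at h; rw [h] at hmul; omega)
        exact hns (solvable_of_ker_le_range N.subtype (QuotientGroup.mk' N) (by simp))
    haveI : Nontrivial N := Finite.one_lt_card_iff_nontrivial.mp h1
    obtain ⟨⟨z, hzN⟩, hzne⟩ := exists_ne (1 : N)
    have hz1 : z ≠ 1 := fun h => hzne (Subtype.ext h)
    have hzz : z * z = 1 := by
      have := congrArg Subtype.val (pow_card_eq_one' (x := (⟨z, hzN⟩ : N)))
      rw [hNsol] at this
      simpa [pow_two] using this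
    have hzc : ∀ g : G, g * z = z * g := by
      intro g
      refine mul_inv_eq_iff_eq_mul.mp ?_
      have hmem := hN.conj_mem z hzN g
      by_contra hne
      have hsub : ({1, z, g * z * g⁻¹} : Set G) ⊆ N := by
        rintro w (rfl | rfl | rfl)
        · exact one_mem _
        · exact hzN
        · exact hmem
      have h3 := Nat.card_mono (Set.toFinite (N : Set G)) hsub
      rw [Nat.card_coe_set_eq, Set.ncard_insert_of_notMem (by
        simp only [Set.mem_insert_iff, Set.mem_singleton_iff, not_or]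
        exact ⟨Ne.symm hz1, fun h => hz1 (conj_eq_one_iff.mp h.symm)⟩),
        Set.ncard_pair (fun h => hne h.symm)] at h3
      have : Nat.card ↥(N : Set G) = 2 := hNsol
      omega
    exact (hcomm a z ha hzz ha1 hz1 (hzc a)).trans (hcomm b z hb hzz hb1 hz1 (hzc b)).symm)
  exact ⟨e.symm.trans eS⟩

end Cfsg.Agent.S3378
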