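import Cfsg.Statements.S3379


set_option autoImplicit false
open Cfsg
open scoped commutatorElement

namespace Cfsg.Agent.S3379

/-- Let G be a finite group all of whose Sylow subgroups are cyclic. Then G is generated by two elements x and y of coprime orders n and m with x⁻¹yx = y^r, where gcd(r − 1, m) = 1 and r^n ≡ 1 (mod m). -/
theorem result {G : Type*} [Group G] [Finite G]
    (hZ : ∀ (p : ℕ) [Fact p.Prime] (P : Sylow p G), IsCyclic (P : Subgroup G)) :
    ∃ (x y : G) (n m r : ℕ), Subgroup.closure {x, y} = ⊤ ∧ orderOf x = n ∧ orderOf y = m ∧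
      x⁻¹ * y * x = y ^ r ∧ Nat.Coprime (r - 1) m ∧ Nat.Coprime n m ∧ 1 ≤ r ∧ r ^ n % m = 1 % m := by
  classical
  haveI hG : IsZGroup G := ⟨fun p hp P => by haveI := Fact.mk hp; exact hZ p P⟩
  obtain ⟨H, hH⟩ := Subgroup.exists_right_complement'_of_coprime hG.coprime_commutator_index
  have h1 : Abelianization G ≃* H := hH.symm.QuotientMulEquiv
  haveI : IsCyclic H := isCyclic_of_surjective _ h1.surjective
  haveI : IsCyclic (commutator G) := hG.isCyclic_commutator
  obtain ⟨⟨x, hx⟩, hxgen⟩ := IsCyclic.exists_generator (α := H)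
  obtain ⟨⟨y, hy⟩, hygen⟩ := IsCyclic.exists_generator (α := commutator G)
  have hxH : Subgroup.zpowers x = H := by
    refine le_antisymm (Subgroup.zpowers_le.2 hx) fun z hz => ?_
    obtain ⟨i, hi⟩ := Subgroup.mem_zpowers_iff.1 (hxgen ⟨z, hz⟩)
    exact ⟨i, by simpa using congrArg Subtype.val hi⟩
  have hyC : Subgroup.zpowers y = commutator G := by
    refine le_antisymm (Subgroup.zpowers_le.2 hy) fun z hz => ?_
    obtain ⟨i, hi⟩ := Subgroup.mem_zpowers_iff.1 (hygen ⟨z, hz⟩)
    exact ⟨i, by simpa using congrArg Subtype.val hi⟩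
  have hox : orderOf x = Nat.card H := by rw [← Nat.card_zpowers, hxH]
  have hoy : orderOf y = Nat.card (commutator G) := by rw [← Nat.card_zpowers, hyC]
  have hconj : x⁻¹ * y * x ∈ Subgroup.zpowers y := by
    rw [hyC]
    simpa using Subgroup.Normal.conj_mem (inferInstance : (commutator G).Normal) y hy x⁻¹
  obtain ⟨r0, -, hr0⟩ : ∃ i, i < orderOf y ∧ y ^ i = x⁻¹ * y * x := by
    simpa using mem_zpowers_iff_mem_range_orderOf.1 hconj
  obtain ⟨r, hr1, hr⟩ : ∃ r, 1 ≤ r ∧ x⁻¹ * y * x = y ^ r :=
    ⟨r0 + orderOf y, by have := orderOf_pos y; omega, by rw [pow_add, pow_orderOf_eq_one, mul_one, hr0]⟩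
  have hpow : ∀ j : ℕ, (x ^ j)⁻¹ * y * x ^ j = y ^ (r ^ j) := by
    intro j
    induction j with
    | zero => simp
    | succ j ih =>
      have e : (x ^ j)⁻¹ * y ^ r * x ^ j = ((x ^ j)⁻¹ * y * x ^ j) ^ r := by
        have := (conj_pow (a := (x ^ j)⁻¹) (b := y) (i := r)).symm
        rwa [inv_inv] at this
      rw [show (x ^ (j + 1))⁻¹ * y * x ^ (j + 1) = (x ^ j)⁻¹ * (x⁻¹ * y * x) * x ^ j by rw [pow_succ']; group,
        hr, e, ih, ← pow_mul, ← pow_succ]
  have htop : Subgroup.closure ({x, y} : Set G) = ⊤ := by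
    rw [eq_top_iff, ← hH.symm.sup_eq_top, sup_le_iff]
    constructor
    · rw [← hxH, Subgroup.zpowers_le]; exact Subgroup.subset_closure (by simp)
    · rw [← hyC, Subgroup.zpowers_le]; exact Subgroup.subset_closure (by simp)
  refine ⟨x, y, orderOf x, orderOf y, r, htop, rfl, rfl, hr, ?_, ?_, hr1, ?_⟩
  · -- the derived group is generated by `y ^ (r - 1)`
    obtain ⟨d, hd⟩ : ∃ d, d = Nat.gcd (r - 1) (orderOf y) := ⟨_, rfl⟩
    have hNn : (Subgroup.zpowers (y ^ d)).Normal := by
      refine ⟨fun z hz g => ?_⟩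
      have hg : g ∈ Subgroup.normalizer (Subgroup.zpowers (y ^ d) : Set G) := by
        have hle : Subgroup.closure ({x, y} : Set G) ≤ Subgroup.normalizer (Subgroup.zpowers (y ^ d) : Set G) := by
          rw [Subgroup.closure_le]
          rintro g (rfl | rfl)
          · rw [SetLike.mem_coe, ← inv_mem_iff, Subgroup.mem_normalizer_iff_map_conj_eq]
            refine Subgroup.eq_of_le_of_card_ge ?_ ?_
            · rintro _ ⟨w, hw, rfl⟩
              obtain ⟨i, rfl⟩ := Subgroup.mem_zpowers_iff.1 hw
              rw [map_zpow]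
              refine zpow_mem ?_ i
              show g⁻¹ * y ^ d * g⁻¹⁻¹ ∈ _
              rw [← conj_pow, inv_inv, hr, ← pow_mul, mul_comm, pow_mul]
              exact pow_mem (Subgroup.mem_zpowers _) r
            · exact le_of_eq (Nat.card_congr (Subgroup.equivMapOfInjective _ _ (MulAut.conj g⁻¹).injective).toEquiv)
          · rw [SetLike.mem_coe, Subgroup.mem_normalizer_iff]
            intro w
            have hc : ∀ w ∈ Subgroup.zpowers (g ^ d), g * w * g⁻¹ = w := by
              intro w hw
              obtain ⟨i, rfl⟩ := Subgroup.mem_zpowers_iff.1 hw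
              rw [(((Commute.refl g).pow_right d).zpow_right i).eq, mul_inv_cancel_right]
            refine ⟨fun hw => by rw [hc w hw]; exact hw, fun hw => ?_⟩
            have h2 := hc _ hw
            have h3 : g * w * g⁻¹ = w := mul_left_cancel (mul_right_cancel h2)
            rwa [h3] at hw
        exact hle (htop ▸ Subgroup.mem_top g)
      exact (Subgroup.mem_normalizer_iff.1 hg z).1 hz
    have hcom : commutator G ≤ Subgroup.zpowers (y ^ d) := by
      let f := QuotientGroup.mk' (Subgroup.zpowers (y ^ d))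
      have hfx : f x * f y = f y * f x := by
        rw [← map_mul, ← map_mul]
        refine QuotientGroup.eq.2 ?_
        obtain ⟨e, he⟩ : d ∣ r - 1 := hd ▸ Nat.gcd_dvd_left _ _
        have h2 : (x * y)⁻¹ * (y * x) = y⁻¹ * (x⁻¹ * y * x) := by group
        rw [h2, hr, show r = 1 + d * e by omega, pow_add, pow_one, inv_mul_cancel_left, pow_mul]
        exact pow_mem (Subgroup.mem_zpowers _) e
      have hcm : ∀ a b : G, f a * f b = f b * f a := by
        have h2 : Subgroup.closure ({x, y} : Set G) ≤ (Subgroup.centralizer {f x, f y}).comap f := by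
          rw [Subgroup.closure_le]
          rintro g (rfl | rfl) z (rfl | rfl)
          exacts [rfl, hfx.symm, hfx, rfl]
        intro a b
        have h3 : Subgroup.closure ({x, y} : Set G) ≤ (Subgroup.centralizer {f b}).comap f := by
          rw [Subgroup.closure_le]
          have hb := h2 (htop ▸ Subgroup.mem_top b)
          rintro g (rfl | rfl)
          · exact Subgroup.mem_centralizer_singleton_iff.2 (hb _ (Or.inl rfl))
          · exact Subgroup.mem_centralizer_singleton_iff.2 (hb _ (Or.inr rfl))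
        exact Subgroup.mem_centralizer_singleton_iff.1 (h3 (htop ▸ Subgroup.mem_top a))
      rw [commutator_def, Subgroup.commutator_le]
      intro a _ b _
      rw [← QuotientGroup.eq_one_iff]
      show f ⁅a, b⁆ = 1
      rw [map_commutatorElement, commutatorElement_eq_one_iff_mul_comm]
      exact hcm a b
    have hdvd : orderOf y ∣ orderOf (y ^ d) := by
      rw [← Nat.card_zpowers (y ^ d)]
      exact hoy ▸ Subgroup.card_dvd_of_le hcom
    rw [Nat.Coprime, ← hd]
    have h2 := orderOf_pow_of_dvd (x := y) (n := d) (hd ▸ Nat.gcd_pos_of_pos_right _ (orderOf_pos y)).ne'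
      (hd ▸ Nat.gcd_dvd_right _ _)
    rw [h2] at hdvd
    have hd2 : d ∣ orderOf y := hd ▸ Nat.gcd_dvd_right _ _
    have h3 := Nat.le_of_dvd (Nat.div_pos (Nat.le_of_dvd (orderOf_pos y) hd2) (Nat.pos_of_dvd_of_pos hd2 (orderOf_pos y))) hdvd
    by_contra hne
    have h4 : 1 < d := by
      rcases Nat.lt_or_ge 1 d with h | h
      · exact h
      · exfalso; have := Nat.pos_of_dvd_of_pos hd2 (orderOf_pos y); omega
    exact absurd (Nat.div_lt_self (orderOf_pos y) h4) (not_lt.2 h3)
  · rw [hox, hoy]
    have := hG.coprime_commutator_index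
    rw [hH.symm.index_eq_card] at this
    exact this.symm
  · have := hpow (orderOf x)
    rw [pow_orderOf_eq_one, inv_one, one_mul, mul_one] at this
    nth_rewrite 1 [← pow_one y] at this
    exact (pow_eq_pow_iff_modEq.1 this).symm

end Cfsg.Agent.S3379
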