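import Cfsg.Statements.S3380
import Cfsg.Agent.Lib.Solv.NormalRankTwoAny
import Cfsg.Agent.Lib.Solv.Misc
import Cfsg.Agent.Lib.Recog.HalfTrans
import Cfsg.Agent.S0519
import Cfsg.Agent.S0016
-- import your own Cfsg.Agent.* helpers here

set_option autoImplicit false
open Cfsg

namespace Cfsg.Agent.S3380

/-- A `p`-group of none of the four exceptional kinds has a normal elementary abelian `p²`. -/
theorem exists_normal_E {G : Type*} [Group G] [Finite G] {p : ℕ} [Fact p.Prime] (hG : IsPGroup p G)
    (hnc : ¬ IsCyclic G) (hnq : ∀ n : ℕ, ¬ Nonempty (G ≃* QuaternionGroup n))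
    (hnd : ∀ n : ℕ, ¬ Nonempty (G ≃* DihedralGroup n)) (hnsd : ¬ Cfsg.IsQuasiDihedral G) :
    ∃ E : Subgroup G, E.Normal ∧ Cfsg.IsElementaryAbelian p E ∧ Nat.card E = p ^ 2 := by
  classical
  have hp : p.Prime := Fact.out
  by_cases hA : ∀ A : Subgroup G, A.Normal → IsMulCommutative A → IsCyclic A
  swap
  · push_neg at hA
    obtain ⟨A, hAn, hAc, hAnc⟩ := hA
    haveI := hAn
    exact Solv.RankThreeComp.exists_of_noncyclic hG A
      (fun x hx y hy => congrArg Subtype.val (hAc.is_comm.comm ⟨x, hx⟩ ⟨y, hy⟩)) hAnc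
  exfalso
  by_cases hB : ∃ B : Subgroup G, IsMulCommutative B ∧ ¬ IsCyclic B
  · obtain ⟨-, h | ⟨n, -, h⟩ | h⟩ := S0519.result p hG hA hB
    · obtain ⟨n, h⟩ := h; exact hnq n h
    · exact hnd n h
    · exact hnsd h
  push_neg at hB
  haveI : Nontrivial G := by
    rcases subsingleton_or_nontrivial G with h | h
    · exact absurd (inferInstance : IsCyclic G) hnc
    · exact h
  have huniq : ∀ H K : Subgroup G, Nat.card H = p → Nat.card K = p → H = K := by
    intro H K hH hK
    haveI := hG.center_nontrivial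
    obtain ⟨n, hn⟩ := IsPGroup.iff_card.mp (hG.to_subgroup (Subgroup.center G))
    have hd : p ∣ Nat.card (Subgroup.center G) := by
      rcases n with _ | n
      · rw [pow_zero] at hn; exact absurd hn Finite.one_lt_card.ne'
      · rw [hn]; exact dvd_pow_self p (Nat.succ_ne_zero n)
    obtain ⟨z, hz⟩ := exists_prime_orderOf_dvd_card' p hd
    rw [← Subgroup.orderOf_coe] at hz
    set Z := Subgroup.zpowers (z : G) with hZ
    have hZp : Nat.card Z = p := by rw [hZ, Nat.card_zpowers, hz]
    have key : ∀ L : Subgroup G, Nat.card L = p → L = Z := by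
      intro L hL
      haveI := isCyclic_of_prime_card hL
      obtain ⟨l, hl⟩ := IsCyclic.exists_generator (α := L)
      have hlL : Subgroup.zpowers (l : G) = L := by
        refine le_antisymm (Subgroup.zpowers_le.mpr l.2) fun x hx => ?_
        obtain ⟨k, hk⟩ := Subgroup.mem_zpowers_iff.mp (hl ⟨x, hx⟩)
        exact ⟨k, by simpa using congrArg Subtype.val hk⟩
      have hcomm : IsMulCommutative ↥(Subgroup.closure ({(z : G), (l : G)} : Set G)) := by
        refine Subgroup.isMulCommutative_closure ?_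
        have hc : ∀ y : G, (z : G) * y = y * (z : G) := fun y => (Subgroup.mem_center_iff.mp z.2 y).symm
        rintro a (rfl | rfl) b (rfl | rfl)
        all_goals first | rfl | exact hc _ | exact (hc _).symm
      haveI := hB _ hcomm
      have h1 : (Subgroup.zpowers (l : G)).subgroupOf (Subgroup.closure ({(z : G), (l : G)} : Set G)) =
          Z.subgroupOf (Subgroup.closure ({(z : G), (l : G)} : Set G)) := by
        refine Cfsg.Agent.Char.eq_of_card_eq_of_cyclic ?_
        rw [Nat.card_congr (Subgroup.subgroupOfEquivOfLe (Subgroup.zpowers_le.mpr (Subgroup.subset_closure (by simp)))).toEquiv,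
          Nat.card_congr (Subgroup.subgroupOfEquivOfLe (Subgroup.zpowers_le.mpr (Subgroup.subset_closure (by simp)))).toEquiv,
          hlL, hL, hZp]
      have h2 := congrArg (fun K : Subgroup ↥(Subgroup.closure ({(z : G), (l : G)} : Set G)) =>
        K.map (Subgroup.subtype _)) h1
      simp only [Subgroup.subgroupOf_map_subtype] at h2
      rw [inf_eq_left.mpr (Subgroup.zpowers_le.mpr (Subgroup.subset_closure (by simp))),
        inf_eq_left.mpr (Subgroup.zpowers_le.mpr (Subgroup.subset_closure (by simp))), hlL] at h2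
      exact h2
    rw [key H hH, key K hK]
  rcases S0016.result p hG huniq with h | ⟨-, n, h⟩
  · exact hnc h
  · exact hnq _ h

/-- Let a finite p-group G act faithfully and irreducibly on a non-trivial finite vector space V over the field with q elements (q prime), and suppose G is not cyclic, generalized quaternion, dihedral or semidihedral. Then G has a subgroup H of index p and V is the direct sum of p subspaces, each invariant under H, on none of which H acts faithfully, and which every element of G outside H permutes in a single p-cycle. -/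
theorem result
    (q : ℕ) [Fact q.Prime] {V : Type*} [AddCommGroup V] [Module (ZMod q) V] [Finite V] [Nontrivial V]
    {G : Type*} [Group G] [Finite G] (p : ℕ) [Fact p.Prime] (hG : IsPGroup p G)
    (ρ : G →* (V ≃ₗ[ZMod q] V)) (hρ : Function.Injective ρ)
    (hirr : ∀ W : Submodule (ZMod q) V, (∀ g : G, ∀ w ∈ W, ρ g w ∈ W) → W = ⊥ ∨ W = ⊤)
    (hnc : ¬ IsCyclic G) (hnq : ∀ n : ℕ, ¬ Nonempty (G ≃* QuaternionGroup n))
    (hnd : ∀ n : ℕ, ¬ Nonempty (G ≃* DihedralGroup n)) (hnsd : ¬ Cfsg.IsQuasiDihedral G) :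
    ∃ (H : Subgroup G) (W : Fin p → Submodule (ZMod q) V), H.index = p ∧
      iSup W = ⊤ ∧ iSupIndep W ∧
      (∀ h ∈ H, ∀ i, ∀ w ∈ W i, ρ h w ∈ W i) ∧
      (∀ i, ∃ h ∈ H, h ≠ 1 ∧ ∀ w ∈ W i, ρ h w = w) ∧
      ∀ g : G, g ∉ H → ∃ σ : Equiv.Perm (Fin p), orderOf σ = p ∧ ∀ i, (W i).map (ρ g : V →ₗ[ZMod q] V) = W (σ i) := by
  classical
  have hp : p.Prime := Fact.out
  let act : MulAction G V :=
    { smul := fun g v => ρ g v
      one_smul := fun v => by show ρ 1 v = v; rw [map_one]; rfl
      mul_smul := fun g h v => by show ρ (g * h) v = ρ g (ρ h v); rw [map_mul]; rfl }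
  -- the characteristic is not `p`
  have hpq : (p : ZMod q) ≠ 0 := by
    intro h
    have h' : q = p := (Nat.prime_dvd_prime_iff_eq (Fact.out : q.Prime) hp).mp ((ZMod.natCast_eq_zero_iff p q).mp h)
    subst h'
    let W : Submodule (ZMod q) V :=
      { carrier := {v | ∀ g : G, ρ g v = v}
        zero_mem' := fun g => map_zero _
        add_mem' := fun {a b} ha hb g => by rw [map_add, ha g, hb g]
        smul_mem' := fun c a ha g => by rw [map_smul, ha g] }
    have hne : W ≠ ⊥ := by
      have h1 := hG.card_modEq_card_fixedPoints V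
      have h2 : q ∣ Nat.card V := by
        obtain ⟨v, hv⟩ := exists_ne (0 : V)
        have ho : addOrderOf v = q := addOrderOf_eq_prime (by
          rw [← Nat.cast_smul_eq_nsmul (ZMod q), ZMod.natCast_self, zero_smul]) hv
        exact ho ▸ addOrderOf_dvd_natCard v
      obtain ⟨v, hv, hv0⟩ := hG.exists_fixed_point_of_prime_dvd_card_of_fixed_point V h2
        (show (0 : V) ∈ MulAction.fixedPoints G V from fun g => map_zero _)
      intro hb
      have : v ∈ W := fun g => hv g
      rw [hb, Submodule.mem_bot] at this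
      exact hv0 this.symm
    have hW := (hirr W (fun g w hw => by rw [hw g]; exact hw)).resolve_left hne
    have htriv : ∀ g : G, g = 1 := fun g => hρ (LinearEquiv.ext fun v => by
      have : v ∈ W := hW ▸ Submodule.mem_top
      rw [this g, map_one]; rfl)
    haveI : Subsingleton G := ⟨fun a b => (htriv a).trans (htriv b).symm⟩
    exact hnc inferInstance
  obtain ⟨E, hEn, hEel, hEc⟩ := exists_normal_E hG hnc hnq hnd hnsd
  have hcomm : ∀ a ∈ E, ∀ b ∈ E, a * b = b * a := fun a ha b hb =>
    congrArg Subtype.val (hEel.1.is_comm.comm ⟨a, ha⟩ ⟨b, hb⟩)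
  have hexp : ∀ a ∈ E, a ^ p = 1 := hEel.2
  haveI := hEn
  haveI : Group.IsNilpotent G := hG.isNilpotent
  obtain ⟨u, ⟨huE, huZ⟩, hu1⟩ : ∃ u, u ∈ E ⊓ Subgroup.center G ∧ u ≠ 1 := by
    have h := Solv.inf_center_ne_bot E (fun e => by
      rw [e, Subgroup.card_bot] at hEc
      have := Nat.one_lt_pow two_ne_zero hp.one_lt
      omega)
    by_contra hc; push_neg at hc
    exact h ((Subgroup.eq_bot_iff_forall _).mpr hc)
  have huc : ∀ g : G, g * u = u * g := Subgroup.mem_center_iff.mp huZ
  have hou : orderOf u = p := orderOf_eq_prime (hexp u huE) hu1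
  obtain ⟨v₀, hv₀, hv₀u⟩ : ∃ v ∈ E, v ∉ Subgroup.zpowers u := by
    by_contra h; push_neg at h
    have := Nat.le_of_dvd Nat.card_pos (Subgroup.card_dvd_of_le (H := E) h)
    rw [hEc, Nat.card_zpowers, hou] at this
    nlinarith [hp.two_le]
  haveI : NeZero p := ⟨hp.ne_zero⟩
  let up : ZMod p → G := fun i => u ^ i.val
  have hupow : ∀ n : ℕ, u ^ n = up (n : ZMod p) := fun n => by
    show u ^ n = u ^ (n : ZMod p).val
    rw [ZMod.val_natCast, ← pow_eq_pow_mod n (hexp u huE)]
  have hupadd : ∀ i j, up (i + j) = up i * up j := fun i j => by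
    show u ^ (i + j).val = u ^ i.val * u ^ j.val
    rw [← pow_add, ZMod.val_add, ← pow_eq_pow_mod _ (hexp u huE)]
  have hupinj : ∀ i, up i = 1 → i = 0 := fun i h => by
    have h1 := orderOf_dvd_of_pow_eq_one h
    rw [hou] at h1
    exact (ZMod.val_eq_zero i).mp (Nat.eq_zero_of_dvd_of_lt h1 (ZMod.val_lt i))
  let e : ZMod p → G := fun i => v₀ * up i
  have heE : ∀ i, e i ∈ E := fun i => E.mul_mem hv₀ (E.pow_mem huE _)
  have he1 : ∀ i, e i ≠ 1 := fun i h => hv₀u (by
    rw [eq_inv_of_mul_eq_one_left h]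
    exact Subgroup.inv_mem _ (Subgroup.pow_mem _ (Subgroup.mem_zpowers u) _))
  -- conjugation translates the parameter
  have hconj : ∀ g : G, ∃ c : ZMod p, g * v₀ * g⁻¹ = e c := by
    intro g
    haveI hzn : (Subgroup.zpowers u).Normal := ⟨fun x hx g => by
      obtain ⟨k, rfl⟩ := hx
      have : g * u ^ k * g⁻¹ = u ^ k := by
        rw [show g * u ^ k = u ^ k * g from ((Commute.zpow_right (huc g : Commute g u) k)).eq]; group
      show g * (u ^ k) * g⁻¹ ∈ _
      rw [this]; exact ⟨k, rfl⟩⟩
    -- the image of `E` modulo `u` has order p, hence is central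
    set π := QuotientGroup.mk' (Subgroup.zpowers u) with hπ
    haveI : (E.map π).Normal := hEn.map _ (QuotientGroup.mk'_surjective _)
    have hcard : Nat.card (E.map π) ∣ p := by
      have h1 := Subgroup.card_mul_index ((Subgroup.zpowers u).subgroupOf E)
      rw [Nat.card_congr (Subgroup.subgroupOfEquivOfLe (Subgroup.zpowers_le.mpr huE)).toEquiv,
        Nat.card_zpowers, hou, hEc, pow_two] at h1
      have h2 : Nat.card (E.map π) = ((Subgroup.zpowers u).subgroupOf E).index := by
        rw [← Subgroup.relIndex_bot_left, hπ, ← QuotientGroup.map_mk'_self (Subgroup.zpowers u),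
          Subgroup.relIndex_map_map, QuotientGroup.ker_mk', sup_idem,
          sup_eq_left.mpr (Subgroup.zpowers_le.mpr huE)]
        rfl
      rw [h2, Nat.eq_of_mul_eq_mul_left hp.pos h1]
    have hne : E.map π ≠ ⊥ := by
      rw [ne_eq, Subgroup.map_eq_bot_iff, QuotientGroup.ker_mk']
      exact fun h => hv₀u (h hv₀)
    haveI : Group.IsNilpotent (G ⧸ Subgroup.zpowers u) := (hG.to_quotient _).isNilpotent
    have hz := Solv.inf_center_ne_bot (E.map π) hne
    have hle : E.map π ≤ Subgroup.center _ := by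
      have h1 : Nat.card ↥(E.map π ⊓ Subgroup.center _) ∣ p :=
        (Subgroup.card_dvd_of_le inf_le_left).trans hcard
      have h2 : Nat.card ↥(E.map π ⊓ Subgroup.center _) ≠ 1 := fun h => hz (Subgroup.eq_bot_of_card_eq _ h)
      have h3 := ((Nat.dvd_prime hp).mp h1).resolve_left h2
      have h4 : Nat.card (E.map π) ≤ p := Nat.le_of_dvd hp.pos hcard
      exact (Subgroup.eq_of_le_of_card_ge inf_le_left (h4.trans h3.ge)) ▸ inf_le_right
    have h := Subgroup.mem_center_iff.mp (hle ⟨v₀, hv₀, rfl⟩) (π g)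
    have h' : π (v₀⁻¹ * (g * v₀ * g⁻¹)) = 1 := by
      simp only [map_mul, map_inv]
      rw [h]; group
    obtain ⟨k, hk⟩ := (QuotientGroup.eq_one_iff _).mp h'
    have hk' : u ^ k = v₀⁻¹ * (g * v₀ * g⁻¹) := hk
    refine ⟨(k : ZMod p), ?_⟩
    have : up (k : ZMod p) = u ^ k := by
      show u ^ (k : ZMod p).val = _
      rw [← zpow_natCast, ZMod.val_intCast, ← hou, zpow_mod_orderOf]
    show g * v₀ * g⁻¹ = v₀ * up (k : ZMod p)
    rw [this, hk']; group
  choose c hc using hconj
  have hce : ∀ g i, g * e i * g⁻¹ = e (c g + i) := fun g i => by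
    show g * (v₀ * up i) * g⁻¹ = v₀ * up (c g + i)
    rw [hupadd, ← mul_assoc v₀, ← show g * v₀ * g⁻¹ = v₀ * up (c g) from hc g,
      show g * (v₀ * up i) * g⁻¹ = g * v₀ * (up i * g⁻¹) by group,
      show up i * g⁻¹ = g⁻¹ * up i from (Commute.pow_left (huc g⁻¹).symm i.val : Commute (u ^ i.val) g⁻¹).eq]
    group
  -- fixed spaces
  let F : G → Submodule (ZMod q) V := fun x => LinearMap.eqLocus (ρ x : V →ₗ[ZMod q] V) LinearMap.id
  have hFmem : ∀ x v, v ∈ F x ↔ ρ x v = v := fun x v => Iff.rfl
  have hmulv : ∀ a b v, ρ (a * b) v = ρ a (ρ b v) := fun a b v => by rw [map_mul]; rfl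
  have hFu : F u = ⊥ := by
    refine (hirr (F u) fun g w hw => ?_).resolve_right fun h => hu1 ?_
    · rw [hFmem] at hw ⊢
      rw [← hmulv, ← huc g, hmulv, hw]
    · refine hρ (LinearEquiv.ext fun v => ?_)
      have : v ∈ F u := h ▸ Submodule.mem_top
      rw [map_one]; exact this
  have hpowfix : ∀ (x : G) (v : V), ρ x v = v → ∀ n : ℕ, ρ (x ^ n) v = v := by
    intro x v h n
    induction n with
    | zero => rw [pow_zero, map_one]; rfl
    | succ n ih => rw [pow_succ, hmulv, h, ih]
  let T : G → (V →ₗ[ZMod q] V) := fun x => ∑ j : ZMod p, (ρ (x ^ j.val) : V →ₗ[ZMod q] V)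
  have hTapp : ∀ x v, T x v = ∑ j : ZMod p, ρ (x ^ j.val) v := fun x v => by simp [T]
  have hTfix : ∀ x, x ^ p = 1 → ∀ v, ρ x (T x v) = T x v := by
    intro x hx v
    rw [hTapp, map_sum]
    refine Fintype.sum_equiv (Equiv.addRight (1 : ZMod p)) _ _ fun j => ?_
    show ρ x (ρ (x ^ j.val) v) = ρ (x ^ (j + 1).val) v
    rw [← hmulv, ← pow_succ', ZMod.val_add, pow_eq_pow_mod (j.val + 1) hx, ZMod.val_one_eq_one_mod,
      Nat.add_mod_mod]
  have hTu : ∀ v, T u v = 0 := fun v => by
    have : T u v ∈ F u := hTfix u (hexp u huE) v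
    rwa [hFu, Submodule.mem_bot] at this
  -- the components
  let W : ZMod p → Submodule (ZMod q) V := fun i => F (e i)
  have hpT : ∀ i v, T (e i) v ∈ W i := fun i v => hTfix _ (hexp _ (heE i)) v
  have hcv : ∀ (i : ZMod p) (n : ℕ), (e i) ^ n = v₀ ^ n * up (i * (n : ZMod p)) := fun i n => by
    show (v₀ * up i) ^ n = _
    rw [Commute.mul_pow (hcomm v₀ hv₀ _ (E.pow_mem huE _))]
    congr 1
    show (u ^ i.val) ^ n = _
    rw [← pow_mul, hupow, Nat.cast_mul, ZMod.natCast_val, ZMod.cast_id]
  have hsum : ∀ v, ∑ i : ZMod p, T (e i) v = (p : ZMod q) • v := by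
    intro v
    simp only [hTapp]
    rw [Finset.sum_comm, Fintype.sum_eq_single 0]
    · simp only [ZMod.val_zero, pow_zero, map_one, LinearEquiv.coe_one, id_eq, Finset.sum_const,
        Finset.card_univ, ZMod.card, Nat.cast_smul_eq_nsmul]
    · intro j hj
      simp only [hcv, ZMod.natCast_val, ZMod.cast_id, id_eq, hmulv, ← map_sum]
      rw [Fintype.sum_equiv (Equiv.mulRight₀ j hj) (fun i => ρ (up (i * j)) v) (fun i => ρ (up i) v) (fun i => rfl),
        show (∑ i : ZMod p, ρ (up i) v) = T u v from (hTapp u v).symm, hTu, map_zero]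
  have hTother : ∀ i k, i ≠ k → ∀ w ∈ W k, T (e i) w = 0 := by
    intro i k hik w hw
    rw [hTapp]
    have heq : ∀ j : ZMod p, ρ ((e i) ^ j.val) w = ρ (up ((i - k) * j)) w := by
      intro j
      have h1 : (e i) ^ j.val = up ((i - k) * j) * (e k) ^ j.val := by
        rw [hcv, hcv, ZMod.natCast_val, ZMod.cast_id, show i * j = (i - k) * j + k * j by ring, hupadd,
          ← mul_assoc, hcomm v₀ (hv₀) _ (E.pow_mem huE _) |> fun h =>
            show v₀ ^ j.val * up ((i - k) * j) = up ((i - k) * j) * v₀ ^ j.val from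
              (Commute.pow_left (h : Commute v₀ _) j.val).eq, mul_assoc]
      rw [h1, hmulv, hpowfix _ _ hw]
    rw [Finset.sum_congr rfl (fun j _ => heq j),
      Fintype.sum_equiv (Equiv.mulLeft₀ (i - k) (sub_ne_zero.mpr hik)) (fun j => ρ (up ((i - k) * j)) w)
        (fun j => ρ (up j) w) (fun j => rfl),
      show (∑ j : ZMod p, ρ (up j) w) = T u w from (hTapp u w).symm, hTu]
  have hTself : ∀ i, ∀ w ∈ W i, T (e i) w = (p : ZMod q) • w := by
    intro i w hw
    rw [hTapp, Finset.sum_congr rfl (fun j _ => hpowfix _ _ hw j.val), Finset.sum_const, Finset.card_univ,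
      ZMod.card, Nat.cast_smul_eq_nsmul]
  have hWtop : iSup W = ⊤ := by
    rw [eq_top_iff]
    intro v _
    have : (p : ZMod q) • v ∈ iSup W := by
      rw [← hsum v]
      exact Submodule.sum_mem _ fun i _ => Submodule.mem_iSup_of_mem i (hpT i v)
    exact (Submodule.smul_mem_iff _ hpq).mp this
  have hWind : iSupIndep W := by
    intro i
    rw [Submodule.disjoint_def]
    intro w h1 h2
    have h3 : (⨆ (j) (_ : j ≠ i), W j) ≤ LinearMap.ker (T (e i)) :=
      iSup₂_le fun j hj x hx => LinearMap.mem_ker.mpr (hTother i j hj.symm x hx)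
    have h4 : T (e i) w = 0 := h3 h2
    rw [hTself i w h1] at h4
    exact (smul_eq_zero.mp h4).resolve_left hpq
  -- the conjugation parameter is a surjective homomorphism
  have hupi : Function.Injective up := fun i j h => by
    have h1 : up (i - j) * up j = 1 * up j := by rw [← hupadd, sub_add_cancel, one_mul]; exact h
    exact sub_eq_zero.mp (hupinj _ (mul_right_cancel h1))
  have hei : Function.Injective e := fun i j h => hupi (mul_left_cancel h)
  have he0 : e 0 = v₀ := by
    show v₀ * u ^ (0 : ZMod p).val = v₀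
    rw [ZMod.val_zero, pow_zero, mul_one]
  let χ : G →* Multiplicative (ZMod p) := MonoidHom.mk' (fun g => Multiplicative.ofAdd (c g)) (fun a b => by
    rw [← ofAdd_add]
    refine congrArg Multiplicative.ofAdd (hei ?_)
    rw [← hc (a * b), ← hce a (c b), ← hc b]
    group)
  have hmapW : ∀ g i, (W i).map (ρ g : V →ₗ[ZMod q] V) = W (c g + i) := by
    intro g i
    apply le_antisymm
    · rintro _ ⟨w, hw, rfl⟩
      show ρ (e (c g + i)) (ρ g w) = ρ g w
      rw [← hmulv, ← hce, show g * e i * g⁻¹ * g = g * e i by group, hmulv]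
      exact congrArg (ρ g) hw
    · intro w hw
      refine ⟨ρ g⁻¹ w, ?_, ?_⟩
      · show ρ (e i) (ρ g⁻¹ w) = ρ g⁻¹ w
        rw [← hmulv, show e i * g⁻¹ = g⁻¹ * (g * e i * g⁻¹) by group, hce, hmulv]
        exact congrArg (ρ g⁻¹) hw
      · show ρ g (ρ g⁻¹ w) = w
        rw [← hmulv, mul_inv_cancel, map_one]; rfl
  have hχ : χ.range = ⊤ := by
    have hprime : (Nat.card (Multiplicative (ZMod p))).Prime := by
      rw [Nat.card_congr Multiplicative.toAdd, Nat.card_zmod]; exact hp
    haveI := Fact.mk hprime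
    refine (χ.range.eq_bot_or_eq_top_of_prime_card).resolve_left fun hbot => ?_
    have hc0 : ∀ g, c g = 0 := fun g => by
      have : χ g ∈ χ.range := ⟨g, rfl⟩
      rw [hbot, Subgroup.mem_bot] at this
      exact this
    have hbotW : ∀ i, W i = ⊥ := by
      intro i
      refine (hirr (W i) fun g w hw => ?_).resolve_right fun h => he1 i ?_
      · have : ρ g w ∈ (W i).map (ρ g : V →ₗ[ZMod q] V) := ⟨w, hw, rfl⟩
        rwa [hmapW, hc0, zero_add] at this
      · refine hρ (LinearEquiv.ext fun v => ?_)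
        have : v ∈ W i := h ▸ Submodule.mem_top
        rw [map_one]; exact this
    rw [show iSup W = ⊥ from iSup_eq_bot.mpr hbotW] at hWtop
    exact bot_ne_top hWtop
  let fe : Fin p ≃ ZMod p := (ZMod.finEquiv p).toEquiv
  refine ⟨χ.ker, fun i => W (fe i), ?_, ?_, hWind.comp fe.injective, ?_, ?_, ?_⟩
  · rw [Subgroup.index_ker, hχ, Subgroup.card_top, Nat.card_congr Multiplicative.toAdd, Nat.card_zmod]
  · rw [← hWtop]; exact fe.surjective.iSup_comp W
  · intro h hh i w hw
    have hc0 : c h = 0 := hh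
    have : ρ h w ∈ (W (fe i)).map (ρ h : V →ₗ[ZMod q] V) := ⟨w, hw, rfl⟩
    rwa [hmapW, hc0, zero_add] at this
  · intro i
    refine ⟨e (fe i), ?_, he1 _, fun w hw => hw⟩
    show Multiplicative.ofAdd (c (e (fe i))) = 1
    rw [ofAdd_eq_one]
    apply hei
    rw [he0, ← hc, hcomm _ (heE _) v₀ hv₀, mul_inv_cancel_right]
  · intro g hg
    have hcg : c g ≠ 0 := fun h => hg (show Multiplicative.ofAdd (c g) = 1 by rw [h]; rfl)
    refine ⟨fe.trans ((Equiv.addLeft (c g)).trans fe.symm), ?_, fun i => ?_⟩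
    · have hperm : ∀ (n : ℕ) (i : Fin p),
          fe (((fe.trans ((Equiv.addLeft (c g)).trans fe.symm)) ^ n : Equiv.Perm (Fin p)) i) = (n : ZMod p) * c g + fe i := by
        intro n
        induction n with
        | zero => intro i; simp
        | succ n ih =>
          intro i
          rw [pow_succ', Equiv.Perm.mul_apply, Equiv.trans_apply, Equiv.trans_apply, Equiv.apply_symm_apply,
            Equiv.coe_addLeft, ih]
          push_cast; ring
      refine orderOf_eq_prime (Equiv.ext fun i => fe.injective ?_) fun h => hcg ?_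
      · rw [hperm]; simp
      · have := hperm 1 0
        rw [pow_one, h] at this
        simpa using this
    · show (W (fe i)).map (ρ g : V →ₗ[ZMod q] V) = W (fe (fe.symm (c g + fe i)))
      rw [hmapW, Equiv.apply_symm_apply]

end Cfsg.Agent.S3380
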