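import Cfsg.Statements.S3381
import Mathlib
-- import your own Cfsg.Agent.* helpers here

set_option autoImplicit false
open Cfsg

namespace Cfsg.Agent.S3381

/-- Let G be a finite group acting faithfully and linearly on a non-trivial finite vector space V over the field with q elements (q prime) so that every non-zero vector has a stabilizer of order 2, and suppose G has a central involution. Then V has q^(2r) elements for some r and G contains exactly q^r + 1 non-central involutions. -/
theorem result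
    (q : ℕ) [Fact q.Prime] {V : Type*} [AddCommGroup V] [Module (ZMod q) V] [Finite V] [Nontrivial V]
    {G : Type*} [Group G] [Finite G] (ρ : G →* (V ≃ₗ[ZMod q] V)) (hρ : Function.Injective ρ)
    (hstab : ∀ v : V, v ≠ 0 → Nat.card {g : G // ρ g v = v} = 2)
    (z : G) (hz : orderOf z = 2) (hzc : z ∈ Subgroup.center G) :
    ∃ r : ℕ, Nat.card V = q ^ (2 * r) ∧
      Nat.card {g : G // orderOf g = 2 ∧ g ∉ Subgroup.center G} = q ^ r + 1 := by
  skip
  classical
  have hq : q.Prime := Fact.out
  have hmul : ∀ a b v, ρ (a * b) v = ρ a (ρ b v) := fun a b v => by rw [map_mul]; rfl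
  have hone : ∀ v, ρ 1 v = v := fun v => by rw [map_one]; rfl
  have hinj : ∀ g, (∀ v, ρ g v = v) → g = 1 := fun g h =>
    hρ (by rw [map_one]; exact LinearEquiv.ext h)
  have huniq : ∀ v, v ≠ 0 → ∀ g h, g ≠ 1 → h ≠ 1 → ρ g v = v → ρ h v = v → g = h := by
    intro v hv g h hg hh hgv hhv
    by_contra hne
    have hinj3 : Function.Injective (![⟨1, hone v⟩, ⟨g, hgv⟩, ⟨h, hhv⟩] : Fin 3 → {g : G // ρ g v = v}) := by
      intro i j hij
      fin_cases i <;> fin_cases j <;> simp_all [Subtype.ext_iff, eq_comm]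
    have := Nat.card_le_card_of_injective _ hinj3
    rw [hstab v hv, Nat.card_fin] at this
    omega
  have hex : ∀ v, v ≠ 0 → ∃ g, g ≠ 1 ∧ ρ g v = v ∧ g * g = 1 := by
    intro v hv
    haveI : Nontrivial {g : G // ρ g v = v} := Finite.one_lt_card_iff_nontrivial.1 (by rw [hstab v hv]; norm_num)
    obtain ⟨⟨g, hg⟩, hne⟩ := exists_ne (⟨1, hone v⟩ : {g : G // ρ g v = v})
    have hg1 : g ≠ 1 := fun e => hne (Subtype.ext e)
    refine ⟨g, hg1, hg, ?_⟩
    by_contra h
    have h2 := huniq v hv g (g * g) hg1 h hg (by rw [hmul, hg, hg])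
    exact hg1 (mul_eq_left.1 h2.symm)
  have hz1 : z ≠ 1 := fun e => by rw [e, orderOf_one] at hz; norm_num at hz
  have hzz : z * z = 1 := by rw [← sq, ← hz, pow_orderOf_eq_one]
  have hq2 : q ≠ 2 := by
    intro e
    have hchar : ∀ v : V, v + v = 0 := fun v => by
      rw [← two_nsmul]
      subst e
      rw [← Nat.cast_smul_eq_nsmul (ZMod 2), ZMod.natCast_self, zero_smul]
    apply hz1
    refine hinj z fun v => ?_
    by_cases hv : v = 0
    · rw [hv, map_zero]
    by_contra hne
    obtain ⟨t, ht1, htv, -⟩ := hex v hv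
    set u := v + ρ z v with hu
    have hu0 : u ≠ 0 := fun h => hne (by
      have := congrArg (fun x => v + x) h
      simp only [hu, ← add_assoc, hchar, zero_add, add_zero] at this
      exact this)
    have hzu : ρ z u = u := by rw [hu, map_add, ← hmul, hzz, hone, add_comm]
    have htu : ρ t u = u := by
      rw [hu, map_add, htv, ← hmul, Subgroup.mem_center_iff.1 hzc t, hmul, htv]
    exact hne (huniq u hu0 z t hz1 ht1 hzu htu ▸ htv)
  have h2ne : (2 : ZMod q) ≠ 0 := fun h => hq2 (by
    have h' : ((2 : ℕ) : ZMod q) = 0 := by exact_mod_cast h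
    rw [ZMod.natCast_eq_zero_iff] at h'
    exact (Nat.prime_dvd_prime_iff_eq hq Nat.prime_two).1 h')
  have h2v : ∀ v : V, v + v = 0 → v = 0 := fun v h => by
    rw [← two_smul (ZMod q)] at h
    exact (smul_eq_zero.1 h).resolve_left h2ne
  have hneg : ∀ c, c ∈ Subgroup.center G → c * c = 1 → c ≠ 1 → ∀ v, ρ c v = -v := by
    intro c hc hcc hc1 v
    by_contra hne
    have hu0 : v + ρ c v ≠ 0 := fun h => hne (eq_neg_of_add_eq_zero_right h)
    have hcu : ρ c (v + ρ c v) = v + ρ c v := by rw [map_add, ← hmul, hcc, hone, add_comm]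
    apply hc1
    refine hinj c fun w => ?_
    by_contra hw
    have hd0 : w - ρ c w ≠ 0 := fun h => hw (sub_eq_zero.1 h).symm
    set u := v + ρ c v with hu
    set d := w - ρ c w with hd
    have hcd : ρ c d = -d := by rw [hd, map_sub, ← hmul, hcc, hone, neg_sub]
    have hx : u + d ≠ 0 := by
      intro h
      have h' := congrArg (ρ c) h
      rw [map_add, map_zero, hcu, hcd] at h'
      have : u + u = 0 := by
        calc u + u = (u + d) + (u + -d) := by abel
          _ = 0 := by rw [h, h', add_zero]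
      exact hu0 (h2v _ this)
    obtain ⟨g, hg1, hg, -⟩ := hex _ hx
    have hg' : ρ g (u + -d) = u + -d := by
      rw [← hcd, ← hcu, ← map_add, ← hmul, Subgroup.mem_center_iff.1 hc g, hmul, hg]
    have hgu : ρ g u = u := by
      have h4 : ρ g (u + u) = u + u := by
        calc ρ g (u + u) = ρ g ((u + d) + (u + -d)) := by congr 1; abel
          _ = (u + d) + (u + -d) := by rw [map_add, hg, hg']
          _ = u + u := by abel
      rw [map_add, ← two_smul (ZMod q), ← two_smul (ZMod q) u] at h4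
      exact smul_right_injective V h2ne h4
    have hgc : g = c := huniq u hu0 g c hg1 hc1 hgu hcu
    rw [hgc, map_add, hcu, hcd] at hg
    have : d + d = 0 := by
      have h5 := add_left_cancel hg
      calc d + d = d + -d := by rw [h5]
        _ = 0 := add_neg_cancel d
    exact hd0 (h2v _ this)
  have hzneg := hneg z hzc hzz hz1
  let F : G → Submodule (ZMod q) V := fun g => LinearMap.eqLocus (ρ g).toLinearMap LinearMap.id
  have hF : ∀ g v, v ∈ F g ↔ ρ g v = v := fun g v => Iff.rfl
  let I : Type _ := {g : G // orderOf g = 2 ∧ g ∉ Subgroup.center G}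
  have hIz : ∀ g : G, g * g = 1 → g ≠ 1 → g ≠ z → g ∉ Subgroup.center G ∧ orderOf g = 2 := fun g h1 h2 h3 =>
    ⟨fun hc => h3 (hρ (LinearEquiv.ext fun v => by rw [hneg g hc h1 h2 v, hzneg v])),
      orderOf_eq_prime (by rw [sq, h1]) h2⟩
  have hIsq : ∀ t : I, (t : G) * t = 1 := fun t => by
    have h := pow_orderOf_eq_one (t : G)
    rwa [t.2.1, sq] at h
  have hI1 : ∀ t : I, (t : G) ≠ 1 := fun t e => by have := t.2.1; rw [e, orderOf_one] at this; norm_num at this
  have hdisj : ∀ s t : I, s ≠ t → F s ⊓ F t = ⊥ := by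
    intro s t hne
    rw [Submodule.eq_bot_iff]
    rintro v ⟨h1, h2⟩
    by_contra hv
    exact hne (Subtype.ext (huniq v hv _ _ (hI1 s) (hI1 t) h1 h2))
  have hcov : ∀ v, v ≠ 0 → ∃ t : I, v ∈ F t := by
    intro v hv
    obtain ⟨g, hg1, hgv, hgg⟩ := hex v hv
    have hgz : g ≠ z := fun e => hv (h2v v (by rw [e, hzneg] at hgv; nth_rewrite 1 [← hgv]; exact neg_add_cancel v))
    obtain ⟨h1, h2⟩ := hIz g hgg hg1 hgz
    exact ⟨⟨g, h2, h1⟩, hgv⟩
  let opp : I → I := fun t => ⟨t * z, by
    have hsq : (t : G) * z * (t * z) = 1 := by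
      rw [mul_assoc, ← mul_assoc z, ← Subgroup.mem_center_iff.1 hzc (t : G), mul_assoc, hzz, mul_one, hIsq]
    have h1 : (t : G) * z ≠ 1 := fun e => by
      apply t.2.2
      rw [show (t : G) = z by rw [← mul_one (t : G), ← hzz, ← mul_assoc, e, one_mul]]
      exact hzc
    have h2 : (t : G) * z ≠ z := fun e => hI1 t (mul_eq_right.1 e)
    exact (hIz _ hsq h1 h2).symm⟩
  have hopp : ∀ t : I, Module.finrank (ZMod q) (F t) + Module.finrank (ZMod q) (F (opp t)) =
      Module.finrank (ZMod q) V ∧ opp t ≠ t := by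
    intro t
    have hne : opp t ≠ t := fun e => hz1 (mul_eq_left.1 (congrArg Subtype.val e))
    have hv' : ∀ v, v ∈ F (opp t) ↔ ρ t v = -v := fun v => by
      rw [hF, show ((opp t : I) : G) = (t : G) * z from rfl, hmul, hzneg, map_neg, neg_eq_iff_eq_neg]
    refine ⟨?_, hne⟩
    rw [← Submodule.finrank_sup_add_finrank_inf_eq, hdisj t (opp t) hne.symm, finrank_bot, add_zero,
      show F t ⊔ F (opp t) = ⊤ from ?_, finrank_top]
    rw [eq_top_iff]
    intro v _
    refine Submodule.mem_sup.2 ⟨(2 : ZMod q)⁻¹ • (v + ρ t v), ?_, (2 : ZMod q)⁻¹ • (v - ρ t v), ?_, ?_⟩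
    · rw [hF, map_smul, map_add, ← hmul, hIsq, hone, add_comm]
    · rw [hv', map_smul, map_sub, ← hmul, hIsq, hone, ← smul_neg, neg_sub]
    · rw [← smul_add, add_add_sub_cancel, ← two_smul (ZMod q), smul_smul, inv_mul_cancel₀ h2ne, one_smul]
  have hle : ∀ s t : I, s ≠ t → Module.finrank (ZMod q) (F s) + Module.finrank (ZMod q) (F t) ≤
      Module.finrank (ZMod q) V := by
    intro s t hne
    rw [← Submodule.finrank_sup_add_finrank_inf_eq, hdisj s t hne, finrank_bot, add_zero]
    exact Submodule.finrank_le _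
  have hpos : ∀ t : I, ∃ v, v ≠ 0 ∧ v ∈ F t := by
    intro t
    by_contra hcon
    push Not at hcon
    apply t.2.2
    have : (t : G) = z := hρ (LinearEquiv.ext fun v => by
      rw [hzneg]
      have hw : v + ρ t v ∈ F t := by rw [hF, map_add, ← hmul, hIsq, hone, add_comm]
      by_contra hne
      exact hcon _ (fun h => hne (eq_neg_of_add_eq_zero_right h)) hw)
    rw [this]; exact hzc
  have hhalf : ∀ t : I, 2 * Module.finrank (ZMod q) (F t) = Module.finrank (ZMod q) V := by
    intro t
    obtain ⟨a, ha0, ha⟩ := hpos t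
    obtain ⟨b, hb0, hb⟩ := hpos (opp t)
    have hne := (hopp t).2
    have hab : a + b ∉ F t ∧ a + b ∉ F (opp t) := by
      constructor
      · intro h
        have h' : b ∈ F t ⊓ F (opp t) := ⟨by simpa using (F t).sub_mem h ha, hb⟩
        rw [hdisj _ _ hne.symm, Submodule.mem_bot] at h'
        exact hb0 h'
      · intro h
        have h' : a ∈ F t ⊓ F (opp t) := ⟨ha, by simpa using (F (opp t)).sub_mem h hb⟩
        rw [hdisj _ _ hne.symm, Submodule.mem_bot] at h'
        exact ha0 h'
    obtain ⟨s, hs⟩ := hcov (a + b) (fun h => hab.1 (by rw [h]; exact zero_mem _))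
    have h1 : s ≠ t := fun e => hab.1 (e ▸ hs)
    have h2 : s ≠ opp t := fun e => hab.2 (e ▸ hs)
    have e1 := hle s t h1
    have e2 := hle s (opp t) h2
    have e3 := (hopp t).1
    have h3 : opp s ≠ t := fun e => h2 (Subtype.ext (by
      show (s : G) = (t : G) * z
      rw [← e]
      show (s : G) = (s : G) * z * z
      rw [mul_assoc, hzz, mul_one]))
    have h4 : opp s ≠ opp t := fun e => h1 (Subtype.ext (mul_right_cancel (congrArg Subtype.val e :)))
    have e4 := hle (opp s) t h3
    have e5 := hle (opp s) (opp t) h4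
    have e6 := (hopp s).1
    omega
  obtain ⟨v₀, hv₀⟩ := exists_ne (0 : V)
  obtain ⟨t₀, -⟩ := hcov v₀ hv₀
  set r := Module.finrank (ZMod q) (F t₀) with hr
  have hcardV : Nat.card V = q ^ (2 * r) := by
    rw [Module.natCard_eq_pow_finrank (K := ZMod q) (V := V), Nat.card_zmod, hhalf t₀]
  refine ⟨r, hcardV, ?_⟩
  have hcardF : ∀ t : I, Nat.card (F t) = q ^ r := fun t => by
    rw [Module.natCard_eq_pow_finrank (K := ZMod q) (V := F t), Nat.card_zmod]
    congr 1
    have := hhalf t
    have := hhalf t₀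
    omega
  haveI := Fintype.ofFinite V
  haveI := Fintype.ofFinite G
  have e : Nat.card (Σ t : I, {v : F t // v ≠ 0}) = Nat.card {v : V // v ≠ 0} := by
    refine Nat.card_congr (Equiv.ofBijective (fun x => ⟨(x.2.1 : V), fun h => x.2.2 (Subtype.ext h)⟩) ⟨?_, ?_⟩)
    · rintro ⟨t, v, hv⟩ ⟨s, w, hw⟩ h
      have h' : (v : V) = w := congrArg Subtype.val h
      have hts : t = s := Subtype.ext (huniq (v : V) (fun e => hv (Subtype.ext e)) _ _ (hI1 t) (hI1 s) v.2 (h' ▸ w.2))
      subst hts
      obtain rfl : v = w := Subtype.ext h'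
      rfl
    · rintro ⟨v, hv⟩
      obtain ⟨t, ht⟩ := hcov v hv
      exact ⟨⟨t, ⟨v, ht⟩, fun h => hv (congrArg Subtype.val h)⟩, rfl⟩
  have hsub : ∀ (W : Type _) [Fintype W] (a : W), Nat.card {v : W // v ≠ a} = Nat.card W - 1 := by
    intro W _ a
    rw [Nat.card_eq_fintype_card, Fintype.card_subtype_compl, Fintype.card_subtype_eq, Nat.card_eq_fintype_card]
  have e1 : ∀ t : I, Nat.card {v : F t // v ≠ 0} = q ^ r - 1 := fun t => (hsub (F t) 0).trans (by rw [hcardF t])
  simp only [Nat.card_sigma, e1, Finset.sum_const, Finset.card_univ, smul_eq_mul] at e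
  rw [hsub, hcardV] at e
  rw [Nat.card_eq_fintype_card]
  have h1 : 1 < q ^ r := by
    refine Nat.one_lt_pow ?_ hq.one_lt
    have := hhalf t₀
    have hp : 0 < Module.finrank (ZMod q) V := Module.finrank_pos
    omega
  have h2 : q ^ (2 * r) - 1 = (q ^ r + 1) * (q ^ r - 1) := by
    have := Nat.sq_sub_sq (q ^ r) 1
    rw [one_pow] at this
    rw [← this, ← pow_mul, mul_comm 2 r]
  rw [h2] at e
  exact Nat.eq_of_mul_eq_mul_right (by omega) e

end Cfsg.Agent.S3381
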