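import Cfsg.Statements.S3382
import Mathlib

set_option autoImplicit false
open Cfsg

namespace Cfsg.Agent.S3382

variable {q : ℕ} [Fact q.Prime]

/-- The plane. -/
abbrev W (q : ℕ) := Fin 2 → ZMod q

/-- Diagonal monomial maps. -/
def Dia (f : W q ≃ₗ[ZMod q] W q) (a s : ZMod q) : Prop := ∀ v, f v = ![a * v 0, s * a⁻¹ * v 1]

/-- Antidiagonal monomial maps. -/
def Swp (f : W q ≃ₗ[ZMod q] W q) (a s : ZMod q) : Prop := ∀ v, f v = ![s * a⁻¹ * v 1, a * v 0]

theorem dia_mul {f g : W q ≃ₗ[ZMod q] W q} {a s b t : ZMod q} (hf : Dia f a s) (hg : Dia g b t) :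
    Dia (f * g) (a * b) (s * t) := fun v => by
  show f (g v) = _
  rw [hf, hg]
  simp [mul_inv]; constructor <;> ring

theorem swp_mul {f g : W q ≃ₗ[ZMod q] W q} {a s b t : ZMod q} (hb : b ≠ 0) (ha : a ≠ 0) (hs : s = 1 ∨ s = -1)
    (hf : Swp f a s) (hg : Swp g b t) : Dia (f * g) (s * a⁻¹ * b) (s * t) := fun v => by
  show f (g v) = _
  rw [hf, hg]
  rcases hs with rfl | rfl <;> simp [mul_inv, inv_neg] <;> constructor <;> field_simp

theorem dia_swp {f g : W q ≃ₗ[ZMod q] W q} {a s b t : ZMod q} (hb : b ≠ 0) (ha : a ≠ 0) (hs : s = 1 ∨ s = -1)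
    (hf : Dia f a s) (hg : Swp g b t) : Swp (f * g) (s * a⁻¹ * b) (s * t) := fun v => by
  show f (g v) = _
  rw [hf, hg]
  rcases hs with rfl | rfl <;> simp [mul_inv, inv_neg] <;> constructor <;> field_simp

theorem swp_dia {f g : W q ≃ₗ[ZMod q] W q} {a s b t : ZMod q}
    (hf : Swp f a s) (hg : Dia g b t) : Swp (f * g) (a * b) (s * t) := fun v => by
  show f (g v) = _
  rw [hf, hg]
  simp [mul_inv]; constructor <;> ring

theorem dia_inv {f : W q ≃ₗ[ZMod q] W q} {a s : ZMod q} (ha : a ≠ 0) (hs : s = 1 ∨ s = -1) (hf : Dia f a s) :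
    Dia f⁻¹ a⁻¹ s := fun v => by
  apply f.injective
  rw [show f (f⁻¹ v) = v from f.apply_symm_apply v, hf]
  ext i
  fin_cases i <;> rcases hs with rfl | rfl <;> simp [ha]

theorem swp_inv {f : W q ≃ₗ[ZMod q] W q} {a s : ZMod q} (ha : a ≠ 0) (hs : s = 1 ∨ s = -1) (hf : Swp f a s) :
    Swp f⁻¹ (s * a) s := fun v => by
  apply f.injective
  rw [show f (f⁻¹ v) = v from f.apply_symm_apply v, hf]
  ext i
  fin_cases i <;> rcases hs with rfl | rfl <;> simp [ha]

theorem dia_one : Dia (1 : W q ≃ₗ[ZMod q] W q) 1 1 := fun v => by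
  ext i
  fin_cases i <;> simp

theorem dia_pow {f : W q ≃ₗ[ZMod q] W q} {a s : ZMod q} (hf : Dia f a s) (n : ℕ) : Dia (f ^ n) (a ^ n) (s ^ n) := by
  induction n with
  | zero => simpa using dia_one
  | succ n ih => rw [pow_succ, pow_succ, pow_succ]; exact dia_mul ih hf

theorem dia_inj {f : W q ≃ₗ[ZMod q] W q} {a s b t : ZMod q} (ha : a ≠ 0) (hf : Dia f a s) (hg : Dia f b t) :
    a = b ∧ s = t := by
  have h0 := congrFun ((hf ![1, 0]).symm.trans (hg ![1, 0])) 0
  have h1 := congrFun ((hf ![0, 1]).symm.trans (hg ![0, 1])) 1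
  simp at h0 h1
  subst h0
  exact ⟨rfl, mul_right_cancel₀ (inv_ne_zero ha) h1⟩

theorem not_dia_swp {f : W q ≃ₗ[ZMod q] W q} {a s b t : ZMod q} (hb : b ≠ 0) (hf : Dia f a s) (hg : Swp f b t) : False := by
  have h1 := congrFun ((hf ![1, 0]).symm.trans (hg ![1, 0])) 1
  simp at h1
  exact hb h1.symm

theorem ext_dia {f g : W q ≃ₗ[ZMod q] W q} {a s : ZMod q} (hf : Dia f a s) (hg : Dia g a s) : f = g :=
  LinearEquiv.ext fun v => (hf v).trans (hg v).symm

theorem two_units : ∀ a : ZMod 2, a ≠ 0 → a = 1 := by decide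

theorem two_neg : (-1 : ZMod 2) = 1 := by decide

theorem three_units : ∀ a : ZMod 3, a ≠ 0 → a = 1 ∨ a = -1 := by decide

theorem three_ne : ¬ (1 : ZMod 3) = -1 := by decide

/-- One step of a stabilised series. -/
theorem step {T : Type*} [Group T] (hT : IsPGroup 2 T) (α : MulAut T) (r : ℕ) (hr : Odd r) (hα : α ^ r = 1)
    (H K : T → Prop) (hK : ∀ x, K x → K (α x)) (hH : ∀ x, H (α x) → H x)
    (hfix : ∀ x, H x → α x = x) (hstep : ∀ x y, K x → K y → ¬ H x → ¬ H y → H (x⁻¹ * y)) :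
    ∀ x, K x → α x = x := by
  intro x hx
  by_cases hxH : H x
  · exact hfix x hxH
  set h := x⁻¹ * α x with hh
  have hhH : H h := hstep x (α x) hx (hK x hx) hxH (fun h => hxH (hH x h))
  have hit : ∀ n : ℕ, (α ^ n) x = x * h ^ n := by
    intro n
    induction n with
    | zero => simp
    | succ n ih =>
      have hxα : α x = x * h := by rw [hh, mul_inv_cancel_left]
      rw [pow_succ' α, MulAut.mul_apply, ih, map_mul, map_pow, hfix h hhH, hxα, pow_succ', mul_assoc]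
  have h1 := hit r
  rw [hα, MulAut.one_apply, left_eq_mul] at h1
  obtain ⟨k, hk⟩ := IsPGroup.iff_orderOf.1 hT h
  have hd := orderOf_dvd_of_pow_eq_one h1
  have h2 : orderOf h = 1 := by
    refine Nat.eq_one_of_dvd_coprimes ?_ hd (dvd_of_eq hk)
    exact (Nat.coprime_two_right.2 hr).pow_right k
  rw [orderOf_eq_one_iff, hh, inv_mul_eq_one] at h2
  exact h2.symm


/-- Let q = 2^m + 1 be a prime other than 5. Then the automorphism group of the group of linear maps of F_q² of the forms (x, y) ↦ (a x, ± a⁻¹ y) and (x, y) ↦ (± a⁻¹ y, a x) with a ≠ 0 is itself a 2-group. -/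
theorem result (q m : ℕ) [Fact q.Prime] (hq : q = 2 ^ m + 1) (hq5 : q ≠ 5)
    (T : Subgroup ((Fin 2 → ZMod q) ≃ₗ[ZMod q] (Fin 2 → ZMod q)))
    (hT : ∀ f, f ∈ T ↔ ∃ a s : ZMod q, a ≠ 0 ∧ (s = 1 ∨ s = -1) ∧
      ((∀ v, f v = ![a * v 0, s * a⁻¹ * v 1]) ∨ (∀ v, f v = ![s * a⁻¹ * v 1, a * v 0]))) :
    IsPGroup 2 (MulAut T) := by
  classical
  have hq2 : 2 ≤ q := (Fact.out : q.Prime).two_le
  haveI : Finite ((Fin 2 → ZMod q) ≃ₗ[ZMod q] (Fin 2 → ZMod q)) :=
    Finite.of_injective (fun f => (f : (Fin 2 → ZMod q) → (Fin 2 → ZMod q))) DFunLike.coe_injective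
  have hcases : ∀ x : T, ∃ a s : ZMod q, a ≠ 0 ∧ (s = 1 ∨ s = -1) ∧ (Dia (x : W q ≃ₗ[ZMod q] W q) a s ∨ Swp (x : W q ≃ₗ[ZMod q] W q) a s) := fun x => (hT x).1 x.2
  have hpow : ∀ a : ZMod q, a ≠ 0 → a ^ 2 ^ m = 1 := fun a ha => by
    have h1 := ZMod.pow_card_sub_one_eq_one ha
    rwa [show q - 1 = 2 ^ m by omega] at h1
  have hs2 : ∀ {s : ZMod q}, (s = 1 ∨ s = -1) → s * s = 1 := fun hs => by rcases hs with rfl | rfl <;> simp
  have hsq : ∀ x : T, ∃ a, a ≠ 0 ∧ Dia ((x ^ 2 : T) : W q ≃ₗ[ZMod q] W q) a 1 := by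
    intro x
    obtain ⟨a, s, ha, hs, h | h⟩ := hcases x
    · refine ⟨a * a, mul_ne_zero ha ha, ?_⟩
      rw [← hs2 hs, Subgroup.coe_pow, pow_two]
      exact dia_mul h h
    · refine ⟨s * a⁻¹ * a, ?_, ?_⟩
      · rw [inv_mul_cancel_right₀ ha]
        rcases hs with rfl | rfl <;> simp
      · rw [← hs2 hs, Subgroup.coe_pow, pow_two]
        exact swp_mul ha ha hs h h
  have hTp : IsPGroup 2 T := by
    intro x
    obtain ⟨a, ha, h⟩ := hsq x
    refine ⟨m + 1, Subtype.ext ?_⟩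
    have h1 := dia_pow h (2 ^ m)
    rw [hpow a ha, one_pow] at h1
    rw [pow_succ', pow_mul, Subgroup.coe_pow]
    exact ext_dia h1 dia_one
  intro α
  haveI : Finite (MulAut T) := Finite.of_injective (fun f : MulAut T => (f : T → T)) DFunLike.coe_injective
  set k := (orderOf α).factorization 2
  refine ⟨k, ?_⟩
  set β := α ^ 2 ^ k with hβ
  set r := orderOf α / 2 ^ k with hr
  have hrodd : Odd r := Nat.not_even_iff_odd.1 fun h => Nat.not_dvd_ordCompl Nat.prime_two (orderOf_pos α).ne' (even_iff_two_dvd.1 h)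
  have hβr : β ^ r = 1 := by
    rw [hβ, ← pow_mul, hr, Nat.mul_div_cancel' (Nat.ordProj_dvd _ _), pow_orderOf_eq_one]
  have hβ4 : ∀ (x : T) (n : ℕ), (β x) ^ n = 1 ↔ x ^ n = 1 := fun x n => by
    rw [← map_pow, MulEquiv.map_eq_one_iff]
  have hbot : ∀ x : T, x = 1 → β x = x := fun x hx => by rw [hx, map_one]
  have hcoe : ∀ x y : T, ((x⁻¹ * y : T) : W q ≃ₗ[ZMod q] W q) = (x : W q ≃ₗ[ZMod q] W q)⁻¹ * y := fun x y => rfl
  -- squares of the scalar kind
  suffices hall : ∀ x : T, β x = x from MulEquiv.ext hall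
  rcases (show m = 0 ∨ m = 1 ∨ 3 ≤ m by
    by_contra hne
    have h2 : m = 2 := by omega
    subst h2; norm_num at hq; exact hq5 hq) with rfl | rfl | hm
  · -- two elements
    have hq' : q = 2 := by simpa using hq
    subst hq'
    have hone := two_units
    have hs1 : ∀ {s : ZMod 2}, (s = 1 ∨ s = -1) → s = 1 := fun hs => by
      rcases hs with rfl | rfl <;> first | rfl | exact two_neg
    refine fun x => step hTp β r hrodd hβr (fun x => x = 1) (fun _ => True) (fun _ _ => trivial)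
      (fun x h => by rw [← β.injective.eq_iff, h, map_one]) hbot (fun x y _ _ hx hy => ?_) x trivial
    have key : ∀ z : T, z ≠ 1 → Swp (z : W 2 ≃ₗ[ZMod 2] W 2) 1 1 := fun z hz => by
      obtain ⟨a, s, ha, hs, h | h⟩ := hcases z <;> rw [hone a ha, hs1 hs] at h
      · exact absurd (Subtype.ext (ext_dia h dia_one)) hz
      · exact h
    have : x = y := Subtype.ext (LinearEquiv.ext fun v => (key x hx v).trans (key y hy v).symm)
    rw [this, inv_mul_cancel]
  · -- eight elements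
    have hq' : q = 3 := by simpa using hq
    subst hq'
    have hpm := three_units
    let Z : T → Prop := fun x => ∃ y : T, x = y ^ 2
    let C : T → Prop := fun x => Z x ∨ x ^ 2 ≠ 1
    have hZfix : ∀ x, Z x → β x = x := step hTp β r hrodd hβr (fun x => x = 1) Z
      (fun x ⟨y, hy⟩ => ⟨β y, by rw [hy, map_pow]⟩) (fun x h => by rw [← β.injective.eq_iff, h, map_one]) hbot
      (fun x y ⟨u, hu⟩ ⟨v, hv⟩ hx hy => by
        obtain ⟨a, ha, h⟩ := hsq u
        obtain ⟨b, hb, h'⟩ := hsq v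
        have key : ∀ {z : T} {c : ZMod 3}, c ≠ 0 → z ≠ 1 → Dia (z : W 3 ≃ₗ[ZMod 3] W 3) c 1 → c = -1 := by
          intro z c hc hz h
          rcases hpm c hc with rfl | rfl
          · exact absurd (Subtype.ext (ext_dia h dia_one)) hz
          · rfl
        rw [← hu] at h; rw [← hv] at h'
        rw [key ha hx h] at h; rw [key hb hy h'] at h'
        rw [show x = y from Subtype.ext (ext_dia h h'), inv_mul_cancel])
    have hZinv : ∀ x, Z (β x) → Z x := fun x ⟨y, hy⟩ => ⟨β.symm y, by rw [← map_pow, ← hy, MulEquiv.symm_apply_apply]⟩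
    have hZdia : ∀ x : T, Z x ↔ ∃ a, a ≠ 0 ∧ Dia (x : W 3 ≃ₗ[ZMod 3] W 3) a 1 := by
      intro x
      constructor
      · rintro ⟨y, rfl⟩; exact hsq y
      · rintro ⟨a, ha, h⟩
        rcases hpm a ha with rfl | rfl
        · exact ⟨1, Subtype.ext (by rw [one_pow]; exact ext_dia h dia_one)⟩
        · let J : W 3 ≃ₗ[ZMod 3] W 3 :=
            { toFun := fun v => ![-v 1, v 0]
              invFun := fun v => ![v 1, -v 0]
              map_add' := fun u v => by ext i; fin_cases i <;> simp [add_comm]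
              map_smul' := fun c v => by ext i; fin_cases i <;> simp
              left_inv := fun v => by ext i; fin_cases i <;> simp
              right_inv := fun v => by ext i; fin_cases i <;> simp }
          have hJ : Swp J 1 (-1) := fun v => by
            show ![-v 1, v 0] = _
            simp
          refine ⟨⟨J, (hT J).2 ⟨1, -1, one_ne_zero, Or.inr rfl, Or.inr hJ⟩⟩, Subtype.ext ?_⟩
          have h2 := swp_mul one_ne_zero one_ne_zero (Or.inr rfl) hJ hJ
          rw [show ((-1 : ZMod 3) * 1⁻¹ * 1) = -1 by simp, show ((-1 : ZMod 3) * -1) = 1 by simp] at h2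
          rw [Subgroup.coe_pow, pow_two]
          exact ext_dia h h2
    have hsnot : ∀ {x : T} {a s : ZMod 3}, a ≠ 0 → Dia (x : W 3 ≃ₗ[ZMod 3] W 3) a s → x ^ 2 = 1 := fun {x a s} ha h => by
      refine Subtype.ext ?_
      have h2 := dia_pow h 2
      rw [show a ^ 2 = 1 by rcases hpm a ha with rfl | rfl <;> simp] at h2
      obtain ⟨b, hb, h3⟩ := hsq x
      rw [Subgroup.coe_pow] at h3 ⊢
      rw [(dia_inj hb h3 h2).2.symm] at h2
      exact ext_dia h2 dia_one
    have hCswp : ∀ x : T, C x → ¬ Z x → ∃ a, a ≠ 0 ∧ Swp (x : W 3 ≃ₗ[ZMod 3] W 3) a (-1) := by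
      intro x hC hZ
      have hx2 := hC.resolve_left hZ
      obtain ⟨a, s, ha, hs, h | h⟩ := hcases x
      · exact absurd (hsnot ha h) hx2
      · rcases hs with rfl | rfl
        · refine absurd (Subtype.ext ?_) hx2
          have h2 := swp_mul ha ha (Or.inl rfl) h h
          rw [show (1 : ZMod 3) * a⁻¹ * a = 1 by simp [ha], mul_one] at h2
          rw [Subgroup.coe_pow, pow_two]
          exact ext_dia h2 dia_one
        · exact ⟨a, ha, h⟩
    have hCfix : ∀ x, C x → β x = x := step hTp β r hrodd hβr Z C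
      (fun x hx => hx.imp (fun ⟨y, hy⟩ => ⟨β y, by rw [hy, map_pow]⟩) (fun h h' => h ((hβ4 x 2).1 h')))
      hZinv hZfix (fun x y hx hy hnx hny => by
        obtain ⟨a, ha, h⟩ := hCswp x hx hnx
        obtain ⟨b, hb, h'⟩ := hCswp y hy hny
        refine (hZdia _).2 ⟨-1 * (-1 * a)⁻¹ * b, by simp [ha, hb], ?_⟩
        have h2 := swp_mul hb (by simp [ha]) (Or.inr rfl) (swp_inv ha (Or.inr rfl) h) h'
        rw [show ((-1 : ZMod 3) * -1) = 1 by simp] at h2
        exact h2)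
    refine fun x => step hTp β r hrodd hβr C (fun _ => True) (fun _ _ => trivial)
      (fun x hx => hx.imp (hZinv x) (fun h h' => h ((hβ4 x 2).2 h'))) hCfix (fun x y _ _ hx hy => ?_) x trivial
    have key : ∀ z : T, ¬ C z → ∃ a, a ≠ 0 ∧ (Dia (z : W 3 ≃ₗ[ZMod 3] W 3) a (-1) ∨ Swp (z : W 3 ≃ₗ[ZMod 3] W 3) a 1) := by
      intro z hz
      obtain ⟨a, s, ha, hs, h | h⟩ := hcases z
      · rcases hs with rfl | rfl
        · exact absurd (Or.inl ((hZdia z).2 ⟨a, ha, h⟩)) hz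
        · exact ⟨a, ha, Or.inl h⟩
      · rcases hs with rfl | rfl
        · exact ⟨a, ha, Or.inr h⟩
        · refine absurd (Or.inr fun h' => ?_) hz
          have h2 := swp_mul ha ha (Or.inr rfl) h h
          rw [show (-1 : ZMod 3) * a⁻¹ * a = -1 by simp [ha], show ((-1 : ZMod 3) * -1) = 1 by simp] at h2
          have h1 := congrArg Subtype.val h'
          rw [Subgroup.coe_pow, pow_two] at h1
          rw [h1] at h2
          exact absurd (dia_inj one_ne_zero dia_one h2).1 three_ne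
    obtain ⟨a, ha, h | h⟩ := key x hx <;> obtain ⟨b, hb, h' | h'⟩ := key y hy
    · refine Or.inl ((hZdia _).2 ⟨a⁻¹ * b, by simp [ha, hb], ?_⟩)
      have h2 := dia_mul (dia_inv ha (Or.inr rfl) h) h'
      rw [show ((-1 : ZMod 3) * -1) = 1 by simp] at h2
      exact h2
    · refine Or.inr fun h2 => ?_
      have h3 := dia_swp hb (inv_ne_zero ha) (Or.inr rfl) (dia_inv ha (Or.inr rfl) h) h'
      have hne : (-1 : ZMod 3) * a⁻¹⁻¹ * b ≠ 0 := by simp [ha, hb]
      have h4 := swp_mul hne hne (Or.inr (by ring)) h3 h3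
      have h1 := congrArg Subtype.val h2
      rw [Subgroup.coe_pow, pow_two, hcoe] at h1
      rw [h1, show ((-1 : ZMod 3) * 1) * ((-1 : ZMod 3) * a⁻¹⁻¹ * b)⁻¹ * ((-1 : ZMod 3) * a⁻¹⁻¹ * b) = -1 by rw [inv_mul_cancel_right₀ hne]; ring] at h4
      exact absurd (dia_inj one_ne_zero dia_one h4).1 three_ne
    · refine Or.inr fun h2 => ?_
      have h3 := swp_dia (swp_inv ha (Or.inl rfl) h) h'
      have hne : (1 : ZMod 3) * a * b ≠ 0 := by simp [ha, hb]
      have h4 := swp_mul hne hne (Or.inr (by ring)) h3 h3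
      have h1 := congrArg Subtype.val h2
      rw [Subgroup.coe_pow, pow_two, hcoe] at h1
      rw [h1, show ((1 : ZMod 3) * -1) * ((1 : ZMod 3) * a * b)⁻¹ * ((1 : ZMod 3) * a * b) = -1 by rw [inv_mul_cancel_right₀ hne]; ring] at h4
      exact absurd (dia_inj one_ne_zero dia_one h4).1 three_ne
    · refine Or.inl ((hZdia _).2 ⟨1 * ((1 : ZMod 3) * a)⁻¹ * b, by simp [ha, hb], ?_⟩)
      have h2 := swp_mul hb (by simp [ha]) (Or.inl rfl) (swp_inv ha (Or.inl rfl) h) h'
      rw [show ((1 : ZMod 3) * 1) = 1 by simp] at h2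
      exact h2
  -- the general case
  have h8 : 8 ≤ 2 ^ m := by
    calc 8 = 2 ^ 3 := rfl
      _ ≤ _ := Nat.pow_le_pow_right two_pos hm
  let D : T → Prop := fun x => ∀ y : T, y ^ 4 ≠ 1 → Commute x y
  have hbig : ∀ y : T, y ^ 4 ≠ 1 → ∃ a s, a ≠ 0 ∧ (s = 1 ∨ s = -1) ∧ a ^ 4 ≠ 1 ∧ Dia (y : W q ≃ₗ[ZMod q] W q) a s := by
    intro y hy
    obtain ⟨a, s, ha, hs, h | h⟩ := hcases y
    · refine ⟨a, s, ha, hs, fun h4 => hy (Subtype.ext ?_), h⟩
      have h2 := dia_pow h 4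
      rw [h4, show s ^ 4 = 1 by rw [show s ^ 4 = (s * s) * (s * s) by ring, hs2 hs, one_mul]] at h2
      rw [Subgroup.coe_pow]; exact ext_dia h2 dia_one
    · exfalso
      refine hy (Subtype.ext ?_)
      have h2 := dia_pow (swp_mul ha ha hs h h) 2
      rw [show (s * a⁻¹ * a) ^ 2 = 1 by rw [inv_mul_cancel_right₀ ha]; rcases hs with rfl | rfl <;> simp,
        show (s * s) ^ 2 = 1 by rw [hs2 hs]; simp, ← pow_two, ← pow_mul] at h2
      rw [Subgroup.coe_pow]; exact ext_dia h2 dia_one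
  obtain ⟨g, hg⟩ := IsCyclic.exists_generator (α := (ZMod q)ˣ)
  have hgo : orderOf g = 2 ^ m := by
    rw [orderOf_eq_card_of_forall_mem_zpowers hg, Nat.card_eq_fintype_card, ZMod.card_units]; omega
  let gf : W q ≃ₗ[ZMod q] W q :=
    { toFun := fun v => ![(g : ZMod q) * v 0, (g : ZMod q)⁻¹ * v 1]
      invFun := fun v => ![(g : ZMod q)⁻¹ * v 0, (g : ZMod q) * v 1]
      map_add' := fun u v => by
        ext i
        fin_cases i
        · exact mul_add _ _ _
        · exact mul_add _ _ _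
      map_smul' := fun c v => by
        ext i
        fin_cases i
        · exact mul_left_comm _ _ _
        · exact mul_left_comm _ _ _
      left_inv := fun v => by
        ext i
        fin_cases i
        · exact inv_mul_cancel_left₀ g.ne_zero (v 0)
        · exact mul_inv_cancel_left₀ g.ne_zero (v 1)
      right_inv := fun v => by
        ext i
        fin_cases i
        · exact mul_inv_cancel_left₀ g.ne_zero (v 0)
        · exact inv_mul_cancel_left₀ g.ne_zero (v 1) }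
  have hgd : Dia gf (g : ZMod q) 1 := fun v => by
    show ![(g : ZMod q) * v 0, (g : ZMod q)⁻¹ * v 1] = _
    rw [one_mul]
  let G0 : T := ⟨gf, (hT gf).2 ⟨g, 1, g.ne_zero, Or.inl rfl, Or.inl hgd⟩⟩
  have hgpow : ∀ n, 0 < n → n < 2 ^ m → (g : ZMod q) ^ n ≠ 1 := by
    intro n h0 hn h
    have := Nat.le_of_dvd h0 (hgo ▸ orderOf_dvd_of_pow_eq_one (Units.ext (by rw [Units.val_pow_eq_pow_val, h, Units.val_one]) : g ^ n = 1))
    omega
  have hG4 : G0 ^ 4 ≠ 1 := fun h => by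
    have h2 := dia_pow hgd 4
    have h1 := congrArg Subtype.val h
    rw [Subgroup.coe_pow] at h1
    rw [h1] at h2
    exact hgpow 4 (by norm_num) (by omega) (dia_inj one_ne_zero dia_one h2).1.symm
  have hD : ∀ x : T, D x ↔ ∃ a s, a ≠ 0 ∧ (s = 1 ∨ s = -1) ∧ Dia (x : W q ≃ₗ[ZMod q] W q) a s := by
    intro x
    constructor
    · intro hx
      obtain ⟨a, s, ha, hs, h | h⟩ := hcases x
      · exact ⟨a, s, ha, hs, h⟩
      exfalso
      have hc := congrArg Subtype.val (hx G0 hG4).eq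
      rw [Subgroup.coe_mul, Subgroup.coe_mul] at hc
      have h1 := swp_dia h hgd
      have h2 := dia_swp ha g.ne_zero (Or.inl rfl) hgd h
      rw [← hc] at h2
      have h3 := congrFun ((h1 ![1, 0]).symm.trans (h2 ![1, 0])) 1
      simp only [Matrix.cons_val_one, Matrix.cons_val_zero, mul_one, one_mul, mul_zero] at h3
      have h4 : (g : ZMod q) ^ 2 = 1 := by
        rw [mul_comm a, mul_eq_mul_right_iff] at h3
        rw [pow_two, ← mul_inv_cancel₀ g.ne_zero, ← h3.resolve_right ha]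
      exact hgpow 2 (by norm_num) (by omega) h4
    · rintro ⟨a, s, ha, hs, h⟩ y hy
      obtain ⟨b, t, hb, ht, -, h'⟩ := hbig y hy
      refine Subtype.ext (ext_dia (dia_mul h h') ?_)
      rw [mul_comm a, mul_comm s]
      exact dia_mul h' h
  have hDim : ∀ x, D x → D (β x) := fun x hx y hy => by
    have := (hx (β.symm y) fun h => hy (by rw [← MulEquiv.apply_symm_apply β y, ← map_pow, h, map_one])).map β
    rwa [MulEquiv.apply_symm_apply] at this
  have hDinv : ∀ x, D (β x) → D x := fun x hx y hy => by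
    have := (hx (β y) fun h => hy ((hβ4 y 4).1 h)).map β.symm
    rwa [MulEquiv.symm_apply_apply, MulEquiv.symm_apply_apply] at this
  let Z : T → Prop := fun x => ∃ y : T, D y ∧ x = y ^ 2 ^ (m - 1)
  have hhalf : (2 : ℕ) ^ (m - 1) * 2 = 2 ^ m := by rw [← pow_succ, Nat.sub_add_cancel (by omega)]
  have hZd : ∀ x : T, Z x → Dia (x : W q ≃ₗ[ZMod q] W q) 1 1 ∨ Dia (x : W q ≃ₗ[ZMod q] W q) (-1) 1 := by
    rintro x ⟨y, hy, rfl⟩
    obtain ⟨a, s, ha, hs, h⟩ := (hD y).1 hy
    have h2 := dia_pow h (2 ^ (m - 1))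
    have hs' : s ^ 2 ^ (m - 1) = 1 := by
      rcases hs with rfl | rfl
      · simp
      · exact Even.neg_one_pow ((Nat.even_pow' (by omega)).2 even_two)
    have ha' : a ^ 2 ^ (m - 1) = 1 ∨ a ^ 2 ^ (m - 1) = -1 := sq_eq_one_iff.1 (by rw [← pow_mul, hhalf, hpow a ha])
    rw [Subgroup.coe_pow]
    rw [hs'] at h2
    rcases ha' with e | e <;> rw [e] at h2
    · exact Or.inl h2
    · exact Or.inr h2
  have hgm : (g : ZMod q) ^ 2 ^ (m - 1) = -1 :=
    (sq_eq_one_iff.1 (by rw [← pow_mul, hhalf, hpow _ g.ne_zero])).resolve_left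
      (hgpow _ (by positivity) (Nat.pow_lt_pow_right one_lt_two (by omega)))
  have hZmk : ∀ x : T, Dia (x : W q ≃ₗ[ZMod q] W q) 1 1 ∨ Dia (x : W q ≃ₗ[ZMod q] W q) (-1) 1 → Z x := by
    rintro x (h | h)
    · exact ⟨1, fun y _ => Commute.one_left y, Subtype.ext (by rw [one_pow]; exact ext_dia h dia_one)⟩
    · refine ⟨G0, (hD G0).2 ⟨g, 1, g.ne_zero, Or.inl rfl, hgd⟩, Subtype.ext ?_⟩
      have h2 := dia_pow hgd (2 ^ (m - 1))
      rw [hgm, one_pow] at h2
      rw [Subgroup.coe_pow]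
      exact ext_dia h h2
  let K : ℕ → T → Prop := fun i x => D x ∧ x ^ 2 ^ i = 1
  have hKim : ∀ i x, K i x → K i (β x) := fun i x hx => ⟨hDim x hx.1, (hβ4 x _).2 hx.2⟩
  have hKinv : ∀ i x, K i (β x) → K i x := fun i x hx => ⟨hDinv x hx.1, (hβ4 x _).1 hx.2⟩
  have hZfix : ∀ x, Z x → β x = x := step hTp β r hrodd hβr (fun x => x = 1) Z
    (fun x ⟨y, hy, hxy⟩ => ⟨β y, hDim y hy, by rw [hxy, map_pow]⟩) (fun x h => by rw [← β.injective.eq_iff, h, map_one]) hbot
    (fun x y hx hy hx1 hy1 => by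
      have key : ∀ z : T, Z z → z ≠ 1 → Dia (z : W q ≃ₗ[ZMod q] W q) (-1) 1 := fun z hz hz1 =>
        (hZd z hz).resolve_left fun h => hz1 (Subtype.ext (ext_dia h dia_one))
      rw [show x = y from Subtype.ext (ext_dia (key x hx hx1) (key y hy hy1)), inv_mul_cancel])
  have hZinv : ∀ x, Z (β x) → Z x := fun x ⟨y, hy, hxy⟩ =>
    ⟨β.symm y, hDinv _ (by rwa [MulEquiv.apply_symm_apply]), by rw [← map_pow, ← hxy, MulEquiv.symm_apply_apply]⟩
  have hKd : ∀ i x, 1 ≤ i → K i x → ∃ a s, a ≠ 0 ∧ (s = 1 ∨ s = -1) ∧ Dia (x : W q ≃ₗ[ZMod q] W q) a s ∧ a ^ 2 ^ i = 1 := by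
    intro i x hi hx
    obtain ⟨a, s, ha, hs, h⟩ := (hD x).1 hx.1
    refine ⟨a, s, ha, hs, h, ?_⟩
    have h2 := dia_pow h (2 ^ i)
    have h1 := congrArg Subtype.val hx.2
    rw [Subgroup.coe_pow] at h1
    rw [h1] at h2
    exact (dia_inj one_ne_zero dia_one h2).1.symm
  have hKmk : ∀ i (x : T) (a s : ZMod q), 1 ≤ i → a ≠ 0 → (s = 1 ∨ s = -1) → Dia (x : W q ≃ₗ[ZMod q] W q) a s → a ^ 2 ^ i = 1 → K i x := by
    intro i x a s hi ha hs h hai
    refine ⟨(hD x).2 ⟨a, s, ha, hs, h⟩, Subtype.ext ?_⟩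
    have h2 := dia_pow h (2 ^ i)
    rw [hai, show s ^ 2 ^ i = 1 by
      rcases hs with rfl | rfl
      · simp
      · exact Even.neg_one_pow ((Nat.even_pow' (by omega)).2 even_two)] at h2
    rw [Subgroup.coe_pow]; exact ext_dia h2 dia_one
  have hK1 : ∀ x, K 1 x → β x = x := step hTp β r hrodd hβr Z (K 1) (hKim 1) hZinv hZfix (fun x y hx hy hnx hny => by
    have key : ∀ z : T, K 1 z → ¬ Z z → ∃ a, (a = 1 ∨ a = -1) ∧ Dia (z : W q ≃ₗ[ZMod q] W q) a (-1) := by
      intro z hz hnz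
      obtain ⟨a, s, ha, hs, h, ha2⟩ := hKd 1 z le_rfl hz
      have ha' : a = 1 ∨ a = -1 := sq_eq_one_iff.1 (by simpa using ha2)
      rcases hs with rfl | rfl
      · exact absurd (hZmk z (by rcases ha' with rfl | rfl <;> [exact Or.inl h; exact Or.inr h])) hnz
      · exact ⟨a, ha', h⟩
    obtain ⟨a, ha, h⟩ := key x hx hnx
    obtain ⟨b, hb, h'⟩ := key y hy hny
    have h2 := dia_mul (dia_inv (by rcases ha with rfl | rfl <;> simp) (Or.inr rfl) h) h'
    rw [show ((-1 : ZMod q) * -1) = 1 by simp, ← hcoe] at h2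
    refine hZmk _ ?_
    rcases ha with rfl | rfl <;> rcases hb with rfl | rfl <;> simp at h2 <;> first | exact Or.inl h2 | exact Or.inr h2)
  have hKall : ∀ i, 1 ≤ i → ∀ x, K i x → β x = x := by
    intro i hi
    induction i, hi using Nat.le_induction with
    | base => exact hK1
    | succ i hi ih =>
      refine step hTp β r hrodd hβr (K i) (K (i + 1)) (hKim _) (hKinv i) ih (fun x y hx hy hnx hny => ?_)
      have key : ∀ z : T, K (i + 1) z → ¬ K i z → ∃ a s, a ≠ 0 ∧ (s = 1 ∨ s = -1) ∧ Dia (z : W q ≃ₗ[ZMod q] W q) a s ∧ a ^ 2 ^ i = -1 := by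
        intro z hz hnz
        obtain ⟨a, s, ha, hs, h, ha2⟩ := hKd (i + 1) z (by omega) hz
        refine ⟨a, s, ha, hs, h, (sq_eq_one_iff.1 (by rw [← pow_mul, ← pow_succ, ha2])).resolve_left fun h1 => hnz ?_⟩
        exact hKmk i z a s hi ha hs h h1
      obtain ⟨a, s, ha, hs, h, hai⟩ := key x hx hnx
      obtain ⟨b, t, hb, ht, h', hbi⟩ := key y hy hny
      refine hKmk i _ (a⁻¹ * b) (s * t) hi (mul_ne_zero (inv_ne_zero ha) hb)
        (by rcases hs with rfl | rfl <;> rcases ht with rfl | rfl <;> simp) ?_ (by rw [mul_pow, inv_pow, hai, hbi]; simp)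
      rw [hcoe]
      exact dia_mul (dia_inv ha hs h) h'
  have hDfix : ∀ x, D x → β x = x := fun x hx => hKall m (by omega) x (by
    obtain ⟨a, s, ha, hs, h⟩ := (hD x).1 hx
    exact hKmk m x a s (by omega) ha hs h (hpow a ha))
  refine fun x => step hTp β r hrodd hβr D (fun _ => True) (fun _ _ => trivial) hDinv hDfix (fun x y _ _ hx hy => ?_) x trivial
  obtain ⟨a, s, ha, hs, h | h⟩ := hcases x
  · exact absurd ((hD x).2 ⟨a, s, ha, hs, h⟩) hx
  obtain ⟨b, t, hb, ht, h' | h'⟩ := hcases y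
  · exact absurd ((hD y).2 ⟨b, t, hb, ht, h'⟩) hy
  have hsa : s * a ≠ 0 := mul_ne_zero (by rcases hs with rfl | rfl <;> simp) ha
  refine (hD _).2 ⟨s * (s * a)⁻¹ * b, s * t, mul_ne_zero (mul_ne_zero (by rcases hs with rfl | rfl <;> simp) (inv_ne_zero hsa)) hb,
    by rcases hs with rfl | rfl <;> rcases ht with rfl | rfl <;> simp, ?_⟩
  rw [hcoe]
  exact swp_mul hb hsa hs (swp_inv ha hs h) h'


end Cfsg.Agent.S3382
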