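import Cfsg.Statements.S3383
import Cfsg.Agent.Lib.Struct.Frobenius

set_option autoImplicit false
open Cfsg
open Cfsg.Agent.Struct
namespace Cfsg.Agent.S3383

/-- Let H be a Frobenius complement in a finite group L and K the Frobenius kernel (as a subgroup). Then K is characteristic in L, and every normal subgroup of L either contains K or is contained in K. -/
theorem result {L : Type*} [Group L] [Finite L]
    (H : Subgroup L) (hH : Cfsg.IsFrobeniusComplement H)
    (K : Subgroup L) (hK : (K : Set L) = Cfsg.frobeniusKernel H) :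
    K.Characteristic ∧ ∀ N : Subgroup L, N.Normal → K ≤ N ∨ N ≤ K := by
  obtain ⟨N₀, hN₀, hn, hc⟩ := Frobenius.exists_kernel hH
  obtain rfl : N₀ = K := SetLike.coe_injective (hN₀.trans hK.symm)
  haveI := hn
  have hidx : H.index = Nat.card N₀ := by
    refine Nat.eq_of_mul_eq_mul_right (Nat.card_pos (α := H)) ?_
    rw [H.index_mul_card, hc.card_mul_card]
  have hmem : ∀ x : L, x ∈ N₀ ↔ orderOf x ∣ Nat.card N₀ := by
    intro x
    refine ⟨fun hx => N₀.orderOf_dvd_natCard hx, fun hx => ?_⟩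
    by_contra hxN
    rw [← SetLike.mem_coe, hN₀, Frobenius.notMem_kernel] at hxN
    obtain ⟨hx1, g, hg⟩ := hxN
    have h1 : orderOf (g⁻¹ * x * g) ∣ Nat.card H := H.orderOf_dvd_natCard hg
    have h2 : orderOf (g⁻¹ * x * g) = orderOf x := by
      have := orderOf_injective (MulAut.conj g⁻¹ : L ≃* L).toMonoidHom (MulAut.conj g⁻¹).injective x
      simpa using this
    rw [h2] at h1
    exact hx1 (orderOf_eq_one_iff.1 (Nat.eq_one_of_dvd_coprimes
      (Frobenius.coprime_card_index hH) h1 (hidx ▸ hx)))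
  refine ⟨Subgroup.characteristic_iff_le_comap.2 fun φ x hx => ?_, fun N hN => ?_⟩
  · rw [Subgroup.mem_comap, hmem]
    have : orderOf (φ x) = orderOf x := orderOf_injective φ.toMonoidHom φ.injective x
    show orderOf (φ x) ∣ _
    rw [this]
    exact (hmem x).1 hx
  · by_cases hle : N ≤ N₀
    · exact Or.inr hle
    refine Or.inl ?_
    obtain ⟨y, hy, hyN⟩ := SetLike.not_le_iff_exists.1 hle
    rw [← SetLike.mem_coe, hN₀, Frobenius.notMem_kernel] at hyN
    obtain ⟨hy1, g, hg⟩ := hyN
    set h := g⁻¹ * y * g with hh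
    have hhN : h ∈ N := by simpa [hh] using hN.conj_mem y hy g⁻¹
    have hh1 : h ≠ 1 := fun e => hy1 (by
      calc y = g * h * g⁻¹ := by rw [hh]; group
        _ = 1 := by rw [e]; group)
    let f : N₀ → N₀ := fun x => ⟨(x : L)⁻¹ * (h * x * h⁻¹), mul_mem (inv_mem x.2) (hn.conj_mem _ x.2 h)⟩
    have hf : Function.Surjective f := by
      refine Finite.surjective_of_injective fun a b e => ?_
      have e : (a : L)⁻¹ * (h * a * h⁻¹) = (b : L)⁻¹ * (h * b * h⁻¹) := congrArg Subtype.val e
      have h1 : (b : L) * (a : L)⁻¹ = 1 :=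
        Frobenius.fpf_of_complement hH hc.disjoint hg hh1 (mul_mem b.2 (inv_mem a.2)) (by
          calc (b : L) * (a : L)⁻¹ * h = (b : L) * ((a : L)⁻¹ * (h * a * h⁻¹)) * h * (a : L)⁻¹ := by group
            _ = (b : L) * ((b : L)⁻¹ * (h * b * h⁻¹)) * h * (a : L)⁻¹ := by rw [e]
            _ = h * ((b : L) * (a : L)⁻¹) := by group)
      exact Subtype.ext (mul_inv_eq_one.1 h1).symm
    intro k hk
    obtain ⟨x, hx⟩ := hf ⟨k, hk⟩
    have e : (x : L)⁻¹ * (h * x * h⁻¹) = k := congrArg Subtype.val hx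
    rw [← e, ← mul_assoc, ← mul_assoc]
    refine mul_mem ?_ (inv_mem hhN)
    simpa using hN.conj_mem h hhN (x : L)⁻¹

end Cfsg.Agent.S3383
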