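import Cfsg.Statements.S3389
import Mathlib

set_option autoImplicit false
open Cfsg
open Subgroup MulAction

namespace Cfsg.Agent.S3389

variable {G : Type*} [Group G] [Finite G] {Ω : Type*} [Fintype Ω] [MulAction G Ω] [MulAction.IsPretransitive G Ω]

theorem smul_pow_fixed {g : G} {ω : Ω} (h : g • ω = ω) (n : ℕ) : g ^ n • ω = ω := by
  induction n with
  | zero => rw [pow_zero, one_smul]
  | succ n ih => rw [pow_succ, mul_smul, h, ih]

theorem index_stab {p : ℕ} [Fact p.Prime] (α : Ω) (x : G) (hx : orderOf x = p) :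
    (stabilizer G α).index ≡ Nat.card (fixedBy Ω x) [MOD p] := by
  have hcardΩ : (stabilizer G α).index = Nat.card Ω := by
    rw [index_stabilizer, orbit_eq_univ, Set.ncard_univ]
  rw [hcardΩ]
  have hp : IsPGroup p (zpowers x) := IsPGroup.of_card (n := 1) (by rw [Nat.card_zpowers, hx, pow_one])
  refine (hp.card_modEq_card_fixedPoints Ω).trans ?_
  rw [show fixedPoints (zpowers x) Ω = fixedBy Ω x from ?_]
  ext ω
  refine ⟨fun h => h ⟨x, mem_zpowers x⟩, fun h => ?_⟩
  rintro ⟨y, hy⟩
  have hle : zpowers x ≤ stabilizer G ω := zpowers_le.2 h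
  exact hle hy


/-- Let G be a finite group acting faithfully and transitively on a finite set Ω with fixity k ≥ 1: every non-identity element fixes at most k points and some non-identity element fixes exactly k points. Then |Z(G)| divides k; if k = 2 then |G| is even; and for every prime p > k dividing |G| and every point α, either p does not divide |G_α| or G_α contains a Sylow p-subgroup of G. -/
theorem result {G : Type*} [Group G] [Finite G] {Ω : Type*} [Fintype Ω] [MulAction G Ω] [FaithfulSMul G Ω]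
    (htr : MulAction.IsPretransitive G Ω) (k : ℕ) (hk : 1 ≤ k)
    (hfix : ∀ g : G, g ≠ 1 → Nat.card (MulAction.fixedBy Ω g) ≤ k) (hex : ∃ g : G, g ≠ 1 ∧ Nat.card (MulAction.fixedBy Ω g) = k) :
    Nat.card (Subgroup.center G) ∣ k ∧ (k = 2 → 2 ∣ Nat.card G) ∧
      ∀ (p : ℕ), p.Prime → k < p → p ∣ Nat.card G → ∀ α : Ω,
        ¬ p ∣ Nat.card (MulAction.stabilizer G α) ∨ ¬ p ∣ (MulAction.stabilizer G α).index := by
  haveI := htr
  obtain ⟨g₀, hg₀1, hg₀⟩ := hex
  refine ⟨?_, ?_, ?_⟩
  · -- the centre acts semiregularly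
    have hsemi : ∀ z ∈ center G, ∀ ω : Ω, z • ω = ω → z = 1 := fun z hz ω h => by
      refine FaithfulSMul.eq_of_smul_eq_smul (α := Ω) fun ω' => ?_
      obtain ⟨g, rfl⟩ := exists_smul_eq G ω ω'
      rw [one_smul, ← mul_smul, ← mem_center_iff.1 hz g, mul_smul, h]
    let F := fixedBy Ω g₀
    letI : MulAction (center G) F :=
      { smul := fun z w => ⟨(z : G) • (w : Ω), by
          show g₀ • ((z : G) • (w : Ω)) = (z : G) • (w : Ω)
          rw [← mul_smul, mem_center_iff.1 z.2 g₀, mul_smul, w.2]⟩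
        one_smul := fun w => Subtype.ext (one_smul G (w : Ω))
        mul_smul := fun a b w => Subtype.ext (mul_smul (a : G) (b : G) (w : Ω)) }
    have hst : ∀ w : F, stabilizer (center G) w = ⊥ := fun w => by
      rw [eq_bot_iff]
      intro z hz
      exact mem_bot.2 (Subtype.ext (hsemi z z.2 w (congrArg Subtype.val hz)))
    haveI : Fintype (orbitRel.Quotient (center G) F) := Fintype.ofFinite _
    rw [← hg₀, Nat.card_congr (selfEquivSigmaOrbits' (center G) F), Nat.card_sigma]
    refine Finset.dvd_sum fun q _ => ?_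
    obtain ⟨w, rfl⟩ := Quotient.exists_rep q
    rw [show (orbitRel.Quotient.orbit (⟦w⟧ : orbitRel.Quotient (center G) F)) = orbit (center G) w from
      orbitRel.Quotient.orbit_mk w, Nat.card_coe_set_eq, ← index_stabilizer, hst, index_bot]
  · rintro rfl
    by_contra hodd
    obtain ⟨a, b, hab, hF⟩ := Nat.card_eq_two_iff.1 hg₀
    obtain ⟨α, hα⟩ := a
    obtain ⟨β, hβ⟩ := b
    have hαβ : α ≠ β := fun e => hab (Subtype.ext e)
    obtain ⟨p, hp, hpd⟩ := Nat.exists_prime_and_dvd (fun h1 => hg₀1 (orderOf_eq_one_iff.1 h1))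
    haveI := Fact.mk hp
    have hp2 : p ≠ 2 := fun e => hodd (e ▸ hpd.trans (orderOf_dvd_natCard g₀))
    obtain ⟨x, hxo, hxα, hxβ⟩ : ∃ x : G, orderOf x = p ∧ x • α = α ∧ x • β = β := by
      refine ⟨g₀ ^ (orderOf g₀ / p), ?_, smul_pow_fixed hα _, smul_pow_fixed hβ _⟩
      exact orderOf_pow_orderOf_div (orderOf_pos g₀).ne' hpd
    have hfix2 : ∀ u : G, u ≠ 1 → u • α = α → u • β = β → ∀ ω : Ω, u • ω = ω → ω = α ∨ ω = β := by
      intro u hu h1 h2 ω h3
      by_contra hne
      push Not at hne
      have h3' : ({α, β, ω} : Set Ω).ncard = 3 :=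
        Set.ncard_eq_three.2 ⟨α, β, ω, hαβ, hne.1.symm, hne.2.symm, rfl⟩
      have hsub : ({α, β, ω} : Set Ω) ⊆ fixedBy Ω u := by
        rintro v (rfl | rfl | rfl) <;> assumption
      have hle := Set.ncard_le_ncard hsub (Set.toFinite _)
      rw [h3', ← Nat.card_coe_set_eq] at hle
      have := hfix u hu
      omega
    have hx1 : x ≠ 1 := fun e => by rw [e, orderOf_one] at hxo; exact hp.ne_one hxo.symm
    have hmod := index_stab α x hxo
    have hcard2 : Nat.card (fixedBy Ω x) = 2 := by
      refine le_antisymm (hfix x hx1) ?_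
      have hsub : ({α, β} : Set Ω) ⊆ fixedBy Ω x := by
        rintro v (rfl | rfl) <;> assumption
      have hle := Set.ncard_le_ncard hsub (Set.toFinite _)
      rwa [Set.ncard_pair hαβ, ← Nat.card_coe_set_eq] at hle
    rw [hcard2] at hmod
    have hpn : ¬ p ∣ (stabilizer G α).index := fun hd => hp2 ((Nat.prime_dvd_prime_iff_eq hp Nat.prime_two).1
      (Nat.modEq_zero_iff_dvd.1 (hmod.symm.trans (Nat.modEq_zero_iff_dvd.2 hd))))
    have hxp : IsPGroup p (zpowers (⟨x, hxα⟩ : stabilizer G α)) :=
      IsPGroup.of_card (n := 1) (by rw [Nat.card_zpowers, ← Subgroup.orderOf_coe]; simpa using hxo)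
    obtain ⟨P, hP⟩ := hxp.exists_le_sylow
    set P' := (P : Subgroup (stabilizer G α)).map (stabilizer G α).subtype
    have hP'p : IsPGroup p P' := P.isPGroup'.map _
    have hP'i : ¬ p ∣ P'.index := by
      rw [index_map_subtype]
      exact hp.not_dvd_mul P.not_dvd_index hpn
    let S : Sylow p G := hP'p.toSylow hP'i
    have hxS : x ∈ P' := ⟨⟨x, hxα⟩, hP (mem_zpowers _), rfl⟩
    have hSα : ∀ s ∈ P', s • α = α := by
      rintro _ ⟨s, -, rfl⟩
      exact s.2
    haveI : Nontrivial P' := ⟨⟨⟨x, hxS⟩, 1, fun e => hx1 (congrArg Subtype.val e)⟩⟩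
    haveI := hP'p.center_nontrivial
    obtain ⟨⟨z, hz⟩, hz1⟩ := exists_ne (1 : center P')
    have hz1' : (z : G) ≠ 1 := fun e => hz1 (Subtype.ext (Subtype.ext e))
    have hzc : ∀ s ∈ P', s * z = z * s := fun s hs => congrArg Subtype.val (mem_center_iff.1 hz ⟨s, hs⟩)
    have hzβ : (z : G) • β = β := by
      have h1 : x • ((z : G) • β) = (z : G) • β := by rw [← mul_smul, hzc x hxS, mul_smul, hxβ]
      rcases hfix2 x hx1 hxα hxβ _ h1 with h | h
      · exact absurd (smul_left_cancel (z : G) (h.trans (hSα _ z.2).symm)) hαβ.symm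
      · exact h
    have hSβ : ∀ s ∈ P', s • β = β := fun s hs => by
      have h1 : (z : G) • (s • β) = s • β := by rw [← mul_smul, ← hzc s hs, mul_smul, hzβ]
      rcases hfix2 z hz1' (hSα _ z.2) hzβ _ h1 with h | h
      · exact absurd (smul_left_cancel s (h.trans (hSα s hs).symm)) hαβ.symm
      · exact h
    obtain ⟨g, hg⟩ := exists_smul_eq G α β
    -- conjugate inside the stabilizer of `β`
    have h1 : (S : Subgroup G) ≤ stabilizer G β := fun s hs => hSβ s hs
    have h2 : ((g • S : Sylow p G) : Subgroup G) ≤ stabilizer G β := by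
      intro s hs
      rw [Sylow.coe_subgroup_smul, mem_pointwise_smul_iff_inv_smul_mem] at hs
      have h0 : g⁻¹ * s * g ∈ (S : Subgroup G) := by simpa [mul_assoc] using hs
      have h : (g⁻¹ * s * g) • α = α := hSα _ h0
      show s • β = β
      rw [← hg, ← mul_smul]
      calc (s * g) • α = (g * (g⁻¹ * s * g)) • α := by group
        _ = g • α := by rw [mul_smul, h]
    obtain ⟨h, hh⟩ := MulAction.exists_smul_eq (stabilizer G β) ((g • S).subtype h2) (S.subtype h1)
    have hy : ((h : G) * g) ∈ normalizer (P' : Set G) := by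
      have he : ((h : G) * g) • S = S := by
        rw [mul_smul]
        exact Sylow.subtype_injective (P := (h : G) • g • S) (hP := by
          intro s hs
          rw [Sylow.coe_subgroup_smul, mem_pointwise_smul_iff_inv_smul_mem] at hs
          have := h2 hs
          have e : (h : G) * ((h : G)⁻¹ * s * h) * (h : G)⁻¹ = s := by group
          rw [← e]
          exact mul_mem (mul_mem h.2 (by simpa [mul_assoc] using this)) (inv_mem h.2))
          (hh ▸ (Sylow.smul_subtype h2 h).symm)
      exact Sylow.smul_eq_iff_mem_normalizer.1 he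
    set y := (h : G) * g
    have hyα : y • α = β := by rw [mul_smul, hg]; exact h.2
    have hyβ : y • β = α := by
      have hfx : x • (y • β) = y • β := by
        have := hSβ _ ((mem_normalizer_iff''.1 hy x).1 hxS)
        calc x • (y • β) = y • ((y⁻¹ * x * y) • β) := by rw [← mul_smul, ← mul_smul]; group
          _ = y • β := by rw [this]
      rcases hfix2 x hx1 hxα hxβ _ hfx with h' | h'
      · exact h'
      · exact absurd (smul_left_cancel y (h'.trans hyα.symm)) hαβ.symm
    obtain ⟨m, hm⟩ : Odd (orderOf y) := by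
      rw [← Nat.not_even_iff_odd, even_iff_two_dvd]
      exact fun hd => hodd (hd.trans (orderOf_dvd_natCard y))
    refine hαβ ?_
    have h3 : (y ^ 2) • α = α := by rw [pow_two, mul_smul, hyα, hyβ]
    calc α = y ^ orderOf y • α := by rw [pow_orderOf_eq_one, one_smul]
      _ = y • ((y ^ 2) ^ m • α) := by rw [hm, pow_succ', mul_smul, pow_mul]
      _ = β := by rw [smul_pow_fixed h3 m, hyα]
  · intro p hp hkp _ α
    haveI := Fact.mk hp
    by_contra hc
    push Not at hc
    obtain ⟨⟨x, hxα⟩, hxo⟩ := exists_prime_orderOf_dvd_card' (G := stabilizer G α) p hc.1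
    rw [Subgroup.orderOf_mk] at hxo
    have hx1 : x ≠ 1 := fun e => by rw [e, orderOf_one] at hxo; exact hp.ne_one hxo.symm
    have hmod := index_stab α x hxo
    have h0 : p ∣ Nat.card (fixedBy Ω x) :=
      Nat.modEq_zero_iff_dvd.1 (hmod.symm.trans (Nat.modEq_zero_iff_dvd.2 hc.2))
    haveI : Nonempty (fixedBy Ω x) := ⟨⟨α, hxα⟩⟩
    have := Nat.le_of_dvd Nat.card_pos h0
    have := hfix x hx1
    omega

end Cfsg.Agent.S3389
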