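import Cfsg.Statements.S3391
import Cfsg.Agent.Lib.Suzuki.FixityTwo

set_option autoImplicit false
open Cfsg

namespace Cfsg.Agent.S3391

/-- Let q = 2^{2m+1} ≥ 8 and let G be isomorphic to the Suzuki group Sz(q). If G acts faithfully and transitively on a finite set Ω with fixity 2 (every non-identity element fixes at most two points, and some fixes exactly two), then either |Ω| = q² + 1 and the action is 2-transitive, or |Ω| = q²(q² + 1) and the point stabilizers have order q − 1. -/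
theorem result {G : Type*} [Group G] [Finite G] (F : Type) [Field F] [Fintype F] (m : ℕ) (hm : 1 ≤ m) (hF : Fintype.card F = 2 ^ (2 * m + 1))
    (e : G ≃* ↥(Cfsg.Lie.Sz F (2 ^ (m + 1)))) {Ω : Type*} [Fintype Ω] [MulAction G Ω] [FaithfulSMul G Ω] (htr : MulAction.IsPretransitive G Ω)
    (hfix : ∀ g : G, g ≠ 1 → Nat.card (MulAction.fixedBy Ω g) ≤ 2) (hex : ∃ g : G, g ≠ 1 ∧ Nat.card (MulAction.fixedBy Ω g) = 2) :
    (Fintype.card Ω = Fintype.card F ^ 2 + 1 ∧ MulAction.IsMultiplyPretransitive G Ω 2) ∨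
    (Fintype.card Ω = Fintype.card F ^ 2 * (Fintype.card F ^ 2 + 1) ∧ ∀ α : Ω, Nat.card (MulAction.stabilizer G α) = Fintype.card F - 1) := by
  have hs := Cfsg.Agent.Suzuki.SzHyp.mk hm hF
  let e' : G ≃* ↥(Cfsg.Sz F m) :=
    e.trans ((MulEquiv.subgroupCongr hs.lie_eq).trans
      (Subgroup.equivMapOfInjective (Cfsg.Sz F m) _ Matrix.SpecialLinearGroup.toGL_injective).symm)
  letI : MulAction ↥(Cfsg.Sz F m) Ω := MulAction.compHom Ω e'.symm.toMonoidHom
  have hsmul : ∀ (x : ↥(Cfsg.Sz F m)) (p : Ω), x • p = e'.symm x • p := fun _ _ => rfl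
  haveI : MulAction.IsPretransitive ↥(Cfsg.Sz F m) Ω := ⟨fun p r => by
    obtain ⟨g, hg⟩ := htr.exists_smul_eq p r
    exact ⟨e' g, by rw [hsmul, e'.symm_apply_apply, hg]⟩⟩
  have hfb : ∀ x : ↥(Cfsg.Sz F m), MulAction.fixedBy Ω x = MulAction.fixedBy Ω (e'.symm x) := fun _ => rfl
  have hres := hs.fixity_two (Ω := Ω)
    (fun x hx => by rw [hfb]; exact hfix _ (fun h => hx (by simpa using congrArg e' h)))
    (by
      obtain ⟨g, hg, hg2⟩ := hex
      exact ⟨e' g, fun h => hg (by simpa using congrArg e'.symm h), by rw [hfb, e'.symm_apply_apply]; exact hg2⟩)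
  rw [hF, ← Nat.card_eq_fintype_card]
  rcases hres with ⟨h1, h2⟩ | ⟨h1, h2⟩
  · refine Or.inl ⟨h1, ?_⟩
    rw [MulAction.is_two_pretransitive_iff] at h2 ⊢
    intro a b c d hab hcd
    obtain ⟨x, hx1, hx2⟩ := h2 hab hcd
    exact ⟨e'.symm x, hx1, hx2⟩
  · refine Or.inr ⟨h1, fun α => ?_⟩
    rw [← h2 α]
    exact Nat.card_congr (e'.toEquiv.subtypeEquiv fun g => by
      show g • α = α ↔ e'.symm (e' g) • α = α
      rw [e'.symm_apply_apply])

end Cfsg.Agent.S3391
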