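import Cfsg.Statements.S3401
import Cfsg.Agent.Lib.Inv.CyclicSylow
import Mathlib.GroupTheory.GroupAction.MultipleTransitivity
import Mathlib.GroupTheory.GroupAction.Primitive
import Mathlib.GroupTheory.Sylow
import Mathlib.GroupTheory.Abelianization.Defs
import Mathlib.Tactic

set_option autoImplicit false
open Cfsg
open MulAction
open scoped Pointwise commutatorElement

namespace Cfsg.Agent.S3401

variable {G : Type*} [Group G] [Finite G] {Ω : Type*} [Fintype Ω] [MulAction G Ω] [FaithfulSMul G Ω]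

theorem pretrans_of_base {K : Type*} [Group K] {X : Type*} [MulAction K X] (a : X)
    (h : ∀ c, ∃ g : K, g • a = c) : IsPretransitive K X := ⟨fun x y => by
  obtain ⟨g, hg⟩ := h x
  obtain ⟨k, hk⟩ := h y
  exact ⟨k * g⁻¹, by rw [← hg, mul_smul, inv_smul_smul, hk]⟩⟩

theorem exists_third (a b : Ω) (h : 2 < Fintype.card Ω) : ∃ c, c ≠ a ∧ c ≠ b := by
  classical
  by_contra hc
  push_neg at hc
  have hle : (Finset.univ : Finset Ω) ⊆ {a, b} := fun c _ => by
    simp only [Finset.mem_insert, Finset.mem_singleton]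
    exact or_iff_not_imp_left.2 (hc c)
  have := Finset.card_le_card hle
  have h2 : ({a, b} : Finset Ω).card ≤ 2 := Finset.card_le_two
  simp at this
  omega

theorem normal_transitive (hpp : IsPreprimitive G Ω) (N : Subgroup G) [N.Normal] (h1 : N ≠ ⊥) :
    IsPretransitive N Ω := by
  refine IsQuasiPreprimitive.isPretransitive_of_normal fun hall => h1 ?_
  rw [eq_bot_iff]
  intro n hn
  refine Subgroup.mem_bot.2 (eq_of_smul_eq_smul (α := Ω) fun x => ?_)
  rw [one_smul]
  exact (Set.eq_univ_iff_forall.1 hall x) ⟨n, hn⟩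

theorem perfect_of_minimal (hn : Fintype.card Ω % 4 = 2) (hn2 : 2 < Fintype.card Ω) (M : Subgroup G)
    [hMn : M.Normal] (hM1 : M ≠ ⊥) (hmin : ∀ N : Subgroup G, N.Normal → N ≤ M → N ≠ ⊥ → M ≤ N)
    (hMtr : IsPretransitive M Ω) : commutator M = ⊤ := by
  classical
  by_contra hne
  have hab : ∀ x ∈ M, ∀ y ∈ M, x * y = y * x := by
    have hD : (commutator M).map M.subtype = ⊥ := by
      by_contra hD
      haveI : ((commutator M).map M.subtype).Normal := by
        rw [Subgroup.map_subtype_commutator]; infer_instance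
      have h := hmin _ this (Subgroup.map_subtype_le _) hD
      refine hne (eq_top_iff.2 fun x _ => ?_)
      obtain ⟨y, hy, hxy⟩ := h x.2
      rwa [Subtype.ext hxy] at hy
    intro x hx y hy
    have : ⁅x, y⁆ ∈ (commutator M).map M.subtype :=
      ⟨⁅⟨x, hx⟩, ⟨y, hy⟩⁆, Subgroup.commutator_mem_commutator (Subgroup.mem_top _) (Subgroup.mem_top _), rfl⟩
    rw [hD, Subgroup.mem_bot, commutatorElement_eq_one_iff_mul_comm] at this
    exact this
  -- elements of order dividing two
  let T : Subgroup G :=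
    { carrier := {x | x ∈ M ∧ x ^ 2 = 1}
      one_mem' := ⟨one_mem _, one_pow _⟩
      mul_mem' := fun {x y} hx hy => ⟨mul_mem hx.1 hy.1, by
        rw [(show Commute x y from hab x hx.1 y hy.1).mul_pow, hx.2, hy.2, one_mul]⟩
      inv_mem' := fun {x} hx => ⟨inv_mem hx.1, by rw [inv_pow, hx.2, inv_one]⟩ }
  have hTn : T.Normal := ⟨fun x hx g => ⟨hMn.conj_mem x hx.1 g, by rw [conj_pow, hx.2, mul_one, mul_inv_cancel]⟩⟩
  obtain ⟨a⟩ : Nonempty Ω := Fintype.card_pos_iff.1 (by omega)
  have hdvd : Fintype.card Ω ∣ Nat.card M := by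
    rw [← Nat.card_eq_fintype_card, ← index_stabilizer_of_transitive M a]
    exact Subgroup.index_dvd_card _
  have := Fact.mk Nat.prime_two
  obtain ⟨t, ht⟩ := exists_prime_orderOf_dvd_card' (G := M) 2 (dvd_trans (by omega) hdvd)
  have hT1 : T ≠ ⊥ := fun h => by
    have h1 : (t : G) ∈ T := ⟨t.2, by rw [← ht, ← Subgroup.orderOf_coe]; exact pow_orderOf_eq_one _⟩
    rw [h, Subgroup.mem_bot, OneMemClass.coe_eq_one] at h1
    rw [h1, orderOf_one] at ht
    omega
  obtain ⟨k, hk⟩ : ∃ k, Fintype.card Ω = 2 * k ∧ k % 2 = 1 := ⟨Fintype.card Ω / 2, by omega, by omega⟩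
  obtain ⟨p, hp, hpk⟩ := Nat.exists_prime_and_dvd (n := k) (by omega)
  have := Fact.mk hp
  obtain ⟨u, hu⟩ := exists_prime_orderOf_dvd_card' (G := M) p
    ((hpk.trans ⟨2, by rw [hk.1, mul_comm]⟩).trans hdvd)
  have h1 : (u : G) ^ 2 = 1 := ((hmin T hTn (fun x hx => hx.1) hT1) u.2).2
  have h2 : p ∣ 2 := by
    rw [← hu, ← Subgroup.orderOf_coe]
    exact orderOf_dvd_of_pow_eq_one h1
  have hp2 := (Nat.prime_dvd_prime_iff_eq hp Nat.prime_two).1 h2
  subst hp2
  omega

theorem exists_conj_of_card (K A B : Subgroup G) (hA : A ≤ K) (hB : B ≤ K)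
    (hAc : Nat.card A = 2 ^ (Nat.card K).factorization 2)
    (hBc : Nat.card B = 2 ^ (Nat.card K).factorization 2) :
    ∃ h ∈ K, A.map (MulAut.conj h).toMonoidHom = B := by
  have := Fact.mk Nat.prime_two
  let P : Sylow 2 K := Sylow.ofCard (A.subgroupOf K) (by
    rw [Nat.card_congr (Subgroup.subgroupOfEquivOfLe hA).toEquiv, hAc])
  let Q : Sylow 2 K := Sylow.ofCard (B.subgroupOf K) (by
    rw [Nat.card_congr (Subgroup.subgroupOfEquivOfLe hB).toEquiv, hBc])
  obtain ⟨h, hh⟩ := MulAction.exists_smul_eq K P Q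
  refine ⟨h.1, h.2, ?_⟩
  have h1 : (MulAut.conj h) • (A.subgroupOf K) = B.subgroupOf K := by
    have := congrArg (fun S : Sylow 2 K => (S : Subgroup K)) hh
    simpa [P, Q, Sylow.coe_subgroup_smul] using this
  have h2 := congrArg (Subgroup.map K.subtype) h1
  rw [Subgroup.map_subgroupOf_eq_of_le hB] at h2
  rw [← h2, show (MulAut.conj h • A.subgroupOf K : Subgroup K) =
    (A.subgroupOf K).map (MulAut.conj h).toMonoidHom from rfl, Subgroup.map_map]
  conv_lhs => rw [← Subgroup.map_subgroupOf_eq_of_le hA, Subgroup.map_map]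
  rfl

theorem two_transitive_of_normal (h2 : IsMultiplyPretransitive G Ω 2) (hn : Fintype.card Ω % 4 = 2)
    (hn2 : 2 < Fintype.card Ω) (M : Subgroup G) [hMn : M.Normal] (hM1 : M ≠ ⊥)
    (hperf : commutator M = ⊤) (hMtr : IsPretransitive M Ω) : IsMultiplyPretransitive M Ω 2 := by
  classical
  have := Fact.mk Nat.prime_two
  obtain ⟨a⟩ : Nonempty Ω := Fintype.card_pos_iff.1 (by omega)
  let Ma : Subgroup G := M ⊓ stabilizer G a
  let S₀ : Sylow 2 Ma := default
  let S : Subgroup G := (S₀ : Subgroup Ma).map Ma.subtype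
  have hSMa : S ≤ Ma := Subgroup.map_subtype_le _
  have hScard : Nat.card S = 2 ^ (Nat.card Ma).factorization 2 := by
    rw [Subgroup.card_map_of_injective Ma.subtype_injective]
    exact S₀.card_eq_multiplicity
  set s := (Nat.card Ma).factorization 2 with hs
  let F : Set Ω := {c | ∀ x ∈ S, x • c = c}
  have haF : a ∈ F := fun x hx => (hSMa hx).2
  have hmap : ∀ (g : G) (c : Ω), (∀ x ∈ S, x • (g • c) = g • c) →
      ∀ y ∈ S.map (MulAut.conj g⁻¹).toMonoidHom, y • c = c := by
    rintro g c h _ ⟨x, hx, rfl⟩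
    show (g⁻¹ * x * g⁻¹⁻¹) • c = c
    rw [inv_inv, mul_smul, mul_smul, h x hx, inv_smul_smul]
  have hcardconj : ∀ g : G, Nat.card (S.map (MulAut.conj g).toMonoidHom) = Nat.card S := fun g =>
    Subgroup.card_map_of_injective (MulEquiv.injective _)
  -- the normalizer is transitive on the fixed points
  have hnorm : ∀ g h : G, S.map (MulAut.conj h).toMonoidHom = S.map (MulAut.conj g⁻¹).toMonoidHom →
      g * h ∈ Subgroup.normalizer (S : Set G) := by
    intro g h he
    rw [Subgroup.mem_normalizer_iff]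
    have key : S.map (MulAut.conj (g * h)).toMonoidHom = S := by
      have h1 := congrArg (Subgroup.map (MulAut.conj g).toMonoidHom) he
      rw [Subgroup.map_map S, Subgroup.map_map S] at h1
      rw [show (MulAut.conj (g * h)).toMonoidHom =
        (MulAut.conj g).toMonoidHom.comp (MulAut.conj h).toMonoidHom by rw [map_mul]; rfl, h1]
      rw [show (MulAut.conj g).toMonoidHom.comp (MulAut.conj g⁻¹).toMonoidHom = MonoidHom.id G by
        ext x; simp [mul_assoc], Subgroup.map_id]
    intro x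
    constructor
    · intro hx
      rw [← key]
      exact ⟨x, hx, rfl⟩
    · intro hx
      rw [← key] at hx
      obtain ⟨y, hy, hye⟩ := hx
      have : y = x := (MulAut.conj (g * h)).injective hye
      exact this ▸ hy
  have htransF : ∀ c ∈ F, ∃ m ∈ M ⊓ Subgroup.normalizer (S : Set G), m • a = c := by
    intro c hc
    obtain ⟨m₀, hm₀⟩ := exists_smul_eq M a c
    have hm₀' : (m₀ : G) • a = c := hm₀
    have hle : S.map (MulAut.conj (m₀ : G)⁻¹).toMonoidHom ≤ Ma := by
      intro y hy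
      refine ⟨?_, hmap m₀ a (hm₀' ▸ hc) y hy⟩
      obtain ⟨x, hx, rfl⟩ := hy
      exact hMn.conj_mem x (hSMa hx).1 _
    obtain ⟨h, hh, he⟩ := exists_conj_of_card Ma S _ hSMa hle hScard (by rw [hcardconj, hScard])
    exact ⟨m₀ * h, ⟨mul_mem m₀.2 hh.1, hnorm m₀ h he⟩, by rw [mul_smul, hh.2, hm₀']⟩
  have htwoF : ∀ b ∈ F, b ≠ a → ∀ c ∈ F, c ≠ a →
      ∃ g ∈ Subgroup.normalizer (S : Set G), g • a = a ∧ g • b = c := by
    intro b hb hba c hc hca
    obtain ⟨g, hga, hgb⟩ := (is_two_pretransitive_iff.1 h2) (Ne.symm hba) (Ne.symm hca)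
    let Mab : Subgroup G := Ma ⊓ stabilizer G b
    have hSab : S ≤ Mab := le_inf hSMa fun x hx => hb x hx
    have hs2 : 2 ^ (Nat.card Mab).factorization 2 = 2 ^ s := by
      refine le_antisymm ?_ ?_
      · refine Nat.pow_le_pow_right (by norm_num) ?_
        exact (Nat.factorization_le_iff_dvd Nat.card_pos.ne' Nat.card_pos.ne').2
          (Subgroup.card_dvd_of_le inf_le_left) 2
      · refine Nat.le_of_dvd (by positivity) ?_
        have h1 := Subgroup.card_dvd_of_le hSab
        rw [hScard] at h1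
        exact Nat.pow_dvd_pow 2 ((Nat.Prime.pow_dvd_iff_le_factorization Nat.prime_two Nat.card_pos.ne').1 h1)
    have hle : S.map (MulAut.conj g⁻¹).toMonoidHom ≤ Mab := by
      intro y hy
      refine ⟨⟨?_, hmap g a (by rw [hga]; exact haF) y hy⟩, hmap g b (by rw [hgb]; exact hc) y hy⟩
      obtain ⟨x, hx, rfl⟩ := hy
      exact hMn.conj_mem x (hSMa hx).1 _
    obtain ⟨h, hh, he⟩ := exists_conj_of_card Mab S _ hSab hle (by rw [hScard, hs2])
      (by rw [hcardconj, hScard, hs2])
    exact ⟨g * h, hnorm g h he, by rw [mul_smul, hh.1.2, hga], by rw [mul_smul, hh.2, hgb]⟩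
  -- 2-parts
  have hMcard : Nat.card M = Fintype.card Ω * Nat.card Ma := by
    rw [← Subgroup.card_mul_index (stabilizer M a), index_stabilizer_of_transitive M a,
      Nat.card_eq_fintype_card (α := Ω), mul_comm]
    congr 1
    exact Nat.card_congr
      { toFun := fun x => ⟨x.1.1, x.1.2, x.2⟩
        invFun := fun x => ⟨⟨x.1, x.2.1⟩, x.2.2⟩
        left_inv := fun _ => rfl
        right_inv := fun _ => rfl }
  have hnfac : (Fintype.card Ω).factorization 2 = 1 := by
    obtain ⟨k, hk, hk2⟩ : ∃ k, Fintype.card Ω = 2 * k ∧ k % 2 = 1 := ⟨Fintype.card Ω / 2, by omega, by omega⟩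
    rw [hk, Nat.factorization_mul (by norm_num) (by omega), Finsupp.add_apply,
      Nat.prime_two.factorization_self, Nat.factorization_eq_zero_of_not_dvd (n := k) (by omega)]
  have hMfac : (Nat.card M).factorization 2 = s + 1 := by
    rw [hMcard, Nat.factorization_mul (by omega) Nat.card_pos.ne', Finsupp.add_apply, hnfac, add_comm]
  obtain ⟨T, hTS⟩ : ∃ T : Sylow 2 M, S.subgroupOf M ≤ T :=
    IsPGroup.exists_le_sylow (IsPGroup.of_equiv (S₀.isPGroup'.map Ma.subtype)
      (Subgroup.subgroupOfEquivOfLe (hSMa.trans inf_le_left)).symm)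
  let T' : Subgroup G := (T : Subgroup M).map M.subtype
  have hT'card : Nat.card T' = 2 ^ (s + 1) := by
    rw [Subgroup.card_map_of_injective M.subtype_injective, ← hMfac]
    exact T.card_eq_multiplicity
  have hST' : S ≤ T' := fun x hx => ⟨⟨x, (hSMa hx).1⟩, hTS hx, rfl⟩
  have hT'N : T' ≤ M ⊓ Subgroup.normalizer (S : Set G) := by
    refine le_inf (Subgroup.map_subtype_le _) ?_
    have hidx : (S.subgroupOf T').index = 2 := by
      have h1 := Subgroup.card_mul_index (S.subgroupOf T')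
      rw [Nat.card_congr (Subgroup.subgroupOfEquivOfLe hST').toEquiv, hScard, hT'card, pow_succ] at h1
      exact Nat.eq_of_mul_eq_mul_left (by positivity) h1
    exact (Subgroup.normal_subgroupOf_iff_le_normalizer hST').1 (Subgroup.normal_of_index_eq_two hidx)
  -- the action on the fixed points
  let N : Subgroup G := M ⊓ Subgroup.normalizer (S : Set G)
  have hstab : ∀ g ∈ Subgroup.normalizer (S : Set G), ∀ c ∈ F, g • c ∈ F := by
    intro g hg c hc x hx
    have h1 : g⁻¹ * x * g ∈ S := by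
      have := (Subgroup.mem_normalizer_iff.1 (inv_mem hg) x).1 hx
      rwa [inv_inv] at this
    have h2 := hc _ h1
    rw [mul_smul, mul_smul, inv_smul_eq_iff] at h2
    exact h2
  letI actF : MulAction N F :=
    { smul := fun x c => ⟨(x : G) • c.1, hstab x.1 x.2.2 c.1 c.2⟩
      one_smul := fun c => Subtype.ext (one_smul G c.1)
      mul_smul := fun x y c => Subtype.ext (mul_smul (x : G) y c.1) }
  let φ : N →* Equiv.Perm F := MulAction.toPermHom N F
  set X := φ.range with hX
  have hXtr : ∀ c : F, ∃ x : X, (x : Equiv.Perm F) ⟨a, haF⟩ = c := fun c => by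
    obtain ⟨m, hm, hmc⟩ := htransF c.1 c.2
    exact ⟨⟨φ ⟨m, hm⟩, ⟨⟨m, hm⟩, rfl⟩⟩, Subtype.ext hmc⟩
  have hFeven : Even (Nat.card F) := by
    have horb : Nat.card F = (stabilizer N (⟨a, haF⟩ : F)).index := by
      have : IsPretransitive N F := pretrans_of_base (⟨a, haF⟩ : F) fun c => by
        obtain ⟨m, hm, hmc⟩ := htransF c.1 c.2
        exact ⟨⟨m, hm⟩, Subtype.ext hmc⟩
      exact (index_stabilizer_of_transitive N _).symm
    rw [horb, even_iff_two_dvd]
    have h1 := Subgroup.card_mul_index (stabilizer N (⟨a, haF⟩ : F))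
    by_contra hodd
    have h3 : 2 ^ (s + 1) ∣ Nat.card N := hT'card ▸ Subgroup.card_dvd_of_le hT'N
    rw [← h1] at h3
    have h4 : 2 ^ (s + 1) ∣ Nat.card (stabilizer N (⟨a, haF⟩ : F)) :=
      (Nat.Coprime.pow_left _ ((Nat.prime_two.coprime_iff_not_dvd).2 hodd)).dvd_of_dvd_mul_right h3
    have h5 : Nat.card (stabilizer N (⟨a, haF⟩ : F)) ∣ Nat.card Ma := by
      refine Subgroup.card_dvd_of_injective
        ((N.subtype.comp (stabilizer N (⟨a, haF⟩ : F)).subtype).codRestrict Ma fun x =>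
          ⟨x.1.2.1, congrArg Subtype.val x.2⟩) fun x y h => ?_
      exact Subtype.ext (Subtype.ext (congrArg Subtype.val h :))
    have h6 := (Nat.Prime.pow_dvd_iff_le_factorization Nat.prime_two Nat.card_pos.ne').1 (h4.trans h5)
    omega
  have hX4 : ¬ 4 ∣ Nat.card X := by
    intro h4
    have h1 : Nat.card N = Nat.card φ.ker * Nat.card X := by
      rw [hX, ← Subgroup.index_ker, Subgroup.card_mul_index]
    have hSker : 2 ^ s ∣ Nat.card φ.ker := by
      rw [← hScard]
      refine Subgroup.card_dvd_of_injective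
        ((Subgroup.inclusion (show S ≤ N from hST'.trans hT'N)).codRestrict φ.ker fun x => ?_) ?_
      · exact Equiv.ext fun c => Subtype.ext (c.2 x.1 x.2)
      · intro x y h
        exact Subtype.ext (congrArg (fun t : φ.ker => (t.1 : G)) h)
    have h2 : 2 ^ s * 4 ∣ Nat.card N := h1 ▸ Nat.mul_dvd_mul hSker h4
    have h3 : 2 ^ s * 4 ∣ Nat.card M := h2.trans (Subgroup.card_dvd_of_le inf_le_left)
    rw [show 2 ^ s * 4 = 2 ^ (s + 2) by ring] at h3
    have := (Nat.Prime.pow_dvd_iff_le_factorization Nat.prime_two Nat.card_pos.ne').1 h3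
    omega
  have hXeven : Even (Nat.card X) := by
    have : IsPretransitive X F := pretrans_of_base (⟨a, haF⟩ : F) fun c => hXtr c
    rw [even_iff_two_dvd]
    refine (even_iff_two_dvd.1 hFeven).trans ?_
    rw [← index_stabilizer_of_transitive X (⟨a, haF⟩ : F)]
    exact Subgroup.index_dvd_card _
  obtain ⟨H, hH⟩ : ∃ H : Subgroup X, H.index = 2 := by
    refine Cfsg.Agent.Inv.exists_index_two_of_cyclic_sylow hXeven default ?_
    have hcard := (default : Sylow 2 X).card_eq_multiplicity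
    have h1 : (Nat.card X).factorization 2 = 1 := by
      have hle : 1 ≤ (Nat.card X).factorization 2 := by
        rw [← Nat.Prime.pow_dvd_iff_le_factorization Nat.prime_two Nat.card_pos.ne', pow_one]
        exact even_iff_two_dvd.1 hXeven
      have hlt : ¬ 2 ≤ (Nat.card X).factorization 2 := fun h =>
        hX4 ((Nat.Prime.pow_dvd_iff_le_factorization Nat.prime_two Nat.card_pos.ne').2 h)
      omega
    rw [h1, pow_one] at hcard
    exact isCyclic_of_prime_card hcard
  have hHodd : Odd (Nat.card H) := by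
    by_contra he
    rw [Nat.not_odd_iff_even, even_iff_two_dvd] at he
    apply hX4
    rw [← Subgroup.card_mul_index H, hH]
    exact Nat.mul_dvd_mul he (dvd_refl 2)
  have hmemH : ∀ x : X, Odd (orderOf x) → x ∈ H := fun x hx => by
    have hn' := Subgroup.normal_of_index_eq_two hH
    rw [← QuotientGroup.eq_one_iff, ← orderOf_eq_one_iff]
    have h1 : orderOf (x : X ⧸ H) ∣ 2 := by
      rw [← hH, Subgroup.index]
      exact orderOf_dvd_natCard _
    have h2 : orderOf (x : X ⧸ H) ∣ orderOf x := orderOf_map_dvd (QuotientGroup.mk' H) x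
    rcases (Nat.dvd_prime Nat.prime_two).1 h1 with h | h
    · exact h
    · rw [h] at h2
      exact absurd (even_iff_two_dvd.2 h2) (Nat.not_even_iff_odd.2 hx)
  have hHconj : ∀ g ∈ Subgroup.normalizer (S : Set G), ∀ h : X, h ∈ H →
      ∃ h' : X, h' ∈ H ∧ ∀ c (hc : g • c ∈ F) (hc' : c ∈ F),
        (((h' : Equiv.Perm F) ⟨g • c, hc⟩ : F) : Ω) = g • (((h : Equiv.Perm F) ⟨c, hc'⟩ : F) : Ω) := by
    intro g hg h hh
    let e : Equiv.Perm F :=
      { toFun := fun c => ⟨g • c.1, hstab g hg c.1 c.2⟩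
        invFun := fun c => ⟨g⁻¹ • c.1, hstab g⁻¹ (inv_mem hg) c.1 c.2⟩
        left_inv := fun c => Subtype.ext (inv_smul_smul g c.1)
        right_inv := fun c => Subtype.ext (smul_inv_smul g c.1) }
    obtain ⟨m, hm⟩ := h.2
    have hgm : g * m.1 * g⁻¹ ∈ N :=
      Subgroup.mem_inf.2 ⟨hMn.conj_mem _ m.2.1 g, mul_mem (mul_mem hg m.2.2) (inv_mem hg)⟩
    have heq : φ ⟨_, hgm⟩ = e * h.1 * e⁻¹ := by
      rw [← hm]
      refine Equiv.ext fun c => Subtype.ext ?_
      show (g * m.1 * g⁻¹) • c.1 = g • (m.1 • (g⁻¹ • c.1))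
      rw [mul_smul, mul_smul]
    refine ⟨⟨φ ⟨_, hgm⟩, ⟨_, rfl⟩⟩, hmemH _ ?_, fun c hc hc' => ?_⟩
    · rw [← Subgroup.orderOf_coe]
      show Odd (orderOf (φ ⟨_, hgm⟩))
      rw [heq, show e * h.1 * e⁻¹ = (MulAut.conj e) h.1 from rfl, MulEquiv.orderOf_eq,
        Subgroup.orderOf_coe]
      exact hHodd.of_dvd_nat (Subgroup.orderOf_dvd_natCard H hh)
    · show ((φ ⟨_, hgm⟩ ⟨g • c, hc⟩ : F) : Ω) = _
      rw [heq]
      show g • ((h.1 ⟨g⁻¹ • (g • c), _⟩ : F) : Ω) = _
      congr 2
      exact congrArg h.1 (Subtype.ext (inv_smul_smul g c))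
  have hfixa : ∀ h : X, h ∈ H → (h : Equiv.Perm F) ⟨a, haF⟩ = ⟨a, haF⟩ := by
    by_contra hcon
    push_neg at hcon
    obtain ⟨h, hh, hha⟩ := hcon
    have horb : ∀ c : F, ∃ k ∈ H, (k : Equiv.Perm F) ⟨a, haF⟩ = c := by
      intro c
      rcases eq_or_ne c ⟨a, haF⟩ with rfl | hca
      · exact ⟨1, one_mem _, rfl⟩
      obtain ⟨g, hg, hga, hgb⟩ := htwoF _ ((h : Equiv.Perm F) ⟨a, haF⟩).2
        (fun he => hha (Subtype.ext he)) c.1 c.2 (fun he => hca (Subtype.ext he))
      obtain ⟨k, hk, hkf⟩ := hHconj g hg h hh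
      refine ⟨k, hk, Subtype.ext ?_⟩
      have := hkf a (hga.symm ▸ haF) haF
      rw [hgb] at this
      rw [← this]
      congr 2
      exact Subtype.ext hga.symm
    have : IsPretransitive H F := pretrans_of_base (⟨a, haF⟩ : F) fun c => by
      obtain ⟨k, hk, hkc⟩ := horb c
      exact ⟨⟨k, hk⟩, hkc⟩
    have hdiv : Nat.card F ∣ Nat.card H := by
      rw [← index_stabilizer_of_transitive H (⟨a, haF⟩ : F)]
      exact Subgroup.index_dvd_card _
    exact Nat.not_even_iff_odd.2 (hHodd.of_dvd_nat hdiv) hFeven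
  have hH1 : H = ⊥ := by
    rw [eq_bot_iff]
    intro h hh
    refine Subgroup.mem_bot.2 (Subtype.ext (Equiv.ext fun c => Subtype.ext ?_))
    obtain ⟨m, hm, hmc⟩ := htransF c.1 c.2
    obtain ⟨h', hh', hf⟩ := hHconj m⁻¹ (inv_mem hm.2) h hh
    have hca : m⁻¹ • c.1 = a := by rw [← hmc, inv_smul_smul]
    have h1 := hf c.1 (hca.symm ▸ haF) c.2
    rw [show (⟨m⁻¹ • c.1, hca.symm ▸ haF⟩ : F) = ⟨a, haF⟩ from Subtype.ext hca, hfixa h' hh'] at h1
    show ((h : Equiv.Perm F) c : Ω) = c.1
    have h2 : m • a = ((h : Equiv.Perm F) c : Ω) := by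
      rw [eq_inv_smul_iff] at h1
      exact h1
    rw [← h2, hmc]
  have hF2 : Nat.card F = 2 := by
    have hX2 : Nat.card X = 2 := by
      rw [← Subgroup.card_mul_index H, hH1, Subgroup.card_bot, ← hH1, hH]
    have : IsPretransitive X F := pretrans_of_base (⟨a, haF⟩ : F) fun c => hXtr c
    have h1 : Nat.card F ∣ 2 := by
      rw [← hX2, ← index_stabilizer_of_transitive X (⟨a, haF⟩ : F)]
      exact Subgroup.index_dvd_card _
    rcases (Nat.dvd_prime Nat.prime_two).1 h1 with h | h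
    · rw [h] at hFeven; exact absurd hFeven (by decide)
    · exact h
  obtain ⟨b, hb, hFb⟩ : ∃ b ∈ F, b ≠ a ∧ ∀ c ∈ F, c ≠ a → c = b := by
    obtain ⟨u, v, huv, huvF⟩ := Nat.card_eq_two_iff.1 hF2
    have hall : ∀ c : F, c = u ∨ c = v := fun c => by
      have : c ∈ ({u, v} : Set F) := huvF ▸ Set.mem_univ c
      simpa using this
    rcases hall ⟨a, haF⟩ with h | h
    · refine ⟨v.1, v.2, fun he => huv ?_, fun c hc hca => ?_⟩
      · rw [← h]; exact Subtype.ext he.symm
      · rcases hall ⟨c, hc⟩ with h' | h'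
        · exact absurd (congrArg Subtype.val (h'.trans h.symm)) hca
        · exact congrArg Subtype.val h'
    · refine ⟨u.1, u.2, fun he => huv ?_, fun c hc hca => ?_⟩
      · rw [← h]; exact Subtype.ext he
      · rcases hall ⟨c, hc⟩ with h' | h'
        · exact congrArg Subtype.val h'
        · exact absurd (congrArg Subtype.val (h'.trans h.symm)) hca
  -- the suborbits
  have horbit : ∀ c, c ≠ a → ∃ m ∈ Ma, m • c = b := by
    intro c hc
    obtain ⟨g, hga, hgb⟩ := (is_two_pretransitive_iff.1 h2) (Ne.symm hFb.1) (Ne.symm hc)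
    have hodd : ¬ 2 ∣ (stabilizer Ma c).index := by
      intro hdiv
      have hidx : (stabilizer Ma c).index = (stabilizer Ma b).index := by
        rw [index_stabilizer, index_stabilizer]
        refine (Set.ncard_image_of_injective _ (MulAction.injective g)).symm.trans (congrArg Set.ncard ?_) |>.symm
        ext d
        constructor
        · rintro ⟨_, ⟨x, rfl⟩, rfl⟩
          refine ⟨⟨g * x.1 * g⁻¹, hMn.conj_mem _ x.2.1 g, ?_⟩, ?_⟩
          · show (g * x.1 * g⁻¹) • a = a
            have hg' : g⁻¹ • a = a := inv_smul_eq_iff.2 hga.symm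
            rw [mul_smul, mul_smul, hg', x.2.2, hga]
          · show (g * x.1 * g⁻¹) • c = g • (x.1 • b)
            rw [mul_smul, mul_smul, ← hgb, inv_smul_smul]
        · rintro ⟨x, rfl⟩
          refine ⟨g⁻¹ • (x.1 • c), ⟨⟨g⁻¹ * x.1 * g, ?_, ?_⟩, ?_⟩, smul_inv_smul g _⟩
          · simpa using hMn.conj_mem _ x.2.1 g⁻¹
          · show (g⁻¹ * x.1 * g) • a = a
            rw [mul_smul, mul_smul, hga, x.2.2]
            exact inv_smul_eq_iff.2 hga.symm
          · show (g⁻¹ * x.1 * g) • b = g⁻¹ • (x.1 • c)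
            rw [mul_smul, mul_smul, hgb]
      rw [hidx] at hdiv
      have h1 := Subgroup.card_mul_index (stabilizer Ma b)
      have h3 : Nat.card S ∣ Nat.card (stabilizer Ma b) := by
        refine Subgroup.card_dvd_of_injective
          ((Subgroup.inclusion hSMa).codRestrict (stabilizer Ma b) fun x => hb x.1 x.2) fun x y h => ?_
        exact Subtype.ext (congrArg (fun t : stabilizer Ma b => (t.1 : G)) h)
      have h4 : 2 ^ (s + 1) ∣ Nat.card Ma := by
        rw [← h1, pow_succ, ← hScard]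
        exact Nat.mul_dvd_mul h3 hdiv
      have := (Nat.Prime.pow_dvd_iff_le_factorization Nat.prime_two Nat.card_pos.ne').1 h4
      omega
    rw [index_stabilizer, ← Nat.card_coe_set_eq] at hodd
    letI act : MulAction S (orbit Ma c) :=
      { smul := fun x d => ⟨(x : G) • d.1, by
          obtain ⟨y, hy⟩ := d.2
          refine ⟨⟨x.1, hSMa x.2⟩ * y, ?_⟩
          show (x.1 * y.1) • c = x.1 • d.1
          rw [mul_smul]
          exact congrArg (x.1 • ·) hy⟩
        one_smul := fun d => Subtype.ext (one_smul G d.1)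
        mul_smul := fun x y d => Subtype.ext (mul_smul (x : G) y d.1) }
    obtain ⟨⟨d, y, hy⟩, hd⟩ := (S₀.isPGroup'.map Ma.subtype).nonempty_fixed_point_of_prime_not_dvd_card
      (α := orbit Ma c) hodd
    have hdF : d ∈ F := fun x hx => congrArg Subtype.val (hd ⟨x, hx⟩)
    have hda : d ≠ a := by
      intro h
      apply hc
      have h1 : (y : G) • c = (y : G) • a := by rw [show (y : G) • c = d from hy, h, y.2.2]
      exact smul_left_cancel _ h1
    exact ⟨y.1, y.2, (show (y : G) • c = d from hy).trans (hFb.2 d hdF hda)⟩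
  rw [is_two_pretransitive_iff]
  intro x y z w hxy hzw
  obtain ⟨m₁, hm₁⟩ := exists_smul_eq M x a
  obtain ⟨m₂, hm₂⟩ := exists_smul_eq M z a
  obtain ⟨u, hu, huy⟩ := horbit (m₁ • y) fun h => hxy (smul_left_cancel m₁ (hm₁.trans h.symm))
  obtain ⟨v, hv, hvw⟩ := horbit (m₂ • w) fun h => hzw (smul_left_cancel m₂ (hm₂.trans h.symm))
  refine ⟨m₂⁻¹ * ⟨v, hv.1⟩⁻¹ * ⟨u, hu.1⟩ * m₁, ?_, ?_⟩
  · rw [mul_smul, mul_smul, mul_smul, hm₁, show (⟨u, hu.1⟩ : M) • a = a from hu.2,
      show (⟨v, hv.1⟩ : M)⁻¹ • a = a from inv_smul_eq_iff.2 hv.2.symm, ← hm₂, inv_smul_smul]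
  · rw [mul_smul, mul_smul, mul_smul, show (⟨u, hu.1⟩ : M) • (m₁ • y) = b from huy,
      show (⟨v, hv.1⟩ : M)⁻¹ • b = m₂ • w from inv_smul_eq_iff.2 hvw.symm, inv_smul_smul]

theorem no_regular (hn : Fintype.card Ω % 4 = 2) (hn2 : 2 < Fintype.card Ω) (M : Subgroup G)
    (hM2 : IsMultiplyPretransitive M Ω 2) (N : Subgroup M) [hN : N.Normal]
    (hNtr : IsPretransitive N Ω) (hsr : ∀ (x : N) (c : Ω), x • c = c → x = 1) : False := by
  classical
  obtain ⟨a⟩ : Nonempty Ω := Fintype.card_pos_iff.1 (by omega)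
  have hbij : Function.Bijective (fun x : N => x • a) := by
    refine ⟨fun x y h => ?_, fun c => exists_smul_eq N a c⟩
    have : (y⁻¹ * x) • a = a := by
      have h' : x • a = y • a := h
      rw [mul_smul, h', inv_smul_smul]
    exact (inv_mul_eq_one.1 (hsr _ a this)).symm
  have hcard : Nat.card N = Fintype.card Ω := by
    rw [Nat.card_eq_of_bijective _ hbij, Nat.card_eq_fintype_card]
  have hconj : ∀ x y : N, x ≠ 1 → y ≠ 1 → orderOf x = orderOf y := by
    intro x y hx hy
    have hxa : a ≠ x • a := fun h => hx (hsr x a h.symm)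
    have hya : a ≠ y • a := fun h => hy (hsr y a h.symm)
    obtain ⟨m, hma, hmb⟩ := (is_two_pretransitive_iff.1 hM2) hxa hya
    have hmem : m * x.1 * m⁻¹ ∈ N := hN.conj_mem _ x.2 m
    have heq : (⟨_, hmem⟩ : N) = y := hbij.1 (by
      show (m * x.1 * m⁻¹) • a = y • a
      have hm' : m⁻¹ • a = a := inv_smul_eq_iff.2 hma.symm
      rw [mul_smul, mul_smul, hm']
      exact hmb)
    rw [← heq, ← Subgroup.orderOf_coe x]
    exact ((Subgroup.orderOf_mk _ _).trans (MulEquiv.orderOf_eq (MulAut.conj m) x.1)).symm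
  obtain ⟨k, hk, hk2⟩ : ∃ k, Fintype.card Ω = 2 * k ∧ k % 2 = 1 := ⟨Fintype.card Ω / 2, by omega, by omega⟩
  obtain ⟨p, hp, hpk⟩ := Nat.exists_prime_and_dvd (n := k) (by omega)
  have := Fact.mk hp
  have := Fact.mk Nat.prime_two
  obtain ⟨t, ht⟩ := exists_prime_orderOf_dvd_card' (G := N) 2 (by rw [hcard]; omega)
  obtain ⟨u, hu⟩ := exists_prime_orderOf_dvd_card' (G := N) p
    (by rw [hcard, hk]; exact Dvd.dvd.mul_left hpk 2)
  have ht1 : t ≠ 1 := fun h => by rw [h, orderOf_one] at ht; omega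
  have hu1 : u ≠ 1 := fun h => by rw [h, orderOf_one] at hu; exact hp.one_lt.ne hu
  have := hconj t u ht1 hu1
  rw [ht, hu] at this
  subst this
  omega

theorem simple_of_two_transitive (hn : Fintype.card Ω % 4 = 2) (hn2 : 2 < Fintype.card Ω)
    (M : Subgroup G) [hMn : M.Normal] (hM1 : M ≠ ⊥)
    (hmin : ∀ N : Subgroup G, N.Normal → N ≤ M → N ≠ ⊥ → M ≤ N)
    (hM2 : IsMultiplyPretransitive M Ω 2) : IsSimpleGroup M := by
  classical
  have hnt : Nontrivial M := (Subgroup.nontrivial_iff_ne_bot M).2 hM1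
  have hpp := isPreprimitive_of_is_two_pretransitive hM2
  have hfaith : FaithfulSMul M Ω := ⟨fun {x y} h => Subtype.ext (eq_of_smul_eq_smul (α := Ω) h)⟩
  have htr : ∀ K : Subgroup M, K.Normal → K ≠ ⊥ → IsPretransitive K Ω := fun K hK hK1 =>
    normal_transitive hpp K hK1
  refine ⟨fun H hH => ?_⟩
  by_contra hcon
  push_neg at hcon
  obtain ⟨N, ⟨⟨hNn, hN1⟩, hNH⟩, hNmin⟩ := Set.Finite.exists_minimal
    (Set.toFinite {N : Subgroup M | (N.Normal ∧ N ≠ ⊥) ∧ N ≤ H}) ⟨H, ⟨hH, hcon.1⟩, le_rfl⟩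
  haveI := hNn
  have hNne : N ≠ ⊤ := fun h => hcon.2 (top_le_iff.1 (h ▸ hNH))
  let conjM : G → Subgroup M := fun g => N.map (MulAut.conjNormal g : MulAut M).toMonoidHom
  have hnorm : ∀ g, (conjM g).Normal := fun g => hNn.map _ (MulEquiv.surjective _)
  by_cases hall : ∀ g, conjM g ≤ N
  · have hN' : (N.map M.subtype).Normal := ⟨fun x hx g => by
      obtain ⟨y, hy, rfl⟩ := hx
      exact ⟨MulAut.conjNormal g y, hall g ⟨y, hy, rfl⟩, MulAut.conjNormal_apply g y⟩⟩
    refine hNne (eq_top_iff.2 fun x _ => ?_)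
    obtain ⟨y, hy, hxy⟩ := hmin _ hN' (Subgroup.map_subtype_le _)
      (by rw [Ne, Subgroup.map_eq_bot_iff_of_injective _ M.subtype_injective]; exact hN1) x.2
    rwa [Subtype.ext hxy] at hy
  · push_neg at hall
    obtain ⟨g, hg⟩ := hall
    haveI := hnorm g
    have hne : conjM g ≠ ⊥ := by
      rw [Ne, Subgroup.map_eq_bot_iff_of_injective _ (MulEquiv.injective _)]; exact hN1
    have hdis : N ⊓ conjM g = ⊥ := by
      by_contra hd
      have h1 : N ≤ N ⊓ conjM g :=
        hNmin ⟨⟨inferInstance, hd⟩, inf_le_left.trans hNH⟩ inf_le_left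
      refine hg (le_of_eq (Subgroup.eq_of_le_of_card_ge (h1.trans inf_le_right) ?_).symm)
      rw [Subgroup.card_map_of_injective (MulEquiv.injective _)]
    have hKtr := htr _ (hnorm g) hne
    refine no_regular hn hn2 M hM2 N (htr N hNn hN1) fun x c hxc => ?_
    refine Subtype.ext (eq_of_smul_eq_smul (α := Ω) fun d => ?_)
    obtain ⟨k, hk⟩ := exists_smul_eq (conjM g) c d
    have hcomm := Subgroup.commute_of_normal_of_disjoint N (conjM g) hNn (hnorm g)
      (disjoint_iff.2 hdis) x.1 k.1 x.2 k.2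
    have hk' : k.1 • c = d := hk
    have hxc' : x.1 • c = c := hxc
    rw [OneMemClass.coe_one, one_smul, ← hk', smul_smul, hcomm.eq, ← smul_smul, hxc']


/-- Let G be a doubly transitive permutation group on a finite set Ω with |Ω| ≡ 2 mod 4 and |Ω| > 2. Then G has a unique minimal normal subgroup M (a nontrivial normal subgroup contained in every nontrivial normal subgroup); M is simple and doubly transitive on Ω, and its centralizer in G is trivial (so G embeds in Aut(M)). -/
theorem result {G : Type*} [Group G] [Finite G] {Ω : Type*} [Fintype Ω] [MulAction G Ω] [FaithfulSMul G Ω]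
    (h2 : MulAction.IsMultiplyPretransitive G Ω 2) (hn : Fintype.card Ω % 4 = 2) (hn2 : 2 < Fintype.card Ω) :
    ∃ M : Subgroup G, M.Normal ∧ M ≠ ⊥ ∧ (∀ N : Subgroup G, N.Normal → N ≠ ⊥ → M ≤ N) ∧
      IsSimpleGroup ↥M ∧ MulAction.IsMultiplyPretransitive ↥M Ω 2 ∧ Subgroup.centralizer (M : Set G) = ⊥ := by
  classical
  have hpp := isPreprimitive_of_is_two_pretransitive h2
  have htr : IsPretransitive G Ω := hpp.toIsPretransitive
  have hnt : Nontrivial G := by
    obtain ⟨a, b, hab⟩ := Fintype.exists_pair_of_one_lt_card (α := Ω) (by omega)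
    obtain ⟨g, hg⟩ := exists_smul_eq G a b
    exact ⟨g, 1, fun h => hab (by rw [← hg, h, one_smul])⟩
  -- a minimal normal subgroup
  obtain ⟨M, ⟨hMn, hM1⟩, hMmin⟩ := Set.Finite.exists_minimal (Set.toFinite {M : Subgroup G | M.Normal ∧ M ≠ ⊥})
    ⟨⊤, inferInstance, top_ne_bot⟩
  haveI := hMn
  have hmin : ∀ N : Subgroup G, N.Normal → N ≤ M → N ≠ ⊥ → M ≤ N := fun N hN hle h1 => hMmin ⟨hN, h1⟩ hle
  have htrans : ∀ N : Subgroup G, N.Normal → N ≠ ⊥ → IsPretransitive N Ω := fun N hN h1 =>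
    normal_transitive hpp N h1
  have hMtr := htrans M hMn hM1
  have hperf : commutator M = ⊤ := perfect_of_minimal hn hn2 M hM1 hmin hMtr
  -- double transitivity
  have hM2 : IsMultiplyPretransitive M Ω 2 := two_transitive_of_normal h2 hn hn2 M hM1 hperf hMtr
  have hMprim := isPreprimitive_of_is_two_pretransitive hM2
  have hC : Subgroup.centralizer (M : Set G) = ⊥ := by
    by_contra hC
    have hCn : (Subgroup.centralizer (M : Set G)).Normal := inferInstance
    have hCtr := htrans _ hCn hC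
    obtain ⟨a, b, hab⟩ := Fintype.exists_pair_of_one_lt_card (α := Ω) (by omega)
    obtain ⟨c, hca, hcb⟩ := exists_third a b (by omega)
    obtain ⟨m, hma, hmb⟩ := (is_two_pretransitive_iff.1 hM2) hab (Ne.symm hca)
    obtain ⟨z, hz⟩ := exists_smul_eq (Subgroup.centralizer (M : Set G)) a b
    refine hcb ?_
    have hcomm : (m : G) * z = z * m := Subgroup.mem_centralizer_iff.1 z.2 m m.2
    have hma' : (m : G) • a = a := hma
    have hmb' : (m : G) • b = c := hmb
    have hz' : (z : G) • a = b := hz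
    rw [← hmb', ← hz', smul_smul, hcomm, ← smul_smul, hma']
  refine ⟨M, hMn, hM1, fun N hN hN1 => ?_, ?_, hM2, hC⟩
  · rcases eq_or_ne (M ⊓ N) ⊥ with h | h
    · refine absurd ?_ hN1
      rw [eq_bot_iff, ← hC]
      intro x hx
      rw [Subgroup.mem_centralizer_iff]
      intro m hm
      exact Subgroup.commute_of_normal_of_disjoint M N hMn hN (disjoint_iff.2 h) m x hm hx
    · exact (hmin _ inferInstance inf_le_left h).trans inf_le_right
  · exact simple_of_two_transitive hn hn2 M hM1 hmin hM2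

end Cfsg.Agent.S3401
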