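import Cfsg.Statements.S3419
import Cfsg.Agent.Lib.Solv.Hall
import Cfsg.Agent.Lib.Perm.ThreePrimes
-- import your own Cfsg.Agent.* helpers here

set_option autoImplicit false
open Cfsg

namespace Cfsg.Agent.S3419
theorem exists_orderOf_mul {X : Type*} [Group X] [Finite X] [Group.IsSolvable X] {p q a b r : ℕ}
    (hp : p.Prime) (hq : q.Prime) (hpq : p ≠ q) (ha : 1 ≤ a) (hb : 1 ≤ b)
    (hX : Nat.card X = p ^ a * q ^ b * r) (hcop : (p ^ a * q ^ b).Coprime r)
    (h1 : ∀ d, d ∣ q ^ b → d % p = 1 → d = 1) (h2 : ∀ d, d ∣ p ^ a → d % q = 1 → d = 1) :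
    ∃ x : X, orderOf x = p * q := by
  classical
  haveI := Fact.mk hp
  haveI := Fact.mk hq
  obtain ⟨H, hH⟩ := Cfsg.Agent.Solv.hall_exists hX hcop
  have key : ∀ (s t : ℕ) (c d : ℕ) [Fact s.Prime], s ≠ t → t.Prime → Nat.card H = s ^ c * t ^ d →
      (∀ e, e ∣ t ^ d → e % s = 1 → e = 1) → ∀ P : Sylow s H, (P : Subgroup H).Normal := by
    intro s t c d _ hst ht hcard hone P
    have hs : s.Prime := Fact.out
    have hmod := card_sylow_modEq_one s H
    have hdvd : Nat.card (Sylow s H) ∣ s ^ c * t ^ d := by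
      rw [← hcard]
      exact (Sylow.card_dvd_index P).trans (Subgroup.index_dvd_card _)
    have hnd : ¬ s ∣ Nat.card (Sylow s H) := fun h => by
      have h' := Nat.ModEq.dvd_iff hmod (dvd_refl s)
      exact hs.not_dvd_one (h'.mp h)
    have hdt : Nat.card (Sylow s H) ∣ t ^ d :=
      ((Nat.Coprime.pow_left c ((hs.coprime_iff_not_dvd).mpr hnd)).symm).dvd_of_dvd_mul_left hdvd
    have hm : Nat.card (Sylow s H) % s = 1 := Eq.trans hmod (Nat.mod_eq_of_lt hs.one_lt)
    haveI : Subsingleton (Sylow s H) := (Nat.card_eq_one_iff_unique.mp (hone _ hdt hm)).1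
    exact Sylow.normal_of_subsingleton P
  obtain ⟨P⟩ := (inferInstance : Nonempty (Sylow p H))
  obtain ⟨Q⟩ := (inferInstance : Nonempty (Sylow q H))
  have hPn := key p q a b hpq hq hH h1 P
  have hQn := key q p b a hpq.symm hp (by rw [hH, mul_comm]) h2 Q
  have hdisj : Disjoint (P : Subgroup H) (Q : Subgroup H) :=
    IsPGroup.disjoint_of_ne p q hpq _ _ P.isPGroup' Q.isPGroup'
  obtain ⟨x, hx⟩ := exists_prime_orderOf_dvd_card' (G := (P : Subgroup H)) p
    (P.dvd_card_of_dvd_card (by rw [hH]; exact Dvd.dvd.mul_right (dvd_pow_self p (by omega)) _))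
  obtain ⟨y, hy⟩ := exists_prime_orderOf_dvd_card' (G := (Q : Subgroup H)) q
    (Q.dvd_card_of_dvd_card (by rw [hH]; exact Dvd.dvd.mul_left (dvd_pow_self q (by omega)) _))
  have hc : Commute (x : H) (y : H) := Subgroup.commute_of_normal_of_disjoint _ _ hPn hQn hdisj _ _ x.2 y.2
  refine ⟨(((x : H) * (y : H) : H) : X), ?_⟩
  rw [Subgroup.orderOf_coe, hc.orderOf_mul_eq_mul_orderOf_of_coprime] <;>
    simp only [Subgroup.orderOf_coe, hx, hy]
  exact (Nat.coprime_primes hp hq).mpr hpq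

theorem prime_dvd_multiset_lcm {p : ℕ} (hp : p.Prime) : ∀ s : Multiset ℕ, p ∣ s.lcm → ∃ a ∈ s, p ∣ a := by
  intro s
  induction s using Multiset.induction with
  | empty => intro h; simp at h; exact absurd h hp.one_lt.ne'
  | cons a s ih =>
    intro h
    rw [Multiset.lcm_cons] at h
    rcases hp.dvd_mul.mp (h.trans (Nat.lcm_dvd_mul a s.lcm)) with h | h
    · exact ⟨a, Multiset.mem_cons_self _ _, h⟩
    · obtain ⟨b, hb, hpb⟩ := ih h
      exact ⟨b, Multiset.mem_cons_of_mem hb, hpb⟩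

theorem no_orderOf_mul {n p q : ℕ} (hp : p.Prime) (hq : q.Prime) (hpq : p ≠ q) (hsum : n < p + q)
    (σ : Equiv.Perm (Fin n)) : orderOf σ ≠ p * q := by
  intro h
  have hl : σ.cycleType.lcm = p * q := by rw [Equiv.Perm.lcm_cycleType, h]
  obtain ⟨a, ha, hpa⟩ := prime_dvd_multiset_lcm hp σ.cycleType (hl ▸ dvd_mul_right p q)
  obtain ⟨b, hb, hqb⟩ := prime_dvd_multiset_lcm hq σ.cycleType (hl ▸ dvd_mul_left q p)
  have hn : σ.cycleType.sum ≤ n := by
    rw [Equiv.Perm.sum_cycleType]
    exact (Finset.card_le_univ _).trans_eq (Fintype.card_fin n)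
  have ha0 : 0 < a := lt_of_lt_of_le (by norm_num) (Equiv.Perm.two_le_of_mem_cycleType ha)
  have hb0 : 0 < b := lt_of_lt_of_le (by norm_num) (Equiv.Perm.two_le_of_mem_cycleType hb)
  have hpl := Nat.le_of_dvd ha0 hpa
  have hql := Nat.le_of_dvd hb0 hqb
  by_cases hab : a = b
  · subst hab
    have hpq' : p * q ∣ a := ((Nat.coprime_primes hp hq).mpr hpq).mul_dvd_of_dvd_of_dvd hpa hqb
    have := Nat.le_of_dvd ha0 hpq'
    have hle := Multiset.le_sum_of_mem ha
    nlinarith [hp.two_le, hq.two_le]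
  · obtain ⟨s, hs⟩ := Multiset.exists_cons_of_mem ha
    have hbs : b ∈ s := by
      rw [hs] at hb
      exact (Multiset.mem_cons.mp hb).resolve_left (fun e => hab e.symm)
    have := Multiset.le_sum_of_mem hbs
    rw [hs, Multiset.sum_cons] at hn
    omega

theorem two_primes {n : ℕ} (hn : 5 ≤ n) (h6 : n ≠ 6) (h10 : n ≠ 10) :
    ∃ p q : ℕ, p.Prime ∧ q.Prime ∧ p < q ∧ q ≤ n ∧ n < 2 * p := by
  by_cases h18 : 18 ≤ n
  · obtain ⟨a, b, c, ha, hb, hc, h1, h2, h3, h4⟩ :=
      Cfsg.Agent.Perm.exists_three_primes (n := n / 2) (by omega)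
    exact ⟨a, b, ha, hb, h2, by omega, by omega⟩
  · have hL : n = 5 ∨ n = 7 ∨ n = 8 ∨ n = 9 ∨ n = 11 ∨ n = 12 ∨ n = 13 ∨ n = 14 ∨ n = 15 ∨ n = 16 ∨ n = 17 := by omega
    rcases hL with rfl | rfl | rfl | rfl | rfl | rfl | rfl | rfl | rfl | rfl | rfl
    · exact ⟨3, 5, by norm_num, by norm_num, by norm_num, by norm_num, by norm_num⟩
    all_goals first
      | (refine ⟨5, 7, ?_, ?_, ?_, ?_, ?_⟩ <;> norm_num <;> done)
      | (refine ⟨7, 11, ?_, ?_, ?_, ?_, ?_⟩ <;> norm_num <;> done)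
      | (refine ⟨11, 13, ?_, ?_, ?_, ?_, ?_⟩ <;> norm_num <;> done)


/-- Let n ≥ 5 and let G be a finite group with the same order and the same set of element orders as the alternating group of degree n. Then G is not solvable. -/
theorem result {G : Type*} [Group G] [Finite G] (n : ℕ) (hn : 5 ≤ n)
    (hcard : Nat.card G = Nat.card ↥(alternatingGroup (Fin n)))
    (hspec : Set.range (orderOf : G → ℕ) = Set.range (orderOf : ↥(alternatingGroup (Fin n)) → ℕ)) :
    ¬ Group.IsSolvable G := by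
  skip
  classical
  intro hsolv
  haveI : Group.IsSolvable G := hsolv
  haveI : Nontrivial (Fin n) := Fin.nontrivial_iff_two_le.mpr (by omega)
  have hA : 2 * Nat.card G = n.factorial := by
    rw [hcard, two_mul_nat_card_alternatingGroup, Nat.card_eq_fintype_card, Fintype.card_perm, Fintype.card_fin]
  suffices h : ∃ p q : ℕ, p.Prime ∧ q.Prime ∧ p ≠ q ∧ n < p + q ∧ ∃ x : G, orderOf x = p * q by
    obtain ⟨p, q, hp, hq, hpq, hs, x, hx⟩ := h
    have : p * q ∈ Set.range (orderOf : ↥(alternatingGroup (Fin n)) → ℕ) := hspec ▸ ⟨x, hx⟩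
    obtain ⟨σ, hσ⟩ := this
    exact no_orderOf_mul hp hq hpq hs (σ : Equiv.Perm (Fin n)) ((Subgroup.orderOf_coe σ).trans hσ)
  by_cases h6 : n = 6
  · subst h6
    have hG : Nat.card G = 360 := by norm_num [Nat.factorial] at hA; omega
    refine ⟨3, 5, Nat.prime_three, by norm_num, by norm_num, by norm_num, ?_⟩
    refine exists_orderOf_mul (a := 2) (b := 1) (r := 8) Nat.prime_three (by norm_num) (by norm_num)
      (by norm_num) le_rfl (by norm_num [hG]) (by norm_num) ?_ ?_
    · intro d hd; have := Nat.le_of_dvd (by norm_num) hd; interval_cases d <;> simp_all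
    · intro d hd; have := Nat.le_of_dvd (by norm_num) hd; interval_cases d <;> simp_all
  by_cases h10 : n = 10
  · subst h10
    have hG : Nat.card G = 1814400 := by norm_num [Nat.factorial] at hA; omega
    refine ⟨5, 7, by norm_num, by norm_num, by norm_num, by norm_num, ?_⟩
    refine exists_orderOf_mul (a := 2) (b := 1) (r := 10368) (by norm_num) (by norm_num) (by norm_num)
      (by norm_num) le_rfl (by norm_num [hG]) (by norm_num) ?_ ?_
    · intro d hd; have := Nat.le_of_dvd (by norm_num) hd; interval_cases d <;> simp_all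
    · intro d hd; have := Nat.le_of_dvd (by norm_num) hd; interval_cases d <;> simp_all
  obtain ⟨p, q, hp, hq, hlt, hqn, hn2⟩ := two_primes hn h6 h10
  refine ⟨p, q, hp, hq, hlt.ne, by omega, ?_⟩
  have hp3 : 3 ≤ p := by omega
  have hfac : ∀ s : ℕ, s.Prime → s ≤ n → n < 2 * s → 3 ≤ s → (Nat.card G).factorization s = 1 := by
    intro s hs hsn hns hs3
    have hlog : Nat.log s n < 2 := Nat.log_lt_of_lt_pow (by omega) (by nlinarith)
    have h1 : (n.factorial).factorization s = 1 := by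
      rw [Nat.factorization_factorial hs hlog]
      simp only [Nat.Ico_succ_singleton, Finset.sum_singleton, pow_one]
      exact Nat.div_eq_of_lt_le (by omega) (by omega)
    rw [← hA, Nat.factorization_mul (by norm_num) (Nat.card_pos (α := G)).ne'] at h1
    simp only [Finsupp.add_apply, Nat.prime_two.factorization] at h1
    rw [Finsupp.single_eq_of_ne (by omega)] at h1
    omega
  have hpd : p ∣ Nat.card G := Nat.dvd_of_factorization_pos (by rw [hfac p hp (by omega) hn2 hp3]; omega)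
  have hqd : q ∣ Nat.card G := Nat.dvd_of_factorization_pos (by rw [hfac q hq hqn (by omega) (by omega)]; omega)
  obtain ⟨r, hr⟩ := ((Nat.coprime_primes hp hq).mpr hlt.ne).mul_dvd_of_dvd_of_dvd hpd hqd
  have hnd : ∀ s, s.Prime → s ≤ n → n < 2 * s → 3 ≤ s → ¬ s ^ 2 ∣ Nat.card G := by
    intro s hs a b c h
    have := (hs.pow_dvd_iff_le_factorization (Nat.card_pos (α := G)).ne').mp h
    rw [hfac s hs a b c] at this
    omega
  have hc : (p * q).Coprime r := by
    refine Nat.Coprime.mul_left ((hp.coprime_iff_not_dvd).mpr fun h => ?_) ((hq.coprime_iff_not_dvd).mpr fun h => ?_)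
    · obtain ⟨t, ht⟩ := h
      exact hnd p hp (by omega) hn2 hp3 ⟨q * t, by rw [hr, ht]; ring⟩
    · obtain ⟨t, ht⟩ := h
      exact hnd q hq hqn (by omega) (by omega) ⟨p * t, by rw [hr, ht]; ring⟩
  refine exists_orderOf_mul (a := 1) (b := 1) (r := r) hp hq hlt.ne le_rfl le_rfl
    (by rw [pow_one, pow_one, hr]) (by rw [pow_one, pow_one]; exact hc) ?_ ?_
  · intro d hd hdm
    rw [pow_one] at hd
    rcases (Nat.dvd_prime hq).mp hd with rfl | rfl
    · rfl
    · exfalso
      rw [Nat.mod_eq_sub_mod (by omega), Nat.mod_eq_of_lt (by omega)] at hdm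
      rcases hq.eq_two_or_odd with h | h <;> rcases hp.eq_two_or_odd with h' | h' <;> omega
  · intro d hd hdm
    rw [pow_one] at hd
    rcases (Nat.dvd_prime hp).mp hd with rfl | rfl
    · rfl
    · exfalso
      rw [Nat.mod_eq_of_lt hlt] at hdm
      omega

end Cfsg.Agent.S3419
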