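import Cfsg.Statements.S3420
import Cfsg.Agent.S3419
import Cfsg.Agent.S0721
-- import your own Cfsg.Agent.* helpers here

set_option autoImplicit false
open Cfsg

namespace Cfsg.Agent.S3420
theorem frattini_prime {G : Type*} [Group G] [Finite G] (H : Subgroup G) [H.Normal] {p q : ℕ}
    (hp : p.Prime) (hq : q.Prime) (hpH : p ∣ Nat.card H) (hqH : ¬ q ∣ Nat.card H) (hqG : q ∣ Nat.card G)
    (hp2 : ¬ p ^ 2 ∣ Nat.card G) (hne : ¬ q ∣ p - 1) : ∃ x : G, orderOf x = p * q := by
  classical
  have hpq : p ≠ q := fun e => hqH (e ▸ hpH)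
  haveI := Fact.mk hp
  haveI := Fact.mk hq
  obtain ⟨P⟩ := (inferInstance : Nonempty (Sylow p H))
  have htop := Sylow.normalizer_sup_eq_top P
  set P' : Subgroup G := (P : Subgroup H).map H.subtype with hP'
  have hcard : Nat.card P' = p := by
    rw [hP', Subgroup.card_subtype]
    obtain ⟨k, hk⟩ := IsPGroup.iff_card.mp P.isPGroup'
    have h1 : p ∣ Nat.card (P : Subgroup H) := P.dvd_card_of_dvd_card hpH
    have h2 : Nat.card (P : Subgroup H) ∣ Nat.card G :=
      (Subgroup.card_subgroup_dvd_card _).trans (Subgroup.card_subgroup_dvd_card H)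
    rw [hk] at h1 h2 ⊢
    rcases k with _ | _ | k
    · exact absurd h1 (by simpa using hp.one_lt.ne')
    · simp
    · exact absurd (dvd_trans (pow_dvd_pow p (by omega)) h2) hp2
  have hqN : q ∣ Nat.card (Subgroup.normalizer (P' : Set G)) := by
    have h1 : H.index ∣ Nat.card (Subgroup.normalizer (P' : Set G)) := by
      rw [← Subgroup.relIndex_top_right, ← htop, Subgroup.relIndex_sup_right]
      exact Subgroup.relIndex_dvd_card _ _
    rw [← H.card_mul_index] at hqG
    exact ((hq.dvd_mul.mp hqG).resolve_left hqH).trans h1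
  obtain ⟨y, hy⟩ := exists_prime_orderOf_dvd_card' q hqN
  obtain ⟨x, hx⟩ := exists_prime_orderOf_dvd_card' (G := P') p (dvd_of_eq hcard.symm)
  haveI : IsCyclic P' := isCyclic_of_prime_card hcard
  have hψ : P'.normalizerMonoidHom y = 1 := by
    have h1 : orderOf (P'.normalizerMonoidHom y) ∣ q := hy ▸ orderOf_map_dvd _ y
    have h2 : orderOf (P'.normalizerMonoidHom y) ∣ p - 1 := by
      have := orderOf_dvd_natCard (P'.normalizerMonoidHom y)
      rwa [IsCyclic.card_mulAut, hcard, Nat.totient_prime hp] at this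
    rcases (Nat.dvd_prime hq).mp h1 with h | h
    · exact orderOf_eq_one_iff.mp h
    · exact absurd (h ▸ h2) hne
  have hmem : y ∈ P'.normalizerMonoidHom.ker := hψ
  rw [Subgroup.normalizerMonoidHom_ker, Subgroup.mem_subgroupOf] at hmem
  have hc : Commute (x : G) (y : G) := Subgroup.mem_centralizer_iff.mp hmem _ x.2
  refine ⟨(x : G) * (y : G), ?_⟩
  rw [hc.orderOf_mul_eq_mul_orderOf_of_coprime] <;> simp only [Subgroup.orderOf_coe, hx, hy]
  exact (Nat.coprime_primes hp hq).mpr hpq


/-- Let n ≥ 11 and let G be a finite group with the same order and the same set of element orders as the alternating group of degree n. Then G has normal subgroups N < H such that H/N is a non-abelian simple group whose order is divisible by every prime p with n/2 < p ≤ n. -/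
theorem result {G : Type*} [Group G] [Finite G] (n : ℕ) (hn : 11 ≤ n)
    (hcard : Nat.card G = Nat.card ↥(alternatingGroup (Fin n)))
    (hspec : Set.range (orderOf : G → ℕ) = Set.range (orderOf : ↥(alternatingGroup (Fin n)) → ℕ)) :
    ∃ (N H : Subgroup G) (_ : N.Normal), H.Normal ∧ N < H ∧
      IsSimpleGroup (↥H ⧸ N.subgroupOf H) ∧ ¬ IsMulCommutative (↥H ⧸ N.subgroupOf H) ∧
      ∀ p : ℕ, p.Prime → n < 2 * p → p ≤ n → p ∣ Nat.card (↥H ⧸ N.subgroupOf H) := by
  skip
  classical
  haveI : Nontrivial (Fin n) := Fin.nontrivial_iff_two_le.mpr (by omega)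
  have hA : 2 * Nat.card G = n.factorial := by
    rw [hcard, two_mul_nat_card_alternatingGroup, Nat.card_eq_fintype_card, Fintype.card_perm, Fintype.card_fin]
  let Int' : ℕ → Prop := fun s => s.Prime ∧ n < 2 * s ∧ s ≤ n
  have hfac : ∀ s, Int' s → (Nat.card G).factorization s = 1 := by
    rintro s ⟨hs, hns, hsn⟩
    have hlog : Nat.log s n < 2 := Nat.log_lt_of_lt_pow (by omega) (by nlinarith)
    have h1 : (n.factorial).factorization s = 1 := by
      rw [Nat.factorization_factorial hs hlog]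
      simp only [Nat.Ico_succ_singleton, Finset.sum_singleton, pow_one]
      exact Nat.div_eq_of_lt_le (by omega) (by omega)
    rw [← hA, Nat.factorization_mul (by norm_num) (Nat.card_pos (α := G)).ne'] at h1
    simp only [Finsupp.add_apply, Nat.prime_two.factorization] at h1
    rw [Finsupp.single_eq_of_ne (by omega)] at h1
    omega
  have hdvd : ∀ s, Int' s → s ∣ Nat.card G := fun s hs =>
    Nat.dvd_of_factorization_pos (by rw [hfac s hs]; omega)
  have hsq : ∀ s, Int' s → ¬ s ^ 2 ∣ Nat.card G := by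
    intro s hs h
    have := (hs.1.pow_dvd_iff_le_factorization (Nat.card_pos (α := G)).ne').mp h
    rw [hfac s hs] at this
    omega
  have hfr : ∀ (H : Subgroup G), H.Normal → ∀ p q, Int' p → Int' q → p ∣ Nat.card H → q ∣ Nat.card H := by
    intro H hH p q hp hq hpH
    by_contra hqH
    have hne : p ≠ q := fun e => hqH (e ▸ hpH)
    obtain ⟨x, hx⟩ := frattini_prime H hp.1 hq.1 hpH hqH (hdvd q hq) (hsq p hp) (by
      intro h
      obtain ⟨k, hk⟩ := h
      rcases k with _ | _ | k
      · have := hp.1.two_le; omega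
      · rcases hp.1.eq_two_or_odd with h2 | h2 <;> rcases hq.1.eq_two_or_odd with h3 | h3 <;>
          · have := hp.2; have := hq.2; omega
      · have : q * (k + 1 + 1) ≥ q * 2 := Nat.mul_le_mul_left q (by omega)
        have := hp.2; have := hq.2
        omega)
    have : p * q ∈ Set.range (orderOf : ↥(alternatingGroup (Fin n)) → ℕ) := hspec ▸ ⟨x, hx⟩
    obtain ⟨σ, hσ⟩ := this
    exact Cfsg.Agent.S3419.no_orderOf_mul hp.1 hq.1 hne (by have := hp.2; have := hq.2; omega)
      (σ : Equiv.Perm (Fin n)) ((Subgroup.orderOf_coe σ).trans hσ)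
  obtain ⟨p, q, hp, hq, hlt⟩ : ∃ p q, Int' p ∧ Int' q ∧ p < q := by
    by_cases h10 : n = 10
    · omega
    obtain ⟨p, q, hp, hq, hlt, hqn, hn2⟩ := Cfsg.Agent.S3419.two_primes (n := n) (by omega) (by omega) h10
    exact ⟨p, q, ⟨hp, hn2, by omega⟩, ⟨hq, by omega, hqn⟩, hlt⟩
  let S : Set (Subgroup G) := {H | H.Normal ∧ ∃ s, Int' s ∧ s ∣ Nat.card H}
  have hS : S.Nonempty := ⟨⊤, inferInstance, p, hp, by rw [Subgroup.card_top]; exact hdvd p hp⟩
  obtain ⟨H, hHS, hHmin⟩ := Set.exists_min_image S (fun H : Subgroup G => Nat.card H) S.toFinite hS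
  obtain ⟨hHn, s, hs, hsH⟩ := hHS
  have hall : ∀ r, Int' r → r ∣ Nat.card H := fun r hr => hfr H hHn s r hs hr hsH
  let T : Set (Subgroup G) := {M | M.Normal ∧ M < H}
  have hT : T.Nonempty := ⟨⊥, inferInstance, bot_lt_iff_ne_bot.mpr fun h => by
    have := hall p hp; rw [h, Subgroup.card_bot] at this; exact hp.1.not_dvd_one this⟩
  obtain ⟨N, hNT, hNmax⟩ := Set.exists_max_image T (fun M : Subgroup G => Nat.card M) T.toFinite hT
  obtain ⟨hNn, hNH⟩ := hNT
  have hNno : ∀ r, Int' r → ¬ r ∣ Nat.card N := by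
    intro r hr h
    have h1 := hHmin N ⟨hNn, r, hr, h⟩
    exact hNH.ne (Subgroup.eq_of_le_of_card_ge hNH.le h1)
  refine ⟨N, H, hNn, hHn, hNH, ?_⟩
  haveI := hNn
  haveI := hHn
  let π := QuotientGroup.mk' N
  set Hb : Subgroup (G ⧸ N) := H.map π with hHb
  haveI : Hb.Normal := hHn.map _ (QuotientGroup.mk'_surjective N)
  have hquot : Nat.card (↥H ⧸ N.subgroupOf H) * Nat.card N = Nat.card H := by
    rw [← Nat.card_congr (Subgroup.subgroupOfEquivOfLe hNH.le).toEquiv]
    exact (Subgroup.card_eq_card_quotient_mul_card_subgroup _).symm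
  have hqdiv : ∀ r, Int' r → r ∣ Nat.card (↥H ⧸ N.subgroupOf H) := fun r hr =>
    ((hr.1.dvd_mul).mp (hquot ▸ hall r hr)).resolve_right (hNno r hr)
  have hker : (π.comp H.subtype).ker = N.subgroupOf H := by
    ext x; simp [π, MonoidHom.mem_ker, Subgroup.mem_subgroupOf]
  let e : ↥H ⧸ N.subgroupOf H ≃* Hb :=
    ((QuotientGroup.quotientMulEquivOfEq hker.symm).trans
      (QuotientGroup.quotientKerEquivRange (π.comp H.subtype))).trans
      (MulEquiv.subgroupCongr (by rw [MonoidHom.range_comp, Subgroup.range_subtype]))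
  have hNb : Hb ≠ ⊥ := by
    intro h
    apply hNH.ne
    apply le_antisymm hNH.le
    intro x hx
    have hx' : π x ∈ Hb := Subgroup.mem_map_of_mem π hx
    rw [h, Subgroup.mem_bot] at hx'
    exact (QuotientGroup.eq_one_iff x).mp hx'
  have hmin : ∀ M : Subgroup (G ⧸ N), M.Normal → M ≤ Hb → M = ⊥ ∨ M = Hb := by
    intro M hM hMH
    have hle : M.comap π ≤ H := by
      intro x hx
      obtain ⟨h, hh, hhx⟩ := Subgroup.mem_map.mp (hMH hx)
      have := QuotientGroup.eq.mp hhx
      have := H.mul_mem hh (hNH.le this)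
      simpa using this
    have hge : N ≤ M.comap π := fun x hx => by
      rw [Subgroup.mem_comap]
      have : π x = 1 := (QuotientGroup.eq_one_iff x).mpr hx
      rw [this]; exact M.one_mem
    rcases eq_or_lt_of_le hle with h | h
    · right
      rw [hHb, ← h, Subgroup.map_comap_eq_self_of_surjective (QuotientGroup.mk'_surjective N)]
    · left
      have h1 := hNmax (M.comap π) ⟨hM.comap π, h⟩
      have h2 := Subgroup.eq_of_le_of_card_ge hge h1
      rw [← Subgroup.map_comap_eq_self_of_surjective (QuotientGroup.mk'_surjective N) M, ← h2]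
      exact QuotientGroup.map_mk'_self N
  obtain ⟨T₀, _, m, hTs, hm, ⟨f⟩⟩ := Cfsg.Agent.S0721.result Hb hNb hmin
  haveI : Finite T₀ := by
    haveI : Finite (Fin m → T₀) := Finite.of_equiv _ f.toEquiv
    exact Finite.of_surjective (fun v : Fin m → T₀ => v ⟨0, hm⟩) fun t => ⟨fun _ => t, rfl⟩
  have hc : Nat.card (↥H ⧸ N.subgroupOf H) = Nat.card T₀ ^ m := by
    rw [Nat.card_congr (e.trans f).toEquiv, Nat.card_fun, Nat.card_fin]
  have hm1 : m = 1 := by
    by_contra hm1
    have h1 := hqdiv p hp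
    rw [hc] at h1
    have h2 : p ^ 2 ∣ Nat.card T₀ ^ m :=
      (pow_dvd_pow_of_dvd (hp.1.dvd_of_dvd_pow h1) 2).trans (pow_dvd_pow _ (by omega))
    rw [← hc] at h2
    exact hsq p hp ((h2.trans (Dvd.intro _ hquot)).trans (Subgroup.card_subgroup_dvd_card H))
  subst hm1
  haveI := hTs
  let g : ↥H ⧸ N.subgroupOf H ≃* T₀ := (e.trans f).trans (MulEquiv.piUnique fun _ => T₀)
  haveI hs' : IsSimpleGroup (↥H ⧸ N.subgroupOf H) := g.isSimpleGroup
  refine ⟨hs', fun hcomm => ?_, fun r hr h1 h2 => hqdiv r ⟨hr, h1, h2⟩⟩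
  letI : CommGroup (↥H ⧸ N.subgroupOf H) :=
    { (inferInstance : Group (↥H ⧸ N.subgroupOf H)) with mul_comm := fun a b => hcomm.is_comm.comm a b }
  have hpr : (Nat.card (↥H ⧸ N.subgroupOf H)).Prime := IsSimpleGroup.prime_card
  have e1 := (Nat.prime_dvd_prime_iff_eq hp.1 hpr).mp (hqdiv p hp)
  have e2 := (Nat.prime_dvd_prime_iff_eq hq.1 hpr).mp (hqdiv q hq)
  omega

end Cfsg.Agent.S3420
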