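import Cfsg.Statements.S3430
import Cfsg.Agent.S2904
import Mathlib

set_option autoImplicit false
open Cfsg

namespace Cfsg.Agent.S3430

open Polynomial
open Cfsg.Agent.S2904 (Φv)

/-- The failure of the conclusion. -/
def Small (q n : ℕ) : Prop :=
  ∀ p : ℕ, p.Prime → p ∣ q ^ n - 1 → (∀ i : ℕ, 1 ≤ i → i < n → ¬ p ∣ q ^ i - 1) →
    p ≤ n + 1 ∧ ¬ p ^ 2 ∣ q ^ n - 1

theorem primitive_ge {q n p : ℕ} (hq : 1 < q) (hn : 1 < n) (hp : p.Prime) (hdvd : p ∣ q ^ n - 1)
    (hprim : ∀ i : ℕ, 1 ≤ i → i < n → ¬ p ∣ q ^ i - 1) : n + 1 ≤ p := by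
  haveI := Fact.mk hp
  have key : ∀ i : ℕ, (q : ZMod p) ^ i = 1 ↔ p ∣ q ^ i - 1 := fun i => by
    rw [← ZMod.natCast_eq_zero_iff, Nat.cast_sub (Nat.one_le_pow _ _ (by omega)), Nat.cast_pow,
      Nat.cast_one, sub_eq_zero]
  have h1 : (q : ZMod p) ^ n = 1 := (key n).2 hdvd
  have h0 : (q : ZMod p) ≠ 0 := fun h => by
    rw [h, zero_pow (by omega)] at h1; exact zero_ne_one h1
  have hord : orderOf (q : ZMod p) = n := by
    rw [orderOf_eq_iff (by omega)]
    exact ⟨h1, fun i hi hi0 h => hprim i hi0 hi ((key i).1 h)⟩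
  have h2 := Nat.le_of_dvd (by have := hp.two_le; omega)
    (hord ▸ orderOf_dvd_of_pow_eq_one (ZMod.pow_card_sub_one_eq_one h0))
  have := hp.two_le
  omega

theorem prod_le_aux (S : Finset ℕ) : ∀ P, 1 ≤ P → (∀ x ∈ S, 2 ≤ x ∧ x ≤ P) →
    ∏ x ∈ S, x ≤ P * ∏ x ∈ S, (x - 1) := by
  induction S using Finset.induction_on_max with
  | empty => intro P hP _; simpa using hP
  | insert a s hmax ih =>
    intro P hP h
    have ha := h a (Finset.mem_insert_self a s)
    have hns : a ∉ s := fun hm => lt_irrefl a (hmax a hm)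
    rw [Finset.prod_insert hns, Finset.prod_insert hns]
    have h1 := ih (a - 1) (by omega) fun x hx =>
      ⟨(h x (Finset.mem_insert_of_mem hx)).1, by have := hmax x hx; omega⟩
    calc a * ∏ x ∈ s, x ≤ P * ((a - 1) * ∏ x ∈ s, (x - 1)) := Nat.mul_le_mul ha.2 h1
      _ = P * ((a - 1) * ∏ x ∈ s, (x - 1)) := rfl

/-- `m ≤ P φ(m)` when all primes of `m` are at most `P`. -/
theorem le_mul_totient {m P : ℕ} (hP : 1 ≤ P) (h : ∀ x, x.Prime → x ∣ m → x ≤ P) :
    m ≤ P * m.totient := by
  have h1 := prod_le_aux m.primeFactors P hP fun x hx =>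
    ⟨(Nat.prime_of_mem_primeFactors hx).two_le, h x (Nat.prime_of_mem_primeFactors hx) (Nat.dvd_of_mem_primeFactors hx)⟩
  have h2 := Nat.totient_mul_prod_primeFactors m
  have h3 : 0 < ∏ x ∈ m.primeFactors, (x - 1) :=
    Finset.prod_pos fun x hx => by have := (Nat.prime_of_mem_primeFactors hx).two_le; omega
  refine Nat.le_of_mul_le_mul_right ?_ h3
  calc m * ∏ x ∈ m.primeFactors, (x - 1) = m.totient * ∏ x ∈ m.primeFactors, x := h2.symm
    _ ≤ m.totient * (P * ∏ x ∈ m.primeFactors, (x - 1)) := Nat.mul_le_mul_left _ h1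
    _ = P * m.totient * ∏ x ∈ m.primeFactors, (x - 1) := by ring

theorem Φv_le (m q : ℕ) (hq : 1 < q) : Φv m (q : ℤ) ≤ (q + 1) ^ m.totient := by
  have h1 := cyclotomic_eval_le_add_one_pow_totient (q := (q : ℝ)) (by exact_mod_cast hq) m
  have h2 : (0 : ℤ) ≤ (cyclotomic m ℤ).eval (q : ℤ) := (cyclotomic_pos' m (by exact_mod_cast hq)).le
  have h3 : ((Φv m (q : ℤ) : ℕ) : ℤ) = (cyclotomic m ℤ).eval (q : ℤ) := Int.natAbs_of_nonneg h2
  have h4 : (((cyclotomic m ℤ).eval (q : ℤ) : ℤ) : ℝ) = (cyclotomic m ℝ).eval (q : ℝ) := by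
    have h5 := Polynomial.eval₂_at_apply (p := cyclotomic m ℤ) (Int.castRingHom ℝ) (q : ℤ)
    rw [← Polynomial.eval_map, map_cyclotomic_int] at h5
    simpa using h5.symm
  rw [← h4, ← h3] at h1
  exact_mod_cast h1

theorem pow_witness {q n : ℕ} (p : ℕ) (hp : p.Prime) (h1 : p ∣ q ^ n - 1)
    (h2 : ∀ i < n, 1 ≤ i → ¬ p ∣ q ^ i - 1) (h3 : n + 1 < p) (hs : Small q n) : False := by
  have := (hs p hp h1 fun i hi1 hi2 => h2 i hi2 hi1).1
  omega

/-- The key inequality. -/
theorem bound (q n : ℕ) (hq : 1 < q) (hn : 2 < n) (h6 : ¬ (q = 2 ∧ n = 6)) (hs : Small q n) :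
    (n + 1).Prime ∧ ∃ P m : ℕ, P.Prime ∧ n = P * m ∧ (∀ x, x.Prime → x ∣ n → x ≤ P) ∧
      (P = 2 → Φv n (q : ℤ) ≤ (n + 1) * 2) ∧
      (1 < m → (q ^ P - 1) ^ m.totient < (n + 1) * P * (q + 1) ^ m.totient) := by
  classical
  obtain ⟨r, hr, hrd, hrp⟩ := Cfsg.Agent.S2904.result q n hq (by omega) h6 (fun h => by omega)
  have hrp' : ∀ i : ℕ, 1 ≤ i → i < n → ¬ r ∣ q ^ i - 1 := fun i h1 h2 => hrp i h1 h2
  have hre : r = n + 1 := le_antisymm (hs r hr hrd hrp').1 (primitive_ge hq (by omega) hr hrd hrp')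
  subst hre
  obtain ⟨P, hPmem, hPmax⟩ := n.primeFactors.exists_max_image id (Nat.nonempty_primeFactors.2 (by omega))
  have hP := Nat.prime_of_mem_primeFactors hPmem
  obtain ⟨m, hm⟩ := Nat.dvd_of_mem_primeFactors hPmem
  have hmax : ∀ x, x.Prime → x ∣ n → x ≤ P := fun x hx hxn =>
    hPmax x (Nat.mem_primeFactors.2 ⟨hx, hxn, by omega⟩)
  set N := Φv n (q : ℤ) with hN
  have hdvdN : N ∣ q ^ n - 1 := by
    have h1 := eval_dvd (x := (q : ℤ)) (cyclotomic.dvd_X_pow_sub_one n ℤ)
    simp only [eval_sub, eval_pow, eval_X, eval_one] at h1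
    have h3 : ((q ^ n - 1 : ℕ) : ℤ) = (q : ℤ) ^ n - 1 := by
      rw [Nat.cast_sub (Nat.one_le_pow _ _ (by omega)), Nat.cast_pow, Nat.cast_one]
    rw [← h3] at h1
    exact Int.natAbs_dvd_natAbs.2 h1
  have hN0 : N ≠ 0 := by
    intro h0
    rw [h0] at hdvdN
    have h1 := Nat.eq_zero_of_zero_dvd hdvdN
    have h2 : q ≤ q ^ n := Nat.le_self_pow (by omega) q
    omega
  have hfac : ∀ x, x.Prime → x ∣ N → (x = n + 1 ∨ x = P) ∧ ¬ x ^ 2 ∣ N := by
    intro x hx hxN
    by_cases hprim : ∀ i : ℕ, 1 ≤ i → i < n → ¬ x ∣ q ^ i - 1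
    · obtain ⟨h1, h2⟩ := hs x hx (hxN.trans hdvdN) hprim
      exact ⟨Or.inl (le_antisymm h1 (primitive_ge hq (by omega) hx (hxN.trans hdvdN) hprim)),
        fun h => h2 (h.trans hdvdN)⟩
    · push Not at hprim
      obtain ⟨i, hi1, hi2, hi3⟩ := hprim
      obtain ⟨hxn, hxmax, hsq, -⟩ := Cfsg.Agent.S2904.nonprimitive q n x hq hn hx hxN ⟨i, hi1, hi2, hi3⟩
      exact ⟨Or.inr (le_antisymm (hmax x hx hxn) (hxmax P hP ⟨m, hm⟩)), hsq⟩
  have hsqf : Squarefree N := Nat.squarefree_iff_prime_squarefree.2 fun x hx hd =>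
    (hfac x hx ((dvd_mul_right x x).trans hd)).2 (by rw [pow_two]; exact hd)
  have hle : N ≤ (n + 1) * P := by
    rw [← Nat.prod_primeFactors_of_squarefree hsqf]
    have hsub : N.primeFactors ⊆ {n + 1, P} := fun x hx => by
      rw [Finset.mem_insert, Finset.mem_singleton]
      exact (hfac x (Nat.prime_of_mem_primeFactors hx) (Nat.dvd_of_mem_primeFactors hx)).1
    have hne : n + 1 ≠ P := by
      have := Nat.le_of_dvd (by omega) (⟨m, hm⟩ : P ∣ n)
      omega
    calc ∏ x ∈ N.primeFactors, x ≤ ∏ x ∈ ({n + 1, P} : Finset ℕ), x := by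
          refine Finset.prod_le_prod_of_subset_of_one_le' hsub fun x hx _ => ?_
          rw [Finset.mem_insert, Finset.mem_singleton] at hx
          rcases hx with rfl | rfl
          · omega
          · exact hP.one_le
      _ = (n + 1) * P := Finset.prod_pair hne
  refine ⟨hr, P, m, hP, hm, hmax, fun h => h ▸ hle, fun hm1 => ?_⟩
  have hxc : (((q ^ P : ℕ)) : ℤ) = (q : ℤ) ^ P := by push_cast; rfl
  have h1 := Cfsg.Agent.S2904.lower m (q ^ P) hm1 (Nat.one_lt_pow hP.ne_zero hq)
  rw [hxc] at h1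
  refine lt_of_lt_of_le h1 ?_
  by_cases hPm : P ∣ m
  · have e := congrArg (Polynomial.eval (q : ℤ)) (cyclotomic_expand_eq_cyclotomic hP hPm ℤ)
    rw [expand_eval, mul_comm, ← hm] at e
    have hN' : Φv m ((q : ℤ) ^ P) = N := congrArg Int.natAbs e
    rw [hN']
    exact hle.trans (Nat.le_mul_of_pos_right _ (pow_pos (by omega) _))
  · have e := congrArg (Polynomial.eval (q : ℤ)) (cyclotomic_expand_eq_cyclotomic_mul hP hPm ℤ)
    rw [expand_eval, eval_mul, mul_comm m P, ← hm] at e
    have hN' : Φv m ((q : ℤ) ^ P) = N * Φv m (q : ℤ) := (congrArg Int.natAbs e).trans (Int.natAbs_mul _ _)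
    rw [hN']
    exact Nat.mul_le_mul hle (Φv_le m q hq)

theorem num_three : ∀ φ, 8 ≤ φ → 3 * (9 * φ + 1) * 3 ^ φ ≤ 7 ^ φ := by
  intro φ hφ
  induction φ, hφ using Nat.le_induction with
  | base => norm_num
  | succ k hk ih =>
    rw [pow_succ, pow_succ]
    calc 3 * (9 * (k + 1) + 1) * (3 ^ k * 3) ≤ 3 * (9 * k + 1) * 3 ^ k * 7 := by nlinarith [pow_pos (show 0 < 3 by omega) k]
      _ ≤ 7 ^ k * 7 := Nat.mul_le_mul_right _ ih

theorem num_big : ∀ P, 5 ≤ P → 4 * P ^ 3 + P ≤ (2 ^ (P - 2)) ^ 4 := by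
  intro P hP
  induction P, hP using Nat.le_induction with
  | base => norm_num
  | succ k hk ih =>
    rw [show k + 1 - 2 = (k - 2) + 1 by omega, pow_succ 2 (k - 2), mul_pow]
    have h1 : 4 * (k + 1) ^ 3 + (k + 1) ≤ (4 * k ^ 3 + k) * 16 := by
      nlinarith [Nat.mul_le_mul hk hk, sq_nonneg (k : ℤ)]
    exact h1.trans (Nat.mul_le_mul_right _ ih)

theorem num_big' (P : ℕ) (hP : 5 ≤ P) : ∀ φ, 4 ≤ φ → P * (P ^ 2 * φ + 1) ≤ (2 ^ (P - 2)) ^ φ := by
  intro φ hφ
  induction φ, hφ using Nat.le_induction with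
  | base => exact le_trans (le_of_eq (by ring)) (num_big P hP)
  | succ k hk ih =>
    rw [pow_succ]
    have h2 : 2 ≤ 2 ^ (P - 2) := Nat.le_self_pow (by omega) 2
    calc P * (P ^ 2 * (k + 1) + 1) ≤ P * (P ^ 2 * k + 1) * 2 := by nlinarith [Nat.mul_le_mul_left (P ^ 3) hk]
      _ ≤ _ := Nat.mul_le_mul ih h2

theorem num_two : ∀ P, 7 ≤ P → P * (2 * P ^ 2 + 1) ≤ (2 ^ (P - 2)) ^ 2 := by
  intro P hP
  induction P, hP using Nat.le_induction with
  | base => norm_num
  | succ k hk ih =>
    rw [show k + 1 - 2 = (k - 2) + 1 by omega, pow_succ 2 (k - 2), mul_pow]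
    have h1 : (k + 1) * (2 * (k + 1) ^ 2 + 1) ≤ k * (2 * k ^ 2 + 1) * 4 := by
      nlinarith [Nat.mul_le_mul hk hk]
    exact h1.trans (Nat.mul_le_mul_right _ ih)

theorem num_m2 : ∀ P, 11 ≤ P → 4 * (2 * P + 1) * P + 2 ≤ 2 ^ P := by
  intro P hP
  induction P, hP using Nat.le_induction with
  | base => norm_num
  | succ k hk ih =>
    rw [pow_succ]
    refine le_trans ?_ (Nat.mul_le_mul_right 2 ih)
    nlinarith [Nat.mul_le_mul hk hk]

theorem num_a : ∀ j, 8 ≤ j → 2 * (2 * j + 1) < 2 ^ j + 1 := by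
  intro j hj
  induction j, hj using Nat.le_induction with
  | base => norm_num
  | succ k hk ih => rw [pow_succ]; omega

/-- Let q, n ≥ 2 be integers. Unless (n = 2 and q + 1 = 2^s·3^t for some s ≥ 0 and t ≤ 1), or (q = 2 and n ∈ {4, 6, 10, 12, 18}), or (q = 3 and n ∈ {4, 6}), or (q, n) = (5, 6), there is a prime p dividing q^n − 1 but no q^i − 1 with 1 ≤ i < n (a primitive prime divisor), such that p > n + 1 or p² divides q^n − 1. -/
theorem result (q n : ℕ) (hq : 2 ≤ q) (hn : 2 ≤ n)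
    (h1 : ¬ (n = 2 ∧ ∃ s t : ℕ, t ≤ 1 ∧ q + 1 = 2 ^ s * 3 ^ t))
    (h2 : ¬ (q = 2 ∧ (n = 4 ∨ n = 6 ∨ n = 10 ∨ n = 12 ∨ n = 18)))
    (h3 : ¬ (q = 3 ∧ (n = 4 ∨ n = 6))) (h4 : ¬ (q = 5 ∧ n = 6)) :
    ∃ p : ℕ, p.Prime ∧ p ∣ q ^ n - 1 ∧ (∀ i : ℕ, 1 ≤ i → i < n → ¬ p ∣ q ^ i - 1) ∧ (n + 1 < p ∨ p ^ 2 ∣ q ^ n - 1) := by
  classical
  by_contra hno
  have hs : Small q n := fun p hp hd hprim =>
    ⟨not_lt.1 fun h => hno ⟨p, hp, hd, hprim, Or.inl h⟩, fun h => hno ⟨p, hp, hd, hprim, Or.inr h⟩⟩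
  rcases eq_or_ne n 2 with rfl | hn2
  · -- degree two
    obtain ⟨s, c, hc, he⟩ := Nat.exists_eq_two_pow_mul_odd (n := q + 1) (by omega)
    have hsq : q ^ 2 - 1 = (q + 1) * (q - 1) := by rw [← Nat.sq_sub_sq, one_pow]
    have hfac : ∀ r, r.Prime → r ∣ c → r = 3 ∧ ¬ r ^ 2 ∣ c := by
      intro r hr hrc
      have hr2 : r ≠ 2 := fun h => by
        subst h
        exact Nat.not_even_iff_odd.2 hc (even_iff_two_dvd.2 hrc)
      have hcq : c ∣ q + 1 := Dvd.intro_left _ he.symm
      have hprim : ∀ i : ℕ, 1 ≤ i → i < 2 → ¬ r ∣ q ^ i - 1 := by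
        intro i hi1 hi2 h
        obtain rfl : i = 1 := by omega
        rw [pow_one] at h
        have := Nat.dvd_sub (hrc.trans hcq) h
        rw [show q + 1 - (q - 1) = 2 by omega] at this
        exact hr2 ((Nat.prime_dvd_prime_iff_eq hr Nat.prime_two).1 this)
      have hd : r ∣ q ^ 2 - 1 := by rw [hsq]; exact (hrc.trans hcq).mul_right _
      obtain ⟨h5, h6⟩ := hs r hr hd hprim
      refine ⟨?_, fun h => h6 (by rw [hsq]; exact (h.trans hcq).mul_right _)⟩
      have := hr.two_le
      omega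
    refine h1 ⟨rfl, s, ?_⟩
    by_cases hc1 : c = 1
    · exact ⟨0, by omega, by rw [he, hc1, pow_zero]⟩
    · obtain ⟨r, hr, hrc⟩ := Nat.exists_prime_and_dvd hc1
      obtain ⟨rfl, -⟩ := hfac r hr hrc
      obtain ⟨d, rfl⟩ := hrc
      refine ⟨1, le_rfl, ?_⟩
      by_cases hd1 : d = 1
      · rw [he, hd1, mul_one, pow_one]
      · exfalso
        obtain ⟨r', hr', hrd⟩ := Nat.exists_prime_and_dvd hd1
        obtain ⟨rfl, h9⟩ := hfac r' hr' (hrd.mul_left 3)
        exact h9 (by rw [pow_two]; exact mul_dvd_mul_left 3 hrd)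
  have hn3 : 2 < n := by omega
  obtain ⟨hr, P, m, hP, hm, hmax, hP2, hkey⟩ := bound q n (by omega) hn3 (fun h => h2 ⟨h.1, Or.inr (Or.inl h.2)⟩) hs
  have heven : 2 ∣ n := by
    rcases hr.eq_two_or_odd with h | h <;> omega
  rcases hP.eq_two_or_odd with rfl | hPodd
  · -- `n` a power of two
    have hN := hP2 rfl
    obtain ⟨a, rfl⟩ : ∃ a, n = 2 ^ a := ⟨_, Nat.eq_prime_pow_of_unique_prime_dvd (p := 2) (by omega)
      fun {d} hd hdn => le_antisymm (hmax d hd hdn) hd.two_le⟩
    obtain ⟨b, rfl⟩ : ∃ b, a = b + 1 := ⟨a - 1, by rcases a with _ | a <;> simp at hn3 ⊢⟩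
    have e : Φv (2 ^ (b + 1)) (q : ℤ) = q ^ (2 ^ b) + 1 := by
      rw [Cfsg.Agent.S2904.Φv, cyclotomic_prime_pow_eq_geom_sum Nat.prime_two]
      simp [Finset.sum_range_succ, eval_add, eval_pow, eval_X, add_comm]
      rfl
    rw [e] at hN
    rcases (show b = 0 ∨ b = 1 ∨ b = 2 ∨ 3 ≤ b by omega) with rfl | rfl | rfl | hb
    · omega
    · norm_num at hN
      have hq3 : q ≤ 3 := by nlinarith
      interval_cases q
      · exact h2 ⟨rfl, Or.inl rfl⟩
      · exact h3 ⟨rfl, Or.inl rfl⟩
    · norm_num at hr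
    · have h8 : 8 ≤ 2 ^ b := by
        calc 8 = 2 ^ 3 := by norm_num
          _ ≤ 2 ^ b := Nat.pow_le_pow_right two_pos hb
      have h9 := num_a _ h8
      have h10 : 2 ^ (2 ^ b) ≤ q ^ (2 ^ b) := Nat.pow_le_pow_left hq _
      rw [pow_succ] at hN
      omega
  · -- an odd prime divisor
    have hP3 : 3 ≤ P := by have := hP.two_le; omega
    have hm2 : 2 ∣ m := by
      rcases (Nat.prime_two.dvd_mul).1 (hm ▸ heven) with h | h
      · exfalso
        have := (Nat.prime_dvd_prime_iff_eq Nat.prime_two hP).1 h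
        omega
      · exact h
    have hm0 : 0 < m := by
      rcases Nat.eq_zero_or_pos m with h | h
      · rw [h, mul_zero] at hm; omega
      · exact h
    have hmP : m ≤ P * m.totient := le_mul_totient (by omega) fun x hx hxm =>
      hmax x hx (hm ▸ hxm.mul_left P)
    have hkey' := hkey (by obtain ⟨c, rfl⟩ := hm2; omega)
    set φ := m.totient with hφ
    rcases (show m = 2 ∨ 4 ≤ m by obtain ⟨c, rfl⟩ := hm2; omega) with rfl | hm4
    · -- `n = 2P`
      have hφ1 : φ = 1 := by rw [hφ, Nat.totient_two]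
      rw [hφ1, pow_one, pow_one] at hkey'
      rcases (show P = 3 ∨ P = 5 ∨ P = 7 ∨ P = 9 ∨ 11 ≤ P by omega) with rfl | rfl | rfl | rfl | hP11
      · norm_num at hm; subst hm
        have hq5 : q ≤ 5 := by
          by_contra hgt
          have h36 : 36 ≤ q * q := Nat.mul_le_mul (show 6 ≤ q by omega) (show 6 ≤ q by omega)
          have h0 : 1 ≤ q ^ 3 := Nat.one_le_pow _ _ (by omega)
          have h6' : q ^ 3 = q * q * q := by ring
          have h216 := Nat.mul_le_mul_right q h36
          omega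
        interval_cases q
        · exact h2 ⟨rfl, Or.inr (Or.inl rfl)⟩
        · exact h3 ⟨rfl, Or.inr rfl⟩
        · exact pow_witness 13 (by norm_num) (by norm_num) (by decide) (by norm_num) hs
        · exact h4 ⟨rfl, rfl⟩
      · norm_num at hm; subst hm
        have hq2 : q = 2 := by
          by_contra hne
          have h81 : 81 ≤ q ^ 4 := by
            calc 81 = 3 ^ 4 := by norm_num
              _ ≤ q ^ 4 := Nat.pow_le_pow_left (by omega) _
          have h5' : q ^ 5 = q ^ 4 * q := by ring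
          have := Nat.mul_le_mul_right q h81
          omega
        exact h2 ⟨hq2, Or.inr (Or.inr (Or.inl rfl))⟩
      · rw [hm] at hr; norm_num at hr
      · norm_num at hP
      · have h1' := num_m2 P hP11
        have h2' : 2 ^ (P - 1) * q ≤ q ^ P := by
          calc 2 ^ (P - 1) * q ≤ q ^ (P - 1) * q := Nat.mul_le_mul_right q (Nat.pow_le_pow_left hq _)
            _ = q ^ P := by rw [← pow_succ, Nat.sub_add_cancel (by omega)]
        have h3' : 2 ^ P = 2 ^ (P - 1) * 2 := by rw [← pow_succ, Nat.sub_add_cancel (by omega)]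
        rw [hm] at hkey'
        have h5' : 2 * ((P * 2 + 1) * P) + 1 ≤ 2 ^ (P - 1) := by
          have e : 2 * ((2 * P + 1) * P) * 2 = 4 * (2 * P + 1) * P := by ring
          rw [mul_comm P 2]
          omega
        have h6' := Nat.mul_le_mul_right q h5'
        have h4' : (P * 2 + 1) * P * (q + 1) + 1 ≤ 2 ^ (P - 1) * q := by nlinarith
        omega
    · have hφeven : 2 ≤ φ ∧ 2 ∣ φ := by
        obtain ⟨k, hk⟩ := Nat.totient_even (show 2 < m by omega)
        have := Nat.totient_pos.2 hm0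
        exact ⟨by omega, ⟨k, by omega⟩⟩
      rcases eq_or_ne P 3 with rfl | hP3'
      · -- `P = 3`
        have h7 : 7 * (q + 1) ≤ 3 * (q ^ 3 - 1) := by
          have h6' : q ^ 3 = q * q * q := by ring
          have := Nat.mul_le_mul_right q (Nat.mul_le_mul hq hq)
          omega
        rcases Nat.lt_or_ge φ 8 with hlt | hge
        · have hm21 : m ≤ 21 := by omega
          have hp5 : ¬ 5 ∣ m := fun h => by
            have := hmax 5 (by norm_num) (hm ▸ h.mul_left 3); omega
          have hp7 : ¬ 7 ∣ m := fun h => by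
            have := hmax 7 (by norm_num) (hm ▸ h.mul_left 3); omega
          rw [hm] at hr
          interval_cases m <;> (try omega) <;> (try (norm_num at hr; done))
          -- the surviving values of `n`
          all_goals norm_num at hm
          all_goals subst hm
          all_goals clear hno
          · -- `n = 12`
            have hφ2 : φ = 2 := by rw [hφ]; decide
            rw [hφ2] at hkey'
            rcases (show q = 2 ∨ 3 ≤ q by omega) with rfl | hq3
            · exact h2 ⟨rfl, Or.inr (Or.inr (Or.inr (Or.inl rfl)))⟩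
            · rcases (show q = 3 ∨ 4 ≤ q by omega) with rfl | hq4
              · norm_num at hkey'
              · have h6' : q ^ 3 = q * q * q := by ring
                have h16 := Nat.mul_le_mul_right q (Nat.mul_le_mul hq4 hq4)
                have h8 : 8 * (q + 1) ≤ q ^ 3 - 1 := by omega
                have h64 := Nat.pow_le_pow_left h8 2
                rw [mul_pow] at h64
                norm_num at hkey'
                omega
          · -- `n = 18`
            have hφ2 : φ = 2 := by rw [hφ]; decide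
            rw [hφ2] at hkey'
            rcases (show q = 2 ∨ q = 3 ∨ 4 ≤ q by omega) with rfl | rfl | hq4
            · exact h2 ⟨rfl, Or.inr (Or.inr (Or.inr (Or.inr rfl)))⟩
            · exact pow_witness 37 (by norm_num) (by norm_num) (by decide) (by norm_num) hs
            · have h6' : q ^ 3 = q * q * q := by ring
              have h16 := Nat.mul_le_mul_right q (Nat.mul_le_mul hq4 hq4)
              have h8 : 8 * (q + 1) ≤ q ^ 3 - 1 := by omega
              have h64 := Nat.pow_le_pow_left h8 2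
              rw [mul_pow] at h64
              norm_num at hkey'
              omega
          · -- `n = 36`
            have hφ4 : φ = 4 := by rw [hφ]; decide
            rw [hφ4] at hkey'
            rcases (show q = 2 ∨ 3 ≤ q by omega) with rfl | hq3
            · exact pow_witness 109 (by norm_num) (by norm_num) (by decide) (by norm_num) hs
            · have h6' : q ^ 3 = q * q * q := by ring
              have h16 := Nat.mul_le_mul_right q (Nat.mul_le_mul hq3 hq3)
              have h8 : 4 * (q + 1) ≤ q ^ 3 - 1 := by omega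
              have h64 := Nat.pow_le_pow_left h8 4
              rw [mul_pow] at h64
              norm_num at hkey'
              omega
        · have hb := num_three φ hge
          have hc := Nat.pow_le_pow_left h7 φ
          rw [mul_pow, mul_pow] at hc
          have hn1 : (n + 1) * 3 ≤ 3 * (9 * φ + 1) := by omega
          have := calc (n + 1) * 3 * (q + 1) ^ φ * 3 ^ φ
                ≤ 3 * (9 * φ + 1) * (q + 1) ^ φ * 3 ^ φ :=
                  Nat.mul_le_mul_right _ (Nat.mul_le_mul_right _ hn1)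
              _ = 3 * (9 * φ + 1) * 3 ^ φ * (q + 1) ^ φ := by ring
              _ ≤ 7 ^ φ * (q + 1) ^ φ := Nat.mul_le_mul_right _ hb
              _ ≤ 3 ^ φ * (q ^ 3 - 1) ^ φ := hc
              _ = (q ^ 3 - 1) ^ φ * 3 ^ φ := by ring
          have := Nat.le_of_mul_le_mul_right this (pow_pos (by omega) φ)
          omega
      · -- `P ≥ 5`
        have hP5 : 5 ≤ P := by omega
        have hB : 2 ^ (P - 2) * (q + 1) ≤ q ^ P - 1 := by
          have h2' : 2 ^ (P - 1) * q ≤ q ^ P := by
            calc 2 ^ (P - 1) * q ≤ q ^ (P - 1) * q := Nat.mul_le_mul_right q (Nat.pow_le_pow_left hq _)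
              _ = q ^ P := by rw [← pow_succ, Nat.sub_add_cancel (by omega)]
          have h3' : 2 ^ (P - 1) = 2 ^ (P - 2) * 2 := by
            rw [← pow_succ]; congr 1; omega
          have h4' : 8 ≤ 2 ^ (P - 2) := by
            calc 8 = 2 ^ 3 := by norm_num
              _ ≤ 2 ^ (P - 2) := Nat.pow_le_pow_right two_pos (by omega)
          rw [h3'] at h2'
          have h5' : 2 ^ (P - 2) * (q + 1) + 1 ≤ 2 ^ (P - 2) * 2 * q := by nlinarith
          omega
        have hC := Nat.pow_le_pow_left hB φ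
        rw [mul_pow] at hC
        have fin : (n + 1) * P ≤ (2 ^ (P - 2)) ^ φ → False := fun h => by
          have := (Nat.mul_le_mul_right ((q + 1) ^ φ) h).trans hC
          exact absurd hkey' (not_lt.2 this)
        have hn1 : n + 1 ≤ P ^ 2 * φ + 1 := by
          rw [hm]
          have := Nat.mul_le_mul_left P hmP
          rw [show P * (P * φ) = P ^ 2 * φ by ring] at this
          omega
        rcases Nat.lt_or_ge φ 4 with hlt | hge
        · have hφ2 : φ = 2 := by obtain ⟨h2φ, k, hk⟩ := hφeven; omega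
          rcases (show P = 5 ∨ P = 6 ∨ 7 ≤ P by omega) with rfl | rfl | hP7
          · have hm10 : m ≤ 10 := by rw [hφ2] at hmP; omega
            rw [hm] at hr
            interval_cases m <;> (try omega) <;> (try (norm_num at hr; done)) <;>
              (try (rw [hφ] at hφ2; revert hφ2; decide))
            all_goals norm_num at hm
            all_goals subst hm
            all_goals
              rw [hφ2] at hkey'
              rcases (show q = 2 ∨ 3 ≤ q by omega) with rfl | hq3
              · exact pow_witness 331 (by norm_num) (by norm_num) (by decide) (by norm_num) hs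
              · have h81 : 81 ≤ q ^ 4 := by
                  calc 81 = 3 ^ 4 := by norm_num
                    _ ≤ q ^ 4 := Nat.pow_le_pow_left (by omega) _
                have h5' : q ^ 5 = q ^ 4 * q := by ring
                have := Nat.mul_le_mul_right q h81
                have h8 : 50 * (q + 1) ≤ q ^ 5 - 1 := by omega
                have h64 := Nat.pow_le_pow_left h8 2
                rw [mul_pow] at h64
                norm_num at hkey'
                omega
          · norm_num at hP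
          · refine fin ?_
            rw [hφ2] at hn1 ⊢
            calc (n + 1) * P ≤ (P ^ 2 * 2 + 1) * P := Nat.mul_le_mul_right _ hn1
              _ = P * (2 * P ^ 2 + 1) := by ring
              _ ≤ _ := num_two P hP7
        · refine fin ?_
          calc (n + 1) * P ≤ (P ^ 2 * φ + 1) * P := Nat.mul_le_mul_right _ hn1
            _ = P * (P ^ 2 * φ + 1) := by ring
            _ ≤ _ := num_big' P hP5 φ hge

end Cfsg.Agent.S3430
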