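import Cfsg.Statements.S3437
import Cfsg.Agent.Lib.Solv.SolvableSpectrum

set_option autoImplicit false
open Cfsg

namespace Cfsg.Agent.S3437

open Cfsg.Agent.Solv

/-- the coefficient ring -/
abbrev K : Type := QuadraticAlgebra (ZMod 13) 2 0

instance finiteK : Finite K := Finite.of_equiv _ (QuadraticAlgebra.equivProd (2 : ZMod 13) 0).symm

instance nontrivialK : Nontrivial K := ⟨⟨0, 1, by decide⟩⟩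

/-- the elements of the Frobenius complement -/
def elts : List (K × K × K × K) := [
    (⟨1, 0⟩, ⟨0, 0⟩, ⟨0, 0⟩, ⟨1, 0⟩),
    (⟨0, 3⟩, ⟨0, 0⟩, ⟨0, 0⟩, ⟨0, 11⟩),
    (⟨2, 0⟩, ⟨3, 0⟩, ⟨2, 0⟩, ⟨10, 0⟩),
    (⟨5, 0⟩, ⟨0, 0⟩, ⟨0, 0⟩, ⟨8, 0⟩),
    (⟨0, 6⟩, ⟨0, 9⟩, ⟨0, 9⟩, ⟨0, 6⟩),
    (⟨0, 6⟩, ⟨0, 7⟩, ⟨0, 6⟩, ⟨0, 6⟩),
    (⟨10, 0⟩, ⟨10, 0⟩, ⟨11, 0⟩, ⟨2, 0⟩),
    (⟨0, 2⟩, ⟨0, 0⟩, ⟨0, 0⟩, ⟨0, 10⟩),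
    (⟨10, 0⟩, ⟨2, 0⟩, ⟨3, 0⟩, ⟨2, 0⟩),
    (⟨10, 0⟩, ⟨3, 0⟩, ⟨2, 0⟩, ⟨2, 0⟩),
    (⟨0, 4⟩, ⟨0, 4⟩, ⟨0, 4⟩, ⟨0, 9⟩),
    (⟨10, 0⟩, ⟨11, 0⟩, ⟨10, 0⟩, ⟨2, 0⟩),
    (⟨0, 0⟩, ⟨0, 10⟩, ⟨0, 11⟩, ⟨0, 0⟩),
    (⟨0, 4⟩, ⟨0, 6⟩, ⟨0, 7⟩, ⟨0, 9⟩),
    (⟨12, 0⟩, ⟨0, 0⟩, ⟨0, 0⟩, ⟨12, 0⟩),
    (⟨0, 4⟩, ⟨0, 9⟩, ⟨0, 9⟩, ⟨0, 9⟩),
    (⟨11, 0⟩, ⟨11, 0⟩, ⟨10, 0⟩, ⟨3, 0⟩),
    (⟨0, 4⟩, ⟨0, 7⟩, ⟨0, 6⟩, ⟨0, 9⟩),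
    (⟨0, 0⟩, ⟨8, 0⟩, ⟨8, 0⟩, ⟨0, 0⟩),
    (⟨11, 0⟩, ⟨10, 0⟩, ⟨11, 0⟩, ⟨3, 0⟩),
    (⟨3, 0⟩, ⟨10, 0⟩, ⟨11, 0⟩, ⟨11, 0⟩),
    (⟨0, 0⟩, ⟨12, 0⟩, ⟨1, 0⟩, ⟨0, 0⟩),
    (⟨0, 7⟩, ⟨0, 9⟩, ⟨0, 9⟩, ⟨0, 7⟩),
    (⟨11, 0⟩, ⟨2, 0⟩, ⟨3, 0⟩, ⟨3, 0⟩),
    (⟨0, 7⟩, ⟨0, 7⟩, ⟨0, 6⟩, ⟨0, 7⟩),
    (⟨0, 10⟩, ⟨0, 0⟩, ⟨0, 0⟩, ⟨0, 2⟩),
    (⟨11, 0⟩, ⟨3, 0⟩, ⟨2, 0⟩, ⟨3, 0⟩),
    (⟨0, 0⟩, ⟨0, 11⟩, ⟨0, 10⟩, ⟨0, 0⟩),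
    (⟨0, 7⟩, ⟨0, 4⟩, ⟨0, 4⟩, ⟨0, 7⟩),
    (⟨0, 9⟩, ⟨0, 4⟩, ⟨0, 4⟩, ⟨0, 4⟩),
    (⟨3, 0⟩, ⟨2, 0⟩, ⟨3, 0⟩, ⟨11, 0⟩),
    (⟨0, 7⟩, ⟨0, 6⟩, ⟨0, 7⟩, ⟨0, 7⟩),
    (⟨3, 0⟩, ⟨3, 0⟩, ⟨2, 0⟩, ⟨11, 0⟩),
    (⟨0, 9⟩, ⟨0, 6⟩, ⟨0, 7⟩, ⟨0, 4⟩),
    (⟨0, 0⟩, ⟨5, 0⟩, ⟨5, 0⟩, ⟨0, 0⟩),
    (⟨0, 0⟩, ⟨0, 2⟩, ⟨0, 3⟩, ⟨0, 0⟩),
    (⟨0, 0⟩, ⟨1, 0⟩, ⟨12, 0⟩, ⟨0, 0⟩),
    (⟨3, 0⟩, ⟨11, 0⟩, ⟨10, 0⟩, ⟨11, 0⟩),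
    (⟨8, 0⟩, ⟨0, 0⟩, ⟨0, 0⟩, ⟨5, 0⟩),
    (⟨2, 0⟩, ⟨11, 0⟩, ⟨10, 0⟩, ⟨10, 0⟩),
    (⟨0, 9⟩, ⟨0, 9⟩, ⟨0, 9⟩, ⟨0, 4⟩),
    (⟨2, 0⟩, ⟨10, 0⟩, ⟨11, 0⟩, ⟨10, 0⟩),
    (⟨0, 0⟩, ⟨0, 3⟩, ⟨0, 2⟩, ⟨0, 0⟩),
    (⟨0, 9⟩, ⟨0, 7⟩, ⟨0, 6⟩, ⟨0, 4⟩),
    (⟨2, 0⟩, ⟨2, 0⟩, ⟨3, 0⟩, ⟨10, 0⟩),
    (⟨0, 11⟩, ⟨0, 0⟩, ⟨0, 0⟩, ⟨0, 3⟩),
    (⟨0, 6⟩, ⟨0, 4⟩, ⟨0, 4⟩, ⟨0, 6⟩),
    (⟨0, 6⟩, ⟨0, 6⟩, ⟨0, 7⟩, ⟨0, 6⟩)]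

/-- generator of order eight -/
def ga : K × K × K × K := (⟨0, 3⟩, ⟨0, 0⟩, ⟨0, 0⟩, ⟨0, 11⟩)
/-- generator of order three -/
def gb : K × K × K × K := (⟨2, 0⟩, ⟨3, 0⟩, ⟨2, 0⟩, ⟨10, 0⟩)

theorem pow_sl {F : Type*} [Field F] (f : ZMod 3 →+* F) (hf : Function.Surjective f)
    (g : Matrix.SpecialLinearGroup (Fin 3) F) : ∃ a ∈ [13, 8, 6], g ^ a = 1 := by
  obtain ⟨t, ht⟩ := hf (g : Matrix (Fin 3) (Fin 3) F).trace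
  obtain ⟨s, hs⟩ := hf (g : Matrix (Fin 3) (Fin 3) F).adjugate.trace
  have : ∀ t s : ZMod 3, ∃ a ∈ [13, 8, 6], Spectrum.coeffs t s a = (0, 0, 1) := by decide +kernel
  obtain ⟨a, ha, h⟩ := this t s
  exact ⟨a, ha, Spectrum.sl_pow_eq_one g f t s ht.symm hs.symm a h⟩

theorem witnesses : ∀ a ∈ [13, 8, 6], ∃ g : Matrix.SpecialLinearGroup (Fin 3) (ZMod 3), orderOf g = a := by
  intro a ha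
  fin_cases ha
  · refine ⟨⟨!![0, 0, 1; 1, 0, 1; 0, 1, 0], by decide⟩, (orderOf_eq_iff (by norm_num)).mpr ?_⟩
    decide +kernel
  · refine ⟨⟨!![0, 0, 1; 1, 0, 2; 0, 1, 0], by decide⟩, (orderOf_eq_iff (by norm_num)).mpr ?_⟩
    decide +kernel
  · refine ⟨⟨!![0, 0, 1; 1, 0, 1; 0, 1, 2], by decide⟩, (orderOf_eq_iff (by norm_num)).mpr ?_⟩
    decide +kernel


/-- There is a finite solvable group with exactly the same set of element orders as the simple group PSL(3,3). -/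
theorem result {F : Type*} [Field F] [Fintype F] (hF : Fintype.card F = 3) :
    ∃ (H : Type) (_ : Group H) (_ : Fintype H), Group.IsSolvable H ∧
      Set.range (orderOf : H → ℕ) = Set.range (orderOf : Matrix.ProjectiveSpecialLinearGroup (Fin 3) F → ℕ) := by
  haveI : CharP F 3 := charP_of_card_eq_prime_pow (f := 1) (by rw [pow_one]; exact_mod_cast hF)
  let f := ZMod.castHom (dvd_refl 3) F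
  have hfi : Function.Injective f := f.injective
  have hfs : Function.Surjective f :=
    ((Fintype.bijective_iff_injective_and_card f).mpr ⟨hfi, by rw [ZMod.card, hF]⟩).2
  have hcen : Subgroup.center (Matrix.SpecialLinearGroup (Fin 3) F) = ⊥ := by
    have h := Spectrum.center_bot (F := F) (⊤ : Subgroup (Matrix.SpecialLinearGroup (Fin 3) F)) (by
      intro M hM
      refine ⟨⟨M, ?_⟩, Subgroup.mem_top _, rfl⟩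
      fin_cases hM <;> simp [Spectrum.D1, Spectrum.D2, Spectrum.P3, Matrix.det_fin_three])
    rw [Subgroup.eq_bot_iff_forall] at h ⊢
    intro z hz
    exact congrArg Subtype.val (h ⟨z, Subgroup.mem_top _⟩
      (Subgroup.mem_center_iff.mpr fun x => Subtype.ext (Subgroup.mem_center_iff.mp hz x.1)))
  have hord := Spectrum.orderOf_mk_of_center_bot hcen
  have hF' : Set.range (orderOf : Matrix.ProjectiveSpecialLinearGroup (Fin 3) F → ℕ) =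
      {n | ∃ a ∈ [13, 8, 6], n ∣ a} := by
    refine Spectrum.range_orderOf _ (by decide) (fun x => ?_) (fun a ha => ?_)
    · obtain ⟨g, rfl⟩ := QuotientGroup.mk_surjective x
      obtain ⟨a, ha, h⟩ := pow_sl f hfs g
      exact ⟨a, ha, by rw [← QuotientGroup.mk_pow, h, QuotientGroup.mk_one]⟩
    · obtain ⟨g, hg⟩ := witnesses a ha
      refine ⟨QuotientGroup.mk (Matrix.SpecialLinearGroup.map f g), ?_⟩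
      refine (hord _).trans ?_
      rw [orderOf_injective (Matrix.SpecialLinearGroup.map f) ?_, hg]
      intro x y h
      apply Matrix.SpecialLinearGroup.ext
      intro i j
      exact hfi (congrFun (congrFun (congrArg Subtype.val h) i) j)
  rw [hF']
  refine Spectrum.planar (K := K) 13 (by norm_num) (by decide) ⟨⟨7, 0⟩, by decide⟩ ⟨⟨9, 0⟩, by decide⟩
    ga gb 8 3 (by norm_num) (by norm_num) (by decide +kernel) (by decide +kernel) elts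
    (by decide +kernel) (by decide +kernel) (by decide +kernel) (by decide +kernel) [8, 6] (by decide)
    ?_ (by decide +kernel) ?_
  · intro c hc
    fin_cases hc
    exacts [⟨3, 0, rfl⟩, ⟨1, 1, rfl⟩]
  · intro c hc
    fin_cases hc
    · exact ⟨_, Subgroup.subset_closure (Set.mem_insert _ _),
        Spectrum.orderOf_quad _ ga rfl 8 (by norm_num) (by decide +kernel) (by decide +kernel)⟩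
    · exact ⟨Spectrum.unitOf ga 8 (by decide +kernel) (by norm_num) ^ 4 *
          Spectrum.unitOf gb 3 (by decide +kernel) (by norm_num),
        Subgroup.mul_mem _ (Subgroup.pow_mem _ (Subgroup.subset_closure (Set.mem_insert _ _)) 4)
          (Subgroup.subset_closure (Set.mem_insert_of_mem _ rfl)),
        Spectrum.orderOf_quad _ (Spectrum.qmul (Spectrum.qpow ga 4) gb)
          (by rw [Units.val_mul, Units.val_pow_eq_pow_val, Spectrum.toM_mul, Spectrum.toM_pow]; rfl)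
          6 (by norm_num) (by decide +kernel) (by decide +kernel)⟩

end Cfsg.Agent.S3437
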