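import Cfsg.Statements.S3438
import Cfsg.Agent.Lib.Solv.SolvableSpectrum

set_option autoImplicit false
open Cfsg

namespace Cfsg.Agent.S3438

open Cfsg.Agent.Solv

open Matrix

set_option maxHeartbeats 800000

/-- the coefficient ring -/
abbrev K : Type := QuadraticAlgebra (ZMod 7) 6 0

instance finiteK : Finite K := Finite.of_equiv _ (QuadraticAlgebra.equivProd (6 : ZMod 7) 0).symm

instance nontrivialK : Nontrivial K := ⟨⟨0, 1, by decide⟩⟩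

/-- the elements of the Frobenius complement -/
def elts : List (K × K × K × K) := [
    (⟨1, 0⟩, ⟨0, 0⟩, ⟨0, 0⟩, ⟨1, 0⟩),
    (⟨2, 0⟩, ⟨0, 0⟩, ⟨0, 0⟩, ⟨4, 0⟩),
    (⟨0, 0⟩, ⟨0, 1⟩, ⟨1, 0⟩, ⟨0, 0⟩),
    (⟨4, 0⟩, ⟨0, 0⟩, ⟨0, 0⟩, ⟨2, 0⟩),
    (⟨0, 0⟩, ⟨0, 2⟩, ⟨4, 0⟩, ⟨0, 0⟩),
    (⟨0, 0⟩, ⟨0, 4⟩, ⟨2, 0⟩, ⟨0, 0⟩),
    (⟨0, 1⟩, ⟨0, 0⟩, ⟨0, 0⟩, ⟨0, 1⟩),
    (⟨0, 2⟩, ⟨0, 0⟩, ⟨0, 0⟩, ⟨0, 4⟩),
    (⟨0, 4⟩, ⟨0, 0⟩, ⟨0, 0⟩, ⟨0, 2⟩),
    (⟨0, 0⟩, ⟨6, 0⟩, ⟨0, 1⟩, ⟨0, 0⟩),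
    (⟨0, 0⟩, ⟨5, 0⟩, ⟨0, 4⟩, ⟨0, 0⟩),
    (⟨0, 0⟩, ⟨3, 0⟩, ⟨0, 2⟩, ⟨0, 0⟩),
    (⟨6, 0⟩, ⟨0, 0⟩, ⟨0, 0⟩, ⟨6, 0⟩),
    (⟨5, 0⟩, ⟨0, 0⟩, ⟨0, 0⟩, ⟨3, 0⟩),
    (⟨3, 0⟩, ⟨0, 0⟩, ⟨0, 0⟩, ⟨5, 0⟩),
    (⟨0, 0⟩, ⟨0, 6⟩, ⟨6, 0⟩, ⟨0, 0⟩),
    (⟨0, 0⟩, ⟨0, 5⟩, ⟨3, 0⟩, ⟨0, 0⟩),
    (⟨0, 0⟩, ⟨0, 3⟩, ⟨5, 0⟩, ⟨0, 0⟩),
    (⟨0, 6⟩, ⟨0, 0⟩, ⟨0, 0⟩, ⟨0, 6⟩),
    (⟨0, 5⟩, ⟨0, 0⟩, ⟨0, 0⟩, ⟨0, 3⟩),
    (⟨0, 3⟩, ⟨0, 0⟩, ⟨0, 0⟩, ⟨0, 5⟩),
    (⟨0, 0⟩, ⟨1, 0⟩, ⟨0, 6⟩, ⟨0, 0⟩),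
    (⟨0, 0⟩, ⟨2, 0⟩, ⟨0, 3⟩, ⟨0, 0⟩),
    (⟨0, 0⟩, ⟨4, 0⟩, ⟨0, 5⟩, ⟨0, 0⟩)]

/-- generator of order three -/
def ga : K × K × K × K := (⟨2, 0⟩, ⟨0, 0⟩, ⟨0, 0⟩, ⟨4, 0⟩)
/-- generator of order eight -/
def gb : K × K × K × K := (⟨0, 0⟩, ⟨0, 1⟩, ⟨1, 0⟩, ⟨0, 0⟩)

/-- the field with nine elements -/
abbrev K9 : Type := QuadraticAlgebra (ZMod 3) 2 0

/-- unitarity of a matrix over `K9`, column by column -/
def unitary (M : Matrix (Fin 3) (Fin 3) K9) : Prop :=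
  ∀ j k : Fin 3, M 0 j * (M 0 k) ^ 3 + M 1 j * (M 1 k) ^ 3 + M 2 j * (M 2 k) ^ 3 = if j = k then 1 else 0

theorem witnesses : ∀ a ∈ [7, 8, 12], ∃ g : Matrix.SpecialLinearGroup (Fin 3) K9,
    orderOf g = a ∧ ∀ j k : Fin 3, (g : Matrix (Fin 3) (Fin 3) K9) 0 j * ((g : Matrix (Fin 3) (Fin 3) K9) 0 k) ^ 3 +
      (g : Matrix (Fin 3) (Fin 3) K9) 1 j * ((g : Matrix (Fin 3) (Fin 3) K9) 1 k) ^ 3 +
      (g : Matrix (Fin 3) (Fin 3) K9) 2 j * ((g : Matrix (Fin 3) (Fin 3) K9) 2 k) ^ 3 = if j = k then 1 else 0 := by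
  intro a ha
  fin_cases ha
  · refine ⟨⟨!![⟨0, 0⟩, ⟨1, 1⟩, ⟨1, 1⟩; ⟨0, 0⟩, ⟨1, 1⟩, ⟨2, 2⟩; ⟨0, 1⟩, ⟨0, 0⟩, ⟨0, 0⟩], by decide +kernel⟩, (orderOf_eq_iff (by norm_num)).mpr ?_, ?_⟩ <;> decide +kernel
  · refine ⟨⟨!![⟨0, 0⟩, ⟨0, 0⟩, ⟨1, 0⟩; ⟨0, 0⟩, ⟨0, 1⟩, ⟨0, 0⟩; ⟨0, 1⟩, ⟨0, 0⟩, ⟨0, 0⟩], by decide +kernel⟩, (orderOf_eq_iff (by norm_num)).mpr ?_, ?_⟩ <;> decide +kernel
  · refine ⟨⟨!![⟨0, 0⟩, ⟨1, 1⟩, ⟨1, 2⟩; ⟨0, 0⟩, ⟨2, 1⟩, ⟨2, 2⟩; ⟨0, 1⟩, ⟨0, 0⟩, ⟨0, 0⟩], by decide +kernel⟩, (orderOf_eq_iff (by norm_num)).mpr ?_, ?_⟩ <;> decide +kernel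

theorem mem_SU {F : Type*} [Field F] [CharP F 3] (g : Matrix.SpecialLinearGroup (Fin 3) F) :
    g ∈ Cfsg.SU 3 F 3 ↔ ∀ j k : Fin 3, (g : Matrix (Fin 3) (Fin 3) F) 0 j * ((g : Matrix (Fin 3) (Fin 3) F) 0 k) ^ 3 +
      (g : Matrix (Fin 3) (Fin 3) F) 1 j * ((g : Matrix (Fin 3) (Fin 3) F) 1 k) ^ 3 +
      (g : Matrix (Fin 3) (Fin 3) F) 2 j * ((g : Matrix (Fin 3) (Fin 3) F) 2 k) ^ 3 = if j = k then 1 else 0 := by
  haveI : Fact (Nat.Prime 3) := ⟨by norm_num⟩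
  constructor
  · intro hg j k
    have h := hg (Pi.single j 1) (Pi.single k 1)
    simp only [Cfsg.hermForm, Fin.sum_univ_three, Matrix.mulVec_single_one] at h
    refine h.trans ?_
    fin_cases j <;> fin_cases k <;> simp [Pi.single_apply]
  · intro h u v
    have hadd : ∀ x y : F, (x + y) ^ 3 = x ^ 3 + y ^ 3 := fun x y => add_pow_char x y 3
    show Cfsg.hermForm 3 F 3 ((g : Matrix (Fin 3) (Fin 3) F) *ᵥ u) ((g : Matrix (Fin 3) (Fin 3) F) *ᵥ v) = _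
    have h00 := h 0 0; have h01 := h 0 1; have h02 := h 0 2
    have h10 := h 1 0; have h11 := h 1 1; have h12 := h 1 2
    have h20 := h 2 0; have h21 := h 2 1; have h22 := h 2 2
    simp only [Fin.isValue, if_true, Fin.reduceEq, if_false] at h00 h01 h02 h10 h11 h12 h20 h21 h22
    simp only [Cfsg.hermForm, Matrix.mulVec, dotProduct, Fin.sum_univ_three, hadd, mul_pow]
    linear_combination (u 0 * v 0 ^ 3) * h00 + (u 0 * v 1 ^ 3) * h01 + (u 0 * v 2 ^ 3) * h02 +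
      (u 1 * v 0 ^ 3) * h10 + (u 1 * v 1 ^ 3) * h11 + (u 1 * v 2 ^ 3) * h12 +
      (u 2 * v 0 ^ 3) * h20 + (u 2 * v 1 ^ 3) * h21 + (u 2 * v 2 ^ 3) * h22

theorem coeff9 (t : K9) : ∃ a ∈ [7, 8, 12], Spectrum.coeffs t (t ^ 3) a = (0, 0, 1) := by
  obtain ⟨x, y⟩ := t
  revert x y
  decide +kernel

theorem pow_su {F : Type*} [Field F] [CharP F 3] (f : K9 →+* F) (hf : Function.Surjective f)
    (g : Matrix.SpecialLinearGroup (Fin 3) F) (hg : g ∈ Cfsg.SU 3 F 3) : ∃ a ∈ [7, 8, 12], g ^ a = 1 := by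
  haveI : Fact (Nat.Prime 3) := ⟨by norm_num⟩
  obtain ⟨t, ht⟩ := hf (g : Matrix (Fin 3) (Fin 3) F).trace
  set M : Matrix (Fin 3) (Fin 3) F := (g : Matrix (Fin 3) (Fin 3) F) with hM
  let N : Matrix (Fin 3) (Fin 3) F := Matrix.of fun j i => (M i j) ^ 3
  have h := (mem_SU g).mp hg
  have hNM : N * M = 1 := by
    ext j k
    have := h k j
    rw [Matrix.mul_apply, Fin.sum_univ_three, Matrix.one_apply]
    simp only [N, Matrix.of_apply]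
    by_cases hjk : j = k
    · subst hjk; simp only [if_true] at this ⊢; linear_combination this
    · simp only [hjk, Ne.symm hjk, if_false] at this ⊢; linear_combination this
  have hadj : M.adjugate = N := by
    have h1 : M * M.adjugate = 1 := by rw [Matrix.mul_adjugate, g.det_coe, one_smul]
    calc M.adjugate = N * M * M.adjugate := by rw [hNM, one_mul]
      _ = N := by rw [mul_assoc, h1, mul_one]
  have hs : M.adjugate.trace = f (t ^ 3) := by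
    rw [hadj, map_pow, ht, Matrix.trace_fin_three, Matrix.trace_fin_three, add_pow_char, add_pow_char]
    rfl
  obtain ⟨a, ha, h'⟩ := coeff9 t
  exact ⟨a, ha, Spectrum.sl_pow_eq_one g f t (t ^ 3) ht.symm hs a h'⟩


/-- There is a finite solvable group with exactly the same set of element orders as the simple group PSU(3,3) (realised over the field with 9 elements). -/
theorem result {F : Type*} [Field F] [Fintype F] (hF : Fintype.card F = 9) :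
    ∃ (H : Type) (_ : Group H) (_ : Fintype H), Group.IsSolvable H ∧ Set.range (orderOf : H → ℕ) = Set.range (orderOf : Cfsg.PSU 3 F 3 → ℕ) := by
  haveI : CharP F 3 := charP_of_card_eq_prime_pow (f := 2) (by exact_mod_cast hF)
  letI : Algebra (ZMod 3) F := ZMod.algebra F 3
  obtain ⟨i, hi⟩ : IsSquare (-1 : F) := by rw [FiniteField.isSquare_neg_one_iff, hF]; decide
  have h3 : (3 : F) = 0 := CharP.cast_eq_zero F 3
  let fa : K9 →ₐ[ZMod 3] F := QuadraticAlgebra.lift ⟨i, by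
    rw [← hi, Algebra.smul_def, Algebra.smul_def, map_ofNat, map_zero, zero_mul, add_zero, mul_one]
    linear_combination -h3⟩
  let f : K9 →+* F := fa.toRingHom
  have hinv : ∀ z : K9, z ≠ 0 → ∃ w : K9, z * w = 1 := by
    have h : ∀ x y : ZMod 3, (x ≠ 0 ∨ y ≠ 0) → ∃ a b : ZMod 3, (⟨x, y⟩ : K9) * ⟨a, b⟩ = 1 := by
      decide +kernel
    intro ⟨x, y⟩ hz
    obtain ⟨a, b, hab⟩ := h x y (by
      by_contra hc
      simp only [not_or, not_not] at hc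
      exact hz (QuadraticAlgebra.ext hc.1 hc.2))
    exact ⟨_, hab⟩
  have hfi : Function.Injective f := by
    rw [injective_iff_map_eq_zero]
    intro z hz
    by_contra hz0
    obtain ⟨w, hw⟩ := hinv z hz0
    have := congrArg f hw
    rw [map_mul, hz, zero_mul, map_one] at this
    exact zero_ne_one this
  haveI : Fintype K9 := Fintype.ofEquiv _ (QuadraticAlgebra.equivProd (2 : ZMod 3) 0).symm
  have hfs : Function.Surjective f :=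
    ((Fintype.bijective_iff_injective_and_card f).mpr ⟨hfi, by
      rw [Fintype.card_congr (QuadraticAlgebra.equivProd (2 : ZMod 3) 0), Fintype.card_prod, ZMod.card, hF]⟩).2
  have hcen : Subgroup.center (Cfsg.SU 3 F 3) = ⊥ := Spectrum.center_bot _ (by
    intro M hM
    fin_cases hM
    all_goals
      refine ⟨⟨_, ?_⟩, (mem_SU _).mpr ?_, rfl⟩
      · simp [Spectrum.D1, Spectrum.D2, Spectrum.P3, Matrix.det_fin_three]
      · intro j k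
        fin_cases j <;> fin_cases k <;> simp [Spectrum.D1, Spectrum.D2, Spectrum.P3, neg_one_pow_eq_ite, Odd.neg_pow (by decide : Odd 3)])
  have hord := Spectrum.orderOf_mk_of_center_bot hcen
  have hF' : Set.range (orderOf : Cfsg.PSU 3 F 3 → ℕ) = {n | ∃ a ∈ [7, 8, 12], n ∣ a} := by
    refine Spectrum.range_orderOf _ (by decide) (fun x => ?_) (fun a ha => ?_)
    · obtain ⟨g, rfl⟩ := QuotientGroup.mk_surjective x
      obtain ⟨a, ha, h⟩ := pow_su f hfs g.1 g.2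
      exact ⟨a, ha, by rw [← QuotientGroup.mk_pow, show g ^ a = 1 from Subtype.ext h, QuotientGroup.mk_one]⟩
    · obtain ⟨g, hg, hu⟩ := witnesses a ha
      have hmem : Matrix.SpecialLinearGroup.map f g ∈ Cfsg.SU 3 F 3 := (mem_SU _).mpr fun j k => by
        simp only [Matrix.SpecialLinearGroup.map_apply_coe, RingHom.mapMatrix_apply, Matrix.map_apply,
          ← map_pow, ← map_mul, ← map_add, hu]
        split_ifs <;> simp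
      refine ⟨QuotientGroup.mk ⟨_, hmem⟩, ?_⟩
      refine (hord _).trans ?_
      rw [← Subgroup.orderOf_coe, orderOf_injective (Matrix.SpecialLinearGroup.map f) ?_, hg]
      intro x y h
      apply Matrix.SpecialLinearGroup.ext
      intro i j
      exact hfi (congrFun (congrFun (congrArg Subtype.val h) i) j)
  rw [hF']
  refine Spectrum.planar (K := K) 7 (by norm_num) (by decide) ⟨⟨4, 0⟩, by decide⟩ ⟨⟨5, 0⟩, by decide⟩
    ga gb 3 8 (by norm_num) (by norm_num) (by decide +kernel) (by decide +kernel) elts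
    (by decide +kernel) (by decide +kernel) (by decide +kernel) (by decide +kernel) [8, 12] (by decide)
    ?_ (by decide +kernel) ?_
  · intro c hc
    fin_cases hc
    exacts [⟨3, 0, rfl⟩, ⟨2, 1, rfl⟩]
  · intro c hc
    fin_cases hc
    · exact ⟨_, Subgroup.subset_closure (Set.mem_insert_of_mem _ (Set.mem_singleton _)),
        Spectrum.orderOf_quad _ gb rfl 8 (by norm_num) (by decide +kernel) (by decide +kernel)⟩
    · exact ⟨Spectrum.unitOf ga 3 (by decide +kernel) (by norm_num) *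
          Spectrum.unitOf gb 8 (by decide +kernel) (by norm_num) ^ 2,
        Subgroup.mul_mem _ (Subgroup.subset_closure (Set.mem_insert _ _))
          (Subgroup.pow_mem _ (Subgroup.subset_closure (Set.mem_insert_of_mem _ (Set.mem_singleton _))) 2),
        Spectrum.orderOf_quad _ (Spectrum.qmul ga (Spectrum.qpow gb 2))
          (by rw [Units.val_mul, Units.val_pow_eq_pow_val, Spectrum.toM_mul, Spectrum.toM_pow]; rfl)
          12 (by norm_num) (by decide +kernel) (by decide +kernel)⟩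

end Cfsg.Agent.S3438
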