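import Cfsg.Statements.S3443
import Cfsg.Agent.Lib.Struct.FibrePower

set_option autoImplicit false
open Cfsg

namespace Cfsg.Agent.S3443

/-- Let G be a finite group and V a normal elementary abelian subgroup of G (abelian of prime exponent p, possibly trivial). Then the semidirect product V ⋊ G, with G acting on V by conjugation, has exactly the same set of element orders as G. -/
theorem result {G : Type*} [Group G] [Finite G] (V : Subgroup G) [V.Normal] (p : ℕ) (hp : p.Prime)
    (hcomm : ∀ x y : V, x * y = y * x) (hexp : ∀ x : V, x ^ p = 1) :
    Set.range (orderOf : V ⋊[MulAut.conjNormal] G → ℕ) = Set.range (orderOf : G → ℕ) := by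
  let φ : V ⋊[MulAut.conjNormal] G →* (Fin 2 → G) :=
    { toFun := fun x => ![(x.left : G) * x.right, x.right]
      map_one' := by
        funext i; fin_cases i <;> simp
      map_mul' := fun x y => by
        funext i; fin_cases i <;> simp [SemidirectProduct.mul_left, MulAut.conjNormal_apply, mul_assoc] }
  have hφ : Function.Injective φ := by
    intro x y h
    have h1 : x.right = y.right := congrFun h 1
    have h0 : (x.left : G) * x.right = y.left * y.right := congrFun h 0
    rw [h1] at h0
    exact SemidirectProduct.ext (Subtype.ext (mul_right_cancel h0)) h1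
  have hexp' : ∀ x ∈ V, x ^ p = 1 := fun x hx => congrArg Subtype.val (hexp ⟨x, hx⟩)
  ext n
  constructor
  · rintro ⟨x, rfl⟩
    have hmem : ∀ i j, QuotientGroup.mk' V (φ x i) = QuotientGroup.mk' V (φ x j) := by
      have h : ∀ i, QuotientGroup.mk' V (φ x i) = QuotientGroup.mk' V x.right := by
        intro i
        fin_cases i
        · show QuotientGroup.mk' V ((x.left : G) * x.right) = _
          rw [map_mul, show QuotientGroup.mk' V (x.left : G) = 1 from
            (QuotientGroup.eq_one_iff _).2 x.left.2, one_mul]
        · rfl
      exact fun i j => (h i).trans (h j).symm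
    obtain ⟨i, hi⟩ := Cfsg.Agent.Struct.FibrePower.exists_orderOf_eq V hp hexp' (φ x) hmem
    exact ⟨φ x i, by rw [← hi, orderOf_injective φ hφ]⟩
  · rintro ⟨g, rfl⟩
    exact ⟨SemidirectProduct.inr g, orderOf_injective _ SemidirectProduct.inr_injective g⟩

end Cfsg.Agent.S3443
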