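import Cfsg.Statements.S3444
import Cfsg.Agent.Lib.Struct.FibrePower
import Cfsg.Agent.Lib.Solv.Basic

set_option autoImplicit false
open Cfsg

namespace Cfsg.Agent.S3444

/-- A finite group with a non-trivial solvable normal subgroup is not determined by its set of element orders, not even up to finitely many possibilities: for every bound N there is a finite group of order greater than N with exactly the same set of element orders. -/
theorem result {G : Type*} [Group G] [Finite G] (K : Subgroup G) [K.Normal] (hK : K ≠ ⊥)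
    (hs : Group.IsSolvable K) (N : ℕ) :
    ∃ (H : Type) (_ : Group H) (_ : Fintype H), N < Fintype.card H ∧ Set.range (orderOf : H → ℕ) = Set.range (orderOf : G → ℕ) := by
  classical
  haveI := hs
  obtain ⟨V, p, hp, hVn, hVne, hexp⟩ : ∃ (V : Subgroup G) (p : ℕ), p.Prime ∧ V.Normal ∧ V ≠ ⊥ ∧
      ∀ x ∈ V, x ^ p = 1 := by
    obtain ⟨M, hM, hMK, hMne, hMmin⟩ := Cfsg.Agent.Solv.exists_minimal_normal_le hK
    haveI := hM
    haveI : Group.IsSolvable M := Group.isSolvable_of_isSolvable_injective (Subgroup.inclusion_injective hMK)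
    obtain ⟨-, p, hp, hexp⟩ := Cfsg.Agent.Solv.minimal_normal_elementary M hMne hMmin
    exact ⟨M, p, hp, hM, hMne, hexp⟩
  haveI := hVn
  have h2 : 2 ≤ Nat.card V := (Subgroup.one_lt_card_iff_ne_bot V).2 hVne
  set F := Cfsg.Agent.Struct.FibrePower.fibre V (N + 1)
  obtain ⟨e⟩ : Nonempty (F ≃ Fin (Nat.card F)) := ⟨Finite.equivFin _⟩
  letI : Group (Fin (Nat.card F)) := e.symm.group
  refine ⟨Fin (Nat.card F), inferInstance, inferInstance, ?_, ?_⟩
  · rw [Fintype.card_fin]
    calc N < 2 ^ (N + 1) := lt_trans (Nat.lt_succ_self N) Nat.lt_two_pow_self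
      _ ≤ Nat.card V ^ (N + 1) := Nat.pow_le_pow_left h2 _
      _ ≤ Nat.card F := Cfsg.Agent.Struct.FibrePower.card_le_fibre V _
  · rw [← Cfsg.Agent.Struct.FibrePower.range_orderOf_fibre V hp hexp N]
    let me : Fin (Nat.card F) →* F :=
      { toFun := fun x => e.symm x
        map_one' := e.symm_apply_apply 1
        map_mul' := fun x y => e.symm_apply_apply _ }
    have hinj : Function.Injective me := fun x y h => e.symm.injective h
    ext n
    constructor
    · rintro ⟨x, rfl⟩; exact ⟨me x, orderOf_injective me hinj x⟩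
    · rintro ⟨x, rfl⟩
      refine ⟨e x, ?_⟩
      rw [← orderOf_injective me hinj (e x)]
      show orderOf (e.symm (e x)) = _
      rw [e.symm_apply_apply]

end Cfsg.Agent.S3444
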