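import Cfsg.Statements.S3449
import Cfsg.Agent.Lib.Struct.AltFiveOrders

set_option autoImplicit false
open Cfsg
open Cfsg.Agent.Struct.AltFiveOrders

namespace Cfsg.Agent.S3449

/-- The direct product of three copies of the alternating group of degree 5 has exactly the same set of element orders as the cyclic group of order 30, namely the divisors of 30; in particular a direct power of a non-abelian simple group need not be determined by its element orders. -/
theorem result : Set.range (orderOf : alternatingGroup (Fin 5) × alternatingGroup (Fin 5) × alternatingGroup (Fin 5) → ℕ) =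
      Set.range (orderOf : Multiplicative (ZMod 30) → ℕ) := by
  rw [range_prod, range_prod, range_eq]
  have hc : IsCyclic (Multiplicative (ZMod 30)) := inferInstance
  have key : ∀ n : ℕ, (∃ a ∈ ({1, 2, 3, 5} : Set ℕ), ∃ m ∈ Set.image2 Nat.lcm ({1, 2, 3, 5} : Set ℕ) {1, 2, 3, 5}, Nat.lcm a m = n) ↔ n ∣ 30 := by
    intro n
    simp only [Set.mem_image2, Set.mem_insert_iff, Set.mem_singleton_iff]
    constructor
    · rintro ⟨a, ha, m, ⟨b, hb, c, hc, rfl⟩, rfl⟩
      refine Nat.lcm_dvd ?_ (Nat.lcm_dvd ?_ ?_)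
      · rcases ha with rfl | rfl | rfl | rfl <;> norm_num
      · rcases hb with rfl | rfl | rfl | rfl <;> norm_num
      · rcases hc with rfl | rfl | rfl | rfl <;> norm_num
    · intro h
      have : n ∈ Nat.divisors 30 := Nat.mem_divisors.2 ⟨h, by norm_num⟩
      rw [show Nat.divisors 30 = {1, 2, 3, 5, 6, 10, 15, 30} by decide] at this
      simp only [Finset.mem_insert, Finset.mem_singleton] at this
      rcases this with rfl | rfl | rfl | rfl | rfl | rfl | rfl | rfl
      · exact ⟨1, by decide, 1, ⟨1, by decide, 1, by decide, rfl⟩, rfl⟩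
      · exact ⟨1, by decide, 2, ⟨1, by decide, 2, by decide, rfl⟩, rfl⟩
      · exact ⟨1, by decide, 3, ⟨1, by decide, 3, by decide, rfl⟩, rfl⟩
      · exact ⟨1, by decide, 5, ⟨1, by decide, 5, by decide, rfl⟩, rfl⟩
      · exact ⟨1, by decide, 6, ⟨2, by decide, 3, by decide, rfl⟩, rfl⟩
      · exact ⟨1, by decide, 10, ⟨2, by decide, 5, by decide, rfl⟩, rfl⟩
      · exact ⟨1, by decide, 15, ⟨3, by decide, 5, by decide, rfl⟩, rfl⟩
      · exact ⟨2, by decide, 15, ⟨3, by decide, 5, by decide, rfl⟩, rfl⟩
  ext n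
  rw [Set.mem_image2]
  rw [key n]
  constructor
  · intro h
    obtain ⟨g, hg⟩ := hc.exists_generator
    have ho : orderOf g = 30 := by
      rw [orderOf_eq_card_of_forall_mem_zpowers hg, Nat.card_congr Multiplicative.toAdd, Nat.card_zmod]
    obtain ⟨d, hd⟩ := h
    refine ⟨g ^ d, ?_⟩
    have hd0 : d ≠ 0 := fun h0 => by rw [h0, mul_zero] at hd; norm_num at hd
    rw [orderOf_pow_of_dvd hd0 (Dvd.intro_left n (hd.symm.trans ho.symm)), ho, hd, Nat.mul_div_cancel _ (Nat.pos_of_ne_zero hd0)]
  · rintro ⟨g, rfl⟩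
    have h := orderOf_dvd_natCard g
    rwa [Nat.card_congr Multiplicative.toAdd, Nat.card_zmod] at h

end Cfsg.Agent.S3449
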