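import Cfsg.Statements.S3491
import Cfsg.Agent.Lib.Struct.AffineSL2Four
import Cfsg.Agent.Lib.Struct.FibrePower

set_option autoImplicit false
open Cfsg
open Cfsg.Agent.Struct

namespace Cfsg.Agent.S3491

theorem main {F : Type} [Field F] [Fintype F] (hF : Fintype.card F = 4) (N : ℕ) :
    ∃ (H : Type) (_ : Group H) (_ : Fintype H), N < Fintype.card H ∧
      Set.range (orderOf : H → ℕ) = Set.range (orderOf : alternatingGroup (Fin 6) → ℕ) := by
  classical
  have h2 := AffineSL2Four.two_eq_zero hF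
  -- the translations
  let V : Subgroup (AffineSL2Four.affine F) :=
    { carrier := {M | M.1.1 0 0 = 1 ∧ M.1.1 0 1 = 0 ∧ M.1.1 1 0 = 0 ∧ M.1.1 1 1 = 1}
      one_mem' := by simp
      mul_mem' := by
        rintro ⟨A, a0, a1, a2⟩ ⟨B, b0, b1, b2⟩ ⟨p0, p1, p2, p3⟩ ⟨q0, q1, q2, q3⟩
        dsimp only at p0 p1 p2 p3 q0 q1 q2 q3
        simp [Matrix.mul_apply, Fin.sum_univ_three, p0, p1, p2, p3, q0, q1, q2, q3, b0, b1]
      inv_mem' := by
        rintro ⟨A, a0, a1, a2⟩ ⟨p0, p1, p2, p3⟩
        dsimp only at p0 p1 p2 p3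
        have h : (A⁻¹ : Matrix.SpecialLinearGroup (Fin 3) F).1 = A.1.adjugate :=
          Matrix.SpecialLinearGroup.coe_inv A
        simp [Matrix.adjugate_fin_three, p0, p1, p2, p3, a0, a1, a2] }
  haveI : V.Normal := by
    refine ⟨fun x hx g => ?_⟩
    obtain ⟨p0, p1, p2, p3⟩ := hx
    obtain ⟨X, x0, x1, x2⟩ := x
    obtain ⟨A, a0, a1, a2⟩ := g
    dsimp only at p0 p1 p2 p3
    have hd : A.1 0 0 * A.1 1 1 - A.1 0 1 * A.1 1 0 = 1 := by
      have h := A.2
      rw [Matrix.det_fin_three, a0, a1, a2] at h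
      linear_combination h
    show _ ∧ _ ∧ _ ∧ _
    simp [Matrix.mul_apply, Fin.sum_univ_three, Matrix.adjugate_fin_three, p0, p1, p2, p3, a0, a1, a2, x0, x1, x2]
    refine ⟨?_, ?_, ?_, ?_⟩ <;> grobner
  have hexp : ∀ x ∈ V, x ^ 2 = 1 := by
    rintro ⟨X, x0, x1, x2⟩ ⟨p0, p1, p2, p3⟩
    dsimp only at p0 p1 p2 p3
    refine Subtype.ext (Subtype.ext ?_)
    ext i j
    fin_cases i <;> fin_cases j <;>
      simp [pow_two, Matrix.mul_apply, Fin.sum_univ_three, p0, p1, p2, p3, x0, x1, x2] <;> grobner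
  have hV : 2 ≤ Nat.card V := by
    refine (Subgroup.one_lt_card_iff_ne_bot V).2 fun e => ?_
    let T : Matrix.SpecialLinearGroup (Fin 3) F := ⟨!![1, 0, 1; 0, 1, 0; 0, 0, 1], by simp [Matrix.det_fin_three]⟩
    have h : (⟨T, rfl, rfl, rfl⟩ : AffineSL2Four.affine F) ∈ V := ⟨rfl, rfl, rfl, rfl⟩
    rw [e, Subgroup.mem_bot] at h
    have h' := congrArg (fun M : AffineSL2Four.affine F => M.1.1 0 2) h
    simp [T] at h'
  set P := FibrePower.fibre V (N + 1)
  obtain ⟨e⟩ : Nonempty (P ≃ Fin (Nat.card P)) := ⟨Finite.equivFin _⟩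
  letI : Group (Fin (Nat.card P)) := e.symm.group
  refine ⟨Fin (Nat.card P), inferInstance, inferInstance, ?_, ?_⟩
  · rw [Fintype.card_fin]
    calc N < 2 ^ (N + 1) := lt_trans (Nat.lt_succ_self N) Nat.lt_two_pow_self
      _ ≤ Nat.card V ^ (N + 1) := Nat.pow_le_pow_left hV _
      _ ≤ Nat.card P := FibrePower.card_le_fibre V _
  · rw [AffineSL2Four.range_orderOf_a6, ← AffineSL2Four.range_orderOf_affine (F := F) hF,
      ← FibrePower.range_orderOf_fibre V Nat.prime_two hexp N]
    let me : Fin (Nat.card P) →* P :=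
      { toFun := fun x => e.symm x
        map_one' := e.symm_apply_apply 1
        map_mul' := fun x y => e.symm_apply_apply _ }
    have hinj : Function.Injective me := fun x y h => e.symm.injective h
    ext n
    constructor
    · rintro ⟨x, rfl⟩; exact ⟨me x, orderOf_injective me hinj x⟩
    · rintro ⟨x, rfl⟩
      refine ⟨e x, ?_⟩
      rw [← orderOf_injective me hinj (e x)]
      show orderOf (e.symm (e x)) = _
      rw [e.symm_apply_apply]


/-- The alternating group of degree 6 is not determined by its set of element orders, not even up to finitely many groups: for every bound N there is a finite group of order greater than N with exactly the same set of element orders as the alternating group of degree 6. -/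
theorem result (N : ℕ) : ∃ (H : Type) (_ : Group H) (_ : Fintype H), N < Fintype.card H ∧ Set.range (orderOf : H → ℕ) = Set.range (orderOf : alternatingGroup (Fin 6) → ℕ) := by
  let F := GaloisField 2 2
  haveI : Fintype F := Fintype.ofFinite F
  have hF : Fintype.card F = 4 := by
    rw [← Nat.card_eq_fintype_card, GaloisField.card 2 2 (by norm_num)]; norm_num
  exact main hF N

end Cfsg.Agent.S3491
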