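import Cfsg.Statements.S3495
import Cfsg.Agent.Lib.Struct.Manning
import Cfsg.Agent.Lib.Struct.DerangeClasses

set_option autoImplicit false
open Cfsg
open Cfsg.Agent.Struct

namespace Cfsg.Agent.S3495

/-- Let a finite group G act faithfully and primitively on a finite set Ω with non-trivial point stabilizers, each acting primitively on every one of its orbits (an extremely primitive group), and suppose G has an elementary abelian normal p-subgroup N acting regularly on Ω (affine type). Then every non-trivial subgroup M of a point stabilizer G_α that is normal in G_α has the same orbits on Ω as G_α, and normalizes no subgroup of N other than 1 and N. -/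
theorem result {G : Type*} [Group G] [Finite G] {Ω : Type*} [Fintype Ω] [MulAction G Ω] [FaithfulSMul G Ω] (hprim : MulAction.IsPreprimitive G Ω) (hH : ∀ α : Ω, MulAction.stabilizer G α ≠ ⊥) (hep : ∀ (α : Ω) (ω : Ω), MulAction.IsPreprimitive (MulAction.stabilizer G α) (MulAction.orbit (MulAction.stabilizer G α) ω))
    (N : Subgroup G) [N.Normal] (hNc : IsMulCommutative N) (p : ℕ) (hp : p.Prime) (hNp : ∀ n ∈ N, n ^ p = 1)
    (hNtr : MulAction.IsPretransitive N Ω) (hNreg : ∀ ω : Ω, MulAction.stabilizer N ω = ⊥) (α : Ω) (M : Subgroup G) (hM : M ≠ ⊥) (hMle : M ≤ MulAction.stabilizer G α)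
    (hMn : MulAction.stabilizer G α ≤ Subgroup.normalizer (M : Set G)) :
    (∀ ω : Ω, MulAction.orbit M ω = MulAction.orbit (MulAction.stabilizer G α) ω) ∧
    (∀ L : Subgroup G, L ≤ N → M ≤ Subgroup.normalizer (L : Set G) → L = ⊥ ∨ L = N) := by
  classical
  set H := MulAction.stabilizer G α with hH'
  have horb : ∀ ω : Ω, MulAction.orbit M ω = MulAction.orbit H ω := by
    intro ω
    refine Set.Subset.antisymm ?_ ?_
    · rintro _ ⟨m, rfl⟩
      exact ⟨⟨m, hMle m.2⟩, rfl⟩
    by_cases hω : ω = α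
    · rintro _ ⟨u, rfl⟩
      exact ⟨1, by rw [hω]; exact (one_smul _ _).trans u.2.symm⟩
    haveI := hep α ω
    haveI : (M.subgroupOf H).Normal := ⟨fun y hy u => (Subgroup.mem_normalizer_iff.1 (hMn u.2) y).1 hy⟩
    have hfix : MulAction.fixedPoints (M.subgroupOf H) (MulAction.orbit H ω) ≠ Set.univ := by
      intro hall
      apply hM
      refine (Subgroup.eq_bot_iff_forall _).2 fun m hm =>
        ExtremelyPrimitive.manning hprim hep hω m (hMle hm) fun x hx => ?_
      exact congrArg Subtype.val ((hall ▸ Set.mem_univ (⟨x, hx⟩ : MulAction.orbit H ω) :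
        (⟨x, hx⟩ : MulAction.orbit H ω) ∈ MulAction.fixedPoints (M.subgroupOf H) (MulAction.orbit H ω))
        ⟨⟨m, hMle hm⟩, hm⟩)
    haveI := MulAction.IsQuasiPreprimitive.isPretransitive_of_normal (G := H) (X := MulAction.orbit H ω) hfix
    intro x hx
    obtain ⟨m, hm⟩ := MulAction.exists_smul_eq (M.subgroupOf H)
      (⟨ω, MulAction.mem_orbit_self ω⟩ : MulAction.orbit H ω) ⟨x, hx⟩
    exact ⟨⟨((m : H) : G), m.2⟩, congrArg Subtype.val hm⟩
  refine ⟨horb, fun L hL hML => ?_⟩
  have hreg : ∀ a ∈ N, ∀ b ∈ N, a • α = b • α → a = b := by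
    intro a ha b hb e
    have h1 : (⟨b⁻¹ * a, N.mul_mem (N.inv_mem hb) ha⟩ : N) ∈ MulAction.stabilizer N α := by
      show (b⁻¹ * a) • α = α
      rw [mul_smul, e, inv_smul_smul]
    rw [hNreg α, Subgroup.mem_bot] at h1
    exact (inv_mul_eq_one.1 (congrArg Subtype.val h1)).symm
  have hHn : ∀ u ∈ H, ∀ l ∈ L, u * l * u⁻¹ ∈ L := by
    intro u hu l hl
    obtain ⟨⟨m, hm⟩, e⟩ : u • l • α ∈ MulAction.orbit M (l • α) := by
      rw [horb]; exact ⟨⟨u, hu⟩, rfl⟩
    have hfixinv : ∀ w ∈ H, w⁻¹ • α = α := fun w hw => by rw [inv_smul_eq_iff]; exact hw.symm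
    have h1 : u * l * u⁻¹ = m * l * m⁻¹ := by
      refine hreg _ (Subgroup.Normal.conj_mem inferInstance l (hL hl) u) _
        (Subgroup.Normal.conj_mem inferInstance l (hL hl) m) ?_
      rw [mul_smul, mul_smul, mul_smul, mul_smul, hfixinv u hu, hfixinv m (hMle hm)]
      exact e.symm
    rw [h1]
    exact (Subgroup.mem_normalizer_iff.1 (hML hm) l).1 hl
  haveI hLn : L.Normal := by
    refine ⟨fun l hl g => ?_⟩
    haveI := hNtr
    obtain ⟨⟨n, hn⟩, hn'⟩ := MulAction.exists_smul_eq N α (g • α)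
    have hu : n⁻¹ * g ∈ H := by
      show (n⁻¹ * g) • α = α
      rw [mul_smul, ← (show n • α = g • α from hn'), inv_smul_smul]
    have h2 := hHn _ hu l hl
    have h3 : g * l * g⁻¹ = n * (n⁻¹ * g * l * (n⁻¹ * g)⁻¹) * n⁻¹ := by group
    rw [h3]
    have hc : n * (n⁻¹ * g * l * (n⁻¹ * g)⁻¹) = (n⁻¹ * g * l * (n⁻¹ * g)⁻¹) * n :=
      congrArg Subtype.val (hNc.is_comm.comm (⟨n, hn⟩ : N) ⟨_, hL h2⟩)
    rw [hc, mul_inv_cancel_right]
    exact h2
  by_cases hne : L = ⊥
  · exact Or.inl hne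
  refine Or.inr (le_antisymm hL fun n hn => ?_)
  obtain ⟨l, hl, e⟩ := Derange.transitive_of_normal hprim L hne α (n • α)
  exact hreg l (hL hl) n hn e ▸ hl

end Cfsg.Agent.S3495
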