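import Cfsg.Statements.S3497
import Cfsg.Agent.Lib.Struct.Manning
import Cfsg.Agent.Lib.Struct.PrimitiveFitting
import Cfsg.Agent.Lib.Solv.Basic

set_option autoImplicit false
open Cfsg
open Cfsg.Agent.Struct

namespace Cfsg.Agent.S3497

theorem exists_basis {V : Type*} [AddCommGroup V] [Finite V] (p e : ℕ) [Fact p.Prime] [Module (ZMod p) V]
    (he : Nat.card V = p ^ e) : Nonempty (Module.Basis (Fin e) (ZMod p) V) := by
  have h1 := FiniteField.pow_finrank_eq_natCard p V
  rw [he] at h1
  exact ⟨(Module.finBasis (ZMod p) V).reindex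
    (finCongr (Nat.pow_right_injective (Fact.out : p.Prime).two_le h1))⟩

theorem exists_hom_GL_add {A V : Type*} [Group A] [AddCommGroup V] [Finite V] {p e : ℕ} [Fact p.Prime]
    [Module (ZMod p) V] (he : Nat.card V = p ^ e) (f : A → V →+ V) (h1 : ∀ v, f 1 v = v)
    (hm : ∀ u w v, f (u * w) v = f u (f w v)) :
    ∃ φ : A →* GL (Fin e) (ZMod p), ∀ u, φ u = 1 ↔ ∀ v, f u v = v := by
  obtain ⟨b⟩ := exists_basis (V := V) p e he
  let Lh : A →* Module.End (ZMod p) V :=
    { toFun := fun u => (f u).toZModLinearMap p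
      map_one' := LinearMap.ext fun v => h1 v
      map_mul' := fun u w => LinearMap.ext fun v => hm u w v }
  refine ⟨((LinearMap.toMatrixAlgEquiv b).toMulEquiv.toMonoidHom.comp Lh).toHomUnits, fun u => ?_⟩
  constructor
  · intro h v
    have h2 : LinearMap.toMatrixAlgEquiv b (Lh u) = 1 := congrArg Units.val h
    have h3 : Lh u = 1 := (LinearMap.toMatrixAlgEquiv b).injective (h2.trans (map_one _).symm)
    exact LinearMap.congr_fun h3 v
  · intro hu
    refine Units.ext ?_
    show LinearMap.toMatrixAlgEquiv b (Lh u) = 1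
    rw [show Lh u = 1 from LinearMap.ext fun v => hu v, map_one]

theorem exists_hom_GL {A K : Type*} [Group A] [CommGroup K] [Finite K] {p e : ℕ} [Fact p.Prime]
    (hexp : ∀ x : K, x ^ p = 1) (he : Nat.card K = p ^ e) (ψ : A →* MulAut K) :
    ∃ φ : A →* GL (Fin e) (ZMod p), φ.ker = ψ.ker := by
  have hz : ∀ v : Additive K, p • v = 0 := fun v => by
    apply Additive.toMul.injective
    rw [toMul_nsmul, toMul_zero, hexp]
  obtain ⟨φ, hφ⟩ := @exists_hom_GL_add A (Additive K) _ _ _ p e _ (AddCommGroup.zmodModule hz)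
    (by rw [show Nat.card (Additive K) = Nat.card K from Nat.card_congr Additive.toMul, he])
    (fun u => MonoidHom.toAdditive ((ψ u : MulAut K) : K →* K))
    (fun v => by show Additive.ofMul (ψ 1 (Additive.toMul v)) = v; rw [map_one]; rfl)
    (fun u w v => by show Additive.ofMul (ψ (u * w) (Additive.toMul v)) = _; rw [map_mul]; rfl)
  refine ⟨φ, ?_⟩
  ext u
  rw [MonoidHom.mem_ker, MonoidHom.mem_ker, hφ]
  exact ⟨fun h => MulEquiv.ext fun v => congrArg Additive.toMul (h (Additive.ofMul v)),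
    fun h v => by show Additive.ofMul (ψ u (Additive.toMul v)) = v; rw [h]; rfl⟩

/-- Restrictions on the point stabilizer of an extremely primitive group. Let a finite group G act faithfully and primitively on a finite set Ω with point stabilizers H = G_α whose order is neither 1 nor a prime, each acting primitively on every one of its orbits. Then H has trivial center, the Fitting subgroup F(H) is an elementary abelian p-group for some prime p, and if F(H) ≠ 1 has order p ^ e then p ^ e divides the number of points minus one and H / F(H) embeds in GL_e(p) (there is a homomorphism from H to GL_e(p) with kernel exactly F(H)). -/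
theorem result {G : Type*} [Group G] [Finite G] {Ω : Type*} [Fintype Ω] [MulAction G Ω] [FaithfulSMul G Ω] (hprim : MulAction.IsPreprimitive G Ω) (hep : ∀ (α : Ω) (ω : Ω), MulAction.IsPreprimitive (MulAction.stabilizer G α) (MulAction.orbit (MulAction.stabilizer G α) ω)) (α : Ω)
    (hH1 : MulAction.stabilizer G α ≠ ⊥) (hHp : ¬ (Nat.card (MulAction.stabilizer G α)).Prime) :
    Subgroup.center (MulAction.stabilizer G α) = ⊥ ∧
    IsMulCommutative (Cfsg.fittingSubgroup (MulAction.stabilizer G α)) ∧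
    ∃ p e : ℕ, p.Prime ∧ Nat.card (Cfsg.fittingSubgroup (MulAction.stabilizer G α)) = p ^ e ∧
      (∀ x ∈ Cfsg.fittingSubgroup (MulAction.stabilizer G α), x ^ p = 1) ∧
      (Cfsg.fittingSubgroup (MulAction.stabilizer G α) ≠ ⊥ →
        p ^ e ∣ Fintype.card Ω - 1 ∧
        ∃ φ : MulAction.stabilizer G α →* GL (Fin e) (ZMod p), φ.ker = Cfsg.fittingSubgroup (MulAction.stabilizer G α)) := by
  classical
  set H := MulAction.stabilizer G α with hHdef
  haveI hnt : ∀ ω : Ω, ω ≠ α → Nontrivial (MulAction.orbit H ω) := by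
    intro ω hω
    by_contra hn
    rw [not_nontrivial_iff_subsingleton] at hn
    apply hH1
    refine (Subgroup.eq_bot_iff_forall _).2 fun u hu =>
      ExtremelyPrimitive.manning hprim hep hω u hu fun x hx => ?_
    exact congrArg Subtype.val (Subsingleton.elim ((⟨u, hu⟩ : H) • (⟨x, hx⟩ : MulAction.orbit H ω)) ⟨x, hx⟩)
  have hfaith : ∀ ω : Ω, ω ≠ α → FaithfulSMul H (MulAction.orbit H ω) := by
    intro ω hω
    refine ⟨fun {u v} huv => ?_⟩
    have h1 := ExtremelyPrimitive.manning hprim hep hω ((v : G)⁻¹ * u)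
      (H.mul_mem (H.inv_mem v.2) u.2) fun x hx => by
        rw [mul_smul, inv_smul_eq_iff]
        exact congrArg Subtype.val (huv ⟨x, hx⟩)
    exact Subtype.ext (inv_mul_eq_one.1 h1).symm
  obtain ⟨ω, hω⟩ : ∃ ω, ω ≠ α := by
    by_contra hall
    push Not at hall
    apply hH1
    refine (Subgroup.eq_bot_iff_forall _).2 fun u _ => FaithfulSMul.eq_of_smul_eq_smul (α := Ω) fun x => ?_
    rw [hall (u • x), hall x, one_smul]
  haveI := hnt ω hω
  haveI := hfaith ω hω
  have hcen : Subgroup.center H = ⊥ := by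
    by_contra hc
    exact hHp (PrimFit.prime_of_center_ne_bot (hep α ω) hc)
  set F := Cfsg.fittingSubgroup H with hFdef
  haveI : F.Normal := Cfsg.Agent.Solv.fittingSubgroup_normal H
  have hnil : Group.IsNilpotent F := Cfsg.Agent.Solv.fittingSubgroup_isNilpotent H
  by_cases hF : F = ⊥
  · refine ⟨hcen, ⟨⟨fun x y => ?_⟩⟩, 2, 0, Nat.prime_two, ?_, ?_, fun h => absurd hF h⟩
    · have hx : (x : H) ∈ (⊥ : Subgroup H) := hF ▸ x.2
      have hy : (y : H) ∈ (⊥ : Subgroup H) := hF ▸ y.2
      exact Subtype.ext (by simp [Subgroup.mem_bot.1 hx, Subgroup.mem_bot.1 hy])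
    · rw [hF, Subgroup.card_bot, pow_zero]
    · intro x hx
      rw [hF, Subgroup.mem_bot] at hx
      rw [hx, one_pow]
  obtain ⟨hab, hCF, hcardF, hmin⟩ := PrimFit.nilpotent_normal (hep α ω) hnil hF
  set p := (Nat.card F).minFac with hpdef
  have hp : p.Prime := Nat.minFac_prime (fun h => hF (Subgroup.card_eq_one.1 h))
  haveI : Fact p.Prime := ⟨hp⟩
  let A : Subgroup H :=
    { carrier := {x | x ∈ F ∧ x ^ p = 1}
      one_mem' := ⟨F.one_mem, one_pow _⟩
      mul_mem' := fun {x y} hx hy => ⟨F.mul_mem hx.1 hy.1, by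
        rw [(show Commute x y from hab x hx.1 y hy.1).mul_pow, hx.2, hy.2, one_mul]⟩
      inv_mem' := fun {x} hx => ⟨F.inv_mem hx.1, by rw [inv_pow, hx.2, inv_one]⟩ }
  have hAn : A.Normal := ⟨fun x hx u => ⟨Subgroup.Normal.conj_mem inferInstance x hx.1 u, by
    rw [conj_pow, hx.2, mul_one, mul_inv_cancel]⟩⟩
  have hAne : A ≠ ⊥ := by
    obtain ⟨z, hz⟩ := exists_prime_orderOf_dvd_card' (G := F) p (Nat.minFac_dvd _)
    intro e
    have hzA : (z : H) ∈ A := ⟨z.2, by
      rw [← Subgroup.coe_pow, ← hz, pow_orderOf_eq_one, Subgroup.coe_one]⟩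
    rw [e, Subgroup.mem_bot] at hzA
    have : z = 1 := Subtype.ext hzA
    rw [this, orderOf_one] at hz
    exact hp.one_lt.ne hz
  have hAF : A = F := hmin A hAn (fun x hx => hx.1) hAne
  have hexp : ∀ x ∈ F, x ^ p = 1 := fun x hx => (hAF.symm ▸ hx : x ∈ A).2
  obtain ⟨e, he⟩ := (IsPGroup.iff_card (p := p) (G := F)).1 fun x => ⟨1, Subtype.ext (by
    rw [pow_one, Subgroup.coe_pow, hexp x x.2, Subgroup.coe_one])⟩
  refine ⟨hcen, ⟨⟨fun x y => Subtype.ext (hab x x.2 y y.2)⟩⟩, p, e, hp, he, hexp, fun _ => ⟨?_, ?_⟩⟩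
  · have hsize : ∀ x : Ω, x ≠ α → Nat.card (MulAction.orbit H x) = p ^ e := by
      intro x hx
      haveI := hnt x hx
      haveI := hfaith x hx
      rw [← he, ← (PrimFit.nilpotent_normal (hep α x) hnil hF).2.2.1]
    haveI := Fintype.ofFinite (MulAction.orbitRel.Quotient H Ω)
    rw [← Nat.card_eq_fintype_card, Nat.card_congr (MulAction.selfEquivSigmaOrbits H Ω), Nat.card_sigma]
    set q0 : MulAction.orbitRel.Quotient H Ω := Quotient.mk'' α
    rw [← Finset.add_sum_erase _ _ (Finset.mem_univ q0)]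
    have hout : ∀ q : MulAction.orbitRel.Quotient H Ω, (Quotient.mk'' q.out : MulAction.orbitRel.Quotient H Ω) = q :=
      fun q => Quotient.out_eq' q
    have h0 : Nat.card (MulAction.orbit H q0.out) = 1 := by
      have h1 : q0.out ∈ MulAction.orbit H α :=
        MulAction.orbitRel_apply.1 (Quotient.exact' (hout q0))
      obtain ⟨u, hu⟩ := h1
      have hq : q0.out = α := hu ▸ u.2
      rw [hq]
      refine Nat.card_eq_one_iff_unique.2 ⟨⟨?_⟩, ⟨⟨α, MulAction.mem_orbit_self α⟩⟩⟩
      rintro ⟨_, a, rfl⟩ ⟨_, b, rfl⟩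
      refine Subtype.ext ?_
      show (a : G) • α = (b : G) • α
      rw [show (a : G) • α = α from a.2, show (b : G) • α = α from b.2]
    rw [h0, Nat.add_sub_cancel_left]
    refine Finset.dvd_sum fun q hq => (hsize _ fun e1 => ?_) ▸ dvd_rfl
    exact (Finset.mem_erase.1 hq).1 (by rw [← hout q, e1])
  · letI : CommGroup F :=
      { (inferInstance : Group F) with mul_comm := fun x y => Subtype.ext (hab x x.2 y y.2) }
    obtain ⟨φ, hφ⟩ := exists_hom_GL (K := F) (p := p) (e := e)
      (fun x => Subtype.ext (by rw [Subgroup.coe_pow, hexp x x.2, Subgroup.coe_one])) he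
      (MulAut.conjNormal : H →* MulAut F)
    refine ⟨φ, hφ.trans ?_⟩
    ext u
    rw [MonoidHom.mem_ker]
    constructor
    · intro h
      rw [← hCF]
      refine Subgroup.mem_centralizer_iff.2 fun v hv => ?_
      have h4 : u * v * u⁻¹ = v := congrArg Subtype.val (DFunLike.congr_fun h (⟨v, hv⟩ : F))
      calc v * u = u * v * u⁻¹ * u := by rw [h4]
        _ = u * v := by group
    · intro hu
      refine MulEquiv.ext fun v => Subtype.ext ?_
      show u * (v : H) * u⁻¹ = v
      rw [hab u hu v v.2, mul_inv_cancel_right]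

end Cfsg.Agent.S3497
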