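import Cfsg.Statements.S3498
import Mathlib
import Cfsg.Agent.Lib.Struct.TwoFrobenius

set_option autoImplicit false
open Cfsg

namespace Cfsg.Agent.S3498

/-- A maximal subgroup of a finite almost simple group does not have prime order. Here G is almost simple in the sense that it has a non-abelian simple normal subgroup T with trivial centralizer. -/
theorem result {G : Type*} [Group G] [Finite G] (T : Subgroup G) [T.Normal] (hT : IsSimpleGroup T) (hTc : ¬ IsMulCommutative T)
    (hC : Subgroup.centralizer (T : Set G) = ⊥) (H : Subgroup G) (hmax : IsCoatom H) : ¬ (Nat.card H).Prime := by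
  intro hp
  haveI : Fact (Nat.card H).Prime := ⟨hp⟩
  set p := Nat.card H with hpdef
  haveI := hT
  have hHab : ∀ x y : H, x * y = y * x := fun x y => by
    haveI : IsCyclic H := isCyclic_of_prime_card hpdef.symm
    letI := IsCyclic.commGroup (α := H)
    exact mul_comm x y
  have hTnot : ¬ T ≤ H := fun hle => hTc ⟨⟨fun x y => by
    refine Subtype.ext ?_
    have h := congrArg Subtype.val (hHab ⟨x, hle x.2⟩ ⟨y, hle y.2⟩)
    exact h⟩⟩
  have hTne : T ≠ ⊥ := fun h => hTc ⟨⟨fun x y => Subtype.ext (by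
    have hx : (x : G) ∈ (⊥ : Subgroup G) := h ▸ x.2
    have hy : (y : G) ∈ (⊥ : Subgroup G) := h ▸ y.2
    simp [Subgroup.mem_bot.1 hx, Subgroup.mem_bot.1 hy])⟩⟩
  have hnn : ¬ H.Normal := by
    intro hn
    have hinf : H ⊓ T = ⊥ := by
      rcases hp.eq_one_or_self_of_dvd _ (Subgroup.card_dvd_of_le (inf_le_left : H ⊓ T ≤ H)) with h | h
      · exact Subgroup.card_eq_one.1 h
      · exfalso
        have hle : H ≤ T := (Subgroup.eq_of_le_of_card_ge inf_le_left h.ge).ge.trans inf_le_right
        rcases IsSimpleGroup.eq_bot_or_eq_top_of_normal (H.subgroupOf T)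
          ⟨fun y hy t => hn.conj_mem y hy t⟩ with e | e
        · rw [Subgroup.subgroupOf_eq_bot, disjoint_iff, inf_eq_left.2 hle] at e
          exact hp.one_lt.ne' (by rw [hpdef, e, Subgroup.card_bot])
        · exact hTnot (Subgroup.subgroupOf_eq_top.1 e)
    have hle : H ≤ Subgroup.centralizer (T : Set G) := fun x hx => Subgroup.mem_centralizer_iff.2 fun t ht => by
      have h1 : x * t * x⁻¹ * t⁻¹ ∈ H ⊓ T := by
        refine ⟨?_, Subgroup.mul_mem _ (Subgroup.Normal.conj_mem inferInstance t ht x) (Subgroup.inv_mem _ ht)⟩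
        rw [show x * t * x⁻¹ * t⁻¹ = x * (t * x⁻¹ * t⁻¹) by group]
        exact Subgroup.mul_mem _ hx (hn.conj_mem _ (Subgroup.inv_mem _ hx) t)
      rw [hinf, Subgroup.mem_bot] at h1
      calc t * x = (x * t * x⁻¹ * t⁻¹)⁻¹ * (x * t) := by group
        _ = x * t := by rw [h1]; group
    rw [hC, le_bot_iff] at hle
    exact hp.one_lt.ne' (by rw [hpdef, hle, Subgroup.card_bot])
  have hN : Subgroup.normalizer (H : Set G) = H := by
    rcases hmax.le_iff.1 (Subgroup.le_normalizer : H ≤ Subgroup.normalizer (H : Set G)) with e | e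
    · exact absurd (Subgroup.normalizer_eq_top_iff.1 e) hnn
    · exact e
  obtain ⟨P, hP⟩ := (IsPGroup.of_card (n := 1) (by rw [pow_one]) : IsPGroup p H).exists_le_sylow
  have hPH : (P : Subgroup G) = H := by
    by_contra hne
    haveI := P.isPGroup'.isNilpotent
    have hlt : H.subgroupOf (P : Subgroup G) < ⊤ :=
      lt_top_iff_ne_top.2 fun e => hne (le_antisymm (Subgroup.subgroupOf_eq_top.1 e) hP)
    obtain ⟨x, hx, hx'⟩ := SetLike.exists_of_lt
      (Group.normalizerCondition_of_isNilpotent (G := (P : Subgroup G)) _ hlt)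
    apply hx'
    show (x : G) ∈ H
    rw [← hN]
    refine Subgroup.mem_normalizer_iff.2 fun y => ⟨fun hy => ?_, fun hy => ?_⟩
    · exact (Subgroup.mem_normalizer_iff.1 hx ⟨y, hP hy⟩).1 hy
    · have hyP : y ∈ (P : Subgroup G) := by
        have := Subgroup.mul_mem _ (Subgroup.mul_mem _ ((P : Subgroup G).inv_mem x.2) (hP hy)) x.2
        simpa [mul_assoc] using this
      exact (Subgroup.mem_normalizer_iff.1 hx ⟨y, hyP⟩).2 hy
  have hNC : Subgroup.normalizer ((P : Subgroup G) : Set G) ≤ Subgroup.centralizer ((P : Subgroup G) : Set G) := by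
    rw [hPH, hN]
    exact fun x hx => Subgroup.mem_centralizer_iff.2 fun y hy =>
      congrArg Subtype.val (hHab ⟨y, hy⟩ ⟨x, hx⟩)
  set K := (MonoidHom.transferSylow P hNC).ker with hK
  have hcompl := MonoidHom.ker_transferSylow_isComplement' P hNC
  obtain ⟨h, hh⟩ := (Subgroup.ne_bot_iff_exists_ne_one (H := H)).1
    (fun e => hp.one_lt.ne' (by rw [hpdef, e, Subgroup.card_bot]))
  have hgen : Subgroup.zpowers (h : G) = H := by
    refine Subgroup.eq_of_le_of_card_ge (Subgroup.zpowers_le.2 h.2) ?_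
    rw [Nat.card_zpowers]
    rcases hp.eq_one_or_self_of_dvd _ (Subgroup.orderOf_dvd_natCard H h.2) with e | e
    · exact absurd (orderOf_eq_one_iff.1 e) fun e1 => hh (Subtype.ext e1)
    · exact e.ge
  have hKH : K ⊓ H = ⊥ := disjoint_iff.1 (hPH ▸ hcompl.disjoint)
  have hnil : Group.IsNilpotent K := Cfsg.Agent.Struct.TwoFrobenius.isNilpotent_of_fpf_element K hp
    (by rw [← Subgroup.coe_pow, show h ^ p = 1 from pow_card_eq_one', Subgroup.coe_one])
    fun v hv hvh => by
      have hvC : v ∈ Subgroup.normalizer (H : Set G) := Subgroup.centralizer_le_normalizer _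
        (Subgroup.mem_centralizer_iff.2 fun y hy => by
          obtain ⟨i, rfl⟩ := Subgroup.mem_zpowers_iff.1 (hgen.ge hy)
          exact ((Commute.zpow_right (show Commute v h from hvh) i).eq).symm)
      rw [hN] at hvC
      have : v ∈ K ⊓ H := ⟨hv, hvC⟩
      rwa [hKH, Subgroup.mem_bot] at this
  rcases IsSimpleGroup.eq_bot_or_eq_top_of_normal (K.subgroupOf T) inferInstance with e | e
  · -- then T embeds into G/K
    rw [Subgroup.subgroupOf_eq_bot, disjoint_iff] at e
    apply hTc
    refine ⟨⟨fun x y => ?_⟩⟩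
    have h1 : (x : G) * y * (x : G)⁻¹ * (y : G)⁻¹ ∈ K ⊓ T := by
      refine ⟨?_, T.mul_mem (T.mul_mem (T.mul_mem x.2 y.2) (T.inv_mem x.2)) (T.inv_mem y.2)⟩
      show _ ∈ K
      rw [hK, MonoidHom.mem_ker, map_mul, map_mul, map_mul, map_inv, map_inv]
      have hc : ∀ a b : (P : Subgroup G), a * b = b * a := fun a b =>
        Subtype.ext (congrArg Subtype.val (hHab ⟨a, hPH ▸ a.2⟩ ⟨b, hPH ▸ b.2⟩) :)
      rw [hc _ (MonoidHom.transferSylow P hNC y)]
      group
    rw [e, Subgroup.mem_bot] at h1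
    refine Subtype.ext ?_
    show (x : G) * y = y * x
    calc (x : G) * y = (x * y * (x : G)⁻¹ * (y : G)⁻¹) * (y * x) := by group
      _ = y * x := by rw [h1, one_mul]
  · haveI := hnil
    have hTK : T ≤ K := Subgroup.subgroupOf_eq_top.1 e
    haveI : Group.IsNilpotent T :=
      (Group.isNilpotent_congr (Subgroup.subgroupOfEquivOfLe hTK)).1 inferInstance
    exact hTc ⟨⟨fun x y => IsSimpleGroup.comm_iff_isSolvable.2 inferInstance x y⟩⟩

end Cfsg.Agent.S3498
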