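import Cfsg.Statements.S3501
import Cfsg.Agent.Lib.Struct.DerangeClasses

set_option autoImplicit false
open Cfsg
open Cfsg.Agent.Struct

namespace Cfsg.Agent.S3501

/-- Let a finite group G act faithfully and primitively on a finite set Ω with at least two points, and suppose G is not almost simple (it has no non-abelian simple normal subgroup with trivial centralizer). Then the derangements of G form a single conjugacy class if and only if G is sharply 2-transitive (2-transitive, and no non-identity element fixes two points). -/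
theorem result {G : Type*} [Group G] [Finite G] {Ω : Type*} [Fintype Ω] [MulAction G Ω] [FaithfulSMul G Ω] (hΩ : 2 ≤ Fintype.card Ω) (hprim : MulAction.IsPreprimitive G Ω) (hnas : ¬ ∃ T : Subgroup G, T.Normal ∧ IsSimpleGroup T ∧ ¬ IsMulCommutative T ∧ Subgroup.centralizer (T : Set G) = ⊥) :
    Nat.card {c : ConjClasses G // ∃ g : G, ConjClasses.mk g = c ∧ ∀ ω : Ω, g • ω ≠ ω} = 1 ↔ (MulAction.IsMultiplyPretransitive G Ω 2 ∧ ∀ g : G, g ≠ 1 → ∀ a b : Ω, a ≠ b → g • a = a → g • b ≠ b) := by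
  classical
  haveI : Nontrivial Ω := Fintype.one_lt_card_iff_nontrivial.1 hΩ
  constructor
  · intro hκ
    obtain ⟨N, hN, hne, hab, hreg⟩ := Derange.affine_of_card_le_two hprim hnas (by omega)
    haveI := hN
    haveI : Subsingleton {c : ConjClasses G // ∃ g : G, ConjClasses.mk g = c ∧ ∀ ω : Ω, g • ω ≠ ω} :=
      (Nat.card_eq_one_iff_unique.1 hκ).1
    have hnofix : ∀ x ∈ N, x ≠ 1 → Derange.NoFix Ω x := fun x hx hx1 w hw => hx1 (hreg x hx w hw)
    have hone : ∀ g g' : G, Derange.NoFix Ω g → Derange.NoFix Ω g' → IsConj g g' := fun g g' hg hg' =>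
      ConjClasses.mk_eq_mk_iff_isConj.1 (congrArg Subtype.val (Subsingleton.elim
        (⟨ConjClasses.mk g, g, rfl, hg⟩ : {c : ConjClasses G // ∃ g : G, ConjClasses.mk g = c ∧
          ∀ ω : Ω, g • ω ≠ ω}) ⟨ConjClasses.mk g', g', rfl, hg'⟩))
    obtain ⟨⟨x, hx⟩, hx1'⟩ := Subgroup.ne_bot_iff_exists_ne_one.1 hne
    have hx1 : x ≠ 1 := fun e => hx1' (Subtype.ext e)
    have hall : ∀ g : G, Derange.NoFix Ω g → g ∈ N := fun g hg => by
      obtain ⟨c, hc⟩ := isConj_iff.1 (hone x g (hnofix x hx hx1) hg)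
      exact hc ▸ hN.conj_mem x hx c
    exact ⟨Derange.two_transitive_of_isConj hprim N hne hab
      (fun a ha b hb ha1 hb1 => hone a b (hnofix a ha ha1) (hnofix b hb hb1)),
      Derange.fix_le_one_of_noFix_mem hprim N hne hab hreg hall⟩
  · rintro ⟨h2, hs⟩
    haveI : Nonempty Ω := inferInstance
    obtain ⟨α⟩ : Nonempty Ω := inferInstance
    have hn : 2 ≤ Nat.card Ω := by rw [Nat.card_eq_fintype_card]; exact hΩ
    obtain ⟨hH, hD⟩ := Derange.card_noFix_of_sharp hn h2 hs α
    obtain ⟨⟨d, hd⟩⟩ : Nonempty {g : G // Derange.NoFix Ω g} :=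
      (Nat.card_pos_iff.1 (by omega)).1
    let f : MulAction.stabilizer G α → {g : G // Derange.NoFix Ω g} := fun h =>
      ⟨(h : G) * d * (h : G)⁻¹, hd.conj _⟩
    have hinj : Function.Injective f := by
      intro u v huv
      have e1 : (u : G) * d * (u : G)⁻¹ = v * d * (v : G)⁻¹ := congrArg Subtype.val huv
      refine Subtype.ext ?_
      by_contra hne'
      have hk : ((v : G)⁻¹ * u) * d = d * ((v : G)⁻¹ * u) := by
        calc ((v : G)⁻¹ * u) * d = (v : G)⁻¹ * (u * d * (u : G)⁻¹) * u := by group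
          _ = d * ((v : G)⁻¹ * u) := by rw [e1]; group
      have hkα : ((v : G)⁻¹ * u) • α = α := MulAction.mem_stabilizer_iff.1
        (Subgroup.mul_mem _ (Subgroup.inv_mem _ v.2) u.2)
      refine hs _ (fun e2 => hne' (inv_mul_eq_one.1 e2).symm) α (d • α) (hd α).symm hkα ?_
      rw [← mul_smul, hk, mul_smul, hkα]
    haveI : Finite {g : G // Derange.NoFix Ω g} := inferInstance
    have hsurj : Function.Surjective f :=
      (Finite.injective_iff_surjective_of_equiv
        ((Finite.card_eq).1 (hH.trans hD.symm)).some).1 hinj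
    refine Nat.card_eq_one_iff_unique.2 ⟨⟨?_⟩, ⟨⟨_, d, rfl, hd⟩⟩⟩
    have hto : ∀ g : G, Derange.NoFix Ω g → IsConj d g := fun g hg => by
      obtain ⟨h, hh⟩ := hsurj ⟨g, hg⟩
      exact isConj_iff.2 ⟨h, congrArg Subtype.val hh⟩
    rintro ⟨_, g, rfl, hg⟩ ⟨_, g', rfl, hg'⟩
    exact Subtype.ext (ConjClasses.mk_eq_mk_iff_isConj.2 ((hto g hg).symm.trans (hto g' hg')))

end Cfsg.Agent.S3501
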