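import Cfsg.Statements.S3504
import Mathlib

set_option autoImplicit false
open Cfsg
open Equiv

namespace Cfsg.Agent.S3504

/-- For n ≥ 5, the fixed-point-free permutations of prime order in the symmetric group of degree n form a single conjugacy class if and only if n is a prime power. -/
theorem result (n : ℕ) (hn : 5 ≤ n) :
    Nat.card {c : ConjClasses (Equiv.Perm (Fin n)) // ∃ g : Equiv.Perm (Fin n), ConjClasses.mk g = c ∧ (orderOf g).Prime ∧ ∀ i : Fin n, g i ≠ i} = 1 ↔ IsPrimePow n := by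
  classical
  have hex : ∀ p : n.primeFactors, ∃ g : Equiv.Perm (Fin n), g.cycleType = Multiset.replicate (n / (p : ℕ)) (p : ℕ) := by
    rintro ⟨p, hp⟩
    rw [Equiv.Perm.exists_with_cycleType_iff, Multiset.sum_replicate, smul_eq_mul, Fintype.card_fin,
      Nat.div_mul_cancel (Nat.dvd_of_mem_primeFactors hp)]
    exact ⟨le_rfl, fun a ha => Multiset.eq_of_mem_replicate ha ▸ (Nat.prime_of_mem_primeFactors hp).two_le⟩
  choose f hf using hex
  have hord : ∀ p : n.primeFactors, orderOf (f p) = (p : ℕ) := by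
    intro p
    have hk : n / (p : ℕ) ≠ 0 := (Nat.div_pos (Nat.le_of_mem_primeFactors p.2) (Nat.prime_of_mem_primeFactors p.2).pos).ne'
    rw [← Equiv.Perm.lcm_cycleType, hf p]
    obtain ⟨k, hk'⟩ := Nat.exists_eq_succ_of_ne_zero hk
    rw [hk']
    refine Nat.dvd_antisymm (Multiset.lcm_dvd.2 fun a ha => (Multiset.eq_of_mem_replicate ha).dvd) ?_
    exact Multiset.dvd_lcm (Multiset.mem_replicate.2 ⟨Nat.succ_ne_zero k, rfl⟩)
  have hfix : ∀ p : n.primeFactors, ∀ i, f p i ≠ i := by
    intro p i hi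
    have h1 : (f p).support = Finset.univ := by
      rw [← Finset.card_eq_iff_eq_univ, ← Equiv.Perm.sum_cycleType, hf p, Multiset.sum_replicate, smul_eq_mul,
        Nat.div_mul_cancel (Nat.dvd_of_mem_primeFactors p.2), Fintype.card_fin]
    exact Equiv.Perm.mem_support.1 (h1 ▸ Finset.mem_univ i) hi
  rw [isPrimePow_iff_card_primeFactors_eq_one, ← Fintype.card_coe n.primeFactors, ← Nat.card_eq_fintype_card]
  refine Eq.congr_left ?_
  symm
  refine Nat.card_eq_of_bijective (fun p => ⟨ConjClasses.mk (f p), f p, rfl, (hord p).symm ▸ Nat.prime_of_mem_primeFactors p.2, hfix p⟩) ⟨?_, ?_⟩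
  · intro p q h
    have h1 := ConjClasses.mk_eq_mk_iff_isConj.1 (congrArg Subtype.val h)
    refine Subtype.ext ?_
    rw [← hord p, ← hord q, ← Equiv.Perm.lcm_cycleType, ← Equiv.Perm.lcm_cycleType, Equiv.Perm.isConj_iff_cycleType_eq.1 h1]
  · rintro ⟨c, g, rfl, hg, hgf⟩
    obtain ⟨k, hk⟩ := Equiv.Perm.cycleType_prime_order hg
    have h1 : g.support = Finset.univ := Finset.eq_univ_of_forall fun i => Equiv.Perm.mem_support.2 (hgf i)
    have h2 := g.sum_cycleType
    rw [hk, h1, Multiset.sum_replicate, smul_eq_mul, Finset.card_univ, Fintype.card_fin] at h2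
    refine ⟨⟨orderOf g, Nat.mem_primeFactors.2 ⟨hg, Dvd.intro_left _ h2, by omega⟩⟩, Subtype.ext ?_⟩
    refine ConjClasses.mk_eq_mk_iff_isConj.2 (Equiv.Perm.isConj_iff_cycleType_eq.2 ?_)
    rw [hf, hk]
    congr 1
    show n / orderOf g = k + 1
    exact Nat.div_eq_of_eq_mul_left hg.pos h2.symm

end Cfsg.Agent.S3504
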