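import Cfsg.Statements.S3508
import Mathlib

set_option autoImplicit false
open Cfsg

namespace Cfsg.Agent.S3508

/-- Let a finite group G act faithfully on a set Ω with p ^ m points (p prime) and have an elementary abelian normal p-subgroup N acting regularly on Ω (so G is a group of affine transformations of an m-dimensional space over the field with p elements). If G contains an element of order p ^ r with r ≥ 1, then p ^ (r − 1) ≤ m. In particular an element of order p ^ m forces m ≤ 2, and m ≤ 1 when p is odd. -/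
theorem geom_eq {p : ℕ} [Fact p.Prime] (k : ℕ) :
    (∑ i ∈ Finset.range (p ^ k), (Polynomial.X : Polynomial (ZMod p)) ^ i) = (Polynomial.X - 1) ^ (p ^ k - 1) := by
  have hne : (Polynomial.X - 1 : Polynomial (ZMod p)) ≠ 0 := by
    simpa using Polynomial.X_sub_C_ne_zero (1 : ZMod p)
  refine mul_right_cancel₀ hne ?_
  rw [geom_sum_mul, ← pow_succ, Nat.sub_add_cancel (Nat.one_le_pow _ _ (Fact.out : p.Prime).pos),
    sub_pow_char_pow, one_pow]

theorem pow_conj_formula {G : Type*} [Group G] (n h : G) (j : ℕ) :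
    (n * h) ^ j = ((List.range j).map (fun i => h ^ i * n * (h ^ i)⁻¹)).prod * h ^ j := by
  induction j with
  | zero => simp
  | succ j ih => rw [pow_succ, ih, List.range_succ, List.map_append, List.prod_append, pow_succ]; simp [mul_assoc]

theorem result {G : Type*} [Group G] [Finite G] {Ω : Type*} [Fintype Ω] [MulAction G Ω] [FaithfulSMul G Ω] (p m : ℕ) (hp : p.Prime) (hcard : Fintype.card Ω = p ^ m)
    (N : Subgroup G) [N.Normal] (hNc : IsMulCommutative N) (hNp : ∀ n ∈ N, n ^ p = 1)
    (hNtr : MulAction.IsPretransitive N Ω) (hNreg : ∀ ω : Ω, MulAction.stabilizer N ω = ⊥)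
    (g : G) (r : ℕ) (hr : 1 ≤ r) (hg : orderOf g = p ^ r) :
    p ^ (r - 1) ≤ m ∧ (r = m → m ≤ 2 ∧ (2 < p → m ≤ 1)) := by
  haveI : Fact p.Prime := ⟨hp⟩
  letI : CommGroup N := { (inferInstance : Group N) with mul_comm := hNc.is_comm.comm }
  obtain ⟨ω⟩ : Nonempty Ω := by
    rw [← Fintype.card_pos_iff, hcard]; exact pow_pos hp.pos m
  have hcardN : Nat.card N = p ^ m := by
    rw [← hcard, ← Nat.card_eq_fintype_card]
    refine Nat.card_congr (Equiv.ofBijective (fun n : N => n • ω) ⟨fun a b hab => ?_, fun y => hNtr.exists_smul_eq ω y⟩)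
    have h1 : b⁻¹ * a ∈ MulAction.stabilizer N ω := by
      rw [MulAction.mem_stabilizer_iff, mul_smul, show a • ω = b • ω from hab, inv_smul_smul]
    rw [hNreg ω, Subgroup.mem_bot, inv_mul_eq_one] at h1
    exact h1.symm
  have : Module (ZMod p) (Additive N) := AddCommGroup.zmodModule fun x =>
    Additive.toMul.injective (Subtype.ext (by simpa using hNp (Additive.toMul x : N) (Additive.toMul x : N).2 :))
  -- `g` is a translation times an element fixing `ω`
  obtain ⟨n, hn⟩ := hNtr.exists_smul_eq ω (g • ω)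
  set h := (n : G)⁻¹ * g with hh
  have hfix : h • ω = ω := by
    rw [hh, mul_smul, ← hn]
    exact inv_smul_smul (n : G) ω
  have hg' : g = (n : G) * h := by rw [hh, mul_inv_cancel_left]
  let T : ℕ → (Additive N →ₗ[ZMod p] Additive N) := fun i =>
    AddMonoidHom.toZModLinearMap p (AddMonoidHom.mk'
      (fun x : Additive N => Additive.ofMul (MulAut.conjNormal (h ^ i) (Additive.toMul x)))
      fun x y => by rw [toMul_add, map_mul, ofMul_mul])
  have hT : ∀ (i : ℕ) (x : Additive N), T i x = Additive.ofMul (MulAut.conjNormal (h ^ i) (Additive.toMul x)) := fun i x => rfl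
  set θ := T 1
  have hpow : ∀ i, θ ^ i = T i := by
    intro i
    induction i with
    | zero => refine LinearMap.ext fun x => ?_; rw [hT, pow_zero, pow_zero, map_one]; rfl
    | succ i ih =>
      refine LinearMap.ext fun x => ?_
      rw [pow_succ, Module.End.mul_apply, ih, hT, hT, hT]
      simp [pow_succ, map_mul]
  -- `θ` is unipotent
  have hgconj : ∀ (i : ℕ) (x : N), MulAut.conjNormal (g ^ i) x = MulAut.conjNormal (h ^ i) x := by
    intro i
    induction i with
    | zero => intro x; simp
    | succ i ih =>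
      intro x
      rw [pow_succ, pow_succ, map_mul, map_mul, MulAut.mul_apply, MulAut.mul_apply, ← ih]
      congr 1
      refine Subtype.ext ?_
      simp only [MulAut.conjNormal_apply]
      rw [hg']
      have hc := congrArg Subtype.val (mul_comm n (MulAut.conjNormal h x))
      simp only [Subgroup.coe_mul, MulAut.conjNormal_apply] at hc
      calc (n : G) * h * x * ((n : G) * h)⁻¹ = (n : G) * (h * x * h⁻¹) * (n : G)⁻¹ := by group
        _ = h * x * h⁻¹ := by rw [hc, mul_inv_cancel_right]
  have hnil : θ ^ p ^ r = 1 := by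
    refine LinearMap.ext fun x => ?_
    rw [hpow, hT, ← hgconj, ← hg, pow_orderOf_eq_one, map_one]
    rfl
  have hfin : Module.finrank (ZMod p) (Additive N) = m := by
    have h1 : Nat.card (Additive N) = p ^ Module.finrank (ZMod p) (Additive N) := by
      rw [Module.natCard_eq_pow_finrank (K := ZMod p) (V := Additive N), Nat.card_zmod]
    rw [show Nat.card (Additive N) = p ^ m from hcardN] at h1
    exact (Nat.pow_right_injective hp.two_le h1).symm
  have hX : ∀ j, Polynomial.aeval θ ((Polynomial.X - 1 : Polynomial (ZMod p)) ^ j) = (θ - 1) ^ j := by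
    intro j
    simp only [map_pow, map_sub, Polynomial.aeval_X, map_one]
  have hkill : (θ - 1) ^ m = 0 := by
    have h1 : IsNilpotent (θ - 1) := ⟨p ^ r, by
      rw [← hX, sub_pow_char_pow, one_pow, map_sub, map_pow, Polynomial.aeval_X, map_one, hnil, sub_self]⟩
    rw [← hfin]
    have h2 := LinearMap.aeval_self_charpoly (θ - 1)
    rwa [IsNilpotent.charpoly_eq_X_pow_finrank h1, map_pow, Polynomial.aeval_X] at h2
  have key : ∀ k, m < p ^ k → g ^ p ^ k = 1 := by
    intro k hk
    have h0 : ∀ j, m ≤ j → (θ - 1) ^ j = 0 := fun j hj => by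
      rw [← Nat.add_sub_cancel' hj, pow_add, hkill, zero_mul]
    have hq : θ ^ p ^ k = 1 := by
      have h2 := hX (p ^ k)
      rw [h0 _ hk.le, sub_pow_char_pow, one_pow, map_sub, map_pow, Polynomial.aeval_X, map_one, sub_eq_zero] at h2
      exact h2
    have hsum : ∑ i ∈ Finset.range (p ^ k), θ ^ i = 0 := by
      have h2 := congrArg (Polynomial.aeval θ) (geom_eq (p := p) k)
      rw [hX, h0 _ (by omega)] at h2
      simpa using h2
    have hh1 : h ^ p ^ k = 1 := by
      refine FaithfulSMul.eq_of_smul_eq_smul (α := Ω) fun y => ?_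
      obtain ⟨a, rfl⟩ := hNtr.exists_smul_eq ω y
      have ha : h ^ p ^ k * a * (h ^ p ^ k)⁻¹ = (a : G) := by
        have h3 := LinearMap.congr_fun hq (Additive.ofMul a)
        rw [hpow, hT] at h3
        exact congrArg Subtype.val (Additive.ofMul.injective h3)
      have hfx : (h ^ p ^ k) • ω = ω :=
        (MulAction.stabilizer G ω).pow_mem hfix (p ^ k)
      rw [one_smul]
      show h ^ p ^ k • (a : G) • ω = (a : G) • ω
      rw [← mul_smul, show h ^ p ^ k * (a : G) = (a : G) * h ^ p ^ k from mul_inv_eq_iff_eq_mul.1 ha,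
        mul_smul, hfx]
    rw [hg', pow_conj_formula, hh1, mul_one]
    have h4 : ∀ j, (((List.range j).map (fun i => h ^ i * (n : G) * (h ^ i)⁻¹)).prod) =
        ((Additive.toMul ((∑ i ∈ Finset.range j, θ ^ i) (Additive.ofMul n)) : N) : G) := by
      intro j
      induction j with
      | zero => simp
      | succ j ih =>
        rw [List.range_succ, List.map_append, List.prod_append, ih, Finset.sum_range_succ, LinearMap.add_apply,
          toMul_add, Subgroup.coe_mul]
        simp [hpow, hT, ← map_pow, MulAut.conjNormal_apply]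
    rw [h4, hsum]
    rfl
  have hmain : p ^ (r - 1) ≤ m := by
    by_contra hlt
    have := orderOf_dvd_of_pow_eq_one (key (r - 1) (not_le.1 hlt))
    rw [hg] at this
    have := (Nat.pow_dvd_pow_iff_le_right hp.one_lt).1 this
    omega
  refine ⟨hmain, fun hrm => ?_⟩
  subst hrm
  refine ⟨?_, fun hp2 => ?_⟩
  · by_contra hr3
    have h5 : 2 ^ (r - 1) ≤ r := (Nat.pow_le_pow_left hp.two_le _).trans hmain
    obtain ⟨j, rfl⟩ : ∃ j, r = j + 3 := ⟨r - 3, by omega⟩
    have h6 : j + 1 ≤ 2 ^ j := Nat.lt_two_pow_self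
    rw [show j + 3 - 1 = j + 2 from rfl, pow_add] at h5
    omega
  · by_contra hr2
    have h5 : 3 ^ (r - 1) ≤ r := (Nat.pow_le_pow_left hp2 _).trans hmain
    obtain ⟨j, rfl⟩ : ∃ j, r = j + 2 := ⟨r - 2, by omega⟩
    have h6 : j + 1 ≤ 3 ^ j := Nat.lt_pow_self (by norm_num)
    rw [show j + 2 - 1 = j + 1 from rfl, pow_add] at h5
    omega

end Cfsg.Agent.S3508
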