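import Cfsg.Statements.S3511
import Mathlib

set_option autoImplicit false
open Cfsg

namespace Cfsg.Agent.S3511

/-- Let a finite group G act faithfully on a set Ω. If every element of G of square-free order has a regular cycle (an orbit of the cyclic group it generates with trivial stabilizer), then every element of G has a regular cycle. -/
theorem result {G : Type*} [Group G] [Finite G] {Ω : Type*} [MulAction G Ω] [FaithfulSMul G Ω]
    (h : ∀ g : G, Squarefree (orderOf g) → ∃ ω : Ω, MulAction.stabilizer (Subgroup.zpowers g) ω = ⊥) (g : G) :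
    ∃ ω : Ω, MulAction.stabilizer (Subgroup.zpowers g) ω = ⊥ := by
  have key : ∀ n : ℕ, ∀ g : G, orderOf g = n → ∃ ω : Ω, MulAction.stabilizer (Subgroup.zpowers g) ω = ⊥ := by
    intro n
    induction n using Nat.strong_induction_on with
    | _ n ih =>
    intro g hn
    by_cases hsq : Squarefree (orderOf g)
    · exact h g hsq
    obtain ⟨r, hr, hr2⟩ : ∃ r : ℕ, r.Prime ∧ r * r ∣ orderOf g := by
      rw [Nat.squarefree_iff_prime_squarefree] at hsq
      push Not at hsq
      exact hsq
    have hord : orderOf (g ^ r) = orderOf g / r := orderOf_pow_of_dvd hr.ne_zero ((dvd_mul_right r r).trans hr2)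
    obtain ⟨ω, hω⟩ := ih _ (by rw [hord, ← hn]; exact Nat.div_lt_self (orderOf_pos g) hr.one_lt) (g ^ r) rfl
    refine ⟨ω, ?_⟩
    by_contra hne
    have hcard : 1 < Nat.card (MulAction.stabilizer (Subgroup.zpowers g) ω) :=
      (Subgroup.one_lt_card_iff_ne_bot _).2 hne
    obtain ⟨s, hs, hsd⟩ := Nat.exists_prime_and_dvd hcard.ne'
    haveI : Fact s.Prime := ⟨hs⟩
    obtain ⟨y, hy⟩ := exists_prime_orderOf_dvd_card' (G := MulAction.stabilizer (Subgroup.zpowers g) ω) s hsd
    obtain ⟨⟨y', hy'⟩, hyω⟩ := y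
    rw [← Subgroup.orderOf_coe, ← Subgroup.orderOf_coe] at hy
    obtain ⟨i, rfl⟩ := (Submonoid.mem_powers_iff _ _).1 (mem_powers_iff_mem_zpowers.2 hy')
    have h1 : orderOf g ∣ i * s := orderOf_dvd_iff_pow_eq_one.2 (by
      rw [pow_mul]; exact hy ▸ pow_orderOf_eq_one (g ^ i))
    have hri : r ∣ i := by
      rcases eq_or_ne s r with e | e
      · subst e
        exact Nat.dvd_of_mul_dvd_mul_right hs.pos (hr2.trans h1)
      · exact ((Nat.coprime_primes hr hs).2 (Ne.symm e)).dvd_of_dvd_mul_right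
          (((dvd_mul_right r r).trans hr2).trans h1)
    obtain ⟨j, rfl⟩ := hri
    have h2 : (⟨g ^ (r * j), ⟨j, by show (g ^ r) ^ (j : ℤ) = g ^ (r * j); rw [zpow_natCast, pow_mul]⟩⟩ :
        Subgroup.zpowers (g ^ r)) ∈ MulAction.stabilizer (Subgroup.zpowers (g ^ r)) ω := hyω
    rw [hω, Subgroup.mem_bot] at h2
    have h3 : g ^ (r * j) = 1 := congrArg Subtype.val h2
    have hy1 : orderOf (g ^ (r * j)) = s := hy
    rw [h3, orderOf_one] at hy1
    exact hs.ne_one hy1.symm
  exact key _ g rfl

end Cfsg.Agent.S3511
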