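import Cfsg.Statements.S3514
import Mathlib

set_option autoImplicit false
open Cfsg

namespace Cfsg.Agent.S3514

open Subgroup

theorem set_eq_orbit {Γ : Type*} [Group Γ] {α : Type*} [MulAction Γ α] (K : Subgroup Γ) (v : α) :
    Nat.card {u : α | ∃ k ∈ K, k • v = u} = ((MulAction.stabilizer Γ v).subgroupOf K).index := by
  rw [show {u : α | ∃ k ∈ K, k • v = u} = MulAction.orbit K v by
    ext u
    exact ⟨fun ⟨k, hk, h⟩ => ⟨⟨k, hk⟩, h⟩, fun ⟨⟨k, hk⟩, h⟩ => ⟨k, hk, h⟩⟩]
  have e : MulAction.stabilizer K v = (MulAction.stabilizer Γ v).subgroupOf K := by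
    ext k; rfl
  rw [Nat.card_coe_set_eq, ← MulAction.index_stabilizer, e]

theorem key {Γ : Type*} [Group Γ] [Finite Γ] {p : ℕ} [Fact p.Prime] (H K S : Subgroup Γ)
    (hHS : ¬ p ∣ (S.subgroupOf H).index) (hK : ∀ P : Sylow p H, ∃ Q : Subgroup Γ, Q ≤ K ∧
      Q ≤ (P : Subgroup H).map H.subtype ∧ ¬ p ∣ (Q.subgroupOf K).index) :
    ¬ p ∣ (S.subgroupOf K).index := by
  obtain ⟨R⟩ : Nonempty (Sylow p (S.subgroupOf H : Subgroup H)) := inferInstance
  obtain ⟨T, hT⟩ := (R.isPGroup'.map (S.subgroupOf H).subtype).exists_le_sylow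
  have hcard : Nat.card ((R : Subgroup (S.subgroupOf H : Subgroup H)).map (S.subgroupOf H).subtype) = Nat.card (T : Subgroup H) := by
    rw [← Nat.card_congr ((R : Subgroup (S.subgroupOf H : Subgroup H)).equivMapOfInjective _ (S.subgroupOf H).subtype_injective).toEquiv,
      R.card_eq_multiplicity, T.card_eq_multiplicity, ← (S.subgroupOf H).card_mul_index,
      Nat.factorization_mul Nat.card_pos.ne' Subgroup.index_ne_zero_of_finite, Finsupp.add_apply,
      Nat.factorization_eq_zero_of_not_dvd hHS, add_zero]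
  have heq := Subgroup.eq_of_le_of_card_ge hT hcard.ge
  obtain ⟨Q, hQK, hQP, hidx⟩ := hK T
  refine fun h => hidx (h.trans (Subgroup.index_dvd_of_le ?_))
  intro k hk
  obtain ⟨t, ht, hte⟩ := hQP (mem_subgroupOf.1 hk)
  rw [← heq] at ht
  obtain ⟨s, -, rfl⟩ := ht
  rw [mem_subgroupOf, ← hte]
  exact s.2

/-- Let p be a prime, V a finite vector space over the field with p elements, and H a group of linear transformations of V all of whose orbits on V have size coprime to p. (i) Every normal subgroup K of H has all its orbits on V of size coprime to p. (ii) If N is a group of linear transformations of V of order coprime to p that is normalized by H, then the group generated by N and H has all its orbits on V of size coprime to p. -/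
theorem result (p : ℕ) [Fact p.Prime] {V : Type*} [AddCommGroup V] [Module (ZMod p) V] [Finite V]
    (H : Subgroup (V ≃ₗ[ZMod p] V)) (hH : ∀ v : V, ¬ p ∣ Nat.card {u : V | ∃ h ∈ H, h v = u}) :
    (∀ K : Subgroup (V ≃ₗ[ZMod p] V), K ≤ H → H ≤ Subgroup.normalizer (K : Set (V ≃ₗ[ZMod p] V)) →
        ∀ v : V, ¬ p ∣ Nat.card {u : V | ∃ k ∈ K, k v = u}) ∧
    (∀ N : Subgroup (V ≃ₗ[ZMod p] V), ¬ p ∣ Nat.card N → H ≤ Subgroup.normalizer (N : Set (V ≃ₗ[ZMod p] V)) →
        ∀ v : V, ¬ p ∣ Nat.card {u : V | ∃ x ∈ N ⊔ H, x v = u}) := by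
  classical
  let Γ := V ≃ₗ[ZMod p] V
  haveI : Finite (V ≃ₗ[ZMod p] V) := Finite.of_injective (fun f : V ≃ₗ[ZMod p] V => (f : V → V)) DFunLike.coe_injective
  have hH' : ∀ v : V, ¬ p ∣ ((MulAction.stabilizer (V ≃ₗ[ZMod p] V) v).subgroupOf H).index := fun v => by
    rw [← set_eq_orbit]
    exact hH v
  constructor
  · intro K hKH hn v h
    have hfinal := key H K (MulAction.stabilizer _ v) (p := p) (hH' v) fun P => ?_
    · exact hfinal (by rw [← set_eq_orbit]; exact h)
    haveI : (K.subgroupOf H).Normal := Subgroup.normal_subgroupOf_iff_le_normalizer hKH |>.2 hn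
    refine ⟨((P : Subgroup H) ⊓ K.subgroupOf H).map H.subtype, ?_, Subgroup.map_mono inf_le_left, ?_⟩
    · rintro _ ⟨x, hx, rfl⟩
      exact hx.2
    · intro hd
      refine P.not_dvd_index (hd.trans ?_)
      have e : (((P : Subgroup H) ⊓ K.subgroupOf H).map H.subtype).relIndex K = ((P : Subgroup H) ⊓ K.subgroupOf H).relIndex (K.subgroupOf H) := by
        rw [← Subgroup.relIndex_map_map_of_injective ((P : Subgroup H) ⊓ K.subgroupOf H) (K.subgroupOf H) H.subtype_injective,
          Subgroup.map_subgroupOf_eq_of_le hKH]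
      show (((P : Subgroup H) ⊓ K.subgroupOf H).map H.subtype).relIndex K ∣ _
      rw [e, Subgroup.inf_relIndex_right]
      obtain ⟨t, ht⟩ := Subgroup.relIndex_dvd_index_of_normal (K.subgroupOf H) (P : Subgroup H)
      have e1 := Subgroup.relIndex_mul_index (inf_le_left : (P : Subgroup H) ⊓ K.subgroupOf H ≤ _)
      have e2 := Subgroup.relIndex_mul_index (inf_le_right : (P : Subgroup H) ⊓ K.subgroupOf H ≤ _)
      rw [Subgroup.inf_relIndex_left] at e1
      rw [Subgroup.inf_relIndex_right, ← e1, ht, mul_left_comm] at e2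
      exact Dvd.intro t (Nat.eq_of_mul_eq_mul_left (Nat.pos_of_ne_zero Subgroup.FiniteIndex.index_ne_zero) e2)
  · intro N hN hn v h
    have hfinal := key H (N ⊔ H) (MulAction.stabilizer _ v) (p := p) (hH' v) fun P => ?_
    · exact hfinal (by rw [← set_eq_orbit]; exact h)
    refine ⟨(P : Subgroup H).map H.subtype, (Subgroup.map_subtype_le _).trans le_sup_right, le_rfl, ?_⟩
    intro hd
    have h1 : ((P : Subgroup H).map H.subtype).relIndex (N ⊔ H) = (P : Subgroup H).index * H.relIndex (N ⊔ H) := by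
      rw [← Subgroup.relIndex_mul_relIndex _ H _ (Subgroup.map_subtype_le _) le_sup_right]
      congr 1
      rw [Subgroup.relIndex, Subgroup.subgroupOf, Subgroup.comap_map_eq_self_of_injective H.subtype_injective]
    rw [Subgroup.relIndex] at h1
    rw [h1] at hd
    rcases (Fact.out : p.Prime).dvd_mul.1 hd with hd' | hd'
    · exact P.not_dvd_index hd'
    · refine hN (hd'.trans ?_)
      obtain ⟨M, hM⟩ : ∃ M, M = normalizer (N : Set (V ≃ₗ[ZMod p] V)) := ⟨_, rfl⟩
      have hNM : N ≤ M := hM ▸ Subgroup.le_normalizer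
      have hHM : H ≤ M := hM ▸ hn
      haveI : (N.subgroupOf M).Normal := Subgroup.normal_subgroupOf_iff_le_normalizer hNM |>.2 hM.le
      have a1 := Subgroup.relIndex_mul_relIndex (H := N ⊓ H) (K := N) (L := N ⊔ H) inf_le_left le_sup_left
      have a2 := Subgroup.relIndex_mul_relIndex (H := N ⊓ H) (K := H) (L := N ⊔ H) inf_le_right le_sup_right
      have a3 : N.relIndex (N ⊔ H) = N.relIndex H := by
        rw [← Subgroup.relIndex_subgroupOf (L := M) (sup_le hNM hHM), ← Subgroup.relIndex_subgroupOf (L := M) hHM,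
          Subgroup.subgroupOf_sup hNM hHM, Subgroup.relIndex_sup_left]
      rw [Subgroup.inf_relIndex_left, a3] at a1
      rw [Subgroup.inf_relIndex_right, ← a1, mul_comm] at a2
      rw [Nat.eq_of_mul_eq_mul_right (Nat.pos_of_ne_zero (show (N.subgroupOf H).index ≠ 0 from Subgroup.index_ne_zero_of_finite)) a2]
      exact Subgroup.relIndex_dvd_card _ _

end Cfsg.Agent.S3514
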