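import Cfsg.Statements.S3517


set_option autoImplicit false
open Cfsg

namespace Cfsg.Agent.S3517

theorem extend_li {K V ι : Type*} [Field K] [AddCommGroup V] [Module K V] [FiniteDimensional K V]
    [Fintype ι] (s s' : ι → V) (hs : LinearIndependent K s) (hs' : LinearIndependent K s') :
    ∃ A : V ≃ₗ[K] V, ∀ i, A (s i) = s' i := by
  obtain ⟨q, hq⟩ := Submodule.exists_isCompl (Submodule.span K (Set.range s))
  obtain ⟨q', hq'⟩ := Submodule.exists_isCompl (Submodule.span K (Set.range s'))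
  have h1 := Submodule.finrank_add_eq_of_isCompl hq
  have h2 := Submodule.finrank_add_eq_of_isCompl hq'
  rw [finrank_span_eq_card hs] at h1
  rw [finrank_span_eq_card hs'] at h2
  let e0 : Submodule.span K (Set.range s) ≃ₗ[K] Submodule.span K (Set.range s') :=
    (Module.Basis.span hs).equiv (Module.Basis.span hs') (Equiv.refl ι)
  let e1 : q ≃ₗ[K] q' := LinearEquiv.ofFinrankEq q q' (by omega)
  refine ⟨(Submodule.prodEquivOfIsCompl _ _ hq).symm.trans
    ((e0.prodCongr e1).trans (Submodule.prodEquivOfIsCompl _ _ hq')), fun i => ?_⟩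
  have hmem : s i ∈ Submodule.span K (Set.range s) := Submodule.subset_span ⟨i, rfl⟩
  have he : e0 ⟨s i, hmem⟩ = ⟨s' i, Submodule.subset_span ⟨i, rfl⟩⟩ := by
    have hb : (⟨s i, hmem⟩ : Submodule.span K (Set.range s)) = (Module.Basis.span hs) i :=
      (Module.Basis.span_apply hs i).symm
    rw [hb]
    show (Module.Basis.span hs).equiv (Module.Basis.span hs') (Equiv.refl ι) _ = _
    rw [Module.Basis.equiv_apply]
    exact Module.Basis.span_apply hs' i
  have hp : (Submodule.prodEquivOfIsCompl _ _ hq).symm (s i) =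
      ((⟨s i, hmem⟩ : Submodule.span K (Set.range s)), (0 : q)) := by
    rw [LinearEquiv.symm_apply_eq]
    simp
  simp [hp, he]

theorem li_two {d : ℕ} {u v : Fin d → ZMod 2} (hu : u ≠ 0) (hv : v ≠ 0) (huv : u ≠ v) :
    LinearIndependent (ZMod 2) ![u, v] := by
  rw [LinearIndependent.pair_iff]
  intro a b h
  have h01 : ∀ a : ZMod 2, a = 0 ∨ a = 1 := by decide
  rcases h01 a with rfl | rfl <;> rcases h01 b with rfl | rfl
  · exact ⟨rfl, rfl⟩
  · simp at h; exact absurd h hv
  · simp at h; exact absurd h hu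
  · exfalso
    apply huv
    funext i
    have h2 := congrFun h i
    simp at h2
    exact CharTwo.add_eq_zero.mp h2

theorem pair_map {d : ℕ} (u v u' v' : Fin d → ZMod 2) (h1 : u = 0 ↔ u' = 0) (h2 : v = 0 ↔ v' = 0)
    (h3 : u = v ↔ u' = v') :
    ∃ A : (Fin d → ZMod 2) ≃ₗ[ZMod 2] (Fin d → ZMod 2), A u = u' ∧ A v = v' := by
  have single : ∀ x x' : Fin d → ZMod 2, x ≠ 0 → x' ≠ 0 →
      ∃ A : (Fin d → ZMod 2) ≃ₗ[ZMod 2] (Fin d → ZMod 2), A x = x' := by
    intro x x' hx hx'
    obtain ⟨A, hA⟩ := extend_li ![x] ![x'] ((linearIndependent_unique_iff (R := ZMod 2) (v := ![x])).mpr hx)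
      ((linearIndependent_unique_iff (R := ZMod 2) (v := ![x'])).mpr hx')
    exact ⟨A, hA 0⟩
  by_cases hu : u = 0
  · subst hu
    rw [h1.mp rfl]
    by_cases hv : v = 0
    · subst hv
      exact ⟨LinearEquiv.refl _ _, rfl, (h2.mp rfl).symm⟩
    · obtain ⟨A, hA⟩ := single v v' hv (h2.not.mp hv)
      exact ⟨A, map_zero _, hA⟩
  · by_cases hv : v = 0
    · subst hv
      obtain ⟨A, hA⟩ := single u u' hu (h1.not.mp hu)
      exact ⟨A, hA, by rw [map_zero, h2.mp rfl]⟩
    · by_cases huv : u = v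
      · obtain ⟨A, hA⟩ := single u u' hu (h1.not.mp hu)
        exact ⟨A, hA, by rw [← huv, hA, h3.mp huv]⟩
      · obtain ⟨A, hA⟩ := extend_li ![u, v] ![u', v'] (li_two hu hv huv)
          (li_two (h1.not.mp hu) (h2.not.mp hv) (h3.not.mp huv))
        exact ⟨A, hA 0, hA 1⟩

/-- For d ≥ 3, the 3-closure of the affine group AGL_d(2) acting on F_2^d is the full symmetric group: every permutation of F_2^d agrees on every ordered triple of points with some affine map (AGL_d(2) is 3-transitive). -/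
theorem result (d : ℕ) (hd : 3 ≤ d) (σ : Equiv.Perm (Fin d → ZMod 2)) (t : Fin 3 → (Fin d → ZMod 2)) :
    ∃ (A : (Fin d → ZMod 2) ≃ₗ[ZMod 2] (Fin d → ZMod 2)) (b : Fin d → ZMod 2), ∀ i, σ (t i) = A (t i) + b := by
  have e1 : ∀ i j, t i - t j = 0 ↔ σ (t i) - σ (t j) = 0 := fun i j => by
    rw [sub_eq_zero, sub_eq_zero]; exact σ.injective.eq_iff.symm
  obtain ⟨A, h1, h2⟩ := pair_map (t 1 - t 0) (t 2 - t 0) (σ (t 1) - σ (t 0)) (σ (t 2) - σ (t 0))
    (e1 1 0) (e1 2 0) (by rw [sub_left_inj, sub_left_inj]; exact σ.injective.eq_iff.symm)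
  refine ⟨A, σ (t 0) - A (t 0), fun i => ?_⟩
  rw [map_sub] at h1 h2
  fin_cases i
  · simp
  · show σ (t 1) = A (t 1) + (σ (t 0) - A (t 0))
    linear_combination (norm := abel) -h1
  · show σ (t 2) = A (t 2) + (σ (t 0) - A (t 0))
    linear_combination (norm := abel) -h2

end Cfsg.Agent.S3517
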