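import Cfsg.Statements.S3518
-- import your own Cfsg.Agent.* helpers here

set_option autoImplicit false
open Cfsg

namespace Cfsg.Agent.S3518

open Finset Polynomial in
theorem sum_eval {p : ℕ} [Fact p.Prime] (F : (ZMod p)[X]) (hF : F.natDegree ≤ p - 1) :
    ∑ x : ZMod p, F.eval x = - F.coeff (p - 1) := by
  have hp := (Fact.out : p.Prime).two_le
  have h1 : ∀ x : ZMod p, F.eval x = ∑ i ∈ range p, F.coeff i * x ^ i :=
    fun x => eval_eq_sum_range' (by omega) x
  simp only [h1]
  rw [sum_comm]
  simp only [← mul_sum]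
  rw [sum_eq_single (p - 1)]
  · have h2 : ∑ x : ZMod p, x ^ (p - 1) = -1 := by
      rw [← add_sum_erase univ _ (mem_univ (0 : ZMod p)), zero_pow (by omega), zero_add,
        sum_congr rfl (fun x hx => ZMod.pow_card_sub_one_eq_one (ne_of_mem_erase hx)), sum_const, card_erase_of_mem (mem_univ _),
        card_univ, ZMod.card, nsmul_one, Nat.cast_sub (by omega), ZMod.natCast_self]
      simp
    rw [h2, mul_neg_one]
  · intro i hi hne
    rw [FiniteField.sum_pow_lt_card_sub_one (ZMod p) i (by
      rw [ZMod.card]; have := mem_range.mp hi; omega), mul_zero]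
  · intro h; exact absurd (mem_range.mpr (by omega)) h

open Finset Polynomial in
theorem few_directions {p : ℕ} [Fact p.Prime] (hp3 : 3 ≤ p) (f : ZMod p → ZMod p)
    (S : Finset (ZMod p)) (hS : p + 1 ≤ 2 * S.card)
    (hbij : ∀ c ∈ S, Function.Bijective fun x => f x + c * x) :
    ∃ a b, ∀ x, f x = a * x + b := by
  classical
  have hp : p.Prime := Fact.out
  have hodd : p % 2 = 1 := Nat.odd_iff.mp (hp.odd_of_ne_two (by omega))
  have hvan : ∀ i j, 2 * (i + j) ≤ p - 1 → ∑ x : ZMod p, x ^ i * f x ^ j = 0 := by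
    intro i j hij
    set k := i + j with hk
    let P : (ZMod p)[X] := ∑ x : ZMod p, ∑ m ∈ range (k + 1),
      C ((k.choose m : ZMod p) * x ^ m * f x ^ (k - m)) * X ^ m
    have hev : ∀ c, P.eval c = ∑ x : ZMod p, (c * x + f x) ^ k := by
      intro c
      simp only [P, eval_finset_sum, eval_mul, eval_C, eval_pow, eval_X, add_pow, mul_pow]
      refine sum_congr rfl fun x _ => sum_congr rfl fun m _ => ?_
      ring
    have hdeg : P.natDegree ≤ k := by
      refine natDegree_sum_le_of_forall_le _ _ fun x _ => natDegree_sum_le_of_forall_le _ _ fun m hm => ?_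
      exact (natDegree_C_mul_X_pow_le _ m).trans (by have := mem_range.mp hm; omega)
    have hP : P = 0 := by
      refine eq_zero_of_natDegree_lt_card_of_eval_eq_zero' P S (fun c hc => ?_) (by omega)
      rw [hev]
      have h := (hbij c hc).sum_comp (fun y : ZMod p => y ^ k)
      simp only [add_comm (c * _) (f _)]
      rw [h]
      exact FiniteField.sum_pow_lt_card_sub_one (ZMod p) k (by rw [ZMod.card]; omega)
    have hc : P.coeff i = 0 := by rw [hP]; simp
    simp only [P, finset_sum_coeff, coeff_C_mul, coeff_X_pow, mul_ite, mul_one, mul_zero,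
      sum_ite_eq, mem_range, show i < k + 1 by omega, if_true, show k - i = j by omega,
      mul_assoc, ← mul_sum] at hc
    refine (mul_eq_zero.mp hc).resolve_left ?_
    intro h0
    rw [ZMod.natCast_eq_zero_iff] at h0
    have h1 : p ∣ k.factorial := by
      rw [← Nat.choose_mul_factorial_mul_factorial (show i ≤ k by omega), mul_assoc]
      exact h0.mul_right _
    have := (Nat.Prime.dvd_factorial hp).mp h1
    omega
  let F : (ZMod p)[X] := Lagrange.interpolate univ id f
  have hFev : ∀ x, F.eval x = f x := fun x =>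
    Lagrange.eval_interpolate_at_node f Function.injective_id.injOn (mem_univ x)
  have hFd : F.natDegree ≤ p - 1 := by
    have := Lagrange.degree_interpolate_le (r := f) (s := univ) (v := id) Function.injective_id.injOn
    rw [card_univ, ZMod.card] at this
    exact natDegree_le_of_degree_le this
  rcases le_or_gt F.natDegree 1 with h1 | h2
  · obtain ⟨a, b, hab⟩ : ∃ a b, F = C a * X + C b := ⟨_, _, eq_X_add_C_of_natDegree_le_one h1⟩
    exact ⟨a, b, fun x => by rw [← hFev, hab]; simp⟩
  exfalso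
  have hF0 : F ≠ 0 := fun h => by simp [h] at h2
  set n := F.natDegree with hn
  obtain ⟨i, j, hij, hb⟩ : ∃ i j, i + j * n = p - 1 ∧ 2 * (i + j) ≤ p - 1 := by
    by_cases hbig : p + 1 ≤ 2 * n
    · exact ⟨p - 1 - n, 1, by omega, by omega⟩
    · refine ⟨(p - 1) % n, (p - 1) / n, by rw [mul_comm]; exact Nat.mod_add_div _ _, ?_⟩
      have hr : (p - 1) % n < n := Nat.mod_lt _ (by omega)
      have e := Nat.mod_add_div (p - 1) n
      have hj : 2 ≤ (p - 1) / n := by rw [Nat.le_div_iff_mul_le (by omega)]; omega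
      rcases (show n = 2 ∨ 3 ≤ n by omega) with hh | hh
      · rw [hh] at *; omega
      · generalize (p - 1) / n = J at *
        generalize (p - 1) % n = I at *
        nlinarith
  have hd : (X ^ i * F ^ j).natDegree = p - 1 := by
    rw [natDegree_mul (pow_ne_zero _ X_ne_zero) (pow_ne_zero _ hF0), natDegree_X_pow, natDegree_pow,
      ← hn, hij]
  have := sum_eval (X ^ i * F ^ j) hd.le
  simp only [eval_mul, eval_pow, eval_X, hFev, hvan i j hb] at this
  rw [← hd] at this
  have hl : (X ^ i * F ^ j).leadingCoeff = 0 := by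
    rw [leadingCoeff]; exact neg_eq_zero.mp this.symm
  rw [leadingCoeff_eq_zero] at hl
  exact (mul_ne_zero (pow_ne_zero _ X_ne_zero) (pow_ne_zero _ hF0)) hl

/-- slopes of the members of `G` -/
def slopes {p : ℕ} [Fact p.Prime] (G : Subgroup (Equiv.Perm (ZMod p))) : Subgroup (ZMod p)ˣ where
  carrier := {a | ∃ g ∈ G, ∃ b : ZMod p, ∀ x, g x = (a : ZMod p) * x + b}
  one_mem' := ⟨1, G.one_mem, 0, fun x => by simp⟩
  mul_mem' := by
    rintro a c ⟨g, hg, b, hgb⟩ ⟨h, hh, d, hhd⟩
    exact ⟨g * h, G.mul_mem hg hh, (a : ZMod p) * d + b, fun x => by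
      simp [hgb, hhd]; ring⟩
  inv_mem' := by
    rintro a ⟨g, hg, b, hgb⟩
    refine ⟨g⁻¹, G.inv_mem hg, -((a⁻¹ : (ZMod p)ˣ) : ZMod p) * b, fun x => ?_⟩
    apply g.injective
    rw [Equiv.Perm.inv_def, Equiv.apply_symm_apply, hgb]
    have : (a : ZMod p) * ((a⁻¹ : (ZMod p)ˣ) : ZMod p) = 1 := a.mul_inv
    linear_combination (-x + b) * this

theorem mem_of_slope {p : ℕ} [Fact p.Prime] (G : Subgroup (Equiv.Perm (ZMod p)))
    (htrans : ∀ b : ZMod p, ∃ g ∈ G, ∀ x, g x = x + b) (σ : Equiv.Perm (ZMod p))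
    (a : (ZMod p)ˣ) (ha : a ∈ slopes G) (b : ZMod p) (hσ : ∀ x, σ x = (a : ZMod p) * x + b) :
    σ ∈ G := by
  obtain ⟨g, hg, c, hgc⟩ := ha
  obtain ⟨t, ht, htt⟩ := htrans (b - c)
  have : σ = t * g := Equiv.ext fun x => by simp [hσ, hgc, htt]
  rw [this]; exact G.mul_mem ht hg

/-- Closures of subgroups of the one-dimensional affine group. Let p be a prime and G a group of permutations of F_p lying in the affine group AGL₁(p) = {x ↦ ax + b, a ≠ 0} and containing all translations. (1) If G is a proper subgroup of AGL₁(p), then G is 2-closed: a permutation of F_p agreeing on every ordered pair of points with some element of G lies in G. (2) Every permutation of F_p agrees on every ordered pair with some element of AGL₁(p) (the 2-closure of AGL₁(p) is the symmetric group). (3) AGL₁(p) is 3-closed: a permutation agreeing on every ordered triple with some affine map is affine. -/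
theorem result (p : ℕ) [Fact p.Prime] (G : Subgroup (Equiv.Perm (ZMod p))) (hG : G ≤ Cfsg.affineGroup (ZMod p))
    (htrans : ∀ b : ZMod p, ∃ g ∈ G, ∀ x, g x = x + b) :
    (G ≠ Cfsg.affineGroup (ZMod p) → ∀ σ : Equiv.Perm (ZMod p), (∀ t : Fin 2 → ZMod p, ∃ g ∈ G, ∀ i, σ (t i) = g (t i)) → σ ∈ G) ∧
    (∀ σ : Equiv.Perm (ZMod p), (∀ t : Fin 2 → ZMod p, ∃ g ∈ Cfsg.affineGroup (ZMod p), ∀ i, σ (t i) = g (t i))) ∧
    (∀ σ : Equiv.Perm (ZMod p), (∀ t : Fin 3 → ZMod p, ∃ g ∈ Cfsg.affineGroup (ZMod p), ∀ i, σ (t i) = g (t i)) → σ ∈ Cfsg.affineGroup (ZMod p)) := by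
  classical
  have hp : p.Prime := Fact.out
  refine ⟨fun hne σ hσ => ?_, fun σ t => ?_, fun σ hσ => ?_⟩
  · obtain ⟨u, hu⟩ : ∃ u : (ZMod p)ˣ, u ∉ slopes G := by
      by_contra hc
      push Not at hc
      exact hne (le_antisymm hG fun τ ⟨a, b, hτ⟩ => mem_of_slope G htrans τ a (hc a) b hτ)
    have hp3 : 3 ≤ p := by
      rcases hp.two_le.eq_or_lt with h | h
      · exfalso
        have hc : Fintype.card (ZMod p)ˣ = 1 := by rw [ZMod.card_units]; omega
        exact hu (by rw [Fintype.card_le_one_iff.mp hc.le u 1]; exact (slopes G).one_mem)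
      · omega
    have hA : 2 * Nat.card (slopes G) ≤ p - 1 := by
      have h1 : Nat.card (ZMod p)ˣ = p - 1 := by rw [Nat.card_eq_fintype_card, ZMod.card_units]
      have h2 := (slopes G).index_mul_card
      have h3 : 2 ≤ (slopes G).index := by
        by_contra h
        have h4 : (slopes G).index ≠ 0 := Subgroup.index_ne_zero_of_finite
        have : (slopes G).index = 1 := by omega
        exact hu (by rw [Subgroup.index_eq_one.mp this]; exact Subgroup.mem_top u)
      rw [← h1, ← h2]
      exact Nat.mul_le_mul_right _ h3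
    have hdir : ∀ x y : ZMod p, x ≠ y → ∃ a ∈ slopes G, σ x - σ y = (a : ZMod p) * (x - y) := by
      intro x y _
      obtain ⟨g, hg, hgt⟩ := hσ ![x, y]
      obtain ⟨a, b, hab⟩ := hG hg
      refine ⟨a, ⟨g, hg, b, hab⟩, ?_⟩
      have e0 : σ x = g x := hgt 0
      have e1 : σ y = g y := hgt 1
      rw [e0, e1, hab, hab]; ring
    let D : Finset (ZMod p) :=
      (Finset.univ.filter fun a : (ZMod p)ˣ => a ∈ slopes G).image fun a : (ZMod p)ˣ => -(a : ZMod p)
    have hD : D.card ≤ Nat.card (slopes G) := by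
      refine Finset.card_image_le.trans ?_
      rw [Nat.card_eq_fintype_card, Fintype.card_subtype]
    obtain ⟨a, b, hab⟩ := few_directions hp3 σ Dᶜ (by
      rw [Finset.card_compl, ZMod.card]; omega) (fun c hc => by
      rw [← Finite.injective_iff_bijective]
      intro x y hxy
      by_contra hne'
      obtain ⟨a, ha, h⟩ := hdir x y hne'
      simp only [Finset.mem_compl, D, Finset.mem_image, Finset.mem_filter, Finset.mem_univ,
        true_and, not_exists, not_and] at hc
      refine hc a ha ?_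
      have hz : ((a : ZMod p) + c) * (x - y) = 0 := by
        simp only at hxy
        linear_combination hxy - h
      have := (mul_eq_zero.mp hz).resolve_right (sub_ne_zero.mpr hne')
      linear_combination -this)
    obtain ⟨a', ha', h⟩ := hdir 1 0 one_ne_zero
    have : a = (a' : ZMod p) := by
      rw [hab, hab] at h; linear_combination h
    exact mem_of_slope G htrans σ a' ha' b fun x => by rw [hab, this]
  · by_cases h : t 0 = t 1
    · refine ⟨Equiv.addRight (σ (t 0) - t 0), ⟨1, σ (t 0) - t 0, fun x => by simp⟩, fun i => ?_⟩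
      fin_cases i <;> simp [h]
    · have hd : t 1 - t 0 ≠ 0 := sub_ne_zero.mpr (Ne.symm h)
      have hs : (σ (t 1) - σ (t 0)) / (t 1 - t 0) ≠ 0 :=
        div_ne_zero (sub_ne_zero.mpr fun e => h (σ.injective e).symm) hd
      set a := (σ (t 1) - σ (t 0)) / (t 1 - t 0) with ha
      refine ⟨(Equiv.mulLeft₀ a hs).trans (Equiv.addRight (σ (t 0) - a * t 0)),
        ⟨Units.mk0 a hs, σ (t 0) - a * t 0, fun x => by simp⟩, fun i => ?_⟩
      have he : a * (t 1 - t 0) = σ (t 1) - σ (t 0) := by rw [ha, div_mul_cancel₀ _ hd]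
      fin_cases i
      · simp
      · simp only [Fin.mk_one, Equiv.trans_apply, Equiv.mulLeft₀_apply, Equiv.coe_addRight]
        linear_combination -he
  · obtain ⟨g, ⟨a, b, hab⟩, hg⟩ := hσ ![0, 1, 0]
    refine ⟨a, b, fun x => ?_⟩
    obtain ⟨g', ⟨a', b', hab'⟩, hg'⟩ := hσ ![0, 1, x]
    have e0 : σ 0 = g 0 := hg 0
    have e1 : σ 1 = g 1 := hg 1
    have f0 : σ 0 = g' 0 := hg' 0
    have f1 : σ 1 = g' 1 := hg' 1
    have f2 : σ x = g' x := hg' 2
    rw [hab] at e0 e1; rw [hab'] at f0 f1 f2
    linear_combination f2 - f0 + e0 + x * (e1 - f1 - e0 + f0)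

end Cfsg.Agent.S3518
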