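import Cfsg.Statements.S3520
import Cfsg.Agent.Lib.Struct.DerangeClasses

set_option autoImplicit false
open Cfsg
open Cfsg.Agent.Struct

namespace Cfsg.Agent.S3520

/-- Let a finite group G act faithfully and primitively on a finite set Ω with at least two points, suppose G is not almost simple (no non-abelian simple normal subgroup with trivial centralizer), and suppose the derangements of G form exactly two conjugacy classes. Then either Ω has 3 points and G has order 3; or G has a non-trivial abelian normal subgroup N acting regularly, every non-identity element of G fixes at most one point (so, when n > 3, G is a Frobenius group with kernel N), the number n of points is odd and a point stabilizer has order (n − 1)/2; or G is 2-transitive with a non-trivial abelian regular normal subgroup and some non-identity element fixes at least two points (a non-Frobenius 2-transitive affine group). -/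
theorem result {G : Type*} [Group G] [Finite G] {Ω : Type*} [Fintype Ω] [MulAction G Ω] [FaithfulSMul G Ω] (hΩ : 2 ≤ Fintype.card Ω) (hprim : MulAction.IsPreprimitive G Ω) (hnas : ¬ ∃ T : Subgroup G, T.Normal ∧ IsSimpleGroup T ∧ ¬ IsMulCommutative T ∧ Subgroup.centralizer (T : Set G) = ⊥)
    (hκ : Nat.card {c : ConjClasses G // ∃ g : G, ConjClasses.mk g = c ∧ ∀ ω : Ω, g • ω ≠ ω} = 2) (α : Ω) :
    (Fintype.card Ω = 3 ∧ Nat.card G = 3) ∨
    ((∃ N : Subgroup G, N.Normal ∧ N ≠ ⊥ ∧ IsMulCommutative N ∧ ∀ ω : Ω, MulAction.stabilizer N ω = ⊥) ∧ (∀ g : G, g ≠ 1 → Nat.card (MulAction.fixedBy Ω g) ≤ 1) ∧ ¬ 2 ∣ Fintype.card Ω ∧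
        2 * Nat.card (MulAction.stabilizer G α) = Fintype.card Ω - 1) ∨
    ((∃ N : Subgroup G, N.Normal ∧ N ≠ ⊥ ∧ IsMulCommutative N ∧ ∀ ω : Ω, MulAction.stabilizer N ω = ⊥) ∧ MulAction.IsMultiplyPretransitive G Ω 2 ∧ ∃ g : G, g ≠ 1 ∧ 2 ≤ Nat.card (MulAction.fixedBy Ω g)) := by
  classical
  haveI : Nontrivial Ω := Fintype.one_lt_card_iff_nontrivial.1 hΩ
  obtain ⟨N, hN, hne, hab, hreg⟩ :=
    Derange.affine_of_card_le_two hprim hnas hκ.le
  haveI := hN
  have hN3 : ∃ N : Subgroup G, N.Normal ∧ N ≠ ⊥ ∧ IsMulCommutative N ∧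
      ∀ ω : Ω, MulAction.stabilizer N ω = ⊥ :=
    ⟨N, hN, hne, ⟨⟨fun x y => Subtype.ext (hab x x.2 y y.2)⟩⟩, fun w =>
      (Subgroup.eq_bot_iff_forall _).2 fun x hx => Subtype.ext (hreg x x.2 w hx)⟩
  haveI : Finite {c : ConjClasses G // ∃ g : G, ConjClasses.mk g = c ∧ ∀ ω : Ω, g • ω ≠ ω} :=
    Nat.finite_of_card_ne_zero (by omega)
  have htr := Derange.transitive_of_normal hprim N hne
  have hnofix : ∀ x ∈ N, x ≠ 1 → Derange.NoFix Ω x := fun x hx hx1 w hw => hx1 (hreg x hx w hw)
  have hfixle : (∀ g : G, g ≠ 1 → ∀ a b : Ω, a ≠ b → g • a = a → g • b ≠ b) →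
      ∀ g : G, g ≠ 1 → Nat.card (MulAction.fixedBy Ω g) ≤ 1 := fun h g hg =>
    Finite.card_le_one_iff_subsingleton.2 ⟨fun ⟨a, ha⟩ ⟨b, hb⟩ => Subtype.ext (by
      by_contra hab'
      exact h g hg a b hab' ha hb)⟩
  by_cases hconj : ∀ x ∈ N, ∀ y ∈ N, x ≠ 1 → y ≠ 1 → IsConj x y
  · refine Or.inr (Or.inr ⟨hN3, Derange.two_transitive_of_isConj hprim N hne hab hconj, ?_⟩)
    by_contra hcon
    push Not at hcon
    have hfix : ∀ g : G, g ≠ 1 → ∀ a b : Ω, a ≠ b → g • a = a → g • b ≠ b := by
      intro g hg a b hne' ha hb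
      have h1 := hcon g hg
      haveI : Subsingleton (MulAction.fixedBy Ω g) :=
        Finite.card_le_one_iff_subsingleton.1 (by omega)
      exact hne' (congrArg Subtype.val
        (Subsingleton.elim (⟨a, ha⟩ : MulAction.fixedBy Ω g) ⟨b, hb⟩))
    have hmem := Derange.mem_of_noFix hprim N hne hreg hfix
    haveI : Subsingleton {c : ConjClasses G // ∃ g : G, ConjClasses.mk g = c ∧ ∀ ω : Ω, g • ω ≠ ω} := by
      refine ⟨?_⟩
      rintro ⟨_, g, rfl, hg⟩ ⟨_, g', rfl, hg'⟩
      exact Subtype.ext (ConjClasses.mk_eq_mk_iff_isConj.2 (hconj g (hmem g hg) g' (hmem g' hg')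
        (Derange.NoFix.ne_one hg) (Derange.NoFix.ne_one hg')))
    have := Finite.card_le_one_iff_subsingleton.2 ‹Subsingleton {c : ConjClasses G // ∃ g : G,
      ConjClasses.mk g = c ∧ ∀ ω : Ω, g • ω ≠ ω}›
    omega
  push Not at hconj
  obtain ⟨x, hx, y, hy, hx1, hy1, hxy⟩ := hconj
  have hcase : ∀ d : G, Derange.NoFix Ω d → IsConj x d ∨ IsConj y d := by
    intro d hd
    by_contra hcon
    push Not at hcon
    have := Derange.three_le_card (hnofix x hx hx1) (hnofix y hy hy1) hd hxy hcon.1 hcon.2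
    omega
  have hall : ∀ d : G, Derange.NoFix Ω d → d ∈ N := by
    intro d hd
    rcases hcase d hd with h | h <;> obtain ⟨c, hc⟩ := isConj_iff.1 h
    · exact hc ▸ hN.conj_mem x hx c
    · exact hc ▸ hN.conj_mem y hy c
  have hfix := Derange.fix_le_one_of_noFix_mem hprim N hne hab hreg hall
  refine Or.inr (Or.inl ⟨hN3, hfixle hfix, ?_⟩)
  set H := MulAction.stabilizer G α with hH
  haveI := Fintype.ofFinite G
  let e : N → Ω := fun n => (n : G) • α
  have he : Function.Bijective e := by
    constructor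
    · intro u v huv
      have h1 := hreg _ (N.mul_mem (N.inv_mem v.2) u.2) α
        (by rw [mul_smul, show (u : G) • α = (v : G) • α from huv, inv_smul_smul])
      exact Subtype.ext (inv_mul_eq_one.1 h1).symm
    · intro w
      obtain ⟨n, hn, rfl⟩ := htr α w
      exact ⟨⟨n, hn⟩, rfl⟩
  have hcard : Fintype.card Ω = Nat.card N := by
    rw [Nat.card_congr (Equiv.ofBijective e he), Nat.card_eq_fintype_card]
  have hxy' : ∀ z : Bool, (if z then x else y) ∈ N ∧ (if z then x else y) ≠ 1 := fun z => by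
    cases z
    · exact ⟨hy, hy1⟩
    · exact ⟨hx, hx1⟩
  let F : H × Bool → {n : N // n ≠ 1} := fun z =>
    ⟨⟨(z.1 : G) * (if z.2 then x else y) * (z.1 : G)⁻¹, hN.conj_mem _ (hxy' z.2).1 _⟩,
      fun h1 => (hxy' z.2).2 (conj_eq_one_iff.1 (congrArg Subtype.val h1))⟩
  have hF : Function.Bijective F := by
    constructor
    · rintro ⟨h, z⟩ ⟨h', z'⟩ hzz
      have h1 : (h : G) * (if z then x else y) * (h : G)⁻¹ =
          (h' : G) * (if z' then x else y) * (h' : G)⁻¹ :=
        congrArg (fun n : {n : N // n ≠ 1} => ((n : N) : G)) hzz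
      have hz : z = z' := by
        cases z <;> cases z'
        · rfl
        · exfalso; apply hxy
          refine isConj_iff.2 ⟨(h : G)⁻¹ * h', ?_⟩
          simp only [if_true, Bool.false_eq_true, if_false] at h1
          calc (h : G)⁻¹ * h' * x * ((h : G)⁻¹ * h')⁻¹ = (h : G)⁻¹ * (h' * x * (h' : G)⁻¹) * h := by group
            _ = y := by rw [← h1]; group
        · exfalso; apply hxy
          refine isConj_iff.2 ⟨(h' : G)⁻¹ * h, ?_⟩
          simp only [if_true, Bool.false_eq_true, if_false] at h1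
          calc (h' : G)⁻¹ * h * x * ((h' : G)⁻¹ * h)⁻¹ = (h' : G)⁻¹ * (h * x * (h : G)⁻¹) * h' := by group
            _ = y := by rw [h1]; group
        · rfl
      subst hz
      set u := if z then x else y with hu
      refine Prod.ext (Subtype.ext ?_) rfl
      by_contra hne'
      have hk : ((h' : G)⁻¹ * h) * u = u * ((h' : G)⁻¹ * h) := by
        calc ((h' : G)⁻¹ * h) * u = (h' : G)⁻¹ * (h * u * (h : G)⁻¹) * h := by group
          _ = u * ((h' : G)⁻¹ * h) := by rw [h1]; group
      have hkα : ((h' : G)⁻¹ * h) • α = α := by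
        exact MulAction.mem_stabilizer_iff.1 (H.mul_mem (H.inv_mem h'.2) h.2)
      refine hfix _ (fun e1 => hne' (inv_mul_eq_one.1 e1).symm) α (u • α) ?_ hkα ?_
      · exact fun e1 => hnofix u (hxy' z).1 (hxy' z).2 α e1.symm
      · rw [← mul_smul, hk, mul_smul, hkα]
    · rintro ⟨⟨n, hn⟩, hn1⟩
      have hn1' : n ≠ 1 := fun e => hn1 (Subtype.ext e)
      have key : ∀ z : Bool, IsConj (if z then x else y) n →
          ∃ w, F w = (⟨⟨n, hn⟩, hn1⟩ : {n : N // n ≠ 1}) := by
        intro z hz
        obtain ⟨g, hg⟩ := isConj_iff.1 hz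
        obtain ⟨m, hm, hmα⟩ := htr α (g • α)
        refine ⟨⟨⟨m⁻¹ * g, MulAction.mem_stabilizer_iff.2
          (by rw [mul_smul, ← hmα, inv_smul_smul])⟩, z⟩, Subtype.ext (Subtype.ext ?_)⟩
        show m⁻¹ * g * (if z then x else y) * (m⁻¹ * g)⁻¹ = n
        calc m⁻¹ * g * (if z then x else y) * (m⁻¹ * g)⁻¹ =
              m⁻¹ * (g * (if z then x else y) * g⁻¹) * m := by group
          _ = n := by rw [hg, mul_assoc, hab n hn m hm, inv_mul_cancel_left]
      rcases hcase n (hnofix n hn hn1') with h | h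
      · exact key true h
      · exact key false h
  have h2 : Nat.card H * 2 = Nat.card N - 1 := by
    have := Nat.card_congr (Equiv.ofBijective F hF)
    rw [Nat.card_prod, Nat.card_eq_fintype_card (α := Bool), Fintype.card_bool] at this
    rw [this, Nat.card_eq_fintype_card, Nat.card_eq_fintype_card, Fintype.card_subtype_compl,
      Fintype.card_subtype_eq]
  have hpos : 0 < Nat.card N := Nat.card_pos
  rw [hcard]
  constructor
  · omega
  · omega

end Cfsg.Agent.S3520
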