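import Cfsg.Statements.S3524
import Mathlib

set_option autoImplicit false
open Cfsg

namespace Cfsg.Agent.S3524

/-- A permutation group with a base is closed at one level above the base size. Let G be a group of permutations of a set Ω and suppose some k points α₁, …, α_k are fixed simultaneously only by the identity of G (a base of size k). Then G is (k+1)-closed: a permutation of Ω that agrees on every (k+1)-tuple of points with some element of G belongs to G. -/
theorem result {Ω : Type*} (G : Subgroup (Equiv.Perm Ω)) (k : ℕ) (α : Fin k → Ω)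
    (hbase : ∀ g ∈ G, (∀ i, g (α i) = α i) → g = 1) (σ : Equiv.Perm Ω)
    (hσ : ∀ t : Fin (k + 1) → Ω, ∃ g ∈ G, ∀ i, σ (t i) = g (t i)) : σ ∈ G := by
  by_cases hΩ : Nonempty Ω
  · obtain ⟨x0⟩ := hΩ
    obtain ⟨g, hg, hg0⟩ := hσ (Fin.snoc α x0)
    have h0 : ∀ i, σ (α i) = g (α i) := fun i => by
      have := hg0 i.castSucc
      rwa [Fin.snoc_castSucc] at this
    have : σ = g := by
      refine Equiv.ext fun x => ?_
      obtain ⟨g', hg', hgx⟩ := hσ (Fin.snoc α x)
      have h1 : g⁻¹ * g' = 1 := by
        refine hbase _ (mul_mem (inv_mem hg) hg') fun i => ?_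
        have := hgx i.castSucc
        rw [Fin.snoc_castSucc, h0 i] at this
        show g.symm (g' (α i)) = α i
        rw [← this, Equiv.symm_apply_apply]
      have h2 := hgx (Fin.last k)
      rw [Fin.snoc_last] at h2
      rw [inv_mul_eq_one] at h1
      rw [h2, h1]
    exact this ▸ hg
  · haveI := not_nonempty_iff.1 hΩ
    rw [Subsingleton.elim σ 1]
    exact one_mem _

end Cfsg.Agent.S3524
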