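import Cfsg.Statements.S3532
import Cfsg.Agent.S2475
import Cfsg.Agent.Lib.Classical.DicksonSolvable
import Mathlib.FieldTheory.Finite.GaloisField

set_option autoImplicit false
open Cfsg

open Cfsg.Agent.Classical
open scoped MatrixGroups

namespace Cfsg.Agent.S3532Aux
set_option linter.unusedSectionVars false

/-- The affine maps with multiplier killed by `c`. -/
def affC (K : Type) [Field K] [DecidableEq K] (c : ℕ) : Subgroup (PGL(2, K)) where
  carrier := {g | ∃ (s : Kˣ) (a : K), s ^ c = 1 ∧ g = Dickson.aff s a}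
  one_mem' := ⟨1, 0, one_pow c, Dickson.aff_one.symm⟩
  mul_mem' := by
    rintro _ _ ⟨s, a, hs, rfl⟩ ⟨t, b, ht, rfl⟩
    exact ⟨s * t, _, by rw [mul_pow, hs, ht, one_mul], Dickson.aff_mul s t a b⟩
  inv_mem' := by
    rintro _ ⟨s, a, hs, rfl⟩
    exact ⟨s⁻¹, _, by rw [inv_pow, hs, inv_one], Dickson.aff_inv s a⟩

theorem affC_orders {K : Type} [Field K] [DecidableEq K] [Fintype K] (p : ℕ) [Fact p.Prime] [CharP K p] {c : ℕ}
    (hc : c ∣ Nat.card K - 1) (m : ℕ) :
    (∃ g : affC K c, orderOf g = m) ↔ m ∣ p ∨ m ∣ c := by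
  have hp : p.Prime := Fact.out
  let D : Kˣ →* PGL(2, K) := MonoidHom.mk' (fun s => Dickson.aff s 0) fun s t => by simp [Dickson.aff_mul]
  have hD : Function.Injective D := fun s t h => (Dickson.aff_eq_iff.1 h).1
  constructor
  · rintro ⟨⟨_, s, a, hs, rfl⟩, rfl⟩
    rw [← Subgroup.orderOf_coe]; dsimp only
    by_cases h1 : s = 1
    · subst h1
      left
      apply orderOf_dvd_of_pow_eq_one
      rw [Dickson.aff_pow, CharP.cast_eq_zero, zero_mul, Dickson.aff_one]
    · right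
      set r : K := a / ((s : K) - 1) with hr
      have h1' : (s : K) - 1 ≠ 0 := sub_ne_zero.2 fun e => h1 (Units.ext e)
      have hsc : SemiconjBy (Dickson.aff 1 r) (Dickson.aff s a) (D s) := by
        show Dickson.aff 1 r * Dickson.aff s a = Dickson.aff s 0 * Dickson.aff 1 r
        rw [Dickson.aff_mul, Dickson.aff_mul, Dickson.aff_eq_iff]
        refine ⟨mul_comm _ _, ?_⟩
        rw [hr, Units.val_one]
        field_simp
        ring
      rw [hsc.orderOf_eq, orderOf_injective D hD]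
      exact orderOf_dvd_of_pow_eq_one hs
  · rintro (h | h)
    · rcases (Nat.dvd_prime hp).1 h with rfl | h
      · exact ⟨1, orderOf_one⟩
      · refine ⟨⟨Dickson.aff 1 1, 1, 1, one_pow c, rfl⟩, ?_⟩
        rw [← Subgroup.orderOf_coe, h]
        refine orderOf_eq_prime ?_ fun e => one_ne_zero (Dickson.aff_eq_one_iff.1 e).2
        rw [Dickson.aff_pow, CharP.cast_eq_zero, zero_mul, Dickson.aff_one]
    · obtain ⟨u, hu⟩ := IsCyclic.exists_ofOrder_eq_natCard (α := Kˣ)
      have hmu : m ∣ orderOf u := by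
        rw [hu, Nat.card_units]; exact h.trans hc
      have ho : orderOf (u ^ (orderOf u / m)) = m := orderOf_pow_orderOf_div (orderOf_pos u).ne' hmu
      refine ⟨⟨D (u ^ (orderOf u / m)), u ^ (orderOf u / m), 0, ?_, rfl⟩, ?_⟩
      · obtain ⟨k, rfl⟩ := h
        rw [pow_mul, orderOf_dvd_iff_pow_eq_one.1 (dvd_of_eq ho), one_pow]
      · rw [← Subgroup.orderOf_coe]; exact (orderOf_injective D hD _).trans ho

theorem affC_solvable (K : Type) [Field K] [DecidableEq K] (c : ℕ) : Group.IsSolvable (affC K c) := by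
  classical
  refine Dickson.isSolvable_fixing _ (x := (OnePoint.infty : OnePoint K)) ?_
  rintro _ ⟨s, a, -, rfl⟩
  exact Dickson.aff_smul_infty s a
end Cfsg.Agent.S3532Aux

open Cfsg.Agent.S3532Aux

namespace Cfsg.Agent.S3532

/-- Let q ≥ 4 be a prime power and L = PSL(2,q). There is a finite solvable group with the same set of element orders as L × L (so L × L is not determined by its spectrum). -/
theorem result {F : Type*} [Field F] [Fintype F] (hF : 4 ≤ Fintype.card F) :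
    ∃ (H : Type) (_ : Group H) (_ : Finite H), Group.IsSolvable H ∧
      Set.range (orderOf : H → ℕ) = Set.range (orderOf : Matrix.ProjectiveSpecialLinearGroup (Fin 2) F × Matrix.ProjectiveSpecialLinearGroup (Fin 2) F → ℕ) := by
  classical
  obtain ⟨p, hp⟩ := CharP.exists F
  obtain ⟨n, hpp, hn⟩ := FiniteField.card F p
  haveI : Fact p.Prime := ⟨hpp⟩
  set d := Nat.gcd 2 (Fintype.card F - 1)
  set a := (Fintype.card F - 1) / d with ha
  set b := (Fintype.card F + 1) / d with hb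
  let K1 := GaloisField p n
  let K2 := GaloisField p (2 * n)
  haveI : Fintype K1 := Fintype.ofFinite _
  haveI : Fintype K2 := Fintype.ofFinite _
  have c1 : Nat.card K1 = p ^ (n : ℕ) := GaloisField.card p n n.ne_zero
  have c2 : Nat.card K2 = p ^ (2 * (n : ℕ)) := GaloisField.card p _ (Nat.mul_ne_zero two_ne_zero n.ne_zero)
  have hda : a ∣ Nat.card K1 - 1 := by
    rw [c1, ← hn, ha]; exact Nat.div_dvd_of_dvd (Nat.gcd_dvd_right _ _)
  have hdb : b ∣ Nat.card K2 - 1 := by
    rw [c2, mul_comm 2, pow_mul, ← hn, hb]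
    refine (Nat.div_dvd_of_dvd ?_).trans ⟨Fintype.card F - 1, ?_⟩
    · have h1 := Nat.gcd_dvd_right 2 (Fintype.card F - 1)
      rcases (Nat.dvd_prime Nat.prime_two).1 (Nat.gcd_dvd_left 2 (Fintype.card F - 1)) with h | h
      · show d ∣ _
        rw [show d = 1 from h]; exact one_dvd _
      · show d ∣ _
        rw [show d = 2 from h]; rw [h] at h1; omega
    · simpa using Nat.sq_sub_sq (Fintype.card F) 1
  haveI : Finite (PGL(2, K1)) := inferInstanceAs (Finite (GL (Fin 2) K1 ⧸ Subgroup.center (GL (Fin 2) K1)))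
  haveI : Finite (PGL(2, K2)) := inferInstanceAs (Finite (GL (Fin 2) K2 ⧸ Subgroup.center (GL (Fin 2) K2)))
  haveI := affC_solvable K1 a
  haveI := affC_solvable K2 b
  refine ⟨affC K1 a × affC K2 b, inferInstance, inferInstance, inferInstance, ?_⟩
  have hS := Cfsg.Agent.S2475.result (F := F) p hF
  have hA := affC_orders (K := K1) p hda
  have hB := affC_orders (K := K2) p hdb
  have hL : ∀ m, (∃ g : Matrix.ProjectiveSpecialLinearGroup (Fin 2) F, orderOf g = m) ↔ (m ∣ p ∨ m ∣ a ∨ m ∣ b) := fun m =>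
    Set.ext_iff.1 hS m
  ext m
  constructor
  · rintro ⟨⟨x, y⟩, rfl⟩
    rw [Prod.orderOf_mk]
    obtain ⟨g, hg⟩ := (hL (orderOf x)).2 (((hA _).1 ⟨x, rfl⟩).imp id Or.inl)
    obtain ⟨k, hk⟩ := (hL (orderOf y)).2 (((hB _).1 ⟨y, rfl⟩).imp id Or.inr)
    exact ⟨(g, k), by rw [Prod.orderOf_mk, hg, hk]⟩
  · rintro ⟨⟨g, k⟩, rfl⟩
    rw [Prod.orderOf_mk]
    have hg := (hL (orderOf g)).1 ⟨g, rfl⟩
    have hk := (hL (orderOf k)).1 ⟨k, rfl⟩
    have key : ∀ u v, (u ∣ p ∨ u ∣ a) → (v ∣ p ∨ v ∣ b) →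
        Nat.lcm u v ∈ Set.range (orderOf : affC K1 a × affC K2 b → ℕ) := fun u v hu hv => by
      obtain ⟨x, hx⟩ := (hA u).2 hu
      obtain ⟨y, hy⟩ := (hB v).2 hv
      exact ⟨(x, y), by rw [Prod.orderOf_mk, hx, hy]⟩
    rcases hg with hg | hg | hg <;> rcases hk with hk | hk | hk
    · exact key _ _ (Or.inl hg) (Or.inl hk)
    · rw [Nat.lcm_comm]; exact key _ _ (Or.inr hk) (Or.inl hg)
    · exact key _ _ (Or.inl hg) (Or.inr hk)
    · exact key _ _ (Or.inr hg) (Or.inl hk)
    · have := key _ 1 (Or.inr (Nat.lcm_dvd hg hk)) (Or.inl (one_dvd _))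
      rwa [Nat.lcm_one_right] at this
    · exact key _ _ (Or.inr hg) (Or.inr hk)
    · rw [Nat.lcm_comm]; exact key _ _ (Or.inl hk) (Or.inr hg)
    · rw [Nat.lcm_comm]; exact key _ _ (Or.inr hk) (Or.inr hg)
    · have := key 1 _ (Or.inl (one_dvd _)) (Or.inr (Nat.lcm_dvd hg hk))
      rwa [Nat.lcm_one_left] at this

end Cfsg.Agent.S3532
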