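import Cfsg.Statements.S3546
-- import your own Cfsg.Agent.* helpers here

set_option autoImplicit false
open Cfsg

namespace Cfsg.Agent.S3546

/-- Let G act faithfully and transitively on a finite set and let D be the subgroup of G generated by the derangements (the elements fixing no point). Then D is itself transitive, and D contains every element of G whose number of fixed points is different from 1. -/
theorem result {G Ω : Type*} [Group G] [Finite G] [MulAction G Ω] [FaithfulSMul G Ω] [Finite Ω]
    (htrans : MulAction.IsPretransitive G Ω) :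
    MulAction.IsPretransitive ↥(Subgroup.closure {g : G | ∀ ω : Ω, g • ω ≠ ω}) Ω ∧
    ∀ g : G, Nat.card (MulAction.fixedBy Ω g) ≠ 1 → g ∈ Subgroup.closure {g : G | ∀ ω : Ω, g • ω ≠ ω} := by
  classical
  haveI := Fintype.ofFinite G
  haveI := Fintype.ofFinite Ω
  haveI := htrans
  set D : Subgroup G := Subgroup.closure {g : G | ∀ ω : Ω, g • ω ≠ ω}
  rcases isEmpty_or_nonempty Ω with hΩ | hΩ
  · refine ⟨⟨fun x => isEmptyElim x⟩, fun g _ => Subgroup.subset_closure fun ω => isEmptyElim ω⟩
  have hG := MulAction.sum_card_fixedBy_eq_card_orbits_mul_card_group G Ω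
  have hD := MulAction.sum_card_fixedBy_eq_card_orbits_mul_card_group D Ω
  haveI : Subsingleton (Quotient (MulAction.orbitRel G Ω)) := ⟨fun p q =>
    Quotient.inductionOn₂ p q fun x y => Quotient.sound (MulAction.exists_smul_eq G y x)⟩
  have hG1 : Fintype.card (Quotient (MulAction.orbitRel G Ω)) = 1 := by
    haveI : Nonempty (Quotient (MulAction.orbitRel G Ω)) := ⟨Quotient.mk _ (Classical.arbitrary Ω)⟩
    exact Fintype.card_eq_one_iff.2 ⟨Classical.arbitrary _, fun x => Subsingleton.elim _ _⟩
  rw [hG1, one_mul] at hG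
  let f : G → ℕ := fun g => Fintype.card (MulAction.fixedBy Ω g)
  have hout : ∀ g : G, g ∉ D → 1 ≤ f g := by
    intro g hg
    by_contra h
    refine hg (Subgroup.subset_closure fun ω hω => h ?_)
    exact Fintype.card_pos_iff.2 ⟨⟨ω, hω⟩⟩
  have hinD : ∑ g ∈ Finset.univ.filter (fun g => g ∈ D), f g =
      Fintype.card (Quotient (MulAction.orbitRel D Ω)) * Fintype.card D := by
    rw [← hD, Finset.sum_subtype _ (p := fun g => g ∈ D) (fun g => by simp)]
    exact Finset.sum_congr rfl fun d _ => Fintype.card_congr (Equiv.refl _)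
  have hsplit := Finset.sum_filter_add_sum_filter_not (Finset.univ : Finset G) (fun g => g ∈ D) f
  have hcardc : (Finset.univ.filter (fun g => g ∈ D)).card + (Finset.univ.filter (fun g => ¬ g ∈ D)).card =
      Fintype.card G := Finset.card_filter_add_card_filter_not (p := fun g => g ∈ D)
  have hcD : (Finset.univ.filter (fun g => g ∈ D)).card = Fintype.card D := (Fintype.card_subtype _).symm
  have hge : (Finset.univ.filter (fun g => ¬ g ∈ D)).card ≤ ∑ g ∈ Finset.univ.filter (fun g => ¬ g ∈ D), f g := by
    rw [Finset.card_eq_sum_ones]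
    exact Finset.sum_le_sum fun g hg => hout g (Finset.mem_filter.1 hg).2
  have hr : 1 ≤ Fintype.card (Quotient (MulAction.orbitRel D Ω)) :=
    Fintype.card_pos_iff.2 ⟨Quotient.mk _ (Classical.arbitrary Ω)⟩
  have hDpos : 0 < Fintype.card D := Fintype.card_pos
  have hsum : ∑ g : G, f g = Fintype.card G := hG
  set r := Fintype.card (Quotient (MulAction.orbitRel D Ω))
  have hr1 : r = 1 := by
    by_contra hne
    have h2 : 2 * Fintype.card D ≤ r * Fintype.card D := Nat.mul_le_mul_right _ (by omega)
    omega
  rw [hr1, one_mul] at hinD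
  refine ⟨⟨fun x y => ?_⟩, fun g hg => ?_⟩
  · have : (Quotient.mk (MulAction.orbitRel D Ω) y) = Quotient.mk _ x := by
      obtain ⟨w, hw⟩ := Fintype.card_eq_one_iff.1 hr1
      rw [hw (Quotient.mk _ y), hw (Quotient.mk _ x)]
    exact Quotient.exact this
  · by_contra hgD
    have h2 : 2 ≤ f g := by
      have := hout g hgD
      have hne : f g ≠ 1 := fun e => hg (Nat.card_eq_fintype_card.trans e)
      omega
    have hlt : (Finset.univ.filter (fun g => ¬ g ∈ D)).card < ∑ g ∈ Finset.univ.filter (fun g => ¬ g ∈ D), f g := by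
      rw [Finset.card_eq_sum_ones]
      exact Finset.sum_lt_sum (fun x hx => hout x (Finset.mem_filter.1 hx).2)
        ⟨g, Finset.mem_filter.2 ⟨Finset.mem_univ _, hgD⟩, by omega⟩
    omega

end Cfsg.Agent.S3546
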