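import Cfsg.Statements.S3554
-- import your own Cfsg.Agent.* helpers here

set_option autoImplicit false
open Cfsg

namespace Cfsg.Agent.S3554

/-- Let G act faithfully and transitively on a finite set and suppose G has a non-trivial cyclic normal subgroup. Then some element of G of prime order fixes no point. -/
theorem result {G Ω : Type*} [Group G] [Finite G] [MulAction G Ω] [FaithfulSMul G Ω] [Finite Ω]
    (htrans : MulAction.IsPretransitive G Ω) (C : Subgroup G) (hC : C.Normal) (hC1 : C ≠ ⊥) (hcyc : IsCyclic ↥C) :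
    ∃ g : G, (orderOf g).Prime ∧ ∀ ω : Ω, g • ω ≠ ω := by
  haveI := htrans
  obtain ⟨p, hp, hpd⟩ := Nat.exists_prime_and_dvd (n := Nat.card C)
    (fun h => hC1 (Subgroup.card_eq_one.1 h))
  haveI : Fact p.Prime := ⟨hp⟩
  obtain ⟨⟨g, hgC⟩, hg⟩ := exists_prime_orderOf_dvd_card' (G := C) p hpd
  have hog : orderOf g = p := by rw [← hg]; exact (Subgroup.orderOf_mk g hgC).symm
  refine ⟨g, hog ▸ hp, fun ω hω => ?_⟩
  -- conjugates of `g` lie in the unique subgroup of order `p`
  have key : ∀ x : G, x * g * x⁻¹ ∈ Subgroup.zpowers g := by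
    intro x
    have hm : x * g * x⁻¹ ∈ C := hC.conj_mem g hgC x
    haveI := hcyc
    haveI := hC
    obtain ⟨k, hk⟩ := MonoidHom.map_cyclic ((MulAut.conjNormal x : MulAut C).toMonoidHom)
    exact Subgroup.mem_zpowers_iff.2 ⟨k, (congrArg Subtype.val (hk ⟨g, hgC⟩)).symm⟩
  have hfix : ∀ ω' : Ω, g • ω' = ω' := by
    intro ω'
    obtain ⟨x, rfl⟩ := MulAction.exists_smul_eq G ω ω'
    obtain ⟨k, hk⟩ := Subgroup.mem_zpowers_iff.1 (key x⁻¹)
    have h1 : (x⁻¹ * g * x) • ω = ω := by
      rw [inv_inv] at hk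
      rw [← hk]
      exact MulAction.mem_stabilizer_iff.1 (zpow_mem (MulAction.mem_stabilizer_iff.2 hω) k)
    rw [mul_smul, mul_smul, inv_smul_eq_iff] at h1
    exact h1
  have : g = 1 := eq_of_smul_eq_smul (α := Ω) (fun ω' => by rw [hfix, one_smul])
  rw [this, orderOf_one] at hog
  exact hp.ne_one hog.symm

end Cfsg.Agent.S3554
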