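import Cfsg.Statements.S3557
import Cfsg.Agent.Lib.Solv.Misc
-- import your own Cfsg.Agent.* helpers here

set_option autoImplicit false
open Cfsg

namespace Cfsg.Agent.S3557

/-- Let G act faithfully and transitively on a finite set with 2p² points, p a prime, and suppose G is 2-closed: every permutation of the set which, on each ordered pair of points, agrees with some element of G, is itself induced by an element of G. Then some element of G of prime order fixes no point. -/
theorem result {G Ω : Type*} [Group G] [Finite G] [MulAction G Ω] [FaithfulSMul G Ω] [Finite Ω]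
    (htrans : MulAction.IsPretransitive G Ω) (p : ℕ) (hp : p.Prime) (hcard : Nat.card Ω = 2 * p ^ 2)
    (hcl : ∀ σ : Equiv.Perm Ω, (∀ a b : Ω, ∃ g : G, σ a = g • a ∧ σ b = g • b) → ∃ g : G, ∀ a : Ω, σ a = g • a) :
    ∃ g : G, (orderOf g).Prime ∧ ∀ ω : Ω, g • ω ≠ ω := by
  classical
  haveI := Fact.mk hp
  haveI := htrans
  obtain ⟨P⟩ : Nonempty (Sylow p G) := inferInstance
  -- central elements of order `p` moving both orbit representatives act without fixed points
  have hfpf : ∀ (z : G) (a : Ω), z • a ≠ a → (∀ q ∈ (P : Subgroup G), q * z = z * q) →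
      ∀ x ∈ MulAction.orbit (P : Subgroup G) a, z • x ≠ x := by
    rintro z a hza hzc _ ⟨⟨q, hq⟩, rfl⟩ h
    apply hza
    have h' : z • (q • a) = q • a := h
    rw [← mul_smul, ← hzc q hq, mul_smul] at h'
    exact smul_left_cancel q h'
  -- orbit sizes
  have hdvd : ∀ ω : Ω, p ^ (Nat.card Ω).factorization p ∣ Nat.card (MulAction.orbit (P : Subgroup G) ω) := by
    intro ω
    set Pw := MulAction.stabilizer (P : Subgroup G) ω
    have h1 : Nat.card ↥Pw * Nat.card (MulAction.orbit (P : Subgroup G) ω) = Nat.card ↥(P : Subgroup G) := by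
      rw [Nat.card_congr (MulAction.orbitEquivQuotientStabilizer (P : Subgroup G) ω), ← Subgroup.index]
      exact Pw.card_mul_index
    have h2 : Nat.card ↥(MulAction.stabilizer G ω) * Nat.card Ω = Nat.card G := by
      have := (MulAction.stabilizer G ω).card_mul_index
      rwa [MulAction.index_stabilizer_of_transitive] at this
    have h3 : Nat.card ↥Pw ∣ p ^ (Nat.card ↥(MulAction.stabilizer G ω)).factorization p := by
      obtain ⟨k, hk⟩ := IsPGroup.iff_card.mp (P.isPGroup'.to_subgroup Pw)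
      rw [hk]
      apply pow_dvd_pow
      refine (hp.pow_dvd_iff_le_factorization Nat.card_pos.ne').mp (hk ▸ ?_)
      have e : Nat.card ↥(Pw.map (P : Subgroup G).subtype) = Nat.card ↥Pw :=
        Subgroup.card_map_of_injective (P : Subgroup G).subtype_injective
      rw [← e]
      refine Subgroup.card_dvd_of_le ?_
      rintro _ ⟨x, hx, rfl⟩
      exact hx
    have h4 : Nat.card ↥(P : Subgroup G) = p ^ (Nat.card ↥(MulAction.stabilizer G ω)).factorization p *
        p ^ (Nat.card Ω).factorization p := by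
      haveI : Nonempty Ω := ⟨ω⟩
      rw [P.card_eq_multiplicity, ← h2, Nat.factorization_mul Nat.card_pos.ne' Nat.card_pos.ne',
        Finsupp.add_apply, pow_add]
    obtain ⟨c, hc⟩ := h3
    apply Nat.dvd_of_mul_dvd_mul_left (Nat.card_pos (α := ↥Pw))
    rw [h1, h4, hc]
    exact ⟨c, by ring⟩
  have hord : ∀ (z : G), z ^ p = 1 → z ≠ 1 → (orderOf z).Prime := fun z h1 h2 => by
    rw [orderOf_eq_prime h1 h2]; exact hp
  have hP1 : (P : Subgroup G) ≠ ⊥ := by
    intro e
    obtain ⟨ω⟩ : Nonempty Ω := (Nat.card_ne_zero.mp (by rw [hcard]; positivity [hp.pos])).1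
    have h1 := P.card_eq_multiplicity
    rw [e, Subgroup.card_bot] at h1
    have h2 : p ∣ Nat.card G := by
      refine dvd_trans ?_ (Dvd.intro_left _ (MulAction.stabilizer G ω).card_mul_index)
      rw [MulAction.index_stabilizer_of_transitive, hcard]
      exact Dvd.intro_left _ (by ring : 2 * p * p = 2 * p ^ 2)
    have h3 := hp.factorization_pos_of_dvd Nat.card_pos.ne' h2
    have := Nat.one_lt_pow h3.ne' hp.one_lt
    omega
  haveI : Nontrivial ↥(P : Subgroup G) := (Subgroup.nontrivial_iff_ne_bot _).mpr hP1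
  -- a central element of order p
  obtain ⟨z, hzP, hzc, hzp, hz1⟩ : ∃ z ∈ (P : Subgroup G),
      (∀ q ∈ (P : Subgroup G), q * z = z * q) ∧ z ^ p = 1 ∧ z ≠ 1 := by
    haveI := P.isPGroup'.center_nontrivial
    have hd : p ∣ Nat.card (Subgroup.center ↥(P : Subgroup G)) := by
      obtain ⟨k, hk⟩ := IsPGroup.iff_card.mp (P.isPGroup'.to_subgroup (Subgroup.center ↥(P : Subgroup G)))
      have hk0 : k ≠ 0 := by
        intro h0; rw [h0, pow_zero] at hk
        exact absurd hk Finite.one_lt_card.ne'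
      rw [hk]; exact dvd_pow_self p hk0
    obtain ⟨z, hz⟩ := exists_prime_orderOf_dvd_card' p hd
    refine ⟨((z : ↥(P : Subgroup G)) : G), (z : ↥(P : Subgroup G)).2, fun q hq => ?_, ?_, ?_⟩
    · exact congrArg Subtype.val (Subgroup.mem_center_iff.mp z.2 ⟨q, hq⟩)
    · have := pow_orderOf_eq_one z
      rw [hz] at this
      simpa using congrArg (fun x : ↥(Subgroup.center ↥(P : Subgroup G)) => ((x : ↥(P : Subgroup G)) : G)) this
    · intro h
      have : z = 1 := Subtype.ext (Subtype.ext h)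
      rw [this, orderOf_one] at hz
      exact hp.ne_one hz.symm
  by_cases hall : ∀ x : Ω, z • x ≠ x
  · exact ⟨z, hord z hzp hz1, hall⟩
  push_neg at hall
  obtain ⟨b₀, hb₀⟩ := hall
  obtain ⟨a₀, ha₀⟩ : ∃ a : Ω, z • a ≠ a := by
    by_contra h; push_neg at h
    exact hz1 (eq_of_smul_eq_smul (α := Ω) (by simpa using h))
  set O₁ := MulAction.orbit (P : Subgroup G) a₀ with hO₁
  set O₂ := MulAction.orbit (P : Subgroup G) b₀ with hO₂
  have hz2 : ∀ x ∈ O₂, z • x = x := by
    rintro _ ⟨⟨q, hq⟩, rfl⟩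
    show z • (q • b₀) = q • b₀
    rw [← mul_smul, ← hzc q hq, mul_smul, hb₀]
  have hz1' := hfpf z a₀ ha₀ hzc
  have hdisj : Disjoint O₁ O₂ := Set.disjoint_left.mpr fun x h1 h2 => hz1' x h1 (hz2 x h2)
  -- both orbits have p² points and exhaust Ω
  have hf : p ^ 2 ∣ p ^ (Nat.card Ω).factorization p := by
    apply pow_dvd_pow
    exact (hp.pow_dvd_iff_le_factorization (by rw [hcard]; positivity [hp.pos])).mp (hcard ▸ Dvd.intro_left 2 rfl)
  have hpos : ∀ ω : Ω, 0 < Nat.card (MulAction.orbit (P : Subgroup G) ω) := fun ω => by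
    haveI : Nonempty (MulAction.orbit (P : Subgroup G) ω) := ⟨⟨ω, MulAction.mem_orbit_self ω⟩⟩
    exact Nat.card_pos
  have hl1 := Nat.le_of_dvd (hpos a₀) (hf.trans (hdvd a₀))
  have hl2 := Nat.le_of_dvd (hpos b₀) (hf.trans (hdvd b₀))
  have hl1' : p ^ 2 ≤ Nat.card O₁ := hl1
  have hl2' : p ^ 2 ≤ Nat.card O₂ := hl2
  have hsum : Nat.card O₁ + Nat.card O₂ ≤ 2 * p ^ 2 := by
    rw [← hcard]
    refine le_trans ?_ (Finite.card_subtype_le (· ∈ O₁ ∪ O₂))
    exact le_of_eq (show Nat.card O₁ + Nat.card O₂ = Nat.card ↥(O₁ ∪ O₂) by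
      simp only [Nat.card_coe_set_eq]; exact (Set.ncard_union_eq hdisj).symm)
  have hcov : ∀ x, x ∈ O₁ ∨ x ∈ O₂ := by
    intro x
    have : O₁ ∪ O₂ = Set.univ := Set.eq_of_subset_of_ncard_le (Set.subset_univ _)
      (by rw [Set.ncard_univ, Set.ncard_union_eq hdisj, ← Nat.card_coe_set_eq, ← Nat.card_coe_set_eq, hcard]
          omega)
    exact (Set.ext_iff.mp this x).mpr (Set.mem_univ x)
  -- kernel on the second orbit and the block stabilizer
  let K : Subgroup ↥(P : Subgroup G) :=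
    { carrier := {q | ∀ x ∈ O₂, (q : G) • x = x}
      one_mem' := fun x _ => one_smul G x
      mul_mem' := fun {q r} hq hr x hx => by
        show ((q : G) * r) • x = x
        rw [mul_smul, hr x hx, hq x hx]
      inv_mem' := fun {q} hq x hx => by
        show ((q : G)⁻¹) • x = x
        rw [inv_smul_eq_iff, hq x hx] }
  haveI hKn : K.Normal := ⟨fun k hk r x hx => by
    show ((r : G) * k * (r : G)⁻¹) • x = x
    have hx' : ((r : G)⁻¹) • x ∈ O₂ := by
      obtain ⟨s, rfl⟩ := hx
      exact ⟨r⁻¹ * s, mul_smul r⁻¹ s b₀⟩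
    rw [mul_smul, mul_smul, hk _ hx', smul_inv_smul]⟩
  set M := K ⊔ MulAction.stabilizer (P : Subgroup G) a₀ with hMdef
  have hzK : (⟨z, hzP⟩ : ↥(P : Subgroup G)) ∈ K := hz2
  obtain ⟨kP, hkP⟩ := IsPGroup.iff_card.mp P.isPGroup'
  obtain ⟨iM, -, hiM⟩ := (Nat.dvd_prime_pow hp).mp (hkP ▸ M.index_dvd_card)
  obtain ⟨iK, -, hiK⟩ := (Nat.dvd_prime_pow hp).mp (hkP ▸ K.index_dvd_card)
  have hKidx : p ^ 2 ≤ K.index := by
    refine hl2.trans ?_
    rw [Nat.card_congr (MulAction.orbitEquivQuotientStabilizer (P : Subgroup G) b₀), ← Subgroup.index]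
    refine Nat.le_of_dvd (Nat.pos_of_ne_zero Subgroup.FiniteIndex.index_ne_zero) (Subgroup.index_dvd_of_le ?_)
    exact fun q hq => hq b₀ (MulAction.mem_orbit_self _)
  have hO1eq : Nat.card O₁ = p ^ 2 := by
    omega
  have hMidx : M.index < p ^ 2 := by
    rw [← hO1eq, hO₁, Nat.card_congr (MulAction.orbitEquivQuotientStabilizer (P : Subgroup G) a₀), ← Subgroup.index]
    refine lt_of_le_of_ne (Nat.le_of_dvd (Nat.pos_of_ne_zero Subgroup.FiniteIndex.index_ne_zero)
      (Subgroup.index_dvd_of_le le_sup_right)) fun e => ?_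
    have : M = MulAction.stabilizer (P : Subgroup G) a₀ :=
      (Subgroup.eq_of_le_of_card_ge le_sup_right (le_of_eq (Nat.eq_of_mul_eq_mul_right
        (Nat.pos_of_ne_zero Subgroup.FiniteIndex.index_ne_zero)
        ((M.card_mul_index).trans ((MulAction.stabilizer (P : Subgroup G) a₀).card_mul_index.symm.trans
          (by rw [e])))))).symm
    have hz' : (⟨z, hzP⟩ : ↥(P : Subgroup G)) ∈ M := Subgroup.mem_sup_left hzK
    rw [this] at hz'
    exact ha₀ hz'
  haveI hMn : M.Normal := by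
    rw [hiM] at hMidx
    have hlt := (Nat.pow_lt_pow_iff_right hp.one_lt).mp hMidx
    rcases (show iM = 0 ∨ iM = 1 by omega) with h | h <;> subst h
    · rw [pow_zero, Subgroup.index_eq_one] at hiM
      rw [hiM]; infer_instance
    · apply Subgroup.normal_of_index_eq_minFac_card
      rw [hiM, pow_one, hkP, Nat.pow_minFac ?_, hp.minFac_eq]
      intro h0
      rw [h0, pow_zero] at hkP
      exact absurd hkP Finite.one_lt_card.ne'
  -- an element of `M`, outside `K`, central of order p modulo `K`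
  obtain ⟨w, hwM, hwK, hwp, hwc⟩ : ∃ w : ↥(P : Subgroup G), w ∈ M ∧ w ∉ K ∧ w ^ p ∈ K ∧
      ∀ q : ↥(P : Subgroup G), w⁻¹ * q⁻¹ * w * q ∈ K := by
    have hne : M.map (QuotientGroup.mk' K) ≠ ⊥ := by
      intro h
      rw [Subgroup.map_eq_bot_iff, QuotientGroup.ker_mk'] at h
      have := Nat.le_of_dvd (Nat.pos_of_ne_zero Subgroup.FiniteIndex.index_ne_zero) (Subgroup.index_dvd_of_le h)
      omega
    haveI : (M.map (QuotientGroup.mk' K)).Normal := hMn.map _ (QuotientGroup.mk'_surjective K)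
    haveI : Group.IsNilpotent (↥(P : Subgroup G) ⧸ K) := (P.isPGroup'.to_quotient K).isNilpotent
    have hc := Solv.inf_center_ne_bot (M.map (QuotientGroup.mk' K)) hne
    set Z := M.map (QuotientGroup.mk' K) ⊓ Subgroup.center _ with hZ
    have hd : p ∣ Nat.card ↥Z := by
      haveI : Nontrivial ↥Z := (Subgroup.nontrivial_iff_ne_bot _).mpr hc
      obtain ⟨k, hk⟩ := IsPGroup.iff_card.mp ((P.isPGroup'.to_quotient K).to_subgroup Z)
      have hk0 : k ≠ 0 := by
        intro h0; rw [h0, pow_zero] at hk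
        exact absurd hk Finite.one_lt_card.ne'
      rw [hk]; exact dvd_pow_self p hk0
    obtain ⟨x, hx⟩ := exists_prime_orderOf_dvd_card' p hd
    rw [← Subgroup.orderOf_coe] at hx
    obtain ⟨⟨w, hw, e⟩, hx2⟩ := x.2
    rw [← e] at hx hx2
    refine ⟨w, hw, fun h => ?_, ?_, fun q => ?_⟩
    · rw [QuotientGroup.mk'_apply, (QuotientGroup.eq_one_iff w).mpr h, orderOf_one] at hx
      exact hp.ne_one hx.symm
    · have := pow_orderOf_eq_one (QuotientGroup.mk' K w)
      rw [hx, ← map_pow] at this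
      exact (QuotientGroup.eq_one_iff _).mp this
    · rw [← QuotientGroup.eq_one_iff]
      have h := Subgroup.mem_center_iff.mp hx2 (QuotientGroup.mk' K q)
      simp only [QuotientGroup.mk'_apply] at h
      simp only [QuotientGroup.mk_mul, QuotientGroup.mk_inv]
      rw [mul_assoc, ← h]
      group
  -- `w` moves every point of the second orbit
  have hw2 : ∀ x ∈ O₂, (w : G) • x ≠ x := by
    intro x hx hfix
    apply hwK
    intro y hy
    obtain ⟨r, rfl⟩ : y ∈ MulAction.orbit (P : Subgroup G) x := by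
      rw [MulAction.orbit_eq_iff.mpr hx]; exact hy
    have h2 := hwc r ((r⁻¹ : ↥(P : Subgroup G)) • ((r • x : Ω))) (by rwa [inv_smul_smul])
    rw [inv_smul_smul] at h2
    change ((w : G)⁻¹ * (r : G)⁻¹ * w * r) • x = x at h2
    rw [mul_smul, mul_smul, mul_smul, inv_smul_eq_iff, inv_smul_eq_iff, hfix] at h2
    exact h2
  -- on the first orbit `w` moves points inside `K`-orbits
  have hw1 : ∀ a ∈ O₁, ∃ k ∈ K, (w : G) • a = (k : G) • a := by
    rintro _ ⟨h, rfl⟩
    have hc : h⁻¹ * w * h ∈ M := by simpa using hMn.conj_mem w hwM h⁻¹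
    rw [hMdef, ← SetLike.mem_coe, Subgroup.normal_mul, Set.mem_mul] at hc
    obtain ⟨k, hk, s, hs, e⟩ := hc
    refine ⟨h * k * h⁻¹, hKn.conj_mem k hk h, ?_⟩
    show (w : G) • ((h : G) • a₀) = ((h : G) * k * (h : G)⁻¹) • ((h : G) • a₀)
    have hs' : (s : G) • a₀ = a₀ := hs
    have e' : (k : G) * s = (h : G)⁻¹ * w * h := congrArg Subtype.val e
    rw [← mul_smul, ← mul_smul, inv_mul_cancel_right, mul_smul (h : G) (k : G)]
    conv_rhs => rw [← hs', ← mul_smul (k : G), e', ← mul_smul]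
    congr 1; group
  -- glue
  have hPO : ∀ (q : G), q ∈ (P : Subgroup G) → ∀ (c x : Ω), x ∈ MulAction.orbit (P : Subgroup G) c →
      q • x ∈ MulAction.orbit (P : Subgroup G) c := by
    rintro q hq c _ ⟨r, rfl⟩
    exact ⟨(⟨q, hq⟩ : ↥(P : Subgroup G)) * r, mul_smul _ r c⟩
  have hnot : ∀ x, x ∈ O₂ → x ∉ O₁ := fun x h2 h1 => Set.disjoint_left.mp hdisj h1 h2
  let σf : Ω → Ω := fun x => if x ∈ O₁ then z • x else (w : G) • x
  have hσ : Function.Injective σf := by
    intro x y h
    simp only [σf] at h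
    rcases hcov x with hx | hx <;> rcases hcov y with hy | hy
    · rw [if_pos hx, if_pos hy] at h; exact smul_left_cancel z h
    · rw [if_pos hx, if_neg (hnot y hy)] at h
      exact absurd (h ▸ hPO z hzP a₀ x hx) (hnot _ (hPO w w.2 b₀ y hy))
    · rw [if_neg (hnot x hx), if_pos hy] at h
      exact absurd (h.symm ▸ hPO z hzP a₀ y hy) (hnot _ (hPO w w.2 b₀ x hx))
    · rw [if_neg (hnot x hx), if_neg (hnot y hy)] at h; exact smul_left_cancel _ h
  let σ : Equiv.Perm Ω := Equiv.ofBijective σf (Finite.injective_iff_bijective.mp hσ)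
  have hmix : ∀ a ∈ O₁, ∀ b ∈ O₂, ∃ g : G, z • a = g • a ∧ (w : G) • b = g • b := by
    intro a ha b hb
    obtain ⟨k, hk, hka⟩ := hw1 a ha
    refine ⟨z * (k : G)⁻¹ * w, ?_, ?_⟩
    · rw [mul_smul, mul_smul, hka, inv_smul_smul]
    · have hwb := hPO w w.2 b₀ b hb
      rw [mul_smul, mul_smul, show ((k : G)⁻¹) • ((w : G) • b) = (w : G) • b from K.inv_mem hk _ hwb,
        hz2 _ hwb]
  obtain ⟨g, hg⟩ := hcl σ (fun a b => by
    show ∃ g : G, σf a = g • a ∧ σf b = g • b
    simp only [σf]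
    rcases hcov a with ha | ha <;> rcases hcov b with hb | hb
    · rw [if_pos ha, if_pos hb]; exact ⟨z, rfl, rfl⟩
    · rw [if_pos ha, if_neg (hnot b hb)]; exact hmix a ha b hb
    · rw [if_neg (hnot a ha), if_pos hb]
      obtain ⟨g, h1, h2⟩ := hmix b hb a ha
      exact ⟨g, h2, h1⟩
    · rw [if_neg (hnot a ha), if_neg (hnot b hb)]; exact ⟨w, rfl, rfl⟩)
  have hg1 : ∀ a ∈ O₁, g • a = z • a := fun a ha => by
    rw [← hg a]; show σf a = _; simp only [σf]; rw [if_pos ha]
  have hg2 : ∀ b ∈ O₂, g • b = (w : G) • b := fun b hb => by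
    rw [← hg b]; show σf b = _; simp only [σf]; rw [if_neg (hnot b hb)]
  have hmove : ∀ x : Ω, g • x ≠ x := by
    intro x
    rcases hcov x with hx | hx
    · rw [hg1 x hx]; exact hz1' x hx
    · rw [hg2 x hx]; exact hw2 x hx
  have hpow1 : ∀ n : ℕ, ∀ a ∈ O₁, g ^ n • a = z ^ n • a := by
    intro n
    induction n with
    | zero => intro a _; simp
    | succ n ih =>
      intro a ha
      rw [pow_succ, pow_succ, mul_smul, mul_smul, hg1 a ha, ih _ (hPO z hzP a₀ a ha)]
  have hpow2 : ∀ n : ℕ, ∀ a ∈ O₂, g ^ n • a = (w : G) ^ n • a := by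
    intro n
    induction n with
    | zero => intro a _; simp
    | succ n ih =>
      intro a ha
      rw [pow_succ, pow_succ, mul_smul, mul_smul, hg2 a ha, ih _ (hPO w w.2 b₀ a ha)]
  refine ⟨g, hord g (eq_of_smul_eq_smul (α := Ω) fun x => ?_) (fun h => hmove a₀ (by rw [h, one_smul])), hmove⟩
  rw [one_smul]
  rcases hcov x with hx | hx
  · rw [hpow1 p x hx, hzp, one_smul]
  · rw [hpow2 p x hx]
    exact hwp x hx

end Cfsg.Agent.S3557
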