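import Cfsg.Statements.S3559
import Cfsg.Agent.Lib.Perm.CyclicPrimePower

set_option autoImplicit false
open Cfsg

namespace Cfsg.Agent.S3559

/-- Let G act faithfully and transitively on a finite set whose number of points n ≥ 2 is not a prime power, and suppose G has a cyclic subgroup acting regularly (transitively with trivial point stabilizers). Then G is imprimitive or doubly transitive. -/
theorem result {G Ω : Type*} [Group G] [Finite G] [MulAction G Ω] [FaithfulSMul G Ω] [Finite Ω]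
    (htrans : MulAction.IsPretransitive G Ω) (hn : 2 ≤ Nat.card Ω) (hnp : ¬ IsPrimePow (Nat.card Ω))
    (C : Subgroup G) (hcyc : IsCyclic ↥C) (hC : MulAction.IsPretransitive ↥C Ω ∧ ∀ a : Ω, MulAction.stabilizer ↥C a = ⊥) :
    ¬ MulAction.IsPreprimitive G Ω ∨ MulAction.IsMultiplyPretransitive G Ω 2 := by
  classical
  haveI : Fintype Ω := Fintype.ofFinite Ω
  obtain ⟨g, hgen⟩ := hcyc.exists_generator
  set n := Nat.card Ω with hn'
  haveI : NeZero n := ⟨by omega⟩
  haveI : Nonempty Ω := (Nat.card_pos_iff.mp (by omega : 0 < Nat.card Ω)).1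
  obtain ⟨ω⟩ := ‹Nonempty Ω›
  haveI := hC.1
  have hord : orderOf g = n := by
    rw [orderOf_eq_card_of_forall_mem_zpowers hgen, hn']
    refine Nat.card_congr (Equiv.ofBijective (fun c : C => c • ω) ⟨fun a b h => ?_, fun x => MulAction.exists_smul_eq C ω x⟩)
    have : a⁻¹ * b ∈ MulAction.stabilizer C ω := by
      rw [MulAction.mem_stabilizer_iff, mul_smul, ← show a • ω = b • ω from h, inv_smul_smul]
    rw [hC.2 ω, Subgroup.mem_bot] at this
    exact inv_mul_eq_one.mp this
  let f : ZMod n → Ω := fun i => g ^ i.val • ω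
  have hf : Function.Bijective f := by
    refine (Fintype.bijective_iff_injective_and_card f).mpr ⟨fun i j h => ?_, by rw [ZMod.card, hn', Nat.card_eq_fintype_card]⟩
    have : (g ^ i.val)⁻¹ * g ^ j.val ∈ MulAction.stabilizer C ω := by
      rw [MulAction.mem_stabilizer_iff, mul_smul, ← show g ^ i.val • ω = g ^ j.val • ω from h, inv_smul_smul]
    rw [hC.2 ω, Subgroup.mem_bot] at this
    exact ZMod.val_injective n (pow_injOn_Iio_orderOf (by rw [hord]; exact ZMod.val_lt i) (by rw [hord]; exact ZMod.val_lt j)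
      (inv_mul_eq_one.mp this))
  let e : ZMod n ≃ Ω := Equiv.ofBijective f hf
  have hfadd : ∀ (k : ℕ) (i : ZMod n), ((g : G) ^ k) • e i = e (i + k) := by
    intro k i
    show ((g : G) ^ k) • (g ^ i.val • ω) = g ^ (i + k).val • ω
    rw [← SubmonoidClass.coe_pow, Subgroup.smul_def, Subgroup.smul_def, ← mul_smul, ← Subgroup.coe_mul, ← pow_add]
    congr 2
    refine pow_eq_pow_iff_modEq.mpr ?_
    rw [hord, ← ZMod.natCast_eq_natCast_iff, Nat.cast_add, ZMod.natCast_zmod_val, ZMod.natCast_zmod_val, add_comm]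
  let G' : Subgroup (Equiv.Perm (ZMod n)) := (e.symm.permCongrHom.toMonoidHom.comp (MulAction.toPermHom G Ω)).range
  have hmem : ∀ σ : Equiv.Perm (ZMod n), σ ∈ G' ↔ ∃ s : G, ∀ i, e (σ i) = s • e i := by
    intro σ
    constructor
    · rintro ⟨s, rfl⟩
      exact ⟨s, fun i => by simp [Equiv.permCongrHom, Equiv.permCongr_apply]⟩
    · rintro ⟨s, h⟩
      exact ⟨s, Equiv.ext fun i => by
        rw [← e.apply_eq_iff_eq, h]; simp [Equiv.permCongrHom, Equiv.permCongr_apply]⟩
  have hT : ∀ c : ZMod n, Equiv.addRight c ∈ G' := fun c => (hmem _).mpr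
    ⟨(g : G) ^ c.val, fun i => by rw [hfadd, ZMod.natCast_zmod_val]; rfl⟩
  by_contra hcon
  rw [not_or, not_not] at hcon
  obtain ⟨hprim, h2⟩ := hcon
  obtain ⟨H, hH, hH0, hH1⟩ : ∃ H : AddSubgroup (ZMod n), Cfsg.Agent.CyclicPrimePower.Inv G' (H : Set (ZMod n)) ∧
      H ≠ ⊥ ∧ H ≠ ⊤ := by
    by_contra hno
    push Not at hno
    obtain ⟨p, hp, hpn⟩ := Nat.exists_prime_and_dvd (n := n) (by omega)
    obtain ⟨l, hl, hln, hlp⟩ : ∃ l, l.Prime ∧ l ∣ n ∧ l ≠ p := by
      by_contra hno'
      push Not at hno'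
      exact hnp (isPrimePow_iff_unique_prime_dvd.mpr ⟨p, ⟨hp, hpn⟩, fun l hl => hno' l hl.1 hl.2⟩)
    haveI := Fact.mk hp
    haveI := Fact.mk hl
    refine h2 (MulAction.is_two_pretransitive_iff.mpr fun {a b c d} hab hcd => ?_)
    obtain ⟨x, rfl⟩ := e.surjective a
    obtain ⟨y, rfl⟩ := e.surjective b
    obtain ⟨z, rfl⟩ := e.surjective c
    obtain ⟨w, rfl⟩ := e.surjective d
    obtain ⟨τ, hτ, h0, h1⟩ := Cfsg.Agent.CyclicPrimePower.mem_orb.mp
      (Cfsg.Agent.CyclicPrimePower.schur_composite hT (fun H hH => or_iff_not_imp_left.mpr (hno H hH)) hlp.symm hpn hln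
        (x := w - z) (y := y - x) (sub_ne_zero.mpr fun h => hcd (by rw [h])) (sub_ne_zero.mpr fun h => hab (by rw [h])))
    obtain ⟨s, hse⟩ := (hmem _).mp (mul_mem (mul_mem (hT z) hτ) (hT (-x)))
    refine ⟨s, ?_, ?_⟩
    · rw [← hse]
      show e (τ (x + -x) + z) = e z
      rw [add_neg_cancel, h0, zero_add]
    · rw [← hse]
      show e (τ (y + -x) + z) = e w
      rw [← sub_eq_add_neg, h1, sub_add_cancel]
  -- the kernel of the action on the cosets of H
  have hrel : ∀ (s : G) (a b : Ω), e.symm a - e.symm b ∈ H → e.symm (s • a) - e.symm (s • b) ∈ H := by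
    intro s a b hab
    obtain ⟨ρ, hρ, hρ0, hρx⟩ := Cfsg.Agent.CyclicPrimePower.exists_shift hT
      (σ := e.symm.permCongrHom (MulAction.toPermHom G Ω s)) ⟨s, rfl⟩ (e.symm b)
    have h := (hH ρ hρ hρ0 _).mpr hab
    rw [SetLike.mem_coe, hρx, sub_add_cancel] at h
    simpa [Equiv.permCongrHom, Equiv.permCongr_apply] using h
  let K : Subgroup G :=
    { carrier := {s | ∀ a : Ω, e.symm (s • a) - e.symm a ∈ H}
      one_mem' := fun a => by simp
      mul_mem' := fun {s t} hs ht a => by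
        have := H.add_mem (hs (t • a)) (ht a)
        rwa [sub_add_sub_cancel, ← mul_smul] at this
      inv_mem' := fun {s} hs a => by
        have := H.neg_mem (hs (s⁻¹ • a))
        simpa using this }
  haveI : K.Normal := ⟨fun s hs t a => by
    have := hrel t _ _ (hs (t⁻¹ • a))
    rw [smul_inv_smul, ← mul_smul, ← mul_smul] at this
    exact this⟩
  obtain ⟨c, hc, hc0⟩ := H.bot_or_exists_ne_zero.resolve_left hH0
  have hgK : (g : G) ^ c.val ∈ K := by
    intro a
    obtain ⟨i, rfl⟩ := e.surjective a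
    rwa [hfadd, e.symm_apply_apply, e.symm_apply_apply, ZMod.natCast_zmod_val, add_sub_cancel_left]
  haveI := hprim
  haveI : MulAction.IsPretransitive K Ω := by
    refine MulAction.IsQuasiPreprimitive.isPretransitive_of_normal fun hfix => ?_
    have h0 : e 0 ∈ MulAction.fixedPoints K Ω := hfix.symm ▸ Set.mem_univ _
    have h1 : ((g : G) ^ c.val) • e 0 = e 0 := h0 ⟨_, hgK⟩
    rw [hfadd, zero_add, ZMod.natCast_zmod_val] at h1
    exact hc0 (e.injective h1)
  refine hH1 (eq_top_iff.mpr fun x _ => ?_)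
  obtain ⟨s, hs⟩ := MulAction.exists_smul_eq K (e 0) (e x)
  have := s.2 (e 0)
  change (s : G) • e 0 = e x at hs
  rwa [hs, e.symm_apply_apply, e.symm_apply_apply, sub_zero] at this

end Cfsg.Agent.S3559
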