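import Cfsg.Statements.S3575
import Mathlib

set_option autoImplicit false
open Cfsg

namespace Cfsg.Agent.S3575

open Equiv Finset

/-- The possible numbers of cycles of an element fixing a partition. -/
def Cond (a b r c : ℕ) : Prop := ∃ j, r * j ≤ b ∧ j * a ≤ c ∧ c ≤ j * a + (b - r * j) * (a / r)

theorem cond_all {a b r : ℕ} (hr : 2 ≤ r) (ha : 2 ≤ a) (hra : r ≤ a)
    (h : a % r = 0 ∨ (b % r = 0 ∧ a % r = 1) ∨
      (a % r ≠ 0 ∧ b % r ≠ 0 ∧ (b % r) * (a % r) < r ∧ (b < r ∨ (b % r + r) * (a % r) ≤ (b % r) * a + r)))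
    (c : ℕ) (hc : c * r ≤ a * b) : Cond a b r c := by
  unfold Cond
  have hr0 : 0 < r := by omega
  set ℓ := a % r with hl
  set k := b % r with hk
  set L := a / r with hL
  set B := b / r with hB
  have ea : a = r * L + ℓ := (Nat.div_add_mod a r).symm
  have eb : b = r * B + k := (Nat.div_add_mod b r).symm
  have hkl : k * ℓ < r := by
    rcases h with h | ⟨h, -⟩ | ⟨-, -, h, -⟩
    · rw [h, mul_zero]; exact hr0
    · rw [h, zero_mul]; exact hr0
    · exact h
  have hgap : B = 0 ∨ ℓ ≤ k * L + 1 := by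
    rcases h with h | ⟨h, h'⟩ | ⟨-, -, -, h | h⟩
    · exact Or.inr (by rw [h]; exact Nat.zero_le _)
    · exact Or.inr (by rw [h']; omega)
    · exact Or.inl (Nat.div_eq_of_lt h)
    · refine Or.inr (Nat.le_of_mul_le_mul_left ?_ hr0)
      have e1 : (k + r) * ℓ = k * ℓ + r * ℓ := by ring
      have e2 : k * a = r * (k * L) + k * ℓ := by rw [ea]; ring
      have e3 : r * (k * L + 1) = r * (k * L) + r := by ring
      omega
  set j := Nat.findGreatest (fun i => i * a ≤ c) B with hj
  have hjB : j ≤ B := Nat.findGreatest_le B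
  have hja : j * a ≤ c :=
    Nat.findGreatest_spec (P := fun i => i * a ≤ c) (Nat.zero_le B) (show 0 * a ≤ c by rw [zero_mul]; exact Nat.zero_le c)
  obtain ⟨d, hd⟩ : ∃ d, B = j + d := ⟨B - j, by omega⟩
  have e4 : b - r * j = r * d + k := by
    have : r * B = r * j + r * d := by rw [hd]; ring
    omega
  refine ⟨j, by have := Nat.mul_le_mul_left r hjB; omega, hja, ?_⟩
  rw [e4]
  rcases Nat.eq_zero_or_pos d with hd0 | hd0
  · -- the last interval
    subst hd0
    rw [add_zero] at hd
    rw [hd] at eb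
    by_contra hgt
    push Not at hgt
    have h1 : (j * a + (r * 0 + k) * L + 1) * r ≤ c * r := Nat.mul_le_mul_right r hgt
    have h2 : a * b = (j * a + (r * 0 + k) * L) * r + k * ℓ := by rw [eb, ea]; ring
    have h3 : (j * a + (r * 0 + k) * L + 1) * r = (j * a + (r * 0 + k) * L) * r + r := by ring
    omega
  · have hnext : ¬ (j + 1) * a ≤ c :=
      Nat.findGreatest_is_greatest (P := fun i => i * a ≤ c) (hj ▸ Nat.lt_succ_self j) (by omega)
    have hgap' : ℓ ≤ k * L + 1 := hgap.resolve_left (by omega)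
    have h1 : r * L ≤ r * d * L := Nat.mul_le_mul_right L (Nat.le_mul_of_pos_right r hd0)
    have h2 : (j + 1) * a = j * a + a := by ring
    have h3 : (r * d + k) * L = r * d * L + k * L := by ring
    omega

theorem cond_only {a b r : ℕ} (hr : 2 ≤ r) (ha : 2 ≤ a) (hab : r ≤ a * b)
    (h : ∀ c, 1 ≤ c → c * r ≤ a * b → Cond a b r c) :
    r ≤ a ∧ (a % r = 0 ∨ (b % r = 0 ∧ a % r = 1) ∨
      (a % r ≠ 0 ∧ b % r ≠ 0 ∧ (b % r) * (a % r) < r ∧ (b < r ∨ (b % r + r) * (a % r) ≤ (b % r) * a + r))) := by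
  simp only [Cond] at h
  have hr0 : 0 < r := by omega
  set ℓ := a % r with hl
  set k := b % r with hk
  set L := a / r with hL
  set B := b / r with hB
  have ea : a = r * L + ℓ := (Nat.div_add_mod a r).symm
  have eb : b = r * B + k := (Nat.div_add_mod b r).symm
  have hjB : ∀ j, r * j ≤ b → j ≤ B := fun j hj => (Nat.le_div_iff_mul_le hr0).2 (by rw [mul_comm]; exact hj)
  have htop : ∀ j, r * j ≤ b → j * a + (b - r * j) * L = b * L + j * ℓ := by
    intro j hj
    obtain ⟨s, hs⟩ := Nat.exists_eq_add_of_le hj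
    rw [hs, Nat.add_sub_cancel_left, ea]
    ring
  have hra : r ≤ a := by
    obtain ⟨j, hjb, hja, hc⟩ := h 1 le_rfl (by omega)
    by_contra hlt
    have hL0 : L = 0 := Nat.div_eq_of_lt (not_le.1 hlt)
    rw [hL0, mul_zero, add_zero] at hc
    rcases Nat.eq_zero_or_pos j with hj0 | hj0
    · rw [hj0, zero_mul] at hc; omega
    · have := Nat.mul_le_mul hj0 (le_refl a); omega
  have hkl : k * ℓ < r := by
    by_contra hge
    push Not at hge
    obtain ⟨j, hjb, hja, hc⟩ := h (b * L + B * ℓ + 1) (by omega) (by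
      have h2 : a * b = (b * L + B * ℓ) * r + k * ℓ := by
        calc a * b = (r * L + ℓ) * b := by rw [← ea]
          _ = b * L * r + ℓ * b := by ring
          _ = b * L * r + ℓ * (r * B + k) := by rw [← eb]
          _ = _ := by ring
      have h3 : (b * L + B * ℓ + 1) * r = (b * L + B * ℓ) * r + r := by ring
      omega)
    rw [htop j hjb] at hc
    have := Nat.mul_le_mul_right ℓ (hjB j hjb)
    omega
  have hgap : B = 0 ∨ ℓ ≤ k * L + 1 := by
    by_contra hno
    rw [not_or] at hno
    obtain ⟨hB0, hlt⟩ := hno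
    have hBa : 2 ≤ B * a := le_trans ha (Nat.le_mul_of_pos_left a (Nat.pos_of_ne_zero hB0))
    obtain ⟨j, hjb, hja, hc⟩ := h (B * a - 1) (by omega) (by
      have h1 : r * B ≤ b := by omega
      calc (B * a - 1) * r ≤ B * a * r := Nat.mul_le_mul_right r (Nat.sub_le _ _)
        _ = a * (r * B) := by ring
        _ ≤ a * b := Nat.mul_le_mul_left a h1)
    rw [htop j hjb] at hc
    have hjlt : j < B := by
      by_contra hge
      have := Nat.mul_le_mul_right a (not_lt.1 hge)
      omega
    have h1 := Nat.mul_le_mul_right ℓ hjlt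
    have h2 : B * a = r * B * L + B * ℓ := by rw [ea]; ring
    have h3 : b * L = r * B * L + k * L := by rw [eb]; ring
    have h4 : Nat.succ j * ℓ = j * ℓ + ℓ := Nat.succ_mul j ℓ
    omega
  refine ⟨hra, ?_⟩
  by_cases hl0 : ℓ = 0
  · exact Or.inl hl0
  by_cases hk0 : k = 0
  · refine Or.inr (Or.inl ⟨hk0, ?_⟩)
    rcases hgap with hB0 | hg
    · -- `b = 0`
      exfalso
      rw [hk0, hB0, mul_zero, add_zero] at eb
      rw [eb, mul_zero] at hab
      omega
    · rw [hk0, zero_mul] at hg; omega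
  refine Or.inr (Or.inr ⟨hl0, hk0, hkl, ?_⟩)
  rcases hgap with hB0 | hg
  · left
    rcases Nat.lt_or_ge b r with h | h
    · exact h
    · have := Nat.div_pos h hr0; omega
  · right
    have e1 : (k + r) * ℓ = k * ℓ + r * ℓ := by ring
    have e2 : k * a = r * (k * L) + k * ℓ := by rw [ea]; ring
    have e3 : r * (k * L + 1) = r * (k * L) + r := by ring
    have := Nat.mul_le_mul_left r hg
    omega

/-- A permutation fixing a partition has an admissible number of cycles. -/
theorem cond_of_fixed {a b r c : ℕ} (hr : r.Prime) (ha : 0 < a) (σ : Perm (Fin (a * b))) (hσ : σ ^ r = 1)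
    (hc : σ.support.card = c * r) (f : Fin (a * b) → Fin b)
    (hf : ∀ j : Fin b, Nat.card {x : Fin (a * b) // f x = j} = a) (π : Perm (Fin b))
    (hπ : ∀ x, f (σ x) = π (f x)) : Cond a b r c := by
  classical
  haveI := Fact.mk hr
  have hfib : ∀ i : Fin b, (univ.filter fun x => f x = i).card = a := fun i => by
    refine Eq.trans ?_ (hf i)
    rw [Nat.card_eq_fintype_card, Fintype.card_subtype]
  have hπn : ∀ (n : ℕ) x, f ((σ ^ n) x) = (π ^ n) (f x) := by
    intro n
    induction n with
    | zero => intro x; rfl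
    | succ n ih => intro x; rw [pow_succ', pow_succ', Perm.mul_apply, Perm.mul_apply, hπ, ih]
  have hπr : π ^ r = 1 := by
    refine Equiv.ext fun i => ?_
    obtain ⟨x, hx⟩ := Finset.card_pos.1 (show 0 < (univ.filter fun x => f x = i).card by rw [hfib]; exact ha)
    rw [← (Finset.mem_filter.1 hx).2, ← hπn, hσ]
    rfl
  obtain ⟨j, hj⟩ : r ∣ π.support.card := by
    have h := Equiv.Perm.card_compl_support_modEq (p := r) (n := 1) (σ := π) (by rw [pow_one]; exact hπr)
    have h' := (Nat.modEq_iff_dvd' (Finset.card_le_univ _)).1 h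
    rwa [← Finset.card_compl, compl_compl] at h'
  have hcnt : σ.support.card = ∑ i : Fin b, (σ.support.filter fun x => f x = i).card :=
    Finset.card_eq_sum_card_fiberwise fun x _ => Finset.mem_univ _
  have hmov : ∀ i ∈ π.support, (σ.support.filter fun x => f x = i).card = a := by
    intro i hi
    refine Eq.trans ?_ (hfib i)
    congr 1
    ext x
    simp only [Finset.mem_filter, Finset.mem_univ, true_and, and_iff_right_iff_imp, Perm.mem_support]
    intro hx hfx
    have h := hπ x
    rw [hfx, hx] at h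
    exact (Perm.mem_support.1 hi) h.symm
  have hfix : ∀ i ∈ π.supportᶜ, (σ.support.filter fun x => f x = i).card ≤ r * (a / r) := by
    intro i hi
    rw [Finset.mem_compl, Perm.notMem_support] at hi
    have hinv : ∀ x, f (σ x) = i ↔ f x = i := fun x => by
      rw [hπ]
      exact ⟨fun h => π.injective (h.trans hi.symm), fun h => by rw [h, hi]⟩
    set τ : Perm {x // f x = i} := σ.subtypePerm hinv with hτ
    have hτr : τ ^ r ^ 1 = 1 := by
      rw [pow_one]
      ext x
      simp [hτ, hσ]
    have h := Equiv.Perm.card_compl_support_modEq (p := r) hτr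
    have h' := (Nat.modEq_iff_dvd' (Finset.card_le_univ _)).1 h
    rw [← Finset.card_compl, compl_compl] at h'
    have he : τ.support.card = (σ.support.filter fun x => f x = i).card := by
      refine Finset.card_bij (fun x _ => x.1) (fun x hx => ?_) (fun x _ y _ h => Subtype.ext h) fun x hx => ?_
      · rw [Finset.mem_filter, Perm.mem_support]
        exact ⟨fun h => (Perm.mem_support.1 hx) (Subtype.ext h), x.2⟩
      · rw [Finset.mem_filter, Perm.mem_support] at hx
        exact ⟨⟨x, hx.2⟩, Perm.mem_support.2 (fun h => hx.1 (congrArg Subtype.val h)), rfl⟩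
    rw [← he]
    obtain ⟨s, hs⟩ := h'
    rw [hs]
    refine Nat.mul_le_mul_left r ((Nat.le_div_iff_mul_le hr.pos).2 ?_)
    rw [mul_comm, ← hs]
    have := Finset.card_le_univ τ.support
    rwa [Fintype.card_subtype, hfib] at this
  rw [← Finset.sum_add_sum_compl π.support, Finset.sum_congr rfl hmov, Finset.sum_const, smul_eq_mul, hj, hc] at hcnt
  have hle := Finset.sum_le_sum hfix
  rw [Finset.sum_const, smul_eq_mul, Finset.card_compl, Fintype.card_fin, hj] at hle
  refine ⟨j, ?_, ?_, ?_⟩
  · rw [← hj]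
    exact (Finset.card_le_univ _).trans (le_of_eq (Fintype.card_fin b))
  · refine Nat.le_of_mul_le_mul_right ?_ hr.pos
    have : j * a * r = r * j * a := by ring
    omega
  · refine Nat.le_of_mul_le_mul_right ?_ hr.pos
    have e1 : (j * a + (b - r * j) * (a / r)) * r = r * j * a + (b - r * j) * (r * (a / r)) := by ring
    omega

/-- The model points. -/
abbrev Pt (a b r j : ℕ) : Type :=
  ((Fin j × ZMod r) × Fin a) ⊕ (Fin (b - r * j) × ((Fin (a / r) × ZMod r) ⊕ Fin (a % r)))

/-- The model permutations. -/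
def act {a b r j : ℕ} (w : Fin (b - r * j) × Fin (a / r) → ZMod r) (z : ZMod r) : Perm (Pt a b r j) where
  toFun
    | Sum.inl ((u, v), t) => Sum.inl ((u, v + z), t)
    | Sum.inr (i, Sum.inl (l, v)) => Sum.inr (i, Sum.inl (l, v + z * w (i, l)))
    | Sum.inr (i, Sum.inr e) => Sum.inr (i, Sum.inr e)
  invFun
    | Sum.inl ((u, v), t) => Sum.inl ((u, v - z), t)
    | Sum.inr (i, Sum.inl (l, v)) => Sum.inr (i, Sum.inl (l, v - z * w (i, l)))
    | Sum.inr (i, Sum.inr e) => Sum.inr (i, Sum.inr e)
  left_inv := by rintro (⟨⟨u, v⟩, t⟩ | ⟨i, ⟨l, v⟩ | e⟩) <;> simp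
  right_inv := by rintro (⟨⟨u, v⟩, t⟩ | ⟨i, ⟨l, v⟩ | e⟩) <;> simp

theorem act_pow {a b r j : ℕ} (w : Fin (b - r * j) × Fin (a / r) → ZMod r) :
    ∀ n : ℕ, act w 1 ^ n = act w (n : ZMod r) := by
  intro n
  induction n with
  | zero =>
    ext x
    rcases x with ⟨⟨u, v⟩, t⟩ | ⟨i, ⟨l, v⟩ | e⟩ <;> simp [act]
  | succ n ih =>
    ext x
    rw [pow_succ', Perm.mul_apply, ih]
    rcases x with ⟨⟨u, v⟩, t⟩ | ⟨i, ⟨l, v⟩ | e⟩ <;> simp [act, add_assoc, add_mul]

/-- Every admissible number of cycles is realised. -/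
theorem fixed_of_cond {a b r c : ℕ} (hr : r.Prime) (hc1 : 1 ≤ c) (hcond : Cond a b r c)
    (σ : Perm (Fin (a * b))) (hσ : orderOf σ = r) (hc : σ.support.card = c * r) :
    ∃ f : Fin (a * b) → Fin b, (∀ i : Fin b, Nat.card {x : Fin (a * b) // f x = i} = a) ∧
      ∃ π : Perm (Fin b), ∀ x, f (σ x) = π (f x) := by
  classical
  haveI := Fact.mk hr
  obtain ⟨j, hjb, hja, hcle⟩ := hcond
  obtain ⟨D, -, hD⟩ := Finset.exists_subset_card_eq (s := (univ : Finset (Fin (b - r * j) × Fin (a / r))))
    (n := c - j * a) (by rw [Finset.card_univ, Fintype.card_prod, Fintype.card_fin, Fintype.card_fin]; omega)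
  let w : Fin (b - r * j) × Fin (a / r) → ZMod r := fun p => if p ∈ D then 1 else 0
  set θ : Perm (Pt a b r j) := act w 1 with hθ
  have hθr : θ ^ r = 1 := by
    rw [hθ, act_pow, ZMod.natCast_self]
    ext x
    rcases x with ⟨⟨u, v⟩, t⟩ | ⟨i, ⟨l, v⟩ | e⟩ <;> simp [act]
  -- blocks
  have hblk : Fintype.card ((Fin j × ZMod r) ⊕ Fin (b - r * j)) = b := by
    rw [Fintype.card_sum, Fintype.card_prod, Fintype.card_fin, ZMod.card, Fintype.card_fin, mul_comm j r]
    omega
  let β := Fintype.equivFinOfCardEq hblk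
  have hpts : Fintype.card (Pt a b r j) = a * b := by
    obtain ⟨s, hs⟩ := Nat.exists_eq_add_of_le hjb
    rw [Fintype.card_sum, Fintype.card_prod, Fintype.card_prod, Fintype.card_prod, Fintype.card_sum,
      Fintype.card_prod, Fintype.card_fin, Fintype.card_fin, Fintype.card_fin, Fintype.card_fin,
      Fintype.card_fin, ZMod.card, mul_comm (a / r) r, Nat.div_add_mod, hs, Nat.add_sub_cancel_left]
    ring
  let ε := Fintype.equivFinOfCardEq hpts
  let F : Pt a b r j → (Fin j × ZMod r) ⊕ Fin (b - r * j) := fun x => x.elim (fun y => Sum.inl y.1) (fun y => Sum.inr y.1)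
  have hF : ∀ y, Nat.card {x : Pt a b r j // F x = y} = a := by
    intro y
    rcases y with y | i
    · refine Eq.trans ?_ (Nat.card_fin a)
      refine Nat.card_congr
        { toFun := fun x => match x with
            | ⟨Sum.inl z, _⟩ => z.2
            | ⟨Sum.inr z, h⟩ => absurd h (by simp [F])
          invFun := fun t => ⟨Sum.inl (y, t), rfl⟩
          left_inv := ?_
          right_inv := fun t => rfl }
      rintro ⟨⟨z, t⟩ | z, h⟩
      · simp only [F, Sum.elim_inl, Sum.inl.injEq] at h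
        subst h
        rfl
      · simp [F] at h
    · have : Nat.card {x : Pt a b r j // F x = Sum.inr i} = Nat.card ((Fin (a / r) × ZMod r) ⊕ Fin (a % r)) := by
        refine Nat.card_congr
          { toFun := fun x => match x with
              | ⟨Sum.inl z, h⟩ => absurd h (by simp [F])
              | ⟨Sum.inr z, _⟩ => z.2
            invFun := fun t => ⟨Sum.inr (i, t), rfl⟩
            left_inv := ?_
            right_inv := fun t => rfl }
        rintro ⟨z | ⟨z, t⟩, h⟩
        · simp [F] at h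
        · simp only [F, Sum.elim_inr, Sum.inr.injEq] at h
          subst h
          rfl
      rw [this, Nat.card_eq_fintype_card, Fintype.card_sum, Fintype.card_prod, Fintype.card_fin,
        Fintype.card_fin, ZMod.card, mul_comm (a / r) r, Nat.div_add_mod]
  let πb : Perm ((Fin j × ZMod r) ⊕ Fin (b - r * j)) :=
    Equiv.sumCongr (Equiv.prodCongr (Equiv.refl _) (Equiv.addRight (1 : ZMod r))) (Equiv.refl _)
  have hFθ : ∀ x, F (θ x) = πb (F x) := by
    intro x
    rcases x with ⟨⟨u, v⟩, t⟩ | ⟨i, ⟨l, v⟩ | e⟩ <;> simp [hθ, act, F, πb]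
  -- the number of moved points
  have hsupp : θ.support.card = c * r := by
    rw [Perm.support, Finset.card_filter, Fintype.sum_sum_type]
    have h1 : ∀ x : (Fin j × ZMod r) × Fin a, θ (Sum.inl x) ≠ Sum.inl x := by
      rintro ⟨⟨u, v⟩, t⟩
      simp [hθ, act]
    have h2 : ∀ p : Fin (b - r * j) × ((Fin (a / r) × ZMod r) ⊕ Fin (a % r)),
        (if θ (Sum.inr p) ≠ Sum.inr p then 1 else 0) =
          p.2.elim (fun z => if (p.1, z.1) ∈ D then 1 else 0) (fun _ => 0) := by
      rintro ⟨i, ⟨l, v⟩ | e⟩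
      · by_cases hd : (i, l) ∈ D <;> simp [hθ, act, w, hd]
      · simp [hθ, act]
    rw [Finset.sum_congr rfl (fun x _ => if_pos (h1 x)), Finset.sum_congr rfl (fun p _ => h2 p),
      Finset.sum_const, Finset.card_univ, smul_eq_mul, mul_one, Fintype.card_prod, Fintype.card_prod,
      Fintype.card_fin, Fintype.card_fin, ZMod.card, Fintype.sum_prod_type]
    have h3 : ∑ i : Fin (b - r * j), ∑ y : (Fin (a / r) × ZMod r) ⊕ Fin (a % r),
        (Sum.elim (fun z => if (i, z.1) ∈ D then 1 else 0) (fun _ => 0) y : ℕ) = r * D.card := by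
      simp only [Fintype.sum_sum_type, Sum.elim_inl, Sum.elim_inr, Finset.sum_const_zero, add_zero,
        Fintype.sum_prod_type]
      have hin : ∀ (i : Fin (b - r * j)) (l : Fin (a / r)), (∑ _v : ZMod r, if (i, l) ∈ D then 1 else 0 : ℕ) =
          r * (if (i, l) ∈ D then 1 else 0) := fun i l => by simp
      simp only [hin, ← Finset.mul_sum]
      rw [← Fintype.sum_prod_type (f := fun p : Fin (b - r * j) × Fin (a / r) => if p ∈ D then (1 : ℕ) else 0)]
      simp
    rw [h3, hD]
    calc j * r * a + r * (c - j * a) = r * (j * a + (c - j * a)) := by ring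
      _ = c * r := by rw [Nat.add_sub_cancel' hja, mul_comm]
  -- transfer
  set σ' : Perm (Fin (a * b)) := ε.permCongr θ with hσ'
  have hσ'supp : σ'.support.card = c * r := by
    rw [← hsupp]
    refine Finset.card_bij (fun x _ => ε.symm x) (fun x hx => ?_) (fun x _ y _ h => ε.symm.injective h)
      (fun y hy => ⟨ε y, ?_, ε.symm_apply_apply y⟩)
    · rw [Perm.mem_support] at hx ⊢
      intro h
      exact hx (by rw [hσ', Equiv.permCongr_apply, h, Equiv.apply_symm_apply])
    · rw [Perm.mem_support] at hy ⊢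
      intro h
      rw [hσ', Equiv.permCongr_apply, Equiv.symm_apply_apply] at h
      exact hy (ε.injective h)
  have hσ'o : orderOf σ' = r := by
    refine orderOf_eq_prime ?_ fun h => ?_
    · have : ∀ n : ℕ, σ' ^ n = ε.permCongr (θ ^ n) := by
        intro n
        induction n with
        | zero => ext x; simp
        | succ n ih => ext x; rw [pow_succ', pow_succ', ih]; simp [hσ', Equiv.permCongr_apply]
      rw [this, hθr]
      ext x; simp
    · rw [h, Perm.support_one, Finset.card_empty] at hσ'supp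
      have := Nat.mul_pos hc1 hr.pos
      omega
  have hconj : IsConj σ' σ := by
    rw [Perm.isConj_iff_cycleType_eq]
    obtain ⟨n1, h1⟩ := Perm.cycleType_prime_order (σ := σ') (by rw [hσ'o]; exact hr)
    obtain ⟨n2, h2⟩ := Perm.cycleType_prime_order (σ := σ) (by rw [hσ]; exact hr)
    have s1 := Perm.sum_cycleType σ'
    have s2 := Perm.sum_cycleType σ
    rw [h1, hσ'o, Multiset.sum_replicate, smul_eq_mul, hσ'supp] at s1
    rw [h2, hσ, Multiset.sum_replicate, smul_eq_mul, hc] at s2
    rw [h1, h2, hσ'o, hσ, Nat.eq_of_mul_eq_mul_right hr.pos (s1.trans s2.symm)]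
  obtain ⟨g, hg⟩ := isConj_iff.1 hconj
  refine ⟨fun x => β (F (ε.symm (g⁻¹ x))), fun i => ?_, β.permCongr πb, fun x => ?_⟩
  · refine Eq.trans ?_ (hF (β.symm i))
    refine Nat.card_congr (Equiv.subtypeEquiv ((g⁻¹ : Perm (Fin (a * b))).trans ε.symm) fun x => ?_)
    simp only [Equiv.trans_apply]
    exact β.apply_eq_iff_eq_symm_apply
  · show β (F (ε.symm (g⁻¹ (σ x)))) = β.permCongr πb (β (F (ε.symm (g⁻¹ x))))
    rw [Equiv.permCongr_apply, Equiv.symm_apply_apply, ← hFθ, ← hg]
    simp [hσ', Equiv.permCongr_apply]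

/-- There is an element with any possible number of cycles. -/
theorem exists_cycles {n r c : ℕ} (hr : r.Prime) (hc1 : 1 ≤ c) (hcr : c * r ≤ n) :
    ∃ σ : Perm (Fin n), orderOf σ = r ∧ σ.support.card = c * r := by
  classical
  obtain ⟨σ, hσ⟩ := (Equiv.Perm.exists_with_cycleType_iff (Fin n) (m := Multiset.replicate c r)).2
    ⟨by rw [Multiset.sum_replicate, smul_eq_mul, Fintype.card_fin]; exact hcr,
      fun x hx => (Multiset.eq_of_mem_replicate hx) ▸ hr.two_le⟩
  haveI := Fact.mk hr
  refine ⟨σ, ?_, by rw [← Perm.sum_cycleType, hσ, Multiset.sum_replicate, smul_eq_mul]⟩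
  refine orderOf_eq_prime (orderOf_dvd_iff_pow_eq_one.1 ?_) ?_
  · rw [← Perm.lcm_cycleType, hσ]
    exact Multiset.lcm_dvd.2 fun x hx => (Multiset.eq_of_mem_replicate hx) ▸ dvd_rfl
  · rintro rfl
    rw [Perm.cycleType_one] at hσ
    have := congrArg Multiset.card hσ
    simp at this
    omega

/-- Let a, b ≥ 2 and consider the symmetric group of degree a·b acting on the partitions of an (a·b)-set into b parts of size a (encoded as maps onto a b-element set all of whose fibres have a elements; a permutation fixes such a partition when it permutes the fibres). Let r be a prime dividing the number (ab)!/((a!)^b·b!) of such partitions, and let ℓ and k be the remainders of a and b modulo r. Then every permutation of order r fixes some such partition if and only if r ≤ a and one of the following holds: ℓ = 0; or k = 0 and ℓ = 1; or ℓ and k are non-zero, k·ℓ < r, and either b < r or (k + r)·ℓ ≤ k·a + r. -/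
theorem result (a b : ℕ) (ha : 2 ≤ a) (hb : 2 ≤ b) (r : ℕ) (hr : r.Prime)
    (hrd : r ∣ (a * b).factorial / (a.factorial ^ b * b.factorial)) :
    (∀ σ : Equiv.Perm (Fin (a * b)), orderOf σ = r →
        ∃ f : Fin (a * b) → Fin b, (∀ j : Fin b, Nat.card {x : Fin (a * b) // f x = j} = a) ∧
          ∃ π : Equiv.Perm (Fin b), ∀ x : Fin (a * b), f (σ x) = π (f x)) ↔
      (r ≤ a ∧ (a % r = 0 ∨ (b % r = 0 ∧ a % r = 1) ∨
        (a % r ≠ 0 ∧ b % r ≠ 0 ∧ (b % r) * (a % r) < r ∧ (b < r ∨ (b % r + r) * (a % r) ≤ (b % r) * a + r)))) := by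
  classical
  haveI := Fact.mk hr
  have hab : r ≤ a * b := by
    refine hr.dvd_factorial.1 (hrd.trans (Nat.div_dvd_of_dvd ?_))
    exact ⟨Nat.uniformBell b a, by rw [mul_comm a b, ← Nat.uniformBell_mul_eq b (by omega : a ≠ 0)]; ring⟩
  constructor
  · intro h
    refine cond_only hr.two_le ha hab fun c hc1 hc => ?_
    obtain ⟨σ, hσ, hsupp⟩ := exists_cycles hr hc1 hc
    obtain ⟨f, hf, π, hπ⟩ := h σ hσ
    exact cond_of_fixed hr (by omega) σ (by rw [← hσ]; exact pow_orderOf_eq_one σ) hsupp f hf π hπ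
  · rintro ⟨hra, h⟩ σ hσ
    obtain ⟨c, hc⟩ := Perm.cycleType_prime_order (σ := σ) (by rw [hσ]; exact hr)
    have hs := Perm.sum_cycleType σ
    rw [hc, hσ, Multiset.sum_replicate, smul_eq_mul] at hs
    refine fixed_of_cond hr (Nat.succ_pos c) (cond_all hr.two_le ha hra h (c + 1) ?_) σ hσ hs.symm
    rw [hs]
    exact (Finset.card_le_univ _).trans (le_of_eq (Fintype.card_fin _))

end Cfsg.Agent.S3575
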