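import Cfsg.Statements.S3599
import Mathlib

set_option autoImplicit false
open Cfsg

namespace Cfsg.Agent.S3599

/-- What is needed from the Frobenius group with elementary kernel and complement of prime order. -/
structure Block (p q : ℕ) (H : Type) [Group H] : Prop where
  orders : ∀ x : H, orderOf x = 1 ∨ orderOf x = p ∨ orderOf x = q
  exists_p : ∃ x : H, orderOf x = p
  exists_q : ∃ x : H, orderOf x = q
  eq_top : ∀ K : Subgroup H, (∃ x ∈ K, orderOf x = p) → (∃ x ∈ K, orderOf x = q) → K = ⊤
  mem_normal : ∀ M : Subgroup H, M.Normal → M ≠ ⊥ → ∀ x : H, orderOf x = p → x ∈ M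
  comm_p : ∀ x y : H, orderOf x = p → orderOf y = p → Commute x y
  noncomm_q : ∃ x y : H, orderOf x = q ∧ orderOf y = q ∧ ¬ Commute x y

/-- Multiplication by units, on the additive group. -/
def mulAutHom (R : Type) [CommRing R] : Rˣ →* MulAut (Multiplicative R) where
  toFun c :=
    { toFun := fun v => Multiplicative.ofAdd ((c : R) * Multiplicative.toAdd v)
      invFun := fun v => Multiplicative.ofAdd (((c⁻¹ : Rˣ) : R) * Multiplicative.toAdd v)
      left_inv := fun v => by simp
      right_inv := fun v => by simp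
      map_mul' := fun v w => by simp [mul_add, ofAdd_add] }
  map_one' := by ext v; simp
  map_mul' a b := by ext v; simp [mul_assoc]

theorem mulAutHom_apply {R : Type} [CommRing R] (c : Rˣ) (v : Multiplicative R) :
    mulAutHom R c v = Multiplicative.ofAdd ((c : R) * Multiplicative.toAdd v) := rfl

theorem exists_block (p q : ℕ) [Fact p.Prime] [Fact q.Prime] (hpq : p ≠ q) :
    ∃ (H : Type) (_ : Group H) (_ : Fintype H), Block p q H := by
  classical
  have hp : p.Prime := Fact.out
  have hq : q.Prime := Fact.out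
  let F := GaloisField p (q - 1)
  have hFc : q ∣ Nat.card Fˣ := by
    rw [Nat.card_units, GaloisField.card p (q - 1) (by have := hq.two_le; omega)]
    have h1 : ¬ q ∣ p := fun h => hpq ((Nat.prime_dvd_prime_iff_eq hq hp).1 h).symm
    refine (ZMod.natCast_eq_zero_iff _ _).1 ?_
    rw [Nat.cast_sub (Nat.one_le_pow _ _ hp.pos), Nat.cast_pow, Nat.cast_one,
      ZMod.pow_card_sub_one_eq_one (by rwa [ne_eq, ZMod.natCast_eq_zero_iff]), sub_self]
  obtain ⟨ζ, hζ⟩ := exists_prime_orderOf_dvd_card' (G := Fˣ) q hFc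
  let R : Subring F := Subring.closure {(ζ : F)}
  let r : R := ⟨(ζ : F), Subring.subset_closure rfl⟩
  have hrq : r ^ q = 1 := Subtype.ext (by
    show (ζ : F) ^ q = 1
    have h1 := congrArg Units.val (pow_orderOf_eq_one ζ)
    rwa [hζ, Units.val_pow_eq_pow_val, Units.val_one] at h1)
  let z : (R)ˣ := Units.ofPowEqOne r q hrq hq.ne_zero
  have hz1 : z ≠ 1 := fun h => by
    have h1 : (ζ : F) = 1 := congrArg (fun u : (R)ˣ => ((u : R) : F)) h
    rw [Units.val_eq_one.1 h1, orderOf_one] at hζ
    exact hq.one_lt.ne hζ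
  have hz : orderOf z = q := orderOf_eq_prime (Units.ext hrq) hz1
  let C : Subgroup (R)ˣ := Subgroup.zpowers z
  let φ : C →* MulAut (Multiplicative R) := (mulAutHom R).comp C.subtype
  let H := Multiplicative R ⋊[φ] C
  have : Finite H := Finite.of_equiv _ SemidirectProduct.equivProd.symm
  have hCq : ∀ c : C, c ≠ 1 → orderOf c = q := by
    intro c hc
    have hd := orderOf_dvd_natCard c
    rw [Nat.card_zpowers, hz] at hd
    exact (hq.eq_one_or_self_of_dvd _ hd).resolve_left fun h => hc (orderOf_eq_one_iff.1 h)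
  have hact : ∀ (c : C) (v : R), φ c (Multiplicative.ofAdd v) = Multiplicative.ofAdd (((c : (R)ˣ) : R) * v) :=
    fun c v => rfl
  have hfix : ∀ (c : C) (v : Multiplicative R), c ≠ 1 → φ c v = v → v = 1 := by
    intro c v hc h
    have h' : ((c : (R)ˣ) : R) * Multiplicative.toAdd v = Multiplicative.toAdd v := congrArg Multiplicative.toAdd h
    have h2 : (((c : (R)ˣ) : R) - 1) * Multiplicative.toAdd v = 0 := by rw [sub_mul, h', one_mul, sub_self]
    rcases mul_eq_zero.1 h2 with h3 | h3
    · exact absurd (Subtype.ext (Units.ext (sub_eq_zero.1 h3))) hc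
    · exact Multiplicative.toAdd.injective h3
  have hp0 : ∀ v : Multiplicative R, v ^ p = 1 := fun v => by
    apply Multiplicative.toAdd.injective
    rw [toAdd_pow, toAdd_one, nsmul_eq_mul]
    have : ((p : ℕ) : R) = 0 := Subtype.ext (by
      show ((p : R) : F) = 0
      rw [SubringClass.coe_natCast, CharP.cast_eq_zero])
    rw [this, zero_mul]
  have horder : ∀ x : H, x.right ≠ 1 → orderOf x = q := by
    intro x hx
    refine orderOf_eq_prime ?_ fun h => hx (by rw [h]; rfl)
    have hr : (x ^ q).right = 1 := by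
      show SemidirectProduct.rightHom (x ^ q) = 1
      rw [map_pow]
      show x.right ^ q = 1
      have h1 := pow_orderOf_eq_one x.right
      rwa [hCq _ hx] at h1
    have hcom : x * x ^ q = x ^ q * x := ((Commute.refl x).pow_right q).eq
    have hl := congrArg SemidirectProduct.left hcom
    rw [SemidirectProduct.mul_left, SemidirectProduct.mul_left, hr, map_one, MulAut.one_apply,
      mul_comm (x ^ q).left, mul_left_cancel_iff] at hl
    exact SemidirectProduct.ext (hfix _ _ hx hl) hr
  have hleft : ∀ x : H, x.right = 1 → x = SemidirectProduct.inl x.left := fun x hx =>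
    SemidirectProduct.ext rfl hx
  have hinl : ∀ v : Multiplicative R, v ≠ 1 → orderOf (SemidirectProduct.inl v : H) = p := fun v hv =>
    orderOf_eq_prime (by rw [← map_pow, hp0, map_one]) fun h => hv (SemidirectProduct.inl_injective (h.trans (map_one _).symm))
  have hordp : ∀ x : H, orderOf x = p → x.right = 1 := fun x hx => by
    by_contra h
    exact hpq (hx.symm.trans (horder x h))
  have hstab : ∀ (W : Subgroup (Multiplicative R)) (w : Multiplicative R) (c : C), c ≠ 1 →
      (∀ v ∈ W, φ c v ∈ W) → w ∈ W → w ≠ 1 → W = ⊤ := by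
    intro W w c hc hW hw hw1
    have hW' : ∀ (j : ℕ), ∀ v ∈ W, φ (c ^ j) v ∈ W := by
      intro j
      induction j with
      | zero => intro v hv; rwa [pow_zero, map_one, MulAut.one_apply]
      | succ j ih => intro v hv; rw [pow_succ', map_mul, MulAut.mul_apply]; exact hW _ (ih v hv)
    obtain ⟨j, hj⟩ : ∃ j : ℕ, c ^ j = ⟨z, Subgroup.mem_zpowers z⟩ := by
      have h1 : Subgroup.zpowers c = ⊤ := Subgroup.eq_top_of_card_eq _ (by
        rw [Nat.card_zpowers, hCq c hc, Nat.card_zpowers, hz])
      have h2 : (⟨z, Subgroup.mem_zpowers z⟩ : C) ∈ Subgroup.zpowers c := h1 ▸ Subgroup.mem_top _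
      exact mem_powers_iff_mem_zpowers.2 h2
    let T : Subring R :=
      { carrier := {a | ∀ v ∈ W, Multiplicative.ofAdd (a * Multiplicative.toAdd v) ∈ W}
        one_mem' := fun v hv => by rwa [one_mul]
        mul_mem' := fun {a b} ha hb v hv => by
          have := ha _ (hb v hv)
          rwa [toAdd_ofAdd, ← mul_assoc] at this
        zero_mem' := fun v hv => by rw [zero_mul, ofAdd_zero]; exact one_mem _
        add_mem' := fun {a b} ha hb v hv => by
          rw [add_mul, ofAdd_add]; exact mul_mem (ha v hv) (hb v hv)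
        neg_mem' := fun {a} ha v hv => by rw [neg_mul, ofAdd_neg]; exact inv_mem (ha v hv) }
    have hT : ∀ a : R, a ∈ T := by
      intro a
      obtain ⟨a, ha⟩ := a
      have : a ∈ T.map R.subtype := by
        refine (Subring.closure_le.2 ?_) ha
        rintro _ rfl
        refine ⟨r, fun v hv => ?_, rfl⟩
        have h3 := hW' j v hv
        rw [hj] at h3
        exact h3
      obtain ⟨b, hb, hba⟩ := this
      rwa [show (⟨a, ha⟩ : R) = b from Subtype.ext hba.symm]
    have hne : Multiplicative.toAdd w ≠ 0 := fun h => hw1 (Multiplicative.toAdd.injective h)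
    have hsur : Function.Surjective fun a : R => a * Multiplicative.toAdd w :=
      Finite.surjective_of_injective (mul_left_injective₀ hne)
    refine eq_top_iff.2 fun v _ => ?_
    obtain ⟨a, ha⟩ := hsur (Multiplicative.toAdd v)
    have h4 := hT a w hw
    dsimp only at ha
    rwa [ha, ofAdd_toAdd] at h4
  have hconj : ∀ (x : H) (v : Multiplicative R),
      x * SemidirectProduct.inl v * x⁻¹ = SemidirectProduct.inl (φ x.right v) := by
    intro x v
    calc x * SemidirectProduct.inl v * x⁻¹
        = SemidirectProduct.inl x.left * (SemidirectProduct.inr x.right * SemidirectProduct.inl v *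
            SemidirectProduct.inr x.right⁻¹) * (SemidirectProduct.inl x.left)⁻¹ := by
          conv_lhs => rw [← SemidirectProduct.inl_left_mul_inr_right x]
          rw [map_inv, mul_inv_rev]
          simp only [mul_assoc]
      _ = SemidirectProduct.inl (φ x.right v) := by
          rw [← SemidirectProduct.inl_aut, ← map_inv, ← map_mul, ← map_mul, mul_comm x.left, mul_inv_cancel_right]
  refine ⟨H, inferInstance, Fintype.ofFinite _, ⟨fun x => ?_, ?_, ?_, ?_, ?_, ?_, ?_⟩⟩
  · by_cases hx : x.right = 1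
    · by_cases hl : x.left = 1
      · exact Or.inl (orderOf_eq_one_iff.2 (SemidirectProduct.ext hl hx))
      · exact Or.inr (Or.inl (by rw [hleft x hx]; exact hinl _ hl))
    · exact Or.inr (Or.inr (horder x hx))
  · exact ⟨_, hinl (Multiplicative.ofAdd 1) fun h => one_ne_zero (congrArg Multiplicative.toAdd h)⟩
  · exact ⟨SemidirectProduct.inr ⟨z, Subgroup.mem_zpowers z⟩, horder _ fun h => hz1 (congrArg Subtype.val h)⟩
  · rintro K ⟨x, hxK, hx⟩ ⟨y, hyK, hy⟩
    have hy1 : y.right ≠ 1 := fun h => by
      have h1 : orderOf y ∣ p := orderOf_dvd_of_pow_eq_one (by rw [hleft y h, ← map_pow, hp0, map_one])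
      rw [hy, Nat.prime_dvd_prime_iff_eq hq hp] at h1
      exact hpq h1.symm
    have hW := hstab (K.comap SemidirectProduct.inl) x.left y.right hy1 (fun v hv => by
      rw [Subgroup.mem_comap, ← hconj]
      exact mul_mem (mul_mem hyK hv) (inv_mem hyK)) (by
      rw [Subgroup.mem_comap, ← hleft x (hordp x hx)]; exact hxK) (fun h => by
      rw [hleft x (hordp x hx), h, map_one, orderOf_one] at hx
      exact hp.one_lt.ne hx)
    have hl : ∀ v, (SemidirectProduct.inl v : H) ∈ K := fun v =>
      (hW.ge (Subgroup.mem_top v) : v ∈ K.comap SemidirectProduct.inl)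
    have hr : (SemidirectProduct.inr y.right : H) ∈ K := by
      have := mul_mem (inv_mem (hl y.left)) hyK
      conv at this => arg 2; arg 2; rw [← SemidirectProduct.inl_left_mul_inr_right y]
      rwa [inv_mul_cancel_left] at this
    refine eq_top_iff.2 fun g _ => ?_
    rw [← SemidirectProduct.inl_left_mul_inr_right g]
    refine mul_mem (hl _) ?_
    have h1 : Subgroup.zpowers y.right = ⊤ := Subgroup.eq_top_of_card_eq _ (by
      rw [Nat.card_zpowers, hCq _ hy1, Nat.card_zpowers, hz])
    obtain ⟨i, hi⟩ := Subgroup.mem_zpowers_iff.1 (h1.ge (Subgroup.mem_top g.right))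
    rw [← hi, map_zpow]
    exact zpow_mem hr i
  · intro M hM hne x hx
    rw [hleft x (hordp x hx)]
    obtain ⟨⟨m, hm⟩, hm1'⟩ := (M.ne_bot_iff_exists_ne_one.1 hne : ∃ m : M, m ≠ 1)
    have hm1 : m ≠ 1 := fun e => hm1' (Subtype.ext e)
    obtain ⟨w, hw, hw1⟩ : ∃ w : Multiplicative R, (SemidirectProduct.inl w : H) ∈ M ∧ w ≠ 1 := by
      by_cases hmr : m.right = 1
      · exact ⟨m.left, hleft m hmr ▸ hm, fun h => hm1 (by rw [hleft m hmr, h, map_one])⟩
      · refine ⟨φ m.right (Multiplicative.ofAdd 1) * (Multiplicative.ofAdd (1 : R))⁻¹, ?_, fun h => ?_⟩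
        · rw [map_mul, map_inv, ← hconj]
          have := mul_mem hm (hM.conj_mem _ (inv_mem hm) (SemidirectProduct.inl (Multiplicative.ofAdd (1 : R))))
          simpa [mul_assoc] using this
        · exact one_ne_zero (congrArg Multiplicative.toAdd (hfix _ _ hmr (mul_inv_eq_one.1 h)))
    exact (hstab (M.comap SemidirectProduct.inl) w ⟨z, Subgroup.mem_zpowers z⟩
      (fun h => hz1 (congrArg Subtype.val h)) (fun v hv => by
        rw [Subgroup.mem_comap]
        have := hM.conj_mem _ hv (SemidirectProduct.inr ⟨z, Subgroup.mem_zpowers z⟩)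
        rwa [hconj, SemidirectProduct.right_inr] at this) hw hw1).ge (Subgroup.mem_top _)
  · intro x y hx hy
    rw [hleft x (hordp x hx), hleft y (hordp y hy)]
    exact (Commute.all _ _).map SemidirectProduct.inl
  · set c : C := ⟨z, Subgroup.mem_zpowers z⟩
    have hc : c ≠ 1 := fun h => hz1 (congrArg Subtype.val h)
    refine ⟨SemidirectProduct.inr c, SemidirectProduct.inl (Multiplicative.ofAdd 1) * SemidirectProduct.inr c,
      horder _ hc, horder _ (by
      rw [SemidirectProduct.mul_right]
      exact fun h => hc ((one_mul c).symm.trans h)), fun h => ?_⟩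
    have hl := congrArg SemidirectProduct.left h.eq
    replace hl : 1 * φ c (Multiplicative.ofAdd 1 * φ 1 1) =
        (Multiplicative.ofAdd 1 * φ 1 1) * φ (1 * c) 1 := hl
    simp only [map_one, MulAut.one_apply, mul_one, one_mul] at hl
    exact one_ne_zero (congrArg Multiplicative.toAdd (hfix c _ hc hl))

/-- A finite group is critical with respect to a set Ω of natural numbers when its set of element orders is Ω while no proper section H/N (H a subgroup, N normal in H, (H, N) ≠ (whole group, 1)) has Ω as its set of element orders. Let s ≥ 1 and let p(j,0), p(j,1) (j < s) be 2s pairwise distinct primes, and let Ω be the set of all products c(0)·…·c(s−1) with each c(j) ∈ {1, p(j,0), p(j,1)}. Then there are 2^s pairwise non-isomorphic finite groups critical with respect to Ω. -/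
theorem result (s : ℕ) (hs : 1 ≤ s) (p : Fin s → Fin 2 → ℕ)
    (hp : ∀ j i, (p j i).Prime) (hinj : ∀ j i j' i', p j i = p j' i' → j = j' ∧ i = i') :
    ∃ (G : Fin (2 ^ s) → Type) (_ : ∀ a, Group (G a)) (_ : ∀ a, Fintype (G a)),
      (∀ a b, a ≠ b → ¬ Nonempty (G a ≃* G b)) ∧
      ∀ a, Set.range (orderOf : (G a) → ℕ) = {m : ℕ | ∃ c : Fin s → ℕ, (∀ j, c j = 1 ∨ c j = p j 0 ∨ c j = p j 1) ∧ m = ∏ j, c j} ∧
      ∀ (H : Subgroup (G a)) (N : Subgroup ↥H) [N.Normal], (H ≠ ⊤ ∨ N ≠ ⊥) → Set.range (orderOf : (↥H ⧸ N) → ℕ) ≠ {m : ℕ | ∃ c : Fin s → ℕ, (∀ j, c j = 1 ∨ c j = p j 0 ∨ c j = p j 1) ∧ m = ∏ j, c j} := by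
  classical
  have hne : ∀ j (e : Fin 2), p j e ≠ p j (1 - e) := fun j e h =>
    ((by decide : ∀ e : Fin 2, e ≠ 1 - e) e) (hinj _ _ _ _ h).2
  have hblk : ∀ (j : Fin s) (e : Fin 2), ∃ (H : Type) (_ : Group H) (_ : Fintype H), Block (p j e) (p j (1 - e)) H :=
    fun j e => by
      haveI : Fact (p j e).Prime := ⟨hp _ _⟩
      haveI : Fact (p j (1 - e)).Prime := ⟨hp _ _⟩
      exact exists_block _ _ (hne j e)
  choose H instG instF hB using hblk
  let side : Fin (2 ^ s) → Fin s → Fin 2 := fun a => finFunctionFinEquiv.symm a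
  have hdec : ∀ (e i : Fin 2), i = e ∨ i = 1 - e := by decide
  have hord' : ∀ (j : Fin s) (e : Fin 2) (x : H j e), orderOf x = 1 ∨ ∃ i, orderOf x = p j i := fun j e x => by
    rcases (hB j e).orders x with h | h | h
    · exact Or.inl h
    · exact Or.inr ⟨_, h⟩
    · exact Or.inr ⟨_, h⟩
  let E : Fin s → ℕ := fun j => p j 0 * p j 1
  have hpE : ∀ j i, p j i ∣ E j := fun j i => by
    rcases hdec 0 i with rfl | rfl
    · exact dvd_mul_right _ _
    · exact dvd_mul_left _ _
  have hxE : ∀ (j : Fin s) (e : Fin 2) (x : H j e), x ^ E j = 1 := fun j e x => by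
    refine orderOf_dvd_iff_pow_eq_one.1 ?_
    rcases hord' j e x with h | ⟨i, h⟩
    · rw [h]; exact one_dvd _
    · rw [h]; exact hpE j i
  have hcopE : ∀ i j, i ≠ j → Nat.Coprime (E i) (E j) := fun i j hij => by
    have h : ∀ a b, Nat.Coprime (p i a) (p j b) := fun a b =>
      (Nat.coprime_primes (hp _ _) (hp _ _)).2 fun h => hij (hinj _ _ _ _ h).1
    exact Nat.Coprime.mul_left (Nat.Coprime.mul_right (h _ _) (h _ _)) (Nat.Coprime.mul_right (h _ _) (h _ _))
  have hE1 : ∀ j, 1 < E j := fun j =>
    Nat.lt_of_lt_of_le (hp j 0).one_lt (Nat.le_mul_of_pos_right _ (hp j 1).pos)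
  have hidem : ∀ j, ∃ c : ℕ, c % E j = 1 ∧ ∀ i, i ≠ j → E i ∣ c := by
    intro j
    have hco : Nat.Coprime (∏ i ∈ Finset.univ.erase j, E i) (E j) :=
      Nat.Coprime.prod_left fun i hi => hcopE i j (Finset.ne_of_mem_erase hi)
    obtain ⟨c, hc1, hc2⟩ := Nat.chineseRemainder hco 0 1
    refine ⟨c, ?_, fun i hi => ?_⟩
    · rw [hc2, Nat.mod_eq_of_lt (hE1 j)]
    · exact (Finset.dvd_prod_of_mem E (Finset.mem_erase.2 ⟨hi, Finset.mem_univ _⟩)).trans (Nat.modEq_zero_iff_dvd.1 hc1)
  choose idx hidx1 hidx0 using hidem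
  have hsingle : ∀ (a : Fin (2 ^ s)) (j : Fin s) (x : ∀ i, H i (side a i)),
      x ^ idx j = Pi.mulSingle j (x j) := by
    intro a j x
    funext i
    by_cases hi : i = j
    · subst hi
      rw [Pi.pow_apply, Pi.mulSingle_eq_same, pow_eq_pow_mod _ (hxE _ _ (x i)), hidx1, pow_one]
    · rw [Pi.pow_apply, Pi.mulSingle_eq_of_ne hi]
      obtain ⟨t, ht⟩ := hidx0 j i hi
      rw [ht, pow_mul, hxE, one_pow]
  set Om := {m : ℕ | ∃ c : Fin s → ℕ, (∀ j, c j = 1 ∨ c j = p j 0 ∨ c j = p j 1) ∧ m = ∏ j, c j} with hOm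
  have hex : ∀ j e i, ∃ x : H j e, orderOf x = p j i := fun j e i => by
    rcases hdec e i with rfl | rfl
    · exact (hB j _).exists_p
    · exact (hB j _).exists_q
  have hord : ∀ a (x : ∀ i, H i (side a i)), orderOf x = ∏ j, orderOf (x j) := by
    intro a x
    refine Nat.dvd_antisymm (orderOf_dvd_of_pow_eq_one (funext fun i => ?_)) ?_
    · rw [Pi.pow_apply]
      exact orderOf_dvd_iff_pow_eq_one.1 (Finset.dvd_prod_of_mem _ (Finset.mem_univ i))
    · refine Finset.prod_dvd_of_isRelPrime ?_ fun i _ => orderOf_dvd_of_pow_eq_one ?_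
      · intro i _ j _ hij
        exact Nat.coprime_iff_isRelPrime.1 (((hcopE i j hij).coprime_dvd_left (orderOf_dvd_iff_pow_eq_one.2 (hxE _ _ (x i)))).coprime_dvd_right
          (orderOf_dvd_iff_pow_eq_one.2 (hxE _ _ (x j))))
      · rw [← Pi.pow_apply, pow_orderOf_eq_one, Pi.one_apply]
  refine ⟨fun a => ∀ j, H j (side a j), fun a => inferInstance, fun a => inferInstance, ?_, fun a => ⟨?_, ?_⟩⟩
  · -- non-isomorphic
    rintro a b hab ⟨f⟩
    obtain ⟨j, hj⟩ := Function.ne_iff.1 (fun h => hab (finFunctionFinEquiv.symm.injective h) : side a ≠ side b)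
    have hba : side b j = 1 - side a j := (hdec _ _).resolve_left (Ne.symm hj)
    obtain ⟨u, v, hu, hv, huv⟩ := (hB j (side a j)).noncomm_q
    have hsw : ∀ w : H j (side a j), orderOf (Pi.mulSingle j w : ∀ i, H i (side a i)) = orderOf w := fun w =>
      orderOf_injective (MonoidHom.mulSingle (fun i => H i (side a i)) j)
        (fun v v' h => by simpa using congrFun h j) w
    have himg : ∀ w : H j (side a j), orderOf w = p j (1 - side a j) →
        ∀ i, i ≠ j → f (Pi.mulSingle j w) i = 1 := by
      intro w hw i hi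
      refine orderOf_eq_one_iff.1 (Nat.eq_one_of_dvd_coprimes (hcopE i j hi) (orderOf_dvd_iff_pow_eq_one.2 (hxE _ _ _)) ?_)
      refine (orderOf_map_dvd (Pi.evalMonoidHom (fun i => H i (side b i)) i) _).trans ?_
      refine (show orderOf (f (Pi.mulSingle j w)) ∣ E j from ?_)
      erw [MulEquiv.orderOf_eq f, hsw w, hw]
      exact hpE _ _
    have himgj : ∀ w : H j (side a j), orderOf w = p j (1 - side a j) →
        orderOf (f (Pi.mulSingle j w) j) = p j (side b j) := by
      intro w hw
      have h1 : orderOf (f (Pi.mulSingle j w)) = p j (1 - side a j) := by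
        rw [MulEquiv.orderOf_eq f, hsw w, hw]
      rw [hord, Finset.prod_eq_single j (fun i _ hi => by rw [himg w hw i hi, orderOf_one]) (fun h => absurd (Finset.mem_univ j) h)] at h1
      rw [h1, hba]
    refine huv ?_
    have hcm : Commute (f (Pi.mulSingle j u)) (f (Pi.mulSingle j v)) := by
      funext i
      by_cases hi : i = j
      · subst hi
        exact (hB i (side b i)).comm_p _ _ (himgj u hu) (himgj v hv)
      · simp [Pi.mul_apply, himg u hu i hi, himg v hv i hi]
    have h2 := congrFun (show Pi.mulSingle j u * Pi.mulSingle j v = Pi.mulSingle j v * Pi.mulSingle j u from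
      f.injective (by rw [map_mul, map_mul]; exact hcm)) j
    rw [Pi.mul_apply, Pi.mul_apply, Pi.mulSingle_eq_same, Pi.mulSingle_eq_same] at h2
    exact h2
  · -- spectrum
    ext m
    constructor
    · rintro ⟨x, rfl⟩
      refine ⟨fun j => orderOf (x j), fun j => ?_, hord a x⟩
      rcases hord' j _ (x j) with h | ⟨i, h⟩
      · exact Or.inl h
      · rcases hdec 0 i with rfl | rfl
        · exact Or.inr (Or.inl h)
        · exact Or.inr (Or.inr h)
    · rintro ⟨c, hc, rfl⟩
      have hx : ∀ j, ∃ x : H j (side a j), orderOf x = c j := fun j => by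
        rcases hc j with h | h | h
        · exact ⟨1, by rw [orderOf_one, h]⟩
        · rw [h]; exact hex _ _ 0
        · rw [h]; exact hex _ _ 1
      choose x hx using hx
      exact ⟨x, (hord a x).trans (Finset.prod_congr rfl fun j _ => hx j)⟩
  · -- no proper section
    intro K N _ hprop hspec
    set Mo : Subgroup (∀ j, H j (side a j)) := N.map K.subtype with hMo
    have hMK : Mo ≤ K := Subgroup.map_subtype_le N
    have hkey : ∀ j i, ∃ y : H j (side a j),
        Pi.mulSingle j y ∈ K ∧ Pi.mulSingle j y ∉ Mo ∧ orderOf y = p j i := by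
      intro j i
      have hmem : p j i ∈ Set.range (orderOf : (↥K ⧸ N) → ℕ) := by
        rw [hspec]
        refine ⟨fun k => if k = j then p j i else 1, fun k => ?_, by rw [Finset.prod_ite_eq' Finset.univ j, if_pos (Finset.mem_univ j)]⟩
        by_cases hk : k = j
        · subst hk
          rcases hdec 0 i with rfl | rfl
          · simp
          · simp
        · simp [hk]
      obtain ⟨xq, hxq⟩ := hmem
      induction xq using QuotientGroup.induction_on with
      | _ x =>
      have hxN : x ∉ N := fun h => by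
        rw [(QuotientGroup.eq_one_iff x).2 h, orderOf_one] at hxq
        exact (hp j i).one_lt.ne hxq
      have hxr : x ^ p j i ∈ N := by
        rw [← QuotientGroup.eq_one_iff, QuotientGroup.mk_pow, ← hxq, pow_orderOf_eq_one]
      have hcm : idx j % p j i = 1 := by
        have := Nat.mod_mod_of_dvd (idx j) (hpE j i)
        rw [hidx1 j, Nat.mod_eq_of_lt (hp j i).one_lt] at this
        exact this.symm
      have hxj : x ^ idx j ∉ N := fun h => hxN (by
        rw [← Nat.mod_add_div (idx j) (p j i), hcm, pow_add, pow_one, pow_mul] at h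
        exact (N.mul_mem_cancel_right (pow_mem hxr _)).1 h)
      have hcoe : ((x ^ idx j : K) : ∀ k, H k (side a k)) = Pi.mulSingle j ((x : ∀ k, H k (side a k)) j) := by
        rw [Subgroup.coe_pow, hsingle]
      have hinM : ∀ y : K, (y : ∀ k, H k (side a k)) ∈ Mo → y ∈ N := by
        rintro y ⟨y', hy', he⟩
        rwa [← Subtype.ext he]
      refine ⟨(x : ∀ k, H k (side a k)) j, hcoe ▸ (x ^ idx j).2, fun h => hxj (hinM _ (hcoe ▸ h)), ?_⟩
      have hyr : (x ^ idx j) ^ p j i ∈ N := by
        rw [← pow_mul, mul_comm, pow_mul]; exact pow_mem hxr _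
      rcases hord' j _ ((x : ∀ k, H k (side a k)) j) with h | ⟨e, h⟩
      · exact absurd (hinM _ (by rw [hcoe, orderOf_eq_one_iff.1 h, Pi.mulSingle_one]; exact one_mem _)) hxj
      · rw [h]
        by_contra hei
        have hye : (x ^ idx j) ^ p j e = 1 := Subtype.ext (by
          rw [Subgroup.coe_pow, hcoe, ← Pi.mulSingle_pow, ← h, pow_orderOf_eq_one, Pi.mulSingle_one, Subgroup.coe_one])
        have hg : Nat.gcd (p j i) (p j e) = 1 := (Nat.coprime_primes (hp _ _) (hp _ _)).2 (Ne.symm hei)
        refine hxj ((QuotientGroup.eq_one_iff _).1 (orderOf_eq_one_iff.1 (Nat.dvd_one.1 (hg ▸ Nat.dvd_gcd ?_ ?_))))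
        · exact orderOf_dvd_of_pow_eq_one (by rw [← QuotientGroup.mk_pow, QuotientGroup.eq_one_iff]; exact hyr)
        · exact orderOf_dvd_of_pow_eq_one (by rw [← QuotientGroup.mk_pow, hye, QuotientGroup.mk_one])
    let Kj : ∀ j, Subgroup (H j (side a j)) := fun j => K.comap (MonoidHom.mulSingle (fun i => H i (side a i)) j)
    have hKtop : K = ⊤ := by
      refine eq_top_iff.2 fun x _ => Subgroup.pi_mem_of_mulSingle_mem x fun j => ?_
      obtain ⟨y, hy, -, hyo⟩ := hkey j (side a j)
      obtain ⟨y', hy', -, hyo'⟩ := hkey j (1 - side a j)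
      have : Kj j = ⊤ := (hB j (side a j)).eq_top (Kj j) ⟨y, hy, hyo⟩ ⟨y', hy', hyo'⟩
      exact (this.ge (Subgroup.mem_top (x j)) : x j ∈ Kj j)
    have hMn : Mo.Normal := by
      refine ⟨fun m hm g => ?_⟩
      obtain ⟨m', hm', rfl⟩ := hm
      exact ⟨⟨g, hKtop ▸ Subgroup.mem_top g⟩ * m' * ⟨g, hKtop ▸ Subgroup.mem_top g⟩⁻¹,
        Subgroup.Normal.conj_mem inferInstance m' hm' _, rfl⟩
    rcases hprop with h | h
    · exact h hKtop
    refine h (eq_bot_iff.2 fun m hm => ?_)
    rw [Subgroup.mem_bot]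
    refine Subtype.ext (funext fun j => ?_)
    let Mj : Subgroup (H j (side a j)) := Mo.comap (MonoidHom.mulSingle (fun i => H i (side a i)) j)
    have hmj : (m : ∀ k, H k (side a k)) j ∈ Mj := by
      show Pi.mulSingle j _ ∈ Mo
      rw [← hsingle]
      exact pow_mem (Subgroup.mem_map_of_mem _ hm) _
    have hbot : Mj = ⊥ := by
      by_contra hne'
      obtain ⟨y, -, hy, hyo⟩ := hkey j (side a j)
      exact hy ((hB j (side a j)).mem_normal Mj (hMn.comap _) hne' y hyo)
    rw [hbot, Subgroup.mem_bot] at hmj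
    exact hmj

end Cfsg.Agent.S3599
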