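import Cfsg.Statements.S3619
import Mathlib
-- import your own Cfsg.Agent.* helpers here

set_option autoImplicit false
open Cfsg

namespace Cfsg.Agent.S3619

open scoped Pointwise


/-- Let G act faithfully on a finite set in such a way that every non-trivial normal subgroup of G is transitive (G is quasiprimitive). Let Γ be a subset with more than one point and not the whole set, such that the pointwise stabilizer of the complement of Γ acts transitively on Γ (a Jordan set). If that pointwise stabilizer acts primitively on Γ, then G is k-fold transitive where k is one more than the number of points outside Γ (the Jordan set is a trivial one). -/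
theorem result {G Ω : Type*} [Group G] [Finite G] [MulAction G Ω] [FaithfulSMul G Ω] [Finite Ω]
    (hqp : ∀ N : Subgroup G, N.Normal → N ≠ ⊥ → MulAction.IsPretransitive ↥N Ω)
    (Γ : Set Ω) (hΓ1 : 1 < Γ.ncard) (hΓ2 : Γ.ncard < Nat.card Ω)
    (hJ : MulAction.IsPretransitive ↥(fixingSubgroup G Γᶜ) ↥(SubMulAction.ofFixingSubgroup G Γᶜ))
    (hJp : MulAction.IsPreprimitive ↥(fixingSubgroup G Γᶜ) ↥(SubMulAction.ofFixingSubgroup G Γᶜ)) :
    MulAction.IsMultiplyPretransitive G Ω (Nat.card Ω - Γ.ncard + 1) := by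
  skip
  classical
  obtain ⟨x, hx, x', hx', hxx⟩ := (Set.one_lt_ncard (Set.toFinite _)).1 hΓ1
  set H := fixingSubgroup G Γᶜ with hH
  have hfix : ∀ h ∈ H, ∀ z ∉ Γ, h • z = z := fun h hh z hz => (mem_fixingSubgroup_iff G).1 hh z hz
  have htr : ∀ u ∈ Γ, ∀ v ∈ Γ, ∃ h ∈ H, h • u = v := by
    intro u hu v hv
    obtain ⟨⟨h, hh⟩, he⟩ := hJ.exists_smul_eq (⟨u, fun hc => hc hu⟩ : SubMulAction.ofFixingSubgroup G Γᶜ) ⟨v, fun hc => hc hv⟩
    exact ⟨h, hh, congrArg Subtype.val he⟩
  have hmem : ∀ h ∈ H, ∀ z ∈ Γ, h • z ∈ Γ := by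
    intro h hh z hz
    by_contra hc
    have e : h • z = z := MulAction.injective h (hfix h hh _ hc)
    exact hc (by rw [e]; exact hz)
  have hGt : MulAction.IsPretransitive G Ω := by
    have htop : (⊤ : Subgroup G) ≠ ⊥ := by
      intro e
      obtain ⟨h, -, he⟩ := htr x hx x' hx'
      have h1 : h = 1 := Subgroup.mem_bot.1 (e ▸ Subgroup.mem_top h)
      rw [h1, one_smul] at he
      exact hxx he
    refine ⟨fun u v => ?_⟩
    obtain ⟨g, hg⟩ := (hqp ⊤ inferInstance htop).exists_smul_eq u v
    exact ⟨g, hg⟩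
  have hprim : MulAction.IsPreprimitive G Ω := by
    refine { isTrivialBlock_of_isBlock := fun {B} hB => ?_ }
    rw [MulAction.IsTrivialBlock, or_iff_not_imp_left]
    intro hns
    rw [Set.not_subsingleton_iff] at hns
    obtain ⟨b₁, hb₁, b₂, hb₂, hb⟩ := hns
    have heq : ∀ (g k : G) (z : Ω), z ∈ g • B → z ∈ k • B → g • B = k • B := fun g k z h1 h2 => by
      by_contra hne
      exact Set.disjoint_left.1 (hB hne) h1 h2
    by_cases hin : ∃ g : G, Γ ⊆ g • B
    · obtain ⟨g, hg⟩ := hin
      let N : Subgroup G := ⨅ k : G, MulAction.stabilizer G (k • B)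
      have hN : ∀ a : G, a ∈ N ↔ ∀ k : G, a • (k • B) = k • B := fun a => by simp [N, Subgroup.mem_iInf]
      have hNn : N.Normal := ⟨fun a ha c => (hN _).2 fun k => by
        rw [mul_smul, mul_smul, show c⁻¹ • (k • B) = (c⁻¹ * k) • B from (mul_smul _ _ _).symm, (hN a).1 ha,
          smul_smul, mul_inv_cancel_left]⟩
      obtain ⟨h, hh, he⟩ := htr x hx x' hx'
      have hHN : h ∈ N := (hN h).2 fun k => by
        by_cases hk : k • B = g • B
        · rw [hk, smul_smul]
          refine heq _ _ x' ?_ (hg hx')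
          rw [mul_smul, ← he, Set.smul_mem_smul_set_iff]
          exact hg hx
        · have hout : ∀ z ∈ k • B, h • z = z := fun z hz => hfix h hh z fun hzΓ => hk (heq _ _ z hz (hg hzΓ))
          rw [← Set.image_smul]
          exact (Set.image_congr hout).trans (Set.image_id' _)
      have hN1 : N ≠ ⊥ := fun e => by
        rw [e, Subgroup.mem_bot] at hHN
        rw [hHN, one_smul] at he
        exact hxx he
      refine Set.eq_univ_of_forall fun z => ?_
      obtain ⟨⟨a, ha⟩, haz⟩ := (hqp N hNn hN1).exists_smul_eq b₁ z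
      have h1 := (hN a).1 ha 1
      rw [one_smul] at h1
      rw [← h1, ← haz]
      exact Set.smul_mem_smul_set hb₁
    · exfalso
      push Not at hin
      have hsub : ∀ g : G, ∀ u ∈ Γ, ∀ v ∈ Γ, u ∈ g • B → v ∈ g • B → u = v := by
        intro g u hu v hv hug hvg
        let B' : Set (SubMulAction.ofFixingSubgroup G Γᶜ) := Subtype.val ⁻¹' (g • B)
        have hblk : MulAction.IsBlock H B' := by
          intro a c hne
          rw [Set.disjoint_left]
          intro z hz hz'
          rw [Set.mem_smul_set_iff_inv_smul_mem] at hz hz'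
          refine hne ?_
          ext w
          rw [Set.mem_smul_set_iff_inv_smul_mem, Set.mem_smul_set_iff_inv_smul_mem]
          have e := heq ((a : G) * g) ((c : G) * g) (z : Ω)
            (by rw [mul_smul, Set.mem_smul_set_iff_inv_smul_mem]; exact hz)
            (by rw [mul_smul, Set.mem_smul_set_iff_inv_smul_mem]; exact hz')
          have e' := Set.ext_iff.1 e (w : Ω)
          rw [mul_smul, mul_smul, Set.mem_smul_set_iff_inv_smul_mem (a := (a : G)), Set.mem_smul_set_iff_inv_smul_mem (a := (c : G))] at e'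
          exact e'
        rcases hJp.isTrivialBlock_of_isBlock hblk with h | h
        · exact congrArg Subtype.val (h (show (⟨u, fun hc => hc hu⟩ : SubMulAction.ofFixingSubgroup G Γᶜ) ∈ B' from hug)
            (show (⟨v, fun hc => hc hv⟩ : SubMulAction.ofFixingSubgroup G Γᶜ) ∈ B' from hvg))
        · exfalso
          obtain ⟨z, hz, hz'⟩ := Set.not_subset.1 (hin g)
          exact hz' (Set.eq_univ_iff_forall.1 h (⟨z, fun hc => hc hz⟩ : SubMulAction.ofFixingSubgroup G Γᶜ))
      obtain ⟨g, hg⟩ := hGt.exists_smul_eq b₁ x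
      have hx1 : x ∈ g • B := hg ▸ Set.smul_mem_smul_set hb₁
      have hy1 : g • b₂ ∈ g • B := Set.smul_mem_smul_set hb₂
      have hyΓ : g • b₂ ∉ Γ := fun hy => hb (MulAction.injective g (hg.trans (hsub g x hx _ hy hx1 hy1)))
      obtain ⟨h, hh, he⟩ := htr x hx x' hx'
      have e : h • (g • B) = g • B := by
        rw [smul_smul]
        refine heq _ _ (g • b₂) ?_ hy1
        have := Set.smul_mem_smul_set (a := h) hy1
        rwa [hfix h hh _ hyΓ, smul_smul] at this
      have hx2 : x' ∈ g • B := e ▸ he ▸ Set.smul_mem_smul_set hx1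
      exact hxx (hsub g x hx x' hx' hx1 hx2)
  have hc := Set.ncard_add_ncard_compl Γ
  have h := hprim.isMultiplyPreprimitive (s := Γᶜ) (n := Nat.card Ω - Γ.ncard - 1) (by omega) (by omega) hJp
  have h' := h.isMultiplyPretransitive
  rwa [show Nat.card Ω - Γ.ncard - 1 + 2 = Nat.card Ω - Γ.ncard + 1 by omega] at h'

end Cfsg.Agent.S3619
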