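import Cfsg.Statements.S3626
import Cfsg.Agent.Lib.SmallRee.Trunc
import Cfsg.Agent.Lib.SmallRee.Orders
import Mathlib.FieldTheory.Finite.GaloisField
-- import your own Cfsg.Agent.* helpers here

set_option autoImplicit false
open Cfsg

namespace Cfsg.Agent.S3626

/-- Let R be the small Ree group over the field with q = 3^(2m+1) ≥ 27 elements. Then there are finite groups of arbitrarily large order with exactly the same set of element orders as R × R × R. -/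
theorem result {K : Type*} [Field K] [Fintype K] {m : ℕ} (hm : 1 ≤ m) (hK : Fintype.card K = 3 ^ (2 * m + 1)) (N : ℕ) :
    ∃ (H : Type) (_ : Group H) (_ : Fintype H), N < Fintype.card H ∧
      Set.range (orderOf : H → ℕ) = Set.range (orderOf : ↥(Cfsg.Lie.twistedG2 K (3 ^ m)) × ↥(Cfsg.Lie.twistedG2 K (3 ^ m)) × ↥(Cfsg.Lie.twistedG2 K (3 ^ m)) → ℕ) := by
  obtain ⟨hchar, S, hS⟩ := Cfsg.Agent.SmallRee.exists_setup hK
  rw [← S.Gr_eq hK hS]
  haveI : Fact (Nat.Prime 3) := ⟨Nat.prime_three⟩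
  let F := GaloisField 3 (2 * m + 1)
  letI : Fintype F := Fintype.ofFinite F
  have hF : Fintype.card F = 3 ^ (2 * m + 1) := by
    rw [← Nat.card_eq_fintype_card]; exact GaloisField.card 3 _ (by omega)
  haveI : Finite (TruncRee.Grp F (N + 1)) := TruncRee.finite_grp
  obtain ⟨H, hH, hHF, hcard, ⟨e⟩⟩ :=
    TruncRee.exists_small (H0 := ↥S.Gr × ↥S.Gr × TruncRee.Grp F (N + 1))
  refine ⟨H, hH, hHF, ?_, ?_⟩
  · rw [hcard, Nat.card_prod, Nat.card_prod]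
    refine lt_of_lt_of_le (lt_trans N.lt_succ_self (TruncRee.card_gt (F := F))) ?_
    exact le_trans (Nat.le_mul_of_pos_left _ Nat.card_pos) (Nat.le_mul_of_pos_left _ Nat.card_pos)
  set six : ℕ → Prop := fun d => d ∣ 6 ∨ d ∣ 9 ∨ d ∣ Fintype.card K - 1 ∨ d ∣ (Fintype.card K + 1) / 2 ∨
    d ∣ Fintype.card K - 3 ^ (m + 1) + 1 ∨ d ∣ Fintype.card K + 3 ^ (m + 1) + 1 with hsix
  set four : ℕ → Prop := fun d => d ∣ 6 ∨ d ∣ 9 ∨ d ∣ Fintype.card K - 1 ∨ d ∣ (Fintype.card K + 1) / 2 with hfour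
  have hR : ∀ d, (∃ g : ↥S.Gr, orderOf g = d) ↔ six d := S.order_iff hm hK hS
  have hX : ∀ d, (∃ g : TruncRee.Grp F (N + 1), orderOf g = d) ↔ four d := fun d => by
    rw [TruncRee.range_orders N.succ_pos ⟨m, rfl⟩ (by omega) hF d, hfour, hK, hF]
  have h46 : ∀ {d}, four d → six d := fun {d} hd => by
    rcases hd with h | h | h | h
    exacts [Or.inl h, Or.inr (Or.inl h), Or.inr (Or.inr (Or.inl h)), Or.inr (Or.inr (Or.inr (Or.inl h)))]
  set a := Fintype.card K - 3 ^ (m + 1) + 1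
  set b := Fintype.card K + 3 ^ (m + 1) + 1
  have hcase : ∀ {d}, six d → four d ∨ d ∣ a ∨ d ∣ b := fun {d} hd => by
    rcases hd with h | h | h | h | h | h
    exacts [Or.inl (Or.inl h), Or.inl (Or.inr (Or.inl h)), Or.inl (Or.inr (Or.inr (Or.inl h))),
      Or.inl (Or.inr (Or.inr (Or.inr h))), Or.inr (Or.inl h), Or.inr (Or.inr h)]
  have h1 : four 1 := Or.inl (one_dvd _)
  -- combine two orders dividing a common torus order
  have main : ∀ x y z, six x → six y → six z →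
      ∃ x' y' z', six x' ∧ six y' ∧ four z' ∧ x'.lcm (y'.lcm z') = x.lcm (y.lcm z) := by
    intro x y z hx hy hz
    rcases hcase hz with hz4 | hz'
    · exact ⟨x, y, z, hx, hy, hz4, rfl⟩
    rcases hcase hy with hy4 | hy'
    · exact ⟨x, z, y, hx, hz, hy4, by rw [Nat.lcm_comm z y]⟩
    rcases hcase hx with hx4 | hx'
    · exact ⟨y, z, x, hy, hz, hx4, by rw [Nat.lcm_comm x (y.lcm z), Nat.lcm_assoc]⟩
    have hab : ∀ {u}, (u ∣ a ∨ u ∣ b) → six u := fun hu => Or.inr (Or.inr (Or.inr (Or.inr hu)))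
    have pair : ∀ {u v}, (u ∣ a ∧ v ∣ a) ∨ (u ∣ b ∧ v ∣ b) → six (u.lcm v) := fun h =>
      hab (h.imp (fun h => Nat.lcm_dvd h.1 h.2) (fun h => Nat.lcm_dvd h.1 h.2))
    have hxy : (x ∣ a ∧ y ∣ a ∨ x ∣ b ∧ y ∣ b) ∨ (x ∣ a ∧ z ∣ a ∨ x ∣ b ∧ z ∣ b) ∨ (y ∣ a ∧ z ∣ a ∨ y ∣ b ∧ z ∣ b) := by
      rcases hx' with p | p <;> rcases hy' with p' | p' <;> rcases hz' with p'' | p''
      exacts [Or.inl (Or.inl ⟨p, p'⟩), Or.inl (Or.inl ⟨p, p'⟩), Or.inr (Or.inl (Or.inl ⟨p, p''⟩)),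
        Or.inr (Or.inr (Or.inr ⟨p', p''⟩)), Or.inr (Or.inr (Or.inl ⟨p', p''⟩)), Or.inr (Or.inl (Or.inr ⟨p, p''⟩)),
        Or.inl (Or.inr ⟨p, p'⟩), Or.inl (Or.inr ⟨p, p'⟩)]
    rcases hxy with h | h | h
    · exact ⟨x.lcm y, z, 1, pair h, hz, h1, by rw [Nat.lcm_one_right, Nat.lcm_assoc]⟩
    · exact ⟨x.lcm z, y, 1, pair h, hy, h1, by rw [Nat.lcm_one_right, Nat.lcm_assoc, Nat.lcm_comm z y]⟩
    · exact ⟨x, y.lcm z, 1, hx, pair h, h1, by rw [Nat.lcm_one_right]⟩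
  exact TruncRee.range_triple e six four hR hX h46 main

end Cfsg.Agent.S3626
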