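import Cfsg.Statements.S3633
import Cfsg.Agent.Lib.Solv.PrimeGraphTriple

set_option autoImplicit false
open Cfsg

namespace Cfsg.Agent.S3633

/-- Let G be a finite group and ρ a set of at least three prime divisors of the order of G that are pairwise non-adjacent in the prime graph (no element of order rs for distinct r, s ∈ ρ). Then at most one prime of ρ divides the order of any given solvable normal subgroup of G; in particular G is not solvable. -/
theorem result {G : Type*} [Group G] [Finite G] (ρ : Finset ℕ) (hρ : 3 ≤ ρ.card) (hc : ((∀ r ∈ ρ, r.Prime ∧ r ∣ Nat.card G) ∧ (∀ r ∈ ρ, ∀ s ∈ ρ, r ≠ s → ¬ ∃ x : G, orderOf x = r * s)))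
    (K : Subgroup G) [K.Normal] (hK : Group.IsSolvable ↥K) :
    (∀ r ∈ ρ, ∀ s ∈ ρ, r ∣ Nat.card ↥K → s ∣ Nat.card ↥K → r = s) ∧ ¬ Group.IsSolvable G := by
  classical
  obtain ⟨hp, hno⟩ := hc
  have key : ∀ (K : Subgroup G), K.Normal → Group.IsSolvable ↥K →
      ∀ r ∈ ρ, ∀ s ∈ ρ, r ∣ Nat.card ↥K → s ∣ Nat.card ↥K → r = s := by
    intro K hKn hK r hr s hs hrK hsK
    by_contra hrs
    obtain ⟨t, ht, htr, hts⟩ : ∃ t ∈ ρ, t ≠ r ∧ t ≠ s := by
      by_contra! h
      have hsub : ρ ⊆ {r, s} := fun t ht => by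
        by_cases e : t = r
        · simp [e]
        · simp [h t ht e]
      have := Finset.card_le_card hsub
      have := Finset.card_le_two (a := r) (b := s)
      omega
    rcases Cfsg.Agent.Solv.PrimeGraphTriple.eq_of_dvd_solvable (Nat.card K) K rfl hKn hK r s t
      (hp r hr).1 (hp s hs).1 (hp t ht).1 hrs (Ne.symm htr) (Ne.symm hts) hrK hsK (hp t ht).2 with h | h | h
    · exact hno r hr s hs hrs h
    · exact hno r hr t ht (Ne.symm htr) h
    · exact hno s hs t ht (Ne.symm hts) h
  refine ⟨key K inferInstance hK, fun hG => ?_⟩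
  haveI := hG
  obtain ⟨r, hr, s, hs, hrs⟩ := Finset.one_lt_card.mp (show 1 < ρ.card by omega)
  exact hrs (key ⊤ inferInstance inferInstance r hr s hs (by rw [Subgroup.card_top]; exact (hp r hr).2)
    (by rw [Subgroup.card_top]; exact (hp s hs).2))

end Cfsg.Agent.S3633
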