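import Cfsg.Statements.S3639
import Cfsg.Agent.Lib.Perm.SzFpf

set_option autoImplicit false
open Cfsg

namespace Cfsg.Agent.S3639

/-- Let S be the Suzuki group over the field with q = 2^(2m+1) ≥ 8 elements. Then there are finite groups of arbitrarily large order with the same prime graph as S. -/
theorem result {F : Type*} [Field F] [Fintype F] {m : ℕ} (hm : 1 ≤ m) (hF : Fintype.card F = 2 ^ (2 * m + 1)) (N : ℕ) :
    ∃ (H : Type) (_ : Group H) (_ : Fintype H), N < Fintype.card H ∧ ((∀ r : ℕ, r.Prime → (r ∣ Nat.card ↥(Cfsg.Lie.Sz F (2 ^ (m + 1))) ↔ r ∣ Nat.card H)) ∧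
      (∀ r s : ℕ, r.Prime → s.Prime → r ≠ s → ((∃ x : ↥(Cfsg.Lie.Sz F (2 ^ (m + 1))), orderOf x = r * s) ↔ (∃ y : H, orderOf y = r * s)))) := by
  have : Fact (Nat.Prime 2) := ⟨Nat.prime_two⟩
  have : CharP F 2 := charP_of_card_eq_prime_pow (by rw [hF])
  let f : ↥(Cfsg.Lie.Sz F (2 ^ (m + 1))) →* Matrix (Fin 4) (Fin 4) F :=
    (Units.coeHom _).comp (Cfsg.Lie.Sz F (2 ^ (m + 1))).subtype
  obtain ⟨H, iG, iF, hN, hπ, he⟩ := Perm.exists_large_same_prime_graph
    (Perm.vecAction f) Perm.isPGroup_two_vec (Perm.SzFpf.two_dvd_card (m + 1))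
    (fun g hp hodd v hv => by
      by_contra hne
      have h0 := Perm.vecAction_fixed_det f g v hv hne
      have h1 : (g : GL (Fin 4) F) = 1 :=
        Perm.SzFpf.fixed_free g.2 (by rwa [Subgroup.orderOf_coe]) h0
      rw [show g = 1 from Subtype.ext h1, orderOf_one] at hp
      exact Nat.not_prime_one hp) N
  let iT : Fintype H := Fintype.ofFinite H
  exact ⟨H, iG, iT, by rwa [← Nat.card_eq_fintype_card], hπ, he⟩

end Cfsg.Agent.S3639
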