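import Cfsg.Statements.S3669
import Cfsg.Agent.Lib.Char.Degrees
import Cfsg.Agent.Lib.Char.Orthogonality
import Cfsg.Agent.Lib.Char.Integral
import Cfsg.Agent.Lib.Classical.SmallAlt
import Cfsg.Agent.Lib.Classical.SimpleOrder
import Cfsg.Agent.S0987
import Mathlib.GroupTheory.GroupAction.CardCommute

set_option autoImplicit false
open Cfsg

namespace Cfsg.Agent.S3669

open scoped ComplexConjugate

theorem comm_pairs_A5 : Fintype.card {p : alternatingGroup (Fin 5) × alternatingGroup (Fin 5) //
    p.1 * p.2 = p.2 * p.1} = 300 := by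
  decide +kernel

theorem no_sol : ∀ a b c d e : Fin 5,
    ([1, 4, 9, 16, 36].getD a.val 0 : ℕ) + [1, 4, 9, 16, 36].getD b.val 0 +
      [1, 4, 9, 16, 36].getD c.val 0 + [1, 4, 9, 16, 36].getD d.val 0 +
      [1, 4, 9, 16, 36].getD e.val 0 ≠ 60 := by
  decide +kernel

theorem deg_cases {d : ℕ} (hd : d ∣ 60) (h : d ^ 2 ≤ 60) (h5 : ¬ 5 ∣ d) :
    ∃ a : Fin 5, d ^ 2 = ([1, 4, 9, 16, 36].getD a.val 0 : ℕ) := by
  have hd7 : d ≤ 7 := by nlinarith
  have key : ∀ d : Fin 8, (d : ℕ) ∣ 60 → ¬ 5 ∣ (d : ℕ) →
      ∃ a : Fin 5, (d : ℕ) ^ 2 = ([1, 4, 9, 16, 36].getD a.val 0 : ℕ) := by decide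
  exact key ⟨d, by omega⟩ hd h5

/-- `5` divides a character degree of the alternating group of degree five. -/
theorem five_mem_A5 : 5 ∈ Cfsg.degreePrimes (alternatingGroup (Fin 5)) := by
  classical
  by_contra hno
  have hk : Nat.card (ConjClasses (alternatingGroup (Fin 5))) = 5 := by
    have h := card_comm_eq_card_conjClasses_mul_card (alternatingGroup (Fin 5))
    have e : Nat.card { p : alternatingGroup (Fin 5) × alternatingGroup (Fin 5) // Commute p.1 p.2 } = 300 := by
      rw [← comm_pairs_A5, ← Nat.card_eq_fintype_card]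
      exact Nat.card_congr (Equiv.subtypeEquivRight fun p => Iff.rfl)
    rw [e, nat_card_alternatingGroup, Nat.card_fin] at h
    simp only [show (5 : ℕ).factorial / 2 = 60 from rfl] at h
    omega
  have : Finite (IrrCharacter (alternatingGroup (Fin 5))) := by
    refine Nat.finite_of_card_ne_zero ?_
    rw [Cfsg.Agent.Char.card_irrCharacter, hk]; norm_num
  have : Fintype (IrrCharacter (alternatingGroup (Fin 5))) := Fintype.ofFinite _
  have hsum := Cfsg.Agent.Char.sum_sq_degree (G := alternatingGroup (Fin 5))
  rw [nat_card_alternatingGroup, Nat.card_fin] at hsum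
  simp only [show (5 : ℕ).factorial / 2 = 60 from rfl] at hsum
  choose d hdpos hd using fun χ : IrrCharacter (alternatingGroup (Fin 5)) =>
    Cfsg.Agent.Char.IsIrrCharacter.degree_pos χ.2
  have hsumN : ∑ χ, d χ ^ 2 = 60 := by
    have : ((∑ χ, d χ ^ 2 : ℕ) : ℂ) = ((60 : ℕ) : ℂ) := by
      rw [← hsum, Nat.cast_sum]
      exact Finset.sum_congr rfl fun χ _ => by rw [hd χ, Nat.cast_pow]
    exact_mod_cast this
  have hcases : ∀ χ, ∃ a : Fin 5, d χ ^ 2 = ([1, 4, 9, 16, 36].getD a.val 0 : ℕ) := by
    intro χ
    have h60 : d χ ∣ 60 := by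
      have := Cfsg.Agent.Char.degree_dvd_card χ.2 (d χ) (hd χ)
      rwa [nat_card_alternatingGroup, Nat.card_fin] at this
    refine deg_cases h60 ?_ fun h5 => hno ⟨by norm_num, d χ, ⟨χ, ?_⟩, h5⟩
    · exact (Finset.single_le_sum (f := fun χ => d χ ^ 2) (fun _ _ => Nat.zero_le _)
        (Finset.mem_univ χ)).trans hsumN.le
    · show ⌊((χ : alternatingGroup (Fin 5) → ℂ) 1).re⌋₊ = d χ
      rw [hd χ, Complex.natCast_re, Nat.floor_natCast]
  choose a ha using hcases
  have hcard : Fintype.card (IrrCharacter (alternatingGroup (Fin 5))) = 5 := by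
    rw [← Nat.card_eq_fintype_card, Cfsg.Agent.Char.card_irrCharacter, hk]
  let e := (Fintype.equivFinOfCardEq hcard).symm
  rw [← e.sum_comp, Fin.sum_univ_five, ha, ha, ha, ha, ha] at hsumN
  exact no_sol _ _ _ _ _ hsumN

/-- Small orders divisible by five have a normal subgroup of order five. -/
theorem normal_five {Q : Type*} [Group Q] [Finite Q] {k : ℕ} (hQ : Nat.card Q = 5 * k)
    (hk : k ∣ 12) (hk12 : k < 12) : ∃ P : Subgroup Q, P.Normal ∧ Nat.card P = 5 := by
  have : Fact (Nat.Prime 5) := ⟨by norm_num⟩
  obtain ⟨P⟩ := Sylow.nonempty (p := 5) (G := Q)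
  have h5k : ¬ 5 ∣ k := fun h => by have := h.trans hk; norm_num at this
  have hQ' : Nat.card Q = 5 ^ 1 * k := by rw [hQ, pow_one]
  have hP : Nat.card P = 5 := (Cfsg.Agent.Classical.SimpleOrder.card_sylow_eq P hQ' h5k).trans (pow_one 5)
  refine ⟨P, ?_, hP⟩
  by_cases hk6 : k = 6
  · subst hk6
    exact Cfsg.Agent.S0987.result 2 3 5 Nat.prime_two Nat.prime_three (by norm_num) (by norm_num)
      (by rw [hQ]) P
  have hidx : (P : Subgroup Q).index = k := by
    have := (P : Subgroup Q).card_mul_index
    rw [hP, hQ] at this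
    omega
  have hd := P.card_dvd_index
  rw [hidx] at hd
  have hmod := card_sylow_modEq_one 5 Q
  rw [Nat.ModEq] at hmod
  have hk4 : k ≤ 4 := by interval_cases k <;> simp_all
  have hle := Nat.le_of_dvd (Nat.pos_of_dvd_of_pos hk (by norm_num)) hd
  have h1 : Nat.card (Sylow 5 Q) = 1 := by
    have hpos : 0 < Nat.card (Sylow 5 Q) := Nat.card_pos
    omega
  rw [P.card_eq_index_normalizer, Subgroup.index_eq_one] at h1
  exact Subgroup.normalizer_eq_top_iff.mp h1

/-- The character degree graph of a finite group has as vertices the primes dividing some irreducible complex character degree, two distinct primes being joined when their product divides some irreducible character degree; two groups have the same character degree graph when they have the same vertices and the same joined pairs. A finite group of order 60 with the same character degree graph as the alternating group A₅ (whose character degrees are 1, 3, 4, 5, so the graph has vertices 2, 3, 5 and no edges) is isomorphic to A₅. -/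
theorem result {G : Type*} [Group G] [Finite G] (hcard : Nat.card G = 60)
    (hΓ : Cfsg.degreePrimes G = Cfsg.degreePrimes (alternatingGroup (Fin 5)) ∧ Cfsg.degreeGraph G = Cfsg.degreeGraph (alternatingGroup (Fin 5))) : Nonempty (G ≃* alternatingGroup (Fin 5)) := by
  classical
  have : Fact (Nat.Prime 5) := ⟨by norm_num⟩
  have : Fact (Nat.Prime 3) := ⟨Nat.prime_three⟩
  have h5 : 5 ∈ Cfsg.degreePrimes G := hΓ.1 ▸ five_mem_A5
  have hG5 : Nat.card G = 5 ^ 1 * 12 := by rw [hcard]; norm_num
  have hnn : ∀ P : Subgroup G, P.Normal → Nat.card P ≠ 5 := by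
    intro P hPn hP
    obtain ⟨-, d, ⟨χ, hχ⟩, h5d⟩ := h5
    have hc : IsCyclic P := isCyclic_of_prime_card (p := 5) hP
    obtain ⟨e, he, hdvd⟩ := Cfsg.Agent.Char.exists_ito_degree P
      (fun a ha b hb => congrArg Subtype.val
        ((IsCyclic.commutative (α := P)).is_comm.comm (⟨a, ha⟩ : P) ⟨b, hb⟩)) χ.2
    have hed : d = e := by
      rw [← hχ]
      show ⌊((χ : G → ℂ) 1).re⌋₊ = e
      rw [he, Complex.natCast_re, Nat.floor_natCast]
    subst hed
    have := P.card_mul_index
    rw [hP, hcard] at this
    have h12 := h5d.trans hdvd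
    rw [show P.index = 12 by omega] at h12
    norm_num at h12
  have hord5 : ∀ x : G, orderOf x = 5 → ∀ P : Sylow 5 G, Nat.card P = 5 := fun x _ P =>
    (Cfsg.Agent.Classical.SimpleOrder.card_sylow_eq P hG5 (by norm_num)).trans (pow_one 5)
  obtain ⟨x, hx⟩ := exists_prime_orderOf_dvd_card' (G := G) 5 (by rw [hcard]; norm_num)
  have hSy := hord5 x hx
  have hn6 : Nat.card (Sylow 5 G) = 6 := by
    obtain ⟨P⟩ := Sylow.nonempty (p := 5) (G := G)
    have hd := P.card_dvd_index
    have hidx : (P : Subgroup G).index = 12 := by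
      have := (P : Subgroup G).card_mul_index
      rw [hSy P, hcard] at this
      omega
    rw [hidx] at hd
    have hmod := card_sylow_modEq_one 5 G
    rw [Nat.ModEq] at hmod
    have hle := Nat.le_of_dvd (by norm_num) hd
    have h1 : Nat.card (Sylow 5 G) ≠ 1 := fun h => by
      rw [P.card_eq_index_normalizer, Subgroup.index_eq_one] at h
      exact hnn P (Subgroup.normalizer_eq_top_iff.mp h) (hSy P)
    interval_cases hn : Nat.card (Sylow 5 G) <;> simp_all
  -- a normal subgroup with order divisible by 5 and at most 30 is impossible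
  have hbig : ∀ M : Subgroup G, M.Normal → 5 ∣ Nat.card M → Nat.card M ≤ 30 → False := by
    intro M hMn hM5 hM30
    obtain ⟨k, hk⟩ := hM5
    have hk12 : k ∣ 12 := by
      have := Subgroup.card_subgroup_dvd_card M
      rw [hk, hcard, show (60 : ℕ) = 5 * 12 by norm_num] at this
      exact Nat.dvd_of_mul_dvd_mul_left (by norm_num) this
    obtain ⟨P, hPn, hP⟩ := normal_five hk hk12 (by omega)
    have hchar : P.Characteristic := by
      have h5k : ¬ 5 ∣ k := fun h => by have := h.trans hk12; norm_num at this
      let Ps : Sylow 5 M := (IsPGroup.of_card (n := 1) (by rw [hP, pow_one])).toSylow (by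
        have := P.card_mul_index
        rw [hP, hk] at this
        rw [show P.index = k by omega]; exact h5k)
      exact Sylow.characteristic_of_normal Ps hPn
    exact hnn (P.map M.subtype) inferInstance
      (by rw [Subgroup.card_map_of_injective M.subtype_injective, hP])
  have hsimple : IsSimpleGroup G := by
    have : Nontrivial G := Finite.one_lt_card_iff_nontrivial.1 (by omega)
    refine ⟨fun N hN => ?_⟩
    by_contra hcon
    push Not at hcon
    obtain ⟨hN1, hN2⟩ := hcon
    have hNd := Subgroup.card_subgroup_dvd_card N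
    rw [hcard] at hNd
    have hmul := N.card_mul_index
    rw [hcard] at hmul
    have hidx2 : 2 ≤ N.index := by
      rcases Nat.lt_or_ge N.index 2 with h | h
      · interval_cases hi : N.index
        · simp at hmul
        · exact absurd (Subgroup.index_eq_one.mp hi) hN2
      · exact h
    have hN30 : Nat.card N ≤ 30 := by nlinarith
    have hN5 : ¬ 5 ∣ Nat.card N := fun h => hbig N hN h hN30
    have hN12 : Nat.card N ∣ 12 :=
      (Nat.Coprime.dvd_of_dvd_mul_left ((Nat.Prime.coprime_iff_not_dvd (by norm_num)).mpr hN5).symm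
        (show Nat.card N ∣ 5 * 12 from hNd))
    have hN1' : 2 ≤ Nat.card N := (Subgroup.one_lt_card_iff_ne_bot N).mpr hN1
    rcases Nat.lt_or_ge (Nat.card N) 12 with hlt | hge
    · have hQ : Nat.card (G ⧸ N) = 5 * (12 / Nat.card N) := by
        show N.index = _
        have := Nat.div_mul_cancel hN12
        refine Nat.eq_of_mul_eq_mul_left (show 0 < Nat.card N by omega) ?_
        rw [hmul]
        nlinarith
      obtain ⟨P, hPn, hP⟩ := normal_five hQ (Nat.div_dvd_of_dvd hN12)
        (Nat.div_lt_self (by norm_num) hN1')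
      have hM : Nat.card (P.comap (QuotientGroup.mk' N)) = 5 * Nat.card N := by
        have h2 := (P.comap (QuotientGroup.mk' N)).card_mul_index
        rw [Subgroup.index_comap_of_surjective _ (QuotientGroup.mk'_surjective N), hcard] at h2
        have h3 := P.card_mul_index
        rw [hP, show Nat.card (G ⧸ N) = N.index from rfl] at h3
        have h4 : 0 < P.index := Nat.pos_of_ne_zero Subgroup.index_ne_zero_of_finite
        rw [← hmul, ← h3] at h2
        exact Nat.eq_of_mul_eq_mul_right h4 (by linarith)
      refine hbig _ (hPn.comap _) ⟨_, hM⟩ ?_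
      rw [hM]
      have : Nat.card N ≤ 6 := by
        obtain ⟨c, hc⟩ := hN12
        have : c ≠ 1 := by rintro rfl; omega
        have : c ≠ 0 := by rintro rfl; omega
        have h2c : Nat.card N * 2 ≤ Nat.card N * c := Nat.mul_le_mul_left _ (by omega)
        omega
      omega
    · have hNc : Nat.card N = 12 := le_antisymm (Nat.le_of_dvd (by norm_num) hN12) hge
      obtain ⟨S⟩ := Sylow.nonempty (p := 3) (G := N)
      have hS : Nat.card S = 3 := by
        have h' : Nat.card N = 3 ^ 1 * 4 := by rw [hNc]; norm_num
        exact (Cfsg.Agent.Classical.SimpleOrder.card_sylow_eq S h' (by norm_num)).trans (pow_one 3)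
      set T := (S : Subgroup N).map N.subtype with hT
      have hTc : Nat.card T = 3 := by rw [hT, Subgroup.card_map_of_injective N.subtype_injective, hS]
      have hfr := Sylow.normalizer_sup_eq_top S
      have h5N : 5 ∣ Nat.card (Subgroup.normalizer (T : Set G)) := by
        have h1 : (Subgroup.normalizer (T : Set G)).map (QuotientGroup.mk' N) = ⊤ := by
          have := congrArg (Subgroup.map (QuotientGroup.mk' N)) hfr
          rwa [Subgroup.map_sup, QuotientGroup.map_mk'_self, sup_bot_eq,
            Subgroup.map_top_of_surjective _ (QuotientGroup.mk'_surjective N)] at this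
        have h2 := Subgroup.card_map_dvd (Subgroup.normalizer (T : Set G)) (QuotientGroup.mk' N)
        rw [h1, Subgroup.card_top, show Nat.card (G ⧸ N) = N.index from rfl] at h2
        rwa [show N.index = 5 by rw [hNc] at hmul; omega] at h2
      obtain ⟨y, hy⟩ := exists_prime_orderOf_dvd_card' (G := Subgroup.normalizer (T : Set G)) 5 h5N
      rw [← Subgroup.orderOf_coe] at hy
      have hTy : ∀ u ∈ T, (y : G) * u = u * y := by
        intro u hu
        have hc : IsCyclic T := isCyclic_of_prime_card (p := 3) hTc
        let φ := Subgroup.normalizerMonoidHom T y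
        have h5' : orderOf φ ∣ 5 := by
          rw [← hy, Subgroup.orderOf_coe]; exact orderOf_map_dvd _ y
        have h2' : orderOf φ ∣ Nat.card (MulAut T) := orderOf_dvd_natCard _
        have hAut : Nat.card (MulAut T) = 2 := by
          rw [IsCyclic.card_mulAut, hTc]; rfl
        rw [hAut] at h2'
        have h1 : orderOf φ = 1 := Nat.eq_one_of_dvd_coprimes (by norm_num) h5' h2'
        rw [orderOf_eq_one_iff] at h1
        have e : ((φ ⟨u, hu⟩ : T) : G) = u := by rw [h1]; rfl
        have e' : (y : G) * u * (y : G)⁻¹ = u := e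
        calc (y : G) * u = ((y : G) * u * (y : G)⁻¹) * y := by group
          _ = u * y := by rw [e']
      have hYc : Nat.card (Subgroup.zpowers (y : G)) = 5 := by rw [Nat.card_zpowers, hy]
      obtain ⟨P, hP⟩ := (IsPGroup.of_card (n := 1) (hYc.trans (pow_one 5).symm)).exists_le_sylow
      have hPeq : (P : Subgroup G) = Subgroup.zpowers (y : G) :=
        (Subgroup.eq_of_le_of_card_ge hP (by rw [hSy P, hYc])).symm
      have hTN : T ≤ Subgroup.normalizer ((P : Subgroup G) : Set G) := by
        refine le_trans ?_ (Subgroup.centralizer_le_normalizer _)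
        intro u hu
        rw [Subgroup.mem_centralizer_iff, hPeq]
        intro z hz
        obtain ⟨i, rfl⟩ := Subgroup.mem_zpowers_iff.mp hz
        exact (show Commute (y : G) u from hTy u hu).zpow_left i
      have h3N := Subgroup.card_dvd_of_le hTN
      rw [hTc] at h3N
      have hNP := (Subgroup.normalizer ((P : Subgroup G) : Set G)).card_mul_index
      rw [show (Subgroup.normalizer ((P : Subgroup G) : Set G)).index = 6 from
        P.card_eq_index_normalizer.symm.trans hn6, hcard] at hNP
      omega
  exact Cfsg.Agent.Classical.SmallAlt.simple_sixty hcard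

end Cfsg.Agent.S3669
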