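import Cfsg.Statements.S3678
import Cfsg.Agent.Lib.Perm.SL2Char2

set_option autoImplicit false
open Cfsg

namespace Cfsg.Agent.S3678

open Matrix

/-- The groups with prime graph `{2, 3, 7}` without edges. -/
def Graph237 (G : Type*) [Group G] : Prop :=
  (∀ x : G, ∃ r k : ℕ, (r = 2 ∨ r = 3 ∨ r = 7) ∧ x ^ r ^ k = 1) ∧
  ∀ r : ℕ, (r = 2 ∨ r = 3 ∨ r = 7) → r ∣ Nat.card G

theorem Graph237.dvd_iff {G : Type*} [Group G] [Finite G] (h : Graph237 G) {p : ℕ} (hp : p.Prime) :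
    p ∣ Nat.card G ↔ (p = 2 ∨ p = 3 ∨ p = 7) := by
  refine ⟨fun hd => ?_, h.2 p⟩
  have : Fact p.Prime := ⟨hp⟩
  obtain ⟨x, hx⟩ := exists_prime_orderOf_dvd_card' p hd
  obtain ⟨r, k, hr, hk⟩ := h.1 x
  have h1 : p ∣ r ^ k := hx ▸ orderOf_dvd_of_pow_eq_one hk
  have hrp : r.Prime := by rcases hr with rfl | rfl | rfl <;> norm_num
  rwa [(Nat.prime_dvd_prime_iff_eq hp hrp).1 (hp.dvd_of_dvd_pow h1)]

theorem Graph237.no_edge {G : Type*} [Group G] (h : Graph237 G) {p q : ℕ} (hp : p.Prime)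
    (hq : q.Prime) (hpq : p ≠ q) : ¬ ∃ g : G, orderOf g = p * q := by
  rintro ⟨g, hg⟩
  obtain ⟨r, k, hr, hk⟩ := h.1 g
  have h1 : p * q ∣ r ^ k := hg ▸ orderOf_dvd_of_pow_eq_one hk
  have hrp : r.Prime := by rcases hr with rfl | rfl | rfl <;> norm_num
  exact hpq (((Nat.prime_dvd_prime_iff_eq hp hrp).1
    (hp.dvd_of_dvd_pow ((Nat.dvd_mul_right p q).trans h1))).trans
    ((Nat.prime_dvd_prime_iff_eq hq hrp).1
    (hq.dvd_of_dvd_pow ((Nat.dvd_mul_left q p).trans h1))).symm)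

theorem cayley {K : Type*} [Field K] (M : Matrix (Fin 2) (Fin 2) K) (hd : M.det = 1) :
    M * M = M.trace • M + (-1 : K) • 1 := by
  rw [det_fin_two] at hd
  ext i j
  fin_cases i <;> fin_cases j <;>
    simp [Matrix.mul_apply, trace, Fin.sum_univ_two] <;>
    first | linear_combination hd | linear_combination -hd | ring

theorem step {K : Type*} [Field K] {M : Matrix (Fin 2) (Fin 2) K} (hd : M.det = 1) {n : ℕ}
    {a b : K} (h : M ^ n = a • M + b • 1) :
    M ^ (n + 1) = (a * M.trace + b) • M + (-a) • 1 := by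
  rw [pow_succ, h, add_mul, smul_mul_assoc, smul_mul_assoc, cayley M hd, one_mul]
  rw [smul_add, smul_smul, smul_smul, add_smul, mul_neg_one]
  abel

theorem pow_eq {K : Type*} [Field K] (M : Matrix (Fin 2) (Fin 2) K) (hd : M.det = 1) :
    let t := M.trace
    M ^ 2 = t • M + (-1 : K) • 1 ∧
    M ^ 3 = (t ^ 2 - 1) • M + (-t) • 1 ∧
    M ^ 4 = (t ^ 3 - 2 * t) • M + (1 - t ^ 2) • 1 ∧
    M ^ 7 = (t ^ 6 - 5 * t ^ 4 + 6 * t ^ 2 - 1) • M + (-(t ^ 5 - 4 * t ^ 3 + 3 * t)) • 1 ∧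
    M ^ 9 = (t ^ 8 - 7 * t ^ 6 + 15 * t ^ 4 - 10 * t ^ 2 + 1) • M +
      (-(t ^ 7 - 6 * t ^ 5 + 10 * t ^ 3 - 4 * t)) • 1 := by
  intro t
  have h2 : M ^ 2 = t • M + (-1 : K) • 1 := by rw [pow_two]; exact cayley M hd
  have h3 := step hd h2
  have h4 := step hd h3
  have h5 := step hd h4
  have h6 := step hd h5
  have h7 := step hd h6
  have h8 := step hd h7
  have h9 := step hd h8
  refine ⟨h2, ?_, ?_, ?_, ?_⟩
  · rw [h3]; congr 2; ring
  · rw [h4]; congr 2 <;> ring
  · rw [h7]; congr 2 <;> ring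
  · rw [h9]; congr 2 <;> ring

theorem psl_pow {F : Type*} [Field F] (g : SpecialLinearGroup (Fin 2) F) (n : ℕ) (c : F)
    (h : (g.1 : Matrix (Fin 2) (Fin 2) F) ^ n = c • 1) :
    (QuotientGroup.mk g : ProjectiveSpecialLinearGroup (Fin 2) F) ^ n = 1 := by
  rw [← QuotientGroup.mk_pow, QuotientGroup.eq_one_iff, Matrix.SpecialLinearGroup.mem_center_iff]
  have h1 : (scalar (Fin 2) c : Matrix (Fin 2) (Fin 2) F) = ((g ^ n : SpecialLinearGroup (Fin 2) F) :
      Matrix (Fin 2) (Fin 2) F) := by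
    rw [Matrix.SpecialLinearGroup.coe_pow, h, scalar_apply, ← smul_one_eq_diagonal]
  refine ⟨c, ?_, h1⟩
  have := congrArg det h1
  simpa [Fintype.card_fin] using this

theorem mk_ne_one {F : Type*} [Field F] (g : SpecialLinearGroup (Fin 2) F)
    (h : (g.1 : Matrix (Fin 2) (Fin 2) F) 0 1 ≠ 0) :
    (QuotientGroup.mk g : ProjectiveSpecialLinearGroup (Fin 2) F) ≠ 1 := by
  intro he
  rw [QuotientGroup.eq_one_iff, Matrix.SpecialLinearGroup.mem_center_iff] at he
  obtain ⟨r, _, hr⟩ := he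
  rw [← hr] at h
  simp at h

theorem psl7 {F : Type*} [Field F] [Fintype F] (hF : Fintype.card F = 7) :
    Graph237 (ProjectiveSpecialLinearGroup (Fin 2) F) := by
  have : Fact (Nat.Prime 7) := ⟨by norm_num⟩
  have : CharP F 7 := charP_of_card_eq_prime hF
  have h7 : (7 : F) = 0 := by exact_mod_cast CharP.cast_eq_zero F 7
  refine ⟨fun x => ?_, ?_⟩
  · obtain ⟨g, rfl⟩ := QuotientGroup.mk_surjective x
    obtain ⟨e2, e3, e4, e7, -⟩ := pow_eq g.1 g.2
    set t := (g.1 : Matrix (Fin 2) (Fin 2) F).trace with ht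
    have hp : t * ((t ^ 2 - 1) * ((t ^ 2 - 4) * (t ^ 2 - 2))) = 0 := by
      have h0 : t ^ 7 = t := hF ▸ FiniteField.pow_card t
      linear_combination h0 + (-t ^ 5 + 2 * t ^ 3 - t) * h7
    rcases mul_eq_zero.1 hp with h | h
    · exact ⟨2, 1, by simp, psl_pow g _ (-1) (by simp [e2, h])⟩
    rcases mul_eq_zero.1 h with h | h
    · exact ⟨3, 1, by simp, psl_pow g _ (-t) (by simp [e3, h])⟩
    rcases mul_eq_zero.1 h with h | h
    · refine ⟨7, 1, by simp, psl_pow g _ (-3 * t) ?_⟩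
      rw [pow_one, e7, show t ^ 6 - 5 * t ^ 4 + 6 * t ^ 2 - 1 = 0 by
        linear_combination (t ^ 4 - t ^ 2 + 2) * h + h7]
      rw [show -(t ^ 5 - 4 * t ^ 3 + 3 * t) = -3 * t by linear_combination (-t ^ 3) * h]
      simp
    · refine ⟨2, 2, by simp, psl_pow g _ (1 - t ^ 2) ?_⟩
      rw [show (2 : ℕ) ^ 2 = 4 from rfl, e4, show t ^ 3 - 2 * t = 0 by linear_combination t * h]
      simp
  · have key : ∀ (M : Matrix (Fin 2) (Fin 2) F) (hd : M.det = 1), M 0 1 ≠ 0 → ∀ n : ℕ, n.Prime →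
        (∃ c : F, M ^ n = c • 1) → n ∣ Nat.card (ProjectiveSpecialLinearGroup (Fin 2) F) := by
      intro M hd h01 n hn hc
      obtain ⟨c, hc⟩ := hc
      have : Fact n.Prime := ⟨hn⟩
      have h1 := orderOf_eq_prime (psl_pow ⟨M, hd⟩ n c hc) (mk_ne_one ⟨M, hd⟩ h01)
      exact (dvd_of_eq h1.symm).trans (orderOf_dvd_natCard _)
    rintro r (rfl | rfl | rfl)
    · have hd : (!![0, 1; -1, 0] : Matrix (Fin 2) (Fin 2) F).det = 1 := by simp [det_fin_two]
      obtain ⟨e2, -⟩ := pow_eq _ hd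
      exact key _ hd (by simp) 2 Nat.prime_two ⟨-1, by simp [e2, trace, Fin.sum_univ_two]⟩
    · have hd : (!![0, 1; -1, 1] : Matrix (Fin 2) (Fin 2) F).det = 1 := by simp [det_fin_two]
      obtain ⟨-, e3, -⟩ := pow_eq _ hd
      exact key _ hd (by simp) 3 Nat.prime_three ⟨-1, by simp [e3, trace, Fin.sum_univ_two]⟩
    · have hd : (!![1, 1; 0, 1] : Matrix (Fin 2) (Fin 2) F).det = 1 := by simp [det_fin_two]
      obtain ⟨-, -, -, e7, -⟩ := pow_eq _ hd
      refine key _ hd (by simp) 7 (by norm_num) ⟨1, ?_⟩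
      rw [e7]
      simp only [trace, diag_apply, Fin.sum_univ_two, of_apply, cons_val', cons_val_zero,
        cons_val_one, cons_val_fin_one, empty_val']
      rw [show ((1 + 1 : F) ^ 6 - 5 * (1 + 1) ^ 4 + 6 * (1 + 1) ^ 2 - 1) = 0 by
        linear_combination h7,
        show -((1 + 1 : F) ^ 5 - 4 * (1 + 1) ^ 3 + 3 * (1 + 1)) = 1 by
        linear_combination (-1 : F) * h7]
      simp

theorem sl8 : Graph237 (SpecialLinearGroup (Fin 2) (GaloisField 2 3)) := by
  have : Fintype (GaloisField 2 3) := Fintype.ofFinite _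
  have hK : Fintype.card (GaloisField 2 3) = 8 := by
    rw [← Nat.card_eq_fintype_card, GaloisField.card 2 3 (by norm_num)]; norm_num
  have h2 : (2 : GaloisField 2 3) = 0 := CharTwo.two_eq_zero
  refine ⟨fun g => ?_, ?_⟩
  · obtain ⟨e2, e3, -, e7, e9⟩ := pow_eq g.1 g.2
    set t := (g.1 : Matrix (Fin 2) (Fin 2) (GaloisField 2 3)).trace with ht
    have fin : ∀ n : ℕ, (g.1 : Matrix (Fin 2) (Fin 2) (GaloisField 2 3)) ^ n = 1 → g ^ n = 1 :=
      fun n h => Subtype.ext ((Matrix.SpecialLinearGroup.coe_pow g n).trans h)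
    have hp : t * ((t - 1) * ((t ^ 3 + t + 1) * (t ^ 3 + t ^ 2 + 1))) = 0 := by
      have h0 : t ^ 8 = t := hK ▸ FiniteField.pow_card t
      linear_combination h0 + (t ^ 5 - t ^ 4) * h2
    rcases mul_eq_zero.1 hp with h | h
    · exact ⟨2, 1, by simp, fin _ (by simp [e2, h, CharTwo.neg_eq])⟩
    rcases mul_eq_zero.1 h with h | h
    · exact ⟨3, 1, by simp, fin _ (by simp [e3, sub_eq_zero.1 h, CharTwo.neg_eq])⟩
    rcases mul_eq_zero.1 h with h | h
    · refine ⟨3, 2, by simp, fin _ ?_⟩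
      rw [show (3 : ℕ) ^ 2 = 9 from rfl, e9,
        show t ^ 8 - 7 * t ^ 6 + 15 * t ^ 4 - 10 * t ^ 2 + 1 = 0 by
          linear_combination (t ^ 5 + t ^ 2 + t + 1) * h + ((-1) * t ^ 1 + (-6) * t ^ 2 + (-1) * t ^ 3 + (7) * t ^ 4 + (-1) * t ^ 5 + (-4) * t ^ 6) * h2,
        show -(t ^ 7 - 6 * t ^ 5 + 10 * t ^ 3 - 4 * t) = 1 by
          linear_combination (t ^ 4 + t ^ 2 + t + 1) * h + ((-1) * t ^ 0 + (1) * t ^ 1 + (-1) * t ^ 2 + (-6) * t ^ 3 + (-1) * t ^ 4 + (2) * t ^ 5 + (-1) * t ^ 7) * h2]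
      simp
    · refine ⟨7, 1, by simp, fin _ ?_⟩
      rw [pow_one, e7,
        show t ^ 6 - 5 * t ^ 4 + 6 * t ^ 2 - 1 = 0 by
          linear_combination (t ^ 3 + t ^ 2 + 1) * h + ((-1) * t ^ 0 + (2) * t ^ 2 + (-1) * t ^ 3 + (-3) * t ^ 4 + (-1) * t ^ 5) * h2,
        show -(t ^ 5 - 4 * t ^ 3 + 3 * t) = 1 by
          linear_combination (t ^ 2 + t + 1) * h + ((-1) * t ^ 0 + (-2) * t ^ 1 + (-1) * t ^ 2 + (1) * t ^ 3 + (-1) * t ^ 4 + (-1) * t ^ 5) * h2]
      simp
  · rintro r (rfl | rfl | rfl)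
    · exact Perm.two_dvd_card_sl2
    · let u : SpecialLinearGroup (Fin 2) (GaloisField 2 3) :=
        ⟨!![0, 1; 1, 1], by simp [det_fin_two, CharTwo.neg_eq]⟩
      obtain ⟨-, e3, -⟩ := pow_eq u.1 u.2
      have h1 : u ^ 3 = 1 := Subtype.ext (by
        rw [Matrix.SpecialLinearGroup.coe_pow, e3]
        simp [u, trace, Fin.sum_univ_two, CharTwo.neg_eq])
      have : Fact (Nat.Prime 3) := ⟨Nat.prime_three⟩
      have hne : u ≠ 1 := by
        intro h
        have := congrArg (fun g : SpecialLinearGroup (Fin 2) (GaloisField 2 3) => g.1 0 1) h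
        simp [u] at this
      exact (dvd_of_eq (orderOf_eq_prime h1 hne).symm).trans (orderOf_dvd_natCard _)
    · have h7 : 7 ∣ Nat.card (GaloisField 2 3)ˣ := by
        rw [Nat.card_units, Nat.card_eq_fintype_card, hK]
      let f : (GaloisField 2 3)ˣ →* SpecialLinearGroup (Fin 2) (GaloisField 2 3) :=
        { toFun := fun a => ⟨!![(a : GaloisField 2 3), 0; 0, ((a⁻¹ : (GaloisField 2 3)ˣ) : GaloisField 2 3)], by
            simp [det_fin_two]⟩
          map_one' := Subtype.ext (by simp [one_fin_two])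
          map_mul' := fun a b => Subtype.ext (by
            show _ = (!![(a : GaloisField 2 3), 0; 0, ((a⁻¹ : (GaloisField 2 3)ˣ) : GaloisField 2 3)] : Matrix _ _ _) *
              !![(b : GaloisField 2 3), 0; 0, ((b⁻¹ : (GaloisField 2 3)ˣ) : GaloisField 2 3)]
            simp [mul_comm, Matrix.mul_fin_two]) }
      have hf : Function.Injective f := fun a b h => Units.ext (by
        have h' := congrArg (fun g : SpecialLinearGroup (Fin 2) (GaloisField 2 3) => g.1 0 0) h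
        exact h')
      exact h7.trans (Subgroup.card_dvd_of_injective f hf)

/-- The prime graph of a finite group has the prime divisors of its order as vertices, two distinct primes p, q being joined when the group has an element of order pq; two groups have the same prime graph when they have the same prime divisors and the same joined pairs. Let F be the field with 7 elements. There are finite groups of arbitrarily large order with the same prime graph as PSL(2,F) (the graph on {2, 3, 7} with no edges, which is also the prime graph of PSL(2,8)). -/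
theorem result {F : Type*} [Field F] [Fintype F] (hF : Fintype.card F = 7) (N : ℕ) :
    ∃ (H : Type) (_ : Group H) (_ : Finite H), N < Nat.card H ∧
      ((∀ p : ℕ, p.Prime → (p ∣ Nat.card (Matrix.ProjectiveSpecialLinearGroup (Fin 2) F) ↔ p ∣ Nat.card H)) ∧
      (∀ p q : ℕ, p.Prime → q.Prime → p ≠ q → ((∃ g : (Matrix.ProjectiveSpecialLinearGroup (Fin 2) F), orderOf g = p * q) ↔ (∃ g : H, orderOf g = p * q)))) := by
  obtain ⟨H, iG, iF, hN, hπ, he⟩ := Perm.exists_large_same_prime_graph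
    (G := SpecialLinearGroup (Fin 2) (GaloisField 2 3)) (Perm.vecAction Perm.slVal)
    Perm.isPGroup_two_vec Perm.two_dvd_card_sl2
    (fun g hp hodd v hv => by
      by_contra hne
      have := Perm.sl2_fpf g hodd v hv hne
      rw [this, orderOf_one] at hp
      exact Nat.not_prime_one hp) N
  refine ⟨H, iG, iF, hN, fun p hp => ?_, fun p q hp hq hpq => ?_⟩
  · rw [(psl7 hF).dvd_iff hp, ← hπ p hp, sl8.dvd_iff hp]
  · rw [← he p q hp hq hpq]
    exact ⟨fun h => absurd h ((psl7 hF).no_edge hp hq hpq),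
      fun h => absurd h (sl8.no_edge hp hq hpq)⟩

end Cfsg.Agent.S3678
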