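import Cfsg.Statements.S3680
import Mathlib
import Cfsg.Agent.S0721
import Cfsg.Agent.Lib.Solv.Basic
-- import your own Cfsg.Agent.* helpers here

set_option autoImplicit false
open Cfsg

namespace Cfsg.Agent.S3680

/-- The socle of a finite primitive permutation group. Let a finite group G act faithfully and primitively on a set Ω, and let N be the subgroup generated by the minimal normal subgroups of G. Then either N is an elementary abelian p-group for some prime p and acts regularly on Ω (transitively with trivial point stabilizers), or N is isomorphic to a direct product of m ≥ 1 copies of a non-abelian simple group. -/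
theorem result {G Ω : Type*} [Group G] [Finite G] [MulAction G Ω] [FaithfulSMul G Ω] [Finite Ω]
    (hprim : MulAction.IsPreprimitive G Ω) (N : Subgroup G)
    (hN : N = sSup {V : Subgroup G | V.Normal ∧ V ≠ ⊥ ∧ ∀ M : Subgroup G, M.Normal → M ≤ V → M = ⊥ ∨ M = V}) :
    (∃ p : ℕ, p.Prime ∧ IsMulCommutative N ∧ (∀ x : N, x ^ p = 1) ∧
      MulAction.IsPretransitive N Ω ∧ ∀ ω : Ω, MulAction.stabilizer N ω = ⊥) ∨
    (∃ (T : Type) (_ : Group T) (m : ℕ), 1 ≤ m ∧ IsSimpleGroup T ∧ ¬ IsMulCommutative T ∧ Nonempty (N ≃* (Fin m → T))) := by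
  skip
  classical
  subst hN
  by_cases htriv : ∀ g : G, g = 1
  · -- trivial group
    haveI : Subsingleton G := ⟨fun a b => (htriv a).trans (htriv b).symm⟩
    left
    refine ⟨2, Nat.prime_two, ⟨⟨fun a b => Subsingleton.elim _ _⟩⟩, fun x => Subsingleton.elim _ _,
      ⟨fun u v => ?_⟩, fun ω => Subsingleton.elim _ _⟩
    obtain ⟨g, hg⟩ := hprim.toIsPretransitive.exists_smul_eq u v
    exact ⟨1, by rw [← hg, one_smul, Subsingleton.elim g 1, one_smul]⟩
  push Not at htriv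
  obtain ⟨g₀, hg₀⟩ := htriv
  obtain ⟨M, hMn, -, hM1, hMmin⟩ := Cfsg.Agent.Solv.exists_minimal_normal_le (N := (⊤ : Subgroup G))
    (fun e => hg₀ (Subgroup.mem_bot.1 (e ▸ Subgroup.mem_top g₀)))
  haveI := hMn
  haveI := hprim
  have hne : Nonempty Ω := by
    by_contra h
    rw [not_nonempty_iff] at h
    exact hg₀ (eq_of_smul_eq_smul (α := Ω) fun a => isEmptyElim a)
  obtain ⟨ω₀⟩ := hne
  have htr : ∀ V : Subgroup G, V.Normal → V ≠ ⊥ → MulAction.IsPretransitive V Ω := by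
    intro V hV hV1
    haveI := hV
    refine MulAction.IsQuasiPreprimitive.isPretransitive_of_normal fun h => hV1 ((Subgroup.eq_bot_iff_forall V).2 fun v hv => ?_)
    exact eq_of_smul_eq_smul (α := Ω) fun a => by
      rw [one_smul]; exact (h ▸ Set.mem_univ a : a ∈ MulAction.fixedPoints V Ω) ⟨v, hv⟩
  have hsemi : ∀ V : Subgroup G, V.Normal → V ≠ ⊥ → ∀ x : G, (∀ v ∈ V, x * v = v * x) → ∀ ω : Ω, x • ω = ω → x = 1 := by
    intro V hV hV1 x hx ω hω
    refine eq_of_smul_eq_smul (α := Ω) fun a => ?_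
    obtain ⟨⟨v, hv⟩, hva⟩ := (htr V hV hV1).exists_smul_eq ω a
    rw [one_smul, ← hva]
    show x • v • ω = v • ω
    rw [← mul_smul, hx v hv, mul_smul, hω]
  have hcomm : ∀ V W : Subgroup G, V.Normal → W.Normal → (∀ K : Subgroup G, K.Normal → K ≤ V → K = ⊥ ∨ K = V) →
      (∀ K : Subgroup G, K.Normal → K ≤ W → K = ⊥ ∨ K = W) → V ≠ W → ∀ v ∈ V, ∀ w ∈ W, v * w = w * v := by
    intro V W hV hW hVm hWm hVW
    haveI := hV; haveI := hW
    have hd : Disjoint V W := by
      rw [disjoint_iff]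
      rcases hVm (V ⊓ W) inferInstance inf_le_left with h | h
      · exact h
      · rcases hWm (V ⊓ W) inferInstance inf_le_right with h' | h'
        · exact h'
        · exact absurd (h.symm.trans h') hVW
    exact fun v hv w hw => Subgroup.commute_of_normal_of_disjoint V W hV hW hd v w hv hw
  set S := {V : Subgroup G | V.Normal ∧ V ≠ ⊥ ∧ ∀ K : Subgroup G, K.Normal → K ≤ V → K = ⊥ ∨ K = V}
  by_cases hab : ∀ a ∈ M, ∀ b ∈ M, a * b = b * a
  · -- abelian socle
    have huniq : ∀ V ∈ S, V = M := by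
      intro V hV
      by_contra hVM
      refine hV.2.1 ((Subgroup.eq_bot_iff_forall V).2 fun v hv => ?_)
      obtain ⟨⟨m, hm⟩, hmv⟩ := (htr M hMn hM1).exists_smul_eq ω₀ (v • ω₀)
      have hmv' : m • ω₀ = v • ω₀ := hmv
      have h1 := hsemi M hMn hM1 (m⁻¹ * v) (fun k hk => by
        rw [mul_assoc, hcomm V M hV.1 hMn hV.2.2 hMmin hVM v hv k hk, ← mul_assoc, hab _ (M.inv_mem hm) k hk, mul_assoc])
        ω₀ (by rw [mul_smul, ← hmv', inv_smul_smul])
      rw [inv_mul_eq_one] at h1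
      rcases hV.2.2 (V ⊓ M) (haveI := hV.1; inferInstance) inf_le_left with h | h
      · exact Subgroup.mem_bot.1 (h ▸ Subgroup.mem_inf.2 ⟨hv, h1 ▸ hm⟩)
      · rcases hMmin V hV.1 (h ▸ inf_le_right) with h' | h'
        · exact absurd h' hV.2.1
        · exact absurd h' hVM
    have hNM : sSup S = M := le_antisymm (sSup_le fun V hV => (huniq V hV).le) (le_sSup ⟨hMn, hM1, hMmin⟩)
    haveI hMc : IsMulCommutative M := ⟨⟨fun a b => Subtype.ext (hab a a.2 b b.2)⟩⟩
    haveI : Group.IsSolvable M := isSolvable_of_comm (fun a b => mul_comm' a b)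
    obtain ⟨-, p, hp, hexp⟩ := Cfsg.Agent.Solv.minimal_normal_elementary M hM1 hMmin
    left
    rw [hNM]
    refine ⟨p, hp, hMc, fun x => Subtype.ext (hexp _ x.2), htr M hMn hM1, fun ω => ?_⟩
    rw [Subgroup.eq_bot_iff_forall]
    intro x hx
    exact Subtype.ext (hsemi M hMn hM1 x (fun k hk => hab _ x.2 k hk) ω hx)
  right
  obtain ⟨T, hTg, m, hTs, hm, ⟨e⟩⟩ := Cfsg.Agent.S0721.result M hM1 hMmin
  letI := hTg
  have hTna : ¬ IsMulCommutative T := fun hc => by
    refine hab fun a ha b hb => congrArg Subtype.val (e.injective (show e (⟨a, ha⟩ * ⟨b, hb⟩) = e (⟨b, hb⟩ * ⟨a, ha⟩) from ?_))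
    rw [map_mul, map_mul]
    funext i
    exact hc.is_comm.comm _ _
  by_cases huniq : ∀ V ∈ S, V = M
  · have hNM : sSup S = M := le_antisymm (sSup_le fun V hV => (huniq V hV).le) (le_sSup ⟨hMn, hM1, hMmin⟩)
    exact ⟨T, hTg, m, hm, hTs, hTna, ⟨(MulEquiv.subgroupCongr hNM).trans e⟩⟩
  push Not at huniq
  obtain ⟨V, ⟨hVn, hV1, hVmin⟩, hVM⟩ := huniq
  haveI := hVn
  have hMV : ∀ a ∈ M, ∀ b ∈ V, a * b = b * a := hcomm M V hMn hVn hMmin hVmin (Ne.symm hVM)
  have hex : ∀ a : M, ∃ b : V, (b : G) • ω₀ = (a : G)⁻¹ • ω₀ := fun a =>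
    (htr V hVn hV1).exists_smul_eq ω₀ _
  choose φ hφ using hex
  have hinjV : ∀ x ∈ V, ∀ y ∈ V, x • ω₀ = y • ω₀ → x = y := by
    intro x hx y hy h
    refine (inv_mul_eq_one.1 (hsemi M hMn hM1 (y⁻¹ * x) (fun k hk => (hMV k hk _ (V.mul_mem (V.inv_mem hy) hx)).symm) ω₀ ?_)).symm
    rw [mul_smul, h, inv_smul_smul]
  have hinjM : ∀ x ∈ M, ∀ y ∈ M, x • ω₀ = y • ω₀ → x = y := by
    intro x hx y hy h
    refine (inv_mul_eq_one.1 (hsemi V hVn hV1 (y⁻¹ * x) (fun k hk => hMV _ (M.mul_mem (M.inv_mem hy) hx) k hk) ω₀ ?_)).symm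
    rw [mul_smul, h, inv_smul_smul]
  let φh : M →* V := MonoidHom.mk' φ fun a b => Subtype.ext (hinjV _ (φ (a * b)).2 _ (φ a * φ b).2 (by
    rw [hφ, Subgroup.coe_mul, Subgroup.coe_mul, mul_smul (φ a : G), hφ b, ← mul_smul, ← hMV _ (M.inv_mem b.2) _ (φ a).2,
      mul_smul, hφ a, ← mul_smul, mul_inv_rev]))
  have hφb : Function.Bijective φh := by
    refine ⟨fun a b h => ?_, fun b => ?_⟩
    · have h1 : (a : G)⁻¹ • ω₀ = (b : G)⁻¹ • ω₀ := by rw [← hφ a, ← hφ b]; exact congrArg (fun z : V => (z : G) • ω₀) h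
      exact Subtype.ext (inv_injective (hinjM _ (M.inv_mem a.2) _ (M.inv_mem b.2) h1))
    · obtain ⟨⟨a, ha⟩, hab'⟩ := (htr M hMn hM1).exists_smul_eq ω₀ ((b : G) • ω₀)
      refine ⟨⟨a⁻¹, M.inv_mem ha⟩, Subtype.ext (hinjV _ (φ _).2 _ b.2 ?_)⟩
      rw [hφ, inv_inv]
      exact hab'
  have hall : ∀ W ∈ S, W = M ∨ W = V := by
    intro W hW
    refine or_iff_not_imp_left.2 fun hWM => ?_
    refine (hVmin W hW.1 fun w hw => ?_).resolve_left hW.2.1
    obtain ⟨⟨v, hv⟩, hvw⟩ := (htr V hVn hV1).exists_smul_eq ω₀ (w • ω₀)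
    have hvw' : v • ω₀ = w • ω₀ := hvw
    have h1 := hsemi M hMn hM1 (v⁻¹ * w) (fun k hk => by
      rw [mul_assoc, hcomm W M hW.1 hMn hW.2.2 hMmin hWM w hw k hk, ← mul_assoc, ← hMV k hk _ (V.inv_mem hv), mul_assoc])
      ω₀ (by rw [mul_smul, ← hvw', inv_smul_smul])
    rw [inv_mul_eq_one] at h1
    exact h1 ▸ hv
  have hNMV : sSup S = M ⊔ V := le_antisymm
    (sSup_le fun W hW => by rcases hall W hW with rfl | rfl <;> simp)
    (sup_le (le_sSup ⟨hMn, hM1, hMmin⟩) (le_sSup ⟨hVn, hV1, hVmin⟩))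
  let Ψ : M × V →* G := M.subtype.noncommCoprod V.subtype fun a b => hMV _ a.2 _ b.2
  have hΨ : Function.Injective Ψ := by
    rw [injective_iff_map_eq_one]
    rintro ⟨a, b⟩ h
    have h' : (a : G) * (b : G) = 1 := h
    have ha : (a : G) ∈ V := by rw [mul_eq_one_iff_eq_inv.1 h']; exact V.inv_mem b.2
    have hd : Disjoint M V := by
      rw [disjoint_iff]
      rcases hMmin (M ⊓ V) inferInstance inf_le_left with h | h
      · exact h
      · rcases hVmin (M ⊓ V) inferInstance inf_le_right with h'' | h''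
        · exact h''
        · exact absurd (h''.symm.trans h) hVM
    have ha1 : (a : G) = 1 := Subgroup.disjoint_def.1 hd a.2 ha
    rw [ha1, one_mul] at h'
    exact Prod.ext (Subtype.ext ha1) (Subtype.ext h')
  have hrange : Ψ.range = sSup S := by
    rw [hNMV]
    exact (MonoidHom.noncommCoprod_range _ _ _).trans (by rw [Subgroup.range_subtype, Subgroup.range_subtype])
  let J : (Fin (m + m) → T) ≃* (Fin m → T) × (Fin m → T) :=
    { toEquiv := (finSumFinEquiv.symm.arrowCongr (Equiv.refl T)).trans (Equiv.sumArrowEquivProdArrow _ _ _)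
      map_mul' := fun _ _ => rfl }
  exact ⟨T, hTg, m + m, by omega, hTs, hTna, ⟨((MulEquiv.subgroupCongr hrange.symm).trans (MonoidHom.ofInjective hΨ).symm).trans
    ((MulEquiv.prodCongr e ((MulEquiv.ofBijective φh hφb).symm.trans e)).trans J.symm)⟩⟩

end Cfsg.Agent.S3680
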