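import Cfsg.Statements.S3681
import Mathlib.GroupTheory.GroupAction.Jordan

set_option autoImplicit false
open Cfsg

namespace Cfsg.Agent.S3681

open MulAction Equiv Equiv.Perm

theorem commutator_three {α : Type*} [Fintype α] [DecidableEq α] (g h : Equiv.Perm α) (x : α)
    (hgx : g x ≠ x) (hhx : h x ≠ x) (hmeet : ∀ y, g y ≠ y → h y ≠ y → y = x) :
    (g * h * g⁻¹ * h⁻¹).IsThreeCycle := by
  have gfix : ∀ y, h y ≠ y → y ≠ x → g y = y := fun y a b => by
    by_contra c; exact b (hmeet y c a)
  have hfix : ∀ y, g y ≠ y → y ≠ x → h y = y := fun y a b => by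
    by_contra c; exact b (hmeet y a c)
  have gi : ∀ y, g y = y → g⁻¹ y = y := fun y a => by
    calc g⁻¹ y = g⁻¹ (g y) := by rw [a]
      _ = y := g.symm_apply_apply y
  have hi : ∀ y, h y = y → h⁻¹ y = y := fun y a => by
    calc h⁻¹ y = h⁻¹ (h y) := by rw [a]
      _ = y := h.symm_apply_apply y
  have hggx : g (g x) ≠ g x := fun e => hgx (g.injective e)
  have hhhx : h (h x) ≠ h x := fun e => hhx (h.injective e)
  have hne : g x ≠ h x := fun e => hgx (hmeet (g x) hggx (e ▸ hhhx))
  have ghx : g (h x) = h x := gfix _ hhhx hhx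
  have hgx' : h (g x) = g x := hfix _ hggx hgx
  have happ : ∀ y, (g * h * g⁻¹ * h⁻¹) y = g (h (g⁻¹ (h⁻¹ y))) := fun y => rfl
  have e1 : (g * h * g⁻¹ * h⁻¹) x = g x := by
    rw [happ]
    have a1 : h (h⁻¹ x) = x := h.apply_symm_apply x
    have a2 : h⁻¹ x ≠ x := fun e => hhx (by rw [e] at a1; exact a1)
    have a3 : g (h⁻¹ x) = h⁻¹ x := gfix _ (by rw [a1]; exact a2.symm) a2
    rw [gi _ a3, a1]
  have e2 : (g * h * g⁻¹ * h⁻¹) (g x) = h x := by
    rw [happ, hi _ hgx', show g⁻¹ (g x) = x from g.symm_apply_apply x, ghx]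
  have e3 : (g * h * g⁻¹ * h⁻¹) (h x) = x := by
    rw [happ, show h⁻¹ (h x) = x from h.symm_apply_apply x]
    have a1 : g (g⁻¹ x) = x := g.apply_symm_apply x
    have a2 : g⁻¹ x ≠ x := fun e => hgx (by rw [e] at a1; exact a1)
    rw [hfix _ (by rw [a1]; exact a2.symm) a2, a1]
  have hsup : (g * h * g⁻¹ * h⁻¹).support = {x, g x, h x} := by
    ext y
    simp only [mem_support, Finset.mem_insert, Finset.mem_singleton]
    constructor
    · intro hy
      by_contra hc
      push Not at hc
      obtain ⟨h1, h2, h3⟩ := hc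
      apply hy
      rw [happ]
      by_cases hgy : g y = y
      · by_cases hhy : h y = y
        · rw [hi y hhy, gi y hgy, hhy, hgy]
        · have a1 : h (h⁻¹ y) = y := h.apply_symm_apply y
          have a2 : h⁻¹ y ≠ x := fun e => h3 (by rw [← e, a1])
          have a3 : h (h⁻¹ y) ≠ h⁻¹ y := by
            rw [a1]; intro e; exact hhy (by rw [← e] at a1; exact a1)
          rw [gi _ (gfix _ a3 a2), a1, hgy]
      · have hhy := hfix y hgy h1
        rw [hi y hhy]
        have a1 : g (g⁻¹ y) = y := g.apply_symm_apply y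
        have a2 : g⁻¹ y ≠ x := fun e => h2 (by rw [← e, a1])
        have a3 : g (g⁻¹ y) ≠ g⁻¹ y := by
          rw [a1]; intro e; exact hgy (by rw [← e] at a1; exact a1)
        rw [hfix _ a3 a2, a1]
    · rintro (rfl | rfl | rfl)
      · rw [e1]; exact hgx
      · rw [e2]; exact hne.symm
      · rw [e3]; exact hhx.symm
  rw [← card_support_eq_three_iff, hsup, Finset.card_insert_of_notMem (by simp [hgx.symm, hhx.symm]),
    Finset.card_pair hne]


/-- Bochert's bound for primitive groups. Let a finite group G act faithfully and primitively on a finite set Ω with n elements, and suppose the image of G in the symmetric group of Ω does not contain the alternating group of Ω. Then |G| · ⌊(n + 1)/2⌋! ≤ n!, that is, the index of G in the symmetric group is at least ⌊(n + 1)/2⌋!. -/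
theorem result {G Ω : Type*} [Group G] [Finite G] [MulAction G Ω] [FaithfulSMul G Ω] [Fintype Ω] [DecidableEq Ω]
    (hprim : MulAction.IsPreprimitive G Ω) (hA : ¬ alternatingGroup Ω ≤ (MulAction.toPermHom G Ω).range) :
    Nat.card G * Nat.factorial ((Fintype.card Ω + 1) / 2) ≤ Nat.factorial (Fintype.card Ω) := by
  classical
  set R := (toPermHom G Ω).range with hR
  have hcard : Nat.card G = Nat.card R := by
    rw [hR]
    exact Nat.card_congr (MonoidHom.ofInjective (f := toPermHom G Ω) toPerm_injective).toEquiv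
  have hRprim : IsPreprimitive R Ω := by
    haveI := hprim
    exact IsPreprimitive.of_surjective (f := (⟨id, fun _ _ => rfl⟩ : Ω →ₑ[(toPermHom G Ω).rangeRestrict] Ω))
      Function.surjective_id
  -- the subsets supporting no non-trivial element
  let P : Finset (Finset Ω) := Finset.univ.filter fun Γ => ∀ g ∈ R, g.support ⊆ Γ → g = 1
  obtain ⟨Γ, hΓ, hmax⟩ := P.exists_max_image Finset.card
    ⟨∅, Finset.mem_filter.2 ⟨Finset.mem_univ _, fun g _ hg => support_eq_empty_iff.1 (Finset.subset_empty.1 hg)⟩⟩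
  have hΓ' := (Finset.mem_filter.1 hΓ).2
  have hbig : Fintype.card Ω ≤ 2 * Γ.card := by
    by_contra hlt
    have hnot : ∀ Δ : Finset Ω, Γ.card < Δ.card → ∃ g ∈ R, g.support ⊆ Δ ∧ g ≠ 1 := fun Δ hΔ => by
      by_contra hc
      push Not at hc
      have := hmax Δ (Finset.mem_filter.2 ⟨Finset.mem_univ _, hc⟩)
      omega
    obtain ⟨g, hg, hgs, hg1⟩ := hnot Γᶜ (by rw [Finset.card_compl]; omega)
    obtain ⟨x, hx⟩ : g.support.Nonempty := by
      rw [Finset.nonempty_iff_ne_empty]; exact fun e => hg1 (support_eq_empty_iff.1 e)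
    have hxΓ : x ∉ Γ := Finset.mem_compl.1 (hgs hx)
    obtain ⟨h, hh, hhs, hh1⟩ := hnot (insert x Γ) (by rw [Finset.card_insert_of_notMem hxΓ]; omega)
    have hhx : x ∈ h.support := by
      by_contra hc
      exact hh1 (hΓ' h hh fun y hy => (Finset.mem_insert.1 (hhs hy)).resolve_left fun e => hc (e ▸ hy))
    apply hA
    exact alternatingGroup_le_of_isPreprimitive_of_isThreeCycle_mem hRprim
      (commutator_three g h x (mem_support.1 hx) (mem_support.1 hhx) fun y hy1 hy2 =>
        (Finset.mem_insert.1 (hhs (mem_support.2 hy2))).resolve_right (Finset.mem_compl.1 (hgs (mem_support.2 hy1))))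
      (mul_mem (mul_mem (mul_mem hg hh) (inv_mem hg)) (inv_mem hh))
  have hinj : Function.Injective fun p : R × Equiv.Perm ↥Γ => (p.1 : Equiv.Perm Ω) * Equiv.Perm.ofSubtype p.2 := by
    rintro ⟨r, σ⟩ ⟨r', σ'⟩ e
    simp only at e
    have e' : (r' : Equiv.Perm Ω)⁻¹ * r = ofSubtype (σ' * σ⁻¹) := by
      rw [map_mul, map_inv, eq_mul_inv_iff_mul_eq, mul_assoc, e, inv_mul_cancel_left]
    have h1 := hΓ' _ (mul_mem (inv_mem r'.2) r.2) (fun y hy => by
      rw [e', mem_support] at hy
      by_contra hc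
      exact hy (ofSubtype_apply_of_not_mem _ hc))
    have hr : r' = r := Subtype.ext (inv_mul_eq_one.1 h1)
    subst hr
    exact Prod.ext rfl (ofSubtype_injective (mul_left_cancel e))
  have hle := Nat.card_le_card_of_injective _ hinj
  rw [Nat.card_prod, Nat.card_perm, Nat.card_perm, Nat.card_eq_fintype_card (α := ↥Γ), Fintype.card_coe,
    Nat.card_eq_fintype_card (α := Ω)] at hle
  rw [hcard]
  calc Nat.card R * Nat.factorial ((Fintype.card Ω + 1) / 2) ≤ Nat.card R * Nat.factorial Γ.card :=
        Nat.mul_le_mul_left _ (Nat.factorial_le (by omega))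
    _ ≤ _ := hle

end Cfsg.Agent.S3681
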