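import Cfsg.Statements.S3683
-- import your own Cfsg.Agent.* helpers here

set_option autoImplicit false
open Cfsg

namespace Cfsg.Agent.S3683

/-- Let a finite group G act faithfully and primitively on a set Ω, and suppose the stabilizer of a point a fixes a second point b ≠ a (a suborbit of length 1 other than {a}). Then the stabilizer of a is trivial and G is cyclic of prime order. -/
theorem result {G Ω : Type*} [Group G] [Finite G] [MulAction G Ω] [FaithfulSMul G Ω] [Finite Ω]
    (hprim : MulAction.IsPreprimitive G Ω) (a b : Ω) (hab : a ≠ b) (hfix : ∀ g : G, g • a = a → g • b = b) :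
    MulAction.stabilizer G a = ⊥ ∧ IsCyclic G ∧ (Nat.card G).Prime := by
  haveI := hprim
  haveI : Nontrivial Ω := ⟨⟨a, b, hab⟩⟩
  have hco : IsCoatom (MulAction.stabilizer G a) := MulAction.IsPreprimitive.isCoatom_stabilizer_of_isPreprimitive G a
  obtain ⟨g, hg⟩ := MulAction.exists_smul_eq G a b
  have hle : MulAction.stabilizer G a ≤ MulAction.stabilizer G b := fun x hx =>
    MulAction.mem_stabilizer_iff.2 (hfix x (MulAction.mem_stabilizer_iff.1 hx))
  have hb : MulAction.stabilizer G b = (MulAction.stabilizer G a).map (MulAut.conj g).toMonoidHom := by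
    rw [← hg, MulAction.stabilizer_smul_eq_stabilizer_map_conj]
  have heq : MulAction.stabilizer G a = MulAction.stabilizer G b :=
    Subgroup.eq_of_le_of_card_ge hle (by rw [hb, Subgroup.card_map_of_injective (MulAut.conj g).injective])
  have hn : g ∈ Subgroup.normalizer (MulAction.stabilizer G a : Set G) := by
    rw [Subgroup.mem_normalizer_iff]
    intro x
    constructor
    · intro hx
      rw [heq, hb]; exact ⟨x, hx, rfl⟩
    · intro hx
      rw [heq, hb] at hx
      obtain ⟨y, hy, e⟩ := hx
      rwa [← (MulAut.conj g).injective (e : MulAut.conj g y = MulAut.conj g x)]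
  have hga : g ∉ MulAction.stabilizer G a := fun h => hab ((MulAction.mem_stabilizer_iff.1 h).symm.trans hg)
  have hnorm : (MulAction.stabilizer G a).Normal := Subgroup.normalizer_eq_top_iff.1 (hco.2 _ (lt_of_le_of_ne
    Subgroup.le_normalizer (fun e => hga (e ▸ hn))))
  have hbot : MulAction.stabilizer G a = ⊥ := by
    rw [Subgroup.eq_bot_iff_forall]
    intro x hx
    refine eq_of_smul_eq_smul (α := Ω) fun ω => ?_
    obtain ⟨y, rfl⟩ := MulAction.exists_smul_eq G a ω
    rw [one_smul]
    have h := MulAction.mem_stabilizer_iff.1 (hnorm.conj_mem' x hx y)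
    rw [mul_smul, mul_smul, inv_smul_eq_iff] at h
    exact h
  rw [hbot] at hco
  obtain ⟨p, hp, hpd⟩ := Nat.exists_prime_and_dvd (n := Nat.card G) (fun h => by
    haveI : Subsingleton G := (Nat.card_eq_one_iff_unique.1 h).1
    exact hga (by rw [Subsingleton.elim g 1]; exact one_mem _))
  haveI : Fact p.Prime := ⟨hp⟩
  obtain ⟨z, hz⟩ := exists_prime_orderOf_dvd_card' (G := G) p hpd
  have htop : Subgroup.zpowers z = ⊤ := hco.2 _ (bot_lt_iff_ne_bot.2 (fun e => by
    rw [Subgroup.zpowers_eq_bot] at e; rw [e, orderOf_one] at hz; exact hp.ne_one hz.symm))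
  refine ⟨hbot, ⟨⟨z, fun x => show x ∈ Subgroup.zpowers z by rw [htop]; exact Subgroup.mem_top x⟩⟩, ?_⟩
  rw [← Subgroup.card_top (G := G), ← htop, Nat.card_zpowers, hz]
  exact hp

end Cfsg.Agent.S3683
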