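import Cfsg.Statements.S3684
import Mathlib
import Cfsg.Agent.Lib.Inv.Dihedral
-- import your own Cfsg.Agent.* helpers here

set_option autoImplicit false
open Cfsg

namespace Cfsg.Agent.S3684

/-- Let a finite group G act faithfully and primitively on a set Ω, and suppose the stabilizer of a point a has an orbit of length 2. Then the stabilizer of a has order 2 and G is isomorphic to the dihedral group of order 2p for some prime p. -/
theorem result {G Ω : Type*} [Group G] [Finite G] [MulAction G Ω] [FaithfulSMul G Ω] [Finite Ω]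
    (hprim : MulAction.IsPreprimitive G Ω) (a b : Ω) (h2 : Nat.card (MulAction.orbit (MulAction.stabilizer G a) b) = 2) :
    Nat.card (MulAction.stabilizer G a) = 2 ∧ ∃ p : ℕ, p.Prime ∧ Nonempty (G ≃* DihedralGroup p) := by
  classical
  have := hprim
  have hab : a ≠ b := by
    rintro rfl
    have : MulAction.orbit (MulAction.stabilizer G a) a = {a} := by
      ext x
      refine ⟨?_, ?_⟩
      · rintro ⟨g, rfl⟩; exact g.2
      · rintro rfl; exact MulAction.mem_orbit_self _
    rw [this] at h2
    simp at h2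
  have : Nontrivial Ω := ⟨⟨a, b, hab⟩⟩
  have hmax : IsCoatom (MulAction.stabilizer G a) := MulAction.IsPreprimitive.isCoatom_stabilizer_of_isPreprimitive G a
  set A := MulAction.stabilizer G a with hA
  set B := MulAction.stabilizer G b with hB
  have horb : (B.subgroupOf A).index = 2 := by
    have e : MulAction.stabilizer A b = B.subgroupOf A := by ext g; rfl
    rw [← e, MulAction.index_stabilizer, ← Nat.card_coe_set_eq]
    exact h2
  have hcard : Nat.card A = Nat.card B := by
    obtain ⟨g, hg⟩ := MulAction.exists_smul_eq G a b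
    rw [hA, hB, ← hg, MulAction.stabilizer_smul_eq_stabilizer_map_conj]
    exact (Subgroup.card_map_of_injective (MulAut.conj g).injective).symm
  set K := A ⊓ B with hK
  have hKA : (K.subgroupOf A).index = 2 := by
    rw [hK, Subgroup.inf_subgroupOf_left]; exact horb
  have hKB : (K.subgroupOf B).index = 2 := by
    have e1 := (K.subgroupOf A).card_mul_index
    have e2 := (K.subgroupOf B).card_mul_index
    rw [Nat.card_congr (Subgroup.subgroupOfEquivOfLe (inf_le_left : K ≤ A)).toEquiv, hKA, hcard] at e1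
    rw [Nat.card_congr (Subgroup.subgroupOfEquivOfLe (inf_le_right : K ≤ B)).toEquiv] at e2
    exact Nat.eq_of_mul_eq_mul_left Nat.card_pos (e2.trans e1.symm)
  have hBA : ¬ B ≤ A := by
    intro h
    have : B.subgroupOf A = ⊤ := Subgroup.subgroupOf_eq_top.mpr (Subgroup.eq_of_le_of_card_ge h hcard.le).ge
    rw [this, Subgroup.index_top] at horb
    omega
  have hnorm : K.Normal := by
    have n1 : A ≤ Subgroup.normalizer (K : Set G) := by
      have := Subgroup.normal_of_index_eq_two hKA
      exact Subgroup.normal_subgroupOf_iff_le_normalizer inf_le_left |>.mp this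
    have n2 : B ≤ Subgroup.normalizer (K : Set G) := by
      have := Subgroup.normal_of_index_eq_two hKB
      exact Subgroup.normal_subgroupOf_iff_le_normalizer inf_le_right |>.mp this
    have htop : A ⊔ B = ⊤ := hmax.2 _ (lt_of_le_of_ne le_sup_left fun e => hBA (sup_eq_left.mp e.symm))
    exact Subgroup.normalizer_eq_top_iff.mp (top_le_iff.mp (htop ▸ sup_le n1 n2))
  have hK1 : K = ⊥ := by
    rw [eq_bot_iff]
    intro k hk
    refine Subgroup.mem_bot.mpr (FaithfulSMul.eq_of_smul_eq_smul (α := Ω) fun x => ?_)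
    rw [one_smul]
    obtain ⟨g, rfl⟩ := MulAction.exists_smul_eq G a x
    have h' : g⁻¹ * k * g ∈ A := (inf_le_left : K ≤ A) (by have := hnorm.conj_mem k hk g⁻¹; rwa [inv_inv] at this)
    have h'' : (g⁻¹ * k * g) • a = a := h'
    rwa [mul_smul, mul_smul, inv_smul_eq_iff] at h''
  have hA2 : Nat.card A = 2 := by
    rw [← (K.subgroupOf A).card_mul_index, hKA, hK1]
    simp
  refine ⟨hA2, ?_⟩
  obtain ⟨t, ht⟩ := exists_prime_orderOf_dvd_card' (G := A) 2 (by rw [hA2])
  obtain ⟨s, hs⟩ := exists_prime_orderOf_dvd_card' (G := B) 2 (by rw [← hcard, hA2])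
  have ht' : orderOf (t : G) = 2 := (Subgroup.orderOf_coe t).trans ht
  have hs' : orderOf (s : G) = 2 := (Subgroup.orderOf_coe s).trans hs
  have hzA : Subgroup.zpowers (t : G) = A := Subgroup.eq_of_le_of_card_ge (Subgroup.zpowers_le.mpr t.2)
    (by rw [Nat.card_zpowers, ht', hA2])
  have hzB : Subgroup.zpowers (s : G) = B := Subgroup.eq_of_le_of_card_ge (Subgroup.zpowers_le.mpr s.2)
    (by rw [Nat.card_zpowers, hs', ← hcard, hA2])
  have hts : (t : G) ≠ s := fun e => hBA (by rw [← hzB, ← e, hzA])
  have hgen : Subgroup.closure ({(t : G), (s : G)} : Set G) = ⊤ := by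
    refine hmax.2 _ (lt_of_le_of_ne ?_ fun e => hBA ?_)
    · exact hzA.ge.trans (Subgroup.zpowers_le.mpr (Subgroup.subset_closure (by simp)))
    · exact hzB.ge.trans (Subgroup.zpowers_le.mpr (e ▸ Subgroup.subset_closure (by simp) : (s : G) ∈ A))
  set c := (t : G) * (s : G) with hc
  have hc1 : c ≠ 1 := Cfsg.Agent.Inv.orderOf_mul_ne_zero_of_ne hs' hts
  have hn1 : orderOf c ≠ 1 := fun e => hc1 (orderOf_eq_one_iff.mp e)
  set d := (orderOf c).minFac with hd
  have hdp : d.Prime := Nat.minFac_prime hn1
  have hprime : orderOf c = d := by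
    have htm : (t : G) ∉ Subgroup.zpowers c := Cfsg.Agent.Inv.not_mem_zpowers ht' hs'
    clear_value c
    set y := (t : G) * c ^ d with hy
    have hy2 : orderOf y = 2 := by
      rw [hy, ← zpow_natCast, hc, Cfsg.Agent.Inv.x_mul_zpow ht' hs']
      exact Cfsg.Agent.Inv.orderOf_zpow_mul ht' hs' _
    have hle : A ≤ Subgroup.closure ({(t : G), y} : Set G) := by
      exact hzA.ge.trans (Subgroup.zpowers_le.mpr (Subgroup.subset_closure (by simp)))
    have hxy : (t : G) * y = c ^ d := by
      rw [hy, ← mul_assoc, Cfsg.Agent.Inv.mul_self_of_orderOf_two ht', one_mul]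
    rcases hle.eq_or_lt with h | h
    · have hmem : c ^ d ∈ A := by
        rw [h, ← hxy]; exact mul_mem (Subgroup.subset_closure (by simp)) (Subgroup.subset_closure (by simp))
      rw [← hzA, mem_zpowers_iff_mem_range_orderOf, ht'] at hmem
      simp only [Finset.mem_image, Finset.mem_range] at hmem
      obtain ⟨i, hi, hi'⟩ := hmem
      interval_cases i
      · rw [pow_zero] at hi'
        exact Nat.dvd_antisymm (orderOf_dvd_of_pow_eq_one hi'.symm) (Nat.minFac_dvd _)
      · rw [pow_one] at hi'
        exact absurd (hi' ▸ pow_mem (Subgroup.mem_zpowers c) d) htm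
    · have hmem : c ∈ Subgroup.closure ({(t : G), y} : Set G) := by rw [hmax.2 _ h]; trivial
      obtain ⟨k, hk⟩ := (Cfsg.Agent.Inv.mem_closure_pair ht' hy2).mp hmem
      rw [hxy, ← zpow_natCast, ← zpow_mul] at hk
      rcases hk with hk | hk
      · exfalso
        have h1 : c ^ ((d : ℤ) * k - 1) = 1 := by
          rw [zpow_sub, ← hk, zpow_one, mul_inv_cancel]
        have h2 : (d : ℤ) ∣ (d : ℤ) * k - 1 :=
          (Int.natCast_dvd_natCast.mpr (Nat.minFac_dvd _)).trans (orderOf_dvd_iff_zpow_eq_one.mpr h1)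
        have h3 : (d : ℤ) ∣ 1 := by simpa using (dvd_mul_right (d : ℤ) k).sub h2
        exact hdp.one_lt.ne' (Nat.dvd_one.mp (Int.natCast_dvd_natCast.mp h3))
      · exfalso
        refine htm ?_
        have e : (t : G) = (c ^ ((d : ℤ) * k))⁻¹ * c := eq_inv_mul_of_mul_eq hk.symm
        rw [e]
        exact mul_mem (inv_mem (zpow_mem (Subgroup.mem_zpowers c) _)) (Subgroup.mem_zpowers c)
  obtain ⟨e⟩ := Cfsg.Agent.Inv.dihedral_equiv ht' hs'
  rw [← hc, hprime] at e
  exact ⟨d, hdp, ⟨(Subgroup.topEquiv.symm.trans (MulEquiv.subgroupCongr hgen.symm)).trans e⟩⟩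

end Cfsg.Agent.S3684
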