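import Cfsg.Statements.S3703
import Cfsg.Agent.Lib.Struct.Frobenius
import Cfsg.Agent.Lib.Solv.Coprime
import Cfsg.Agent.Lib.Solv.StructMisc
import Mathlib

set_option autoImplicit false
open Cfsg

namespace Cfsg.Agent.S3703

open Subgroup
open scoped commutatorElement

/-- Fixed-point-free operator with vanishing traces forces a trivial action. -/
theorem key {L W : Type*} [Group L] [AddCommGroup W] (ρ : L →* AddMonoid.End W) (Q : Subgroup L) [Finite Q]
    (g : L) (m : ℕ) (hm : 0 < m) (hnorm : ∀ f ∈ Q, g * f * g⁻¹ ∈ Q)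
    (hfpf : ∀ i, 0 < i → i < m → ∀ f ∈ Q, g ^ i * f = f * g ^ i → f = 1)
    (htr : ∀ f ∈ Q, ∀ v : W, ∑ i ∈ Finset.range m, ρ ((f * g * f⁻¹) ^ i) v = 0)
    (hcop : ∀ v : W, Nat.card Q • v = 0 → v = 0) : ∀ f ∈ Q, ∀ v : W, ρ f v = v := by
  classical
  haveI := Fintype.ofFinite Q
  let S : W → W := fun v => ∑ f : Q, ρ (f : L) v
  have hS : ∀ a ∈ Q, ∀ v, ρ a (S v) = S v := by
    intro a ha v
    show ρ a (∑ f : Q, ρ (f : L) v) = ∑ f : Q, ρ (f : L) v
    rw [map_sum]
    refine Fintype.sum_equiv (Equiv.mulLeft (⟨a, ha⟩ : Q)) _ _ fun f => ?_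
    show ρ a (ρ (f : L) v) = ρ (a * (f : L)) v
    rw [map_mul]; rfl
  have hpow : ∀ i : ℕ, ∀ f ∈ Q, g ^ i * f * (g ^ i)⁻¹ ∈ Q := by
    intro i
    induction i with
    | zero => intro f hf; simpa using hf
    | succ i ih =>
      intro f hf
      have := hnorm _ (ih f hf)
      rwa [show g ^ (i + 1) * f * (g ^ (i + 1))⁻¹ = g * (g ^ i * f * (g ^ i)⁻¹) * g⁻¹ by rw [pow_succ']; group]
  have hi : ∀ i, 0 < i → i < m → ∀ v, ∑ f : Q, ρ (((f : L) * g * (f : L)⁻¹) ^ i) v = S (ρ (g ^ i) v) := by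
    intro i h0 him v
    let ψ : Q → Q := fun f => ⟨(f : L) * (g ^ i * (f : L)⁻¹ * (g ^ i)⁻¹), mul_mem f.2 (hpow i _ (inv_mem f.2))⟩
    have hψ : Function.Injective ψ := by
      intro a b hab
      have h' : (a : L) * (g ^ i * (a : L)⁻¹ * (g ^ i)⁻¹) = (b : L) * (g ^ i * (b : L)⁻¹ * (g ^ i)⁻¹) := congrArg Subtype.val hab
      have h1 : g ^ i * ((b : L)⁻¹ * a) = (b : L)⁻¹ * a * g ^ i :=
        calc g ^ i * ((b : L)⁻¹ * a) = (b : L)⁻¹ * ((b : L) * (g ^ i * (b : L)⁻¹ * (g ^ i)⁻¹)) * g ^ i * a := by group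
          _ = (b : L)⁻¹ * ((a : L) * (g ^ i * (a : L)⁻¹ * (g ^ i)⁻¹)) * g ^ i * a := by rw [h']
          _ = _ := by group
      exact (Subtype.ext (inv_mul_eq_one.1 (hfpf i h0 him _ (mul_mem (inv_mem b.2) a.2) h1))).symm
    refine Fintype.sum_bijective ψ (Finite.injective_iff_bijective.1 hψ) _ _ fun f => ?_
    show ρ (((f : L) * g * (f : L)⁻¹) ^ i) v = ρ (ψ f : L) (ρ (g ^ i) v)
    rw [show ((f : L) * g * (f : L)⁻¹) ^ i = (ψ f : L) * g ^ i by rw [conj_pow]; show _ = (f : L) * _ * g ^ i; group, map_mul]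
    rfl
  intro a ha v
  have h0 : ∀ w, Nat.card Q • w = S w := by
    intro w
    have e : ∑ i ∈ Finset.range m, ∑ f : Q, ρ (((f : L) * g * (f : L)⁻¹) ^ i) w = 0 := by
      rw [Finset.sum_comm]
      exact Finset.sum_eq_zero fun f _ => htr f f.2 w
    obtain ⟨j, rfl⟩ : ∃ j, m = j + 1 := ⟨m - 1, by omega⟩
    rw [Finset.sum_range_succ'] at e
    have e2 := htr 1 (one_mem Q) w
    rw [one_mul, inv_one, mul_one, Finset.sum_range_succ', pow_zero, map_one] at e2
    have e3 : ∑ f : Q, ρ (((f : L) * g * (f : L)⁻¹) ^ 0) w = Nat.card Q • w := by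
      rw [Nat.card_eq_fintype_card, ← Finset.card_univ, ← Finset.sum_const]
      exact Finset.sum_congr rfl fun f _ => by rw [pow_zero, map_one]; rfl
    rw [e3, Finset.sum_congr rfl (fun i hi' => hi (i + 1) (Nat.succ_pos i) (by simpa using Finset.mem_range.1 hi') w)] at e
    have e4 : ∑ x ∈ Finset.range j, S (ρ (g ^ (x + 1)) w) = S (∑ x ∈ Finset.range j, ρ (g ^ (x + 1)) w) := by
      show _ = ∑ f : Q, ρ (f : L) _
      simp only [map_sum]
      exact Finset.sum_comm
    rw [e4, show (∑ x ∈ Finset.range j, ρ (g ^ (x + 1)) w) = -w from eq_neg_of_add_eq_zero_left e2] at e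
    have e5 : S (-w) = -S w := by
      show ∑ f : Q, ρ (f : L) (-w) = -∑ f : Q, ρ (f : L) w
      simp
    rw [e5] at e
    exact (neg_add_eq_zero.1 e).symm
  refine sub_eq_zero.1 (hcop _ ?_)
  rw [smul_sub, ← map_nsmul, h0, hS a ha, sub_self]

/-- The relevant Sylow subgroups centralise each other. -/
theorem centralize {L : Type*} [Group L] [Finite L] (R : Subgroup L) [R.Normal] {p : ℕ} [Fact p.Prime]
    (hR : IsPGroup p R) (Q : Subgroup L) (g : L) (m : ℕ) (hm : 0 < m) (hnorm : ∀ f ∈ Q, g * f * g⁻¹ ∈ Q)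
    (hfpf : ∀ i, 0 < i → i < m → ∀ f ∈ Q, g ^ i * f = f * g ^ i → f = 1)
    (hord : ∀ f ∈ Q, ∀ r ∈ R, (f * g * f⁻¹ * r) ^ m = 1)
    (hcop : (Nat.card Q).Coprime p) : Q ≤ centralizer (R : Set L) := by
  classical
  haveI := hR.isNilpotent
  set Φ := frattini R
  letI : CommGroup (R ⧸ Φ) := { (inferInstance : Group (R ⧸ Φ)) with
    mul_comm := fun a b => by
      obtain ⟨x, rfl⟩ := QuotientGroup.mk_surjective a
      obtain ⟨y, rfl⟩ := QuotientGroup.mk_surjective b
      rw [← QuotientGroup.mk_mul, ← QuotientGroup.mk_mul, QuotientGroup.eq]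
      refine Cfsg.Agent.Solv.commutator_le_frattini ?_
      rw [show (x * y)⁻¹ * (y * x) = ⁅y⁻¹, x⁻¹⁆ by rw [commutatorElement_def]; group]
      exact Subgroup.commutator_mem_commutator (mem_top _) (mem_top _) }
  let c : L →* MulAut R := MulAut.conjNormal
  have hmap : ∀ l : L, Φ ≤ Φ.comap (c l).toMonoidHom := fun l =>
    (Subgroup.characteristic_iff_comap_eq.1 frattini_characteristic (c l)).ge
  let ρ : L →* AddMonoid.End (Additive (R ⧸ Φ)) :=
    { toFun := fun l => MonoidHom.toAdditive (QuotientGroup.map Φ Φ (c l).toMonoidHom (hmap l))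
      map_one' := by
        ext v
        obtain ⟨x, hx⟩ := QuotientGroup.mk_surjective v.toMul
        obtain rfl : v = Additive.ofMul (x : R ⧸ Φ) := by rw [hx]; rfl
        show Additive.ofMul ((c 1 x : R) : R ⧸ Φ) = _
        rw [map_one]; rfl
      map_mul' := fun a b => by
        ext v
        obtain ⟨x, hx⟩ := QuotientGroup.mk_surjective v.toMul
        obtain rfl : v = Additive.ofMul (x : R ⧸ Φ) := by rw [hx]; rfl
        show Additive.ofMul ((c (a * b) x : R) : R ⧸ Φ) = Additive.ofMul ((c a (c b x) : R) : R ⧸ Φ)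
        rw [map_mul]; rfl }
  have hρ : ∀ (l : L) (x : R), ρ l (Additive.ofMul (x : R ⧸ Φ)) = Additive.ofMul ((c l x : R) : R ⧸ Φ) := fun l x => rfl
  have hexp : ∀ (g₁ : L) (r : R) (k : ℕ), ∃ x : R, (g₁ * (r : L)) ^ k = g₁ ^ k * (x : L) ∧
      Additive.ofMul (x : R ⧸ Φ) = ∑ i ∈ Finset.range k, ρ (g₁⁻¹ ^ i) (Additive.ofMul (r : R ⧸ Φ)) := by
    intro g₁ r k
    induction k with
    | zero => exact ⟨1, by simp, by simp⟩
    | succ k ih =>
      obtain ⟨x, hx, hx'⟩ := ih
      refine ⟨c g₁⁻¹ x * r, ?_, ?_⟩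
      · rw [pow_succ, hx, Subgroup.coe_mul, MulAut.conjNormal_apply, pow_succ]
        group
      · rw [QuotientGroup.mk_mul, ofMul_mul, ← hρ, hx', map_sum, Finset.sum_range_succ', pow_zero, map_one]
        refine congrArg₂ (· + ·) (Finset.sum_congr rfl fun i _ => ?_) rfl
        rw [pow_succ', map_mul]; rfl
  obtain ⟨a, ha⟩ := IsPGroup.iff_card.1 hR
  have hk := key ρ Q g⁻¹ m hm
    (fun f hf => by
      have h1 : ∀ i : ℕ, g ^ i * f * (g ^ i)⁻¹ ∈ Q := fun i => by
        induction i with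
        | zero => simpa using hf
        | succ i ih =>
          rw [show g ^ (i + 1) * f * (g ^ (i + 1))⁻¹ = g * (g ^ i * f * (g ^ i)⁻¹) * g⁻¹ by rw [pow_succ']; group]
          exact hnorm _ ih
      have h2 := h1 (orderOf g - 1)
      have e : g ^ (orderOf g - 1) = g⁻¹ := eq_inv_of_mul_eq_one_left (by
        rw [← pow_succ, Nat.sub_add_cancel (orderOf_pos g), pow_orderOf_eq_one])
      rwa [e] at h2)
    (fun i h0 him f hf h => hfpf i h0 him f hf (by
      rw [inv_pow] at h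
      calc g ^ i * f = g ^ i * (f * (g ^ i)⁻¹) * g ^ i := by group
        _ = g ^ i * ((g ^ i)⁻¹ * f) * g ^ i := by rw [h]
        _ = _ := by group))
    (fun f hf v => by
      obtain ⟨x, hx⟩ := QuotientGroup.mk_surjective v.toMul
      obtain rfl : v = Additive.ofMul (x : R ⧸ Φ) := by rw [hx]; rfl
      obtain ⟨y, hy, hy'⟩ := hexp (f * g * f⁻¹) x m
      have h1 := hord f hf (x : L) x.2
      have h2 : (f * g * f⁻¹) ^ m = 1 := by simpa using hord f hf 1 (one_mem R)
      rw [hy, h2, one_mul] at h1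
      rw [show f * g⁻¹ * f⁻¹ = (f * g * f⁻¹)⁻¹ by group, ← hy', show y = 1 from Subtype.ext h1]
      simp)
    (fun v hv => by
      rw [← AddMonoid.addOrderOf_eq_one_iff]
      have hp : addOrderOf v ∣ p ^ a := by
        refine ha ▸ (Dvd.dvd.trans ?_ (Subgroup.card_quotient_dvd_card Φ))
        exact addOrderOf_dvd_natCard v
      exact Nat.eq_one_of_dvd_coprimes (hcop.pow_right a) (addOrderOf_dvd_of_nsmul_eq_zero hv) hp)
  refine Cfsg.Agent.Solv.centralizes_of_trivial_on_frattini_quotient Q R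
    (by rw [Subgroup.normalizer_eq_top R]; exact le_top) ?_ ?_
  · obtain ⟨b, hb⟩ := IsPGroup.iff_card.1 (hR.to_subgroup Φ)
    rw [hb]
    exact hcop.pow_right b
  · intro f hf k hk'
    have h1 := hk f hf (Additive.ofMul ((⟨k, hk'⟩ : R) : R ⧸ Φ))
    rw [hρ] at h1
    have h2 : (c f ⟨k, hk'⟩)⁻¹ * ⟨k, hk'⟩ ∈ Φ := QuotientGroup.eq.1 (Additive.ofMul.injective h1)
    have h3 := inv_mem ((inferInstance : (frattini R).Normal).conj_mem _ h2 (c f ⟨k, hk'⟩))
    refine ⟨_, h3, ?_⟩
    simp [c, MulAut.conjNormal_apply, mul_assoc]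

/-- Let N be a normal subgroup of the finite group G such that G/N is a Frobenius group with kernel F and cyclic complement H, where the order of F is coprime to that of N and F is not contained in the image of C_G(N) in G/N. Then G has an element of order p·#H for some prime p dividing the order of N. (A standard tool in recognising groups by their element orders.) -/
theorem result {G : Type*} [Group G] [Finite G] (N : Subgroup G) [N.Normal]
    (Fb Hb : Subgroup (G ⧸ N)) [Fb.Normal] (hHb : Cfsg.IsFrobeniusComplement Hb) (hker : Cfsg.frobeniusKernel Hb = (Fb : Set (G ⧸ N)))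
    (hcyc : IsCyclic Hb) (hcop : (Nat.card Fb).Coprime (Nat.card N))
    (hnot : ¬ Fb ≤ (Subgroup.centralizer (N : Set G)).map (QuotientGroup.mk' N)) :
    ∃ p : ℕ, p.Prime ∧ p ∣ Nat.card N ∧ ∃ g : G, orderOf g = p * Nat.card Hb := by
  classical
  obtain ⟨N₀, hN₀, hN₀n, hcompl⟩ := Cfsg.Agent.Struct.Frobenius.exists_kernel hHb
  obtain rfl : N₀ = Fb := SetLike.coe_injective (hN₀.trans hker)
  obtain ⟨h, hgen⟩ := IsCyclic.exists_generator (α := Hb)
  set m := Nat.card Hb with hm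
  have hhm : orderOf (h : G ⧸ N) = m := by
    rw [Subgroup.orderOf_coe]
    exact orderOf_eq_card_of_forall_mem_zpowers hgen
  have hconjh : ∀ b ∈ N₀, ∃ c ∈ N₀, c * (h : G ⧸ N) * c⁻¹ = b * h := by
    intro b hb
    have h1 : (h : G ⧸ N) ≠ 1 := by
      intro e
      have : m = 1 := by rw [← hhm, e, orderOf_one]
      exact hHb.1 (Subgroup.card_eq_one.1 this)
    let ψ : N₀ → N₀ := fun c => ⟨(c : G ⧸ N) * ((h : G ⧸ N) * (c : G ⧸ N)⁻¹ * (h : G ⧸ N)⁻¹),
      mul_mem c.2 (hN₀n.conj_mem _ (inv_mem c.2) _)⟩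
    have hinj : Function.Injective ψ := by
      intro a b' hab
      have h' : (a : G ⧸ N) * ((h : G ⧸ N) * (a : G ⧸ N)⁻¹ * (h : G ⧸ N)⁻¹) = (b' : G ⧸ N) * ((h : G ⧸ N) * (b' : G ⧸ N)⁻¹ * (h : G ⧸ N)⁻¹) :=
        congrArg Subtype.val hab
      refine (Subtype.ext (inv_mul_eq_one.1 (Cfsg.Agent.Struct.Frobenius.fpf_of_complement hHb hcompl.disjoint h.2 h1
        (mul_mem (inv_mem b'.2) a.2) ?_))).symm
      symm
      calc (h : G ⧸ N) * ((b' : G ⧸ N)⁻¹ * a) = (b' : G ⧸ N)⁻¹ * ((b' : G ⧸ N) * ((h : G ⧸ N) * (b' : G ⧸ N)⁻¹ * (h : G ⧸ N)⁻¹)) * h * a := by group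
        _ = (b' : G ⧸ N)⁻¹ * ((a : G ⧸ N) * ((h : G ⧸ N) * (a : G ⧸ N)⁻¹ * (h : G ⧸ N)⁻¹)) * h * a := by rw [h']
        _ = _ := by group
    obtain ⟨c, hc⟩ := (Finite.injective_iff_surjective.1 hinj) ⟨b, hb⟩
    refine ⟨c, c.2, ?_⟩
    have e : (c : G ⧸ N) * ((h : G ⧸ N) * (c : G ⧸ N)⁻¹ * (h : G ⧸ N)⁻¹) = b := congrArg Subtype.val hc
    rw [← e]; group
  set π := QuotientGroup.mk' N with hπ
  have hm0 : 0 < m := Nat.card_pos
  by_cases hlift : ∀ g : G, π g * (h : G ⧸ N)⁻¹ ∈ N₀ → g ^ m = 1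
  swap
  · push Not at hlift
    obtain ⟨g, hg, hgm⟩ := hlift
    obtain ⟨c, -, hce⟩ := hconjh _ hg
    have hog : orderOf (π g) = m := by
      rw [← hhm, show π g = c * (h : G ⧸ N) * c⁻¹ by rw [hce]; group]
      exact (MulAut.conj c).orderOf_eq (h : G ⧸ N)
    obtain ⟨k, hk⟩ : m ∣ orderOf g := hog ▸ orderOf_map_dvd π g
    have hgN : g ^ m ∈ N := by
      rw [← QuotientGroup.eq_one_iff, show ((g ^ m : G) : G ⧸ N) = π g ^ m from map_pow π g m, ← hog, pow_orderOf_eq_one]
    have hk1 : k ≠ 1 := fun e => hgm (by rw [← orderOf_dvd_iff_pow_eq_one, hk, e, mul_one])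
    obtain ⟨q, hq, k', rfl⟩ := Nat.exists_prime_and_dvd hk1
    refine ⟨q, hq, ?_, g ^ k', ?_⟩
    · refine Dvd.dvd.trans ?_ (Subgroup.orderOf_dvd_natCard N hgN)
      rw [orderOf_pow_of_dvd hm0.ne' (hk ▸ dvd_mul_right m (q * k')), hk, Nat.mul_div_cancel_left _ hm0]
      exact dvd_mul_right q k'
    · have hk0 : k' ≠ 0 := by
        rintro rfl
        rw [mul_zero, mul_zero] at hk
        exact (orderOf_pos g).ne' hk
      rw [orderOf_pow_of_dvd hk0 (hk ▸ Dvd.intro_left (m * q) (by ring)), hk,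
        show m * (q * k') = (q * m) * k' by ring, Nat.mul_div_cancel _ (Nat.pos_of_ne_zero hk0)]
  exfalso
  set S := N₀.comap π with hSdef
  haveI hSn : S.Normal := hN₀n.comap π
  have hNS : N ≤ S := fun n hn => by
    rw [hSdef, mem_comap, show π n = 1 from (QuotientGroup.eq_one_iff n).2 hn]; exact one_mem _
  have hcardS : Nat.card S = Nat.card N * Nat.card N₀ := by
    have h1 := Subgroup.relIndex_comap (f := π) N₀ (comap π ⊥)
    have h2 : (N.subgroupOf S).index = Nat.card N₀ := by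
      have := Subgroup.relIndex_map_map (f := π) N S
      rw [QuotientGroup.map_mk'_self, hSdef, map_comap_eq_self_of_surjective (QuotientGroup.mk'_surjective N),
        Subgroup.relIndex_bot_left, QuotientGroup.ker_mk', sup_idem, sup_eq_left.2 hNS] at this
      exact this.symm
    rw [← h2, ← Nat.card_congr (Subgroup.subgroupOfEquivOfLe hNS).toEquiv]
    exact (Subgroup.card_mul_index _).symm
  -- a Sylow subgroup of the preimage of the kernel centralises a Sylow subgroup of `N`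
  have hmain : ∀ (q : ℕ) [Fact q.Prime], q ∣ Nat.card N₀ → ∀ (p : ℕ) [Fact p.Prime], p ∣ Nat.card N →
      ∀ Q : Sylow q S, ∃ R : Sylow p N,
        (Q : Subgroup S).map S.subtype ≤ centralizer (((R : Subgroup N).map N.subtype : Subgroup G) : Set G) := by
    intro q _ hq p _ hp Q
    have hqN : ¬ q ∣ Nat.card N := fun hd => (Fact.out : q.Prime).not_dvd_one (hcop ▸ Nat.dvd_gcd hq hd)
    obtain ⟨R⟩ : Nonempty (Sylow p N) := inferInstance
    set L := normalizer (((R : Subgroup N).map N.subtype : Subgroup G) : Set G) with hL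
    have hNL : N ⊔ L = ⊤ := by rw [sup_comm]; exact Sylow.normalizer_sup_eq_top R
    set T := S.subgroupOf L with hT
    haveI : T.Normal := by rw [hT]; exact hSn.subgroupOf L
    obtain ⟨Q0⟩ : Nonempty (Sylow q T) := inferInstance
    set Q1 := (Q0 : Subgroup T).map T.subtype with hQ1
    have hM := Sylow.normalizer_sup_eq_top Q0
    -- an element normalising `Q1` in the coset of the generator
    obtain ⟨g, hgQ, hg⟩ : ∃ g ∈ normalizer (Q1 : Set L), π (g : G) * (h : G ⧸ N)⁻¹ ∈ N₀ := by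
      obtain ⟨x, hx⟩ := QuotientGroup.mk'_surjective N (h : G ⧸ N)
      have hxm : x ∈ N ⊔ L := hNL ▸ mem_top x
      rw [mem_sup_of_normal_left] at hxm
      obtain ⟨n, hn, l, hl, rfl⟩ := hxm
      have hlm : (⟨l, hl⟩ : L) ∈ normalizer (Q1 : Set L) ⊔ T := hM ▸ mem_top _
      rw [mem_sup_of_normal_right] at hlm
      obtain ⟨g, hg, t, ht, hgt⟩ := hlm
      refine ⟨g, hg, ?_⟩
      have e1 : π l = h := by
        rw [← hx, map_mul, show π n = 1 from (QuotientGroup.eq_one_iff n).2 hn, one_mul]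
      have e2 : π (g : G) * π (t : G) = h := by rw [← map_mul, ← Subgroup.coe_mul, hgt, e1]
      rw [← e2, mul_inv_rev, ← mul_assoc]
      simpa using hN₀n.conj_mem _ (inv_mem (show π (t : G) ∈ N₀ from ht)) (π (g : G))
    have hQ1S : ∀ f ∈ Q1, π (f : G) ∈ N₀ := by
      rintro f ⟨u, -, rfl⟩
      exact u.2
    have hQ1c : ∃ k, Nat.card Q1 = q ^ k := IsPGroup.iff_card.1 (Q0.isPGroup'.map _)
    obtain ⟨k1, hk1⟩ := hQ1c
    have hfpf : ∀ i, 0 < i → i < m → ∀ f ∈ Q1, g ^ i * f = f * g ^ i → f = 1 := by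
      intro i h0 him f hf hc
      obtain ⟨c, hc0, hce⟩ := hconjh _ hg
      have hgc : π (g : G) = c * (h : G ⧸ N) * c⁻¹ := by rw [hce]; group
      have h1 : π (g : G) ^ i * π (f : G) = π (f : G) * π (g : G) ^ i := by
        have := congrArg (fun z : L => π (z : G)) hc
        simpa using this
      rw [hgc, conj_pow] at h1
      have h2 : c⁻¹ * π (f : G) * c = 1 := by
        refine Cfsg.Agent.Struct.Frobenius.fpf_of_complement hHb hcompl.disjoint (pow_mem h.2 i) ?_
          (mul_mem (mul_mem (inv_mem hc0) (hQ1S f hf)) hc0) ?_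
        · intro e
          exact Nat.not_le.2 him (Nat.le_of_dvd h0 (hhm ▸ orderOf_dvd_of_pow_eq_one e))
        · calc c⁻¹ * π (f : G) * c * (h : G ⧸ N) ^ i = c⁻¹ * (π (f : G) * (c * (h : G ⧸ N) ^ i * c⁻¹)) * c := by group
            _ = c⁻¹ * (c * (h : G ⧸ N) ^ i * c⁻¹ * π (f : G)) * c := by rw [h1]
            _ = _ := by group
      have hf1 : (f : G) ∈ N := by
        refine (QuotientGroup.eq_one_iff _).1 (show π (f : G) = 1 from ?_)
        calc π (f : G) = c * (c⁻¹ * π (f : G) * c) * c⁻¹ := by group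
          _ = 1 := by rw [h2]; group
      have hd1 : orderOf (f : G) ∣ q ^ k1 := by rw [← hk1, Subgroup.orderOf_coe]; exact Subgroup.orderOf_dvd_natCard _ hf
      refine Subtype.ext (orderOf_eq_one_iff.1 ?_)
      exact Nat.eq_one_of_dvd_coprimes (((Fact.out : q.Prime).coprime_iff_not_dvd.2 hqN).pow_left k1) hd1
        (Subgroup.orderOf_dvd_natCard N hf1)
    set R1 := ((R : Subgroup N).map N.subtype).subgroupOf L with hR1
    haveI : R1.Normal := Subgroup.normal_in_normalizer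
    have hRp : IsPGroup p R1 := ((R.isPGroup'.map N.subtype).of_equiv (Subgroup.subgroupOfEquivOfLe le_normalizer).symm)
    have hpq : (Nat.card Q1).Coprime p := by
      rw [hk1]
      refine ((Nat.coprime_primes Fact.out Fact.out).2 ?_).pow_left k1
      rintro rfl
      exact hqN hp
    have hcen := centralize R1 hRp Q1 g m hm0 (fun f hf => (mem_normalizer_iff.1 hgQ f).1 hf) hfpf
      (fun f hf r hr => Subtype.ext (by
        rw [SubgroupClass.coe_pow, OneMemClass.coe_one]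
        refine hlift _ ?_
        obtain ⟨u, hu, hue⟩ := (Subgroup.mem_subgroupOf.1 hr : (r : G) ∈ (R : Subgroup N).map N.subtype)
        rw [Subgroup.coe_mul, Subgroup.coe_mul, Subgroup.coe_mul, map_mul, ← hue,
          show π (N.subtype u) = 1 from (QuotientGroup.eq_one_iff _).2 u.2, mul_one, map_mul, map_mul, InvMemClass.coe_inv, map_inv]
        rw [show π (f : G) * π (g : G) * (π (f : G))⁻¹ * (h : G ⧸ N)⁻¹ =
          π (f : G) * (π (g : G) * (π (f : G))⁻¹ * (π (g : G))⁻¹) * (π (g : G) * (h : G ⧸ N)⁻¹) by group]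
        exact mul_mem (mul_mem (hQ1S f hf) (hN₀n.conj_mem _ (inv_mem (hQ1S f hf)) _)) hg)) hpq
    -- `Q1` is a Sylow subgroup of `S`
    have hQS : Q1.map L.subtype ≤ S := by
      rintro _ ⟨_, ⟨u, -, rfl⟩, rfl⟩
      exact u.2
    have hTidx : ¬ q ∣ (L.subgroupOf S).index := by
      intro hd
      refine hqN (hd.trans ?_)
      have h1 : (L.subgroupOf S).index = L.relIndex N := by
        have hS : S = N ⊔ (S ⊓ L) := by
          refine le_antisymm (fun s hs => ?_) (sup_le hNS inf_le_left)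
          have hsm : s ∈ N ⊔ L := hNL ▸ mem_top s
          rw [mem_sup_of_normal_left] at hsm
          obtain ⟨n, hn, l, hl, rfl⟩ := hsm
          refine mul_mem (mem_sup_left hn) (mem_sup_right ⟨?_, hl⟩)
          simpa using mul_mem (inv_mem (hNS hn)) hs
        have a1 := Subgroup.relIndex_mul_relIndex (H := N ⊓ L) (K := N) (L := S) inf_le_left hNS
        have a2 := Subgroup.relIndex_mul_relIndex (H := N ⊓ L) (K := S ⊓ L) (L := S) (le_inf (inf_le_left.trans hNS) inf_le_right) inf_le_left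
        rw [Subgroup.inf_relIndex_left] at a1
        rw [Subgroup.inf_relIndex_left] at a2
        have a3 : (N ⊓ L).relIndex (S ⊓ L) = N.relIndex S := by
          rw [show N ⊓ L = N ⊓ (S ⊓ L) by rw [← inf_assoc, inf_eq_left.2 hNS], Subgroup.inf_relIndex_right]
          conv_rhs => rw [hS]
          rw [Subgroup.relIndex_sup_left]
        rw [a3, ← a1, mul_comm] at a2
        exact Nat.eq_of_mul_eq_mul_right (Nat.pos_of_ne_zero (show (N.subgroupOf S).index ≠ 0 from Subgroup.index_ne_zero_of_finite)) a2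
      rw [h1]
      exact Subgroup.relIndex_dvd_card _ _
    have hcardQ : Nat.card ((Q1.map L.subtype).subgroupOf S) = q ^ (Nat.card S).factorization q := by
      rw [Nat.card_congr (Subgroup.subgroupOfEquivOfLe hQS).toEquiv,
        ← Nat.card_congr (Q1.equivMapOfInjective _ L.subtype_injective).toEquiv, hQ1,
        ← Nat.card_congr ((Q0 : Subgroup T).equivMapOfInjective _ T.subtype_injective).toEquiv, Q0.card_eq_multiplicity,
        ← (L.subgroupOf S).card_mul_index, Nat.factorization_mul Nat.card_pos.ne' Subgroup.index_ne_zero_of_finite,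
        Finsupp.add_apply, Nat.factorization_eq_zero_of_not_dvd hTidx, add_zero]
      congr 2
      rw [hT, ← Subgroup.card_map_of_injective L.subtype_injective, ← Subgroup.card_map_of_injective S.subtype_injective,
        Subgroup.subgroupOf_map_subtype, Subgroup.subgroupOf_map_subtype, inf_comm]
    obtain ⟨s, hs⟩ := MulAction.exists_smul_eq S (Sylow.ofCard _ hcardQ) Q
    let φ := MulAut.conjNormal (H := N) (s : G)
    refine ⟨R.comapOfInjective φ⁻¹.toMonoidHom φ⁻¹.injective (fun x _ => ⟨φ x, φ.symm_apply_apply x⟩), ?_⟩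
    rintro _ ⟨x, hx, rfl⟩
    rw [← hs, Sylow.coe_subgroup_smul] at hx
    obtain ⟨y, hy, rfl⟩ := hx
    rw [mem_centralizer_iff]
    rintro _ ⟨r, hr, rfl⟩
    obtain ⟨f, hf, hfe⟩ := (show (y : G) ∈ Q1.map L.subtype from hy)
    have hr' : ((φ⁻¹ r : N) : G) ∈ (R : Subgroup N).map N.subtype := ⟨_, hr, rfl⟩
    have hc := congrArg Subtype.val (mem_centralizer_iff.1 (hcen hf) ⟨_, le_normalizer hr'⟩ hr')
    have e : ((φ⁻¹ r : N) : G) = (s : G)⁻¹ * r * s := MulAut.conjNormal_inv_apply (s : G) r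
    simp only [Subgroup.coe_mul, e] at hc
    change (s : G)⁻¹ * r * s * (f : G) = f * ((s : G)⁻¹ * r * s) at hc
    show (r : G) * ((s : G) * (y : G) * (s : G)⁻¹) = (s : G) * (y : G) * (s : G)⁻¹ * r
    rw [← hfe]
    show (r : G) * ((s : G) * (f : G) * (s : G)⁻¹) = (s : G) * (f : G) * (s : G)⁻¹ * r
    calc (r : G) * ((s : G) * (f : G) * (s : G)⁻¹) = (s : G) * ((s : G)⁻¹ * r * s * f) * (s : G)⁻¹ := by group
      _ = (s : G) * ((f : G) * ((s : G)⁻¹ * r * s)) * (s : G)⁻¹ := by rw [hc]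
      _ = _ := by group
  refine hnot ?_
  set D := (centralizer (N : Set G) ⊓ S).map π with hD
  have hDle : D ≤ N₀ := by
    rintro _ ⟨x, hx, rfl⟩
    exact hx.2
  suffices hdvd : Nat.card N₀ ∣ Nat.card D by
    rw [← Subgroup.eq_of_le_of_card_ge hDle (Nat.le_of_dvd Nat.card_pos hdvd)]
    exact Subgroup.map_mono inf_le_left
  rw [← Nat.factorization_le_iff_dvd Nat.card_pos.ne' Nat.card_pos.ne']
  intro q
  by_cases hqd : q.Prime ∧ q ∣ Nat.card N₀
  swap
  · rw [Nat.factorization_eq_zero_iff _ q |>.2 (by tauto)]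
    exact Nat.zero_le _
  obtain ⟨hq, hqd⟩ := hqd
  haveI := Fact.mk hq
  have hqN : ¬ q ∣ Nat.card N := fun hd => hq.not_dvd_one (hcop ▸ Nat.dvd_gcd hqd hd)
  obtain ⟨Q⟩ : Nonempty (Sylow q S) := inferInstance
  set QG := (Q : Subgroup S).map S.subtype with hQG
  have hQc : QG ≤ centralizer (N : Set G) := by
    rw [Subgroup.le_centralizer_iff]
    set C := centralizer (QG : Set G) with hC
    suffices hd : Nat.card N ∣ Nat.card (N ⊓ C : Subgroup G) from
      inf_eq_left.1 (Subgroup.eq_of_le_of_card_ge inf_le_left (Nat.le_of_dvd Nat.card_pos hd))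
    rw [← Nat.factorization_le_iff_dvd Nat.card_pos.ne' Nat.card_pos.ne']
    intro p
    by_cases hpd : p.Prime ∧ p ∣ Nat.card N
    swap
    · rw [Nat.factorization_eq_zero_iff _ p |>.2 (by tauto)]
      exact Nat.zero_le _
    obtain ⟨hp, hpd⟩ := hpd
    haveI := Fact.mk hp
    obtain ⟨R, hR⟩ := hmain q hqd p hpd Q
    have hle : (R : Subgroup N).map N.subtype ≤ N ⊓ C := le_inf (map_subtype_le _) (Subgroup.le_centralizer_iff.1 hR)
    have hd := Subgroup.card_dvd_of_le hle
    rw [Subgroup.card_map_of_injective N.subtype_injective, R.card_eq_multiplicity] at hd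
    exact (hp.pow_dvd_iff_le_factorization Nat.card_pos.ne').1 hd
  have hle : QG.map π ≤ D := Subgroup.map_mono (le_inf hQc (map_subtype_le _))
  have hd := Subgroup.card_dvd_of_le hle
  have hcQ : Nat.card (QG.map π) = q ^ (Nat.card N₀).factorization q := by
    obtain ⟨k, hk⟩ := IsPGroup.iff_card.1 (Q.isPGroup'.map S.subtype)
    have hinj : Function.Injective (π.comp QG.subtype) := by
      rw [injective_iff_map_eq_one]
      intro x hx
      have hxN : (x : G) ∈ N := (QuotientGroup.eq_one_iff _).1 hx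
      refine Subtype.ext (orderOf_eq_one_iff.1 (Nat.eq_one_of_dvd_coprimes ((hq.coprime_iff_not_dvd.2 hqN).pow_left k) ?_
        (Subgroup.orderOf_dvd_natCard N hxN)))
      rw [← hk]
      exact Subgroup.orderOf_dvd_natCard _ x.2
    rw [show QG.map π = (π.comp QG.subtype).range by rw [MonoidHom.range_comp, range_subtype],
      ← Nat.card_congr (MonoidHom.ofInjective hinj).toEquiv, hQG, Subgroup.card_map_of_injective S.subtype_injective,
      Q.card_eq_multiplicity, hcardS, Nat.factorization_mul Nat.card_pos.ne' Nat.card_pos.ne', Finsupp.add_apply,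
      Nat.factorization_eq_zero_of_not_dvd hqN, zero_add]
  rw [hcQ] at hd
  exact (hq.pow_dvd_iff_le_factorization Nat.card_pos.ne').1 hd

end Cfsg.Agent.S3703
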