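import Cfsg.Statements.S3704
import Mathlib

set_option autoImplicit false
open Cfsg

namespace Cfsg.Agent.S3704

/-- Let G be a finite group acting faithfully and 2-transitively on a finite set Ω of size n, and let H be a subgroup of index n in G which is not transitive on Ω and fixes no point of Ω. Then H has exactly two orbits on Ω. -/
theorem result {G Ω : Type*} [Group G] [Finite G] [MulAction G Ω] [FaithfulSMul G Ω] [Finite Ω] (h2 : MulAction.IsMultiplyPretransitive G Ω 2) (H : Subgroup G) (hidx : H.index = Nat.card Ω) (hnt : ¬ MulAction.IsPretransitive H Ω) (hfix : ∀ a : Ω, ∃ h : H, h • a ≠ a) : Nat.card (MulAction.orbitRel.Quotient H Ω) = 2 := by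
  classical
  haveI := Fintype.ofFinite Ω
  haveI := Fintype.ofFinite (G ⧸ H)
  haveI : MulAction.IsPretransitive G Ω := by
    haveI := h2; exact MulAction.isPretransitive_of_is_two_pretransitive
  obtain ⟨x⟩ : Nonempty Ω := by
    by_contra h
    rw [not_nonempty_iff] at h
    rw [Nat.card_of_isEmpty] at hidx
    exact Subgroup.index_ne_zero_of_finite hidx
  have hcardΔ : Fintype.card (G ⧸ H) = Fintype.card Ω := by
    rw [← Nat.card_eq_fintype_card, ← Nat.card_eq_fintype_card]; exact hidx
  let R : Ω → Ω → G ⧸ H → ℚ := fun p a d =>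
    if ∃ g : G, g • p = a ∧ g • ((1 : G) : G ⧸ H) = d then 1 else 0
  have hR0 : ∀ p a, R p a ((1 : G) : G ⧸ H) = if a ∈ MulAction.orbit H p then 1 else 0 := by
    intro p a
    refine if_congr ?_ rfl rfl
    constructor
    · rintro ⟨g, hg, hg'⟩
      rw [MulAction.Quotient.smul_coe, smul_eq_mul, mul_one, QuotientGroup.eq] at hg'
      exact ⟨⟨g, by simpa using H.inv_mem hg'⟩, hg⟩
    · rintro ⟨⟨g, hg⟩, e⟩
      refine ⟨g, e, ?_⟩
      rw [MulAction.Quotient.smul_coe, smul_eq_mul, mul_one, QuotientGroup.eq]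
      simpa using H.inv_mem hg
  have hinv : ∀ (g : G) p a d, R p (g • a) (g • d) = R p a d := by
    intro g p a d
    refine if_congr ⟨?_, ?_⟩ rfl rfl
    · rintro ⟨u, h1, h2⟩
      exact ⟨g⁻¹ * u, by rw [mul_smul, h1, inv_smul_smul], by rw [mul_smul, h2, inv_smul_smul]⟩
    · rintro ⟨u, h1, h2⟩
      exact ⟨g * u, by rw [mul_smul, h1], by rw [mul_smul, h2]⟩
  have hdisj : ∀ p q, q ∉ MulAction.orbit H p → ∀ a d, R p a d * R q a d = 0 := by
    intro p q hq a d
    induction d using QuotientGroup.induction_on with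
    | _ u =>
      have e : ((u : G) : G ⧸ H) = u • ((1 : G) : G ⧸ H) := by
        rw [MulAction.Quotient.smul_coe, smul_eq_mul, mul_one]
      rw [show a = u • (u⁻¹ • a) from (smul_inv_smul u a).symm, e, hinv, hinv, hR0, hR0]
      split_ifs with h1 h2
      · refine absurd ?_ hq
        rw [← MulAction.orbit_eq_iff, ← MulAction.orbit_eq_iff.mpr h1, MulAction.orbit_eq_iff.mpr h2]
      · simp
      · simp
      · simp
  have hrow : ∀ p, ∃ m : ℚ, 0 < m ∧ ∀ a, ∑ d, R p a d = m := by
    intro p
    refine ⟨∑ d, R p p d, ?_, fun a => ?_⟩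
    · refine Finset.sum_pos' (fun d _ => ?_) ⟨((1 : G) : G ⧸ H), Finset.mem_univ _, ?_⟩
      · simp only [R]; split_ifs <;> norm_num
      · rw [hR0, if_pos (MulAction.mem_orbit_self p)]; exact one_pos
    · obtain ⟨g, rfl⟩ := MulAction.exists_smul_eq G p a
      exact (Fintype.sum_equiv (MulAction.toPerm g) _ _ fun d => (hinv g p p d).symm).symm
  -- invariant forms are combinations of the identity and the all-one form
  have hform : ∀ p q : Ω, ∃ c : ℚ, ∀ a b : Ω, a ≠ b → ∑ d, R p a d * R q b d = c := by
    intro p q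
    by_cases h : ∃ a b : Ω, a ≠ b
    · obtain ⟨a₀, b₀, hab₀⟩ := h
      refine ⟨∑ d, R p a₀ d * R q b₀ d, fun a b hab => ?_⟩
      obtain ⟨g, rfl, rfl⟩ := (MulAction.is_two_pretransitive_iff.mp h2) hab₀ hab
      exact (Fintype.sum_equiv (MulAction.toPerm g) _ _ fun d => by
        show R p a₀ d * R q b₀ d = R p (g • a₀) (g • d) * R q (g • b₀) (g • d)
        rw [hinv, hinv]).symm
    · exact ⟨0, fun a b hab => absurd ⟨a, b, hab⟩ h⟩
  obtain ⟨m, hm, hrowx⟩ := hrow x
  obtain ⟨l, hl⟩ := hform x x
  have hsq : ∀ a d, R x a d * R x a d = R x a d := fun a d => by simp only [R]; split_ifs <;> norm_num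
  have hdiag : ∀ a, ∑ d, R x a d * R x a d = m := fun a => by
    rw [← hrowx a]; exact Finset.sum_congr rfl fun d _ => hsq a d
  obtain ⟨y, hy⟩ : ∃ y, y ∉ MulAction.orbit H x := by
    by_contra! h
    refine hnt ⟨fun a b => ?_⟩
    obtain ⟨u, rfl⟩ := h a
    obtain ⟨v, rfl⟩ := h b
    exact ⟨v * u⁻¹, by show (v * u⁻¹) • u • x = v • x; rw [← mul_smul, inv_mul_cancel_right]⟩
  have hlm : l < m := by
    by_contra hle
    push Not at hle
    apply hy
    have hne : x ≠ y := fun e => hy (e ▸ MulAction.mem_orbit_self x)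
    have hsum : ∑ d, (R x x d - R x x d * R x y d) ≤ 0 := by
      rw [Finset.sum_sub_distrib, hrowx, hl x y hne]; linarith
    have h0 : ∀ d, 0 ≤ R x x d - R x x d * R x y d := fun d => by
      simp only [R]; split_ifs <;> norm_num
    have := (Finset.sum_eq_zero_iff_of_nonneg (fun d _ => h0 d)).mp
      (le_antisymm hsum (Finset.sum_nonneg fun d _ => h0 d)) ((1 : G) : G ⧸ H) (Finset.mem_univ _)
    rw [hR0, hR0, if_pos (MulAction.mem_orbit_self x)] at this
    by_contra hh
    rw [if_neg hh] at this
    norm_num at this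
  have hA : ∀ v : Ω → ℚ, ∀ a, ∑ d, R x a d * (∑ b, R x b d * v b) = (m - l) * v a + l * ∑ b, v b := by
    intro v a
    simp only [Finset.mul_sum]
    rw [Finset.sum_comm]
    have e : ∀ b, ∑ d, R x a d * (R x b d * v b) = (if a = b then m else l) * v b := by
      intro b
      simp only [← mul_assoc, ← Finset.sum_mul]
      congr 1
      split_ifs with h
      · subst h; exact hdiag a
      · exact hl a b h
    simp only [e]
    rw [← Finset.add_sum_erase _ _ (Finset.mem_univ a), if_pos rfl,
      Finset.sum_congr rfl (fun b hb => by rw [if_neg (Finset.ne_of_mem_erase hb).symm]),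
      ← Finset.mul_sum, ← Finset.add_sum_erase _ (fun b => l * v b) (Finset.mem_univ a), ← Finset.mul_sum]
    ring
  have hcolsum : (m - l) + l * (Fintype.card Ω : ℚ) > 0 := by
    have h1 := hA (fun _ => 1) x
    simp only [mul_one, Finset.sum_const, Finset.card_univ, nsmul_eq_mul] at h1
    rw [← h1]
    refine Finset.sum_pos' (fun d _ => ?_) ⟨((1 : G) : G ⧸ H), Finset.mem_univ _, ?_⟩
    · refine mul_nonneg ?_ (Finset.sum_nonneg fun b _ => ?_) <;> simp only [R] <;> split_ifs <;> norm_num
    · rw [hR0, if_pos (MulAction.mem_orbit_self x), one_mul]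
      refine Finset.sum_pos' (fun b _ => ?_) ⟨x, Finset.mem_univ _, ?_⟩
      · simp only [R]; split_ifs <;> norm_num
      · rw [hR0, if_pos (MulAction.mem_orbit_self x)]; exact one_pos
  -- the incidence map is injective
  have hinj : ∀ w : (G ⧸ H) → ℚ, (∀ a, ∑ d, R x a d * w d = 0) → w = 0 := by
    let T : (Ω → ℚ) →ₗ[ℚ] ((G ⧸ H) → ℚ) :=
      { toFun := fun v d => ∑ b, R x b d * v b
        map_add' := fun v v' => by funext d; simp [mul_add, Finset.sum_add_distrib]
        map_smul' := fun c v => by funext d; simp [Finset.mul_sum, mul_left_comm] }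
    have hT : ∀ v, (∀ a, ∑ d, R x a d * T v d = 0) → v = 0 := by
      intro v hv
      have h : ∀ a, (m - l) * v a + l * ∑ b, v b = 0 := fun a => (hA v a).symm.trans (hv a)
      have hs := Finset.sum_eq_zero (s := Finset.univ) fun a _ => h a
      rw [Finset.sum_add_distrib, ← Finset.mul_sum, Finset.sum_const, Finset.card_univ, nsmul_eq_mul] at hs
      have hS : ∑ b, v b = 0 := by
        have : ((m - l) + l * (Fintype.card Ω : ℚ)) * ∑ b, v b = 0 := by linarith [hs]
        exact (mul_eq_zero.mp this).resolve_left hcolsum.ne'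
      funext a
      have := h a
      rw [hS, mul_zero, add_zero] at this
      exact (mul_eq_zero.mp this).resolve_left (by linarith)
    have hTinj : Function.Injective T := by
      rw [injective_iff_map_eq_zero]
      intro v hv
      exact hT v fun a => by rw [hv]; simp
    have hfr : Module.finrank ℚ (Ω → ℚ) = Module.finrank ℚ ((G ⧸ H) → ℚ) := by
      rw [Module.finrank_fintype_fun_eq_card, Module.finrank_fintype_fun_eq_card, hcardΔ]
    intro w hw
    obtain ⟨v, rfl⟩ := (LinearMap.injective_iff_surjective_of_finrank_eq_finrank hfr).mp hTinj w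
    rw [hT v hw, map_zero]
  -- the orbit of any other point is the complement
  have hcompl : ∀ p, p ∉ MulAction.orbit H x → ∀ z, z ∉ MulAction.orbit H x → z ∈ MulAction.orbit H p := by
    intro p hp z hz
    obtain ⟨m', hm', hrowp⟩ := hrow p
    obtain ⟨l', hl'⟩ := hform x p
    have hd' : ∀ a, ∑ d, R x a d * R p a d = 0 := fun a =>
      Finset.sum_eq_zero fun d _ => hdisj x p hp a d
    -- `(m - l) R_p + l' R_x` is constant
    have hkey : ∀ b d, (m - l) * R p b d + l' * R x b d - (l * l' + (m - l) * l') / m = 0 := by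
      intro b
      have h := hinj (fun d => (m - l) * R p b d + l' * R x b d - (l * l' + (m - l) * l') / m) ?_
      · exact fun d => congrFun h d
      intro a
      have e : ∀ d, R x a d * ((m - l) * R p b d + l' * R x b d - (l * l' + (m - l) * l') / m) =
          (m - l) * (R x a d * R p b d) + l' * (R x a d * R x b d) -
            ((l * l' + (m - l) * l') / m) * R x a d := fun d => by ring
      simp only [e, Finset.sum_sub_distrib, Finset.sum_add_distrib, ← Finset.mul_sum, hrowx]
      rw [div_mul_cancel₀ _ hm.ne']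
      by_cases hab : a = b
      · subst hab; rw [hd' a, hdiag a]; ring
      · rw [hl' a b hab, hl a b hab]; ring
    have h1 := hkey p ((1 : G) : G ⧸ H)
    have h2 := hkey z ((1 : G) : G ⧸ H)
    rw [hR0, hR0, if_pos (MulAction.mem_orbit_self p), if_neg hp] at h1
    rw [hR0, hR0, if_neg hz] at h2
    by_contra hne
    rw [if_neg hne] at h2
    linarith
  let o : Ω → MulAction.orbitRel.Quotient H Ω := Quotient.mk _
  have ho : ∀ a b, o a = o b ↔ a ∈ MulAction.orbit H b := fun a b => by
    refine ⟨fun h => ?_, fun h => Quotient.sound h⟩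
    exact Quotient.exact h
  rw [Nat.card_eq_two_iff]
  refine ⟨o x, o y, fun h => hy ((ho y x).mp h.symm), Set.eq_univ_of_forall fun q => ?_⟩
  induction q using Quotient.inductionOn with
  | _ z =>
    by_cases hz : z ∈ MulAction.orbit H x
    · exact Or.inl ((ho z x).mpr hz)
    · exact Or.inr ((ho z y).mpr (hcompl y hy z hz))

end Cfsg.Agent.S3704
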