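import Cfsg.Statements.S3707
import Mathlib
-- import your own Cfsg.Agent.* helpers here

set_option autoImplicit false
open Cfsg

namespace Cfsg.Agent.S3707

open scoped Pointwise

/-- `S` is a Jordan set: the elements fixing its complement pointwise are transitive on it. -/
def IsJordanSet (G : Type*) {Ω : Type*} [Group G] [MulAction G Ω] (S : Set Ω) : Prop :=
  ∀ x ∈ S, ∀ y ∈ S, ∃ g : G, (∀ z ∉ S, g • z = z) ∧ g • x = y

theorem IsJordanSet.union {G Ω : Type*} [Group G] [MulAction G Ω] {S T : Set Ω} (hS : IsJordanSet G S)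
    (hT : IsJordanSet G T) (h : (S ∩ T).Nonempty) : IsJordanSet G (S ∪ T) := by
  obtain ⟨w, hwS, hwT⟩ := h
  have key : ∀ x ∈ S ∪ T, ∃ g : G, (∀ z ∉ S ∪ T, g • z = z) ∧ g • x = w := by
    rintro x (hx | hx)
    · obtain ⟨g, hg, hgx⟩ := hS x hx w hwS
      exact ⟨g, fun z hz => hg z fun h => hz (Or.inl h), hgx⟩
    · obtain ⟨g, hg, hgx⟩ := hT x hx w hwT
      exact ⟨g, fun z hz => hg z fun h => hz (Or.inr h), hgx⟩
  intro x hx y hy
  obtain ⟨g, hg, hgx⟩ := key x hx
  obtain ⟨k, hk, hky⟩ := key y hy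
  refine ⟨k⁻¹ * g, fun z hz => ?_, ?_⟩
  · rw [mul_smul, hg z hz, inv_smul_eq_iff, hk z hz]
  · rw [mul_smul, hgx, inv_smul_eq_iff, hky]

theorem IsJordanSet.smul {G Ω : Type*} [Group G] [MulAction G Ω] {S : Set Ω} (hS : IsJordanSet G S) (g : G) :
    IsJordanSet G (g • S) := by
  intro x hx y hy
  rw [Set.mem_smul_set_iff_inv_smul_mem] at hx hy
  obtain ⟨k, hk, hkx⟩ := hS _ hx _ hy
  refine ⟨g * k * g⁻¹, fun z hz => ?_, ?_⟩
  · rw [Set.mem_smul_set_iff_inv_smul_mem] at hz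
    rw [mul_smul, mul_smul, hk _ hz, smul_inv_smul]
  · rw [mul_smul, mul_smul, hkx, smul_inv_smul]


/-- Let G be a finite primitive permutation group on Ω of degree n and Γ ⊂ Ω a subset with 1 < #Γ ≤ n/2 such that the pointwise stabilizer of Ω ∖ Γ is transitive on Γ. Then G is 3-transitive on Ω. -/
theorem result {G Ω : Type*} [Group G] [Finite G] [MulAction G Ω] [FaithfulSMul G Ω] [Finite Ω] (hprim : MulAction.IsPreprimitive G Ω) (Γ : Set Ω) (h1 : 1 < Γ.ncard) (h2 : 2 * Γ.ncard ≤ Nat.card Ω) (htr : ∀ x ∈ Γ, ∀ y ∈ Γ, ∃ g : G, (∀ z ∉ Γ, g • z = z) ∧ g • x = y) : MulAction.IsMultiplyPretransitive G Ω 3 := by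
  skip
  classical
  set n := Nat.card Ω with hn
  have hJ : IsJordanSet G Γ := htr
  obtain ⟨M, ⟨hMJ, hMn⟩, hMmax⟩ : ∃ M : Set Ω, (IsJordanSet G M ∧ M.ncard + 2 ≤ n) ∧
      ∀ S : Set Ω, IsJordanSet G S ∧ S.ncard + 2 ≤ n → S.ncard ≤ M.ncard := by
    have hne : ({S : Set Ω | IsJordanSet G S ∧ S.ncard + 2 ≤ n}).Nonempty := ⟨Γ, hJ, by omega⟩
    obtain ⟨M, hM, hmax⟩ := (Set.toFinite _).toFinset.exists_max_image Set.ncard
      (by rwa [Set.Finite.toFinset_nonempty])
    simp only [Set.Finite.mem_toFinset, Set.mem_setOf_eq] at hM hmax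
    exact ⟨M, hM, hmax⟩
  have hΓM : Γ.ncard ≤ M.ncard := hMmax Γ ⟨hJ, by omega⟩
  have hsmul : ∀ (g : G) (S : Set Ω), (g • S).ncard = S.ncard := fun g S => by
    rw [← Set.image_smul, Set.ncard_image_of_injective _ (MulAction.injective g)]
  have hbig : n < 2 * M.ncard + 2 := by
    by_contra hlt
    have hblock : MulAction.IsBlock G M := by
      intro g₁ g₂ hne
      by_contra hmeet
      rw [Set.not_disjoint_iff_nonempty_inter] at hmeet
      have hu := (hMJ.smul g₁).union (hMJ.smul g₂) hmeet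
      have h3 := Set.ncard_union_add_ncard_inter (g₁ • M) (g₂ • M)
      have h4 := (Set.ncard_pos (Set.toFinite _)).2 hmeet
      rw [hsmul, hsmul] at h3
      have hle := hMmax _ ⟨hu, by omega⟩
      have e1 : g₁ • M = g₁ • M ∪ g₂ • M := Set.eq_of_subset_of_ncard_le Set.subset_union_left (by rw [hsmul]; exact hle)
      have e2 : g₂ • M = g₁ • M ∪ g₂ • M := Set.eq_of_subset_of_ncard_le Set.subset_union_right (by rw [hsmul]; exact hle)
      exact hne (e1.trans e2.symm)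
    rcases MulAction.IsPreprimitive.isTrivialBlock_of_isBlock hblock with h | h
    · have := Set.ncard_le_one_iff_subsingleton.2 h; omega
    · rw [h, Set.ncard_univ] at hMn; omega
  have h2t : MulAction.IsMultiplyPretransitive G Ω 2 := by
    have hc := Set.ncard_add_ncard_compl Γ
    refine hprim.is_two_pretransitive (s := Γᶜ) (n := n - Γ.ncard - 1) (by omega) (by omega) ⟨fun x y => ?_⟩
    have hx : (x : Ω) ∈ Γ := Set.notMem_compl_iff.1 x.2
    have hy : (y : Ω) ∈ Γ := Set.notMem_compl_iff.1 y.2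
    obtain ⟨g, hg, hgx⟩ := htr _ hx _ hy
    refine ⟨⟨g, ?_⟩, Subtype.ext hgx⟩
    rw [mem_fixingSubgroup_iff]
    exact fun z hz => hg z hz
  rw [MulAction.is_two_pretransitive_iff] at h2t
  obtain ⟨c, d, hcM, hdM, hcd⟩ : ∃ c d, c ∉ M ∧ d ∉ M ∧ c ≠ d := by
    have hc := Set.ncard_add_ncard_compl M
    obtain ⟨c, hc', d, hd', hne⟩ := (Set.one_lt_ncard (Set.toFinite _)).1 (show 1 < Mᶜ.ncard by omega)
    exact ⟨c, d, hc', hd', hne⟩
  have hex : ∀ a b : Ω, a ≠ b → ∃ T : Set Ω, IsJordanSet G T ∧ T.ncard = M.ncard ∧ a ∉ T ∧ b ∉ T := by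
    intro a b hab
    obtain ⟨g, hga, hgb⟩ := h2t hcd hab
    refine ⟨g • M, hMJ.smul g, hsmul g M, ?_, ?_⟩
    · rw [← hga, Set.smul_mem_smul_set_iff]; exact hcM
    · rw [← hgb, Set.smul_mem_smul_set_iff]; exact hdM
  have hcup : ∀ a b : Ω, a ≠ b → ∀ S : Set Ω, a ∉ S → b ∉ S → S.ncard + 2 ≤ n := by
    intro a b hab S ha hb
    have h := Set.ncard_le_ncard (show ({a, b} : Set Ω) ⊆ Sᶜ by rintro x (rfl | rfl) <;> assumption)
    rw [Set.ncard_pair hab] at h
    have hc := Set.ncard_add_ncard_compl S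
    omega
  have hjoin : ∀ a b : Ω, a ≠ b → ∀ S T : Set Ω, IsJordanSet G S → IsJordanSet G T → T.ncard = M.ncard →
      a ∉ S → b ∉ S → a ∉ T → b ∉ T → (S ∩ T).Nonempty → S ⊆ T := by
    intro a b hab S T hS hT hTc haS hbS haT hbT hne
    have hle := hMmax _ ⟨hS.union hT hne, hcup a b hab _ (by simp [haS, haT]) (by simp [hbS, hbT])⟩
    rw [← hTc] at hle
    have e : T = S ∪ T := Set.eq_of_subset_of_ncard_le Set.subset_union_right hle
    rw [e]; exact Set.subset_union_left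
  have huniq : ∀ a b : Ω, a ≠ b → ∀ S T : Set Ω, IsJordanSet G S → IsJordanSet G T → S.ncard = M.ncard →
      T.ncard = M.ncard → a ∉ S → b ∉ S → a ∉ T → b ∉ T → S = T := by
    intro a b hab S T hS hT hSc hTc haS hbS haT hbT
    refine Set.eq_of_subset_of_ncard_le (hjoin a b hab S T hS hT hTc haS hbS haT hbT ?_) (by omega)
    rw [Set.nonempty_iff_ne_empty]
    intro h0
    have h3 := Set.ncard_union_add_ncard_inter S T
    rw [h0, Set.ncard_empty, hSc, hTc] at h3
    have := hcup a b hab (S ∪ T) (by simp [haS, haT]) (by simp [hbS, hbT])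
    omega
  have hclosed : ∀ a b : Ω, a ≠ b → a ∉ Γ → b ∉ Γ → ∀ T : Set Ω, IsJordanSet G T → T.ncard = M.ncard →
      a ∉ T → b ∉ T → Γ ⊆ T := by
    intro a b hab haΓ hbΓ T hT hTc haT hbT
    by_cases hne : (Γ ∩ T).Nonempty
    · exact hjoin a b hab Γ T hJ hT hTc haΓ hbΓ haT hbT hne
    exfalso
    have hout : ∀ x ∈ Γ, x ∉ T := fun x hx hxT => hne ⟨x, hx, hxT⟩
    obtain ⟨u, huΓ, v, hvΓ, huv⟩ := (Set.one_lt_ncard (Set.toFinite _)).1 h1
    obtain ⟨e, heT⟩ : T.Nonempty := (Set.ncard_pos (Set.toFinite _)).1 (by omega)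
    have heΓ : e ∉ Γ := fun h => hout e h heT
    have hue : u ≠ e := fun h => heΓ (h ▸ huΓ)
    obtain ⟨T', hT', hT'c, huT', heT'⟩ := hex u e hue
    have honly : ∀ y, y ∉ T → y ∉ T' → y = u := by
      intro y hy hy'
      by_contra hyu
      have := huniq y u hyu T T' hT hT' hTc hT'c hy (hout u huΓ) hy' huT'
      exact heT' (this ▸ heT)
    have h4 : 4 ≤ Tᶜ.ncard := by
      have h := Set.ncard_le_ncard (show ({a, b, u, v} : Set Ω) ⊆ Tᶜ by
        rintro x (rfl | rfl | rfl | rfl)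
        exacts [haT, hbT, hout _ huΓ, hout _ hvΓ])
      have hcard : ({a, b, u, v} : Set Ω).ncard = 4 := by
        have hau : a ≠ u := fun h => haΓ (h ▸ huΓ)
        have hav : a ≠ v := fun h => haΓ (h ▸ hvΓ)
        have hbu : b ≠ u := fun h => hbΓ (h ▸ huΓ)
        have hbv : b ≠ v := fun h => hbΓ (h ▸ hvΓ)
        rw [Set.ncard_insert_of_notMem (by simp [hab, hau, hav]), Set.ncard_insert_of_notMem (by simp [hbu, hbv]),
          Set.ncard_pair huv]
      omega
    obtain ⟨f, hf, hfne⟩ : ∃ f, f ∉ T' ∧ f ∉ ({u, e} : Set Ω) := by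
      have hc := Set.ncard_add_ncard_compl T
      have hc' := Set.ncard_add_ncard_compl T'
      obtain ⟨f, hf, hf'⟩ := Set.exists_mem_notMem_of_ncard_lt_ncard (s := ({u, e} : Set Ω)) (t := T'ᶜ)
        (by rw [Set.ncard_pair hue]; omega)
      exact ⟨f, hf, hf'⟩
    simp only [Set.mem_insert_iff, Set.mem_singleton_iff, not_or] at hfne
    have hfT : f ∈ T := by
      by_contra h
      exact hfne.1 (honly f h hf)
    obtain ⟨g, hg, hgu⟩ := htr u huΓ v hvΓ
    have hge : g • e = e := hg e heΓ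
    have hgf : g • f = f := hg f fun h => hout f h hfT
    have heq : g • T' = T' := huniq e f (Ne.symm hfne.2) _ _ (hT'.smul g) hT' (by rw [hsmul, hT'c]) hT'c
      (by rw [← hge, Set.smul_mem_smul_set_iff]; exact heT') (by rw [← hgf, Set.smul_mem_smul_set_iff]; exact hf)
      heT' hf
    have hvT' : v ∉ T' := by
      rw [← heq, ← hgu, Set.smul_mem_smul_set_iff]; exact huT'
    exact huv (honly v (hout v hvΓ) hvT').symm
  have hM2 : M.ncard + 2 = n := by
    by_contra hne2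
    obtain ⟨x, hx⟩ : Γ.Nonempty := (Set.ncard_pos (Set.toFinite _)).1 (by omega)
    have hline : ∀ a : (Γᶜ : Set Ω), ∃ T : Set Ω, ∃ f : Ω, IsJordanSet G T ∧ T.ncard = M.ncard ∧ x ∉ T ∧ (a : Ω) ∉ T ∧
        f ∉ T ∧ f ≠ x ∧ f ≠ a := by
      intro a
      have hxa : x ≠ a := fun h => a.2 (h ▸ hx)
      obtain ⟨T, hT, hTc, hxT, haT⟩ := hex x a hxa
      have hc := Set.ncard_add_ncard_compl T
      obtain ⟨f, hf, hf'⟩ := Set.exists_mem_notMem_of_ncard_lt_ncard (s := ({x, (a : Ω)} : Set Ω)) (t := Tᶜ)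
        (by rw [Set.ncard_pair hxa]; omega)
      simp only [Set.mem_insert_iff, Set.mem_singleton_iff, not_or] at hf'
      exact ⟨T, f, hT, hTc, hxT, haT, hf, hf'.1, hf'.2⟩
    choose T f hT hTc hxT haT hfT hfx hfa using hline
    have hmeet : ∀ a a' : (Γᶜ : Set Ω), ∀ y, y ≠ x → y ∉ T a → y ∉ T a' → a = a' := by
      intro a a' y hyx hy hy'
      by_contra hne
      have he := huniq y x hyx _ _ (hT a) (hT a') (hTc a) (hTc a') hy (hxT a) hy' (hxT a')
      exact hxT a (hclosed a a' (fun h => hne (Subtype.ext h)) a.2 a'.2 (T a) (hT a) (hTc a) (haT a) (he ▸ haT a') hx)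
    have hinj : Function.Injective (fun p : (Γᶜ : Set Ω) × Bool =>
        (⟨if p.2 then f p.1 else p.1, by
          rcases p with ⟨a, _ | _⟩
          · intro h; simp at h; exact a.2 (h ▸ hx)
          · simpa using hfx a⟩ : {y : Ω // y ≠ x})) := by
      rintro ⟨a, _ | _⟩ ⟨a', _ | _⟩ h <;> have h' := congrArg Subtype.val h <;> simp at h'
      · simp [Subtype.ext_iff, h']
      · have := hmeet a a' a (fun e => a.2 (e ▸ hx)) (haT a) (h' ▸ hfT a')
        subst this
        exact absurd h'.symm (hfa a)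
      · have := hmeet a a' a' (fun e => a'.2 (e ▸ hx)) (h' ▸ hfT a) (haT a')
        subst this
        exact absurd h' (hfa a)
      · rw [hmeet a a' (f a) (hfx a) (hfT a) (h' ▸ hfT a')]
    have hcard := Nat.card_le_card_of_injective _ hinj
    rw [Nat.card_prod, Nat.card_eq_fintype_card (α := Bool), Fintype.card_bool, Nat.card_coe_set_eq] at hcard
    have hsub : Nat.card {y : Ω // y ≠ x} + 1 = n := by
      have h := Set.ncard_add_ncard_compl ({x} : Set Ω)
      rw [Set.ncard_singleton, ← Nat.card_coe_set_eq] at h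
      have e : Nat.card (({x} : Set Ω)ᶜ : Set Ω) = Nat.card {y : Ω // y ≠ x} := rfl
      omega
    have hc := Set.ncard_add_ncard_compl Γ
    omega
  refine ⟨fun p q => ?_⟩
  obtain ⟨g, hg0, hg1⟩ := h2t (p.injective.ne (by decide : (0 : Fin 3) ≠ 1)) (q.injective.ne (by decide : (0 : Fin 3) ≠ 1))
  have h01 : q 0 ≠ q 1 := q.injective.ne (by decide)
  obtain ⟨T, hT, hTc, h0T, h1T⟩ := hex (q 0) (q 1) h01
  have hmem : ∀ z, z ≠ q 0 → z ≠ q 1 → z ∈ T := by
    intro z hz0 hz1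
    by_contra hz
    have h := Set.ncard_le_ncard (show ({z, q 0, q 1} : Set Ω) ⊆ Tᶜ by rintro w (rfl | rfl | rfl) <;> assumption)
    rw [Set.ncard_insert_of_notMem (by simp [hz0, hz1]), Set.ncard_pair h01] at h
    have := Set.ncard_add_ncard_compl T
    omega
  obtain ⟨k, hk, hk2⟩ := hT (g • p 2)
    (hmem _ (by rw [← hg0]; exact (MulAction.injective g).ne (p.injective.ne (by decide)))
      (by rw [← hg1]; exact (MulAction.injective g).ne (p.injective.ne (by decide))))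
    (q 2) (hmem _ (q.injective.ne (by decide)) (q.injective.ne (by decide)))
  refine ⟨k * g, ?_⟩
  ext i
  show (k * g) • p i = q i
  fin_cases i
  · show (k * g) • p 0 = q 0
    rw [mul_smul, hg0, hk _ h0T]
  · show (k * g) • p 1 = q 1
    rw [mul_smul, hg1, hk _ h1T]
  · show (k * g) • p 2 = q 2
    rw [mul_smul, hk2]

end Cfsg.Agent.S3707
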