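import Cfsg.Statements.S3733
import Mathlib

set_option autoImplicit false
open Cfsg

namespace Cfsg.Agent.S3733

/-- Let A and V be subgroups of a finite group with V abelian and nontrivial and A normalizing V. Suppose a nonempty finite family of proper subgroups of A partitions A: every non-identity element of A lies in exactly one member. If the number of members minus one is coprime to the order of V, then some member B of the family has a non-identity fixed point on V, that is V ∩ C(B) ≠ 1. -/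
theorem result {G : Type*} [Group G] [Finite G] (A V : Subgroup G) (hVab : IsMulCommutative V) (hV : V ≠ ⊥) (hAV : A ≤ Subgroup.normalizer (V : Set G)) (𝒜 : Finset (Subgroup G)) (hne : 𝒜.Nonempty) (hprop : ∀ B ∈ 𝒜, B < A) (hpart : ∀ a ∈ A, a ≠ 1 → ∃! B, B ∈ 𝒜 ∧ a ∈ B) (hk : (𝒜.card - 1).Coprime (Nat.card V)) : ∃ B ∈ 𝒜, V ⊓ Subgroup.centralizer (B : Set G) ≠ ⊥ := by
  classical
  by_contra hc
  push_neg at hc
  apply hV
  rw [Subgroup.eq_bot_iff_forall]
  intro v hv
  letI : CommGroup ↥V := { (inferInstance : Group ↥V) with mul_comm := fun a b => hVab.is_comm.comm a b }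
  have hmem : ∀ a : G, a ∈ A → ∀ x : ↥V, a * (x : G) * a⁻¹ ∈ V := fun a ha x =>
    (Subgroup.mem_normalizer_iff.mp (hAV ha) (x : G)).mp x.2
  let act : ↥A → ↥V → ↥V := fun a x => ⟨(a : G) * x * (a : G)⁻¹, hmem a a.2 x⟩
  have hact_mul : ∀ a x y, act a (x * y) = act a x * act a y := fun a x y =>
    Subtype.ext (by simp [act, mul_assoc])
  let φ : ↥A → (↥V →* ↥V) := fun a => MonoidHom.mk' (act a) (hact_mul a)
  haveI : Fintype ↥A := Fintype.ofFinite _
  let N : Subgroup G → ↥V → ↥V := fun B x => ∏ a ∈ Finset.univ.filter (fun a : ↥A => (a : G) ∈ B), act a x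
  have hfix : ∀ B ∈ 𝒜, ∀ x : ↥V, N B x = 1 := by
    intro B hB x
    have hinv : ∀ b : ↥A, (b : G) ∈ B → act b (N B x) = N B x := by
      intro b hb
      change φ b (N B x) = N B x
      rw [map_prod]
      refine Finset.prod_equiv (Equiv.mulLeft b) (fun a => ?_) (fun a _ => ?_)
      · simp only [Finset.mem_filter, Finset.mem_univ, true_and, Equiv.coe_mulLeft, Subgroup.coe_mul]
        exact (B.mul_mem_cancel_left hb).symm
      · exact Subtype.ext (by simp [φ, act, mul_assoc])
    have hC : ((N B x : ↥V) : G) ∈ V ⊓ Subgroup.centralizer (B : Set G) := by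
      refine ⟨(N B x).2, fun b hb => ?_⟩
      have h := congrArg Subtype.val (hinv ⟨b, (hprop B hB).le hb⟩ hb)
      exact mul_inv_eq_iff_eq_mul.mp h
    rw [hc B hB, Subgroup.mem_bot] at hC
    exact Subtype.ext hC
  -- the norm over all of `A`
  have hNA : ∀ x : ↥V, (∏ a : ↥A, act a x) = 1 := by
    intro x
    have hinv : ∀ b : ↥A, act b (∏ a : ↥A, act a x) = ∏ a : ↥A, act a x := by
      intro b
      change φ b (∏ a : ↥A, act a x) = _
      rw [map_prod]
      exact Fintype.prod_equiv (Equiv.mulLeft b) _ _ (fun a => Subtype.ext (by simp [φ, act, mul_assoc]))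
    obtain ⟨B, hB⟩ := hne
    have hC : (((∏ a : ↥A, act a x) : ↥V) : G) ∈ V ⊓ Subgroup.centralizer (B : Set G) := by
      refine ⟨(∏ a : ↥A, act a x).2, fun b hb => ?_⟩
      have h := congrArg Subtype.val (hinv ⟨b, (hprop B hB).le hb⟩)
      exact mul_inv_eq_iff_eq_mul.mp h
    rw [hc B hB, Subgroup.mem_bot] at hC
    exact Subtype.ext hC
  set x : ↥V := ⟨v, hv⟩ with hx
  have hone : act 1 x = x := Subtype.ext (by simp [act])
  -- double counting
  have hsum : (∏ B ∈ 𝒜, N B x) = x ^ 𝒜.card * ∏ a ∈ (Finset.univ : Finset ↥A).erase 1, act a x := by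
    have h1 : ∀ B ∈ 𝒜, N B x = x * ∏ a ∈ ((Finset.univ : Finset ↥A).erase 1).filter (fun a : ↥A => (a : G) ∈ B), act a x := by
      intro B hB
      have hmem1 : (1 : ↥A) ∈ Finset.univ.filter (fun a : ↥A => (a : G) ∈ B) := by simp [B.one_mem]
      change ∏ a ∈ Finset.univ.filter (fun a : ↥A => (a : G) ∈ B), act a x = _
      rw [← Finset.mul_prod_erase _ _ hmem1, hone, Finset.filter_erase]
    rw [Finset.prod_congr rfl h1, Finset.prod_mul_distrib, Finset.prod_const]
    congr 1
    simp only [Finset.prod_filter]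
    rw [Finset.prod_comm]
    refine Finset.prod_congr rfl (fun a ha => ?_)
    have ha1 : (a : G) ≠ 1 := fun h => Finset.ne_of_mem_erase ha (Subtype.ext h)
    obtain ⟨B, ⟨hB, haB⟩, huniq⟩ := hpart a a.2 ha1
    rw [Finset.prod_eq_single B (fun C hC hCB => if_neg (fun h => hCB (huniq C ⟨hC, h⟩))) (fun h => absurd hB h), if_pos haB]
  rw [Finset.prod_congr rfl (fun B hB => hfix B hB x), Finset.prod_const_one] at hsum
  have h2 := hNA x
  rw [← Finset.mul_prod_erase _ _ (Finset.mem_univ (1 : ↥A)), hone] at h2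
  rw [eq_inv_of_mul_eq_one_right h2] at hsum
  have hpos : 1 ≤ 𝒜.card := hne.card_pos
  have h3 : x ^ (𝒜.card - 1) = 1 := by
    rw [show 𝒜.card = 𝒜.card - 1 + 1 by omega, pow_succ, mul_inv_cancel_right] at hsum
    exact hsum.symm
  have h4 := pow_card_eq_one' (x := x)
  have h5 : orderOf x ∣ 1 := hk ▸ Nat.dvd_gcd (orderOf_dvd_of_pow_eq_one h3) (orderOf_dvd_of_pow_eq_one h4)
  exact congrArg Subtype.val (orderOf_eq_one_iff.mp (Nat.eq_one_of_dvd_one h5))

end Cfsg.Agent.S3733
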