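import Cfsg.Statements.S3735
import Cfsg.Agent.Lib.Solv.SchurZassenhaus

set_option autoImplicit false
open Cfsg
open Subgroup Cfsg.Agent.Solv
open scoped Pointwise

namespace Cfsg.Agent.S3735

open scoped Pointwise in
theorem mem_normalizer_of_conj_le' {G : Type*} [Group G] [Finite G] {A : Subgroup G} {g : G}
    (h : MulAut.conj g • A ≤ A) : g ∈ Subgroup.normalizer (A : Set G) := by
  have heq : MulAut.conj g • A = A :=
    Subgroup.eq_of_le_of_card_ge h (by rw [Cfsg.Agent.Solv.card_conj_smul])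
  refine Subgroup.mem_normalizer_iff.mpr fun x => ?_
  conv_rhs => rw [← heq, Cfsg.Agent.Solv.mem_conj_smul]
  simp [mul_assoc]

open scoped Pointwise in
theorem le_normalizer_conj_smul {G : Type*} [Group G] [Finite G] (A T : Subgroup G) (h : G)
    (hh : h ∈ Subgroup.normalizer (A : Set G)) (hT : A ≤ Subgroup.normalizer (T : Set G)) :
    A ≤ Subgroup.normalizer ((MulAut.conj h • T : Subgroup G) : Set G) := by
  intro a ha
  refine mem_normalizer_of_conj_le' (le_of_eq ?_)
  have h1 : h⁻¹ * a * h ∈ A := by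
    simpa using (Subgroup.mem_normalizer_iff''.1 hh a).1 ha
  rw [Cfsg.Agent.Solv.conj_smul_conj_smul, show a * h = h * (h⁻¹ * a * h) by group,
    ← Cfsg.Agent.Solv.conj_smul_conj_smul,
    Cfsg.Agent.Solv.conj_smul_eq_self_of_mem_normalizer (hT h1)]


/-- Clifford's Theorem for actions on finite abelian groups, first part. Let H and V be subgroups of a finite group with V abelian and H normalizing V, and let A be a normal subgroup of H. If every H-invariant subgroup of V has an H-invariant complement in V, then every A-invariant subgroup of V has an A-invariant complement in V. -/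
theorem result {G : Type*} [Group G] [Finite G] (H A V : Subgroup G) (hVab : IsMulCommutative V) (hHV : H ≤ Subgroup.normalizer (V : Set G)) (hAH : A ≤ H) (hAn : H ≤ Subgroup.normalizer (A : Set G)) (hss : ∀ U : Subgroup G, U ≤ V → H ≤ Subgroup.normalizer (U : Set G) → ∃ W : Subgroup G, W ≤ V ∧ H ≤ Subgroup.normalizer (W : Set G) ∧ U ⊓ W = ⊥ ∧ U ⊔ W = V) (U : Subgroup G) (hUV : U ≤ V) (hAU : A ≤ Subgroup.normalizer (U : Set G)) : ∃ W : Subgroup G, W ≤ V ∧ A ≤ Subgroup.normalizer (W : Set G) ∧ U ⊓ W = ⊥ ∧ U ⊔ W = V := by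
  haveI := hVab
  have hVle : ∀ X : Subgroup G, X ≤ V → ∀ Y : Subgroup G, Y ≤ V → X ≤ normalizer (Y : Set G) :=
    fun X hX Y hY => hX.trans ((le_centralizer V).trans ((centralizer_le hY).trans
      (centralizer_le_normalizer _)))
  -- the minimal `A`-invariant subgroups
  set S := {T : Subgroup G | T ≤ V ∧ A ≤ normalizer (T : Set G) ∧ T ≠ ⊥ ∧
    ∀ X : Subgroup G, X ≤ T → A ≤ normalizer (X : Set G) → X = ⊥ ∨ X = T} with hS
  have hmin : ∀ X : Subgroup G, X ≤ V → A ≤ normalizer (X : Set G) → X ≠ ⊥ →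
      ∃ T ∈ S, T ≤ X := by
    intro X
    induction X using WellFoundedLT.induction with
    | _ X ih =>
      intro hXV hXA hX
      by_cases hXm : ∀ Y : Subgroup G, Y ≤ X → A ≤ normalizer (Y : Set G) → Y = ⊥ ∨ Y = X
      · exact ⟨X, ⟨hXV, hXA, hX, hXm⟩, le_rfl⟩
      simp only [not_forall, not_or] at hXm
      obtain ⟨Y, hYX, hYA, hY0, hYne⟩ := hXm
      obtain ⟨T, hT, hTY⟩ := ih Y (lt_of_le_of_ne hYX hYne) (hYX.trans hXV) hYA hY0
      exact ⟨T, hT, hTY.trans hYX⟩
  have hstop : sSup S = V := by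
    have hSV : sSup S ≤ V := sSup_le fun T hT => hT.1
    have hHS : H ≤ normalizer ((sSup S : Subgroup G) : Set G) := by
      intro h hh
      refine mem_normalizer_of_conj_le' ?_
      rw [pointwise_smul_subset_iff]
      refine sSup_le fun T hT => ?_
      rw [← pointwise_smul_subset_iff]
      refine le_sSup (α := Subgroup G) ⟨?_, ?_, ?_, ?_⟩
      · rw [← conj_smul_eq_self_of_mem_normalizer (hHV hh)]
        exact smul_mono_right _ hT.1
      · exact le_normalizer_conj_smul A T h (hAn hh) hT.2.1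
      · intro h0
        refine hT.2.2.1 ?_
        have h1 := congrArg (fun X => MulAut.conj h⁻¹ • X) h0
        simpa [conj_smul_conj_smul] using h1
      · intro X hXT hXA
        have h1 : MulAut.conj h⁻¹ • X ≤ T := by
          rw [pointwise_smul_subset_iff, ← map_inv, inv_inv]
          exact hXT
        have h2 : A ≤ normalizer ((MulAut.conj h⁻¹ • X : Subgroup G) : Set G) :=
          le_normalizer_conj_smul A X h⁻¹ (inv_mem (hAn hh)) hXA
        rcases hT.2.2.2 _ h1 h2 with h3 | h3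
        · left
          have h4 := congrArg (fun X => MulAut.conj h • X) h3
          simpa [conj_smul_conj_smul] using h4
        · right
          have h4 := congrArg (fun X => MulAut.conj h • X) h3
          simpa [conj_smul_conj_smul] using h4
    obtain ⟨W, hWV, hWH, hdisj, hsup⟩ := hss _ hSV hHS
    rcases eq_or_ne W ⊥ with rfl | hW
    · rwa [sup_bot_eq] at hsup
    obtain ⟨T, hT, hTW⟩ := hmin W hWV (hAH.trans hWH) hW
    exact absurd (le_bot_iff.1 (hdisj ▸ le_inf (le_sSup hT) hTW)) hT.2.2.1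
  obtain ⟨W, ⟨hWV, hWA, hWU⟩, hWmax⟩ := (Set.toFinite {W : Subgroup G | W ≤ V ∧
    A ≤ normalizer (W : Set G) ∧ U ⊓ W = ⊥}).exists_maximal
    ⟨⊥, bot_le, by rw [normalizer_eq_top_iff.2 inferInstance]; exact le_top, inf_bot_eq _⟩
  refine ⟨W, hWV, hWA, hWU, le_antisymm (sup_le hUV hWV) (hstop.ge.trans (sSup_le fun T hT => ?_))⟩
  by_contra hTn
  have hTA : A ≤ normalizer ((T ⊓ (U ⊔ W) : Subgroup G) : Set G) :=
    le_normalizer_inf hT.2.1 ((le_inf hAU hWA).trans (normalizer_inf_le_normalizer_sup U W))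
  have hT0 : T ⊓ (U ⊔ W) = ⊥ := (hT.2.2.2 _ inf_le_left hTA).resolve_right
    fun h => hTn (inf_eq_left.1 h)
  have hWT : U ⊓ (W ⊔ T) = ⊥ := by
    rw [eq_bot_iff]
    rintro x ⟨hxU, hxWT⟩
    replace hxWT : x ∈ ((W ⊔ T : Subgroup G) : Set G) := hxWT
    rw [coe_mul_of_left_le_normalizer_right W T
      (hVle W hWV T hT.1)] at hxWT
    obtain ⟨w, hw, t, ht, rfl⟩ := hxWT
    have ht' : t ∈ T ⊓ (U ⊔ W) := by
      refine mem_inf.2 ⟨ht, ?_⟩
      simpa using mul_mem (mem_sup_right (inv_mem hw) : w⁻¹ ∈ U ⊔ W) (mem_sup_left hxU)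
    rw [hT0, mem_bot] at ht'
    subst ht'
    simp only [mul_one] at hxU ⊢
    exact hWU.le (mem_inf.2 ⟨hxU, hw⟩)
  have := hWmax ⟨sup_le hWV hT.1, (le_inf hWA hT.2.1).trans (normalizer_inf_le_normalizer_sup W T),
    hWT⟩ le_sup_left
  exact hTn ((le_sup_right.trans this).trans le_sup_right)

end Cfsg.Agent.S3735
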