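import Cfsg.Statements.S3736
import Cfsg.Agent.Lib.Struct.CoprimeMinimal
import Cfsg.Agent.Lib.Local.OddPGroupInvolution

set_option autoImplicit false
open Cfsg
open Subgroup Cfsg.Agent.Solv Cfsg.Agent.Struct.CoprimeMinimal
open scoped commutatorElement

namespace Cfsg.Agent.S3736

/-- The Hall–Higman reduction for a minimal non-trivial action. Let B, A and P be subgroups of a finite group with P a p-group, B normalizing P, and A a normal subgroup of B of order prime to p. Suppose A does not centralize P but centralizes every proper B-invariant subgroup of P. Then [P, A] = P; P is elementary abelian or special; B acts irreducibly on P/Φ(P), that is, the only B-invariant subgroups of P containing Φ(P) are Φ(P) and P; and if p is odd then every element of P has order dividing p. -/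
theorem result {X : Type*} [Group X] [Finite X] {p : ℕ} [Fact p.Prime] (B A P : Subgroup X) (hP : IsPGroup p P) (hBP : B ≤ Subgroup.normalizer (P : Set X)) (hAB : A ≤ B) (hAn : B ≤ Subgroup.normalizer (A : Set X)) (hAp : (Nat.card A).Coprime p) (hnt : ⁅P, A⁆ ≠ ⊥) (hmin : ∀ U : Subgroup X, U < P → B ≤ Subgroup.normalizer (U : Set X) → ⁅U, A⁆ = ⊥) : ⁅P, A⁆ = P ∧ (Cfsg.IsElementaryAbelian p P ∨ Cfsg.IsSpecial p ↥P) ∧ (∀ U : Subgroup X, (frattini ↥P).map P.subtype ≤ U → U ≤ P → B ≤ Subgroup.normalizer (U : Set X) → U = (frattini ↥P).map P.subtype ∨ U = P) ∧ (p ≠ 2 → ∀ x ∈ P, x ^ p = 1) := by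
  haveI := hP.isNilpotent
  have hsolv : Group.IsSolvable A ∨ Group.IsSolvable P := Or.inr inferInstance
  have hAP : A ≤ normalizer (P : Set X) := hAB.trans hBP
  obtain ⟨e, he⟩ := IsPGroup.iff_card.1 hP
  have hcop : (Nat.card A).Coprime (Nat.card P) := he ▸ hAp.pow_right e
  have hle : ⁅P, A⁆ ≤ P := commutator_normalizer_le A P hAP
  have hBn : B ≤ normalizer ((⁅P, A⁆ : Subgroup X) : Set X) :=
    (le_inf hBP hAn).trans (normalizer_le_normalizer_commutator P A)
  have hPA : ⁅P, A⁆ = P := by
    by_contra hne
    exact hnt (commutator_eq_bot_of_commutator_commutator_eq_bot A P hAP hcop hsolv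
      (hmin _ (lt_of_le_of_ne hle hne) hBn))
  haveI : Nontrivial P := by
    rw [nontrivial_iff_ne_bot]
    rintro rfl
    exact hnt (commutator_bot_left _)
  have hfix : ∀ U : Subgroup X, U < P → B ≤ normalizer (U : Set X) →
      ∀ u ∈ U, ∀ a ∈ A, a * u = u * a := by
    intro U hU hBU u hu a ha
    exact mem_centralizer_iff.1 (commutator_eq_bot_iff_le_centralizer.1 (hmin U hU hBU) hu) a ha
  have hinP : ∀ u : X, u ∈ P → (∀ a ∈ A, a * u = u * a) → u ∈ (commutator P).map P.subtype :=
    fun u hu hf => ⟨⟨u, hu⟩, fixed_mem A P hAP hcop hPA (commutator P) le_rfl ⟨u, hu⟩ hf, rfl⟩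
  set F := (frattini P).map P.subtype with hF
  have hFP : F < P := by
    refine lt_of_le_of_ne (map_subtype_le _) fun h => frattini_ne_top (Q := P) ?_
    apply map_injective P.subtype_injective
    rw [← hF, h, ← MonoidHom.range_eq_map, range_subtype]
  have hBF : B ≤ normalizer (F : Set X) := le_normalizer_map_char B P hBP _
  have hFfix := hfix F hFP hBF
  have hFeq : frattini P = commutator P := by
    refine le_antisymm ?_ commutator_le_frattini
    intro x hx
    obtain ⟨y, hy, hyx⟩ := hinP x x.2 (hFfix x (mem_map_of_mem _ hx))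
    rwa [← Subtype.ext (show (y : X) = x from hyx)]
  -- the Frattini subgroup is central
  have hFc : frattini P ≤ center P := by
    have h1 : ⁅⁅A, P⁆, F⁆ = ⊥ := by
      refine commutator_commutator_eq_bot_of_rotate ?_ ?_
      · refine le_bot_iff.1 (le_trans (commutator_mono ?_ le_rfl)
          (commutator_eq_bot_iff_le_centralizer.2 fun u hu =>
            mem_centralizer_iff.2 fun a ha => hFfix u hu a ha).le)
        exact (commutator_mono le_rfl hFP.le).trans ((map_subtype_commutator P).ge.trans
          (map_mono commutator_le_frattini))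
      · rw [commutator_eq_bot_iff_le_centralizer.2 fun u hu =>
            mem_centralizer_iff.2 fun a ha => hFfix u hu a ha, commutator_bot_left]
    rw [commutator_comm A P, hPA, commutator_eq_bot_iff_le_centralizer] at h1
    intro x hx
    rw [mem_center_iff]
    intro y
    exact Subtype.ext ((mem_centralizer_iff.1 (h1 y.2) x (mem_map_of_mem _ hx))).symm
  have hpow : ∀ x : P, x ^ p ∈ frattini P := fun x => pow_mem_frattini hP x
  refine ⟨hPA, ?_, ?_, ?_⟩
  · by_cases hab : center P = ⊤
    · left
      have hc : commutator P = ⊥ := (commutator_eq_bot_iff_center_eq_top _).2 hab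
      refine ⟨(_root_.commutator_eq_bot_iff _).1 hc, fun a ha => ?_⟩
      have h1 := hpow ⟨a, ha⟩
      rw [hFeq, hc, mem_bot] at h1
      exact congrArg Subtype.val h1
    · right
      have hZ : (center P).map P.subtype < P := by
        refine lt_of_le_of_ne (map_subtype_le _) fun h => hab ?_
        apply map_injective P.subtype_injective
        rw [h, ← MonoidHom.range_eq_map, range_subtype]
      have h2 : center P ≤ commutator P := by
        intro x hx
        obtain ⟨y, hy, hyx⟩ := hinP x x.2
          (hfix _ hZ (le_normalizer_map_char B P hBP _) x (mem_map_of_mem _ hx))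
        rwa [← Subtype.ext (show (y : X) = x from hyx)]
      exact ⟨hP, le_antisymm hFc (h2.trans commutator_le_frattini),
        le_antisymm (commutator_le_frattini.trans hFc) h2⟩
  · intro U hFU hUP hBU
    rcases eq_or_lt_of_le hUP with h | h
    · exact Or.inr h
    · refine Or.inl (le_antisymm (fun u hu => ?_) hFU)
      exact map_mono commutator_le_frattini (hinP u (hUP hu) (hfix U h hBU u hu))
  · intro hp2 x hx
    have hodd : Odd p := (Fact.out : p.Prime).odd_of_ne_two hp2
    have hhom : ∀ a b : P, (a * b) ^ p = a ^ p * b ^ p := by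
      intro a b
      obtain ⟨c, hba, hc1⟩ : ∃ c, b * a = a * b * c ∧ c ∈ center P := by
        refine ⟨⁅b⁻¹, a⁻¹⁆, by rw [commutatorElement_def]; group, ?_⟩
        exact hFc (commutator_le_frattini (Subgroup.commutator_mem_commutator (mem_top _) (mem_top _)))
      have hca : c * a = a * c := (mem_center_iff.1 hc1 a).symm
      have hcb : c * b = b * c := (mem_center_iff.1 hc1 b).symm
      have hk : ∀ k : ℕ, b ^ k * a = a * b ^ k * c ^ k := by
        intro k
        induction k with
        | zero => simp
        | succ k ih =>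
          rw [pow_succ b k, mul_assoc (b ^ k) b a, hba, ← mul_assoc, ← mul_assoc, ih,
            pow_succ c k]
          have hcb' : c ^ k * b = b * c ^ k := ((Commute.pow_left hcb k)).eq
          simp only [mul_assoc]
          rw [← mul_assoc (c ^ k) b c, hcb', mul_assoc]
      have hcp : c ^ p = 1 := by
        have h1 := hk p
        rw [← mem_center_iff.1 (hFc (hpow b)) a] at h1
        exact mul_eq_left.1 h1.symm
      rw [Cfsg.Agent.Local.mul_pow_of_commutator hba hca hcb p]
      obtain ⟨j, hj⟩ : p ∣ p.choose 2 :=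
        (Fact.out : p.Prime).dvd_choose_self two_ne_zero
          (lt_of_le_of_ne (Fact.out : p.Prime).two_le (Ne.symm hp2))
      rw [hj, pow_mul, hcp, one_pow, mul_one]
    let φ : P →* P := MonoidHom.mk' (fun a => a ^ p) hhom
    have hker : ⁅P, A⁆ ≤ φ.ker.map P.subtype := by
      rw [commutator_le]
      intro y hy a ha
      refine ⟨⟨⁅y, a⁆, hle (commutator_mem_commutator hy ha)⟩, ?_, rfl⟩
      rw [SetLike.mem_coe, MonoidHom.mem_ker]
      apply Subtype.ext
      show ⁅y, a⁆ ^ p = 1
      have h1 : a * y ^ p * a⁻¹ = y ^ p := by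
        rw [hFfix (y ^ p) ⟨⟨y, hy⟩ ^ p, hpow _, rfl⟩ a ha, mul_inv_cancel_right]
      have h2 := hhom ⟨y, hy⟩ ⟨a * y⁻¹ * a⁻¹, (mem_normalizer_iff.1 (hAP ha) _).1 (inv_mem hy)⟩
      have h3 := congrArg (fun z : P => (z : X)) h2
      simp only [coe_mul, coe_pow] at h3
      rw [commutatorElement_def, mul_assoc y a, mul_assoc y (a * y⁻¹), h3]
      rw [conj_pow, inv_pow]
      have h4 : a * (y ^ p)⁻¹ * a⁻¹ = (y ^ p)⁻¹ := by
        have h5 := congrArg (fun z => z⁻¹) h1
        simpa [mul_assoc] using h5
      rw [h4, mul_inv_cancel]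
    rw [hPA] at hker
    obtain ⟨y, hy, rfl⟩ := hker hx
    exact congrArg Subtype.val (hy : y ^ p = 1)

end Cfsg.Agent.S3736
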