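import Cfsg.Statements.S3738
-- import your own Cfsg.Agent.* helpers here

set_option autoImplicit false
open Cfsg

namespace Cfsg.Agent.S3738

set_option maxHeartbeats 1600000

variable {Q : Type*} [Group Q] [Finite Q]

/-- commutator of `b` and `a` -/
def cm (b a : Q) : Q := b⁻¹ * a⁻¹ * b * a

omit [Finite Q] in
theorem abel_mk (F : Subgroup Q) [F.Normal] (hcm : ∀ b a : Q, cm b a ∈ F) (_hsq : ∀ q : Q, q ^ 2 ∈ F)
    (p q : Q) : (QuotientGroup.mk p : Q ⧸ F) * QuotientGroup.mk q = QuotientGroup.mk q * QuotientGroup.mk p := by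
  rw [← QuotientGroup.mk_mul, ← QuotientGroup.mk_mul, QuotientGroup.eq]
  have := hcm q p
  simpa [cm, mul_assoc] using this

theorem core (hQ : IsPGroup 2 Q)
    (hel : ∀ E : Subgroup Q, IsMulCommutative E → (∀ e ∈ E, e ^ 2 = 1) → Nat.card E ≤ 4)
    (w : MulAut Q) (h9 : w ^ 9 = 1) (q₀ : Q) (hq₀ : (w ^ 3) q₀ ≠ q₀)
    (hmin : ∀ R : Subgroup Q, R ≠ ⊤ → (∀ r ∈ R, w r ∈ R) → ∀ r ∈ R, (w ^ 3) r = r) : False := by
  classical
  set u := w ^ 3 with hu
  have hu3 : ∀ q, u (u (u q)) = q := by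
    intro q
    have : u ^ 3 = 1 := by rw [hu, ← pow_mul]; exact h9
    have := DFunLike.congr_fun this q
    simpa [pow_succ] using this
  have hdiff : ∀ q c : Q, u q = q * c → u c = c → c = 1 := by
    intro q c h1 h2
    have e := hu3 q
    rw [h1, map_mul, h1, h2, map_mul, map_mul, h1, h2] at e
    have h3 : c ^ 3 = 1 := by
      rw [mul_assoc, mul_assoc] at e
      rw [pow_succ, pow_two, mul_assoc]; exact mul_eq_left.mp e
    obtain ⟨k, hk⟩ := hQ c
    exact (pow_eq_one_iff_of_coprime (Nat.Coprime.pow_left k (show Nat.Coprime 2 3 by norm_num))).mp ⟨hk, h3⟩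
  -- the subgroup generated by squares
  let F : Subgroup Q := Subgroup.closure (Set.range fun q : Q => q ^ 2)
  have hsq : ∀ q : Q, q ^ 2 ∈ F := fun q => Subgroup.subset_closure ⟨q, rfl⟩
  have hFtop : F ≠ ⊤ := by
    intro hF
    obtain ⟨a, ha⟩ := IsPGroup.iff_card.mp hQ
    have ha0 : a ≠ 0 := by
      rintro rfl
      rw [pow_zero, Nat.card_eq_one_iff_unique] at ha
      have := ha.1
      exact hq₀ (Subsingleton.elim _ _)
    haveI := Fact.mk Nat.prime_two
    obtain ⟨M, hM⟩ := Sylow.exists_subgroup_card_pow_prime 2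
      (show 2 ^ (a - 1) ∣ Nat.card Q by rw [ha]; exact pow_dvd_pow 2 (by omega))
    have hi : M.index = 2 := by
      have := M.index_mul_card
      rw [ha, hM, show a = (a - 1) + 1 by omega, pow_succ] at this
      simp only [Nat.add_sub_cancel] at this
      exact Nat.eq_of_mul_eq_mul_left (pow_pos two_pos (a - 1)) (by rw [← this]; ring)
    have : F ≤ M := (Subgroup.closure_le M).mpr (by
      rintro _ ⟨q, rfl⟩; exact Subgroup.sq_mem_of_index_two hi q)
    rw [hF, top_le_iff] at this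
    rw [this, Subgroup.index_top] at hi
    omega
  have hFw : ∀ f ∈ F, w f ∈ F := by
    intro f hf
    induction hf using Subgroup.closure_induction with
    | mem x hx => obtain ⟨q, rfl⟩ := hx; simp only [map_pow]; exact hsq _
    | one => rw [map_one]; exact F.one_mem
    | mul x y _ _ hx hy => rw [map_mul]; exact F.mul_mem hx hy
    | inv x _ hx => rw [map_inv]; exact F.inv_mem hx
  have hFn : ∀ f ∈ F, ∀ g : Q, g * f * g⁻¹ ∈ F := by
    intro f hf g
    induction hf using Subgroup.closure_induction with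
    | mem x hx => obtain ⟨q, rfl⟩ := hx; simp only [← conj_pow]; exact hsq _
    | one => simp
    | mul x y _ _ hx hy =>
      have := F.mul_mem hx hy
      simpa [mul_assoc] using this
    | inv x _ hx =>
      have := F.inv_mem hx
      simpa [mul_assoc] using this
  haveI : F.Normal := ⟨hFn⟩
  have hFu : ∀ f ∈ F, u f = f := hmin F hFtop hFw
  -- F is central
  have hFc : ∀ f ∈ F, ∀ q : Q, q * f = f * q := by
    let C : Subgroup Q := Subgroup.centralizer (F : Set Q)
    by_contra hne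
    push Not at hne
    obtain ⟨f₀, hf₀, q₁, hq₁⟩ := hne
    have hC : C ≠ ⊤ := fun h => hq₁ ((Subgroup.mem_centralizer_iff.mp
      (show q₁ ∈ C by rw [h]; exact Subgroup.mem_top _)) f₀ hf₀).symm
    have hCw : ∀ r ∈ C, w r ∈ C := by
      intro r hr
      refine Subgroup.mem_centralizer_iff.mpr fun f hf => ?_
      obtain ⟨⟨f', hf'⟩, he⟩ := Finite.surjective_of_injective
        (f := fun f : F => (⟨w f, hFw _ f.2⟩ : F))
        (fun a b h => Subtype.ext (w.injective (congrArg Subtype.val h))) ⟨f, hf⟩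
      have he' : w f' = f := congrArg Subtype.val he
      rw [← he', ← map_mul, ← map_mul, Subgroup.mem_centralizer_iff.mp hr f' hf']
    apply hq₀
    have hc : q₀⁻¹ * u q₀ ∈ C := by
      refine Subgroup.mem_centralizer_iff.mpr fun f hf => ?_
      have hg : q₀ * f * q₀⁻¹ ∈ F := hFn f hf q₀
      have h1 := hFu _ hg
      rw [map_mul, map_mul, map_inv, hFu f hf] at h1
      have h2 : u q₀ * f = q₀ * f * q₀⁻¹ * u q₀ := by rw [← h1]; group
      rw [mul_assoc, h2]; group
    have := hdiff q₀ (q₀⁻¹ * u q₀) (by group) (hmin C hC hCw _ hc)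
    exact (inv_mul_eq_one.mp this).symm
  have hcm : ∀ b a : Q, cm b a ∈ F := by
    intro b a
    have : cm b a = (b ^ 2)⁻¹ * (b * a⁻¹) ^ 2 * a ^ 2 := by simp [cm, pow_two, mul_assoc]
    rw [this]
    exact F.mul_mem (F.mul_mem (F.inv_mem (hsq b)) (hsq _)) (hsq a)
  have hba : ∀ b a : Q, b * a = a * b * cm b a := by intro b a; simp [cm, mul_assoc]
  have hcm2 : ∀ b a : Q, cm b a * cm b a = 1 := by
    intro b a
    have hc := hFc _ (hcm b a)
    have e1 : b * (a * a) = (a * a) * b := by rw [← pow_two]; exact hFc _ (hsq a) b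
    have e2 : b * (a * a) = (a * a) * b * (cm b a * cm b a) := by
      calc b * (a * a) = (b * a) * a := by group
        _ = a * b * (cm b a * a) := by rw [hba b a]; group
        _ = a * b * (a * cm b a) := by rw [← hc a]
        _ = a * (b * a) * cm b a := by group
        _ = a * (a * b * cm b a) * cm b a := by rw [← hba b a]
        _ = _ := by group
    exact mul_eq_left.mp (e2.symm.trans e1)
  have hmulsq : ∀ a b : Q, (a * b) ^ 2 = a ^ 2 * b ^ 2 * cm b a := by
    intro a b
    calc (a * b) ^ 2 = a * (b * a) * b := by rw [pow_two]; group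
      _ = a * (a * b * cm b a) * b := by rw [← hba b a]
      _ = a * a * b * (cm b a * b) := by group
      _ = a * a * b * (b * cm b a) := by rw [← hFc _ (hcm b a) b]
      _ = _ := by rw [pow_two, pow_two]; group
  -- exponent four
  have hexp : ∀ q : Q, q ^ 4 = 1 := by
    have hpow : ∀ a b : Q, (a * b) ^ 4 = a ^ 4 * b ^ 4 := by
      intro a b
      have c1 : Commute (a ^ 2) (b ^ 2) := (hFc _ (hsq b) (a ^ 2))
      have c2 : Commute (a ^ 2 * b ^ 2) (cm b a) := (hFc _ (hcm b a) _)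
      rw [show (4 : ℕ) = 2 * 2 from rfl, pow_mul, pow_mul, pow_mul, hmulsq, c2.mul_pow, c1.mul_pow,
        pow_two (cm b a), hcm2, mul_one]
    let K : Subgroup Q :=
      { carrier := {q | q ^ 4 = 1}
        one_mem' := one_pow 4
        mul_mem' := fun {a b} ha hb => by
          simp only [Set.mem_setOf_eq] at *
          rw [hpow, ha, hb, one_mul]
        inv_mem' := fun {a} ha => by
          simp only [Set.mem_setOf_eq] at *
          rw [inv_pow, ha, inv_one] }
    suffices hK : K = ⊤ by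
      intro q; exact (show q ∈ K by rw [hK]; exact Subgroup.mem_top q)
    by_contra hK
    apply hq₀
    have hKw : ∀ r ∈ K, w r ∈ K := fun r hr => show w r ^ 4 = 1 by
      rw [← map_pow, show r ^ 4 = 1 from hr, map_one]
    have hc : q₀⁻¹ * u q₀ ∈ K := by
      show (q₀⁻¹ * u q₀) ^ 4 = 1
      rw [hpow, ← map_pow, hFu (q₀ ^ 4) (by
        rw [show (4 : ℕ) = 2 * 2 from rfl, pow_mul]; exact hsq _), inv_pow, inv_mul_cancel]
    have := hdiff q₀ (q₀⁻¹ * u q₀) (by group) (hmin K hK hKw _ hc)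
    exact (inv_mul_eq_one.mp this).symm
  have hF2 : ∀ f ∈ F, f ^ 2 = 1 := by
    intro f hf
    induction hf using Subgroup.closure_induction with
    | mem x hx => obtain ⟨q, rfl⟩ := hx; simp only [← pow_mul]; exact hexp q
    | one => exact one_pow 2
    | mul x y hx _ ihx ihy =>
      have : Commute x y := (hFc x hx y).symm
      rw [this.mul_pow, ihx, ihy, one_mul]
    | inv x _ ih => rw [inv_pow, ih, inv_one]
  have hF4 : Nat.card F ≤ 4 :=
    hel F ⟨⟨fun a b => Subtype.ext (hFc _ b.2 a)⟩⟩ hF2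
  -- action on V
  let W : MulAut (Q ⧸ F) := QuotientGroup.congr F F w (by
    refine Subgroup.eq_of_le_of_card_ge ?_ ?_
    · rintro _ ⟨f, hf, rfl⟩; exact hFw f hf
    · exact le_of_eq (Nat.card_congr (F.equivMapOfInjective _ w.injective).toEquiv))
  have hW : ∀ (k : ℕ) (q : Q), (W ^ k) (QuotientGroup.mk q) = QuotientGroup.mk ((w ^ k) q) := by
    intro k
    induction k with
    | zero => intro q; rfl
    | succ k ih =>
      intro q
      rw [pow_succ, pow_succ, MulAut.mul_apply, MulAut.mul_apply]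
      exact (congrArg (W ^ k) (QuotientGroup.congr_mk F F w _ q)).trans (ih _)
  have hW9 : W ^ 9 = 1 := by
    ext v; obtain ⟨q, rfl⟩ := QuotientGroup.mk_surjective v
    rw [hW, h9]; rfl
  have hv₀ : (W ^ 3) (QuotientGroup.mk q₀) ≠ QuotientGroup.mk q₀ := by
    intro h
    rw [hW, QuotientGroup.eq] at h
    apply hq₀
    have hm : q₀⁻¹ * u q₀ ∈ F := by
      have := F.inv_mem h
      simpa using this
    have := hdiff q₀ (q₀⁻¹ * u q₀) (by group) (hFu _ hm)
    exact (inv_mul_eq_one.mp this).symm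
  have hord : orderOf W = 3 ^ (1 + 1) := by
    haveI := Fact.mk Nat.prime_three
    refine orderOf_eq_prime_pow ?_ hW9
    intro h
    exact hv₀ (by rw [show (3 : ℕ) = 3 ^ 1 from rfl, h]; rfl)
  let Fix : Subgroup (Q ⧸ F) := (W ^ 3).toMonoidHom.eqLocus (MonoidHom.id _)
  have hFix : ∀ v, v ∈ Fix ↔ (W ^ 3) v = v := fun v => Iff.rfl
  have h6 : 64 ≤ Nat.card (Q ⧸ F) := by
    obtain ⟨m, hm⟩ := IsPGroup.iff_card.mp (hQ.to_quotient F)
    obtain ⟨j, hj⟩ := IsPGroup.iff_card.mp ((hQ.to_quotient F).to_subgroup Fix)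
    let S : SubMulAction (Subgroup.zpowers W) (Q ⧸ F) :=
      { carrier := {v | v ∉ Fix}
        smul_mem' := by
          rintro ⟨g, k, rfl⟩ v hv hc
          apply hv
          rw [hFix] at hc ⊢
          have hcomm : W ^ 3 * W ^ k = W ^ k * W ^ 3 := by
            rw [← zpow_natCast, ← zpow_add, ← zpow_add, add_comm]
          have hc' : (W ^ 3) ((W ^ k) v) = (W ^ k) v := hc
          rw [← MulAut.mul_apply, hcomm, MulAut.mul_apply] at hc'
          exact (W ^ k).injective hc' }
    have hstab : ∀ v : S, MulAction.stabilizer (Subgroup.zpowers W) v = ⊥ := by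
      intro v
      rw [Subgroup.eq_bot_iff_forall]
      rintro ⟨g, hg⟩ hgv
      obtain ⟨k, rfl⟩ := Subgroup.mem_zpowers_iff.mp hg
      have hgv' : (W ^ k) (v : Q ⧸ F) = v := congrArg Subtype.val hgv
      let St : Subgroup (MulAut (Q ⧸ F)) := MulAction.stabilizer (MulAut (Q ⧸ F)) (v : Q ⧸ F)
      have hk : W ^ k ∈ St := hgv'
      have h9' : W ^ (9 : ℤ) = 1 := by exact_mod_cast hW9
      have hmod : W ^ k = W ^ (k % 9) := by
        conv_lhs => rw [← Int.mul_ediv_add_emod k 9, zpow_add, zpow_mul, h9', one_zpow, one_mul]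
      apply Subtype.ext
      show W ^ k = 1
      rw [hmod] at hk ⊢
      by_contra hk0
      apply v.2
      rw [hFix]
      have hr1 := Int.emod_nonneg k (show (9 : ℤ) ≠ 0 by norm_num)
      have hr2 := Int.emod_lt_of_pos k (show (0 : ℤ) < 9 by norm_num)
      suffices ∃ m : ℤ, (W ^ (k % 9)) ^ m = W ^ 3 by
        obtain ⟨m, hm⟩ := this
        have := St.zpow_mem hk m
        rw [hm] at this
        exact this
      have key : ∀ r m t : ℤ, r * m = 3 + 9 * t → (W ^ r) ^ m = W ^ 3 := by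
        intro r m t h
        rw [← zpow_mul, h, zpow_add, zpow_mul, h9', one_zpow, mul_one]
        norm_cast
      generalize k % 9 = r at *
      interval_cases r
      · exact absurd (zpow_zero W) hk0
      · exact ⟨3, key 1 3 0 (by norm_num)⟩
      · exact ⟨6, key 2 6 1 (by norm_num)⟩
      · exact ⟨1, key 3 1 0 (by norm_num)⟩
      · exact ⟨3, key 4 3 1 (by norm_num)⟩
      · exact ⟨6, key 5 6 3 (by norm_num)⟩
      · exact ⟨2, key 6 2 1 (by norm_num)⟩
      · exact ⟨3, key 7 3 2 (by norm_num)⟩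
      · exact ⟨6, key 8 6 5 (by norm_num)⟩
    have hS := Nat.card_congr (MulAction.selfEquivOrbitsQuotientProd hstab)
    rw [Nat.card_prod, Nat.card_zpowers, hord] at hS
    have hsplit : Nat.card Fix + Nat.card S = Nat.card (Q ⧸ F) := by
      rw [← Nat.card_sum]
      exact Nat.card_congr (Equiv.sumCompl fun v => v ∈ Fix)
    have hpos : 0 < Nat.card S := Nat.card_pos_iff.mpr ⟨⟨⟨QuotientGroup.mk q₀, hv₀⟩⟩, inferInstance⟩
    rw [hm, hj] at hsplit
    by_contra hlt
    rw [hm, show (64 : ℕ) = 2 ^ 6 from rfl] at hlt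
    have hm6 : m < 6 := (Nat.pow_lt_pow_iff_right (show 1 < 2 by norm_num)).mp (lt_of_not_ge hlt)
    have hjm : j < m := (Nat.pow_lt_pow_iff_right (show 1 < 2 by norm_num)).mp (by omega)
    generalize Nat.card S = s at *
    interval_cases m <;> interval_cases j <;> omega
  -- combinatorics
  have hcommF : ∀ y z : Q, cm y z = 1 → y * z = z * y := fun y z h => by rw [hba y z, h, mul_one]
  let Ce : Q → Subgroup Q := fun y => Subgroup.centralizer {y}
  have hCe : ∀ y z : Q, z ∈ Ce y → y * z = z * y := fun y z h =>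
    Subgroup.mem_centralizer_iff.mp h y rfl
  have hFCe : ∀ y, F ≤ Ce y := fun y f hf =>
    Subgroup.mem_centralizer_iff.mpr fun a ha => by rw [Set.mem_singleton_iff.mp ha]; exact hFc f hf y
  -- size of centralisers
  have hCcard : ∀ (y : Q) (R : Subgroup Q), Nat.card R ≤ Nat.card ↥(R ⊓ Ce y) * Nat.card F := by
    intro y R
    let C : Subgroup R := (Ce y).subgroupOf R
    have hidx : C.index ≤ Nat.card F := by
      let φ : R ⧸ C → F := fun c => ⟨cm c.out.1 y, hcm _ _⟩
      refine Nat.card_le_card_of_injective φ ?_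
      intro c d hcd
      have h1 : cm c.out.1 y = cm d.out.1 y := congrArg Subtype.val hcd
      rw [← QuotientGroup.out_eq' c, ← QuotientGroup.out_eq' d, QuotientGroup.eq]
      have h2 : (c.out.1)⁻¹ * y⁻¹ * c.out.1 = (d.out.1)⁻¹ * y⁻¹ * d.out.1 := mul_right_cancel h1
      have h3 : (c.out.1⁻¹ * y⁻¹ * c.out.1)⁻¹ = (d.out.1⁻¹ * y⁻¹ * d.out.1)⁻¹ := by rw [h2]
      simp only [mul_inv_rev, inv_inv] at h3
      refine Subgroup.mem_subgroupOf.mpr (Subgroup.mem_centralizer_iff.mpr fun a ha => ?_)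
      rw [Set.mem_singleton_iff.mp ha]
      simp only [Subgroup.coe_mul, Subgroup.coe_inv]
      have h4 : c.out.1 * d.out.1⁻¹ * y = y * (c.out.1 * d.out.1⁻¹) := by
        have := congrArg (fun t => c.out.1 * t * d.out.1⁻¹) h3
        simpa [mul_assoc] using this.symm
      -- pass from `c d⁻¹` to `c⁻¹ d`, which differ by a central element
      have e2 : c.out.1⁻¹ * d.out.1 = c.out.1 * d.out.1⁻¹ * ((c.out.1 * d.out.1⁻¹)⁻¹ * (c.out.1⁻¹ * d.out.1)) := by group
      have e3 : (c.out.1 * d.out.1⁻¹)⁻¹ * (c.out.1⁻¹ * d.out.1) ∈ F := by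
        have : (c.out.1 * d.out.1⁻¹)⁻¹ * (c.out.1⁻¹ * d.out.1) = d.out.1 * (c.out.1 ^ 2)⁻¹ * d.out.1⁻¹ * (d.out.1 ^ 2) := by
          simp [pow_two, mul_assoc]
        rw [this]
        exact F.mul_mem (hFn _ (F.inv_mem (hsq _)) _) (hsq _)
      rw [e2, ← mul_assoc y, ← h4, mul_assoc _ y, hFc _ e3 y]
      group
    have hC : Nat.card C = Nat.card ↥(R ⊓ Ce y) := by
      show Nat.card ((Ce y).subgroupOf R) = _
      rw [← Subgroup.inf_subgroupOf_left]
      exact Nat.card_congr (Subgroup.subgroupOfEquivOfLe inf_le_left).toEquiv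
    rw [← C.index_mul_card, hC, mul_comm]
    exact Nat.mul_le_mul_left _ hidx
  have hQV : Nat.card Q = Nat.card (Q ⧸ F) * Nat.card F := Subgroup.card_eq_card_quotient_mul_card_subgroup F
  -- picking elements outside a small set of cosets
  have hpick : ∀ (R : Subgroup Q) (T : Finset (Q ⧸ F)), T.card * Nat.card F < Nat.card R →
      ∃ y ∈ R, QuotientGroup.mk y ∉ T := by
    intro R T hT
    by_contra hc
    push Not at hc
    let φ : R → T × F := fun y => (⟨QuotientGroup.mk y.1, hc y.1 y.2⟩,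
      ⟨(QuotientGroup.mk (s := F) y.1).out⁻¹ * y.1, QuotientGroup.eq.mp (QuotientGroup.out_eq' _)⟩)
    have := Nat.card_le_card_of_injective φ (by
      intro a b hab
      simp only [φ, Prod.mk.injEq, Subtype.mk.injEq] at hab
      rw [hab.1] at hab
      exact Subtype.ext (mul_left_cancel hab.2))
    rw [Nat.card_prod, Nat.card_eq_finsetCard] at this
    omega
  have hmk : ∀ y f : Q, f ∈ F → (QuotientGroup.mk (y * f) : Q ⧸ F) = QuotientGroup.mk y := by
    intro y f hf
    rw [QuotientGroup.eq]; simpa using F.inv_mem hf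
  -- an abelian subgroup over F with large image kills us
  have habel : ∀ x y z : Q, x * y = y * x → x * z = z * x → y * z = z * y →
      (QuotientGroup.mk x : Q ⧸ F) ∉ ({1} : Finset (Q ⧸ F)) →
      (QuotientGroup.mk y : Q ⧸ F) ∉ ({1, QuotientGroup.mk x} : Finset (Q ⧸ F)) →
      (QuotientGroup.mk z : Q ⧸ F) ∉ ({1, QuotientGroup.mk x, QuotientGroup.mk y,
        QuotientGroup.mk (x * y)} : Finset (Q ⧸ F)) → False := by
    intro x y z hxy hxz hyz hx' hy' hz'
    let A : Subgroup Q := Subgroup.closure ((F : Set Q) ∪ {x, y, z})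
    have hcc : ∀ a ∈ (F : Set Q) ∪ {x, y, z}, ∀ b ∈ (F : Set Q) ∪ {x, y, z}, a * b = b * a := by
      rintro a ha b hb
      rcases ha with ha | rfl | rfl | rfl <;> rcases hb with hb | rfl | rfl | rfl <;>
        first
          | rfl
          | exact hFc b hb _
          | exact (hFc a ha _).symm
          | assumption
          | (exact hxy.symm)
          | (exact hxz.symm)
          | (exact hyz.symm)
    have hcomm := Subgroup.isMulCommutative_closure hcc
    have hmulc : ∀ a ∈ A, ∀ b ∈ A, Commute a b := fun a ha b hb =>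
      congrArg Subtype.val (hcomm.is_comm.comm ⟨a, ha⟩ ⟨b, hb⟩)
    have hFA : F ≤ A := fun f hf => Subgroup.subset_closure (Or.inl hf)
    have hx0 : x ∈ A := Subgroup.subset_closure (Or.inr (Or.inl rfl))
    have hy0 : y ∈ A := Subgroup.subset_closure (Or.inr (Or.inr (Or.inl rfl)))
    have hz0 : z ∈ A := Subgroup.subset_closure (Or.inr (Or.inr (Or.inr rfl)))
    let sq : A →* F :=
      { toFun := fun a => ⟨(a : Q) ^ 2, hsq _⟩
        map_one' := Subtype.ext (one_pow 2)
        map_mul' := fun a b => Subtype.ext ((hmulc _ a.2 _ b.2).mul_pow 2) }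
    have hker : Nat.card (sq.ker.map A.subtype) ≤ 4 := by
      refine hel _ ⟨⟨fun a b => Subtype.ext (hmulc _ ?_ _ ?_)⟩⟩ ?_
      · obtain ⟨⟨c, hc⟩, -, h⟩ := a.2; exact h ▸ hc
      · obtain ⟨⟨c, hc⟩, -, h⟩ := b.2; exact h ▸ hc
      · rintro e ⟨c, hc, rfl⟩
        exact congrArg Subtype.val hc
    rw [Subgroup.card_map_of_injective A.subtype_injective] at hker
    have hA : Nat.card A ≤ 4 * Nat.card F := by
      rw [← sq.ker.index_mul_card, Subgroup.index_ker, mul_comm]
      exact Nat.mul_le_mul hker (Nat.card_le_card_of_injective _ Subtype.val_injective)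
    let L : Subgroup (Q ⧸ F) := A.map (QuotientGroup.mk' F)
    have hL : Nat.card A = Nat.card L * Nat.card F := by
      have h := (F.subgroupOf A).index_mul_card
      rw [← h]
      congr 1
      · show Nat.card (A ⧸ F.subgroupOf A) = _
        have : F.subgroupOf A = ((QuotientGroup.mk' F).comp A.subtype).ker := by
          ext a; simp [Subgroup.mem_subgroupOf]
        rw [← Subgroup.index_eq_card, this, Subgroup.index_ker, MonoidHom.range_comp,
          Subgroup.range_subtype]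
      · exact Nat.card_congr (Subgroup.subgroupOfEquivOfLe hFA).toEquiv
    set vx : Q ⧸ F := QuotientGroup.mk x
    set vy : Q ⧸ F := QuotientGroup.mk y
    set vz : Q ⧸ F := QuotientGroup.mk z
    simp only [Finset.mem_insert, Finset.mem_singleton, not_or, QuotientGroup.mk_mul] at hx' hy' hz'
    have hsub : ({1, vx, vy, vx * vy, vz} : Finset (Q ⧸ F)) ⊆ (L : Set (Q ⧸ F)).toFinite.toFinset := by
      intro v hv
      simp only [Set.Finite.mem_toFinset, SetLike.mem_coe]
      simp only [Finset.mem_insert, Finset.mem_singleton] at hv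
      have mx : vx ∈ L := ⟨x, hx0, rfl⟩
      have my : vy ∈ L := ⟨y, hy0, rfl⟩
      have mz : vz ∈ L := ⟨z, hz0, rfl⟩
      rcases hv with rfl | rfl | rfl | rfl | rfl <;>
        first | exact L.one_mem | exact L.mul_mem mx my | assumption
    have hc5 : ({1, vx, vy, vx * vy, vz} : Finset (Q ⧸ F)).card = 5 := by
      have e1 : vx * vy ≠ 1 := fun h => hy'.2 (by
        have : vx * vx = 1 := by
          show (QuotientGroup.mk (x * x) : Q ⧸ F) = 1
          rw [QuotientGroup.eq_one_iff, ← pow_two]; exact hsq x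
        exact mul_left_cancel (h.trans this.symm))
      have e2 : vx ≠ vx * vy := fun h => hy'.1 (mul_eq_left.mp h.symm)
      have e3 : vy ≠ vx * vy := fun h => hx' (mul_eq_right.mp h.symm)
      rw [Finset.card_insert_of_notMem, Finset.card_insert_of_notMem, Finset.card_insert_of_notMem,
        Finset.card_insert_of_notMem, Finset.card_singleton]
      · exact fun h => hz'.2.2.2 (Finset.mem_singleton.mp h).symm
      · simp [e3, Ne.symm hz'.2.2.1]
      · simp [Ne.symm hy'.2, e2, Ne.symm hz'.2.1]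
      · simp [Ne.symm hx', Ne.symm hy'.1, Ne.symm e1, Ne.symm hz'.1]
    have hle5 := Finset.card_le_card hsub
    rw [hc5, ← Set.ncard_eq_toFinset_card, ← Nat.card_coe_set_eq] at hle5
    simp only [SetLike.coe_sort_coe] at hle5
    have := Nat.card_pos (α := F)
    nlinarith
  -- first element
  obtain ⟨x, -, hx⟩ := hpick ⊤ {1} (by
    rw [Finset.card_singleton, Subgroup.card_top, hQV]
    have := Nat.card_pos (α := F)
    nlinarith)
  have hCx := hCcard x ⊤
  rw [top_inf_eq, Subgroup.card_top, hQV] at hCx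
  have hFpos := Nat.card_pos (α := F)
  by_cases hsmall : Nat.card F ≤ 2
  · obtain ⟨y, hy1, hy2⟩ := hpick (Ce x) {1, QuotientGroup.mk x} (by
      have := Finset.card_le_two (a := (1 : Q ⧸ F)) (b := QuotientGroup.mk x)
      nlinarith)
    have hCy := hCcard y (Ce x)
    obtain ⟨z, hz1, hz2⟩ := hpick (Ce x ⊓ Ce y)
      {1, QuotientGroup.mk x, QuotientGroup.mk y, QuotientGroup.mk (x * y)} (by
      have := Finset.card_le_four (a := (1 : Q ⧸ F)) (b := QuotientGroup.mk x)
        (c := QuotientGroup.mk y) (d := QuotientGroup.mk (x * y))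
      nlinarith)
    exact habel x y z (hCe x y hy1) (hCe x z hz1.1) (hCe y z hz1.2) hx hy2 hz2
  have hF : Nat.card F = 4 := by
    obtain ⟨i, hi⟩ := IsPGroup.iff_card.mp (hQ.to_subgroup F)
    rw [hi] at hF4 hsmall ⊢
    rcases i with - | - | - | i
    · simp at hsmall
    · simp at hsmall
    · rfl
    · exfalso
      have : 2 ^ 3 ≤ 2 ^ (i + 3) := Nat.pow_le_pow_right (by norm_num) (by omega)
      omega
  have hnoinv : ∀ y : Q, (QuotientGroup.mk y : Q ⧸ F) ≠ 1 → y ^ 2 ≠ 1 := by
    intro y hy hy2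
    let E : Subgroup Q := Subgroup.closure ((F : Set Q) ∪ {y})
    have hcc : ∀ a ∈ (F : Set Q) ∪ {y}, ∀ b ∈ (F : Set Q) ∪ {y}, a * b = b * a := by
      rintro a (ha | rfl) b (hb | rfl)
      · exact hFc b hb a
      · exact (hFc a ha _).symm
      · exact hFc b hb _
      · rfl
    have hcomm := Subgroup.isMulCommutative_closure hcc
    have h4 := hel E hcomm (fun e he => by
      induction he using Subgroup.closure_induction with
      | mem a ha => rcases ha with ha | rfl <;> [exact hF2 a ha; exact hy2]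
      | one => exact one_pow 2
      | mul a b ha hb iha ihb =>
        have : Commute a b := congrArg Subtype.val (hcomm.is_comm.comm ⟨a, ha⟩ ⟨b, hb⟩)
        rw [this.mul_pow, iha, ihb, one_mul]
      | inv a _ ih => rw [inv_pow, ih, inv_one])
    have hle : F ≤ E := fun f hf => Subgroup.subset_closure (Or.inl hf)
    have heq := Subgroup.eq_of_le_of_card_ge hle (h4.trans hF.ge)
    exact hy ((QuotientGroup.eq_one_iff y).mpr (heq ▸ Subgroup.subset_closure (Or.inr rfl)))
  simp only [Finset.mem_singleton] at hx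
  set a := x ^ 2 with ha
  have ha1 : a ≠ 1 := hnoinv x hx
  have hvv : ∀ v : Q ⧸ F, v * v = 1 := by
    intro v; obtain ⟨q, rfl⟩ := QuotientGroup.mk_surjective v
    show (QuotientGroup.mk (q * q) : Q ⧸ F) = 1
    rw [QuotientGroup.eq_one_iff, ← pow_two]; exact hsq q
  have hC16 : 16 * 4 ≤ Nat.card (Ce x) := by rw [hF] at hCx; nlinarith
  -- values of squares on the centraliser of x
  have hval : ∀ y ∈ Ce x, (QuotientGroup.mk y : Q ⧸ F) ≠ 1 →
      (QuotientGroup.mk y : Q ⧸ F) ≠ QuotientGroup.mk x → y ^ 2 ≠ 1 ∧ y ^ 2 ≠ a := by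
    intro y hy h1 h2
    refine ⟨hnoinv y h1, fun h => ?_⟩
    refine hnoinv (x⁻¹ * y) ?_ ?_
    · rw [QuotientGroup.mk_mul, QuotientGroup.mk_inv]; exact fun e => h2 (inv_mul_eq_one.mp e).symm
    · have : Commute x⁻¹ y := (show Commute x y from hCe x y hy).inv_left
      rw [this.mul_pow, h, inv_pow, inv_mul_cancel]
  obtain ⟨y₁, hy1C, hy1⟩ := hpick (Ce x) {1, QuotientGroup.mk x} (by
    have := Finset.card_le_two (a := (1 : Q ⧸ F)) (b := QuotientGroup.mk x)
    rw [hF]; omega)
  simp only [Finset.mem_insert, Finset.mem_singleton, not_or] at hy1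
  set b := y₁ ^ 2 with hb
  obtain ⟨hb1, hba'⟩ : b ≠ 1 ∧ b ≠ a := hval y₁ hy1C hy1.1 hy1.2
  have haF : a ∈ F := hsq x
  have hbF : b ∈ F := hsq y₁
  have hcab : a * b = b * a := hFc b hbF a
  have haa : a * a = 1 := by rw [← pow_two]; exact hF2 a haF
  have hbb : b * b = 1 := by rw [← pow_two]; exact hF2 b hbF
  have hFel : ∀ f ∈ F, f = 1 ∨ f = a ∨ f = b ∨ f = a * b := by
    intro f hf
    by_contra hc
    simp only [not_or] at hc
    have hsub : ({1, a, b, a * b, f} : Finset Q) ⊆ (F : Set Q).toFinite.toFinset := by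
      intro v hv
      simp only [Set.Finite.mem_toFinset, SetLike.mem_coe]
      simp only [Finset.mem_insert, Finset.mem_singleton] at hv
      rcases hv with rfl | rfl | rfl | rfl | rfl <;>
        first | exact F.one_mem | exact F.mul_mem haF hbF | assumption
    have hle5 := Finset.card_le_card hsub
    have e1 : a * b ≠ 1 := fun h => hba' (mul_left_cancel (h.trans haa.symm))
    have e2 : a ≠ a * b := fun h => hb1 (mul_eq_left.mp h.symm)
    have e3 : b ≠ a * b := fun h => ha1 (mul_eq_right.mp h.symm)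
    rw [← Set.ncard_eq_toFinset_card, ← Nat.card_coe_set_eq, Finset.card_insert_of_notMem,
      Finset.card_insert_of_notMem, Finset.card_insert_of_notMem, Finset.card_insert_of_notMem,
      Finset.card_singleton] at hle5
    · simp only [SetLike.coe_sort_coe, hF] at hle5; omega
    · simp [Ne.symm hc.2.2.2]
    · simp [e3, Ne.symm hc.2.2.1]
    · simp [Ne.symm hba', e2, Ne.symm hc.2.1]
    · simp [Ne.symm ha1, Ne.symm hb1, Ne.symm e1, Ne.symm hc.1]
  -- normalised elements
  have hnorm : ∀ T : Finset (Q ⧸ F), T.card ≤ 8 → (1 : Q ⧸ F) ∈ T → (QuotientGroup.mk x : Q ⧸ F) ∈ T →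
      (∀ v ∈ T, QuotientGroup.mk x * v ∈ T) →
      ∃ y ∈ Ce x, (QuotientGroup.mk y : Q ⧸ F) ∉ T ∧ y ^ 2 = b := by
    intro T hT h1 h2 hclosed
    obtain ⟨y, hyC, hy⟩ := hpick (Ce x) T (by rw [hF]; omega)
    obtain ⟨s1, s2⟩ := hval y hyC (fun h => hy (h ▸ h1)) (fun h => hy (h ▸ h2))
    rcases hFel (y ^ 2) (hsq y) with h | h | h | h
    · exact absurd h s1
    · exact absurd h s2
    · exact ⟨y, hyC, hy, h⟩
    · refine ⟨x * y, (Ce x).mul_mem (Subgroup.mem_centralizer_iff.mpr (by simp)) hyC, ?_, ?_⟩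
      · intro h'
        apply hy
        have := hclosed _ h'
        rwa [QuotientGroup.mk_mul, ← mul_assoc, hvv, one_mul] at this
      · rw [(show Commute x y from hCe x y hyC).mul_pow, h, ← mul_assoc, ← ha, haa, one_mul]
  set vx : Q ⧸ F := QuotientGroup.mk x with hvx
  set v₁ : Q ⧸ F := QuotientGroup.mk y₁ with hv₁
  obtain ⟨y₂, hy2C, hy2, hy2b⟩ := hnorm {1, vx, v₁, vx * v₁}
    (Finset.card_le_four.trans (by norm_num)) (by simp) (by simp) (by
      intro v hv
      simp only [Finset.mem_insert, Finset.mem_singleton] at hv ⊢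
      rcases hv with rfl | rfl | rfl | rfl <;> simp [hvv, ← mul_assoc])
  set v₂ : Q ⧸ F := QuotientGroup.mk y₂ with hv₂
  obtain ⟨y₃, hy3C, hy3, hy3b⟩ := hnorm {1, vx, v₁, vx * v₁, v₂, vx * v₂, v₁ * v₂, vx * (v₁ * v₂)}
    (by repeat (first | exact Nat.le_refl _ | (refine (Finset.card_insert_le _ _).trans (Nat.succ_le_succ ?_))))
    (by simp) (by simp) (by
      intro v hv
      simp only [Finset.mem_insert, Finset.mem_singleton] at hv ⊢
      rcases hv with rfl | rfl | rfl | rfl | rfl | rfl | rfl | rfl <;> simp [hvv, ← mul_assoc])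
  set v₃ : Q ⧸ F := QuotientGroup.mk y₃ with hv₃
  simp only [Finset.mem_insert, Finset.mem_singleton, not_or] at hy2 hy3
  have hgood : ∀ y ∈ Ce x, (QuotientGroup.mk y : Q ⧸ F) ≠ 1 →
      (QuotientGroup.mk y : Q ⧸ F) ≠ vx → y ^ 2 = b ∨ y ^ 2 = a * b := by
    intro y hy h1 h2
    obtain ⟨s1, s2⟩ := hval y hy h1 h2
    rcases hFel (y ^ 2) (hsq y) with h | h | h | h
    · exact absurd h s1
    · exact absurd h s2
    · exact Or.inl h
    · exact Or.inr h
  have hcancel : ∀ p q r : Q ⧸ F, p * q = r → q = p * r := by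
    intro p q r h; rw [← h, ← mul_assoc, hvv, one_mul]
  have hflip : ∀ p q r : Q ⧸ F, p * q = r → p = r * q := by
    intro p q r h; rw [← h, mul_assoc, hvv, mul_one]
  have hc12 : cm y₂ y₁ = b ∨ cm y₂ y₁ = a * b := by
    have := hgood (y₁ * y₂) ((Ce x).mul_mem hy1C hy2C)
      (fun h => hy2.2.2.1 (by have := hcancel v₁ v₂ 1 h; simpa using this))
      (fun h => hy2.2.2.2 (by
        have h' := hcancel v₁ v₂ vx h
        rw [h', abel_mk F hcm hsq y₁ x]))
    rwa [hmulsq, ← hb, hy2b, hbb, one_mul] at this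
  have hc13 : cm y₃ y₁ = b ∨ cm y₃ y₁ = a * b := by
    have := hgood (y₁ * y₃) ((Ce x).mul_mem hy1C hy3C)
      (fun h => hy3.2.2.1 (by have := hcancel v₁ v₃ 1 h; simpa using this))
      (fun h => hy3.2.2.2.1 (by
        have h' := hcancel v₁ v₃ vx h
        rw [h', abel_mk F hcm hsq y₁ x]))
    rwa [hmulsq, ← hb, hy3b, hbb, one_mul] at this
  have hc23 : cm y₃ y₂ = b ∨ cm y₃ y₂ = a * b := by
    have := hgood (y₂ * y₃) ((Ce x).mul_mem hy2C hy3C)
      (fun h => hy3.2.2.2.2.1 (by have := hcancel v₂ v₃ 1 h; simpa using this))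
      (fun h => hy3.2.2.2.2.2.1 (by
        have h' := hcancel v₂ v₃ vx h
        rw [h', abel_mk F hcm hsq y₂ x]))
    rwa [hmulsq, hy2b, hy3b, hbb, one_mul] at this
  have hcc : cm y₃ (y₁ * y₂) = cm y₃ y₁ * cm y₃ y₂ := by
    have e : y₁ * y₂ * y₃ * cm y₃ (y₁ * y₂) = y₁ * y₂ * y₃ * (cm y₃ y₁ * cm y₃ y₂) := by
      rw [← hba y₃ (y₁ * y₂)]
      calc y₃ * (y₁ * y₂) = (y₃ * y₁) * y₂ := by group
        _ = y₁ * y₃ * cm y₃ y₁ * y₂ := by rw [← hba]
        _ = y₁ * y₃ * (cm y₃ y₁ * y₂) := by group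
        _ = y₁ * y₃ * (y₂ * cm y₃ y₁) := by rw [← hFc _ (hcm y₃ y₁) y₂]
        _ = y₁ * (y₃ * y₂) * cm y₃ y₁ := by group
        _ = y₁ * (y₂ * y₃ * cm y₃ y₂) * cm y₃ y₁ := by rw [← hba]
        _ = y₁ * y₂ * y₃ * (cm y₃ y₂ * cm y₃ y₁) := by group
        _ = _ := by rw [hFc _ (hcm y₃ y₁) (cm y₃ y₂)]
    exact mul_left_cancel e
  have h123 := hgood (y₁ * y₂ * y₃) ((Ce x).mul_mem ((Ce x).mul_mem hy1C hy2C) hy3C)
    (fun h => hy3.2.2.2.2.2.2.1 (by have := hcancel (v₁ * v₂) v₃ 1 h; simpa using this))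
    (fun h => hy3.2.2.2.2.2.2.2 (by
      have h' := hcancel (v₁ * v₂) v₃ vx h
      rw [h']
      exact abel_mk F hcm hsq (y₁ * y₂) x))
  rw [hmulsq, hmulsq, ← hb, hy2b, hy3b, hbb, one_mul, hcc] at h123
  have ca : ∀ t : Q, b * (a * t) = a * (b * t) := fun t => by rw [← mul_assoc, ← hcab, mul_assoc]
  have aa : ∀ t : Q, a * (a * t) = t := fun t => by rw [← mul_assoc, haa, one_mul]
  have bb : ∀ t : Q, b * (b * t) = t := fun t => by rw [← mul_assoc, hbb, one_mul]
  rcases hc12 with h | h <;> rcases hc13 with h' | h' <;> rcases hc23 with h'' | h'' <;>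
    (rw [h, h', h''] at h123
     simp only [mul_assoc, ← hcab, ca, aa, bb, haa, hbb, mul_one, one_mul] at h123
     rcases h123 with e | e <;>
       first
        | exact hb1 e.symm
        | exact hba' e.symm
        | exact ha1 (mul_eq_right.mp e.symm)
        | exact hb1 (mul_eq_left.mp e.symm)
        | exact hba' (mul_left_cancel (e.symm.trans haa.symm)))

theorem no_nine (hQ : IsPGroup 2 Q)
    (hel : ∀ E : Subgroup Q, IsMulCommutative E → (∀ e ∈ E, e ^ 2 = 1) → Nat.card E ≤ 4)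
    (w : MulAut Q) (h9 : w ^ 9 = 1) : w ^ 3 = 1 := by
  classical
  by_contra hne
  obtain ⟨q₀, hq₀⟩ : ∃ q, (w ^ 3) q ≠ q := by
    by_contra h; push Not at h; exact hne (MulEquiv.ext h)
  let S : Set (Subgroup Q) := {R | (∀ r ∈ R, w r ∈ R) ∧ ∃ r ∈ R, (w ^ 3) r ≠ r}
  obtain ⟨R, hR, hRmin⟩ := Set.Finite.exists_minimal (Set.toFinite S)
    ⟨⊤, fun _ _ => Subgroup.mem_top _, q₀, Subgroup.mem_top _, hq₀⟩
  obtain ⟨hRw, r₀, hr₀, hne₀⟩ := hR
  let wR : MulAut R := MulEquiv.ofBijective
    ({ toFun := fun r => ⟨w r, hRw _ r.2⟩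
       map_one' := Subtype.ext (map_one w)
       map_mul' := fun a b => Subtype.ext (map_mul w _ _) } : R →* R)
    (Finite.injective_iff_bijective.mp fun a b h => Subtype.ext (w.injective (congrArg Subtype.val h)))
  have hk : ∀ (k : ℕ) (r : R), (((wR ^ k) r : R) : Q) = (w ^ k) (r : Q) := by
    intro k
    induction k with
    | zero => intro r; rfl
    | succ k ih =>
      intro r
      rw [pow_succ, pow_succ, MulAut.mul_apply, MulAut.mul_apply, ih]
      rfl
  refine core (hQ.to_subgroup R) (fun E hE hE2 => ?_) wR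
    (MulEquiv.ext fun r => Subtype.ext (by rw [hk, h9]; rfl)) ⟨r₀, hr₀⟩
    (fun h => hne₀ (by rw [← hk 3 ⟨r₀, hr₀⟩, h])) (fun T hT hTw t ht => ?_)
  · rw [← Subgroup.card_map_of_injective R.subtype_injective]
    refine hel _ ⟨⟨?_⟩⟩ ?_
    · rintro ⟨_, a, ha, rfl⟩ ⟨_, b, hb, rfl⟩
      exact Subtype.ext (congrArg (fun e : E => ((e : R) : Q)) (hE.is_comm.comm ⟨a, ha⟩ ⟨b, hb⟩))
    · rintro _ ⟨a, ha, rfl⟩
      rw [← map_pow, hE2 a ha, map_one]
  · by_contra htne
    apply hT
    have hmem : T.map R.subtype ∈ S := by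
      refine ⟨?_, (t : Q), ⟨t, ht, rfl⟩, fun h => htne (Subtype.ext ((hk 3 t).trans h))⟩
      rintro _ ⟨s, hs, rfl⟩
      exact ⟨wR s, hTw s hs, rfl⟩
    have h1 : R ≤ T.map R.subtype := hRmin hmem (Subgroup.map_subtype_le T)
    rw [eq_top_iff]
    intro r _
    obtain ⟨s, hs, he⟩ := h1 r.2
    rwa [Subtype.ext he] at hs

/-- Let d be a non-identity 3-element of a finite group and P a 2-subgroup normalized by d on which ⟨d⟩ acts faithfully (no non-identity power of d centralizes P) and without non-identity fixed points (C_P(d) = 1). If every abelian subgroup of P has 2-rank at most 2, then d has order 3. -/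
theorem result {X : Type*} [Group X] [Finite X] (d : X) (n : ℕ) (hn : 1 ≤ n) (hd : orderOf d = 3 ^ n) (P : Subgroup X) (hP : IsPGroup 2 P) (hdP : d ∈ Subgroup.normalizer (P : Set X)) (hfaith : Subgroup.zpowers d ⊓ Subgroup.centralizer (P : Set X) = ⊥) (hfpf : P ⊓ Subgroup.centralizer {d} = ⊥) (hrank : ∀ V : Subgroup X, V ≤ P → IsMulCommutative V → Cfsg.PRankLE 2 2 V) : orderOf d = 3 := by
  by_contra hne
  obtain ⟨m, rfl⟩ : ∃ m, n = m + 2 := ⟨n - 2, by
    rcases n with - | - | n
    · omega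
    · exact absurd (by simpa using hd) hne
    · omega⟩
  let φ := Subgroup.normalizerMonoidHom P
  let D : Subgroup.normalizer (P : Set X) := ⟨d, hdP⟩
  let w : MulAut P := φ D ^ (3 ^ m)
  have hD : D ^ (3 ^ (m + 2)) = 1 := Subtype.ext (by
    rw [SubmonoidClass.coe_pow]; show d ^ _ = 1; rw [← hd, pow_orderOf_eq_one])
  have h9 : w ^ 9 = 1 := by
    show (φ D ^ 3 ^ m) ^ 9 = 1
    rw [← pow_mul, ← map_pow, show 3 ^ m * 9 = 3 ^ (m + 2) by ring, hD, map_one]
  have h3 := no_nine hP (fun E hE hE2 => by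
    have hEc : IsMulCommutative (E.map P.subtype) := ⟨⟨by
      rintro ⟨_, a, ha, rfl⟩ ⟨_, b, hb, rfl⟩
      exact Subtype.ext (congrArg (fun e : E => ((e : P) : X)) (hE.is_comm.comm ⟨a, ha⟩ ⟨b, hb⟩))⟩⟩
    have := hrank (E.map P.subtype) (Subgroup.map_subtype_le E) hEc ⊤
      ⟨⟨fun a b => Subtype.ext (hEc.is_comm.comm a.1 b.1)⟩⟩ (by
        rintro ⟨_, a, ha, rfl⟩ -
        exact Subtype.ext (show P.subtype a ^ 2 = 1 by rw [← map_pow, hE2 a ha, map_one]))
    rwa [Subgroup.card_top, Subgroup.card_map_of_injective P.subtype_injective] at this) w h9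
  have h3' : φ (D ^ 3 ^ (m + 1)) = 1 := by
    rw [map_pow, pow_succ, pow_mul]; exact h3
  have hcen : d ^ 3 ^ (m + 1) ∈ Subgroup.centralizer (P : Set X) := by
    have hker : D ^ 3 ^ (m + 1) ∈ φ.ker := h3'
    rw [Subgroup.normalizerMonoidHom_ker, Subgroup.mem_subgroupOf] at hker
    simpa [D] using hker
  have : d ^ 3 ^ (m + 1) ∈ Subgroup.zpowers d ⊓ Subgroup.centralizer (P : Set X) :=
    ⟨Subgroup.npow_mem_zpowers d _, hcen⟩
  rw [hfaith, Subgroup.mem_bot] at this
  have hdv := orderOf_dvd_of_pow_eq_one this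
  rw [hd, Nat.pow_dvd_pow_iff_le_right (by norm_num)] at hdv
  omega

end Cfsg.Agent.S3738
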