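import Cfsg.Statements.S3740
import Cfsg.Agent.S0106
import Cfsg.Agent.Lib.GL2.TorusN
import Cfsg.Agent.Lib.Solv.Coprime
import Cfsg.Agent.Lib.Struct.UniqueOrderP

set_option autoImplicit false
open Cfsg Matrix

namespace Cfsg.Agent.S3740


open Cfsg.Agent.GL2

variable {F : Type} [Field F] [Fintype F] [DecidableEq F] {p : ℕ} [Fact p.Prime] [CharP F p]

local notation "M2" => Matrix (Fin 2) (Fin 2) F
local notation "S2" => Matrix.SpecialLinearGroup (Fin 2) F

theorem coe_pow' (x : S2) (n : ℕ) : ((x ^ n : S2) : M2) = (x : M2) ^ n :=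
  Matrix.SpecialLinearGroup.coe_pow x n

theorem scalar_pow_char {x : S2} (h : ¬ Nonscalar ((x ^ p : S2) : M2)) (hodd : ringChar F ≠ 2)
    (hx : (orderOf x).Coprime p) : x * x = 1 := by
  have h2 : x ^ p * x ^ p = 1 := by
    rcases scalar_cases h with e | e <;> rw [e]
    · rw [one_mul]
    · exact Subtype.ext (by rw [coe_mulS, z1_coe, coe_oneS]; simp)
  have hd : orderOf x ∣ p * 2 := orderOf_dvd_of_pow_eq_one (by rw [pow_mul, pow_two, h2])
  have := orderOf_dvd_iff_pow_eq_one.mp (hx.dvd_of_dvd_mul_left hd)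
  rwa [pow_two] at this

/-- An element of `p'`-order with square of trace four is central. -/
theorem trace_sq_four {x : S2} (hodd : ringChar F ≠ 2) (hx : (orderOf x).Coprime p)
    (ht : (x : M2).trace * (x : M2).trace = 4) : x * x = 1 := by
  refine scalar_pow_char (p := p) (fun hns => hns ?_) hodd hx
  have h2 := two_ne_zero_of_odd hodd
  set c : F := (x : M2).trace / 2 with hc
  have hcc : c * c = 1 := by rw [hc]; field_simp; linear_combination ht
  have hsum : c + c = (x : M2) 0 0 + (x : M2) 1 1 := by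
    rw [hc, Matrix.trace_fin_two]; field_simp; ring
  have hd := detS x
  rw [Matrix.det_fin_two] at hd
  have hN : ((x : M2) - c • 1) ^ 2 = 0 := by
    rw [pow_two]
    apply Cfsg.Agent.Classical.SL2.coord <;>
      simp [Matrix.mul_apply, Fin.sum_univ_two] <;>
      first
        | linear_combination -((x : M2) 0 0) * hsum + hcc - hd
        | linear_combination -((x : M2) 1 1) * hsum + hcc - hd
        | linear_combination -((x : M2) 0 1) * hsum
        | linear_combination -((x : M2) 1 0) * hsum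
  have hp0 : ((x : M2) - c • 1) ^ p = 0 := by
    obtain ⟨m, hm⟩ := Nat.exists_eq_add_of_le (Fact.out : p.Prime).two_le
    rw [hm, pow_add, hN, zero_mul]
  rw [sub_pow_char_of_commute p ((Commute.one_right (x : M2)).smul_right c), sub_eq_zero] at hp0
  exact ⟨c ^ p, by rw [coe_pow', hp0, smul_pow, one_pow]⟩

/-- A `p`-element is annihilated by `p` and is not scalar. -/
theorem unipotent_facts (hodd : ringChar F ≠ 2) {a : S2} (ha : IsPGroup p (Subgroup.zpowers a))
    (ha1 : a ≠ 1) : a ^ p = 1 ∧ Nonscalar (a : M2) ∧ Odd (orderOf a) := by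
  obtain ⟨k, hk⟩ := IsPGroup.iff_orderOf.mp ha ⟨a, Subgroup.mem_zpowers a⟩
  rw [Subgroup.orderOf_mk] at hk
  have hpodd : p ≠ 2 := fun h => hodd (by subst h; exact ringChar.eq F 2)
  have hak : a ^ p ^ k = 1 := by rw [← hk]; exact pow_orderOf_eq_one a
  have hoddk : Odd (orderOf a) := by rw [hk]; exact ((Fact.out : p.Prime).odd_of_ne_two hpodd).pow
  have hnil : IsNilpotent ((a : M2) - 1) := ⟨p ^ k, by
    rw [sub_pow_char_pow_of_commute p k (Commute.one_right _), one_pow, ← coe_pow', hak, coe_oneS,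
      sub_self]⟩
  have htr := (Matrix.isNilpotent_trace_of_isNilpotent hnil).eq_zero
  have hdet : ((a : M2) - 1).det = 0 := by
    obtain ⟨m, hm⟩ := hnil
    exact (IsNilpotent.eq_zero (⟨m, by rw [← Matrix.det_pow, hm]; simp⟩ : IsNilpotent ((a : M2) - 1).det))
  rw [Matrix.trace_fin_two] at htr
  rw [Matrix.det_fin_two] at hdet
  have hN : ((a : M2) - 1) ^ 2 = 0 := by
    set N := (a : M2) - 1
    rw [pow_two]
    apply Cfsg.Agent.Classical.SL2.coord <;>
      simp [Matrix.mul_apply, Fin.sum_univ_two] <;>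
      first
        | linear_combination (N 0 0) * htr - hdet
        | linear_combination (N 1 1) * htr - hdet
        | linear_combination (N 0 1) * htr
        | linear_combination (N 1 0) * htr
  have hap : a ^ p = 1 := by
    refine Subtype.ext ?_
    show ((a ^ p : S2) : M2) = ((1 : S2) : M2)
    obtain ⟨m, hm⟩ := Nat.exists_eq_add_of_le (Fact.out : p.Prime).two_le
    have : ((a : M2) - 1) ^ p = 0 := by rw [hm, pow_add, hN, zero_mul]
    rwa [sub_pow_char_of_commute p (Commute.one_right _), one_pow, sub_eq_zero, ← coe_oneS,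
      ← coe_pow'] at this
  refine ⟨hap, fun hsc => ?_, hoddk⟩
  have h2 : a * a = 1 := by
    rcases scalar_cases (not_not.mpr hsc) with e | e
    · rw [e, one_mul]
    · rw [e]; exact Subtype.ext (by rw [coe_mulS, z1_coe, coe_oneS]; simp)
  refine ha1 (orderOf_eq_one_iff.mp ?_)
  exact Nat.eq_one_of_dvd_coprimes (Nat.coprime_two_right.mpr hoddk) dvd_rfl
    (orderOf_dvd_of_pow_eq_one (by rw [pow_two, h2]))

/-- Elements of `p'`-order centralizing a `p`-element are central. -/
theorem centralizer_sq (hodd : ringChar F ≠ 2) {a x : S2} (hns : Nonscalar (a : M2))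
    (hap : a ^ p = 1) (hx : (orderOf x).Coprime p) (hcomm : a * x = x * a) : x * x = 1 := by
  refine scalar_pow_char (p := p) (fun h => h ?_) hodd hx
  obtain ⟨u, v, e⟩ := Cfsg.Agent.Classical.SL2.exists_affine hns
    (show (a : M2) * (x : M2) = (x : M2) * (a : M2) by rw [← coe_mulS, hcomm, coe_mulS])
  refine ⟨u ^ p + v ^ p, ?_⟩
  rw [coe_pow', e, add_pow_char_of_commute p (((Commute.one_left (a : M2)).smul_left u).smul_right v),
    smul_pow, smul_pow, one_pow, ← coe_pow' a, hap, coe_oneS, add_smul]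

theorem order_coprime {R : Subgroup S2} (hR : (Nat.card R).Coprime p) {x : S2} (hx : x ∈ R) :
    (orderOf x).Coprime p :=
  Nat.Coprime.coprime_dvd_left (Subgroup.orderOf_dvd_natCard _ hx) hR

/-- The normalized subgroup is a `2`-group. -/
theorem isPGroup_two (hodd : ringChar F ≠ 2) {a : S2} (hns : Nonscalar (a : M2)) (hap : a ^ p = 1)
    (hao : Odd (orderOf a)) {R : Subgroup S2} (hR : (Nat.card R).Coprime p)
    (hA : Subgroup.zpowers a ≤ Subgroup.normalizer (R : Set S2))
    (haP : IsPGroup p (Subgroup.zpowers a)) : IsPGroup 2 R := by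
  by_contra hno
  have hR0 : Nat.card R ≠ 0 := Nat.card_pos.ne'
  obtain ⟨r, hr, hrd, hr2⟩ : ∃ r : ℕ, r.Prime ∧ r ∣ Nat.card R ∧ r ≠ 2 := by
    by_contra h
    push Not at h
    obtain ⟨n, hn⟩ : ∃ n, Nat.card R = 2 ^ n :=
      ⟨_, Nat.eq_prime_pow_of_unique_prime_dvd hR0 fun {d} hd hdd => h d hd hdd⟩
    exact hno (IsPGroup.of_card hn)
  haveI : Fact r.Prime := ⟨hr⟩
  have hcop : (Nat.card (Subgroup.zpowers a)).Coprime (Nat.card R) := by
    obtain ⟨m, hm⟩ := haP.exists_card_eq
    rw [hm]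
    exact hR.symm.pow_left m
  obtain ⟨P, hP⟩ := Cfsg.Agent.Solv.exists_invariant_sylow (Subgroup.zpowers a) R hA hcop
    (Or.inl inferInstance) r
  haveI hnt : Nontrivial (P : Subgroup R) :=
    (Subgroup.nontrivial_iff_ne_bot _).mpr (P.ne_bot_of_dvd_card hrd)
  haveI := IsPGroup.center_nontrivial P.isPGroup'
  obtain ⟨⟨x, hxc⟩, hx1⟩ := exists_ne (1 : Subgroup.center (P : Subgroup R))
  set P' := ((P : Subgroup R).map R.subtype) with hP'
  set X : S2 := ((x : R) : S2) with hX
  have hXP : X ∈ P' := ⟨x, x.2, rfl⟩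
  have hXR : X ∈ R := (x : R).2
  have hX1 : X ≠ 1 := fun h => hx1 (Subtype.ext (Subtype.ext (Subtype.ext h)))
  have hY := (Subgroup.mem_normalizer_iff.mp (hP (Subgroup.mem_zpowers a)) X).mp hXP
  set Y := a * X * a⁻¹ with hYdef
  have hXY : X * Y = Y * X := by
    obtain ⟨y, hy, hye⟩ := hY
    rw [← hye]
    have := Subgroup.mem_center_iff.mp hxc ⟨y, hy⟩
    exact (congrArg (fun q : (P : Subgroup R) => ((q : R) : S2)) this).symm
  have hsq : ∀ x : S2, x ∈ R → x * x = 1 → (x = X → False) := by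
    intro z _ hz hzX
    subst hzX
    obtain ⟨n, hn⟩ := IsPGroup.iff_orderOf.mp P.isPGroup' x
    have h2 : orderOf X ∣ 2 := orderOf_dvd_of_pow_eq_one (by rw [pow_two, hz])
    rw [hX, Subgroup.orderOf_coe, Subgroup.orderOf_coe, hn] at h2
    rcases Nat.eq_zero_or_pos n with h0 | h0
    · subst h0
      rw [pow_zero, orderOf_eq_one_iff] at hn
      exact hX1 (by rw [hX, hn]; rfl)
    · exact hr2 ((Nat.prime_dvd_prime_iff_eq hr Nat.prime_two).mp ((dvd_pow_self r h0.ne').trans h2))
  have hnX : Nonscalar (X : M2) := fun hsc => hsq X hXR (by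
    rcases scalar_cases (not_not.mpr hsc) with e | e
    · rw [e, one_mul]
    · rw [e]; exact Subtype.ext (by rw [coe_mulS, z1_coe, coe_oneS]; simp)) rfl
  have htX : (X : M2).trace * (X : M2).trace ≠ 4 := fun h =>
    hsq X hXR (trace_sq_four hodd (order_coprime hR hXR) h) rfl
  have htr : (Y : M2).trace = (X : M2).trace :=
    (trace_isConjS (isConj_iff.mpr ⟨a, hYdef.symm⟩)).symm
  have hfix : a * X = X * a → False := fun h =>
    hsq X hXR (centralizer_sq hodd hns hap (order_coprime hR hXR) h) rfl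
  rcases eq_or_eq_inv hnX htX (two_ne_zero_of_odd hodd) hXY htr with e | e
  · exact hfix (mul_inv_eq_iff_eq_mul.mp e)
  · refine hfix ?_
    have e2 : Commute (a ^ 2) X := by
      show a ^ 2 * X = X * a ^ 2
      have h1 : a * X = X⁻¹ * a := mul_inv_eq_iff_eq_mul.mp e
      have h2 : a * X⁻¹ = X * a := mul_inv_eq_iff_eq_mul.mp (by rw [← conj_inv, ← hYdef, e, _root_.inv_inv])
      rw [pow_two, mul_assoc, h1, ← mul_assoc, h2, mul_assoc]
    obtain ⟨j, hj⟩ := hao
    have e3 : (a ^ 2) ^ (j + 1) = a := by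
      rw [← pow_mul, show 2 * (j + 1) = orderOf a + 1 by omega, pow_succ, pow_orderOf_eq_one,
        one_mul]
    have := e2.pow_left (j + 1)
    rw [e3] at this
    exact this.eq

/-- Let F be a finite field of odd characteristic p and let a be a p-element of SL₂(F) normalizing a subgroup R of order prime to p with [R, a] ≠ 1. Then p = 3, R is a quaternion group of order 8, and R⟨a⟩ is isomorphic to SL₂(3). -/
theorem result (F : Type) [Field F] [Fintype F] {p : ℕ} [Fact p.Prime] [CharP F p] (hp : p ≠ 2) (a : Matrix.SpecialLinearGroup (Fin 2) F) (ha : IsPGroup p ↥(Subgroup.zpowers a)) (R : Subgroup (Matrix.SpecialLinearGroup (Fin 2) F)) (hR : (Nat.card R).Coprime p) (haR : a ∈ Subgroup.normalizer (R : Set (Matrix.SpecialLinearGroup (Fin 2) F))) (hnt : ⁅R, Subgroup.zpowers a⁆ ≠ ⊥) : p = 3 ∧ Nonempty (↥R ≃* QuaternionGroup 2) ∧ Nonempty (↥(R ⊔ Subgroup.zpowers a) ≃* Matrix.SpecialLinearGroup (Fin 2) (ZMod 3)) := by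
  classical
  have hodd : ringChar F ≠ 2 := fun h => hp ((ringChar.eq F p).symm.trans h)
  have ha1 : a ≠ 1 := fun h => hnt (by
    rw [h, Subgroup.zpowers_one_eq_bot, Subgroup.commutator_bot_right])
  obtain ⟨hap, hns, hao⟩ := unipotent_facts hodd ha ha1
  have hA : Subgroup.zpowers a ≤ Subgroup.normalizer (R : Set (Matrix.SpecialLinearGroup (Fin 2) F)) :=
    Subgroup.zpowers_le.mpr haR
  have h2g := isPGroup_two hodd hns hap hao hR hA ha
  have huniq : ∀ x y : R, orderOf x = 2 → y ^ 2 = 1 → y ∈ Subgroup.zpowers x := by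
    intro x y hx hy
    have hx2 : (x : Matrix.SpecialLinearGroup (Fin 2) F) * x = 1 := by
      have := congrArg Subtype.val (pow_orderOf_eq_one x)
      rwa [hx, pow_two] at this
    have hy2 : (y : Matrix.SpecialLinearGroup (Fin 2) F) * y = 1 := by
      have := congrArg Subtype.val hy
      rwa [pow_two] at this
    have hxz : (x : Matrix.SpecialLinearGroup (Fin 2) F) = z1 :=
      (sq_one_cases hodd hx2).resolve_left fun h => by
        rw [show x = 1 from Subtype.ext h, orderOf_one] at hx; omega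
    rcases sq_one_cases hodd hy2 with e | e
    · rw [show y = 1 from Subtype.ext e]; exact one_mem _
    · rw [show y = x from Subtype.ext (e.trans hxz.symm)]; exact Subgroup.mem_zpowers x
  let σ : MulAut R :=
    { toFun := fun q => ⟨a * q * a⁻¹, (Subgroup.mem_normalizer_iff.1 haR q).1 q.2⟩
      invFun := fun q => ⟨a⁻¹ * q * a, (Subgroup.mem_normalizer_iff''.1 haR q).1 q.2⟩
      left_inv := fun q => Subtype.ext (by show a⁻¹ * (a * (q : Matrix.SpecialLinearGroup (Fin 2) F) * a⁻¹) * a = q; group)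
      right_inv := fun q => Subtype.ext (by show a * (a⁻¹ * (q : Matrix.SpecialLinearGroup (Fin 2) F) * a) * a⁻¹ = q; group)
      map_mul' := fun q r => Subtype.ext (by show a * ((q : Matrix.SpecialLinearGroup (Fin 2) F) * r) * a⁻¹ = a * q * a⁻¹ * (a * r * a⁻¹); group) }
  have hσt : ∀ (t : ℕ) (q : R), ((σ ^ t) q : Matrix.SpecialLinearGroup (Fin 2) F) = a ^ t * q * (a ^ t)⁻¹ := by
    intro t
    induction t with
    | zero => intro q; simp
    | succ t ih =>
      intro q
      rw [pow_succ', MulAut.mul_apply]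
      show a * ((σ ^ t) q : Matrix.SpecialLinearGroup (Fin 2) F) * a⁻¹ = _
      rw [ih, pow_succ']; group
  have hσp : σ ^ p = 1 := MulEquiv.ext fun q => Subtype.ext (by rw [hσt, hap]; simp)
  have hσ1 : σ ≠ 1 := fun h => hnt (by
    rw [Subgroup.commutator_eq_bot_iff_le_centralizer, Subgroup.le_centralizer_iff, Subgroup.zpowers_le,
      Subgroup.mem_centralizer_iff]
    intro q hq
    have h1 : a * q * a⁻¹ = q := congrArg (fun τ : MulAut R => ((τ ⟨q, hq⟩ : R) : Matrix.SpecialLinearGroup (Fin 2) F)) h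
    exact (mul_inv_eq_iff_eq_mul.1 h1).symm)
  rcases Cfsg.Agent.Struct.cyclic_or_quaternion h2g huniq with hc | ⟨-, n, hn, ⟨e⟩⟩
  · exfalso
    haveI := hc
    have hd : orderOf σ ∣ Nat.card (MulAut R) := orderOf_dvd_natCard σ
    rw [IsCyclic.card_mulAut] at hd
    obtain ⟨m, hm⟩ := h2g.exists_card_eq
    have hd2 : orderOf σ ∣ 2 ^ m := by
      refine hd.trans ?_
      rw [hm]
      rcases m with _ | m
      · simp
      · rw [Nat.totient_prime_pow Nat.prime_two (Nat.succ_pos m)]
        simp only [Nat.add_sub_cancel, show (2 : ℕ) - 1 = 1 from rfl, mul_one]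
        exact pow_dvd_pow 2 (Nat.le_succ m)
    have hcp : (2 ^ m).Coprime p :=
      ((Nat.coprime_primes Nat.prime_two (Fact.out : p.Prime)).mpr (Ne.symm hp)).pow_left m
    exact hσ1 (orderOf_eq_one_iff.mp (Nat.eq_one_of_dvd_coprimes hcp hd2 (orderOf_dvd_of_pow_eq_one hσp)))
  haveI : NeZero (2 ^ n) := ⟨pow_ne_zero _ two_ne_zero⟩
  obtain ⟨x, y, hx, hy, hxy, hx4, hyy, hyx, hdec, hcard⟩ := Cfsg.Agent.S0106.auto h2g e.toMonoidHom
    e.injective σ ((Fact.out : p.Prime).odd_of_ne_two hp) hσp hσ1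
  have hσ3 : σ ^ 3 = 1 := MulEquiv.ext fun q => by
    obtain ⟨i, j, rfl⟩ := hdec q
    have e1 : (σ ^ 3) x = x := by rw [pow_succ, sq, MulAut.mul_apply, MulAut.mul_apply, hx, hy, hxy]
    have e2 : (σ ^ 3) y = y := by rw [pow_succ, sq, MulAut.mul_apply, MulAut.mul_apply, hy, hxy, hx]
    rw [map_mul, map_pow, map_pow, e1, e2]; rfl
  have hp3 : p = 3 := by
    by_contra h
    exact hσ1 (orderOf_eq_one_iff.mp (Nat.eq_one_of_dvd_coprimes
      ((Nat.coprime_primes Nat.prime_three (Fact.out : p.Prime)).mpr (Ne.symm h))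
      (orderOf_dvd_of_pow_eq_one hσ3) (orderOf_dvd_of_pow_eq_one hσp)))
  subst hp3
  have hn1 : n = 1 := by
    have h := Nat.card_congr e.toEquiv
    rw [hcard, Nat.card_eq_fintype_card, QuaternionGroup.card] at h
    exact Nat.pow_right_injective le_rfl (show 2 ^ n = 2 ^ 1 by omega)
  subst hn1
  refine ⟨rfl, ⟨e⟩, ?_⟩
  have hgx : a * (x : Matrix.SpecialLinearGroup (Fin 2) F) = y * a :=
    mul_inv_eq_iff_eq_mul.1 (congrArg Subtype.val hx)
  have hgy : a * (y : Matrix.SpecialLinearGroup (Fin 2) F) = x * y * a :=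
    mul_inv_eq_iff_eq_mul.1 (congrArg Subtype.val hy)
  set H := R ⊔ Subgroup.zpowers a with hH
  have haH : a ∈ H := Subgroup.mem_sup_right (Subgroup.mem_zpowers a)
  let xb : H := ⟨x, Subgroup.mem_sup_left x.2⟩
  let yb : H := ⟨y, Subgroup.mem_sup_left y.2⟩
  let fb : H := ⟨a, haH⟩
  have hrels : Cfsg.Agent.Local.SL2Three.Rels xb yb fb := by
    constructor
    · exact Subtype.ext (congrArg Subtype.val hx4 :)
    · exact Subtype.ext (congrArg Subtype.val hyy :)
    · exact Subtype.ext (congrArg Subtype.val hyx :)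
    · exact Subtype.ext hap
    · exact Subtype.ext hgx
    · exact Subtype.ext hgy
  have hsurj : Function.Surjective (Cfsg.Agent.Local.SL2Three.val xb yb fb) := by
    rintro ⟨w, hw⟩
    have hw2 := hw
    rw [← SetLike.mem_coe, hH, Subgroup.coe_mul_of_right_le_normalizer_left _ _ hA] at hw2
    obtain ⟨q, hq, f, hf, rfl⟩ := hw2
    obtain ⟨i, rfl⟩ := Submonoid.mem_powers_iff _ _ |>.1 (mem_powers_iff_mem_zpowers.2 hf)
    obtain ⟨s, t, hst⟩ := hdec ⟨q, hq⟩
    refine ⟨(s, t, ⟨i % 3, Nat.mod_lt _ (by norm_num)⟩), Subtype.ext ?_⟩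
    show (x : Matrix.SpecialLinearGroup (Fin 2) F) ^ (s : ℕ) * (y : Matrix.SpecialLinearGroup (Fin 2) F) ^ (t : ℕ) * a ^ (i % 3) = q * a ^ i
    rw [← pow_eq_pow_mod i hap]
    exact congrArg (· * a ^ i) (congrArg Subtype.val hst).symm
  refine Cfsg.Agent.Local.SL2Three.nonempty_equiv hrels hsurj ?_
  have hle : Nat.card H ≤ 24 := by
    refine (Nat.card_le_card_of_surjective _ hsurj).trans ?_
    simp
  have h8 : 8 ∣ Nat.card H := hcard ▸ Subgroup.card_dvd_of_le le_sup_left
  have h3 : 3 ∣ Nat.card H := by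
    have hoa : orderOf a = 3 := orderOf_eq_prime hap ha1
    rw [← hoa, ← Nat.card_zpowers]
    exact Subgroup.card_dvd_of_le le_sup_right
  have hpos : 0 < Nat.card H := Nat.card_pos
  omega

end Cfsg.Agent.S3740
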