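import Cfsg.Statements.S3741
import Mathlib
import Cfsg.Agent.Lib.Local.PGroup

set_option autoImplicit false
open Cfsg
open Subgroup
open scoped commutatorElement

namespace Cfsg.Agent.S3741

variable {G : Type*} [Group G] [Finite G] {p : ℕ} [Fact p.Prime]

theorem central (hG : IsPGroup p G) (A B : Subgroup G) (hAB : ⁅A, B⁆ ≤ A ⊓ B)
    (hcard : Nat.card ↥⁅A, B⁆ ≤ p) :
    ∀ z ∈ ⁅A, B⁆, ∀ a ∈ A, a * z = z * a := by
  intro z hz a ha
  set Z := ⁅A, B⁆
  have haN : a ∈ normalizer (Z : Set G) := normalizer_commutator_ge_left A B ha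
  haveI : (Z.subgroupOf (normalizer (Z : Set G))).Normal := normal_in_normalizer
  set S := normalizer (Z : Set G)
  by_cases hb : Z = ⊥
  · rw [hb, mem_bot] at hz; simp [hz]
  haveI : Nontrivial ↥(Z.subgroupOf S) := by
    rw [nontrivial_iff_ne_bot, Ne, subgroupOf_eq_bot, disjoint_iff, inf_eq_left.2 le_normalizer]
    exact hb
  obtain ⟨k, hk⟩ := (hG.to_subgroup Z).exists_card_eq
  have hk1 : k = 1 := by
    have h1 : k ≠ 0 := fun h => hb (card_eq_one.1 (by rw [hk, h, pow_zero]))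
    have h2 : p ^ k ≤ p ^ 1 := by rw [pow_one, ← hk]; exact hcard
    have h3 := (Nat.pow_le_pow_iff_right (Fact.out : p.Prime).one_lt).1 h2
    omega
  have hcz : Nat.card ↥(Z.subgroupOf S) = p := by
    rw [Nat.card_congr (subgroupOfEquivOfLe le_normalizer).toEquiv, hk, hk1, pow_one]
  have hle := hG.to_subgroup S
  have hsub : Z.subgroupOf S ⊓ center S = Z.subgroupOf S := by
    haveI : Fact p.Prime := inferInstance
    have hne := Cfsg.Agent.Local.inf_center_ne_bot hle (Z.subgroupOf S) ((nontrivial_iff_ne_bot _).1 inferInstance)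
    refine eq_of_le_of_card_ge inf_le_left ?_
    rw [hcz]
    obtain ⟨j, hj⟩ := (hle.to_subgroup (Z.subgroupOf S ⊓ center S)).exists_card_eq
    rw [hj]
    exact Nat.le_self_pow (fun h => hne (card_eq_one.1 (by rw [hj, h, pow_zero]))) p
  have hzc : (⟨z, le_normalizer hz⟩ : S) ∈ center S := (hsub.ge (show (⟨z, le_normalizer hz⟩ : S) ∈ Z.subgroupOf S from hz)).2
  exact congrArg Subtype.val (mem_center_iff.1 hzc ⟨a, haN⟩)

theorem commutes_of (hG : IsPGroup p G) (A B : Subgroup G) (hcard : Nat.card ↥⁅A, B⁆ ≤ p)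
    (u : G) (hu : u ∈ ⁅A, B⁆) (v : G) (hv : v ∈ ⁅A, B⁆) : Commute u v := by
  obtain ⟨k, hk⟩ := (hG.to_subgroup ⁅A, B⁆).exists_card_eq
  have hle : k ≤ 1 := by
    rw [hk] at hcard
    exact (Nat.pow_le_pow_iff_right (Fact.out : p.Prime).one_lt).1 (by rwa [pow_one])
  haveI : IsCyclic ↥⁅A, B⁆ := by
    rcases Nat.le_one_iff_eq_zero_or_eq_one.1 hle with rfl | rfl
    · haveI := (Nat.card_eq_one_iff_unique.1 (by rw [hk, pow_zero] : Nat.card ↥⁅A, B⁆ = 1)).1
      exact isCyclic_of_subsingleton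
    · exact isCyclic_of_prime_card (by rw [hk, pow_one])
  letI := IsCyclic.commGroup (α := ↥⁅A, B⁆)
  exact congrArg Subtype.val (mul_comm (⟨u, hu⟩ : ↥⁅A, B⁆) ⟨v, hv⟩)

theorem bound (hG : IsPGroup p G) (A B : Subgroup G) (hz : ∀ z ∈ ⁅A, B⁆, ∀ a ∈ A, a * z = z * a)
    (hcard : Nat.card ↥⁅A, B⁆ ≤ p) : ∀ (n : ℕ) (D : Subgroup G), D ≤ B → B ⊓ centralizer (A : Set G) ≤ D →
      Nat.card D = n → Nat.card ↥(B ⊓ centralizer (A : Set G)) * (A ⊓ centralizer (D : Set G)).relIndex A ≤ n := by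
  intro n
  induction n using Nat.strong_induction_on with
  | _ n ih =>
  intro D hD hCD hn
  set C := B ⊓ centralizer (A : Set G)
  rcases eq_or_lt_of_le hCD with he | hlt
  · have h1 : (A ⊓ centralizer (D : Set G)) = A := inf_eq_left.2 fun a ha => mem_centralizer_iff.2 fun d hd =>
      (mem_centralizer_iff.1 (he.ge hd).2 a ha).symm
    rw [h1, relIndex_self, mul_one, ← hn, he]
  -- a maximal subgroup between `C` and `D`
  obtain ⟨E, hE⟩ := Set.Finite.exists_maximal (s := {E : Subgroup G | C ≤ E ∧ E < D})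
    (Set.toFinite _) ⟨C, le_rfl, hlt⟩
  obtain ⟨hCE, hED⟩ := hE.prop
  obtain ⟨b, hbD, hbE⟩ := SetLike.exists_of_lt hED
  have hDs : D = E ⊔ zpowers b := le_antisymm
    (by_contra fun hn' => hbE (hE.le_of_ge ⟨hCE.trans le_sup_left, lt_of_le_not_ge
      (sup_le hED.le (zpowers_le.2 hbD)) hn'⟩ le_sup_left (mem_sup_right (mem_zpowers b))))
    (sup_le hED.le (zpowers_le.2 hbD))
  have hEn : p * Nat.card E ≤ n := by
    obtain ⟨i, hi⟩ := (hG.to_subgroup D).exists_card_eq
    obtain ⟨j, hj⟩ := (hG.to_subgroup E).exists_card_eq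
    have hlt : p ^ j < p ^ i := by
      rw [← hi, ← hj]
      exact not_le.1 fun h => hED.ne (eq_of_le_of_card_ge hED.le h)
    rw [← hn, hi, hj, mul_comm, ← pow_succ]
    exact Nat.pow_le_pow_right (Fact.out : p.Prime).pos
      ((Nat.pow_lt_pow_iff_right (Fact.out : p.Prime).one_lt).1 hlt)
  have hE0 := ih (Nat.card E) (lt_of_lt_of_le (lt_mul_of_one_lt_left Nat.card_pos (Fact.out : p.Prime).one_lt) hEn)
    E (hED.le.trans hD) hCE rfl
  set AE := A ⊓ centralizer (E : Set G)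
  let f : AE →* ↥(⁅A, B⁆ : Subgroup G) := MonoidHom.mk' (fun a => ⟨⁅(a : G), b⁆, commutator_mem_commutator a.2.1 (hD hbD)⟩)
    fun x y => Subtype.ext (by
      show ⁅(x : G) * y, b⁆ = ⁅(x : G), b⁆ * ⁅(y : G), b⁆
      have hzy := commutator_mem_commutator y.2.1 (hD hbD)
      have hzx := commutator_mem_commutator x.2.1 (hD hbD)
      calc ⁅(x : G) * y, b⁆ = (x : G) * ⁅(y : G), b⁆ * (x : G)⁻¹ * ⁅(x : G), b⁆ := by
            simp only [commutatorElement_def]; group
        _ = ⁅(y : G), b⁆ * ⁅(x : G), b⁆ := by rw [hz _ hzy _ x.2.1, mul_inv_cancel_right]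
        _ = _ := (commutes_of hG A B hcard _ hzx _ hzy).eq.symm)
  have hker : f.ker = (A ⊓ centralizer (D : Set G)).subgroupOf AE := by
    ext a
    rw [MonoidHom.mem_ker, mem_subgroupOf]
    show (⟨⁅(a : G), b⁆, _⟩ : ↥(⁅A, B⁆ : Subgroup G)) = 1 ↔ _
    rw [Subtype.ext_iff]
    show ⁅(a : G), b⁆ = 1 ↔ _
    rw [commutatorElement_eq_one_iff_mul_comm]
    refine ⟨fun h => ⟨a.2.1, ?_⟩, fun h => (mem_centralizer_iff.1 h.2 b hbD).symm⟩
    have hs : D ≤ centralizer ({(a : G)} : Set G) := by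
      rw [hDs, sup_le_iff, zpowers_le, mem_centralizer_singleton_iff]
      exact ⟨fun e he => mem_centralizer_singleton_iff.2 (mem_centralizer_iff.1 a.2.2 e he), h.symm⟩
    exact mem_centralizer_iff.2 fun d hd => mem_centralizer_singleton_iff.1 (hs hd)
  have hidx : (A ⊓ centralizer (D : Set G)).relIndex AE ≤ p := by
    rw [relIndex, ← hker, index_ker]
    exact (card_le_card_group f.range).trans hcard
  have hmul : (A ⊓ centralizer (D : Set G)).relIndex A =
      (A ⊓ centralizer (D : Set G)).relIndex AE * AE.relIndex A :=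
    (relIndex_mul_relIndex _ _ _ (inf_le_inf_left A (centralizer_le (SetLike.coe_subset_coe.2 hED.le))) inf_le_left).symm
  rw [hmul]
  calc Nat.card C * ((A ⊓ centralizer (D : Set G)).relIndex AE * AE.relIndex A)
      = (A ⊓ centralizer (D : Set G)).relIndex AE * (Nat.card C * AE.relIndex A) := by ring
    _ ≤ p * Nat.card E := Nat.mul_le_mul hidx hE0
    _ ≤ n := hEn


/-- Let A and B be subgroups of a finite p-group with [A, B] ≤ A ∩ B and [A, B] of order at most p. Then |A : C_A(B)| = |B : C_B(A)|. -/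
theorem result {G : Type*} [Group G] [Finite G] {p : ℕ} [Fact p.Prime] (hG : IsPGroup p G) (A B : Subgroup G) (hAB : ⁅A, B⁆ ≤ A ⊓ B) (hcard : Nat.card ↥⁅A, B⁆ ≤ p) : (A ⊓ Subgroup.centralizer (B : Set G)).relIndex A = (B ⊓ Subgroup.centralizer (A : Set G)).relIndex B := by
  have hz := central hG A B hAB hcard
  have hc' : Nat.card ↥⁅B, A⁆ ≤ p := by rwa [commutator_comm]
  have hAB' : ⁅B, A⁆ ≤ B ⊓ A := by rwa [commutator_comm, inf_comm]
  have hz' := central hG B A hAB' hc'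
  have h1 := bound hG A B hz hcard _ B le_rfl inf_le_left rfl
  have h2 := bound hG B A hz' hc' _ A le_rfl inf_le_left rfl
  rw [show Nat.card B = Nat.card ↥(B ⊓ centralizer (A : Set G)) * (B ⊓ centralizer (A : Set G)).relIndex B by
    rw [← relIndex_bot_left, ← relIndex_bot_left, relIndex_mul_relIndex _ _ _ bot_le inf_le_left]] at h1
  rw [show Nat.card A = Nat.card ↥(A ⊓ centralizer (B : Set G)) * (A ⊓ centralizer (B : Set G)).relIndex A by
    rw [← relIndex_bot_left, ← relIndex_bot_left, relIndex_mul_relIndex _ _ _ bot_le inf_le_left]] at h2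
  exact le_antisymm (Nat.le_of_mul_le_mul_left h1 Nat.card_pos) (Nat.le_of_mul_le_mul_left h2 Nat.card_pos)

end Cfsg.Agent.S3741
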