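import Cfsg.Statements.S3742
import Mathlib

set_option autoImplicit false
open Cfsg

namespace Cfsg.Agent.S3742

open QuaternionGroup

abbrev Q := QuaternionGroup 2

/-- The map determined by the images of the two generators. -/
def phi (x y : Q) : Q → Q
  | a i => x ^ i.val
  | xa i => y * x ^ i.val

/-- Pairs of possible images of the two generators. -/
abbrev Valid (x y : Q) : Prop := x * x ≠ 1 ∧ y * y ≠ 1 ∧ x * y ≠ y * x

/-- The four diagonals of the octahedron on `±i, ±j, ±k`. -/
def diag : Fin 4 → Finset (Finset Q)
  | 0 => {{a 1, xa 0, xa 1}, {a 3, xa 2, xa 3}}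
  | 1 => {{a 1, xa 2, xa 3}, {a 3, xa 0, xa 1}}
  | 2 => {{a 3, xa 0, xa 3}, {a 1, xa 2, xa 1}}
  | 3 => {{a 3, xa 2, xa 1}, {a 1, xa 0, xa 3}}

theorem dec_hom : ∀ x y : Q, Valid x y → ∀ q r : Q, phi x y (q * r) = phi x y q * phi x y r := by decide +kernel

theorem dec_inj : ∀ x y : Q, Valid x y → ∀ q r : Q, phi x y q = phi x y r → q = r := by decide +kernel

theorem dec_perm : ∀ x y : Q, Valid x y → ∀ s : Fin 4, ∃ t : Fin 4, (diag s).image (Finset.image (phi x y)) = diag t := by
  decide +kernel

theorem dec_faithful : ∀ x y : Q, Valid x y → (∀ s : Fin 4, (diag s).image (Finset.image (phi x y)) = diag s) →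
    x = a 1 ∧ y = xa 0 := by decide +kernel

theorem dec_diag : ∀ s t : Fin 4, diag s = diag t → s = t := by decide +kernel

theorem dec_count : ((Finset.univ : Finset (Q × Q)).filter (fun z => Valid z.1 z.2)).card = 24 := by decide +kernel

theorem gens : ∀ q : Q, q = phi (a 1) (xa 0) q := by decide +kernel

theorem valid_gens : Valid (a 1) (xa 0) := by decide +kernel

theorem valid_image (α : MulAut Q) : Valid (α (a 1)) (α (xa 0)) := by
  obtain ⟨h1, h2, h3⟩ := valid_gens
  refine ⟨?_, ?_, ?_⟩
  · rw [← map_mul]; exact fun h => h1 (α.injective (h.trans (map_one α).symm))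
  · rw [← map_mul]; exact fun h => h2 (α.injective (h.trans (map_one α).symm))
  · rw [← map_mul, ← map_mul]; exact fun h => h3 (α.injective h)

theorem apply_eq (α : MulAut Q) : (⇑α : Q → Q) = phi (α (a 1)) (α (xa 0)) := by
  funext q
  conv_lhs => rw [gens q]
  cases q <;> simp [phi, ← map_pow, ← map_mul, a_one_pow, ZMod.natCast_zmod_val]

/-- The induced map on diagonals. -/
noncomputable def act (α : MulAut Q) (s : Fin 4) : Fin 4 :=
  (dec_perm _ _ (valid_image α) s).choose

theorem act_spec (α : MulAut Q) (s : Fin 4) : (diag s).image (Finset.image α) = diag (act α s) := by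
  rw [apply_eq α]
  exact (dec_perm _ _ (valid_image α) s).choose_spec

theorem act_mul (α β : MulAut Q) (s : Fin 4) : act (α * β) s = act α (act β s) := by
  apply dec_diag
  rw [← act_spec, ← act_spec, ← act_spec, Finset.image_image]
  congr 1
  funext F
  rw [Function.comp_apply, Finset.image_image]
  rfl

theorem act_one (s : Fin 4) : act 1 s = s := by
  apply dec_diag
  rw [← act_spec]
  simp [show (Finset.image id : Finset Q → Finset Q) = id from funext fun F => Finset.image_id]

/-- The homomorphism to the symmetric group. -/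
noncomputable def hom : MulAut Q →* Equiv.Perm (Fin 4) where
  toFun α := ⟨act α, act α⁻¹, fun s => by rw [← act_mul, inv_mul_cancel, act_one],
    fun s => by rw [← act_mul, mul_inv_cancel, act_one]⟩
  map_one' := Equiv.ext act_one
  map_mul' α β := Equiv.ext (act_mul α β)

theorem hom_injective : Function.Injective hom := by
  rw [injective_iff_map_eq_one]
  intro α hα
  have h : ∀ s : Fin 4, (diag s).image (Finset.image (phi (α (a 1)) (α (xa 0)))) = diag s := by
    intro s
    rw [← apply_eq, act_spec]
    exact congrArg diag (DFunLike.congr_fun hα s)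
  obtain ⟨h1, h2⟩ := dec_faithful _ _ (valid_image α) h
  apply DFunLike.coe_injective
  rw [apply_eq, h1, h2]
  funext q
  exact (gens q).symm

/-- The automorphism with given images of the generators. -/
noncomputable def mkAut (z : {z : Q × Q // Valid z.1 z.2}) : MulAut Q :=
  MulEquiv.ofBijective (MonoidHom.mk' (phi z.1.1 z.1.2) (dec_hom _ _ z.2))
    ((Finite.injective_iff_bijective).mp (fun q r h => dec_inj _ _ z.2 q r h))

theorem mkAut_injective : Function.Injective mkAut := by
  rintro ⟨⟨x, y⟩, hz⟩ ⟨⟨x', y'⟩, hz'⟩ h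
  have h1 : phi x y (a 1) = phi x' y' (a 1) := DFunLike.congr_fun h (a 1)
  have h2 : phi x y (xa 0) = phi x' y' (xa 0) := DFunLike.congr_fun h (xa 0)
  simp [phi, show (1 : ZMod (2 * 2)).val = 1 from rfl] at h1 h2
  simpa using And.intro h1 h2

/-- The automorphism group of the quaternion group of order 8 is isomorphic to the symmetric group of degree 4. -/
theorem result : Nonempty (MulAut (QuaternionGroup 2) ≃* Equiv.Perm (Fin 4)) := by
  have hle := Nat.card_le_card_of_injective _ hom_injective
  have hge := Nat.card_le_card_of_injective _ mkAut_injective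
  have h24 : Nat.card {z : Q × Q // Valid z.1 z.2} = 24 := by
    rw [Nat.card_eq_fintype_card, Fintype.card_subtype]; exact dec_count
  have hP : Nat.card (Equiv.Perm (Fin 4)) = 24 := by rw [Nat.card_perm, Nat.card_fin]; rfl
  exact ⟨MulEquiv.ofBijective hom (hom_injective.bijective_of_nat_card_le (by omega))⟩

end Cfsg.Agent.S3742
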