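import Cfsg.Statements.S3743
import Cfsg.Agent.Lib.Solv.Subnormal
import Cfsg.Agent.Lib.Local.Basic

set_option autoImplicit false
open Cfsg
open Subgroup

namespace Cfsg.Agent.S3743

/-- In a finite group G, every subnormal nilpotent subgroup lies in the Fitting subgroup F(G), and, for a set of primes π, every subnormal subgroup all of whose prime divisors lie in π lies in O_π(G). -/
theorem result {G : Type*} [Group G] [Finite G] (A : Subgroup G) (hA : A.IsSubnormal) : (Group.IsNilpotent A → A ≤ Cfsg.fittingSubgroup G) ∧ ∀ π : Set ℕ, (∀ p : ℕ, p.Prime → p ∣ Nat.card A → p ∈ π) → A ≤ Cfsg.piCore π G := by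
  refine ⟨Solv.le_fittingSubgroup_of_isSubnormal hA, fun π hπ => ?_⟩
  let N : Subgroup G := ⨅ q : {q : ℕ // q.Prime ∧ q ∉ π}, pPrimeCore (q : ℕ) G
  have hNn : N.Normal := normal_iInf_normal fun q => Cfsg.pPrimeCore_normal _ _
  have hN : ∀ r : ℕ, r.Prime → r ∣ Nat.card N → r ∈ π := fun r hr hdvd => by
    by_contra hrπ
    exact (hr.coprime_iff_not_dvd.1 (Solv.card_pPrimeCore_coprime r G).symm)
      (hdvd.trans (card_dvd_of_le (iInf_le _ (⟨r, hr, hrπ⟩ : {q : ℕ // q.Prime ∧ q ∉ π}))))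
  refine le_trans (le_iInf fun q => ?_) (le_sSup (⟨hNn, hN⟩ : N ∈ {N : Subgroup G | N.Normal ∧ _}))
  exact Local.le_pPrimeCore_of_isSubnormal hA (Nat.coprime_comm.1 (q.2.1.coprime_iff_not_dvd.2
    fun h => q.2.2 (hπ q q.2.1 h)))

end Cfsg.Agent.S3743
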