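import Cfsg.Statements.S3745
import Cfsg.Agent.Lib.Struct.CoprimeHall

set_option autoImplicit false
open Cfsg
open Subgroup
open scoped Pointwise

namespace Cfsg.Agent.S3745

/-- Coprime action on a solvable group and Hall subgroups. Let A and G be subgroups of a finite group with A normalizing G, the orders of A and G coprime, and G solvable, and let π be a set of primes. Then (a) G has an A-invariant Hall π-subgroup; (b) any two A-invariant Hall π-subgroups of G are conjugate by an element of C_G(A); (c) every A-invariant π-subgroup of G lies in an A-invariant Hall π-subgroup of G. -/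
theorem result {X : Type*} [Group X] [Finite X] (A G : Subgroup X) (hAG : A ≤ Subgroup.normalizer (G : Set X)) (hcop : (Nat.card A).Coprime (Nat.card G)) (hsolv : Group.IsSolvable G) (π : Set ℕ) : (∃ H : Subgroup X, Cfsg.IsPiHallOf π H G ∧ A ≤ Subgroup.normalizer (H : Set X)) ∧ (∀ H₁ H₂ : Subgroup X, Cfsg.IsPiHallOf π H₁ G → A ≤ Subgroup.normalizer (H₁ : Set X) → Cfsg.IsPiHallOf π H₂ G → A ≤ Subgroup.normalizer (H₂ : Set X) → ∃ c ∈ G ⊓ Subgroup.centralizer (A : Set X), H₂ = H₁.map (MulAut.conj c).toMonoidHom) ∧ (∀ U : Subgroup X, U ≤ G → A ≤ Subgroup.normalizer (U : Set X) → (∀ p : ℕ, p.Prime → p ∣ Nat.card U → p ∈ π) → ∃ H : Subgroup X, Cfsg.IsPiHallOf π H G ∧ A ≤ Subgroup.normalizer (H : Set X) ∧ U ≤ H) := by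
  classical
  have hc0 : Nat.card G ≠ 0 := Nat.card_pos.ne'
  obtain ⟨m, hm⟩ : ∃ m, m = ∏ q ∈ (Nat.card G).primeFactors.filter (· ∈ π), q ^ (Nat.card G).factorization q := ⟨_, rfl⟩
  obtain ⟨n, hn⟩ : ∃ n, n = ∏ q ∈ (Nat.card G).primeFactors.filter (· ∉ π), q ^ (Nat.card G).factorization q := ⟨_, rfl⟩
  have hmn : Nat.card G = m * n := by
    rw [hm, hn, Finset.prod_filter_mul_prod_filter_not]
    exact Nat.prod_primeFactors_pow_factorization hc0
  have hpm : ∀ q, q.Prime → q ∣ m → q ∈ π := by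
    intro q hq hd
    rw [hm] at hd
    obtain ⟨r, hr, hd'⟩ := (Prime.dvd_finsetProd_iff hq.prime _).1 hd
    rw [(Nat.prime_dvd_prime_iff_eq hq (Nat.prime_of_mem_primeFactors (Finset.mem_filter.1 hr).1)).1 (hq.dvd_of_dvd_pow hd')]
    exact (Finset.mem_filter.1 hr).2
  have hpn : ∀ q, q.Prime → q ∣ n → q ∉ π := by
    intro q hq hd
    rw [hn] at hd
    obtain ⟨r, hr, hd'⟩ := (Prime.dvd_finsetProd_iff hq.prime _).1 hd
    rw [(Nat.prime_dvd_prime_iff_eq hq (Nat.prime_of_mem_primeFactors (Finset.mem_filter.1 hr).1)).1 (hq.dvd_of_dvd_pow hd')]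
    exact (Finset.mem_filter.1 hr).2
  have hcopmn : m.Coprime n := Nat.coprime_of_dvd fun q hq h1 h2 => hpn q hq h2 (hpm q hq h1)
  have hcard : ∀ H : Subgroup X, IsPiHallOf π H G → Nat.card H = m := by
    rintro H ⟨hHG, h1, h2⟩
    have hHn : (Nat.card H).Coprime n := Nat.coprime_of_dvd fun q hq a b => hpn q hq b (h1 q hq a)
    have hrel : Nat.card H * H.relIndex G = Nat.card G := by
      rw [← Subgroup.card_mul_index (H.subgroupOf G), Nat.card_congr (subgroupOfEquivOfLe hHG).toEquiv]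
      rfl
    have hrm : m.Coprime (H.relIndex G) := Nat.coprime_of_dvd fun q hq a b => h2 q hq (hpm q hq a) b
    apply Nat.dvd_antisymm
    · exact hHn.dvd_of_dvd_mul_right (hmn ▸ Dvd.intro _ hrel)
    · exact hrm.dvd_of_dvd_mul_right (hrel.symm ▸ hmn ▸ dvd_mul_right m n)
  have hhall : ∀ H : Subgroup X, H ≤ G → Nat.card H = m → IsPiHallOf π H G := by
    intro H hHG hH
    refine ⟨hHG, fun q hq hd => hpm q hq (hH ▸ hd), fun q hq hqπ hd => hpn q hq ?_ hqπ⟩
    have hrel : Nat.card H * H.relIndex G = Nat.card G := by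
      rw [← Subgroup.card_mul_index (H.subgroupOf G), Nat.card_congr (subgroupOfEquivOfLe hHG).toEquiv]
      rfl
    rw [hH, hmn] at hrel
    rw [← Nat.eq_of_mul_eq_mul_left (Nat.pos_of_ne_zero fun h => hc0 (by rw [hmn, h, zero_mul])) hrel]
    exact hd
  have key : ∀ U : Subgroup X, U ≤ G → A ≤ normalizer (U : Set X) → (∀ p : ℕ, p.Prime → p ∣ Nat.card U → p ∈ π) →
      ∃ H : Subgroup X, IsPiHallOf π H G ∧ A ≤ normalizer (H : Set X) ∧ U ≤ H := by
    intro U hUG hAU hU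
    obtain ⟨H, hHG, hH, hAH, hUH⟩ := Cfsg.Agent.Struct.CoprimeHall.invariant_hall_ge _ X A G U rfl hAG hcop hsolv m n
      hmn hcopmn hUG hAU (Nat.coprime_of_dvd fun q hq a b => hpn q hq b (hU q hq a))
    exact ⟨H, hhall H hHG hH, hAH, hUH⟩
  refine ⟨?_, ?_, key⟩
  · obtain ⟨H, h1, h2, -⟩ := key ⊥ bot_le (fun a _ => by rw [mem_normalizer_iff]; intro x; simp)
      (fun p hp hd => absurd (Nat.le_of_dvd one_pos (card_bot (G := X) ▸ hd)) (not_le.2 hp.one_lt))
    exact ⟨H, h1, h2⟩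
  · intro H₁ H₂ h1 hA1 h2 hA2
    obtain ⟨g, hg, hge⟩ := Cfsg.Agent.Struct.CoprimeHall.conjIn_eq hsolv hmn hcopmn H₁ H₂ h1.1 h2.1 (hcard _ h1) (hcard _ h2)
    obtain ⟨c, hc, hce⟩ := Cfsg.Agent.Solv.exists_centralizer_conj_eq A G hAG hcop (Or.inr hsolv) H₁ H₂ hA1 hA2 ⟨g, hg, hge⟩
    exact ⟨c, hc, hce.symm⟩

end Cfsg.Agent.S3745
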