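import Cfsg.Statements.S3746
import Cfsg.Agent.Lib.Local.Component
-- import your own Cfsg.Agent.* helpers here

set_option autoImplicit false
open Cfsg

namespace Cfsg.Agent.S3746

/-- Let Z ≤ Z(G) be a central subgroup of a finite group G and E a subgroup of G containing Z whose image E/Z is a component of G/Z (subnormal and quasisimple). Then the derived subgroup [E, E] is a component of G. -/
theorem result {G : Type*} [Group G] [Finite G] (Z : Subgroup G) (hZ : Z ≤ Subgroup.center G) [Z.Normal] (E : Subgroup G) (hZE : Z ≤ E) (hE : Cfsg.IsComponent (E.map (QuotientGroup.mk' Z))) : Cfsg.IsComponent ⁅E, E⁆ := by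
  classical
  set π := QuotientGroup.mk' Z
  set Q := E.map π
  obtain ⟨hsub, hqs⟩ := hE
  have hperf : Group.IsPerfect Q := hqs.1
  have hQQ : ⁅Q, Q⁆ = Q := Cfsg.Agent.Local.component_eq_commutator ⟨hsub, hqs⟩
  have hker : π.ker = Z := QuotientGroup.ker_mk' Z
  have hmap : (⁅E, E⁆).map π = Q := by rw [Subgroup.map_commutator]; exact hQQ
  have hle : E ≤ ⁅E, E⁆ ⊔ Z := by
    rw [← hker, ← Subgroup.comap_map_eq, hmap]; exact Subgroup.le_comap_map π E
  have hE'' : ⁅⁅E, E⁆, ⁅E, E⁆⁆ = ⁅E, E⁆ := by
    refine le_antisymm (Subgroup.commutator_mono (Subgroup.commutator_le_self E) (Subgroup.commutator_le_self E)) ?_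
    refine Subgroup.commutator_le.2 fun u hu v hv => ?_
    obtain ⟨u1, hu1, z1, hz1, rfl⟩ := Subgroup.mem_sup_of_normal_right.1 (hle hu)
    obtain ⟨v1, hv1, z2, hz2, rfl⟩ := Subgroup.mem_sup_of_normal_right.1 (hle hv)
    open scoped commutatorElement in
    have e : ⁅u1 * z1, v1 * z2⁆ = ⁅u1, v1⁆ := by
      have c1 : ∀ g, g * z1 = z1 * g := fun g => Subgroup.mem_center_iff.1 (hZ hz1) g
      have c2 : ∀ g, g * z2 = z2 * g := fun g => Subgroup.mem_center_iff.1 (hZ hz2) g
      simp only [commutatorElement_def, mul_inv_rev]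
      calc u1 * z1 * (v1 * z2) * (z1⁻¹ * u1⁻¹) * (z2⁻¹ * v1⁻¹)
          = u1 * (z1 * v1) * (z2 * z1⁻¹) * (u1⁻¹ * z2⁻¹) * v1⁻¹ := by group
        _ = u1 * (v1 * z1) * (z1⁻¹ * z2) * (z2⁻¹ * u1⁻¹) * v1⁻¹ := by
            rw [c1 v1, (c2 z1⁻¹).symm, (show Commute u1⁻¹ z2⁻¹ from (show Commute u1⁻¹ z2 from c2 _).inv_right).eq]
        _ = u1 * v1 * u1⁻¹ * v1⁻¹ := by group
    rw [e]; exact Subgroup.commutator_mem_commutator hu1 hv1
  refine ⟨?_, ?_⟩
  · have hcomap : ∀ H : Subgroup (G ⧸ Z), H.IsSubnormal → (H.comap π).IsSubnormal := by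
      intro H hH
      induction hH with
      | top => rw [Subgroup.comap_top]; exact Subgroup.IsSubnormal.top
      | step H K h _ hN ih =>
        refine Subgroup.IsSubnormal.step _ _ (Subgroup.comap_mono h) ih ⟨fun n hn g => ?_⟩
        have := hN.conj_mem ⟨π n, h (by simpa [Subgroup.mem_subgroupOf] using hn)⟩
          (by simpa [Subgroup.mem_subgroupOf] using hn) ⟨π g, g.2⟩
        simpa [Subgroup.mem_subgroupOf] using this
    have hEs : E.IsSubnormal := by
      have := hcomap Q hsub
      rwa [Subgroup.comap_map_eq, hker, sup_eq_left.2 hZE] at this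
    refine Subgroup.IsSubnormal.step _ E (Subgroup.commutator_le_self E) hEs ⟨fun n hn g => ?_⟩
    rw [Subgroup.mem_subgroupOf] at hn ⊢
    push_cast
    have key : ∀ y ∈ ⁅E, E⁆, (g : G) * y * (g : G)⁻¹ ∈ ⁅E, E⁆ := by
      intro y hy
      induction hy using Subgroup.closure_induction with
      | mem w hw =>
        obtain ⟨p, hp, q, hq, rfl⟩ := hw
        open scoped commutatorElement in
        rw [show (g : G) * ⁅p, q⁆ * (g : G)⁻¹ = ⁅(g : G) * p * (g : G)⁻¹, (g : G) * q * (g : G)⁻¹⁆ by
          simp only [commutatorElement_def]; group]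
        exact Subgroup.commutator_mem_commutator (mul_mem (mul_mem g.2 hp) (inv_mem g.2)) (mul_mem (mul_mem g.2 hq) (inv_mem g.2))
      | one => simp
      | mul p q _ _ ip iq =>
        rw [show (g : G) * (p * q) * (g : G)⁻¹ = ((g : G) * p * (g : G)⁻¹) * ((g : G) * q * (g : G)⁻¹) by group]
        exact mul_mem ip iq
      | inv p _ ip =>
        rw [show (g : G) * p⁻¹ * (g : G)⁻¹ = ((g : G) * p * (g : G)⁻¹)⁻¹ by group]
        exact inv_mem ip
    exact key _ hn
  -- quasisimplicity
  set K := ⁅E, E⁆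
  have hKperf : commutator ↥K = ⊤ := by
    apply Subgroup.map_injective K.subtype_injective
    rw [Subgroup.map_subtype_commutator, hE'', ← MonoidHom.range_eq_map, Subgroup.range_subtype]
  let f : ↥K →* ↥Q := (π.subgroupMap E).comp (Subgroup.inclusion (Subgroup.commutator_le_self E))
  have hfs : Function.Surjective f := by
    rintro ⟨q, hq⟩
    obtain ⟨k, hk, e⟩ := hmap.symm ▸ hq
    exact ⟨⟨k, hk⟩, Subtype.ext e⟩
  have hfker : ∀ x : ↥K, f x = 1 → x ∈ Subgroup.center ↥K := by
    intro x hx
    have hxZ : (x : G) ∈ Z := by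
      rw [← hker, MonoidHom.mem_ker]
      exact congrArg Subtype.val hx
    exact Subgroup.mem_center_iff.2 fun y => Subtype.ext (Subgroup.mem_center_iff.1 (hZ hxZ) y)
  refine ⟨⟨hKperf⟩, ?_⟩
  -- the centre of `K` is the preimage of the centre of `Q`
  have hcen : (Subgroup.center ↥Q).comap f = Subgroup.center ↥K := by
    apply le_antisymm
    · intro x hx
      open scoped commutatorElement in
      have hc : ∀ y : ↥K, ⁅x, y⁆ ∈ Subgroup.center ↥K := fun y => hfker _ (by
        rw [map_commutatorElement, commutatorElement_eq_one_iff_mul_comm]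
        exact (Subgroup.mem_center_iff.1 hx (f y)).symm)
      open scoped commutatorElement in
      let φ : ↥K →* ↥(Subgroup.center ↥K) := MonoidHom.mk' (fun y => ⟨⁅x, y⁆, hc y⟩) (by
        intro y y'
        apply Subtype.ext
        show ⁅x, y * y'⁆ = ⁅x, y⁆ * ⁅x, y'⁆
        have e : ⁅x, y * y'⁆ = ⁅x, y⁆ * (y * ⁅x, y'⁆ * y⁻¹) := by simp only [commutatorElement_def]; group
        rw [e, Subgroup.mem_center_iff.1 (hc y') y, mul_inv_cancel_right])
      have htriv : ∀ y, φ y = 1 := by
        intro y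
        have hy : y ∈ commutator ↥K := hKperf ▸ Subgroup.mem_top y
        have hab : commutator ↥K ≤ φ.ker := by
          rw [commutator_def, Subgroup.commutator_le]
          intro u _ v _
          rw [MonoidHom.mem_ker, map_commutatorElement, commutatorElement_eq_one_iff_mul_comm]
          exact Subtype.ext (Subgroup.mem_center_iff.1 (φ v).2 _)
        exact MonoidHom.mem_ker.1 (hab hy)
      rw [Subgroup.mem_center_iff]
      intro y
      have := congrArg Subtype.val (htriv y)
      open scoped commutatorElement in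
      exact ((commutatorElement_eq_one_iff_mul_comm (g₁ := x) (g₂ := y)).1 this).symm
    · intro x hx
      rw [Subgroup.mem_comap, Subgroup.mem_center_iff]
      intro q
      obtain ⟨y, rfl⟩ := hfs q
      rw [← map_mul, ← map_mul, Subgroup.mem_center_iff.1 hx y]
  let g : ↥K →* ↥Q ⧸ Subgroup.center ↥Q := (QuotientGroup.mk' _).comp f
  have hg : Function.Surjective g := (QuotientGroup.mk'_surjective _).comp hfs
  have hgk : g.ker = Subgroup.center ↥K := by
    rw [← hcen, ← MonoidHom.comap_bot, ← Subgroup.comap_comap]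
    congr 1
    rw [MonoidHom.comap_bot, QuotientGroup.ker_mk']
  haveI := hqs.2
  exact ((QuotientGroup.quotientMulEquivOfEq hgk).symm.trans
    (QuotientGroup.quotientKerEquivOfSurjective g hg)).isSimpleGroup

end Cfsg.Agent.S3746
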