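import Cfsg.Statements.S3747
import Cfsg.Agent.Lib.Local.Component
import Cfsg.Agent.Lib.Solv.Subnormal
-- import your own Cfsg.Agent.* helpers here

set_option autoImplicit false
open Cfsg

namespace Cfsg.Agent.S3747

/-- Let G be a finite group. (a) If K is a component of G with trivial centre, then the normal closure of K in G is a minimal normal subgroup of G. (b) If the Fitting subgroup of G is trivial, then the layer E(G) is generated by the minimal normal subgroups of G. -/
theorem result {G : Type*} [Group G] [Finite G] : (∀ K : Subgroup G, Cfsg.IsComponent K → Subgroup.center ↥K = ⊥ → (Subgroup.normalClosure (K : Set G) ≠ ⊥ ∧ ∀ N : Subgroup G, N.Normal → N ≤ Subgroup.normalClosure (K : Set G) → N = ⊥ ∨ N = Subgroup.normalClosure (K : Set G))) ∧ (Cfsg.fittingSubgroup G = ⊥ → sSup {N : Subgroup G | N ≠ ⊥ ∧ N.Normal ∧ ∀ N' : Subgroup G, N'.Normal → N' ≤ N → N' = ⊥ ∨ N' = N} = Cfsg.layer G) := by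
  open Cfsg.Agent.Local in
  classical
  have partA : ∀ K : Subgroup G, Cfsg.IsComponent K → Subgroup.center ↥K = ⊥ →
      (Subgroup.normalClosure (K : Set G) ≠ ⊥ ∧ ∀ N : Subgroup G, N.Normal → N ≤ Subgroup.normalClosure (K : Set G) →
        N = ⊥ ∨ N = Subgroup.normalClosure (K : Set G)) := by
    intro K hK hZ
    set NC := Subgroup.normalClosure (K : Set G)
    refine ⟨fun e => component_ne_bot hK (le_bot_iff.1 (Subgroup.le_normalClosure.trans e.le)), fun N hN hle => ?_⟩
    set Cj : G → Subgroup G := fun g => K.map (MulAut.conj g).toMonoidHom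
    by_cases hex : ∃ g, Cj g ≤ N
    · obtain ⟨g, hg⟩ := hex
      refine Or.inr (le_antisymm hle (Subgroup.normalClosure_le_normal fun k hk => ?_))
      have := hN.conj_mem' _ (hg ⟨k, hk, rfl⟩) g
      simpa [mul_assoc] using this
    left
    push_neg at hex
    rw [Subgroup.eq_bot_iff_forall]
    have hcomm : ∀ g : G, ∀ x ∈ N, ∀ k ∈ Cj g, x * k = k * x := by
      intro g x hx k hk
      have h0 := (component_le_or_commutator_eq_bot (isComponent_conj hK g) hN.isSubnormal).resolve_left (hex g)
      open scoped commutatorElement in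
      have := Subgroup.commutator_mem_commutator (H₁ := Cj g) (H₂ := N) hk hx
      rw [h0, Subgroup.mem_bot] at this
      exact (commutatorElement_eq_one_iff_mul_comm.1 this).symm
    have hcen : ∀ g : G, ∀ k ∈ Cj g, (∀ k' ∈ Cj g, k * k' = k' * k) → k = 1 := by
      rintro g _ ⟨k, hk, rfl⟩ hc
      have : (⟨k, hk⟩ : ↥K) ∈ Subgroup.center ↥K := Subgroup.mem_center_iff.2 fun y => Subtype.ext (by
        have := hc _ ⟨y, y.2, rfl⟩
        rw [← map_mul, ← map_mul] at this
        exact ((MulAut.conj g).injective this).symm)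
      rw [hZ, Subgroup.mem_bot] at this
      rw [show k = 1 from congrArg Subtype.val this]
      exact map_one _
    have key : ∀ T : Finset (Subgroup G), (∀ L ∈ T, ∃ g, L = Cj g) → ∀ x ∈ (⨆ L ∈ T, L),
        (∀ L ∈ T, ∀ l ∈ L, x * l = l * x) → x = 1 := by
      intro T
      induction T using Finset.induction with
      | empty => intro _ x hx _; simpa using hx
      | @insert L T hLT ih =>
        intro hT x hx hc
        rw [Finset.iSup_insert] at hx
        obtain ⟨g, hg⟩ := hT L (Finset.mem_insert_self _ _)
        have hLcent : (⨆ M ∈ T, M) ≤ Subgroup.centralizer (L : Set G) := by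
          refine iSup₂_le fun M hM => ?_
          obtain ⟨g', hg'⟩ := hT M (Finset.mem_insert_of_mem hM)
          rw [← Subgroup.commutator_eq_bot_iff_le_centralizer, hg, hg']
          exact components_commute (isComponent_conj hK g') (isComponent_conj hK g)
            (fun e => hLT (hg.trans (e.symm.trans hg'.symm) ▸ hM))
        have hnorm : L ≤ Subgroup.normalizer ((⨆ M ∈ T, M : Subgroup G) : Set G) := by
          refine fun l hl => Subgroup.centralizer_le_normalizer _ ?_
          rw [Subgroup.mem_centralizer_iff]
          exact fun m hm => ((Subgroup.mem_centralizer_iff.1 (hLcent hm)) l hl).symm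
        have hx' : x ∈ ((L ⊔ (⨆ M ∈ T, M) : Subgroup G) : Set G) := hx
        rw [Subgroup.coe_mul_of_left_le_normalizer_right _ _ hnorm] at hx'
        obtain ⟨k, hk, r, hr, rfl⟩ := hx'
        have hk1 : k = 1 := by
          rw [hg] at hk
          refine hcen g k hk fun k' hk' => ?_
          have hk'L : k' ∈ L := hg ▸ hk'
          have e1 : k' * r = r * k' := Subgroup.mem_centralizer_iff.1 (hLcent hr) k' hk'L
          have e2 := hc L (Finset.mem_insert_self _ _) k' hk'L
          change k * r * k' = k' * (k * r) at e2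
          rw [mul_assoc, ← e1, ← mul_assoc, ← mul_assoc] at e2
          exact mul_right_cancel e2
        subst hk1
        show (1 : G) * r = 1
        rw [one_mul]
        refine ih (fun M hM => hT M (Finset.mem_insert_of_mem hM)) r hr fun M hM l hl => ?_
        have := hc M (Finset.mem_insert_of_mem hM) l hl
        simpa using this
    intro x hx
    haveI := Fintype.ofFinite G
    refine key (Finset.univ.image Cj) (fun L hL => ?_) x ?_ (fun L hL l hl => ?_)
    · obtain ⟨g, -, rfl⟩ := Finset.mem_image.1 hL; exact ⟨g, rfl⟩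
    · refine (Subgroup.closure_le _).2 ?_ (hle hx)
      intro y hy
      obtain ⟨k, hk, hky⟩ := Group.mem_conjugatesOfSet_iff.1 hy
      obtain ⟨g, rfl⟩ := isConj_iff.1 hky
      exact (le_iSup₂ (f := fun L (_ : L ∈ Finset.univ.image Cj) => L) (Cj g)
        (Finset.mem_image_of_mem _ (Finset.mem_univ g))) ⟨k, hk, rfl⟩
    · obtain ⟨g, -, rfl⟩ := Finset.mem_image.1 hL
      exact hcomm g x hx l hl
  refine ⟨partA, fun hF => le_antisymm ?_ ?_⟩
  · refine sSup_le ?_
    rintro N ⟨hN1, hN, hmin⟩
    obtain ⟨S, hS⟩ := (Set.toFinite {S : Subgroup G | S.IsSubnormal ∧ S ≤ N ∧ S ≠ ⊥}).exists_minimal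
      ⟨N, hN.isSubnormal, le_rfl, hN1⟩
    obtain ⟨⟨hSs, hSN, hS1⟩, hSmin⟩ := hS
    haveI : Nontrivial ↥S := (Subgroup.nontrivial_iff_ne_bot S).2 hS1
    haveI hsimp : IsSimpleGroup ↥S := ⟨fun M hM => by
      by_cases hM1 : M = ⊥
      · exact Or.inl hM1
      right
      have hMs : (M.map S.subtype).IsSubnormal := by
        refine Subgroup.IsSubnormal.step _ S (Subgroup.map_subtype_le M) hSs ?_
        rw [Subgroup.subgroupOf, Subgroup.comap_map_eq_self_of_injective S.subtype_injective]
        exact hM
      have hge := hSmin ⟨hMs, (Subgroup.map_subtype_le M).trans hSN, fun e => hM1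
        (Subgroup.map_injective S.subtype_injective (by rw [e, Subgroup.map_bot]))⟩ (Subgroup.map_subtype_le M)
      rw [eq_top_iff]
      intro s _
      obtain ⟨m, hm, e⟩ := hge s.2
      rwa [← Subtype.ext (e : (m : G) = s)]⟩
    have hnc : ¬ IsMulCommutative ↥S := by
      intro hc
      haveI := hc
      letI : CommGroup ↥S := { (inferInstance : Group ↥S) with mul_comm := hc.is_comm.comm }
      have := Cfsg.Agent.Solv.le_fittingSubgroup_of_isSubnormal hSs CommGroup.isNilpotent
      rw [hF] at this
      exact hS1 (le_bot_iff.1 this)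
    have hcS : Subgroup.center ↥S = ⊥ := by
      rcases (inferInstance : (Subgroup.center ↥S).Normal).eq_bot_or_eq_top with e | e
      · exact e
      · exact absurd ⟨⟨fun a b => Subgroup.mem_center_iff.1 (e ▸ Subgroup.mem_top b) a⟩⟩ hnc
    have hcomp : Cfsg.IsComponent S := by
      refine ⟨hSs, ⟨?_⟩, ?_⟩
      · rcases (inferInstance : (commutator ↥S).Normal).eq_bot_or_eq_top with e | e
        · exact absurd (hcS.symm.trans ((commutator_eq_bot_iff_center_eq_top _).1 e)) bot_ne_top
        · exact e
      · exact ((QuotientGroup.quotientMulEquivOfEq hcS).trans QuotientGroup.quotientBot).isSimpleGroup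
    have h0 := hmin (Subgroup.normalClosure (S : Set G)) Subgroup.normalClosure_normal
      (Subgroup.normalClosure_le_normal hSN)
    haveI := layer_normal (G := G)
    have hle : Subgroup.normalClosure (S : Set G) ≤ Cfsg.layer G :=
      Subgroup.normalClosure_le_normal (le_sSup hcomp : S ≤ Cfsg.layer G)
    rcases h0 with e | e
    · exact absurd (le_bot_iff.1 (Subgroup.le_normalClosure.trans e.le)) hS1
    · exact e ▸ hle
  · refine sSup_le fun K hK => ?_
    have hZ : Subgroup.center ↥K = ⊥ := by
      have hs : ((Subgroup.center ↥K).map K.subtype).IsSubnormal := by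
        refine Subgroup.IsSubnormal.step _ K (Subgroup.map_subtype_le _) hK.1 ?_
        rw [Subgroup.subgroupOf, Subgroup.comap_map_eq_self_of_injective K.subtype_injective]
        infer_instance
      haveI : Group.IsNilpotent ↥(Subgroup.center ↥K) := by
        letI : CommGroup ↥(Subgroup.center ↥K) := { (inferInstance : Group ↥(Subgroup.center ↥K)) with mul_comm := fun a b => Subtype.ext (Subgroup.mem_center_iff.1 b.2 a) }
        exact CommGroup.isNilpotent
      have hnil : Group.IsNilpotent ↥((Subgroup.center ↥K).map K.subtype) :=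
        Group.nilpotent_of_surjective _ (MonoidHom.subgroupMap_surjective K.subtype (Subgroup.center ↥K))
      have := Cfsg.Agent.Solv.le_fittingSubgroup_of_isSubnormal hs hnil
      rw [hF, le_bot_iff] at this
      exact Subgroup.map_injective K.subtype_injective (by rw [this, Subgroup.map_bot])
    obtain ⟨h1, h2⟩ := partA K hK hZ
    exact Subgroup.le_normalClosure.trans (le_sSup (a := Subgroup.normalClosure (K : Set G))
      ⟨h1, Subgroup.normalClosure_normal, h2⟩)

end Cfsg.Agent.S3747
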