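import Cfsg.Statements.S3748
import Cfsg.Agent.Lib.Solv.Subnormal

set_option autoImplicit false
open Cfsg
open Subgroup Cfsg.Agent.Solv
open scoped Pointwise

namespace Cfsg.Agent.S3748

/-- Call a proper subgroup M of G primitive when M = N_G(N) for every non-trivial normal subgroup N of M. If M is a primitive subgroup of the finite group G, then no non-trivial subnormal subgroup of G is contained in M; in particular M ∩ F(G) = 1. -/
theorem result {G : Type*} [Group G] [Finite G] (M : Subgroup G) (hM : M ≠ ⊤) (hprim : ∀ N : Subgroup G, N ≤ M → M ≤ Subgroup.normalizer (N : Set G) → N ≠ ⊥ → Subgroup.normalizer (N : Set G) = M) : (∀ L : Subgroup G, L.IsSubnormal → L ≤ M → L = ⊥) ∧ M ⊓ Cfsg.fittingSubgroup G = ⊥ := by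
  set N := sSup {L : Subgroup G | L.IsSubnormal ∧ L ≤ M} with hN
  have hNM : N ≤ M := sSup_le fun L hL => hL.2
  have hNs : N.IsSubnormal := isSubnormal_sSup fun L hL => hL.1
  have hconj : ∀ g : G, (MulAut.conj g • N).IsSubnormal := fun g =>
    hNs.map (f := (MulAut.conj g).toMonoidHom) (MulAut.conj g).surjective
  have hle : ∀ g : G, MulAut.conj g • N ≤ M → MulAut.conj g • N = N := fun g hg =>
    eq_of_le_of_card_ge (le_sSup ⟨hconj g, hg⟩) (by rw [card_conj_smul])
  have hbot : N = ⊥ := by
    by_contra hne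
    have hMN : M ≤ normalizer (N : Set G) := fun m hm => mem_normalizer_of_conj_le
      (hle m (fun x hx => by
        rw [mem_conj_smul] at hx
        simpa [mul_assoc] using mul_mem (mul_mem hm (hNM hx)) (inv_mem hm))).le
    have hnor := hprim N hNM hMN hne
    have hnn : ¬ N.Normal := fun h => hM (hnor.symm.trans (normalizer_eq_top_iff.2 h))
    obtain ⟨g, hg, hgn⟩ := exists_conj_le_normalizer hNs hnn
    exact hg (hle g (hgn.trans hnor.le))
  have hall : ∀ L : Subgroup G, L.IsSubnormal → L ≤ M → L = ⊥ := fun L hL hLM =>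
    le_bot_iff.1 (hbot ▸ le_sSup (α := Subgroup G) ⟨hL, hLM⟩)
  refine ⟨hall, hall _ ?_ inf_le_left⟩
  haveI : Group.IsNilpotent (Cfsg.fittingSubgroup G) := fittingSubgroup_isNilpotent G
  haveI := fittingSubgroup_normal G
  exact IsSubnormal.trans inf_le_right (isSubnormal_of_isNilpotent _)
    (fittingSubgroup_normal G).isSubnormal

end Cfsg.Agent.S3748
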