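import Cfsg.Statements.S3749
import Cfsg.Agent.Lib.Solv.Coprime
import Cfsg.Agent.Lib.Solv.AbelianAction
import Cfsg.Agent.Lib.Solv.Basic

set_option autoImplicit false
set_option linter.style.haveILetI false
open Cfsg
open Subgroup
open scoped Pointwise

namespace Cfsg.Agent.S3749

/-- Call a proper subgroup M of G primitive when M = N_G(N) for every non-trivial normal subgroup N of M. Let M be a primitive subgroup of the finite group G, p a prime with O_p(M) ≠ 1, and N a normal subgroup of G with M ∩ N = 1. Then p does not divide the order of N; for every prime q there is exactly one Sylow q-subgroup of N normalized by M; and if the order of N has at least two prime divisors then M is not a maximal subgroup of G. -/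
theorem result {G : Type*} [Group G] [Finite G] (M : Subgroup G) (hM : M ≠ ⊤) (hprim : ∀ N : Subgroup G, N ≤ M → M ≤ Subgroup.normalizer (N : Set G) → N ≠ ⊥ → Subgroup.normalizer (N : Set G) = M) {p : ℕ} [Fact p.Prime] (hOp : Cfsg.pCore p ↥M ≠ ⊥) (N : Subgroup G) [N.Normal] (hMN : M ⊓ N = ⊥) : ¬ p ∣ Nat.card N ∧ (∀ q : ℕ, [Fact q.Prime] → ∃! Q : Sylow q ↥N, M ≤ Subgroup.normalizer ((Q : Subgroup ↥N).map N.subtype : Set G)) ∧ ((∃ q r : ℕ, q.Prime ∧ r.Prime ∧ q ≠ r ∧ q ∣ Nat.card N ∧ r ∣ Nat.card N) → ¬ IsCoatom M) := by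
  classical
  have hp : p.Prime := Fact.out
  set R := (Cfsg.pCore p ↥M).map M.subtype with hRdef
  have hRM : R ≤ M := map_subtype_le _
  haveI := Cfsg.Agent.Solv.pCore_characteristic p ↥M
  have hMR : M ≤ normalizer (R : Set G) := by
    intro m hm
    refine mem_normalizer_iff_map_conj_eq.2 (eq_of_le_of_card_ge ?_ ?_)
    · rintro _ ⟨_, ⟨x, hx, rfl⟩, rfl⟩
      exact ⟨⟨m, hm⟩ * x * ⟨m, hm⟩⁻¹, Subgroup.Normal.conj_mem inferInstance x hx ⟨m, hm⟩, rfl⟩
    · exact (Nat.card_congr (R.equivMapOfInjective _ (MulAut.conj m).injective).toEquiv).le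
  have hRb : R ≠ ⊥ := by
    rw [hRdef, Ne, map_eq_bot_iff_of_injective _ M.subtype_injective]
    exact hOp
  have hNR : normalizer (R : Set G) = M := hprim R hRM hMR hRb
  have hRp : IsPGroup p R := (Cfsg.Agent.Solv.isPGroup_pCore p ↥M).map M.subtype
  have hfpf : ∀ x ∈ N, x ∈ centralizer (R : Set G) → x = 1 := fun x hx hxR =>
    mem_bot.1 (hMN ▸ mem_inf.2 ⟨hNR ▸ centralizer_le_normalizer (R : Set G) hxR, hx⟩)
  have hRN : R ≤ normalizer (N : Set G) := by rw [normalizer_eq_top]; exact le_top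
  have hpN : ¬ p ∣ Nat.card N := by
    letI : MulAction R N := MulAction.compHom N (Cfsg.Agent.Solv.conjHom R N hRN)
    intro hdvd
    have h1 := hRp.card_modEq_card_fixedPoints N
    have h2 : Nat.card (MulAction.fixedPoints R N) = 1 := by
      rw [Nat.card_eq_one_iff_unique]
      refine ⟨⟨fun a b => ?_⟩, ⟨⟨1, fun r => map_one (Cfsg.Agent.Solv.conjHom R N hRN r)⟩⟩⟩
      have key : ∀ a : MulAction.fixedPoints R N, ((a : N) : G) = 1 := fun a => hfpf _ a.1.2 <| by
        refine mem_centralizer_iff.2 fun r hr => ?_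
        exact mul_inv_eq_iff_eq_mul.1 (congrArg Subtype.val (a.2 ⟨r, hr⟩))
      exact Subtype.ext (Subtype.ext ((key a).trans (key b).symm))
    rw [h2] at h1
    have h3 := (Nat.modEq_zero_iff_dvd.2 hdvd).symm.trans h1
    exact hp.not_dvd_one (Nat.modEq_zero_iff_dvd.1 h3.symm)
  have hcop : (Nat.card R).Coprime (Nat.card N) := by
    obtain ⟨k, hk⟩ := IsPGroup.iff_card.1 hRp
    rw [hk]
    exact (hp.coprime_iff_not_dvd.2 hpN).pow_left k
  haveI := hRp.isNilpotent
  have hsolv : Group.IsSolvable R ∨ Group.IsSolvable N := Or.inl inferInstance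
  have huniq : ∀ q : ℕ, [Fact q.Prime] → ∃! Q : Sylow q ↥N,
      M ≤ Subgroup.normalizer ((Q : Subgroup ↥N).map N.subtype : Set G) := by
    intro q hq
    obtain ⟨Q, hQ⟩ := Cfsg.Agent.Solv.exists_invariant_sylow R N hRN hcop hsolv q
    have hu : ∀ S : Sylow q N, R ≤ normalizer (((S : Subgroup N).map N.subtype : Subgroup G) : Set G) → S = Q := by
      intro S hS
      obtain ⟨c, hc, hcS⟩ := Cfsg.Agent.Solv.invariant_sylow_conj R N hRN hcop hsolv q S Q hS hQ
      rw [show c = 1 from Subtype.ext (hfpf c c.2 hc), map_one, one_smul] at hcS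
      exact hcS
    refine ⟨Q, fun m hm => ?_, fun S hS => hu S (hRM.trans hS)⟩
    have hmap : (((MulAut.conjNormal m : MulAut N) • Q : Sylow q N) : Subgroup N).map N.subtype
        = ((Q : Subgroup N).map N.subtype).map (MulAut.conj m).toMonoidHom := by
      rw [Sylow.pointwise_smul_def, Subgroup.pointwise_smul_def, map_map]
      erw [map_map]
      rfl
    have h1 := hu ((MulAut.conjNormal m : MulAut N) • Q) (fun r hr => by
      rw [hmap, mem_normalizer_iff_map_conj_eq, map_map]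
      have hr' : m⁻¹ * r * m ∈ R := ((mem_normalizer_iff''.1 (hMR hm)) r).1 hr
      conv_rhs => rw [← mem_normalizer_iff_map_conj_eq.1 (hQ hr'), map_map]
      congr 1
      ext x
      simp [mul_assoc])
    rw [mem_normalizer_iff_map_conj_eq]
    exact hmap.symm.trans (congrArg (fun S : Sylow q N => (S : Subgroup N).map N.subtype) h1)
  refine ⟨hpN, huniq, ?_⟩
  rintro ⟨q, r, hq, hr, hqr, hqN, hrN⟩ hcoat
  haveI : Fact q.Prime := ⟨hq⟩
  obtain ⟨Q, hQM, -⟩ := huniq q
  set T := (Q : Subgroup N).map N.subtype with hT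
  have hTN : T ≤ N := map_subtype_le _
  have hTb : T ≠ ⊥ := by
    rw [hT, Ne, map_eq_bot_iff_of_injective _ N.subtype_injective]
    exact Q.ne_bot_of_dvd_card hqN
  have hlt : M < M ⊔ T := lt_of_le_of_ne le_sup_left fun h => hTb
    (le_bot_iff.1 (hMN ▸ le_inf (h ▸ le_sup_right) hTN))
  have htop := hcoat.2 _ hlt
  have hNT : N ≤ T := by
    intro x hx
    have h1 : x ∈ ((M ⊔ T : Subgroup G) : Set G) := by rw [htop]; exact mem_top x
    rw [coe_mul_of_left_le_normalizer_right M T hQM] at h1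
    obtain ⟨a, ha, b, hb, rfl⟩ := h1
    have ha1 : a = 1 := mem_bot.1 (hMN ▸ mem_inf.2 ⟨ha, by simpa using mul_mem hx (inv_mem (hTN hb))⟩)
    simpa [ha1] using hb
  have hN : IsPGroup q N := (Q.isPGroup'.map N.subtype).to_le hNT
  obtain ⟨k, hk⟩ := IsPGroup.iff_card.1 hN
  exact hqr ((Nat.prime_dvd_prime_iff_eq hr hq).1 (hr.dvd_of_dvd_pow (hk ▸ hrN))).symm

end Cfsg.Agent.S3749
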