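import Cfsg.Statements.S3750
import Cfsg.Agent.Lib.Local.FStar
-- import your own Cfsg.Agent.* helpers here

set_option autoImplicit false
open Cfsg

namespace Cfsg.Agent.S3750

/-- Call a proper subgroup M of G primitive when M = N_G(N) for every non-trivial normal subgroup N of M. Let M be a primitive subgroup of the finite group G and N a normal subgroup of G with M ∩ F*(N) ≠ 1. Then F(G) = 1 and F*(N) = F*(G) = E(G); in particular every minimal normal subgroup of G is contained in N. -/
theorem result {G : Type*} [Group G] [Finite G] (M : Subgroup G) (hM : M ≠ ⊤) (hprim : ∀ N : Subgroup G, N ≤ M → M ≤ Subgroup.normalizer (N : Set G) → N ≠ ⊥ → Subgroup.normalizer (N : Set G) = M) (N : Subgroup G) [N.Normal] (hMF : M ⊓ (Cfsg.generalizedFittingSubgroup ↥N).map N.subtype ≠ ⊥) : Cfsg.fittingSubgroup G = ⊥ ∧ (Cfsg.generalizedFittingSubgroup ↥N).map N.subtype = Cfsg.generalizedFittingSubgroup G ∧ Cfsg.generalizedFittingSubgroup G = Cfsg.layer G ∧ ∀ K : Subgroup G, K.Normal → K ≠ ⊥ → (∀ K' : Subgroup G, K'.Normal → K' ≤ K → K'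 = ⊥ ∨ K' = K) → K ≤ N := by
  haveI hgn : (Cfsg.generalizedFittingSubgroup G).Normal :=
    haveI := Cfsg.Agent.Local.layer_normal (G := G)
    haveI := Cfsg.Agent.Solv.fittingSubgroup_normal G
    Subgroup.sup_normal _ _
  obtain ⟨N0, hN0⟩ : ∃ N0, N0 = (Cfsg.generalizedFittingSubgroup ↥N).map N.subtype := ⟨_, rfl⟩
  have hsn : N.IsSubnormal := (inferInstance : N.Normal).isSubnormal
  have hN0' : N0 = Cfsg.generalizedFittingSubgroup G ⊓ N := by
    rw [hN0]; exact (Cfsg.Agent.Local.generalizedFitting_inf hsn).symm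
  haveI hN0n : N0.Normal := by rw [hN0']; infer_instance
  rw [← hN0] at hMF ⊢
  have hXn : M ≤ Subgroup.normalizer ((M ⊓ N0 : Subgroup G) : Set G) := by
    intro g hg
    refine Subgroup.mem_normalizer_iff.mpr fun x => ?_
    simp only [Subgroup.mem_inf]
    refine and_congr ?_ ?_
    · exact ⟨fun hx => mul_mem (mul_mem hg hx) (inv_mem hg), fun hx => by
        simpa [mul_assoc] using mul_mem (mul_mem (inv_mem hg) hx) hg⟩
    · exact ⟨fun hx => hN0n.conj_mem x hx g, fun hx => by
        simpa [mul_assoc] using hN0n.conj_mem _ hx g⁻¹⟩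
  have hNX := hprim (M ⊓ N0) inf_le_left hXn hMF
  have hnotle : ∀ K : Subgroup G, K.Normal → K ≤ M → K = ⊥ := fun K hK hKM => by
    by_contra hne
    refine hM ?_
    rw [← hprim K hKM (fun g _ => by rw [Subgroup.normalizer_eq_top_iff.mpr hK]; trivial) hne,
      Subgroup.normalizer_eq_top_iff.mpr hK]
  have hC : ∀ K : Subgroup G, K.Normal → K ≤ Subgroup.centralizer (N0 : Set G) → K = ⊥ := fun K hK hle =>
    hnotle K hK (((hle.trans (Subgroup.centralizer_le inf_le_right)).trans
      (fun x hx => Subgroup.mem_normalizer_iff.mpr fun y => ⟨fun hy => by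
        rw [← Subgroup.mem_centralizer_iff.mp hx y hy, mul_inv_cancel_right]; exact hy, fun hy => by
        have h := Subgroup.mem_centralizer_iff.mp (inv_mem hx) _ hy
        have e : y = x * y * x⁻¹ := by
          have h2 := congrArg (· * x) h
          simp only [mul_assoc, inv_mul_cancel_left, inv_mul_cancel, mul_one] at h2
          simpa [mul_assoc] using h2.symm
        rw [e]; exact hy⟩)).trans hNX.le)
  have hF : Cfsg.fittingSubgroup G = ⊥ := by
    haveI := Cfsg.Agent.Solv.fittingSubgroup_normal G
    haveI hnil := Cfsg.Agent.Solv.fittingSubgroup_isNilpotent G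
    let R := (Subgroup.center ↥(Cfsg.fittingSubgroup G)).map (Cfsg.fittingSubgroup G).subtype
    have hR : R = ⊥ := by
      refine hC R inferInstance ?_
      have h1 : R ≤ Subgroup.centralizer (Cfsg.generalizedFittingSubgroup G : Set G) := by
        rw [Subgroup.le_centralizer_iff]
        refine sup_le ?_ ?_
        · exact Cfsg.Agent.Local.layer_le_centralizer_fitting.trans
            (Subgroup.centralizer_le (Subgroup.map_subtype_le _))
        · intro f hf
          rw [Subgroup.mem_centralizer_iff]
          rintro _ ⟨z, hz, rfl⟩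
          exact (congrArg Subtype.val (Subgroup.mem_center_iff.mp hz ⟨f, hf⟩)).symm
      exact h1.trans (Subgroup.centralizer_le (hN0' ▸ inf_le_left))
    by_contra hne
    haveI : Nontrivial ↥(Cfsg.fittingSubgroup G) := (Subgroup.nontrivial_iff_ne_bot _).mpr hne
    exact (Group.IsNilpotent.center_ne_bot _) ((Subgroup.map_eq_bot_iff_of_injective _
      (Cfsg.fittingSubgroup G).subtype_injective).mp hR)
  have hE : Cfsg.generalizedFittingSubgroup G = Cfsg.layer G := by
    rw [Cfsg.generalizedFittingSubgroup, hF, sup_bot_eq]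
  have hle : Cfsg.generalizedFittingSubgroup G ≤ N := by
    rw [hE]
    refine sSup_le fun L hL => (Cfsg.Agent.Local.component_le_or_commutator_eq_bot hL hsn).resolve_right fun h => ?_
    have hLc : L ≤ Subgroup.centralizer (N0 : Set G) :=
      (Subgroup.commutator_eq_bot_iff_le_centralizer.mp h).trans (Subgroup.centralizer_le (hN0' ▸ inf_le_right))
    exact Cfsg.Agent.Local.component_ne_bot hL
      (le_bot_iff.mp (hLc.trans (hC _ inferInstance le_rfl).le))
  refine ⟨hF, by rw [hN0', inf_eq_left.mpr hle], hE, fun K hK hK1 hmin => ?_⟩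
  rcases hmin (K ⊓ N) inferInstance inf_le_left with h | h
  · refine absurd (hC K hK ?_) hK1
    intro x hx
    rw [Subgroup.mem_centralizer_iff]
    intro y hy
    refine Subgroup.commute_of_normal_of_disjoint N K inferInstance hK
      (disjoint_iff.mpr (by rw [inf_comm]; exact h)) y x ((hN0' ▸ inf_le_right : N0 ≤ N) hy) hx
  · exact inf_eq_left.mp h

end Cfsg.Agent.S3750
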