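import Cfsg.Statements.S3751
import Cfsg.Agent.Lib.Perm.Fitting

set_option autoImplicit false
set_option linter.unusedSectionVars false
set_option linter.style.haveILetI false
open Cfsg

namespace Cfsg.Agent.S3751

open Subgroup

variable {G : Type*} [Group G] [Finite G] {p : ℕ} [Fact p.Prime]

def Loc (p : ℕ) (M : Subgroup G) : Prop := ∃ T : Subgroup G, IsPGroup p T ∧ T ≠ ⊥ ∧ M = normalizer (T : Set G)

def Mx (p : ℕ) (M : Subgroup G) : Prop := Loc p M ∧ ∀ L : Subgroup G, Loc p L → M ≤ L → L = M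

def O (p : ℕ) (M : Subgroup G) : Subgroup G := (Cfsg.pCore p ↥M).map M.subtype

def SylIn (p : ℕ) (T M : Subgroup G) : Prop := ∀ X : Subgroup G, IsPGroup p X → T ≤ X → X ≤ M → X = T

theorem O_pg (M : Subgroup G) : IsPGroup p ↥(O p M) := (Cfsg.Agent.Perm.pCore_isPGroup' p).map M.subtype

theorem O_le (M : Subgroup G) : O p M ≤ M := map_subtype_le _

theorem le_O {R M : Subgroup G} (hR : IsPGroup p R) (h : R ≤ M) (hn : M ≤ normalizer (R : Set G)) : R ≤ O p M := by
  have h1 : R.subgroupOf M ≤ Cfsg.pCore p ↥M :=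
    le_sSup ⟨(normal_subgroupOf_iff_le_normalizer h).2 hn, hR.comap_of_injective _ M.subtype_injective⟩
  have h2 := map_mono (f := M.subtype) h1
  rwa [subgroupOf_map_subtype, inf_eq_left.2 h] at h2

theorem norm_O (M : Subgroup G) : M ≤ normalizer (O p M : Set G) := by
  haveI := Cfsg.Agent.Perm.pCore_normal' (G := ↥M) p
  have := le_normalizer_map (H := Cfsg.pCore p ↥M) M.subtype
  rwa [normalizer_eq_top, ← MonoidHom.range_eq_map, range_subtype] at this

theorem map_norm (T : Subgroup G) (g : G) : (normalizer (T : Set G)).map (MulAut.conj g).toMonoidHom =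
    normalizer ((T.map (MulAut.conj g).toMonoidHom : Subgroup G) : Set G) :=
  map_equiv_normalizer_eq T (MulAut.conj g)

theorem mem_norm {g : G} {B : Subgroup G} (h : B.map (MulAut.conj g).toMonoidHom = B) :
    g ∈ normalizer (B : Set G) := by
  rw [mem_normalizer_iff]
  intro n
  constructor
  · intro hn
    rw [← h]; exact ⟨n, hn, rfl⟩
  · intro hn
    have hn' : g * n * g⁻¹ ∈ B.map (MulAut.conj g).toMonoidHom := by rw [h]; exact hn
    obtain ⟨b, hb, he⟩ := hn'
    have : b = n := (MulAut.conj g).injective he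
    exact this ▸ hb

theorem map_of_norm {g : G} {B : Subgroup G} (h : g ∈ normalizer (B : Set G)) :
    B.map (MulAut.conj g).toMonoidHom = B := by
  ext x
  rw [mem_map]
  constructor
  · rintro ⟨b, hb, rfl⟩; exact (mem_normalizer_iff.1 h b).1 hb
  · intro hx
    refine ⟨g⁻¹ * x * g, (mem_normalizer_iff.1 h _).2 (by simpa [mul_assoc] using hx), by simp [mul_assoc]⟩

theorem norm_le_norm_O (A : Subgroup G) : normalizer (A : Set G) ≤ normalizer (O p A : Set G) := by
  intro g hg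
  refine mem_norm (Subgroup.eq_of_le_of_card_ge ?_ ?_)
  · refine le_O ((O_pg A).map _) ((map_mono (O_le A)).trans_eq (map_of_norm hg)) ?_
    rw [← map_norm]
    exact (map_of_norm hg).ge.trans (map_mono (norm_O A))
  · rw [card_map_of_injective (MulAut.conj g).injective]

theorem O_ne {M : Subgroup G} (h : Loc p M) : O p M ≠ ⊥ := by
  obtain ⟨T, hT, hne, rfl⟩ := h
  exact fun e => hne (le_bot_iff.1 (e ▸ le_O hT le_normalizer le_rfl))

theorem exists_mx {M : Subgroup G} (h : Loc p M) : ∃ L, Mx p L ∧ M ≤ L := by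
  obtain ⟨L, h1, h2⟩ := Finite.exists_le_maximal (p := Loc p) h
  exact ⟨L, ⟨h2.1, fun K hK hle => le_antisymm (h2.2 hK hle) hle⟩, h1⟩

theorem mx_eq {M R : Subgroup G} (h : Mx p M) (hR : IsPGroup p R) (hne : R ≠ ⊥)
    (hn : M ≤ normalizer (R : Set G)) : normalizer (R : Set G) = M := h.2 _ ⟨R, hR, hne, rfl⟩ hn

theorem norm_self {M : Subgroup G} (h : Mx p M) {g : G} (he : M.map (MulAut.conj g).toMonoidHom = M) : g ∈ M := by
  have := norm_le_norm_O (p := p) M (mem_norm he)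
  rwa [mx_eq h (O_pg M) (O_ne h.1) (norm_O M)] at this

theorem map_inv (M : Subgroup G) (g : G) :
    (M.map (MulAut.conj g).toMonoidHom).map (MulAut.conj g⁻¹).toMonoidHom = M := by
  rw [map_map]
  convert map_id M
  ext x; simp [mul_assoc]

theorem loc_map {M : Subgroup G} (h : Loc p M) (g : G) : Loc p (M.map (MulAut.conj g).toMonoidHom) := by
  obtain ⟨T, hT, hne, rfl⟩ := h
  exact ⟨_, hT.map _, fun e => hne ((map_eq_bot_iff_of_injective T (MulAut.conj g).injective).1 e), map_norm T g⟩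

theorem mx_map {M : Subgroup G} (h : Mx p M) (g : G) : Mx p (M.map (MulAut.conj g).toMonoidHom) := by
  refine ⟨loc_map h.1 g, fun L hL hle => ?_⟩
  have h1 := h.2 _ (loc_map hL g⁻¹) ((map_inv M g).ge.trans (map_mono hle))
  rw [← h1]
  simpa using (map_inv L g⁻¹).symm

theorem prim {M A : Subgroup G} (hM : Mx p M)
    (hc : centralizer (Cfsg.pCore p ↥M : Set ↥M) ≤ Cfsg.pCore p ↥M)
    (hA : A ≠ ⊥) (hAM : A ≤ M) (hn : M ≤ normalizer (A : Set G)) : normalizer (A : Set G) = M := by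
  have hI : A ⊓ O p M ≠ ⊥ := by
    intro e
    haveI := Cfsg.Agent.Perm.pCore_normal' (G := ↥M) p
    haveI := (normal_subgroupOf_iff_le_normalizer hAM).2 hn
    have hd : Disjoint (A.subgroupOf M) (Cfsg.pCore p ↥M) := by
      rw [disjoint_def]
      intro x hx hx'
      have hm : (x : G) ∈ A ⊓ O p M := ⟨hx, ⟨x, hx', rfl⟩⟩
      rw [e] at hm
      exact Subtype.ext hm
    have hle : A.subgroupOf M ≤ Cfsg.pCore p ↥M := fun x hx => hc (mem_centralizer_iff.2 fun y hy =>
      (commute_of_normal_of_disjoint _ _ inferInstance inferInstance hd x y hx hy).eq.symm)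
    refine hA ((eq_bot_iff_forall _).2 fun a ha => ?_)
    have hm : a ∈ A ⊓ O p M := ⟨ha, ⟨⟨a, hAM ha⟩, hle ha, rfl⟩⟩
    rw [e] at hm
    exact hm
  have hOA : O p A ≠ ⊥ := fun e => hI (le_bot_iff.1 (e ▸ le_O ((O_pg M).to_le inf_le_right) inf_le_left ?_))
  · exact le_antisymm ((norm_le_norm_O A).trans_eq
      (mx_eq hM (O_pg A) hOA (hn.trans (norm_le_norm_O A)))) hn
  · intro a ha
    apply mem_norm
    rw [Subgroup.map_inf _ _ _ (MulAut.conj a).injective, map_of_norm (le_normalizer ha),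
      map_of_norm (norm_O M (hAM ha))]

theorem grow {T X : Subgroup G} (hX : IsPGroup p X) (h : T ≤ X) (hne : X ≠ T) :
    ∃ x ∈ X, x ∈ normalizer (T : Set G) ∧ x ∉ T := by
  haveI := hX.isNilpotent
  have hlt : T.subgroupOf X < ⊤ := lt_top_iff_ne_top.2 fun e => hne (le_antisymm (subgroupOf_eq_top.1 e) h)
  obtain ⟨x, hx, hxT⟩ := SetLike.exists_of_lt (Group.normalizerCondition_of_isNilpotent _ hlt)
  refine ⟨x, x.2, ?_, hxT⟩
  rw [mem_normalizer_iff] at hx ⊢
  intro n
  constructor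
  · exact fun hn => (hx ⟨n, h hn⟩).1 hn
  · intro hn
    have hn' : n ∈ X := by
      have := X.mul_mem (X.mul_mem (X.inv_mem x.2) (h hn)) x.2
      simpa [mul_assoc] using this
    exact (hx ⟨n, hn'⟩).2 hn

theorem O_le_syl {T M : Subgroup G} (hT : IsPGroup p T) (hTM : T ≤ M) (h : SylIn p T M) : O p M ≤ T := by
  have := h (T ⊔ O p M) (hT.to_sup_of_normal_right' (O_pg M) (hTM.trans (norm_O M))) le_sup_left (sup_le hTM (O_le M))
  exact le_sup_right.trans this.le

/-- Two distinct subgroups M₁, M₂ of G form a primitive pair when, for {i, j} = {1, 2}, every non-trivial normal subgroup A of M_i contained in M₁ ∩ M₂ satisfies N_{M_j}(A) = M₁ ∩ M₂; the pair has characteristic p when moreover C_{M_i}(O_p(M_i)) ≤ O_p(M_i) for both i and O_p(M₁)O_p(M₂) ≤ M₁ ∩ M₂. Let G be a finite group, p a prime dividing its order, with O_p(G) = 1 and every p-local subgroup of characteristic p. Then either G has a primitive pair of characteristic p, or every maximal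 p-local subgroup M of G is strongly p-embedded in G: M is a proper subgroup, p divides its order, and for every g ∉ M the order of M ∩ gMg⁻¹ is prime to p. -/
theorem result {G : Type*} [Group G] [Finite G] {p : ℕ} [Fact p.Prime] (hloc : Cfsg.IsOfLocalCharacteristic p G) (hOp : Cfsg.pCore p G = ⊥) : (∃ M₁ M₂ : Subgroup G, M₁ ≠ M₂ ∧ (∀ A : Subgroup G, A ≠ ⊥ → A ≤ M₁ ⊓ M₂ → (M₁ ≤ Subgroup.normalizer (A : Set G) → M₂ ⊓ Subgroup.normalizer (A : Set G) = M₁ ⊓ M₂) ∧ (M₂ ≤ Subgroup.normalizer (A : Set G) → M₁ ⊓ Subgroup.normalizer (A : Set G) = M₁ ⊓ M₂)) ∧ Subgroup.centralizer (Cfsg.pCore p ↥M₁ : Set ↥M₁) ≤ Cfsg.pCore p ↥M₁ ∧ Subgroup.centralizer (Cfsg.pCore p ↥M₂ : Set ↥M₂) ≤ Cfsg.pCore p ↥M₂ ∧ (Cfsg.pCore p ↥M₁).map M₁.subtype ⊔ (Cfsg.pCore p ↥M₂).map M₂.subtype ≤ M₁ ⊓ M₂) ∨ (∀ M : Subgroup G, (∃ T : Subgroup G, IsPGroup p T ∧ T ≠ ⊥ ∧ M = Subgroup.normalizer (T : Set G)) → (∀ L : Subgroup G, (∃ T : Subgroup G, IsPGroup p T ∧ T ≠ ⊥ ∧ L = Subgroup.normalizer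 (T : Set G)) → M ≤ L → L = M) → M ≠ ⊤ ∧ p ∣ Nat.card M ∧ ∀ g : G, g ∉ M → ¬ p ∣ Nat.card ↥(M ⊓ M.map (MulAut.conj g).toMonoidHom)) := by
  have hch : ∀ M : Subgroup G, Loc p M → centralizer (Cfsg.pCore p ↥M : Set ↥M) ≤ Cfsg.pCore p ↥M := by
    rintro M ⟨T, hT, hne, rfl⟩; exact hloc.2 T hT hne
  by_cases hp : ∃ M L : Subgroup G, Mx p M ∧ Mx p L ∧ M ≠ L ∧ O p M ≤ L ∧ O p L ≤ M
  · obtain ⟨M, L, hM, hL, hne, h1, h2⟩ := hp
    refine Or.inl ⟨M, L, hne, fun A hA hle => ⟨fun hn => ?_, fun hn => ?_⟩, hch M hM.1, hch L hL.1,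
      sup_le (le_inf (O_le M) h1) (le_inf h2 (O_le L))⟩
    · rw [prim hM (hch M hM.1) hA (hle.trans inf_le_left) hn, inf_comm]
    · rw [prim hL (hch L hL.1) hA (hle.trans inf_le_right) hn]
  · refine Or.inr fun M hM hmax => ?_
    have hMx : Mx p M := ⟨hM, hmax⟩
    refine ⟨?_, ?_, ?_⟩
    · obtain ⟨T, hT, hne, rfl⟩ := hM
      intro e
      have hle : T ≤ Cfsg.pCore p G := le_sSup ⟨normalizer_eq_top_iff.1 e, hT⟩
      exact hne (le_bot_iff.1 (hOp ▸ hle))
    · obtain ⟨n, hn⟩ := IsPGroup.iff_card.1 (O_pg (p := p) M)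
      rcases n with _ | n
      · exact absurd (eq_bot_of_card_eq _ (by simpa using hn)) (O_ne hM)
      · exact (dvd_pow_self p (Nat.succ_ne_zero n)).trans (hn ▸ card_dvd_of_le (O_le M))
    · intro g hg hdvd
      obtain ⟨x, hx⟩ := exists_prime_orderOf_dvd_card' p hdvd
      have hxG : orderOf (x : G) = p := by rw [orderOf_submonoid, hx]
      let P : Subgroup G → Prop := fun T => IsPGroup p T ∧ T ≠ ⊥ ∧
        ∃ A B : Subgroup G, Mx p A ∧ Mx p B ∧ A ≠ B ∧ T ≤ A ⊓ B
      have h0 : P (zpowers (x : G)) := by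
        refine ⟨IsPGroup.of_card (n := 1) (by rw [Nat.card_zpowers, hxG, pow_one]), ?_, M, _, hMx, mx_map hMx g,
          fun e => hg (norm_self hMx e.symm), zpowers_le.2 x.2⟩
        intro e
        have : (x : G) = 1 := by simpa [zpowers_eq_bot] using e
        rw [this, orderOf_one] at hxG
        exact (Fact.out : p.Prime).one_lt.ne hxG
      obtain ⟨T, -, hT⟩ := Finite.exists_le_maximal (p := P) h0
      obtain ⟨hTp, hTne, A, B, hA, hB, hAB, hTAB⟩ := hT.1
      obtain ⟨H, hH, hTH⟩ := exists_mx (M := normalizer (T : Set G)) (p := p) ⟨T, hTp, hTne, rfl⟩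
      have key : ∀ K : Subgroup G, Mx p K → T ≤ K → SylIn p T K ∨ K = H := by
        intro K hK hTK
        refine or_iff_not_imp_right.2 fun hKH X hX hTX hXK => ?_
        by_contra hne
        obtain ⟨y, hyX, hyN, hyT⟩ := grow hX hTX hne
        have hle : T ⊔ zpowers y ≤ X := sup_le hTX (zpowers_le.2 hyX)
        have hP : P (T ⊔ zpowers y) := ⟨hX.to_le hle, fun e => hTne (le_bot_iff.1 (e ▸ le_sup_left)),
          K, H, hK, hH, hKH, le_inf (hle.trans hXK) (sup_le (le_normalizer.trans hTH) (zpowers_le.2 (hTH hyN)))⟩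
        exact hyT (hT.2 hP le_sup_left ((le_sup_right : zpowers y ≤ T ⊔ zpowers y) (mem_zpowers y)))
      obtain ⟨K, L, hK, hL, hKL, hTK, hTL, hS⟩ : ∃ K L : Subgroup G,
          Mx p K ∧ Mx p L ∧ K ≠ L ∧ T ≤ K ∧ T ≤ L ∧ SylIn p T K := by
        rcases key A hA (hTAB.trans inf_le_left) with h | h
        · exact ⟨A, B, hA, hB, hAB, hTAB.trans inf_le_left, hTAB.trans inf_le_right, h⟩
        rcases key B hB (hTAB.trans inf_le_right) with h' | h'
        · exact ⟨B, A, hB, hA, hAB.symm, hTAB.trans inf_le_right, hTAB.trans inf_le_left, h'⟩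
        · exact absurd (h.trans h'.symm) hAB
      by_cases hSL : SylIn p T L
      · exact hp ⟨K, L, hK, hL, hKL, (O_le_syl hTp hTK hS).trans hTL, (O_le_syl hTp hTL hSL).trans hTK⟩
      simp only [SylIn, not_forall] at hSL
      obtain ⟨X, hX, hTX, hXL, hne⟩ := hSL
      obtain ⟨r, hrX, hrN, hrT⟩ := grow hX hTX hne
      have hrK : r ∉ K := fun hr => hrT (by
        have := hS (T ⊔ zpowers r) (hX.to_le (sup_le hTX (zpowers_le.2 hrX))) le_sup_left
          (sup_le hTK (zpowers_le.2 hr))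
        rw [← this]
        exact (le_sup_right : zpowers r ≤ T ⊔ zpowers r) (mem_zpowers r))
      have hTK' : T ≤ K.map (MulAut.conj r).toMonoidHom := (map_of_norm hrN).ge.trans (map_mono hTK)
      have hS' : SylIn p T (K.map (MulAut.conj r).toMonoidHom) := by
        intro Y hY hTY hYK
        have h1 := hS _ (hY.map (MulAut.conj r⁻¹).toMonoidHom)
          ((map_of_norm (inv_mem hrN)).ge.trans (map_mono hTY)) ((map_mono hYK).trans_eq (map_inv K r))
        have h2 := congrArg (Subgroup.map (MulAut.conj r).toMonoidHom) h1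
        rw [map_of_norm hrN] at h2
        rw [← h2]
        simpa using (map_inv Y r⁻¹).symm
      exact hp ⟨K, _, hK, mx_map hK r, fun e => hrK (norm_self hK e.symm),
        (O_le_syl hTp hTK hS).trans hTK', (O_le_syl hTp hTK' hS').trans hTK⟩

end Cfsg.Agent.S3751
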