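import Cfsg.Statements.S3760


set_option autoImplicit false
open Cfsg
open Subgroup

namespace Cfsg.Agent.S3760

/-- Let the group G act transitively on a set X, let x ∈ X with stabilizer H = G_x, and let K ≤ H. Then N_G(K) acts transitively on the set of fixed points of K if and only if every G-conjugate of K contained in H is already an H-conjugate of K. -/
theorem result {G : Type*} [Group G] {X : Type*} [MulAction G X] (htrans : ∀ a b : X, ∃ g : G, g • a = b) (x : X) (K : Subgroup G) (hK : K ≤ MulAction.stabilizer G x) : (∀ a b : X, (∀ k ∈ K, k • a = a) → (∀ k ∈ K, k • b = b) → ∃ g ∈ Subgroup.normalizer (K : Set G), g • a = b) ↔ ∀ g : G, K.map (MulAut.conj g).toMonoidHom ≤ MulAction.stabilizer G x → ∃ h ∈ MulAction.stabilizer G x, K.map (MulAut.conj g).toMonoidHom = K.map (MulAut.conj h).toMonoidHom := by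
  constructor
  · intro h g hg
    have hfix : ∀ k ∈ K, k • (g⁻¹ • x) = g⁻¹ • x := fun k hk => by
      have h1 : (g * k * g⁻¹) • x = x := hg ⟨k, hk, rfl⟩
      rw [mul_smul, mul_smul, smul_eq_iff_eq_inv_smul] at h1
      exact h1
    obtain ⟨n, hn, hnx⟩ := h (g⁻¹ • x) x hfix (fun k hk => hK hk)
    refine ⟨g * n⁻¹, ?_, ?_⟩
    · show (g * n⁻¹) • x = x
      nth_rw 1 [← hnx]
      rw [mul_smul, inv_smul_smul, smul_inv_smul]
    · have e : K.map (MulAut.conj n⁻¹).toMonoidHom = K := mem_normalizer_iff_map_conj_eq.1 (inv_mem hn)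
      conv_lhs => rw [← e]
      rw [map_map]
      exact SetLike.coe_injective (by simp only [coe_map]; congr 1; ext y; simp [mul_assoc])
  · intro h a b ha hb
    obtain ⟨g, hg⟩ := htrans x a
    obtain ⟨u, hu⟩ := htrans x b
    have key : ∀ w : G, (∀ k ∈ K, k • (w • x) = w • x) → ∃ n ∈ normalizer (K : Set G), n • x = w • x := by
      intro w hw
      obtain ⟨e, he, heq⟩ := h w⁻¹ (by
        rintro _ ⟨k, hk, rfl⟩
        show (w⁻¹ * k * w⁻¹⁻¹) • x = x
        rw [inv_inv, mul_smul, mul_smul, hw k hk, inv_smul_smul])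
      refine ⟨w * e, mem_normalizer_iff_map_conj_eq.2 ?_, by rw [mul_smul, show e • x = x from he]⟩
      have h2 := congrArg (Subgroup.map (MulAut.conj w).toMonoidHom) heq
      rw [map_map, map_map] at h2
      show K.map (MulAut.conj (w * e)).toMonoidHom = K
      refine (SetLike.coe_injective (?_)).trans (h2.symm.trans (SetLike.coe_injective ?_))
      · simp only [coe_map]; congr 1; ext y; simp [mul_assoc]
      · simp [coe_map, mul_assoc]
    obtain ⟨n₁, hn₁, e₁⟩ := key g (by rw [hg]; exact ha)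
    obtain ⟨n₂, hn₂, e₂⟩ := key u (by rw [hu]; exact hb)
    exact ⟨n₂ * n₁⁻¹, mul_mem hn₂ (inv_mem hn₁), by rw [mul_smul, ← hg, ← e₁, inv_smul_smul, e₂, hu]⟩

end Cfsg.Agent.S3760
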