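import Cfsg.Statements.S3761
import Cfsg.Agent.Lib.Struct.PByCyclic
import Cfsg.Agent.S0016

set_option autoImplicit false
open Cfsg

namespace Cfsg.Agent.S3761

open Subgroup
open scoped commutatorElement

variable {G : Type*} [Group G]

theorem mul_pow_of_conj {a f e : G} (h : f * a * f⁻¹ = a * e) (hae : Commute a e) (hfe : Commute f e) :
    ∀ k : ℕ, (a * f) ^ k = a ^ k * f ^ k * e ^ k.choose 2 := by
  intro k
  induction k with
  | zero => simp
  | succ k ih =>
    have h1 : ∀ j : ℕ, f ^ j * a = a * e ^ j * f ^ j := by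
      intro j
      induction j with
      | zero => simp
      | succ j ihj =>
        have h2 : f * a = a * e * f := by rw [← h]; group
        rw [pow_succ', mul_assoc, ihj, ← mul_assoc, ← mul_assoc, h2, mul_assoc (a * e), (hfe.pow_right j).eq,
          pow_succ' e]
        group
    have hc1 : Commute (e ^ k.choose 2) (a * f) := ((hae.mul_left hfe).symm).pow_left _
    have hc2 : Commute (e ^ k) (f ^ k) := (hfe.symm.pow_left k).pow_right k
    rw [pow_succ, ih, mul_assoc, hc1.eq, ← mul_assoc, ← mul_assoc, mul_assoc (a ^ k) (f ^ k) a, h1,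
      Nat.choose_succ_succ, Nat.choose_one_right, pow_add e, pow_succ, pow_succ f,
      mul_assoc a (e ^ k) (f ^ k), hc2.eq]
    simp only [mul_assoc]
    rw [← mul_assoc (e ^ k) f, (hfe.symm.pow_left k).eq]
    simp only [mul_assoc]

theorem lift_root {p : ℕ} (hp : p.Prime) {n : ℕ} {r : ℤ} (h4 : p = 2 → (4 : ℤ) ∣ r - 1) (h : (p : ℤ) ^ (n + 1) ∣ r ^ p - 1) :
    (p : ℤ) ^ n ∣ r - 1 := by
  haveI : Fact p.Prime := ⟨hp⟩
  rcases hp.eq_two_or_odd' with rfl | ho
  · obtain ⟨t, ht⟩ := h4 rfl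
    have e : r ^ 2 - 1 = 2 * ((r - 1) * (2 * t + 1)) := by
      have : r = 4 * t + 1 := by linarith
      subst this; ring
    rw [Nat.cast_ofNat] at h ⊢
    rw [e, pow_succ', mul_dvd_mul_iff_left two_ne_zero] at h
    refine IsCoprime.dvd_of_dvd_mul_right (IsCoprime.pow_left ?_) h
    exact ⟨-t, 1, by ring⟩
  · have hr : (p : ℤ) ∣ r - 1 := by
      have hd : (p : ℤ) ∣ r ^ p - 1 := (dvd_pow_self _ (by omega)).trans h
      rw [← ZMod.intCast_zmod_eq_zero_iff_dvd] at hd ⊢
      push_cast at hd ⊢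
      rwa [ZMod.pow_card] at hd
    have hnd : ¬ (p : ℤ) ∣ r := fun hd => by
      have h1 := dvd_sub hd hr
      rw [sub_sub_cancel] at h1
      exact hp.one_lt.ne' (Nat.dvd_one.1 (Int.natCast_dvd_natCast.1 (by simpa using h1)))
    have he := Int.emultiplicity_pow_sub_pow hp ho hr hnd p
    rw [one_pow] at he
    rw [pow_dvd_iff_le_emultiplicity] at h ⊢
    rw [he, (Nat.finiteMultiplicity_iff.2 ⟨hp.one_lt.ne', hp.pos⟩).emultiplicity_self] at h
    · exact (WithTop.add_le_add_iff_right (by simp : (1 : ℕ∞) ≠ ⊤)).1 (by push_cast at h; exact h)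

theorem main [Finite G] {p : ℕ} [Fact p.Prime] (hG : IsPGroup p G) (hna : ¬ IsMulCommutative G) (U : Subgroup G)
    [U.Normal] (u : G) (hu : U = zpowers u) (n : ℕ) (hn : orderOf u = p ^ n)
    (hC : Subgroup.centralizer (U : Set G) = U) :
    (p = 2 ∧ Nat.card G = 2 ^ (n + 1) ∧ ((∃ m : ℕ, Nonempty (G ≃* DihedralGroup m)) ∨
      (∃ m : ℕ, Nonempty (G ≃* QuaternionGroup m)) ∨ Cfsg.IsQuasiDihedral G)) ∨
    (U.relIndex (centralizer ({u ^ p} : Set G)) = p ∧
      Cfsg.IsElementaryAbelian p (Cfsg.omegaOne p (centralizer ({u ^ p} : Set G))) ∧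
      Nat.card ↥(Cfsg.omegaOne p (centralizer ({u ^ p} : Set G))) = p ^ 2 ∧
      (Cfsg.omegaOne p (centralizer ({u ^ p} : Set G))).Characteristic) := by
  classical
  have hp : p.Prime := Fact.out
  have huU : u ∈ U := hu ▸ mem_zpowers u
  have hmem : ∀ g : G, g * u = u * g → g ∈ U := fun g hg => by
    rw [← hC, mem_centralizer_iff]
    intro a ha
    rw [hu, SetLike.mem_coe, mem_zpowers_iff] at ha
    obtain ⟨k, rfl⟩ := ha
    exact ((Commute.zpow_left (show Commute u g from hg.symm) k)).eq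
  have hr : ∀ g : G, ∃ r : ℤ, g * u * g⁻¹ = u ^ r := fun g => by
    have := (inferInstance : U.Normal).conj_mem u huU g
    rw [hu, mem_zpowers_iff] at this
    obtain ⟨r, hr⟩ := this
    exact ⟨r, hr.symm⟩
  have hne : ∃ g, g ∉ U := by
    by_contra hh
    push Not at hh
    refine hna ⟨⟨fun a b => ?_⟩⟩
    have ha := hh a; have hb := hh b
    rw [hu, mem_zpowers_iff] at ha hb
    obtain ⟨i, rfl⟩ := ha; obtain ⟨j, rfl⟩ := hb
    exact (Commute.zpow_zpow (Commute.refl u) i j).eq
  have hconj : ∀ (g : G) (r : ℤ), g * u * g⁻¹ = u ^ r → ∀ i : ℤ, g * u ^ i * g⁻¹ = u ^ (r * i) := fun g r h i => by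
    rw [zpow_mul, ← h, conj_zpow]
  have hzp : ∀ a b : ℤ, u ^ a = u ^ b ↔ ((p : ℤ) ^ n) ∣ b - a := fun a b => by
    rw [zpow_eq_zpow_iff_modEq, hn, Int.modEq_iff_dvd]; push_cast; exact Iff.rfl
  have hconjpow : ∀ (g : G) (r : ℤ), g * u * g⁻¹ = u ^ r → ∀ k : ℕ, g ^ k * u * (g ^ k)⁻¹ = u ^ (r ^ k) := by
    intro g r h k
    induction k with
    | zero => simp
    | succ k ih =>
      rw [pow_succ' g, show g * g ^ k * u * (g * g ^ k)⁻¹ = g * (g ^ k * u * (g ^ k)⁻¹) * g⁻¹ by group, ih,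
        hconj g r h, pow_succ']
  obtain ⟨m, rfl⟩ : ∃ m, n = m + 2 := by
    rcases n with _ | _ | n
    · exfalso
      obtain ⟨g, hg⟩ := hne
      rw [pow_zero, orderOf_eq_one_iff] at hn
      exact hg (hmem g (by rw [hn, mul_one, one_mul]))
    · exfalso
      obtain ⟨g, hg⟩ := hne
      obtain ⟨r, hr⟩ := hr g
      obtain ⟨j, hj⟩ := hG g
      have h1 := hconjpow g r hr (p ^ j)
      rw [hj, one_mul, inv_one, mul_one] at h1
      have h2 : u ^ (1 : ℤ) = u ^ (r ^ p ^ j) := by rw [zpow_one]; exact h1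
      rw [hzp, zero_add, pow_one] at h2
      rw [← ZMod.intCast_zmod_eq_zero_iff_dvd] at h2
      push_cast at h2
      rw [ZMod.pow_card_pow, sub_eq_zero] at h2
      refine hg (hmem g ?_)
      have h3 : u ^ r = u ^ (1 : ℤ) := by
        rw [hzp, zero_add, pow_one, ← ZMod.intCast_zmod_eq_zero_iff_dvd]
        push_cast; rw [h2, sub_self]
      rw [zpow_one] at h3
      rw [h3] at hr
      conv_rhs => rw [← hr]
      group
    · exact ⟨n, rfl⟩
  have hp2 : (p : ℤ) ≠ 0 := Int.natCast_ne_zero.2 hp.ne_zero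
  let z := u ^ (((p : ℤ)) ^ (m + 1))
  have hz : orderOf z = p := by
    have h1 : z = u ^ (p ^ (m + 1) : ℕ) := by
      show u ^ _ = _
      rw [← zpow_natCast]; push_cast; rfl
    rw [h1, orderOf_pow, hn, Nat.gcd_eq_right (pow_dvd_pow p (by omega)), Nat.pow_div (by omega) hp.pos,
      show m + 2 - (m + 1) = 1 by omega, pow_one]
  set M := centralizer ({u ^ p} : Set G) with hM
  have hMr : ∀ (g : G) (r : ℤ), g * u * g⁻¹ = u ^ r → (g ∈ M ↔ (p : ℤ) ^ (m + 1) ∣ r - 1) := by
    intro g r h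
    rw [hM, mem_centralizer_singleton_iff]
    have h1 : g * u ^ p * g⁻¹ = u ^ (r * (p : ℤ)) := by rw [← hconj g r h, zpow_natCast]
    have h2 : g * u ^ p = u ^ p * g ↔ g * u ^ p * g⁻¹ = u ^ ((p : ℤ)) := by
      rw [mul_inv_eq_iff_eq_mul, zpow_natCast]
    rw [h2, h1, eq_comm, hzp, show r * (p : ℤ) - p = (r - 1) * p by ring, pow_succ, mul_dvd_mul_iff_right hp2]
  have hUM : U ≤ M := fun g hg => by
    rw [hu, mem_zpowers_iff] at hg
    obtain ⟨i, rfl⟩ := hg
    rw [hM, mem_centralizer_singleton_iff]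
    exact (((Commute.refl u).zpow_left i).pow_right p).eq
  have hzM : ∀ f ∈ M, Commute f z := fun f hf => by
    rw [hM, mem_centralizer_singleton_iff] at hf
    have h2 : z = (u ^ p) ^ ((p : ℤ) ^ m) := by
      show u ^ _ = _
      rw [← zpow_natCast u p, ← zpow_mul, pow_succ']
    rw [h2]; exact (show Commute f (u ^ p) from hf).zpow_right _
  have hMc : ∀ f ∈ M, ∃ c : ℤ, f * u * f⁻¹ = u * z ^ c := fun f hf => by
    obtain ⟨r, hr⟩ := hr f
    obtain ⟨c, hc⟩ := (hMr f r hr).1 hf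
    refine ⟨c, ?_⟩
    rw [hr, show r = 1 + (p : ℤ) ^ (m + 1) * c by linarith, zpow_add, zpow_one, zpow_mul]
  by_cases hH : ∃ g, g ∉ U ∧ (p = 2 → ∀ r : ℤ, g * u * g⁻¹ = u ^ r → (4 : ℤ) ∣ r - 1)
  · right
    obtain ⟨g, hgU, hg4⟩ := hH
    -- a power of `g` of order `p` modulo `U`
    obtain ⟨j, hj, hjp⟩ : ∃ j : ℕ, g ^ (p ^ j) ∉ U ∧ (g ^ (p ^ j)) ^ p ∈ U := by
      obtain ⟨k, hk⟩ := hG g
      have hex : ∃ k, g ^ (p ^ k) ∈ U := ⟨k, by rw [hk]; exact U.one_mem⟩
      have h0 : Nat.find hex ≠ 0 := fun h0 => hgU (by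
        have := Nat.find_spec hex
        rwa [h0, pow_zero, pow_one] at this)
      obtain ⟨j, hj⟩ : ∃ j, Nat.find hex = j + 1 := ⟨Nat.find hex - 1, by omega⟩
      refine ⟨j, Nat.find_min hex (by omega), ?_⟩
      rw [← pow_mul, ← pow_succ, ← hj]; exact Nat.find_spec hex
    have inM : ∀ (x : G) (r : ℤ), x * u * x⁻¹ = u ^ r → (p = 2 → (4 : ℤ) ∣ r - 1) → x ^ p ∈ U → x ∈ M := by
      intro x r hx h4 hxp
      rw [hMr x r hx]
      refine lift_root hp h4 ?_
      have h1 := hconjpow x r hx p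
      have h2 : x ^ p * u * (x ^ p)⁻¹ = u ^ (1 : ℤ) := by
        rw [zpow_one, mul_inv_eq_iff_eq_mul]
        rw [hu, mem_zpowers_iff] at hxp
        obtain ⟨i, hi⟩ := hxp
        rw [← hi]; exact ((Commute.refl u).zpow_left i).eq
      rw [h1, eq_comm, hzp] at h2
      exact h2
    obtain ⟨r, hgr⟩ := hr g
    have hgM : g ^ (p ^ j) ∈ M := inM _ _ (hconjpow g r hgr _)
      (fun h2 => ((hg4 h2 r hgr).trans (sub_one_dvd_pow_sub_one r (p ^ j)))) hjp
    generalize g ^ (p ^ j) = f₀ at hj hjp hgM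
    have hm1 : p = 2 → 1 ≤ m := by
      rintro rfl
      by_contra hm0
      obtain rfl : m = 0 := by omega
      refine hgU (hmem g ?_)
      obtain ⟨t, ht⟩ := hg4 rfl r hgr
      have h3 : u ^ r = u ^ (1 : ℤ) := by
        rw [hzp]; exact ⟨-t, by push_cast; linarith⟩
      rw [zpow_one] at h3
      rw [h3] at hgr
      conv_rhs => rw [← hgr]
      group
    -- every element of `M` outside `U` twists `u` by a generator of `⟨z⟩`
    have hdec : ∀ x ∈ M, x ∉ U → ∀ (i : ℤ), ∀ c : ℤ, x * u * x⁻¹ = u * z ^ c →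
        (u ^ i * x) ^ p = u ^ (i * p) * x ^ p * z ^ (c * i * (p.choose 2)) ∧ ¬ (p : ℤ) ∣ c := by
      intro x hx hxU i c hc
      refine ⟨?_, fun hd => hxU (hmem x ?_)⟩
      · have hcz : Commute u (z ^ c) := ((Commute.refl u).zpow_right _).zpow_right _
        have e1 : x * u ^ i * x⁻¹ = u ^ i * z ^ (c * i) := by
          rw [← conj_zpow, hc, hcz.mul_zpow, ← zpow_mul]
        rw [mul_pow_of_conj e1 (((Commute.refl u).zpow_right _).zpow_left i |>.zpow_right _)
          ((hzM x hx).zpow_right _) p, ← zpow_natCast (u ^ i), ← zpow_mul, ← zpow_natCast (z ^ (c * i)), ← zpow_mul]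
      · have : z ^ c = 1 := orderOf_dvd_iff_zpow_eq_one.1 (by rw [hz]; exact hd)
        rw [this, mul_one] at hc
        conv_rhs => rw [← hc]
        group
    -- `f₀^p` is a `p`-th power in `U`
    obtain ⟨k, hk⟩ : ∃ k : ℤ, f₀ ^ p = u ^ (p * k) := by
      rw [hu, mem_zpowers_iff] at hjp
      obtain ⟨i, hi⟩ := hjp
      obtain ⟨c, hc⟩ := hMc f₀ hgM
      have e1 : f₀ * u ^ i * f₀⁻¹ = u ^ i := by rw [hi]; group
      rw [← conj_zpow, hc, (((Commute.refl u).zpow_right _).zpow_right _).mul_zpow, ← zpow_mul, mul_eq_left,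
        ← orderOf_dvd_iff_zpow_eq_one, hz] at e1
      rcases (Nat.prime_iff_prime_int.1 hp).dvd_mul.1 e1 with h | h
      · exact absurd h (hdec f₀ hgM hj 0 c hc).2
      · obtain ⟨k, rfl⟩ := h
        exact ⟨k, hi.symm⟩
    -- the decisive divisibility
    have root : ∀ (x : G), x ∈ M → x ∉ U → ∀ k i : ℤ, x ^ p = u ^ (p * k) → ∀ c : ℤ, x * u * x⁻¹ = u * z ^ c →
        ((u ^ i * x) ^ p = 1 ↔ (p : ℤ) ^ (m + 1) ∣ i + k + c * i * (p.choose 2) * (p : ℤ) ^ m) := by
      intro x hx hxU k i hxp c hc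
      rw [(hdec x hx hxU i c hc).1, hxp]
      show u ^ _ * u ^ _ * (u ^ ((p : ℤ) ^ (m + 1))) ^ _ = 1 ↔ _
      rw [← zpow_mul, ← zpow_add, ← zpow_add, ← zpow_zero u, eq_comm, hzp, sub_zero,
        show i * (p : ℤ) + p * k + (p : ℤ) ^ (m + 1) * (c * i * (p.choose 2)) =
          (i + k + c * i * (p.choose 2) * (p : ℤ) ^ m) * p by ring, pow_succ (p : ℤ) (m + 1),
        mul_dvd_mul_iff_right hp2]
    have hfac : ∀ c : ℤ, ∃ v : ℤ, (p : ℤ) ^ (m + 1) ∣ (1 + c * (p.choose 2) * (p : ℤ) ^ m) * v - 1 := by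
      intro c
      refine ⟨1 - c * (p.choose 2) * (p : ℤ) ^ m, ?_⟩
      rw [show (1 + c * (p.choose 2 : ℤ) * (p : ℤ) ^ m) * (1 - c * (p.choose 2) * (p : ℤ) ^ m) - 1
        = -((c * (p.choose 2)) * (c * (p.choose 2)) * ((p : ℤ) ^ m * (p : ℤ) ^ m)) by ring]
      refine dvd_neg.2 ?_
      rcases hp.eq_two_or_odd' with h2 | ho
      · refine dvd_mul_of_dvd_right ?_ _
        rw [← pow_add]; exact pow_dvd_pow _ (by have := hm1 h2; omega)
      · obtain ⟨w, hw⟩ : (p : ℤ) ∣ ((p.choose 2 : ℕ) : ℤ) :=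
          Int.natCast_dvd_natCast.2 (hp.dvd_choose_self (by norm_num) (by
            rcases ho with ⟨q, hq⟩; have := hp.two_le; omega))
        rw [hw, pow_succ']
        exact ⟨c * w * (c * (p * w)) * ((p : ℤ) ^ m), by ring⟩
    obtain ⟨c₀, hc₀⟩ := hMc f₀ hgM
    obtain ⟨v₀, hv₀⟩ := hfac c₀
    obtain ⟨f, hfM, hfU, hfp⟩ : ∃ f, f ∈ M ∧ f ∉ U ∧ f ^ p = 1 := by
      refine ⟨u ^ (-k * v₀) * f₀, M.mul_mem (hUM (hu ▸ mem_zpowers_iff.2 ⟨_, rfl⟩)) hgM, fun h => hj ?_, ?_⟩
      · exact (U.mul_mem_cancel_left (hu ▸ mem_zpowers_iff.2 ⟨_, rfl⟩)).1 h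
      · rw [root f₀ hgM hj k _ hk c₀ hc₀]
        obtain ⟨w, hw⟩ := hv₀
        exact ⟨-k * w, by linear_combination (-k) * hw⟩
    obtain ⟨c, hc⟩ := hMc f hfM
    -- `M = U ⟨f⟩`
    have hMdec : ∀ x ∈ M, ∃ (i : ℤ) (j : ℕ), j < p ∧ x = u ^ i * f ^ j := by
      intro x hx
      obtain ⟨d, hd⟩ := hMc x hx
      obtain ⟨v, hv⟩ : ∃ v : ℤ, (p : ℤ) ∣ c * v - d := by
        have hcp : IsCoprime c (p : ℤ) :=
          ((Nat.prime_iff_prime_int.1 hp).coprime_iff_not_dvd.2 (hdec f hfM hfU 0 c hc).2).symm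
        obtain ⟨a, b, hab⟩ := hcp
        exact ⟨a * d, -(b * d), by linear_combination d * hab⟩
      obtain ⟨j, hj, hjv⟩ : ∃ j : ℕ, j < p ∧ (p : ℤ) ∣ (j : ℤ) - v := by
        have h1 := Int.emod_nonneg v hp2
        have h2 := Int.emod_lt_of_pos v (show (0 : ℤ) < p by exact_mod_cast hp.pos)
        refine ⟨(v % p).toNat, by omega, ?_⟩
        rw [Int.toNat_of_nonneg h1]
        exact ⟨-(v / p), by rw [Int.emod_def]; ring⟩
      have hfj : ∀ j : ℕ, f ^ j * u * (f ^ j)⁻¹ = u * z ^ (c * j) := by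
        intro j
        induction j with
        | zero => simp
        | succ j ih =>
          rw [pow_succ' f, show f * f ^ j * u * (f * f ^ j)⁻¹ = f * (f ^ j * u * (f ^ j)⁻¹) * f⁻¹ by group, ih,
            show f * (u * z ^ (c * j)) * f⁻¹ = (f * u * f⁻¹) * (f * z ^ (c * j) * f⁻¹) by group, hc,
            ((hzM f hfM).zpow_right _).mul_inv_cancel, mul_assoc, ← zpow_add]
          push_cast; ring_nf
      have hU : x * (f ^ j)⁻¹ ∈ U := by
        have h1 : z ^ (c * j) = z ^ d := by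
          rw [zpow_eq_zpow_iff_modEq, hz, Int.modEq_iff_dvd]
          obtain ⟨a, ha⟩ := hv; obtain ⟨b, hb⟩ := hjv
          exact ⟨-a - c * b, by linear_combination (-1 : ℤ) * ha + (-c) * hb⟩
        have h2 := hfj j
        rw [h1, ← hd] at h2
        have h3 : (f ^ j)⁻¹ * x ∈ U := hmem _ (by
          calc (f ^ j)⁻¹ * x * u = (f ^ j)⁻¹ * (x * u * x⁻¹) * x := by group
            _ = u * ((f ^ j)⁻¹ * x) := by rw [← h2]; group)
        have h4 := (inferInstance : U.Normal).conj_mem _ h3 (f ^ j)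
        rwa [show f ^ j * ((f ^ j)⁻¹ * x) * (f ^ j)⁻¹ = x * (f ^ j)⁻¹ by group] at h4
      rw [hu, mem_zpowers_iff] at hU
      obtain ⟨i, hi⟩ := hU
      exact ⟨i, j, hj, by rw [hi]; group⟩
    have hroots : ∀ x ∈ M, x ^ p = 1 → ∃ (a : ℤ) (j : ℕ), j < p ∧ x = z ^ a * f ^ j := by
      intro x hx hxp
      obtain ⟨i, j, hj, rfl⟩ := hMdec x hx
      suffices (p : ℤ) ^ (m + 1) ∣ i by
        obtain ⟨a, rfl⟩ := this
        exact ⟨a, j, hj, by rw [zpow_mul]⟩
      rcases Nat.eq_zero_or_pos j with rfl | hj0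
      · rw [pow_zero, mul_one, ← zpow_natCast, ← zpow_mul, ← zpow_zero u, eq_comm, hzp, sub_zero, pow_succ,
          mul_dvd_mul_iff_right hp2] at hxp
        exact hxp
      · have hfjU : f ^ j ∉ U := fun h => hfU (by
          have hcop : Nat.Coprime j (orderOf f) := by
            rw [orderOf_eq_prime hfp (fun h1 => hfU (h1 ▸ U.one_mem))]
            exact (hp.coprime_iff_not_dvd.2 (Nat.not_dvd_of_pos_of_lt hj0 hj)).symm
          obtain ⟨e, he⟩ := exists_pow_eq_self_of_coprime hcop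
          rw [← he]; exact U.pow_mem h e)
        obtain ⟨d, hd⟩ := hMc _ (M.pow_mem hfM j)
        have h1 := (root _ (M.pow_mem hfM j) hfjU 0 i (by rw [← pow_mul, mul_comm j, pow_mul, hfp, one_pow, mul_zero, zpow_zero]) d hd).1 hxp
        obtain ⟨v, hv⟩ := hfac d
        obtain ⟨w, hw⟩ := h1
        obtain ⟨s, hs⟩ := hv
        exact ⟨v * w - i * s, by linear_combination v * hw - i * hs⟩
    -- the group of roots
    let Φ : Subgroup G := closure {z, f}
    have hzf : Commute z f := (hzM f hfM).symm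
    have hzM' : z ∈ M := hUM (hu ▸ mem_zpowers_iff.2 ⟨_, rfl⟩)
    have hzp1 : z ^ p = 1 := hz ▸ pow_orderOf_eq_one z
    have hΦ : Cfsg.omegaOne p M = Φ := by
      refine le_antisymm ((closure_le _).2 ?_) ((closure_le _).2 ?_)
      · rintro x ⟨hx, hxp⟩
        obtain ⟨a, j, -, rfl⟩ := hroots x hx hxp
        exact Φ.mul_mem (Φ.zpow_mem (subset_closure (by simp)) a) (Φ.pow_mem (subset_closure (by simp)) j)
      · rintro x (rfl | rfl)
        exacts [subset_closure ⟨hzM', hzp1⟩, subset_closure ⟨hfM, hfp⟩]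
    have hΦc : IsMulCommutative Φ := isMulCommutative_closure (by
      rintro a (rfl | rfl) b (rfl | rfl)
      exacts [rfl, hzf.eq, hzf.symm.eq, rfl])
    have hel : Cfsg.IsElementaryAbelian p Φ := ⟨hΦc, fun x hx => by
      induction hx using closure_induction with
      | mem y hy => rcases hy with rfl | rfl <;> [exact hzp1; exact hfp]
      | one => exact one_pow p
      | mul a b ha hb iha ihb =>
        have : Commute a b := congrArg Subtype.val (hΦc.is_comm.comm ⟨a, ha⟩ ⟨b, hb⟩)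
        rw [this.mul_pow, iha, ihb, one_mul]
      | inv a ha iha => rw [inv_pow, iha, inv_one]⟩
    have hrel : U.relIndex M = p := by
      let φ : Fin p → M ⧸ U.subgroupOf M := fun i => QuotientGroup.mk ⟨f ^ (i : ℕ), M.pow_mem hfM _⟩
      have hφ : Function.Bijective φ := by
        refine ⟨fun a b hab => Fin.ext ?_, fun x => ?_⟩
        · rw [QuotientGroup.eq, mem_subgroupOf] at hab
          by_contra hne
          refine hfU ?_
          have h0 : ¬ (p : ℤ) ∣ (b : ℤ) - a := fun hd => by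
            have ha := a.2; have hb := b.2
            have := Int.eq_zero_of_dvd_of_natAbs_lt_natAbs hd (by omega)
            omega
          have h1 : f ^ ((b : ℤ) - a) ∈ U := by
            convert hab using 1
            push_cast
            rw [zpow_sub, zpow_natCast, zpow_natCast]
            exact ((Commute.refl f).pow_pow _ _).inv_right.eq
          obtain ⟨s, t, hst⟩ := ((Nat.prime_iff_prime_int.1 hp).coprime_iff_not_dvd.2 h0)
          have h2 : f = f ^ (((b : ℤ) - a) * t) := by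
            have : f ^ (1 : ℤ) = f ^ (s * p + t * ((b : ℤ) - a)) := by rw [hst]
            rw [zpow_one, zpow_add, mul_comm s, zpow_mul, zpow_natCast, hfp, one_zpow, one_mul, mul_comm t] at this
            exact this
          rw [h2, zpow_mul]; exact U.zpow_mem h1 t
        · induction x using QuotientGroup.induction_on with
          | H x =>
            obtain ⟨i, j, hj, he⟩ := hMdec x.1 x.2
            refine ⟨⟨j, hj⟩, QuotientGroup.eq.2 ?_⟩
            rw [mem_subgroupOf]
            show (f ^ j)⁻¹ * x.1 ∈ U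
            rw [he, show (f ^ j)⁻¹ * (u ^ i * f ^ j) = (f ^ j)⁻¹ * u ^ i * ((f ^ j)⁻¹)⁻¹ by group]
            exact (inferInstance : U.Normal).conj_mem _ (hu ▸ mem_zpowers_iff.2 ⟨i, rfl⟩) _
      have h := Nat.card_eq_of_bijective φ hφ
      rw [Nat.card_fin] at h
      exact h.symm
    have hcard : Nat.card Φ = p ^ 2 := by
      let ψ : Fin p × Fin p → Φ := fun x => ⟨z ^ (x.1 : ℕ) * f ^ (x.2 : ℕ),
        Φ.mul_mem (Φ.pow_mem (subset_closure (by simp)) _) (Φ.pow_mem (subset_closure (by simp)) _)⟩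
      have hψ : Function.Bijective ψ := by
        have hzU : ∀ k : ℕ, z ^ k ∈ U := fun k => U.pow_mem (hu ▸ mem_zpowers_iff.2 ⟨_, rfl⟩) k
        refine ⟨fun a b hab => ?_, fun x => ?_⟩
        · have h := congrArg Subtype.val hab
          simp only [ψ] at h
          have hb2 : (a.2 : ℕ) = b.2 := by
            by_contra hne
            have hof := orderOf_eq_prime hfp (fun h1 => hfU (h1 ▸ U.one_mem))
            have h1 : f ^ ((a.2 : ℤ) - b.2) ∈ U := by
              rw [zpow_sub, zpow_natCast, zpow_natCast]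
              have : f ^ (a.2 : ℕ) * (f ^ (b.2 : ℕ))⁻¹ = (z ^ (a.1 : ℕ))⁻¹ * z ^ (b.1 : ℕ) := by
                rw [← mul_inv_eq_iff_eq_mul.2 h.symm]; group
              rw [this]; exact U.mul_mem (U.inv_mem (hzU _)) (hzU _)
            have h0 : ¬ (p : ℤ) ∣ (a.2 : ℤ) - b.2 := fun hd => by
              have := a.2.2; have := b.2.2
              have := Int.eq_zero_of_dvd_of_natAbs_lt_natAbs hd (by omega)
              omega
            obtain ⟨s, t, hst⟩ := ((Nat.prime_iff_prime_int.1 hp).coprime_iff_not_dvd.2 h0)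
            refine hfU ?_
            have h2 : f ^ (1 : ℤ) = f ^ (s * p + t * ((a.2 : ℤ) - b.2)) := by rw [hst]
            rw [zpow_one, zpow_add, mul_comm s, zpow_mul, zpow_natCast, hfp, one_zpow, one_mul, mul_comm t,
              zpow_mul] at h2
            rw [h2]; exact U.zpow_mem h1 t
          rw [hb2, mul_left_inj] at h
          exact Prod.ext (Fin.ext (pow_injOn_Iio_orderOf (show (a.1 : ℕ) < orderOf z by rw [hz]; exact a.1.2) (show (b.1 : ℕ) < orderOf z by rw [hz]; exact b.1.2) h)) (Fin.ext hb2)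
        · have hxM : x.1 ∈ M := (closure_le M).2 (by rintro y (rfl | rfl); exacts [hzM', hfM]) x.2
          obtain ⟨a, j, hj, he⟩ := hroots x.1 hxM (hel.2 x.1 x.2)
          have h1 := Int.emod_nonneg a hp2
          have h2 := Int.emod_lt_of_pos a (show (0 : ℤ) < p by exact_mod_cast hp.pos)
          refine ⟨(⟨(a % p).toNat, by omega⟩, ⟨j, hj⟩), Subtype.ext ?_⟩
          show z ^ (a % p).toNat * f ^ j = x.1
          rw [he, ← zpow_natCast, Int.toNat_of_nonneg h1, ← hz, zpow_mod_orderOf]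
      rw [← Nat.card_eq_of_bijective ψ hψ, Nat.card_prod, Nat.card_fin, sq]
    refine ⟨hrel, hΦ ▸ hel, hΦ ▸ hcard, characteristic_iff_map_le.2 fun φ => ?_⟩
    rw [Cfsg.omegaOne, MonoidHom.map_closure, closure_le]
    rintro _ ⟨x, ⟨hx, hxp⟩, rfl⟩
    refine subset_closure ⟨?_, show (φ x) ^ p = 1 by rw [← map_pow, hxp, map_one]⟩
    by_cases hall : p = 2 → ∀ (y : G) (r : ℤ), y * u * y⁻¹ = u ^ r → (4 : ℤ) ∣ r - 1
    · obtain ⟨r, hyr⟩ := hr (φ x)
      exact inM _ r hyr (fun h2 => hall h2 _ r hyr) (by rw [← map_pow, hxp, map_one]; exact U.one_mem)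
    · push Not at hall
      obtain ⟨rfl, y, s, hys, hs⟩ := hall
      have hD : commutator G ≤ U := by
        rw [_root_.commutator_def, commutator_le]
        intro a _ b _
        obtain ⟨ra, hra⟩ := hr a
        obtain ⟨rb, hrb⟩ := hr b
        refine hmem _ ?_
        have e1 : a * b * u * (a * b)⁻¹ = b * a * u * (b * a)⁻¹ := by
          rw [show a * b * u * (a * b)⁻¹ = a * (b * u * b⁻¹) * a⁻¹ by group, hrb, hconj a ra hra,
            show b * a * u * (b * a)⁻¹ = b * (a * u * a⁻¹) * b⁻¹ by group, hra, hconj b rb hrb, mul_comm]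
        have e2 : ⁅a, b⁆ = a * b * (b * a)⁻¹ := by rw [commutatorElement_def]; group
        rw [e2]
        calc a * b * (b * a)⁻¹ * u = a * b * ((b * a)⁻¹ * (u) * (b * a)) * (b * a)⁻¹ := by group
          _ = u * (a * b * (b * a)⁻¹) := by
            have e3 : a * b * ((b * a)⁻¹ * u * (b * a)) * (a * b)⁻¹ = u := by
              have hu' : ((b * a)⁻¹ * u * (b * a)) ∈ U := by
                simpa using (inferInstance : U.Normal).conj_mem u huU (b * a)⁻¹
              rw [hu, mem_zpowers_iff] at hu'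
              obtain ⟨w, hw⟩ := hu'
              rw [← hw, ← conj_zpow, e1, conj_zpow, hw]; group
            conv_rhs => rw [← e3]
            group
      obtain ⟨t, ht⟩ : ∃ t : ℤ, s - 1 = 2 * (2 * t + 1) := by
        obtain ⟨q, hq⟩ : (2 : ℤ) ∣ s - 1 := by
          have h := hconjpow y s hys (2 ^ (hG y).choose)
          rw [(hG y).choose_spec, one_mul, inv_one, mul_one] at h
          have h' : u ^ (1 : ℤ) = u ^ (s ^ 2 ^ (hG y).choose) := by rw [zpow_one]; exact h
          rw [hzp] at h'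
          have h3 : (2 : ℤ) ∣ s ^ 2 ^ (hG y).choose - 1 := (dvd_pow_self (2 : ℤ) (Nat.succ_ne_zero (m + 1))).trans (by exact_mod_cast h')
          have h4 : Odd (s ^ 2 ^ (hG y).choose) := by
            obtain ⟨w, hw⟩ := h3; exact ⟨w, by linarith⟩
          rw [Int.odd_pow' (by positivity)] at h4
          obtain ⟨w, hw⟩ := h4; exact ⟨w, by linarith⟩
        rcases Int.even_or_odd q with ⟨w, hw⟩ | ⟨w, hw⟩
        · exact absurd ⟨w, by rw [hq, hw]; ring⟩ hs
        · exact ⟨w, by rw [hq, hw]⟩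
      have h2D : u ^ (2 : ℤ) ∈ commutator G := by
        have h1 : u ^ (s - 1) ∈ commutator G := by
          rw [zpow_sub, zpow_one, ← hys, ← commutatorElement_def]
          exact commutator_mem_commutator (mem_top _) (mem_top _)
        have hcop : IsCoprime (2 * t + 1) ((2 : ℤ) ^ (m + 2)) := IsCoprime.pow_right ⟨1, -t, by ring⟩
        obtain ⟨a, b, hab⟩ := hcop
        have : u ^ (2 : ℤ) = (u ^ (s - 1)) ^ a := by
          rw [← zpow_mul, hzp]
          exact ⟨-2 * b, by push_cast; rw [ht]; linear_combination 2 * hab⟩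
        rw [this]; exact zpow_mem h1 a
      -- the image of `u²` is a power of `u²`
      obtain ⟨i, hi⟩ : ∃ i : ℤ, φ.symm (u ^ (2 : ℤ)) = u ^ (2 * i) := by
        by_cases hev : ∀ d ∈ commutator G, ∃ i : ℤ, d = u ^ (2 * i)
        · exact hev _ ((Characteristic.fixed (H := commutator G) inferInstance φ.symm).ge h2D)
        · push Not at hev
          obtain ⟨d, hdD, hd⟩ := hev
          obtain ⟨q, hq⟩ := mem_zpowers_iff.1 (hu ▸ hD hdD)
          rcases Int.even_or_odd q with ⟨w, hw⟩ | ⟨w, hw⟩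
          · exact absurd (by rw [← hq, hw]; ring_nf) (hd w)
          · have huD : u ∈ commutator G := by
              have h3 : u ^ q * (u ^ (2 : ℤ)) ^ (-w) = u := by
                rw [← zpow_mul, ← zpow_add, hw, show 2 * w + 1 + 2 * -w = 1 by ring, zpow_one]
              rw [← h3]; exact mul_mem (hq ▸ hdD) (zpow_mem h2D _)
            have h4 : φ.symm u ∈ commutator G := (Characteristic.fixed (H := commutator G) inferInstance φ.symm).ge huD
            obtain ⟨i, hi⟩ := mem_zpowers_iff.1 (hu ▸ hD h4)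
            exact ⟨i, by rw [map_zpow, ← hi, ← zpow_mul, mul_comm]⟩
      rw [hM, mem_centralizer_singleton_iff] at hx ⊢
      apply φ.symm.injective
      rw [map_mul, map_mul, ← zpow_natCast u, show ((2 : ℕ) : ℤ) = 2 from rfl, hi]
      simp only [MulEquiv.coe_toMonoidHom, MulEquiv.symm_apply_apply]
      rw [zpow_mul, zpow_two, ← sq]
      exact ((show Commute x (u ^ 2) from hx).zpow_right i).eq
  · left
    push Not at hH
    obtain ⟨g, hgU⟩ := hne
    obtain ⟨rfl, r, hgr, hr4⟩ := hH g hgU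
    have hsq : ∀ (x : G) (s : ℤ), x * u * x⁻¹ = u ^ s → (2 : ℤ) ∣ s - 1 := by
      intro x s hxs
      obtain ⟨e, he⟩ := hG x
      have h := hconjpow x s hxs (2 ^ e)
      rw [he, one_mul, inv_one, mul_one] at h
      have h' : u ^ (1 : ℤ) = u ^ (s ^ 2 ^ e) := by rw [zpow_one]; exact h
      rw [hzp] at h'
      have h3 : (2 : ℤ) ∣ s ^ 2 ^ e - 1 := (dvd_pow_self (2 : ℤ) (Nat.succ_ne_zero (m + 1))).trans (by exact_mod_cast h')
      have h4 : Odd (s ^ 2 ^ e) := by obtain ⟨w, hw⟩ := h3; exact ⟨w, by linarith⟩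
      rw [Int.odd_pow' (by positivity)] at h4
      obtain ⟨w, hw⟩ := h4; exact ⟨w, by linarith⟩
    have hidx : ∀ x, x ∉ U → g⁻¹ * x ∈ U := by
      intro x hx
      by_contra hn'
      obtain ⟨-, s, hs, hs4⟩ := hH x hx
      obtain ⟨-, t, ht, ht4⟩ := hH _ hn'
      have e1 : x * u * x⁻¹ = u ^ (r * t) := by
        rw [show x * u * x⁻¹ = g * ((g⁻¹ * x) * u * (g⁻¹ * x)⁻¹) * g⁻¹ by group, ht, hconj g r hgr]
      rw [hs, hzp] at e1
      obtain ⟨a, ha⟩ := hsq g r hgr
      obtain ⟨b, hb⟩ := hsq _ t ht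
      obtain ⟨a', rfl⟩ : Odd a := by
        rcases Int.even_or_odd a with ⟨w, hw⟩ | h
        · exact absurd ⟨w, by rw [ha, hw]; ring⟩ hr4
        · exact h
      obtain ⟨b', rfl⟩ : Odd b := by
        rcases Int.even_or_odd b with ⟨w, hw⟩ | h
        · exact absurd ⟨w, by rw [hb, hw]; ring⟩ ht4
        · exact h
      obtain ⟨e, he⟩ := e1
      refine hs4 ⟨4 * a' * b' + 3 * a' + 3 * b' + 2 - 2 ^ m * e, ?_⟩
      have hr' : r = 2 * (2 * a' + 1) + 1 := by linarith
      have ht' : t = 2 * (2 * b' + 1) + 1 := by linarith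
      subst hr' ht'
      push_cast at he
      rw [pow_add] at he
      linarith
    have hcard : Nat.card G = 2 ^ (m + 2 + 1) := by
      have h1 : U.index = 2 := index_eq_two_iff.2 ⟨g, fun x => by
        by_cases hx : x ∈ U
        · exact Or.inr ⟨hx, fun h => hgU ((U.mul_mem_cancel_left hx).1 h)⟩
        · refine Or.inl ⟨?_, hx⟩
          have h2 := (inferInstance : U.Normal).conj_mem _ (hidx x hx) g
          rw [show g * (g⁻¹ * x) * g⁻¹ = x * g⁻¹ by group] at h2
          have hgg : g * g ∈ U := by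
            by_contra hh
            exact hgU ((show g⁻¹ * (g * g) = g by group) ▸ hidx _ hh)
          rw [show x * g = (x * g⁻¹) * (g * g) by group]
          exact U.mul_mem h2 hgg⟩
      rw [← U.card_mul_index, h1, hu, Nat.card_zpowers, hn, ← pow_succ]
    refine ⟨rfl, hcard, ?_⟩
    -- `g² ∈ {1, z}`
    have hgg : g * g ∈ U := by
      by_contra hh
      exact hgU ((show g⁻¹ * (g * g) = g by group) ▸ hidx _ hh)
    obtain ⟨j, hj⟩ := mem_zpowers_iff.1 (hu ▸ hgg)
    have hrr : ((2 : ℤ) ^ (m + 2)) ∣ r ^ 2 - 1 := by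
      have h := hconjpow g r hgr 2
      rw [sq g, ← hj, ((Commute.refl u).zpow_left j).mul_inv_cancel] at h
      have h' : u ^ (1 : ℤ) = u ^ (r ^ 2) := by rw [zpow_one]; exact h
      rw [hzp] at h'; exact_mod_cast h'
    obtain ⟨a, ha⟩ := hsq g r hgr
    obtain ⟨a', rfl⟩ : Odd a := by
      rcases Int.even_or_odd a with ⟨w, hw⟩ | h
      · exact absurd ⟨w, by rw [ha, hw]; ring⟩ hr4
      · exact h
    obtain ⟨e, he⟩ : (2 : ℤ) ^ (m + 1) ∣ r + 1 := by
      rw [show r ^ 2 - 1 = (r + 1) * (2 * a' + 1) * 2 by rw [show r = 2 * (2 * a' + 1) + 1 by linarith]; ring,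
        pow_succ, mul_dvd_mul_iff_right two_ne_zero] at hrr
      exact (IsCoprime.pow_left ⟨-a', 1, by ring⟩).dvd_of_dvd_mul_right hrr
    have hj2 : (2 : ℤ) ^ (m + 1) ∣ j := by
      have h := hconj g r hgr j
      rw [hj, show g * (g * g) * g⁻¹ = g * g by group, ← hj, hzp] at h
      push_cast at h
      rw [show r * j - j = (2 * a' + 1) * j * 2 by rw [show r = 2 * (2 * a' + 1) + 1 by linarith]; ring,
        pow_succ, mul_dvd_mul_iff_right two_ne_zero] at h
      exact (IsCoprime.pow_left ⟨-a', 1, by ring⟩).dvd_of_dvd_mul_left h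
    have hpow : ∀ i : ℤ, (u ^ i * g) * (u ^ i * g) = u ^ (i * (r + 1) + j) := fun i => by
      rw [show (u ^ i * g) * (u ^ i * g) = u ^ i * (g * u ^ i * g⁻¹) * (g * g) by group, hconj g r hgr, ← hj,
        ← zpow_add, ← zpow_add]; ring_nf
    have hout : ∀ i : ℤ, u ^ i * g ∉ zpowers u := fun i h => hgU (hu ▸
      ((zpowers u).mul_mem_cancel_left (zpow_mem (mem_zpowers u) i)).1 h)
    obtain ⟨j', rfl⟩ := hj2
    haveI : NeZero (2 ^ (m + 2)) := ⟨by positivity⟩
    rcases Int.even_or_odd e with ⟨w, rfl⟩ | ⟨w, rfl⟩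
    · -- `g` inverts `u`
      have hinv : g * u * g⁻¹ = u⁻¹ := by
        rw [hgr, ← zpow_neg_one, hzp]
        exact ⟨-w, by push_cast; rw [pow_succ _ (m + 1)]; linarith⟩
      rcases Int.even_or_odd j' with ⟨q, rfl⟩ | ⟨q, rfl⟩
      · refine Or.inl ⟨_, Cfsg.Agent.Struct.PByCyclic.dihedral_of_inverts u g hn ?_ hinv (hu ▸ hgU) (by rw [hcard]; omega)⟩
        rw [← hj, ← zpow_zero u, hzp]
        exact ⟨-q, by push_cast; ring⟩
      · refine Or.inr (Or.inl ?_)
        have huniq : ∀ H K : Subgroup G, Nat.card H = 2 → Nat.card K = 2 → H = K := by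
          intro H K hH hK
          have key : ∀ L : Subgroup G, Nat.card L = 2 → L = zpowers z := by
            intro L hL
            obtain ⟨l, hl⟩ := exists_prime_orderOf_dvd_card' 2 (G := L) hL.symm.dvd
            rw [← Subgroup.orderOf_coe] at hl
            have hL' : zpowers (l : G) = L := eq_of_le_of_card_ge (zpowers_le.2 l.2) (by
              rw [hL, Nat.card_zpowers, hl])
            have hlU : (l : G) ∈ U := by
              by_contra hh
              obtain ⟨i, hi⟩ := mem_zpowers_iff.1 (hu ▸ (inferInstance : U.Normal).conj_mem _ (hidx _ hh) g)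
              have h2 : (l : G) = u ^ i * g := by rw [hi]; group
              have h3 := pow_orderOf_eq_one (l : G)
              rw [hl, sq, h2, hpow, ← zpow_zero u, hzp] at h3
              push_cast at h3
              rw [he, show (0 : ℤ) - (i * ((2 : ℤ) ^ (m + 1) * (w + w)) + 2 ^ (m + 1) * (2 * q + 1))
                = 2 ^ (m + 1) * (-(i * (w + w)) - (2 * q + 1)) by ring, pow_succ _ (m + 1),
                mul_dvd_mul_iff_left (by positivity)] at h3
              obtain ⟨x, hx⟩ := h3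
              have : (2 : ℤ) * (-(i * w) - q - x) = 1 := by linarith
              omega
            obtain ⟨i, hi⟩ := mem_zpowers_iff.1 (hu ▸ hlU)
            have h3 := pow_orderOf_eq_one (l : G)
            rw [hl, ← hi, ← zpow_natCast, ← zpow_mul, ← zpow_zero u, eq_comm, hzp] at h3
            push_cast at h3
            rw [sub_zero, pow_succ _ (m + 1), mul_dvd_mul_iff_right two_ne_zero] at h3
            obtain ⟨x, rfl⟩ := h3
            rw [← hL']
            refine eq_of_le_of_card_ge (zpowers_le.2 ⟨x, ?_⟩) (by rw [Nat.card_zpowers, Nat.card_zpowers, hz, hl])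
            show z ^ x = _
            rw [← hi, zpow_mul]; rfl
          rw [key H hH, key K hK]
        rcases S0016.result 2 hG huniq with hcyc | ⟨-, q, hq⟩
        · exact absurd IsCyclic.isMulCommutative hna
        · exact ⟨_, hq⟩
    · -- semidihedral
      have hm0 : 1 ≤ m := by
        by_contra h
        obtain rfl : m = 0 := by omega
        refine hgU (hmem g ?_)
        have h3 : u ^ r = u ^ (1 : ℤ) := by
          rw [hzp]; exact ⟨-w, by norm_num at he ⊢; linarith⟩
        rw [zpow_one] at h3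
        rw [h3] at hgr
        conv_rhs => rw [← hgr]
        group
      refine Or.inr (Or.inr ⟨m + 2, by omega, hcard, u, u ^ j' * g, hn, orderOf_eq_prime ?_ ?_, ?_⟩)
      · rw [sq, hpow, ← zpow_zero u, hzp]
        exact ⟨-(j' * (w + 1)), by push_cast; rw [he]; ring⟩
      · exact fun h => hout j' (h ▸ one_mem _)
      · rw [show u ^ j' * g * u * (u ^ j' * g)⁻¹ = u ^ j' * (g * u * g⁻¹) * (u ^ j')⁻¹ by group, hgr,
          (Commute.zpow_zpow (Commute.refl u) j' r).mul_inv_cancel, ← zpow_natCast, hzp]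
        refine ⟨-w, ?_⟩
        have h1 : (1 : ℕ) ≤ 2 ^ (m + 2 - 1) := Nat.one_le_two_pow
        rw [show m + 2 - 1 = m + 1 from rfl] at h1 ⊢
        push_cast [Nat.cast_sub h1]
        rw [pow_succ _ (m + 1)]
        linarith

/-- Let G be a finite non-abelian p-group with a cyclic normal subgroup U of order p^n such that C_G(U) = U. Then either p = 2 and G is dihedral, generalized quaternion or semidihedral of order 2^(n+1); or, writing U₁ for the subgroup generated by the p-th powers of elements of U and M = C_G(U₁), the subgroup U has index p in M and the subgroup Ω₁(M) generated by the elements of M of order dividing p is elementary abelian of order p² and characteristic in G. -/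
theorem result {G : Type*} [Group G] [Finite G] {p : ℕ} [Fact p.Prime] (hG : IsPGroup p G) (hna : ¬ IsMulCommutative G) (U : Subgroup G) [U.Normal] (hU : IsCyclic U) (n : ℕ) (hUn : Nat.card U = p ^ n) (hC : Subgroup.centralizer (U : Set G) = U) : (p = 2 ∧ Nat.card G = 2 ^ (n + 1) ∧ ((∃ m : ℕ, Nonempty (G ≃* DihedralGroup m)) ∨ (∃ m : ℕ, Nonempty (G ≃* QuaternionGroup m)) ∨ Cfsg.IsQuasiDihedral G)) ∨ (U.relIndex (Subgroup.centralizer (Cfsg.powerClosure p 1 U : Set G)) = p ∧ Cfsg.IsElementaryAbelian p (Cfsg.omegaOne p (Subgroup.centralizer (Cfsg.powerClosure p 1 U : Set G))) ∧ Nat.card ↥(Cfsg.omegaOne p (Subgroup.centralizer (Cfsg.powerClosure p 1 U : Set G))) = p ^ 2 ∧ (Cfsg.omegaOne p (Subgroup.centralizer (Cfsg.powerClosure p 1 U : Set G))).Characteristic) := by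
  obtain ⟨⟨u, hu⟩⟩ := hU
  have hUu : U = Subgroup.zpowers (u : G) := by
    refine le_antisymm (fun x hx => ?_) (Subgroup.zpowers_le.2 u.2)
    obtain ⟨k, hk⟩ := hu ⟨x, hx⟩
    exact ⟨k, congrArg Subtype.val hk⟩
  have hn : orderOf (u : G) = p ^ n := by rw [← Nat.card_zpowers, ← hUu, hUn]
  have hPC : Subgroup.centralizer (Cfsg.powerClosure p 1 U : Set G) = Subgroup.centralizer ({(u : G) ^ p} : Set G) := by
    rw [Cfsg.powerClosure, Subgroup.centralizer_closure]
    refine le_antisymm (Subgroup.centralizer_le ?_) (fun x hx => ?_)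
    · rintro _ rfl; exact ⟨u, u.2, by rw [pow_one]⟩
    · rw [Subgroup.mem_centralizer_iff]
      rintro _ ⟨y, hy, rfl⟩
      rw [hUu, Subgroup.mem_zpowers_iff] at hy
      obtain ⟨k, rfl⟩ := hy
      rw [pow_one, ← zpow_natCast, ← zpow_mul, mul_comm, zpow_mul, zpow_natCast]
      exact ((show Commute x ((u : G) ^ p) from Subgroup.mem_centralizer_singleton_iff.1 hx).zpow_right k).symm.eq
  rw [hPC]
  exact main hG hna U u hUu n hn hC

end Cfsg.Agent.S3761
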