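import Cfsg.Statements.S3763
import Cfsg.Agent.Lib.Solv.ExtraspecialTwo
-- import your own Cfsg.Agent.* helpers here

set_option autoImplicit false
open Cfsg

namespace Cfsg.Agent.S3763

/-- Let E be an extraspecial 2-group of order 2^(2n+1). Then the largest elementary abelian subgroups of E have order 2^n or 2^(n+1); and two extraspecial 2-groups of the same order whose largest elementary abelian subgroups have the same order are isomorphic. -/
theorem result {E : Type*} [Group E] [Finite E] (hE : Cfsg.IsExtraspecial 2 E) (n : ℕ) (hn : Nat.card E = 2 ^ (2 * n + 1)) : ((Cfsg.PRankLE 2 n E ∧ ¬ Cfsg.PRankLE 2 (n - 1) E) ∨ (Cfsg.PRankLE 2 (n + 1) E ∧ ¬ Cfsg.PRankLE 2 n E)) ∧ ∀ (E' : Type*) [Group E'] [Finite E'], Cfsg.IsExtraspecial 2 E' → Nat.card E' = Nat.card E → (∀ k : ℕ, Cfsg.PRankLE 2 k E ↔ Cfsg.PRankLE 2 k E') → Nonempty (E ≃* E') := by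
  obtain ⟨D⟩ := Cfsg.Agent.Solv.ESClass.ES.exists_of hE
  obtain ⟨n', hn', hnn⟩ := Cfsg.Agent.Solv.ESClass.exists_n hE
  obtain rfl : n' = n := by
    have := Nat.pow_right_injective (le_refl 2) (hnn.symm.trans hn)
    omega
  have s := Cfsg.Agent.Solv.ESClass.summary D n' hn
  refine ⟨?_, fun E' _ _ hE' hc hr => ?_⟩
  · rcases s with ⟨-, h⟩ | ⟨-, -, h⟩
    · exact Or.inr ⟨(h _).mpr le_rfl, fun h' => by have := (h _).mp h'; omega⟩
    · exact Or.inl ⟨(h _).mpr le_rfl, fun h' => by have := (h _).mp h'; omega⟩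
  · obtain ⟨D'⟩ := Cfsg.Agent.Solv.ESClass.ES.exists_of hE'
    refine Cfsg.Agent.Solv.ESClass.iso_of_sqN hc.symm ?_ D D'
    rcases s with ⟨a, h⟩ | ⟨-, a, h⟩ <;>
      rcases Cfsg.Agent.Solv.ESClass.summary D' n' (hc.trans hn) with ⟨b, h'⟩ | ⟨-, b, h'⟩
    · omega
    · have := (h n').mp ((hr n').mpr ((h' n').mpr le_rfl)); omega
    · have := (h' n').mp ((hr n').mp ((h n').mpr le_rfl)); omega
    · omega

end Cfsg.Agent.S3763
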