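import Cfsg.Statements.S3764
import Cfsg.Agent.Lib.Struct.HallHigmanBridge

set_option autoImplicit false
open Cfsg
open scoped commutatorElement

namespace Cfsg.Agent.S3764

/-- Let p, q, r be distinct primes and let X, Q, V be subgroups of a finite group with X of order r, Q an extraspecial q-group normalized by X with C_Q(X) = Z(Q), and V an elementary abelian p-group normalized by X and Q on which XQ acts faithfully ((X ⊔ Q) ∩ C(V) = 1). If C_V(X) = 1, then q = 2, r = 2^n + 1 for some n, and Q has order 2^(2n+1). -/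
theorem result {G : Type*} [Group G] [Finite G] {p q r : ℕ} (hp : p.Prime) (hq : q.Prime) (hr : r.Prime) (hpq : p ≠ q) (hpr : p ≠ r) (hqr : q ≠ r) (X Q V : Subgroup G) (hX : Nat.card X = r) (hQ : Cfsg.IsExtraspecial q ↥Q) (hXQ : X ≤ Subgroup.normalizer (Q : Set G)) (hCQ : Q ⊓ Subgroup.centralizer (X : Set G) = (Subgroup.center ↥Q).map Q.subtype) (hV : Cfsg.IsElementaryAbelian p V) (hXV : X ≤ Subgroup.normalizer (V : Set G)) (hQV : Q ≤ Subgroup.normalizer (V : Set G)) (hfaith : (X ⊔ Q) ⊓ Subgroup.centralizer (V : Set G) = ⊥) (hCV : V ⊓ Subgroup.centralizer (X : Set G) = ⊥) : q = 2 ∧ ∃ n : ℕ, r = 2 ^ n + 1 ∧ Nat.card Q = 2 ^ (2 * n + 1) := by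
  classical
  haveI := Fact.mk hp
  haveI := Fact.mk hq
  haveI := Fact.mk hr
  let Z : Subgroup G := (Subgroup.center ↥Q).map Q.subtype
  have hZQ : Z ≤ Q := Subgroup.map_subtype_le _
  have hZcard : Nat.card Z = q := by
    rw [← hQ.2]; exact (Nat.card_congr ((Subgroup.center ↥Q).equivMapOfInjective Q.subtype Q.subtype_injective).toEquiv).symm
  have hZc : ∀ z ∈ Z, ∀ a ∈ Q, a * z = z * a := by
    rintro _ ⟨z, hz, rfl⟩ a ha
    exact congrArg Subtype.val (Subgroup.mem_center_iff.1 hz ⟨a, ha⟩)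
  have hcomZ : ∀ a ∈ Q, ∀ b ∈ Q, a⁻¹ * (b * a * b⁻¹) ∈ Z := by
    intro a ha b hb
    refine ⟨⁅(⟨a, ha⟩ : Q)⁻¹, (⟨b, hb⟩ : Q)⁆, ?_, by simp [commutatorElement_def, mul_assoc]⟩
    rw [← hQ.1.2.2]
    exact Subgroup.commutator_mem_commutator (Subgroup.mem_top _) (Subgroup.mem_top _)
  have hQZ : ¬ Q ≤ Z := by
    intro h
    have h1 : commutator Q = ⊥ := by
      rw [commutator_eq_bot_iff_center_eq_top, eq_top_iff]
      rintro ⟨a, ha⟩ -
      obtain ⟨z, hz, he⟩ := h ha
      rwa [← show z = ⟨a, ha⟩ from Subtype.ext he]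
    have h2 := hQ.2
    rw [← hQ.1.2.2, h1, Subgroup.card_bot] at h2
    exact hq.one_lt.ne h2
  haveI : IsCyclic X := isCyclic_of_prime_card hX
  obtain ⟨⟨x, hxX⟩, hxgen⟩ := IsCyclic.exists_generator (α := X)
  have hgen : ∀ y ∈ X, ∃ i : ℤ, x ^ i = y := by
    intro y hy
    obtain ⟨i, hi⟩ := Subgroup.mem_zpowers_iff.1 (hxgen ⟨y, hy⟩)
    exact ⟨i, by simpa using congrArg Subtype.val hi⟩
  have hx : x ^ r = 1 := by
    have := pow_card_eq_one' (x := (⟨x, hxX⟩ : X))
    rw [hX] at this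
    simpa using congrArg Subtype.val this
  have hxQ : ∀ a ∈ Q, x * a * x⁻¹ ∈ Q := fun a ha =>
    (Subgroup.mem_normalizer_iff.1 (hXQ hxX) a).1 ha
  have hxZ : ∀ z ∈ Z, x * z = z * x := fun z hz => by
    have hz' : z ∈ Q ⊓ Subgroup.centralizer (X : Set G) := hCQ ▸ hz
    exact (Subgroup.mem_inf.1 hz').2 x hxX
  have hcentX : ∀ {g : G}, x * g = g * x → g ∈ Subgroup.centralizer (X : Set G) := by
    intro g hg y hy
    obtain ⟨i, rfl⟩ := hgen y hy
    exact (Commute.zpow_left hg i).eq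
  haveI : IsCyclic Z := isCyclic_of_prime_card hZcard
  obtain ⟨⟨z, hzZ⟩, hzgen⟩ := IsCyclic.exists_generator (α := Z)
  have hzgen' : ∀ y ∈ Z, ∃ i : ℕ, z ^ i = y := by
    intro y hy
    obtain ⟨i, -, hi⟩ : ∃ i, i < orderOf (⟨z, hzZ⟩ : Z) ∧ (⟨z, hzZ⟩ : Z) ^ i = ⟨y, hy⟩ := by
      have := (mem_zpowers_iff_mem_range_orderOf).1 (hzgen ⟨y, hy⟩)
      simpa using this
    exact ⟨i, by simpa using congrArg Subtype.val hi⟩
  have hzq : z ^ q = 1 := by
    have := pow_card_eq_one' (x := (⟨z, hzZ⟩ : Z))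
    rw [hZcard] at this
    simpa using congrArg Subtype.val this
  have hz1 : z ≠ 1 := by
    intro e
    have : Z = ⊥ := by
      rw [eq_bot_iff]
      intro y hy
      obtain ⟨i, rfl⟩ := hzgen' y hy
      simp [e]
    rw [this, Subgroup.card_bot] at hZcard
    exact hq.one_lt.ne hZcard
  -- the group `⟨x⟩Q` and the representation
  let L : Subgroup G := X ⊔ Q
  have hLV : L ≤ Subgroup.normalizer (V : Set G) := sup_le hXV hQV
  let zL : L := ⟨z, Subgroup.mem_sup_right (hZQ hzZ)⟩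
  let xL : L := ⟨x, Subgroup.mem_sup_left hxX⟩
  have hzcent : ∀ a : L, a * zL = zL * a := by
    rintro ⟨a, ha⟩
    refine Subtype.ext ?_
    show a * z = z * a
    have : L ≤ Subgroup.centralizer {z} := by
      refine sup_le (fun y hy => Subgroup.mem_centralizer_singleton_iff.2 ?_)
        (fun y hy => Subgroup.mem_centralizer_singleton_iff.2 (hZc z hzZ y hy))
      obtain ⟨i, rfl⟩ := hgen y hy
      exact (Commute.zpow_left (hxZ z hzZ) i).eq
    exact Subgroup.mem_centralizer_singleton_iff.1 (this ha)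
  have hVc : ∀ a b : V, a * b = b * a := fun a b => by haveI := hV.1; exact mul_comm' a b
  letI : CommGroup V := { (inferInstance : Group V) with mul_comm := hVc }
  have hfaith' : ∀ g : G, g ∈ L → (∀ v ∈ V, g * v = v * g) → g = 1 := fun g hg h => by
    have hg' : g ∈ (X ⊔ Q) ⊓ Subgroup.centralizer (V : Set G) :=
      Subgroup.mem_inf.2 ⟨hg, fun v hv => (h v hv).symm⟩
    rwa [hfaith, Subgroup.mem_bot] at hg'
  haveI : Nontrivial V := by
    rcases subsingleton_or_nontrivial V with hs | hn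
    · refine absurd (hfaith' z (Subgroup.mem_sup_right (hZQ hzZ)) fun v hv => ?_) hz1
      have : v = 1 := congrArg Subtype.val (Subsingleton.elim (⟨v, hv⟩ : V) 1)
      simp [this]
    · exact hn
  obtain ⟨n, ρ, hn, hρ, hρfix⟩ := Cfsg.Agent.Struct.HallHigman.exists_rep p (V := V)
    (fun v => Subtype.ext (by simpa using hV.2 _ v.2))
    (V.normalizerMonoidHom.comp (Subgroup.inclusion hLV))
  have hρfix' : ∀ u, ρ xL u = u → u = 0 := hρfix xL fun v hv => Subtype.ext (by
    have h1 : x * (v : G) * x⁻¹ = v := congrArg Subtype.val hv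
    have h2 : (v : G) ∈ V ⊓ Subgroup.centralizer (X : Set G) :=
      Subgroup.mem_inf.2 ⟨v.2, hcentX (mul_inv_eq_iff_eq_mul.1 h1)⟩
    rwa [hCV, Subgroup.mem_bot] at h2)
  have hρz : ρ zL ≠ 1 := by
    intro h
    rw [← map_one ρ, hρ] at h
    refine hz1 (hfaith' z (Subgroup.mem_sup_right (hZQ hzZ)) fun v hv => ?_)
    have h1 := congrArg Subtype.val (DFunLike.congr_fun h (⟨v, hv⟩ : V))
    have h2 : z * v * z⁻¹ = v := by simpa [zL] using h1
    exact mul_inv_eq_iff_eq_mul.1 h2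
  have hq0 : (q : AlgebraicClosure (ZMod p)) ≠ 0 := fun h =>
    hpq ((Nat.prime_dvd_prime_iff_eq hp hq).1 ((CharP.cast_eq_zero_iff _ p q).1 h))
  have hr0 : (r : AlgebraicClosure (ZMod p)) ≠ 0 := fun h =>
    hpr ((Nat.prime_dvd_prime_iff_eq hp hr).1 ((CharP.cast_eq_zero_iff _ p r).1 h))
  have hρzq : ρ zL ^ q = 1 := by
    rw [← map_pow, show zL ^ q = 1 from Subtype.ext (by simpa [zL] using hzq), map_one]
  obtain ⟨m, b, ev, hev⟩ := Cfsg.Agent.Struct.HallHigman.exists_eigenBasis (ρ zL) hq0 hρzq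
  obtain ⟨i, hi⟩ : ∃ i, ev i ≠ 1 := by
    by_contra hcon
    push Not at hcon
    exact hρz (b.ext fun i => by rw [hev, hcon, one_smul]; rfl)
  let W := Module.End.eigenspace (ρ zL) (ev i)
  have hW : ∀ a, ∀ w ∈ W, ρ a w ∈ W := by
    intro a w hw
    rw [Module.End.mem_eigenspace_iff] at hw ⊢
    rw [← Module.End.mul_apply, ← map_mul, ← hzcent, map_mul, Module.End.mul_apply, hw, map_smul]
  haveI : Nontrivial W := ⟨⟨⟨b i, Module.End.mem_eigenspace_iff.2 (hev i)⟩, 0, fun e =>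
    b.ne_zero i (congrArg Subtype.val e)⟩⟩
  let σ := Cfsg.Agent.Struct.HallHigman.resRep ρ W hW
  have hσz : σ zL = ev i • 1 := LinearMap.ext fun w => Subtype.ext
    (Module.End.mem_eigenspace_iff.1 w.2)
  have hσpow : ∀ j : ℕ, σ (zL ^ j) = ev i ^ j • 1 := fun j => by
    rw [map_pow, hσz, smul_pow, one_pow]
  have hevq : ev i ^ q = 1 := by
    obtain ⟨w, hw⟩ := exists_ne (0 : W)
    refine smul_left_injective _ hw ?_
    show ev i ^ q • w = (1 : AlgebraicClosure (ZMod p)) • w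
    rw [one_smul]
    have := hσpow q
    rw [show zL ^ q = 1 from Subtype.ext (by simpa [zL] using hzq), map_one] at this
    exact (congrArg (fun f : Module.End _ W => f w) this).symm
  have hevord : orderOf (ev i) = q := orderOf_eq_prime hevq hi
  have hZtriv : ∀ c : L, (c : G) ∈ Z → σ c = 1 → c = 1 := by
    intro c hc hσc
    obtain ⟨j, hj⟩ := hzgen' _ hc
    have hcj : c = zL ^ j := Subtype.ext (by simpa [zL] using hj.symm)
    subst hcj
    rw [hσpow] at hσc
    obtain ⟨w, hw⟩ := exists_ne (0 : W)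
    have h1 : ev i ^ j = 1 := smul_left_injective _ hw (by
      show ev i ^ j • w = (1 : AlgebraicClosure (ZMod p)) • w
      rw [one_smul]
      exact congrArg (fun f : Module.End _ W => f w) hσc)
    obtain ⟨t, rfl⟩ := hevord ▸ orderOf_dvd_of_pow_eq_one h1
    rw [pow_mul, show zL ^ q = 1 from Subtype.ext (by simpa [zL] using hzq), one_pow]
  have hnd : Cfsg.Agent.Struct.HallHigman.IsNondeg σ (Q.subgroupOf L) (Z.subgroupOf L) := by
    refine ⟨fun a ha => hZQ ha, fun c hc => ?_, fun a ha b hb => ?_, fun a ha h => ?_⟩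
    · obtain ⟨j, hj⟩ := hzgen' _ hc
      exact ⟨ev i ^ j, by rw [← hσpow]; congr 1; exact Subtype.ext (by simpa [zL] using hj.symm)⟩
    · obtain ⟨j, hj⟩ := hzgen' _ (hcomZ a ha b hb)
      refine ⟨ev i ^ j, ?_⟩
      rw [show b * a * b⁻¹ = a * zL ^ j from Subtype.ext (by simp [zL, hj]), map_mul, hσpow]
      simp
    · obtain ⟨a', ha'⟩ : ∃ a' : Q, (a' : G) = a := ⟨⟨a, ha⟩, rfl⟩
      refine ⟨a', Subgroup.mem_center_iff.2 fun b => Subtype.ext ?_, ha'⟩
      let bL : L := ⟨b, Subgroup.mem_sup_right b.2⟩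
      have h1 : a⁻¹ * (bL * a * bL⁻¹) = 1 := by
        refine hZtriv _ (by simpa [bL] using hcomZ a ha b b.2) ?_
        rw [map_mul, h bL b.2, ← map_mul, inv_mul_cancel, map_one]
      have h2 : bL * a = a * bL := mul_inv_eq_iff_eq_mul.1 (inv_mul_eq_one.1 h1).symm
      simpa [ha', bL] using congrArg Subtype.val h2
  obtain ⟨D, hD, hrD⟩ := Cfsg.Agent.Struct.HallHigman.core hnd (fun h => hQZ fun a ha =>
      h (x := ⟨a, Subgroup.mem_sup_right ha⟩) ha) hr (x := xL) (Subtype.ext (by simpa [xL] using hx)) hr0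
    (fun a ha => hxQ _ ha) (fun c hc => by
      have hc' : (c : G) ∈ Z := hc
      show x * (c : G) * x⁻¹ ∈ Z
      rw [hxZ (c : G) hc', mul_inv_cancel_right]; exact hc')
    (fun a ha hc => by
      -- `x` fixes `a` modulo `Z`, hence fixes it
      obtain ⟨A, hA⟩ : ∃ A : G, A = (a : G) := ⟨_, rfl⟩
      have ha' : A ∈ Q := hA ▸ ha
      obtain ⟨C, hC⟩ : ∃ C : G, C = A⁻¹ * (x * A * x⁻¹) := ⟨_, rfl⟩
      have hCZ : C ∈ Z := by
        rw [hC, hA]; simpa [xL, Subgroup.mem_subgroupOf] using hc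
      have hit : ∀ t : ℕ, x ^ t * A * (x ^ t)⁻¹ = A * C ^ t := by
        intro t
        induction t with
        | zero => simp
        | succ t ih =>
          calc x ^ (t + 1) * A * (x ^ (t + 1))⁻¹ = x * (x ^ t * A * (x ^ t)⁻¹) * x⁻¹ := by
                rw [pow_succ']; group
            _ = (x * A * x⁻¹) * (x * C ^ t * x⁻¹) := by rw [ih]; group
            _ = A * C * C ^ t := by
              rw [(Commute.pow_right (hxZ C hCZ) t).eq, mul_inv_cancel_right, hC]; group
            _ = A * C ^ (t + 1) := by rw [pow_succ' C, mul_assoc]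
      have h1 := hit r
      rw [hx, one_mul, inv_one, mul_one, left_eq_mul] at h1
      have h2 : C ^ q = 1 := by
        have := pow_card_eq_one' (x := (⟨C, hCZ⟩ : Z))
        rw [hZcard] at this
        simpa using congrArg Subtype.val this
      have h3 : C = 1 := by
        have := pow_gcd_eq_one.2 ⟨h1, h2⟩
        rwa [(Nat.coprime_primes hr hq).2 (Ne.symm hqr), pow_one] at this
      have h4 : x * A = A * x := mul_inv_eq_iff_eq_mul.1 (inv_mul_eq_one.1 (hC.symm.trans h3)).symm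
      have h5 : A ∈ Q ⊓ Subgroup.centralizer (X : Set G) := Subgroup.mem_inf.2 ⟨ha', hcentX h4⟩
      rw [hCQ, hA] at h5
      exact h5)
    (fun u hu => Subtype.ext (hρfix' _ (congrArg Subtype.val hu)))
  have hidx : Z.relIndex Q = D ^ 2 := by
    rw [← hD, ← Subgroup.relIndex_map_map_of_injective _ _ L.subtype_injective]
    simp only [Subgroup.map_subgroupOf_eq_of_le (show Q ≤ L from le_sup_right),
      Subgroup.map_subgroupOf_eq_of_le (hZQ.trans (show Q ≤ L from le_sup_right))]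
  have hcardQ : Nat.card Q = q * D ^ 2 := by
    rw [← hidx, ← hZcard, ← Subgroup.card_mul_index (Z.subgroupOf Q),
      Nat.card_congr (Subgroup.subgroupOfEquivOfLe hZQ).toEquiv]
    rfl
  obtain ⟨e, he⟩ := hQ.1.1.exists_card_eq
  obtain ⟨d, -, hd⟩ : ∃ d ≤ e, D = q ^ d := by
    refine (Nat.dvd_prime_pow hq).1 ?_
    rw [← he, hcardQ]
    exact (dvd_pow_self D two_ne_zero).trans (dvd_mul_left _ _)
  have hd0 : d ≠ 0 := by
    intro h
    rw [hd, h, pow_zero, one_pow, mul_one] at hcardQ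
    exact hQZ (Subgroup.eq_of_le_of_card_ge hZQ (by rw [hcardQ, hZcard])).ge
  have hq2 : q = 2 := by
    rcases hq.eq_two_or_odd' with h | hodd
    · exact h
    · exfalso
      have hev : Even r := by rw [hrD, hd]; exact (hodd.pow).add_odd odd_one
      have h2 : r = 2 := (Nat.Prime.even_iff hr).1 hev
      have : q ≤ q ^ d := Nat.le_self_pow hd0 q
      have := hq.two_le
      omega
  exact ⟨hq2, d, by rw [hrD, hd, hq2], by rw [hcardQ, hd, hq2]; ring⟩

end Cfsg.Agent.S3764
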