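import Cfsg.Statements.S3765
import Cfsg.Agent.Lib.Struct.HallHigmanBridge

set_option autoImplicit false
open Cfsg

namespace Cfsg.Agent.S3765

/-- Let p, q, r be distinct primes and let X, Q, V be subgroups of a finite group with X of order r normalizing the q-group Q and acting faithfully on it (X ∩ C(Q) = 1), and V a nontrivial elementary abelian p-group normalized by X and Q on which XQ acts faithfully. If q = 2 and r has the form 2^n + 1, assume in addition that Q is abelian. Then C_V(X) ≠ 1. -/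
theorem result {G : Type*} [Group G] [Finite G] {p q r : ℕ} (hp : p.Prime) (hq : q.Prime) (hr : r.Prime) (hpq : p ≠ q) (hpr : p ≠ r) (hqr : q ≠ r) (X Q V : Subgroup G) (hX : Nat.card X = r) (hQ : IsPGroup q Q) (hXQ : X ≤ Subgroup.normalizer (Q : Set G)) (hXfaith : X ⊓ Subgroup.centralizer (Q : Set G) = ⊥) (hV : Cfsg.IsElementaryAbelian p V) (hV1 : V ≠ ⊥) (hXV : X ≤ Subgroup.normalizer (V : Set G)) (hQV : Q ≤ Subgroup.normalizer (V : Set G)) (hfaith : (X ⊔ Q) ⊓ Subgroup.centralizer (V : Set G) = ⊥) (hexc : q = 2 → (∃ n : ℕ, r = 2 ^ n + 1) → IsMulCommutative Q) : V ⊓ Subgroup.centralizer (X : Set G) ≠ ⊥ := by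
  intro hCV
  haveI := Fact.mk hr
  haveI : IsCyclic X := isCyclic_of_prime_card hX
  obtain ⟨⟨x, hxX⟩, hxgen⟩ := IsCyclic.exists_generator (α := X)
  have hgen : ∀ y ∈ X, ∃ i : ℤ, x ^ i = y := by
    intro y hy
    obtain ⟨i, hi⟩ := Subgroup.mem_zpowers_iff.1 (hxgen ⟨y, hy⟩)
    exact ⟨i, by simpa using congrArg Subtype.val hi⟩
  have hx : x ^ r = 1 := by
    have := pow_card_eq_one' (x := (⟨x, hxX⟩ : X))
    rw [hX] at this
    simpa using congrArg Subtype.val this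
  have hx1 : x ≠ 1 := by
    intro e
    have : X = ⊥ := by
      rw [eq_bot_iff]
      intro y hy
      obtain ⟨i, rfl⟩ := hgen y hy
      simp [e]
    rw [this, Subgroup.card_bot] at hX
    exact hr.one_lt.ne hX
  have hxQ : ∀ a ∈ Q, x * a * x⁻¹ ∈ Q := fun a ha =>
    (Subgroup.mem_normalizer_iff.1 (hXQ hxX) a).1 ha
  have hcomm : ∀ {g : G}, x * g = g * x → g ∈ Subgroup.centralizer (X : Set G) := by
    intro g hg y hy
    obtain ⟨i, rfl⟩ := hgen y hy
    exact (Commute.zpow_left hg i).eq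
  have hfix : ∀ v ∈ V, x * v = v * x → v = 1 := fun v hv hxv =>
    Subgroup.mem_bot.1 (hCV ▸ Subgroup.mem_inf.2 ⟨hv, hcomm hxv⟩)
  have hVc : ∀ a ∈ V, ∀ b ∈ V, a * b = b * a := fun a ha b hb => by
    haveI := hV.1
    exact congrArg Subtype.val (mul_comm' (⟨a, ha⟩ : V) ⟨b, hb⟩)
  have hne : ∃ a ∈ Q, ∃ v ∈ V, (x * a * x⁻¹) * v * (x * a * x⁻¹)⁻¹ ≠ a * v * a⁻¹ := by
    by_contra hcon
    push Not at hcon
    refine hx1 (Subgroup.mem_bot.1 (hXfaith ▸ Subgroup.mem_inf.2 ⟨hxX, fun a ha => ?_⟩))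
    have hc : a⁻¹ * (x * a * x⁻¹) ∈ (X ⊔ Q) ⊓ Subgroup.centralizer (V : Set G) := by
      refine Subgroup.mem_inf.2 ⟨Subgroup.mem_sup_right (mul_mem (inv_mem ha) (hxQ a ha)), fun v hv => ?_⟩
      have e := hcon a ha v hv
      calc v * (a⁻¹ * (x * a * x⁻¹)) = a⁻¹ * (a * v * a⁻¹) * (x * a * x⁻¹) := by group
        _ = a⁻¹ * (x * a * x⁻¹) * v := by rw [← e]; group
    rw [hfaith, Subgroup.mem_bot] at hc
    have := congrArg (fun t => a * t * x) hc
    simp [mul_assoc] at this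
    exact this.symm
  obtain ⟨h2, h3, a, ha, b, hb, v, -, hne'⟩ := Cfsg.Agent.Struct.HallHigman.prime_order_conj hp hq hr hpq hpr hqr
    hVc hV.2 hQ hx hQV (hXV hxX) hxQ hfix hne
  haveI := hexc h2 h3
  refine hne' ?_
  rw [show a * b = b * a from congrArg Subtype.val (mul_comm' (⟨a, ha⟩ : Q) ⟨b, hb⟩)]

end Cfsg.Agent.S3765
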