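import Cfsg.Statements.S3766
import Cfsg.Agent.Lib.Solv.Basic

set_option autoImplicit false
set_option linter.style.haveILetI false
open Cfsg
open Subgroup
open scoped commutatorElement

namespace Cfsg.Agent.S3766

/-- Let G be a finite solvable group and N a normal subgroup of G. Call a pair V < U of normal subgroups of G a chief factor of G when no normal subgroup of G lies strictly between them; an element g centralizes the chief factor U/V when u g u⁻¹ g⁻¹ ∈ V for all u ∈ U. Then an element of G lies in the Fitting subgroup F(N) if and only if it lies in N and centralizes every chief factor of G; and also if and only if it lies in N and centralizes every chief factor U/V of G with U ≤ F(N). -/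
theorem result {G : Type*} [Group G] [Finite G] (hG : Group.IsSolvable G) (N : Subgroup G) [N.Normal] (g : G) : (g ∈ (Cfsg.fittingSubgroup ↥N).map N.subtype ↔ g ∈ N ∧ ∀ U V : Subgroup G, (U.Normal ∧ V.Normal ∧ V < U ∧ ∀ W : Subgroup G, W.Normal → V ≤ W → W ≤ U → W = V ∨ W = U) → ∀ u ∈ U, u * g * u⁻¹ * g⁻¹ ∈ V) ∧ (g ∈ (Cfsg.fittingSubgroup ↥N).map N.subtype ↔ g ∈ N ∧ ∀ U V : Subgroup G, (U.Normal ∧ V.Normal ∧ V < U ∧ ∀ W : Subgroup G, W.Normal → V ≤ W → W ≤ U → W = V ∨ W = U) → U ≤ (Cfsg.fittingSubgroup ↥N).map N.subtype → ∀ u ∈ U, u * g * u⁻¹ * g⁻¹ ∈ V) := by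
  classical
  haveI := Cfsg.Agent.Solv.fittingSubgroup_characteristic ↥N
  set F := (Cfsg.fittingSubgroup ↥N).map N.subtype with hFdef
  haveI hFn : F.Normal := inferInstance
  have hFN : F ≤ N := map_subtype_le _
  have hFnil : Group.IsNilpotent F := by
    haveI := Cfsg.Agent.Solv.fittingSubgroup_isNilpotent ↥N
    exact Group.nilpotent_of_mulEquiv ((Cfsg.fittingSubgroup ↥N).equivMapOfInjective _ N.subtype_injective)
  have hfwd : ∀ x ∈ F, ∀ U V : Subgroup G, (U.Normal ∧ V.Normal ∧ V < U ∧ ∀ W : Subgroup G, W.Normal →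
      V ≤ W → W ≤ U → W = V ∨ W = U) → ∀ u ∈ U, u * x * u⁻¹ * x⁻¹ ∈ V := by
    rintro x hx U V ⟨hU, hV, hVU, hmin⟩ u hu
    rw [← commutatorElement_def]
    have hle : ⁅U, F⁆ ⊔ V ≤ U := sup_le (commutator_le_left U F) hVU.le
    rcases hmin (⁅U, F⁆ ⊔ V) inferInstance le_sup_right hle with h | h
    · exact h ▸ mem_sup_left (commutator_mem_commutator hu hx)
    exfalso
    have hk : ∀ k, U ≤ F.lowerCentralSeries k ⊔ V := by
      intro k
      induction k with
      | zero =>
        rw [Subgroup.lowerCentralSeries_zero, ← h]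
        exact sup_le_sup_right (commutator_le_right U F) V
      | succ k ih =>
        rw [← h]
        refine sup_le ((commutator_mono ih le_rfl).trans (commutator_le.2 fun a ha f hf => ?_)) le_sup_right
        rw [Subgroup.mem_sup_of_normal_right] at ha
        obtain ⟨l, hl, v, hv, rfl⟩ := ha
        rw [show ⁅l * v, f⁆ = (l * ⁅v, f⁆ * l⁻¹) * ⁅l, f⁆ by
          simp only [commutatorElement_def]; group]
        refine mul_mem (mem_sup_right (hV.conj_mem _ ?_ l)) (mem_sup_left ?_)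
        · exact commutator_le_left V (⊤ : Subgroup G)
            (commutator_mem_commutator hv (mem_top f))
        · rw [Subgroup.lowerCentralSeries_succ]
          exact commutator_mem_commutator hl hf
    obtain ⟨m, hm⟩ := (Subgroup.isNilpotent_iff_lowerCentralSeries F).1 hFnil
    have := hk m
    rw [hm, bot_sup_eq] at this
    exact hVU.not_ge this
  have hback : g ∈ N → (∀ U V : Subgroup G, (U.Normal ∧ V.Normal ∧ V < U ∧ ∀ W : Subgroup G, W.Normal →
      V ≤ W → W ≤ U → W = V ∨ W = U) → U ≤ F → ∀ u ∈ U, u * g * u⁻¹ * g⁻¹ ∈ V) → g ∈ F := by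
    intro hgN hg
    let K : Subgroup G :=
      { carrier := {x | x ∈ N ∧ ∀ U V : Subgroup G, (U.Normal ∧ V.Normal ∧ V < U ∧ ∀ W : Subgroup G,
          W.Normal → V ≤ W → W ≤ U → W = V ∨ W = U) → U ≤ F → ∀ u ∈ U, ⁅u, x⁆ ∈ V}
        one_mem' := ⟨one_mem N, fun U V _ _ u _ => by rw [commutatorElement_one_right]; exact one_mem V⟩
        mul_mem' := fun {a b} ha hb => ⟨mul_mem ha.1 hb.1, fun U V hc hUF u hu => by
          rw [show ⁅u, a * b⁆ = ⁅u, a⁆ * (a * ⁅u, b⁆ * a⁻¹) by simp only [commutatorElement_def]; group]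
          exact mul_mem (ha.2 U V hc hUF u hu) (hc.2.1.conj_mem _ (hb.2 U V hc hUF u hu) a)⟩
        inv_mem' := fun {a} ha => ⟨inv_mem ha.1, fun U V hc hUF u hu => by
          rw [show ⁅u, a⁻¹⁆ = a⁻¹ * ⁅u, a⁆⁻¹ * a⁻¹⁻¹ by simp only [commutatorElement_def]; group]
          exact hc.2.1.conj_mem _ (inv_mem (ha.2 U V hc hUF u hu)) _⟩ }
    have hKn : K.Normal := ⟨fun a ha c => ⟨Subgroup.Normal.conj_mem ‹N.Normal› _ ha.1 c, fun U V hc hUF u hu => by
      rw [show ⁅u, c * a * c⁻¹⁆ = c * ⁅c⁻¹ * u * c⁻¹⁻¹, a⁆ * c⁻¹ by simp only [commutatorElement_def]; group]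
      exact hc.2.1.conj_mem _ (ha.2 U V hc hUF _ (hc.1.conj_mem _ hu c⁻¹)) c⟩⟩
    have hFK : F ≤ K := fun x hx => ⟨hFN hx, fun U V hc _ u hu => by
      rw [commutatorElement_def]; exact hfwd x hx U V hc u hu⟩
    have hgK : g ∈ K := ⟨hgN, fun U V hc hUF u hu => by
      rw [commutatorElement_def]; exact hg U V hc hUF u hu⟩
    by_contra hgF
    have hlt : F < K := lt_of_le_of_ne hFK fun h => hgF (h ▸ hgK)
    obtain ⟨M, ⟨hMn, hFM, hMK⟩, hMmin⟩ := (Set.toFinite {M : Subgroup G | M.Normal ∧ F < M ∧ M ≤ K}).exists_minimal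
      ⟨K, hKn, hlt, le_rfl⟩
    have hMM : ⁅M, M⁆ ≤ F := by
      by_contra hcon
      have heq : ⁅M, M⁆ ⊔ F = M := le_antisymm (sup_le (commutator_le_left M M) hFM.le)
        (hMmin ⟨inferInstance, lt_of_le_of_ne le_sup_right fun h => hcon (by rw [h]; exact le_sup_left),
          (sup_le (commutator_le_left M M) hFM.le).trans hMK⟩ (sup_le (commutator_le_left M M) hFM.le))
      have hFbot : F.map (QuotientGroup.mk' F) = ⊥ := by
        rw [Subgroup.map_eq_bot_iff, QuotientGroup.ker_mk']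
      have h1 : ⁅M.map (QuotientGroup.mk' F), M.map (QuotientGroup.mk' F)⁆ = M.map (QuotientGroup.mk' F) := by
        conv_rhs => rw [← heq]
        rw [Subgroup.map_sup, hFbot, sup_bot_eq, map_commutator]
      refine (Group.IsSolvable.commutator_lt_of_ne_bot ?_).ne h1
      rw [Ne, Subgroup.map_eq_bot_iff, QuotientGroup.ker_mk']
      exact hFM.not_ge
    have hnil : ∀ c : ℕ, ∀ U : Subgroup G, Nat.card U = c → U.Normal → U ≤ F →
        ∀ i, M.lowerCentralSeries i ≤ U → ∃ j, M.lowerCentralSeries j = ⊥ := by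
      intro c
      induction c using Nat.strong_induction_on with
      | _ c ih =>
      intro U hUc hUn hUF i hi
      by_cases hU : U = ⊥
      · exact ⟨i, le_bot_iff.1 (hU ▸ hi)⟩
      obtain ⟨V, ⟨hVn, hVU⟩, hVmax⟩ := (Set.toFinite {V : Subgroup G | V.Normal ∧ V < U}).exists_maximal
        ⟨⊥, inferInstance, bot_lt_iff_ne_bot.2 hU⟩
      have hchief : U.Normal ∧ V.Normal ∧ V < U ∧ ∀ W : Subgroup G, W.Normal → V ≤ W → W ≤ U → W = V ∨ W = U :=
        ⟨hUn, hVn, hVU, fun W hW hVW hWU => by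
          by_cases h : W = U
          · exact Or.inr h
          · exact Or.inl (le_antisymm (hVmax ⟨hW, lt_of_le_of_ne hWU h⟩ hVW) hVW)⟩
      refine ih (Nat.card V) ?_ V rfl hVn (hVU.le.trans hUF) (i + 1) ?_
      · rw [← hUc]
        exact lt_of_le_of_ne (card_le_of_le hVU.le) fun h => hVU.ne (eq_of_le_of_card_ge hVU.le h.ge)
      · rw [Subgroup.lowerCentralSeries_succ, commutator_le]
        exact fun a ha m hm => (hMK hm).2 U V hchief hUF a (hi ha)
    have hMnil : Group.IsNilpotent M := (Subgroup.isNilpotent_iff_lowerCentralSeries M).2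
      (hnil _ F rfl hFn le_rfl 1 (by rw [Subgroup.lowerCentralSeries_succ, Subgroup.lowerCentralSeries_zero]; exact hMM))
    have hMN : M ≤ N := fun x hx => (hMK hx).1
    haveI := Group.nilpotent_of_mulEquiv (subgroupOfEquivOfLe hMN).symm
    refine hFM.not_ge ?_
    rw [hFdef, ← map_subgroupOf_eq_of_le hMN]
    exact map_mono (Cfsg.Agent.Solv.le_fittingSubgroup inferInstance)
  exact ⟨⟨fun h => ⟨hFN h, fun U V hc => hfwd g h U V hc⟩, fun h => hback h.1 fun U V hc _ => h.2 U V hc⟩,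
    ⟨fun h => ⟨hFN h, fun U V hc _ => hfwd g h U V hc⟩, fun h => hback h.1 h.2⟩⟩

end Cfsg.Agent.S3766
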