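import Cfsg.Statements.S3767
import Cfsg.Agent.Lib.Solv.ExtraspecialClass

set_option autoImplicit false
open Cfsg

namespace Cfsg.Agent.S3767

open Subgroup Polynomial
open scoped commutatorElement

theorem units_arith {h : ℕ} [NeZero h] (u : (ZMod h)ˣ) (n : ℕ)
    (hd : Nat.card ↥(Subgroup.closure ({u, -1} : Set (ZMod h)ˣ)) ∣ 2 * n) : u ^ n = 1 ∨ u ^ n = -1 := by
  classical
  by_cases hneg : (-1 : (ZMod h)ˣ) ∈ zpowers u
  · have hH : Subgroup.closure ({u, -1} : Set (ZMod h)ˣ) = zpowers u := by
      refine le_antisymm ((closure_le _).2 ?_) ?_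
      · rintro x (rfl | rfl)
        exacts [mem_zpowers x, hneg]
      · rw [zpowers_le]; exact subset_closure (by simp)
    rw [hH, Nat.card_zpowers] at hd
    have hsq : (u ^ n) ^ 2 = 1 := by rw [← pow_mul, mul_comm]; exact orderOf_dvd_iff_pow_eq_one.1 hd
    by_cases h1 : (-1 : (ZMod h)ˣ) = 1
    · left
      have h2 : ((2 : ℕ) : ZMod h) = 0 := by
        have := congrArg Units.val h1
        simp only [Units.val_neg, Units.val_one] at this
        rw [Nat.cast_ofNat]; linear_combination (-1 : ZMod h) * this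
      rw [ZMod.natCast_eq_zero_iff] at h2
      rcases (Nat.dvd_prime Nat.prime_two).1 h2 with rfl | rfl
      · exact Subsingleton.elim _ _
      · exact (show ∀ v : (ZMod 2)ˣ, v = 1 from by decide) _
    · by_contra hne
      push Not at hne
      have hS : ({⟨1, one_mem _⟩, ⟨-1, hneg⟩, ⟨u ^ n, pow_mem (mem_zpowers u) n⟩} : Finset (zpowers u)) ⊆
          Finset.univ.filter (fun a : zpowers u => a ^ 2 = 1) := by
        intro a ha
        simp only [Finset.mem_insert, Finset.mem_singleton] at ha
        rw [Finset.mem_filter]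
        refine ⟨Finset.mem_univ _, Subtype.ext ?_⟩
        rcases ha with rfl | rfl | rfl <;> simp [hsq]
      have h3 := Finset.card_le_card hS
      rw [Finset.card_insert_of_notMem, Finset.card_pair] at h3
      · have := IsCyclic.card_pow_eq_one_le (α := zpowers u) (n := 2) two_pos
        omega
      · exact fun e => hne.2 (congrArg Subtype.val e).symm
      · simp only [Finset.mem_insert, Finset.mem_singleton, not_or]
        exact ⟨fun e => h1 (congrArg Subtype.val e).symm, fun e => hne.1 (congrArg Subtype.val e).symm⟩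
  · left
    let m : zpowers u × zpowers (-1 : (ZMod h)ˣ) →* ↥(Subgroup.closure ({u, -1} : Set (ZMod h)ˣ)) :=
      MonoidHom.mk' (fun x => ⟨x.1.1 * x.2.1, mul_mem
        (zpowers_le.2 (subset_closure (by simp)) x.1.2) (zpowers_le.2 (subset_closure (by simp)) x.2.2)⟩)
        (fun x y => Subtype.ext (mul_mul_mul_comm _ _ _ _))
    have hm : Function.Injective m := by
      rw [injective_iff_map_eq_one]
      rintro ⟨⟨a, ha⟩, ⟨b, hb⟩⟩ hab
      have hab' : a * b = 1 := congrArg Subtype.val hab
      have hb1 : b = 1 := by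
        obtain ⟨k, rfl⟩ := mem_zpowers_iff.1 hb
        rcases Int.even_or_odd k with ⟨j, rfl⟩ | ⟨j, rfl⟩
        · rw [← two_mul, zpow_mul]; simp
        · exfalso
          refine hneg ?_
          have e : ((-1 : (ZMod h)ˣ)) ^ (2 * j + 1) = -1 := by rw [zpow_add, zpow_mul]; simp
          rw [e] at hab'
          rw [← inv_eq_of_mul_eq_one_right hab']
          exact inv_mem ha
      subst hb1
      rw [mul_one] at hab'
      subst hab'
      rfl
    have hcard : 2 * orderOf u ∣ 2 * n := by
      refine dvd_trans ?_ ((Subgroup.card_dvd_of_injective m hm).trans hd)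
      rw [Nat.card_prod, Nat.card_zpowers, Nat.card_zpowers, mul_comm 2]
      refine mul_dvd_mul_left _ (dvd_of_eq (orderOf_eq_prime ?_ ?_).symm)
      · simp
      · exact fun e => hneg (by rw [e]; exact one_mem _)
    exact orderOf_dvd_iff_pow_eq_one.1 ((mul_dvd_mul_iff_left two_ne_zero).1 hcard)

theorem orbit_count {K : Type*} [Field K] {h : ℕ} [NeZero h] (H : Subgroup (ZMod h)ˣ) :
    ∀ (N : ℕ) (R : Multiset K), Multiset.card R ≤ N → (∀ a ∈ R, orderOf a = h) →
      (∀ u ∈ H, R.map (fun a => a ^ (u : ZMod h).val) = R) → Nat.card H ∣ Multiset.card R := by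
  classical
  intro N
  induction N with
  | zero => intro R hR _ _; rw [Nat.le_zero.1 hR]; exact dvd_zero _
  | succ N ih =>
    intro R hR ho hinv
    by_cases h0 : R = 0
    · rw [h0]; exact dvd_zero _
    obtain ⟨a, ha⟩ := Multiset.exists_mem_of_ne_zero h0
    have hpw : ∀ x y : ZMod h, (a ^ x.val) ^ y.val = a ^ (y * x).val := fun x y => by
      rw [← pow_mul, ← pow_mod_orderOf, ho a ha, ZMod.val_mul, mul_comm]
    let O : Finset K := Finset.univ.image (fun u : H => a ^ ((u : (ZMod h)ˣ) : ZMod h).val)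
    have hinj : Function.Injective (fun u : H => a ^ ((u : (ZMod h)ˣ) : ZMod h).val) := fun u v e => by
      have e' := pow_injOn_Iio_orderOf (x := a) (by rw [ho a ha]; exact ZMod.val_lt _)
        (by rw [ho a ha]; exact ZMod.val_lt _) e
      exact Subtype.ext (Units.ext (ZMod.val_injective h e'))
    have hOc : O.card = Nat.card H := by
      rw [Finset.card_image_of_injective _ hinj, Finset.card_univ, Nat.card_eq_fintype_card]
    have hOR : O.1 ≤ R := (Multiset.le_iff_subset O.2).2 fun b hb => by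
      obtain ⟨u, -, rfl⟩ := Finset.mem_image.1 hb
      rw [← hinv u u.2]
      exact Multiset.mem_map_of_mem _ ha
    obtain ⟨R', rfl⟩ := Multiset.le_iff_exists_add.1 hOR
    have hO : ∀ v ∈ H, O.1.map (fun b => b ^ (v : ZMod h).val) = O.1 := fun v hv => by
      have him : O.image (fun b => b ^ (v : ZMod h).val) = O := by
        rw [Finset.image_image]
        ext b
        simp only [O, Finset.mem_image, Finset.mem_univ, true_and, Function.comp_apply]
        constructor
        · rintro ⟨u, rfl⟩
          exact ⟨⟨v, hv⟩ * u, by rw [hpw]; rfl⟩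
        · rintro ⟨u, rfl⟩
          refine ⟨⟨v, hv⟩⁻¹ * u, ?_⟩
          rw [hpw]
          congr 2
          simp
      have hnd : Set.InjOn (fun b => b ^ (v : ZMod h).val) (O : Set K) :=
        Finset.card_image_iff.1 (by rw [him])
      rw [← Finset.image_val_of_injOn hnd, him]
    rw [Multiset.card_add, Finset.card_val, hOc]
    refine dvd_add dvd_rfl (ih R' ?_ (fun b hb => ho b (Multiset.mem_add.2 (Or.inr hb))) fun v hv => ?_)
    · rw [Multiset.card_add, Finset.card_val, hOc] at hR
      have : 0 < Nat.card H := Nat.card_pos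
      omega
    · have := hinv v hv
      rwa [Multiset.map_add, hO v hv, add_right_inj] at this

theorem core {p : ℕ} [Fact p.Prime] {ι : Type*} [Fintype ι] [DecidableEq ι] (n : ℕ) (hn : Fintype.card ι = 2 * n)
    (A J : Matrix ι ι (ZMod p)) (hJ : J.det ≠ 0) (hA : A.transpose * J * A = J) (h : ℕ) [NeZero h]
    (hcop : p.Coprime h) (hh : A ^ h = 1)
    (hfix : ∀ k, 0 < k → k < h → ∀ v, (A ^ k).mulVec v = v → v = 0) :
    h ∣ p ^ n + 1 ∨ h ∣ p ^ n - 1 := by
  classical
  let K := AlgebraicClosure (ZMod p)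
  let φ : ZMod p →+* K := algebraMap _ _
  haveI : CharP K p := charP_of_injective_algebraMap φ.injective p
  let f := A.charpoly.map φ
  have hfm : f.Monic := (A.charpoly_monic).map _
  have hdeg : f.natDegree = 2 * n := by rw [natDegree_map, A.charpoly_natDegree_eq_dim, hn]
  have hsp : f.Splits := IsAlgClosed.splits f
  have hcard : Multiset.card f.roots = f.natDegree := (splits_iff_card_roots.1 hsp)
  let A' := A.map φ
  have hfA : A'.charpoly = f := Matrix.charpoly_map A φ
  have hdetA : IsUnit A'.det := by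
    refine IsUnit.of_pow_eq_one (n := h) ?_ (NeZero.ne h)
    rw [← Matrix.det_pow, ← Matrix.map_pow, hh, Matrix.map_one _ (map_zero φ) (map_one φ), Matrix.det_one]
  have hA0 : IsUnit A' := (Matrix.isUnit_iff_isUnit_det A').2 hdetA
  -- roots have order `h`
  have hord : ∀ a ∈ f.roots, orderOf a = h := by
    intro a ha
    rw [mem_roots hfm.ne_zero, IsRoot, ← hfA, Matrix.eval_charpoly] at ha
    obtain ⟨v, hv0, hv⟩ := Matrix.exists_mulVec_eq_zero_iff.2 ha
    have hAv : A'.mulVec v = a • v := by
      rw [Matrix.sub_mulVec, sub_eq_zero] at hv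
      rw [← hv]; ext i; simp [Matrix.scalar_apply, Matrix.mulVec_diagonal]
    have hpow : ∀ k, (A' ^ k).mulVec v = a ^ k • v := by
      intro k
      induction k with
      | zero => simp
      | succ k ih => rw [pow_succ', ← Matrix.mulVec_mulVec, ih, Matrix.mulVec_smul, hAv, smul_smul, ← pow_succ]
    have hah : a ^ h = 1 := by
      have := hpow h
      rw [← Matrix.map_pow, hh, Matrix.map_one _ (map_zero φ) (map_one φ), Matrix.one_mulVec] at this
      by_contra hne
      refine hv0 ((smul_eq_zero.1 (?_ : (a ^ h - 1) • v = 0)).resolve_left (sub_ne_zero.2 hne))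
      rw [sub_smul, one_smul, ← this, sub_self]
    rw [orderOf_eq_iff (Nat.pos_of_ne_zero (NeZero.ne h))]
    refine ⟨hah, fun k hk hk0 hak => ?_⟩
    have h0 : ((A ^ k - 1).map φ).det = 0 := Matrix.exists_mulVec_eq_zero_iff.1 ⟨v, hv0, by
      rw [Matrix.map_sub φ (by simp), Matrix.map_pow, Matrix.map_one _ (map_zero φ) (map_one φ), Matrix.sub_mulVec,
        hpow, hak, one_smul, Matrix.one_mulVec, sub_self]⟩
    rw [← RingHom.mapMatrix_apply, ← RingHom.map_det, map_eq_zero] at h0
    obtain ⟨w, hw0, hw⟩ := Matrix.exists_mulVec_eq_zero_iff.2 h0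
    rw [Matrix.sub_mulVec, Matrix.one_mulVec, sub_eq_zero] at hw
    exact hw0 (hfix k hk0 hk w hw)
  -- Frobenius
  have hfrob : f.roots.map (fun a => a ^ p) = f.roots := by
    have hf : f.map (frobenius K p) = f := by
      rw [Polynomial.map_map]
      congr 1
      ext c
      show φ c ^ p = φ c
      rw [← map_pow, ZMod.pow_card]
    have := roots_map_of_injective_of_card_eq_natDegree (f := frobenius K p) (frobenius_inj K p) hcard
    rw [hf] at this
    exact this
  -- inversion
  have hrev : f.roots.map (fun a => a⁻¹) = f.roots := by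
    have hne : ∀ a ∈ f.roots, a ≠ 0 := fun a ha e => by
      have h1 := hord a ha
      have := (orderOf_eq_iff (Nat.pos_of_ne_zero (NeZero.ne h))).1 h1
      rw [e, zero_pow (NeZero.ne h)] at this
      exact zero_ne_one this.1
    let J' := J.map φ
    have hJ' : IsUnit J'.det := by
      show IsUnit (φ.mapMatrix J).det
      rw [← RingHom.map_det]; exact (isUnit_iff_ne_zero.2 hJ).map φ
    have hA' : A'.transpose * J' * A' = J' := by
      show (A.map φ).transpose * J.map φ * A.map φ = J.map φ
      rw [← Matrix.transpose_map, ← Matrix.map_mul, ← Matrix.map_mul, hA]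
    have hinv : A'⁻¹.charpoly = f := by
      have e : A'⁻¹ = J'⁻¹ * A'.transpose * J' := by
        refine Matrix.inv_eq_left_inv ?_
        rw [Matrix.mul_assoc, Matrix.mul_assoc, ← Matrix.mul_assoc A'.transpose, hA', Matrix.nonsing_inv_mul _ hJ']
      rw [e, Matrix.charpoly_mul_comm, ← Matrix.mul_assoc, Matrix.mul_nonsing_inv _ hJ', one_mul,
        Matrix.charpoly_transpose, hfA]
    have hprod : f = (f.roots.map fun a => X - C a).prod := hsp.eq_prod_roots_of_monic hfm
    have hrv : ∀ s : Multiset K, (s.map fun a => X - C a).prod.reverse = (s.map fun a => 1 - C a * X).prod := by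
      intro s
      induction s using Multiset.induction with
      | empty => simp only [Multiset.map_zero, Multiset.prod_zero]; rw [← C_1, reverse_C]
      | cons b s ih =>
        rw [Multiset.map_cons, Multiset.prod_cons, Multiset.map_cons, Multiset.prod_cons, reverse_mul_of_domain, ih]
        congr 1
        rw [reverse, natDegree_X_sub_C, reflect_sub, reflect_one_X, reflect_C, pow_one]
    have hfac : (f.roots.map fun a => 1 - C a * X).prod =
        C ((f.roots.map fun a => -a).prod) * ((f.roots.map fun a => a⁻¹).map fun a => X - C a).prod := by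
      rw [map_multiset_prod, Multiset.map_map, Multiset.map_map, ← Multiset.prod_map_mul]
      refine congrArg Multiset.prod (Multiset.map_congr rfl fun a ha => ?_)
      simp only [Function.comp_apply]
      rw [mul_sub, ← C_mul, neg_mul, mul_inv_cancel₀ (hne a ha), map_neg, map_neg, map_one]
      ring
    have e := Matrix.charpoly_inv A' hA0
    rw [hinv, ← Matrix.reverse_charpoly, hfA] at e
    have e2 : f.reverse = (f.roots.map fun a => 1 - C a * X).prod := by
      conv_lhs => rw [hprod]
      exact hrv _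
    rw [e2, hfac, ← map_one C, ← map_neg, ← map_pow, ← mul_assoc, ← C_mul, ← C_mul] at e
    have hc : (-1 : K) ^ Fintype.card ι * Ring.inverse A'.det * (f.roots.map fun a => -a).prod ≠ 0 := by
      intro h0
      rw [h0, map_zero, zero_mul] at e
      exact hfm.ne_zero e
    conv_rhs => rw [e]
    rw [roots_C_mul _ hc, roots_multiset_prod_X_sub_C]
  -- the group of exponents
  let S : Submonoid (ZMod h)ˣ :=
    { carrier := {u | f.roots.map (fun a => a ^ (u : ZMod h).val) = f.roots}
      one_mem' := by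
        show _ = _
        conv_rhs => rw [← Multiset.map_id f.roots]
        refine Multiset.map_congr rfl fun a ha => ?_
        rw [Units.val_one, ← pow_mod_orderOf, hord a ha, ZMod.val_one_eq_one_mod, Nat.mod_mod]
        rw [← hord a ha, pow_mod_orderOf, pow_one]
        rfl
      mul_mem' := fun {u v} hu hv => by
        show _ = _
        simp only [Set.mem_setOf_eq] at hu hv
        conv_rhs => rw [← hv, ← hu, Multiset.map_map]
        refine Multiset.map_congr rfl fun a ha => ?_
        simp only [Function.comp_apply]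
        rw [← pow_mul, Units.val_mul, ZMod.val_mul]
        conv_rhs => rw [← pow_mod_orderOf, hord a ha] }
  let pu : (ZMod h)ˣ := ZMod.unitOfCoprime p hcop
  have hpS : pu ∈ S := by
    show _ = _
    refine Eq.trans (Multiset.map_congr rfl fun a ha => ?_) hfrob
    rw [ZMod.coe_unitOfCoprime, ZMod.val_natCast, ← hord a ha, pow_mod_orderOf]
  have hnS : (-1 : (ZMod h)ˣ) ∈ S := by
    show _ = _
    refine Eq.trans (Multiset.map_congr rfl fun a ha => ?_) hrev
    rw [← pow_mod_orderOf, hord a ha, Units.val_neg, Units.val_one]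
    refine eq_inv_of_mul_eq_one_left ?_
    rw [← pow_succ, ← pow_mod_orderOf, hord a ha, Nat.add_mod, Nat.mod_mod, ← Nat.add_mod]
    have : (((-1 : ZMod h).val + 1 : ℕ) : ZMod h) = 0 := by push_cast [ZMod.natCast_zmod_val]; ring
    rw [ZMod.natCast_eq_zero_iff] at this
    rw [Nat.mod_eq_zero_of_dvd this, pow_zero]
  have hd := orbit_count (Subgroup.closure ({pu, -1} : Set (ZMod h)ˣ)) _ f.roots le_rfl hord (fun u hu => by
    have : u ∈ S := by
      have h1 : (Subgroup.closure ({pu, -1} : Set (ZMod h)ˣ)).toSubmonoid ≤ S := by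
        rw [Subgroup.closure_toSubmonoid_of_finite, Submonoid.closure_le]
        rintro x (rfl | rfl)
        exacts [hpS, hnS]
      exact h1 hu
    exact this)
  rw [hcard, hdeg] at hd
  have hpos : 1 ≤ p ^ n := Nat.one_le_pow _ _ (Fact.out : p.Prime).pos
  rcases units_arith pu n hd with e | e
  · right
    rw [← ZMod.natCast_eq_zero_iff, Nat.cast_sub hpos, Nat.cast_pow, Nat.cast_one]
    have := congrArg Units.val e
    rw [Units.val_pow_eq_pow_val, ZMod.coe_unitOfCoprime, Units.val_one] at this
    rw [this, sub_self]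
  · left
    rw [← ZMod.natCast_eq_zero_iff, Nat.cast_add, Nat.cast_pow, Nat.cast_one]
    have := congrArg Units.val e
    rw [Units.val_pow_eq_pow_val, ZMod.coe_unitOfCoprime, Units.val_neg, Units.val_one] at this
    rw [this, neg_add_cancel]

theorem linear_case {Q : Type*} [Group Q] [Finite Q] {p : ℕ} [Fact p.Prime] (hQ : Cfsg.IsExtraspecial p Q) (n : ℕ)
    (hn : Nat.card Q = p ^ (2 * n + 1)) (x : MulAut Q) (h : ℕ) [NeZero h] (hcop : p.Coprime h) (hx : x ^ h = 1)
    (hcen : ∀ z ∈ Subgroup.center Q, x z = z)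
    (hfix : ∀ k, 0 < k → k < h → ∀ q, (x ^ k) q = q → q ∈ Subgroup.center Q)
    (D : Cfsg.Agent.Solv.ESClass.ES p Q) (hZ : Subgroup.center Q = zpowers D.z)
    {V : Type*} [AddCommGroup V] [Module (ZMod p) V] [Finite V] (π : Q → V) (hπm : ∀ a b, π (a * b) = π a + π b)
    (hπ1 : π 1 = 0) (hπs : Function.Surjective π) (hπeq : ∀ a b, π a = π b ↔ a⁻¹ * b ∈ Subgroup.center Q)
    (hcardV : Nat.card V = Nat.card (Q ⧸ Subgroup.center Q)) (T : V →ₗ[ZMod p] V) (hT : ∀ a, T (π a) = π (x a)) :
    h ∣ p ^ n + 1 ∨ h ∣ p ^ n - 1 := by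
  classical
  choose r hr using fun y : zpowers D.z => mem_zpowers_iff.1 y.2
  let ex : zpowers D.z → ZMod p := fun y => (r y : ZMod p)
  have hex : ∀ (y : zpowers D.z) (i : ℤ), (y : Q) = D.z ^ i → ex y = (i : ZMod p) := fun y i hy => by
    show ((r y : ℤ) : ZMod p) = i
    rw [ZMod.intCast_eq_intCast_iff, ← D.hz, ← zpow_eq_zpow_iff_modEq, ← hy]
    exact hr y
  let c : Q → Q → ZMod p := fun a b => ex ⟨⁅a, b⁆, D.comm a b⟩
  have hzc : ∀ a b y : Q, Commute ⁅a, b⁆ y := fun a b y => by
    have h1 : ⁅a, b⁆ ∈ Subgroup.center Q := hZ ▸ D.comm a b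
    exact (Subgroup.mem_center_iff.1 h1 y).symm
  have hc1 : ∀ a a' b, c (a * a') b = c a b + c a' b := fun a a' b => by
    show ex _ = ((_ : ℤ) : ZMod p) + ((_ : ℤ) : ZMod p)
    rw [← Int.cast_add]
    refine hex _ _ ?_
    rw [zpow_add, hr, hr]
    show ⁅a * a', b⁆ = ⁅a, b⁆ * ⁅a', b⁆
    rw [show ⁅a * a', b⁆ = a * ⁅a', b⁆ * a⁻¹ * ⁅a, b⁆ by simp only [commutatorElement_def]; group,
      (hzc a' b a).symm.eq, mul_inv_cancel_right, (hzc a' b _).eq]
  have hswap : ∀ a b, c b a = - c a b := fun a b => by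
    show ex _ = - ((_ : ℤ) : ZMod p)
    rw [← Int.cast_neg]
    refine hex _ _ ?_
    rw [zpow_neg, hr]
    show ⁅b, a⁆ = ⁅a, b⁆⁻¹
    rw [commutatorElement_inv]
  have hcz : ∀ a b, a ∈ Subgroup.center Q → c a b = 0 := fun a b ha => by
    rw [show (0 : ZMod p) = ((0 : ℤ) : ZMod p) from Int.cast_zero.symm]
    refine hex _ _ ?_
    rw [zpow_zero]
    exact commutatorElement_eq_one_iff_mul_comm.2 (Subgroup.mem_center_iff.1 ha b).symm
  have hwd : ∀ a a' b, π a = π a' → c a b = c a' b := fun a a' b e => by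
    rw [hπeq] at e
    rw [show a' = a * (a⁻¹ * a') by group, hc1, hcz _ _ e, add_zero]
  have hadd1 : ∀ v w w' : V, c (hπs v).choose (hπs (w + w')).choose =
      c (hπs v).choose (hπs w).choose + c (hπs v).choose (hπs w').choose := fun v w w' => by
    have e : π (hπs (w + w')).choose = π ((hπs w).choose * (hπs w').choose) := by
      rw [(hπs (w + w')).choose_spec]
      rw [hπm]
      rw [(hπs w).choose_spec, (hπs w').choose_spec]
    rw [hswap _ (hπs v).choose, hwd _ _ _ e, hc1, neg_add, ← hswap, ← hswap]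
  have hadd2 : ∀ v v' w : V, c (hπs (v + v')).choose (hπs w).choose =
      c (hπs v).choose (hπs w).choose + c (hπs v').choose (hπs w).choose := fun v v' w => by
    rw [hswap (hπs w).choose, hadd1, neg_add, ← hswap, ← hswap]
  let B0 : V →+ V →+ ZMod p := AddMonoidHom.mk'
    (fun v => AddMonoidHom.mk' (fun w => c (hπs v).choose (hπs w).choose) (hadd1 v))
    (fun v v' => AddMonoidHom.ext fun w => hadd2 v v' w)
  let B : LinearMap.BilinForm (ZMod p) V :=
    LinearMap.mk₂ (ZMod p) (fun v w => B0 v w) (fun v v' w => hadd2 v v' w)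
      (fun a v w => ZMod.map_smul (B0.flip w) a v) (fun v w w' => hadd1 v w w') (fun a v w => ZMod.map_smul (B0 v) a w)
  have hB : ∀ a b, B (π a) (π b) = c a b := fun a b => by
    show c _ _ = c a b
    rw [hwd _ a _ (hπs (π a)).choose_spec, hswap _ a, hwd _ b _ (hπs (π b)).choose_spec, ← hswap]
  have hcx : ∀ a b, c (x a) (x b) = c a b := fun a b => by
    show ex _ = ((_ : ℤ) : ZMod p)
    refine hex _ _ ?_
    rw [hr]
    show ⁅x a, x b⁆ = ⁅a, b⁆
    rw [← map_commutatorElement]
    exact hcen _ (hZ ▸ D.comm a b)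
  let bas := Module.finBasis (ZMod p) V
  have hdim : Module.finrank (ZMod p) V = 2 * n := by
    have h1 : Nat.card V = p ^ Module.finrank (ZMod p) V := by
      rw [Module.natCard_eq_pow_finrank (K := ZMod p), Nat.card_zmod]
    have h2 := (Subgroup.center Q).card_eq_card_quotient_mul_card_subgroup
    rw [hn, hQ.2] at h2
    have h3 : Nat.card V = Nat.card (Q ⧸ Subgroup.center Q) := hcardV
    rw [← h3, h1, ← pow_succ] at h2
    have := Nat.pow_right_injective (Fact.out : p.Prime).two_le h2
    omega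
  have hnd : B.Nondegenerate := by
    have hl : ∀ v, (∀ w, B v w = 0) → v = 0 := by
      intro v hv
      obtain ⟨a, rfl⟩ := hπs v
      rw [← hπ1]
      refine (hπeq a 1).2 ?_
      rw [mul_one, inv_mem_iff, Subgroup.mem_center_iff]
      intro b
      have h0 := hv (π b)
      rw [hB] at h0
      have h1 : ((r ⟨⁅a, b⁆, D.comm a b⟩ : ℤ) : ZMod p) = ((0 : ℤ) : ZMod p) := by rw [Int.cast_zero]; exact h0
      rw [ZMod.intCast_eq_intCast_iff] at h1
      have h1 := (zpow_eq_zpow_iff_modEq (x := D.z) (m := r ⟨⁅a, b⁆, D.comm a b⟩) (n := 0)).2 (by rw [D.hz]; exact h1)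
      rw [hr, zpow_zero] at h1
      exact (commutatorElement_eq_one_iff_mul_comm.1 h1).symm
    refine ⟨hl, fun v hv => hl v fun w => ?_⟩
    obtain ⟨a, rfl⟩ := hπs v
    obtain ⟨b, rfl⟩ := hπs w
    have := hv (π b)
    rw [hB] at this ⊢
    rw [hswap, this, neg_zero]
  refine core n (by rw [Fintype.card_fin, hdim]) (LinearMap.toMatrix bas bas T) (LinearMap.BilinForm.toMatrix bas B)
    ((LinearMap.BilinForm.nondegenerate_iff_det_ne_zero bas).1 hnd) ?_ h hcop ?_ ?_
  · rw [← LinearMap.BilinForm.toMatrix_comp bas bas B T T]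
    congr 1
    refine LinearMap.BilinForm.ext fun v w => ?_
    obtain ⟨a, rfl⟩ := hπs v
    obtain ⟨b, rfl⟩ := hπs w
    rw [LinearMap.BilinForm.comp_apply, hT, hT, hB, hB, hcx]
  · rw [LinearMap.toMatrix_pow]
    have : T ^ h = 1 := by
      refine LinearMap.ext fun v => ?_
      obtain ⟨a, rfl⟩ := hπs v
      have e : ∀ k, (T ^ k) (π a) = π ((x ^ k) a) := by
        intro k
        induction k with
        | zero => rfl
        | succ k ih => rw [pow_succ', Module.End.mul_apply, ih, hT, pow_succ' x]; rfl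
      rw [e, hx]; rfl
    rw [this]; exact LinearMap.toMatrix_one bas
  · intro k hk hkh v hv
    rw [LinearMap.toMatrix_pow] at hv
    obtain ⟨w, hw⟩ : ∃ w : V, ⇑(bas.repr w) = v := ⟨bas.equivFun.symm v, bas.equivFun.apply_symm_apply v⟩
    rw [← hw, LinearMap.toMatrix_mulVec_repr] at hv
    have hfix' : (T ^ k) w = w := bas.repr.injective (DFunLike.coe_injective hv)
    obtain ⟨a, rfl⟩ := hπs w
    have e : ∀ k, (T ^ k) (π a) = π ((x ^ k) a) := by
      intro k
      induction k with
      | zero => rfl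
      | succ k ih => rw [pow_succ', Module.End.mul_apply, ih, hT, pow_succ' x]; rfl
    rw [e] at hfix'
    have hz := (hπeq _ _).1 hfix'.symm
    have hit : ∀ j : ℕ, ((x ^ k) ^ j) a = a * (a⁻¹ * (x ^ k) a) ^ j := by
      have hck : ∀ (i : ℕ), ∀ y ∈ Subgroup.center Q, (x ^ i) y = y := by
        intro i y hy
        induction i with
        | zero => rfl
        | succ i ih => rw [pow_succ', MulAut.mul_apply, ih, hcen y hy]
      intro j
      induction j with
      | zero => simp
      | succ j ih =>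
        rw [pow_succ', MulAut.mul_apply, ih, map_mul, hck k _ (Subgroup.pow_mem _ hz j), pow_succ' (a⁻¹ * (x ^ k) a),
          ← mul_assoc, mul_inv_cancel_left]
    have h1 := hit h
    rw [← pow_mul, mul_comm k h, pow_mul, hx, one_pow, MulAut.one_apply, left_eq_mul] at h1
    have hz' : a⁻¹ * (x ^ k) a ∈ zpowers D.z := hZ ▸ hz
    have ho : orderOf (a⁻¹ * (x ^ k) a) ∣ p := D.hz ▸ orderOf_dvd_of_mem_zpowers hz'
    have h1' : a⁻¹ * (x ^ k) a = 1 := orderOf_eq_one_iff.1
      (Nat.eq_one_of_dvd_coprimes hcop ho (orderOf_dvd_of_pow_eq_one h1))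
    have := hfix k hk hkh a (inv_mul_eq_one.1 h1').symm
    rw [← hw]
    have : π a = 0 := hπ1 ▸ (hπeq a 1).2 (by rw [mul_one]; exact inv_mem this)
    rw [this]; simp


theorem group_case {Q : Type*} [Group Q] [Finite Q] {p : ℕ} [Fact p.Prime] (hQ : Cfsg.IsExtraspecial p Q) (n : ℕ)
    (hn : Nat.card Q = p ^ (2 * n + 1)) (x : MulAut Q) (h : ℕ) [NeZero h] (hcop : p.Coprime h) (hx : x ^ h = 1)
    (hcen : ∀ z ∈ Subgroup.center Q, x z = z)
    (hfix : ∀ k, 0 < k → k < h → ∀ q, (x ^ k) q = q → q ∈ Subgroup.center Q) :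
    h ∣ p ^ n + 1 ∨ h ∣ p ^ n - 1 := by
  classical
  obtain ⟨D⟩ := Cfsg.Agent.Solv.ESClass.ES.exists_of hQ
  have hZ : Subgroup.center Q = zpowers D.z := le_antisymm
    (fun y hy => D.nd y (fun w => (Subgroup.mem_center_iff.1 hy w).symm))
    (zpowers_le.2 (Subgroup.mem_center_iff.2 fun w => (D.cent w).symm))
  have hab : ∀ a b : Q ⧸ Subgroup.center Q, a * b = b * a := by
    intro a b
    induction a using QuotientGroup.induction_on with
    | H a =>
      induction b using QuotientGroup.induction_on with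
      | H b =>
        rw [← QuotientGroup.mk_mul, ← QuotientGroup.mk_mul, QuotientGroup.eq, hZ]
        have := D.comm b⁻¹ a⁻¹
        rwa [show (a * b)⁻¹ * (b * a) = ⁅b⁻¹, a⁻¹⁆ by rw [commutatorElement_def]; group]
  letI : CommGroup (Q ⧸ Subgroup.center Q) := { (inferInstance : Group (Q ⧸ Subgroup.center Q)) with mul_comm := hab }
  letI : Module (ZMod p) (Additive (Q ⧸ Subgroup.center Q)) := AddCommGroup.zmodModule (n := p) (by
    intro v
    obtain ⟨q, hq⟩ := QuotientGroup.mk_surjective (Additive.toMul v)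
    apply Additive.toMul.injective
    show (Additive.toMul v) ^ p = 1
    rw [← hq, ← QuotientGroup.mk_pow, QuotientGroup.eq_one_iff, hZ]
    exact D.pw q)
  refine linear_case hQ n hn x h hcop hx hcen hfix D hZ (fun q => Additive.ofMul (QuotientGroup.mk q))
    (fun a b => rfl) rfl (fun v => ?_) (fun a b => QuotientGroup.eq) (Nat.card_congr Additive.toMul)
    (AddMonoidHom.toZModLinearMap p (MonoidHom.toAdditive
      (QuotientGroup.map (Subgroup.center Q) (Subgroup.center Q) x.toMonoidHom (fun y hy => by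
        rw [Subgroup.mem_comap]; show x y ∈ _; rw [hcen y hy]; exact hy)))) (fun a => rfl)
  obtain ⟨q, hq⟩ := QuotientGroup.mk_surjective (Additive.toMul v)
  exact ⟨q, congrArg Additive.ofMul hq⟩

/-- Let P be an extraspecial p-group of order p^(2n+1) and H a cyclic group of order h prime to p acting on P (inside a common finite group: H normalizes P) so that C_P(x) = Z(P) for every non-identity x ∈ H. Then h divides p^n + 1 or h divides p^n − 1. -/
theorem result {G : Type*} [Group G] [Finite G] {p : ℕ} [Fact p.Prime] (P H : Subgroup G) (hP : Cfsg.IsExtraspecial p ↥P) (n : ℕ) (hn : Nat.card P = p ^ (2 * n + 1)) (hH : IsCyclic H) (hcop : (Nat.card H).Coprime p) (hHP : H ≤ Subgroup.normalizer (P : Set G)) (hfix : ∀ x ∈ H, x ≠ 1 → P ⊓ Subgroup.centralizer {x} = (Subgroup.center ↥P).map P.subtype) : Nat.card H ∣ p ^ n + 1 ∨ Nat.card H ∣ p ^ n - 1 := by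
  obtain ⟨⟨x, hxgen⟩⟩ := hH
  set h := Nat.card H with hh
  haveI : NeZero h := ⟨Nat.card_pos.ne'⟩
  have hord : orderOf x = h := orderOf_eq_card_of_forall_mem_zpowers hxgen
  let c : ↥H →* MulAut ↥P := P.normalizerMonoidHom.comp (Subgroup.inclusion hHP)
  have hc : ∀ (y : ↥H) (q : ↥P), ((c y q : ↥P) : G) = (y : G) * (q : G) * (y : G)⁻¹ := fun y q => rfl
  refine group_case hP n hn (c x) h hcop.symm (by rw [← map_pow, ← hord, pow_orderOf_eq_one, map_one]) ?_ ?_
  · intro z hz
    by_cases hx1 : (x : G) = 1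
    · exact Subtype.ext (by rw [hc, hx1]; group)
    · have hm : (z : G) ∈ P ⊓ Subgroup.centralizer {(x : G)} := by
        rw [hfix _ x.2 hx1]; exact ⟨z, hz, rfl⟩
      refine Subtype.ext ?_
      rw [hc, mul_inv_eq_iff_eq_mul]
      exact (Subgroup.mem_centralizer_singleton_iff.1 hm.2).symm
  · intro k hk hkh q hq
    have hne : ((x ^ k : ↥H) : G) ≠ 1 := fun e => by
      have : orderOf x ∣ k := orderOf_dvd_of_pow_eq_one (Subtype.ext e)
      rw [hord] at this
      exact absurd (Nat.le_of_dvd hk this) (by omega)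
    have hm : (q : G) ∈ P ⊓ Subgroup.centralizer {((x ^ k : ↥H) : G)} := ⟨q.2, by
      show (q : G) ∈ Subgroup.centralizer _
      rw [Subgroup.mem_centralizer_singleton_iff]
      rw [← map_pow] at hq
      have := congrArg Subtype.val hq
      rw [hc, mul_inv_eq_iff_eq_mul] at this
      exact this.symm⟩
    rw [hfix _ (x ^ k).2 hne] at hm
    obtain ⟨z, hz, he⟩ := hm
    rwa [show q = z from Subtype.ext he.symm]

end Cfsg.Agent.S3767
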