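import Cfsg.Statements.S3768
import Cfsg.Agent.Lib.Struct.Frobenius
import Cfsg.Agent.Lib.Perm.Frobenius

set_option autoImplicit false
open Cfsg
open Cfsg.Agent.Struct
namespace Cfsg.Agent.S3768

/-- Let G be a finite Frobenius group with Frobenius complement R and Frobenius kernel K (the identity together with the elements in no conjugate of R), and let N be a normal subgroup of G not containing K. Then G/N is a Frobenius group with Frobenius complement RN/N whose Frobenius kernel is the image of K. -/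
theorem result {G : Type*} [Group G] [Finite G] (R : Subgroup G) (hR : Cfsg.IsFrobeniusComplement R) (N : Subgroup G) [N.Normal] (hKN : ¬ Cfsg.frobeniusKernel R ⊆ N) : Cfsg.IsFrobeniusComplement (R.map (QuotientGroup.mk' N)) ∧ Cfsg.frobeniusKernel (R.map (QuotientGroup.mk' N)) = QuotientGroup.mk' N '' Cfsg.frobeniusKernel R := by
  obtain ⟨K, hKset, hKn, hc⟩ := Frobenius.exists_kernel hR
  haveI := hKn
  rw [← hKset] at hKN ⊢
  have hnle : ¬ K ≤ N := hKN
  -- the comparability: a normal subgroup meeting a conjugate of the complement contains the kernel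
  have hNK : N ≤ K := by
    intro y hy
    by_contra hyN
    rw [← SetLike.mem_coe, hKset, Frobenius.notMem_kernel] at hyN
    obtain ⟨hy1, g, hg⟩ := hyN
    set h := g⁻¹ * y * g with hh
    have hhN : h ∈ N := by simpa [hh] using Subgroup.Normal.conj_mem inferInstance y hy g⁻¹
    have hh1 : h ≠ 1 := fun e => hy1 (by
      calc y = g * h * g⁻¹ := by rw [hh]; group
        _ = 1 := by rw [e]; group)
    refine hnle fun k hk => ?_
    let f : K → K := fun x => ⟨(x : G)⁻¹ * (h * x * h⁻¹), mul_mem (inv_mem x.2) (hKn.conj_mem _ x.2 h)⟩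
    have hf : Function.Surjective f := by
      refine Finite.surjective_of_injective fun a b e => ?_
      have e : (a : G)⁻¹ * (h * a * h⁻¹) = (b : G)⁻¹ * (h * b * h⁻¹) := congrArg Subtype.val e
      have h1 : (b : G) * (a : G)⁻¹ = 1 :=
        Frobenius.fpf_of_complement hR hc.disjoint hg hh1 (mul_mem b.2 (inv_mem a.2)) (by
          calc (b : G) * (a : G)⁻¹ * h = (b : G) * ((a : G)⁻¹ * (h * a * h⁻¹)) * h * (a : G)⁻¹ := by group
            _ = (b : G) * ((b : G)⁻¹ * (h * b * h⁻¹)) * h * (a : G)⁻¹ := by rw [e]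
            _ = h * ((b : G) * (a : G)⁻¹) := by group)
      exact Subtype.ext (mul_inv_eq_one.1 h1).symm
    obtain ⟨x, hx⟩ := hf ⟨k, hk⟩
    have e : (x : G)⁻¹ * (h * x * h⁻¹) = k := congrArg Subtype.val hx
    rw [← e, ← mul_assoc, ← mul_assoc]
    refine mul_mem ?_ (inv_mem hhN)
    simpa using Subgroup.Normal.conj_mem (inferInstance : N.Normal) h hhN (x : G)⁻¹
  let π := QuotientGroup.mk' N
  haveI : (K.map π).Normal := hKn.map _ (QuotientGroup.mk'_surjective N)
  have hsup : K.map π ⊔ R.map π = ⊤ := by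
    rw [← Subgroup.map_sup, hc.sup_eq_top, Subgroup.map_top_of_surjective _ (QuotientGroup.mk'_surjective N)]
  have hRne : R.map π ≠ ⊥ := by
    intro e
    obtain ⟨r, hr, hr1⟩ := (Subgroup.bot_or_exists_ne_one R).resolve_left hR.1
    have hrN : r ∈ N := (QuotientGroup.eq_one_iff r).1 (Subgroup.mem_bot.1 (e ▸ Subgroup.mem_map_of_mem π hr))
    exact hr1 (Subgroup.disjoint_def.1 hc.disjoint (hNK hrN) hr)
  have hKne : K.map π ≠ ⊥ := fun e => hnle fun k hk =>
    (QuotientGroup.eq_one_iff k).1 (Subgroup.mem_bot.1 (e ▸ Subgroup.mem_map_of_mem π hk))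
  have hfpf : ∀ h ∈ R.map π, ∀ n ∈ K.map π, Commute h n → h = 1 ∨ n = 1 := by
    rintro _ ⟨r, hr, rfl⟩ _ ⟨k, hk, rfl⟩ hcm
    by_cases hr1 : r = 1
    · exact Or.inl (by rw [hr1, map_one])
    refine Or.inr ((QuotientGroup.eq_one_iff k).2 ?_)
    let f : N → N := fun x => ⟨(x : G)⁻¹ * (r * x * r⁻¹),
      mul_mem (inv_mem x.2) (Subgroup.Normal.conj_mem inferInstance _ x.2 r)⟩
    have hinj : ∀ a ∈ K, ∀ b ∈ K, (a : G)⁻¹ * (r * a * r⁻¹) = b⁻¹ * (r * b * r⁻¹) → a = b := by
      intro a ha b hb e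
      have h1 : b * a⁻¹ = 1 :=
        Frobenius.fpf_of_complement hR hc.disjoint hr hr1 (mul_mem hb (inv_mem ha)) (by
          calc b * a⁻¹ * r = b * (a⁻¹ * (r * a * r⁻¹)) * r * a⁻¹ := by group
            _ = b * (b⁻¹ * (r * b * r⁻¹)) * r * a⁻¹ := by rw [e]
            _ = r * (b * a⁻¹) := by group)
      exact (mul_inv_eq_one.1 h1).symm
    have hf : Function.Surjective f := Finite.surjective_of_injective fun a b e =>
      Subtype.ext (hinj a (hNK a.2) b (hNK b.2) (congrArg Subtype.val e))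
    have hmem : k⁻¹ * (r * k * r⁻¹) ∈ N := by
      refine (QuotientGroup.eq_one_iff _).1 ?_
      show π (k⁻¹ * (r * k * r⁻¹)) = 1
      rw [map_mul, map_mul, map_mul, map_inv, map_inv, hcm.eq]
      group
    obtain ⟨x, hx⟩ := hf ⟨_, hmem⟩
    have : (x : G) = k := hinj x (hNK x.2) k hk (congrArg Subtype.val hx)
    exact this ▸ x.2
  obtain ⟨h1, h2⟩ := Cfsg.Agent.Perm.isFrobeniusComplement_of_fpf (K.map π) (R.map π) hsup hKne hRne hfpf
  exact ⟨h1, by rw [h2]; rfl⟩

end Cfsg.Agent.S3768
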