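import Cfsg.Statements.S3769
import Cfsg.Agent.Lib.Struct.HallHigmanBridge
import Cfsg.Agent.Lib.Solv.Basic
import Cfsg.Agent.Lib.Solv.Coprime

set_option autoImplicit false
open Cfsg
open scoped commutatorElement

namespace Cfsg.Agent.S3769

/-- Let G and V be subgroups of a finite group with G solvable of odd order normalizing V, V an elementary abelian ℓ-group for a prime ℓ not dividing the order of G, and suppose G has a normal Hall subgroup K with a complement R of prime order. If C_V(R) = 1, then [R, K] centralizes V. -/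
theorem result {X : Type*} [Group X] [Finite X] (G : Subgroup X) (hsolv : Group.IsSolvable G) (hodd : Odd (Nat.card G)) (V : Subgroup X) {ℓ : ℕ} (hℓ : ℓ.Prime) (hV : Cfsg.IsElementaryAbelian ℓ V) (hℓG : ¬ ℓ ∣ Nat.card G) (hGV : G ≤ Subgroup.normalizer (V : Set X)) (K R : Subgroup X) (hKG : K ≤ G) (hKn : G ≤ Subgroup.normalizer (K : Set X)) (hHall : (Nat.card K).Coprime (K.relIndex G)) (hRG : R ≤ G) (hR : (Nat.card R).Prime) (hKR : K ⊓ R = ⊥) (hKRG : K ⊔ R = G) (hCV : V ⊓ Subgroup.centralizer (R : Set X) = ⊥) : ⁅R, K⁆ ≤ Subgroup.centralizer (V : Set X) := by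
  classical
  haveI := Fact.mk hR
  let r := Nat.card R
  have hKsolv : Group.IsSolvable K := Cfsg.Agent.Solv.isSolvable_of_le hKG hsolv
  have hcardG : Nat.card G = Nat.card K * r := by
    have := Cfsg.Agent.Solv.card_sup_mul_card_inf K R (hRG.trans hKn)
    rwa [hKR, Subgroup.card_bot, mul_one, hKRG] at this
  have hrel : K.relIndex G = r := by
    have h1 : Nat.card K * K.relIndex G = Nat.card G := by
      rw [← Subgroup.card_mul_index (K.subgroupOf G), Nat.card_congr (Subgroup.subgroupOfEquivOfLe hKG).toEquiv]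
      rfl
    rw [hcardG] at h1
    exact Nat.eq_of_mul_eq_mul_left Nat.card_pos h1
  have hcop : (Nat.card R).Coprime (Nat.card K) := (hrel ▸ hHall).symm
  haveI : IsCyclic R := isCyclic_of_prime_card (p := r) rfl
  obtain ⟨⟨x, hxR⟩, hxgen⟩ := IsCyclic.exists_generator (α := R)
  have hgen : ∀ y ∈ R, ∃ i : ℕ, x ^ i = y := by
    intro y hy
    obtain ⟨i, -, hi⟩ : ∃ i, i < orderOf (⟨x, hxR⟩ : R) ∧ (⟨x, hxR⟩ : R) ^ i = ⟨y, hy⟩ := by
      simpa using (mem_zpowers_iff_mem_range_orderOf).1 (hxgen ⟨y, hy⟩)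
    exact ⟨i, by simpa using congrArg Subtype.val hi⟩
  have hx : x ^ r = 1 := by
    exact (SubgroupClass.coe_pow (⟨x, hxR⟩ : R) r).symm.trans (congrArg Subtype.val pow_card_eq_one')
  have hRK : R ≤ Subgroup.normalizer (K : Set X) := hRG.trans hKn
  have hxK : ∀ a ∈ K, x * a * x⁻¹ ∈ K := fun a ha => (Subgroup.mem_normalizer_iff.1 (hRK hxR) a).1 ha
  have hCn : ∀ g ∈ G, ∀ c ∈ Subgroup.centralizer (V : Set X),
      g * c * g⁻¹ ∈ Subgroup.centralizer (V : Set X) := by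
    intro g hg c hc v hv
    have hv' : g⁻¹ * v * g ∈ V := (Subgroup.mem_normalizer_iff''.1 (hGV hg) v).1 hv
    have := hc _ hv'
    calc v * (g * c * g⁻¹) = g * ((g⁻¹ * v * g) * c) * g⁻¹ := by group
      _ = g * c * g⁻¹ * v := by rw [this]; group
  let S : Subgroup X :=
    { carrier := {a | a ∈ K ∧ a⁻¹ * (x * a * x⁻¹) ∈ Subgroup.centralizer (V : Set X)}
      one_mem' := ⟨one_mem K, by simp⟩
      mul_mem' := fun {a b} ha hb => ⟨mul_mem ha.1 hb.1, by
        rw [show (a * b)⁻¹ * (x * (a * b) * x⁻¹) =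
          (b⁻¹ * (a⁻¹ * (x * a * x⁻¹)) * b⁻¹⁻¹) * (b⁻¹ * (x * b * x⁻¹)) by group]
        exact mul_mem (hCn _ (inv_mem (hKG hb.1)) _ ha.2) hb.2⟩
      inv_mem' := fun {a} ha => ⟨inv_mem ha.1, by
        rw [show a⁻¹⁻¹ * (x * a⁻¹ * x⁻¹) = a * (a⁻¹ * (x * a * x⁻¹))⁻¹ * a⁻¹ by group]
        exact hCn _ (hKG ha.1) _ (inv_mem ha.2)⟩ }
  have hsyl : ∀ q : ℕ, q.Prime → q ∣ Nat.card K → ∃ P : Sylow q K, (P : Subgroup K).map K.subtype ≤ S := by
    intro q hq hqK
    haveI := Fact.mk hq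
    obtain ⟨P, hP⟩ := Cfsg.Agent.Solv.exists_invariant_sylow R K hRK hcop (Or.inr hKsolv) q
    refine ⟨P, fun a ha => ⟨Subgroup.map_subtype_le _ ha, ?_⟩⟩
    have hPK : (P : Subgroup K).map K.subtype ≤ K := Subgroup.map_subtype_le _
    by_contra hna
    have hq2 : q ≠ 2 := fun h => (Nat.not_even_iff_odd.2 hodd) (even_iff_two_dvd.2
      (h ▸ hqK.trans (Subgroup.card_dvd_of_le hKG)))
    refine hq2 (Cfsg.Agent.Struct.HallHigman.prime_order_conj hℓ hq hR
      (fun h => hℓG (h ▸ hqK.trans (Subgroup.card_dvd_of_le hKG)))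
      (fun h => hℓG (h ▸ Subgroup.card_dvd_of_le hRG))
      (fun h => hR.one_lt.ne' (Nat.eq_one_of_dvd_coprimes hcop dvd_rfl (h ▸ hqK)))
      (fun a ha b hb => by
        haveI := hV.1
        exact congrArg Subtype.val (mul_comm' (⟨a, ha⟩ : V) ⟨b, hb⟩))
      hV.2 (P.isPGroup'.map K.subtype) hx ((hPK.trans hKG).trans hGV) (hGV (hRG hxR))
      (fun b hb => (Subgroup.mem_normalizer_iff.1 (hP hxR) b).1 hb) (fun v hv hxv => ?_) ⟨a, ha, ?_⟩).1
    · refine Subgroup.mem_bot.1 (hCV ▸ Subgroup.mem_inf.2 ⟨hv, fun y hy => ?_⟩)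
      obtain ⟨i, rfl⟩ := hgen y hy
      exact (Commute.pow_left hxv i).eq
    · by_contra hcon
      push Not at hcon
      refine hna fun v hv => ?_
      have e := hcon v hv
      calc v * (a⁻¹ * (x * a * x⁻¹)) = a⁻¹ * (a * v * a⁻¹) * (x * a * x⁻¹) := by group
        _ = a⁻¹ * (x * a * x⁻¹) * v := by rw [← e]; group
  have hKS : K ≤ S := by
    suffices h : (S.subgroupOf K).index = 1 by
      intro a ha
      exact (Subgroup.index_eq_one.1 h ▸ Subgroup.mem_top (⟨a, ha⟩ : K) : (⟨a, ha⟩ : K) ∈ S.subgroupOf K)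
    by_contra hne
    obtain ⟨q, hq, hd⟩ := Nat.exists_prime_and_dvd hne
    haveI := Fact.mk hq
    obtain ⟨P, hP⟩ := hsyl q hq (hd.trans (Subgroup.index_dvd_card _))
    exact P.not_dvd_index (hd.trans (Subgroup.index_dvd_of_le (Subgroup.map_le_iff_le_comap.1 hP)))
  rw [Subgroup.commutator_le]
  intro y hy k hk
  obtain ⟨i, rfl⟩ := hgen y hy
  clear hy
  induction i generalizing k with
  | zero => simp
  | succ i ih =>
    have h2 := ih k hk
    have hk' : x ^ i * k * (x ^ i)⁻¹ ∈ K :=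
      (Subgroup.mem_normalizer_iff.1 (hRK (pow_mem hxR i)) k).1 hk
    obtain ⟨k', hk'e⟩ : ∃ k', k' = x ^ i * k * (x ^ i)⁻¹ := ⟨_, rfl⟩
    rw [← hk'e] at hk'
    have h3 : x * k' * x⁻¹ * k'⁻¹ ∈ Subgroup.centralizer (V : Set X) := by
      rw [show x * k' * x⁻¹ * k'⁻¹ = k' * (k'⁻¹ * (x * k' * x⁻¹)) * k'⁻¹ by group]
      exact hCn _ (hKG hk') _ (hKS hk').2
    rw [show ⁅x ^ (i + 1), k⁆ = (x * k' * x⁻¹ * k'⁻¹) * ⁅x ^ i, k⁆ by
      rw [hk'e, commutatorElement_def, commutatorElement_def, pow_succ']; group]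
    exact mul_mem h3 h2

end Cfsg.Agent.S3769
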