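import Cfsg.Statements.S3770
import Cfsg.Agent.Lib.Struct.FrobFixed
import Cfsg.Agent.Lib.Struct.Frobenius
import Cfsg.Agent.Lib.Solv.AbelianAction

set_option autoImplicit false
open Cfsg

namespace Cfsg.Agent.S3770

/-- Let G and V be subgroups of a finite group with G a Frobenius group with complement R of prime order and kernel K, G normalizing V, and V an elementary abelian ℓ-group for a prime ℓ not dividing the order of G. If C_V(R) has order ℓ, then the derived subgroup of K centralizes V. -/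
theorem result {X : Type*} [Group X] [Finite X] (G : Subgroup X) (V : Subgroup X) {ℓ : ℕ} (hℓ : ℓ.Prime) (hV : Cfsg.IsElementaryAbelian ℓ V) (hℓG : ¬ ℓ ∣ Nat.card G) (hGV : G ≤ Subgroup.normalizer (V : Set X)) (R : Subgroup ↥G) (hR : Cfsg.IsFrobeniusComplement R) (hRp : (Nat.card R).Prime) (hCV : Nat.card ↥(V ⊓ Subgroup.centralizer ((R.map G.subtype : Subgroup X) : Set X)) = ℓ) : ⁅Subgroup.closure (Subtype.val '' Cfsg.frobeniusKernel R), Subgroup.closure (Subtype.val '' Cfsg.frobeniusKernel R)⁆ ≤ Subgroup.centralizer (V : Set X) := by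
  obtain ⟨N, hN, hNn, hNc⟩ := Cfsg.Agent.Struct.Frobenius.exists_kernel hR
  haveI : Fact ℓ.Prime := ⟨hℓ⟩
  haveI : IsMulCommutative V := hV.1
  set K := N.map G.subtype with hK
  have hcl : Subgroup.closure (Subtype.val '' Cfsg.frobeniusKernel R) = K := by
    rw [← hN]
    exact Subgroup.closure_eq K
  rw [hcl]
  set R' := R.map G.subtype with hR'
  have hKG : K ≤ G := Subgroup.map_subtype_le N
  have hRG : R' ≤ G := Subgroup.map_subtype_le R
  have hKV : K ≤ Subgroup.normalizer (V : Set X) := hKG.trans hGV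
  set W := ⁅V, K⁆ with hW
  have hWV : W ≤ V := Cfsg.Agent.Solv.commutator_normalizer_le K V hKV
  have hcopG : (Nat.card G).Coprime (Nat.card V) := by
    obtain ⟨i, hi⟩ := (IsPGroup.iff_card (p := ℓ) (G := V)).1 (fun v => ⟨1, Subtype.ext (by
      rw [pow_one]; exact hV.2 v v.2)⟩)
    rw [hi]
    exact (Nat.Coprime.symm ((hℓ.coprime_iff_not_dvd).2 hℓG)).pow_right i
  have hcop : (Nat.card K).Coprime (Nat.card V) := Nat.Coprime.coprime_dvd_left (Subgroup.card_dvd_of_le hKG) hcopG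
  have hdis : Disjoint N R := hNc.disjoint
  have hKR : K ⊓ R' = ⊥ := by
    rw [hK, hR', ← Subgroup.map_inf N R G.subtype G.subtype_injective, disjoint_iff.1 hdis, Subgroup.map_bot]
  have hRK : ∀ e ∈ R', ∀ y ∈ K, e * y * e⁻¹ ∈ K := by
    rintro _ ⟨e, -, rfl⟩ _ ⟨y, hy, rfl⟩
    exact ⟨e * y * e⁻¹, hNn.conj_mem y hy e, rfl⟩
  have hfpf : ∀ e ∈ R', e ≠ 1 → ∀ y ∈ K, e * y = y * e → y = 1 := by
    rintro _ ⟨e, he, rfl⟩ he1 _ ⟨y, hy, rfl⟩ h
    rw [Cfsg.Agent.Struct.Frobenius.fpf_of_complement hR hdis he (fun h' => he1 (by rw [h', map_one])) hy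
      (G.subtype_injective (by rw [map_mul, map_mul]; exact h.symm)), map_one]
  have hWn : ∀ x ∈ K ⊔ R', ∀ h ∈ W, x * h * x⁻¹ ∈ W := by
    intro x hx h hh
    have hxG : x ∈ G := sup_le hKG hRG hx
    have hKn : x ∈ Subgroup.normalizer (K : Set X) := by
      rw [Subgroup.mem_normalizer_iff]
      intro y
      constructor
      · rintro ⟨z, hz, rfl⟩
        exact ⟨⟨x, hxG⟩ * z * ⟨x, hxG⟩⁻¹, hNn.conj_mem z hz _, rfl⟩
      · rintro ⟨z, hz, hzy⟩
        refine ⟨⟨x, hxG⟩⁻¹ * z * ⟨x, hxG⟩, by simpa using hNn.conj_mem z hz (⟨x, hxG⟩⁻¹), ?_⟩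
        show x⁻¹ * (z : X) * x = y
        rw [show (z : X) = x * y * x⁻¹ from hzy]; group
    have hmap : W.map (MulAut.conj x : X →* X) = W := by
      rw [hW, Subgroup.map_commutator, Subgroup.mem_normalizer_iff_map_conj_eq.1 (hGV hxG),
        Subgroup.mem_normalizer_iff_map_conj_eq.1 hKn]
    rw [← hmap]
    exact ⟨h, hh, rfl⟩
  have hWcop : Nat.Coprime (Nat.card W) (Nat.card ↥(K ⊔ R')) :=
    (Nat.Coprime.coprime_dvd_left (Subgroup.card_dvd_of_le (sup_le hKG hRG)) hcopG).symm.coprime_dvd_left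
      (Subgroup.card_dvd_of_le hWV)
  haveI : IsMulCommutative W := ⟨⟨fun a b => Subtype.ext (by
    show (a : X) * b = b * a
    exact congrArg Subtype.val (mul_comm' (⟨a, hWV a.2⟩ : V) ⟨b, hWV b.2⟩))⟩⟩
  letI : CommGroup W := { (inferInstance : Group W) with mul_comm := fun a b => mul_comm' a b }
  have hsolv : Group.IsSolvable W := inferInstance
  have hcent := (Cfsg.Agent.Struct.FrobFixed.group_formula K R' hKR hRK hfpf (Nat.card W) W le_rfl hWn hsolv hWcop).2
    (Cfsg.Agent.Solv.commutator_inf_centralizer_eq_bot K V hKV hcop) (by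
      haveI : IsCyclic ↥(V ⊓ Subgroup.centralizer (R' : Set X)) := isCyclic_of_prime_card hCV
      exact isCyclic_of_injective (Subgroup.inclusion (inf_le_inf_right _ hWV)) (Subgroup.inclusion_injective _))
  intro y hy
  rw [Subgroup.mem_centralizer_iff]
  intro v hv
  obtain ⟨w, hw, c, ⟨-, hc⟩, rfl⟩ := Cfsg.Agent.Solv.exists_commutator_mul_centralizer K V hKV hcop
    (Or.inr (by
      letI : CommGroup V := { (inferInstance : Group V) with mul_comm := fun a b => mul_comm' a b }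
      infer_instance)) hv
  have h1 := Subgroup.mem_centralizer_iff.1 (hcent hy) w hw
  have h2 : y * c = c * y := Subgroup.mem_centralizer_iff.1 hc y (Subgroup.commutator_le_self K hy)
  rw [mul_assoc, ← h2, ← mul_assoc, h1, mul_assoc]

end Cfsg.Agent.S3770
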