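import Cfsg.Statements.S3771
import Cfsg.Agent.Lib.Solv.ClassThree

set_option autoImplicit false
open Cfsg

namespace Cfsg.Agent.S3771

/-- Let p be a prime and R a finite p-group of p-rank at most 2 (no elementary abelian subgroup of order p³) in which every element has order dividing p. Then R has order at most p³. -/
theorem result {R : Type*} [Group R] [Finite R] {p : ℕ} [Fact p.Prime] (hR : IsPGroup p R) (hrank : Cfsg.PRankLE p 2 R) (hexp : ∀ x : R, x ^ p = 1) : Nat.card R ≤ p ^ 3 := by
  rcases eq_or_ne p 2 with rfl | hp2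
  · have hc : ∀ a b : R, a * b = b * a := fun a b => by
      have h1 : ∀ x : R, x⁻¹ = x := fun x => inv_eq_of_mul_eq_one_right (by rw [← pow_two]; exact hexp x)
      calc a * b = (a * b)⁻¹ := (h1 _).symm
        _ = b * a := by rw [mul_inv_rev, h1, h1]
    have h := hrank ⊤ ⟨⟨fun a b => Subtype.ext (hc a b)⟩⟩ fun a _ => hexp a
    rw [Subgroup.card_top] at h
    exact h.trans (Nat.pow_le_pow_right (by norm_num) (by norm_num))
  · exact Cfsg.Agent.Solv.ClassThree.card_le_of_exponent hp2 hexp fun E hE => hrank E hE.1 hE.2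

end Cfsg.Agent.S3771
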