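import Cfsg.Statements.S3772
import Mathlib
import Cfsg.Agent.Lib.Struct.CoprimeMinimal

set_option autoImplicit false
open Cfsg
open Subgroup
open scoped commutatorElement

namespace Cfsg.Agent.S3772

/-- Let G be a finite 2-group whose Frattini subgroup Φ(G) has order 2, with |G : Φ(G)| = 2^d, and let j be the number of elements x of G with x² = 1. Then j = 2^d, or j = 2^d + 2^(d−r) or j = 2^d − 2^(d−r) for some positive integer r with 2r ≤ d. Moreover if d = 2r and j is 2^d + 2^r or 2^d − 2^r, then G is extraspecial. -/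
theorem result {G : Type*} [Group G] [Finite G] (hG : IsPGroup 2 G) (hΦ : Nat.card (frattini G) = 2) (d : ℕ) (hd : (frattini G).index = 2 ^ d) : (Nat.card {x : G // x ^ 2 = 1} = 2 ^ d ∨ ∃ r : ℕ, 1 ≤ r ∧ 2 * r ≤ d ∧ (Nat.card {x : G // x ^ 2 = 1} = 2 ^ d + 2 ^ (d - r) ∨ Nat.card {x : G // x ^ 2 = 1} + 2 ^ (d - r) = 2 ^ d)) ∧ (∀ r : ℕ, d = 2 * r → (Nat.card {x : G // x ^ 2 = 1} = 2 ^ d + 2 ^ r ∨ Nat.card {x : G // x ^ 2 = 1} + 2 ^ r = 2 ^ d) → Cfsg.IsExtraspecial 2 G) := by
  classical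
  haveI := Fact.mk Nat.prime_two
  haveI : Fintype G := Fintype.ofFinite G
  set Φ := frattini G
  haveI : Φ.Characteristic := frattini_characteristic
  have hsq : ∀ a : G, a * a ∈ Φ := fun a => by
    rw [← pow_two]; exact Cfsg.Agent.Struct.CoprimeMinimal.pow_mem_frattini hG a
  have hcm : ∀ a b : G, a⁻¹ * b * a * b⁻¹ ∈ Φ := fun a b => by
    rw [show a⁻¹ * b * a * b⁻¹ = (a⁻¹ * a⁻¹) * ((a * b) * (a * b)) * (b⁻¹ * b⁻¹) by group]
    exact mul_mem (mul_mem (hsq _) (hsq _)) (hsq _)
  obtain ⟨z, hz1, hzΦ⟩ : ∃ z : G, z ≠ 1 ∧ ∀ w, w ∈ Φ ↔ w = 1 ∨ w = z := by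
    haveI : Nontrivial Φ := Finite.one_lt_card_iff_nontrivial.1 (by omega)
    obtain ⟨⟨z, hz⟩, hz1⟩ := exists_ne (1 : Φ)
    refine ⟨z, fun e => hz1 (Subtype.ext e), fun w => ⟨fun hw => ?_, ?_⟩⟩
    · obtain ⟨x, y, hxy, hu⟩ := Nat.card_eq_two_iff.1 hΦ
      have h1 : (⟨w, hw⟩ : Φ) ∈ ({x, y} : Set Φ) := hu ▸ trivial
      have h2 : (1 : Φ) ∈ ({x, y} : Set Φ) := hu ▸ trivial
      have h3 : (⟨z, hz⟩ : Φ) ∈ ({x, y} : Set Φ) := hu ▸ trivial
      rcases h1 with h1 | h1 <;> rcases h2 with h2 | h2 <;> rcases h3 with h3 | h3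
      all_goals first
        | exact Or.inl (congrArg Subtype.val (h1.trans h2.symm))
        | exact Or.inr (congrArg Subtype.val (h1.trans h3.symm))
        | exact absurd (h3.trans h2.symm) hz1
    · rintro (rfl | rfl)
      · exact one_mem _
      · exact hz
  have hzc : ∀ g : G, g * z = z * g := fun g => by
    rcases (hzΦ _).1 (Normal.conj_mem (inferInstanceAs Φ.Normal) z ((hzΦ z).2 (Or.inr rfl)) g) with h | h
    · exact absurd (conj_eq_one_iff.1 h) hz1
    · exact mul_inv_eq_iff_eq_mul.1 h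
  have hzz : z * z = 1 := by
    rcases (hzΦ _).1 (mul_mem ((hzΦ z).2 (Or.inr rfl)) ((hzΦ z).2 (Or.inr rfl))) with h | h
    · exact h
    · exact absurd (mul_eq_left.1 h) hz1
  have hΦc : ∀ u ∈ Φ, ∀ g : G, g * u = u * g := fun u hu g => by
    rcases (hzΦ u).1 hu with rfl | rfl
    · simp
    · exact hzc g
  let ε : G → ℤ := fun g => if g * g = 1 then 1 else -1
  let χ : G → G → ℤ := fun g h => if g⁻¹ * h * g * h⁻¹ = 1 then 1 else -1
  have hs : ∀ u ∈ Φ, ∀ v ∈ Φ, (if u * v = 1 then (1 : ℤ) else -1) =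
      (if u = 1 then 1 else -1) * (if v = 1 then 1 else -1) := by
    intro u hu v hv
    rcases (hzΦ u).1 hu with rfl | rfl <;> rcases (hzΦ v).1 hv with rfl | rfl <;> simp [hz1, hzz]
  have hε : ∀ g h : G, ε (g * h) = ε g * ε h * χ g h := fun g h => by
    have e : g * h * (g * h) = g * g * (h * h * (g⁻¹ * h * g * h⁻¹)) := by
      calc g * h * (g * h) = g * g * ((g⁻¹ * h * g * h⁻¹) * (h * h)) := by group
        _ = _ := by rw [hΦc _ (hcm g h) (h * h)]
    show (if _ then _ else _) = _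
    rw [e, hs _ (hsq g) _ (mul_mem (hsq h) (hcm g h)), hs _ (hsq h) _ (hcm g h)]
    exact (mul_assoc _ _ _).symm
  have hχ : ∀ a b h : G, χ (a * b) h = χ a h * χ b h := fun a b h => by
    show (if _ then _ else _) = _
    rw [show (a * b)⁻¹ * h * (a * b) * h⁻¹ = (a⁻¹ * h * a * h⁻¹) * (b⁻¹ * h * b * h⁻¹) by
      calc (a * b)⁻¹ * h * (a * b) * h⁻¹ = b⁻¹ * (a⁻¹ * h * a * h⁻¹) * h * b * h⁻¹ := by group
        _ = _ := by rw [hΦc _ (hcm a h) b⁻¹]; group, hs _ (hcm a h) _ (hcm b h)]
  have hχ0 : ∀ g h, χ g h = 1 ↔ g * h = h * g := fun g h => by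
    show (if _ then (1 : ℤ) else -1) = 1 ↔ _
    constructor
    · intro hh
      split_ifs at hh with h1
      calc g * h = g * (g⁻¹ * h * g * h⁻¹) * h := by rw [h1, mul_one]
        _ = h * g := by group
    · intro hh
      rw [if_pos (by rw [mul_assoc g⁻¹, ← hh]; group)]
  set Z := center G
  set S := ∑ g : G, ε g with hSd
  -- orthogonality
  have hcol : ∀ h : G, ∑ g : G, χ g h = if h ∈ Z then (Fintype.card G : ℤ) else 0 := fun h => by
    split_ifs with hh
    · rw [Finset.sum_congr rfl fun g _ => (hχ0 g h).2 (mem_center_iff.1 hh g)]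
      simp
    · obtain ⟨g₀, hg₀⟩ := not_forall.1 (fun hf => hh (mem_center_iff.2 hf))
      have hneg : χ g₀ h = -1 := by
        show (if _ then _ else _) = _
        rw [if_neg]
        intro h1
        exact hg₀ ((hχ0 _ _).1 (if_pos h1))
      have e := Equiv.sum_comp (Equiv.mulLeft g₀) (fun g => χ g h)
      simp only [Equiv.coe_mulLeft, hχ, hneg, neg_mul, one_mul, Finset.sum_neg_distrib] at e
      omega
  have hS2 : S * S = (Fintype.card G : ℤ) * ∑ h ∈ Finset.univ.filter (· ∈ Z), ε h := by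
    calc S * S = ∑ g : G, ∑ h : G, ε g * ε (g * h) := by
          rw [hSd, Finset.sum_mul_sum]
          refine Finset.sum_congr rfl fun g _ => ?_
          exact (Equiv.sum_comp (Equiv.mulLeft g) (fun k => ε g * ε k)).symm
      _ = ∑ h : G, ε h * ∑ g : G, χ g h := by
          rw [Finset.sum_comm]
          refine Finset.sum_congr rfl fun h _ => ?_
          rw [Finset.mul_sum]
          refine Finset.sum_congr rfl fun g _ => ?_
          rw [hε, ← mul_assoc, ← mul_assoc, show ε g * ε g = 1 by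
            simp only [ε]
            split_ifs <;> norm_num, one_mul]
      _ = _ := by
          rw [Finset.mul_sum, Finset.sum_filter]
          refine Finset.sum_congr rfl fun h _ => ?_
          rw [hcol]
          split_ifs <;> ring
  have hZsum : (∑ h ∈ Finset.univ.filter (· ∈ Z), ε h) = 0 ∨
      ((∑ h ∈ Finset.univ.filter (· ∈ Z), ε h) = Nat.card Z ∧ ∀ h ∈ Z, h * h = 1) := by
    rw [Finset.sum_subtype (s := Finset.univ.filter (· ∈ Z)) (p := (· ∈ Z)) (fun x => by simp) ε]
    by_cases hall : ∀ h ∈ Z, h * h = 1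
    · refine Or.inr ⟨?_, hall⟩
      rw [Finset.sum_congr rfl fun (h : Z) _ => show ε h = 1 from if_pos (hall h h.2)]
      simp [Nat.card_eq_fintype_card]
    · push Not at hall
      obtain ⟨h₀, hh₀, hne⟩ := hall
      refine Or.inl ?_
      have hneg : ∀ h : Z, ε (h₀ * h) = - ε h := fun h => by
        rw [hε, show ε h₀ = -1 from if_neg hne, (hχ0 _ _).2 (mem_center_iff.1 h.2 h₀)]; ring
      have e := Equiv.sum_comp (Equiv.mulLeft (⟨h₀, hh₀⟩ : Z)) (fun h : Z => ε h)
      simp only [Equiv.coe_mulLeft, Subgroup.coe_mul, hneg, Finset.sum_neg_distrib] at e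
      omega
  have hn : Nat.card G = 2 ^ (d + 1) := by
    rw [← card_mul_index Φ, hd, hΦ, pow_succ, mul_comm]
  have hΦZ : Φ ≤ Z := fun u hu => mem_center_iff.2 (hΦc u hu)
  obtain ⟨c, hc⟩ := (hG.to_subgroup Z).exists_card_eq
  have hc1 : 1 ≤ c := by
    rcases Nat.eq_zero_or_pos c with rfl | h
    · have := Subgroup.card_le_of_le hΦZ
      rw [hΦ, hc] at this
      norm_num at this
    · exact h
  have hcd : c ≤ d + 1 := (Nat.pow_le_pow_iff_right (by norm_num : 1 < 2)).1 (by rw [← hc, ← hn]; exact card_le_card_group Z)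
  have hexp : ¬ ∀ g : G, g * g = 1 := by
    intro hall
    apply hz1
    have hzm := (hzΦ z).2 (Or.inr rfl)
    by_contra hne
    obtain ⟨M, hM⟩ := Set.Finite.exists_maximal (s := {M : Subgroup G | z ∉ M}) (Set.toFinite _) ⟨⊥, by simpa using hne⟩
    have hcomm : ∀ a b : G, a * b = b * a := fun a b => by
      have h1 : ∀ x : G, x⁻¹ = x := fun x => inv_eq_of_mul_eq_one_right (hall x)
      calc a * b = (a * b)⁻¹ := (h1 _).symm
        _ = b * a := by rw [mul_inv_rev, h1, h1]
    have hco : IsCoatom M := by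
      refine ⟨fun e => hM.prop (e ▸ mem_top z), fun K hK => ?_⟩
      rw [eq_top_iff]
      have hzK : z ∈ K := by
        by_contra h
        exact hK.not_ge (hM.le_of_ge h hK.le)
      intro y _
      by_contra hyK
      refine hyK ?_
      haveI : M.Normal := ⟨fun m hm g => by rwa [hcomm g m, mul_inv_cancel_right]⟩
      have hzy : z ∈ M ⊔ zpowers y := by
        by_contra h
        exact hyK (hK.le (hM.le_of_ge h le_sup_left (mem_sup_right (mem_zpowers y))))
      obtain ⟨m, hm, w, hw, hmw⟩ := mem_sup_of_normal_left.1 hzy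
      obtain ⟨i, rfl⟩ := mem_zpowers_iff.1 hw
      rcases Int.even_or_odd i with ⟨k, rfl⟩ | ⟨k, rfl⟩
      · rw [← two_mul, zpow_mul, zpow_two, hall, one_zpow, mul_one] at hmw
        exact absurd (hmw ▸ hm) hM.prop
      · rw [zpow_add_one, zpow_mul, zpow_two, hall, one_zpow, one_mul] at hmw
        rw [← inv_mul_cancel_left m y, hmw]
        exact mul_mem (inv_mem (hK.le hm)) hzK
    exact hM.prop (frattini_le_coatom hco hzm)
  have hj : (S : ℤ) = 2 * (Nat.card {x : G // x ^ 2 = 1} : ℤ) - 2 ^ (d + 1) := by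
    have h1 : ∀ g : G, ε g = 2 * (if g ^ 2 = 1 then (1 : ℤ) else 0) - 1 := fun g => by
      show (if _ then _ else _) = _
      rw [pow_two]; split_ifs <;> norm_num
    rw [hSd, Finset.sum_congr rfl fun g _ => h1 g, Finset.sum_sub_distrib, ← Finset.mul_sum, Finset.sum_boole,
      Nat.card_eq_fintype_card, Fintype.card_subtype, Finset.sum_const, Finset.card_univ, ← Nat.card_eq_fintype_card, hn]
    simp
  set j := Nat.card {x : G // x ^ 2 = 1}
  rw [← Nat.card_eq_fintype_card (α := G), hn] at hS2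
  -- the shape of `S`
  have hshape : S = 0 ∨ ∃ e : ℕ, 2 * e = d + 1 + c ∧ e ≤ d ∧ (S = 2 ^ e ∨ S = -2 ^ e) := by
    rcases hZsum with h | ⟨h, hall⟩
    · exact Or.inl (by rw [h, mul_zero] at hS2; exact mul_self_eq_zero.1 hS2)
    rw [h, hc] at hS2
    have hab : S.natAbs * S.natAbs = 2 ^ (d + 1 + c) := by
      rw [← Int.natAbs_mul, hS2, pow_add]
      push_cast
      simp [Int.natAbs_mul, Int.natAbs_pow]
      ring
    obtain ⟨e, -, he⟩ := (Nat.dvd_prime_pow Nat.prime_two).1 (Dvd.intro _ hab)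
    rw [he, ← pow_add] at hab
    have he2 := Nat.pow_right_injective le_rfl hab
    refine Or.inr ⟨e, by omega, ?_, ?_⟩
    · rcases Nat.lt_or_ge c (d + 1) with h' | h'
      · omega
      · refine absurd (fun g => hall g ?_) hexp
        have hZtop : Z = ⊤ := eq_top_of_card_eq Z (by rw [hc, hn, show c = d + 1 by omega])
        rw [hZtop]; trivial
    · rcases Int.natAbs_eq S with h' | h' <;> rw [he] at h' <;> push_cast at h'
      · exact Or.inl h'
      · exact Or.inr h'
  constructor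
  · rcases hshape with h | ⟨e, he, hed, hS⟩
    · left
      rw [h, pow_succ] at hj
      have : (j : ℤ) = ((2 ^ d : ℕ) : ℤ) := by push_cast; linarith
      exact_mod_cast this
    · refine Or.inr ⟨d + 1 - e, by omega, by omega, ?_⟩
      rw [show d - (d + 1 - e) = e - 1 by omega]
      have hp : (2 : ℤ) ^ e = 2 * 2 ^ (e - 1) := by rw [← pow_succ']; congr 1; omega
      rw [pow_succ] at hj
      rcases hS with hS | hS <;> rw [hS, hp] at hj
      · left
        have : (j : ℤ) = ((2 ^ d + 2 ^ (e - 1) : ℕ) : ℤ) := by push_cast; linarith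
        exact_mod_cast this
      · right
        have : ((j + 2 ^ (e - 1) : ℕ) : ℤ) = ((2 ^ d : ℕ) : ℤ) := by push_cast; linarith
        exact_mod_cast this
  · intro r hdr hjr
    have hSr : S = 2 ^ (r + 1) ∨ S = -2 ^ (r + 1) := by
      rcases hjr with h | h
      · left
        have h' : ((j : ℕ) : ℤ) = ((2 ^ d + 2 ^ r : ℕ) : ℤ) := by exact_mod_cast h
        push_cast at h'
        rw [hj, h', pow_succ, pow_succ]; ring
      · right
        have h' : ((j + 2 ^ r : ℕ) : ℤ) = ((2 ^ d : ℕ) : ℤ) := by exact_mod_cast h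
        push_cast at h'
        rw [hj, pow_succ, pow_succ]; linarith
    rcases hshape with h | ⟨e, he, -, hS⟩
    · exfalso
      have hpos : (0 : ℤ) < 2 ^ (r + 1) := by positivity
      rcases hSr with h' | h' <;> omega
    have her : e = r + 1 := by
      refine Nat.pow_right_injective (le_refl 2) ?_
      have h1 := congrArg Int.natAbs (rfl : S = S)
      rcases hS with hS | hS <;> rcases hSr with h' | h' <;> rw [hS] at h' <;>
        simpa [Int.natAbs_neg, Int.natAbs_pow] using congrArg Int.natAbs h'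
    have hc' : c = 1 := by omega
    have hZΦ : Φ = Z := eq_of_le_of_card_ge hΦZ (by rw [hc, hc', hΦ]; norm_num)
    have hle : commutator G ≤ Φ := by
      rw [commutator_eq_closure, closure_le]
      rintro _ ⟨a, b, rfl⟩
      rw [SetLike.mem_coe, show ⁅a, b⁆ = (a⁻¹)⁻¹ * b * a⁻¹ * b⁻¹ by rw [commutatorElement_def, inv_inv]]
      exact hcm _ _
    refine ⟨⟨hG, hZΦ, ?_⟩, by rw [hc, hc', pow_one]⟩
    show commutator G = Z
    rw [← hZΦ]
    refine le_antisymm hle fun u hu => ?_
    rcases (hzΦ u).1 hu with rfl | rfl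
    · exact one_mem _
    by_contra hne
    apply hexp
    have hbot : commutator G = ⊥ := eq_bot_iff.2 fun w hw => by
      rcases (hzΦ w).1 (hle hw) with rfl | rfl
      · exact one_mem _
      · exact absurd hw hne
    intro g
    have hgZ : g ∈ Z := mem_center_iff.2 fun a =>
      commutatorElement_eq_one_iff_mul_comm.1 (mem_bot.1 (hbot ▸ commutator_mem_commutator (mem_top a) (mem_top g) : ⁅a, g⁆ ∈ (⊥ : Subgroup G)))
    rcases (hzΦ g).1 (hZΦ ▸ hgZ) with rfl | rfl
    · simp
    · exact hzz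

end Cfsg.Agent.S3772
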