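import Cfsg.Statements.S3773
import Cfsg.Agent.Lib.Struct.RankBound
import Cfsg.Agent.Lib.Solv.Basic

set_option autoImplicit false
set_option maxHeartbeats 800000
open Cfsg

namespace Cfsg.Agent.S3773

open Subgroup
open scoped commutatorElement

theorem core {C : Type*} [Group C] [Finite C] (hC : IsPGroup 2 C) {Z A : Subgroup C} (hA : A ≤ center C)
    (hAe : ∀ a ∈ A, a ^ 2 = 1) (hZA : Z ≤ A) (hsq : ∀ x, x ^ 2 ∈ Z) (hcom : ∀ x y : C, ⁅x, y⁆ ∈ Z)
    (h : ∀ x : C, x ^ 2 = 1 → x ∈ A) : Nat.card C ≤ Nat.card A * Nat.card Z ^ 2 :=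
  Cfsg.Agent.Struct.RankBound.aniso_card_le hC hA hAe hZA hsq hcom h

/-- The bound on a subgroup. -/
theorem core_sub {G : Type*} [Group G] [Finite G] (hG : IsPGroup 2 G) (C : Subgroup G) {Z A : Subgroup G}
    (hA : A ≤ center G) (hAC : A ≤ C) (hAe : ∀ a ∈ A, a ^ 2 = 1) (hZA : Z ≤ A)
    (hsq : ∀ x ∈ C, x ^ 2 ∈ Z) (hcom : ∀ x ∈ C, ∀ y ∈ C, ⁅x, y⁆ ∈ Z)
    (h : ∀ x ∈ C, x ^ 2 = 1 → x ∈ A) : Nat.card C ≤ Nat.card A * Nat.card Z ^ 2 := by
  have key := core (C := C) (hG.to_subgroup C) (Z := Z.subgroupOf C) (A := A.subgroupOf C)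
    (fun a ha => mem_center_iff.mpr fun g => Subtype.ext (mem_center_iff.mp (hA ha) (g : G)))
    (fun a ha => Subtype.ext (hAe _ ha)) (fun a ha => hZA ha) (fun x => hsq _ x.2)
    (fun x y => hcom _ x.2 _ y.2) (fun x hx => h _ x.2 (congrArg Subtype.val hx))
  rwa [Nat.card_congr (subgroupOfEquivOfLe hAC).toEquiv,
    Nat.card_congr (subgroupOfEquivOfLe (hZA.trans hAC)).toEquiv] at key

/-- Let G be a finite 2-group of nilpotency class at most 2 and exponent dividing 4 in which the elements x with x² = 1 form a subgroup N. Then |G| ≤ |N|³, and |G| < |N|³ unless G is special. -/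
theorem result {G : Type*} [Group G] [Finite G] (hG : IsPGroup 2 G) (hcl : (⊤ : Subgroup G).lowerCentralSeries 2 = ⊥) (hexp : ∀ x : G, x ^ 4 = 1) (hN : ∀ x y : G, x ^ 2 = 1 → y ^ 2 = 1 → (x * y) ^ 2 = 1) : Nat.card G ≤ Nat.card {x : G // x ^ 2 = 1} ^ 3 ∧ (¬ Cfsg.IsSpecial 2 G → Nat.card G < Nat.card {x : G // x ^ 2 = 1} ^ 3) := by
  classical
  have : Fact (Nat.Prime 2) := ⟨Nat.prime_two⟩
  have hc : ∀ a b : G, ⁅a, b⁆ ∈ Subgroup.center G := by
    intro a b
    rw [Subgroup.mem_center_iff]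
    intro g
    have h1 : ⁅⁅a, b⁆, g⁆ ∈ (⊤ : Subgroup G).lowerCentralSeries 2 :=
      Subgroup.commutator_mem_commutator
        (Subgroup.commutator_mem_commutator (Subgroup.mem_top a) (Subgroup.mem_top b))
        (Subgroup.mem_top g)
    rw [hcl, Subgroup.mem_bot, commutatorElement_eq_one_iff_mul_comm] at h1
    exact h1.symm
  have hc2 : ∀ a b : G, ⁅a, b⁆ ^ 2 = 1 := by
    intro a b
    have h1 := Cfsg.Agent.Struct.ClassTwo.mul_pow hc b a 4
    rw [hexp, hexp, hexp, one_mul, one_mul, show Nat.choose 4 2 = 4 + 2 by rfl, pow_add, hexp,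
      one_mul] at h1
    exact h1.symm
  let N : Subgroup G :=
    { carrier := {x | x ^ 2 = 1}
      one_mem' := one_pow 2
      mul_mem' := fun hx hy => hN _ _ hx hy
      inv_mem' := fun {x} hx => by
        show x⁻¹ ^ 2 = 1
        rw [inv_pow, hx, inv_one] }
  have hNcard : Nat.card {x : G // x ^ 2 = 1} = Nat.card N := rfl
  rw [hNcard]
  let D : Subgroup G := Subgroup.closure (Set.range fun x : G => x ^ 2) ⊔ commutator G
  have hsqD : ∀ x : G, x ^ 2 ∈ D := fun x =>
    Subgroup.mem_sup_left (Subgroup.subset_closure ⟨x, rfl⟩)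
  have hcomD : ∀ x y : G, ⁅x, y⁆ ∈ D := fun x y =>
    Subgroup.mem_sup_right (Subgroup.commutator_mem_commutator (Subgroup.mem_top _) (Subgroup.mem_top _))
  have hDN : D ≤ N ⊓ Subgroup.center G := by
    refine sup_le ((Subgroup.closure_le _).mpr ?_) ?_
    · rintro _ ⟨x, rfl⟩
      refine ⟨?_, ?_⟩
      · show (x ^ 2) ^ 2 = 1
        rw [← pow_mul]; exact hexp x
      · refine Subgroup.mem_center_iff.mpr fun g => ?_
        refine (commutatorElement_eq_one_iff_mul_comm.mp ?_).symm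
        rw [Cfsg.Agent.Struct.ClassTwo.pow_left hc, hc2]
    · rw [commutator_def, Subgroup.commutator_le]
      exact fun a _ b _ => ⟨hc2 a b, hc a b⟩
  have hDn : ∀ K : Subgroup G, D ≤ K → K.Normal := fun K hK => ⟨fun k hk g => by
    rw [show g * k * g⁻¹ = ⁅g, k⁆ * k by rw [commutatorElement_def]; group]
    exact K.mul_mem (hK (hcomD g k)) hk⟩
  obtain ⟨C, hC⟩ := (Set.toFinite {C : Subgroup G | N ⊓ Subgroup.center G ≤ C ∧
    C ⊓ N ≤ Subgroup.center G}).exists_maximal
    ⟨N ⊓ Subgroup.center G, le_rfl, inf_le_left.trans inf_le_right⟩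
  obtain ⟨⟨hMC, hCN⟩, hmax⟩ := hC
  have hCn : C.Normal := hDn C (hDN.trans hMC)
  have hCNtop : C ⊔ N = ⊤ := by
    by_contra hne
    obtain ⟨x, hx⟩ : ∃ x, x ∉ C ⊔ N := by
      by_contra! h
      exact hne ((Subgroup.eq_top_iff' _).mpr h)
    have hmem : ∀ y ∈ C ⊔ Subgroup.zpowers x, y ∈ C ∨ y * x⁻¹ ∈ C := by
      intro y hy
      obtain ⟨c, hc', z, hz, rfl⟩ := Subgroup.mem_sup_of_normal_left.mp hy
      obtain ⟨i, rfl⟩ := Subgroup.mem_zpowers_iff.mp hz
      have hx2 : ∀ j : ℤ, x ^ (2 * j) ∈ C := fun j => by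
        rw [zpow_mul, zpow_ofNat]; exact C.zpow_mem (hMC (hDN (hsqD x))) j
      rcases Int.even_or_odd' i with ⟨j, rfl | rfl⟩
      · exact Or.inl (C.mul_mem hc' (hx2 j))
      · right
        rw [zpow_add, zpow_one, ← mul_assoc, mul_inv_cancel_right]
        exact C.mul_mem hc' (hx2 j)
    have hle : C ⊔ Subgroup.zpowers x ≤ C := by
      refine hmax ⟨hMC.trans le_sup_left, ?_⟩ le_sup_left
      rintro y ⟨hy, hyN⟩
      rcases hmem y hy with h | h
      · exact hCN ⟨h, hyN⟩
      · refine absurd ?_ hx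
        have : x = (y * x⁻¹)⁻¹ * y := by group
        rw [this]
        exact Subgroup.mul_mem_sup (C.inv_mem h) hyN
    exact hx (Subgroup.mem_sup_left (hle (Subgroup.mem_sup_right (Subgroup.mem_zpowers x))))
  have hCinf : C ⊓ N = N ⊓ Subgroup.center G :=
    le_antisymm (le_inf inf_le_right hCN) (le_inf hMC inf_le_left)
  have hb := core_sub hG C (A := N ⊓ Subgroup.center G) (Z := D) inf_le_right hMC
    (fun a ha => ha.1) hDN (fun x _ => hsqD x) (fun x _ y _ => hcomD x y)
    (fun x hx h => ⟨h, hCN ⟨hx, h⟩⟩)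
  have hcard : Nat.card G * Nat.card (N ⊓ Subgroup.center G : Subgroup G) = Nat.card C * Nat.card N := by
    have h1 := Cfsg.Agent.Solv.card_sup_mul_card_inf C N
      (by rw [Subgroup.normalizer_eq_top_iff.mpr hCn]; exact le_top)
    rw [hCNtop, Subgroup.card_top, hCinf] at h1
    exact h1
  have hpos : 0 < Nat.card (N ⊓ Subgroup.center G : Subgroup G) := Nat.card_pos
  have hmain : Nat.card G ≤ Nat.card N * Nat.card D ^ 2 := by
    refine Nat.le_of_mul_le_mul_right ?_ hpos
    rw [hcard]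
    calc Nat.card C * Nat.card N
        ≤ Nat.card (N ⊓ Subgroup.center G : Subgroup G) * Nat.card D ^ 2 * Nat.card N :=
          Nat.mul_le_mul_right _ hb
      _ = _ := by ring
  have hDle : Nat.card D ≤ Nat.card N := Subgroup.card_le_of_le (hDN.trans inf_le_left)
  refine ⟨hmain.trans ?_, fun hsp => ?_⟩
  · calc Nat.card N * Nat.card D ^ 2 ≤ Nat.card N * Nat.card N ^ 2 := by gcongr
      _ = _ := by ring
  by_contra hlt
  push Not at hlt
  have hDN' : D = N := by
    refine Subgroup.eq_of_le_of_card_ge (hDN.trans inf_le_left) ?_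
    by_contra h
    push Not at h
    have h2 : Nat.card N * Nat.card D ^ 2 < Nat.card N ^ 3 := by
      rw [show Nat.card N ^ 3 = Nat.card N * Nat.card N ^ 2 by ring]
      exact Nat.mul_lt_mul_of_pos_left (Nat.pow_lt_pow_left h two_ne_zero) Nat.card_pos
    omega
  have hNc : N ≤ Subgroup.center G := hDN' ▸ hDN.trans inf_le_right
  have hNe : ∀ a ∈ N, a ^ 2 = 1 := fun a ha => ha
  have hsqN : ∀ x : G, x ^ 2 ∈ N := fun x => hDN' ▸ hsqD x
  have hcomN : ∀ x y : G, ⁅x, y⁆ ∈ N := fun x y => hDN' ▸ hcomD x y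
  -- the derived subgroup is all of `N`
  have hderN : commutator G = N := by
    by_contra hne
    have hle : commutator G ≤ N := hDN' ▸ le_sup_right
    obtain ⟨v, hvN, hv⟩ := SetLike.exists_of_lt (lt_of_le_of_ne hle hne)
    obtain ⟨N1, hN1⟩ := (Set.toFinite {M : Subgroup G | commutator G ≤ M ∧ M ≤ N ∧ v ∉ M}).exists_maximal
      ⟨commutator G, le_rfl, hle, hv⟩
    obtain ⟨⟨hcN1, hN1N, hvN1⟩, hN1max⟩ := hN1
    have hN1n : N1.Normal := ⟨fun k hk g => by
      rw [show g * k * g⁻¹ = ⁅g, k⁆ * k by rw [commutatorElement_def]; group]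
      exact N1.mul_mem (hcN1 (Subgroup.commutator_mem_commutator (Subgroup.mem_top _) (Subgroup.mem_top _))) hk⟩
    have hxv : ∀ a ∈ N, a ∉ N1 → a * v ∈ N1 := by
      intro a ha haN1
      have hv' : v ∈ N1 ⊔ Subgroup.zpowers a := by
        by_contra hh
        exact haN1 (hN1max (y := N1 ⊔ Subgroup.zpowers a)
          ⟨hcN1.trans le_sup_left, sup_le hN1N (Subgroup.zpowers_le.mpr ha), hh⟩ le_sup_left
          (Subgroup.mem_sup_right (Subgroup.mem_zpowers a)))
      obtain ⟨c, hc', z, hz, rfl⟩ := Subgroup.mem_sup_of_normal_left.mp hv'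
      obtain ⟨i, rfl⟩ := Subgroup.mem_zpowers_iff.mp hz
      rcases Int.even_or_odd' i with ⟨j, rfl | rfl⟩
      · exfalso
        rw [zpow_mul, zpow_ofNat, hNe a ha, one_zpow, mul_one] at hvN1
        exact hvN1 hc'
      · rw [zpow_add, zpow_one, zpow_mul, zpow_ofNat, hNe a ha, one_zpow, one_mul]
        have he : a * (c * a) = c := by
          rw [← mul_assoc, ← Subgroup.mem_center_iff.mp (hNc ha) c, mul_assoc, ← sq, hNe a ha, mul_one]
        rw [he]; exact hc'
    have hmul : ∀ x y : G, (x * y) ^ 2 = x ^ 2 * y ^ 2 * ⁅y, x⁆ := fun x y => by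
      rw [Cfsg.Agent.Struct.ClassTwo.mul_pow hc x y 2, show Nat.choose 2 2 = 1 by rfl, pow_one]
    have hcN1' : ∀ x y : G, ⁅x, y⁆ ∈ N1 := fun x y =>
      hcN1 (Subgroup.commutator_mem_commutator (Subgroup.mem_top _) (Subgroup.mem_top _))
    let K : Subgroup G :=
      { carrier := {x | x ^ 2 ∈ N1}
        one_mem' := by show (1 : G) ^ 2 ∈ N1; rw [one_pow]; exact one_mem _
        mul_mem' := fun {x y} hx hy => by
          show (x * y) ^ 2 ∈ N1
          rw [hmul]; exact mul_mem (mul_mem hx hy) (hcN1' _ _)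
        inv_mem' := fun {x} hx => by
          show x⁻¹ ^ 2 ∈ N1
          rw [inv_pow]; exact inv_mem hx }
    have hKi : K.index ≤ 2 := by
      by_cases hK : ∃ a, a ∉ K
      · obtain ⟨a, ha⟩ := hK
        refine le_of_eq (Subgroup.index_eq_two_iff'.mpr ⟨a, fun b => ?_⟩)
        by_cases hb : b ∈ K
        · refine Or.inr ⟨hb, fun hab => ha ?_⟩
          have h1 := K.mul_mem hab (K.inv_mem hb)
          rwa [mul_inv_cancel_right] at h1
        · refine Or.inl ⟨?_, hb⟩
          show (a * b) ^ 2 ∈ N1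
          rw [hmul]
          refine mul_mem ?_ (hcN1' _ _)
          have h1 := hxv _ (hsqN a) ha
          have h2 := hxv _ (hsqN b) hb
          have e : a ^ 2 * b ^ 2 = (a ^ 2 * v) * (b ^ 2 * v) := by
            rw [mul_assoc (a ^ 2), ← mul_assoc v, Subgroup.mem_center_iff.mp (hNc (hsqN b)) v,
              mul_assoc (b ^ 2), ← sq, hNe v hvN, mul_one]
          rw [e]
          exact mul_mem h1 h2
      · push Not at hK
        rw [(Subgroup.eq_top_iff' K).mpr hK, Subgroup.index_top]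
        norm_num
    have hNK : N ≤ K := fun a ha => by
      show a ^ 2 ∈ N1
      rw [hNe a ha]; exact one_mem _
    have hb2 := core_sub hG K (A := N) (Z := N1) hNc hNK hNe hN1N (fun x hx => hx)
      (fun x _ y _ => hcN1' x y) (fun x _ h => h)
    have hN1card : 2 * Nat.card N1 ≤ Nat.card N := by
      have h1 := Subgroup.relIndex_mul_index hN1N
      have h2 : N1.relIndex N ≠ 1 := fun h => hvN1 (Subgroup.relIndex_eq_one.mp h hvN)
      have h3 : N1.relIndex N ≠ 0 := Subgroup.index_ne_zero_of_finite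
      have h4 := (N1.subgroupOf N).card_mul_index
      rw [Nat.card_congr (Subgroup.subgroupOfEquivOfLe hN1N).toEquiv] at h4
      rw [← h4]
      change 2 * Nat.card N1 ≤ Nat.card N1 * N1.relIndex N
      rw [mul_comm 2]
      exact Nat.mul_le_mul_left _ (by omega)
    have h5 := K.card_mul_index
    have h6 : 4 * Nat.card K ≤ Nat.card N ^ 3 := by
      calc 4 * Nat.card K ≤ 4 * (Nat.card N * Nat.card N1 ^ 2) := by gcongr
        _ = Nat.card N * (2 * Nat.card N1) ^ 2 := by ring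
        _ ≤ Nat.card N * Nat.card N ^ 2 := by gcongr
        _ = _ := by ring
    have h7 : Nat.card K * K.index ≤ Nat.card K * 2 := Nat.mul_le_mul_left _ hKi
    have h8 : 0 < Nat.card K := Nat.card_pos
    omega
  -- the centre is `N`
  have hcen : Subgroup.center G = N := by
    refine le_antisymm ?_ hNc
    intro z hz
    by_contra hzN
    let Zz := Subgroup.zpowers z
    have hZn : Zz.Normal := ⟨fun k hk g => by
      have hkc : k ∈ Subgroup.center G := Subgroup.zpowers_le.mpr hz hk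
      rw [Subgroup.mem_center_iff.mp hkc g, mul_inv_cancel_right]; exact hk⟩
    let π := QuotientGroup.mk' Zz
    have hπ : Function.Surjective π := QuotientGroup.mk'_surjective Zz
    have hord : orderOf z = 4 := orderOf_eq_prime_pow (p := 2) (n := 1) hzN (hexp z)
    have hA : N.map π ≤ Subgroup.center (G ⧸ Zz) := by
      rintro _ ⟨a, ha, rfl⟩
      refine Subgroup.mem_center_iff.mpr fun g => ?_
      obtain ⟨g, rfl⟩ := hπ g
      rw [← map_mul, ← map_mul, Subgroup.mem_center_iff.mp (hNc ha) g]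
    have hinv : ∀ x : G ⧸ Zz, x ^ 2 = 1 → x ∈ N.map π := by
      intro x hx
      obtain ⟨x, rfl⟩ := hπ x
      rw [← map_pow] at hx
      obtain ⟨i, hi⟩ := Subgroup.mem_zpowers_iff.mp ((QuotientGroup.eq_one_iff _).mp hx)
      rcases Int.even_or_odd' i with ⟨j, rfl | rfl⟩
      · refine ⟨x * (z ^ j)⁻¹, ?_, ?_⟩
        · show (x * (z ^ j)⁻¹) ^ 2 = 1
          have hcz : Commute x (z ^ j)⁻¹ :=
            ((show Commute x z from Subgroup.mem_center_iff.mp hz x).zpow_right j).inv_right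
          rw [hcz.mul_pow, inv_pow, ← zpow_natCast (z ^ j), ← zpow_mul, mul_comm j,
            ← hi]
          exact mul_inv_cancel _
        · rw [map_mul, map_inv]
          have : π (z ^ j) = 1 := (QuotientGroup.eq_one_iff _).mpr ⟨j, rfl⟩
          rw [this, inv_one, mul_one]
      · exfalso
        have h1 := hNe _ (hsqN x)
        rw [← hi, ← zpow_natCast, ← zpow_mul] at h1
        have h2 := orderOf_dvd_iff_zpow_eq_one.mpr h1
        rw [hord] at h2
        omega
    have hq : IsPGroup 2 (G ⧸ Zz) := hG.to_quotient Zz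
    have hb3 := core hq hA (Z := N.map π) (fun a ha => by
        obtain ⟨a, ha, rfl⟩ := ha; rw [← map_pow, hNe a ha, map_one]) le_rfl
      (fun x => by obtain ⟨x, rfl⟩ := hπ x; exact ⟨x ^ 2, hsqN x, map_pow π x 2⟩)
      (fun x y => by
        obtain ⟨x, rfl⟩ := hπ x; obtain ⟨y, rfl⟩ := hπ y
        exact ⟨⁅x, y⁆, hcomN x y, map_commutatorElement π x y⟩) hinv
    have h4 : Nat.card G = 4 * Nat.card (G ⧸ Zz) := by
      rw [Subgroup.card_eq_card_quotient_mul_card_subgroup Zz, Nat.card_zpowers, hord, mul_comm]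
    have h5 : 2 * Nat.card (N.map π) ≤ Nat.card N := by
      have h6 := Subgroup.card_mul_index ((π.ker).subgroupOf N)
      have h7 : Nat.card (N.map π) = ((π.ker).subgroupOf N).index := by
        rw [← Subgroup.relIndex, Subgroup.relIndex_ker]
      have h8 : 2 ≤ Nat.card ((π.ker).subgroupOf N) := by
        refine (Subgroup.one_lt_card_iff_ne_bot _).mpr fun hb => ?_
        have hz2 : (⟨z ^ 2, hsqN z⟩ : N) ∈ (π.ker).subgroupOf N := by
          rw [Subgroup.mem_subgroupOf, QuotientGroup.ker_mk']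
          exact ⟨2, zpow_ofNat z 2⟩
        rw [hb, Subgroup.mem_bot] at hz2
        exact hzN (congrArg Subtype.val hz2)
      rw [h7, ← h6]
      exact Nat.mul_le_mul_right _ h8
    have hbb : 8 * Nat.card (G ⧸ Zz) ≤ Nat.card N ^ 3 := by
      calc 8 * Nat.card (G ⧸ Zz) ≤ 8 * (Nat.card (N.map π) * Nat.card (N.map π) ^ 2) := by gcongr
        _ = (2 * Nat.card (N.map π)) ^ 3 := by ring
        _ ≤ _ := by gcongr
    have := Nat.card_pos (α := G ⧸ Zz)
    omega
  refine hsp ⟨hG, ?_, hderN.trans hcen.symm⟩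
  refine le_antisymm ?_ ?_
  · exact Cfsg.Agent.Struct.ClassTwo.frattini_le Nat.prime_two
      (hcen ▸ hderN.le) (fun x => hcen ▸ hsqN x)
  · rw [hcen, ← hderN]
    exact (Cfsg.Agent.Perm.frattini_facts hG).2

end Cfsg.Agent.S3773
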