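import Cfsg.Statements.S3774
-- import your own Cfsg.Agent.* helpers here

set_option autoImplicit false
open Cfsg

namespace Cfsg.Agent.S3774

open Finset in
theorem geom_zmod_sq (s : ℕ) (hs : Odd s) (y : ZMod (s ^ 2)) (hy : ∃ t : ZMod (s ^ 2), y = (s : ZMod (s^2)) * t) :
    (∑ i ∈ range s, (1 + y) ^ i) = (s : ZMod (s ^ 2)) := by
  obtain ⟨t, ht⟩ := hy
  have hs2 : (s : ZMod (s ^ 2)) * (s : ZMod (s ^ 2)) = 0 := by
    rw [← Nat.cast_mul, ZMod.natCast_eq_zero_iff, pow_two]
  have hy2 : y * y = 0 := by rw [ht]; linear_combination t * t * hs2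
  have hp : ∀ i : ℕ, (1 + y) ^ i = 1 + (i : ZMod (s ^ 2)) * y := by
    intro i
    induction i with
    | zero => simp
    | succ i ih => rw [pow_succ (1 + y) i, ih]; push_cast; linear_combination (i : ZMod (s ^ 2)) * hy2
  simp only [hp, sum_add_distrib, sum_const, card_range, nsmul_one, ← sum_mul]
  rw [← Nat.cast_sum]
  obtain ⟨m, hm⟩ := hs
  have : (∑ i ∈ range s, i) = s * m := by
    have := Finset.sum_range_id_mul_two s
    rw [hm] at this ⊢
    simp only [Nat.add_sub_cancel] at this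
    nlinarith
  rw [this, Nat.cast_mul, ht]
  linear_combination (m : ZMod (s ^ 2)) * t * hs2

open Finset in
theorem exists_new_prime (x : ℕ) (s : ℕ) (hs : s.Prime) (hx : 2 ≤ x) (he : s = 2 → Even x) :
    ∃ r : ℕ, r.Prime ∧ r ∣ x ^ s - 1 ∧ ¬ r ∣ x - 1 := by
  by_contra hcon
  push Not at hcon
  set T := ∑ i ∈ range s, x ^ i with hT
  have hTd : T ∣ x ^ s - 1 := by
    refine ⟨x - 1, ?_⟩
    have e := geom_sum_mul_add (x - 1) s
    rw [show x - 1 + 1 = x by omega] at e
    rw [hT]; omega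
  have hTgt : s < T := by
    calc s = ∑ i ∈ range s, 1 := by simp
      _ < T := sum_lt_sum (fun i _ => Nat.one_le_pow _ _ (by omega))
          ⟨1, mem_range.mpr hs.one_lt, by simp only [pow_one]; omega⟩
  have hr : ∀ r : ℕ, r.Prime → r ∣ T → r = s ∧ r ∣ x - 1 := by
    intro r hr hd
    have h1 := hcon r hr (hd.trans hTd)
    refine ⟨?_, h1⟩
    have e : (x : ZMod r) = 1 := by
      have := (ZMod.natCast_eq_zero_iff (x - 1) r).mpr h1
      rw [Nat.cast_sub (by omega)] at this
      simpa [sub_eq_zero] using this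
    have h2 : ((T : ℕ) : ZMod r) = 0 := (ZMod.natCast_eq_zero_iff T r).mpr hd
    simp only [hT, Nat.cast_sum, Nat.cast_pow, e, one_pow, sum_const, card_range, nsmul_one] at h2
    exact (Nat.prime_dvd_prime_iff_eq hr hs).mp ((ZMod.natCast_eq_zero_iff s r).mp h2)
  have hp : T.primeFactorsList = List.replicate T.primeFactorsList.length s :=
    List.eq_replicate_iff.mpr ⟨rfl, fun r hr' =>
      (hr r (Nat.prime_of_mem_primeFactorsList hr') (Nat.dvd_of_mem_primeFactorsList hr')).1⟩
  obtain ⟨e, he'⟩ : ∃ e, T = s ^ e := ⟨T.primeFactorsList.length, by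
    conv_lhs => rw [← Nat.prod_primeFactorsList (show T ≠ 0 by omega), hp]
    simp⟩
  have he2 : 2 ≤ e := by
    rcases e with - | - | e
    · rw [pow_zero] at he'; have := hs.one_lt; omega
    · rw [pow_one] at he'; omega
    · omega
  have hsx : s ∣ x - 1 := (hr s hs (by rw [he']; exact dvd_pow_self s (by omega))).2
  rcases hs.eq_two_or_odd' with h2 | hodd
  · obtain ⟨k, hk⟩ := he h2
    subst h2
    have hT2 : T = 1 + x := by simp [hT, sum_range_succ]
    obtain ⟨f, rfl⟩ : ∃ f, e = f + 1 := ⟨e - 1, by omega⟩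
    rw [hT2, pow_succ] at he'
    omega
  · have h3 : ((T : ℕ) : ZMod (s ^ 2)) = 0 := by
      rw [ZMod.natCast_eq_zero_iff, he']; exact pow_dvd_pow s he2
    obtain ⟨t, ht⟩ := hsx
    have hxc : (x : ZMod (s ^ 2)) = 1 + (s : ZMod (s ^ 2)) * (t : ZMod (s^2)) := by
      rw [show x = 1 + s * t by omega]; push_cast; rfl
    simp only [hT, Nat.cast_sum, Nat.cast_pow, hxc] at h3
    rw [geom_zmod_sq s hodd _ ⟨_, rfl⟩, ZMod.natCast_eq_zero_iff] at h3
    have := Nat.le_of_dvd hs.pos h3
    have := hs.one_lt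
    nlinarith

theorem dvd_of_primes_dvd (n a : ℕ) (hn : n ≠ 0)
    (h : ∀ r : ℕ, r.Prime → r ∣ 2 ^ n - 1 → r ∣ 2 ^ a - 1) : n ∣ a := by
  by_contra hna
  set g := n.gcd a with hg
  have hgn : g ∣ n := Nat.gcd_dvd_left n a
  have hne : n / g ≠ 1 := by
    intro h1
    refine hna ?_
    have : n = g := by conv_lhs => rw [← Nat.div_mul_cancel hgn, h1, one_mul]
    rw [this]; exact Nat.gcd_dvd_right n a
  obtain ⟨s, hs, hsd⟩ := Nat.exists_prime_and_dvd hne
  obtain ⟨l, hl⟩ := hsd
  have hnl : n = g * l * s := by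
    conv_lhs => rw [← Nat.div_mul_cancel hgn, hl]
    ring
  have hgl : g * l ≠ 0 := by intro h0; rw [h0, zero_mul] at hnl; exact hn hnl
  obtain ⟨r, hr, hr1, hr2⟩ := exists_new_prime (2 ^ (g * l)) s hs
    (Nat.le_self_pow hgl 2) (fun _ => (Nat.even_pow).mpr ⟨even_two, hgl⟩)
  rw [← pow_mul, ← hnl] at hr1
  refine hr2 ((?_ : r ∣ 2 ^ g - 1).trans (Nat.pow_sub_one_dvd_pow_sub_one 2 (dvd_mul_right g l)))
  rw [hg, ← Nat.pow_sub_one_gcd_pow_sub_one]
  exact Nat.dvd_gcd hr1 (h r hr hr1)

/-- Let G be a nontrivial finite 2-group whose automorphism group permutes the involutions of G transitively. Then every involution of G is central, so that the involutions together with 1 form the subgroup Ω₁(Z(G)), and if this subgroup has order q then |G| is a power of q. -/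
theorem result {G : Type*} [Group G] [Finite G] [Nontrivial G] (hG : IsPGroup 2 G) (htrans : ∀ x y : G, x ≠ 1 → x ^ 2 = 1 → y ≠ 1 → y ^ 2 = 1 → ∃ a : MulAut G, a x = y) : (∀ x : G, x ^ 2 = 1 → x ∈ Subgroup.center G) ∧ ∃ m : ℕ, Nat.card G = Nat.card {z : G // z ^ 2 = 1} ^ m := by
  have hcen : ∀ x : G, x ^ 2 = 1 → x ∈ Subgroup.center G := by
    intro x hx
    by_cases h1 : x = 1
    · rw [h1]; exact Subgroup.one_mem _
    haveI := hG.center_nontrivial
    have h2 : 2 ∣ Nat.card (Subgroup.center G) := by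
      obtain ⟨k, hk⟩ := IsPGroup.iff_card.mp (hG.to_subgroup (Subgroup.center G))
      rw [hk]
      refine dvd_pow_self 2 ?_
      rintro rfl
      have := Finite.one_lt_card (α := Subgroup.center G)
      omega
    obtain ⟨z, hz⟩ := exists_prime_orderOf_dvd_card' 2 h2
    have hz1 : (z : G) ≠ 1 := by
      intro h
      rw [show z = 1 from Subtype.ext h, orderOf_one] at hz
      omega
    have hz2 : (z : G) ^ 2 = 1 := by
      rw [← hz, ← Subgroup.orderOf_coe]; exact pow_orderOf_eq_one _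
    obtain ⟨a, ha⟩ := htrans z x hz1 hz2 h1 hx
    rw [← ha, Subgroup.mem_center_iff]
    intro g
    have := Subgroup.mem_center_iff.mp z.2 (a.symm g)
    simpa using congrArg a this
  refine ⟨hcen, ?_⟩
  let K : Subgroup G :=
    { carrier := {z | z ^ 2 = 1}
      one_mem' := one_pow 2
      mul_mem' := fun {a b} ha hb => by
        have : Commute a b := (Subgroup.mem_center_iff.mp (hcen a ha) b).symm
        simp only [Set.mem_setOf_eq] at *
        rw [this.mul_pow, ha, hb, one_mul]
      inv_mem' := fun {a} ha => by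
        simp only [Set.mem_setOf_eq] at *
        rw [inv_pow, ha, inv_one] }
  have hKc : Nat.card {z : G // z ^ 2 = 1} = Nat.card K := rfl
  obtain ⟨n, hn⟩ := IsPGroup.iff_card.mp (hG.to_subgroup K)
  obtain ⟨a, ha⟩ := IsPGroup.iff_card.mp hG
  obtain ⟨x, hx⟩ := exists_prime_orderOf_dvd_card' (G := G) 2 (by
    rw [ha]; refine dvd_pow_self 2 ?_
    rintro rfl
    have := Finite.one_lt_card (α := G)
    omega)
  have hx1 : x ≠ 1 := by rintro rfl; simp at hx
  have hx2 : x ^ 2 = 1 := by rw [← hx]; exact pow_orderOf_eq_one x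
  have hn0 : n ≠ 0 := by
    rintro rfl
    rw [pow_zero, Subgroup.card_eq_one] at hn
    have : x ∈ K := hx2
    rw [hn, Subgroup.mem_bot] at this
    exact hx1 this
  have horb : (MulAction.orbit (MulAut G) x).ncard = 2 ^ n - 1 := by
    have e : MulAction.orbit (MulAut G) x = (K : Set G) \ {1} := by
      ext y
      simp only [MulAction.mem_orbit_iff, MulAut.smul_def, Set.mem_sdiff, SetLike.mem_coe,
        Set.mem_singleton_iff]
      constructor
      · rintro ⟨f, rfl⟩
        exact ⟨show f x ^ 2 = 1 by rw [← map_pow, hx2, map_one],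
          fun h => hx1 (f.injective (by rw [h, map_one]))⟩
      · rintro ⟨hy, hy1⟩
        exact htrans x y hx1 hx2 hy1 hy
    rw [e, Set.ncard_diff_singleton_of_mem K.one_mem, ← Nat.card_coe_set_eq]
    simp only [SetLike.coe_sort_coe, hn]
  suffices h : n ∣ a by
    obtain ⟨m, rfl⟩ := h
    exact ⟨m, by rw [hKc, hn, ha, pow_mul]⟩
  refine dvd_of_primes_dvd n a hn0 fun r hr hrd => ?_
  haveI := Fact.mk hr
  obtain ⟨R⟩ : Nonempty (Sylow r (MulAut G)) := inferInstance
  have hfix : MulAction.fixedPoints (R : Subgroup (MulAut G)) G = {1} := by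
    refine Set.eq_singleton_iff_unique_mem.mpr ⟨fun f => map_one (f : MulAut G), fun g hg => ?_⟩
    by_contra hg1
    obtain ⟨k, hk⟩ := (IsPGroup.iff_orderOf.mp hG) g
    rcases k with - | k
    · exact hg1 (orderOf_eq_one_iff.mp (by simpa using hk))
    set y := g ^ (2 ^ k) with hy
    have hy2 : y ^ 2 = 1 := by rw [hy, ← pow_mul, ← pow_succ, ← hk, pow_orderOf_eq_one]
    have hy1 : y ≠ 1 := by
      intro h
      have h5 := orderOf_dvd_of_pow_eq_one h
      rw [hk, Nat.pow_dvd_pow_iff_le_right (by norm_num)] at h5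
      omega
    have hle : (R : Subgroup (MulAut G)) ≤ MulAction.stabilizer (MulAut G) y := by
      intro f hf
      have : f g = g := hg ⟨f, hf⟩
      rw [MulAction.mem_stabilizer_iff, MulAut.smul_def, hy, map_pow, this]
    obtain ⟨f, hf⟩ := htrans x y hx1 hx2 hy1 hy2
    have he : MulAction.orbit (MulAut G) y = MulAction.orbit (MulAut G) x :=
      MulAction.orbit_eq_iff.mpr ⟨f, hf⟩
    refine R.not_dvd_index ?_
    refine dvd_trans ?_ (Subgroup.index_dvd_of_le hle)
    rwa [MulAction.index_stabilizer, he, horb]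
  have := R.2.card_modEq_card_fixedPoints G
  rw [hfix, Nat.card_coe_set_eq, Set.ncard_singleton, ha] at this
  exact (Nat.modEq_iff_dvd' Nat.one_le_two_pow).mp this.symm

end Cfsg.Agent.S3774
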