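import Cfsg.Statements.S3775
import Cfsg.Agent.Lib.Solv.AbelianIndecomposable
-- import your own Cfsg.Agent.* helpers here

set_option autoImplicit false
open Cfsg

namespace Cfsg.Agent.S3775

/-- Let A be a finite abelian p-group and X a group of automorphisms of A of order prime to p. Call a subgroup of A invariant when every element of X maps it onto itself. Then the following are equivalent: (i) A is not the direct product of two nontrivial invariant subgroups; (ii) every invariant subgroup of A is one of the subgroups Ω_i(A) = {a : a^(p^i) = 1}; (iii) the subgroup Ω₁(A) of elements of order dividing p has no invariant subgroups other than 1 and itself. -/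
theorem result {A : Type*} [CommGroup A] [Finite A] {p : ℕ} [Fact p.Prime] (hA : IsPGroup p A) (X : Subgroup (MulAut A)) (hX : (Nat.card X).Coprime p) : ((¬ ∃ B C : Subgroup A, B ≠ ⊥ ∧ C ≠ ⊥ ∧ (∀ x ∈ X, B.map x.toMonoidHom = B) ∧ (∀ x ∈ X, C.map x.toMonoidHom = C) ∧ B ⊓ C = ⊥ ∧ B ⊔ C = ⊤) ↔ (∀ B : Subgroup A, (∀ x ∈ X, B.map x.toMonoidHom = B) → ∃ i : ℕ, ∀ a : A, a ∈ B ↔ a ^ p ^ i = 1)) ∧ ((∀ B : Subgroup A, (∀ x ∈ X, B.map x.toMonoidHom = B) → ∃ i : ℕ, ∀ a : A, a ∈ B ↔ a ^ p ^ i = 1) ↔ (∀ B : Subgroup A, (∀ x ∈ X, B.map x.toMonoidHom = B) → (∀ b ∈ B, b ^ p = 1) → B = ⊥ ∨ ∀ a : A, a ∈ B ↔ a ^ p = 1)) := by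
  constructor
  · constructor
    · intro h B hB
      exact Cfsg.Agent.Solv.AbInd.uniserial hA (Cfsg.Agent.Solv.AbInd.irreducible_of_indecomposable hA hX
        fun B C h1 h2 h3 h4 h5 h6 => h ⟨B, C, h1, h2, h3, h4, h5, h6⟩) _ B le_rfl hB
    · rintro h ⟨B, C, hB0, hC0, hB, hC, hBC, -⟩
      obtain ⟨i, hi⟩ := h B hB
      obtain ⟨j, hj⟩ := h C hC
      obtain ⟨b, hb, hbp, hb1⟩ := Cfsg.Agent.Solv.AbInd.exists_order_p hA hB0
      rcases j with _ | j
      · exact hC0 ((Subgroup.eq_bot_iff_forall _).mpr fun c hc => by simpa using (hj c).mp hc)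
      · exact hb1 (Subgroup.mem_bot.mp (hBC.le ⟨hb, (hj b).mpr (by rw [pow_succ', pow_mul, hbp, one_pow])⟩))
  · constructor
    · intro h B hB hp
      obtain ⟨i, hi⟩ := h B hB
      rcases i with _ | i
      · exact Or.inl ((Subgroup.eq_bot_iff_forall _).mpr fun c hc => by simpa using (hi c).mp hc)
      · exact Or.inr fun a => ⟨hp a, fun ha => (hi a).mpr (by rw [pow_succ', pow_mul, ha, one_pow])⟩
    · intro h B hB
      exact Cfsg.Agent.Solv.AbInd.uniserial hA h _ B le_rfl hB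

end Cfsg.Agent.S3775
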