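import Cfsg.Statements.S3778


set_option autoImplicit false
open Cfsg
open Subgroup
open scoped commutatorElement

namespace Cfsg.Agent.S3778

theorem lcs_normal' {G : Type*} [Group G] (i : ℕ) :
    ((⊤ : Subgroup G).lowerCentralSeries i).Normal := inferInstance


/-- If G is a finite p-group in which every conjugacy class has at most p^b elements (every element has centralizer of index at most p^b), then G is abelian when b = 0, and when b ≥ 1 its nilpotency class c satisfies (c − 1)(p − 1) < bp, that is c < bp/(p − 1) + 1, and hence c ≤ 2b. -/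
theorem result {G : Type*} [Group G] [Finite G] {p : ℕ} [Fact p.Prime] (hG : IsPGroup p G) (b : ℕ) (hb : ∀ x : G, (Subgroup.centralizer ({x} : Set G)).index ≤ p ^ b) : ∃ c : ℕ, (⊤ : Subgroup G).lowerCentralSeries c = ⊥ ∧ (b ≠ 0 → (c - 1) * (p - 1) < b * p ∧ c ≤ 2 * b) ∧ (b = 0 → c ≤ 1) := by
  classical
  haveI : Fintype G := Fintype.ofFinite G
  haveI := hG.isNilpotent
  have hp : p.Prime := Fact.out
  have hex := (Subgroup.nilpotent_iff_lowerCentralSeries (G := G)).mp inferInstance
  refine ⟨Nat.find hex, Nat.find_spec hex, fun hb0 => ?_, fun hb0 => ?_⟩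
  swap
  · subst hb0
    refine Nat.find_min' hex ?_
    rw [Subgroup.lowerCentralSeries_succ, Subgroup.lowerCentralSeries_zero,
      commutator_top_right_eq_bot_iff_le_center]
    intro x _
    have h1 := hb x
    rw [pow_zero] at h1
    have h2 : Subgroup.centralizer ({x} : Set G) = ⊤ :=
      Subgroup.index_eq_one.1 (le_antisymm h1 (Nat.one_le_iff_ne_zero.2 index_ne_zero_of_finite))
    refine Subgroup.mem_center_iff.2 fun g => ?_
    have h3 : g ∈ Subgroup.centralizer ({x} : Set G) := h2 ▸ mem_top g
    exact (Subgroup.mem_centralizer_iff.1 h3 x rfl).symm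
  set c := Nat.find hex with hc
  suffices h : (c - 1) * (p - 1) < b * p by
    refine ⟨h, ?_⟩
    have h2 := hp.two_le
    have h3 : (c - 1) < 2 * b := by
      refine Nat.lt_of_mul_lt_mul_right (a := p - 1) (h.trans_le ?_)
      rw [mul_comm 2 b, mul_assoc]
      exact Nat.mul_le_mul_left b (by omega)
    omega
  rcases le_or_gt c 1 with hc1 | hc1
  · rw [Nat.sub_eq_zero_of_le hc1, zero_mul]
    exact Nat.mul_pos (Nat.pos_of_ne_zero hb0) hp.pos
  let L : ℕ → Subgroup G := fun i => (⊤ : Subgroup G).lowerCentralSeries i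
  have hanti : ∀ i, L (i + 1) ≤ L i := fun i =>
    Subgroup.lowerCentralSeries_antitone (S := (⊤ : Subgroup G)) (Nat.le_succ i)
  haveI : ∀ i, (L i).Normal := fun i => lcs_normal' i
  let C : ℕ → Subgroup G := fun i => (Subgroup.centralizer
    (((L i).map (QuotientGroup.mk' (L (i + 2)))) : Set (G ⧸ L (i + 2)))).comap
    (QuotientGroup.mk' (L (i + 2)))
  have hCmem : ∀ i x, x ∈ C i ↔ ∀ u ∈ L i, ⁅u, x⁆ ∈ L (i + 2) := by
    intro i x
    simp only [C, mem_comap, Subgroup.mem_centralizer_iff]
    constructor
    · intro h u hu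
      rw [← QuotientGroup.eq_one_iff]
      change QuotientGroup.mk' (L (i + 2)) ⁅u, x⁆ = 1
      rw [map_commutatorElement, commutatorElement_eq_one_iff_mul_comm]
      exact h _ (mem_map_of_mem _ hu)
    · rintro h _ ⟨u, hu, rfl⟩
      have h1 := h u hu
      rw [← QuotientGroup.eq_one_iff] at h1
      change QuotientGroup.mk' (L (i + 2)) ⁅u, x⁆ = 1 at h1
      rw [map_commutatorElement, commutatorElement_eq_one_iff_mul_comm] at h1
      exact h1
  have hCp : ∀ i < c - 1, Nat.card (C i) * p ≤ Nat.card G := by
    intro i hi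
    have hne : C i ≠ ⊤ := by
      intro htop
      have h1 : L (i + 1) ≤ L (i + 2) := by
        show (⊤ : Subgroup G).lowerCentralSeries (i + 1) ≤ L (i + 2)
        rw [Subgroup.lowerCentralSeries_succ]
        exact commutator_le.2 fun u hu x _ => (hCmem i x).1 (htop ▸ mem_top x) u hu
      have hall : ∀ m, L (i + 1) ≤ L (i + 1 + m) := by
        intro m
        induction m with
        | zero => exact le_rfl
        | succ m ih =>
          refine h1.trans ?_
          show (⊤ : Subgroup G).lowerCentralSeries (i + 1 + 1) ≤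
            (⊤ : Subgroup G).lowerCentralSeries (i + 1 + m + 1)
          rw [Subgroup.lowerCentralSeries_succ, Subgroup.lowerCentralSeries_succ]
          exact commutator_mono ih le_rfl
      refine Nat.find_min hex (show i + 1 < c by omega) (le_bot_iff.1 ?_)
      refine ((hall (c - (i + 1))).trans (le_of_eq ?_) : L (i + 1) ≤ ⊥)
      rw [show i + 1 + (c - (i + 1)) = c by omega]
      exact Nat.find_spec hex
    obtain ⟨e, he⟩ := hG.index (C i)
    have he0 : e ≠ 0 := fun h0 => hne (Subgroup.index_eq_one.1 (by rw [he, h0, pow_zero]))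
    rw [← (C i).card_mul_index, he]
    exact Nat.mul_le_mul_left _ (Nat.le_self_pow he0 p)
  -- some element avoids many of the subgroups
  obtain ⟨x, hx⟩ : ∃ x : G, (c - 1) * (p - 1) <
      p * ((Finset.range (c - 1)).filter (fun i => x ∉ C i)).card := by
    by_contra hcon
    simp only [not_exists, not_lt] at hcon
    have hsum : ∑ x : G, p * ((Finset.range (c - 1)).filter (fun i => x ∉ C i)).card <
        ∑ _x : G, (c - 1) * (p - 1) := by
      refine Finset.sum_lt_sum (fun x _ => hcon x) ⟨1, Finset.mem_univ _, ?_⟩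
      rw [Finset.filter_false_of_mem (fun i _ => not_not.2 (C i).one_mem), Finset.card_empty,
        mul_zero]
      exact Nat.mul_pos (by omega) (by have := hp.two_le; omega)
    have hge : ∀ i ∈ Finset.range (c - 1), Fintype.card G * (p - 1) ≤
        p * (Finset.univ.filter (fun x : G => x ∉ C i)).card := by
      intro i hi
      have h1 := hCp i (Finset.mem_range.1 hi)
      rw [Nat.card_eq_fintype_card (α := G)] at h1
      have h2 : (Finset.univ.filter (fun x : G => x ∈ C i)).card +
          (Finset.univ.filter (fun x : G => x ∉ C i)).card = Fintype.card G := by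
        rw [Finset.card_filter_add_card_filter_not, Finset.card_univ]
      have h3 : Nat.card (C i) = (Finset.univ.filter (fun x : G => x ∈ C i)).card := by
        rw [Nat.card_eq_fintype_card]
        exact Fintype.card_subtype _
      rw [h3] at h1
      zify [hp.one_le] at h1 h2 ⊢
      nlinarith
    have hswap : ∑ x : G, ((Finset.range (c - 1)).filter (fun i => x ∉ C i)).card =
        ∑ i ∈ Finset.range (c - 1), (Finset.univ.filter (fun x : G => x ∉ C i)).card := by
      simp only [Finset.card_filter]
      exact Finset.sum_comm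
    rw [← Finset.mul_sum, hswap, Finset.mul_sum, Finset.sum_const, Finset.card_univ,
      smul_eq_mul] at hsum
    have h4 := Finset.card_nsmul_le_sum _ _ _ hge
    rw [Finset.card_range, smul_eq_mul] at h4
    have h5 : (c - 1) * (Fintype.card G * (p - 1)) = Fintype.card G * ((c - 1) * (p - 1)) :=
      Nat.mul_left_comm _ _ _
    omega
  set Z := Subgroup.centralizer ({x} : Set G) with hZ
  have hstep : ∀ i, p ^ (if x ∈ C i then 0 else 1) * Z.relIndex (L (i + 1)) ≤ Z.relIndex (L i) := by
    intro i
    let E : Subgroup G := L (i + 1) ⊔ (Z ⊓ L i)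
    have hE : E ≤ L i := sup_le (hanti i) inf_le_right
    have h1 := relIndex_mul_relIndex (Z ⊓ L i) E (L i) le_sup_right hE
    rw [inf_relIndex_right] at h1
    have h2 : Z.relIndex (L (i + 1)) ≤ (Z ⊓ L i).relIndex E := by
      have h3 : (Z ⊓ L i).relIndex (L (i + 1)) = Z.relIndex (L (i + 1)) := by
        rw [← inf_relIndex_right (Z ⊓ L i), inf_assoc, inf_eq_right.2 (hanti i), inf_relIndex_right]
      rw [← h3]
      exact relIndex_le_of_le_right le_sup_left (by
        exact Nat.pos_iff_ne_zero.1 (Nat.pos_of_ne_zero index_ne_zero_of_finite))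
    rw [← h1, mul_comm]
    refine Nat.mul_le_mul h2 ?_
    split_ifs with hxi
    · rw [pow_zero]
      exact Nat.one_le_iff_ne_zero.2 index_ne_zero_of_finite
    rw [pow_one]
    obtain ⟨e, he⟩ := (hG.to_subgroup (L i)).index (E.subgroupOf (L i))
    change E.relIndex (L i) = _ at he
    rw [he]
    refine Nat.le_self_pow (fun he0 => hxi ((hCmem i x).2 fun u hu => ?_)) p
    rw [he0, pow_zero, relIndex_eq_one] at he
    obtain ⟨v, hv, z, hz, rfl⟩ := mem_sup_of_normal_left.1 (he hu)
    have hz1 : ⁅z, x⁆ = 1 := commutatorElement_eq_one_iff_mul_comm.2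
      (Subgroup.mem_centralizer_iff.1 (mem_inf.1 hz).1 x rfl).symm
    rw [commutatorElement_mul_left_eq_conj_mul, hz1]
    simp only [mul_one, mul_inv_cancel, one_mul, map_one]
    show ⁅v, x⁆ ∈ (⊤ : Subgroup G).lowerCentralSeries (i + 1 + 1)
    rw [Subgroup.lowerCentralSeries_succ]
    exact commutator_mem_commutator hv (mem_top x)
  have htel : ∀ k, p ^ ((Finset.range k).filter (fun i => x ∉ C i)).card * Z.relIndex (L k) ≤
      Z.relIndex (L 0) := by
    intro k
    induction k with
    | zero => simp
    | succ k ih =>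
      refine le_trans ?_ ih
      have h1 : ((Finset.range (k + 1)).filter (fun i => x ∉ C i)).card =
          ((Finset.range k).filter (fun i => x ∉ C i)).card + (if x ∈ C k then 0 else 1) := by
        simp only [Finset.card_filter, Finset.sum_range_succ]
        split_ifs <;> omega
      rw [h1, pow_add, mul_assoc]
      exact Nat.mul_le_mul_left _ (hstep k)
  have h6 : p ^ ((Finset.range (c - 1)).filter (fun i => x ∉ C i)).card ≤ p ^ b := by
    refine le_trans ?_ (hb x)
    have h7 := htel (c - 1)
    rw [show L 0 = ⊤ from Subgroup.lowerCentralSeries_zero _, relIndex_top_right] at h7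
    exact le_trans (Nat.le_mul_of_pos_right _ (Nat.pos_of_ne_zero index_ne_zero_of_finite)) h7
  have h8 := (Nat.pow_le_pow_iff_right hp.one_lt).1 h6
  calc (c - 1) * (p - 1) < _ := hx
    _ ≤ p * b := Nat.mul_le_mul_left p h8
    _ = b * p := mul_comm p b

end Cfsg.Agent.S3778
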