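import Cfsg.Statements.S3779
import Mathlib
import Cfsg.Agent.Lib.Struct.Kreknin
import Cfsg.Agent.Lib.Struct.Ward

set_option autoImplicit false
open Cfsg

namespace Cfsg.Agent.S3779

/-- Let G be a finite group with an automorphism of prime order p fixing only the identity. Then G is nilpotent; if p = 2 then G is abelian, if p = 3 then G has class at most 2, and in general the class of G is at most ξ = 1 + (p−1) + (p−1)² + ⋯ + (p−1)^(n−1) with n = 2^(p−1) − 1 (the Higman–Kreknin–Kostrikin bound). -/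
theorem result {G : Type*} [Group G] [Finite G] {p : ℕ} (hp : p.Prime) (α : MulAut G) (hα : orderOf α = p) (hfpf : ∀ g : G, α g = g → g = 1) : (p = 2 → (⊤ : Subgroup G).lowerCentralSeries 1 = ⊥) ∧ (p = 3 → (⊤ : Subgroup G).lowerCentralSeries 2 = ⊥) ∧ (⊤ : Subgroup G).lowerCentralSeries (Finset.sum (Finset.range (2 ^ (p - 1) - 1)) (fun i => (p - 1) ^ i)) = ⊥ := by
  haveI : Fact p.Prime := ⟨hp⟩
  have hper : ∀ g : G, (α : G → G)^[p] g = g := by
    intro g
    have h : α ^ p = 1 := hα ▸ pow_orderOf_eq_one α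
    have key : ∀ n : ℕ, (α ^ n : MulAut G) g = (α : G → G)^[n] g := by
      intro n
      induction n with
      | zero => rfl
      | succ m ih => rw [Function.iterate_succ_apply', ← ih, pow_succ']; rfl
    rw [← key, h]; rfl
  have hnil : Group.IsNilpotent G :=
    Cfsg.Agent.Solv.isNilpotent_of_fpf (φ := α) (fun g hg => hfpf g hg) hp hper
  have hcop : (Nat.card G).Coprime p := by
    have hZ : IsPGroup p (Subgroup.zpowers α) := IsPGroup.of_card (n := 1)
      (by rw [Nat.card_zpowers, hα, pow_one])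
    refine ((Nat.Prime.coprime_iff_not_dvd hp).2 fun hd => ?_).symm
    obtain ⟨w, hw1, hw⟩ := Cfsg.Agent.Struct.Ward.exists_fixed hZ (Subgroup.zpowers α).subtype hd
    exact hw1 (hfpf w (hw ⟨α, Subgroup.mem_zpowers α⟩))
  have main : (⊤ : Subgroup G).lowerCentralSeries
      (Finset.sum (Finset.range (2 ^ (p - 1) - 1)) (fun i => (p - 1) ^ i)) = ⊥ :=
    Cfsg.Agent.Struct.Kreknin.lcs_eq_bot p hnil α hfpf hper hcop
      (fun M _ E hE h0 => Cfsg.Agent.Struct.GradedLie.gam_eq_bot hE h0)
  refine ⟨?_, ?_, main⟩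
  · rintro rfl
    simpa using main
  · rintro rfl
    exact Cfsg.Agent.Struct.Kreknin.lcs_eq_bot 3 hnil α hfpf hper hcop
      (fun M _ E hE h0 => Cfsg.Agent.Struct.GradedLie.gam_two_eq_bot hE h0)

end Cfsg.Agent.S3779
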