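import Cfsg.Statements.S3780


set_option autoImplicit false
open Cfsg
open Subgroup

namespace Cfsg.Agent.S3780

/-- Let V be a finite abelian p-group and α an automorphism of V of order p whose fixed-point subgroup has order p^n. Then V can be generated by pn elements: some subset of V with at most pn elements generates V. -/
theorem result {V : Type*} [CommGroup V] [Finite V] {p : ℕ} [Fact p.Prime] (hV : IsPGroup p V) (α : MulAut V) (hα : orderOf α = p) (n : ℕ) (hfix : Nat.card {v : V // α v = v} = p ^ n) : ∃ S : Finset V, S.card ≤ p * n ∧ Subgroup.closure (S : Set V) = ⊤ := by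
  classical
  have hp : p.Prime := Fact.out
  let W : Subgroup V := (powMonoidHom p).ker
  have hWmem : ∀ w : V, w ∈ W ↔ w ^ p = 1 := fun w => Iff.rfl
  -- the endomorphism `w ↦ α w / w` of `W`
  let a : AddMonoid.End (Additive W) := MonoidHom.toAdditive
    { toFun := fun w => (⟨α w, by rw [hWmem, ← map_pow, (hWmem _).1 w.2, map_one]⟩ : W)
      map_one' := Subtype.ext (map_one α)
      map_mul' := fun u v => Subtype.ext (map_mul α _ _) }
  have hpz : ((p : ℕ) : AddMonoid.End (Additive W)) = 0 := by
    refine DFunLike.ext _ _ fun w => ?_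
    change p • w = 0
    exact Additive.toMul.injective (Subtype.ext ((hWmem _).1 w.toMul.2))
  have ha : a ^ p = 1 := by
    refine DFunLike.ext _ _ fun w => ?_
    have h : ∀ k : ℕ, ((((a ^ k) w).toMul : W) : V) = (α ^ k) (w.toMul : V) := by
      intro k
      induction k with
      | zero => rfl
      | succ k ih =>
        rw [pow_succ', pow_succ', MulAut.mul_apply, ← ih]
        rfl
    refine Additive.toMul.injective (Subtype.ext ?_)
    rw [h, ← hα, pow_orderOf_eq_one]
    rfl
  have hnil : (a - 1) ^ p = 0 := by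
    obtain ⟨r, hr⟩ := Commute.exists_add_pow_prime_eq hp
      ((Commute.one_right a).neg_right : Commute a (-1))
    rw [sub_eq_add_neg, hr, ha, hpz]
    rcases hp.eq_two_or_odd' with rfl | hodd
    · rw [neg_one_sq]
      simpa [one_add_one_eq_two] using hpz
    · rw [hodd.neg_one_pow]
      simp
  let F : ℕ → (Additive W →+ Additive W) := fun k => ((a - 1) ^ k : AddMonoid.End (Additive W))
  have hF0 : ∀ w, F 0 w = w := fun w => rfl
  have hFs : ∀ k w, F (k + 1) w = (a - 1) (F k w) := fun k w => by
    show ((a - 1) ^ (k + 1)) w = _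
    rw [pow_succ']
    rfl
  have hFp : ∀ w, F p w = 0 := fun w => by
    show ((a - 1) ^ p) w = _
    rw [hnil]
    rfl
  let f₁ : Additive W →+ Additive W := (a - 1 : AddMonoid.End (Additive W))
  have hk1 : Nat.card f₁.ker ≤ p ^ n := by
    rw [← hfix]
    refine Nat.card_le_card_of_injective
      (fun w => (⟨((w.1.toMul : W) : V), ?_⟩ : {v : V // α v = v})) ?_
    · have h := w.2
      change a w.1 - w.1 = 0 at h
      rw [sub_eq_zero] at h
      exact congrArg (fun z : Additive W => ((z.toMul : W) : V)) h
    · intro u v h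
      exact Subtype.ext (Additive.toMul.injective (Subtype.ext
        (congrArg (fun z : {v : V // α v = v} => (z : V)) h)))
  have hk : ∀ k, Nat.card (F k).ker ≤ p ^ (n * k) := by
    intro k
    induction k with
    | zero =>
      rw [mul_zero, pow_zero]
      refine le_of_eq (Nat.card_eq_one_iff_unique.2 ⟨⟨fun u v => ?_⟩, inferInstance⟩)
      exact Subtype.ext (((hF0 _).symm.trans u.2).trans ((hF0 _).symm.trans v.2).symm)
    | succ k ih =>
      let g : (F (k + 1)).ker →+ f₁.ker :=
        { toFun := fun w => ⟨F k w.1, (hFs k w.1).symm.trans w.2⟩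
          map_zero' := Subtype.ext (map_zero _)
          map_add' := fun u v => Subtype.ext (map_add _ _ _) }
      have h1 : Nat.card (F (k + 1)).ker = Nat.card g.range * Nat.card g.ker := by
        rw [← Nat.card_congr (QuotientAddGroup.quotientKerEquivRange g).toEquiv,
          ← g.ker.card_eq_card_quotient_mul_card_addSubgroup]
      have h2 : Nat.card g.ker ≤ Nat.card (F k).ker := by
        refine Nat.card_le_card_of_injective (fun w => ⟨w.1.1, ?_⟩) ?_
        · exact AddMonoidHom.mem_ker.2 (congrArg Subtype.val (AddMonoidHom.mem_ker.1 w.2))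
        · intro u v h
          have := congrArg Subtype.val h
          exact Subtype.ext (Subtype.ext this)
      have h3 : Nat.card g.range ≤ Nat.card f₁.ker :=
        Nat.card_le_card_of_injective _ Subtype.val_injective
      rw [h1, show n * (k + 1) = n + n * k by ring, pow_add]
      exact Nat.mul_le_mul (h3.trans hk1) (h2.trans ih)
  have hW : Nat.card W ≤ p ^ (p * n) := by
    refine le_trans ?_ ((hk p).trans (le_of_eq (by rw [mul_comm])))
    refine Nat.card_le_card_of_injective (fun w => ⟨Additive.ofMul w, ?_⟩) ?_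
    · exact hFp _
    · intro u v h
      exact Additive.ofMul.injective (congrArg Subtype.val h)
  let R : Subgroup V := (powMonoidHom p).range
  have hR : R.index = Nat.card W := by
    refine Nat.eq_of_mul_eq_mul_left (Nat.card_pos (α := R)) ?_
    rw [R.card_mul_index, ← W.card_mul_index, show W.index = Nat.card R from index_ker _, mul_comm]
  have key : ∀ k, k ≤ p * n → ∃ S : Finset V, S.card ≤ k ∧ (R ⊔ closure (S : Set V) = ⊤ ∨
      (R ⊔ closure (S : Set V)).index * p ^ k ≤ Nat.card W) := by
    intro k
    induction k with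
    | zero => exact fun _ => ⟨∅, by simp, Or.inr (by simp [hR])⟩
    | succ k ih =>
      intro hk'
      obtain ⟨S, hS, h⟩ := ih (Nat.le_of_succ_le hk')
      rcases h with h | h
      · exact ⟨S, Nat.le_succ_of_le hS, Or.inl h⟩
      by_cases htop : R ⊔ closure (S : Set V) = ⊤
      · exact ⟨S, Nat.le_succ_of_le hS, Or.inl htop⟩
      obtain ⟨v, -, hv⟩ := SetLike.exists_of_lt (lt_top_iff_ne_top.2 htop)
      refine ⟨insert v S, (Finset.card_insert_le _ _).trans (Nat.succ_le_succ hS), Or.inr ?_⟩
      have hle : R ⊔ closure (S : Set V) ≤ R ⊔ closure ((insert v S : Finset V) : Set V) :=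
        sup_le_sup_left (Subgroup.closure_mono (by simp)) _
      obtain ⟨e, he⟩ := (hV.to_subgroup (R ⊔ closure ((insert v S : Finset V) : Set V))).index
        ((R ⊔ closure (S : Set V)).subgroupOf _)
      change (R ⊔ closure (S : Set V)).relIndex _ = _ at he
      have he0 : e ≠ 0 := by
        rintro rfl
        rw [pow_zero, relIndex_eq_one] at he
        exact hv (he (mem_sup_right (subset_closure (by simp))))
      rw [← relIndex_mul_index hle, he] at h
      refine le_trans ?_ h
      rw [pow_succ', ← mul_assoc, mul_comm _ p]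
      exact Nat.mul_le_mul_right _ (Nat.mul_le_mul_right _ (Nat.le_self_pow he0 p))
  obtain ⟨S, hS, hSt⟩ := key (p * n) le_rfl
  have htop : R ⊔ closure (S : Set V) = ⊤ := by
    rcases hSt with h | h
    · exact h
    · refine index_eq_one.1 (le_antisymm ?_ (Nat.one_le_iff_ne_zero.2 index_ne_zero_of_finite))
      exact Nat.le_of_mul_le_mul_right ((h.trans hW).trans (le_of_eq (one_mul _).symm))
        (pow_pos hp.pos _)
  refine ⟨S, hS, eq_top_iff.2 fun v _ => ?_⟩
  have hiter : ∀ k, ∀ v : V, ∃ s ∈ closure (S : Set V), ∃ u : V, v = s * u ^ (p ^ k) := by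
    intro k
    induction k with
    | zero => exact fun v => ⟨1, one_mem _, v, by simp⟩
    | succ k ih =>
      intro v
      obtain ⟨s, hs, u, rfl⟩ := ih v
      obtain ⟨_, ⟨y, rfl⟩, z, hz, rfl⟩ := mem_sup_of_normal_left.1 (htop ▸ mem_top u : u ∈ R ⊔ _)
      refine ⟨s * z ^ (p ^ k), mul_mem hs (pow_mem hz _), y, ?_⟩
      rw [powMonoidHom_apply, mul_pow, ← pow_mul, ← pow_succ', mul_comm _ (z ^ p ^ k), mul_assoc]
  obtain ⟨e, he⟩ := IsPGroup.iff_card.1 hV
  obtain ⟨s, hs, u, rfl⟩ := hiter e v
  rw [← he, pow_card_eq_one', mul_one]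
  exact hs

end Cfsg.Agent.S3780
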