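import Cfsg.Statements.S3783
import Cfsg.Agent.Lib.Solv.PLength
import Cfsg.Agent.Lib.Solv.PSolvable
import Cfsg.Agent.Lib.Solv.Coprime
import Cfsg.Agent.Lib.Solv.StructMisc
import Mathlib

set_option autoImplicit false
open Cfsg

namespace Cfsg.Agent.S3783

open Module Subgroup
open scoped commutatorElement

universe u

/-- The eigenspace argument. -/
theorem lin {F : Type*} [Field F] [IsAlgClosed F] {H : Type*} [Group H] [Finite H] {W : Type*} [AddCommGroup W] [Module F W]
    [FiniteDimensional F W] (ρ : H →* End F W) (Q : Subgroup H) (hQ : ∀ a ∈ Q, ∀ b ∈ Q, a * b = b * a)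
    (hQF : (Nat.card Q : F) ≠ 0) (y : H) (hy : ∀ a ∈ Q, y⁻¹ * a * y ∈ Q) {p m : ℕ} (hp : p.Prime)
    (hyN : y ^ p ^ (m + 1) = 1) (htr : ∀ w, ∑ i ∈ Finset.range (p ^ (m + 1)), ρ (y ^ i) w = 0) :
    ∀ a ∈ Q, ρ (y ^ p ^ m * a) = ρ (a * y ^ p ^ m) := by
  classical
  have hy' : ∀ (i : ℕ), ∀ a ∈ Q, (y ^ i)⁻¹ * a * y ^ i ∈ Q := by
    intro i
    induction i with
    | zero => intro a ha; simpa using ha
    | succ i ih =>
      intro a ha
      rw [show (y ^ (i + 1))⁻¹ * a * y ^ (i + 1) = y⁻¹ * ((y ^ i)⁻¹ * a * y ^ i) * y by rw [pow_succ]; group]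
      exact hy _ (ih a ha)
  let f : Q → End F W := fun a => ρ (a : H)
  have hfc : ∀ a b : Q, Commute (f a) (f b) := fun a b => by
    show ρ (a : H) * ρ (b : H) = ρ (b : H) * ρ (a : H)
    rw [← map_mul, ← map_mul, hQ a a.2 b b.2]
  have hsemi : ∀ a : Q, End.IsFinitelySemisimple (f a) := by
    intro a
    rw [End.isFinitelySemisimple_iff_isSemisimple]
    refine End.isSemisimple_of_squarefree_aeval_eq_zero (p := Polynomial.X ^ Nat.card Q - Polynomial.C (1 : F))
      (Polynomial.separable_X_pow_sub_C (1 : F) hQF one_ne_zero).squarefree ?_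
    rw [map_sub, map_pow, Polynomial.aeval_X, Polynomial.aeval_C, map_one, ← map_pow, ← SubgroupClass.coe_pow,
      pow_card_eq_one', OneMemClass.coe_one, map_one, sub_self]
  have hmax : ∀ (a : Q) μ, (f a).maxGenEigenspace μ = (f a).eigenspace μ := fun a μ => (hsemi a).maxGenEigenspace_eq_eigenspace μ
  have hspan := End.iSup_iInf_maxGenEigenspace_eq_top_of_iSup_maxGenEigenspace_eq_top_of_commute f
    (fun i j _ => hfc i j) (fun i => End.iSup_maxGenEigenspace_eq_top (f i))
  have hindep := End.independent_iInf_maxGenEigenspace_of_forall_mapsTo f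
    (fun i j φ => End.mapsTo_maxGenEigenspace_of_comm (hfc j i) φ)
  let Wc : (Q → F) → Submodule F W := fun χ => ⨅ a, (f a).maxGenEigenspace (χ a)
  have hW : ∀ χ v, v ∈ Wc χ ↔ ∀ a : Q, ρ (a : H) v = χ a • v := fun χ v => by
    simp only [Wc, hmax, Submodule.mem_iInf, End.mem_eigenspace_iff]
    rfl
  let σ : (Q → F) → Q → F := fun χ a => χ ⟨y⁻¹ * a * y, hy a a.2⟩
  have hσ : ∀ (i : ℕ) (χ : Q → F) (a : Q), σ^[i] χ a = χ ⟨(y ^ i)⁻¹ * a * y ^ i, hy' i a a.2⟩ := by
    intro i
    induction i with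
    | zero => intro χ a; simp
    | succ i ih =>
      intro χ a
      rw [Function.iterate_succ_apply, ih]
      show χ ⟨y⁻¹ * ((y ^ i)⁻¹ * a * y ^ i) * y, _⟩ = _
      congr 1
      refine Subtype.ext ?_
      show y⁻¹ * ((y ^ i)⁻¹ * a * y ^ i) * y = (y ^ (i + 1))⁻¹ * a * y ^ (i + 1)
      rw [pow_succ]; group
  have hmove : ∀ χ (i : ℕ), ∀ v ∈ Wc χ, ρ (y ^ i) v ∈ Wc (σ^[i] χ) := fun χ i v hv => (hW _ _).2 fun a => by
    rw [hσ, ← map_smul, ← (hW χ v).1 hv, ← End.mul_apply, ← map_mul, ← End.mul_apply, ← map_mul]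
    congr 2
    show (a : H) * y ^ i = y ^ i * ((y ^ i)⁻¹ * a * y ^ i)
    group
  intro a ha
  refine LinearMap.ext fun v => ?_
  have hv : v ∈ ⨆ χ, Wc χ := hspan ▸ Submodule.mem_top
  induction hv using Submodule.iSup_induction' with
  | zero => rw [map_zero, map_zero]
  | add u w _ _ h1 h2 => rw [map_add, map_add, h1, h2]
  | mem χ v hv =>
    by_cases hper : σ^[p ^ m] χ = χ
    · have h := (hW _ _).1 (hmove χ (p ^ m) v hv) ⟨a, ha⟩
      rw [hper] at h
      rw [map_mul, map_mul, End.mul_apply, End.mul_apply, h, (hW χ v).1 hv ⟨a, ha⟩, map_smul]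
    · have hne : ∀ i, 0 < i → i < p ^ (m + 1) → σ^[i] χ ≠ χ := by
        intro i h0 hi he
        have hN : Function.IsPeriodicPt σ (p ^ (m + 1)) χ := funext fun b => by
          rw [hσ]
          congr 1
          exact Subtype.ext (by simp [hyN])
        have h1 := (show Function.IsPeriodicPt σ i χ from he).minimalPeriod_dvd
        obtain ⟨j, hj, hjd⟩ := (Nat.dvd_prime_pow hp).1 hN.minimalPeriod_dvd
        have hjm : j ≤ m := by
          by_contra hc
          have : j = m + 1 := by omega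
          rw [hjd, this] at h1
          exact Nat.not_le.2 hi (Nat.le_of_dvd h0 h1)
        apply hper
        refine Function.isPeriodicPt_iff_minimalPeriod_dvd.2 ?_
        rw [hjd]
        exact pow_dvd_pow p hjm
      have hv0 : v = 0 := by
        obtain ⟨M, hM⟩ : ∃ M, p ^ (m + 1) = M + 1 := ⟨p ^ (m + 1) - 1, by have := pow_pos hp.pos (m + 1); omega⟩
        have h0 := htr v
        rw [hM, Finset.sum_range_succ', pow_zero, map_one, End.one_apply] at h0
        have h1 : v = -∑ k ∈ Finset.range M, ρ (y ^ (k + 1)) v := eq_neg_of_add_eq_zero_right h0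
        refine Submodule.disjoint_def.1 (hindep χ) _ hv ?_
        rw [h1]
        refine neg_mem (Submodule.sum_mem _ fun k hk => ?_)
        exact Submodule.mem_iSup_of_mem (σ^[k + 1] χ)
          (Submodule.mem_iSup_of_mem (hne (k + 1) (Nat.succ_pos k) (by have := Finset.mem_range.1 hk; omega)) (hmove χ (k + 1) v hv))
      rw [hv0, map_zero, map_zero]

/-- Passage to an algebraically closed field. -/
theorem lin_zmod {p : ℕ} [Fact p.Prime] {H : Type*} [Group H] [Finite H] {W : Type*} [AddCommGroup W] [Module (ZMod p) W]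
    [Finite W] (ρ : H →* End (ZMod p) W) (Q : Subgroup H) (hQ : ∀ a ∈ Q, ∀ b ∈ Q, a * b = b * a)
    (hQp : ¬ p ∣ Nat.card Q) (y : H) (hy : ∀ a ∈ Q, y⁻¹ * a * y ∈ Q) (m : ℕ)
    (hyN : y ^ p ^ (m + 1) = 1) (htr : ∀ w, ∑ i ∈ Finset.range (p ^ (m + 1)), ρ (y ^ i) w = 0) :
    ∀ a ∈ Q, ρ (y ^ p ^ m * a) = ρ (a * y ^ p ^ m) := by
  classical
  haveI : Module.Finite (ZMod p) W := Module.Finite.of_finite
  let bV := Module.finBasis (ZMod p) W
  set n := Module.finrank (ZMod p) W
  let F := AlgebraicClosure (ZMod p)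
  let M : H →* Matrix (Fin n) (Fin n) (ZMod p) :=
    { toFun := fun g => LinearMap.toMatrix bV bV (ρ g)
      map_one' := by rw [map_one]; exact LinearMap.toMatrix_id bV
      map_mul' := fun g h => by rw [map_mul]; exact LinearMap.toMatrix_comp bV bV bV _ _ }
  let MF : H →* Matrix (Fin n) (Fin n) F := ((algebraMap (ZMod p) F).mapMatrix).toMonoidHom.comp M
  let σ : H →* End F (Fin n → F) := (Matrix.toLinAlgEquiv' (R := F) (n := Fin n)).toMonoidHom.comp MF
  have hσ : ∀ g v, σ g v = (MF g).mulVec v := fun g v => rfl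
  have hF : (Nat.card Q : F) ≠ 0 := by
    haveI : CharP F p := charP_of_injective_algebraMap (algebraMap (ZMod p) F).injective p
    rw [Ne, CharP.cast_eq_zero_iff F p]
    exact hQp
  have hM0 : ∑ i ∈ Finset.range (p ^ (m + 1)), M (y ^ i) = 0 := by
    show ∑ i ∈ Finset.range (p ^ (m + 1)), LinearMap.toMatrix bV bV (ρ (y ^ i)) = 0
    rw [← map_sum, show (∑ i ∈ Finset.range (p ^ (m + 1)), ρ (y ^ i)) = 0 from LinearMap.ext fun w => by
      rw [LinearMap.sum_apply]; exact htr w, map_zero]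
  have htr' : ∀ v, ∑ i ∈ Finset.range (p ^ (m + 1)), σ (y ^ i) v = 0 := fun v => by
    rw [Finset.sum_congr rfl (fun i _ => hσ (y ^ i) v), ← Matrix.sum_mulVec]
    show (∑ i ∈ Finset.range (p ^ (m + 1)), (algebraMap (ZMod p) F).mapMatrix (M (y ^ i))).mulVec v = 0
    rw [← map_sum, hM0, map_zero, Matrix.zero_mulVec]
  intro a ha
  have h := lin σ Q hQ hF y hy (Fact.out : p.Prime) hyN htr' a ha
  have h' : MF (y ^ p ^ m * a) = MF (a * y ^ p ^ m) := (Matrix.toLinAlgEquiv' (R := F) (n := Fin n)).injective h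
  exact (LinearMap.toMatrix bV bV).injective (Matrix.map_injective (algebraMap (ZMod p) F).injective h')

variable {p : ℕ} [Fact p.Prime]

theorem centralizer_pPrimeCore {G : Type u} [Group G] [Finite G] (hG : IsPSolvable p G) (h0 : pCore p G = ⊥) :
    centralizer (pPrimeCore p G : Set G) ≤ pPrimeCore p G := by
  classical
  haveI := Cfsg.Agent.Solv.pPrimeCore_characteristic p G
  haveI : (pPrimeCore p G).Normal := inferInstance
  set C := centralizer (pPrimeCore p G : Set G) with hC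
  haveI : C.Normal := Subgroup.normal_centralizer
  have hC0 : pCore p C = ⊥ := by
    apply map_injective C.subtype_injective
    rw [Subgroup.map_bot, Cfsg.Agent.Solv.pCore_map_subtype, h0, bot_inf_eq]
  set Z := pPrimeCore p C with hZ
  have hZle : Z.map C.subtype ≤ pPrimeCore p G := by
    rw [hZ, Cfsg.Agent.Solv.pPrimeCore_map_subtype]; exact inf_le_left
  haveI := Cfsg.Agent.Solv.pPrimeCore_characteristic p C
  haveI : Z.Normal := inferInstance
  suffices hZt : Z = ⊤ by
    intro c hc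
    exact hZle ⟨⟨c, hc⟩, hZt ▸ mem_top _, rfl⟩
  by_contra hne
  haveI : Nontrivial (C ⧸ Z) := QuotientGroup.nontrivial_iff.2 hne
  rcases Cfsg.Agent.Solv.core_ne_bot_of_isPSolvable
      (Cfsg.Agent.Solv.isPSolvable_quotient (Cfsg.Agent.Solv.isPSolvable_subgroup hG C) Z) with h1 | h1
  · set K := (pCore p (C ⧸ Z)).comap (QuotientGroup.mk' Z) with hK
    haveI hKn : K.Normal := Normal.comap inferInstance _
    haveI : Group.IsNilpotent K := by
      haveI : Group.IsNilpotent (pCore p (C ⧸ Z)) := (Cfsg.Agent.Solv.isPGroup_pCore p _).isNilpotent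
      let f : K →* pCore p (C ⧸ Z) := (QuotientGroup.mk' Z).subgroupComap _
      refine Subgroup.isNilpotent_of_ker_le_center f fun k hk => mem_center_iff.2 fun l => Subtype.ext (Subtype.ext ?_)
      have hkZ : (k : C) ∈ Z := (QuotientGroup.eq_one_iff (k : C)).1 (congrArg Subtype.val hk)
      exact (mem_centralizer_iff.1 (l : C).2 _ (hZle ⟨_, hkZ, rfl⟩)).symm
    obtain ⟨P⟩ : Nonempty (Sylow p K) := inferInstance
    haveI : (P : Subgroup K).Normal := P.normal_of_normalizerCondition Group.normalizerCondition_of_isNilpotent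
    haveI : (P : Subgroup K).Characteristic := P.characteristic_of_normal ‹_›
    have hP : (P : Subgroup K) = ⊥ := by
      apply map_injective K.subtype_injective
      rw [Subgroup.map_bot, eq_bot_iff, ← hC0]
      exact Cfsg.Agent.Solv.le_pCore (P.isPGroup'.map _)
    apply h1
    rw [← map_comap_eq_self_of_surjective (QuotientGroup.mk'_surjective Z) (pCore p (C ⧸ Z)), ← hK, Subgroup.map_eq_bot_iff,
      QuotientGroup.ker_mk', hZ]
    refine Cfsg.Agent.Solv.le_pPrimeCore (((Fact.out : p.Prime).coprime_iff_not_dvd.2 fun hd => ?_).symm)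
    exact P.ne_bot_of_dvd_card hd hP
  · exact h1 (Cfsg.Agent.Solv.pPrimeCore_quotient_pPrimeCore p)

theorem aux (N : ℕ) : ∀ (G : Type u) [Group G] [Finite G], Nat.card G = N → IsPSolvable p G →
    (∀ (q : ℕ) [Fact q.Prime], q ≠ p → ∀ Q : Sylow q G, IsMulCommutative (Q : Subgroup G)) →
    ∀ n : ℕ, (∀ (P : Sylow p G), ∀ x ∈ (P : Subgroup G), x ^ p ^ n = 1) → PLengthLE p n G := by
  induction N using Nat.strong_induction_on with
  | _ N ih =>
  intro G _ _ hN hG hab n hexp
  classical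
  have hp : p.Prime := Fact.out
  by_cases hdvd : p ∣ Nat.card G
  swap
  · exact Cfsg.Agent.Solv.pLengthLE_mono (Cfsg.Agent.Solv.pLengthLE_zero_of_coprime (hp.coprime_iff_not_dvd.2 hdvd).symm) (Nat.zero_le n)
  obtain ⟨k, rfl⟩ : ∃ k, n = k + 1 := by
    rcases n with _ | k
    · obtain ⟨x, hx⟩ := exists_prime_orderOf_dvd_card' p hdvd
      obtain ⟨P, hP⟩ := (IsPGroup.of_card (p := p) (G := zpowers x) (n := 1) (by rw [Nat.card_zpowers, hx, pow_one])).exists_le_sylow
      have := hexp P x (hP (mem_zpowers x))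
      rw [pow_zero, pow_one] at this
      rw [this, orderOf_one] at hx
      exact absurd hx.symm hp.ne_one
    · exact ⟨k, rfl⟩
  have hlt : ∀ (M : Subgroup G) [M.Normal], M ≠ ⊥ → Nat.card (G ⧸ M) < N := by
    intro M _ hM
    rw [← hN, card_eq_card_quotient_mul_card_subgroup M]
    exact lt_mul_of_one_lt_right Nat.card_pos ((one_lt_card_iff_ne_bot M).mpr hM)
  have habq : ∀ (M : Subgroup G) [M.Normal] (q : ℕ) [Fact q.Prime], q ≠ p → ∀ Q : Sylow q (G ⧸ M), IsMulCommutative (Q : Subgroup (G ⧸ M)) := by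
    intro M _ q _ hq Q
    obtain ⟨R, hR⟩ := Sylow.mapSurjective_surjective (QuotientGroup.mk'_surjective M) q Q
    haveI := hab q hq R
    rw [← hR, Sylow.coe_mapSurjective]
    exact ⟨⟨fun a b => Subtype.ext (by
      obtain ⟨a', ha', hae⟩ := a.2
      obtain ⟨b', hb', hbe⟩ := b.2
      show (a : G ⧸ M) * b = b * a
      rw [← hae, ← hbe, ← map_mul, ← map_mul]
      exact congrArg _ (congrArg Subtype.val (mul_comm' (⟨a', ha'⟩ : (R : Subgroup G)) ⟨b', hb'⟩)))⟩⟩
  by_cases hK : pPrimeCore p G = ⊥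
  swap
  · haveI := Cfsg.Agent.Solv.pPrimeCore_characteristic p G
    refine Cfsg.Agent.Solv.pLengthLE_of_quotient_pPrimeCore (pPrimeCore p G) (Cfsg.Agent.Solv.card_pPrimeCore_coprime p G) ?_
    refine ih _ (hlt _ hK) _ rfl (Cfsg.Agent.Solv.isPSolvable_quotient hG _) (fun q _ hq => habq (pPrimeCore p G) q hq) _ fun P x hx => ?_
    obtain ⟨R, hR⟩ := Sylow.mapSurjective_surjective (QuotientGroup.mk'_surjective (pPrimeCore p G)) p P
    rw [← hR, Sylow.coe_mapSurjective] at hx
    obtain ⟨x', hx', rfl⟩ := hx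
    rw [← map_pow, hexp R x' hx', map_one]
  haveI := Cfsg.Agent.Solv.pCore_characteristic p G
  set P := pCore p G with hPdef
  haveI hPn : P.Normal := inferInstance
  haveI : Nontrivial G := Finite.one_lt_card_iff_nontrivial.1 (hp.one_lt.trans_le (Nat.le_of_dvd Nat.card_pos hdvd))
  have hPb : P ≠ ⊥ := fun e => (Cfsg.Agent.Solv.core_ne_bot_of_isPSolvable hG).elim (fun h => h e) (fun h => h hK)
  refine Cfsg.Agent.Solv.pLengthLE_of_quotient_pCore P (Cfsg.Agent.Solv.isPGroup_pCore p G) ?_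
  refine ih _ (hlt _ hPb) _ rfl (Cfsg.Agent.Solv.isPSolvable_quotient hG _) (fun q _ hq => habq P q hq) _ fun S y hy => ?_
  -- a counterexample `y`
  obtain ⟨R, hR⟩ := Sylow.mapSurjective_surjective (QuotientGroup.mk'_surjective P) p S
  rw [← hR, Sylow.coe_mapSurjective] at hy
  obtain ⟨x, hx, rfl⟩ := hy
  set π := QuotientGroup.mk' P
  have hxN : x ^ p ^ (k + 1) = 1 := hexp R x hx
  by_contra hne
  have hcP : centralizer (P : Set G) ≤ P := Cfsg.Agent.Solv.centralizer_pCore_le_of_isPSolvable hG hK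
  have hPp : IsPGroup p P := Cfsg.Agent.Solv.isPGroup_pCore p G
  haveI := hPp.isNilpotent
  -- the action on the Frattini quotient
  set Φ := frattini P
  haveI hΦc : IsMulCommutative (P ⧸ Φ) := ⟨⟨fun a b => by
    obtain ⟨u, rfl⟩ := QuotientGroup.mk_surjective a
    obtain ⟨v, rfl⟩ := QuotientGroup.mk_surjective b
    rw [← QuotientGroup.mk_mul, ← QuotientGroup.mk_mul, QuotientGroup.eq]
    refine Cfsg.Agent.Solv.commutator_le_frattini ?_
    rw [show (u * v)⁻¹ * (v * u) = ⁅v⁻¹, u⁻¹⁆ by rw [commutatorElement_def]; group]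
    exact Subgroup.commutator_mem_commutator (mem_top _) (mem_top _)⟩⟩
  letI : CommGroup (P ⧸ Φ) := { (inferInstance : Group (P ⧸ Φ)) with mul_comm := fun a b => mul_comm' a b }
  have hpow : ∀ u : P, u ^ p ∈ Φ := by
    intro u
    rw [show Φ = frattini P from rfl, frattini, Order.radical, Subgroup.mem_iInf]
    intro M
    rw [Subgroup.mem_iInf]
    intro hM
    haveI : M.Normal := NormalizerCondition.normal_of_coatom M Group.normalizerCondition_of_isNilpotent hM
    have hidx : M.index = p := by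
      haveI : Nontrivial (P ⧸ M) := QuotientGroup.nontrivial_iff.2 hM.1
      obtain ⟨j, hj⟩ := IsPGroup.iff_card.1 (hPp.to_quotient M)
      obtain ⟨z, hz⟩ := exists_prime_orderOf_dvd_card' (G := P ⧸ M) p (by
        rw [hj]; refine dvd_pow_self p ?_; rintro rfl
        rw [pow_zero] at hj; exact (Finite.one_lt_card (α := P ⧸ M)).ne' hj)
      obtain ⟨z', rfl⟩ := QuotientGroup.mk_surjective z
      have ht : (zpowers (z' : P ⧸ M)).comap (QuotientGroup.mk' M) = ⊤ := by
        refine hM.2 _ (lt_of_le_not_ge (fun r hr => ?_) fun hle => ?_)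
        · rw [mem_comap, show (QuotientGroup.mk' M) r = 1 from (QuotientGroup.eq_one_iff r).2 hr]; exact one_mem _
        · rw [(QuotientGroup.eq_one_iff z').2 (hle (show (z' : P ⧸ M) ∈ zpowers (z' : P ⧸ M) from mem_zpowers _)), orderOf_one] at hz
          exact hp.ne_one hz.symm
      rw [index_eq_card, ← hz, ← Nat.card_zpowers, ← Subgroup.card_top (G := P ⧸ M)]
      congr 2
      rw [← map_comap_eq_self_of_surjective (QuotientGroup.mk'_surjective M) (zpowers (z' : P ⧸ M)), ht,
        map_top_of_surjective _ (QuotientGroup.mk'_surjective M)]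
    rw [← hidx]
    exact M.pow_index_mem u
  have hp0 : ∀ v : Additive (P ⧸ Φ), p • v = 0 := fun v => Additive.toMul.injective (by
    obtain ⟨u, hu⟩ := QuotientGroup.mk_surjective (Additive.toMul v)
    rw [toMul_nsmul, ← hu, ← QuotientGroup.mk_pow]
    exact (QuotientGroup.eq_one_iff _).2 (hpow u))
  letI : Module (ZMod p) (Additive (P ⧸ Φ)) := AddCommGroup.zmodModule (n := p) hp0
  let c : G →* MulAut P := MulAut.conjNormal
  have hmap : ∀ g : G, Φ ≤ Φ.comap (c g).toMonoidHom := fun g =>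
    (Subgroup.characteristic_iff_comap_eq.1 frattini_characteristic (c g)).ge
  let ρ : G →* End (ZMod p) (Additive (P ⧸ Φ)) :=
    { toFun := fun g => (MonoidHom.toAdditive (QuotientGroup.map Φ Φ (c g).toMonoidHom (hmap g))).toZModLinearMap p
      map_one' := by
        refine LinearMap.ext fun v => ?_
        obtain ⟨u, hu⟩ := QuotientGroup.mk_surjective v.toMul
        obtain rfl : v = Additive.ofMul (u : P ⧸ Φ) := by rw [hu]; rfl
        show Additive.ofMul ((c 1 u : P) : P ⧸ Φ) = _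
        rw [map_one]; rfl
      map_mul' := fun g h => by
        refine LinearMap.ext fun v => ?_
        obtain ⟨u, hu⟩ := QuotientGroup.mk_surjective v.toMul
        obtain rfl : v = Additive.ofMul (u : P ⧸ Φ) := by rw [hu]; rfl
        show Additive.ofMul ((c (g * h) u : P) : P ⧸ Φ) = Additive.ofMul ((c g (c h u) : P) : P ⧸ Φ)
        rw [map_mul]; rfl }
  have hρ : ∀ (g : G) (u : P), ρ g (Additive.ofMul (u : P ⧸ Φ)) = Additive.ofMul ((c g u : P) : P ⧸ Φ) := fun g u => rfl
  -- the kernel is `P`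
  have hPker : P ≤ ρ.ker := by
    intro g hg
    rw [MonoidHom.mem_ker]
    refine LinearMap.ext fun v => ?_
    obtain ⟨u, hu⟩ := QuotientGroup.mk_surjective v.toMul
    obtain rfl : v = Additive.ofMul (u : P ⧸ Φ) := by rw [hu]; rfl
    rw [hρ, End.one_apply]
    refine congrArg Additive.ofMul ?_
    have e : c g u = ⟨g, hg⟩ * u * ⟨g, hg⟩⁻¹ := Subtype.ext rfl
    rw [e, QuotientGroup.mk_mul, QuotientGroup.mk_mul, mul_comm ((⟨g, hg⟩ : P) : P ⧸ Φ), QuotientGroup.mk_inv, mul_inv_cancel_right]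
  have hkerp : IsPGroup p ρ.ker := by
    intro g
    refine ⟨(orderOf g).factorization p, ?_⟩
    set a := g ^ p ^ (orderOf g).factorization p with hadef
    have hcop : (orderOf a).Coprime p := by
      rw [hadef, orderOf_pow_of_dvd (pow_ne_zero _ hp.ne_zero) (Nat.ordProj_dvd _ _)]
      exact (Nat.coprime_ordCompl hp (orderOf_pos _).ne').symm
    have hker : ∀ b ∈ zpowers (a : G), ρ b = 1 := fun b hb =>
      MonoidHom.mem_ker.1 (zpowers_le.2 a.2 hb)
    have hcent : zpowers (a : G) ≤ centralizer (P : Set G) := by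
      refine Cfsg.Agent.Solv.centralizes_of_trivial_on_frattini_quotient _ P (by rw [normalizer_eq_top P]; exact le_top) ?_ ?_
      · obtain ⟨b, hb⟩ := IsPGroup.iff_card.1 (hPp.to_subgroup (frattini P))
        rw [hb, Nat.card_zpowers, Subgroup.orderOf_coe]
        exact hcop.pow_right b
      · intro b hb u hu
        have h1 := LinearMap.congr_fun (hker b hb) (Additive.ofMul ((⟨u, hu⟩ : P) : P ⧸ Φ))
        rw [hρ, End.one_apply] at h1
        have h2 : (c b ⟨u, hu⟩)⁻¹ * ⟨u, hu⟩ ∈ Φ := QuotientGroup.eq.1 (Additive.ofMul.injective h1)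
        have h3 := inv_mem ((inferInstance : (frattini P).Normal).conj_mem _ h2 (c b ⟨u, hu⟩))
        refine ⟨_, h3, ?_⟩
        simp [c, MulAut.conjNormal_apply, mul_assoc]
    have haP : (a : G) ∈ P := hcP (hcent (mem_zpowers _))
    obtain ⟨j, hj⟩ := IsPGroup.iff_card.1 hPp
    have hd : orderOf (a : G) ∣ p ^ j := hj ▸ Subgroup.orderOf_dvd_natCard _ haP
    exact Subtype.ext (orderOf_eq_one_iff.1 (Nat.eq_one_of_dvd_coprimes
      ((show (orderOf (a : G)).Coprime p by rw [Subgroup.orderOf_coe]; exact hcop).pow_right j) dvd_rfl hd))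
  have hker : ρ.ker ≤ P := Cfsg.Agent.Solv.le_pCore hkerp
  let σ : G ⧸ P →* End (ZMod p) (Additive (P ⧸ Φ)) := QuotientGroup.lift P ρ hPker
  have hσinj : ∀ a b : G ⧸ P, σ a = σ b → a = b := by
    intro a b h
    obtain ⟨a', rfl⟩ := QuotientGroup.mk_surjective a
    obtain ⟨b', rfl⟩ := QuotientGroup.mk_surjective b
    rw [QuotientGroup.eq]
    refine hker ?_
    rw [MonoidHom.mem_ker, map_mul, show ρ b' = ρ a' from h.symm, ← map_mul, inv_mul_cancel, map_one]
  -- traces of `y` vanish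
  have htr : ∀ w, ∑ i ∈ Finset.range (p ^ (k + 1)), σ ((π x⁻¹) ^ i) w = 0 := by
    intro w
    obtain ⟨u, hu⟩ := QuotientGroup.mk_surjective w.toMul
    obtain rfl : w = Additive.ofMul (u : P ⧸ Φ) := by rw [hu]; rfl
    have hexpand : ∀ j : ℕ, ∃ z : P, (x * (u : G)) ^ j = x ^ j * (z : G) ∧
        Additive.ofMul (z : P ⧸ Φ) = ∑ i ∈ Finset.range j, ρ (x⁻¹ ^ i) (Additive.ofMul (u : P ⧸ Φ)) := by
      intro j
      induction j with
      | zero => exact ⟨1, by simp, by simp⟩
      | succ j ih =>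
        obtain ⟨z, hz, hz'⟩ := ih
        refine ⟨c x⁻¹ z * u, ?_, ?_⟩
        · rw [pow_succ, hz, Subgroup.coe_mul, MulAut.conjNormal_apply, pow_succ]
          group
        · rw [QuotientGroup.mk_mul, ofMul_mul, ← hρ, hz', map_sum, Finset.sum_range_succ', pow_zero, map_one]
          refine congrArg₂ (· + ·) (Finset.sum_congr rfl fun i _ => ?_) rfl
          rw [pow_succ', map_mul]; rfl
    obtain ⟨z, hz, hz'⟩ := hexpand (p ^ (k + 1))
    have hxu : x * (u : G) ∈ (R : Subgroup G) := mul_mem hx (Cfsg.Agent.Solv.pCore_le_sylow R u.2)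
    rw [hexp R _ hxu, hxN, one_mul] at hz
    rw [show z = 1 from Subtype.ext hz.symm] at hz'
    rw [QuotientGroup.mk_one, ofMul_one] at hz'
    rw [hz']
    exact Finset.sum_congr rfl fun i _ => by rw [← map_pow]; rfl
  -- the `p'`-core of the quotient
  haveI := Cfsg.Agent.Solv.pPrimeCore_characteristic p (G ⧸ P)
  set M := pPrimeCore p (G ⧸ P)
  haveI : M.Normal := inferInstance
  have hMc := centralizer_pPrimeCore (Cfsg.Agent.Solv.isPSolvable_quotient hG P) (Cfsg.Agent.Solv.pCore_quotient_pCore p G)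
  set y := π x⁻¹ with hy
  have hyN : y ^ p ^ (k + 1) = 1 := by rw [hy, ← map_pow, inv_pow, hxN, inv_one, map_one]
  have hgM : y ^ p ^ k ∈ M := by
    refine hMc ?_
    rw [mem_centralizer_iff]
    suffices hall : M ≤ centralizer ({y ^ p ^ k} : Set (G ⧸ P)) from
      fun a ha => (mem_centralizer_iff.1 (hall ha) _ rfl).symm
    set C := centralizer ({y ^ p ^ k} : Set (G ⧸ P)) with hCdef
    suffices hd : Nat.card M ∣ Nat.card (M ⊓ C : Subgroup (G ⧸ P)) from
      inf_eq_left.1 (Subgroup.eq_of_le_of_card_ge inf_le_left (Nat.le_of_dvd Nat.card_pos hd))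
    rw [← Nat.factorization_le_iff_dvd Nat.card_pos.ne' Nat.card_pos.ne']
    intro q
    by_cases hqd : q.Prime ∧ q ∣ Nat.card M
    swap
    · rw [Nat.factorization_eq_zero_iff _ q |>.2 (by tauto)]
      exact Nat.zero_le _
    obtain ⟨hq, hqd⟩ := hqd
    haveI := Fact.mk hq
    have hMp := Cfsg.Agent.Solv.card_pPrimeCore_coprime p (G ⧸ P)
    have hqp : q ≠ p := fun e => by
      subst e
      exact hq.not_dvd_one (hMp ▸ Nat.dvd_gcd hqd dvd_rfl)
    have hYp : IsPGroup p (zpowers y) := by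
      obtain ⟨j, -, hj⟩ := (Nat.dvd_prime_pow hp).1 (orderOf_dvd_of_pow_eq_one hyN)
      exact IsPGroup.of_card (n := j) (by rw [Nat.card_zpowers, hj])
    obtain ⟨j, hj⟩ := IsPGroup.iff_card.1 hYp
    obtain ⟨Q, hQ⟩ := Cfsg.Agent.Solv.exists_invariant_sylow (zpowers y) M (by rw [normalizer_eq_top M]; exact le_top)
      (by rw [hj]; exact (Nat.Coprime.pow_right j hMp).symm) (Or.inl (by haveI := hYp.isNilpotent; infer_instance)) q
    set QG := (Q : Subgroup M).map M.subtype with hQG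
    obtain ⟨T, hT⟩ := (Q.isPGroup'.map M.subtype).exists_le_sylow
    have hQab : ∀ a ∈ QG, ∀ b ∈ QG, a * b = b * a := fun a ha b hb => by
      haveI := habq P q hqp T
      exact congrArg Subtype.val (mul_comm' (⟨a, hT ha⟩ : (T : Subgroup (G ⧸ P))) ⟨b, hT hb⟩)
    have hQp : ¬ p ∣ Nat.card QG := fun hd => hp.not_dvd_one
      (hMp ▸ Nat.dvd_gcd (hd.trans (Subgroup.card_dvd_of_le (map_subtype_le _))) dvd_rfl)
    have hcomm := lin_zmod σ QG hQab hQp y
      (fun a ha => by simpa using (mem_normalizer_iff.1 (hQ (inv_mem (mem_zpowers y))) a).1 ha) k hyN htr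
    have hle : QG ≤ M ⊓ C := le_inf (map_subtype_le _) fun a ha => mem_centralizer_iff.2 fun b hb => by
      rw [Set.mem_singleton_iff.1 hb]
      exact hσinj _ _ (hcomm a ha)
    have hd := Subgroup.card_dvd_of_le hle
    rw [hQG, Subgroup.card_map_of_injective M.subtype_injective, Q.card_eq_multiplicity] at hd
    exact (hq.pow_dvd_iff_le_factorization Nat.card_pos.ne').1 hd
  apply hne
  have hd1 : orderOf (y ^ p ^ k) ∣ Nat.card M := Subgroup.orderOf_dvd_natCard _ hgM
  have hd2 : orderOf (y ^ p ^ k) ∣ p ^ (k + 1) := orderOf_dvd_of_pow_eq_one (by rw [← pow_mul, mul_comm, pow_mul, hyN, one_pow])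
  have h1 := orderOf_eq_one_iff.1 (Nat.eq_one_of_dvd_coprimes ((Cfsg.Agent.Solv.card_pPrimeCore_coprime p (G ⧸ P)).pow_right (k + 1)) hd1 hd2)
  rwa [hy, ← map_pow, inv_pow, map_inv, inv_eq_one, map_pow] at h1

/-- Let G be a finite p-soluble group in which, for every prime q ≠ p, the Sylow q-subgroups are abelian. If the Sylow p-subgroups of G have exponent dividing p^n, then G has p-length at most n. -/
theorem result {G : Type*} [Group G] [Finite G] {p : ℕ} [Fact p.Prime] (hG : Cfsg.IsPSolvable p G) (hab : ∀ (q : ℕ) [Fact q.Prime], q ≠ p → ∀ Q : Sylow q G, IsMulCommutative (Q : Subgroup G)) (n : ℕ) (hexp : ∀ (P : Sylow p G), ∀ x ∈ (P : Subgroup G), x ^ p ^ n = 1) : Cfsg.PLengthLE p n G := by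
  exact aux _ G rfl hG hab n hexp

end Cfsg.Agent.S3783
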