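import Cfsg.Statements.S3784
import Mathlib
-- import your own Cfsg.Agent.* helpers here

set_option autoImplicit false
open Cfsg

namespace Cfsg.Agent.S3784

/-- Let p, q be primes and a, b positive integers with p^a = q^b + 1. Then either p = 2, b = 1, a is prime and q = 2^a − 1; or q = 2, a = 1, b is a power of 2 and p = 2^b + 1; or p^a = 9 and q^b = 8. -/
theorem result (p q a b : ℕ) (hp : p.Prime) (hq : q.Prime) (ha : 1 ≤ a) (hb : 1 ≤ b) (h : p ^ a = q ^ b + 1) : (p = 2 ∧ b = 1 ∧ a.Prime ∧ q + 1 = 2 ^ a) ∨ (q = 2 ∧ a = 1 ∧ (∃ m : ℕ, b = 2 ^ m) ∧ p = 2 ^ b + 1) ∨ (p ^ a = 9 ∧ q ^ b = 8) := by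
  have hq2 := hq.two_le
  have hp2 := hp.two_le
  have hqb : q ≤ q ^ b := Nat.le_self_pow (by omega) q
  rcases hp.eq_two_or_odd with rfl | hpo
  · left
    have hqodd : q % 2 = 1 := by
      rcases hq.eq_two_or_odd with rfl | h'
      · have h1 : 2 ∣ 2 ^ a := dvd_pow_self 2 (by omega)
        have h2 : 2 ∣ 2 ^ b := dvd_pow_self 2 (by omega)
        omega
      · exact h'
    have ha2 : 2 ≤ a := by
      by_contra hlt
      have : a = 1 := by omega
      subst this
      omega
    have hdiv4 : 4 ∣ 2 ^ a := by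
      exact (show (4 : ℕ) = 2 ^ 2 by norm_num) ▸ pow_dvd_pow 2 ha2
    rcases Nat.even_or_odd b with ⟨c, rfl⟩ | ⟨c, rfl⟩
    · exfalso
      obtain ⟨m, hm⟩ : Odd (q ^ c) := (Nat.odd_iff.2 hqodd).pow
      rw [pow_add, hm] at h
      obtain ⟨k, hk⟩ := hdiv4
      have : (2 * m + 1) * (2 * m + 1) = 4 * (m * m + m) + 1 := by ring
      omega
    · -- `q ^ b + 1 = (q + 1) * S` with `S` odd
      have key : ∀ n : ℕ, ∃ S : ℕ, (q + 1) * S = q ^ (2 * n + 1) + 1 ∧ S % 2 = 1 ∧ (n ≠ 0 → 1 < S) := by
        intro n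
        induction n with
        | zero => exact ⟨1, by simp, rfl, fun h => absurd rfl h⟩
        | succ n ih =>
          obtain ⟨S, hS, hSo, -⟩ := ih
          have hlow : q + 1 ≤ q ^ 2 * (q ^ (2 * n + 1) + 1) := by nlinarith [Nat.one_le_pow (2 * n + 1) q (by omega), sq_nonneg q]
          have hqq : q - 1 + 1 = q := by omega
          refine ⟨q ^ 2 * S - (q - 1), ?_, ?_, fun _ => ?_⟩
          · have e : (q + 1) * (q ^ 2 * S) = q ^ (2 * n + 3) + q ^ 2 := by
              calc (q + 1) * (q ^ 2 * S) = q ^ 2 * ((q + 1) * S) := by ring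
                _ = q ^ 2 * (q ^ (2 * n + 1) + 1) := by rw [hS]
                _ = _ := by ring
            rw [Nat.mul_sub, e, show 2 * (n + 1) + 1 = 2 * n + 3 by ring]
            have e2 : (q + 1) * (q - 1) + 1 = q ^ 2 := by
              obtain ⟨r, rfl⟩ : ∃ r, q = r + 1 := ⟨q - 1, by omega⟩
              simp; ring
            omega
          · have hsq : q ^ 2 * S % 2 = 1 := by rw [Nat.mul_mod, Nat.pow_mod, hqodd, hSo]
            have : q - 1 < q ^ 2 * S := by nlinarith [Nat.mul_le_mul_left (q ^ 2) (show 1 ≤ S by omega)]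
            omega
          · have : q + 1 ≤ q ^ 2 * S := by nlinarith [Nat.mul_le_mul_left (q ^ 2) (show 1 ≤ S by omega)]
            omega
      obtain ⟨S, hS, hSo, hS1⟩ := key c
      have hdvd : S ∣ 2 ^ a := ⟨q + 1, by rw [h, ← hS, mul_comm]⟩
      obtain ⟨i, -, rfl⟩ := (Nat.dvd_prime_pow Nat.prime_two).1 hdvd
      have hi : i = 0 := by
        rcases Nat.eq_zero_or_pos i with h0 | h0
        · exact h0
        · have : 2 ∣ 2 ^ i := dvd_pow_self 2 (by omega)
          omega
      subst hi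
      have hc : c = 0 := by
        by_contra hc
        have := hS1 hc
        simp at this
      subst hc
      simp only [mul_zero, zero_add, pow_one] at h ⊢
      refine ⟨trivial, trivial, Nat.prime_of_pow_sub_one_prime (a := 2) (n := a) (by omega) ?_ |>.2, h.symm⟩
      rw [show 2 ^ a - 1 = q by omega]; exact hq
  · right
    have hq' : q = 2 := by
      rcases hq.eq_two_or_odd with h' | h'
      · exact h'
      · exfalso
        have h1 : p ^ a % 2 = 1 := by rw [Nat.pow_mod, hpo, one_pow]; rfl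
        have h2 : q ^ b % 2 = 1 := by rw [Nat.pow_mod, h', one_pow]; rfl
        omega
    subst hq'
    rcases Nat.even_or_odd a with ⟨c, rfl⟩ | ⟨c, rfl⟩
    · right
      obtain ⟨x, hx⟩ : ∃ x, p ^ c = x + 1 := ⟨p ^ c - 1, by have := Nat.one_le_pow c p (by omega); omega⟩
      have hc1 : 1 ≤ c := by omega
      have hx3 : 2 ≤ x := by have := Nat.le_self_pow (n := c) (by omega) p; omega
      have e : x * (x + 2) = 2 ^ b := by
        rw [pow_add, hx] at h
        have : (x + 1) * (x + 1) = x * (x + 2) + 1 := by ring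
        omega
      obtain ⟨i, -, hi⟩ := (Nat.dvd_prime_pow Nat.prime_two).1 ⟨x + 2, e.symm⟩
      obtain ⟨j, -, hj⟩ := (Nat.dvd_prime_pow Nat.prime_two).1 (Dvd.intro_left x e)
      have hi1 : i = 1 := by
        rcases Nat.lt_or_ge i 2 with hlt | hge
        · interval_cases i <;> simp_all
        · exfalso
          have h4 : 4 ∣ 2 ^ i := pow_dvd_pow 2 hge
          have hij : i < j := (Nat.pow_lt_pow_iff_right one_lt_two).1 (by omega)
          have h4' : 4 ∣ 2 ^ j := pow_dvd_pow 2 (show 2 ≤ j by omega)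
          omega
      subst hi1
      simp at hi
      subst hi
      refine ⟨?_, by omega⟩
      rw [pow_add, hx]; norm_num
    · left
      have key : ∀ n : ℕ, ∃ S : ℕ, S % 2 = 1 ∧ (n ≠ 0 → 1 < S) ∧ (p - 1) * S + 1 = p ^ (2 * n + 1) := by
        intro n
        induction n with
        | zero => exact ⟨1, rfl, fun h => absurd rfl h, by simp; omega⟩
        | succ n ih =>
          obtain ⟨S, hSo, -, hS⟩ := ih
          obtain ⟨r, rfl⟩ : ∃ r, p = r + 1 := ⟨p - 1, by omega⟩
          refine ⟨(r + 1) ^ 2 * S + (r + 2), ?_, fun _ => by omega, ?_⟩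
          · have hsq : (r + 1) ^ 2 * S % 2 = 1 := by rw [Nat.mul_mod, Nat.pow_mod, hpo, hSo]
            omega
          · rw [Nat.add_sub_cancel] at hS ⊢
            rw [show 2 * (n + 1) + 1 = (2 * n + 1) + 2 by ring, pow_add, ← hS]
            ring
      obtain ⟨S, hSo, hS1, hS⟩ := key c
      have hdvd : S ∣ 2 ^ b := ⟨p - 1, by rw [mul_comm]; omega⟩
      obtain ⟨i, -, rfl⟩ := (Nat.dvd_prime_pow Nat.prime_two).1 hdvd
      have hi : i = 0 := by
        rcases Nat.eq_zero_or_pos i with h0 | h0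
        · exact h0
        · have : 2 ∣ 2 ^ i := dvd_pow_self 2 (by omega)
          omega
      subst hi
      have hc : c = 0 := by
        by_contra hc
        have := hS1 hc
        simp at this
      subst hc
      simp only [mul_zero, zero_add, pow_one] at h ⊢
      obtain ⟨m, hm⟩ := Nat.pow_of_pow_add_prime one_lt_two (by omega : b ≠ 0) (h ▸ hp)
      exact ⟨trivial, trivial, ⟨m, hm⟩, h⟩

end Cfsg.Agent.S3784
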