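import Cfsg.Statements.S3785
import Cfsg.Agent.Lib.Fusion.FixOmega
import Cfsg.Agent.Lib.Solv.Subnormal
import Cfsg.Agent.Lib.Solv.AbelianAction
import Cfsg.Agent.Lib.Struct.PrimeParts

set_option autoImplicit false
open Cfsg
open Subgroup Cfsg.Agent.Solv
open scoped commutatorElement Pointwise

namespace Cfsg.Agent.S3785

/-- Let G be a finite solvable group whose Fitting subgroup F(G) has odd order. If an element g of G commutes with every element of prime order of F(G), then g ∈ F(G). -/
theorem result {G : Type*} [Group G] [Finite G] (hG : Group.IsSolvable G) (hodd : Odd (Nat.card (Cfsg.fittingSubgroup G))) (g : G) (hg : ∀ x ∈ Cfsg.fittingSubgroup G, (orderOf x).Prime → g * x = x * g) : g ∈ Cfsg.fittingSubgroup G := by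
  classical
  haveI := hG
  set F := Cfsg.fittingSubgroup G with hF
  haveI hFn : F.Normal := fittingSubgroup_normal G
  haveI hFnil : Group.IsNilpotent F := fittingSubgroup_isNilpotent G
  let N : Subgroup G := centralizer {x : G | x ∈ F ∧ (orderOf x).Prime}
  haveI hNn : N.Normal := ⟨fun a ha b => mem_centralizer_iff.2 fun x hx => by
    have h1 : b⁻¹ * x * b ∈ {x : G | x ∈ F ∧ (orderOf x).Prime} := by
      refine ⟨by simpa using hFn.conj_mem x hx.1 b⁻¹, ?_⟩
      have : orderOf (b⁻¹ * x * b) = orderOf x := by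
        have h := MulEquiv.orderOf_eq (MulAut.conj b⁻¹) x
        simpa using h
      rw [this]
      exact hx.2
    have h2 := congrArg (fun z => b * z * b⁻¹) (mem_centralizer_iff.1 ha _ h1)
    simpa [mul_assoc] using h2⟩
  -- elements of prime power order in `N` centralize the other cores
  have hcent : ∀ y ∈ N, ∀ q a : ℕ, q.Prime → orderOf y = q ^ a → ∀ r : ℕ, r.Prime → r ≠ q →
      ∀ u ∈ Cfsg.pCore r G, y * u = u * y := by
    intro y hy q a hq hya r hr hrq u hu
    haveI : Fact r.Prime := ⟨hr⟩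
    let α : MulAut (Cfsg.pCore r G) := MulAut.conjNormal y
    have hpow : ∀ k : ℕ, α ^ k = MulAut.conjNormal (y ^ k) := fun k => (map_pow _ _ _).symm
    have h1 := Cfsg.Agent.Fusion.eq_of_coprime_fix (isPGroup_pCore r G) α (n := q ^ a)
      (by rw [hpow, ← hya, pow_orderOf_eq_one, map_one])
      (fun h => hrq ((Nat.prime_dvd_prime_iff_eq hr hq).1 (hr.dvd_of_dvd_pow h)))
      (fun x hx => ?_) ⟨u, hu⟩
    · have h2 := congrArg Subtype.val h1
      rw [show ((α ⟨u, hu⟩ : Cfsg.pCore r G) : G) = y * u * y⁻¹ from MulAut.conjNormal_apply y ⟨u, hu⟩] at h2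
      exact mul_inv_eq_iff_eq_mul.1 h2
    · apply Subtype.ext
      rw [show ((α x : Cfsg.pCore r G) : G) = y * x * y⁻¹ from MulAut.conjNormal_apply y x]
      rcases eq_or_ne (x : G) 1 with hx1 | hx1
      · rw [hx1]; simp
      have hxF : (x : G) ∈ F := pCore_le_fittingSubgroup r x.2
      have hr2 : r ≠ 2 := by
        rintro rfl
        obtain ⟨k, hk⟩ := IsPGroup.iff_orderOf.1 (isPGroup_pCore 2 G) x
        rw [← Subgroup.orderOf_coe] at hk
        have h3 := hodd.of_dvd_nat (Subgroup.orderOf_dvd_natCard F hxF)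
        rw [hk] at h3
        rcases k with _ | k
        · exact hx1 (orderOf_eq_one_iff.1 (by rw [hk, pow_zero]))
        · exact (Nat.not_even_iff_odd.2 h3) ⟨2 ^ k, by ring⟩
      have hxr : (x : G) ^ r = 1 := by
        rcases hx with hx | ⟨h, -⟩
        · exact congrArg Subtype.val hx
        · exact absurd h hr2
      have hxo : (orderOf (x : G)).Prime := by
        rw [orderOf_eq_prime hxr hx1]; exact hr
      rw [← mem_centralizer_iff.1 hy x ⟨hxF, hxo⟩, mul_inv_cancel_right]
  -- elements of coprime prime power order commute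
  have hcomm : ∀ x ∈ N, ∀ y ∈ N, ∀ q r a b : ℕ, q.Prime → r.Prime → q ≠ r →
      orderOf x = q ^ a → orderOf y = r ^ b → x * y = y * x := by
    intro x hx y hy q r a b hq hr hqr hxa hyb
    haveI : Fact q.Prime := ⟨hq⟩
    set z := ⁅x, y⁆ with hz
    have hzc : z ∈ centralizer (F : Set G) := by
      have hcF : F ≤ centralizer ({z} : Set G) := by
        rw [hF, fittingSubgroup_eq_iSup_pCore]
        refine iSup_le fun s => ?_
        intro u hu
        haveI : Fact (s : ℕ).Prime := ⟨s.2⟩
        rw [mem_centralizer_singleton_iff]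
        have hconj : ∀ w : G, (∀ v ∈ Cfsg.pCore (s : ℕ) G, w * v = v * w) →
            ∀ c : G, (c * w * c⁻¹) * u = u * (c * w * c⁻¹) := by
          intro w hw c
          have h := hw (c⁻¹ * u * c) (by
            simpa using (inferInstance : (Cfsg.pCore (s : ℕ) G).Normal).conj_mem u hu c⁻¹)
          have h' := congrArg (fun z => c * z * c⁻¹) h
          simpa [mul_assoc] using h'
        by_cases hsq : (s : ℕ) = q
        · have hy' := hcent y hy r b hr hyb s s.2 (fun h => hqr (hsq.symm.trans h))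
          have h1 : Commute u (x * y * x⁻¹) := (hconj y hy' x).symm
          have h2 : Commute u y := (hy' u hu).symm
          have h3 := h1.mul_right h2.inv_right
          rw [hz, commutatorElement_def]
          exact h3.eq
        · have hx' := hcent x hx q a hq hxa s s.2 hsq
          have h1 : Commute u x := (hx' u hu).symm
          have h2 : Commute u (y * x * y⁻¹) := (hconj x hx' y).symm
          have h3 := h1.mul_right h2.inv_right
          rw [hz, commutatorElement_def, show x * y * x⁻¹ * y⁻¹ = x * (y * x * y⁻¹)⁻¹ by group]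
          exact h3.eq
      exact mem_centralizer_iff.2 fun u hu => mem_centralizer_singleton_iff.1 (hcF hu)
    have hzF : z ∈ F := centralizer_fittingSubgroup_le hzc
    have hpart : ∀ (i s c : ℕ), s.Prime → orderOf (z ^ i) = s ^ c → z ^ i ∈ Cfsg.pCore s G := by
      intro i s c hs hsc
      haveI : Fact s.Prime := ⟨hs⟩
      have hsn : (zpowers (z ^ i)).IsSubnormal :=
        IsSubnormal.trans (zpowers_le.2 (pow_mem hzF i)) (isSubnormal_of_isNilpotent _)
          hFn.isSubnormal
      exact le_pCore_of_isSubnormal hsn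
        (IsPGroup.of_card (n := c) (by rw [Nat.card_zpowers, hsc])) (mem_zpowers _)
    -- `z` lies in the product of the `q`-part and the centralizer of `x`
    set M := Cfsg.pCore q G ⊓ centralizer (F : Set G) with hM
    let W : Subgroup G := (centralizer ({x} : Set G) ⊓ centralizer (F : Set G)) ⊓ Cfsg.pPrimeCore q G
    have hzM : z ∈ M ⊔ W := by
      refine Cfsg.Agent.Struct.PrimeParts.mem_of_forall_primePow fun i s c hs hsc => ?_
      by_cases hsq : s = q
      · subst hsq
        exact mem_sup_left (mem_inf.2 ⟨hpart i s c hs hsc, pow_mem hzc i⟩)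
      · haveI : Fact s.Prime := ⟨hs⟩
        refine mem_sup_right (mem_inf.2 ⟨mem_inf.2 ⟨mem_centralizer_singleton_iff.2 ?_, pow_mem hzc i⟩, ?_⟩)
        · exact (hcent x hx q a hq hxa s hs hsq _ (hpart i s c hs hsc)).symm
        · refine le_pPrimeCore (p := q) ?_ (hpart i s c hs hsc)
          obtain ⟨k, hk⟩ := IsPGroup.iff_card.1 (isPGroup_pCore s G)
          rw [hk]
          exact ((Nat.coprime_primes hs hq).2 hsq).pow_left k
    haveI : (M : Subgroup G).Normal := inferInstance
    obtain ⟨m, hm, w, hw, hmw⟩ := mem_sup_of_normal_left.1 hzM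
    obtain ⟨hw', hwP⟩ := mem_inf.1 hw
    obtain ⟨hwx, hwc⟩ := mem_inf.1 hw'

    have hwm : Commute w m :=
      (mem_centralizer_iff.1 hwc m (pCore_le_fittingSubgroup q (mem_inf.1 hm).1)).symm
    have hwx' : Commute w x := mem_centralizer_singleton_iff.1 hwx
    -- `u = m⁻¹ x` is a `q`-element commuting with `w`
    have hyx : y * x * y⁻¹ = (m⁻¹ * x) * w⁻¹ := by
      rw [show y * x * y⁻¹ = z⁻¹ * x by rw [hz, commutatorElement_def]; group, ← hmw, mul_inv_rev]
      rw [(hwm.inv_left.inv_right).eq, mul_assoc, hwx'.inv_left.eq, ← mul_assoc]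
    have hq1 : ∀ u : G, u ∈ zpowers x ⊔ M → ∃ k, orderOf u = q ^ k := by
      intro u hu
      have hP : IsPGroup q ↥(zpowers x ⊔ M) :=
        (IsPGroup.of_card (n := a) (by rw [Nat.card_zpowers, hxa]) : IsPGroup q (zpowers x)).to_sup_of_normal_right
          ((isPGroup_pCore q G).to_le inf_le_left)
      obtain ⟨k, hk⟩ := IsPGroup.iff_orderOf.1 hP ⟨u, hu⟩
      exact ⟨k, by rwa [Subgroup.orderOf_mk] at hk⟩
    have hw1 : w = 1 := by
      obtain ⟨k, hk⟩ := hq1 (m⁻¹ * x) (mul_mem (mem_sup_right (inv_mem hm)) (mem_sup_left (mem_zpowers x)))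
      have hcomm : Commute (m⁻¹ * x) w⁻¹ := ((hwm.inv_right.mul_right hwx').inv_left).symm
      have h1 : orderOf (y * x * y⁻¹) = q ^ a := by
        rw [← hxa]; exact MulEquiv.orderOf_eq (MulAut.conj y) x
      have h2 : w⁻¹ ^ (q ^ (a + k)) = 1 := by
        have h3 : ((m⁻¹ * x) * w⁻¹) ^ (q ^ (a + k)) = 1 := by
          rw [← hyx]
          exact orderOf_dvd_iff_pow_eq_one.1 (h1 ▸ pow_dvd_pow q (Nat.le_add_right a k))
        rw [hcomm.mul_pow, orderOf_dvd_iff_pow_eq_one.1 (hk ▸ pow_dvd_pow q (Nat.le_add_left k a)),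
          one_mul] at h3
        exact h3
      refine inv_eq_one.1 (orderOf_eq_one_iff.1 (Nat.eq_one_of_dvd_coprimes
        (((card_pPrimeCore_coprime q G).coprime_dvd_left
          (Subgroup.orderOf_dvd_natCard _ hwP)).pow_right (a + k)) (orderOf_inv w).dvd
        (orderOf_dvd_of_pow_eq_one h2)))
    subst hw1
    rw [mul_one] at hmw
    subst hmw
    have hym : ∀ n : ℕ, y ^ n * x * (y ^ n)⁻¹ = z⁻¹ ^ n * x := by
      intro n
      have hyz : Commute y z⁻¹ :=
        (show Commute y z from hcent y hy r b hr hyb q hq hqr z (mem_inf.1 hm).1).inv_right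
      induction n with
      | zero => simp
      | succ n ih =>
        rw [pow_succ', show y * y ^ n * x * (y * y ^ n)⁻¹ = y * (y ^ n * x * (y ^ n)⁻¹) * y⁻¹ by group,
          ih, show y * (z⁻¹ ^ n * x) * y⁻¹ = (y * z⁻¹ ^ n * y⁻¹) * (y * x * y⁻¹) by group,
          (hyz.pow_right n).eq, mul_inv_cancel_right,
          show y * x * y⁻¹ = z⁻¹ * x by rw [hz, commutatorElement_def]; group, ← mul_assoc, pow_succ]
    have hz1 := hym (orderOf y)
    rw [pow_orderOf_eq_one, inv_one, one_mul, mul_one, right_eq_mul] at hz1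
    obtain ⟨k, hk⟩ := IsPGroup.iff_orderOf.1 (isPGroup_pCore q G) ⟨z, (mem_inf.1 hm).1⟩
    rw [Subgroup.orderOf_mk] at hk
    have : z = 1 := orderOf_eq_one_iff.1 (Nat.eq_one_of_dvd_coprimes
      (Nat.coprime_pow_primes k b hq hr hqr) (hk ▸ dvd_rfl)
      (hyb ▸ orderOf_inv z ▸ orderOf_dvd_of_pow_eq_one hz1))
    rw [hz, commutatorElement_eq_one_iff_mul_comm] at this
    exact this
  have hnil : Group.IsNilpotent N := by
    refine ((Group.isNilpotent_of_finite_tfae (G := N)).out 0 3 rfl rfl).mpr fun q hq Q => ?_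
    rw [← normalizer_eq_top_iff, ← index_eq_one]
    by_contra hne
    obtain ⟨s, hs, hd⟩ := Nat.exists_prime_and_dvd hne
    haveI : Fact s.Prime := ⟨hs⟩
    by_cases hsq : s = q
    · subst hsq
      exact Q.not_dvd_index (hd.trans (index_dvd_of_le le_normalizer))
    · let S : Sylow s N := default
      refine S.not_dvd_index (hd.trans (index_dvd_of_le fun y hy => centralizer_le_normalizer _ ?_))
      refine mem_centralizer_iff.2 fun x hx => ?_
      obtain ⟨a, ha⟩ := IsPGroup.iff_orderOf.1 Q.isPGroup' ⟨x, hx⟩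
      obtain ⟨b, hb⟩ := IsPGroup.iff_orderOf.1 S.isPGroup' ⟨y, hy⟩
      rw [Subgroup.orderOf_mk, ← Subgroup.orderOf_coe] at ha hb
      exact Subtype.ext (hcomm x x.2 y y.2 q s a b hq.out hs (Ne.symm hsq) ha hb)
  exact le_fittingSubgroup hnil (mem_centralizer_iff.2 fun x hx => (hg x hx.1 hx.2).symm)

end Cfsg.Agent.S3785
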