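import Cfsg.Statements.S3790
import Cfsg.Agent.Lib.Solv.PLength
import Cfsg.Agent.Lib.Solv.PSolvable
import Mathlib

set_option autoImplicit false
open Cfsg

namespace Cfsg.Agent.S3790

open Subgroup Cfsg.Agent.Solv

universe u

/-- The upper series is the fastest one. -/
theorem fastest {G : Type*} [Group G] [Finite G] {p : ℕ} [Fact p.Prime] (C : ℕ → Subgroup G) (hn : ∀ j, (C j).Normal)
    (h0 : C 0 = ⊥) (heven : ∀ i, ((C (2 * i)).relIndex (C (2 * i + 1))).Coprime p)
    (hodd : ∀ i, ∃ k, (C (2 * i + 1)).relIndex (C (2 * i + 2)) ∣ p ^ k) :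
    ∀ i, C (2 * i) ≤ (upperPSeries p G (2 * i)).1 ∧ C (2 * i + 1) ≤ (upperPSeries p G (2 * i + 1)).1 := by
  have step1 : ∀ i, C (2 * i) ≤ (upperPSeries p G (2 * i)).1 → C (2 * i + 1) ≤ (upperPSeries p G (2 * i + 1)).1 := by
    intro i h
    haveI := hn (2 * i + 1)
    haveI : ((C (2 * i + 1)).map (QuotientGroup.mk' (upperPSeries p G (2 * i)).1)).Normal :=
      Normal.map inferInstance _ (QuotientGroup.mk'_surjective _)
    rw [upperPSeries_odd, ← map_le_iff_le_comap]
    refine le_pPrimeCore ((heven i).coprime_dvd_left ?_)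
    rw [card_map_mk'_eq_relIndex]
    exact relIndex_dvd_of_le_left _ h
  have step2 : ∀ i, C (2 * i + 1) ≤ (upperPSeries p G (2 * i + 1)).1 → C (2 * i + 2) ≤ (upperPSeries p G (2 * i + 2)).1 := by
    intro i h
    haveI := hn (2 * i + 2)
    haveI : ((C (2 * i + 2)).map (QuotientGroup.mk' (upperPSeries p G (2 * i + 1)).1)).Normal :=
      Normal.map inferInstance _ (QuotientGroup.mk'_surjective _)
    rw [upperPSeries_even, ← map_le_iff_le_comap]
    refine le_pCore ?_
    obtain ⟨k, hk⟩ := hodd i
    have hd : Nat.card ((C (2 * i + 2)).map (QuotientGroup.mk' (upperPSeries p G (2 * i + 1)).1)) ∣ p ^ k := by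
      rw [card_map_mk'_eq_relIndex]
      exact (relIndex_dvd_of_le_left _ h).trans hk
    obtain ⟨j, -, hj⟩ := (Nat.dvd_prime_pow (Fact.out : p.Prime)).1 hd
    exact IsPGroup.of_card hj
  intro i
  induction i with
  | zero =>
    have h := (le_of_eq h0).trans bot_le (c := (upperPSeries p G (2 * 0)).1)
    exact ⟨h, step1 0 h⟩
  | succ i ih =>
    have h := step2 i ih.2
    exact ⟨h, step1 (i + 1) h⟩

theorem series_even (p i : ℕ) (G : Type*) [Group G] [Finite G] :
    ((upperPSeries p G (2 * i)).1.relIndex (upperPSeries p G (2 * i + 1)).1).Coprime p := by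
  rw [upperPSeries_odd, relIndex_comap_mk']
  exact card_pPrimeCore_coprime p _

theorem series_odd (p i : ℕ) [Fact p.Prime] (G : Type*) [Group G] [Finite G] :
    ∃ k, (upperPSeries p G (2 * i + 1)).1.relIndex (upperPSeries p G (2 * i + 2)).1 ∣ p ^ k := by
  obtain ⟨k, hk⟩ := IsPGroup.iff_card.1 (isPGroup_pCore p (G ⧸ (upperPSeries p G (2 * i + 1)).1))
  exact ⟨k, by rw [upperPSeries_even, relIndex_comap_mk', hk]⟩

theorem series_char (p j : ℕ) (G : Type*) [Group G] [Finite G] : ∀ e : G ≃* G, (upperPSeries p G j).1.map e.toMonoidHom ≤ (upperPSeries p G j).1 ∨ ¬ p.Prime := by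
  intro e
  by_cases hp : p.Prime
  swap
  · exact Or.inr hp
  left
  haveI := Fact.mk hp
  have h := fastest (p := p) (fun j => (upperPSeries p G j).1.map e.toMonoidHom)
    (fun j => Normal.map (upperPSeries_normal p G j) _ e.surjective) (by simp [upperPSeries_zero])
    (fun i => by simpa only [relIndex_map_map_of_injective (f := e.toMonoidHom) _ _ e.injective] using series_even p i G)
    (fun i => by simpa only [relIndex_map_map_of_injective (f := e.toMonoidHom) _ _ e.injective] using series_odd p i G)
  rcases Nat.even_or_odd' j with ⟨i, rfl | rfl⟩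
  · exact (h i).1
  · exact (h i).2

theorem plen_subgroup {G : Type*} [Group G] [Finite G] {p k : ℕ} [Fact p.Prime] (h : PLengthLE p k G) (K : Subgroup G) :
    PLengthLE p k K := by
  have hrel : ∀ A B : Subgroup G, A.Normal → (A.comap K.subtype).relIndex (B.comap K.subtype) ∣ A.relIndex B := by
    intro A B hA
    rw [relIndex_comap, ← card_map_mk'_eq_relIndex, ← card_map_mk'_eq_relIndex]
    exact Subgroup.card_dvd_of_le (map_mono (map_comap_le _ _))
  have h' := fastest (p := p) (fun j => (upperPSeries p G j).1.comap K.subtype) (fun j => inferInstance)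
    (by simp [upperPSeries_zero])
    (fun i => (series_even p i G).coprime_dvd_left (hrel _ _ inferInstance))
    (fun i => (series_odd p i G).imp fun k hk => (hrel _ _ inferInstance).trans hk)
  unfold PLengthLE at h ⊢
  rw [eq_top_iff, ← comap_top K.subtype, ← h]
  exact (h' k).2

theorem plen_surjective {G H : Type*} [Group G] [Finite G] [Group H] [Finite H] {p k : ℕ} [Fact p.Prime] (h : PLengthLE p k G)
    (f : G →* H) (hf : Function.Surjective f) : PLengthLE p k H := by
  have hrel : ∀ A B : Subgroup G, A.Normal → A ≤ B → (A.map f).relIndex (B.map f) ∣ A.relIndex B := by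
    intro A B hA hAB
    rw [relIndex_map_map, show B ⊔ f.ker = B ⊔ (A ⊔ f.ker) by rw [← sup_assoc, sup_eq_left.2 hAB], relIndex_sup_right]
    exact relIndex_dvd_of_le_left _ le_sup_left
  have h' := fastest (p := p) (fun j => (upperPSeries p G j).1.map f) (fun j => Normal.map inferInstance f hf)
    (by simp [upperPSeries_zero])
    (fun i => (series_even p i G).coprime_dvd_left (hrel _ _ inferInstance (upperPSeries_le_succ p _ G)))
    (fun i => (series_odd p i G).imp fun k hk => (hrel _ _ inferInstance (upperPSeries_le_succ p (2 * i + 1) G)).trans hk)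
  unfold PLengthLE at h ⊢
  rw [eq_top_iff, ← map_top_of_surjective f hf, ← h]
  exact (h' k).2

theorem plen_extension {G H : Type*} [Group G] [Finite G] [Group H] [Finite H] {p a b : ℕ} [Fact p.Prime] (f : G →* H)
    (hf : Function.Surjective f) (ha : PLengthLE p a f.ker) (hb : PLengthLE p b H) : PLengthLE p (a + b) G := by
  set N := f.ker
  have hn : ∀ j, ((upperPSeries p N j).1.map N.subtype).Normal := by
    intro j
    refine ⟨fun x hx g => ?_⟩
    obtain ⟨y, hy, rfl⟩ := hx
    have h := (series_char p j N (MulAut.conjNormal g)).resolve_right (not_not.2 Fact.out)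
    exact ⟨MulAut.conjNormal g y, h (mem_map_of_mem _ hy), by simp⟩
  have h' := fastest (p := p) (fun j => (upperPSeries p N j).1.map N.subtype) hn (by simp [upperPSeries_zero])
    (fun i => by simpa only [relIndex_map_map_of_injective _ _ N.subtype_injective] using series_even p i N)
    (fun i => by simpa only [relIndex_map_map_of_injective _ _ N.subtype_injective] using series_odd p i N)
  have hN : N ≤ (upperPSeries p G (2 * a + 1)).1 := by
    have h1 := (h' a).2
    unfold PLengthLE at ha
    rw [show (upperPSeries p N (2 * a + 1)).1 = ⊤ from ha, ← MonoidHom.range_eq_map, range_subtype] at h1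
    exact h1
  have hb' : PLengthLE p b (G ⧸ N) := plen_surjective hb (QuotientGroup.quotientKerEquivOfSurjective f hf).symm.toMonoidHom
    (QuotientGroup.quotientKerEquivOfSurjective f hf).symm.surjective
  have h0 : (upperPSeries p (G ⧸ N) (2 * 0 + 1)).1.comap (QuotientGroup.mk' N) ≤ (upperPSeries p G (2 * a + 1)).1 := by
    set U := (upperPSeries p G (2 * a + 1)).1
    set B := (upperPSeries p (G ⧸ N) (2 * 0 + 1)).1.comap (QuotientGroup.mk' N) with hB
    haveI : (B.map (QuotientGroup.mk' U)).Normal := Normal.map inferInstance _ (QuotientGroup.mk'_surjective _)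
    have hle : B.map (QuotientGroup.mk' U) ≤ pPrimeCore p (G ⧸ U) := by
      refine le_pPrimeCore ((series_even p 0 (G ⧸ N)).coprime_dvd_left ?_)
      rw [card_map_mk'_eq_relIndex]
      refine (relIndex_dvd_of_le_left _ hN).trans (dvd_of_eq ?_)
      rw [hB, relIndex_comap_mk']
      change _ = (⊥ : Subgroup (G ⧸ N)).relIndex _
      rw [relIndex_bot_left]
    rw [pPrimeCore_quotient_upperPSeries_odd] at hle
    rw [map_le_iff_le_comap, MonoidHom.comap_bot, QuotientGroup.ker_mk'] at hle
    exact hle
  have h1 := upperPSeries_comap_add N (by simp [parity_simps]) h0 (2 * b)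
  unfold PLengthLE at hb' ⊢
  rw [show 2 * 0 + 1 + 2 * b = 2 * b + 1 by ring, hb', comap_top, top_le_iff,
    show 2 * a + 1 + 2 * b = 2 * (a + b) + 1 by ring] at h1
  exact h1

theorem plen_zero_bot {G : Type*} [Group G] [Finite G] (p : ℕ) : PLengthLE p 0 (⊥ : Subgroup G) :=
  pLengthLE_zero_of_coprime (by rw [card_bot]; exact Nat.coprime_one_left p)

theorem aux (p : ℕ) [Fact p.Prime] : ∀ (r : ℕ) (G : Type u) [Group G] [Finite G] (q l : Fin r → ℕ),
    (∀ i, (q i).Prime ∧ q i ≠ p) → (∀ s : ℕ, s.Prime → s ∣ Nat.card G → s ≠ p → ∃ i, q i = s) →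
    (∀ i, PLengthLE (q i) (l i) G) → PLengthLE p (Finset.univ.prod fun i => 1 + l i) G := by
  intro r
  induction r with
  | zero =>
    intro G _ _ q l _ hcover _
    have hG : IsPGroup p G := IsPGroup.of_card (Nat.eq_prime_pow_of_unique_prime_dvd Nat.card_pos.ne' fun {d} hd hdd => by
      by_contra hne
      obtain ⟨i, -⟩ := hcover d hd hdd hne
      exact i.elim0)
    rw [Finset.univ_eq_empty, Finset.prod_empty]
    refine pLengthLE_of_quotient_pCore (⊤ : Subgroup G) (hG.to_subgroup ⊤) (k := 0) (pLengthLE_zero_of_coprime ?_)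
    rw [← index_eq_card, index_top]
    exact Nat.coprime_one_left p
  | succ r ih =>
    intro G _ _ q l hq hcover hl
    haveI : Fact (q 0).Prime := ⟨(hq 0).1⟩
    rw [Fin.prod_univ_succ]
    set X := Finset.univ.prod fun i : Fin r => 1 + l i.succ with hX
    -- the `q 0`-prime factors
    have hfac : ∀ j, PLengthLE p X (pPrimeCore (q 0) (G ⧸ (upperPSeries (q 0) G (2 * j)).1)) := by
      intro j
      set U := (upperPSeries (q 0) G (2 * j)).1
      refine ih _ (fun i => q i.succ) (fun i => l i.succ) (fun i => hq i.succ) (fun s hs hsd hsp => ?_) fun i => ?_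
      · obtain ⟨i, hi⟩ := hcover s hs ((hsd.trans (card_subgroup_dvd_card _)).trans (card_quotient_dvd_card U)) hsp
        rcases Fin.eq_zero_or_eq_succ i with rfl | ⟨i', rfl⟩
        · exfalso
          subst hi
          have hg := Nat.dvd_gcd hsd (dvd_refl (q 0))
          rw [(card_pPrimeCore_coprime (q 0) (G ⧸ U)).gcd_eq_one] at hg
          exact hs.not_dvd_one hg
        · exact ⟨i', hi⟩
      · haveI : Fact (q i.succ).Prime := ⟨(hq i.succ).1⟩
        exact plen_subgroup (plen_surjective (hl i.succ) (QuotientGroup.mk' U) (QuotientGroup.mk'_surjective U)) _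
    -- passing through the series
    have hext : ∀ (U : Subgroup G) [U.Normal] (B : Subgroup (G ⧸ U)) (a b : ℕ), PLengthLE p a U → PLengthLE p b B →
        PLengthLE p (a + b) (B.comap (QuotientGroup.mk' U) : Subgroup G) := by
      intro U _ B a b ha hb
      set f := (QuotientGroup.mk' U).subgroupComap B with hf
      refine plen_extension f (fun y => ?_) ?_ hb
      · obtain ⟨x, hx⟩ := QuotientGroup.mk'_surjective U (y : G ⧸ U)
        exact ⟨⟨x, by rw [mem_comap, hx]; exact y.2⟩, Subtype.ext hx⟩
      · have hle : U ≤ B.comap (QuotientGroup.mk' U) := le_comap_mk' U B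
        have e : f.ker = U.subgroupOf (B.comap (QuotientGroup.mk' U)) := by
          ext x
          rw [MonoidHom.mem_ker, mem_subgroupOf, ← QuotientGroup.eq_one_iff]
          exact ⟨fun h => congrArg Subtype.val h, fun h => Subtype.ext h⟩
        rw [e]
        exact plen_surjective ha (subgroupOfEquivOfLe hle).symm.toMonoidHom (subgroupOfEquivOfLe hle).symm.surjective
    have hclaim : ∀ j, PLengthLE p ((j + 1) * X) ((upperPSeries (q 0) G (2 * j + 1)).1 : Subgroup G) := by
      intro j
      induction j with
      | zero =>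
        rw [upperPSeries_odd]
        refine pLengthLE_mono (hext _ _ 0 X ?_ (hfac 0)) (by simp)
        rw [Nat.mul_zero, upperPSeries_zero]
        exact plen_zero_bot p
      | succ j ihj =>
        have h2 : PLengthLE p ((j + 1) * X) ((upperPSeries (q 0) G (2 * j + 2)).1 : Subgroup G) := by
          rw [upperPSeries_even]
          refine hext _ _ _ 0 ihj (pLengthLE_zero_of_coprime ?_)
          obtain ⟨k, hk⟩ := IsPGroup.iff_card.1 (isPGroup_pCore (q 0) (G ⧸ (upperPSeries (q 0) G (2 * j + 1)).1))
          rw [hk]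
          exact ((Nat.coprime_primes (hq 0).1 Fact.out).2 (hq 0).2).pow_left k
        rw [upperPSeries_odd, show (j + 1 + 1) * X = (j + 1) * X + X by ring]
        exact hext _ _ _ X h2 (hfac (j + 1))
    have hfin := hclaim (l 0)
    have htop : (upperPSeries (q 0) G (2 * l 0 + 1)).1 = ⊤ := hl 0
    rw [htop] at hfin
    exact pLengthLE_mono (plen_surjective hfin (topEquiv (G := G)).toMonoidHom (topEquiv (G := G)).surjective) (by rw [add_comm 1 (l 0)])

/-- Let G be a finite solvable group and p a prime. Suppose p₁, …, p_r are distinct primes, all different from p, that include every prime dividing the order of G other than p, and that G has p_i-length at most l_i for each i. Then G has p-length at most the product of the numbers 1 + l_i. -/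
theorem result {G : Type*} [Group G] [Finite G] (hG : Group.IsSolvable G) (p : ℕ) [Fact p.Prime] (r : ℕ) (q : Fin r → ℕ) (hq : ∀ i, (q i).Prime ∧ q i ≠ p) (hinj : Function.Injective q) (hcover : ∀ s : ℕ, s.Prime → s ∣ Nat.card G → s ≠ p → ∃ i, q i = s) (l : Fin r → ℕ) (hl : ∀ i, Cfsg.PLengthLE (q i) (l i) G) : Cfsg.PLengthLE p (Finset.univ.prod fun i => 1 + l i) G := by
  exact aux p r G q l hq hcover hl

end Cfsg.Agent.S3790
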