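import Cfsg.Statements.S3791
import Cfsg.Agent.S3790
import Mathlib

set_option autoImplicit false
open Cfsg

namespace Cfsg.Agent.S3791

open Subgroup Cfsg.Agent.Solv

universe u

theorem derived_add {G : Type*} [Group G] (U : Subgroup G) (a : ℕ) (h : derivedSeries G a ≤ U) :
    ∀ b, derivedSeries G (a + b) ≤ (derivedSeries U b).map U.subtype := by
  intro b
  induction b with
  | zero => rw [Nat.add_zero, derivedSeries_zero, ← MonoidHom.range_eq_map, range_subtype]; exact h
  | succ b ih =>
    show ⁅derivedSeries G (a + b), derivedSeries G (a + b)⁆ ≤ Subgroup.map _ ⁅derivedSeries U b, derivedSeries U b⁆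
    rw [Subgroup.map_commutator]
    exact Subgroup.commutator_mono ih ih

theorem aux {r : ℕ} (q d : Fin r → ℕ) (hq : ∀ i, (q i).Prime) (n : ℕ) :
    ∀ (G : Type u) [Group G] [Finite G] (l : Fin r → ℕ), ∑ i, l i = n →
      (∀ s : ℕ, s.Prime → s ∣ Nat.card G → ∃ i, q i = s) →
      (∀ i, ∀ S : Sylow (q i) G, derivedSeries (S : Subgroup G) (d i) = ⊥) →
      (∀ i, PLengthLE (q i) (l i) G) → derivedSeries G (∑ i, d i * l i) = ⊥ := by
  induction n using Nat.strong_induction_on with
  | _ n ih =>
  intro G _ _ l hn hcover hd hl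
  classical
  rw [eq_bot_iff]
  intro x hx
  rw [mem_bot, ← orderOf_eq_one_iff]
  by_contra hne
  obtain ⟨s, hs, hsd⟩ := Nat.exists_prime_and_dvd hne
  obtain ⟨i, rfl⟩ := hcover s hs (hsd.trans (orderOf_dvd_natCard x))
  haveI : Fact (q i).Prime := ⟨hs⟩
  set U1 := (upperPSeries (q i) G 1).1 with hU1
  suffices hx1 : x ∈ U1 by
    have hc : (Nat.card U1).Coprime (q i) := by
      have := Cfsg.Agent.S3790.series_even (q i) 0 G
      rwa [show (upperPSeries (q i) G (2 * 0)).1 = ⊥ from rfl, relIndex_bot_left] at this
    have hg := Nat.dvd_gcd (hsd.trans (Subgroup.orderOf_dvd_natCard U1 hx1)) (dvd_refl (q i))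
    rw [hc.gcd_eq_one] at hg
    exact hs.not_dvd_one hg
  rcases hli : l i with _ | m
  · have h := hl i
    rw [hli] at h
    rw [hU1, show (upperPSeries (q i) G 1).1 = ⊤ from h]
    exact mem_top x
  -- the group modulo `O_{q',q}`
  set U2 := (upperPSeries (q i) G 2).1 with hU2
  set l' := Function.update l i m with hl'
  have hsum : ∑ j, l' j + 1 = n := by
    rw [← hn, hl', Finset.sum_update_of_mem (Finset.mem_univ i), ← Finset.add_sum_erase _ l (Finset.mem_univ i), hli,
      Finset.sdiff_singleton_eq_erase]
    omega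
  have hsum2 : ∑ j, d j * l j = ∑ j, d j * l' j + d i := by
    have e : (fun j => d j * l' j) = Function.update (fun j => d j * l j) i (d i * m) := by
      funext j
      rcases eq_or_ne j i with rfl | hji
      · rw [Function.update_self, hl', Function.update_self]
      · rw [Function.update_of_ne hji, hl', Function.update_of_ne hji]
    rw [e, Finset.sum_update_of_mem (Finset.mem_univ i), ← Finset.add_sum_erase _ _ (Finset.mem_univ i), hli,
      Finset.sdiff_singleton_eq_erase]
    ring
  have hlm : PLengthLE (q i) m (G ⧸ U2) := by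
    set f := QuotientGroup.mk' U2
    have hf : Function.Surjective f := QuotientGroup.mk'_surjective U2
    have hrel : ∀ A B : Subgroup G, A ≤ B → U2 ≤ A → (A.map f).relIndex (B.map f) = A.relIndex B := by
      intro A B hAB hA
      rw [relIndex_map_map, QuotientGroup.ker_mk', sup_eq_left.2 hA, sup_eq_left.2 (hA.trans hAB)]
    have hU : ∀ j, U2 ≤ (upperPSeries (q i) G (j + 2)).1 := fun j => upperPSeries_mono (q i) G (Nat.le_add_left 2 j)
    have h' := Cfsg.Agent.S3790.fastest (p := q i) (fun j => (upperPSeries (q i) G (j + 2)).1.map f)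
      (fun j => Normal.map inferInstance f hf) (QuotientGroup.map_mk'_self U2)
      (fun j => by
        rw [hrel _ _ (upperPSeries_le_succ (q i) (2 * j + 2) G) (hU _)]
        exact Cfsg.Agent.S3790.series_even (q i) (j + 1) G)
      (fun j => by
        rw [hrel _ _ (upperPSeries_le_succ (q i) (2 * j + 1 + 2) G) (hU _)]
        exact Cfsg.Agent.S3790.series_odd (q i) (j + 1) G)
    have h := hl i
    rw [hli] at h
    unfold PLengthLE at h ⊢
    rw [eq_top_iff, ← map_top_of_surjective f hf, ← h]
    exact (h' m).2
  have hder : derivedSeries G (∑ j, d j * l' j) ≤ U2 := by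
    have h2 := ih (∑ j, l' j) (by omega) (G ⧸ U2) l' rfl
      (fun s hs hsd => hcover s hs (hsd.trans (card_quotient_dvd_card U2)))
      (fun j S => by
        haveI : Fact (q j).Prime := ⟨hq j⟩
        obtain ⟨R, hR⟩ := Sylow.mapSurjective_surjective (QuotientGroup.mk'_surjective U2) (q j) S
        rw [← hR, Sylow.coe_mapSurjective, ← map_derivedSeries_eq ((QuotientGroup.mk' U2).subgroupMap_surjective (R : Subgroup G)),
          hd j R, Subgroup.map_bot])
      (fun j => by
        haveI : Fact (q j).Prime := ⟨hq j⟩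
        rcases eq_or_ne j i with rfl | hji
        · rw [hl', Function.update_self]; exact hlm
        · rw [hl', Function.update_of_ne hji]
          exact Cfsg.Agent.S3790.plen_surjective (hl j) _ (QuotientGroup.mk'_surjective U2))
    intro y hy
    rw [← QuotientGroup.eq_one_iff, ← mem_bot, ← h2]
    exact map_derivedSeries_le_derivedSeries (QuotientGroup.mk' U2) _ (mem_map_of_mem _ hy)
  rw [hsum2] at hx
  obtain ⟨y, hy, rfl⟩ := derived_add U2 _ hder (d i) hx
  -- the factor `U2 / U1` lies in a Sylow subgroup
  set π := QuotientGroup.mk' U1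
  have hmap : ∀ z : U2, π (z : G) ∈ pCore (q i) (G ⧸ U1) := fun z => by
    have hz : (z : G) ∈ (upperPSeries (q i) G (2 * 0 + 2)).1 := z.2
    rw [upperPSeries_even] at hz
    exact hz
  obtain ⟨S⟩ : Nonempty (Sylow (q i) G) := inferInstance
  have hS : derivedSeries ((S : Subgroup G).map π) (d i) = ⊥ := by
    rw [← map_derivedSeries_eq (π.subgroupMap_surjective (S : Subgroup G)), hd i S, Subgroup.map_bot]
  have hSle : pCore (q i) (G ⧸ U1) ≤ (S : Subgroup G).map π := by
    have := pCore_le_sylow (S.mapSurjective (QuotientGroup.mk'_surjective U1))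
    rwa [Sylow.coe_mapSurjective] at this
  let φ : U2 →* (S : Subgroup G).map π := (π.comp U2.subtype).codRestrict _ fun z => hSle (hmap z)
  have h1 : φ y ∈ derivedSeries ((S : Subgroup G).map π) (d i) := map_derivedSeries_le_derivedSeries φ _ (mem_map_of_mem φ hy)
  rw [hS, mem_bot] at h1
  exact (QuotientGroup.eq_one_iff (y : G)).1 (congrArg Subtype.val h1)

/-- The Hall–Higman bound on derived length: let G be a finite solvable group, let p₁, …, p_r be distinct primes that include every prime dividing the order of G, and suppose that for each i the Sylow p_i-subgroups of G have derived length at most d_i and G has p_i-length at most l_i. Then G has derived length at most Σ d_i l_i. -/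
theorem result {G : Type*} [Group G] [Finite G] (hG : Group.IsSolvable G) (r : ℕ) (q : Fin r → ℕ) (hq : ∀ i, (q i).Prime) (hinj : Function.Injective q) (hcover : ∀ s : ℕ, s.Prime → s ∣ Nat.card G → ∃ i, q i = s) (d l : Fin r → ℕ) (hd : ∀ i, ∀ P : Subgroup G, (haveI := Fact.mk (hq i); ∃ S : Sylow (q i) G, (S : Subgroup G) = P) → derivedSeries ↥P (d i) = ⊥) (hl : ∀ i, Cfsg.PLengthLE (q i) (l i) G) : derivedSeries G (Finset.univ.sum fun i => d i * l i) = ⊥ := by
  exact aux q d hq _ G l rfl hcover (fun i S => hd i _ ⟨S, rfl⟩) hl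

end Cfsg.Agent.S3791
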