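import Cfsg.Statements.S3796
import Mathlib
import Cfsg.Agent.Lib.Struct.Ward

set_option autoImplicit false
open Cfsg
open scoped Pointwise

namespace Cfsg.Agent.S3796

/-- Ward's Theorem: let G be a finite solvable group and A an elementary abelian group of automorphisms of G of order p² (p a prime) with no non-identity common fixed point. Then G has Fitting height at most 2: G has Fitting height at most m when there is a chain of normal subgroups 1 = F₀ ≤ F₁ ≤ ⋯ ≤ F_m = G with each F_{i+1}/F_i nilpotent. -/
theorem result {G : Type*} [Group G] [Finite G] (hG : Group.IsSolvable G) {p : ℕ} (hp : p.Prime) (A : Subgroup (MulAut G)) (hA : Cfsg.IsElementaryAbelian p A) (hcard : Nat.card A = p ^ 2) (hfpf : ∀ g : G, (∀ a ∈ A, a g = g) → g = 1) : ∃ F : Fin (2 + 1) → Subgroup G, F 0 = ⊥ ∧ F (Fin.last 2) = ⊤ ∧ Monotone F ∧ (∀ i, (F i).Normal) ∧ ∀ i : Fin 2, ∃ k : ℕ, (F i.succ).lowerCentralSeries k ≤ F i.castSucc := by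
  classical
  haveI : Fact p.Prime := ⟨hp⟩
  set Γ := G ⋊[A.subtype] A
  set G' : Subgroup Γ := (SemidirectProduct.inl : G →* Γ).range with hG'
  set A' : Subgroup Γ := (SemidirectProduct.inr : A →* Γ).range with hA'
  haveI : Finite Γ := Finite.of_equiv _ (SemidirectProduct.equivProd (φ := A.subtype)).symm
  haveI : G'.Normal := by
    rw [hG', SemidirectProduct.range_inl_eq_ker_rightHom]; infer_instance
  haveI : IsMulCommutative A := hA.1
  haveI : IsMulCommutative A' := ⟨⟨by
    rintro ⟨_, x, rfl⟩ ⟨_, y, rfl⟩
    exact Subtype.ext (by simp [← map_mul, mul_comm' x y])⟩⟩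
  have hexp : ∀ x ∈ A', x ^ p = 1 := by
    rintro _ ⟨x, rfl⟩
    rw [← map_pow, show x ^ p = 1 from Subtype.ext (hA.2 x x.2), map_one]
  have hcardA : Nat.card A' = p ^ 2 := by
    rw [← hcard]
    exact (Nat.card_congr (MonoidHom.ofInjective SemidirectProduct.inr_injective).toEquiv).symm
  have hAp : IsPGroup p A := IsPGroup.of_card hcard
  have hfix : ∀ y ∈ G', (∀ c ∈ A', c * y = y * c) → y = 1 := by
    rintro _ ⟨g, rfl⟩ h
    rw [hfpf g (fun a ha => ?_), map_one]
    have h1 := h _ ⟨⟨a, ha⟩, rfl⟩
    apply SemidirectProduct.inl_injective (φ := A.subtype)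
    have h2 := SemidirectProduct.inl_aut (φ := A.subtype) ⟨a, ha⟩ g
    rw [h1, map_inv, mul_inv_cancel_right] at h2
    exact h2
  have hcop : (Nat.card G).Coprime p := by
    refine ((Nat.Prime.coprime_iff_not_dvd hp).2 fun hd => ?_).symm
    -- A fixes a Sylow p-subgroup, and a fixed point in it
    obtain ⟨P, hP⟩ : ∃ P : Sylow p G, ∀ a : A, (a : MulAut G) • P = P := by
      letI : MulAction A (Sylow p G) :=
        { smul := fun a P => (a : MulAut G) • P
          one_smul := fun P => one_smul (MulAut G) P
          mul_smul := fun a b P => mul_smul (a : MulAut G) b P }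
      obtain ⟨P, hP⟩ := hAp.nonempty_fixed_point_of_prime_not_dvd_card (Sylow p G)
        (not_dvd_card_sylow p G)
      exact ⟨P, hP⟩
    let ψ : A →* MulAut (P : Subgroup G) :=
      { toFun := fun a =>
          { toFun := fun x => ⟨(a : MulAut G) x, by
              have h := Subgroup.smul_mem_pointwise_smul (x : G) (a : MulAut G) _ x.2
              have e := congrArg (fun Q : Sylow p G => (Q : Subgroup G)) (hP a)
              simp only [Sylow.pointwise_smul_def] at e
              exact (le_of_eq e) h⟩
            invFun := fun x => ⟨((a⁻¹ : A) : MulAut G) x, by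
              have h := Subgroup.smul_mem_pointwise_smul (x : G) ((a⁻¹ : A) : MulAut G) _ x.2
              have e := congrArg (fun Q : Sylow p G => (Q : Subgroup G)) (hP a⁻¹)
              simp only [Sylow.pointwise_smul_def] at e
              exact (le_of_eq e) h⟩
            left_inv := fun x => Subtype.ext (by simp)
            right_inv := fun x => Subtype.ext (by simp)
            map_mul' := fun x y => Subtype.ext (by simp) }
        map_one' := MulEquiv.ext fun x => Subtype.ext rfl
        map_mul' := fun a b => MulEquiv.ext fun x => Subtype.ext rfl }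
    obtain ⟨w, hw1, hw⟩ := Cfsg.Agent.Struct.Ward.exists_fixed hAp ψ (P.dvd_card_of_dvd_card hd)
    exact hw1 (Subtype.ext (hfpf w fun a ha => congrArg Subtype.val (hw ⟨a, ha⟩)))
  have hcG : (Nat.card G').Coprime p := by
    rwa [← Nat.card_congr (MonoidHom.ofInjective SemidirectProduct.inl_injective).toEquiv]
  have hsol : Group.IsSolvable G' := by
    haveI := hG
    exact Group.isSolvable_of_surjective (SemidirectProduct.inl : G →* Γ).rangeRestrict_surjective
  obtain ⟨k, hk⟩ := Cfsg.Agent.Struct.Ward.exists_nilpotent_residual _ Γ G' A' le_rfl hexp hcardA hcG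
    hfix hsol
  have hmap : ((⊤ : Subgroup G).lowerCentralSeries k).map (SemidirectProduct.inl : G →* Γ) =
      G'.lowerCentralSeries k := by
    rw [Subgroup.map_lowerCentralSeries, ← MonoidHom.range_eq_map]
  set L := (⊤ : Subgroup G).lowerCentralSeries k with hL
  have hLn : Group.IsNilpotent L := by
    rw [← hmap] at hk
    exact (Group.isNilpotent_congr (L.equivMapOfInjective _ SemidirectProduct.inl_injective)).2 hk
  haveI : L.Normal := Subgroup.normalizer_eq_top_iff.1
    (top_le_iff.1 ((⊤ : Subgroup G).self_le_normalizer_lowerCentralSeries (n := k)))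
  obtain ⟨j, hj⟩ := (Subgroup.isNilpotent_iff_lowerCentralSeries (S := L)).1 hLn
  refine ⟨![⊥, L, ⊤], rfl, rfl, ?_, ?_, ?_⟩
  · refine Fin.monotone_iff_le_succ.2 fun i => ?_
    fin_cases i <;> simp
  · intro i
    fin_cases i <;> simp <;> infer_instance
  · intro i
    fin_cases i
    · exact ⟨j, le_of_eq (by simpa using hj)⟩
    · exact ⟨k, le_of_eq (by simp [hL])⟩

end Cfsg.Agent.S3796
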