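import Cfsg.Statements.S3798
import Mathlib
import Cfsg.Agent.Lib.Solv.PLength
import Cfsg.Agent.Lib.Solv.PSolvable
import Cfsg.Agent.Lib.Solv.SchurZassenhaus
import Cfsg.Agent.Lib.Solv.Basic
import Cfsg.Agent.Lib.Local.OrderPFix

set_option autoImplicit false
open Cfsg

namespace Cfsg.Agent.S3798

open Subgroup Cfsg.Agent.Solv in
open scoped Pointwise in
theorem core {G : Type*} [Group G] [Finite G] {p : ℕ} [Fact p.Prime] (hp : p ≠ 2)
    (hdvd : p ∣ Nat.card G) (hG : Cfsg.IsPSolvable p G) (hK : Cfsg.pPrimeCore p G = ⊥)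
    (htrans : ∀ U V : Subgroup G, Nat.card U = p → Nat.card V = p →
      ∃ a : MulAut G, U.map a.toMonoidHom = V) : Cfsg.PLengthLE p 1 G := by
  classical
  have hpp : p.Prime := Fact.out
  haveI : Nontrivial G := Finite.one_lt_card_iff_nontrivial.1
    (hpp.one_lt.trans_le (Nat.le_of_dvd Nat.card_pos hdvd))
  set P0 := Cfsg.pCore p G with hP0
  haveI := pCore_characteristic p G
  haveI hPn : P0.Normal := by rw [hP0]; infer_instance
  have hPne : P0 ≠ ⊥ := (core_ne_bot_of_isPSolvable hG).resolve_right (fun h => h hK)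
  have hPp : IsPGroup p P0 := isPGroup_pCore p G
  have hchar : ∀ a : MulAut G, P0.map a.toMonoidHom = P0 :=
    fun a => characteristic_iff_map_eq.1 inferInstance a
  -- elements of order p lie in the centre of P0
  have hord : ∀ x : G, x ≠ 1 → x ^ p = 1 → ∀ u ∈ P0, orderOf u = p →
      ∃ a : MulAut G, (zpowers u).map a.toMonoidHom = zpowers x := fun x hx1 hx u _ hu =>
    htrans _ _ (by rw [Nat.card_zpowers, hu]) (by rw [Nat.card_zpowers, orderOf_eq_prime hx hx1])
  obtain ⟨u, hu, hup⟩ : ∃ u ∈ P0 ⊓ centralizer (P0 : Set G), orderOf u = p := by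
    haveI : Nontrivial P0 := (nontrivial_iff_ne_bot P0).2 hPne
    haveI := hPp.center_nontrivial
    obtain ⟨k, hk⟩ := (IsPGroup.iff_card (p := p)).1 (hPp.to_subgroup (center P0))
    have hd : p ∣ Nat.card (center P0) := by
      rcases k with _ | k
      · have := Finite.one_lt_card (α := center P0)
        rw [hk, pow_zero] at this; omega
      · exact hk ▸ dvd_pow_self p k.succ_ne_zero
    obtain ⟨⟨⟨z, hzP⟩, hz⟩, hzo⟩ := exists_prime_orderOf_dvd_card' p hd
    refine ⟨z, ⟨hzP, mem_centralizer_iff.2 fun y hy => ?_⟩, ?_⟩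
    · exact congrArg Subtype.val (mem_center_iff.1 hz ⟨y, hy⟩)
    · rw [← hzo, orderOf_mk, orderOf_mk]
  have hmem : ∀ x : G, x ^ p = 1 → x ∈ P0 ⊓ centralizer (P0 : Set G) := by
    intro x hx
    by_cases hx1 : x = 1
    · rw [hx1]; exact one_mem _
    obtain ⟨a, ha⟩ := hord x hx1 hx u hu.1 hup
    have hle : (zpowers u).map a.toMonoidHom ≤ P0 ⊓ centralizer (P0 : Set G) := by
      refine (map_mono (zpowers_le.2 hu)).trans ?_
      rintro _ ⟨y, hy, rfl⟩
      refine ⟨(hchar a).le ⟨y, hy.1, rfl⟩, mem_centralizer_iff.2 fun z hz => ?_⟩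
      obtain ⟨w, hw, rfl⟩ := (hchar a).ge hz
      show a w * a y = a y * a w
      rw [← map_mul, ← map_mul, mem_centralizer_iff.1 hy.2 w hw]
    exact hle (ha.symm ▸ mem_zpowers x)
  refine pLengthLE_of_quotient_pCore P0 hPp (k := 0) (pLengthLE_zero_of_coprime ?_)
  refine Nat.Coprime.symm ((Nat.Prime.coprime_iff_not_dvd hpp).2 fun hdq => ?_)
  haveI : Nontrivial (G ⧸ P0) := Finite.one_lt_card_iff_nontrivial.1
    (hpp.one_lt.trans_le (Nat.le_of_dvd Nat.card_pos hdq))
  have hQ : Cfsg.pPrimeCore p (G ⧸ P0) ≠ ⊥ :=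
    (core_ne_bot_of_isPSolvable (isPSolvable_quotient hG P0)).resolve_left
      (fun h => h (pCore_quotient_pCore p G))
  haveI := pPrimeCore_characteristic p (G ⧸ P0)
  set L := (Cfsg.pPrimeCore p (G ⧸ P0)).comap (QuotientGroup.mk' P0) with hL
  haveI hLn : L.Normal := inferInstance
  have hPL : P0 ≤ L := le_comap_mk' P0 _
  have hLmax : ∀ L' : Subgroup G, L'.Normal → P0 ≤ L' → Nat.card L' = Nat.card L → L' ≤ L := by
    intro L' hL' hPL' hc
    rw [hL, ← map_le_iff_le_comap]
    haveI : (L'.map (QuotientGroup.mk' P0)).Normal := hL'.map _ (QuotientGroup.mk'_surjective _)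
    refine le_pPrimeCore ?_
    have h1 := card_map_mk'_mul P0 L' hPL'
    have h2 := card_map_mk'_mul P0 L hPL
    rw [map_comap_eq_self_of_surjective (QuotientGroup.mk'_surjective P0)] at h2
    rw [hc, ← h2] at h1
    have h3 : Nat.card (L'.map (QuotientGroup.mk' P0)) = Nat.card (Cfsg.pPrimeCore p (G ⧸ P0)) := by
      have h0 : 0 < Nat.card P0 := Nat.card_pos
      nlinarith
    rw [h3]; exact card_pPrimeCore_coprime p _
  have hLchar : ∀ a : MulAut G, L.map a.toMonoidHom = L := by
    intro a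
    have hc : Nat.card (L.map a.toMonoidHom) = Nat.card L := card_map_of_injective (MulEquiv.injective a)
    refine eq_of_le_of_card_ge (hLmax _ (hLn.map _ a.surjective) ?_ hc) hc.ge
    rw [← hchar a]; exact map_mono hPL
  have hcopL : (Nat.card (P0.subgroupOf L)).Coprime (P0.subgroupOf L).index := by
    have h2 := card_map_mk'_mul P0 L hPL
    rw [map_comap_eq_self_of_surjective (QuotientGroup.mk'_surjective P0)] at h2
    have h4 := (P0.subgroupOf L).card_mul_index
    rw [card_subgroupOf hPL] at h4 ⊢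
    obtain ⟨j, hj⟩ := (IsPGroup.iff_card (p := p)).1 hPp
    have h5 : (P0.subgroupOf L).index = Nat.card (Cfsg.pPrimeCore p (G ⧸ P0)) := by
      have h0 : 0 < Nat.card P0 := Nat.card_pos
      nlinarith
    rw [h5, hj]
    exact (card_pPrimeCore_coprime p _).symm.pow_left j
  obtain ⟨M0, hM0⟩ := exists_right_complement'_of_coprime hcopL
  set M := M0.map L.subtype with hM
  have hML : M ≤ L := map_subtype_le _
  have hMc : Nat.card M = Nat.card M0 := card_map_subtype L M0
  have hMp : (Nat.card M).Coprime p := by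
    rw [hMc, ← hM0.symm.index_eq_card]
    obtain ⟨j, hj⟩ := (IsPGroup.iff_card (p := p)).1 hPp
    rw [card_subgroupOf hPL, hj] at hcopL
    rcases j with _ | j
    · rw [pow_zero] at hj; exact absurd (eq_bot_of_card_eq _ hj) hPne
    exact (hcopL.coprime_dvd_left (dvd_pow_self p j.succ_ne_zero)).symm
  have hPM : P0 ⊓ M = ⊥ := by
    obtain ⟨j, hj⟩ := (IsPGroup.iff_card (p := p)).1 hPp
    exact inf_eq_bot_of_coprime_card _ _ (by rw [hj]; exact hMp.symm.pow_left j)
  have hsup : P0 ⊔ M = L := by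
    have h := congrArg (Subgroup.map L.subtype) hM0.sup_eq_top
    rwa [Subgroup.map_sup, map_subgroupOf_eq_of_le hPL, ← MonoidHom.range_eq_map, range_subtype] at h
  set N := normalizer (M : Set G) with hN
  have hfr : ∀ g : G, ∃ n ∈ P0, n⁻¹ * g ∈ N := by
    intro g
    have hgM : MulAut.conj g • M ≤ L := by
      intro x hx
      rw [mem_conj_smul] at hx
      have := hLn.conj_mem _ (hML hx) g
      simpa [mul_assoc] using this
    obtain ⟨n, hn, hnM⟩ := conj_of_card_eq P0 M (MulAut.conj g • M)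
      (Or.inl (by haveI := hPp.isNilpotent; infer_instance)) le_normalizer_of_normal
      (by rw [hsup]; exact hgM) (card_conj_smul g M) (by
        obtain ⟨j, hj⟩ := (IsPGroup.iff_card (p := p)).1 hPp
        rw [hj]; exact hMp.symm.pow_left j)
    refine ⟨n, hn, ?_⟩
    have e : MulAut.conj (n⁻¹ * g) • M = M := by
      rw [map_mul, mul_smul, ← hnM, map_inv, inv_smul_smul]
    rw [hN, mem_normalizer_iff_map_conj_eq]
    exact e
  have hNbot : N ⊓ P0 = ⊥ := by
    refine (eq_bot_iff_forall _).2 ?_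
    by_contra hcon
    push Not at hcon
    obtain ⟨x, hx, hx1⟩ := hcon
    -- an element of order p centralizing M
    obtain ⟨v, ⟨hvN, hvP⟩, hvo⟩ : ∃ v ∈ N ⊓ P0, orderOf v = p := by
      obtain ⟨j, hj⟩ := (IsPGroup.iff_card (p := p)).1 (hPp.to_le (inf_le_right : N ⊓ P0 ≤ P0))
      have hd : p ∣ Nat.card (N ⊓ P0 : Subgroup G) := by
        rcases j with _ | j
        · rw [pow_zero] at hj
          exact absurd (mem_bot.1 (eq_bot_of_card_eq _ hj ▸ hx)) hx1
        · exact hj ▸ dvd_pow_self p j.succ_ne_zero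
      obtain ⟨⟨v, hv⟩, hvo⟩ := exists_prime_orderOf_dvd_card' p hd
      exact ⟨v, hv, by rw [← hvo, orderOf_mk]⟩
    have hvc : v ∈ centralizer (L : Set G) := by
      have hvM : v ∈ centralizer (M : Set G) := by
        rw [mem_centralizer_iff]
        intro m hm
        have h1 : v * m * v⁻¹ * m⁻¹ ∈ P0 ⊓ M :=
          ⟨by rw [show v * m * v⁻¹ * m⁻¹ = v * (m * v⁻¹ * m⁻¹) by group]
              exact P0.mul_mem hvP (hPn.conj_mem _ (P0.inv_mem hvP) m),
            M.mul_mem ((mem_normalizer_iff.1 hvN m).1 hm) (M.inv_mem hm)⟩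
        rw [hPM, mem_bot] at h1
        calc m * v = (v * m * v⁻¹ * m⁻¹)⁻¹ * (v * m) := by group
          _ = v * m := by rw [h1]; group
      have hle : L ≤ centralizer ({v} : Set G) := by
        rw [← hsup]
        refine sup_le (fun y hy => mem_centralizer_singleton_iff.2 ?_) fun y hy =>
          mem_centralizer_singleton_iff.2 (mem_centralizer_iff.1 hvM y hy)
        exact mem_centralizer_iff.1 (hmem v (by rw [← hvo, pow_orderOf_eq_one])).2 y hy
      exact mem_centralizer_iff.2 fun y hy => mem_centralizer_singleton_iff.1 (hle hy)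
    -- by transitivity all elements of order p centralize M
    have hPcM : P0 ≤ centralizer (M : Set G) := by
      refine Cfsg.Agent.Local.centralizes_of_fixed hp ⊥ M IsPGroup.of_bot hMp bot_le P0 hPp bot_le
        (by rw [normalizer_eq_top (H := P0)]; exact le_top) fun y hy _ hyp => ?_
      by_cases hy1 : y = 1
      · rw [hy1]; exact one_mem _
      obtain ⟨a, ha⟩ := hord y hy1 hyp v hvP hvo
      obtain ⟨v', hv', rfl⟩ := (ha.symm ▸ mem_zpowers y : y ∈ (zpowers v).map a.toMonoidHom)
      rw [mem_centralizer_iff]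
      intro m hm
      obtain ⟨l, hl, rfl⟩ := (hLchar a).ge (hML hm)
      show a l * a v' = a v' * a l
      rw [← map_mul, ← map_mul, mem_centralizer_iff.1 ((zpowers_le.2 hvc) hv') l hl]
    have hMbot : M = ⊥ := by
      refine le_bot_iff.1 (hPM ▸ le_inf ?_ le_rfl)
      exact (le_centralizer_iff.1 hPcM).trans (centralizer_pCore_le_of_isPSolvable hG hK)
    rw [hMbot, sup_bot_eq] at hsup
    apply hQ
    have h2 := card_map_mk'_mul P0 L hPL
    rw [map_comap_eq_self_of_surjective (QuotientGroup.mk'_surjective P0), ← hsup] at h2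
    refine eq_bot_of_card_eq _ ?_
    have h0 : 0 < Nat.card P0 := Nat.card_pos
    nlinarith
  -- the normalizer is a complement of order divisible by p
  have hNd : p ∣ Nat.card N := by
    refine hdq.trans ?_
    have hs : Function.Surjective ((QuotientGroup.mk' P0).comp N.subtype) := by
      intro q
      obtain ⟨g, rfl⟩ := QuotientGroup.mk'_surjective P0 q
      obtain ⟨n, hn, hng⟩ := hfr g
      refine ⟨⟨_, hng⟩, ?_⟩
      show QuotientGroup.mk' P0 (n⁻¹ * g) = QuotientGroup.mk' P0 g
      rw [map_mul, map_inv, show QuotientGroup.mk' P0 n = 1 from (QuotientGroup.eq_one_iff n).2 hn,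
        inv_one, one_mul]
    exact Nat.card_congr (QuotientGroup.quotientKerEquivOfSurjective _ hs).toEquiv ▸
      card_quotient_dvd_card _
  obtain ⟨⟨y, hy⟩, hyo⟩ := exists_prime_orderOf_dvd_card' p hNd
  rw [orderOf_mk] at hyo
  have h1 : y ∈ N ⊓ P0 := ⟨hy, (hmem y (by rw [← hyo, pow_orderOf_eq_one])).1⟩
  rw [hNbot, mem_bot] at h1
  rw [h1, orderOf_one] at hyo
  exact hpp.one_lt.ne hyo


/-- The Gaschütz–Yen Theorem: let G be a finite p-soluble group, p an odd prime dividing its order, such that the automorphism group of G permutes the subgroups of G of order p transitively. Then G has p-length at most 1. -/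
theorem result {G : Type*} [Group G] [Finite G] {p : ℕ} [Fact p.Prime] (hp : p ≠ 2) (hdvd : p ∣ Nat.card G) (hG : Cfsg.IsPSolvable p G) (htrans : ∀ U V : Subgroup G, Nat.card U = p → Nat.card V = p → ∃ a : MulAut G, U.map a.toMonoidHom = V) : Cfsg.PLengthLE p 1 G := by
  classical
  have hpp : p.Prime := Fact.out
  haveI := Cfsg.Agent.Solv.pPrimeCore_characteristic p G
  set K := Cfsg.pPrimeCore p G with hK
  have hKc : (Nat.card K).Coprime p := Cfsg.Agent.Solv.card_pPrimeCore_coprime p G
  refine Cfsg.Agent.Solv.pLengthLE_of_quotient_pPrimeCore K hKc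
    (core hp ?_ (Cfsg.Agent.Solv.isPSolvable_quotient hG K)
      (Cfsg.Agent.Solv.pPrimeCore_quotient_pPrimeCore p) ?_)
  · have h := Subgroup.card_eq_card_quotient_mul_card_subgroup K
    rcases (Nat.Prime.dvd_mul hpp).1 (h ▸ hdvd) with h1 | h1
    · exact h1
    · exact absurd h1 ((Nat.Prime.coprime_iff_not_dvd hpp).1 hKc.symm)
  · have lift : ∀ U : Subgroup (G ⧸ K), Nat.card U = p →
        ∃ W : Subgroup G, Nat.card W = p ∧ W.map (QuotientGroup.mk' K) = U := by
      intro U hU
      have hd : p ∣ Nat.card (U.comap (QuotientGroup.mk' K)) := by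
        rw [Cfsg.Agent.Solv.card_comap_mk', hU]
        exact Dvd.intro_left _ rfl
      obtain ⟨⟨w, hw⟩, hwo⟩ := exists_prime_orderOf_dvd_card' p hd
      rw [Subgroup.orderOf_mk] at hwo
      refine ⟨Subgroup.zpowers w, by rw [Nat.card_zpowers, hwo], ?_⟩
      rw [MonoidHom.map_zpowers]
      refine Subgroup.eq_of_le_of_card_ge (Subgroup.zpowers_le.2 hw) ?_
      rw [hU, Nat.card_zpowers]
      refine Nat.le_of_dvd (orderOf_pos _) ?_
      rcases (Nat.dvd_prime hpp).1 (hwo ▸ orderOf_map_dvd (QuotientGroup.mk' K) w) with h1 | h1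
      · exfalso
        have hwK : w ∈ K := (QuotientGroup.eq_one_iff w).1 (orderOf_eq_one_iff.1 h1)
        exact (Nat.Prime.coprime_iff_not_dvd hpp).1 hKc.symm
          (hwo ▸ Subgroup.orderOf_dvd_natCard K hwK)
      · rw [h1]
    intro U V hU hV
    obtain ⟨W, hW, hWU⟩ := lift U hU
    obtain ⟨W', hW', hWV⟩ := lift V hV
    obtain ⟨a, ha⟩ := htrans W W' hW hW'
    have hKa : K.map a.toMonoidHom = K := Subgroup.characteristic_iff_map_eq.1 inferInstance a
    refine ⟨QuotientGroup.congr K K a hKa, ?_⟩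
    rw [← hWU, Subgroup.map_map, ← hWV, ← ha, Subgroup.map_map]
    congr 1

end Cfsg.Agent.S3798
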