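import Cfsg.Statements.S3802
import Cfsg.Agent.Lib.Solv.Subnormal

set_option autoImplicit false
open Cfsg
open Subgroup

namespace Cfsg.Agent.S3802

/-- Let G be a finite group, M a maximal subgroup of G and N a subnormal subgroup of G contained in M. Then N is contained in every conjugate of M, that is, N lies in the core of M in G. -/
theorem result {G : Type*} [Group G] [Finite G] (M N : Subgroup G) (hM : IsCoatom M) (hN : N.IsSubnormal) (hNM : N ≤ M) :
    N ≤ Subgroup.normalCore M := by
  let S : Set (Subgroup G) := {U | U.IsSubnormal ∧ U ≤ M}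
  have hL : (sSup S).IsSubnormal := Solv.isSubnormal_sSup fun U hU => hU.1
  have hLM : sSup S ≤ M := sSup_le fun U hU => hU.2
  have hNL : N ≤ sSup S := le_sSup ⟨hN, hNM⟩
  rcases Subgroup.IsSubnormal.iff_eq_top_or_exists.1 hL with h | ⟨K, hlt, hK, hn⟩
  · exact absurd (top_le_iff.1 (h ▸ hLM)) hM.1
  have hKM : ¬ K ≤ M := fun h => hlt.not_ge (le_sSup ⟨hK, h⟩)
  have hnorm : K ≤ normalizer ((sSup S : Subgroup G) : Set G) := (normal_subgroupOf_iff_le_normalizer hlt.le).1 hn
  have hMn : M ≤ normalizer ((sSup S : Subgroup G) : Set G) := by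
    intro m hm
    refine Solv.mem_normalizer_of_conj_le ?_
    intro x hx
    have key : sSup S ≤ (sSup S).comap (MulAut.conj m).toMonoidHom := sSup_le fun U hU => by
      rw [← map_le_iff_le_comap]
      refine le_sSup ⟨hU.1.map (MulAut.conj m).surjective, ?_⟩
      rintro _ ⟨u, hu, rfl⟩
      exact mul_mem (mul_mem hm (hU.2 hu)) (inv_mem hm)
    have h2 := key (Solv.mem_conj_smul.1 hx)
    simpa [mul_assoc] using h2
  have htop : normalizer ((sSup S : Subgroup G) : Set G) = ⊤ := by
    by_contra hne
    rcases eq_or_lt_of_le hMn with he | hlt'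
    · exact hKM (he ▸ hnorm)
    · exact hne (hM.2 _ hlt')
  have : (sSup S).Normal := normalizer_eq_top_iff.1 htop
  exact hNL.trans (normal_le_normalCore.2 hLM)

end Cfsg.Agent.S3802
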