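import Cfsg.Statements.S3803
import Cfsg.Agent.Lib.Solv.AbelianAction
import Cfsg.Agent.Lib.Solv.Coprime
import Cfsg.Agent.Lib.Solv.Misc
import Cfsg.Agent.Lib.Fusion.FixOmega

set_option autoImplicit false
set_option linter.style.haveILetI false
open Cfsg
open Subgroup

namespace Cfsg.Agent.S3803

theorem centralizes_cyclic {X : Type*} [Group X] [Finite X] (A E : Subgroup X) (hE : IsPGroup 2 E)
    (hA : Odd (Nat.card A)) (hAE : A ≤ normalizer (E : Set X)) [IsCyclic E] :
    ∀ a ∈ A, ∀ e ∈ E, a * e = e * a := by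
  intro a ha e he
  obtain ⟨k, hk⟩ := IsPGroup.iff_card.1 hE
  let φ := Cfsg.Agent.Solv.conjHom A E hAE
  have h1 : orderOf (φ ⟨a, ha⟩) = 1 := by
    have hd1 : orderOf (φ ⟨a, ha⟩) ∣ Nat.card A := (orderOf_map_dvd φ _).trans (_root_.orderOf_dvd_natCard _)
    have hd2 : orderOf (φ ⟨a, ha⟩) ∣ 2 ^ k := by
      refine (_root_.orderOf_dvd_natCard _).trans ?_
      rw [IsCyclic.card_mulAut, hk]
      rcases Nat.eq_zero_or_pos k with rfl | hk0
      · simp
      · rw [Nat.totient_prime_pow Nat.prime_two hk0, show (2 - 1 : ℕ) = 1 from rfl, mul_one]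
        exact pow_dvd_pow 2 (Nat.sub_le _ _)
    exact Nat.dvd_one.1 (((Nat.coprime_two_right.2 hA).pow_right k) ▸ Nat.dvd_gcd hd1 hd2)
  have h2 : (φ ⟨a, ha⟩) ⟨e, he⟩ = ⟨e, he⟩ := by rw [orderOf_eq_one_iff.1 h1]; rfl
  exact mul_inv_eq_iff_eq_mul.1 (congrArg Subtype.val h2)


/-- Let P be a 2-subgroup and A a subgroup of odd order of a finite group, with A normalizing P. Let D ≤ P with 1 < |D| < |P|. If every subgroup of P of order |D|, and also every subgroup of P of order 4 in case |D| = 2, is normalized by A, then A centralizes P. -/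
theorem result {X : Type*} [Group X] [Finite X] (P A D : Subgroup X) (hP : IsPGroup 2 P) (hA : Odd (Nat.card A))
    (hAP : A ≤ Subgroup.normalizer (P : Set X)) (hDP : D ≤ P) (hD1 : 1 < Nat.card D) (hD2 : Nat.card D < Nat.card P)
    (hinv : ∀ E : Subgroup X, E ≤ P → (Nat.card E = Nat.card D ∨ (Nat.card D = 2 ∧ Nat.card E = 4)) → A ≤ Subgroup.normalizer (E : Set X)) :
    A ≤ Subgroup.centralizer (P : Set X) := by
  classical
  haveI : Fact (Nat.Prime 2) := ⟨Nat.prime_two⟩
  obtain ⟨n, hn⟩ := IsPGroup.iff_card.1 hP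
  obtain ⟨j, hjn, hj⟩ := (Nat.dvd_prime_pow Nat.prime_two).1 (hn ▸ card_dvd_of_le hDP)
  rw [hj] at hD1 hD2
  rw [hn] at hD2
  simp only [hj] at hinv
  have hjlt : j < n := (Nat.pow_lt_pow_iff_right one_lt_two).1 hD2
  have hj1 : 1 ≤ j := by
    rcases Nat.eq_zero_or_pos j with rfl | h
    · simp at hD1
    · exact h
  have hfix : ∀ x ∈ P, x ^ 4 = 1 → ∀ a ∈ A, a * x = x * a := by
    intro x hxP hx4 a ha
    obtain ⟨i, hi2, hi⟩ := (Nat.dvd_prime_pow Nat.prime_two).1
      (show orderOf x ∣ 2 ^ 2 from orderOf_dvd_of_pow_eq_one (by simpa using hx4))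
    by_cases hij : i ≤ j
    swap
    · have hz : zpowers x ≤ P := zpowers_le.2 hxP
      refine centralizes_cyclic A (zpowers x) (hP.to_le hz) hA (hinv _ hz (Or.inr ⟨?_, ?_⟩))
        a ha x (mem_zpowers x)
      · rw [show j = 1 by omega, pow_one]
      · rw [Nat.card_zpowers, hi, show i = 2 by omega]; norm_num
    obtain ⟨E', hE', hxE⟩ := Sylow.exists_subgroup_card_pow_prime_le (G := P) 2 (m := j) (n := i)
      (hn ▸ pow_dvd_pow 2 hjlt.le) (zpowers (⟨x, hxP⟩ : P))
      (by rw [Nat.card_zpowers, Subgroup.orderOf_mk, hi]) hij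
    set E := E'.map P.subtype with hEdef
    have hEc : Nat.card E = 2 ^ j := by rw [card_map_of_injective (subtype_injective _), hE']
    have hEP : E ≤ P := map_subtype_le _
    have hxE' : x ∈ E := ⟨_, hxE (mem_zpowers _), rfl⟩
    by_cases hcyc : IsCyclic E
    · exact centralizes_cyclic A E (hP.to_le hEP) hA (hinv E hEP (Or.inl hEc)) a ha x hxE'
    obtain ⟨F', hF', hEF'⟩ := Sylow.exists_subgroup_card_pow_prime_le (G := P) 2 (m := j + 1) (n := j)
      (hn ▸ pow_dvd_pow 2 hjlt) E' hE' (Nat.le_succ j)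
    set F := F'.map P.subtype with hFdef
    have hFc : Nat.card F = 2 ^ (j + 1) := by rw [card_map_of_injective (subtype_injective _), hF']
    have hFP : F ≤ P := map_subtype_le _
    have hEF : E ≤ F := map_mono hEF'
    have hF2 : IsPGroup 2 F := hP.to_le hFP
    have hFcyc : ∀ z : F, zpowers z ≠ ⊤ := by
      intro z hz
      haveI : IsCyclic F := ⟨⟨z, fun w => by rw [← mem_zpowers_iff] ; exact hz ▸ mem_top w⟩⟩
      exact hcyc (isCyclic_of_injective (inclusion hEF) (inclusion_injective hEF))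
    have hM : ∀ M : Subgroup F, Nat.card M = 2 ^ j → A ≤ normalizer ((M.map F.subtype : Subgroup X) : Set X) :=
      fun M hMc => hinv _ ((map_subtype_le _).trans hFP)
        (Or.inl (by rw [card_map_of_injective (subtype_injective _), hMc]))
    have hAF : A ≤ normalizer (F : Set X) := by
      have key : ∀ b ∈ A, ∀ w ∈ F, b * w * b⁻¹ ∈ F := by
        intro b hb w hw
        obtain ⟨l, hl⟩ := IsPGroup.iff_card.1 (hF2.to_subgroup (zpowers (⟨w, hw⟩ : F)))
        have hlj : l ≤ j := by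
          have h1 : Nat.card (zpowers (⟨w, hw⟩ : F)) < Nat.card F :=
            lt_of_le_of_ne (card_le_card_group _) fun h => hFcyc _ (eq_top_of_card_eq _ h)
          rw [hl, hFc] at h1
          exact Nat.lt_succ_iff.1 ((Nat.pow_lt_pow_iff_right one_lt_two).1 h1)
        obtain ⟨M, hMc, hle⟩ := Sylow.exists_subgroup_card_pow_prime_le (G := F) 2 (m := j)
          (n := l) (hFc ▸ pow_dvd_pow 2 (Nat.le_succ j)) _ hl hlj
        exact map_subtype_le _ (((mem_normalizer_iff.1 (hM M hMc hb)) w).1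
          ⟨_, hle (mem_zpowers _), rfl⟩)
      intro b hb
      refine mem_normalizer_iff.2 fun w => ⟨key b hb w, fun h => ?_⟩
      have := key b⁻¹ (inv_mem hb) _ h
      simpa [mul_assoc] using this
    have hcop : (Nat.card A).Coprime (Nat.card (frattini F)) := by
      obtain ⟨l, hl⟩ := IsPGroup.iff_card.1 (hF2.to_subgroup (frattini F))
      rw [hl]
      exact (Nat.coprime_two_right.2 hA).pow_right l
    have hc := Cfsg.Agent.Solv.centralizes_of_trivial_on_frattini_quotient A F hAF hcop ?_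
    · exact (mem_centralizer_iff.1 (hc ha) x (hEF hxE')).symm
    intro b hb k hk
    have hf : b * k * b⁻¹ * k⁻¹ ∈ F :=
      mul_mem (((mem_normalizer_iff.1 (hAF hb)) k).1 hk) (inv_mem hk)
    refine ⟨⟨_, hf⟩, ?_, rfl⟩
    rw [SetLike.mem_coe, frattini, Order.radical, mem_iInf]
    intro M
    rw [mem_iInf]
    intro hMco
    haveI := Cfsg.Agent.Solv.coatom_normal_of_isNilpotent hF2.isNilpotent M hMco
    have hp := Cfsg.Agent.Solv.prime_index_of_coatom_normal M hMco
    obtain ⟨l, hl⟩ := IsPGroup.iff_card.1 (hF2.to_subgroup M)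
    have h2 : M.index = 2 := by
      have h3 := M.index_dvd_card
      rw [hFc] at h3
      exact (Nat.prime_dvd_prime_iff_eq hp Nat.prime_two).1 (hp.dvd_of_dvd_pow h3)
    have hMc : Nat.card M = 2 ^ j := by
      have h3 := M.card_mul_index
      rw [h2, hFc, pow_succ] at h3
      exact Nat.eq_of_mul_eq_mul_right two_pos h3
    have hMn := (mem_normalizer_iff.1 (hM M hMc hb)) k
    have hiff : (⟨b * k * b⁻¹, ((mem_normalizer_iff.1 (hAF hb)) k).1 hk⟩ : F) ∈ M ↔ (⟨k, hk⟩ : F) ∈ M := by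
      constructor
      · intro h
        obtain ⟨m, hm, hm'⟩ := hMn.2 ⟨_, h, rfl⟩
        rwa [show m = (⟨k, hk⟩ : F) from Subtype.ext hm'] at hm
      · intro h
        obtain ⟨m, hm, hm'⟩ := hMn.1 ⟨_, h, rfl⟩
        rwa [show m = (⟨_, ((mem_normalizer_iff.1 (hAF hb)) k).1 hk⟩ : F) from Subtype.ext hm'] at hm
    have := (Subgroup.mul_mem_iff_of_index_two h2 (a := ⟨b * k * b⁻¹, ((mem_normalizer_iff.1 (hAF hb)) k).1 hk⟩)
      (b := (⟨k, hk⟩ : F)⁻¹)).2 (by rw [inv_mem_iff]; exact hiff)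
    exact this
  intro a ha
  rw [mem_centralizer_iff]
  intro x hx
  let α : MulAut P := Cfsg.Agent.Solv.conjHom A P hAP ⟨a, ha⟩
  have h := Cfsg.Agent.Fusion.eq_of_coprime_fix hP α (n := Nat.card A)
    (by rw [← map_pow, pow_card_eq_one', map_one]) hA.not_two_dvd_nat ?_ ⟨x, hx⟩
  · exact (mul_inv_eq_iff_eq_mul.1 (congrArg Subtype.val h)).symm
  intro y hy
  have hy4 : (y : X) ^ 4 = 1 := by
    rcases hy with h | ⟨-, h⟩
    · rw [show (4 : ℕ) = 2 * 2 from rfl, pow_mul, ← Subgroup.coe_pow, h, Subgroup.coe_one, one_pow]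
    · rw [← Subgroup.coe_pow, h, Subgroup.coe_one]
  exact Subtype.ext (mul_inv_eq_iff_eq_mul.2 (hfix y y.2 hy4 a ha))

end Cfsg.Agent.S3803
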