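import Cfsg.Statements.S3804
import Cfsg.Agent.Lib.Local.CoprimeFactorization
import Mathlib.Analysis.SpecialFunctions.Pow.Real

set_option autoImplicit false
open Cfsg

namespace Cfsg.Agent.S3804

open scoped Pointwise

theorem key {X : Type*} [Group X] [Finite X] (G H : Subgroup X) (α : ℝ) (hα : 0 < α)
    (A B : Subgroup X) (hA : A ≤ G) (hB : B ≤ G) (hA1 : A ≠ ⊥) (_hB1 : B ≠ ⊥) (F : Subgroup X → ℝ)
    (hF : ∀ A : Subgroup X, F A =
      ((Nat.card A : ℝ) ^ α) * (Nat.card ↥(H ⊓ Subgroup.centralizer (A : Set X)) : ℝ))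
    (hAmax : ∀ A' : Subgroup X, A' ≤ G → A' ≠ ⊥ → F A' ≤ F A)
    (hBmax : ∀ A' : Subgroup X, A' ≤ G → A' ≠ ⊥ → F A' ≤ F B)
    (hcase : A ⊓ B ≠ ⊥ ∨ (Nat.card H : ℝ) ≤ F A) :
    (∀ a ∈ A, ∀ b ∈ B, ∃ b' ∈ B, ∃ a' ∈ A, a * b = b' * a') ∧
    (∀ A' : Subgroup X, A' ≤ G → A' ≠ ⊥ → F A' ≤ F (A ⊔ B)) ∧
    (∀ h ∈ H ⊓ Subgroup.centralizer ((A ⊓ B : Subgroup X) : Set X),
      ∃ u ∈ H ⊓ Subgroup.centralizer (A : Set X), ∃ v ∈ H ⊓ Subgroup.centralizer (B : Set X),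
        h = u * v) ∧
    (A ⊓ B ≠ ⊥ → ∀ A' : Subgroup X, A' ≤ G → A' ≠ ⊥ → F A' ≤ F (A ⊓ B)) := by
  classical
  have hS : A ⊔ B ≤ G := sup_le hA hB
  have hS1 : A ⊔ B ≠ ⊥ := fun h => hA1 (le_bot_iff.mp (h ▸ le_sup_left))
  have hAB : F A = F B := le_antisymm (hBmax A hA hA1) (hAmax B hB _hB1)
  have hpos : 0 < F A := by
    rw [hF]; exact mul_pos (Real.rpow_pos_of_pos (by exact_mod_cast Nat.card_pos) α)
      (by exact_mod_cast Nat.card_pos)
  have hI : F (A ⊓ B) ≤ F A := by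
    by_cases h : A ⊓ B = ⊥
    · refine le_trans ?_ (hcase.resolve_left (fun h' => h' h))
      rw [h, hF, Subgroup.card_bot, Nat.cast_one, Real.one_rpow, one_mul]
      exact_mod_cast Subgroup.card_le_of_le inf_le_left
    · exact hAmax _ (inf_le_left.trans hA) h
  let C : Subgroup X → Subgroup X := fun D => H ⊓ Subgroup.centralizer (D : Set X)
  have hC : ∀ D, F D = ((Nat.card D : ℝ) ^ α) * (Nat.card (C D) : ℝ) := hF
  have hCsup : C (A ⊔ B) = C A ⊓ C B := by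
    show H ⊓ _ = (H ⊓ _) ⊓ (H ⊓ _)
    ext x
    simp only [Subgroup.mem_inf]
    constructor
    · rintro ⟨hx, hc⟩
      exact ⟨⟨hx, Subgroup.centralizer_le (SetLike.coe_subset_coe.mpr le_sup_left) hc⟩, hx,
        Subgroup.centralizer_le (SetLike.coe_subset_coe.mpr le_sup_right) hc⟩
    · rintro ⟨⟨hx, h1⟩, -, h2⟩
      refine ⟨hx, Subgroup.mem_centralizer_iff.mpr ?_⟩
      have : A ⊔ B ≤ Subgroup.centralizer ({x} : Set X) := sup_le
        (fun a ha => Subgroup.mem_centralizer_singleton_iff.mpr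
          (Subgroup.mem_centralizer_iff.mp h1 a ha))
        (fun a ha => Subgroup.mem_centralizer_singleton_iff.mpr
          (Subgroup.mem_centralizer_iff.mp h2 a ha))
      exact fun y hy => Subgroup.mem_centralizer_singleton_iff.mp (this hy)
  have hsub1 : ((A : Set X) * (B : Set X)) ⊆ (A ⊔ B : Subgroup X) := by
    rintro _ ⟨a, ha, b, hb, rfl⟩
    exact Subgroup.mul_mem_sup ha hb
  have hsub2 : ((C A : Set X) * (C B : Set X)) ⊆ C (A ⊓ B) := by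
    rintro _ ⟨a, ha, b, hb, rfl⟩
    exact (C (A ⊓ B)).mul_mem
      ⟨ha.1, Subgroup.centralizer_le (SetLike.coe_subset_coe.mpr inf_le_left) ha.2⟩
      ⟨hb.1, Subgroup.centralizer_le (SetLike.coe_subset_coe.mpr inf_le_right) hb.2⟩
  have n1 : Nat.card ↥((A : Set X) * (B : Set X)) ≤ Nat.card (A ⊔ B : Subgroup X) :=
    Nat.card_mono (Set.toFinite _) hsub1
  have n2 : Nat.card ↥((C A : Set X) * (C B : Set X)) ≤ Nat.card (C (A ⊓ B)) :=
    Nat.card_mono (Set.toFinite _) hsub2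
  have c1 := Cfsg.Agent.Local.CopFact.card_set_mul A B
  have c2 := Cfsg.Agent.Local.CopFact.card_set_mul (C A) (C B)
  rw [← hCsup] at c2
  have m1 : Nat.card A * Nat.card B ≤ Nat.card (A ⊔ B : Subgroup X) * Nat.card (A ⊓ B : Subgroup X) := by
    rw [← c1]; exact Nat.mul_le_mul_right _ n1
  have m2 : Nat.card (C A) * Nat.card (C B) ≤ Nat.card (C (A ⊓ B)) * Nat.card (C (A ⊔ B)) := by
    rw [← c2]; exact Nat.mul_le_mul_right _ n2
  have r1 : ((Nat.card A : ℝ) ^ α) * (Nat.card B : ℝ) ^ α ≤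
      ((Nat.card (A ⊔ B : Subgroup X) : ℝ) ^ α) * (Nat.card (A ⊓ B : Subgroup X) : ℝ) ^ α := by
    rw [← Real.mul_rpow (Nat.cast_nonneg _) (Nat.cast_nonneg _),
      ← Real.mul_rpow (Nat.cast_nonneg _) (Nat.cast_nonneg _)]
    exact Real.rpow_le_rpow (by positivity) (by exact_mod_cast m1) hα.le
  have r2 : (Nat.card (C A) : ℝ) * (Nat.card (C B) : ℝ) ≤
      (Nat.card (C (A ⊓ B)) : ℝ) * (Nat.card (C (A ⊔ B)) : ℝ) := by exact_mod_cast m2
  have hprod : F A * F B ≤ F (A ⊔ B) * F (A ⊓ B) := by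
    rw [hC, hC B, hC (A ⊔ B), hC (A ⊓ B)]
    calc _ = (((Nat.card A : ℝ) ^ α) * (Nat.card B : ℝ) ^ α) *
          ((Nat.card (C A) : ℝ) * (Nat.card (C B) : ℝ)) := by ring
      _ ≤ _ * _ := mul_le_mul r1 r2 (by positivity) (by positivity)
      _ = _ := by ring
  rw [← hAB] at hprod
  have hSle := hAmax _ hS hS1
  have hI0 : 0 ≤ F (A ⊓ B) := by rw [hF]; positivity
  have eS : F (A ⊔ B) = F A := by
    refine le_antisymm hSle ?_
    by_contra h
    push Not at h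
    nlinarith [mul_le_mul_of_nonneg_left hI (show (0:ℝ) ≤ F (A ⊔ B) by rw [hF]; positivity)]
  have eI : F (A ⊓ B) = F A := by
    refine le_antisymm hI ?_
    rw [eS] at hprod
    exact le_of_mul_le_mul_left hprod hpos
  have heq : ((Nat.card A : ℝ) ^ α) * (Nat.card B : ℝ) ^ α *
      ((Nat.card (C A) : ℝ) * (Nat.card (C B) : ℝ)) =
      ((Nat.card (A ⊔ B : Subgroup X) : ℝ) ^ α) * (Nat.card (A ⊓ B : Subgroup X) : ℝ) ^ α *
      ((Nat.card (C (A ⊓ B)) : ℝ) * (Nat.card (C (A ⊔ B)) : ℝ)) := by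
    have h : F A * F B = F (A ⊔ B) * F (A ⊓ B) := by rw [eS, eI, ← hAB]
    rw [hC, hC B, hC (A ⊔ B), hC (A ⊓ B)] at h
    linear_combination h
  have e1 : Nat.card ↥((A : Set X) * (B : Set X)) = Nat.card (A ⊔ B : Subgroup X) := by
    by_contra h
    have hlt := lt_of_le_of_ne n1 h
    have m1' : (Nat.card A * Nat.card B : ℝ) <
        (Nat.card (A ⊔ B : Subgroup X) : ℝ) * (Nat.card (A ⊓ B : Subgroup X) : ℝ) := by
      have : Nat.card A * Nat.card B <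
          Nat.card (A ⊔ B : Subgroup X) * Nat.card (A ⊓ B : Subgroup X) := by
        rw [← c1]; exact Nat.mul_lt_mul_of_pos_right hlt Nat.card_pos
      exact_mod_cast this
    have r1' : ((Nat.card A : ℝ) ^ α) * (Nat.card B : ℝ) ^ α <
      ((Nat.card (A ⊔ B : Subgroup X) : ℝ) ^ α) * (Nat.card (A ⊓ B : Subgroup X) : ℝ) ^ α := by
      rw [← Real.mul_rpow (Nat.cast_nonneg _) (Nat.cast_nonneg _),
        ← Real.mul_rpow (Nat.cast_nonneg _) (Nat.cast_nonneg _)]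
      exact Real.rpow_lt_rpow (by positivity) m1' hα
    have hcpos : (0 : ℝ) < (Nat.card (C A) : ℝ) * (Nat.card (C B) : ℝ) :=
      mul_pos (by exact_mod_cast Nat.card_pos) (by exact_mod_cast Nat.card_pos)
    exact absurd heq (ne_of_lt (mul_lt_mul r1' r2 hcpos (by positivity)))
  have e2 : Nat.card ↥((C A : Set X) * (C B : Set X)) = Nat.card (C (A ⊓ B)) := by
    by_contra h
    have hlt := lt_of_le_of_ne n2 h
    have r2' : (Nat.card (C A) : ℝ) * (Nat.card (C B) : ℝ) <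
        (Nat.card (C (A ⊓ B)) : ℝ) * (Nat.card (C (A ⊔ B)) : ℝ) := by
      have : Nat.card (C A) * Nat.card (C B) <
          Nat.card (C (A ⊓ B)) * Nat.card (C (A ⊔ B)) := by
        rw [← c2]; exact Nat.mul_lt_mul_of_pos_right hlt Nat.card_pos
      exact_mod_cast this
    have hapos : (0 : ℝ) < ((Nat.card (A ⊔ B : Subgroup X) : ℝ) ^ α) *
        (Nat.card (A ⊓ B : Subgroup X) : ℝ) ^ α :=
      mul_pos (Real.rpow_pos_of_pos (by exact_mod_cast Nat.card_pos) α)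
        (Real.rpow_pos_of_pos (by exact_mod_cast Nat.card_pos) α)
    exact absurd heq (ne_of_lt (mul_lt_mul' r1 r2' (by positivity) hapos))
  have s1 : ((A : Set X) * (B : Set X)) = (A ⊔ B : Subgroup X) :=
    Set.eq_of_subset_of_ncard_le hsub1 (by
      rw [← Nat.card_coe_set_eq, ← Nat.card_coe_set_eq]; exact e1.ge) (Set.toFinite _)
  have s2 : ((C A : Set X) * (C B : Set X)) = C (A ⊓ B) :=
    Set.eq_of_subset_of_ncard_le hsub2 (by
      rw [← Nat.card_coe_set_eq, ← Nat.card_coe_set_eq]; exact e2.ge) (Set.toFinite _)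
  refine ⟨fun a ha b hb => ?_, fun A' h1 h2 => eS ▸ hAmax A' h1 h2, fun h hh => ?_,
    fun _ A' h1 h2 => eI ▸ hAmax A' h1 h2⟩
  · have hm : (a * b)⁻¹ ∈ ((A : Set X) * (B : Set X)) := by
      rw [s1]; exact (A ⊔ B).inv_mem (Subgroup.mul_mem_sup ha hb)
    obtain ⟨a', ha', b', hb', he⟩ := hm
    refine ⟨b'⁻¹, B.inv_mem hb', a'⁻¹, A.inv_mem ha', ?_⟩
    rw [← mul_inv_rev, show a' * b' = (a * b)⁻¹ from he, inv_inv]
  · have hm : h ∈ ((C A : Set X) * (C B : Set X)) := by rw [s2]; exact hh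
    obtain ⟨u, hu, v, hv, he⟩ := hm
    exact ⟨u, hu, v, hv, he.symm⟩

/-- Let G and H be subgroups of a finite group with G normalizing H, fix a real number α > 0, and for a subgroup A of G put m(A) = |A|^α · |C_H(A)|. Let A and B be nontrivial subgroups of G at which m attains its maximum over all nontrivial subgroups of G, and assume that A ∩ B ≠ 1 or that this maximum is at least |H|. Then AB = BA is a subgroup at which m is again maximal, C_H(A ∩ B) = C_H(A) C_H(B), and if A ∩ B ≠ 1 then m is maximal at A ∩ B as well. -/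
theorem result {X : Type*} [Group X] [Finite X] (G H : Subgroup X) (hGH : G ≤ Subgroup.normalizer (H : Set X)) (α : ℝ) (hα : 0 < α)
    (A B : Subgroup X) (hA : A ≤ G) (hB : B ≤ G) (hA1 : A ≠ ⊥) (hB1 : B ≠ ⊥)
    (hAmax : ∀ A' : Subgroup X, A' ≤ G → A' ≠ ⊥ → (fun A : Subgroup X => ((Nat.card A : ℝ) ^ α) * (Nat.card ↥(H ⊓ Subgroup.centralizer (A : Set X)) : ℝ)) A' ≤ (fun A : Subgroup X => ((Nat.card A : ℝ) ^ α) * (Nat.card ↥(H ⊓ Subgroup.centralizer (A : Set X)) : ℝ)) A)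
    (hBmax : ∀ A' : Subgroup X, A' ≤ G → A' ≠ ⊥ → (fun A : Subgroup X => ((Nat.card A : ℝ) ^ α) * (Nat.card ↥(H ⊓ Subgroup.centralizer (A : Set X)) : ℝ)) A' ≤ (fun A : Subgroup X => ((Nat.card A : ℝ) ^ α) * (Nat.card ↥(H ⊓ Subgroup.centralizer (A : Set X)) : ℝ)) B)
    (hcase : A ⊓ B ≠ ⊥ ∨ (Nat.card H : ℝ) ≤ (fun A : Subgroup X => ((Nat.card A : ℝ) ^ α) * (Nat.card ↥(H ⊓ Subgroup.centralizer (A : Set X)) : ℝ)) A) :
    (∀ a ∈ A, ∀ b ∈ B, ∃ b' ∈ B, ∃ a' ∈ A, a * b = b' * a') ∧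
    (∀ A' : Subgroup X, A' ≤ G → A' ≠ ⊥ → (fun A : Subgroup X => ((Nat.card A : ℝ) ^ α) * (Nat.card ↥(H ⊓ Subgroup.centralizer (A : Set X)) : ℝ)) A' ≤ (fun A : Subgroup X => ((Nat.card A : ℝ) ^ α) * (Nat.card ↥(H ⊓ Subgroup.centralizer (A : Set X)) : ℝ)) (A ⊔ B)) ∧
    (∀ h ∈ H ⊓ Subgroup.centralizer ((A ⊓ B : Subgroup X) : Set X), ∃ u ∈ H ⊓ Subgroup.centralizer (A : Set X), ∃ v ∈ H ⊓ Subgroup.centralizer (B : Set X), h = u * v) ∧
    (A ⊓ B ≠ ⊥ → ∀ A' : Subgroup X, A' ≤ G → A' ≠ ⊥ → (fun A : Subgroup X => ((Nat.card A : ℝ) ^ α) * (Nat.card ↥(H ⊓ Subgroup.centralizer (A : Set X)) : ℝ)) A' ≤ (fun A : Subgroup X => ((Nat.card A : ℝ) ^ α) * (Nat.card ↥(H ⊓ Subgroup.centralizer (A : Set X)) : ℝ)) (A ⊓ B)) := by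
  classical
  exact Cfsg.Agent.S3804.key G H α hα A B hA hB hA1 hB1
    (fun A : Subgroup X => ((Nat.card A : ℝ) ^ α) *
      (Nat.card ↥(H ⊓ Subgroup.centralizer (A : Set X)) : ℝ))
    (fun _ => rfl) hAmax hBmax hcase

end Cfsg.Agent.S3804
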