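import Cfsg.Statements.S3807
import Cfsg.Agent.Lib.Solv.MaxClass

set_option autoImplicit false
open Cfsg
open scoped commutatorElement

namespace Cfsg.Agent.S3807

theorem comm_mem {S : Type*} [Group S] {B : Subgroup S} (hB : IsMulCommutative ↥B) {a b : S}
    (ha : a ∈ B) (hb : b ∈ B) : a * b = b * a :=
  congrArg Subtype.val (hB.is_comm.comm (⟨a, ha⟩ : B) ⟨b, hb⟩)

theorem sup_eq_top {S : Type*} [Group S] [Finite S] {p : ℕ} [Fact p.Prime] {B C : Subgroup S}
    (hBi : B.index = p) (h : ¬ C ≤ B) : B ⊔ C = ⊤ := by
  have hp : p.Prime := Fact.out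
  have h1 := Subgroup.relIndex_mul_index (le_sup_left : B ≤ B ⊔ C)
  rw [hBi] at h1
  rcases hp.eq_one_or_self_of_dvd _ (Dvd.intro_left _ h1) with h2 | h2
  · exact Subgroup.index_eq_one.mp h2
  · rw [h2] at h1
    have h3 : B.relIndex (B ⊔ C) = 1 := by
      have := hp.pos
      nlinarith
    exact absurd (le_sup_right.trans (Subgroup.relIndex_eq_one.mp h3)) h

theorem le_center_iff_sup {S : Type*} [Group S] {B C : Subgroup S} (h : B ⊔ C = ⊤) {z : S}
    (hB : ∀ b ∈ B, b * z = z * b) (hC : ∀ c ∈ C, c * z = z * c) : z ∈ Subgroup.center S := by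
  have : B ⊔ C ≤ Subgroup.centralizer ({z} : Set S) :=
    sup_le (fun b hb => Subgroup.mem_centralizer_singleton_iff.mpr (hB b hb))
      (fun c hc => Subgroup.mem_centralizer_singleton_iff.mpr (hC c hc))
  rw [h] at this
  exact Subgroup.mem_center_iff.mpr fun g =>
    Subgroup.mem_centralizer_singleton_iff.mp (this (Subgroup.mem_top g))

theorem center_le {S : Type*} [Group S] [Finite S] {p : ℕ} [Fact p.Prime]
    (hna : ¬ IsMulCommutative S) {B : Subgroup S} (hB : IsMulCommutative ↥B) (hBi : B.index = p) :
    Subgroup.center S ≤ B := by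
  by_contra h
  have hsup := sup_eq_top hBi h
  refine hna ⟨⟨fun x y => ?_⟩⟩
  have key : ∀ b ∈ B, b ∈ Subgroup.center S := fun b hb =>
    le_center_iff_sup hsup (fun b' hb' => comm_mem hB hb' hb)
      (fun c hc => (Subgroup.mem_center_iff.mp hc b).symm)
  have htop : Subgroup.center S = ⊤ := top_le_iff.mp (hsup ▸ sup_le key le_rfl)
  exact Subgroup.mem_center_iff.mp (htop ▸ Subgroup.mem_top y) x

theorem comm_of_center_le {S : Type*} [Group S] [Finite S] {p : ℕ} [Fact p.Prime]
    (hi : (Subgroup.center S).index = p ^ 2) {B : Subgroup S} (hle : Subgroup.center S ≤ B)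
    (hBi : B.index = p) : IsMulCommutative ↥B := by
  have hp : p.Prime := Fact.out
  have h1 := Subgroup.relIndex_mul_index hle
  rw [hi, hBi, sq] at h1
  have h2 : (Subgroup.center S).relIndex B = p := Nat.eq_of_mul_eq_mul_right hp.pos h1
  have : IsCyclic (B ⧸ (Subgroup.center S).subgroupOf B) := isCyclic_of_prime_card (p := p) h2
  exact MonoidHom.isMulCommutative_of_isCyclic_of_ker_le_center
    (QuotientGroup.mk' ((Subgroup.center S).subgroupOf B)) (by
      rw [QuotientGroup.ker_mk']
      intro z hz
      exact Subgroup.mem_center_iff.mpr fun g =>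
        Subtype.ext (Subgroup.mem_center_iff.mp (Subgroup.mem_subgroupOf.mp hz) (g : S)))

/-- Let S be a non-abelian finite p-group with an abelian subgroup A of index p. Then [S : Z(S)] = p·#[S,S], and either [S,S] has order p, S/Z(S) is elementary abelian of order p², and S has exactly p + 1 abelian subgroups of index p; or [S,S] has order at least p² and A is the only abelian subgroup of index p in S. -/
theorem result {S : Type*} [Group S] [Finite S] (p : ℕ) [Fact p.Prime] (hS : IsPGroup p S) (hna : ¬ IsMulCommutative S)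
    (A : Subgroup S) (hA : IsMulCommutative ↥A) (hAi : A.index = p) :
    (Subgroup.center S).index = p * Nat.card (commutator S) ∧
      ((Nat.card (commutator S) = p ∧ Cfsg.IsElementaryAbelian p (⊤ : Subgroup (S ⧸ Subgroup.center S)) ∧
          Nat.card (S ⧸ Subgroup.center S) = p ^ 2 ∧
          Nat.card {B : Subgroup S // IsMulCommutative ↥B ∧ B.index = p} = p + 1) ∨
        (p ^ 2 ≤ Nat.card (commutator S) ∧ ∀ B : Subgroup S, IsMulCommutative ↥B → B.index = p → B = A)) := by
  classical
  have hp : p.Prime := Fact.out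
  have hAn : A.Normal := by
    apply Subgroup.normal_of_index_eq_minFac_card
    rw [hAi]
    obtain ⟨n, hn⟩ := hS.exists_card_eq
    rw [hn, Nat.pow_minFac, hp.minFac_eq]
    rintro rfl
    have : Subsingleton S := (Nat.card_eq_one_iff_unique.mp (by simpa using hn)).1
    exact hna ⟨⟨fun a b => Subsingleton.elim _ _⟩⟩
  obtain ⟨t, ht⟩ : ∃ t, t ∉ A := by
    by_contra! h
    rw [(Subgroup.eq_top_iff' A).mpr h, Subgroup.index_top] at hAi
    exact hp.ne_one hAi.symm
  have hsup : A ⊔ Subgroup.zpowers t = ⊤ :=
    sup_eq_top hAi (fun h => ht (h (Subgroup.mem_zpowers t)))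
  have hconj : ∀ a ∈ A, t * a⁻¹ * t⁻¹ ∈ A := fun a ha => hAn.conj_mem _ (A.inv_mem ha) t
  let φ : A →* S :=
    { toFun := fun a => ⁅(a : S), t⁆
      map_one' := by simp
      map_mul' := fun a b => by
        have h1 : ((b : S) * (t * (b : S)⁻¹ * t⁻¹)) * (t * (a : S)⁻¹ * t⁻¹) =
            (t * (a : S)⁻¹ * t⁻¹) * ((b : S) * (t * (b : S)⁻¹ * t⁻¹)) :=
          comm_mem hA (A.mul_mem b.2 (hconj _ b.2)) (hconj _ a.2)
        simp only [commutatorElement_def, Subgroup.coe_mul, mul_inv_rev]
        calc (a : S) * b * t * ((b : S)⁻¹ * (a : S)⁻¹) * t⁻¹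
            = (a : S) * (((b : S) * (t * (b : S)⁻¹ * t⁻¹)) * (t * (a : S)⁻¹ * t⁻¹)) := by group
          _ = _ := by rw [h1]; group }
  have hφ : ∀ a : A, φ a = ⁅(a : S), t⁆ := fun a => rfl
  have hrA : φ.range ≤ A := by
    rintro _ ⟨a, rfl⟩
    rw [hφ, commutatorElement_def,
      show (a : S) * t * (a : S)⁻¹ * t⁻¹ = (a : S) * (t * (a : S)⁻¹ * t⁻¹) by group]
    exact A.mul_mem a.2 (hconj _ a.2)
  have hRn : φ.range.Normal := by
    rw [← Subgroup.normalizer_eq_top_iff, eq_top_iff, ← hsup]
    refine sup_le (fun x hx => ?_) ((Subgroup.zpowers_le).mpr ?_)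
    · rw [Subgroup.mem_normalizer_iff]
      intro h
      constructor
      · intro hh
        rwa [comm_mem hA hx (hrA hh), mul_inv_cancel_right]
      · intro hh
        have h2 := comm_mem hA hx (hrA hh)
        have h3 : h = x * h * x⁻¹ := by
          apply mul_right_cancel (b := x⁻¹)
          apply mul_left_cancel (a := x)
          rw [← mul_assoc x (x * h * x⁻¹), h2]
          group
        rwa [h3]
    · refine Subgroup.mem_normalizer_fintype ?_
      rintro _ ⟨a, rfl⟩
      refine ⟨⟨t * (a : S) * t⁻¹, hAn.conj_mem _ a.2 t⟩, ?_⟩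
      rw [hφ, hφ]
      simp only [commutatorElement_def]
      group
  have hcen : φ.ker.map A.subtype = Subgroup.center S := by
    apply le_antisymm
    · rintro _ ⟨a, ha, rfl⟩
      have ha' : ⁅(a : S), t⁆ = 1 := ha
      refine le_center_iff_sup hsup (fun b hb => comm_mem hA hb a.2) ?_
      intro c hc
      obtain ⟨k, rfl⟩ := Subgroup.mem_zpowers_iff.mp hc
      exact ((commutatorElement_eq_one_iff_commute.mp ha').symm.zpow_left k)
    · intro z hz
      refine ⟨⟨z, center_le hna hA hAi hz⟩, ?_, rfl⟩
      show ⁅z, t⁆ = 1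
      exact commutatorElement_eq_one_iff_commute.mpr (Subgroup.mem_center_iff.mp hz t).symm
  have hcomm : commutator S = φ.range := by
    apply le_antisymm
    · have hmap : ∀ x : S, (x : S ⧸ φ.range) ∈ Subgroup.center (S ⧸ φ.range) := by
        intro x
        have hq : ∀ a ∈ A, ((a : S) : S ⧸ φ.range) * (t : S ⧸ φ.range) = (t : S ⧸ φ.range) * a := by
          intro a ha
          have : ((⁅a, t⁆ : S) : S ⧸ φ.range) = 1 :=
            (QuotientGroup.eq_one_iff _).mpr ⟨⟨a, ha⟩, rfl⟩
          exact commutatorElement_eq_one_iff_commute.mp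
            ((map_commutatorElement (QuotientGroup.mk' φ.range) a t).symm.trans this)
        have hgen : A ⊔ Subgroup.zpowers t ≤
            (Subgroup.center (S ⧸ φ.range)).comap (QuotientGroup.mk' φ.range) := by
          refine sup_le (fun a ha => ?_) (Subgroup.zpowers_le.mpr ?_)
          · rw [Subgroup.mem_comap, Subgroup.mem_center_iff]
            intro g
            obtain ⟨g, rfl⟩ := QuotientGroup.mk'_surjective φ.range g
            have hg : A ⊔ Subgroup.zpowers t ≤
                (Subgroup.centralizer ({QuotientGroup.mk' φ.range a} : Set _)).comap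
                  (QuotientGroup.mk' φ.range) := by
              refine sup_le (fun b hb => ?_) (Subgroup.zpowers_le.mpr ?_)
              · rw [Subgroup.mem_comap, Subgroup.mem_centralizer_singleton_iff, ← map_mul,
                  ← map_mul, comm_mem hA hb ha]
              · rw [Subgroup.mem_comap, Subgroup.mem_centralizer_singleton_iff]
                exact (hq a ha).symm
            rw [hsup] at hg
            exact Subgroup.mem_centralizer_singleton_iff.mp (hg (Subgroup.mem_top g))
          · rw [Subgroup.mem_comap, Subgroup.mem_center_iff]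
            intro g
            obtain ⟨g, rfl⟩ := QuotientGroup.mk'_surjective φ.range g
            have hg : A ⊔ Subgroup.zpowers t ≤
                (Subgroup.centralizer ({QuotientGroup.mk' φ.range t} : Set _)).comap
                  (QuotientGroup.mk' φ.range) := by
              refine sup_le (fun b hb => ?_) (Subgroup.zpowers_le.mpr ?_)
              · rw [Subgroup.mem_comap, Subgroup.mem_centralizer_singleton_iff]
                exact hq b hb
              · rw [Subgroup.mem_comap, Subgroup.mem_centralizer_singleton_iff]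
            rw [hsup] at hg
            exact Subgroup.mem_centralizer_singleton_iff.mp (hg (Subgroup.mem_top g))
        rw [hsup] at hgen
        exact hgen (Subgroup.mem_top x)
      rw [commutator_def, Subgroup.commutator_le]
      intro x _ y _
      rw [← QuotientGroup.eq_one_iff (N := φ.range)]
      exact (map_commutatorElement (QuotientGroup.mk' φ.range) x y).trans
        (commutatorElement_eq_one_iff_commute.mpr (Subgroup.mem_center_iff.mp (hmap y) _))
    · rintro _ ⟨a, rfl⟩
      rw [hφ, commutator_def]
      exact Subgroup.commutator_mem_commutator (Subgroup.mem_top _) (Subgroup.mem_top _)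
  have hidx : (Subgroup.center S).index = p * Nat.card (commutator S) := by
    have h1 := Subgroup.card_mul_index φ.ker
    rw [Subgroup.index_ker, ← Subgroup.card_map_of_injective A.subtype_injective, hcen, ← hcomm]
      at h1
    have h2 := Subgroup.card_mul_index A
    rw [← h1, hAi, ← Subgroup.card_mul_index (Subgroup.center S), mul_assoc] at h2
    rw [mul_comm p]
    exact (Nat.eq_of_mul_eq_mul_left Nat.card_pos h2).symm
  refine ⟨hidx, ?_⟩
  obtain ⟨k, hk⟩ := (hS.to_subgroup (commutator S)).exists_card_eq
  have hk0 : k ≠ 0 := by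
    rintro rfl
    have hbot : commutator S = ⊥ := Subgroup.card_eq_one.mp (by simpa using hk)
    refine hna ⟨⟨fun x y => commutatorElement_eq_one_iff_commute.mp ?_⟩⟩
    rw [← Subgroup.mem_bot, ← hbot]
    exact Subgroup.commutator_mem_commutator (Subgroup.mem_top _) (Subgroup.mem_top _)
  rcases Nat.lt_or_ge k 2 with hlt | hge
  · left
    have hc1 : Nat.card (commutator S) = p := by
      rw [hk, show k = 1 by omega, pow_one]
    have hz2 : (Subgroup.center S).index = p ^ 2 := by rw [hidx, hc1, sq]
    have hQ : Nat.card (S ⧸ Subgroup.center S) = p ^ 2 := hz2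
    have hnc : ¬ IsCyclic (S ⧸ Subgroup.center S) := fun h =>
      hna (MonoidHom.isMulCommutative_of_isCyclic_of_ker_le_center
        (QuotientGroup.mk' (Subgroup.center S)) (by rw [QuotientGroup.ker_mk']))
    have hexp : ∀ x : S ⧸ Subgroup.center S, x ^ p = 1 := by
      intro x
      rw [← orderOf_dvd_iff_pow_eq_one]
      obtain ⟨i, hi, he⟩ := (Nat.dvd_prime_pow hp).mp (hQ ▸ orderOf_dvd_natCard x)
      have hi2 : i ≠ 2 := fun h =>
        hnc (isCyclic_of_orderOf_eq_card x (by rw [he, h, hQ]))
      rw [he]
      exact (pow_dvd_pow p (show i ≤ 1 by omega)).trans (pow_one p).dvd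
    refine ⟨hc1, ⟨⟨⟨fun a b => Subtype.ext
      (IsPGroup.commutative_of_card_eq_prime_sq hQ _ _)⟩⟩, fun a _ => hexp a⟩, hQ, ?_⟩
    rw [← Cfsg.Agent.Solv.MaxClass.card_subgroups_prime hQ hexp]
    refine Nat.card_congr
      { toFun := fun B => ⟨B.1.map (QuotientGroup.mk' _), ?_⟩
        invFun := fun H => ⟨H.1.comap (QuotientGroup.mk' _), ?_⟩
        left_inv := fun B => Subtype.ext ?_
        right_inv := fun H => Subtype.ext ?_ }
    · have h1 := (B.1.map (QuotientGroup.mk' (Subgroup.center S))).card_mul_index
      rw [Subgroup.index_map_eq _ (QuotientGroup.mk'_surjective _)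
        (by rw [QuotientGroup.ker_mk']; exact center_le hna B.2.1 B.2.2), B.2.2, hQ, sq] at h1
      exact Nat.eq_of_mul_eq_mul_right hp.pos h1
    · have hi : (H.1.comap (QuotientGroup.mk' (Subgroup.center S))).index = p := by
        rw [Subgroup.index_comap_of_surjective _ (QuotientGroup.mk'_surjective _)]
        have h1 := H.1.card_mul_index
        rw [H.2, hQ, sq] at h1
        exact Nat.eq_of_mul_eq_mul_left hp.pos h1
      refine ⟨comm_of_center_le hz2 ?_ hi, hi⟩
      exact (QuotientGroup.ker_mk' (Subgroup.center S)).ge.trans (Subgroup.ker_le_comap _ _)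
    · exact Subgroup.comap_map_eq_self
        (by rw [QuotientGroup.ker_mk']; exact center_le hna B.2.1 B.2.2)
    · exact Subgroup.map_comap_eq_self_of_surjective (QuotientGroup.mk'_surjective _) _
  · right
    refine ⟨hk ▸ Nat.pow_le_pow_right hp.pos hge, fun B hB hBi => ?_⟩
    by_contra hne
    have hnle : ¬ B ≤ A := by
      intro h
      apply hne
      refine le_antisymm h (Subgroup.relIndex_eq_one.mp ?_)
      have h1 := Subgroup.relIndex_mul_index h
      rw [hAi, hBi] at h1
      exact (Nat.mul_eq_right hp.ne_zero).mp h1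
    have hle : A ⊓ B ≤ Subgroup.center S := fun z hz =>
      le_center_iff_sup (sup_eq_top hAi hnle) (fun a ha => comm_mem hA ha (Subgroup.mem_inf.mp hz).1)
        (fun b hb => comm_mem hB hb (Subgroup.mem_inf.mp hz).2)
    have h1 : (Subgroup.center S).index ≤ p * p :=
      (Nat.le_of_dvd (Nat.pos_of_ne_zero Subgroup.index_ne_zero_of_finite)
        (Subgroup.index_dvd_of_le hle)).trans ((Subgroup.index_inf_le).trans (by rw [hAi, hBi]))
    rw [hidx, hk] at h1
    have h2 : p ^ k ≤ p ^ 1 := by rw [pow_one]; exact Nat.le_of_mul_le_mul_left h1 hp.pos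
    have := (Nat.pow_le_pow_iff_right hp.one_lt).mp h2
    omega

end Cfsg.Agent.S3807
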