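import Cfsg.Statements.S3809
import Cfsg.Agent.Lib.Solv.ExtraspecialIndexP
-- import your own Cfsg.Agent.* helpers here

set_option autoImplicit false
open Cfsg

namespace Cfsg.Agent.S3809

/-- Let S be a finite p-group with an extraspecial subgroup of index p. Then S has order p^(2+2n) for some n ≥ 1, derived length at most 3, and exponent dividing p³. -/
theorem result {S : Type*} [Group S] [Finite S] (p : ℕ) [Fact p.Prime] (hS : IsPGroup p S) (Q : Subgroup S) (hQ : Cfsg.IsExtraspecial p ↥Q) (hQi : Q.index = p) :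
    (∃ n : ℕ, 1 ≤ n ∧ Nat.card S = p ^ (2 + 2 * n)) ∧ derivedSeries S 3 = ⊥ ∧ ∀ x : S, x ^ (p ^ 3) = 1 :=
  let h := Cfsg.Agent.Solv.ESClass.IndexP.order_derived_exponent hS Q hQ hQi
  ⟨let ⟨n, a, _, b⟩ := h.1; ⟨n, a, b⟩, h.2⟩

end Cfsg.Agent.S3809
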