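import Cfsg.Statements.S3815
import Cfsg.Agent.Lib.Solv.Basic

set_option autoImplicit false
open Cfsg
open Subgroup

namespace Cfsg.Agent.S3815

/-- Let G be a finite group, p a prime and d ∈ G an element of order prime to p. If dg has order prime to p for every element g ∈ G of order prime to p, then d ∈ O_{p'}(G). -/
theorem result {G : Type*} [Group G] [Finite G] {p : ℕ} [Fact p.Prime]
    (d : G) (hd : (orderOf d).Coprime p)
    (h : ∀ g : G, (orderOf g).Coprime p → (orderOf (d * g)).Coprime p) :
    d ∈ Cfsg.pPrimeCore p G := by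
  classical
  let S : Set G := {g | (orderOf g).Coprime p}
  let D : Subgroup G :=
    { carrier := {d | ∀ g ∈ S, d * g ∈ S}
      one_mem' := fun g hg => by rwa [one_mul]
      mul_mem' := fun {a b} ha hb g hg => by rw [mul_assoc]; exact ha _ (hb g hg)
      inv_mem' := fun {a} ha g hg => by
        have hsurj := Set.Finite.surjOn_iff_bijOn_of_mapsTo (Set.toFinite S) (f := fun x => a * x) (fun x hx => ha x hx)
        have hinj : Set.InjOn (fun x => a * x) S := fun x _ y _ h => mul_left_cancel h
        obtain ⟨y, hy, hya⟩ := ((Set.toFinite S).injOn_iff_bijOn_of_mapsTo (fun x hx => ha x hx)).1 hinj |>.surjOn hg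
        rw [← hya, inv_mul_cancel_left]
        exact hy }
  have hconj : ∀ (c x : G), x ∈ S → c * x * c⁻¹ ∈ S := fun c x hx => by
    show (orderOf _).Coprime p
    rw [show orderOf (c * x * c⁻¹) = orderOf x from orderOf_injective (MulAut.conj c).toMonoidHom (MulAut.conj c).injective x]
    exact hx
  have hDn : D.Normal := ⟨fun a ha c g hg => by
    have h1 := hconj c _ (ha _ (hconj c⁻¹ g hg))
    simpa [mul_assoc] using h1⟩
  have hS1 : (1 : G) ∈ S := by simp [S]
  have hDc : (Nat.card D).Coprime p := by
    rw [Nat.coprime_comm, (Fact.out : p.Prime).coprime_iff_not_dvd]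
    intro hdvd
    obtain ⟨x, hx⟩ := exists_prime_orderOf_dvd_card' (G := ↥D) p hdvd
    have h1 : (orderOf (x : G)).Coprime p := by simpa [S] using x.2 1 hS1
    rw [orderOf_coe, hx, Nat.coprime_self] at h1
    exact (Fact.out : p.Prime).ne_one h1
  exact Solv.le_pPrimeCore hDc (fun g hg => h g hg : d ∈ D)

end Cfsg.Agent.S3815
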