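import Cfsg.Statements.S3820
-- import your own Cfsg.Agent.* helpers here

set_option autoImplicit false
open Cfsg

namespace Cfsg.Agent.S3820

/-- Call a subgroup H of G pronormal if H and gHg⁻¹ are conjugate inside ⟨H, gHg⁻¹⟩ for every g ∈ G. Let S ≤ H ≤ G be subgroups of a finite group with S pronormal in G (for instance S a Sylow subgroup). Then H is pronormal in G if and only if H and gHg⁻¹ are conjugate inside ⟨H, gHg⁻¹⟩ for every g ∈ N_G(S). In particular H is pronormal whenever N_G(S) ≤ H. -/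
theorem result {G : Type*} [Group G] [Finite G] (S H : Subgroup G) (hSH : S ≤ H)
    (hS : Cfsg.IsPronormal S) :
    Cfsg.IsPronormal H ↔
      ∀ g ∈ Subgroup.normalizer (S : Set G), ∃ w ∈ H ⊔ H.map (MulAut.conj g).toMonoidHom,
        H.map (MulAut.conj g).toMonoidHom = H.map (MulAut.conj w).toMonoidHom := by
  constructor
  · exact fun hH g _ => hH g
  · intro h g
    obtain ⟨x, hx, e⟩ := hS g
    have hKx : x ∈ H ⊔ H.map (MulAut.conj g).toMonoidHom := sup_le_sup hSH (Subgroup.map_mono hSH) hx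
    have hconj : ∀ (K : Subgroup G) (u v : G), (K.map (MulAut.conj v).toMonoidHom).map (MulAut.conj u).toMonoidHom =
        K.map (MulAut.conj (u * v)).toMonoidHom := by
      intro K u v
      rw [Subgroup.map_map]; congr 1; ext; simp [mul_assoc]
    have hSn : S.map (MulAut.conj (x⁻¹ * g)).toMonoidHom = S := by
      rw [← hconj, e, hconj, inv_mul_cancel]
      ext; simp
    have hn : x⁻¹ * g ∈ Subgroup.normalizer (S : Set G) := by
      rw [Subgroup.mem_normalizer_iff]
      intro y
      refine ⟨fun hy => hSn.le ⟨y, hy, rfl⟩, fun hy => ?_⟩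
      obtain ⟨z, hz, ez⟩ := hSn.ge hy
      rwa [← (MulAut.conj (x⁻¹ * g)).injective (ez : MulAut.conj (x⁻¹ * g) z = MulAut.conj (x⁻¹ * g) y)]
    obtain ⟨w, hw, ew⟩ := h _ hn
    have hwK : w ∈ H ⊔ H.map (MulAut.conj g).toMonoidHom := by
      refine (sup_le le_sup_left ?_ : H ⊔ H.map (MulAut.conj (x⁻¹ * g)).toMonoidHom ≤ _) hw
      rintro _ ⟨y, hy, rfl⟩
      have hgy : g * y * g⁻¹ ∈ H ⊔ H.map (MulAut.conj g).toMonoidHom := Subgroup.mem_sup_right ⟨y, hy, rfl⟩
      have := mul_mem (mul_mem (inv_mem hKx) hgy) hKx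
      simpa [mul_assoc] using this
    refine ⟨x * w, mul_mem hKx hwK, ?_⟩
    rw [← hconj, ← ew, hconj, mul_inv_cancel_left]

end Cfsg.Agent.S3820
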