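import Cfsg.Statements.S3821
-- import your own Cfsg.Agent.* helpers here

set_option autoImplicit false
open Cfsg

namespace Cfsg.Agent.S3821

/-- Let A be a normal subgroup of the finite group G and H a subgroup of A. Then H is pronormal in G (H and gHg⁻¹ conjugate inside ⟨H, gHg⁻¹⟩ for every g ∈ G) if and only if H is pronormal in A and G = A · N_G(H). -/
theorem result {G : Type*} [Group G] [Finite G] (A H : Subgroup G) [A.Normal] (hHA : H ≤ A) :
    Cfsg.IsPronormal H ↔ (Cfsg.IsPronormal (H.subgroupOf A) ∧ A ⊔ Subgroup.normalizer (H : Set G) = ⊤) := by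
  constructor
  · intro hH
    refine ⟨fun g => ?_, ?_⟩
    · obtain ⟨x, hx, e⟩ := hH (g : G)
      have hm : ∀ y : ↥A, (H.subgroupOf A).map (MulAut.conj y).toMonoidHom =
          (H.map (MulAut.conj (y : G)).toMonoidHom).subgroupOf A := by
        intro y
        ext z
        constructor
        · rintro ⟨w, hw, rfl⟩; exact ⟨w, hw, rfl⟩
        · rintro ⟨w, hw, ew⟩
          exact ⟨⟨w, hHA hw⟩, hw, Subtype.ext ew⟩
      have hgle : H.map (MulAut.conj (g : G)).toMonoidHom ≤ A := by
        rintro _ ⟨w, hw, rfl⟩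
        exact mul_mem (mul_mem g.2 (hHA hw)) (inv_mem g.2)
      have hxA : x ∈ A := sup_le hHA hgle hx
      refine ⟨⟨x, hxA⟩, ?_, ?_⟩
      · rw [hm, ← Subgroup.subgroupOf_sup hHA hgle]; exact hx
      · rw [hm, hm]; exact congrArg (fun K : Subgroup G => K.subgroupOf A) e
    · rw [eq_top_iff]
      intro g _
      obtain ⟨x, hx, e⟩ := hH g
      have hgle : H.map (MulAut.conj g).toMonoidHom ≤ A := by
        rintro _ ⟨w, hw, rfl⟩
        exact (inferInstance : A.Normal).conj_mem w (hHA hw) g
      have hn : x⁻¹ * g ∈ Subgroup.normalizer (H : Set G) := by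
        rw [Subgroup.mem_normalizer_iff]
        have he : H.map (MulAut.conj (x⁻¹ * g)).toMonoidHom = H := by
          have := congrArg (fun K : Subgroup G => K.map (MulAut.conj x⁻¹).toMonoidHom) e
          simp only [Subgroup.map_map] at this
          rw [show (MulAut.conj x⁻¹).toMonoidHom.comp (MulAut.conj x).toMonoidHom = MonoidHom.id G by
            ext; simp [mul_assoc]] at this
          rw [Subgroup.map_id] at this
          rw [show (MulAut.conj (x⁻¹ * g)).toMonoidHom =
            (MulAut.conj x⁻¹).toMonoidHom.comp (MulAut.conj g).toMonoidHom by ext; simp [mul_assoc]]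
          exact this
        intro y
        refine ⟨fun hy => he.le ⟨y, hy, rfl⟩, fun hy => ?_⟩
        obtain ⟨z, hz, ez⟩ := he.ge hy
        rwa [← (MulAut.conj (x⁻¹ * g)).injective (ez : MulAut.conj (x⁻¹ * g) z = MulAut.conj (x⁻¹ * g) y)]
      have := mul_mem (Subgroup.mem_sup_left (T := Subgroup.normalizer (H : Set G)) (sup_le hHA hgle hx))
        (Subgroup.mem_sup_right (S := A) hn)
      rwa [mul_inv_cancel_left] at this
  · rintro ⟨hA, htop⟩ g
    obtain ⟨a, ha, n, hn, rfl⟩ := Subgroup.mem_sup_of_normal_left.1 (htop ▸ Subgroup.mem_top g)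
    have hn' : H.map (MulAut.conj n).toMonoidHom = H := by
      ext y
      constructor
      · rintro ⟨z, hz, rfl⟩; exact (Subgroup.mem_normalizer_iff.1 hn z).1 hz
      · intro hy
        refine ⟨n⁻¹ * y * n, ?_, by simp [mul_assoc]⟩
        rw [SetLike.mem_coe, Subgroup.mem_normalizer_iff.1 hn]
        simpa [mul_assoc] using hy
    have he : H.map (MulAut.conj (a * n)).toMonoidHom = H.map (MulAut.conj a).toMonoidHom := by
      conv_rhs => rw [← hn']
      rw [Subgroup.map_map]
      congr 1
      ext; simp [mul_assoc]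
    obtain ⟨x, hx, e⟩ := hA ⟨a, ha⟩
    refine ⟨x, ?_, ?_⟩
    · rw [he]
      have hx' : (x : G) ∈ ((H.subgroupOf A) ⊔ (H.subgroupOf A).map (MulAut.conj (⟨a, ha⟩ : ↥A)).toMonoidHom).map A.subtype :=
        Subgroup.mem_map_of_mem _ hx
      rw [Subgroup.map_sup, Subgroup.map_map] at hx'
      refine (sup_le ?_ ?_ : _ ≤ H ⊔ H.map (MulAut.conj a).toMonoidHom) hx'
      · refine le_sup_of_le_left ?_
        rintro _ ⟨z, hz, rfl⟩; exact hz
      · refine le_sup_of_le_right ?_
        rintro _ ⟨z, hz, rfl⟩; exact ⟨z, hz, rfl⟩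
    · rw [he]
      have := congrArg (fun K : Subgroup ↥A => K.map A.subtype) e
      simp only [Subgroup.map_map] at this
      rw [show A.subtype.comp (MulAut.conj (⟨a, ha⟩ : ↥A)).toMonoidHom = (MulAut.conj a).toMonoidHom.comp A.subtype from rfl,
        show A.subtype.comp (MulAut.conj x).toMonoidHom = (MulAut.conj (x : G)).toMonoidHom.comp A.subtype from rfl,
        ← Subgroup.map_map, ← Subgroup.map_map (H.subgroupOf A), Subgroup.map_subgroupOf_eq_of_le hHA] at this
      exact this

end Cfsg.Agent.S3821
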