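import Cfsg.Statements.S3824
import Cfsg.Agent.Lib.Struct.ClassSize
import Cfsg.Agent.Lib.Solv.Basic

set_option autoImplicit false
open Cfsg
open Cfsg.Agent.Struct

namespace Cfsg.Agent.S3824

universe u

theorem key : ∀ (n : ℕ) (G : Type u) [Group G] [Finite G], Nat.card G = n → ∀ A : Subgroup G,
    IsMulCommutative A → (∃ k : ℕ, A.index = 2 ^ k) → Group.IsSolvable G := by
  intro n
  induction n using Nat.strong_induction_on with
  | _ n ih =>
  intro G _ _ hn A hA hidx
  subst hn
  obtain ⟨k, hk⟩ := hidx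
  have := Fact.mk Nat.prime_two
  by_cases hb : A = ⊥
  · subst hb
    rw [Subgroup.index_bot] at hk
    have := (IsPGroup.of_card hk).isNilpotent
    infer_instance
  rcases subsingleton_or_nontrivial G with hs | hs
  · infer_instance
  by_cases hsimp : ∃ N : Subgroup G, N.Normal ∧ N ≠ ⊥ ∧ N ≠ ⊤
  · obtain ⟨N, hN, hNb, hNt⟩ := hsimp
    refine solvable_of_normal_quotient N ?_ ?_
    · refine ih _ (lt_of_le_of_ne (Subgroup.card_le_card_group N) fun e =>
        hNt (Subgroup.eq_top_of_card_eq N e)) N rfl (A.subgroupOf N) ?_ ?_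
      · have := hA
        exact Subgroup.subgroupOf_isMulCommutative N A
      · have hdvd : A.relIndex N ∣ 2 ^ k := by
          have e1 := Subgroup.relIndex_mul_index (inf_le_left : A ⊓ N ≤ A)
          have e2 := Subgroup.relIndex_mul_index (inf_le_right : A ⊓ N ≤ N)
          rw [Subgroup.inf_relIndex_left] at e1
          rw [Subgroup.inf_relIndex_right] at e2
          obtain ⟨e, he⟩ := (Subgroup.relIndex_dvd_index_of_normal N A : N.relIndex A ∣ N.index)
          have h0 : N.relIndex A ≠ 0 := fun h0 => N.index_ne_zero_of_finite (by rw [he, h0, zero_mul])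
          rw [← hk]
          refine ⟨e, Nat.eq_of_mul_eq_mul_left (Nat.pos_of_ne_zero h0) ?_⟩
          rw [e1, ← e2, he]; ring
        obtain ⟨j, -, hj⟩ := (Nat.dvd_prime_pow Nat.prime_two).1 hdvd
        exact ⟨j, hj⟩
    · refine ih _ ?_ (G ⧸ N) rfl (A.map (QuotientGroup.mk' N)) ?_ ?_
      · rw [Subgroup.card_eq_card_quotient_mul_card_subgroup N]
        exact lt_mul_of_one_lt_right Nat.card_pos (N.one_lt_card_iff_ne_bot.mpr hNb)
      · have := hA
        exact Subgroup.map_isMulCommutative A _
      · have hd := Subgroup.index_map_dvd A (QuotientGroup.mk'_surjective N)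
        rw [hk] at hd
        obtain ⟨j, -, hj⟩ := (Nat.dvd_prime_pow Nat.prime_two).1 hd
        exact ⟨j, hj⟩
  · have hsimple : IsSimpleGroup G := ⟨fun N hN => by
      by_contra hc
      push Not at hc
      exact hsimp ⟨N, hN, hc.1, hc.2⟩⟩
    obtain ⟨a, ha, ha1⟩ : ∃ a ∈ A, a ≠ 1 := by
      rw [Subgroup.eq_bot_iff_forall] at hb
      push Not at hb
      exact hb
    refine solvable_of_simple_class_prime_pow Nat.prime_two ha1 ⟨k, ?_⟩
    rw [← hk]
    refine Subgroup.index_dvd_of_le fun y hy => Subgroup.mem_centralizer_singleton_iff.2 ?_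
    have := hA
    exact congrArg Subtype.val (mul_comm' (⟨y, hy⟩ : A) ⟨a, ha⟩)


/-- Every finite group having an abelian subgroup whose index is a power of 2 is solvable. -/
theorem result {G : Type*} [Group G] [Finite G]
    (A : Subgroup G) (hA : IsMulCommutative A) (hidx : ∃ k : ℕ, A.index = 2 ^ k) : Group.IsSolvable G := by
  exact key _ G rfl A hA hidx

end Cfsg.Agent.S3824
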