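import Cfsg.Statements.S3825
import Mathlib

set_option autoImplicit false
open Cfsg
open scoped commutatorElement

namespace Cfsg.Agent.S3825

/-- Let U be a subgroup of a finite group H and w an involution of H normalizing U and commuting with exactly two elements of U, the identity and y. If V is a non-cyclic elementary abelian 2-subgroup of U containing y which is normal in U and invariant under w, then V is a Sylow 2-subgroup of U, V has order 4, and U/V is abelian. -/
theorem result {H : Type*} [Group H] [Finite H] (U : Subgroup H) (w : H) (hw : orderOf w = 2)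
    (hwU : w ∈ Subgroup.normalizer (U : Set H)) (y : H) (hy : y ≠ 1) (hyU : y ∈ U)
    (hfix : ∀ u ∈ U, w * u * w⁻¹ = u ↔ (u = 1 ∨ u = y))
    (V : Subgroup H) (hVU : V ≤ U) (hVn : (V.subgroupOf U).Normal) (hVw : ∀ v ∈ V, w * v * w⁻¹ ∈ V)
    (hVe : Cfsg.IsElementaryAbelian 2 V) (hVc : ¬ IsCyclic ↥V) (hyV : y ∈ V) :
    ¬ 2 ∣ V.relIndex U ∧ Nat.card ↥V = 4 ∧ ⁅U, U⁆ ≤ V := by
  haveI : Fact (Nat.Prime 2) := ⟨Nat.prime_two⟩
  have hww : w * w = 1 := by rw [← pow_two, ← hw, pow_orderOf_eq_one]
  have hwi : w⁻¹ = w := inv_eq_of_mul_eq_one_right hww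
  have hcard2 : ∀ v : ↥U, (w * (v : H) * w⁻¹ = v) → v = 1 ∨ v = ⟨y, hyU⟩ := by
    intro v hv
    rcases (hfix v v.2).mp hv with h | h
    · exact Or.inl (Subtype.ext h)
    · exact Or.inr (Subtype.ext h)
  let σ : ↥U →* ↥U := MonoidHom.mk' (fun u => ⟨w * u * w⁻¹, (Subgroup.mem_normalizer_iff.mp hwU _).mp u.2⟩)
    (fun a b => Subtype.ext (by simp [mul_assoc]))
  have hσσ : ∀ u, σ (σ u) = u := by
    intro u
    apply Subtype.ext
    change w * (w * (u : H) * w⁻¹) * w⁻¹ = u
    calc w * (w * (u : H) * w⁻¹) * w⁻¹ = (w * w) * u * (w * w)⁻¹ := by group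
      _ = u := by rw [hww]; group
  set W := V.subgroupOf U with hW
  haveI := hVn
  have hfixW : ∀ v : ↥U, σ v = v → v = 1 ∨ v = ⟨y, hyU⟩ := fun v h => hcard2 v (congrArg Subtype.val h)
  have hWσ : ∀ v ∈ W, σ v ∈ W := fun v hv => hVw _ hv
  have hW2 : ∀ a ∈ W, a * a = 1 := by
    intro a ha
    rw [← pow_two]
    exact Subtype.ext (hVe.2 (a : H) ha)
  -- `u ↦ u⁻¹ σ(u)` has fibres of size at most two
  let F : ↥U → ↥U := fun u => u⁻¹ * σ u
  have hF : ∀ a b : ↥U, F a = F b → b = a ∨ b = ⟨y, hyU⟩ * a := by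
    intro a b h
    have h1 : σ (b * a⁻¹) = b * a⁻¹ := by
      rw [map_mul, map_inv]
      have h2 : σ a = a * F b := by rw [← h]; simp [F]
      rw [h2, show σ b = b * F b by simp [F]]
      group
    rcases hfixW _ h1 with h3 | h3
    · exact Or.inl (mul_inv_eq_one.mp h3)
    · exact Or.inr (mul_inv_eq_iff_eq_mul.mp h3)
  -- elements sent into `W`
  classical
  haveI : Fintype ↥U := Fintype.ofFinite _
  let A : Finset ↥U := Finset.univ.filter (fun u => F u ∈ W)
  have hA4 : A.card ≤ 4 := by
    have himg : A.image F ⊆ {1, ⟨y, hyU⟩} := by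
      intro v hv
      obtain ⟨u, hu, rfl⟩ := Finset.mem_image.mp hv
      have huW : F u ∈ W := (Finset.mem_filter.mp hu).2
      have hinv : σ (F u) = (F u)⁻¹ := by simp [F, hσσ]
      rw [inv_eq_of_mul_eq_one_right (hW2 _ huW)] at hinv
      rcases hfixW _ hinv with h | h <;> simp [h]
    have h1 := Finset.card_le_mul_card_image (f := F) A 2 (fun b hb => by
      obtain ⟨u, hu, rfl⟩ := Finset.mem_image.mp hb
      calc (A.filter (fun x => F x = F u)).card ≤ ({u, ⟨y, hyU⟩ * u} : Finset ↥U).card := by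
            apply Finset.card_le_card
            intro x hx
            rcases hF u x (Finset.mem_filter.mp hx).2.symm with h | h <;> simp [h]
        _ ≤ 2 := Finset.card_le_two)
    have h2 := (Finset.card_le_card himg).trans Finset.card_le_two
    omega
  have hWA : (Finset.univ.filter (fun u : ↥U => u ∈ W)) ⊆ A := by
    intro u hu
    have hu' : u ∈ W := (Finset.mem_filter.mp hu).2
    exact Finset.mem_filter.mpr ⟨Finset.mem_univ _, W.mul_mem (W.inv_mem hu') (hWσ u hu')⟩
  have hWcard : Nat.card ↥W = (Finset.univ.filter (fun u : ↥U => u ∈ W)).card := by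
    rw [Nat.card_eq_fintype_card, Fintype.card_subtype]
  have hV4 : Nat.card ↥V = 4 := by
    have hle : Nat.card ↥W ≤ 4 := by
      rw [hWcard]; exact (Finset.card_le_card hWA).trans hA4
    rw [Nat.card_congr (Subgroup.subgroupOfEquivOfLe hVU).toEquiv] at hle
    have h2 : IsPGroup 2 ↥V := fun v => ⟨1, Subtype.ext (by simpa using hVe.2 v v.2)⟩
    obtain ⟨k, hk⟩ := IsPGroup.iff_card.mp h2
    rcases k with _ | _ | _ | k
    · exact absurd (by
        haveI : Subsingleton ↥V := Finite.card_le_one_iff_subsingleton.mp (by rw [hk]; simp)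
        exact isCyclic_of_subsingleton) hVc
    · exact absurd (isCyclic_of_prime_card (p := 2) (by rw [hk]; simp)) hVc
    · simpa using hk
    · exfalso
      rw [hk, pow_succ, pow_succ, pow_succ] at hle
      have := Nat.two_pow_pos k
      omega
  have hAW : ∀ u : ↥U, F u ∈ W → u ∈ W := by
    intro u hu
    have heq := Finset.eq_of_subset_of_card_le hWA (by
      rw [← hWcard, Nat.card_congr (Subgroup.subgroupOfEquivOfLe hVU).toEquiv, hV4]; exact hA4)
    have : u ∈ A := Finset.mem_filter.mpr ⟨Finset.mem_univ _, hu⟩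
    rw [← heq] at this
    exact (Finset.mem_filter.mp this).2
  -- the induced automorphism of the quotient has no fixed point
  let τ : ↥U ⧸ W →* ↥U ⧸ W := QuotientGroup.map W W σ (fun v hv => hWσ v hv)
  have hτfix : ∀ x, τ x = x → x = 1 := by
    intro x
    induction x using QuotientGroup.induction_on with
    | H u =>
      intro h
      rw [QuotientGroup.eq_one_iff]
      apply hAW
      change ((σ u : ↥U) : ↥U ⧸ W) = (u : ↥U ⧸ W) at h
      rw [eq_comm, QuotientGroup.eq] at h
      exact h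
  have hτ2 : ∀ x, τ (τ x) = x := by
    intro x
    induction x using QuotientGroup.induction_on with
    | H u =>
      change ((σ (σ u) : ↥U) : ↥U ⧸ W) = (u : ↥U ⧸ W)
      rw [hσσ]
  have hinj : Function.Injective (fun x : ↥U ⧸ W => x⁻¹ * τ x) := by
    intro a b h
    have h' : a⁻¹ * τ a = b⁻¹ * τ b := h
    have : τ (b * a⁻¹) = b * a⁻¹ := by
      have ha : τ a = a * (b⁻¹ * τ b) := by rw [← h']; group
      rw [map_mul, map_inv, ha]; group
    exact (mul_inv_eq_one.mp (hτfix _ this)).symm
  have hinv : ∀ x : ↥U ⧸ W, τ x = x⁻¹ := by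
    intro x
    obtain ⟨a, ha⟩ := (Finite.injective_iff_surjective.mp hinj) x
    rw [← ha]; simp [hτ2]
  have hodd : ¬ 2 ∣ Nat.card (↥U ⧸ W) := by
    intro h
    obtain ⟨x, hx⟩ := exists_prime_orderOf_dvd_card' 2 h
    have h1 : x * x = 1 := by rw [← pow_two, ← hx, pow_orderOf_eq_one]
    have h2 := hτfix x ((hinv x).trans (inv_eq_of_mul_eq_one_right h1))
    rw [h2, orderOf_one] at hx
    exact absurd hx (by norm_num)
  refine ⟨?_, hV4, ?_⟩
  · rw [Subgroup.relIndex, Subgroup.index_eq_card]; exact hodd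
  · rw [Subgroup.commutator_le]
    intro a ha b hb
    have hcm : ∀ x z : ↥U ⧸ W, x * z = z * x := by
      intro x z
      have h := hinv (x * z)
      rw [map_mul, hinv, hinv, mul_inv_rev] at h
      exact inv_injective (by rw [mul_inv_rev, mul_inv_rev, h])
    have h1 : ⁅(⟨a, ha⟩ : ↥U), (⟨b, hb⟩ : ↥U)⁆ ∈ W := by
      rw [← QuotientGroup.eq_one_iff, ← QuotientGroup.mk'_apply, map_commutatorElement,
        commutatorElement_eq_one_iff_mul_comm]
      exact hcm _ _
    exact h1

end Cfsg.Agent.S3825
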