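import Cfsg.Statements.S3835
import Cfsg.Agent.Lib.Local.QdExtension
import Cfsg.Agent.Lib.Solv.KApps
import Mathlib

set_option autoImplicit false
open Cfsg

namespace Cfsg.Agent.S3835

open Cfsg.Agent.Local Matrix

variable {p : ℕ} [Fact p.Prime]

/-- Below `p²` letters the `p`-subgroups of a symmetric group are abelian. -/
theorem comm_of_lt {n : ℕ} (hn : n < p ^ 2) (R : Subgroup (Equiv.Perm (Fin n))) (hR : IsPGroup p R)
    (a b : Equiv.Perm (Fin n)) (ha : a ∈ R) (hb : b ∈ R) : a * b = b * a := by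
  classical
  have hp : p.Prime := Fact.out
  haveI : NeZero p := ⟨hp.ne_zero⟩
  set m := n / p with hm
  let e : Fin m × ZMod p ↪ Fin n :=
    ((Equiv.prodCongr (Equiv.refl (Fin m)) (ZMod.finEquiv p).symm.toEquiv).trans finProdFinEquiv).toEmbedding.trans
      (Fin.castLEEmb (Nat.div_mul_le_self n p))
  let Φ : Multiplicative (Fin m → ZMod p) →* Equiv.Perm (Fin m × ZMod p) := MonoidHom.mk'
    (fun f => Equiv.prodShear (Equiv.refl (Fin m)) (fun i => Equiv.addRight (Multiplicative.toAdd f i)))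
    (fun f g => Equiv.ext fun x => by
      show (x.1, x.2 + (Multiplicative.toAdd f x.1 + Multiplicative.toAdd g x.1)) =
        (x.1, x.2 + Multiplicative.toAdd g x.1 + Multiplicative.toAdd f x.1)
      rw [add_comm (Multiplicative.toAdd f x.1), add_assoc])
  have hΦ : Function.Injective Φ := by
    intro f g h
    refine Multiplicative.toAdd.injective (funext fun i => ?_)
    have h1 := congrArg Prod.snd (DFunLike.congr_fun h (i, (0 : ZMod p)))
    simpa [Φ] using h1
  let Ψ := (Equiv.Perm.viaEmbeddingHom e).comp Φ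
  have hΨ : Function.Injective Ψ := (Equiv.Perm.viaEmbeddingHom_injective e).comp hΦ
  have hcard : Nat.card Ψ.range = p ^ (Nat.card (Equiv.Perm (Fin n))).factorization p := by
    have hlog : Nat.log p n < 2 := Nat.log_lt_of_lt_pow' two_ne_zero hn
    rw [← Nat.card_congr (MonoidHom.ofInjective hΨ).toEquiv, Nat.card_congr Multiplicative.toAdd, Nat.card_fun,
      Nat.card_zmod, Nat.card_fin, Nat.card_perm, Nat.card_fin, Nat.factorization_factorial hp hlog]
    simp [hm]
  obtain ⟨Q, hQ⟩ := hR.exists_le_sylow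
  obtain ⟨g, hg⟩ := MulAction.exists_smul_eq (Equiv.Perm (Fin n)) Q (Sylow.ofCard _ hcard)
  have hin : ∀ x ∈ R, ∃ f, Ψ f = g * x * g⁻¹ := by
    intro x hx
    have : g * x * g⁻¹ ∈ ((g • Q : Sylow p (Equiv.Perm (Fin n))) : Subgroup (Equiv.Perm (Fin n))) := by
      rw [Sylow.coe_subgroup_smul]
      exact ⟨x, hQ hx, rfl⟩
    rw [hg] at this
    exact this
  obtain ⟨f1, h1⟩ := hin a ha
  obtain ⟨f2, h2⟩ := hin b hb
  have h3 : g * (a * b) * g⁻¹ = g * (b * a) * g⁻¹ := by
    calc g * (a * b) * g⁻¹ = (g * a * g⁻¹) * (g * b * g⁻¹) := by group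
      _ = Ψ (f1 * f2) := by rw [map_mul, h1, h2]
      _ = Ψ (f2 * f1) := by rw [mul_comm]
      _ = _ := by rw [map_mul, h1, h2]; group
  exact mul_left_cancel (mul_right_cancel h3)

/-- The affine action of `Qd(p)` on the plane. -/
def affFun (q : qd p) (v : ZMod p × ZMod p) : ZMod p × ZMod p :=
  ((q : SpecialLinearGroup (Fin 3) (ZMod p)).1 0 0 * v.1 + (q : SpecialLinearGroup (Fin 3) (ZMod p)).1 0 1 * v.2 +
      (q : SpecialLinearGroup (Fin 3) (ZMod p)).1 0 2,
    (q : SpecialLinearGroup (Fin 3) (ZMod p)).1 1 0 * v.1 + (q : SpecialLinearGroup (Fin 3) (ZMod p)).1 1 1 * v.2 +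
      (q : SpecialLinearGroup (Fin 3) (ZMod p)).1 1 2)

theorem affFun_qdElt (a b c e r s : ZMod p) (h : a * e - b * c = 1) (v : ZMod p × ZMod p) :
    affFun (qdElt a b c e r s h) v = (a * v.1 + b * v.2 + r, c * v.1 + e * v.2 + s) := by
  simp [affFun, qdElt, affMat]

theorem affFun_mul (q q' : qd p) (v : ZMod p × ZMod p) : affFun (q * q') v = affFun q (affFun q' v) := by
  obtain ⟨a, b, c, e, r, s, h, rfl⟩ := exists_qdElt q
  obtain ⟨a', b', c', e', r', s', h', rfl⟩ := exists_qdElt q'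
  rw [qdElt_mul, affFun_qdElt, affFun_qdElt, affFun_qdElt]
  ext <;> dsimp only <;> ring

theorem affFun_one (v : ZMod p × ZMod p) : affFun (1 : qd p) v = v := by
  rw [← qdElt_one, affFun_qdElt]
  ext <;> dsimp only <;> ring

def toPerm : qd p →* Equiv.Perm (ZMod p × ZMod p) :=
  MonoidHom.mk' (fun q => ⟨affFun q, affFun q⁻¹,
      fun v => by rw [← affFun_mul, inv_mul_cancel, affFun_one],
      fun v => by rw [← affFun_mul, mul_inv_cancel, affFun_one]⟩)
    (fun q q' => Equiv.ext fun v => affFun_mul q q' v)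

theorem toPerm_injective : Function.Injective (toPerm (p := p)) := by
  intro q q' hq
  obtain ⟨a, b, c, e, r, s, h, rfl⟩ := exists_qdElt q
  obtain ⟨a', b', c', e', r', s', h', rfl⟩ := exists_qdElt q'
  have hv : ∀ v : ZMod p × ZMod p, (a * v.1 + b * v.2 + r, c * v.1 + e * v.2 + s) =
      (a' * v.1 + b' * v.2 + r', c' * v.1 + e' * v.2 + s') := fun v => by
    rw [← affFun_qdElt a b c e r s h, ← affFun_qdElt a' b' c' e' r' s' h']
    exact DFunLike.congr_fun hq v
  have h00 := hv (0, 0)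
  have h10 := hv (1, 0)
  have h01 := hv (0, 1)
  simp only [mul_zero, mul_one, zero_add, add_zero, Prod.mk.injEq] at h00 h10 h01
  exact qdElt_congr h h' (by linear_combination h10.1 - h00.1) (by linear_combination h01.1 - h00.1)
    (by linear_combination h10.2 - h00.2) (by linear_combination h01.2 - h00.2) h00.1 h00.2

/-- For odd `p` the group `Qd(p)` has no non-trivial sign. -/
theorem sign_trivial (hp2 : p ≠ 2) (f : qd p →* ℤˣ) (q : qd p) : f q = 1 := by
  have hp : p.Prime := Fact.out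
  have hodd : Odd p := hp.odd_of_ne_two hp2
  have hkill : ∀ u : qd p, u ^ p = 1 → f u = 1 := by
    intro u hu
    have h1 : f u ^ p = 1 := by rw [← map_pow, hu, map_one]
    rcases Int.units_eq_one_or (f u) with h | h
    · exact h
    · rw [h, hodd.neg_one_pow] at h1; exact absurd h1 (by decide)
  have hpz : (p : ZMod p) = 0 := ZMod.natCast_self p
  have hU : ∀ x : ZMod p, f (qdElt 1 x 0 1 0 0 (by ring)) = 1 := fun x => hkill _ (by
    have : ∀ k : ℕ, (qdElt (1 : ZMod p) x 0 1 0 0 (by ring)) ^ k = qdElt 1 ((k : ZMod p) * x) 0 1 0 0 (by ring) := by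
      intro k
      induction k with
      | zero => rw [pow_zero]; refine qdElt_one.symm.trans (qdElt_congr _ _ rfl ?_ rfl rfl rfl rfl); simp
      | succ k ih => rw [pow_succ, ih, qdElt_mul]; exact qdElt_congr _ _ (by ring) (by push_cast; ring) (by ring) (by ring) (by ring) (by ring)
    rw [this]
    exact (qdElt_congr _ _ rfl (by rw [hpz, zero_mul]) rfl rfl rfl rfl).trans qdElt_one)
  have hL : ∀ x : ZMod p, f (qdElt 1 0 x 1 0 0 (by ring)) = 1 := fun x => hkill _ (by
    have : ∀ k : ℕ, (qdElt (1 : ZMod p) 0 x 1 0 0 (by ring)) ^ k = qdElt 1 0 ((k : ZMod p) * x) 1 0 0 (by ring) := by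
      intro k
      induction k with
      | zero => rw [pow_zero]; refine qdElt_one.symm.trans (qdElt_congr _ _ rfl rfl ?_ rfl rfl rfl); simp
      | succ k ih => rw [pow_succ, ih, qdElt_mul]; exact qdElt_congr _ _ (by ring) (by ring) (by push_cast; ring) (by ring) (by ring) (by ring)
    rw [this]
    exact (qdElt_congr _ _ rfl rfl (by rw [hpz, zero_mul]) rfl rfl rfl).trans qdElt_one)
  have hT : ∀ r s : ZMod p, f (Local.trans r s) = 1 := fun r s => hkill _ (by
    rw [trans_pow]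
    exact (qdElt_congr _ _ rfl rfl rfl rfl (by rw [hpz, zero_mul]) (by rw [hpz, zero_mul])).trans qdElt_one)
  have hc : ∀ (a b c e r s : ZMod p) (h : a * e - b * c = 1), c ≠ 0 → f (qdElt a b c e r s h) = 1 := by
    intro a b c e r s h hc
    have hdec : qdElt a b c e r s h = Local.trans r s * qdElt 1 ((a - 1) / c) 0 1 0 0 (by ring) *
        qdElt 1 0 c 1 0 0 (by ring) * qdElt 1 ((e - 1) / c) 0 1 0 0 (by ring) := by
      rw [Local.trans, qdElt_mul, qdElt_mul, qdElt_mul]
      refine qdElt_congr _ _ ?_ ?_ ?_ ?_ ?_ ?_ <;> field_simp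
      all_goals first | ring1 | linear_combination h | linear_combination -h
    rw [hdec, map_mul, map_mul, map_mul, hT, hU, hL, hU]
    simp
  obtain ⟨a, b, c, e, r, s, h, rfl⟩ := exists_qdElt q
  by_cases h0 : c = 0
  · have ha : a ≠ 0 := fun ha => one_ne_zero (α := ZMod p) (by rw [← h, ha, h0]; ring)
    have h1 := hc (1 * a + 0 * c) (1 * b + 0 * e) (1 * a + 1 * c) (1 * b + 1 * e) (1 * r + 0 * s + 0) (1 * r + 1 * s + 0)
      (by linear_combination h) (by rw [h0]; simpa using ha)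
    rw [← qdElt_mul 1 0 1 1 0 0 a b c e r s (by ring) h, map_mul, hL, one_mul] at h1
    exact h1
  · exact hc a b c e r s h h0

/-- `Qd(p)` is not involved in a symmetric group on fewer than `p²` letters. -/
theorem not_involves {n : ℕ} (hn : n < p ^ 2) : ¬ Cfsg.Involves ↥(Cfsg.qd p) ↥(alternatingGroup (Fin n)) := by
  intro h
  obtain ⟨K, θ, hθ⟩ := Cfsg.Agent.Solv.Quad.exists_hom_of_involves h
  obtain ⟨P⟩ : Nonempty (Sylow p K) := inferInstance
  obtain ⟨T, hT⟩ := Cfsg.Agent.Solv.KInf.exists_sylow_eq_qdU (p := p)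
  obtain ⟨g, hg⟩ := MulAction.exists_smul_eq (qd p) (P.mapSurjective hθ) T
  have hcomm : ∀ u v : qd p, u ∈ (T : Subgroup (qd p)) → v ∈ (T : Subgroup (qd p)) → u * v = v * u := by
    intro u v hu hv
    rw [← hg, Sylow.coe_subgroup_smul] at hu hv
    obtain ⟨_, ⟨x, hx, rfl⟩, rfl⟩ := hu
    obtain ⟨_, ⟨y, hy, rfl⟩, rfl⟩ := hv
    have h1 := comm_of_lt hn (((P : Subgroup K).map K.subtype).map (alternatingGroup (Fin n)).subtype)
      ((P.isPGroup'.map _).map _) _ _ ⟨_, ⟨x, hx, rfl⟩, rfl⟩ ⟨_, ⟨y, hy, rfl⟩, rfl⟩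
    have h2 : x * y = y * x := Subtype.ext (Subtype.ext h1)
    refine Eq.trans (map_mul _ _ _).symm (Eq.trans (congrArg _ ?_) (map_mul _ _ _))
    exact ((map_mul θ x y).symm.trans (congrArg θ h2)).trans (map_mul θ y x)
  have h3 := hcomm (qdElt 1 1 0 1 0 0 (by ring)) (qdElt 1 0 0 1 0 1 (by ring))
    (by rw [hT]; exact ⟨1, 0, 0, rfl⟩) (by rw [hT]; exact ⟨0, 0, 1, rfl⟩)
  rw [qdElt_mul, qdElt_mul] at h3
  have h4 := congrArg (fun q : qd p => ((q : SpecialLinearGroup (Fin 3) (ZMod p)) : Matrix (Fin 3) (Fin 3) (ZMod p)) 0 2) h3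
  simp [qdElt, affMat] at h4


/-- Let p be an odd prime and n a natural number. The alternating group of degree n has a subgroup isomorphic to Qd(p) (the natural semidirect product of an elementary abelian group of order p² by SL₂(p)) if and only if n ≥ p²; and if n < p² then Qd(p) is not even involved in it. -/
theorem result {p : ℕ} [Fact p.Prime] (hp : p ≠ 2) (n : ℕ) : ((∃ H : Subgroup (alternatingGroup (Fin n)), Nonempty (↥H ≃* ↥(Cfsg.qd p))) ↔ p ^ 2 ≤ n) ∧ (n < p ^ 2 → ¬ Cfsg.Involves ↥(Cfsg.qd p) ↥(alternatingGroup (Fin n))) := by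
  classical
  haveI : NeZero p := ⟨(Fact.out : p.Prime).ne_zero⟩
  refine ⟨⟨fun ⟨H, ⟨ψ⟩⟩ => ?_, fun hle => ?_⟩, not_involves⟩
  · by_contra hlt
    push Not at hlt
    refine not_involves hlt ⟨H, ⊥, ?_, ?_⟩
    · rw [Subgroup.bot_subgroupOf]; infer_instance
    · exact ⟨((QuotientGroup.quotientMulEquivOfEq (Subgroup.bot_subgroupOf H)).trans QuotientGroup.quotientBot).trans ψ⟩
  · obtain ⟨e⟩ : Nonempty (ZMod p × ZMod p ↪ Fin n) := Function.Embedding.nonempty_of_card_le (by
      rw [Fintype.card_prod, ZMod.card, Fintype.card_fin, ← pow_two]; exact hle)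
    let F : ↥(Cfsg.qd p) →* Equiv.Perm (Fin n) := (Equiv.Perm.viaEmbeddingHom e).comp toPerm
    have hF : Function.Injective F := (Equiv.Perm.viaEmbeddingHom_injective e).comp toPerm_injective
    have heven : ∀ q, F q ∈ alternatingGroup (Fin n) := fun q =>
      Equiv.Perm.mem_alternatingGroup.2 (sign_trivial hp (Equiv.Perm.sign.comp F) q)
    refine ⟨(F.codRestrict _ heven).range, ⟨(MonoidHom.ofInjective (f := F.codRestrict _ heven) ?_).symm⟩⟩
    exact fun x y h => hF (congrArg Subtype.val h)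


end Cfsg.Agent.S3835
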