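import Cfsg.Statements.S3838
import Cfsg.Agent.Lib.Solv.TransferApps
import Cfsg.Agent.Lib.Solv.NormalPComplement
import Cfsg.Agent.Lib.Struct.CoprimeMinimal

set_option autoImplicit false
open Cfsg
open Subgroup Cfsg.Agent.Solv
open scoped commutatorElement

namespace Cfsg.Agent.S3838

/-- Let G be a finite group with Sylow p-subgroup P such that N_G(P) has a normal p-complement. Then N_G(Q) has a normal p-complement for every subgroup Q with [P, P] ≤ Q ≤ Φ(P). -/
theorem result {G : Type*} [Group G] [Finite G] {p : ℕ} [Fact p.Prime] (P : Sylow p G) (hN : Cfsg.HasNormalPComplement p ↥(Subgroup.normalizer ((P : Subgroup G) : Set G))) (Q : Subgroup G) (h1 : (commutator ↥(P : Subgroup G)).map (P : Subgroup G).subtype ≤ Q) (h2 : Q ≤ (frattini ↥(P : Subgroup G)).map (P : Subgroup G).subtype) : Cfsg.HasNormalPComplement p ↥(Subgroup.normalizer (Q : Set G)) := by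
  classical
  have hp : p.Prime := Fact.out
  have hQP : Q ≤ (P : Subgroup G) := h2.trans (map_subtype_le _)
  have hPQ : (P : Subgroup G) ≤ normalizer (Q : Set G) := by
    refine le_normalizer_of_conj_mem fun a ha x hx => ?_
    have h3 : ⁅a, x⁆ ∈ Q := h1 ⟨⁅⟨a, ha⟩, ⟨x, hQP hx⟩⁆,
      Subgroup.commutator_mem_commutator (mem_top _) (mem_top _), rfl⟩
    have h4 := mul_mem h3 hx
    rwa [commutatorElement_def, inv_mul_cancel_right] at h4
  set H := normalizer (Q : Set G) with hH
  set QH := Q.subgroupOf H with hQH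
  haveI : QH.Normal := normal_subgroupOf_of_le_normalizer le_rfl
  let PH : Sylow p H := P.subtype hPQ
  have hPH : (PH : Subgroup H) = (P : Subgroup G).subgroupOf H := Sylow.coe_subtype P hPQ
  have hQPH : QH ≤ (PH : Subgroup H) := by rw [hPH]; exact comap_mono hQP
  set f := QuotientGroup.mk' QH with hf
  have hcomm : ∀ a ∈ (PH : Subgroup H), ∀ b ∈ (PH : Subgroup H), ⁅a, b⁆ ∈ QH := by
    intro a ha b hb
    rw [hPH] at ha hb
    exact h1 ⟨⁅⟨(a : G), ha⟩, ⟨(b : G), hb⟩⁆, Subgroup.commutator_mem_commutator (mem_top _) (mem_top _), rfl⟩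
  -- the quotient has a normal `p`-complement
  have hq : Cfsg.HasNormalPComplement p (H ⧸ QH) := by
    refine hasNormalPComplement_of_burnside (PH.mapSurjective (QuotientGroup.mk'_surjective QH)) ?_
    rw [Sylow.coe_mapSurjective]
    intro z hz
    obtain ⟨h, rfl⟩ := QuotientGroup.mk'_surjective QH z
    have hhP : (h : G) ∈ normalizer ((P : Subgroup G) : Set G) := by
      refine mem_normalizer_iff.2 fun x => ⟨fun hx => ?_, fun hx => ?_⟩
      · have h5 := (mem_normalizer_iff.1 hz (f ⟨x, hPQ hx⟩)).1 (mem_map_of_mem f (by rw [hPH]; exact hx))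
        rw [← map_inv, ← map_mul, ← map_mul, ← mem_comap, comap_map_eq_self (by
          rw [QuotientGroup.ker_mk']; exact hQPH), hPH] at h5
        exact h5
      · have hxH : x ∈ H := by
          simpa [mul_assoc] using mul_mem (mul_mem (inv_mem h.2) (hPQ hx)) h.2
        have h5 : f h * f ⟨x, hxH⟩ * (f h)⁻¹ ∈ (PH : Subgroup H).map f := by
          rw [← map_inv, ← map_mul, ← map_mul]
          exact mem_map_of_mem f (by rw [hPH]; exact hx)
        have h6 := (mem_normalizer_iff.1 hz (f ⟨x, hxH⟩)).2 h5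
        rw [← mem_comap, comap_map_eq_self (by
          rw [QuotientGroup.ker_mk']; exact hQPH), hPH] at h6
        exact h6
    set N := normalizer ((P : Subgroup G) : Set G)
    let PN : Sylow p N := P.subtype le_normalizer
    have hPNn : (PN : Subgroup N).Normal := by
      rw [Sylow.coe_subtype]
      exact normal_subgroupOf_of_le_normalizer le_rfl
    have hsup := (isComplement'_pPrimeCore hN PN).sup_eq_top
    obtain ⟨u, hu, s, hs, hus⟩ :=
      mem_sup_of_normal_left.1 (hsup ▸ mem_top (⟨h, hhP⟩ : N) : _ ∈ Cfsg.pPrimeCore p N ⊔ (PN : Subgroup N))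
    refine mem_centralizer_iff.2 ?_
    rintro _ ⟨x, hx, rfl⟩
    show f x * f h = f h * f x
    rw [← commutatorElement_eq_one_iff_mul_comm, ← map_commutatorElement,
      hf, QuotientGroup.mk'_apply, QuotientGroup.eq_one_iff]
    rw [hPH] at hx
    have hxN : (x : G) ∈ N := le_normalizer hx
    have hsP : (s : G) ∈ (P : Subgroup G) := by rw [Sylow.coe_subtype] at hs; exact hs
    have hc := commute_of_normal_of_disjoint (Cfsg.pPrimeCore p N) (PN : Subgroup N) inferInstance
      hPNn (isComplement'_pPrimeCore hN PN).disjoint u ⟨x, hxN⟩ hu (by rw [Sylow.coe_subtype]; exact hx)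
    have hc' : (u : G) * x = x * u := congrArg Subtype.val hc.eq
    have hh : (h : G) = u * s := (congrArg Subtype.val hus).symm
    show (⁅(x : G), (h : G)⁆) ∈ Q
    rw [hh, commutatorElement_mul_right_eq_mul_conj,
      commutatorElement_eq_one_iff_mul_comm.2 hc'.symm, one_mul]
    have h7 : ⁅(x : G), (s : G)⁆ ∈ Q :=
      h1 ⟨⁅⟨(x : G), hx⟩, ⟨(s : G), hsP⟩⁆, Subgroup.commutator_mem_commutator (mem_top _) (mem_top _), rfl⟩
    have hc2 : ∀ w ∈ (P : Subgroup G), (u : G) * w * (u : G)⁻¹ = w := by
      intro w hw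
      have hcw := commute_of_normal_of_disjoint (Cfsg.pPrimeCore p N) (PN : Subgroup N) inferInstance
        hPNn (isComplement'_pPrimeCore hN PN).disjoint u ⟨w, le_normalizer hw⟩ hu
        (by rw [Sylow.coe_subtype]; exact hw)
      rw [show (u : G) * w = w * u from congrArg Subtype.val hcw.eq, mul_inv_cancel_right]
    simpa [hc2 _ (hQP h7)] using h7
  -- Tate
  obtain ⟨k, hk⟩ := hasNormalPComplement_iff_index.1 hq
  set L := (Cfsg.pPrimeCore p (H ⧸ QH)).comap f with hL
  haveI : L.Normal := Normal.comap inferInstance f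
  have hLP : L ⊓ (PH : Subgroup H) ≤ (frattini PH).map (PH : Subgroup H).subtype := by
    intro x hx
    obtain ⟨hxL, hxP⟩ := mem_inf.1 hx
    have hxQ : x ∈ QH := by
      rw [← QuotientGroup.eq_one_iff, ← orderOf_eq_one_iff]
      refine Nat.eq_one_of_dvd_coprimes ?_
        (Subgroup.orderOf_dvd_natCard (Cfsg.pPrimeCore p (H ⧸ QH)) (mem_comap.1 hxL)) ((orderOf_map_dvd f x).trans
          (Subgroup.orderOf_dvd_natCard _ hxP))
      obtain ⟨e, he⟩ := IsPGroup.iff_card.1 PH.isPGroup'
      rw [he]
      exact (card_pPrimeCore_coprime p (H ⧸ QH)).pow_right e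
    obtain ⟨y, hy, hyx⟩ := h2 hxQ
    let e : PH →* (P : Subgroup G) := (H.subtype.comp (PH : Subgroup H).subtype).codRestrict _
      (fun w => (SetLike.ext_iff.1 hPH (w : H)).1 w.2)
    let e' : (P : Subgroup G) →* PH := ((P : Subgroup G).subtype.codRestrict H (fun w => hPQ w.2)).codRestrict _
      (fun w => by rw [hPH]; exact w.2)
    have he' : Function.Surjective e' := fun w => ⟨e w, Subtype.ext (Subtype.ext rfl)⟩
    refine ⟨e' y, frattini_le_comap_frattini_of_surjective he' hy, Subtype.ext ?_⟩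
    exact hyx
  obtain ⟨k', hk'⟩ := hasNormalPComplement_iff_index.1 (hasNormalPComplement_of_le_frattini PH L hLP)
  refine hasNormalPComplement_of_normal ((Cfsg.pPrimeCore p L).map L.subtype) ?_ ⟨k' + k, ?_⟩
  · rw [card_map_of_injective (subtype_injective _)]
    exact card_pPrimeCore_coprime p L
  · rw [index_map_subtype, hk', hL, index_comap_of_surjective _ (QuotientGroup.mk'_surjective QH),
      hk, pow_add]

end Cfsg.Agent.S3838
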