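import Cfsg.Statements.S3857
import Cfsg.Agent.Lib.Struct.TwoFrobenius
import Cfsg.Agent.Lib.Solv.Basic

set_option autoImplicit false
set_option linter.style.haveILetI false
open Cfsg
open Subgroup

namespace Cfsg.Agent.S3857

open Cfsg.Agent.Struct.TwoFrobenius Cfsg.Agent.Struct.Frobenius

theorem main {G : Type*} [Group G] [Finite G] (hsol : Group.IsSolvable G) (σ : ℕ → Prop)
    (hb : ∃ b, ¬ σ b ∧ b.Prime ∧ b ∣ Nat.card G)
    (hno : ∀ a b, σ a → ¬ σ b → a.Prime → b.Prime → ¬ ∃ g : G, orderOf g = a * b)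
    (hF : ∀ q : ℕ, q.Prime → q ∣ Nat.card (Cfsg.fittingSubgroup G) → σ q) :
    (∃ C : Subgroup G, Cfsg.IsFrobeniusComplement C) ∨
    (∃ (H K : Subgroup G) (_ : H.Normal), K.Normal ∧ H < K ∧
      (∃ C : Subgroup ↥K, Cfsg.IsFrobeniusComplement C ∧ Cfsg.frobeniusKernel C = (H.subgroupOf K : Set ↥K)) ∧
      (∃ C : Subgroup (G ⧸ H), Cfsg.IsFrobeniusComplement C ∧ Cfsg.frobeniusKernel C = (K.map (QuotientGroup.mk' H) : Set (G ⧸ H)))) := by
  classical
  haveI := hsol
  have hno' : ∀ p q, p.Prime → q.Prime → ¬ (σ p ↔ σ q) → p ≠ q ∧ ¬ ∃ g : G, orderOf g = p * q := by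
    intro p q hp hq hpq
    refine ⟨fun h => hpq (h ▸ Iff.rfl), ?_⟩
    by_cases hσ : σ p
    · exact hno p q hσ (fun h => hpq ⟨fun _ => h, fun _ => hσ⟩) hp hq
    · rw [mul_comm]
      refine hno q p ?_ hσ hq hp
      by_contra h
      exact hpq ⟨fun h' => absurd h' hσ, fun h' => absurd h' h⟩
  obtain ⟨b, hbσ, hbp, hbd⟩ := hb
  set F := Cfsg.fittingSubgroup G with hFdef
  haveI hG : Nontrivial G := Finite.one_lt_card_iff_nontrivial.1
    (lt_of_lt_of_le hbp.one_lt (Nat.le_of_dvd Nat.card_pos hbd))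
  have fit_ne : ∀ (Q : Type _) [Group Q] [Finite Q] [Nontrivial Q], Group.IsSolvable Q →
      Cfsg.fittingSubgroup Q ≠ ⊥ := by
    intro Q _ _ _ hQ hbot
    haveI := hQ
    obtain ⟨N, hN, -, hNb, hmin⟩ :=
      Cfsg.Agent.Solv.exists_minimal_normal_le (N := (⊤ : Subgroup Q)) top_ne_bot
    haveI := Cfsg.Agent.Solv.minimal_normal_isMulCommutative N hNb hmin
    have hnN : Group.IsNilpotent N := by
      letI : CommGroup N := { (inferInstance : Group N) with mul_comm := mul_comm' }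
      infer_instance
    exact hNb (le_bot_iff.1 (hbot ▸ Cfsg.Agent.Solv.le_fittingSubgroup (N := N) inferInstance))
  have hFb : F ≠ ⊥ := fit_ne G hsol
  have hFnil := Cfsg.Agent.Solv.fittingSubgroup_isNilpotent G
  haveI hFn : F.Normal := Cfsg.Agent.Solv.fittingSubgroup_normal G
  have hFt : F ≠ ⊤ := fun h => hbσ (hF b hbp (by rw [h, card_top]; exact hbd))
  set Q := G ⧸ F
  set π := QuotientGroup.mk' F
  have hπ : Function.Surjective π := QuotientGroup.mk'_surjective F
  haveI hQs : Group.IsSolvable Q := inferInstance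
  haveI hQn : Nontrivial Q := QuotientGroup.nontrivial_iff.2 hFt
  have hnoQ : ∀ p q, p.Prime → q.Prime → ¬ (σ p ↔ σ q) → ¬ ∃ X : Q, orderOf X = p * q :=
    fun p q hp hq h hX => (hno' p q hp hq h).2 (exists_of_map π hπ hX)
  set Lb := Cfsg.fittingSubgroup Q with hLb
  have hLb1 : Lb ≠ ⊥ := fit_ne Q hQs
  haveI hLbn : Lb.Normal := Cfsg.Agent.Solv.fittingSubgroup_normal Q
  have hLnil : Group.IsNilpotent Lb := Cfsg.Agent.Solv.fittingSubgroup_isNilpotent Q
  have hside : ∀ p q, p.Prime → q.Prime → p ∣ Nat.card Lb → q ∣ Nat.card Lb → (σ p ↔ σ q) := by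
    intro p q hp hq hpL hqL
    by_contra hne
    haveI := Fact.mk hp
    haveI := Fact.mk hq
    obtain ⟨x, hx⟩ := exists_prime_orderOf_dvd_card' p hpL
    obtain ⟨y, hy⟩ := exists_prime_orderOf_dvd_card' q hqL
    have hpq : p ≠ q := fun h => hne (h ▸ Iff.rfl)
    have hc := Cfsg.Agent.Solv.commute_of_coprime_orderOf_of_isNilpotent hLnil (x := x) (g := y)
      (by rw [hx, hy]; exact (Nat.coprime_primes hp hq).2 hpq)
    exact hnoQ p q hp hq hne (exists_orderOf_mul hp hq hpq (x := (x : Q)) (y := (y : Q))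
      (by rw [Subgroup.orderOf_coe, hx]) (by rw [Subgroup.orderOf_coe, hy]) (congrArg Subtype.val hc.eq))
  set L := Lb.comap π with hL
  have hFL : F ≤ L := fun x hx => by
    show π x ∈ Lb
    rw [show π x = 1 from (QuotientGroup.eq_one_iff x).2 hx]
    exact one_mem Lb
  have hLcard : Nat.card L = Nat.card F * Nat.card Lb := Cfsg.Agent.Solv.card_comap_mk' F Lb
  have hσL : ∀ q, q.Prime → q ∣ Nat.card Lb → ¬ σ q := by
    intro r hr hrd hrσ
    haveI := Fact.mk hbp
    obtain ⟨y, hy⟩ := exists_prime_orderOf_dvd_card' b hbd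
    have hnil : Group.IsNilpotent L := by
      refine isNilpotent_of_fpf_element L (y := y) hbp (hy ▸ pow_orderOf_eq_one y) fun v hv hvy => ?_
      by_contra hv1
      obtain ⟨k, p, hp, hpo⟩ := exists_prime_pow hv1
      have hpd : p ∣ Nat.card L := hpo ▸ Subgroup.orderOf_dvd_natCard L (pow_mem hv k)
      have hpσ : σ p := by
        rw [hLcard] at hpd
        exact (hp.dvd_mul.1 hpd).elim (hF p hp) fun h => (hside r p hr hp hrd h).1 hrσ
      exact hno p b hpσ hbσ hp hbp (exists_orderOf_mul hp hbp (fun h => hbσ (h ▸ hpσ)) hpo hy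
        (show Commute (v ^ k) y from (show Commute v y from hvy).pow_left k).eq)
    have hle : L ≤ F := Cfsg.Agent.Solv.le_fittingSubgroup hnil
    refine hLb1 (eq_bot_iff.2 fun X hX => ?_)
    obtain ⟨x, rfl⟩ := hπ X
    rw [mem_bot]
    exact (QuotientGroup.eq_one_iff x).2 (hle hX)
  have hFidx : F.index = Nat.card Q := index_eq_card F
  by_cases hQσ : ∀ q, q.Prime → q ∣ Nat.card Q → ¬ σ q
  · obtain ⟨C, hC, -⟩ := exists_complement_of_no_pair F hFb hFt fun p q hp hq hpd hqd =>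
      hno' p q hp hq fun h => hQσ q hq (hFidx ▸ hqd) (h.1 (hF p hp hpd))
    exact Or.inl ⟨C, hC⟩
  have hlt : F < L := lt_of_le_of_ne hFL fun h => hLb1 (eq_bot_iff.2 fun X hX => by
    obtain ⟨x, rfl⟩ := hπ X
    rw [mem_bot]
    exact (QuotientGroup.eq_one_iff x).2 (h ▸ (hX : x ∈ L)))
  -- the Frobenius group `L`
  haveI : (F.subgroupOf L).Normal := inferInstance
  have hFsub : Nat.card (F.subgroupOf L) = Nat.card F := Nat.card_congr (subgroupOfEquivOfLe hFL).toEquiv
  have hidxL : (F.subgroupOf L).index = Nat.card Lb := by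
    have h := (F.subgroupOf L).card_mul_index
    rw [hFsub, hLcard] at h
    exact Nat.eq_of_mul_eq_mul_left Nat.card_pos h
  obtain ⟨C, hC, hCker⟩ := exists_complement_of_no_pair (F.subgroupOf L)
    (fun h => hFb ((card_eq_one).1 (by rw [← hFsub, h, card_bot])))
    (fun h => hlt.not_ge (subgroupOf_eq_top.1 h))
    (fun p q hp hq hpd hqd => by
      have h := hno' p q hp hq fun h => hσL q hq (hidxL ▸ hqd) (h.1 (hF p hp (hFsub ▸ hpd)))
      refine ⟨h.1, fun ⟨g, hg⟩ => h.2 ⟨(g : G), ?_⟩⟩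
      rw [Subgroup.orderOf_coe, hg])
  -- `Lb` is cyclic of odd order
  obtain ⟨N, hNk, hNn, hNC⟩ := exists_kernel hC
  have hfpf : ∀ c ∈ C, c ≠ 1 → F.subgroupOf L ⊓ centralizer {c} = ⊥ := by
    intro c hc hc1
    rw [eq_bot_iff_forall]
    rintro v ⟨hv, hvc⟩
    have hvN : v ∈ N := by rw [← SetLike.mem_coe, hNk, hCker]; exact hv
    exact fpf_of_complement hC hNC.disjoint hc hc1 hvN (mem_centralizer_singleton_iff.1 hvc)
  have hFsubb : F.subgroupOf L ≠ ⊥ := fun h => hFb ((card_eq_one).1 (by rw [← hFsub, h, card_bot]))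
  have hCn : C ≤ normalizer (F.subgroupOf L : Set L) := by rw [normalizer_eq_top]; exact le_top
  have hCc : Nat.card C = Nat.card Lb := by
    rw [← hidxL]
    have h := hNC.card_mul_card
    have hN' : N = F.subgroupOf L := SetLike.coe_injective (hNk.trans hCker)
    rw [hN', ← (F.subgroupOf L).card_mul_index] at h
    exact Nat.eq_of_mul_eq_mul_left Nat.card_pos h
  have hcop : (Nat.card C).Coprime (Nat.card (F.subgroupOf L)) := by
    by_contra hc
    obtain ⟨r, hr, hr1, hr2⟩ := Nat.Prime.not_coprime_iff_dvd.1 hc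
    exact hσL r hr (hCc ▸ hr1) (hF r hr (hFsub ▸ hr2))
  let f : C →* Lb :=
    { toFun := fun c => ⟨π ((c : L) : G), (c : L).2⟩
      map_one' := Subtype.ext (map_one π)
      map_mul' := fun c d => Subtype.ext (map_mul π _ _) }
  have hfi : Function.Injective f := (injective_iff_map_eq_one f).2 fun c hc => by
    have h1 : ((c : L) : G) ∈ F := (QuotientGroup.eq_one_iff _).1 (congrArg Subtype.val hc)
    have hN' : (c : L) ∈ N := by rw [← SetLike.mem_coe, hNk, hCker]; exact h1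
    exact Subtype.ext (Subgroup.disjoint_def.1 hNC.disjoint hN' c.2)
  let e : C ≃* Lb := MulEquiv.ofBijective f ((Nat.bijective_iff_injective_and_card f).2 ⟨hfi, hCc⟩)
  have hu : ∀ p : ℕ, p.Prime → ∀ x y : Lb, orderOf x = p → y ^ p = 1 → y ∈ zpowers x := by
    refine fun p hp x y hx hy => unique_of_nilpotent hLnil (fun p hp a c ha hc hac => ?_) hp hx hy
    have h := commute_unique hFsubb hCn hcop hfpf hp (a := e.symm a) (b := e.symm c)
      (by rw [e.symm.orderOf_eq, ha]) (by rw [← map_pow, hc, map_one])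
      (by simp only [Commute, SemiconjBy, ← map_mul, hac.eq])
    obtain ⟨i, hi⟩ := h
    exact ⟨i, e.symm.injective (by rw [map_zpow]; exact hi)⟩
  obtain ⟨a, haσ, hap, had⟩ : ∃ a, σ a ∧ a.Prime ∧ a ∣ Nat.card Q := by
    by_contra hcon
    exact hQσ fun q hq hqd hqσ => hcon ⟨q, hqσ, hq, hqd⟩
  haveI := Fact.mk hap
  obtain ⟨x, hx⟩ := exists_prime_orderOf_dvd_card' a had
  have hodd : ¬ 2 ∣ Nat.card Lb := by
    intro h2
    haveI := Fact.mk Nat.prime_two
    obtain ⟨z, hz⟩ := exists_prime_orderOf_dvd_card' 2 h2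
    have hcomm : x * (z : Q) = (z : Q) * x := by
      have hw : x * (z : Q) * x⁻¹ ∈ Lb := hLbn.conj_mem _ z.2 x
      have hwo : orderOf (⟨_, hw⟩ : Lb) = 2 := by
        rw [← Subgroup.orderOf_coe]
        show orderOf (x * (z : Q) * x⁻¹) = 2
        rw [show orderOf (x * (z : Q) * x⁻¹) = orderOf (z : Q) from (MulAut.conj x).orderOf_eq _,
          Subgroup.orderOf_coe, hz]
      have h1 := hu 2 Nat.prime_two z ⟨_, hw⟩ hz (hwo ▸ pow_orderOf_eq_one _)
      obtain ⟨i, hi⟩ := h1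
      rcases Int.even_or_odd i with ⟨m, hm⟩ | ⟨m, hm⟩
      · exfalso
        have h2z : z ^ (2 : ℤ) = 1 := by
          rw [show (2 : ℤ) = ((2 : ℕ) : ℤ) from rfl, zpow_natCast, ← hz, pow_orderOf_eq_one]
        change z ^ i = _ at hi
        rw [hm, ← two_mul, zpow_mul, h2z, one_zpow] at hi
        rw [← hi, orderOf_one] at hwo
        exact absurd hwo (by norm_num)
      · have h2z : z ^ (2 : ℤ) = 1 := by
          rw [show (2 : ℤ) = ((2 : ℕ) : ℤ) from rfl, zpow_natCast, ← hz, pow_orderOf_eq_one]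
        change z ^ i = _ at hi
        rw [hm, zpow_add, zpow_mul, h2z, one_zpow, one_mul, zpow_one] at hi
        exact mul_inv_eq_iff_eq_mul.1 (congrArg Subtype.val hi).symm
    exact hnoQ a 2 hap Nat.prime_two (fun h => hσL 2 Nat.prime_two h2 (h.1 haσ))
      (exists_orderOf_mul hap Nat.prime_two (fun h => hσL 2 Nat.prime_two h2 (h ▸ haσ))
        hx (by rw [Subgroup.orderOf_coe, hz]) hcomm)
  haveI := isCyclic_of_unique hLnil hodd hu
  have hQL : ∀ q, q.Prime → q ∣ Lb.index → σ q := by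
    intro q hq hqd
    by_contra hqσ
    haveI := Fact.mk hq
    rw [index_eq_card] at hqd
    obtain ⟨Y, hY⟩ := exists_prime_orderOf_dvd_card' q hqd
    have hxL : x ∉ Lb := fun h => hσL a hap (hx ▸ Subgroup.orderOf_dvd_natCard Lb h) haσ
    have hX : orderOf (x : Q ⧸ Lb) = a := by
      rcases (Nat.dvd_prime hap).1 (hx ▸ orderOf_map_dvd (QuotientGroup.mk' Lb) x) with h | h
      · exact absurd ((QuotientGroup.eq_one_iff x).1 (orderOf_eq_one_iff.1 h)) hxL
      · exact h
    obtain ⟨y, rfl⟩ := QuotientGroup.mk_surjective Y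
    have hcm : (x : Q ⧸ Lb) * y = y * x := by
      have h1 : x * y * x⁻¹ * y⁻¹ ∈ Lb :=
        Cfsg.Agent.Solv.centralizer_fittingSubgroup_le (commutator_le_centralizer_of_cyclic Lb x y)
      rw [← QuotientGroup.eq_one_iff] at h1
      simp only [QuotientGroup.mk_mul, QuotientGroup.mk_inv] at h1
      exact mul_inv_eq_iff_eq_mul.1 (mul_inv_eq_one.1 h1)
    exact hnoQ a q hap hq (fun h => hqσ (h.1 haσ))
      (exists_of_map (QuotientGroup.mk' Lb) (QuotientGroup.mk'_surjective _)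
        (exists_orderOf_mul hap hq (fun h => hqσ (h ▸ haσ)) hX hY hcm))
  obtain ⟨C', hC', hC'ker⟩ := exists_complement_of_no_pair Lb hLb1
    (fun h => hσL a hap (by rw [h, card_top]; exact had) haσ)
    (fun p q hp hq hpd hqd => ⟨fun h => hσL p hp hpd (h ▸ hQL q hq hqd),
      hnoQ p q hp hq fun h => hσL p hp hpd (h.2 (hQL q hq hqd))⟩)
  refine Or.inr ⟨F, L, hFn, inferInstance, hlt, ⟨C, hC, hCker⟩, ⟨C', hC', ?_⟩⟩
  rw [hC'ker, map_comap_eq_self_of_surjective hπ]


/-- A finite solvable group whose prime graph (prime divisors of the order, two distinct primes joined when there is an element of order their product) is disconnected is a Frobenius group or a 2-Frobenius group (it has normal subgroups H < K with K a Frobenius group with kernel H and G/H a Frobenius group with kernel K/H). -/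
theorem result {G : Type*} [Group G] [Finite G] (hsol : Group.IsSolvable G)
    (hdisc : (∃ A : Set ℕ, (∃ a ∈ A, a.Prime ∧ a ∣ Nat.card G) ∧ (∃ b ∉ A, b.Prime ∧ b ∣ Nat.card G) ∧
      ∀ a ∈ A, ∀ b ∉ A, a.Prime → b.Prime → a ∣ Nat.card G → b ∣ Nat.card G → ¬ ∃ g : G, orderOf g = a * b)) :
    (∃ C : Subgroup G, Cfsg.IsFrobeniusComplement C) ∨
    (∃ (H K : Subgroup G) (_ : H.Normal), K.Normal ∧ H < K ∧
      (∃ C : Subgroup ↥K, Cfsg.IsFrobeniusComplement C ∧ Cfsg.frobeniusKernel C = (H.subgroupOf K : Set ↥K)) ∧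
      (∃ C : Subgroup (G ⧸ H), Cfsg.IsFrobeniusComplement C ∧ Cfsg.frobeniusKernel C = (K.map (QuotientGroup.mk' H) : Set (G ⧸ H)))) := by
  classical
  obtain ⟨A, ⟨a, haA, hap, had⟩, ⟨b, hbA, hbp, hbd⟩, hno⟩ := hdisc
  have hnil := Cfsg.Agent.Solv.fittingSubgroup_isNilpotent G
  have hside : ∀ p q, p.Prime → q.Prime → p ∣ Nat.card (Cfsg.fittingSubgroup G) →
      q ∣ Nat.card (Cfsg.fittingSubgroup G) → p ∈ A → q ∈ A := by
    intro p q hp hq hpd hqd hpA
    by_contra hqA
    haveI := Fact.mk hp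
    haveI := Fact.mk hq
    obtain ⟨x, hx⟩ := exists_prime_orderOf_dvd_card' p hpd
    obtain ⟨y, hy⟩ := exists_prime_orderOf_dvd_card' q hqd
    have hpq : p ≠ q := fun h => hqA (h ▸ hpA)
    have hc := Cfsg.Agent.Solv.commute_of_coprime_orderOf_of_isNilpotent hnil (x := x) (g := y)
      (by rw [hx, hy]; exact (Nat.coprime_primes hp hq).2 hpq)
    exact hno p hpA q hqA hp hq (hpd.trans (card_subgroup_dvd_card _)) (hqd.trans (card_subgroup_dvd_card _))
      (Cfsg.Agent.Struct.TwoFrobenius.exists_orderOf_mul hp hq hpq (x := (x : G)) (y := (y : G))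
        (by rw [Subgroup.orderOf_coe, hx]) (by rw [Subgroup.orderOf_coe, hy]) (congrArg Subtype.val hc.eq))
  have hdiv : ∀ (g : G) (p : ℕ), p ∣ orderOf g → p ∣ Nat.card G :=
    fun g p h => h.trans (_root_.orderOf_dvd_natCard g)
  by_cases hcase : ∀ q : ℕ, q.Prime → q ∣ Nat.card (Cfsg.fittingSubgroup G) → q ∈ A
  · refine main hsol (· ∈ A) ⟨b, hbA, hbp, hbd⟩ ?_ hcase
    rintro p q hpA hqA hp hq ⟨g, hg⟩
    exact hno p hpA q hqA hp hq (hdiv g p (hg ▸ dvd_mul_right p q)) (hdiv g q (hg ▸ dvd_mul_left q p)) ⟨g, hg⟩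
  · simp only [not_forall] at hcase
    obtain ⟨r, hr, hrd, hrA⟩ := hcase
    refine main hsol (fun q => q ∉ A) ⟨a, not_not.2 haA, hap, had⟩ ?_
      (fun q hq hqd hqA => hrA (hside q r hq hr hqd hrd hqA))
    rintro p q hpA hqA hp hq ⟨g, hg⟩
    exact hno q (not_not.1 hqA) p hpA hq hp (hdiv g q (hg ▸ dvd_mul_left q p)) (hdiv g p (hg ▸ dvd_mul_right p q))
      ⟨g, hg.trans (mul_comm p q)⟩

end Cfsg.Agent.S3857
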