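import Cfsg.Statements.S3858
import Mathlib

set_option autoImplicit false
open Cfsg

namespace Cfsg.Agent.S3858

/-- Let G be a finite group with a normal non-abelian simple subgroup T whose centralizer is trivial (G almost simple with socle T), r a prime and R a Sylow r-subgroup of G meeting T nontrivially. Then R lies in exactly one maximal subgroup of G if and only if G has exactly one conjugacy class of maximal subgroups whose index is prime to r. -/
theorem result {G : Type*} [Group G] [Finite G] (T : Subgroup G) [T.Normal] (hT : IsSimpleGroup T) (hna : ¬ IsMulCommutative T)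
    (hC : Subgroup.centralizer (T : Set G) = ⊥) {r : ℕ} [Fact r.Prime] (R : Sylow r G) (hR0 : (R : Subgroup G) ⊓ T ≠ ⊥) :
    (∃! M : Subgroup G, IsCoatom M ∧ (R : Subgroup G) ≤ M) ↔
      ((∃ M : Subgroup G, IsCoatom M ∧ ¬ r ∣ M.index) ∧
        ∀ M₁ M₂ : Subgroup G, IsCoatom M₁ → ¬ r ∣ M₁.index → IsCoatom M₂ → ¬ r ∣ M₂.index → ∃ g : G, M₂ = M₁.map (MulAut.conj g).toMonoidHom) := by
  have hnn : ¬ (R : Subgroup G).Normal := by
    intro hn
    haveI := hn
    haveI := hT
    rcases ((inferInstance : ((R : Subgroup G).subgroupOf T).Normal)).eq_bot_or_eq_top with h | h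
    · exact hR0 (by rw [Subgroup.subgroupOf_eq_bot, disjoint_iff] at h; exact h)
    · apply hna
      have hTR : T ≤ (R : Subgroup G) := Subgroup.subgroupOf_eq_top.mp h
      have hP : IsPGroup r ↥T := R.isPGroup'.to_le hTR
      haveI : Nontrivial ↥T := hT.toNontrivial
      haveI := hP.center_nontrivial
      rcases (inferInstance : (Subgroup.center ↥T).Normal).eq_bot_or_eq_top with h2 | h2
      · exact absurd h2 ((Subgroup.nontrivial_iff_ne_bot _).mp inferInstance)
      · exact ⟨⟨fun a b => (Subgroup.mem_center_iff.mp (h2 ▸ Subgroup.mem_top a : a ∈ Subgroup.center ↥T) b).symm⟩⟩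
  have hN : Subgroup.normalizer ((R : Subgroup G) : Set G) ≠ ⊤ := fun h => hnn (Subgroup.normalizer_eq_top_iff.mp h)
  obtain ⟨M₀, hM₀, hNM⟩ := (eq_top_or_exists_le_coatom (Subgroup.normalizer ((R : Subgroup G) : Set G))).resolve_left hN
  have hRM : (R : Subgroup G) ≤ M₀ := Subgroup.le_normalizer.trans hNM
  have hdvd : ∀ M : Subgroup G, (R : Subgroup G) ≤ M → ¬ r ∣ M.index := by
    intro M h hd
    exact R.not_dvd_index (hd.trans (Subgroup.index_dvd_of_le h))
  have hconjR : ∀ M : Subgroup G, ¬ r ∣ M.index → ∃ g : G, (R : Subgroup G) ≤ M.map (MulAut.conj g).toMonoidHom := by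
    intro M hM
    obtain ⟨Q⟩ : Nonempty (Sylow r ↥M) := inferInstance
    obtain ⟨P, hP⟩ := (Q.isPGroup'.map M.subtype).exists_le_sylow
    have hcard : Nat.card ↥(P : Subgroup G) ≤ Nat.card ↥((Q : Subgroup ↥M).map M.subtype) := by
      rw [Subgroup.card_map_of_injective M.subtype_injective, Q.card_eq_multiplicity, P.card_eq_multiplicity,
        ← M.card_mul_index, Nat.factorization_mul Nat.card_pos.ne' Subgroup.index_ne_zero_of_finite,
        Finsupp.add_apply, Nat.factorization_eq_zero_of_not_dvd hM, add_zero]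
    have hPM : (P : Subgroup G) ≤ M := by
      rw [← Subgroup.eq_of_le_of_card_ge hP hcard]; exact Subgroup.map_subtype_le _
    obtain ⟨g, hg⟩ := MulAction.exists_smul_eq G P R
    refine ⟨g, ?_⟩
    rw [← hg, Sylow.coe_subgroup_smul]
    rintro _ ⟨x, hx, rfl⟩
    exact ⟨x, hPM hx, rfl⟩
  have hco : ∀ (g : G) (M : Subgroup G), IsCoatom M → IsCoatom (M.map (MulAut.conj g).toMonoidHom) := by
    intro g M hM
    exact (OrderIso.isCoatom_iff (MulAut.conj g).mapSubgroup M).mpr hM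
  constructor
  · intro hex
    have huniq : ∀ M : Subgroup G, IsCoatom M → ¬ r ∣ M.index → ∃ g : G, M₀ = M.map (MulAut.conj g).toMonoidHom := by
      intro M hM hd
      obtain ⟨g, hg⟩ := hconjR M hd
      exact ⟨g, hex.unique ⟨hM₀, hRM⟩ ⟨hco g M hM, hg⟩⟩
    refine ⟨⟨M₀, hM₀, hdvd _ hRM⟩, fun M₁ M₂ h1 h1' h2 h2' => ?_⟩
    obtain ⟨a, ha⟩ := huniq M₁ h1 h1'
    obtain ⟨b, hb⟩ := huniq M₂ h2 h2'
    refine ⟨b⁻¹ * a, ?_⟩
    rw [show (MulAut.conj (b⁻¹ * a)).toMonoidHom = (MulAut.conj b⁻¹).toMonoidHom.comp (MulAut.conj a).toMonoidHom from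
      MonoidHom.ext fun x => by simp [mul_assoc], ← Subgroup.map_map, ← ha, hb, Subgroup.map_map]
    ext x; simp [mul_assoc]
  · rintro ⟨-, hone⟩
    refine ⟨M₀, ⟨hM₀, hRM⟩, fun M hM => ?_⟩
    obtain ⟨g, hg⟩ := hone M₀ M hM₀ (hdvd _ hRM) hM.1 (hdvd _ hM.2)
    -- `R` and `g⁻¹ R g` are Sylow subgroups of `M₀`
    have hgR : ((g⁻¹ • R : Sylow r G) : Subgroup G) ≤ M₀ := by
      rw [Sylow.coe_subgroup_smul]
      rintro _ ⟨x, hx, rfl⟩
      obtain ⟨y, hy, hyx⟩ := (hg ▸ hM.2) hx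
      have : g⁻¹ * x * g = y := by rw [← hyx]; simp [mul_assoc]
      simpa [this] using hy
    obtain ⟨m, hm⟩ := MulAction.exists_smul_eq ↥M₀ ((g⁻¹ • R).subtype hgR) (R.subtype hRM)
    have hmg : (m : G) * g⁻¹ ∈ M₀ := by
      apply hNM
      have hmap : (R : Subgroup G).map (MulAut.conj ((m : G) * g⁻¹)).toMonoidHom = (R : Subgroup G) := by
        refine Subgroup.eq_of_le_of_card_ge ?_ (Subgroup.card_map_of_injective (MulAut.conj _).injective).ge
        rintro _ ⟨x, hx, rfl⟩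
        have hx' : g⁻¹ * x * g ∈ M₀ := hgR (by
          rw [Sylow.coe_subgroup_smul]; exact ⟨x, hx, by simp⟩)
        have hmem : m * ⟨g⁻¹ * x * g, hx'⟩ * m⁻¹ ∈ (R.subtype hRM : Subgroup ↥M₀) := by
          rw [← hm, Sylow.coe_subgroup_smul]
          refine ⟨⟨g⁻¹ * x * g, hx'⟩, ?_, rfl⟩
          change g⁻¹ * x * g ∈ ((g⁻¹ • R : Sylow r G) : Subgroup G)
          rw [Sylow.coe_subgroup_smul]; exact ⟨x, hx, by simp⟩
        have h2 : (m : G) * (g⁻¹ * x * g) * (m : G)⁻¹ ∈ (R : Subgroup G) := hmem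
        simpa [mul_assoc] using h2
      rw [Subgroup.mem_normalizer_iff]
      intro x
      constructor
      · intro hx; rw [← hmap]; exact ⟨x, hx, rfl⟩
      · intro hx
        rw [← hmap] at hx
        obtain ⟨z, hz, hzx⟩ := hx
        rwa [(MulAut.conj ((m : G) * g⁻¹)).injective hzx] at hz
    have hgM : g ∈ M₀ := by
      have := M₀.mul_mem (M₀.inv_mem m.2) hmg
      rw [inv_mul_cancel_left] at this
      simpa using M₀.inv_mem this
    rw [hg]
    ext x
    constructor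
    · rintro ⟨y, hy, rfl⟩; exact M₀.mul_mem (M₀.mul_mem hgM hy) (M₀.inv_mem hgM)
    · intro hx; exact ⟨g⁻¹ * x * g, M₀.mul_mem (M₀.mul_mem (M₀.inv_mem hgM) hx) hgM, by simp [mul_assoc]⟩

end Cfsg.Agent.S3858
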