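import Cfsg.Statements.S3859
import Cfsg.Agent.Lib.Solv.ZJ

set_option autoImplicit false
open Cfsg

namespace Cfsg.Agent.S3859

/-- Let G be a finite group with a normal non-abelian simple subgroup T whose centralizer is trivial (G almost simple with socle T), r a prime and R a Sylow r-subgroup of G meeting T nontrivially. If R lies in exactly one maximal subgroup of G, then G/T is an r-group. -/
theorem result {G : Type*} [Group G] [Finite G] (T : Subgroup G) [T.Normal] (hT : IsSimpleGroup T) (hna : ¬ IsMulCommutative T)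
    (hC : Subgroup.centralizer (T : Set G) = ⊥) {r : ℕ} [Fact r.Prime] (R : Sylow r G) (hR0 : (R : Subgroup G) ⊓ T ≠ ⊥)
    (huniq : ∃! M : Subgroup G, IsCoatom M ∧ (R : Subgroup G) ≤ M) : IsPGroup r (G ⧸ T) := by
  classical
  have hr : r.Prime := Fact.out
  obtain ⟨M, ⟨hMco, hRM⟩, hMu⟩ := huniq
  have hmax : ∀ H : Subgroup G, H ≠ ⊤ → (R : Subgroup G) ≤ H → H ≤ M := by
    intro H hH hRH
    obtain ⟨M', hM', hle⟩ := (eq_top_or_exists_le_coatom H).resolve_left hH
    rw [← hMu M' ⟨hM', hRH.trans hle⟩]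
    exact hle
  obtain ⟨PL, hPL⟩ := Cfsg.Agent.Solv.ZJ.exists_sylow_inf R T
  have hfr : Subgroup.normalizer (((R : Subgroup G) ⊓ T : Subgroup G) : Set G) ⊔ T = ⊤ := by
    rw [← hPL]; exact Sylow.normalizer_sup_eq_top PL
  have hRN : (R : Subgroup G) ≤
      Subgroup.normalizer (((R : Subgroup G) ⊓ T : Subgroup G) : Set G) := by
    intro g hg
    rw [Subgroup.mem_normalizer_iff]
    intro h
    simp only [Subgroup.mem_inf]
    constructor
    · rintro ⟨h1, h2⟩
      exact ⟨(R : Subgroup G).mul_mem ((R : Subgroup G).mul_mem hg h1)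
        ((R : Subgroup G).inv_mem hg), Subgroup.Normal.conj_mem inferInstance _ h2 g⟩
    · rintro ⟨h1, h2⟩
      have e : h = g⁻¹ * (g * h * g⁻¹) * g := by group
      refine ⟨?_, ?_⟩
      · rw [e]
        exact (R : Subgroup G).mul_mem ((R : Subgroup G).mul_mem
          ((R : Subgroup G).inv_mem hg) h1) hg
      · rw [e]
        simpa using Subgroup.Normal.conj_mem (inferInstance : T.Normal) _ h2 g⁻¹
  have hN : Subgroup.normalizer (((R : Subgroup G) ⊓ T : Subgroup G) : Set G) ≠ ⊤ := by
    intro h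
    have hn : ((R : Subgroup G) ⊓ T).Normal := Subgroup.normalizer_eq_top_iff.mp h
    rcases hT.eq_bot_or_eq_top_of_normal (((R : Subgroup G) ⊓ T).subgroupOf T)
      (hn.subgroupOf T) with h1 | h1
    · rw [Subgroup.subgroupOf_eq_bot, disjoint_iff, inf_assoc, inf_idem] at h1
      exact hR0 h1
    · rw [Subgroup.subgroupOf_eq_top] at h1
      have hp : IsPGroup r T := R.isPGroup'.to_le (h1.trans inf_le_left)
      have := hp.isNilpotent
      exact hna ⟨⟨IsSimpleGroup.comm_iff_isSolvable.mpr inferInstance⟩⟩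
  have hRT : (R : Subgroup G) ⊔ T = ⊤ := by
    by_contra hne
    refine hMco.1 (top_le_iff.mp (hfr ▸ sup_le ?_ ?_))
    · exact hmax _ hN hRN
    · exact le_sup_right.trans (hmax _ hne le_sup_left)
  have hmap : (R : Subgroup G).map (QuotientGroup.mk' T) = ⊤ := by
    have h1 : ((R : Subgroup G) ⊔ T).map (QuotientGroup.mk' T) = ⊤ := by
      rw [hRT]; exact Subgroup.map_top_of_surjective _ (QuotientGroup.mk'_surjective T)
    rwa [Subgroup.map_sup, QuotientGroup.map_mk'_self, sup_bot_eq] at h1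
  have h2 := R.isPGroup'.map (QuotientGroup.mk' T)
  rw [hmap] at h2
  exact h2.of_equiv Subgroup.topEquiv

end Cfsg.Agent.S3859
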