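import Cfsg.Statements.S3862
import Cfsg.Agent.Lib.Solv.NormalPComplement

set_option autoImplicit false
open Cfsg

namespace Cfsg.Agent.S3862

/-- If every 2-element of the finite group G that is conjugate to its inverse lies in the centre of G, then G has a normal 2-complement. -/
theorem result {G : Type*} [Group G] [Finite G] (h : ∀ x : G, (∃ j : ℕ, orderOf x = 2 ^ j) → IsConj x x⁻¹ → x ∈ Subgroup.center G) : Cfsg.HasNormalPComplement 2 G := by
  classical
  haveI : Fact (Nat.Prime 2) := ⟨Nat.prime_two⟩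
  refine Cfsg.Agent.Solv.FrobeniusCond.hasNormalPComplement fun Q₀ hQ₀ g hg₀ hodd => ?_
  suffices key : ∀ n, ∀ Q : Subgroup G, Nat.card Q = n → IsPGroup 2 Q → (∀ w ∈ Q, g * w * g⁻¹ ∈ Q) →
      ∀ w ∈ Q, g * w = w * g by
    exact fun w hw => (key _ Q₀ rfl hQ₀ (fun w hw => (Subgroup.mem_normalizer_iff.1 hg₀ w).1 hw) w hw).symm
  intro n
  induction n using Nat.strong_induction_on with
  | _ n ih =>
    rintro Q rfl hQ hgQ w hw
    rcases eq_or_ne Q ⊥ with hbot | hne
    · rw [hbot, Subgroup.mem_bot] at hw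
      rw [hw, mul_one, one_mul]
    obtain ⟨e, he⟩ := hQ.exists_card_eq
    have he0 : e ≠ 0 := fun h0 => hne (Subgroup.eq_bot_of_card_eq Q (by rw [he, h0, pow_zero]))
    obtain ⟨M, hM⟩ := Sylow.exists_subgroup_card_pow_prime (G := Q) 2 (n := e - 1)
      (by rw [he]; exact pow_dvd_pow 2 (Nat.sub_le e 1))
    have hidx : M.index = 2 := by
      have := M.card_mul_index
      rw [hM, he, show 2 ^ e = 2 ^ (e - 1) * 2 by rw [← pow_succ]; congr 1; omega] at this
      exact Nat.eq_of_mul_eq_mul_left (pow_pos two_pos _) this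
    let S : Subgroup G := Subgroup.closure {x | ∃ q ∈ Q, x = q ^ 2}
    have hSM : S ≤ M.map Q.subtype := by
      rw [Subgroup.closure_le]
      rintro _ ⟨q, hq, rfl⟩
      exact ⟨(⟨q, hq⟩ : Q) ^ 2, Subgroup.sq_mem_of_index_two hidx _, rfl⟩
    have hSQ : S ≤ Q := hSM.trans (Subgroup.map_subtype_le M)
    have hSlt : Nat.card S < Nat.card Q := by
      refine lt_of_le_of_lt (Subgroup.card_le_of_le hSM) ?_
      rw [← Nat.card_congr (Subgroup.equivMapOfInjective M Q.subtype Q.subtype_injective).toEquiv,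
        ← M.card_mul_index, hidx]
      have := Nat.card_pos (α := M)
      omega
    have hgS : ∀ x ∈ S, g * x * g⁻¹ ∈ S := by
      intro x hx
      have h1 : S.map (MulAut.conj g).toMonoidHom ≤ S := by
        rw [MonoidHom.map_closure, Subgroup.closure_le]
        rintro _ ⟨_, ⟨q, hq, rfl⟩, rfl⟩
        refine Subgroup.subset_closure ⟨g * q * g⁻¹, hgQ q hq, ?_⟩
        rw [conj_pow]
        rfl
      exact h1 ⟨x, hx, rfl⟩
    have hsq := ih _ hSlt S rfl (hQ.to_le hSQ) hgS (w ^ 2) (Subgroup.subset_closure ⟨w, hw, rfl⟩)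
    obtain ⟨z, hz⟩ : ∃ z, z = w⁻¹ * (g * w * g⁻¹) := ⟨_, rfl⟩
    have hzQ : z ∈ Q := hz ▸ mul_mem (inv_mem hw) (hgQ w hw)
    have hgw : g * w * g⁻¹ = w * z := by rw [hz, mul_inv_cancel_left]
    have hzw : z * w * z = w := by
      have h1 : w * z * (w * z) = w * w := by
        rw [← hgw, show g * w * g⁻¹ * (g * w * g⁻¹) = g * w ^ 2 * g⁻¹ by rw [pow_two]; group, hsq,
          mul_inv_cancel_right, pow_two]
      rw [mul_assoc] at h1
      have h2 := mul_left_cancel h1
      rw [← mul_assoc] at h2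
      exact h2
    have hreal : IsConj z z⁻¹ := isConj_iff.2 ⟨w⁻¹, by
      rw [inv_inv, eq_inv_iff_mul_eq_one, mul_assoc, mul_assoc, mul_eq_one_iff_inv_eq, inv_inv,
        ← mul_assoc]
      exact hzw.symm⟩
    obtain ⟨j, hj⟩ := IsPGroup.iff_orderOf.1 hQ ⟨z, hzQ⟩
    rw [Subgroup.orderOf_mk] at hj
    have hc := Subgroup.mem_center_iff.1 (h z ⟨j, hj⟩ hreal)
    have hz2 : z ^ 2 = 1 := by
      have h1 : w * (z * z) = w := by
        rw [← mul_assoc, hc w, hzw]
      rw [pow_two]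
      exact mul_eq_left.1 h1
    have hit : ∀ i : ℕ, g ^ i * w * (g ^ i)⁻¹ = w * z ^ i := by
      intro i
      induction i with
      | zero => simp
      | succ i ih2 =>
        have hgz : g * z ^ i * g⁻¹ = z ^ i := by
          rw [((show Commute g z from hc g).pow_right i).eq, mul_inv_cancel_right]
        rw [show g ^ (i + 1) * w * (g ^ (i + 1))⁻¹ = g * (g ^ i * w * (g ^ i)⁻¹) * g⁻¹ by rw [pow_succ']; group,
          ih2, show g * (w * z ^ i) * g⁻¹ = (g * w * g⁻¹) * (g * z ^ i * g⁻¹) by group, hgw, hgz,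
          mul_assoc, ← pow_succ']
    have hzn := hit (orderOf g)
    rw [pow_orderOf_eq_one, one_mul, inv_one, mul_one, left_eq_mul] at hzn
    have hz1 : z = 1 := by
      have := pow_gcd_eq_one.2 ⟨hzn, hz2⟩
      rwa [hodd, pow_one] at this
    rw [hz1, mul_one] at hgw
    exact mul_inv_eq_iff_eq_mul.1 hgw

end Cfsg.Agent.S3862
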