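import Cfsg.Statements.S3863
import Mathlib


set_option autoImplicit false
open Cfsg
open Subgroup

namespace Cfsg.Agent.S3863

/-- Let x be an element of the finite group G that is conjugate to its inverse. Then some 2-element conjugates x to its inverse; if the conjugacy class of x has odd size then x ^ 2 = 1; and x lies in, and is conjugate to its inverse inside, every normal subgroup of odd index. -/
theorem result {G : Type*} [Group G] [Finite G] (x : G) (hx : IsConj x x⁻¹) : (∃ t : G, (∃ j : ℕ, orderOf t = 2 ^ j) ∧ t * x * t⁻¹ = x⁻¹) ∧ (Odd (Subgroup.centralizer ({x} : Set G)).index → x ^ 2 = 1) ∧ ∀ (N : Subgroup G) [N.Normal], Odd N.index → ∃ hxN : x ∈ N, IsConj (⟨x, hxN⟩ : N) (⟨x, hxN⟩ : N)⁻¹ := by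
  classical
  obtain ⟨t, ht⟩ := isConj_iff.1 hx
  have hsq : (t ^ 2) * x * (t ^ 2)⁻¹ = x := by
    rw [show (t ^ 2) * x * (t ^ 2)⁻¹ = t * (t * x * t⁻¹) * t⁻¹ from (by rw [sq]; group), ht, ← conj_inv, ht, inv_inv]
  obtain ⟨a, m, hmo, hm⟩ := Nat.exists_eq_two_pow_mul_odd (orderOf_pos t).ne'
  obtain ⟨k, hk⟩ := hmo
  have htm : t ^ m * x * (t ^ m)⁻¹ = x⁻¹ := by
    have h2 : ∀ j : ℕ, (t ^ (2 * j)) * x * (t ^ (2 * j))⁻¹ = x := fun j => by
      induction j with
      | zero => simp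
      | succ j ih =>
        rw [show (t ^ (2 * (j + 1))) * x * (t ^ (2 * (j + 1)))⁻¹ = t ^ 2 * (t ^ (2 * j) * x * (t ^ (2 * j))⁻¹) * (t ^ 2)⁻¹ from (by
          rw [show 2 * (j + 1) = 2 + 2 * j by ring, pow_add]; group), ih, hsq]
    rw [show (t ^ m) * x * (t ^ m)⁻¹ = t * (t ^ (2 * k) * x * (t ^ (2 * k))⁻¹) * t⁻¹ from (by
      rw [hk, pow_succ']; group), h2, ht]
  have htord : orderOf (t ^ m) = 2 ^ a := by
    rw [orderOf_pow, hm, Nat.gcd_eq_right (dvd_mul_left _ _), Nat.mul_div_cancel _ (by omega)]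
  refine ⟨⟨t ^ m, ⟨a, htord⟩, htm⟩, fun hodd => ?_, fun N hN hNodd => ?_⟩
  · by_contra hne
    let E : Subgroup G :=
      { carrier := {g | g * x * g⁻¹ = x ∨ g * x * g⁻¹ = x⁻¹}
        one_mem' := Or.inl (by simp)
        mul_mem' := fun {g h} hg hh => by
          have e : g * h * x * (g * h)⁻¹ = g * (h * x * h⁻¹) * g⁻¹ := by group
          show g * h * x * (g * h)⁻¹ = x ∨ g * h * x * (g * h)⁻¹ = x⁻¹
          rcases hh with hh | hh <;> rw [e, hh]
          · exact hg
          · rw [← conj_inv]; rcases hg with hg | hg <;> rw [hg] <;> simp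
        inv_mem' := fun {g} hg => by
          show g⁻¹ * x * g⁻¹⁻¹ = x ∨ g⁻¹ * x * g⁻¹⁻¹ = x⁻¹
          rcases hg with hg | hg
          · left; nth_rw 1 [← hg]; group
          · right; nth_rw 1 [show x = g * x⁻¹ * g⁻¹ by rw [← conj_inv, hg, inv_inv]]; group }
    have hC : centralizer ({x} : Set G) ≤ E := fun g hg => Or.inl (by
      rw [mem_centralizer_singleton_iff] at hg; rw [hg, mul_inv_cancel_right])
    have hidx : ((centralizer ({x} : Set G)).subgroupOf E).index = 2 := by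
      rw [index_eq_two_iff]
      refine ⟨⟨t, Or.inr ht⟩, fun b => ?_⟩
      simp only [mem_subgroupOf, mem_centralizer_singleton_iff, coe_mul]
      have hne' : x ≠ x⁻¹ := fun h => hne (by rw [sq]; nth_rw 2 [h]; exact mul_inv_cancel x)
      have e : ∀ g : G, g * x = x * g ↔ g * x * g⁻¹ = x := fun g => mul_inv_eq_iff_eq_mul.symm
      rw [e, e, show (b : G) * t * x * ((b : G) * t)⁻¹ = b * (t * x * t⁻¹) * (b : G)⁻¹ from (by group), ht, ← conj_inv]
      rcases b.2 with hb | hb <;> rw [hb]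
      · exact Or.inr ⟨rfl, fun h => hne' h.symm⟩
      · exact Or.inl ⟨inv_inv x, fun h => hne' h.symm⟩
    have h2 : 2 ∣ (centralizer ({x} : Set G)).index := by
      rw [← relIndex_mul_index hC]
      exact Dvd.intro _ (by rw [show (centralizer ({x} : Set G)).relIndex E = 2 from hidx])
    exact (Nat.not_even_iff_odd.2 hodd) (even_iff_two_dvd.2 h2)
  · have hmem : ∀ g : G, (∃ j, orderOf g ∣ 2 ^ j) → g ∈ N := by
      rintro g ⟨j, hj⟩
      rw [← QuotientGroup.eq_one_iff, ← orderOf_eq_one_iff]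
      refine Nat.eq_one_of_dvd_coprimes ?_ ((orderOf_map_dvd (QuotientGroup.mk' N) g).trans hj)
        (_root_.orderOf_dvd_natCard (G := G ⧸ N) _)
      rw [← index_eq_card]
      exact Nat.Coprime.pow_left _ hNodd.coprime_two_left
    have htN : t ^ m ∈ N := hmem _ ⟨a, htord.dvd⟩
    have hxx : x ^ 2 ∈ N := by
      have h1 : (x : G ⧸ N) = (x : G ⧸ N)⁻¹ := by
        have := congrArg (QuotientGroup.mk' N) htm
        rw [map_mul, map_mul, map_inv, map_inv, show QuotientGroup.mk' N (t ^ m) = 1 from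
          (QuotientGroup.eq_one_iff _).2 htN, one_mul, inv_one, mul_one] at this
        exact this
      rw [← QuotientGroup.eq_one_iff, QuotientGroup.mk_pow, sq]
      nth_rw 2 [h1]; exact mul_inv_cancel _
    have hxN : x ∈ N := by
      rw [← QuotientGroup.eq_one_iff, ← orderOf_eq_one_iff]
      rw [← QuotientGroup.eq_one_iff, QuotientGroup.mk_pow] at hxx
      refine Nat.eq_one_of_dvd_coprimes ?_ (orderOf_dvd_of_pow_eq_one hxx) (_root_.orderOf_dvd_natCard (G := G ⧸ N) _)
      rw [← index_eq_card]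
      exact hNodd.coprime_two_left
    exact ⟨hxN, isConj_iff.2 ⟨⟨t ^ m, htN⟩, Subtype.ext htm⟩⟩

end Cfsg.Agent.S3863
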