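import Cfsg.Statements.S3864
import Cfsg.Agent.Lib.Fusion.DihedralClasses

set_option autoImplicit false
open Cfsg

namespace Cfsg.Agent.S3864

/-- Let G be a finite group whose Sylow 2-subgroups are dihedral of order 2 ^ n with n ≥ 3, and count the conjugacy classes of involutions of G. Then exactly one of the following holds: there is one class of involutions and no normal subgroup of index 2; there are two classes of involutions, a normal subgroup of index 2 and none of index 4; there are three classes of involutions and G has a normal 2-complement. -/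
theorem result {G : Type*} [Group G] [Finite G] (P : Sylow 2 G) (n : ℕ) (hn : 3 ≤ n) (hdih : Nonempty (↥(P : Subgroup G) ≃* DihedralGroup (2 ^ (n - 1)))) : (Nat.card {C : ConjClasses G // ∃ g : G, ConjClasses.mk g = C ∧ orderOf g = 2} = 1 ∧ ∀ N : Subgroup G, N.Normal → N.index ≠ 2) ∨ (Nat.card {C : ConjClasses G // ∃ g : G, ConjClasses.mk g = C ∧ orderOf g = 2} = 2 ∧ (∃ N : Subgroup G, N.Normal ∧ N.index = 2) ∧ ∀ N : Subgroup G, N.Normal → N.index ≠ 4) ∨ (Nat.card {C : ConjClasses G // ∃ g : G, ConjClasses.mk g = C ∧ orderOf g = 2} = 3 ∧ Cfsg.HasNormalPComplement 2 G) := by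
  obtain ⟨e⟩ := hdih
  have h2n : 2 ^ 2 ≤ 2 ^ (n - 1) := Nat.pow_le_pow_right (by norm_num) (by omega)
  rcases Fusion.DihedralModel.cases P _ (by omega) e with ⟨-, h4⟩ | ⟨k, D, rfl, -⟩
  · rw [Nat.card_congr e.toEquiv, DihedralGroup.nat_card] at h4; omega
  have htwo : ∀ H : Subgroup G, H.index = 2 → ∃ N : Subgroup G, N.Normal ∧ N.index = 2 := fun H hH =>
    ⟨H, Subgroup.normal_of_index_eq_two hH, hH⟩
  by_cases h0 : 3 ∣ Nat.card (D.U 0).normalizerMonoidHom.range <;> by_cases h1 : 3 ∣ Nat.card (D.U 1).normalizerMonoidHom.range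
  · have h3 : ∀ ε, 3 ∣ Nat.card (D.U ε).normalizerMonoidHom.range := fun ε => by
      rcases (show ∀ e : ZMod 2, e = 0 ∨ e = 1 by decide) ε with rfl | rfl
      exacts [h0, h1]
    refine Or.inl ⟨?_, fun N _ hN => ?_⟩
    · rw [← Set.coe_setOf, Nat.card_coe_set_eq, D.classes_eq, ← ConjClasses.mk_eq_mk_iff_isConj.2 (D.fused h0),
        ← ConjClasses.mk_eq_mk_iff_isConj.2 (D.fused h1)]
      simp
    · exact Fusion.DihedralModel.no_index_two D.S _ (by omega) e
        (fun a b ha hb => (D.one_class h3 ha).trans (D.one_class h3 hb).symm) N hN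
  · obtain ⟨H, hH⟩ := D.exists_index_two h1
    exact Or.inr (Or.inl ⟨D.card_classes_two h0 (by rwa [zero_add]), htwo H hH, fun N _ => D.no_index_four h0 N⟩)
  · obtain ⟨H, hH⟩ := D.exists_index_two h0
    exact Or.inr (Or.inl ⟨D.card_classes_two h1 (by rwa [show (1 : ZMod 2) + 1 = 0 from rfl]), htwo H hH, fun N _ => D.no_index_four h1 N⟩)
  · have h3 : ∀ ε, ¬ 3 ∣ Nat.card (D.U ε).normalizerMonoidHom.range := fun ε => by
      rcases (show ∀ e : ZMod 2, e = 0 ∨ e = 1 by decide) ε with rfl | rfl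
      exacts [h0, h1]
    exact Or.inr (Or.inr ⟨D.card_classes_three h3,
      Solv.hasNormalPComplement_of_fusion D.S fun x hx g hg => D.fusion_inner h3 hx hg⟩)

end Cfsg.Agent.S3864
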