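import Cfsg.Statements.S3866
import Mathlib

set_option autoImplicit false
open Cfsg
open Subgroup
open scoped commutatorElement

namespace Cfsg.Agent.S3866

/-- Let A be a commutative normal subgroup of the finite group G with G generated by A and an element x. Then a ↦ x a x⁻¹ a⁻¹ is a surjective homomorphism from A onto the commutator subgroup of G whose kernel is the centralizer of x in A; in particular the commutator subgroup has order equal to the index in A of that centralizer. -/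
theorem result {G : Type*} [Group G] [Finite G] (A : Subgroup G) [A.Normal] (hA : IsMulCommutative A) (x : G) (hgen : A ⊔ Subgroup.zpowers x = ⊤) : (∀ a ∈ A, x * a * x⁻¹ * a⁻¹ ∈ commutator G) ∧ (∀ c ∈ commutator G, ∃ a ∈ A, x * a * x⁻¹ * a⁻¹ = c) ∧ (∀ a ∈ A, ∀ b ∈ A, x * (a * b) * x⁻¹ * (a * b)⁻¹ = (x * a * x⁻¹ * a⁻¹) * (x * b * x⁻¹ * b⁻¹)) ∧ Nat.card (commutator G) * Nat.card ↥(A ⊓ Subgroup.centralizer ({x} : Set G)) = Nat.card A := by
  have hA' : ∀ a ∈ A, ∀ b ∈ A, a * b = b * a := fun a ha b hb =>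
    congrArg Subtype.val (hA.is_comm.comm (⟨a, ha⟩ : A) ⟨b, hb⟩)
  have hconj : ∀ a ∈ A, x * a * x⁻¹ ∈ A := fun a ha => Normal.conj_mem ‹A.Normal› a ha x
  have hmem : ∀ a ∈ A, x * a * x⁻¹ * a⁻¹ ∈ A := fun a ha => mul_mem (hconj a ha) (A.inv_mem ha)
  have hmul : ∀ a ∈ A, ∀ b ∈ A,
      x * (a * b) * x⁻¹ * (a * b)⁻¹ = (x * a * x⁻¹ * a⁻¹) * (x * b * x⁻¹ * b⁻¹) := by
    intro a ha b hb
    calc x * (a * b) * x⁻¹ * (a * b)⁻¹ = (x * a * x⁻¹) * ((x * b * x⁻¹ * b⁻¹) * a⁻¹) := by group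
      _ = (x * a * x⁻¹) * (a⁻¹ * (x * b * x⁻¹ * b⁻¹)) := by rw [hA' _ (hmem b hb) _ (A.inv_mem ha)]
      _ = _ := by group
  let f : A →* G := MonoidHom.mk' (fun a => x * a * x⁻¹ * (a : G)⁻¹) fun a b => hmul a a.2 b b.2
  have hG' : ∀ a ∈ A, x * a * x⁻¹ * a⁻¹ ∈ commutator G := fun a _ =>
    commutator_mem_commutator (H₁ := ⊤) (H₂ := ⊤) (mem_top x) (mem_top a)
  haveI hn : f.range.Normal := by
    rw [← normalizer_eq_top_iff, eq_top_iff, ← hgen, sup_le_iff, zpowers_le]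
    refine ⟨fun a ha => mem_normalizer_iff.2 fun y => ⟨?_, fun h => ?_⟩, mem_normalizer_iff'.2 ?_⟩
    · rintro ⟨b, rfl⟩
      refine ⟨b, ?_⟩
      rw [hA' a ha (f b) (hmem b b.2), mul_inv_cancel_right]
    · obtain ⟨b, hb⟩ := h
      refine ⟨b, ?_⟩
      calc f b = a⁻¹ * (f b * a) := by rw [← hA' a ha (f b) (hmem b b.2), inv_mul_cancel_left]
        _ = y := by rw [hb]; group
    · intro y
      refine ⟨?_, ?_⟩
      · rintro ⟨b, hb⟩
        refine ⟨⟨x * b * x⁻¹, hconj b b.2⟩, ?_⟩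
        show x * (x * b * x⁻¹) * x⁻¹ * (x * b * x⁻¹)⁻¹ = x * y
        calc x * (x * b * x⁻¹) * x⁻¹ * (x * b * x⁻¹)⁻¹ = x * (x * (b : G) * x⁻¹ * (b : G)⁻¹) * x⁻¹ := by group
          _ = x * f b * x⁻¹ := rfl
          _ = _ := by rw [hb]; group
      · rintro ⟨b, hb⟩
        refine ⟨⟨x⁻¹ * b * x, by simpa using Normal.conj_mem ‹A.Normal› (b : G) b.2 x⁻¹⟩, ?_⟩
        show x * (x⁻¹ * b * x) * x⁻¹ * (x⁻¹ * b * x)⁻¹ = y * x
        calc x * (x⁻¹ * b * x) * x⁻¹ * (x⁻¹ * b * x)⁻¹ = x⁻¹ * (x * (b : G) * x⁻¹ * (b : G)⁻¹) * x := by group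
          _ = x⁻¹ * f b * x := rfl
          _ = _ := by rw [hb]; group
  have hle : commutator G ≤ f.range := by
    rw [commutator_eq_closure, closure_le]
    rintro _ ⟨u, v, rfl⟩
    set π := QuotientGroup.mk' f.range
    refine (QuotientGroup.eq_one_iff _).1 (show π ⁅u, v⁆ = 1 from ?_)
    rw [map_commutatorElement, commutatorElement_eq_one_iff_mul_comm]
    have key : ∀ w, w ∈ A ⊔ zpowers x → π w ∈ centralizer ((A ⊔ zpowers x).map π : Set (G ⧸ f.range)) := by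
      suffices h : (A ⊔ zpowers x).map π ≤ centralizer ((A ⊔ zpowers x).map π : Set (G ⧸ f.range)) from
        fun w hw => h (mem_map_of_mem π hw)
      have hxa : ∀ a ∈ A, π x * π a = π a * π x := fun a ha => by
        have h1 : π (x * a * x⁻¹ * a⁻¹) = 1 := (QuotientGroup.eq_one_iff _).2 ⟨⟨a, ha⟩, rfl⟩
        rw [← map_mul, ← map_mul, show x * a = x * a * x⁻¹ * a⁻¹ * (a * x) by group, map_mul, h1, one_mul]
      rw [Subgroup.map_sup, MonoidHom.map_zpowers, sup_le_iff, zpowers_le,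
        ← closure_eq (A.map π), zpowers_eq_closure, ← Subgroup.closure_union, centralizer_closure, closure_le]
      refine ⟨?_, mem_centralizer_iff.2 ?_⟩
      · rintro _ ⟨a, ha, rfl⟩
        rw [SetLike.mem_coe, mem_centralizer_iff]
        rintro _ (⟨b, hb, rfl⟩ | rfl)
        · rw [← map_mul, hA' b hb a ha, map_mul]
        · exact hxa a ha
      · rintro _ (⟨b, hb, rfl⟩ | rfl)
        · exact (hxa b hb).symm
        · rfl
    exact (mem_centralizer_iff.1 (key v (hgen ▸ mem_top v)) (π u) (mem_map_of_mem π (hgen ▸ mem_top u)))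
  refine ⟨hG', fun c hc => ?_, hmul, ?_⟩
  · obtain ⟨a, ha⟩ := hle hc
    exact ⟨a, a.2, ha⟩
  have hr : f.range = commutator G := le_antisymm (by rintro _ ⟨a, rfl⟩; exact hG' a a.2) hle
  have hk : f.ker = (A ⊓ centralizer ({x} : Set G)).subgroupOf A := by
    ext a
    rw [MonoidHom.mem_ker, mem_subgroupOf, mem_inf, mem_centralizer_singleton_iff]
    show x * a * x⁻¹ * (a : G)⁻¹ = 1 ↔ _
    rw [mul_inv_eq_one, mul_inv_eq_iff_eq_mul]
    exact ⟨fun h => ⟨a.2, h.symm⟩, fun h => h.2.symm⟩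
  rw [← hr, ← index_ker, ← Nat.card_congr (subgroupOfEquivOfLe (inf_le_left : A ⊓ centralizer ({x} : Set G) ≤ A)).toEquiv,
    ← hk, mul_comm]
  exact card_mul_index f.ker

end Cfsg.Agent.S3866
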