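import Cfsg.Statements.S3867
import Cfsg.Agent.Lib.Solv.Basic

set_option autoImplicit false
open Cfsg
open Subgroup
open scoped commutatorElement

namespace Cfsg.Agent.S3867

/-- Let M and N be nontrivial normal subgroups of the finite group G with M ⊓ N trivial, and let p be a prime. Writing n(X) for the number of Sylow p-subgroups of a group X, one has n(G) · n(G/MN) = n(G/M) · n(G/N). -/
theorem result {G : Type*} [Group G] [Finite G] (p : ℕ) [Fact p.Prime] (M N : Subgroup G) [M.Normal] [N.Normal] (hM : M ≠ ⊥) (hN : N ≠ ⊥) (hMN : M ⊓ N = ⊥) : Nat.card (Sylow p G) * Nat.card (Sylow p (G ⧸ (M ⊔ N))) = Nat.card (Sylow p (G ⧸ M)) * Nat.card (Sylow p (G ⧸ N)) := by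
  classical
  obtain ⟨P⟩ : Nonempty (Sylow p G) := inferInstance
  set R := normalizer (P : Set G) with hR
  -- Sylow counts of quotients
  have count : ∀ (L : Subgroup G) [L.Normal], Nat.card (Sylow p (G ⧸ L)) = (R ⊔ L).index := by
    intro L _
    let f := QuotientGroup.mk' L
    have hf : Function.Surjective f := QuotientGroup.mk'_surjective L
    rw [Sylow.card_eq_index_normalizer (P.mapSurjective hf)]
    show (normalizer ((((P : Subgroup G).map f : Subgroup (G ⧸ L))) : Set (G ⧸ L))).index = _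
    rw [← index_comap_of_surjective _ hf]
    congr 1
    refine le_antisymm (fun g hg => ?_) (sup_le ((map_le_iff_le_comap).1 (le_normalizer_map f)) ?_)
    · set H := ((P : Subgroup G).map f).comap f with hH
      set K := (normalizer (((P : Subgroup G).map f : Subgroup (G ⧸ L)) : Set (G ⧸ L))).comap f with hK
      have hPH : (P : Subgroup G) ≤ H := le_comap_map _ _
      have hHK : H ≤ K := comap_mono le_normalizer
      haveI : (H.subgroupOf K).Normal := by
        rw [normal_subgroupOf_iff_le_normalizer hHK]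
        exact le_normalizer_comap f
      have hfr := Sylow.normalizer_sup_eq_top' (P.subtype (hPH.trans hHK)) (N := H.subgroupOf K)
        (fun y hy => hPH hy)
      have hgK := hfr.ge (mem_top (⟨g, hg⟩ : K))
      have h2 := mem_map_of_mem K.subtype hgK
      rw [Subgroup.map_sup, map_subgroupOf_eq_of_le hHK] at h2
      refine SetLike.le_def.1 (sup_le ?_ ?_) h2
      · refine le_sup_of_le_left ?_
        refine (le_normalizer_map K.subtype).trans (le_of_eq ?_)
        rw [hR, Sylow.coe_subtype, map_subgroupOf_eq_of_le (hPH.trans hHK)]; rfl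
      · rw [hH, comap_map_eq, QuotientGroup.ker_mk']
        exact sup_le (le_sup_of_le_left le_normalizer) le_sup_right
    · intro l hl
      rw [mem_comap, show f l = 1 from (QuotientGroup.eq_one_iff l).2 hl]; exact one_mem _
  have hR0 : Nat.card (Sylow p G) = R.index := Sylow.card_eq_index_normalizer P
  rw [hR0, count, count, count]
  have hnorm : ∀ (L : Subgroup G) [L.Normal] (X : Subgroup G), X ≤ normalizer (L : Set G) := fun L _ X => by
    rw [normalizer_eq_top]; exact le_top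
  have hcomm : ∀ m ∈ M, ∀ n ∈ N, m * n = n * m := fun m hm n hn =>
    Subgroup.commute_of_normal_of_disjoint M N inferInstance inferInstance (disjoint_iff.2 hMN) m n hm hn
  -- components of a normalizing element normalize
  have key : ∀ m ∈ M, ∀ n ∈ N, m * n ∈ R → m ∈ R := by
    intro m hm n hn hmn
    have hPN : IsPGroup p ↥(((P : Subgroup G) ⊔ N) ⊓ M) := by
      let φ := (QuotientGroup.mk' N).comp (((P : Subgroup G) ⊔ N) ⊓ M).subtype
      have hinj : Function.Injective φ := (injective_iff_map_eq_one φ).2 fun y hy =>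
        Subtype.ext (mem_bot.1 (hMN.le ⟨y.2.2, (QuotientGroup.eq_one_iff _).1 hy⟩))
      have hr : IsPGroup p φ.range := by
        refine IsPGroup.to_le (P.isPGroup'.map (QuotientGroup.mk' N)) ?_
        rintro _ ⟨y, rfl⟩
        have h := mem_map_of_mem (QuotientGroup.mk' N) y.2.1
        rwa [Subgroup.map_sup, QuotientGroup.map_mk'_self, sup_bot_eq] at h
      exact hr.of_injective φ.rangeRestrict (fun a b h => hinj (congrArg Subtype.val h))
    have hPnorm : (P : Subgroup G) ≤ normalizer (((((P : Subgroup G) ⊔ N) ⊓ M : Subgroup G)) : Set G) := by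
      refine le_trans (le_inf ?_ (hnorm M _)) inf_normalizer_le_normalizer_inf
      exact le_trans le_sup_left le_normalizer
    have hsub : ((P : Subgroup G) ⊔ N) ⊓ M ≤ P := by
      have h2 : IsPGroup p ↥((P : Subgroup G) ⊔ (((P : Subgroup G) ⊔ N) ⊓ M)) :=
        IsPGroup.to_sup_of_normal_right' P.isPGroup' hPN hPnorm
      exact le_sup_right.trans (P.is_maximal' h2 le_sup_left).le
    have h1 : ∀ y ∈ (P : Subgroup G), m * y * m⁻¹ ∈ (P : Subgroup G) := by
      intro y hy
      have hce : m * y * m⁻¹ * y⁻¹ ∈ M := by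
        have := M.mul_mem hm (Normal.conj_mem inferInstance m⁻¹ (inv_mem hm) y)
        simpa [mul_assoc] using this
      have hd : n * y * n⁻¹ * y⁻¹ ∈ N := by
        have := N.mul_mem hn (Normal.conj_mem inferInstance n⁻¹ (inv_mem hn) y)
        simpa [mul_assoc] using this
      have he : m * n * y * (m * n)⁻¹ * y⁻¹ ∈ (P : Subgroup G) :=
        mul_mem ((mem_normalizer_iff.1 hmn y).1 hy) (inv_mem hy)
      have e : m * n * y * (m * n)⁻¹ * y⁻¹ = (n * y * n⁻¹ * y⁻¹) * (m * y * m⁻¹ * y⁻¹) := by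
        calc m * n * y * (m * n)⁻¹ * y⁻¹ = m * (n * y * n⁻¹ * y⁻¹) * (y * m⁻¹ * y⁻¹) := by group
          _ = (n * y * n⁻¹ * y⁻¹) * m * (y * m⁻¹ * y⁻¹) := by rw [hcomm m hm _ hd]
          _ = _ := by group
      have hmem : m * y * m⁻¹ * y⁻¹ ∈ ((P : Subgroup G) ⊔ N) ⊓ M := by
        refine ⟨?_, hce⟩
        have h3 : m * y * m⁻¹ * y⁻¹ = (n * y * n⁻¹ * y⁻¹)⁻¹ * (m * n * y * (m * n)⁻¹ * y⁻¹) := by rw [e]; group
        rw [h3]
        exact mul_mem (mem_sup_right (inv_mem hd)) (mem_sup_left he)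
      simpa using mul_mem (hsub hmem) hy
    show m ∈ normalizer ((P : Subgroup G) : Set G)
    rw [mem_normalizer_iff_map_conj_eq]
    exact eq_of_le_of_card_ge (by rintro _ ⟨y, hy, rfl⟩; exact h1 y hy)
      (by rw [Nat.card_congr (equivMapOfInjective (P : Subgroup G) _ (MulAut.conj m).injective).toEquiv.symm])
  have hinf : (R ⊔ M) ⊓ N = R ⊓ N := by
    refine le_antisymm ?_ (inf_le_inf_right _ le_sup_left)
    rintro x ⟨hx, hxN⟩
    refine ⟨?_, hxN⟩
    rw [sup_comm] at hx
    obtain ⟨m, hm, r, hr, rfl⟩ := mem_sup_of_normal_left.1 hx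
    refine mul_mem ?_ hr
    refine (Subgroup.inv_mem_iff R).1 (key m⁻¹ (inv_mem hm) (m * r) hxN (by rwa [inv_mul_cancel_left]))
  have hc1 := Solv.card_sup_mul_card_inf N (R ⊔ M) (hnorm N _)
  have hc2 := Solv.card_sup_mul_card_inf N R (hnorm N _)
  rw [inf_comm, hinf, show N ⊔ (R ⊔ M) = R ⊔ (M ⊔ N) by rw [sup_comm, sup_assoc]] at hc1
  rw [inf_comm, sup_comm] at hc2
  have i0 := R.card_mul_index
  have i1 := (R ⊔ M).card_mul_index
  have i2 := (R ⊔ N).card_mul_index
  have i3 := (R ⊔ (M ⊔ N)).card_mul_index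
  refine Nat.eq_of_mul_eq_mul_left (Nat.mul_pos (Nat.card_pos (α := ↥(R ⊔ M)))
    (Nat.card_pos (α := ↥(R ⊔ N)))) ?_
  have hkey : Nat.card ↥R * Nat.card ↥(R ⊔ (M ⊔ N)) = Nat.card ↥(R ⊔ M) * Nat.card ↥(R ⊔ N) := by
    refine Nat.eq_of_mul_eq_mul_right (Nat.mul_pos (Nat.card_pos (α := ↥(R ⊓ N))) (Nat.card_pos (α := ↥N))) ?_
    calc _ = Nat.card ↥R * Nat.card ↥N * (Nat.card ↥(R ⊔ (M ⊔ N)) * Nat.card ↥(R ⊓ N)) := by ring
      _ = _ := by rw [hc1, mul_comm (Nat.card R) (Nat.card N), ← hc2]; ring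
  calc _ = Nat.card ↥R * Nat.card ↥(R ⊔ (M ⊔ N)) * (R.index * (R ⊔ (M ⊔ N)).index) := by rw [hkey]
    _ = (Nat.card ↥R * R.index) * (Nat.card ↥(R ⊔ (M ⊔ N)) * (R ⊔ (M ⊔ N)).index) := by ring
    _ = (Nat.card ↥(R ⊔ M) * (R ⊔ M).index) * (Nat.card ↥(R ⊔ N) * (R ⊔ N).index) := by rw [i0, i1, i2, i3]
    _ = _ := by ring

end Cfsg.Agent.S3867
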