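import Cfsg.Statements.S3868
import Cfsg.Agent.Lib.Struct.MinimalNonPClosed
import Cfsg.Agent.Lib.Solv.SchurZassenhaus
import Cfsg.Agent.Lib.Solv.Misc

set_option autoImplicit false
open Cfsg
open Subgroup Cfsg.Agent.Solv
open scoped Pointwise commutatorElement

namespace Cfsg.Agent.S3868

/-- Structure of the non-simple minimal non-p-closed groups. Call a finite group p-closed when its Sylow p-subgroups are normal, and minimal non-p-closed when it is not p-closed but every proper subgroup and every proper quotient is. If such a group G is not simple, then there is a prime q ≠ p such that G has order p · q^e, where e is the multiplicative order of q modulo p, and G has a normal subgroup A of order q^e that is elementary abelian and is a minimal normal subgroup of G (so G is the semidirect product of A by a group of order p acting irreducibly). -/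
theorem result {G : Type*} [Group G] [Finite G] {p : ℕ} [Fact p.Prime]
    (hnc : ¬ Cfsg.IsPClosed p G) (hsub : ∀ H : Subgroup G, H ≠ ⊤ → Cfsg.IsPClosed p ↥H)
    (hquo : ∀ (N : Subgroup G) [N.Normal], N ≠ ⊥ → Cfsg.IsPClosed p (G ⧸ N)) (hns : ¬ IsSimpleGroup G) :
    ∃ q : ℕ, q.Prime ∧ q ≠ p ∧ Nat.card G = p * q ^ orderOf (q : ZMod p) ∧
      ∃ A : Subgroup G, A.Normal ∧ Nat.card ↥A = q ^ orderOf (q : ZMod p) ∧ Cfsg.IsElementaryAbelian q A ∧
        ∀ B : Subgroup G, B.Normal → B ≤ A → B = ⊥ ∨ B = A := by
  classical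
  have hp : p.Prime := Fact.out
  obtain ⟨P, hP⟩ : ∃ P : Sylow p G, ¬ (P : Subgroup G).Normal := not_forall.1 hnc
  haveI : Nontrivial G := by
    by_contra h
    rw [not_nontrivial_iff_subsingleton] at h
    refine hP ?_
    rw [Subsingleton.elim (P : Subgroup G) ⊥]
    infer_instance
  obtain ⟨H, hHn, hH0, hH1⟩ : ∃ H : Subgroup G, H.Normal ∧ H ≠ ⊥ ∧ H ≠ ⊤ := by
    by_contra hcon
    refine hns ⟨fun H hH => ?_⟩
    by_contra h
    rw [not_or] at h
    exact hcon ⟨H, hH, h.1, h.2⟩
  haveI := hHn
  obtain ⟨N, hNn, hNH, hN0, hNmin⟩ := exists_minimal_normal_le (N := H) hH0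
  haveI := hNn
  have hNtop : N ≠ ⊤ := fun h => hH1 (top_le_iff.1 (h ▸ hNH))
  have hNP : N ⊔ (P : Subgroup G) = ⊤ := by
    by_contra hne
    have hMn : (N ⊔ (P : Subgroup G)).Normal := by
      have h1 := hquo N hN0 (P.mapSurjective (QuotientGroup.mk'_surjective N))
      rw [Sylow.coe_mapSurjective] at h1
      have h2 := h1.comap (QuotientGroup.mk' N)
      rwa [comap_map_eq, QuotientGroup.ker_mk', sup_comm] at h2
    haveI := hsub _ hne (P.subtype le_sup_right)
    haveI := Sylow.characteristic_of_normal (P.subtype (N := N ⊔ (P : Subgroup G)) le_sup_right) this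
    have h3 : (((P.subtype le_sup_right : Sylow p ↥(N ⊔ (P : Subgroup G))) : Subgroup _).map
        (N ⊔ (P : Subgroup G)).subtype).Normal := inferInstance
    rw [Sylow.coe_subtype, map_subgroupOf_eq_of_le le_sup_right] at h3
    exact hP h3
  have hNp : (Nat.card N).Coprime p := by
    refine Nat.Coprime.symm (hp.coprime_iff_not_dvd.2 fun hd => ?_)
    let S : Sylow p N := default
    haveI := hsub N hNtop S
    haveI := Sylow.characteristic_of_normal S this
    rcases hNmin ((S : Subgroup N).map N.subtype) inferInstance (map_subtype_le _) with h | h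
    · rw [map_eq_bot_iff_of_injective _ (subtype_injective _)] at h
      exact S.ne_bot_of_dvd_card hd h
    · have h1 : IsPGroup p N := h ▸ S.isPGroup'.map N.subtype
      obtain ⟨g, hg⟩ := MulAction.exists_smul_eq G (h1.exists_le_sylow.choose) P
      have hle : N ≤ (P : Subgroup G) := by
        intro x hx
        have hle0 := h1.exists_le_sylow.choose_spec
        have h2 : g⁻¹ * x * g ∈ N := by
          simpa using (inferInstance : N.Normal).conj_mem x hx g⁻¹
        rw [← hg]
        show x ∈ MulAut.conj g • ((h1.exists_le_sylow.choose : Sylow p G) : Subgroup G)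
        rw [mem_conj_smul]
        exact hle0 h2
      rw [sup_eq_right.2 hle] at hNP
      refine hP ?_
      rw [hNP]
      infer_instance
  obtain ⟨e, he⟩ := IsPGroup.iff_card.1 P.isPGroup'
  have hcop : (Nat.card P).Coprime (Nat.card N) := by rw [he]; exact (hNp.pow_right e).symm
  have hdisj : N ⊓ (P : Subgroup G) = ⊥ := inf_eq_bot_of_coprime_card N P hcop.symm
  haveI := P.isPGroup'.isNilpotent
  have hPsol : Group.IsSolvable (P : Subgroup G) := inferInstance
  -- some invariant Sylow subgroup of `N` is all of `N`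
  have hlt : ∀ X : Subgroup G, X ≤ N → (P : Subgroup G) ≤ normalizer (X : Set G) →
      X ⊔ (P : Subgroup G) ≠ ⊤ → ∀ x ∈ X, x ∈ normalizer ((P : Subgroup G) : Set G) := by
    intro X hXN hPX hne x hx
    have h1 := hsub _ hne (P.subtype le_sup_right)
    rw [Sylow.coe_subtype, normal_subgroupOf_iff_le_normalizer le_sup_right] at h1
    exact h1 (mem_sup_left hx)
  obtain ⟨q, hq, hqN, hNq⟩ : ∃ q : ℕ, q.Prime ∧ q ∣ Nat.card N ∧ IsPGroup q N := by
    by_contra hcon
    have hle : N ≤ normalizer ((P : Subgroup G) : Set G) := by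
      refine subgroupOf_eq_top.1 (index_eq_one.1 ?_)
      by_contra hne
      obtain ⟨q, hq, hd⟩ := Nat.exists_prime_and_dvd hne
      haveI : Fact q.Prime := ⟨hq⟩
      obtain ⟨Q, hQ⟩ := exists_invariant_sylow (P : Subgroup G) N le_normalizer_of_normal hcop
        (Or.inl hPsol) q
      refine Q.not_dvd_index (hd.trans (index_dvd_of_le (map_le_iff_le_comap.mp ?_)))
      refine hlt _ (map_subtype_le _) hQ fun htop => hcon ⟨q, hq, hd.trans (index_dvd_card _), ?_⟩
      refine (Q.isPGroup'.map N.subtype).to_le ?_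
      intro n hn
      have h1 : n ∈ ((Q : Subgroup N).map N.subtype ⊔ (P : Subgroup G) : Subgroup G) :=
        htop ▸ mem_top n
      rw [← SetLike.mem_coe, coe_mul_of_right_le_normalizer_left _ _ hQ] at h1
      obtain ⟨u, hu, s, hs, rfl⟩ := h1
      have h2 : s ∈ N ⊓ (P : Subgroup G) :=
        mem_inf.2 ⟨by simpa using mul_mem (inv_mem (map_subtype_le _ hu)) hn, hs⟩
      rw [hdisj, mem_bot] at h2
      subst h2
      show u * 1 ∈ _
      rw [mul_one]
      exact hu
    refine hP (normalizer_eq_top_iff.1 (top_le_iff.1 ?_))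
    rw [← hNP]
    exact sup_le hle le_normalizer
  haveI : Fact q.Prime := ⟨hq⟩
  have hqp : q ≠ p := fun h => (hp.coprime_iff_not_dvd.1 hNp.symm) (h ▸ hqN)
  haveI := hNq.isNilpotent
  obtain ⟨hNab, r, hr, hrexp⟩ := minimal_normal_elementary N hN0 hNmin
  have hrq : r = q := by
    obtain ⟨y, hy⟩ := exists_prime_orderOf_dvd_card' (G := N) q hqN
    have h1 := orderOf_dvd_of_pow_eq_one (Subtype.ext (hrexp y y.2) : y ^ r = 1)
    rw [hy] at h1
    exact ((Nat.prime_dvd_prime_iff_eq hq hr).1 h1).symm
  subst hrq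
  -- `P` has order `p`
  haveI : Nontrivial (P : Subgroup G) := (nontrivial_iff_ne_bot _).2 fun h => hP (by
    rw [h]; infer_instance)
  obtain ⟨M, hM, -⟩ := exists_coatom_ge (bot_ne_top : (⊥ : Subgroup (P : Subgroup G)) ≠ ⊤)
  haveI hMn := coatom_normal_of_isNilpotent P.isPGroup'.isNilpotent M hM
  have hM0 : M = ⊥ := by
    set M' := M.map (P : Subgroup G).subtype with hM'
    have hM'P : M' < (P : Subgroup G) := by
      refine lt_of_le_of_ne (map_subtype_le _) fun h => hM.1 ?_
      apply map_injective (P : Subgroup G).subtype_injective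
      rw [← hM', h, ← MonoidHom.range_eq_map, range_subtype]
    have hcopM : (Nat.card N).Coprime (Nat.card M') :=
      hcop.symm.coprime_dvd_right (card_dvd_of_le hM'P.le)
    have hne : N ⊔ M' ≠ ⊤ := by
      intro h
      have h1 := congrArg (fun X : Subgroup G => Nat.card X) h
      simp only [card_top] at h1
      rw [card_sup_of_coprime le_normalizer_of_normal hcopM, ← card_top (G := G), ← hNP,
        card_sup_of_coprime le_normalizer_of_normal hcop.symm] at h1
      exact hM'P.ne (eq_of_le_of_card_ge hM'P.le (Nat.eq_of_mul_eq_mul_left Nat.card_pos h1).ge)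
    obtain ⟨S, hS⟩ := ((P.isPGroup'.to_le hM'P.le).of_equiv
      (subgroupOfEquivOfLe (le_sup_right : M' ≤ N ⊔ M')).symm).exists_le_sylow
    have hSeq : (S : Subgroup ↥(N ⊔ M')) = M'.subgroupOf (N ⊔ M') := by
      obtain ⟨i, hi⟩ := IsPGroup.iff_card.1 S.isPGroup'
      refine (eq_of_le_of_card_ge hS ?_).symm
      rw [card_subgroupOf le_sup_right, hi]
      refine Nat.le_of_dvd Nat.card_pos (Nat.Coprime.dvd_of_dvd_mul_left ((hNp.symm).pow_left i) ?_)
      rw [← hi, ← card_sup_of_coprime le_normalizer_of_normal hcopM]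
      exact card_subgroup_dvd_card _
    have h1 := hsub _ hne S
    rw [hSeq, normal_subgroupOf_iff_le_normalizer le_sup_right] at h1
    haveI : M'.Normal := by
      refine normalizer_eq_top_iff.1 (top_le_iff.1 (hNP ▸ sup_le (le_sup_left.trans h1) ?_))
      intro s hs
      refine (le_normalizer_of_conj_mem (X := (P : Subgroup G)) fun a ha x hx => ?_) hs
      obtain ⟨y, hy, rfl⟩ := hx
      exact ⟨⟨a, ha⟩ * y * ⟨a, ha⟩⁻¹, hMn.conj_mem y hy _, rfl⟩
    by_contra hne0
    have h2 := hquo M' (fun h => hne0 ((map_eq_bot_iff_of_injective _ (subtype_injective _)).1 h))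
      (P.mapSurjective (QuotientGroup.mk'_surjective M'))
    rw [Sylow.coe_mapSurjective] at h2
    have h3 := h2.comap (QuotientGroup.mk' M')
    rw [comap_map_eq, QuotientGroup.ker_mk', sup_eq_left.2 hM'P.le] at h3
    exact hP h3
  subst hM0
  have hPp : Nat.card P = p := by
    have h1 := prime_index_of_coatom_normal (⊥ : Subgroup (P : Subgroup G)) hM
    rw [index_bot, he] at h1
    rw [he, Nat.Prime.eq_one_of_pow h1, pow_one]
  have hna : ¬ IsMulCommutative G := fun h => hP ⟨fun x hx g => by
    rw [mul_comm' g x, mul_inv_cancel_right]; exact hx⟩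
  have hidx : N.index = p := by
    refine Nat.eq_of_mul_eq_mul_left (Nat.card_pos (α := N)) ?_
    rw [N.card_mul_index, ← hPp, ← card_sup_of_coprime le_normalizer_of_normal hcop.symm, hNP, card_top]
  have hA : Cfsg.IsElementaryAbelian r N := ⟨hNab, hrexp⟩
  have hcardN := Cfsg.Agent.Struct.MinimalNonPClosed.card_minimal_normal hq hqp hna N hA hidx hNmin
  refine ⟨r, hq, hqp, ?_, N, inferInstance, hcardN, hA, hNmin⟩
  rw [← N.card_mul_index, hidx, hcardN, mul_comm]

end Cfsg.Agent.S3868
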