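import Cfsg.Statements.S3869
import Cfsg.Agent.Lib.Struct.MinimalNonPClosed
import Cfsg.Agent.Lib.Solv.SchurZassenhaus

set_option autoImplicit false
open Cfsg
open Subgroup

namespace Cfsg.Agent.S3869

/-- Let p and q be distinct primes and G a finite non-abelian group with a normal elementary abelian q-subgroup A that is a minimal normal subgroup of G and has index p. Then A has order q^e with e the multiplicative order of q modulo p, and G is minimal non-p-closed: its Sylow p-subgroups are not normal, while in every proper subgroup and in every proper quotient of G the Sylow p-subgroups are normal. -/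
theorem result {G : Type*} [Group G] [Finite G] {p q : ℕ} [Fact p.Prime] (hq : q.Prime) (hpq : q ≠ p)
    (hna : ¬ IsMulCommutative G) (A : Subgroup G) [A.Normal] (hA : Cfsg.IsElementaryAbelian q A) (hidx : A.index = p)
    (hmin : ∀ B : Subgroup G, B.Normal → B ≤ A → B = ⊥ ∨ B = A) :
    Nat.card ↥A = q ^ orderOf (q : ZMod p) ∧ ¬ Cfsg.IsPClosed p G ∧ (∀ H : Subgroup G, H ≠ ⊤ → Cfsg.IsPClosed p ↥H) ∧
      ∀ (N : Subgroup G) [N.Normal], N ≠ ⊥ → Cfsg.IsPClosed p (G ⧸ N) := by
  classical
  haveI : Fact q.Prime := ⟨hq⟩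
  have hp : p.Prime := Fact.out
  haveI := hA.1
  have hAq : IsPGroup q A := fun y => ⟨1, Subtype.ext (by rw [pow_one]; exact hA.2 y y.2)⟩
  obtain ⟨f, hf⟩ := IsPGroup.iff_card.1 hAq
  have hAp : (Nat.card A).Coprime p := hf ▸ ((Nat.coprime_primes hq hp).2 hpq).pow_left f
  refine ⟨Cfsg.Agent.Struct.MinimalNonPClosed.card_minimal_normal hq hpq hna A hA hidx hmin, ?_, ?_, ?_⟩
  · intro hc
    let P : Sylow p G := default
    haveI := hc P
    have hcard : Nat.card P = p := by
      rw [Sylow.card_eq_multiplicity, ← A.card_mul_index, hidx,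
        Nat.factorization_mul Nat.card_pos.ne' hp.ne_zero, Finsupp.add_apply,
        Nat.factorization_eq_zero_of_not_dvd (hp.coprime_iff_not_dvd.1 hAp.symm),
        hp.factorization_self, zero_add, pow_one]
    have hdisj : A ⊓ (P : Subgroup G) = ⊥ :=
      Cfsg.Agent.Solv.inf_eq_bot_of_coprime_card A P (hcard.symm ▸ hAp)
    have hcomm := commute_of_normal_of_disjoint A (P : Subgroup G) inferInstance inferInstance
      (disjoint_iff.2 hdisj)
    haveI : IsCyclic P := isCyclic_of_prime_card hcard
    have htop : A ⊔ (P : Subgroup G) = ⊤ := eq_top_of_card_eq _ (by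
      rw [Cfsg.Agent.Solv.card_sup_of_coprime Subgroup.le_normalizer_of_normal
        (hcard.symm ▸ hAp), hcard, ← hidx, card_mul_index])
    refine hna ⟨⟨fun u v => ?_⟩⟩
    obtain ⟨a, ha, b, hb, rfl⟩ := mem_sup_of_normal_left.1 (htop ▸ mem_top u : u ∈ A ⊔ (P : Subgroup G))
    obtain ⟨c, hc', d, hd, rfl⟩ := mem_sup_of_normal_left.1 (htop ▸ mem_top v : v ∈ A ⊔ (P : Subgroup G))
    have h1 : Commute a c := congrArg Subtype.val (mul_comm' (⟨a, ha⟩ : A) ⟨c, hc'⟩)
    have h2 : Commute b d := congrArg Subtype.val (IsCyclic.commGroup.mul_comm (⟨b, hb⟩ : P) ⟨d, hd⟩)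
    exact ((h1.mul_right (hcomm a d ha hd)).mul_left
      ((hcomm c b hc' hb).symm.mul_right h2)).eq
  · intro H hH P
    by_cases hdvd : p ∣ Nat.card H
    · have hAH : A ⊔ H = ⊤ := by
        rw [← index_eq_one]
        have h1 := relIndex_mul_index (le_sup_left : A ≤ A ⊔ H)
        rw [hidx] at h1
        rcases hp.eq_one_or_self_of_dvd _ (Dvd.intro_left _ h1) with h2 | h2
        · exact h2
        · rw [h2, Nat.mul_eq_right hp.ne_zero, relIndex_eq_one] at h1
          exact absurd (hdvd.trans (card_dvd_of_le (le_sup_right.trans h1))) (hp.coprime_iff_not_dvd.1 hAp.symm)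
      have hn : (A ⊓ H).Normal := by
        rw [← normalizer_eq_top_iff, eq_top_iff, ← hAH]
        refine sup_le (le_trans ?_ (centralizer_le_normalizer _)) ?_
        · exact (le_centralizer A).trans (centralizer_le inf_le_left)
        · exact Cfsg.Agent.Solv.le_normalizer_inf Subgroup.le_normalizer_of_normal le_normalizer
      rcases hmin _ hn inf_le_left with h | h
      · have h3 : Nat.card H = p := by
          refine ((Nat.prime_def.1 hp).2 _ ?_).resolve_left fun h1 => ?_
          · rw [← hidx, ← relIndex_bot_left, ← h, inf_relIndex_right]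
            exact relIndex_dvd_index_of_normal A H
          · rw [h1] at hdvd
            exact hp.not_dvd_one hdvd
        have : (P : Subgroup H) = ⊤ := eq_top_of_card_eq _ (by
          rw [Sylow.card_eq_multiplicity, h3, hp.factorization_self, pow_one])
        rw [this]
        infer_instance
      · exact absurd (top_le_iff.1 (hAH ▸ sup_le (inf_eq_left.1 h) le_rfl)) hH
    · have : (P : Subgroup H) = ⊥ := eq_bot_of_card_eq _ (by
        rw [Sylow.card_eq_multiplicity, Nat.factorization_eq_zero_of_not_dvd hdvd, pow_zero])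
      rw [this]
      infer_instance
  · intro N _ hN P
    rcases hmin (A ⊓ N) inferInstance inf_le_left with h | h
    · refine absurd ?_ hna
      have hcomm := commute_of_normal_of_disjoint A N inferInstance inferInstance (disjoint_iff.2 h)
      have hN1 : Nat.card N = p := by
        refine ((Nat.prime_def.1 hp).2 _ ?_).resolve_left fun h1 => hN (eq_bot_of_card_eq _ h1)
        rw [← hidx, ← relIndex_bot_left, ← h, inf_relIndex_right]
        exact relIndex_dvd_index_of_normal A N
      haveI : IsCyclic N := isCyclic_of_prime_card hN1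
      have htop : A ⊔ N = ⊤ := eq_top_of_card_eq _ (by
        rw [Cfsg.Agent.Solv.card_sup_of_coprime Subgroup.le_normalizer_of_normal
          (hN1.symm ▸ hAp), hN1, ← hidx, card_mul_index])
      refine ⟨⟨fun u v => ?_⟩⟩
      obtain ⟨a, ha, b, hb, rfl⟩ := mem_sup_of_normal_left.1 (htop ▸ mem_top u : u ∈ A ⊔ N)
      obtain ⟨c, hc', d, hd, rfl⟩ := mem_sup_of_normal_left.1 (htop ▸ mem_top v : v ∈ A ⊔ N)
      have h1 : Commute a c := congrArg Subtype.val (mul_comm' (⟨a, ha⟩ : A) ⟨c, hc'⟩)
      have h2 : Commute b d := congrArg Subtype.val (IsCyclic.commGroup.mul_comm (⟨b, hb⟩ : N) ⟨d, hd⟩)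
      exact ((h1.mul_right (hcomm a d ha hd)).mul_left
        ((hcomm c b hc' hb).symm.mul_right h2)).eq
    · have hd : Nat.card (G ⧸ N) ∣ p := by
        rw [← hidx, ← index_eq_card]
        exact index_dvd_of_le (inf_eq_left.1 h)
      rcases (Nat.prime_def.1 hp).2 _ hd with h1 | h1
      · have : Subsingleton (G ⧸ N) := (Nat.card_eq_one_iff_unique.1 h1).1
        rw [Subsingleton.elim (P : Subgroup (G ⧸ N)) ⊥]
        infer_instance
      · have : (P : Subgroup (G ⧸ N)) = ⊤ := eq_top_of_card_eq _ (by
          rw [Sylow.card_eq_multiplicity, h1, hp.factorization_self, pow_one])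
        rw [this]
        infer_instance

end Cfsg.Agent.S3869
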