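import Cfsg.Statements.S3870
import Mathlib

set_option autoImplicit false
open Cfsg

namespace Cfsg.Agent.S3870

/-- Let G be a finite simple group whose Sylow p-subgroups are not normal but such that every proper subgroup of G has a normal Sylow p-subgroup. Then any two distinct Sylow p-subgroups of G intersect trivially, and for every Sylow p-subgroup P the normalizer of every non-identity subgroup of P lies in the normalizer of P. -/
theorem result {G : Type*} [Group G] [Finite G] [IsSimpleGroup G] {p : ℕ} [Fact p.Prime]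
    (hnc : ¬ Cfsg.IsPClosed p G) (hsub : ∀ H : Subgroup G, H ≠ ⊤ → Cfsg.IsPClosed p ↥H) :
    (∀ P Q : Sylow p G, P ≠ Q → (P : Subgroup G) ⊓ (Q : Subgroup G) = ⊥) ∧
      ∀ (P : Sylow p G) (R : Subgroup G), R ≤ P → R ≠ ⊥ →
        Subgroup.normalizer (R : Set G) ≤ Subgroup.normalizer ((P : Subgroup G) : Set G) := by
  have hne : ∀ (P : Sylow p G), (P : Subgroup G) ≠ ⊥ → ∀ D : Subgroup G, D ≠ ⊥ → D ≤ (P : Subgroup G) →
      Subgroup.normalizer (D : Set G) ≠ ⊤ := by
    intro P _ D hD hDP h
    have hn : D.Normal := Subgroup.normalizer_eq_top_iff.mp h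
    rcases hn.eq_bot_or_eq_top with h1 | h1
    · exact hD h1
    · apply hnc
      intro Q
      have hP : (P : Subgroup G) = ⊤ := top_le_iff.mp (h1 ▸ hDP)
      obtain ⟨g, hg⟩ := MulAction.exists_smul_eq G P Q
      have hQ : (Q : Subgroup G) = ⊤ := by
        rw [← hg, Sylow.coe_subgroup_smul, hP, eq_top_iff]
        intro x _
        exact ⟨(MulAut.conj g).symm x, trivial, (MulAut.conj g).apply_symm_apply x⟩
      rw [hQ]; infer_instance
  have hTI : ∀ (n : ℕ) (P Q : Sylow p G), Nat.card G - Nat.card ↥((P : Subgroup G) ⊓ (Q : Subgroup G)) ≤ n →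
      (P : Subgroup G) ⊓ (Q : Subgroup G) ≠ ⊥ → P = Q := by
    intro n
    induction n using Nat.strong_induction_on with
    | _ n ih =>
      intro P Q hn hD
      set D := (P : Subgroup G) ⊓ (Q : Subgroup G) with hDdef
      by_contra hPQ
      set N := Subgroup.normalizer (D : Set G) with hN
      have hP0 : (P : Subgroup G) ≠ ⊥ := fun h => hD (le_bot_iff.mp (h ▸ (inf_le_left : D ≤ P)))
      have hNt := hne P hP0 D hD inf_le_left
      obtain ⟨R⟩ : Nonempty (Sylow p ↥N) := inferInstance
      haveI hRn : (R : Subgroup ↥N).Normal := hsub N hNt R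
      obtain ⟨T, hT⟩ := (R.isPGroup'.map N.subtype).exists_le_sylow
      have key : ∀ S : Sylow p G, D < (S : Subgroup G) → S = T := by
        intro S hDS
        haveI : Group.IsNilpotent ↥(S : Subgroup G) := S.isPGroup'.isNilpotent
        have hlt : D.subgroupOf S < ⊤ := lt_top_iff_ne_top.mpr (fun e => hDS.not_ge (Subgroup.subgroupOf_eq_top.mp e))
        obtain ⟨s, hsN, hsD⟩ := SetLike.exists_of_lt (Group.normalizerCondition_of_isNilpotent _ hlt)
        have hsN' : (s : G) ∈ N := by
          rw [hN, Subgroup.mem_normalizer_iff]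
          intro h
          constructor
          · intro hh
            exact (Subgroup.mem_normalizer_iff.mp hsN ⟨h, hDS.le hh⟩).mp hh
          · intro hh
            have hhS : h ∈ (S : Subgroup G) := by
              have := (S : Subgroup G).mul_mem ((S : Subgroup G).mul_mem ((S : Subgroup G).inv_mem s.2) (hDS.le hh)) s.2
              simpa [mul_assoc] using this
            exact (Subgroup.mem_normalizer_iff.mp hsN ⟨h, hhS⟩).mpr hh
        have hin : (S : Subgroup G) ⊓ N ≤ (T : Subgroup G) := by
          intro a ha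
          apply hT
          obtain ⟨R', hR'⟩ := ((S.isPGroup'.to_le (inf_le_left : (S : Subgroup G) ⊓ N ≤ S)).of_equiv
            (Subgroup.subgroupOfEquivOfLe (inf_le_right : (S : Subgroup G) ⊓ N ≤ N)).symm).exists_le_sylow
          obtain ⟨g, hg⟩ := MulAction.exists_smul_eq ↥N R R'
          rw [Sylow.smul_eq_of_normal] at hg
          exact ⟨⟨a, ha.2⟩, hg ▸ hR' ha, rfl⟩
        by_contra hST
        have hDle : D ≤ (S : Subgroup G) ⊓ (T : Subgroup G) :=
          le_inf hDS.le ((le_inf hDS.le Subgroup.le_normalizer).trans hin)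
        have hlt' : D < (S : Subgroup G) ⊓ (T : Subgroup G) :=
          lt_of_le_of_ne hDle (fun e => hsD (by
            have : (s : G) ∈ (S : Subgroup G) ⊓ (T : Subgroup G) := ⟨s.2, hin ⟨s.2, hsN'⟩⟩
            rw [← e] at this
            exact this))
        have hcard : Nat.card ↥D < Nat.card ↥((S : Subgroup G) ⊓ (T : Subgroup G)) := by
          by_contra hc
          exact hlt'.ne (Subgroup.eq_of_le_of_card_ge hlt'.le (not_lt.mp hc))
        have hle2 := Subgroup.card_le_card_group ((S : Subgroup G) ⊓ (T : Subgroup G))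
        exact hST (ih (Nat.card G - Nat.card ↥((S : Subgroup G) ⊓ (T : Subgroup G))) (by omega) S T le_rfl
          (fun e => hlt'.ne_bot e))
      have hDP : D < (P : Subgroup G) := lt_of_le_of_ne inf_le_left (fun e => by
        apply hPQ
        apply Sylow.ext
        have : (P : Subgroup G) ≤ (Q : Subgroup G) := e ▸ inf_le_right
        exact Subgroup.eq_of_le_of_card_ge this (by rw [P.card_eq_multiplicity, Q.card_eq_multiplicity]))
      have hDQ : D < (Q : Subgroup G) := lt_of_le_of_ne inf_le_right (fun e => by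
        apply hPQ
        apply Sylow.ext
        have : (Q : Subgroup G) ≤ (P : Subgroup G) := e ▸ inf_le_left
        exact (Subgroup.eq_of_le_of_card_ge this (by rw [P.card_eq_multiplicity, Q.card_eq_multiplicity])).symm)
      exact hPQ ((key P hDP).trans (key Q hDQ).symm)
  refine ⟨fun P Q h => by_contra fun hh => h (hTI _ P Q le_rfl hh), fun P R hR hR0 g hg => ?_⟩
  have heq : g • P = P := by
    by_contra hne'
    apply hR0
    rw [← le_bot_iff, ← (by_contra fun hh => hne' (hTI _ (g • P) P le_rfl hh) : ((g • P : Sylow p G) : Subgroup G) ⊓ P = ⊥)]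
    refine le_inf ?_ hR
    intro r hr
    rw [Sylow.coe_subgroup_smul]
    exact ⟨g⁻¹ * r * g, hR ((Subgroup.mem_normalizer_iff''.mp hg r).mp hr), by simp [mul_assoc]⟩
  exact Sylow.smul_eq_iff_mem_normalizer.mp heq

end Cfsg.Agent.S3870
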