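import Cfsg.Statements.S3872
import Cfsg.Agent.Lib.Solv.RegularClass
import Mathlib

set_option autoImplicit false
open Cfsg

namespace Cfsg.Agent.S3872

/-- Say that a finite group is p-exponent closed when its elements of order dividing p form a subgroup. Let G be a finite p-group that is not p-exponent closed, but all of whose proper subgroups and proper quotients are. Then G is generated by two elements, has nilpotency class at least p, has exponent p², has cyclic center, and has order at least p^(p+1). -/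
theorem result {G : Type*} [Group G] [Finite G] {p : ℕ} [Fact p.Prime] (hG : IsPGroup p G)
    (hnc : ¬ (∃ H : Subgroup G, (H : Set G) = {g : G | g ^ p = 1})) (hsub : ∀ K : Subgroup G, K ≠ ⊤ → (∃ H : Subgroup ↥K, (H : Set ↥K) = {g : ↥K | g ^ p = 1}))
    (hquo : ∀ (N : Subgroup G) [N.Normal], N ≠ ⊥ → (∃ H : Subgroup (G ⧸ N), (H : Set (G ⧸ N)) = {g : (G ⧸ N) | g ^ p = 1})) :
    (∃ x y : G, Subgroup.closure ({x, y} : Set G) = ⊤) ∧ (⊤ : Subgroup G).lowerCentralSeries (p - 1) ≠ ⊥ ∧
      Monoid.exponent G = p ^ 2 ∧ IsCyclic ↥(Subgroup.center G) ∧ p ^ (p + 1) ≤ Nat.card G := by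
  classical
  have hp : p.Prime := Fact.out
  haveI hnil : Group.IsNilpotent G := hG.isNilpotent
  obtain ⟨x, y, hx, hy, hxy⟩ : ∃ x y : G, x ^ p = 1 ∧ y ^ p = 1 ∧ (x * y) ^ p ≠ 1 := by
    by_contra hcon
    push Not at hcon
    exact hnc ⟨{ carrier := {g | g ^ p = 1}
                 mul_mem' := fun {a b} ha hb => hcon a b ha hb
                 one_mem' := one_pow p
                 inv_mem' := fun {a} (ha : a ^ p = 1) => by
                   show a⁻¹ ^ p = 1
                   rw [inv_pow, ha, inv_one] }, rfl⟩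
  have hgen : Subgroup.closure ({x, y} : Set G) = ⊤ := by
    by_contra hne
    obtain ⟨H, hH⟩ := hsub _ hne
    have hx' : (⟨x, Subgroup.subset_closure (by simp)⟩ : Subgroup.closure ({x, y} : Set G)) ∈ H := by
      rw [← SetLike.mem_coe, hH]; exact Subtype.ext (by simpa using hx)
    have hy' : (⟨y, Subgroup.subset_closure (by simp)⟩ : Subgroup.closure ({x, y} : Set G)) ∈ H := by
      rw [← SetLike.mem_coe, hH]; exact Subtype.ext (by simpa using hy)
    have := H.mul_mem hx' hy'
    rw [← SetLike.mem_coe, hH] at this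
    exact hxy (by simpa using congrArg Subtype.val this)
  have hclass : (⊤ : Subgroup G).lowerCentralSeries (p - 1) ≠ ⊥ := fun h0 =>
    hxy ((Cfsg.Agent.Solv.Reg.omega (Cfsg.Agent.Solv.Reg.weak_of_class_lt hG h0)).mul_mem hx hy)
  have hpow : ∀ (N : Subgroup G) [N.Normal], N ≠ ⊥ → ∀ g : G, g ^ p ∈ N := by
    intro N _ hN g
    obtain ⟨H, hH⟩ := hquo N hN
    have hH' : ∀ a : G, QuotientGroup.mk' N a ∈ H ↔ a ^ p ∈ N := fun a => by
      rw [← SetLike.mem_coe, hH, Set.mem_setOf_eq, ← map_pow, QuotientGroup.mk'_apply,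
        QuotientGroup.eq_one_iff]
    have : Subgroup.closure ({x, y} : Set G) ≤ H.comap (QuotientGroup.mk' N) := by
      rw [Subgroup.closure_le]
      rintro a (rfl | ha)
      · exact (hH' a).2 (by rw [hx]; exact one_mem _)
      · rw [Set.mem_singleton_iff] at ha
        subst ha
        exact (hH' a).2 (by rw [hy]; exact one_mem _)
    rw [hgen] at this
    exact (hH' g).1 (this (Subgroup.mem_top g))
  haveI : Nontrivial G := ⟨⟨_, _, hxy⟩⟩
  haveI hZnt : Nontrivial (Subgroup.center G) := hG.center_nontrivial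
  obtain ⟨z, hz⟩ : ∃ z : Subgroup.center G, orderOf z = p := by
    obtain ⟨a, ha⟩ := IsPGroup.iff_card.1 (hG.to_subgroup (Subgroup.center G))
    refine exists_prime_orderOf_dvd_card' p ?_
    rw [ha]
    refine dvd_pow_self p ?_
    rintro rfl
    rw [pow_zero] at ha
    exact (Finite.one_lt_card (α := Subgroup.center G)).ne' ha
  have hN : ∀ c : G, c ∈ Subgroup.center G → c ≠ 1 → ∀ g : G, g ^ p ∈ Subgroup.zpowers c := by
    intro c hc hc1 g
    haveI : (Subgroup.zpowers c).Normal := ⟨fun a ha t => by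
      obtain ⟨i, rfl⟩ := ha
      have hi : t * c ^ i = c ^ i * t := Subgroup.mem_center_iff.1 (zpow_mem hc i) t
      rw [hi, mul_inv_cancel_right]
      exact ⟨i, rfl⟩⟩
    exact hpow _ (fun h0 => hc1 (by
      have h1 := Subgroup.mem_zpowers c
      rwa [h0, Subgroup.mem_bot] at h1)) g
  have hz' : orderOf (z : G) = p := by rw [Subgroup.orderOf_coe, hz]
  have hz1 : (z : G) ≠ 1 := fun h => hp.one_lt.ne' (by rw [← hz', h, orderOf_one])
  have hexp : ∀ g : G, g ^ p ^ 2 = 1 := fun g => by
    rw [pow_two, pow_mul]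
    obtain ⟨i, hi⟩ := hN z z.2 hz1 g
    rw [← hi]
    show ((z : G) ^ i) ^ p = 1
    rw [← zpow_natCast, ← zpow_mul, mul_comm, zpow_mul, zpow_natCast, ← hz', pow_orderOf_eq_one, one_zpow]
  have huniq : ∀ c : G, c ∈ Subgroup.center G → c ≠ 1 → c ^ p = 1 →
      Subgroup.zpowers c = Subgroup.zpowers ((x * y) ^ p) := by
    intro c hc hc1 hcp
    have hmem := hN c hc hc1 (x * y)
    refine le_antisymm ?_ (Subgroup.zpowers_le.2 hmem)
    refine le_of_eq (Subgroup.eq_of_le_of_card_ge (Subgroup.zpowers_le.2 hmem) ?_).symm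
    rw [Nat.card_zpowers, Nat.card_zpowers, orderOf_eq_prime hcp hc1,
      orderOf_eq_prime (by rw [← pow_mul, ← pow_two]; exact hexp _) hxy]
  refine ⟨⟨x, y, hgen⟩, hclass, ?_, ?_, ?_⟩
  · obtain ⟨k, hk2, hk⟩ := (Nat.dvd_prime_pow hp).1 (Monoid.exponent_dvd_of_forall_pow_eq_one hexp)
    rcases Nat.lt_or_ge k 2 with hlt | hge
    · exfalso
      refine hxy ?_
      obtain ⟨d, hd⟩ : Monoid.exponent G ∣ p := by
        rw [hk]; simpa using pow_dvd_pow p (show k ≤ 1 by omega)
      rw [hd, pow_mul, Monoid.pow_exponent_eq_one, one_pow]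
    · rw [hk, le_antisymm hk2 hge]
  · by_cases hc : ∃ c : Subgroup.center G, c ^ p ≠ 1
    · obtain ⟨c, hc⟩ := hc
      refine ⟨⟨c, fun d => ?_⟩⟩
      have hcp : (c : G) ^ p ≠ 1 := fun h => hc (Subtype.ext (by simpa using h))
      have hcpp : ((c : G) ^ p) ^ p = 1 := by rw [← pow_mul, ← pow_two]; exact hexp _
      obtain ⟨i, hi⟩ := hN _ (pow_mem c.2 p) hcp (d : G)
      replace hi : ((c : G) ^ p) ^ i = (d : G) ^ p := hi
      by_cases he : d * (c ^ i)⁻¹ = 1
      · exact ⟨i, (mul_inv_eq_one.1 he).symm⟩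
      · have he' : ((d : G) * ((c : G) ^ i)⁻¹) ^ p = 1 := by
          have hcm : Commute (d : G) ((c : G) ^ i)⁻¹ :=
            ((Subgroup.mem_center_iff.1 d.2 _).symm : _)
          rw [hcm.mul_pow, inv_pow, ← zpow_natCast ((c : G) ^ i), ← zpow_mul, mul_comm i, zpow_mul,
            zpow_natCast, hi, mul_inv_cancel]
        have h2 := huniq _ (mul_mem d.2 (inv_mem (zpow_mem c.2 i)))
          (fun h => he (Subtype.ext (by simpa using h))) he'
        rw [← huniq _ (pow_mem c.2 p) hcp hcpp] at h2
        have h3 : (d : G) * ((c : G) ^ i)⁻¹ ∈ Subgroup.zpowers ((c : G) ^ p) :=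
          h2 ▸ Subgroup.mem_zpowers _
        obtain ⟨j, hj⟩ := h3
        replace hj : ((c : G) ^ p) ^ j = (d : G) * ((c : G) ^ i)⁻¹ := hj
        refine ⟨(p : ℤ) * j + i, Subtype.ext ?_⟩
        show ((c ^ ((p : ℤ) * j + i) : Subgroup.center G) : G) = d
        rw [Subgroup.coe_zpow, zpow_add, zpow_mul, zpow_natCast, hj, inv_mul_cancel_right]
    · push Not at hc
      refine ⟨⟨z, fun d => ?_⟩⟩
      rcases eq_or_ne d 1 with rfl | hd
      · exact ⟨0, zpow_zero _⟩
      · have h1 := huniq _ d.2 (fun h => hd (Subtype.ext h)) (by simpa using congrArg Subtype.val (hc d))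
        rw [← huniq _ z.2 hz1 (by rw [← hz', pow_orderOf_eq_one])] at h1
        obtain ⟨i, hi⟩ := (h1 ▸ Subgroup.mem_zpowers (d : G) : (d : G) ∈ Subgroup.zpowers (z : G))
        exact ⟨i, Subtype.ext (by simpa using hi)⟩
  · set D := fun i => (⊤ : Subgroup G).lowerCentralSeries i with hD
    have hp2 : 2 ≤ p := hp.two_le
    have hstrict : ∀ i, D i ≠ ⊥ → p * Nat.card (D (i + 1)) ≤ Nat.card (D i) := by
      intro i hi
      have hle : D (i + 1) ≤ D i := Subgroup.lowerCentralSeries_antitone _ (Nat.le_succ i)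
      have hne : D (i + 1) ≠ D i := by
        intro heq
        obtain ⟨n, hn⟩ := Subgroup.nilpotent_iff_lowerCentralSeries.1 hnil
        have hall : ∀ j, D (i + j) = D i := by
          intro j
          induction j with
          | zero => rfl
          | succ j ih =>
            show ⁅D (i + j), (⊤ : Subgroup G)⁆ = D i
            rw [ih]
            exact heq
        refine hi (eq_bot_iff.2 ?_)
        rw [← hall n, ← hn]
        exact Subgroup.lowerCentralSeries_antitone _ (Nat.le_add_left n i)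
      obtain ⟨a, ha⟩ := IsPGroup.iff_card.1 (hG.to_subgroup (D i))
      obtain ⟨b, hb⟩ := IsPGroup.iff_card.1 (hG.to_subgroup (D (i + 1)))
      have hlt : b < a := by
        by_contra hge
        exact hne (Subgroup.eq_of_le_of_card_ge hle (by
          rw [ha, hb]; exact Nat.pow_le_pow_right hp.pos (not_lt.1 hge)))
      rw [ha, hb, mul_comm, ← pow_succ]
      exact Nat.pow_le_pow_right hp.pos hlt
    have hdown : ∀ j, j ≤ p - 2 → p ^ (j + 1) ≤ Nat.card (D (p - 1 - j)) := by
      intro j
      induction j with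
      | zero =>
        intro _
        obtain ⟨a, ha⟩ := IsPGroup.iff_card.1 (hG.to_subgroup (D (p - 1)))
        rw [Nat.sub_zero, ha]
        refine Nat.pow_le_pow_right hp.pos (Nat.one_le_iff_ne_zero.2 fun h0 => hclass ?_)
        rw [h0, pow_zero] at ha
        exact Subgroup.card_eq_one.1 ha
      | succ j ih =>
        intro hj
        have h1 := ih (by omega)
        have e : p - 1 - j = p - 1 - (j + 1) + 1 := by omega
        rw [e] at h1
        have hne : D (p - 1 - (j + 1)) ≠ ⊥ := fun h0 => hclass (eq_bot_iff.2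
          (h0 ▸ Subgroup.lowerCentralSeries_antitone _ (by omega : p - 1 - (j + 1) ≤ p - 1)))
        calc p ^ (j + 1 + 1) = p * p ^ (j + 1) := by rw [pow_succ' p (j + 1)]
          _ ≤ p * Nat.card (D (p - 1 - (j + 1) + 1)) := Nat.mul_le_mul_left p h1
          _ ≤ _ := hstrict _ hne
    have h1 := hdown (p - 2) le_rfl
    rw [show p - 1 - (p - 2) = 1 by omega, show p - 2 + 1 = p - 1 by omega] at h1
    have hD1 : D 1 = _root_.commutator G := by
      show ⁅(⊤ : Subgroup G), (⊤ : Subgroup G)⁆ = _
      rw [_root_.commutator_def]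
    rw [hD1] at h1
    have hne : _root_.commutator G ≠ ⊥ := fun h0 => by
      rw [h0, Subgroup.card_bot] at h1
      exact absurd (Nat.lt_of_lt_of_le (Nat.one_lt_pow (show p - 1 ≠ 0 by omega) hp.one_lt) h1) (lt_irrefl 1)
    obtain ⟨k, hk⟩ := hG.index (_root_.commutator G)
    have hk2 : 2 ≤ k := by
      by_contra hlt
      obtain ⟨g, hg⟩ : ∃ g : G, Subgroup.zpowers g ⊔ _root_.commutator G = ⊤ := by
        rcases (show k = 0 ∨ k = 1 by omega) with rfl | rfl
        · rw [pow_zero, Subgroup.index_eq_one] at hk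
          exact ⟨1, by rw [hk, sup_top_eq]⟩
        · rw [pow_one] at hk
          obtain ⟨g, hg⟩ : ∃ g, g ∉ _root_.commutator G := by
            by_contra hcon
            push Not at hcon
            rw [(eq_top_iff.2 fun g _ => hcon g : _root_.commutator G = ⊤), Subgroup.index_top] at hk
            exact hp.one_lt.ne hk
          refine ⟨g, Subgroup.index_eq_one.1 ?_⟩
          rcases (Nat.dvd_prime hp).1 (hk ▸ Subgroup.index_dvd_of_le
            (le_sup_right : _root_.commutator G ≤ Subgroup.zpowers g ⊔ _root_.commutator G)) with e | e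
          · exact e
          · exfalso
            have hle : _root_.commutator G ≤ Subgroup.zpowers g ⊔ _root_.commutator G := le_sup_right
            have := Subgroup.relIndex_mul_index hle
            rw [e, hk] at this
            have h1 : (_root_.commutator G).relIndex (Subgroup.zpowers g ⊔ _root_.commutator G) = 1 :=
              Nat.eq_of_mul_eq_mul_right hp.pos (this.trans (one_mul p).symm)
            exact hg (Subgroup.relIndex_eq_one.1 h1 (Subgroup.mem_sup_left (Subgroup.mem_zpowers g)))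
      exact Cfsg.Agent.Solv.Reg.sup_commutator_ne_top hne g hg
    rw [← (_root_.commutator G).card_mul_index, hk]
    calc p ^ (p + 1) = p ^ (p - 1) * p ^ 2 := by rw [← pow_add]; congr 1; omega
      _ ≤ _ := Nat.mul_le_mul h1 (Nat.pow_le_pow_right hp.pos hk2)

end Cfsg.Agent.S3872
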