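import Cfsg.Statements.S3873
import Cfsg.Agent.Lib.Struct.MinimalNonPClosed
import Cfsg.Agent.Lib.Solv.SchurZassenhaus
import Mathlib

set_option autoImplicit false
open Cfsg

namespace Cfsg.Agent.S3873
open scoped Pointwise

/-- Say that a finite group is p-exponent closed when its elements of order dividing p form a subgroup. Let G be a finite group that is not p-exponent closed, but all of whose proper subgroups and proper quotients are, and suppose G is neither simple nor a p-group. Then there is a prime q ≠ p such that G has order p · q^e, where e is the multiplicative order of q modulo p, and G has a normal elementary abelian subgroup of order q^e that is a minimal normal subgroup of G. -/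
theorem result {G : Type*} [Group G] [Finite G] {p : ℕ} [Fact p.Prime]
    (hnc : ¬ (∃ H : Subgroup G, (H : Set G) = {g : G | g ^ p = 1})) (hsub : ∀ K : Subgroup G, K ≠ ⊤ → (∃ H : Subgroup ↥K, (H : Set ↥K) = {g : ↥K | g ^ p = 1}))
    (hquo : ∀ (N : Subgroup G) [N.Normal], N ≠ ⊥ → (∃ H : Subgroup (G ⧸ N), (H : Set (G ⧸ N)) = {g : (G ⧸ N) | g ^ p = 1}))
    (hns : ¬ IsSimpleGroup G) (hnp : ¬ IsPGroup p G) :
    ∃ q : ℕ, q.Prime ∧ q ≠ p ∧ Nat.card G = p * q ^ orderOf (q : ZMod p) ∧
      ∃ A : Subgroup G, A.Normal ∧ Nat.card ↥A = q ^ orderOf (q : ZMod p) ∧ Cfsg.IsElementaryAbelian q A ∧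
        ∀ B : Subgroup G, B.Normal → B ≤ A → B = ⊥ ∨ B = A := by
  classical
  have hp : p.Prime := Fact.out
  obtain ⟨x, y, hx, hy, hxy⟩ : ∃ x y : G, x ^ p = 1 ∧ y ^ p = 1 ∧ (x * y) ^ p ≠ 1 := by
    by_contra hcon
    push Not at hcon
    exact hnc ⟨{ carrier := {g | g ^ p = 1}
                 mul_mem' := fun {a b} ha hb => hcon a b ha hb
                 one_mem' := one_pow p
                 inv_mem' := fun {a} (ha : a ^ p = 1) => by
                   show a⁻¹ ^ p = 1
                   rw [inv_pow, ha, inv_one] }, rfl⟩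
  have hgen : Subgroup.closure ({x, y} : Set G) = ⊤ := by
    by_contra hne
    obtain ⟨H, hH⟩ := hsub _ hne
    have hx' : (⟨x, Subgroup.subset_closure (by simp)⟩ : Subgroup.closure ({x, y} : Set G)) ∈ H := by
      rw [← SetLike.mem_coe, hH]; exact Subtype.ext (by simpa using hx)
    have hy' : (⟨y, Subgroup.subset_closure (by simp)⟩ : Subgroup.closure ({x, y} : Set G)) ∈ H := by
      rw [← SetLike.mem_coe, hH]; exact Subtype.ext (by simpa using hy)
    have := H.mul_mem hx' hy'
    rw [← SetLike.mem_coe, hH] at this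
    exact hxy (by simpa using congrArg Subtype.val this)
  have hpow : ∀ (N : Subgroup G) [N.Normal], N ≠ ⊥ → ∀ g : G, g ^ p ∈ N := by
    intro N _ hN g
    obtain ⟨H, hH⟩ := hquo N hN
    have hH' : ∀ a : G, QuotientGroup.mk' N a ∈ H ↔ a ^ p ∈ N := fun a => by
      rw [← SetLike.mem_coe, hH, Set.mem_setOf_eq, ← map_pow, QuotientGroup.mk'_apply,
        QuotientGroup.eq_one_iff]
    have : Subgroup.closure ({x, y} : Set G) ≤ H.comap (QuotientGroup.mk' N) := by
      rw [Subgroup.closure_le]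
      rintro a (rfl | ha)
      · exact (hH' a).2 (by rw [hx]; exact one_mem _)
      · rw [Set.mem_singleton_iff] at ha
        subst ha
        exact (hH' a).2 (by rw [hy]; exact one_mem _)
    rw [hgen] at this
    exact (hH' g).1 (this (Subgroup.mem_top g))
  haveI : Nontrivial G := ⟨⟨_, _, hxy⟩⟩
  obtain ⟨N0, hN0n, hN0, hN0'⟩ : ∃ N : Subgroup G, N.Normal ∧ N ≠ ⊥ ∧ N ≠ ⊤ := by
    by_contra hcon
    push Not at hcon
    exact hns ⟨fun H hH => or_iff_not_imp_left.2 (hcon H hH)⟩
  haveI := hN0n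
  obtain ⟨R, hRn, -, hR0, hRmin⟩ := Cfsg.Agent.Solv.exists_minimal_normal_le hN0
  haveI := hRn
  -- `p` does not divide the order of `R`
  have hpR : ¬ p ∣ Nat.card R := by
    intro hdvd
    have hRtop : R ≠ ⊤ := fun h => by
      rcases hRmin N0 hN0n (h ▸ le_top) with e | e
      · exact hN0 e
      · exact hN0' (e.trans h)
    obtain ⟨H, hH⟩ := hsub R hRtop
    have hmem : ∀ r : R, r ∈ H ↔ r ^ p = 1 := fun r => by
      rw [← SetLike.mem_coe, hH, Set.mem_setOf_eq]
    rcases hRmin (H.map R.subtype)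
        ⟨by
          rintro _ ⟨r, hr, rfl⟩ g
          refine ⟨⟨g * r * g⁻¹, hRn.conj_mem _ r.2 g⟩, ?_, rfl⟩
          rw [SetLike.mem_coe, hmem] at hr ⊢
          apply Subtype.ext
          have hr' : (r : G) ^ p = 1 := by simpa using congrArg Subtype.val hr
          simp [conj_pow, hr']⟩ (Subgroup.map_subtype_le H) with e | e
    · obtain ⟨r, hr⟩ := exists_prime_orderOf_dvd_card' (G := R) p hdvd
      have h1 : r ∈ H := (hmem r).2 (by rw [← hr, pow_orderOf_eq_one])
      have h2 : ((r : R) : G) ∈ H.map R.subtype := Subgroup.mem_map_of_mem _ h1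
      rw [e, Subgroup.mem_bot] at h2
      rw [show r = 1 from Subtype.ext h2, orderOf_one] at hr
      exact hp.one_lt.ne hr
    · refine hnp fun g => ⟨2, ?_⟩
      have h1 : g ^ p ∈ R := hpow R hR0 g
      have h2 : g ^ p ∈ H.map R.subtype := by rw [e]; exact h1
      obtain ⟨r, hr, hre⟩ := h2
      rw [pow_two, pow_mul, ← hre]
      show ((r : R) : G) ^ p = 1
      simpa using congrArg Subtype.val ((hmem r).1 hr)
  have hcopR : ∀ c : G, c ∈ R → c ^ p = 1 → c = 1 := by
    intro c hc hcp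
    by_contra h1
    exact hpR (orderOf_eq_prime hcp h1 ▸ Subgroup.orderOf_dvd_natCard R hc)
  have hcent : ∀ (K S : Subgroup G) (z : G), K ≠ ⊤ → S ≤ K → S ≤ R → z ∈ K → z ^ p = 1 →
      ∀ r ∈ S, z * r = r * z := by
    intro K S z hK hSK hSR hz hzp r hr
    obtain ⟨H, hH⟩ := hsub K hK
    have hmem : ∀ r : K, r ∈ H ↔ r ^ p = 1 := fun r => by
      rw [← SetLike.mem_coe, hH, Set.mem_setOf_eq]
    have h1 : (⟨z, hz⟩ : K) ∈ H := (hmem _).2 (Subtype.ext (by simpa using hzp))
    have h2 : (⟨r * z⁻¹ * r⁻¹, mul_mem (mul_mem (hSK hr) (inv_mem hz)) (inv_mem (hSK hr))⟩ : K) ∈ H :=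
      (hmem _).2 (Subtype.ext (by simp [conj_pow, hzp]))
    have h3 := (hmem _).1 (H.mul_mem h1 h2)
    have h4 : (z * (r * z⁻¹ * r⁻¹)) ^ p = 1 := by simpa using congrArg Subtype.val h3
    have h5 : z * (r * z⁻¹ * r⁻¹) ∈ R := by
      rw [show z * (r * z⁻¹ * r⁻¹) = (z * r * z⁻¹) * r⁻¹ by group]
      exact R.mul_mem (hRn.conj_mem _ (hSR hr) z) (R.inv_mem (hSR hr))
    have h6 := hcopR _ h5 h4
    calc z * r = z * (r * z⁻¹ * r⁻¹) * (r * z) := by group
      _ = r * z := by rw [h6, one_mul]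
  have hRP : IsPGroup p (G ⧸ R) := fun g => by
    obtain ⟨g, rfl⟩ := QuotientGroup.mk'_surjective R g
    refine ⟨1, ?_⟩
    rw [pow_one, ← map_pow, QuotientGroup.mk'_apply, QuotientGroup.eq_one_iff]
    exact hpow R hR0 g
  -- invariant Sylow subgroups of `R`
  have hinv : ∀ (q : ℕ) [Fact q.Prime] (z : G), z ^ p = 1 → ∃ Q : Sylow q R,
      z ∈ Subgroup.normalizer ((((Q : Subgroup R).map R.subtype) : Subgroup G) : Set G) := by
    intro q _ z hz
    obtain ⟨Q0⟩ := (inferInstance : Nonempty (Sylow q R))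
    set T := Subgroup.normalizer ((((Q0 : Subgroup R).map R.subtype) : Subgroup G) : Set G) with hT
    have hsup : T ⊔ R = ⊤ := Sylow.normalizer_sup_eq_top Q0
    have hidx : ¬ p ∣ T.index := by
      intro hdvd
      refine hpR (hdvd.trans ?_)
      have e : R.relIndex (T ⊔ R) = R.relIndex T := Subgroup.relIndex_sup_right T R
      rw [hsup, Subgroup.relIndex_top_right] at e
      have h1 := R.card_mul_index
      have h2 := (R.subgroupOf T).card_mul_index
      rw [show (R.subgroupOf T).index = R.index from e.symm] at h2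
      have h3 := T.card_mul_index
      rw [← h2, ← h1] at h3
      refine Dvd.intro_left (Nat.card (R.subgroupOf T)) (Nat.eq_of_mul_eq_mul_right
        (Nat.pos_of_ne_zero (Subgroup.index_ne_zero_of_finite (H := R))) ?_)
      rw [← h3]; ring
    obtain ⟨P0⟩ := (inferInstance : Nonempty (Sylow p T))
    have hP0c : Nat.card ((P0 : Subgroup T).map T.subtype) = p ^ (Nat.card G).factorization p := by
      rw [Subgroup.card_map_of_injective T.subtype_injective, P0.card_eq_multiplicity, ← T.card_mul_index,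
        Nat.factorization_mul Nat.card_pos.ne' Subgroup.index_ne_zero_of_finite, Finsupp.add_apply,
        Nat.factorization_eq_zero_of_not_dvd hidx, add_zero]
    obtain ⟨P1, hP1⟩ := (show IsPGroup p (Subgroup.zpowers z) from
      IsPGroup.of_card_dvd_pow (n := 1) (by rw [Nat.card_zpowers, pow_one]; exact orderOf_dvd_of_pow_eq_one hz)).exists_le_sylow
    obtain ⟨g, hg⟩ := MulAction.exists_smul_eq G P1 (Sylow.ofCard _ hP0c)
    have hzg : g * z * g⁻¹ ∈ T := by
      have h1 : g * z * g⁻¹ ∈ ((g • P1 : Sylow p G) : Subgroup G) := by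
        rw [Sylow.smul_def, Sylow.pointwise_smul_def]
        exact Subgroup.smul_mem_pointwise_smul z (MulAut.conj g) _ (hP1 (Subgroup.mem_zpowers z))
      rw [hg, Sylow.coe_ofCard] at h1
      exact Subgroup.map_subtype_le _ h1
    obtain ⟨w, hw, r, hr, hwr⟩ := Subgroup.mem_sup_of_normal_right.1 (hsup ▸ Subgroup.mem_top g⁻¹ : g⁻¹ ∈ T ⊔ R)
    refine ⟨(MulAut.conj ((⟨w * r * w⁻¹, hRn.conj_mem _ hr w⟩ : R))) • Q0, ?_⟩
    set r' : R := ⟨w * r * w⁻¹, hRn.conj_mem _ hr w⟩ with hr'
    have hmap : ((((MulAut.conj r') • Q0 : Sylow q R) : Subgroup R).map R.subtype) =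
        MulAut.conj (r' : G) • ((Q0 : Subgroup R).map R.subtype) := by
      rw [Sylow.pointwise_smul_def, Cfsg.Agent.Solv.map_conj_smul]
      rfl
    rw [hmap]
    have hgw : g⁻¹ = (r' : G) * w := by
      rw [← hwr, hr']; show w * r = w * r * w⁻¹ * w; group
    rw [Subgroup.mem_normalizer_iff]
    intro a
    have hT' : ∀ u : G, (r' : G)⁻¹ * z * r' = u → u ∈ T := by
      rintro u rfl
      have e : (r' : G)⁻¹ * z * r' = w * (g * z * g⁻¹) * w⁻¹ := by
        rw [← inv_inv g, hgw]; group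
      rw [e]
      exact T.mul_mem (T.mul_mem hw hzg) (T.inv_mem hw)
    have hu := Subgroup.mem_normalizer_iff.1 (hT' _ rfl) ((r' : G)⁻¹ * a * r')
    rw [Cfsg.Agent.Solv.mem_conj_smul, Cfsg.Agent.Solv.mem_conj_smul, hu]
    rw [show (r' : G)⁻¹ * z * r' * ((r' : G)⁻¹ * a * r') * ((r' : G)⁻¹ * z * r')⁻¹ =
      (r' : G)⁻¹ * (z * a * z⁻¹) * r' by group]
  -- the main case
  have main : ∀ z : G, z ^ p = 1 → (∃ (q : ℕ) (_ : Fact q.Prime), q ∣ Nat.card R ∧ ∃ Q : Subgroup G,
      Q ≤ R ∧ IsPGroup q Q ∧ Q ≠ ⊥ ∧ z ∈ Subgroup.normalizer (Q : Set G) ∧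
        Q ⊔ Subgroup.zpowers z = ⊤) ∨ ∀ r ∈ R, z * r = r * z := by
    intro z hz
    by_contra hcon
    rw [not_or] at hcon
    obtain ⟨hc1, hc2⟩ := hcon
    apply hc2
    have hle : R ≤ Subgroup.centralizer ({z} : Set G) := by
      rw [← Subgroup.relIndex_eq_one]
      by_contra hne
      obtain ⟨q, hq, hdvd⟩ := Nat.exists_prime_and_dvd hne
      haveI : Fact q.Prime := ⟨hq⟩
      obtain ⟨Q, hQ⟩ := hinv q z hz
      have hqR : q ∣ Nat.card R := hdvd.trans (Subgroup.relIndex_dvd_card _ R)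
      refine Q.not_dvd_index (hdvd.trans (Subgroup.index_dvd_of_le fun a ha => ?_))
      rw [Subgroup.mem_subgroupOf, Subgroup.mem_centralizer_singleton_iff]
      have hne' : (Q : Subgroup R).map R.subtype ⊔ Subgroup.zpowers z ≠ ⊤ := by
        intro htop
        refine hc1 ⟨q, inferInstance, hqR, _, Subgroup.map_subtype_le _, Q.2.map _, ?_, hQ, htop⟩
        intro h0
        rw [Subgroup.map_eq_bot_iff_of_injective _ R.subtype_injective] at h0
        exact Q.ne_bot_of_dvd_card hqR h0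
      exact (hcent _ _ z hne' le_sup_left (Subgroup.map_subtype_le _) (Subgroup.mem_sup_right (Subgroup.mem_zpowers z)) hz
        (a : G) (Subgroup.mem_map_of_mem _ ha)).symm
    exact fun r hr => (Subgroup.mem_centralizer_singleton_iff.1 (hle hr)).symm
  have hna : ¬ IsMulCommutative G := fun h => hxy (by
    have hc : Commute x y := h.is_comm.comm x y
    rw [hc.mul_pow, hx, hy, one_mul])
  have finish : ∀ z : G, z ^ p = 1 → (∃ (q : ℕ) (_ : Fact q.Prime), q ∣ Nat.card R ∧ ∃ Q : Subgroup G,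
      Q ≤ R ∧ IsPGroup q Q ∧ Q ≠ ⊥ ∧ z ∈ Subgroup.normalizer (Q : Set G) ∧
        Q ⊔ Subgroup.zpowers z = ⊤) →
      ∃ q : ℕ, q.Prime ∧ q ≠ p ∧ Nat.card G = p * q ^ orderOf (q : ZMod p) ∧
      ∃ A : Subgroup G, A.Normal ∧ Nat.card ↥A = q ^ orderOf (q : ZMod p) ∧ Cfsg.IsElementaryAbelian q A ∧
        ∀ B : Subgroup G, B.Normal → B ≤ A → B = ⊥ ∨ B = A := by
    rintro z hz ⟨q, hq, hqR, Q, hQR, hQp, hQ0, hzN, htop⟩
    have hQn : Q.Normal := by
      rw [← Subgroup.normalizer_eq_top_iff, eq_top_iff, ← htop]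
      exact sup_le Subgroup.le_normalizer (Subgroup.zpowers_le.2 hzN)
    obtain rfl : Q = R := (hRmin Q hQn hQR).resolve_left hQ0
    have hqp : q ≠ p := fun h => hpR (h ▸ hqR)
    haveI : Group.IsNilpotent Q := hQp.isNilpotent
    obtain ⟨hc, r, hr, hrexp⟩ := Cfsg.Agent.Solv.minimal_normal_elementary Q hQ0 hRmin
    obtain rfl : r = q := by
      obtain ⟨a, ha⟩ := exists_prime_orderOf_dvd_card' (G := Q) q hqR
      have h1 : orderOf a ∣ r := orderOf_dvd_of_pow_eq_one (Subtype.ext (by simpa using hrexp _ a.2))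
      rw [ha] at h1
      exact ((Nat.prime_dvd_prime_iff_eq hq.out hr).1 h1).symm
    have hidx : Q.index = p := by
      have hz1 : z ∉ Q := by
        intro hzQ
        rw [sup_eq_left.2 (Subgroup.zpowers_le.2 hzQ)] at htop
        exact hpR (by
          rw [htop, Subgroup.card_top]
          rw [← orderOf_eq_prime hx (fun h => hxy (by rw [h, one_mul, hy]))]
          exact orderOf_dvd_natCard x)
      have hzo : orderOf z = p := orderOf_eq_prime hz (fun h => hz1 (h ▸ one_mem Q))
      have h1 := Cfsg.Agent.Solv.card_sup_of_coprime (N := Q) (H := Subgroup.zpowers z)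
        Subgroup.le_normalizer_of_normal (by
          rw [Nat.card_zpowers, hzo]; exact (hp.coprime_iff_not_dvd.2 hpR).symm)
      rw [htop, Subgroup.card_top, Nat.card_zpowers, hzo, ← Q.card_mul_index] at h1
      exact Nat.eq_of_mul_eq_mul_left Nat.card_pos h1
    have hcard := Cfsg.Agent.Struct.MinimalNonPClosed.card_minimal_normal hr hqp hna Q ⟨hc, hrexp⟩ hidx hRmin
    refine ⟨_, hr, hqp, ?_, Q, hQn, hcard, ⟨hc, hrexp⟩, hRmin⟩
    rw [← Q.card_mul_index, hidx, hcard, mul_comm]
  rcases main x hx with h | hxR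
  · exact finish x hx h
  rcases main y hy with h | hyR
  · exact finish y hy h
  -- both centralise `R`
  exfalso
  have hRc : R ≤ Subgroup.center G := fun r hr => by
    rw [Subgroup.mem_center_iff]
    intro g
    have : Subgroup.closure ({x, y} : Set G) ≤ Subgroup.centralizer ({r} : Set G) := by
      rw [Subgroup.closure_le]
      rintro a (rfl | ha)
      · exact Subgroup.mem_centralizer_singleton_iff.2 (hxR r hr)
      · rw [Set.mem_singleton_iff] at ha
        subst ha
        exact Subgroup.mem_centralizer_singleton_iff.2 (hyR r hr)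
    rw [hgen] at this
    exact Subgroup.mem_centralizer_singleton_iff.1 (this (Subgroup.mem_top g))
  obtain ⟨P⟩ := (inferInstance : Nonempty (Sylow p G))
  have hPR : (P : Subgroup G) ⊔ R = ⊤ := by
    rw [← Subgroup.index_eq_one]
    by_contra hne
    obtain ⟨q, hq, hdvd⟩ := Nat.exists_prime_and_dvd hne
    obtain ⟨k, hk⟩ := IsPGroup.iff_card.1 hRP
    have h1 := hdvd.trans (Subgroup.index_dvd_of_le (le_sup_right : R ≤ (P : Subgroup G) ⊔ R))
    rw [R.index_eq_card, hk] at h1
    obtain rfl := (Nat.prime_dvd_prime_iff_eq hq hp).1 (hq.dvd_of_dvd_pow h1)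
    exact P.not_dvd_index (hdvd.trans (Subgroup.index_dvd_of_le le_sup_left))
  have hPn : (P : Subgroup G).Normal := by
    rw [← Subgroup.normalizer_eq_top_iff, eq_top_iff, ← hPR]
    refine sup_le Subgroup.le_normalizer fun r hr => Subgroup.mem_normalizer_iff.2 fun a => ?_
    rw [← Subgroup.mem_center_iff.1 (hRc hr) a, mul_inv_cancel_right]
  have hall : ∀ a : G, a ^ p = 1 → a ∈ (P : Subgroup G) := fun a ha => by
    obtain ⟨P', hP'⟩ := (show IsPGroup p (Subgroup.zpowers a) from
      IsPGroup.of_card_dvd_pow (n := 1) (by rw [Nat.card_zpowers, pow_one]; exact orderOf_dvd_of_pow_eq_one ha)).exists_le_sylow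
    haveI := Sylow.unique_of_normal P hPn
    rw [Subsingleton.elim P' P] at hP'
    exact hP' (Subgroup.mem_zpowers a)
  refine hnp ((P.2.to_le (show (⊤ : Subgroup G) ≤ P by
    rw [← hgen, Subgroup.closure_le]
    rintro a (rfl | ha)
    · exact hall _ hx
    · rw [Set.mem_singleton_iff] at ha; subst ha; exact hall _ hy)).of_equiv Subgroup.topEquiv)

end Cfsg.Agent.S3873
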