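import Cfsg.Statements.S3878
import Cfsg.Agent.S0713
import Mathlib

set_option autoImplicit false
open Cfsg

namespace Cfsg.Agent.S3878

open Equiv

open scoped Pointwise

/-- A `π`-subgroup of `Sym(q^a)` cannot contain Sylow subgroups for two primes `p < q` when `r ≤ q^a`
is a prime outside `π`. -/
theorem no_subgroup {π : Set ℕ} {p q r : ℕ} [Fact p.Prime] [Fact q.Prime] (hpq : p < q) (hr : r.Prime) (hrπ : r ∉ π)
    {n a : ℕ} (hn : n = q ^ a) (h5 : 5 ≤ n) (hp3 : p + 3 ≤ n) (hrn : r ≤ n)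
    (H : Subgroup (Perm (Fin n))) (hH : IsPiSubgroup π H)
    (P : Sylow p (Perm (Fin n))) (hP : (P : Subgroup (Perm (Fin n))) ≤ H)
    (Q : Sylow q (Perm (Fin n))) (hQ : (Q : Subgroup (Perm (Fin n))) ≤ H) : False := by
  classical
  have hp : p.Prime := Fact.out
  have hq : q.Prime := Fact.out
  -- every `p`-subgroup and every `q`-subgroup has a conjugate inside `H`
  have hconj : ∀ (ℓ : ℕ) [Fact ℓ.Prime] (S : Sylow ℓ (Perm (Fin n))), (S : Subgroup (Perm (Fin n))) ≤ H →
      ∀ R : Subgroup (Perm (Fin n)), IsPGroup ℓ R → ∃ σ : Perm (Fin n), ∀ x ∈ R, σ * x * σ⁻¹ ∈ H := by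
    intro ℓ _ S hS R hR
    obtain ⟨T, hT⟩ := hR.exists_le_sylow
    obtain ⟨σ, hσ⟩ := MulAction.exists_smul_eq (Perm (Fin n)) T S
    refine ⟨σ, fun x hx => hS ?_⟩
    show σ * x * σ⁻¹ ∈ (S : Subgroup (Perm (Fin n)))
    rw [← hσ, Sylow.coe_subgroup_smul]
    exact ⟨x, hT hx, rfl⟩
  -- transitivity
  obtain ⟨σ, hσ⟩ := hconj q Q hQ (Subgroup.zpowers (finRotate n)) (IsPGroup.of_card (n := a) (by
    rw [Nat.card_zpowers, ← hn]
    obtain ⟨m, rfl⟩ : ∃ m, n = m + 2 := ⟨n - 2, by omega⟩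
    rw [(isCycle_finRotate).orderOf, support_finRotate, Finset.card_univ, Fintype.card_fin]))
  have htr : MulAction.IsPretransitive H (Fin n) := by
    refine ⟨fun x y => ?_⟩
    obtain ⟨m, rfl⟩ : ∃ m, n = m + 2 := ⟨n - 2, by omega⟩
    have hmove : ∀ z : Fin (m + 2), finRotate (m + 2) z ≠ z := fun z => Perm.mem_support.1 (by rw [support_finRotate]; exact Finset.mem_univ z)
    obtain ⟨i, hi⟩ := (isCycle_finRotate (n := m)).exists_zpow_eq (hmove (σ⁻¹ x)) (hmove (σ⁻¹ y))
    refine ⟨⟨σ * (finRotate (m + 2)) ^ i * σ⁻¹, hσ _ (zpow_mem (Subgroup.mem_zpowers _) i)⟩, ?_⟩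
    show σ ((finRotate (m + 2) ^ i) (σ⁻¹ x)) = y
    rw [hi]
    exact σ.apply_symm_apply y
  -- disjoint `p`-cycles
  haveI : NeZero p := ⟨hp.ne_zero⟩
  set m := n / p with hm
  have hmn : m * p ≤ n := Nat.div_mul_le_self n p
  let e : Fin m × ZMod p ↪ Fin n :=
    ((Equiv.prodCongr (Equiv.refl (Fin m)) (ZMod.finEquiv p).symm.toEquiv).trans finProdFinEquiv).toEmbedding.trans
      (Fin.castLEEmb hmn)
  let Φ : Multiplicative (Fin m → ZMod p) →* Perm (Fin m × ZMod p) := MonoidHom.mk'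
    (fun f => Equiv.prodShear (Equiv.refl (Fin m)) (fun i => Equiv.addRight (Multiplicative.toAdd f i)))
    (fun f g => Equiv.ext fun x => by
      show (x.1, x.2 + (Multiplicative.toAdd f x.1 + Multiplicative.toAdd g x.1)) =
        (x.1, x.2 + Multiplicative.toAdd g x.1 + Multiplicative.toAdd f x.1)
      rw [add_comm (Multiplicative.toAdd f x.1), add_assoc])
  let Ψ := (Perm.viaEmbeddingHom e).comp Φ
  have hΨp : IsPGroup p Ψ.range := by
    refine IsPGroup.of_surjective ?_ Ψ.rangeRestrict (MonoidHom.rangeRestrict_surjective _)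
    exact IsPGroup.of_card (n := m) (by
      rw [Nat.card_congr Multiplicative.toAdd, Nat.card_fun, Nat.card_zmod, Nat.card_eq_fintype_card, Fintype.card_fin])
  obtain ⟨τ, hτ⟩ := hconj p P hP _ hΨp
  have hcyc : ∀ i : Fin m, ∃ c ∈ H, (∀ x, c x ≠ x ↔ ∃ j : ZMod p, x = τ (e (i, j))) ∧
      ∀ j k : ZMod p, ∃ l : ℕ, (c ^ l) (τ (e (i, j))) = τ (e (i, k)) := by
    intro i
    let f : Multiplicative (Fin m → ZMod p) := Multiplicative.ofAdd (Pi.single i 1)
    refine ⟨τ * Ψ f * τ⁻¹, hτ _ ⟨f, rfl⟩, fun x => ?_, fun j k => ?_⟩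
    · show τ (Ψ f (τ⁻¹ x)) ≠ x ↔ _
      have hx : τ (τ⁻¹ x) = x := τ.apply_symm_apply x
      constructor
      · intro h
        have hne : Ψ f (τ⁻¹ x) ≠ τ⁻¹ x := fun h' => h (by rw [h', hx])
        have hmem : τ⁻¹ x ∈ Set.range e := by
          by_contra hno
          exact hne (Perm.viaEmbedding_apply_of_notMem (Φ f) e _ hno)
        obtain ⟨⟨i', j⟩, hij⟩ := hmem
        refine ⟨j, ?_⟩
        by_cases hi : i' = i
        · subst hi; rw [hij, hx]
        · exfalso
          apply hne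
          rw [← hij]
          show Perm.viaEmbedding (Φ f) e (e (i', j)) = _
          rw [Perm.viaEmbedding_apply]
          congr 1
          show (i', j + (Pi.single i (1 : ZMod p) : Fin m → ZMod p) i') = (i', j)
          rw [Pi.single_eq_of_ne hi, add_zero]
      · rintro ⟨j, rfl⟩ h
        rw [show τ⁻¹ (τ (e (i, j))) = e (i, j) from τ.symm_apply_apply _] at h
        have h1 : Perm.viaEmbedding (Φ f) e (e (i, j)) = e (i, j) := τ.injective h
        rw [Perm.viaEmbedding_apply] at h1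
        have h2 : (i, j + (Pi.single i (1 : ZMod p) : Fin m → ZMod p) i) = (i, j) := e.injective h1
        rw [Pi.single_eq_same] at h2
        exact one_ne_zero (add_left_cancel (a := j) (by rw [add_zero]; exact (Prod.ext_iff.1 h2).2))
    · refine ⟨(k - j).val, ?_⟩
      rw [← MulAut.conj_apply, ← map_pow, MulAut.conj_apply, ← map_pow]
      show τ (Ψ (f ^ (k - j).val) (τ⁻¹ (τ (e (i, j))))) = _
      rw [show τ⁻¹ (τ (e (i, j))) = e (i, j) from τ.symm_apply_apply _]
      show τ (Perm.viaEmbedding (Φ (f ^ (k - j).val)) e (e (i, j))) = _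
      rw [Perm.viaEmbedding_apply]
      congr 2
      show (i, j + Multiplicative.toAdd (f ^ (k - j).val) i) = (i, k)
      simp [f]
  choose c hcH hcsupp hctr using hcyc
  -- primitivity
  have hprim : MulAction.IsPreprimitive H (Fin n) := by
    refine { htr with isTrivialBlock_of_isBlock := fun {B} hB => ?_ }
    by_contra htriv
    simp only [MulAction.IsTrivialBlock, not_or, Set.not_subsingleton_iff] at htriv
    obtain ⟨hB2, hBu⟩ := htriv
    have hBne : B.Nonempty := hB2.nonempty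
    have hmul := hB.ncard_block_mul_ncard_orbit_eq hBne
    rw [Nat.card_eq_fintype_card, Fintype.card_fin] at hmul
    obtain ⟨b, -, hb⟩ := (Nat.dvd_prime_pow hq).1 (hn ▸ Dvd.intro _ hmul : B.ncard ∣ q ^ a)
    have hB1 : 1 < B.ncard := (Set.one_lt_ncard_iff_nontrivial (s := B)).2 hB2
    have hb0 : b ≠ 0 := by rintro rfl; rw [hb, pow_zero] at hB1; omega
    have hqB : q ≤ B.ncard := by rw [hb]; exact Nat.le_self_pow hb0 q
    obtain ⟨b', hb'⟩ : q ∣ (MulAction.orbit H B).ncard := by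
      obtain ⟨d, -, hd⟩ := (Nat.dvd_prime_pow hq).1 (hn ▸ Dvd.intro_left _ hmul : (MulAction.orbit H B).ncard ∣ q ^ a)
      rw [hd]
      refine dvd_pow_self q ?_
      rintro rfl
      rw [hd, pow_zero, mul_one] at hmul
      exact hBu (Set.eq_of_subset_of_ncard_le (Set.subset_univ B) (by rw [Set.ncard_univ, Nat.card_eq_fintype_card, Fintype.card_fin, hmul]))
    have hqorb : q ≤ (MulAction.orbit H B).ncard := Nat.le_of_dvd
      (Nat.pos_of_ne_zero fun h0 => by rw [h0, mul_zero] at hmul; omega) ⟨b', hb'⟩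
    set U : Set (Fin n) := (Set.range fun ij : Fin m × ZMod p => τ (e ij))ᶜ with hU
    have hUcard : U.ncard < p := by
      rw [hU, Set.ncard_compl, Set.ncard_range_of_injective (f := fun ij : Fin m × ZMod p => τ (e ij)) (τ.injective.comp e.injective)]
      simp only [Nat.card_prod, Nat.card_fin, Nat.card_zmod]
      have := Nat.mod_lt n hp.pos
      have := Nat.div_add_mod n p
      rw [← hm, mul_comm] at this
      omega
    -- every translate meets `U`
    have hmeet : ∀ T : MulAction.orbit H B, ∃ x, x ∈ U ∧ x ∈ (T : Set (Fin n)) := by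
      rintro ⟨T, g, rfl⟩
      show ∃ x, x ∈ U ∧ x ∈ g • B
      by_contra hno
      push Not at hno
      have hT : MulAction.IsBlock H (g • B) := hB.translate g
      have hTcard : (g • B).ncard = q ^ b := by rw [Set.ncard_smul_set, hb]
      have hfull : ∀ (i : Fin m) (j k : ZMod p), τ (e (i, j)) ∈ g • B → τ (e (i, k)) ∈ g • B := by
        intro i j k hj
        let γ : H := ⟨c i, hcH i⟩
        rcases hT.smul_eq_or_disjoint γ with hfix | hdis
        · obtain ⟨l, hl⟩ := hctr i j k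
          have hl' : (γ ^ l) • (g • B) = g • B := by
            clear hl
            induction l with
            | zero => rw [pow_zero, one_smul]
            | succ l ih => rw [pow_succ, mul_smul, hfix, ih]
          rw [← hl', ← hl]
          exact ⟨_, hj, rfl⟩
        · exfalso
          have hsub : g • B ⊆ Set.range fun j : ZMod p => τ (e (i, j)) := by
            intro x hx
            obtain ⟨j', hj'⟩ := (hcsupp i x).1 fun h => Set.disjoint_left.1 hdis ⟨x, hx, h⟩ hx
            exact ⟨j', hj'.symm⟩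
          have h1 := Set.ncard_le_ncard hsub
          rw [Set.ncard_range_of_injective (fun j k h => congrArg Prod.snd (e.injective (τ.injective h))),
            Nat.card_eq_fintype_card, ZMod.card, Set.ncard_smul_set] at h1
          omega
      -- so it is a union of `p`-sets
      let I : Set (Fin m) := {i | τ (e (i, 0)) ∈ g • B}
      have hTeq : g • B = (fun ij : Fin m × ZMod p => τ (e ij)) '' (I ×ˢ Set.univ) := by
        ext x
        constructor
        · intro hx
          have hxU : x ∉ U := fun h => hno x h hx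
          obtain ⟨⟨i, j⟩, rfl⟩ := not_not.1 hxU
          exact ⟨(i, j), ⟨hfull i j 0 hx, trivial⟩, rfl⟩
        · rintro ⟨⟨i, j⟩, ⟨hi, -⟩, rfl⟩
          exact hfull i 0 j hi
      rw [hTeq, Set.ncard_image_of_injective (f := fun ij : Fin m × ZMod p => τ (e ij)) _ (τ.injective.comp e.injective),
        Set.ncard_prod, Set.ncard_univ, Nat.card_zmod] at hTcard
      exact absurd (hp.dvd_of_dvd_pow (Dvd.intro_left _ hTcard)) fun hd => by
        rcases (Nat.dvd_prime hq).1 hd with h | h <;> [exact hp.one_lt.ne' h; omega]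
    choose u huU huT using hmeet
    have hdisj : Function.Injective fun T : MulAction.orbit H B => (⟨u T, huU T⟩ : U) := by
      rintro ⟨S, g, rfl⟩ ⟨T, g', rfl⟩ h
      have h' : u ⟨g • B, g, rfl⟩ = u ⟨g' • B, g', rfl⟩ := congrArg Subtype.val h
      refine Subtype.ext ?_
      show g • B = g' • B
      rcases MulAction.isBlock_iff_smul_eq_smul_or_disjoint.1 hB g g' with he | hd
      · exact he
      · exfalso
        have h1 := huT ⟨g • B, g, rfl⟩
        have h2 := huT ⟨g' • B, g', rfl⟩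
        rw [← h'] at h2
        exact Set.disjoint_left.1 hd h1 h2
    have hle := Nat.card_le_card_of_injective _ hdisj
    rw [Nat.card_coe_set_eq, Nat.card_coe_set_eq] at hle
    omega
  -- Jordan
  have hm0 : 0 < m := Nat.div_pos (by omega) hp.pos
  set i0 : Fin m := ⟨0, hm0⟩
  have hsupp : (c i0).support = Finset.univ.image fun j : ZMod p => τ (e (i0, j)) := by
    ext x
    rw [Perm.mem_support, hcsupp]
    simp [eq_comm]
  have hc : (c i0).IsCycle := by
    refine ⟨τ (e (i0, 0)), (hcsupp i0 _).2 ⟨0, rfl⟩, fun y hy => ?_⟩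
    obtain ⟨j, rfl⟩ := (hcsupp i0 y).1 hy
    obtain ⟨l, hl⟩ := hctr i0 0 j
    exact ⟨l, by rw [zpow_natCast]; exact hl⟩
  have halt : alternatingGroup (Fin n) ≤ H := Cfsg.Agent.S0713.result H hprim hp (by rw [Fintype.card_fin]; exact h5)
    (by rw [Fintype.card_fin]; exact hp3) hc
    (by rw [hsupp, Finset.card_image_of_injective _ (fun j k h => congrArg Prod.snd (e.injective (τ.injective h))),
      Finset.card_univ, ZMod.card]) (hcH i0)
  refine hrπ (hH r hr (dvd_trans ?_ (Subgroup.card_dvd_of_le halt)))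
  haveI : Nontrivial (Fin n) := Fin.nontrivial_iff_two_le.2 (by omega)
  have h2 := two_mul_nat_card_alternatingGroup (α := Fin n)
  rw [Nat.card_eq_fintype_card (α := Perm (Fin n)), Fintype.card_perm, Fintype.card_fin] at h2
  have hrf : r ∣ n.factorial := Nat.dvd_factorial hr.pos hrn
  rw [← h2] at hrf
  rcases eq_or_ne r 2 with rfl | h2r
  · have h24 : Nat.factorial 4 ∣ n.factorial := Nat.factorial_dvd_factorial (by omega)
    rw [← h2, show Nat.factorial 4 = 2 * 12 by rfl] at h24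
    exact dvd_trans ⟨6, rfl⟩ (Nat.dvd_of_mul_dvd_mul_left two_pos h24)
  · exact (hr.dvd_mul.1 hrf).resolve_left fun h => h2r ((Nat.prime_dvd_prime_iff_eq hr Nat.prime_two).1 h)

/-- A counterexample degree. -/
theorem exists_degree {π : Set ℕ} (h : ¬((∀ p q : ℕ, p.Prime → q.Prime → p ∈ π → q ∈ π → p = q) ∨ ∀ p : ℕ, p.Prime → p ∈ π)) :
    ∃ p q r a : ℕ, p.Prime ∧ q.Prime ∧ p ∈ π ∧ q ∈ π ∧ p < q ∧ r.Prime ∧ r ∉ π ∧ 5 ≤ q ^ a ∧ p + 3 ≤ q ^ a ∧ r ≤ q ^ a := by
  push Not at h
  obtain ⟨⟨p, q, hp, hq, hpπ, hqπ, hne⟩, r, hr, hrπ⟩ := h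
  rcases lt_or_gt_of_ne hne with hlt | hlt
  · have := Nat.lt_pow_self hq.one_lt (n := r + p + 5)
    exact ⟨p, q, r, r + p + 5, hp, hq, hpπ, hqπ, hlt, hr, hrπ, by omega, by omega, by omega⟩
  · have := Nat.lt_pow_self hp.one_lt (n := r + q + 5)
    exact ⟨q, p, r, r + q + 5, hq, hp, hqπ, hpπ, hlt, hr, hrπ, by omega, by omega, by omega⟩


/-- For a set of primes π the following are equivalent: every finite group has a Hall π-subgroup; in every finite group the maximal π-subgroups are pairwise conjugate; π contains at most one prime or contains every prime. -/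
theorem result (π : Set ℕ) :
    ((∀ (G : Type) [Group G] [Finite G], Cfsg.IsEPiGroup π G) ↔
      ((∀ p q : ℕ, p.Prime → q.Prime → p ∈ π → q ∈ π → p = q) ∨ ∀ p : ℕ, p.Prime → p ∈ π)) ∧
    ((∀ (G : Type) [Group G] [Finite G], Cfsg.IsDPiGroup π G) ↔
      ((∀ p q : ℕ, p.Prime → q.Prime → p ∈ π → q ∈ π → p = q) ∨ ∀ p : ℕ, p.Prime → p ∈ π)) := by
  classical
  refine ⟨⟨fun h => ?_, fun h G _ _ => ?_⟩, ⟨fun h => ?_, fun h G _ _ H K hH hK => ?_⟩⟩
  · by_contra hne
    obtain ⟨p, q, r, a, hp, hq, hpπ, hqπ, hpq, hr, hrπ, h5, hp3, hrn⟩ := exists_degree hne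
    haveI := Fact.mk hp
    haveI := Fact.mk hq
    obtain ⟨H, hH1, hH2⟩ := h (Equiv.Perm (Fin (q ^ a)))
    have hsyl : ∀ (ℓ : ℕ) [Fact ℓ.Prime], ℓ ∈ π → ∃ S : Sylow ℓ (Equiv.Perm (Fin (q ^ a))), (S : Subgroup _) ≤ H := by
      intro ℓ _ hℓ
      obtain ⟨T⟩ : Nonempty (Sylow ℓ H) := inferInstance
      have hT : Nat.card (((T : Subgroup H)).map H.subtype) = ℓ ^ (Nat.card (Equiv.Perm (Fin (q ^ a)))).factorization ℓ := by
        rw [← Nat.card_congr ((T : Subgroup H).equivMapOfInjective _ H.subtype_injective).toEquiv, T.card_eq_multiplicity,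
          ← H.card_mul_index, Nat.factorization_mul Nat.card_pos.ne' Subgroup.index_ne_zero_of_finite,
          Finsupp.add_apply, Nat.factorization_eq_zero_of_not_dvd (hH2 ℓ Fact.out hℓ), add_zero]
      exact ⟨Sylow.ofCard _ hT, Subgroup.map_subtype_le _⟩
    obtain ⟨P, hP⟩ := hsyl p hpπ
    obtain ⟨Q, hQ⟩ := hsyl q hqπ
    exact no_subgroup hpq hr hrπ rfl h5 hp3 hrn H hH1 P hP Q hQ
  · by_cases hall : ∀ p : ℕ, p.Prime → p ∈ π
    · exact ⟨⊤, fun p hp _ => hall p hp, fun p hp _ hd => hp.one_lt.ne' (Nat.dvd_one.1 (Subgroup.index_top (G := G) ▸ hd))⟩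
    have h1 := h.resolve_right hall
    by_cases hex : ∃ p, p.Prime ∧ p ∈ π
    · obtain ⟨p, hp, hpπ⟩ := hex
      haveI := Fact.mk hp
      obtain ⟨P⟩ : Nonempty (Sylow p G) := inferInstance
      refine ⟨P, fun ℓ hℓ hd => ?_, fun ℓ hℓ hℓπ hd => ?_⟩
      · obtain ⟨k, hk⟩ := IsPGroup.iff_card.1 P.isPGroup'
        rw [hk] at hd
        rwa [(Nat.prime_dvd_prime_iff_eq hℓ hp).1 (hℓ.dvd_of_dvd_pow hd)]
      · rw [h1 ℓ p hℓ hp hℓπ hpπ] at hd
        exact P.not_dvd_index hd
    · push Not at hex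
      refine ⟨⊥, fun ℓ hℓ hd => ?_, fun ℓ hℓ hℓπ _ => hex ℓ hℓ hℓπ⟩
      rw [Subgroup.card_bot] at hd
      exact absurd (Nat.dvd_one.1 hd) hℓ.one_lt.ne'
  · by_contra hne
    obtain ⟨p, q, r, a, hp, hq, hpπ, hqπ, hpq, hr, hrπ, h5, hp3, hrn⟩ := exists_degree hne
    haveI := Fact.mk hp
    haveI := Fact.mk hq
    have hmaxi : ∀ (ℓ : ℕ) [Fact ℓ.Prime], ℓ ∈ π → ∀ S : Sylow ℓ (Equiv.Perm (Fin (q ^ a))),
        ∃ M : Subgroup (Equiv.Perm (Fin (q ^ a))), (S : Subgroup (Equiv.Perm (Fin (q ^ a)))) ≤ M ∧ Maximal (IsPiSubgroup π) M := by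
      intro ℓ _ hℓ S
      refine Finite.exists_le_maximal (p := IsPiSubgroup π) (a := (S : Subgroup (Equiv.Perm (Fin (q ^ a))))) (fun t ht hd => ?_)
      obtain ⟨k, hk⟩ := IsPGroup.iff_card.1 S.isPGroup'
      rw [hk] at hd
      rwa [(Nat.prime_dvd_prime_iff_eq ht Fact.out).1 (ht.dvd_of_dvd_pow hd)]
    obtain ⟨P⟩ : Nonempty (Sylow p (Equiv.Perm (Fin (q ^ a)))) := inferInstance
    obtain ⟨Q⟩ : Nonempty (Sylow q (Equiv.Perm (Fin (q ^ a)))) := inferInstance
    obtain ⟨M, hPM, hM⟩ := hmaxi p hpπ P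
    obtain ⟨N, hQN, hN⟩ := hmaxi q hqπ Q
    obtain ⟨g, hg⟩ := h _ N M hN hM
    refine no_subgroup hpq hr hrπ rfl h5 hp3 hrn M hM.1 P hPM (g • Q) ?_
    rw [hg, Sylow.coe_subgroup_smul]
    exact Subgroup.map_mono hQN
  · by_cases hall : ∀ p : ℕ, p.Prime → p ∈ π
    · have htop : ∀ L : Subgroup G, IsPiSubgroup π L := fun L p hp _ => hall p hp
      have : H = ⊤ := le_antisymm le_top (hH.2 (htop ⊤) le_top)
      have : K = ⊤ := le_antisymm le_top (hK.2 (htop ⊤) le_top)
      subst_vars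
      exact ⟨1, by simp⟩
    have h1 := h.resolve_right hall
    by_cases hex : ∃ p, p.Prime ∧ p ∈ π
    · obtain ⟨p, hp, hpπ⟩ := hex
      haveI := Fact.mk hp
      have hsyl : ∀ L : Subgroup G, Maximal (IsPiSubgroup π) L → ∃ S : Sylow p G, (S : Subgroup G) = L := by
        intro L hL
        have hLp : IsPGroup p L := IsPGroup.of_card (n := (Nat.card L).primeFactorsList.length)
          (Nat.eq_prime_pow_of_unique_prime_dvd Nat.card_pos.ne' fun {d} hd hdvd => h1 d p hd hp (hL.1 d hd hdvd) hpπ)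
        obtain ⟨S, hS⟩ := hLp.exists_le_sylow
        refine ⟨S, le_antisymm (hL.2 (fun ℓ hℓ hd => ?_) hS) hS⟩
        obtain ⟨k, hk⟩ := IsPGroup.iff_card.1 S.isPGroup'
        rw [hk] at hd
        rwa [(Nat.prime_dvd_prime_iff_eq hℓ hp).1 (hℓ.dvd_of_dvd_pow hd)]
      obtain ⟨S, rfl⟩ := hsyl H hH
      obtain ⟨T, rfl⟩ := hsyl K hK
      obtain ⟨g, hg⟩ := MulAction.exists_smul_eq G S T
      exact ⟨g, by rw [← hg, Sylow.coe_subgroup_smul]; rfl⟩
    · push Not at hex
      have hbot : ∀ L : Subgroup G, IsPiSubgroup π L → L = ⊥ := fun L hL => by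
        by_contra hne
        obtain ⟨ℓ, hℓ, hd⟩ := Nat.exists_prime_and_dvd (fun h => hne (Subgroup.card_eq_one.1 h))
        exact hex ℓ hℓ (hL ℓ hℓ hd)
      rw [hbot H hH.1, hbot K hK.1]
      exact ⟨1, by simp⟩


end Cfsg.Agent.S3878
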