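import Cfsg.Statements.S3881
import Cfsg.Agent.Lib.Struct.MetacyclicCount

set_option autoImplicit false
open Cfsg
open Subgroup Cfsg.Agent.Struct.SympPlane Cfsg.Agent.Struct.Metacyclic

namespace Cfsg.Agent.S3881

/-- Let p be an odd prime and G a finite metacyclic p-group (G has a cyclic normal subgroup with cyclic quotient). Suppose G is non-abelian with |G'| = p^n. Then for 1 ≤ i ≤ n the number of elements of G whose conjugacy class has exactly p^i elements is |Z(G)| · (p^(2i) − p^(2i−2)). -/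
theorem result {G : Type*} [Group G] [Finite G] {p : ℕ} [Fact p.Prime] (hp : p ≠ 2) (hG : IsPGroup p G) (hmc : Cfsg.IsMetacyclic G) (n : ℕ) (hn : n ≠ 0) (hGn : Nat.card ↥(commutator G) = p ^ n) (i : ℕ) (hi : 1 ≤ i) (hin : i ≤ n) :
    Nat.card {g : G // (Subgroup.centralizer ({g} : Set G)).index = p ^ i} =
      Nat.card ↥(Subgroup.center G) * (p ^ (2 * i) - p ^ (2 * i - 2)) := by
  classical
  obtain ⟨D⟩ := exists_coord hG hmc n hGn
  have hset : ({g : G | (Subgroup.centralizer ({g} : Set G)).index = p ^ i}) =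
      (D.pre (lev p n i) : Set G) \ (D.pre (lev p n (i - 1)) : Set G) := by
    ext g
    show _ ↔ D.φ g ∈ lev p n i ∧ ¬ D.φ g ∈ lev p n (i - 1)
    rw [Set.mem_setOf_eq, D.index_centralizer hp, ← addOrderOf_le_iff hin, ← addOrderOf_le_iff (by omega)]
    obtain ⟨k, -, hk⟩ := exists_addOrderOf (D.φ g)
    have h1 := (Fact.out : p.Prime).one_lt
    rw [hk, Nat.pow_le_pow_iff_right h1, Nat.pow_le_pow_iff_right h1, Nat.pow_right_inj h1]
    omega
  have hle : D.pre (lev p n (i - 1)) ≤ D.pre (lev p n i) := fun g hg => by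
    show D.φ g ∈ lev p n i
    rw [← addOrderOf_le_iff hin]
    exact ((addOrderOf_le_iff (by omega) _).2 hg).trans (Nat.pow_le_pow_right (Fact.out : p.Prime).pos (by omega))
  show Nat.card ↥{g : G | (Subgroup.centralizer ({g} : Set G)).index = p ^ i} = _
  rw [hset, Nat.card_coe_set_eq, Set.ncard_diff hle (Set.toFinite _)]
  show Nat.card (D.pre (lev p n i)) - Nat.card (D.pre (lev p n (i - 1))) = _
  rw [D.card_pre hp, D.card_pre hp, card_lev hin, card_lev (by omega), Nat.mul_sub,
    mul_one, mul_comm, mul_comm (p ^ (2 * i - 2)), Nat.mul_sub]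

end Cfsg.Agent.S3881
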