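import Cfsg.Statements.S3883
import Cfsg.Agent.Lib.Struct.MetacyclicCount

set_option autoImplicit false
open Cfsg
open Subgroup Cfsg.Agent.Struct.SympPlane Cfsg.Agent.Struct.Metacyclic

namespace Cfsg.Agent.S3883

/-- Let p be an odd prime and G a finite metacyclic p-group (G has a cyclic normal subgroup with cyclic quotient). Suppose G is non-abelian. Then an element g of G lies outside the Frattini subgroup if and only if its centralizer C_G(g) is abelian. -/
theorem result {G : Type*} [Group G] [Finite G] {p : ℕ} [Fact p.Prime] (hp : p ≠ 2) (hG : IsPGroup p G) (hmc : Cfsg.IsMetacyclic G) (hna : ¬ IsMulCommutative G) (g : G) :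
    g ∉ frattini G ↔ IsMulCommutative ↥(Subgroup.centralizer ({g} : Set G)) := by
  obtain ⟨n, hn, ⟨D⟩⟩ := exists_coord' hG hmc
  have h1p := (Fact.out : p.Prime).one_lt
  have hn1 : 1 ≤ n := by
    by_contra h
    have hn0 : n = 0 := by omega
    subst hn0
    refine hna ⟨⟨fun x y => (D.comm_iff x y).2 ?_⟩⟩
    exact @Subsingleton.elim (ZMod (p ^ 0)) (by rw [pow_zero]; infer_instance) _ _
  rw [D.commutative_iff_card hp hG hn, D.index_commutator hp hn]
  have hc := D.card_mul_index_centralizer hp g
  rw [D.card_univ hp, pow_add] at hc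
  obtain ⟨k, hkn, hk⟩ := exists_addOrderOf (D.φ g)
  rw [hk] at hc
  have hpos : 0 < p ^ n := pow_pos (Fact.out : p.Prime).pos n
  have hZ : 0 < Nat.card (center G) := Nat.card_pos
  have e : Nat.card (centralizer ({g} : Set G)) ≤ p ^ n * Nat.card (center G) ↔ k = n := by
    constructor
    · intro h
      refine le_antisymm hkn ((Nat.pow_le_pow_iff_right h1p).1 ?_)
      refine Nat.le_of_mul_le_mul_left ?_ (Nat.mul_pos hpos hZ)
      calc p ^ n * Nat.card (center G) * p ^ n = Nat.card (centralizer ({g} : Set G)) * p ^ k := by rw [hc]; ring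
        _ ≤ p ^ n * Nat.card (center G) * p ^ k := Nat.mul_le_mul_right _ h
    · rintro rfl
      exact (Nat.eq_of_mul_eq_mul_right hpos (hc.trans (by ring))).le
  rw [e]
  have hfr : g ∈ frattini G ↔ D.φ g ∈ lev p n (n - 1) := by
    rw [mem_lev, show n - (n - 1) = 1 by omega, pow_one]
    constructor
    · intro hg
      have hdvd : p ∣ p ^ n := dvd_pow_self p (by omega)
      let π := ZMod.castHom hdvd (ZMod p)
      have hχ : ∀ x : G, ((D.χ x : ℤ) : ZMod p) = 1 := fun x => by
        rw [← sub_eq_zero, ← Int.cast_one, ← Int.cast_sub, ZMod.intCast_zmod_eq_zero_iff_dvd]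
        exact D.hχ x
      have hker : ∀ f : (ZMod (p ^ n) × ZMod (p ^ n)) →+ ZMod (p ^ n), Function.Surjective f →
          π (f (D.φ g)) = 0 := by
        intro f hf
        let ψ : G →* Multiplicative (ZMod p) :=
          { toFun := fun x => Multiplicative.ofAdd (π (f (D.φ x)))
            map_one' := by rw [D.φ_one, map_zero, map_zero, ofAdd_zero]
            map_mul' := fun x y => by
              rw [D.map_mul, map_add, map_zsmul, map_add, map_zsmul, zsmul_eq_mul, hχ, one_mul, ofAdd_add] }
        have hs : Function.Surjective ψ := by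
          intro z
          obtain ⟨u, hu⟩ := ZMod.castHom_surjective hdvd z.toAdd
          obtain ⟨v, rfl⟩ := hf u
          obtain ⟨x, -, rfl⟩ := (D.img_top hp).ge (AddSubgroup.mem_top v)
          exact ⟨x, by show Multiplicative.ofAdd (π (f (D.φ x))) = z; rw [hu, ofAdd_toAdd]⟩
        have hidx : ψ.ker.index = p := by
          rw [index_ker, MonoidHom.range_eq_top.2 hs, card_top, Nat.card_congr Multiplicative.toAdd, Nat.card_zmod]
        have hco : IsCoatom ψ.ker := by
          refine ⟨fun h => ?_, fun K hK => ?_⟩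
          · rw [h, index_top] at hidx; omega
          · rcases (Fact.out : p.Prime).eq_one_or_self_of_dvd K.index (hidx ▸ index_dvd_of_le hK.le) with h | h
            · exact index_eq_one.1 h
            · exact absurd (hidx.trans h.symm) (index_strictAnti hK).ne'
        exact Multiplicative.ofAdd.injective ((MonoidHom.mem_ker).1 (frattini_le_coatom hco hg))
      have key : ∀ x : ZMod (p ^ n), π x = 0 → ∃ y, x = p • y := by
        intro x hx
        obtain ⟨z, rfl⟩ := ZMod.intCast_surjective x
        rw [map_intCast, ZMod.intCast_zmod_eq_zero_iff_dvd] at hx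
        obtain ⟨u, rfl⟩ := hx
        exact ⟨(u : ZMod (p ^ n)), by rw [nsmul_eq_mul]; push_cast; rfl⟩
      obtain ⟨a, ha⟩ := key _ (hker (AddMonoidHom.fst _ _) Prod.fst_surjective)
      obtain ⟨b, hb⟩ := key _ (hker (AddMonoidHom.snd _ _) Prod.snd_surjective)
      exact ⟨(a, b), Prod.ext ha hb⟩
    · rintro ⟨v, hv⟩
      obtain ⟨i, j, hij⟩ := D.exists_coord_powers hp hn1 (g := g) ⟨v, by rw [pow_one]; exact hv⟩
      rw [hij, pow_one]
      exact mul_mem (Struct.CoprimeMinimal.pow_mem_frattini hG _) (Struct.CoprimeMinimal.pow_mem_frattini hG _)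
  rw [hfr, ← addOrderOf_le_iff (by omega : n - 1 ≤ n), hk, Nat.pow_le_pow_iff_right h1p]
  omega

end Cfsg.Agent.S3883
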