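import Cfsg.Statements.S3885
import Cfsg.Agent.Lib.Struct.MetacyclicCount

set_option autoImplicit false
open Cfsg
open Subgroup Cfsg.Agent.Struct.SympPlane Cfsg.Agent.Struct.Metacyclic

namespace Cfsg.Agent.S3885

/-- Let p be an odd prime and G a finite metacyclic p-group (G has a cyclic normal subgroup with cyclic quotient). Then every abelian subgroup K of G containing the center of G is the center of its own centralizer: K = Z(C_G(K)). -/
theorem result {G : Type*} [Group G] [Finite G] {p : ℕ} [Fact p.Prime] (hp : p ≠ 2) (hG : IsPGroup p G) (hmc : Cfsg.IsMetacyclic G) (K : Subgroup G) (hK : IsMulCommutative ↥K) (hZ : Subgroup.center G ≤ K) :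
    K = Subgroup.centralizer (K : Set G) ⊓ Subgroup.centralizer (Subgroup.centralizer (K : Set G) : Set G) := by
  obtain ⟨n, hn, ⟨D⟩⟩ := exists_coord' hG hmc
  have hN : D.img hp K ≤ perp (D.img hp K) := (D.commutative_iff hp K).1 hK
  rw [D.centralizer_eq hp, D.centralizer_eq hp, D.img_pre hp, perp_perp]
  have e : D.pre (D.img hp K) = K := by rw [D.pre_img hp, sup_eq_left.2 hZ]
  exact le_antisymm (fun g hg => ⟨hN ⟨g, hg, rfl⟩, ⟨g, hg, rfl⟩⟩) (fun g hg => e.le hg.2)

end Cfsg.Agent.S3885
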