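import Cfsg.Statements.S3886
import Cfsg.Agent.Lib.Struct.MetacyclicCount

set_option autoImplicit false
open Cfsg
open Subgroup Cfsg.Agent.Struct.SympPlane Cfsg.Agent.Struct.Metacyclic

namespace Cfsg.Agent.S3886

/-- Let p be an odd prime and G a finite metacyclic p-group (G has a cyclic normal subgroup with cyclic quotient). Then the largest value of |R| · |Z(R)| over subgroups R of G is |G : G'|², and the subgroups attaining it (the centrally large subgroups) are exactly the non-abelian subgroups together with the maximal abelian subgroups of G. -/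
theorem result {G : Type*} [Group G] [Finite G] {p : ℕ} [Fact p.Prime] (hp : p ≠ 2) (hG : IsPGroup p G) (hmc : Cfsg.IsMetacyclic G) : Cfsg.maxCentralProduct G = (commutator G).index ^ 2 ∧
    ∀ R : Subgroup G, Cfsg.IsCentrallyLarge R ↔ (¬ IsMulCommutative ↥R ∨ Maximal (fun K : Subgroup G => IsMulCommutative ↥K) R) := by
  obtain ⟨n, hn, ⟨D⟩⟩ := exists_coord' hG hmc
  have hab : ∀ S : Subgroup G, IsMulCommutative S →
      Nat.card S * Nat.card (center S) = Nat.card S ^ 2 := fun S hS => by
    rw [card_center_eq, inf_eq_left.2 (le_centralizer S), sq]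
  have hna : ∀ S : Subgroup G, ¬ IsMulCommutative S →
      Nat.card S * Nat.card (center S) = (commutator G).index ^ 2 := fun S hS => by
    have hZ := D.center_le_of_not_comm hp hG hS
    have hni : ¬ Iso (D.img hp S) := fun h => hS ((D.commutative_iff hp S).2 h)
    have e : D.pre (D.img hp S) = S := by rw [D.pre_img hp, sup_eq_left.2 hZ]
    have e2 : S ⊓ centralizer (S : Set G) = D.pre (perp (D.img hp S)) := by
      rw [D.centralizer_eq hp]
      exact inf_eq_right.2 fun g hg => e.le (perp_le_of_not_iso hni hg)
    rw [card_center_eq, e2, D.card_pre hp, D.card_of_center_le hp hZ, D.index_commutator hp hn, mul_pow,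
      ← pow_mul, show n * 2 = n + n by omega, ← card_mul_perp (D.img hp S)]
    ring
  have hle : ∀ S : Subgroup G, Nat.card S * Nat.card (center S) ≤ (commutator G).index ^ 2 := fun S => by
    by_cases hS : IsMulCommutative S
    · rw [hab S hS]; exact Nat.pow_le_pow_left ((D.commutative_iff_card hp hG hn S).1 hS) 2
    · exact (hna S hS).le
  have hmax : maxCentralProduct G = (commutator G).index ^ 2 := by
    refine IsGreatest.csSup_eq ⟨?_, ?_⟩
    · by_cases hS : IsMulCommutative (⊤ : Subgroup G)
      · refine ⟨⊤, ?_⟩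
        have h1 := (D.commutative_iff_card hp hG hn ⊤).1 hS
        have h2 := (commutator G).index_dvd_card
        rw [hab ⊤ hS, le_antisymm h1 ((Nat.le_of_dvd Nat.card_pos h2).trans card_top.ge)]
      · exact ⟨⊤, hna ⊤ hS⟩
    · rintro k ⟨S, rfl⟩; exact hle S
  refine ⟨hmax, fun R => ?_⟩
  unfold IsCentrallyLarge
  rw [hmax, D.maximal_iff_card hp hG hn R]
  by_cases hR : IsMulCommutative R
  · rw [hab R hR, Nat.pow_left_injective two_ne_zero |>.eq_iff]
    exact ⟨Or.inr, fun h => h.resolve_left (not_not_intro hR)⟩
  · exact ⟨fun _ => Or.inl hR, fun _ => hna R hR⟩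

end Cfsg.Agent.S3886
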