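import Cfsg.Statements.S3887
import Cfsg.Agent.Lib.Struct.MetacyclicCount

set_option autoImplicit false
open Cfsg
open Subgroup Cfsg.Agent.Struct.SympPlane Cfsg.Agent.Struct.Metacyclic

namespace Cfsg.Agent.S3887

/-- Let p be an odd prime and G a finite metacyclic p-group (G has a cyclic normal subgroup with cyclic quotient). Then a subgroup R of G maximizes |R| · |C_G(R)| over all subgroups of G if and only if R contains the center of G. -/
theorem result {G : Type*} [Group G] [Finite G] {p : ℕ} [Fact p.Prime] (hp : p ≠ 2) (hG : IsPGroup p G) (hmc : Cfsg.IsMetacyclic G) (R : Subgroup G) : Cfsg.IsCentralizerLarge R ↔ Subgroup.center G ≤ R := by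
  obtain ⟨n, hn, ⟨D⟩⟩ := exists_coord' hG hmc
  have key : ∀ S : Subgroup G, Nat.card S * Nat.card (centralizer (S : Set G)) =
      p ^ (n + n) * Nat.card (center G) * Nat.card ↥(S ⊓ center G) := fun S => by
    rw [D.centralizer_eq hp, D.card_pre hp, D.card_eq hp S, ← card_mul_perp (D.img hp S)]
    ring
  have hmax : maxCentralizerProduct G = p ^ (n + n) * Nat.card (center G) * Nat.card (center G) := by
    refine IsGreatest.csSup_eq ⟨⟨⊤, by rw [key, top_inf_eq]⟩, ?_⟩
    rintro k ⟨S, rfl⟩
    rw [key]
    exact Nat.mul_le_mul_left _ (Nat.le_of_dvd Nat.card_pos (card_dvd_of_le inf_le_right))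
  unfold IsCentralizerLarge
  rw [key, hmax, Nat.mul_left_cancel_iff (Nat.mul_pos (pow_pos (Fact.out : p.Prime).pos _) Nat.card_pos)]
  exact ⟨fun h => inf_eq_right.1 (eq_of_le_of_card_ge inf_le_right h.ge), fun h => by rw [inf_eq_right.2 h]⟩

end Cfsg.Agent.S3887
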