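import Cfsg.Statements.S3895
import Cfsg.Agent.Lib.Struct.PiClasses
import Cfsg.Agent.Lib.Solv.NormalPComplement

set_option autoImplicit false
open Cfsg

namespace Cfsg.Agent.S3895

open Subgroup Cfsg.Agent.Struct.PiClasses
open scoped Classical

universe u

variable {G : Type u} [Group G] [Finite G]

/-- The map from the classes of a Sylow subgroup to the classes of `2`-elements. -/
noncomputable def onClasses (P : Sylow 2 G) : ConjClasses ↥(P : Subgroup G) → PClasses 2 G :=
  fun c => Quotient.liftOn c (ofSylow P) fun a b h => (ofSylow_eq_iff P a b).2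
    ((P : Subgroup G).subtype.map_isConj h)

theorem odd_pow_comm {g x : G} (hg : Nat.Coprime (orderOf g) 2) (n : ℕ) (h : g ^ (2 ^ n) * x = x * g ^ (2 ^ n)) :
    g * x = x * g := by
  obtain ⟨m, hm⟩ := exists_pow_eq_self_of_coprime (x := g) (n := 2 ^ n) (hg.symm.pow_left n)
  rw [← hm]
  exact (Commute.pow_left (h : Commute (g ^ 2 ^ n) x) m).eq

/-- Moving a subgroup into itself makes an element normalise it. -/
theorem mem_normalizer_of_le {H : Subgroup G} {g : G} (h : ∀ x ∈ H, g * x * g⁻¹ ∈ H) :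
    g ∈ normalizer (H : Set G) := by
  have himg : H.map (MulAut.conj g).toMonoidHom = H := by
    refine eq_of_le_of_card_ge ?_ (le_of_eq (Nat.card_congr (H.equivMapOfInjective _ (MulAut.conj g).injective).toEquiv))
    rintro _ ⟨x, hx, rfl⟩
    exact h x hx
  refine mem_normalizer_iff.2 fun x => ⟨h x, fun hx => ?_⟩
  obtain ⟨y, hy, hyx⟩ := himg.ge hx
  rwa [(MulAut.conj g).injective (hyx : MulAut.conj g y = MulAut.conj g x)] at hy

/-- Without a normal `2`-complement there are at most `|P| / 2` classes of `2`-elements. -/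
theorem few_classes (hno : ¬ Cfsg.HasNormalPComplement 2 G)
    (P₀ : Sylow 2 G) : 2 * Nat.card (PClasses 2 G) ≤ Nat.card ↥(P₀ : Subgroup G) := by
  haveI : Fintype G := Fintype.ofFinite G
  -- a maximal `2`-subgroup with a non-trivial automorphism of odd order
  obtain ⟨Q, hQmem, hmax⟩ := Finset.exists_max_image
    (Finset.univ.filter fun Q : Subgroup G => IsPGroup 2 Q ∧ ∃ g ∈ normalizer (Q : Set G),
      (orderOf g).Coprime 2 ∧ g ∉ centralizer (Q : Set G)) (fun Q => Nat.card Q) (by
      by_contra hne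
      refine hno (Cfsg.Agent.Solv.FrobeniusCond.hasNormalPComplement fun Q hQ g hg hgc => ?_)
      by_contra hgC
      exact hne ⟨Q, Finset.mem_filter.2 ⟨Finset.mem_univ _, hQ, g, hg, hgc, hgC⟩⟩)
  obtain ⟨-, hQp, g, hgN, hgc, hgC⟩ := Finset.mem_filter.1 hQmem
  have hcent : ∀ y ∈ centralizer (Q : Set G), ∀ k : ℕ, orderOf y = 2 ^ k → y ∈ Q := by
    intro y hy k hk
    obtain ⟨R, hR⟩ := (IsPGroup.of_card (p := 2) (G := ↥(zpowers (⟨y, hy⟩ : centralizer (Q : Set G)))) (n := k)
      (by rw [Nat.card_zpowers, Subgroup.orderOf_mk, hk])).exists_le_sylow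
    have hgc' : ∀ z ∈ centralizer (Q : Set G), g * z * g⁻¹ ∈ centralizer (Q : Set G) := by
      intro z hz
      refine mem_centralizer_iff.2 fun q hq => ?_
      have hq' : g⁻¹ * q * g ∈ Q := by
        have := (mem_normalizer_iff.1 hgN (g⁻¹ * q * g)).2 (by simpa [mul_assoc] using hq)
        exact this
      have := mem_centralizer_iff.1 hz _ hq'
      calc q * (g * z * g⁻¹) = g * (g⁻¹ * q * g * z) * g⁻¹ := by group
        _ = g * (z * (g⁻¹ * q * g)) * g⁻¹ := by rw [this]
        _ = g * z * g⁻¹ * q := by group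
    let gc : MulAut (centralizer (Q : Set G)) := MulEquiv.ofBijective
      (MonoidHom.mk' (fun z : centralizer (Q : Set G) => (⟨g * z * g⁻¹, hgc' z z.2⟩ : centralizer (Q : Set G))) (fun a b => Subtype.ext (by push_cast; group)))
      (Finite.injective_iff_bijective.1 fun a b h => Subtype.ext
        ((MulAut.conj g).injective (congrArg Subtype.val h :)))
    obtain ⟨c, hc⟩ := MulAction.exists_smul_eq (centralizer (Q : Set G))
      (Sylow.ofCard ((R : Subgroup _).map gc.toMonoidHom) (by
        exact (Nat.card_congr ((R : Subgroup (centralizer (Q : Set G))).equivMapOfInjective gc.toMonoidHom gc.injective).toEquiv).symm.trans R.card_eq_multiplicity)) R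
    let R' : Subgroup G := (R : Subgroup (centralizer (Q : Set G))).map (centralizer (Q : Set G)).subtype
    set v := (c : G) * g with hv
    have hvR : ∀ z ∈ R', v * z * v⁻¹ ∈ R' := by
      rintro _ ⟨z, hz, rfl⟩
      refine ⟨c * gc z * c⁻¹, ?_, ?_⟩
      · show c * gc z * c⁻¹ ∈ (R : Subgroup _)
        rw [← hc, Sylow.coe_subgroup_smul]
        exact ⟨gc z, ⟨z, hz, rfl⟩, rfl⟩
      · show ((c * gc z * c⁻¹ : centralizer (Q : Set G)) : G) = _
        push_cast
        show (c : G) * (g * z * g⁻¹) * (c : G)⁻¹ = _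
        rw [hv]; simp only [mul_inv_rev, mul_assoc, Subgroup.coe_subtype]
    have hact : ∀ q ∈ Q, v * q * v⁻¹ = g * q * g⁻¹ := by
      intro q hq
      have h1 := (mem_normalizer_iff.1 hgN q).1 hq
      have h2 := mem_centralizer_iff.1 c.2 _ h1
      rw [hv]
      calc (c : G) * g * q * ((c : G) * g)⁻¹ = (c : G) * (g * q * g⁻¹) * (c : G)⁻¹ := by group
        _ = _ := by rw [← h2, mul_inv_cancel_right]
    have hQ' : IsPGroup 2 ↥(Q ⊔ R' : Subgroup G) :=
      IsPGroup.to_sup_of_normal_left' hQp (R.isPGroup'.map _) fun z hz => by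
        obtain ⟨w, -, rfl⟩ := hz
        refine mem_normalizer_of_le fun q hq => ?_
        have := mem_centralizer_iff.1 w.2 q hq
        rw [Subgroup.coe_subtype, ← this, mul_inv_cancel_right]
        exact hq
    have hvN : v ∈ normalizer ((Q ⊔ R' : Subgroup G) : Set G) := by
      refine mem_normalizer_of_le fun z hz => ?_
      have hle : Q ⊔ R' ≤ (Q ⊔ R').comap (MulAut.conj v).toMonoidHom := sup_le
        (fun q hq => mem_sup_left (show v * q * v⁻¹ ∈ Q by rw [hact q hq]; exact (mem_normalizer_iff.1 hgN q).1 hq))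
        (fun r hr => mem_sup_right (hvR r hr))
      exact hle hz
    set n := (orderOf v).factorization 2 with hn
    have hvord : (orderOf (v ^ 2 ^ n)).Coprime 2 := by
      rw [orderOf_pow_of_dvd (by positivity) (Nat.ordProj_dvd _ _), Nat.coprime_comm,
        Nat.Prime.coprime_iff_not_dvd Nat.prime_two]
      exact Nat.not_dvd_ordCompl Nat.prime_two (orderOf_pos v).ne'
    have hpow : ∀ i : ℕ, ∀ q ∈ Q, v ^ i * q * (v ^ i)⁻¹ = g ^ i * q * (g ^ i)⁻¹ := by
      intro i
      induction i with
      | zero => simp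
      | succ i ih =>
        intro q hq
        calc v ^ (i + 1) * q * (v ^ (i + 1))⁻¹ = v ^ i * (v * q * v⁻¹) * (v ^ i)⁻¹ := by rw [pow_succ]; group
          _ = g ^ i * (g * q * g⁻¹) * (g ^ i)⁻¹ := by rw [hact q hq, ih _ ((mem_normalizer_iff.1 hgN q).1 hq)]
          _ = _ := by rw [pow_succ]; group
    have hnotC : v ^ 2 ^ n ∉ centralizer ((Q ⊔ R' : Subgroup G) : Set G) := by
      intro h
      refine hgC (mem_centralizer_iff.2 fun q hq => (odd_pow_comm hgc n ?_).symm)
      have h1 := mem_centralizer_iff.1 h q (mem_sup_left hq)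
      have h2 := hpow (2 ^ n) q hq
      rw [← h1, mul_inv_cancel_right, eq_mul_inv_iff_mul_eq] at h2
      exact h2.symm
    have hle := hmax (Q ⊔ R') (Finset.mem_filter.2 ⟨Finset.mem_univ _, hQ', v ^ 2 ^ n, pow_mem hvN _, hvord, hnotC⟩)
    rw [eq_of_le_of_card_ge (le_sup_left : Q ≤ Q ⊔ R') hle]
    exact mem_sup_right ⟨⟨y, hy⟩, hR (mem_zpowers _), rfl⟩
  obtain ⟨P, hQP⟩ := hQp.exists_le_sylow
  have hcardP : Nat.card ↥(P₀ : Subgroup G) = Nat.card ↥(P : Subgroup G) := by
    rw [P.card_eq_multiplicity, P₀.card_eq_multiplicity]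
  rw [hcardP]
  by_contra hlt
  push Not at hlt
  haveI : Fintype ↥(P : Subgroup G) := Fintype.ofFinite _
  haveI : Fintype (PClasses 2 G) := Fintype.ofFinite _
  have hZQ : ∀ z ∈ center ↥(P : Subgroup G), (z : G) ∈ Q := by
    intro z hz
    obtain ⟨k, hk⟩ := IsPGroup.iff_orderOf.1 P.isPGroup' z
    exact hcent _ (mem_centralizer_iff.2 fun q hq => congrArg Subtype.val (mem_center_iff.1 hz ⟨q, hQP hq⟩)) k
      (by rw [Subgroup.orderOf_coe, hk])
  let C : Subgroup G := Q ⊓ centralizer {g}
  let Mv : ↥(P : Subgroup G) → Prop := fun x => (x : G) ∈ Q ∧ g * x ≠ x * g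
  let w : ↥(P : Subgroup G) → ℕ := fun x => if Mv x then 2 else if x ∈ center ↥(P : Subgroup G) then 6 else 3
  have hsurj := ofSylow_surjective P
  have hgQ : ∀ q ∈ Q, g * q * g⁻¹ ∈ Q := fun q hq => (mem_normalizer_iff.1 hgN q).1 hq
  have hfib : ∀ c : PClasses 2 G, 6 ≤ ∑ x ∈ Finset.univ.filter (fun x => ofSylow P x = c), w x := by
    intro c
    obtain ⟨x, rfl⟩ := hsurj c
    by_cases hM : ∃ y, ofSylow P y = ofSylow P x ∧ Mv y
    · obtain ⟨y, hyx, hyQ, hyg⟩ := hM
      have hmove : ∀ (i : ℕ), g ^ i * (y : G) * (g ^ i)⁻¹ ∈ Q := by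
        intro i
        induction i with
        | zero => simpa using hyQ
        | succ i ih =>
          have := hgQ _ ih
          rw [pow_succ']; simpa [mul_assoc] using this
      let f : Fin 3 → ↥(P : Subgroup G) := fun i => ⟨g ^ (i : ℕ) * y * (g ^ (i : ℕ))⁻¹, hQP (hmove i)⟩
      have hne : ∀ d, 0 < d → d < 3 → g ^ d * (y : G) ≠ y * g ^ d := by
        intro d h0 h3 h
        have : d = 1 ∨ d = 2 := by omega
        rcases this with rfl | rfl
        · exact hyg (by simpa using h)
        · exact hyg (odd_pow_comm hgc 1 (by simpa using h))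
      have hinj : Function.Injective f := by
        have key : ∀ i j : Fin 3, (i : ℕ) ≤ j → f i = f j → i = j := by
          intro i j hle h
          obtain ⟨d, hd⟩ := Nat.exists_eq_add_of_le hle
          rcases Nat.eq_zero_or_pos d with rfl | hpos
          · exact Fin.ext (by omega)
          exfalso
          refine hne d hpos (by omega) ?_
          have h' : g ^ (i : ℕ) * y * (g ^ (i : ℕ))⁻¹ = g ^ (j : ℕ) * y * (g ^ (j : ℕ))⁻¹ := congrArg Subtype.val h
          rw [hd, pow_add] at h'
          have h'' : (y : G) = g ^ d * y * (g ^ d)⁻¹ := by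
            have := congrArg (fun t => (g ^ (i : ℕ))⁻¹ * t * g ^ (i : ℕ)) h'
            simpa [mul_assoc] using this
          exact (eq_mul_inv_iff_mul_eq.1 h'').symm
        intro i j h
        rcases le_total (i : ℕ) j with hle | hle
        · exact key i j hle h
        · exact (key j i hle h.symm).symm
      have hw : ∀ i : Fin 3, w (f i) = 2 := by
        intro i
        refine if_pos ⟨hmove i, fun h => hyg ?_⟩
        have := congrArg (fun t => (g ^ (i : ℕ))⁻¹ * t * g ^ (i : ℕ)) (h : g * (g ^ (i : ℕ) * y * (g ^ (i : ℕ))⁻¹) = _ * g)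
        have hcom : g * g ^ (i : ℕ) = g ^ (i : ℕ) * g := (Commute.self_pow g i).eq
        calc g * (y : G) = (g ^ (i : ℕ))⁻¹ * (g * (g ^ (i : ℕ) * y * (g ^ (i : ℕ))⁻¹)) * g ^ (i : ℕ) := by
              rw [← mul_assoc g, ← mul_assoc g, hcom]; group
          _ = (g ^ (i : ℕ))⁻¹ * ((g ^ (i : ℕ) * y * (g ^ (i : ℕ))⁻¹) * g) * g ^ (i : ℕ) := this
          _ = y * g := by group
      calc 6 = ∑ z ∈ Finset.univ.image f, w z := by
            rw [Finset.sum_image fun a _ b _ h => hinj h]; simp [hw]
        _ ≤ _ := Finset.sum_le_sum_of_subset fun z hz => by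
            obtain ⟨i, -, rfl⟩ := Finset.mem_image.1 hz
            refine Finset.mem_filter.2 ⟨Finset.mem_univ _, ?_⟩
            rw [← hyx]
            exact (ofSylow_eq_iff P _ _).2 (isConj_iff.2 ⟨g ^ (i : ℕ), rfl⟩).symm
    push Not at hM
    have hwx : ∀ y, ofSylow P y = ofSylow P x → w y = if y ∈ center ↥(P : Subgroup G) then 6 else 3 :=
      fun y hy => if_neg (hM y hy)
    by_cases hxZ : x ∈ center ↥(P : Subgroup G)
    · calc 6 = w x := by rw [hwx x rfl, if_pos hxZ]
        _ ≤ _ := Finset.single_le_sum (fun _ _ => Nat.zero_le _) (by simp)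
    obtain ⟨z, hz⟩ : ∃ z, z * x ≠ x * z := by
      by_contra h; push Not at h; exact hxZ (mem_center_iff.2 h)
    set y := z * x * z⁻¹ with hy
    have hyx : ofSylow P y = ofSylow P x := (ofSylow_eq_iff P _ _).2 (isConj_iff.2 ⟨(z : G)⁻¹, by rw [hy]; push_cast; group⟩)
    have hyne : y ≠ x := fun h => hz (mul_inv_eq_iff_eq_mul.1 h)
    have hyZ : y ∉ center ↥(P : Subgroup G) := fun h => hxZ (by
      rw [show x = z⁻¹ * y * (z⁻¹)⁻¹ by rw [hy]; group]; exact (inferInstance : (center ↥(P : Subgroup G)).Normal).conj_mem _ h _)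
    calc 6 = ∑ t ∈ ({x, y} : Finset ↥(P : Subgroup G)), w t := by
          rw [Finset.sum_pair hyne.symm, hwx x rfl, hwx y hyx, if_neg hxZ, if_neg hyZ]
      _ ≤ _ := Finset.sum_le_sum_of_subset fun t ht => by
          simp only [Finset.mem_insert, Finset.mem_singleton] at ht
          rcases ht with rfl | rfl <;> simp [hyx]
  have h6 : 6 * Nat.card (PClasses 2 G) ≤ ∑ x, w x := by
    rw [← Finset.sum_fiberwise Finset.univ (ofSylow P) w, Nat.card_eq_fintype_card, ← Finset.card_univ,
      mul_comm, ← smul_eq_mul]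
    exact Finset.card_nsmul_le_sum _ _ _ fun c _ => hfib c
  have hsum : ∑ x, w x + 4 * (Finset.univ.filter fun x => x ∈ center ↥(P : Subgroup G) ∧ Mv x).card
      + (Finset.univ.filter fun x => x ∉ center ↥(P : Subgroup G) ∧ Mv x).card
      = 3 * Nat.card ↥(P : Subgroup G) + 3 * Nat.card (center ↥(P : Subgroup G)) := by
    have hpt : ∀ x, w x + (if x ∈ center ↥(P : Subgroup G) ∧ Mv x then 4 else 0)
        + (if x ∉ center ↥(P : Subgroup G) ∧ Mv x then 1 else 0) = 3 + (if x ∈ center ↥(P : Subgroup G) then 3 else 0) := by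
      intro x; simp only [w]; by_cases h1 : Mv x <;> by_cases h2 : x ∈ center ↥(P : Subgroup G) <;> simp [h1, h2]
    have := Finset.sum_congr rfl (fun x (_ : x ∈ (Finset.univ : Finset ↥(P : Subgroup G))) => hpt x)
    rw [Finset.sum_add_distrib, Finset.sum_add_distrib, Finset.sum_add_distrib] at this
    rw [← Finset.sum_filter, ← Finset.sum_filter, ← Finset.sum_filter] at this
    simp only [Finset.sum_const, Finset.card_univ, smul_eq_mul] at this
    rw [Nat.card_eq_fintype_card, Nat.card_eq_fintype_card, Fintype.card_subtype (fun x : ↥(P : Subgroup G) => x ∈ center ↥(P : Subgroup G))]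
    omega
  set a := (Finset.univ.filter fun x => x ∈ center ↥(P : Subgroup G) ∧ Mv x).card
  set b := (Finset.univ.filter fun x => x ∉ center ↥(P : Subgroup G) ∧ Mv x).card
  have hab : Nat.card Q ≤ a + b + Nat.card C := by
    have : (Finset.univ.filter fun q : G => q ∈ Q) ⊆
        ((Finset.univ.filter fun x => Mv x).image Subtype.val) ∪ (Finset.univ.filter fun q : G => q ∈ C) := by
      intro q hq
      have hqQ := (Finset.mem_filter.1 hq).2
      by_cases hc : g * q = q * g
      · exact Finset.mem_union_right _ (Finset.mem_filter.2 ⟨Finset.mem_univ _, hqQ, mem_centralizer_singleton_iff.2 hc.symm⟩)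
      · exact Finset.mem_union_left _ (Finset.mem_image.2 ⟨⟨q, hQP hqQ⟩, Finset.mem_filter.2 ⟨Finset.mem_univ _, hqQ, hc⟩, rfl⟩)
    have h1 := (Finset.card_le_card this).trans (Finset.card_union_le _ _)
    rw [Finset.card_image_of_injective _ Subtype.val_injective, ← Fintype.card_subtype, ← Nat.card_eq_fintype_card,
      ← Fintype.card_subtype (fun q : G => q ∈ C), ← Nat.card_eq_fintype_card] at h1
    have h2 : a + b = (Finset.univ.filter fun x => Mv x).card := by
      rw [← Finset.card_union_of_disjoint (Finset.disjoint_filter.2 fun x _ h h' => h'.1 h.1)]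
      congr 1; ext x; simp; tauto
    omega
  have hzc : Nat.card (center ↥(P : Subgroup G)) ≤ a + Nat.card C := by
    have : ((Finset.univ.filter fun x => x ∈ center ↥(P : Subgroup G)).image Subtype.val) ⊆
        ((Finset.univ.filter fun x => x ∈ center ↥(P : Subgroup G) ∧ Mv x).image Subtype.val) ∪
          (Finset.univ.filter fun q : G => q ∈ C) := by
      intro q hq
      obtain ⟨x, hx, rfl⟩ := Finset.mem_image.1 hq
      have hxQ := hZQ x (Finset.mem_filter.1 hx).2
      by_cases hc : g * (x : G) = x * g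
      · exact Finset.mem_union_right _ (Finset.mem_filter.2 ⟨Finset.mem_univ _, hxQ, mem_centralizer_singleton_iff.2 hc.symm⟩)
      · exact Finset.mem_union_left _ (Finset.mem_image.2 ⟨x, Finset.mem_filter.2 ⟨Finset.mem_univ _, (Finset.mem_filter.1 hx).2, hxQ, hc⟩, rfl⟩)
    have h1 := (Finset.card_le_card this).trans (Finset.card_union_le _ _)
    rw [Finset.card_image_of_injective _ Subtype.val_injective, Finset.card_image_of_injective _ Subtype.val_injective,
      ← Fintype.card_subtype, ← Nat.card_eq_fintype_card, ← Fintype.card_subtype (fun q : G => q ∈ C),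
      ← Nat.card_eq_fintype_card] at h1
    exact h1
  have h4 : 4 * Nat.card C ≤ Nat.card Q := by
    have hCQ : C ≤ Q := inf_le_left
    obtain ⟨j, hj⟩ := IsPGroup.iff_card.1 (hQp.to_le (le_refl Q))
    have hrel : C.relIndex Q * Nat.card C = Nat.card Q := by
      rw [← relIndex_bot_left C, mul_comm, relIndex_mul_relIndex _ _ _ bot_le hCQ, relIndex_bot_left]
    obtain ⟨e, -, he⟩ := (Nat.dvd_prime_pow Nat.prime_two).1 (hj ▸ Dvd.intro _ hrel : C.relIndex Q ∣ 2 ^ j)
    rw [← hrel, he]
    refine Nat.mul_le_mul_right _ ?_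
    rcases e with _ | _ | e
    · exfalso
      rw [pow_zero, relIndex_eq_one] at he
      exact hgC (mem_centralizer_iff.2 fun q hq => mem_centralizer_singleton_iff.1 (he hq).2)
    · exfalso
      rw [zero_add, pow_one] at he
      have h2 : (C.subgroupOf Q).index = 2 := he
      obtain ⟨q, hq, hqC⟩ : ∃ q ∈ Q, q ∉ C := by
        by_contra h
        push Not at h
        rw [relIndex_eq_one.2 h] at he
        omega
      have hgqC : g * q * g⁻¹ ∉ C := fun h => hqC (mem_inf.2 ⟨hq, mem_centralizer_singleton_iff.2 (by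
        have h1 := mem_centralizer_singleton_iff.1 (mem_inf.1 h).2
        have h1' := congrArg (fun t => g⁻¹ * t * g) h1
        simpa [mul_assoc] using h1')⟩)
      have hcC : q⁻¹ * (g * q * g⁻¹) ∈ C := by
        have := (mul_mem_iff_of_index_two h2 (a := (⟨q⁻¹, inv_mem hq⟩ : Q)) (b := ⟨g * q * g⁻¹, hgQ q hq⟩))
        exact this.2 (iff_of_false (fun h => hqC (inv_mem_iff.1 h)) hgqC)
      set c := q⁻¹ * (g * q * g⁻¹) with hc
      have hcg : g * c = c * g := (mem_centralizer_singleton_iff.1 (mem_inf.1 hcC).2).symm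
      have hit : ∀ i : ℕ, g ^ i * q = q * c ^ i * g ^ i := by
        intro i
        induction i with
        | zero => simp
        | succ i ih =>
          have hgq : g * q = q * c * g := by rw [hc]; group
          calc g ^ (i + 1) * q = g * (g ^ i * q) := by rw [pow_succ', mul_assoc]
            _ = g * q * c ^ i * g ^ i := by rw [ih]; group
            _ = q * c * (g * c ^ i) * g ^ i := by rw [hgq]; group
            _ = _ := by rw [(Commute.pow_right (hcg : Commute g c) i).eq, pow_succ' c, pow_succ' g]; group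
      have h0 := hit (orderOf g)
      rw [pow_orderOf_eq_one, one_mul, mul_one, left_eq_mul] at h0
      obtain ⟨k, hk⟩ := IsPGroup.iff_orderOf.1 hQp ⟨c, hCQ hcC⟩
      rw [Subgroup.orderOf_mk] at hk
      have hd := orderOf_dvd_of_pow_eq_one h0
      have : orderOf c = 1 := Nat.eq_one_of_dvd_coprimes (hgc.pow_right k) hd (dvd_of_eq hk)
      rw [orderOf_eq_one_iff, hc, inv_mul_eq_one, eq_mul_inv_iff_mul_eq] at this
      exact hqC (mem_inf.2 ⟨hq, mem_centralizer_singleton_iff.2 this⟩)
    · calc 4 = 2 ^ 2 := rfl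
        _ ≤ _ := Nat.pow_le_pow_right (by norm_num) (by omega)
  omega


/-- Let G be a finite group with Sylow 2-subgroup P, and write k₂(G) for the number of conjugacy classes of G consisting of 2-elements (elements of 2-power order, the identity included). Then k₂(G) > |P|/2 if and only if G has a normal 2-complement and P has more than |P|/2 conjugacy classes. -/
theorem result {G : Type*} [Group G] [Finite G] (P : Sylow 2 G) :
    Nat.card ↥(P : Subgroup G) < 2 * Nat.card {c : ConjClasses G // ∀ x ∈ c.carrier, ∃ k : ℕ, orderOf x = 2 ^ k} ↔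
      Cfsg.HasNormalPComplement 2 G ∧ Nat.card ↥(P : Subgroup G) < 2 * Nat.card (ConjClasses ↥(P : Subgroup G)) := by
  classical
  have hle : ∀ R : Sylow 2 G, Nat.card (PClasses 2 G) ≤ Nat.card (ConjClasses ↥(R : Subgroup G)) := fun R => by
    refine Nat.card_le_card_of_surjective (onClasses R) fun c => ?_
    obtain ⟨x, hx⟩ := ofSylow_surjective R c
    exact ⟨ConjClasses.mk x, hx⟩
  constructor
  · intro h
    refine ⟨?_, lt_of_lt_of_le h (Nat.mul_le_mul_left 2 (hle P))⟩
    by_contra hno
    exact absurd (few_classes hno P) (not_le.2 h)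
  · rintro ⟨⟨R, K, hKn, hK⟩, h⟩
    haveI := hKn
    have e := Sylow.equiv P R
    have hc : Nat.card ↥(P : Subgroup G) = Nat.card ↥(R : Subgroup G) := Nat.card_congr e.toEquiv
    have hcl : Nat.card (ConjClasses ↥(P : Subgroup G)) ≤ Nat.card (ConjClasses ↥(R : Subgroup G)) :=
      Nat.card_le_card_of_surjective (ConjClasses.map e.symm.toMonoidHom) (ConjClasses.map_surjective e.symm.surjective)
    refine lt_of_lt_of_le h (Nat.mul_le_mul_left 2 (hcl.trans (Nat.card_le_card_of_injective (onClasses R) ?_)))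
    intro c d
    obtain ⟨x, rfl⟩ := c.exists_rep
    obtain ⟨y, rfl⟩ := d.exists_rep
    intro hxy
    obtain ⟨g, hg⟩ := isConj_iff.1 ((ofSylow_eq_iff R x y).1 hxy)
    obtain ⟨n, hn, z, hz, rfl⟩ := mem_sup_of_normal_left.1 (hK.sup_eq_top.ge (mem_top g))
    refine ConjClasses.mk_eq_mk_iff_isConj.2 (isConj_iff.2 ⟨⟨z, hz⟩, ?_⟩)
    set x' := (⟨z, hz⟩ : ↥(R : Subgroup G)) * x * (⟨z, hz⟩ : ↥(R : Subgroup G))⁻¹ with hx'
    have hy : (y : G) = n * (x' : G) * n⁻¹ := by rw [← hg, hx']; push_cast; group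
    refine Subtype.ext ?_
    have h1 : (x' : G)⁻¹ * y ∈ K := by
      rw [hy, show (x' : G)⁻¹ * (n * x' * n⁻¹) = ((x' : G)⁻¹ * n * ((x' : G)⁻¹)⁻¹) * n⁻¹ by group]
      exact mul_mem (Normal.conj_mem inferInstance n hn _) (inv_mem hn)
    exact inv_mul_eq_one.1 (mem_bot.1 (hK.disjoint.le_bot ⟨h1, (R : Subgroup G).mul_mem ((R : Subgroup G).inv_mem x'.2) y.2⟩))


end Cfsg.Agent.S3895
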