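import Cfsg.Statements.S3897
import Cfsg.Agent.Lib.Struct.PiClasses

set_option autoImplicit false
open Cfsg
open Subgroup Cfsg.Agent.Struct.PiClasses

namespace Cfsg.Agent.S3897

/-- Let p be an odd prime and G a finite group with Sylow p-subgroup P, and write k_p(G) for the number of conjugacy classes of G consisting of p-elements (elements of p-power order, the identity included). Then k_p(G) > (p + 1)|P|/(2p) if and only if G has a normal p-complement and P is abelian. -/
theorem result {G : Type*} [Group G] [Finite G] {p : ℕ} [Fact p.Prime] (hp : p ≠ 2) (P : Sylow p G) :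
    (p + 1) * Nat.card ↥(P : Subgroup G) < 2 * p * Nat.card {c : ConjClasses G // ∀ x ∈ c.carrier, ∃ k : ℕ, orderOf x = p ^ k} ↔
      Cfsg.HasNormalPComplement p G ∧ IsMulCommutative ↥(P : Subgroup G) := by
  constructor
  · intro h
    obtain ⟨⟨K, hKn, hK⟩, hab⟩ := complement_of_many P h
    exact ⟨⟨P, K, hKn, hK⟩, hab⟩
  · rintro ⟨⟨Q, K, hKn, hK⟩, hab⟩
    haveI := hKn
    have hQ : IsMulCommutative ↥(Q : Subgroup G) := by
      have e := Sylow.equiv P Q
      exact ⟨⟨fun a b => e.symm.injective (by rw [map_mul, map_mul]; exact hab.is_comm.comm _ _)⟩⟩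
    have h1 := card_pClasses_of_complement Q hQ hK
    have hPQ : Nat.card ↥(P : Subgroup G) = Nat.card ↥(Q : Subgroup G) := by
      rw [P.card_eq_multiplicity, Q.card_eq_multiplicity]
    rw [hPQ]
    have := (Fact.out : p.Prime).two_le
    have hpos : 0 < Nat.card ↥(Q : Subgroup G) := Nat.card_pos
    show (p + 1) * _ < 2 * p * Nat.card (PClasses p G)
    nlinarith

end Cfsg.Agent.S3897
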