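import Cfsg.Statements.S3899
import Cfsg.Agent.Lib.Struct.PiClasses

set_option autoImplicit false
open Cfsg
open scoped commutatorElement
open Subgroup Cfsg.Agent.Struct.PiClasses

namespace Cfsg.Agent.S3899

/-- Let π be a finite non-empty set of odd primes with smallest member p and G a finite group. Write k_π(G) for the number of conjugacy classes of G consisting of π-elements (elements all of whose order's prime divisors lie in π) and |G|_π for the π-part of the order of G. If k_π(G) > (p + 1)|G|_π/(2p), then G has a normal π-complement (a normal subgroup of order prime to π whose index is a π-number) and an abelian Hall π-subgroup. -/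
theorem result {G : Type*} [Group G] [Finite G] (π : Finset ℕ) (hπ : ∀ r ∈ π, r.Prime) (h2 : 2 ∉ π) (p : ℕ) (hp : p ∈ π)
    (hmin : ∀ r ∈ π, p ≤ r) (hk : (p + 1) * π.prod (fun r => r ^ (Nat.card G).factorization r) < 2 * p * Nat.card {c : ConjClasses G // ∀ x ∈ c.carrier, ∀ r : ℕ, r.Prime → r ∣ orderOf x → r ∈ π}) :
    (∃ N : Subgroup G, N.Normal ∧ (∀ r : ℕ, r.Prime → r ∣ Nat.card ↥N → r ∉ π) ∧ ∀ r : ℕ, r.Prime → r ∣ N.index → r ∈ π) ∧ ∃ H : Subgroup G, Cfsg.IsPiHall (↑π : Set ℕ) H ∧ IsMulCommutative ↥H := by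
  classical
  have hk' : (p + 1) * piPart π (Nat.card G) < 2 * p * Nat.card (PiCl π G) := hk
  have hdata : ∀ r : {r // r ∈ π}, ∃ K : Subgroup G, K.Normal ∧ ¬ (r : ℕ) ∣ Nat.card K ∧
      (∃ j, K.index = (r : ℕ) ^ j) ∧ commutator G ≤ K := by
    intro r
    haveI : Fact (r : ℕ).Prime := ⟨hπ r r.2⟩
    obtain ⟨P⟩ : Nonempty (Sylow (r : ℕ) G) := inferInstance
    obtain ⟨⟨K, hKn, hK⟩, hab⟩ := complement_of_many P (many_at_each π hπ hmin hk' r.2 P)
    haveI := hKn
    refine ⟨K, hKn, fun hd => ?_, ⟨_, by rw [hK.symm.index_eq_card, P.card_eq_multiplicity]⟩, ?_⟩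
    · have h1 := hK.index_eq_card
      exact P.not_dvd_index (h1 ▸ hd)
    · rw [_root_.commutator_def, commutator_le]
      intro a _ b _
      obtain ⟨k, hk, x, hx, rfl⟩ := mem_sup_of_normal_left.1 (hK.sup_eq_top.ge (mem_top a))
      obtain ⟨l, hl, y, hy, rfl⟩ := mem_sup_of_normal_left.1 (hK.sup_eq_top.ge (mem_top b))
      rw [← QuotientGroup.eq_one_iff]
      show QuotientGroup.mk' K ⁅k * x, l * y⁆ = 1
      rw [map_commutatorElement, map_mul, map_mul, show QuotientGroup.mk' K k = 1 from (QuotientGroup.eq_one_iff k).2 hk,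
        show QuotientGroup.mk' K l = 1 from (QuotientGroup.eq_one_iff l).2 hl, one_mul, one_mul,
        commutatorElement_eq_one_iff_mul_comm, ← map_mul, ← map_mul,
        show x * y = y * x from congrArg Subtype.val (hab.is_comm.comm (⟨x, hx⟩ : ↥(P : Subgroup G)) ⟨y, hy⟩)]
  choose K hKn hKd hKi hKc using hdata
  let N : Subgroup G := ⨅ r, K r
  haveI hN : N.Normal := normal_iInf_normal hKn
  have hNd : ∀ r : ℕ, r.Prime → r ∣ Nat.card ↥N → r ∉ π := fun r _ hd hrπ =>
    hKd ⟨r, hrπ⟩ (hd.trans (card_dvd_of_le (iInf_le _ _)))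
  have hidx : ∀ S : Finset {r // r ∈ π}, ∀ s : ℕ, s.Prime → s ∣ (S.inf K).index → s ∈ π := by
    intro S
    induction S using Finset.induction_on with
    | empty => intro s hs hd; simp at hd; exact absurd hd hs.ne_one
    | @insert a S _ ih =>
      intro s hs hd
      haveI := hKn a
      rw [Finset.inf_insert, ← relIndex_mul_index (inf_le_right : K a ⊓ S.inf K ≤ S.inf K), inf_relIndex_right] at hd
      rcases (hs.dvd_mul).1 hd with h1 | h1
      · have h2 := h1.trans (relIndex_dvd_index_of_normal (K a) (S.inf K))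
        obtain ⟨j, hj⟩ := hKi a
        rw [hj] at h2
        exact (Nat.prime_dvd_prime_iff_eq hs (hπ a a.2)).1 (hs.dvd_of_dvd_pow h2) ▸ a.2
      · exact ih s hs h1
  have hNe : N = Finset.univ.inf K := by rw [Finset.inf_univ_eq_iInf]
  have hNi : ∀ r : ℕ, r.Prime → r ∣ N.index → r ∈ π := fun r hr hd => hidx _ r hr (hNe ▸ hd)
  refine ⟨⟨N, hN, hNd, hNi⟩, ?_⟩
  have hcop : Nat.Coprime (Nat.card N) N.index :=
    Nat.coprime_of_dvd fun q hq h1 h2 => hNd q hq h1 (hNi q hq h2)
  obtain ⟨H, hH⟩ := exists_left_complement'_of_coprime hcop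
  have hHc : Nat.card H = N.index := hH.index_eq_card.symm
  have hHi : H.index = Nat.card N := hH.symm.index_eq_card
  refine ⟨H, ⟨fun q hq hd => hNi q hq (hHc ▸ hd), fun q hq hqπ hd => hNd q hq (hHi ▸ hd) hqπ⟩,
    ⟨⟨fun a b => Subtype.ext ?_⟩⟩⟩
  refine commutatorElement_eq_one_iff_mul_comm.1 (mem_bot.1 (hH.disjoint.le_bot ⟨?_, ?_⟩))
  · rw [commutatorElement_def]
    exact H.mul_mem (H.mul_mem (H.mul_mem a.2 b.2) (H.inv_mem a.2)) (H.inv_mem b.2)
  · exact mem_iInf.2 fun r => hKc r (commutator_mem_commutator (mem_top _) (mem_top _))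

end Cfsg.Agent.S3899
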