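import Cfsg.Statements.S3903
import Cfsg.Agent.Lib.Solv.Coprime

set_option autoImplicit false
open Cfsg
open Subgroup

namespace Cfsg.Agent.S3903

open Subgroup in
/-- In a p-subgroup, a proper subgroup is properly contained in its normalizer. -/
theorem exists_normalizing_of_lt {G : Type*} [Group G] [Finite G] {p : ℕ} [Fact p.Prime] {D P : Subgroup G}
    (hP : IsPGroup p P) (h : D < P) : ∃ x ∈ P, x ∉ D ∧ x ∈ normalizer (D : Set G) := by
  haveI : Group.IsNilpotent ↥P := hP.isNilpotent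
  have hne : D.subgroupOf P < ⊤ := lt_top_iff_ne_top.2 fun e => h.not_ge (subgroupOf_eq_top.1 e)
  obtain ⟨x, hx, hxD⟩ := SetLike.exists_of_lt (normalizerCondition_of_isNilpotent (D.subgroupOf P) hne)
  refine ⟨x, x.2, fun hd => hxD (mem_subgroupOf.2 hd), mem_normalizer_iff.2 fun y => ⟨fun hy => ?_, fun hy => ?_⟩⟩
  · have := ((mem_normalizer_iff.1 hx) ⟨y, h.le hy⟩).1 (mem_subgroupOf.2 hy)
    simpa [mem_subgroupOf] using this
  · have hyP : y ∈ P := by
      have := P.mul_mem (P.mul_mem (P.inv_mem x.2) (h.le hy)) x.2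
      simpa [mul_assoc] using this
    have := ((mem_normalizer_iff.1 hx) ⟨y, hyP⟩).2 (by simpa [mem_subgroupOf] using hy)
    simpa [mem_subgroupOf] using this

/-- Let N be a proper normal subgroup of the finite group G such that every element x of G outside N has prime power order and has centralizer C_G(x) a maximal subgroup of G. Then N is solvable. -/
theorem result {G : Type*} [Group G] [Finite G] (N : Subgroup G) [N.Normal] (hN : N ≠ ⊤)
    (h : ∀ x : G, x ∉ N → IsPrimePow (orderOf x) ∧ IsCoatom (Subgroup.centralizer ({x} : Set G))) : Group.IsSolvable ↥N := by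
  classical
  obtain ⟨x₀, -, hx₀⟩ := SetLike.exists_of_lt hN.lt_top
  obtain ⟨p, k, hp', hk, hxk⟩ := (isPrimePow_def _).1 (h x₀ hx₀).1
  have hp : p.Prime := Nat.prime_iff.2 hp'
  haveI : Fact p.Prime := ⟨hp⟩
  have hGN : ∀ q : ℕ, q.Prime → q ≠ p → ∀ y : G, orderOf y = q → y ∈ N → ∀ z : G, z ∉ N → Commute y z →
      ∀ j : ℕ, orderOf z = p ^ j → False := by
    intro q hq hqp y hy hyN z hz hyz j hj
    have hzy : y * z ∉ N := fun hh => hz (by simpa using mul_mem (inv_mem hyN) hh)
    have hj0 : j ≠ 0 := fun h0 => hz (by rw [h0, pow_zero, orderOf_eq_one_iff] at hj; exact hj ▸ one_mem N)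
    have ho : orderOf (y * z) = q * p ^ j := by
      rw [hyz.orderOf_mul_eq_mul_orderOf_of_coprime (by
        rw [hy, hj]; exact Nat.Coprime.pow_right _ ((Nat.coprime_primes hq hp).2 hqp)), hy, hj]
    obtain ⟨r, i, hr, -, hri⟩ := (isPrimePow_def _).1 (h _ hzy).1
    have hr' : r.Prime := Nat.prime_iff.2 hr
    have h1 : q ∣ r ^ i := ⟨p ^ j, hri.trans ho⟩
    have h2 : p ∣ r ^ i := (dvd_pow_self p hj0).trans ⟨q, by rw [hri, ho]; ring⟩
    exact hqp (((Nat.prime_dvd_prime_iff_eq hq hr').1 (hq.dvd_of_dvd_pow h1)).trans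
      ((Nat.prime_dvd_prime_iff_eq hp hr').1 (hp.dvd_of_dvd_pow h2)).symm)
  -- centralizers of outside p-elements are p-groups
  have hCp : ∀ x : G, x ∉ N → (∃ j, orderOf x = p ^ j) → IsPGroup p (centralizer ({x} : Set G)) := by
    rintro x hx ⟨j, hj⟩
    obtain ⟨n, hn⟩ : ∃ n, Nat.card (centralizer ({x} : Set G)) = p ^ n := by
      refine ⟨_, Nat.eq_prime_pow_of_unique_prime_dvd Nat.card_pos.ne' fun {q} hq hqd => ?_⟩
      by_contra hqp
      haveI : Fact q.Prime := ⟨hq⟩
      obtain ⟨y, hy⟩ := exists_prime_orderOf_dvd_card' (G := ↥(centralizer ({x} : Set G))) q hqd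
      rw [← orderOf_coe] at hy
      have hc : Commute (y : G) x := mem_centralizer_singleton_iff.1 y.2
      by_cases hyN : (y : G) ∈ N
      · exact hGN q hq hqp y hy hyN x hx hc j hj
      · have hyx : (y : G) * x ∈ N := by
          by_contra hh
          have hj0 : j ≠ 0 := fun h0 => hx (by rw [h0, pow_zero, orderOf_eq_one_iff] at hj; exact hj ▸ one_mem N)
          have ho : orderOf ((y : G) * x) = q * p ^ j := by
            rw [hc.orderOf_mul_eq_mul_orderOf_of_coprime (by
              rw [hy, hj]; exact Nat.Coprime.pow_right _ ((Nat.coprime_primes hq hp).2 hqp)), hy, hj]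
          obtain ⟨r, i, hr, -, hri⟩ := (isPrimePow_def _).1 (h _ hh).1
          have hr' : r.Prime := Nat.prime_iff.2 hr
          have h1 : q ∣ r ^ i := ⟨p ^ j, hri.trans ho⟩
          have h2 : p ∣ r ^ i := (dvd_pow_self p hj0).trans ⟨q, by rw [hri, ho]; ring⟩
          exact hqp (((Nat.prime_dvd_prime_iff_eq hq hr').1 (hq.dvd_of_dvd_pow h1)).trans
            ((Nat.prime_dvd_prime_iff_eq hp hr').1 (hp.dvd_of_dvd_pow h2)).symm)
        have e : ((x : G) : G ⧸ N) = (((y : G) : G ⧸ N))⁻¹ := by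
          rw [eq_inv_iff_mul_eq_one, ← QuotientGroup.mk_mul, ← hc.eq, QuotientGroup.eq_one_iff]; exact hyx
        refine hx ((QuotientGroup.eq_one_iff x).1 (orderOf_eq_one_iff.1 (Nat.eq_one_of_dvd_coprimes
          (Nat.Coprime.pow_left j ((Nat.coprime_primes hp hq).2 (Ne.symm hqp)))
          (hj ▸ orderOf_map_dvd (QuotientGroup.mk' N) x) ?_)))
        rw [e, orderOf_inv, ← hy]
        exact orderOf_map_dvd (QuotientGroup.mk' N) (y : G)
    exact IsPGroup.of_card hn
  -- if G is a p-group we are done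
  by_cases hGp : IsPGroup p G
  · haveI := hGp.isNilpotent
    exact Group.isSolvable_of_isSolvable_injective N.subtype_injective
  have hCsyl : ∀ x : G, x ∉ N → (∃ j, orderOf x = p ^ j) →
      ∃ P : Sylow p G, (P : Subgroup G) = centralizer ({x} : Set G) := by
    intro x hx hj
    obtain ⟨P, hP⟩ := (hCp x hx hj).exists_le_sylow
    refine ⟨P, ?_⟩
    rcases eq_or_lt_of_le hP with e | hlt
    · exact e.symm
    · exact absurd (P.isPGroup'.of_equiv ((MulEquiv.subgroupCongr ((h x hx).2.2 _ hlt)).trans topEquiv)) hGp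
  obtain ⟨P, hP⟩ := hCsyl x₀ hx₀ ⟨k, hxk.symm⟩
  have hPmax : IsCoatom (P : Subgroup G) := hP ▸ (h x₀ hx₀).2
  have hx₀P : x₀ ∈ (P : Subgroup G) := hP ▸ mem_centralizer_singleton_iff.2 rfl
  have hPN : ¬ (P : Subgroup G) ≤ N := fun hle => hx₀ (hle hx₀P)
  have hQN : ∀ g : G, ∀ Q : Sylow p G, g ∈ (Q : Subgroup G) → ∃ j, orderOf g = p ^ j := fun g Q hg => by
    obtain ⟨j, hj⟩ := IsPGroup.iff_orderOf.1 Q.isPGroup' ⟨g, hg⟩
    exact ⟨j, by rwa [orderOf_mk] at hj⟩
  by_cases hNle : N ≤ (P : Subgroup G)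
  · haveI : Group.IsNilpotent ↥N := (P.isPGroup'.to_le hNle).isNilpotent
    infer_instance
  have hNP : N ⊔ (P : Subgroup G) = ⊤ :=
    hPmax.2 _ (lt_of_le_of_ne le_sup_right fun e => hNle (e ▸ le_sup_left))
  have hGmodN : IsPGroup p (G ⧸ N) := by
    refine P.isPGroup'.of_surjective ((QuotientGroup.mk' N).comp (P : Subgroup G).subtype) fun z => ?_
    obtain ⟨g, rfl⟩ := QuotientGroup.mk'_surjective N z
    obtain ⟨n, hn, y, hy, rfl⟩ := mem_sup_of_normal_left.1 (hNP.ge (mem_top g))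
    exact ⟨⟨y, hy⟩, by simp [(QuotientGroup.eq_one_iff n).2 hn]⟩
  -- normalizers of p-subgroups outside N are p-groups
  have hnorm : ∀ K : Subgroup G, IsPGroup p K → ¬ K ≤ N → IsPGroup p (normalizer (K : Set G)) := by
    intro K hK hKN
    refine IsPGroup.of_card (n := (Nat.card (normalizer (K : Set G))).primeFactorsList.length)
      (Nat.eq_prime_pow_of_unique_prime_dvd Nat.card_pos.ne' fun {q} hq hqd => ?_)
    by_contra hqp
    haveI : Fact q.Prime := ⟨hq⟩
    obtain ⟨y, hy⟩ := exists_prime_orderOf_dvd_card' (G := ↥(normalizer (K : Set G))) q hqd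
    rw [← orderOf_coe] at hy
    have hyN : (y : G) ∈ N := by
      obtain ⟨i, hi⟩ := IsPGroup.iff_orderOf.1 hGmodN (y : G)
      rw [← QuotientGroup.eq_one_iff, ← orderOf_eq_one_iff]
      refine Nat.eq_one_of_dvd_coprimes (Nat.Coprime.pow_left i ((Nat.coprime_primes hp hq).2 (Ne.symm hqp)))
        hi.dvd ?_
      rw [← hy]
      exact orderOf_map_dvd (QuotientGroup.mk' N) (y : G)
    obtain ⟨z₀, hz₀, hz₀N⟩ := SetLike.not_le_iff_exists.1 hKN
    let C := {z : G // z ∈ K ∧ z₀⁻¹ * z ∈ N}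
    have hyK : ∀ a, a ∈ K → (y : G) * a * (y : G)⁻¹ ∈ K := fun a ha => (mem_normalizer_iff.1 y.2 a).1 ha
    let f : C → C := fun z => ⟨(y : G) * z * (y : G)⁻¹, hyK z z.2.1, by
      have h1 : (z : G)⁻¹ * ((y : G) * z * (y : G)⁻¹) ∈ N := by
        have := N.mul_mem (Subgroup.Normal.conj_mem inferInstance (y : G) hyN (z : G)⁻¹) (inv_mem hyN)
        simpa [mul_assoc] using this
      have := N.mul_mem z.2.2 h1
      simpa [mul_assoc] using this⟩
    have hf : Function.Injective f := fun a b e => Subtype.ext (by simpa [f] using congrArg Subtype.val e)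
    haveI : Fintype C := Fintype.ofFinite C
    let σ : Equiv.Perm C := Equiv.ofBijective f (Finite.injective_iff_bijective.1 hf)
    have hσ : ∀ (i : ℕ) (z : C), ((σ ^ i) z : G) = (y : G) ^ i * z * ((y : G) ^ i)⁻¹ := fun i z => by
      induction i with
      | zero => simp
      | succ i ih =>
        rw [pow_succ', Equiv.Perm.mul_apply]
        show (y : G) * ((σ ^ i) z : G) * (y : G)⁻¹ = _
        rw [ih, pow_succ']; group
    have hcard : Fintype.card C = Nat.card ↥(K ⊓ N) := by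
      rw [← Nat.card_eq_fintype_card]
      exact Nat.card_congr
        { toFun := fun z => ⟨z₀⁻¹ * z, K.mul_mem (K.inv_mem hz₀) z.2.1, z.2.2⟩
          invFun := fun n => ⟨z₀ * n, mul_mem hz₀ n.2.1, by rw [inv_mul_cancel_left]; exact n.2.2⟩
          left_inv := fun z => Subtype.ext (mul_inv_cancel_left z₀ (z : G))
          right_inv := fun n => Subtype.ext (inv_mul_cancel_left z₀ (n : G)) }
    have hndvd : ¬ q ∣ Fintype.card C := by
      obtain ⟨i, hi⟩ := IsPGroup.iff_card.1 (hK.to_le (inf_le_left : K ⊓ N ≤ K))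
      rw [hcard, hi]
      exact fun hd => hqp ((Nat.prime_dvd_prime_iff_eq hq hp).1 (hq.dvd_of_dvd_pow hd))
    obtain ⟨z, hz⟩ := Equiv.Perm.exists_fixed_point_of_prime hndvd (n := 1) (σ := σ)
      (Equiv.ext fun z => Subtype.ext (by
        have hyq : (y : G) ^ q = 1 := by rw [← hy]; exact pow_orderOf_eq_one _
        rw [pow_one, hσ, hyq, one_mul, inv_one, mul_one]; rfl))
    have hzN : (z : G) ∉ N := fun hh => hz₀N (by
      have := N.mul_mem hh (inv_mem z.2.2)
      simpa using this)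
    have hzy : Commute (y : G) (z : G) := by
      have := congrArg Subtype.val hz
      exact mul_inv_eq_iff_eq_mul.1 (show (y : G) * z * (y : G)⁻¹ = z from this)
    obtain ⟨j, hj⟩ := IsPGroup.iff_orderOf.1 hK ⟨z, z.2.1⟩
    exact hGN q hq hqp y hy hyN z hzN hzy j (by rwa [orderOf_mk] at hj)
  -- two Sylow subgroups meet inside N
  have hTI : ∀ P₁ P₂ : Sylow p G, P₁ ≠ P₂ → (P₁ : Subgroup G) ⊓ P₂ ≤ N := by
    by_contra hcon
    push Not at hcon
    obtain ⟨P₁, P₂, hne, hD⟩ := hcon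
    obtain ⟨D, ⟨⟨P₁, P₂, hne, rfl⟩, hD⟩, hmaxD⟩ := (Set.toFinite {D : Subgroup G |
      (∃ P₁ P₂ : Sylow p G, P₁ ≠ P₂ ∧ D = (P₁ : Subgroup G) ⊓ P₂) ∧ ¬ D ≤ N}).exists_maximal
      ⟨_, ⟨P₁, P₂, hne, rfl⟩, hD⟩
    obtain ⟨R, hR⟩ := (hnorm _ (P₁.isPGroup'.to_le inf_le_left) hD).exists_le_sylow
    have key : ∀ S : Sylow p G, (P₁ : Subgroup G) ⊓ P₂ < (S : Subgroup G) → R = S := by
      intro S hlt
      by_contra hRS
      obtain ⟨x, hxS, hxD, hxn⟩ := exists_normalizing_of_lt S.isPGroup' hlt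
      have hle : (P₁ : Subgroup G) ⊓ P₂ ≤ (R : Subgroup G) ⊓ S := le_inf (le_normalizer.trans hR) hlt.le
      exact hxD (hmaxD (y := (R : Subgroup G) ⊓ S) ⟨⟨R, S, hRS, rfl⟩, fun hh => hD (hle.trans hh)⟩ hle
        ⟨hR hxn, hxS⟩)
    have hltS : ∀ S T : Sylow p G, S ≠ T → (S : Subgroup G) ⊓ T < (S : Subgroup G) := fun S T hST =>
      lt_of_le_of_ne inf_le_left fun e => hST (Sylow.ext (eq_of_le_of_card_ge (e ▸ inf_le_right)
        (T.card_eq_multiplicity.trans S.card_eq_multiplicity.symm).le))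
    exact hne ((key P₁ (hltS P₁ P₂ hne)).symm.trans (key P₂ (inf_comm (P₁ : Subgroup G) P₂ ▸ hltS P₂ P₁ hne.symm)))
  have hcen : ∀ x ∈ (P : Subgroup G), x ∉ N → ∀ y ∈ (P : Subgroup G), y * x = x * y := by
    intro x hx hxN y hy
    obtain ⟨Q, hQ⟩ := hCsyl x hxN (hQN x P hx)
    have hQP : Q = P := by
      by_contra hne
      exact hxN (hTI Q P hne ⟨hQ ▸ mem_centralizer_singleton_iff.2 rfl, hx⟩)
    subst hQP
    exact mem_centralizer_singleton_iff.1 (hQ ▸ hy)
  have hab : ∀ a ∈ (P : Subgroup G), ∀ b ∈ (P : Subgroup G), a * b = b * a := by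
    intro a ha b hb
    by_cases haN : a ∈ N
    · have hax : a * x₀ ∉ N := fun hh => hx₀ (by simpa using mul_mem (inv_mem haN) hh)
      have h1 := hcen (a * x₀) (mul_mem ha hx₀P) hax b hb
      have h2 := hcen x₀ hx₀P hx₀ b hb
      rw [← mul_assoc, mul_assoc a, ← h2, ← mul_assoc] at h1
      exact (mul_right_cancel h1).symm
    · exact (hcen a ha haN b hb).symm
  have hNG : normalizer ((P : Subgroup G) : Set G) ≤ centralizer ((P : Subgroup G) : Set G) := by
    have e : normalizer ((P : Subgroup G) : Set G) = P := by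
      obtain ⟨R, hR⟩ := (hnorm P P.isPGroup' hPN).exists_le_sylow
      exact le_antisymm ((hR.trans (eq_of_le_of_card_ge (le_normalizer.trans hR)
        (R.card_eq_multiplicity.trans P.card_eq_multiplicity.symm).le).ge)) le_normalizer
    rw [e]
    exact fun a ha => mem_centralizer_iff.2 fun b hb => hab b hb a ha
  set K := (MonoidHom.transferSylow P hNG).ker with hKdef
  have hK : IsComplement' K (P : Subgroup G) := MonoidHom.ker_transferSylow_isComplement' P hNG
  have hKcop : (Nat.card P).Coprime (Nat.card K) := by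
    rw [← hK.index_eq_card]
    show (Nat.card ↥(P : Subgroup G)).Coprime _
    rw [P.card_eq_multiplicity]
    exact Nat.Coprime.pow_left _ (hp.coprime_iff_not_dvd.2 P.not_dvd_index)
  haveI : Group.IsSolvable ↥K := by
    by_cases hK1 : Nat.card K = 1
    · rw [card_eq_one] at hK1; rw [hK1]; infer_instance
    obtain ⟨q, hq, hqd⟩ := Nat.exists_prime_and_dvd hK1
    haveI : Fact q.Prime := ⟨hq⟩
    haveI := P.isPGroup'.isNilpotent
    obtain ⟨Q, hQ⟩ := Solv.exists_invariant_sylow (P : Subgroup G) K (by rw [normalizer_eq_top]; exact le_top) hKcop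
      (Or.inl inferInstance) q
    set Q' := (Q : Subgroup K).map K.subtype with hQ'
    obtain ⟨y, hy⟩ := exists_prime_orderOf_dvd_card' (G := ↥(Q : Subgroup K)) q (Q.dvd_card_of_dvd_card hqd)
    have hlt : (P : Subgroup G) < (P : Subgroup G) ⊔ Q' := by
      refine lt_of_le_of_ne le_sup_left fun e => ?_
      have hyP : ((y : K) : G) ∈ (P : Subgroup G) := e ▸ mem_sup_right ⟨y, y.2, rfl⟩
      have hy1 : ((y : K) : G) = 1 :=
        mem_bot.1 (hK.disjoint.le_bot ⟨(y : K).2, hyP⟩)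
      rw [show y = 1 from Subtype.ext (Subtype.ext hy1), orderOf_one] at hy
      exact hq.one_lt.ne hy
    have htop := hPmax.2 _ hlt
    have hc := Solv.card_sup_mul_card_inf Q' (P : Subgroup G) hQ
    rw [sup_comm, htop, card_top, ← hK.card_mul] at hc
    have hle : Nat.card K ≤ Nat.card Q' := by
      refine Nat.le_of_mul_le_mul_right ?_ (Nat.card_pos (α := ↥(P : Subgroup G)))
      rw [← hc]
      exact Nat.le_mul_of_pos_right _ Nat.card_pos
    have hKQ : Q' = K := eq_of_le_of_card_ge (map_subtype_le _) hle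
    haveI := ((Q.isPGroup'.map K.subtype).to_le hKQ.ge).isNilpotent
    infer_instance
  haveI : Group.IsSolvable (G ⧸ K) := by
    haveI : IsMulCommutative ↥(P : Subgroup G) := ⟨⟨fun a b => Subtype.ext (hab a a.2 b b.2)⟩⟩
    have hsurj : Function.Surjective ((QuotientGroup.mk' K).comp (P : Subgroup G).subtype) := fun z => by
      obtain ⟨g, rfl⟩ := QuotientGroup.mk'_surjective K z
      obtain ⟨n, hn, y, hy, rfl⟩ := mem_sup_of_normal_left.1 (hK.sup_eq_top.ge (mem_top g))
      exact ⟨⟨y, hy⟩, by simp [(QuotientGroup.eq_one_iff n).2 hn]⟩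
    haveI := P.isPGroup'.isNilpotent
    exact Group.isSolvable_of_surjective hsurj
  haveI : Group.IsSolvable G := Group.isSolvable_of_ker_le_range K.subtype (QuotientGroup.mk' K) (by simp)
  exact Group.isSolvable_of_isSolvable_injective N.subtype_injective

end Cfsg.Agent.S3903
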