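import Cfsg.Statements.S3908
import Cfsg.Agent.Lib.Struct.UniqueOrderP

set_option autoImplicit false
open Cfsg
open Subgroup

namespace Cfsg.Agent.S3908

theorem cases_of_conj {G : Type*} [Group G] [Finite G]
    (hB : ∀ A B : Subgroup G, IsMulCommutative ↥A → IsMulCommutative ↥B →
      Nat.card ↥A = Nat.card ↥B → ∃ g : G, B = A.map (MulAut.conj g).toMonoidHom)
    {p : ℕ} [hpf : Fact p.Prime] (P : Sylow p G) :
    IsCyclic ↥(P : Subgroup G) ∨
      (p = 2 ∧ ∃ n : ℕ, 1 ≤ n ∧ Nonempty (↥(P : Subgroup G) ≃* QuaternionGroup (2 ^ n))) ∨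
      ∀ x ∈ (P : Subgroup G), x ^ p = 1 := by
  have hp : p.Prime := Fact.out
  by_cases huniq : ∀ x y : (P : Subgroup G), orderOf x = p → y ^ p = 1 → y ∈ zpowers x
  · rcases Cfsg.Agent.Struct.cyclic_or_quaternion P.isPGroup' huniq with h | h
    · exact Or.inl h
    · exact Or.inr (Or.inl h)
  refine Or.inr (Or.inr fun w hw => ?_)
  obtain ⟨a, b, hab, ha, hb, hba⟩ : ∃ a b : (P : Subgroup G), Commute a b ∧ orderOf a = p ∧
      b ^ p = 1 ∧ b ∉ zpowers a := by
    simp only [not_forall] at huniq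
    obtain ⟨x, y, hx, hy, hyx⟩ := huniq
    haveI : Nontrivial (P : Subgroup G) := ⟨x, 1, fun h => hp.one_lt.ne
      (by rw [← hx, h, orderOf_one])⟩
    haveI := P.isPGroup'.center_nontrivial
    obtain ⟨e, he⟩ := IsPGroup.iff_card.1 (P.isPGroup'.to_subgroup (center (P : Subgroup G)))
    have he0 : e ≠ 0 := by
      rintro rfl
      rw [pow_zero] at he
      exact (Finite.one_lt_card (α := center (P : Subgroup G))).ne' he
    obtain ⟨z, hz⟩ := exists_prime_orderOf_dvd_card' (G := center (P : Subgroup G)) p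
      (by rw [he]; exact dvd_pow_self p he0)
    rw [← Subgroup.orderOf_coe] at hz
    by_cases hxz : x ∈ zpowers (z : (P : Subgroup G))
    · refine ⟨z, y, ((mem_center_iff.1 z.2) y).symm, hz, hy, fun hyz => hyx ?_⟩
      have h1 : zpowers x = zpowers (z : (P : Subgroup G)) :=
        eq_of_le_of_card_ge (zpowers_le.2 hxz) (by rw [Nat.card_zpowers, Nat.card_zpowers, hx, hz])
      rwa [h1]
    · exact ⟨z, x, ((mem_center_iff.1 z.2) x).symm, hz, orderOf_dvd_iff_pow_eq_one.1 hx.dvd, hxz⟩
  let E : Subgroup G := (closure {a, b}).map (P : Subgroup G).subtype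
  have hEexp : ∀ u ∈ E, u ^ p = 1 := by
    rintro _ ⟨u, hu, rfl⟩
    rw [← map_pow]
    have : u ^ p = 1 := by
      induction hu using closure_induction with
      | mem u hu =>
        rcases hu with rfl | rfl
        · exact orderOf_dvd_iff_pow_eq_one.1 ha.dvd
        · exact hb
      | one => exact one_pow p
      | mul u v hu hv hu' hv' =>
        have hc : Commute u v := by
          haveI := isMulCommutative_closure (k := ({a, b} : Set (P : Subgroup G))) (by
            rintro _ (rfl | rfl) _ (rfl | rfl)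
            · rfl
            · exact hab.eq
            · exact hab.eq.symm
            · rfl)
          exact congrArg Subtype.val (mul_comm' (⟨u, hu⟩ : closure {a, b}) ⟨v, hv⟩)
        rw [hc.mul_pow, hu', hv', one_mul]
      | inv u hu hu' => rw [inv_pow, hu', inv_one]
    rw [this, map_one]
  haveI hEc : IsMulCommutative E := by
    haveI := isMulCommutative_closure (k := ({a, b} : Set (P : Subgroup G))) (by
      rintro _ (rfl | rfl) _ (rfl | rfl)
      · rfl
      · exact hab.eq
      · exact hab.eq.symm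
      · rfl)
    infer_instance
  have hEcard : p ^ 2 ∣ Nat.card E := by
    obtain ⟨e, he⟩ := IsPGroup.iff_card.1 (P.isPGroup'.to_subgroup (closure {a, b}))
    have hlt : p < Nat.card (closure ({a, b} : Set (P : Subgroup G))) := by
      refine lt_of_le_of_ne (le_trans (le_of_eq ((Nat.card_zpowers a).trans ha).symm)
        (card_le_of_le (zpowers_le.2 (subset_closure (Set.mem_insert _ _))))) fun h => hba ?_
      rw [eq_of_le_of_card_ge (zpowers_le.2 (subset_closure (Set.mem_insert a {b})))
        (h.symm.trans ((Nat.card_zpowers a).trans ha).symm).le]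
      exact subset_closure (Set.mem_insert_of_mem _ rfl)
    rw [show Nat.card E = p ^ e by rw [card_map_of_injective (subtype_injective _), he]]
    rw [he] at hlt
    refine pow_dvd_pow p ?_
    by_contra h2
    exact (not_le.2 hlt) ((Nat.pow_le_pow_right hp.pos (Nat.le_of_lt_succ (not_le.1 h2))).trans
      (pow_one p).le)
  by_contra hw1
  obtain ⟨k, hk⟩ := IsPGroup.iff_orderOf.1 P.isPGroup' ⟨w, hw⟩
  rw [Subgroup.orderOf_mk] at hk
  have hk2 : 2 ≤ k := by
    by_contra h2
    refine hw1 (orderOf_dvd_iff_pow_eq_one.1 ?_)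
    rw [hk]
    exact (pow_dvd_pow p (Nat.le_of_lt_succ (not_le.1 h2))).trans (pow_one p).dvd
  have hu : orderOf (w ^ p ^ (k - 2)) = p ^ 2 := by
    rw [orderOf_pow_of_dvd (pow_pos hp.pos _).ne' (by rw [hk]; exact pow_dvd_pow p (Nat.sub_le _ _)),
      hk, Nat.pow_div (Nat.sub_le _ _) hp.pos]
    congr 1
    omega
  obtain ⟨E', hE'⟩ := Sylow.exists_subgroup_card_pow_prime (G := E) p hEcard
  obtain ⟨g, hg⟩ := hB (E'.map E.subtype) (zpowers (w ^ p ^ (k - 2))) inferInstance inferInstance
    (by rw [card_map_of_injective (subtype_injective _), hE', Nat.card_zpowers, hu])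
  obtain ⟨v, ⟨v', -, rfl⟩, hv'⟩ := hg.le (mem_zpowers (w ^ p ^ (k - 2)))
  have h1 : (w ^ p ^ (k - 2)) ^ p = 1 := by
    rw [← hv', ← map_pow, show (E.subtype v' : G) ^ p = 1 from hEexp _ v'.2, map_one]
  have h2 := orderOf_dvd_of_pow_eq_one h1
  rw [hu] at h2
  exact absurd (Nat.le_of_dvd hp.pos h2) (not_le.2 (by
    rw [pow_two]; exact lt_mul_of_one_lt_left hp.pos hp.one_lt))


/-- Let G be a finite group in which any two abelian subgroups of the same order are conjugate. Then a Sylow 2-subgroup of G is cyclic, elementary abelian or generalized quaternion, and for an odd prime p a Sylow p-subgroup of G is cyclic or has exponent dividing p. -/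
theorem result {G : Type*} [Group G] [Finite G] (hB : ∀ A B : Subgroup G, IsMulCommutative ↥A → IsMulCommutative ↥B → Nat.card ↥A = Nat.card ↥B → ∃ g : G, B = A.map (MulAut.conj g).toMonoidHom) :
    (∀ P : Sylow 2 G, IsCyclic ↥(P : Subgroup G) ∨ Cfsg.IsElementaryAbelian 2 (P : Subgroup G) ∨ ∃ k : ℕ, Nonempty (↥(P : Subgroup G) ≃* QuaternionGroup (2 ^ k))) ∧
    ∀ (p : ℕ) [Fact p.Prime], p ≠ 2 → ∀ P : Sylow p G, IsCyclic ↥(P : Subgroup G) ∨ ∀ x ∈ (P : Subgroup G), x ^ p = 1 := by
  refine ⟨fun P => ?_, fun p hpf hp2 P => ?_⟩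
  · rcases cases_of_conj (p := 2) hB P with h | ⟨h, n, -, hn⟩ | h
    · exact Or.inl h
    · exact Or.inr (Or.inr ⟨n, hn⟩)
    · refine Or.inr (Or.inl ⟨⟨⟨fun a b => Subtype.ext ?_⟩⟩, h⟩)
      have ha := h a a.2
      have hb := h b b.2
      have hab := h _ (mul_mem a.2 b.2)
      rw [pow_two] at ha hb hab
      show (a : G) * b = b * a
      rw [eq_inv_of_mul_eq_one_left hab, mul_inv_rev, ← eq_inv_of_mul_eq_one_left ha,
        ← eq_inv_of_mul_eq_one_left hb]
  · rcases cases_of_conj hB P with h | ⟨h, -⟩ | h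
    · exact Or.inl h
    · exact absurd h hp2
    · exact Or.inr h

end Cfsg.Agent.S3908
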