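import Cfsg.Statements.S3909


set_option autoImplicit false
open Cfsg
open Subgroup
open scoped Pointwise

namespace Cfsg.Agent.S3909

/-- Let G be a finite group in which any two abelian subgroups of the same order are conjugate. Let M be a normal subgroup of G. If M contains an element of the same order as a ∈ G, then a ∈ M; and if M is elementary abelian of order p^t with p prime and t ≥ 2, then M is the unique Sylow p-subgroup of G. -/
theorem result {G : Type*} [Group G] [Finite G] (hB : ∀ A B : Subgroup G, IsMulCommutative ↥A → IsMulCommutative ↥B → Nat.card ↥A = Nat.card ↥B → ∃ g : G, B = A.map (MulAut.conj g).toMonoidHom) (M : Subgroup G) [M.Normal] :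
    (∀ a : G, (∃ m ∈ M, orderOf m = orderOf a) → a ∈ M) ∧
    ∀ (p t : ℕ) [Fact p.Prime], 2 ≤ t → Nat.card ↥M = p ^ t → Cfsg.IsElementaryAbelian p M → ∀ P : Sylow p G, (P : Subgroup G) = M := by
  have hconj : ∀ x y : G, orderOf x = orderOf y → ∃ g : G, zpowers x = (zpowers y).map (MulAut.conj g).toMonoidHom :=
    fun x y h => hB (zpowers y) (zpowers x) inferInstance inferInstance (by rw [Nat.card_zpowers, Nat.card_zpowers, h])
  have h1 : ∀ a : G, (∃ m ∈ M, orderOf m = orderOf a) → a ∈ M := by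
    rintro a ⟨m, hm, ho⟩
    obtain ⟨g, hg⟩ := hconj a m ho.symm
    obtain ⟨y, hy, hya⟩ := hg.le (mem_zpowers a)
    rw [← hya]
    exact Subgroup.Normal.conj_mem inferInstance y (zpowers_le.2 hm hy) g
  refine ⟨h1, fun p t _ ht hM hel P => ?_⟩
  have hMP : IsPGroup p M := IsPGroup.of_card hM
  have hle : M ≤ P := by
    obtain ⟨Q, hQ⟩ := hMP.exists_le_sylow
    obtain ⟨g, hg⟩ := MulAction.exists_smul_eq G Q P
    intro m hm
    rw [← hg]
    show m ∈ (MulAut.conj g • (Q : Subgroup G))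
    rw [mem_pointwise_smul_iff_inv_smul_mem]
    refine hQ ?_
    show (MulAut.conj g)⁻¹ m ∈ M
    rw [← map_inv]
    exact Subgroup.Normal.conj_mem inferInstance m hm g⁻¹
  refine le_antisymm (fun x hx => ?_) hle
  obtain ⟨k, hk⟩ := IsPGroup.iff_orderOf.1 P.isPGroup' ⟨x, hx⟩
  rw [orderOf_mk] at hk
  rcases k with _ | _ | k
  · rw [pow_zero, orderOf_eq_one_iff] at hk; exact hk ▸ one_mem M
  · obtain ⟨m, hm⟩ := exists_prime_orderOf_dvd_card' (G := ↥M) p (hM ▸ dvd_pow_self p (by omega))
    exact h1 x ⟨m, m.2, by rw [orderOf_coe, hm, hk, zero_add, pow_one]⟩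
  · exfalso
    obtain ⟨K, hK⟩ := Sylow.exists_subgroup_card_pow_prime (G := ↥M) p (n := 2) (hM ▸ pow_dvd_pow p ht)
    have hx2 : orderOf (x ^ p ^ k) = p ^ 2 := by
      rw [orderOf_pow_of_dvd (pow_ne_zero _ (Fact.out : p.Prime).ne_zero) (hk ▸ pow_dvd_pow p (by omega)), hk,
        show k + 1 + 1 = k + 2 by rfl, Nat.pow_div (by omega) (Fact.out : p.Prime).pos, Nat.add_sub_cancel_left]
    have hKc : IsMulCommutative ↥(K.map M.subtype) := ⟨⟨fun a b => by
      have ha : (a : G) ∈ M := by obtain ⟨y, -, hy⟩ := a.2; exact hy ▸ y.2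
      have hb : (b : G) ∈ M := by obtain ⟨y, -, hy⟩ := b.2; exact hy ▸ y.2
      exact Subtype.ext (by simpa using congrArg Subtype.val (hel.1.is_comm.comm ⟨(a : G), ha⟩ ⟨(b : G), hb⟩))⟩⟩
    obtain ⟨g, hg⟩ := hB (K.map M.subtype) (zpowers (x ^ p ^ k)) hKc inferInstance (by
      rw [Nat.card_zpowers, hx2, Nat.card_congr (equivMapOfInjective K M.subtype M.subtype_injective).toEquiv.symm, hK])
    obtain ⟨y, hy, hyx⟩ := hg.le (mem_zpowers _)
    obtain ⟨m, -, rfl⟩ := hy
    have h := orderOf_dvd_of_pow_eq_one (hel.2 m m.2)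
    rw [← hyx] at hx2
    have ho : orderOf ((MulAut.conj g).toMonoidHom (M.subtype m)) = orderOf (m : G) :=
      orderOf_injective _ (MulAut.conj g).injective _
    rw [ho] at hx2
    rw [hx2] at h
    have := Nat.le_of_dvd (Fact.out : p.Prime).pos h
    have := (Fact.out : p.Prime).two_le
    nlinarith

end Cfsg.Agent.S3909
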