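import Cfsg.Statements.S3910
import Cfsg.Agent.Lib.Perm.GeneratingTuples


set_option autoImplicit false
open Cfsg
open Subgroup
open scoped Classical

namespace Cfsg.Agent.S3910

/-- A finite nilpotent group in which any two abelian subgroups of the same order are conjugate is cyclic. -/
theorem result {G : Type*} [Group G] [Finite G] (hB : ∀ A B : Subgroup G, IsMulCommutative ↥A → IsMulCommutative ↥B → Nat.card ↥A = Nat.card ↥B → ∃ g : G, B = A.map (MulAut.conj g).toMonoidHom) (hnil : Group.IsNilpotent G) : IsCyclic G := by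
  have hcyc : ∀ x y : G, orderOf x = orderOf y → ∃ g : G, zpowers x = (zpowers y).map (MulAut.conj g).toMonoidHom :=
    fun x y h => hB (zpowers y) (zpowers x) inferInstance inferInstance (by rw [Nat.card_zpowers, Nat.card_zpowers, h])
  -- elements of maximal q-power order
  have hmax : ∀ q : ℕ, ∃ x : G, (∃ k, orderOf x = q ^ k) ∧ ∀ y : G, (∃ k, orderOf y = q ^ k) → orderOf y ≤ orderOf x := by
    intro q
    obtain ⟨x, hx, hm⟩ := (Set.toFinite {x : G | ∃ k, orderOf x = q ^ k}).exists_maximalFor orderOf _ ⟨1, 0, by simp⟩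
    exact ⟨x, hx, fun y hy => (le_total (orderOf y) (orderOf x)).elim id fun h => hm hy h⟩
  choose x hx hxmax using hmax
  let H := closure {g : G | ∃ q : ℕ, q.Prime ∧ g = x q}
  have hHtop : H = ⊤ := by
    by_contra hne
    obtain ⟨M, hM, hHM⟩ := (eq_top_or_exists_le_coatom H).resolve_left hne
    haveI := hnil
    haveI := Cfsg.Agent.Solv.coatom_normal_of_isNilpotent (G := G) inferInstance M hM
    have hq := Cfsg.Agent.Solv.prime_index_of_coatom_normal M hM
    haveI : Fact M.index.Prime := ⟨hq⟩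
    have hxM : x M.index ∈ M := hHM (subset_closure ⟨_, hq, rfl⟩)
    obtain ⟨P⟩ : Nonempty (Sylow M.index G) := inferInstance
    have hPM : (P : Subgroup G) ≤ M := fun y hy => by
      obtain ⟨k, hk⟩ := IsPGroup.iff_orderOf.1 P.isPGroup' ⟨y, hy⟩
      rw [orderOf_mk] at hk
      obtain ⟨j, hj⟩ := hx M.index
      have hle := hxmax M.index y ⟨k, hk⟩
      rw [hk, hj, Nat.pow_le_pow_iff_right hq.one_lt] at hle
      have hz : orderOf (x M.index ^ M.index ^ (j - k)) = orderOf y := by
        rw [orderOf_pow_of_dvd (pow_ne_zero _ hq.ne_zero) (hj ▸ pow_dvd_pow _ (Nat.sub_le j k)), hj,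
          Nat.pow_div (Nat.sub_le j k) hq.pos, Nat.sub_sub_self hle, hk]
      obtain ⟨g, hg⟩ := hcyc y _ hz.symm
      obtain ⟨w, hw, hwy⟩ := hg.le (mem_zpowers y)
      rw [← hwy]
      exact Subgroup.Normal.conj_mem inferInstance w (zpowers_le.2 (pow_mem hxM _) hw) g
    exact P.not_dvd_index (index_dvd_of_le hPM)
  haveI := hnil
  have hcomm : ∀ a b : G, a * b = b * a := by
    haveI : IsMulCommutative ↥H := isMulCommutative_closure (by
      rintro _ ⟨q, hq, rfl⟩ _ ⟨r, hr, rfl⟩
      rcases eq_or_ne q r with rfl | hqr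
      · rfl
      haveI : Fact q.Prime := ⟨hq⟩
      haveI : Fact r.Prime := ⟨hr⟩
      obtain ⟨a, ha⟩ := hx q
      obtain ⟨b, hb⟩ := hx r
      obtain ⟨P, hP⟩ := (IsPGroup.of_card (p := q) (G := ↥(zpowers (x q))) (by rw [Nat.card_zpowers, ha])).exists_le_sylow
      obtain ⟨Q, hQ⟩ := (IsPGroup.of_card (p := r) (G := ↥(zpowers (x r))) (by rw [Nat.card_zpowers, hb])).exists_le_sylow
      have hPn : (P : Subgroup G).Normal := P.normal_of_normalizerCondition normalizerCondition_of_isNilpotent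
      have hQn : (Q : Subgroup G).Normal := Q.normal_of_normalizerCondition normalizerCondition_of_isNilpotent
      exact commute_of_normal_of_disjoint _ _ hPn hQn (IsPGroup.disjoint_of_ne q r hqr _ _ P.isPGroup' Q.isPGroup')
        _ _ (hP (mem_zpowers _)) (hQ (mem_zpowers _)))
    intro a b
    exact congrArg Subtype.val (IsMulCommutative.is_comm.comm (⟨a, hHtop.ge (mem_top a)⟩ : ↥H) ⟨b, hHtop.ge (mem_top b)⟩)
  letI : CommGroup G := { (inferInstance : Group G) with mul_comm := hcomm }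
  obtain ⟨e, he⟩ := Monoid.exists_orderOf_eq_exponent (G := G) Monoid.ExponentExists.of_finite
  refine isCyclic_iff_exists_zpowers_eq_top.2 ⟨e, eq_top_iff.2 fun a _ => ?_⟩
  obtain ⟨c, hc⟩ : orderOf a ∣ orderOf e := he ▸ Monoid.order_dvd_exponent a
  have hz : orderOf (e ^ c) = orderOf a := by
    have h0 : c ≠ 0 := fun h => by rw [h, mul_zero] at hc; exact (orderOf_pos e).ne' hc
    rw [orderOf_pow_of_dvd h0 (Dvd.intro_left _ hc.symm), hc, Nat.mul_div_cancel _ (Nat.pos_of_ne_zero h0)]
  obtain ⟨g, hg⟩ := hcyc a _ hz.symm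
  obtain ⟨w, hw, hwa⟩ := hg.le (mem_zpowers a)
  rw [← hwa, show (MulAut.conj g).toMonoidHom w = w by simp [hcomm g w]]
  exact zpowers_le.2 (pow_mem (mem_zpowers e) c) hw

end Cfsg.Agent.S3910
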