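import Cfsg.Statements.S3917


set_option autoImplicit false
open Cfsg
open Subgroup

namespace Cfsg.Agent.S3917

/-- Say that a group has self-centralizing non-cyclic subgroups when every non-cyclic subgroup H satisfies C_G(H) ≤ H. A finite abelian group with self-centralizing non-cyclic subgroups is cyclic or elementary abelian of order p² for a prime p. -/
theorem result {G : Type*} [CommGroup G] [Finite G] (hX : (∀ H : Subgroup G, ¬ IsCyclic ↥H → Subgroup.centralizer (H : Set G) ≤ H)) :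
    IsCyclic G ∨ ∃ p : ℕ, p.Prime ∧ Nat.card G = p ^ 2 ∧ Monoid.exponent G = p := by
  by_cases hc : IsCyclic G
  · exact Or.inl hc
  refine Or.inr ?_
  have htop : ∀ H : Subgroup G, ¬ IsCyclic ↥H → H = ⊤ := fun H hH => top_le_iff.1 fun g _ =>
    hX H hH (mem_centralizer_iff.2 fun h _ => mul_comm h g)
  obtain ⟨e, he⟩ := Monoid.exists_orderOf_eq_exponent (G := G) Monoid.ExponentExists.of_finite
  have hne : zpowers e ≠ ⊤ := fun h => hc (isCyclic_iff_exists_zpowers_eq_top.2 ⟨e, h⟩)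
  obtain ⟨g₀, -, hg₀⟩ := SetLike.exists_of_lt (lt_of_le_of_ne le_top hne)
  obtain ⟨g, hg, hgmin⟩ := (Set.toFinite {g : G | g ∉ zpowers e}).exists_minimalFor orderOf _ ⟨g₀, hg₀⟩
  have ho1 : orderOf g ≠ 1 := fun h => hg (orderOf_eq_one_iff.1 h ▸ one_mem _)
  set p := (orderOf g).minFac with hpdef
  have hp : p.Prime := Nat.minFac_prime ho1
  haveI : Fact p.Prime := ⟨hp⟩
  have hpg : p ∣ orderOf g := Nat.minFac_dvd _
  have hgp : g ^ p ∈ zpowers e := by
    by_contra h
    have h1 : orderOf (g ^ p) < orderOf g := by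
      rw [orderOf_pow_of_dvd hp.ne_zero hpg]
      exact Nat.div_lt_self (orderOf_pos g) hp.one_lt
    exact absurd (hgmin h h1.le) (not_le.2 h1)
  obtain ⟨j, hj⟩ := mem_zpowers_iff.1 hgp
  have hpe : p ∣ orderOf e := hpg.trans (he ▸ Monoid.order_dvd_exponent g)
  obtain ⟨m, hm⟩ := hpe
  have hgm : (g ^ p) ^ m = 1 := by
    rw [← pow_mul, ← hm, ← orderOf_dvd_iff_pow_eq_one, he]; exact Monoid.order_dvd_exponent g
  have hm0 : 0 < m := Nat.pos_of_ne_zero fun h => by rw [h, mul_zero] at hm; exact (orderOf_pos e).ne' hm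
  have hpj : (p : ℤ) ∣ j := by
    rw [← hj, ← zpow_natCast, ← zpow_mul, ← orderOf_dvd_iff_zpow_eq_one, hm, Nat.cast_mul] at hgm
    exact (mul_dvd_mul_iff_right (by omega)).1 hgm
  obtain ⟨c, rfl⟩ := hpj
  have hbp : (g * (e ^ c)⁻¹) ^ p = 1 := by
    rw [mul_pow, inv_pow, ← hj, ← zpow_natCast (e ^ c), ← zpow_mul, mul_comm c, mul_inv_cancel]
  have hb : g * (e ^ c)⁻¹ ∉ zpowers e := fun h => hg (by
    simpa using mul_mem h (zpow_mem (mem_zpowers e) c))
  have hem : orderOf (e ^ m) = p := by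
    rw [orderOf_pow_of_dvd hm0.ne' (Dvd.intro_left _ hm.symm), hm, Nat.mul_div_cancel _ hm0]
  set K := (powMonoidHom p : G →* G).ker with hKdef
  have hKexp : ∀ y ∈ K, y ^ p = 1 := fun y hy => by rwa [hKdef, MonoidHom.mem_ker, powMonoidHom_apply] at hy
  have hmK : ∀ y : G, y ^ p = 1 → y ∈ K := fun y hy => by rwa [hKdef, MonoidHom.mem_ker, powMonoidHom_apply]
  set b := g * (e ^ c)⁻¹
  have hb1 : b ≠ 1 := fun h => hb (h ▸ one_mem _)
  have hob : orderOf b = p := orderOf_eq_prime hbp hb1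
  have hem1 : (e ^ m) ^ p = 1 := by rw [← hem]; exact pow_orderOf_eq_one _
  set L := zpowers b ⊔ zpowers (e ^ m) with hL
  have hLK : L ≤ K := sup_le (zpowers_le.2 (hmK _ hbp)) (zpowers_le.2 (hmK _ hem1))
  have hLnc : ¬ IsCyclic ↥L := fun h => by
    obtain ⟨y, hy⟩ := h.exists_generator
    have hyp : orderOf y ∣ p := orderOf_dvd_of_pow_eq_one (Subtype.ext (hKexp _ (hLK y.2)))
    rw [orderOf_eq_card_of_forall_mem_zpowers hy] at hyp
    have h1 : zpowers (e ^ m) = L := eq_of_le_of_card_ge le_sup_right (by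
      rw [Nat.card_zpowers, hem]; exact Nat.le_of_dvd hp.pos hyp)
    exact hb (zpowers_le.2 (pow_mem (mem_zpowers e) m) (h1.ge (mem_sup_left (mem_zpowers b))))
  have hLtop := htop L hLnc
  have hexp : ∀ y : G, y ^ p = 1 := fun y => hKexp y (hLK (hLtop.ge (mem_top y)))
  have hcard : Nat.card G = p ^ 2 := by
    have hdis : zpowers b ⊓ zpowers (e ^ m) = ⊥ := by
      rw [eq_bot_iff]
      rintro z ⟨hz1, hz2⟩
      rw [mem_bot]
      by_contra hz
      have h1 : zpowers z = zpowers b := eq_of_le_of_card_ge (zpowers_le.2 hz1) (by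
        rw [Nat.card_zpowers, Nat.card_zpowers, hob, orderOf_eq_prime (hexp z) hz])
      exact hb (zpowers_le.2 (pow_mem (mem_zpowers e) m) (zpowers_le.2 hz2 (h1.ge (mem_zpowers b))))
    have h2 : (zpowers b).IsComplement' (zpowers (e ^ m)) := isComplement'_of_disjoint_and_mul_eq_univ
      (disjoint_iff.2 hdis) (by rw [← Subgroup.coe_mul_of_right_le_normalizer_left _ _ (by simp [normalizer_eq_top]), ← hL, hLtop, coe_top])
    rw [← h2.card_mul, Nat.card_zpowers, Nat.card_zpowers, hob, hem, sq]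
  refine ⟨p, hp, hcard, ?_⟩
  rcases (Nat.dvd_prime hp).1 (Monoid.exponent_dvd_of_forall_pow_eq_one hexp) with h | h
  · exact absurd (Monoid.exp_eq_one_iff.1 h) (fun hs => hb1 (hs.elim b 1))
  · exact h

end Cfsg.Agent.S3917
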