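import Cfsg.Statements.S3918
import Cfsg.Agent.Lib.Struct.NormalElementary

set_option autoImplicit false
open Cfsg
open Subgroup
open scoped commutatorElement

namespace Cfsg.Agent.S3918

/-- Say that a group has self-centralizing non-cyclic subgroups when every non-cyclic subgroup H satisfies C_G(H) ≤ H. For an odd prime p, a finite non-abelian p-group has self-centralizing non-cyclic subgroups if and only if it has order p³. -/
theorem result {G : Type*} [Group G] [Finite G] {p : ℕ} [Fact p.Prime] (hp : p ≠ 2) (hG : IsPGroup p G) (hna : ¬ IsMulCommutative G) :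
    (∀ H : Subgroup G, ¬ IsCyclic ↥H → Subgroup.centralizer (H : Set G) ≤ H) ↔ Nat.card G = p ^ 3 := by
  classical
  have hp1 := (Fact.out : p.Prime).one_lt
  haveI := hG.isNilpotent
  have hnc : ¬ IsCyclic G := fun h => hna ⟨⟨fun a b => (IsCyclic.commutative (α := G)).is_comm.comm a b⟩⟩
  obtain ⟨k, hk⟩ := IsPGroup.iff_card.1 hG
  constructor
  · intro h
    obtain ⟨E, hE, hEc, hab, hexp⟩ := Struct.exists_normal_elementary hG hp hnc
    have hEnc : ¬ IsCyclic E := fun hc => by
      obtain ⟨g, hg⟩ := hc.exists_generator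
      have h1 := orderOf_dvd_of_pow_eq_one (show g ^ p = 1 from Subtype.ext (hexp g g.2))
      rw [orderOf_eq_card_of_forall_mem_zpowers hg, hEc] at h1
      have := Nat.le_of_dvd (by omega) h1
      nlinarith
    have hC := h E hEnc
    have hEtop : E ≠ ⊤ := fun e => hna ⟨⟨fun a b => hab a (e ▸ mem_top a) b (e ▸ mem_top b)⟩⟩
    have htop : Group.IsNilpotent (⊤ : Subgroup G) := Group.isNilpotent_top.2 hG.isNilpotent
    set D := ⁅E, (⊤ : Subgroup G)⁆ with hDdef
    have hDlt : D < E := Solv.commutator_lt_of_nilpotent htop le_top (by rw [normalizer_eq_top])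
      (fun h => by rw [h, card_bot] at hEc; nlinarith)
    obtain ⟨d, hd, hdE⟩ := (Nat.dvd_prime_pow (Fact.out : p.Prime)).1 (hEc ▸ card_dvd_of_le hDlt.le)
    have hd1 : d ≤ 1 := by
      by_contra hcon
      exact hDlt.ne (eq_of_le_of_card_ge hDlt.le (by rw [hEc, hdE]; exact Nat.pow_le_pow_right (by omega) (by omega)))
    have hDcard : Nat.card D ≤ p := by rw [hdE]; exact (Nat.pow_le_pow_right (by omega) hd1).trans (pow_one p).le
    have hDn : D.Normal := inferInstance
    have hDc : D ≤ center G := by
      rcases eq_or_ne D ⊥ with hb | hb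
      · rw [hb]; exact bot_le
      have hlt : ⁅D, (⊤ : Subgroup G)⁆ < D := Solv.commutator_lt_of_nilpotent htop le_top (by rw [normalizer_eq_top]) hb
      obtain ⟨d', hd', hdD⟩ := (Nat.dvd_prime_pow (Fact.out : p.Prime)).1 (hdE ▸ card_dvd_of_le hlt.le)
      have : d' = 0 := by
        by_contra hcon
        exact hlt.ne (eq_of_le_of_card_ge hlt.le (by rw [hdD, hdE]; exact Nat.pow_le_pow_right (by omega) (by omega)))
      rw [this, pow_zero, card_eq_one, ← le_bot_iff, commutator_le] at hdD
      exact fun x hx => mem_center_iff.2 fun g =>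
        ((commutatorElement_eq_one_iff_mul_comm.1 (mem_bot.1 (hdD x hx g (mem_top g))))).symm
    obtain ⟨e, he, heD⟩ := SetLike.exists_of_lt hDlt
    have hidx : (centralizer ({e} : Set G)).index ≤ p := by
      refine le_trans ?_ hDcard
      rw [index_eq_card]
      refine Nat.card_le_card_of_injective (fun q => (⟨⁅e, q.out⁆, commutator_mem_commutator he (mem_top _)⟩ : D)) ?_
      intro a b hab'
      have h1 := congrArg Subtype.val hab'
      simp only [commutatorElement_def] at h1
      rw [← QuotientGroup.out_eq' a, ← QuotientGroup.out_eq' b, QuotientGroup.eq, mem_centralizer_singleton_iff]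
      set x := a.out
      set y := b.out
      have h2 : x * e⁻¹ * x⁻¹ = y * e⁻¹ * y⁻¹ := by
        have h3 : ∀ z : G, z * e⁻¹ * z⁻¹ = e⁻¹ * (e * z * e⁻¹ * z⁻¹) := fun z => by group
        rw [h3 x, h3 y, h1]
      calc x⁻¹ * y * e = x⁻¹ * (y * e⁻¹ * y⁻¹)⁻¹ * y := by group
        _ = x⁻¹ * (x * e⁻¹ * x⁻¹)⁻¹ * y := by rw [h2]
        _ = e * (x⁻¹ * y) := by group
    have hCe : centralizer ({e} : Set G) ≤ E := by
      refine le_trans ?_ hC
      intro g hg
      rw [mem_centralizer_singleton_iff] at hg
      rw [mem_centralizer_iff]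
      have hgen : E ≤ D ⊔ zpowers e := by
        by_contra hne
        have hlt : D ⊔ zpowers e < E := lt_of_le_not_ge (sup_le hDlt.le (zpowers_le.2 he)) hne
        obtain ⟨c, hc, hcE⟩ := (Nat.dvd_prime_pow (Fact.out : p.Prime)).1 (hEc ▸ card_dvd_of_le hlt.le)
        have hc1 : c ≤ 1 := by
          by_contra hcon
          exact hlt.ne (eq_of_le_of_card_ge hlt.le (by rw [hEc, hcE]; exact Nat.pow_le_pow_right (by omega) (by omega)))
        have he1 : orderOf e = p := orderOf_eq_prime (hexp e he) fun h1 => heD (h1 ▸ one_mem D)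
        have heq : zpowers e = D ⊔ zpowers e := eq_of_le_of_card_ge le_sup_right (by
          rw [Nat.card_zpowers, he1, hcE]; exact (Nat.pow_le_pow_right (by omega) hc1).trans (pow_one p).le)
        rcases Nat.eq_zero_or_pos d with h0 | hpos
        · rw [h0, pow_zero, card_eq_one] at hdE
          have hcom : centralizer (E : Set G) = ⊤ := eq_top_iff.2 fun g _ => mem_centralizer_iff.2 fun x hx => by
            have := hdE.le (commutator_mem_commutator hx (mem_top g))
            exact commutatorElement_eq_one_iff_mul_comm.1 (mem_bot.1 this)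
          exact hEtop (top_le_iff.1 (hcom ▸ hC))
        · have : D = zpowers e := eq_of_le_of_card_ge (heq ▸ le_sup_left) (by
            rw [Nat.card_zpowers, he1, hdE]; exact Nat.le_self_pow hpos.ne' p)
          exact heD (this ▸ mem_zpowers e)
      have hle : E ≤ centralizer ({g} : Set G) := hgen.trans (sup_le (hDc.trans (center_le_centralizer _))
        (zpowers_le.2 (mem_centralizer_singleton_iff.2 hg.symm)))
      exact fun x hx => mem_centralizer_singleton_iff.1 (hle hx)
    have h1 := Nat.le_of_dvd Nat.card_pos (card_dvd_of_le hCe)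
    have h2 := (centralizer ({e} : Set G)).card_mul_index
    have h3 : Nat.card G ≤ p ^ 3 := by
      rw [← h2]
      calc _ ≤ p ^ 2 * p := Nat.mul_le_mul (h1.trans hEc.le) hidx
        _ = p ^ 3 := by ring
    rw [hk] at h3 ⊢
    congr 1
    refine le_antisymm ((Nat.pow_le_pow_iff_right hp1).1 h3) ?_
    by_contra hlt
    refine hEtop (eq_top_of_le_card E ?_)
    rw [hEc, hk]
    exact Nat.pow_le_pow_right (by omega) (by omega)
  · intro h3 H hH
    rcases eq_or_ne H ⊤ with rfl | hne
    · exact le_top
    obtain ⟨j, hj, hjc⟩ := (Nat.dvd_prime_pow (Fact.out : p.Prime)).1 (h3 ▸ card_subgroup_dvd_card H)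
    have hj3 : j ≠ 3 := fun e => hne (eq_top_of_card_eq H (by rw [hjc, h3, e]))
    have hj2 : j = 2 := by
      by_contra hcon
      refine hH ?_
      rcases (show j = 0 ∨ j = 1 by omega) with rfl | rfl
      · rw [pow_zero, card_eq_one] at hjc; rw [hjc]; infer_instance
      · exact isCyclic_of_prime_card (p := p) (by rw [hjc, pow_one])
    subst hj2
    have hHab : ∀ a b : H, a * b = b * a := IsPGroup.commutative_of_card_eq_prime_sq hjc
    obtain ⟨c, hc, hcC⟩ := (Nat.dvd_prime_pow (Fact.out : p.Prime)).1 (h3 ▸ card_subgroup_dvd_card (centralizer (H : Set G)))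
    have hHC : H ≤ centralizer (H : Set G) := fun a ha => mem_centralizer_iff.2 fun b hb =>
      congrArg Subtype.val (hHab ⟨b, hb⟩ ⟨a, ha⟩)
    by_contra hcon
    have hlt : H < centralizer (H : Set G) := lt_of_le_not_ge hHC hcon
    have hc3 : c = 3 := by
      by_contra h'
      exact hlt.ne (eq_of_le_of_card_ge hHC (by rw [hjc, hcC]; exact Nat.pow_le_pow_right (by omega) (by omega)))
    subst hc3
    have hCtop := eq_top_of_card_eq _ (hcC.trans h3.symm)
    have hHZ : H ≤ center G := fun a ha => mem_center_iff.2 fun g =>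
      (mem_centralizer_iff.1 (hCtop.ge (mem_top g)) a ha).symm
    have hdiv : (center G).index ∣ p := by
      have h' := index_dvd_of_le hHZ
      have hi := H.card_mul_index
      rw [hjc, h3, pow_succ p 2] at hi
      rwa [Nat.eq_of_mul_eq_mul_left (by positivity) hi] at h'
    haveI : IsCyclic (G ⧸ center G) := by
      rcases (Nat.dvd_prime (Fact.out : p.Prime)).1 hdiv with h1 | h1
      · haveI : Subsingleton (G ⧸ center G) := (Nat.card_eq_one_iff_unique.1 (by rw [← index_eq_card, h1])).1
        infer_instance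
      · exact isCyclic_of_prime_card (p := p) (by rw [← index_eq_card, h1])
    exact hna ⟨⟨fun a b => commutative_of_cyclic_center_quotient (QuotientGroup.mk' (center G))
      (by rw [QuotientGroup.ker_mk']) a b⟩⟩

end Cfsg.Agent.S3918
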