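import Cfsg.Statements.S3919
import Cfsg.Agent.Lib.Struct.LowerCentralBounds
import Cfsg.Agent.Lib.Struct.UniqueOrderP
import Cfsg.Agent.Lib.Local.PGroup
import Cfsg.Agent.Lib.Solv.Basic

set_option autoImplicit false
set_option linter.style.haveILetI false
open Cfsg
open Subgroup
open scoped commutatorElement

namespace Cfsg.Agent.S3919

universe u

open Cfsg.Agent.Struct.LowerCentralBounds

theorem lcs_card {G : Type*} [Group G] [Finite G] {m : ℕ} (hG : Nat.card G = 2 ^ m) (hm : 2 ≤ m) :
    (⊤ : Subgroup G).lowerCentralSeries (m - 1) = ⊥ := by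
  haveI : Fact (Nat.Prime 2) := ⟨Nat.prime_two⟩
  have hP : IsPGroup 2 G := IsPGroup.of_card hG
  haveI := hP.isNilpotent
  let L := fun k => (⊤ : Subgroup G).lowerCentralSeries k
  have hn : ∀ k, (L k).Normal := lcs_normal ⊤
  have key : ∀ k, L (k + 1) = ⊥ ∨ Nat.card (L (k + 1)) * 2 ^ (k + 2) ≤ 2 ^ m := by
    intro k
    induction k with
    | zero =>
      by_cases h : L 1 = ⊥
      · exact Or.inl h
      right
      haveI := hn 1
      haveI := hn 2
      obtain ⟨e, he⟩ := IsPGroup.iff_card.1 (hP.to_quotient (L 1))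
      have hmul : Nat.card G = Nat.card (G ⧸ L 1) * Nat.card (L 1) := card_eq_card_quotient_mul_card_subgroup _
      by_cases he2 : 2 ≤ e
      · rw [← hG, hmul, mul_comm, he]
        exact Nat.mul_le_mul_right _ (Nat.pow_le_pow_right two_pos he2)
      exfalso
      haveI : IsCyclic (G ⧸ L 1) := by
        have h' : e = 0 ∨ e = 1 := by omega
        rcases h' with rfl | rfl
        · haveI := (Nat.card_eq_one_iff_unique.1 (he.trans (pow_zero 2))).1
          exact isCyclic_of_subsingleton
        · exact isCyclic_of_prime_card (p := 2) (he.trans (pow_one 2))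
      refine h (eq_bot_of_le_commutator_top ?_)
      let f : G ⧸ L 2 →* G ⧸ L 1 :=
        QuotientGroup.map (L 2) (L 1) (MonoidHom.id G) (Subgroup.lowerCentralSeries_antitone (⊤ : Subgroup G) (Nat.le_succ 1))
      have hker : f.ker ≤ center (G ⧸ L 2) := by
        intro x hx
        obtain ⟨a, rfl⟩ := QuotientGroup.mk_surjective x
        have ha : a ∈ L 1 := (QuotientGroup.eq_one_iff a).1 hx
        refine mem_center_iff.2 fun y => ?_
        obtain ⟨b, rfl⟩ := QuotientGroup.mk_surjective y
        rw [← QuotientGroup.mk_mul, ← QuotientGroup.mk_mul, QuotientGroup.eq]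
        have h2 : ⁅a, b⁆ ∈ L 2 := by
          show ⁅a, b⁆ ∈ (⊤ : Subgroup G).lowerCentralSeries (1 + 1)
          rw [Subgroup.lowerCentralSeries_succ]
          exact commutator_mem_commutator ha (mem_top b)
        rw [show (b * a)⁻¹ * (a * b) = a⁻¹ * b⁻¹ * ⁅a, b⁆ * (a⁻¹ * b⁻¹)⁻¹ by
          simp only [commutatorElement_def]; group]
        exact (hn 2).conj_mem _ h2 _
      haveI : IsMulCommutative (G ⧸ L 2) := ⟨⟨commutative_of_cyclic_center_quotient f hker⟩⟩
      have h12 : L 1 ≤ L 2 := by
        show (⊤ : Subgroup G).lowerCentralSeries 1 ≤ L 2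
        rw [Subgroup.top_lowerCentralSeries_one]
        exact (Subgroup.Normal.quotient_commutative_iff_commutator_le).1 inferInstance
      exact h12.trans (le_of_eq (Subgroup.lowerCentralSeries_succ _ 1))
    | succ k ih =>
      rcases ih with ih | ih
      · exact Or.inl (le_bot_iff.1 ((Subgroup.lowerCentralSeries_antitone _ (Nat.le_succ _)).trans ih.le))
      by_cases h : L (k + 1 + 1) = ⊥
      · exact Or.inl h
      right
      have hle : L (k + 1 + 1) ≤ L (k + 1) := Subgroup.lowerCentralSeries_antitone _ (Nat.le_succ _)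
      have hne : L (k + 1 + 1) ≠ L (k + 1) := fun he => by
        have h0 := eq_bot_of_le_commutator_top (B := L (k + 1))
          (he.ge.trans (le_of_eq (Subgroup.lowerCentralSeries_succ _ (k + 1))))
        exact h (le_bot_iff.1 (hle.trans h0.le))
      obtain ⟨d, hd⟩ := card_dvd_of_le hle
      have hd2 : 2 ≤ d := by
        rcases d with _ | _ | d
        · rw [mul_zero] at hd; exact absurd hd Nat.card_pos.ne'
        · exact absurd (eq_of_le_of_card_ge hle (by rw [hd, zero_add, mul_one])) hne
        · omega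
      refine le_trans ?_ ih
      rw [hd, pow_succ, mul_assoc, mul_comm _ 2]
      exact Nat.mul_le_mul_left _ (Nat.mul_le_mul_right _ hd2)
  rcases key (m - 2) with h | h
  · rwa [show m - 1 = m - 2 + 1 by omega]
  · rw [show m - 2 + 2 = m by omega] at h
    rw [show m - 1 = m - 2 + 1 by omega]
    refine eq_bot_of_card_le _ ?_
    exact Nat.le_of_mul_le_mul_right (h.trans (one_mul _).ge) (pow_pos two_pos m)

theorem lcs_quotient {G : Type*} [Group G] {N : Subgroup G} [N.Normal] (k : ℕ) :
    (⊤ : Subgroup (G ⧸ N)).lowerCentralSeries k = ⊥ ↔ (⊤ : Subgroup G).lowerCentralSeries k ≤ N := by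
  rw [← Subgroup.map_top_of_surjective (QuotientGroup.mk' N) (QuotientGroup.mk'_surjective N),
    ← Subgroup.map_lowerCentralSeries, Subgroup.map_eq_bot_iff, QuotientGroup.ker_mk']

theorem center_card {G : Type*} [Group G] [Finite G] {n : ℕ} (hG : Nat.card G = 2 ^ n) (hn : 3 ≤ n)
    (h : (⊤ : Subgroup G).lowerCentralSeries (n - 2) ≠ ⊥) : Nat.card (center G) = 2 := by
  haveI : Fact (Nat.Prime 2) := ⟨Nat.prime_two⟩
  have hP : IsPGroup 2 G := IsPGroup.of_card hG
  haveI : Nontrivial G := Finite.one_lt_card_iff_nontrivial.1 (hG ▸ Nat.one_lt_pow (by omega) one_lt_two)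
  haveI := hP.center_nontrivial
  obtain ⟨c, hc⟩ := IsPGroup.iff_card.1 (hP.to_subgroup (center G))
  obtain ⟨d, hd⟩ := IsPGroup.iff_card.1 (hP.to_quotient (center G))
  have hmul : Nat.card G = Nat.card (G ⧸ center G) * Nat.card (center G) :=
    card_eq_card_quotient_mul_card_subgroup _
  rw [hG, hc, hd, ← pow_add] at hmul
  have hcd := Nat.pow_right_injective le_rfl hmul
  have hc0 : c ≠ 0 := fun h0 => (Finite.one_lt_card (α := center G)).ne' (by rw [hc, h0, pow_zero])
  rw [hc]
  by_contra hc1
  have hc2 : 2 ≤ c := by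
    rcases c with _ | _ | c
    · exact absurd rfl hc0
    · exact absurd rfl hc1
    · omega
  have hd2 : 2 ≤ d := by
    by_contra hd2
    haveI : IsCyclic (G ⧸ center G) := by
      have h' : d = 0 ∨ d = 1 := by omega
      rcases h' with rfl | rfl
      · haveI := (Nat.card_eq_one_iff_unique.1 (hd.trans (pow_zero 2))).1
        exact isCyclic_of_subsingleton
      · exact isCyclic_of_prime_card (p := 2) (hd.trans (pow_one 2))
    haveI : IsMulCommutative G := ⟨⟨commutative_of_cyclic_center_quotient (QuotientGroup.mk' (center G))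
      (QuotientGroup.ker_mk' (center G)).le⟩⟩
    refine h (le_bot_iff.1 ((Subgroup.lowerCentralSeries_antitone _ (show 1 ≤ n - 2 by omega)).trans ?_))
    rw [Subgroup.top_lowerCentralSeries_one, _root_.commutator_def, commutator_le]
    exact fun a _ b _ => mem_bot.2 (commutatorElement_eq_one_iff_mul_comm.2 (mul_comm' a b))
  have h1 := (lcs_quotient (d - 1)).1 (lcs_card hd hd2)
  refine h (le_bot_iff.1 ((Subgroup.lowerCentralSeries_antitone _ (show d - 1 + 1 ≤ n - 2 by omega)).trans ?_))
  rw [Subgroup.lowerCentralSeries_succ, commutator_le]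
  exact fun a ha b _ => mem_bot.2 (commutatorElement_eq_one_iff_mul_comm.2 (mem_center_iff.1 (h1 ha) b).symm)

theorem exists_cyclic : ∀ (n : ℕ) (G : Type u) [Group G] [Finite G], Nat.card G = 2 ^ n → 3 ≤ n →
    (⊤ : Subgroup G).lowerCentralSeries (n - 2) ≠ ⊥ → ∃ M : Subgroup G, IsCyclic M ∧ M.index = 2 := by
  intro n
  induction n with
  | zero => intros; omega
  | succ m ih =>
  intro G _ _ hG hn h
  haveI : Fact (Nat.Prime 2) := ⟨Nat.prime_two⟩
  have hP : IsPGroup 2 G := IsPGroup.of_card hG
  have hZ := center_card hG hn h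
  have hidx : ∀ M : Subgroup G, Nat.card M = 2 ^ m → M.index = 2 := fun M hM => by
    have := M.card_mul_index
    rw [hM, hG, pow_succ] at this
    exact Nat.eq_of_mul_eq_mul_left (pow_pos two_pos m) this
  by_cases hm : m = 2
  · subst hm
    obtain ⟨b, hb⟩ : ∃ b : G, b ^ 2 ≠ 1 := by
      by_contra hcon
      simp only [not_exists, not_not] at hcon
      refine h ?_
      show (⊤ : Subgroup G).lowerCentralSeries 1 = ⊥
      rw [Subgroup.top_lowerCentralSeries_one, eq_bot_iff, _root_.commutator_def, commutator_le]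
      refine fun a _ b _ => mem_bot.2 (commutatorElement_eq_one_iff_mul_comm.2 ?_)
      have h1 := hcon (a * b)
      have h2 := hcon a
      have h3 := hcon b
      rw [pow_two] at h1 h2 h3
      rw [eq_inv_of_mul_eq_one_left h1, mul_inv_rev, ← eq_inv_of_mul_eq_one_left h2,
        ← eq_inv_of_mul_eq_one_left h3]
    obtain ⟨i, hi⟩ := IsPGroup.iff_orderOf.1 hP b
    have hi2 : 2 ≤ i := by
      by_contra hi2
      exact hb (orderOf_dvd_iff_pow_eq_one.1 (hi ▸ (pow_dvd_pow 2 (show i ≤ 1 by omega)).trans (pow_one 2).dvd))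
    have hi3 : i ≤ 2 := by
      by_contra hi3
      have hib : orderOf b ∣ 2 ^ 3 := hG ▸ _root_.orderOf_dvd_natCard b
      rw [hi] at hib
      have hi' : i = 3 := le_antisymm (Nat.pow_dvd_pow_iff_le_right one_lt_two |>.1 hib) (by omega)
      haveI : IsCyclic G := isCyclic_of_orderOf_eq_card b (by rw [hi, hG, hi'])
      have hab : center G = ⊤ := eq_top_iff.2 fun a _ =>
        mem_center_iff.2 fun y => IsMulCommutative.is_comm.comm y a
      rw [hab, card_top, hG] at hZ
      norm_num at hZ
    exact ⟨zpowers b, inferInstance, hidx _ (by rw [Nat.card_zpowers, hi, le_antisymm hi3 hi2])⟩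
  have hQ : Nat.card (G ⧸ center G) = 2 ^ m := by
    have := card_eq_card_quotient_mul_card_subgroup (center G)
    rw [hZ, hG, pow_succ] at this
    exact (Nat.eq_of_mul_eq_mul_right two_pos this).symm
  have hQl : (⊤ : Subgroup (G ⧸ center G)).lowerCentralSeries (m - 2) ≠ ⊥ := fun hb => by
    have h1 := (lcs_quotient (m - 2)).1 hb
    refine h (le_bot_iff.1 ?_)
    rw [show m + 1 - 2 = m - 2 + 1 by omega, Subgroup.lowerCentralSeries_succ, commutator_le]
    exact fun a ha b _ => mem_bot.2
      (commutatorElement_eq_one_iff_mul_comm.2 (mem_center_iff.1 (h1 ha) b).symm)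
  obtain ⟨Mb, hMc, hMi⟩ := ih (G ⧸ center G) hQ (by omega) hQl
  obtain ⟨⟨bb, hbb⟩, hgen⟩ := hMc.exists_generator
  obtain ⟨b, rfl⟩ := QuotientGroup.mk_surjective bb
  have hMbz : Mb = zpowers (b : G ⧸ center G) := le_antisymm (fun x hx => by
    obtain ⟨i, hi⟩ := hgen ⟨x, hx⟩
    exact ⟨i, by simpa using congrArg Subtype.val hi⟩) (zpowers_le.2 hbb)
  have hord : orderOf (b : G ⧸ center G) = 2 ^ (m - 1) := by
    have h1 := Mb.card_mul_index
    rw [hMi, hQ, hMbz, Nat.card_zpowers, show 2 ^ m = 2 ^ (m - 1) * 2 by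
      rw [← pow_succ]; congr 1; omega] at h1
    exact Nat.eq_of_mul_eq_mul_right two_pos h1
  have hbm : orderOf b ∣ 2 ^ (m - 1) * 2 := by
    refine orderOf_dvd_of_pow_eq_one ?_
    have h1 : b ^ 2 ^ (m - 1) ∈ center G := by
      rw [← QuotientGroup.eq_one_iff, QuotientGroup.mk_pow, ← hord, pow_orderOf_eq_one]
    rw [pow_mul]
    refine orderOf_dvd_iff_pow_eq_one.1 ?_
    have h2 := Subgroup.orderOf_dvd_natCard (center G) h1
    rwa [hZ] at h2
  have hdvd : orderOf (b : G ⧸ center G) ∣ orderOf b := orderOf_map_dvd (QuotientGroup.mk' _) b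
  rw [hord] at hdvd
  obtain ⟨e, he⟩ := hdvd
  rw [he] at hbm
  rcases Nat.prime_two.eq_one_or_self_of_dvd e (Nat.dvd_of_mul_dvd_mul_left (pow_pos two_pos _) hbm)
    with he1 | he1
  swap
  · exact ⟨zpowers b, inferInstance, hidx _ (by
      rw [Nat.card_zpowers, he, he1, ← pow_succ]; congr 1; omega)⟩
  exfalso
  rw [he1, mul_one] at he
  have hcz : ∀ c ∈ center G, c ∈ zpowers (b ^ 2) → c = 1 := by
    intro c hc hcb
    obtain ⟨i, hi⟩ := (zpowers_le.2 (pow_mem (mem_zpowers b) 2) : zpowers (b ^ 2) ≤ zpowers b) hcb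
    change b ^ i = c at hi
    have h1 : ((b : G ⧸ center G)) ^ i = 1 := by
      rw [← QuotientGroup.mk_zpow, hi, QuotientGroup.eq_one_iff]; exact hc
    rw [← orderOf_dvd_iff_zpow_eq_one, hord, ← he, orderOf_dvd_iff_zpow_eq_one] at h1
    rw [← hi, h1]
  haveI hMn : Mb.Normal := Subgroup.normal_of_index_eq_two hMi
  haveI hK : (zpowers (b ^ 2)).Normal := ⟨fun x hx g => by
    obtain ⟨k, rfl⟩ := mem_zpowers_iff.1 hx
    rw [← conj_zpow]
    refine zpow_mem ?_ k
    have hmem : ((g * b * g⁻¹ : G) : G ⧸ center G) ∈ Mb := hMn.conj_mem _ hbb (g : G ⧸ center G)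
    rw [hMbz] at hmem
    obtain ⟨i, hi⟩ := hmem
    change (b : G ⧸ center G) ^ i = _ at hi
    rw [← QuotientGroup.mk_zpow, QuotientGroup.eq] at hi
    rw [← conj_pow]
    have hz2 : ((b ^ i)⁻¹ * (g * b * g⁻¹)) ^ 2 = 1 := by
      refine orderOf_dvd_iff_pow_eq_one.1 ?_
      have h2 := Subgroup.orderOf_dvd_natCard (center G) hi
      rwa [hZ] at h2
    rw [show g * b * g⁻¹ = b ^ i * ((b ^ i)⁻¹ * (g * b * g⁻¹)) by group,
      (show Commute (b ^ i) ((b ^ i)⁻¹ * (g * b * g⁻¹)) from mem_center_iff.1 hi (b ^ i)).mul_pow,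
      hz2, mul_one, ← zpow_natCast (b ^ i), ← zpow_mul, mul_comm, zpow_mul, zpow_natCast]
    exact zpow_mem (mem_zpowers _) i⟩
  have hKb : zpowers (b ^ 2) ≠ ⊥ := by
    rw [Ne, zpowers_eq_bot]
    intro hb2
    have h2 := orderOf_dvd_of_pow_eq_one hb2
    rw [he] at h2
    have := Nat.le_of_dvd two_pos h2
    have : 2 ^ 2 ≤ 2 ^ (m - 1) := Nat.pow_le_pow_right two_pos (by omega)
    omega
  refine Cfsg.Agent.Local.inf_center_ne_bot hP _ hKb (eq_bot_iff.2 ?_)
  rintro c ⟨hc1, hc2⟩
  exact mem_bot.2 (hcz c hc2 hc1)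

theorem involution_unique {G : Type*} [Group G] [Finite G] (M : Subgroup G) [IsCyclic M] (a b : G)
    (ha : a ∈ M) (hb : b ∈ M) (ha2 : a ^ 2 = 1) (hb2 : b ^ 2 = 1) (ha1 : a ≠ 1) (hb1 : b ≠ 1) : a = b := by
  classical
  haveI := Fintype.ofFinite M
  by_contra hab
  have h := IsCyclic.card_pow_eq_one_le (α := M) (n := 2) two_pos
  have h3 : ({1, ⟨a, ha⟩, ⟨b, hb⟩} : Finset M).card = 3 := by
    rw [Finset.card_insert_of_notMem, Finset.card_insert_of_notMem, Finset.card_singleton]
    · simpa [Subtype.ext_iff] using hab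
    · simp [Subtype.ext_iff, eq_comm, ha1, hb1]
  have hsub : ({1, ⟨a, ha⟩, ⟨b, hb⟩} : Finset M) ⊆ Finset.univ.filter fun x : M => x ^ 2 = 1 := by
    intro x hx
    simp only [Finset.mem_insert, Finset.mem_singleton] at hx
    rw [Finset.mem_filter]
    refine ⟨Finset.mem_univ _, ?_⟩
    rcases hx with rfl | rfl | rfl
    · exact one_pow 2
    · exact Subtype.ext ha2
    · exact Subtype.ext hb2
  have := (Finset.card_le_card hsub).trans h
  omega

theorem lcs_ne : ∀ (n : ℕ) (G : Type u) [Group G] [Finite G], Nat.card G = 2 ^ n →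
    ∀ t : G, t ∉ center G → Nat.card (centralizer ({t} : Set G)) ≤ 4 →
    (⊤ : Subgroup G).lowerCentralSeries (n - 2) ≠ ⊥ := by
  intro n
  induction n with
  | zero =>
    intro G _ _ hG t ht _
    haveI := (Nat.card_eq_one_iff_unique.1 (hG.trans (pow_zero 2))).1
    exact absurd (Subsingleton.elim 1 t ▸ one_mem (center G)) ht
  | succ m ih =>
  intro G _ _ hG t ht hC
  haveI : Fact (Nat.Prime 2) := ⟨Nat.prime_two⟩
  have hP : IsPGroup 2 G := IsPGroup.of_card hG
  by_cases hm : m ≤ 2
  · intro h
    have h1 : (⊤ : Subgroup G).lowerCentralSeries 1 = ⊥ :=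
      le_bot_iff.1 ((Subgroup.lowerCentralSeries_antitone _ (show m + 1 - 2 ≤ 1 by omega)).trans h.le)
    rw [Subgroup.top_lowerCentralSeries_one] at h1
    refine ht (mem_center_iff.2 fun g => ?_)
    exact commutatorElement_eq_one_iff_mul_comm.1 (mem_bot.1 (h1 ▸ commutator_mem_commutator (mem_top g) (mem_top t)))
  haveI : Nontrivial G := ⟨⟨t, 1, fun h => ht (h ▸ one_mem _)⟩⟩
  haveI := hP.center_nontrivial
  obtain ⟨c, hc⟩ := IsPGroup.iff_card.1 (hP.to_subgroup (center G))
  have hlt : center G < centralizer ({t} : Set G) :=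
    lt_of_le_of_ne (center_le_centralizer _) fun h => ht (h.ge (mem_centralizer_singleton_iff.2 rfl))
  have hc1 : c = 1 := by
    have h1 : Nat.card (center G) < Nat.card (centralizer ({t} : Set G)) :=
      lt_of_le_of_ne (card_le_of_le hlt.le) fun h => hlt.ne (eq_of_le_of_card_ge hlt.le h.ge)
    rcases c with _ | _ | c
    · exact absurd hc (by rw [pow_zero]; exact (Finite.one_lt_card (α := center G)).ne')
    · rfl
    · rw [hc] at h1
      have : 2 ^ 2 ≤ 2 ^ (c + 1 + 1) := Nat.pow_le_pow_right two_pos (by omega)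
      omega
  rw [hc1, pow_one] at hc
  have hQ : Nat.card (G ⧸ center G) = 2 ^ m := by
    have := card_eq_card_quotient_mul_card_subgroup (center G)
    rw [hc, hG, pow_succ] at this
    exact (Nat.eq_of_mul_eq_mul_right two_pos this).symm
  set K := (centralizer ({(t : G ⧸ center G)} : Set (G ⧸ center G))).comap (QuotientGroup.mk' (center G))
  have hKmem : ∀ g ∈ K, ⁅g, t⁆ ∈ center G := fun g hg => by
    rw [← QuotientGroup.eq_one_iff, show ((⁅g, t⁆ : G) : G ⧸ center G) = ⁅(g : G ⧸ center G), (t : G ⧸ center G)⁆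
      from map_commutatorElement (QuotientGroup.mk' _) g t, commutatorElement_eq_one_iff_mul_comm]
    exact mem_centralizer_singleton_iff.1 (mem_comap.1 hg)
  let f : K →* center G :=
    { toFun := fun g => ⟨⁅(g : G), t⁆, hKmem g g.2⟩
      map_one' := Subtype.ext (by simp)
      map_mul' := fun g g' => Subtype.ext (by
        show ⁅(g : G) * g', t⁆ = ⁅(g : G), t⁆ * ⁅(g' : G), t⁆
        rw [show ⁅(g : G) * g', t⁆ = g * ⁅(g' : G), t⁆ * (g : G)⁻¹ * ⁅(g : G), t⁆ by
          simp only [commutatorElement_def]; group, mem_center_iff.1 (hKmem g' g'.2) g, mul_inv_cancel_right]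
        exact mem_center_iff.1 (hKmem g g.2) _) }
  have hK : Nat.card K ≤ 8 := by
    have h1 := f.ker.card_mul_index
    rw [index_ker] at h1
    have h2 : Nat.card f.ker ≤ Nat.card (centralizer ({t} : Set G)) :=
      Nat.card_le_card_of_injective (fun g => ⟨(g.1 : G), mem_centralizer_singleton_iff.2
        (commutatorElement_eq_one_iff_mul_comm.1 (congrArg Subtype.val g.2))⟩)
        (fun a b h => Subtype.ext (Subtype.ext (congrArg Subtype.val h :)))
    have h3 := (card_le_card_group f.range).trans hc.le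
    rw [← h1]
    exact (Nat.mul_le_mul (h2.trans hC) h3).trans (by norm_num)
  have hCQ : Nat.card (centralizer ({(t : G ⧸ center G)} : Set (G ⧸ center G))) ≤ 4 := by
    have h1 : Nat.card K = Nat.card (centralizer ({(t : G ⧸ center G)} : Set (G ⧸ center G))) * 2 := by
      rw [Cfsg.Agent.Solv.card_comap_mk', hc, mul_comm]
    omega
  have htQ : (t : G ⧸ center G) ∉ center (G ⧸ center G) := fun h => by
    have : centralizer ({(t : G ⧸ center G)} : Set (G ⧸ center G)) = ⊤ :=
      eq_top_iff.2 fun x _ => mem_centralizer_singleton_iff.2 (mem_center_iff.1 h x)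
    rw [this, card_top, hQ] at hCQ
    have : 2 ^ 3 ≤ 2 ^ m := Nat.pow_le_pow_right two_pos (by omega)
    omega
  intro h
  refine ih (G ⧸ center G) hQ _ htQ hCQ ((lcs_quotient (m - 2)).2 fun a ha => mem_center_iff.2 fun b => ?_)
  rw [show m + 1 - 2 = m - 2 + 1 by omega, Subgroup.lowerCentralSeries_succ] at h
  exact (commutatorElement_eq_one_iff_mul_comm.1 (mem_bot.1 (h ▸ commutator_mem_commutator ha (mem_top b)))).symm

theorem two_mul_eq_zero {N : ℕ} [NeZero N] (j : ZMod (2 * N)) (hj : 2 * j = 0) : j = 0 ∨ j = N := by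
  have h1 : ((2 * j.val : ℕ) : ZMod (2 * N)) = 0 := by push_cast [ZMod.natCast_zmod_val]; exact hj
  rw [ZMod.natCast_eq_zero_iff] at h1
  obtain ⟨c, hc⟩ := (Nat.dvd_of_mul_dvd_mul_left two_pos h1)
  have hlt := ZMod.val_lt j
  rcases c with _ | _ | c
  · left; rw [← ZMod.natCast_zmod_val j, hc, mul_zero, Nat.cast_zero]
  · right; rw [← ZMod.natCast_zmod_val j, hc, zero_add, mul_one]
  · exfalso; rw [hc] at hlt; nlinarith


/-- Say that a group has self-centralizing non-cyclic subgroups when every non-cyclic subgroup H satisfies C_G(H) ≤ H. A finite non-abelian 2-group G of order 2^n has self-centralizing non-cyclic subgroups if and only if G has nilpotency class n − 1 (that is, G is dihedral, semidihedral or generalized quaternion). -/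
theorem result {G : Type*} [Group G] [Finite G] (hna : ¬ IsMulCommutative G) (n : ℕ) (hG : Nat.card G = 2 ^ n) :
    (∀ H : Subgroup G, ¬ IsCyclic ↥H → Subgroup.centralizer (H : Set G) ≤ H) ↔ (⊤ : Subgroup G).lowerCentralSeries (n - 2) ≠ ⊥ := by
  classical
  haveI : Fact (Nat.Prime 2) := ⟨Nat.prime_two⟩
  have hP : IsPGroup 2 G := IsPGroup.of_card hG
  have hn : 3 ≤ n := by
    by_contra hn
    refine hna ?_
    have : Nat.card G = 1 ∨ Nat.card G = 2 ∨ Nat.card G = 2 ^ 2 := by
      interval_cases n <;> simp [hG]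
    rcases this with h | h | h
    · haveI := (Nat.card_eq_one_iff_unique.1 h).1
      exact ⟨⟨fun a b => Subsingleton.elim _ _⟩⟩
    · haveI := isCyclic_of_prime_card h
      infer_instance
    · exact IsPGroup.isMulCommutative_of_card_eq_prime_sq h
  constructor
  · intro h
    obtain ⟨t, htc, htC⟩ : ∃ t : G, t ∉ center G ∧ Nat.card (centralizer ({t} : Set G)) ≤ 4 := by
      haveI : Nontrivial G := Finite.one_lt_card_iff_nontrivial.1 (hG ▸ Nat.one_lt_pow (by omega) one_lt_two)
      haveI := hP.center_nontrivial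
      obtain ⟨c, hc⟩ := IsPGroup.iff_card.1 (hP.to_subgroup (center G))
      have hc0 : c ≠ 0 := fun h0 => (Finite.one_lt_card (α := center G)).ne' (by rw [hc, h0, pow_zero])
      obtain ⟨z, hz⟩ := exists_prime_orderOf_dvd_card' (G := center G) 2 (hc ▸ dvd_pow_self 2 hc0)
      rw [← Subgroup.orderOf_coe] at hz
      by_cases huniq : ∀ x y : G, orderOf x = 2 → y ^ 2 = 1 → y ∈ zpowers x
      · rcases Cfsg.Agent.Struct.cyclic_or_quaternion hP huniq with hcyc | ⟨-, k, hk, ⟨e⟩⟩
        · haveI := hcyc
          exact (hna inferInstance).elim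
        haveI : NeZero (2 ^ k) := ⟨pow_ne_zero _ two_ne_zero⟩
        refine ⟨e.symm (QuaternionGroup.xa 0), fun hcen => ?_, ?_⟩
        · have h1 := congrArg e (mem_center_iff.1 hcen (e.symm (QuaternionGroup.a 1)))
          simp only [map_mul, MulEquiv.apply_symm_apply, QuaternionGroup.a_mul_xa, QuaternionGroup.xa_mul_a,
            QuaternionGroup.xa.injEq] at h1
          have h2 : (2 : ZMod (2 * 2 ^ k)) = 0 := by linear_combination -h1
          rw [show (2 : ZMod (2 * 2 ^ k)) = ((2 : ℕ) : ZMod (2 * 2 ^ k)) from rfl,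
            ZMod.natCast_eq_zero_iff] at h2
          have h3 := Nat.le_of_dvd two_pos h2
          have : 2 ^ 1 ≤ 2 ^ k := Nat.pow_le_pow_right two_pos hk
          omega
        · have hmap : centralizer ({e.symm (QuaternionGroup.xa 0)} : Set G) ≤
              (zpowers (QuaternionGroup.xa (n := 2 ^ k) 0)).map e.symm.toMonoidHom := by
            intro g hg
            refine ⟨e g, ?_, e.symm_apply_apply g⟩
            have h1 := congrArg e (mem_centralizer_singleton_iff.1 hg)
            simp only [map_mul, MulEquiv.apply_symm_apply] at h1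
            have hxa2 : (QuaternionGroup.xa (n := 2 ^ k) 0) ^ 2 = QuaternionGroup.a ((2 ^ k : ℕ) : ZMod (2 * 2 ^ k)) :=
              QuaternionGroup.xa_sq 0
            show e g ∈ zpowers (QuaternionGroup.xa (n := 2 ^ k) 0)
            rcases hq : e g with j | j <;> rw [hq] at h1
            · simp only [QuaternionGroup.a_mul_xa, QuaternionGroup.xa_mul_a, QuaternionGroup.xa.injEq] at h1
              rcases two_mul_eq_zero j (by linear_combination -h1) with rfl | rfl
              · rw [← QuaternionGroup.one_def]; exact one_mem _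
              · rw [← hxa2]; exact pow_mem (mem_zpowers _) 2
            · simp only [QuaternionGroup.xa_mul_xa, QuaternionGroup.a.injEq] at h1
              rcases two_mul_eq_zero j (by linear_combination -h1) with rfl | rfl
              · exact mem_zpowers _
              · have : QuaternionGroup.xa ((2 ^ k : ℕ) : ZMod (2 * 2 ^ k)) =
                    QuaternionGroup.xa 0 * QuaternionGroup.a ((2 ^ k : ℕ) : ZMod (2 * 2 ^ k)) := by
                  rw [QuaternionGroup.xa_mul_a, zero_add]
                rw [this, ← hxa2]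
                exact mul_mem (mem_zpowers _) (pow_mem (mem_zpowers _) 2)
          refine (card_le_of_le hmap).trans (le_of_eq ?_)
          rw [card_map_of_injective e.symm.injective, Nat.card_zpowers, QuaternionGroup.orderOf_xa]
      simp only [not_forall] at huniq
      obtain ⟨x, y, hx, hy, hyx⟩ := huniq
      obtain ⟨t, ht2, htz, ht1⟩ : ∃ t : G, t ^ 2 = 1 ∧ t ≠ (z : G) ∧ t ≠ 1 := by
        by_cases hxz : x = (z : G)
        · refine ⟨y, hy, fun he => hyx (by rw [hxz, ← he]; exact mem_zpowers _), fun he => hyx (he ▸ one_mem _)⟩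
        · refine ⟨x, hx ▸ pow_orderOf_eq_one x, hxz, fun he => ?_⟩
          rw [he, orderOf_one] at hx
          exact absurd hx (by norm_num)
      set H := zpowers t ⊔ zpowers (z : G) with hH
      have hnorm : zpowers t ≤ normalizer ((zpowers (z : G) : Subgroup G) : Set G) := fun g _ =>
        centralizer_le_normalizer _ (mem_centralizer_iff.2 fun w hw =>
          (mem_center_iff.1 ((zpowers_le.2 z.2 : zpowers (z : G) ≤ center G) hw) g).symm)
      have hHc : ¬ IsCyclic H := fun hc => htz (involution_unique H t z (mem_sup_left (mem_zpowers t))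
        (mem_sup_right (mem_zpowers _)) ht2 (hz ▸ pow_orderOf_eq_one _) ht1
        fun he => by rw [he, orderOf_one] at hz; exact absurd hz (by norm_num))
      have hle : centralizer ({t} : Set G) ≤ H := by
        refine le_trans ?_ (h H hHc)
        intro g hg
        refine mem_centralizer_iff.2 fun w hw => ?_
        have hle' : H ≤ centralizer ({g} : Set G) := sup_le
          (zpowers_le.2 (mem_centralizer_singleton_iff.2 (mem_centralizer_singleton_iff.1 hg).symm))
          (zpowers_le.2 (mem_centralizer_singleton_iff.2 ((mem_center_iff.1 z.2) g).symm))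
        exact mem_centralizer_singleton_iff.1 (hle' hw)
      have hH4 : Nat.card H ≤ 4 := by
        have h1 := Cfsg.Agent.Solv.card_sup_mul_card_inf (zpowers (z : G)) (zpowers t) hnorm
        rw [Nat.card_zpowers, Nat.card_zpowers, hz, orderOf_eq_prime ht2 ht1, sup_comm, ← hH] at h1
        calc Nat.card H ≤ Nat.card H * Nat.card ↥(zpowers (z : G) ⊓ zpowers t) :=
              Nat.le_mul_of_pos_right _ Nat.card_pos
          _ = _ := h1
      refine ⟨t, fun hcen => ?_, (card_le_of_le hle).trans hH4⟩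
      have h1 : centralizer ({t} : Set G) = ⊤ :=
        eq_top_iff.2 fun g _ => mem_centralizer_singleton_iff.2 (mem_center_iff.1 hcen g)
      have h2 := (card_le_of_le hle).trans hH4
      rw [h1, card_top, hG] at h2
      have : 2 ^ 3 ≤ 2 ^ n := Nat.pow_le_pow_right two_pos hn
      omega
    exact lcs_ne n G hG t htc htC
  · intro h H hH
    obtain ⟨M, hM, hMi⟩ := exists_cyclic n G hG hn h
    haveI := Subgroup.normal_of_index_eq_two hMi
    have hZ := center_card hG hn h
    obtain ⟨t, htH, htM⟩ : ∃ t ∈ H, t ∉ M := by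
      by_contra hcon
      simp only [not_exists, not_and, not_not] at hcon
      exact hH (isCyclic_of_injective (inclusion hcon) (inclusion_injective hcon))
    have hgen : M ⊔ zpowers t = ⊤ := by
      have hlt : M < M ⊔ zpowers t :=
        lt_of_le_of_ne le_sup_left fun he => htM (he ▸ mem_sup_right (mem_zpowers t))
      have h1 := relIndex_mul_index hlt.le
      rw [hMi] at h1
      rcases Nat.prime_two.eq_one_or_self_of_dvd _ (Dvd.intro_left _ h1) with h2 | h2
      · exact index_eq_one.1 h2
      · rw [h2] at h1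
        exact absurd (relIndex_eq_one.1 (by omega)) hlt.not_ge
    have hMab : ∀ a ∈ M, ∀ b ∈ M, a * b = b * a := fun a ha b hb =>
      congrArg Subtype.val (IsMulCommutative.is_comm.comm (⟨a, ha⟩ : M) ⟨b, hb⟩)
    have hcen : M ⊓ centralizer ({t} : Set G) ≤ center G := by
      intro c hc
      refine mem_center_iff.2 fun g => ?_
      have hle' : M ⊔ zpowers t ≤ centralizer ({c} : Set G) := sup_le
        (fun a ha => mem_centralizer_singleton_iff.2 (hMab a ha c hc.1))
        (zpowers_le.2 (mem_centralizer_singleton_iff.2 (mem_centralizer_singleton_iff.1 hc.2).symm))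
      exact mem_centralizer_singleton_iff.1 (hle' (hgen ▸ mem_top g))
    have hC4 : Nat.card (centralizer ({t} : Set G)) ≤ 4 := by
      have h1 := Cfsg.Agent.Solv.card_sup_mul_card_inf M (centralizer ({t} : Set G))
        (by rw [normalizer_eq_top]; exact le_top)
      have h2 : M ⊔ centralizer ({t} : Set G) = ⊤ := top_le_iff.1 (hgen ▸
        sup_le_sup_left (zpowers_le.2 (mem_centralizer_singleton_iff.2 rfl)) M)
      rw [h2, card_top, ← M.card_mul_index, hMi, mul_assoc] at h1
      rw [← Nat.eq_of_mul_eq_mul_left Nat.card_pos h1]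
      exact Nat.mul_le_mul_left 2 ((card_le_of_le hcen).trans hZ.le)
    obtain ⟨z, hz⟩ := exists_prime_orderOf_dvd_card' (G := center G) 2 (hZ ▸ dvd_rfl)
    rw [← Subgroup.orderOf_coe] at hz
    have hzM : (z : G) ∈ M := by
      by_contra hzM
      have hlt : M < M ⊔ zpowers (z : G) :=
        lt_of_le_of_ne le_sup_left fun he => hzM (he ▸ mem_sup_right (mem_zpowers _))
      have h1 := relIndex_mul_index hlt.le
      rw [hMi] at h1
      have htop : M ⊔ zpowers (z : G) = ⊤ := by
        rcases Nat.prime_two.eq_one_or_self_of_dvd _ (Dvd.intro_left _ h1) with h2 | h2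
        · exact index_eq_one.1 h2
        · rw [h2] at h1
          exact absurd (relIndex_eq_one.1 (by omega)) hlt.not_ge
      have hle' : M ⊔ zpowers (z : G) ≤ centralizer (M : Set G) := sup_le
        (fun a ha => mem_centralizer_iff.2 fun b hb => hMab b hb a ha)
        (zpowers_le.2 (center_le_centralizer _ z.2))
      have hMZ : M ≤ center G := fun a ha => mem_center_iff.2 fun g =>
        (mem_centralizer_iff.1 (hle' (htop ▸ mem_top g)) a ha).symm
      exact hna ⟨⟨fun a b => by
        have hle2 : M ⊔ zpowers (z : G) ≤ center G := sup_le hMZ (zpowers_le.2 z.2)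
        exact mem_center_iff.1 (hle2 (htop ▸ mem_top b)) a⟩⟩
    obtain ⟨w, hw, hw1⟩ : ∃ w ∈ H ⊓ M, w ≠ 1 := by
      by_contra hcon
      simp only [not_exists, not_and, not_not] at hcon
      refine hH ⟨⟨t, htH⟩, fun a => ?_⟩
      have htt : t * t = 1 := hcon _ ⟨mul_mem htH htH, Subgroup.mul_self_mem_of_index_two hMi t⟩
      by_cases ha : (a : G) ∈ M
      · have : a = 1 := Subtype.ext (hcon _ ⟨a.2, ha⟩)
        exact ⟨0, by rw [this]; simp⟩
      · have h1 := hcon ((a : G) * t) ⟨mul_mem a.2 htH, (Subgroup.mul_mem_iff_of_index_two hMi).2 (by simp [ha, htM])⟩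
        refine ⟨1, Subtype.ext ?_⟩
        show t ^ (1 : ℤ) = a
        rw [zpow_one, eq_inv_of_mul_eq_one_left h1, inv_eq_of_mul_eq_one_right htt]
    have hzH : (z : G) ∈ H := by
      obtain ⟨i, hi⟩ := IsPGroup.iff_orderOf.1 hP w
      have hi0 : i ≠ 0 := fun h0 => hw1 (orderOf_eq_one_iff.1 (by rw [hi, h0, pow_zero]))
      have hw2 : orderOf (w ^ 2 ^ (i - 1)) = 2 := by
        rw [orderOf_pow_of_dvd (pow_ne_zero _ two_ne_zero) (hi ▸ pow_dvd_pow 2 (Nat.sub_le _ _)), hi,
          Nat.pow_div (Nat.sub_le _ _) two_pos, show i - (i - 1) = 1 by omega, pow_one]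
      rw [involution_unique M z (w ^ 2 ^ (i - 1)) hzM (pow_mem hw.2 _) (hz ▸ pow_orderOf_eq_one _)
        (hw2 ▸ pow_orderOf_eq_one _) (fun he => by rw [he, orderOf_one] at hz; exact absurd hz (by norm_num))
        (fun he => by rw [he, orderOf_one] at hw2; exact absurd hw2 (by norm_num))]
      exact pow_mem hw.1 _
    intro g hg
    set D := zpowers t ⊔ zpowers (z : G)
    have hDH : D ≤ H := sup_le (zpowers_le.2 htH) (zpowers_le.2 hzH)
    have hDC : D ≤ centralizer ({t} : Set G) := sup_le (zpowers_le.2 (mem_centralizer_singleton_iff.2 rfl))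
      (zpowers_le.2 (mem_centralizer_singleton_iff.2 ((mem_center_iff.1 z.2) t).symm))
    obtain ⟨d, hd⟩ := IsPGroup.iff_card.1 (hP.to_subgroup D)
    have hlt : zpowers (z : G) < D := lt_of_le_of_ne le_sup_right fun he => htM
      ((zpowers_le.2 hzM) (he.ge (mem_sup_left (mem_zpowers t))))
    have hd2 : 2 ≤ d := by
      have h1 : Nat.card (zpowers (z : G)) < Nat.card D :=
        lt_of_le_of_ne (card_le_of_le hlt.le) fun he => hlt.ne (eq_of_le_of_card_ge hlt.le he.ge)
      rw [Nat.card_zpowers, hz, hd] at h1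
      by_contra hd2
      have : 2 ^ d ≤ 2 ^ 1 := Nat.pow_le_pow_right two_pos (by omega)
      omega
    have heq : D = centralizer ({t} : Set G) := eq_of_le_of_card_ge hDC
      (hC4.trans (by rw [hd]; exact Nat.pow_le_pow_right (n := 2) two_pos hd2))
    exact hDH (heq ▸ mem_centralizer_singleton_iff.2 ((mem_centralizer_iff.1 hg) t htH).symm)

end Cfsg.Agent.S3919
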