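import Cfsg.Statements.S3920
import Mathlib

set_option autoImplicit false
open Cfsg

namespace Cfsg.Agent.S3920

/-- Say that a group has self-centralizing non-cyclic subgroups when every non-cyclic subgroup H satisfies C_G(H) ≤ H. For n ≥ 3, the dihedral group of order 2n has self-centralizing non-cyclic subgroups if and only if n is odd or a power of 2. -/
theorem result (n : ℕ) (hn : 3 ≤ n) : (∀ H : Subgroup (DihedralGroup n), ¬ IsCyclic ↥H → Subgroup.centralizer (H : Set (DihedralGroup n)) ≤ H) ↔ (Odd n ∨ ∃ k : ℕ, n = 2 ^ k) := by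
  haveI : NeZero n := ⟨by omega⟩
  constructor
  · intro h
    by_contra hno
    push_neg at hno
    obtain ⟨hnodd, hnpow⟩ := hno
    have hneven : Even n := Nat.not_odd_iff_even.mp hnodd
    obtain ⟨k, m, hm, hkm⟩ := Nat.exists_eq_two_pow_mul_odd (show n ≠ 0 by omega)
    have hm3 : 3 ≤ m := by
      obtain ⟨j, hj⟩ := hm
      rcases Nat.eq_zero_or_pos j with rfl | hj0
      · exact absurd (show n = 2 ^ k by rw [hkm, hj]; ring) (hnpow k)
      · omega
    have hk0 : k ≠ 0 := by
      rintro rfl
      simp at hkm
      exact hnodd (hkm ▸ hm)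
    -- the dihedral subgroup generated by `sr 0` and the rotations by multiples of `2 ^ k`
    let d : ZMod n := ((2 ^ k : ℕ) : ZMod n)
    let H : Subgroup (DihedralGroup n) :=
      { carrier := {g | ∃ j : ℤ, g = DihedralGroup.r (j • d) ∨ g = DihedralGroup.sr (j • d)}
        one_mem' := ⟨0, Or.inl (by rw [zero_smul]; rfl)⟩
        mul_mem' := by
          rintro a b ⟨i, rfl | rfl⟩ ⟨j, rfl | rfl⟩
          · exact ⟨i + j, Or.inl (by simp [add_smul])⟩
          · exact ⟨j - i, Or.inr (by simp [sub_smul])⟩
          · exact ⟨i + j, Or.inr (by simp [add_smul])⟩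
          · exact ⟨j - i, Or.inl (by simp [sub_smul])⟩
        inv_mem' := by
          rintro a ⟨i, rfl | rfl⟩
          · exact ⟨-i, Or.inl (by simp)⟩
          · exact ⟨i, Or.inr (by simp)⟩ }
    have hmem : ∀ g, g ∈ H ↔ ∃ j : ℤ, g = DihedralGroup.r (j • d) ∨ g = DihedralGroup.sr (j • d) :=
      fun g => Iff.rfl
    have hd2 : d + d ≠ 0 := by
      intro hc
      have hc' : ((2 ^ k + 2 ^ k : ℕ) : ZMod n) = 0 := by rw [Nat.cast_add]; exact hc
      rw [ZMod.natCast_eq_zero_iff] at hc'
      have h1 := Nat.le_of_dvd (by positivity) hc'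
      have h2 : 0 < 2 ^ k := by positivity
      have h3 : 2 ^ k * 3 ≤ 2 ^ k * m := Nat.mul_le_mul_left _ hm3
      omega
    have hnc : ¬ IsCyclic ↥H := by
      intro hc
      haveI := hc
      have hs : DihedralGroup.sr (0 : ZMod n) ∈ H := (hmem _).mpr ⟨0, Or.inr (by simp)⟩
      have hr : DihedralGroup.r d ∈ H := (hmem _).mpr ⟨1, Or.inl (by simp)⟩
      have hcomm : ∀ a b : ↥H, a * b = b * a := fun a b => IsCyclic.commutative.is_comm.comm a b
      have := congrArg Subtype.val (hcomm ⟨_, hs⟩ ⟨_, hr⟩)
      simp at this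
      exact hd2 (by linear_combination this)
    obtain ⟨t, ht⟩ := hneven
    have hz : ((t : ℕ) : ZMod n) + ((t : ℕ) : ZMod n) = 0 := by
      rw [← Nat.cast_add, ← ht, ZMod.natCast_self]
    have hzc : DihedralGroup.r ((t : ℕ) : ZMod n) ∈ Subgroup.centralizer (H : Set (DihedralGroup n)) := by
      rw [Subgroup.mem_centralizer_iff]
      rintro g ⟨j, rfl | rfl⟩
      · simp [add_comm]
      · simp
        linear_combination hz
    obtain ⟨j, hj | hj⟩ := (hmem _).mp (h H hnc hzc)
    · simp only [DihedralGroup.r.injEq] at hj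
      have hdvd : 2 ^ k ∣ n := Dvd.intro m hkm.symm
      have h1 := congrArg (ZMod.castHom hdvd (ZMod (2 ^ k))) hj
      rw [map_natCast, map_zsmul, map_natCast, ZMod.natCast_self, zsmul_zero,
        ZMod.natCast_eq_zero_iff] at h1
      obtain ⟨c, hc⟩ := h1
      obtain ⟨i, hi⟩ := hm
      have hk1 : 2 ^ k = 2 * 2 ^ (k - 1) := by
        rw [← pow_succ', Nat.sub_add_cancel (Nat.one_le_iff_ne_zero.mpr hk0)]
      have h2 : 2 ^ k * m = 2 ^ k * (2 * c) := by
        rw [← hkm, ht, hc]; ring
      have := Nat.eq_of_mul_eq_mul_left (by positivity) h2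
      omega
    · simp at hj
  · intro hn' H hH g hg
    rw [Subgroup.mem_centralizer_iff] at hg
    -- a non-cyclic subgroup contains a reflection and a nontrivial rotation
    have hrot : ∀ g : DihedralGroup n, (∃ i, g = DihedralGroup.r i) ↔ g ∈ Subgroup.zpowers (DihedralGroup.r (1 : ZMod n)) := by
      intro g
      constructor
      · rintro ⟨i, rfl⟩
        exact ⟨(i.val : ℤ), by simp⟩
      · rintro ⟨z, rfl⟩
        exact ⟨(z : ZMod n), by simp⟩
    obtain ⟨a, ha⟩ : ∃ a, DihedralGroup.sr a ∈ H := by
      by_contra hc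
      push_neg at hc
      apply hH
      have hle : H ≤ Subgroup.zpowers (DihedralGroup.r (1 : ZMod n)) := by
        intro x hx
        cases x with
        | r i => exact (hrot _).mp ⟨i, rfl⟩
        | sr i => exact absurd hx (hc i)
      exact isCyclic_of_injective (Subgroup.inclusion hle) (Subgroup.inclusion_injective hle)
    obtain ⟨b, hb, hb0⟩ : ∃ b, DihedralGroup.r b ∈ H ∧ b ≠ 0 := by
      by_contra hc
      push_neg at hc
      apply hH
      have hle : H ≤ Subgroup.zpowers (DihedralGroup.sr a) := by
        intro x hx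
        cases x with
        | r i =>
          rw [hc i hx]
          exact Subgroup.one_mem _
        | sr i =>
          have h1 : DihedralGroup.sr a * DihedralGroup.sr i ∈ H := H.mul_mem ha hx
          rw [DihedralGroup.sr_mul_sr] at h1
          rw [sub_eq_zero.mp (hc _ h1)]
          exact Subgroup.mem_zpowers _
      exact isCyclic_of_injective (Subgroup.inclusion hle) (Subgroup.inclusion_injective hle)
    -- rotations centralizing `sr a` lie in `H`
    have key : ∀ i : ZMod n, i + i = 0 → DihedralGroup.r i ∈ H := by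
      intro i hi
      by_cases hi0 : i = 0
      · rw [hi0]; exact H.one_mem
      have hie : i.val + i.val = n := by
        have h1 : ((i.val + i.val : ℕ) : ZMod n) = 0 := by simp [hi]
        rw [ZMod.natCast_eq_zero_iff] at h1
        have h2 := ZMod.val_lt i
        have h3 : i.val ≠ 0 := by rwa [Ne, ZMod.val_eq_zero]
        obtain ⟨c, hc⟩ := h1
        rcases c with _ | _ | c
        · omega
        · omega
        · have : n * (c + 1 + 1) ≥ n * 2 := Nat.mul_le_mul_left _ (by omega)
          omega
      rcases hn' with hodd | ⟨k, rfl⟩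
      · exact absurd ⟨i.val, hie.symm⟩ (Nat.not_even_iff_odd.mpr hodd)
      · -- the last nontrivial power of `r b` is the unique rotation of order two
        have hbv : b.val ≠ 0 := by rwa [Ne, ZMod.val_eq_zero]
        obtain ⟨v, m, hm, hvm⟩ := Nat.exists_eq_two_pow_mul_odd hbv
        have hvk : v < k := by
          have h1 : 2 ^ v ≤ b.val := Nat.le_of_dvd (Nat.pos_of_ne_zero hbv) ⟨m, hvm⟩
          have h2 := ZMod.val_lt b
          exact (Nat.pow_lt_pow_iff_right (by norm_num)).mp (lt_of_le_of_lt h1 h2)
        have hpow : DihedralGroup.r b ^ (2 ^ (k - 1 - v)) = DihedralGroup.r i := by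
          obtain ⟨c, hc⟩ := hm
          rw [DihedralGroup.r_pow]
          congr 1
          have hb' : b = ((2 ^ v * (2 * c + 1) : ℕ) : ZMod (2 ^ k)) := by
            rw [← hc, ← hvm]; exact (ZMod.natCast_zmod_val b).symm
          have hk1 : 2 ^ k = 2 * 2 ^ (k - 1) := by
            rw [← pow_succ', Nat.sub_add_cancel (by omega)]
          have hi' : i = ((2 ^ (k - 1) : ℕ) : ZMod (2 ^ k)) := by
            rw [← ZMod.natCast_zmod_val i]
            congr 1
            omega
          rw [hb', hi', ← Nat.cast_mul]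
          rw [show 2 ^ v * (2 * c + 1) * 2 ^ (k - 1 - v) = 2 ^ k * c + 2 ^ (k - 1) by
            rw [hk1, show 2 ^ (k - 1) = 2 ^ v * 2 ^ (k - 1 - v) by rw [← pow_add]; congr 1; omega]
            ring]
          simp
        rw [← hpow]; exact H.pow_mem hb _
    cases g with
    | r i =>
      have h1 := hg _ ha
      simp at h1
      exact key i (by linear_combination h1)
    | sr i =>
      have h1 := hg _ ha
      simp at h1
      have h2 : DihedralGroup.r (i - a) ∈ H := key _ (by linear_combination h1)
      have h3 := H.mul_mem ha h2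
      simpa using h3

end Cfsg.Agent.S3920
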