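import Cfsg.Statements.S3937
import Cfsg.Agent.Lib.Solv.Subnormal

set_option autoImplicit false
open Cfsg
open Subgroup
open scoped commutatorElement Pointwise

namespace Cfsg.Agent.S3937

universe u

theorem engel_subnormal : ∀ (n : ℕ) (G : Type u) [Group G] [Finite G], Nat.card G ≤ n → ∀ g : G,
    (∀ x : G, ∃ n : ℕ, (List.replicate n g).foldl (fun a b => a * b * a⁻¹ * b⁻¹) x = 1) →
    (zpowers g).IsSubnormal := by
  intro n
  induction n with
  | zero => intro G _ _ hn; exact absurd hn (not_le.mpr Nat.card_pos)
  | succ n ih =>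
    intro G _ _ hn g hg
    by_contra hns
    have hprop : ∀ H : Subgroup G, zpowers g ≤ H → H ≠ ⊤ →
        ((zpowers g).subgroupOf H).IsSubnormal := by
      intro H hgH hH
      have hlt : Nat.card H < Nat.card G :=
        lt_of_le_of_ne (card_le_card_group _) fun h' => hH (eq_top_of_card_eq _ h')
      have hg' : g ∈ H := hgH (mem_zpowers g)
      have e : (zpowers g).subgroupOf H = zpowers (⟨g, hg'⟩ : H) := by
        apply map_injective H.subtype_injective
        rw [map_subgroupOf_eq_of_le hgH, MonoidHom.map_zpowers]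
        rfl
      rw [e]
      refine ih H (by omega) _ fun x => ?_
      obtain ⟨k, hk⟩ := hg x
      refine ⟨k, Subtype.ext ?_⟩
      have hcoe : ∀ (l : ℕ) (y : H), (((List.replicate l (⟨g, hg'⟩ : H)).foldl
          (fun a b => a * b * a⁻¹ * b⁻¹) y : H) : G) =
          (List.replicate l g).foldl (fun a b => a * b * a⁻¹ * b⁻¹) (y : G) := by
        intro l
        induction l with
        | zero => intro y; rfl
        | succ l ihl =>
          intro y
          rw [List.replicate_succ, List.replicate_succ, List.foldl_cons, List.foldl_cons, ihl]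
          rfl
      rw [hcoe, hk, coe_one]
    have hne : zpowers g ≠ ⊤ := fun h0 => hns (h0 ▸ IsSubnormal.top)
    obtain ⟨M, hM, hgM⟩ := Cfsg.Agent.Solv.exists_coatom_ge hne
    by_cases hMn : M.Normal
    · exact hns (IsSubnormal.trans hgM (hprop M hgM hM.1) hMn.isSubnormal)
    have hN : normalizer (M : Set G) = M := ((hM.le_iff).1 le_normalizer).resolve_left
      fun h0 => hMn (normalizer_eq_top_iff.1 h0)
    obtain ⟨x, -, hx⟩ := SetLike.exists_of_lt hM.lt_top
    obtain ⟨k, hk⟩ := hg x
    obtain ⟨y, hy, hyg⟩ : ∃ y, y ∉ M ∧ y * g * y⁻¹ * g⁻¹ ∈ M := by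
      induction k generalizing x with
      | zero =>
        simp only [List.replicate_zero, List.foldl_nil] at hk
        exact absurd (hk ▸ one_mem M) hx
      | succ k ihk =>
        by_cases h1 : x * g * x⁻¹ * g⁻¹ ∈ M
        · exact ⟨x, hx, h1⟩
        · exact ihk _ h1 (by rw [List.replicate_succ, List.foldl_cons] at hk; exact hk)
    have hyM : zpowers g ≤ MulAut.conj y⁻¹ • M := by
      rw [zpowers_le, Cfsg.Agent.Solv.mem_conj_smul]
      simpa using mul_mem hyg (hgM (mem_zpowers g))
    have hKc : IsCoatom (MulAut.conj y⁻¹ • M) := by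
      have h1 := ((MulAut.conj y⁻¹).mapSubgroup).isCoatom_iff M
      rw [← h1] at hM
      exact hM
    have heq := Cfsg.Agent.Solv.zipper_aux _ hns hprop M _ hM hKc hgM hyM
    refine hy ?_
    have h2 : y⁻¹ ∈ normalizer (M : Set G) := Cfsg.Agent.Solv.mem_normalizer_of_conj_le heq.ge
    rw [hN] at h2
    exact inv_mem_iff.1 h2


/-- Baer's characterization of the Fitting subgroup: in a finite group G, an element g lies in the Fitting subgroup if and only if g is a left Engel element, that is, for every x there is n with [x, g, g, …, g] = 1 (n entries g, [a, b] = aba⁻¹b⁻¹). -/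
theorem result {G : Type*} [Group G] [Finite G] (g : G) :
    g ∈ Cfsg.fittingSubgroup G ↔ ∀ x : G, ∃ n : ℕ, (List.replicate n g).foldl (fun a b => a * b * a⁻¹ * b⁻¹) x = 1 := by
  constructor
  · intro hg x
    haveI : (Cfsg.fittingSubgroup G).Normal := Cfsg.Agent.Solv.fittingSubgroup_normal G
    obtain ⟨c, hc⟩ := (Subgroup.isNilpotent_iff_lowerCentralSeries _).1
      (Cfsg.Agent.Solv.fittingSubgroup_isNilpotent G)
    have key : ∀ k, (List.replicate (k + 1) g).foldl (fun a b => a * b * a⁻¹ * b⁻¹) x ∈
        (Cfsg.fittingSubgroup G).lowerCentralSeries k := by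
      intro k
      induction k with
      | zero =>
        rw [Subgroup.lowerCentralSeries_zero]
        exact mul_mem ((inferInstance : (Cfsg.fittingSubgroup G).Normal).conj_mem g hg x) (inv_mem hg)
      | succ k ih =>
        rw [List.replicate_succ', List.foldl_append, Subgroup.lowerCentralSeries_succ]
        exact commutator_mem_commutator ih hg
    refine ⟨c + 1, ?_⟩
    have h1 := key c
    rw [hc] at h1
    exact mem_bot.1 h1
  · intro h
    refine Cfsg.Agent.Solv.le_fittingSubgroup_of_isSubnormal (engel_subnormal _ G le_rfl g h) ?_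
      (mem_zpowers g)
    refine (Subgroup.isNilpotent_iff_lowerCentralSeries _).2 ⟨1, ?_⟩
    rw [Subgroup.lowerCentralSeries_succ, Subgroup.lowerCentralSeries_zero, commutator_self_eq_bot_iff]
    infer_instance

end Cfsg.Agent.S3937
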