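import Cfsg.Statements.S3939
import Cfsg.Agent.Lib.Solv.FpfNilpotent
import Cfsg.Agent.Lib.Struct.PrimeParts

set_option autoImplicit false
set_option linter.style.haveILetI false
open Cfsg
open Subgroup
open scoped commutatorElement

namespace Cfsg.Agent.S3939

theorem pPart_mem {G : Type*} [Group G] [Finite G] {p : ℕ} [Fact p.Prime] (g : G) (a : ℕ)
    (ho : orderOf g = p ^ a)
    (h : ∀ x : G, Group.IsNilpotent ↥(Subgroup.closure ({x, g} : Set G))) :
    g ∈ ⨆ n : ℕ, Subgroup.upperCentralSeries G n := by
  have hp : p.Prime := Fact.out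
  let O : Subgroup G := closure {x : G | (orderOf x).Coprime p}
  haveI hO : O.Normal := ⟨fun y hy z => by
    have hle : O ≤ O.comap (MulAut.conj z).toMonoidHom := by
      rw [closure_le]
      intro u hu
      refine subset_closure ?_
      show (orderOf ((MulAut.conj z) u)).Coprime p
      rw [MulEquiv.orderOf_eq]
      exact hu
    exact hle hy⟩
  obtain ⟨P, hP⟩ := (IsPGroup.of_card (p := p) (n := a) (G := zpowers g)
    (by rw [Nat.card_zpowers, ho])).exists_le_sylow
  have hgP : g ∈ (P : Subgroup G) := hP (mem_zpowers g)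
  have hOg : O ≤ centralizer ({g} : Set G) := by
    rw [closure_le]
    intro x hx
    rw [SetLike.mem_coe, mem_centralizer_singleton_iff]
    let H := closure ({x, g} : Set G)
    have hc := Cfsg.Agent.Solv.commute_of_coprime_orderOf_of_isNilpotent (h x)
      (x := ⟨x, subset_closure (Set.mem_insert _ _)⟩)
      (g := ⟨g, subset_closure (Set.mem_insert_of_mem _ rfl)⟩)
      (by rw [← Subgroup.orderOf_coe, ← Subgroup.orderOf_coe]; simp only [ho]
          exact Nat.Coprime.pow_right _ hx)
    exact congrArg Subtype.val hc.eq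
  have hOP : O ⊔ (P : Subgroup G) = ⊤ := by
    obtain ⟨e, he⟩ : ∃ e, (O ⊔ (P : Subgroup G)).index ∣ p ^ e := by
      refine ⟨(Nat.card G).factorization p, ?_⟩
      by_contra hnd
      -- a prime `q ≠ p` dividing the index gives a `q`-element outside `O`
      have h0 : (O ⊔ (P : Subgroup G)).index ≠ 0 := index_ne_zero_of_finite
      have h1 : (O ⊔ (P : Subgroup G)).index ∣ Nat.card G := index_dvd_card _
      obtain ⟨q, hq, hqd, hqp⟩ : ∃ q, q.Prime ∧ q ∣ (O ⊔ (P : Subgroup G)).index ∧ q ≠ p := by
        by_contra hc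
        simp only [not_exists, not_and, not_not] at hc
        refine hnd ?_
        have h2 := Nat.eq_prime_pow_of_unique_prime_dvd h0 (fun {d} hd hdd => hc d hd hdd)
        rw [h2] at h1 ⊢
        exact pow_dvd_pow p ((hp.pow_dvd_iff_le_factorization Nat.card_pos.ne').1 h1)
      haveI : Fact q.Prime := ⟨hq⟩
      let Q : Sylow q G := default
      have hQ : (Q : Subgroup G) ≤ O := by
        intro u hu
        refine subset_closure ?_
        obtain ⟨k, hk⟩ := IsPGroup.iff_orderOf.1 Q.isPGroup' ⟨u, hu⟩
        show (orderOf u).Coprime p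
        rw [← Subgroup.orderOf_mk u hu, hk]
        exact Nat.Coprime.pow_left _ ((Nat.coprime_primes hq hp).2 hqp)
      exact Q.not_dvd_index (hqd.trans (index_dvd_of_le (hQ.trans le_sup_left)))
    have h3 : (O ⊔ (P : Subgroup G)).index ∣ (P : Subgroup G).index := index_dvd_of_le le_sup_right
    refine index_eq_one.1 (Nat.eq_one_of_dvd_coprimes ?_ h3 he)
    exact Nat.Coprime.pow_right _ (hp.coprime_iff_not_dvd.2 P.not_dvd_index).symm
  set Z := normalClosure ({g} : Set G) with hZdef
  have hconj : ∀ h : G, h * g * h⁻¹ ∈ (P : Subgroup G) ⊓ centralizer (O : Set G) := by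
    intro h'
    obtain ⟨o, ho', q, hq, rfl⟩ := mem_sup_of_normal_left.1 (hOP ▸ mem_top h' : h' ∈ O ⊔ (P : Subgroup G))
    have h1 : ∀ u ∈ O, u * (q * g * q⁻¹) = (q * g * q⁻¹) * u := by
      intro u hu
      have h2 := mem_centralizer_singleton_iff.1 (hOg (hO.conj_mem u hu q⁻¹))
      have h3 := congrArg (fun z => q * z * q⁻¹) h2
      simpa [mul_assoc] using h3
    have h4 : o * q * g * (o * q)⁻¹ = q * g * q⁻¹ := by
      rw [show o * q * g * (o * q)⁻¹ = o * (q * g * q⁻¹) * o⁻¹ by group, h1 o ho']
      group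
    rw [h4]
    exact mem_inf.2 ⟨mul_mem (mul_mem hq hgP) (inv_mem hq),
      mem_centralizer_iff.2 fun u hu => h1 u hu⟩
  have hZle : Z ≤ (P : Subgroup G) ⊓ centralizer (O : Set G) := by
    refine (closure_le _).2 ?_
    intro u hu
    obtain ⟨c, hc, hcu⟩ := Group.mem_conjugatesOfSet_iff.1 hu
    obtain ⟨d, rfl⟩ := isConj_iff.1 hcu
    rw [Set.mem_singleton_iff.1 hc]
    exact hconj d
  haveI := P.isPGroup'.isNilpotent
  obtain ⟨c, hc⟩ := (Subgroup.nilpotent_iff_lowerCentralSeries (G := ↥(P : Subgroup G))).1 inferInstance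
  let L : ℕ → Subgroup G := fun n =>
    (((⊤ : Subgroup ↥(P : Subgroup G)).lowerCentralSeries n).map (P : Subgroup G).subtype) ⊓ Z
  have hstep : ∀ n, ∀ u ∈ L n, ∀ w : G, ⁅u, w⁆ ∈ L (n + 1) := by
    intro n u hu w
    obtain ⟨⟨u', hu', rfl⟩, huZ⟩ := mem_inf.1 hu
    obtain ⟨o, ho', q, hq, rfl⟩ := mem_sup_of_normal_left.1 (hOP ▸ mem_top w : w ∈ O ⊔ (P : Subgroup G))
    have h1 : ⁅((P : Subgroup G).subtype u'), o⁆ = 1 := commutatorElement_eq_one_iff_mul_comm.2
      (mem_centralizer_iff.1 (mem_inf.1 (hZle huZ)).2 o ho').symm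
    have h2 : ⁅(P : Subgroup G).subtype u', q⁆ ∈ Z :=
      commutator_le_left Z ⊤ (commutator_mem_commutator huZ (mem_top q))
    rw [commutatorElement_mul_right_eq_mul_conj, h1]
    simp only [one_mul]
    rw [mem_centralizer_iff.1 (mem_inf.1 (hZle h2)).2 o ho', mul_inv_cancel_right]
    refine mem_inf.2 ⟨⟨⁅u', ⟨q, hq⟩⁆, ?_, map_commutatorElement _ _ _⟩, h2⟩
    rw [Subgroup.lowerCentralSeries_succ]
    exact commutator_mem_commutator hu' (mem_top _)
  have hup : ∀ j, j ≤ c → L (c - j) ≤ Subgroup.upperCentralSeries G j := by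
    intro j
    induction j with
    | zero =>
      intro _
      rw [Nat.sub_zero, show L c = ((⊤ : Subgroup ↥(P : Subgroup G)).lowerCentralSeries c).map
        (P : Subgroup G).subtype ⊓ Z from rfl, hc, Subgroup.map_bot, bot_inf_eq]
      exact bot_le
    | succ j ih =>
      intro hj u hu
      rw [Subgroup.mem_upperCentralSeries_succ_iff]
      intro w
      refine ih (Nat.le_of_succ_le hj) ?_
      have h1 := hstep _ u hu w
      rwa [show c - (j + 1) + 1 = c - j by omega] at h1
  refine mem_iSup_of_mem c (hup c le_rfl ?_)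
  rw [Nat.sub_self]
  refine mem_inf.2 ⟨⟨⟨g, hgP⟩, ?_, rfl⟩, subset_normalClosure rfl⟩
  rw [Subgroup.lowerCentralSeries_zero]
  exact mem_top _


/-- In a finite group G the set of elements g such that the subgroup generated by g and x is nilpotent for every x ∈ G is exactly the hypercenter of G (the last term of the upper central series). -/
theorem result {G : Type*} [Group G] [Finite G] (g : G) :
    (∀ x : G, Group.IsNilpotent ↥(Subgroup.closure ({x, g} : Set G))) ↔ g ∈ ⨆ n : ℕ, Subgroup.upperCentralSeries G n := by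
  classical
  constructor
  · intro h
    refine Cfsg.Agent.Struct.PrimeParts.mem_of_forall_primePow fun i p a hp ho => ?_
    haveI : Fact p.Prime := ⟨hp⟩
    refine pPart_mem (g ^ i) a ho fun x => ?_
    have hle : closure ({x, g ^ i} : Set G) ≤ closure ({x, g} : Set G) := by
      rw [closure_le]
      rintro y (rfl | rfl)
      · exact subset_closure (Set.mem_insert _ _)
      · exact SetLike.mem_coe.2 (Subgroup.pow_mem _ (subset_closure (Set.mem_insert_of_mem _ (Set.mem_singleton g))) _)
    haveI := h x
    exact Group.isNilpotent_congr (subgroupOfEquivOfLe hle) |>.1 inferInstance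
  · intro hg x
    obtain ⟨N, hN⟩ : ∃ N, g ∈ Subgroup.upperCentralSeries G N :=
      (Subgroup.mem_iSup_of_directed (Subgroup.upperCentralSeries_mono G).directed_le).1 hg
    set H := closure ({x, g} : Set G) with hH
    have hcen : ∀ n, ∀ y : H, (y : G) ∈ Subgroup.upperCentralSeries G n →
        y ∈ Subgroup.upperCentralSeries H n := by
      intro n
      induction n with
      | zero =>
        intro y hy
        rw [Subgroup.upperCentralSeries_zero, mem_bot] at hy ⊢
        exact Subtype.ext hy
      | succ n ih =>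
        intro y hy
        rw [Subgroup.mem_upperCentralSeries_succ_iff] at hy ⊢
        exact fun z => ih _ (hy z)
    refine (Subgroup.nilpotent_iff_finite_ascending_central_series _).2 ⟨N + 1, ?_⟩
    refine ⟨fun k => Subgroup.upperCentralSeries H k,
      Subgroup.upperCentralSeries_isAscendingCentralSeries H, ?_⟩
    rw [eq_top_iff]
    intro y _
    rw [Subgroup.mem_upperCentralSeries_succ_iff]
    intro z
    refine hcen N _ ?_
    change ⁅(y : G), (z : G)⁆ ∈ Subgroup.upperCentralSeries G N
    rw [← QuotientGroup.eq_one_iff]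
    change QuotientGroup.mk' (Subgroup.upperCentralSeries G N) ⁅(y : G), (z : G)⁆ = 1
    rw [map_commutatorElement, commutatorElement_eq_one_iff_commute]
    have key : ∀ w : H, QuotientGroup.mk' (Subgroup.upperCentralSeries G N) (w : G) ∈
        zpowers (QuotientGroup.mk' (Subgroup.upperCentralSeries G N) x) := by
      intro w
      have hle : H ≤ (zpowers (QuotientGroup.mk' (Subgroup.upperCentralSeries G N) x)).comap
          (QuotientGroup.mk' _) := by
        rw [hH, closure_le]
        rintro u (rfl | rfl)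
        · exact mem_zpowers _
        · rw [SetLike.mem_coe, mem_comap, show QuotientGroup.mk' (Subgroup.upperCentralSeries G N) u = 1
              from (QuotientGroup.eq_one_iff u).2 hN]
          exact one_mem _
      exact hle w.2
    obtain ⟨i, hi⟩ := key y
    obtain ⟨j, hj⟩ := key z
    rw [← hi, ← hj]
    exact (Commute.refl _).zpow_zpow i j

end Cfsg.Agent.S3939
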