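import Cfsg.Statements.S3941
import Mathlib

set_option autoImplicit false
open Cfsg

namespace Cfsg.Agent.S3941

/-- Let n ≥ 5 and p an odd prime with p ≤ n, and suppose that every proper subgroup of the alternating group of degree n whose order is divisible by p has a normal Sylow p-subgroup. Then n = p. -/
theorem result (n p : ℕ) (hn : 5 ≤ n) [Fact p.Prime] (hp : p ≠ 2) (hpn : p ≤ n)
    (h : ∀ H : Subgroup ↥(alternatingGroup (Fin n)), H ≠ ⊤ → p ∣ Nat.card ↥H → Cfsg.IsPClosed p ↥H) : n = p := by
  by_contra hne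
  have hpp : p.Prime := Fact.out
  have hp3 : 3 ≤ p := by
    rcases hpp.two_le.lt_or_eq with h1 | h1
    · omega
    · exact absurd h1.symm hp
  have hlt : p < n := lt_of_le_of_ne hpn (Ne.symm hne)
  obtain ⟨m, rfl⟩ : ∃ m, n = m + 1 := ⟨n - 1, by omega⟩
  -- the point stabilizer
  let e : Fin m ≃ {x : Fin (m + 1) // x ≠ Fin.last m} :=
    { toFun := fun i => ⟨Fin.castSucc i, Fin.castSucc_ne_last i⟩
      invFun := fun x => Fin.castPred x.1 x.2
      left_inv := fun i => by simp
      right_inv := fun x => by simp }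
  let ι : Equiv.Perm (Fin m) →* Equiv.Perm (Fin (m + 1)) := Equiv.Perm.extendDomainHom e
  have hsign : ∀ σ, Equiv.Perm.sign (ι σ) = Equiv.Perm.sign σ := fun σ => Equiv.Perm.sign_extendDomain σ e
  let f : ↥(alternatingGroup (Fin m)) →* ↥(alternatingGroup (Fin (m + 1))) :=
    (ι.comp (alternatingGroup (Fin m)).subtype).codRestrict _ (fun σ => by
      rw [Equiv.Perm.mem_alternatingGroup]
      exact (hsign σ).trans (Equiv.Perm.mem_alternatingGroup.mp σ.2))
  have hf : Function.Injective f := fun a b hab => by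
    apply Subtype.ext
    exact Equiv.Perm.extendDomainHom_injective e (congrArg Subtype.val hab)
  haveI : Nontrivial (Fin m) := Fin.nontrivial_iff_two_le.mpr (by omega)
  have hcard : ∀ j, 2 ≤ j → 2 * Nat.card ↥(alternatingGroup (Fin j)) = Nat.factorial j := by
    intro j hj
    haveI : Nontrivial (Fin j) := Fin.nontrivial_iff_two_le.mpr hj
    rw [two_mul_nat_card_alternatingGroup, Nat.card_perm, Nat.card_fin]
  have hrange : f.range ≠ ⊤ := by
    intro h
    have h1 := congrArg (fun H : Subgroup _ => Nat.card ↥H) h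
    simp only [Subgroup.card_top] at h1
    rw [← Nat.card_congr (MonoidHom.ofInjective hf).toEquiv] at h1
    have h2 := hcard m (by omega)
    rw [h1, hcard (m + 1) (by omega), Nat.factorial_succ] at h2
    have := Nat.factorial_pos m
    nlinarith
  have hdvd : p ∣ Nat.card ↥f.range := by
    rw [← Nat.card_congr (MonoidHom.ofInjective hf).toEquiv]
    have h1 : p ∣ 2 * Nat.card ↥(alternatingGroup (Fin m)) := by
      rw [hcard m (by omega)]; exact hpp.dvd_factorial.mpr (by omega)
    exact ((Nat.coprime_primes hpp Nat.prime_two).mpr hp).dvd_of_dvd_mul_left h1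
  have hclosed := h f.range hrange hdvd
  let g := MonoidHom.ofInjective hf
  obtain ⟨P⟩ : Nonempty (Sylow p ↥(alternatingGroup (Fin m))) := inferInstance
  have hPn : (P : Subgroup ↥(alternatingGroup (Fin m))).Normal := by
    haveI h1 := hclosed (P.comapOfInjective g.symm.toMonoidHom g.symm.injective (by
      intro x _; exact ⟨g x, g.symm_apply_apply x⟩))
    have h2 := h1.comap g.toMonoidHom
    change (((P : Subgroup ↥(alternatingGroup (Fin m))).comap g.symm.toMonoidHom).comap g.toMonoidHom).Normal at h2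
    rw [Subgroup.comap_comap] at h2
    convert h2 using 1
    ext x; simp
  rcases Nat.lt_or_ge m 5 with hm | hm
  · obtain rfl : m = 4 := by omega
    obtain rfl : p = 3 := by
      rcases (show p = 3 ∨ p = 4 by omega) with h | h
      · exact h
      · exact absurd (h ▸ hpp) (by decide)
    -- two elements of order three of the alternating group of degree four
    have hdec : ∃ x y : Equiv.Perm (Fin 4), Equiv.Perm.sign x = 1 ∧ Equiv.Perm.sign y = 1 ∧ x ^ 3 = 1 ∧ y ^ 3 = 1 ∧ (x * y) ^ 3 ≠ 1 := by
      decide +kernel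
    obtain ⟨x, y, hx, hy, hx3, hy3, hxy⟩ := hdec
    haveI := hPn
    have hin : ∀ a : ↥(alternatingGroup (Fin 4)), a ^ 3 = 1 → a ∈ (P : Subgroup ↥(alternatingGroup (Fin 4))) := by
      intro a ha
      have hp : IsPGroup 3 ↥(Subgroup.zpowers a) := by
        rintro ⟨b, k, rfl⟩
        refine ⟨1, Subtype.ext ?_⟩
        change (a ^ k) ^ 3 ^ 1 = 1
        rw [pow_one, ← zpow_natCast, ← zpow_mul, mul_comm, zpow_mul, zpow_natCast, ha, one_zpow]
      obtain ⟨Q, hQ⟩ := hp.exists_le_sylow
      obtain ⟨c, hc⟩ := MulAction.exists_smul_eq ↥(alternatingGroup (Fin 4)) P Q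
      rw [Sylow.smul_eq_of_normal] at hc
      exact hc ▸ hQ (Subgroup.mem_zpowers a)
    have h12 : Nat.card ↥(alternatingGroup (Fin 4)) = 12 := by
      have := hcard 4 (by norm_num)
      rw [show Nat.factorial 4 = 24 from rfl] at this
      omega
    have hP3 : Nat.card ↥(P : Subgroup ↥(alternatingGroup (Fin 4))) = 3 := by
      rw [P.card_eq_multiplicity, h12]
      rw [show (12 : ℕ) = 3 * 4 from rfl, Nat.factorization_mul (by norm_num) (by norm_num), Finsupp.add_apply,
        Nat.Prime.factorization_self hpp, Nat.factorization_eq_zero_of_not_dvd (by norm_num)]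
      norm_num
    apply hxy
    have hm := (P : Subgroup ↥(alternatingGroup (Fin 4))).mul_mem
      (hin ⟨x, Equiv.Perm.mem_alternatingGroup.mpr hx⟩ (Subtype.ext hx3))
      (hin ⟨y, Equiv.Perm.mem_alternatingGroup.mpr hy⟩ (Subtype.ext hy3))
    have h3 := pow_card_eq_one' (x := (⟨_, hm⟩ : ↥(P : Subgroup ↥(alternatingGroup (Fin 4)))))
    rw [hP3] at h3
    exact congrArg (fun w : ↥(P : Subgroup ↥(alternatingGroup (Fin 4))) => ((w : ↥(alternatingGroup (Fin 4))) : Equiv.Perm (Fin 4))) h3
  · haveI := alternatingGroup.isSimpleGroup (α := Fin m) (by rw [Nat.card_fin]; exact hm)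
    have h2c : 2 ∣ Nat.card ↥(alternatingGroup (Fin m)) := by
      have h1 : 4 ∣ 2 * Nat.card ↥(alternatingGroup (Fin m)) := by
        rw [hcard m (by omega)]; exact Nat.dvd_factorial (by norm_num) (by omega)
      omega
    have hpc : p ∣ Nat.card ↥(alternatingGroup (Fin m)) := by
      rw [← Nat.card_congr g.symm.toEquiv]; exact hdvd
    rcases hPn.eq_bot_or_eq_top with h1 | h1
    · exact P.ne_bot_of_dvd_card hpc h1
    · have hall : IsPGroup p ↥(alternatingGroup (Fin m)) := by
        have := P.isPGroup'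
        rw [h1] at this
        exact this.of_equiv Subgroup.topEquiv
      obtain ⟨k, hk⟩ := IsPGroup.iff_card.mp hall
      rw [hk] at h2c
      exact hp ((Nat.prime_dvd_prime_iff_eq Nat.prime_two hpp).mp (Nat.prime_two.dvd_of_dvd_pow h2c)).symm

end Cfsg.Agent.S3941
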