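import Cfsg.Statements.S4249
import Cfsg.Agent.Lib.Solv.ThompsonComplement
import Cfsg.Agent.Lib.Solv.FpfNilpotent
import Cfsg.Agent.Lib.Solv.Misc
import Cfsg.Agent.Lib.Solv.NormalPComplement

set_option autoImplicit false
open Cfsg

namespace Cfsg.Agent.S4249

universe u

open Subgroup in
theorem normalizer_le_map_char {G : Type*} [Group G] (X : Subgroup G) (R : Subgroup X) [R.Characteristic] :
    normalizer (X : Set G) ≤ normalizer ((R.map X.subtype : Subgroup G) : Set G) := by
  intro g hg
  haveI : (X.subgroupOf (normalizer (X : Set G))).Normal := normal_subgroupOf_of_le_normalizer le_rfl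
  have key : ∀ a : G, a ∈ normalizer (X : Set G) → ∀ x ∈ R.map X.subtype, a * x * a⁻¹ ∈ R.map X.subtype := by
    rintro a ha _ ⟨x, hx, rfl⟩
    let φ : MulAut X :=
      { toFun := fun z => ⟨a * z * a⁻¹, (mem_normalizer_iff.mp ha z).mp z.2⟩
        invFun := fun z => ⟨a⁻¹ * z * a, (mem_normalizer_iff''.mp ha z).mp z.2⟩
        left_inv := fun z => Subtype.ext (by simp [mul_assoc])
        right_inv := fun z => Subtype.ext (by simp [mul_assoc])
        map_mul' := fun z w => Subtype.ext (by simp [mul_assoc]) }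
    have h1 := characteristic_iff_comap_eq.mp ‹R.Characteristic› φ
    refine ⟨φ x, ?_, rfl⟩
    rw [← h1] at hx
    exact hx
  rw [mem_normalizer_iff]
  intro x
  refine ⟨key g hg x, fun h => ?_⟩
  have := key g⁻¹ ((normalizer (X : Set G)).inv_mem hg) _ h
  simpa [mul_assoc] using this

/-- splitting action on an abelian normal subgroup of coprime order is trivial -/
theorem central_of_splitting {G : Type*} [Group G] [Finite G] (p : ℕ) [hp : Fact p.Prime]
    (M : Subgroup G) [M.Normal] (hM : IsMulCommutative M) (Q : Subgroup G) (y : G)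
    (hy : y ∈ Subgroup.normalizer (Q : Set G))
    (hord : ∀ k ∈ Q, ∀ v ∈ M, (v * (k * y)) ^ p = 1)
    (hcop : (Nat.card Q).Coprime (Nat.card M)) : ∀ k ∈ Q, ∀ v ∈ M, k * v = v * k := by
  classical
  haveI : Fintype Q := Fintype.ofFinite Q
  letI : CommGroup M := { (inferInstance : Group M) with mul_comm := hM.is_comm.comm }
  let c : G →* MulAut M := MulAut.conjNormal
  intro q hq v hv
  lift v to M using hv
  lift q to Q using hq
  have hexp : ∀ (g : G) (n : ℕ), ((v : G) * g) ^ n = ((∏ i ∈ Finset.range n, c (g ^ i) v : M) : G) * g ^ n := by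
    intro g n
    induction n with
    | zero => simp
    | succ n ih =>
      rw [pow_succ, ih, Finset.prod_range_succ, Subgroup.coe_mul]
      show _ = _ * (g ^ n * (v : G) * (g ^ n)⁻¹) * _
      rw [pow_succ]; group
  have hgy : ∀ k : Q, ((k : G) * y) ^ p = 1 := fun k => by simpa using hord k k.2 1 M.one_mem
  have hzero : ∀ k : Q, ∏ i ∈ Finset.range p, c (((k : G) * y) ^ i) v = 1 := fun k => by
    have h := hord k k.2 v v.2
    rw [hexp, hgy k, mul_one] at h
    exact Subtype.ext (by simpa using h)
  have hmem : ∀ (i : ℕ) (k : Q), ((k : G) * y) ^ i * (y ^ i)⁻¹ ∈ Q := by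
    intro i k
    induction i with
    | zero => simp
    | succ i ih =>
      have h1 : ((k : G) * y) ^ (i + 1) * (y ^ (i + 1))⁻¹ = (k : G) * (y * (((k : G) * y) ^ i * (y ^ i)⁻¹) * y⁻¹) := by
        rw [pow_succ', pow_succ']; group
      rw [h1]
      exact Q.mul_mem k.2 ((Subgroup.mem_normalizer_iff.mp hy _).mp ih)
  have hFix : ∀ i, 0 < i → i < p → c (q : G) (∏ k : Q, c (((k : G) * y) ^ i) v) = ∏ k : Q, c (((k : G) * y) ^ i) v := by
    intro i hi hip
    let τ : Q → Q := fun k => ⟨((k : G) * y) ^ i * (y ^ i)⁻¹, hmem i k⟩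
    have hτ : Function.Injective τ := fun k k' e => by
      have e1 : ((k : G) * y) ^ i = ((k' : G) * y) ^ i := mul_right_cancel (congrArg Subtype.val e)
      have hc : i.Coprime p := ((hp.out).coprime_iff_not_dvd.mpr fun hd =>
        absurd (Nat.le_of_dvd hi hd) (not_le.mpr hip)).symm
      have hx : ∀ k : Q, (((k : G) * y) ^ i) ^ (Nat.gcdA i p) = (k : G) * y := fun k => by
        have hb := Nat.gcd_eq_gcd_ab i p
        rw [hc.gcd_eq_one] at hb
        have : ((k : G) * y) ^ ((i : ℤ) * Nat.gcdA i p + (p : ℤ) * Nat.gcdB i p) = (k : G) * y := by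
          rw [← hb]; simp
        rwa [zpow_add, zpow_mul, zpow_mul, zpow_natCast, zpow_natCast, hgy k, one_zpow, mul_one] at this
      exact Subtype.ext (mul_right_cancel ((hx k).symm.trans ((congrArg (· ^ (Nat.gcdA i p)) e1).trans (hx k'))))
    have hF : ∏ k : Q, c (((k : G) * y) ^ i) v = ∏ k : Q, c ((k : G) * y ^ i) v := by
      refine Fintype.prod_bijective τ (Finite.injective_iff_bijective.mp hτ) _ _ fun k => ?_
      show _ = c (((k : G) * y) ^ i * (y ^ i)⁻¹ * y ^ i) v
      rw [inv_mul_cancel_right]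
    rw [hF, map_prod]
    refine Fintype.prod_equiv (Equiv.mulLeft q) _ _ fun k => ?_
    show c (q : G) (c ((k : G) * y ^ i) v) = c ((q : G) * k * y ^ i) v
    rw [← MulAut.mul_apply, ← map_mul, mul_assoc]
  have hsum : ∏ i ∈ Finset.range p, ∏ k : Q, c (((k : G) * y) ^ i) v = 1 := by
    rw [Finset.prod_comm]
    exact Finset.prod_eq_one fun k _ => hzero k
  rw [← Finset.insert_erase (Finset.mem_range.mpr hp.out.pos), Finset.prod_insert (Finset.notMem_erase _ _)] at hsum
  simp only [pow_zero, map_one, MulAut.one_apply, Finset.prod_const, Finset.card_univ] at hsum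
  have hpow : c (q : G) (v ^ Fintype.card Q) = v ^ Fintype.card Q := by
    rw [eq_inv_of_mul_eq_one_left hsum, map_inv, map_prod]
    congr 1
    refine Finset.prod_congr rfl fun i hi => ?_
    rw [Finset.mem_erase, Finset.mem_range] at hi
    exact hFix i (Nat.pos_of_ne_zero hi.1) hi.2
  rw [map_pow, ← Nat.card_eq_fintype_card] at hpow
  have h1 : c (q : G) v = v := (powCoprime hcop.symm).injective hpow
  have h2 : (q : G) * v * (q : G)⁻¹ = v := congrArg Subtype.val h1
  exact mul_inv_eq_iff_eq_mul.mp h2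

open Subgroup in
theorem exists_abelian_normal {G : Type u} [Group G] [Finite G] (H R : Subgroup G) (hRH : R ≤ H) (r : ℕ) [Fact r.Prime]
    (hR : IsPGroup r R) (hR0 : R ≠ ⊥) (hn : normalizer (R : Set G) = ⊤) :
    ∃ M : Subgroup G, M.Normal ∧ M ≤ H ∧ M ≠ ⊥ ∧ IsMulCommutative M ∧ IsPGroup r M := by
  haveI := hR.isNilpotent
  haveI : Nontrivial R := (nontrivial_iff_ne_bot R).mpr hR0
  refine ⟨(center R).map R.subtype, normalizer_eq_top_iff.mp (top_le_iff.mp (hn ▸ normalizer_le_map_char R (center R))),
    (map_subtype_le _).trans hRH, fun h => ?_, inferInstance, (hR.to_subgroup _).map _⟩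
  rw [map_eq_bot_iff_of_injective _ R.subtype_injective] at h
  exact (hR.bot_lt_center (G := R)).ne' h

open Subgroup in
/-- a normal subgroup of index `p` outside which all elements have order `p` is nilpotent -/
theorem nilpotent_of_splitting (p : ℕ) [hp : Fact p.Prime] : ∀ (n : ℕ) (G : Type u) [Group G] [Finite G],
    Nat.card G ≤ n → ∀ (H : Subgroup G) [H.Normal], H.index = p → (∀ g ∉ H, g ^ p = 1) → Group.IsNilpotent H := by
  intro n
  induction n with
  | zero => intro G _ _ hn; exact absurd Nat.card_pos (not_lt.mpr hn)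
  | succ n ih =>
  intro G _ _ hn H _ hidx hord
  have hHtop : H ≠ ⊤ := fun h => hp.out.one_lt.ne' (by rw [← hidx, h, index_top])
  -- induction hypothesis, for subgroups and for quotients
  have hsub : ∀ L : Subgroup G, L ≠ ⊤ → (∃ x ∈ L, x ∉ H) → Group.IsNilpotent (H.subgroupOf L) := by
    intro L hL hx
    have hlt : Nat.card L < Nat.card G := lt_of_le_of_ne
      (Nat.le_of_dvd Nat.card_pos L.card_subgroup_dvd_card) fun e => hL (eq_top_of_card_eq L e)
    refine ih L (by omega) (H.subgroupOf L) ?_ fun g hg => Subtype.ext (hord g hg)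
    have hd : H.relIndex L ∣ H.index := relIndex_dvd_index_of_normal H L
    rw [hidx] at hd
    refine (hp.out.eq_one_or_self_of_dvd _ hd).resolve_left fun h1 => ?_
    obtain ⟨x, hxL, hxH⟩ := hx
    exact hxH (relIndex_eq_one.mp h1 hxL)
  have hfrat : ∀ (r : ℕ) [Fact r.Prime] (S : Sylow r H), ∃ y, y ∉ H ∧
      y ∈ normalizer (((S : Subgroup H).map H.subtype : Subgroup G) : Set G) := by
    intro r _ S
    by_contra hc
    push_neg at hc
    refine hHtop (top_le_iff.mp ?_)
    rw [← Sylow.normalizer_sup_eq_top S]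
    exact sup_le (fun y hy => by_contra fun h => hc y h hy) le_rfl
  suffices hM : H = ⊥ ∨ (∃ (r : ℕ) (_ : Fact r.Prime), IsPGroup r H) ∨ (∀ r, Fact r.Prime → ∀ S : Sylow r H, (S : Subgroup H).Normal) ∨
      ∃ (r : ℕ) (_ : Fact r.Prime) (M : Subgroup G), M.Normal ∧ M ≤ H ∧ M ≠ ⊥ ∧ IsMulCommutative M ∧ IsPGroup r M by
    rcases hM with h | ⟨r, hr, h⟩ | h | ⟨r, hr, M, hMn, hMH, hM0, hMc, hMp⟩
    · haveI : Subsingleton H := by rw [h]; infer_instance
      infer_instance
    · exact h.isNilpotent
    · exact ((Group.isNilpotent_of_finite_tfae (G := H)).out 0 3 rfl rfl).mpr h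
    haveI := hMn
    set π := QuotientGroup.mk' M
    have hπ : Function.Surjective π := QuotientGroup.mk'_surjective M
    haveI : (H.map π).Normal := Subgroup.Normal.map inferInstance π hπ
    have hcm : (H.map π).comap π = H := by
      rw [comap_map_eq, QuotientGroup.ker_mk', sup_of_le_left hMH]
    have hq : Group.IsNilpotent (H.map π) := by
      have h1 : Nat.card (G ⧸ M) < Nat.card G := by
        rw [M.card_eq_card_quotient_mul_card_subgroup]
        exact lt_mul_of_one_lt_right Nat.card_pos (M.one_lt_card_iff_ne_bot.mpr hM0)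
      refine ih (G ⧸ M) (by omega) (H.map π) ?_ fun g hg => ?_
      · rw [← index_comap_of_surjective _ hπ, hcm, hidx]
      · obtain ⟨x, rfl⟩ := hπ g
        rw [← map_pow, hord x fun h => hg (mem_map_of_mem π h), map_one]
    refine ((Group.isNilpotent_of_finite_tfae (G := H)).out 0 3 rfl rfl).mpr fun q hqF S => ?_
    set f := π.subgroupMap H
    have hf : Function.Surjective f := π.subgroupMap_surjective H
    have hn1 : ((S.mapSurjective hf : Sylow q (H.map π)) : Subgroup (H.map π)).Normal :=
      ((Group.isNilpotent_of_finite_tfae (G := H.map π)).out 0 3 rfl rfl).mp hq q hqF _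
    have hn2 : ((S : Subgroup H) ⊔ M.subgroupOf H).Normal := by
      have h2 : f.ker = M.subgroupOf H := by
        ext x; simp [f, MonoidHom.mem_ker, mem_subgroupOf, Subtype.ext_iff, π]
      have h3 := hn1.comap f
      rw [show ((S.mapSurjective hf : Sylow q (H.map π)) : Subgroup (H.map π)) = (S : Subgroup H).map f from rfl, comap_map_eq, h2] at h3
      exact h3
    by_cases hqr : q = r
    · subst hqr
      haveI : (M.subgroupOf H).Normal := inferInstance
      rwa [sup_of_le_left (show M.subgroupOf H ≤ (S : Subgroup H) from IsPGroup.le_sylow_of_normal hMp.comap_subtype S)] at hn2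
    set Q := (S : Subgroup H).map H.subtype
    obtain ⟨y, hyH, hy⟩ := hfrat q S
    have hQH : Q ≤ H := map_subtype_le _
    have hcop : (Nat.card Q).Coprime (Nat.card M) := by
      obtain ⟨a, ha⟩ := (S.isPGroup'.map H.subtype).exists_card_eq
      obtain ⟨b, hb⟩ := hMp.exists_card_eq
      rw [show Nat.card Q = q ^ a from ha, hb]
      exact Nat.Coprime.pow _ _ ((Nat.coprime_primes hqF.out hr.out).mpr hqr)
    have hcomm := central_of_splitting p M hMc Q y hy (fun k hk v hv => hord _ fun hmem => hyH (by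
      have := H.mul_mem (H.inv_mem (hQH hk)) (H.mul_mem (H.inv_mem (hMH hv)) hmem)
      simpa [mul_assoc] using this)) hcop
    refine ⟨fun s hs g => ?_⟩
    have h3 : g * s * g⁻¹ ∈ (S : Subgroup H) ⊔ M.subgroupOf H := hn2.conj_mem s (mem_sup_left hs) g
    have h3' : g * s * g⁻¹ ∈ (((S : Subgroup H) ⊔ M.subgroupOf H : Subgroup H) : Set H) := h3
    rw [Subgroup.mul_normal] at h3'
    obtain ⟨a, ha, b, hb, hab⟩ := h3'
    obtain ⟨i, hi⟩ := IsPGroup.iff_orderOf.mp S.isPGroup' ⟨s, hs⟩
    obtain ⟨j, hj⟩ := IsPGroup.iff_orderOf.mp S.isPGroup' ⟨a, ha⟩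
    rw [orderOf_mk] at hi hj
    have hc : Commute a b := Subtype.ext (hcomm (a : G) (mem_map_of_mem _ ha) (b : G) hb)
    simp only at hab
    have h5 : b ^ (q ^ (i + j)) = 1 := by
      have e1 : (a * b) ^ (q ^ (i + j)) = 1 := by
        rw [hab, conj_pow, pow_add, pow_mul, ← hi, pow_orderOf_eq_one, one_pow, mul_one, mul_inv_cancel]
      have e2 : a ^ (q ^ (i + j)) = 1 := by
        rw [pow_add, mul_comm, pow_mul, ← hj, pow_orderOf_eq_one, one_pow]
      rwa [hc.mul_pow, e2, one_mul] at e1
    have h6 : orderOf (b : G) = 1 := by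
      obtain ⟨c, hc'⟩ := hMp.exists_card_eq
      have d1 : orderOf (b : G) ∣ r ^ c := hc' ▸ orderOf_dvd_natCard M hb
      have d2 : orderOf (b : G) ∣ q ^ (i + j) := orderOf_dvd_of_pow_eq_one (by simpa using congrArg Subtype.val h5)
      exact Nat.eq_one_of_dvd_coprimes (Nat.Coprime.pow _ _ ((Nat.coprime_primes hr.out hqF.out).mpr (Ne.symm hqr))) d1 d2
    rw [show b = 1 from Subtype.ext (orderOf_eq_one_iff.mp h6), mul_one] at hab
    rw [← hab]; exact ha
  -- finding the normal subgroup
  obtain ⟨x, hx⟩ : ∃ x, x ∉ H := by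
    by_contra hc; push_neg at hc; exact hHtop (top_le_iff.mp fun g _ => hc g)
  by_cases hp2 : p = 2
  · subst hp2
    refine Or.inr (Or.inr (Or.inl fun r hr S => ?_))
    have hinv : ∀ h : H, x * h * x⁻¹ = (h : G)⁻¹ := fun h => by
      have h1 := hord _ hx
      have h2 := hord (x * h) fun hh => hx (by simpa using H.mul_mem hh (H.inv_mem h.2))
      rw [pow_two] at h1 h2
      rw [inv_eq_of_mul_eq_one_right h1]
      exact eq_inv_of_mul_eq_one_left (by simpa [mul_assoc] using h2)
    have hab : ∀ a b : H, a * b = b * a := fun a b => Subtype.ext <| by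
      have := hinv (a * b)
      rw [Subgroup.coe_mul, mul_inv_rev] at this
      rw [show x * ((a : G) * b) * x⁻¹ = (x * a * x⁻¹) * (x * b * x⁻¹) by group, hinv a, hinv b] at this
      simpa using (congrArg (·⁻¹) this).symm
    exact ⟨fun s hs g => by rwa [hab g s, mul_inv_cancel_right]⟩
  by_cases hpH : p ∣ Nat.card H
  swap
  · -- fixed-point-free
    have hfpf : MonoidHom.FixedPointFree ((MulAut.conjNormal x : MulAut H) : H →* H) := fun h hh => by
      by_contra h1
      have e : x * h * x⁻¹ = h := congrArg Subtype.val hh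
      have hc : Commute (h : G) x := (mul_inv_eq_iff_eq_mul.mp e).symm
      have h2 : ((h : G) * x) ^ p = 1 := hord _ fun hm => hx (by simpa using H.mul_mem (H.inv_mem h.2) hm)
      rw [hc.mul_pow, hord x hx, mul_one] at h2
      have h3 : orderOf h = p := orderOf_eq_prime (Subtype.ext (by simpa using h2)) h1
      exact hpH (h3 ▸ orderOf_dvd_natCard h)
    have hN := Solv.isNilpotent_of_fpf hfpf hp.out fun h => by
      have e : ∀ (i : ℕ) (z : H), (((MulAut.conjNormal x : MulAut H))^[i] z : G) = x ^ i * z * (x ^ i)⁻¹ := by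
        intro i
        induction i with
        | zero => simp
        | succ i ih => intro z; rw [Function.iterate_succ_apply', MulAut.conjNormal_apply, ih, pow_succ']; group
      exact Subtype.ext (by rw [e, hord x hx]; simp)
    exact Or.inr (Or.inr (Or.inl ((Group.isNilpotent_of_finite_tfae (G := H)).out 0 3 rfl rfl |>.mp hN)))
  obtain ⟨P⟩ : Nonempty (Sylow p H) := inferInstance
  obtain ⟨y, hyH, hy⟩ := hfrat p P
  set J := thompsonSubgroup p (P : Subgroup H) with hJ
  set Z := center (P : Subgroup H) with hZ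
  haveI : J.Characteristic := Solv.thompson_characteristic
  have hP0 : (P : Subgroup H) ≠ ⊥ := fun h => P.not_dvd_index (by rwa [h, index_bot])
  haveI : Nontrivial (P : Subgroup H) := (nontrivial_iff_ne_bot _).mpr hP0
  set P' := (P : Subgroup H).map H.subtype with hP'
  obtain ⟨e, hev⟩ : ∃ e : (P : Subgroup H) ≃* P', ∀ z, ((e z : P') : G) = ((z : H) : G) :=
    ⟨((P : Subgroup H).equivMapOfInjective H.subtype H.subtype_injective), fun _ => rfl⟩
  have hJn : normalizer (P' : Set G) ≤ normalizer (((J.map (P : Subgroup H).subtype).map H.subtype : Subgroup G) : Set G) := by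
    haveI : (J.map e.toMonoidHom).Characteristic := by
      rw [Solv.thompson_map_equiv]; exact Solv.thompson_characteristic
    have he : (J.map e.toMonoidHom).map P'.subtype = (J.map (P : Subgroup H).subtype).map H.subtype := by
      rw [map_map, map_map]; congr 1; exact MonoidHom.ext fun z => hev z
    exact he ▸ normalizer_le_map_char P' (J.map e.toMonoidHom)
  have hZn : normalizer (P' : Set G) ≤ normalizer (((Z.map (P : Subgroup H).subtype).map H.subtype : Subgroup G) : Set G) := by
    have hz : Z.map e.toMonoidHom = center P' := by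
      ext z
      obtain ⟨w, rfl⟩ := e.surjective z
      rw [mem_map_equiv, e.symm_apply_apply, hZ, mem_center_iff, mem_center_iff]
      exact ⟨fun h g => by obtain ⟨g, rfl⟩ := e.surjective g; rw [← map_mul, ← map_mul, h g],
        fun h g => e.injective (by rw [map_mul, map_mul]; exact h (e g))⟩
    haveI : (Z.map e.toMonoidHom).Characteristic := by rw [hz]; infer_instance
    have he : (Z.map e.toMonoidHom).map P'.subtype = (Z.map (P : Subgroup H).subtype).map H.subtype := by
      rw [map_map, map_map]; congr 1; exact MonoidHom.ext fun z => hev z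
    exact he ▸ normalizer_le_map_char P' (Z.map e.toMonoidHom)
  by_cases hcJ : normalizer (((J.map (P : Subgroup H).subtype).map H.subtype : Subgroup G) : Set G) = ⊤
  · refine Or.inr (Or.inr (Or.inr ⟨p, hp, exists_abelian_normal H _ (map_subtype_le _) p
      (((P.isPGroup'.to_subgroup J).map _).map _) ?_ hcJ⟩))
    rw [Ne, map_eq_bot_iff_of_injective _ H.subtype_injective, map_eq_bot_iff_of_injective _ (Subgroup.subtype_injective _)]
    refine Solv.thompson_ne_bot ?_
    obtain ⟨a, ha⟩ := P.isPGroup'.exists_card_eq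
    rw [ha]; refine dvd_pow_self p fun h0 => hP0 ?_
    rw [← card_eq_one, ha, h0, pow_zero]
  by_cases hcZ : normalizer (((Z.map (P : Subgroup H).subtype).map H.subtype : Subgroup G) : Set G) = ⊤
  · refine Or.inr (Or.inr (Or.inr ⟨p, hp, exists_abelian_normal H _ (map_subtype_le _) p
      (((P.isPGroup'.to_subgroup Z).map _).map _) ?_ hcZ⟩))
    rw [Ne, map_eq_bot_iff_of_injective _ H.subtype_injective, map_eq_bot_iff_of_injective _ (Subgroup.subtype_injective _)]
    exact (P.isPGroup'.bot_lt_center).ne'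
  have hnpc : ∀ X : Subgroup H, normalizer ((X.map H.subtype : Subgroup G) : Set G) ≠ ⊤ →
      normalizer (P' : Set G) ≤ normalizer ((X.map H.subtype : Subgroup G) : Set G) →
      HasNormalPComplement p (normalizer (X : Set H)) := by
    intro X hX hle
    set L := normalizer ((X.map H.subtype : Subgroup G) : Set G) with hL
    have h1 := hsub L hX ⟨y, hle hy, hyH⟩
    have hm : ∀ z : normalizer (X : Set H), ((z : H) : G) ∈ L := fun z =>
      Solv.map_normalizer_le_of_eq H.subtype (X := X) rfl (mem_map_of_mem _ z.2)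
    have h2 : HasNormalPComplement p (H.subgroupOf L) := by
      have htf := ((Group.isNilpotent_of_finite_tfae (G := H.subgroupOf L)).out 0 3 rfl rfl).mp h1
      obtain ⟨R⟩ : Nonempty (Sylow p (H.subgroupOf L)) := inferInstance
      haveI := htf p hp R
      obtain ⟨N, hN⟩ := exists_left_complement'_of_coprime R.card_coprime_index
      refine ⟨R, N, ⟨fun a ha b => ?_⟩, hN⟩
      obtain ⟨c, hc, d, hd, rfl⟩ : ∃ c ∈ N, ∃ d ∈ (R : Subgroup (H.subgroupOf L)), c * d = b := by
        obtain ⟨⟨⟨c, hc⟩, ⟨d, hd⟩⟩, he⟩ := hN.2 b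
        exact ⟨c, hc, d, hd, he⟩
      have hcop : (orderOf a).Coprime (orderOf d) := by
        obtain ⟨i, hi⟩ := IsPGroup.iff_orderOf.mp R.isPGroup' ⟨d, hd⟩
        rw [orderOf_mk] at hi
        rw [hi]
        refine Nat.Coprime.pow_right _ (Nat.Coprime.symm ((hp.out.coprime_iff_not_dvd).mpr fun hd' => R.not_dvd_index ?_))
        exact hd'.trans (hN.index_eq_card ▸ orderOf_dvd_natCard N ha)
      have hcd : Commute d a := (Solv.commute_of_coprime_orderOf_of_isNilpotent h1 hcop).symm
      rw [show c * d * a * (c * d)⁻¹ = c * (d * a * d⁻¹) * c⁻¹ by group, hcd.mul_inv_cancel]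
      exact N.mul_mem (N.mul_mem hc ha) (N.inv_mem hc)
    exact Solv.hasNormalPComplement_of_injective
      ({ toFun := fun z => ⟨⟨(z : H), hm z⟩, (z : H).2⟩
         map_one' := rfl
         map_mul' := fun _ _ => rfl } : normalizer (X : Set H) →* H.subgroupOf L)
      (fun a b hab => Subtype.ext (Subtype.ext (congrArg (fun t : H.subgroupOf L => ((t : L) : G)) hab))) h2
  have hcomp : HasNormalPComplement p H := by
    refine Solv.thompson_complement hp2 P (hnpc _ hcJ hJn) ?_
    have hZeq : (P : Subgroup H) ⊓ centralizer ((P : Subgroup H) : Set H) = Z.map (P : Subgroup H).subtype := by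
      ext z
      constructor
      · rintro ⟨h1, h2⟩
        exact ⟨⟨z, h1⟩, mem_center_iff.mpr fun g => Subtype.ext (mem_centralizer_iff.mp h2 g g.2), rfl⟩
      · rintro ⟨w, hw, rfl⟩
        exact ⟨w.2, mem_centralizer_iff.mpr fun g hg => congrArg Subtype.val (mem_center_iff.mp hw ⟨g, hg⟩)⟩
    rw [hZeq]
    exact Solv.hasNormalPComplement_of_le (centralizer_le_normalizer _) (hnpc _ hcZ hZn)
  set K := pPrimeCore p H with hK
  by_cases hK0 : K = ⊥
  · refine Or.inr (Or.inl ⟨p, hp, ?_⟩)
    obtain ⟨k, hk⟩ := Solv.hasNormalPComplement_iff_index.mp hcomp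
    rw [← hK, hK0, index_bot] at hk
    exact IsPGroup.of_card hk
  set K' := K.map H.subtype with hK'
  haveI : K.Characteristic := Solv.pPrimeCore_characteristic p H
  haveI hK'n : K'.Normal := normalizer_eq_top_iff.mp (top_le_iff.mp (by
    rw [← normalizer_eq_top_iff.mpr ‹H.Normal›]; exact normalizer_le_map_char H K))
  have hK'c : ¬ p ∣ Nat.card K' := by
    rw [hK', card_map_of_injective H.subtype_injective]
    exact fun h => hp.out.one_lt.ne' ((Nat.Coprime.eq_one_of_dvd (Solv.card_pPrimeCore_coprime p H).symm h))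
  have hK'H : K' ≤ H := map_subtype_le _
  have hKnil : Group.IsNilpotent K' := by
    have hfpf : MonoidHom.FixedPointFree ((MulAut.conjNormal x : MulAut K') : K' →* K') := fun h hh => by
      by_contra h1
      have e : x * h * x⁻¹ = h := congrArg Subtype.val hh
      have hc : Commute (h : G) x := (mul_inv_eq_iff_eq_mul.mp e).symm
      have h2 : ((h : G) * x) ^ p = 1 := hord _ fun hm => hx (by simpa using H.mul_mem (H.inv_mem (hK'H h.2)) hm)
      rw [hc.mul_pow, hord x hx, mul_one] at h2
      have h3 : orderOf h = p := orderOf_eq_prime (Subtype.ext (by simpa using h2)) h1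
      exact hK'c (h3 ▸ orderOf_dvd_natCard h)
    refine Solv.isNilpotent_of_fpf hfpf hp.out fun h => ?_
    have e : ∀ (i : ℕ) (z : K'), (((MulAut.conjNormal x : MulAut K'))^[i] z : G) = x ^ i * z * (x ^ i)⁻¹ := by
      intro i
      induction i with
      | zero => simp
      | succ i ih => intro z; rw [Function.iterate_succ_apply', MulAut.conjNormal_apply, ih, pow_succ']; group
    exact Subtype.ext (by rw [e, hord x hx]; simp)
  obtain ⟨r, hr, hrd⟩ := Nat.exists_prime_and_dvd (show Nat.card K' ≠ 1 by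
    rw [hK', card_map_of_injective H.subtype_injective]; exact fun h => hK0 (card_eq_one.mp h))
  haveI := Fact.mk hr
  obtain ⟨R⟩ : Nonempty (Sylow r K') := inferInstance
  haveI := R.characteristic_of_normal (((Group.isNilpotent_of_finite_tfae (G := K')).out 0 3 rfl rfl).mp hKnil r inferInstance R)
  refine Or.inr (Or.inr (Or.inr ⟨r, inferInstance, exists_abelian_normal H _ ((map_subtype_le _).trans hK'H) r
    (R.isPGroup'.map _) ?_ (top_le_iff.mp (by rw [← normalizer_eq_top_iff.mpr hK'n]; exact normalizer_le_map_char K' (R : Subgroup K')))⟩))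
  rw [Ne, map_eq_bot_iff_of_injective _ K'.subtype_injective]
  exact fun h => R.not_dvd_index (by rwa [h, index_bot])

/-- Let G be a finite group and p a prime such that G is not a p-group, and suppose the Hughes subgroup H_p(G), generated by all elements g with g^p ≠ 1, is a proper subgroup. Then H_p(G) is nilpotent and has index p in G. -/
theorem result {G : Type*} [Group G] [Finite G] (p : ℕ) (hp : p.Prime) (hG : ¬ IsPGroup p G)
    (hH : Subgroup.closure {g : G | g ^ p ≠ 1} ≠ ⊤) :
    Group.IsNilpotent (Subgroup.closure {g : G | g ^ p ≠ 1}) ∧ (Subgroup.closure {g : G | g ^ p ≠ 1}).index = p := by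
  haveI := Fact.mk hp
  set H := Subgroup.closure {g : G | g ^ p ≠ 1} with hHdef
  have hord : ∀ g ∉ H, g ^ p = 1 := fun g hg => by
    by_contra h; exact hg (Subgroup.subset_closure h)
  haveI : H.Normal := ⟨fun n hn g => by
    have h2 : n ∈ Subgroup.comap (MulAut.conj g).toMonoidHom H := by
      refine ((Subgroup.closure_le _).mpr (fun a ha => ?_) :
        H ≤ Subgroup.comap (MulAut.conj g).toMonoidHom H) hn
      refine Subgroup.subset_closure ?_
      show (g * a * g⁻¹) ^ p ≠ 1
      rw [conj_pow]
      exact fun h => ha (conj_eq_one_iff.mp h)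
    exact h2⟩
  have hGp : IsPGroup p (G ⧸ H) := fun a => ⟨1, by
    obtain ⟨g, rfl⟩ := QuotientGroup.mk_surjective a
    by_cases hg : g ∈ H
    · rw [(QuotientGroup.eq_one_iff g).mpr hg, one_pow]
    · rw [pow_one, ← QuotientGroup.mk_pow, hord g hg]; rfl⟩
  obtain ⟨q, hq, hqd, hqp⟩ : ∃ q, q.Prime ∧ q ∣ Nat.card G ∧ q ≠ p := by
    by_contra hc
    push_neg at hc
    exact hG (IsPGroup.of_card (n := (Nat.card G).primeFactorsList.length)
      (Nat.eq_prime_pow_of_unique_prime_dvd Nat.card_pos.ne' fun {d} hd hdd => hc d hd hdd))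
  haveI := Fact.mk hq
  obtain ⟨u, hu⟩ := exists_prime_orderOf_dvd_card' q hqd
  have huH : u ∈ H := Subgroup.subset_closure fun h => hqp
    ((Nat.prime_dvd_prime_iff_eq hq hp).mp (hu ▸ orderOf_dvd_of_pow_eq_one h))
  haveI : Group.IsNilpotent (G ⧸ H) := hGp.isNilpotent
  obtain ⟨M', hM', -⟩ := Solv.exists_coatom_ge (G := G ⧸ H) (H := ⊥) (fun h => hH (by
    have h2 := congrArg (Subgroup.comap (QuotientGroup.mk' H)) h
    rwa [MonoidHom.comap_bot, QuotientGroup.ker_mk', Subgroup.comap_top] at h2))
  haveI := Solv.coatom_normal_of_isNilpotent inferInstance M' hM'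
  set H2 := M'.comap (QuotientGroup.mk' H) with hH2
  have hle : H ≤ H2 := fun a ha => by
    show QuotientGroup.mk' H a ∈ M'
    rw [QuotientGroup.mk'_apply, (QuotientGroup.eq_one_iff a).mpr ha]; exact one_mem M'
  have hidx : H2.index = p := by
    rw [hH2, Subgroup.index_comap_of_surjective _ (QuotientGroup.mk'_surjective H)]
    have h1 := Solv.prime_index_of_coatom_normal M' hM'
    obtain ⟨k, hk⟩ := hGp.index M'
    rw [hk] at h1 ⊢
    rw [Nat.Prime.eq_one_of_pow h1 |> fun h => (show k = 1 from h), pow_one]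
  have hnil : Group.IsNilpotent H2 := nilpotent_of_splitting p _ G le_rfl H2 hidx fun g hg => hord g fun h => hg (hle h)
  have heq : H2 = H := by
    refine le_antisymm (fun z hz => ?_) hle
    by_contra hzH
    have hzp := hord z hzH
    have hz1 : z ≠ 1 := fun h => hzH (h ▸ one_mem H)
    have hzo : orderOf (⟨z, hz⟩ : H2) = p := by
      rw [Subgroup.orderOf_mk]; exact orderOf_eq_prime hzp hz1
    have hc : Commute z u := congrArg Subtype.val
      (Solv.commute_of_coprime_orderOf_of_isNilpotent hnil (x := (⟨z, hz⟩ : H2)) (g := ⟨u, hle huH⟩)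
        (by rw [hzo, Subgroup.orderOf_mk, hu]; exact (Nat.coprime_primes hp hq).mpr (Ne.symm hqp))).eq
    have h2 := hord (z * u) fun h => hzH (by simpa using H.mul_mem h (H.inv_mem huH))
    rw [hc.mul_pow, hzp, one_mul] at h2
    exact hqp ((Nat.prime_dvd_prime_iff_eq hq hp).mp (hu ▸ orderOf_dvd_of_pow_eq_one h2))
  rw [← heq]
  exact ⟨hnil, hidx⟩

end Cfsg.Agent.S4249
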