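import Cfsg.Statements.S3946
import Cfsg.Agent.S4249
import Mathlib.GroupTheory.SemidirectProduct
-- import your own Cfsg.Agent.* helpers here

set_option autoImplicit false
open Cfsg

namespace Cfsg.Agent.S3946

/-- Call an automorphism α of order n of a group G splitting when x · α(x) · α²(x) ⋯ α^(n−1)(x) = 1 for every x ∈ G. A finite group admitting a splitting automorphism of prime order is nilpotent (this contains the case of a fixed-point-free automorphism of prime order). -/
theorem result {G : Type*} [Group G] [Finite G] (α : MulAut G) (hp : (orderOf α).Prime)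
    (hsplit : ∀ x : G, (((List.range (orderOf α)).map (fun i : ℕ => (α ^ i) x)).prod = 1)) : Group.IsNilpotent G := by
  classical
  haveI := Fact.mk hp
  let A := Subgroup.zpowers α
  let φ : A →* MulAut G := A.subtype
  let a : A := ⟨α, Subgroup.mem_zpowers α⟩
  haveI : Finite (G ⋊[φ] A) := Finite.of_equiv (G × A) SemidirectProduct.equivProd.symm
  have hpow : ∀ (x : G) (n : ℕ), (⟨x, a⟩ : G ⋊[φ] A) ^ n =
      ⟨((List.range n).map (fun i : ℕ => (α ^ i) x)).prod, a ^ n⟩ := by
    intro x n
    induction n with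
    | zero => simp
    | succ n ih =>
      rw [pow_succ, ih]
      refine SemidirectProduct.ext ?_ ?_
      · simp [SemidirectProduct.mul_left, List.range_succ, φ, a]
      · rw [SemidirectProduct.mul_right, pow_succ]
  have hap : a ^ orderOf α = 1 := Subtype.ext (by simp [a, pow_orderOf_eq_one])
  have hone : ∀ x : G, (⟨x, a⟩ : G ⋊[φ] A) ^ orderOf α = 1 := fun x => by
    rw [hpow, hsplit, hap]; rfl
  set H : Subgroup (G ⋊[φ] A) := (SemidirectProduct.inl : G →* G ⋊[φ] A).range
  have hH : H = (SemidirectProduct.rightHom : G ⋊[φ] A →* A).ker :=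
    SemidirectProduct.range_inl_eq_ker_rightHom
  haveI : H.Normal := by rw [hH]; infer_instance
  have hidx : H.index = orderOf α := by
    rw [hH, Subgroup.index_ker, MonoidHom.range_eq_top.mpr SemidirectProduct.rightHom_surjective,
      Subgroup.card_top, Nat.card_zpowers]
  have hord : ∀ g ∉ H, g ^ orderOf α = 1 := by
    intro g hg
    have hg' : g.right ≠ 1 := fun h => hg (by rw [hH]; exact h)
    obtain ⟨i, hi⟩ : ∃ i : ℕ, a ^ i = g.right := by
      obtain ⟨i, hi⟩ := (mem_powers_iff_mem_zpowers.mpr g.right.2 : (g.right : MulAut G) ∈ Submonoid.powers α)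
      exact ⟨i, Subtype.ext hi⟩
    have hco : i.Coprime (orderOf α) := ((hp.coprime_iff_not_dvd).mpr fun ⟨k, hk⟩ => hg' (by
      rw [← hi, hk, pow_mul, hap, one_pow])).symm
    have hinj : Function.Injective fun x : G => ((⟨x, a⟩ : G ⋊[φ] A) ^ i).left := by
      intro x x' e
      have e2 : (⟨x, a⟩ : G ⋊[φ] A) ^ i = (⟨x', a⟩ : G ⋊[φ] A) ^ i := SemidirectProduct.ext e (by rw [hpow, hpow])
      obtain ⟨j, hj⟩ := exists_pow_eq_self_of_coprime (hco.coprime_dvd_right (orderOf_dvd_of_pow_eq_one (hone x)))
      obtain ⟨j', hj'⟩ := exists_pow_eq_self_of_coprime (hco.coprime_dvd_right (orderOf_dvd_of_pow_eq_one (hone x')))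
      have hb := Nat.gcd_eq_gcd_ab i (orderOf α)
      rw [hco.gcd_eq_one] at hb
      have key : ∀ z : G ⋊[φ] A, z ^ orderOf α = 1 → (z ^ i) ^ (Nat.gcdA i (orderOf α)) = z := fun z hz => by
        calc (z ^ i) ^ (Nat.gcdA i (orderOf α))
            = z ^ ((i : ℤ) * Nat.gcdA i (orderOf α) + (orderOf α : ℤ) * Nat.gcdB i (orderOf α)) := by
              rw [zpow_add, zpow_mul, zpow_mul, zpow_natCast, zpow_natCast, hz, one_zpow, mul_one]
          _ = z := by rw [← hb, Nat.cast_one, zpow_one]
      have := (key _ (hone x)).symm.trans ((congrArg (· ^ (Nat.gcdA i (orderOf α))) e2).trans (key _ (hone x')))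
      exact congrArg SemidirectProduct.left this
    obtain ⟨x, hx⟩ := (Finite.injective_iff_bijective.mp hinj).2 g.left
    have he : g = (⟨x, a⟩ : G ⋊[φ] A) ^ i := SemidirectProduct.ext hx.symm (by rw [hpow]; exact hi.symm)
    rw [he, ← pow_mul, mul_comm, pow_mul, hone, one_pow]
  haveI := Cfsg.Agent.S4249.nilpotent_of_splitting (orderOf α) _ (G ⋊[φ] A) le_rfl H hidx hord
  exact Group.nilpotent_of_surjective
    (MonoidHom.ofInjective (SemidirectProduct.inl_injective (φ := φ))).symm.toMonoidHom
    (MonoidHom.ofInjective (SemidirectProduct.inl_injective (φ := φ))).symm.surjective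

end Cfsg.Agent.S3946
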