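import Cfsg.Statements.S3949
import Mathlib

set_option autoImplicit false
open Cfsg

namespace Cfsg.Agent.S3949

/-- Let G be a finite group and α an automorphism of G of order 2 such that the elements g·α(g)⁻¹ generate G. Let j be a positive integer such that 2^j divides the order of no element inverted by α. Then the set of values of the j-th iterate of the map c ↦ c·α(c)⁻¹ is exactly the set of elements of odd order inverted by α. -/
theorem result {G : Type*} [Group G] [Finite G] (α : MulAut G) (hα : orderOf α = 2) (hG : Subgroup.closure (Set.range (fun c : G => c * (α c)⁻¹)) = ⊤)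
    (j : ℕ) (hj : ∀ g : G, α g = g⁻¹ → ¬ 2 ^ j ∣ orderOf g) :
    Set.range ((fun c : G => c * (α c)⁻¹)^[j]) = {g : G | Odd (orderOf g) ∧ α g = g⁻¹} := by
  set f := fun c : G => c * (α c)⁻¹ with hf
  have hαα : ∀ c, α (α c) = c := by
    intro c
    have := DFunLike.congr_fun (pow_orderOf_eq_one α) c
    rw [hα, pow_two] at this
    simpa using this
  have hfK : ∀ c, α (f c) = (f c)⁻¹ := by
    intro c; simp [hf, hαα]
  have hfsq : ∀ g, α g = g⁻¹ → f g = g ^ 2 := by
    intro g hg; simp [hf, hg, pow_two]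
  have hit : ∀ (i : ℕ) (g : G), α g = g⁻¹ → f^[i] g = g ^ (2 ^ i) := by
    intro i
    induction i with
    | zero => intro g _; simp
    | succ i ih =>
      intro g hg
      rw [Function.iterate_succ_apply', ih g hg, hfsq _ (by rw [map_pow, hg, inv_pow]), ← pow_mul, ← pow_succ]
  have hj0 : j ≠ 0 := by
    rintro rfl
    exact hj 1 (by simp) (by simp)
  obtain ⟨i, rfl⟩ := Nat.exists_eq_succ_of_ne_zero hj0
  ext g
  constructor
  · rintro ⟨c, rfl⟩
    change Odd (orderOf (f^[i + 1] c)) ∧ α (f^[i + 1] c) = (f^[i + 1] c)⁻¹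
    rw [Function.iterate_succ_apply, hit i _ (hfK c)]
    refine ⟨?_, by rw [map_pow, hfK, inv_pow]⟩
    rw [← Nat.not_even_iff_odd, even_iff_two_dvd]
    intro h2
    apply hj _ (hfK c)
    rw [orderOf_pow] at h2
    obtain ⟨e, he, hge⟩ := (Nat.dvd_prime_pow Nat.prime_two).mp (Nat.gcd_dvd_right (orderOf (f c)) (2 ^ i))
    have hd := Nat.gcd_dvd_left (orderOf (f c)) (2 ^ i)
    have h3 : 2 * Nat.gcd (orderOf (f c)) (2 ^ i) ∣ orderOf (f c) := by
      have := Nat.mul_dvd_mul_right h2 (Nat.gcd (orderOf (f c)) (2 ^ i))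
      rwa [Nat.div_mul_cancel hd] at this
    rcases eq_or_lt_of_le he with rfl | hlt
    · rw [hge, ← pow_succ'] at h3; exact h3
    · exfalso
      have h4 : 2 * Nat.gcd (orderOf (f c)) (2 ^ i) ∣ 2 ^ i := by
        rw [hge, ← pow_succ']; exact Nat.pow_dvd_pow 2 hlt
      have h5 := Nat.le_of_dvd (Nat.gcd_pos_of_pos_left _ (orderOf_pos _)) (Nat.dvd_gcd h3 h4)
      have h6 := Nat.gcd_pos_of_pos_left (2 ^ i) (orderOf_pos (f c))
      omega
  · rintro ⟨hodd, hg⟩
    obtain ⟨r, hr⟩ := exists_pow_eq_self_of_coprime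
      (x := g) (n := 2 ^ (i + 1)) (Nat.Coprime.pow_left _ (Nat.coprime_two_left.mpr hodd))
    refine ⟨g ^ r, ?_⟩
    rw [hit (i + 1) _ (by rw [map_pow, hg, inv_pow]), ← pow_mul, mul_comm, pow_mul]
    exact hr

end Cfsg.Agent.S3949
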