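import Cfsg.Statements.S3950
import Cfsg.Agent.Lib.Struct.SchurExamples
import Mathlib.GroupTheory.FiniteAbelian.Basic
import Mathlib.GroupTheory.SpecificGroups.Cyclic
import Mathlib.GroupTheory.OrderOfElement
import Mathlib.Data.Nat.GCD.BigOperators
import Mathlib.RingTheory.Coprime.Lemmas
import Mathlib.Tactic

set_option autoImplicit false
open Cfsg
open Cfsg.Agent.Struct Cfsg.Agent.Struct.Schur
open scoped commutatorElement

namespace Cfsg.Agent.S3950

/-- A finite abelian group has trivial Schur multiplier if and only if it is cyclic. -/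
theorem result {G : Type*} [CommGroup G] [Finite G] : Cfsg.HasCyclicSchurMultiplier G 1 ↔ IsCyclic G := by
  constructor
  · intro h
    classical
    obtain ⟨ι, hι, n, hn, ⟨e⟩⟩ := CommGroup.equiv_prod_multiplicative_zmod_of_finite G
    by_cases hco : Pairwise fun i j => Nat.Coprime (n i) (n j)
    · have : ∀ i, NeZero (n i) := fun i => NeZero.of_gt (hn i)
      suffices IsCyclic ((i : ι) → Multiplicative (ZMod (n i))) from
        isCyclic_of_surjective e.symm.toMonoidHom e.symm.surjective
      let g : (i : ι) → Multiplicative (ZMod (n i)) := fun _ => Multiplicative.ofAdd 1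
      refine isCyclic_of_orderOf_eq_card g ?_
      refine Nat.dvd_antisymm (orderOf_dvd_natCard g) ?_
      rw [Nat.card_pi]
      simp only [Nat.card_congr Multiplicative.toAdd, Nat.card_zmod]
      refine Fintype.prod_dvd_of_isRelPrime (fun i j hij => Nat.coprime_iff_isRelPrime.1 (hco hij)) fun i => ?_
      have h1 : Nat.card (Multiplicative (ZMod (n i))) = orderOf (g i) := by
        rw [orderOf_ofAdd_eq_addOrderOf, ZMod.addOrderOf_one, Nat.card_congr Multiplicative.toAdd, Nat.card_zmod]
      rw [Nat.card_congr Multiplicative.toAdd, Nat.card_zmod] at h1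
      rw [h1]
      exact orderOf_map_dvd (Pi.evalMonoidHom (fun j => Multiplicative (ZMod (n j))) i) g
    · exfalso
      simp only [Pairwise, not_forall] at hco
      obtain ⟨i, j, hij, hnc⟩ := hco
      obtain ⟨p, hp, hpi, hpj⟩ := Nat.Prime.not_coprime_iff_dvd.1 hnc
      have := Fact.mk hp
      let c : ∀ k, p ∣ n k → ((∀ l, Multiplicative (ZMod (n l))) →* Multiplicative (ZMod p)) := fun k hk =>
        (AddMonoidHom.toMultiplicative (ZMod.castHom hk (ZMod p)).toAddMonoidHom).comp
          (Pi.evalMonoidHom (fun l => Multiplicative (ZMod (n l))) k)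
      let f1 := (c i hpi).comp e.toMonoidHom
      let f2 := (c j hpj).comp e.toMonoidHom
      let β : G →* G →* Multiplicative (ZMod p) :=
        { toFun := fun x =>
            { toFun := fun y => Multiplicative.ofAdd
                (Multiplicative.toAdd (f1 x) * Multiplicative.toAdd (f2 y))
              map_one' := by simp
              map_mul' := fun y y' => by simp [mul_add, ← ofAdd_add] }
          map_one' := MonoidHom.ext fun y => by simp
          map_mul' := fun x x' => MonoidHom.ext fun y => by simp [add_mul, ← ofAdd_add] }
      let x : G := e.symm (Pi.mulSingle i (Multiplicative.ofAdd 1))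
      let y : G := e.symm (Pi.mulSingle j (Multiplicative.ofAdd 1))
      have hxi : Multiplicative.toAdd (f1 x) = 1 := by
        simp [f1, c, x, ZMod.cast_one hpi]
      have hxj : Multiplicative.toAdd (f2 x) = 0 := by
        simp [f2, c, x, Pi.mulSingle_eq_of_ne (Ne.symm hij)]
      have hyj : Multiplicative.toAdd (f2 y) = 1 := by
        simp [f2, c, y, ZMod.cast_one hpj]
      have hval : β x y * (β y x)⁻¹ = Multiplicative.ofAdd 1 := by
        apply Multiplicative.toAdd.injective
        show Multiplicative.toAdd (f1 x) * Multiplicative.toAdd (f2 y) +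
          -(Multiplicative.toAdd (f1 y) * Multiplicative.toAdd (f2 x)) = 1
        rw [hxi, hxj, hyj]
        simp
      have hstem : Cfsg.IsStemExtension (BilExt.proj β) := by
        refine BilExt.isStemExtension_proj β (eq_top_iff.2 fun z _ => ?_)
        have hz : z = Multiplicative.ofAdd (1 : ZMod p) ^ (Multiplicative.toAdd z).val := by
          apply Multiplicative.toAdd.injective
          simp
        rw [hz]
        refine Subgroup.pow_mem _ (Subgroup.subset_closure ?_) _
        exact ⟨x, y, Commute.all x y, hval.symm⟩
      have := BilExt.finite_bilExt β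
      obtain ⟨q, hq⟩ := exists_surj_of_central G h (BilExt.proj β) hstem.1 hstem.2.1
      have h0 := Nat.card_le_card_of_surjective q hq
      rw [inf_eq_left.2 hstem.2.2, BilExt.card_ker, Nat.card_congr Multiplicative.toAdd,
        Nat.card_congr Multiplicative.toAdd, Nat.card_zmod, Nat.card_zmod] at h0
      exact absurd h0 (not_le.2 hp.one_lt)
  · intro hcyc
    refine hasCyclic_one_of_ker_bot G fun Γ _ _ σ hσ => ?_
    have hΓ : IsMulCommutative Γ := by
      exact σ.isMulCommutative_of_isCyclic_of_ker_le_center hσ.2.1
    rw [eq_bot_iff]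
    refine hσ.2.2.trans ?_
    rw [commutator_def, Subgroup.commutator_le]
    intro a _ b _
    rw [Subgroup.mem_bot, commutatorElement_eq_one_iff_mul_comm]
    exact mul_comm' a b

end Cfsg.Agent.S3950
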