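import Cfsg.Statements.S3951
import Cfsg.Agent.Lib.Struct.SchurExamples

set_option autoImplicit false
open Cfsg
open Cfsg.Agent.Struct Cfsg.Agent.Struct.Schur
open scoped commutatorElement

namespace Cfsg.Agent.S3951

/-- The cocycle `((a, b), (a', b')) ↦ a b'`. -/
def beta (m n : ℕ) (hnm : n ∣ m) :
    Multiplicative (ZMod m × ZMod n) →* Multiplicative (ZMod m × ZMod n) →* Multiplicative (ZMod n) where
  toFun x :=
    { toFun := fun y => Multiplicative.ofAdd
        (ZMod.castHom hnm (ZMod n) (Multiplicative.toAdd x).1 * (Multiplicative.toAdd y).2)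
      map_one' := by simp
      map_mul' := fun y y' => by simp [mul_add, ← ofAdd_add] }
  map_one' := MonoidHom.ext fun y => by simp
  map_mul' x x' := MonoidHom.ext fun y => by
    apply Multiplicative.toAdd.injective
    show ZMod.castHom hnm (ZMod n) ((Multiplicative.toAdd x).1 + (Multiplicative.toAdd x').1) * _ = _ + _
    rw [map_add, add_mul]
    rfl

instance finite_heis (m n : ℕ) [NeZero m] [NeZero n] (hnm : n ∣ m) : Finite (BilExt (beta m n hnm)) :=
  BilExt.finite_bilExt _


/-- For positive integers `m` and `n` with `n` dividing `m`, the Schur multiplier of the abelian group `ZMod m × ZMod n` (written multiplicatively) is cyclic of order `n`. In particular the elementary abelian group of order `p ^ 2` has multiplier of order `p`. -/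
theorem result (m n : ℕ) [NeZero m] [NeZero n] (hnm : n ∣ m) : Cfsg.HasCyclicSchurMultiplier (Multiplicative (ZMod m × ZMod n)) n := by
  have := Fact.mk (Nat.pos_of_ne_zero (NeZero.ne n))
  refine hasCyclic_of_bound _ (fun Γ _ _ σ hσ => ?_) _ (BilExt.proj (beta m n hnm)) ?_ ?_
  · obtain ⟨a, ha⟩ := hσ.1 (Multiplicative.ofAdd ((1 : ZMod m), (0 : ZMod n)))
    obtain ⟨b, hb⟩ := hσ.1 (Multiplicative.ofAdd ((0 : ZMod m), (1 : ZMod n)))
    have hgen : ∀ g : Γ, ∃ i j : ℤ, ∃ z ∈ Subgroup.center Γ, g = a ^ i * b ^ j * z := by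
      intro g
      obtain ⟨i, hi⟩ := ZMod.intCast_surjective (Multiplicative.toAdd (σ g)).1
      obtain ⟨j, hj⟩ := ZMod.intCast_surjective (Multiplicative.toAdd (σ g)).2
      refine ⟨i, j, (a ^ i * b ^ j)⁻¹ * g, hσ.2.1 ?_, by group⟩
      rw [MonoidHom.mem_ker, map_mul, map_inv, inv_mul_eq_one, map_mul, map_zpow, map_zpow, ha, hb]
      apply Multiplicative.toAdd.injective
      refine Prod.ext ?_ ?_ <;> simp [← hi, ← hj]
    have hck : ⁅a, b⁆ ∈ σ.ker := by
      rw [MonoidHom.mem_ker, map_commutatorElement, commutatorElement_eq_one_iff_mul_comm]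
      exact mul_comm _ _
    have hcc := commute_of_mem_center (hσ.2.1 hck)
    refine ⟨⁅a, b⁆, hck, ?_, ?_⟩
    · have hbn : σ (b ^ n) = 1 := by
        rw [map_pow, hb]
        apply Multiplicative.toAdd.injective
        simp
      have key : ∀ k : ℕ, a * b ^ k * a⁻¹ = ⁅a, b⁆ ^ k * b ^ k := by
        intro k
        rw [← conj_pow, show a * b * a⁻¹ = ⁅a, b⁆ * b by rw [commutatorElement_def]; group]
        exact (show Commute ⁅a, b⁆ b from hcc b).mul_pow k
      have h := key n
      rwa [← commute_of_mem_center (hσ.2.1 hbn) a, mul_inv_cancel_right,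
        eq_comm, mul_eq_right] at h
    · have hN : (Subgroup.zpowers ⁅a, b⁆).Normal := ⟨fun x hx g => by
        obtain ⟨k, rfl⟩ := hx
        have hk : Commute g (⁅a, b⁆ ^ k) := ((show Commute ⁅a, b⁆ g from hcc g).symm).zpow_right k
        simp only [hk.eq, mul_inv_cancel_right]
        exact ⟨k, rfl⟩⟩
      exact hσ.2.2.trans (commutator_le_zpowers a b hgen hN)
  · refine BilExt.isStemExtension_proj _ (eq_top_iff.2 fun z _ => ?_)
    apply Subgroup.subset_closure
    refine ⟨Multiplicative.ofAdd ((1 : ZMod m), (0 : ZMod n)),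
      Multiplicative.ofAdd ((0 : ZMod m), Multiplicative.toAdd z), Commute.all _ _, ?_⟩
    simp [beta, ← ZMod.castHom_apply (h := hnm), map_one, -ZMod.castHom_apply]
  · rw [BilExt.card_ker]
    simp

end Cfsg.Agent.S3951
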