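import Cfsg.Statements.S3952
import Cfsg.Agent.Lib.Struct.SchurTransfer
import Cfsg.Agent.Lib.Char.Orthogonality
import Cfsg.Agent.Lib.Char.Monomial
import Mathlib.GroupTheory.Sylow
import Mathlib.GroupTheory.PGroup
import Mathlib.GroupTheory.Exponent
import Mathlib.LinearAlgebra.Determinant
import Mathlib.Tactic

set_option autoImplicit false
open Cfsg
open Cfsg.Agent.Struct.Schur Representation Module

namespace Cfsg.Agent.S3952

universe u v

/-- The bound for a `p`-group, from an irreducible representation of a cover. -/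
theorem sq_dvd {p : ℕ} [Fact p.Prime] {Q : Type u} [Group Q] [Finite Q] (hQ : IsPGroup p Q)
    {A : Type v} [CommGroup A] (hA : Cfsg.HasSchurMultiplier Q A) {a : A} {k : ℕ}
    (ha : orderOf a = p ^ k) : p ^ (2 * k) ∣ Nat.card Q := by
  classical
  rcases Nat.eq_zero_or_pos k with rfl | hk
  · simp
  obtain ⟨⟨Γ, _, _, σ, hσ, ⟨e⟩⟩, -⟩ := hA
  haveI := Fintype.ofFinite Γ
  set z : Γ := (e.symm a).1 with hz
  have hzo : orderOf z = p ^ k := by rw [hz, Subgroup.orderOf_coe, MulEquiv.orderOf_eq, ha]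
  have hz' : z ^ p ^ (k - 1) ≠ 1 := fun h => by
    have h1 := orderOf_dvd_of_pow_eq_one h
    rw [hzo, Nat.pow_dvd_pow_iff_le_right (Fact.out : p.Prime).one_lt] at h1
    omega
  obtain ⟨⟨χ, hχ⟩, hne⟩ : ∃ χ : IrrCharacter Γ, (χ : Γ → ℂ) (z ^ p ^ (k - 1)) ≠ (χ : Γ → ℂ) 1 := by
    by_contra hall
    push_neg at hall
    exact hz' (isConj_one_left.1 ((Cfsg.Agent.Char.isConj_iff_irr _ _).2 hall))
  obtain ⟨n, ρ, hρ, rfl⟩ := hχ
  haveI := hρ
  have hscal : ∀ x ∈ σ.ker, ∃ c : ℂ, ρ x = c • (LinearMap.id : (Fin n → ℂ) →ₗ[ℂ] (Fin n → ℂ)) := by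
    intro x hx
    let T : IntertwiningMap ρ ρ := ⟨ρ x, fun y => by
      rw [← Module.End.mul_eq_comp, ← Module.End.mul_eq_comp, ← map_mul, ← map_mul,
        Subgroup.mem_center_iff.1 (hσ.2.1 hx) y]⟩
    obtain ⟨c, hc⟩ :=
      (IsIrreducible.algebraMap_intertwiningMap_bijective_of_isAlgClosed (ρ := ρ)).2 T
    have := congrArg IntertwiningMap.toLinearMap hc
    simp only [T] at this
    exact ⟨c, by rw [← this, Algebra.algebraMap_eq_smul_one]; rfl⟩
  obtain ⟨ζ, hζ⟩ := hscal z (e.symm a).2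
  have hn : 0 < n := by
    haveI := Cfsg.Agent.Char.nontrivial_of_irreducible ρ
    simpa using Module.finrank_pos (R := ℂ) (M := Fin n → ℂ)
  have hnt : Nonempty (Fin n) := ⟨⟨0, hn⟩⟩
  have hpow : ∀ m : ℕ, ρ (z ^ m) = ζ ^ m • (LinearMap.id : (Fin n → ℂ) →ₗ[ℂ] (Fin n → ℂ)) := by
    intro m
    rw [map_pow, hζ, smul_pow]
    exact congrArg (ζ ^ m • ·) (one_pow m)
  have hinj : ∀ c : ℂ, c • (LinearMap.id : (Fin n → ℂ) →ₗ[ℂ] (Fin n → ℂ)) = LinearMap.id → c = 1 := by
    intro c hc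
    have := congrFun (LinearMap.congr_fun hc (fun _ => 1)) ⟨0, hn⟩
    simpa using this
  have hζo : orderOf ζ = p ^ k := by
    obtain ⟨k', rfl⟩ : ∃ k', k = k' + 1 := ⟨k - 1, by omega⟩
    refine orderOf_eq_prime_pow (fun h => hne ?_) (hinj _ ?_)
    · show ρ.character _ = ρ.character 1
      rw [ρ.char_one]
      refine (Cfsg.Agent.Char.character_eq_finrank_iff ρ _).2 ?_
      rw [hpow, Nat.add_sub_cancel, h, one_smul]
    · rw [← hpow, ← hzo, pow_orderOf_eq_one, map_one]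
      rfl
  have hdet : ζ ^ n = 1 := by
    let d : Γ →* ℂ := LinearMap.det.comp ρ
    have h1 : d.toHomUnits z = 1 := Abelianization.commutator_subset_ker d.toHomUnits (hσ.2.2 (e.symm a).2)
    have h2 : LinearMap.det (ρ z) = 1 := congrArg Units.val h1
    rw [hζ, LinearMap.det_smul, LinearMap.det_id, mul_one] at h2
    simpa using h2
  have hkn : p ^ k ∣ n := hζo ▸ orderOf_dvd_of_pow_eq_one hdet
  have hsum : ∑ g : Γ, ‖ρ.character g‖ ^ 2 = (Nat.card Γ : ℝ) := by
    have h := (Cfsg.Agent.Char.isIrreducible_iff_classInner ρ).1 inferInstance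
    unfold classInner at h
    rw [inv_mul_eq_one₀ (Nat.cast_ne_zero.2 Nat.card_pos.ne')] at h
    apply_fun Complex.ofReal using Complex.ofReal_injective
    simp only [Complex.ofReal_sum, Complex.ofReal_natCast, Complex.ofReal_pow]
    rw [h]
    exact Finset.sum_congr rfl fun g _ => (Complex.mul_conj' _).symm
  have hle : Nat.card σ.ker * n ^ 2 ≤ Nat.card Γ := by
    have h1 : ∑ g ∈ Finset.univ.filter (· ∈ σ.ker), ‖ρ.character g‖ ^ 2 ≤
        ∑ g : Γ, ‖ρ.character g‖ ^ 2 :=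
      Finset.sum_le_sum_of_subset_of_nonneg (Finset.filter_subset _ _) (fun g _ _ => by positivity)
    rw [hsum, Finset.sum_congr rfl (g := fun _ => (n : ℝ) ^ 2) fun g hg => by
      rw [(Cfsg.Agent.Char.norm_character_eq_iff ρ g).2 (hscal g (Finset.mem_filter.1 hg).2)]
      simp, Finset.sum_const, nsmul_eq_mul, ← Fintype.card_subtype, ← Nat.card_eq_fintype_card] at h1
    exact_mod_cast h1
  rw [Subgroup.card_eq_card_quotient_mul_card_subgroup σ.ker,
    Nat.card_congr (QuotientGroup.quotientKerEquivOfSurjective σ hσ.1).toEquiv, mul_comm (Nat.card Q)] at hle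
  have hle' := Nat.le_of_mul_le_mul_left hle Nat.card_pos
  obtain ⟨j, hj⟩ := IsPGroup.iff_card.1 hQ
  rw [hj] at hle' ⊢
  refine pow_dvd_pow p ((Nat.pow_le_pow_iff_right (Fact.out : p.Prime).one_lt).1 ?_)
  calc p ^ (2 * k) = (p ^ k) ^ 2 := by ring
    _ ≤ n ^ 2 := Nat.pow_le_pow_left (Nat.le_of_dvd hn hkn) 2
    _ ≤ p ^ j := hle'


/-- If `A` is the Schur multiplier of the finite group `Q`, then the square of the exponent of `A` divides the order of `Q`. -/
theorem result {Q : Type*} [Group Q] [Finite Q] {A : Type*} [CommGroup A] (hA : Cfsg.HasSchurMultiplier Q A) : Monoid.exponent A ^ 2 ∣ Nat.card Q := by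
  classical
  have := finite_of_hasSchurMultiplier Q hA
  obtain ⟨g, hg⟩ := Monoid.exists_orderOf_eq_exponent (Monoid.ExponentExists.of_finite (G := A))
  rw [← hg, ← Nat.factorization_prime_le_iff_dvd (pow_ne_zero 2 (orderOf_pos g).ne') Nat.card_pos.ne']
  intro p hp
  have := Fact.mk hp
  rw [Nat.factorization_pow, Finsupp.smul_apply, smul_eq_mul]
  obtain ⟨P⟩ : Nonempty (Sylow p Q) := inferInstance
  obtain ⟨C, ⟨e⟩⟩ := exists_pow_index_embedding (P : Subgroup Q) hA
    (hasSchurMultiplier_schurMul (P : Subgroup Q))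
  set k := (orderOf g).factorization p
  have hdvd : p ^ k ∣ orderOf g := Nat.ordProj_dvd _ _
  set a := g ^ (orderOf g / p ^ k) with ha
  have hordle : orderOf g / p ^ k ∣ orderOf g := Nat.div_dvd_of_dvd hdvd
  have hne : orderOf g / p ^ k ≠ 0 :=
    (Nat.div_pos (Nat.le_of_dvd (orderOf_pos g) hdvd) (pow_pos hp.pos k)).ne'
  have hord : orderOf a = p ^ k := by
    rw [ha, orderOf_pow' g hne, Nat.gcd_eq_right hordle, Nat.div_div_self hdvd (orderOf_pos g).ne']
  have hord' : orderOf (a ^ (P : Subgroup Q).index) = p ^ k := by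
    rw [Nat.Coprime.orderOf_pow, hord]
    rw [hord]
    exact ((Fact.out : p.Prime).coprime_iff_not_dvd.2 P.not_dvd_index).pow_left k
  have hb : orderOf ((e ⟨a ^ (P : Subgroup Q).index, a, rfl⟩ : C) : schurMul (P : Subgroup Q)) = p ^ k := by
    rw [Subgroup.orderOf_coe, MulEquiv.orderOf_eq, ← Subgroup.orderOf_coe]
    exact hord'
  have h := sq_dvd P.isPGroup' (hasSchurMultiplier_schurMul (P : Subgroup Q)) hb
  rw [← hp.pow_dvd_iff_le_factorization Nat.card_pos.ne']
  exact h.trans (Subgroup.card_subgroup_dvd_card _)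

end Cfsg.Agent.S3952
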