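import Cfsg.Statements.S3953
import Cfsg.Agent.Lib.Struct.SchurTransfer
import Mathlib.GroupTheory.Torsion
import Mathlib.GroupTheory.Sylow
import Mathlib.GroupTheory.PGroup

set_option autoImplicit false
open Cfsg
open Cfsg.Agent.Struct.Schur

namespace Cfsg.Agent.S3953

/-- Let `P` be a Sylow `p`-subgroup of the finite group `G`, let `A` be the Schur multiplier of `G` and `B` that of `P`. Then the `p`-primary component of `A` is isomorphic to a direct factor of `B`: there are subgroups `C` and `D` of `B` meeting trivially and generating `B`, with `C` isomorphic to the `p`-primary component of `A`. -/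
theorem result {G : Type*} [Group G] [Finite G] (p : ℕ) [Fact p.Prime] (P : Sylow p G) {A B : Type*} [CommGroup A] [CommGroup B] (hA : Cfsg.HasSchurMultiplier G A) (hB : Cfsg.HasSchurMultiplier P B) : ∃ C D : Subgroup B, C ⊓ D = ⊥ ∧ C ⊔ D = ⊤ ∧ Nonempty (CommGroup.primaryComponent A p ≃* C) := by
  have := finite_of_hasSchurMultiplier G hA
  obtain ⟨q, T, hqT⟩ := exists_corestriction (P : Subgroup G) hA hB
  set Ap := CommGroup.primaryComponent A p
  have hB' : ∀ b : B, q b ∈ Ap := fun b => by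
    obtain ⟨j, hj⟩ := IsPGroup.iff_card.1 P.isPGroup'
    have hb : b ^ p ^ j = 1 := hj ▸ pow_card_eq_one hB b
    exact CommGroup.mem_primaryComponent.2 ⟨j, by rw [← map_pow, hb, map_one]⟩
  have hAp : IsPGroup p Ap := fun a => by
    obtain ⟨j, hj⟩ := CommGroup.mem_primaryComponent.1 a.2
    exact ⟨j, Subtype.ext hj⟩
  obtain ⟨j, hj⟩ := IsPGroup.iff_card.1 hAp
  have hco : (Nat.card Ap).Coprime (P : Subgroup G).index := by
    rw [hj]
    exact ((Fact.out : p.Prime).coprime_iff_not_dvd.2 P.not_dvd_index).pow_left j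
  let e : Ap ≃* Ap := MulEquiv.ofBijective (powMonoidHom (P : Subgroup G).index) (powCoprime hco).bijective
  let s : Ap →* B := (T.comp Ap.subtype).comp e.symm.toMonoidHom
  have hs : ∀ a : Ap, q (s a) = a := fun a => by
    show q (T (e.symm a).1) = a
    rw [hqT, ← SubmonoidClass.coe_pow]
    exact congrArg Subtype.val (e.apply_symm_apply a)
  have hsinj : Function.Injective s := fun a a' h => Subtype.ext (by rw [← hs a, ← hs a', h])
  refine ⟨s.range, q.ker, ?_, ?_, ⟨MonoidHom.ofInjective hsinj⟩⟩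
  · rw [eq_bot_iff]
    rintro _ ⟨⟨a, rfl⟩, hq⟩
    have hq' : q (s a) = 1 := hq
    rw [hs] at hq'
    rw [Subgroup.mem_bot, show a = 1 from Subtype.ext hq', map_one]
  · refine eq_top_iff.2 fun b _ => ?_
    refine Subgroup.mem_sup.2 ⟨s ⟨q b, hB' b⟩, ⟨_, rfl⟩, (s ⟨q b, hB' b⟩)⁻¹ * b, ?_, mul_inv_cancel_left _ _⟩
    rw [MonoidHom.mem_ker, map_mul, map_inv, hs, inv_mul_cancel]

end Cfsg.Agent.S3953
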