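import Cfsg.Statements.S3957
import Cfsg.Agent.Lib.Struct.SchurMain

set_option autoImplicit false
universe u v
open Cfsg
open Cfsg.Agent.Struct.Schur
open scoped commutatorElement

namespace Cfsg.Agent.S3957

/-- Let `Q` be a finite group with Schur multiplier `A` and let `τ : Δ →* Q` be a finite stem extension, `Δ` in the universe of `Q`. Then there is a finite stem extension `σ : Γ →* Q` with kernel isomorphic to `A` (a Schur covering group) and a surjective homomorphism `β : Γ →* Δ` with `τ ∘ β = σ`. -/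
theorem result {Q : Type u} [Group Q] [Finite Q] {A : Type v} [CommGroup A] (hA : Cfsg.HasSchurMultiplier Q A) {Δ : Type u} [Group Δ] [Finite Δ] (τ : Δ →* Q) (hτ : Cfsg.IsStemExtension τ) : ∃ (Γ : Type u) (_ : Group Γ) (_ : Finite Γ) (σ : Γ →* Q), Cfsg.IsStemExtension σ ∧ Nonempty (σ.ker ≃* A) ∧ ∃ β : Γ →* Δ, Function.Surjective β ∧ τ.comp β = σ := by
  have hs := fproj_surjective Q
  let b := FreeGroupBasis.ofFreeGroup Q
  obtain ⟨φ, hφ, hmap, htop, hkl⟩ := exists_central_lift b hs τ hτ.1 hτ.2.1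
  rw [inf_eq_left.2 hτ.2.2] at hmap
  have hsurj : Function.Surjective φ := by
    rw [← MonoidHom.range_eq_top, eq_top_iff, ← htop]
    exact sup_le le_rfl (hmap ▸ Subgroup.map_le_range _ _)
  let := centralKerCommGroup hτ.2.1
  let φk : (cproj (fproj Q)).ker →* τ.ker :=
    (φ.comp (Subgroup.subtype _)).codRestrict τ.ker (fun x => by
      rw [MonoidHom.mem_ker, MonoidHom.comp_apply, ← MonoidHom.comp_apply τ φ, hφ]
      exact x.2)
  obtain ⟨K, h1, h2, h3, h4⟩ := exists_complement b (fproj Q) φk (fun d => by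
    have hd : d.1 ∈ ((cproj (fproj Q)).ker ⊓ commutator (SchurC (fproj Q))).map φ := by
      rw [hmap]; exact d.2
    obtain ⟨m, hm, hmd⟩ := hd
    exact ⟨⟨m, hm.1⟩, hm.2, Subtype.ext hmd⟩)
  obtain ⟨hn, σ, hσ, hstem, hfin, ⟨e⟩⟩ := exists_cover_of_complement (fproj Q) hs K h1 h2 h3
  obtain ⟨eA⟩ := equiv_schurMul Q hA
  have hK : K ≤ φ.ker := fun k hk => congrArg Subtype.val (h4 ⟨k, h1 hk⟩ hk)
  refine ⟨_, inferInstance, hfin, σ, hstem, ⟨e.trans eA.symm⟩, QuotientGroup.lift K φ hK, ?_, ?_⟩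
  · intro d
    obtain ⟨c, hc⟩ := hsurj d
    exact ⟨QuotientGroup.mk c, hc⟩
  · refine MonoidHom.ext fun x => ?_
    obtain ⟨c, rfl⟩ := QuotientGroup.mk'_surjective K x
    exact (DFunLike.congr_fun hφ c).trans (DFunLike.congr_fun hσ c).symm

end Cfsg.Agent.S3957
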