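import Cfsg.Statements.S3958
import Cfsg.Agent.Lib.Struct.SchurMain

set_option autoImplicit false
universe u v
open Cfsg
open Cfsg.Agent.Struct.Schur
open scoped commutatorElement

namespace Cfsg.Agent.S3958

/-- Let `σ : Γ →* Q` be a finite stem extension of the finite group `Q` with `Γ` of trivial Schur multiplier. Then `σ` is a Schur covering group of `Q`: for every finite stem extension `τ : Δ →* Q` with `Δ` in the same universe as `Q`, the kernel of `τ` is a homomorphic image of the kernel of `σ`. -/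
theorem result {Q : Type u} [Group Q] [Finite Q] {Γ : Type v} [Group Γ] [Finite Γ] (σ : Γ →* Q) (hσ : Cfsg.IsStemExtension σ) (hΓ : Cfsg.HasCyclicSchurMultiplier Γ 1) (Δ : Type u) [Group Δ] [Finite Δ] (τ : Δ →* Q) (hτ : Cfsg.IsStemExtension τ) : ∃ π : σ.ker →* τ.ker, Function.Surjective π := by
  have hs := fproj_surjective Q
  let b := FreeGroupBasis.ofFreeGroup Q
  obtain ⟨q, hq⟩ := exists_surj_ker_of_stem _ b hs τ hτ
  obtain ⟨φ, hφ, hmap, htop, hkl⟩ := exists_central_lift b hs σ hσ.1 hσ.2.1
  rw [inf_eq_left.2 hσ.2.2] at hmap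
  have hsurj : Function.Surjective φ := by
    rw [← MonoidHom.range_eq_top, eq_top_iff, ← htop]
    exact sup_le le_rfl (hmap ▸ Subgroup.map_le_range _ _)
  obtain ⟨r, hr⟩ := exists_surj_of_central Γ hΓ φ hsurj (hkl.trans (cproj_ker_le_center _))
  have hsub : Subsingleton (Multiplicative (ZMod 1)) := Multiplicative.toAdd.subsingleton
  have hsub' : Subsingleton ↥(φ.ker ⊓ commutator (SchurC (fproj Q))) := hr.subsingleton
  let f : schurM (fproj Q) →* σ.ker := (MulEquiv.subgroupCongr hmap).toMonoidHom.comp (φ.subgroupMap _)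
  have hf : Function.Bijective f := by
    refine ⟨?_, (MulEquiv.subgroupCongr hmap).surjective.comp (φ.subgroupMap_surjective _)⟩
    rw [← MonoidHom.ker_eq_bot_iff, eq_bot_iff]
    intro z hz
    have h1 : φ z.1 = 1 := congrArg Subtype.val hz
    have := Subsingleton.elim (⟨z.1, h1, z.2.2⟩ : ↥(φ.ker ⊓ commutator (SchurC (fproj Q)))) 1
    exact Subgroup.mem_bot.2 (Subtype.ext (congrArg (fun t => t.1) this :))
  exact ⟨q.comp (MulEquiv.ofBijective f hf).symm.toMonoidHom, hq.comp (MulEquiv.surjective _)⟩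

end Cfsg.Agent.S3958
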