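import Cfsg.Statements.S3960
import Cfsg.Agent.Lib.Struct.SchurPerfect

set_option autoImplicit false
universe u
open Cfsg
open Cfsg.Agent.Struct.Schur
open scoped commutatorElement

namespace Cfsg.Agent.S3960

/-- A finite perfect group `Q` has a universal central extension: a finite perfect group `G` in the universe of `Q` and a surjective homomorphism `π : G →* Q` with central kernel such that for every group `X` in that universe and every surjective homomorphism `ξ : X →* Q` with central kernel there is exactly one homomorphism `η : G →* X` with `ξ ∘ η = π`. -/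
theorem result {Q : Type u} [Group Q] [Finite Q] (hQ : Group.IsPerfect Q) : ∃ (G : Type u) (_ : Group G) (_ : Finite G) (π : G →* Q), Group.IsPerfect G ∧ Function.Surjective π ∧ π.ker ≤ Subgroup.center G ∧ ∀ (X : Type u) [Group X] (ξ : X →* Q), Function.Surjective ξ → ξ.ker ≤ Subgroup.center X → ∃! η : G →* X, ξ.comp η = π := by
  let b := FreeGroupBasis.ofFreeGroup Q
  have hs := cproj_surjective (fproj_surjective Q)
  have hc := cproj_ker_le_center (fproj Q)
  have hfin := finite_commutator_of_central (cproj (fproj Q)) hc
  let π : commutator (SchurC (fproj Q)) →* Q := (cproj (fproj Q)).comp (Subgroup.subtype _)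
  have hπ : Function.Surjective π := by
    rw [← MonoidHom.range_eq_top, MonoidHom.range_comp, Subgroup.range_subtype, commutator_def,
      Subgroup.map_commutator, Subgroup.map_top_of_surjective _ hs, ← commutator_def]
    exact hQ.commutator_eq_top
  have hperf : Group.IsPerfect (commutator (SchurC (fproj Q))) := by
    refine ⟨?_⟩
    have htop : (Subgroup.subtype (commutator (SchurC (fproj Q)))).range ⊔ Subgroup.center _ = ⊤ :=
      eq_top_iff.2 ((range_sup_ker_eq_top _ (cproj (fproj Q)) hπ).symm.le.trans (sup_le_sup_left hc _))
    have h := commutator_eq_map_of_range_sup_center _ htop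
    apply Subgroup.map_injective (Subgroup.subtype_injective _)
    rw [← h, ← MonoidHom.range_eq_map, Subgroup.range_subtype]
  refine ⟨_, inferInstance, hfin, π, hperf, hπ, fun x hx => ?_, fun X _ ξ hξ hξc => ?_⟩
  · exact Subgroup.mem_center_iff.2 fun y =>
      Subtype.ext (Subgroup.mem_center_iff.1 (hc (show x.1 ∈ (cproj (fproj Q)).ker from hx)) y.1)
  · obtain ⟨φ, hφ⟩ := exists_hom_of_central b (fproj Q) ξ hξ hξc (MonoidHom.id Q)
    rw [MonoidHom.id_comp] at hφ
    refine ⟨φ.comp (Subgroup.subtype _), ?_, fun η hη => ?_⟩
    · show ξ.comp (φ.comp _) = π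
      rw [← MonoidHom.comp_assoc, hφ]
    · refine hom_ext_of_perfect hperf ξ hξc _ _ ?_
      rw [← MonoidHom.comp_assoc, hφ]
      exact hη

end Cfsg.Agent.S3960
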