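import Cfsg.Statements.S3963
import Cfsg.Agent.Lib.Struct.SchurExamples

set_option autoImplicit false
open Cfsg
open Cfsg.Agent.Struct Cfsg.Agent.Struct.Schur
open scoped commutatorElement

namespace Cfsg.Agent.S3963

theorem quat_zpow {n : ℕ} (k : ℤ) :
    (QuaternionGroup.a (1 : ZMod (2 * n))) ^ k = QuaternionGroup.a (k : ZMod (2 * n)) := by
  cases k with
  | ofNat k => simp [QuaternionGroup.a_one_pow]
  | negSucc k =>
    rw [zpow_negSucc, QuaternionGroup.a_one_pow]
    apply inv_eq_of_mul_eq_one_right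
    rw [QuaternionGroup.a_mul_a, QuaternionGroup.one_def]
    congr 1
    simp

theorem quat_inv_xa_zero {n : ℕ} : (QuaternionGroup.xa (0 : ZMod (2 * n)))⁻¹ = QuaternionGroup.xa (n : ZMod (2 * n)) := by
  apply inv_eq_of_mul_eq_one_right
  rw [QuaternionGroup.xa_mul_xa, QuaternionGroup.one_def]
  congr 1
  have h : ((2 * n : ℕ) : ZMod (2 * n)) = 0 := ZMod.natCast_self _
  push_cast at h
  linear_combination h

/-- Common part: the kernel of a stem extension is killed. -/
theorem quat_hgen {n : ℕ} (q : QuaternionGroup n) :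
    ∃ i : ℤ, ∃ j : ℤ, q = QuaternionGroup.a 1 ^ i * QuaternionGroup.xa 0 ^ j := by
  cases q with
  | a i => obtain ⟨k, rfl⟩ := ZMod.intCast_surjective i; exact ⟨k, 0, by simp [quat_zpow]⟩
  | xa i =>
    obtain ⟨k, rfl⟩ := ZMod.intCast_surjective i
    exact ⟨-k, 1, by rw [quat_zpow, zpow_one, QuaternionGroup.a_mul_xa]; congr 1; simp⟩


/-- For every `n ≥ 1` the dicyclic (generalized quaternion) group of order `4 n` has trivial Schur multiplier. -/
theorem result (n : ℕ) [NeZero n] : Cfsg.HasCyclicSchurMultiplier (QuaternionGroup n) 1 := by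
  refine hasCyclic_one_of_ker_bot _ fun Γ _ _ σ hσ => ?_
  obtain ⟨A, hA⟩ := hσ.1 (QuaternionGroup.a 1)
  obtain ⟨X, hX⟩ := hσ.1 (QuaternionGroup.xa 0)
  have hcomm : Commute X (A ^ n) := by
    have h : X * X * (A ^ n)⁻¹ ∈ σ.ker := by
      rw [MonoidHom.mem_ker, map_mul, map_inv, map_mul, map_pow, hA, hX, QuaternionGroup.xa_mul_xa,
        QuaternionGroup.a_one_pow]
      simp
    have hz : Commute (X * X * (A ^ n)⁻¹) X := commute_of_mem_center (hσ.2.1 h) X
    have e : A ^ n = (X * X * (A ^ n)⁻¹)⁻¹ * (X * X) := by group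
    rw [e]
    exact hz.inv_left.symm.mul_right ((Commute.refl X).mul_right (Commute.refl X))
  obtain ⟨c, hle, hpow, hn⟩ := invert_pair σ hσ.2.1 A X
    (by
      simp only [map_mul, map_inv, hA, hX]
      rw [quat_inv_xa_zero, QuaternionGroup.xa_mul_a, QuaternionGroup.xa_mul_xa,
        QuaternionGroup.a_mul_a, QuaternionGroup.one_def]
      congr 1
      have h : ((2 * n : ℕ) : ZMod (2 * n)) = 0 := ZMod.natCast_self _
      push_cast at h
      linear_combination h)
    (fun g => by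
      obtain ⟨i, j, h⟩ := quat_hgen (σ g)
      exact ⟨i, j, by rw [h, map_mul, map_zpow, map_zpow, hA, hX]⟩) n hcomm
  refine eq_bot_iff.2 fun g hg => Subgroup.mem_bot.2 ?_
  obtain ⟨j, rfl⟩ := Subgroup.mem_zpowers_iff.1 (hle (hσ.2.2 hg))
  rw [MonoidHom.mem_ker, hpow, hA, quat_zpow, QuaternionGroup.one_def] at hg
  have h2 : ((-2 * j : ℤ) : ZMod (2 * n)) = 0 := QuaternionGroup.a.inj hg
  rw [ZMod.intCast_zmod_eq_zero_iff_dvd, Nat.cast_mul, Nat.cast_ofNat, neg_mul, dvd_neg] at h2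
  obtain ⟨t, rfl⟩ := Int.dvd_of_mul_dvd_mul_left (two_ne_zero) h2
  rw [zpow_mul, zpow_natCast, hn, one_zpow]

end Cfsg.Agent.S3963
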