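import Cfsg.Statements.S3966
import Cfsg.Agent.Lib.Struct.SchurExamples

set_option autoImplicit false
open Cfsg
open Cfsg.Agent.Struct Cfsg.Agent.Struct.Schur
open scoped commutatorElement

namespace Cfsg.Agent.S3966

/-- The quotient by the central involution. -/
def proj (n : ℕ) : QuaternionGroup n →* DihedralGroup n where
  toFun
    | .a i => .r (ZMod.castHom (dvd_mul_left n 2) (ZMod n) i)
    | .xa i => .sr (ZMod.castHom (dvd_mul_left n 2) (ZMod n) i)
  map_one' := by rw [QuaternionGroup.one_def, DihedralGroup.one_def]; simp
  map_mul' x y := by
    rcases x with i | i <;> rcases y with j | j <;> simp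

theorem proj_surjective (n : ℕ) : Function.Surjective (proj n) := by
  intro y
  cases y with
  | r i =>
    obtain ⟨k, rfl⟩ := ZMod.intCast_surjective i
    exact ⟨.a (k : ZMod (2 * n)), by simp [proj]⟩
  | sr i =>
    obtain ⟨k, rfl⟩ := ZMod.intCast_surjective i
    exact ⟨.xa (k : ZMod (2 * n)), by simp [proj]⟩

theorem mem_ker_proj (n : ℕ) [NeZero n] (x : QuaternionGroup n) (hx : x ∈ (proj n).ker) :
    x = QuaternionGroup.a 0 ∨ x = QuaternionGroup.a (n : ZMod (2 * n)) := by
  rw [MonoidHom.mem_ker, DihedralGroup.one_def] at hx
  cases x with
  | xa i => exact absurd hx (by show DihedralGroup.sr _ ≠ DihedralGroup.r _; exact fun h => by cases h)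
  | a i =>
    obtain ⟨k, rfl⟩ := ZMod.intCast_surjective i
    simp [proj] at hx
    rw [DihedralGroup.one_def, DihedralGroup.r.injEq, ZMod.intCast_zmod_eq_zero_iff_dvd] at hx
    obtain ⟨t, rfl⟩ := hx
    have h : ((2 * n : ℕ) : ZMod (2 * n)) = 0 := ZMod.natCast_self _
    rcases Int.even_or_odd' t with ⟨s, rfl | rfl⟩
    · left; congr 1
      push_cast at h ⊢
      linear_combination (s : ZMod (2 * n)) * h
    · right; congr 1
      push_cast at h ⊢
      linear_combination (s : ZMod (2 * n)) * h


/-- For even `n ≥ 2` the dicyclic group of order `4 n` is a stem extension of the dihedral group of order `2 n` with kernel of order `2`: there is a surjective homomorphism `QuaternionGroup n →* DihedralGroup n` whose kernel is central, lies in the commutator subgroup and has two elements. Together with the order of the multiplier this exhibits the dicyclic group as a Schur covering group of the dihedral group. -/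
theorem result (n : ℕ) [NeZero n] (hn : Even n) : ∃ σ : QuaternionGroup n →* DihedralGroup n, Cfsg.IsStemExtension σ ∧ Nat.card σ.ker = 2 := by
  refine ⟨proj n, ?_, ?_⟩
  · refine ⟨proj_surjective n, ?_, ?_⟩
    · intro x hx
      rw [Subgroup.mem_center_iff]
      intro y
      rcases mem_ker_proj n x hx with rfl | rfl
      · simp
      · cases y with
        | a i => simp [add_comm]
        | xa i =>
          simp only [QuaternionGroup.xa_mul_a, QuaternionGroup.a_mul_xa]
          congr 1
          have h : ((2 * n : ℕ) : ZMod (2 * n)) = 0 := ZMod.natCast_self _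
          push_cast at h
          linear_combination h
    · intro x hx
      rcases mem_ker_proj n x hx with rfl | rfl
      · exact one_mem _
      · obtain ⟨k, hk⟩ := hn
        have h : ⁅(QuaternionGroup.xa 0 : QuaternionGroup n), QuaternionGroup.a (k : ZMod (2 * n))⁆ =
            QuaternionGroup.a (n : ZMod (2 * n)) := by
          rw [commutatorElement_def, mul_assoc _ _ (QuaternionGroup.a (k : ZMod (2 * n)))⁻¹,
            ← mul_inv_rev, mul_inv_eq_iff_eq_mul]
          simp only [QuaternionGroup.xa_mul_a, QuaternionGroup.a_mul_xa, zero_add, zero_sub]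
          congr 1
          have h : ((2 * n : ℕ) : ZMod (2 * n)) = 0 := ZMod.natCast_self _
          push_cast at h
          have hk' : (n : ZMod (2 * n)) = k + k := by rw [← Nat.cast_add, ← hk]
          linear_combination h - hk'
        rw [← h]
        exact Subgroup.commutator_mem_commutator (Subgroup.mem_top _) (Subgroup.mem_top _)
  · have h := Subgroup.card_mul_index (proj n).ker
    rw [Subgroup.index_ker, MonoidHom.range_eq_top.2 (proj_surjective n), Subgroup.card_top,
      DihedralGroup.nat_card, Nat.card_eq_fintype_card (α := QuaternionGroup n), QuaternionGroup.card] at h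
    have h2 : Nat.card (proj n).ker * (2 * n) = 2 * (2 * n) := by rw [h]; ring
    exact Nat.eq_of_mul_eq_mul_right (by have := NeZero.pos n; omega) h2

end Cfsg.Agent.S3966
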