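import Cfsg.Statements.S3965
import Cfsg.Agent.Lib.Struct.SchurExamples
import Cfsg.Agent.S3966

set_option autoImplicit false
open Cfsg
open Cfsg.Agent.Struct Cfsg.Agent.Struct.Schur
open scoped commutatorElement

namespace Cfsg.Agent.S3965

theorem dih_zpow {n : ℕ} (k : ℤ) :
    (DihedralGroup.r (1 : ZMod n)) ^ k = DihedralGroup.r (k : ZMod n) := DihedralGroup.r_one_zpow k

theorem dih_hgen {n : ℕ} (q : DihedralGroup n) :
    ∃ i : ℤ, ∃ j : ℤ, q = DihedralGroup.r 1 ^ i * DihedralGroup.sr 0 ^ j := by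
  cases q with
  | r i => obtain ⟨k, rfl⟩ := ZMod.intCast_surjective i; exact ⟨k, 0, by simp [dih_zpow]⟩
  | sr i =>
    obtain ⟨k, rfl⟩ := ZMod.intCast_surjective i
    exact ⟨-k, 1, by rw [dih_zpow, zpow_one, DihedralGroup.r_mul_sr]; congr 1; simp⟩

theorem dih_kernel {n : ℕ} (Γ : Type*) [Group Γ] (σ : Γ →* DihedralGroup n) (hσ : Cfsg.IsStemExtension σ) :
    ∃ c : Γ, c ^ n = 1 ∧ (∀ j : ℤ, (n : ℤ) ∣ 2 * j → c ^ j ∈ σ.ker) ∧
      ∀ g ∈ σ.ker, ∃ j : ℤ, (n : ℤ) ∣ 2 * j ∧ c ^ j = g := by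
  obtain ⟨A, hA⟩ := hσ.1 (DihedralGroup.r 1)
  obtain ⟨X, hX⟩ := hσ.1 (DihedralGroup.sr 0)
  have hcomm : Commute X (A ^ n) := by
    have h : A ^ n ∈ σ.ker := by rw [MonoidHom.mem_ker, map_pow, hA, DihedralGroup.r_one_pow_n]
    exact (commute_of_mem_center (hσ.2.1 h) X).symm
  obtain ⟨c, hle, hpow, hn⟩ := invert_pair σ hσ.2.1 A X
    (by
      simp only [map_mul, map_inv, hA, hX]
      rw [DihedralGroup.inv_sr, DihedralGroup.sr_mul_r, DihedralGroup.sr_mul_sr, DihedralGroup.r_mul_r,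
        DihedralGroup.one_def]
      congr 1
      ring)
    (fun g => by
      obtain ⟨i, j, h⟩ := dih_hgen (σ g)
      exact ⟨i, j, by rw [h, map_mul, map_zpow, map_zpow, hA, hX]⟩) n hcomm
  have hiff : ∀ j : ℤ, c ^ j ∈ σ.ker ↔ (n : ℤ) ∣ 2 * j := by
    intro j
    rw [MonoidHom.mem_ker, hpow, hA, dih_zpow, DihedralGroup.one_def, DihedralGroup.r.injEq,
      ZMod.intCast_zmod_eq_zero_iff_dvd, neg_mul, dvd_neg]
  refine ⟨c, hn, fun j hj => (hiff j).2 hj, fun g hg => ?_⟩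
  obtain ⟨j, rfl⟩ := Subgroup.mem_zpowers_iff.1 (hle (hσ.2.2 hg))
  exact ⟨j, (hiff j).1 hg, rfl⟩


/-- For even `n ≥ 2` the dihedral group of order `2 n` has Schur multiplier cyclic of order `2`. -/
theorem result (n : ℕ) [NeZero n] (hn : Even n) : Cfsg.HasCyclicSchurMultiplier (DihedralGroup n) 2 := by
  have : NeZero 2 := ⟨two_ne_zero⟩
  obtain ⟨σ₀, hσ₀, hc₀⟩ := Cfsg.Agent.S3966.result n hn
  refine hasCyclic_of_bound _ (fun Γ _ _ σ hσ => ?_) _ σ₀ hσ₀ hc₀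
  obtain ⟨c, hcn, hmem, hker⟩ := dih_kernel Γ σ hσ
  obtain ⟨m, hm⟩ := hn
  subst hm
  refine ⟨c ^ (m : ℤ), hmem m (by push_cast; exact ⟨1, by ring⟩), ?_, fun g hg => ?_⟩
  · rw [← zpow_natCast, ← zpow_mul, ← hcn, ← zpow_natCast]
    push_cast
    ring_nf
  · obtain ⟨j, hj, rfl⟩ := hker g hg
    push_cast at hj
    obtain ⟨t, ht⟩ := hj
    exact ⟨t, by simp only [← zpow_mul]; congr 1; linarith⟩

end Cfsg.Agent.S3965
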