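import Cfsg.Statements.S3969
import Cfsg.Agent.Lib.Solv.NormalPComplement

set_option autoImplicit false
open Cfsg
open Subgroup MulAction

namespace Cfsg.Agent.S3969

/-- Let `P` be an abelian Sylow `p`-subgroup of the finite group `G`, generated by `d` elements (`d` its minimal number of generators). If the order of `G` is coprime to `(p - 1)(p ^ 2 - 1) ⋯ (p ^ d - 1)`, then `G` has a normal `p`-complement. (The classical statement needs only the largest number of cyclic factors of `P` of equal order in place of `d`; the form here follows from it.) -/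
theorem result {G : Type*} [Group G] [Finite G] (p : ℕ) [Fact p.Prime] (P : Sylow p G) (hab : IsMulCommutative (P : Subgroup G)) (hcop : Nat.Coprime (Nat.card G) (∏ i ∈ Finset.Icc 1 (Group.rank (P : Subgroup G)), (p ^ i - 1))) : Cfsg.HasNormalPComplement p G := by
  classical
  have hp := (inferInstance : Fact p.Prime).out
  refine Cfsg.Agent.Solv.hasNormalPComplement_of_burnside P ?_
  intro g hg
  by_contra hgC
  let C := centralizer ((P : Subgroup G) : Set G)
  have hPC : (P : Subgroup G) ≤ C := fun x hx y hy => congrArg Subtype.val (mul_comm' (⟨y, hy⟩ : (P : Subgroup G)) ⟨x, hx⟩)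
  have hex : ∃ k, 0 < k ∧ g ^ k ∈ C := ⟨orderOf g, orderOf_pos g, by rw [pow_orderOf_eq_one]; exact one_mem C⟩
  obtain ⟨hk0, hkC⟩ := Nat.find_spec hex
  obtain ⟨k, hk⟩ : ∃ k, k = Nat.find hex := ⟨_, rfl⟩
  rw [← hk] at hk0 hkC
  have hk1 : k ≠ 1 := fun e => hgC (by have h := hkC; rw [e, pow_one] at h; exact h)
  obtain ⟨r, hr, k', hk'⟩ := Nat.exists_prime_and_dvd hk1
  haveI := Fact.mk hr
  obtain ⟨g', hg'⟩ : ∃ g', g' = g ^ k' := ⟨_, rfl⟩
  have hg'N : g' ∈ normalizer ((P : Subgroup G) : Set G) := hg' ▸ pow_mem hg k'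
  have hg'r : g' ^ r ∈ C := by rw [hg', ← pow_mul, mul_comm, ← hk']; exact hkC
  have hg'C : g' ∉ C := by
    intro hmem
    have hk'0 : 0 < k' := Nat.pos_of_ne_zero fun e => by rw [e, mul_zero] at hk'; omega
    have : k ≤ k' := hk ▸ Nat.find_le ⟨hk'0, hg' ▸ hmem⟩
    have := hr.two_le
    nlinarith
  have hrp : r ≠ p := by
    rintro rfl
    obtain ⟨a, b, hb, hab⟩ := Nat.exists_eq_pow_mul_and_not_dvd (orderOf_pos g').ne' r hr.ne_one
    have hbo : orderOf (g' ^ b) = r ^ a := by
      rw [orderOf_pow_of_dvd (fun e => hb (by rw [e]; exact dvd_zero r)) (hab ▸ dvd_mul_left b _), hab,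
        Nat.mul_div_cancel _ (Nat.pos_of_ne_zero fun e => hb (by rw [e]; exact dvd_zero r))]
    have hz : IsPGroup r (zpowers (g' ^ b)) := IsPGroup.of_card (by rw [Nat.card_zpowers, hbo])
    have hsup : IsPGroup r ((P : Subgroup G) ⊔ zpowers (g' ^ b) : Subgroup G) :=
      IsPGroup.to_sup_of_normal_left' P.isPGroup' hz (zpowers_le.2 (pow_mem hg'N b))
    have hbC : g' ^ b ∈ C := hPC (by
      rw [← P.is_maximal' hsup le_sup_left]
      exact mem_sup_right (mem_zpowers _))
    have hcop : Nat.Coprime r b := hr.coprime_iff_not_dvd.2 hb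
    obtain ⟨u, v, huv⟩ := (Int.isCoprime_iff_gcd_eq_one.2 (by simpa [Int.gcd_natCast_natCast] using hcop) :
      IsCoprime (r : ℤ) (b : ℤ))
    refine hg'C ?_
    have : g' = (g' ^ r) ^ u * (g' ^ b) ^ v := by
      rw [← zpow_natCast g' r, ← zpow_natCast g' b, ← zpow_mul, ← zpow_mul, ← zpow_add,
        mul_comm (r : ℤ), mul_comm (b : ℤ), huv, zpow_one]
    rw [this]
    exact mul_mem (zpow_mem hg'r u) (zpow_mem hbC v)
  -- the elements of order dividing `p`
  letI : CommGroup (P : Subgroup G) := { (inferInstance : Group (P : Subgroup G)) with mul_comm := mul_comm' }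
  let f : (P : Subgroup G) →* (P : Subgroup G) := powMonoidHom p
  let Ω := f.ker
  have hΩrank : Nat.card Ω ∣ p ^ Group.rank (P : Subgroup G) := by
    have h1 : Nat.card Ω = f.range.index := by
      have e1 := f.range.card_mul_index
      have e2 := Ω.card_mul_index
      rw [Subgroup.index_ker] at e2
      rw [← e2, mul_comm (Nat.card Ω)] at e1
      exact (Nat.eq_of_mul_eq_mul_left Nat.card_pos e1).symm
    rw [h1, Subgroup.index_eq_card]
    refine (card_dvd_exponent_pow_rank' ((P : Subgroup G) ⧸ f.range) (n := p) ?_).trans (pow_dvd_pow p ?_)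
    · intro q
      induction q using QuotientGroup.induction_on with
      | _ x =>
        rw [← QuotientGroup.mk_pow, QuotientGroup.eq_one_iff]
        exact ⟨x, rfl⟩
    · exact Group.rank_le_of_surjective (QuotientGroup.mk' f.range) (QuotientGroup.mk'_surjective _)
  obtain ⟨e, he, hΩe⟩ := (Nat.dvd_prime_pow hp).1 hΩrank
  -- conjugation by `g'`
  have hconj : ∀ x ∈ (P : Subgroup G), g' * x * g'⁻¹ ∈ (P : Subgroup G) := fun x hx =>
    (mem_normalizer_iff.1 hg'N x).1 hx
  let c : (P : Subgroup G) →* (P : Subgroup G) :=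
    { toFun := fun x => ⟨g' * x * g'⁻¹, hconj x x.2⟩
      map_one' := Subtype.ext (by simp)
      map_mul' := fun x y => Subtype.ext (by simp [mul_assoc]) }
  have hcr : ∀ x : (P : Subgroup G), c^[r] x = x := by
    intro x
    have : ∀ i : ℕ, ((c^[i] x : (P : Subgroup G)) : G) = g' ^ i * x * (g' ^ i)⁻¹ := by
      intro i
      induction i with
      | zero => simp
      | succ i ih =>
        rw [Function.iterate_succ_apply']
        show g' * ((c^[i] x : (P : Subgroup G)) : G) * g'⁻¹ = _
        rw [ih, pow_succ']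
        group
    refine Subtype.ext ?_
    rw [this, ← hg'r x x.2, mul_inv_cancel_right]
  have hnontriv : ∃ x ∈ Ω, c x ≠ x := by
    by_contra hcon
    push Not at hcon
    refine hg'C ?_
    suffices h : ∀ k, ∀ x : (P : Subgroup G), x ^ p ^ k = 1 → c x = x by
      intro x hx
      obtain ⟨k, hk⟩ := IsPGroup.iff_orderOf.1 P.isPGroup' ⟨x, hx⟩
      have h2 : g' * x * g'⁻¹ = x := congrArg Subtype.val (h k ⟨x, hx⟩ (by rw [← hk, pow_orderOf_eq_one]))
      exact (mul_inv_eq_iff_eq_mul.1 h2).symm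
    intro k
    induction k with
    | zero => intro x hx; rw [pow_zero, pow_one] at hx; rw [hx, map_one]
    | succ k ih =>
      intro x hx
      obtain ⟨y, hy⟩ : ∃ y, c x = x * y := ⟨x⁻¹ * c x, by rw [mul_inv_cancel_left]⟩
      have hyΩ : y ∈ Ω := by
        show y ^ p = 1
        have h1 := ih (x ^ p) (by rw [← pow_mul, ← pow_succ', hx])
        rwa [map_pow, hy, mul_pow, mul_eq_left] at h1
      have hiter : ∀ i : ℕ, c^[i] x = x * y ^ i := by
        intro i
        induction i with
        | zero => simp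
        | succ i ih2 =>
          rw [Function.iterate_succ_apply', ih2, map_mul, map_pow, hcon y hyΩ, hy, mul_assoc, ← pow_succ']
      have h2 := hiter r
      rw [hcr, left_eq_mul] at h2
      have hy1 : y = 1 := by
        have h3 : y ^ p = 1 := hyΩ
        have := pow_gcd_eq_one.2 ⟨h2, h3⟩
        rwa [(Nat.coprime_primes hr hp).2 hrp, pow_one] at this
      rw [hy, hy1, mul_one]
  -- count fixed points
  have hcΩ : ∀ x : Ω, c x ∈ Ω := fun x => by
    show (c x) ^ p = 1
    rw [← map_pow, show (x : (P : Subgroup G)) ^ p = 1 from x.2, map_one]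
  let σ : Ω → Ω := fun x => ⟨c x, hcΩ x⟩
  have hσr : ∀ x, σ^[r] x = x := by
    intro x
    have : ∀ i : ℕ, ((σ^[i] x : Ω) : (P : Subgroup G)) = c^[i] x := by
      intro i
      induction i with
      | zero => rfl
      | succ i ih => rw [Function.iterate_succ_apply', Function.iterate_succ_apply', ← ih]
    exact Subtype.ext (by rw [this, hcr])
  let σe : Equiv.Perm Ω := ⟨σ, σ^[r - 1],
    fun x => (Function.iterate_succ_apply σ (r - 1) x).symm.trans (by rw [show (r - 1).succ = r by have := hr.pos; omega]; exact hσr x),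
    fun x => (Function.iterate_succ_apply' σ (r - 1) x).symm.trans (by rw [show (r - 1).succ = r by have := hr.pos; omega]; exact hσr x)⟩
  have hσe : σe ^ r = 1 := by
    refine Equiv.ext fun x => ?_
    rw [Equiv.Perm.coe_pow]
    exact hσr x
  let Z := zpowers σe
  have hZ : IsPGroup r Z := by
    rcases (Nat.dvd_prime hr).1 (orderOf_dvd_of_pow_eq_one hσe) with h | h
    · exact IsPGroup.of_card (n := 0) (by rw [Nat.card_zpowers, h, pow_zero])
    · exact IsPGroup.of_card (n := 1) (by rw [Nat.card_zpowers, h, pow_one])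
  have hmod := hZ.card_modEq_card_fixedPoints (α := Ω)
  let F : Subgroup Ω := (c.comp Ω.subtype).eqLocus Ω.subtype
  have hF : Nat.card (fixedPoints Z Ω) = Nat.card F := by
    refine Nat.card_congr (Equiv.subtypeEquivRight fun x => ⟨fun h => congrArg Subtype.val (h ⟨σe, mem_zpowers σe⟩), fun h => ?_⟩)
    rintro ⟨u, hu⟩
    obtain ⟨i, rfl⟩ := mem_zpowers_iff.1 hu
    exact Equiv.Perm.zpow_apply_eq_self_of_apply_eq_self (show σe x = x from Subtype.ext h) i
  obtain ⟨x, hxΩ, hx⟩ := hnontriv
  obtain ⟨fc, hfe, hFc⟩ := (Nat.dvd_prime_pow hp).1 (hΩe ▸ F.card_subgroup_dvd_card)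
  have hlt : fc < e := lt_of_le_of_ne hfe fun he2 => hx (by
    have hF' : F = ⊤ := Subgroup.eq_top_of_card_eq F (by rw [hFc, hΩe, he2])
    exact (hF' ▸ Subgroup.mem_top (⟨x, hxΩ⟩ : Ω) : (⟨x, hxΩ⟩ : Ω) ∈ F))
  rw [hF, hFc, hΩe] at hmod
  have hdvd : r ∣ p ^ (e - fc) - 1 := by
    have h1 := (Nat.modEq_iff_dvd' (Nat.pow_le_pow_right hp.pos hfe)).1 hmod.symm
    rw [show p ^ e - p ^ fc = p ^ fc * (p ^ (e - fc) - 1) by
      rw [Nat.mul_sub, mul_one, ← pow_add, Nat.add_sub_cancel' hfe]] at h1
    exact ((Nat.coprime_primes hr hp).2 hrp |>.pow_right fc).dvd_of_dvd_mul_left h1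
  have h2 : r ∣ Nat.card G := by
    have ho : orderOf g' ∣ Nat.card G := orderOf_dvd_natCard g'
    refine dvd_trans ?_ ho
    by_contra hnd
    obtain ⟨i, hi⟩ := exists_pow_eq_self_of_coprime ((hr.coprime_iff_not_dvd).2 hnd)
    exact hg'C (hi ▸ pow_mem hg'r i)
  exact hr.one_lt.ne' (Nat.eq_one_of_dvd_coprimes hcop h2
    (hdvd.trans (Finset.dvd_prod_of_mem (fun i => p ^ i - 1)
      (Finset.mem_Icc.2 ⟨by omega, by omega⟩))))

end Cfsg.Agent.S3969
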