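import Cfsg.Statements.S3970
import Cfsg.Agent.S3969
import Mathlib

set_option autoImplicit false
open Cfsg

namespace Cfsg.Agent.S3970

open Subgroup

universe u

theorem aux (n : ℕ) : ∀ (G : Type u) [Group G] [Finite G], Nat.card G = n →
    (∀ p : ℕ, p.Prime → p ∣ Nat.card G → (∃ q : ℕ, q.Prime ∧ q ∣ Nat.card G ∧ p < q) → ∀ P : Sylow p G,
      IsMulCommutative (P : Subgroup G) ∧ Group.rank (P : Subgroup G) ≤ 2) →
    ¬ 12 ∣ Nat.card G → Group.IsSolvable G := by
  induction n using Nat.strong_induction_on with
  | _ n ih =>
  intro G _ _ hn h h12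
  classical
  by_cases h1 : Nat.card G = 1
  · haveI : Subsingleton G := (Nat.card_eq_one_iff_unique.1 h1).1
    infer_instance
  set p := (Nat.card G).minFac with hpdef
  have hp : p.Prime := Nat.minFac_prime h1
  haveI := Fact.mk hp
  have hpd : p ∣ Nat.card G := Nat.minFac_dvd _
  obtain ⟨P⟩ : Nonempty (Sylow p G) := inferInstance
  by_cases hall : ∀ q : ℕ, q.Prime → q ∣ Nat.card G → q = p
  · have hG : IsPGroup p G := by
      exact IsPGroup.of_card (Nat.eq_prime_pow_of_unique_prime_dvd Nat.card_pos.ne' fun {d} hd hdd => hall d hd hdd)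
    haveI := hG.isNilpotent
    infer_instance
  push Not at hall
  obtain ⟨q, hq, hqd, hqp⟩ := hall
  obtain ⟨hab, hrank⟩ := h p hp hpd ⟨q, hq, hqd, lt_of_le_of_ne (Nat.minFac_le_of_dvd hq.two_le hqd) (Ne.symm hqp)⟩ P
  have hcop : Nat.Coprime (Nat.card G) (∏ i ∈ Finset.Icc 1 (Group.rank (P : Subgroup G)), (p ^ i - 1)) := by
    refine Nat.Coprime.prod_right fun i hi => ?_
    rw [Finset.mem_Icc] at hi
    refine Nat.coprime_of_dvd fun r hr hrG hri => ?_
    have hpr : p ≤ r := Nat.minFac_le_of_dvd hr.two_le hrG
    have hp2 := hp.two_le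
    obtain rfl | rfl : i = 1 ∨ i = 2 := by omega
    · rw [pow_one] at hri
      have := Nat.le_of_dvd (by omega) hri
      omega
    · have e : p ^ 2 - 1 = (p + 1) * (p - 1) := by simpa using Nat.sq_sub_sq p 1
      rw [e] at hri
      rcases hr.dvd_mul.1 hri with h' | h'
      · have hle := Nat.le_of_dvd (by omega) h'
        have hr1 : r = p + 1 := by
          rcases Nat.lt_or_ge r (p + 1) with hlt | hge
          · exfalso
            have : r = p := by omega
            rw [this] at h'
            exact hp.not_dvd_one ((Nat.dvd_add_right (dvd_refl p)).1 h')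
          · omega
        have hpe : p = 2 := by
          by_contra hne
          have ho := Nat.odd_iff.1 (hp.odd_of_ne_two hne)
          rcases hr.eq_two_or_odd with h2 | h2 <;> omega
        -- the Sylow `2`-subgroup has order two
        have hcardP : Nat.card (P : Subgroup G) = 2 := by
          obtain ⟨m, hm⟩ := IsPGroup.iff_card.1 P.isPGroup'
          have hd : p ∣ Nat.card (P : Subgroup G) := P.dvd_card_of_dvd_card hpd
          rw [hm, hpe] at hd ⊢
          rcases m with _ | _ | m
          · norm_num at hd
          · norm_num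
          · exfalso
            apply h12
            have h4 : 4 ∣ Nat.card G := by
              refine dvd_trans ?_ (Subgroup.card_subgroup_dvd_card (P : Subgroup G))
              rw [hm, hpe]
              exact ⟨2 ^ m, by ring⟩
            have h3 : 3 ∣ Nat.card G := by
              rw [hr1, hpe] at hrG; exact hrG
            exact Nat.Coprime.mul_dvd_of_dvd_of_dvd (by norm_num : Nat.Coprime 4 3) h4 h3
        haveI : Fact (Nat.Prime 2) := ⟨Nat.prime_two⟩
        haveI : IsCyclic (P : Subgroup G) := isCyclic_of_prime_card hcardP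
        obtain ⟨g, hg⟩ := IsCyclic.exists_generator (α := (P : Subgroup G))
        have hle1 : Group.rank (P : Subgroup G) ≤ 1 := by
          refine (Group.rank_le (S := {g}) ?_).trans (by simp)
          rw [Finset.coe_singleton, ← zpowers_eq_closure, eq_top_iff]
          exact fun x _ => hg x
        omega
      · have := Nat.le_of_dvd (by omega) h'
        omega
  obtain ⟨R, K, hK, hc⟩ := Cfsg.Agent.S3969.result p P hab hcop
  haveI := hK
  have hcard := hc.card_mul
  have hidx : K.index = Nat.card (R : Subgroup G) := hc.symm.index_eq_card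
  have hRp : 1 < Nat.card (R : Subgroup G) := lt_of_lt_of_le hp.one_lt
    (Nat.le_of_dvd Nat.card_pos (R.dvd_card_of_dvd_card hpd))
  have hKlt : Nat.card K < n := by
    rw [← hn, ← hcard]
    exact lt_mul_of_one_lt_right Nat.card_pos hRp
  have hKsol : Group.IsSolvable K := by
    refine ih _ hKlt K rfl ?_ (fun hd => h12 (hd.trans K.card_subgroup_dvd_card))
    intro r hr hrK ⟨s, hs, hsK, hrs⟩ Q
    haveI := Fact.mk hr
    have hne : r ≠ p := by
      rintro rfl
      refine R.not_dvd_index ?_
      rw [hc.index_eq_card]
      exact hrK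
    let e := (Q : Subgroup K).equivMapOfInjective K.subtype K.subtype_injective
    have hQc : Nat.card ((Q : Subgroup K).map K.subtype) = r ^ (Nat.card G).factorization r := by
      rw [← Nat.card_congr e.toEquiv, Q.card_eq_multiplicity, ← hcard,
        Nat.factorization_mul Nat.card_pos.ne' Nat.card_pos.ne', Finsupp.add_apply]
      congr 1
      obtain ⟨m, hm⟩ := IsPGroup.iff_card.1 R.isPGroup'
      rw [hm, hp.factorization_pow, Finsupp.single_eq_of_ne hne, add_zero]
    obtain ⟨ha, hb⟩ := h r hr (hrK.trans K.card_subgroup_dvd_card) ⟨s, hs, hsK.trans K.card_subgroup_dvd_card, hrs⟩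
      (Sylow.ofCard ((Q : Subgroup K).map K.subtype) hQc)
    rw [Sylow.coe_ofCard] at ha hb
    refine ⟨⟨⟨fun a b => e.injective ?_⟩⟩, ?_⟩
    · rw [map_mul, map_mul]
      exact mul_comm' _ _
    · exact (Group.rank_congr e).le.trans hb
  have hQsol : Group.IsSolvable (G ⧸ K) := by
    have : IsPGroup p (G ⧸ K) := by
      obtain ⟨m, hm⟩ := IsPGroup.iff_card.1 R.isPGroup'
      exact IsPGroup.of_card (n := m) (by rw [← Subgroup.index_eq_card, hidx, hm])
    haveI := this.isNilpotent
    infer_instance
  exact Group.isSolvable_of_ker_le_range K.subtype (QuotientGroup.mk' K)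
    (by rw [QuotientGroup.ker_mk', Subgroup.range_subtype])

/-- Let `G` be a finite group such that for every prime `p` dividing its order, other than the largest such prime, the Sylow `p`-subgroups are abelian and generated by at most two elements, and suppose `12` does not divide the order of `G`. Then `G` is solvable. In particular a group of cube-free order not divisible by `12` is solvable. -/
theorem result {G : Type*} [Group G] [Finite G] (h : ∀ p : ℕ, p.Prime → p ∣ Nat.card G → (∃ q : ℕ, q.Prime ∧ q ∣ Nat.card G ∧ p < q) → ∀ P : Sylow p G, IsMulCommutative (P : Subgroup G) ∧ Group.rank (P : Subgroup G) ≤ 2) (h12 : ¬ 12 ∣ Nat.card G) : Group.IsSolvable G := by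
  exact aux _ G rfl h h12

end Cfsg.Agent.S3970
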