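import Cfsg.Statements.S3971
import Cfsg.Agent.Lib.Solv.NormalPComplement
import Cfsg.Agent.Lib.Struct.CoprimeMinimal

set_option autoImplicit false
open Cfsg
open Subgroup Cfsg.Agent.Solv
open scoped Pointwise

namespace Cfsg.Agent.S3971

/-- Let `G` be a finite group of order `2 ^ a * n` with `n` odd and not divisible by `3`, and suppose `G` has an element of order `2 ^ (a - 1)` (so a Sylow `2`-subgroup has a cyclic subgroup of index at most `2`). Then `G` has a normal subgroup of order `n`. -/
theorem result {G : Type*} [Group G] [Finite G] (a n : ℕ) (hG : Nat.card G = 2 ^ a * n) (hn : Odd n) (h3 : ¬ 3 ∣ n) (hx : ∃ x : G, orderOf x = 2 ^ (a - 1)) : ∃ N : Subgroup G, N.Normal ∧ Nat.card N = n := by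
  classical
  haveI : Fact (Nat.Prime 2) := ⟨Nat.prime_two⟩
  obtain ⟨x, hx⟩ := hx
  have hn2 : ¬ 2 ∣ n := hn.not_two_dvd_nat
  have h3G : ¬ 3 ∣ Nat.card G := by
    rw [hG, Nat.prime_three.dvd_mul]
    rintro (h | h)
    · exact absurd (Nat.prime_three.dvd_of_dvd_pow h) (by decide)
    · exact h3 h
  have hn0 : n ≠ 0 := by rintro rfl; exact h3 (dvd_zero 3)
  have hfac : (Nat.card G).factorization 2 = a := by
    rw [hG, Nat.factorization_mul (pow_ne_zero _ two_ne_zero) hn0, Finsupp.add_apply,
      Nat.factorization_eq_zero_of_not_dvd hn2, Nat.prime_two.factorization_pow,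
      Finsupp.single_eq_same, add_zero]
  -- every 2-subgroup has Frattini quotient of order at most 4
  have hsmall : ∀ Q : Subgroup G, IsPGroup 2 Q → Nat.card (Q ⧸ frattini Q) ≤ 4 := by
    intro Q hQ
    obtain ⟨P, hQP⟩ := hQ.exists_le_sylow
    obtain ⟨P₀, hxP⟩ := (IsPGroup.of_card (p := 2) (n := a - 1) (G := zpowers x)
      (by rw [Nat.card_zpowers, hx])).exists_le_sylow
    obtain ⟨g, hg⟩ := MulAction.exists_smul_eq G P₀ P
    set y := g * x * g⁻¹
    have hyP : zpowers y ≤ (P : Subgroup G) := by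
      rw [zpowers_le, ← hg]
      show y ∈ MulAut.conj g • (P₀ : Subgroup G)
      rw [mem_conj_smul]
      simpa [y, mul_assoc] using hxP (mem_zpowers x)
    have hy : orderOf y = 2 ^ (a - 1) := by
      rw [← hx]
      exact MulEquiv.orderOf_eq (MulAut.conj g) x
    have hidx : (zpowers y).relIndex (P : Subgroup G) ≤ 2 := by
      have h1 := ((zpowers y).subgroupOf (P : Subgroup G)).card_mul_index
      rw [card_subgroupOf hyP, Nat.card_zpowers, hy, Sylow.card_eq_multiplicity, hfac] at h1
      refine Nat.le_of_mul_le_mul_left (h1.trans_le ?_) (pow_pos two_pos (a - 1))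
      rw [← pow_succ]
      exact Nat.pow_le_pow_right two_pos (by omega)
    set C := (zpowers y).subgroupOf Q with hC
    have hCi : C.index ≤ 2 := le_trans (relIndex_le_of_le_right hQP
      index_ne_zero_of_finite) hidx
    haveI : IsCyclic C := by
      exact isCyclic_of_injective
        (MonoidHom.codRestrict ((Q.subtype).comp C.subtype) (zpowers y) (fun u => u.2))
        (fun u v h => Subtype.ext (Subtype.ext (congrArg Subtype.val h :)))
    obtain ⟨c, hc⟩ := IsCyclic.exists_generator (α := C)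
    set f := QuotientGroup.mk' (frattini Q) with hf
    have hle : C.map f ≤ zpowers (f c) := by
      rintro _ ⟨u, hu, rfl⟩
      obtain ⟨i, hi⟩ := hc ⟨u, hu⟩
      exact ⟨i, by rw [show u = ((c : Q)) ^ i from (congrArg Subtype.val hi).symm, map_zpow]⟩
    have hc2 : orderOf (f c) ≤ 2 := Nat.le_of_dvd two_pos (orderOf_dvd_of_pow_eq_one (by
      rw [← map_pow, hf, QuotientGroup.mk'_apply, QuotientGroup.eq_one_iff]
      exact Cfsg.Agent.Struct.CoprimeMinimal.pow_mem_frattini hQ _))
    calc Nat.card (Q ⧸ frattini Q) = Nat.card (C.map f) * (C.map f).index := (card_mul_index _).symm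
      _ ≤ 2 * 2 := Nat.mul_le_mul
          ((card_le_of_le hle).trans ((Nat.card_zpowers _).trans_le hc2))
          ((Nat.le_of_dvd (Nat.pos_of_ne_zero index_ne_zero_of_finite)
            (index_map_dvd C (QuotientGroup.mk'_surjective _))).trans hCi)
  have hF : FrobeniusCond 2 G := by
    intro Q hQ g hg hgc
    have hA : zpowers g ≤ normalizer (Q : Set G) := zpowers_le.2 hg
    refine (centralizes_of_trivial_on_frattini_quotient (zpowers g) Q hA ?_ ?_) (mem_zpowers g)
    · obtain ⟨e, he⟩ := IsPGroup.iff_card.1 (hQ.to_subgroup (frattini Q))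
      rw [Nat.card_zpowers, he]
      exact hgc.pow_right e
    intro b hb k hk
    let φ := conjHom (zpowers g) Q hA
    let ψ : MulAut (Q ⧸ frattini Q) := QuotientGroup.congr (frattini Q) (frattini Q)
      (φ ⟨b, hb⟩) (characteristic_iff_map_eq.1 inferInstance _)
    have hψ : ∀ (n : ℕ) (u : Q), (ψ ^ n) (QuotientGroup.mk u) = QuotientGroup.mk ((φ ⟨b, hb⟩ ^ n) u) := by
      intro n
      induction n with
      | zero => intro u; rfl
      | succ n ih =>
        intro u
        rw [pow_succ', pow_succ', MulAut.mul_apply, MulAut.mul_apply, ih]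
        rfl
    have hψ1 : ψ = 1 := by
      have h1 : ψ ^ orderOf b = 1 := by
        refine MulEquiv.ext fun q => QuotientGroup.induction_on q fun u => ?_
        rw [hψ, ← map_pow, show (⟨b, hb⟩ : zpowers g) ^ orderOf b = 1 from
          Subtype.ext (pow_orderOf_eq_one b), map_one]
        rfl
      haveI := Fintype.ofFinite (Q ⧸ frattini Q)
      have h24 : orderOf ψ ∣ 24 := by
        have h2 : orderOf ψ ∣ Nat.card (Equiv.Perm (Q ⧸ frattini Q)) := by
          rw [← orderOf_injective (MulAut.toPerm (Q ⧸ frattini Q)) (fun e₁ e₂ h => MulEquiv.ext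
            fun q => Equiv.ext_iff.1 h q) ψ]
          exact orderOf_dvd_natCard _
        rw [Nat.card_perm] at h2
        exact h2.trans ((Nat.factorial_dvd_factorial (hsmall Q hQ)).trans (by decide))
      have hb2 : (orderOf b).Coprime 24 := by
        have hbg : orderOf b ∣ orderOf g := by
          rw [← Nat.card_zpowers g, ← Subgroup.orderOf_mk b hb]
          exact orderOf_dvd_natCard _
        have h3' : (orderOf b).Coprime 3 := (Nat.prime_three.coprime_iff_not_dvd.2 fun h =>
          h3G (h.trans (orderOf_dvd_natCard b))).symm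
        have h2' : (orderOf b).Coprime 2 := hgc.coprime_dvd_left hbg
        exact (h2'.pow_right 3).mul_right h3'
      exact orderOf_eq_one_iff.1 (Nat.eq_one_of_dvd_coprimes hb2
        (orderOf_dvd_of_pow_eq_one h1) h24)
    refine ⟨φ ⟨b, hb⟩ ⟨k, hk⟩ * (⟨k, hk⟩ : Q)⁻¹, ?_, rfl⟩
    have h4 := hψ 1 ⟨k, hk⟩
    rw [pow_one, pow_one, hψ1, MulAut.one_apply] at h4
    rw [SetLike.mem_coe, ← QuotientGroup.eq_one_iff, QuotientGroup.mk_mul, QuotientGroup.mk_inv,
      ← h4, mul_inv_cancel]
  obtain ⟨e, he⟩ := hasNormalPComplement_iff_index.1 hF.hasNormalPComplement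
  refine ⟨Cfsg.pPrimeCore 2 G, inferInstance, ?_⟩
  have h1 := (Cfsg.pPrimeCore 2 G).card_mul_index
  rw [he, hG] at h1
  refine Nat.dvd_antisymm ?_ ?_
  · exact ((card_pPrimeCore_coprime 2 G).pow_right a).dvd_of_dvd_mul_left (Dvd.intro _ h1)
  · exact ((Nat.prime_two.coprime_iff_not_dvd.2 hn2).symm.pow_right e).dvd_of_dvd_mul_right
      (Dvd.intro_left _ h1.symm)

end Cfsg.Agent.S3971
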