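import Cfsg.Statements.S3972
import Cfsg.Agent.Lib.Perm.CyclicPrimePower

set_option autoImplicit false
open Cfsg

namespace Cfsg.Agent.S3972

/-- Let `p` be a prime, `m ≥ 2`, and `G` a transitive but not doubly transitive permutation group on `p ^ m` points containing a permutation of order `p ^ m` (necessarily a full cycle). Then `G` is imprimitive, and the normal closure in `G` of the `p ^ (m - 1)`-th power of that permutation is an intransitive normal subgroup. -/
theorem result {Ω : Type*} [Fintype Ω] [DecidableEq Ω] (p m : ℕ) (hp : p.Prime) (hm : 2 ≤ m) (hΩ : Fintype.card Ω = p ^ m) (G : Subgroup (Equiv.Perm Ω)) (htr : MulAction.IsPretransitive G Ω) (h2 : ¬ MulAction.IsMultiplyPretransitive G Ω 2) (g : G) (hg : orderOf g = p ^ m) : ¬ MulAction.IsPreprimitive G Ω ∧ ¬ MulAction.IsPretransitive (Subgroup.normalClosure ({g ^ (p ^ (m - 1))} : Set G)) Ω := by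
  classical
  haveI := Fact.mk hp
  haveI : NeZero (p ^ m) := ⟨pow_ne_zero _ hp.ne_zero⟩
  -- a point with a full cycle
  have hlt : p ^ (m - 1) < p ^ m := Nat.pow_lt_pow_right hp.one_lt (by omega)
  have hne1 : g ^ (p ^ (m - 1)) ≠ 1 :=
    pow_ne_one_of_lt_orderOf (pow_ne_zero _ hp.ne_zero) (by rw [hg]; exact hlt)
  obtain ⟨ω, hω⟩ : ∃ ω : Ω, (g ^ (p ^ (m - 1)) : Equiv.Perm Ω) ω ≠ ω := by
    by_contra h
    push Not at h
    exact hne1 (Subtype.ext (Equiv.ext fun x => by simpa using h x))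
  have hper : Function.minimalPeriod (fun x => g • x) ω = (p ^ m) := by
    have h1 : Function.minimalPeriod (fun x => g • x) ω ∣ p ^ m :=
      MulAction.pow_smul_eq_iff_minimalPeriod_dvd.mp (by rw [← hg, pow_orderOf_eq_one, one_smul])
    obtain ⟨i, hi, e⟩ := (Nat.dvd_prime_pow hp).mp h1
    rw [e]
    rcases eq_or_lt_of_le hi with rfl | hi'
    · rfl
    · exact absurd ((MulAction.pow_smul_eq_iff_minimalPeriod_dvd (n := p ^ (m - 1))).mpr
        (by rw [e]; exact pow_dvd_pow p (by omega))) hω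
  let f : ZMod (p ^ m) → Ω := fun i => ((g ^ i.val : G) : Equiv.Perm Ω) ω
  have hf : Function.Bijective f := by
    refine (Fintype.bijective_iff_injective_and_card f).mpr ⟨fun i j h => ?_, by rw [ZMod.card, hΩ]⟩
    refine ZMod.val_injective (p ^ m) (Function.iterate_injOn_Iio_minimalPeriod (f := fun x => g • x) (x := ω)
      (by rw [hper]; exact ZMod.val_lt i) (by rw [hper]; exact ZMod.val_lt j) ?_)
    simp only [smul_iterate_apply]
    exact h
  let e : ZMod (p ^ m) ≃ Ω := Equiv.ofBijective f hf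
  have hgn : g ^ (p ^ m) = 1 := by rw [← hg, pow_orderOf_eq_one]
  have hfadd : ∀ (k : ℕ) (i : ZMod (p ^ m)), ((g ^ k : G) : Equiv.Perm Ω) (e i) = e (i + k) := by
    intro k i
    show ((g ^ k : G) : Equiv.Perm Ω) (((g ^ i.val : G) : Equiv.Perm Ω) ω) = ((g ^ (i + k).val : G) : Equiv.Perm Ω) ω
    rw [← Equiv.Perm.mul_apply, ← Subgroup.coe_mul, ← pow_add]
    congr 2
    refine (pow_eq_pow_iff_modEq).mpr ?_
    rw [hg, ← ZMod.natCast_eq_natCast_iff, Nat.cast_add, ZMod.natCast_zmod_val, ZMod.natCast_zmod_val, add_comm]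
  let G' : Subgroup (Equiv.Perm (ZMod (p ^ m))) := G.map e.symm.permCongrHom.toMonoidHom
  have hmem : ∀ σ : Equiv.Perm (ZMod (p ^ m)), σ ∈ G' ↔ ∃ s ∈ G, ∀ i, e (σ i) = s (e i) := by
    intro σ
    constructor
    · rintro ⟨s, hs, rfl⟩
      exact ⟨s, hs, fun i => by simp [Equiv.permCongrHom, Equiv.permCongr_apply]⟩
    · rintro ⟨s, hs, h⟩
      exact ⟨s, hs, Equiv.ext fun i => by
        rw [← e.apply_eq_iff_eq, h]; simp [Equiv.permCongrHom, Equiv.permCongr_apply]⟩
  have hT : ∀ c : ZMod (p ^ m), Equiv.addRight c ∈ G' := fun c => (hmem _).mpr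
    ⟨((g ^ c.val : G) : Equiv.Perm Ω), (g ^ c.val : G).2, fun i => by
      rw [hfadd, ZMod.natCast_zmod_val]; rfl⟩
  obtain ⟨H, hH, hH0, hH1⟩ : ∃ H : AddSubgroup (ZMod (p ^ m)), Cfsg.Agent.CyclicPrimePower.Inv G' (H : Set (ZMod (p ^ m))) ∧
      H ≠ ⊥ ∧ H ≠ ⊤ := by
    by_contra hno
    push Not at hno
    have hs : ∀ x, x ≠ 0 → x ∈ Cfsg.Agent.CyclicPrimePower.orb G' 1 := fun x hx =>
      Cfsg.Agent.CyclicPrimePower.schur hm hT (fun H hH => or_iff_not_imp_left.mpr (hno H hH)) x hx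
    refine h2 (MulAction.is_two_pretransitive_iff.mpr fun {a b c d} hab hcd => ?_)
    obtain ⟨x, rfl⟩ := e.surjective a
    obtain ⟨y, rfl⟩ := e.surjective b
    obtain ⟨z, rfl⟩ := e.surjective c
    obtain ⟨w, rfl⟩ := e.surjective d
    obtain ⟨σ, hσ, h0, h1⟩ := Cfsg.Agent.CyclicPrimePower.mem_orb.mp
      (hs (y - x) (sub_ne_zero.mpr fun h => hab (by rw [h])))
    obtain ⟨τ, hτ, h0', h1'⟩ := Cfsg.Agent.CyclicPrimePower.mem_orb.mp
      (hs (w - z) (sub_ne_zero.mpr fun h => hcd (by rw [h])))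
    obtain ⟨s, hs', hse⟩ := (hmem _).mp
      (mul_mem (mul_mem (mul_mem (hT z) hτ) (inv_mem hσ)) (hT (-x)))
    have i0 : σ⁻¹ 0 = 0 := Equiv.Perm.inv_eq_iff_eq.mpr h0.symm
    have i1 : σ⁻¹ (y - x) = 1 := Equiv.Perm.inv_eq_iff_eq.mpr h1.symm
    refine ⟨⟨s, hs'⟩, ?_, ?_⟩
    · show s (e x) = e z
      rw [← hse]
      show e (τ (σ⁻¹ (x + -x)) + z) = e z
      rw [add_neg_cancel, i0, h0', zero_add]
    · show s (e y) = e w
      rw [← hse]
      show e (τ (σ⁻¹ (y + -x)) + z) = e w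
      rw [← sub_eq_add_neg, i1, h1', sub_add_cancel]
  -- the kernel of the action on the cosets of H
  have hrel : ∀ s : G, ∀ a b : Ω, e.symm a - e.symm b ∈ H →
      e.symm ((s : Equiv.Perm Ω) a) - e.symm ((s : Equiv.Perm Ω) b) ∈ H := by
    intro s a b hab
    have hσ : e.symm.permCongrHom (s : Equiv.Perm Ω) ∈ G' := Subgroup.mem_map_of_mem _ s.2
    obtain ⟨ρ, hρ, hρ0, hρx⟩ := Cfsg.Agent.CyclicPrimePower.exists_shift hT hσ (e.symm b)
    have h := (hH ρ hρ hρ0 _).mpr hab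
    rw [SetLike.mem_coe, hρx, sub_add_cancel] at h
    simpa [Equiv.permCongrHom, Equiv.permCongr_apply] using h
  let K : Subgroup G :=
    { carrier := {s | ∀ a, e.symm ((s : Equiv.Perm Ω) a) - e.symm a ∈ H}
      one_mem' := fun a => by simp
      mul_mem' := fun {s t} hs ht a => by
        have := H.add_mem (hs ((t : Equiv.Perm Ω) a)) (ht a)
        rwa [sub_add_sub_cancel] at this
      inv_mem' := fun {s} hs a => by
        have := H.neg_mem (hs (((s⁻¹ : G) : Equiv.Perm Ω) a))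
        simpa using this }
  haveI : K.Normal := ⟨fun s hs t a => by
    have := hrel t _ _ (hs (((t⁻¹ : G) : Equiv.Perm Ω) a))
    simpa using this⟩
  have hgK : g ^ (p ^ (m - 1)) ∈ K := by
    intro a
    obtain ⟨i, rfl⟩ := e.surjective a
    rw [hfadd, e.symm_apply_apply, e.symm_apply_apply, add_sub_cancel_left]
    -- H is a non-trivial subgroup of a cyclic p-group
    obtain ⟨x, hx, hx0⟩ := H.bot_or_exists_ne_zero.resolve_left hH0
    obtain ⟨k, hk, hxk⟩ : ∃ k, k ≤ m ∧ Nat.gcd x.val (p ^ m) = p ^ k :=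
      (Nat.dvd_prime_pow hp).mp (Nat.gcd_dvd_right x.val (p ^ m))
    have hk' : k ≤ m - 1 := by
      by_contra hh
      have hk'' : k = m := by omega
      rw [hk''] at hxk
      have := Nat.le_of_dvd (Nat.pos_of_ne_zero fun h => hx0 ((ZMod.val_eq_zero x).mp h))
        (hxk ▸ Nat.gcd_dvd_left x.val (p ^ m))
      have := ZMod.val_lt x
      omega
    have hb : ((p ^ k : ℕ) : ZMod (p ^ m)) ∈ H := by
      rw [← hxk, show ((Nat.gcd x.val (p ^ m) : ℕ) : ZMod (p ^ m)) = ((Nat.gcdA x.val (p ^ m) : ℤ) : ZMod (p ^ m)) * x by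
        have := congrArg (fun z : ℤ => (z : ZMod (p ^ m))) (Nat.gcd_eq_gcd_ab x.val (p ^ m))
        push_cast at this
        rw [this, ← Nat.cast_pow, ZMod.natCast_self, zero_mul, add_zero, ZMod.natCast_zmod_val, mul_comm]]
      rw [← zsmul_eq_mul]
      exact H.zsmul_mem hx _
    rw [← Nat.add_sub_cancel' hk', pow_add, mul_comm, Nat.cast_mul, ← nsmul_eq_mul]
    exact H.nsmul_mem hb _
  have hNK : Subgroup.normalClosure ({g ^ (p ^ (m - 1))} : Set G) ≤ K :=
    Subgroup.normalClosure_le_normal (Set.singleton_subset_iff.mpr hgK)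
  have hnt : ¬ MulAction.IsPretransitive (Subgroup.normalClosure ({g ^ (p ^ (m - 1))} : Set G)) Ω := by
    intro h
    refine hH1 (eq_top_iff.mpr fun x _ => ?_)
    obtain ⟨s, hs⟩ := h.exists_smul_eq (e 0) (e x)
    have := hNK s.2 (e 0)
    change ((s : G) : Equiv.Perm Ω) (e 0) = e x at hs
    rwa [hs, e.symm_apply_apply, e.symm_apply_apply, sub_zero] at this
  refine ⟨fun hprim => hnt ?_, hnt⟩
  haveI := hprim
  refine MulAction.IsQuasiPreprimitive.isPretransitive_of_normal fun hfix => hω ?_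
  have := (hfix.symm ▸ Set.mem_univ ω : ω ∈ MulAction.fixedPoints
    (Subgroup.normalClosure ({g ^ (p ^ (m - 1))} : Set G)) Ω)
  exact this ⟨g ^ (p ^ (m - 1)), Subgroup.subset_normalClosure rfl⟩

end Cfsg.Agent.S3972
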