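import Cfsg.Statements.S3974
import Cfsg.Agent.Lib.Struct.SchurMain
import Mathlib.GroupTheory.Perm.Cycle.Type
import Mathlib.GroupTheory.OrderOfElement
import Mathlib.Tactic

set_option autoImplicit false
universe u v
open Cfsg
open Cfsg.Agent.Struct Cfsg.Agent.Struct.Schur
open scoped commutatorElement

namespace Cfsg.Agent.S3974

universe w

theorem eq_on_comm {C : Type u} [Group C] {E : Type v} [Group E] (f g : C →* E)
    (h : ∀ c, (g c)⁻¹ * f c ∈ Subgroup.center E) {x : C} (hx : x ∈ commutator C) : f x = g x := by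
  suffices commutator C ≤ f.eqLocus g from this hx
  rw [commutator_def, Subgroup.commutator_le]
  intro a _ b _
  show f ⁅a, b⁆ = g ⁅a, b⁆
  rw [map_commutatorElement, map_commutatorElement,
    ← comm_mul_center (h a) (h b) (a := g a) (b := g b), mul_inv_cancel_left, mul_inv_cancel_left]

/-- The canonical map onto a covering group. -/
theorem exists_theta {Q : Type u} [Group Q] [Finite Q] {A : Type v} [CommGroup A]
    (hA : Cfsg.HasSchurMultiplier Q A) {Γ : Type w} [Group Γ] [Finite Γ] (σ : Γ →* Q)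
    (hσ : Cfsg.IsStemExtension σ) (hk : Nonempty (σ.ker ≃* A)) :
    ∃ θ : SchurC (fproj Q) →* Γ, σ.comp θ = cproj (fproj Q) ∧ Function.Surjective θ ∧
      θ.ker ⊓ commutator (SchurC (fproj Q)) = ⊥ := by
  obtain ⟨θ, hθ, hmap, htop, hkl⟩ := exists_central_lift (FreeGroupBasis.ofFreeGroup Q)
    (fproj_surjective Q) σ hσ.1 hσ.2.1
  rw [inf_eq_left.2 hσ.2.2] at hmap
  refine ⟨θ, hθ, ?_, ?_⟩
  · rw [← MonoidHom.range_eq_top, eq_top_iff, ← htop]
    exact sup_le le_rfl (hmap ▸ Subgroup.map_le_range _ _)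
  · obtain ⟨e⟩ := hk
    obtain ⟨eA⟩ := equiv_schurMul Q hA
    have hs' : Function.Surjective
        ((MulEquiv.subgroupCongr hmap).toMonoidHom.comp (θ.subgroupMap (schurM (fproj Q)))) :=
      (MulEquiv.subgroupCongr hmap).surjective.comp (θ.subgroupMap_surjective _)
    have : Finite (schurM (fproj Q)) := schurM_finite _
    have hb := (Nat.bijective_iff_surjective_and_card _).2
      ⟨hs', Nat.card_congr (e.trans eA).symm.toEquiv⟩
    rw [eq_bot_iff]
    intro c hc
    have := hb.1 (a₁ := ⟨c, hkl hc.1, hc.2⟩) (a₂ := 1) (by rw [map_one]; exact Subtype.ext hc.1)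
    exact Subgroup.mem_bot.2 (congrArg Subtype.val this)


/-- Let `Q` be a finite group with Schur multiplier `A`. Any two Schur covering groups of `Q` (finite stem extensions `σ₁ : Γ₁ →* Q`, `σ₂ : Γ₂ →* Q` with kernels isomorphic to `A`, `Γ₁, Γ₂` in the universe of `Q`) are isomorphic over `Q` — there is a group isomorphism `e : Γ₁ ≃* Γ₂` with `σ₂ ∘ e = σ₁` — if and only if the order of the commutator quotient of `Q` is coprime to the order of `A`. In particular a finite perfect group has a unique Schur covering group up to isomorphism over it. -/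
theorem result {Q : Type u} [Group Q] [Finite Q] {A : Type v} [CommGroup A] (hA : Cfsg.HasSchurMultiplier Q A) : (∀ (Γ₁ Γ₂ : Type u) [Group Γ₁] [Finite Γ₁] [Group Γ₂] [Finite Γ₂] (σ₁ : Γ₁ →* Q) (σ₂ : Γ₂ →* Q), Cfsg.IsStemExtension σ₁ → Cfsg.IsStemExtension σ₂ → Nonempty (σ₁.ker ≃* A) → Nonempty (σ₂.ker ≃* A) → ∃ e : Γ₁ ≃* Γ₂, σ₂.comp e.toMonoidHom = σ₁) ↔ Nat.Coprime (Nat.card (Abelianization Q)) (Nat.card A) := by
  classical
  have hπ := fproj_surjective Q
  let b := FreeGroupBasis.ofFreeGroup Q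
  set π := fproj Q
  set c := cproj π with hcdef
  have hc := cproj_surjective hπ
  have hcc := cproj_ker_le_center π
  obtain ⟨eA⟩ := equiv_schurMul Q hA
  have hAfin := finite_of_hasSchurMultiplier Q hA
  let ab : SchurC π →* Abelianization Q := Abelianization.of.comp c
  have habs : Function.Surjective ab := (QuotientGroup.mk'_surjective _).comp hc
  have habk : ∀ x, ab x = 1 → x ∈ c.ker ⊔ commutator (SchurC π) := by
    intro x hx
    have h1 : c x ∈ commutator Q := (Abelianization.ker_of Q).le hx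
    rw [commutator_def, ← Subgroup.map_top_of_surjective _ hc, ← Subgroup.map_commutator,
      ← commutator_def] at h1
    obtain ⟨y, hy, hyx⟩ := h1
    rw [show x = (x * y⁻¹) * y from (inv_mul_cancel_right x y).symm]
    refine mul_mem (Subgroup.mem_sup_left ?_) (Subgroup.mem_sup_right hy)
    rw [MonoidHom.mem_ker, map_mul, map_inv, hyx, mul_inv_cancel]
  have hQfin : Finite (Abelianization Q) := Finite.of_surjective _ (QuotientGroup.mk'_surjective _)
  constructor
  · intro hiso
    by_contra hnc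
    obtain ⟨p, hp, hpQ, hpA⟩ := Nat.Prime.not_coprime_iff_dvd.1 hnc
    have := Fact.mk hp
    obtain ⟨K, hKn, σ₁, hK1, hK2, hσ₁, hstem₁, hfin₁, ⟨e₁⟩⟩ := exists_cover π b hπ
    have hK3 : c.ker ≤ K ⊔ schurM π := by
      intro z hz
      have h1 : QuotientGroup.mk' K z ∈ σ₁.ker := by
        rw [MonoidHom.mem_ker, ← MonoidHom.comp_apply, hσ₁, MonoidHom.mem_ker.1 hz]
      obtain ⟨d, hd, hdz⟩ : QuotientGroup.mk' K z ∈ (commutator (SchurC π)).map (QuotientGroup.mk' K) := by
        rw [← commutator_eq_map_of_range_sup_center (QuotientGroup.mk' K)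
          (by rw [MonoidHom.range_eq_top.2 (QuotientGroup.mk'_surjective K), top_sup_eq])]
        exact hstem₁.2.2 h1
      have h2 : d⁻¹ * z ∈ K := by
        rw [← QuotientGroup.eq_one_iff, ← QuotientGroup.mk'_apply, map_mul, map_inv, hdz, inv_mul_cancel]
      have h3 : d ∈ c.ker := by
        rw [show d = z * (d⁻¹ * z)⁻¹ by group]
        exact mul_mem hz (inv_mem (hK1 h2))
      rw [show z = d * (d⁻¹ * z) by group]
      exact mul_mem (Subgroup.mem_sup_right ⟨h3, hd⟩) (Subgroup.mem_sup_left h2)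
    -- an element whose p-th power falls into the kernel modulo commutators
    obtain ⟨q, hq⟩ := exists_prime_orderOf_dvd_card' p hpQ
    obtain ⟨x, rfl⟩ := habs q
    have hx : x ∉ c.ker ⊔ commutator (SchurC π) := fun hx => by
      have hle : c.ker ⊔ commutator (SchurC π) ≤ ab.ker :=
        sup_le (fun z hz => by rw [MonoidHom.mem_ker, MonoidHom.comp_apply, MonoidHom.mem_ker.1 hz, map_one])
          (Abelianization.commutator_subset_ker ab)
      rw [MonoidHom.mem_ker.1 (hle hx), orderOf_one] at hq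
      exact hp.one_lt.ne hq
    have hxp : x ^ p ∈ K ⊔ commutator (SchurC π) := by
      have h1 := habk (x ^ p) (by rw [map_pow, ← hq, pow_orderOf_eq_one])
      exact sup_le (hK3.trans (sup_le le_sup_left (inf_le_right.trans le_sup_right))) le_sup_right h1
    obtain ⟨k, hk, d, hd, hkd⟩ := Subgroup.mem_sup_of_normal_right.1 hxp
    -- coordinates on K
    obtain ⟨α, hα, -⟩ := exists_abelian_coords b π
    letI : CommGroup K :=
      { (inferInstance : Group K) with
        mul_comm := fun u v => Subtype.ext (commute_of_mem_center (hcc (hK1 u.2)) v.1) }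
    let a : Additive K →ₗ[ℤ] (Q →₀ ℤ) := (MonoidHom.toAdditiveLeft (α.comp K.subtype)).toIntLinearMap
    have ha : Function.Injective a := by
      rw [← LinearMap.ker_eq_bot, LinearMap.ker_eq_bot']
      intro u hu
      have h1 : ((Additive.toMul u : K) : SchurC π) ∈ K ⊓ commutator (SchurC π) := by
        refine ⟨(Additive.toMul u).2, ?_⟩
        show _ ∈ commutator (SchurC π)
        rw [← hα, MonoidHom.mem_ker]
        exact Multiplicative.toAdd.injective hu
      rw [hK2, Subgroup.mem_bot] at h1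
      exact Additive.toMul.injective (Subtype.ext h1)
    obtain ⟨N, bS⟩ := Submodule.basisOfPid (Finsupp.basisSingleOne (ι := Q) (R := ℤ)) (LinearMap.range a)
    let eK := LinearEquiv.ofInjective a ha
    let bK : Module.Basis (Fin N) ℤ (Additive K) := bS.map eK.symm
    obtain ⟨i, hi⟩ : ∃ i, ¬ (p : ℤ) ∣ bK.repr (Additive.ofMul ⟨k, hk⟩) i := by
      by_contra hall
      push_neg at hall
      choose f hf using hall
      set u : K := Additive.toMul (∑ i, f i • bK i) with hu
      have hup : u ^ p = ⟨k, hk⟩ := by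
        apply Additive.ofMul.injective
        rw [ofMul_pow, hu, ofMul_toMul, Finset.smul_sum]
        conv_rhs => rw [← bK.sum_repr (Additive.ofMul ⟨k, hk⟩)]
        refine Finset.sum_congr rfl fun i _ => ?_
        rw [hf i, mul_smul, natCast_zsmul]
      refine hx ?_
      have h1 : x * (u : SchurC π)⁻¹ ∈ commutator (SchurC π) := by
        refine mem_commutator_of_pow b π hp.ne_zero ?_
        rw [(show Commute x (u : SchurC π)⁻¹ from
          (commute_of_mem_center (inv_mem (hcc (hK1 u.2))) x).symm).mul_pow, inv_pow, ← hkd,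
          show (u : SchurC π) ^ p = k from congrArg Subtype.val hup]
        rw [← commute_of_mem_center (inv_mem (hcc (hK1 hk))), inv_mul_cancel_left]
        exact hd
      rw [show x = (x * (u : SchurC π)⁻¹) * u from (inv_mul_cancel_right x _).symm]
      exact mul_mem (Subgroup.mem_sup_right h1) (Subgroup.mem_sup_left (hK1 u.2))
    -- an element of the multiplier that is no p-th power
    obtain ⟨z, hz⟩ : ∃ z : schurMul Q, ∀ m, m ^ p ≠ z := by
      by_contra hall
      push_neg at hall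
      have hsurj : Function.Surjective (fun m : schurMul Q => m ^ p) := hall
      obtain ⟨w, hw⟩ := exists_prime_orderOf_dvd_card' p
        (show p ∣ Nat.card (schurMul Q) by rwa [← Nat.card_congr eA.toEquiv])
      have hw1 : w = 1 := (Finite.injective_iff_surjective.2 hsurj) (by
        show w ^ p = 1 ^ p
        rw [one_pow, ← hw, pow_orderOf_eq_one])
      rw [hw1, orderOf_one] at hw
      exact hp.one_lt.ne hw
    let g₀ : Additive K →ₗ[ℤ] Additive (schurMul Q) :=
      (bK.coord i).smulRight (Additive.ofMul z)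
    let g : K →* SchurC π :=
      (schurM π).subtype.comp (MonoidHom.toAdditive.symm g₀.toAddMonoidHom)
    have hgM : ∀ u, g u ∈ schurM π := fun u => Subtype.prop _
    let j : K →* SchurC π :=
      { toFun := fun u => u.1 * g u
        map_one' := by rw [map_one, OneMemClass.coe_one, mul_one]
        map_mul' := fun u v => by
          rw [map_mul, Subgroup.coe_mul]
          have h := commute_of_mem_center (hcc (hgM u).1) v.1
          calc u.1 * v.1 * (g u * g v) = u.1 * (v.1 * g u) * g v := by simp only [mul_assoc]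
            _ = u.1 * g u * (v.1 * g v) := by rw [← h]; simp only [mul_assoc] }
    have hj1 : j.range ≤ c.ker := by
      rintro _ ⟨u, rfl⟩; exact mul_mem (hK1 u.2) (hgM u).1
    have hj2 : j.range ⊓ commutator (SchurC π) = ⊥ := by
      rw [eq_bot_iff]
      rintro _ ⟨⟨u, rfl⟩, hu⟩
      have h1 : u.1 ∈ K ⊓ commutator (SchurC π) := Subgroup.mem_inf.2 ⟨u.2, by
        rw [show u.1 = j u * (g u)⁻¹ from (mul_inv_cancel_right u.1 (g u)).symm]
        exact mul_mem hu (inv_mem (hgM u).2)⟩
      rw [hK2, Subgroup.mem_bot] at h1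
      rw [Subgroup.mem_bot, show u = 1 from Subtype.ext h1, map_one]
    have hj3 : j.range ⊔ schurM π = c.ker := by
      refine le_antisymm (sup_le hj1 inf_le_left) (hK3.trans (sup_le ?_ le_sup_right))
      intro u hu
      rw [show u = j ⟨u, hu⟩ * (g ⟨u, hu⟩)⁻¹ from (mul_inv_cancel_right u _).symm]
      exact mul_mem (Subgroup.mem_sup_left ⟨_, rfl⟩) (Subgroup.mem_sup_right (inv_mem (hgM _)))
    obtain ⟨hjn, σ₂, hσ₂, hstem₂, hfin₂, ⟨e₂⟩⟩ := exists_cover_of_complement π hπ j.range hj1 hj2 hj3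
    obtain ⟨e, he⟩ := hiso _ _ σ₁ σ₂ hstem₁ hstem₂ ⟨e₁.trans eA.symm⟩ ⟨e₂.trans eA.symm⟩
    let θ₁ := e.toMonoidHom.comp (QuotientGroup.mk' K)
    let θ₂ := QuotientGroup.mk' j.range
    have hθ : ∀ y, (θ₂ y)⁻¹ * θ₁ y ∈ σ₂.ker := fun y => by
      have h1 : σ₂ (θ₂ y) = c y := DFunLike.congr_fun hσ₂ y
      have h2 : σ₂ (θ₁ y) = c y := (DFunLike.congr_fun he _).trans (DFunLike.congr_fun hσ₁ y)
      rw [MonoidHom.mem_ker, map_mul, map_inv, h1, h2, inv_mul_cancel]
    have hd1 := eq_on_comm θ₁ θ₂ (fun y => hstem₂.2.1 (hθ y)) hd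
    set s := (θ₂ x)⁻¹ * θ₁ x with hs
    have hscomm : Commute (θ₂ x) s := (Subgroup.mem_center_iff.1 (hstem₂.2.1 (hθ x)) (θ₂ x))
    have hsx : θ₁ x = θ₂ x * s := (mul_inv_cancel_left _ _).symm
    have hkθ₁ : θ₁ k = 1 := by
      show e (QuotientGroup.mk' K k) = 1
      rw [QuotientGroup.mk'_apply, (QuotientGroup.eq_one_iff k).2 hk, map_one]
    have hsp : s ^ p = (θ₂ k)⁻¹ := by
      have h1 := congrArg (fun t => t ^ p) hsx
      simp only [hscomm.mul_pow, ← map_pow, ← hkd, map_mul, hkθ₁, one_mul] at h1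
      rw [hd1, ← mul_inv_cancel_left (θ₂ d) (θ₂ d)] at h1
      have hkc : θ₂ k * θ₂ d = θ₂ d * θ₂ k := by
        rw [← map_mul, ← map_mul, commute_of_mem_center (hcc (hK1 hk)) d]
      rw [mul_inv_cancel_left, hkc, mul_assoc] at h1
      exact eq_inv_of_mul_eq_one_right ((left_eq_mul).1 h1)
    have hgk : θ₂ (g ⟨k, hk⟩) = (θ₂ k)⁻¹ := by
      refine eq_inv_of_mul_eq_one_right ?_
      rw [← map_mul]
      exact (QuotientGroup.eq_one_iff _).2 ⟨⟨k, hk⟩, rfl⟩
    obtain ⟨m, hm, hms⟩ : s ∈ (commutator (SchurC π)).map θ₂ := by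
      rw [← commutator_eq_map_of_range_sup_center θ₂
        (by rw [MonoidHom.range_eq_top.2 (QuotientGroup.mk'_surjective _), top_sup_eq])]
      exact hstem₂.2.2 (hθ x)
    have hmk : m ∈ c.ker := by
      have h1 : σ₂ s = 1 := hθ x
      rw [← hms, ← MonoidHom.comp_apply, hσ₂] at h1
      exact h1
    have hmp : m ^ p = g ⟨k, hk⟩ := by
      have h1 : m ^ p * (g ⟨k, hk⟩)⁻¹ ∈ j.range ⊓ commutator (SchurC π) := by
        refine Subgroup.mem_inf.2 ⟨?_, mul_mem (pow_mem hm p) (inv_mem (hgM _).2)⟩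
        refine (QuotientGroup.eq_one_iff _).1 ?_
        show θ₂ _ = 1
        rw [map_mul, map_pow, hms, hsp, map_inv, hgk, inv_inv, inv_mul_cancel]
      rw [hj2, Subgroup.mem_bot, mul_inv_eq_one] at h1
      exact h1
    -- the coordinate is prime to p, so `z` would be a p-th power
    have hzc : (⟨m, hmk, hm⟩ : schurMul Q) ^ p = z ^ (bK.repr (Additive.ofMul ⟨k, hk⟩) i) := by
      apply Subtype.ext
      rw [SubmonoidClass.coe_pow, hmp]
      rfl
    obtain ⟨u, v, huv⟩ := Int.isCoprime_iff_gcd_eq_one.2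
      (show Int.gcd (p : ℤ) (bK.repr (Additive.ofMul ⟨k, hk⟩) i) = 1 by
        rw [Int.gcd_eq_natAbs, Int.natAbs_natCast]
        exact hp.coprime_iff_not_dvd.2 (fun h => hi (Int.natCast_dvd.2 h)))
    set w : schurMul Q := ⟨m, hmk, hm⟩
    refine hz (z ^ u * w ^ v) ?_
    rw [← zpow_natCast, mul_zpow, ← zpow_mul, ← zpow_mul, mul_comm v, zpow_mul w, zpow_natCast w, hzc,
      ← zpow_mul, ← zpow_add, mul_comm _ v, huv, zpow_one]
  · intro hcop Γ₁ Γ₂ _ _ _ _ σ₁ σ₂ h₁ h₂ hk₁ hk₂
    obtain ⟨e1⟩ := hk₁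
    obtain ⟨e2⟩ := hk₂
    obtain ⟨θ₁, hθ₁, hs₁, hi₁⟩ := exists_theta hA σ₁ h₁ ⟨e1⟩
    obtain ⟨θ₂, hθ₂, hs₂, hi₂⟩ := exists_theta hA σ₂ h₂ ⟨e2⟩
    set n := Nat.card (Abelianization Q) with hn
    letI := centralKerCommGroup h₂.2.1
    let K := θ₁.ker
    have hK1 : K ≤ c.ker := fun k hk => by
      show c k = 1
      rw [show c k = σ₁ (θ₁ k) from (DFunLike.congr_fun hθ₁ k).symm, MonoidHom.mem_ker.1 hk, map_one]
    have hker : ∀ z ∈ c.ker, z ∈ K ⊔ commutator (SchurC π) := by
      intro z hz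
      have h1 : θ₁ z ∈ (commutator (SchurC π)).map θ₁ := by
        rw [← commutator_eq_map_of_range_sup_center θ₁
          (by rw [MonoidHom.range_eq_top.2 hs₁, top_sup_eq])]
        refine h₁.2.2 ?_
        rw [MonoidHom.mem_ker, ← MonoidHom.comp_apply, hθ₁]
        exact hz
      obtain ⟨d, hd, hdz⟩ := h1
      rw [show z = z * d⁻¹ * d from (inv_mul_cancel_right z d).symm]
      refine mul_mem (Subgroup.mem_sup_left ?_) (Subgroup.mem_sup_right hd)
      rw [MonoidHom.mem_ker, map_mul, map_inv, hdz, mul_inv_cancel]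
    let of' := Abelianization.of (G := SchurC π)
    have hof : Function.Injective (of'.comp K.subtype) := by
      rw [← MonoidHom.ker_eq_bot_iff, eq_bot_iff]
      intro u hu
      have h1 : u.1 ∈ K ⊓ commutator (SchurC π) := ⟨u.2, (Abelianization.ker_of _).le hu⟩
      rw [hi₁, Subgroup.mem_bot] at h1
      exact Subgroup.mem_bot.2 (Subtype.ext h1)
    have hpow : ∀ t : Abelianization (SchurC π), t ^ n ∈ (of'.comp K.subtype).range := by
      intro t
      obtain ⟨y, rfl⟩ := QuotientGroup.mk'_surjective _ t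
      have h1 := habk (y ^ n) (by rw [map_pow, hn, pow_card_eq_one'])
      have h2 : c.ker ⊔ commutator (SchurC π) ≤ K ⊔ commutator (SchurC π) :=
        sup_le hker le_sup_right
      obtain ⟨u, hu, d, hd, hud⟩ := Subgroup.mem_sup_of_normal_right.1 (h2 h1)
      refine ⟨⟨u, hu⟩, ?_⟩
      show of' u = of' y ^ n
      rw [← map_pow, ← hud, map_mul,
        show of' d = 1 from (Abelianization.ker_of (SchurC π)).ge hd, mul_one]
    let P : Abelianization (SchurC π) →* K :=
      (MonoidHom.ofInjective hof).symm.toMonoidHom.comp ((powMonoidHom n).codRestrict _ hpow)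
    have hP : ∀ u : K, P (of' u) = u ^ n := fun u => by
      apply (MonoidHom.ofInjective hof).injective
      apply Subtype.ext
      rw [MonoidHom.comp_apply, MulEquiv.coe_toMonoidHom, MulEquiv.apply_symm_apply]
      show of' u.1 ^ n = of' (u ^ n : K).1
      rw [SubmonoidClass.coe_pow, map_pow]
    let f : K →* σ₂.ker := (θ₂.comp K.subtype).codRestrict _ fun u => by
      rw [MonoidHom.mem_ker, MonoidHom.comp_apply, ← MonoidHom.comp_apply σ₂, hθ₂]
      exact hK1 u.2
    have hcard : Nat.card σ₂.ker = Nat.card A := Nat.card_congr e2.toEquiv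
    have hco : (Nat.card σ₂.ker).Coprime n := hcard ▸ hcop.symm
    let e : σ₂.ker ≃* σ₂.ker := MulEquiv.ofBijective (powMonoidHom n) (powCoprime hco).bijective
    let μ : SchurC π →* σ₂.ker := (e.symm.toMonoidHom.comp (f.comp P)).comp of'
    have hμ : ∀ u : K, μ u = f u := fun u => by
      show e.symm (f (P (of' u))) = f u
      rw [hP, map_pow]
      exact e.symm_apply_apply (f u)
    let θ : SchurC π →* Γ₂ :=
      { toFun := fun y => θ₂ y * ((μ y)⁻¹ : σ₂.ker).1
        map_one' := by rw [map_one, map_one, inv_one, OneMemClass.coe_one, mul_one]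
        map_mul' := fun y y' => by
          have h := commute_of_mem_center (h₂.2.1 ((μ y)⁻¹).2) (θ₂ y')
          rw [map_mul, map_mul, mul_inv, Subgroup.coe_mul]
          calc θ₂ y * θ₂ y' * (((μ y)⁻¹ : σ₂.ker).1 * ((μ y')⁻¹ : σ₂.ker).1)
              = θ₂ y * (θ₂ y' * ((μ y)⁻¹ : σ₂.ker).1) * ((μ y')⁻¹ : σ₂.ker).1 := by
                simp only [mul_assoc]
            _ = _ := by rw [← h]; simp only [mul_assoc] }
    have hle : θ₁.ker ≤ θ.ker := fun u hu => by
      show θ₂ u * ((μ u)⁻¹ : σ₂.ker).1 = 1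
      rw [hμ ⟨u, hu⟩, Subgroup.coe_inv]
      exact mul_inv_cancel _
    let η := θ₁.liftOfSurjective hs₁ ⟨θ, hle⟩
    have hη : σ₂.comp η = σ₁ := MonoidHom.ext fun w => by
      obtain ⟨y, rfl⟩ := hs₁ w
      rw [MonoidHom.comp_apply, MonoidHom.liftOfRightInverse_comp_apply]
      show σ₂ (θ₂ y * ((μ y)⁻¹ : σ₂.ker).1) = σ₁ (θ₁ y)
      rw [map_mul, MonoidHom.mem_ker.1 ((μ y)⁻¹).2, mul_one, ← MonoidHom.comp_apply, hθ₂,
        ← MonoidHom.comp_apply, hθ₁]
    have hηs : Function.Surjective η := by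
      rw [← MonoidHom.range_eq_top, eq_top_iff, ← range_sup_ker_eq_top η σ₂ (hη ▸ h₁.1)]
      refine sup_le le_rfl (h₂.2.2.trans ?_)
      rw [commutator_eq_map_of_range_sup_center η
        (eq_top_iff.2 ((range_sup_ker_eq_top η σ₂ (hη ▸ h₁.1)).symm.le.trans (sup_le_sup_left h₂.2.1 _)))]
      exact Subgroup.map_le_range _ _
    have hcards : Nat.card Γ₁ = Nat.card Γ₂ := by
      rw [σ₁.ker.card_eq_card_quotient_mul_card_subgroup, σ₂.ker.card_eq_card_quotient_mul_card_subgroup,
        Nat.card_congr (QuotientGroup.quotientKerEquivOfSurjective σ₁ h₁.1).toEquiv,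
        Nat.card_congr (QuotientGroup.quotientKerEquivOfSurjective σ₂ h₂.1).toEquiv,
        Nat.card_congr e1.toEquiv, hcard]
    exact ⟨MulEquiv.ofBijective η ((Nat.bijective_iff_surjective_and_card _).2 ⟨hηs, hcards⟩), hη⟩

end Cfsg.Agent.S3974
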