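import Cfsg.Statements.S3976
import Cfsg.Agent.Lib.Struct.SubgroupCount

set_option autoImplicit false
open Cfsg

namespace Cfsg.Agent.S3976

/-- Let `p` be a prime and `G` a group of order `p ^ m`. For every `s ≤ m` the number of normal subgroups of `G` of order `p ^ s` is congruent to `1` modulo `p`. -/
theorem result {G : Type*} [Group G] [Finite G] (p m s : ℕ) (hp : p.Prime) (hG : Nat.card G = p ^ m) (hs : s ≤ m) : Nat.card {H : Subgroup G // H.Normal ∧ Nat.card H = p ^ s} ≡ 1 [MOD p] := by
  classical
  haveI := Fact.mk hp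
  have h1 := Cfsg.Agent.Struct.SubgroupCount.card_subgroups_modEq_one (G := G) p s (by rw [hG]; exact pow_dvd_pow p hs)
  let cj : G → Subgroup G → Subgroup G := fun g H => H.map (MulAut.conj g).toMonoidHom
  have hcard : ∀ g H, Nat.card (cj g H) = Nat.card H := fun g H =>
    (Nat.card_congr (Subgroup.equivMapOfInjective H _ (MulAut.conj g).injective).toEquiv).symm
  letI : MulAction G {H : Subgroup G // Nat.card H = p ^ s} :=
    { smul := fun g H => ⟨cj g H.1, (hcard g H.1).trans H.2⟩
      one_smul := fun H => Subtype.ext (by show cj 1 H.1 = H.1; simp only [cj, map_one]; exact Subgroup.map_id _)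
      mul_smul := fun g h H => Subtype.ext (by
        show cj (g * h) H.1 = cj g (cj h H.1)
        simp only [cj, Subgroup.map_map, map_mul]
        rfl) }
  have h2 := (IsPGroup.of_card hG : IsPGroup p G).card_modEq_card_fixedPoints (α := {H : Subgroup G // Nat.card H = p ^ s})
  refine Nat.ModEq.trans ?_ (h2.symm.trans h1)
  refine congrArg (fun x => x % p) (Nat.card_congr
    { toFun := fun H => ⟨⟨H.1, H.2.2⟩, fun g => Subtype.ext ?_⟩
      invFun := fun H => ⟨H.1.1, ⟨fun x hx g => ?_⟩, H.1.2⟩
      left_inv := fun H => rfl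
      right_inv := fun H => rfl })
  · haveI := H.2.1
    show cj g H.1 = H.1
    exact Subgroup.eq_of_le_of_card_ge (by
      rintro _ ⟨x, hx, rfl⟩
      exact H.2.1.conj_mem x hx g) (hcard g H.1).ge
  · have h := congrArg Subtype.val (H.2 g)
    change cj g H.1.1 = H.1.1 at h
    rw [← h]
    exact ⟨x, hx, rfl⟩

end Cfsg.Agent.S3976
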