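import Cfsg.Statements.S3977
import Cfsg.Agent.Lib.Struct.UniqueOrderP

set_option autoImplicit false
open Cfsg
open Subgroup

namespace Cfsg.Agent.S3977

/-- Let `p` be a prime and `G` a group of order `p ^ m` which has exactly one subgroup of order `p ^ s`, where `1 ≤ s < m`, and where `s ≥ 2` if `p = 2`. Then `G` is cyclic. (For `p = 2` and `s = 1` the generalized quaternion groups also occur; that case is the classical criterion for a unique involution.) -/
theorem result {G : Type*} [Group G] [Finite G] (p m s : ℕ) (hp : p.Prime) (hG : Nat.card G = p ^ m) (hs : 1 ≤ s) (hsm : s < m) (h2 : p ≠ 2 ∨ 2 ≤ s) (huniq : ∀ H K : Subgroup G, Nat.card H = p ^ s → Nat.card K = p ^ s → H = K) : IsCyclic G := by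
  classical
  haveI := Fact.mk hp
  have hpG : IsPGroup p G := IsPGroup.of_card hG
  obtain ⟨H, hH⟩ := Sylow.exists_subgroup_card_pow_prime p (n := s) (by rw [hG]; exact pow_dvd_pow p hsm.le)
  -- small cyclic subgroups lie in `H`
  have hsmall : ∀ g : G, ∀ k ≤ s, orderOf g = p ^ k → g ∈ H := by
    intro g k hk hg
    obtain ⟨K, hK, hgK⟩ := Sylow.exists_subgroup_card_pow_prime_le p (n := k) (m := s)
      (by rw [hG]; exact pow_dvd_pow p hsm.le) (Subgroup.zpowers g) (by rw [Nat.card_zpowers, hg]) hk
    rw [huniq H K hH hK]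
    exact hgK (mem_zpowers g)
  have hbig : ∀ g : G, g ∉ H → ∃ j : ℕ, H = zpowers (g ^ j) := by
    intro g hg
    obtain ⟨k, hk⟩ := IsPGroup.iff_orderOf.1 hpG g
    have hks : s < k := by
      by_contra h
      exact hg (hsmall g k (not_lt.1 h) hk)
    refine ⟨p ^ (k - s), huniq H _ hH ?_⟩
    rw [Nat.card_zpowers, orderOf_pow_of_dvd (pow_ne_zero _ hp.ne_zero) (by rw [hk]; exact pow_dvd_pow p (by omega)),
      hk, Nat.pow_div (by omega) hp.pos]
    congr 1; omega
  obtain ⟨g0, hg0⟩ : ∃ g, g ∉ H := by
    by_contra hcon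
    push Not at hcon
    have hle : Nat.card G ≤ Nat.card H :=
      (Nat.card_congr (Subgroup.topEquiv (G := G)).toEquiv).symm.le.trans (Subgroup.card_le_of_le fun x _ => hcon x)
    rw [hG, hH] at hle
    exact absurd hle (not_le.2 (Nat.pow_lt_pow_right hp.one_lt hsm))
  obtain ⟨j, hj⟩ := hbig g0 hg0
  -- `H` is central
  have hcent : ∀ x ∈ H, ∀ g : G, g * x = x * g := by
    intro x hx g
    by_cases hg : g ∈ H
    · rw [hj] at hx hg
      obtain ⟨a, rfl⟩ := mem_zpowers_iff.1 hx
      obtain ⟨b, rfl⟩ := mem_zpowers_iff.1 hg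
      exact ((Commute.refl _).zpow_zpow _ _).eq
    · obtain ⟨i, hi⟩ := hbig g hg
      rw [hi] at hx
      obtain ⟨a, rfl⟩ := mem_zpowers_iff.1 hx
      exact (((Commute.refl g).pow_right i).zpow_right a).eq
  rcases Cfsg.Agent.Struct.cyclic_or_quaternion hpG (fun x y hx hy => by
      have hxH := hsmall x 1 hs (by rw [hx, pow_one])
      have hyH : y ∈ H := by
        rcases (Nat.dvd_prime hp).1 (orderOf_dvd_of_pow_eq_one hy) with h | h
        · rw [orderOf_eq_one_iff.1 h]; exact one_mem H
        · exact hsmall y 1 hs (by rw [h, pow_one])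
      haveI : IsCyclic H := hj ▸ inferInstance
      have hx' : orderOf (⟨x, hxH⟩ : H) = p := by rw [Subgroup.orderOf_mk, hx]
      have hmem : (⟨y, hyH⟩ : H) ∈ zpowers (⟨x, hxH⟩ : H) := by
        have h1 : ∀ z : H, z ^ p = 1 → z ∈ zpowers (⟨x, hxH⟩ : H) := by
          intro z hz
          haveI := Fintype.ofFinite H
          have hsub : (zpowers (⟨x, hxH⟩ : H) : Set H) = {z : H | z ^ p = 1} := by
            refine Set.eq_of_subset_of_ncard_le ?_ ?_ (Set.toFinite _)
            · intro w hw
              obtain ⟨a, rfl⟩ := mem_zpowers_iff.1 hw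
              show (_ ^ a) ^ p = 1
              rw [← zpow_natCast (((⟨x, hxH⟩ : H)) ^ a), ← zpow_mul, mul_comm, zpow_mul, zpow_natCast, ← hx',
                pow_orderOf_eq_one, one_zpow]
            · rw [← Nat.card_coe_set_eq, ← Nat.card_coe_set_eq]
              refine le_trans ?_ (le_of_eq ((Nat.card_zpowers (⟨x, hxH⟩ : H)).trans hx').symm)
              have := IsCyclic.card_pow_eq_one_le (α := H) hp.pos
              rw [Nat.card_coe_set_eq]
              calc Set.ncard {z : H | z ^ p = 1} = (Finset.univ.filter fun z : H => z ^ p = 1).card := by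
                    rw [Set.ncard_eq_toFinset_card', Set.toFinset_setOf]
                _ ≤ p := this
          exact (Set.ext_iff.1 hsub z).2 hz
        exact h1 _ (Subtype.ext (by simpa using hy))
      obtain ⟨a, ha⟩ := mem_zpowers_iff.1 hmem
      exact mem_zpowers_iff.2 ⟨a, by simpa using congrArg Subtype.val ha⟩) with h | ⟨hp2, n, hn, ⟨e⟩⟩
  · exact h
  · exfalso
    subst hp2
    have hs2 : 2 ≤ s := h2.resolve_left (by simp)
    obtain ⟨z, hz⟩ : ∃ z, z = g0 ^ j := ⟨_, rfl⟩
    have hzo : orderOf z = 2 ^ s := by rw [← Nat.card_zpowers, hz, ← hj, hH]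
    have hzH : z ∈ H := by rw [hj, hz]; exact mem_zpowers _
    have hsq : e z ^ 2 = 1 := by
      have hc : ∀ w, w * e z = e z * w := fun w => by
        obtain ⟨g, rfl⟩ := e.surjective w
        rw [← map_mul, ← map_mul, hcent z hzH g]
      cases hez : e z with
      | a i =>
        have := hc (QuaternionGroup.xa 0)
        rw [hez] at this
        simp only [QuaternionGroup.xa_mul_a, QuaternionGroup.a_mul_xa, QuaternionGroup.xa.injEq] at this
        rw [pow_two, QuaternionGroup.a_mul_a, QuaternionGroup.one_def]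
        congr 1
        linear_combination this
      | xa i =>
        exfalso
        have := hc (QuaternionGroup.a 1)
        rw [hez] at this
        simp only [QuaternionGroup.xa_mul_a, QuaternionGroup.a_mul_xa, QuaternionGroup.xa.injEq] at this
        have h4 : ((2 : ℕ) : ZMod (2 * 2 ^ n)) = 0 := by push_cast; linear_combination -this
        rw [ZMod.natCast_eq_zero_iff] at h4
        have : 2 ^ 1 ≤ 2 ^ n := Nat.pow_le_pow_right (by norm_num) hn
        have := Nat.le_of_dvd (by norm_num) h4
        omega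
    have h5 : z ^ 2 = 1 := e.injective (by rw [map_pow, hsq, map_one])
    have h6 := orderOf_dvd_of_pow_eq_one h5
    rw [hzo] at h6
    have h7 : 2 ^ 2 ≤ 2 ^ s := Nat.pow_le_pow_right (by norm_num) hs2
    have := Nat.le_of_dvd (by norm_num) h6
    omega

end Cfsg.Agent.S3977
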