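import Cfsg.Statements.S3978
import Cfsg.Agent.Lib.Struct.SchurLift

set_option autoImplicit false
open Cfsg
open Cfsg.Agent.Struct.Schur

namespace Cfsg.Agent.S3978

/-- A finite group `Q` has trivial Schur multiplier if and only if, for every `n`, every homomorphism from `Q` to the projective general linear group (the quotient of `GL n ℂ` by its centre) lifts to a homomorphism into `GL n ℂ`. -/
theorem result {Q : Type*} [Group Q] [Finite Q] : Cfsg.HasCyclicSchurMultiplier Q 1 ↔ ∀ (n : ℕ) (γ : Q →* (GL (Fin n) ℂ ⧸ Subgroup.center (GL (Fin n) ℂ))), ∃ ρ : Q →* GL (Fin n) ℂ, (QuotientGroup.mk' (Subgroup.center (GL (Fin n) ℂ))).comp ρ = γ := by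
  have hid : (MonoidHom.id Q).ker = ⊥ := by
    rw [MonoidHom.ker_eq_bot_iff]; exact Function.injective_id
  have hsub : Subsingleton (MonoidHom.id Q).ker := by rw [hid]; infer_instance
  have hstem : Cfsg.IsStemExtension (MonoidHom.id Q) :=
    ⟨Function.surjective_id, hid ▸ bot_le, hid ▸ bot_le⟩
  constructor
  · intro h n γ
    have hsub' : Subsingleton (Multiplicative (ZMod 1)) := Multiplicative.toAdd.subsingleton
    obtain ⟨ρ, hρ⟩ := exists_lift_of_cover h (MonoidHom.id Q) hstem
      ⟨{ toFun := fun _ => 1, invFun := fun _ => 1, left_inv := fun _ => Subsingleton.elim _ _,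
         right_inv := fun _ => Subsingleton.elim _ _, map_mul' := fun _ _ => (one_mul _).symm }⟩
      (fun k hk z => center_GL_divisible n k hk z) γ
    exact ⟨ρ, hρ.trans γ.comp_id⟩
  · intro h
    obtain ⟨π, hπ⟩ := exists_surj_of_lifting (MonoidHom.id Q) hstem (fun n γ => by
      obtain ⟨ρ, hρ⟩ := h n γ
      exact ⟨ρ, hρ.trans γ.comp_id.symm⟩)
    exact (hasCyclic_one_iff Q).2 hπ.subsingleton

end Cfsg.Agent.S3978
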