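import Cfsg.Statements.S3981
import Mathlib

set_option autoImplicit false
open Cfsg
open Subgroup

namespace Cfsg.Agent.S3981

/-- Let p be an odd prime, Q a p-subgroup of the finite group G and y an involution normalizing Q. Then Q is maximal among the p-subgroups of G normalized by y if and only if the image of y in N_G(Q) ⧸ Q neither inverts nor centralizes any element of order p there; the latter is phrased inside N_G(Q): for every x in N_G(Q) outside Q with x ^ p ∈ Q, neither y x y⁻¹ x nor y x y⁻¹ x⁻¹ lies in Q. -/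
theorem result {G : Type*} [Group G] [Finite G] (p : ℕ) [Fact p.Prime] (hp2 : p ≠ 2) (Q : Subgroup G) (hQ : IsPGroup p ↥Q) (y : G) (hy : orderOf y = 2) (hyQ : y ∈ Subgroup.normalizer (Q : Set G)) : (∀ R : Subgroup G, IsPGroup p ↥R → Q ≤ R → y ∈ Subgroup.normalizer (R : Set G) → R = Q) ↔ ∀ x : G, x ∈ Subgroup.normalizer (Q : Set G) → x ∉ Q → x ^ p ∈ Q → (y * x * y⁻¹ * x ∉ Q ∧ y * x * y⁻¹ * x⁻¹ ∉ Q) := by
  have hy2 : y * y = 1 := by rw [← pow_two, ← hy, pow_orderOf_eq_one]
  have hyi : y⁻¹ = y := inv_eq_of_mul_eq_one_right hy2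
  constructor
  · intro hmax x hx hxQ hxp
    suffices h : ¬ (y * x * y⁻¹ * x ∈ Q ∨ y * x * y⁻¹ * x⁻¹ ∈ Q) from ⟨fun h' => h (Or.inl h'), fun h' => h (Or.inr h')⟩
    intro h
    have hxz : zpowers x ≤ normalizer (Q : Set G) := zpowers_le.2 hx
    set R := Q ⊔ zpowers x
    have hR : IsPGroup p R := by
      obtain ⟨k, hk⟩ := hQ ⟨_, hxp⟩
      have hk' : (x ^ p) ^ p ^ k = 1 := congrArg Subtype.val hk
      rw [← pow_mul, ← pow_succ'] at hk'
      have hxg : IsPGroup p (zpowers x) := by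
        obtain ⟨i, -, hi⟩ := (Nat.dvd_prime_pow (Fact.out : p.Prime)).1 (orderOf_dvd_of_pow_eq_one hk')
        exact IsPGroup.of_card (n := i) (by rw [Nat.card_zpowers, hi])
      exact hQ.to_sup_of_normal_left' hxg hxz
    have hRy : y ∈ normalizer (R : Set G) := by
      have hfwd : ∀ r ∈ R, y * r * y⁻¹ ∈ R := by
        suffices hm : R.map (MulAut.conj y).toMonoidHom ≤ R from fun r hr => hm (mem_map_of_mem _ hr)
        rw [Subgroup.map_sup, MonoidHom.map_zpowers, sup_le_iff, zpowers_le]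
        refine ⟨?_, ?_⟩
        · rintro _ ⟨q, hq, rfl⟩
          exact mem_sup_left ((mem_normalizer_iff.1 hyQ q).1 hq)
        · show y * x * y⁻¹ ∈ R
          have hxR : x ∈ R := mem_sup_right (mem_zpowers x)
          rcases h with h | h
          · simpa [mul_assoc] using mul_mem (mem_sup_left (T := zpowers x) h) (inv_mem hxR)
          · simpa [mul_assoc] using mul_mem (mem_sup_left (T := zpowers x) h) hxR
      refine mem_normalizer_iff.2 fun r => ⟨hfwd r, fun h' => ?_⟩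
      have e := hfwd _ h'
      rwa [hyi, show y * (y * r * y) * y = y * y * r * (y * y) by group, hy2, one_mul, mul_one] at e
    exact hxQ ((hmax R hR le_sup_left hRy) ▸ mem_sup_right (mem_zpowers x))
  · intro h R hR hQR hyR
    by_contra hne
    haveI := hR.isNilpotent
    have hlt : Q.subgroupOf R < ⊤ := lt_top_iff_ne_top.2 fun e => hne (le_antisymm (subgroupOf_eq_top.1 e) hQR)
    obtain ⟨⟨x₀, hx₀R⟩, hx₀N, hx₀Q⟩ := SetLike.exists_of_lt
      (Group.normalizerCondition_of_isNilpotent (G := R) _ hlt)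
    have hx₀N' : x₀ ∈ normalizer (Q : Set G) := by
      rw [mem_normalizer_iff]
      intro q
      constructor
      · intro hq
        exact (mem_normalizer_iff.1 hx₀N ⟨q, hQR hq⟩).1 hq
      · intro hq
        have hqR : q ∈ R := by
          have := mul_mem (mul_mem (inv_mem hx₀R) (hQR hq)) hx₀R
          simpa [mul_assoc] using this
        exact (mem_normalizer_iff.1 hx₀N ⟨q, hqR⟩).2 hq
    -- an element of order `p` modulo `Q`
    have hdesc : ∀ u : G, u ∈ R → u ∉ Q → ∃ j : ℕ, u ^ p ^ j ∉ Q ∧ (u ^ p ^ j) ^ p ∈ Q := by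
      intro u hu huQ
      obtain ⟨k, hk⟩ := hR ⟨u, hu⟩
      have hk' : u ^ p ^ k = 1 := congrArg Subtype.val hk
      classical
      have hex : ∃ k, u ^ p ^ k ∈ Q := ⟨k, hk' ▸ one_mem Q⟩
      obtain ⟨j, hj⟩ : ∃ j, Nat.find hex = j + 1 :=
        Nat.exists_eq_succ_of_ne_zero fun e => huQ (by simpa [e] using Nat.find_spec hex)
      refine ⟨j, Nat.find_min hex (by omega), ?_⟩
      rw [← pow_mul, ← pow_succ, ← hj]
      exact Nat.find_spec hex
    obtain ⟨i, hi1, hi2⟩ := hdesc x₀ hx₀R hx₀Q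
    set x := x₀ ^ p ^ i
    have hxN : x ∈ normalizer (Q : Set G) := pow_mem hx₀N' _
    have hxR : x ∈ R := pow_mem hx₀R _
    by_cases hc : y * x * y⁻¹ * x⁻¹ ∈ Q
    · exact (h x hxN hi1 hi2).2 hc
    set w := x⁻¹ * (y * x * y⁻¹) with hw
    have hwR : w ∈ R := mul_mem (inv_mem hxR) ((mem_normalizer_iff.1 hyR x).1 hxR)
    have hyn : y ∈ normalizer (Q : Set G) := hyQ
    have hwN : w ∈ normalizer (Q : Set G) := mul_mem (inv_mem hxN) (mul_mem (mul_mem hyn hxN) (inv_mem hyn))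
    have hwQ : w ∉ Q := fun h' => hc (by
      have := (mem_normalizer_iff.1 hxN w).1 h'
      rwa [show x * w * x⁻¹ = y * x * y⁻¹ * x⁻¹ by rw [hw]; group] at this)
    have hinv : y * w * y⁻¹ = w⁻¹ := by
      rw [hw]
      calc y * (x⁻¹ * (y * x * y⁻¹)) * y⁻¹ = (y * x * y⁻¹)⁻¹ * (y * y * x * (y * y)⁻¹) := by group
        _ = (x⁻¹ * (y * x * y⁻¹))⁻¹ := by rw [hy2]; group
    obtain ⟨j, hj1, hj2⟩ := hdesc w hwR hwQ
    refine (h (w ^ p ^ j) (pow_mem hwN _) hj1 hj2).1 ?_
    rw [← conj_pow, hinv, inv_pow, inv_mul_cancel]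
    exact one_mem Q

end Cfsg.Agent.S3981
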