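import Cfsg.Statements.S3982
import Mathlib
import Cfsg.Agent.Lib.Solv.Basic

set_option autoImplicit false
open Cfsg
open Subgroup
open scoped Pointwise

namespace Cfsg.Agent.S3982

/-- Let p be an odd prime and G a finite group of even order divisible by p in which the centralizer of every non-identity p-element has odd order. If some nontrivial p-subgroup of G has a normalizer of even order, then the normalizer of every Sylow p-subgroup of G has even order. -/
theorem result {G : Type*} [Group G] [Finite G] (p : ℕ) [Fact p.Prime] (hp2 : p ≠ 2) (hpG : p ∣ Nat.card G) (h2G : 2 ∣ Nat.card G) (hC : ∀ g : G, g ≠ 1 → (∃ k : ℕ, orderOf g = p ^ k) → Odd (Nat.card ↥(Subgroup.centralizer ({g} : Set G)))) (Q : Subgroup G) (hQ : IsPGroup p ↥Q) (hQ1 : Q ≠ ⊥) (hev : Even (Nat.card ↥(Subgroup.normalizer (Q : Set G)))) (P : Sylow p G) : Even (Nat.card ↥(Subgroup.normalizer ((P : Subgroup G) : Set G))) := by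
  haveI : Fact (Nat.Prime 2) := ⟨Nat.prime_two⟩
  have hcent : ∀ g : G, g ≠ 1 → g ^ p ^ (Nat.card G) = 1 → Odd (Nat.card ↥(centralizer ({g} : Set G))) := fun g hg h => by
    obtain ⟨k, -, hk⟩ := (Nat.dvd_prime_pow (Fact.out : p.Prime)).1 (orderOf_dvd_of_pow_eq_one h)
    exact hC g hg ⟨k, hk⟩
  have hpg : ∀ (R : Subgroup G), IsPGroup p R → ∀ r ∈ R, r ^ p ^ (Nat.card G) = 1 := fun R hR r hr => by
    obtain ⟨k, hk⟩ := IsPGroup.iff_orderOf.1 hR ⟨r, hr⟩
    rw [Subgroup.orderOf_mk] at hk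
    refine orderOf_dvd_iff_pow_eq_one.1 (hk ▸ Nat.pow_dvd_pow p ?_)
    have := _root_.orderOf_le_card (x := r)
    exact le_trans (Nat.lt_pow_self (Fact.out : p.Prime).one_lt).le (hk ▸ this)
  -- a Sylow subgroup of an odd normal subgroup of a group of even order has a normalizer of even order
  have hfr : ∀ K : Subgroup G, K ≠ ⊥ → IsPGroup p K → Even (Nat.card ↥(normalizer (K : Set G))) →
      ∀ R : Subgroup G, IsPGroup p R → R ≤ centralizer (K : Set G) → ∃ S : Subgroup G, IsPGroup p S ∧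
        (∃ g : G, R ≤ MulAut.conj g • S) ∧ S ≤ centralizer (K : Set G) ∧ Even (Nat.card ↥(normalizer (S : Set G))) := by
    intro K hK0 hKp hKe R hR hRC
    set C := centralizer (K : Set G)
    set N := normalizer (K : Set G)
    obtain ⟨k, hk, hk1⟩ := SetLike.exists_of_lt (bot_lt_iff_ne_bot.2 hK0)
    have hCodd : Odd (Nat.card C) := (hcent k (fun e => hk1 (e ▸ one_mem _)) (hpg K hKp k hk)).of_dvd_nat
      (card_dvd_of_le (centralizer_le (Set.singleton_subset_iff.2 hk)))
    obtain ⟨T, hT⟩ := (hR.of_equiv (subgroupOfEquivOfLe hRC).symm).exists_le_sylow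
    let CN := C.subgroupOf N
    haveI : CN.Normal := by
      refine ⟨fun c hc g => ?_⟩
      rw [mem_subgroupOf] at hc ⊢
      refine mem_centralizer_iff.2 fun y hy => ?_
      have h' := mem_centralizer_iff.1 hc _ ((mem_normalizer_iff.1 (inv_mem g.2) y).1 hy)
      rw [inv_inv] at h'
      show y * ((g : G) * c * (g : G)⁻¹) = (g : G) * c * (g : G)⁻¹ * y
      calc y * ((g : G) * c * (g : G)⁻¹) = (g : G) * (((g : G)⁻¹ * y * g) * c) * (g : G)⁻¹ := by group
        _ = (g : G) * (c * ((g : G)⁻¹ * y * g)) * (g : G)⁻¹ := by rw [h']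
        _ = (g : G) * c * (g : G)⁻¹ * y := by group
    obtain ⟨S'⟩ := (inferInstance : Nonempty (Sylow p CN))
    set Sn := (S' : Subgroup CN).map CN.subtype
    have hsup := Sylow.normalizer_sup_eq_top S'
    set S := Sn.map N.subtype
    have hSp : IsPGroup p S := (S'.isPGroup'.map _).map _
    have hSC : S ≤ C := by
      rintro _ ⟨s, ⟨s', -, rfl⟩, rfl⟩
      exact mem_subgroupOf.1 s'.2
    refine ⟨S, hSp, ?_, hSC, ?_⟩
    · -- conjugate inside `C`
      let S₁ : Subgroup C := S.subgroupOf C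
      have hS1 : IsPGroup p S₁ := hSp.of_equiv (subgroupOfEquivOfLe hSC).symm
      have hcard : Nat.card S₁ = Nat.card (T : Subgroup C) := by
        rw [Nat.card_congr (subgroupOfEquivOfLe hSC).toEquiv, card_map_of_injective N.subtype_injective,
          card_map_of_injective CN.subtype_injective, S'.card_eq_multiplicity, T.card_eq_multiplicity,
          Nat.card_congr (subgroupOfEquivOfLe (centralizer_le_normalizer _)).toEquiv]
      let T₁ : Sylow p C := Sylow.ofCard S₁ (hcard.trans T.card_eq_multiplicity)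
      obtain ⟨c, hc⟩ := MulAction.exists_smul_eq C T₁ T
      refine ⟨c, fun r hr => ?_⟩
      have h1 : (⟨r, hRC hr⟩ : C) ∈ (T : Subgroup C) := hT hr
      rw [← hc, Sylow.coe_subgroup_smul, mem_pointwise_smul_iff_inv_smul_mem] at h1
      rw [mem_pointwise_smul_iff_inv_smul_mem]
      simpa [T₁, S₁, mem_subgroupOf] using h1
    · rw [even_iff_two_dvd]
      by_contra hd
      have hNs : ¬ 2 ∣ Nat.card ↥(normalizer (Sn : Set N)) := fun h => hd (by
        refine h.trans ?_
        rw [← card_map_of_injective N.subtype_injective]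
        exact card_dvd_of_le (le_normalizer_map N.subtype))
      have hodd : ¬ 2 ∣ Nat.card CN := by
        rw [Nat.card_congr (subgroupOfEquivOfLe (centralizer_le_normalizer _)).toEquiv]
        exact hCodd.not_two_dvd_nat
      have hdvd := Cfsg.Agent.Solv.card_sup_dvd CN (normalizer (Sn : Set N)) le_normalizer_of_normal
      rw [sup_comm, hsup, card_top] at hdvd
      rcases (Nat.Prime.dvd_mul Nat.prime_two).1 ((even_iff_two_dvd.1 hKe).trans hdvd) with h | h
      · exact hodd h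
      · exact hNs h
  obtain ⟨P₀, hQP⟩ := hQ.exists_le_sylow
  haveI : Nontrivial ↥(P₀ : Subgroup G) := (nontrivial_iff_ne_bot _).2 fun e => hQ1 (le_bot_iff.1 (e ▸ hQP))
  haveI := P₀.isPGroup'.center_nontrivial
  obtain ⟨⟨u, hu⟩, hu1⟩ := exists_ne (1 : center ↥(P₀ : Subgroup G))
  have hu1' : (u : G) ≠ 1 := fun e => hu1 (Subtype.ext (Subtype.ext e))
  have huc : ∀ r ∈ (P₀ : Subgroup G), r * u = u * r := fun r hr =>
    congrArg Subtype.val (mem_center_iff.1 hu ⟨r, hr⟩)
  obtain ⟨S, hSp, ⟨g, hg⟩, -, hSe⟩ := hfr Q hQ1 hQ hev (zpowers (u : G))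
    (P₀.isPGroup'.to_le (zpowers_le.2 u.2)) (zpowers_le.2 (mem_centralizer_iff.2 fun q hq => huc q (hQP hq)))
  set z := g⁻¹ * u * g
  have hzS : z ∈ S := by
    have h := hg (mem_zpowers (u : G))
    rw [mem_pointwise_smul_iff_inv_smul_mem] at h
    simpa [z, mul_assoc] using h
  have hz1 : z ≠ 1 := fun e => hu1' (by
    calc (u : G) = g * z * g⁻¹ := by simp only [z]; group
      _ = 1 := by rw [e]; group)
  have hz0 : zpowers z ≠ ⊥ := by rwa [Ne, zpowers_eq_bot]
  have hzp : IsPGroup p (zpowers z) := hSp.to_le (zpowers_le.2 hzS)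
  -- some involution inverts `z`
  obtain ⟨t, ht⟩ := exists_prime_orderOf_dvd_card' (G := ↥(normalizer (S : Set G))) 2 (even_iff_two_dvd.1 hSe)
  rw [← Subgroup.orderOf_coe] at ht
  have htS : ∀ v ∈ S, (t : G) * v * (t : G)⁻¹ = v⁻¹ := by
    have ht2 : (t : G) * t = 1 := by rw [← pow_two, ← ht, pow_orderOf_eq_one]
    let f : S → S := fun v => ⟨(v : G)⁻¹ * ((t : G) * v * (t : G)⁻¹),
      mul_mem (inv_mem v.2) ((mem_normalizer_iff.1 t.2 v).1 v.2)⟩
    have hinj : Function.Injective f := by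
      intro a b hab
      have h : (a : G)⁻¹ * ((t : G) * a * (t : G)⁻¹) = (b : G)⁻¹ * ((t : G) * b * (t : G)⁻¹) :=
        congrArg Subtype.val hab
      refine Subtype.ext (inv_injective ?_)
      by_contra hne
      set c := (b : G) * (a : G)⁻¹
      have hc1 : c ≠ 1 := fun e => hne (by rw [mul_inv_eq_one.1 e])
      have hct : c * t = t * c := by
        calc c * t = (b : G) * ((a : G)⁻¹ * ((t : G) * a * (t : G)⁻¹)) * (t * (a : G)⁻¹) := by simp only [c]; group
          _ = (b : G) * ((b : G)⁻¹ * ((t : G) * b * (t : G)⁻¹)) * (t * (a : G)⁻¹) := by rw [h]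
          _ = t * c := by simp only [c]; group
      refine Nat.not_even_iff_odd.2 (hcent c hc1 (hpg S hSp c (mul_mem b.2 (inv_mem a.2)))) (even_iff_two_dvd.2 ?_)
      rw [← ht]
      exact (Subgroup.orderOf_dvd_natCard _ (mem_centralizer_singleton_iff.2 hct.symm))
    intro v hv
    obtain ⟨w, hw⟩ := (Finite.injective_iff_surjective.1 hinj) ⟨v, hv⟩
    have hw' : (w : G)⁻¹ * ((t : G) * w * (t : G)⁻¹) = v := congrArg Subtype.val hw
    rw [← hw']
    calc (t : G) * ((w : G)⁻¹ * ((t : G) * w * (t : G)⁻¹)) * (t : G)⁻¹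
        = ((t : G) * w * (t : G)⁻¹)⁻¹ * ((t : G) * t * w * ((t : G) * t)⁻¹) := by group
      _ = ((w : G)⁻¹ * ((t : G) * w * (t : G)⁻¹))⁻¹ := by rw [ht2]; group
  have hze : Even (Nat.card ↥(normalizer (zpowers z : Set G))) := by
    rw [even_iff_two_dvd, ← ht]
    refine Subgroup.orderOf_dvd_natCard _ ?_
    rw [mem_normalizer_iff_map_conj_eq, MonoidHom.map_zpowers]
    show zpowers ((t : G) * z * (t : G)⁻¹) = zpowers z
    rw [htS z hzS, zpowers_inv]
  set P₁ := g⁻¹ • P₀
  have hP1C : (P₁ : Subgroup G) ≤ centralizer (zpowers z : Set G) := by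
    intro r hr
    rw [Sylow.coe_subgroup_smul, mem_pointwise_smul_iff_inv_smul_mem] at hr
    have hr' : g * r * g⁻¹ ∈ (P₀ : Subgroup G) := by simpa [mul_assoc] using hr
    rw [zpowers_eq_closure, centralizer_closure, mem_centralizer_singleton_iff]
    calc r * z = g⁻¹ * ((g * r * g⁻¹) * u) * g := by simp only [z]; group
      _ = g⁻¹ * ((u : G) * (g * r * g⁻¹)) * g := by rw [huc _ hr']
      _ = z * r := by simp only [z]; group
  obtain ⟨S₂, hS2p, ⟨g2, hg2⟩, -, hS2e⟩ := hfr _ hz0 hzp hze (P₁ : Subgroup G) P₁.isPGroup' hP1C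
  have heq : MulAut.conj g2 • S₂ = (P₁ : Subgroup G) := P₁.3 (hS2p.map _) hg2
  let P₂ : Sylow p G := g2⁻¹ • P₁
  have hP2 : (P₂ : Subgroup G) = S₂ := by
    show MulAut.conj g2⁻¹ • (P₁ : Subgroup G) = S₂
    rw [← heq, smul_smul, ← map_mul, inv_mul_cancel, map_one, one_smul]
  obtain ⟨h, hh⟩ := MulAction.exists_smul_eq G P₂ P
  rw [← hh, Sylow.coe_subgroup_smul, hP2]
  rw [show normalizer ((MulAut.conj h • S₂ : Subgroup G) : Set G) = MulAut.conj h • normalizer (S₂ : Set G) from
    (map_equiv_normalizer_eq S₂ (MulAut.conj h)).symm]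
  rw [show Nat.card ↥(MulAut.conj h • normalizer (S₂ : Set G)) = Nat.card ↥(normalizer (S₂ : Set G)) from
    card_map_of_injective (MulAut.conj h).injective]
  exact hS2e

end Cfsg.Agent.S3982
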