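import Cfsg.Statements.S3983
import Mathlib

set_option autoImplicit false
open scoped Pointwise
open Cfsg
open scoped Pointwise

namespace Cfsg.Agent.S3983

/-- Let P be a Sylow p-subgroup of the finite group G that meets each conjugate g P g⁻¹ with g outside N_G(P) trivially, and let U be a subgroup of G of order divisible by p. Then a Sylow p-subgroup Q of U has the same property inside U: Q meets each conjugate u Q u⁻¹ with u ∈ U outside N_U(Q) trivially. -/
theorem result {G : Type*} [Group G] [Finite G] (p : ℕ) [Fact p.Prime] (P : Sylow p G) (hTI : ∀ g : G, g ∉ Subgroup.normalizer ((P : Subgroup G) : Set G) → (P : Subgroup G) ⊓ (MulAut.conj g • (P : Subgroup G)) = ⊥) (U : Subgroup G) (hU : p ∣ Nat.card ↥U) (Q : Sylow p ↥U) : ∀ u : ↥U, u ∉ Subgroup.normalizer ((Q : Subgroup ↥U) : Set ↥U) → (Q : Subgroup ↥U) ⊓ (MulAut.conj u • (Q : Subgroup ↥U)) = ⊥ := by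
  intro u hu
  by_contra hne
  obtain ⟨z, hz, hz1⟩ := (Subgroup.bot_or_exists_ne_one _).resolve_left hne
  obtain ⟨P', hP'⟩ := (Q.isPGroup'.map U.subtype).exists_le_sylow
  have hTI' : ∀ g : G, g ∉ Subgroup.normalizer ((P' : Subgroup G) : Set G) →
      (P' : Subgroup G) ⊓ (MulAut.conj g • (P' : Subgroup G)) = ⊥ := by
    obtain ⟨a, rfl⟩ := MulAction.exists_smul_eq G P P'
    intro g hg
    rw [Sylow.coe_subgroup_smul] at hg ⊢
    have ha : a⁻¹ * g * a ∉ Subgroup.normalizer ((P : Subgroup G) : Set G) := by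
      intro h
      apply hg
      rw [Subgroup.mem_normalizer_iff_map_conj_eq] at h ⊢
      change MulAut.conj g • (MulAut.conj a • (P : Subgroup G)) = MulAut.conj a • (P : Subgroup G)
      have h' : MulAut.conj (a⁻¹ * g * a) • (P : Subgroup G) = P := h
      conv_rhs => rw [← h']
      rw [smul_smul, smul_smul, ← map_mul, ← map_mul]
      congr 2; group
    have h1 := hTI _ ha
    have h2 : MulAut.conj a • (P : Subgroup G) ⊓ MulAut.conj g • (MulAut.conj a • (P : Subgroup G)) =
        MulAut.conj a • ((P : Subgroup G) ⊓ MulAut.conj (a⁻¹ * g * a) • (P : Subgroup G)) := by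
      rw [Subgroup.smul_inf, smul_smul, smul_smul, ← map_mul, ← map_mul]
      congr 2; group
    rw [h2, h1, Subgroup.smul_bot]
  have hQU : (P' : Subgroup G).subgroupOf U = Q := by
    refine Q.is_maximal' ?_ fun y hy => hP' (Subgroup.mem_map_of_mem _ hy)
    exact P'.isPGroup'.comap_of_injective U.subtype U.subtype_injective
  obtain ⟨hzQ, hzu⟩ := hz
  change z ∈ MulAut.conj u • (Q : Subgroup U) at hzu
  rw [Subgroup.mem_pointwise_smul_iff_inv_smul_mem] at hzu
  have hnn : (u : G) ∈ Subgroup.normalizer ((P' : Subgroup G) : Set G) := by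
    by_contra hn
    have h1 : (z : G) ∈ (P' : Subgroup G) ⊓ (MulAut.conj (u : G) • (P' : Subgroup G)) := by
      refine ⟨hP' (Subgroup.mem_map_of_mem _ hzQ), ?_⟩
      show (z : G) ∈ MulAut.conj (u : G) • (P' : Subgroup G)
      rw [Subgroup.mem_pointwise_smul_iff_inv_smul_mem]
      exact hP' ⟨_, hzu, rfl⟩
    rw [hTI' _ hn, Subgroup.mem_bot] at h1
    exact hz1 (Subtype.ext h1)
  apply hu
  rw [Subgroup.mem_normalizer_iff]
  intro y
  rw [← hQU, Subgroup.mem_subgroupOf, Subgroup.mem_subgroupOf]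
  exact Subgroup.mem_normalizer_iff.1 hnn y

end Cfsg.Agent.S3983
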