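import Cfsg.Statements.S3985
import Mathlib
import Cfsg.Agent.Lib.Solv.SchurZassenhaus

set_option autoImplicit false
open scoped Pointwise
open Cfsg
open Subgroup

namespace Cfsg.Agent.S3985

theorem fix_cyclic {G : Type*} [Group G] [Finite G] {p : ℕ} [Fact p.Prime] (P : Sylow p G)
    [IsCyclic ↥(P : Subgroup G)] {x g : G} (hx : x ∈ (P : Subgroup G)) (hx1 : x ≠ 1)
    (hgN : g ∈ normalizer ((P : Subgroup G) : Set G)) (hg : g * x = x * g)
    (hPC : (P : Subgroup G) ≤ centralizer ((P : Subgroup G) : Set G)) :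
    g ∈ centralizer ((P : Subgroup G) : Set G) := by
  obtain ⟨n, hn⟩ := IsPGroup.iff_card.mp P.isPGroup'
  obtain ⟨u, hu⟩ := IsCyclic.exists_zpow_surjective (G := ↥(P : Subgroup G))
  have hou : orderOf u = p ^ n := by
    rw [orderOf_eq_card_of_forall_mem_zpowers hu, hn]
  have hgen : ∀ y ∈ (P : Subgroup G), ∃ m : ℤ, (u : G) ^ m = y := fun y hy => by
    obtain ⟨m, hm⟩ := hu ⟨y, hy⟩
    exact ⟨m, congrArg Subtype.val hm⟩
  obtain ⟨k, hk⟩ := hgen _ ((mem_normalizer_iff.1 hgN (u : G)).1 u.2)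
  obtain ⟨m, hm⟩ := hgen x hx
  have hpow : ∀ a : ℤ, g * (u : G) ^ a * g⁻¹ = (u : G) ^ (k * a) := fun a => by
    rw [← conj_zpow, ← hk, zpow_mul]
  have hpow' : ∀ (j : ℕ) (a : ℤ), g ^ j * (u : G) ^ a * (g ^ j)⁻¹ = (u : G) ^ (k ^ j * a) := by
    intro j
    induction j with
    | zero => intro a; simp
    | succ j ih =>
      intro a
      rw [pow_succ' g, pow_succ' k, mul_assoc k, ← hpow, ← ih]
      group
  have ho : (orderOf (u : G) : ℤ) = (p : ℤ) ^ n := by rw [Subgroup.orderOf_coe, hou]; simp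
  have hk1 : (p : ℤ) ∣ k - 1 := by
    have h1 : (u : G) ^ (k * m) = (u : G) ^ m := by rw [← hpow, hm, hg, mul_inv_cancel_right]
    rw [zpow_eq_zpow_iff_modEq, Int.modEq_iff_dvd, ho] at h1
    have h2 : ¬ (p : ℤ) ^ n ∣ m := fun hd => hx1 (by
      rw [← hm, ← orderOf_dvd_iff_zpow_eq_one, ho]; exact hd)
    by_contra hnd
    apply h2
    have hco : IsCoprime ((p : ℤ) ^ n) (k - 1) :=
      IsCoprime.pow_left ((Nat.prime_iff_prime_int.1 Fact.out).coprime_iff_not_dvd.2 hnd)
    refine hco.dvd_of_dvd_mul_left ?_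
    have h3 := dvd_neg.2 h1
    rwa [show -(m - k * m) = (k - 1) * m by ring] at h3
  have hN : g ^ p ^ n ∈ centralizer ((P : Subgroup G) : Set G) := by
    rw [mem_centralizer_iff]
    intro y hy
    obtain ⟨a, rfl⟩ := hgen y hy
    have h3 : g ^ p ^ n * (u : G) ^ a * (g ^ p ^ n)⁻¹ = (u : G) ^ a := by
      rw [hpow' (p ^ n) a, zpow_eq_zpow_iff_modEq, Int.modEq_iff_dvd, ho,
        show a - k ^ p ^ n * a = -((k ^ p ^ n - 1 ^ p ^ n) * a) by ring, dvd_neg]
      exact Dvd.dvd.mul_right ((pow_dvd_pow _ n.le_succ).trans (dvd_sub_pow_of_dvd_sub hk1 n)) a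
    calc (u : G) ^ a * g ^ p ^ n = g ^ p ^ n * (u : G) ^ a * (g ^ p ^ n)⁻¹ * g ^ p ^ n := by rw [h3]
      _ = g ^ p ^ n * (u : G) ^ a := by rw [inv_mul_cancel_right]
  set C := centralizer ((P : Subgroup G) : Set G)
  set N := normalizer ((P : Subgroup G) : Set G)
  haveI : (C.subgroupOf N).Normal := by
    rw [normal_subgroupOf_iff_le_normalizer (centralizer_le_normalizer _)]
    intro a ha
    rw [mem_normalizer_iff]
    intro c
    have key : ∀ a ∈ N, ∀ c ∈ C, a * c * a⁻¹ ∈ C := fun a ha c hc => mem_centralizer_iff.2 fun y hy => by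
      have h' := mem_centralizer_iff.1 hc _ ((mem_normalizer_iff.1 (inv_mem ha) y).1 hy)
      rw [inv_inv] at h'
      calc y * (a * c * a⁻¹) = a * ((a⁻¹ * y * a) * c) * a⁻¹ := by group
        _ = a * (c * (a⁻¹ * y * a)) * a⁻¹ := by rw [h']
        _ = a * c * a⁻¹ * y := by group
    refine ⟨key a ha c, fun h => ?_⟩
    have h' := key a⁻¹ (inv_mem ha) _ h
    rwa [inv_inv, show a⁻¹ * (a * c * a⁻¹) * a = c by group] at h'
  have h5 : g ^ C.relIndex N ∈ C := by
    have h6 := pow_index_mem (C.subgroupOf N) (⟨g, hgN⟩ : N)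
    rw [mem_subgroupOf] at h6
    exact h6
  have hco : (p ^ n).Coprime (C.relIndex N) :=
    Nat.Coprime.pow_left n ((Nat.Prime.coprime_iff_not_dvd Fact.out).2 fun hd =>
      P.not_dvd_index (hd.trans ((relIndex_dvd_index_of_le (centralizer_le_normalizer _)).trans
        (index_dvd_of_le hPC))))
  rw [← pow_one g]
  have h7 : g ^ ((p ^ n).gcd (C.relIndex N) : ℤ) ∈ C := by
    rw [Nat.gcd_eq_gcd_ab, zpow_add, zpow_mul, zpow_mul, zpow_natCast, zpow_natCast]
    exact mul_mem (zpow_mem hN _) (zpow_mem h5 _)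
  rw [hco.gcd_eq_one] at h7
  simpa using h7

/-- Let P be a cyclic Sylow p-subgroup of the finite group G. Then P meets each conjugate g P g⁻¹ with g outside N_G(P) trivially if and only if P is weakly self-centralizing: C_G(x) = C_G(P) for every non-identity x ∈ P. -/
theorem result {G : Type*} [Group G] [Finite G] (p : ℕ) [Fact p.Prime] (P : Sylow p G) (hcyc : IsCyclic ↥(P : Subgroup G)) : (∀ g : G, g ∉ Subgroup.normalizer ((P : Subgroup G) : Set G) → (P : Subgroup G) ⊓ (MulAut.conj g • (P : Subgroup G)) = ⊥) ↔ ∀ x : G, x ∈ (P : Subgroup G) → x ≠ 1 → Subgroup.centralizer ({x} : Set G) = Subgroup.centralizer ((P : Subgroup G) : Set G) := by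
  haveI := hcyc
  letI := IsCyclic.commGroup (α := ↥(P : Subgroup G))
  have hPc : ∀ a ∈ (P : Subgroup G), ∀ b ∈ (P : Subgroup G), a * b = b * a := fun a ha b hb =>
    congrArg Subtype.val (mul_comm (⟨a, ha⟩ : ↥(P : Subgroup G)) ⟨b, hb⟩)
  have hPC : (P : Subgroup G) ≤ centralizer ((P : Subgroup G) : Set G) := fun a ha =>
    mem_centralizer_iff.2 fun b hb => hPc b hb a ha
  constructor
  · intro hTI x hx hx1
    refine le_antisymm (fun g hg => ?_) (centralizer_le (Set.singleton_subset_iff.2 hx))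
    rw [mem_centralizer_singleton_iff] at hg
    have hgN : g ∈ normalizer ((P : Subgroup G) : Set G) := by
      by_contra hn
      refine hx1 ((mem_bot).1 (hTI g hn ▸ mem_inf.2 ⟨hx, ?_⟩))
      rw [Cfsg.Agent.Solv.mem_conj_smul]
      rw [mul_assoc, ← hg, inv_mul_cancel_left]
      exact hx
    exact fix_cyclic P hx hx1 hgN hg hPC
  · intro h g hg
    rw [eq_bot_iff]
    intro x hx
    by_contra hx1
    rw [mem_bot] at hx1
    apply hg
    obtain ⟨hxP, hxQ⟩ := mem_inf.1 hx
    have hQC : MulAut.conj g • (P : Subgroup G) ≤ centralizer ((P : Subgroup G) : Set G) := by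
      rw [← h x hxP hx1]
      intro y hy
      rw [Cfsg.Agent.Solv.mem_conj_smul] at hy hxQ
      rw [mem_centralizer_singleton_iff]
      calc y * x = g * ((g⁻¹ * y * g) * (g⁻¹ * x * g)) * g⁻¹ := by group
        _ = g * ((g⁻¹ * x * g) * (g⁻¹ * y * g)) * g⁻¹ := by rw [hPc _ hy _ hxQ]
        _ = x * y := by group
    have hQp : IsPGroup p ↥(MulAut.conj g • (P : Subgroup G)) := P.isPGroup'.map _
    have hsup := P.isPGroup'.to_sup_of_normal_left' hQp (hQC.trans (centralizer_le_normalizer _))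
    have hle : MulAut.conj g • (P : Subgroup G) ≤ (P : Subgroup G) := by
      conv_rhs => rw [← P.3 hsup le_sup_left]
      exact le_sup_right
    rw [mem_normalizer_iff_map_conj_eq]
    exact eq_of_le_of_card_ge hle (card_map_of_injective (MulAut.conj g).injective).ge

end Cfsg.Agent.S3985
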