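import Cfsg.Statements.S3986
import Mathlib
import Cfsg.Agent.Lib.Solv.Basic
import Cfsg.Agent.Lib.Solv.SchurZassenhaus

set_option autoImplicit false
open Cfsg
open Subgroup

namespace Cfsg.Agent.S3986

/-- Let p be a prime and G a finite group. Then some Sylow p-subgroup of G is a direct factor of G (it is normal and has a normal complement) if and only if every element of p-power order commutes with every element whose order is a power of a prime other than p. -/
theorem result {G : Type*} [Group G] [Finite G] (p : ℕ) [Fact p.Prime] : (∃ (P : Sylow p G) (K : Subgroup G), (P : Subgroup G).Normal ∧ K.Normal ∧ (P : Subgroup G) ⊓ K = ⊥ ∧ (P : Subgroup G) ⊔ K = ⊤) ↔ ∀ x y : G, (∃ a : ℕ, orderOf x = p ^ a) → (∃ q b : ℕ, q.Prime ∧ q ≠ p ∧ orderOf y = q ^ b) → x * y = y * x := by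
  have hp : p.Prime := Fact.out
  constructor
  · rintro ⟨P, K, hP, hK, hinf, hsup⟩ x y ⟨a, ha⟩ ⟨q, b, hq, hqp, hb⟩
    haveI := hP
    haveI := hK
    have hxP : x ∈ (P : Subgroup G) := by
      have hx : IsPGroup p (zpowers x) := IsPGroup.of_card (n := a) (by rw [Nat.card_zpowers, ha])
      obtain ⟨Q, hQ⟩ := hx.exists_le_sylow
      haveI := Sylow.unique_of_normal P hP
      exact Subsingleton.elim Q P ▸ hQ (mem_zpowers x)
    have hyK : y ∈ K := by
      have hc : K.index = Nat.card (P : Subgroup G) :=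
        (IsComplement'.index_eq_card (isComplement'_of_disjoint_and_mul_eq_univ (disjoint_iff.2 hinf)
          (by rw [← normal_mul, hsup]; rfl)) : K.index = _)
      obtain ⟨n, hn⟩ := IsPGroup.iff_card.mp P.isPGroup'
      refine (QuotientGroup.eq_one_iff y).1 (orderOf_eq_one_iff.1 (Nat.eq_one_of_dvd_coprimes
        (Nat.Coprime.pow b n ((Nat.coprime_primes hq hp).2 hqp))
        (hb ▸ orderOf_map_dvd (QuotientGroup.mk' K) y) ?_))
      rw [← hn, ← hc, Subgroup.index_eq_card]
      exact orderOf_dvd_natCard _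
    exact (commute_of_normal_of_disjoint _ _ hP hK (disjoint_iff.2 hinf) x y hxP hyK).eq
  · intro h
    obtain ⟨P⟩ := (inferInstance : Nonempty (Sylow p G))
    have hcent : ∀ (q : ℕ), q.Prime → q ≠ p → ∀ (Q : Subgroup G), IsPGroup q Q →
        Q ≤ centralizer ((P : Subgroup G) : Set G) := by
      intro q hq hqp Q hQ y hy
      haveI := Fact.mk hq
      rw [mem_centralizer_iff]
      intro x hx
      obtain ⟨a, ha⟩ := IsPGroup.iff_orderOf.1 P.isPGroup' ⟨x, hx⟩
      obtain ⟨b, hb⟩ := IsPGroup.iff_orderOf.1 hQ ⟨y, hy⟩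
      rw [Subgroup.orderOf_mk] at ha hb
      exact h x y ⟨a, ha⟩ ⟨q, b, hq, hqp, hb⟩
    have htop : (P : Subgroup G) ⊔ centralizer ((P : Subgroup G) : Set G) = ⊤ := by
      by_contra hne
      obtain ⟨q, hq, hd⟩ := Nat.exists_prime_and_dvd (fun hh => hne (index_eq_one.1 hh))
      haveI := Fact.mk hq
      obtain ⟨Q⟩ := (inferInstance : Nonempty (Sylow q G))
      have hle : (Q : Subgroup G) ≤ (P : Subgroup G) ⊔ centralizer ((P : Subgroup G) : Set G) → False :=
        fun hh => Q.not_dvd_index (hd.trans (index_dvd_of_le hh))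
      by_cases hqp : q = p
      · subst hqp
        exact P.not_dvd_index (hd.trans (index_dvd_of_le le_sup_left))
      · exact hle ((hcent q hq hqp Q Q.isPGroup').trans le_sup_right)
    haveI hPn : (P : Subgroup G).Normal := by
      rw [← normalizer_eq_top_iff, eq_top_iff, ← htop]
      exact sup_le le_normalizer (centralizer_le_normalizer _)
    obtain ⟨H, hH⟩ := exists_right_complement'_of_coprime (N := (P : Subgroup G)) P.card_coprime_index
    have hHC : H ≤ centralizer ((P : Subgroup G) : Set G) := by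
      rw [← relIndex_eq_one]
      by_contra hne
      obtain ⟨q, hq, hd⟩ := Nat.exists_prime_and_dvd hne
      haveI := Fact.mk hq
      obtain ⟨Q⟩ := (inferInstance : Nonempty (Sylow q H))
      have hqp : q ≠ p := fun e => P.not_dvd_index (by
        rw [hH.symm.index_eq_card, ← e]
        exact hd.trans (index_dvd_card _))
      exact Q.not_dvd_index (hd.trans (index_dvd_of_le fun y hy =>
        hcent q hq hqp _ (Q.isPGroup'.map H.subtype) (mem_map_of_mem H.subtype hy)))
    refine ⟨P, H, hPn, ?_, disjoint_iff.1 hH.disjoint, hH.sup_eq_top⟩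
    rw [← normalizer_eq_top_iff, eq_top_iff, ← hH.sup_eq_top, sup_le_iff]
    refine ⟨fun x hx => mem_normalizer_iff.2 fun y => ⟨fun hy => ?_, fun hy => ?_⟩, le_normalizer⟩
    · rwa [mem_centralizer_iff.1 (hHC hy) x hx, mul_inv_cancel_right]
    · have h1 := mem_centralizer_iff.1 (hHC hy) x hx
      have : x * y * x⁻¹ = y := by
        calc x * y * x⁻¹ = x⁻¹ * (x * (x * y * x⁻¹)) := by group
          _ = x⁻¹ * (x * y * x⁻¹ * x) := by rw [h1]
          _ = y := by group
      rwa [this] at hy

end Cfsg.Agent.S3986
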