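import Cfsg.Statements.S3987
import Mathlib
-- import your own Cfsg.Agent.* helpers here

set_option autoImplicit false
open Cfsg

namespace Cfsg.Agent.S3987

/-- Let p be a prime and G a finite group. Then some Sylow p-subgroup of G is a direct factor of G (normal with a normal complement) if and only if for every element x of p-power order and every element y whose order is a power of a prime other than p, the conjugacy class of x y has as many elements as the product of the sizes of the classes of x and of y. -/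
theorem result {G : Type*} [Group G] [Finite G] (p : ℕ) [Fact p.Prime] : (∃ (P : Sylow p G) (K : Subgroup G), (P : Subgroup G).Normal ∧ K.Normal ∧ (P : Subgroup G) ⊓ K = ⊥ ∧ (P : Subgroup G) ⊔ K = ⊤) ↔ ∀ x y : G, (∃ a : ℕ, orderOf x = p ^ a) → (∃ q b : ℕ, q.Prime ∧ q ≠ p ∧ orderOf y = q ^ b) → (Subgroup.centralizer ({x * y} : Set G)).index = (Subgroup.centralizer ({x} : Set G)).index * (Subgroup.centralizer ({y} : Set G)).index := by
  classical
  have hpp : p.Prime := Fact.out
  constructor
  · rintro ⟨P, K, hPn, hKn, hd, hs⟩ x y ⟨a, hx⟩ ⟨q, b, hq, hqp, hy⟩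
    have hcomm : ∀ u ∈ (P : Subgroup G), ∀ v ∈ K, u * v = v * u := fun u hu v hv =>
      Subgroup.commute_of_normal_of_disjoint _ _ hPn hKn (disjoint_iff.mpr hd) u v hu hv
    have hxP : x ∈ (P : Subgroup G) := by
      obtain ⟨Q, hQ⟩ := (IsPGroup.of_card (n := a) (by rw [Nat.card_zpowers, hx]) :
        IsPGroup p (Subgroup.zpowers x)).exists_le_sylow
      have := Sylow.unique_of_normal P hPn
      rw [Subsingleton.elim P Q]
      exact hQ (Subgroup.mem_zpowers x)
    obtain ⟨u, hu, v, hv, huv⟩ := Subgroup.mem_sup_of_normal_left.mp (show y ∈ (P : Subgroup G) ⊔ K from hs ▸ Subgroup.mem_top y)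
    have hyK : y ∈ K := by
      obtain ⟨i, hi⟩ := P.2 ⟨u, hu⟩
      have hi' : u ^ p ^ i = 1 := congrArg Subtype.val hi
      have h1 : y ^ p ^ i ∈ K := by
        rw [← huv, (show Commute u v from hcomm u hu v hv).mul_pow, hi', one_mul]
        exact pow_mem hv _
      have hco : (orderOf y).Coprime (p ^ i) := by
        rw [hy]; exact Nat.Coprime.pow _ _ ((Nat.coprime_primes hq hpp).mpr hqp)
      obtain ⟨m, hm⟩ := exists_pow_eq_self_of_coprime hco.symm
      rw [← hm]; exact pow_mem h1 m
    have hxy : Commute x y := hcomm x hxP y hyK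
    have hinf : Subgroup.centralizer ({x * y} : Set G) = Subgroup.centralizer {x} ⊓ Subgroup.centralizer {y} := by
      refine le_antisymm (fun g hg => ?_) fun g ⟨hgx, hgy⟩ => ?_
      · have hg' : Commute g (x * y) := Subgroup.mem_centralizer_singleton_iff.mp hg
        have hco : (orderOf x).Coprime (orderOf y) := by
          rw [hx, hy]; exact Nat.Coprime.pow _ _ ((Nat.coprime_primes hpp hq).mpr hqp.symm)
        obtain ⟨m, hm⟩ := exists_pow_eq_self_of_coprime (x := x) hco.symm
        have h1 : (x * y) ^ orderOf y = x ^ orderOf y := by rw [hxy.mul_pow, pow_orderOf_eq_one, mul_one]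
        have hgx : Commute g x := by
          rw [← hm, ← h1]; exact (hg'.pow_right _).pow_right _
        refine ⟨Subgroup.mem_centralizer_singleton_iff.mpr hgx, Subgroup.mem_centralizer_singleton_iff.mpr ?_⟩
        have := hgx.inv_right.mul_right hg'
        rwa [inv_mul_cancel_left] at this
      · exact Subgroup.mem_centralizer_singleton_iff.mpr
          ((show Commute g x from Subgroup.mem_centralizer_singleton_iff.mp hgx).mul_right
            (show Commute g y from Subgroup.mem_centralizer_singleton_iff.mp hgy))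
    rw [hinf]
    refine Nat.le_antisymm Subgroup.index_inf_le (Nat.le_of_dvd (Nat.pos_of_ne_zero Subgroup.index_ne_zero_of_finite) ?_)
    refine Nat.Coprime.mul_dvd_of_dvd_of_dvd ?_ (Subgroup.index_dvd_of_le inf_le_left) (Subgroup.index_dvd_of_le inf_le_right)
    have hKx : K ≤ Subgroup.centralizer {x} := fun v hv =>
      Subgroup.mem_centralizer_singleton_iff.mpr (hcomm x hxP v hv).symm
    have hPy : (P : Subgroup G) ≤ Subgroup.centralizer {y} := fun u hu =>
      Subgroup.mem_centralizer_singleton_iff.mpr (hcomm u hu y hyK)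
    have hidx : K.index = Nat.card (P : Subgroup G) := by
      have := Subgroup.IsComplement'.index_eq_card (Subgroup.isComplement'_of_disjoint_and_mul_eq_univ
        (disjoint_iff.mpr hd) (by rw [← Subgroup.normal_mul, hs]; rfl) : Subgroup.IsComplement' (P : Subgroup G) K)
      exact this
    refine Nat.Coprime.coprime_dvd_left (Subgroup.index_dvd_of_le hKx) (Nat.Coprime.coprime_dvd_right (Subgroup.index_dvd_of_le hPy) ?_)
    rw [hidx]
    exact P.card_coprime_index
  intro h
  have hcomm : ∀ x y : G, (∃ a : ℕ, orderOf x = p ^ a) → (∃ q b : ℕ, q.Prime ∧ q ≠ p ∧ orderOf y = q ^ b) →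
      x * y = y * x := by
    intro x y hx hy
    have := Fintype.ofFinite G
    let S : G → Finset G := fun g => Finset.univ.image fun t => t * g * t⁻¹
    have hS : ∀ g : G, (S g).card = (Subgroup.centralizer ({g} : Set G)).index := by
      intro g
      have e : (Subgroup.centralizer ({g} : Set G)).index = (MulAction.stabilizer (ConjAct G) g).index := by
        rw [Subgroup.centralizer_eq_comap_stabilizer]
        exact Subgroup.index_comap_of_surjective _ fun z => ⟨ConjAct.ofConjAct z, rfl⟩
      rw [e, MulAction.index_stabilizer, ← Set.ncard_coe_finset]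
      congr 1
      ext z
      simp only [S, Finset.coe_image, Finset.coe_univ, Set.image_univ, Set.mem_range]
      exact ⟨fun ⟨t, ht⟩ => ⟨ConjAct.toConjAct t, by rw [← ht]; rfl⟩, fun ⟨t, ht⟩ => ⟨ConjAct.ofConjAct t, ht⟩⟩
    have hsub : S (x * y) ⊆ (S x ×ˢ S y).image fun w => w.1 * w.2 := by
      intro z hz
      obtain ⟨t, -, rfl⟩ := Finset.mem_image.mp hz
      exact Finset.mem_image.mpr ⟨(t * x * t⁻¹, t * y * t⁻¹), by simp [S], by group⟩
    have hinj : Set.InjOn (fun w : G × G => w.1 * w.2) (S x ×ˢ S y : Finset (G × G)) := by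
      refine Finset.injOn_of_card_image_eq (le_antisymm Finset.card_image_le ?_)
      rw [Finset.card_product, hS, hS, ← h x y hx hy, ← hS]
      exact Finset.card_le_card hsub
    have e := hinj (x₁ := (x, y)) (x₂ := (x * y * x * (x * y)⁻¹, x * y * y * (x * y)⁻¹))
      (Finset.mem_coe.mpr (Finset.mem_product.mpr ⟨Finset.mem_image.mpr ⟨1, Finset.mem_univ _, by group⟩,
        Finset.mem_image.mpr ⟨1, Finset.mem_univ _, by group⟩⟩))
      (Finset.mem_coe.mpr (Finset.mem_product.mpr ⟨Finset.mem_image.mpr ⟨x * y, Finset.mem_univ _, rfl⟩,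
        Finset.mem_image.mpr ⟨x * y, Finset.mem_univ _, rfl⟩⟩)) (by show x * y = _; group)
    have e1 : x = x * y * x * (x * y)⁻¹ := congrArg Prod.fst e
    have e2 : x * (x * y) = x * (y * x) := by
      have := eq_mul_inv_iff_mul_eq.mp e1
      rw [mul_assoc x y x] at this
      exact this
    exact mul_left_cancel e2
  obtain ⟨P⟩ : Nonempty (Sylow p G) := inferInstance
  have hxp : ∀ u ∈ (P : Subgroup G), ∃ a : ℕ, orderOf u = p ^ a := fun u hu => by
    obtain ⟨a, ha⟩ := IsPGroup.iff_orderOf.mp P.2 ⟨u, hu⟩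
    exact ⟨a, by rw [← ha, Subgroup.orderOf_mk]⟩
  set T : Set G := {y | ∃ q b : ℕ, q.Prime ∧ q ≠ p ∧ orderOf y = q ^ b} with hT
  set K := Subgroup.closure T with hK
  have hKn : K.Normal := by
    refine ⟨fun n hn g => ?_⟩
    have : K ≤ K.comap (MulAut.conj g).toMonoidHom := (Subgroup.closure_le _).mpr fun t ⟨q, b, hq, hqp, ht⟩ =>
      Subgroup.subset_closure ⟨q, b, hq, hqp, by rw [← ht]; exact (MulAut.conj g).orderOf_eq t⟩
    exact this hn
  have hKP : ∀ k ∈ K, ∀ u ∈ (P : Subgroup G), u * k = k * u := by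
    have : K ≤ Subgroup.centralizer ((P : Subgroup G) : Set G) := (Subgroup.closure_le _).mpr fun t ht =>
      Subgroup.mem_centralizer_iff.mpr fun u hu => hcomm u t (hxp u hu) ht
    exact fun k hk u hu => Subgroup.mem_centralizer_iff.mp (this hk) u hu
  have hsup : (P : Subgroup G) ⊔ K = ⊤ := by
    refine Subgroup.eq_top_of_card_eq _ (Nat.dvd_antisymm (Subgroup.card_subgroup_dvd_card _) ?_)
    refine (Nat.dvd_iff_prime_pow_dvd_dvd _ _).mpr fun q k hq hd => ?_
    have := Fact.mk hq
    obtain ⟨Q, hQ⟩ := Sylow.exists_subgroup_card_pow_prime (G := G) q (n := k) hd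
    by_cases e : q = p
    · subst e
      obtain ⟨Q', hQ'⟩ := (IsPGroup.of_card hQ).exists_le_sylow
      rw [← hQ]
      refine (Subgroup.card_dvd_of_le hQ').trans ?_
      rw [Q'.card_eq_multiplicity, ← P.card_eq_multiplicity]
      exact Subgroup.card_dvd_of_le le_sup_left
    · rw [← hQ]
      refine Subgroup.card_dvd_of_le fun z hz => Subgroup.mem_sup_right (Subgroup.subset_closure ?_)
      obtain ⟨b, hb⟩ := IsPGroup.iff_orderOf.mp (IsPGroup.of_card hQ) ⟨z, hz⟩
      exact ⟨q, b, hq, e, by rw [← hb, Subgroup.orderOf_mk]⟩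
  have hPn : (P : Subgroup G).Normal := by
    refine Subgroup.normalizer_eq_top_iff.mp (top_le_iff.mp (hsup ▸ sup_le Subgroup.le_normalizer fun k hk => ?_))
    refine Subgroup.mem_normalizer_fintype fun u hu => ?_
    rw [← hKP k hk u hu, mul_inv_cancel_right]
    exact hu
  -- transfer inside `K`
  obtain ⟨R⟩ : Nonempty (Sylow p K) := inferInstance
  have hRP : ∀ r ∈ (R : Subgroup K), (r : G) ∈ (P : Subgroup G) := fun r hr => by
    obtain ⟨Q, hQ⟩ := (R.2.map K.subtype).exists_le_sylow
    have := Sylow.unique_of_normal P hPn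
    rw [Subsingleton.elim P Q]
    exact hQ ⟨r, hr, rfl⟩
  have hRN : Subgroup.normalizer ((R : Subgroup K) : Set K) ≤ Subgroup.centralizer ((R : Subgroup K) : Set K) :=
    fun k _ => Subgroup.mem_centralizer_iff.mpr fun r hr => Subtype.ext (hKP k k.2 r (hRP r hr))
  have hc := MonoidHom.ker_transferSylow_isComplement' R hRN
  set N := (MonoidHom.transferSylow R hRN).ker
  have hN : ¬ p ∣ Nat.card N := MonoidHom.not_dvd_card_ker_transferSylow R hRN
  have hTN : ∀ t, ∀ ht : t ∈ T, (⟨t, Subgroup.subset_closure ht⟩ : K) ∈ N := by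
    intro t ht
    obtain ⟨q, b, hq, hqp, htq⟩ := id ht
    obtain ⟨i, hi⟩ := IsPGroup.iff_orderOf.mp R.2 (MonoidHom.transferSylow R hRN ⟨t, Subgroup.subset_closure ht⟩)
    have hd := orderOf_map_dvd (MonoidHom.transferSylow R hRN) (⟨t, Subgroup.subset_closure ht⟩ : K)
    rw [hi, Subgroup.orderOf_mk, htq] at hd
    rw [MonoidHom.mem_ker, ← orderOf_eq_one_iff, hi]
    exact Nat.Coprime.eq_one_of_dvd (Nat.Coprime.pow _ _ ((Nat.coprime_primes hpp hq).mpr hqp.symm)) hd
  have hKN : ∀ k (hk : k ∈ K), (⟨k, hk⟩ : K) ∈ N := by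
    have : K ≤ N.map K.subtype := (Subgroup.closure_le _).mpr fun t ht => ⟨_, hTN t ht, rfl⟩
    intro k hk
    obtain ⟨m, hm, hmk⟩ := this hk
    rwa [show (⟨k, hk⟩ : K) = m from Subtype.ext hmk.symm]
  refine ⟨P, K, hPn, hKn, ?_, hsup⟩
  rw [eq_bot_iff]
  intro z hz
  obtain ⟨a, ha⟩ := hxp z hz.1
  have h1 : orderOf (⟨⟨z, hz.2⟩, hKN z hz.2⟩ : N) ∣ Nat.card N := orderOf_dvd_natCard _
  rw [Subgroup.orderOf_mk, Subgroup.orderOf_mk, ha] at h1
  rcases a with _ | a
  · exact Subgroup.mem_bot.mpr (orderOf_eq_one_iff.mp (by rw [ha, pow_zero]))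
  · exact absurd ((dvd_pow_self p (by omega)).trans h1) hN

end Cfsg.Agent.S3987
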