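import Cfsg.Statements.S3994
import Cfsg.Agent.Lib.Struct.FrobeniusCount

set_option autoImplicit false
open Cfsg

namespace Cfsg.Agent.S3994

/-- Let G be a finite group and n a positive integer. The number of elements of G whose order is divisible by n is either 0 or divisible by the largest divisor of the order of G that is coprime to n. -/
theorem result {G : Type*} [Group G] [Finite G] (n : ℕ) (hn : 0 < n) :
    Nat.card {g : G // n ∣ orderOf g} = 0 ∨
      (Nat.card G / Nat.gcd (Nat.card G) (n ^ Nat.card G)) ∣ Nat.card {g : G // n ∣ orderOf g} := by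
  classical
  by_cases hnG : n ∣ Nat.card G
  swap
  · left
    rw [Nat.card_eq_zero]
    exact Or.inl ⟨fun g => hnG (g.2.trans (orderOf_dvd_natCard g.1))⟩
  right
  have hN : 0 < Nat.card G := Nat.card_pos
  obtain ⟨o, ho⟩ : ∃ o, o = Nat.gcd (Nat.card G) (n ^ Nat.card G) := ⟨_, rfl⟩
  rw [← ho]
  obtain ⟨r, hr⟩ : o ∣ Nat.card G := ho ▸ Nat.gcd_dvd_left _ _
  have ho0 : 0 < o := ho ▸ Nat.gcd_pos_of_pos_left _ hN
  rw [show Nat.card G / o = r by rw [hr, Nat.mul_div_cancel_left r ho0]]
  have hcop : o.Coprime r := by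
    refine Nat.coprime_of_dvd fun q hq hqo hqr => ?_
    have hqn : q ∣ n := hq.dvd_of_dvd_pow (hqo.trans (ho ▸ Nat.gcd_dvd_right _ _))
    have hv : q ^ (Nat.card G).factorization q ∣ o := by
      rw [ho]
      refine Nat.dvd_gcd (Nat.ordProj_dvd _ _) ?_
      exact (pow_dvd_pow q (Nat.factorization_lt q hN.ne').le).trans (pow_dvd_pow_of_dvd hqn _)
    have h1 : q ^ ((Nat.card G).factorization q + 1) ∣ Nat.card G := by
      have h2 := mul_dvd_mul hv hqr
      rw [← pow_succ, ← hr] at h2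
      exact h2
    rw [hq.pow_dvd_iff_le_factorization hN.ne'] at h1
    omega
  have hno : n ∣ o := by
    rw [ho]; exact Nat.dvd_gcd hnG (dvd_pow_self n hN.ne')
  obtain ⟨e, heo, her⟩ := Nat.chineseRemainder hcop 1 0
  have key := Cfsg.Agent.Struct.FrobeniusCount.dvd_card_good (G := G) o r e hcop heo her ⟨o, by rw [hr, mul_comm]⟩
    (fun u => u ^ o = 1 ∧ n ∣ orderOf u)
    (fun u g h => ⟨by rw [conj_pow, h.1, mul_one, mul_inv_cancel], by
      rw [show g * u * g⁻¹ = MulAut.conj g u from rfl, MulEquiv.orderOf_eq]; exact h.2⟩)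
    (fun u h => h.1)
    (fun u hu => by
      have h := Cfsg.Agent.Struct.FrobeniusCount.dvd_card_sol _ (Subgroup.centralizer ({u} : Set G)) rfl
        (Nat.gcd r (Nat.card (Subgroup.centralizer ({u} : Set G)))) (Nat.gcd_dvd_right _ _)
      refine h.trans (dvd_of_eq (Nat.card_congr (Equiv.subtypeEquivRight fun x => ⟨fun hx => (pow_gcd_eq_one.1 hx).1,
        fun hx => pow_gcd_eq_one.2 ⟨hx, pow_card_eq_one'⟩⟩))))
  refine key.trans (dvd_of_eq (Nat.card_congr (Equiv.subtypeEquivRight fun g => ?_)))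
  have hg : g ^ (o * r) = 1 := by rw [← hr]; exact pow_card_eq_one'
  constructor
  · rintro ⟨-, -, h⟩
    exact h.trans (orderOf_pow_dvd e)
  · intro h
    refine ⟨hg, ?_, ?_⟩
    · obtain ⟨c, hc⟩ := Nat.modEq_zero_iff_dvd.1 her
      rw [← pow_mul, hc, show r * c * o = o * r * c by ring, pow_mul, hg, one_pow]
    · have hne : Nat.Coprime e n := by
        rw [Nat.Coprime, (heo.of_dvd hno).gcd_eq, Nat.gcd_one_left]
      have h1 : orderOf g ∣ orderOf (g ^ e) * e := by
        rw [orderOf_dvd_iff_pow_eq_one, mul_comm, pow_mul, pow_orderOf_eq_one]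
      exact hne.symm.dvd_of_dvd_mul_right (h.trans h1)

end Cfsg.Agent.S3994
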