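import Cfsg.Statements.S3995
import Cfsg.Agent.Lib.Struct.FrobeniusCount
import Cfsg.Agent.Lib.Struct.UniqueOrderP

set_option autoImplicit false
set_option linter.style.haveILetI false
open Cfsg
open Subgroup

namespace Cfsg.Agent.S3995

universe u

theorem exists_small_copy (P : Type u) [Group P] [Finite P] : ∃ (Q : Type) (_ : Group Q) (_ : Finite Q),
    Nonempty (P ≃* Q) := by
  let e := (Finite.equivFin P).permCongrHom.toMonoidHom.comp (MulAction.toPermHom P P)
  have he : Function.Injective e := (Finite.equivFin P).permCongrHom.injective.comp MulAction.toPerm_injective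
  exact ⟨e.range, inferInstance, inferInstance, ⟨MonoidHom.ofInjective he⟩⟩

variable {G : Type u} [Group G] [Finite G]
set_option linter.unusedSectionVars false

/-- The number of elements of order `m`. -/
noncomputable def cnt (G : Type u) [Group G] (m : ℕ) : ℕ := Nat.card {g : G // orderOf g = m}

theorem dvd_sum_cnt (m : ℕ) (hm : m ∣ Nat.card G) : m ∣ ∑ d ∈ m.divisors, cnt G d := by
  classical
  haveI := Fintype.ofFinite G
  have h := Cfsg.Agent.Struct.FrobeniusCount.dvd_card_sol (Nat.card G) G rfl m hm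
  have hm0 : m ≠ 0 := fun h0 => Nat.card_pos.ne' (zero_dvd_iff.1 (h0 ▸ hm))
  rw [Nat.card_eq_fintype_card, Fintype.card_subtype] at h
  refine h.trans (dvd_of_eq ?_)
  convert (sum_card_orderOf_eq_card_pow_eq_one (G := G) hm0).symm using 2 with d
  · simp [cnt, Nat.card_eq_fintype_card, Fintype.card_subtype]

theorem totient_dvd_cnt (m : ℕ) : m.totient ∣ cnt G m :=
  Cfsg.Agent.Struct.FrobeniusCount.totient_dvd_card (fun g : G => orderOf g = m) m
    (fun g h hgh hg => by rw [← Nat.card_zpowers, ← hgh, Nat.card_zpowers, hg]) (fun g hg => hg ▸ dvd_rfl)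

theorem cnt_one : cnt G 1 = 1 := by
  unfold cnt
  rw [Nat.card_eq_one_iff_unique]
  exact ⟨⟨fun a b => Subtype.ext ((orderOf_eq_one_iff.1 a.2).trans (orderOf_eq_one_iff.1 b.2).symm)⟩,
    ⟨⟨1, orderOf_one⟩⟩⟩

theorem cnt_eq_zero {m : ℕ} (h : ¬ ∃ g : G, orderOf g = m) : cnt G m = 0 := by
  haveI : IsEmpty {g : G // orderOf g = m} := ⟨fun g => h ⟨g.1, g.2⟩⟩
  exact Nat.card_of_isEmpty

theorem exists_of_dvd {a d : ℕ} (h : ∃ g : G, orderOf g = a) (hd : d ∣ a) : ∃ g : G, orderOf g = d := by
  obtain ⟨g, rfl⟩ := h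
  exact ⟨g ^ (orderOf g / d), orderOf_pow_orderOf_div (orderOf_pos g).ne' hd⟩


/-- Let G be a finite group such that the numbers of elements of each order that occurs in G (the numbers #{g : o(g) = m}, m ranging over the element orders of G) take exactly two values, 1 and some n ≠ 1. Then either G is a p-group of exponent p and order at least 3 for some prime p, or G is the quaternion group of order 8, or G is cyclic of order 4, or G ≅ Z₂ × P for a p-group P of exponent p with p an odd prime. -/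
theorem result {G : Type*} [Group G] [Finite G] (n : ℕ) (hn : n ≠ 1) (h : ((fun m : ℕ => Nat.card {g : G // orderOf g = m}) '' Set.range (orderOf : G → ℕ)) = {1, n}) :
    (∃ p : ℕ, p.Prime ∧ IsPGroup p G ∧ 3 ≤ Nat.card G ∧ Monoid.exponent G = p) ∨
      Nonempty (G ≃* QuaternionGroup 2) ∨ (IsCyclic G ∧ Nat.card G = 4) ∨
      (∃ (p : ℕ) (P : Type) (_ : Group P) (_ : Finite P), p.Prime ∧ p ≠ 2 ∧ IsPGroup p P ∧ Monoid.exponent P = p ∧
        Nonempty (G ≃* Multiplicative (ZMod 2) × P)) := by
  classical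
  haveI := Fintype.ofFinite G
  have hc : ∀ m, (∃ g : G, orderOf g = m) → cnt G m = 1 ∨ cnt G m = n := by
    rintro m ⟨g, rfl⟩
    exact (h.le ⟨orderOf g, ⟨g, rfl⟩, rfl⟩ : cnt G (orderOf g) ∈ ({1, n} : Set ℕ))
  have hbig : ∀ m, 2 < m → (∃ g : G, orderOf g = m) → cnt G m = n ∧ m.totient ∣ n ∧ Even n := by
    intro m hm hg
    have hd := totient_dvd_cnt (G := G) m
    have he := Nat.totient_even hm
    rcases hc m hg with h1 | h1
    · rw [h1, Nat.dvd_one] at hd
      rw [hd] at he
      exact absurd he Nat.not_even_one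
    · exact ⟨h1, h1 ▸ hd, (h1 ▸ hd : m.totient ∣ n).elim fun c hc => hc ▸ he.mul_right c⟩
  have hinv : 2 ∣ Nat.card G → Odd (cnt G 2) := by
    intro h2
    have := dvd_sum_cnt 2 h2
    rw [Nat.prime_two.divisors, Finset.sum_pair one_lt_two.ne, cnt_one] at this
    rw [Nat.odd_iff]; omega
  have huniq : 2 ∣ Nat.card G → Even n → cnt G 2 = 1 := by
    intro h2 hn2
    obtain ⟨g, hg⟩ := exists_prime_orderOf_dvd_card' (G := G) 2 (hp := ⟨Nat.prime_two⟩) h2
    rcases hc 2 ⟨g, hg⟩ with h1 | h1
    · exact h1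
    · exact absurd hn2 (Nat.not_even_iff_odd.2 (h1 ▸ hinv h2))
  have hone : ∀ g w : G, orderOf g = 2 → cnt G 2 = 1 → orderOf w = 2 → g = w := by
    intro g w hg h1 hw
    haveI := (Nat.card_eq_one_iff_unique.1 h1).1
    exact congrArg Subtype.val (Subsingleton.elim (⟨g, hg⟩ : {g : G // orderOf g = 2}) ⟨w, hw⟩)
  by_cases hodd : ∃ p, p.Prime ∧ p ≠ 2 ∧ p ∣ Nat.card G
  · obtain ⟨p, hp, hp2, hpG⟩ := hodd
    haveI : Fact p.Prime := ⟨hp⟩
    have hp3 : 2 < p := lt_of_le_of_ne hp.two_le (Ne.symm hp2)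
    obtain ⟨hcp, -, hne⟩ := hbig p hp3 (exists_prime_orderOf_dvd_card' p hpG)
    have hpn : p ∣ 1 + n := by
      have := dvd_sum_cnt p hpG
      rwa [hp.divisors, Finset.sum_pair hp.one_lt.ne, cnt_one, hcp] at this
    have hpsq : ¬ ∃ g : G, orderOf g = p ^ 2 := by
      intro hg
      obtain ⟨-, hd, -⟩ := hbig (p ^ 2) (hp3.trans_le (Nat.le_self_pow two_ne_zero p)) hg
      rw [Nat.totient_prime_pow hp two_pos] at hd
      have hpn' : p ∣ n := (dvd_mul_of_dvd_left (dvd_pow_self p (by norm_num)) _).trans hd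
      exact hp.not_dvd_one ((Nat.dvd_add_left hpn').1 hpn)
    have honly : ∀ q, q.Prime → q ∣ Nat.card G → q = 2 ∨ q = p := by
      intro q hq hqG
      by_contra hcon
      simp only [not_or] at hcon
      haveI : Fact q.Prime := ⟨hq⟩
      have hq3 : 2 < q := lt_of_le_of_ne hq.two_le (Ne.symm hcon.1)
      obtain ⟨hcq, -, -⟩ := hbig q hq3 (exists_prime_orderOf_dvd_card' q hqG)
      have hcop : p.Coprime q := (Nat.coprime_primes hp hq).2 (Ne.symm hcon.2)
      have h1 := dvd_sum_cnt (p * q) (hcop.mul_dvd_of_dvd_of_dvd hpG hqG)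
      have hdiv : (p * q).divisors = {1, p, q, p * q} := by
        ext d
        rw [Nat.mem_divisors, Nat.dvd_mul]
        simp only [Finset.mem_insert, Finset.mem_singleton]
        constructor
        · rintro ⟨⟨a, b, ha, hb, rfl⟩, -⟩
          rcases hp.eq_one_or_self_of_dvd a ha with rfl | rfl <;>
            rcases hq.eq_one_or_self_of_dvd b hb with rfl | rfl <;> simp
        · refine fun hd => ⟨?_, mul_ne_zero hp.ne_zero hq.ne_zero⟩
          rcases hd with rfl | rfl | rfl | rfl
          · exact ⟨1, 1, one_dvd _, one_dvd _, one_mul 1⟩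
          · exact ⟨_, 1, dvd_rfl, one_dvd _, mul_one _⟩
          · exact ⟨1, _, one_dvd _, dvd_rfl, one_mul _⟩
          · exact ⟨_, _, dvd_rfl, dvd_rfl, rfl⟩
      have hpq : p ≠ q := Ne.symm hcon.2
      have h2p := hp.one_lt
      have h2q := hq.one_lt
      have e1 : p < p * q := lt_mul_of_one_lt_right hp.pos h2q
      have e2 : q < p * q := lt_mul_of_one_lt_left hq.pos h2p
      rw [hdiv, Finset.sum_insert (by simp; omega), Finset.sum_insert (by simp; omega),
        Finset.sum_pair (by omega), cnt_one, hcp, hcq] at h1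
      have h1p : p ∣ 1 + (n + (n + cnt G (p * q))) := (dvd_mul_right p q).trans h1
      by_cases hg : ∃ g : G, orderOf g = p * q
      · rw [(hbig (p * q) (by omega) hg).1] at h1p
        have : p ∣ 2 := by
          have h3 : p ∣ 3 * (1 + n) := hpn.mul_left 3
          have h4 : 3 * (1 + n) = (1 + (n + (n + n))) + 2 := by ring
          rw [h4] at h3
          exact (Nat.dvd_add_right h1p).1 h3
        exact hp2 ((Nat.prime_dvd_prime_iff_eq hp Nat.prime_two).1 this)
      · rw [cnt_eq_zero hg, add_zero] at h1p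
        have : p ∣ 1 := by
          have h3 : p ∣ 2 * (1 + n) := hpn.mul_left 2
          have h4 : 2 * (1 + n) = (1 + (n + n)) + 1 := by ring
          rw [h4] at h3
          exact (Nat.dvd_add_right h1p).1 h3
        exact hp.not_dvd_one this
    by_cases h2 : 2 ∣ Nat.card G
    swap
    · have hP : IsPGroup p G := by
        refine IsPGroup.iff_card.2 ⟨_, Nat.eq_prime_pow_of_unique_prime_dvd Nat.card_pos.ne' ?_⟩
        intro q hq hqG
        rcases honly q hq hqG with rfl | rfl
        · exact absurd hqG h2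
        · rfl
      refine Or.inl ⟨p, hp, hP, le_trans hp3 (Nat.le_of_dvd Nat.card_pos hpG), ?_⟩
      refine Nat.dvd_antisymm (Monoid.exponent_dvd_of_forall_pow_eq_one fun g => ?_) ?_
      · obtain ⟨k, hk⟩ := IsPGroup.iff_orderOf.1 hP g
        refine orderOf_dvd_iff_pow_eq_one.1 (hk ▸ (pow_dvd_pow p (m := k) (n := 1) ?_).trans (pow_one p).dvd)
        by_contra hk1
        exact hpsq (exists_of_dvd ⟨g, hk⟩ (pow_dvd_pow p (by omega)))
      · obtain ⟨g, hg⟩ := exists_prime_orderOf_dvd_card' p hpG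
        exact hg ▸ Monoid.order_dvd_exponent g
    haveI : Fact (Nat.Prime 2) := ⟨Nat.prime_two⟩
    obtain ⟨z, hz⟩ := exists_prime_orderOf_dvd_card' (G := G) 2 h2
    have h21 := huniq h2 hne
    have hzc : ∀ g, g * z = z * g := fun g => mul_inv_eq_iff_eq_mul.1
      (hone z _ hz h21 (((MulAut.conj g).orderOf_eq z).trans hz)).symm
    have hcop2 : Nat.Coprime 2 p := (Nat.coprime_primes Nat.prime_two hp).2 (Ne.symm hp2)
    have h2p : cnt G (2 * p) = n := by
      obtain ⟨g, hg⟩ := exists_prime_orderOf_dvd_card' p hpG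
      refine (hbig (2 * p) (by omega) ⟨z * g, ?_⟩).1
      rw [(show Commute z g from (hzc g).symm).orderOf_mul_eq_mul_orderOf_of_coprime
        (by rw [hz, hg]; exact hcop2), hz, hg]
    have h4 : ¬ ∃ g : G, orderOf g = 2 ^ 2 := by
      intro hg4
      obtain ⟨g, hg⟩ := hg4
      have h4G : 4 ∣ Nat.card G := (show 4 = orderOf g by rw [hg]; rfl) ▸ _root_.orderOf_dvd_natCard g
      have hc4 : cnt G 4 = n := (hbig 4 (by norm_num) ⟨g, by rw [hg]; rfl⟩).1
      have hcop4 : Nat.Coprime 4 p := hcop2.pow_left 2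
      have h1 := dvd_sum_cnt (4 * p) (hcop4.mul_dvd_of_dvd_of_dvd h4G hpG)
      have hdiv : (4 * p).divisors = {1, 2, 4, p, 2 * p, 4 * p} := by
        ext d
        rw [Nat.mem_divisors, Nat.dvd_mul]
        simp only [Finset.mem_insert, Finset.mem_singleton]
        constructor
        · rintro ⟨⟨a, b, ha, hb, rfl⟩, -⟩
          obtain ⟨i, hi, rfl⟩ := (Nat.dvd_prime_pow Nat.prime_two).1 (show a ∣ 2 ^ 2 from ha)
          rcases hp.eq_one_or_self_of_dvd b hb with rfl | rfl <;> interval_cases i <;> simp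
        · refine fun hd => ⟨?_, by omega⟩
          rcases hd with rfl | rfl | rfl | rfl | rfl | rfl
          · exact ⟨1, 1, one_dvd _, one_dvd _, one_mul 1⟩
          · exact ⟨2, 1, by norm_num, one_dvd _, mul_one _⟩
          · exact ⟨4, 1, dvd_rfl, one_dvd _, mul_one _⟩
          · exact ⟨1, _, one_dvd _, dvd_rfl, one_mul _⟩
          · exact ⟨2, _, by norm_num, dvd_rfl, rfl⟩
          · exact ⟨_, _, dvd_rfl, dvd_rfl, rfl⟩
      have hp4 : p ≠ 4 := fun h => by rw [h] at hp; exact absurd hp (by norm_num)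
      rw [hdiv, Finset.sum_insert (by simp; omega), Finset.sum_insert (by simp; omega),
        Finset.sum_insert (by simp; omega), Finset.sum_insert (by simp; omega),
        Finset.sum_pair (by omega), cnt_one, h21, hc4, hcp, h2p] at h1
      have h1p : p ∣ 1 + (1 + (n + (n + (n + cnt G (4 * p))))) := (dvd_mul_left p 4).trans h1
      by_cases hg4p : ∃ w : G, orderOf w = 4 * p
      · rw [(hbig (4 * p) (by omega) hg4p).1] at h1p
        have : p ∣ 2 := by
          have h3 : p ∣ 4 * (1 + n) := hpn.mul_left 4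
          rw [show 4 * (1 + n) = (1 + (1 + (n + (n + (n + n))))) + 2 by ring] at h3
          exact (Nat.dvd_add_right h1p).1 h3
        exact hp2 ((Nat.prime_dvd_prime_iff_eq hp Nat.prime_two).1 this)
      · rw [cnt_eq_zero hg4p, add_zero] at h1p
        have : p ∣ 1 := by
          have h3 : p ∣ 3 * (1 + n) := hpn.mul_left 3
          rw [show 3 * (1 + n) = (1 + (1 + (n + (n + n)))) + 1 by ring] at h3
          exact (Nat.dvd_add_right h1p).1 h3
        exact hp.not_dvd_one this
    -- the structure `Z₂ × P`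
    obtain ⟨P⟩ := Sylow.nonempty (p := p) (G := G)
    obtain ⟨Q⟩ := Sylow.nonempty (p := 2) (G := G)
    have hQz : (Q : Subgroup G) ≤ zpowers z := by
      intro w hw
      obtain ⟨i, hi⟩ := IsPGroup.iff_orderOf.1 Q.isPGroup' ⟨w, hw⟩
      rw [Subgroup.orderOf_mk] at hi
      rcases Nat.lt_or_ge i 2 with h' | h'
      · interval_cases i
        · rw [pow_zero, orderOf_eq_one_iff] at hi
          exact hi ▸ one_mem _
        · rw [pow_one] at hi
          exact hone z w hz h21 hi ▸ mem_zpowers z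
      · exact absurd (exists_of_dvd ⟨w, hi⟩ (pow_dvd_pow 2 h')) h4
    have hQc : Nat.card (Q : Subgroup G) = 2 := by
      refine le_antisymm ((card_le_of_le hQz).trans (le_of_eq (by rw [Nat.card_zpowers, hz])))
        (Nat.le_of_dvd Nat.card_pos (Q.dvd_card_of_dvd_card h2))
    have hidx : (P : Subgroup G).index = 2 := by
      have hdvd : (P : Subgroup G).index ∣ 2 := by
        rw [← hQc]
        refine ((Nat.Coprime.dvd_mul_right (k := (P : Subgroup G).index) (n := (Q : Subgroup G).index) ?_).1 ?_)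
        · rw [Nat.coprime_comm]
          by_contra hcon
          obtain ⟨r, hr, hr1, hr2⟩ := Nat.Prime.not_coprime_iff_dvd.1 hcon
          rcases honly r hr (hr2.trans (index_dvd_card _)) with rfl | rfl
          · exact Q.not_dvd_index hr1
          · exact P.not_dvd_index hr2
        · rw [card_mul_index]; exact index_dvd_card _
      rcases Nat.prime_two.eq_one_or_self_of_dvd _ hdvd with h' | h'
      · exfalso
        rw [index_eq_one] at h'
        have hPG : IsPGroup p G := by
          have := P.isPGroup'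
          rw [h'] at this
          exact this.of_equiv topEquiv
        obtain ⟨i, hi⟩ := IsPGroup.iff_card.1 hPG
        exact hp2 ((Nat.prime_dvd_prime_iff_eq Nat.prime_two hp).1 (Nat.prime_two.dvd_of_dvd_pow (hi ▸ h2))).symm
      · exact h'
    obtain ⟨P', iP, iPf, ⟨e⟩⟩ := exists_small_copy ↥(P : Subgroup G)
    refine Or.inr (Or.inr (Or.inr ⟨p, P', iP, iPf, hp, hp2, P.isPGroup'.of_equiv e, ?_, ?_⟩))
    · rw [← Monoid.exponent_eq_of_mulEquiv e]
      refine Nat.dvd_antisymm (Monoid.exponent_dvd_of_forall_pow_eq_one fun g => ?_) ?_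
      · obtain ⟨k, hk⟩ := IsPGroup.iff_orderOf.1 P.isPGroup' g
        refine orderOf_dvd_iff_pow_eq_one.1 (hk ▸ (pow_dvd_pow p (m := k) (n := 1) ?_).trans (pow_one p).dvd)
        by_contra hk1
        rw [← Subgroup.orderOf_coe] at hk
        exact hpsq (exists_of_dvd ⟨(g : G), hk⟩ (pow_dvd_pow p (by omega)))
      · obtain ⟨g, hg⟩ := exists_prime_orderOf_dvd_card' (G := (P : Subgroup G)) p (P.dvd_card_of_dvd_card hpG)
        have h9 := Monoid.order_dvd_exponent g
        rwa [hg] at h9
    · have hzP : z ∉ (P : Subgroup G) := fun hzP => by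
        have hd := Subgroup.orderOf_dvd_natCard (P : Subgroup G) hzP
        obtain ⟨i, hi⟩ := IsPGroup.iff_card.1 P.isPGroup'
        rw [hz, hi] at hd
        exact hp2 ((Nat.prime_dvd_prime_iff_eq Nat.prime_two hp).1 (Nat.prime_two.dvd_of_dvd_pow hd)).symm
      let Ψ : zpowers z × (P : Subgroup G) →* G :=
        MonoidHom.noncommCoprod (zpowers z).subtype (P : Subgroup G).subtype (fun a b => by
          obtain ⟨i, hi⟩ := a.2
          show Commute (a : G) b
          rw [← hi]
          exact (show Commute z (b : G) from (hzc b).symm).zpow_left i)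
      have hinj : Function.Injective Ψ := by
        refine (injective_iff_map_eq_one Ψ).2 ?_
        rintro ⟨⟨a, ha⟩, ⟨b, hb⟩⟩ hab
        have hab' : a * b = 1 := hab
        have ha' : a ∈ (P : Subgroup G) := by rw [eq_inv_of_mul_eq_one_left hab']; exact inv_mem hb
        have ha1 : a = 1 := by
          by_contra ha1
          have h3 : zpowers a = zpowers z := eq_of_le_of_card_ge (zpowers_le.2 ha) (by
            rw [Nat.card_zpowers, Nat.card_zpowers, hz]
            have := orderOf_eq_one_iff.not.2 ha1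
            have := orderOf_pos a
            omega)
          exact hzP ((zpowers_le.2 ha') (h3 ▸ mem_zpowers z))
        subst ha1
        rw [one_mul] at hab'
        subst hab'
        rfl
      have hbij : Function.Bijective Ψ := (Nat.bijective_iff_injective_and_card _).2 ⟨hinj, by
        rw [Nat.card_prod, Nat.card_zpowers, hz, ← (P : Subgroup G).card_mul_index, hidx, mul_comm]⟩
      haveI : IsCyclic (zpowers z) := inferInstance
      have hc2 : IsCyclic (Multiplicative (ZMod 2)) := inferInstance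
      exact ⟨(MulEquiv.ofBijective Ψ hbij).symm.trans (MulEquiv.prodCongr
        (mulEquivOfCyclicCardEq (by rw [Nat.card_zpowers, hz, Nat.card_congr Multiplicative.toAdd, Nat.card_zmod])) e)⟩
  -- a `2`-group
  have hP : IsPGroup 2 G := by
    refine IsPGroup.iff_card.2 ⟨_, Nat.eq_prime_pow_of_unique_prime_dvd Nat.card_pos.ne' ?_⟩
    intro q hq hqG
    by_contra hq2
    exact hodd ⟨q, hq, hq2, hqG⟩
  haveI : Fact (Nat.Prime 2) := ⟨Nat.prime_two⟩
  haveI : Nontrivial G := by
    by_contra hcon
    rw [not_nontrivial_iff_subsingleton] at hcon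
    have hmem : n ∈ ((fun m : ℕ => Nat.card {g : G // orderOf g = m}) '' Set.range (orderOf : G → ℕ)) :=
      h.ge (Or.inr rfl)
    obtain ⟨_, ⟨g, rfl⟩, hg⟩ := hmem
    rw [Subsingleton.elim g 1, orderOf_one] at hg
    exact hn (hg ▸ cnt_one)
  obtain ⟨N, hN0, hN⟩ := hP.nontrivial_iff_card.1 inferInstance
  have h2G : 2 ∣ Nat.card G := hN ▸ dvd_pow_self 2 hN0.ne'
  obtain ⟨z, hz⟩ := exists_prime_orderOf_dvd_card' (G := G) 2 h2G
  by_cases h4 : ∃ g : G, orderOf g = 4
  swap
  · have hexp : ∀ g : G, g ^ 2 = 1 := by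
      intro g
      obtain ⟨k, hk⟩ := IsPGroup.iff_orderOf.1 hP g
      refine orderOf_dvd_iff_pow_eq_one.1 (hk ▸ (pow_dvd_pow 2 (m := k) (n := 1) ?_).trans (pow_one 2).dvd)
      by_contra hk1
      exact h4 (exists_of_dvd ⟨g, hk⟩ (pow_dvd_pow 2 (show 2 ≤ k by omega)))
    refine Or.inl ⟨2, Nat.prime_two, hP, ?_, Nat.dvd_antisymm (Monoid.exponent_dvd_of_forall_pow_eq_one hexp)
      (hz ▸ Monoid.order_dvd_exponent z)⟩
    by_contra hlt
    have hmem : n ∈ ((fun m : ℕ => Nat.card {g : G // orderOf g = m}) '' Set.range (orderOf : G → ℕ)) :=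
      h.ge (Or.inr rfl)
    obtain ⟨_, ⟨g, rfl⟩, hg⟩ := hmem
    change cnt G (orderOf g) = n at hg
    rcases (Nat.dvd_prime Nat.prime_two).1 (orderOf_dvd_of_pow_eq_one (hexp g)) with h' | h'
    · rw [h', cnt_one] at hg; exact hn hg.symm
    · rw [h'] at hg
      have h1 : cnt G 2 ≤ Nat.card {g : G // g ≠ 1} :=
        Nat.card_le_card_of_injective (fun w => (⟨w.1, fun he => by
          have h5 := w.2
          rw [he, orderOf_one] at h5
          exact absurd h5 (by norm_num)⟩ : {g : G // g ≠ 1})) (fun a b hab => Subtype.ext (congrArg Subtype.val hab :))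
      rw [Nat.card_eq_fintype_card (α := {g : G // g ≠ 1}), Fintype.card_subtype_compl,
        Fintype.card_subtype_eq, ← Nat.card_eq_fintype_card, hg] at h1
      have h3 : Odd n := hg ▸ hinv h2G
      rw [Nat.odd_iff] at h3
      omega
  obtain ⟨hc4, -, hne⟩ := hbig 4 (by norm_num) h4
  have h21 := huniq h2G hne
  rcases Cfsg.Agent.Struct.cyclic_or_quaternion hP (fun x y hx hy => by
    rcases eq_or_ne y 1 with rfl | hy1
    · exact one_mem _
    · rw [hone x y hx h21 (orderOf_eq_prime hy hy1)]; exact mem_zpowers y) with hcyc | ⟨-, k, hk, ⟨e⟩⟩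
  · refine Or.inr (Or.inr (Or.inl ⟨hcyc, ?_⟩))
    obtain ⟨g, hg⟩ := h4
    have hN2 : 2 ≤ N := by
      have h4' := Nat.le_of_dvd Nat.card_pos (_root_.orderOf_dvd_natCard g)
      rw [hg, hN] at h4'
      by_contra hN'
      have : 2 ^ N ≤ 2 ^ 1 := Nat.pow_le_pow_right two_pos (by omega)
      omega
    rw [hN]
    by_contra hne4
    have hN3 : 3 ≤ N := by
      by_contra hN3
      exact hne4 (by rw [show N = 2 by omega]; rfl)
    obtain ⟨a, ha⟩ := hcyc.exists_generator
    have hcy : ∀ d, d ∣ Nat.card G → cnt G d = d.totient := by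
      intro d hd
      rw [cnt, Nat.card_eq_fintype_card, Fintype.card_subtype]
      exact IsCyclic.card_orderOf_eq_totient (by rwa [← Nat.card_eq_fintype_card])
    have h8 : (8 : ℕ) ∣ Nat.card G := hN ▸ (pow_dvd_pow 2 hN3 : 2 ^ 3 ∣ 2 ^ N)
    have e8 := (hbig 8 (by norm_num) (exists_of_dvd ⟨a, (orderOf_eq_card_of_forall_mem_zpowers ha)⟩ h8)).1
    rw [hcy 8 h8] at e8
    rw [hcy 4 ((by norm_num : 4 ∣ 8).trans h8)] at hc4
    rw [show Nat.totient 8 = 4 by decide] at e8
    rw [show Nat.totient 4 = 2 by decide] at hc4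
    omega
  · refine Or.inr (Or.inl ?_)
    rcases eq_or_lt_of_le hk with h1 | h1
    · exact ⟨e.trans (by rw [← h1]; exact MulEquiv.refl _)⟩
    exfalso
    haveI : NeZero (2 ^ k) := ⟨pow_ne_zero _ two_ne_zero⟩
    have hk2 : 2 ^ 2 ≤ 2 ^ k := Nat.pow_le_pow_right two_pos h1
    -- elements of order four
    have e4 : 2 * 2 ^ k ≤ cnt G 4 := by
      calc 2 * 2 ^ k = Nat.card (ZMod (2 * 2 ^ k)) := (Nat.card_zmod _).symm
        _ ≤ Nat.card {g : G // orderOf g = 4} := Nat.card_le_card_of_injective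
            (fun j => (⟨e.symm (QuaternionGroup.xa j), by rw [MulEquiv.orderOf_eq, QuaternionGroup.orderOf_xa]⟩ :
              {g : G // orderOf g = 4}))
            (fun a b hab => by
              have := congrArg e (congrArg Subtype.val hab)
              simpa using this)
    have h8e : ∃ g : G, orderOf g = 8 := by
      refine exists_of_dvd ⟨e.symm (QuaternionGroup.a 1), rfl⟩ ?_
      rw [MulEquiv.orderOf_eq, QuaternionGroup.orderOf_a_one]
      exact (pow_dvd_pow 2 (show 3 ≤ k + 1 by omega) : 2 ^ 3 ∣ 2 ^ (k + 1)).trans (by rw [pow_succ, mul_comm])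
    have e8 := (hbig 8 (by norm_num) h8e).1
    have h8le : cnt G 8 ≤ 4 := by
      let a₁ : G := e.symm (QuaternionGroup.a 1)
      have hcard : Nat.card (zpowers a₁) = 2 * 2 ^ k := by
        rw [Nat.card_zpowers, MulEquiv.orderOf_eq, QuaternionGroup.orderOf_a_one]
      have hmem : ∀ g : G, orderOf g = 8 → g ∈ zpowers a₁ := by
        intro g hg
        rw [← e.orderOf_eq] at hg
        rcases hq : e g with j | j
        · refine ⟨(j.val : ℤ), ?_⟩
          show a₁ ^ (j.val : ℤ) = g
          rw [zpow_natCast, ← map_pow, QuaternionGroup.a_one_pow, ZMod.natCast_zmod_val, ← hq, e.symm_apply_apply]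
        · rw [hq, QuaternionGroup.orderOf_xa] at hg
          exact absurd hg (by norm_num)
      haveI := Fintype.ofFinite (zpowers a₁)
      have h1 : cnt G 8 = Nat.card {x : zpowers a₁ // orderOf x = 8} :=
        Nat.card_congr
          { toFun := fun g => ⟨⟨g.1, hmem g.1 g.2⟩, by rw [Subgroup.orderOf_mk]; exact g.2⟩
            invFun := fun x => ⟨x.1, by rw [Subgroup.orderOf_coe]; exact x.2⟩
            left_inv := fun g => rfl
            right_inv := fun x => rfl }
      rw [h1, Nat.card_eq_fintype_card, Fintype.card_subtype, IsCyclic.card_orderOf_eq_totient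
        (by rw [← Nat.card_eq_fintype_card, hcard]
            exact (pow_dvd_pow 2 (show 3 ≤ k + 1 by omega) : 2 ^ 3 ∣ 2 ^ (k + 1)).trans (by rw [pow_succ, mul_comm]))]
      decide
    omega

end Cfsg.Agent.S3995
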