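import Cfsg.Statements.S3997
import Cfsg.Agent.Lib.Struct.OrderType

set_option autoImplicit false
open Cfsg
open Cfsg.Agent.Struct

namespace Cfsg.Agent.S3997

/-- Let G and H be finite groups with the same order type: for every m they have the same number of elements of order m. If G is nilpotent then so is H. -/
theorem result {G H : Type*} [Group G] [Finite G] [Group H] [Finite H] (hT : (∀ m : ℕ, Nat.card {g : G // orderOf g = m} = Nat.card {h : H // orderOf h = m})) (hG : Group.IsNilpotent G) :
    Group.IsNilpotent H := by
  classical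
  have h := (Group.isNilpotent_of_finite_tfae (G := H)).out 0 3
  rw [h]
  intro q _ Q
  haveI := hG
  obtain ⟨P⟩ := (inferInstance : Nonempty (Sylow q G))
  have hPn : (P : Subgroup G).Normal :=
    (((Group.isNilpotent_of_finite_tfae (G := G)).out 0 3 :) : Group.IsNilpotent G ↔ ∀ (p : ℕ) (_ : Fact p.Prime) (P : Sylow p G), (P : Subgroup G).Normal).1 hG q inferInstance P
  have hP : IsPiEltSubgroup (fun p => p = q) (P : Subgroup G) := by
    intro x
    refine ⟨fun hx p hp hd => ?_, fun hx => ?_⟩
    · have h1 : p ∣ q ^ (Nat.card G).factorization q := by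
        rw [← P.card_eq_multiplicity]; exact hd.trans (Subgroup.orderOf_dvd_natCard _ hx)
      exact (Nat.prime_dvd_prime_iff_eq hp Fact.out).1 (hp.dvd_of_dvd_pow h1)
    · have hz : IsPGroup q (Subgroup.zpowers x) := by
        refine IsPGroup.of_card (n := (orderOf x).factorization q) ?_
        rw [Nat.card_zpowers]
        apply Nat.eq_of_factorization_eq (orderOf_pos x).ne' (pow_ne_zero _ (Fact.out : q.Prime).ne_zero)
        intro p
        rw [Nat.Prime.factorization_pow Fact.out]
        by_cases hpq : p = q
        · subst hpq; simp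
        · rw [Finsupp.single_eq_of_ne hpq]
          by_cases hp : p.Prime
          · exact Nat.factorization_eq_zero_of_not_dvd fun hd => hpq (hx p hp hd)
          · exact Nat.factorization_eq_zero_of_not_prime _ hp
      obtain ⟨P', hP'⟩ := hz.exists_le_sylow
      haveI := hPn
      have := Sylow.unique_of_normal P hPn
      have hPP : P' = P := Subsingleton.elim _ _
      exact hPP ▸ hP' (Subgroup.mem_zpowers x)
  have hK : IsPiEltSubgroup (fun _ => False) (⊥ : Subgroup H) := by
    intro x
    refine ⟨fun hx p hp hd => ?_, fun hx => ?_⟩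
    · rw [Subgroup.mem_bot.1 hx, orderOf_one, Nat.dvd_one] at hd
      exact hp.ne_one hd
    · rw [Subgroup.mem_bot, ← orderOf_eq_one_iff]
      by_contra hne
      obtain ⟨p, hp, hd⟩ := Nat.exists_prime_and_dvd hne
      exact hx p hp hd
  have hJ := (piEltSubgroup_step (π := fun p => p = q) (π' := fun _ => False)
    (fun p _ => by simp) (by simp) hT (P : Subgroup G) hP ⊥ hK Q).1
  rw [bot_sup_eq] at hJ
  exact hJ.normal

end Cfsg.Agent.S3997
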