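import Cfsg.Statements.S3998
import Cfsg.Agent.Lib.Struct.OrderType

set_option autoImplicit false
open Cfsg
open Cfsg.Agent.Struct

namespace Cfsg.Agent.S3998

theorem supersolvable_piElt (G : Type*) [Group G] [Finite G] (hG : Cfsg.IsSupersolvable G) (s : ℕ) :
    ∃ L : Subgroup G, IsPiEltSubgroup (fun p => s ≤ p) L := by
  induction hn : Nat.card G using Nat.strong_induction_on generalizing G with
  | _ n ih =>
  subst hn
  classical
  obtain ⟨m, H, h0, hlast, hnorm, hstep⟩ := hG
  rcases subsingleton_or_nontrivial G with hs | hs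
  · refine ⟨⊤, fun x => ⟨fun _ p hp hd => ?_, fun _ => trivial⟩⟩
    rw [Subsingleton.elim x 1, orderOf_one, Nat.dvd_one] at hd
    exact absurd hd hp.ne_one
  obtain ⟨i, hi0, hi1⟩ : ∃ i : Fin m, H i.castSucc = ⊥ ∧ H i.succ ≠ ⊥ := by
    by_contra hcon
    push_neg at hcon
    exact bot_ne_top ((Fin.induction (motive := fun j => H j = ⊥) h0 hcon (Fin.last m)).symm.trans hlast)
  obtain ⟨g, hg⟩ := hstep i
  rw [hi0, bot_sup_eq] at hg
  have hCn : (Subgroup.zpowers g).Normal := hg ▸ hnorm i.succ
  have hg1 : orderOf g ≠ 1 := by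
    rw [Ne, orderOf_eq_one_iff]
    rintro rfl
    exact hi1 (hg.trans Subgroup.zpowers_one_eq_bot)
  obtain ⟨q, hq, hqd⟩ := Nat.exists_prime_and_dvd hg1
  obtain ⟨k, hk⟩ := hqd
  set N := Subgroup.zpowers (g ^ k) with hNdef
  have hkg : orderOf (g ^ k) = q := by
    have hkne : k ≠ 0 := by rintro rfl; simp [(orderOf_pos g).ne'] at hk
    have hkdvd : k ∣ orderOf g := hk ▸ dvd_mul_left k q
    rw [orderOf_pow_of_dvd hkne hkdvd, hk, Nat.mul_div_cancel _ (Nat.pos_of_ne_zero hkne)]
  have hNmem : ∀ x : G, x ∈ N ↔ x ∈ Subgroup.zpowers g ∧ x ^ q = 1 := by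
    intro x
    constructor
    · intro hx
      refine ⟨Subgroup.zpowers_le.2 (Subgroup.npow_mem_zpowers g k) hx, ?_⟩
      rw [← hkg, ← orderOf_dvd_iff_pow_eq_one]
      exact (Subgroup.orderOf_dvd_natCard _ hx).trans (Nat.card_zpowers _).dvd
    · rintro ⟨⟨a, ha⟩, hx⟩
      simp only at ha
      subst ha
      have h1 : (orderOf g : ℤ) ∣ a * q := by
        rw [orderOf_dvd_iff_zpow_eq_one, zpow_mul, zpow_natCast]; exact hx
      rw [hk, Nat.cast_mul, mul_comm (q : ℤ) k] at h1
      obtain ⟨b, hb⟩ := Int.dvd_of_mul_dvd_mul_right (by exact_mod_cast hq.ne_zero) h1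
      exact ⟨b, by simp only [hb, zpow_mul, zpow_natCast]⟩
  have hNn : N.Normal := ⟨fun x hx c => (hNmem _).2
    ⟨hCn.conj_mem x ((hNmem x).1 hx).1 c, by rw [conj_pow, ((hNmem x).1 hx).2, mul_one, mul_inv_cancel]⟩⟩
  have hNc : Nat.card N = q := by rw [hNdef, Nat.card_zpowers, hkg]
  have hlt : Nat.card (G ⧸ N) < Nat.card G := by
    rw [Subgroup.card_eq_card_quotient_mul_card_subgroup N, hNc]
    exact lt_mul_of_one_lt_right Nat.card_pos hq.one_lt
  have hsup : Cfsg.IsSupersolvable (G ⧸ N) :=
    ⟨m, fun j => (H j).map (QuotientGroup.mk' N), by simp [h0],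
      by simp [hlast, Subgroup.map_top_of_surjective _ (QuotientGroup.mk'_surjective N)],
      fun j => (hnorm j).map _ (QuotientGroup.mk'_surjective N),
      fun j => by
        obtain ⟨c, hc⟩ := hstep j
        exact ⟨QuotientGroup.mk' N c, by simp only [hc, Subgroup.map_sup, MonoidHom.map_zpowers]⟩⟩
  obtain ⟨L, hL⟩ := ih _ hlt (G ⧸ N) hsup rfl
  refine piEltSubgroup_lift hq N hNc (fun hns p _ hsp hd => ?_) L hL
  have := Nat.le_of_dvd (by have := hq.two_le; omega) hd
  omega

/-- Let G and H be finite groups with the same order type (for every m the same number of elements of order m). If G is supersolvable then H is solvable. -/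
theorem result {G H : Type*} [Group G] [Finite G] [Group H] [Finite H] (hT : (∀ m : ℕ, Nat.card {g : G // orderOf g = m} = Nat.card {h : H // orderOf h = m})) (hG : Cfsg.IsSupersolvable G) :
    Group.IsSolvable H := by
  classical
  have hGL : ∀ s : ℕ, ∃ L : Subgroup G, IsPiEltSubgroup (fun p => s ≤ p) L :=
    fun s => supersolvable_piElt G hG s
  have hcard := card_group_eq_of_order_type hT
  have key : ∀ d s : ℕ, Nat.card H + 1 ≤ s + d →
      ∃ K : Subgroup H, IsPiEltSubgroup (fun p => s ≤ p) K ∧ Group.IsSolvable K := by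
    intro d
    induction d with
    | zero =>
      intro s hs
      refine ⟨⊥, fun x => ⟨fun hx p hp hd => ?_, fun hx => ?_⟩, inferInstance⟩
      · rw [Subgroup.mem_bot.1 hx, orderOf_one, Nat.dvd_one] at hd
        exact absurd hd hp.ne_one
      · rw [Subgroup.mem_bot, ← orderOf_eq_one_iff]
        by_contra hne
        obtain ⟨p, hp, hd⟩ := Nat.exists_prime_and_dvd hne
        have h1 := Nat.le_of_dvd Nat.card_pos (hd.trans (orderOf_dvd_natCard x))
        have h2 := hx p hp hd
        omega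
    | succ d ih =>
      intro s hs
      obtain ⟨K, hK, hKs⟩ := ih (s + 1) (by omega)
      by_cases hsp : s.Prime
      · have := Fact.mk hsp
        obtain ⟨Q⟩ := (inferInstance : Nonempty (Sylow s H))
        obtain ⟨L, hL⟩ := hGL s
        obtain ⟨hJ, hJc⟩ := piEltSubgroup_step (π := fun p => s ≤ p) (π' := fun p => s + 1 ≤ p)
          (fun p _ => by omega) (by omega) hT L hL K hK Q
        refine ⟨K ⊔ (Q : Subgroup H), hJ, ?_⟩
        have hKn := hK.normal
        have hq : IsPGroup s (↥(K ⊔ (Q : Subgroup H)) ⧸ K.subgroupOf (K ⊔ (Q : Subgroup H))) := by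
          refine IsPGroup.of_card (n := (Nat.card H).factorization s) ?_
          have h := Subgroup.card_eq_card_quotient_mul_card_subgroup (K.subgroupOf (K ⊔ (Q : Subgroup H)))
          rw [hJc, Nat.card_congr (Subgroup.subgroupOfEquivOfLe le_sup_left).toEquiv,
            Q.card_eq_multiplicity, mul_comm] at h
          exact (mul_right_cancel₀ Nat.card_pos.ne' h).symm
        have hnil := hq.isNilpotent
        haveI := hKs
        exact Group.isSolvable_of_ker_le_range
          (Subgroup.inclusion (le_sup_left : K ≤ K ⊔ (Q : Subgroup H)))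
          (QuotientGroup.mk' (K.subgroupOf (K ⊔ (Q : Subgroup H))))
          (by rw [QuotientGroup.ker_mk']; intro y hy; exact ⟨⟨y.1, hy⟩, rfl⟩)
      · refine ⟨K, fun x => (hK x).trans ⟨fun h p hp hd => le_trans (Nat.le_succ s) (h p hp hd),
          fun h p hp hd => ?_⟩, hKs⟩
        rcases Nat.eq_or_lt_of_le (h p hp hd) with h' | h'
        · exact absurd (h' ▸ hp) hsp
        · exact h'
  obtain ⟨K, hK, hKs⟩ := key (Nat.card H + 1) 0 (by omega)
  have htop : K = ⊤ := eq_top_iff.2 fun x _ => (hK x).2 fun p _ _ => Nat.zero_le p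
  subst htop
  haveI := hKs
  exact Group.isSolvable_of_surjective (f := (Subgroup.topEquiv : (⊤ : Subgroup H) ≃* H).toMonoidHom)
    (Subgroup.topEquiv : (⊤ : Subgroup H) ≃* H).surjective

end Cfsg.Agent.S3998
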