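import Cfsg.Statements.S3999
import Cfsg.Agent.Lib.Struct.RankTwoPi
import Cfsg.Agent.Lib.Struct.FrobeniusConj
import Cfsg.Agent.S0042
import Cfsg.Agent.Lib.Perm.Frobenius
import Cfsg.Agent.Lib.Char.Burnside
import Cfsg.Agent.Lib.Solv.SchurZassenhaus

set_option autoImplicit false
set_option linter.style.haveILetI false
open Cfsg
open Cfsg.Agent.Struct
namespace Cfsg.Agent.S3999

open Subgroup in
theorem sylow_normal_transfer {F G : Type*} [Group F] [Finite F] [Group G] [Finite G]
    (hT : ∀ m : ℕ, Nat.card {g : F // orderOf g = m} = Nat.card {h : G // orderOf h = m})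
    {p : ℕ} [Fact p.Prime] (P : Sylow p F) (hP : (P : Subgroup F).Normal) (Q : Sylow p G) :
    (Q : Subgroup G).Normal := by
  haveI := hP
  have hmemP : ∀ x : F, IsPiElt (fun r => r = p) x → x ∈ (P : Subgroup F) := by
    intro x hx
    obtain ⟨k, hk⟩ : ∃ k, orderOf x = p ^ k :=
      ⟨_, Nat.eq_prime_pow_of_unique_prime_dvd (orderOf_pos x).ne' (fun {d} hd hdvd => hx d hd hdvd)⟩
    have hp : IsPGroup p (zpowers x) := IsPGroup.of_card (n := k) (by rw [Nat.card_zpowers, hk])
    obtain ⟨P', hP'⟩ := hp.exists_le_sylow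
    haveI := Sylow.unique_of_normal P hP
    rw [Subsingleton.elim P P']
    exact hP' (mem_zpowers x)
  have hP1 : IsPiEltSubgroup (fun r => r = p) (P : Subgroup F) := fun x =>
    ⟨fun hx r hr hd => by
      have h1 := hd.trans ((P : Subgroup F).orderOf_dvd_natCard hx)
      rw [P.card_eq_multiplicity] at h1
      exact (Nat.prime_dvd_prime_iff_eq hr Fact.out).1 (hr.dvd_of_dvd_pow h1), hmemP x⟩
  have hbot : IsPiEltSubgroup (fun _ => False) (⊥ : Subgroup G) := fun x =>
    ⟨fun hx r hr hd => by
      rw [mem_bot.1 hx, orderOf_one, Nat.dvd_one] at hd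
      exact absurd hd hr.ne_one, fun hx => by
      rw [mem_bot, ← orderOf_eq_one_iff]
      by_contra hne
      obtain ⟨r, hr, hd⟩ := Nat.exists_prime_and_dvd hne
      exact hx r hr hd⟩
  have h := (piEltSubgroup_step (π := fun r => r = p) (π' := fun _ => False) (q := p)
    (fun r _ => by simp) id hT _ hP1 ⊥ hbot Q).1
  rw [bot_sup_eq] at h
  exact h.normal

/-- In a Frobenius group the Sylow subgroups for primes dividing the kernel are normal. -/
theorem sylow_normal_of_dvd_index {F : Type*} [Group F] [Finite F] {C : Subgroup F}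
    (hC : IsFrobeniusComplement C) {p : ℕ} [Fact p.Prime] (hp : p ∣ C.index) (P : Sylow p F) :
    (P : Subgroup F).Normal := by
  obtain ⟨N, hNset, hNn, hnil⟩ := Cfsg.Agent.S0042.result C hC
  haveI := hNn
  haveI := hnil
  have hcard : Nat.card N = C.index := by
    rw [← Frobenius.card_kernel hC, ← hNset]; rfl
  obtain ⟨Q⟩ := Sylow.nonempty (p := p) (G := N)
  haveI : (Q : Subgroup N).Characteristic := Sylow.characteristic_of_normal Q inferInstance
  haveI hQn : ((Q : Subgroup N).map N.subtype).Normal := inferInstance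
  have hidx : ¬ p ∣ ((Q : Subgroup N).map N.subtype).index := by
    rw [Subgroup.index_map_subtype, (Fact.out : p.Prime).dvd_mul]
    rintro (h | h)
    · exact Q.not_dvd_index h
    · have hc : N.index = Nat.card C := by
        have h1 := N.index_mul_card
        rw [hcard, ← C.index_mul_card, mul_comm] at h1
        exact Nat.eq_of_mul_eq_mul_left (Nat.pos_of_ne_zero Subgroup.index_ne_zero_of_finite) h1
      exact (Fact.out : p.Prime).not_dvd_one
        ((Frobenius.coprime_card_index hC).gcd_eq_one ▸ Nat.dvd_gcd (hc ▸ h) hp)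
  let P' : Sylow p F := (Q.isPGroup'.map N.subtype).toSylow hidx
  haveI : (P' : Subgroup F).Normal := hQn
  haveI := Sylow.unique_of_normal P' inferInstance
  rw [Subsingleton.elim P P']
  infer_instance

/-- No element has mixed order. -/
theorem dvd_index_or_card {F : Type*} [Group F] [Finite F] {C : Subgroup F}
    (hC : IsFrobeniusComplement C) (x : F) : orderOf x ∣ C.index ∨ orderOf x ∣ Nat.card C := by
  obtain ⟨N, hNset, hNn, -⟩ := Frobenius.exists_kernel hC
  by_cases hx : x ∈ N
  · left
    rw [← Frobenius.card_kernel hC, ← hNset]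
    exact N.orderOf_dvd_natCard hx
  · right
    rw [← SetLike.mem_coe, hNset, Frobenius.notMem_kernel] at hx
    obtain ⟨-, g, hg⟩ := hx
    refine dvd_trans (dvd_of_eq ?_) (C.orderOf_dvd_natCard hg)
    have := orderOf_injective (MulAut.conj g⁻¹ : F ≃* F).toMonoidHom (MulAut.conj g⁻¹).injective x
    simpa using this.symm

/-- Subgroup made of the Sylow subgroups for a set of primes with normal Sylows. -/
theorem exists_normal_hall {G : Type*} [Group G] [Finite G] (s : Finset ℕ) (hs : ∀ p ∈ s, p.Prime)
    (hn : ∀ p ∈ s, ∀ P : Sylow p G, (P : Subgroup G).Normal) :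
    ∃ K : Subgroup G, K.Normal ∧ Nat.card K = ∏ p ∈ s, p ^ (Nat.card G).factorization p := by
  classical
  induction s using Finset.induction with
  | empty => exact ⟨⊥, inferInstance, by simp⟩
  | insert p s hp ih =>
    obtain ⟨K, hK, hKc⟩ := ih (fun q hq => hs q (Finset.mem_insert_of_mem hq))
      (fun q hq => hn q (Finset.mem_insert_of_mem hq))
    haveI := Fact.mk (hs p (Finset.mem_insert_self p s))
    obtain ⟨P⟩ := Sylow.nonempty (p := p) (G := G)
    haveI := hK
    haveI := hn p (Finset.mem_insert_self p s) P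
    refine ⟨K ⊔ (P : Subgroup G), inferInstance, ?_⟩
    rw [Cfsg.Agent.Solv.card_sup_of_coprime Subgroup.le_normalizer_of_normal ?_, hKc,
      P.card_eq_multiplicity, Finset.prod_insert hp, mul_comm]
    rw [hKc, P.card_eq_multiplicity]
    refine Nat.Coprime.prod_left fun q hq => Nat.Coprime.pow _ _ ?_
    exact (Nat.coprime_primes (hs q (Finset.mem_insert_of_mem hq)) Fact.out).2 fun e => hp (e ▸ hq)

/-- Part one: a group with the order type of a Frobenius group is Frobenius. -/
theorem frobenius_of_orderType {F G : Type*} [Group F] [Finite F] [Group G] [Finite G]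
    {C : Subgroup F} (hC : IsFrobeniusComplement C)
    (hT : ∀ m : ℕ, Nat.card {g : F // orderOf g = m} = Nat.card {h : G // orderOf h = m}) :
    ∃ D : Subgroup G, IsFrobeniusComplement D ∧ D.index = C.index := by
  classical
  set n := C.index with hn
  have hn0 : n ≠ 0 := Subgroup.index_ne_zero_of_finite
  have hcardG := card_group_eq_of_order_type hT
  have hcop := Frobenius.coprime_card_index hC
  have hfac : ∀ p ∈ n.primeFactors, (Nat.card G).factorization p = n.factorization p := by
    intro p hp
    rw [← hcardG, ← C.index_mul_card, Nat.factorization_mul hn0 Nat.card_pos.ne', Finsupp.add_apply,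
      Nat.factorization_eq_zero_of_not_dvd (n := Nat.card C) fun hd =>
        (Nat.prime_of_mem_primeFactors hp).not_dvd_one
          (hcop.gcd_eq_one ▸ Nat.dvd_gcd hd (Nat.dvd_of_mem_primeFactors hp)), add_zero]
  obtain ⟨K, hK, hKc⟩ := exists_normal_hall (G := G) n.primeFactors
    (fun p hp => Nat.prime_of_mem_primeFactors hp) (fun p hp Q => by
      haveI := Fact.mk (Nat.prime_of_mem_primeFactors hp)
      obtain ⟨P⟩ := Sylow.nonempty (p := p) (G := F)
      exact sylow_normal_transfer hT P
        (sylow_normal_of_dvd_index hC (Nat.dvd_of_mem_primeFactors hp) P) Q)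
  haveI := hK
  have hKn : Nat.card K = n := by
    rw [hKc, Finset.prod_congr rfl fun p hp => by rw [hfac p hp]]
    exact Nat.prod_factorization_pow_eq_self hn0
  have hKi : K.index = Nat.card C := by
    have h1 := K.index_mul_card
    rw [hKn, ← hcardG, ← C.index_mul_card, mul_comm, ← hn] at h1
    exact Nat.eq_of_mul_eq_mul_left (Nat.pos_of_ne_zero hn0) h1
  obtain ⟨D, hD⟩ := Subgroup.exists_right_complement'_of_coprime (N := K)
    (by rw [hKn, hKi]; exact hcop.symm)
  have hDc : Nat.card D = Nat.card C := by rw [← hKi]; exact hD.symm.index_eq_card.symm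
  refine ⟨D, (Cfsg.Agent.Perm.isFrobeniusComplement_of_fpf K D hD.sup_eq_top ?_ ?_ ?_).1,
    hD.index_eq_card.trans hKn⟩
  · intro e
    rw [e, Subgroup.card_bot] at hKn
    exact hC.2.1 (Subgroup.index_eq_one.1 hKn.symm)
  · intro e
    rw [e, Subgroup.card_bot] at hDc
    exact hC.1 (Subgroup.card_eq_one.1 hDc.symm)
  · intro d hd k hk hc
    by_contra hcon
    push Not at hcon
    obtain ⟨hd1, hk1⟩ := hcon
    have hdo : orderOf d ∣ Nat.card C := hDc ▸ D.orderOf_dvd_natCard hd
    have hko : orderOf k ∣ n := hKn ▸ K.orderOf_dvd_natCard hk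
    have hco : (orderOf d).Coprime (orderOf k) :=
      Nat.Coprime.coprime_dvd_left hdo (Nat.Coprime.coprime_dvd_right hko hcop)
    have ho := hc.orderOf_mul_eq_mul_orderOf_of_coprime hco
    have hne : Nat.card {g : F // orderOf g = orderOf (d * k)} ≠ 0 := by
      rw [hT]
      haveI : Nonempty {h : G // orderOf h = orderOf (d * k)} := ⟨⟨d * k, rfl⟩⟩
      exact Nat.card_pos.ne'
    obtain ⟨⟨x, hx⟩⟩ := (Nat.card_ne_zero.1 hne).1
    rw [ho] at hx
    rcases dvd_index_or_card hC x with h | h
    · exact hd1 (orderOf_eq_one_iff.1 (Nat.eq_one_of_dvd_coprimes hcop hdo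
        ((hx ▸ dvd_mul_right (orderOf d) (orderOf k)).trans h)))
    · exact hk1 (orderOf_eq_one_iff.1 (Nat.eq_one_of_dvd_coprimes hcop
        ((hx ▸ dvd_mul_left (orderOf k) (orderOf d)).trans h) hko))

/-- Part two: a solvable Frobenius group passes solvability along equal order types. -/
theorem isSolvable_of_orderType {F G : Type*} [Group F] [Finite F] [Group G] [Finite G]
    {C : Subgroup F} (hC : IsFrobeniusComplement C) {D : Subgroup G} (hD : IsFrobeniusComplement D)
    (hidx : D.index = C.index) (hF : Group.IsSolvable F)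
    (hT : ∀ m : ℕ, Nat.card {g : F // orderOf g = m} = Nat.card {h : G // orderOf h = m}) :
    Group.IsSolvable G := by
  classical
  set n := C.index with hn
  obtain ⟨N, hNset, hNn, hNc⟩ := Frobenius.exists_kernel hC
  haveI := hNn
  obtain ⟨K, hKset, hKn, hKnil⟩ := Cfsg.Agent.S0042.result D hD
  haveI := hKn
  haveI := hKnil
  have hNcard : Nat.card N = n := by rw [hn, ← Frobenius.card_kernel hC, ← hNset]; rfl
  have hKcard : Nat.card K = n := by rw [← hidx, ← Frobenius.card_kernel hD, ← hKset]; rfl
  have hN1 : N ≠ ⊥ := fun e => hC.2.1 (by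
    have := hNc.sup_eq_top
    rwa [e, bot_sup_eq] at this)
  have hcopC : (Nat.card C).Coprime (Nat.card N) := hNcard ▸ Frobenius.coprime_card_index hC
  haveI := hF
  have hR : RankTwo C := by
    intro p S hp hS
    haveI := Fact.mk hp
    have hle : S.map C.subtype ≤ C := Subgroup.map_subtype_le S
    let e : S ≃* S.map C.subtype := Subgroup.equivMapOfInjective S C.subtype C.subtype_injective
    rcases Frobenius.sylow_cyclic_or_quaternion (A := S.map C.subtype) hN1
      (fun a _ => by rw [Subgroup.normalizer_eq_top]; trivial)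
      (Nat.Coprime.coprime_dvd_left (Subgroup.card_dvd_of_le hle) hcopC)
      (fun a ha ha1 => Frobenius.fpf_of_conj_complement hC hNn hNc.disjoint (g := 1)
        (by simpa using hle ha) ha1) (hS.map C.subtype) with h | ⟨-, k, -, ⟨f⟩⟩
    · obtain ⟨g, hg⟩ := IsCyclic.exists_zpow_surjective (G := S.map C.subtype)
      refine ⟨(e.symm g : C), (e.symm g : C), le_antisymm (fun y hy => ?_)
        ((Subgroup.closure_le _).2 (by simp))⟩
      obtain ⟨i, hi⟩ := hg (e ⟨y, hy⟩)
      have h2 : (⟨y, hy⟩ : S) = e.symm g ^ i := by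
        rw [← map_zpow]; exact (e.eq_symm_apply).2 hi.symm
      have h3 : y = ((e.symm g : S) : C) ^ i := congrArg Subtype.val h2
      rw [h3]
      exact zpow_mem (Subgroup.subset_closure (by simp)) i
    · let φ : QuaternionGroup (2 ^ k) →* C := S.subtype.comp (f.symm.trans e.symm).toMonoidHom
      have hr : φ.range = S := by
        rw [MonoidHom.range_comp, MonoidHom.range_eq_top.2 (f.symm.trans e.symm).surjective,
          ← MonoidHom.range_eq_map, Subgroup.range_subtype]
      refine ⟨φ (QuaternionGroup.a 1), φ (QuaternionGroup.xa 0), ?_⟩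
      rw [← hr, MonoidHom.range_eq_map, ← closure_pair_of_quaternion, MonoidHom.map_closure, Set.image_pair]
  have hex : ∀ s : ℕ, 5 ≤ s → ∃ L : Subgroup F, IsPiEltSubgroup (fun p => s ≤ p ∨ p ∣ n) L := by
    intro s hs
    obtain ⟨L, hL⟩ := piElt_of_rankTwo hR hs
    let e : F ⧸ N ≃* C := hNc.symm.QuotientMulEquiv
    refine ⟨L.comap (e.toMonoidHom.comp (QuotientGroup.mk' N)), fun x => ⟨fun hx p hp hd => ?_, fun hx => ?_⟩⟩
    · have h1 : orderOf x ∣ orderOf (e (QuotientGroup.mk' N x)) * n := by
        refine orderOf_dvd_of_pow_eq_one ?_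
        rw [pow_mul]
        have h2 : x ^ orderOf (e (QuotientGroup.mk' N x)) ∈ N := by
          refine (QuotientGroup.eq_one_iff _).1 ?_
          show QuotientGroup.mk' N (x ^ _) = 1
          rw [e.orderOf_eq, map_pow, pow_orderOf_eq_one]
        rw [← hNcard]
        exact congrArg Subtype.val (pow_card_eq_one' (x := (⟨_, h2⟩ : N)))
      rcases hp.dvd_mul.1 (hd.trans h1) with h | h
      · exact Or.inl ((hL _).1 hx p hp h)
      · exact Or.inr h
    · refine (hL _).2 fun p hp hd => ?_
      have hd' : p ∣ orderOf x := hd.trans (orderOf_map_dvd (e.toMonoidHom.comp (QuotientGroup.mk' N)) x)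
      refine (hx p hp hd').resolve_right fun hpn => hp.not_dvd_one ?_
      rw [← hcopC.gcd_eq_one]
      exact Nat.dvd_gcd (hd.trans (orderOf_dvd_natCard _)) (hNcard ▸ hpn)
  have hK : IsPiEltSubgroup (fun p => p ∣ n) K := by
    intro x
    refine ⟨fun hx p _ hd => hKcard ▸ hd.trans (K.orderOf_dvd_natCard hx), fun hx => ?_⟩
    by_contra hxK
    rw [← SetLike.mem_coe, hKset, Frobenius.notMem_kernel] at hxK
    obtain ⟨hx1, g, hg⟩ := hxK
    obtain ⟨p, hp, hd⟩ := Nat.exists_prime_and_dvd (fun e => hx1 (orderOf_eq_one_iff.1 e))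
    have h2 : orderOf (g⁻¹ * x * g) = orderOf x := by
      have := orderOf_injective (MulAut.conj g⁻¹ : G ≃* G).toMonoidHom (MulAut.conj g⁻¹).injective x
      simpa using this
    refine hp.not_dvd_one ?_
    rw [← (Frobenius.coprime_card_index hD).gcd_eq_one, hidx]
    exact Nat.dvd_gcd (hd.trans (h2 ▸ D.orderOf_dvd_natCard hg)) (hx p hp hd)
  have key : ∀ d s : ℕ, Nat.card G + 6 ≤ s + d → 5 ≤ s →
      ∃ L : Subgroup G, IsPiEltSubgroup (fun p => s ≤ p ∨ p ∣ n) L ∧ Group.IsSolvable L := by
    intro d
    induction d with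
    | zero =>
      intro s hs _
      refine ⟨K, fun x => (hK x).trans ⟨fun h p hp hd => Or.inr (h p hp hd), fun h p hp hd => ?_⟩,
        inferInstance⟩
      rcases h p hp hd with h' | h'
      · have := Nat.le_of_dvd Nat.card_pos (hd.trans (orderOf_dvd_natCard x))
        omega
      · exact h'
    | succ d ih =>
      intro s hs h5
      obtain ⟨L, hL, hLs⟩ := ih (s + 1) (by omega) (by omega)
      by_cases hsp : s.Prime ∧ ¬ s ∣ n
      · obtain ⟨hsp, hsn⟩ := hsp
        have := Fact.mk hsp
        obtain ⟨Q⟩ := (inferInstance : Nonempty (Sylow s G))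
        obtain ⟨L₀, hL₀⟩ := hex s h5
        obtain ⟨hJ, hJc⟩ := piEltSubgroup_step (π := fun p => s ≤ p ∨ p ∣ n)
          (π' := fun p => s + 1 ≤ p ∨ p ∣ n) (q := s)
          (fun p _ => ⟨fun h => by
              rcases h with h | h
              · rcases Nat.eq_or_lt_of_le h with h' | h'
                · exact Or.inr h'.symm
                · exact Or.inl (Or.inl h')
              · exact Or.inl (Or.inr h),
            fun h => by
              rcases h with (h | h) | h
              · exact Or.inl (by omega)
              · exact Or.inr h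
              · exact Or.inl (le_of_eq h.symm)⟩)
          (fun h => h.elim (by omega) hsn) hT L₀ hL₀ L hL Q
        refine ⟨L ⊔ (Q : Subgroup G), hJ, ?_⟩
        have hLn := hL.normal
        have hq : IsPGroup s (↥(L ⊔ (Q : Subgroup G)) ⧸ L.subgroupOf (L ⊔ (Q : Subgroup G))) := by
          refine IsPGroup.of_card (n := (Nat.card G).factorization s) ?_
          have h := Subgroup.card_eq_card_quotient_mul_card_subgroup (L.subgroupOf (L ⊔ (Q : Subgroup G)))
          rw [hJc, Nat.card_congr (Subgroup.subgroupOfEquivOfLe le_sup_left).toEquiv,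
            Q.card_eq_multiplicity, mul_comm] at h
          exact (mul_right_cancel₀ Nat.card_pos.ne' h).symm
        have hnil := hq.isNilpotent
        haveI := hLs
        exact Group.isSolvable_of_ker_le_range
          (Subgroup.inclusion (le_sup_left : L ≤ L ⊔ (Q : Subgroup G)))
          (QuotientGroup.mk' (L.subgroupOf (L ⊔ (Q : Subgroup G))))
          (by rw [QuotientGroup.ker_mk']; intro y hy; exact ⟨⟨y.1, hy⟩, rfl⟩)
      · refine ⟨L, fun x => (hL x).trans ⟨fun h p hp hd => (h p hp hd).imp_left (le_trans (Nat.le_succ s)),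
          fun h p hp hd => ?_⟩, hLs⟩
        rcases h p hp hd with h' | h'
        · rcases Nat.eq_or_lt_of_le h' with h'' | h''
          · subst h''
            exact Or.inr (not_not.1 fun hn' => hsp ⟨hp, hn'⟩)
          · exact Or.inl h''
        · exact Or.inr h'
  obtain ⟨L, hL, hLs⟩ := key (Nat.card G + 6) 5 (by omega) le_rfl
  haveI := hLs
  haveI := hL.normal
  have hq : Group.IsSolvable (G ⧸ L) := by
    set m := Nat.card (G ⧸ L) with hm
    have hsmall : ∀ p : ℕ, p.Prime → p ∣ m → p = 2 ∨ p = 3 := by
      intro p hp hd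
      have := Fact.mk hp
      obtain ⟨q, hq⟩ := exists_prime_orderOf_dvd_card' (G := G ⧸ L) p hd
      have hno : ¬ (5 ≤ p ∨ p ∣ n) := by
        intro hπ
        have h2 := (hL.map_factorization hp).1 hπ
        have h3 : (Nat.card (G ⧸ L)).factorization p = 0 := by
          have h4 := congrArg (fun k : ℕ => k.factorization p)
            (Subgroup.card_eq_card_quotient_mul_card_subgroup L)
          simp only [Nat.factorization_mul Nat.card_pos.ne' Nat.card_pos.ne', Finsupp.add_apply] at h4
          omega
        exact absurd h3 (hp.factorization_pos_of_dvd Nat.card_pos.ne' hd).ne'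
      push Not at hno
      have h5 := hno.1
      have := hp.two_le
      interval_cases p
      · exact Or.inl rfl
      · exact Or.inr rfl
      · norm_num at hp
    refine Cfsg.Agent.Char.solvable_of_card_prime_pow_mul 2 3 Nat.prime_two Nat.prime_three m (G ⧸ L)
      rfl ⟨m.factorization 2, m.factorization 3, ?_⟩
    refine Nat.eq_of_factorization_eq (Nat.card_pos).ne' (by positivity) fun p => ?_
    rw [Nat.factorization_mul (by positivity) (by positivity), Finsupp.add_apply,
      Nat.Prime.factorization_pow Nat.prime_two, Nat.Prime.factorization_pow Nat.prime_three]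
    by_cases hp : p.Prime
    · by_cases hd : p ∣ m
      · rcases hsmall p hp hd with rfl | rfl <;> simp [hm]
      · have h0 : m.factorization p = 0 := Nat.factorization_eq_zero_of_not_dvd hd
        rw [show (Nat.card (G ⧸ L)).factorization p = 0 from h0]
        rcases eq_or_ne p 2 with rfl | h2
        · simp [h0]
        rcases eq_or_ne p 3 with rfl | h3
        · simp [h0]
        simp [h2, h3]
    · rw [Nat.factorization_eq_zero_of_not_prime _ hp, Finsupp.single_eq_of_ne (show p ≠ 2 from fun e => hp (e ▸ Nat.prime_two)),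
        Finsupp.single_eq_of_ne (show p ≠ 3 from fun e => hp (e ▸ Nat.prime_three))]
      rfl
  haveI := hq
  exact Group.isSolvable_of_ker_le_range L.subtype (QuotientGroup.mk' L) (by simp)


/-- Let F be a finite Frobenius group (it has a Frobenius complement) and G a finite group with the same order type as F (for every m the same number of elements of order m). Then G is a Frobenius group; moreover G is solvable if and only if F is. -/
theorem result {F G : Type*} [Group F] [Finite F] [Group G] [Finite G] (hF : (∃ C : Subgroup F, Cfsg.IsFrobeniusComplement C)) (hT : (∀ m : ℕ, Nat.card {g : F // orderOf g = m} = Nat.card {h : G // orderOf h = m})) :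
    (∃ C : Subgroup G, Cfsg.IsFrobeniusComplement C) ∧ (Group.IsSolvable G ↔ Group.IsSolvable F) := by
  obtain ⟨C, hC⟩ := hF
  obtain ⟨D, hD, hidx⟩ := frobenius_of_orderType hC hT
  exact ⟨⟨D, hD⟩, fun h => isSolvable_of_orderType hD hC hidx.symm h (fun m => (hT m).symm),
    fun h => isSolvable_of_orderType hC hD hidx h hT⟩

end Cfsg.Agent.S3999
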