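import Cfsg.Statements.S4001
import Cfsg.Agent.Lib.Struct.TwoFrobenius
import Cfsg.Agent.Lib.Solv.Basic

set_option autoImplicit false
set_option linter.style.haveILetI false
open Cfsg
open Subgroup

namespace Cfsg.Agent.S4001

open Cfsg.Agent.Struct.TwoFrobenius Cfsg.Agent.Struct.Frobenius


/-- Let G be a 2-Frobenius group: it has normal subgroups H < K with K a Frobenius group with kernel H and G/H a Frobenius group with kernel K/H. Then G is solvable; K/H has odd order coprime to the order of H and to the order of G/K (it is the image of an odd-order Hall subgroup); G/K is cyclic; and the prime graph of G has exactly two connected components, both complete: for distinct primes p, q dividing the order of G, G has an element of order pq exactly when p and q either both divide the order of K/H or both do not. -/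
theorem result {G : Type*} [Group G] [Finite G] (H K : Subgroup G) [H.Normal] [K.Normal] (hlt : H < K)
    (hK : ∃ C : Subgroup ↥K, Cfsg.IsFrobeniusComplement C ∧ Cfsg.frobeniusKernel C = (H.subgroupOf K : Set ↥K))
    (hGH : ∃ C : Subgroup (G ⧸ H), Cfsg.IsFrobeniusComplement C ∧ Cfsg.frobeniusKernel C = (K.map (QuotientGroup.mk' H) : Set (G ⧸ H))) :
    Group.IsSolvable G ∧ Odd (Nat.card (↥K ⧸ H.subgroupOf K)) ∧
      Nat.Coprime (Nat.card (↥K ⧸ H.subgroupOf K)) (Nat.card ↥H * Nat.card (G ⧸ K)) ∧ IsCyclic (G ⧸ K) ∧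
      ∀ p q : ℕ, p.Prime → q.Prime → p ≠ q → p ∣ Nat.card G → q ∣ Nat.card G →
        ((∃ g : G, orderOf g = p * q) ↔ (p ∣ Nat.card (↥K ⧸ H.subgroupOf K) ↔ q ∣ Nat.card (↥K ⧸ H.subgroupOf K))) := by
  classical
  obtain ⟨C, hC, hCker⟩ := hK
  obtain ⟨D, hD, hDker⟩ := hGH
  set π := QuotientGroup.mk' H with hπdef
  have hπ : Function.Surjective π := QuotientGroup.mk'_surjective H
  set Kb := K.map π with hKb
  haveI : Kb.Normal := Subgroup.Normal.map inferInstance _ hπ
  obtain ⟨N1, hN1k, hN1n, hN1C⟩ := exists_kernel hC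
  have hN1 : N1 = H.subgroupOf K := SetLike.coe_injective (hN1k.trans hCker)
  subst hN1
  obtain ⟨N2, hN2k, hN2n, hN2D⟩ := exists_kernel hD
  have hN2 : N2 = Kb := SetLike.coe_injective (hN2k.trans hDker)
  subst hN2
  have hfpfH : ∀ x ∈ K, x ∉ H → ∀ v ∈ H, v * x = x * v → v = 1 := by
    intro x hx hxH v hv hc
    have hxk : (⟨x, hx⟩ : K) ∉ frobeniusKernel C := by
      rw [hCker]; exact hxH
    obtain ⟨hx1, g, hg⟩ := notMem_kernel.1 hxk
    have h := (eq_bot_iff_forall _).1 (fpf_of_conj_complement hC hN1n hN1C.disjoint hg hx1) ⟨v, hlt.le hv⟩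
      (Subgroup.mem_inf.2 ⟨hv, mem_centralizer_singleton_iff.2 (Subtype.ext hc)⟩)
    exact congrArg Subtype.val h
  have hfpfD : ∀ Y : G ⧸ H, Y ∉ Kb → ∀ X ∈ Kb, X * Y = Y * X → X = 1 := by
    intro Y hY X hX hc
    have hYk : Y ∉ frobeniusKernel D := by rw [hDker]; exact hY
    obtain ⟨hY1, g, hg⟩ := notMem_kernel.1 hYk
    exact (eq_bot_iff_forall _).1 (fpf_of_conj_complement hD hN2n hN2D.disjoint hg hY1) X
      (Subgroup.mem_inf.2 ⟨hX, mem_centralizer_singleton_iff.2 hc⟩)
  have hcomap : ∀ x : G, π x ∈ Kb → x ∈ K := by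
    rintro x ⟨y, hy, hyx⟩
    have h1 : y⁻¹ * x ∈ H := QuotientGroup.eq.1 hyx
    simpa using mul_mem hy (hlt.le h1)
  -- orders
  set m := Nat.card (↥K ⧸ H.subgroupOf K) with hm
  have hmC : Nat.card C = m := by rw [hm, ← index_eq_card]; exact hN1C.symm.index_eq_card.symm
  have hKbC : ∀ c : C, π ((c : K) : G) ∈ Kb := fun c => mem_map_of_mem π (c : K).2
  let f : C →* Kb :=
    { toFun := fun c => ⟨π ((c : K) : G), hKbC c⟩
      map_one' := Subtype.ext (map_one π)
      map_mul' := fun c d => Subtype.ext (map_mul π _ _) }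
  have hfb : Function.Bijective f := by
    constructor
    · refine (injective_iff_map_eq_one f).2 fun c hc => ?_
      have h1 : ((c : K) : G) ∈ H := (QuotientGroup.eq_one_iff _).1 (congrArg Subtype.val hc)
      exact Subtype.ext (Subgroup.disjoint_def.1 hN1C.disjoint (mem_subgroupOf.2 h1) c.2)
    · rintro ⟨_, x, hx, rfl⟩
      have h1 : (⟨x, hx⟩ : K) ∈ H.subgroupOf K ⊔ C := hN1C.sup_eq_top ▸ mem_top _
      rw [Subgroup.mem_sup_of_normal_left] at h1
      obtain ⟨h, hh, c, hc, hhc⟩ := h1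
      refine ⟨⟨c, hc⟩, Subtype.ext ?_⟩
      show π (c : G) = π x
      rw [show x = (h : G) * c from (congrArg Subtype.val hhc).symm, map_mul,
        show π (h : G) = 1 from (QuotientGroup.eq_one_iff _).2 hh, one_mul]
  let e : C ≃* Kb := MulEquiv.ofBijective f hfb
  have hKbm : Nat.card Kb = m := by rw [← Nat.card_congr e.toEquiv, hmC]
  have hKcard : Nat.card K = Nat.card H * m := by
    rw [hm, card_eq_card_quotient_mul_card_subgroup (H.subgroupOf K),
      Nat.card_congr (subgroupOfEquivOfLe hlt.le).toEquiv, mul_comm]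
  have hidx : Nat.card D = K.index := by
    have h1 : Kb.index = Nat.card D := hN2D.symm.index_eq_card
    have h2 : Kb.index = K.index :=
      Subgroup.index_map_eq _ hπ (by rw [QuotientGroup.ker_mk']; exact hlt.le)
    omega
  have hcopH : m.Coprime (Nat.card H) := by
    have h := coprime_card_index hC
    rwa [hmC, show C.index = Nat.card (H.subgroupOf K) from hN1C.index_eq_card,
      Nat.card_congr (subgroupOfEquivOfLe hlt.le).toEquiv] at h
  have hcopD : m.Coprime K.index := by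
    have h := coprime_card_index hD
    rwa [show D.index = Nat.card Kb from hN2D.index_eq_card, hKbm, hidx, Nat.coprime_comm] at h
  have hm1 : 1 < m := hmC ▸ (Subgroup.one_lt_card_iff_ne_bot C).2 hC.1
  have hKbb : Kb ≠ ⊥ := fun h => by rw [h, card_bot] at hKbm; omega
  obtain ⟨Y₀, hY₀, hY₀1⟩ := (Subgroup.bot_or_exists_ne_one D).resolve_left hD.1
  obtain ⟨k₀, r₀, hr₀, hr₀o⟩ := exists_prime_pow hY₀1
  have hnotin : ∀ Y ∈ D, Y ≠ 1 → Y ∉ Kb := fun Y hY hY1 hYK =>
    hY1 (Subgroup.disjoint_def.1 hN2D.disjoint hYK hY)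
  have hY₀' : Y₀ ^ k₀ ≠ 1 := fun h => by rw [h, orderOf_one] at hr₀o; exact hr₀.one_lt.ne hr₀o
  have hKbnil : Group.IsNilpotent Kb :=
    isNilpotent_of_fpf_element Kb (y := Y₀ ^ k₀) hr₀ (hr₀o ▸ pow_orderOf_eq_one _)
      (hfpfD _ (hnotin _ (pow_mem hY₀ k₀) hY₀'))
  have hHsub : H.subgroupOf K ≠ ⊥ := fun h => hC.2.1 (by
    have := hN1C.sup_eq_top
    rwa [h, bot_sup_eq] at this)
  have hu : ∀ p : ℕ, p.Prime → ∀ x y : Kb, orderOf x = p → y ^ p = 1 → y ∈ zpowers x := by
    refine fun p hp x y hx hy => unique_of_nilpotent hKbnil (fun p hp a c ha hc hac => ?_) hp hx hy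
    have h := commute_unique hHsub (A := C) (by rw [normalizer_eq_top]; exact le_top)
      (by rw [hmC, Nat.card_congr (subgroupOfEquivOfLe hlt.le).toEquiv]; exact hcopH)
      (fun c hc hc1 => fpf_of_conj_complement hC hN1n hN1C.disjoint (g := 1) (by simpa using hc) hc1) hp
      (a := e.symm a) (b := e.symm c)
      (by rw [e.symm.orderOf_eq, ha]) (by rw [← map_pow, hc, map_one])
      (by simp only [Commute, SemiconjBy, ← map_mul, hac.eq])
    obtain ⟨i, hi⟩ := h
    exact ⟨i, e.symm.injective (by rw [map_zpow]; exact hi)⟩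
  have hodd : ¬ 2 ∣ m := by
    intro h2
    haveI := Fact.mk Nat.prime_two
    obtain ⟨z, hz⟩ := exists_prime_orderOf_dvd_card' (G := Kb) 2 (hKbm ▸ h2)
    have hz1 : (z : G ⧸ H) ≠ 1 := fun h => by
      rw [← Subgroup.orderOf_coe, h, orderOf_one] at hz; exact absurd hz (by norm_num)
    set W := Y₀ ^ k₀
    have hw : W * (z : G ⧸ H) * W⁻¹ ∈ Kb := Subgroup.Normal.conj_mem inferInstance _ z.2 W
    have hwo : orderOf (⟨_, hw⟩ : Kb) = 2 := by
      rw [← Subgroup.orderOf_coe]
      show orderOf (W * (z : G ⧸ H) * W⁻¹) = 2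
      rw [show orderOf (W * (z : G ⧸ H) * W⁻¹) = orderOf (z : G ⧸ H) from (MulAut.conj W).orderOf_eq _,
        Subgroup.orderOf_coe, hz]
    obtain ⟨i, hi⟩ := hu 2 Nat.prime_two z ⟨_, hw⟩ hz (hwo ▸ pow_orderOf_eq_one _)
    have h2z : z ^ (2 : ℤ) = 1 := by
      rw [show (2 : ℤ) = ((2 : ℕ) : ℤ) from rfl, zpow_natCast, ← hz, pow_orderOf_eq_one]
    change z ^ i = _ at hi
    rcases Int.even_or_odd i with ⟨l, hl⟩ | ⟨l, hl⟩
    · rw [hl, ← two_mul, zpow_mul, h2z, one_zpow] at hi
      rw [← hi, orderOf_one] at hwo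
      exact absurd hwo (by norm_num)
    · rw [hl, zpow_add, zpow_mul, h2z, one_zpow, one_mul, zpow_one] at hi
      exact hz1 (hfpfD W (hnotin _ (pow_mem hY₀ k₀) hY₀') _ z.2
        (mul_inv_eq_iff_eq_mul.1 (congrArg Subtype.val hi).symm).symm)
  haveI hKbc : IsCyclic Kb := isCyclic_of_unique hKbnil (hKbm ▸ hodd) hu
  -- the top is cyclic
  haveI : IsMulCommutative Kb := inferInstance
  have hDn : D ≤ normalizer (Kb : Set (G ⧸ H)) := by rw [normalizer_eq_top]; exact le_top
  have hDfpf : ∀ a ∈ D, a ≠ 1 → Kb ⊓ centralizer {a} = ⊥ := fun a ha ha1 =>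
    (eq_bot_iff_forall _).2 fun X hX => hfpfD a (hnotin a ha ha1) X hX.1 (mem_centralizer_singleton_iff.1 hX.2)
  have hDab : ∀ a b : D, Commute a b := by
    intro a b
    refine Subtype.ext ?_
    by_contra hne
    have h1 := commutator_le_centralizer_of_cyclic Kb (a : G ⧸ H) (b : G ⧸ H)
    have h2 : (a : G ⧸ H) * b * (a : G ⧸ H)⁻¹ * (b : G ⧸ H)⁻¹ ≠ 1 := fun h =>
      hne (mul_inv_eq_iff_eq_mul.1 (mul_inv_eq_one.1 h))
    obtain ⟨X, hX, hX1⟩ := (Subgroup.bot_or_exists_ne_one Kb).resolve_left hKbb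
    exact hX1 (hfpfD _ (hnotin _ (mul_mem (mul_mem (mul_mem a.2 b.2) (inv_mem a.2)) (inv_mem b.2)) h2) X hX
      ((mem_centralizer_iff.1 h1) X hX))
  haveI : IsCyclic D := isCyclic_of_fpf_of_commute hKbb hDn hDfpf hDab
  let ρ : G ⧸ H →* G ⧸ K := QuotientGroup.map H K (MonoidHom.id G) hlt.le
  have hρD : Function.Surjective (ρ.comp D.subtype) := by
    intro X
    obtain ⟨x, rfl⟩ := QuotientGroup.mk'_surjective K X
    have h1 : π x ∈ Kb ⊔ D := hN2D.sup_eq_top ▸ mem_top _
    rw [Subgroup.mem_sup_of_normal_left] at h1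
    obtain ⟨u, ⟨k, hk, rfl⟩, d, hd, hud⟩ := h1
    refine ⟨⟨d, hd⟩, ?_⟩
    show ρ d = QuotientGroup.mk' K x
    have h3 : ρ (π k * d) = QuotientGroup.mk' K x := by rw [hud]; rfl
    rwa [map_mul, show ρ (π k) = 1 from (QuotientGroup.eq_one_iff k).2 hk, one_mul] at h3
  haveI hGKc : IsCyclic (G ⧸ K) := isCyclic_of_surjective _ hρD
  -- `H` is nilpotent
  obtain ⟨c₀, hc₀, hc₀1⟩ := (Subgroup.bot_or_exists_ne_one C).resolve_left hC.1
  obtain ⟨j₀, s₀, hs₀, hs₀o⟩ := exists_prime_pow hc₀1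
  have hc₀' : c₀ ^ j₀ ≠ 1 := fun h => by rw [h, orderOf_one] at hs₀o; exact hs₀.one_lt.ne hs₀o
  have hHnil : Group.IsNilpotent H :=
    isNilpotent_of_fpf_element H (y := ((c₀ ^ j₀ : K) : G)) hs₀
      (by rw [← Subgroup.coe_pow, ← hs₀o, pow_orderOf_eq_one]; rfl)
      (hfpfH _ (c₀ ^ j₀).2 fun h => hc₀' (Subgroup.disjoint_def.1 hN1C.disjoint (mem_subgroupOf.2 h) (pow_mem hc₀ j₀)))
  haveI := hHnil
  have hsolv : Group.IsSolvable G := by
    letI : CommGroup Kb := { (inferInstance : Group Kb) with mul_comm := mul_comm' }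
    letI : CommGroup (G ⧸ K) := IsCyclic.commGroup
    haveI : Group.IsSolvable (G ⧸ H) :=
      Group.isSolvable_of_ker_le_range Kb.subtype ρ (by
        intro X hX
        obtain ⟨x, rfl⟩ := hπ X
        rw [range_subtype]
        exact mem_map_of_mem π ((QuotientGroup.eq_one_iff x).1 hX))
    exact Group.isSolvable_of_ker_le_range H.subtype π (by rw [range_subtype, QuotientGroup.ker_mk'])
  refine ⟨hsolv, Nat.odd_iff.2 (Nat.two_dvd_ne_zero.1 hodd), ?_, hGKc, ?_⟩
  · rw [← index_eq_card K]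
    exact hcopH.mul_right hcopD
  -- the prime graph
  have hGcard : Nat.card G = Nat.card H * m * K.index := by rw [← K.card_mul_index, hKcard]
  have hmixed : ∀ p q : ℕ, p.Prime → q.Prime → p ≠ q → q ∣ m → ¬ p ∣ m → ¬ ∃ g : G, orderOf g = p * q := by
    rintro p q hp hq hpq hqm hpm ⟨g, hg⟩
    have hy : orderOf (g ^ q) = p := by
      rw [orderOf_pow_of_dvd hq.ne_zero (hg ▸ dvd_mul_left q p), hg, Nat.mul_div_cancel _ hq.pos]
    have hx : orderOf (g ^ p) = q := by
      rw [orderOf_pow_of_dvd hp.ne_zero (hg ▸ dvd_mul_right p q), hg, Nat.mul_div_cancel_left _ hp.pos]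
    have hc : g ^ q * g ^ p = g ^ p * g ^ q := ((Commute.refl g).pow_pow q p).eq
    have hxK : g ^ p ∈ K := by
      rw [← QuotientGroup.eq_one_iff, ← orderOf_eq_one_iff]
      refine Nat.eq_one_of_dvd_coprimes (hcopD.coprime_dvd_left hqm)
        (hx ▸ orderOf_map_dvd (QuotientGroup.mk' K) _) ?_
      rw [index_eq_card]
      exact _root_.orderOf_dvd_natCard _
    have hxH : g ^ p ∉ H := fun h => by
      have h1 := Subgroup.orderOf_dvd_natCard H h
      rw [hx] at h1
      exact hq.not_dvd_one ((Nat.Coprime.gcd_eq_one hcopH) ▸ Nat.dvd_gcd hqm h1)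
    by_cases hyK : g ^ q ∈ K
    · have hyH : g ^ q ∈ H := by
        rw [← QuotientGroup.eq_one_iff, ← orderOf_eq_one_iff]
        rcases (Nat.dvd_prime hp).1 (hy ▸ orderOf_map_dvd π (g ^ q)) with h | h
        · exact h
        · exact absurd (h ▸ hKbm ▸ Subgroup.orderOf_dvd_natCard Kb (mem_map_of_mem π hyK)) hpm
      have := hfpfH _ hxK hxH _ hyH hc
      rw [this, orderOf_one] at hy
      exact hp.one_lt.ne hy
    · have := hfpfD (π (g ^ q)) (fun h => hyK (hcomap _ h)) (π (g ^ p)) (mem_map_of_mem π hxK)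
        (by rw [← map_mul, ← map_mul, hc])
      exact hxH ((QuotientGroup.eq_one_iff _).1 this)
  have hHG : ∀ p q : ℕ, p.Prime → q.Prime → p ≠ q → p ∣ Nat.card H → q ∣ K.index →
      ∃ g : G, orderOf g = p * q := by
    intro p q hp hq hpq hpH hqi
    haveI := Fact.mk hp
    haveI := Fact.mk hq
    by_cases hqH : q ∣ Nat.card H
    · obtain ⟨x, hx⟩ := exists_prime_orderOf_dvd_card' p hpH
      obtain ⟨y, hy⟩ := exists_prime_orderOf_dvd_card' q hqH
      have hc := Cfsg.Agent.Solv.commute_of_coprime_orderOf_of_isNilpotent hHnil (x := x) (g := y)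
        (by rw [hx, hy]; exact (Nat.coprime_primes hp hq).2 hpq)
      exact exists_orderOf_mul hp hq hpq (x := (x : G)) (y := (y : G))
        (by rw [Subgroup.orderOf_coe, hx]) (by rw [Subgroup.orderOf_coe, hy]) (congrArg Subtype.val hc.eq)
    by_contra hno
    have hqK : ¬ q ∣ Nat.card K := by
      rw [hKcard, hq.dvd_mul]
      rintro (h | h)
      · exact hqH h
      · exact hq.not_dvd_one ((Nat.Coprime.gcd_eq_one hcopD) ▸ Nat.dvd_gcd h hqi)
    obtain ⟨r, hr, hrm⟩ := Nat.exists_prime_and_dvd hm1.ne'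
    haveI := Fact.mk hr
    obtain ⟨R⟩ := Sylow.nonempty (p := r) (G := K)
    set Rg := (R : Subgroup K).map K.subtype with hRg
    have hRK : Rg ≤ K := map_subtype_le _
    have hsup : normalizer (Rg : Set G) ⊔ K = ⊤ := R.normalizer_sup_eq_top
    have hqN : q ∣ Nat.card (normalizer (Rg : Set G)) := by
      have h1 := Cfsg.Agent.Solv.card_sup_mul_card_inf K (normalizer (Rg : Set G))
        (by rw [normalizer_eq_top (H := K)]; exact le_top)
      rw [sup_comm, hsup, card_top] at h1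
      have h2 : q ∣ Nat.card K * Nat.card (normalizer (Rg : Set G)) :=
        h1 ▸ (hqi.trans (index_dvd_card K)).mul_right _
      exact (hq.dvd_mul.1 h2).resolve_left hqK
    obtain ⟨⟨y, hyN⟩, hy⟩ := exists_prime_orderOf_dvd_card' q hqN
    rw [Subgroup.orderOf_mk] at hy
    have hyK : y ∉ K := fun h => hqK (hy ▸ Subgroup.orderOf_dvd_natCard K h)
    have hrK : r ∣ Nat.card K := hKcard ▸ hrm.mul_left _
    obtain ⟨⟨c, hcR⟩, hc⟩ := exists_prime_orderOf_dvd_card' (G := Rg) r (by
      rw [hRg, card_map_of_injective (subtype_injective _)]; exact R.dvd_card_of_dvd_card hrK)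
    rw [Subgroup.orderOf_mk] at hc
    have hRH : ∀ w ∈ Rg, π w = 1 → w = 1 := by
      intro w hw hw1
      obtain ⟨i, hi⟩ := IsPGroup.iff_card.1 (R.isPGroup'.map K.subtype)
      rw [← orderOf_eq_one_iff]
      refine Nat.eq_one_of_dvd_coprimes (Nat.Coprime.pow_left i (hcopH.coprime_dvd_left hrm))
        (hi ▸ Subgroup.orderOf_dvd_natCard Rg hw) ?_
      exact Subgroup.orderOf_dvd_natCard H ((QuotientGroup.eq_one_iff w).1 hw1)
    have hcn : y * c * y⁻¹ ∈ zpowers c := by
      have hw : y * c * y⁻¹ ∈ Rg := ((mem_normalizer_iff.1 hyN) c).1 hcR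
      have ho : orderOf (⟨π c, mem_map_of_mem π (hRK hcR)⟩ : Kb) = r := by
        rw [Subgroup.orderOf_mk]
        refine orderOf_eq_prime (by rw [← map_pow, ← hc, pow_orderOf_eq_one, map_one]) fun h => ?_
        rw [hRH c hcR h, orderOf_one] at hc
        exact hr.one_lt.ne hc
      obtain ⟨i, hi⟩ := hu r hr ⟨π c, mem_map_of_mem π (hRK hcR)⟩ ⟨π (y * c * y⁻¹), mem_map_of_mem π (hRK hw)⟩ ho
        (Subtype.ext (by
          show π (y * c * y⁻¹) ^ r = 1
          rw [← map_pow, conj_pow, ← hc, pow_orderOf_eq_one]; simp))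
      have hi' : π c ^ i = π (y * c * y⁻¹) := by simpa using congrArg Subtype.val hi
      refine ⟨i, ?_⟩
      have h1 := hRH ((c ^ i)⁻¹ * (y * c * y⁻¹)) (mul_mem (inv_mem (zpow_mem hcR i)) hw)
        (by rw [map_mul, map_inv, map_zpow, hi', inv_mul_cancel])
      exact inv_mul_eq_one.1 h1
    -- a normal abelian `p`-subgroup
    obtain ⟨P⟩ := Sylow.nonempty (p := p) (G := H)
    haveI : (P : Subgroup H).Normal :=
      ((Group.isNilpotent_of_finite_tfae (G := H)).out 0 3 rfl rfl).1 hHnil p inferInstance P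
    haveI := P.characteristic_of_normal inferInstance
    set Pg := (P : Subgroup H).map H.subtype with hPg
    haveI : Pg.Normal := inferInstance
    set V := Pg ⊓ centralizer (Pg : Set G) with hV
    haveI hVc : IsMulCommutative V :=
      ⟨⟨fun a b => Subtype.ext (mem_centralizer_iff.1 b.2.2 _ a.2.1)⟩⟩
    haveI : V.Normal := inferInstance
    have hVb : V ≠ ⊥ := by
      haveI : Nontrivial (P : Subgroup H) := (nontrivial_iff_ne_bot _).2 (P.ne_bot_of_dvd_card hpH)
      haveI := P.isPGroup'.center_nontrivial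
      obtain ⟨z, hz⟩ := exists_ne (1 : center (P : Subgroup H))
      intro hVb
      refine hz (Subtype.ext (Subtype.ext (Subtype.ext ?_)))
      have : (((z : (P : Subgroup H)) : H) : G) ∈ V := by
        refine Subgroup.mem_inf.2 ⟨mem_map_of_mem _ (z : (P : Subgroup H)).2, mem_centralizer_iff.2 ?_⟩
        rintro _ ⟨w, hw, rfl⟩
        exact congrArg (fun x : (P : Subgroup H) => ((x : H) : G)) (mem_center_iff.1 z.2 ⟨w, hw⟩)
      rw [hVb, mem_bot] at this
      exact this
    set B := zpowers c ⊔ zpowers y with hB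
    have hyn : zpowers y ≤ normalizer ((zpowers c : Subgroup G) : Set G) := by
      rw [zpowers_le]
      refine mem_normalizer_iff_map_conj_eq.2 (eq_of_le_of_card_ge ?_ ?_)
      · rw [MonoidHom.map_zpowers, zpowers_le]; exact hcn
      · exact (Nat.card_congr ((zpowers c).equivMapOfInjective _ (MulAut.conj y).injective).toEquiv).le
    have hrq : r ≠ q := fun h => hqK (h ▸ hrK)
    have hBc : Nat.card B = r * q := by
      have h1 := Cfsg.Agent.Solv.card_sup_mul_card_inf (zpowers c) (zpowers y) hyn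
      have h2 : zpowers c ⊓ zpowers y = ⊥ := inf_eq_bot_of_coprime (by
        rw [Nat.card_zpowers, Nat.card_zpowers, hc, hy]; exact (Nat.coprime_primes hr hq).2 hrq)
      rwa [h2, card_bot, mul_one, Nat.card_zpowers, Nat.card_zpowers, hc, hy] at h1
    have hBfpf : ∀ a ∈ B, a ≠ 1 → V ⊓ centralizer {a} = ⊥ := by
      intro a ha ha1
      rw [eq_bot_iff_forall]
      rintro v ⟨hv, hva⟩
      by_contra hv1
      obtain ⟨k, s, hs, hso⟩ := exists_prime_pow ha1
      have hc' : v * a ^ k = a ^ k * v :=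
        ((show Commute v a from mem_centralizer_singleton_iff.1 hva).pow_right k).eq
      have hvH : v ∈ H := map_subtype_le _ hv.1
      have hsd : s ∣ r * q := hso ▸ hBc ▸ Subgroup.orderOf_dvd_natCard B (pow_mem ha k)
      rcases hs.dvd_mul.1 hsd with h | h
      · have hsr := (Nat.prime_dvd_prime_iff_eq hs hr).1 h
        have hakK : a ^ k ∈ K := by
          rw [← QuotientGroup.eq_one_iff, ← orderOf_eq_one_iff]
          refine Nat.eq_one_of_dvd_coprimes (hcopD.coprime_dvd_left (hsr ▸ hrm))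
            (hso ▸ orderOf_map_dvd (QuotientGroup.mk' K) _) ?_
          rw [index_eq_card]
          exact _root_.orderOf_dvd_natCard _
        refine hv1 (hfpfH _ hakK (fun hH => ?_) v hvH hc')
        have h2 := Subgroup.orderOf_dvd_natCard H hH
        rw [hso, hsr] at h2
        exact hr.not_dvd_one ((Nat.Coprime.gcd_eq_one hcopH) ▸ Nat.dvd_gcd hrm h2)
      · have hsq := (Nat.prime_dvd_prime_iff_eq hs hq).1 h
        have hpv : p ∣ orderOf v := by
          obtain ⟨i, hi⟩ := IsPGroup.iff_orderOf.1 (P.isPGroup'.map H.subtype) ⟨v, hv.1⟩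
          rw [Subgroup.orderOf_mk] at hi
          rw [hi]
          refine dvd_pow_self p ?_
          rintro rfl
          rw [pow_zero, orderOf_eq_one_iff] at hi
          exact hv1 hi
        exact hno (exists_orderOf_of_dvd hp hq hpq hpv (by rw [hso, hsq]) hc')
    have hBn : B ≤ normalizer (V : Set G) := by rw [normalizer_eq_top]; exact le_top
    haveI := isCyclic_of_fpf_of_card hVb hBn hBfpf hr hq hBc
    have hcy : c * y = y * c := congrArg Subtype.val
      (mul_comm' (⟨c, mem_sup_left (mem_zpowers c)⟩ : B) ⟨y, mem_sup_right (mem_zpowers y)⟩)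
    have := hfpfD (π y) (fun h => hyK (hcomap _ h)) (π c) (mem_map_of_mem π (hRK hcR))
      (by rw [← map_mul, ← map_mul, hcy])
    rw [hRH c hcR this, orderOf_one] at hc
    exact hr.one_lt.ne hc
  intro p q hp hq hpq hpG hqG
  constructor
  · intro hg
    constructor
    · intro hpm
      by_contra hqm
      obtain ⟨g, hg⟩ := hg
      exact hmixed q p hq hp hpq.symm hpm hqm ⟨g, hg.trans (mul_comm p q)⟩
    · intro hqm
      by_contra hpm
      exact hmixed p q hp hq hpq hqm hpm hg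
  intro hiff
  by_cases hpm : p ∣ m
  · refine exists_of_map π hπ ?_
    obtain ⟨w, hw⟩ := IsCyclic.exists_generator (α := Kb)
    refine ⟨((w ^ (orderOf w / (p * q)) : Kb) : G ⧸ H), ?_⟩
    rw [Subgroup.orderOf_coe]
    refine orderOf_pow_orderOf_div (orderOf_pos w).ne' ?_
    rw [orderOf_eq_card_of_forall_mem_zpowers hw, hKbm]
    exact ((Nat.coprime_primes hp hq).2 hpq).mul_dvd_of_dvd_of_dvd hpm (hiff.1 hpm)
  have hqm : ¬ q ∣ m := fun h => hpm (hiff.2 h)
  have hsplit : ∀ s : ℕ, s.Prime → s ∣ Nat.card G → ¬ s ∣ m → s ∣ Nat.card H ∨ s ∣ K.index := by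
    intro s hs hsG hsm
    rw [hGcard] at hsG
    rcases hs.dvd_mul.1 hsG with h | h
    · exact Or.inl ((hs.dvd_mul.1 h).resolve_right hsm)
    · exact Or.inr h
  rcases hsplit p hp hpG hpm with hpH | hpi
  · rcases hsplit q hq hqG hqm with hqH | hqi
    · haveI := Fact.mk hp
      haveI := Fact.mk hq
      obtain ⟨x, hx⟩ := exists_prime_orderOf_dvd_card' p hpH
      obtain ⟨y, hy⟩ := exists_prime_orderOf_dvd_card' q hqH
      have hc := Cfsg.Agent.Solv.commute_of_coprime_orderOf_of_isNilpotent hHnil (x := x) (g := y)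
        (by rw [hx, hy]; exact (Nat.coprime_primes hp hq).2 hpq)
      exact exists_orderOf_mul hp hq hpq (x := (x : G)) (y := (y : G))
        (by rw [Subgroup.orderOf_coe, hx]) (by rw [Subgroup.orderOf_coe, hy]) (congrArg Subtype.val hc.eq)
    · exact hHG p q hp hq hpq hpH hqi
  · rcases hsplit q hq hqG hqm with hqH | hqi
    · obtain ⟨g, hg⟩ := hHG q p hq hp hpq.symm hqH hpi
      exact ⟨g, hg.trans (mul_comm q p)⟩
    · refine exists_of_map (QuotientGroup.mk' K) (QuotientGroup.mk'_surjective K) ?_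
      obtain ⟨w, hw⟩ := IsCyclic.exists_generator (α := G ⧸ K)
      refine ⟨w ^ (orderOf w / (p * q)), orderOf_pow_orderOf_div (orderOf_pos w).ne' ?_⟩
      rw [orderOf_eq_card_of_forall_mem_zpowers hw, ← index_eq_card]
      exact ((Nat.coprime_primes hp hq).2 hpq).mul_dvd_of_dvd_of_dvd hpi hqi

end Cfsg.Agent.S4001
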