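import Cfsg.Statements.S4002
import Cfsg.Agent.Lib.Solv.Hall
import Cfsg.Agent.Lib.Solv.Basic
import Cfsg.Agent.Lib.Struct.TwoFrobenius
import Cfsg.Agent.Lib.Struct.FpfSub
import Cfsg.Agent.Lib.Perm.ThreePrimes

set_option autoImplicit false
open Cfsg

namespace Cfsg.Agent.S4002

open Subgroup Cfsg.Agent.Struct.TwoFrobenius

universe u

variable {G : Type u} [Group G] [Finite G]

/-- In a `{p,q,r}`-group with a normal abelian `p`-subgroup, two of the primes pair up. -/
theorem exists_pair [Group.IsSolvable G] (V : Subgroup G) [V.Normal] [IsMulCommutative V] (hV : V ≠ ⊥)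
    {p q r : ℕ} (hp : p.Prime) (hq : q.Prime) (hr : r.Prime) (hpq : p ≠ q) (hpr : p ≠ r) (hqr : q ≠ r)
    (hVp : ∀ v ∈ V, v ^ p = 1) (hdr : r ∣ Nat.card G) (hdq : q ∣ Nat.card G)
    (hall : ∀ s : ℕ, s.Prime → s ∣ Nat.card G → s = p ∨ s = q ∨ s = r) :
    ∃ (a b : ℕ) (g : G), a ≠ b ∧ (a = p ∨ a = q ∨ a = r) ∧ (b = p ∨ b = q ∨ b = r) ∧ orderOf g = a * b := by
  classical
  by_contra hno
  push Not at hno
  have hcard : 0 < Nat.card G := Nat.card_pos
  obtain ⟨K, hK⟩ := Cfsg.Agent.Solv.hall_exists (m := q ^ (Nat.card G).factorization q * r ^ (Nat.card G).factorization r)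
    (n := p ^ (Nat.card G).factorization p) (G := G) (by
      refine Nat.eq_of_factorization_eq hcard.ne' (by have := hp.pos; have := hq.pos; have := hr.pos; positivity) fun s => ?_
      rw [Nat.factorization_mul (by have := hq.pos; have := hr.pos; positivity) (pow_ne_zero _ hp.ne_zero),
        Nat.factorization_mul (pow_ne_zero _ hq.ne_zero) (pow_ne_zero _ hr.ne_zero),
        hq.factorization_pow, hr.factorization_pow, hp.factorization_pow]
      simp only [Finsupp.add_apply, Finsupp.single_apply]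
      by_cases hs : s.Prime ∧ s ∣ Nat.card G
      · rcases hall s hs.1 hs.2 with rfl | rfl | rfl <;> simp [hpq, hpr, hqr, hpq.symm, hpr.symm, hqr.symm]
      · have h0 : (Nat.card G).factorization s = 0 := by
          by_cases hsp : s.Prime
          · exact Nat.factorization_eq_zero_of_not_dvd fun h => hs ⟨hsp, h⟩
          · exact Nat.factorization_eq_zero_of_not_prime _ hsp
        rw [h0]
        split_ifs <;> subst_vars <;> omega)
    (Nat.Coprime.mul_left (Nat.coprime_pow_primes _ _ hq hp hpq.symm) (Nat.coprime_pow_primes _ _ hr hp hpr.symm))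
  have hKdvd : ∀ s : ℕ, s.Prime → s ∣ Nat.card K → s = q ∨ s = r := by
    intro s hs hd
    rw [hK] at hd
    rcases hs.dvd_mul.1 hd with h | h
    · exact Or.inl ((Nat.prime_dvd_prime_iff_eq hs hq).1 (hs.dvd_of_dvd_pow h))
    · exact Or.inr ((Nat.prime_dvd_prime_iff_eq hs hr).1 (hs.dvd_of_dvd_pow h))
  have hfpf : ∀ a ∈ K, a ≠ 1 → V ⊓ centralizer {a} = ⊥ := by
    intro a ha ha1
    rw [eq_bot_iff_forall]
    rintro v ⟨hv, hvc⟩
    by_contra hv1
    obtain ⟨s, hs, hsd⟩ := Nat.exists_prime_and_dvd (fun h => ha1 (orderOf_eq_one_iff.1 h))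
    have hsqr := hKdvd s hs (hsd.trans (Subgroup.orderOf_dvd_natCard K ha))
    have hps : p ≠ s := by rcases hsqr with rfl | rfl <;> assumption
    have hvo : orderOf v = p := ((Nat.dvd_prime hp).1 (orderOf_dvd_of_pow_eq_one (hVp v hv))).resolve_left
      fun h => hv1 (orderOf_eq_one_iff.1 h)
    obtain ⟨g, hg⟩ := exists_orderOf_of_dvd hp hs hps (by rw [hvo]) hsd (mem_centralizer_singleton_iff.1 hvc)
    exact hno p s g hps (Or.inl rfl) (Or.inr hsqr) hg
  haveI : Group.IsSolvable K := inferInstance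
  have hrK : r ∣ Nat.card K := by
    rw [hK]; exact (dvd_pow_self r (hr.factorization_pos_of_dvd hcard.ne' hdr).ne').trans (Dvd.intro_left _ rfl)
  have hqK : q ∣ Nat.card K := by
    rw [hK]; exact (dvd_pow_self q (hq.factorization_pos_of_dvd hcard.ne' hdq).ne').trans (Dvd.intro _ rfl)
  have hKb : (⊤ : Subgroup K) ≠ ⊥ := fun h => by
    rw [← Subgroup.card_top (G := K), h, Subgroup.card_bot] at hqK
    exact hq.not_dvd_one hqK
  obtain ⟨M, hMn, -, hMb, hMmin⟩ := Cfsg.Agent.Solv.exists_minimal_normal_le (N := (⊤ : Subgroup K)) hKb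
  haveI := hMn
  obtain ⟨hMc, s, hs, hMs⟩ := Cfsg.Agent.Solv.minimal_normal_elementary M hMb hMmin
  -- the other prime
  obtain ⟨t, ht, hst, htK, hmem⟩ : ∃ t : ℕ, t.Prime ∧ s ≠ t ∧ t ∣ Nat.card K ∧ ((s = q ∧ t = r) ∨ (s = r ∧ t = q)) := by
    obtain ⟨x, hx, hx1⟩ := (bot_or_exists_ne_one M).resolve_left hMb
    have hxo : orderOf x = s := ((Nat.dvd_prime hs).1 (orderOf_dvd_of_pow_eq_one (hMs x hx))).resolve_left
      fun h => hx1 (orderOf_eq_one_iff.1 h)
    rcases hKdvd s hs (hxo ▸ orderOf_dvd_natCard x) with rfl | rfl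
    · exact ⟨r, hr, hqr, hrK, Or.inl ⟨rfl, rfl⟩⟩
    · exact ⟨q, hq, hqr.symm, hqK, Or.inr ⟨rfl, rfl⟩⟩
  have hAV : ∀ A : Subgroup G, A ≤ normalizer (V : Set G) := fun A => by
    rw [normalizer_eq_top]; exact le_top
  have hMK : M.map K.subtype ≤ K := map_subtype_le M
  have hMcyc : IsCyclic (M.map K.subtype) := by
    refine Cfsg.Agent.Struct.Frobenius.isCyclic_of_fpf_of_commute hV (hAV _) (fun a ha => hfpf a (hMK ha)) ?_
    rintro ⟨_, x, hx, rfl⟩ ⟨_, y, hy, rfl⟩
    exact Subtype.ext (congrArg (fun w : K => (w : G)) (congrArg Subtype.val (mul_comm' (⟨x, hx⟩ : M) ⟨y, hy⟩) :))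
  have hMcard : Nat.card M = s := by
    have e := Nat.card_congr (M.equivMapOfInjective _ K.subtype_injective).toEquiv
    obtain ⟨g, hg⟩ := hMcyc.exists_generator
    obtain ⟨x, hx, hxg⟩ := g.2
    have hgo : orderOf g = Nat.card (M.map K.subtype) := orderOf_eq_card_of_forall_mem_zpowers hg
    have h1 : orderOf g ∣ s := orderOf_dvd_of_pow_eq_one (Subtype.ext (by
      show (g : G) ^ s = 1
      rw [← hxg, ← map_pow, hMs x hx, map_one]))
    rw [e, ← hgo]
    refine ((Nat.dvd_prime hs).1 h1).resolve_left fun h => hMb ?_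
    rw [← Subgroup.card_eq_one, e, ← hgo, h]
  haveI := Fact.mk ht
  obtain ⟨y, hy⟩ := exists_prime_orderOf_dvd_card' t htK
  let A : Subgroup K := M ⊔ zpowers y
  have hAcard : Nat.card A = s * t := by
    have hdis : Disjoint M (zpowers y) := Subgroup.disjoint_of_coprime_natCard (by
      rw [hMcard, Nat.card_zpowers, hy]; exact (Nat.coprime_primes hs ht).2 hst)
    have h1 : Nat.card A * Nat.card (M ⊓ zpowers y : Subgroup K) = Nat.card M * Nat.card (zpowers y) :=
      (Cfsg.Agent.Solv.card_sup_mul_card_inf M (zpowers y) (by rw [normalizer_eq_top]; exact le_top))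
    rwa [disjoint_iff.1 hdis, card_bot, mul_one, hMcard, Nat.card_zpowers, hy] at h1
  have hAcyc : IsCyclic (A.map K.subtype) := by
    refine Cfsg.Agent.Struct.Frobenius.isCyclic_of_fpf_of_card hV (hAV _) (fun a ha => hfpf a (map_subtype_le A ha)) hs ht ?_
    rw [← Nat.card_congr (A.equivMapOfInjective _ K.subtype_injective).toEquiv, hAcard]
  obtain ⟨g, hg⟩ := hAcyc.exists_generator
  have hgo : orderOf (g : G) = s * t := by
    rw [Subgroup.orderOf_coe, orderOf_eq_card_of_forall_mem_zpowers hg,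
      ← Nat.card_congr (A.equivMapOfInjective _ K.subtype_injective).toEquiv, hAcard]
  rcases hmem with ⟨rfl, rfl⟩ | ⟨rfl, rfl⟩
  · exact hno _ _ g hst (Or.inr (Or.inl rfl)) (Or.inr (Or.inr rfl)) hgo
  · exact hno _ _ g hst (Or.inr (Or.inr rfl)) (Or.inr (Or.inl rfl)) hgo

/-- A finite solvable group has two adjacent ones among any three prime divisors. -/
theorem three_primes [Group.IsSolvable G] {p q r : ℕ} (hp : p.Prime) (hq : q.Prime) (hr : r.Prime)
    (hpq : p ≠ q) (hpr : p ≠ r) (hqr : q ≠ r) (hdp : p ∣ Nat.card G) (hdq : q ∣ Nat.card G) (hdr : r ∣ Nat.card G) :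
    ∃ (a b : ℕ) (g : G), a ≠ b ∧ (a = p ∨ a = q ∨ a = r) ∧ (b = p ∨ b = q ∨ b = r) ∧ orderOf g = a * b := by
  classical
  have hc : 0 < Nat.card G := Nat.card_pos
  set N := (Nat.card G).factorization with hN
  set m := p ^ N p * q ^ N q * r ^ N r with hm
  have hcop3 : ∀ {a b : ℕ}, a.Prime → b.Prime → a ≠ b → Nat.Coprime (a ^ N a) (b ^ N b) :=
    fun ha hb hab => Nat.coprime_pow_primes _ _ ha hb hab
  have hmd : m ∣ Nat.card G := Nat.Coprime.mul_dvd_of_dvd_of_dvd (Nat.Coprime.mul_left (hcop3 hp hr hpr) (hcop3 hq hr hqr))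
    ((hcop3 hp hq hpq).mul_dvd_of_dvd_of_dvd (Nat.ordProj_dvd _ _) (Nat.ordProj_dvd _ _)) (Nat.ordProj_dvd _ _)
  obtain ⟨n, hn⟩ := hmd
  have hnd : ∀ s : ℕ, s.Prime → (s = p ∨ s = q ∨ s = r) → ¬ s ∣ n := by
    intro s hs hmem hd
    have h1 : s ^ N s ∣ m := by
      rcases hmem with rfl | rfl | rfl
      · exact (Dvd.intro _ rfl).trans (Dvd.intro _ rfl)
      · exact (Dvd.intro_left _ rfl).trans (Dvd.intro _ rfl)
      · exact Dvd.intro_left _ rfl
    exact Nat.pow_succ_factorization_not_dvd hc.ne' hs (by rw [pow_succ]; exact (mul_dvd_mul h1 hd).trans (dvd_of_eq hn.symm))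
  obtain ⟨H, hH⟩ := Cfsg.Agent.Solv.hall_exists hn (Nat.Coprime.mul_left (Nat.Coprime.mul_left
    (((hp.coprime_iff_not_dvd).2 (hnd p hp (Or.inl rfl))).pow_left _)
    (((hq.coprime_iff_not_dvd).2 (hnd q hq (Or.inr (Or.inl rfl)))).pow_left _))
    (((hr.coprime_iff_not_dvd).2 (hnd r hr (Or.inr (Or.inr rfl)))).pow_left _))
  have hpos : ∀ {s : ℕ}, s.Prime → s ∣ Nat.card G → s ∣ s ^ N s := fun hs hd =>
    dvd_pow_self _ (hs.factorization_pos_of_dvd hc.ne' hd).ne'
  have hHp : p ∣ Nat.card H := hH ▸ (hpos hp hdp).trans ((Dvd.intro _ rfl).trans (Dvd.intro _ rfl))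
  have hHq : q ∣ Nat.card H := hH ▸ (hpos hq hdq).trans ((Dvd.intro_left _ rfl).trans (Dvd.intro _ rfl))
  have hHr : r ∣ Nat.card H := hH ▸ (hpos hr hdr).trans (Dvd.intro_left _ rfl)
  have hall : ∀ s : ℕ, s.Prime → s ∣ Nat.card H → s = p ∨ s = q ∨ s = r := by
    intro s hs hd
    rw [hH] at hd
    rcases hs.dvd_mul.1 hd with h | h
    · rcases hs.dvd_mul.1 h with h | h
      · exact Or.inl ((Nat.prime_dvd_prime_iff_eq hs hp).1 (hs.dvd_of_dvd_pow h))
      · exact Or.inr (Or.inl ((Nat.prime_dvd_prime_iff_eq hs hq).1 (hs.dvd_of_dvd_pow h)))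
    · exact Or.inr (Or.inr ((Nat.prime_dvd_prime_iff_eq hs hr).1 (hs.dvd_of_dvd_pow h)))
  have hHb : (⊤ : Subgroup H) ≠ ⊥ := fun h => by
    rw [← Subgroup.card_top (G := H), h, Subgroup.card_bot] at hHp
    exact hp.not_dvd_one hHp
  obtain ⟨V, hVn, -, hVb, hVmin⟩ := Cfsg.Agent.Solv.exists_minimal_normal_le (N := (⊤ : Subgroup H)) hHb
  haveI := hVn
  obtain ⟨hVc, s, hs, hVs⟩ := Cfsg.Agent.Solv.minimal_normal_elementary V hVb hVmin
  haveI := hVc
  obtain ⟨x, hx, hx1⟩ := (bot_or_exists_ne_one V).resolve_left hVb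
  have hxo : orderOf x = s := ((Nat.dvd_prime hs).1 (orderOf_dvd_of_pow_eq_one (hVs x hx))).resolve_left
    fun h => hx1 (orderOf_eq_one_iff.1 h)
  rcases hall s hs (hxo ▸ orderOf_dvd_natCard x) with rfl | rfl | rfl
  · obtain ⟨a, b, g, h1, h2, h3, h4⟩ := exists_pair V hVb hp hq hr hpq hpr hqr hVs hHr hHq hall
    exact ⟨a, b, g, h1, h2, h3, by rw [Subgroup.orderOf_coe, h4]⟩
  · obtain ⟨a, b, g, h1, h2, h3, h4⟩ := exists_pair V hVb hq hp hr hpq.symm hqr hpr hVs hHr hHp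
      (fun t ht hd => by rcases hall t ht hd with h | h | h <;> simp [h])
    exact ⟨a, b, g, h1, by tauto, by tauto, by rw [Subgroup.orderOf_coe, h4]⟩
  · obtain ⟨a, b, g, h1, h2, h3, h4⟩ := exists_pair V hVb hr hp hq hpr.symm hqr.symm hpq hVs hHq hHp
      (fun t ht hd => by rcases hall t ht hd with h | h | h <;> simp [h])
    exact ⟨a, b, g, h1, by tauto, by tauto, by rw [Subgroup.orderOf_coe, h4]⟩


/-- If the set of element orders of a finite group G is {1, 2, …, n} with n ≥ 7, then G is not solvable. -/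
theorem result {G : Type*} [Group G] [Finite G] (n : ℕ) (hn : 7 ≤ n) (h : Set.range (orderOf : G → ℕ) = {k : ℕ | 1 ≤ k ∧ k ≤ n}) : ¬ Group.IsSolvable G := by
  intro hsol
  haveI := hsol
  obtain ⟨a, b, c, ha, hb, hc, hab, hbc, hcn, hprod⟩ : ∃ a b c : ℕ, a.Prime ∧ b.Prime ∧ c.Prime ∧ a < b ∧ b < c ∧ c ≤ n ∧ n < a * b := by
    by_cases h18 : 18 ≤ n
    · obtain ⟨a, b, c, ha, hb, hc, hna, hab, hbc, hc2⟩ := Cfsg.Agent.Perm.exists_three_primes (n := n / 2) (by omega)
      refine ⟨a, b, c, ha, hb, hc, hab, hbc, by omega, ?_⟩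
      have h3 : 3 * b ≤ a * b := Nat.mul_le_mul_right b (by omega)
      omega
    · by_cases h15 : 15 ≤ n
      · exact ⟨5, 7, 11, by norm_num, by norm_num, by norm_num, by norm_num, by norm_num, by omega, by omega⟩
      · exact ⟨3, 5, 7, by norm_num, by norm_num, by norm_num, by norm_num, by norm_num, by omega, by omega⟩
  have hdvd : ∀ s : ℕ, s.Prime → s ≤ n → s ∣ Nat.card G := by
    intro s hs hle
    obtain ⟨g, hg⟩ : s ∈ Set.range (orderOf : G → ℕ) := by rw [h]; exact ⟨hs.one_lt.le, hle⟩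
    exact hg ▸ orderOf_dvd_natCard g
  obtain ⟨x, y, g, hxy, hx, hy, hg⟩ := three_primes ha hb hc (by omega) (by omega) (by omega)
    (hdvd a ha (by omega)) (hdvd b hb (by omega)) (hdvd c hc hcn)
  have hmem : orderOf g ∈ {k : ℕ | 1 ≤ k ∧ k ≤ n} := h ▸ Set.mem_range_self g
  have hlt : n < x * y := by
    have hac : a * b ≤ a * c := Nat.mul_le_mul_left a hbc.le
    have hbc' : a * b ≤ b * c := Nat.mul_le_mul hab.le hbc.le
    rcases hx with rfl | rfl | rfl <;> rcases hy with rfl | rfl | rfl <;>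
      first | exact absurd rfl hxy | nlinarith
  rw [hg] at hmem
  exact absurd hmem.2 (by omega)


end Cfsg.Agent.S4002
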