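import Cfsg.Statements.S4003
import Cfsg.Agent.Lib.Struct.NormalElementary
import Cfsg.Agent.Lib.Struct.FrobeniusCount

set_option autoImplicit false
set_option linter.style.haveILetI false
open Cfsg
open Subgroup

namespace Cfsg.Agent.S4003

open Cfsg.Agent.Struct

variable {G : Type*} [Group G] [Finite G]

theorem sum_zpowers (S : Finset G) [DecidableEq (Subgroup G)] (d : ℕ) (hd : ∀ x ∈ S, orderOf x = d)
    (hS : ∀ x ∈ S, ∀ y, zpowers x = zpowers y → y ∈ S) (g : Subgroup G → ℕ) :
    ∑ x ∈ S, g (zpowers x) = d.totient * ∑ H ∈ S.image zpowers, g H := by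
  classical
  rw [Finset.mul_sum, ← Finset.sum_fiberwise_of_maps_to (g := zpowers) (t := S.image zpowers)
    (fun x hx => Finset.mem_image_of_mem _ hx)]
  refine Finset.sum_congr rfl fun H hH => ?_
  obtain ⟨x, hx, rfl⟩ := Finset.mem_image.1 hH
  rw [Finset.sum_congr rfl (g := fun _ => g (zpowers x)) (fun y hy => by rw [(Finset.mem_filter.1 hy).2]),
    Finset.sum_const, smul_eq_mul]
  congr 1
  haveI := Fintype.ofFinite (zpowers x)
  rw [← hd x hx, ← IsCyclic.card_orderOf_eq_totient (α := zpowers x)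
    (by rw [← Nat.card_eq_fintype_card, Nat.card_zpowers])]
  refine (Finset.card_bij (fun (y : zpowers x) _ => (y : G)) ?_ ?_ ?_).symm
  · intro y hy
    have h : zpowers (y : G) = zpowers x := by
      refine eq_of_le_of_card_ge (zpowers_le.2 y.2) (le_of_eq ?_)
      rw [Nat.card_zpowers, Nat.card_zpowers, Subgroup.orderOf_coe, (Finset.mem_filter.1 hy).2]
    exact Finset.mem_filter.2 ⟨hS x hx y h.symm, h⟩
  · exact fun a _ b _ h => Subtype.ext h
  · intro y hy
    obtain ⟨-, h⟩ := Finset.mem_filter.1 hy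
    refine ⟨⟨y, h ▸ mem_zpowers y⟩, Finset.mem_filter.2 ⟨Finset.mem_univ _, ?_⟩, rfl⟩
    rw [Subgroup.orderOf_mk, ← Nat.card_zpowers, h, Nat.card_zpowers]

theorem dvd_card_pgroup {p : ℕ} [Fact p.Prime] (hG : IsPGroup p G) (hp2 : p ≠ 2) (hnc : ¬ IsCyclic G)
    (t : ℕ) : p ^ (t + 2) ∣ Nat.card {x : G // orderOf x = p ^ (t + 2)} := by
  classical
  have hp : p.Prime := Fact.out
  haveI := Fintype.ofFinite G
  obtain ⟨E, hE, hEc, hEab, hEexp⟩ := exists_normal_elementary hG hp2 hnc
  let fib : G → ℕ := fun y => Nat.card {x : G // x ^ p = y}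
  have hfib : ∀ y : G, p ^ 2 ∣ fib y := by
    intro y
    let W : Set (G ⧸ E) := QuotientGroup.mk '' {x : G | x ^ p = y}
    have hset : (QuotientGroup.mk ⁻¹' W : Set G) = {x : G | x ^ p = y} := by
      ext x
      refine ⟨?_, fun hx => ⟨x, hx, rfl⟩⟩
      rintro ⟨w, hw, hwx⟩
      obtain ⟨e, he, rfl⟩ : ∃ e ∈ E, x = w * e := ⟨w⁻¹ * x, QuotientGroup.eq.1 hwx, by group⟩
      exact (mul_pow_prime_eq hG hp2 E hEc hEab hEexp w e he).trans hw
    have h1 : fib y = Nat.card E * Nat.card W := by
      rw [← Nat.card_prod, ← Nat.card_congr (QuotientGroup.preimageMkEquivSubgroupProdSet E W), hset]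
      rfl
    rw [h1, hEc]
    exact dvd_mul_right _ _
  have hord : ∀ x : G, orderOf x = p ^ (t + 2) ↔ orderOf (x ^ p) = p ^ (t + 1) := by
    intro x
    obtain ⟨k, hk⟩ := IsPGroup.iff_orderOf.1 hG x
    rcases k with _ | k
    · rw [pow_zero, orderOf_eq_one_iff] at hk
      subst hk
      rw [one_pow, orderOf_one]
      exact ⟨fun h => absurd h (Nat.one_lt_pow (by omega) hp.one_lt).ne,
        fun h => absurd h (Nat.one_lt_pow (by omega) hp.one_lt).ne⟩
    · rw [orderOf_pow_of_dvd hp.ne_zero (hk ▸ dvd_pow_self p k.succ_ne_zero), hk, pow_succ,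
        Nat.mul_div_cancel _ hp.pos, ← pow_succ]
      constructor
      · intro h; rw [Nat.succ_injective (Nat.pow_right_injective hp.two_le h)]
      · intro h; rw [Nat.pow_right_injective hp.two_le h]
  set Y := Finset.univ.filter fun y : G => orderOf y = p ^ (t + 1) with hY
  have hmain : Nat.card {x : G // orderOf x = p ^ (t + 2)} = ∑ y ∈ Y, fib y := by
    rw [Nat.card_eq_fintype_card, Fintype.card_subtype,
      Finset.card_eq_sum_card_fiberwise (f := fun x => x ^ p) (t := Y)
        (fun x hx => Finset.mem_filter.2 ⟨Finset.mem_univ _, (hord x).1 (Finset.mem_filter.1 hx).2⟩)]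
    refine Finset.sum_congr rfl fun y hy => ?_
    show _ = Nat.card {x : G // x ^ p = y}
    rw [Nat.card_eq_fintype_card, Fintype.card_subtype, Finset.filter_filter]
    refine congrArg Finset.card (Finset.filter_congr fun x _ => ⟨fun h => h.2, fun h => ⟨?_, h⟩⟩)
    rw [hord, h]; exact (Finset.mem_filter.1 hy).2
  have hconst : ∀ y ∈ Y, ∀ z, zpowers y = zpowers z → fib y = fib z := by
    intro y hy z hz
    obtain ⟨j, rfl⟩ : ∃ j : ℕ, y ^ j = z := mem_powers_iff_mem_zpowers.2 (hz ▸ mem_zpowers z)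
    have hj : (Nat.card G).Coprime j := by
      obtain ⟨n, hn⟩ := IsPGroup.iff_card.1 hG
      have hy' := (Finset.mem_filter.1 hy).2
      have hz' : orderOf (y ^ j) = orderOf y := by
        rw [← Nat.card_zpowers, ← hz, Nat.card_zpowers]
      rw [hn]
      refine ((hp.coprime_iff_not_dvd.2 ?_).pow_left n)
      intro hpj
      have hd : orderOf (y ^ j) ∣ p ^ t := by
        refine orderOf_dvd_of_pow_eq_one ?_
        obtain ⟨i, rfl⟩ := hpj
        rw [← pow_mul, mul_right_comm, ← pow_succ', ← hy', pow_mul, pow_orderOf_eq_one, one_pow]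
      rw [hz', hy'] at hd
      exact absurd (Nat.le_of_dvd (pow_pos hp.pos t) hd) (not_le.2 (Nat.pow_lt_pow_succ hp.one_lt))
    refine Nat.card_congr ((powCoprime hj).subtypeEquiv fun x => ?_)
    show x ^ p = y ↔ (x ^ j) ^ p = y ^ j
    rw [← pow_mul, mul_comm, pow_mul]
    exact ⟨fun h => by rw [h], fun h => (powCoprime hj).injective h⟩
  have hfun : ∀ y ∈ Y, ∀ H, H = zpowers y →
      (if h : ∃ z ∈ Y, zpowers z = H then fib h.choose else 0) = fib y := by
    intro y hy H hH
    have h : ∃ z ∈ Y, zpowers z = H := ⟨y, hy, hH.symm⟩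
    rw [dif_pos h]
    exact hconst _ h.choose_spec.1 y (h.choose_spec.2.trans hH)
  rw [hmain, ← Finset.sum_congr rfl fun y hy => hfun y hy _ rfl,
    sum_zpowers Y (p ^ (t + 1)) (fun x hx => (Finset.mem_filter.1 hx).2)
    (fun x hx y h => Finset.mem_filter.2 ⟨Finset.mem_univ _, by
      rw [← Nat.card_zpowers, ← h, Nat.card_zpowers]; exact (Finset.mem_filter.1 hx).2⟩)
    (fun H => if h : ∃ z ∈ Y, zpowers z = H then fib h.choose else 0)]
  refine dvd_trans ?_ (mul_dvd_mul_left _ (Finset.dvd_sum (a := p ^ 2) fun H _ => ?_))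
  · rw [Nat.totient_prime_pow hp (Nat.succ_pos t), Nat.succ_sub_one, pow_add]
    exact mul_dvd_mul_right (dvd_mul_right _ _) _
  · show p ^ 2 ∣ dite _ _ _
    split
    · exact hfib _
    · exact dvd_zero _

theorem dvd_card {p : ℕ} [Fact p.Prime] (hp2 : p ≠ 2) (P : Sylow p G) (hnc : ¬ IsCyclic (P : Subgroup G))
    (s : ℕ) (hs : 1 < s) : p ^ s ∣ Nat.card {x : G // orderOf x = p ^ s} := by
  classical
  have hp : p.Prime := Fact.out
  haveI := Fintype.ofFinite G
  obtain ⟨t, rfl⟩ : ∃ t, s = t + 2 := ⟨s - 2, by omega⟩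
  rw [Nat.card_eq_fintype_card, Fintype.card_subtype,
    ← Finset.card_filter_add_card_filter_not (fun x => x ∈ (P : Subgroup G))]
  refine dvd_add ?_ ?_
  · have h := dvd_card_pgroup P.isPGroup' hp2 hnc t
    haveI := Fintype.ofFinite (P : Subgroup G)
    rw [Nat.card_eq_fintype_card, Fintype.card_subtype] at h
    refine h.trans (dvd_of_eq (Finset.card_bij (fun x _ => (x : G)) ?_ ?_ ?_))
    · intro x hx
      simp only [Finset.mem_filter, Finset.mem_univ, true_and] at hx ⊢
      exact ⟨by rw [Subgroup.orderOf_coe, hx], x.2⟩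
    · exact fun a _ b _ h => Subtype.ext h
    · intro x hx
      simp only [Finset.mem_filter, Finset.mem_univ, true_and] at hx
      exact ⟨⟨x, hx.2⟩, Finset.mem_filter.2 ⟨Finset.mem_univ _, by rw [Subgroup.orderOf_mk, hx.1]⟩, rfl⟩
  set S := (Finset.univ.filter fun x : G => orderOf x = p ^ (t + 2)).filter fun x => x ∉ (P : Subgroup G)
    with hS
  have hd : ∀ x ∈ S, orderOf x = p ^ (t + 2) := fun x hx =>
    (Finset.mem_filter.1 (Finset.mem_filter.1 hx).1).2
  rw [Finset.card_eq_sum_ones, sum_zpowers S _ hd (fun x hx y h => Finset.mem_filter.2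
    ⟨Finset.mem_filter.2 ⟨Finset.mem_univ _, by rw [← Nat.card_zpowers, ← h, Nat.card_zpowers, hd x hx]⟩,
      fun hy => (Finset.mem_filter.1 hx).2 ((zpowers_le.2 hy) (h ▸ mem_zpowers x))⟩) (fun _ => 1),
    ← Finset.card_eq_sum_ones, Nat.totient_prime_pow hp (Nat.succ_pos _)]
  have hT : p ∣ Nat.card ↥(S.image zpowers) := by
    have hmem : ∀ (u : (P : Subgroup G)) (H : ↥(S.image zpowers)),
        (H : Subgroup G).map (MulAut.conj (u : G)).toMonoidHom ∈ S.image zpowers := by
      rintro u ⟨H, hH⟩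
      obtain ⟨x, hx, rfl⟩ := Finset.mem_image.1 hH
      refine Finset.mem_image.2 ⟨(u : G) * x * (u : G)⁻¹, ?_, (MonoidHom.map_zpowers ((MulAut.conj (u : G)).toMonoidHom) x).symm⟩
      refine Finset.mem_filter.2 ⟨Finset.mem_filter.2 ⟨Finset.mem_univ _,
        ((MulAut.conj (u : G)).orderOf_eq x).trans (hd x hx)⟩, fun h => (Finset.mem_filter.1 hx).2 ?_⟩
      have := mul_mem (mul_mem (inv_mem u.2) h) u.2
      simpa [mul_assoc] using this
    letI : MulAction (P : Subgroup G) ↥(S.image zpowers) :=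
      { smul := fun u H => ⟨_, hmem u H⟩
        one_smul := fun H => Subtype.ext (by
          show (H : Subgroup G).map (MulAut.conj ((1 : (P : Subgroup G)) : G)).toMonoidHom = H
          simp only [Subgroup.coe_one, map_one]
          exact map_id _)
        mul_smul := fun u v H => Subtype.ext (by
          show (H : Subgroup G).map (MulAut.conj ((u * v : (P : Subgroup G)) : G)).toMonoidHom = _
          rw [Subgroup.coe_mul, map_mul]
          exact (Subgroup.map_map (H : Subgroup G) (MulAut.conj (u : G)).toMonoidHom (MulAut.conj (v : G)).toMonoidHom).symm) }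
    have h0 : IsEmpty (MulAction.fixedPoints (P : Subgroup G) ↥(S.image zpowers)) := by
      refine ⟨fun ⟨⟨H, hH⟩, hfix⟩ => ?_⟩
      obtain ⟨x, hx, rfl⟩ := Finset.mem_image.1 hH
      have hn : (P : Subgroup G) ≤ normalizer ((zpowers x : Subgroup G) : Set G) := fun u hu =>
        mem_normalizer_iff_map_conj_eq.2 (congrArg Subtype.val (hfix ⟨u, hu⟩))
      have hxp : IsPGroup p (zpowers x) := IsPGroup.of_card (n := t + 2) (by rw [Nat.card_zpowers, hd x hx])
      exact (Finset.mem_filter.1 hx).2 ((P.is_maximal' (P.isPGroup'.to_sup_of_normal_right' hxp hn)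
        le_sup_left).le (mem_sup_right (mem_zpowers x)))
    have h := P.isPGroup'.card_modEq_card_fixedPoints ↥(S.image zpowers)
    rw [Nat.card_of_isEmpty (α := MulAction.fixedPoints (P : Subgroup G) ↥(S.image zpowers))] at h
    exact Nat.modEq_zero_iff_dvd.1 h
  rw [Nat.card_eq_fintype_card, Fintype.card_coe] at hT
  rw [show p ^ (t + 2) = p ^ (t + 1) * p from pow_succ p (t + 1)]
  exact mul_dvd_mul (dvd_mul_right _ _) hT


/-- Let G be a finite group, p an odd prime dividing the order of G whose Sylow p-subgroups are not cyclic, and n = p^s·m with s > 1 and m coprime to p. Then the number of elements of G of order n is a multiple of p^s. -/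
theorem result {G : Type*} [Group G] [Finite G] (p : ℕ) [Fact p.Prime] (hodd : p ≠ 2) (hpG : p ∣ Nat.card G)
    (P : Sylow p G) (hP : ¬ IsCyclic ↥(P : Subgroup G)) (s m : ℕ) (hs : 1 < s) (hm : Nat.Coprime p m) :
    p ^ s ∣ Nat.card {g : G // orderOf g = p ^ s * m} := by
  classical
  have hp : p.Prime := Fact.out
  haveI := Fintype.ofFinite G
  set q := p ^ s with hq
  have hcop : q.Coprime m := hm.pow_left s
  let f : G → ℕ := fun b => Nat.card {a : centralizer ({b} : Set G) // orderOf a = q}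
  obtain ⟨e, he1, he0⟩ := Nat.chineseRemainder hcop 0 1
  have key : ∀ (a b : G), orderOf a = q → orderOf b = m → Commute a b → (a * b) ^ e = b := by
    intro a b ha hb hab
    rw [hab.mul_pow, show a ^ e = 1 from orderOf_dvd_iff_pow_eq_one.1 (ha ▸ Nat.modEq_zero_iff_dvd.1 he1),
      one_mul]
    conv_rhs => rw [← pow_one b]
    rw [pow_eq_pow_iff_modEq, hb]; exact he0
  let Ψ : (Σ b : {b : G // orderOf b = m}, {a : centralizer ({(b : G)} : Set G) // orderOf a = q}) →
      {g : G // orderOf g = q * m} := fun z => ⟨(z.2.1 : G) * z.1.1, by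
    have ha : orderOf (z.2.1 : G) = q := by rw [Subgroup.orderOf_coe]; exact z.2.2
    rw [(show Commute (z.2.1 : G) z.1.1 from mem_centralizer_singleton_iff.1 z.2.1.2).orderOf_mul_eq_mul_orderOf_of_coprime
      (by rw [ha, z.1.2]; exact hcop), ha, z.1.2]⟩
  have hΨ : Function.Bijective Ψ := by
    constructor
    · rintro ⟨⟨b, hb⟩, ⟨⟨a, hac⟩, ha⟩⟩ ⟨⟨b', hb'⟩, ⟨⟨a', hac'⟩, ha'⟩⟩ h
      have h' : a * b = a' * b' := congrArg Subtype.val h
      rw [Subgroup.orderOf_mk] at ha ha'
      have hbb : b = b' := by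
        rw [← key a b ha hb (mem_centralizer_singleton_iff.1 hac),
          ← key a' b' ha' hb' (mem_centralizer_singleton_iff.1 hac'), h']
      subst hbb
      have haa : a = a' := mul_right_cancel h'
      subst haa
      rfl
    · rintro ⟨g, hg⟩
      obtain ⟨e', he'1, he'0⟩ := Nat.chineseRemainder hcop 1 0
      have hqm0 : q * m ≠ 0 := hg ▸ (orderOf_pos g).ne'
      have hb : orderOf (g ^ q) = m := by
        rw [orderOf_pow_of_dvd (left_ne_zero_of_mul hqm0) (hg ▸ dvd_mul_right q m), hg,
          Nat.mul_div_cancel_left _ (Nat.pos_of_ne_zero (left_ne_zero_of_mul hqm0))]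
      have ha : orderOf (g ^ m) = q := by
        rw [orderOf_pow_of_dvd (right_ne_zero_of_mul hqm0) (hg ▸ dvd_mul_left m q), hg,
          Nat.mul_div_cancel _ (Nat.pos_of_ne_zero (right_ne_zero_of_mul hqm0))]
      obtain ⟨u, hu⟩ := Nat.modEq_zero_iff_dvd.1 he1
      obtain ⟨u', hu'⟩ := Nat.modEq_zero_iff_dvd.1 he'0
      have hmod : (q * m).ModEq (e' + e) 1 := by
        refine (Nat.modEq_and_modEq_iff_modEq_mul hcop).1 ⟨?_, ?_⟩
        · simpa using he'1.add he1
        · simpa using he'0.add he0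
      have hbo : orderOf (g ^ e) = m := by
        rw [hu, pow_mul, Nat.Coprime.orderOf_pow, hb]
        rw [hb]
        by_contra hc
        obtain ⟨r, hr, hr1, hr2⟩ := Nat.Prime.not_coprime_iff_dvd.1 hc
        have h1 : r.ModEq e 1 := he0.of_dvd hr1
        have h2 : r.ModEq e 0 := Nat.modEq_zero_iff_dvd.2 (hu ▸ hr2.mul_left q)
        exact hr.not_dvd_one (Nat.modEq_zero_iff_dvd.1 (h1.symm.trans h2))
      have hao : orderOf (g ^ e') = q := by
        rw [hu', pow_mul, Nat.Coprime.orderOf_pow, ha]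
        rw [ha]
        by_contra hc
        obtain ⟨r, hr, hr1, hr2⟩ := Nat.Prime.not_coprime_iff_dvd.1 hc
        have h1 : r.ModEq e' 1 := he'1.of_dvd hr1
        have h2 : r.ModEq e' 0 := Nat.modEq_zero_iff_dvd.2 (hu' ▸ hr2.mul_left m)
        exact hr.not_dvd_one (Nat.modEq_zero_iff_dvd.1 (h1.symm.trans h2))
      refine ⟨⟨⟨g ^ e, hbo⟩, ⟨⟨g ^ e', mem_centralizer_singleton_iff.2 ((Commute.refl g).pow_pow e' e).eq⟩,
        by rw [Subgroup.orderOf_mk, hao]⟩⟩, Subtype.ext ?_⟩
      show g ^ e' * g ^ e = g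
      rw [← pow_add]
      conv_rhs => rw [← pow_one g]
      rw [pow_eq_pow_iff_modEq, hg]
      exact hmod
  rw [← Nat.card_eq_of_bijective Ψ hΨ, Nat.card_sigma]
  rw [← Finset.sum_subtype (Finset.univ.filter fun b : G => orderOf b = m) (fun b => by simp) f,
    ← Finset.sum_fiberwise (Finset.univ.filter fun b : G => orderOf b = m) (fun b => ConjClasses.mk b) f]
  refine Finset.dvd_sum fun c _ => ?_
  obtain ⟨b, rfl⟩ := ConjClasses.mk_surjective c
  by_cases hb : orderOf b = m
  swap
  · rw [Finset.filter_eq_empty_iff.2 ?_, Finset.sum_empty]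
    · exact dvd_zero _
    intro x hx hxb
    obtain ⟨w, hw⟩ := isConj_iff.1 (ConjClasses.mk_eq_mk_iff_isConj.1 hxb)
    exact hb (by rw [← hw, ← (Finset.mem_filter.1 hx).2]; exact (MulAut.conj w).orderOf_eq x)
  have hconst : ∀ x, ConjClasses.mk x = ConjClasses.mk b → f x = f b := by
    intro x hx
    obtain ⟨w, rfl⟩ := isConj_iff.1 (ConjClasses.mk_eq_mk_iff_isConj.1 hx)
    have hmap : (centralizer ({x} : Set G)).map (MulAut.conj w).toMonoidHom
        = centralizer ({w * x * w⁻¹} : Set G) := by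
      refine (map_equiv_eq_comap_symm (MulAut.conj w) _).trans ?_
      ext y
      rw [mem_comap, mem_centralizer_singleton_iff, mem_centralizer_singleton_iff]
      show (w⁻¹ * y * w) * x = x * (w⁻¹ * y * w) ↔ y * (w * x * w⁻¹) = w * x * w⁻¹ * y
      constructor
      · intro h
        calc y * (w * x * w⁻¹) = w * ((w⁻¹ * y * w) * x) * w⁻¹ := by group
          _ = w * (x * (w⁻¹ * y * w)) * w⁻¹ := by rw [h]
          _ = w * x * w⁻¹ * y := by group
      · intro h
        calc (w⁻¹ * y * w) * x = w⁻¹ * (y * (w * x * w⁻¹)) * w := by group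
          _ = w⁻¹ * (w * x * w⁻¹ * y) * w := by rw [h]
          _ = x * (w⁻¹ * y * w) := by group
    let E' : centralizer ({x} : Set G) ≃* centralizer ({w * x * w⁻¹} : Set G) :=
      ((centralizer ({x} : Set G)).equivMapOfInjective _ (MulAut.conj w).injective).trans
        (MulEquiv.subgroupCongr hmap)
    exact Nat.card_congr (E'.toEquiv.subtypeEquiv fun a => by
      show _ ↔ orderOf (E' a) = q
      rw [E'.orderOf_eq a])
  rw [Finset.sum_congr rfl fun x hx => hconst x (Finset.mem_filter.1 hx).2, Finset.sum_const, smul_eq_mul]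
  have hclass : ((Finset.univ.filter fun x : G => orderOf x = m).filter
      fun x => ConjClasses.mk x = ConjClasses.mk b).card = (centralizer ({b} : Set G)).index := by
    have h1 : Nat.card (MulAction.orbit (ConjAct G) b) = (centralizer ({b} : Set G)).index := by
      rw [Nat.card_congr (MulAction.orbitEquivQuotientStabilizer (ConjAct G) b), ← index_eq_card]
      have h2 : Nat.card (MulAction.stabilizer (ConjAct G) b) = Nat.card (centralizer ({b} : Set G)) := by
        refine Nat.card_congr (Equiv.subtypeEquiv ConjAct.ofConjAct.toEquiv fun g => ?_)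
        rw [MulAction.mem_stabilizer_iff, ConjAct.smul_def, mem_centralizer_singleton_iff]
        exact mul_inv_eq_iff_eq_mul
      have h3 := (MulAction.stabilizer (ConjAct G) b).card_mul_index
      rw [h2, Nat.card_congr ConjAct.ofConjAct.toEquiv, ← (centralizer ({b} : Set G)).card_mul_index] at h3
      exact Nat.eq_of_mul_eq_mul_left Nat.card_pos h3
    rw [← h1, ← Fintype.card_coe, ← Nat.card_eq_fintype_card]
    refine Nat.card_congr (Equiv.subtypeEquivRight fun x => ?_)
    rw [ConjAct.mem_orbit_conjAct]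
    simp only [Finset.mem_filter, Finset.mem_univ, true_and, ConjClasses.mk_eq_mk_iff_isConj]
    refine ⟨fun h => h.2, fun h => ⟨?_, h⟩⟩
    obtain ⟨w, hw⟩ := isConj_iff.1 h
    rw [← hb, ← hw]
    exact ((MulAut.conj w).orderOf_eq x).symm
  rw [hclass]
  set C := centralizer ({b} : Set G)
  by_cases hpC : p ∣ C.index
  · rw [hq, show p ^ s = p * p ^ (s - 1) by rw [← pow_succ']; congr 1; omega]
    refine mul_dvd_mul hpC ?_
    refine dvd_trans ?_ (Cfsg.Agent.Struct.FrobeniusCount.totient_dvd_card (G := C)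
      (fun a => orderOf a = q) q (fun g h hgh hg => by rw [← Nat.card_zpowers, ← hgh, Nat.card_zpowers, hg])
      (fun g hg => hg ▸ dvd_rfl))
    rw [hq, Nat.totient_prime_pow hp (by omega : 0 < s)]
    exact dvd_mul_right _ _
  · refine Dvd.dvd.mul_left ?_ _
    obtain ⟨Q⟩ := Sylow.nonempty (p := p) (G := C)
    refine dvd_card hodd Q (fun hcyc => hP ?_) s hs
    have hc : Nat.card (Q : Subgroup C) = Nat.card (P : Subgroup G) := by
      rw [Q.card_eq_multiplicity, P.card_eq_multiplicity, ← C.card_mul_index,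
        Nat.factorization_mul Nat.card_pos.ne' index_ne_zero_of_finite, Finsupp.add_apply,
        Nat.factorization_eq_zero_of_not_dvd hpC, add_zero]
    let P' : Sylow p G := Sylow.ofCard ((Q : Subgroup C).map C.subtype)
      (by rw [card_map_of_injective C.subtype_injective, hc, P.card_eq_multiplicity])
    haveI : IsCyclic (P' : Subgroup G) :=
      isCyclic_of_surjective _ ((Q : Subgroup C).equivMapOfInjective _ C.subtype_injective).surjective
    exact isCyclic_of_surjective _ (P'.equiv P).surjective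

end Cfsg.Agent.S4003
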