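import Cfsg.Statements.S4005
import Cfsg.Agent.Lib.Char.Burnside
import Cfsg.Agent.Lib.Solv.Basic
import Cfsg.Agent.Lib.Inv.CyclicSylow

set_option autoImplicit false
open Cfsg

namespace Cfsg.Agent.S4005

/-- A finite group whose set of element orders is exactly {1, 2, 3} has either a normal elementary abelian 3-subgroup of index 2 or a normal elementary abelian 2-subgroup of index 3. -/
theorem result {G : Type*} [Group G] [Finite G] (h : Set.range (orderOf : G → ℕ) = {k : ℕ | 1 ≤ k ∧ k ≤ 3}) :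
    (∃ N : Subgroup G, N.Normal ∧ Cfsg.IsElementaryAbelian 3 N ∧ N.index = 2) ∨
      (∃ N : Subgroup G, N.Normal ∧ Cfsg.IsElementaryAbelian 2 N ∧ N.index = 3) := by
  classical
  haveI : Fact (Nat.Prime 2) := ⟨Nat.prime_two⟩
  haveI : Fact (Nat.Prime 3) := ⟨Nat.prime_three⟩
  have hord : ∀ g : G, orderOf g = 1 ∨ orderOf g = 2 ∨ orderOf g = 3 := fun g => by
    have : orderOf g ∈ Set.range (orderOf : G → ℕ) := ⟨g, rfl⟩
    rw [h] at this
    obtain ⟨h1, h2⟩ := this
    omega
  obtain ⟨t, ht⟩ : ∃ t : G, orderOf t = 2 := by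
    have : (2 : ℕ) ∈ {k : ℕ | 1 ≤ k ∧ k ≤ 3} := ⟨by norm_num, by norm_num⟩
    rwa [← h] at this
  obtain ⟨u, hu⟩ : ∃ u : G, orderOf u = 3 := by
    have : (3 : ℕ) ∈ {k : ℕ | 1 ≤ k ∧ k ≤ 3} := ⟨by norm_num, by norm_num⟩
    rwa [← h] at this
  have h6 : ∀ a b : G, a * b = b * a → orderOf a = 2 → orderOf b = 3 → False := by
    intro a b hab ha hb
    have h1 := (show Commute a b from hab).orderOf_mul_eq_mul_orderOf_of_coprime (by rw [ha, hb]; norm_num)
    rw [ha, hb] at h1
    rcases hord (a * b) with h2 | h2 | h2 <;> omega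
  have hinv : ∀ a : G, orderOf a = 2 → a⁻¹ = a := fun a ha => by
    refine inv_eq_of_mul_eq_one_left ?_
    rw [← pow_two, ← ha, pow_orderOf_eq_one]
  -- involutions invert 3-subgroups they normalise
  have hflip : ∀ (H : Subgroup G) (s : G), IsPGroup 3 H → orderOf s = 2 → (∀ x ∈ H, s * x * s⁻¹ ∈ H) →
      ∀ x ∈ H, s * x * s⁻¹ = x⁻¹ := by
    intro H s hH hs hsH
    let f : H → H := fun g => ⟨(g : G)⁻¹ * (s * g * s⁻¹), mul_mem (inv_mem g.2) (hsH g g.2)⟩
    have hf : Function.Injective f := by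
      rintro ⟨g, hg⟩ ⟨k, hk⟩ he
      have he' : g⁻¹ * (s * g * s⁻¹) = k⁻¹ * (s * k * s⁻¹) := congrArg Subtype.val he
      have h1 : s * (k * g⁻¹) * s⁻¹ = k * g⁻¹ := by
        calc s * (k * g⁻¹) * s⁻¹ = k * (k⁻¹ * (s * k * s⁻¹)) * (s * g * s⁻¹)⁻¹ := by group
          _ = k * g⁻¹ := by rw [← he']; group
      rcases hord (k * g⁻¹) with h2 | h2 | h2
      · exact Subtype.ext (mul_inv_eq_one.1 (orderOf_eq_one_iff.1 h2)).symm
      · obtain ⟨e, he2⟩ := IsPGroup.iff_orderOf.1 hH ⟨k * g⁻¹, mul_mem hk (inv_mem hg)⟩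
        rw [Subgroup.orderOf_mk, h2] at he2
        have : Odd (3 ^ e) := Odd.pow (by decide)
        rw [← he2] at this
        exact absurd this (by decide)
      · exact absurd h2 fun h2 => h6 s _ (mul_inv_eq_iff_eq_mul.1 h1) hs h2
    intro x hx
    obtain ⟨⟨g, hg⟩, hgx⟩ := Finite.surjective_of_injective hf ⟨x, hx⟩
    have hgx' : g⁻¹ * (s * g * s⁻¹) = x := congrArg Subtype.val hgx
    rw [← hgx']
    calc s * (g⁻¹ * (s * g * s⁻¹)) * s⁻¹ = (s * g * s⁻¹)⁻¹ * ((s * s) * g * (s * s)⁻¹) := by group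
      _ = _ := by rw [show s * s = 1 by rw [← pow_two, ← hs, pow_orderOf_eq_one]]; group
  have hab3 : ∀ (H : Subgroup G) (s : G), IsPGroup 3 H → orderOf s = 2 → (∀ x ∈ H, s * x * s⁻¹ ∈ H) →
      ∀ x ∈ H, ∀ y ∈ H, x * y = y * x := by
    intro H s hH hs hsH x hx y hy
    have e := hflip H s hH hs hsH _ (mul_mem hx hy)
    rw [show s * (x * y) * s⁻¹ = (s * x * s⁻¹) * (s * y * s⁻¹) by group, hflip H s hH hs hsH x hx,
      hflip H s hH hs hsH y hy, ← mul_inv_rev, inv_inj] at e
    exact e.symm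
  -- prime divisors
  have hdvd : ∀ q : ℕ, q.Prime → q ∣ Nat.card G → q = 2 ∨ q = 3 := by
    intro q hq hqG
    haveI := Fact.mk hq
    obtain ⟨g, hg⟩ := exists_prime_orderOf_dvd_card' q hqG
    have := hq.two_le
    rcases hord g with h1 | h1 | h1 <;> omega
  have hsolv : Group.IsSolvable G := by
    refine Cfsg.Agent.Char.solvable_of_card_prime_pow_mul 2 3 Nat.prime_two Nat.prime_three
      (Nat.card G) G rfl ⟨(Nat.card G).factorization 2, (Nat.card G).factorization 3, ?_⟩
    refine Nat.eq_of_factorization_eq Nat.card_pos.ne' (by positivity) fun q => ?_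
    rw [Nat.factorization_mul (by positivity) (by positivity), Nat.Prime.factorization_pow Nat.prime_two,
      Nat.Prime.factorization_pow Nat.prime_three, Finsupp.add_apply, Finsupp.single_apply, Finsupp.single_apply]
    by_cases h2 : q = 2
    · subst h2; simp
    by_cases h3 : q = 3
    · subst h3; simp
    · rw [if_neg (Ne.symm h2), if_neg (Ne.symm h3), add_zero]
      by_contra hne
      obtain ⟨hq, hqG⟩ := Nat.mem_primeFactors.1 (Nat.support_factorization _ ▸ Finsupp.mem_support_iff.2 hne) |>.imp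
        id And.left
      rcases hdvd q hq hqG with h | h <;> omega
  haveI : Nontrivial G := ⟨⟨t, 1, fun e => by rw [e, orderOf_one] at ht; norm_num at ht⟩⟩
  obtain ⟨N, hN, -, hN1, hNmin⟩ := Cfsg.Agent.Solv.exists_minimal_normal_le
    (N := (⊤ : Subgroup G)) top_ne_bot
  haveI := hN
  haveI : Group.IsSolvable N := Group.isSolvable_of_isSolvable_injective N.subtype_injective
  obtain ⟨hNc, p, hp, hNp⟩ := Cfsg.Agent.Solv.minimal_normal_elementary N hN1 hNmin
  have hNcomm : ∀ x ∈ N, ∀ y ∈ N, x * y = y * x := fun x hx y hy =>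
    haveI := hNc
    congrArg Subtype.val (mul_comm' (⟨x, hx⟩ : N) ⟨y, hy⟩)
  obtain ⟨⟨v, hvN⟩, hv⟩ := Subgroup.ne_bot_iff_exists_ne_one.1 hN1
  have hv1 : v ≠ 1 := fun e => hv (Subtype.ext e)
  have hov : orderOf v = p := by
    haveI := Fact.mk hp
    exact orderOf_eq_prime (hNp v hvN) hv1
  rcases hord v with h1 | h1 | h1
  · exact absurd (orderOf_eq_one_iff.1 h1) hv1
  · -- `N` is a 2-group
    right
    have hp2 : p = 2 := hov ▸ h1
    subst hp2
    have hN2 : IsPGroup 2 N := fun x => ⟨1, Subtype.ext (by simpa using hNp x x.2)⟩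
    obtain ⟨S, hS⟩ := hN2.exists_le_sylow
    have hexp : ∀ x ∈ (S : Subgroup G), x ^ 2 = 1 := by
      intro x hx
      obtain ⟨e, he⟩ := IsPGroup.iff_orderOf.1 S.isPGroup' ⟨x, hx⟩
      rw [Subgroup.orderOf_mk] at he
      rcases hord x with h2 | h2 | h2
      · rw [orderOf_eq_one_iff.1 h2, one_pow]
      · rw [← h2, pow_orderOf_eq_one]
      · have : Even (2 ^ e) ∨ e = 0 := by
          rcases e with _ | e
          · exact Or.inr rfl
          · exact Or.inl (by simp [pow_succ])
        rcases this with h3 | h3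
        · rw [← he, h2] at h3; exact absurd h3 (by decide)
        · subst h3; rw [pow_zero] at he; omega
    have hSab : ∀ x ∈ (S : Subgroup G), ∀ y ∈ (S : Subgroup G), x * y = y * x := by
      intro x hx y hy
      have hi : ∀ z ∈ (S : Subgroup G), z⁻¹ = z := fun z hz =>
        inv_eq_of_mul_eq_one_left (by rw [← pow_two, hexp z hz])
      conv_lhs => rw [← hi _ (mul_mem hx hy), mul_inv_rev, hi x hx, hi y hy]
    let C := Subgroup.centralizer (N : Set G)
    haveI : C.Normal := inferInstanceAs (Subgroup.centralizer (N : Set G)).Normal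
    have hSC : (S : Subgroup G) ≤ C := fun x hx y hy => hSab y (hS hy) x hx
    have hC2 : IsPGroup 2 C := by
      rw [IsPGroup.iff_orderOf]
      rintro ⟨x, hx⟩
      rw [Subgroup.orderOf_mk]
      rcases hord x with h2 | h2 | h2
      · exact ⟨0, h2⟩
      · exact ⟨1, by rw [h2, pow_one]⟩
      · exact (h6 v x (hx v hvN) h1 h2).elim
    have hSeq : C = (S : Subgroup G) := S.is_maximal' hC2 hSC
    haveI hSn : (S : Subgroup G).Normal := hSeq ▸ inferInstance
    haveI := hSn
    refine ⟨S, hSn, ⟨⟨⟨fun a b => Subtype.ext (hSab a a.2 b b.2)⟩⟩, hexp⟩, ?_⟩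
    obtain ⟨P⟩ := Sylow.nonempty (p := 3) (G := G)
    have hP : IsPGroup 3 (P : Subgroup G) := P.isPGroup'
    -- the Sylow 3-subgroup has order 3
    have hP3 : Nat.card (P : Subgroup G) = 3 := by
      have hPne : Nontrivial (P : Subgroup G) := by
        rw [Subgroup.nontrivial_iff_ne_bot]
        exact P.ne_bot_of_dvd_card (hu ▸ orderOf_dvd_natCard u)
      haveI := hP.center_nontrivial
      obtain ⟨⟨⟨a, haP⟩, hac⟩, ha1⟩ := exists_ne (1 : Subgroup.center (P : Subgroup G))
      have ha3 : ∀ x ∈ (P : Subgroup G), x ^ 3 = 1 := by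
        intro x hx
        rcases hord x with h2 | h2 | h2
        · rw [orderOf_eq_one_iff.1 h2, one_pow]
        · obtain ⟨e, he⟩ := IsPGroup.iff_orderOf.1 hP ⟨x, hx⟩
          rw [Subgroup.orderOf_mk, h2] at he
          have : Odd (3 ^ e) := Odd.pow (by decide)
          rw [← he] at this
          exact absurd this (by decide)
        · rw [← h2, pow_orderOf_eq_one]
      have hoa : orderOf a = 3 := orderOf_eq_prime (ha3 a haP) fun e => ha1 (Subtype.ext (Subtype.ext e))
      suffices hle : (P : Subgroup G) ≤ Subgroup.zpowers a by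
        rw [le_antisymm hle (Subgroup.zpowers_le.2 haP), Nat.card_zpowers, hoa]
      intro b hb
      by_contra hba
      have hab : a * b = b * a :=
        (congrArg Subtype.val (Subgroup.mem_center_iff.1 hac ⟨b, hb⟩)).symm
      have hw : ∀ g ∈ (P : Subgroup G), g ≠ 1 → ∀ w ∈ N, (g ^ 0 * w * (g ^ 0)⁻¹) * (g ^ 1 * w * (g ^ 1)⁻¹) *
          (g ^ 2 * w * (g ^ 2)⁻¹) = 1 := by
        intro g hg hg1 w hw
        have hog : orderOf g = 3 := orderOf_eq_prime (ha3 g hg) hg1
        obtain ⟨z, hz⟩ : ∃ z, z = (g ^ 0 * w * (g ^ 0)⁻¹) * (g ^ 1 * w * (g ^ 1)⁻¹) *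
          (g ^ 2 * w * (g ^ 2)⁻¹) := ⟨_, rfl⟩
        have hzN : z ∈ N := hz ▸ mul_mem (mul_mem (hN.conj_mem _ hw _) (hN.conj_mem _ hw _)) (hN.conj_mem _ hw _)
        have hgz : g * z * g⁻¹ = z := by
          rw [hz, show g * (g ^ 0 * w * (g ^ 0)⁻¹ * (g ^ 1 * w * (g ^ 1)⁻¹) * (g ^ 2 * w * (g ^ 2)⁻¹)) * g⁻¹ =
            (g ^ 1 * w * (g ^ 1)⁻¹) * (g ^ 2 * w * (g ^ 2)⁻¹) * (g ^ 3 * w * (g ^ 3)⁻¹) by group, ha3 g hg,
            pow_zero, hNcomm _ (mul_mem (hN.conj_mem _ hw _) (hN.conj_mem _ hw _)) _ (hN.conj_mem _ hw _)]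
          group
        rw [← hz]
        by_contra hz1
        exact h6 z g (mul_inv_eq_iff_eq_mul.1 hgz).symm (orderOf_eq_prime (hNp z hzN) hz1) hog
      -- additive bookkeeping in `N`
      letI : CommGroup N := { (inferInstance : Group N) with mul_comm := fun x y => Subtype.ext (hNcomm x x.2 y y.2) }
      let c : G →* MulAut N := MulAut.conjNormal
      have hw' : ∀ g ∈ (P : Subgroup G), g ≠ 1 → ∀ w : N, w * c g w * c (g ^ 2) w = 1 := by
        intro g hg hg1 w
        refine Subtype.ext ?_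
        have := hw g hg hg1 w w.2
        rw [pow_zero, one_mul, inv_one, mul_one, pow_one] at this
        exact this
      have hb1 : b ≠ 1 := fun e => hba (e ▸ one_mem _)
      have hab1 : a * b ≠ 1 := fun e => hba (by
        rw [show b = a⁻¹ from (inv_eq_of_mul_eq_one_right e).symm]; exact inv_mem (Subgroup.mem_zpowers a))
      have hab2 : a * b ^ 2 ≠ 1 := fun e => hba (by
        have hb3 := ha3 b hb
        have h2 : b = a := by
          calc b = (a * b ^ 2) * b := by rw [e, one_mul]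
            _ = a * b ^ 3 := by group
            _ = a := by rw [hb3, mul_one]
        rw [h2]; exact Subgroup.mem_zpowers a)
      let w : N := ⟨v, hvN⟩
      have e1 := hw' b hb hb1 w
      have e2 := hw' (a * b) (mul_mem haP hb) hab1 w
      have e3 := hw' (a * b ^ 2) (mul_mem haP (pow_mem hb 2)) hab2 w
      have e4 := hw' b hb hb1 (c a w)
      have e5 := hw' b hb hb1 (c (a ^ 2) w)
      have e0 := hw' a haP (fun e => by rw [e, orderOf_one] at hoa; norm_num at hoa) w
      simp only [← MulAut.mul_apply, ← map_mul] at e4 e5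
      have hc2 : (a * b) ^ 2 = a ^ 2 * b ^ 2 := (show Commute a b from hab).mul_pow 2
      have hc4 : (a * b ^ 2) ^ 2 = a ^ 2 * b := by
        rw [((show Commute a b from hab).pow_right 2).mul_pow 2, ← pow_mul, show b ^ (2 * 2) = b ^ 3 * b from
          pow_succ b 3, ha3 b hb, one_mul]
      have hba' : b * a = a * b := hab.symm
      have hb2a : b ^ 2 * a = a * b ^ 2 := ((show Commute a b from hab).pow_right 2).eq.symm
      have hba2 : b * a ^ 2 = a ^ 2 * b := ((show Commute a b from hab).pow_left 2).eq.symm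
      have hb2a2 : b ^ 2 * a ^ 2 = a ^ 2 * b ^ 2 := (((show Commute a b from hab).pow_left 2).pow_right 2).eq.symm
      rw [hba', hb2a] at e4
      rw [hba2, hb2a2] at e5
      rw [hc2] at e2
      rw [hc4] at e3
      -- combine
      have hsq : w * w = 1 := Subtype.ext (by
        have := hNp v hvN
        rw [pow_two] at this
        exact this)
      have : w * w * w = 1 := by
        have key : ∀ w A1 A2 B1 B2 C1 C2 D1 D2 : N, w * A1 * A2 = 1 → w * B1 * B2 = 1 → w * C1 * C2 = 1 →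
            w * D1 * D2 = 1 → D1 * B1 * C1 = 1 → D2 * C2 * B2 = 1 → w * w * w = 1 := by
          intro w A1 A2 B1 B2 C1 C2 D1 D2 f1 f2 f3 f0 f4 f5
          have : w * w * w * ((w * A1 * A2) * (D1 * B1 * C1) * (D2 * C2 * B2)) =
              (w * A1 * A2) * (w * B1 * B2) * (w * C1 * C2) * (w * D1 * D2) := by ac_rfl
          simpa [f1, f2, f3, f0, f4, f5] using this
        exact key w _ _ _ _ _ _ _ _ e1 e2 e3 e0 e4 e5
      rw [hsq, one_mul] at this
      exact hv1 (congrArg Subtype.val this)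
    -- index
    have hcop : Nat.Coprime (Nat.card (S : Subgroup G)) (S : Subgroup G).index := S.card_coprime_index
    have h3dvd : 3 ∣ (S : Subgroup G).index := by
      have := hu ▸ orderOf_dvd_natCard u
      rw [← Subgroup.card_mul_index (S : Subgroup G)] at this
      rcases (Nat.Prime.dvd_mul Nat.prime_three).1 this with h4 | h4
      · obtain ⟨e, he⟩ := S.isPGroup'.exists_card_eq
        rw [he] at h4
        exact absurd (Nat.prime_three.dvd_of_dvd_pow h4) (by norm_num)
      · exact h4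
    have hiP : (S : Subgroup G).index ∣ Nat.card (P : Subgroup G) := by
      have hidx : ∀ q : ℕ, q.Prime → q ∣ (S : Subgroup G).index → q = 3 := fun q hq hd => by
        rcases hdvd q hq (hd.trans (Subgroup.index_dvd_card _)) with rfl | rfl
        · exact absurd hd S.not_dvd_index
        · rfl
      obtain ⟨e, he⟩ : ∃ e, (S : Subgroup G).index = 3 ^ e :=
        ⟨_, Nat.eq_prime_pow_of_unique_prime_dvd Subgroup.index_ne_zero_of_finite fun {q} hq hd => hidx q hq hd⟩
      rw [he, P.card_eq_multiplicity]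
      refine pow_dvd_pow 3 ?_
      rw [← Nat.Prime.pow_dvd_iff_le_factorization Nat.prime_three Nat.card_pos.ne', ← he]
      exact Subgroup.index_dvd_card _
    rw [hP3] at hiP
    exact ((Nat.dvd_prime Nat.prime_three).1 hiP).resolve_left fun h5 => by rw [h5] at h3dvd; norm_num at h3dvd
  · -- `N` is a 3-group
    left
    have hN3 : IsPGroup 3 N := fun x => ⟨1, Subtype.ext (by
      have := hNp x x.2
      rw [← hov, h1] at this
      simpa using this)⟩
    obtain ⟨S⟩ := Sylow.nonempty (p := 2) (G := G)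
    have hS : ∀ x ∈ (S : Subgroup G), x ≠ 1 → orderOf x = 2 := by
      intro x hx hx1
      rcases hord x with h2 | h2 | h2
      · exact absurd (orderOf_eq_one_iff.1 h2) hx1
      · exact h2
      · obtain ⟨e, he⟩ := IsPGroup.iff_orderOf.1 S.isPGroup' ⟨x, hx⟩
        rw [Subgroup.orderOf_mk, h2] at he
        exact absurd (Nat.prime_three.dvd_of_dvd_pow (dvd_of_eq he)) (by norm_num)
    have hSuniq : ∀ x ∈ (S : Subgroup G), ∀ y ∈ (S : Subgroup G), x ≠ 1 → y ≠ 1 → x = y := by
      intro x hx y hy hx1 hy1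
      by_contra hxy
      have hxy1 : x * y ≠ 1 := fun e => hxy (by rw [eq_inv_of_mul_eq_one_left e, hinv y (hS y hy hy1)])
      refine h6 (x * y) v ?_ (hS _ (mul_mem hx hy) hxy1) h1
      have ex := hflip N x hN3 (hS x hx hx1) (fun z hz => hN.conj_mem z hz x) v hvN
      have ey := hflip N y hN3 (hS y hy hy1) (fun z hz => hN.conj_mem z hz y) v hvN
      have e2 : x * y * v * (x * y)⁻¹ = v := by
        rw [show x * y * v * (x * y)⁻¹ = x * (y * v * y⁻¹) * x⁻¹ by group, ey,
          show x * v⁻¹ * x⁻¹ = (x * v * x⁻¹)⁻¹ by group, ex, inv_inv]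
      exact mul_inv_eq_iff_eq_mul.1 e2
    obtain ⟨⟨s, hsS⟩, hs1'⟩ := Subgroup.ne_bot_iff_exists_ne_one.1 (S.ne_bot_of_dvd_card (ht ▸ orderOf_dvd_natCard t))
    have hs1 : s ≠ 1 := fun e => hs1' (Subtype.ext e)
    have hScyc : IsCyclic (S : Subgroup G) := ⟨⟨⟨s, hsS⟩, fun ⟨x, hx⟩ => by
      by_cases hx1 : x = 1
      · exact ⟨0, Subtype.ext (by simp [hx1])⟩
      · exact ⟨1, Subtype.ext (by simpa using hSuniq s hsS x hx hs1 hx1)⟩⟩⟩
    obtain ⟨H, hH⟩ := Cfsg.Agent.Inv.exists_index_two_of_cyclic_sylow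
      (even_iff_two_dvd.2 (ht ▸ orderOf_dvd_natCard t)) S hScyc
    haveI hHn : H.Normal := Subgroup.normal_of_index_eq_two hH
    have hS2 : Nat.card (S : Subgroup G) = 2 := by
      rw [Nat.card_eq_two_iff]
      refine ⟨1, ⟨s, hsS⟩, fun e => hs1 (congrArg Subtype.val e).symm, Set.eq_univ_of_forall fun ⟨x, hx⟩ => ?_⟩
      by_cases hx1 : x = 1
      · exact Or.inl (Subtype.ext hx1)
      · exact Or.inr (Subtype.ext (hSuniq x hx s hsS hx1 hs1))
    have hH3 : IsPGroup 3 H := by
      rw [IsPGroup.iff_orderOf]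
      rintro ⟨x, hx⟩
      rw [Subgroup.orderOf_mk]
      rcases hord x with h2 | h2 | h2
      · exact ⟨0, h2⟩
      · exfalso
        have h4 : 2 ∣ Nat.card H := by
          rw [← h2, ← Subgroup.orderOf_mk x hx]; exact orderOf_dvd_natCard _
        have h5 : 2 ^ 2 ∣ Nat.card G := by
          rw [← Subgroup.card_mul_index H, hH, pow_two]; exact mul_dvd_mul_right h4 2
        have h8 := S.card_eq_multiplicity
        rw [hS2] at h8
        rw [Nat.Prime.pow_dvd_iff_le_factorization Nat.prime_two Nat.card_pos.ne'] at h5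
        have h9 : (2 : ℕ) ^ 1 = 2 ^ (Nat.card G).factorization 2 := by simpa using h8
        have := Nat.pow_right_injective (le_refl 2) h9
        omega
      · exact ⟨1, by rw [h2, pow_one]⟩
    have hHab := hab3 H s hH3 (hS s hsS hs1) (fun x hx => hHn.conj_mem x hx s)
    refine ⟨H, hHn, ⟨⟨⟨fun a b => Subtype.ext (hHab a a.2 b b.2)⟩⟩, fun x hx => ?_⟩, hH⟩
    obtain ⟨e, he⟩ := IsPGroup.iff_orderOf.1 hH3 ⟨x, hx⟩
    rw [Subgroup.orderOf_mk] at he
    rcases hord x with h2 | h2 | h2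
    · rw [orderOf_eq_one_iff.1 h2, one_pow]
    · exact absurd (Nat.prime_two.dvd_of_dvd_pow (dvd_of_eq (h2 ▸ he))) (by norm_num)
    · rw [← h2, pow_orderOf_eq_one]

end Cfsg.Agent.S4005
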