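import Cfsg.Statements.S4010
import Mathlib

set_option autoImplicit false
open Cfsg

namespace Cfsg.Agent.S4010

open Module

universe u v w

variable {p : ℕ} [Fact p.Prime]

theorem mul_apply' {F V : Type*} [Field F] [AddCommGroup V] [Module F V] (f g : V ≃ₗ[F] V) (v : V) :
    (f * g) v = f (g v) := rfl

/-- In the defining characteristic a `p`-group fixes a vector modulo any proper invariant subspace. -/
theorem exists_fixed {F : Type u} [Field F] [CharP F p] {V : Type v} [AddCommGroup V] [Module F V]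
    {P : Type w} [Group P] [Finite P] (hP : IsPGroup p P) (ρ : P →* (V ≃ₗ[F] V)) :
    ∀ (n : ℕ) (M : Subgroup P), Nat.card M ≤ n → ∀ U : Submodule F V, U ≠ ⊤ → (∀ g : P, ∀ u ∈ U, ρ g u ∈ U) →
      ∃ v ∉ U, ∀ g ∈ M, ρ g v - v ∈ U := by
  intro n
  induction n with
  | zero => intro M hM; exact absurd hM (not_le.2 Nat.card_pos)
  | succ n ih =>
    intro M hM U hU hinv
    obtain ⟨v0, hv0⟩ : ∃ v, v ∉ U := by
      by_contra h; push Not at h; exact hU (Submodule.eq_top_iff'.2 h)
    rcases eq_or_ne M ⊥ with rfl | hMb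
    · exact ⟨v0, hv0, fun g hg => by rw [Subgroup.mem_bot.1 hg, map_one]; simp⟩
    haveI : Nontrivial M := (Subgroup.nontrivial_iff_ne_bot M).2 hMb
    obtain ⟨k, hk, hcard⟩ := (hP.to_subgroup M).nontrivial_iff_card.1 inferInstance
    obtain ⟨N, hN⟩ := Sylow.exists_subgroup_card_pow_prime (G := M) p (n := k - 1) (hcard ▸ pow_dvd_pow p (Nat.sub_le k 1))
    have hindex : N.index = p := by
      have h1 := N.card_mul_index
      rw [hN, hcard] at h1
      have h2 : p ^ k = p ^ (k - 1) * p := by rw [← pow_succ, Nat.sub_add_cancel hk]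
      exact Nat.eq_of_mul_eq_mul_left (pow_pos (Fact.out : p.Prime).pos _) (h1.trans h2)
    haveI : N.Normal := Subgroup.normal_of_index_eq_minFac_card (by
      rw [hindex, hcard, (Fact.out : p.Prime).pow_minFac (by omega)])
    obtain ⟨v, hv, hfix⟩ := ih (N.map M.subtype) (by
      have e : Nat.card (N.map M.subtype) = p ^ (k - 1) := by
        rw [← Nat.card_congr (N.equivMapOfInjective _ M.subtype_injective).toEquiv, hN]
      have : p ^ (k - 1) < p ^ k := Nat.pow_lt_pow_right (Fact.out : p.Prime).one_lt (by omega)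
      omega) U hU hinv
    obtain ⟨g, hgN⟩ : ∃ g : M, g ∉ N := by
      by_contra h
      push Not at h
      rw [(Subgroup.eq_top_iff' N).2 h, Subgroup.index_top] at hindex
      exact (Fact.out : p.Prime).one_lt.ne hindex
    -- the vectors fixed by `N` modulo `U`
    let T : V → Prop := fun w => ∀ x ∈ N, ρ (x : P) w - w ∈ U
    have hTv : T v := fun x hx => hfix _ ⟨x, hx, rfl⟩
    have hTg : ∀ w, T w → T (ρ (g : P) w - w) := by
      intro w hw x hx
      have hc : g⁻¹ * x * g ∈ N := by simpa using (inferInstance : N.Normal).conj_mem x hx g⁻¹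
      have e : ρ (x : P) (ρ (g : P) w) = ρ (g : P) (ρ ((g⁻¹ * x * g : M) : P) w) := by
        rw [← mul_apply', ← mul_apply', ← map_mul, ← map_mul]
        congr 2
        push_cast
        group
      have h1 := hw _ hc
      have h2 := hw x hx
      have h3 : ρ (x : P) (ρ (g : P) w - w) - (ρ (g : P) w - w) =
          ρ (g : P) (ρ ((g⁻¹ * x * g : M) : P) w - w) - (ρ (x : P) w - w) := by
        rw [map_sub, map_sub, e]; abel
      rw [h3]
      exact U.sub_mem (hinv _ _ h1) h2
    let D : End F V := (ρ (g : P) : V →ₗ[F] V) - 1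
    have hD : ∀ w, D w = ρ (g : P) w - w := fun w => rfl
    have hpow : ∀ i, T ((D ^ i) v) := by
      intro i
      induction i with
      | zero => exact hTv
      | succ i ihi => rw [pow_succ', End.mul_apply, hD]; exact hTg _ ihi
    have hDp : (D ^ p) v ∈ U := by
      have h1 : ((Polynomial.X : Polynomial F) - 1) ^ p = Polynomial.X ^ p - 1 := by
        haveI : ExpChar F p := ExpChar.prime Fact.out
        rw [sub_pow_expChar, one_pow]
      have h2 := congrArg (Polynomial.aeval (ρ (g : P) : V →ₗ[F] V)) h1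
      rw [map_pow, map_sub, map_one, Polynomial.aeval_X, map_sub, map_pow, map_one, Polynomial.aeval_X] at h2
      rw [show D ^ p = _ from h2]
      have h3 : ((ρ (g : P) : V →ₗ[F] V) ^ p) v = ρ ((g : P) ^ p) v := by
        have : ∀ i, ((ρ (g : P) : V →ₗ[F] V) ^ i) v = ρ ((g : P) ^ i) v := by
          intro i
          induction i with
          | zero => simp
          | succ i ihi => rw [pow_succ', End.mul_apply, ihi, pow_succ', map_mul]; rfl
        exact this p
      rw [LinearMap.sub_apply, End.one_apply, h3]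
      refine hTv (g ^ p) ?_
      rw [← hindex]
      exact N.pow_index_mem g
    classical
    have hex : ∃ i, (D ^ i) v ∈ U := ⟨p, hDp⟩
    obtain ⟨i, hi⟩ : ∃ i, Nat.find hex = i + 1 := Nat.exists_eq_succ_of_ne_zero fun h => hv (by
      have := Nat.find_spec hex; rwa [h, pow_zero, End.one_apply] at this)
    refine ⟨(D ^ i) v, Nat.find_min hex (by omega), fun x hx => ?_⟩
    have hgw : ρ (g : P) ((D ^ i) v) - (D ^ i) v ∈ U := by
      have := Nat.find_spec hex
      rwa [hi, pow_succ', End.mul_apply, hD] at this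
    set w := (D ^ i) v
    -- the stabiliser of `w` modulo `U` is a subgroup containing `N` and `g`
    let S : Subgroup M :=
      { carrier := {y | ρ (y : P) w - w ∈ U}
        one_mem' := by simp
        mul_mem' := fun {a b} ha hb => by
          show ρ ((a * b : M) : P) w - w ∈ U
          rw [Subgroup.coe_mul, map_mul, mul_apply',
            show ρ (a : P) (ρ (b : P) w) - w = ρ (a : P) (ρ (b : P) w - w) + (ρ (a : P) w - w) by rw [map_sub]; abel]
          exact U.add_mem (hinv _ _ hb) ha
        inv_mem' := fun {a} ha => by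
          show ρ ((a⁻¹ : M) : P) w - w ∈ U
          have h := U.neg_mem (hinv ((a⁻¹ : M) : P) _ ha)
          rwa [map_sub, neg_sub, ← mul_apply', ← map_mul, ← Subgroup.coe_mul, inv_mul_cancel, Subgroup.coe_one, map_one,
            LinearEquiv.coe_one, id] at h }
    have hNS : N < S := lt_of_le_not_ge (fun y hy => hpow i y hy) fun h => hgN (h hgw)
    have hS : S.index = 1 := by
      have h1 := Subgroup.relIndex_mul_index hNS.le
      rw [hindex] at h1
      rcases (Nat.dvd_prime (Fact.out : p.Prime)).1 (Dvd.intro_left _ h1) with h | h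
      · exact h
      · exact absurd h1 (by
          intro h1
          rw [h] at h1
          have h2 : N.relIndex S = 1 := Nat.eq_of_mul_eq_mul_right (Fact.out : p.Prime).pos (by rw [h1, one_mul])
          exact not_le_of_gt hNS (Subgroup.relIndex_eq_one.1 h2))
    have : (⟨x, hx⟩ : M) ∈ S := by rw [Subgroup.index_eq_one.1 hS]; trivial
    exact this

/-- The unipotent case. -/
theorem char_p_case {F : Type u} [Field F] [CharP F p] {V : Type v} [AddCommGroup V] [Module F V] [FiniteDimensional F V]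
    {P : Type w} [Group P] [Finite P] (hP : IsPGroup p P) (ρ : P →* (V ≃ₗ[F] V)) :
    ∀ g ∈ derivedSeries P (Nat.log 2 (finrank F V) + 1), ρ g = 1 := by
  classical
  let step : Submodule F V → Submodule F V := fun U =>
    ⨅ g : P, U.comap ((ρ g : V →ₗ[F] V) - LinearMap.id)
  let fl : ℕ → Submodule F V := fun i => step^[i] ⊥
  have hmem : ∀ i v, v ∈ fl (i + 1) ↔ ∀ g, ρ g v - v ∈ fl i := fun i v => by
    show v ∈ step^[i + 1] ⊥ ↔ _
    rw [Function.iterate_succ_apply']
    simp [step, fl]
  have hmono : ∀ i, fl i ≤ fl (i + 1) := by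
    intro i
    induction i with
    | zero => exact bot_le
    | succ i ih => intro v hv; exact (hmem _ v).2 fun g => ih ((hmem i v).1 hv g)
  have hinv : ∀ i g, ∀ u ∈ fl i, ρ g u ∈ fl i := by
    intro i g u hu
    cases i with
    | zero => rw [show u = 0 from hu, map_zero]; exact zero_mem _
    | succ i =>
      rw [show ρ g u = u + (ρ g u - u) by abel]
      exact add_mem hu (hmono i ((hmem i u).1 hu g))
  have hgrow : ∀ i, fl i = ⊤ ∨ i ≤ finrank F (fl i) := by
    intro i
    induction i with
    | zero => exact Or.inr (Nat.zero_le _)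
    | succ i ih =>
      rcases ih with h | h
      · exact Or.inl (eq_top_iff.2 (h ▸ hmono i))
      · by_cases ht : fl i = ⊤
        · exact Or.inl (eq_top_iff.2 (ht ▸ hmono i))
        · refine Or.inr ?_
          obtain ⟨v, hv, hfix⟩ := exists_fixed hP ρ _ ⊤ le_rfl (fl i) ht (hinv i)
          have hlt : fl i < fl (i + 1) := lt_of_le_not_ge (hmono i) fun hle =>
            hv (hle ((hmem i v).2 fun g => hfix g trivial))
          have := Submodule.finrank_lt_finrank_of_lt hlt
          omega
  have htop : fl (finrank F V) = ⊤ := by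
    rcases hgrow (finrank F V) with h | h
    · exact h
    · exact Submodule.eq_top_of_finrank_eq (le_antisymm (Submodule.finrank_le _) h)
  -- elements lowering the flag by `a`
  let N : ℕ → P → Prop := fun a g => ∀ i, ∀ v ∈ fl i, ρ g v - v ∈ fl (i - a)
  have hsub : ∀ i a, fl (i - a) ≤ fl i := fun i a => monotone_nat_of_le_succ hmono (Nat.sub_le i a)
  have hN1 : ∀ g, N 1 g := by
    intro g i v hv
    cases i with
    | zero => rw [show v = 0 from hv, map_zero, sub_zero]; exact zero_mem _
    | succ i => exact (hmem i v).1 hv g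
  have hNmul : ∀ a g h, N a g → N a h → N a (g * h) := by
    intro a g h hg hh i v hv
    rw [map_mul, mul_apply', show ρ g (ρ h v) - v = (ρ g (ρ h v) - ρ h v) + (ρ h v - v) by abel]
    exact add_mem (hg i _ (hinv i h v hv)) (hh i v hv)
  have hNinv : ∀ a g, N a g → N a g⁻¹ := by
    intro a g hg i v hv
    have h := neg_mem (hg i _ (hinv i g⁻¹ v hv))
    rwa [← mul_apply', ← map_mul, mul_inv_cancel, map_one, LinearEquiv.coe_one, id, neg_sub] at h
  have hNcomm : ∀ a g h, N a g → N a h → N (2 * a) (g * h * g⁻¹ * h⁻¹) := by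
    intro a g h hg hh i v hv
    have hw : ρ (h * g)⁻¹ v ∈ fl i := hinv i _ v hv
    set w := ρ (h * g)⁻¹ v with hwdef
    have e1 : ρ (g * h * g⁻¹ * h⁻¹) v = ρ g (ρ h w) := by
      rw [hwdef, ← mul_apply', ← mul_apply', ← map_mul, ← map_mul]
      congr 2
      group
    have e2 : v = ρ h (ρ g w) := by
      rw [hwdef, ← mul_apply', ← mul_apply', ← map_mul, ← map_mul, mul_inv_cancel, map_one, LinearEquiv.coe_one, id]
    rw [e1, e2, show ρ g (ρ h w) - ρ h (ρ g w) =
      (ρ g (ρ h w - w) - (ρ h w - w)) - (ρ h (ρ g w - w) - (ρ g w - w)) by rw [map_sub, map_sub]; abel]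
    rw [show i - 2 * a = i - a - a by omega]
    exact sub_mem (hg _ _ (hh i w hw)) (hh _ _ (hg i w hw))
  have hder : ∀ k, ∀ g ∈ derivedSeries P k, N (2 ^ k) g := by
    intro k
    induction k with
    | zero => intro g _; exact hN1 g
    | succ k ih =>
      intro g hg
      rw [derivedSeries_succ, Subgroup.commutator_def] at hg
      induction hg using Subgroup.closure_induction with
      | mem g hg =>
        obtain ⟨a, ha, b, hb, rfl⟩ := hg
        rw [pow_succ']
        exact hNcomm _ a b (ih a ha) (ih b hb)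
      | one => intro i v _; simp
      | mul a b _ _ ha hb => exact hNmul _ a b ha hb
      | inv a _ ha => exact hNinv _ a ha
  intro g hg
  refine LinearEquiv.ext fun v => ?_
  have h := hder _ g hg (finrank F V) v (htop ▸ Submodule.mem_top)
  rw [Nat.sub_eq_zero_of_le (Nat.lt_pow_succ_log_self one_lt_two (finrank F V)).le] at h
  exact sub_eq_zero.1 (show ρ g v - v = 0 from h)

/-- Restriction of a representation to an invariant subspace. -/
theorem exists_restrict {F : Type u} [Field F] {V : Type v} [AddCommGroup V] [Module F V]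
    {P : Type w} [Group P] (ρ : P →* (V ≃ₗ[F] V)) (U : Submodule F V) (hinv : ∀ g : P, ∀ u ∈ U, ρ g u ∈ U) :
    ∃ σ : P →* (U ≃ₗ[F] U), ∀ (g : P) (u : U), ((σ g u : U) : V) = ρ g u := by
  let f : ∀ g : P, U →ₗ[F] U := fun g => (ρ g : V →ₗ[F] V).restrict (hinv g)
  let e : ∀ g : P, U ≃ₗ[F] U := fun g => LinearEquiv.ofLinear (f g) (f g⁻¹)
    (LinearMap.ext fun u => Subtype.ext (by
      show ρ g (ρ g⁻¹ u) = (u : V)
      rw [← mul_apply', ← map_mul, mul_inv_cancel, map_one]; rfl))
    (LinearMap.ext fun u => Subtype.ext (by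
      show ρ g⁻¹ (ρ g u) = (u : V)
      rw [← mul_apply', ← map_mul, inv_mul_cancel, map_one]; rfl))
  exact ⟨MonoidHom.mk' e (fun g h => LinearEquiv.ext fun u => Subtype.ext (by
    show ρ (g * h) u = ρ g (ρ h u)
    rw [map_mul]; rfl)), fun g u => rfl⟩

theorem derivedSeries_succ_le (P : Type*) [Group P] (j : ℕ) :
    derivedSeries P (j + 1) ≤ (derivedSeries (derivedSeries P 1) j).map (derivedSeries P 1).subtype := by
  induction j with
  | zero => intro g hg; exact ⟨⟨g, hg⟩, Subgroup.mem_top _, rfl⟩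
  | succ j ih =>
    show ⁅derivedSeries P (j + 1), derivedSeries P (j + 1)⁆ ≤
      Subgroup.map _ ⁅derivedSeries (derivedSeries P 1) j, derivedSeries (derivedSeries P 1) j⁆
    rw [Subgroup.map_commutator]
    exact Subgroup.commutator_mono ih ih

/-- The case of coprime characteristic over an algebraically closed field. -/
theorem coprime_case {F : Type u} [Field F] [IsAlgClosed F] (hpF : (p : F) ≠ 0) : ∀ (n : ℕ) (V : Type v) [AddCommGroup V]
    [Module F V] [FiniteDimensional F V], finrank F V ≤ n → ∀ (P : Type w) [Group P] [Finite P], IsPGroup p P →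
      ∀ ρ : P →* (V ≃ₗ[F] V), ∀ g ∈ derivedSeries P (Nat.log 2 n + 1), ρ g = 1 := by
  intro n
  induction n using Nat.strong_induction_on with
  | _ n ih =>
  intro V _ _ _ hn P _ _ hP ρ g hg
  classical
  rcases subsingleton_or_nontrivial V with hV | hV
  · exact LinearEquiv.ext fun v => Subsingleton.elim _ _
  have hn1 : 1 ≤ n := le_trans (Module.finrank_pos (R := F) (M := V)) hn
  -- restriction to a smaller invariant subspace
  have hrec : ∀ (U : Submodule F V), finrank F U < n → ∀ (hinv : ∀ g : P, ∀ u ∈ U, ρ g u ∈ U), ∀ u ∈ U, ρ g u = u := by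
    intro U hU hinv u hu
    obtain ⟨σ, hσ⟩ := exists_restrict ρ U hinv
    have h1 : g ∈ derivedSeries P (Nat.log 2 (finrank F U) + 1) :=
      derivedSeries_antitone P (by have := Nat.log_mono_right (b := 2) hU.le; omega) hg
    have h2 := ih _ hU U le_rfl P hP σ g h1
    have := hσ g ⟨u, hu⟩
    rw [h2] at this
    exact this.symm
  by_cases hred : ∃ U : Submodule F V, U ≠ ⊥ ∧ U ≠ ⊤ ∧ ∀ g : P, ∀ u ∈ U, ρ g u ∈ U
  · obtain ⟨U, hUb, hUt, hUinv⟩ := hred
    obtain ⟨π₀, hπ₀⟩ := LinearMap.exists_leftInverse_of_injective U.subtype (by rw [Submodule.ker_subtype])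
    haveI : Fintype P := Fintype.ofFinite P
    have hc : ((Fintype.card P : ℕ) : F) ≠ 0 := by
      obtain ⟨k, hk⟩ := IsPGroup.iff_card.1 hP
      rw [← Nat.card_eq_fintype_card, hk, Nat.cast_pow]
      exact pow_ne_zero _ hpF
    let q : V →ₗ[F] V := ((Fintype.card P : ℕ) : F)⁻¹ • ∑ h : P, (ρ h : V →ₗ[F] V) ∘ₗ U.subtype ∘ₗ π₀ ∘ₗ (ρ h⁻¹ : V →ₗ[F] V)
    have hq : ∀ v, q v = ((Fintype.card P : ℕ) : F)⁻¹ • ∑ h : P, ρ h ((π₀ (ρ h⁻¹ v) : U) : V) := fun v => by
      simp [q, LinearMap.sum_apply]
    have hqU : ∀ v, q v ∈ U := fun v => by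
      rw [hq]; exact U.smul_mem _ (U.sum_mem fun h _ => hUinv h _ (Subtype.coe_prop _))
    have hqid : ∀ u : U, q (u : V) = (u : V) := fun u => by
      rw [hq]
      have : ∀ h : P, ρ h ((π₀ (ρ h⁻¹ (u : V)) : U) : V) = u := fun h => by
        have e := LinearMap.congr_fun hπ₀ ⟨ρ h⁻¹ (u : V), hUinv _ _ u.2⟩
        simp only [LinearMap.comp_apply, Submodule.coe_subtype, LinearMap.id_apply] at e
        rw [e, ← mul_apply', ← map_mul, mul_inv_cancel, map_one]; rfl
      rw [Finset.sum_congr rfl (fun h _ => this h), Finset.sum_const, Finset.card_univ, ← Nat.cast_smul_eq_nsmul F,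
        inv_smul_smul₀ hc]
    have hqequiv : ∀ (a : P) v, q (ρ a v) = ρ a (q v) := fun a v => by
      rw [hq, hq, map_smul, map_sum]
      congr 1
      refine (Fintype.sum_equiv (Equiv.mulLeft a) _ _ fun h => ?_).symm
      show ρ a (ρ h ((π₀ (ρ h⁻¹ v) : U) : V)) = ρ (a * h) ((π₀ (ρ (a * h)⁻¹ (ρ a v)) : U) : V)
      have e : ρ (a * h)⁻¹ (ρ a v) = ρ h⁻¹ v := by
        rw [← mul_apply', ← map_mul]; congr 2; group
      rw [e, map_mul, mul_apply']
    let qU : V →ₗ[F] U := q.codRestrict U hqU
    have hcompl : IsCompl U (LinearMap.ker qU) := LinearMap.isCompl_of_proj fun u => Subtype.ext (hqid u)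
    have hKinv : ∀ a : P, ∀ u ∈ LinearMap.ker qU, ρ a u ∈ LinearMap.ker qU := fun a u hu => by
      rw [LinearMap.mem_ker] at hu ⊢
      refine Subtype.ext ?_
      show q (ρ a u) = 0
      rw [hqequiv, show q u = 0 from congrArg Subtype.val hu, map_zero]
    have hd := Submodule.finrank_add_eq_of_isCompl hcompl
    have hU0 : 0 < finrank F U := by
      rw [Module.finrank_pos_iff, Submodule.nontrivial_iff_ne_bot]; exact hUb
    have hUlt : finrank F U < finrank F V := Submodule.finrank_lt hUt
    refine LinearEquiv.ext fun v => ?_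
    obtain ⟨a, ha, b, hb, rfl⟩ := Submodule.mem_sup.1 (show v ∈ U ⊔ LinearMap.ker qU by rw [hcompl.sup_eq_top]; trivial)
    rw [map_add, hrec U (by omega) hUinv a ha, hrec _ (by omega) hKinv b hb]
    rfl
  push Not at hred
  have hirr : ∀ U : Submodule F V, U ≠ ⊥ → (∀ g : P, ∀ u ∈ U, ρ g u ∈ U) → U = ⊤ := by
    intro U h1 h2
    by_contra h3
    obtain ⟨a, u, hu, hau⟩ := hred U h1 h3
    exact hau (h2 a u hu)
  set Q := ρ.range with hQ
  have hQp : IsPGroup p Q := hP.of_surjective ρ.rangeRestrict ρ.rangeRestrict_surjective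
  haveI : Finite Q := Finite.of_surjective ρ.rangeRestrict ρ.rangeRestrict_surjective
  by_cases hab : ∀ a b : Q, a * b = b * a
  · have hle : derivedSeries P 1 ≤ ρ.ker := by
      rw [derivedSeries_one]
      show ⁅(⊤ : Subgroup P), ⊤⁆ ≤ ρ.ker
      rw [Subgroup.commutator_le]
      intro a _ b _
      have h : ρ a * ρ b = ρ b * ρ a := congrArg Subtype.val (hab ⟨ρ a, a, rfl⟩ ⟨ρ b, b, rfl⟩)
      rw [MonoidHom.mem_ker]
      show ρ (a * b * a⁻¹ * b⁻¹) = 1
      rw [map_mul, map_mul, map_mul, map_inv, map_inv, h]; group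
    exact MonoidHom.mem_ker.1 (hle (derivedSeries_antitone P (by omega) hg))
  -- an element central modulo scalars
  obtain ⟨a, haZ, haC⟩ : ∃ a : Q, (∀ b : Q, b * a * b⁻¹ * a⁻¹ ∈ Subgroup.center Q) ∧ a ∉ Subgroup.center Q := by
    haveI : Nontrivial (Q ⧸ Subgroup.center Q) := QuotientGroup.nontrivial_iff.2 fun h => hab fun a b =>
      (Subgroup.mem_center_iff.1 (h ▸ Subgroup.mem_top a) b).symm
    haveI := (hQp.to_quotient (Subgroup.center Q)).center_nontrivial
    obtain ⟨x, hx⟩ := exists_ne (1 : Subgroup.center (Q ⧸ Subgroup.center Q))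
    obtain ⟨a, ha⟩ := QuotientGroup.mk_surjective (x : Q ⧸ Subgroup.center Q)
    refine ⟨a, fun b => ?_, fun h => hx (Subtype.ext (by rw [← ha]; exact (QuotientGroup.eq_one_iff a).2 h))⟩
    rw [← QuotientGroup.eq_one_iff, QuotientGroup.mk_mul, QuotientGroup.mk_mul, QuotientGroup.mk_mul, QuotientGroup.mk_inv,
      QuotientGroup.mk_inv, ha, Subgroup.mem_center_iff.1 x.2]
    group
  have hscal : ∀ c : Q, c ∈ Subgroup.center Q → ∃ μ : F, ∀ v : V, (c : V ≃ₗ[F] V) v = μ • v := by
    intro c hc
    obtain ⟨μ, hμ⟩ := End.exists_eigenvalue ((c : V ≃ₗ[F] V) : End F V)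
    refine ⟨μ, fun v => ?_⟩
    have htop : End.eigenspace ((c : V ≃ₗ[F] V) : End F V) μ = ⊤ := by
      refine hirr _ hμ fun b u hu => ?_
      rw [End.mem_eigenspace_iff] at hu ⊢
      have h : ρ b * (c : V ≃ₗ[F] V) = (c : V ≃ₗ[F] V) * ρ b := congrArg Subtype.val (Subgroup.mem_center_iff.1 hc ⟨ρ b, b, rfl⟩)
      show (c : V ≃ₗ[F] V) (ρ b u) = μ • ρ b u
      rw [← mul_apply', ← h, mul_apply', show (c : V ≃ₗ[F] V) u = μ • u from hu, map_smul]
    exact End.mem_eigenspace_iff.1 (htop ▸ Submodule.mem_top (x := v))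
  choose χ hχ using fun b : P => hscal _ (haZ ⟨ρ b, b, rfl⟩)
  set A : V ≃ₗ[F] V := (a : V ≃ₗ[F] V) with hA
  have hAρ : ∀ (b : P) (v : V), ρ b (A v) = χ b • A (ρ b v) := by
    intro b v
    have h := hχ b (A (ρ b v))
    rw [← h]
    show ρ b (A v) = ((ρ b * A * (ρ b)⁻¹ * A⁻¹ : V ≃ₗ[F] V)) (A (ρ b v))
    simp [mul_apply', LinearEquiv.symm_apply_apply]
  have hχ0 : ∀ b, χ b ≠ 0 := by
    intro b h
    obtain ⟨v, hv⟩ := exists_ne (0 : V)
    have := hAρ b v
    rw [h, zero_smul, LinearEquiv.map_eq_zero_iff, LinearEquiv.map_eq_zero_iff] at this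
    exact hv this
  have hχmul : ∀ b c, χ (b * c) = χ b * χ c := by
    intro b c
    obtain ⟨v, hv⟩ := exists_ne (0 : V)
    have h1 := hAρ (b * c) v
    rw [map_mul, mul_apply', mul_apply', hAρ c, map_smul, hAρ b, smul_smul, mul_comm] at h1
    refine (smul_left_injective F (?_ : A (ρ b (ρ c v)) ≠ 0) h1).symm
    simp [hv]
  let X : P →* Fˣ := MonoidHom.mk' (fun b => Units.mk0 (χ b) (hχ0 b)) (fun b c => Units.ext (hχmul b c))
  have hker : ∀ b ∈ derivedSeries P 1, χ b = 1 := by
    intro b hb
    rw [derivedSeries_one] at hb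
    exact congrArg Units.val (MonoidHom.mem_ker.1 (Abelianization.commutator_subset_ker X hb))
  -- some element moves the eigenvalues
  obtain ⟨b₀, hb₀⟩ : ∃ b, χ b ≠ 1 := by
    by_contra h
    push Not at h
    refine haC (Subgroup.mem_center_iff.2 ?_)
    rintro ⟨_, b, rfl⟩
    refine Subtype.ext (LinearEquiv.ext fun v => ?_)
    show ρ b (A v) = A (ρ b v)
    rw [hAρ, h b, one_smul]
  let E : F → Submodule F V := fun μ => End.eigenspace (A : End F V) μ
  have hmove : ∀ (b : P) (μ : F), ∀ v ∈ E μ, ρ b v ∈ E ((χ b)⁻¹ * μ) := by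
    intro b μ v hv
    rw [End.mem_eigenspace_iff] at hv ⊢
    show A (ρ b v) = ((χ b)⁻¹ * μ) • ρ b v
    have h := hAρ b v
    rw [show A v = μ • v from hv, map_smul] at h
    rw [mul_smul, h, inv_smul_smul₀ (hχ0 b)]
  have hall : ∀ μ : F, ∀ v ∈ E μ, ρ g v = v := by
    intro μ v hv
    rcases eq_or_ne v 0 with rfl | hv0
    · exact map_zero _
    have hμ : μ ≠ 0 := by
      rintro rfl
      rw [End.mem_eigenspace_iff, zero_smul] at hv
      exact hv0 (A.map_eq_zero_iff.1 hv)
    set ν := (χ b₀)⁻¹ * μ with hν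
    have hne : ν ≠ μ := fun h => hb₀ (by
      have : (χ b₀)⁻¹ = 1 := mul_right_cancel₀ hμ (by rw [one_mul]; exact h)
      exact inv_eq_one.1 this)
    have hdis : Disjoint (E μ) (E ν) := (End.eigenspaces_iSupIndep (A : End F V)).pairwiseDisjoint hne.symm
    have hdim : finrank F (E μ) ≤ finrank F (E ν) := by
      let f : E μ →ₗ[F] E ν := (ρ b₀ : V →ₗ[F] V).restrict fun u hu => hmove b₀ μ u hu
      exact LinearMap.finrank_le_finrank_of_injective (f := f) fun u w h => Subtype.ext ((ρ b₀).injective (congrArg Subtype.val h))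
    have hsum : finrank F (E μ) + finrank F (E ν) ≤ n := by
      have h1 := Submodule.finrank_sup_add_finrank_inf_eq (E μ) (E ν)
      rw [disjoint_iff.1 hdis, finrank_bot, add_zero] at h1
      rw [← h1]
      exact (Submodule.finrank_le _).trans hn
    have hpos : 0 < finrank F (E μ) := by
      rw [Module.finrank_pos_iff, Submodule.nontrivial_iff_ne_bot]
      exact fun h => hv0 ((Submodule.eq_bot_iff _).1 h v hv)
    obtain ⟨σ, hσ⟩ := exists_restrict (ρ.comp (derivedSeries P 1).subtype) (E μ) fun b u hu => by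
      have h := hmove (b : P) μ u hu
      rwa [hker b b.2, inv_one, one_mul] at h
    have hlog : Nat.log 2 (n / 2) + 1 = Nat.log 2 n := by
      rw [Nat.log_div_base]
      exact Nat.sub_add_cancel (Nat.log_pos one_lt_two (by omega))
    obtain ⟨g', hg', rfl⟩ := derivedSeries_succ_le P (Nat.log 2 n) hg
    rw [← hlog] at hg'
    have h2 := ih (n / 2) (by omega) (E μ) (by omega) _ (hP.to_subgroup _) σ g' hg'
    have := hσ g' ⟨v, hv⟩
    rw [h2] at this
    exact this.symm
  refine LinearEquiv.ext fun v => ?_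
  have hW : (⨆ μ, E μ) = ⊤ := by
    refine hirr _ ?_ fun b u hu => ?_
    · obtain ⟨μ, hμ⟩ := End.exists_eigenvalue (A : End F V)
      exact fun h => hμ (le_bot_iff.1 (h ▸ le_iSup E μ))
    · induction hu using Submodule.iSup_induction' with
      | mem μ u hu => exact Submodule.mem_iSup_of_mem _ (hmove b μ u hu)
      | zero => rw [map_zero]; exact zero_mem _
      | add u w _ _ h1 h2 => rw [map_add]; exact add_mem h1 h2
  have hv : v ∈ ⨆ μ, E μ := hW ▸ Submodule.mem_top
  show ρ g v = v
  induction hv using Submodule.iSup_induction' with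
  | mem μ u hu => exact hall μ u hu
  | zero => exact map_zero _
  | add u w _ _ h1 h2 => rw [map_add, h1, h2]


/-- Let F be a field, n ≥ 1, and P a finite p-group (p a prime) admitting an injective homomorphism into the general linear group of degree n over F. Then the derived length of P is at most ⌊log₂ n⌋ + 1: that term of the derived series of P is trivial. -/
theorem result {P : Type*} [Group P] [Finite P] (p : ℕ) [Fact p.Prime] (hP : IsPGroup p P) (F : Type*) [Field F] (n : ℕ) (hn : 1 ≤ n) (ρ : P →* Matrix.GeneralLinearGroup (Fin n) F) (hρ : Function.Injective ρ) : derivedSeries P (Nat.log 2 n + 1) = ⊥ := by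
  classical
  rw [eq_bot_iff]
  intro g hg
  rw [Subgroup.mem_bot]
  apply hρ
  rw [map_one]
  by_cases hpF : (p : F) = 0
  · haveI : CharP F p := (CharP.charP_iff_prime_eq_zero (Fact.out : p.Prime)).2 hpF
    let e : Matrix.GeneralLinearGroup (Fin n) F →* ((Fin n → F) ≃ₗ[F] (Fin n → F)) :=
      (LinearMap.GeneralLinearGroup.generalLinearEquiv F (Fin n → F)).toMonoidHom.comp Matrix.GeneralLinearGroup.toLin.toMonoidHom
    have he : Function.Injective e :=
      (LinearMap.GeneralLinearGroup.generalLinearEquiv F (Fin n → F)).injective.comp Matrix.GeneralLinearGroup.toLin.injective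
    refine he (?_ : e (ρ g) = e 1)
    rw [map_one]
    exact char_p_case hP (e.comp ρ) g (by rw [Module.finrank_fin_fun]; exact hg)
  · let K := AlgebraicClosure F
    let j : Matrix.GeneralLinearGroup (Fin n) F →* Matrix.GeneralLinearGroup (Fin n) K :=
      Matrix.GeneralLinearGroup.map (algebraMap F K)
    have hj : Function.Injective j := Units.map_injective (Matrix.map_injective (algebraMap F K).injective)
    let e : Matrix.GeneralLinearGroup (Fin n) K →* ((Fin n → K) ≃ₗ[K] (Fin n → K)) :=
      (LinearMap.GeneralLinearGroup.generalLinearEquiv K (Fin n → K)).toMonoidHom.comp Matrix.GeneralLinearGroup.toLin.toMonoidHom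
    have he : Function.Injective e :=
      (LinearMap.GeneralLinearGroup.generalLinearEquiv K (Fin n → K)).injective.comp Matrix.GeneralLinearGroup.toLin.injective
    refine hj (he (?_ : e (j (ρ g)) = e (j 1)))
    rw [map_one, map_one]
    exact coprime_case (F := K) (fun h => hpF ((algebraMap F K).injective (by rw [map_natCast, map_zero]; exact h)))
      n (Fin n → K) (by rw [Module.finrank_fin_fun]) P hP (e.comp (j.comp ρ)) g hg


end Cfsg.Agent.S4010
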