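import Cfsg.Statements.S4013
import Mathlib

set_option autoImplicit false
open Cfsg
open Subgroup

namespace Cfsg.Agent.S4013

/-- Let G be a finite p-group (p prime) and N < M normal subgroups of G such that for some g ∈ M ∖ N the conjugacy class of g is exactly M ∖ N. Then p = 2 and N has index 2 in M. -/
theorem result {G : Type*} [Group G] [Finite G] (p : ℕ) [Fact p.Prime] (hG : IsPGroup p G) (N M : Subgroup G) [N.Normal] [M.Normal] (hNM : N < M) (g : G) (hgM : g ∈ M) (hgN : g ∉ N) (hcl : {h : G | IsConj g h} = (M : Set G) \ (N : Set G)) : p = 2 ∧ N.relIndex M = 2 := by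
  classical
  have hp : p.Prime := Fact.out
  have hset : {h : G | IsConj g h} = MulAction.orbit (ConjAct G) g := by
    ext h; rw [ConjAct.mem_orbit_conjAct]; exact isConj_comm
  obtain ⟨m, hm⟩ : ∃ m, Nat.card (MulAction.orbit (ConjAct G) g) = p ^ m :=
    (hG.of_equiv ConjAct.toConjAct).card_orbit g
  rw [← hset, hcl] at hm
  have h1 : Nat.card ↥((M : Set G) \ (N : Set G)) + Nat.card N = Nat.card M := by
    rw [Nat.card_coe_set_eq, ← SetLike.coe_sort_coe N, ← SetLike.coe_sort_coe M,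
      Nat.card_coe_set_eq, Nat.card_coe_set_eq]
    exact Set.ncard_sdiff_add_ncard_of_subset hNM.le
  obtain ⟨a, ha⟩ := (hG.to_subgroup N).exists_card_eq
  have h2 : Nat.card M = Nat.card N * N.relIndex M := by
    rw [← relIndex_bot_left, ← relIndex_bot_left, relIndex_mul_relIndex _ _ _ bot_le hNM.le]
  obtain ⟨k, hk⟩ := (hG.to_subgroup M).exists_card_eq
  obtain ⟨b, hb⟩ : ∃ b, N.relIndex M = p ^ b :=
    ((Nat.dvd_prime_pow hp).1 (show N.relIndex M ∣ p ^ k from hk ▸ h2 ▸ dvd_mul_left _ _)).imp fun b h => h.2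
  have hb0 : b ≠ 0 := fun h0 => not_le_of_gt hNM (relIndex_eq_one.1 (by rw [hb, h0, pow_zero]))
  rw [h2, hm, ha, hb] at h1
  have hp1 : 1 ≤ p ^ b := Nat.one_le_pow _ _ hp.pos
  have heq : p ^ m = p ^ a * (p ^ b - 1) := by rw [Nat.mul_sub, mul_one]; omega
  have hco : ¬ p ∣ p ^ b - 1 := fun hd => by
    have hdb : p ∣ p ^ b := dvd_pow_self p hb0
    have h := Nat.dvd_sub hdb hd
    rw [Nat.sub_sub_self hp1] at h
    exact hp.one_lt.not_ge (Nat.le_of_dvd one_pos h)
  have hone : p ^ b - 1 = 1 := by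
    obtain ⟨j, -, hj⟩ := (Nat.dvd_prime_pow hp).1 (heq ▸ dvd_mul_left _ _ : p ^ b - 1 ∣ p ^ m)
    rcases Nat.eq_zero_or_pos j with rfl | hj0
    · rw [hj, pow_zero]
    · exact absurd (hj ▸ dvd_pow_self p hj0.ne') hco
  have h2' : p ^ b = 2 := by omega
  have hp2 : p = 2 := (Nat.prime_dvd_prime_iff_eq hp Nat.prime_two).1 (h2' ▸ dvd_pow_self p hb0)
  exact ⟨hp2, hb.trans h2'⟩

end Cfsg.Agent.S4013
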