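import Cfsg.Statements.S4014
import Mathlib

set_option autoImplicit false
open Cfsg

namespace Cfsg.Agent.S4014

open Equiv

variable {p : ℕ} [Fact p.Prime]

/-- A transitive `p`-group on at most `p ^ j` points has derived length at most `j` there. -/
theorem upper : ∀ (j : ℕ) {P Ω : Type*} [Group P] [Finite Ω] [MulAction P Ω] [MulAction.IsPretransitive P Ω],
    IsPGroup p P → Nat.card Ω ≤ p ^ j → ∀ g ∈ derivedSeries P j, ∀ x : Ω, g • x = x := by
  intro j
  induction j with
  | zero =>
    intro P Ω _ _ _ _ _ hcard g _ x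
    haveI : Subsingleton Ω := (Finite.card_le_one_iff_subsingleton).1 (by simpa using hcard)
    exact Subsingleton.elim _ _
  | succ j ih =>
    intro P Ω _ _ _ _ hP hcard g hg x
    have hp : p.Prime := Fact.out
    rcases subsingleton_or_nontrivial Ω with hs | hs
    · exact Subsingleton.elim _ _
    set f : P →* Perm Ω := MulAction.toPermHom P Ω with hf
    set P0 := f.range with hP0
    have hP0p : IsPGroup p P0 := hP.of_surjective f.rangeRestrict f.rangeRestrict_surjective
    haveI : Nontrivial P0 := by
      obtain ⟨a, b, hab⟩ := exists_pair_ne Ω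
      obtain ⟨h, hh⟩ := MulAction.exists_smul_eq P a b
      refine ⟨⟨f h, h, rfl⟩, 1, fun e => hab ?_⟩
      have e' : f h a = a := by rw [show f h = 1 from congrArg Subtype.val e]; rfl
      exact e'.symm.trans hh
    haveI : Nontrivial (Subgroup.center P0) := hP0p.center_nontrivial
    obtain ⟨c, hc, hcard'⟩ := (hP0p.to_subgroup (Subgroup.center P0)).nontrivial_iff_card.1 inferInstance
    obtain ⟨z', hz'⟩ := exists_prime_orderOf_dvd_card' (G := Subgroup.center P0) p (hcard' ▸ dvd_pow_self p (by omega))
    set z : Perm Ω := ((z' : P0) : Perm Ω) with hz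
    have hzo : orderOf z = p := by rw [hz, Subgroup.orderOf_coe, Subgroup.orderOf_coe, hz']
    have hcom : ∀ (h : P) (y : Ω), z (h • y) = h • z y := by
      intro h y
      have e := congrArg (fun u : P0 => (u : Perm Ω) y) (Subgroup.mem_center_iff.1 z'.2 ⟨f h, h, rfl⟩)
      exact e.symm
    have hcomn : ∀ (n : ℕ) (h : P) (y : Ω), (z ^ n) (h • y) = h • (z ^ n) y := by
      intro n
      induction n with
      | zero => intro h y; rfl
      | succ n ihn => intro h y; rw [pow_succ, Perm.mul_apply, Perm.mul_apply, hcom, ihn]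
    have hfree : ∀ y, z y ≠ y := by
      intro y hy
      have h1 : z = 1 := Equiv.ext fun w => by
        obtain ⟨h, rfl⟩ := MulAction.exists_smul_eq P y w
        rw [hcom, hy]; rfl
      rw [h1, orderOf_one] at hzo
      exact hp.one_lt.ne hzo
    let R : Setoid Ω :=
      { r := fun a b => ∃ i : ℕ, (z ^ i) a = b
        iseqv := ⟨fun a => ⟨0, rfl⟩, fun {a b} ⟨i, hi⟩ => by
            refine ⟨(p - 1) * i, ?_⟩
            rw [← hi, ← Perm.mul_apply, ← pow_add, show (p - 1) * i + i = p * i by
              nth_rw 2 [← one_mul i]; rw [← add_mul, Nat.sub_add_cancel hp.one_le], pow_mul, ← hzo, pow_orderOf_eq_one, one_pow]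
            rfl,
          fun {a b c} ⟨i, hi⟩ ⟨k, hk⟩ => ⟨k + i, by rw [pow_add, Perm.mul_apply, hi, hk]⟩⟩ }
    letI : MulAction P (Quotient R) :=
      { smul := fun h => Quotient.map (fun y => h • y) fun a b ⟨i, hi⟩ => ⟨i, by rw [hcomn, hi]⟩
        one_smul := fun q => by
          induction q using Quotient.inductionOn with
          | h a => exact congrArg (Quotient.mk R) (one_smul P a)
        mul_smul := fun u v q => by
          induction q using Quotient.inductionOn with
          | h a => exact congrArg (Quotient.mk R) (mul_smul u v a) }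
    haveI : MulAction.IsPretransitive P (Quotient R) := ⟨fun u v => by
      induction u using Quotient.inductionOn with
      | h a =>
        induction v using Quotient.inductionOn with
        | h b =>
          obtain ⟨h, hh⟩ := MulAction.exists_smul_eq P a b
          exact ⟨h, congrArg (Quotient.mk R) hh⟩⟩
    have hle : Nat.card (Quotient R) ≤ p ^ j := by
      have hinj : Function.Injective fun t : Quotient R × Fin p => (z ^ (t.2 : ℕ)) t.1.out := by
        rintro ⟨u, i⟩ ⟨v, k⟩ h
        dsimp only at h
        have huv : u = v := by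
          rw [← u.out_eq, ← v.out_eq]
          have e1 : Quotient.mk R u.out = Quotient.mk R ((z ^ (i : ℕ)) u.out) := Quotient.sound ⟨(i : ℕ), rfl⟩
          have e2 : Quotient.mk R v.out = Quotient.mk R ((z ^ (k : ℕ)) v.out) := Quotient.sound ⟨(k : ℕ), rfl⟩
          exact e1.trans ((congrArg (Quotient.mk R) h).trans e2.symm)
        subst huv
        have key : ∀ a b : Fin p, (a : ℕ) ≤ b → (z ^ (a : ℕ)) u.out = (z ^ (b : ℕ)) u.out → a = b := by
          intro a b hab e
          obtain ⟨d, hd⟩ := Nat.exists_eq_add_of_le hab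
          rw [hd, pow_add, Perm.mul_apply] at e
          have e' := (z ^ (a : ℕ)).injective e
          by_contra hne
          have hd0 : 0 < d := Nat.pos_of_ne_zero fun h0 => hne (Fin.ext (by omega))
          obtain ⟨m, hm⟩ := exists_pow_eq_self_of_coprime (x := z) (n := d) (by
            rw [hzo, Nat.coprime_comm, hp.coprime_iff_not_dvd]
            intro hdd
            have := Nat.le_of_dvd hd0 hdd
            omega)
          refine hfree u.out ?_
          conv_lhs => rw [← hm]
          clear hm
          induction m with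
          | zero => rfl
          | succ m ihm => rw [pow_succ, Perm.mul_apply, ← e', ihm]
        rcases le_total (i : ℕ) k with h1 | h1
        · rw [key i k h1 h]
        · rw [key k i h1 h.symm]
      have h1 := Nat.card_le_card_of_injective _ hinj
      rw [Nat.card_prod, Nat.card_fin] at h1
      rw [pow_succ] at hcard
      exact Nat.le_of_mul_le_mul_right (h1.trans hcard) hp.pos
    have hfix : ∀ u ∈ derivedSeries P j, ∀ y : Ω, ∃ i : ℕ, (z ^ i) y = u • y := fun u hu y =>
      Quotient.exact (ih (Ω := Quotient R) hP hle u hu (Quotient.mk R y)).symm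
    -- two such elements commute on each point
    suffices hall : derivedSeries P (j + 1) ≤ MulAction.stabilizer P x from hall hg
    rw [derivedSeries_succ, Subgroup.commutator_le]
    intro u hu v hv
    obtain ⟨a, ha⟩ := hfix u hu x
    obtain ⟨b, hb⟩ := hfix v hv x
    have huv : u • v • x = v • u • x := by
      rw [← hb, ← ha, ← hcomn, ← hcomn, ← ha, ← hb, ← Perm.mul_apply, ← Perm.mul_apply, ← pow_add, ← pow_add, add_comm]
    show (u * v * u⁻¹ * v⁻¹) • x = x
    have h2 : (u * v * u⁻¹ * v⁻¹) • x = x := by
      have hw : (u * v * u⁻¹ * v⁻¹) • (v • u • x) = v • u • x := by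
        simp only [mul_smul, inv_smul_smul]
        exact huv
      obtain ⟨i, hi⟩ := hfix v hv (u • x)
      rw [← hi, ← ha, ← Perm.mul_apply, ← pow_add, ← hcomn] at hw
      exact (z ^ (i + a)).injective hw
    exact h2

/-- A `p`-group of permutations of `p ^ k` points of derived length at least `k`. -/
theorem lower : ∀ k : ℕ, 1 ≤ k → ∃ (α : Type) (_ : Fintype α) (W : Subgroup (Perm α)),
    Fintype.card α = p ^ k ∧ IsPGroup p W ∧ derivedSeries W (k - 1) ≠ ⊥ := by
  classical
  have hp : p.Prime := Fact.out
  haveI : NeZero p := ⟨hp.ne_zero⟩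
  intro k hk
  induction k, hk using Nat.le_induction with
  | base =>
    let f : Multiplicative (ZMod p) →* Perm (ZMod p) := MonoidHom.mk' (fun c => Equiv.addRight (Multiplicative.toAdd c))
      (fun a b => Equiv.ext fun x => by
        show x + (Multiplicative.toAdd a + Multiplicative.toAdd b) = x + Multiplicative.toAdd b + Multiplicative.toAdd a
        rw [add_comm (Multiplicative.toAdd a), add_assoc])
    refine ⟨ZMod p, inferInstance, f.range, by rw [ZMod.card, pow_one],
      (IsPGroup.of_card (n := 1) (by rw [Nat.card_congr Multiplicative.toAdd, Nat.card_zmod, pow_one])).of_surjective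
        f.rangeRestrict f.rangeRestrict_surjective, ?_⟩
    intro h
    have h1 : (⟨f (Multiplicative.ofAdd 1), _, rfl⟩ : f.range) ∈ derivedSeries f.range (1 - 1) := Subgroup.mem_top _
    rw [h, Subgroup.mem_bot] at h1
    have h2 : (0 : ZMod p) + 1 = 0 := congrArg (fun u : f.range => (u : Perm (ZMod p)) 0) h1
    rw [zero_add] at h2
    exact one_ne_zero h2
  | succ k hk ih =>
    obtain ⟨α, _, W, hcard, hW, hd⟩ := ih
    let W' : Subgroup (Perm (α × ZMod p)) :=
      { carrier := {σ | ∃ (f : ZMod p → W) (c : ZMod p), ∀ x, σ x = ((f x.2 : Perm α) x.1, x.2 + c)}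
        one_mem' := ⟨fun _ => 1, 0, fun x => by simp⟩
        mul_mem' := by
          rintro σ τ ⟨f, c, hσ⟩ ⟨g, d, hτ⟩
          refine ⟨fun i => f (i + d) * g i, d + c, fun x => ?_⟩
          rw [Perm.mul_apply, hτ, hσ]
          simp [Perm.mul_apply, add_assoc]
        inv_mem' := by
          rintro σ ⟨f, c, hσ⟩
          refine ⟨fun i => (f (i - c))⁻¹, -c, fun x => σ.injective ?_⟩
          rw [show σ (σ⁻¹ x) = x from σ.apply_symm_apply x, hσ, ← sub_eq_add_neg]
          simp }
    refine ⟨α × ZMod p, inferInstance, W', by rw [Fintype.card_prod, ZMod.card, hcard, pow_succ], ?_, ?_⟩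
    · intro σ
      obtain ⟨f, c, hσ⟩ := σ.2
      obtain ⟨N, hN⟩ := IsPGroup.iff_card.1 hW
      have hcoord : ∀ n : ℕ, ∀ i : ZMod p, ∃ h : W, ∀ a : α, ((σ : Perm (α × ZMod p)) ^ n) (a, i) = ((h : Perm α) a, i + (n : ZMod p) * c) := by
        intro n
        induction n with
        | zero => intro i; exact ⟨1, fun a => by simp⟩
        | succ n ihn =>
          intro i
          obtain ⟨h, hh⟩ := ihn i
          refine ⟨f (i + (n : ZMod p) * c) * h, fun a => ?_⟩
          rw [pow_succ', Perm.mul_apply, hh, hσ]
          simp [Perm.mul_apply]; ring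
      choose h hh using hcoord p
      have hh' : ∀ (a : α) (i : ZMod p), ((σ : Perm (α × ZMod p)) ^ p) (a, i) = ((h i : Perm α) a, i) := fun a i => by
        rw [hh i a, ZMod.natCast_self, zero_mul, add_zero]
      have hpow : ∀ (m : ℕ) (a : α) (i : ZMod p),
          (((σ : Perm (α × ZMod p)) ^ p) ^ m) (a, i) = (((h i : Perm α) ^ m) a, i) := by
        intro m
        induction m with
        | zero => intro a i; rfl
        | succ m ihm => intro a i; rw [pow_succ', Perm.mul_apply, ihm, hh', pow_succ', Perm.mul_apply]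
      refine ⟨N + 1, Subtype.ext (Equiv.ext fun x => ?_)⟩
      obtain ⟨a, i⟩ := x
      rw [SubmonoidClass.coe_pow, pow_succ', pow_mul, hpow]
      have h2 : ((h i : W) : Perm α) ^ p ^ N = 1 := by
        rw [← SubmonoidClass.coe_pow, ← hN, pow_card_eq_one', OneMemClass.coe_one]
      rw [h2]; rfl
    · have hlift : ∀ i : ℕ, ∀ w ∈ derivedSeries W i, ∃ σ ∈ derivedSeries W' (i + 1),
          ∃ f : ZMod p → W, f 0 = w ∧ ∀ x, (σ : Perm (α × ZMod p)) x = ((f x.2 : Perm α) x.1, x.2) := by
        intro i
        induction i with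
        | zero =>
          intro w _
          let b : Perm (α × ZMod p) := (Equiv.prodComm _ _).trans ((Equiv.prodShear (Equiv.refl (ZMod p))
            (fun i => if i = 0 then (w : Perm α) else 1)).trans (Equiv.prodComm _ _))
          let s : Perm (α × ZMod p) := Equiv.prodCongr (Equiv.refl α) (Equiv.addRight 1)
          have hb : ∀ x, b x = ((((if x.2 = 0 then w else 1) : W) : Perm α) x.1, x.2) := fun x => by
            by_cases h : x.2 = 0 <;> simp [b, h]
          have hbW : b ∈ W' := ⟨fun i => if i = 0 then w else 1, 0, fun x => by rw [hb, add_zero]⟩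
          have hsW : s ∈ W' := ⟨fun _ => 1, 1, fun x => rfl⟩
          refine ⟨⟨b, hbW⟩ * ⟨s, hsW⟩ * ⟨b, hbW⟩⁻¹ * ⟨s, hsW⟩⁻¹, ?_,
            fun i => (if i = 0 then w else 1) * (if i - 1 = 0 then w else 1)⁻¹, ?_, fun x => ?_⟩
          · rw [zero_add, derivedSeries_one]
            exact Subgroup.commutator_mem_commutator (Subgroup.mem_top _) (Subgroup.mem_top _)
          · simp [neg_eq_zero]
          · show b (s (b⁻¹ (s⁻¹ x))) = _
            have h1 : s⁻¹ x = (x.1, x.2 - 1) := s.injective (by
              rw [show s (s⁻¹ x) = x from s.apply_symm_apply x]; simp [s])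
            have h2 : b⁻¹ (x.1, x.2 - 1) = ((((if x.2 - 1 = 0 then w else 1) : W) : Perm α)⁻¹ x.1, x.2 - 1) :=
              b.injective (by rw [show b (b⁻¹ _) = _ from b.apply_symm_apply _, hb]; simp)
            rw [h1, h2]
            show b (_, x.2 - 1 + 1) = _
            rw [sub_add_cancel, hb]
            refine Prod.ext ?_ rfl
            show ((if x.2 = 0 then w else 1 : W) : Perm α) (((if x.2 - 1 = 0 then w else 1 : W) : Perm α)⁻¹ x.1) = _
            rfl
        | succ i ihi =>
          intro w hw
          rw [derivedSeries_succ, Subgroup.commutator_def] at hw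
          induction hw using Subgroup.closure_induction with
          | mem w hw =>
            obtain ⟨u, hu, v, hv, rfl⟩ := hw
            obtain ⟨σ, hσm, f, hf0, hσ⟩ := ihi u hu
            obtain ⟨τ, hτm, g, hg0, hτ⟩ := ihi v hv
            refine ⟨σ * τ * σ⁻¹ * τ⁻¹, ?_, fun j => f j * g j * (f j)⁻¹ * (g j)⁻¹, by rw [← hf0, ← hg0]; rfl, fun x => ?_⟩
            · rw [derivedSeries_succ]
              exact Subgroup.commutator_mem_commutator hσm hτm
            · have hinv : ∀ (σ : W') (f : ZMod p → W), (∀ x, (σ : Perm (α × ZMod p)) x = ((f x.2 : Perm α) x.1, x.2)) →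
                  ∀ x, ((σ⁻¹ : W') : Perm (α × ZMod p)) x = (((f x.2 : Perm α))⁻¹ x.1, x.2) := fun σ f h x =>
                (σ : Perm (α × ZMod p)).injective (by
                  rw [show (σ : Perm (α × ZMod p)) (((σ⁻¹ : W') : Perm (α × ZMod p)) x) = x from (σ : Perm (α × ZMod p)).apply_symm_apply x, h]
                  simp)
              show (σ : Perm (α × ZMod p)) ((τ : Perm (α × ZMod p)) (((σ⁻¹ : W') : Perm (α × ZMod p)) (((τ⁻¹ : W') : Perm (α × ZMod p)) x))) = _
              rw [hinv τ g hτ, hinv σ f hσ, hτ, hσ]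
              rfl
          | one => exact ⟨1, one_mem _, fun _ => 1, rfl, fun x => rfl⟩
          | mul u v _ _ hu hv =>
            obtain ⟨σ, hσm, f, hf0, hσ⟩ := hu
            obtain ⟨τ, hτm, g, hg0, hτ⟩ := hv
            refine ⟨σ * τ, mul_mem hσm hτm, f * g, by rw [Pi.mul_apply, hf0, hg0], fun x => ?_⟩
            show (σ : Perm (α × ZMod p)) ((τ : Perm (α × ZMod p)) x) = _
            rw [hτ, hσ]; rfl
          | inv u _ hu =>
            obtain ⟨σ, hσm, f, hf0, hσ⟩ := hu
            refine ⟨σ⁻¹, inv_mem hσm, f⁻¹, by rw [Pi.inv_apply, hf0], fun x => (σ : Perm (α × ZMod p)).injective ?_⟩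
            rw [show (σ : Perm (α × ZMod p)) (((σ⁻¹ : W') : Perm (α × ZMod p)) x) = x from (σ : Perm (α × ZMod p)).apply_symm_apply x, hσ]
            simp
      obtain ⟨w, hw, hw1⟩ := (Subgroup.bot_or_exists_ne_one _).resolve_left hd
      obtain ⟨σ, hσ, f, hf, hσx⟩ := hlift (k - 1) w hw
      rw [show k + 1 - 1 = k - 1 + 1 by omega]
      intro h
      rw [h, Subgroup.mem_bot] at hσ
      refine hw1 (Subtype.ext (Equiv.ext fun a => ?_))
      have := hσx (a, 0)
      rw [hσ, hf] at this
      exact (congrArg Prod.fst this).symm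


/-- Let p be a prime, n ≥ 1, and P a Sylow p-subgroup of the symmetric group on n letters. Then the derived length of P is exactly k = ⌊log_p n⌋ (the largest k with p^k ≤ n): the k-th derived subgroup of P is trivial and, when k ≥ 1, the (k−1)-st is not. -/
theorem result (p : ℕ) [Fact p.Prime] (n : ℕ) (hn : 1 ≤ n) (P : Sylow p (Equiv.Perm (Fin n))) : derivedSeries ↥(P : Subgroup (Equiv.Perm (Fin n))) (Nat.log p n) = ⊥ ∧ (1 ≤ Nat.log p n → derivedSeries ↥(P : Subgroup (Equiv.Perm (Fin n))) (Nat.log p n - 1) ≠ ⊥) := by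
  classical
  have hp : p.Prime := Fact.out
  set k := Nat.log p n with hk
  refine ⟨?_, fun hk1 => ?_⟩
  · rw [eq_bot_iff]
    intro g hg
    rw [Subgroup.mem_bot]
    refine Subtype.ext (Equiv.ext fun x => ?_)
    let O := MulAction.orbit ↥(P : Subgroup (Equiv.Perm (Fin n))) x
    obtain ⟨i, hi⟩ := P.isPGroup'.card_orbit x
    have hle : Nat.card O ≤ p ^ k := by
      show Nat.card O ≤ _
      rw [hi]
      refine Nat.pow_le_pow_right hp.pos (Nat.le_log_of_pow_le hp.one_lt ?_)
      rw [← hi]
      exact (Nat.card_le_card_of_injective (Subtype.val : O → Fin n) Subtype.val_injective).trans (by rw [Nat.card_fin])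
    have := upper k (Ω := O) P.isPGroup' hle g hg ⟨x, MulAction.mem_orbit_self x⟩
    exact congrArg Subtype.val this
  · obtain ⟨α, _, W, hα, hW, hd⟩ := lower (p := p) k hk1
    obtain ⟨e⟩ : Nonempty (α ↪ Fin n) := Function.Embedding.nonempty_of_card_le (by
      rw [hα, Fintype.card_fin]; exact Nat.pow_log_le_self p (by omega))
    let F : W →* Equiv.Perm (Fin n) := (Equiv.Perm.viaEmbeddingHom e).comp W.subtype
    have hF : Function.Injective F := (Equiv.Perm.viaEmbeddingHom_injective e).comp Subtype.val_injective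
    obtain ⟨Q, hQ⟩ := (hW.of_surjective F.rangeRestrict F.rangeRestrict_surjective).exists_le_sylow
    let F' : W →* ↥(Q : Subgroup (Equiv.Perm (Fin n))) := F.codRestrict _ (fun w => hQ ⟨w, rfl⟩)
    let E : W →* ↥(P : Subgroup (Equiv.Perm (Fin n))) := (Sylow.equiv Q P).toMonoidHom.comp F'
    have hE : Function.Injective E := (Sylow.equiv Q P).injective.comp fun a b h => hF (congrArg Subtype.val h)
    intro h
    refine hd ((Subgroup.map_eq_bot_iff_of_injective _ hE).1 ?_)
    exact le_bot_iff.1 (h ▸ map_derivedSeries_le_derivedSeries E (k - 1))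


end Cfsg.Agent.S4014
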