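import Cfsg.Statements.S4018
import Mathlib
import Cfsg.Agent.Lib.Struct.Friendship
import Cfsg.Agent.Lib.Inv.CyclicSylow

set_option autoImplicit false
open Cfsg
open scoped Pointwise

namespace Cfsg.Agent.S4018

open Subgroup in
theorem orderTwo_inv {G : Type*} [Group G] {u : G} (hu : orderOf u = 2) :
    u * u = 1 ∧ u⁻¹ = u ∧ u ≠ 1 := by
  have h : u * u = 1 := by rw [← pow_two, ← hu, pow_orderOf_eq_one]
  exact ⟨h, inv_eq_of_mul_eq_one_right h, fun h1 => by simp [h1] at hu⟩


/-- Let G be a finite group with an abelian Sylow 3-subgroup P such that the normalizer of P has order 4·#P, the centralizer C of P has order 2·#P, C meets each of its conjugates by elements outside its normalizer trivially, and every proper subgroup of G of even order has order dividing 4·#P. Then G is not simple. -/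
theorem result {G : Type*} [Group G] [Finite G]
    (P : Sylow 3 G) (hab : IsMulCommutative P)
    (hN : Nat.card (Subgroup.normalizer ((P : Subgroup G) : Set G)) = 4 * Nat.card P)
    (hC : Nat.card (Subgroup.centralizer (P : Set G)) = 2 * Nat.card P)
    (hTI : Cfsg.IsTISubset (Subgroup.centralizer (P : Set G) : Set G))
    (heven : ∀ H : Subgroup G, H ≠ ⊤ → 2 ∣ Nat.card H → Nat.card H ∣ 4 * Nat.card P) :
    ¬ IsSimpleGroup G := by
  intro hs
  classical
  have : Fintype G := Fintype.ofFinite G
  set C := Subgroup.centralizer (P : Set G) with hCd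
  set N := Subgroup.normalizer ((P : Subgroup G) : Set G) with hNd
  have hPC : (P : Subgroup G) ≤ C := by
    intro x hx
    rw [hCd, Subgroup.mem_centralizer_iff]
    intro y hy
    exact congrArg Subtype.val (hab.is_comm.comm (⟨y, hy⟩ : (P : Subgroup G)) ⟨x, hx⟩)
  obtain ⟨k, hk⟩ := (IsPGroup.iff_card (p := 3) (G := (P : Subgroup G))).1 P.isPGroup'
  have hm0 : 0 < Nat.card P := Nat.card_pos
  have hoddm : Odd (Nat.card P) := by rw [hk]; exact (by decide : Odd 3).pow
  -- the involution of C
  obtain ⟨⟨t, htC⟩, ht'⟩ := exists_prime_orderOf_dvd_card' (G := C) 2 ⟨Nat.card P, hC⟩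
  have ht : orderOf t = 2 := by rw [← ht', Subgroup.orderOf_mk]
  have huniq : ∀ c ∈ C, orderOf c = 2 → c = t := by
    intro c hc hc2
    obtain ⟨htt, hti, ht1⟩ := orderTwo_inv ht
    obtain ⟨hcc, hci, hc1⟩ := orderTwo_inv hc2
    have hnotP : ∀ x ∈ (P : Subgroup G), orderOf x ≠ 2 := by
      intro x hx h2
      have h := Subgroup.orderOf_dvd_natCard (s := (P : Subgroup G)) hx
      rw [h2] at h
      exact (Nat.not_even_iff_odd.2 hoddm) (even_iff_two_dvd.2 h)
    have hidx : ((P : Subgroup G).subgroupOf C).index = 2 := by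
      have h1 := Subgroup.index_mul_card ((P : Subgroup G).subgroupOf C)
      rw [Nat.card_congr (Subgroup.subgroupOfEquivOfLe hPC).toEquiv, hC] at h1
      exact Nat.eq_of_mul_eq_mul_right hm0 h1
    have hmem : c * t ∈ (P : Subgroup G) := by
      have h := (Subgroup.mul_mem_iff_of_index_two hidx (a := (⟨c, hc⟩ : C)) (b := ⟨t, htC⟩))
      simp only [Subgroup.mem_subgroupOf, Subgroup.coe_mul] at h
      exact h.2 (iff_of_false (fun hx => hnotP c hx hc2) (fun hx => hnotP t hx ht))
    have hcomm : Commute (c * t) t := (Subgroup.mem_centralizer_iff.1 htC _ hmem)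
    have hsq : (c * t) ^ 2 = 1 := by
      have h3 : c = (c * t) * t := by rw [mul_assoc, htt, mul_one]
      calc (c * t) ^ 2 = (c * t) ^ 2 * t ^ 2 := by rw [pow_two t, htt, mul_one]
        _ = ((c * t) * t) ^ 2 := (hcomm.mul_pow 2).symm
        _ = c * c := by rw [← h3, pow_two]
        _ = 1 := hcc
    have h1 : c * t = 1 := by
      by_contra hne
      exact hnotP _ hmem (orderOf_eq_prime hsq hne)
    rw [← hti]; exact eq_inv_of_mul_eq_one_left h1
  have conj2 : ∀ (a : G) {u : G}, orderOf u = 2 → orderOf (a * u * a⁻¹) = 2 := fun a u hu => by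
    rw [← hu]; exact (MulEquiv.orderOf_eq (MulAut.conj a) u)
  have hnormC : ∀ g ∈ Subgroup.normalizer (C : Set G), g * t = t * g := by
    intro g hg
    have h := huniq _ ((Subgroup.mem_normalizer_iff.1 hg t).1 htC) (conj2 g ht)
    calc g * t = g * t * g⁻¹ * g := by group
      _ = t * g := by rw [h]
  -- G is not abelian
  have hncomm : Subgroup.center G ≠ ⊤ := by
    intro hcen
    have h1 : C = ⊤ := by
      rw [eq_top_iff]; intro g _
      rw [hCd, Subgroup.mem_centralizer_iff]
      intro y _
      exact ((Subgroup.mem_center_iff.1 (hcen ▸ Subgroup.mem_top g : g ∈ Subgroup.center G)) y)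
    have h2 : Subgroup.centralizer (P : Set G) ≤ N := by
      intro g hg
      rw [hNd, Subgroup.mem_normalizer_iff]
      intro y
      constructor
      · intro hy
        rw [← Subgroup.mem_centralizer_iff.1 hg y hy, mul_inv_cancel_right]; exact hy
      · intro hy
        have := Subgroup.mem_centralizer_iff.1 hg _ hy
        have h4 : g * y * g⁻¹ = y := mul_left_cancel (a := g) (by
          calc g * (g * y * g⁻¹) = g * y * g⁻¹ * g := this.symm
            _ = g * y := by group)
        rwa [h4] at hy
    rw [← hCd, h1, top_le_iff] at h2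
    rw [h1] at hC; rw [h2] at hN; omega
  have hcen : Subgroup.center G = ⊥ :=
    (hs.eq_bot_or_eq_top_of_normal _ inferInstance).resolve_right hncomm
  have hcentr : ∀ {u : G}, orderOf u = 2 → Subgroup.centralizer ({u} : Set G) ≠ ⊤ := by
    intro u hu htop
    have h1 : u ∈ Subgroup.center G := Subgroup.mem_center_iff.2 fun g =>
      (Subgroup.mem_centralizer_singleton_iff.1 (htop ▸ Subgroup.mem_top g :
        g ∈ Subgroup.centralizer ({u} : Set G)))
    rw [hcen, Subgroup.mem_bot] at h1
    exact (orderTwo_inv hu).2.2 h1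
  -- C(t) = N
  have hNt : N = Subgroup.centralizer ({t} : Set G) := by
    have hle : N ≤ Subgroup.centralizer ({t} : Set G) := by
      intro g hg
      rw [Subgroup.mem_centralizer_singleton_iff]
      refine hnormC g ?_
      rw [Subgroup.mem_normalizer_iff]
      intro x
      have hgn := Subgroup.mem_normalizer_iff.1 hg
      show x ∈ C ↔ g * x * g⁻¹ ∈ C
      simp only [hCd, Subgroup.mem_centralizer_iff]
      constructor
      · intro h y hy
        have h' := h _ ((hgn (g⁻¹ * y * g)).2 (by
          rw [show g * (g⁻¹ * y * g) * g⁻¹ = y by group]; exact hy))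
        calc y * (g * x * g⁻¹) = g * (g⁻¹ * y * g * x) * g⁻¹ := by group
          _ = g * (x * (g⁻¹ * y * g)) * g⁻¹ := by rw [h']
          _ = g * x * g⁻¹ * y := by group
      · intro h y hy
        have h' := h _ ((hgn y).1 hy)
        calc y * x = g⁻¹ * (g * y * g⁻¹ * (g * x * g⁻¹)) * g := by group
          _ = g⁻¹ * (g * x * g⁻¹ * (g * y * g⁻¹)) * g := by rw [h']
          _ = x * y := by group
    have hev : 2 ∣ Nat.card (Subgroup.centralizer ({t} : Set G)) := by
      have h := Subgroup.orderOf_dvd_natCard (s := Subgroup.centralizer ({t} : Set G))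
        (Subgroup.mem_centralizer_singleton_iff.2 (rfl : t * t = t * t))
      rwa [ht] at h
    exact Subgroup.eq_of_le_of_card_ge hle
      (hN ▸ Nat.le_of_dvd (by omega) (heven _ (hcentr ht) hev))
  have hTI' : ∀ (a x : G), x ≠ 1 → x ∈ C → a * x * a⁻¹ ∈ C → a * t = t * a := by
    intro a x hx1 hx hax
    refine hnormC a ?_
    by_contra ha
    exact hx1 (hTI a ha x hx hax)
  -- Sylow 2-subgroups have order four
  have hGcard : ¬ IsPGroup 2 G := by
    intro h2
    have h := (IsPGroup.iff_card (p := 2) (G := G)).1 h2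
    obtain ⟨j, hj⟩ := h
    have h3 : Nat.card P ∣ 2 ^ j := hj ▸ Subgroup.card_subgroup_dvd_card _
    rw [hk] at h3
    rcases Nat.eq_zero_or_pos k with h0 | h0
    · -- the Sylow 3-subgroup is trivial, so G equals its normalizer
      have hb : (P : Subgroup G) = ⊥ := Subgroup.eq_bot_of_card_eq _ (by rw [hk, h0, pow_zero])
      have h1 : C = ⊤ := by
        rw [eq_top_iff]; intro g _
        rw [hCd, Subgroup.mem_centralizer_iff]
        intro y hy
        have hy' : y ∈ (P : Subgroup G) := hy
        have : y = 1 := by rwa [hb, Subgroup.mem_bot] at hy'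
        rw [this, one_mul, mul_one]
      have h2' : N = ⊤ := by
        rw [hNd, hb]; exact Subgroup.normalizer_eq_top (H := (⊥ : Subgroup G))
      rw [h1] at hC; rw [h2'] at hN; omega
    · have := (Nat.prime_three.dvd_of_dvd_pow ((dvd_pow_self 3 h0.ne').trans h3))
      omega
  have hfour : ∀ R : Subgroup G, IsPGroup 2 R → Nat.card R ≤ 4 := by
    intro R hR
    obtain ⟨j, hj⟩ := (IsPGroup.iff_card (p := 2) (G := R)).1 hR
    rcases Nat.eq_zero_or_pos j with h0 | h0
    · rw [hj, h0]; norm_num
    have hne : R ≠ ⊤ := by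
      intro h; exact hGcard (hR.of_equiv ((MulEquiv.subgroupCongr h).trans Subgroup.topEquiv))
    have h := heven R hne (hj ▸ dvd_pow_self 2 h0.ne')
    rw [hj] at h ⊢
    have h4 : 2 ^ j ∣ 4 :=
      (Nat.Coprime.pow j 1 (show Nat.Coprime 2 (Nat.card P) from hoddm.coprime_two_left)
        |>.dvd_of_dvd_mul_right (by rw [pow_one]; exact h))
    exact Nat.le_of_dvd (by norm_num) h4
  obtain ⟨S, hS⟩ : ∃ S : Sylow 2 G, t ∈ (S : Subgroup G) := by
    obtain ⟨S, hS⟩ := (IsPGroup.of_card (p := 2) (G := Subgroup.zpowers t) (n := 1)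
      (by rw [Nat.card_zpowers, ht, pow_one])).exists_le_sylow
    exact ⟨S, hS (Subgroup.mem_zpowers t)⟩
  have hS4 : Nat.card (S : Subgroup G) = 4 := by
    refine le_antisymm (hfour _ S.isPGroup') ?_
    have h4 : 4 ∣ Nat.card G := by
      have := Subgroup.card_subgroup_dvd_card N
      rw [hN] at this; exact (dvd_mul_right 4 _).trans this
    have := S.pow_dvd_card_of_pow_dvd_card (n := 2) (by simpa using h4)
    exact Nat.le_of_dvd Nat.card_pos (by simpa using this)
  have hexp : ∀ x : (S : Subgroup G), x ^ 2 = 1 := by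
    by_contra hne
    push_neg at hne
    obtain ⟨x, hx⟩ := hne
    have h4 : orderOf x ∣ 4 := hS4 ▸ _root_.orderOf_dvd_natCard x
    have hox : orderOf x = 4 := by
      have hne2 : ¬ orderOf x ∣ 2 := fun h => hx (orderOf_dvd_iff_pow_eq_one.1 h)
      have := Nat.le_of_dvd (by norm_num) h4
      interval_cases orderOf x <;> omega
    have hcyc : IsCyclic (S : Subgroup G) := isCyclic_of_orderOf_eq_card x (by rw [hox, hS4])
    obtain ⟨K, hK⟩ := Cfsg.Agent.Inv.exists_index_two_of_cyclic_sylow
      (G := G) (even_iff_two_dvd.2 (((dvd_mul_right 2 2).trans (hS4 ▸ Subgroup.card_subgroup_dvd_card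
        (S : Subgroup G) : 4 ∣ Nat.card G)))) S hcyc
    rcases hs.eq_bot_or_eq_top_of_normal K (Subgroup.normal_of_index_eq_two hK) with h | h
    · rw [h, Subgroup.index_bot] at hK
      exact hGcard (IsPGroup.of_card (n := 1) (by simpa using hK))
    · rw [h, Subgroup.index_top] at hK; omega
  have hno4 : ∀ x : G, orderOf x ≠ 4 := by
    intro x hx
    obtain ⟨R, hR⟩ := (IsPGroup.of_card (p := 2) (G := Subgroup.zpowers x) (n := 2)
      (by rw [Nat.card_zpowers, hx]; norm_num)).exists_le_sylow
    obtain ⟨g, hg⟩ := MulAction.exists_smul_eq G S R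
    have hxR : x ∈ (R : Subgroup G) := hR (Subgroup.mem_zpowers x)
    rw [← hg, Sylow.coe_subgroup_smul, Subgroup.mem_pointwise_smul_iff_inv_smul_mem] at hxR
    have hx' : g⁻¹ * x * g ∈ (S : Subgroup G) := by simpa [MulAut.smul_def] using hxR
    have h2 : (g⁻¹ * x * g) ^ 2 = 1 := congrArg Subtype.val (hexp ⟨_, hx'⟩)
    have h3 : orderOf (g⁻¹ * x * g) = 4 := by
      rw [← hx]; simpa using (MulEquiv.orderOf_eq (MulAut.conj g⁻¹) x)
    have := orderOf_dvd_of_pow_eq_one h2
    rw [h3] at this; omega
  -- all involutions are conjugate to t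
  have hconj : ∀ u : G, orderOf u = 2 → ∃ a : G, u = a * t * a⁻¹ := by
    have hSc : ∀ a ∈ (S : Subgroup G), ∀ b ∈ (S : Subgroup G), a * b = b * a := by
      intro a ha b hb
      have h1 : a * a = 1 := by rw [← pow_two]; exact congrArg Subtype.val (hexp ⟨a, ha⟩)
      have h2 : b * b = 1 := by rw [← pow_two]; exact congrArg Subtype.val (hexp ⟨b, hb⟩)
      have h3 : (a * b) * (a * b) = 1 := by
        rw [← pow_two]; exact congrArg Subtype.val (hexp ⟨a * b, (S : Subgroup G).mul_mem ha hb⟩)
      calc a * b = a * (a * b * (a * b)) * b := by rw [h3]; group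
        _ = a * a * (b * a) * (b * b) := by group
        _ = b * a := by rw [h1, h2]; group
    have hevG : 2 ∣ Nat.card G := by
      have h := _root_.orderOf_dvd_natCard t; rwa [ht] at h
    -- the normalizer of S moves its involutions
    obtain ⟨n, hn, hnc⟩ : ∃ n ∈ Subgroup.normalizer ((S : Subgroup G) : Set G),
        n ∉ Subgroup.centralizer ((S : Subgroup G) : Set G) := by
      by_contra hcon
      push_neg at hcon
      have hle : Subgroup.normalizer ((S : Subgroup G) : Set G) ≤
          Subgroup.centralizer ((S : Subgroup G) : Set G) := hcon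
      have hc' := MonoidHom.ker_transferSylow_isComplement' S hle
      rcases hs.eq_bot_or_eq_top_of_normal _ (MonoidHom.normal_ker (MonoidHom.transferSylow S hle)) with h | h
      · rw [h, Subgroup.isComplement'_bot_left] at hc'
        exact hGcard (S.isPGroup'.of_equiv ((MulEquiv.subgroupCongr hc').trans Subgroup.topEquiv))
      · rw [h, Subgroup.isComplement'_top_left] at hc'
        rw [hc', Subgroup.card_bot] at hS4; omega
    have hsq : ∀ m ∈ Subgroup.normalizer ((S : Subgroup G) : Set G),
        m ^ 2 ∈ Subgroup.centralizer ((S : Subgroup G) : Set G) →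
        m ∈ Subgroup.centralizer ((S : Subgroup G) : Set G) := by
      intro m hm hm2
      set Z := Subgroup.centralizer ((S : Subgroup G) : Set G) with hZ
      have hSZ : (S : Subgroup G) ≤ Z := fun a ha =>
        Subgroup.mem_centralizer_iff.2 fun b hb => hSc b hb a ha
      -- m has odd order modulo the centralizer
      obtain ⟨j, o, ho, hjo⟩ : ∃ j o, Odd o ∧ orderOf m = 2 ^ j * o := by
        obtain ⟨j, o, ho, hjo⟩ := Nat.exists_eq_two_pow_mul_odd (n := orderOf m) (orderOf_pos m).ne'
        exact ⟨j, o, ho, hjo⟩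
      obtain ⟨i, hi⟩ := ho
      have h2p : IsPGroup 2 (Subgroup.zpowers (m ^ o)) :=
        IsPGroup.of_card (n := j) (by
          rw [Nat.card_zpowers, orderOf_pow_of_dvd (by omega) ⟨2 ^ j, by rw [hjo]; ring⟩, hjo,
            Nat.mul_div_cancel _ (by omega)])
      have hsup : IsPGroup 2 (Subgroup.zpowers (m ^ o) ⊔ (S : Subgroup G) : Subgroup G) :=
        h2p.to_sup_of_normal_right' S.isPGroup'
          (Subgroup.zpowers_le.2 (Subgroup.pow_mem _ hm o))
      have h1 : m ^ o ∈ Z := by
        refine hSZ ?_
        rw [← S.is_maximal' hsup le_sup_right]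
        exact Subgroup.mem_sup_left (Subgroup.mem_zpowers _)
      rw [hi, pow_succ, pow_mul] at h1
      exact (Subgroup.mul_mem_cancel_left Z (Subgroup.pow_mem Z hm2 i)).1 h1
    have hn2 : n ^ 2 ∉ Subgroup.centralizer ((S : Subgroup G) : Set G) := fun h => hnc (hsq n hn h)
    have hmv : ∀ a ∈ (S : Subgroup G), n * a * n⁻¹ ∈ (S : Subgroup G) := fun a ha =>
      (Subgroup.mem_normalizer_iff.1 hn a).1 ha
    set a := n * t * n⁻¹ with had
    set b := n * a * n⁻¹ with hbd
    have haS : a ∈ (S : Subgroup G) := hmv t hS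
    have hbS : b ∈ (S : Subgroup G) := hmv a haS
    have ha2 : orderOf a = 2 := conj2 n ht
    have hb2 : orderOf b = 2 := conj2 n ha2
    -- four elements exhaust S
    have hS' : ∀ c e : G, c ∈ (S : Subgroup G) → e ∈ (S : Subgroup G) → orderOf c = 2 →
        orderOf e = 2 → c ≠ e → ∀ z ∈ (S : Subgroup G), z = 1 ∨ z = c ∨ z = e ∨ z = c * e := by
      intro c e hcS heS hc he hce z hz
      obtain ⟨-, hci, hc1⟩ := orderTwo_inv hc
      obtain ⟨-, hei, he1⟩ := orderTwo_inv he
      by_contra hzz
      push_neg at hzz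
      obtain ⟨z1, z2, z3, z4⟩ := hzz
      have hsub : (↑({1, c, e, c * e, z} : Finset G) : Set G) ⊆ (S : Subgroup G) := by
        intro x hx
        simp only [Finset.coe_insert, Finset.coe_singleton, Set.mem_insert_iff,
          Set.mem_singleton_iff] at hx
        rcases hx with rfl | rfl | rfl | rfl | rfl
        exacts [(S : Subgroup G).one_mem, hcS, heS, (S : Subgroup G).mul_mem hcS heS, hz]
      have h5 : ({1, c, e, c * e, z} : Finset G).card = 5 := by
        have huv1 : c * e ≠ 1 := fun h => hce (by rw [← hci]; exact inv_eq_of_mul_eq_one_right h)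
        have a1 : c ≠ c * e := fun h => he1 (mul_eq_left.1 h.symm)
        have a2 : e ≠ c * e := fun h => hc1 (mul_eq_right.1 h.symm)
        simp [Finset.card_insert_of_notMem, hc1.symm, he1.symm, huv1.symm, z1.symm, hce,
          a1, a2, z2.symm, z3.symm, z4.symm]
      have h6 := Set.ncard_le_ncard hsub
      rw [Set.ncard_coe_finset, h5, ← Nat.card_coe_set_eq] at h6
      exact absurd (h6.trans hS4.le) (by norm_num)
    have hfix : ∀ c e : G, c ∈ (S : Subgroup G) → e ∈ (S : Subgroup G) → orderOf c = 2 →
        orderOf e = 2 → c ≠ e → n ^ 2 * c = c * n ^ 2 → n ^ 2 * e = e * n ^ 2 → False := by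
      intro c e hcS heS hc he hce h1 h2
      refine hn2 (Subgroup.mem_centralizer_iff.2 fun z hz => ?_)
      rcases hS' c e hcS heS hc he hce z hz with rfl | rfl | rfl | rfl
      · rw [one_mul, mul_one]
      · exact h1.symm
      · exact h2.symm
      · exact ((show Commute (n ^ 2) c from h1).mul_right h2).eq.symm
    have hta : t ≠ a := by
      intro h
      -- n fixes t, so its square fixes all of S
      have hnt : n * t = t * n := by
        calc n * t = n * t * n⁻¹ * n := by group
          _ = t * n := by rw [← had, ← h]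
      obtain ⟨e, heS, he1, het⟩ : ∃ e ∈ (S : Subgroup G), e ≠ 1 ∧ e ≠ t := by
        by_contra hcon
        push_neg at hcon
        have hsub : ((S : Subgroup G) : Set G) ⊆ ↑({1, t} : Finset G) := by
          intro x hx
          by_cases h1 : x = 1
          · simp [h1]
          · simp [hcon x hx h1]
        have h6 := Set.ncard_le_ncard hsub
        rw [Set.ncard_coe_finset, ← Nat.card_coe_set_eq] at h6
        exact absurd (hS4 ▸ h6.trans (Finset.card_le_two)) (by norm_num)
      have he : orderOf e = 2 := orderOf_eq_prime (congrArg Subtype.val (hexp ⟨e, heS⟩)) he1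
      refine hfix t e hS heS ht he het.symm ((show Commute n t from hnt).pow_left 2).eq ?_
      have he' := conj2 n he
      rcases hS' t e hS heS ht he het.symm _ (hmv e heS) with h' | h' | h' | h'
      · exact absurd h' (orderTwo_inv he').2.2
      · refine absurd ?_ het
        calc e = n⁻¹ * (n * e * n⁻¹) * n := by group
          _ = n⁻¹ * (t * n) := by rw [h']; group
          _ = t := by rw [← hnt]; group
      · have hne : Commute n e := by
          show n * e = e * n
          calc n * e = n * e * n⁻¹ * n := by group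
            _ = e * n := by rw [h']
        exact (hne.pow_left 2).eq
      · have hq : n * (t * e) * n⁻¹ = e := by
          calc n * (t * e) * n⁻¹ = n * t * n⁻¹ * (n * e * n⁻¹) := by group
            _ = t * (t * e) := by rw [← had, ← h, h']
            _ = e := by rw [← mul_assoc, (orderTwo_inv ht).1, one_mul]
        calc n ^ 2 * e = n * (n * e * n⁻¹) * n⁻¹ * n ^ 2 := by rw [pow_two]; group
          _ = n * (t * e) * n⁻¹ * n ^ 2 := by rw [h']
          _ = e * n ^ 2 := by rw [hq]
    have hab' : a ≠ b := by
      intro h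
      apply hta
      calc t = n⁻¹ * a * n := by rw [had]; group
        _ = n⁻¹ * b * n := by rw [← h]
        _ = a := by rw [hbd]; group
    have htb : b ≠ t := by
      intro h
      have h1 : n ^ 2 * t = t * n ^ 2 := by
        calc n ^ 2 * t = b * n ^ 2 := by rw [hbd, had, pow_two]; group
          _ = t * n ^ 2 := by rw [h]
      have h2 : n ^ 2 * a = a * n ^ 2 := by
        calc n ^ 2 * a = n * (n ^ 2 * t) * n⁻¹ := by rw [had]; group
          _ = n * (t * n ^ 2) * n⁻¹ := by rw [h1]
          _ = a * n ^ 2 := by rw [had]; group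
      exact hfix t a hS haS ht ha2 hta h1 h2
    intro u hu
    obtain ⟨R, hR⟩ := (IsPGroup.of_card (p := 2) (G := Subgroup.zpowers u) (n := 1)
      (by rw [Nat.card_zpowers, hu, pow_one])).exists_le_sylow
    obtain ⟨g, hg⟩ := MulAction.exists_smul_eq G S R
    have huR : u ∈ (R : Subgroup G) := hR (Subgroup.mem_zpowers u)
    rw [← hg, Sylow.coe_subgroup_smul, Subgroup.mem_pointwise_smul_iff_inv_smul_mem] at huR
    have hu' : g⁻¹ * u * g ∈ (S : Subgroup G) := by simpa [MulAut.smul_def] using huR
    have huo : orderOf (g⁻¹ * u * g) = 2 := by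
      rw [← hu]; simpa using (MulEquiv.orderOf_eq (MulAut.conj g⁻¹) u)
    rcases hS' t a hS haS ht ha2 hta _ hu' with h | h | h | h
    · exact absurd h (orderTwo_inv huo).2.2
    · exact ⟨g, by rw [← h]; group⟩
    · exact ⟨g * n, by rw [show g * n * t * (g * n)⁻¹ = g * a * g⁻¹ by rw [had]; group, ← h]; group⟩
    · rcases hS' t a hS haS ht ha2 hta b hbS with h' | h' | h' | h'
      · exact absurd h' (orderTwo_inv hb2).2.2
      · exact absurd h' htb
      · exact absurd h'.symm hab'
      · exact ⟨g * n * n, by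
          rw [show g * n * n * t * (g * n * n)⁻¹ = g * b * g⁻¹ by rw [hbd, had]; group, h', ← h]
          group⟩
  -- common neighbours in the commuting graph
  let Γ : SimpleGraph {u : G // orderOf u = 2} :=
    { Adj := fun u v => u ≠ v ∧ (u : G) * v = v * u
      symm := ⟨fun u v h => ⟨h.1.symm, h.2.symm⟩⟩
      loopless := ⟨fun u h => h.1 rfl⟩ }
  have hfr : Cfsg.Agent.Struct.FriendshipGraph.Friendship Γ := by
    intro u v huv
    refine ((@Nat.card_eq_fintype_card _ (_)).symm).trans (Nat.card_eq_one_iff_exists.2 ?_)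
    obtain ⟨u, hu⟩ := u
    obtain ⟨v, hv⟩ := v
    have huv' : u ≠ v := fun h => huv (Subtype.ext h)
    obtain ⟨huu, hui, hu1⟩ := orderTwo_inv hu
    obtain ⟨hvv, hvi, hv1⟩ := orderTwo_inv hv
    by_cases hc : u * v = v * u
    · have hw : orderOf (u * v) = 2 := by
        refine orderOf_eq_prime ?_ ?_
        · rw [(show Commute u v from hc).mul_pow, pow_two, pow_two, huu, hvv, mul_one]
        · intro h; exact huv' (by rw [← hui]; exact (inv_eq_of_mul_eq_one_right h))
      refine ⟨⟨⟨u * v, hw⟩, ?_, ?_⟩, ?_⟩
      · exact ⟨fun h => hv1 (mul_eq_left.1 (congrArg Subtype.val h).symm),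
          by rw [mul_assoc u v u, ← hc]⟩
      · exact ⟨fun h => hu1 (mul_eq_right.1 (congrArg Subtype.val h).symm),
          by rw [← mul_assoc, ← hc]⟩
      · rintro ⟨⟨w, hw2⟩, ⟨hwu, hwu'⟩, ⟨hwv, hwv'⟩⟩
        obtain ⟨hww, hwi, hw1⟩ := orderTwo_inv hw2
        have hne1 : w ≠ u := fun h => hwu (Subtype.ext h.symm)
        have hne2 : w ≠ v := fun h => hwv (Subtype.ext h.symm)
        refine Subtype.ext (Subtype.ext ?_)
        show w = u * v
        by_contra hne3
        have hz : ∀ {a : G}, orderOf a = 2 → IsPGroup 2 (Subgroup.zpowers a) := fun {a} ha =>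
          IsPGroup.of_card (n := 1) (by rw [Nat.card_zpowers, ha, pow_one])
        have hn1 : Subgroup.zpowers u ≤ Subgroup.normalizer ((Subgroup.zpowers v : Subgroup G) : Set G) := by
          rw [Subgroup.zpowers_le]
          refine Subgroup.centralizer_le_normalizer _ ?_
          rw [Subgroup.mem_centralizer_iff]
          intro y hy
          obtain ⟨i, rfl⟩ := Subgroup.mem_zpowers_iff.1 hy
          exact ((show Commute v u from hc.symm).zpow_left i).eq
        have h2 : IsPGroup 2 (Subgroup.zpowers u ⊔ Subgroup.zpowers v : Subgroup G) :=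
          (hz hu).to_sup_of_normal_right' (hz hv) hn1
        have hn2 : Subgroup.zpowers w ≤ Subgroup.normalizer
            ((Subgroup.zpowers u ⊔ Subgroup.zpowers v : Subgroup G) : Set G) := by
          rw [Subgroup.zpowers_le]
          refine Subgroup.centralizer_le_normalizer _ ?_
          have hle : (Subgroup.zpowers u ⊔ Subgroup.zpowers v : Subgroup G) ≤
              Subgroup.centralizer ({w} : Set G) :=
            sup_le (Subgroup.zpowers_le.2 (Subgroup.mem_centralizer_singleton_iff.2 hwu'))
              (Subgroup.zpowers_le.2 (Subgroup.mem_centralizer_singleton_iff.2 hwv'))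
          rw [Subgroup.mem_centralizer_iff]
          intro y hy
          exact Subgroup.mem_centralizer_singleton_iff.1 (hle hy)
        set K : Subgroup G := Subgroup.zpowers w ⊔ (Subgroup.zpowers u ⊔ Subgroup.zpowers v)
        have h3 : Nat.card K ≤ 4 := hfour _ ((hz hw2).to_sup_of_normal_right' h2 hn2)
        have hmu : u ∈ K := Subgroup.mem_sup_right (Subgroup.mem_sup_left (Subgroup.mem_zpowers u))
        have hmv : v ∈ K := Subgroup.mem_sup_right (Subgroup.mem_sup_right (Subgroup.mem_zpowers v))
        have hmw : w ∈ K := Subgroup.mem_sup_left (Subgroup.mem_zpowers w)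
        have hsub : (↑({1, u, v, u * v, w} : Finset G) : Set G) ⊆ K := by
          intro x hx
          simp only [Finset.coe_insert, Finset.coe_singleton, Set.mem_insert_iff,
            Set.mem_singleton_iff] at hx
          rcases hx with rfl | rfl | rfl | rfl | rfl
          exacts [K.one_mem, hmu, hmv, K.mul_mem hmu hmv, hmw]
        have h5 : ({1, u, v, u * v, w} : Finset G).card = 5 := by
          have huv1 : u * v ≠ 1 := (orderTwo_inv hw).2.2
          have a1 : u ≠ u * v := fun h => hv1 (mul_eq_left.1 h.symm)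
          have a2 : v ≠ u * v := fun h => hu1 (mul_eq_right.1 h.symm)
          simp [Finset.card_insert_of_notMem, hu1.symm, hv1.symm, huv1.symm, hw1.symm, huv',
            a1, a2, hne1.symm, hne2.symm, Ne.symm hne3]
        have h6 := Set.ncard_le_ncard hsub
        rw [Set.ncard_coe_finset, h5, ← Nat.card_coe_set_eq] at h6
        exact absurd (h6.trans h3) (by norm_num)
    · set x := u * v with hxd
      have huxu : u * x * u⁻¹ = x⁻¹ := by
        rw [hxd, mul_inv_rev, hui, hvi, ← mul_assoc, huu, one_mul]
      have hvxv : v * x * v⁻¹ = x⁻¹ := by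
        rw [hxd, mul_inv_rev, hui, hvi, mul_assoc, mul_assoc, hvv, mul_one]
      have hx1 : x ≠ 1 := by
        intro h; exact huv' (by rw [← hui]; exact inv_eq_of_mul_eq_one_right (hxd ▸ h))
      have hx2 : orderOf x ≠ 2 := by
        intro h
        obtain ⟨-, h2, -⟩ := orderTwo_inv h
        apply hc
        have : (u * v)⁻¹ = u * v := h2
        rw [mul_inv_rev, hui, hvi] at this
        exact this.symm
      have hun : u ∈ Subgroup.normalizer ((Subgroup.zpowers x : Subgroup G) : Set G) := by
        rw [Subgroup.mem_normalizer_iff_map_conj_eq, MonoidHom.map_zpowers]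
        show Subgroup.zpowers (u * x * u⁻¹) = _
        rw [huxu, Subgroup.zpowers_inv]
      have hne : Subgroup.normalizer ((Subgroup.zpowers x : Subgroup G) : Set G) ≠ ⊤ := by
        intro htop
        have hn : (Subgroup.zpowers x).Normal := Subgroup.normalizer_eq_top_iff.1 htop
        rcases hs.eq_bot_or_eq_top_of_normal _ hn with h | h
        · exact hx1 (Subgroup.zpowers_eq_bot.1 h)
        · refine hncomm (eq_top_iff.2 fun g _ => Subgroup.mem_center_iff.2 fun g' => ?_)
          obtain ⟨i, rfl⟩ := Subgroup.mem_zpowers_iff.1 (h ▸ Subgroup.mem_top g : g ∈ Subgroup.zpowers x)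
          obtain ⟨j, rfl⟩ := Subgroup.mem_zpowers_iff.1 (h ▸ Subgroup.mem_top g' : g' ∈ Subgroup.zpowers x)
          exact ((Commute.refl x).zpow_zpow j i).eq
      have hdvd : orderOf x ∣ 4 * Nat.card P := by
        refine (Subgroup.orderOf_dvd_natCard (s := Subgroup.normalizer
          ((Subgroup.zpowers x : Subgroup G) : Set G))
          (Subgroup.le_normalizer (Subgroup.mem_zpowers x))).trans (heven _ hne ?_)
        · have h := Subgroup.orderOf_dvd_natCard _ hun; rwa [hu] at h
      have h3 : 3 ∣ orderOf x := by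
        by_contra h3
        have hco : Nat.Coprime (orderOf x) (Nat.card P) := by
          rw [hk]; exact Nat.Coprime.pow_right k ((Nat.Prime.coprime_iff_not_dvd Nat.prime_three).2 h3).symm
        have h4 := hco.dvd_of_dvd_mul_right hdvd
        have := Nat.le_of_dvd (by norm_num) h4
        have hne1 : orderOf x ≠ 1 := fun h => hx1 (orderOf_eq_one_iff.1 h)
        have hne4 := hno4 x
        interval_cases orderOf x <;> omega
      set y := x ^ (orderOf x / 3) with hyd
      have hy3 : orderOf y = 3 := orderOf_pow_orderOf_div (orderOf_pos x).ne' h3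
      have hy1 : y ≠ 1 := fun h => by simp [h] at hy3
      obtain ⟨R, hR⟩ := (IsPGroup.of_card (p := 3) (G := Subgroup.zpowers y) (n := 1)
        (by rw [Nat.card_zpowers, hy3, pow_one])).exists_le_sylow
      obtain ⟨g, hg⟩ := MulAction.exists_smul_eq G P R
      have hy' : g⁻¹ * y * g ∈ (P : Subgroup G) := by
        have h := hR (Subgroup.mem_zpowers y)
        rw [← hg, Sylow.coe_subgroup_smul, Subgroup.mem_pointwise_smul_iff_inv_smul_mem] at h
        simpa [MulAut.smul_def] using h
      have hy'1 : g⁻¹ * y * g ≠ 1 := fun h => hy1 (by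
        calc y = g * (g⁻¹ * y * g) * g⁻¹ := by group
          _ = 1 := by rw [h]; group)
      have key : ∀ a : G, a * x * a⁻¹ = x⁻¹ → a * (g * t * g⁻¹) = g * t * g⁻¹ * a := by
        intro a ha
        have hay : a * y * a⁻¹ = y⁻¹ := by rw [hyd, ← conj_pow, ha, inv_pow]
        have h := hTI' (g⁻¹ * a * g) _ hy'1 (hPC hy') ?_
        · calc a * (g * t * g⁻¹) = g * (g⁻¹ * a * g * t) * g⁻¹ := by group
            _ = g * (t * (g⁻¹ * a * g)) * g⁻¹ := by rw [h]
            _ = g * t * g⁻¹ * a := by group
        · have h' : g⁻¹ * a * g * (g⁻¹ * y * g) * (g⁻¹ * a * g)⁻¹ = (g⁻¹ * y * g)⁻¹ := by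
            calc _ = g⁻¹ * (a * y * a⁻¹) * g := by group
              _ = _ := by rw [hay]; group
          rw [h']; exact C.inv_mem (hPC hy')
      refine ⟨⟨⟨g * t * g⁻¹, conj2 g ht⟩, ⟨fun h => ?_, key u huxu⟩, ⟨fun h => ?_, key v hvxv⟩⟩, ?_⟩
      · have h' := key v hvxv
        have e : u = g * t * g⁻¹ := congrArg Subtype.val h
        rw [← e] at h'
        exact hc h'.symm
      · have h' := key u huxu
        have e : v = g * t * g⁻¹ := congrArg Subtype.val h
        rw [← e] at h'
        exact hc h'
      · rintro ⟨⟨w, hw2⟩, ⟨-, hwu'⟩, ⟨-, hwv'⟩⟩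
        refine Subtype.ext (Subtype.ext ?_)
        show w = g * t * g⁻¹
        obtain ⟨h, rfl⟩ := hconj w hw2
        have hwy : Commute (h * t * h⁻¹) y :=
          (Commute.mul_right (Commute.symm hwu') (Commute.symm hwv')).pow_right _
        have hyN : h⁻¹ * y * h ∈ N := by
          rw [hNt, Subgroup.mem_centralizer_singleton_iff]
          calc h⁻¹ * y * h * t = h⁻¹ * (y * (h * t * h⁻¹)) * h := by group
            _ = h⁻¹ * (h * t * h⁻¹ * y) * h := by rw [hwy.eq]
            _ = t * (h⁻¹ * y * h) := by group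
        have hyP : h⁻¹ * y * h ∈ (P : Subgroup G) := by
          have ho : orderOf (h⁻¹ * y * h) = 3 := by
            rw [← hy3]; simpa using (MulEquiv.orderOf_eq (MulAut.conj h⁻¹) y)
          have hsup : IsPGroup 3 (Subgroup.zpowers (h⁻¹ * y * h) ⊔ (P : Subgroup G) : Subgroup G) :=
            (IsPGroup.of_card (n := 1) (by rw [Nat.card_zpowers, ho, pow_one])).to_sup_of_normal_right'
              P.isPGroup' (Subgroup.zpowers_le.2 hyN)
          have := P.is_maximal' hsup le_sup_right
          rw [← this]; exact Subgroup.mem_sup_left (Subgroup.mem_zpowers _)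
        have h7 := hTI' (g⁻¹ * h) (h⁻¹ * y * h) (fun e => hy1 (by
          calc y = h * (h⁻¹ * y * h) * h⁻¹ := by group
            _ = 1 := by rw [e]; group)) (hPC hyP)
          (by simpa [mul_assoc] using hPC hy')
        calc h * t * h⁻¹ = g * (g⁻¹ * h * t) * h⁻¹ := by group
          _ = g * (t * (g⁻¹ * h)) * h⁻¹ := by rw [h7]
          _ = g * t * g⁻¹ := by group
  have : Nonempty {u : G // orderOf u = 2} := ⟨⟨t, ht⟩⟩
  obtain ⟨⟨z, hz⟩, hpol⟩ := Cfsg.Agent.Struct.FriendshipGraph.friendship_theorem hfr
  let I : Subgroup G := Subgroup.closure {u | orderOf u = 2}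
  have hIn : I.Normal := by
    refine ⟨fun x hx a => ?_⟩
    have hle : I ≤ I.comap (MulAut.conj a).toMonoidHom :=
      (Subgroup.closure_le _).2 fun u hu => Subgroup.subset_closure (conj2 a hu)
    exact hle hx
  have hI : I = ⊤ := by
    refine (hs.eq_bot_or_eq_top_of_normal I hIn).resolve_left fun h => ?_
    have := Subgroup.subset_closure (k := {u : G | orderOf u = 2}) ht
    rw [show Subgroup.closure {u : G | orderOf u = 2} = ⊥ from h] at this
    exact (orderTwo_inv ht).2.2 (Subgroup.mem_bot.1 this)
  refine hcentr hz (top_le_iff.1 (hI ▸ (Subgroup.closure_le _).2 fun u hu => ?_))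
  rw [SetLike.mem_coe, Subgroup.mem_centralizer_singleton_iff]
  by_cases huz : z = u
  · rw [huz]
  · exact ((hpol ⟨u, hu⟩ (fun h => huz (congrArg Subtype.val h))).2).symm

end Cfsg.Agent.S4018
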