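import Cfsg.Statements.S4022
import Cfsg.Agent.Lib.Solv.Hall
import Cfsg.Agent.Lib.Solv.Basic
import Mathlib

set_option autoImplicit false
open Cfsg

namespace Cfsg.Agent.S4022

open Subgroup Cfsg.Agent.Solv
open scoped Pointwise

universe u

variable {G : Type u} [Group G] [Finite G]

theorem map_eq_smul (g : G) (H : Subgroup G) : H.map (MulAut.conj g).toMonoidHom = MulAut.conj g • H := by
  ext x
  rw [mem_conj_smul]
  constructor
  · rintro ⟨y, hy, rfl⟩
    simpa [mul_assoc] using hy
  · intro hx
    exact ⟨g⁻¹ * x * g, hx, by simp [mul_assoc]⟩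

theorem sylow_cyclic_quotient {p : ℕ} [Fact p.Prime] (V : Subgroup G) [V.Normal]
    (hcyc : ∀ P : Sylow p G, IsCyclic P) (P : Sylow p (G ⧸ V)) : IsCyclic P := by
  obtain ⟨Q, rfl⟩ := Sylow.mapSurjective_surjective (QuotientGroup.mk'_surjective V) p P
  haveI := hcyc Q
  refine isCyclic_of_surjective ((QuotientGroup.mk' V).subgroupMap (Q : Subgroup G)) ?_
  exact (QuotientGroup.mk' V).subgroupMap_surjective _

theorem smul_of_quotient (V : Subgroup G) [V.Normal] {H K : Subgroup G} (g : G)
    (h : MulAut.conj (QuotientGroup.mk' V g) • H.map (QuotientGroup.mk' V) = K.map (QuotientGroup.mk' V)) :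
    (MulAut.conj g • H) ⊔ V = K ⊔ V := by
  rw [← map_conj_smul] at h
  have := congrArg (Subgroup.comap (QuotientGroup.mk' V)) h
  rwa [comap_map_eq, comap_map_eq, QuotientGroup.ker_mk'] at this

theorem le_of_map_eq (V : Subgroup G) [V.Normal] {H K : Subgroup G} (hH : V ≤ H) (hK : V ≤ K) (g : G)
    (h : MulAut.conj (QuotientGroup.mk' V g) • H.map (QuotientGroup.mk' V) = K.map (QuotientGroup.mk' V)) :
    MulAut.conj g • H = K := by
  have h' := smul_of_quotient V g h
  have hV : V ≤ MulAut.conj g • H := fun v hv => by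
    rw [mem_conj_smul]
    exact hH (by simpa using (inferInstance : V.Normal).conj_mem v hv g⁻¹)
  rwa [sup_eq_left.2 hV, sup_eq_left.2 hK] at h'

/-- Complements of the same order of a normal subgroup of coprime order are conjugate. -/
theorem conj_of_sup_eq [Group.IsSolvable G] (V : Subgroup G) [V.Normal] {H K : Subgroup G} {m : ℕ}
    (hH : Nat.card H = m) (hK : Nat.card K = m) (hm : (Nat.card V).Coprime m) (h : H ⊔ V = K ⊔ V) :
    ∃ g : G, MulAut.conj g • H = K := by
  set X : Subgroup G := K ⊔ V
  have hHX : H ≤ X := le_sup_left.trans h.le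
  have hKX : K ≤ X := le_sup_left
  have hd : V ⊓ K = ⊥ := inf_eq_bot_of_coprime (by rwa [hK])
  have hX : Nat.card X = m * Nat.card V := by
    have h1 := card_sup_mul_card_inf V K (by rw [normalizer_eq_top]; exact le_top)
    rw [hd, card_bot, mul_one, hK, sup_comm, mul_comm] at h1
    exact h1
  obtain ⟨x, hx⟩ := hall_conj (G := X) hX hm.symm (H.subgroupOf X) (K.subgroupOf X)
    (by rw [← hH]; exact Nat.card_congr (subgroupOfEquivOfLe hHX).toEquiv)
    (by rw [← hK]; exact Nat.card_congr (subgroupOfEquivOfLe hKX).toEquiv)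
  refine ⟨x, ?_⟩
  have h2 := congrArg (Subgroup.map X.subtype) hx
  rwa [map_conj_smul, subgroupOf_map_subtype, subgroupOf_map_subtype, inf_eq_left.2 hHX, inf_eq_left.2 hKX] at h2

theorem eq_of_card_eq_of_cyclic {M : Type*} [Group M] [Finite M] [IsCyclic M] {K K' : Subgroup M}
    (h : Nat.card K = Nat.card K') : K = K' := by
  classical
  haveI := Fintype.ofFinite M
  have key : ∀ J : Subgroup M, Nat.card J = Nat.card K →
      (Finset.univ.filter fun a : M => a ∈ J) =
        Finset.univ.filter fun a : M => a ^ Nat.card K = 1 := by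
    intro J hJ
    refine Finset.eq_of_subset_of_card_le (fun a ha => ?_) ?_
    · simp only [Finset.mem_filter, Finset.mem_univ, true_and] at ha ⊢
      rw [← hJ]
      exact orderOf_dvd_iff_pow_eq_one.mp (J.orderOf_dvd_natCard ha)
    · refine (IsCyclic.card_pow_eq_one_le Nat.card_pos).trans ?_
      rw [← Fintype.card_subtype, ← Nat.card_eq_fintype_card]
      exact hJ.ge
  ext a
  have := Finset.ext_iff.mp ((key K rfl).trans (key K' h.symm).symm) a
  simpa using this

theorem card_map_mul_card_inf_ker {G' : Type*} [Group G'] (f : G →* G') (L : Subgroup G) :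
    Nat.card (L.map f) * Nat.card (L ⊓ f.ker : Subgroup G) = Nat.card L := by
  have h := (f.comp L.subtype).ker.card_mul_index
  rw [Subgroup.index_ker, MonoidHom.range_comp, Subgroup.range_subtype] at h
  have e : Nat.card (f.comp L.subtype).ker = Nat.card (L ⊓ f.ker : Subgroup G) := by
    rw [Nat.card_congr ((f.comp L.subtype).ker.equivMapOfInjective _ L.subtype_injective).toEquiv]
    congr 1
    rw [show (f.comp L.subtype).ker = f.ker.subgroupOf L from rfl, subgroupOf_map_subtype, inf_comm]
  rw [e, mul_comm] at h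
  exact h

/-- A normal `q`-subgroup lies in every subgroup whose order it divides, when the subgroups of that order
are conjugate. -/
theorem le_of_dvd_card {q j : ℕ} [Fact q.Prime] (V : Subgroup G) [V.Normal] (hV : Nat.card V = q ^ j)
    (hconj : ∀ A B : Subgroup G, Nat.card A = q ^ j → Nat.card B = q ^ j → ∃ g : G, MulAut.conj g • A = B)
    (H : Subgroup G) (hd : q ^ j ∣ Nat.card H) : V ≤ H := by
  obtain ⟨A, hA⟩ := Sylow.exists_subgroup_card_pow_prime (G := H) q hd
  have hA' : Nat.card (A.map H.subtype) = q ^ j := by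
    rw [← Nat.card_congr (A.equivMapOfInjective _ H.subtype_injective).toEquiv, hA]
  obtain ⟨g, hg⟩ := hconj V (A.map H.subtype) hV hA'
  rw [Subgroup.Normal.conj_smul_eq_self g V] at hg
  rw [hg]
  exact map_subtype_le A

/-- Cyclic Sylow subgroups make subgroups of equal order conjugate in a solvable group. -/
theorem conj_of_cyclic : ∀ (N : ℕ) (G : Type u) [Group G] [Finite G] [Group.IsSolvable G], Nat.card G ≤ N →
    ∀ m : ℕ, (∀ p : ℕ, p.Prime → p ∣ m → ∀ P : Sylow p G, IsCyclic P) →
      ∀ H K : Subgroup G, Nat.card H = m → Nat.card K = m → ∃ g : G, MulAut.conj g • H = K := by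
  intro N
  induction N with
  | zero => intro G _ _ _ h; exact absurd h (not_le.2 Nat.card_pos)
  | succ N ih =>
    intro G _ _ _ hcard m hcyc H K hH hK
    by_cases htriv : (⊤ : Subgroup G) = ⊥
    · refine ⟨1, ?_⟩
      have : ∀ L : Subgroup G, L = ⊥ := fun L => le_bot_iff.1 (htriv ▸ le_top)
      rw [this H, this K]
      exact this _
    obtain ⟨V, hVn, -, hVb, hVmin⟩ := exists_minimal_normal_le (N := (⊤ : Subgroup G)) htriv
    haveI := hVn
    obtain ⟨-, q, hq, hVq⟩ := minimal_normal_elementary V hVb hVmin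
    haveI := Fact.mk hq
    have hquot : Nat.card (G ⧸ V) ≤ N := by
      have h1 := V.card_mul_index
      have h2 : 1 < Nat.card V := V.one_lt_card_iff_ne_bot.2 hVb
      have h3 : 0 < V.index := Nat.pos_of_ne_zero Subgroup.index_ne_zero_of_finite
      rw [← Subgroup.index_eq_card]
      nlinarith
    have hd : ∀ L : Subgroup G, Nat.card (L.map (QuotientGroup.mk' V)) ∣ Nat.card L := fun L =>
      Subgroup.card_map_dvd L (QuotientGroup.mk' V)
    by_cases hqm : q ∣ m
    · have hqV : Nat.card V = q ^ 1 := by
        have hVp : IsPGroup q V := fun v => ⟨1, Subtype.ext (by rw [pow_one]; exact hVq v v.2)⟩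
        obtain ⟨P, hP⟩ := hVp.exists_le_sylow
        haveI := hcyc q hq hqm P
        haveI : IsCyclic V := isCyclic_of_injective (Subgroup.inclusion hP) (Subgroup.inclusion_injective hP)
        obtain ⟨v, hv⟩ := IsCyclic.exists_generator (α := V)
        rw [← orderOf_eq_card_of_forall_mem_zpowers hv, pow_one]
        refine ((Nat.dvd_prime hq).1 (orderOf_dvd_of_pow_eq_one (Subtype.ext (hVq v v.2)))).resolve_left fun h => hVb ?_
        rw [← Subgroup.card_eq_one, ← orderOf_eq_card_of_forall_mem_zpowers hv, h]
      have hconj : ∀ A B : Subgroup G, Nat.card A = q ^ 1 → Nat.card B = q ^ 1 → ∃ g : G, MulAut.conj g • A = B := by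
        intro A B hA hB
        obtain ⟨P, hP⟩ := (IsPGroup.of_card hA).exists_le_sylow
        obtain ⟨Q, hQ⟩ := (IsPGroup.of_card hB).exists_le_sylow
        obtain ⟨g, hg⟩ := MulAction.exists_smul_eq G P Q
        haveI := hcyc q hq hqm Q
        refine ⟨g, ?_⟩
        have hA' : MulAut.conj g • A ≤ (Q : Subgroup G) := by
          rw [← hg, Sylow.coe_subgroup_smul]
          exact Subgroup.pointwise_smul_le_pointwise_smul_iff.2 hP
        have e : (MulAut.conj g • A).subgroupOf (Q : Subgroup G) = B.subgroupOf (Q : Subgroup G) :=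
          eq_of_card_eq_of_cyclic (by
            rw [Nat.card_congr (subgroupOfEquivOfLe hA').toEquiv, Nat.card_congr (subgroupOfEquivOfLe hQ).toEquiv,
              card_conj_smul, hA, hB])
        have e' := congrArg (Subgroup.map (Q : Subgroup G).subtype) e
        rwa [subgroupOf_map_subtype, subgroupOf_map_subtype, inf_eq_left.2 hA', inf_eq_left.2 hQ] at e'
      have hVH := le_of_dvd_card V hqV hconj H (by rw [pow_one, hH]; exact hqm)
      have hVK := le_of_dvd_card V hqV hconj K (by rw [pow_one, hK]; exact hqm)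
      obtain ⟨g, hg⟩ := ih (G ⧸ V) hquot (Nat.card (H.map (QuotientGroup.mk' V)))
        (fun p hp hpd => haveI := Fact.mk hp; sylow_cyclic_quotient V (hcyc p hp (hH ▸ hpd.trans (hd H))))
        (H.map (QuotientGroup.mk' V)) (K.map (QuotientGroup.mk' V)) rfl (by
          refine Nat.eq_of_mul_eq_mul_right (Nat.card_pos (α := V)) ?_
          have e1 := card_map_mul_card_inf_ker (QuotientGroup.mk' V) H
          have e2 := card_map_mul_card_inf_ker (QuotientGroup.mk' V) K
          rw [QuotientGroup.ker_mk', inf_eq_right.2 hVH] at e1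
          rw [QuotientGroup.ker_mk', inf_eq_right.2 hVK] at e2
          rw [e1, e2, hH, hK])
      obtain ⟨g, rfl⟩ := QuotientGroup.mk'_surjective V g
      exact ⟨g, le_of_map_eq V hVH hVK g hg⟩
    · have hcop : (Nat.card V).Coprime m := by
        have hVp : IsPGroup q V := fun v => ⟨1, Subtype.ext (by rw [pow_one]; exact hVq v v.2)⟩
        obtain ⟨j, hj⟩ := IsPGroup.iff_card.1 hVp
        rw [hj]
        exact ((hq.coprime_iff_not_dvd).2 hqm).pow_left j
      have hm' : ∀ L : Subgroup G, Nat.card L = m → Nat.card (L.map (QuotientGroup.mk' V)) = m := by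
        intro L hL
        have e := card_map_mul_card_inf_ker (QuotientGroup.mk' V) L
        rw [QuotientGroup.ker_mk', inf_eq_bot_of_coprime (by rw [hL]; exact hcop.symm), card_bot, mul_one, hL] at e
        exact e
      obtain ⟨g, hg⟩ := ih (G ⧸ V) hquot m (fun p hp hpd => haveI := Fact.mk hp; sylow_cyclic_quotient V (hcyc p hp hpd))
        (H.map (QuotientGroup.mk' V)) (K.map (QuotientGroup.mk' V)) (hm' H hH) (hm' K hK)
      obtain ⟨g, rfl⟩ := QuotientGroup.mk'_surjective V g
      obtain ⟨k, hk⟩ := conj_of_sup_eq V (by rw [card_conj_smul, hH]) hK hcop (smul_of_quotient V g hg)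
      exact ⟨k * g, by rw [← conj_smul_conj_smul]; exact hk⟩

/-- The main induction. -/
theorem conj_main (r : ℕ) : ∀ (N : ℕ) (G : Type u) [Group G] [Finite G] [Group.IsSolvable G], Nat.card G ≤ N →
    (∀ p : ℕ, p.Prime → ∀ A B : Subgroup G, IsPGroup p A → IsPGroup p B → Nat.card A = Nat.card B → ∃ g : G, MulAut.conj g • A = B) →
    (∀ p : ℕ, p.Prime → p ≠ r → ∀ P : Sylow p G, IsCyclic P) →
      ∀ H K : Subgroup G, Nat.card H = Nat.card K → ∃ g : G, MulAut.conj g • H = K := by
  intro N
  induction N with
  | zero => intro G _ _ _ h; exact absurd h (not_le.2 Nat.card_pos)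
  | succ N ih =>
    intro G _ _ _ hcard hD hcyc H K hHK
    by_cases htriv : (⊤ : Subgroup G) = ⊥
    · refine ⟨1, ?_⟩
      have : ∀ L : Subgroup G, L = ⊥ := fun L => le_bot_iff.1 (htriv ▸ le_top)
      rw [this H, this K]
      exact this _
    obtain ⟨V, hVn, -, hVb, hVmin⟩ := exists_minimal_normal_le (N := (⊤ : Subgroup G)) htriv
    haveI := hVn
    obtain ⟨-, q, hq, hVq⟩ := minimal_normal_elementary V hVb hVmin
    haveI := Fact.mk hq
    have hquot : Nat.card (G ⧸ V) ≤ N := by
      have h1 := V.card_mul_index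
      have h2 : 1 < Nat.card V := V.one_lt_card_iff_ne_bot.2 hVb
      have h3 : 0 < V.index := Nat.pos_of_ne_zero Subgroup.index_ne_zero_of_finite
      rw [← Subgroup.index_eq_card]
      nlinarith
    have hVp : IsPGroup q V := fun v => ⟨1, Subtype.ext (by rw [pow_one]; exact hVq v v.2)⟩
    obtain ⟨j, hj⟩ := IsPGroup.iff_card.1 hVp
    -- the hypotheses pass to the quotient
    have hDq : ∀ p : ℕ, p.Prime → ∀ A B : Subgroup (G ⧸ V), IsPGroup p A → IsPGroup p B → Nat.card A = Nat.card B →
        ∃ g : G ⧸ V, MulAut.conj g • A = B := by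
      intro p hp A B hA hB hAB
      haveI := Fact.mk hp
      set π := QuotientGroup.mk' V
      have hlift : ∀ L : Subgroup (G ⧸ V), IsPGroup p L → ∃ S : Subgroup G, IsPGroup p S ∧ S.map π = L ∧
          Nat.card S = p ^ (Nat.card (L.comap π)).factorization p := by
        intro L hL
        obtain ⟨S⟩ : Nonempty (Sylow p (L.comap π)) := inferInstance
        refine ⟨(S : Subgroup (L.comap π)).map (L.comap π).subtype, S.isPGroup'.map _, ?_, ?_⟩
        · let f : L.comap π →* L := (π.comp (L.comap π).subtype).codRestrict L fun x => x.2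
          have hf : Function.Surjective f := by
            rintro ⟨y, hy⟩
            obtain ⟨x, rfl⟩ := QuotientGroup.mk'_surjective V y
            exact ⟨⟨x, hy⟩, rfl⟩
          have htop : ((S.mapSurjective hf : Sylow p L) : Subgroup L) = ⊤ :=
            top_le_iff.1 ((S.mapSurjective hf).is_maximal' (hL.of_injective (⊤ : Subgroup L).subtype Subtype.val_injective) le_top).le
          rw [Sylow.mapSurjective] at htop
          refine le_antisymm ?_ fun y hy => ?_
          · rintro _ ⟨_, ⟨x, -, rfl⟩, rfl⟩
            exact x.2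
          · obtain ⟨x, hx, hxy⟩ := htop.ge (mem_top ⟨y, hy⟩)
            exact ⟨x, ⟨x, hx, rfl⟩, congrArg Subtype.val hxy⟩
        · rw [← Nat.card_congr ((S : Subgroup (L.comap π)).equivMapOfInjective _ (L.comap π).subtype_injective).toEquiv,
            S.card_eq_multiplicity]
      obtain ⟨S, hS, hSA, hSc⟩ := hlift A hA
      obtain ⟨T, hT, hTB, hTc⟩ := hlift B hB
      have hpre : Nat.card (A.comap π) = Nat.card (B.comap π) := by
        have e : ∀ L : Subgroup (G ⧸ V), Nat.card (L.comap π) = Nat.card L * Nat.card V := fun L => by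
          have e1 := card_map_mul_card_inf_ker π (L.comap π)
          rw [map_comap_eq_self_of_surjective (QuotientGroup.mk'_surjective V), QuotientGroup.ker_mk',
            inf_eq_right.2 (by intro v hv; rw [mem_comap, show π v = 1 from (QuotientGroup.eq_one_iff v).2 hv]; exact one_mem L)] at e1
          exact e1.symm
        rw [e, e, hAB]
      obtain ⟨g, hg⟩ := hD p hp S T hS hT (by rw [hSc, hTc, hpre])
      exact ⟨π g, by rw [← hSA, ← map_conj_smul, hg, hTB]⟩
    have hcq : ∀ p : ℕ, p.Prime → p ≠ r → ∀ P : Sylow p (G ⧸ V), IsCyclic P := fun p hp hpr =>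
      haveI := Fact.mk hp; sylow_cyclic_quotient V (hcyc p hp hpr)
    have hcardmap : ∀ L : Subgroup G, Nat.card (L.map (QuotientGroup.mk' V)) * Nat.card (L ⊓ V : Subgroup G) = Nat.card L := by
      intro L
      have e := card_map_mul_card_inf_ker (QuotientGroup.mk' V) L
      rwa [QuotientGroup.ker_mk'] at e
    by_cases hdiv : q ^ j ∣ Nat.card H
    · have hconj : ∀ A B : Subgroup G, Nat.card A = q ^ j → Nat.card B = q ^ j → ∃ g : G, MulAut.conj g • A = B :=
        fun A B hA hB => hD q hq A B (IsPGroup.of_card hA) (IsPGroup.of_card hB) (hA.trans hB.symm)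
      have hVH := le_of_dvd_card V hj hconj H hdiv
      have hVK := le_of_dvd_card V hj hconj K (hHK ▸ hdiv)
      obtain ⟨g, hg⟩ := ih (G ⧸ V) hquot hDq hcq (H.map (QuotientGroup.mk' V)) (K.map (QuotientGroup.mk' V)) (by
        have e1 := hcardmap H
        have e2 := hcardmap K
        rw [inf_eq_right.2 hVH] at e1
        rw [inf_eq_right.2 hVK] at e2
        exact Nat.eq_of_mul_eq_mul_right (Nat.card_pos (α := V)) (by rw [e1, e2, hHK]))
      obtain ⟨g, rfl⟩ := QuotientGroup.mk'_surjective V g
      exact ⟨g, le_of_map_eq V hVH hVK g hg⟩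
    by_cases hqr : q = r
    · subst hqr
      -- the `q`-part lies inside `V`
      set i := (Nat.card H).factorization q with hi
      set n := Nat.card H / q ^ i with hn
      have hin : Nat.card H = q ^ i * n := (Nat.ordProj_mul_ordCompl_eq_self _ q).symm
      have hqn : ¬ q ∣ n := Nat.not_dvd_ordCompl hq Nat.card_pos.ne'
      have hij : i < j := by
        by_contra hle
        push Not at hle
        exact hdiv ((pow_dvd_pow q hle).trans (Nat.ordProj_dvd _ q))
      have hsplit : ∀ L : Subgroup G, Nat.card L = q ^ i * n → ∃ A B : Subgroup G, A ≤ L ∧ B ≤ L ∧ A ≤ V ∧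
          Nat.card A = q ^ i ∧ Nat.card B = n ∧ A ⊔ B = L ∧ B ≤ normalizer (A : Set G) := by
        intro L hL
        have hA : Nat.card (V ⊓ L : Subgroup G) = q ^ i := by
          obtain ⟨W, hW⟩ := Sylow.exists_subgroup_card_pow_prime (G := L) q (n := i) (hL ▸ dvd_mul_right _ _)
          obtain ⟨U, hU⟩ := Sylow.exists_subgroup_card_pow_prime (G := V) q (n := i) (hj ▸ pow_dvd_pow q hij.le)
          have hW' : Nat.card (W.map L.subtype) = q ^ i := by
            rw [← Nat.card_congr (W.equivMapOfInjective _ L.subtype_injective).toEquiv, hW]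
          have hU' : Nat.card (U.map V.subtype) = q ^ i := by
            rw [← Nat.card_congr (U.equivMapOfInjective _ V.subtype_injective).toEquiv, hU]
          obtain ⟨g, hg⟩ := hD q hq _ _ (IsPGroup.of_card hU') (IsPGroup.of_card hW') (hU'.trans hW'.symm)
          have hWV : W.map L.subtype ≤ V ⊓ L := le_inf (by
            rw [← hg]
            exact (Subgroup.pointwise_smul_le_pointwise_smul_iff.2 (map_subtype_le U)).trans
              (Subgroup.Normal.conj_smul_eq_self g V).le) (map_subtype_le W)
          obtain ⟨e, he⟩ := IsPGroup.iff_card.1 (hVp.to_le (inf_le_left : V ⊓ L ≤ V))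
          have h1 : q ^ e ∣ q ^ i * n := hL ▸ he ▸ card_dvd_of_le inf_le_right
          have h2 : q ^ e ∣ q ^ i := (((hq.coprime_iff_not_dvd).2 hqn).pow_left e).dvd_of_dvd_mul_right h1
          refine le_antisymm (he ▸ Nat.le_of_dvd (pow_pos hq.pos i) h2) ?_
          rw [← hW']
          exact Nat.le_of_dvd Nat.card_pos (card_dvd_of_le hWV)
        haveI : Group.IsSolvable L := inferInstance
        obtain ⟨B, hB⟩ := hall_exists (G := L) (m := n) (n := q ^ i) (by rw [hL, mul_comm])
          (((hq.coprime_iff_not_dvd).2 hqn).pow_left i).symm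
        have hB' : Nat.card (B.map L.subtype) = n := by
          rw [← Nat.card_congr (B.equivMapOfInjective _ L.subtype_injective).toEquiv, hB]
        have hBn : B.map L.subtype ≤ normalizer ((V ⊓ L : Subgroup G) : Set G) :=
          le_normalizer_inf (by rw [normalizer_eq_top]; exact le_top) ((map_subtype_le B).trans le_normalizer)
        refine ⟨V ⊓ L, B.map L.subtype, inf_le_right, map_subtype_le B, inf_le_left, hA, hB', ?_, hBn⟩
        refine eq_of_le_of_card_ge (sup_le inf_le_right (map_subtype_le B)) (le_of_eq ?_)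
        have h1 := card_sup_mul_card_inf (V ⊓ L) (B.map L.subtype) hBn
        rw [inf_eq_bot_of_coprime (H := V ⊓ L) (K := B.map L.subtype) (by
          rw [hA, hB']; exact (((hq.coprime_iff_not_dvd).2 hqn).pow_left i)), card_bot, mul_one, hA, hB'] at h1
        rw [h1, hL]
      obtain ⟨A, B, -, -, -, hA, hB, hAB, hBn⟩ := hsplit H hin
      obtain ⟨C, D, -, -, -, hC, hDc, hCD, hDn⟩ := hsplit K (hHK ▸ hin)
      obtain ⟨g, hg⟩ := hD q hq A C (IsPGroup.of_card hA) (IsPGroup.of_card hC) (hA.trans hC.symm)
      have hgB : MulAut.conj g • B ≤ normalizer (C : Set G) := by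
        rintro x hx
        rw [mem_conj_smul] at hx
        have h1 := conj_smul_eq_self_of_mem_normalizer (hBn hx)
        refine mem_normalizer_iff.2 fun y => ?_
        rw [← hg, mem_conj_smul, mem_conj_smul]
        have h2 := mem_normalizer_iff.1 (hBn hx) (g⁻¹ * y * g)
        simpa [mul_assoc] using h2
      set M := normalizer (C : Set G) with hM
      haveI : Group.IsSolvable M := inferInstance
      obtain ⟨k, hk⟩ := conj_of_cyclic _ M le_rfl n (fun p hp hpn P => by
          haveI := Fact.mk hp
          obtain ⟨Q, hQ⟩ := (P.isPGroup'.map M.subtype).exists_le_sylow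
          haveI := hcyc p hp (fun h => hqn (h ▸ hpn)) Q
          exact isCyclic_of_injective ((Subgroup.inclusion hQ).comp ((P : Subgroup M).equivMapOfInjective M.subtype M.subtype_injective).toMonoidHom)
            ((Subgroup.inclusion_injective hQ).comp (MulEquiv.injective _)))
        ((MulAut.conj g • B).subgroupOf M) (D.subgroupOf M)
        (by rw [Nat.card_congr (subgroupOfEquivOfLe hgB).toEquiv, card_conj_smul, hB])
        (by rw [Nat.card_congr (subgroupOfEquivOfLe hDn).toEquiv, hDc])
      refine ⟨(k : G) * g, ?_⟩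
      have h2 := congrArg (Subgroup.map M.subtype) hk
      rw [map_conj_smul, subgroupOf_map_subtype, subgroupOf_map_subtype, inf_eq_left.2 hgB, inf_eq_left.2 hDn] at h2
      rw [← conj_smul_conj_smul, ← hAB, Subgroup.smul_sup, Subgroup.smul_sup, hg,
        conj_smul_eq_self_of_mem_normalizer k.2, ← hCD]
      exact congrArg _ h2
    · -- `V` has prime order
      have hj1 : j = 1 := by
        obtain ⟨P, hP⟩ := hVp.exists_le_sylow
        haveI := hcyc q hq hqr P
        haveI : IsCyclic V := isCyclic_of_injective (Subgroup.inclusion hP) (Subgroup.inclusion_injective hP)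
        obtain ⟨v, hv⟩ := IsCyclic.exists_generator (α := V)
        have h1 := orderOf_dvd_of_pow_eq_one (x := v) (Subtype.ext (hVq v v.2))
        rw [orderOf_eq_card_of_forall_mem_zpowers hv, hj] at h1
        have h2 : j ≤ 1 := Nat.pow_dvd_pow_iff_le_right hq.one_lt |>.1 (by rwa [pow_one])
        rcases Nat.eq_zero_or_pos j with rfl | h
        · exact absurd (Subgroup.card_eq_one.1 (by rw [hj, pow_zero])) hVb
        · omega
      subst hj1
      rw [pow_one] at hdiv hj
      have hcop : (Nat.card V).Coprime (Nat.card H) := by rw [hj]; exact (hq.coprime_iff_not_dvd).2 hdiv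
      obtain ⟨g, hg⟩ := ih (G ⧸ V) hquot hDq hcq (H.map (QuotientGroup.mk' V)) (K.map (QuotientGroup.mk' V)) (by
        have e1 := hcardmap H
        have e2 := hcardmap K
        rw [inf_eq_bot_of_coprime hcop.symm, card_bot, mul_one] at e1
        rw [inf_eq_bot_of_coprime (H := K) (K := V) (hHK ▸ hcop).symm, card_bot, mul_one] at e2
        rw [e1, e2, hHK])
      obtain ⟨g, rfl⟩ := QuotientGroup.mk'_surjective V g
      obtain ⟨k, hk⟩ := conj_of_sup_eq V (by rw [card_conj_smul]) hHK.symm hcop (smul_of_quotient V g hg)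
      exact ⟨k * g, by rw [← conj_smul_conj_smul]; exact hk⟩


/-- Let G be a finite solvable group in which, for every prime p, any two p-subgroups of the same order are conjugate, and suppose the Sylow p-subgroups of G are cyclic for all primes p with at most one exception. Then any two subgroups of G of the same order are conjugate. -/
theorem result {G : Type*} [Group G] [Finite G]
    [Group.IsSolvable G] (hD : ∀ p : ℕ, p.Prime → ∀ H K : Subgroup G, IsPGroup p H → IsPGroup p K → Nat.card H = Nat.card K →
      ∃ g : G, K = H.map (MulAut.conj g).toMonoidHom)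
    (r : ℕ) (hcyc : ∀ p : ℕ, p.Prime → p ≠ r → ∀ P : Sylow p G, IsCyclic P) :
    ∀ H K : Subgroup G, Nat.card H = Nat.card K → ∃ g : G, K = H.map (MulAut.conj g).toMonoidHom := by
  intro H K hHK
  obtain ⟨g, hg⟩ := conj_main r _ G le_rfl
    (fun p hp A B hA hB hAB => by
      obtain ⟨g, hg⟩ := hD p hp A B hA hB hAB
      exact ⟨g, by rw [← map_eq_smul, hg]⟩) hcyc H K hHK
  exact ⟨g, by rw [map_eq_smul, hg]⟩


end Cfsg.Agent.S4022
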