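import Cfsg.Statements.S4023
import Cfsg.Agent.Lib.Struct.UniqueOrderP
import Cfsg.Agent.Lib.Solv.Basic
import Cfsg.Agent.Lib.Solv.Misc

set_option autoImplicit false
set_option linter.style.haveILetI false
open Cfsg
open Subgroup
open scoped commutatorElement

namespace Cfsg.Agent.S4023

theorem cases_of_conj {G : Type*} [Group G] [Finite G]
    {p : ℕ} [hpf : Fact p.Prime]
    (hB : ∀ H K : Subgroup G, IsPGroup p H → IsPGroup p K →
      Nat.card H = Nat.card K → ∃ g : G, K = H.map (MulAut.conj g).toMonoidHom)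
    (P : Sylow p G) :
    IsCyclic ↥(P : Subgroup G) ∨
      (p = 2 ∧ ∃ n : ℕ, 1 ≤ n ∧ Nonempty (↥(P : Subgroup G) ≃* QuaternionGroup (2 ^ n))) ∨
      ∀ x ∈ (P : Subgroup G), x ^ p = 1 := by
  have hp : p.Prime := Fact.out
  by_cases huniq : ∀ x y : (P : Subgroup G), orderOf x = p → y ^ p = 1 → y ∈ zpowers x
  · rcases Cfsg.Agent.Struct.cyclic_or_quaternion P.isPGroup' huniq with h | h
    · exact Or.inl h
    · exact Or.inr (Or.inl h)
  refine Or.inr (Or.inr fun w hw => ?_)
  obtain ⟨a, b, hab, ha, hb, hba⟩ : ∃ a b : (P : Subgroup G), Commute a b ∧ orderOf a = p ∧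
      b ^ p = 1 ∧ b ∉ zpowers a := by
    simp only [not_forall] at huniq
    obtain ⟨x, y, hx, hy, hyx⟩ := huniq
    haveI : Nontrivial (P : Subgroup G) := ⟨x, 1, fun h => hp.one_lt.ne
      (by rw [← hx, h, orderOf_one])⟩
    haveI := P.isPGroup'.center_nontrivial
    obtain ⟨e, he⟩ := IsPGroup.iff_card.1 (P.isPGroup'.to_subgroup (center (P : Subgroup G)))
    have he0 : e ≠ 0 := by
      rintro rfl
      rw [pow_zero] at he
      exact (Finite.one_lt_card (α := center (P : Subgroup G))).ne' he
    obtain ⟨z, hz⟩ := exists_prime_orderOf_dvd_card' (G := center (P : Subgroup G)) p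
      (by rw [he]; exact dvd_pow_self p he0)
    rw [← Subgroup.orderOf_coe] at hz
    by_cases hxz : x ∈ zpowers (z : (P : Subgroup G))
    · refine ⟨z, y, ((mem_center_iff.1 z.2) y).symm, hz, hy, fun hyz => hyx ?_⟩
      have h1 : zpowers x = zpowers (z : (P : Subgroup G)) :=
        eq_of_le_of_card_ge (zpowers_le.2 hxz) (by rw [Nat.card_zpowers, Nat.card_zpowers, hx, hz])
      rwa [h1]
    · exact ⟨z, x, ((mem_center_iff.1 z.2) x).symm, hz, orderOf_dvd_iff_pow_eq_one.1 hx.dvd, hxz⟩
  let E : Subgroup G := (closure {a, b}).map (P : Subgroup G).subtype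
  have hEexp : ∀ u ∈ E, u ^ p = 1 := by
    rintro _ ⟨u, hu, rfl⟩
    rw [← map_pow]
    have : u ^ p = 1 := by
      induction hu using closure_induction with
      | mem u hu =>
        rcases hu with rfl | rfl
        · exact orderOf_dvd_iff_pow_eq_one.1 ha.dvd
        · exact hb
      | one => exact one_pow p
      | mul u v hu hv hu' hv' =>
        have hc : Commute u v := by
          haveI := isMulCommutative_closure (k := ({a, b} : Set (P : Subgroup G))) (by
            rintro _ (rfl | rfl) _ (rfl | rfl)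
            · rfl
            · exact hab.eq
            · exact hab.eq.symm
            · rfl)
          exact congrArg Subtype.val (mul_comm' (⟨u, hu⟩ : closure {a, b}) ⟨v, hv⟩)
        rw [hc.mul_pow, hu', hv', one_mul]
      | inv u hu hu' => rw [inv_pow, hu', inv_one]
    rw [this, map_one]
  haveI hEc : IsMulCommutative E := by
    haveI := isMulCommutative_closure (k := ({a, b} : Set (P : Subgroup G))) (by
      rintro _ (rfl | rfl) _ (rfl | rfl)
      · rfl
      · exact hab.eq
      · exact hab.eq.symm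
      · rfl)
    infer_instance
  have hEcard : p ^ 2 ∣ Nat.card E := by
    obtain ⟨e, he⟩ := IsPGroup.iff_card.1 (P.isPGroup'.to_subgroup (closure {a, b}))
    have hlt : p < Nat.card (closure ({a, b} : Set (P : Subgroup G))) := by
      refine lt_of_le_of_ne (le_trans (le_of_eq ((Nat.card_zpowers a).trans ha).symm)
        (card_le_of_le (zpowers_le.2 (subset_closure (Set.mem_insert _ _))))) fun h => hba ?_
      rw [eq_of_le_of_card_ge (zpowers_le.2 (subset_closure (Set.mem_insert a {b})))
        (h.symm.trans ((Nat.card_zpowers a).trans ha).symm).le]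
      exact subset_closure (Set.mem_insert_of_mem _ rfl)
    rw [show Nat.card E = p ^ e by rw [card_map_of_injective (subtype_injective _), he]]
    rw [he] at hlt
    refine pow_dvd_pow p ?_
    by_contra h2
    exact (not_le.2 hlt) ((Nat.pow_le_pow_right hp.pos (Nat.le_of_lt_succ (not_le.1 h2))).trans
      (pow_one p).le)
  by_contra hw1
  obtain ⟨k, hk⟩ := IsPGroup.iff_orderOf.1 P.isPGroup' ⟨w, hw⟩
  rw [Subgroup.orderOf_mk] at hk
  have hk2 : 2 ≤ k := by
    by_contra h2
    refine hw1 (orderOf_dvd_iff_pow_eq_one.1 ?_)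
    rw [hk]
    exact (pow_dvd_pow p (Nat.le_of_lt_succ (not_le.1 h2))).trans (pow_one p).dvd
  have hu : orderOf (w ^ p ^ (k - 2)) = p ^ 2 := by
    rw [orderOf_pow_of_dvd (pow_pos hp.pos _).ne' (by rw [hk]; exact pow_dvd_pow p (Nat.sub_le _ _)),
      hk, Nat.pow_div (Nat.sub_le _ _) hp.pos]
    congr 1
    omega
  obtain ⟨E', hE'⟩ := Sylow.exists_subgroup_card_pow_prime (G := E) p hEcard
  obtain ⟨g, hg⟩ := hB (E'.map E.subtype) (zpowers (w ^ p ^ (k - 2)))
    (IsPGroup.of_card (n := 2) (by rw [card_map_of_injective (subtype_injective _), hE']))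
    (IsPGroup.of_card (n := 2) (by rw [Nat.card_zpowers, hu]))
    (by rw [card_map_of_injective (subtype_injective _), hE', Nat.card_zpowers, hu])
  obtain ⟨v, ⟨v', -, rfl⟩, hv'⟩ := hg.le (mem_zpowers (w ^ p ^ (k - 2)))
  have h1 : (w ^ p ^ (k - 2)) ^ p = 1 := by
    rw [← hv', ← map_pow, show (E.subtype v' : G) ^ p = 1 from hEexp _ v'.2, map_one]
  have h2 := orderOf_dvd_of_pow_eq_one h1
  rw [hu] at h2
  exact absurd (Nat.le_of_dvd hp.pos h2) (not_le.2 (by
    rw [pow_two]; exact lt_mul_of_one_lt_left hp.pos hp.one_lt))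


theorem ext_abelian {P : Type*} [Group P] [Finite P] {p : ℕ} [Fact p.Prime] (E : Subgroup P)
    (hE : ∀ a ∈ E, ∀ b ∈ E, a * b = b * a) (w : P) (hw : ∀ a ∈ E, a * w = w * a) (hwE : w ∉ E)
    (hwp : w ^ p = 1) :
    (∀ a ∈ E ⊔ zpowers w, ∀ b ∈ E ⊔ zpowers w, a * b = b * a) ∧
      Nat.card ↥(E ⊔ zpowers w) = Nat.card E * p := by
  have h1 : E ⊔ zpowers w ≤ centralizer (E : Set P) :=
    sup_le (fun a ha => mem_centralizer_iff.2 fun b hb => hE b hb a ha)
      (zpowers_le.2 (mem_centralizer_iff.2 fun b hb => hw b hb))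
  have h2 : E ⊔ zpowers w ≤ centralizer ({w} : Set P) :=
    sup_le (fun a ha => mem_centralizer_singleton_iff.2 (hw a ha))
      (zpowers_le.2 (mem_centralizer_singleton_iff.2 rfl))
  refine ⟨fun a ha b hb => ?_, ?_⟩
  · have h3 : E ⊔ zpowers w ≤ centralizer ({a} : Set P) :=
      sup_le (fun e he => mem_centralizer_singleton_iff.2 (mem_centralizer_iff.1 (h1 ha) e he))
        (zpowers_le.2 (mem_centralizer_singleton_iff.2 (mem_centralizer_singleton_iff.1 (h2 ha)).symm))
    exact (mem_centralizer_singleton_iff.1 (h3 hb)).symm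
  · have hn : zpowers w ≤ normalizer (E : Set P) :=
      (zpowers_le.2 (mem_centralizer_iff.2 fun b hb => hw b hb)).trans (centralizer_le_normalizer _)
    have hp : p.Prime := Fact.out
    have ho : Nat.card (zpowers w) = p := by
      rw [Nat.card_zpowers]
      exact orderOf_eq_prime hwp fun h => hwE (h ▸ one_mem E)
    have hdisj : E ⊓ zpowers w = ⊥ := by
      rcases hp.eq_one_or_self_of_dvd _ (ho ▸ card_dvd_of_le (inf_le_right : E ⊓ zpowers w ≤ _))
        with h | h
      · exact eq_bot_of_card_eq _ h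
      · exact absurd ((eq_of_le_of_card_ge (inf_le_right : E ⊓ zpowers w ≤ _) (by rw [h, ho])).ge
          (mem_zpowers w)) (fun hc => hwE (mem_inf.1 hc).1)
    have e := Cfsg.Agent.Solv.card_sup_mul_card_inf E (zpowers w) hn
    rwa [hdisj, card_bot, mul_one, ho] at e


/-- Let p be a prime and G a finite group in which any two p-subgroups of the same order are conjugate, with Sylow p-subgroup P. Then P is cyclic, or elementary abelian, or p = 2 and P is a quaternion group of order 8, or p is odd and P is non-abelian of order p³ and exponent p. -/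
theorem result {G : Type*} [Group G] [Finite G]
    {p : ℕ} [Fact p.Prime] (hC : ∀ H K : Subgroup G, IsPGroup p H → IsPGroup p K → Nat.card H = Nat.card K →
      ∃ g : G, K = H.map (MulAut.conj g).toMonoidHom) (P : Sylow p G) :
    IsCyclic P ∨ Cfsg.IsElementaryAbelian p (P : Subgroup G) ∨
      (p = 2 ∧ Nonempty ((P : Subgroup G) ≃* QuaternionGroup 2)) ∨
      (p ≠ 2 ∧ ¬ IsMulCommutative P ∧ Nat.card P = p ^ 3 ∧ Monoid.exponent P = p) := by
  classical
  have hp : p.Prime := Fact.out
  rcases cases_of_conj hC P with h | ⟨h2, n, hn, ⟨e⟩⟩ | hexp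
  · exact Or.inl h
  · subst h2
    refine Or.inr (Or.inr (Or.inl ⟨rfl, ?_⟩))
    rcases eq_or_lt_of_le hn with h1 | h1
    · subst h1; exact ⟨e.trans (by simpa using MulEquiv.refl _)⟩
    exfalso
    haveI : NeZero (2 ^ n) := ⟨pow_ne_zero _ two_ne_zero⟩
    have hQ : IsPGroup 2 (QuaternionGroup (2 ^ n)) := P.isPGroup'.of_equiv e
    have hcard : Nat.card (QuaternionGroup (2 ^ n)) = 2 ^ (n + 2) := by
      rw [Nat.card_eq_fintype_card, QuaternionGroup.card, pow_add]; ring
    have hc4 : Nat.card (zpowers (QuaternionGroup.xa (n := 2 ^ n) 0)) = 2 ^ 2 := by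
      rw [Nat.card_zpowers, QuaternionGroup.orderOf_xa]; norm_num
    obtain ⟨H, hH, hle⟩ := Sylow.exists_subgroup_card_pow_succ (G := QuaternionGroup (2 ^ n))
      (p := 2) (n := 2) (by rw [hcard]; exact pow_dvd_pow 2 (by omega)) hc4
    set a : QuaternionGroup (2 ^ n) := QuaternionGroup.a 1 ^ (2 ^ (n - 2)) with ha
    have hao : orderOf a = 2 ^ 3 := by
      rw [ha, orderOf_pow_of_dvd (pow_pos two_pos _).ne', QuaternionGroup.orderOf_a_one,
        ← pow_succ', Nat.pow_div (by omega) two_pos]
      · congr 1; omega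
      · rw [QuaternionGroup.orderOf_a_one, ← pow_succ']
        exact pow_dvd_pow 2 (by omega)
    let f : QuaternionGroup (2 ^ n) →* G := (P : Subgroup G).subtype.comp e.symm.toMonoidHom
    have hf : Function.Injective f := (subtype_injective _).comp e.symm.injective
    obtain ⟨g, hg⟩ := hC ((zpowers a).map f) (H.map f)
      ((hQ.to_subgroup _).map f) ((hQ.to_subgroup _).map f)
      (by rw [card_map_of_injective hf, card_map_of_injective hf, Nat.card_zpowers, hao, hH])
    let φ := (MulAut.conj g).toMonoidHom.comp f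
    have hcyc : IsCyclic (H.map f) := by
      rw [hg, map_map, MonoidHom.map_zpowers]
      infer_instance
    haveI := isCyclic_of_surjective _ (H.equivMapOfInjective f hf).symm.surjective
    obtain ⟨⟨w, hw⟩, hwg⟩ := IsCyclic.exists_generator (α := H)
    obtain ⟨i, hi⟩ := hwg ⟨QuaternionGroup.xa 0, hle (mem_zpowers _)⟩
    have hwo : orderOf w = 8 := by
      have h8 := orderOf_eq_card_of_forall_mem_zpowers hwg
      rw [Subgroup.orderOf_mk, hH] at h8
      simpa using h8
    rcases w with j | j
    · have hi' : (QuaternionGroup.a j : QuaternionGroup (2 ^ n)) ^ i = QuaternionGroup.xa 0 :=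
        congrArg Subtype.val hi
      have hmem : (QuaternionGroup.a j : QuaternionGroup (2 ^ n)) ∈
          zpowers (QuaternionGroup.a (1 : ZMod (2 * 2 ^ n))) :=
        ⟨(j.val : ℤ), by simp only [zpow_natCast, QuaternionGroup.a_one_pow, ZMod.natCast_zmod_val]⟩
      have h0 := zpow_mem hmem i
      rw [hi', ← mem_powers_iff_mem_zpowers] at h0
      obtain ⟨m, hm⟩ := h0
      simp only [QuaternionGroup.a_one_pow] at hm
      cases hm
    · rw [QuaternionGroup.orderOf_xa] at hwo
      norm_num at hwo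
  by_cases hab : IsMulCommutative ↥(P : Subgroup G)
  · exact Or.inr (Or.inl ⟨hab, hexp⟩)
  have hexp' : ∀ u : (P : Subgroup G), u ^ p = 1 := fun u => Subtype.ext (hexp u u.2)
  have hp2 : p ≠ 2 := by
    rintro rfl
    refine hab ⟨⟨fun u v => ?_⟩⟩
    have h1 := hexp' (u * v)
    have h2 := hexp' u
    have h3 := hexp' v
    rw [pow_two] at h1 h2 h3
    rw [eq_inv_of_mul_eq_one_left h1, mul_inv_rev, ← eq_inv_of_mul_eq_one_left h2,
      ← eq_inv_of_mul_eq_one_left h3]
  haveI := P.isPGroup'.isNilpotent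
  haveI : Nontrivial (P : Subgroup G) := by
    by_contra hcon
    rw [not_nontrivial_iff_subsingleton] at hcon
    exact hab ⟨⟨fun u v => Subsingleton.elim _ _⟩⟩
  refine Or.inr (Or.inr (Or.inr ⟨hp2, hab, ?_, ?_⟩))
  swap
  · refine ((Nat.prime_def.1 hp).2 _ (Monoid.exponent_dvd_of_forall_pow_eq_one hexp')).resolve_left ?_
    intro h1
    obtain ⟨u, hu⟩ := exists_ne (1 : (P : Subgroup G))
    exact hu (by simpa [h1] using Monoid.pow_exponent_eq_one u)
  -- a second centre element, and a nonabelian subgroup of order `p ^ 3`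
  obtain ⟨x, hx2, hxZ⟩ : ∃ x, x ∈ Subgroup.upperCentralSeries (P : Subgroup G) 2 ∧
      x ∉ center (P : Subgroup G) := by
    by_contra hcon
    simp only [not_exists, not_and, not_not] at hcon
    refine hab ?_
    have hcl : Subgroup.upperCentralSeries (P : Subgroup G) 1 =
        Subgroup.upperCentralSeries (P : Subgroup G) 2 :=
      le_antisymm (Subgroup.upperCentralSeries_mono _ (by norm_num))
        (by rw [Subgroup.upperCentralSeries_one]; exact hcon)
    obtain ⟨m, hm⟩ := (inferInstance : Group.IsNilpotent (P : Subgroup G)).nilpotent'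
    have hstab : ∀ k, Subgroup.upperCentralSeries (P : Subgroup G) k ≤ center (P : Subgroup G) := by
      intro k
      induction k with
      | zero => rw [Subgroup.upperCentralSeries_zero]; exact bot_le
      | succ k ih =>
        intro u hu
        rw [Subgroup.mem_upperCentralSeries_succ_iff] at hu
        refine hcon u (Subgroup.mem_upperCentralSeries_succ_iff.2 fun v => ?_)
        rw [Subgroup.upperCentralSeries_one]
        exact ih (hu v)
    exact ⟨⟨fun u v => (mem_center_iff.1 (hstab m (hm ▸ mem_top v)) u)⟩⟩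
  have hxc : ∀ u, ⁅x, u⁆ ∈ center (P : Subgroup G) := fun u => by
    rw [← Subgroup.upperCentralSeries_one]
    exact Subgroup.mem_upperCentralSeries_succ_iff.1 hx2 u
  obtain ⟨y, hy⟩ : ∃ y : (P : Subgroup G), ⁅x, y⁆ ≠ 1 := by
    by_contra hcon
    simp only [not_exists, not_not] at hcon
    exact hxZ (mem_center_iff.2 fun u => (commutatorElement_eq_one_iff_mul_comm.1 (hcon u)).symm)
  set c := ⁅x, y⁆ with hcdef
  have hcz := hxc y
  have hco : orderOf c = p := orderOf_eq_prime (hexp' c) hy
  have hxC : x ∉ zpowers c := fun h => hxZ (zpowers_le.2 hcz h)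
  obtain ⟨hAab, hAcard⟩ := ext_abelian (zpowers c)
    (fun a ha b hb => ((mem_center_iff.1 (zpowers_le.2 hcz hb)) a))
    x (fun a ha => ((mem_center_iff.1 (zpowers_le.2 hcz ha)) x).symm) hxC (hexp' x)
  set A := zpowers c ⊔ zpowers x with hA
  have hyA : y ∉ A := fun h => hy (commutatorElement_eq_one_iff_mul_comm.2
    (hAab x (mem_sup_right (mem_zpowers x)) y h))
  have hyn : zpowers y ≤ normalizer (A : Set (P : Subgroup G)) := by
    rw [zpowers_le]
    refine mem_normalizer_iff_map_conj_eq.2 (eq_of_le_of_card_ge ?_ ?_)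
    · rw [hA, Subgroup.map_sup]
      refine sup_le ?_ ?_
      · rw [MonoidHom.map_zpowers, zpowers_le]
        refine mem_sup_left ?_
        show y * c * y⁻¹ ∈ zpowers c
        rw [mem_center_iff.1 hcz y, mul_inv_cancel_right]
        exact mem_zpowers c
      · rw [MonoidHom.map_zpowers, zpowers_le]
        show y * x * y⁻¹ ∈ zpowers c ⊔ zpowers x
        rw [show y * x * y⁻¹ = c⁻¹ * x by rw [hcdef, commutatorElement_def]; group]
        exact mul_mem (mem_sup_left (inv_mem (mem_zpowers c))) (mem_sup_right (mem_zpowers x))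
    · rw [card_map_of_injective (MulAut.conj y).injective]
  have hTcard : Nat.card ↥(A ⊔ zpowers y) = p ^ 3 := by
    have h1 := Cfsg.Agent.Solv.card_sup_mul_card_inf A (zpowers y) hyn
    have ho : Nat.card (zpowers y) = p := by
      rw [Nat.card_zpowers]; exact orderOf_eq_prime (hexp' y) fun h => hyA (h ▸ one_mem A)
    have hdisj : A ⊓ zpowers y = ⊥ := by
      rcases hp.eq_one_or_self_of_dvd _ (ho ▸ card_dvd_of_le (inf_le_right : A ⊓ zpowers y ≤ _))
        with h | h
      · exact eq_bot_of_card_eq _ h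
      · exact absurd ((eq_of_le_of_card_ge (inf_le_right : A ⊓ zpowers y ≤ _) (by rw [h, ho])).ge
          (mem_zpowers y)) (fun hc => hyA (mem_inf.1 hc).1)
    rw [hdisj, card_bot, mul_one, ho, hAcard, Nat.card_zpowers, hco] at h1
    rw [h1]; ring
  obtain ⟨m, hm⟩ := IsPGroup.iff_card.1 P.isPGroup'
  have hm3 : 3 ≤ m := by
    have h1 := hm ▸ card_subgroup_dvd_card (A ⊔ zpowers y)
    rw [hTcard] at h1
    exact (Nat.pow_dvd_pow_iff_le_right hp.one_lt).1 h1
  by_contra hne
  have hm4 : 4 ≤ m := by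
    by_contra h4
    exact hne (by rw [hm, show m = 3 by omega])
  -- an abelian subgroup of order `p ^ 3`
  obtain ⟨B, hBab, hBcard⟩ : ∃ B : Subgroup (P : Subgroup G),
      (∀ a ∈ B, ∀ b ∈ B, a * b = b * a) ∧ Nat.card B = p ^ 3 := by
    obtain ⟨z, hz⟩ := IsPGroup.iff_card.1 (P.isPGroup'.to_subgroup (center (P : Subgroup G)))
    by_cases hz2 : 2 ≤ z
    · obtain ⟨E₂, hE₂⟩ := Sylow.exists_subgroup_card_pow_prime (G := center (P : Subgroup G)) p
        (n := 2) (hz ▸ pow_dvd_pow p hz2)
      set E := E₂.map (center (P : Subgroup G)).subtype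
      have hEZ : E ≤ center (P : Subgroup G) := map_subtype_le _
      obtain ⟨h1, h2⟩ := ext_abelian E (fun a _ b hb => mem_center_iff.1 (hEZ hb) a) x
        (fun a ha => (mem_center_iff.1 (hEZ ha) x).symm) (fun h => hxZ (hEZ h)) (hexp' x)
      exact ⟨_, h1, by rw [h2, card_map_of_injective (subtype_injective _), hE₂]; ring⟩
    · have hZp : Nat.card (center (P : Subgroup G)) ≤ p := by
        rw [hz]
        exact (Nat.pow_le_pow_right hp.pos (by omega)).trans (pow_one p).le
      let τ : (P : Subgroup G) →* center (P : Subgroup G) :=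
        { toFun := fun u => ⟨⁅x, u⁆, hxc u⟩
          map_one' := Subtype.ext (commutatorElement_one_right x)
          map_mul' := fun u v => Subtype.ext (by
            show ⁅x, u * v⁆ = ⁅x, u⁆ * ⁅x, v⁆
            rw [commutatorElement_mul_right_eq_mul_conj]
            rw [mul_assoc, mul_assoc, ← mul_assoc u, mem_center_iff.1 (hxc v) u, mul_inv_cancel_right]) }
      have hker : p ^ 3 ≤ Nat.card τ.ker := by
        have h1 := τ.ker.card_mul_index
        rw [index_ker, hm] at h1
        have h2 : Nat.card τ.range ≤ p := (card_le_card_group _).trans hZp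
        refine Nat.le_of_mul_le_mul_right ?_ hp.pos
        rw [← pow_succ]
        exact ((Nat.pow_le_pow_right hp.pos hm4).trans h1.ge).trans (Nat.mul_le_mul_left _ h2)
      obtain ⟨w, hw, hwA⟩ : ∃ w ∈ τ.ker, w ∉ A := by
        by_contra hcon
        simp only [not_exists, not_and, not_not] at hcon
        have h1 := hker.trans (card_le_of_le hcon)
        rw [hAcard, Nat.card_zpowers, hco, ← pow_two] at h1
        exact absurd h1 (not_le.2 (Nat.pow_lt_pow_right hp.one_lt (by norm_num)))
      have hwx : x * w = w * x := commutatorElement_eq_one_iff_mul_comm.1 (congrArg Subtype.val hw)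
      have hAw : A ≤ centralizer ({w} : Set (P : Subgroup G)) :=
        sup_le (zpowers_le.2 (mem_centralizer_singleton_iff.2 ((mem_center_iff.1 hcz) w).symm))
          (zpowers_le.2 (mem_centralizer_singleton_iff.2 hwx))
      obtain ⟨h1, h2⟩ := ext_abelian A hAab w
        (fun a ha => mem_centralizer_singleton_iff.1 (hAw ha)) hwA (hexp' w)
      exact ⟨_, h1, by rw [h2, hAcard, Nat.card_zpowers, hco]; ring⟩
  obtain ⟨g, hg⟩ := hC (B.map (P : Subgroup G).subtype) ((A ⊔ zpowers y).map (P : Subgroup G).subtype)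
    ((P.isPGroup'.to_subgroup _).map _) ((P.isPGroup'.to_subgroup _).map _)
    (by rw [card_map_of_injective (subtype_injective _), card_map_of_injective (subtype_injective _),
      hBcard, hTcard])
  have hxT : (x : G) ∈ (A ⊔ zpowers y).map (P : Subgroup G).subtype := ⟨x, mem_sup_left (mem_sup_right (mem_zpowers x)), rfl⟩
  have hyT : (y : G) ∈ (A ⊔ zpowers y).map (P : Subgroup G).subtype :=
    ⟨y, mem_sup_right (mem_zpowers y), rfl⟩
  rw [hg] at hxT hyT
  obtain ⟨_, ⟨u, hu, rfl⟩, hu'⟩ := hxT
  obtain ⟨_, ⟨v, hv, rfl⟩, hv'⟩ := hyT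
  refine hy (commutatorElement_eq_one_iff_mul_comm.2 (Subtype.ext ?_))
  show (x : G) * y = y * x
  rw [← hu', ← hv', ← map_mul, ← map_mul, ← map_mul, ← map_mul, hBab u hu v hv]

end Cfsg.Agent.S4023
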