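import Cfsg.Statements.S4024
import Cfsg.Agent.Lib.Solv.PSolvable
import Cfsg.Agent.Lib.Local.OddPGroupInvolution

set_option autoImplicit false
open Cfsg

namespace Cfsg.Agent.S4024

open Subgroup

/-- A subgroup that is the only subgroup of its order in a `p`-group (`p` odd) is either trivial,
everything, or forces the group to be cyclic. -/
theorem cyclic_of_unique_card {P : Type*} [Group P] [Finite P] {p : ℕ} [hp : Fact p.Prime]
    (hp2 : p ≠ 2) (hP : IsPGroup p P) (U : Subgroup P) (hU1 : U ≠ ⊥) (hU2 : U ≠ ⊤)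
    (hu : ∀ A : Subgroup P, Nat.card A = Nat.card U → A = U) : IsCyclic P := by
  classical
  obtain ⟨n, hn⟩ := IsPGroup.iff_card.mp hP
  obtain ⟨m, hm⟩ := IsPGroup.iff_card.mp (hP.to_subgroup U)
  have hdvd : p ^ m ∣ Nat.card P := hm ▸ card_subgroup_dvd_card U
  have hlt : m < n := by
    have h1 : Nat.card U < Nat.card P :=
      lt_of_le_of_ne (card_le_card_group U) fun e => hU2 (eq_top_of_card_eq U e)
    rw [hn, hm] at h1
    exact (pow_lt_pow_iff_right₀ hp.1.one_lt).mp h1
  have hm0 : 1 ≤ m := by
    rcases Nat.eq_zero_or_pos m with h | h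
    · exact absurd (card_eq_one.mp (by rw [hm, h, pow_zero])) hU1
    · exact h
  obtain ⟨V, hV, hUV⟩ := Sylow.exists_subgroup_card_pow_prime_le (G := P) (p := p) (n := m)
    (m := m + 1) (hn ▸ pow_dvd_pow p hlt) U hm (Nat.le_succ m)
  obtain ⟨v, hv, hvU⟩ : ∃ v ∈ V, v ∉ U := by
    by_contra hc
    push Not at hc
    have := card_le_of_le (show V ≤ U from hc)
    rw [hV, hm] at this
    exact absurd this (not_le.mpr (pow_lt_pow_right₀ hp.1.one_lt (Nat.lt_succ_self m)))
  obtain ⟨k, hk⟩ := IsPGroup.iff_card.mp (hP.to_subgroup (zpowers v))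
  have hvV : zpowers v = V := by
    refine eq_of_le_of_card_ge (zpowers_le.mpr hv) ?_
    rw [hV, hk]
    refine Nat.pow_le_pow_right hp.1.pos ?_
    by_contra hc
    obtain ⟨A, hA, hvA⟩ := Sylow.exists_subgroup_card_pow_prime_le (G := P) (p := p) (n := k)
      (m := m) hdvd (zpowers v) hk (by omega)
    exact hvU (hu A (hA.trans hm.symm) ▸ hvA (mem_zpowers v))
  haveI : IsCyclic U := by
    haveI : IsCyclic (zpowers v) := inferInstance
    have hle : U ≤ zpowers v := hvV ▸ hUV
    exact isCyclic_of_injective (inclusion hle) (inclusion_injective hle)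
  have hmem : ∀ x : P, x ^ p = 1 → x ∈ U := by
    intro x hx
    obtain ⟨j, hj⟩ := IsPGroup.iff_card.mp (hP.to_subgroup (zpowers x))
    have hj1 : j ≤ 1 := by
      have h1 : Nat.card (zpowers x) ∣ p ^ 1 := by
        rw [Nat.card_zpowers, pow_one]; exact orderOf_dvd_of_pow_eq_one hx
      rw [hj] at h1
      exact (Nat.pow_dvd_pow_iff_le_right hp.1.one_lt).mp h1
    obtain ⟨A, hA, hxA⟩ := Sylow.exists_subgroup_card_pow_prime_le (G := P) (p := p) (n := j)
      (m := m) hdvd (zpowers x) hj (by omega)
    exact hu A (hA.trans hm.symm) ▸ hxA (mem_zpowers x)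
  obtain ⟨z, hz⟩ := exists_prime_orderOf_dvd_card' (G := U) p (hm ▸ dvd_pow_self p (by omega))
  have huz : ∀ x : U, x ^ p = 1 → x ∈ zpowers z := by
    intro x hx
    have hle : zpowers x ≤ zpowers z := by
      have h1 : Nat.card (zpowers x) ∣ Nat.card (zpowers z) := by
        rw [Nat.card_zpowers, Nat.card_zpowers, hz]; exact orderOf_dvd_of_pow_eq_one hx
      obtain ⟨g, hg⟩ := IsCyclic.exists_generator (α := U)
      haveI : Fintype U := Fintype.ofFinite U
      intro y hy
      by_contra hy'
      have hsub : ∀ w ∈ zpowers z, w ^ p = 1 := fun w hw =>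
        orderOf_dvd_iff_pow_eq_one.mp (hz ▸ orderOf_dvd_of_mem_zpowers hw)
      have hyp : y ^ p = 1 := by
        obtain ⟨i, rfl⟩ := hy
        rw [← zpow_natCast, ← zpow_mul, mul_comm, zpow_mul, zpow_natCast, hx, one_zpow]
      have hcard : p + 1 ≤ (Finset.univ.filter (fun w : U => w ^ p = 1)).card := by
        have hins : insert y (Finset.univ.filter (fun w : U => w ∈ zpowers z)) ⊆
            Finset.univ.filter (fun w : U => w ^ p = 1) := by
          intro w hw
          simp only [Finset.mem_insert, Finset.mem_filter, Finset.mem_univ, true_and] at hw ⊢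
          rcases hw with rfl | hw
          · exact hyp
          · exact hsub w hw
        refine le_trans ?_ (Finset.card_le_card hins)
        rw [Finset.card_insert_of_notMem (by simp [hy']), ← Fintype.card_subtype,
          ← Nat.card_eq_fintype_card]
        exact le_of_eq (by rw [← hz, ← Nat.card_zpowers])
      have := IsCyclic.card_pow_eq_one_le (α := U) hp.1.pos
      omega
    exact hle (mem_zpowers x)
  have hz1 : ((z : P)) ^ p = 1 := by
    have h0 : z ^ p = 1 := hz ▸ pow_orderOf_eq_one z
    simpa using congrArg Subtype.val h0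
  obtain ⟨g, -, hg⟩ := Cfsg.Agent.Local.isCyclic_of_unique_order (G := P) hp2 hz1 ⊤
    (hP.to_subgroup ⊤) (fun x _ hx => by
      obtain ⟨i, hi⟩ := huz ⟨x, hmem x hx⟩ (Subtype.ext (by simpa using hx))
      exact ⟨i, by simpa using congrArg Subtype.val hi⟩)
  exact ⟨g, fun x => (show x ∈ zpowers g from hg ▸ mem_top x)⟩

/-- The two subgroup facts used for the statement. -/
theorem unique_of_map_normal {G : Type*} [Group G] [Finite G] {p : ℕ} (P : Sylow p G)
    (hC : ∀ H K : Subgroup G, IsPGroup p H → IsPGroup p K → Nat.card H = Nat.card K →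
      ∃ g : G, K = H.map (MulAut.conj g).toMonoidHom)
    (K : Subgroup G) [K.Normal] (hPK : (P : Subgroup G) ⊓ K = ⊥)
    (U : Subgroup ↥(P : Subgroup G))
    (hU : ((U.map (P : Subgroup G).subtype).map (QuotientGroup.mk' K)).Normal)
    (A : Subgroup ↥(P : Subgroup G)) (hA : Nat.card A = Nat.card U) : A = U := by
  have hc : ∀ B : Subgroup ↥(P : Subgroup G), IsPGroup p (B.map (P : Subgroup G).subtype) :=
    fun B => P.isPGroup'.to_le (map_subtype_le B)
  obtain ⟨g, hg⟩ := hC _ _ (hc U) (hc A) (by
    rw [card_map_of_injective (subtype_injective _), card_map_of_injective (subtype_injective _),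
      hA])
  have hinj : Function.Injective ((QuotientGroup.mk' K).comp (P : Subgroup G).subtype) := by
    rw [← MonoidHom.ker_eq_bot_iff, eq_bot_iff]
    intro x hx
    have h1 : (x : G) ∈ (P : Subgroup G) ⊓ K :=
      ⟨x.2, (QuotientGroup.eq_one_iff _).mp (by simpa using hx)⟩
    rw [hPK, Subgroup.mem_bot] at h1
    exact Subgroup.mem_bot.mpr (Subtype.ext h1)
  refine map_injective hinj ?_
  rw [← map_map, ← map_map, hg]
  apply le_antisymm
  · rintro _ ⟨_, ⟨a, ha, rfl⟩, rfl⟩
    simpa using hU.conj_mem _ (mem_map_of_mem (QuotientGroup.mk' K) ha) (QuotientGroup.mk' K g)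
  · intro x hx
    obtain ⟨a, ha, hax⟩ := mem_map.mp (hU.conj_mem _ hx (QuotientGroup.mk' K g)⁻¹)
    refine mem_map.mpr ⟨g * a * g⁻¹, mem_map_of_mem (MulAut.conj g).toMonoidHom ha, ?_⟩
    rw [map_mul, map_mul, map_inv, hax]
    group

/-- Let p be an odd prime and G a finite group in which any two p-subgroups of the same order are conjugate, with Sylow p-subgroup P. If H is a normal p-solvable subgroup of G whose order is divisible by p, then P is abelian, and either P ≤ H or P is cyclic. -/
theorem result {G : Type*} [Group G] [Finite G]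
    {p : ℕ} [Fact p.Prime] (hp : p ≠ 2) (hC : ∀ H K : Subgroup G, IsPGroup p H → IsPGroup p K → Nat.card H = Nat.card K →
      ∃ g : G, K = H.map (MulAut.conj g).toMonoidHom) (P : Sylow p G)
    (H : Subgroup G) [H.Normal] (hsolv : Cfsg.IsPSolvable p H) (hdiv : p ∣ Nat.card H) :
    IsMulCommutative P ∧ ((P : Subgroup G) ≤ H ∨ IsCyclic P) := by
  classical
  have hp1 : p.Prime := Fact.out
  obtain ⟨K, hK, hmax⟩ := (Set.toFinite {N : Subgroup G | N.Normal ∧ N ≤ H ∧
    (Nat.card N).Coprime p}).exists_maximal ⟨⊥, inferInstance, bot_le, by simp⟩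
  obtain ⟨hKn, hKH, hKp⟩ : K.Normal ∧ K ≤ H ∧ (Nat.card K).Coprime p := hK
  set f := QuotientGroup.mk' K with hf
  have hfs : Function.Surjective f := QuotientGroup.mk'_surjective K
  have hHn : (H.map f).Normal := Normal.map inferInstance f hfs
  have hdvdH : p ∣ Nat.card (H.map f) := by
    have h1 := Solv.card_map_mk'_mul K H hKH
    have h2 : p ∣ Nat.card (H.map f) * Nat.card K := by rw [hf, mul_comm, h1]; exact hdiv
    rcases hp1.dvd_mul.mp h2 with h | h
    · exact h
    · exact absurd h ((Nat.Prime.coprime_iff_not_dvd hp1).mp hKp.symm)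
  haveI : Nontrivial (H.map f) :=
    Finite.one_lt_card_iff_nontrivial.mp (lt_of_lt_of_le hp1.one_lt (Nat.le_of_dvd Nat.card_pos hdvdH))
  have hsolv' : IsPSolvable p (H.map f) :=
    Solv.isPSolvable_of_surjective (f.subgroupMap H) (f.subgroupMap_surjective H) hsolv
  haveI := Solv.pCore_characteristic p (H.map f)
  haveI := Solv.pPrimeCore_characteristic p (H.map f)
  set M := (pCore p (H.map f)).map (H.map f).subtype with hM
  have hMn : M.Normal := inferInstance
  have hMp : IsPGroup p M := (Solv.isPGroup_pCore p _).map _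
  have hMne : M ≠ ⊥ := by
    intro hb
    rw [hM, map_eq_bot_iff_of_injective _ (subtype_injective _)] at hb
    rcases Solv.core_ne_bot_of_isPSolvable hsolv' with h | h
    · exact h hb
    set N := ((pPrimeCore p (H.map f)).map (H.map f).subtype).comap f with hN
    have hNH : N ≤ H := by
      have h2 := (comap_mono (f := f) (map_subtype_le (pPrimeCore p (H.map f))))
      rw [comap_map_eq, hf, QuotientGroup.ker_mk', sup_eq_left.mpr hKH] at h2
      exact h2
    have hKN : K ≤ N := fun x hx => by
      rw [hN, Subgroup.mem_comap, show f x = 1 from (QuotientGroup.eq_one_iff x).mpr hx]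
      exact one_mem _
    have hNp : (Nat.card N).Coprime p := by
      rw [hN, hf, Solv.card_comap_mk', card_map_of_injective (subtype_injective _)]
      exact hKp.mul_left (Solv.card_pPrimeCore_coprime p _)
    have hNK : N = K := le_antisymm (hmax ⟨Normal.comap inferInstance f, hNH, hNp⟩ hKN) hKN
    apply h
    rw [← map_eq_bot_iff_of_injective _ (subtype_injective (H.map f))]
    rw [← map_comap_eq_self_of_surjective hfs ((pPrimeCore p (H.map f)).map (H.map f).subtype),
      ← hN, hNK, QuotientGroup.map_mk'_self]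
  have hMP : M ≤ (P : Subgroup G).map f := by
    have h1 := (Solv.le_pCore (hN := hMn) hMp).trans (Solv.pCore_le_sylow (P.mapSurjective hfs))
    simpa using h1
  have hPK : (P : Subgroup G) ⊓ K = ⊥ := by
    obtain ⟨k, hk⟩ := IsPGroup.iff_card.mp P.isPGroup'
    exact inf_eq_bot_of_coprime (hk ▸ (Nat.Coprime.pow_left k hKp.symm))
  set U : Subgroup ↥(P : Subgroup G) := M.comap (f.comp (P : Subgroup G).subtype) with hUdef
  have hUM : (U.map (P : Subgroup G).subtype).map f = M := by
    rw [map_map, hUdef, map_comap_eq, MonoidHom.range_comp, range_subtype]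
    exact inf_eq_right.mpr hMP
  have hU1 : U ≠ ⊥ := fun h => hMne (by rw [← hUM, h]; simp)
  by_cases hU2 : U = ⊤
  · have hPH : (P : Subgroup G) ≤ H := by
      intro x hx
      have h1 : f x ∈ M := by
        have : (⟨x, hx⟩ : ↥(P : Subgroup G)) ∈ U := hU2 ▸ mem_top _
        simpa [hUdef] using this
      have h2 : x ∈ (H.map f).comap f := (show M ≤ H.map f from map_subtype_le _) h1
      rwa [comap_map_eq, hf, QuotientGroup.ker_mk', sup_eq_left.mpr hKH] at h2
    refine ⟨?_, Or.inl hPH⟩
    haveI : Nontrivial ↥(P : Subgroup G) := by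
      by_contra hc
      rw [not_nontrivial_iff_subsingleton] at hc
      exact hU1 (Subsingleton.elim _ _)
    set Z := center ↥(P : Subgroup G) with hZ
    have hZ1 : Z ≠ ⊥ := fun h => by
      haveI := P.isPGroup'.center_nontrivial
      rw [hZ] at h
      exact not_subsingleton (center ↥(P : Subgroup G)) (h ▸ inferInstance)
    by_cases hZ2 : Z = ⊤
    · exact ⟨⟨fun a b => (mem_center_iff.mp (hZ2 ▸ mem_top a : a ∈ Z) b).symm⟩⟩
    have hZn : ((Z.map (P : Subgroup G).subtype).map f).Normal := by
      constructor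
      rintro _ ⟨_, ⟨z, hz, rfl⟩, rfl⟩ g
      have hzM : ∀ y ∈ M, f z * y = y * f z := by
        intro y hy
        rw [← hUM] at hy
        obtain ⟨_, ⟨w, -, rfl⟩, rfl⟩ := hy
        rw [← map_mul, ← map_mul]
        exact congrArg (fun t : ↥(P : Subgroup G) => f t) (mem_center_iff.mp hz w).symm
      have hmem : g * f z * g⁻¹ ∈ M := hMn.conj_mem _ (by
        rw [← hUM]
        exact mem_map_of_mem f (mem_map_of_mem _ (hU2 ▸ mem_top z))) g
      rw [← hUM] at hmem
      obtain ⟨_, ⟨y, -, rfl⟩, hy⟩ := hmem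
      refine ⟨y, mem_map_of_mem _ (mem_center_iff.mpr fun w => ?_), hy⟩
      have hwM : f w ∈ M := hUM ▸ mem_map_of_mem f (mem_map_of_mem _ (hU2 ▸ mem_top w))
      have h3 := hzM _ (hMn.conj_mem _ hwM g⁻¹)
      have h4 : f (((w * y : ↥(P : Subgroup G))) : G) = f ((y * w : ↥(P : Subgroup G)) : G) := by
        simp only [coe_mul, map_mul]
        change f w * f y = f y * f w
        rw [show f y = g * f z * g⁻¹ from hy]
        calc f w * (g * f z * g⁻¹) = g * ((g⁻¹ * f w * g⁻¹⁻¹) * f z) * g⁻¹ := by group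
          _ = g * (f z * (g⁻¹ * f w * g⁻¹⁻¹)) * g⁻¹ := by rw [h3]
          _ = g * f z * g⁻¹ * f w := by group
      have h5 : ((y * w : ↥(P : Subgroup G)) : G)⁻¹ * ((w * y : ↥(P : Subgroup G)) : G) ∈
          (P : Subgroup G) ⊓ K :=
        ⟨mul_mem ((P : Subgroup G).inv_mem (y * w).2) (w * y).2,
          (QuotientGroup.eq_one_iff _).mp (show f _ = 1 by rw [map_mul, map_inv, h4, inv_mul_cancel])⟩
      rw [hPK, Subgroup.mem_bot, inv_mul_eq_one] at h5
      exact Subtype.ext h5.symm
    haveI := cyclic_of_unique_card hp P.isPGroup' Z hZ1 hZ2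
      (unique_of_map_normal P hC K hPK Z hZn)
    exact IsCyclic.commutative
  · haveI := cyclic_of_unique_card hp P.isPGroup' U hU1 hU2
      (unique_of_map_normal P hC K hPK U (by rw [← hf, hUM]; exact hMn))
    exact ⟨IsCyclic.commutative, Or.inr inferInstance⟩

end Cfsg.Agent.S4024
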