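import Cfsg.Statements.S4027
import Cfsg.Agent.Lib.Struct.RealOdd

set_option autoImplicit false
open Cfsg
open Cfsg.Agent.Struct
namespace Cfsg.Agent.S4027

/-- Let G be a finite group in which every element x of odd order satisfies N_G(⟨x⟩) = C_G(x). Then the Sylow 2-subgroups of G are normal. -/
theorem result {G : Type*} [Group G] [Finite G]
    (hirr : ∀ x : G, (∀ r : ℕ, r.Prime → r ∣ orderOf x → r ≠ 2) →
      Subgroup.normalizer ((Subgroup.zpowers x : Subgroup G) : Set G) ≤ Subgroup.centralizer {x}) (P : Sylow 2 G) :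
    (P : Subgroup G).Normal := by
  refine sylow_two_normal_of_noReal P fun x hx1 hodd hc => ?_
  obtain ⟨g, hg⟩ := isConj_iff.1 hc
  have hn : g ∈ Subgroup.normalizer ((Subgroup.zpowers x : Subgroup G) : Set G) := by
    rw [Subgroup.mem_normalizer_iff_map_conj_eq, MonoidHom.map_zpowers]
    show Subgroup.zpowers (g * x * g⁻¹) = Subgroup.zpowers x
    rw [hg, Subgroup.zpowers_inv]
  have h2 := Subgroup.mem_centralizer_singleton_iff.1 (hirr x (fun r _ hd h2 => by
    subst h2
    exact Nat.not_even_iff_odd.2 hodd (even_iff_two_dvd.2 hd)) hn)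
  rw [h2, mul_inv_cancel_right] at hg
  have hsq : x ^ 2 = 1 := by
    rw [sq]
    conv_lhs => arg 2; rw [hg]
    exact mul_inv_cancel x
  exact hx1 (orderOf_eq_one_iff.1 (Nat.Coprime.eq_one_of_dvd (Nat.coprime_two_right.2 hodd)
    (orderOf_dvd_of_pow_eq_one hsq)))

end Cfsg.Agent.S4027
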