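import Cfsg.Statements.S4028
-- import your own Cfsg.Agent.* helpers here

set_option autoImplicit false
open Cfsg

namespace Cfsg.Agent.S4028

/-- Let G be a finite group with Sylow 2-subgroup P. Then N_G(⟨x⟩) = C_G(x) holds for every 2-element x of G if and only if N_P(⟨y⟩) = C_P(y) holds for every y ∈ P (computed inside P). -/
theorem result {G : Type*} [Group G] [Finite G] (P : Sylow 2 G) :
    (∀ x : G, (∀ r : ℕ, r.Prime → r ∣ orderOf x → r = 2) →
      Subgroup.normalizer ((Subgroup.zpowers x : Subgroup G) : Set G) ≤ Subgroup.centralizer {x}) ↔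
    (∀ y : ↥(P : Subgroup G), Subgroup.normalizer ((Subgroup.zpowers y : Subgroup ↥(P : Subgroup G)) : Set ↥(P : Subgroup G)) ≤
        Subgroup.centralizer {y}) := by
  haveI : Fact (Nat.Prime 2) := ⟨Nat.prime_two⟩
  constructor
  · intro h y n hn
    have h2 : ∀ r : ℕ, r.Prime → r ∣ orderOf (y : G) → r = 2 := by
      intro r hr hd
      rw [Subgroup.orderOf_coe] at hd
      obtain ⟨k, hk⟩ := IsPGroup.iff_orderOf.1 P.isPGroup' y
      rw [hk] at hd
      exact (Nat.prime_dvd_prime_iff_eq hr Nat.prime_two).1 (hr.dvd_of_dvd_pow hd)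
    have hmap : ∀ m : ↥(P : Subgroup G), m ∈ Subgroup.zpowers y ↔ (m : G) ∈ Subgroup.zpowers (y : G) := by
      intro m
      simp only [Subgroup.mem_zpowers_iff]
      exact exists_congr fun k => ⟨fun e => by rw [← e]; simp, fun e => Subtype.ext (by simpa using e)⟩
    have hn' : (n : G) ∈ Subgroup.normalizer ((Subgroup.zpowers (y : G) : Subgroup G) : Set G) := by
      rw [Subgroup.mem_normalizer_iff] at hn ⊢
      intro g
      constructor
      · intro hg
        have hgP : g ∈ (P : Subgroup G) := (Subgroup.zpowers_le.2 y.2) hg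
        exact (hmap _).1 ((hn ⟨g, hgP⟩).1 ((hmap _).2 hg))
      · intro hg
        have hgP : g ∈ (P : Subgroup G) := by
          have := mul_mem (mul_mem (inv_mem n.2) ((Subgroup.zpowers_le.2 y.2) hg)) n.2
          simpa [mul_assoc] using this
        exact (hmap ⟨g, hgP⟩).1 ((hn ⟨g, hgP⟩).2 ((hmap _).2 hg))
    have := Subgroup.mem_centralizer_singleton_iff.1 (h _ h2 hn')
    exact Subgroup.mem_centralizer_singleton_iff.2 (Subtype.ext this)
  · intro h x hx n hn
    obtain ⟨a, ha⟩ : ∃ a, orderOf x = 2 ^ a :=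
      ⟨_, Nat.eq_prime_pow_of_unique_prime_dvd (orderOf_pos x).ne' (fun {d} hd hdd => hx d hd hdd)⟩
    set H := Subgroup.normalizer ((Subgroup.zpowers x : Subgroup G) : Set G)
    have hxH : x ∈ H := Subgroup.le_normalizer (Subgroup.mem_zpowers x)
    -- a Sylow 2-subgroup of `H` containing `x`
    have hxp : IsPGroup 2 ↥((Subgroup.zpowers x).subgroupOf H) :=
      (IsPGroup.of_card (n := a) (by rw [Nat.card_zpowers, ha])).of_equiv
        (Subgroup.subgroupOfEquivOfLe (Subgroup.zpowers_le.2 hxH)).symm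
    obtain ⟨R, hR⟩ := hxp.exists_le_sylow
    obtain ⟨Q, hQ⟩ := (R.isPGroup'.map H.subtype).exists_le_sylow
    obtain ⟨g, hg⟩ := MulAction.exists_smul_eq G Q P
    have hPmem : ∀ z ∈ (Q : Subgroup G), g * z * g⁻¹ ∈ (P : Subgroup G) := by
      intro z hz; rw [← hg]; exact ⟨z, hz, rfl⟩
    have hxQ : x ∈ (Q : Subgroup G) := hQ ⟨⟨x, hxH⟩, hR (Subgroup.mem_zpowers x), rfl⟩
    -- elements of `R` centralise `x`
    have hRc : ∀ r : ↥H, r ∈ (R : Subgroup ↥H) → (r : G) * x = x * (r : G) := by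
      intro r hr
      have hrQ : (r : G) ∈ (Q : Subgroup G) := hQ ⟨r, hr, rfl⟩
      set y : ↥(P : Subgroup G) := ⟨g * x * g⁻¹, hPmem x hxQ⟩
      set m : ↥(P : Subgroup G) := ⟨g * r * g⁻¹, hPmem r hrQ⟩
      have hm : m ∈ Subgroup.normalizer ((Subgroup.zpowers y : Subgroup ↥(P : Subgroup G)) : Set ↥(P : Subgroup G)) := by
        have hm' : ∀ w : ↥(P : Subgroup G), w ∈ Subgroup.zpowers y ↔ g⁻¹ * (w : G) * g ∈ Subgroup.zpowers x := by
          intro w
          simp only [Subgroup.mem_zpowers_iff]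
          refine exists_congr fun k => ⟨fun e => ?_, fun e => Subtype.ext ?_⟩
          · rw [← e]
            show x ^ k = g⁻¹ * ((y ^ k : ↥(P : Subgroup G)) : G) * g
            rw [Subgroup.coe_zpow, conj_zpow]; group
          · rw [Subgroup.coe_zpow, conj_zpow, e]; group
        rw [Subgroup.mem_normalizer_iff]
        intro w
        rw [hm', hm', Subgroup.mem_normalizer_iff.1 r.2]
        show _ ↔ g⁻¹ * ((g * r * g⁻¹) * w * (g * r * g⁻¹)⁻¹) * g ∈ _
        rw [show g⁻¹ * ((g * r * g⁻¹) * w * (g * r * g⁻¹)⁻¹) * g = (r : G) * (g⁻¹ * w * g) * (r : G)⁻¹ by group]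
      have := congrArg Subtype.val (Subgroup.mem_centralizer_singleton_iff.1 (h y hm))
      simp only [y, m, Subgroup.coe_mul] at this
      calc (r : G) * x = g⁻¹ * ((g * r * g⁻¹) * (g * x * g⁻¹)) * g := by group
        _ = g⁻¹ * ((g * x * g⁻¹) * (g * r * g⁻¹)) * g := by rw [this]
        _ = x * r := by group
    set C : Subgroup ↥H := (Subgroup.centralizer {x}).subgroupOf H
    haveI : C.Normal := by
      refine ⟨fun c hc k => ?_⟩
      rw [Subgroup.mem_subgroupOf, Subgroup.mem_centralizer_singleton_iff] at hc ⊢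
      obtain ⟨j, hj⟩ : (k : G)⁻¹ * x * k ∈ Subgroup.zpowers x := by
        have := (Subgroup.mem_normalizer_iff.1 k.2 ((k : G)⁻¹ * x * k)).2
        rw [show (k : G) * ((k : G)⁻¹ * x * k) * (k : G)⁻¹ = x by group] at this
        exact this (Subgroup.mem_zpowers x)
      have hcj : (c : G) * ((k : G)⁻¹ * x * k) = ((k : G)⁻¹ * x * k) * c := by
        rw [← hj]; exact (Commute.zpow_right (show Commute (c : G) x from hc) j).eq
      simp only [Subgroup.coe_mul, InvMemClass.coe_inv]
      calc (k : G) * c * (k : G)⁻¹ * x = k * ((c : G) * ((k : G)⁻¹ * x * k)) * (k : G)⁻¹ := by group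
        _ = k * (((k : G)⁻¹ * x * k) * c) * (k : G)⁻¹ := by rw [hcj]
        _ = x * (k * c * (k : G)⁻¹) := by group
    -- the index of `C` is odd
    have hodd : ¬ 2 ∣ C.index := by
      intro hd
      have hRC : (R : Subgroup ↥H) ≤ C := fun r hr => by
        rw [Subgroup.mem_subgroupOf, Subgroup.mem_centralizer_singleton_iff]; exact hRc r hr
      exact R.not_dvd_index (hd.trans (Subgroup.index_dvd_of_le hRC))
    obtain ⟨k, hk⟩ : n * x * n⁻¹ ∈ Subgroup.zpowers x := (Subgroup.mem_normalizer_iff.1 hn x).1 (Subgroup.mem_zpowers x)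
    change x ^ k = n * x * n⁻¹ at hk
    have hiter : ∀ i : ℕ, n ^ i * x * (n ^ i)⁻¹ = x ^ (k ^ i) := by
      intro i
      induction i with
      | zero => simp
      | succ i ih =>
        calc n ^ (i + 1) * x * (n ^ (i + 1))⁻¹ = n ^ i * (n * x * n⁻¹) * (n ^ i)⁻¹ := by rw [pow_succ]; group
          _ = (n ^ i * x * (n ^ i)⁻¹) ^ k := by rw [← hk, conj_zpow]
          _ = x ^ (k ^ (i + 1)) := by rw [ih, ← zpow_mul, pow_succ]
    -- some power `2 ^ b` of `n` centralises `x`
    obtain ⟨b, hb⟩ : ∃ b : ℕ, n ^ 2 ^ b * x * (n ^ 2 ^ b)⁻¹ = x := by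
      refine ⟨a, ?_⟩
      rcases Nat.eq_zero_or_pos a with h0 | h0
      · rw [h0, pow_zero, orderOf_eq_one_iff] at ha
        rw [ha]; simp
      have hkodd : Odd k := by
        rw [← Int.not_even_iff_odd]
        rintro ⟨j, rfl⟩
        have h1 : orderOf (n * x * n⁻¹) = 2 ^ a := ((MulAut.conj n).orderOf_eq x).trans ha
        have h2 : (n * x * n⁻¹) ^ 2 ^ (a - 1) = 1 := by
          rw [← hk, ← zpow_natCast, ← zpow_mul, ← orderOf_dvd_iff_zpow_eq_one, ha]
          refine ⟨j, ?_⟩
          push_cast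
          calc (j + j) * 2 ^ (a - 1) = (2 ^ (a - 1) * 2) * j := by ring
            _ = 2 ^ a * j := by rw [← pow_succ, Nat.sub_add_cancel h0]
        have := orderOf_le_of_pow_eq_one (by positivity) h2
        rw [h1] at this
        exact absurd this (not_le.2 (Nat.pow_lt_pow_right one_lt_two (by omega)))
      have hdvd : ∀ i : ℕ, ((2 : ℤ) ^ (i + 1)) ∣ k ^ 2 ^ i - 1 := by
        intro i
        induction i with
        | zero => simpa using (Int.even_sub.2 (iff_of_false (Int.not_even_iff_odd.2 hkodd) (by decide))).two_dvd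
        | succ i ih =>
          rw [show k ^ 2 ^ (i + 1) - 1 = (k ^ 2 ^ i - 1) * (k ^ 2 ^ i + 1) by rw [pow_succ, pow_mul]; ring,
            pow_succ]
          exact mul_dvd_mul ih ((hkodd.pow).add_odd odd_one).two_dvd
      rw [hiter]
      have := (pow_dvd_pow (2 : ℤ) (show a ≤ a + 1 by omega)).trans (hdvd a)
      conv_rhs => rw [← zpow_one x]
      rw [zpow_eq_zpow_iff_modEq, ha]
      push_cast
      exact (Int.modEq_iff_dvd.2 this).symm
    rw [Subgroup.mem_centralizer_singleton_iff]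
    set q : ↥H ⧸ C := QuotientGroup.mk ⟨n, hn⟩
    have hq1 : q ^ 2 ^ b = 1 := by
      rw [← QuotientGroup.mk_pow, QuotientGroup.eq_one_iff, Subgroup.mem_subgroupOf,
        Subgroup.mem_centralizer_singleton_iff]
      exact mul_inv_eq_iff_eq_mul.1 hb
    have hq2 : orderOf q = 1 := by
      obtain ⟨i, -, hi⟩ := (Nat.dvd_prime_pow Nat.prime_two).1 (orderOf_dvd_of_pow_eq_one hq1)
      rcases Nat.eq_zero_or_pos i with h0 | h0
      · rw [hi, h0, pow_zero]
      · refine absurd ?_ hodd
        calc 2 ∣ orderOf q := hi ▸ dvd_pow_self 2 h0.ne'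
          _ ∣ Nat.card (↥H ⧸ C) := orderOf_dvd_natCard q
    have := (QuotientGroup.eq_one_iff _).1 (orderOf_eq_one_iff.1 hq2)
    rw [Subgroup.mem_subgroupOf, Subgroup.mem_centralizer_singleton_iff] at this
    exact this

end Cfsg.Agent.S4028
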