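import Cfsg.Statements.S4029
import Mathlib
import Cfsg.Agent.Lib.Struct.CoprimeMinimal

set_option autoImplicit false
open Cfsg
open Subgroup

namespace Cfsg.Agent.S4029

/-- Let P be a finite 2-group in which N_P(⟨y⟩) = C_P(y) for every y ∈ P. If s is the number of conjugacy classes of involutions of P, then #(P/Φ(P)) ≤ s + 1; in particular the subgroup generated by the involutions of P has order at least #(P/Φ(P)). -/
theorem result {P : Type*} [Group P] [Finite P] (hP : IsPGroup 2 P)
    (hirr : ∀ y : P, Subgroup.normalizer ((Subgroup.zpowers y : Subgroup P) : Set P) ≤ Subgroup.centralizer {y}) :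
    Nat.card (P ⧸ frattini P) ≤ Nat.card {c : ConjClasses P // ∃ y : P, ConjClasses.mk y = c ∧ orderOf y = 2} + 1 ∧
    Nat.card (P ⧸ frattini P) ≤ Nat.card (Subgroup.closure {y : P | orderOf y = 2}) := by
  classical
  haveI : Fintype P := Fintype.ofFinite P
  -- real elements square to one
  have hreal : ∀ a x : P, a⁻¹ * x * a = x⁻¹ → x * x = 1 := fun a x h => by
    have hn : a⁻¹ ∈ normalizer (zpowers x : Set P) := by
      rw [mem_normalizer_iff_map_conj_eq, MonoidHom.map_zpowers]
      show zpowers (a⁻¹ * x * a⁻¹⁻¹) = zpowers x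
      rw [inv_inv, h, zpowers_inv]
    have hc := mem_centralizer_singleton_iff.1 (hirr x hn)
    rw [hc, inv_mul_cancel_right] at h
    exact eq_inv_iff_mul_eq_one.1 h
  set Φ := frattini P
  have hΦ : ∀ a : P, a * a ∈ Φ := fun a => by
    haveI := Fact.mk Nat.prime_two
    rw [← pow_two]
    exact Cfsg.Agent.Struct.CoprimeMinimal.pow_mem_frattini hP a
  let I : Finset P := Finset.univ.filter fun x => x * x = 1
  let r : P → ℕ := fun g => (Finset.univ.filter fun a : P => a * a = g).card
  let F : Finset P := Finset.univ.filter fun g => g ∈ Φ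
  have hsum : ∑ g ∈ F, r g = Nat.card P := by
    rw [Nat.card_eq_fintype_card, ← Finset.card_univ]
    exact (Finset.card_eq_sum_card_fiberwise (f := fun a : P => a * a) (s := Finset.univ) (t := F)
      (fun a _ => by simp [F, hΦ])).symm
  -- pairs with equal squares
  have hsq : ∑ g ∈ F, r g * r g = ∑ x ∈ I, Nat.card ↥(centralizer ({x} : Set P)) := by
    let A : Finset (P × P) := Finset.univ.filter fun ab => ab.1 * ab.1 = ab.2 * ab.2
    have h1 : A.card = ∑ g ∈ F, r g * r g := by
      rw [Finset.card_eq_sum_card_fiberwise (f := fun ab : P × P => ab.1 * ab.1) (t := F)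
        (fun ab _ => by simp [F, hΦ])]
      refine Finset.sum_congr rfl fun g _ => ?_
      rw [show (A.filter fun ab => ab.1 * ab.1 = g) =
        (Finset.univ.filter fun a : P => a * a = g) ×ˢ (Finset.univ.filter fun a : P => a * a = g) by
          ext ⟨a, b⟩
          simp only [A, Finset.mem_filter, Finset.mem_univ, true_and, Finset.mem_product]
          exact ⟨fun h => ⟨h.2, h.1 ▸ h.2⟩, fun h => ⟨h.1.trans h.2.symm, h.1⟩⟩]
      exact Finset.card_product _ _
    have h2 : A.card = ∑ x ∈ I, Nat.card ↥(centralizer ({x} : Set P)) := by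
      have hmem : ∀ ab ∈ A, (ab.1⁻¹ * ab.2) ∈ I ∧ ab.1 ∈ centralizer ({ab.1⁻¹ * ab.2} : Set P) := by
        rintro ⟨a, b⟩ hab
        simp only [A, Finset.mem_filter, Finset.mem_univ, true_and] at hab
        have hx : a⁻¹ * (a⁻¹ * b) * a = (a⁻¹ * b)⁻¹ := by
          calc a⁻¹ * (a⁻¹ * b) * a = (a * a)⁻¹ * b * a := by group
            _ = (b * b)⁻¹ * b * a := by rw [hab]
            _ = _ := by group
        have h2 := hreal _ _ hx
        refine ⟨by simpa [I] using h2, mem_centralizer_singleton_iff.2 ?_⟩
        rw [inv_eq_of_mul_eq_one_right h2] at hx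
        calc a * (a⁻¹ * b) = a * (a⁻¹ * (a⁻¹ * b) * a) := by rw [hx]
          _ = (a⁻¹ * b) * a := by group
      rw [Finset.card_eq_sum_card_fiberwise (f := fun ab : P × P => ab.1⁻¹ * ab.2) (t := I)
        (fun ab h => (hmem ab h).1)]
      refine Finset.sum_congr rfl fun x hx => ?_
      rw [Nat.card_eq_fintype_card, ← Finset.card_univ]
      refine Finset.card_bij' (fun ab h => (⟨ab.1, ?_⟩ : centralizer ({x} : Set P))) (fun a _ => ((a : P), (a : P) * x)) ?_ ?_ ?_ ?_
      · obtain ⟨h', rfl⟩ := Finset.mem_filter.1 h
        exact (hmem ab h').2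
      · intros; exact Finset.mem_univ _
      · intro a _
        have hc := mem_centralizer_singleton_iff.1 a.2
        have hx2 : x * x = 1 := by simpa [I] using hx
        simp only [A, Finset.mem_filter, Finset.mem_univ, true_and]
        refine ⟨?_, by group⟩
        calc (a : P) * a = a * a * (x * x) := by rw [hx2, mul_one]
          _ = a * (a * x) * x := by group
          _ = a * (x * a) * x := by rw [hc]
          _ = _ := by group
      · rintro ⟨a, b⟩ h
        obtain ⟨-, h'⟩ := Finset.mem_filter.1 h
        subst h'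
        exact Prod.ext rfl (by simp)
      · intro a _; rfl
    rw [← h1, h2]
  -- class count
  set T := (I.image ConjClasses.mk)
  have hclass : ∑ x ∈ I, Nat.card ↥(centralizer ({x} : Set P)) = Nat.card P * T.card := by
    rw [← Finset.sum_fiberwise_of_maps_to (g := ConjClasses.mk) (t := T) (fun x hx => Finset.mem_image_of_mem _ hx),
      mul_comm, ← smul_eq_mul, ← Finset.sum_const]
    refine Finset.sum_congr rfl fun c hc => ?_
    obtain ⟨x, hx, rfl⟩ := Finset.mem_image.1 hc
    have hset : (I.filter fun y => ConjClasses.mk y = ConjClasses.mk x) =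
        Finset.univ.filter fun y => IsConj x y := by
      ext y
      simp only [I, Finset.mem_filter, Finset.mem_univ, true_and, ConjClasses.mk_eq_mk_iff_isConj] at hx ⊢
      refine ⟨fun h => h.2.symm, fun h => ⟨?_, h.symm⟩⟩
      obtain ⟨u, rfl⟩ := isConj_iff.1 h
      calc u * x * u⁻¹ * (u * x * u⁻¹) = u * (x * x) * u⁻¹ := by group
        _ = 1 := by rw [hx]; group
    rw [hset]
    have hcardy : ∀ y ∈ (Finset.univ.filter fun y => IsConj x y),
        Nat.card ↥(centralizer ({y} : Set P)) = Nat.card ↥(centralizer ({x} : Set P)) := by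
      intro y hy
      obtain ⟨u, rfl⟩ := isConj_iff.1 (Finset.mem_filter.1 hy).2
      have he : centralizer ({u * x * u⁻¹} : Set P) = (centralizer ({x} : Set P)).map (MulAut.conj u).toMonoidHom := by
        ext z
        rw [Subgroup.mem_map_equiv, mem_centralizer_singleton_iff, mem_centralizer_singleton_iff, MulAut.conj_symm_apply]
        constructor
        · intro h
          calc u⁻¹ * z * u * x = u⁻¹ * (z * (u * x * u⁻¹)) * u := by group
            _ = u⁻¹ * (u * x * u⁻¹ * z) * u := by rw [h]
            _ = _ := by group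
        · intro h
          calc z * (u * x * u⁻¹) = u * (u⁻¹ * z * u * x) * u⁻¹ := by group
            _ = u * (x * (u⁻¹ * z * u)) * u⁻¹ := by rw [h]
            _ = _ := by group
      rw [he, card_map_of_injective (MulAut.conj u).injective]
    rw [Finset.sum_congr rfl hcardy, Finset.sum_const, smul_eq_mul]
    have hos := MulAction.card_orbit_mul_card_stabilizer_eq_card_group (ConjAct P) x
    rw [← Nat.card_eq_fintype_card, ← Nat.card_eq_fintype_card, ← Nat.card_eq_fintype_card] at hos
    rw [Nat.card_congr (ConjAct.ofConjAct (G := P)).toEquiv] at hos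
    convert hos using 2
    · rw [Nat.card_coe_set_eq, ← Set.ncard_coe_finset]
      congr 1
      ext y
      simp only [Finset.coe_filter, Finset.mem_univ, true_and, Set.mem_setOf_eq, ConjAct.mem_orbit_conjAct]
      exact isConj_comm
    · rw [ConjAct.stabilizer_eq_centralizer]
      rfl
  have hCS : Nat.card P * Nat.card P ≤ Nat.card Φ * (Nat.card P * T.card) := by
    rw [← hclass, ← hsq, ← hsum]
    have h := sq_sum_le_card_mul_sum_sq (s := F) (f := r)
    have hF : F.card = Nat.card Φ := by rw [Nat.card_eq_fintype_card, Fintype.card_subtype]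
    simpa [pow_two, hF] using h
  have hmain : Nat.card (P ⧸ Φ) ≤ T.card := by
    rw [mul_left_comm] at hCS
    have h := Nat.le_of_mul_le_mul_left hCS Nat.card_pos
    rw [Subgroup.card_eq_card_quotient_mul_card_subgroup Φ, mul_comm] at h
    exact Nat.le_of_mul_le_mul_left h Nat.card_pos
  constructor
  · refine hmain.trans ?_
    rw [Nat.card_eq_fintype_card, Fintype.card_subtype]
    refine le_trans ?_ (Finset.card_insert_le (ConjClasses.mk 1) _)
    refine Finset.card_le_card fun c hc => ?_
    obtain ⟨y, hy, rfl⟩ := Finset.mem_image.1 hc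
    have hy2 : y * y = 1 := by simpa [I] using hy
    rcases eq_or_ne y 1 with rfl | hy1
    · exact Finset.mem_insert_self _ _
    · refine Finset.mem_insert_of_mem (Finset.mem_filter.2 ⟨Finset.mem_univ _, y, rfl, ?_⟩)
      haveI := Fact.mk Nat.prime_two
      exact orderOf_eq_prime (by rw [pow_two, hy2]) hy1
  · refine hmain.trans (Finset.card_image_le.trans ?_)
    rw [Nat.card_eq_fintype_card, Fintype.card_subtype]
    refine Finset.card_le_card fun y hy => ?_
    have hy2 : y * y = 1 := by simpa [I] using hy
    simp only [Finset.mem_filter, Finset.mem_univ, true_and]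
    rcases eq_or_ne y 1 with rfl | hy1
    · exact one_mem _
    · haveI := Fact.mk Nat.prime_two
      exact subset_closure (orderOf_eq_prime (by rw [pow_two, hy2]) hy1)

end Cfsg.Agent.S4029
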