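import Cfsg.Statements.S4032
import Cfsg.Agent.Lib.Solv.SchurZassenhaus

set_option autoImplicit false
open Cfsg
open Subgroup
open scoped Pointwise

namespace Cfsg.Agent.S4032

/-- Let π be a set of primes and G a finite group in which N_G(⟨x⟩) = C_G(x) for every π-element x. If N is a normal subgroup of G whose order is divisible by no prime of π, then G/N has the same property: N_{G/N}(⟨y⟩) = C_{G/N}(y) for every π-element y of G/N. -/
theorem result {G : Type*} [Group G] [Finite G] (π : Set ℕ)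
    (hirr : ∀ x : G, (∀ r : ℕ, r.Prime → r ∣ orderOf x → r ∈ π) →
      Subgroup.normalizer ((Subgroup.zpowers x : Subgroup G) : Set G) ≤ Subgroup.centralizer {x})
    (N : Subgroup G) [N.Normal] (hN : ∀ r : ℕ, r.Prime → r ∣ Nat.card N → r ∉ π) :
    ∀ y : G ⧸ N, (∀ r : ℕ, r.Prime → r ∣ orderOf y → r ∈ π) →
      Subgroup.normalizer ((Subgroup.zpowers y : Subgroup (G ⧸ N)) : Set (G ⧸ N)) ≤ Subgroup.centralizer {y} := by
  intro y hy q hq
  obtain ⟨g, rfl⟩ := QuotientGroup.mk'_surjective N y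
  obtain ⟨n, rfl⟩ := QuotientGroup.mk'_surjective N q
  set π' := QuotientGroup.mk' N
  set r := orderOf (π' g) with hr
  have hco : (Nat.card N).Coprime r := Nat.coprime_of_dvd fun t ht h1 h2 => hN t ht h1 (hy t ht h2)
  obtain ⟨c, hc1, hc2⟩ := Nat.chineseRemainder hco 0 1
  obtain ⟨d, hd⟩ := Nat.modEq_zero_iff_dvd.1 hc1
  set x := g ^ c with hx
  have hxr : x ^ r = 1 := by
    rw [hx, ← pow_mul, hd, mul_assoc, mul_comm d r, mul_left_comm, pow_mul]
    have h1 : g ^ r ∈ N := (QuotientGroup.eq_one_iff _).1 (show π' (g ^ r) = 1 by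
      rw [map_pow, hr, pow_orderOf_eq_one])
    rw [pow_mul]
    have h2 : (g ^ r) ^ Nat.card N = 1 :=
      congrArg Subtype.val (pow_card_eq_one' (x := (⟨g ^ r, h1⟩ : N)))
    rw [h2, one_pow]
  have hxq : π' x = π' g := by
    rw [hx, map_pow]
    conv_rhs => rw [← pow_one (π' g)]
    rw [pow_eq_pow_iff_modEq]
    exact hc2
  have hdvd : orderOf x ∣ r := orderOf_dvd_of_pow_eq_one hxr
  have hex := hirr x fun t ht h => hy t ht (h.trans hdvd)
  have hox : orderOf x = r := Nat.dvd_antisymm hdvd (by rw [hr, ← hxq]; exact orderOf_map_dvd π' x)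
  have hK : zpowers (n * x * n⁻¹) ≤ N ⊔ zpowers x := by
    have hm : π' n * π' x * (π' n)⁻¹ ∈ (zpowers x).map π' := by
      rw [MonoidHom.map_zpowers, hxq]
      exact (mem_normalizer_iff.1 hq _).1 (mem_zpowers _)
    rw [zpowers_le]
    obtain ⟨w, hw, hwe⟩ := hm
    have h1 : (n * x * n⁻¹) * w⁻¹ ∈ N := (QuotientGroup.eq_one_iff _).1 (show π' _ = 1 by
      rw [map_mul, map_inv, hwe]; simp)
    simpa [mul_assoc] using mul_mem (mem_sup_left (T := zpowers x) h1) (mem_sup_right (S := N) hw)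
  obtain ⟨m, hm, hme⟩ := Cfsg.Agent.Solv.conj_of_card_eq N (zpowers x) (zpowers (n * x * n⁻¹))
    (Or.inr (Group.isSolvable_of_comm fun a b => mul_comm' a b)) le_normalizer_of_normal hK
    (by rw [Nat.card_zpowers, Nat.card_zpowers]
        exact orderOf_injective (MulAut.conj n : G ≃* G).toMonoidHom (MulAut.conj n).injective x)
    (by rw [Nat.card_zpowers, hox]; exact hco)
  have hnm : m⁻¹ * n ∈ normalizer (zpowers x : Set G) := by
    rw [mem_normalizer_iff_map_conj_eq, MonoidHom.map_zpowers]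
    show zpowers (m⁻¹ * n * x * (m⁻¹ * n)⁻¹) = zpowers x
    refine eq_of_le_of_card_ge (zpowers_le.2 ?_) ?_
    · have h1 : n * x * n⁻¹ ∈ MulAut.conj m • zpowers x := hme ▸ mem_zpowers _
      rw [Cfsg.Agent.Solv.mem_conj_smul] at h1
      convert h1 using 1
      group
    · rw [Nat.card_zpowers, Nat.card_zpowers]
      exact (orderOf_injective (MulAut.conj (m⁻¹ * n) : G ≃* G).toMonoidHom (MulAut.conj _).injective x).ge
  have hfin := mem_centralizer_singleton_iff.1 (hex hnm)
  have h2 := congrArg π' hfin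
  rw [mem_centralizer_singleton_iff, ← hxq]
  simp only [map_mul, map_inv, show π' m = 1 from (QuotientGroup.eq_one_iff m).2 hm,
    inv_one, one_mul] at h2
  exact h2

end Cfsg.Agent.S4032
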