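import Cfsg.Statements.S4034
import Cfsg.Agent.Lib.Struct.ClassSize
import Cfsg.Agent.Lib.Solv.Basic

set_option autoImplicit false
open Cfsg
open Cfsg.Agent.Struct
open Subgroup
open scoped commutatorElement

namespace Cfsg.Agent.S4034

universe u

/-- All regular class sizes are powers of `p`. -/
def RegPow (p : ℕ) (G : Type*) [Group G] : Prop :=
  ∀ x : G, (orderOf x).Coprime p → ∃ k, (centralizer ({x} : Set G)).index ∣ p ^ k

theorem solvable_of_regPow {p : ℕ} (hp : p.Prime) :
    ∀ (n : ℕ) (G : Type u) [Group G] [Finite G], Nat.card G = n → RegPow p G → Group.IsSolvable G := by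
  intro n
  induction n using Nat.strong_induction_on with
  | _ n ih =>
  intro G _ _ hn h
  subst hn
  rcases subsingleton_or_nontrivial G with hs | hs
  · infer_instance
  by_cases hsimp : ∃ N : Subgroup G, N.Normal ∧ N ≠ ⊥ ∧ N ≠ ⊤
  · obtain ⟨N, hN, hNb, hNt⟩ := hsimp
    refine solvable_of_normal_quotient N ?_ ?_
    · refine ih _ (lt_of_le_of_ne (card_le_card_group N) fun e => hNt (eq_top_of_card_eq N e)) N rfl
        fun x hx => ?_
      obtain ⟨k, hk⟩ := h x (by rwa [orderOf_coe])
      exact ⟨k, (index_centralizer_subtype_dvd N x).trans hk⟩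
    · refine ih _ ?_ (G ⧸ N) rfl fun y hy => ?_
      · rw [card_eq_card_quotient_mul_card_subgroup N]
        exact lt_mul_of_one_lt_right Nat.card_pos (N.one_lt_card_iff_ne_bot.mpr hNb)
      · obtain ⟨x, rfl, hx⟩ := exists_regular_lift _ (QuotientGroup.mk'_surjective N) hp hy
        obtain ⟨k, hk⟩ := h x hx
        exact ⟨k, (index_centralizer_map_dvd _ (QuotientGroup.mk'_surjective N) x).trans hk⟩
  · have hsimple : IsSimpleGroup G := ⟨fun N hN => by
      by_contra hc
      push Not at hc
      exact hsimp ⟨N, hN, hc.1, hc.2⟩⟩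
    by_cases hq : ∃ q : ℕ, q.Prime ∧ q ≠ p ∧ q ∣ Nat.card G
    · obtain ⟨q, hq, hqp, hqd⟩ := hq
      have := Fact.mk hq
      obtain ⟨x, hx⟩ := exists_prime_orderOf_dvd_card' q hqd
      have hx1 : x ≠ 1 := by rintro rfl; exact hq.ne_one (hx.symm.trans orderOf_one)
      exact solvable_of_simple_class_prime_pow hp hx1
        (h x (hx ▸ (Nat.coprime_primes hq hp).2 hqp))
    · push Not at hq
      have := Fact.mk hp
      have hG : Nat.card G = p ^ (Nat.card G).factorization p := by
        refine Nat.eq_of_factorization_eq Nat.card_pos.ne' (pow_ne_zero _ hp.ne_zero) fun r => ?_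
        rw [hp.factorization_pow]
        by_cases hr : r = p
        · subst hr; simp
        · rw [Finsupp.single_eq_of_ne hr]
          by_cases hr' : r.Prime
          · exact Nat.factorization_eq_zero_of_not_dvd (hq r hr' hr)
          · exact Nat.factorization_eq_zero_of_not_prime _ hr'
      have := (IsPGroup.of_card hG).isNilpotent
      infer_instance

theorem exists_complement_of_regPow {p : ℕ} (hp : p.Prime) :
    ∀ (n : ℕ) (G : Type u) [Group G] [Finite G], Nat.card G = n → RegPow p G → Group.IsSolvable G →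
      ∃ H : Subgroup G, IsMulCommutative H ∧ ¬ p ∣ Nat.card H ∧ ∃ k : ℕ, H.index = p ^ k := by
  intro n
  induction n using Nat.strong_induction_on with
  | _ n ih =>
  intro G _ _ hn h hsol
  subst hn
  have := Fact.mk hp
  by_cases hP : Cfsg.pCore p G = ⊥
  · -- the Fitting subgroup is the complement
    set F := Cfsg.fittingSubgroup G with hF
    have hFn : F.Normal := inferInstance
    have hnil := Cfsg.Agent.Solv.fittingSubgroup_isNilpotent G
    have hFp : ¬ p ∣ Nat.card F := by
      intro hd
      obtain ⟨P⟩ := (inferInstance : Nonempty (Sylow p F))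
      have hPn : (P : Subgroup F).Normal :=
        ((Group.isNilpotent_of_finite_tfae (G := F)).out 0 3 rfl rfl).1 hnil p inferInstance P
      have h1 : ((P : Subgroup F)).map F.subtype ≤ Cfsg.pCore p G := by
        refine le_trans (map_mono (Cfsg.Agent.Solv.le_pCore P.isPGroup')) ?_
        rw [Cfsg.Agent.Solv.pCore_map_subtype]; exact inf_le_left
      rw [hP, le_bot_iff, map_eq_bot_iff_of_injective _ F.subtype_injective] at h1
      have h2 := P.dvd_card_of_dvd_card hd
      have h3 : Nat.card P = 1 := by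
        show Nat.card ↥(P : Subgroup F) = 1
        rw [h1, card_bot]
      rw [h3, Nat.dvd_one] at h2
      exact hp.ne_one h2
    have hcen : ∀ x : G, (orderOf x).Coprime p → x ∈ centralizer (F : Set G) := by
      intro x hx
      obtain ⟨k, hk⟩ := h x hx
      set C := centralizer ({x} : Set G)
      have h0 : C.relIndex F ∣ p ^ k := by
        have e1 := relIndex_mul_index (inf_le_left : C ⊓ F ≤ C)
        have e2 := relIndex_mul_index (inf_le_right : C ⊓ F ≤ F)
        rw [inf_relIndex_left] at e1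
        rw [inf_relIndex_right] at e2
        obtain ⟨e, he⟩ := (relIndex_dvd_index_of_normal F C : F.relIndex C ∣ F.index)
        have h0 : F.relIndex C ≠ 0 := fun h0 => F.index_ne_zero_of_finite (by rw [he, h0, zero_mul])
        refine dvd_trans ⟨e, Nat.eq_of_mul_eq_mul_left (Nat.pos_of_ne_zero h0) ?_⟩ hk
        rw [e1, ← e2, he]; ring
      have h1 : C.relIndex F ∣ Nat.card F := index_dvd_card _
      have h2 : C.relIndex F = 1 := Nat.eq_one_of_dvd_coprimes
        (Nat.Coprime.pow_left k ((hp.coprime_iff_not_dvd).2 hFp)) h0 h1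
      rw [relIndex_eq_one] at h2
      rw [mem_centralizer_iff]
      intro f hf
      exact mem_centralizer_singleton_iff.1 (h2 hf)
    have hinF : ∀ x : G, (orderOf x).Coprime p → x ∈ F := fun x hx =>
      Cfsg.Agent.Solv.centralizer_fittingSubgroup_le (hcen x hx)
    refine ⟨F, ⟨⟨fun a b => Subtype.ext ?_⟩⟩, hFp, (Nat.card G).factorization p, ?_⟩
    · have hb : (orderOf (b : G)).Coprime p :=
        Nat.Coprime.coprime_dvd_left (orderOf_dvd_natCard _ b.2) ((hp.coprime_iff_not_dvd).2 hFp).symm
      exact mem_centralizer_iff.1 (hcen _ hb) a a.2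
    · refine Nat.eq_of_factorization_eq F.index_ne_zero_of_finite (pow_ne_zero _ hp.ne_zero) fun r => ?_
      rw [hp.factorization_pow]
      have hmul : F.index.factorization r + (Nat.card F).factorization r = (Nat.card G).factorization r := by
        rw [← F.index_mul_card, Nat.factorization_mul F.index_ne_zero_of_finite Nat.card_pos.ne']
        rfl
      by_cases hr : r = p
      · subst hr
        rw [Nat.factorization_eq_zero_of_not_dvd hFp] at hmul
        simpa using hmul
      rw [Finsupp.single_eq_of_ne hr]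
      by_cases hr' : r.Prime
      · have := Fact.mk hr'
        obtain ⟨Q⟩ := (inferInstance : Nonempty (Sylow r G))
        have hQF : (Q : Subgroup G) ≤ F := fun x hx => hinF x (by
          refine Nat.Coprime.coprime_dvd_left (orderOf_dvd_natCard _ hx) ?_
          show Nat.Coprime (Nat.card Q) p
          rw [Q.card_eq_multiplicity]
          exact ((Nat.coprime_primes hr' hp).2 hr).pow_left _)
        have h4 := card_dvd_of_le hQF
        rw [Q.card_eq_multiplicity] at h4
        have := (hr'.pow_dvd_iff_le_factorization Nat.card_pos.ne').1 h4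
        omega
      · exact Nat.factorization_eq_zero_of_not_prime _ hr'
  · set N := Cfsg.pCore p G with hNdef
    have hlt : Nat.card (G ⧸ N) < Nat.card G := by
      rw [card_eq_card_quotient_mul_card_subgroup N]
      exact lt_mul_of_one_lt_right Nat.card_pos (N.one_lt_card_iff_ne_bot.mpr hP)
    obtain ⟨H, hHab, hHp, k, hk⟩ := ih _ hlt (G ⧸ N) rfl
      (fun y hy => by
        obtain ⟨x, rfl, hx⟩ := exists_regular_lift _ (QuotientGroup.mk'_surjective N) hp hy
        obtain ⟨k, hk⟩ := h x hx
        exact ⟨k, (index_centralizer_map_dvd _ (QuotientGroup.mk'_surjective N) x).trans hk⟩)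
      inferInstance
    set K := H.comap (QuotientGroup.mk' N)
    obtain ⟨a, ha⟩ := IsPGroup.iff_card.1 (Cfsg.Agent.Solv.isPGroup_pCore p G)
    have hNK : N ≤ K := fun x hx => by simp [K, (QuotientGroup.eq_one_iff x).2 hx]
    have hN' : Nat.card (N.subgroupOf K) = p ^ a := by
      rw [Nat.card_congr (subgroupOfEquivOfLe hNK).toEquiv, ha]
    have hidx : (N.subgroupOf K).index = Nat.card H := by
      have h := relIndex_map_map (H := N) (K := K) (f := QuotientGroup.mk' N)
      rw [map_comap_eq_self_of_surjective (QuotientGroup.mk'_surjective N),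
        QuotientGroup.map_mk'_self, relIndex_bot_left, QuotientGroup.ker_mk'] at h
      rw [h, sup_idem, sup_eq_left.2 hNK]
      rfl
    obtain ⟨C, hC⟩ := exists_right_complement'_of_coprime (N := N.subgroupOf K)
      (by rw [hN', hidx]; exact Nat.Coprime.pow_left a ((hp.coprime_iff_not_dvd).2 hHp))
    refine ⟨C.map K.subtype, ?_, ?_, a + k, ?_⟩
    · refine ⟨⟨fun c d => ?_⟩⟩
      obtain ⟨_, c₀, hc, rfl⟩ := c
      obtain ⟨_, d₀, hd, rfl⟩ := d
      apply Subtype.ext
      show (c₀ : G) * d₀ = d₀ * c₀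
      have hcd : QuotientGroup.mk' N (c₀ : G) * QuotientGroup.mk' N (d₀ : G) =
          QuotientGroup.mk' N (d₀ : G) * QuotientGroup.mk' N (c₀ : G) :=
        congrArg Subtype.val (@mul_comm' H _ hHab ⟨_, c₀.2⟩ ⟨_, d₀.2⟩)
      have hmem : ⁅c₀, d₀⁆ ∈ (N.subgroupOf K) ⊓ C := by
        refine ⟨?_, C.mul_mem (C.mul_mem (C.mul_mem hc hd) (C.inv_mem hc)) (C.inv_mem hd)⟩
        show ((⁅c₀, d₀⁆ : K) : G) ∈ N
        rw [← QuotientGroup.eq_one_iff]
        show QuotientGroup.mk' N ((c₀ : G) * d₀ * (c₀ : G)⁻¹ * (d₀ : G)⁻¹) = 1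
        rw [map_mul, map_mul, map_mul, hcd, map_inv, map_inv, mul_inv_cancel_right, mul_inv_cancel]
      rw [hC.disjoint.eq_bot, mem_bot, commutatorElement_eq_one_iff_mul_comm] at hmem
      exact congrArg Subtype.val hmem
    · rw [card_map_of_injective K.subtype_injective, ← hC.symm.index_eq_card, hidx]
      exact hHp
    · have e2 := relIndex_mul_index (map_subtype_le C)
      have e3 : (C.map K.subtype).relIndex K = C.index := by
        show ((C.map K.subtype).subgroupOf K).index = _
        rw [subgroupOf, comap_map_eq_self_of_injective K.subtype_injective]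
      rw [e3, hC.index_eq_card, hN', index_comap_of_surjective _ (QuotientGroup.mk'_surjective N), hk] at e2
      rw [← e2, pow_add]

theorem conj_into {p : ℕ} (hp : p.Prime) :
    ∀ (n : ℕ) (G : Type u) [Group G] [Finite G] (x : G), orderOf x = n → ∀ H : Subgroup G,
      IsMulCommutative H → ¬ p ∣ Nat.card H → (∃ k : ℕ, H.index ∣ p ^ k) → (orderOf x).Coprime p →
      ∃ g : G, g * x * g⁻¹ ∈ H := by
  intro n
  induction n using Nat.strong_induction_on with
  | _ n ih =>
  intro G _ _ x hn H hab hH hk hx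
  subst hn
  obtain ⟨k, hk⟩ := hk
  by_cases hx1 : orderOf x = 1
  · exact ⟨1, by rw [orderOf_eq_one_iff.1 hx1]; simp⟩
  obtain ⟨q, hq, hqd⟩ := Nat.exists_prime_and_dvd hx1
  have hqp : q ≠ p := fun e => hp.not_dvd_one (hx ▸ Nat.dvd_gcd (e ▸ hqd) dvd_rfl)
  have := Fact.mk hq
  set m := orderOf x with hm
  have hm0 : 0 < m := orderOf_pos x
  set A := q ^ m.factorization q with hA
  set B := m / A with hB
  have hAB : A * B = m := Nat.ordProj_mul_ordCompl_eq_self m q
  have hcop : A.Coprime B := (Nat.coprime_ordCompl hq hm0.ne').pow_left _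
  have hbez : (1 : ℤ) = (A : ℤ) * A.gcdA B + (B : ℤ) * A.gcdB B := by
    have := Nat.gcd_eq_gcd_ab A B; rwa [hcop, Nat.cast_one] at this
  set y := x ^ ((B : ℤ) * A.gcdB B)
  set z := x ^ ((A : ℤ) * A.gcdA B)
  have hyA : orderOf y ∣ A := by
    apply orderOf_dvd_of_pow_eq_one
    rw [← zpow_natCast, ← zpow_mul, show (B : ℤ) * A.gcdB B * A = ((A * B : ℕ) : ℤ) * A.gcdB B by
      push_cast; ring, zpow_mul, zpow_natCast, hAB, hm, pow_orderOf_eq_one, one_zpow]
  have hzB : orderOf z ∣ B := by
    apply orderOf_dvd_of_pow_eq_one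
    rw [← zpow_natCast, ← zpow_mul, show (A : ℤ) * A.gcdA B * B = ((A * B : ℕ) : ℤ) * A.gcdA B by
      push_cast; ring, zpow_mul, zpow_natCast, hAB, hm, pow_orderOf_eq_one, one_zpow]
  have hyz : y * z = x := by rw [← zpow_add, add_comm, ← hbez, zpow_one]
  have hcomm : Commute y z := (Commute.refl x).zpow_zpow _ _
  -- move the q-part into H
  obtain ⟨QH⟩ := (inferInstance : Nonempty (Sylow q H))
  have hQcard : Nat.card ↥((QH : Subgroup H).map H.subtype) = q ^ (Nat.card G).factorization q := by
    rw [card_map_of_injective H.subtype_injective]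
    refine (QH.card_eq_multiplicity).trans ?_
    congr 1
    rw [← H.index_mul_card, Nat.factorization_mul H.index_ne_zero_of_finite Nat.card_pos.ne']
    have h0 : H.index.factorization q = 0 := Nat.factorization_eq_zero_of_not_dvd fun hd =>
      hqp ((Nat.prime_dvd_prime_iff_eq hq hp).1 (hq.dvd_of_dvd_pow (hd.trans hk)))
    simp [h0]
  let Q : Sylow q G := Sylow.ofCard _ hQcard
  have hypg : IsPGroup q (zpowers y) := by
    obtain ⟨j, -, hj⟩ := (Nat.dvd_prime_pow hq).1 hyA
    exact IsPGroup.of_card (n := j) (by rw [Nat.card_zpowers, hj])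
  obtain ⟨Q', hQ'⟩ := hypg.exists_le_sylow
  obtain ⟨c, hc⟩ := MulAction.exists_smul_eq G Q' Q
  have hyH : c * y * c⁻¹ ∈ H := by
    have h1 : c * y * c⁻¹ ∈ (Q : Subgroup G) := by
      rw [← hc, Sylow.coe_subgroup_smul]
      exact ⟨y, hQ' (mem_zpowers y), rfl⟩
    exact map_subtype_le _ h1
  set C := centralizer ({c * y * c⁻¹} : Set G)
  have hHC : H ≤ C := fun u hu => by
    rw [mem_centralizer_singleton_iff]
    have := hab
    exact congrArg Subtype.val (mul_comm' (⟨u, hu⟩ : H) ⟨_, hyH⟩)
  have hzC : c * z * c⁻¹ ∈ C := by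
    rw [mem_centralizer_singleton_iff]
    show c * z * c⁻¹ * (c * y * c⁻¹) = c * y * c⁻¹ * (c * z * c⁻¹)
    rw [conj_mul, conj_mul, hcomm.eq]
  have hzo : orderOf (⟨_, hzC⟩ : C) = orderOf z := by
    rw [← orderOf_coe]
    exact MulEquiv.orderOf_eq (MulAut.conj c) z
  have hBlt : B < m := by
    have hA1 : 1 < A := Nat.one_lt_pow (hq.factorization_pos_of_dvd hm0.ne' hqd).ne' hq.one_lt
    exact Nat.div_lt_self hm0 hA1
  obtain ⟨d, hd⟩ := ih (orderOf z) (lt_of_le_of_lt (Nat.le_of_dvd (Nat.pos_of_ne_zero (by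
      rintro h0; rw [h0, mul_zero] at hAB; omega)) hzB) hBlt) C ⟨_, hzC⟩ hzo (H.subgroupOf C)
    (by have := hab; exact subgroupOf_isMulCommutative C H)
    (by rwa [Nat.card_congr (subgroupOfEquivOfLe hHC).toEquiv])
    ⟨k, (Dvd.intro _ (relIndex_mul_index hHC)).trans hk⟩
    (by rw [hzo]; exact Nat.Coprime.coprime_dvd_left (hzB.trans (Dvd.intro_left _ hAB)) hx)
  refine ⟨(d : G) * c, ?_⟩
  have e : (d : G) * c * x * ((d : G) * c)⁻¹ =
      ((d : G) * (c * y * c⁻¹) * (d : G)⁻¹) * ((d : G) * (c * z * c⁻¹) * (d : G)⁻¹) := by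
    rw [← hyz]; group
  rw [e, mem_centralizer_singleton_iff.1 d.2, mul_inv_cancel_right]
  exact mul_mem hyH hd


/-- Let G be a finite group and p a prime. Every conjugacy class of p-regular elements of G (elements of order prime to p) has p-power size if and only if G has an abelian p-complement, i.e. an abelian subgroup of order prime to p and p-power index. -/
theorem result {G : Type*} [Group G] [Finite G] {p : ℕ} (hp : p.Prime) :
    (∀ x : G, (orderOf x).Coprime p → ∃ k : ℕ, (ConjClasses.mk x).carrier.ncard = p ^ k) ↔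
    (∃ H : Subgroup G, IsMulCommutative H ∧ ¬ p ∣ Nat.card H ∧ ∃ k : ℕ, H.index = p ^ k) := by
  have := Fact.mk hp
  have hcl : ∀ x : G, (ConjClasses.mk x).carrier.ncard = (centralizer ({x} : Set G)).index := fun x => by
    rw [← Cfsg.Agent.Char.card_isConj_eq_index x, ← Nat.card_coe_set_eq]
    refine Nat.card_congr (Equiv.subtypeEquivRight fun y => ?_)
    exact (isConj_comm).trans (ConjClasses.mk_eq_mk_iff_isConj.symm.trans ConjClasses.mem_carrier_iff_mk_eq.symm) |>.symm
  constructor
  · intro h
    have h' : RegPow p G := fun x hx => by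
      obtain ⟨k, hk⟩ := h x hx
      exact ⟨k, hcl x ▸ hk.dvd⟩
    exact exists_complement_of_regPow hp _ G rfl h' (solvable_of_regPow hp _ G rfl h')
  · rintro ⟨H, hab, hH, k, hk⟩ x hx
    obtain ⟨g, hg⟩ := conj_into hp _ G x rfl H hab hH ⟨k, hk.dvd⟩ hx
    have hle : H ≤ centralizer ({g * x * g⁻¹} : Set G) := fun y hy => by
      rw [mem_centralizer_singleton_iff]
      have := hab
      exact congrArg Subtype.val (mul_comm' (⟨y, hy⟩ : H) ⟨_, hg⟩)
    have hdvd := index_dvd_of_le hle
    rw [hk, ← hcl, show ConjClasses.mk (g * x * g⁻¹) = ConjClasses.mk x from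
      ConjClasses.mk_eq_mk_iff_isConj.2 (isConj_iff.2 ⟨g⁻¹, by group⟩)] at hdvd
    obtain ⟨j, -, hj⟩ := (Nat.dvd_prime_pow hp).1 hdvd
    exact ⟨j, hj⟩

end Cfsg.Agent.S4034
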