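import Cfsg.Statements.S4035
import Cfsg.Agent.Lib.Struct.ClassSize
import Cfsg.Agent.Lib.Solv.Basic

set_option autoImplicit false
open Cfsg
open Cfsg.Agent.Struct
open Subgroup

namespace Cfsg.Agent.S4035

/-- Let G be a finite group and p a prime such that p divides the size of no conjugacy class of p-regular elements (elements of order prime to p). Then G is the internal direct product of a Sylow p-subgroup P and a normal subgroup H of order prime to p: P is normal, P ⊓ H = 1 and PH = G. -/
theorem result {G : Type*} [Group G] [Finite G] {p : ℕ} [Fact p.Prime]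
    (h : ∀ x : G, (orderOf x).Coprime p → ¬ p ∣ (ConjClasses.mk x).carrier.ncard) (P : Sylow p G) :
    (P : Subgroup G).Normal ∧ ∃ H : Subgroup G, H.Normal ∧ ¬ p ∣ Nat.card H ∧
      (P : Subgroup G) ⊓ H = ⊥ ∧ (P : Subgroup G) ⊔ H = ⊤ := by
  have hcl : ∀ x : G, (orderOf x).Coprime p → ¬ p ∣ (centralizer ({x} : Set G)).index := fun x hx => by
    rw [← Cfsg.Agent.Char.card_isConj_eq_index x]
    intro hd
    refine h x hx ?_
    rw [← Nat.card_coe_set_eq]
    refine hd.trans (dvd_of_eq (Nat.card_congr (Equiv.subtypeEquivRight fun y => ?_)))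
    rw [ConjClasses.mem_carrier_iff_mk_eq, ConjClasses.mk_eq_mk_iff_isConj, isConj_comm]
  set J := (P : Subgroup G) ⊔ centralizer ((P : Subgroup G) : Set G) with hJ
  have hPn' : ∀ u ∈ J, u ∈ normalizer ((P : Subgroup G) : Set G) :=
    fun u hu => (sup_le le_normalizer (centralizer_le_normalizer _) : J ≤ _) hu
  have htop : J = ⊤ := by
    by_contra hne
    obtain ⟨x, hx⟩ := exists_forall_conj_notMem hne
    have hm0 := orderOf_pos x
    set m := orderOf x with hm
    set A := p ^ m.factorization p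
    set B := m / A
    have hAB : A * B = m := Nat.ordProj_mul_ordCompl_eq_self m p
    have hcop : A.Coprime B := (Nat.coprime_ordCompl Fact.out hm0.ne').pow_left _
    have hbez : (1 : ℤ) = (A : ℤ) * A.gcdA B + (B : ℤ) * A.gcdB B := by
      have := Nat.gcd_eq_gcd_ab A B; rwa [hcop, Nat.cast_one] at this
    set y := x ^ ((B : ℤ) * A.gcdB B)
    set z := x ^ ((A : ℤ) * A.gcdA B)
    have hyA : orderOf y ∣ A := by
      apply orderOf_dvd_of_pow_eq_one
      rw [← zpow_natCast, ← zpow_mul, show (B : ℤ) * A.gcdB B * A = ((A * B : ℕ) : ℤ) * A.gcdB B by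
        push_cast; ring, zpow_mul, zpow_natCast, hAB, hm, pow_orderOf_eq_one, one_zpow]
    have hzB : orderOf z ∣ B := by
      apply orderOf_dvd_of_pow_eq_one
      rw [← zpow_natCast, ← zpow_mul, show (A : ℤ) * A.gcdA B * B = ((A * B : ℕ) : ℤ) * A.gcdA B by
        push_cast; ring, zpow_mul, zpow_natCast, hAB, hm, pow_orderOf_eq_one, one_zpow]
    have hyz : y * z = x := by rw [← zpow_add, add_comm, ← hbez, zpow_one]
    have hzc : (orderOf z).Coprime p :=
      Nat.Coprime.coprime_dvd_left hzB (Nat.coprime_ordCompl Fact.out hm0.ne').symm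
    set C := centralizer ({z} : Set G)
    have hyC : y ∈ C := mem_centralizer_singleton_iff.2 ((Commute.refl x).zpow_zpow _ _)
    have hypg : IsPGroup p (zpowers (⟨y, hyC⟩ : C)) := by
      obtain ⟨j, -, hj⟩ := (Nat.dvd_prime_pow Fact.out).1 hyA
      exact IsPGroup.of_card (n := j) (by rw [Nat.card_zpowers, ← orderOf_coe, hj])
    obtain ⟨R, hR⟩ := hypg.exists_le_sylow
    have hRcard : Nat.card ↥((R : Subgroup C).map C.subtype) = p ^ (Nat.card G).factorization p := by
      rw [card_map_of_injective C.subtype_injective]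
      refine (R.card_eq_multiplicity).trans ?_
      congr 1
      rw [← C.index_mul_card, Nat.factorization_mul C.index_ne_zero_of_finite Nat.card_pos.ne']
      simp only [Finsupp.add_apply, Nat.factorization_eq_zero_of_not_dvd (show ¬ p ∣ C.index from hcl z hzc), zero_add]
    obtain ⟨g, hg⟩ := MulAction.exists_smul_eq G (Sylow.ofCard _ hRcard) P
    apply hx g
    have hmem : ∀ u : G, u ∈ (R : Subgroup C).map C.subtype → g * u * g⁻¹ ∈ (P : Subgroup G) := by
      intro u hu
      rw [← hg, Sylow.coe_subgroup_smul]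
      exact ⟨u, hu, rfl⟩
    rw [← hyz, ← conj_mul]
    refine mul_mem (mem_sup_left (hmem y ⟨_, hR (mem_zpowers _), rfl⟩)) (mem_sup_right ?_)
    rw [mem_centralizer_iff]
    intro u hu
    obtain ⟨v, hv, rfl⟩ : ∃ v, v ∈ (R : Subgroup C).map C.subtype ∧ g * v * g⁻¹ = u := by
      rw [SetLike.mem_coe, ← hg, Sylow.coe_subgroup_smul] at hu
      obtain ⟨v, hv, e⟩ := hu
      exact ⟨v, hv, e⟩
    obtain ⟨w, -, rfl⟩ := hv
    show g * (w : G) * g⁻¹ * (g * z * g⁻¹) = g * z * g⁻¹ * (g * (w : G) * g⁻¹)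
    rw [conj_mul, conj_mul, mem_centralizer_singleton_iff.1 w.2]
  have hPn : (P : Subgroup G).Normal :=
    normalizer_eq_top_iff.1 (eq_top_iff.2 fun u _ => hPn' u (htop ▸ mem_top u))
  refine ⟨hPn, ?_⟩
  have hcp : Nat.Coprime (Nat.card ↥(P : Subgroup G)) (P : Subgroup G).index := P.card_coprime_index
  obtain ⟨H, hH⟩ := exists_right_complement'_of_coprime hcp
  have hHc : Nat.card H = (P : Subgroup G).index := hH.symm.index_eq_card.symm
  have hcent : H ≤ centralizer ((P : Subgroup G) : Set G) := by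
    intro x hx
    let φ : G →* MulAut ↥(P : Subgroup G) := MulAut.conjNormal
    have h1 : orderOf (φ x) ∣ Nat.card H := (orderOf_map_dvd φ x).trans (orderOf_dvd_natCard _ hx)
    have hxJ : x ∈ J := htop ▸ mem_top x
    rw [hJ, mem_sup_of_normal_left] at hxJ
    obtain ⟨u, hu, c, hc, rfl⟩ := hxJ
    have hc1 : φ c = 1 := MulEquiv.ext fun v => Subtype.ext (by
      show c * (v : G) * c⁻¹ = v
      rw [← mem_centralizer_iff.1 hc v v.2, mul_inv_cancel_right])
    have h2 : orderOf (φ (u * c)) ∣ Nat.card ↥(P : Subgroup G) := by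
      rw [map_mul, hc1, mul_one]
      exact (orderOf_map_dvd φ u).trans (orderOf_dvd_natCard _ hu)
    have h3 : φ (u * c) = 1 :=
      orderOf_eq_one_iff.1 (Nat.eq_one_of_dvd_coprimes (hHc ▸ hcp) h2 h1)
    rw [mem_centralizer_iff]
    intro v hv
    have h4 : (u * c) * v * (u * c)⁻¹ = v :=
      congrArg Subtype.val (DFunLike.congr_fun h3 (⟨v, hv⟩ : ↥(P : Subgroup G)))
    conv_lhs => rw [← h4]
    rw [inv_mul_cancel_right]
  have hsup : (P : Subgroup G) ⊔ H = ⊤ := hH.sup_eq_top
  refine ⟨H, ?_, ?_, hH.disjoint.eq_bot, hsup⟩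
  · rw [← normalizer_eq_top_iff, eq_top_iff, ← hsup]
    refine sup_le ?_ le_normalizer
    refine le_trans ?_ (centralizer_le_normalizer _)
    exact le_centralizer_iff.1 hcent
  · rw [hHc]; exact P.not_dvd_index

end Cfsg.Agent.S4035
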