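import Cfsg.Statements.S4036


set_option autoImplicit false
open Cfsg
open Subgroup

namespace Cfsg.Agent.S4036

/-- Let P be a finite abelian p-group and K a group of automorphisms of P (a subgroup of Aut P) whose order is divisible by p. If all non-identity elements of K have the same fixed-point subgroup on P, then K has no non-trivial normal subgroup of order prime to p. -/
theorem result {P : Type*} [CommGroup P] [Finite P] {p : ℕ}
    [Fact p.Prime] (hP : IsPGroup p P) (K : Subgroup (MulAut P)) (hK : p ∣ Nat.card K)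
    (hfix : ∀ x y : MulAut P, x ∈ K → y ∈ K → x ≠ 1 → y ≠ 1 → ∀ v : P, x v = v ↔ y v = v) :
    ∀ N : Subgroup ↥K, N.Normal → ¬ p ∣ Nat.card N → N = ⊥ := by
  classical
  intro N hN hNp
  rw [eq_bot_iff]
  intro n hn
  rw [mem_bot]
  by_contra hn1
  obtain ⟨x, hx⟩ := exists_prime_orderOf_dvd_card' (G := ↥K) p hK
  have hx1 : x ≠ 1 := by rintro rfl; rw [orderOf_one] at hx; exact (Fact.out : p.Prime).one_lt.ne hx
  have hsame : ∀ a b : ↥K, a ≠ 1 → b ≠ 1 → ∀ v : P, (a : MulAut P) v = v ↔ (b : MulAut P) v = v :=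
    fun a b ha hb => hfix _ _ a.2 b.2 (fun h => ha (Subtype.ext h)) (fun h => hb (Subtype.ext h))
  haveI : Fintype ↥N := Fintype.ofFinite _
  let ψ : P →* P := ∏ k : ↥N, ((k : ↥K) : MulAut P).toMonoidHom
  have hψ : ∀ v, ψ v = ∏ k : ↥N, ((k : ↥K) : MulAut P) v := fun v => by simp [ψ]
  have hinv : ∀ (k : ↥N) v, ((k : ↥K) : MulAut P) (ψ v) = ψ v := fun k v => by
    rw [hψ, map_prod]
    exact Fintype.prod_equiv (Equiv.mulLeft k) _ _ fun j => rfl
  have hfixed : ∀ v, (x : MulAut P) v = v → ψ v = v ^ Nat.card N := fun v hv => by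
    rw [hψ, Nat.card_eq_fintype_card]
    refine (Finset.prod_eq_pow_card fun k _ => ?_).trans rfl
    by_cases hk : (k : ↥K) = 1
    · rw [hk]; rfl
    · exact (hsame x k hx1 hk v).1 hv
  have hcomm : ∀ v, ψ ((x : MulAut P) v) = (x : MulAut P) (ψ v) := fun v => by
    rw [hψ, hψ, map_prod]
    let e : ↥N ≃ ↥N :=
      { toFun := fun k => ⟨x⁻¹ * k * x, by simpa using hN.conj_mem k k.2 x⁻¹⟩
        invFun := fun k => ⟨x * k * x⁻¹, hN.conj_mem k k.2 x⟩
        left_inv := fun k => Subtype.ext (by group)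
        right_inv := fun k => Subtype.ext (by group) }
    refine Fintype.prod_equiv e _ _ fun k => ?_
    show (k : MulAut P) ((x : MulAut P) v) = ((x * (x⁻¹ * k * x) : ↥K) : MulAut P) v
    rw [show x * (x⁻¹ * (k : ↥K) * x) = k * x by group]; rfl
  have hcop : (Nat.card N).Coprime (Nat.card P) := by
    obtain ⟨j, hj⟩ := IsPGroup.iff_card.1 hP
    rw [hj]
    exact Nat.Coprime.pow_right _ (((Fact.out : p.Prime).coprime_iff_not_dvd.2 hNp).symm)
  have hW : ψ.ker ≠ ⊥ := fun hW => by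
    refine hn1 (Subtype.ext (MulEquiv.ext fun v => ?_))
    obtain ⟨u, rfl⟩ := Finite.injective_iff_surjective.1 ((MonoidHom.ker_eq_bot_iff ψ).1 hW) v
    exact hinv ⟨n, hn⟩ u
  let σ : Equiv.Perm ↥ψ.ker :=
    { toFun := fun v => ⟨(x : MulAut P) v, by rw [MonoidHom.mem_ker, hcomm, v.2, map_one]⟩
      invFun := fun v => ⟨(x : MulAut P)⁻¹ v, by
        rw [MonoidHom.mem_ker]
        apply (x : MulAut P).injective
        rw [← hcomm, MulAut.apply_inv_self, v.2, map_one]⟩
      left_inv := fun v => Subtype.ext (MulAut.inv_apply_self P _ _)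
      right_inv := fun v => Subtype.ext (MulAut.apply_inv_self P _ _) }
  have hσ : ∀ (j : ℕ) (v : ↥ψ.ker), ((σ ^ j) v : P) = ((x ^ j : ↥K) : MulAut P) v := fun j v => by
    induction j with
    | zero => rfl
    | succ j ih => rw [pow_succ', pow_succ', Equiv.Perm.mul_apply]; exact congrArg (x : MulAut P) ih
  have hσp : σ ^ p ^ 1 = 1 := Equiv.ext fun v => Subtype.ext (by
    rw [hσ, pow_one, ← hx, pow_orderOf_eq_one]; rfl)
  haveI : Nontrivial ↥ψ.ker := (Subgroup.nontrivial_iff_ne_bot _).2 hW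
  haveI : Fintype ↥ψ.ker := Fintype.ofFinite _
  have hdvd : p ∣ Fintype.card ↥ψ.ker := by
    rw [← Nat.card_eq_fintype_card]
    obtain ⟨j, hj⟩ := IsPGroup.iff_card.1 (hP.to_subgroup ψ.ker)
    rw [hj]
    refine dvd_pow_self p fun h0 => ?_
    rw [h0, pow_zero] at hj
    exact Finite.one_lt_card.ne' hj
  obtain ⟨b, hb, hb1⟩ := Equiv.Perm.exists_fixed_point_of_prime' hdvd hσp (a := 1) (Subtype.ext (map_one _))
  refine hb1 (Subtype.ext ?_)
  have h := hfixed b (congrArg Subtype.val hb)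
  rw [b.2] at h
  refine orderOf_eq_one_iff.1 (Nat.eq_one_of_dvd_coprimes hcop (orderOf_dvd_of_pow_eq_one h.symm) (_root_.orderOf_dvd_natCard _))

end Cfsg.Agent.S4036
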