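import Cfsg.Statements.S4040
import Cfsg.Agent.Lib.Solv.ThompsonComplement
import Cfsg.Agent.Lib.Solv.FpfNilpotent
import Cfsg.Agent.Lib.Solv.SchurZassenhaus

set_option autoImplicit false
open Cfsg
open Subgroup Cfsg.Agent.Solv

namespace Cfsg.Agent.S4040

open scoped Pointwise

universe u

theorem mem_normalizer_of_map {G : Type u} [Group G] {X : Subgroup G} {m : G}
    (h : X.map (MulAut.conj m).toMonoidHom = X) : m ∈ normalizer (X : Set G) :=
  mem_normalizer_iff_map_conj_eq.2 h

theorem map_conj_eq_self {G : Type u} [Group G] {X : Subgroup G} {m : G}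
    (h : m ∈ normalizer (X : Set G)) : X.map (MulAut.conj m).toMonoidHom = X :=
  mem_normalizer_iff_map_conj_eq.1 h

theorem normalizer_le_normalizer_centralizer' {G : Type u} [Group G] (P : Subgroup G) :
    normalizer (P : Set G) ≤ normalizer ((centralizer (P : Set G) : Subgroup G) : Set G) := by
  intro m hm
  have key : ∀ m ∈ normalizer (P : Set G), ∀ c ∈ centralizer (P : Set G),
      m * c * m⁻¹ ∈ centralizer (P : Set G) := by
    intro m hm c hc
    refine mem_centralizer_iff.2 fun u hu => ?_
    have h1 : m⁻¹ * u * m ∈ P := (mem_normalizer_iff''.1 hm u).1 hu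
    have h2 := congrArg (fun z => m * z * m⁻¹) (mem_centralizer_iff.1 hc _ h1)
    simpa [mul_assoc] using h2
  refine mem_normalizer_iff.2 fun c => ⟨key m hm c, fun hc => ?_⟩
  simpa [mul_assoc] using key m⁻¹ (inv_mem hm) _ hc

theorem npc_of_nilpotent {M : Type u} [Group M] [Finite M] (hM : Group.IsNilpotent M) (p : ℕ)
    [Fact p.Prime] : Cfsg.HasNormalPComplement p M := by
  refine FrobeniusCond.hasNormalPComplement fun Q hQ g _ hgc => mem_centralizer_iff.2 fun x hx => ?_
  obtain ⟨k, hk⟩ := IsPGroup.iff_orderOf.1 hQ ⟨x, hx⟩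
  rw [Subgroup.orderOf_mk] at hk
  exact (commute_of_coprime_orderOf_of_isNilpotent hM (x := x) (g := g)
    (hk ▸ (hgc.symm.pow_left k))).eq

theorem nilpotent_odd_maximal : ∀ (c : ℕ) (G : Type u) [Group G] [Finite G], Nat.card G = c →
    ∀ M : Subgroup G, IsCoatom M → Group.IsNilpotent M → Odd (Nat.card M) →
    Group.IsSolvable G := by
  intro c
  induction c using Nat.strong_induction_on with
  | _ c ih =>
    intro G _ _ hc M hM hnil hodd
    haveI := hnil
    haveI : Group.IsSolvable M := inferInstance
    by_cases hcore : M.normalCore = ⊥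
    swap
    · set N := M.normalCore with hN
      have hNM : N ≤ M := normalCore_le M
      have hlt : Nat.card (G ⧸ N) < c := by
        rw [← hc, card_eq_card_quotient_mul_card_subgroup N]
        exact lt_mul_of_one_lt_right Nat.card_pos ((one_lt_card_iff_ne_bot N).mpr hcore)
      set f := QuotientGroup.mk' N with hf
      haveI : Group.IsNilpotent (M.map f) :=
        Group.nilpotent_of_surjective (f.subgroupMap M) (f.subgroupMap_surjective M)
      have hM' : IsCoatom (M.map f) := by
        refine ⟨fun h => hM.1 ?_, fun X hX => ?_⟩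
        · have h1 := congrArg (Subgroup.comap f) h
          rwa [comap_map_eq_self (by rwa [hf, QuotientGroup.ker_mk']), comap_top] at h1
        · have h1 : M < X.comap f := by
            refine lt_of_le_of_ne (map_le_iff_le_comap.1 hX.le) fun h => hX.ne ?_
            exact (congrArg (Subgroup.map f) h).trans
              (map_comap_eq_self_of_surjective (QuotientGroup.mk'_surjective N) X)
          have h2 := congrArg (Subgroup.map f) (hM.2 _ h1)
          rwa [map_comap_eq_self_of_surjective (QuotientGroup.mk'_surjective N),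
            map_top_of_surjective _ (QuotientGroup.mk'_surjective N)] at h2
      have hs := ih _ hlt (G ⧸ N) rfl (M.map f) hM' inferInstance
        (hodd.of_dvd_nat (Subgroup.card_map_dvd _ f))
      haveI := hs
      haveI : Group.IsSolvable N := isSolvable_of_le hNM inferInstance
      exact Group.isSolvable_of_ker_le_range N.subtype f (by
        rw [hf, QuotientGroup.ker_mk', range_subtype])
    -- the core-free case
    have hself : ∀ X : Subgroup G, X ≤ M → X ≠ ⊥ → M ≤ normalizer (X : Set G) →
        normalizer (X : Set G) = M := by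
      intro X hXM hX hMX
      refine (hM.le_iff.1 hMX).resolve_left fun h => hX (le_bot_iff.1 ?_)
      haveI := normalizer_eq_top_iff.1 h
      rw [← hcore]
      exact Subgroup.normal_le_normalCore.2 hXM
    have key : ∀ p : ℕ, p.Prime → p ∣ Nat.card M →
        Cfsg.HasNormalPComplement p G ∧ ¬ p ∣ M.index := by
      intro p hp hpM
      haveI : Fact p.Prime := ⟨hp⟩
      let P₀ : Sylow p M := default
      haveI hP₀n : (P₀ : Subgroup M).Normal :=
        ((Group.isNilpotent_of_finite_tfae (G := M)).out 0 3 rfl rfl).mp hnil p inferInstance P₀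
      set P := (P₀ : Subgroup M).map M.subtype with hP
      have hPM : P ≤ M := map_subtype_le _
      have hPne : P ≠ ⊥ := fun h => P₀.ne_bot_of_dvd_card hpM
        ((map_eq_bot_iff_of_injective _ (subtype_injective _)).1 h)
      have hchar : ∀ K : Subgroup G, K ≤ P → K ≠ ⊥ → M ≤ normalizer (K : Set G) →
          normalizer (K : Set G) = M := fun K hK h1 h2 => hself K (hK.trans hPM) h1 h2
      have hMP : M ≤ normalizer (P : Set G) := by
        refine le_normalizer_of_conj_mem fun a ha x hx => ?_
        obtain ⟨y, hy, rfl⟩ := hx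
        exact ⟨⟨a, ha⟩ * y * ⟨a, ha⟩⁻¹, hP₀n.conj_mem y hy _, rfl⟩
      have hPp : IsPGroup p P := P₀.isPGroup'.map _
      obtain ⟨S, hS⟩ := hPp.exists_le_sylow
      have hSP : (S : Subgroup G) = P := by
        haveI := S.isPGroup'.isNilpotent
        by_contra hne
        have hlt : P.subgroupOf S < ⊤ := lt_top_iff_ne_top.2 fun h =>
          hne (le_antisymm (subgroupOf_eq_top.1 h) hS)
        obtain ⟨⟨z, hz⟩, hzn, hzP⟩ := SetLike.exists_of_lt
          (Group.normalizerCondition_of_isNilpotent _ hlt)
        have hzM : z ∈ M := by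
          rw [← hself P hPM hPne hMP]
          refine mem_normalizer_iff.2 fun u => ⟨fun hu => ?_, fun hu => ?_⟩
          · exact (mem_normalizer_iff.1 hzn ⟨u, hS hu⟩).1 hu
          · have hu' : u ∈ (S : Subgroup G) := by
              simpa [mul_assoc] using mul_mem (mul_mem (inv_mem hz) (hS hu)) hz
            exact (mem_normalizer_iff.1 hzn ⟨u, hu'⟩).2 hu
        have hsup : IsPGroup p ↥((P₀ : Subgroup M) ⊔ zpowers ⟨z, hzM⟩) := by
          refine P₀.isPGroup'.to_sup_of_normal_left ?_
          obtain ⟨k, hk⟩ := IsPGroup.iff_orderOf.1 S.isPGroup' ⟨z, hz⟩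
          rw [Subgroup.orderOf_mk] at hk
          exact IsPGroup.of_card (n := k) (by rw [Nat.card_zpowers, Subgroup.orderOf_mk, hk])
        refine hzP ?_
        have h1 := P₀.3 hsup le_sup_left
        exact ⟨⟨z, hzM⟩, h1.le (mem_sup_right (mem_zpowers _)), rfl⟩
      refine ⟨?_, ?_⟩
      · have hp2 : p ≠ 2 := by
          rintro rfl
          exact (Nat.not_even_iff_odd.2 hodd) (even_iff_two_dvd.2 hpM)
        have hZn : M ≤ normalizer ((P ⊓ centralizer (P : Set G) : Subgroup G) : Set G) :=
          le_normalizer_inf hMP (hMP.trans (normalizer_le_normalizer_centralizer' P))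
        refine thompson_complement hp2 S ?_ ?_
        · rw [hSP]
          have hJn : M ≤ normalizer (thompsonSubgroupOf p P : Set G) := by
            intro m hm
            refine mem_normalizer_of_map (X := thompsonSubgroupOf p P) ?_
            rw [thompsonOf_map _ P (by
              rw [(MonoidHom.ker_eq_bot_iff _).2 (MulAut.conj m).injective, inf_bot_eq])]
            rw [map_conj_eq_self (hMP hm)]
          have hJne : thompsonSubgroupOf p P ≠ ⊥ := by
            rw [thompsonSubgroupOf, Ne, map_eq_bot_iff_of_injective _ (subtype_injective _)]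
            refine thompson_ne_bot ?_
            obtain ⟨k, hk⟩ := IsPGroup.iff_card.1 hPp
            rw [hk]
            refine dvd_pow_self p fun h0 => hPne (eq_bot_of_card_eq _ ?_)
            rw [hk, h0, pow_zero]
          rw [hchar (thompsonSubgroupOf p P) (map_subtype_le _) hJne hJn]
          exact npc_of_nilpotent hnil p
        · rw [hSP]
          have hZne : P ⊓ centralizer (P : Set G) ≠ ⊥ := by
            haveI : Nontrivial P := (nontrivial_iff_ne_bot P).2 hPne
            haveI := hPp.center_nontrivial
            obtain ⟨w, hw⟩ := exists_ne (1 : center P)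
            intro h0
            refine hw (Subtype.ext (Subtype.ext ?_))
            have h1 : ((w : P) : G) ∈ P ⊓ centralizer (P : Set G) := mem_inf.2 ⟨(w : P).2,
              mem_centralizer_iff.2 fun u hu => congrArg Subtype.val (mem_center_iff.1 w.2 ⟨u, hu⟩)⟩
            rw [h0, mem_bot] at h1
            exact h1
          refine hasNormalPComplement_of_le ?_ (npc_of_nilpotent hnil p)
          rw [← hchar _ inf_le_left hZne hZn]
          exact centralizer_le_normalizer _
      · intro hd
        refine S.not_dvd_index ?_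
        rw [hSP]
        exact hd.trans (index_dvd_of_le hPM)
    let K : Subgroup G := ⨅ p : {p : ℕ // p.Prime ∧ p ∣ Nat.card M}, Cfsg.pPrimeCore p.1 G
    haveI hKn : K.Normal := Subgroup.normal_iInf_normal fun p => inferInstance
    have hKp : ∀ q : ℕ, q.Prime → q ∣ Nat.card K → ¬ q ∣ Nat.card M := by
      intro q hq hqK hqM
      haveI : Fact q.Prime := ⟨hq⟩
      have h1 := hqK.trans (card_dvd_of_le (iInf_le (fun p : {p : ℕ // p.Prime ∧ p ∣ Nat.card M} =>
        Cfsg.pPrimeCore p.1 G) ⟨q, hq, hqM⟩))
      exact hq.coprime_iff_not_dvd.1 (card_pPrimeCore_coprime q G).symm h1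
    have hcop : (Nat.card M).Coprime (Nat.card K) :=
      Nat.coprime_of_dvd fun q hq hqM hqK => hKp q hq hqK hqM
    have htop : M ⊔ K = ⊤ := by
      rw [← index_eq_one]
      by_contra hne
      obtain ⟨q, hq, hd⟩ := Nat.exists_prime_and_dvd hne
      haveI : Fact q.Prime := ⟨hq⟩
      by_cases hqM : q ∣ Nat.card M
      · exact (key q hq hqM).2 (hd.trans (index_dvd_of_le le_sup_left))
      · let R : Sylow q G := default
        refine R.not_dvd_index (hd.trans (index_dvd_of_le (le_trans ?_ le_sup_right)))
        intro x hx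
        refine Subgroup.mem_iInf.2 fun p => ?_
        haveI : Fact p.1.Prime := ⟨p.2.1⟩
        refine mem_pPrimeCore_of_orderOf_coprime (key p.1 p.2.1 p.2.2).1 ?_
        obtain ⟨k, hk⟩ := IsPGroup.iff_orderOf.1 R.isPGroup' ⟨x, hx⟩
        rw [Subgroup.orderOf_mk] at hk
        rw [hk]
        refine ((Nat.coprime_primes hq p.2.1).2 fun h => hqM ?_).pow_left k
        rw [h]
        exact p.2.2
    have hK0 : K ≠ ⊥ := fun h => hM.1 (by rwa [h, sup_bot_eq] at htop)
    obtain ⟨q, hq, hqK⟩ := Nat.exists_prime_and_dvd ((one_lt_card_iff_ne_bot K).2 hK0).ne'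
    haveI : Fact q.Prime := ⟨hq⟩
    obtain ⟨Q, hQ⟩ := exists_invariant_sylow M K le_normalizer_of_normal hcop (Or.inl inferInstance) q
    set Q' := (Q : Subgroup K).map K.subtype with hQ'
    have hQtop : Q' ⊔ M = ⊤ := by
      refine hM.2 _ (lt_of_le_of_ne le_sup_right fun h => ?_)
      have h1 : Q' ≤ M ⊓ K := le_inf (le_sup_left.trans h.ge) (map_subtype_le _)
      rw [inf_eq_bot_of_coprime_card M K hcop, le_bot_iff,
        map_eq_bot_iff_of_injective _ (subtype_injective _)] at h1
      exact Q.ne_bot_of_dvd_card hqK h1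
    have hKQ : K ≤ Q' := by
      intro x hx
      have h1 : x ∈ (Q' ⊔ M : Subgroup G) := hQtop ▸ mem_top x
      rw [← SetLike.mem_coe, coe_mul_of_right_le_normalizer_left _ _ hQ] at h1
      obtain ⟨u, hu, s, hs, rfl⟩ := h1
      have h2 : s ∈ M ⊓ K :=
        mem_inf.2 ⟨hs, by simpa using mul_mem (inv_mem (map_subtype_le _ hu)) hx⟩
      rw [inf_eq_bot_of_coprime_card M K hcop, mem_bot] at h2
      subst h2
      show u * 1 ∈ Q'
      rw [mul_one]
      exact hu
    haveI : Group.IsNilpotent Q' := (Q.isPGroup'.map K.subtype).isNilpotent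
    haveI : Group.IsSolvable K := isSolvable_of_le hKQ inferInstance
    haveI : Group.IsSolvable (G ⧸ K) := by
      refine Group.isSolvable_of_surjective (f := (QuotientGroup.mk' K).comp M.subtype) fun z => ?_
      obtain ⟨g, rfl⟩ := QuotientGroup.mk'_surjective K z
      obtain ⟨m, hm, k, hk, rfl⟩ := mem_sup_of_normal_right.1 (htop ▸ mem_top g : g ∈ M ⊔ K)
      refine ⟨⟨m, hm⟩, ?_⟩
      show QuotientGroup.mk' K m = QuotientGroup.mk' K (m * k)
      rw [map_mul, show QuotientGroup.mk' K k = 1 from (QuotientGroup.eq_one_iff k).2 hk, mul_one]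
    exact Group.isSolvable_of_ker_le_range K.subtype (QuotientGroup.mk' K) (by
      rw [QuotientGroup.ker_mk', range_subtype])

/-- A finite group possessing a maximal subgroup that is nilpotent of odd order is solvable. -/
theorem result {G : Type*} [Group G] [Finite G]
    (M : Subgroup G) (hmax : IsCoatom M) (hnil : Group.IsNilpotent M) (hodd : Odd (Nat.card M)) :
    Group.IsSolvable G := by
  exact nilpotent_odd_maximal _ G rfl M hmax hnil hodd

end Cfsg.Agent.S4040
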