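import Cfsg.Statements.S4043
import Cfsg.Agent.Lib.Solv.NormalPComplement
import Cfsg.Agent.Lib.Solv.SchurZassenhaus
import Cfsg.Agent.Lib.Solv.Misc

set_option autoImplicit false
open Cfsg
open Subgroup Cfsg.Agent.Solv
open scoped Pointwise commutatorElement

namespace Cfsg.Agent.S4043

/-- Let G be a finite group that is the semidirect product of a normal p-subgroup N by a subgroup A, and also of N by a subgroup A₁, where p is a prime and A and A₁ both have normal p-complements. If C_N(A) = C_N(A₁) = 1, then A₁ is conjugate to A by an element of N. -/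
theorem result {G : Type*} [Group G] [Finite G] {p : ℕ}
    [Fact p.Prime] (N : Subgroup G) [N.Normal] (hN : IsPGroup p N) (A A₁ : Subgroup G)
    (hA : A.IsComplement' N) (hA₁ : A₁.IsComplement' N)
    (hAp : Cfsg.HasNormalPComplement p A) (hA₁p : Cfsg.HasNormalPComplement p A₁)
    (hC : ∀ n : G, n ∈ N → (∀ a : G, a ∈ A → a * n * a⁻¹ = n) → n = 1)
    (hC₁ : ∀ n : G, n ∈ N → (∀ a : G, a ∈ A₁ → a * n * a⁻¹ = n) → n = 1) :
    ∃ n : G, n ∈ N ∧ A₁ = A.map (MulAut.conj n).toMonoidHom := by
  have hp : p.Prime := Fact.out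
  set K := (Cfsg.pPrimeCore p A).map A.subtype with hKdef
  set K₁ := (Cfsg.pPrimeCore p A₁).map A₁.subtype with hK₁def
  have hKc : (Nat.card K).Coprime p := by
    rw [card_map_of_injective (subtype_injective _)]; exact card_pPrimeCore_coprime p A
  obtain ⟨e, he⟩ := IsPGroup.iff_card.1 hN
  haveI := hN.isNilpotent
  have hcop : (Nat.card N).Coprime (Nat.card K) := he ▸ (hKc.pow_right e).symm
  have hKA : K ≤ A := map_subtype_le _
  have hAK : A ≤ normalizer (K : Set G) := by
    refine le_normalizer_of_conj_mem fun a ha x hx => ?_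
    obtain ⟨y, hy, rfl⟩ := hx
    exact ⟨⟨a, ha⟩ * y * ⟨a, ha⟩⁻¹, Subgroup.Normal.conj_mem inferInstance y hy _, rfl⟩
  have hmul : A ⊔ N = ⊤ := hA.sup_eq_top
  set L := N ⊔ K with hL
  haveI hLn : L.Normal := by
    refine normalizer_eq_top_iff.1 (top_le_iff.1 (hmul ▸ sup_le ?_ ?_))
    · exact (le_inf le_normalizer_of_normal hAK).trans (normalizer_inf_le_normalizer_sup N K)
    · exact (le_sup_left : N ≤ L).trans le_normalizer
  obtain ⟨k, hk⟩ := hasNormalPComplement_iff_index.1 hAp
  have hKcard : Nat.card K = Nat.card (Cfsg.pPrimeCore p A) := card_map_of_injective (subtype_injective _)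
  have hAcard : Nat.card K * p ^ k = Nat.card A := by rw [hKcard, ← hk, card_mul_index]
  have hLidx : L.index = p ^ k := by
    have h1 := L.card_mul_index
    rw [card_sup_of_coprime le_normalizer_of_normal hcop] at h1
    have h2 := hA.card_mul
    rw [← hAcard] at h2
    refine Nat.eq_of_mul_eq_mul_left (Nat.mul_pos (Nat.card_pos (α := N)) (Nat.card_pos (α := K))) ?_
    rw [h1, ← h2]; ring
  obtain ⟨k₁, hk₁⟩ := hasNormalPComplement_iff_index.1 hA₁p
  have hK₁c : (Nat.card K₁).Coprime p := by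
    rw [card_map_of_injective (subtype_injective _)]; exact card_pPrimeCore_coprime p A₁
  have hA₁card : Nat.card K₁ * p ^ k₁ = Nat.card A₁ := by
    rw [card_map_of_injective (subtype_injective _), ← hk₁, card_mul_index]
  have hAA : Nat.card A = Nat.card A₁ := by
    rw [← hA.index_eq_card, ← hA₁.index_eq_card]
  have hKK : Nat.card K₁ = Nat.card K := by
    rw [← hAcard, ← hA₁card] at hAA
    refine Nat.dvd_antisymm ?_ ?_
    · exact (hK₁c.pow_right k).dvd_of_dvd_mul_right (Dvd.intro _ hAA.symm)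
    · exact (hKc.pow_right k₁).dvd_of_dvd_mul_right (Dvd.intro _ hAA)
  have hK₁L : K₁ ≤ L := fun x hx => mem_of_coprime_index L
    (hLidx ▸ (hK₁c.coprime_dvd_left (Subgroup.orderOf_dvd_natCard _ hx)).pow_right k)
  obtain ⟨n, hn, hnK⟩ := conj_of_card_eq N K K₁ (Or.inl inferInstance) le_normalizer_of_normal
    hK₁L hKK hcop
  -- `A` is the full normalizer of `K`
  set C := N ⊓ normalizer (K : Set G) with hCdef
  have hC0 : C = ⊥ := by
    have hCK : ∀ c ∈ C, ∀ x ∈ K, x * c = c * x := by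
      intro c hc x hx
      have h1 : ⁅c, x⁆ ∈ N ⊓ K := by
        refine mem_inf.2 ⟨?_, ?_⟩
        · rw [commutatorElement_def, mul_assoc, mul_assoc, ← mul_assoc x]
          exact mul_mem (mem_inf.1 hc).1
            ((inferInstance : N.Normal).conj_mem _ (inv_mem (mem_inf.1 hc).1) x)
        · rw [commutatorElement_def]
          exact mul_mem ((mem_normalizer_iff.1 (mem_inf.1 hc).2 x).1 hx) (inv_mem hx)
      rw [inf_eq_bot_of_coprime_card N K hcop, mem_bot] at h1
      exact (commutatorElement_eq_one_iff_mul_comm.1 h1).symm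
    have hAC : A ≤ normalizer (C : Set G) :=
      le_normalizer_inf le_normalizer_of_normal (hAK.trans le_normalizer)
    by_contra hne
    let S : Sylow p A := default
    set S' := (S : Subgroup A).map A.subtype
    have hS'A : S' ≤ A := map_subtype_le _
    have hS' : IsPGroup p S' := S.isPGroup'.map _
    have hP : IsPGroup p ↥(S' ⊔ C) := hS'.to_sup_of_normal_right' (hN.to_le inf_le_left)
      ((hS'A.trans hAC))
    haveI := hP.isNilpotent
    haveI : (C.subgroupOf (S' ⊔ C)).Normal :=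
      normal_subgroupOf_of_le_normalizer (sup_le (hS'A.trans hAC) le_normalizer)
    obtain ⟨z, hz, hz1⟩ : ∃ z ∈ C.subgroupOf (S' ⊔ C) ⊓ center ↥(S' ⊔ C), z ≠ 1 := by
      by_contra hcon
      refine inf_center_ne_bot (C.subgroupOf (S' ⊔ C)) (fun h0 => hne ?_)
        ((eq_bot_iff_forall _).2 fun w hw => by_contra fun hw1 => hcon ⟨w, hw, hw1⟩)
      rw [subgroupOf_eq_bot, disjoint_iff, inf_eq_left.2 le_sup_right] at h0
      exact h0
    obtain ⟨hzC, hzZ⟩ := mem_inf.1 hz
    refine hz1 (Subtype.ext (hC z (mem_inf.1 hzC).1 fun a ha => ?_))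
    have hsplit : ∀ y : A, y ∈ Cfsg.pPrimeCore p A ⊔ (S : Subgroup A) := fun y => by
      rw [(isComplement'_pPrimeCore hAp S).sup_eq_top]; exact mem_top y
    obtain ⟨u, hu, s, hs, hus⟩ := mem_sup_of_normal_left.1 (hsplit ⟨a, ha⟩)
    have hus' : (u : G) * s = a := congrArg Subtype.val hus
    have hsz : (s : G) * (z : G) = (z : G) * s :=
      congrArg Subtype.val (mem_center_iff.1 hzZ ⟨(s : G), mem_sup_left ⟨s, hs, rfl⟩⟩)
    have huz : (u : G) * (z : G) = (z : G) * u := hCK z hzC u ⟨u, hu, rfl⟩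
    rw [← hus', mul_inv_rev, mul_assoc (u : G) s, hsz, ← mul_assoc (u : G), huz]
    group
  have hNK : ∀ g ∈ normalizer (K : Set G), g ∈ A := by
    intro g hg
    obtain ⟨a, ha, m, hm, rfl⟩ := mem_sup_of_normal_right.1 (hmul ▸ mem_top g : g ∈ A ⊔ N)
    have h1 : m ∈ C := mem_inf.2 ⟨hm, by simpa using mul_mem (inv_mem (hAK ha)) hg⟩
    rw [hC0, mem_bot] at h1
    rw [h1, mul_one]
    exact ha
  refine ⟨n, hn, eq_of_le_of_card_ge (fun x hx => ?_) ?_⟩
  · refine ⟨n⁻¹ * x * n, hNK _ ?_, by simp [mul_assoc]⟩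
    have hxK : x ∈ normalizer (K₁ : Set G) := by
      refine le_normalizer_of_conj_mem (X := A₁) (fun a ha y hy => ?_) hx
      obtain ⟨y', hy', rfl⟩ := hy
      exact ⟨⟨a, ha⟩ * y' * ⟨a, ha⟩⁻¹, Subgroup.Normal.conj_mem inferInstance y' hy' _, rfl⟩
    refine mem_normalizer_iff.2 fun y => ?_
    have h1 := mem_normalizer_iff.1 hxK (n * y * n⁻¹)
    rw [← hnK, mem_conj_smul, mem_conj_smul] at h1
    simpa [mul_assoc] using h1
  · rw [card_map_of_injective (MulAut.conj n).injective]
    exact hAA.le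

end Cfsg.Agent.S4043
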