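import Cfsg.Statements.S4049
import Cfsg.Agent.Lib.Struct.RealOdd
import Cfsg.Agent.Lib.Struct.Inverted

set_option autoImplicit false
open Cfsg
open Subgroup

namespace Cfsg.Agent.S4049

/-- Let G be a finite group such that N_G(H)/C_G(H) has odd order for every nontrivial subgroup H of odd order. Then the Sylow 2-subgroups of G are normal. -/
theorem result {G : Type*} [Group G] [Finite G]
    (hhom : ∀ H : Subgroup G, H ≠ ⊥ → ¬ 2 ∣ Nat.card ↥H →
        ¬ 2 ∣ (Subgroup.centralizer (H : Set G)).relIndex (Subgroup.normalizer (H : Set G))) (P : Sylow 2 G) :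
    (P : Subgroup G).Normal := by
  refine Cfsg.Agent.Struct.sylow_two_normal_of_noReal P fun x hx hodd hc => ?_
  obtain ⟨g, hg⟩ := isConj_iff.1 hc
  have hgn : g ∈ normalizer (zpowers x : Set G) := by
    rw [mem_normalizer_iff_map_conj_eq, MonoidHom.map_zpowers]
    show zpowers (g * x * g⁻¹) = zpowers x
    rw [hg, zpowers_inv]
  have hC : centralizer (zpowers x : Set G) = centralizer ({x} : Set G) := by
    rw [zpowers_eq_closure, centralizer_closure]
  have h := hhom (zpowers x) (by rwa [Ne, zpowers_eq_bot])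
    (by rw [Nat.card_zpowers]; exact hodd.not_two_dvd_nat)
  rw [hC] at h
  set C := centralizer ({x} : Set G)
  set N := normalizer (zpowers x : Set G)
  have hCN : C ≤ N := hC ▸ centralizer_le_normalizer _
  have hn : g ∈ normalizer (C : Set G) := by
    rw [mem_normalizer_iff]
    intro c
    simp only [C, mem_centralizer_singleton_iff]
    constructor
    · intro hc'
      have h1 : Commute c x⁻¹ := (show Commute c x from hc').inv_right
      calc g * c * g⁻¹ * x = g * c * g⁻¹ * (g * x⁻¹ * g⁻¹) := by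
            rw [show g * x⁻¹ * g⁻¹ = (g * x * g⁻¹)⁻¹ by group, hg, inv_inv]
        _ = g * (c * x⁻¹) * g⁻¹ := by group
        _ = g * (x⁻¹ * c) * g⁻¹ := by rw [h1.eq]
        _ = (g * x⁻¹ * g⁻¹) * (g * c * g⁻¹) := by group
        _ = x * (g * c * g⁻¹) := by
            rw [show g * x⁻¹ * g⁻¹ = (g * x * g⁻¹)⁻¹ by group, hg, inv_inv]
    · intro hc'
      have h1 : Commute (g * c * g⁻¹) x⁻¹ := (show Commute (g * c * g⁻¹) x from hc').inv_right
      calc c * x = g⁻¹ * (g * c * g⁻¹ * (g * x * g⁻¹)) * g := by group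
        _ = g⁻¹ * (g * x * g⁻¹ * (g * c * g⁻¹)) * g := by rw [hg, h1.eq]
        _ = x * c := by group
  have h2 : g ^ 2 ∈ C := by
    rw [mem_centralizer_singleton_iff]
    calc g ^ 2 * x = g * (g * x * g⁻¹) * g⁻¹ * g ^ 2 := by rw [pow_two]; group
      _ = (g * x * g⁻¹)⁻¹ * g ^ 2 := by rw [show g * (g * x * g⁻¹) * g⁻¹ = g * x⁻¹ * g⁻¹ by rw [hg]]; group
      _ = x * g ^ 2 := by rw [hg, inv_inv]
  have hgC := Cfsg.Agent.Struct.Inverted.mem_of_sq_mem hn h2 fun hd => h (hd.trans
    (Dvd.intro _ (relIndex_mul_relIndex C (C ⊔ zpowers g) N le_sup_left (sup_le hCN (zpowers_le.2 hgn)))))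
  rw [mem_centralizer_singleton_iff] at hgC
  rw [hgC, mul_inv_cancel_right] at hg
  have hsq : x ^ 2 = 1 := by rw [pow_two]; exact eq_inv_iff_mul_eq_one.1 hg
  exact hx (orderOf_eq_one_iff.1 (Nat.Coprime.eq_one_of_dvd
    (Nat.coprime_two_right.2 hodd) (orderOf_dvd_of_pow_eq_one hsq)))

end Cfsg.Agent.S4049
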