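import Cfsg.Statements.S4050
import Cfsg.Agent.Lib.Struct.PiClosed

set_option autoImplicit false
set_option linter.style.haveILetI false
open Cfsg
open Subgroup Cfsg.Agent.Struct.PiClosed
open scoped commutatorElement

namespace Cfsg.Agent.S4050

/-- Let π be a set of primes and G a finite group. The π-elements of G (elements whose order is divisible only by primes of π) form a subgroup if and only if G is π-separable (it has a chain of normal subgroups from 1 to G with each successive index divisible only by primes in π or only by primes outside π) and N_G(H)/C_G(H) is a π'-group for every nontrivial π'-subgroup H of G. -/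
theorem result {G : Type*} [Group G] [Finite G] (π : Set ℕ)
    (hπ : ∀ p ∈ π, p.Prime) :
    (∃ K : Subgroup G, ∀ x : G, x ∈ K ↔ ∀ p : ℕ, p.Prime → p ∣ orderOf x → p ∈ π) ↔
    ((∃ (n : ℕ) (H : Fin (n + 1) → Subgroup G), H 0 = ⊥ ∧ H (Fin.last n) = ⊤ ∧ Monotone H ∧ (∀ i, (H i).Normal) ∧
      ∀ i : Fin n, (∀ q : ℕ, q.Prime → q ∣ (H i.castSucc).relIndex (H i.succ) → q ∈ π) ∨
        (∀ q : ℕ, q.Prime → q ∣ (H i.castSucc).relIndex (H i.succ) → q ∉ π)) ∧
     (∀ H : Subgroup G, H ≠ ⊥ → (∀ p : ℕ, p.Prime → p ∣ Nat.card ↥H → p ∉ π) →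
        ∀ p : ℕ, p.Prime → p ∣ (Subgroup.centralizer (H : Set G)).relIndex (Subgroup.normalizer (H : Set G)) → p ∉ π)) := by
  classical
  constructor
  · rintro ⟨K, hK⟩
    have hKn : K.Normal := ⟨fun x hx g => (hK _).2 (by
      rw [show orderOf (g * x * g⁻¹) = orderOf x from (MulAut.conj g).orderOf_eq _]
      exact (hK x).1 hx)⟩
    have hKpi : IsPi π (Nat.card K) := isPi_card fun x => by
      rw [← Subgroup.orderOf_coe]; exact (hK x).1 x.2
    refine ⟨⟨2, ![⊥, K, ⊤], rfl, rfl, ?_, ?_, ?_⟩, ?_⟩
    · refine Fin.monotone_iff_le_succ.2 fun i => ?_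
      fin_cases i
      · exact bot_le
      · exact le_top
    · intro i
      fin_cases i
      · exact (inferInstance : (⊥ : Subgroup G).Normal)
      · exact hKn
      · exact (inferInstance : (⊤ : Subgroup G).Normal)
    · intro i
      fin_cases i
      · left
        intro q hq hd
        change q ∣ (⊥ : Subgroup G).relIndex K at hd
        rw [relIndex_bot_left] at hd
        exact hKpi q hq hd
      · right
        intro q hq hd hqπ
        change q ∣ K.relIndex ⊤ at hd
        rw [relIndex_top_right, index_eq_card] at hd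
        haveI := Fact.mk hq
        obtain ⟨X, hX⟩ := exists_prime_orderOf_dvd_card' q hd
        obtain ⟨x, rfl⟩ := QuotientGroup.mk'_surjective K X
        obtain ⟨k, hk, hkx⟩ := exists_pow_pi (QuotientGroup.mk' K) π x (fun r hr hrd => by
          rw [hX] at hrd
          rwa [(Nat.prime_dvd_prime_iff_eq hr hq).1 hrd])
        have h1 : QuotientGroup.mk' K (x ^ k) = 1 := (QuotientGroup.eq_one_iff _).2 ((hK _).2 hk)
        rw [hkx] at h1
        rw [h1, orderOf_one] at hX
        exact hq.one_lt.ne hX
    · intro H _ hH p hp hd hpπ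
      haveI := Fact.mk hp
      have : ((centralizer (H : Set G)).subgroupOf (normalizer (H : Set G))).Normal := inferInstance
      change p ∣ ((centralizer (H : Set G)).subgroupOf (normalizer (H : Set G))).index at hd
      rw [index_eq_card] at hd
      obtain ⟨X, hX⟩ := exists_prime_orderOf_dvd_card' p hd
      obtain ⟨x, rfl⟩ := QuotientGroup.mk'_surjective _ X
      obtain ⟨k, hk, hkx⟩ := exists_pow_pi
        (QuotientGroup.mk' ((centralizer (H : Set G)).subgroupOf (normalizer (H : Set G)))) π x
        (fun r hr hrd => by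
          rw [hX] at hrd
          rwa [(Nat.prime_dvd_prime_iff_eq hr hp).1 hrd])
      rw [← Subgroup.orderOf_coe] at hk
      have hy : ((x ^ k : normalizer (H : Set G)) : G) ∈ centralizer (H : Set G) := by
        refine mem_centralizer_iff.2 fun h hh => ?_
        have hyK := (hK _).2 hk
        have hc1 : ⁅((x ^ k : normalizer (H : Set G)) : G), h⁆ ∈ H := by
          rw [commutatorElement_def]
          exact mul_mem (((mem_normalizer_iff.1 (x ^ k).2) h).1 hh) (inv_mem hh)
        have hc2 : ⁅((x ^ k : normalizer (H : Set G)) : G), h⁆ ∈ K := by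
          rw [commutatorElement_def, mul_assoc, mul_assoc, ← mul_assoc h]
          exact mul_mem hyK (hKn.conj_mem _ (inv_mem hyK) h)
        have ho : orderOf ⁅((x ^ k : normalizer (H : Set G)) : G), h⁆ = 1 := by
          by_contra hne
          obtain ⟨r, hr, hrd⟩ := Nat.exists_prime_and_dvd hne
          exact hH r hr (hrd.trans (Subgroup.orderOf_dvd_natCard H hc1))
            (hKpi r hr (hrd.trans (Subgroup.orderOf_dvd_natCard K hc2)))
        exact (commutatorElement_eq_one_iff_mul_comm.1 (orderOf_eq_one_iff.1 ho)).symm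
      have h1 : QuotientGroup.mk' ((centralizer (H : Set G)).subgroupOf (normalizer (H : Set G))) (x ^ k) = 1 :=
        (QuotientGroup.eq_one_iff _).2 (mem_subgroupOf.2 hy)
      rw [hkx] at h1
      rw [h1, orderOf_one] at hX
      exact hp.one_lt.ne hX
  · rintro ⟨⟨n, H, h0, hlast, hmono, hnorm, hstep⟩, hhom⟩
    suffices key : ∀ i : Fin (n + 1), ∃ L : Subgroup G, L ≤ H i ∧ ∀ x ∈ H i, (x ∈ L ↔ IsPi π (orderOf x)) by
      obtain ⟨L, -, hL⟩ := key (Fin.last n)
      exact ⟨L, fun x => hL x (hlast ▸ mem_top x)⟩
    intro i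
    induction i using Fin.induction with
    | zero =>
      refine ⟨⊥, bot_le, fun x hx => ?_⟩
      rw [h0, mem_bot] at hx
      subst hx
      exact ⟨fun _ p hp hd => absurd (orderOf_one (G := G) ▸ hd) hp.not_dvd_one, fun _ => one_mem _⟩
    | succ i ih =>
      obtain ⟨L, hLle, hL⟩ := ih
      haveI := hnorm i.castSucc
      haveI := hnorm i.succ
      have hle : H i.castSucc ≤ H i.succ := hmono Fin.castSucc_lt_succ.le
      have hord : ∀ x ∈ H i.succ, orderOf (x : G ⧸ H i.castSucc) ∣ (H i.castSucc).relIndex (H i.succ) := by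
        intro x hx
        refine orderOf_dvd_of_pow_eq_one ?_
        rw [← QuotientGroup.mk_pow, QuotientGroup.eq_one_iff]
        have h := Subgroup.pow_index_mem ((H i.castSucc).subgroupOf (H i.succ)) (⟨x, hx⟩ : H i.succ)
        exact h
      have hLn : L.Normal := ⟨fun x hx g => by
        refine (hL _ ((hnorm i.castSucc).conj_mem x (hLle hx) g)).2 ?_
        rw [show orderOf (g * x * g⁻¹) = orderOf x from (MulAut.conj g).orderOf_eq _]
        exact (hL x (hLle hx)).1 hx⟩
      rcases hstep i with h | h
      · exact closed_step (ncHyp_of_relIndex hhom) L (H i.castSucc) (H i.succ) hLle hle hL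
          (fun x hx p hp hd => h p hp (hd.trans (hord x hx)))
      · refine ⟨L, hLle.trans hle, fun x hx => ⟨fun hxL => (hL x (hLle hxL)).1 hxL, fun hxpi => ?_⟩⟩
        have hxH : x ∈ H i.castSucc := by
          rw [← QuotientGroup.eq_one_iff, ← orderOf_eq_one_iff]
          by_contra hne
          obtain ⟨p, hp, hpd⟩ := Nat.exists_prime_and_dvd hne
          exact h p hp (hpd.trans (hord x hx)) (hxpi p hp (hpd.trans (orderOf_map_dvd (QuotientGroup.mk' _) x)))
        exact (hL x hxH).2 hxpi

end Cfsg.Agent.S4050
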