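import Cfsg.Statements.S4051
import Cfsg.Agent.Lib.Struct.PiClosed

set_option autoImplicit false
set_option linter.style.haveILetI false
open Cfsg
open Subgroup Cfsg.Agent.Struct.PiClosed

namespace Cfsg.Agent.S4051

/-- Let π be a set of primes and G a finite group such that N_G(H)/C_G(H) is a π'-group for every nontrivial π'-subgroup H of G. If K is a normal subgroup of G such that the π-elements of K form a subgroup and the π-elements of G/K form a subgroup, then the π-elements of G form a subgroup. -/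
theorem result {G : Type*} [Group G] [Finite G] (π : Set ℕ)
    (hπ : ∀ p ∈ π, p.Prime) (hhom : (∀ H : Subgroup G, H ≠ ⊥ → (∀ p : ℕ, p.Prime → p ∣ Nat.card ↥H → p ∉ π) →
        ∀ p : ℕ, p.Prime → p ∣ (Subgroup.centralizer (H : Set G)).relIndex (Subgroup.normalizer (H : Set G)) → p ∉ π))
    (K : Subgroup G) [K.Normal]
    (hK : ∃ L : Subgroup ↥K, ∀ x : ↥K, x ∈ L ↔ ∀ p : ℕ, p.Prime → p ∣ orderOf x → p ∈ π)
    (hQ : ∃ L : Subgroup (G ⧸ K), ∀ x : G ⧸ K, x ∈ L ↔ ∀ p : ℕ, p.Prime → p ∣ orderOf x → p ∈ π) :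
    (∃ K : Subgroup G, ∀ x : G, x ∈ K ↔ ∀ p : ℕ, p.Prime → p ∣ orderOf x → p ∈ π) := by
  classical
  obtain ⟨L, hL⟩ := hK
  have hLn : (L.map K.subtype).Normal := ⟨fun x hx g => by
    obtain ⟨y, hy, rfl⟩ := hx
    refine ⟨⟨g * y * g⁻¹, Subgroup.Normal.conj_mem inferInstance _ y.2 g⟩, (hL _).2 ?_, rfl⟩
    have h := (hL y).1 hy
    rwa [← Subgroup.orderOf_coe, show orderOf (g * (y : G) * g⁻¹) = orderOf (y : G) from
      (MulAut.conj g).orderOf_eq _, Subgroup.orderOf_coe]⟩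
  obtain ⟨Lq, hLq⟩ := hQ
  have hLqn : Lq.Normal := ⟨fun x hx g => (hLq _).2 (by
    rw [show orderOf (g * x * g⁻¹) = orderOf x from (MulAut.conj g).orderOf_eq _]
    exact (hLq x).1 hx)⟩
  haveI : (Lq.comap (QuotientGroup.mk' K)).Normal := inferInstance
  have hLK : ∀ x ∈ K, (x ∈ L.map K.subtype ↔ IsPi π (orderOf x)) := by
    intro x hx
    constructor
    · rintro ⟨y, hy, rfl⟩
      show IsPi π (orderOf (y : G))
      rw [Subgroup.orderOf_coe]
      exact (hL y).1 hy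
    · intro h
      refine ⟨⟨x, hx⟩, (hL _).2 ?_, rfl⟩
      rw [Subgroup.orderOf_mk]
      exact h
  have hKM : K ≤ Lq.comap (QuotientGroup.mk' K) := by
    intro x hx
    show (x : G ⧸ K) ∈ Lq
    rw [(QuotientGroup.eq_one_iff x).2 hx]
    exact one_mem Lq
  obtain ⟨L', hL', hiff⟩ := closed_step (π := π) (ncHyp_of_relIndex hhom) (L.map K.subtype) K
    (Lq.comap (QuotientGroup.mk' K)) (map_subtype_le _) hKM hLK (fun x hx => (hLq _).1 hx)
  refine ⟨L', fun x => ⟨fun hx => (hiff x (hL' hx)).1 hx, fun hx => ?_⟩⟩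
  have hxM : x ∈ Lq.comap (QuotientGroup.mk' K) :=
    (hLq _).2 fun p hp hd => hx p hp (hd.trans (orderOf_map_dvd _ x))
  exact (hiff x hxM).2 hx

end Cfsg.Agent.S4051
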