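import Cfsg.Statements.S4056
import Cfsg.Agent.Lib.Struct.ClassTwoBasic

set_option autoImplicit false
open Cfsg
open Subgroup Cfsg.Agent.Struct.ClassTwo
open scoped commutatorElement

namespace Cfsg.Agent.S4056

/-- In a finite 2-group of nilpotency class at most 2 and exponent dividing 4, the Frattini subgroup lies in the centre and is elementary abelian. -/
theorem result {P : Type*} [Group P] [Finite P] (hP : IsPGroup 2 P)
    (hcl : Group.nilpotencyClass P ≤ 2) (hexp : Monoid.exponent P ∣ 4) :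
    frattini P ≤ Subgroup.center P ∧ Cfsg.IsElementaryAbelian 2 (frattini P) := by
  haveI := hP.isNilpotent
  have hc := comm_mem_center hcl
  have h4 : ∀ x : P, x ^ 4 = 1 := fun x =>
    orderOf_dvd_iff_pow_eq_one.1 ((Monoid.order_dvd_exponent x).trans hexp)
  have hc2 : ∀ x y : P, ⁅x, y⁆ ^ 2 = 1 := fun x y => by
    have h := Cfsg.Agent.Struct.ClassTwo.mul_pow hc y x 4
    rw [h4, h4, h4, one_mul, one_mul, show Nat.choose 4 2 = 4 + 2 from rfl, pow_add, h4, one_mul] at h
    exact h.symm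
  have hsq : ∀ x : P, x ^ 2 ∈ center P := fun x => mem_center_iff.2 fun g => by
    have h : ⁅x ^ 2, g⁆ = 1 := by rw [pow_left hc, hc2]
    exact (commutatorElement_eq_one_iff_mul_comm.1 h).symm
  have hle : frattini P ≤ center P := frattini_le Nat.prime_two
    (commutator_le.2 fun a _ b _ => hc a b) hsq
  refine ⟨hle, ⟨⟨fun a b => Subtype.ext ((mem_center_iff.1 (hle b.2)) a)⟩⟩, ?_⟩
  let E : Subgroup P :=
    { carrier := {z | z ∈ center P ∧ z ^ 2 = 1}
      one_mem' := ⟨one_mem _, one_pow 2⟩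
      mul_mem' := fun {a b} ha hb => ⟨mul_mem ha.1 hb.1, by
        rw [Commute.mul_pow (mem_center_iff.1 hb.1 a), ha.2, hb.2, one_mul]⟩
      inv_mem' := fun {a} ha => ⟨inv_mem ha.1, by rw [inv_pow, ha.2, inv_one]⟩ }
  have hE : frattini P ≤ E := frattini_le Nat.prime_two
    (commutator_le.2 fun a _ b _ => ⟨hc a b, hc2 a b⟩) fun x => ⟨hsq x, by rw [← pow_mul]; exact h4 x⟩
  exact fun a ha => (hE ha).2

end Cfsg.Agent.S4056
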