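import Cfsg.Statements.S4058
import Cfsg.Agent.Lib.Struct.FSIndicator
import Cfsg.Agent.Lib.Char.Linear
import Cfsg.Agent.Lib.Char.Integral
import Mathlib.GroupTheory.Frattini
import Mathlib.GroupTheory.Nilpotent
import Mathlib.GroupTheory.Sylow
import Mathlib.GroupTheory.GroupAction.Quotient
import Mathlib.Tactic

set_option autoImplicit false
open Cfsg
open Cfsg.Agent.Char Cfsg.Agent.Struct.FS
open scoped ComplexConjugate

namespace Cfsg.Agent.S4058

/-- Let G be a finite 2-group with #(G/Φ(G)) ≥ 2^(2k+1). Then the number of elements x of G with x² = 1 is divisible by 2^(k+1). -/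
theorem result {G : Type*} [Group G] [Finite G] (hG : IsPGroup 2 G) (k : ℕ)
    (hgen : 2 ^ (2 * k + 1) ≤ Nat.card (G ⧸ frattini G)) :
    2 ^ (k + 1) ∣ Nat.card {x : G // x ^ 2 = 1} := by
  classical
  haveI := Fintype.ofFinite G
  have := Fact.mk Nat.prime_two
  -- the Frattini quotient
  have hcoat : ∀ M : Subgroup G, IsCoatom M → M.Normal ∧ M.index = 2 := by
    intro M hM
    haveI := hG.isNilpotent
    haveI hMn : M.Normal := Subgroup.NormalizerCondition.normal_of_coatom M Group.normalizerCondition_of_isNilpotent hM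
    refine ⟨hMn, ?_⟩
    have hG' : IsPGroup 2 (G ⧸ M) := hG.to_quotient M
    obtain ⟨j, hj⟩ := IsPGroup.iff_card.1 hG'
    have hj1 : 1 ≤ j := by
      by_contra h0
      rw [show j = 0 by omega, pow_zero] at hj
      exact hM.1 (Subgroup.index_eq_one.1 hj)
    obtain ⟨x, hx⟩ := exists_prime_orderOf_dvd_card' (G := G ⧸ M) 2 (by rw [hj]; exact dvd_pow_self 2 (by omega))
    have htop : (Subgroup.zpowers x).comap (QuotientGroup.mk' M) = ⊤ := by
      refine hM.2 _ (lt_of_le_of_ne ?_ fun he => ?_)
      · intro m hm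
        rw [Subgroup.mem_comap, QuotientGroup.mk'_apply, (QuotientGroup.eq_one_iff m).2 hm]
        exact one_mem _
      · have h1 : Subgroup.zpowers x = ⊥ := by
          rw [← Subgroup.map_comap_eq_self_of_surjective (QuotientGroup.mk'_surjective M) (Subgroup.zpowers x),
            ← he, QuotientGroup.map_mk'_self]
        rw [Subgroup.zpowers_eq_bot] at h1
        rw [h1, orderOf_one] at hx
        omega
    have hz : Subgroup.zpowers x = ⊤ := by
      rw [← Subgroup.map_comap_eq_self_of_surjective (QuotientGroup.mk'_surjective M) (Subgroup.zpowers x),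
        htop, Subgroup.map_top_of_surjective _ (QuotientGroup.mk'_surjective M)]
    rw [Subgroup.index, ← Subgroup.card_top, ← hz, Nat.card_zpowers, hx]
  have hmem : ∀ y : G, (∀ M : Subgroup G, IsCoatom M → y ∈ M) → y ∈ frattini G := fun y hy => by
    simp only [frattini, Order.radical, Subgroup.mem_iInf]
    exact hy
  have hsq : ∀ x : G, x ^ 2 ∈ frattini G := fun x => hmem _ fun M hM => by
    obtain ⟨hMn, hi⟩ := hcoat M hM
    exact hi ▸ M.pow_index_mem x
  have hcm : ∀ x y : G, x * y * x⁻¹ * y⁻¹ ∈ frattini G := fun x y => hmem _ fun M hM => by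
    obtain ⟨hMn, hi⟩ := hcoat M hM
    have := Fact.mk Nat.prime_two
    have hcyc : IsCyclic (G ⧸ M) := isCyclic_of_prime_card (p := 2) hi
    rw [← QuotientGroup.eq_one_iff]
    show (x : G ⧸ M) * y * (x : G ⧸ M)⁻¹ * (y : G ⧸ M)⁻¹ = 1
    haveI := IsCyclic.isMulCommutative (α := G ⧸ M)
    rw [mul_comm' (x : G ⧸ M) y, mul_inv_cancel_right, mul_inv_cancel]
  let Q := G ⧸ frattini G
  have hsqQ : ∀ (l : Q →* ℂˣ) (x : G), l (QuotientGroup.mk (x ^ 2)) = 1 := fun l x => by
    rw [(QuotientGroup.eq_one_iff _).2 (hsq x), map_one]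
  let Λ := Q →* ℂˣ
  have hΛfin : Finite Λ := by
    have : Nat.card Λ ≠ 0 := by
      rw [card_monoidHom_units (G := Q)]
      exact Subgroup.index_ne_zero_of_finite
    exact Nat.finite_of_card_ne_zero this
  haveI : Fintype Λ := Fintype.ofFinite Λ
  have hΛcard : Nat.card Λ = Nat.card Q := by
    rw [card_monoidHom_units (G := Q)]
    have : commutator Q = ⊥ := by
      rw [eq_bot_iff, commutator_def, Subgroup.commutator_le]
      intro a _ b _
      obtain ⟨x, rfl⟩ := QuotientGroup.mk'_surjective _ a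
      obtain ⟨y, rfl⟩ := QuotientGroup.mk'_surjective _ b
      rw [Subgroup.mem_bot, commutatorElement_def, ← map_inv, ← map_inv, ← map_mul, ← map_mul, ← map_mul,
        QuotientGroup.mk'_apply, QuotientGroup.eq_one_iff]
      exact hcm x y
    rw [this, Subgroup.index_bot]
  -- the action
  let act : Λ → IrrCharacter G → IrrCharacter G := fun l χ =>
    ⟨fun g => (l (QuotientGroup.mk g) : ℂ) * (χ : G → ℂ) g, by
      have hl := isIrrCharacter_monoidHom (l.comp (QuotientGroup.mk' (frattini G)))
      refine isIrrCharacter_iff.mpr ⟨isCharacter_mul (IsIrrCharacter.isCharacter hl) (IsIrrCharacter.isCharacter χ.2), ?_⟩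
      rw [← IsIrrCharacter.classInner_self χ.2]
      have h1 : ∀ g : G, (l (QuotientGroup.mk g) : ℂ) * conj (l (QuotientGroup.mk g) : ℂ) = 1 := fun g => by
        have : (l (QuotientGroup.mk g⁻¹) : ℂ) = conj (l (QuotientGroup.mk g) : ℂ) :=
          IsCharacter.map_inv (IsIrrCharacter.isCharacter hl) g
        rw [← this, ← Units.val_mul, ← map_mul, QuotientGroup.mk_inv, mul_inv_cancel, map_one, Units.val_one]
      unfold classInner
      congr 1
      refine Finset.sum_congr rfl fun g _ => ?_
      rw [map_mul, mul_mul_mul_comm, h1, one_mul]⟩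
  letI : MulAction Λ (IrrCharacter G) :=
    { smul := act
      one_smul := fun χ => Subtype.ext (funext fun g => by
        show ((1 : Λ) (QuotientGroup.mk g) : ℂ) * (χ : G → ℂ) g = _
        rw [MonoidHom.one_apply, Units.val_one, one_mul])
      mul_smul := fun l m χ => Subtype.ext (funext fun g => by
        show ((l * m : Λ) (QuotientGroup.mk g) : ℂ) * (χ : G → ℂ) g =
          (l (QuotientGroup.mk g) : ℂ) * ((m (QuotientGroup.mk g) : ℂ) * (χ : G → ℂ) g)
        rw [MonoidHom.mul_apply, Units.val_mul, mul_assoc]) }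
  haveI := Fintype.ofFinite (IrrCharacter G)
  -- integral terms
  have hterm : ∀ χ : IrrCharacter G, ∃ z : ℤ,
      classInner (sqCount (G := G)) (χ : G → ℂ) * (χ : G → ℂ) 1 = z := by
    intro χ
    obtain ⟨z, hz⟩ := exists_int_indicator (IsIrrCharacter.isCharacter χ.2)
    obtain ⟨n, hn⟩ := IsCharacter.exists_degree (IsIrrCharacter.isCharacter χ.2)
    exact ⟨z * n, by rw [hz, hn]; push_cast; rfl⟩
  choose z hz using hterm
  have hzinv : ∀ (l : Λ) χ, z (l • χ) = z χ := by
    intro l χ
    have h1 : (((z (l • χ) : ℤ) : ℂ)) = (z χ : ℂ) := by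
      rw [← hz, ← hz, classInner_sqCount, classInner_sqCount]
      show _ * (∑ x : G, conj ((l (QuotientGroup.mk (x ^ 2)) : ℂ) * (χ : G → ℂ) (x ^ 2))) *
        ((l (QuotientGroup.mk (1 : G)) : ℂ) * (χ : G → ℂ) 1) = _
      simp only [hsqQ, Units.val_one, one_mul, QuotientGroup.mk_one, map_one]
    exact_mod_cast h1
  have hT : (Nat.card {x : G // x ^ 2 = 1} : ℤ) = ∑ χ, z χ := by
    have h1 := congrFun (IsClassFunction.eq_sum (isClassFunction_sqCount (G := G))) 1
    simp only [Finset.sum_apply, Pi.smul_apply, smul_eq_mul, hz] at h1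
    unfold sqCount at h1
    exact_mod_cast h1
  -- each orbit
  have horb : ∀ χ : IrrCharacter G, (2 : ℤ) ^ (k + 1) ∣ (Nat.card (MulAction.orbit Λ χ) : ℤ) * z χ := by
    intro χ
    obtain ⟨n, hn⟩ := IsCharacter.exists_degree (IsIrrCharacter.isCharacter χ.2)
    obtain ⟨w, hw⟩ := exists_int_indicator (IsIrrCharacter.isCharacter χ.2)
    have hzw : z χ = w * n := by
      have h1 : ((z χ : ℤ) : ℂ) = ((w * n : ℤ) : ℂ) := by
        rw [← hz, hw, hn]; push_cast; rfl
      exact_mod_cast h1
    obtain ⟨a, ha⟩ : ∃ a, n = 2 ^ a := by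
      obtain ⟨e, he⟩ := IsPGroup.iff_card.1 hG
      obtain ⟨a, -, ha⟩ := (Nat.dvd_prime_pow Nat.prime_two).1 (he ▸ degree_dvd_card χ.2 n hn)
      exact ⟨a, ha⟩
    have hstab : Nat.card (MulAction.stabilizer Λ χ) ≤ n ^ 2 := by
      set Φc : G → ℂ := fun g => (χ : G → ℂ) g * conj ((χ : G → ℂ) g)
      have hΦc : IsCharacter G Φc := isCharacter_mul (IsIrrCharacter.isCharacter χ.2) (isCharacter_conj (IsIrrCharacter.isCharacter χ.2))
      have h1 := congrFun (IsClassFunction.eq_sum (IsCharacter.isClassFunction hΦc)) 1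
      simp only [Finset.sum_apply, Pi.smul_apply, smul_eq_mul] at h1
      have hnat : ∀ ψ : IrrCharacter G, ∃ m : ℕ, classInner Φc (ψ : G → ℂ) * (ψ : G → ℂ) 1 = m := by
        intro ψ
        obtain ⟨m, hm⟩ := classInner_natCast_of_isCharacter hΦc (IsIrrCharacter.isCharacter ψ.2)
        obtain ⟨r, hr⟩ := IsCharacter.exists_degree (IsIrrCharacter.isCharacter ψ.2)
        exact ⟨m * r, by rw [hm, hr]; push_cast; rfl⟩
      choose m hm using hnat
      simp only [hm] at h1
      have h2 : Φc 1 = ((n ^ 2 : ℕ) : ℂ) := by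
        simp only [Φc, hn, Complex.conj_natCast]; push_cast; ring
      have h3 : n ^ 2 = ∑ ψ, m ψ := by
        rw [h2] at h1
        exact_mod_cast h1
      rw [h3, Nat.card_eq_fintype_card]
      let f : MulAction.stabilizer Λ χ → IrrCharacter G := fun l =>
        ⟨_, isIrrCharacter_monoidHom ((l : Λ).comp (QuotientGroup.mk' (frattini G)))⟩
      have hf : Function.Injective f := by
        intro l l' h
        apply Subtype.ext
        refine MonoidHom.ext fun q => ?_
        obtain ⟨g, rfl⟩ := QuotientGroup.mk'_surjective _ q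
        exact DFunLike.congr_fun (monoidHom_coe_injective (congrArg Subtype.val h)) g
      have hm1 : ∀ l, 1 ≤ m (f l) := fun l => by
        have h4 : classInner Φc (f l : G → ℂ) * (f l : G → ℂ) 1 = 1 := by
          have hfl1 : (f l : G → ℂ) 1 = 1 := by simp [f]
          rw [hfl1, mul_one, ← IsIrrCharacter.classInner_self χ.2]
          unfold classInner
          congr 1
          refine Finset.sum_congr rfl fun g _ => ?_
          have hl : act l.1 χ = χ := l.2
          have hl' : ((l : Λ) (QuotientGroup.mk g) : ℂ) * (χ : G → ℂ) g = (χ : G → ℂ) g :=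
            congrFun (congrArg Subtype.val hl) g
          show (χ : G → ℂ) g * conj ((χ : G → ℂ) g) * conj ((l : Λ) (QuotientGroup.mk g) : ℂ) = _
          rw [mul_assoc, mul_comm (conj ((χ : G → ℂ) g)), ← map_mul, hl']
        rw [hm] at h4
        exact le_of_eq (by exact_mod_cast h4.symm)
      calc Fintype.card (MulAction.stabilizer Λ χ) = ∑ _l : MulAction.stabilizer Λ χ, 1 := by simp
        _ ≤ ∑ l, m (f l) := Finset.sum_le_sum fun l _ => hm1 l
        _ = ∑ ψ ∈ Finset.univ.image f, m ψ := (Finset.sum_image fun a _ b _ h => hf h).symm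
        _ ≤ ∑ ψ, m ψ := Finset.sum_le_sum_of_subset (Finset.subset_univ _)
    obtain ⟨d, hd⟩ := IsPGroup.iff_card.1 (hG.to_quotient (frattini G))
    have hdk : 2 * k + 1 ≤ d := (Nat.pow_le_pow_iff_right one_lt_two).1 (hd ▸ hgen)
    have hsplit := MulAction.card_orbit_mul_card_stabilizer_eq_card_group Λ χ
    simp only [← Nat.card_eq_fintype_card] at hsplit
    have hΛ2 : Nat.card Λ = 2 ^ d := hΛcard.trans hd
    have hsplit' : Nat.card (MulAction.orbit Λ χ) * Nat.card (MulAction.stabilizer Λ χ) = 2 ^ d := by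
      rw [← hΛ2]
      exact hsplit
    obtain ⟨o, -, ho⟩ := (Nat.dvd_prime_pow Nat.prime_two).1 (Dvd.intro _ hsplit')
    obtain ⟨s, -, hs⟩ := (Nat.dvd_prime_pow Nat.prime_two).1 (Dvd.intro_left _ hsplit')
    have hos : o + s = d := by
      rw [ho, hs, ← pow_add] at hsplit'
      exact Nat.pow_right_injective le_rfl hsplit'
    have hsa : s ≤ 2 * a := by
      rw [hs, ha, ← pow_mul] at hstab
      have := (Nat.pow_le_pow_iff_right one_lt_two).1 hstab
      omega
    rw [hzw, ho, ha]
    refine dvd_trans (pow_dvd_pow (2 : ℤ) (show k + 1 ≤ o + a by omega)) ⟨w, ?_⟩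
    push_cast
    ring
  have hdiv : (2 : ℤ) ^ (k + 1) ∣ ∑ χ, z χ := by
    let p : IrrCharacter G → Quotient (MulAction.orbitRel Λ (IrrCharacter G)) := Quotient.mk _
    rw [← Finset.sum_fiberwise Finset.univ p z]
    refine Finset.dvd_sum fun q _ => ?_
    induction q using Quotient.inductionOn with
    | h χ =>
      have hset : ∀ ψ, p ψ = Quotient.mk _ χ ↔ ψ ∈ MulAction.orbit Λ χ := fun ψ =>
        Quotient.eq.trans Iff.rfl
      rw [Finset.sum_congr rfl (g := fun _ => z χ) fun ψ hψ => by
        obtain ⟨l, rfl⟩ := (hset ψ).1 (Finset.mem_filter.1 hψ).2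
        exact hzinv l χ]
      rw [Finset.sum_const, nsmul_eq_mul]
      have hc : (Finset.univ.filter fun ψ => p ψ = Quotient.mk _ χ).card = Nat.card (MulAction.orbit Λ χ) := by
        rw [← Fintype.card_subtype, ← Nat.card_eq_fintype_card]
        exact Nat.card_congr (Equiv.subtypeEquivRight hset)
      rw [hc]
      exact horb χ
  rw [← hT] at hdiv
  exact_mod_cast hdiv

end Cfsg.Agent.S4058
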