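import Cfsg.Statements.S4059
import Cfsg.Agent.Lib.Struct.Inverted

set_option autoImplicit false
open Cfsg
open Subgroup
open scoped commutatorElement

namespace Cfsg.Agent.S4059

/-- Let G be a finite group in which every element is conjugate to its inverse. Then: every non-identity element commuting with all elements of some Sylow 2-subgroup is an involution; the centre of G is an elementary abelian 2-group; the commutator quotient G/G' is an elementary abelian 2-group; and G is generated by its 2-elements. -/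
theorem result {G : Type*} [Group G] [Finite G] (hamb : ∀ x : G, IsConj x x⁻¹) :
    (∀ (S : Sylow 2 G) (x : G), x ∈ Subgroup.centralizer ((S : Subgroup G) : Set G) → x ≠ 1 → orderOf x = 2) ∧
    (∀ z : G, z ∈ Subgroup.center G → z ^ 2 = 1) ∧
    (∀ x : G, x ^ 2 ∈ commutator G) ∧
    Subgroup.closure {x : G | ∃ k : ℕ, orderOf x = 2 ^ k} = ⊤ := by
  haveI : Fact (Nat.Prime 2) := ⟨Nat.prime_two⟩
  refine ⟨fun S x hx hx1 => ?_, fun z hz => ?_, fun x => ?_, ?_⟩
  · obtain ⟨g, hg⟩ := isConj_iff.1 (hamb x)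
    exact orderOf_eq_prime (Cfsg.Agent.Struct.Inverted.sq_eq_one S hx hg) hx1
  · obtain ⟨g, hg⟩ := isConj_iff.1 (hamb z)
    rw [mem_center_iff.1 hz g, mul_inv_cancel_right] at hg
    rw [pow_two]; exact eq_inv_iff_mul_eq_one.1 hg
  · obtain ⟨g, hg⟩ := isConj_iff.1 (hamb x)
    have h : x ^ 2 = ⁅x, g⁆ := by
      rw [commutatorElement_def, show x * g * x⁻¹ * g⁻¹ = x * (g * x * g⁻¹)⁻¹ by group, hg, inv_inv, pow_two]
    rw [h]
    exact commutator_mem_commutator (mem_top _) (mem_top _)
  · set K := closure {x : G | ∃ k : ℕ, orderOf x = 2 ^ k}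
    haveI : K.Normal := by
      rw [← normalizer_eq_top_iff, eq_top_iff]
      intro g _
      rw [mem_normalizer_iff_map_conj_eq, MonoidHom.map_closure]
      congr 1
      ext y
      constructor
      · rintro ⟨z, ⟨k, hk⟩, rfl⟩
        exact ⟨k, (MulEquiv.orderOf_eq (MulAut.conj g) z).trans hk⟩
      · rintro ⟨k, hk⟩
        exact ⟨(MulAut.conj g).symm y, ⟨k, (MulEquiv.orderOf_eq (MulAut.conj g).symm y).trans hk⟩,
          (MulAut.conj g).apply_symm_apply y⟩
    obtain ⟨S⟩ := (inferInstance : Nonempty (Sylow 2 G))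
    have hSK : (S : Subgroup G) ≤ K := fun s hs => by
      obtain ⟨k, hk⟩ := IsPGroup.iff_orderOf.1 S.isPGroup' ⟨s, hs⟩
      exact subset_closure ⟨k, by rw [← hk, Subgroup.orderOf_mk]⟩
    have hodd : ¬ 2 ∣ Nat.card (G ⧸ K) := by
      rw [← Subgroup.index_eq_card]
      exact fun hd => S.not_dvd_index (hd.trans (index_dvd_of_le hSK))
    rw [eq_top_iff]
    intro x _
    obtain ⟨T⟩ := (inferInstance : Nonempty (Sylow 2 (G ⧸ K)))
    have hT : (T : Subgroup (G ⧸ K)) = ⊥ := by
      obtain ⟨k, hk⟩ := IsPGroup.iff_card.mp T.isPGroup'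
      rcases Nat.eq_zero_or_pos k with rfl | hk0
      · exact Subgroup.card_eq_one.1 (by simpa using hk)
      · exact absurd ((dvd_pow_self 2 hk0.ne').trans (hk ▸ card_subgroup_dvd_card _)) hodd
    obtain ⟨g, hg⟩ := isConj_iff.1 (hamb x)
    have h := Cfsg.Agent.Struct.Inverted.sq_eq_one T (x := QuotientGroup.mk' K x)
      (g := QuotientGroup.mk' K g) (by rw [hT, mem_centralizer_iff]; simp)
      (by rw [← map_inv, ← map_mul, ← map_mul, hg, map_inv])
    refine (QuotientGroup.eq_one_iff x).1 (orderOf_eq_one_iff.1 ?_)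
    exact Nat.Coprime.eq_one_of_dvd (k := orderOf (QuotientGroup.mk' K x))
      ((Nat.prime_two.coprime_iff_not_dvd.2 fun hd => hodd (hd.trans
        (orderOf_dvd_natCard (QuotientGroup.mk' K x)))).symm) (orderOf_dvd_of_pow_eq_one h)

end Cfsg.Agent.S4059
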