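import Cfsg.Statements.S4060
import Cfsg.Agent.Lib.Struct.Inverted
import Cfsg.Agent.Lib.Solv.Basic

set_option autoImplicit false
open Cfsg
open Subgroup

namespace Cfsg.Agent.S4060

universe u

theorem aux : ∀ (n : ℕ) (G : Type u) [Group G] [Finite G] [Group.IsSolvable G],
    Nat.card G = n → ∀ (S : Sylow 2 G) (x : G), x ≠ 1 → Odd (orderOf x) →
      x ∈ normalizer ((S : Subgroup G) : Set G) → ¬ IsConj x x⁻¹ := by
  haveI : Fact (Nat.Prime 2) := ⟨Nat.prime_two⟩
  intro n
  induction n using Nat.strong_induction_on with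
  | _ n ih =>
  intro G _ _ _ hn S x hx hodd hnorm hc
  obtain ⟨g, hg⟩ := isConj_iff.1 hc
  have ht : (⊤ : Subgroup G) ≠ ⊥ := fun e => hx (by simpa [e] using mem_top x)
  obtain ⟨N, hNm⟩ := Set.Finite.exists_minimal (s := {N : Subgroup G | N.Normal ∧ N ≠ ⊥})
    (Set.toFinite _) ⟨⊤, inferInstance, ht⟩
  obtain ⟨hN, hN0⟩ := hNm.prop
  haveI := hN
  by_cases hxN : x ∈ N
  · obtain ⟨-, r, hr, hre⟩ := Cfsg.Agent.Solv.minimal_normal_elementary N hN0 (fun M hM hle =>
      or_iff_not_imp_left.2 fun h0 => le_antisymm hle (hNm.le_of_le ⟨hM, h0⟩ hle))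
    have hor : orderOf x ∣ r := orderOf_dvd_of_pow_eq_one (hre x hxN)
    have hr2 : r ≠ 2 := fun e => hx (orderOf_eq_one_iff.1 (Nat.Coprime.eq_one_of_dvd
      (Nat.coprime_two_right.2 hodd) (e ▸ hor)))
    have hxC : x ∈ centralizer ((S : Subgroup G) : Set G) := mem_centralizer_iff.2 fun s hs => by
      have h1 : x * s * x⁻¹ * s⁻¹ ∈ N := by
        rw [mul_assoc x s, mul_assoc x]
        exact N.mul_mem hxN (hN.conj_mem _ (inv_mem hxN) s)
      have h2 : x * s * x⁻¹ * s⁻¹ ∈ (S : Subgroup G) :=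
        Subgroup.mul_mem _ ((mem_normalizer_iff.1 hnorm s).1 hs) (Subgroup.inv_mem _ hs)
      obtain ⟨k, hk⟩ := S.isPGroup' ⟨_, h2⟩
      have hk' : (x * s * x⁻¹ * s⁻¹) ^ 2 ^ k = 1 := congrArg Subtype.val hk
      have h3 : x * s * x⁻¹ * s⁻¹ = 1 := orderOf_eq_one_iff.1 (Nat.eq_one_of_dvd_coprimes
        (Nat.Coprime.pow_left k ((Nat.coprime_primes Nat.prime_two hr).2 hr2.symm))
        (orderOf_dvd_of_pow_eq_one hk') (orderOf_dvd_of_pow_eq_one (hre _ h1)))
      calc s * x = (x * s * x⁻¹ * s⁻¹)⁻¹ * (x * s) := by group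
        _ = x * s := by rw [h3, inv_one, one_mul]
    exact hx (orderOf_eq_one_iff.1 (Nat.Coprime.eq_one_of_dvd (Nat.coprime_two_right.2 hodd)
      (orderOf_dvd_of_pow_eq_one (Cfsg.Agent.Struct.Inverted.sq_eq_one S hxC hg))))
  · set π := QuotientGroup.mk' N
    have hπ : Function.Surjective π := QuotientGroup.mk'_surjective N
    haveI : Group.IsSolvable (G ⧸ N) := Group.isSolvable_of_surjective hπ
    have hcard : Nat.card (G ⧸ N) < n := by
      rw [← hn, Subgroup.card_eq_card_quotient_mul_card_subgroup N]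
      exact lt_mul_of_one_lt_right Nat.card_pos ((one_lt_card_iff_ne_bot N).2 hN0)
    refine ih _ hcard (G ⧸ N) rfl (S.mapSurjective hπ) (π x)
      (fun e => hxN ((QuotientGroup.eq_one_iff x).1 e)) (hodd.of_dvd_nat (orderOf_map_dvd π x)) ?_
      (by rw [← map_inv]; exact isConj_iff.2 ⟨π g, by rw [← map_inv, ← map_mul, ← map_mul, hg]⟩)
    rw [Sylow.coe_mapSurjective, mem_normalizer_iff_map_conj_eq, Subgroup.map_map]
    conv_rhs => rw [← mem_normalizer_iff_map_conj_eq.1 hnorm, Subgroup.map_map]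
    congr 1

/-- Let G be a finite solvable group with Sylow 2-subgroup S, and let x ≠ 1 be an element of odd order normalizing S. Then x is not conjugate to its inverse in G. -/
theorem result {G : Type*} [Group G] [Finite G] [Group.IsSolvable G]
    (S : Sylow 2 G) (x : G) (hx : x ≠ 1) (hodd : Odd (orderOf x))
    (hnorm : x ∈ Subgroup.normalizer ((S : Subgroup G) : Set G)) : ¬ IsConj x x⁻¹ := by
  exact aux (Nat.card G) G rfl S x hx hodd hnorm

end Cfsg.Agent.S4060
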