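import Cfsg.Statements.S4062
import Cfsg.Agent.Lib.Solv.Basic

set_option autoImplicit false
set_option linter.style.haveILetI false
open Cfsg
open Subgroup

namespace Cfsg.Agent.S4062

universe u

theorem class_le {G : Type*} [Group G] [Finite G]
    (h : ∀ x y : G, orderOf x = orderOf y → IsConj x y) (x : G) :
    Nat.card {y : G // orderOf y = orderOf x} ≤ (centralizer ({x} : Set G)).index := by
  rw [index_eq_card]
  refine Nat.card_le_card_of_surjective
    (fun c : G ⧸ centralizer ({x} : Set G) => Quotient.liftOn' c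
      (fun g => (⟨g * x * g⁻¹, (MulAut.conj g).orderOf_eq x⟩ : {y : G // orderOf y = orderOf x})) ?_) ?_
  · intro a b hab
    rw [QuotientGroup.leftRel_apply, mem_centralizer_singleton_iff] at hab
    refine Subtype.ext ?_
    show a * x * a⁻¹ = b * x * b⁻¹
    calc a * x * a⁻¹ = a * (x * (a⁻¹ * b)) * b⁻¹ := by group
      _ = a * ((a⁻¹ * b) * x) * b⁻¹ := by rw [hab]
      _ = b * x * b⁻¹ := by group
  · rintro ⟨y, hy⟩
    obtain ⟨g, hg⟩ := isConj_iff.1 (h x y hy.symm)
    exact ⟨QuotientGroup.mk g, Subtype.ext hg⟩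

theorem class_mul_le {G : Type*} [Group G] [Finite G]
    (h : ∀ x y : G, orderOf x = orderOf y → IsConj x y) (x : G) :
    Nat.card {y : G // orderOf y = orderOf x} * orderOf x ≤ Nat.card G := by
  rw [← (centralizer ({x} : Set G)).index_mul_card]
  exact Nat.mul_le_mul (class_le h x)
    ((Nat.card_zpowers x).ge.trans (card_le_of_le (zpowers_le.2 (mem_centralizer_singleton_iff.2 rfl))))

theorem six_involution_conj {G : Type*} [Group G] [Finite G] (h6 : Nat.card G = 6)
    (hna : ¬ ∀ a b : G, a * b = b * a) (s : G) (hs : orderOf s = 2) : ∃ g : G, g * s * g⁻¹ ≠ s := by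
  by_contra hcon
  simp only [not_exists, not_not] at hcon
  haveI : Fact (Nat.Prime 3) := ⟨by norm_num⟩
  obtain ⟨t, ht⟩ := exists_prime_orderOf_dvd_card' (G := G) 3 (by rw [h6]; norm_num)
  have hc : Commute s t := (mul_inv_eq_iff_eq_mul.1 (hcon t)).symm
  have ho : orderOf (s * t) = 6 := by
    rw [hc.orderOf_mul_eq_mul_orderOf_of_coprime (by rw [hs, ht]; norm_num), hs, ht]
  haveI : IsCyclic G := isCyclic_of_orderOf_eq_card (s * t) (ho.trans h6.symm)
  exact hna fun a b => IsMulCommutative.is_comm.comm a b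

theorem six_equiv {G : Type*} [Group G] [Finite G] (h6 : Nat.card G = 6)
    (hna : ¬ ∀ a b : G, a * b = b * a) : Nonempty (G ≃* Equiv.Perm (Fin 3)) := by
  haveI : Fact (Nat.Prime 2) := ⟨Nat.prime_two⟩
  obtain ⟨s, hs⟩ := exists_prime_orderOf_dvd_card' (G := G) 2 (by rw [h6]; norm_num)
  obtain ⟨g, hg⟩ := six_involution_conj h6 hna s hs
  set H := zpowers s
  have hH : Nat.card H = 2 := by rw [Nat.card_zpowers, hs]
  have hidx : Nat.card (G ⧸ H) = 3 := by
    rw [← index_eq_card]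
    have := H.card_mul_index
    rw [hH, h6] at this
    omega
  have hcore : H.normalCore = ⊥ := by
    rcases Nat.prime_two.eq_one_or_self_of_dvd _ (hH ▸ card_dvd_of_le H.normalCore_le) with h | h
    · exact eq_bot_of_card_eq _ h
    exfalso
    have hn : H.Normal := by
      rw [← eq_of_le_of_card_ge H.normalCore_le (by rw [h, hH])]; infer_instance
    have hmem := hn.conj_mem s (mem_zpowers s) g
    obtain ⟨k, hk⟩ := hmem
    change s ^ k = g * s * g⁻¹ at hk
    rcases Int.even_or_odd k with ⟨m, hm⟩ | ⟨m, hm⟩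
    · rw [hm, ← two_mul, zpow_mul] at hk
      rw [show s ^ (2 : ℤ) = 1 by rw [show (2 : ℤ) = ((2 : ℕ) : ℤ) from rfl, zpow_natCast, ← hs,
        pow_orderOf_eq_one], one_zpow] at hk
      have h1 : s = 1 := conj_eq_one_iff.1 hk.symm
      rw [h1, orderOf_one] at hs
      exact absurd hs (by norm_num)
    · rw [hm, zpow_add, zpow_mul, show s ^ (2 : ℤ) = 1 by
        rw [show (2 : ℤ) = ((2 : ℕ) : ℤ) from rfl, zpow_natCast, ← hs, pow_orderOf_eq_one],
        one_zpow, one_mul, zpow_one] at hk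
      exact hg hk.symm
  have hinj : Function.Injective (MulAction.toPermHom G (G ⧸ H)) := by
    rw [← MonoidHom.ker_eq_bot_iff, ← normalCore_eq_ker, hcore]
  let e := Nat.equivFinOfCardPos (α := G ⧸ H) (by rw [hidx]; norm_num)
  let f : (G ⧸ H) ≃ Fin 3 := e.trans (finCongr hidx)
  let ψ : G →* Equiv.Perm (Fin 3) := f.permCongrHom.toMonoidHom.comp (MulAction.toPermHom G (G ⧸ H))
  have hψ : Function.Injective ψ := f.permCongrHom.injective.comp hinj
  refine ⟨MulEquiv.ofBijective ψ ((Nat.bijective_iff_injective_and_card _).2 ⟨hψ, ?_⟩)⟩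
  rw [h6, Nat.card_perm, Nat.card_eq_fintype_card, Fintype.card_fin]
  rfl

theorem main : ∀ (n : ℕ) (G : Type u) [Group G] [Finite G] [Group.IsSolvable G], Nat.card G = n →
    (∀ x y : G, orderOf x = orderOf y → IsConj x y) →
    Nat.card G = 1 ∨ Nat.card G = 2 ∨ (Nat.card G = 6 ∧ ¬ ∀ a b : G, a * b = b * a) := by
  intro n
  induction n using Nat.strong_induction_on with
  | _ n ih =>
  intro G _ _ _ hn h
  classical
  rcases subsingleton_or_nontrivial G with hG | hG
  · exact Or.inl (Nat.card_unique)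
  obtain ⟨N, hN, -, hNb, hmin⟩ := Cfsg.Agent.Solv.exists_minimal_normal_le (N := (⊤ : Subgroup G)) top_ne_bot
  obtain ⟨hNc, p, hp, hNp⟩ := Cfsg.Agent.Solv.minimal_normal_elementary N hNb hmin
  haveI : Fact p.Prime := ⟨hp⟩
  have hord : ∀ x ∈ N, x ≠ 1 → orderOf x = p := fun x hx hx1 => orderOf_eq_prime (hNp x hx) hx1
  obtain ⟨x₀, hx₀, hx₀1⟩ := N.ne_bot_iff_exists_ne_one.1 hNb |> fun ⟨x, hx⟩ =>
    (⟨x.1, x.2, fun h => hx (Subtype.ext h)⟩ : ∃ x₀ ∈ N, x₀ ≠ 1)
  have hinN : ∀ g : G, orderOf g = p → g ∈ N := by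
    intro g hg
    obtain ⟨c, hc⟩ := isConj_iff.1 (h x₀ g ((hord _ hx₀ hx₀1).trans hg.symm))
    exact hc ▸ hN.conj_mem _ hx₀ c
  -- lifts of prescribed order
  let lift : ℕ → ℕ := fun m => if p ∣ m then m * p else m
  have hlift : ∀ g : G, p ∣ orderOf (g : G ⧸ N) → orderOf g = orderOf (g : G ⧸ N) * p := by
    intro g hpm
    set m := orderOf (g : G ⧸ N) with hm
    have hgm : g ^ m ∈ N := by
      rw [← QuotientGroup.eq_one_iff, QuotientGroup.mk_pow, hm, pow_orderOf_eq_one]
    have h1 : m ∣ orderOf g := orderOf_map_dvd (QuotientGroup.mk' N) g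
    have h2 : orderOf g ∣ m * p := orderOf_dvd_of_pow_eq_one (by rw [pow_mul]; exact hNp _ hgm)
    obtain ⟨t, ht⟩ := h1
    rw [ht] at h2
    rcases hp.eq_one_or_self_of_dvd t (Nat.dvd_of_mul_dvd_mul_left
      (hm ▸ orderOf_pos (g : G ⧸ N)) h2) with ht1 | htp
    · exfalso
      rw [ht1, mul_one] at ht
      obtain ⟨s, hs⟩ := hpm
      have hs0 : s ≠ 0 := by rintro rfl; exact (orderOf_pos (g : G ⧸ N)).ne' (hm ▸ hs.trans (mul_zero p))
      have h3 : orderOf (g ^ s) = p := by
        rw [orderOf_pow_of_dvd hs0 (by rw [ht, hs]; exact dvd_mul_left s p), ht, hs,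
          Nat.mul_div_cancel _ (Nat.pos_of_ne_zero hs0)]
      have h4 := (QuotientGroup.eq_one_iff _).2 (hinN _ h3)
      rw [QuotientGroup.mk_pow] at h4
      have h5 := Nat.le_of_dvd (Nat.pos_of_ne_zero hs0) (orderOf_dvd_of_pow_eq_one h4)
      rw [← hm, hs] at h5
      exact absurd h5 (not_le.2 (lt_mul_of_one_lt_left (Nat.pos_of_ne_zero hs0) hp.one_lt))
    · rw [ht, htp]
  have hexl : ∀ X : G ⧸ N, ∃ g : G, (g : G ⧸ N) = X ∧ orderOf g = lift (orderOf X) := by
    intro X
    obtain ⟨g, rfl⟩ := QuotientGroup.mk_surjective X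
    by_cases hpm : p ∣ orderOf (g : G ⧸ N)
    · exact ⟨g, rfl, by simp only [lift, if_pos hpm]; exact hlift g hpm⟩
    set m := orderOf (g : G ⧸ N) with hm
    obtain ⟨k, hk1, hk2⟩ := Nat.chineseRemainder ((hp.coprime_iff_not_dvd.2 hpm).symm) 1 0
    have hX : ((g ^ k : G) : G ⧸ N) = g := by
      rw [QuotientGroup.mk_pow, ← pow_one (g : G ⧸ N), ← pow_mul, one_mul, pow_eq_pow_iff_modEq]
      exact hk1
    refine ⟨g ^ k, hX, ?_⟩
    simp only [lift, if_neg hpm]
    refine Nat.dvd_antisymm (orderOf_dvd_of_pow_eq_one ?_) ?_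
    · have hgm : g ^ m ∈ N := by
        rw [← QuotientGroup.eq_one_iff, QuotientGroup.mk_pow, hm, pow_orderOf_eq_one]
      obtain ⟨r, hr⟩ := Nat.modEq_zero_iff_dvd.1 hk2
      rw [← pow_mul, mul_comm, pow_mul, hr, pow_mul, hNp _ hgm, one_pow]
    · rw [hm, ← hX]
      exact orderOf_map_dvd (QuotientGroup.mk' N) _
  have hquot : ∀ X Y : G ⧸ N, orderOf X = orderOf Y → IsConj X Y := by
    intro X Y hXY
    obtain ⟨g, rfl, hg⟩ := hexl X
    obtain ⟨g', rfl, hg'⟩ := hexl Y
    exact (QuotientGroup.mk' N).map_isConj (h g g' (by rw [hg, hg', hXY]))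
  have hmul : Nat.card G = Nat.card (G ⧸ N) * Nat.card N := Subgroup.card_eq_card_quotient_mul_card_subgroup N
  have hN1 : 1 < Nat.card N := (Subgroup.one_lt_card_iff_ne_bot N).2 hNb
  have hlt : Nat.card (G ⧸ N) < n := by
    rw [← hn, hmul]
    exact lt_mul_of_one_lt_right Nat.card_pos hN1
  have hrec := ih _ hlt (G ⧸ N) rfl hquot
  have h6 : Nat.card (G ⧸ N) ≤ 6 := by rcases hrec with h | h | ⟨h, -⟩ <;> omega
  -- `p` does not divide the index
  have hcount : ∀ (X : G ⧸ N), orderOf X = p →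
      Nat.card {Y : G ⧸ N // orderOf Y = p} * (p * p) ≤ Nat.card (G ⧸ N) := by
    intro X hX
    obtain ⟨g, rfl⟩ := QuotientGroup.mk_surjective X
    have hg : orderOf g = p * p := by rw [hlift g (hX ▸ dvd_rfl), hX]
    have h1 := class_mul_le h g
    rw [hg, hmul] at h1
    refine Nat.le_of_mul_le_mul_right (le_trans ?_ h1) (zero_lt_one.trans hN1)
    rw [mul_right_comm]
    refine Nat.mul_le_mul_right _ ?_
    rw [← Nat.card_prod]
    refine Nat.card_le_card_of_injective (fun Y => ⟨Y.1.1.out * (Y.2 : G), ?_⟩) ?_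
    · have h2 : ((Y.1.1.out * (Y.2 : G) : G) : G ⧸ N) = Y.1.1 := by
        rw [QuotientGroup.mk_mul, (QuotientGroup.eq_one_iff _).2 Y.2.2, mul_one, QuotientGroup.out_eq']
      rw [hlift _ (by rw [h2, Y.1.2]), h2, Y.1.2]
    · rintro ⟨⟨A, hA⟩, a⟩ ⟨⟨B, hB⟩, b⟩ hab
      have hab' : A.out * (a : G) = B.out * b := congrArg Subtype.val hab
      have hAB : A = B := by
        have h2 := congrArg (fun w : G => (w : G ⧸ N)) hab'
        simpa [(QuotientGroup.eq_one_iff _).2 a.2, (QuotientGroup.eq_one_iff _).2 b.2] using h2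
      subst hAB
      simp [Subtype.ext (mul_left_cancel hab')]
  have hpQ : ¬ p ∣ Nat.card (G ⧸ N) := by
    intro hdvd
    obtain ⟨X, hX⟩ := exists_prime_orderOf_dvd_card' p hdvd
    have hc := hcount X hX
    haveI : Nonempty {Y : G ⧸ N // orderOf Y = p} := ⟨⟨X, hX⟩⟩
    have h1 : 1 ≤ Nat.card {Y : G ⧸ N // orderOf Y = p} := Nat.card_pos
    have hle := Nat.le_of_dvd Nat.card_pos hdvd
    have hpp : p * p ≤ 6 := le_trans (le_mul_of_one_le_left (Nat.zero_le _) h1) (hc.trans h6)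
    have hp2 : p = 2 := by have := hp.two_le; nlinarith
    subst hp2
    rcases hrec with h | h | ⟨h, hna⟩
    · omega
    · rw [h] at hc; omega
    · obtain ⟨c, hcX⟩ := six_involution_conj h hna X hX
      have h2 : 2 ≤ Nat.card {Y : G ⧸ N // orderOf Y = 2} := by
        haveI : Nontrivial {Y : G ⧸ N // orderOf Y = 2} :=
          ⟨⟨X, hX⟩, ⟨c * X * c⁻¹, ((MulAut.conj c).orderOf_eq X).trans hX⟩,
            fun he => hcX (congrArg Subtype.val he).symm⟩
        exact Finite.one_lt_card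
      rw [h] at hc
      nlinarith
  -- the class of `x₀`
  have hidx : Nat.card N ≤ (centralizer ({x₀} : Set G)).index + 1 := by
    have h1 := class_le h x₀
    rw [hord _ hx₀ hx₀1] at h1
    have h2 : Nat.card N ≤ Nat.card (Option {y : G // orderOf y = p}) := by
      refine Nat.card_le_card_of_injective
        (fun y : N => if hy : (y : G) = 1 then none else some ⟨y, hord _ y.2 hy⟩) ?_
      intro a b hab
      by_cases ha : (a : G) = 1 <;> by_cases hb : (b : G) = 1 <;> simp [ha, hb] at hab ⊢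
      · exact Subtype.ext (ha.trans hb.symm)
      · exact Subtype.ext (by simpa using hab)
    rw [Finite.card_option] at h2
    omega
  have hNC : N ≤ centralizer ({x₀} : Set G) := fun y hy => mem_centralizer_singleton_iff.2
    (congrArg Subtype.val (hNc.is_comm.comm (⟨y, hy⟩ : N) ⟨x₀, hx₀⟩))
  have hCle : (centralizer ({x₀} : Set G)).index ≤ Nat.card (G ⧸ N) := by
    rw [← index_eq_card]
    exact Nat.le_of_dvd (Nat.pos_of_ne_zero index_ne_zero_of_finite) (index_dvd_of_le hNC)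
  have hNdvd : p ∣ Nat.card N := by
    rw [← hord _ hx₀ hx₀1]
    exact Subgroup.orderOf_dvd_natCard N hx₀
  rcases hrec with hq | hq | ⟨hq, hna⟩
  · rw [hq] at hCle hmul
    exact Or.inr (Or.inl (by omega))
  · rw [hq] at hCle hmul hpQ
    have hp3 : p ≠ 2 := fun h2 => hpQ (h2 ▸ dvd_rfl)
    have hN3 : Nat.card N = 3 := by
      rcases (show Nat.card N = 2 ∨ Nat.card N = 3 by omega) with h2 | h2
      · rw [h2] at hNdvd; exact absurd ((Nat.prime_dvd_prime_iff_eq hp Nat.prime_two).1 hNdvd) hp3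
      · exact h2
    refine Or.inr (Or.inr ⟨by omega, fun hab => ?_⟩)
    have hi : (centralizer ({x₀} : Set G)).index = 1 := by
      rw [index_eq_one, eq_top_iff]
      exact fun g _ => mem_centralizer_singleton_iff.2 (hab g x₀)
    omega
  · rw [hq] at hCle hmul hpQ
    exfalso
    have hp5 : 5 ≤ p := by
      by_contra h5
      have := hp.two_le
      interval_cases p
      · exact hpQ (by norm_num)
      · exact hpQ (by norm_num)
      · exact absurd hp (by norm_num)
    have hN5 : p ≤ Nat.card N := Nat.le_of_dvd Nat.card_pos hNdvd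
    have hNp' : Nat.card N = p := by
      obtain ⟨k, hk⟩ := IsPGroup.iff_card.1 (show IsPGroup p N from fun y => ⟨1, by
        rw [pow_one]; exact Subtype.ext (hNp y y.2)⟩)
      rcases Nat.lt_or_ge k 2 with h2 | h2
      · interval_cases k
        · rw [hk] at hN1; simp at hN1
        · rw [hk, pow_one]
      · have : p ^ 2 ≤ Nat.card N := hk ▸ Nat.pow_le_pow_right hp.pos h2
        nlinarith
    have hcyc : ∀ g : G, ∃ i : ℤ, x₀ ^ i = g * x₀ * g⁻¹ := by
      intro g
      have hz : zpowers x₀ = N := eq_of_le_of_card_ge (zpowers_le.2 hx₀)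
        (by rw [hNp', Nat.card_zpowers, hord _ hx₀ hx₀1])
      exact mem_zpowers_iff.1 (hz ▸ hN.conj_mem _ hx₀ g)
    have hswap : ∀ a b : G, a * b * x₀ * b⁻¹ * a⁻¹ = b * a * x₀ * a⁻¹ * b⁻¹ := by
      intro a b
      obtain ⟨i, hi⟩ := hcyc a
      obtain ⟨j, hj⟩ := hcyc b
      rw [show a * b * x₀ * b⁻¹ * a⁻¹ = a * (b * x₀ * b⁻¹) * a⁻¹ by group, ← hj, ← conj_zpow, ← hi,
        show b * a * x₀ * a⁻¹ * b⁻¹ = b * (a * x₀ * a⁻¹) * b⁻¹ by group, ← hi, ← conj_zpow, ← hj,
        ← zpow_mul, ← zpow_mul, mul_comm]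
    have hcomm : ∀ a b : G, a * b * a⁻¹ * b⁻¹ ∈ centralizer ({x₀} : Set G) := by
      intro a b
      refine mem_centralizer_singleton_iff.2 ?_
      calc a * b * a⁻¹ * b⁻¹ * x₀
          = a * b * (a⁻¹ * b⁻¹ * x₀ * b⁻¹⁻¹ * a⁻¹⁻¹) * (a⁻¹ * b⁻¹) := by group
        _ = a * b * (b⁻¹ * a⁻¹ * x₀ * a⁻¹⁻¹ * b⁻¹⁻¹) * (a⁻¹ * b⁻¹) := by rw [hswap a⁻¹ b⁻¹]
        _ = x₀ * (a * b * a⁻¹ * b⁻¹) := by group
    obtain ⟨c, hcC, hcN⟩ : ∃ c ∈ centralizer ({x₀} : Set G), c ∉ N := by
      simp only [not_forall] at hna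
      obtain ⟨A, B, hAB⟩ := hna
      obtain ⟨a, rfl⟩ := QuotientGroup.mk_surjective A
      obtain ⟨b, rfl⟩ := QuotientGroup.mk_surjective B
      refine ⟨_, hcomm a b, fun hc => hAB ?_⟩
      have h1 := (QuotientGroup.eq_one_iff _).2 hc
      simp only [QuotientGroup.mk_mul, QuotientGroup.mk_inv] at h1
      exact mul_inv_eq_iff_eq_mul.1 (mul_inv_eq_one.1 h1)
    set C := centralizer ({x₀} : Set G)
    have hlt2 : Nat.card N < Nat.card C := by
      refine lt_of_le_of_ne (card_le_of_le hNC) fun he => hcN ?_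
      exact (eq_of_le_of_card_ge hNC he.ge).ge hcC
    obtain ⟨r, hr⟩ := card_dvd_of_le hNC
    have hr2 : 2 ≤ r := by
      by_contra h2
      interval_cases r <;> omega
    have h3 := C.card_mul_index
    have h4 : C.index * 2 ≤ 6 := by
      by_contra h5
      have h7 : Nat.card N * 7 ≤ Nat.card N * (r * C.index) :=
        Nat.mul_le_mul_left _ (by nlinarith)
      rw [← mul_assoc, ← hr, h3, hmul, hNp'] at h7
      omega
    omega


/-- A finite solvable group in which any two elements of the same order are conjugate has order 1 or 2 or is isomorphic to the symmetric group of degree 3. -/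
theorem result {G : Type*} [Group G] [Finite G] [Group.IsSolvable G]
    (h : ∀ x y : G, orderOf x = orderOf y → IsConj x y) :
    Nat.card G = 1 ∨ Nat.card G = 2 ∨ Nonempty (G ≃* Equiv.Perm (Fin 3)) := by
  rcases main _ G rfl h with h1 | h1 | ⟨h1, h2⟩
  · exact Or.inl h1
  · exact Or.inr (Or.inl h1)
  · exact Or.inr (Or.inr (six_equiv h1 h2))

end Cfsg.Agent.S4062
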