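import Cfsg.Statements.S4065
import Cfsg.Agent.Lib.Classical.DicksonClasses

set_option autoImplicit false
open Cfsg

open Cfsg.Agent.Classical
open scoped MatrixGroups Classical

namespace Cfsg.Agent.S4065

/-- Let F be a finite field with 2ⁿ elements, n ≥ 2. In PSL₂(F) the centralizer of every element meets each of its conjugates by elements outside its normalizer trivially. -/
theorem result (n : ℕ) (hn : 2 ≤ n)
    (x : Matrix.ProjectiveSpecialLinearGroup (Fin 2) (GaloisField 2 n)) :
    Cfsg.IsTISubset (Subgroup.centralizer ({x} : Set (Matrix.ProjectiveSpecialLinearGroup (Fin 2) (GaloisField 2 n))) :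
      Set (Matrix.ProjectiveSpecialLinearGroup (Fin 2) (GaloisField 2 n))) := by
  intro g hg y hy hgy
  haveI : Fintype (GaloisField 2 n) := Fintype.ofFinite _
  haveI : Fact (Nat.Prime 2) := ⟨Nat.prime_two⟩
  haveI : CharP (AlgebraicClosure (GaloisField 2 n)) 2 :=
    charP_of_injective_algebraMap (algebraMap (GaloisField 2 n) (AlgebraicClosure (GaloisField 2 n))).injective 2
  by_contra hy1
  set S := Subgroup.centralizer ({x} : Set (Matrix.ProjectiveSpecialLinearGroup (Fin 2) (GaloisField 2 n))) with hS
  have hx1 : x ≠ 1 := by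
    rintro rfl
    refine hg ?_
    have htop : S = ⊤ := by
      rw [eq_top_iff]; intro a _
      rw [hS, Subgroup.mem_centralizer_singleton_iff, mul_one, one_mul]
    rw [htop, Subgroup.mem_normalizer_iff]
    simp
  have key : ∀ z ∈ S, z ≠ 1 → Subgroup.centralizer ({z} : Set (Matrix.ProjectiveSpecialLinearGroup (Fin 2) (GaloisField 2 n))) = S := by
    intro z hz hz1
    refine Subgroup.map_injective (f := Dickson.emb) Dickson.emb_injective ?_
    rw [hS, Dickson.map_centralizer_psl, Dickson.map_centralizer_psl]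
    exact Dickson.centralizer_eq_of_comm ⟨x, rfl⟩ ⟨z, rfl⟩
      (fun h => hx1 (Dickson.emb_injective (h.trans Dickson.emb.map_one.symm)))
      (fun h => hz1 (Dickson.emb_injective (h.trans Dickson.emb.map_one.symm)))
      (by rw [← map_mul, ← map_mul, Subgroup.mem_centralizer_singleton_iff.1 hz])
  have hgy1 : g * y * g⁻¹ ≠ 1 := fun h => hy1 (conj_eq_one_iff.1 h)
  refine hg ?_
  rw [Subgroup.mem_normalizer_iff]
  intro a
  have k1 := key y hy hy1
  have k2 := key _ hgy hgy1
  conv_rhs => rw [← k2]
  conv_lhs => rw [← k1]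
  rw [Subgroup.mem_centralizer_singleton_iff, Subgroup.mem_centralizer_singleton_iff,
    show g * a * g⁻¹ * (g * y * g⁻¹) = g * (a * y) * g⁻¹ by group,
    show g * y * g⁻¹ * (g * a * g⁻¹) = g * (y * a) * g⁻¹ by group]
  simp

end Cfsg.Agent.S4065
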