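import Cfsg.Statements.S4066
import Mathlib
import Cfsg.Agent.Lib.Local.PGroup

set_option autoImplicit false
open Cfsg
open Subgroup

namespace Cfsg.Agent.S4066

variable {G : Type*} [Group G] [Finite G] {p : ℕ} [Fact p.Prime]

/-- Commuting nontrivial elements: each centralizer normalizes the other. -/
theorem cnorm (hTI : ∀ x : G, Cfsg.IsTISubset (centralizer ({x} : Set G) : Set G)) {x y : G}
    (hx : x ≠ 1) (hxy : x * y = y * x) :
    centralizer ({x} : Set G) ≤ normalizer (centralizer ({y} : Set G) : Set G) := by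
  intro g hg
  by_contra hn
  refine hx (hTI y g hn x (mem_centralizer_singleton_iff.2 hxy) ?_)
  rw [mem_centralizer_singleton_iff.1 hg, mul_inv_cancel_right]
  exact mem_centralizer_singleton_iff.2 hxy

/-- A common element central in both Sylow subgroups. -/
theorem common (P Q : Sylow p G) (hTI : ∀ x : G, Cfsg.IsTISubset (centralizer ({x} : Set G) : Set G))
    {a : G} (haP : a ∈ (P : Subgroup G)) (haQ : a ∈ (Q : Subgroup G)) (ha1 : a ≠ 1) :
    ∃ d : G, d ≠ 1 ∧ (P : Subgroup G) ≤ centralizer {d} ∧ (Q : Subgroup G) ≤ centralizer {d} := by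
  have hu : ∀ R : Sylow p G, a ∈ (R : Subgroup G) → ∃ u : G, u ≠ 1 ∧ a * u = u * a ∧
      (R : Subgroup G) ≤ centralizer {u} := fun R haR => by
    haveI : Nontrivial ↥(R : Subgroup G) := ⟨⟨⟨a, haR⟩, 1, fun e => ha1 (congrArg Subtype.val e)⟩⟩
    haveI := R.isPGroup'.center_nontrivial
    obtain ⟨⟨u, hu⟩, hu1⟩ := exists_ne (1 : center ↥(R : Subgroup G))
    refine ⟨u, fun e => hu1 (Subtype.ext (Subtype.ext e)), congrArg Subtype.val (mem_center_iff.1 hu ⟨a, haR⟩),
      fun r hr => mem_centralizer_singleton_iff.2 ?_⟩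
    exact congrArg Subtype.val (mem_center_iff.1 hu ⟨r, hr⟩)
  obtain ⟨u, hu1, hua, huP⟩ := hu P haP
  obtain ⟨b, hb1, hba, hbQ⟩ := hu Q haQ
  have hPN : (P : Subgroup G) ≤ normalizer (centralizer ({a} : Set G) : Set G) :=
    huP.trans (cnorm hTI hu1 hua.symm)
  -- `P` fixes a nontrivial element of `Z(C(a))`
  set C := centralizer ({a} : Set G)
  let Z : Subgroup G := centralizer (C : Set G) ⊓ C
  have haZ : a ∈ Z := ⟨mem_centralizer_iff.2 fun c hc => mem_centralizer_singleton_iff.1 hc,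
    mem_centralizer_singleton_iff.2 rfl⟩
  have hZN : normalizer (C : Set G) ≤ normalizer (Z : Set G) := fun g hg => by
    rw [mem_normalizer_iff]
    intro z
    have key : ∀ g ∈ normalizer (C : Set G), ∀ z ∈ Z, g * z * g⁻¹ ∈ Z := fun g hg z hz =>
      ⟨mem_centralizer_iff.2 fun c hc => by
        have h' := mem_centralizer_iff.1 hz.1 _ ((mem_normalizer_iff.1 (inv_mem hg) c).1 hc)
        rw [inv_inv] at h'
        calc c * (g * z * g⁻¹) = g * ((g⁻¹ * c * g) * z) * g⁻¹ := by group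
          _ = g * (z * (g⁻¹ * c * g)) * g⁻¹ := by rw [h']
          _ = g * z * g⁻¹ * c := by group, (mem_normalizer_iff.1 hg z).1 hz.2⟩
    refine ⟨key g hg z, fun h => ?_⟩
    have h' := key g⁻¹ (inv_mem hg) _ h
    rwa [inv_inv, show g⁻¹ * (g * z * g⁻¹) * g = z by group] at h'
  set M := Z.subgroupOf (P : Subgroup G)
  haveI : M.Normal := normal_subgroupOf_of_le_normalizer (hPN.trans hZN)
  have hM : M ≠ ⊥ := fun e => by
    have h1 : (⟨a, haP⟩ : ↥(P : Subgroup G)) ∈ M := haZ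
    rw [e, mem_bot] at h1
    exact ha1 (Subtype.ext_iff.1 h1)
  obtain ⟨d, hdm, hdne⟩ := SetLike.exists_of_lt (bot_lt_iff_ne_bot.2 (Cfsg.Agent.Local.inf_center_ne_bot P.isPGroup' M hM))
  obtain ⟨hdZ, hdc⟩ := hdm
  have hd1 : (d : G) ≠ 1 := fun e => hdne (mem_bot.2 (Subtype.ext e))
  have hPd : (P : Subgroup G) ≤ centralizer {(d : G)} := fun r hr =>
    mem_centralizer_singleton_iff.2 (congrArg Subtype.val (mem_center_iff.1 hdc ⟨r, hr⟩))
  have hdb : (b : G) * d = d * b :=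
    mem_centralizer_iff.1 (mem_subgroupOf.1 hdZ).1 b (mem_centralizer_singleton_iff.2 hba.symm)
  have hQN : (Q : Subgroup G) ≤ normalizer (centralizer {(d : G)} : Set G) :=
    hbQ.trans (cnorm hTI hb1 hdb)
  refine ⟨d, hd1, hPd, ?_⟩
  set D := centralizer {(d : G)}
  set N := normalizer (D : Set G)
  haveI : (D.subgroupOf N).Normal := normal_in_normalizer
  intro q hq
  have h6 := pow_index_mem (D.subgroupOf N) (⟨q, hQN hq⟩ : N)
  rw [mem_subgroupOf] at h6
  obtain ⟨k, hk⟩ := Q.isPGroup' ⟨q, hq⟩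
  have hk' : q ^ p ^ k = 1 := congrArg Subtype.val hk
  have hco : (p ^ k).Coprime (D.relIndex N) :=
    Nat.Coprime.pow_left k ((Nat.Prime.coprime_iff_not_dvd Fact.out).2 fun hd =>
      P.not_dvd_index (hd.trans ((relIndex_dvd_index_of_le le_normalizer).trans (index_dvd_of_le hPd))))
  have h7 : q ^ ((p ^ k).gcd (D.relIndex N) : ℤ) ∈ D := by
    rw [Nat.gcd_eq_gcd_ab, zpow_add, zpow_mul, zpow_mul, zpow_natCast, zpow_natCast, hk', one_zpow, one_mul]
    exact zpow_mem h6 _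
  rw [hco.gcd_eq_one] at h7
  simpa using h7

/-- In the centralizer of a nontrivial element, a Sylow subgroup contains every other one. -/
theorem inCent (P Q : Sylow p G) (hTI : ∀ x : G, Cfsg.IsTISubset (centralizer ({x} : Set G) : Set G))
    {d : G} (hd : d ≠ 1) (hP : (P : Subgroup G) ≤ centralizer {d}) (hQ : (Q : Subgroup G) ≤ centralizer {d}) :
    (Q : Subgroup G) ≤ (P : Subgroup G) := by
  set D := centralizer ({d} : Set G)
  intro y hy
  have hyD := hQ hy
  -- the conjugates of `y` under `D` commute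
  let Y : Subgroup G := closure {z | ∃ g ∈ D, z = g * y * g⁻¹}
  have hN : ∀ g ∈ D, g ∈ normalizer (centralizer ({y} : Set G) : Set G) := fun g hg =>
    cnorm hTI hd (mem_centralizer_singleton_iff.1 hyD).symm hg
  have hcomm : ∀ g ∈ D, ∀ g' ∈ D, (g * y * g⁻¹) * (g' * y * g'⁻¹) = (g' * y * g'⁻¹) * (g * y * g⁻¹) := by
    intro g hg g' hg'
    have h1 : g'⁻¹ * g ∈ normalizer (centralizer ({y} : Set G) : Set G) :=
      hN _ (mul_mem (inv_mem hg') hg)
    have h2 := (mem_normalizer_iff.1 h1 y).1 (mem_centralizer_singleton_iff.2 rfl)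
    rw [mem_centralizer_singleton_iff] at h2
    calc (g * y * g⁻¹) * (g' * y * g'⁻¹) = g' * ((g'⁻¹ * g * y * (g'⁻¹ * g)⁻¹) * y) * g'⁻¹ := by group
      _ = g' * (y * (g'⁻¹ * g * y * (g'⁻¹ * g)⁻¹)) * g'⁻¹ := by rw [h2]
      _ = _ := by group
  haveI : IsMulCommutative Y := isMulCommutative_closure (by
    rintro _ ⟨g, hg, rfl⟩ _ ⟨g', hg', rfl⟩
    exact hcomm g hg g' hg')
  have hYp : IsPGroup p Y := by
    obtain ⟨k, hk⟩ := Q.isPGroup' ⟨y, hy⟩
    have hk' : y ^ p ^ k = 1 := congrArg Subtype.val hk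
    intro w
    refine ⟨k, Subtype.ext ?_⟩
    show (w : G) ^ p ^ k = 1
    have hc : ∀ u v : G, u ∈ Y → v ∈ Y → Commute u v := fun u v hu hv =>
      congrArg Subtype.val (mul_comm' (⟨u, hu⟩ : Y) ⟨v, hv⟩)
    refine closure_induction (p := fun w _ => w ^ p ^ k = 1) ?_ (one_pow _) ?_ ?_ w.2
    · rintro _ ⟨g, -, rfl⟩
      rw [conj_pow, hk', mul_one, mul_inv_cancel]
    · intro u v hu hv h1 h2
      rw [(hc u v hu hv).mul_pow, h1, h2, one_mul]
    · intro u _ h1
      rw [inv_pow, h1, inv_one]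
  have hPY : (P : Subgroup G) ≤ normalizer (Y : Set G) := fun r hr => by
    rw [mem_normalizer_iff_map_conj_eq, MonoidHom.map_closure]
    congr 1
    ext z
    constructor
    · rintro ⟨_, ⟨g, hg, rfl⟩, rfl⟩
      exact ⟨r * g, mul_mem (hP hr) hg, by simp [mul_assoc]⟩
    · rintro ⟨g, hg, rfl⟩
      exact ⟨r⁻¹ * g * y * (r⁻¹ * g)⁻¹, ⟨r⁻¹ * g, mul_mem (inv_mem (hP hr)) hg, rfl⟩, by simp [mul_assoc]⟩
  have hsup := hYp.to_sup_of_normal_left' P.isPGroup' hPY
  have := P.3 hsup le_sup_right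
  exact this ▸ mem_sup_left (subset_closure ⟨1, one_mem _, by group⟩)


/-- Let G be a finite group in which the centralizer of every element meets each of its conjugates by elements outside its normalizer trivially. Then any two distinct Sylow p-subgroups of G, for any prime p, intersect trivially. -/
theorem result {G : Type*} [Group G] [Finite G] (hTI : ∀ x : G, Cfsg.IsTISubset (Subgroup.centralizer ({x} : Set G) : Set G))
    {p : ℕ} [Fact p.Prime] (P Q : Sylow p G) (hPQ : P ≠ Q) : (P : Subgroup G) ⊓ (Q : Subgroup G) = ⊥ := by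
  by_contra hne
  obtain ⟨⟨a, hamem⟩, hane⟩ := (nontrivial_iff_exists_ne (1 : ↥((P : Subgroup G) ⊓ (Q : Subgroup G)))).1
    ((nontrivial_iff_ne_bot _).2 hne)
  have ha1 : a ≠ 1 := fun e => hane (Subtype.ext e)
  obtain ⟨d, hd1, hdP, hdQ⟩ := common P Q hTI hamem.1 hamem.2 ha1
  exact hPQ (Sylow.ext (le_antisymm (inCent Q P hTI hd1 hdQ hdP) (inCent P Q hTI hd1 hdP hdQ)))

end Cfsg.Agent.S4066
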