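import Cfsg.Statements.S4067
import Cfsg.Agent.Lib.Char.Linear
import Cfsg.Agent.Lib.Char.Integral
import Mathlib.GroupTheory.SpecificGroups.Cyclic

set_option autoImplicit false
open Cfsg

namespace Cfsg.Agent.S4067

open Cfsg.Agent.Char
open scoped Classical IsMulCommutative

universe u

variable {G : Type u} [Group G] [Finite G]

/-- If the derived subgroup has more than `p` elements then there are at most `#G / p` classes. -/
theorem classes_le_of_commutator {p : ℕ} (hp : p.Prime) (hmin : ∀ d, 2 ≤ d → d ∣ Nat.card G → p ≤ d)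
    (hc : p + 1 ≤ Nat.card (commutator G)) : Nat.card (ConjClasses G) * p ≤ Nat.card G := by
  haveI : Fintype (IrrCharacter G) := Fintype.ofFinite _
  choose d hd0 hd using fun χ : IrrCharacter G => IsIrrCharacter.degree_pos χ.2
  have hsum : ∑ χ, d χ ^ 2 = Nat.card G := by
    have h := sum_sq_degree (G := G)
    simp only [hd] at h
    exact_mod_cast h
  set L := (commutator G).index with hL
  have hlin : (Finset.univ.filter fun χ : IrrCharacter G => d χ = 1).card = L := by
    rw [← Fintype.card_subtype, ← Nat.card_eq_fintype_card, hL, ← card_linear]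
    exact Nat.card_congr (Equiv.subtypeEquivRight fun χ => by rw [hd χ, Nat.cast_eq_one])
  have hk : Nat.card (ConjClasses G) = Fintype.card (IrrCharacter G) := by
    rw [← card_irrCharacter, Nat.card_eq_fintype_card]
  have hsplit := (Finset.sum_filter_add_sum_filter_not Finset.univ
    (fun χ : IrrCharacter G => d χ = 1) (fun χ => d χ ^ 2)).trans hsum
  have h1 : ∑ χ ∈ Finset.univ.filter (fun χ : IrrCharacter G => d χ = 1), d χ ^ 2 = L := by
    rw [← hlin, Finset.card_eq_sum_ones]
    exact Finset.sum_congr rfl fun χ hχ => by rw [(Finset.mem_filter.1 hχ).2, one_pow]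
  have h2 : (Finset.univ.filter fun χ : IrrCharacter G => ¬ d χ = 1).card * p ^ 2 ≤
      ∑ χ ∈ Finset.univ.filter (fun χ : IrrCharacter G => ¬ d χ = 1), d χ ^ 2 := by
    rw [← smul_eq_mul]
    refine Finset.card_nsmul_le_sum _ _ _ fun χ hχ => Nat.pow_le_pow_left (hmin _ ?_ ?_) 2
    · have := hd0 χ; have := (Finset.mem_filter.1 hχ).2; omega
    · exact Char.degree_dvd_card χ.2 _ (hd χ)
  have h3 := Finset.card_filter_add_card_filter_not (s := (Finset.univ : Finset (IrrCharacter G)))
    (fun χ => d χ = 1)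
  rw [hlin, Finset.card_univ, ← hk] at h3
  have h4 : L * (p + 1) ≤ Nat.card G := by
    calc L * (p + 1) ≤ L * Nat.card (commutator G) := Nat.mul_le_mul_left _ hc
      _ = Nat.card G := by rw [mul_comm, Subgroup.card_mul_index]
  rw [h1] at hsplit
  set A := (Finset.univ.filter fun χ : IrrCharacter G => ¬ d χ = 1).card
  set S := ∑ χ ∈ Finset.univ.filter (fun χ : IrrCharacter G => ¬ d χ = 1), d χ ^ 2
  have hp2 := hp.two_le
  rw [← h3]
  nlinarith [h2, h4, hsplit]

theorem choose_two_succ (n : ℕ) : (n + 1).choose 2 = n + n.choose 2 := by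
  rw [show (2 : ℕ) = 1 + 1 from rfl, Nat.choose_succ_succ', Nat.choose_one_right]

theorem choose_two_add (m n : ℕ) : (m + n).choose 2 = m.choose 2 + n.choose 2 + n * m := by
  induction n with
  | zero => simp
  | succ n ih => rw [← add_assoc, choose_two_succ, choose_two_succ, ih]; ring

/-- The product formula for powers when the commutator of the two factors is central. -/
theorem mul_pow_central {x y ζ : G} (hyx : y * x = ζ * (x * y)) (hζ : ∀ w, ζ * w = w * ζ) (n : ℕ) :
    (x * y) ^ n = x ^ n * y ^ n * ζ ^ n.choose 2 := by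
  have hy : ∀ m : ℕ, y ^ m * x = ζ ^ m * (x * y ^ m) := by
    intro m
    induction m with
    | zero => simp
    | succ m ih =>
      rw [pow_succ', mul_assoc, ih, ← mul_assoc, ← ((Commute.pow_left (hζ y : Commute ζ y) m).eq),
        mul_assoc, ← mul_assoc y x, hyx, mul_assoc, ← mul_assoc, ← pow_succ, mul_assoc, ← pow_succ',
        pow_succ' ζ]
  induction n with
  | zero => simp
  | succ n ih =>
    have hc : ∀ (m : ℕ) (w : G), ζ ^ m * w = w * ζ ^ m := fun m w =>
      (Commute.pow_left (hζ w : Commute ζ w) m).eq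
    rw [pow_succ (x * y), ih, choose_two_succ, pow_add ζ, pow_succ x n, pow_succ y n]
    calc x ^ n * y ^ n * ζ ^ n.choose 2 * (x * y)
        = x ^ n * (y ^ n * x) * y * ζ ^ n.choose 2 := by
          rw [mul_assoc (x ^ n * y ^ n), hc]; group
      _ = x ^ n * x * (ζ ^ n * (y ^ n * y)) * ζ ^ n.choose 2 := by
          rw [hy, ← mul_assoc (ζ ^ n), hc n x]; simp only [mul_assoc]
      _ = _ := by rw [hc n (y ^ n * y)]; simp only [mul_assoc]

/-- The orbit count from one automorphism moving the elements outside a subgroup of index `p`. -/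
theorem count {p : ℕ} (hp : p.Prime) (ζ : G) (hζ : orderOf ζ = p)
    (hcl : ∀ x ∉ Subgroup.center G, ∀ t ∈ Subgroup.zpowers ζ, IsConj x (x * t))
    (N : Subgroup G) (hZN : Subgroup.center G ≤ N) (hN : Nat.card N * p = Nat.card G)
    (hZ : Nat.card (Subgroup.center G) * p ^ 2 ≤ Nat.card G) (α : MulAut G)
    (hα : ∀ x ∉ N, ∃ d : G, α x = x * d ∧ α d = d ∧ d ∉ Subgroup.zpowers ζ ∧ d ^ p ∈ Subgroup.zpowers ζ) :
    Nat.card (MulAction.orbitRel.Quotient (MulAut G) G) * p ≤ Nat.card G := by
  haveI : Fintype G := Fintype.ofFinite G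
  haveI : Fintype (MulAction.orbitRel.Quotient (MulAut G) G) := Fintype.ofFinite _
  haveI : Finite (MulAut G) := Finite.of_injective (fun f : MulAut G => (f : G → G)) DFunLike.coe_injective
  let π : G → MulAction.orbitRel.Quotient (MulAut G) G := Quotient.mk _
  let fib : G → Finset G := fun x => Finset.univ.filter fun y => π y = π x
  let w : G → ℕ := fun x => if x ∈ Subgroup.center G then p ^ 2 else if x ∈ N then p else 1
  have hw1 : ∀ x, 1 ≤ w x := fun x => by
    simp only [w]
    split_ifs
    · exact Nat.one_le_pow _ _ hp.pos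
    · exact hp.one_le
    · exact le_refl 1
  have hmem : ∀ x y, IsConj x y → π y = π x := fun x y h => by
    obtain ⟨c, hc⟩ := isConj_iff.1 h
    exact Quotient.sound ⟨MulAut.conj c, hc⟩
  have hT : Nat.card (Subgroup.zpowers ζ) = p := by rw [Nat.card_zpowers, hζ]
  have horb : ∀ x, p ^ 2 ≤ ∑ y ∈ fib x, w y := by
    intro x
    by_cases hxZ : x ∈ Subgroup.center G
    · calc p ^ 2 = w x := by simp [w, hxZ]
        _ ≤ _ := Finset.single_le_sum (fun y _ => Nat.zero_le _) (by simp [fib])
    have hnZ : ∀ y ∈ fib x, y ∉ Subgroup.center G := by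
      intro y hy hyZ
      obtain ⟨β, hβ⟩ := (Quotient.exact (Finset.mem_filter.1 hy).2.symm : MulAction.orbitRel (MulAut G) G x y)
      have hβ' : β y = x := hβ
      refine hxZ (Subgroup.mem_center_iff.2 fun g => β.symm.injective ?_)
      rw [map_mul, map_mul, ← hβ', MulEquiv.symm_apply_apply]
      exact Subgroup.mem_center_iff.1 hyZ _
    by_cases hall : ∀ y ∈ fib x, y ∈ N
    · have hcard : p ≤ (fib x).card := by
        rw [← hT, Nat.card_eq_fintype_card, ← Finset.card_univ]
        exact Finset.card_le_card_of_injOn (fun t : Subgroup.zpowers ζ => x * (t : G))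
          (fun t _ => by simpa [fib] using hmem _ _ (hcl x hxZ t t.2))
          (fun s _ t _ h => Subtype.ext (mul_left_cancel h))
      calc p ^ 2 ≤ (fib x).card • p := by rw [smul_eq_mul, pow_two]; exact Nat.mul_le_mul_right _ hcard
        _ ≤ _ := Finset.card_nsmul_le_sum _ _ _ fun y hy => by simp [w, hnZ y hy, hall y hy]
    push Not at hall
    obtain ⟨z, hz, hzN⟩ := hall
    obtain ⟨d, hαz, hαd, hd, hdp⟩ := hα z hzN
    have hit : ∀ i : ℕ, (α ^ i) z = z * d ^ i := by
      intro i
      induction i with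
      | zero => simp
      | succ i ih => rw [pow_succ' α, MulAut.mul_apply, ih, map_mul, map_pow, hαz, hαd, pow_succ', mul_assoc]
    have hπz : π z = π x := (Finset.mem_filter.1 hz).2
    have hnd : ∀ i < p, d ^ i ∈ Subgroup.zpowers ζ → i = 0 := by
      intro i hi h
      by_contra h0
      have hcop : Nat.Coprime i p :=
        ((Nat.Prime.coprime_iff_not_dvd hp).2 fun hd' => h0 (Nat.eq_zero_of_dvd_of_lt hd' hi)).symm
      have hg : (i : ℤ).gcd p = 1 := by simpa using hcop
      refine hd ?_
      have : d = d ^ ((i : ℤ) * (i : ℤ).gcdA p + (p : ℤ) * (i : ℤ).gcdB p) := by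
        rw [← Int.gcd_eq_gcd_ab, hg]; simp
      rw [this, zpow_add, zpow_mul, zpow_mul, zpow_natCast, zpow_natCast]
      exact mul_mem (zpow_mem h _) (zpow_mem hdp _)
    have hcard : p ^ 2 ≤ (fib x).card := by
      have : (Finset.univ : Finset (Fin p × Subgroup.zpowers ζ)).card = p ^ 2 := by
        rw [Finset.card_univ, Fintype.card_prod, Fintype.card_fin, ← Nat.card_eq_fintype_card, hT, pow_two]
      rw [← this]
      refine Finset.card_le_card_of_injOn (fun it => z * d ^ (it.1 : ℕ) * (it.2 : G)) (fun it _ => ?_) ?_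
      · simp only [fib, Finset.coe_filter, Set.mem_setOf_eq, Finset.mem_univ, true_and]
        rw [← hπz]
        refine (hmem _ _ (hcl _ ?_ _ it.2.2)).trans ?_
        · refine fun hc => hnZ (z * d ^ (it.1 : ℕ)) ?_ hc
          simp only [fib, Finset.mem_filter, Finset.mem_univ, true_and]
          rw [← hπz, ← hit]
          exact Quotient.sound ⟨α ^ (it.1 : ℕ), rfl⟩
        · rw [← hit]
          exact Quotient.sound ⟨α ^ (it.1 : ℕ), rfl⟩
      · rintro ⟨i, s⟩ - ⟨j, t⟩ - h
        simp only [mul_assoc] at h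
        have h' : d ^ (i : ℕ) * (s : G) = d ^ (j : ℕ) * (t : G) := mul_left_cancel h
        rcases le_total (i : ℕ) (j : ℕ) with hle | hle
        · obtain ⟨e, he⟩ := Nat.exists_eq_add_of_le hle
          have he0 : e = 0 := hnd e (by omega) (by
            rw [he, pow_add, mul_assoc] at h'
            rw [eq_mul_inv_of_mul_eq (mul_left_cancel h').symm]
            exact mul_mem s.2 (inv_mem t.2))
          have hij : i = j := Fin.ext (by omega)
          subst hij
          exact Prod.ext rfl (Subtype.ext (mul_left_cancel h'))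
        · obtain ⟨e, he⟩ := Nat.exists_eq_add_of_le hle
          have he0 : e = 0 := hnd e (by omega) (by
            rw [he, pow_add, mul_assoc] at h'
            rw [eq_mul_inv_of_mul_eq (mul_left_cancel h')]
            exact mul_mem t.2 (inv_mem s.2))
          have hij : i = j := Fin.ext (by omega)
          subst hij
          exact Prod.ext rfl (Subtype.ext (mul_left_cancel h'))
    calc p ^ 2 ≤ (fib x).card • 1 := by simpa using hcard
      _ ≤ _ := Finset.card_nsmul_le_sum _ _ _ fun y _ => hw1 y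
  have h1 : Fintype.card (MulAction.orbitRel.Quotient (MulAut G) G) * p ^ 2 ≤ ∑ x, w x := by
    rw [← Finset.sum_fiberwise Finset.univ π w, ← smul_eq_mul, ← Finset.card_univ]
    refine Finset.card_nsmul_le_sum _ _ _ fun q _ => ?_
    induction q using Quotient.inductionOn with
    | h x => exact horb x
  have h2 : ∑ x, w x = Nat.card G + (p - 1) * Nat.card N + (p ^ 2 - p) * Nat.card (Subgroup.center G) := by
    have : ∀ x, w x = 1 + (if x ∈ N then p - 1 else 0) + (if x ∈ Subgroup.center G then p ^ 2 - p else 0) := by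
      intro x
      have := hp.one_le
      have : p ≤ p ^ 2 := Nat.le_self_pow two_ne_zero p
      simp only [w]
      split_ifs with a b b <;> first | omega | exact absurd (hZN a) b
    simp only [this, Finset.sum_add_distrib, Finset.sum_ite, Finset.sum_const, smul_eq_mul, mul_one,
      mul_zero, add_zero, Finset.card_univ, Nat.card_eq_fintype_card, Fintype.card_subtype]
    ring
  rw [Nat.card_eq_fintype_card]
  have hp2 := hp.two_le
  obtain ⟨m, rfl⟩ : ∃ m, p = m + 2 := ⟨p - 2, by omega⟩
  rw [h2, show m + 2 - 1 = m + 1 by omega,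
    show (m + 2) ^ 2 - (m + 2) = (m + 2) * (m + 1) by
      rw [Nat.sub_eq_iff_eq_add (Nat.le_self_pow two_ne_zero _)]; ring] at h1
  refine le_of_mul_le_mul_right (a := (m + 2) ^ 2) ?_ (by positivity)
  nlinarith [h1, hZ, hN, Nat.zero_le (Nat.card (Subgroup.center G)), Nat.zero_le m,
    Nat.zero_le (Nat.card G * m ^ 2), Nat.zero_le (Nat.card G * m)]

/-- An automorphism `x ↦ x * e (f x)`, with `f x` the exponent of `[a,x]`. -/
theorem build {p : ℕ} (hp : p.Prime) (ζ : G) (hζ : orderOf ζ = p) (hζc : ∀ w, ζ * w = w * ζ)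
    (hcl : ∀ x ∉ Subgroup.center G, ∀ t ∈ Subgroup.zpowers ζ, IsConj x (x * t))
    (hZ : Nat.card (Subgroup.center G) * p ^ 2 ≤ Nat.card G)
    (a : G) (ha : a ∉ Subgroup.center G)
    (hcomm : ∀ x y : G, y * x * y⁻¹ * x⁻¹ ∈ Subgroup.zpowers ζ)
    (e : ℕ → G) (he0 : e 0 = 1) (hper : ∀ n, e (n + p) = e n) (hfix : ∀ n, Commute a (e n))
    (hmul : ∀ (y : G) (n : ℕ), a * y * a⁻¹ * y⁻¹ = ζ ^ n → ∀ m, e m * y * e n = y * e (m + n))
    (hnot : ∀ n, 0 < n → n < p → e n ∉ Subgroup.zpowers ζ ∧ e n ^ p ∈ Subgroup.zpowers ζ) :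
    Nat.card (MulAction.orbitRel.Quotient (MulAut G) G) * p ≤ Nat.card G := by
  choose f hf using fun x => (isOfFinOrder_of_finite ζ).mem_powers_iff_mem_zpowers.2 (hcomm x a)
  have hψ : ∀ x y, a * (x * y) * a⁻¹ * (x * y)⁻¹ =
      (a * x * a⁻¹ * x⁻¹) * (a * y * a⁻¹ * y⁻¹) := by
    intro x y
    have hc : ∀ k : ℕ, ∀ w, ζ ^ k * w = w * ζ ^ k := fun k w =>
      (Commute.pow_left (hζc w : Commute ζ w) k).eq
    have := hc (f y) x⁻¹
    simp only [hf y] at this
    calc a * (x * y) * a⁻¹ * (x * y)⁻¹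
        = a * x * a⁻¹ * ((a * y * a⁻¹ * y⁻¹) * x⁻¹) := by group
      _ = _ := by rw [this]; group
  have hmod : ∀ n, e (n % p) = e n := by
    intro n
    conv_rhs => rw [← Nat.mod_add_div n p]
    induction n / p with
    | zero => simp
    | succ k ih => rw [Nat.mul_succ, ← add_assoc, hper]; exact ih
  have hexp : ∀ m n : ℕ, ζ ^ m = ζ ^ n → e m = e n := by
    intro m n h
    rw [← hmod m, ← hmod n, show m % p = n % p from hζ ▸ pow_eq_pow_iff_modEq.1 h]
  let F : G →* G :=
    { toFun := fun x => x * e (f x)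
      map_one' := by
        rw [one_mul, hexp (f 1) 0 (by rw [show ζ ^ f 1 = _ from hf 1]; group), he0]
      map_mul' := fun x y => by
        rw [hexp (f (x * y)) (f x + f y) (by
          rw [pow_add, show ζ ^ f (x * y) = _ from hf _, hψ, ← hf x, ← hf y])]
        rw [mul_assoc x y, ← hmul y (f y) (hf y).symm (f x)]
        group }
  have hf0 : ∀ x, Commute a x → e (f x) = 1 := by
    intro x h
    rw [hexp (f x) 0 (by rw [show ζ ^ f x = _ from hf x, h.eq]; group), he0]
  have hinj : Function.Injective F := by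
    rw [injective_iff_map_eq_one]
    intro x hx
    have hx' : x * e (f x) = 1 := hx
    have : Commute a x := by
      rw [eq_inv_of_mul_eq_one_left hx']; exact (hfix _).inv_right
    rwa [hf0 x this, mul_one] at hx'
  let α : MulAut G := MulEquiv.ofBijective F (Finite.injective_iff_bijective.1 hinj)
  refine count hp ζ hζ hcl (Subgroup.centralizer {a}) (Subgroup.center_le_centralizer _) ?_ hZ α ?_
  · let ψ : G →* Subgroup.zpowers ζ := MonoidHom.mk' (fun x => ⟨_, hcomm x a⟩) (fun x y => Subtype.ext (hψ x y))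
    have hker : ψ.ker = Subgroup.centralizer {a} := by
      ext x
      rw [MonoidHom.mem_ker, Subgroup.mem_centralizer_singleton_iff]
      rw [← Subtype.coe_inj]
      show a * x * a⁻¹ * x⁻¹ = 1 ↔ _
      rw [mul_inv_eq_one, mul_inv_eq_iff_eq_mul]
      exact eq_comm
    have hrange : ψ.range = ⊤ := by
      haveI : Fact (Nat.card (Subgroup.zpowers ζ)).Prime := ⟨by rw [Nat.card_zpowers, hζ]; exact hp⟩
      refine (Subgroup.eq_bot_or_eq_top_of_prime_card ψ.range).resolve_left fun hb => ha ?_
      rw [MonoidHom.range_eq_bot_iff] at hb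
      refine Subgroup.mem_center_iff.2 fun g => ?_
      have : g ∈ ψ.ker := by rw [hb]; exact MonoidHom.mem_ker.2 rfl
      rw [hker, Subgroup.mem_centralizer_singleton_iff] at this
      exact this
    have h := ψ.ker.card_mul_index
    rw [Subgroup.index_ker, hrange, Nat.card_congr Subgroup.topEquiv.toEquiv, Nat.card_zpowers, hζ, hker] at h
    exact h
  · intro x hx
    refine ⟨e (f x), rfl, ?_, ?_⟩
    · show e (f x) * e (f (e (f x))) = e (f x)
      rw [hf0 _ (hfix _), mul_one]
    · have hne : f x % p ≠ 0 := by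
        intro h
        refine hx (Subgroup.mem_centralizer_singleton_iff.2 ?_)
        have h1 : a * x * a⁻¹ * x⁻¹ = 1 := by
          rw [← show ζ ^ f x = _ from hf x, ← pow_mod_orderOf, hζ, h, pow_zero]
        rw [mul_inv_eq_one, mul_inv_eq_iff_eq_mul] at h1
        exact h1.symm
      rw [← hmod]
      exact hnot _ (Nat.pos_of_ne_zero hne) (Nat.mod_lt _ hp.pos)


/-- Let G be a finite non-abelian group and p the least prime dividing its order. Then the automorphism group of G has at most #G/p orbits on G. -/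
theorem result {G : Type*} [Group G] [Finite G] (hna : ¬ IsMulCommutative G) :
    Nat.card (MulAction.orbitRel.Quotient (MulAut G) G) ≤ Nat.card G / (Nat.card G).minFac := by
  classical
  set g := Nat.card G with hg
  haveI : Nontrivial G := by
    by_contra hnt
    rw [not_nontrivial_iff_subsingleton] at hnt
    exact hna ⟨⟨fun a b => Subsingleton.elim _ _⟩⟩
  have hg1 : g ≠ 1 := (Finite.one_lt_card : 1 < g).ne'
  set p := g.minFac with hpdef
  have hp : p.Prime := Nat.minFac_prime hg1
  haveI : Fact p.Prime := ⟨hp⟩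
  have hmin : ∀ d, 2 ≤ d → d ∣ g → p ≤ d := fun d h2 hd => Nat.minFac_le_of_dvd h2 hd
  rw [Nat.le_div_iff_mul_le hp.pos]
  by_cases hc : p + 1 ≤ Nat.card (commutator G)
  · refine le_trans (Nat.mul_le_mul_right _ ?_) (classes_le_of_commutator hp hmin hc)
    refine Nat.card_le_card_of_surjective
      (fun c : ConjClasses G => Quotient.liftOn c (fun x => (Quotient.mk _ x : MulAction.orbitRel.Quotient (MulAut G) G))
        (fun a b h => Quotient.sound (by
          obtain ⟨c, hc⟩ := isConj_iff.1 h.symm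
          exact ⟨MulAut.conj c, hc⟩))) ?_
    intro q
    induction q using Quotient.inductionOn with
    | h x => exact ⟨ConjClasses.mk x, rfl⟩
  -- the derived subgroup has order `p` and is central
  obtain ⟨x, y, hxy⟩ : ∃ x y : G, y * x ≠ x * y := by
    by_contra h; push Not at h; exact hna ⟨⟨fun a b => h b a⟩⟩
  set ζ := y * x * y⁻¹ * x⁻¹ with hζdef
  have hζne : ζ ≠ 1 := fun h => hxy (by rw [mul_inv_eq_one, mul_inv_eq_iff_eq_mul] at h; exact h)
  have hζmem : ζ ∈ commutator G := Subgroup.commutator_mem_commutator (Subgroup.mem_top y) (Subgroup.mem_top x)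
  have hζd : orderOf ζ ∣ Nat.card (commutator G) := by
    rw [← Subgroup.orderOf_mk ζ hζmem]; exact orderOf_dvd_natCard _
  have hζ : orderOf ζ = p := by
    have h1 := Nat.le_of_dvd Nat.card_pos hζd
    have h2 : orderOf ζ ≠ 1 := by rwa [ne_eq, orderOf_eq_one_iff]
    have h3 := hmin _ (by have := orderOf_pos ζ; omega) (orderOf_dvd_natCard ζ)
    omega
  have hcT : commutator G = Subgroup.zpowers ζ :=
    (Subgroup.eq_of_le_of_card_ge ((Subgroup.zpowers_le).2 hζmem) (by rw [Nat.card_zpowers, hζ]; omega)).symm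
  have hcomm : ∀ x y : G, y * x * y⁻¹ * x⁻¹ ∈ Subgroup.zpowers ζ := fun x y =>
    hcT ▸ Subgroup.commutator_mem_commutator (Subgroup.mem_top y) (Subgroup.mem_top x)
  have hyx0 : y * x = ζ * (x * y) := by rw [hζdef]; group
  clear_value ζ
  have hζc : ∀ w, ζ * w = w * ζ := by
    intro w
    have hC := (Subgroup.centralizer {ζ}).card_mul_index
    suffices h : (Subgroup.centralizer {ζ}).index = 1 by
      rw [Subgroup.index_eq_one] at h
      have hw : w ∈ Subgroup.centralizer {ζ} := h ▸ Subgroup.mem_top w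
      exact (Subgroup.mem_centralizer_singleton_iff.1 hw).symm
    by_contra hne
    have hge : p ≤ (Subgroup.centralizer {ζ}).index :=
      hmin _ (by have := Subgroup.index_ne_zero_of_finite (H := Subgroup.centralizer {ζ}); omega)
        (Subgroup.index_dvd_card _)
    -- the conjugates of `ζ` are non-trivial elements of the derived subgroup
    have hle : (Subgroup.centralizer {ζ}).index ≤ Nat.card {t : commutator G // t ≠ 1} := by
      rw [Subgroup.index, ]
      let φ : G ⧸ Subgroup.centralizer {ζ} → {t : commutator G // t ≠ 1} := fun q =>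
        ⟨⟨q.out * ζ * q.out⁻¹, (inferInstance : (commutator G).Normal).conj_mem _ hζmem _⟩,
          fun h => hζne (conj_eq_one_iff.1 (congrArg Subtype.val h))⟩
      refine Nat.card_le_card_of_injective φ fun q r h => ?_
      have h' : q.out * ζ * q.out⁻¹ = r.out * ζ * r.out⁻¹ := congrArg (fun t : {t : commutator G // t ≠ 1} => ((t.1 : commutator G) : G)) h
      rw [← q.out_eq, ← r.out_eq]
      refine QuotientGroup.eq.2 (Subgroup.mem_centralizer_singleton_iff.2 ?_)
      calc q.out⁻¹ * r.out * ζ = q.out⁻¹ * (r.out * ζ * r.out⁻¹) * r.out := by group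
        _ = q.out⁻¹ * (q.out * ζ * q.out⁻¹) * r.out := by rw [h']
        _ = ζ * (q.out⁻¹ * r.out) := by group
    have : Nat.card {t : commutator G // t ≠ 1} = Nat.card (commutator G) - 1 := by
      haveI : Fintype (commutator G) := Fintype.ofFinite _
      rw [Nat.card_eq_fintype_card, Fintype.card_subtype_compl, Fintype.card_subtype_eq, Nat.card_eq_fintype_card]
    have := hp.two_le
    omega
  have hzc : ∀ (k : ℕ) (w : G), ζ ^ k * w = w * ζ ^ k := fun k w =>
    (Commute.pow_left (hζc w : Commute ζ w) k).eq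
  have hconjpow : ∀ (u v : G) (k : ℕ), u * v * u⁻¹ * v⁻¹ = ζ ^ k → ∀ m : ℕ, u ^ m * v * (u ^ m)⁻¹ = ζ ^ (k * m) * v := by
    intro u v k h m
    rw [mul_inv_eq_iff_eq_mul] at h
    induction m with
    | zero => simp
    | succ m ih =>
      calc u ^ (m + 1) * v * (u ^ (m + 1))⁻¹ = u * (u ^ m * v * (u ^ m)⁻¹) * u⁻¹ := by rw [pow_succ']; group
        _ = (u * ζ ^ (k * m) * u⁻¹) * (u * v * u⁻¹) := by rw [ih]; group
        _ = ζ ^ (k * (m + 1)) * v := by
          rw [h, ← hzc (k * m) u, mul_inv_cancel_right, ← mul_assoc, ← pow_add, Nat.mul_succ]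
  have hxpZ : ∀ u : G, u ^ p ∈ Subgroup.center G := by
    intro u
    refine Subgroup.mem_center_iff.2 fun v => ?_
    obtain ⟨k, hk⟩ := (isOfFinOrder_of_finite ζ).mem_powers_iff_mem_zpowers.2 (hcomm v u)
    have h := hconjpow u v k hk.symm p
    rw [mul_comm k p, pow_mul, ← hζ, pow_orderOf_eq_one, one_pow, one_mul, mul_inv_eq_iff_eq_mul] at h
    rw [hζ] at h
    exact h.symm
  have hcl : ∀ u ∉ Subgroup.center G, ∀ t ∈ Subgroup.zpowers ζ, IsConj u (u * t) := by
    intro u hu t ht
    obtain ⟨v, hv⟩ : ∃ v, v * u * v⁻¹ * u⁻¹ ≠ 1 := by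
      by_contra h; push Not at h
      exact hu (Subgroup.mem_center_iff.2 fun v => by
        have := h v; rwa [mul_inv_eq_one, mul_inv_eq_iff_eq_mul] at this)
    obtain ⟨k, hk⟩ := (isOfFinOrder_of_finite ζ).mem_powers_iff_mem_zpowers.2 (hcomm u v)
    have hgen : t ∈ Subgroup.zpowers (ζ ^ k) := by
      haveI : Fact (Nat.card (Subgroup.zpowers ζ)).Prime := ⟨by rw [Nat.card_zpowers, hζ]; exact hp⟩
      have hne : (⟨ζ ^ k, pow_mem (Subgroup.mem_zpowers ζ) k⟩ : Subgroup.zpowers ζ) ≠ 1 := fun h =>
        hv (hk.symm.trans (congrArg Subtype.val h))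
      have hm : (⟨t, ht⟩ : Subgroup.zpowers ζ) ∈ Subgroup.zpowers (⟨ζ ^ k, pow_mem (Subgroup.mem_zpowers ζ) k⟩ : Subgroup.zpowers ζ) :=
        mem_zpowers_of_prime_card (p := p) (by rw [Nat.card_zpowers, hζ]) hne
      obtain ⟨j, hj⟩ := hm
      exact ⟨j, congrArg Subtype.val hj⟩
    obtain ⟨j, rfl⟩ := (isOfFinOrder_of_finite _).mem_powers_iff_mem_zpowers.2 hgen
    refine isConj_iff.2 ⟨v ^ j, ?_⟩
    show v ^ j * u * (v ^ j)⁻¹ = u * (ζ ^ k) ^ j
    rw [hconjpow v u k hk.symm j, ← pow_mul, hzc]
  have hxZ : x ∉ Subgroup.center G := fun h => hxy (Subgroup.mem_center_iff.1 h y)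
  have hyZ : y ∉ Subgroup.center G := fun h => hxy (Subgroup.mem_center_iff.1 h x).symm
  have hZ : Nat.card (Subgroup.center G) * p ^ 2 ≤ g := by
    have hQ : IsPGroup p (G ⧸ Subgroup.center G) := fun q => by
      induction q using QuotientGroup.induction_on with
      | H u => exact ⟨1, by rw [pow_one, ← QuotientGroup.mk_pow, QuotientGroup.eq_one_iff]; exact hxpZ u⟩
    obtain ⟨n, hn⟩ := IsPGroup.iff_card.1 hQ
    have hcyc : ¬ IsCyclic (G ⧸ Subgroup.center G) := fun h => hna ⟨⟨fun a b =>
      commutative_of_cyclic_center_quotient (QuotientGroup.mk' (Subgroup.center G)) (by rw [QuotientGroup.ker_mk']) a b⟩⟩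
    have hn2 : 2 ≤ n := by
      by_contra hlt
      have : n = 0 ∨ n = 1 := by omega
      rcases this with rfl | rfl
      · exact hcyc (by haveI := (Nat.card_eq_one_iff_unique.1 hn).1; infer_instance)
      · exact hcyc (isCyclic_of_prime_card (p := p) (by rw [hn, pow_one]))
    calc Nat.card (Subgroup.center G) * p ^ 2 ≤ Nat.card (Subgroup.center G) * p ^ n :=
          Nat.mul_le_mul_left _ (Nat.pow_le_pow_right hp.pos hn2)
      _ = g := by rw [← hn, ← Subgroup.index_eq_card, Subgroup.card_mul_index]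
  by_cases hB : ∃ c ∈ Subgroup.center G, c ^ p = 1 ∧ c ∉ Subgroup.zpowers ζ
  · obtain ⟨c, hcZ, hcp, hcn⟩ := hB
    refine build hp ζ hζ hζc hcl hZ x hxZ hcomm (fun n => c ^ n) (pow_zero c) ?_ ?_ ?_ ?_
    · intro n; show c ^ (n + p) = c ^ n; rw [pow_add, hcp, mul_one]
    · intro n; exact (Commute.pow_right (Subgroup.mem_center_iff.1 hcZ x) n)
    · intro v n _ m
      show c ^ m * v * c ^ n = v * c ^ (m + n)
      rw [← Subgroup.mem_center_iff.1 (pow_mem hcZ m) v, pow_add, mul_assoc]
    · intro n h0 hlt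
      refine ⟨fun h => hcn ?_, by show (c ^ n) ^ p ∈ _; rw [← pow_mul, mul_comm, pow_mul, hcp, one_pow]; exact one_mem _⟩
      have hcop : (p).Coprime n := (Nat.Prime.coprime_iff_not_dvd hp).2 fun hd => by
        have := Nat.le_of_dvd h0 hd; omega
      have hco : (orderOf c).Coprime n := hcop.coprime_dvd_left (orderOf_dvd_of_pow_eq_one hcp)
      obtain ⟨m, hm⟩ := exists_pow_eq_self_of_coprime hco.symm
      rw [← hm]; exact pow_mem h m
  push Not at hB
  -- a non-central `a` with `a ^ p * ζ ^ (p choose 2) = 1`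
  let P : Subgroup (Subgroup.center G) := (powMonoidHom p).range
  have hQ : Nat.card (Subgroup.center G ⧸ P) ≤ p := by
    have hk : Nat.card (powMonoidHom p : Subgroup.center G →* Subgroup.center G).ker ≤ p := by
      refine le_of_le_of_eq (b := Nat.card (Subgroup.zpowers ζ)) ?_ (by rw [Nat.card_zpowers, hζ])
      refine Nat.card_le_card_of_injective (fun k => (⟨((k.1 : Subgroup.center G) : G),
        hB _ k.1.2 (congrArg Subtype.val (MonoidHom.mem_ker.1 k.2))⟩ : Subgroup.zpowers ζ)) fun a b h => ?_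
      exact Subtype.ext (Subtype.ext (congrArg Subtype.val h :))
    have h1 := (powMonoidHom p : Subgroup.center G →* Subgroup.center G).ker.card_mul_index
    have h2 := P.card_mul_index
    rw [Subgroup.index_ker] at h1
    rw [← Subgroup.index_eq_card]
    have : 0 < Nat.card P := Nat.card_pos
    exact le_trans (le_of_eq (mul_right_cancel₀ (b := Nat.card P) this.ne' (by rw [mul_comm, h2]; exact h1.symm))) hk
  set C := p.choose 2
  have hζZ : ζ ∈ Subgroup.center G := Subgroup.mem_center_iff.2 fun w => (hζc w).symm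
  let q : Subgroup.center G →* Subgroup.center G ⧸ P := QuotientGroup.mk' P
  obtain ⟨b, hbZ, hb⟩ : ∃ b, b ∉ Subgroup.center G ∧ ∃ z : Subgroup.center G, b ^ p * ζ ^ C = ((z ^ p : Subgroup.center G) : G) := by
    let A : Subgroup.center G ⧸ P := q ⟨x ^ p, hxpZ x⟩
    let U : Subgroup.center G ⧸ P := q ⟨ζ ^ C, pow_mem hζZ C⟩
    let B : Subgroup.center G ⧸ P := q ⟨y ^ p, hxpZ y⟩
    suffices h : A * U = 1 ∨ ∃ i : ℕ, (A * U) ^ i * (B * U) = 1 by
      rcases h with h | ⟨i, h⟩
      · rw [← map_mul] at h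
        obtain ⟨z, hz⟩ := (QuotientGroup.eq_one_iff _).1 h
        exact ⟨x, hxZ, z, (congrArg Subtype.val hz).symm⟩
      · refine ⟨x ^ i * y, fun hm => hxy ?_, ?_⟩
        · have h1 := Subgroup.mem_center_iff.1 hm x
          rw [← mul_assoc, ← pow_succ', pow_succ, mul_assoc, mul_assoc] at h1
          exact (mul_left_cancel h1).symm
        · have hyx : y * x ^ i = ζ ^ i * (x ^ i * y) := by
            clear h
            induction i with
            | zero => simp
            | succ i ih =>
              rw [pow_succ, ← mul_assoc, ih, mul_assoc, mul_assoc, hyx0,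
                ← mul_assoc (x ^ i), ← hζc, pow_succ, mul_assoc, mul_assoc, mul_assoc]
          have hpw := mul_pow_central hyx (hzc i) p
          rw [← map_mul, ← map_mul, ← map_pow, ← map_mul] at h
          obtain ⟨z, hz⟩ := (QuotientGroup.eq_one_iff _).1 h
          refine ⟨z, ?_⟩
          rw [hpw]
          refine Eq.trans ?_ (congrArg Subtype.val hz).symm
          simp only [Subgroup.coe_mul, SubgroupClass.coe_pow]
          rw [(Commute.mul_pow (by exact (hzc C (x ^ p)).symm) i), ← pow_mul, ← pow_mul x p i, ← pow_mul ζ C i, ← pow_mul, mul_comm p i, mul_comm C i]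
          simp only [mul_assoc]
          rw [← mul_assoc (ζ ^ (i * C)) (y ^ p), hzc (i * C) (y ^ p), mul_assoc]
    by_cases hAU : A * U = 1
    · exact Or.inl hAU
    refine Or.inr ?_
    have hcard : Nat.card (Subgroup.center G ⧸ P) = p := by
      refine le_antisymm hQ (hmin _ ?_ ?_)
      · haveI : Nontrivial (Subgroup.center G ⧸ P) := ⟨⟨_, _, hAU⟩⟩
        exact Finite.one_lt_card
      · exact (Subgroup.card_quotient_dvd_card P).trans (Subgroup.card_subgroup_dvd_card _)
    obtain ⟨j, hj⟩ := (isOfFinOrder_of_finite (A * U)).mem_powers_iff_mem_zpowers.2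
      (mem_zpowers_of_prime_card (p := p) hcard hAU : (B * U)⁻¹ ∈ _)
    exact ⟨j, by rw [show (A * U) ^ j = _ from hj, inv_mul_cancel]⟩
  obtain ⟨z, hz⟩ := hb
  set a := b * (z : G)⁻¹ with had
  have hza : ∀ w, Commute (z : G) w := fun w => (Subgroup.mem_center_iff.1 z.2 w).symm
  have haZ : a ∉ Subgroup.center G := fun h => hbZ (by simpa [had] using mul_mem h z.2)
  have hap : a ^ p * ζ ^ C = 1 := by
    rw [had, (hza b).symm.inv_right.mul_pow, mul_assoc, ← hzc, ← mul_assoc, hz, SubgroupClass.coe_pow, inv_pow,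
      mul_inv_cancel]
  refine build hp ζ hζ hζc hcl hZ a haZ hcomm (fun n => a ^ n * ζ ^ n.choose 2) (by simp) ?_ ?_ ?_ ?_
  · intro n
    have hn : (n + p).choose 2 = n.choose 2 + p.choose 2 + n * p := by
      rw [choose_two_add, mul_comm p n]
    show a ^ (n + p) * ζ ^ (n + p).choose 2 = _
    rw [hn, pow_add a, pow_add ζ, pow_add ζ, mul_comm n p, pow_mul ζ, ← hζ, pow_orderOf_eq_one, one_pow, mul_one, hζ,
      mul_assoc, ← mul_assoc (a ^ p), ← hzc (n.choose 2) (a ^ p), mul_assoc, hap, mul_one]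
  · intro n
    exact (Commute.pow_right rfl n).mul_right ((Commute.pow_right (hζc a).symm _))
  · intro v n hv m
    show a ^ m * ζ ^ m.choose 2 * v * (a ^ n * ζ ^ n.choose 2) = v * (a ^ (m + n) * ζ ^ (m + n).choose 2)
    have h := hconjpow a v n hv m
    rw [mul_inv_eq_iff_eq_mul] at h
    have hch : (m + n).choose 2 = m.choose 2 + n.choose 2 + n * m := by
      rw [choose_two_add]
    rw [mul_assoc (a ^ m), hzc, ← mul_assoc (a ^ m), h, hzc (n * m) v, hch, pow_add a, pow_add ζ, pow_add ζ]
    simp only [mul_assoc]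
    congr 1
    rw [← mul_assoc (ζ ^ (n * m)), hzc (n * m) (a ^ m), mul_assoc]
    congr 1
    rw [← mul_assoc (ζ ^ m.choose 2), hzc (m.choose 2) (a ^ n), mul_assoc, ← mul_assoc (ζ ^ (n * m)), hzc (n * m) (a ^ n)]
    simp only [mul_assoc, ← pow_add]
    congr 2
    ring
  · intro n h0 hlt
    refine ⟨fun h => haZ ?_, ?_⟩
    · have hcop : p.Coprime n := (Nat.Prime.coprime_iff_not_dvd hp).2 fun hd => by
        have := Nat.le_of_dvd h0 hd; omega
      have h1 : a ^ n ∈ Subgroup.center G := by
        have : a ^ n * ζ ^ n.choose 2 ∈ Subgroup.center G := (Subgroup.zpowers_le.2 hζZ) h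
        exact (mul_mem_cancel_right (pow_mem hζZ _)).1 this
      have hg' : (n : ℤ).gcd p = 1 := by simpa using hcop.symm
      have : a = a ^ ((n : ℤ) * (n : ℤ).gcdA p + (p : ℤ) * (n : ℤ).gcdB p) := by
        rw [← Int.gcd_eq_gcd_ab, hg']; simp
      rw [this, zpow_add, zpow_mul, zpow_mul, zpow_natCast, zpow_natCast]
      exact mul_mem (zpow_mem h1 _) (zpow_mem (hxpZ a) _)
    · show (a ^ n * ζ ^ n.choose 2) ^ p ∈ _
      rw [(Commute.pow_pow (hζc a : Commute ζ a) _ _).symm.mul_pow, ← pow_mul, mul_comm n p, pow_mul,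
        eq_inv_of_mul_eq_one_left hap]
      exact mul_mem (pow_mem (inv_mem (pow_mem (Subgroup.mem_zpowers ζ) _)) _) (pow_mem (pow_mem (Subgroup.mem_zpowers ζ) _) _)


end Cfsg.Agent.S4067
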