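import Cfsg.Statements.S4071
import Mathlib

set_option autoImplicit false
open Cfsg

namespace Cfsg.Agent.S4071

open Subgroup
open scoped commutatorElement

theorem forward {G : Type*} [Group G] [Finite G] [Group.IsSolvable G] (hnn : ¬ Group.IsNilpotent G)
    (hS : ∀ H : Subgroup G, ¬ IsMulCommutative H → normalizer (H : Set G) = H) :
    ∃ (x : G) (A : Subgroup G) (p : ℕ), p.Prime ∧ A.Normal ∧ IsMulCommutative A ∧ (∃ k : ℕ, orderOf x = p ^ k) ∧
      ¬ p ∣ Nat.card A ∧ (zpowers x).IsComplement' A ∧ x ^ p ∈ center G ∧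
      ∀ a : G, a ∈ A → a ≠ 1 → x * a * x⁻¹ ≠ a := by
  classical
  haveI : Nontrivial G := by
    by_contra h
    rw [not_nontrivial_iff_subsingleton] at h
    exact hnn inferInstance
  obtain ⟨M, hM, hcM⟩ := (eq_top_or_exists_le_coatom (_root_.commutator G)).resolve_left
    (Group.IsSolvable.commutator_lt_top_of_nontrivial (G := G)).ne
  haveI hMn : M.Normal := ⟨fun m hm g => by
    have h1 : ⁅g, m⁆ ∈ M := hcM (Subgroup.commutator_mem_commutator (mem_top g) (mem_top m))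
    rw [commutatorElement_def] at h1
    simpa using mul_mem h1 hm⟩
  have hMc : IsMulCommutative M := by
    by_contra h
    exact hM.1 ((hS M h).symm.trans (normalizer_eq_top (H := M)))
  haveI : Nontrivial (G ⧸ M) := QuotientGroup.nontrivial_iff.2 hM.1
  haveI hQs : IsSimpleGroup (G ⧸ M) := ⟨fun T hT => by
    have hle : M ≤ T.comap (QuotientGroup.mk' M) := fun r hr => by
      rw [mem_comap, show (QuotientGroup.mk' M) r = 1 from (QuotientGroup.eq_one_iff r).2 hr]; exact one_mem _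
    rcases hle.eq_or_lt with heq | hlt
    · left
      rw [← map_comap_eq_self_of_surjective (QuotientGroup.mk'_surjective M) T, ← heq, QuotientGroup.map_mk'_self]
    · right
      rw [← map_comap_eq_self_of_surjective (QuotientGroup.mk'_surjective M) T, hM.2 _ hlt,
        map_top_of_surjective _ (QuotientGroup.mk'_surjective M)]⟩
  letI : CommGroup (G ⧸ M) := { (inferInstance : Group (G ⧸ M)) with
    mul_comm := fun a b => by
      obtain ⟨u, rfl⟩ := QuotientGroup.mk_surjective a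
      obtain ⟨v, rfl⟩ := QuotientGroup.mk_surjective b
      rw [← QuotientGroup.mk_mul, ← QuotientGroup.mk_mul, QuotientGroup.eq]
      have h1 : ⁅v⁻¹, u⁻¹⁆ ∈ M := hcM (Subgroup.commutator_mem_commutator (mem_top _) (mem_top _))
      rw [commutatorElement_def] at h1
      simpa [mul_assoc] using h1 }
  have hp : M.index.Prime := by rw [index_eq_card]; exact IsSimpleGroup.prime_card
  obtain ⟨p, hpM⟩ : ∃ p, p = M.index := ⟨_, rfl⟩
  rw [← hpM] at hp
  haveI := Fact.mk hp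
  obtain ⟨P⟩ : Nonempty (Sylow p G) := inferInstance
  obtain ⟨x, hxP, hxM⟩ : ∃ x ∈ (P : Subgroup G), x ∉ M := by
    by_contra h
    push Not at h
    exact P.not_dvd_index ((dvd_of_eq hpM).trans (Subgroup.index_dvd_of_le h))
  obtain ⟨k, hk⟩ : ∃ k, orderOf x = p ^ k := by
    obtain ⟨k, hk⟩ := IsPGroup.iff_orderOf.1 P.isPGroup' ⟨x, hxP⟩
    exact ⟨k, by rw [← hk, Subgroup.orderOf_mk]⟩
  have hMm : ∀ a ∈ M, ∀ b ∈ M, a * b = b * a := fun a ha b hb =>
    congrArg Subtype.val (hMc.is_comm.comm (⟨a, ha⟩ : M) ⟨b, hb⟩)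
  let A : Subgroup G :=
    { carrier := {a | a ∈ M ∧ (orderOf a).Coprime p}
      one_mem' := ⟨one_mem M, by rw [orderOf_one]; exact Nat.coprime_one_left p⟩
      mul_mem' := fun {a b} ha hb => ⟨mul_mem ha.1 hb.1,
        (Nat.Coprime.mul_left ha.2 hb.2).coprime_dvd_left (Commute.orderOf_mul_dvd_mul_orderOf (hMm a ha.1 b hb.1))⟩
      inv_mem' := fun {a} ha => ⟨inv_mem ha.1, by rw [orderOf_inv]; exact ha.2⟩ }
  haveI hAn : A.Normal := ⟨fun a ha g => ⟨hMn.conj_mem a ha.1 g, by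
    have e : g * a * g⁻¹ = MulAut.conj g a := rfl
    rw [e, (MulAut.conj g).orderOf_eq]; exact ha.2⟩⟩
  have hAc : IsMulCommutative A := ⟨⟨fun a b => Subtype.ext (hMm a a.2.1 b b.2.1)⟩⟩
  have hpA : ¬ p ∣ Nat.card A := fun h => by
    obtain ⟨a, ha⟩ := exists_prime_orderOf_dvd_card' (G := A) p h
    have := a.2.2
    rw [Subgroup.orderOf_coe, ha, Nat.coprime_self] at this
    exact hp.ne_one this
  have hxpM : x ^ p ∈ M := by
    rw [← QuotientGroup.eq_one_iff, QuotientGroup.mk_pow, hpM, index_eq_card, pow_card_eq_one']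
  have hQp : IsPGroup p (G ⧸ A) := by
    intro q
    obtain ⟨g, rfl⟩ := QuotientGroup.mk_surjective q
    have hgM : g ^ p ∈ M := by rw [← QuotientGroup.eq_one_iff, QuotientGroup.mk_pow, hpM, index_eq_card, pow_card_eq_one']
    refine ⟨1 + (orderOf (g ^ p)).factorization p, ?_⟩
    rw [← QuotientGroup.mk_pow, QuotientGroup.eq_one_iff, pow_add, pow_one, pow_mul]
    refine ⟨pow_mem hgM _, ?_⟩
    rw [orderOf_pow_of_dvd (pow_ne_zero _ hp.ne_zero) (Nat.ordProj_dvd _ _)]
    exact (Nat.coprime_ordCompl hp (orderOf_pos _).ne').symm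
  have hgenM : ∀ {K : Subgroup G}, M ≤ K → x ∈ K → K = ⊤ := fun {K} hK hx =>
    hM.2 K (lt_of_le_of_ne hK fun e => hxM (by rw [e]; exact hx))
  have hnc : ¬ ∀ a ∈ A, a * x = x * a := fun h => by
    have hcen : A ≤ center G := by
      intro a ha
      rw [mem_center_iff]
      intro g
      have hK : centralizer ({a} : Set G) = ⊤ := hgenM
        (fun m hm => mem_centralizer_iff.2 fun b hb => by rw [Set.mem_singleton_iff.1 hb]; exact hMm a ha.1 m hm)
        (mem_centralizer_iff.2 fun b hb => by rw [Set.mem_singleton_iff.1 hb]; exact h a ha)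
      exact ((mem_centralizer_iff.1 (hK ▸ mem_top g : g ∈ centralizer ({a} : Set G))) a rfl).symm
    haveI := hQp.isNilpotent
    exact hnn (Subgroup.isNilpotent_of_ker_le_center (QuotientGroup.mk' A) (by rw [QuotientGroup.ker_mk']; exact hcen))
  set H := zpowers x ⊔ A with hH
  have hHna : ¬ IsMulCommutative H := fun h => hnc fun a ha =>
    congrArg Subtype.val (h.is_comm.comm (⟨a, mem_sup_right ha⟩ : H) ⟨x, mem_sup_left (mem_zpowers x)⟩)
  have hHt : H = ⊤ := by
    by_contra hne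
    haveI := hQp.isNilpotent
    have hHc : (H.map (QuotientGroup.mk' A)).comap (QuotientGroup.mk' A) = H := by
      rw [comap_map_eq_self]
      rw [QuotientGroup.ker_mk']; exact le_sup_right
    have hlt : H.map (QuotientGroup.mk' A) < ⊤ := lt_top_iff_ne_top.2 fun e => hne (by rw [← hHc, e, comap_top])
    have h1 := Group.normalizerCondition_of_isNilpotent _ hlt
    rw [← comap_lt_comap_of_surjective (QuotientGroup.mk'_surjective A), hHc] at h1
    refine h1.not_ge (fun g hg => ?_)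
    rw [← hS H hHna]
    refine mem_normalizer_iff.2 fun v => ?_
    conv_lhs => rw [← hHc]
    conv_rhs => rw [← hHc]
    rw [mem_comap, mem_comap, map_mul, map_mul, map_inv]
    exact mem_normalizer_iff.1 hg _
  have hdis : Disjoint (zpowers x) A := by
    rw [Subgroup.disjoint_def]
    intro y hy hyA
    have h1 : orderOf y ∣ p ^ k := by
      have h' := Subgroup.orderOf_dvd_natCard _ hy
      rwa [Nat.card_zpowers, hk] at h'
    exact orderOf_eq_one_iff.1 (Nat.eq_one_of_dvd_coprimes ((show (orderOf y).Coprime p from hyA.2).pow_right k) dvd_rfl h1)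
  have hcompl : (zpowers x).IsComplement' A := Subgroup.isComplement'_of_disjoint_and_mul_eq_univ hdis (by
    rw [← Subgroup.coe_mul_of_left_le_normalizer_right (zpowers x) A (by rw [normalizer_eq_top A]; exact le_top)] <;> simp [← hH, hHt])
  have hxp : x ^ p ∈ center G := by
    rw [mem_center_iff]
    intro g
    have hK : centralizer ({x ^ p} : Set G) = ⊤ := hgenM
      (fun m hm => mem_centralizer_iff.2 fun b hb => by rw [Set.mem_singleton_iff.1 hb]; exact hMm _ hxpM m hm)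
      (mem_centralizer_iff.2 fun b hb => by rw [Set.mem_singleton_iff.1 hb]; exact (Commute.self_pow x p).symm.eq)
    exact ((mem_centralizer_iff.1 (hK ▸ mem_top g : g ∈ centralizer ({x ^ p} : Set G))) _ rfl).symm
  refine ⟨x, A, p, hp, hAn, hAc, ⟨k, hk⟩, hpA, hcompl, hxp, ?_⟩
  intro a ha ha1 hfix
  let f : A →* A :=
    { toFun := fun c => ⟨x * c * x⁻¹, hAn.conj_mem c c.2 x⟩ / c
      map_one' := by simp
      map_mul' := fun b c => Subtype.ext (by
        have e := hMm (b : G)⁻¹ (inv_mem b.2.1) (x * (c : G) * x⁻¹ * (c : G)⁻¹) (mul_mem (hMn.conj_mem _ c.2.1 x) (inv_mem c.2.1))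
        simp only [Subgroup.coe_div, Subgroup.coe_mul, div_eq_mul_inv, mul_inv_rev, Subgroup.coe_inv]
        calc x * ((b : G) * c) * x⁻¹ * ((c : G)⁻¹ * (b : G)⁻¹) = x * b * x⁻¹ * ((x * c * x⁻¹ * (c : G)⁻¹) * (b : G)⁻¹) := by group
          _ = x * b * x⁻¹ * ((b : G)⁻¹ * (x * c * x⁻¹ * (c : G)⁻¹)) := by rw [e]
          _ = _ := by group) }
  have hf : ∀ c : A, (f c : G) = x * c * x⁻¹ * (c : G)⁻¹ := fun c => by simp [f, div_eq_mul_inv]
  have hff : ∀ c : A, f (f c) = 1 → f c = 1 := by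
    intro c hc
    have h1 : x * (f c : G) * x⁻¹ = f c := by
      have := congrArg Subtype.val hc
      rw [hf (f c), OneMemClass.coe_one, mul_inv_eq_one] at this
      exact this
    have h2 : ∀ n : ℕ, x ^ n * c * (x ^ n)⁻¹ = (f c : G) ^ n * c := by
      intro n
      induction n with
      | zero => simp
      | succ n ih =>
        calc x ^ (n + 1) * c * (x ^ (n + 1))⁻¹ = x * (x ^ n * c * (x ^ n)⁻¹) * x⁻¹ := by rw [pow_succ']; group
          _ = (x * (f c : G) ^ n * x⁻¹) * (x * c * x⁻¹) := by rw [ih]; group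
          _ = (f c : G) ^ n * ((f c : G) * c) := by
            rw [← conj_pow, h1, hf c]; group
          _ = _ := by rw [pow_succ, mul_assoc]
    have h3 := h2 (orderOf x)
    rw [pow_orderOf_eq_one, one_mul, inv_one, mul_one] at h3
    have h4 : (f c : G) ^ orderOf x = 1 := right_eq_mul.1 h3
    refine Subtype.ext (orderOf_eq_one_iff.1 ?_)
    exact Nat.eq_one_of_dvd_coprimes ((f c).2.2.pow_right k) dvd_rfl (hk ▸ orderOf_dvd_of_pow_eq_one h4)
  set B := f.range.map A.subtype with hB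
  have hBA : B ≤ A := map_subtype_le _
  have hxB : zpowers x ≤ normalizer (B : Set G) := by
    rw [zpowers_le, mem_normalizer_iff_map_conj_eq]
    refine Subgroup.eq_of_le_of_card_ge ?_ (Nat.card_congr (Subgroup.equivMapOfInjective _ _ (MulEquiv.injective _)).toEquiv).le
    rintro _ ⟨_, ⟨_, ⟨c, rfl⟩, rfl⟩, rfl⟩
    refine ⟨f ⟨x * c * x⁻¹, hAn.conj_mem c c.2 x⟩, ⟨_, rfl⟩, ?_⟩
    show (f _ : G) = x * (f c : G) * x⁻¹
    rw [hf, hf]
    show x * (x * (c : G) * x⁻¹) * x⁻¹ * (x * (c : G) * x⁻¹)⁻¹ = _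
    group
  set K := zpowers x ⊔ B with hK
  have hKna : ¬ IsMulCommutative K := fun h => hnc fun b hb => by
    have h1 : f (f ⟨b, hb⟩) = 1 := Subtype.ext (by
      rw [hf (f ⟨b, hb⟩), OneMemClass.coe_one, mul_inv_eq_one, mul_inv_eq_iff_eq_mul]
      exact congrArg Subtype.val (h.is_comm.comm (⟨x, mem_sup_left (mem_zpowers x)⟩ : K)
        ⟨(f ⟨b, hb⟩ : G), mem_sup_right ⟨_, ⟨_, rfl⟩, rfl⟩⟩))
    have h2 := congrArg Subtype.val (hff _ h1)
    rw [hf, OneMemClass.coe_one, mul_inv_eq_one, mul_inv_eq_iff_eq_mul] at h2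
    exact h2.symm
  have haN : a ∈ normalizer (K : Set G) := by
    rw [mem_normalizer_iff_map_conj_eq]
    refine Subgroup.eq_of_le_of_card_ge ?_ (Nat.card_congr (Subgroup.equivMapOfInjective _ _ (MulEquiv.injective _)).toEquiv).le
    rw [hK, Subgroup.map_sup, sup_le_iff]
    constructor
    · rw [MonoidHom.map_zpowers, zpowers_le]
      refine mem_sup_left ?_
      show a * x * a⁻¹ ∈ zpowers x
      rw [show a * x * a⁻¹ = x by rw [mul_inv_eq_iff_eq_mul]; exact (mul_inv_eq_iff_eq_mul.1 hfix).symm]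
      exact mem_zpowers x
    · rintro _ ⟨b, hb, rfl⟩
      refine mem_sup_right ?_
      show a * b * a⁻¹ ∈ B
      rw [hMm a ha.1 b (hBA hb).1, mul_inv_cancel_right]
      exact hb
  rw [hS K hKna] at haN
  rw [hK, ← SetLike.mem_coe, Subgroup.coe_mul_of_left_le_normalizer_right _ _ hxB] at haN
  obtain ⟨u, hu, b, hb, hub⟩ := haN
  have hu1 : u = 1 := Subgroup.disjoint_def.1 hdis hu (by
    have : u = a * b⁻¹ := by rw [← hub]; simp
    rw [this]; exact mul_mem ha (inv_mem (hBA hb)))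
  rw [hu1] at hub
  obtain ⟨_, ⟨c, rfl⟩, hc⟩ := hb
  have hub' : (1 : G) * b = a := hub
  rw [one_mul] at hub'
  subst hub'
  apply ha1
  have h1 : f (f c) = 1 := Subtype.ext (by
    rw [hf (f c), OneMemClass.coe_one, mul_inv_eq_one, show (f c : G) = b from hc, hfix])
  rw [← hc, hff c h1]; rfl

theorem backward {G : Type*} [Group G] [Finite G] {x : G} {A : Subgroup G} {p : ℕ} (hp : p.Prime) (hAn : A.Normal)
    (hAc : IsMulCommutative A) (hcompl : (zpowers x).IsComplement' A) (hxp : x ^ p ∈ center G)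
    (hfpf : ∀ a : G, a ∈ A → a ≠ 1 → x * a * x⁻¹ ≠ a) {k : ℕ} (hk : orderOf x = p ^ k) (H : Subgroup G) (hna : ¬ IsMulCommutative H) :
    normalizer (H : Set G) = H := by
  classical
  have hdec : ∀ g : G, ∃ a ∈ A, ∃ i : ℤ, g = a * x ^ i := fun g => by
    obtain ⟨⟨⟨_, i, rfl⟩, ⟨a, ha⟩⟩, h⟩ := hcompl.2 g
    exact ⟨x ^ i * a * (x ^ i)⁻¹, hAn.conj_mem a ha _, i, by rw [← h]; show _ = _; group⟩
  have hA : ∀ a ∈ A, ∀ b ∈ A, a * b = b * a := fun a ha b hb => congrArg Subtype.val (hAc.is_comm.comm (⟨a, ha⟩ : A) ⟨b, hb⟩)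
  obtain ⟨h, hh, a0, ha0, i0, hi0, hpi⟩ : ∃ h ∈ H, ∃ a ∈ A, ∃ i : ℤ, h = a * x ^ i ∧ ¬ (p : ℤ) ∣ i := by
    by_contra hc
    push Not at hc
    apply hna
    refine ⟨⟨fun u v => Subtype.ext ?_⟩⟩
    obtain ⟨a, ha, i, hi⟩ := hdec (u : G)
    obtain ⟨b, hb, j, hj⟩ := hdec (v : G)
    obtain ⟨i', rfl⟩ := hc _ u.2 a ha i hi
    obtain ⟨j', rfl⟩ := hc _ v.2 b hb j hj
    show (u : G) * v = v * u
    rw [zpow_mul, zpow_natCast] at hi hj
    rw [hi, hj]
    have c1 : ∀ g : G, ∀ l : ℤ, Commute g ((x ^ p) ^ l) := fun g l => Commute.zpow_right (mem_center_iff.1 hxp g) l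
    exact (((Commute.mul_right (hA a ha b hb) (c1 a j')).mul_left ((Commute.mul_right ((c1 b i').symm) (c1 ((x ^ p) ^ i') j'))))).eq
  -- `x` is a power of `x ^ i0`
  obtain ⟨t, ht⟩ : ∃ t : ℤ, x = (x ^ i0) ^ t := by
    have hc : IsCoprime i0 ((p : ℤ) ^ k) := ((Nat.prime_iff_prime_int.1 hp).coprime_iff_not_dvd.2 hpi).symm.pow_right
    obtain ⟨u, v, huv⟩ := hc
    refine ⟨u, ?_⟩
    rw [← zpow_mul, mul_comm]
    conv_lhs => rw [← zpow_one x, ← huv, zpow_add]
    rw [mul_comm v, zpow_mul x ((p : ℤ) ^ k), ← Nat.cast_pow, zpow_natCast, ← hk, pow_orderOf_eq_one, one_zpow, mul_one]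
  have hfpf' : ∀ a ∈ A, Commute a h → a = 1 := by
    intro a ha hc
    by_contra ha1
    have h1 : Commute a (x ^ i0) := by
      have := (Commute.inv_right (show Commute a a0 from hA a ha a0 ha0)).mul_right hc
      rwa [hi0, inv_mul_cancel_left] at this
    have h2 : Commute a x := by rw [ht]; exact h1.zpow_right t
    exact hfpf a ha ha1 (by rw [← h2.eq, mul_inv_cancel_right])
  -- `x ^ p` lies in `H`
  have hxpH : x ^ p ∈ H := by
    have e : h ^ p * ((x ^ p) ^ i0)⁻¹ ∈ A := by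
      rw [← QuotientGroup.eq_one_iff, QuotientGroup.mk_mul, QuotientGroup.mk_pow, hi0, QuotientGroup.mk_mul,
        (QuotientGroup.eq_one_iff a0).2 ha0, one_mul, ← QuotientGroup.mk_pow, ← QuotientGroup.mk_mul,
        ← zpow_natCast, ← zpow_mul, ← zpow_natCast x p, ← zpow_mul, mul_comm i0, mul_inv_cancel]
      rfl
    have e2 := hfpf' _ e ((Commute.pow_self h p).mul_left ((Commute.zpow_right (mem_center_iff.1 hxp h) i0).inv_right.symm))
    rw [mul_inv_eq_one] at e2
    have hin : (x ^ p) ^ i0 ∈ H := e2 ▸ pow_mem hh p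
    have : x ^ p = ((x ^ p) ^ i0) ^ t := by
      conv_lhs => rw [ht]
      rw [← zpow_natCast, ← zpow_natCast x p, ← zpow_mul, ← zpow_mul, ← zpow_mul, ← zpow_mul]
      congr 1
      ring
    rw [this]; exact zpow_mem hin t
  refine le_antisymm (fun y hy => ?_) le_normalizer
  obtain ⟨a, ha, i, rfl⟩ := hdec y
  -- remove a power of `h`
  obtain ⟨j, l, hjl⟩ : ∃ j l : ℤ, i = i0 * j + (p : ℤ) * l := by
    obtain ⟨u, v, huv⟩ := ((Nat.prime_iff_prime_int.1 hp).coprime_iff_not_dvd.2 hpi)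
    exact ⟨v * i, u * i, by linear_combination -i * huv⟩
  obtain ⟨c, hc, hcy⟩ : ∃ c ∈ A, a * x ^ i = c * (h ^ j * (x ^ p) ^ l) := by
    refine ⟨a * x ^ i * (h ^ j * (x ^ p) ^ l)⁻¹, ?_, by group⟩
    rw [← QuotientGroup.eq_one_iff, QuotientGroup.mk_mul, QuotientGroup.mk_inv, QuotientGroup.mk_mul,
      (QuotientGroup.eq_one_iff a).2 ha, one_mul, QuotientGroup.mk_mul, QuotientGroup.mk_zpow _ h, hi0,
      QuotientGroup.mk_mul, (QuotientGroup.eq_one_iff a0).2 ha0, one_mul, ← QuotientGroup.mk_zpow,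
      ← QuotientGroup.mk_mul, ← zpow_mul, ← zpow_natCast, ← zpow_mul, ← zpow_add, ← hjl, mul_inv_cancel]
  rw [hcy] at hy ⊢
  have hw : h ^ j * (x ^ p) ^ l ∈ H := mul_mem (zpow_mem hh j) (zpow_mem hxpH l)
  refine mul_mem ?_ hw
  have hcN : c ∈ normalizer (H : Set G) := by
    have h' := mul_mem hy (inv_mem (le_normalizer hw))
    rwa [mul_inv_cancel_right] at h'
  let ψ : (A ⊓ H : Subgroup G) → (A ⊓ H : Subgroup G) := fun b =>
    ⟨(b : G) * (h * (b : G)⁻¹ * h⁻¹), Subgroup.mem_inf.2 ⟨mul_mem (show (b : G) ∈ A from b.2.1) (hAn.conj_mem _ (inv_mem (show (b : G) ∈ A from b.2.1)) h),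
      mul_mem (show (b : G) ∈ H from b.2.2) (mul_mem (mul_mem hh (inv_mem (show (b : G) ∈ H from b.2.2))) (inv_mem hh))⟩⟩
  have hinjA : ∀ b ∈ A, ∀ b' ∈ A, b * (h * b⁻¹ * h⁻¹) = b' * (h * b'⁻¹ * h⁻¹) → b = b' := by
    intro b hb b' hb' e
    refine (inv_mul_eq_one.1 (hfpf' _ (mul_mem (inv_mem hb') hb) ?_)).symm
    show b'⁻¹ * b * h = h * (b'⁻¹ * b)
    calc b'⁻¹ * b * h = b'⁻¹ * (b * (h * b⁻¹ * h⁻¹)) * h * b := by group
      _ = b'⁻¹ * (b' * (h * b'⁻¹ * h⁻¹)) * h * b := by rw [e]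
      _ = _ := by group
  have hψ : Function.Injective ψ := fun b b' e => Subtype.ext (hinjA _ b.2.1 _ b'.2.1 (congrArg Subtype.val e))
  have hcA : c * (h * c⁻¹ * h⁻¹) ∈ A ⊓ H := Subgroup.mem_inf.2 ⟨mul_mem hc (hAn.conj_mem _ (inv_mem hc) h), by
    rw [show c * (h * c⁻¹ * h⁻¹) = c * h * c⁻¹ * h⁻¹ by group]
    exact mul_mem ((mem_normalizer_iff.1 hcN h).1 hh) (inv_mem hh)⟩
  obtain ⟨b, hb⟩ := Finite.injective_iff_surjective.1 hψ ⟨_, hcA⟩
  rw [← hinjA _ b.2.1 _ hc (congrArg Subtype.val hb)]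
  exact b.2.2

/-- Let G be a finite solvable non-nilpotent group. Every non-abelian subgroup of G is self-normalizing if and only if G is a semidirect product ⟨x⟩ ⋉ A in which ⟨x⟩ is a p-group for some prime p, A is a normal abelian subgroup of order prime to p, x^p is central in G, and x acts fixed-point-freely on A (no non-identity element of A commutes with x). -/
theorem result {G : Type*} [Group G] [Finite G]
    [Group.IsSolvable G] (hnn : ¬ Group.IsNilpotent G) :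
    (∀ H : Subgroup G, ¬ IsMulCommutative H → Subgroup.normalizer (H : Set G) = H) ↔
    ∃ (x : G) (A : Subgroup G) (p : ℕ), p.Prime ∧ A.Normal ∧ IsMulCommutative A ∧ (∃ k : ℕ, orderOf x = p ^ k) ∧
      ¬ p ∣ Nat.card A ∧ (Subgroup.zpowers x).IsComplement' A ∧ x ^ p ∈ Subgroup.center G ∧
      ∀ a : G, a ∈ A → a ≠ 1 → x * a * x⁻¹ ≠ a := by
  exact ⟨forward hnn, fun ⟨x, A, p, hp, hAn, hAc, ⟨k, hk⟩, _, hcompl, hxp, hfpf⟩ H hH =>
    backward hp hAn hAc hcompl hxp hfpf hk H hH⟩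

end Cfsg.Agent.S4071
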