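import Cfsg.Statements.S4072
import Cfsg.Agent.Lib.Solv.NormalPComplement
import Mathlib

set_option autoImplicit false
open Cfsg

namespace Cfsg.Agent.S4072

open Subgroup

/-- A non-abelian simple group has no abelian self-normalising Sylow subgroup. -/
theorem no_self_norm {Q : Type*} [Group Q] [Finite Q] [IsSimpleGroup Q] (hna : ¬ ∀ a b : Q, a * b = b * a)
    {p : ℕ} [Fact p.Prime] (P : Sylow p Q) (hne : (P : Subgroup Q) ≠ ⊥)
    (hab : ∀ a ∈ (P : Subgroup Q), ∀ b ∈ (P : Subgroup Q), a * b = b * a)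
    (hN : normalizer ((P : Subgroup Q) : Set Q) ≤ P) : False := by
  have hC : normalizer ((P : Subgroup Q) : Set Q) ≤ centralizer ((P : Subgroup Q) : Set Q) :=
    fun x hx => mem_centralizer_iff.2 fun y hy => hab y hy x (hN hx)
  obtain ⟨R, K, hK, hc⟩ := Cfsg.Agent.Solv.hasNormalPComplement_of_burnside P hC
  rcases hK.eq_bot_or_eq_top with rfl | rfl
  · obtain ⟨g, hg⟩ := MulAction.exists_smul_eq Q R P
    have hR : (R : Subgroup Q) = ⊤ := by simpa using hc.sup_eq_top
    have hP : (P : Subgroup Q) = ⊤ := by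
      refine Subgroup.eq_top_of_card_eq _ ?_
      rw [P.card_eq_multiplicity, ← R.card_eq_multiplicity, hR, Subgroup.card_top]
    exact hna fun a b => hab a (hP ▸ mem_top a) b (hP ▸ mem_top b)
  · have hR : (R : Subgroup Q) = ⊥ := by simpa using hc.disjoint.eq_bot
    refine hne (Subgroup.card_eq_one.1 ?_)
    rw [P.card_eq_multiplicity, ← R.card_eq_multiplicity, hR, Subgroup.card_bot]


/-- A finite group in which every non-abelian subgroup is self-normalizing is solvable or simple. -/
theorem result {G : Type*} [Group G] [Finite G] (hS : ∀ H : Subgroup G, ¬ IsMulCommutative H → Subgroup.normalizer (H : Set G) = H) :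
    Group.IsSolvable G ∨ IsSimpleGroup G := by
  classical
  by_cases hsol : Group.IsSolvable G
  · exact Or.inl hsol
  right
  haveI : Nontrivial G := by
    by_contra h
    rw [not_nontrivial_iff_subsingleton] at h
    exact hsol inferInstance
  have hnormab : ∀ M : Subgroup G, M.Normal → M ≠ ⊤ → IsMulCommutative M := fun M hM hMt => by
    by_contra hna
    exact hMt ((hS M hna).symm.trans (normalizer_eq_top (H := M)))
  have hperf : _root_.commutator G = ⊤ := by
    by_contra h
    haveI := hnormab _ inferInstance h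
    haveI : Group.IsSolvable (_root_.commutator G) := Group.isSolvable_of_comm fun a b => mul_comm' a b
    refine hsol (Group.isSolvable_of_ker_le_range (_root_.commutator G).subtype (Abelianization.of : G →* Abelianization G) ?_)
    rw [Abelianization.ker_of, Subgroup.range_subtype]
  have hperf' : ∀ {M : Type _} [CommGroup M] (f : G →* M), ∀ g : G, f g = 1 := fun f g =>
    MonoidHom.mem_ker.1 (Abelianization.commutator_subset_ker f (hperf ▸ mem_top g))
  by_contra hns
  have hex : ∃ N : Subgroup G, N.Normal ∧ N ≠ ⊥ ∧ N ≠ ⊤ := by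
    by_contra h
    push Not at h
    exact hns ⟨fun N hN => (em (N = ⊥)).imp id (fun hb => h N hN hb)⟩
  obtain ⟨N0, hN0, hN0b, hN0t⟩ := hex
  obtain ⟨R, hNR, ⟨hRn, hRt⟩, hmax⟩ := Finite.exists_le_maximal (p := fun N : Subgroup G => N.Normal ∧ N ≠ ⊤) (a := N0) ⟨hN0, hN0t⟩
  haveI := hRn
  have hRb : R ≠ ⊥ := fun h => hN0b (le_bot_iff.1 (h ▸ hNR))
  haveI hRc := hnormab R hRn hRt
  haveI : Nontrivial (G ⧸ R) := QuotientGroup.nontrivial_iff.2 hRt
  set π := QuotientGroup.mk' R
  have hπ : Function.Surjective π := QuotientGroup.mk'_surjective R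
  haveI hQs : IsSimpleGroup (G ⧸ R) := ⟨fun M hM => by
    by_cases ht : M.comap π = ⊤
    · exact Or.inr (by rw [← map_comap_eq_self_of_surjective hπ M, ht, map_top_of_surjective π hπ])
    · left
      have hle : R ≤ M.comap π := fun r hr => by
        rw [mem_comap, show π r = 1 from (QuotientGroup.eq_one_iff r).2 hr]; exact one_mem _
      have h1 := hmax (show (M.comap π).Normal ∧ M.comap π ≠ ⊤ from ⟨hM.comap π, ht⟩) hle
      rw [← map_comap_eq_self_of_surjective hπ M, eq_bot_iff]
      rintro _ ⟨x, hx, rfl⟩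
      exact mem_bot.2 ((QuotientGroup.eq_one_iff x).2 (h1 hx))⟩
  have hQna : ¬ ∀ a b : G ⧸ R, a * b = b * a := fun h => by
    letI : CommGroup (G ⧸ R) := { (inferInstance : Group (G ⧸ R)) with mul_comm := h }
    exact hRt (eq_top_iff.2 fun g _ => (QuotientGroup.eq_one_iff g).1 (hperf' π g))
  have hle_of_comap : ∀ M : Subgroup (G ⧸ R), R ≤ M.comap π := fun M r hr => by
    rw [mem_comap, show π r = 1 from (QuotientGroup.eq_one_iff r).2 hr]; exact one_mem _
  by_cases hC : centralizer (R : Set G) = ⊤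
  swap
  · -- `R` is self-centralising
    have hCn : (centralizer (R : Set G)).Normal := Subgroup.normal_centralizer
    have hRC : R ≤ centralizer (R : Set G) := Subgroup.le_centralizer_iff_isMulCommutative.2 hRc
    have hCR : centralizer (R : Set G) ≤ R := hmax ⟨hCn, hC⟩ hRC
    have hself : ∀ x : G ⧸ R, x ≠ 1 → normalizer ((zpowers x : Subgroup (G ⧸ R)) : Set (G ⧸ R)) ≤ zpowers x := by
      intro x hx
      obtain ⟨g, rfl⟩ := hπ x
      set H := (zpowers (π g)).comap π with hH
      have hna : ¬ IsMulCommutative H := fun h => hx ((QuotientGroup.eq_one_iff g).2 (hCR (mem_centralizer_iff.2 fun r hr =>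
        congrArg Subtype.val (h.is_comm.comm (⟨r, hle_of_comap _ hr⟩ : H) ⟨g, mem_zpowers _⟩))))
      have h1 := hS H hna
      intro y hy
      obtain ⟨u, rfl⟩ := hπ y
      have : u ∈ normalizer (H : Set G) := by
        refine mem_normalizer_iff.2 fun v => ?_
        show π v ∈ zpowers (π g) ↔ π (u * v * u⁻¹) ∈ zpowers (π g)
        rw [map_mul, map_mul, map_inv]
        exact mem_normalizer_iff.1 hy (π v)
      rw [h1] at this
      exact this
    obtain ⟨s, hs, hsd⟩ := Nat.exists_prime_and_dvd (Finite.one_lt_card (α := G ⧸ R)).ne'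
    haveI := Fact.mk hs
    obtain ⟨P⟩ : Nonempty (Sylow s (G ⧸ R)) := inferInstance
    have hPb : (P : Subgroup (G ⧸ R)) ≠ ⊥ := P.ne_bot_of_dvd_card hsd
    haveI : Nontrivial (P : Subgroup (G ⧸ R)) := (Subgroup.nontrivial_iff_ne_bot _).2 hPb
    haveI := P.isPGroup'.center_nontrivial
    obtain ⟨z, hz⟩ := exists_ne (1 : center (P : Subgroup (G ⧸ R)))
    have hz1 : ((z : (P : Subgroup (G ⧸ R))) : G ⧸ R) ≠ 1 := fun h => hz (Subtype.ext (Subtype.ext h))
    have hPz : (P : Subgroup (G ⧸ R)) ≤ zpowers ((z : (P : Subgroup (G ⧸ R))) : G ⧸ R) := by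
      intro y hy
      refine hself _ hz1 ?_
      have hc : Commute y ((z : (P : Subgroup (G ⧸ R))) : G ⧸ R) :=
        congrArg Subtype.val (mem_center_iff.1 z.2 ⟨y, hy⟩)
      refine mem_normalizer_iff.2 fun v => ?_
      constructor
      · rintro ⟨i, rfl⟩
        exact ⟨i, by show _ = y * _ * y⁻¹; rw [(hc.zpow_right i).eq, mul_inv_cancel_right]⟩
      · rintro ⟨i, hi⟩
        refine ⟨i, ?_⟩
        have hi' : ((z : (P : Subgroup (G ⧸ R))) : G ⧸ R) ^ i = y * v * y⁻¹ := hi
        have e : ((z : (P : Subgroup (G ⧸ R))) : G ⧸ R) ^ i = y * ((z : (P : Subgroup (G ⧸ R))) : G ⧸ R) ^ i * y⁻¹ := by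
          rw [(hc.zpow_right i).eq, mul_inv_cancel_right]
        show ((z : (P : Subgroup (G ⧸ R))) : G ⧸ R) ^ i = v
        exact mul_left_cancel (mul_right_cancel (e.symm.trans hi'))
    have hPeq : zpowers ((z : (P : Subgroup (G ⧸ R))) : G ⧸ R) = (P : Subgroup (G ⧸ R)) :=
      le_antisymm (zpowers_le.2 (z : (P : Subgroup (G ⧸ R))).2) hPz
    refine no_self_norm hQna P hPb (fun a ha b hb => ?_) ?_
    · rw [← hPeq] at ha hb
      obtain ⟨i, rfl⟩ := ha
      obtain ⟨j, rfl⟩ := hb
      exact (Commute.zpow_zpow_self _ i j).eq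
    · rw [← hPeq]; exact hself _ hz1
  -- `R` is central
  have hRZ : ∀ r ∈ R, ∀ g : G, g * r = r * g := fun r hr g =>
    ((mem_centralizer_iff.1 (hC ▸ mem_top g : g ∈ centralizer (R : Set G))) r hr).symm
  have hRH : ∀ H : Subgroup G, ¬ IsMulCommutative H → R ≤ H := fun H hH r hr => by
    have : r ∈ normalizer (H : Set G) := mem_normalizer_iff.2 fun v => by
      rw [show r * v * r⁻¹ = v by rw [← hRZ r hr v, mul_inv_cancel_right]]
    rwa [hS H hH] at this
  -- central elements of `p`-power order fall into the derived group of a Sylow subgroup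
  have htr : ∀ (p : ℕ) [Fact p.Prime] (P : Sylow p G), ∀ r ∈ R, r ∈ (P : Subgroup G) →
      ∃ c ∈ _root_.commutator (P : Subgroup G), (c : G) = r := by
    intro p _ P r hr hrP
    have key : ∀ (k : ℕ) (g₀ : G), g₀⁻¹ * r ^ k * g₀ ∈ (P : Subgroup G) → g₀⁻¹ * r ^ k * g₀ = r ^ k := fun k g₀ _ => by
      rw [mul_assoc, ← hRZ _ (pow_mem hr k) g₀, inv_mul_cancel_left]
    have h1 := hperf' (MonoidHom.transfer (Abelianization.of : (P : Subgroup G) →* Abelianization (P : Subgroup G))) r
    rw [MonoidHom.transfer_eq_pow _ r key] at h1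
    have h2 : (⟨r, hrP⟩ : (P : Subgroup G)) ^ (P : Subgroup G).index ∈ _root_.commutator (P : Subgroup G) := by
      rw [← Abelianization.ker_of, MonoidHom.mem_ker]
      exact h1
    obtain ⟨k, hk⟩ := IsPGroup.iff_orderOf.1 P.isPGroup' ⟨r, hrP⟩
    obtain ⟨m, hm⟩ := exists_pow_eq_self_of_coprime (x := (⟨r, hrP⟩ : (P : Subgroup G))) (n := (P : Subgroup G).index) (by
      rw [hk]
      exact (((Fact.out : p.Prime).coprime_iff_not_dvd.2 P.not_dvd_index).pow_left k).symm)
    exact ⟨⟨r, hrP⟩, by rw [← hm]; exact pow_mem h2 m, rfl⟩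
  have hRp : ∀ (q : ℕ) [Fact q.Prime], q ∣ Nat.card R → ∀ P : Sylow q G, ¬ IsMulCommutative (P : Subgroup G) := by
    intro q _ hq P hab
    obtain ⟨r, hr⟩ := exists_prime_orderOf_dvd_card' (G := R) q hq
    obtain ⟨T, hT⟩ := (IsPGroup.of_card (p := q) (G := zpowers (r : G)) (n := 1) (by
      rw [Nat.card_zpowers, Subgroup.orderOf_coe, hr, pow_one])).exists_le_sylow
    obtain ⟨g, hg⟩ := MulAction.exists_smul_eq G T P
    have hrP : (r : G) ∈ (P : Subgroup G) := by
      rw [← hg, Sylow.coe_subgroup_smul]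
      refine ⟨r, hT (mem_zpowers _), ?_⟩
      show g * (r : G) * g⁻¹ = r
      rw [hRZ r r.2 g, mul_inv_cancel_right]
    obtain ⟨c, hc, hcr⟩ := htr q P r r.2 hrP
    have hc1 : c = 1 := by
      haveI := hab
      have : _root_.commutator (P : Subgroup G) = ⊥ := by
        rw [_root_.commutator_def, Subgroup.commutator_eq_bot_iff_le_centralizer]
        intro a _
        exact mem_centralizer_iff.2 fun b _ => mul_comm' b a
      rw [this] at hc; exact hc
    rw [hc1] at hcr
    have : orderOf r = 1 := orderOf_eq_one_iff.2 (Subtype.ext hcr.symm)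
    rw [hr] at this
    exact (Fact.out : q.Prime).ne_one this
  obtain ⟨p, hp, hpd⟩ := Nat.exists_prime_and_dvd (fun h => hRb (card_eq_one.1 h))
  haveI := Fact.mk hp
  obtain ⟨P⟩ : Nonempty (Sylow p G) := inferInstance
  have hPna := hRp p hpd P
  have hRP : R ≤ (P : Subgroup G) := hRH _ hPna
  have hPN : normalizer ((P : Subgroup G) : Set G) = (P : Subgroup G) := hS _ hPna
  haveI : Group.IsNilpotent (P : Subgroup G) := P.isPGroup'.isNilpotent
  have hsub : ∀ T : Subgroup (P : Subgroup G), T ≠ ⊤ → IsMulCommutative T := by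
    intro T hT
    by_contra hna
    have hna' : ¬ IsMulCommutative (T.map (P : Subgroup G).subtype) := fun h => hna ⟨⟨fun a b => Subtype.ext (Subtype.ext (by
      have e := congrArg Subtype.val (h.is_comm.comm (⟨_, a, a.2, rfl⟩ : T.map (P : Subgroup G).subtype) ⟨_, b, b.2, rfl⟩)
      exact e))⟩⟩
    obtain ⟨y, hy, hyT⟩ := SetLike.exists_of_lt (Group.normalizerCondition_of_isNilpotent (G := (P : Subgroup G)) T (lt_top_iff_ne_top.2 hT))
    have hyn := le_normalizer_map (P : Subgroup G).subtype ⟨y, hy, rfl⟩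
    rw [hS _ hna'] at hyn
    obtain ⟨w, hw, hwy⟩ := hyn
    exact hyT (Subtype.val_injective hwy ▸ hw)
  -- the derived group of `P` has order `p`
  obtain ⟨x, y, hxy⟩ : ∃ x y : (P : Subgroup G), y * x ≠ x * y := by
    by_contra h; push Not at h; exact hPna ⟨⟨fun a b => h b a⟩⟩
  have hgen : closure ({x, y} : Set (P : Subgroup G)) = ⊤ := by
    by_contra h
    haveI := hsub _ h
    exact hxy (congrArg Subtype.val (mul_comm' (⟨y, subset_closure (Or.inr rfl)⟩ : closure ({x, y} : Set (P : Subgroup G))) ⟨x, subset_closure (Or.inl rfl)⟩))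
  have hmaxsub : ∀ u : (P : Subgroup G), ∃ A : Subgroup (P : Subgroup G), u ∈ A ∧ A.Normal ∧ A.index = p ∧ IsMulCommutative A := by
    intro u
    have hu : zpowers u ≠ ⊤ := fun h => hPna (by
      haveI : IsCyclic (P : Subgroup G) := isCyclic_iff_exists_zpowers_eq_top.2 ⟨u, h⟩
      exact ⟨⟨fun a b => by letI := IsCyclic.commGroup (α := (P : Subgroup G)); exact mul_comm a b⟩⟩)
    obtain ⟨A, hA, hle⟩ := (eq_top_or_exists_le_coatom (zpowers u)).resolve_left hu
    have hAn : A.Normal := NormalizerCondition.normal_of_coatom A Group.normalizerCondition_of_isNilpotent hA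
    haveI := hAn
    haveI : IsSimpleGroup ((P : Subgroup G) ⧸ A) := by
      haveI : Nontrivial ((P : Subgroup G) ⧸ A) := QuotientGroup.nontrivial_iff.2 hA.1
      refine ⟨fun M hM => ?_⟩
      by_cases hMA : A < M.comap (QuotientGroup.mk' A)
      · exact Or.inr (by rw [← map_comap_eq_self_of_surjective (QuotientGroup.mk'_surjective A) M, hA.2 _ hMA, map_top_of_surjective _ (QuotientGroup.mk'_surjective A)])
      · left
        have hle' : A ≤ M.comap (QuotientGroup.mk' A) := fun r hr => by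
          rw [mem_comap, show (QuotientGroup.mk' A) r = 1 from (QuotientGroup.eq_one_iff r).2 hr]; exact one_mem _
        have heq := hle'.eq_of_not_lt hMA
        rw [← map_comap_eq_self_of_surjective (QuotientGroup.mk'_surjective A) M, ← heq, eq_bot_iff]
        rintro _ ⟨v, hv, rfl⟩
        exact mem_bot.2 ((QuotientGroup.eq_one_iff v).2 hv)
    refine ⟨A, hle (mem_zpowers u), hAn, ?_, hsub A hA.1⟩
    have hq : IsPGroup p ((P : Subgroup G) ⧸ A) := P.isPGroup'.to_quotient A
    haveI := hq.center_nontrivial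
    have hcen : center ((P : Subgroup G) ⧸ A) = ⊤ := (Subgroup.Normal.eq_bot_or_eq_top inferInstance).resolve_left
      ((Subgroup.nontrivial_iff_ne_bot _).1 inferInstance)
    letI : CommGroup ((P : Subgroup G) ⧸ A) := { (inferInstance : Group ((P : Subgroup G) ⧸ A)) with
      mul_comm := fun a b => mem_center_iff.1 (hcen ▸ mem_top b) a }
    have hpr : (Nat.card ((P : Subgroup G) ⧸ A)).Prime := IsSimpleGroup.prime_card
    obtain ⟨k, hk⟩ := IsPGroup.iff_card.1 hq
    rw [index_eq_card, hk]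
    rw [hk] at hpr
    have hk0 : k ≠ 0 := by rintro rfl; rw [pow_zero] at hpr; exact Nat.not_prime_one hpr
    exact ((Nat.prime_dvd_prime_iff_eq hp hpr).1 (dvd_pow_self p hk0)).symm
  obtain ⟨A, hxA, hAn, hAi, hAc⟩ := hmaxsub x
  obtain ⟨B, hyB, hBn, hBi, hBc⟩ := hmaxsub y
  have hinf : ∀ u, u ∈ A → u ∈ B → u ∈ center (P : Subgroup G) := by
    intro u hu hu'
    refine mem_center_iff.2 fun v => ?_
    have hv : v ∈ closure ({x, y} : Set (P : Subgroup G)) := hgen ▸ mem_top v
    induction hv using closure_induction with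
    | mem v hv =>
      rcases hv with hv | hv
      · rw [hv]; exact congrArg Subtype.val (hAc.is_comm.comm (⟨x, hxA⟩ : A) ⟨u, hu⟩)
      · rw [Set.mem_singleton_iff.1 hv]; exact congrArg Subtype.val (hBc.is_comm.comm (⟨y, hyB⟩ : B) ⟨u, hu'⟩)
    | one => simp
    | mul a b _ _ ha hb => exact ((Commute.symm ha).mul_right (Commute.symm hb)).symm.eq
    | inv a _ ha => exact ((Commute.symm ha).inv_right).symm.eq
  set c := y * x * y⁻¹ * x⁻¹ with hc
  have hcA : c ∈ A := mul_mem (hAn.conj_mem x hxA y) (inv_mem hxA)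
  have hcB : c ∈ B := by
    rw [hc, mul_assoc, mul_assoc, ← mul_assoc x]
    exact mul_mem hyB (hBn.conj_mem _ (inv_mem hyB) x)
  have hcZ := hinf c hcA hcB
  have hypZ : y ^ p ∈ center (P : Subgroup G) := hinf _ (by have := A.pow_index_mem y; rwa [hAi] at this) (pow_mem hyB p)
  have hyi : ∀ i : ℕ, y ^ i * x = c ^ i * x * y ^ i := by
    intro i
    induction i with
    | zero => simp
    | succ i ih =>
      calc y ^ (i + 1) * x = y * (y ^ i * x) := by rw [pow_succ', mul_assoc]
        _ = (y * c ^ i) * x * y ^ i := by rw [ih]; group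
        _ = (c ^ i * y) * x * y ^ i := by rw [(mem_center_iff.1 (pow_mem hcZ i) y)]
        _ = c ^ i * (c * x * y) * y ^ i := by rw [hc]; group
        _ = _ := by rw [pow_succ, pow_succ']; group
  have hcp : c ^ p = 1 := by
    have h1 := hyi p
    rw [← mem_center_iff.1 hypZ x, mul_assoc] at h1
    exact mul_right_cancel (b := x * y ^ p) (by rw [one_mul]; exact h1.symm)
  haveI : (zpowers c).Normal := ⟨fun a ha g => by
    have : a ∈ center (P : Subgroup G) := zpowers_le.2 hcZ ha
    rwa [mem_center_iff.1 this g, mul_inv_cancel_right]⟩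
  have hP' : _root_.commutator (P : Subgroup G) ≤ zpowers c := by
    have hcm : ∀ a b : (P : Subgroup G) ⧸ zpowers c, a * b = b * a := by
      set f := QuotientGroup.mk' (zpowers c)
      have hgen' : closure ({f x, f y} : Set ((P : Subgroup G) ⧸ zpowers c)) = ⊤ := by
        rw [← map_top_of_surjective f (QuotientGroup.mk'_surjective _), ← hgen, MonoidHom.map_closure, Set.image_pair]
      have hxy' : f y * f x = f x * f y := by
        have h1 : f (y * x * y⁻¹ * x⁻¹) = 1 := (QuotientGroup.eq_one_iff _).2 (mem_zpowers c)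
        rw [map_mul, map_mul, map_mul, map_inv, map_inv, mul_inv_eq_one, mul_inv_eq_iff_eq_mul] at h1
        exact h1
      have hcom := Subgroup.isMulCommutative_closure (k := ({f x, f y} : Set ((P : Subgroup G) ⧸ zpowers c))) (by
        rintro _ (rfl | rfl) _ (rfl | rfl)
        · rfl
        · exact hxy'.symm
        · exact hxy'
        · rfl)
      intro a b
      exact congrArg Subtype.val (hcom.is_comm.comm (⟨a, hgen' ▸ mem_top a⟩ : closure ({f x, f y} : Set ((P : Subgroup G) ⧸ zpowers c))) ⟨b, hgen' ▸ mem_top b⟩)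
    rw [_root_.commutator_def, Subgroup.commutator_le]
    intro a _ b _
    rw [← QuotientGroup.eq_one_iff]
    show (QuotientGroup.mk' (zpowers c)) (a * b * a⁻¹ * b⁻¹) = 1
    rw [map_mul, map_mul, map_mul, map_inv, map_inv, hcm ((QuotientGroup.mk' (zpowers c)) a)]
    group
  -- so `R` is the derived group of `P` and the image of `P` is abelian
  obtain ⟨r, hr, hr1⟩ := (bot_or_exists_ne_one R).resolve_left hRb
  obtain ⟨cr, hcr, hcr'⟩ := htr p P r hr (hRP hr)
  have hcrc : c ∈ zpowers cr := by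
    have hord : Nat.card (zpowers c) = p := by
      rw [Nat.card_zpowers]
      exact orderOf_eq_prime hcp (fun h => hxy (mul_inv_eq_iff_eq_mul.1 (mul_inv_eq_one.1 h)))
    have hne : (⟨cr, hP' hcr⟩ : zpowers c) ≠ 1 := fun h => hr1 (by rw [← hcr', show cr = 1 from congrArg Subtype.val h]; rfl)
    obtain ⟨i, hi⟩ := mem_zpowers_of_prime_card (g' := (⟨c, mem_zpowers c⟩ : zpowers c)) hord hne
    exact ⟨i, congrArg Subtype.val hi⟩
  have hPR : ∀ v ∈ _root_.commutator (P : Subgroup G), (v : G) ∈ R := by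
    intro v hv
    obtain ⟨i, rfl⟩ := (zpowers_le.2 hcrc) (hP' hv)
    show ((cr ^ i : (P : Subgroup G)) : G) ∈ R
    rw [SubgroupClass.coe_zpow, hcr']
    exact zpow_mem hr i
  refine no_self_norm hQna (P.mapSurjective hπ) ?_ ?_ ?_
  · intro h
    refine hPna ⟨⟨fun a b => Subtype.ext ?_⟩⟩
    have e : ((P : Subgroup G).map π) = ⊥ := h
    have ha : (a : G) ∈ R := (QuotientGroup.eq_one_iff _).1 (mem_bot.1 (e ▸ mem_map_of_mem π a.2))
    exact (hRZ _ ha b).symm
  · rintro _ ⟨a, ha, rfl⟩ _ ⟨b, hb, rfl⟩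
    have := hPR _ (Subgroup.commutator_mem_commutator (mem_top (⟨a, ha⟩ : (P : Subgroup G))) (mem_top (⟨b, hb⟩ : (P : Subgroup G))))
    have h1 : π (a * b * a⁻¹ * b⁻¹) = 1 := (QuotientGroup.eq_one_iff _).2 this
    rwa [map_mul, map_mul, map_mul, map_inv, map_inv, mul_inv_eq_one, mul_inv_eq_iff_eq_mul] at h1
  · intro y hy
    obtain ⟨u, rfl⟩ := hπ y
    refine ⟨u, ?_, rfl⟩
    show u ∈ (P : Subgroup G)
    rw [← hPN]
    have hcm : ((P : Subgroup G).map π).comap π = (P : Subgroup G) :=
      comap_map_eq_self (by rw [QuotientGroup.ker_mk']; exact hRP)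
    refine mem_normalizer_iff.2 fun v => ?_
    rw [← hcm, mem_comap, mem_comap, map_mul, map_mul, map_inv]
    exact mem_normalizer_iff.1 hy (π v)


end Cfsg.Agent.S4072
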