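import Cfsg.Statements.S4074


set_option autoImplicit false
open Cfsg

namespace Cfsg.Agent.S4074

theorem r_pow' {n : ℕ} (a : ZMod n) (k : ℕ) :
    (DihedralGroup.r a) ^ k = DihedralGroup.r ((k : ZMod n) * a) := by
  induction k with
  | zero => rw [pow_zero, Nat.cast_zero, zero_mul]; rfl
  | succ k ih => rw [pow_succ, ih, DihedralGroup.r_mul_r, Nat.cast_succ, add_mul, one_mul]

/-- For n > 2, every non-abelian subgroup of the dihedral group of order 2n is self-normalizing if and only if n = 4 or n is odd. -/
theorem result (n : ℕ) (hn : 2 < n) :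
    (∀ H : Subgroup (DihedralGroup n), ¬ IsMulCommutative H → Subgroup.normalizer (H : Set (DihedralGroup n)) = H) ↔
    (n = 4 ∨ Odd n) := by
  classical
  constructor
  · intro h
    by_contra hc
    push Not at hc
    obtain ⟨h4, hodd⟩ := hc
    obtain ⟨m, hm⟩ := Nat.not_odd_iff_even.mp hodd
    have hd : 2 ∣ n := ⟨m, by omega⟩
    let c := ZMod.castHom hd (ZMod 2)
    let F : DihedralGroup n → Multiplicative (ZMod 2) := fun g =>
      match g with
      | .r i => Multiplicative.ofAdd (c i)
      | .sr i => Multiplicative.ofAdd (c i)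
    let f : DihedralGroup n →* Multiplicative (ZMod 2) :=
      { toFun := F
        map_one' := by show Multiplicative.ofAdd (c 0) = 1; rw [map_zero]; rfl
        map_mul' := fun x y => by
          rcases x with i | i <;> rcases y with j | j <;>
            simp [F, ← ofAdd_add, map_add, map_sub, CharTwo.sub_eq_add, add_comm] }
    have h2 : c 2 = 0 := by
      rw [map_ofNat]; decide
    have hr : DihedralGroup.r (2 : ZMod n) ∈ f.ker := by
      show F (DihedralGroup.r 2) = 1
      simp [F, h2]
    have hs : DihedralGroup.sr (0 : ZMod n) ∈ f.ker := by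
      show F (DihedralGroup.sr 0) = 1
      simp [F]
    have hna : ¬ IsMulCommutative f.ker := by
      intro hc'
      have h5 := congrArg Subtype.val
        (hc'.is_comm.comm (⟨_, hr⟩ : f.ker) (⟨_, hs⟩ : f.ker))
      simp only [Subgroup.coe_mul, DihedralGroup.r_mul_sr, DihedralGroup.sr_mul_r,
        DihedralGroup.sr.injEq, zero_sub, zero_add] at h5
      have h6 : ((4 : ℕ) : ZMod n) = 0 := by
        push_cast
        linear_combination -h5
      have h7 := Nat.le_of_dvd (by norm_num) ((ZMod.natCast_eq_zero_iff _ _).mp h6)
      omega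
    have h5 := h f.ker hna
    rw [Subgroup.normalizer_eq_top_iff.mpr (MonoidHom.normal_ker f)] at h5
    have h6 : DihedralGroup.r (1 : ZMod n) ∈ f.ker := h5 ▸ Subgroup.mem_top _
    have h7 : F (DihedralGroup.r 1) = 1 := h6
    simp [F] at h7
  · intro hn' H hH
    refine le_antisymm ?_ Subgroup.le_normalizer
    obtain ⟨i, hi⟩ : ∃ i, DihedralGroup.sr i ∈ H := by
      by_contra! hno
      refine hH ⟨⟨fun a b => ?_⟩⟩
      obtain ⟨a, ha⟩ := a
      obtain ⟨b, hb⟩ := b
      rcases a with x | x
      · rcases b with y | y
        · exact Subtype.ext (by simp [add_comm])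
        · exact absurd hb (hno y)
      · exact absurd ha (hno x)
    rcases hn' with rfl | hodd
    · have hd : Nat.card H ∣ 2 ^ 3 := by
        have h8 := Subgroup.card_subgroup_dvd_card H
        rwa [DihedralGroup.nat_card] at h8
      obtain ⟨k, hk, he⟩ := (Nat.dvd_prime_pow Nat.prime_two).mp hd
      have htop : H = ⊤ := by
        have : Fact (Nat.Prime 2) := ⟨Nat.prime_two⟩
        interval_cases k
        · exact absurd ⟨⟨fun a b => (Nat.card_eq_one_iff_unique.mp he).1.elim _ _⟩⟩ hH
        · have : IsCyclic H := isCyclic_of_prime_card (p := 2) (by simpa using he)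
          exact absurd (IsCyclic.commutative (α := H)) hH
        · exact absurd (IsPGroup.isMulCommutative_of_card_eq_prime_sq he) hH
        · exact Subgroup.eq_top_of_card_eq H (by rw [he, DihedralGroup.nat_card]; norm_num)
      rw [htop]
      exact le_top
    · have hrot : ∀ j, DihedralGroup.r j ∈ Subgroup.normalizer (H : Set (DihedralGroup n)) →
          DihedralGroup.r j ∈ H := by
        intro j hj
        have h1 := H.mul_mem ((Subgroup.mem_normalizer_iff.mp hj _).mp hi) hi
        simp only [DihedralGroup.r_mul_sr, DihedralGroup.inv_r, DihedralGroup.sr_mul_r,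
          DihedralGroup.sr_mul_sr] at h1
        have h2 : DihedralGroup.r (2 * j) ∈ H := by
          rwa [show i - (i - j + -j) = 2 * j by ring] at h1
        obtain ⟨m, hm⟩ := hodd
        have h3 := H.pow_mem h2 (m + 1)
        rw [r_pow'] at h3
        have h4 : ((2 * m + 1 : ℕ) : ZMod n) = 0 := by rw [← hm, ZMod.natCast_self]
        push_cast at h4 h3
        rwa [show ((m : ZMod n) + 1) * (2 * j) = j by linear_combination j * h4] at h3
      intro g hg
      rcases g with j | k
      · exact hrot j hg
      · have h1 := mul_mem hg (Subgroup.le_normalizer hi)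
        rw [DihedralGroup.sr_mul_sr] at h1
        have h2 := H.mul_mem (hrot _ h1) hi
        rwa [DihedralGroup.r_mul_sr, show i - (i - k) = k by ring] at h2

end Cfsg.Agent.S4074
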