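import Cfsg.Statements.S4075
import Mathlib

set_option autoImplicit false
open Cfsg
open Subgroup

namespace Cfsg.Agent.S4075

/-- Let G be a finite nilpotent group. Every non-abelian subgroup of G is self-normalizing if and only if G is abelian or G is a minimal non-abelian p-group for some prime p (non-abelian of prime-power order with every proper subgroup abelian). -/
theorem result {G : Type*} [Group G] [Finite G]
    [Group.IsNilpotent G] :
    (∀ H : Subgroup G, ¬ IsMulCommutative H → Subgroup.normalizer (H : Set G) = H) ↔
    (IsMulCommutative G ∨ (IsPrimePow (Nat.card G) ∧ ¬ IsMulCommutative G ∧ ∀ H : Subgroup G, H ≠ ⊤ → IsMulCommutative H)) := by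
  constructor
  · intro h
    by_cases hG : IsMulCommutative G
    · exact Or.inl hG
    have hall : ∀ H : Subgroup G, H ≠ ⊤ → IsMulCommutative H := fun H hH => by
      by_contra hH'
      exact (Group.normalizerCondition_of_isNilpotent (G := G) H (lt_top_iff_ne_top.2 hH)).ne (h H hH').symm
    refine Or.inr ⟨?_, hG, hall⟩
    by_contra hnp
    apply hG
    obtain ⟨e⟩ := ((Group.isNilpotent_of_finite_tfae (G := G)).out 0 4).1 (inferInstance : Group.IsNilpotent G)
    have hcomm : ∀ (q : (Nat.card G).primeFactors) (P : Sylow q G), ∀ a b : ↥(P : Subgroup G), a * b = b * a := by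
      intro q P a b
      haveI := Fact.mk (Nat.prime_of_mem_primeFactors q.2)
      refine (hall P fun e => hnp ?_).is_comm.comm a b
      obtain ⟨k, hk⟩ := IsPGroup.iff_card.mp P.isPGroup'
      rw [e, card_top] at hk
      have hk0 : k ≠ 0 := fun h0 => by
        have hd := Nat.dvd_of_mem_primeFactors q.2
        simp only [hk, h0, pow_zero, Nat.dvd_one] at hd
        exact (Nat.prime_of_mem_primeFactors q.2).ne_one hd
      exact ⟨q, k, (Nat.prime_of_mem_primeFactors q.2).prime, Nat.pos_of_ne_zero hk0, hk.symm⟩
    exact ⟨⟨fun a b => e.symm.injective (by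
      rw [map_mul, map_mul]
      funext q P
      exact hcomm q P _ _)⟩⟩
  · rintro (hG | ⟨-, -, hall⟩) H hH
    · exact absurd ⟨⟨fun a b => Subtype.ext (hG.is_comm.comm (a : G) b)⟩⟩ hH
    · have : H = ⊤ := by_contra fun h => hH (hall H h)
      subst this
      rw [normalizer_eq_top_iff.2 inferInstance]

end Cfsg.Agent.S4075
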