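import Cfsg.Statements.S4080

set_option autoImplicit false
open Cfsg

namespace Cfsg.Agent.S4080

/-- Let p > 3 be a prime and L the direct product of two cyclic groups of order p². Every automorphism of L of order p fixes every element of order p of L. -/
theorem result {p : ℕ} [Fact p.Prime] (hp : 3 < p)
    (a : MulAut (Multiplicative (ZMod (p ^ 2) × ZMod (p ^ 2)))) (ha : orderOf a = p)
    (x : Multiplicative (ZMod (p ^ 2) × ZMod (p ^ 2))) (hx : orderOf x = p) : a x = x := by
  classical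
  let f : AddMonoid.End (ZMod (p ^ 2) × ZMod (p ^ 2)) :=
    { toFun := fun v => Multiplicative.toAdd (a (Multiplicative.ofAdd v))
      map_zero' := by simp
      map_add' := fun v w => by simp }
  have hf : ∀ v, f v = Multiplicative.toAdd (a (Multiplicative.ofAdd v)) := fun v => rfl
  have hfpow : ∀ (n : ℕ) (v : (ZMod (p ^ 2) × ZMod (p ^ 2))), (f ^ n) v = Multiplicative.toAdd ((a ^ n) (Multiplicative.ofAdd v)) := by
    intro n
    induction n with
    | zero => intro v; rfl
    | succ n ih =>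
      intro v
      rw [pow_succ' f n, pow_succ' a n]
      show f ((f ^ n) v) = _
      rw [ih, hf]; rfl
  have hfp : f ^ p = 1 := by
    refine DFunLike.ext _ _ fun v => ?_
    have h := hfpow p v
    have hap : a ^ p = 1 := orderOf_dvd_iff_pow_eq_one.1 (dvd_of_eq ha)
    rw [hap] at h
    exact h
  set M : AddMonoid.End (ZMod (p ^ 2) × ZMod (p ^ 2)) := f - 1 with hMdef
  have hp := (Fact.out : p.Prime)
  -- the socle `Ω₁ = pA`
  have hz : ∀ w : ZMod (p ^ 2), p • w = 0 → ∃ u, p • u = w := by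
    intro w hw
    rw [← ZMod.natCast_zmod_val w, nsmul_eq_mul, ← Nat.cast_mul, ZMod.natCast_eq_zero_iff] at hw
    obtain ⟨c, hc⟩ : p ∣ w.val := Nat.dvd_of_mul_dvd_mul_left hp.pos (by rw [← pow_two]; exact hw)
    exact ⟨(c : ZMod (p ^ 2)), by rw [nsmul_eq_mul, ← Nat.cast_mul, ← hc, ZMod.natCast_zmod_val]⟩
  have hz2 : ∀ w : ZMod (p ^ 2), p • (p • w) = 0 := by
    intro w; rw [← mul_smul, ← pow_two, nsmul_eq_mul, ZMod.natCast_self, zero_mul]
  set W : AddSubgroup (ZMod (p ^ 2) × ZMod (p ^ 2)) := (DistribSMul.toAddMonoidHom (ZMod (p ^ 2) × ZMod (p ^ 2)) p).range with hW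
  have hWker : W = (DistribSMul.toAddMonoidHom (ZMod (p ^ 2) × ZMod (p ^ 2)) p).ker := by
    ext w
    simp only [hW, AddMonoidHom.mem_range, AddMonoidHom.mem_ker, DistribSMul.toAddMonoidHom_apply]
    constructor
    · rintro ⟨u, rfl⟩
      exact Prod.ext (hz2 u.1) (hz2 u.2)
    · intro h
      obtain ⟨u1, h1⟩ := hz w.1 (congrArg Prod.fst h)
      obtain ⟨u2, h2⟩ := hz w.2 (congrArg Prod.snd h)
      exact ⟨(u1, u2), Prod.ext h1 h2⟩
  have hcardW : Nat.card W = p ^ 2 := by
    have h1 := AddSubgroup.card_mul_index (DistribSMul.toAddMonoidHom (ZMod (p ^ 2) × ZMod (p ^ 2)) p).ker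
    rw [AddSubgroup.index_ker, ← hW, ← hWker, Nat.card_prod, Nat.card_zmod] at h1
    exact Nat.pow_left_injective two_ne_zero (by simpa [pow_two] using h1)
  -- `M ^ p` is divisible by `p`
  obtain ⟨r, hr⟩ : ∃ r : AddMonoid.End (ZMod (p ^ 2) × ZMod (p ^ 2)), ∀ v, (M ^ p) v = p • r v := by
    obtain ⟨r, hr⟩ := (Commute.one_right M).exists_add_pow_prime_eq hp
    rw [hMdef, sub_add_cancel, hfp, one_pow, ← hMdef] at hr
    refine ⟨-(M * r), fun v => ?_⟩
    have h2 : M ^ p = -((p : AddMonoid.End (ZMod (p ^ 2) × ZMod (p ^ 2))) * M * 1 * r) := by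
      apply eq_neg_of_add_eq_zero_left
      have := congrArg (fun z => z - 1) hr
      simp only [sub_self] at this
      rw [this]; abel
    rw [h2, mul_one, mul_assoc, ← mul_neg (p : AddMonoid.End (ZMod (p ^ 2) × ZMod (p ^ 2)))]
    exact AddMonoid.End.natCast_apply _ _
  have hMW : ∀ w ∈ W, M w ∈ W := by
    rintro _ ⟨u, rfl⟩; exact ⟨M u, (map_nsmul M p u).symm⟩
  have hMpW : ∀ w ∈ W, (M ^ p) w = 0 := by
    rintro _ ⟨u, rfl⟩
    rw [hr, DistribSMul.toAddMonoidHom_apply, map_nsmul]
    exact Prod.ext (hz2 _) (hz2 _)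
  -- `M ^ 2` kills `W`
  have hM2W : ∀ w ∈ W, (M ^ 2) w = 0 := by
    have : Finite (ZMod (p ^ 2) × ZMod (p ^ 2)) := inferInstance
    set K1 := W ⊓ AddMonoidHom.ker M with hK1
    set K2 := W ⊓ AddMonoidHom.ker (M ^ 2) with hK2
    have h12 : K1 ≤ K2 := fun w hw => ⟨hw.1, by
      show (M ^ 2) w = 0
      rw [pow_two M]; show M (M w) = 0
      rw [show M w = 0 from hw.2, map_zero]⟩
    have hne : K1 ≠ ⊥ := by
      intro h
      have hinj : ∀ w ∈ W, M w = 0 → w = 0 := fun w hw hMw => by
        have : w ∈ K1 := ⟨hw, hMw⟩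
        rwa [h, AddSubgroup.mem_bot] at this
      have hall : ∀ n : ℕ, ∀ w ∈ W, (M ^ n) w = 0 → w = 0 := by
        intro n
        induction n with
        | zero => intro w _ h; exact h
        | succ n ih =>
          intro w hw h
          rw [pow_succ M] at h
          exact hinj w hw (ih (M w) (hMW w hw) h)
      have : W = ⊥ := (AddSubgroup.eq_bot_iff_forall W).2 fun w hw => hall p w hw (hMpW w hw)
      rw [this, AddSubgroup.card_bot] at hcardW
      exact (Nat.one_lt_pow two_ne_zero hp.one_lt).ne hcardW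
    intro w hw
    by_cases heq : K2 ≤ K1
    · have hall : ∀ n : ℕ, ∀ w ∈ W, (M ^ (n + 1)) w = 0 → M w = 0 := by
        intro n
        induction n with
        | zero => intro w _ h; simpa using h
        | succ n ih =>
          intro w hw h
          rw [pow_succ M] at h
          have h2 := ih (M w) (hMW w hw) h
          exact (heq ⟨hw, by show (M ^ 2) w = 0; rw [pow_two M]; exact h2⟩).2
      have : M w = 0 := hall (p - 1) w hw (by rw [Nat.sub_add_cancel hp.pos]; exact hMpW w hw)
      rw [pow_two M]; show M (M w) = 0; rw [this, map_zero]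
    · have hlt : K1 < K2 := lt_of_le_of_ne h12 (fun e => heq e.ge)
      have hK2W : K2 = W := by
        obtain ⟨i, hi, hci⟩ := (Nat.dvd_prime_pow hp).1 (hcardW ▸ AddSubgroup.card_dvd_of_le (inf_le_left : K1 ≤ W))
        obtain ⟨j, hj, hcj⟩ := (Nat.dvd_prime_pow hp).1 (hcardW ▸ AddSubgroup.card_dvd_of_le (inf_le_left : K2 ≤ W))
        have hi0 : i ≠ 0 := by
          rintro rfl
          exact hne (AddSubgroup.card_eq_one.1 (hci.trans (pow_zero p)))
        have hij : p ^ i < p ^ j := by
          rw [← hci, ← hcj]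
          by_contra hle
          exact hlt.ne (AddSubgroup.eq_of_le_of_card_ge h12 (not_lt.1 hle))
        rw [Nat.pow_lt_pow_iff_right hp.one_lt] at hij
        refine AddSubgroup.eq_of_le_of_card_ge inf_le_left ?_
        rw [hcardW, show Nat.card K2 = p ^ j from hcj]
        exact Nat.pow_le_pow_right hp.pos (by omega)
      have : w ∈ K2 := hK2W ▸ hw
      exact this.2
  have hM2 : ∀ v, (M ^ 2) v ∈ W := by
    intro v
    rw [hWker]
    show p • (M ^ 2) v = 0
    rw [← map_nsmul]
    exact hM2W _ ⟨v, rfl⟩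
  -- `p M = 0`
  have hpM : ∀ v, p • M v = 0 := by
    intro v
    have h1 : (M + 1) ^ p = 1 := by rw [hMdef, sub_add_cancel, hfp]
    rw [(Commute.one_right M).add_pow] at h1
    obtain ⟨q, hq⟩ : ∃ q, p = q + 2 := ⟨p - 2, by omega⟩
    have h2 := congrArg (fun z : AddMonoid.End (ZMod (p ^ 2) × ZMod (p ^ 2)) => z v) h1
    rw [show Finset.range (p + 1) = Finset.range (q + 1 + 1 + 1) by rw [hq],
      Finset.sum_range_succ', Finset.sum_range_succ'] at h2
    simp only [one_pow, mul_one, pow_zero, zero_add, pow_one, Nat.choose_zero_right, Nat.choose_one_right,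
      Nat.cast_one] at h2
    have hkill : ∀ (j c : ℕ), (p ∣ c ∨ 2 ≤ j) → (M ^ (j + 2) * (c : AddMonoid.End (ZMod (p ^ 2) × ZMod (p ^ 2)))) v = 0 := by
      intro j c h
      rw [← (Nat.cast_commute c (M ^ (j + 2))).eq]
      show (c : AddMonoid.End (ZMod (p ^ 2) × ZMod (p ^ 2))) ((M ^ (j + 2)) v) = 0
      rw [AddMonoid.End.natCast_apply]
      rcases h with ⟨c', rfl⟩ | hj
      · rw [mul_comm, mul_smul]
        have h3 : p • (M ^ (j + 2)) v = 0 := by
          rw [pow_add M]
          show p • (M ^ j) ((M ^ 2) v) = 0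
          rw [← map_nsmul]
          have h4 := hM2 v
          rw [hWker] at h4
          rw [show p • (M ^ 2) v = 0 from h4, map_zero]
        rw [h3, smul_zero]
      · obtain ⟨i, rfl⟩ : ∃ i, j = i + 2 := ⟨j - 2, by omega⟩
        rw [pow_add M, pow_add M, mul_assoc]
        show c • (M ^ i) ((M ^ 2) ((M ^ 2) v)) = 0
        rw [hM2W _ (hM2 v), map_zero, smul_zero]
    let ev : AddMonoid.End (ZMod (p ^ 2) × ZMod (p ^ 2)) →+ ZMod (p ^ 2) × ZMod (p ^ 2) :=
      { toFun := fun z => z v, map_zero' := rfl, map_add' := fun _ _ => rfl }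
    have hev : ∀ z, z v = ev z := fun _ => rfl
    rw [hev, hev 1] at h2
    rw [map_add, map_add, map_sum, Finset.sum_eq_zero, zero_add, add_eq_right] at h2
    · have h3 : (M * (p : AddMonoid.End (ZMod (p ^ 2) × ZMod (p ^ 2)))) v = 0 := h2
      rw [← map_nsmul]
      rw [← AddMonoid.End.natCast_apply p v]
      exact h3
    · intro k hk
      refine hkill k _ ?_
      rw [Finset.mem_range] at hk
      by_cases hkp : k + 2 = p
      · exact Or.inr (by omega)
      · exact Or.inl (hp.dvd_choose_self (by omega) (by omega))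
  -- conclude
  have hxW : Multiplicative.toAdd x ∈ W := by
    rw [hWker]
    show p • Multiplicative.toAdd x = 0
    rw [← toAdd_pow, orderOf_dvd_iff_pow_eq_one.1 (dvd_of_eq hx), toAdd_one]
  obtain ⟨u, hu⟩ := hxW
  have hMx : M (Multiplicative.toAdd x) = 0 := by
    rw [← hu, DistribSMul.toAddMonoidHom_apply, map_nsmul, hpM]
  have : f (Multiplicative.toAdd x) - Multiplicative.toAdd x = 0 := hMx
  rw [sub_eq_zero, hf] at this
  exact Multiplicative.toAdd.injective (by simpa using this)

end Cfsg.Agent.S4080
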