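import Cfsg.Statements.S4081
import Mathlib
import Cfsg.Agent.Lib.Perm.CyclotomicAction
import Cfsg.Agent.Lib.Solv.Basic
import Cfsg.Agent.Lib.Char.Burnside

set_option autoImplicit false
open Cfsg

namespace Cfsg.Agent.S4081

---pre
open Subgroup

universe u

variable {G : Type u} [Group G] [Finite G] {p q : ℕ} [Fact p.Prime] [Fact q.Prime]

theorem no_commuting_pair (hpq : p ≠ q) (P : Subgroup G) [P.Normal] (hP : IsMulCommutative P)
    (hexp : ∀ a ∈ P, a ^ p = 1) (hP1 : P ≠ ⊥)
    (hfpf : ∀ x y : G, orderOf x = q → y ∈ P → y ≠ 1 → x * y * x⁻¹ ≠ y)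
    {z a : G} (hc : Commute z a) (hz : orderOf z = q) (ha : a ∉ zpowers z) (haq : a ^ q = 1) : False := by
  have hq := (Fact.out : q.Prime)
  let Z := fun (g : G) (v : P) => MulAut.conjNormal (H := P) g v
  have hcm : ∀ u v : P, u * v = v * u := hP.is_comm.comm
  let _ : CommGroup P := { (inferInstance : Group P) with mul_comm := hcm }
  obtain ⟨x, hxP, hx1⟩ := (Subgroup.bot_or_exists_ne_one P).resolve_left hP1
  let v : P := ⟨x, hxP⟩
  have hnorm : ∀ g : G, orderOf g = q → ∀ w : P, ∏ j ∈ Finset.range q, MulAut.conjNormal (g ^ j) w = 1 := by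
    intro g hg w
    set W := ∏ j ∈ Finset.range q, MulAut.conjNormal (g ^ j) w with hW
    have hfix : MulAut.conjNormal g W = W := by
      rw [hW, map_prod]
      have e : ∀ j, MulAut.conjNormal g (MulAut.conjNormal (g ^ j) w) = MulAut.conjNormal (g ^ (j + 1)) w := by
        intro j; rw [pow_succ', map_mul, MulAut.mul_apply]
      simp only [e]
      have h1 := Finset.prod_range_succ' (fun j => MulAut.conjNormal (g ^ j) w) q
      have h2 := Finset.prod_range_succ (fun j => MulAut.conjNormal (g ^ j) w) q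
      rw [h1] at h2
      simp only [← hg, pow_zero, pow_orderOf_eq_one] at h2
      rw [← hg]
      exact mul_right_cancel h2
    by_contra hW1
    refine hfpf g W hg W.2 (fun e => hW1 (Subtype.ext e)) ?_
    have := congrArg Subtype.val hfix
    rwa [MulAut.conjNormal_apply] at this
  have hord : ∀ i : ℕ, orderOf (z * a ^ i) = q := by
    intro i
    refine orderOf_eq_prime ?_ fun e => ?_
    · rw [(hc.pow_right i).mul_pow, ← hz, pow_orderOf_eq_one, hz, ← pow_mul, mul_comm, pow_mul, haq, one_pow, one_mul]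
    · by_cases hi : q ∣ i
      · obtain ⟨k, rfl⟩ := hi
        rw [pow_mul, haq, one_pow, mul_one] at e
        rw [e, orderOf_one] at hz
        exact hq.one_lt.ne hz
      · apply ha
        have h1 : a ^ i ∈ zpowers z := by
          rw [eq_inv_of_mul_eq_one_right e]; exact inv_mem (mem_zpowers z)
        have hcop : i.Coprime (orderOf a) :=
          ((hq.coprime_iff_not_dvd.2 hi).symm).coprime_dvd_right (orderOf_dvd_of_pow_eq_one haq)
        obtain ⟨m, hm⟩ := exists_pow_eq_self_of_coprime hcop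
        rw [← hm]; exact pow_mem h1 m
  have haord : orderOf a = q := orderOf_eq_prime haq fun e => ha (by rw [e]; exact one_mem _)
  have hsum : ∏ i ∈ Finset.range q, ∏ j ∈ Finset.range q, MulAut.conjNormal ((z * a ^ i) ^ j) v = 1 :=
    Finset.prod_eq_one fun i _ => hnorm _ (hord i) v
  rw [Finset.prod_comm] at hsum
  rw [Finset.prod_eq_single 0] at hsum
  · simp only [pow_zero, map_one, MulAut.one_apply, Finset.prod_const, Finset.card_range] at hsum
    have h1 : x ^ q = 1 := by simpa [v] using congrArg Subtype.val hsum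
    have h2 : orderOf x = p := orderOf_eq_prime (hexp x hxP) hx1
    have h3 := orderOf_dvd_of_pow_eq_one h1
    rw [h2] at h3
    exact hpq ((Nat.prime_dvd_prime_iff_eq Fact.out hq).1 h3)
  · intro j hj hj0
    rw [Finset.mem_range] at hj
    have hord2 : orderOf (a ^ j) = q := by
      refine orderOf_eq_prime (by rw [← pow_mul, mul_comm, pow_mul, haq, one_pow]) fun e => ?_
      have := orderOf_dvd_of_pow_eq_one e
      rw [haord] at this
      have := Nat.le_of_dvd (by omega) this
      omega
    have : ∀ i, MulAut.conjNormal ((z * a ^ i) ^ j) v =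
        MulAut.conjNormal (z ^ j) (MulAut.conjNormal ((a ^ j) ^ i) v) := by
      intro i
      rw [(hc.pow_right i).mul_pow, ← pow_mul, ← pow_mul, mul_comm j i, map_mul, MulAut.mul_apply]
    simp only [this]
    rw [← map_prod, hnorm _ hord2 v, map_one]
  · intro h0
    exact absurd (Finset.mem_range.2 hq.pos) h0

variable (P : Subgroup G) [hPn : P.Normal]

open Additive in
theorem forward_linear (hpq : p ≠ q) (hP : IsMulCommutative P) (hexp : ∀ a ∈ P, a ^ p = 1) (hP1 : P ≠ ⊥)
    (x : G) (hx : orderOf x = q) (hsplit : ∀ g : G, ∃ a ∈ P, ∃ k : ℕ, g = a * x ^ k)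
    (hfpf : ∀ x y : G, orderOf x = q → y ∈ P → y ≠ 1 → x * y * x⁻¹ ≠ y)
    (hchar : ∀ (φ : MulAut G), ∀ a ∈ P, φ a ∈ P)
    (htr : ∀ a b : G, a ∈ P → b ∈ P → a ≠ 1 → b ≠ 1 → ∃ φ : MulAut G, φ a = b)
    (htrq : ∀ a b : G, orderOf a = q → orderOf b = q → ∃ φ : MulAut G, φ a = b) :
    orderOf (p : ZMod q) = q - 1 := by
  have hq := (Fact.out : q.Prime)
  let _ : CommGroup P := { (inferInstance : Group P) with mul_comm := hP.is_comm.comm }
  have hpsmul : ∀ a : Additive P, p • a = 0 := fun a => by
    apply Additive.toMul.injective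
    rw [toMul_nsmul, toMul_zero]
    exact Subtype.ext (hexp _ (Additive.toMul a).2)
  have : Module (ZMod p) (Additive P) := AddCommGroup.zmodModule hpsmul
  have : Nontrivial (Additive P) := (Subgroup.nontrivial_iff_ne_bot P).2 hP1
  let T : (Additive P) →ₗ[ZMod p] (Additive P) :=
    (MonoidHom.toAdditive (MulAut.conjNormal (H := P) x).toMonoidHom).toZModLinearMap p
  have hTval : ∀ v : (Additive P), ((Additive.toMul (T v) : P) : G) = x * ((Additive.toMul v : P) : G) * x⁻¹ :=
    fun v => MulAut.conjNormal_apply _ _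
  have hTpow : ∀ (k : ℕ) (v : (Additive P)), ((Additive.toMul ((T ^ k) v) : P) : G) = x ^ k * ((Additive.toMul v : P) : G) * (x ^ k)⁻¹ := by
    intro k
    induction k with
    | zero => intro v; simp
    | succ k ih =>
      intro v
      rw [pow_succ', Module.End.mul_apply, hTval, ih, pow_succ']
      group
  have hT : T ^ q = 1 := by
    refine LinearMap.ext fun v => Additive.toMul.injective (Subtype.ext ?_)
    rw [hTpow, ← hx, pow_orderOf_eq_one]
    simp
  have hfix : ∀ v : (Additive P), T v = v → v = 0 := by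
    intro v hv
    by_contra hne
    refine hfpf x _ hx (Additive.toMul v).2 (fun e => hne ?_) ?_
    · exact Additive.toMul.injective (Subtype.ext e)
    · rw [← hTval, hv]
  have hlin : ∀ φ : MulAut G, ∃ (L : Module.End (ZMod p) (Additive P)) (i : ℕ), Function.Bijective L ∧ ¬ q ∣ i ∧
      L * T = T ^ i * L ∧ (∀ v : (Additive P), ((Additive.toMul (L v) : P) : G) = φ (Additive.toMul v : P)) ∧
      ∀ j, φ x = x ^ j → i % q = j % q := by
    intro φ
    let f : P →* P :=
      { toFun := fun a => ⟨φ a, hchar φ a a.2⟩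
        map_one' := Subtype.ext (by simp)
        map_mul' := fun a b => Subtype.ext (by simp) }
    let L : Module.End (ZMod p) (Additive P) := (MonoidHom.toAdditive f).toZModLinearMap p
    have hLval : ∀ v : (Additive P), ((Additive.toMul (L v) : P) : G) = φ (Additive.toMul v : P) := fun v => rfl
    have hinj : Function.Injective L := fun u v huv => Additive.toMul.injective (Subtype.ext
      (φ.injective (by rw [← hLval, ← hLval, huv])))
    obtain ⟨a, ha, i, hai⟩ := hsplit (φ x)
    refine ⟨L, i, ⟨hinj, Finite.surjective_of_injective hinj⟩, ?_, ?_, hLval, ?_⟩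
    · intro hd
      obtain ⟨c, rfl⟩ := hd
      rw [pow_mul, ← hx, pow_orderOf_eq_one, one_pow, mul_one] at hai
      have h1 : orderOf a = q := by rw [← hai]; exact (MulEquiv.orderOf_eq φ x).trans hx
      refine hfpf a a h1 ha (fun e => ?_) (by group)
      rw [e, orderOf_one] at h1
      exact hq.one_lt.ne h1
    · refine LinearMap.ext fun v => Additive.toMul.injective (Subtype.ext ?_)
      rw [Module.End.mul_apply, Module.End.mul_apply, hLval, hTval, map_mul, map_mul, map_inv, hTpow, hLval, hai]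
      have hcomm : a * (x ^ i * φ ((Additive.toMul v : P) : G) * (x ^ i)⁻¹) =
          (x ^ i * φ ((Additive.toMul v : P) : G) * (x ^ i)⁻¹) * a :=
        congrArg Subtype.val (hP.is_comm.comm ⟨a, ha⟩
          ⟨_, hPn.conj_mem _ (hchar φ _ (Additive.toMul v).2) (x ^ i)⟩)
      calc a * x ^ i * φ ((Additive.toMul v : P) : G) * (a * x ^ i)⁻¹
          = a * (x ^ i * φ ((Additive.toMul v : P) : G) * (x ^ i)⁻¹) * a⁻¹ := by group
        _ = _ := by rw [hcomm, mul_inv_cancel_right]
    · intro j hj
      rw [hai] at hj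
      have h1 : a = x ^ j * (x ^ i)⁻¹ := eq_mul_inv_of_mul_eq hj
      have h2 : a = 1 := by
        by_contra hne
        exact hfpf x a hx ha hne (by rw [h1]; group)
      rw [h2, one_mul] at hj
      rw [← hx]
      exact pow_inj_mod.1 hj
  refine Perm.orderOf_natCast_eq_of_transitive T hT hfix hpq (fun v w hv hw => ?_) fun i hi => ?_
  · obtain ⟨φ, hφ⟩ := htr _ _ (Additive.toMul v).2 (Additive.toMul w).2
      (fun e => hv (Additive.toMul.injective (Subtype.ext e)))
      (fun e => hw (Additive.toMul.injective (Subtype.ext e)))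
    obtain ⟨L, i, hL, hi, hLT, hLv, -⟩ := hlin φ
    exact ⟨L, i, hL, hi, hLT, Additive.toMul.injective (Subtype.ext ((hLv v).trans hφ))⟩
  · have hxi : orderOf (x ^ i) = q := by
      rw [Nat.Coprime.orderOf_pow (by rw [hx]; exact hq.coprime_iff_not_dvd.2 hi), hx]
    obtain ⟨φ, hφ⟩ := htrq x (x ^ i) hx hxi
    obtain ⟨L, j, hL, hj, hLT, -, hcongr⟩ := hlin φ
    refine ⟨L, hL, ?_⟩
    rw [Perm.pow_mod_q T hT i, ← hcongr i hφ, ← Perm.pow_mod_q T hT j]
    exact hLT

theorem backward_auto (hpq : p ≠ q) (hP : IsMulCommutative P) (hexp : ∀ a ∈ P, a ^ p = 1)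
    (x : G) (hx : orderOf x = q) (hsplit : ∀ g : G, ∃ a ∈ P, ∃ k : ℕ, g = a * x ^ k)
    (hfpf : ∀ x y : G, orderOf x = q → y ∈ P → y ≠ 1 → x * y * x⁻¹ ≠ y)
    (hord : orderOf (p : ZMod q) = q - 1)
    {a b : G} (ha : a ∈ P) (hb : b ∈ P) (ha1 : a ≠ 1) (hb1 : b ≠ 1) {i : ℕ} (hi : ¬ q ∣ i) :
    ∃ φ : MulAut G, φ a = b ∧ φ x = x ^ i := by
  have hq := (Fact.out : q.Prime)
  let _ : CommGroup P := { (inferInstance : Group P) with mul_comm := hP.is_comm.comm }
  have hpsmul : ∀ a : Additive P, p • a = 0 := fun a => by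
    apply Additive.toMul.injective
    rw [toMul_nsmul, toMul_zero]
    exact Subtype.ext (hexp _ (Additive.toMul a).2)
  have : Module (ZMod p) (Additive P) := AddCommGroup.zmodModule hpsmul
  have : Nontrivial (Additive P) := (Subgroup.nontrivial_iff_ne_bot P).2 fun e => ha1 (by rw [e] at ha; exact ha)
  let T : (Additive P) →ₗ[ZMod p] (Additive P) :=
    (MonoidHom.toAdditive (MulAut.conjNormal (H := P) x).toMonoidHom).toZModLinearMap p
  have hTval : ∀ v : (Additive P), ((Additive.toMul (T v) : P) : G) = x * ((Additive.toMul v : P) : G) * x⁻¹ :=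
    fun v => MulAut.conjNormal_apply _ _
  have hTpow : ∀ (k : ℕ) (v : (Additive P)), ((Additive.toMul ((T ^ k) v) : P) : G) = x ^ k * ((Additive.toMul v : P) : G) * (x ^ k)⁻¹ := by
    intro k
    induction k with
    | zero => intro v; simp
    | succ k ih =>
      intro v
      rw [pow_succ', Module.End.mul_apply, hTval, ih, pow_succ']
      group
  have hT : T ^ q = 1 := by
    refine LinearMap.ext fun v => Additive.toMul.injective (Subtype.ext ?_)
    rw [hTpow, ← hx, pow_orderOf_eq_one]
    simp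
  have hfix : ∀ v : (Additive P), T v = v → v = 0 := by
    intro v hv
    by_contra hne
    refine hfpf x _ hx (Additive.toMul v).2 (fun e => hne ?_) ?_
    · exact Additive.toMul.injective (Subtype.ext e)
    · rw [← hTval, hv]
  obtain ⟨L, hLa, hLT⟩ := Perm.exists_semilinear T hT hfix hpq hord
    (v := Additive.ofMul ⟨a, ha⟩) (w := Additive.ofMul ⟨b, hb⟩)
    (fun e => ha1 (congrArg Subtype.val (congrArg Additive.toMul e)))
    (fun e => hb1 (congrArg Subtype.val (congrArg Additive.toMul e))) hi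
  choose α hα k hk using hsplit
  have huniq : ∀ (u : G) (hu : u ∈ P) (m : ℕ) (g : G), g = u * x ^ m → α g = u ∧ m % q = k g % q := by
    intro u hu m g hg
    have h1 : x ^ m = u⁻¹ * (α g) * x ^ k g := by rw [mul_assoc, ← hk g, hg, inv_mul_cancel_left]
    have hm : u⁻¹ * α g = x ^ m * (x ^ k g)⁻¹ := eq_mul_inv_of_mul_eq h1.symm
    have h2 : u⁻¹ * α g = 1 := by
      by_contra hne
      refine hfpf x _ hx (mul_mem (inv_mem hu) (hα g)) hne ?_
      rw [hm]; group
    refine ⟨(inv_mul_eq_one.1 h2).symm, ?_⟩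
    rw [h2, one_mul] at h1
    rw [← hx]
    exact pow_inj_mod.1 h1
  let LG : G → G := fun u => ((Additive.toMul (L (Additive.ofMul (⟨α u, hα u⟩ : P))) : P) : G)
  let F : G → G := fun g => LG g * x ^ (i * k g)
  have hF : ∀ (u : P) (m : ℕ), F ((u : G) * x ^ m) = ((Additive.toMul (L (Additive.ofMul u)) : P) : G) * x ^ (i * m) := by
    intro u m
    obtain ⟨h1, h2⟩ := huniq u u.2 m _ rfl
    have h3 : (⟨α ((u : G) * x ^ m), hα _⟩ : P) = u := Subtype.ext h1
    simp only [F, LG, h3]
    congr 1
    refine pow_inj_mod.2 ?_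
    rw [hx, Nat.mul_mod, ← h2, ← Nat.mul_mod]
  have hconj : ∀ (m : ℕ) (v : (Additive P)), L ((T ^ m) v) = (T ^ (i * m)) (L v) := by
    intro m
    induction m with
    | zero => intro v; simp
    | succ m ih =>
      intro v
      rw [pow_succ', Module.End.mul_apply, hLT, ih, ← Module.End.mul_apply, ← pow_add, Nat.mul_succ, add_comm]
  have hmul : ∀ g g', F (g * g') = F g * F g' := by
    intro g g'
    let u : P := ⟨α g, hα g⟩
    let u' : P := ⟨α g', hα g'⟩
    let w : P := Additive.toMul ((T ^ k g) (Additive.ofMul u'))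
    have hw : (w : G) = x ^ k g * (u' : G) * (x ^ k g)⁻¹ := hTpow _ _
    have hgg : g * g' = ((u * w : P) : G) * x ^ (k g + k g') := by
      rw [Subgroup.coe_mul, hw, pow_add]
      conv_lhs => rw [hk g, hk g']
      group
      rfl
    rw [hgg, hF, ofMul_mul, map_add, toMul_add, Subgroup.coe_mul]
    have hw2 : ((Additive.toMul (L (Additive.ofMul w)) : P) : G) =
        x ^ (i * k g) * ((Additive.toMul (L (Additive.ofMul u')) : P) : G) * (x ^ (i * k g))⁻¹ := by
      rw [show Additive.ofMul w = (T ^ k g) (Additive.ofMul u') from rfl, hconj, hTpow]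
    rw [hw2, mul_add, pow_add]
    show _ = _ * x ^ (i * k g) * (_ * x ^ (i * k g'))
    group
    rfl
  let f : G →* G := MonoidHom.mk' F hmul
  have hinj : Function.Injective f := by
    rw [← MonoidHom.ker_eq_bot_iff, Subgroup.eq_bot_iff_forall]
    intro g hg
    have hg' : LG g * x ^ (i * k g) = 1 := hg
    obtain ⟨h1, h2⟩ := huniq (LG g) (Additive.toMul (L (Additive.ofMul (⟨α g, hα g⟩ : P)))).2 (i * k g) 1 hg'.symm
    obtain ⟨h3, h4⟩ := huniq 1 (one_mem P) 0 1 (by simp)
    rw [h3] at h1
    rw [← h4, Nat.zero_mod, ← Nat.dvd_iff_mod_eq_zero] at h2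
    have hkg : x ^ k g = 1 := by
      rw [← orderOf_dvd_iff_pow_eq_one, hx]
      exact (hq.coprime_iff_not_dvd.2 hi).dvd_of_dvd_mul_left h2
    have hag : (⟨α g, hα g⟩ : P) = 1 := by
      apply Additive.ofMul.injective
      apply L.injective
      rw [ofMul_one, map_zero]
      exact Additive.toMul.injective (Subtype.ext h1.symm)
    rw [hk g, hkg, mul_one]
    exact congrArg Subtype.val hag
  refine ⟨MulEquiv.ofBijective f ⟨hinj, Finite.surjective_of_injective hinj⟩, ?_, ?_⟩
  · show F a = b
    have := hF ⟨a, ha⟩ 0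
    simp only [pow_zero, mul_one, mul_zero] at this
    rw [this]
    have h2 : L (Additive.ofMul ⟨a, ha⟩) = Additive.ofMul ⟨b, hb⟩ := hLa
    rw [h2]; rfl
  · show F x = x ^ i
    have := hF 1 1
    simp only [Subgroup.coe_one, one_mul, pow_one, mul_one, ofMul_one, map_zero, toMul_zero] at this
    exact this

theorem class_eq {g h : G} (hgh : (Quotient.mk _ g : MulAction.orbitRel.Quotient (MulAut G) G) = Quotient.mk _ h) :
    ∃ φ : MulAut G, φ h = g := MulAction.orbitRel_apply.1 (Quotient.exact hgh)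

/-- Let G be a finite group whose order is not a prime power. Then the automorphism group of G has exactly three orbits on G if and only if there are distinct primes p, q with #G = pⁿ·q (n ≥ 1) such that G has a normal elementary abelian Sylow p-subgroup P, p is a primitive root modulo q (the multiplicative order of p mod q is q − 1), and every element of order q of G acts on P without non-identity fixed points. -/
theorem result {G : Type*} [Group G] [Finite G] (hnpp : ¬ IsPrimePow (Nat.card G)) (hnt : Nat.card G ≠ 1) :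
    Nat.card (MulAction.orbitRel.Quotient (MulAut G) G) = 3 ↔
    ∃ (p q n : ℕ) (_ : Fact p.Prime) (_ : Fact q.Prime), p ≠ q ∧ 1 ≤ n ∧ Nat.card G = p ^ n * q ∧
      (∀ P : Sylow p G, (P : Subgroup G).Normal ∧ Cfsg.IsElementaryAbelian p (P : Subgroup G)) ∧
      orderOf (p : ZMod q) = q - 1 ∧
      ∀ x y : G, orderOf x = q → orderOf y = p → x * y * x⁻¹ ≠ y := by
  classical
  have hquot : ∀ {g h : G}, (∃ φ : MulAut G, φ h = g) →
      (Quotient.mk _ g : MulAction.orbitRel.Quotient (MulAut G) G) = Quotient.mk _ h :=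
    fun {g h} hφ => Quotient.sound (MulAction.orbitRel_apply.2 hφ)
  constructor
  · intro h3
    obtain ⟨p, hp, hpd⟩ := Nat.exists_prime_and_dvd hnt
    obtain ⟨q, hq, hqd, hqp⟩ : ∃ q, q.Prime ∧ q ∣ Nat.card G ∧ q ≠ p := by
      by_contra hh
      push Not at hh
      exact hnpp (isPrimePow_iff_unique_prime_dvd.2 ⟨p, ⟨hp, hpd⟩, fun r hr => hh r hr.1 hr.2⟩)
    have := Fact.mk hp
    have := Fact.mk hq
    obtain ⟨a, ha⟩ := exists_prime_orderOf_dvd_card' p hpd
    obtain ⟨b, hb⟩ := exists_prime_orderOf_dvd_card' q hqd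
    let _ : Fintype (MulAction.orbitRel.Quotient (MulAut G) G) := Fintype.ofFinite _
    have hcls : ∀ g : G, (∃ φ : MulAut G, φ 1 = g) ∨ (∃ φ : MulAut G, φ a = g) ∨ (∃ φ : MulAut G, φ b = g) := by
      intro g
      let mk : G → MulAction.orbitRel.Quotient (MulAut G) G := fun g => Quotient.mk _ g
      have hne : ∀ {g h : G}, orderOf g ≠ orderOf h → mk g ≠ mk h := by
        intro g h hgh e
        obtain ⟨φ, hφ⟩ := class_eq e
        exact hgh (by rw [← hφ, MulEquiv.orderOf_eq])
      have hthree : ({mk 1, mk a, mk b} : Finset _) = Finset.univ := by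
        refine Finset.eq_univ_of_card _ ?_
        rw [← Nat.card_eq_fintype_card, h3]
        refine Finset.card_eq_three.2 ⟨_, _, _, hne ?_, hne ?_, hne ?_, rfl⟩
        · rw [orderOf_one, ha]; exact hp.one_lt.ne
        · rw [orderOf_one, hb]; exact hq.one_lt.ne
        · rw [ha, hb]; exact hqp.symm
      have := Finset.mem_univ (mk g)
      rw [← hthree] at this
      simp only [Finset.mem_insert, Finset.mem_singleton] at this
      rcases this with e | e | e
      · exact Or.inl (class_eq e)
      · exact Or.inr (Or.inl (class_eq e))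
      · exact Or.inr (Or.inr (class_eq e))
    have hordg : ∀ g : G, g = 1 ∨ orderOf g = p ∨ orderOf g = q := by
      intro g
      rcases hcls g with ⟨φ, hφ⟩ | ⟨φ, hφ⟩ | ⟨φ, hφ⟩
      · exact Or.inl (by rw [← hφ, map_one])
      · exact Or.inr (Or.inl (by rw [← hφ, MulEquiv.orderOf_eq, ha]))
      · exact Or.inr (Or.inr (by rw [← hφ, MulEquiv.orderOf_eq, hb]))
    have hsame : ∀ (r : ℕ), (r = p ∨ r = q) → ∀ g h : G, orderOf g = r → orderOf h = r → ∃ φ : MulAut G, φ g = h := by
      intro r hr g h hg hh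
      have key : ∀ g : G, orderOf g = r → ∃ φ : MulAut G, φ (if r = p then a else b) = g := by
        intro g hg
        rcases hcls g with ⟨φ, hφ⟩ | ⟨φ, hφ⟩ | ⟨φ, hφ⟩
        · rw [map_one] at hφ
          rw [← hφ, orderOf_one] at hg
          rcases hr with rfl | rfl
          · exact absurd hg hp.one_lt.ne
          · exact absurd hg hq.one_lt.ne
        · have : r = p := by rw [← hg, ← hφ, MulEquiv.orderOf_eq, ha]
          exact ⟨φ, by rw [if_pos this, hφ]⟩
        · have : r = q := by rw [← hg, ← hφ, MulEquiv.orderOf_eq, hb]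
          exact ⟨φ, by rw [if_neg (by rw [this]; exact hqp), hφ]⟩
      obtain ⟨φ, hφ⟩ := key g hg
      obtain ⟨ψ, hψ⟩ := key h hh
      exact ⟨ψ * φ⁻¹, by rw [MulAut.mul_apply, ← hφ, MulAut.inv_apply_self, hψ]⟩
    have hprimes : ∀ r : ℕ, r.Prime → r ∣ Nat.card G → r = p ∨ r = q := by
      intro r hr hrd
      have := Fact.mk hr
      obtain ⟨g, hg⟩ := exists_prime_orderOf_dvd_card' r hrd
      rcases hordg g with e | e | e
      · rw [e, orderOf_one] at hg; exact absurd hg hr.one_lt.ne
      · exact Or.inl (hg.symm.trans e)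
      · exact Or.inr (hg.symm.trans e)
    have hcard2 : ∃ i j, Nat.card G = p ^ i * q ^ j := by
      obtain ⟨i, m, hm, he⟩ := Nat.exists_eq_pow_mul_and_not_dvd (Nat.card_pos (α := G)).ne' p hp.ne_one
      have hm0 : m ≠ 0 := fun e => hm (e ▸ dvd_zero p)
      refine ⟨i, m.primeFactorsList.length, ?_⟩
      rw [he, ← Nat.eq_prime_pow_of_unique_prime_dvd hm0 fun {r} hr hrd => ?_]
      exact ((hprimes r hr (he ▸ dvd_mul_of_dvd_right hrd _)).resolve_left fun e => hm (e ▸ hrd))
    have hsolv : Group.IsSolvable G := Cfsg.Agent.Char.solvable_of_card_prime_pow_mul p q hp hq _ G rfl hcard2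
    have hGne : (⊤ : Subgroup G) ≠ ⊥ := fun e => hnt (by rw [← Subgroup.card_top (G := G), e, Subgroup.card_bot])
    obtain ⟨M, hMn, -, hM1, hMmin⟩ := Solv.exists_minimal_normal_le (N := (⊤ : Subgroup G)) hGne
    obtain ⟨-, r, hr, hMr⟩ := Solv.minimal_normal_elementary M hM1 hMmin
    have := Fact.mk hr
    have hMp : IsPGroup r M := fun z => ⟨1, Subtype.ext (by simpa using hMr z z.2)⟩
    have hcore : Cfsg.pCore r G ≠ ⊥ := fun e => hM1 (le_bot_iff.1 (e ▸ Solv.le_pCore hMp))
    have hrd : r ∣ Nat.card G := by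
      obtain ⟨k, hk⟩ := IsPGroup.iff_card.1 hMp
      have hk0 : k ≠ 0 := by
        rintro rfl
        exact hM1 (Subgroup.card_eq_one.1 (by rw [hk, pow_zero]))
      exact (dvd_pow_self r hk0).trans (hk ▸ M.card_subgroup_dvd_card)
    obtain ⟨s, hs, hsr, hsd, hord', hsame'⟩ : ∃ s, s.Prime ∧ s ≠ r ∧ s ∣ Nat.card G ∧
        (∀ g : G, g = 1 ∨ orderOf g = r ∨ orderOf g = s) ∧
        (∀ t, (t = r ∨ t = s) → ∀ g h : G, orderOf g = t → orderOf h = t → ∃ φ : MulAut G, φ g = h) := by
      rcases hprimes r hr hrd with e | e <;> subst e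
      · exact ⟨q, hq, hqp, hqd, hordg, hsame⟩
      · exact ⟨p, hp, hqp.symm, hpd, fun g => (hordg g).imp_right Or.symm, fun t ht => hsame t ht.symm⟩
    have := Fact.mk hs
    set P := Cfsg.pCore r G with hPdef
    have hPn : P.Normal := inferInstance
    have hPchar : ∀ (φ : MulAut G), ∀ z ∈ P, φ z ∈ P := fun φ z hz => by
      have h := Subgroup.characteristic_iff_map_le.1 (Solv.pCore_characteristic r G) φ
      exact h ⟨z, hz, rfl⟩
    have hPp : IsPGroup r P := Solv.isPGroup_pCore r G
    have hordP : ∀ z ∈ P, z ≠ 1 → orderOf z = r := by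
      intro z hz hz1
      obtain ⟨k, hk⟩ := IsPGroup.iff_orderOf.1 hPp ⟨z, hz⟩
      rw [Subgroup.orderOf_mk] at hk
      rcases hord' z with e | e | e
      · exact absurd e hz1
      · exact e
      · exact absurd ((Nat.prime_dvd_prime_iff_eq hs hr).1 (hs.dvd_of_dvd_pow (dvd_of_eq (e.symm.trans hk)))) hsr
    obtain ⟨z0, hz0, hz01⟩ := (Subgroup.bot_or_exists_ne_one P).resolve_left hcore
    have hallP : ∀ g : G, orderOf g = r → g ∈ P := by
      intro g hg
      obtain ⟨φ, hφ⟩ := hsame' r (Or.inl rfl) z0 g (hordP z0 hz0 hz01) hg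
      exact hφ ▸ hPchar φ z0 hz0
    have hexp : ∀ z ∈ P, z ^ r = 1 := fun z hz => by
      by_cases h : z = 1
      · rw [h, one_pow]
      · rw [← hordP z hz h, pow_orderOf_eq_one]
    have hPnt : Nontrivial P := (Subgroup.nontrivial_iff_ne_bot P).2 hcore
    have hcomm : IsMulCommutative P := by
      have hnt' := hPp.center_nontrivial
      obtain ⟨⟨c, hc⟩, hc1⟩ := exists_ne (1 : Subgroup.center P)
      have hcG : ∀ g : G, g ∈ P → (c : G) * g = g * (c : G) := fun g hg =>
        congrArg Subtype.val (Subgroup.mem_center_iff.1 hc ⟨g, hg⟩).symm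
      refine ⟨⟨fun u v => Subtype.ext ?_⟩⟩
      by_cases hu : u = 1
      · simp [hu]
      obtain ⟨φ, hφ⟩ := hsame' r (Or.inl rfl) (c : G) (u : G)
        (hordP _ c.2 fun e => hc1 (Subtype.ext (Subtype.ext e)))
        (hordP _ u.2 fun e => hu (Subtype.ext e))
      have h := congrArg φ (hcG (φ⁻¹ (v : G)) (hPchar φ⁻¹ _ v.2))
      rw [map_mul, map_mul, hφ, MulAut.apply_inv_self] at h
      simpa using h
    have hfpf : ∀ x y : G, orderOf x = s → y ∈ P → y ≠ 1 → x * y * x⁻¹ ≠ y := by
      intro x y hx hy hy1 e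
      have hc : Commute x y := mul_inv_eq_iff_eq_mul.1 e
      have h := hc.orderOf_mul_eq_mul_orderOf_of_coprime
        (by rw [hx, hordP y hy hy1]; exact (Nat.coprime_primes hs hr).2 hsr)
      rw [hx, hordP y hy hy1] at h
      have h2 := hs.two_le; have h3 := hr.two_le
      rcases hord' (x * y) with e' | e' | e'
      · rw [e', orderOf_one] at h; nlinarith
      · rw [e'] at h; nlinarith
      · rw [e'] at h; nlinarith
    obtain ⟨S⟩ := Sylow.nonempty (p := s) (G := G)
    have hSord : ∀ z ∈ (S : Subgroup G), z ≠ 1 → orderOf z = s := by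
      intro z hz hz1
      obtain ⟨k, hk⟩ := IsPGroup.iff_orderOf.1 S.isPGroup' ⟨z, hz⟩
      rw [Subgroup.orderOf_mk] at hk
      rcases hord' z with e | e | e
      · exact absurd e hz1
      · exact absurd ((Nat.prime_dvd_prime_iff_eq hr hs).1 (hr.dvd_of_dvd_pow (dvd_of_eq (e.symm.trans hk)))) hsr.symm
      · exact e
    have hSnt : Nontrivial (S : Subgroup G) := (Subgroup.nontrivial_iff_ne_bot _).2 fun e => by
      have h := S.not_dvd_index
      rw [e, Subgroup.index_bot] at h
      exact h hsd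
    have hnt' := S.isPGroup'.center_nontrivial
    obtain ⟨⟨⟨x, hxS⟩, hxc⟩, hx1'⟩ := exists_ne (1 : Subgroup.center (S : Subgroup G))
    have hx1 : x ≠ 1 := fun e => hx1' (Subtype.ext (Subtype.ext e))
    have hx : orderOf x = s := hSord x hxS hx1
    have hScyc : (S : Subgroup G) = Subgroup.zpowers x := by
      refine le_antisymm (fun y hy => ?_) (Subgroup.zpowers_le.2 hxS)
      by_contra hyx
      exact no_commuting_pair hsr.symm P hcomm hexp hcore hfpf (z := x) (a := y)
        (congrArg Subtype.val (Subgroup.mem_center_iff.1 hxc ⟨y, hy⟩).symm) hx hyx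
        (by rw [← hSord y hy fun e => hyx (e ▸ one_mem _), pow_orderOf_eq_one])
    have hScard : Nat.card (S : Subgroup G) = s := by rw [hScyc, Nat.card_zpowers, hx]
    obtain ⟨m, hm⟩ := IsPGroup.iff_card.1 hPp
    have hcop : (Nat.card P).Coprime (Nat.card (S : Subgroup G)) := by
      rw [hm, hScard]; exact Nat.Coprime.pow_left m ((Nat.coprime_primes hr hs).2 hsr.symm)
    have hPidx : P.index = s := by
      -- no prime other than `s` divides the index
      have hri : ¬ r ∣ P.index := by
        intro hd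
        obtain ⟨g, hg⟩ := exists_prime_orderOf_dvd_card' (G := G ⧸ P) r hd
        obtain ⟨g, rfl⟩ := QuotientGroup.mk_surjective g
        have h1 : r ∣ orderOf g := hg ▸ orderOf_map_dvd (QuotientGroup.mk' P) g
        rcases hord' g with e | e | e
        · rw [e, orderOf_one] at h1; exact hr.not_dvd_one h1
        · rw [(QuotientGroup.eq_one_iff g).2 (hallP g e), orderOf_one] at hg
          exact hr.one_lt.ne hg
        · rw [e] at h1; exact hsr ((Nat.prime_dvd_prime_iff_eq hr hs).1 h1).symm
      have hcs := S.card_eq_multiplicity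
      rw [hScard] at hcs
      have hn0 : Nat.card G ≠ 0 := Nat.card_pos.ne'
      have hi0 : P.index ≠ 0 := Subgroup.index_ne_zero_of_finite
      have hipow : P.index = s ^ P.index.primeFactorsList.length :=
        Nat.eq_prime_pow_of_unique_prime_dvd hi0 fun {t} ht htd => by
          have := Fact.mk ht
          obtain ⟨g, hg⟩ := exists_prime_orderOf_dvd_card' t (htd.trans P.index_dvd_card)
          rcases hord' g with e | e | e
          · rw [e, orderOf_one] at hg; exact absurd hg ht.one_lt.ne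
          · exact absurd ((hg.symm.trans e) ▸ htd) hri
          · exact hg.symm.trans e
      have h1 : (Nat.card G).factorization s = P.index.primeFactorsList.length := by
        rw [← P.card_mul_index, Nat.factorization_mul Nat.card_pos.ne' hi0, Finsupp.add_apply,
          Nat.factorization_eq_zero_of_not_dvd (fun hd => by
            rw [hm] at hd; exact hsr ((Nat.prime_dvd_prime_iff_eq hs hr).1 (hs.dvd_of_dvd_pow hd))),
          zero_add]
        conv_lhs => rw [hipow]
        rw [Nat.Prime.factorization_pow hs, Finsupp.single_eq_same]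
      have h2 : (Nat.card G).factorization s = 1 :=
        (Nat.pow_right_injective hs.two_le (by simpa using hcs.symm))
      rw [hipow, ← h1, h2, pow_one]
    have hsplit : ∀ g : G, ∃ a ∈ P, ∃ k : ℕ, g = a * x ^ k := by
      intro g
      have htop : P ⊔ Subgroup.zpowers x = ⊤ := by
        apply Subgroup.eq_top_of_card_eq
        have h1 := Solv.card_sup_mul_card_inf P (Subgroup.zpowers x)
          (fun t _ => Subgroup.normalizer_eq_top P ▸ Subgroup.mem_top t)
        rw [Solv.inf_eq_bot_of_coprime_card P _ (hScyc ▸ hcop), Subgroup.card_bot, mul_one,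
          Nat.card_zpowers, hx] at h1
        rw [h1, ← hPidx, P.card_mul_index]
      have hmem : g ∈ ((P ⊔ Subgroup.zpowers x : Subgroup G) : Set G) := htop.symm ▸ Subgroup.mem_top g
      rw [Subgroup.normal_mul] at hmem
      obtain ⟨u, hu, w, hw, rfl⟩ := hmem
      obtain ⟨k, rfl⟩ := (mem_powers_iff_mem_zpowers).2 hw
      exact ⟨u, hu, k, rfl⟩
    have hordpq := forward_linear P hsr.symm hcomm hexp hcore x hx hsplit hfpf hPchar
      (fun u v hu hv hu1 hv1 => hsame' r (Or.inl rfl) u v (hordP u hu hu1) (hordP v hv hv1))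
      (hsame' s (Or.inr rfl))
    have hm0 : 1 ≤ m := Nat.one_le_iff_ne_zero.2 fun e => hcore (Subgroup.card_eq_one.1 (by rw [hm, e, pow_zero]))
    refine ⟨r, s, m, ⟨hr⟩, ⟨hs⟩, hsr.symm, hm0, by rw [← P.card_mul_index, hm, hPidx], fun Q => ?_, hordpq, ?_⟩
    · have hQ : (Q : Subgroup G) = P := Q.is_maximal' hPp (fun z hz => ?_) |>.symm
      · rw [hQ]; exact ⟨hPn, hcomm, hexp⟩
      · by_cases h1 : z = 1
        · rw [h1]; exact one_mem _
        obtain ⟨k, hk⟩ := IsPGroup.iff_orderOf.1 Q.isPGroup' ⟨z, hz⟩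
        rw [Subgroup.orderOf_mk] at hk
        rcases hord' z with e | e | e
        · exact absurd e h1
        · exact hallP z e
        · exact absurd ((Nat.prime_dvd_prime_iff_eq hs hr).1 (hs.dvd_of_dvd_pow (dvd_of_eq (e.symm.trans hk)))) hsr
    · intro x y hx hy
      exact hfpf x y hx (hallP y hy) fun e => hr.one_lt.ne (by rw [← hy, e, orderOf_one])
  · rintro ⟨p, q, n, hpF, hqF, hpq, hn, hcard, hsyl, hord, hfpf0⟩
    have hp := hpF.out
    have hq := hqF.out
    obtain ⟨S⟩ := Sylow.nonempty (p := p) (G := G)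
    set P := (S : Subgroup G) with hPdef
    obtain ⟨hPn, hcomm, hexp⟩ := hsyl S
    have hPcard : Nat.card P = p ^ n := by
      rw [hPdef, S.card_eq_multiplicity, hcard, Nat.factorization_mul (pow_ne_zero n hp.ne_zero) hq.ne_zero,
        Finsupp.add_apply, Nat.Prime.factorization_pow hp, Finsupp.single_eq_same,
        Nat.factorization_eq_zero_of_not_dvd fun hd => hpq ((Nat.prime_dvd_prime_iff_eq hp hq).1 hd), add_zero]
    have hPidx : P.index = q := by
      have := P.card_mul_index
      rw [hPcard, hcard] at this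
      exact Nat.eq_of_mul_eq_mul_left (pow_pos hp.pos n) this
    have hordP : ∀ z ∈ P, z ≠ 1 → orderOf z = p := fun z hz hz1 => orderOf_eq_prime (hexp z hz) hz1
    have hallP : ∀ g : G, (∃ k, orderOf g = p ^ k) → g ∈ P := fun g ⟨k, hk⟩ =>
      Solv.mem_of_coprime_index P (by rw [hk, hPidx]; exact Nat.Coprime.pow_left k ((Nat.coprime_primes hp hq).2 hpq))
    have hfpf : ∀ x y : G, orderOf x = q → y ∈ P → y ≠ 1 → x * y * x⁻¹ ≠ y :=
      fun x y hx hy hy1 => hfpf0 x y hx (hordP y hy hy1)
    obtain ⟨x, hx⟩ := exists_prime_orderOf_dvd_card' (G := G) q (hcard ▸ dvd_mul_left q _)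
    have hpowq : ∀ g : G, g ^ q ∈ P := fun g => by
      have h := pow_orderOf_eq_one (g : G ⧸ P)
      rw [← QuotientGroup.eq_one_iff, QuotientGroup.mk_pow, ← orderOf_dvd_iff_pow_eq_one, ← hPidx]
      exact orderOf_dvd_natCard _
    have hsplit : ∀ g : G, ∃ a ∈ P, ∃ k : ℕ, g = a * x ^ k := by
      intro g
      have htop : P ⊔ Subgroup.zpowers x = ⊤ := by
        apply Subgroup.eq_top_of_card_eq
        have h1 := Solv.card_sup_mul_card_inf P (Subgroup.zpowers x)
          (fun t _ => Subgroup.normalizer_eq_top P ▸ Subgroup.mem_top t)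
        rw [Solv.inf_eq_bot_of_coprime_card P _ (by
          rw [hPcard, Nat.card_zpowers, hx]; exact Nat.Coprime.pow_left n ((Nat.coprime_primes hp hq).2 hpq)),
          Subgroup.card_bot, mul_one, Nat.card_zpowers, hx] at h1
        rw [h1, hPcard, hcard]
      have hmem : g ∈ ((P ⊔ Subgroup.zpowers x : Subgroup G) : Set G) := htop.symm ▸ Subgroup.mem_top g
      rw [Subgroup.normal_mul] at hmem
      obtain ⟨u, hu, w, hw, rfl⟩ := hmem
      obtain ⟨k, rfl⟩ := (mem_powers_iff_mem_zpowers).2 hw
      exact ⟨u, hu, k, rfl⟩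
    have hcases : ∀ g : G, g = 1 ∨ orderOf g = p ∨ orderOf g = q := by
      intro g
      by_cases h1 : g = 1
      · exact Or.inl h1
      right
      have hd : orderOf g ∣ q * p := orderOf_dvd_of_pow_eq_one (by rw [pow_mul]; exact hexp _ (hpowq g))
      by_cases hgP : g ∈ P
      · exact Or.inl (hordP g hgP h1)
      right
      refine orderOf_eq_prime ?_ h1
      by_contra hgq
      -- otherwise an element of order `q` would fix one of order `p`
      obtain ⟨c, hc⟩ : q ∣ orderOf g := by
        by_contra hqg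
        exact hgP (hallP g (by
          obtain ⟨i, -, hi⟩ := (Nat.dvd_prime_pow hp).1
            (show orderOf g ∣ p ^ 1 by rw [pow_one]; exact ((hq.coprime_iff_not_dvd.2 hqg).symm).dvd_of_dvd_mul_left hd)
          exact ⟨i, hi⟩))
      have hcp : c ∣ p := Nat.dvd_of_mul_dvd_mul_left hq.pos (hc ▸ hd)
      have hc1 : c = p := ((Nat.dvd_prime hp).1 hcp).resolve_left fun e => hgq (by
        rw [e, mul_one] at hc; rw [← hc, pow_orderOf_eq_one])
      have hg_p : orderOf (g ^ p) = q := by
        rw [orderOf_pow' g hp.ne_zero, hc, hc1, Nat.gcd_mul_left_left, Nat.mul_div_cancel _ hp.pos]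
      refine hfpf (g ^ p) (g ^ q) hg_p (hpowq g) hgq ?_
      rw [← pow_add, add_comm, pow_add, mul_inv_cancel_right]
    obtain ⟨y, hy⟩ := exists_prime_orderOf_dvd_card' (G := G) p (hcard ▸ dvd_mul_of_dvd_left (dvd_pow_self p (by omega)) q)
    have hyP : y ∈ P := hallP y ⟨1, by rw [hy, pow_one]⟩
    have hy1 : y ≠ 1 := fun e => hp.one_lt.ne (by rw [← hy, e, orderOf_one])
    have hone : ¬ q ∣ 1 := hq.not_dvd_one
    have hPorb : ∀ g : G, orderOf g = p → ∃ φ : MulAut G, φ y = g := fun g hg => by
      obtain ⟨φ, hφ, -⟩ := backward_auto P hpq hcomm hexp x hx hsplit hfpf hord hyP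
        (hallP g ⟨1, by rw [hg, pow_one]⟩) hy1 (fun e => hp.one_lt.ne (by rw [← hg, e, orderOf_one])) hone
      exact ⟨φ, hφ⟩
    have hQorb : ∀ g : G, orderOf g = q → ∃ φ : MulAut G, φ x = g := by
      intro g hg
      -- conjugate `g` into `⟨x⟩`
      let X : Sylow q G := Sylow.ofCard (Subgroup.zpowers x) (by
        rw [Nat.card_zpowers, hx, hcard, Nat.factorization_mul (pow_ne_zero n hp.ne_zero) hq.ne_zero,
          Finsupp.add_apply, Nat.Prime.factorization_self hq, Nat.factorization_eq_zero_of_not_dvd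
            (fun hd => hpq ((Nat.prime_dvd_prime_iff_eq hq hp).1 (hq.dvd_of_dvd_pow hd)).symm), zero_add, pow_one])
      obtain ⟨R, hR⟩ := (IsPGroup.of_card (G := Subgroup.zpowers g) (n := 1)
        (by rw [Nat.card_zpowers, hg, pow_one])).exists_le_sylow (p := q)
      obtain ⟨c, hc⟩ := MulAction.exists_smul_eq G R X
      have hcg : c * g * c⁻¹ ∈ Subgroup.zpowers x := by
        have h1 : c * g * c⁻¹ ∈ ((c • R : Sylow q G) : Subgroup G) := ⟨g, hR (Subgroup.mem_zpowers g), rfl⟩
        rw [hc] at h1; exact h1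
      obtain ⟨i, hi⟩ := (mem_powers_iff_mem_zpowers).2 hcg
      have hiq : ¬ q ∣ i := by
        intro hd
        have h1 : c * g * c⁻¹ = 1 := by
          rw [← hi]; exact orderOf_dvd_iff_pow_eq_one.1 (hx ▸ hd)
        rw [conj_eq_one_iff] at h1
        rw [h1, orderOf_one] at hg
        exact hq.one_lt.ne hg
      obtain ⟨φ, -, hφ⟩ := backward_auto P hpq hcomm hexp x hx hsplit hfpf hord hyP hyP hy1 hy1 hiq
      refine ⟨MulAut.conj c⁻¹ * φ, ?_⟩
      rw [MulAut.mul_apply, hφ, show x ^ i = c * g * c⁻¹ from hi]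
      simp [mul_assoc]
    let _ : Fintype (MulAction.orbitRel.Quotient (MulAut G) G) := Fintype.ofFinite _
    rw [Nat.card_eq_fintype_card, ← Finset.card_univ, Finset.card_eq_three]
    refine ⟨Quotient.mk _ (1 : G), Quotient.mk _ y, Quotient.mk _ x, ?_, ?_, ?_, ?_⟩
    · intro e; obtain ⟨φ, hφ⟩ := class_eq e
      have := (MulEquiv.orderOf_eq φ y); rw [hφ, hy, orderOf_one] at this; exact hp.one_lt.ne this
    · intro e; obtain ⟨φ, hφ⟩ := class_eq e
      have := (MulEquiv.orderOf_eq φ x); rw [hφ, hx, orderOf_one] at this; exact hq.one_lt.ne this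
    · intro e; obtain ⟨φ, hφ⟩ := class_eq e
      have := (MulEquiv.orderOf_eq φ x); rw [hφ, hx, hy] at this; exact hpq this
    · refine (Finset.eq_univ_iff_forall.2 fun c => ?_).symm
      induction c using Quotient.inductionOn with
      | _ g =>
        simp only [Finset.mem_insert, Finset.mem_singleton]
        rcases hcases g with e | e | e
        · exact Or.inl (by rw [e])
        · exact Or.inr (Or.inl (hquot (hPorb g e)))
        · exact Or.inr (Or.inr (hquot (hQorb g e)))

end Cfsg.Agent.S4081
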