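import Cfsg.Statements.S4084
import Mathlib

set_option autoImplicit false
open Cfsg

namespace Cfsg.Agent.S4084

---pre
open Subgroup in
theorem key {G H : Type*} [Group G] [Finite G] [Group H] [Finite H] (e : G ≃ H)
    (he : ∀ x y : G, Commute x y ↔ Commute (e x) (e y))
    {p q : ℕ} (hp : p.Prime) (hq : q.Prime) (hpq : p ≠ q) (g : G) (hg : orderOf g = p * q) :
    ∃ h : H, orderOf h = p * q := by
  let A : Subgroup G := centralizer (centralizer ({g} : Set G) : Set G)
  let B : Subgroup H := centralizer (centralizer ({e g} : Set H) : Set H)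
  have hmem : ∀ x, x ∈ A ↔ e x ∈ B := by
    intro x
    simp only [A, B, mem_centralizer_iff, SetLike.mem_coe, Set.mem_singleton_iff, forall_eq]
    constructor
    · intro hx y hy
      obtain ⟨y, rfl⟩ := e.surjective y
      exact ((he y x).1 (hx y ((he g y).2 hy))).eq
    · intro hx y hy
      exact ((he y x).2 (hx (e y) ((he g y).1 hy).eq)).eq
  have hcard : Nat.card A = Nat.card B := Nat.card_congr (e.subtypeEquiv hmem)
  have hgA : g ∈ A := mem_centralizer_iff.2 fun y hy =>
    ((mem_centralizer_iff.1 hy) g rfl).symm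
  have hd : p * q ∣ Nat.card B := by
    rw [← hcard, ← hg, ← Subgroup.orderOf_mk g hgA]
    exact orderOf_dvd_natCard _
  have : Fact p.Prime := ⟨hp⟩
  have : Fact q.Prime := ⟨hq⟩
  obtain ⟨a, ha⟩ := exists_prime_orderOf_dvd_card' p ((Nat.dvd_mul_right p q).trans hd)
  obtain ⟨b, hb⟩ := exists_prime_orderOf_dvd_card' q ((Nat.dvd_mul_left q p).trans hd)
  have hc : Commute (a : H) b := by
    have heg : e g ∈ centralizer ({e g} : Set H) := mem_centralizer_iff.2 fun y hy => by
      rw [Set.mem_singleton_iff.1 hy]
    have h1 : (a : H) ∈ centralizer ({e g} : Set H) := mem_centralizer_iff.2 fun y hy => by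
      rw [Set.mem_singleton_iff.1 hy]; exact mem_centralizer_iff.1 a.2 _ heg
    exact mem_centralizer_iff.1 b.2 _ h1
  refine ⟨(a : H) * b, ?_⟩
  rw [hc.orderOf_mul_eq_mul_orderOf_of_coprime (by
    rw [Subgroup.orderOf_coe, Subgroup.orderOf_coe, ha, hb]; exact (Nat.coprime_primes hp hq).2 hpq),
    Subgroup.orderOf_coe, Subgroup.orderOf_coe, ha, hb]

/-- Let G and H be finite groups whose commuting graphs are isomorphic: there is a bijection e : G → H with x, y commuting exactly when e(x), e(y) commute. Then G and H have the same prime graph: for distinct primes p, q, G has an element of order pq if and only if H does (and #G = #H, so the prime divisors agree). -/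
theorem result {G H : Type*} [Group G] [Finite G] [Group H] [Finite H] (e : G ≃ H)
    (he : ∀ x y : G, Commute x y ↔ Commute (e x) (e y))
    {p q : ℕ} (hp : p.Prime) (hq : q.Prime) (hpq : p ≠ q) :
    (∃ g : G, orderOf g = p * q) ↔ (∃ h : H, orderOf h = p * q) := by
  refine ⟨fun ⟨g, hg⟩ => key e he hp hq hpq g hg, fun ⟨h, hh⟩ => key e.symm ?_ hp hq hpq h hh⟩
  intro x y
  rw [he (e.symm x) (e.symm y), Equiv.apply_symm_apply, Equiv.apply_symm_apply]

end Cfsg.Agent.S4084
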