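import Cfsg.Statements.S4086
import Mathlib

set_option autoImplicit false
open Cfsg

namespace Cfsg.Agent.S4086

/-- For a finite group G the following are equivalent: every non-identity element has prime-power order; whenever two elements generate a cyclic subgroup, one of them is a power of the other (the enhanced power graph of G coincides with its power graph). -/
theorem result {G : Type*} [Group G] [Finite G] :
    (∀ g : G, g ≠ 1 → IsPrimePow (orderOf g)) ↔
    (∀ x y : G, IsCyclic ↥(Subgroup.closure ({x, y} : Set G)) → (x ∈ Subgroup.zpowers y ∨ y ∈ Subgroup.zpowers x)) := by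
  constructor
  · intro h x y hc
    set C := Subgroup.closure ({x, y} : Set G)
    obtain ⟨z, hz⟩ := hc.exists_generator
    let X : C := ⟨x, Subgroup.subset_closure (by simp)⟩
    let Y : C := ⟨y, Subgroup.subset_closure (by simp)⟩
    have sub : ∀ a b : C, orderOf a ∣ orderOf b → (a : G) ∈ Subgroup.zpowers (b : G) := by
      intro a b hab
      classical
      have : Fintype C := Fintype.ofFinite C
      have hs : (Finset.univ.filter fun c : C => c ∈ Subgroup.zpowers b) =
          Finset.univ.filter fun c : C => c ^ orderOf b = 1 := by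
        refine Finset.eq_of_subset_of_card_le ?_ ?_
        · intro c hc
          simp only [Finset.mem_filter, Finset.mem_univ, true_and] at hc ⊢
          obtain ⟨k, rfl⟩ := hc
          rw [← zpow_natCast, ← zpow_mul, mul_comm, zpow_mul, zpow_natCast, pow_orderOf_eq_one, one_zpow]
        · refine (IsCyclic.card_pow_eq_one_le (orderOf_pos b)).trans (le_of_eq ?_)
          rw [← Nat.card_zpowers, Nat.card_eq_fintype_card, Fintype.card_subtype]
      have ha : a ∈ Finset.univ.filter fun c : C => c ^ orderOf b = 1 := by
        simp [orderOf_dvd_iff_pow_eq_one.1 hab]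
      rw [← hs] at ha
      obtain ⟨k, hk⟩ := (Finset.mem_filter.1 ha).2
      exact ⟨k, by simpa using congrArg Subtype.val hk⟩
    by_cases hz1 : (z : G) = 1
    · left
      obtain ⟨k, hk⟩ := hz X
      have : x = 1 := by
        have := congrArg Subtype.val hk
        have hz' : z = 1 := Subtype.ext hz1
        subst hz'
        simpa [X] using this.symm
      rw [this]; exact one_mem _
    obtain ⟨p, k, hp, hk, hpk⟩ := (isPrimePow_nat_iff _).1 (h z hz1)
    have hord : ∀ a : C, ∃ i, i ≤ k ∧ orderOf a = p ^ i := by
      intro a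
      obtain ⟨j, hj⟩ := hz a
      refine (Nat.dvd_prime_pow hp).1 ?_
      rw [hpk, Subgroup.orderOf_coe]
      exact orderOf_dvd_of_mem_zpowers ⟨j, hj⟩
    obtain ⟨i, -, hi⟩ := hord X
    obtain ⟨j, -, hj⟩ := hord Y
    rcases le_total i j with hij | hij
    · exact Or.inl (sub X Y (by rw [hi, hj]; exact pow_dvd_pow p hij))
    · exact Or.inr (sub Y X (by rw [hi, hj]; exact pow_dvd_pow p hij))
  · intro h g hg
    set n := orderOf g with hn
    have hn0 : 0 < n := orderOf_pos g
    have hn1 : n ≠ 1 := fun e => hg (orderOf_eq_one_iff.1 e)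
    obtain ⟨p, hp, hpn⟩ := Nat.exists_prime_and_dvd hn1
    rw [isPrimePow_iff_unique_prime_dvd]
    refine ⟨p, ⟨hp, hpn⟩, ?_⟩
    rintro q ⟨hq, hqn⟩
    by_contra hne
    have e1 := orderOf_pow_orderOf_div (hn0.ne') hpn
    have e2 := orderOf_pow_orderOf_div (hn0.ne') hqn
    have hle : Subgroup.closure ({g ^ (n / p), g ^ (n / q)} : Set G) ≤ Subgroup.zpowers g := by
      rw [Subgroup.closure_le]
      rintro x (rfl | rfl) <;> exact pow_mem (Subgroup.mem_zpowers g) _
    rcases h _ _ (Subgroup.isCyclic_of_le hle) with hm | hm
    · have := orderOf_dvd_of_mem_zpowers hm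
      rw [e1, e2] at this
      exact hne ((Nat.prime_dvd_prime_iff_eq hp hq).1 this).symm
    · have := orderOf_dvd_of_mem_zpowers hm
      rw [e1, e2] at this
      exact hne ((Nat.prime_dvd_prime_iff_eq hq hp).1 this)

end Cfsg.Agent.S4086
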