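import Cfsg.Statements.S4088
import Cfsg.Agent.Lib.Solv.Thompson
import Cfsg.Agent.Lib.Solv.Subnormal
import Cfsg.Agent.Lib.Classical.SL2Char2
-- import your own Cfsg.Agent.* helpers here

set_option autoImplicit false
open Cfsg

namespace Cfsg.Agent.S4088

open Subgroup

/-- If `H < L` and `L` is a `p`-group then `H < L ⊓ N(H)`. -/
theorem lt_inf_normalizer' {G : Type*} [Group G] [Finite G] {p : ℕ} [Fact p.Prime] {H L : Subgroup G}
    (hL : IsPGroup p L) (hlt : H < L) : H < L ⊓ normalizer (H : Set G) := by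
  haveI : Group.IsNilpotent ↥L := hL.isNilpotent
  have hne : H.subgroupOf L < ⊤ := by
    rw [lt_top_iff_ne_top, ne_eq, subgroupOf_eq_top]
    exact hlt.not_ge
  have h := Group.normalizerCondition_of_isNilpotent (H.subgroupOf L) hne
  rw [← subgroupOf_normalizer_eq hlt.le] at h
  obtain ⟨x, hx, hxn⟩ := SetLike.exists_of_lt h
  refine lt_of_le_of_ne (le_inf hlt.le le_normalizer) (fun e => hxn ?_)
  rw [mem_subgroupOf] at hx ⊢
  rw [e]
  exact ⟨x.2, hx⟩

section
variable {G : Type*} [Group G] [Finite G]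
attribute [local instance] _root_.Classical.propDecidable

/-- The Möbius weights of the interval above `H`, defined by recursion. -/
noncomputable def wt (H : Subgroup G) : Subgroup G → ℤ :=
  wellFounded_lt.fix fun K ih =>
    letI := Fintype.ofFinite (Subgroup G)
    if K = H then 1 else -∑ J : {J : Subgroup G // H ≤ J ∧ J < K}, ih J.1 J.2.2

noncomputable def ivl [Fintype (Subgroup G)] (H L : Subgroup G) : Finset (Subgroup G) :=
  Finset.univ.filter fun J => H ≤ J ∧ J ≤ L

theorem wt_self (H : Subgroup G) : wt H H = 1 := by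
  rw [wt, WellFounded.fix_eq, if_pos rfl]

variable [Fintype (Subgroup G)]

theorem sum_ivl (H L : Subgroup G) (hlt : H < L) : ∑ J ∈ ivl H L, wt H J = 0 := by
  have e : wt H L = -∑ J : {J : Subgroup G // H ≤ J ∧ J < L}, wt H J.1 := by
    conv_lhs => rw [wt, WellFounded.fix_eq, if_neg hlt.ne']
    congr 1
    refine Finset.sum_congr ?_ (fun _ _ => rfl)
    ext; simp
  have hmem : L ∈ ivl H L := by simp [ivl, hlt.le]
  rw [← Finset.add_sum_erase _ _ hmem, e, Finset.sum_subtype ((ivl H L).erase L)
    (p := fun J => H ≤ J ∧ J < L) (fun J => ?_)]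
  · exact neg_add_cancel _
  · simp [ivl, lt_iff_le_and_ne]
    tauto

/-- Weisner's identity. -/
theorem weisner (H R : Subgroup G) (hR : H < R) (L : Subgroup G) :
    ∑ K ∈ (ivl H L).filter (fun K => K ⊔ R = L), wt H K = 0 := by
  induction L using WellFoundedLT.induction with
  | _ L ih =>
    by_cases hRL : R ≤ L
    · have h0 := sum_ivl H L (hR.trans_le hRL)
      rw [← Finset.sum_fiberwise_of_maps_to (t := Finset.univ.filter (fun L' => L' ≤ L))
        (g := fun K => K ⊔ R)] at h0
      · rw [Finset.sum_eq_single_of_mem L (by simp)] at h0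
        · exact h0
        · intro L' hL' hne
          have hle : L' ≤ L := (Finset.mem_filter.mp hL').2
          refine Eq.trans (Finset.sum_congr ?_ (fun _ _ => rfl)) (ih L' (lt_of_le_of_ne hle hne))
          ext K
          simp only [ivl, Finset.mem_filter, Finset.mem_univ, true_and]
          constructor
          · rintro ⟨⟨a, -⟩, c⟩; exact ⟨⟨a, c ▸ le_sup_left⟩, c⟩
          · rintro ⟨⟨a, b⟩, c⟩; exact ⟨⟨a, b.trans hle⟩, c⟩
      · intro K hK
        simp only [ivl, Finset.mem_filter, Finset.mem_univ, true_and] at hK ⊢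
        exact sup_le hK.2 hRL
    · refine Finset.sum_eq_zero fun K hK => absurd ?_ hRL
      exact (Finset.mem_filter.mp hK).2 ▸ le_sup_right

/-- Weights sum to zero over a down-closed family closed under joining with `R`. -/
theorem sum_cone (H R : Subgroup G) (hR : H < R) (D : Finset (Subgroup G))
    (hge : ∀ K ∈ D, H ≤ K) (hdown : ∀ K ∈ D, ∀ J, H ≤ J → J ≤ K → J ∈ D)
    (hjoin : ∀ K ∈ D, K ⊔ R ∈ D) : ∑ K ∈ D, wt H K = 0 := by
  rw [← Finset.sum_fiberwise_of_maps_to (t := D) (g := fun K => K ⊔ R) hjoin]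
  refine Finset.sum_eq_zero fun L hL => ?_
  refine Eq.trans (Finset.sum_congr ?_ (fun _ _ => rfl)) (weisner H R hR L)
  ext K
  simp only [ivl, Finset.mem_filter, Finset.mem_univ, true_and]
  constructor
  · rintro ⟨a, c⟩; exact ⟨⟨hge K a, c ▸ le_sup_left⟩, c⟩
  · rintro ⟨⟨a, b⟩, c⟩; exact ⟨hdown L hL K a b, c⟩

/-- Weights vanish outside the normalizer. -/
theorem wt_eq_zero {p : ℕ} [Fact p.Prime] (H L : Subgroup G) (hHL : H ≤ L) (hL : IsPGroup p L)
    (hn : ¬ L ≤ normalizer (H : Set G)) : wt H L = 0 := by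
  induction L using WellFoundedLT.induction with
  | _ L ih =>
    have hlt : H < L := lt_of_le_of_ne hHL fun e => hn (e ▸ le_normalizer)
    have hmem : L ∈ ivl H L := by simp [ivl, hlt.le]
    have h0 := sum_ivl H L hlt
    have h1 := sum_ivl H _ (lt_inf_normalizer' hL hlt)
    rw [← Finset.add_sum_erase _ _ hmem] at h0
    have hsub : ivl H (L ⊓ normalizer (H : Set G)) ⊆ (ivl H L).erase L := by
      intro J hJ
      simp only [ivl, Finset.mem_filter, Finset.mem_univ, true_and, le_inf_iff, Finset.mem_erase] at hJ ⊢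
      exact ⟨fun e => hn (e ▸ hJ.2.2), hJ.1, hJ.2.1⟩
    rw [← Finset.sum_subset hsub (fun J hJ hJ' => ?_), h1, add_zero] at h0
    · exact h0
    · simp only [ivl, Finset.mem_filter, Finset.mem_univ, true_and, le_inf_iff, Finset.mem_erase] at hJ hJ'
      exact ih J (lt_of_le_of_ne hJ.2.2 hJ.1) hJ.2.1 (hL.to_le hJ.2.2)
        (fun hh => hJ' ⟨hJ.2.1, hJ.2.2, hh⟩)

variable (p : ℕ)

/-- Maximal `p`-subgroups of `U`. -/
noncomputable def maxP (U : Subgroup G) : Finset (Subgroup G) :=
  Finset.univ.filter fun Q => IsPGroup p Q ∧ Q ≤ U ∧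
    ∀ R : Subgroup G, IsPGroup p R → R ≤ U → Q ≤ R → R = Q

/-- `g` stabilizes some `p`-subgroup of `U` containing `K`. -/
def Stab (U K : Subgroup G) (g : G) : Prop :=
  g ∈ U ∧ ∃ M : Subgroup G, IsPGroup p M ∧ K ≤ M ∧ M ≤ U ∧ g ∈ normalizer (M : Set G)

noncomputable def stabCount (U K : Subgroup G) : ℤ := (Nat.card {g : G // Stab p U K g} : ℤ)

noncomputable def supCount (U K : Subgroup G) : ℤ := (((maxP p U).filter (K ≤ ·)).card : ℤ)

variable {p} [hp : Fact p.Prime]

theorem exists_maxP {U K : Subgroup G} (hK : IsPGroup p K) (hKU : K ≤ U) :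
    ∃ Q ∈ maxP p U, K ≤ Q := by
  obtain ⟨Q, hQ1, hQ2⟩ := Finite.exists_le_maximal
    (p := fun Q : Subgroup G => IsPGroup p Q ∧ Q ≤ U) (a := K) ⟨hK, hKU⟩
  refine ⟨Q, ?_, hQ1⟩
  simp only [maxP, Finset.mem_filter, Finset.mem_univ, true_and]
  exact ⟨hQ2.prop.1, hQ2.prop.2, fun R a b c => (hQ2.eq_of_le ⟨a, b⟩ c).symm⟩

theorem card_maxP (U : Subgroup G) : (maxP p U).card = Nat.card (Sylow p ↥U) := by
  rw [← Nat.card_eq_finsetCard]
  refine (Nat.card_congr (Equiv.ofBijective (fun S : Sylow p ↥U =>
    (⟨(S : Subgroup ↥U).map U.subtype, ?_⟩ : {Q // Q ∈ maxP p U})) ⟨?_, ?_⟩)).symm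
  · simp only [maxP, Finset.mem_filter, Finset.mem_univ, true_and]
    refine ⟨S.isPGroup'.map _, map_subtype_le _, fun R a b c => ?_⟩
    have h1 : R.subgroupOf U = (S : Subgroup ↥U) := S.is_maximal'
      (a.of_equiv (subgroupOfEquivOfLe b).symm) (fun x hx => c ⟨x, hx, rfl⟩)
    rw [← h1, subgroupOf_map_subtype, inf_eq_left.mpr b]
  · intro S T h
    exact Sylow.ext (map_injective U.subtype_injective (congrArg Subtype.val h))
  · rintro ⟨Q, hQ⟩
    simp only [maxP, Finset.mem_filter, Finset.mem_univ, true_and] at hQ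
    obtain ⟨a, b, c⟩ := hQ
    refine ⟨⟨Q.subgroupOf U, a.of_equiv (subgroupOfEquivOfLe b).symm, fun {R} hR hle => ?_⟩, ?_⟩
    · have hQR : Q ≤ R.map U.subtype := fun x hx => ⟨⟨x, b hx⟩, hle hx, rfl⟩
      have h1 := c _ (hR.map U.subtype) (map_subtype_le _) hQR
      apply map_injective U.subtype_injective
      rw [h1, subgroupOf_map_subtype, inf_eq_left.mpr b]
    · exact Subtype.ext (show (Q.subgroupOf U).map U.subtype = Q by
        rw [subgroupOf_map_subtype, inf_eq_left.mpr b])

theorem card_maxP_mul {U Q : Subgroup G} (hQ : Q ∈ maxP p U) :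
    (maxP p U).card * Nat.card ↥(U ⊓ normalizer (Q : Set G)) = Nat.card ↥U := by
  simp only [maxP, Finset.mem_filter, Finset.mem_univ, true_and] at hQ
  obtain ⟨a, b, c⟩ := hQ
  let S : Sylow p ↥U := ⟨Q.subgroupOf U, a.of_equiv (subgroupOfEquivOfLe b).symm, fun {R} hR hle => by
      have hQR : Q ≤ R.map U.subtype := fun x hx => ⟨⟨x, b hx⟩, hle hx, rfl⟩
      have h1 := c _ (hR.map U.subtype) (map_subtype_le _) hQR
      apply map_injective U.subtype_injective
      rw [h1, subgroupOf_map_subtype, inf_eq_left.mpr b]⟩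
  have hS : normalizer ((S : Subgroup ↥U) : Set ↥U) = (normalizer (Q : Set G)).subgroupOf U :=
    (subgroupOf_normalizer_eq b).symm
  have hc : Nat.card ↥((normalizer (Q : Set G)).subgroupOf U) =
      Nat.card ↥(U ⊓ normalizer (Q : Set G)) := by
    rw [← inf_subgroupOf_left]
    exact Nat.card_congr (subgroupOfEquivOfLe inf_le_left).toEquiv
  rw [card_maxP, S.card_eq_index_normalizer]
  show (normalizer ((S : Subgroup ↥U) : Set ↥U)).index * _ = _
  rw [hS, ← hc]
  exact index_mul_card _

theorem main (U H : Subgroup G) (hH : IsPGroup p H) (hHU : H ≤ U) :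
    stabCount p U H * (maxP p U).card = supCount p U H * Nat.card ↥U := by
  induction U using WellFoundedLT.induction generalizing H with
  | _ U ihU =>
  induction H using WellFoundedGT.induction with
  | _ H ihH =>
  by_cases hUN : U ≤ normalizer (H : Set G)
  · -- `H` is normal in `U`
    have e1 : stabCount p U H = Nat.card ↥U := by
      unfold stabCount
      congr 1
      exact Nat.card_congr (Equiv.subtypeEquivRight fun g =>
        ⟨fun h => h.1, fun h => ⟨h, H, hH, le_rfl, hHU, hUN h⟩⟩)
    have e2 : supCount p U H = (maxP p U).card := by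
      unfold supCount
      congr 1
      rw [Finset.filter_true_of_mem]
      intro Q hQ
      simp only [maxP, Finset.mem_filter, Finset.mem_univ, true_and] at hQ
      have h1 := hQ.2.2 (Q ⊔ H) (hQ.1.to_sup_of_normal_right' hH (hQ.2.1.trans hUN))
        (sup_le hQ.2.1 hHU) le_sup_left
      exact le_sup_right.trans h1.le
    rw [e1, e2, mul_comm]
  · by_cases hmax : H ∈ maxP p U
    · have hmax' := hmax
      simp only [maxP, Finset.mem_filter, Finset.mem_univ, true_and] at hmax'
      have e1 : stabCount p U H = Nat.card ↥(U ⊓ normalizer (H : Set G)) := by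
        unfold stabCount
        congr 1
        exact Nat.card_congr (Equiv.subtypeEquivRight fun g =>
          ⟨fun ⟨h, M, m1, m2, m3, m4⟩ => ⟨h, hmax'.2.2 M m1 m3 m2 ▸ m4⟩,
            fun h => ⟨h.1, H, hH, le_rfl, hHU, h.2⟩⟩)
      have e2 : supCount p U H = 1 := by
        unfold supCount
        norm_cast
        rw [Finset.card_eq_one]
        refine ⟨H, Finset.eq_singleton_iff_unique_mem.mpr ⟨Finset.mem_filter.mpr ⟨hmax, le_rfl⟩, ?_⟩⟩
        intro Q hQ
        simp only [maxP, Finset.mem_filter, Finset.mem_univ, true_and] at hQ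
        exact hmax'.2.2 Q hQ.1.1 hQ.1.2.1 hQ.2
      rw [e1, e2, one_mul, mul_comm]
      exact_mod_cast card_maxP_mul hmax
    · -- the general case
      haveI := Fintype.ofFinite G
      set N := U ⊓ normalizer (H : Set G) with hNdef
      have hHN : H ≤ N := le_inf hHU le_normalizer
      have hNU : N < U := lt_of_le_of_ne inf_le_left fun e => hUN (e ▸ inf_le_right)
      let D : Subgroup G → Finset (Subgroup G) := fun V =>
        Finset.univ.filter fun K => IsPGroup p K ∧ H ≤ K ∧ K ≤ V
      have key : ∀ V : Subgroup G, (∀ Q ∈ maxP p V, Q ≠ H) →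
          ∑ K ∈ D V, wt H K * supCount p V K = 0 := by
        intro V hV
        have : ∀ K, supCount p V K = ∑ Q ∈ maxP p V, (if K ≤ Q then (1:ℤ) else 0) := fun K => by
          rw [supCount, Finset.sum_boole]
        simp only [this, Finset.mul_sum, mul_ite, mul_one, mul_zero]
        rw [Finset.sum_comm]
        refine Finset.sum_eq_zero fun Q hQ => ?_
        rw [← Finset.sum_filter]
        have hQ' := hQ
        simp only [maxP, Finset.mem_filter, Finset.mem_univ, true_and] at hQ'
        by_cases hHQ : H ≤ Q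
        · refine Eq.trans (Finset.sum_congr ?_ (fun _ _ => rfl))
            (sum_ivl H Q (lt_of_le_of_ne hHQ (hV Q hQ).symm))
          ext K
          simp only [D, ivl, Finset.mem_filter, Finset.mem_univ, true_and]
          exact ⟨fun h => ⟨h.1.2.1, h.2⟩,
            fun h => ⟨⟨hQ'.1.to_le h.2, h.1, h.2.trans hQ'.2.1⟩, h.2⟩⟩
        · refine Finset.sum_eq_zero fun K hK => absurd ?_ hHQ
          simp only [D, Finset.mem_filter] at hK
          exact hK.1.2.2.1.trans hK.2
      -- `H` is not maximal in `N`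
      obtain ⟨Q₀, hQ₀, hHQ₀⟩ := exists_maxP hH hHU
      have hQ₀' := hQ₀
      simp only [maxP, Finset.mem_filter, Finset.mem_univ, true_and] at hQ₀'
      have hgt := lt_inf_normalizer' hQ₀'.1 (lt_of_le_of_ne hHQ₀ fun e => hmax (e ▸ hQ₀))
      have hne1 : ∀ Q ∈ maxP p N, Q ≠ H := by
        intro Q hQ e
        simp only [maxP, Finset.mem_filter, Finset.mem_univ, true_and] at hQ
        subst e
        exact hgt.ne' (hQ.2.2 _ (hQ₀'.1.to_le inf_le_left) (inf_le_inf_right _ hQ₀'.2.1) hgt.le)
      have hne2 : ∀ Q ∈ maxP p U, Q ≠ H := fun Q hQ e => hmax (e ▸ hQ)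
      have hcount : ∀ V K, stabCount p V K = ∑ g : G, (if Stab p V K g then (1:ℤ) else 0) := by
        intro V K
        rw [stabCount, Finset.sum_boole, Nat.card_eq_fintype_card, Fintype.card_subtype]
      -- transfer of the weighted count to the normalizer
      have htrans : ∑ K ∈ D U, wt H K * stabCount p U K = ∑ K ∈ D N, wt H K * stabCount p N K := by
        simp only [hcount, Finset.mul_sum, mul_ite, mul_one, mul_zero]
        rw [Finset.sum_comm, Finset.sum_comm (s := D N)]
        refine Finset.sum_congr rfl fun g _ => ?_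
        rw [← Finset.sum_filter, ← Finset.sum_filter]
        by_cases hg : g ∈ normalizer (H : Set G)
        · refine (Finset.sum_subset ?_ ?_).symm
          · intro K hK
            simp only [D, Finset.mem_filter, Finset.mem_univ, true_and] at hK ⊢
            obtain ⟨⟨a, b, c⟩, hgN, M, m1, m2, m3, m4⟩ := hK
            exact ⟨⟨a, b, c.trans hNU.le⟩, hgN.1, M, m1, m2, m3.trans hNU.le, m4⟩
          · intro K hK hK'
            simp only [D, Finset.mem_filter, Finset.mem_univ, true_and] at hK hK'
            obtain ⟨⟨a, b, c⟩, hgU, M, m1, m2, m3, m4⟩ := hK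
            refine wt_eq_zero (p := p) H K b a fun hKn => hK' ?_
            refine ⟨⟨a, b, le_inf c hKn⟩, ⟨hgU, hg⟩, M ⊓ normalizer (H : Set G), m1.to_le inf_le_left,
              le_inf m2 hKn, inf_le_inf_right _ m3, ?_⟩
            rw [mem_normalizer_iff]
            intro x
            exact and_congr (mem_normalizer_iff.mp m4 x)
              (mem_normalizer_iff.mp (le_normalizer hg) x)
        · rw [Finset.sum_eq_zero (s := Finset.filter _ (D N)) fun K hK => absurd ?_ hg]
          swap
          · exact (Finset.mem_filter.mp hK).2.1.2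
          set E := (D U).filter (fun K => Stab p U K g) with hE
          rcases E.eq_empty_or_nonempty with h0 | ⟨K₀, hK₀⟩
          · rw [h0, Finset.sum_empty]
          let S : Set (Subgroup G) :=
            {M | IsPGroup p M ∧ H ≤ M ∧ M ≤ U ∧ g ∈ normalizer (M : Set G)}
          have hR1 : H ≤ sInf S := le_sInf fun M hM => hM.2.1
          have hR2 : g ∈ normalizer ((sInf S : Subgroup G) : Set G) := by
            rw [mem_normalizer_iff]
            intro x
            simp only [mem_sInf]
            exact forall₂_congr fun M hM => mem_normalizer_iff.mp hM.2.2.2 x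
          refine sum_cone H (sInf S) (lt_of_le_of_ne hR1 fun e => hg (e ▸ hR2)) E ?_ ?_ ?_
          · intro K hK
            simp only [hE, D, Finset.mem_filter] at hK
            exact hK.1.2.2.1
          · intro K hK J hJ1 hJ2
            simp only [hE, D, Finset.mem_filter, Finset.mem_univ, true_and] at hK ⊢
            obtain ⟨⟨a, b, c⟩, hgU, M, m1, m2, m3, m4⟩ := hK
            exact ⟨⟨a.to_le hJ2, hJ1, hJ2.trans c⟩, hgU, M, m1, hJ2.trans m2, m3, m4⟩
          · intro K hK
            simp only [hE, D, Finset.mem_filter, Finset.mem_univ, true_and] at hK ⊢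
            obtain ⟨⟨a, b, c⟩, hgU, M, m1, m2, m3, m4⟩ := hK
            have hle : K ⊔ sInf S ≤ M := sup_le m2 (sInf_le ⟨m1, b.trans m2, m3, m4⟩)
            exact ⟨⟨m1.to_le hle, b.trans le_sup_left, hle.trans m3⟩, hgU, M, m1, hle, m3, m4⟩
      have hN0 : (∑ K ∈ D N, wt H K * stabCount p N K) * (maxP p N).card = 0 := by
        rw [Finset.sum_mul, Finset.sum_congr rfl (g := fun K => wt H K * supCount p N K * Nat.card ↥N)
          (fun K hK => ?_), ← Finset.sum_mul, key N hne1, zero_mul]
        simp only [D, Finset.mem_filter, Finset.mem_univ, true_and] at hK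
        rw [mul_assoc, mul_assoc, ihU N hNU K hK.1 hK.2.2]
      have hN1 : ∑ K ∈ D N, wt H K * stabCount p N K = 0 := by
        refine (mul_eq_zero.mp hN0).resolve_right ?_
        obtain ⟨Q, hQ, -⟩ := exists_maxP hH hHN
        exact_mod_cast Finset.card_ne_zero_of_mem hQ
      have hfin : ∑ K ∈ D U, wt H K * (stabCount p U K * (maxP p U).card
          - supCount p U K * Nat.card ↥U) = 0 := by
        simp only [mul_sub, ← mul_assoc, Finset.sum_sub_distrib, ← Finset.sum_mul]
        rw [htrans, hN1, key U hne2, zero_mul, zero_mul, sub_zero]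
      rw [Finset.sum_eq_single_of_mem H] at hfin
      · rwa [wt_self, one_mul, sub_eq_zero] at hfin
      · simp [D, hH, hHU]
      · intro K hK hne
        simp only [D, Finset.mem_filter, Finset.mem_univ, true_and] at hK
        rw [ihH K (lt_of_le_of_ne hK.2.1 (Ne.symm hne)) hK.1 hK.2.2, sub_self, mul_zero]

end

/-- Subnormality of a `p`-subgroup in `H ⊔ ⟨g⟩`. -/
theorem stab_iff {G : Type*} [Group G] [Finite G] (p : ℕ) [Fact p.Prime] (H : Subgroup G)
    (hH : IsPGroup p H) (g : G) :
    (H.subgroupOf (H ⊔ Subgroup.zpowers g)).IsSubnormal ↔ Stab p (⊤ : Subgroup G) H g := by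
  constructor
  · intro h
    set L := H ⊔ Subgroup.zpowers g with hL
    have h1 := Solv.le_pCore_of_isSubnormal h
      (hH.of_equiv (Subgroup.subgroupOfEquivOfLe le_sup_left).symm)
    refine ⟨Subgroup.mem_top _, (Cfsg.pCore p ↥L).map L.subtype, (Solv.isPGroup_pCore p _).map _,
      fun x hx => ⟨⟨x, Subgroup.mem_sup_left hx⟩, h1 hx, rfl⟩, le_top, ?_⟩
    haveI := Solv.pCore_characteristic p ↥L
    have h2 := Subgroup.le_normalizer_map L.subtype (H := Cfsg.pCore p ↥L)
    refine h2 ⟨⟨g, Subgroup.mem_sup_right (Subgroup.mem_zpowers g)⟩, ?_, rfl⟩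
    rw [Subgroup.normalizer_eq_top]
    exact Subgroup.mem_top _
  · rintro ⟨-, M, m1, m2, -, m4⟩
    set L := H ⊔ Subgroup.zpowers g with hL
    have hle : L ≤ Subgroup.normalizer (M : Set G) :=
      sup_le (m2.trans Subgroup.le_normalizer) (Subgroup.zpowers_le.mpr m4)
    have hn : (M.subgroupOf L).Normal := Subgroup.normal_subgroupOf_of_le_normalizer hle
    have hpM : IsPGroup p ↥(M.subgroupOf L) :=
      m1.comap_of_injective L.subtype L.subtype_injective
    haveI : Group.IsNilpotent ↥(M.subgroupOf L) := hpM.isNilpotent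
    exact Subgroup.IsSubnormal.trans (K := M.subgroupOf L) (fun x hx => m2 hx)
      (Solv.isSubnormal_of_isNilpotent _) hn.isSubnormal

/-- Let G be a finite group, p a prime dividing the order of G, H a p-subgroup of G and P a Sylow p-subgroup of G. Call the subnormalizer of H the set of elements g of G such that H is subnormal in the subgroup generated by H and g. Then the number of elements of the subnormalizer of H equals the number of Sylow p-subgroups of G containing H times the order of N_G(P), and also equals the number of conjugates of H contained in P times the order of N_G(H). -/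
theorem result {G : Type*} [Group G] [Finite G] (p : ℕ) [Fact p.Prime]
    (hp : p ∣ Nat.card G) (H : Subgroup G) (hH : IsPGroup p H) (P : Sylow p G) :
    Nat.card {g : G // ((H).subgroupOf (H ⊔ Subgroup.zpowers g)).IsSubnormal} =
        Nat.card {Q : Sylow p G // H ≤ (Q : Subgroup G)} * Nat.card (Subgroup.normalizer ((P : Subgroup G) : Set G)) ∧
    Nat.card {g : G // ((H).subgroupOf (H ⊔ Subgroup.zpowers g)).IsSubnormal} =
        Nat.card {K : Subgroup G // K ≤ (P : Subgroup G) ∧ ∃ g : G, K = H.map (MulAut.conj g).toMonoidHom} *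
          Nat.card (Subgroup.normalizer (H : Set G)) := by
  classical
  haveI := Fintype.ofFinite (Subgroup G)
  -- the subnormalizer is the union of normalizers of p-overgroups
  have hiff := fun g : G => stab_iff p H hH g
  set A := Nat.card {g : G // ((H).subgroupOf (H ⊔ Subgroup.zpowers g)).IsSubnormal} with hA
  have hA' : stabCount p ⊤ H = (A : ℤ) := by
    rw [stabCount, hA, Nat.card_congr (Equiv.subtypeEquivRight hiff)]
  have hm := main ⊤ H hH le_top
  have hn : (maxP p (⊤ : Subgroup G)).card = Nat.card (Sylow p G) := by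
    rw [← Nat.card_eq_finsetCard]
    refine (Nat.card_congr (Equiv.ofBijective (fun S : Sylow p G =>
      (⟨(S : Subgroup G), ?_⟩ : {Q // Q ∈ maxP p (⊤ : Subgroup G)})) ⟨?_, ?_⟩)).symm
    · simp only [maxP, Finset.mem_filter, Finset.mem_univ, true_and]
      exact ⟨S.isPGroup', le_top, fun R a _ c => S.is_maximal' a c⟩
    · intro S T h; exact Sylow.ext (congrArg Subtype.val h :)
    · rintro ⟨Q, hQ⟩
      simp only [maxP, Finset.mem_filter, Finset.mem_univ, true_and] at hQ
      exact ⟨⟨Q, hQ.1, fun {R} a c => hQ.2.2 R a le_top c⟩, rfl⟩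
  have hl : supCount p ⊤ H = (Nat.card {Q : Sylow p G // H ≤ (Q : Subgroup G)} : ℤ) := by
    rw [supCount, ← Nat.card_eq_finsetCard]
    congr 1
    refine (Nat.card_congr (Equiv.ofBijective (fun S : {Q : Sylow p G // H ≤ (Q : Subgroup G)} =>
      (⟨(S.1 : Subgroup G), ?_⟩ :
        {Q // Q ∈ (maxP p (⊤ : Subgroup G)).filter (H ≤ ·)})) ⟨?_, ?_⟩)).symm
    · simp only [maxP, Finset.mem_filter, Finset.mem_univ, true_and]
      exact ⟨⟨S.1.isPGroup', le_top, fun R a _ c => S.1.is_maximal' a c⟩, S.2⟩
    · intro S T h; exact Subtype.ext (Sylow.ext (congrArg Subtype.val h :))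
    · rintro ⟨Q, hQ⟩
      simp only [maxP, Finset.mem_filter, Finset.mem_univ, true_and] at hQ
      exact ⟨⟨⟨Q, hQ.1.1, fun {R} a c => hQ.1.2.2 R a le_top c⟩, hQ.2⟩, rfl⟩
  rw [hA', hn, hl, Subgroup.card_top] at hm
  norm_cast at hm
  have hnP : Nat.card (Sylow p G) * Nat.card (Subgroup.normalizer ((P : Subgroup G) : Set G)) = Nat.card G := by
    rw [P.card_eq_index_normalizer]; exact Subgroup.index_mul_card _
  have hpos : 0 < Nat.card (Sylow p G) := Nat.card_pos
  have first : A = Nat.card {Q : Sylow p G // H ≤ (Q : Subgroup G)} *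
      Nat.card (Subgroup.normalizer ((P : Subgroup G) : Set G)) := by
    apply Nat.eq_of_mul_eq_mul_right hpos
    rw [hm, ← hnP]; ring
  refine ⟨first, ?_⟩
  -- double counting of pairs (Sylow subgroup, conjugate of H inside it)
  let C := {K : Subgroup G // ∃ g : G, K = H.map (MulAut.conj g).toMonoidHom}
  haveI : Fintype C := Fintype.ofFinite C
  haveI : Fintype (Sylow p G) := Fintype.ofFinite _
  have hrow : ∀ Q : Sylow p G, Nat.card {K : C // K.1 ≤ (Q : Subgroup G)} =
      Nat.card {K : Subgroup G // K ≤ (P : Subgroup G) ∧ ∃ g : G, K = H.map (MulAut.conj g).toMonoidHom} := by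
    intro Q
    obtain ⟨x, hx⟩ := MulAction.exists_smul_eq G Q P
    have hPQ : (P : Subgroup G) = (Q : Subgroup G).map (MulAut.conj x).toMonoidHom := by
      rw [← hx]; rfl
    refine Nat.card_congr (Equiv.ofBijective (fun K : {K : C // K.1 ≤ (Q : Subgroup G)} =>
      (⟨K.1.1.map (MulAut.conj x).toMonoidHom, ?_, ?_⟩ : {K : Subgroup G // K ≤ (P : Subgroup G) ∧
        ∃ g : G, K = H.map (MulAut.conj g).toMonoidHom})) ⟨?_, ?_⟩)
    · rw [hPQ]; exact Subgroup.map_mono K.2
    · obtain ⟨g, hg⟩ := K.1.2
      refine ⟨x * g, ?_⟩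
      rw [hg, Subgroup.map_map]; congr 1; ext y; simp [mul_assoc]
    · intro K K' h
      exact Subtype.ext (Subtype.ext (Subgroup.map_injective (MulEquiv.injective _) (congrArg Subtype.val h :)))
    · rintro ⟨K, hK, g, hg⟩
      have hKx : (H.map (MulAut.conj (x⁻¹ * g)).toMonoidHom).map (MulAut.conj x).toMonoidHom = K := by
        rw [hg, Subgroup.map_map]; congr 1; ext y; simp [mul_assoc]
      refine ⟨⟨⟨H.map (MulAut.conj (x⁻¹ * g)).toMonoidHom, _, rfl⟩, ?_⟩, Subtype.ext hKx⟩
      apply (Subgroup.map_le_map_iff_of_injective (f := (MulAut.conj x).toMonoidHom) (MulEquiv.injective _)).mp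
      rw [hKx, ← hPQ]; exact hK
  have hcol : ∀ K : C, Nat.card {Q : Sylow p G // K.1 ≤ (Q : Subgroup G)} =
      Nat.card {Q : Sylow p G // H ≤ (Q : Subgroup G)} := by
    rintro ⟨K, g, rfl⟩
    refine (Nat.card_congr (Equiv.subtypeEquiv (MulAction.toPerm g) fun Q => ?_)).symm
    show H ≤ (Q : Subgroup G) ↔ H.map (MulAut.conj g).toMonoidHom ≤
      (Q : Subgroup G).map (MulAut.conj g).toMonoidHom
    rw [Subgroup.map_le_map_iff_of_injective (MulEquiv.injective _)]
  have hpairs : Nat.card C * Nat.card {Q : Sylow p G // H ≤ (Q : Subgroup G)} =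
      Nat.card (Sylow p G) * Nat.card {K : Subgroup G // K ≤ (P : Subgroup G) ∧
        ∃ g : G, K = H.map (MulAut.conj g).toMonoidHom} := by
    have h := Finset.sum_card_bipartiteAbove_eq_sum_card_bipartiteBelow
      (r := fun (K : C) (Q : Sylow p G) => K.1 ≤ (Q : Subgroup G)) (s := Finset.univ) (t := Finset.univ)
    rw [Finset.sum_congr rfl (g := fun _ => Nat.card {Q : Sylow p G // H ≤ (Q : Subgroup G)})
      (fun K _ => by rw [← hcol K, Nat.card_eq_fintype_card, Fintype.card_subtype]; rfl),
      Finset.sum_congr rfl (s₁ := (Finset.univ : Finset (Sylow p G)))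
      (g := fun _ => Nat.card {K : Subgroup G // K ≤ (P : Subgroup G) ∧
        ∃ g : G, K = H.map (MulAut.conj g).toMonoidHom})
      (fun Q _ => by rw [← hrow Q, Nat.card_eq_fintype_card, Fintype.card_subtype]; rfl)] at h
    simp only [Finset.sum_const, smul_eq_mul, Finset.card_univ, ← Nat.card_eq_fintype_card] at h
    exact h
  have hC : Nat.card C * Nat.card (Subgroup.normalizer (H : Set G)) = Nat.card G :=
    Classical.SL2Two.card_conjugates_mul H
  haveI : Nonempty C := ⟨⟨_, 1, rfl⟩⟩
  apply Nat.eq_of_mul_eq_mul_right (Nat.card_pos : 0 < Nat.card C)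
  rw [first]
  calc Nat.card {Q : Sylow p G // H ≤ (Q : Subgroup G)} *
        Nat.card (Subgroup.normalizer ((P : Subgroup G) : Set G)) * Nat.card C
      = (Nat.card C * Nat.card {Q : Sylow p G // H ≤ (Q : Subgroup G)}) *
        Nat.card (Subgroup.normalizer ((P : Subgroup G) : Set G)) := by ring
    _ = Nat.card {K : Subgroup G // K ≤ (P : Subgroup G) ∧
          ∃ g : G, K = H.map (MulAut.conj g).toMonoidHom} * Nat.card G := by
        rw [hpairs, ← hnP]; ring
    _ = _ := by rw [← hC]; ring

end Cfsg.Agent.S4088
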