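import Cfsg.Statements.S4089
import Cfsg.Agent.Lib.Solv.Subnormal
import Cfsg.Agent.Lib.Solv.Thompson

set_option autoImplicit false
open scoped Pointwise
open Cfsg

namespace Cfsg.Agent.S4089

/-- Let G be a finite group, p a prime and H a p-subgroup of G. Then the set of elements g of G such that H is subnormal in the subgroup generated by H and g is the union of the normalizers N_G(R) over the subgroups R of G containing H with R = O_p(N_G(R)); and this set does not change when H is replaced by the intersection of all Sylow p-subgroups of G containing H. -/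
theorem result {G : Type*} [Group G] [Finite G] (p : ℕ) [Fact p.Prime]
    (H : Subgroup G) (hH : IsPGroup p H) :
    {g : G | ((H).subgroupOf (H ⊔ Subgroup.zpowers g)).IsSubnormal} =
      {g : G | ∃ R : Subgroup G, H ≤ R ∧ (Cfsg.pCore p (Subgroup.normalizer (R : Set G))).map (Subgroup.normalizer (R : Set G)).subtype = R ∧ g ∈ Subgroup.normalizer (R : Set G)} ∧
    ∀ g : G, (((H).subgroupOf (H ⊔ Subgroup.zpowers g)).IsSubnormal ↔
      (((sInf {K : Subgroup G | ∃ Q : Sylow p G, H ≤ (Q : Subgroup G) ∧ K = (Q : Subgroup G)})).subgroupOf ((sInf {K : Subgroup G | ∃ Q : Sylow p G, H ≤ (Q : Subgroup G) ∧ K = (Q : Subgroup G)}) ⊔ Subgroup.zpowers g)).IsSubnormal) := by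
  open Subgroup in
  have hup : ∀ (g : G) (R K : Subgroup G), K ≤ R → IsPGroup p R → g ∈ normalizer (R : Set G) →
      (K.subgroupOf (K ⊔ zpowers g)).IsSubnormal := by
    intro g R K hK hR hg
    have hle : K ⊔ zpowers g ≤ R ⊔ zpowers g := sup_le_sup_right hK _
    refine Cfsg.Agent.Solv.subnormal_subgroupOf_mono ?_ hle
    haveI := hR.isNilpotent
    have h1 : ((K.subgroupOf R)).IsSubnormal := Cfsg.Agent.Solv.isSubnormal_of_isNilpotent _
    have h2 : (R.subgroupOf (R ⊔ zpowers g)).Normal :=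
      (normal_subgroupOf_iff_le_normalizer le_sup_left).2 (sup_le le_normalizer (zpowers_le.2 hg))
    refine IsSubnormal.trans ?_ ?_ h2.isSubnormal
    · exact fun x hx => hK hx
    · have e : (K.subgroupOf (R ⊔ zpowers g)).subgroupOf (R.subgroupOf (R ⊔ zpowers g)) =
          (K.subgroupOf R).comap (subgroupOfEquivOfLe (le_sup_left : R ≤ R ⊔ zpowers g)).toMonoidHom := rfl
      rw [e]
      exact h1.comap _
  have hdown : ∀ g : G, (H.subgroupOf (H ⊔ zpowers g)).IsSubnormal →
      ∃ R : Subgroup G, H ≤ R ∧ IsPGroup p R ∧ g ∈ normalizer (R : Set G) := by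
    intro g hg
    set K := H ⊔ zpowers g
    refine ⟨(Cfsg.pCore p K).map K.subtype, ?_, (Cfsg.Agent.Solv.isPGroup_pCore p K).map _, ?_⟩
    · intro x hx
      exact ⟨⟨x, mem_sup_left hx⟩, Cfsg.Agent.Solv.le_pCore_of_isSubnormal hg (hH.comap_of_injective _ K.subtype_injective) hx, rfl⟩
    · have hn : ((Cfsg.pCore p K).map K.subtype).subgroupOf K = Cfsg.pCore p K :=
        comap_map_eq_self_of_injective K.subtype_injective _
      have h2 : (((Cfsg.pCore p K).map K.subtype).subgroupOf K).Normal := hn.symm ▸ inferInstance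
      exact (normal_subgroupOf_iff_le_normalizer (map_subtype_le _)).1 h2 (mem_sup_right (mem_zpowers g))
  set I := sInf {K : Subgroup G | ∃ Q : Sylow p G, H ≤ (Q : Subgroup G) ∧ K = (Q : Subgroup G)} with hI
  have hHI : H ≤ I := le_sInf (fun K ⟨Q, hQ, hK⟩ => hK ▸ hQ)
  constructor
  · ext g
    simp only [Set.mem_ofPred_eq]
    constructor
    · intro hg
      obtain ⟨R, hR⟩ := hdown g hg
      obtain ⟨M, ⟨hHM, hMp, hgM⟩, hmax⟩ := (Set.toFinite {R : Subgroup G | H ≤ R ∧ IsPGroup p R ∧ g ∈ normalizer (R : Set G)}).exists_maximal ⟨R, hR⟩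
      refine ⟨M, hHM, ?_, hgM⟩
      set N := normalizer (M : Set G)
      have hle : M ≤ (Cfsg.pCore p N).map N.subtype := by
        intro x hx
        haveI : (M.subgroupOf N).Normal := (normal_subgroupOf_iff_le_normalizer le_normalizer).2 le_rfl
        exact ⟨⟨x, le_normalizer hx⟩, Cfsg.Agent.Solv.le_pCore (N := M.subgroupOf N) (hMp.comap_of_injective _ N.subtype_injective) hx, rfl⟩
      refine le_antisymm (hmax ⟨hHM.trans hle, (Cfsg.Agent.Solv.isPGroup_pCore p N).map _, ?_⟩ hle) hle
      have hn : ((Cfsg.pCore p N).map N.subtype).subgroupOf N = Cfsg.pCore p N :=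
        comap_map_eq_self_of_injective N.subtype_injective _
      have h2 : (((Cfsg.pCore p N).map N.subtype).subgroupOf N).Normal := hn.symm ▸ inferInstance
      exact (normal_subgroupOf_iff_le_normalizer (map_subtype_le _)).1 h2 hgM
    · rintro ⟨R, hHR, hR, hg⟩
      exact hup g R H hHR (hR ▸ (Cfsg.Agent.Solv.isPGroup_pCore p _).map _) hg
  intro g
  constructor
  · intro hg
    obtain ⟨R, hHR, hR, hgR⟩ := hdown g hg
    set J := sInf {K : Subgroup G | ∃ Q : Sylow p G, R ≤ (Q : Subgroup G) ∧ K = (Q : Subgroup G)} with hJ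
    obtain ⟨Q, hQ⟩ := hR.exists_le_sylow
    refine hup g J I (le_sInf fun K ⟨S, hS, hK⟩ => sInf_le ⟨S, hHR.trans hS, hK⟩)
      (Q.isPGroup'.to_le (sInf_le ⟨Q, hQ, rfl⟩)) ?_
    have key : ∀ t ∈ normalizer (R : Set G), ∀ x ∈ J, t * x * t⁻¹ ∈ J := by
      intro t ht x hx
      rw [hJ, mem_sInf] at hx ⊢
      rintro _ ⟨S, hS, rfl⟩
      have h1 : R ≤ ((t⁻¹ • S : Sylow p G) : Subgroup G) := by
        intro r hr
        rw [Sylow.coe_subgroup_smul]
        refine ⟨t * r * t⁻¹, hS ((mem_normalizer_iff.1 ht r).1 hr), ?_⟩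
        simp [MulAut.conj_apply, mul_assoc]
      obtain ⟨s, hs, hsx⟩ := hx _ ⟨t⁻¹ • S, h1, rfl⟩
      have e : t * x * t⁻¹ = s := by
        rw [← hsx]; simp [MulAut.conj_apply, mul_assoc]
      rw [e]; exact hs
    rw [mem_normalizer_iff]
    intro x
    refine ⟨key g hgR x, fun h => ?_⟩
    have := key g⁻¹ (inv_mem hgR) _ h
    simpa [mul_assoc] using this
  · intro hg
    obtain ⟨Q, hQ⟩ := hH.exists_le_sylow
    have hIp : IsPGroup p I := Q.isPGroup'.to_le (sInf_le ⟨Q, hQ, rfl⟩)
    set K := I ⊔ zpowers g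
    refine hup g ((Cfsg.pCore p K).map K.subtype) H (hHI.trans ?_) ((Cfsg.Agent.Solv.isPGroup_pCore p K).map _) ?_
    · intro x hx
      exact ⟨⟨x, mem_sup_left hx⟩, Cfsg.Agent.Solv.le_pCore_of_isSubnormal hg (hIp.comap_of_injective _ K.subtype_injective) hx, rfl⟩
    · have hn : ((Cfsg.pCore p K).map K.subtype).subgroupOf K = Cfsg.pCore p K :=
        comap_map_eq_self_of_injective K.subtype_injective _
      have h2 : (((Cfsg.pCore p K).map K.subtype).subgroupOf K).Normal := hn.symm ▸ inferInstance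
      exact (normal_subgroupOf_iff_le_normalizer (map_subtype_le _)).1 h2 (mem_sup_right (mem_zpowers g))

end Cfsg.Agent.S4089
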