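import Cfsg.Statements.S4090
import Cfsg.Agent.S4088
-- import your own Cfsg.Agent.* helpers here

set_option autoImplicit false
open scoped BigOperators
open Cfsg

namespace Cfsg.Agent.S4090

open Subgroup S4088

variable {p : ℕ} [Fact p.Prime]

/-- Elements stabilizing a `p`-subgroup containing `H`. -/
noncomputable def cnt (p : ℕ) {G : Type*} [Group G] (H : Subgroup G) : ℕ :=
  Nat.card {g : G // Stab p (⊤ : Subgroup G) H g}

theorem card_map_eq {G Q : Type*} [Group G] [Group Q] (f : G →* Q) (R : Subgroup G)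
    (h : ∀ x ∈ R, f x = 1 → x = 1) : Nat.card ↥(R.map f) = Nat.card ↥R := by
  refine (Nat.card_congr (Equiv.ofBijective (fun x : R => (⟨f x, x, x.2, rfl⟩ : R.map f)) ⟨?_, ?_⟩)).symm
  · intro x y e
    have e' : f x = f y := congrArg Subtype.val e
    have := h _ (R.mul_mem (R.inv_mem x.2) y.2) (by simp [e'])
    exact Subtype.ext (inv_mul_eq_one.mp this)
  · rintro ⟨_, x, hx, rfl⟩
    exact ⟨⟨x, hx⟩, rfl⟩

section
variable {G Q : Type*} [Group G] [Finite G] [Group Q] [Finite Q] (f : G →* Q)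

theorem card_comap_eq (hf : Function.Surjective f) (T : Set Q) :
    Nat.card {g : G // f g ∈ T} = Nat.card ↥f.ker * Nat.card T := by
  choose s hs using hf
  rw [← Nat.card_prod]
  refine Nat.card_congr
    { toFun := fun g => (⟨(s (f g))⁻¹ * g.1, by simp [MonoidHom.mem_ker, hs]⟩, ⟨f g, g.2⟩)
      invFun := fun x => ⟨s x.2 * x.1.1, by
        simp [hs, MonoidHom.mem_ker.mp x.1.2]⟩
      left_inv := fun g => Subtype.ext (by simp)
      right_inv := fun ⟨⟨n, hn⟩, ⟨q, hq⟩⟩ => by
        have hn' : f n = 1 := hn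
        refine Prod.ext (Subtype.ext ?_) (Subtype.ext ?_) <;> simp [hs, hn'] }

/-- A kernel of `p`-power order. -/
theorem cnt_step_p (hf : Function.Surjective f) (hN : IsPGroup p f.ker) (H : Subgroup G) :
    cnt p H = Nat.card ↥f.ker * cnt p (H.map f) := by
  rw [cnt, cnt, show Nat.card {q : Q // Stab p (⊤ : Subgroup Q) (H.map f) q} =
    Nat.card ({q : Q | Stab p (⊤ : Subgroup Q) (H.map f) q} : Set Q) from rfl, ← card_comap_eq f hf]
  refine Nat.card_congr (Equiv.subtypeEquivRight fun g => ⟨?_, ?_⟩)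
  · rintro ⟨-, M, m1, m2, -, m4⟩
    exact ⟨mem_top _, M.map f, m1.map f, Subgroup.map_mono m2, le_top,
      le_normalizer_map f ⟨g, m4, rfl⟩⟩
  · rintro ⟨-, M, m1, m2, -, m4⟩
    exact ⟨mem_top _, M.comap f, m1.comap_of_ker_isPGroup f hN, map_le_iff_le_comap.mp m2, le_top,
      le_normalizer_comap f m4⟩

/-- A kernel of order prime to `p`. -/
theorem cnt_step_p' (hf : Function.Surjective f) (hN : (Nat.card ↥f.ker).Coprime p) (H : Subgroup G)
    (hH : IsPGroup p H) :
    cnt p H = Nat.card ↥(f.ker ⊓ centralizer (H : Set G)) * cnt p (H.map f) := by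
  classical
  have hpp : p.Prime := Fact.out
  have hker : ∀ R : Subgroup G, IsPGroup p R → ∀ x ∈ R, f x = 1 → x = 1 := by
    intro R hR x hx hx1
    obtain ⟨k, hk⟩ := IsPGroup.iff_orderOf.mp hR ⟨x, hx⟩
    rw [Subgroup.orderOf_mk] at hk
    rw [← orderOf_eq_one_iff]
    have h1 : orderOf x ∣ Nat.card ↥f.ker :=
      Subgroup.orderOf_dvd_natCard _ (MonoidHom.mem_ker.mpr hx1)
    rw [hk] at h1 ⊢
    exact Nat.eq_one_of_dvd_coprimes (Nat.Coprime.pow_right k hN) h1 dvd_rfl
  have hmap : ∀ (g : G) (M : Subgroup G), g ∈ normalizer (M : Set G) →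
      f g ∈ normalizer ((M.map f : Subgroup Q) : Set Q) :=
    fun g M hg => le_normalizer_map f ⟨g, hg, rfl⟩
  -- the least stable subgroup downstairs
  let S : Q → Set (Subgroup Q) := fun q =>
    {M | IsPGroup p M ∧ H.map f ≤ M ∧ q ∈ normalizer (M : Set Q)}
  let Rb : Q → Subgroup Q := fun q => sInf (S q)
  have hRb : ∀ q, Stab p (⊤ : Subgroup Q) (H.map f) q → Rb q ∈ S q := by
    rintro q ⟨-, M, m1, m2, -, m4⟩
    refine ⟨m1.to_le (sInf_le ⟨m1, m2, m4⟩), le_sInf fun M' hM' => hM'.2.1, ?_⟩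
    rw [mem_normalizer_iff]
    intro x
    simp only [Rb, mem_sInf]
    exact forall₂_congr fun M' hM' => mem_normalizer_iff.mp hM'.2.2 x
  let Z : Q → Set (Subgroup G) := fun q =>
    {R | IsPGroup p R ∧ H ≤ R ∧ R.map f = Rb q}
  -- every stabilizing element normalizes a member of `Z`
  have hex : ∀ g, Stab p (⊤ : Subgroup G) H g →
      ∃ R ∈ Z (f g), g ∈ normalizer (R : Set G) := by
    rintro g ⟨-, M, m1, m2, -, m4⟩
    have hq : Stab p (⊤ : Subgroup Q) (H.map f) (f g) :=
      ⟨mem_top _, M.map f, m1.map f, Subgroup.map_mono m2, le_top, hmap g M m4⟩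
    obtain ⟨r1, r2, r3⟩ := hRb _ hq
    have hX : g ∈ normalizer (((Rb (f g)).comap f : Subgroup G) : Set G) := le_normalizer_comap f r3
    have hn : g ∈ normalizer ((M ⊓ (Rb (f g)).comap f : Subgroup G) : Set G) := by
      rw [mem_normalizer_iff]
      intro x
      exact and_congr (mem_normalizer_iff.mp m4 x) (mem_normalizer_iff.mp hX x)
    refine ⟨M ⊓ (Rb (f g)).comap f, ⟨m1.to_le inf_le_left, le_inf m2 (map_le_iff_le_comap.mp r2),
      le_antisymm (map_le_iff_le_comap.mpr inf_le_right) (sInf_le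
        ⟨(m1.to_le inf_le_left).map f, Subgroup.map_mono (le_inf m2 (map_le_iff_le_comap.mp r2)),
          hmap g _ hn⟩)⟩, hn⟩
  -- and only one
  have huniq : ∀ g, ∀ R ∈ Z (f g), ∀ R' ∈ Z (f g), g ∈ normalizer (R : Set G) →
      g ∈ normalizer (R' : Set G) → R ≤ R' := by
    intro g R hR R' hR' hg hg'
    have hn : g ∈ normalizer ((R ⊓ R' : Subgroup G) : Set G) := by
      rw [mem_normalizer_iff]
      intro x
      exact and_congr (mem_normalizer_iff.mp hg x) (mem_normalizer_iff.mp hg' x)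
    have hle : Rb (f g) ≤ (R ⊓ R').map f := sInf_le
      ⟨(hR.1.to_le inf_le_left).map f, Subgroup.map_mono (le_inf hR.2.1 hR'.2.1), hmap g _ hn⟩
    intro x hx
    obtain ⟨y, hy, e⟩ := hle (hR.2.2 ▸ ⟨x, hx, rfl⟩ : f x ∈ Rb (f g))
    have := hker R hR.1 (x⁻¹ * y) (R.mul_mem (R.inv_mem hx) hy.1) (by simp [e])
    rw [inv_mul_eq_one] at this
    exact this ▸ hy.2
  set C := f.ker ⊓ centralizer (H : Set G) with hC
  -- each fibre has as many points as `C`
  have hfib : ∀ q, Stab p (⊤ : Subgroup Q) (H.map f) q →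
      Nat.card {g : G // Stab p (⊤ : Subgroup G) H g ∧ f g = q} = Nat.card ↥C := by
    intro q hq
    obtain ⟨r1, r2, r3⟩ := hRb q hq
    set X := (Rb q).comap f with hX
    obtain ⟨T, hT⟩ := IsPGroup.exists_le_sylow
      (hH.of_equiv (subgroupOfEquivOfLe (map_le_iff_le_comap.mp r2 : H ≤ X)).symm)
    set R₀ := (T : Subgroup ↥X).map X.subtype with hR₀
    have hR₀p : IsPGroup p R₀ := T.isPGroup'.map _
    have hR₀X : R₀ ≤ X := map_subtype_le _
    have hHR₀ : H ≤ R₀ := fun x hx =>
      ⟨⟨x, map_le_iff_le_comap.mp r2 hx⟩, hT hx, rfl⟩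
    have hR₀map : R₀.map f = Rb q := by
      refine eq_of_le_of_card_ge (map_le_iff_le_comap.mpr hR₀X) ?_
      have e1 : Nat.card ↥(R₀.map f) = Nat.card ↥(T : Subgroup ↥X) := by
        rw [card_map_eq f R₀ (hker R₀ hR₀p), hR₀, Subgroup.card_map_of_injective X.subtype_injective]
      have e2 : Nat.card ↥X = Nat.card ↥f.ker * Nat.card ↥(Rb q) := card_comap_eq f hf (Rb q : Set Q)
      obtain ⟨k, hk⟩ := IsPGroup.iff_card.mp r1
      rw [e1, T.card_eq_multiplicity, e2, Nat.factorization_mul Nat.card_pos.ne' Nat.card_pos.ne',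
        Finsupp.add_apply, hk, hpp.factorization_pow, Finsupp.single_eq_same,
        Nat.factorization_eq_zero_of_not_dvd (hpp.coprime_iff_not_dvd.mp hN.symm), zero_add]
    obtain ⟨g₁, rfl⟩ := hf q
    have hg₁ : g₁ ∈ normalizer (X : Set G) := le_normalizer_comap f r3
    -- move `g₁` into the normalizer of `R₀`
    obtain ⟨g₀, hg₀, hfg₀⟩ : ∃ g₀, g₀ ∈ normalizer (R₀ : Set G) ∧ f g₀ = f g₁ := by
      have hc : R₀.map (MulAut.conj g₁).toMonoidHom ≤ X := by
        rintro _ ⟨x, hx, rfl⟩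
        simpa using (mem_normalizer_iff.mp hg₁ x).mp (hR₀X hx)
      have hcp : IsPGroup p ↥((R₀.map (MulAut.conj g₁).toMonoidHom).subgroupOf X) :=
        (hR₀p.map _).of_equiv (subgroupOfEquivOfLe hc).symm
      obtain ⟨T', hT'⟩ := hcp.exists_le_sylow
      obtain ⟨x, hx⟩ := MulAction.exists_smul_eq ↥X T' T
      obtain ⟨r, hr, hfr⟩ : f (x : G) ∈ R₀.map f := hR₀map ▸ x.2
      refine ⟨r⁻¹ * x * g₁, ?_, by simp [hfr]⟩
      have hxg : (x : G) * g₁ ∈ normalizer (R₀ : Set G) := by
        refine mem_normalizer_fintype fun y hy => ?_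
        have h1 : (⟨g₁ * y * g₁⁻¹, hc ⟨y, hy, by simp⟩⟩ : ↥X) ∈ (T' : Subgroup ↥X) :=
          hT' ⟨y, hy, by simp⟩
        have h2 : x * (⟨g₁ * y * g₁⁻¹, hc ⟨y, hy, by simp⟩⟩ : ↥X) * x⁻¹ ∈ (T : Subgroup ↥X) := by
          rw [← hx]
          exact ⟨_, h1, by simp⟩
        exact ⟨_, h2, by simp [mul_assoc]⟩
      rw [mul_assoc]
      exact Subgroup.mul_mem _ (le_normalizer (R₀.inv_mem hr)) hxg
    -- `N_N(R₀)` centralizes `R₀`
    let W := (C ⊓ normalizer (R₀ : Set G)).subgroupOf C
    have hkerC : ∀ n : G, f n = 1 → n ∈ normalizer (R₀ : Set G) → n ∈ C := by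
      intro n hn hn'
      refine ⟨hn, mem_centralizer_iff.mpr fun h hh => ?_⟩
      have h1 : h⁻¹ * (n * h * n⁻¹) = 1 := hker R₀ hR₀p _
        (R₀.mul_mem (R₀.inv_mem (hHR₀ hh)) ((mem_normalizer_iff.mp hn' h).mp (hHR₀ hh)))
        (by simp [hn])
      rw [inv_mul_eq_one, eq_mul_inv_iff_mul_eq] at h1
      exact h1
    let conjR : G → Subgroup G := fun a => R₀.map (MulAut.conj a).toMonoidHom
    have hconjZ : ∀ c ∈ C, conjR c ∈ Z (f g₁) := by
      intro c hc
      refine ⟨hR₀p.map _, fun h hh => ⟨h, hHR₀ hh, ?_⟩, ?_⟩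
      · simp [← mem_centralizer_iff.mp hc.2 h hh]
      · rw [← hR₀map, Subgroup.map_map]
        congr 1
        ext y
        simp [MonoidHom.mem_ker.mp hc.1]
    have hnorm : ∀ c g : G, g ∈ normalizer (R₀ : Set G) →
        c * g * c⁻¹ ∈ normalizer ((conjR c : Subgroup G) : Set G) := by
      intro c g hg
      exact le_normalizer_map _ ⟨g, hg, by simp⟩
    rw [Subgroup.card_eq_card_quotient_mul_card_subgroup W, ← Nat.card_prod]
    refine (Nat.card_congr (Equiv.ofBijective (fun x : (↥C ⧸ W) × ↥W =>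
      (⟨(x.1.out : G) * ((x.2 : ↥C) * g₀) * (x.1.out : G)⁻¹, ?_, ?_⟩ :
        {g : G // Stab p (⊤ : Subgroup G) H g ∧ f g = f g₁})) ⟨?_, ?_⟩)).symm
    · exact ⟨mem_top _, conjR (x.1.out : G), (hconjZ _ x.1.out.2).1, (hconjZ _ x.1.out.2).2.1, le_top,
        hnorm _ _ (Subgroup.mul_mem _ x.2.2.2 hg₀)⟩
    · simp [MonoidHom.mem_ker.mp x.1.out.2.1, MonoidHom.mem_ker.mp x.2.1.2.1, hfg₀]
    · rintro ⟨a, w⟩ ⟨a', w'⟩ h
      have h' : (a.out : G) * ((w : ↥C) * g₀) * (a.out : G)⁻¹ =
          (a'.out : G) * ((w' : ↥C) * g₀) * (a'.out : G)⁻¹ := congrArg Subtype.val h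
      have n1 := hnorm a.out (((w : ↥C) : G) * g₀) (Subgroup.mul_mem _ w.2.2 hg₀)
      have n2 := hnorm a'.out (((w' : ↥C) : G) * g₀) (Subgroup.mul_mem _ w'.2.2 hg₀)
      have hf1 : f ((a.out : G) * ((w : ↥C) * g₀) * (a.out : G)⁻¹) = f g₁ := by
        simp [MonoidHom.mem_ker.mp a.out.2.1, MonoidHom.mem_ker.mp w.1.2.1, hfg₀]
      rw [← h'] at n2
      have heq : conjR a.out = conjR a'.out := le_antisymm
        (huniq _ _ (hf1 ▸ hconjZ _ a.out.2) _ (hf1 ▸ hconjZ _ a'.out.2) n1 n2)
        (huniq _ _ (hf1 ▸ hconjZ _ a'.out.2) _ (hf1 ▸ hconjZ _ a.out.2) n2 n1)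
      have ha : a = a' := by
        rw [← QuotientGroup.out_eq' a, ← QuotientGroup.out_eq' a', QuotientGroup.eq]
        refine ⟨(a.out⁻¹ * a'.out).2, mem_normalizer_fintype fun y hy => ?_⟩
        have : (a'.out : G) * y * (a'.out : G)⁻¹ ∈ conjR a.out := heq ▸ ⟨y, hy, by simp⟩
        obtain ⟨z, hz, e⟩ := this
        simp only [MulEquiv.coe_toMonoidHom, MulAut.conj_apply] at e
        show (a.out : G)⁻¹ * (a'.out : G) * y * ((a.out : G)⁻¹ * (a'.out : G))⁻¹ ∈ R₀
        rw [show (a.out : G)⁻¹ * (a'.out : G) * y * ((a.out : G)⁻¹ * (a'.out : G))⁻¹ =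
          (a.out : G)⁻¹ * ((a'.out : G) * y * (a'.out : G)⁻¹) * (a.out : G) by group, ← e,
          show (a.out : G)⁻¹ * ((a.out : G) * z * (a.out : G)⁻¹) * (a.out : G) = z by group]
        exact hz
      subst ha
      simp only [mul_left_inj, mul_right_inj] at h'
      exact Prod.ext rfl (Subtype.ext (Subtype.ext h'))
    · rintro ⟨g, hg, hgq⟩
      obtain ⟨R, hR, hgR⟩ := hex g hg
      rw [hgq] at hR
      -- `R` is conjugate to `R₀` by an element of `C`
      have hRX : R ≤ X := map_le_iff_le_comap.mp hR.2.2.le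
      obtain ⟨T', hT'⟩ := (hR.1.of_equiv (subgroupOfEquivOfLe hRX).symm).exists_le_sylow
      obtain ⟨x, hx⟩ := MulAction.exists_smul_eq ↥X T T'
      obtain ⟨r, hr, hfr⟩ : f (x : G) ∈ R₀.map f := hR₀map ▸ x.2
      set n := (x : G) * r⁻¹ with hn
      have hn1 : f n = 1 := by simp [hn, hfr]
      have hRn : ∀ y ∈ R, n⁻¹ * y * n ∈ R₀ := by
        intro y hy
        have h1 : (⟨y, hRX hy⟩ : ↥X) ∈ (T' : Subgroup ↥X) := hT' hy
        rw [← hx] at h1
        obtain ⟨z, hz, e⟩ := h1
        have hzR : (z : G) ∈ R₀ := ⟨z, hz, rfl⟩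
        have e' : (x : G) * z * (x : G)⁻¹ = y := by
          simpa using congrArg Subtype.val e
        rw [show n⁻¹ * y * n = r * z * r⁻¹ by rw [hn, ← e']; group]
        exact R₀.mul_mem (R₀.mul_mem hr hzR) (R₀.inv_mem hr)
      have hnC : n ∈ C := by
        refine ⟨hn1, mem_centralizer_iff.mpr fun h hh => ?_⟩
        have h1 : h⁻¹ * (n⁻¹ * h * n) = 1 := hker R₀ hR₀p _
          (R₀.mul_mem (R₀.inv_mem (hHR₀ hh)) (hRn h (hR.2.1 hh))) (by simp [hn1])
        rw [inv_mul_eq_one, mul_assoc, eq_inv_mul_iff_mul_eq] at h1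
        exact h1.symm
      set a : ↥C ⧸ W := QuotientGroup.mk ⟨n, hnC⟩ with ha
      obtain ⟨v, hv⟩ := QuotientGroup.mk_out_eq_mul W ⟨n, hnC⟩
      have hRle : R ≤ conjR n := fun y hy => ⟨_, hRn y hy, by simp [mul_assoc]⟩
      have hReq : R = conjR n := eq_of_le_of_card_ge hRle (by
        have i1 := card_map_eq f R (hker R hR.1)
        have i2 := card_map_eq f (conjR n) (hker _ (hR₀p.map _))
        rw [← i1, ← i2, hR.2.2, (hconjZ n hnC).2.2])
      have hgn : n⁻¹ * g * n ∈ normalizer (R₀ : Set G) := by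
        refine mem_normalizer_fintype fun y hy => ?_
        have h1 : g * (n * y * n⁻¹) * g⁻¹ ∈ R :=
          (mem_normalizer_iff.mp hgR _).mp (hReq ▸ ⟨y, hy, by simp⟩)
        have h2 := hRn _ h1
        show n⁻¹ * g * n * y * (n⁻¹ * g * n)⁻¹ ∈ R₀
        rw [show n⁻¹ * g * n * y * (n⁻¹ * g * n)⁻¹ = n⁻¹ * (g * (n * y * n⁻¹) * g⁻¹) * n by group]
        exact h2
      have hout : (a.out : G) = n * ((v : ↥C) : G) := by rw [ha, hv]; rfl
      set z := (a.out : G)⁻¹ * g * (a.out : G) * g₀⁻¹ with hz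
      have hz1 : f z = 1 := by
        simp [hz, hgq, hfg₀, MonoidHom.mem_ker.mp a.out.2.1]
      have hz2 : z ∈ normalizer (R₀ : Set G) := by
        refine Subgroup.mul_mem _ ?_ (Subgroup.inv_mem _ hg₀)
        rw [hout, show (n * ((v : ↥C) : G))⁻¹ * g * (n * ((v : ↥C) : G)) =
          ((v : ↥C) : G)⁻¹ * (n⁻¹ * g * n) * ((v : ↥C) : G) by group]
        exact Subgroup.mul_mem _ (Subgroup.mul_mem _ (Subgroup.inv_mem _ v.2.2) hgn) v.2.2
      have hzC := hkerC z hz1 hz2
      refine ⟨(a, ⟨⟨z, hzC⟩, hzC, hz2⟩), Subtype.ext ?_⟩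
      show (a.out : G) * (z * g₀) * (a.out : G)⁻¹ = g
      rw [hz]; group
  have hmaps : ∀ g, Stab p (⊤ : Subgroup G) H g → Stab p (⊤ : Subgroup Q) (H.map f) (f g) := by
    rintro g ⟨-, M, m1, m2, -, m4⟩
    exact ⟨mem_top _, M.map f, m1.map f, Subgroup.map_mono m2, le_top, hmap g M m4⟩
  haveI := Fintype.ofFinite Q
  rw [cnt, cnt, ← Nat.card_congr (Equiv.sigmaFiberEquiv
    (fun g : {g : G // Stab p (⊤ : Subgroup G) H g} =>
      (⟨f g, hmaps g g.2⟩ : {q : Q // Stab p (⊤ : Subgroup Q) (H.map f) q}))),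
    Nat.card_sigma, Finset.sum_congr rfl (fun q _ => Eq.trans (Nat.card_congr ?_) (hfib q.1 q.2))]
  · rw [Finset.sum_const, smul_eq_mul, Finset.card_univ, ← Nat.card_eq_fintype_card, mul_comm]
  · exact
      { toFun := fun g => ⟨g.1.1, g.1.2, congrArg Subtype.val g.2⟩
        invFun := fun g => ⟨⟨g.1, g.2.1⟩, Subtype.ext g.2.2⟩
        left_inv := fun _ => rfl
        right_inv := fun _ => rfl }

end

/-- Let G be a finite p-solvable group, H a p-subgroup of G and P a Sylow p-subgroup, and fix a chain of normal subgroups 1 = M₀ ≤ M₁ ≤ ⋯ ≤ Mₙ = G of G each of whose factors is a p-group or a p'-group. Then the number of elements g of G such that H is subnormal in the subgroup generated by H and g equals the order of P times the product, over the factors Mᵢ₊₁/Mᵢ of order prime to p, of the order of the centralizer of H in Mᵢ₊₁/Mᵢ (counted as the number of u ∈ Mᵢ₊₁ with [h, u] ∈ Mᵢ for all h ∈ H, divided by the order of Mᵢ). -/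
theorem result {G : Type*} [Group G] [Finite G] (p : ℕ) [Fact p.Prime]
    (hG : Cfsg.IsPSolvable p G) (H : Subgroup G) (hH : IsPGroup p H) (P : Sylow p G)
    (n : ℕ) (M : Fin (n + 1) → Subgroup G) (h0 : M 0 = ⊥) (hn : M (Fin.last n) = ⊤) (hmono : Monotone M)
    (hnormal : ∀ i, (M i).Normal)
    (hfac : ∀ i : Fin n, (∃ m : ℕ, (M i.castSucc).relIndex (M i.succ) = p ^ m) ∨ ((M i.castSucc).relIndex (M i.succ)).Coprime p) :
    Nat.card {g : G // ((H).subgroupOf (H ⊔ Subgroup.zpowers g)).IsSubnormal} =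
      Nat.card (P : Subgroup G) *
        ∏ i : Fin n, (if ((M i.castSucc).relIndex (M i.succ)).Coprime p then
          Nat.card {u : G // u ∈ M i.succ ∧ ∀ h ∈ H, h * u * h⁻¹ * u⁻¹ ∈ M i.castSucc} / Nat.card (M i.castSucc)
          else 1) := by
  classical
  haveI := fun i => hnormal i
  have hp : p.Prime := Fact.out
  let c : Fin n → ℕ := fun i => if ((M i.castSucc).relIndex (M i.succ)).Coprime p then
      Nat.card {u : G // u ∈ M i.succ ∧ ∀ h ∈ H, h * u * h⁻¹ * u⁻¹ ∈ M i.castSucc} / Nat.card (M i.castSucc)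
      else 1
  let e : Fin n → ℕ := fun i => if ((M i.castSucc).relIndex (M i.succ)).Coprime p then 1
      else (M i.castSucc).relIndex (M i.succ)
  let a : Fin (n + 1) → ℕ := fun i => cnt p (H.map (QuotientGroup.mk' (M i)))
  -- one step of the series
  have hstep : ∀ i : Fin n, a i.castSucc = e i * c i * a i.succ := by
    intro i
    have hle : M i.castSucc ≤ M i.succ := hmono Fin.castSucc_lt_succ.le
    let f : G ⧸ M i.castSucc →* G ⧸ M i.succ :=
      QuotientGroup.map _ _ (MonoidHom.id G) (by simpa using hle)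
    have hf : Function.Surjective f := by
      intro q
      obtain ⟨g, rfl⟩ := QuotientGroup.mk_surjective q
      exact ⟨QuotientGroup.mk g, rfl⟩
    have hmapH : (H.map (QuotientGroup.mk' (M i.castSucc))).map f = H.map (QuotientGroup.mk' (M i.succ)) := by
      rw [Subgroup.map_map]; rfl
    have hkerf : f.ker = (M i.succ).map (QuotientGroup.mk' (M i.castSucc)) := by
      ext q
      obtain ⟨g, rfl⟩ := QuotientGroup.mk_surjective q
      constructor
      · intro h; exact ⟨g, (QuotientGroup.eq_one_iff g).mp h, rfl⟩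
      · rintro ⟨x, hx, hxe⟩
        rw [← hxe]; exact (QuotientGroup.eq_one_iff x).mpr hx
    have hkc : Nat.card ↥f.ker = (M i.castSucc).relIndex (M i.succ) := by
      rw [hkerf, ← Subgroup.relIndex_bot_left, ← QuotientGroup.map_mk'_self (M i.castSucc),
        Subgroup.relIndex_map_map, QuotientGroup.ker_mk', sup_idem, sup_eq_left.mpr hle]
    show cnt p _ = _ * _ * cnt p _
    by_cases hco : ((M i.castSucc).relIndex (M i.succ)).Coprime p
    · rw [cnt_step_p' f hf (hkc ▸ hco) _ (hH.map _), hmapH]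
      congr 1
      simp only [e, c, if_pos hco, one_mul]
      symm
      apply Nat.div_eq_of_eq_mul_left Nat.card_pos
      rw [mul_comm]
      have hcard := card_comap_eq (QuotientGroup.mk' (M i.castSucc)) QuotientGroup.mk_surjective
        ((f.ker ⊓ Subgroup.centralizer ((H.map (QuotientGroup.mk' (M i.castSucc)) :
          Subgroup (G ⧸ M i.castSucc)) : Set (G ⧸ M i.castSucc)) : Subgroup _) : Set (G ⧸ M i.castSucc))
      rw [QuotientGroup.ker_mk'] at hcard
      refine Eq.trans (Nat.card_congr (Equiv.subtypeEquivRight fun u => ?_)) hcard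
      simp only [SetLike.mem_coe, Subgroup.mem_inf, Subgroup.mem_centralizer_iff, Subgroup.mem_map,
        forall_exists_index, and_imp, forall_apply_eq_imp_iff₂]
      refine and_congr (QuotientGroup.eq_one_iff u).symm (forall₂_congr fun h _ => ?_)
      rw [← QuotientGroup.eq_one_iff]
      simp only [QuotientGroup.mk'_apply, QuotientGroup.mk_mul, QuotientGroup.mk_inv]
      rw [mul_inv_eq_one, mul_inv_eq_iff_eq_mul]
    · obtain ⟨m, hm⟩ := (hfac i).resolve_right hco
      have hkp : IsPGroup p ↥f.ker := IsPGroup.of_card (hkc.trans hm)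
      rw [cnt_step_p f hf hkp, hmapH, hkc]
      simp only [e, c, if_neg hco, mul_one]
  -- telescoping
  have htel : ∀ j : Fin (n + 1), a 0 * ∏ i : Fin n, (if i.castSucc < j then 1 else e i * c i) =
      (∏ i : Fin n, e i * c i) * a j := by
    intro j
    induction j using Fin.induction with
    | zero => simp [mul_comm]
    | succ j ih =>
      have hsplit : ∀ (j' : Fin (n+1)), ∏ i : Fin n, (if i.castSucc < j' then 1 else e i * c i) =
          (if j.castSucc < j' then 1 else e j * c j) *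
            ∏ i ∈ (Finset.univ.erase j), (if i.castSucc < j' then 1 else e i * c i) :=
        fun j' => (Finset.mul_prod_erase _ _ (Finset.mem_univ j)).symm
      rw [hsplit, if_neg (lt_irrefl _), hstep j] at ih
      rw [hsplit, if_pos Fin.castSucc_lt_succ, one_mul]
      have hprod : ∏ i ∈ (Finset.univ.erase j), (if i.castSucc < j.castSucc then 1 else e i * c i) =
          ∏ i ∈ (Finset.univ.erase j), (if i.castSucc < j.succ then 1 else e i * c i) := by
        refine Finset.prod_congr rfl fun i hi => if_congr ?_ rfl rfl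
        have hne : (i : ℕ) ≠ j := fun h => Finset.ne_of_mem_erase hi (Fin.ext h)
        simp only [Fin.lt_def, Fin.val_castSucc, Fin.val_succ]
        omega
      rw [hprod] at ih
      have hpos : 0 < e j * c j := by
        rcases Nat.eq_zero_or_pos (e j * c j) with h0 | h0
        · have h1 := hstep j
          rw [h0, zero_mul] at h1
          haveI : Nonempty {g : G ⧸ M j.castSucc // S4088.Stab p (⊤ : Subgroup (G ⧸ M j.castSucc))
              (H.map (QuotientGroup.mk' (M j.castSucc))) g} :=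
            ⟨⟨1, Subgroup.mem_top _, _, hH.map _, le_rfl, le_top, Subgroup.one_mem _⟩⟩
          have h2 : 0 < a j.castSucc := Nat.card_pos
          omega
        · exact h0
      apply Nat.eq_of_mul_eq_mul_left hpos
      rw [mul_left_comm, ih]; ring
  have hend := htel (Fin.last n)
  rw [Finset.prod_congr rfl (g := fun _ => 1) (fun i _ => if_pos (Fin.castSucc_lt_last i)),
    Finset.prod_const_one, mul_one] at hend
  have hlast : a (Fin.last n) = 1 := by
    haveI : Subsingleton (G ⧸ M (Fin.last n)) := by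
      rw [hn]; exact QuotientGroup.subsingleton_quotient_top
    haveI : Nonempty {g : G ⧸ M (Fin.last n) // S4088.Stab p (⊤ : Subgroup (G ⧸ M (Fin.last n)))
        (H.map (QuotientGroup.mk' (M (Fin.last n)))) g} :=
      ⟨⟨1, Subgroup.mem_top _, _, hH.map _, le_rfl, le_top, Subgroup.one_mem _⟩⟩
    exact Nat.card_of_subsingleton (Classical.arbitrary _)
  -- the bottom term is the subnormalizer
  have hbot : a 0 = Nat.card {g : G // ((H).subgroupOf (H ⊔ Subgroup.zpowers g)).IsSubnormal} := by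
    have hb := cnt_step_p (p := p) (QuotientGroup.mk' (M 0)) QuotientGroup.mk_surjective
      (by rw [QuotientGroup.ker_mk', h0]; exact IsPGroup.of_bot) H
    rw [QuotientGroup.ker_mk', show Nat.card ↥(M 0) = 1 by rw [h0]; exact Subgroup.card_bot, one_mul] at hb
    exact hb.symm.trans (Nat.card_congr (Equiv.subtypeEquivRight fun g => (S4088.stab_iff p H hH g).symm))
  -- the `p`-power factors multiply to the Sylow order
  have hP : ∏ i : Fin n, e i = Nat.card (P : Subgroup G) := by
    have hall : ∀ j : Fin (n + 1),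
        Nat.card ↥(M j) = ∏ i : Fin n, (if i.castSucc < j then (M i.castSucc).relIndex (M i.succ) else 1) := by
      intro j
      induction j using Fin.induction with
      | zero => simp [h0]
      | succ j ih =>
        rw [← Subgroup.card_mul_index ((M j.castSucc).subgroupOf (M j.succ)),
          Nat.card_congr (Subgroup.subgroupOfEquivOfLe (hmono Fin.castSucc_lt_succ.le)).toEquiv, ih,
          ← Finset.mul_prod_erase _ (fun i => if i.castSucc < j.succ then _ else _) (Finset.mem_univ j),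
          if_pos Fin.castSucc_lt_succ, mul_comm]
        congr 1
        rw [← Finset.mul_prod_erase _ (fun i => if i.castSucc < j.castSucc then _ else _) (Finset.mem_univ j),
          if_neg (lt_irrefl _), one_mul]
        refine Finset.prod_congr rfl fun i hi => if_congr ?_ rfl rfl
        have hne : (i : ℕ) ≠ j := fun h => Finset.ne_of_mem_erase hi (Fin.ext h)
        simp only [Fin.lt_def, Fin.val_castSucc, Fin.val_succ]
        omega
    have hG := hall (Fin.last n)
    rw [hn, Subgroup.card_top, Finset.prod_congr rfl (fun i _ => if_pos (Fin.castSucc_lt_last i))] at hG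
    have hne : ∀ i ∈ (Finset.univ : Finset (Fin n)), (M i.castSucc).relIndex (M i.succ) ≠ 0 :=
      fun i _ => Subgroup.FiniteIndex.index_ne_zero
    show _ = Nat.card P
    rw [P.card_eq_multiplicity, hG, Nat.factorization_prod_apply hne, ← Finset.prod_pow_eq_pow_sum]
    refine Finset.prod_congr rfl fun i _ => ?_
    by_cases hco : ((M i.castSucc).relIndex (M i.succ)).Coprime p
    · simp only [e, if_pos hco]
      rw [Nat.factorization_eq_zero_of_not_dvd (hp.coprime_iff_not_dvd.mp hco.symm), pow_zero]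
    · obtain ⟨m, hm⟩ := (hfac i).resolve_right hco
      simp only [e, if_neg hco]
      rw [hm, hp.factorization_pow, Finsupp.single_eq_same]
  rw [← hbot, hend, hlast, mul_one, Finset.prod_mul_distrib, hP]

end Cfsg.Agent.S4090
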