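import Cfsg.Statements.S4092
import Mathlib

set_option autoImplicit false
open Cfsg

namespace Cfsg.Agent.S4092

/-- Let G be a finite group, p a prime and P a Sylow p-subgroup of G that is not normal in G. Then G has at least p·#P elements of p-power order (the identity included). -/
theorem result {G : Type*} [Group G] [Finite G] (p : ℕ) [Fact p.Prime]
    (P : Sylow p G) (hP : ¬ (P : Subgroup G).Normal) :
    p * Nat.card (P : Subgroup G) ≤ Nat.card {g : G // ∃ k : ℕ, orderOf g = p ^ k} := by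
  classical
  let Pair := {x : Sylow p G × Sylow p G // x.1 ≠ x.2}
  have hne : Nonempty Pair := by
    by_contra hE
    apply hP
    have : Subsingleton (Sylow p G) := ⟨fun a b => by
      by_contra hab; exact hE ⟨⟨(a, b), hab⟩⟩⟩
    exact P.normal_of_subsingleton
  obtain ⟨⟨⟨A, B⟩, hAB⟩, hmax⟩ := Finite.exists_max fun x : Pair =>
    Nat.card ↥((x.1.1 : Subgroup G) ⊓ (x.1.2 : Subgroup G))
  simp only [ne_eq] at hAB
  set D := (A : Subgroup G) ⊓ (B : Subgroup G) with hD
  have hint : ∀ R S : Sylow p G, R ≠ S → D ≤ R → D ≤ S → (R : Subgroup G) ⊓ S = D := by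
    intro R S hRS hR hS
    exact (Subgroup.eq_of_le_of_card_ge (le_inf hR hS) (hmax ⟨(R, S), hRS⟩)).symm
  have hcardS : ∀ R : Sylow p G, Nat.card (R : Subgroup G) = Nat.card (P : Subgroup G) :=
    fun R => Nat.card_congr (Sylow.equiv R P).toEquiv
  have hlt : D < (A : Subgroup G) := by
    refine lt_of_le_of_ne inf_le_left fun e => hAB (Sylow.ext ?_)
    exact Subgroup.eq_of_le_of_card_ge (inf_eq_left.1 e) (le_of_eq (Nat.card_congr (Sylow.equiv B A).toEquiv))
  have : Fact p.Prime := inferInstance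
  have hnil : Group.IsNilpotent (A : Subgroup G) := A.isPGroup'.isNilpotent
  have hnc := Group.normalizerCondition_of_isNilpotent (D.subgroupOf (A : Subgroup G))
    (lt_top_iff_ne_top.2 fun e => hlt.not_ge (Subgroup.subgroupOf_eq_top.1 e))
  obtain ⟨x, hxN, hxD⟩ := SetLike.exists_of_lt hnc
  have hxD' : (x : G) ∉ D := hxD
  have hfix : ∀ d ∈ D, (x : G) * d * (x : G)⁻¹ ∈ D := fun d hd =>
    (Subgroup.mem_normalizer_iff.1 hxN ⟨d, hlt.le hd⟩).1 hd
  obtain ⟨k, hk⟩ := IsPGroup.iff_orderOf.1 A.isPGroup' x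
  have hk' : orderOf (x : G) = p ^ k := by rw [Subgroup.orderOf_coe]; exact hk
  have hmove : ∀ i : ℕ, (i.Coprime p) → (x : G) ^ i • B ≠ B := by
    intro i hi he
    have h1 : (x : G) ^ i ∈ Subgroup.normalizer ((B : Subgroup G) : Set G) :=
      Sylow.smul_eq_iff_mem_normalizer.1 he
    obtain ⟨j, hj⟩ : (x : G) ∈ Subgroup.zpowers ((x : G) ^ i) := by
      have hc : i.Coprime (orderOf (x : G)) := by rw [hk']; exact hi.pow_right k
      obtain ⟨m, hm⟩ := exists_pow_eq_self_of_coprime (x := (x : G)) hc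
      exact ⟨(m : ℤ), by simpa using hm⟩
    have h2 : (x : G) ∈ Subgroup.normalizer ((B : Subgroup G) : Set G) := hj ▸ zpow_mem h1 j
    have hX : IsPGroup p (Subgroup.zpowers (x : G)) := by
      rw [IsPGroup.iff_card]; exact ⟨k, by rw [Nat.card_zpowers, hk']⟩
    have h3 := hX.inf_normalizer_sylow B
    have h4 : (x : G) ∈ (B : Subgroup G) := by
      have : (x : G) ∈ Subgroup.zpowers (x : G) ⊓ Subgroup.normalizer ((B : Subgroup G) : Set G) :=
        ⟨Subgroup.mem_zpowers _, h2⟩
      exact (h3 ▸ this : (x : G) ∈ Subgroup.zpowers (x : G) ⊓ (B : Subgroup G)).2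
    exact hxD' ⟨x.2, h4⟩
  have hfixA : ∀ i : ℕ, (x : G) ^ i • A = A := fun i =>
    Sylow.smul_eq_iff_mem_normalizer.2 (Subgroup.le_normalizer (pow_mem x.2 i))
  let R : Option (Fin p) → Sylow p G := fun o => o.elim A fun i => (x : G) ^ (i : ℕ) • B
  have hDR : ∀ o, D ≤ R o := by
    rintro (_ | i)
    · exact inf_le_left
    intro d hd
    show d ∈ (((x : G) ^ (i : ℕ) • B : Sylow p G) : Subgroup G)
    rw [Sylow.coe_subgroup_smul, Subgroup.mem_pointwise_smul_iff_inv_smul_mem]
    have hinv : ∀ d ∈ D, (x : G)⁻¹ * d * (x : G) ∈ D := fun d hd => by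
      have := Subgroup.mem_subgroupOf.1 ((Subgroup.mem_normalizer_iff.1 (inv_mem hxN) ⟨d, hlt.le hd⟩).1 hd)
      simpa using this
    have : ((x : G) ^ (i : ℕ))⁻¹ * d * (x : G) ^ (i : ℕ) ∈ D := by
      generalize (i : ℕ) = n
      induction n with
      | zero => simpa using hd
      | succ n ih =>
        have := hinv _ ih
        simpa [pow_succ, mul_assoc] using this
    simp [MulAut.smul_def, -map_pow]
    exact this.2
  have hRinj : Function.Injective R := by
    rintro (_ | i) (_ | j) h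
    · rfl
    · exfalso
      apply hAB
      have h' : A = (x : G) ^ (j : ℕ) • B := h
      have := congrArg (fun S => ((x : G) ^ (j : ℕ))⁻¹ • S) h'
      rw [inv_smul_smul] at this
      rw [← this, eq_inv_smul_iff, hfixA]
    · exfalso
      apply hAB
      have h' : (x : G) ^ (i : ℕ) • B = A := h
      have := congrArg (fun S => ((x : G) ^ (i : ℕ))⁻¹ • S) h'
      rw [inv_smul_smul] at this
      rw [this, eq_inv_smul_iff, hfixA] at *
    · congr 1
      have h' : (x : G) ^ (i : ℕ) • B = (x : G) ^ (j : ℕ) • B := h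
      apply Fin.ext
      by_contra hij
      wlog hlt' : (i : ℕ) < j generalizing i j
      · exact this j i h.symm h'.symm (Ne.symm hij) (by omega)
      apply hmove ((j : ℕ) - i)
      · rw [Nat.coprime_comm, Fact.out (p := p.Prime).coprime_iff_not_dvd]
        intro hd; have := Nat.le_of_dvd (by omega) hd; omega
      have : (x : G) ^ (j : ℕ) = (x : G) ^ (i : ℕ) * (x : G) ^ ((j : ℕ) - i) := by
        rw [← pow_add]; congr 1; omega
      rw [this, mul_smul] at h'
      exact ((MulAction.injective _) h').symm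
  let T := {g : G // ∃ k : ℕ, orderOf g = p ^ k}
  have hmemT : ∀ (S : Sylow p G) (g : G), g ∈ (S : Subgroup G) → ∃ k : ℕ, orderOf g = p ^ k := by
    intro S g hg
    obtain ⟨k, hk⟩ := IsPGroup.iff_orderOf.1 S.isPGroup' ⟨g, hg⟩
    exact ⟨k, by rw [← hk, Subgroup.orderOf_mk]⟩
  let f : D ⊕ (Σ o : Option (Fin p), {g : (R o : Subgroup G) // (g : G) ∉ D}) → T :=
    Sum.elim (fun d => ⟨d, hmemT A d (hlt.le d.2)⟩) (fun g => ⟨g.2.1, hmemT (R g.1) _ g.2.1.2⟩)
  have hf : Function.Injective f := by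
    rintro (d | ⟨o, g⟩) (d' | ⟨o', g'⟩) h
    · exact congrArg Sum.inl (Subtype.ext (congrArg (fun t : T => t.1) h : (d : G) = d'))
    · exact absurd ((congrArg Subtype.val h : (d : G) = g'.1) ▸ d.2) g'.2
    · exact absurd ((congrArg Subtype.val h : (g.1 : G) = d') ▸ d'.2) g.2
    · have e : (g.1 : G) = g'.1 := congrArg Subtype.val h
      have ho : o = o' := by
        by_contra ho
        have h1 := hint (R o) (R o') (fun hh => ho (hRinj hh)) (hDR o) (hDR o')
        have h2 : (g.1 : G) ∈ (R o : Subgroup G) ⊓ R o' := ⟨g.1.2, e ▸ g'.1.2⟩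
        rw [h1] at h2
        exact g.2 h2
      subst ho
      rw [Subtype.ext (Subtype.ext e) (a1 := g) (a2 := g')]
  have hcount := Nat.card_le_card_of_injective f hf
  rw [Nat.card_sum, Nat.card_sigma] at hcount
  have hpart : ∀ o, Nat.card {g : (R o : Subgroup G) // (g : G) ∉ D} =
      Nat.card (P : Subgroup G) - Nat.card D := by
    intro o
    have : Fintype (R o : Subgroup G) := Fintype.ofFinite _
    rw [← hcardS (R o), Nat.card_eq_fintype_card, Fintype.card_subtype_compl,
      ← Nat.card_eq_fintype_card, ← Nat.card_eq_fintype_card]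
    congr 1
    exact Nat.card_congr (Subgroup.subgroupOfEquivOfLe (hDR o)).toEquiv
  rw [Finset.sum_congr rfl (fun o _ => hpart o), Finset.sum_const, Finset.card_univ,
    Fintype.card_option, Fintype.card_fin, smul_eq_mul] at hcount
  have hpD : p * Nat.card D ≤ Nat.card (P : Subgroup G) := by
    obtain ⟨a, ha⟩ := IsPGroup.iff_card.1 (A.isPGroup'.to_le hlt.le)
    obtain ⟨b, hb⟩ := IsPGroup.iff_card.1 A.isPGroup'
    rw [← hcardS A, ha, hb, ← pow_succ']
    refine Nat.pow_le_pow_right (Fact.out (p := p.Prime)).pos ?_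
    have h1 : Nat.card D < Nat.card (A : Subgroup G) := by
      refine lt_of_le_of_ne (Subgroup.card_le_of_le hlt.le) fun e => hlt.ne ?_
      exact Subgroup.eq_of_le_of_card_ge hlt.le e.ge
    rw [ha, hb] at h1
    exact (Nat.pow_lt_pow_iff_right (Fact.out (p := p.Prime)).one_lt).1 h1
  have hDle : Nat.card D ≤ Nat.card (P : Subgroup G) := hcardS A ▸ Subgroup.card_le_of_le hlt.le
  obtain ⟨c, hc⟩ := Nat.le.dest hDle
  rw [← hc, Nat.add_sub_cancel_left] at hcount
  rw [← hc] at hpD ⊢
  calc p * (Nat.card D + c) ≤ Nat.card D + (p + 1) * c := by nlinarith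
    _ ≤ _ := hcount

end Cfsg.Agent.S4092
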