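import Cfsg.Statements.S4093
import Mathlib

set_option autoImplicit false
open scoped BigOperators
open Cfsg

namespace Cfsg.Agent.S4093

/-- Let G be a finite group with a normal subgroup N complementing a Sylow p-subgroup P (a normal p-complement). Then the number of elements of G of p-power order equals the sum over x ∈ P of the index of C_N(x) in N. -/
theorem result {G : Type*} [Group G] [Finite G] (p : ℕ) [Fact p.Prime]
    (P : Sylow p G) (N : Subgroup G) [N.Normal] (hNP : N.IsComplement' (P : Subgroup G)) :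
    Nat.card {g : G // ∃ k : ℕ, orderOf g = p ^ k} =
      ∑ᶠ x : (P : Subgroup G), Nat.card N / Nat.card ↥(N ⊓ Subgroup.centralizer ({(x : G)} : Set G)) := by
  classical
  have : Fact p.Prime := inferInstance
  let T := {g : G // ∃ k : ℕ, orderOf g = p ^ k}
  let F := fun x : (P : Subgroup G) => {g : G // ∃ n ∈ N, n * x * n⁻¹ = g}
  have hel : ∀ (x : (P : Subgroup G)) (g : F x), ∃ k : ℕ, orderOf (g : G) = p ^ k := by
    rintro x ⟨g, n, hn, rfl⟩
    obtain ⟨k, hk⟩ := IsPGroup.iff_orderOf.1 P.isPGroup' x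
    refine ⟨k, ?_⟩
    rw [← hk, ← Subgroup.orderOf_coe]
    exact (SemiconjBy.orderOf_eq (x := (x : G)) (y := n * x * n⁻¹) n (by simp [SemiconjBy])).symm
  let f : (Σ x : (P : Subgroup G), F x) → T := fun g => ⟨g.2, hel g.1 g.2⟩
  have hf : Function.Bijective f := by
    constructor
    · rintro ⟨x, g, hg⟩ ⟨y, g', hg'⟩ h
      obtain ⟨n, hn, rfl⟩ := hg
      obtain ⟨m, hm, rfl⟩ := hg'
      have e : n * (x : G) * n⁻¹ = m * y * m⁻¹ := congrArg Subtype.val h
      have hxy : x = y := by
        have h1 : (((n * (x : G) * n⁻¹ : G)) : G ⧸ N) = ((m * (y : G) * m⁻¹ : G)) := by rw [e]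
        simp only [QuotientGroup.mk_mul, QuotientGroup.mk_inv, (QuotientGroup.eq_one_iff _).2 hn,
          (QuotientGroup.eq_one_iff _).2 hm, one_mul, inv_one, mul_one] at h1
        have h2 : (x : G)⁻¹ * y ∈ N := QuotientGroup.eq.1 h1
        have h3 : (x : G)⁻¹ * y ∈ (P : Subgroup G) := mul_mem (inv_mem x.2) y.2
        exact Subtype.ext (inv_mul_eq_one.1 ((Subgroup.disjoint_def.1 hNP.disjoint) h2 h3))
      subst hxy
      exact Sigma.ext rfl (heq_of_eq (Subtype.ext e))
    · rintro ⟨g, k, hk⟩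
      have hX : IsPGroup p (Subgroup.zpowers g) := by
        rw [IsPGroup.iff_card]; exact ⟨k, by rw [Nat.card_zpowers, hk]⟩
      obtain ⟨Q, hQ⟩ := hX.exists_le_sylow
      obtain ⟨c, rfl⟩ := MulAction.exists_smul_eq G P Q
      obtain ⟨⟨n, y⟩, hny⟩ := hNP.2 c
      have hny' : (n : G) * y = c := hny
      have h1 : c⁻¹ * g * c ∈ (P : Subgroup G) := by
        have := hQ (Subgroup.mem_zpowers g)
        rw [Sylow.coe_subgroup_smul, Subgroup.mem_pointwise_smul_iff_inv_smul_mem] at this
        simpa [MulAut.smul_def] using this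
      have h2 : (n : G)⁻¹ * g * n ∈ (P : Subgroup G) := by
        have := mul_mem (mul_mem y.2 h1) (inv_mem y.2)
        rw [← hny'] at this
        simpa [mul_assoc] using this
      exact ⟨⟨⟨_, h2⟩, ⟨g, n, n.2, by group⟩⟩, rfl⟩
  have : Fintype (P : Subgroup G) := Fintype.ofFinite _
  rw [← Nat.card_congr (Equiv.ofBijective f hf), Nat.card_sigma, finsum_eq_sum_of_fintype]
  refine Finset.sum_congr rfl fun x _ => ?_
  let C := (N ⊓ Subgroup.centralizer ({(x : G)} : Set G)).subgroupOf N
  have hC : Nat.card C = Nat.card ↥(N ⊓ Subgroup.centralizer ({(x : G)} : Set G)) :=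
    Nat.card_congr (Subgroup.subgroupOfEquivOfLe inf_le_left).toEquiv
  have key : ∀ a b : N, a⁻¹ * b ∈ C ↔ (a : G) * x * (a : G)⁻¹ = b * x * (b : G)⁻¹ := by
    intro a b
    simp only [C, Subgroup.mem_subgroupOf, Subgroup.mem_inf, Subgroup.mem_centralizer_iff,
      Set.mem_singleton_iff, forall_eq, Subgroup.coe_mul, Subgroup.coe_inv]
    constructor
    · rintro ⟨-, h⟩
      calc (a : G) * x * (a : G)⁻¹ = a * ((x : G) * ((a : G)⁻¹ * b)) * (b : G)⁻¹ := by group
        _ = _ := by rw [h]; group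
    · intro h
      refine ⟨mul_mem (inv_mem a.2) b.2, ?_⟩
      calc (x : G) * ((a : G)⁻¹ * b) = (a : G)⁻¹ * (a * x * (a : G)⁻¹) * b := by group
        _ = _ := by rw [h]; group
  let q : N ⧸ C → F x := Quotient.lift (fun n : N => ⟨(n : G) * x * (n : G)⁻¹, n, n.2, rfl⟩)
    fun a b hab => Subtype.ext ((key a b).1 (QuotientGroup.leftRel_apply.1 hab))
  have hq : Function.Bijective q := by
    constructor
    · intro a b
      induction a using QuotientGroup.induction_on with
      | _ a =>
      induction b using QuotientGroup.induction_on with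
      | _ b =>
      intro h
      exact QuotientGroup.eq.2 ((key a b).2 (congrArg Subtype.val h))
    · rintro ⟨g, n, hn, rfl⟩
      exact ⟨((⟨n, hn⟩ : N) : N ⧸ C), rfl⟩
  rw [← Nat.card_congr (Equiv.ofBijective q hq), ← hC]
  have := C.card_eq_card_quotient_mul_card_subgroup
  rw [this, Nat.mul_div_cancel _ Nat.card_pos]

end Cfsg.Agent.S4093
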