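import Cfsg.Statements.S4097
import Cfsg.Agent.Lib.Struct.Frobenius
import Cfsg.Agent.Lib.Solv.FpfNilpotent

set_option autoImplicit false
open Cfsg

namespace Cfsg.Agent.S4097

universe u

open Subgroup Cfsg in
open scoped Pointwise in
theorem main : ∀ (n : ℕ) (G : Type u) [Group G] [Finite G], Nat.card G = n → ∀ (A : Subgroup G),
    Group.IsSolvable A → (∀ S : Subgroup G, A ≤ S → Group.IsSolvable S → ∀ a ∈ A, ∀ s ∈ S, a * s = s * a) →
      A ≤ Subgroup.center G := by
  intro n
  induction n using Nat.strong_induction_on with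
  | _ n ih =>
    intro G _ _ hn A hA hc
    by_contra hnc
    -- proper overgroups centralize
    have hAab : ∀ a ∈ A, ∀ b ∈ A, a * b = b * a := hc A le_rfl hA
    have hprop : ∀ H : Subgroup G, A ≤ H → H ≠ ⊤ → ∀ a ∈ A, ∀ h ∈ H, a * h = h * a := by
      intro H hAH hH a ha h hh
      have hlt : Nat.card H < n := hn ▸ lt_of_le_of_ne (Subgroup.card_le_card_group H)
        (fun e => hH (Subgroup.eq_top_of_card_eq H e))
      have hsol : Group.IsSolvable ↥(A.subgroupOf H) := by
        haveI := hA
        exact Group.isSolvable_of_isSolvable_injective (f := (subgroupOfEquivOfLe hAH).toMonoidHom)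
          (subgroupOfEquivOfLe hAH).injective
      have := ih _ hlt H rfl (A.subgroupOf H) hsol fun S hS hSs b hb s hs => by
        haveI := hSs
        exact Subtype.ext (hc (S.map H.subtype)
          (fun c hc' => ⟨⟨c, hAH hc'⟩, hS (mem_subgroupOf.mpr hc'), rfl⟩)
          (Group.isSolvable_of_surjective (H.subtype.subgroupMap_surjective S)) _ (mem_subgroupOf.mp hb) _
          (mem_map_of_mem H.subtype hs))
      exact (congrArg Subtype.val (Subgroup.mem_center_iff.mp (this (mem_subgroupOf.mpr ha : (⟨a, hAH ha⟩ : H) ∈ A.subgroupOf H)) ⟨h, hh⟩)).symm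
    set C := centralizer (A : Set G) with hCdef
    have hAC : A ≤ C := fun a ha => mem_centralizer_iff.mpr fun b hb => hAab b hb a ha
    have hCt : C ≠ ⊤ := fun h => hnc fun a ha => mem_center_iff.mpr fun g =>
      ((mem_centralizer_iff.mp (h ▸ mem_top g : g ∈ C)) a ha).symm
    have hmax : ∀ H : Subgroup G, A ≤ H → H ≠ ⊤ → H ≤ C := fun H hAH hH h hh =>
      mem_centralizer_iff.mpr fun a ha => hprop H hAH hH a ha h hh
    obtain ⟨a, haA, haZ⟩ := Set.not_subset.mp hnc
    have hcent : ∀ y : G, y ∉ center G → centralizer ({y} : Set G) ≠ ⊤ := fun y hy h => hy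
      (mem_center_iff.mpr fun g => mem_centralizer_singleton_iff.mp (h ▸ mem_top g))
    have hCy : ∀ y ∈ C, y ∉ center G → centralizer ({y} : Set G) ≤ C := fun y hy hyZ => hmax _
      (fun b hb => mem_centralizer_singleton_iff.mpr (mem_centralizer_iff.mp hy b hb)) (hcent y hyZ)
    have hN : ∀ g : G, (∀ c ∈ C, g * c * g⁻¹ ∈ C) → g ∈ C := by
      intro g hg
      have hAN : A ≤ normalizer (C : Set G) := hAC.trans le_normalizer
      have hgN : g ∈ normalizer (C : Set G) := mem_normalizer_iff.mpr fun c => ⟨hg c, fun h => by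
        obtain ⟨k, hk⟩ : ∃ k : ℕ, g⁻¹ = g ^ k := ⟨orderOf g - 1, inv_eq_of_mul_eq_one_right (by
          rw [← pow_succ', Nat.sub_add_cancel (orderOf_pos g), pow_orderOf_eq_one])⟩
        have hpow : ∀ (j : ℕ) (d : G), d ∈ C → g ^ j * d * (g ^ j)⁻¹ ∈ C := by
          intro j
          induction j with
          | zero => intro d hd; simpa using hd
          | succ j ihj =>
            intro d hd
            have := hg _ (ihj d hd)
            rw [pow_succ', mul_inv_rev]
            simpa [mul_assoc] using this
        have := hpow k _ h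
        rw [← hk, inv_inv] at this
        simpa [mul_assoc] using this⟩
      by_cases ht : normalizer (C : Set G) = ⊤
      swap
      · exact hmax _ hAN ht hgN
      -- `C` normal: contradiction
      exfalso
      obtain ⟨g₀, hg₀⟩ : ∃ g₀, g₀ ∉ C := by
        by_contra h; push Not at h; exact hCt (eq_top_iff.mpr fun x _ => h x)
      haveI : C.Normal := normalizer_eq_top_iff.mp ht
      set W := C ⊓ centralizer (C : Set G)
      haveI : W.Normal := inferInstance
      have hAW : A ≤ W := le_inf hAC fun b hb => mem_centralizer_iff.mpr fun c hc' =>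
        ((mem_centralizer_iff.mp hc') b hb).symm
      haveI : Group.IsSolvable W := Group.isSolvable_of_comm fun u v => Subtype.ext
        ((mem_centralizer_iff.mp u.2.2) v v.2.1).symm
      have hsol : Group.IsSolvable ↥(W ⊔ zpowers g₀) := by
        have hmap : (W ⊔ zpowers g₀).map (QuotientGroup.mk' W) = (zpowers g₀).map (QuotientGroup.mk' W) := by
          rw [Subgroup.map_sup, QuotientGroup.map_mk'_self, bot_sup_eq]
        haveI : Group.IsSolvable ↥((W ⊔ zpowers g₀).map (QuotientGroup.mk' W)) := by
          rw [hmap, MonoidHom.map_zpowers]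
          exact Group.isSolvable_of_comm fun u v => (IsCyclic.commGroup (α := zpowers (QuotientGroup.mk' W g₀))).mul_comm u v
        refine Group.isSolvable_of_ker_le_range (Subgroup.inclusion (le_sup_left : W ≤ W ⊔ zpowers g₀))
          ((QuotientGroup.mk' W).subgroupMap (W ⊔ zpowers g₀)) fun c hc' => ?_
        rw [MonoidHom.mem_ker] at hc'
        exact ⟨⟨(c : G), (QuotientGroup.eq_one_iff _).mp (congrArg Subtype.val hc')⟩, rfl⟩
      exact hg₀ (mem_centralizer_iff.mpr fun b hb =>
        hc _ (hAW.trans le_sup_left) hsol b hb g₀ ((le_sup_right : _ ≤ W ⊔ zpowers g₀) (mem_zpowers g₀)))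
    have hCa : ∀ z, z ∈ centralizer ({a} : Set G) ↔ z ∈ C := fun z =>
      ⟨fun h => hCy a (hAC haA) haZ h, fun h => mem_centralizer_singleton_iff.mpr (mem_centralizer_iff.mp h a haA).symm⟩
    -- trivial intersection
    have hTI : ∀ g y : G, y ∈ C → g⁻¹ * y * g ∈ C → y ∉ center G → g ∈ C := by
      intro g y hy hy' hyZ
      have ha' : g * a * g⁻¹ ∈ C := hCy y hy hyZ (mem_centralizer_singleton_iff.mpr (by
        have h1 := (mem_centralizer_iff.mp hy') a haA
        calc g * a * g⁻¹ * y = g * (a * (g⁻¹ * y * g)) * g⁻¹ := by group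
          _ = g * ((g⁻¹ * y * g) * a) * g⁻¹ := by rw [h1]
          _ = y * (g * a * g⁻¹) := by group))
      have ha'Z : g * a * g⁻¹ ∉ center G := fun h => haZ (by
        have := (inferInstance : (center G).Normal).conj_mem _ h g⁻¹
        simpa [mul_assoc] using this)
      refine hN g fun c hc' => hCy _ ha' ha'Z (mem_centralizer_singleton_iff.mpr ?_)
      have h1 := mem_centralizer_singleton_iff.mp ((hCa c).mpr hc')
      calc g * c * g⁻¹ * (g * a * g⁻¹) = g * (c * a) * g⁻¹ := by group
        _ = g * (a * c) * g⁻¹ := by rw [h1]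
        _ = g * a * g⁻¹ * (g * c * g⁻¹) := by group
    -- Frobenius group modulo the centre
    set π := QuotientGroup.mk' (center G)
    have hπ : Function.Surjective π := QuotientGroup.mk'_surjective _
    have hZC : center G ≤ C := fun z hz => mem_centralizer_iff.mpr fun b _ => mem_center_iff.mp hz b
    set H := C.map π
    have hmemH : ∀ z, π z ∈ H ↔ z ∈ C := fun z => by
      refine ⟨?_, fun h => mem_map_of_mem π h⟩
      rintro ⟨c, hc', e⟩
      have := hZC (QuotientGroup.eq.mp e)
      simpa using C.mul_mem hc' this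
    have hFC : IsFrobeniusComplement H := by
      refine ⟨fun h => haZ ?_, fun h => hCt (eq_top_iff.mpr fun z _ => (hmemH z).mp (h ▸ mem_top _)), ?_⟩
      · have h1 : π a ∈ H := mem_map_of_mem π (hAC haA)
        rw [h, mem_bot] at h1
        exact (QuotientGroup.eq_one_iff _).mp h1
      intro gq hgq
      obtain ⟨g, rfl⟩ := hπ gq
      rw [eq_bot_iff]
      rintro yq ⟨h1, h2⟩
      obtain ⟨y, rfl⟩ := hπ yq
      rw [mem_bot]
      refine (QuotientGroup.eq_one_iff _).mpr ?_
      by_contra hyZ
      refine hgq (mem_map_of_mem π (hTI g y ((hmemH y).mp h1) ?_ hyZ))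
      refine (hmemH _).mp ?_
      have h3 := Cfsg.Agent.Struct.Frobenius.mem_conj_smul.mp h2
      rwa [map_mul, map_mul, map_inv]
    obtain ⟨N, -, hNn, hNH⟩ := Cfsg.Agent.Struct.Frobenius.exists_kernel hFC
    haveI := hNn
    have haH : π a ∈ H := mem_map_of_mem π (hAC haA)
    obtain ⟨i, hi, hprime⟩ : ∃ i : ℕ, (π a) ^ i ≠ 1 ∧ (orderOf ((π a) ^ i)).Prime := by
      have h1 : orderOf (π a) ≠ 1 := fun h => haZ ((QuotientGroup.eq_one_iff _).mp (orderOf_eq_one_iff.mp h))
      obtain ⟨q, hq, hqd⟩ := Nat.exists_prime_and_dvd h1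
      have h2 := orderOf_pow_orderOf_div (orderOf_pos (π a)).ne' hqd
      exact ⟨orderOf (π a) / q, fun h => hq.ne_one (by rw [← h2, h, orderOf_one]), by rw [h2]; exact hq⟩
    set s := (π a) ^ i
    have hsH : s ∈ H := H.pow_mem haH i
    have hfix : ∀ x ∈ N, x * s = s * x → x = 1 := fun x hx he =>
      Cfsg.Agent.Struct.Frobenius.fpf_of_complement hFC hNH.disjoint hsH hi hx he
    let φ : N ≃* N := MulAut.conjNormal s
    have hiter : ∀ (k : ℕ) (x : N), ((φ^[k] x : N) : G ⧸ center G) = s ^ k * (x : G ⧸ center G) * (s ^ k)⁻¹ := by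
      intro k
      induction k with
      | zero => intro x; simp
      | succ k ihk =>
        intro x
        rw [Function.iterate_succ_apply', MulAut.conjNormal_apply, ihk, pow_succ']
        group
    haveI hNnil : Group.IsNilpotent N := Cfsg.Agent.Solv.isNilpotent_of_fpf (φ := φ) (p := orderOf s)
      (fun x hx => Subtype.ext (hfix _ x.2 (by
        have : s * (x : G ⧸ center G) * s⁻¹ = x := congrArg Subtype.val hx
        exact (mul_inv_eq_iff_eq_mul.mp this).symm))) hprime
      (fun x => Subtype.ext (by rw [hiter, pow_orderOf_eq_one]; simp))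
    -- the solvable overgroup `K A`
    set S := (N ⊔ A.map π).comap π
    have hS : Group.IsSolvable S := by
      haveI : Group.IsSolvable ↥(A.map π) := by
        haveI := hA
        exact Group.isSolvable_of_surjective (π.subgroupMap_surjective A)
      have hmap : (N ⊔ A.map π).map (QuotientGroup.mk' N) = (A.map π).map (QuotientGroup.mk' N) := by
        rw [Subgroup.map_sup, QuotientGroup.map_mk'_self, bot_sup_eq]
      haveI : Group.IsSolvable ↥((N ⊔ A.map π).map (QuotientGroup.mk' N)) := by
        rw [hmap]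
        exact Group.isSolvable_of_surjective ((QuotientGroup.mk' N).subgroupMap_surjective (A.map π))
      haveI : Group.IsSolvable ↥(N ⊔ A.map π) :=
        Group.isSolvable_of_ker_le_range (Subgroup.inclusion (le_sup_left : N ≤ N ⊔ A.map π))
          ((QuotientGroup.mk' N).subgroupMap (N ⊔ A.map π)) fun c hc' =>
            ⟨⟨(c : G ⧸ center G), (QuotientGroup.eq_one_iff _).mp (congrArg Subtype.val (MonoidHom.mem_ker.mp hc'))⟩, rfl⟩
      haveI : Group.IsSolvable ↥(center G) := Group.isSolvable_of_comm fun u v => Subtype.ext (mem_center_iff.mp v.2 u.1)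
      have hle : center G ≤ S := fun z hz => by
        rw [mem_comap, show π z = 1 from (QuotientGroup.eq_one_iff z).mpr hz]; exact one_mem _
      exact Group.isSolvable_of_ker_le_range (Subgroup.inclusion hle) (π.subgroupComap (N ⊔ A.map π)) fun c hc' =>
        ⟨⟨(c : G), (QuotientGroup.eq_one_iff _).mp (congrArg Subtype.val (MonoidHom.mem_ker.mp hc'))⟩, rfl⟩
    have hAS : A ≤ S := fun b hb => mem_comap.mpr ((le_sup_right : _ ≤ N ⊔ A.map π) (mem_map_of_mem π hb))
    have hNbot : N = ⊥ := by
      rw [eq_bot_iff]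
      intro x hx
      obtain ⟨y, rfl⟩ := hπ x
      refine mem_bot.mpr (hfix _ hx ?_)
      have := hc S hAS hS a haA y (mem_comap.mpr ((le_sup_left : N ≤ _) hx))
      show π y * (π a) ^ i = (π a) ^ i * π y
      exact ((show Commute (π a) (π y) from by
        rw [Commute, SemiconjBy, ← map_mul, ← map_mul, this]).pow_left i).symm.eq
    have := hNH.sup_eq_top
    rw [hNbot, bot_sup_eq] at this
    exact hFC.2.1 this

/-- Let A be a solvable subgroup of a finite group G such that A lies in the centre of every solvable subgroup of G containing A. Then A lies in the centre of G. -/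
theorem result {G : Type*} [Group G] [Finite G]
    (A : Subgroup G) (hA : Group.IsSolvable A)
    (hc : ∀ S : Subgroup G, A ≤ S → Group.IsSolvable S → ∀ a ∈ A, ∀ s ∈ S, a * s = s * a) : A ≤ Subgroup.center G := by
  exact main _ G rfl A hA hc

end Cfsg.Agent.S4097
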