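import Cfsg.Statements.S4106
import Cfsg.Agent.Lib.Block.PPart

set_option autoImplicit false
open scoped Pointwise
open Cfsg

namespace Cfsg.Agent.S4106

section Helpers

universe u

theorem count_le : ∀ (s : Finset ℕ), (∀ q ∈ s, q.Prime) → ∀ (G : Type u) [Group G] [Finite G],
    Nat.card {C : ConjClasses G // ∀ q : ℕ, q.Prime → (∃ g : G, ConjClasses.mk g = C ∧ q ∣ orderOf g) → q ∈ s} ≤
      ∏ q ∈ s, q ^ (Nat.card G).factorization q := by
  classical
  intro s
  induction s using Finset.induction_on with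
  | empty =>
    intro _ G _ _
    rw [Finset.prod_empty]
    refine Finite.card_le_one_iff_subsingleton.2 ⟨?_⟩
    have key : ∀ C : {C : ConjClasses G // ∀ q : ℕ, q.Prime → (∃ g : G, ConjClasses.mk g = C ∧ q ∣ orderOf g) → q ∈ (∅ : Finset ℕ)},
        C.1 = ConjClasses.mk 1 := by
      rintro ⟨C, hC⟩
      obtain ⟨g, hg⟩ := Quotient.exists_rep C
      by_contra hne
      have h1 : orderOf g ≠ 1 := fun e => hne (by
        show C = _; rw [← hg, orderOf_eq_one_iff.1 e]; rfl)
      obtain ⟨q, hq, hd⟩ := Nat.exists_prime_and_dvd h1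
      exact absurd (hC q hq ⟨g, hg, hd⟩) (Finset.notMem_empty q)
    exact fun a b => Subtype.ext ((key a).trans (key b).symm)
  | insert p s hps ih =>
    intro hs G _ _
    have hp : p.Prime := hs p (Finset.mem_insert_self p s)
    haveI : Fact p.Prime := ⟨hp⟩
    have ihs := ih (fun q hq => hs q (Finset.mem_insert_of_mem hq))
    rw [Finset.prod_insert hps]
    obtain ⟨P⟩ : Nonempty (Sylow p G) := inferInstance
    set M := ∏ q ∈ s, q ^ (Nat.card G).factorization q with hM
    -- representatives inside the Sylow subgroup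
    let R := {C : ConjClasses G // ∃ x ∈ (P : Subgroup G), ConjClasses.mk x = C}
    have hR : ∀ C : R, ∃ x ∈ (P : Subgroup G), ConjClasses.mk x = C.1 := fun C => C.2
    choose rep hrP hrep using hR
    have hRc : Nat.card R ≤ p ^ (Nat.card G).factorization p := by
      rw [← P.card_eq_multiplicity]
      refine Nat.card_le_card_of_injective (fun C => (⟨rep C, hrP C⟩ : (P : Subgroup G))) fun C D h => ?_
      have h' : rep C = rep D := congrArg Subtype.val h
      exact Subtype.ext (by rw [← hrep C, ← hrep D, h'])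
    let Cs := fun C : R => Subgroup.centralizer ({rep C} : Set G)
    let T := fun C : R => {D : ConjClasses (Cs C) // ∀ q : ℕ, q.Prime → (∃ g : Cs C, ConjClasses.mk g = D ∧ q ∣ orderOf g) → q ∈ s}
    have hT : ∀ C, Nat.card (T C) ≤ M := by
      intro C
      refine (ihs (Cs C)).trans (Finset.prod_le_prod (fun q hq => Nat.zero_le _) fun q hq => ?_)
      refine Nat.pow_le_pow_right (hs q (Finset.mem_insert_of_mem hq)).pos ?_
      exact (Nat.factorization_le_iff_dvd Nat.card_pos.ne' Nat.card_pos.ne').2 (Subgroup.card_subgroup_dvd_card _) q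
    have key : ∀ C : {C : ConjClasses G // ∀ q : ℕ, q.Prime → (∃ g : G, ConjClasses.mk g = C ∧ q ∣ orderOf g) → q ∈ insert p s},
        ∃ (r : R) (y : Cs r), ConjClasses.mk (rep r * (y : G)) = C.1 ∧
          (∀ q : ℕ, q.Prime → q ∣ orderOf y → q ∈ s) := by
      rintro ⟨C, hC⟩
      obtain ⟨g, hg⟩ := Quotient.exists_rep C
      obtain ⟨x, y, hxy, hcm, ⟨i, hi⟩, hy, -, hyg⟩ := Cfsg.Agent.Block.exists_isPPart hp g
      obtain ⟨Q, hQ⟩ := (IsPGroup.of_card (p := p) (n := i) ((Nat.card_zpowers x).trans hi)).exists_le_sylow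
      obtain ⟨t, ht⟩ := MulAction.exists_smul_eq G Q P
      have htx : t * x * t⁻¹ ∈ (P : Subgroup G) := by
        rw [← ht, Sylow.coe_subgroup_smul]
        exact ⟨x, hQ (Subgroup.mem_zpowers x), rfl⟩
      let r : R := ⟨ConjClasses.mk (t * x * t⁻¹), _, htx, rfl⟩
      obtain ⟨u, hu⟩ := isConj_iff.1 (ConjClasses.mk_eq_mk_iff_isConj.1 (hrep r).symm :
        IsConj (t * x * t⁻¹) (rep r))
      have hur : u * t * x * (u * t)⁻¹ = rep r := by rw [← hu]; group
      have hy' : u * t * y * (u * t)⁻¹ ∈ Cs r := by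
        rw [Subgroup.mem_centralizer_singleton_iff, ← hur]
        calc u * t * y * (u * t)⁻¹ * (u * t * x * (u * t)⁻¹) = u * t * (y * x) * (u * t)⁻¹ := by group
          _ = _ := by rw [hcm.symm.eq]; group
      refine ⟨r, ⟨_, hy'⟩, ?_, fun q hq hd => ?_⟩
      · show _ = C
        rw [← hg]
        exact ConjClasses.mk_eq_mk_iff_isConj.2 (isConj_iff.2 ⟨(u * t)⁻¹, by rw [← hxy, ← hur]; group⟩)
      · rw [Subgroup.orderOf_mk] at hd
        rw [show orderOf (u * t * y * (u * t)⁻¹) = orderOf y from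
          orderOf_injective (MulAut.conj (u * t)).toMonoidHom (MulEquiv.injective _) y] at hd
        have hqp : q ≠ p := fun e => hy (e ▸ hd)
        exact (Finset.mem_insert.1 (hC q hq ⟨g, hg, hd.trans (orderOf_dvd_of_mem_zpowers hyg)⟩)).resolve_left hqp
    choose r y hry hy using key
    have hyT : ∀ C, ∀ q : ℕ, q.Prime → (∃ g : Cs (r C), ConjClasses.mk g = ConjClasses.mk (y C) ∧ q ∣ orderOf g) → q ∈ s := by
      rintro C q hq ⟨g, hg, hd⟩
      obtain ⟨t, ht⟩ := isConj_iff.1 (ConjClasses.mk_eq_mk_iff_isConj.1 hg)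
      refine hy C q hq ?_
      rw [← ht, show orderOf (t * g * t⁻¹) = orderOf g from
        orderOf_injective (MulAut.conj t).toMonoidHom (MulEquiv.injective _) g]
      exact hd
    let F : {C : ConjClasses G // ∀ q : ℕ, q.Prime → (∃ g : G, ConjClasses.mk g = C ∧ q ∣ orderOf g) → q ∈ insert p s} → (C : R) × T C :=
      fun C => ⟨r C, ⟨ConjClasses.mk (y C), hyT C⟩⟩
    have hF : Function.Injective F := by
      intro C D h
      have key : ∀ (r₁ r₂ : R) (y₁ : Cs r₁) (y₂ : Cs r₂), r₁ = r₂ → HEq (ConjClasses.mk y₁) (ConjClasses.mk y₂) →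
          ConjClasses.mk (rep r₁ * (y₁ : G)) = ConjClasses.mk (rep r₂ * (y₂ : G)) := by
        rintro r₁ _ y₁ y₂ rfl he
        obtain ⟨t, ht⟩ := isConj_iff.1 (ConjClasses.mk_eq_mk_iff_isConj.1 (eq_of_heq he))
        refine ConjClasses.mk_eq_mk_iff_isConj.2 (isConj_iff.2 ⟨(t : G), ?_⟩)
        have e1 := congrArg Subtype.val ht
        simp only [Subgroup.coe_mul, Subgroup.coe_inv] at e1
        rw [← e1, ← mul_assoc (t : G), Subgroup.mem_centralizer_singleton_iff.1 t.2]
        group
      have hr : r C = r D := congrArg Sigma.fst h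
      refine Subtype.ext ?_
      rw [← hry C, ← hry D]
      refine key _ _ _ _ hr ?_
      have h2 : ∀ (a b : (C : R) × T C), a = b → HEq a.2.1 b.2.1 := by rintro a b rfl; rfl
      exact h2 _ _ h
    haveI := Fintype.ofFinite R
    refine (Nat.card_le_card_of_injective F hF).trans ?_
    rw [Nat.card_sigma]
    refine (Finset.sum_le_sum (fun C _ => hT C)).trans ?_
    rw [Finset.sum_const, Finset.card_univ, smul_eq_mul, ← Nat.card_eq_fintype_card]
    exact Nat.mul_le_mul_right _ hRc

end Helpers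

/-- Let G be a finite group, π a set of primes and m the π-part of the order of G. Then the number of conjugacy classes of G consisting of π-elements (elements whose order is divisible only by primes in π) is at most m. -/
theorem result {G : Type*} [Group G] [Finite G]
    (π : Set ℕ) (hπ : ∀ q ∈ π, q.Prime)
    (m : ℕ) (hm : m ∣ Nat.card G) (hmπ : ∀ q : ℕ, q.Prime → q ∣ m → q ∈ π)
    (hm' : ∀ q ∈ π, ¬ q ∣ Nat.card G / m) :
    Nat.card {C : ConjClasses G // ∀ q : ℕ, q.Prime → (∃ g : G, ConjClasses.mk g = C ∧ q ∣ orderOf g) → q ∈ π} ≤ m := by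
  classical
  set s := (Nat.card G).primeFactors.filter (fun q => q ∈ π) with hs
  have hsp : ∀ q ∈ s, q.Prime := fun q hq => Nat.prime_of_mem_primeFactors (Finset.mem_filter.1 hq).1
  refine le_trans (le_trans ?_ (count_le s hsp G)) (Nat.le_of_dvd (Nat.pos_of_dvd_of_pos hm Nat.card_pos) ?_)
  · refine Nat.card_le_card_of_injective (fun C => ⟨C.1, fun q hq hgC => ?_⟩) fun a b h => Subtype.ext (congrArg (fun t => t.1) h)
    obtain ⟨g, hg, hd⟩ := hgC
    exact Finset.mem_filter.2 ⟨Nat.mem_primeFactors.2 ⟨hq, hd.trans (orderOf_dvd_natCard g), Nat.card_pos.ne'⟩, C.2 q hq ⟨g, hg, hd⟩⟩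
  · refine Finset.prod_dvd_of_isRelPrime (fun a ha b hb hab =>
      Nat.coprime_iff_isRelPrime.1 (((Nat.coprime_primes (hsp a ha) (hsp b hb)).2 hab).pow _ _)) fun q hq => ?_
    have hqd : q ^ (Nat.card G).factorization q ∣ m * (Nat.card G / m) := by
      rw [Nat.mul_div_cancel' hm]; exact Nat.ordProj_dvd _ _
    exact (Nat.Coprime.pow_left _ ((hsp q hq).coprime_iff_not_dvd.2 (hm' q (Finset.mem_filter.1 hq).2))).dvd_of_dvd_mul_right hqd

end Cfsg.Agent.S4106
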