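import Cfsg.Statements.S4108
import Cfsg.Agent.Lib.Perm.Frobenius

set_option autoImplicit false
open Cfsg

namespace Cfsg.Agent.S4108

/-- Let G be a finite group, p a prime and N a proper non-trivial normal p-subgroup such that for every x outside N all elements of the coset xN have the same order as x. Then every non-trivial subgroup H of G of order prime to p acts fixed-point-freely on N: NH is a Frobenius group with complement H and kernel N. -/
theorem result {G : Type*} [Group G] [Finite G] (N : Subgroup G) [N.Normal] (hN1 : N ≠ ⊥) (hN2 : N ≠ ⊤)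
    (heq : ∀ x : G, x ∉ N → ∀ n ∈ N, orderOf (x * n) = orderOf x)
    (p : ℕ) [Fact p.Prime] (hNp : IsPGroup p N) :
    ∀ H : Subgroup G, H ≠ ⊥ → (Nat.card H).Coprime p →
      Cfsg.IsFrobeniusComplement (H.subgroupOf (N ⊔ H)) ∧ Cfsg.frobeniusKernel (H.subgroupOf (N ⊔ H)) = (N.subgroupOf (N ⊔ H) : Set ↥(N ⊔ H)) := by
  intro H hH hcop
  have hpow : ∀ x ∈ N, ∃ k, orderOf x = p ^ k := by
    intro x hx
    obtain ⟨k, hk⟩ := IsPGroup.iff_orderOf.1 hNp ⟨x, hx⟩
    exact ⟨k, by rw [← hk, Subgroup.orderOf_mk]⟩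
  have hcopN : ∀ h ∈ H, ∀ n ∈ N, (orderOf h).Coprime (orderOf n) := by
    intro h hh n hn
    obtain ⟨k, hk⟩ := hpow n hn
    rw [hk]
    refine Nat.Coprime.pow_right k (hcop.coprime_dvd_left ?_)
    rw [← Subgroup.orderOf_mk h hh]; exact orderOf_dvd_natCard _
  have hfpf : ∀ h ∈ H, ∀ n ∈ N, Commute h n → h = 1 ∨ n = 1 := by
    intro h hh n hn hc
    by_cases h1 : h = 1
    · exact Or.inl h1
    have hout : h ∉ N := by
      intro hN
      have := hcopN h hh h hN
      rw [Nat.coprime_self, orderOf_eq_one_iff] at this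
      exact h1 this
    have h2 := heq h hout n hn
    rw [hc.orderOf_mul_eq_mul_orderOf_of_coprime (hcopN h hh n hn)] at h2
    exact Or.inr (orderOf_eq_one_iff.1 ((Nat.mul_eq_left (orderOf_pos h).ne').1 h2))
  have hH' : H.subgroupOf (N ⊔ H) ≠ ⊥ := by
    rw [ne_eq, Subgroup.subgroupOf_eq_bot, disjoint_iff, inf_of_le_left le_sup_right]; exact hH
  have hN' : N.subgroupOf (N ⊔ H) ≠ ⊥ := by
    rw [ne_eq, Subgroup.subgroupOf_eq_bot, disjoint_iff, inf_of_le_left le_sup_left]; exact hN1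
  have hsup : N.subgroupOf (N ⊔ H) ⊔ H.subgroupOf (N ⊔ H) = ⊤ := by
    rw [← Subgroup.subgroupOf_sup le_sup_left le_sup_right, Subgroup.subgroupOf_self]
  exact Perm.isFrobeniusComplement_of_fpf _ _ hsup hN' hH' fun h hh n hn hc =>
    (hfpf h hh n hn (congrArg Subtype.val hc)).imp Subtype.ext Subtype.ext

end Cfsg.Agent.S4108
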