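import Cfsg.Statements.S4112
import Mathlib
import Cfsg.Agent.Lib.Local.PGroup

set_option autoImplicit false
open Cfsg

namespace Cfsg.Agent.S4112

---pre
open Subgroup in
theorem exists_min_supplement {G : Type*} [Group G] [Finite G] (N : Subgroup G) :
    ∃ H : Subgroup G, H ⊔ N = ⊤ ∧ ∀ K : Subgroup G, K ≤ H → K ⊔ N = ⊤ → K = H := by
  have : Finite {H : Subgroup G // H ⊔ N = ⊤} := inferInstance
  have : Nonempty {H : Subgroup G // H ⊔ N = ⊤} := ⟨⟨⊤, top_sup_eq _⟩⟩
  obtain ⟨⟨H, hH⟩, hmin⟩ := Finite.exists_min fun H : {H : Subgroup G // H ⊔ N = ⊤} => Nat.card H.1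
  exact ⟨H, hH, fun K hK hK' => eq_of_le_of_card_ge hK (hmin ⟨K, hK'⟩)⟩

open Subgroup in
theorem dvd_index_of_dvd_card {G : Type*} [Group G] [Finite G] (N : Subgroup G) [N.Normal]
    (H : Subgroup G) (hH : H ⊔ N = ⊤) (hmin : ∀ K : Subgroup G, K ≤ H → K ⊔ N = ⊤ → K = H)
    {r : ℕ} (hr : r.Prime) (hd : r ∣ Nat.card H) : r ∣ N.index := by
  by_contra hn
  have : Fact r.Prime := ⟨hr⟩
  have hi : ¬ r ∣ (N.subgroupOf H).index := by
    have : (N.subgroupOf H).index = N.index := by
      rw [← relIndex, ← relIndex_sup_right, hH, relIndex_top_right]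
    rwa [this]
  obtain ⟨R⟩ := Sylow.nonempty (p := r) (G := ↥(N.subgroupOf H))
  let R' : Subgroup H := (R : Subgroup (N.subgroupOf H)).map (N.subgroupOf H).subtype
  have hcard : Nat.card R' = Nat.card (R : Subgroup (N.subgroupOf H)) :=
    Nat.card_congr ((R : Subgroup (N.subgroupOf H)).equivMapOfInjective _ (subtype_injective _)).symm.toEquiv
  have hR'r : ¬ r ∣ R'.index := by
    intro hdiv
    rw [index_map, MonoidHom.ker_eq_bot _ (subtype_injective _), sup_bot_eq, range_subtype] at hdiv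
    rcases hr.dvd_mul.1 hdiv with h | h
    · exact R.not_dvd_index h
    · exact hi h
  have hlift : ∀ K : Subgroup H, K ⊔ N.subgroupOf H = ⊤ → K = ⊤ := by
    intro K hK
    have h1 : K.map H.subtype ⊔ N = ⊤ := by
      rw [eq_top_iff, ← hH, sup_le_iff]
      refine ⟨?_, le_sup_right⟩
      have := congrArg (Subgroup.map H.subtype) hK
      rw [Subgroup.map_sup, ← MonoidHom.range_eq_map, range_subtype] at this
      refine this.ge.trans (sup_le_sup_left ?_ _)
      rintro x ⟨y, hy, rfl⟩; exact hy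
    have := hmin _ (map_subtype_le K) h1
    apply map_injective H.subtype_injective
    rw [this, ← MonoidHom.range_eq_map, range_subtype]
  have hnorm : R'.Normal := normalizer_eq_top_iff.1 (hlift _ R.normalizer_sup_eq_top)
  have hco : (Nat.card R').Coprime R'.index := by
    obtain ⟨n, hn⟩ := IsPGroup.iff_card.1 R.isPGroup'
    rw [hcard, hn]
    exact Nat.Coprime.pow_left n ((hr.coprime_iff_not_dvd).2 hR'r)
  obtain ⟨C, hC⟩ := exists_right_complement'_of_coprime hco
  have hCtop : C = ⊤ := by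
    apply hlift
    rw [eq_top_iff, ← hC.sup_eq_top, sup_comm]
    exact sup_le_sup_left (map_subtype_le _) _
  have hR1 : Nat.card R' = 1 := by
    have := hC.card_mul
    rw [hCtop, card_top] at this
    exact (Nat.mul_eq_right Nat.card_pos.ne').1 this
  have h2 := R'.card_mul_index
  rw [hR1, one_mul] at h2
  exact hR'r (h2 ▸ hd)

/-- Let G be a finite group and M ≤ N non-trivial proper normal subgroups such that for every g outside N the conjugacy class of g is a union of cosets of M (equivalently gm is conjugate to g for every m ∈ M). Then (1) and (2) below are equivalent, and they imply (3): (1) every g outside N acts fixed-point-freely on M, that is C_G(x) ≤ N for every x ∈ M, x ≠ 1; (2) the index of N in G is coprime to the order of M; (3) there is a subgroup H of G with HN = G and H ∩ M = 1. -/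
theorem result {G : Type*} [Group G] [Finite G] (N M : Subgroup G) [N.Normal] [M.Normal] (hMN : M ≤ N) (hM1 : M ≠ ⊥) (hN2 : N ≠ ⊤)
    (hcam : ∀ g : G, g ∉ N → ∀ m ∈ M, ∃ x : G, x * g * x⁻¹ = g * m) :
    ((∀ x ∈ M, x ≠ 1 → Subgroup.centralizer ({x} : Set G) ≤ N) ↔ N.index.Coprime (Nat.card M)) ∧
    ((∀ x ∈ M, x ≠ 1 → Subgroup.centralizer ({x} : Set G) ≤ N) → ∃ H : Subgroup G, H ⊔ N = ⊤ ∧ H ⊓ M = ⊥) := by
  have e1 : (∀ x ∈ M, x ≠ 1 → Subgroup.centralizer ({x} : Set G) ≤ N) → N.index.Coprime (Nat.card M) := by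
    intro h
    refine Nat.coprime_of_dvd fun r hr hri hrM => ?_
    have : Fact r.Prime := ⟨hr⟩
    obtain ⟨x, hx⟩ := exists_prime_orderOf_dvd_card' r hrM
    have hX : IsPGroup r (Subgroup.zpowers (x : G)) := by
      rw [IsPGroup.iff_card]; exact ⟨1, by rw [Nat.card_zpowers, Subgroup.orderOf_coe, hx, pow_one]⟩
    obtain ⟨R, hR⟩ := hX.exists_le_sylow
    have hRN : ¬ (R : Subgroup G) ≤ N := fun hle =>
      R.not_dvd_index (hri.trans (Subgroup.index_dvd_of_le hle))
    obtain ⟨g, hgR, hgN⟩ := SetLike.not_le_iff_exists.1 hRN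
    have hne : M.subgroupOf (R : Subgroup G) ≠ ⊥ := by
      intro he
      have : (⟨(x : G), hR (Subgroup.mem_zpowers _)⟩ : (R : Subgroup G)) ∈ M.subgroupOf (R : Subgroup G) := x.2
      rw [he, Subgroup.mem_bot] at this
      have h1 : (x : G) = 1 := congrArg Subtype.val this
      rw [← Subgroup.orderOf_coe, h1, orderOf_one] at hx
      exact hr.one_lt.ne hx
    have : (M.subgroupOf (R : Subgroup G)).Normal := inferInstance
    have hz : M.subgroupOf (R : Subgroup G) ⊓ Subgroup.center (R : Subgroup G) ≠ ⊥ :=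
      Local.inf_center_ne_bot R.isPGroup' _ hne
    obtain ⟨z, ⟨hz1, hz2⟩, hz3⟩ := (Subgroup.bot_or_exists_ne_one _).resolve_left hz
    refine hgN (h (z : G) hz1 (fun e => hz3 (Subtype.ext e)) (Subgroup.mem_centralizer_iff.2 ?_))
    intro y hy
    rw [Set.mem_singleton_iff] at hy
    subst hy
    exact congrArg Subtype.val ((Subgroup.mem_center_iff.1 hz2 ⟨g, hgR⟩).symm)
  have e2 : N.index.Coprime (Nat.card M) → ∀ x ∈ M, x ≠ 1 → Subgroup.centralizer ({x} : Set G) ≤ N := by
    intro hco x hx hx1 g hg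
    by_contra hgN
    have : N.Normal := inferInstance
    let gq : G ⧸ N := (g : G ⧸ N)
    have hgq : orderOf gq ≠ 1 := fun e => hgN ((QuotientGroup.eq_one_iff g).1 (orderOf_eq_one_iff.1 e))
    obtain ⟨r, hr, hrd⟩ := Nat.exists_prime_and_dvd hgq
    have hrg : r ∣ orderOf g := hrd.trans (orderOf_map_dvd (QuotientGroup.mk' N) g)
    have hri : r ∣ N.index := hrd.trans (by rw [Subgroup.index]; exact orderOf_dvd_natCard _)
    obtain ⟨k, m, hrm, hkm⟩ := Nat.exists_eq_pow_mul_and_not_dvd (orderOf_pos g).ne' r hr.ne_one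
    have hyN : g ^ m ∉ N := by
      intro hy
      have h1 : gq ^ m = 1 := by
        rw [← QuotientGroup.mk_pow]; exact (QuotientGroup.eq_one_iff _).2 hy
      exact hrm (hrd.trans (orderOf_dvd_of_pow_eq_one h1))
    have hy : orderOf (g ^ m) = r ^ k := by
      rw [orderOf_pow' g (fun e => hrm (by rw [e]; exact dvd_zero r)), hkm, Nat.gcd_mul_left_left, Nat.mul_div_cancel]
      exact Nat.pos_of_ne_zero fun e => hrm (by rw [e]; exact dvd_zero r)
    have hgx : Commute g x := (Subgroup.mem_centralizer_iff.1 hg x rfl).symm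
    have hc : Commute (g ^ m) x := hgx.pow_left m
    have hcop : (orderOf (g ^ m)).Coprime (orderOf x) := by
      rw [hy]
      refine Nat.Coprime.pow_left k ((hco.coprime_dvd_left hri).coprime_dvd_right ?_)
      rw [← Subgroup.orderOf_mk x hx]; exact orderOf_dvd_natCard _
    obtain ⟨u, hu⟩ := hcam _ hyN x hx
    have h1 : orderOf (g ^ m * x) = orderOf (g ^ m) := by
      rw [← hu]
      exact (SemiconjBy.orderOf_eq u (by simp [SemiconjBy])).symm
    rw [hc.orderOf_mul_eq_mul_orderOf_of_coprime hcop] at h1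
    exact hx1 (orderOf_eq_one_iff.1 ((Nat.mul_eq_left (orderOf_pos _).ne').1 h1))
  refine ⟨⟨e1, e2⟩, fun h => ?_⟩
  obtain ⟨H, hH, hmin⟩ := exists_min_supplement N
  refine ⟨H, hH, Subgroup.card_eq_one.1 ?_⟩
  by_contra hne
  obtain ⟨r, hr, hd⟩ := Nat.exists_prime_and_dvd hne
  have h1 := dvd_index_of_dvd_card N H hH hmin hr (hd.trans (Subgroup.card_dvd_of_le inf_le_left))
  exact hr.not_dvd_one ((e1 h) ▸ Nat.dvd_gcd h1 (hd.trans (Subgroup.card_dvd_of_le inf_le_right)))

end Cfsg.Agent.S4112
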