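import Cfsg.Statements.S4113

set_option autoImplicit false
open Cfsg

namespace Cfsg.Agent.S4113

/-- Let G be a finite group, M ≤ N non-trivial proper normal subgroups, and H a subgroup with HM = G and H ∩ M = 1. Then every element of G outside N acts fixed-point-freely on M (C_G(x) ≤ N for every x ∈ M, x ≠ 1) if and only if H ∩ gHg⁻¹ ≤ H ∩ N for every g outside H, with H proper and non-trivial and H ∩ N proper in H. -/
theorem result {G : Type*} [Group G] [Finite G] (N M : Subgroup G) [N.Normal] [M.Normal] (hMN : M ≤ N) (hM1 : M ≠ ⊥) (hN2 : N ≠ ⊤)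
    (H : Subgroup G) (hHM : H ⊔ M = ⊤) (hHM' : H ⊓ M = ⊥) :
    (∀ x ∈ M, x ≠ 1 → Subgroup.centralizer ({x} : Set G) ≤ N) ↔
      (H ≠ ⊥ ∧ H ≠ ⊤ ∧ H ⊓ N < H ∧ ∀ g : G, g ∉ H → H ⊓ H.map (MulAut.conj g).toMonoidHom ≤ N) := by
  have hdec : ∀ g : G, ∃ h ∈ H, ∃ m ∈ M, g = h * m := fun g => by
    have hg : g ∈ ((H ⊔ M : Subgroup G) : Set G) := by rw [hHM]; trivial
    rw [Subgroup.mul_normal] at hg
    obtain ⟨h, hh, m, hm, rfl⟩ := hg
    exact ⟨h, hh, m, hm, rfl⟩
  have htriv : ∀ z, z ∈ H → z ∈ M → z = 1 := fun z h1 h2 => by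
    have : z ∈ H ⊓ M := ⟨h1, h2⟩
    rw [hHM'] at this
    simpa using this
  constructor
  · intro hC
    have hHN : ¬ H ≤ N := fun h => hN2 (top_le_iff.mp (hHM ▸ sup_le h hMN))
    refine ⟨fun h => hHN (h ▸ bot_le), fun h => hM1 (by rw [h, top_inf_eq] at hHM'; exact hHM'),
      lt_of_le_of_ne inf_le_left (fun h => hHN (inf_eq_left.mp h)), ?_⟩
    intro g hg y hy
    obtain ⟨hyH, k, hk, rfl⟩ := hy
    obtain ⟨h, hh, m, hm, rfl⟩ := hdec g
    simp only [MulEquiv.coe_toMonoidHom, MulAut.conj_apply] at hyH ⊢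
    have hz : m * k * m⁻¹ ∈ H := by
      have := H.mul_mem (H.mul_mem (H.inv_mem hh) hyH) hh
      convert this using 1; group
    have hzk : m * k * m⁻¹ * k⁻¹ = 1 := by
      refine htriv _ (H.mul_mem hz (H.inv_mem hk)) ?_
      have h2 := M.mul_mem hm (‹M.Normal›.conj_mem _ (M.inv_mem hm) k)
      convert h2 using 1; group
    have hm1 : m ≠ 1 := fun h1 => hg (by simpa [h1] using hh)
    have hkN : k ∈ N := hC m hm hm1 (Subgroup.mem_centralizer_singleton_iff.mpr (by
      have e := mul_inv_eq_one.mp hzk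
      calc k * m = m * k * m⁻¹ * m := by rw [e]
        _ = m * k := by group))
    exact ‹N.Normal›.conj_mem k hkN (h * m)
  · rintro ⟨-, -, -, hF⟩ x hx hx1 c hc
    rw [Subgroup.mem_centralizer_singleton_iff] at hc
    obtain ⟨h, hh, m, hm, rfl⟩ := hdec c
    by_cases hhN : h ∈ N
    · exact N.mul_mem hhN (hMN hm)
    exfalso
    have hfix : ∀ w ∈ M, w * h = h * w → w = 1 := fun w hw e => by
      by_contra hw1
      refine hhN (hF w (fun hwH => hw1 (htriv w hwH hw)) ⟨hh, h, hh, ?_⟩)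
      simp only [MulEquiv.coe_toMonoidHom, MulAut.conj_apply]
      rw [e]; group
    let f : M → M := fun u => ⟨h⁻¹ * u * h * (u : G)⁻¹, M.mul_mem (by
      simpa using ‹M.Normal›.conj_mem _ u.2 h⁻¹) (M.inv_mem u.2)⟩
    have hf : Function.Injective f := fun u v e => by
      have e' : h⁻¹ * u * h * (u : G)⁻¹ = h⁻¹ * v * h * (v : G)⁻¹ := congrArg Subtype.val e
      have := hfix _ (M.mul_mem (M.inv_mem v.2) u.2) (by
        have e2 : (u : G) * h * (u : G)⁻¹ = v * h * (v : G)⁻¹ := by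
          have := congrArg (h * ·) e'
          simpa [mul_assoc] using this
        calc (v : G)⁻¹ * u * h = (v : G)⁻¹ * (u * h * (u : G)⁻¹) * u := by group
          _ = h * ((v : G)⁻¹ * u) := by rw [e2]; group)
      exact Subtype.ext (inv_mul_eq_one.mp this).symm
    obtain ⟨u, hu⟩ := (Finite.injective_iff_surjective.mp hf) ⟨m, hm⟩
    have hu' : h * m = (u : G) * h * (u : G)⁻¹ := by
      rw [show m = h⁻¹ * u * h * (u : G)⁻¹ from (congrArg Subtype.val hu).symm]; group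
    rw [hu'] at hc
    have := hfix ((u : G)⁻¹ * x * u) (by simpa using ‹M.Normal›.conj_mem _ hx (u : G)⁻¹) (by
      calc (u : G)⁻¹ * x * u * h = (u : G)⁻¹ * (x * ((u : G) * h * (u : G)⁻¹)) * u := by group
        _ = h * ((u : G)⁻¹ * x * u) := by rw [← hc]; group)
    exact hx1 (by rw [show x = (u : G) * ((u : G)⁻¹ * x * u) * (u : G)⁻¹ by group, this]; group)

end Cfsg.Agent.S4113
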