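import Cfsg.Statements.S4116

set_option autoImplicit false
open Cfsg

namespace Cfsg.Agent.S4116

---pre
open scoped Pointwise

/-- Let G be a finite group with a subgroup H whose order is coprime to its index (a Hall subgroup) and which meets each of its conjugates by elements outside N_G(H) trivially. Then every subgroup of G whose order is divisible only by primes dividing the order of H lies in a conjugate of H. -/
theorem result {G : Type*} [Group G] [Finite G] (H : Subgroup G)
    (hHall : (Nat.card H).Coprime H.index) (hTI : Cfsg.IsTISubset (H : Set G))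
    (K : Subgroup G) (hK : ∀ q : ℕ, q.Prime → q ∣ Nat.card K → q ∣ Nat.card H) :
    ∃ g : G, K ≤ H.map (MulAut.conj g).toMonoidHom := by
  classical
  set π : ℕ → Prop := fun q => q ∣ Nat.card H
  -- a `π`-subgroup containing a conjugate of `H` is equal to it
  have hconjcard : ∀ g : G, Nat.card ↥(MulAut.conj g • H) = Nat.card H := fun g =>
    (Nat.card_congr (Subgroup.equivSMul (MulAut.conj g) H).toEquiv).symm
  have hidx : ∀ q : ℕ, q.Prime → q ∣ Nat.card H → ¬ q ∣ H.index := fun q hq h1 h2 =>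
    hq.one_lt.ne' (Nat.eq_one_of_dvd_coprimes hHall h1 h2)
  have hmem : ∀ g x : G, x ∈ MulAut.conj g • H ↔ g⁻¹ * x * g ∈ H := fun g x => by
    rw [Subgroup.mem_pointwise_smul_iff_inv_smul_mem]
    simp [MulAut.smul_def, mul_assoc]
  -- `N(H^g) ∩ K ≤ H^g`
  have hnorm : ∀ g k : G, k ∈ K → g⁻¹ * k * g ∈ Subgroup.normalizer (H : Set G) → g⁻¹ * k * g ∈ H := by
    intro g k hk hn
    set y := g⁻¹ * k * g
    have hy : orderOf y ∣ Nat.card K := by
      have : orderOf y = orderOf k := by
        rw [show y = MulAut.conj g⁻¹ k by simp [y]]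
        exact orderOf_injective (MulAut.conj g⁻¹).toMonoidHom (MulAut.conj g⁻¹).injective k
      rw [this]; exact Subgroup.orderOf_dvd_natCard K hk
    have h1 : orderOf (⟨y, hn⟩ : Subgroup.normalizer (H : Set G)) = orderOf y := Subgroup.orderOf_mk _ _
    set q := ((⟨y, hn⟩ : Subgroup.normalizer (H : Set G)) :
      Subgroup.normalizer (H : Set G) ⧸ H.subgroupOf (Subgroup.normalizer (H : Set G))) with hq
    have h2 : orderOf q ∣ Nat.card K :=
      (orderOf_map_dvd (QuotientGroup.mk' _) _).trans (h1 ▸ hy)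
    have h3 : orderOf q ∣ H.index := by
      refine (orderOf_dvd_natCard q).trans ?_
      rw [← Subgroup.index_eq_card]
      exact Subgroup.relIndex_dvd_index_of_le Subgroup.le_normalizer
    by_contra hyH
    have hne : orderOf q ≠ 1 := fun e => hyH (Subgroup.mem_subgroupOf.1
      ((QuotientGroup.eq_one_iff (⟨y, hn⟩ : Subgroup.normalizer (H : Set G))).1 (orderOf_eq_one_iff.1 e)))
    obtain ⟨r, hr, hrd⟩ := Nat.exists_prime_and_dvd hne
    exact hidx r hr (hK r hr (hrd.trans h2)) (hrd.trans h3)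
  let D : G → Subgroup G := fun g => K ⊓ MulAut.conj g • H
  -- trivial intersection
  have hTI' : ∀ g g' x : G, x ∈ MulAut.conj g • H → x ∈ MulAut.conj g' • H → x ≠ 1 →
      MulAut.conj g • H = MulAut.conj g' • H := by
    intro g g' x hx hx' hx1
    rw [hmem] at hx hx'
    have hn : g'⁻¹ * g ∈ Subgroup.normalizer (H : Set G) := by
      by_contra hn
      have := hTI (g'⁻¹ * g) hn _ hx (by
        rw [show g'⁻¹ * g * (g⁻¹ * x * g) * (g'⁻¹ * g)⁻¹ = g'⁻¹ * x * g' by group]; exact hx')
      exact hx1 (by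
        calc x = g * (g⁻¹ * x * g) * g⁻¹ := by group
          _ = 1 := by rw [this]; group)
    ext z
    rw [hmem, hmem, Subgroup.mem_normalizer_iff.1 hn (g⁻¹ * z * g),
      show g'⁻¹ * g * (g⁻¹ * z * g) * (g'⁻¹ * g)⁻¹ = g'⁻¹ * z * g' by group]
  by_cases hKbot : K = ⊥
  · exact ⟨1, by rw [hKbot]; exact bot_le⟩
  -- every prime divisor of `|K|` gives a nontrivial `D`
  have hsyl : ∀ x ∈ K, ∀ r : ℕ, r.Prime → r ∣ orderOf x → ∃ z : G, z ∈ Subgroup.zpowers x ∧ z ≠ 1 ∧
      ∃ g : G, z ∈ MulAut.conj g • H := by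
    intro x hx r hr hrd
    haveI := Fact.mk hr
    obtain ⟨z, hz⟩ := exists_prime_orderOf_dvd_card' (G := Subgroup.zpowers x) r (by rwa [Nat.card_zpowers])
    rw [← Subgroup.orderOf_coe] at hz
    refine ⟨z, z.2, fun e => by rw [e, orderOf_one] at hz; exact hr.one_lt.ne hz, ?_⟩
    have hrH : r ∣ Nat.card H := hK r hr (hrd.trans (Subgroup.orderOf_dvd_natCard K hx))
    obtain ⟨S⟩ : Nonempty (Sylow r H) := inferInstance
    have hSG : ¬ r ∣ ((S : Subgroup H).map H.subtype).index := by
      rw [Subgroup.index_map_subtype]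
      exact Nat.Prime.not_dvd_mul hr S.not_dvd_index (hidx r hr hrH)
    set S' := (S.isPGroup'.map H.subtype).toSylow hSG with hS'
    obtain ⟨P, hP⟩ := (IsPGroup.of_card (n := 1) (show Nat.card (Subgroup.zpowers (z : G)) = r ^ 1 by
      rw [Nat.card_zpowers, hz, pow_one])).exists_le_sylow
    obtain ⟨g, hg⟩ := MulAction.exists_smul_eq G S' P
    refine ⟨g, ?_⟩
    have : (z : G) ∈ (P : Subgroup G) := hP (Subgroup.mem_zpowers _)
    rw [← hg, Sylow.coe_subgroup_smul] at this
    exact Subgroup.pointwise_smul_le_pointwise_smul_iff.2 (Subgroup.map_subtype_le _) this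
  have hcover : ∀ x ∈ K, x ≠ 1 → ∃ g : G, x ∈ MulAut.conj g • H := by
    intro x hx hx1
    obtain ⟨r, hr, hrd⟩ := Nat.exists_prime_and_dvd (fun e => hx1 (orderOf_eq_one_iff.1 e))
    obtain ⟨z, hzx, hz1, g, hg⟩ := hsyl x hx r hr hrd
    refine ⟨g, ?_⟩
    rw [hmem] at hg ⊢
    refine hnorm g x hx ?_
    by_contra hn
    have hzc : x * z = z * x := by
      obtain ⟨j, rfl⟩ := Subgroup.mem_zpowers_iff.1 hzx
      exact ((Commute.refl x).zpow_right j).eq
    have := hTI (g⁻¹ * x * g) hn _ hg (by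
      rw [show g⁻¹ * x * g * (g⁻¹ * z * g) * (g⁻¹ * x * g)⁻¹ = g⁻¹ * (x * z * x⁻¹) * g by group,
        hzc, mul_inv_cancel_right]; exact hg)
    exact hz1 (by
      calc z = g * (g⁻¹ * z * g) * g⁻¹ := by group
        _ = 1 := by rw [this]; group)
  obtain ⟨x0, hx0, hx01⟩ := (Subgroup.bot_or_exists_ne_one K).resolve_left hKbot
  obtain ⟨g0, hg0⟩ := hcover x0 hx0 hx01
  -- the `K`-conjugates of `D g` cover more than half of `K`
  have hcount : ∀ g x, x ∈ D g → x ≠ 1 → ∀ S : Finset G,
      (∀ k ∈ K, ∀ y ∈ D (k * g), y ≠ 1 → y ∈ S) → Nat.card K ≤ S.card + (D g).relIndex K := by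
    intro g x hx hx1 S hS
    obtain ⟨hxK, hxH⟩ := Subgroup.mem_inf.1 hx
    have hnH : ∀ k ∈ K, k ∉ D g → MulAut.conj (k * g) • H ≠ MulAut.conj g • H := by
      intro k hk hkD he
      refine hkD (Subgroup.mem_inf.2 ⟨hk, ?_⟩)
      rw [hmem]
      refine hnorm g k hk (Subgroup.mem_normalizer_iff.2 fun y => ?_)
      have h := SetLike.ext_iff.1 he ((k * g) * y * (k * g)⁻¹)
      rw [hmem, hmem, show (k * g)⁻¹ * (k * g * y * (k * g)⁻¹) * (k * g) = y by group,
        show g⁻¹ * (k * g * y * (k * g)⁻¹) * g = g⁻¹ * k * g * y * (g⁻¹ * k * g)⁻¹ by group] at h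
      exact h
    let D' := (D g).subgroupOf K
    let f : (↥K ⧸ D') × {y : D g // y ≠ 1} → {y : G // y ∈ S} := fun p =>
      ⟨(p.1.out : G) * ((p.2 : D g) : G) * ((p.1.out : K) : G)⁻¹, hS _ p.1.out.2 _
        (Subgroup.mem_inf.2 ⟨mul_mem (mul_mem p.1.out.2 (Subgroup.mem_inf.1 (p.2 : D g).2).1)
          (inv_mem p.1.out.2), by
          rw [hmem]
          have := (hmem g _).1 (Subgroup.mem_inf.1 (p.2 : D g).2).2
          simpa [mul_assoc] using this⟩)
        (fun e => p.2.2 (Subtype.ext (conj_eq_one_iff.1 e)))⟩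
    have hf : Function.Injective f := by
      rintro ⟨c, y, hy⟩ ⟨c', y', hy'⟩ e
      have e' : (c.out : G) * (y : G) * (c.out : G)⁻¹ = (c'.out : G) * (y' : G) * (c'.out : G)⁻¹ :=
        congrArg Subtype.val e
      set a : G := ((c'.out : K) : G)⁻¹ * c.out with ha
      have haK : a ∈ K := mul_mem (inv_mem c'.out.2) c.out.2
      have hay : a * (y : G) * a⁻¹ = y' := by
        rw [ha]
        calc _ = ((c'.out : K) : G)⁻¹ * ((c.out : G) * (y : G) * (c.out : G)⁻¹) * c'.out := by group
          _ = _ := by rw [e']; group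
      have hcc : c = c' := by
        by_contra hne
        have haD : a ∉ D g := fun h => hne (by
          rw [← QuotientGroup.out_eq' c, ← QuotientGroup.out_eq' c']
          refine (QuotientGroup.eq.2 ?_).symm
          exact h)
        refine hnH a haK haD (hTI' _ _ (y' : G) ?_ (Subgroup.mem_inf.1 y'.2).2 fun e1 => hy' (Subtype.ext e1))
        rw [hmem, ← hay]
        have := (hmem g _).1 (Subgroup.mem_inf.1 y.2).2
        simpa [mul_assoc] using this
      subst hcc
      refine Prod.ext rfl (Subtype.ext (Subtype.ext ?_))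
      simpa using e'
    have h1 := Nat.card_le_card_of_injective f hf
    rw [Nat.card_prod, Nat.card_eq_finsetCard, ← Subgroup.index_eq_card] at h1
    have h2 : Nat.card {y : D g // y ≠ 1} + 1 = Nat.card (D g) := by
      haveI := Fintype.ofFinite (D g)
      rw [Nat.card_eq_fintype_card, Nat.card_eq_fintype_card, Fintype.card_subtype_compl,
        Fintype.card_subtype_eq]
      have := Fintype.card_pos (α := D g)
      omega
    have h3 : D'.index * Nat.card (D g) = Nat.card K := by
      rw [← Subgroup.index_mul_card D', Nat.card_congr (Subgroup.subgroupOfEquivOfLe inf_le_left).toEquiv]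
    show Nat.card K ≤ S.card + D'.index
    rw [← h3, ← h2, mul_add, mul_one]
    omega
  have hfin : Fintype G := Fintype.ofFinite G
  let S : G → Finset G := fun g => Finset.univ.filter fun y => y ≠ 1 ∧ ∃ k ∈ K, y ∈ D (k * g)
  have hSmem : ∀ g, ∀ k ∈ K, ∀ y ∈ D (k * g), y ≠ 1 → y ∈ S g := fun g k hk y hy hy1 => by
    simp only [S, Finset.mem_filter, Finset.mem_univ, true_and]
    exact ⟨hy1, k, hk, hy⟩
  have hhalf : ∀ g x, x ∈ D g → x ≠ 1 → 2 * (D g).relIndex K ≤ Nat.card K := by
    intro g x hx hx1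
    have h3 : ((D g).subgroupOf K).index * Nat.card (D g) = Nat.card K := by
      rw [← Subgroup.index_mul_card ((D g).subgroupOf K),
        Nat.card_congr (Subgroup.subgroupOfEquivOfLe inf_le_left).toEquiv]
    have h4 : 2 ≤ Nat.card (D g) := (Subgroup.one_lt_card_iff_ne_bot _).2 fun e => hx1 (by
      rwa [e, Subgroup.mem_bot] at hx)
    show 2 * ((D g).subgroupOf K).index ≤ _
    rw [← h3, mul_comm]
    exact Nat.mul_le_mul_left _ h4
  have hxD : x0 ∈ D g0 := Subgroup.mem_inf.2 ⟨hx0, hg0⟩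
  have hall : ∀ y ∈ K, y ≠ 1 → y ∈ S g0 := by
    intro y hy hy1
    by_contra hyS
    obtain ⟨g1, hg1⟩ := hcover y hy hy1
    have hdisj : Disjoint (S g0) (S g1) := by
      rw [Finset.disjoint_left]
      intro z hz0 hz1
      simp only [S, Finset.mem_filter, Finset.mem_univ, true_and] at hz0 hz1
      obtain ⟨hz, k, hk, hzk⟩ := hz0
      obtain ⟨-, k', hk', hzk'⟩ := hz1
      have he := hTI' _ _ z (Subgroup.mem_inf.1 hzk).2 (Subgroup.mem_inf.1 hzk').2 hz
      refine hyS (hSmem g0 (k'⁻¹ * k) (mul_mem (inv_mem hk') hk) y (Subgroup.mem_inf.2 ⟨hy, ?_⟩) hy1)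
      rw [hmem] at hg1 ⊢
      have h5 : (k' * y * k'⁻¹) ∈ MulAut.conj (k' * g1) • H := by
        rw [hmem]; simpa [mul_assoc] using hg1
      rw [← he, hmem] at h5
      simpa [mul_assoc] using h5
    have hsub : (S g0 ∪ S g1).card ≤ Nat.card K - 1 := by
      have : S g0 ∪ S g1 ⊆ (Finset.univ.filter fun z => z ∈ K).erase 1 := by
        intro z hz
        simp only [Finset.mem_union, S, Finset.mem_filter, Finset.mem_univ, true_and] at hz
        simp only [Finset.mem_erase, Finset.mem_filter, Finset.mem_univ, true_and]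
        rcases hz with ⟨h1, k, hk, h2⟩ | ⟨h1, k, hk, h2⟩ <;> exact ⟨h1, (Subgroup.mem_inf.1 h2).1⟩
      refine (Finset.card_le_card this).trans (le_of_eq ?_)
      rw [Finset.card_erase_of_mem (by simp), Nat.card_eq_fintype_card, ← Fintype.card_subtype]
    rw [Finset.card_union_of_disjoint hdisj] at hsub
    have a0 := hcount g0 x0 hxD hx01 (S g0) (hSmem g0)
    have a1 := hcount g1 y (Subgroup.mem_inf.2 ⟨hy, hg1⟩) hy1 (S g1) (hSmem g1)
    have b0 := hhalf g0 x0 hxD hx01
    have b1 := hhalf g1 y (Subgroup.mem_inf.2 ⟨hy, hg1⟩) hy1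
    have := Nat.card_pos (α := K)
    omega
  -- so `D g0` is all of `K`: count the conjugates from above
  have hD : D g0 = K := by
    refine Subgroup.eq_of_le_of_card_ge inf_le_left ?_
    set m := ((D g0).subgroupOf K).index with hm
    have h3 : m * Nat.card (D g0) = Nat.card K := by
      rw [hm, ← Subgroup.index_mul_card ((D g0).subgroupOf K),
        Nat.card_congr (Subgroup.subgroupOfEquivOfLe inf_le_left).toEquiv]
    let f : ({y : D g0 // y ≠ 1} × (↥K ⧸ (D g0).subgroupOf K)) → {y : K // y ≠ 1} := fun p =>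
      ⟨p.2.out * (Subgroup.inclusion (inf_le_left : D g0 ≤ K) (p.1 : D g0)) * p.2.out⁻¹, fun e => p.1.2
        (Subgroup.inclusion_injective _ ((conj_eq_one_iff.1 e).trans (map_one _).symm))⟩
    have hfs : Function.Surjective f := by
      rintro ⟨y, hy1⟩
      have hy' : (y : G) ≠ 1 := fun e => hy1 (Subtype.ext e)
      have := hall y y.2 hy'
      simp only [S, Finset.mem_filter, Finset.mem_univ, true_and] at this
      obtain ⟨-, k, hk, hyk⟩ := this
      set c : ↥K ⧸ (D g0).subgroupOf K := QuotientGroup.mk ⟨k, hk⟩ with hc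
      obtain ⟨d, hd⟩ : ∃ d : D g0, ((c.out : K) : G) = k * (d : G) := by
        have h5 : (⟨k, hk⟩ : K)⁻¹ * c.out ∈ (D g0).subgroupOf K :=
          QuotientGroup.eq.1 (QuotientGroup.out_eq' c).symm
        exact ⟨⟨k⁻¹ * (c.out : K), h5⟩, by simp⟩
      have hyH := (hmem _ _).1 (Subgroup.mem_inf.1 hyk).2
      have hd' := (hmem _ _).1 (Subgroup.mem_inf.1 d.2).2
      have hw : ((c.out : K) : G)⁻¹ * y * c.out ∈ D g0 := by
        refine Subgroup.mem_inf.2 ⟨mul_mem (mul_mem (inv_mem c.out.2) y.2) c.out.2, ?_⟩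
        rw [hmem, hd]
        have := mul_mem (mul_mem (inv_mem hd') hyH) hd'
        simpa [mul_assoc] using this
      refine ⟨(⟨⟨_, hw⟩, fun e => hy' ?_⟩, c), Subtype.ext (Subtype.ext ?_)⟩
      · have e' : ((c.out : K) : G)⁻¹ * y * c.out = 1 := congrArg Subtype.val e
        calc (y : G) = c.out * (((c.out : K) : G)⁻¹ * y * c.out) * ((c.out : K) : G)⁻¹ := by group
          _ = 1 := by rw [e']; group
      · simp [f, mul_assoc]
    have h1 := Nat.card_le_card_of_surjective f hfs
    rw [Nat.card_prod, ← Subgroup.index_eq_card, ← hm] at h1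
    have h2 : ∀ L : Subgroup G, Nat.card {y : L // y ≠ 1} + 1 = Nat.card L := fun L => by
      haveI := Fintype.ofFinite L
      rw [Nat.card_eq_fintype_card, Nat.card_eq_fintype_card, Fintype.card_subtype_compl,
        Fintype.card_subtype_eq]
      have := Fintype.card_pos (α := L)
      omega
    have h4 := h2 K
    have h5 := h2 (D g0)
    have h6 : m ≤ 1 := by
      rw [← h5, mul_add, mul_one] at h3
      rw [mul_comm] at h1
      omega
    calc Nat.card K = m * Nat.card (D g0) := h3.symm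
      _ ≤ 1 * Nat.card (D g0) := Nat.mul_le_mul_right _ h6
      _ = _ := one_mul _
  refine ⟨g0, fun k hk => ?_⟩
  rw [← hD] at hk
  have h := (Subgroup.mem_inf.1 hk).2
  rw [hmem] at h
  exact ⟨_, h, by simp [mul_assoc]⟩

end Cfsg.Agent.S4116
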