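import Cfsg.Statements.S4117
import Cfsg.Agent.Lib.Solv.ActionInvariant

set_option autoImplicit false
open scoped Pointwise
open scoped commutatorElement
open Cfsg

namespace Cfsg.Agent.S4117

/-- Let A be a finite group acting on the finite group G by automorphisms with the orders of A and G coprime, and suppose every Sylow subgroup of G is cyclic. Then the fixed-point subgroup C_G(A) is a Hall subgroup of G (its order is coprime to its index), the subgroup [G, A] generated by the elements g⁻¹·a(g) is cyclic and normal with [G, A] ∩ C_G(A) = 1 and [G, A]·C_G(A) = G. -/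
theorem result {G A : Type*} [Group G] [Finite G] [Group A] [Finite A]
    [MulDistribMulAction A G] (hcop : (Nat.card A).Coprime (Nat.card G))
    (hcyc : ∀ (p : ℕ) [Fact p.Prime] (P : Sylow p G), IsCyclic (P : Subgroup G)) :
    (Nat.card (MulAction.fixedPoints A G : Set G)).Coprime (Nat.card G / Nat.card (MulAction.fixedPoints A G : Set G)) ∧
    IsCyclic (Subgroup.closure {y : G | ∃ (a : A) (g : G), y = g⁻¹ * a • g}) ∧
    (Subgroup.closure {y : G | ∃ (a : A) (g : G), y = g⁻¹ * a • g}).Normal ∧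
    (Subgroup.closure {y : G | ∃ (a : A) (g : G), y = g⁻¹ * a • g} : Set G) ∩ MulAction.fixedPoints A G = {1} ∧
    Subgroup.closure {y : G | ∃ (a : A) (g : G), y = g⁻¹ * a • g} ⊔ Subgroup.closure (MulAction.fixedPoints A G) = ⊤ := by
  open Subgroup in
  haveI hZ : IsZGroup G := ⟨fun p hp P => @hcyc p ⟨hp⟩ P⟩
  have hsol : Group.IsSolvable A ∨ Group.IsSolvable G := Or.inr inferInstance
  let C : Subgroup G :=
    { carrier := MulAction.fixedPoints A G
      one_mem' := fun a => smul_one a
      mul_mem' := fun hx hy a => by rw [smul_mul', hx a, hy a]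
      inv_mem' := fun hx a => by rw [smul_inv', hx a] }
  set K := closure {y : G | ∃ (a : A) (g : G), y = g⁻¹ * a • g} with hK
  have hKn : K.Normal := ⟨fun n hn c => by
    induction hn using closure_induction with
    | mem y hy =>
      obtain ⟨a, g, rfl⟩ := hy
      rw [show c * (g⁻¹ * a • g) * c⁻¹ = ((g * c⁻¹)⁻¹ * a • (g * c⁻¹)) * ((c⁻¹)⁻¹ * a • c⁻¹)⁻¹ by rw [smul_mul']; group]
      exact mul_mem (subset_closure ⟨a, _, rfl⟩) (inv_mem (subset_closure ⟨a, _, rfl⟩))
    | one => simp
    | mul x y _ _ hx hy => rw [conj_mul.symm]; exact mul_mem hx hy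
    | inv x _ hx => rw [← conj_inv]; exact inv_mem hx⟩
  have hDc : IsCyclic (commutator G) := IsZGroup.isCyclic_commutator G
  have hDi : ∀ (a : A), ∀ x ∈ commutator G, a • x ∈ commutator G := by
    intro a x hx
    have h : (commutator G).map (MulDistribMulAction.toMonoidHom G a) ≤ commutator G := by
      rw [_root_.commutator_def, map_commutator]
      exact commutator_mono le_top le_top
    exact h ⟨x, hx, rfl⟩
  obtain ⟨d, hd⟩ := hDc.exists_generator
  have hcent : ∀ (k : G) (a : A), ∀ y ∈ commutator G, Commute (k⁻¹ * a • k) y := by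
    intro k a y hy
    have hdD : ∀ z ∈ commutator G, ∃ i : ℤ, z = (d : G) ^ i := fun z hz => by
      obtain ⟨i, hi⟩ := mem_zpowers_iff.1 (hd ⟨z, hz⟩)
      exact ⟨i, by simpa using (congrArg Subtype.val hi).symm⟩
    obtain ⟨u, hu⟩ := hdD _ ((inferInstance : (commutator G).Normal).conj_mem _ d.2 k)
    obtain ⟨v, hv⟩ := hdD _ (hDi a _ d.2)
    obtain ⟨j, hj⟩ := hdD _ (hDi a⁻¹ y hy)
    have hy' : y = (d : G) ^ (v * j) := by
      rw [zpow_mul, ← hv, ← smul_zpow', ← hj, smul_inv_smul]
    have h1 : a • k * y * (a • k)⁻¹ = k * y * k⁻¹ := by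
      calc a • k * y * (a • k)⁻¹ = a • (k * (d : G) ^ j * k⁻¹) := by
            rw [smul_mul', smul_mul', smul_inv', ← hj, smul_inv_smul]
        _ = (d : G) ^ (v * (u * j)) := by
            rw [← conj_zpow, hu, ← zpow_mul, smul_zpow', hv, ← zpow_mul]
        _ = k * y * k⁻¹ := by
            rw [hy', ← conj_zpow, hu, ← zpow_mul]; congr 1; ring
    show k⁻¹ * a • k * y = y * (k⁻¹ * a • k)
    calc k⁻¹ * a • k * y = k⁻¹ * (a • k * y * (a • k)⁻¹) * a • k := by group
      _ = y * (k⁻¹ * a • k) := by rw [h1]; group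
  let moved : ℕ → Prop := fun p => ∃ (_ : Fact p.Prime) (P : Sylow p G), (P : Subgroup G).Normal ∧ (P : Subgroup G) ≤ K ∧
    IsMulCommutative (P : Subgroup G) ∧ ∀ x ∈ (P : Subgroup G), (∀ a : A, a • x = x) → x = 1
  have main : ∀ (p : ℕ) [Fact p.Prime], moved p ∨ ∃ P : Sylow p G, (P : Subgroup G) ≤ C := by
    intro p hp
    obtain ⟨P, hP⟩ := Cfsg.Agent.Solv.exists_smul_invariant_sylow hcop hsol p
    haveI := hcyc p P
    obtain ⟨g, hg⟩ := IsCyclic.exists_generator (α := (P : Subgroup G))
    have hgen : ∀ x ∈ (P : Subgroup G), ∃ i : ℤ, x = (g : G) ^ i := fun z hz => by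
      obtain ⟨i, hi⟩ := mem_zpowers_iff.1 (hg ⟨z, hz⟩)
      exact ⟨i, by simpa using (congrArg Subtype.val hi).symm⟩
    by_cases hfix : ∀ a : A, a • (g : G) = g
    · refine Or.inr ⟨P, fun x hx a => ?_⟩
      obtain ⟨i, rfl⟩ := hgen x hx
      rw [smul_zpow', hfix a]
    push_neg at hfix
    obtain ⟨a, ha⟩ := hfix
    obtain ⟨n, hn⟩ := IsPGroup.iff_orderOf.1 P.isPGroup' g
    rw [← orderOf_coe] at hn
    obtain ⟨r, hr⟩ := hgen _ (hP a _ g.2)
    have hpr : ¬ (p : ℤ) ∣ r - 1 := by
      intro hdiv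
      apply ha
      have hps : ∀ s : ℕ, a ^ s • (g : G) = (g : G) ^ (r ^ s) := by
        intro s
        induction s with
        | zero => simp
        | succ s ih => rw [pow_succ', mul_smul, ih, smul_zpow', hr, ← zpow_mul, ← pow_succ']
      have h1 := hps (orderOf a)
      rw [pow_orderOf_eq_one, one_smul] at h1
      have h2 : ((p ^ n : ℕ) : ℤ) ∣ r ^ orderOf a - 1 := by
        rw [← hn, orderOf_dvd_iff_zpow_eq_one, zpow_sub_one, ← h1, mul_inv_cancel]
      rw [← geom_sum_mul, Nat.cast_pow] at h2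
      have h3 : IsCoprime ((p : ℤ) ^ n) (∑ i ∈ Finset.range (orderOf a), r ^ i) := by
        refine IsCoprime.pow_left ((Nat.prime_iff_prime_int.1 hp.out).coprime_iff_not_dvd.2 fun h => ?_)
        have h4 : (p : ℤ) ∣ (orderOf a : ℤ) := by
          have h5 : (p : ℤ) ∣ (∑ i ∈ Finset.range (orderOf a), r ^ i) - (orderOf a : ℤ) := by
            rw [show (∑ i ∈ Finset.range (orderOf a), r ^ i) - (orderOf a : ℤ) = ∑ i ∈ Finset.range (orderOf a), (r ^ i - 1) by simp [Finset.sum_sub_distrib]]
            exact Finset.dvd_sum fun i _ => hdiv.trans (sub_one_dvd_pow_sub_one r i)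
          simpa using dvd_sub h h5
        rcases Nat.eq_zero_or_pos n with rfl | hn0
        · apply ha
          rw [pow_zero, orderOf_eq_one_iff] at hn
          rw [hn, smul_one]
        exact hp.out.ne_one (Nat.dvd_one.1 (hcop ▸ Nat.dvd_gcd ((Int.natCast_dvd_natCast.1 h4).trans (orderOf_dvd_natCard a))
          (((dvd_pow_self p hn0.ne').trans hn.symm.dvd).trans (orderOf_dvd_natCard _))))
      have h6 := h3.dvd_of_dvd_mul_left h2
      rw [← Nat.cast_pow, ← hn, orderOf_dvd_iff_zpow_eq_one, zpow_sub_one, mul_inv_eq_one] at h6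
      rw [hr, h6]
    obtain ⟨c, e, hce⟩ := ((Nat.prime_iff_prime_int.1 hp.out).coprime_iff_not_dvd.2 hpr).pow_left (m := n)
    have hgp : (g : G) ^ ((p : ℤ) ^ n) = 1 := by rw [← Nat.cast_pow, zpow_natCast, ← hn, pow_orderOf_eq_one]
    have hgmem : (g : G) = ((g : G)⁻¹ * a • (g : G)) ^ e := by
      rw [hr, ← zpow_neg_one, ← zpow_add, ← zpow_mul]
      conv_lhs => rw [← zpow_one (g : G), ← hce, zpow_add, mul_comm c, zpow_mul, hgp, one_zpow, one_mul]
      congr 1; ring
    have hle : (P : Subgroup G) ≤ K := fun x hx => by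
      obtain ⟨i, rfl⟩ := hgen x hx
      rw [hgmem]
      exact zpow_mem (zpow_mem (subset_closure ⟨a, _, rfl⟩ : (g : G)⁻¹ * a • (g : G) ∈ K) _) _
    refine Or.inl ⟨hp, P, ?_, hle, inferInstance, fun x hx hf => ?_⟩
    · by_cases hpD : p ∣ Nat.card (commutator G)
      · have hcop' : (Nat.card (P : Subgroup G)).Coprime (commutator G).index := by
          obtain ⟨j, hj⟩ := IsPGroup.iff_card.1 P.isPGroup'
          rw [hj]
          exact Nat.Coprime.pow_left _ ((IsZGroup.coprime_commutator_index G).coprime_dvd_left hpD)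
        have hPD : (P : Subgroup G) ≤ commutator G := by
          intro x hx
          have h1 : x ^ (commutator G).index ∈ commutator G := pow_index_mem _ x
          rw [← pow_one x]
          have h2 : Nat.Coprime (orderOf x) (commutator G).index := hcop'.coprime_dvd_left ((P : Subgroup G).orderOf_dvd_natCard hx)
          obtain ⟨l, hl⟩ := exists_pow_eq_self_of_coprime h2.symm
          rw [pow_one, ← hl]
          exact pow_mem h1 l
        refine ⟨fun x hx k => ?_⟩
        obtain ⟨i, rfl⟩ := hgen x hx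
        obtain ⟨u, hu⟩ := mem_zpowers_iff.1 (hd ⟨(g : G), hPD g.2⟩)
        obtain ⟨w, hw⟩ := mem_zpowers_iff.1 (hd ⟨_, (inferInstance : (commutator G).Normal).conj_mem _ d.2 k⟩)
        have hu' : (d : G) ^ u = g := by simpa using congrArg Subtype.val hu
        have hw' : (d : G) ^ w = k * d * k⁻¹ := by simpa using congrArg Subtype.val hw
        have hkg : k * g * k⁻¹ = (g : G) ^ w := by
          rw [← hu', ← conj_zpow, ← hw', ← zpow_mul, mul_comm, zpow_mul]
        rw [← conj_zpow, hkg]
        exact zpow_mem (zpow_mem g.2 _) _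
      · have hgc : ∀ y ∈ commutator G, Commute (g : G) y := fun y hy => hgmem ▸ (hcent _ a y hy).zpow_left e
        have hmem : ∀ k : G, k * g * k⁻¹ ∈ (P : Subgroup G) := by
          intro k
          have hz : ⁅k, (g : G)⁆ ∈ commutator G := commutator_mem_commutator (mem_top _) (mem_top _)
          have h : k * g * k⁻¹ = ⁅k, (g : G)⁆ * g := by rw [commutatorElement_def]; group
          have hpe : orderOf (k * g * k⁻¹) = p ^ n := by
            rw [← hn]; exact orderOf_injective (MulAut.conj k).toMonoidHom (MulAut.conj k).injective (g : G)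
          have h1 : ⁅k, (g : G)⁆ ^ (p ^ n) = 1 := by
            have := pow_orderOf_eq_one (k * g * k⁻¹)
            rwa [hpe, h, (hgc _ hz).symm.mul_pow, ← hn, pow_orderOf_eq_one, mul_one, hn] at this
          have h2 : ⁅k, (g : G)⁆ = 1 := by
            rw [← orderOf_eq_one_iff]
            exact Nat.dvd_one.1 ((((Fact.out : p.Prime).coprime_iff_not_dvd.2 hpD).pow_left n) ▸ Nat.dvd_gcd (orderOf_dvd_of_pow_eq_one h1) ((commutator G).orderOf_dvd_natCard hz))
          rw [h, h2, one_mul]
          exact g.2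
        refine ⟨fun x hx k => ?_⟩
        obtain ⟨i, rfl⟩ := hgen x hx
        rw [← conj_zpow]
        exact zpow_mem (hmem k) _
    · obtain ⟨i, rfl⟩ := hgen x hx
      have h1 := hf a
      rw [smul_zpow', hr, ← zpow_mul] at h1
      have h2 : (g : G) ^ (i * (r - 1)) = 1 := by rw [show i * (r - 1) = r * i - i by ring, zpow_sub, h1, mul_inv_cancel]
      rw [show i = c * (p : ℤ) ^ n * i + e * (i * (r - 1)) by rw [show e * (i * (r - 1)) = e * (r - 1) * i by ring, ← add_mul, hce, one_mul]]
      rw [zpow_add, mul_comm e, zpow_mul _ (i * (r - 1)), h2, one_zpow, mul_one, mul_comm c, mul_assoc, zpow_mul, hgp, one_zpow]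
  let N : Subgroup G := ⨆ (p : {p : ℕ // moved p}), (p.2.choose_spec.choose : Subgroup G)
  have hmv : ∀ (p : ℕ) (h : moved p), ∀ y : G, (∃ k, orderOf y = p ^ k) → y ∈ (h.choose_spec.choose : Subgroup G) := by
    intro p h y ⟨k, hk⟩
    haveI := h.choose
    haveI := h.choose_spec.choose_spec.1
    obtain ⟨Q, hQ⟩ := (IsPGroup.of_card (p := p) (n := k) (by rw [Nat.card_zpowers, hk]) : IsPGroup p (zpowers y)).exists_le_sylow
    haveI := Sylow.unique_of_normal h.choose_spec.choose h.choose_spec.choose_spec.1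
    exact (Subsingleton.elim Q h.choose_spec.choose) ▸ hQ (mem_zpowers y)
  have hNn : N.Normal := by
    have : ∀ p : {p : ℕ // moved p}, (p.2.choose_spec.choose : Subgroup G).Normal := fun p => p.2.choose_spec.choose_spec.1
    exact iSup_normal _
  have hNK : N ≤ K := iSup_le fun p => p.2.choose_spec.choose_spec.2.1
  have hNC : N ⊔ C = ⊤ := by
    refine eq_top_of_card_eq _ (Nat.dvd_antisymm (card_subgroup_dvd_card _) ?_)
    rw [Nat.dvd_iff_prime_pow_dvd_dvd]
    intro q k hq hdiv
    haveI := Fact.mk hq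
    rcases main q with h | ⟨P, hP⟩
    · exact (h.choose_spec.choose.pow_dvd_card_of_pow_dvd_card hdiv).trans (card_dvd_of_le ((le_iSup (fun p : {p : ℕ // moved p} => (p.2.choose_spec.choose : Subgroup G)) ⟨q, h⟩).trans le_sup_left))
    · exact (P.pow_dvd_card_of_pow_dvd_card hdiv).trans (card_dvd_of_le (hP.trans le_sup_right))
  have hKN : K ≤ N := by
    rw [hK, closure_le]
    rintro _ ⟨a, g, rfl⟩
    haveI := hNn
    obtain ⟨c, hc, n, hn, rfl⟩ := mem_sup_of_normal_right.1 (show g ∈ C ⊔ N by rw [sup_comm, hNC]; exact mem_top g)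
    rw [smul_mul', hc a, show (c * n)⁻¹ * (c * a • n) = n⁻¹ * a • n by group]
    have : N ≤ N.comap (MulDistribMulAction.toMonoidHom G a) := iSup_le fun p y hy => by
      haveI := p.2.choose
      refine mem_iSup_of_mem p (hmv p.1 p.2 _ ?_)
      obtain ⟨k, hk⟩ := IsPGroup.iff_orderOf.1 p.2.choose_spec.choose.isPGroup' ⟨y, hy⟩
      exact ⟨k, (orderOf_injective (MulDistribMulAction.toMonoidHom G a) (MulAction.injective a) y).trans (by rw [← hk, orderOf_mk])⟩
    exact N.mul_mem (N.inv_mem hn) (this hn)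
  have hKN' : K = N := le_antisymm hKN hNK
  have hcm : ∀ x ∈ N, ∀ y ∈ N, Commute x y := by
    have h : N ≤ centralizer (N : Set G) := iSup_le fun p => by
      rw [le_centralizer_iff]
      refine iSup_le fun q => ?_
      intro y hy
      rw [mem_centralizer_iff]
      intro x hx
      by_cases hpq : p = q
      · subst hpq
        haveI := p.2.choose_spec.choose_spec.2.2.1
        exact congrArg Subtype.val (mul_comm' (⟨x, hx⟩ : (p.2.choose_spec.choose : Subgroup G)) ⟨y, hy⟩)
      · haveI := p.2.choose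
        haveI := q.2.choose
        exact (commute_of_normal_of_disjoint _ _ p.2.choose_spec.choose_spec.1 q.2.choose_spec.choose_spec.1
          (IsPGroup.disjoint_of_ne p.1 q.1 (fun h => hpq (Subtype.ext h)) _ _ p.2.choose_spec.choose.isPGroup' q.2.choose_spec.choose.isPGroup') x y hx hy).eq
    exact fun x hx y hy => (mem_centralizer_iff.1 (h hx) y hy).symm
  have hprimes : ∀ x ∈ N, ∀ q : ℕ, q.Prime → q ∣ orderOf x → moved q := by
    intro x hx
    refine (iSup_induction (C := fun x => x ∈ N ∧ ∀ q : ℕ, q.Prime → q ∣ orderOf x → moved q) _ hx ?_ ?_ ?_).2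
    · intro p y hy
      refine ⟨mem_iSup_of_mem p hy, fun q hq hqy => ?_⟩
      haveI := p.2.choose
      obtain ⟨k, hk⟩ := IsPGroup.iff_orderOf.1 p.2.choose_spec.choose.isPGroup' ⟨y, hy⟩
      rw [orderOf_mk] at hk
      rw [hk] at hqy
      rw [(Nat.prime_dvd_prime_iff_eq hq p.2.choose.out).1 (hq.dvd_of_dvd_pow hqy)]
      exact p.2
    · exact ⟨one_mem _, fun q hq h => absurd (Nat.dvd_one.1 (orderOf_one (G := G) ▸ h)) hq.ne_one⟩
    · rintro u v ⟨hu, hu'⟩ ⟨hv, hv'⟩
      refine ⟨mul_mem hu hv, fun q hq h => ?_⟩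
      rcases hq.dvd_mul.1 (h.trans (hcm u hu v hv).orderOf_mul_dvd_mul_orderOf) with h' | h'
      · exact hu' q hq h'
      · exact hv' q hq h'
  have hfree : ∀ (q : ℕ), q.Prime → moved q → ∀ y ∈ C, orderOf y ≠ q := by
    intro q hq hmq y hy hoy
    have := hmq.choose_spec.choose_spec.2.2.2 y (hmv q hmq y ⟨1, by rw [hoy, pow_one]⟩) hy
    rw [this, orderOf_one] at hoy
    exact hq.ne_one hoy.symm
  have hdis : Disjoint N C := by
    rw [disjoint_def]
    intro x hx hxC
    by_contra hne
    obtain ⟨q, hq, hqd⟩ := Nat.exists_prime_and_dvd (mt orderOf_eq_one_iff.1 hne)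
    exact hfree q hq (hprimes x hx q hq hqd) (x ^ (orderOf x / q)) (pow_mem hxC _) (orderOf_pow_orderOf_div (orderOf_pos x).ne' hqd)
  haveI := hNn
  have hcompl : IsComplement' N C := isComplement'_of_disjoint_and_mul_eq_univ hdis (by rw [← normal_mul, hNC, coe_top])
  haveI : IsMulCommutative N := ⟨⟨fun u v => Subtype.ext (hcm u u.2 v v.2).eq⟩⟩
  haveI : Group.IsNilpotent N := by
    letI : CommGroup N := { (inferInstance : Group N) with mul_comm := fun u v => mul_comm' u v }
    infer_instance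
  refine ⟨?_, hKN' ▸ inferInstance, hKn, ?_, ?_⟩
  · show (Nat.card C).Coprime (Nat.card G / Nat.card C)
    rw [← hcompl.card_mul, Nat.mul_div_cancel _ Nat.card_pos]
    refine Nat.coprime_of_dvd fun q hq h1 h2 => ?_
    haveI := Fact.mk hq
    obtain ⟨y, hy⟩ := exists_prime_orderOf_dvd_card' q h1
    obtain ⟨x, hx⟩ := exists_prime_orderOf_dvd_card' q h2
    rw [← orderOf_coe] at hy hx
    exact hfree q hq (hprimes x x.2 q hq hx.symm.dvd) y y.2 hy
  · show (K : Set G) ∩ (C : Set G) = {1}
    rw [hKN', ← coe_inf, disjoint_iff.1 hdis, coe_bot]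
  · rw [show closure (MulAction.fixedPoints A G) = C from closure_eq C, hKN', hNC]

end Cfsg.Agent.S4117
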