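import Cfsg.Statements.S4127
import Cfsg.Agent.Lib.Solv.PIndexElement
import Cfsg.Agent.Lib.Solv.Coprime
import Cfsg.Agent.Lib.Block.PPart
import Cfsg.Agent.Lib.Block.PPrimeDegrees

set_option autoImplicit false
open scoped Pointwise
open Cfsg

namespace Cfsg.Agent.S4127

/-- Let G be a finite group, p a prime and p^a the largest power of p dividing the size of any conjugacy class of G. If some element of p-power order has a conjugacy class of size exactly p^a, then G has a normal p-complement. -/
theorem result {G : Type*} [Group G] [Finite G] (p : ℕ) [Fact p.Prime]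
    (a : ℕ) (hmax : ∀ y : G, ¬ p ^ (a + 1) ∣ (Subgroup.centralizer ({y} : Set G)).index)
    (hx : ∃ x : G, (∃ k : ℕ, orderOf x = p ^ k) ∧ (Subgroup.centralizer ({x} : Set G)).index = p ^ a) :
    Cfsg.HasNormalPComplement p G := by
  open Subgroup in
  have hp := (Fact.out : p.Prime)
  obtain ⟨x, ⟨m, hxo⟩, hxi⟩ := hx
  have hxQ : x ∈ Cfsg.pCore p G := Cfsg.Agent.Solv.PIndex.mem_pCore hxi hxo
  set H := centralizer ({x} : Set G) with hH
  have hxH : x ∈ H := mem_centralizer_singleton_iff.2 rfl
  -- `p'`-elements of `H` centralise a Sylow subgroup of `H`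
  have key : ∀ y : H, (orderOf y).Coprime p → ¬ p ∣ (centralizer ({y} : Set H)).index := by
    intro y hy hd
    have hxy : Commute x (y : G) := (mem_centralizer_singleton_iff.1 y.2).symm
    have hco : (orderOf x).Coprime (orderOf (y : G)) := by
      rw [hxo, Subgroup.orderOf_coe]; exact hy.symm.pow_left m
    have hzx : x ∈ zpowers (x * (y : G)) := by
      obtain ⟨α, β, hab⟩ := Nat.Coprime.isCoprime hco
      refine mem_zpowers_iff.2 ⟨β * (orderOf (y : G) : ℤ), ?_⟩
      rw [hxy.mul_zpow, mul_comm β, zpow_mul (y : G), zpow_natCast, pow_orderOf_eq_one, one_zpow, mul_one,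
        mul_comm (orderOf (y : G) : ℤ), show β * (orderOf (y : G) : ℤ) = 1 - α * orderOf x by linarith,
        zpow_sub, zpow_one, mul_comm α, zpow_mul, zpow_natCast, pow_orderOf_eq_one, one_zpow, inv_one, mul_one]
    have hC : centralizer ({x * (y : G)} : Set G) ≤ (centralizer ({y} : Set H)).map H.subtype := by
      intro c hc
      have hcH : c ∈ H := by
        obtain ⟨i, hi⟩ := mem_zpowers_iff.1 hzx
        rw [hH, mem_centralizer_singleton_iff]
        rw [← hi]
        exact ((show Commute c (x * (y : G)) from mem_centralizer_singleton_iff.1 hc).zpow_right i).eq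
      refine ⟨⟨c, hcH⟩, mem_centralizer_singleton_iff.2 (Subtype.ext ?_), rfl⟩
      have h1 := mem_centralizer_singleton_iff.1 hc
      rw [← mul_assoc, mem_centralizer_singleton_iff.1 hcH, mul_assoc, mul_assoc] at h1
      exact mul_left_cancel h1
    have h2 := index_dvd_of_le hC
    rw [index_map_subtype, hxi] at h2
    exact hmax _ ((by rw [pow_succ']; exact Nat.mul_dvd_mul_right hd _ : p ^ (a + 1) ∣ _).trans h2)
  -- `H` is the product of a normal Sylow subgroup and its centraliser
  obtain ⟨S⟩ : Nonempty (Sylow p H) := inferInstance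
  set M := ((S : Subgroup H) ⊔ centralizer ((S : Subgroup H) : Set H)) with hM
  have hMtop : M = ⊤ := by
    refine Cfsg.Agent.Block.eq_top_of_forall_exists_conj_mem M fun g => ?_
    obtain ⟨u, y, huy, hc, ⟨i, hu⟩, hy, -, -⟩ := Cfsg.Agent.Block.exists_isPPart hp g
    set C := centralizer ({y} : Set H) with hCy
    have huC : u ∈ C := mem_centralizer_singleton_iff.2 hc.eq
    obtain ⟨R, hR⟩ := (IsPGroup.of_card (n := i) (p := p)
      ((Nat.card_zpowers (⟨u, huC⟩ : C)).trans ((Subgroup.orderOf_mk u huC).trans hu))).exists_le_sylow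
    obtain ⟨R', hR'⟩ := (R.isPGroup'.map C.subtype).exists_le_sylow
    have hco' : (orderOf y).Coprime p := (hp.coprime_iff_not_dvd.2 hy).symm
    have heq : (R : Subgroup C).map C.subtype = (R' : Subgroup H) := by
      refine eq_of_le_of_card_ge hR' ?_
      rw [card_map_of_injective C.subtype_injective, R'.card_eq_multiplicity, R.card_eq_multiplicity,
        ← C.card_mul_index, Nat.factorization_mul Nat.card_pos.ne' C.index_ne_zero_of_finite,
        Finsupp.add_apply, Nat.factorization_eq_zero_of_not_dvd (key y hco'), add_zero]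
    obtain ⟨w, hw⟩ := MulAction.exists_smul_eq H S R'
    refine ⟨w, ?_⟩
    have hyR : y ∈ centralizer ((R' : Subgroup H) : Set H) := by
      rw [mem_centralizer_iff]
      intro r hr
      rw [← heq] at hr
      obtain ⟨c, -, rfl⟩ := hr
      exact (mem_centralizer_singleton_iff.1 c.2)
    have huR : u ∈ (R' : Subgroup H) := hR' ⟨⟨u, huC⟩, hR (mem_zpowers _), rfl⟩
    have hback : ∀ r : H, r ∈ (R' : Subgroup H) ↔ w⁻¹ * r * w ∈ (S : Subgroup H) := by
      intro r
      rw [← hw, Sylow.coe_subgroup_smul, mem_pointwise_smul_iff_inv_smul_mem]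
      simp [MulAut.smul_def, mul_assoc]
    rw [← huy, show w⁻¹ * (u * y) * w = (w⁻¹ * u * w) * (w⁻¹ * y * w) by group]
    refine mul_mem (mem_sup_left ((hback u).1 huR)) (mem_sup_right ?_)
    rw [mem_centralizer_iff]
    intro s hs
    have hs' : w * s * w⁻¹ ∈ (R' : Subgroup H) := (hback _).2 (by rwa [show w⁻¹ * (w * s * w⁻¹) * w = s by group])
    have h3 := mem_centralizer_iff.1 hyR _ hs'
    calc s * (w⁻¹ * y * w) = w⁻¹ * (w * s * w⁻¹ * y) * w := by group
      _ = w⁻¹ * y * w * s := by rw [h3]; group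
  have hSn : (S : Subgroup H).Normal := by
    rw [← normalizer_eq_top_iff, eq_top_iff, ← hMtop]
    exact sup_le le_normalizer (centralizer_le_normalizer _)
  have hcent : ∀ y : H, (orderOf y).Coprime p → y ∈ centralizer ((S : Subgroup H) : Set H) := by
    intro y hy
    haveI : (centralizer ((S : Subgroup H) : Set H)).Normal := normal_centralizer
    obtain ⟨i, hi⟩ := Cfsg.Agent.Solv.card_pow_of_sylow S
    refine Cfsg.Agent.Solv.mem_of_coprime_index _ ((hy.pow_right i).coprime_dvd_right ?_)
    rw [← hi, ← relIndex_top_right, ← hMtop, hM, sup_comm, relIndex_sup_left]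
    exact relIndex_dvd_card ..
  have hnpc : Cfsg.HasNormalPComplement p H := by
    refine Cfsg.Agent.Solv.FrobeniusCond.hasNormalPComplement fun Q hQ g _ hgo => ?_
    obtain ⟨T, hT⟩ := hQ.exists_le_sylow
    haveI := S.isPGroup'
    haveI := hSn
    obtain rfl : T = S := (haveI := Sylow.unique_of_normal S hSn; Subsingleton.elim T S)
    exact centralizer_le hT (hcent g hgo)
  -- Thompson's lemma
  set Q := Cfsg.pCore p G with hQ
  have hQp : IsPGroup p Q := Cfsg.Agent.Solv.isPGroup_pCore p G
  have hQc : ∀ y : G, y ∈ H → (orderOf y).Coprime p → y ∈ centralizer (Q : Set G) := by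
    intro y hy hyo
    refine Cfsg.Agent.Solv.thompson_pq p (zpowers x) (zpowers y) Q
      (IsPGroup.of_card (n := m) ((Nat.card_zpowers x).trans hxo)) (by rwa [Nat.card_zpowers]) hQp ?_
      ((normalizer_eq_top Q).symm ▸ le_top) ((normalizer_eq_top Q).symm ▸ le_top) ?_ (mem_zpowers y)
    · rw [zpowers_le, mem_centralizer_iff]
      intro t ht
      obtain ⟨i, rfl⟩ := mem_zpowers_iff.1 ht
      exact ((show Commute y x from mem_centralizer_singleton_iff.1 hy).zpow_left i).eq
    · intro t ht
      have htH : t ∈ H := mem_centralizer_singleton_iff.2 (mem_centralizer_iff.1 ht.2 x (mem_zpowers x)).symm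
      have hts : (⟨t, htH⟩ : H) ∈ (S : Subgroup H) := by
        obtain ⟨T, hT⟩ := ((hQp.to_le (inf_le_left : Q ⊓ H ≤ Q)).comap_of_injective H.subtype
          H.subtype_injective).exists_le_sylow
        haveI := S.isPGroup'
        obtain rfl : T = S := (haveI := Sylow.unique_of_normal S hSn; Subsingleton.elim T S)
        exact hT (⟨ht.1, htH⟩ : t ∈ Q ⊓ H)
      rw [mem_centralizer_iff]
      intro s hs
      obtain ⟨i, rfl⟩ := mem_zpowers_iff.1 hs
      have hcm : Commute t y := congrArg Subtype.val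
        (mem_centralizer_iff.1 (hcent ⟨y, hy⟩ (by rwa [← Subgroup.orderOf_coe])) ⟨t, htH⟩ hts)
      exact (hcm.symm.zpow_left i).eq
  -- the `p'`-elements of `H` form a normal subgroup of `G`
  haveI : (centralizer (Q : Set G)).Normal := normal_centralizer
  have hCH : centralizer (Q : Set G) ≤ H := fun c hc =>
    mem_centralizer_singleton_iff.2 (mem_centralizer_iff.1 hc x hxQ).symm
  set N := (Cfsg.pPrimeCore p H).map H.subtype with hN
  have hmem : ∀ z : G, z ∈ N ↔ z ∈ H ∧ (orderOf z).Coprime p := by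
    intro z
    constructor
    · rintro ⟨c, hc, rfl⟩
      exact ⟨c.2, by rw [coe_subtype, Subgroup.orderOf_coe]; exact (Cfsg.Agent.Solv.mem_pPrimeCore_iff hnpc).1 hc⟩
    · rintro ⟨hz, hzo⟩
      exact ⟨⟨z, hz⟩, (Cfsg.Agent.Solv.mem_pPrimeCore_iff hnpc).2 (by rwa [← Subgroup.orderOf_coe]), rfl⟩
  haveI : N.Normal := ⟨fun z hz g => by
    rw [hmem] at hz ⊢
    refine ⟨hCH (Normal.conj_mem inferInstance z (hQc z hz.1 hz.2) g), ?_⟩
    have e : orderOf (g * z * g⁻¹) = orderOf z := orderOf_injective (MulAut.conj g).toMonoidHom (MulEquiv.injective _) z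
    rw [e]
    exact hz.2⟩
  obtain ⟨k, hk⟩ := Cfsg.Agent.Solv.hasNormalPComplement_iff_index.1 hnpc
  refine Cfsg.Agent.Solv.hasNormalPComplement_of_normal N ?_ ⟨k + a, ?_⟩
  · rw [hN, card_map_of_injective H.subtype_injective]
    exact Cfsg.Agent.Solv.card_pPrimeCore_coprime p H
  · rw [hN, index_map_subtype, hk, hxi, pow_add]

end Cfsg.Agent.S4127
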