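import Cfsg.Statements.S4139
import Mathlib

set_option autoImplicit false
open Cfsg

namespace Cfsg.Agent.S4139

open scoped Classical

universe u

section

variable {G : Type u} [Group G] [Finite G]

/-- The number of conjugates of an element. -/
theorem card_carrier_eq (g : G) :
    Nat.card (ConjClasses.mk g).carrier = (Subgroup.centralizer ({g} : Set G)).index := by
  rw [← ConjAct.orbit_eq_carrier_conjClasses, Nat.card_coe_set_eq, ← MulAction.index_stabilizer]
  rw [← Subgroup.index_comap_of_surjective (MulAction.stabilizer (ConjAct G) g)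
    (f := (ConjAct.toConjAct (G := G)).toMonoidHom) (ConjAct.toConjAct (G := G)).surjective]
  congr 1
  ext y
  simp [Subgroup.mem_comap, MulAction.mem_stabilizer_iff, ConjAct.smul_def,
    Subgroup.mem_centralizer_singleton_iff, mul_inv_eq_iff_eq_mul]

theorem index_eq_one_iff_mem_center (g : G) :
    (Subgroup.centralizer ({g} : Set G)).index = 1 ↔ g ∈ Subgroup.center G := by
  rw [Subgroup.index_eq_one, Subgroup.centralizer_eq_top_iff_subset, Set.singleton_subset_iff,
    SetLike.mem_coe]

variable (p : ℕ) [Fact p.Prime]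

/-- Number of Sylow `p`-subgroups centralised by an element. -/
noncomputable def nSyl (g : G) : ℕ :=
  Nat.card {Q : Sylow p G // (Q : Subgroup G) ≤ Subgroup.centralizer ({g} : Set G)}

theorem nSyl_eq_zero {g : G} (hg : p ∣ (Subgroup.centralizer ({g} : Set G)).index) :
    nSyl p g = 0 := by
  rw [nSyl, Nat.card_eq_zero]
  refine Or.inl ⟨fun Q => ?_⟩
  exact Q.1.not_dvd_index (hg.trans (Subgroup.index_dvd_of_le Q.2))

theorem nSyl_modEq {g : G} (hg : ¬ p ∣ (Subgroup.centralizer ({g} : Set G)).index) :
    (nSyl p g : ZMod p) = 1 := by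
  set C := Subgroup.centralizer ({g} : Set G) with hC
  have hfac : (Nat.card C).factorization p = (Nat.card G).factorization p := by
    rw [← C.card_mul_index, Nat.factorization_mul Nat.card_pos.ne' C.index_ne_zero_of_finite,
      Finsupp.add_apply, Nat.factorization_eq_zero_of_not_dvd hg, add_zero]
  have hcard : ∀ R : Sylow p C, Nat.card ((R : Subgroup C).map C.subtype) =
      p ^ (Nat.card G).factorization p := fun R => by
    rw [Subgroup.card_map_of_injective C.subtype_injective, R.card_eq_multiplicity, hfac]
  let e : {Q : Sylow p G // (Q : Subgroup G) ≤ C} ≃ Sylow p C :=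
    { toFun := fun Q => Q.1.subtype Q.2
      invFun := fun R => ⟨Sylow.ofCard ((R : Subgroup C).map C.subtype) (hcard R), by
        rw [Sylow.coe_ofCard]; exact Subgroup.map_subtype_le _⟩
      left_inv := fun Q => Subtype.ext (Sylow.ext (by
        rw [Sylow.coe_ofCard, Sylow.coe_subtype, Subgroup.map_subgroupOf_eq_of_le Q.2]))
      right_inv := fun R => Sylow.ext (by
        rw [Sylow.coe_subtype, Sylow.coe_ofCard, Subgroup.subgroupOf, Subgroup.comap_map_eq_self_of_injective C.subtype_injective]) }
  have h1 : nSyl p g = Nat.card (Sylow p C) := Nat.card_congr e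
  have h2 : Nat.card (Sylow p C) ≡ 1 [MOD p] := card_sylow_modEq_one p C
  rw [h1, (ZMod.natCast_eq_natCast_iff _ _ _).2 h2, Nat.cast_one]

/-- The elements whose class has size prime to `p`. -/
noncomputable def nU : ℕ :=
  Nat.card {g : G // ¬ p ∣ (Subgroup.centralizer ({g} : Set G)).index}

theorem sum_nSyl [Fintype G] (P : Sylow p G) : ∑ g : G, nSyl p g =
    Nat.card (Sylow p G) * Nat.card (Subgroup.centralizer ((P : Subgroup G) : Set G)) := by
  haveI := Fintype.ofFinite (Sylow p G)
  have hQ : ∀ Q : Sylow p G, Nat.card {g : G // (Q : Subgroup G) ≤ Subgroup.centralizer ({g} : Set G)} =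
      Nat.card (Subgroup.centralizer ((P : Subgroup G) : Set G)) := by
    intro Q
    obtain ⟨t, rfl⟩ := MulAction.exists_smul_eq G P Q
    refine (Nat.card_congr (Equiv.subtypeEquiv (MulAut.conj t).toEquiv fun a => ?_)).symm
    rw [Sylow.smul_def, Sylow.pointwise_smul_def]
    simp only [Subgroup.mem_centralizer_iff, SetLike.mem_coe, MulEquiv.toEquiv_eq_coe, MulEquiv.coe_toEquiv,
      MulAut.conj_apply, SetLike.le_def, Set.mem_singleton_iff, forall_eq]
    constructor
    · intro h x hx
      obtain ⟨y, hy, rfl⟩ := hx
      have := h y hy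
      simp only [MulDistribMulAction.toMonoidEnd_apply, MulDistribMulAction.toMonoidHom_apply, MulAut.smul_def,
        MulAut.conj_apply]
      refine Eq.symm ?_
      calc t * y * t⁻¹ * (t * a * t⁻¹) = t * (y * a) * t⁻¹ := by group
        _ = t * (a * y) * t⁻¹ := by rw [this]
        _ = t * a * t⁻¹ * (t * y * t⁻¹) := by group
    · intro h y hy
      have := h (Subgroup.smul_mem_pointwise_smul y (MulAut.conj t) _ hy)
      simp only [MulAut.smul_def, MulAut.conj_apply] at this
      have e : t * (y * a) * t⁻¹ = t * (a * y) * t⁻¹ := by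
        calc t * (y * a) * t⁻¹ = t * y * t⁻¹ * (t * a * t⁻¹) := by group
          _ = t * a * t⁻¹ * (t * y * t⁻¹) := this.symm
          _ = t * (a * y) * t⁻¹ := by group
      exact mul_left_cancel (mul_right_cancel e)
  calc ∑ g : G, nSyl p g = Nat.card (Σ g : G, {Q : Sylow p G // (Q : Subgroup G) ≤ Subgroup.centralizer ({g} : Set G)}) := by
        rw [Nat.card_sigma]; rfl
    _ = Nat.card (Σ Q : Sylow p G, {g : G // (Q : Subgroup G) ≤ Subgroup.centralizer ({g} : Set G)}) :=
        Nat.card_congr
          { toFun := fun x => ⟨x.2.1, ⟨x.1, x.2.2⟩⟩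
            invFun := fun x => ⟨x.2.1, ⟨x.1, x.2.2⟩⟩
            left_inv := fun _ => rfl
            right_inv := fun _ => rfl }
    _ = _ := by
        rw [Nat.card_sigma, Finset.sum_congr rfl (fun Q _ => hQ Q), Finset.sum_const,
          Finset.card_univ, smul_eq_mul, Nat.card_eq_fintype_card (α := Sylow p G)]

/-- The counts, modulo `p` times the order of the center. -/
theorem exists_quot (P : Sylow p G) : ∃ S T : ℕ,
    Nat.card (Sylow p G) * Nat.card (Subgroup.centralizer ((P : Subgroup G) : Set G)) =
      Nat.card (Subgroup.center G) * S ∧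
    nU (G := G) p = Nat.card (Subgroup.center G) * T ∧ (S : ZMod p) = (T : ZMod p) := by
  haveI := Fintype.ofFinite G
  set Z := Subgroup.center G
  haveI := Fintype.ofFinite (G ⧸ Z)
  haveI := Fintype.ofFinite Z
  have hsplit : ∀ F : G → ℕ, (∀ (g : G) (z : Z), F (g * z) = F g) →
      ∑ g : G, F g = Nat.card Z * ∑ q : G ⧸ Z, F q.out := by
    intro F hF
    rw [← (Subgroup.groupEquivQuotientProdSubgroup (s := Z)).symm.sum_comp, Fintype.sum_prod_type,
      Finset.mul_sum]
    refine Finset.sum_congr rfl fun q _ => ?_
    rw [Nat.card_eq_fintype_card, ← Finset.card_univ, ← smul_eq_mul, ← Finset.sum_const]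
    refine Finset.sum_congr rfl fun z _ => ?_
    set g := (Subgroup.groupEquivQuotientProdSubgroup (s := Z)).symm (q, z)
    have hg : (QuotientGroup.mk g : G ⧸ Z) = q :=
      congrArg Prod.fst ((Subgroup.groupEquivQuotientProdSubgroup (s := Z)).apply_symm_apply (q, z))
    obtain ⟨z', hz'⟩ := QuotientGroup.mk_out_eq_mul Z g
    rw [← hg, hz', hF]
  have hcz : ∀ (g : G) (z : Z), Subgroup.centralizer ({g * (z : G)} : Set G) =
      Subgroup.centralizer ({g} : Set G) := by
    intro g z
    ext y
    have hz : y * (z : G) = z * y := Subgroup.mem_center_iff.1 z.2 y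
    simp only [Subgroup.mem_centralizer_singleton_iff]
    constructor
    · intro h
      apply mul_right_cancel (b := (z : G))
      calc y * g * z = y * (g * z) := mul_assoc _ _ _
        _ = g * z * y := h
        _ = g * (y * z) := by rw [mul_assoc, hz]
        _ = g * y * z := (mul_assoc _ _ _).symm
    · intro h
      calc y * (g * z) = y * g * z := (mul_assoc _ _ _).symm
        _ = g * (y * z) := by rw [h, mul_assoc]
        _ = g * z * y := by rw [hz, mul_assoc]
  refine ⟨∑ q : G ⧸ Z, nSyl p q.out,
    ∑ q : G ⧸ Z, (if ¬ p ∣ (Subgroup.centralizer ({q.out} : Set G)).index then 1 else 0), ?_, ?_, ?_⟩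
  · rw [← sum_nSyl p P, hsplit]
    intro g z
    simp only [nSyl, hcz]
  · rw [← hsplit (fun g => if ¬ p ∣ (Subgroup.centralizer ({g} : Set G)).index then 1 else 0)
      (fun g z => by simp only [hcz]), nU, Nat.card_eq_fintype_card, Fintype.card_subtype,
      Finset.card_filter]
  · push_cast
    refine Finset.sum_congr rfl fun q _ => ?_
    by_cases h : p ∣ (Subgroup.centralizer ({q.out} : Set G)).index
    · rw [if_neg (not_not.2 h), nSyl_eq_zero p h, Nat.cast_zero]
    · rw [if_pos h, nSyl_modEq p h]

/-- The criterion for a normal Sylow subgroup. -/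
theorem normal_of_count (P : Sylow p G)
    (h : nU (G := G) p =
      p ^ (Nat.card (Subgroup.center G)).factorization p * (P : Subgroup G).index) :
    (P : Subgroup G).Normal := by
  haveI := Fintype.ofFinite G
  have hp : p.Prime := Fact.out
  set ζ := Nat.card (Subgroup.center G) with hζ
  set C := Subgroup.centralizer ((P : Subgroup G) : Set G) with hC
  obtain ⟨S, T, hS, hT, hST⟩ := exists_quot p P
  rw [← hζ] at hS hT
  have hT0 : ¬ p ∣ T := by
    intro hdvd
    obtain ⟨T', rfl⟩ := hdvd
    have hz := Nat.ordProj_mul_ordCompl_eq_self ζ p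
    have e : p ^ ζ.factorization p * (P : Subgroup G).index =
        p ^ ζ.factorization p * (ζ / p ^ ζ.factorization p * (p * T')) := by
      rw [← h, hT, ← mul_assoc (p ^ ζ.factorization p), hz]
    have := Nat.eq_of_mul_eq_mul_left (pow_pos hp.pos _) e
    exact P.not_dvd_index (this ▸ Dvd.intro (ζ / p ^ ζ.factorization p * T') (by ring))
  have hS0 : ¬ p ∣ S := fun hdvd => hT0 ((ZMod.natCast_eq_zero_iff _ _).1 (hST ▸ (ZMod.natCast_eq_zero_iff _ _).2 hdvd))
  have hC0 : 0 < Nat.card C := Nat.card_pos
  have hn : 0 < Nat.card (Sylow p G) := Nat.card_pos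
  have hfC : (Nat.card C).factorization p ≤ ζ.factorization p := by
    have e : (Nat.card (Sylow p G) * Nat.card C).factorization p = (ζ * S).factorization p := by rw [← hS]
    simp only [Nat.factorization_mul hn.ne' hC0.ne', Finsupp.add_apply,
      Nat.factorization_mul (show ζ ≠ 0 from (Nat.card_pos (α := Subgroup.center G)).ne') (show S ≠ 0 from fun h0 => hS0 (h0 ▸ dvd_zero p)),
      Nat.factorization_eq_zero_of_not_dvd hS0, add_zero] at e
    omega
  have hCP : Nat.card (C ⊓ (P : Subgroup G) : Subgroup G) ≤ p ^ ζ.factorization p := by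
    obtain ⟨k, hk⟩ := IsPGroup.iff_card.1 (P.2.to_le (inf_le_right : C ⊓ (P : Subgroup G) ≤ P))
    rw [hk]
    refine Nat.pow_le_pow_right hp.pos (le_trans ?_ hfC)
    exact (hp.pow_dvd_iff_le_factorization hC0.ne').1 (hk ▸ Subgroup.card_dvd_of_le inf_le_left)
  set N := Subgroup.normalizer ((P : Subgroup G) : Set G) with hN
  have hCN : C ≤ N := fun x hx => Subgroup.mem_normalizer_iff.2 fun y => by
    constructor
    · intro hy
      rwa [← Subgroup.mem_centralizer_iff.1 hx y hy, mul_inv_cancel_right]
    · intro hy
      have e := Subgroup.mem_centralizer_iff.1 hx _ hy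
      have e2 : x * y * x⁻¹ * x = x * (x * y * x⁻¹) := e
      rw [inv_mul_cancel_right] at e2
      have e' : x * y * x⁻¹ = y := (mul_left_cancel e2).symm
      rwa [e'] at hy
  have hPN : (P : Subgroup G) ≤ N := Subgroup.le_normalizer
  have hrel : (P : Subgroup G).relIndex C ≤ (P : Subgroup G).relIndex N :=
    Subgroup.relIndex_le_of_le_right hCN Subgroup.index_ne_zero_of_finite
  have hcardC : Nat.card C ≤ p ^ ζ.factorization p * (P : Subgroup G).relIndex N := by
    calc Nat.card C = Nat.card (((P : Subgroup G).subgroupOf C)) * ((P : Subgroup G).subgroupOf C).index :=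
          (Subgroup.card_mul_index _).symm
      _ ≤ _ := by
          refine Nat.mul_le_mul ?_ hrel
          rw [← Subgroup.card_map_of_injective C.subtype_injective, Subgroup.subgroupOf_map_subtype, inf_comm]
          exact hCP
  have hle : Nat.card (Sylow p G) * Nat.card C ≤ nU (G := G) p := by
    calc Nat.card (Sylow p G) * Nat.card C ≤ Nat.card (Sylow p G) * (p ^ ζ.factorization p * (P : Subgroup G).relIndex N) :=
          Nat.mul_le_mul_left _ hcardC
      _ = p ^ ζ.factorization p * ((P : Subgroup G).relIndex N * N.index) := by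
          rw [P.card_eq_index_normalizer]; rw [show Subgroup.normalizer (P : Set G) = N from rfl]; ring
      _ = _ := by rw [Subgroup.relIndex_mul_index hPN, h]
  rw [← sum_nSyl p P, nU, Nat.card_eq_fintype_card, Fintype.card_subtype, Finset.card_filter] at hle
  have hge : ∀ g ∈ (Finset.univ : Finset G),
      (if ¬ p ∣ (Subgroup.centralizer ({g} : Set G)).index then 1 else 0) ≤ nSyl p g := by
    intro g _
    by_cases hg : p ∣ (Subgroup.centralizer ({g} : Set G)).index
    · rw [if_neg (not_not.2 hg)]; exact Nat.zero_le _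
    · rw [if_pos hg]
      refine Nat.one_le_iff_ne_zero.2 fun h0 => ?_
      have := nSyl_modEq p hg
      rw [h0, Nat.cast_zero] at this
      exact zero_ne_one this
  have heq := (Finset.sum_eq_sum_iff_of_le hge).1 (le_antisymm (Finset.sum_le_sum hge) hle) 1 (Finset.mem_univ 1)
  have htop : Subgroup.centralizer ({1} : Set G) = ⊤ :=
    eq_top_iff.2 fun y _ => Subgroup.mem_centralizer_singleton_iff.2 (by simp)
  rw [if_pos (by rw [htop, Subgroup.index_top]; exact hp.not_dvd_one)] at heq
  have hone : Nat.card (Sylow p G) = 1 := by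
    rw [heq, nSyl, htop]
    exact (Nat.card_congr (Equiv.subtypeUnivEquiv fun Q => le_top)).symm
  haveI := (Nat.card_eq_one_iff_unique.1 hone).1
  exact P.normal_of_subsingleton

/-- The count in a nilpotent group. -/
theorem count_of_nilpotent (hG : Group.IsNilpotent G) (P : Sylow p G) :
    nU (G := G) p = p ^ (Nat.card (Subgroup.center G)).factorization p * (P : Subgroup G).index := by
  have hp : p.Prime := Fact.out
  have hnorm : ∀ (q : ℕ) (_ : Fact q.Prime) (Q : Sylow q G), (Q : Subgroup G).Normal :=
    (Group.isNilpotent_of_finite_tfae.out 0 3 rfl rfl).1 hG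
  haveI hPn : (P : Subgroup G).Normal := hnorm p inferInstance P
  set C := Subgroup.centralizer ((P : Subgroup G) : Set G) with hC
  set Z := Subgroup.center G with hZ
  have hU : nU (G := G) p = Nat.card C := by
    refine Nat.card_congr (Equiv.subtypeEquivRight fun g => ?_)
    constructor
    · intro hg
      rw [hC, Subgroup.mem_centralizer_iff]
      intro x hx
      obtain ⟨R⟩ := (inferInstance : Nonempty (Sylow p (Subgroup.centralizer ({g} : Set G))))
      haveI := Sylow.unique_of_normal P hPn
      have hRc : Nat.card ((R : Subgroup _).map (Subgroup.centralizer ({g} : Set G)).subtype) =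
          p ^ (Nat.card G).factorization p := by
        rw [Subgroup.card_map_of_injective (Subgroup.subtype_injective _), R.card_eq_multiplicity,
          ← (Subgroup.centralizer ({g} : Set G)).card_mul_index,
          Nat.factorization_mul Nat.card_pos.ne' (Subgroup.index_ne_zero_of_finite),
          Finsupp.add_apply, Nat.factorization_eq_zero_of_not_dvd hg, add_zero]
      have hPR : Sylow.ofCard _ hRc = P := Subsingleton.elim _ _
      rw [← hPR, Sylow.coe_ofCard] at hx
      obtain ⟨y, -, rfl⟩ := hx
      exact (Subgroup.mem_centralizer_singleton_iff.1 y.2)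
    · intro hg hdvd
      have hle : (P : Subgroup G) ≤ Subgroup.centralizer ({g} : Set G) := fun x hx =>
        Subgroup.mem_centralizer_singleton_iff.2 (Subgroup.mem_centralizer_iff.1 hg x hx)
      exact P.not_dvd_index (hdvd.trans (Subgroup.index_dvd_of_le hle))
  have hother : ∀ (q : ℕ), q.Prime → q ≠ p → ∀ Q : Sylow q G, (Q : Subgroup G) ≤ C := by
    intro q hq hqp Q x hx
    haveI : Fact q.Prime := ⟨hq⟩
    rw [hC, Subgroup.mem_centralizer_iff]
    intro y hy
    exact Subgroup.commute_of_normal_of_disjoint _ _ hPn (hnorm q inferInstance Q)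
      (IsPGroup.disjoint_of_ne p q (Ne.symm hqp) _ _ P.2 Q.2) y x hy hx
  have hidx : ∀ q : ℕ, q.Prime → q ≠ p → ¬ q ∣ C.index := by
    intro q hq hqp hdvd
    haveI : Fact q.Prime := ⟨hq⟩
    obtain ⟨Q⟩ := (inferInstance : Nonempty (Sylow q G))
    exact Q.not_dvd_index (hdvd.trans (Subgroup.index_dvd_of_le (hother q hq hqp Q)))
  have hZC : Z ≤ C := fun z hz => Subgroup.mem_centralizer_iff.2 fun y _ => Subgroup.mem_center_iff.1 hz y
  have hC0 : Nat.card C ≠ 0 := Nat.card_pos.ne'
  have hfac : (Nat.card C).factorization p = (Nat.card Z).factorization p := by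
    refine le_antisymm ?_ ((Nat.factorization_le_iff_dvd Nat.card_pos.ne' hC0).2
      (Subgroup.card_dvd_of_le hZC) p)
    obtain ⟨R⟩ := (inferInstance : Nonempty (Sylow p C))
    have hRZ : (R : Subgroup C).map C.subtype ≤ Z := by
      rintro _ ⟨r, hr, rfl⟩
      rw [hZ, ← index_eq_one_iff_mem_center]
      by_contra hne
      obtain ⟨q, hq, hdvd⟩ := Nat.exists_prime_and_dvd hne
      haveI : Fact q.Prime := ⟨hq⟩
      obtain ⟨Q⟩ := (inferInstance : Nonempty (Sylow q G))
      refine Q.not_dvd_index (hdvd.trans (Subgroup.index_dvd_of_le fun x hx => ?_))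
      rw [Subgroup.mem_centralizer_singleton_iff]
      by_cases hqp : q = p
      · subst hqp
        haveI := Sylow.unique_of_normal P hPn
        rw [Subsingleton.elim Q P] at hx
        exact Subgroup.mem_centralizer_iff.1 r.2 x hx
      · have hrP : (r : G) ∈ (P : Subgroup G) := by
          obtain ⟨P', hP'⟩ := (R.2.map C.subtype).exists_le_sylow
          haveI := Sylow.unique_of_normal P hPn
          rw [Subsingleton.elim P' P] at hP'
          exact hP' (Subgroup.mem_map_of_mem _ hr)
        exact (Subgroup.mem_centralizer_iff.1 (hother q hq hqp Q hx) _ hrP).symm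
    have := Subgroup.card_dvd_of_le hRZ
    rw [Subgroup.card_map_of_injective C.subtype_injective, R.card_eq_multiplicity] at this
    exact (hp.pow_dvd_iff_le_factorization Nat.card_pos.ne').1 this
  rw [hU]
  refine Nat.eq_of_factorization_eq hC0
    (mul_ne_zero (pow_ne_zero _ hp.ne_zero) Subgroup.index_ne_zero_of_finite) fun q => ?_
  rw [Nat.factorization_mul (pow_ne_zero _ hp.ne_zero) Subgroup.index_ne_zero_of_finite,
    Finsupp.add_apply, Nat.Prime.factorization_pow hp]
  rcases eq_or_ne q p with rfl | hqp
  · rw [Finsupp.single_eq_same, Nat.factorization_eq_zero_of_not_dvd P.not_dvd_index, add_zero, hfac]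
  · rw [Finsupp.single_eq_of_ne hqp, zero_add]
    by_cases hq : q.Prime
    · have e1 := congrArg (fun k => k.factorization q) C.card_mul_index
      have e2 : (Nat.card G).factorization q = (P : Subgroup G).index.factorization q := by
        rw [← (P : Subgroup G).card_mul_index, Nat.factorization_mul Nat.card_pos.ne' (Subgroup.index_ne_zero_of_finite (H := (P : Subgroup G))),
          Finsupp.add_apply, P.card_eq_multiplicity, Nat.Prime.factorization_pow hp, Finsupp.single_eq_of_ne hqp, zero_add]
      simp only [Nat.factorization_mul hC0 (Subgroup.index_ne_zero_of_finite (H := C)), Finsupp.add_apply, Nat.factorization_eq_zero_of_not_dvd (hidx q hq hqp), add_zero] at e1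
      rw [e1, e2]
    · rw [Nat.factorization_eq_zero_of_not_prime _ hq, Nat.factorization_eq_zero_of_not_prime _ hq]

end

/-- Let G and H be finite groups such that for every natural number k, G and H have the same number of conjugacy classes of size k. If H is nilpotent then G is nilpotent. -/
theorem result {G H : Type*} [Group G] [Finite G] [Group H] [Finite H]
    (hH : Group.IsNilpotent H)
    (h : ∀ k : ℕ, Nat.card {C : ConjClasses G // Nat.card C.carrier = k} = Nat.card {C : ConjClasses H // Nat.card C.carrier = k}) :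
    Group.IsNilpotent G := by
  classical
  haveI := Fintype.ofFinite (ConjClasses G)
  haveI := Fintype.ofFinite (ConjClasses H)
  let e : ConjClasses G ≃ ConjClasses H :=
    Equiv.ofFiberEquiv (f := fun C : ConjClasses G => Nat.card C.carrier)
      (g := fun C : ConjClasses H => Nat.card C.carrier) fun k => (Finite.card_eq.1 (h k)).some
  have he : ∀ C, Nat.card (e C).carrier = Nat.card C.carrier := fun C =>
    Equiv.ofFiberEquiv_map (f := fun C : ConjClasses G => Nat.card C.carrier)
      (g := fun C : ConjClasses H => Nat.card C.carrier) _ C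
  have key : ∀ Q : ℕ → Prop,
      Nat.card {g : G // Q (Subgroup.centralizer ({g} : Set G)).index} =
      Nat.card {g : H // Q (Subgroup.centralizer ({g} : Set H)).index} := by
    intro Q
    let eG : {g : G // Q (Subgroup.centralizer ({g} : Set G)).index} ≃
        Σ C : {C : ConjClasses G // Q (Nat.card C.carrier)}, C.1.carrier :=
      { toFun := fun g => ⟨⟨ConjClasses.mk g.1, by rw [card_carrier_eq]; exact g.2⟩, ⟨g.1, ConjClasses.mem_carrier_mk⟩⟩
        invFun := fun x => ⟨x.2.1, by
          rw [← card_carrier_eq, ConjClasses.mem_carrier_iff_mk_eq.1 x.2.2]; exact x.1.2⟩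
        left_inv := fun _ => rfl
        right_inv := fun ⟨⟨C, hC⟩, ⟨g, hg⟩⟩ => by
          obtain rfl := ConjClasses.mem_carrier_iff_mk_eq.1 hg
          rfl }
    let eH : {g : H // Q (Subgroup.centralizer ({g} : Set H)).index} ≃
        Σ C : {C : ConjClasses H // Q (Nat.card C.carrier)}, C.1.carrier :=
      { toFun := fun g => ⟨⟨ConjClasses.mk g.1, by rw [card_carrier_eq]; exact g.2⟩, ⟨g.1, ConjClasses.mem_carrier_mk⟩⟩
        invFun := fun x => ⟨x.2.1, by
          rw [← card_carrier_eq, ConjClasses.mem_carrier_iff_mk_eq.1 x.2.2]; exact x.1.2⟩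
        left_inv := fun _ => rfl
        right_inv := fun ⟨⟨C, hC⟩, ⟨g, hg⟩⟩ => by
          obtain rfl := ConjClasses.mem_carrier_iff_mk_eq.1 hg
          rfl }
    rw [Nat.card_congr eG, Nat.card_congr eH]
    refine Nat.card_congr (Equiv.sigmaCongr (Equiv.subtypeEquiv e fun C => by rw [he]) fun C =>
      (Finite.card_eq.1 (he C.1).symm).some)
  have hcard : Nat.card G = Nat.card H := by
    have := key fun _ => True
    rwa [Nat.card_congr (Equiv.subtypeUnivEquiv fun _ => trivial),
      Nat.card_congr (Equiv.subtypeUnivEquiv fun _ => trivial)] at this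
  have hcen : Nat.card (Subgroup.center G) = Nat.card (Subgroup.center H) := by
    rw [← Nat.card_congr (Equiv.subtypeEquivRight fun g => index_eq_one_iff_mem_center (G := G) g),
      ← Nat.card_congr (Equiv.subtypeEquivRight fun g => index_eq_one_iff_mem_center (G := H) g)]
    exact key fun k => k = 1
  refine (Group.isNilpotent_of_finite_tfae.out 0 3 rfl rfl).2 fun p hp P => ?_
  obtain ⟨R⟩ := (inferInstance : Nonempty (Sylow p H))
  refine normal_of_count p P ?_
  have := count_of_nilpotent p hH R
  have hi : (P : Subgroup G).index = (R : Subgroup H).index := by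
    refine Nat.eq_of_mul_eq_mul_left (Nat.card_pos (α := (P : Subgroup G))) ?_
    conv_rhs => rw [P.card_eq_multiplicity, hcard, ← R.card_eq_multiplicity]
    rw [Subgroup.card_mul_index, Subgroup.card_mul_index, hcard]
  rw [hcen, hi, ← this]
  exact key fun k => ¬ p ∣ k

end Cfsg.Agent.S4139
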