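import Cfsg.Statements.S4142
import Mathlib
import Cfsg.Agent.Lib.Perm.ConjCount

set_option autoImplicit false
open Cfsg

namespace Cfsg.Agent.S4142

/-- Let G be a finite group and N a normal subgroup. Then the conjugacy class of every element g outside N is a union of cosets of N (gn is conjugate to g for all n ∈ N) if and only if for every g outside N the centralizer of g in G has the same order as the centralizer of gN in G/N. -/
theorem result {G : Type*} [Group G] [Finite G] (N : Subgroup G) [N.Normal] :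
    (∀ g : G, g ∉ N → ∀ n ∈ N, ∃ x : G, x * g * x⁻¹ = g * n) ↔
      ∀ g : G, g ∉ N → Nat.card (Subgroup.centralizer ({g} : Set G)) =
        Nat.card (Subgroup.centralizer ({(QuotientGroup.mk g : G ⧸ N)} : Set (G ⧸ N))) := by
  classical
  have key : ∀ g : G,
      (∀ n ∈ N, ∃ x : G, x * g * x⁻¹ = g * n) ↔
        Nat.card (Subgroup.centralizer ({g} : Set G)) =
          Nat.card (Subgroup.centralizer ({(QuotientGroup.mk g : G ⧸ N)} : Set (G ⧸ N))) := by
    intro g
    let S := {z : G // ∃ x, x * g * x⁻¹ = z}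
    let T := {z : G ⧸ N // ∃ x, x * (g : G ⧸ N) * x⁻¹ = z}
    let U := {z : G // ∃ x : G ⧸ N, x * (g : G ⧸ N) * x⁻¹ = (z : G ⧸ N)}
    let f : S → U := fun z => ⟨z.1, by
      obtain ⟨x, hx⟩ := z.2; exact ⟨(x : G ⧸ N), by rw [← hx]; rfl⟩⟩
    have hf : Function.Injective f := fun a b h => Subtype.ext (congrArg (fun u : U => u.1) h)
    have hU : Nat.card U = Nat.card N * Nat.card T := by
      rw [mul_comm, ← Nat.card_prod]
      refine Nat.card_congr
        { toFun := fun z => (⟨(z.1 : G ⧸ N), z.2⟩, ⟨((z.1 : G ⧸ N).out)⁻¹ * z.1,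
            QuotientGroup.eq.1 (Quotient.out_eq (z.1 : G ⧸ N))⟩)
          invFun := fun tn => ⟨tn.1.1.out * tn.2.1, by
            rw [QuotientGroup.mk_mul, QuotientGroup.out_eq', (QuotientGroup.eq_one_iff _).2 tn.2.2,
              mul_one]
            exact tn.1.2⟩
          left_inv := fun z => Subtype.ext (by simp)
          right_inv := fun tn => ?_ }
      have e : ((tn.1.1.out * tn.2.1 : G) : G ⧸ N) = tn.1.1 := by
        rw [QuotientGroup.mk_mul, QuotientGroup.out_eq', (QuotientGroup.eq_one_iff _).2 tn.2.2, mul_one]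
      refine Prod.ext (Subtype.ext e) (Subtype.ext ?_)
      show (((tn.1.1.out * tn.2.1 : G) : G ⧸ N).out)⁻¹ * (tn.1.1.out * tn.2.1) = tn.2.1
      rw [e]; group
    have hsurj : Function.Surjective f ↔ ∀ n ∈ N, ∃ x : G, x * g * x⁻¹ = g * n := by
      constructor
      · intro h n hn
        obtain ⟨⟨z, hz⟩, hzu⟩ := h ⟨g * n, 1, by simp [(QuotientGroup.eq_one_iff _).2 hn]⟩
        obtain ⟨x, hx⟩ := hz
        exact ⟨x, hx.trans (congrArg (fun u : U => u.1) hzu)⟩
      · rintro h ⟨z, x, hx⟩
        obtain ⟨x, rfl⟩ := QuotientGroup.mk_surjective x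
        have h1 : (((x * g * x⁻¹ : G)) : G ⧸ N) = z := hx
        have h2 : g⁻¹ * (x⁻¹ * z * x) ∈ N := by
          have h3 := QuotientGroup.eq.1 h1
          have := Subgroup.Normal.conj_mem (inferInstance : N.Normal) _ h3 x⁻¹
          simpa [mul_assoc] using this
        obtain ⟨y, hy⟩ := h _ h2
        refine ⟨⟨z, x * y, ?_⟩, rfl⟩
        calc x * y * g * (x * y)⁻¹ = x * (y * g * y⁻¹) * x⁻¹ := by group
          _ = z := by rw [hy]; group
    have hS := Perm.card_conjugates_mul_centralizer g
    have hT := Perm.card_conjugates_mul_centralizer (g : G ⧸ N)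
    have hGN := N.card_eq_card_quotient_mul_card_subgroup
    change Nat.card S * _ = _ at hS
    change Nat.card T * _ = _ at hT
    rw [← hsurj]
    constructor
    · intro h
      have hc : Nat.card S = Nat.card U := Nat.card_congr (Equiv.ofBijective f ⟨hf, h⟩)
      rw [hc, hU] at hS
      apply Nat.eq_of_mul_eq_mul_left (Nat.card_pos (α := N))
      have hT0 : 0 < Nat.card T := (Nat.pos_of_ne_zero fun e => by
        rw [e, zero_mul] at hT; exact Nat.card_pos.ne' hT.symm)
      apply Nat.eq_of_mul_eq_mul_left hT0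
      calc Nat.card T * (Nat.card N * _) = Nat.card G := by rw [← hS]; ring
        _ = Nat.card (G ⧸ N) * Nat.card N := hGN
        _ = _ := by rw [← hT]; ring
    · intro h
      have hcard : Nat.card S = Nat.card U := by
        rw [hU]
        apply Nat.eq_of_mul_eq_mul_right (Nat.card_pos (α := Subgroup.centralizer ({g} : Set G)))
        rw [hS, hGN, ← hT, h]; ring
      exact ((Nat.bijective_iff_injective_and_card f).2 ⟨hf, hcard⟩).2
  exact ⟨fun h g hg => (key g).1 (h g hg), fun h g hg => (key g).2 (h g hg)⟩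

end Cfsg.Agent.S4142
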