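import Cfsg.Statements.S4143
import Cfsg.Agent.Lib.Solv.MaxClass
import Cfsg.Agent.Lib.Solv.NormalPComplement

set_option autoImplicit false
open scoped Pointwise
open scoped commutatorElement
open Cfsg

namespace Cfsg.Agent.S4143

/-- Let X be a finite p-group of order p^n containing a non-abelian subgroup B of order p³ with C_X(B) ≤ B. Then X has nilpotency class n − 1 (maximal class). -/
theorem result {X : Type*} [Group X] [Finite X] {p : ℕ} [Fact p.Prime] (n : ℕ) (hX : Nat.card X = p ^ n)
    (B : Subgroup X) (hB : Nat.card B = p ^ 3) (hBna : ¬ IsMulCommutative B) (hC : Subgroup.centralizer (B : Set X) ≤ B) :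
    Group.nilpotencyClass X = n - 1 := by
  open Subgroup in
  have hp := (Fact.out : p.Prime)
  have hX' : IsPGroup p X := IsPGroup.of_card hX
  set Z := B ⊓ centralizer (B : Set X) with hZ
  have hCZ : centralizer (B : Set X) = Z := (inf_eq_right.2 hC).symm
  set T := normalizer (B : Set X) with hT
  set D := ⁅B, T⁆ with hD
  have hBne : B ≠ ⊥ := fun e => hBna (e ▸ inferInstance)
  have hDlt : D < B := Cfsg.Agent.Solv.commutator_lt_of_isNilpotent (M := T) (hX'.to_subgroup T).isNilpotent le_normalizer le_rfl hBne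
  obtain ⟨a, haB, haD⟩ := SetLike.exists_of_lt hDlt
  have hZn : Nat.card Z = p ∧ Z ≤ ⁅B, B⁆ := by
    have hB' := IsPGroup.of_card (p := p) (n := 3) hB
    have hcB : ¬ IsMulCommutative B := hBna
    have e : Z = (center B).map B.subtype := by
      ext x
      constructor
      · rintro ⟨hx, hx2⟩
        exact ⟨⟨x, hx⟩, mem_center_iff.2 fun g => Subtype.ext (mem_centralizer_iff.1 hx2 g g.2), rfl⟩
      · rintro ⟨y, hy, rfl⟩
        exact ⟨y.2, mem_centralizer_iff.2 fun g hg => congrArg Subtype.val (mem_center_iff.1 hy ⟨g, hg⟩)⟩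
    haveI := hB'.isNilpotent
    haveI : Nontrivial B := (nontrivial_iff_ne_bot B).2 hBne
    haveI := hB'.center_nontrivial
    have hc1 : Nat.card (center B) = p := by
      obtain ⟨k, hk⟩ := IsPGroup.iff_card.1 (hB'.to_subgroup (center B))
      have h1 := (center B).card_mul_index
      rw [hB, hk] at h1
      have h2 : 1 < Nat.card (center B) := Finite.one_lt_card
      have h3 : ∀ q : ℕ, (center B).index = p ^ q → 2 ≤ q := by
        intro q hq
        by_contra hlt
        apply hcB
        haveI : IsCyclic (B ⧸ center B) := by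
          rcases (show q = 0 ∨ q = 1 by omega) with h | h
          · rw [h, pow_zero, index_eq_card] at hq
            haveI := (Nat.card_eq_one_iff_unique.1 hq).1
            infer_instance
          · rw [h, pow_one, index_eq_card] at hq
            exact isCyclic_of_prime_card hq
        exact ⟨⟨commutative_of_cyclic_center_quotient (QuotientGroup.mk' (center B)) (le_of_eq (QuotientGroup.ker_mk' _))⟩⟩
      obtain ⟨q, hq⟩ := hB'.index (center B)
      have h4 := h3 q hq
      rw [hq, ← pow_add] at h1
      have h5 := Nat.pow_right_injective hp.two_le h1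
      rw [hk] at h2 ⊢
      rcases Nat.eq_zero_or_pos k with rfl | hk0
      · simp at h2
      · rw [show k = 1 by omega, pow_one]
    refine ⟨by rw [e, card_map_of_injective B.subtype_injective, hc1], ?_⟩
    obtain ⟨x, hx⟩ : ∃ x, x ∈ (center B ⊓ _root_.commutator B) ∧ x ≠ 1 := by
      by_contra h
      push Not at h
      have h1 : center B ⊓ _root_.commutator B = ⊥ := (eq_bot_iff_forall _).2 h
      apply hcB
      have h2 : _root_.commutator B = ⊥ := by
        by_contra hne
        obtain ⟨n, hn⟩ := (Subgroup.nilpotent_iff_lowerCentralSeries (G := B)).1 hB'.isNilpotent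
        classical
        have hex : ∃ n, (⊤ : Subgroup B).lowerCentralSeries (n + 1) = ⊥ :=
          ⟨n, le_bot_iff.1 (hn ▸ Subgroup.lowerCentralSeries_antitone (⊤ : Subgroup B) (Nat.le_succ n))⟩
        have h3 := Nat.find_spec hex
        rcases Nat.eq_zero_or_pos (Nat.find hex) with h4 | h4
        · rw [h4, top_lowerCentralSeries_one] at h3
          exact hne h3
        have h5 := Nat.find_min hex (show Nat.find hex - 1 < Nat.find hex by omega)
        rw [show Nat.find hex - 1 + 1 = Nat.find hex by omega] at h5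
        apply h5
        refine le_bot_iff.1 ((le_inf ?_ ?_).trans h1.le)
        · intro y hy
          rw [mem_center_iff]
          intro g
          have h6 : ⁅y, g⁆ = 1 := by
            rw [← mem_bot, ← h3, Subgroup.lowerCentralSeries_succ]
            exact commutator_mem_commutator hy (mem_top g)
          exact (commutatorElement_eq_one_iff_mul_comm.1 h6).symm
        · rw [← top_lowerCentralSeries_one]
          exact Subgroup.lowerCentralSeries_antitone (⊤ : Subgroup B) h4
      rw [_root_.commutator_def, commutator_eq_bot_iff_le_centralizer] at h2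
      exact ⟨⟨fun u v => mem_centralizer_iff.1 (h2 (mem_top v)) u (mem_top u)⟩⟩
    have h3 : Subgroup.zpowers x = center B := eq_of_le_of_card_ge (zpowers_le.2 hx.1.1) (by
      rw [hc1, Nat.card_zpowers]
      obtain ⟨k, hk⟩ := IsPGroup.iff_orderOf.1 hB' x
      rw [hk]
      exact Nat.le_self_pow (fun e => hx.2 (orderOf_eq_one_iff.1 (by rw [hk, e, pow_zero]))) p)
    rw [e, map_le_iff_le_comap, ← h3, zpowers_le]
    have h4 := mem_map_of_mem B.subtype hx.1.2
    rw [_root_.commutator_def, map_commutator, ← MonoidHom.range_eq_map, range_subtype] at h4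
    exact h4
  have hZD : Z ≤ D := hZn.2.trans (commutator_mono le_rfl le_normalizer)
  have haZ : a ∉ Z := fun h => haD (hZD h)
  set A := zpowers a ⊔ Z with hA
  have hZc : ∀ z ∈ Z, ∀ g ∈ B, g * z = z * g := fun z hz g hg => mem_centralizer_iff.1 hz.2 g hg
  have hAB : A ≤ B := sup_le (zpowers_le.2 haB) inf_le_left
  have hAc : A ≤ centralizer (A : Set X) := by
    rw [hA]
    refine sup_le ?_ ?_
    · rw [zpowers_le, mem_centralizer_iff]
      have h0 : zpowers a ⊔ Z ≤ centralizer ({a} : Set X) :=
        sup_le (zpowers_le.2 (mem_centralizer_singleton_iff.2 rfl))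
          fun g hg => mem_centralizer_singleton_iff.2 (hZc g hg a haB).symm
      intro g hg
      exact mem_centralizer_singleton_iff.1 (h0 hg)
    · intro z hz
      rw [mem_centralizer_iff]
      intro g hg
      exact hZc z hz g (hAB hg)
  obtain ⟨b, hb, hab⟩ : ∃ b ∈ B, a * b ≠ b * a := by
    by_contra h
    push Not at h
    exact haZ ⟨haB, mem_centralizer_iff.2 fun g hg => (h g hg).symm⟩
  have hAlt : A < B := lt_of_le_of_ne hAB fun e => hab ((mem_centralizer_iff.1 (hAc (mem_sup_left (mem_zpowers a))) b (e ▸ hb)).symm)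
  have hA2 : Nat.card A = p ^ 2 := by
    obtain ⟨k, hk⟩ := IsPGroup.iff_card.1 ((hX'.to_subgroup A))
    have h1 : Nat.card A < p ^ 3 := hB ▸ lt_of_le_of_ne (card_le_of_le hAB) fun e => hAlt.ne (eq_of_le_of_card_ge hAB e.ge)
    have h2 : p < Nat.card A := hZn.1 ▸ lt_of_le_of_ne (card_le_of_le le_sup_right) fun e =>
      haZ ((eq_of_le_of_card_ge (le_sup_right : Z ≤ A) e.ge).ge (mem_sup_left (mem_zpowers a)))
    rw [hk] at h1 h2 ⊢
    have := (Nat.pow_lt_pow_iff_right hp.one_lt).1 h1
    have : 1 < k := (Nat.pow_lt_pow_iff_right hp.one_lt).1 (by rwa [pow_one])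
    rw [show k = 2 by omega]
  have hDA : D ⊓ A ≤ Z := by
    intro x hx
    by_contra hxZ
    have h1 : Z ⊔ zpowers x = A := by
      refine eq_of_le_of_card_ge (sup_le le_sup_right (zpowers_le.2 hx.2)) ?_
      obtain ⟨k, hk⟩ := IsPGroup.iff_card.1 ((hX'.to_subgroup (Z ⊔ zpowers x)))
      have h2 : p < Nat.card ↥(Z ⊔ zpowers x) := hZn.1 ▸ lt_of_le_of_ne (card_le_of_le le_sup_left) fun e =>
        hxZ ((eq_of_le_of_card_ge (le_sup_left : Z ≤ Z ⊔ zpowers x) e.ge).ge (mem_sup_right (mem_zpowers x)))
      rw [hk] at h2 ⊢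
      have : 1 < k := (Nat.pow_lt_pow_iff_right hp.one_lt).1 (by rwa [pow_one])
      rw [hA2]
      exact Nat.pow_le_pow_right hp.pos this
    have h3 : A ≤ D := h1 ▸ sup_le hZD (zpowers_le.2 hx.1)
    exact haD (h3 (mem_sup_left (mem_zpowers a)))
  -- centralizers in the normalizer of `B`
  have hT' : ∀ y ∈ T, y ∈ centralizer (A : Set X) → y ∈ A := by
    intro y hy hyA
    have hya : a * y = y * a := mem_centralizer_iff.1 hyA a (mem_sup_left (mem_zpowers a))
    have hAall : ∀ g ∈ B, g * a = a * g → g ∈ A := by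
      intro g hg hga
      by_contra hgA
      have h1 : A ⊔ zpowers g = B := by
        refine eq_of_le_of_card_ge (sup_le hAB (zpowers_le.2 hg)) ?_
        obtain ⟨k, hk⟩ := IsPGroup.iff_card.1 ((hX'.to_subgroup (A ⊔ zpowers g)))
        have h2 : p ^ 2 < Nat.card ↥(A ⊔ zpowers g) := hA2 ▸ lt_of_le_of_ne (card_le_of_le le_sup_left) fun e =>
          hgA ((eq_of_le_of_card_ge (le_sup_left : A ≤ A ⊔ zpowers g) e.ge).ge (mem_sup_right (mem_zpowers g)))
        rw [hk] at h2 ⊢
        have : 2 < k := (Nat.pow_lt_pow_iff_right hp.one_lt).1 h2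
        rw [hB]
        exact Nat.pow_le_pow_right hp.pos this
      have h2 : A ⊔ zpowers g ≤ centralizer ({a} : Set X) := sup_le
        (fun u hu => mem_centralizer_singleton_iff.2 (mem_centralizer_iff.1 (hAc (mem_sup_left (mem_zpowers a))) u hu))
        (zpowers_le.2 (mem_centralizer_singleton_iff.2 hga))
      exact hab (mem_centralizer_singleton_iff.1 (h2 (h1.ge hb))).symm
    have hconj : y * b * y⁻¹ ∈ B := (mem_normalizer_iff.1 hy b).1 hb
    have hd : ⁅b, y⁆ ∈ Z := by
      refine hDA ⟨commutator_mem_commutator hb hy, ?_⟩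
      have hbA : ∀ g ∈ B, (g * a * g⁻¹ * a⁻¹) ∈ Z → True := fun _ _ _ => trivial
      clear hbA
      have h1 : ⁅b, y⁆ = b * (y * b⁻¹ * y⁻¹) := by rw [commutatorElement_def]; group
      rw [h1]
      refine hAall _ (mul_mem hb ((mem_normalizer_iff.1 hy _).1 (inv_mem hb))) ?_
      -- `b⁻¹` and its image act alike on `a`
      have hc : ⁅b⁻¹, a⁆ ∈ Z := by
        have : ⁅b⁻¹, a⁆ ∈ ⁅B, B⁆ := commutator_mem_commutator (inv_mem hb) haB
        have hBZ : ⁅B, B⁆ ≤ Z := by
          refine commutator_le.2 fun u hu v hv => ?_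
          have hc : IsMulCommutative (B ⧸ center B) := by
            refine IsPGroup.isMulCommutative_of_card_eq_prime_sq (p := p) ?_
            have h := (center B).card_mul_index
            have e : Nat.card (center B) = p := by
              rw [← hZn.1, ← card_map_of_injective B.subtype_injective]
              congr 2
              ext x
              constructor
              · rintro ⟨w, hw, rfl⟩
                exact ⟨w.2, mem_centralizer_iff.2 fun g hg => congrArg Subtype.val (mem_center_iff.1 hw ⟨g, hg⟩)⟩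
              · rintro ⟨hx, hx2⟩
                exact ⟨⟨x, hx⟩, mem_center_iff.2 fun g => Subtype.ext (mem_centralizer_iff.1 hx2 g g.2), rfl⟩
            rw [hB, e, index_eq_card] at h
            exact Nat.eq_of_mul_eq_mul_left hp.pos (h.trans (by ring))
          have h2 : ⁅(⟨u, hu⟩ : B), ⟨v, hv⟩⁆ ∈ center B := by
            rw [← QuotientGroup.eq_one_iff]
            change QuotientGroup.mk' (center B) _ = 1
            rw [map_commutatorElement, commutatorElement_eq_one_iff_mul_comm]
            exact mul_comm' _ _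
          exact ⟨B.mul_mem (B.mul_mem (B.mul_mem hu hv) (B.inv_mem hu)) (B.inv_mem hv), mem_centralizer_iff.2 fun g hg =>
            congrArg Subtype.val (mem_center_iff.1 h2 ⟨g, hg⟩)⟩
        exact hBZ this
      set z := ⁅b⁻¹, a⁆ with hz
      have hzy : Commute y z := (mem_centralizer_iff.1 hyA z (mem_sup_right hc)).symm
      have e1 : b⁻¹ * a = z * a * b⁻¹ := by rw [hz, commutatorElement_def]; group
      calc b * (y * b⁻¹ * y⁻¹) * a = b * (y * b⁻¹ * (y⁻¹ * a)) := by simp [mul_assoc]
        _ = b * (y * (b⁻¹ * a) * y⁻¹) := by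
          rw [show y⁻¹ * a = a * y⁻¹ from (Commute.inv_right hya : Commute a y⁻¹).symm.eq]; simp [mul_assoc]
        _ = b * ((y * z) * a * b⁻¹ * y⁻¹) := by rw [e1]; simp [mul_assoc]
        _ = b * (z * (y * a) * b⁻¹ * y⁻¹) := by rw [hzy.eq]; simp [mul_assoc]
        _ = (b * z) * (a * (y * b⁻¹ * y⁻¹)) := by rw [← hya]; simp [mul_assoc]
        _ = a * (b * (y * b⁻¹ * y⁻¹)) := by
          have e2 : b * z * a = a * b := by rw [hz, commutatorElement_def]; group
          rw [← mul_assoc (b * z), e2, mul_assoc]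
    -- `y` differs from a power of `a` by an element centralizing `B`
    have hgen : zpowers ⁅b, a⁆ = Z := by
      refine eq_of_le_of_card_ge ?_ ?_
      · rw [zpowers_le]
        refine hDA ⟨commutator_mem_commutator hb (le_normalizer haB), hAall _ (B.mul_mem (B.mul_mem (B.mul_mem hb haB) (B.inv_mem hb)) (B.inv_mem haB)) ?_⟩
        by_contra hne
        have hcom : b * a * b⁻¹ ∈ A := by
          haveI : (A.subgroupOf B).Normal := by
            refine Subgroup.normal_of_index_eq_minFac_card ?_
            have h := (A.subgroupOf B).card_mul_index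
            rw [Nat.card_congr (subgroupOfEquivOfLe hAB).toEquiv, hA2, hB, pow_succ p 2] at h
            rw [Nat.eq_of_mul_eq_mul_left (pow_pos hp.pos 2) h, hB, Nat.pow_minFac (by norm_num), hp.minFac_eq]
          exact mem_subgroupOf.1 ((‹(A.subgroupOf B).Normal›).conj_mem ⟨a, haB⟩ (mem_subgroupOf.2 (mem_sup_left (mem_zpowers a))) ⟨b, hb⟩)
        exact hne (mem_centralizer_iff.1 (hAc (mem_sup_left (mem_zpowers a))) _ (mul_mem hcom (inv_mem (mem_sup_left (mem_zpowers a)))))
      · rw [hZn.1, Nat.card_zpowers]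
        obtain ⟨k, hk⟩ := IsPGroup.iff_orderOf.1 hX' ⁅b, a⁆
        rw [hk]
        refine Nat.le_self_pow (fun e => hab (commutatorElement_eq_one_iff_mul_comm.1 (orderOf_eq_one_iff.1 (by rw [hk, e, pow_zero]))).symm) p
    obtain ⟨k, hk⟩ := mem_zpowers_iff.1 (hgen.ge hd)
    have hk' : ⁅b, a ^ k⁆ = ⁅b, a⁆ ^ k := by
      have hcz : ⁅b, a⁆ ∈ Z := hgen.le (mem_zpowers _)
      have e : b * a * b⁻¹ = ⁅b, a⁆ * a := by rw [commutatorElement_def]; group
      rw [commutatorElement_def b (a ^ k), ← conj_zpow, e, (show Commute ⁅b, a⁆ a from (hZc _ hcz a haB).symm).mul_zpow, mul_inv_cancel_right]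
    have hz' : y * (a ^ k)⁻¹ ∈ centralizer (B : Set X) := by
      have h1 : ⁅b, y⁆ = ⁅b, a ^ k⁆ := hk.symm.trans hk'.symm
      have h2 : b * (y * (a ^ k)⁻¹) = y * (a ^ k)⁻¹ * b := by
        have h3 : y * b⁻¹ * y⁻¹ = a ^ k * b⁻¹ * (a ^ k)⁻¹ := by
          rw [commutatorElement_def, commutatorElement_def] at h1
          have := congrArg (fun t => b⁻¹ * t) h1
          simpa [mul_assoc] using this
        have h4 : y * b * y⁻¹ = a ^ k * b * (a ^ k)⁻¹ := by
          have := congrArg (·⁻¹) h3
          simpa [mul_assoc] using this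
        have hky : y * (a ^ k)⁻¹ = (a ^ k)⁻¹ * y :=
          ((Commute.zpow_left (show Commute a y from hya) k).inv_left).symm.eq
        rw [hky]
        calc b * ((a ^ k)⁻¹ * y) = (a ^ k)⁻¹ * (a ^ k * b * (a ^ k)⁻¹) * y := by group
          _ = (a ^ k)⁻¹ * y * b := by rw [← h4]; group
      have h5 : A ⊔ zpowers b = B := by
        refine eq_of_le_of_card_ge (sup_le hAB (zpowers_le.2 hb)) ?_
        obtain ⟨j, hj⟩ := IsPGroup.iff_card.1 ((hX'.to_subgroup (A ⊔ zpowers b)))
        have h6 : p ^ 2 < Nat.card ↥(A ⊔ zpowers b) := hA2 ▸ lt_of_le_of_ne (card_le_of_le le_sup_left) fun e => by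
          have hbA : b ∈ A := (eq_of_le_of_card_ge (le_sup_left : A ≤ A ⊔ zpowers b) e.ge).ge (mem_sup_right (mem_zpowers b))
          exact hab (mem_centralizer_iff.1 (hAc (mem_sup_left (mem_zpowers a))) b hbA).symm
        rw [hj] at h6 ⊢
        have : 2 < j := (Nat.pow_lt_pow_iff_right hp.one_lt).1 h6
        rw [hB]
        exact Nat.pow_le_pow_right hp.pos this
      rw [← h5, mem_centralizer_iff]
      have h7 : A ⊔ zpowers b ≤ centralizer ({y * (a ^ k)⁻¹} : Set X) := sup_le
        (fun g hg => mem_centralizer_singleton_iff.2 (Commute.mul_right (show Commute g y from mem_centralizer_iff.1 hyA g hg)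
          ((show Commute g a from (mem_centralizer_iff.1 (hAc (mem_sup_left (mem_zpowers a))) g hg)).zpow_right k).inv_right).eq)
        (zpowers_le.2 (mem_centralizer_singleton_iff.2 h2))
      intro g hg
      exact mem_centralizer_singleton_iff.1 (h7 hg)
    have := mul_mem (mem_sup_right (hCZ ▸ hz') : y * (a ^ k)⁻¹ ∈ A) (zpow_mem (mem_sup_left (mem_zpowers a)) k)
    rwa [inv_mul_cancel_right] at this
  have hCA : centralizer (A : Set X) = A := by
    refine le_antisymm ?_ hAc
    by_contra hnle
    set C := centralizer (A : Set X) with hCdef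
    -- `B` normalizes `A`, hence `C`
    have hnA : B ≤ normalizer (C : Set X) := by
      have hnAA : B ≤ normalizer (A : Set X) := by
        intro g hg
        have hn : (A.subgroupOf B).Normal := by
          refine Subgroup.normal_of_index_eq_minFac_card ?_
          have h := (A.subgroupOf B).card_mul_index
          rw [Nat.card_congr (subgroupOfEquivOfLe hAB).toEquiv, hA2, hB, pow_succ p 2] at h
          rw [Nat.eq_of_mul_eq_mul_left (pow_pos hp.pos 2) h, hB, Nat.pow_minFac (by norm_num), hp.minFac_eq]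
        have h3 := (normal_subgroupOf_iff_le_normalizer hAB).1 hn hg
        exact h3
      intro g hg
      rw [mem_normalizer_iff]
      intro c
      have key : ∀ g ∈ B, ∀ c ∈ C, g * c * g⁻¹ ∈ C := by
        intro g hg c hc
        rw [hCdef, mem_centralizer_iff]
        intro u hu
        have h1 : g⁻¹ * u * g ∈ A := by simpa using (mem_normalizer_iff.1 (inv_mem (hnAA hg)) u).1 hu
        have h2 := mem_centralizer_iff.1 hc _ h1
        calc u * (g * c * g⁻¹) = g * ((g⁻¹ * u * g) * c) * g⁻¹ := by group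
          _ = g * c * g⁻¹ * u := by rw [h2]; group
      refine ⟨key g hg c, fun hc => ?_⟩
      simpa [mul_assoc] using key g⁻¹ (inv_mem hg) _ hc
    have hBlt : B < B ⊔ C := lt_of_le_of_ne le_sup_left fun e => hnle fun c hc =>
      hT' c (le_normalizer (e.symm ▸ (mem_sup_right hc : c ∈ B ⊔ C))) hc
    haveI := (hX'.to_subgroup (B ⊔ C)).isNilpotent
    have h1 : B.subgroupOf (B ⊔ C) < ⊤ := lt_top_iff_ne_top.2 fun t => not_le_of_gt hBlt (subgroupOf_eq_top.1 t)
    obtain ⟨w, hw, hwB⟩ := SetLike.exists_of_lt (normalizerCondition_of_isNilpotent (G := ↥(B ⊔ C)) _ h1)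
    have hwT : (w : X) ∈ T := mem_subgroupOf.1 (subgroupOf_normalizer_eq hBlt.le ▸ hw)
    obtain ⟨g, hg, c, hc, hgc⟩ : ∃ g ∈ B, ∃ c ∈ C, g * c = (w : X) := by
      have := w.2
      rw [← SetLike.mem_coe, coe_mul_of_left_le_normalizer_right B C hnA] at this
      exact this
    have hcT : c ∈ T := by
      have := mul_mem (inv_mem (le_normalizer hg : g ∈ T)) hwT
      rwa [← hgc, inv_mul_cancel_left] at this
    exact hwB (mem_subgroupOf.2 (hgc ▸ mul_mem hg (hAB (hT' c hcT hc))))
  exact Cfsg.Agent.Solv.MaxClass.class_eq_of_self_centralizing n X A hX hA2 hCA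

end Cfsg.Agent.S4143
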