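import Cfsg.Statements.S4145
import Cfsg.Agent.Lib.Solv.PSolvable
import Cfsg.Agent.Lib.Solv.NormalPComplement
import Cfsg.Agent.Lib.Block.PPart

set_option autoImplicit false
open scoped Pointwise
open Cfsg

namespace Cfsg.Agent.S4145

section Helpers

open Subgroup

variable {G : Type*} [Group G] [Finite G] {p : ℕ} [hp : Fact p.Prime]

theorem commute_of_pow_conj {g y : G} {n : ℕ} {r : ℤ} (hg : orderOf g = p ^ n)
    (hy : y * g * y⁻¹ = g ^ r) (hyo : (orderOf y).Coprime p) (hr : (p : ℤ) ∣ r - 1) : Commute y g := by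
  have key : ∀ j : ℕ, y ^ j * g * (y ^ j)⁻¹ = g ^ (r ^ j) := by
    intro j
    induction j with
    | zero => simp
    | succ j ih =>
      rw [pow_succ' r j, zpow_mul, ← hy, conj_zpow, ← ih, pow_succ']
      group
  have h1 : Commute (y ^ p ^ n) g := by
    have h2 : (p : ℤ) ^ (n + 1) ∣ r ^ p ^ n - 1 := by
      have := dvd_sub_pow_of_dvd_sub (R := ℤ) (p := p) (a := r) (b := 1) hr n
      simpa using this
    have h3 : g ^ (r ^ p ^ n) = g := by
      have h4 : (orderOf g : ℤ) ∣ r ^ p ^ n - 1 := by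
        rw [hg, Nat.cast_pow]; exact (pow_dvd_pow _ (Nat.le_succ n)).trans h2
      rw [orderOf_dvd_iff_zpow_eq_one, zpow_sub, zpow_one, mul_inv_eq_one] at h4
      exact h4
    have h5 := key (p ^ n)
    rw [h3] at h5
    exact mul_inv_eq_iff_eq_mul.1 h5
  obtain ⟨u, v, huv⟩ := Nat.Coprime.isCoprime (hyo.pow_right n)
  have h6 : y = (y ^ p ^ n) ^ v := by
    rw [← zpow_natCast, ← zpow_mul, mul_comm, show v * ((p ^ n : ℕ) : ℤ) = 1 - u * orderOf y by linarith,
      zpow_sub, zpow_one, mul_comm u, zpow_mul, zpow_natCast, pow_orderOf_eq_one, one_zpow, inv_one, mul_one]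
  rw [h6]
  exact h1.zpow_left v

/-- With a cyclic Sylow subgroup, the centraliser of a nontrivial `p`-subgroup is `p`-nilpotent. -/
theorem npc_centralizer (P : Sylow p G) (hP : IsCyclic (P : Subgroup G)) (P₀ : Subgroup G)
    (h₀ : P₀ ≤ (P : Subgroup G)) (h₁ : P₀ ≠ ⊥) :
    Cfsg.HasNormalPComplement p (centralizer (P₀ : Set G)) := by
  set C := centralizer (P₀ : Set G) with hC
  obtain ⟨g, hg⟩ := Subgroup.isCyclic_iff_exists_zpowers_eq_top (P : Subgroup G) |>.1 hP
  have hgP : g ∈ (P : Subgroup G) := hg ▸ mem_zpowers g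
  have hPC : (P : Subgroup G) ≤ C := by
    intro x hx
    rw [hC, mem_centralizer_iff]
    intro z hz
    exact congrArg Subtype.val (mul_comm' (⟨z, h₀ hz⟩ : (P : Subgroup G)) ⟨x, hx⟩)
  refine Cfsg.Agent.Solv.hasNormalPComplement_of_burnside (P.subtype hPC) fun y hy => ?_
  have hyP : (y : G) ∈ normalizer ((P : Subgroup G) : Set G) := by
    rw [Sylow.coe_subtype, ← subgroupOf_normalizer_eq hPC] at hy
    exact hy
  suffices hcomm : Commute (y : G) g by
    rw [mem_centralizer_iff]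
    rintro x hx
    have hx' : (x : G) ∈ zpowers g := hg.symm ▸ hx
    obtain ⟨i, hi⟩ := mem_zpowers_iff.1 hx'
    exact Subtype.ext (show (x : G) * y = y * x from hi ▸ (hcomm.zpow_right i).symm.eq)
  obtain ⟨u, w, huw, -, ⟨i, hu⟩, hw, huy, hwy⟩ := Cfsg.Agent.Block.exists_isPPart hp.out (y : G)
  have huP : u ∈ (P : Subgroup G) := by
    have h2 : zpowers u ⊓ normalizer ((P : Subgroup G) : Set G) = zpowers u ⊓ (P : Subgroup G) :=
      (IsPGroup.of_card (n := i) ((Nat.card_zpowers u).trans hu)).inf_normalizer_sylow P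
    exact (h2.le ⟨mem_zpowers u, zpowers_le.2 hyP huy⟩).2
  have hcu : Commute u g := congrArg Subtype.val (mul_comm' (⟨u, huP⟩ : (P : Subgroup G)) ⟨g, hgP⟩)
  rw [← huw]
  refine hcu.mul_left ?_
  have hwN : w ∈ normalizer ((P : Subgroup G) : Set G) := zpowers_le.2 hyP hwy
  have hwC : w ∈ C := zpowers_le.2 y.2 hwy
  obtain ⟨r, hr⟩ := mem_zpowers_iff.1 (hg.symm ▸ (mem_normalizer_iff.1 hwN g).1 hgP)
  obtain ⟨n, hn⟩ := IsPGroup.iff_orderOf.1 P.isPGroup' ⟨g, hgP⟩
  rw [Subgroup.orderOf_mk] at hn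
  refine commute_of_pow_conj hn hr.symm ((hp.out.coprime_iff_not_dvd.2 hw).symm) ?_
  obtain ⟨x, hx, hx1⟩ := P₀.ne_bot_iff_exists_ne_one.1 h₁ |> fun ⟨x, hx⟩ => (⟨(x : G), x.2, fun e => hx (Subtype.ext e)⟩ : ∃ x, x ∈ P₀ ∧ x ≠ 1)
  obtain ⟨j, rfl⟩ := mem_zpowers_iff.1 (hg.symm ▸ h₀ hx)
  have h4 : g ^ (r * j) = g ^ j := by
    rw [zpow_mul, hr, conj_zpow, ← mem_centralizer_iff.1 hwC _ hx, mul_inv_cancel_right]
  rw [← mul_inv_eq_one, ← zpow_sub, ← orderOf_dvd_iff_zpow_eq_one, hn, show r * j - j = (r - 1) * j by ring] at h4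
  by_contra hd
  have h5 : IsCoprime ((p : ℤ) ^ n) (r - 1) :=
    ((Nat.prime_iff_prime_int.1 hp.out).coprime_iff_not_dvd.2 hd).pow_left
  have h6 := h5.dvd_of_dvd_mul_left (by exact_mod_cast h4)
  exact hx1 (orderOf_dvd_iff_zpow_eq_one.1 (by rw [hn]; exact_mod_cast h6))

theorem isPSolvable_of_npc (h : Cfsg.HasNormalPComplement p G) : Cfsg.IsPSolvable p G := by
  obtain ⟨k, hk⟩ := Cfsg.Agent.Solv.hasNormalPComplement_iff_index.1 h
  exact Cfsg.Agent.Solv.isPSolvable_of_extension (Cfsg.pPrimeCore p G)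
    (Cfsg.Agent.Solv.isPSolvable_of_coprime (Cfsg.Agent.Solv.card_pPrimeCore_coprime p G))
    (Cfsg.Agent.Solv.isPSolvable_of_isPGroup (IsPGroup.of_card (n := k) (by rw [← index_eq_card, hk])))

theorem isPSolvable_of_normal_pSubgroup (P : Sylow p G) (hP : IsCyclic (P : Subgroup G)) (P₀ : Subgroup G)
    [P₀.Normal] (h₀ : P₀ ≤ (P : Subgroup G)) (h₁ : P₀ ≠ ⊥) : Cfsg.IsPSolvable p G := by
  haveI : (centralizer (P₀ : Set G)).Normal := normal_centralizer
  refine Cfsg.Agent.Solv.isPSolvable_of_extension (centralizer (P₀ : Set G))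
    (isPSolvable_of_npc (npc_centralizer P hP P₀ h₀ h₁)) (Cfsg.Agent.Solv.isPSolvable_of_coprime ?_)
  rw [← index_eq_card]
  refine (hp.out.coprime_iff_not_dvd.2 fun hd => P.not_dvd_index (hd.trans (index_dvd_of_le ?_))).symm
  intro x hx
  rw [mem_centralizer_iff]
  intro z hz
  exact congrArg Subtype.val (mul_comm' (⟨z, h₀ hz⟩ : (P : Subgroup G)) ⟨x, hx⟩)

end Helpers

/-- Let G be a finite group with a cyclic Sylow p-subgroup and H a normal subgroup such that p divides both the order of H and the index of H. Then H has a normal p-complement and G is p-solvable. -/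
theorem result {G : Type*} [Group G] [Finite G] (p : ℕ) [Fact p.Prime]
    (P : Sylow p G) (hP : IsCyclic (P : Subgroup G)) (H : Subgroup G) [H.Normal] (h1 : p ∣ Nat.card H) (h2 : p ∣ H.index) :
    Cfsg.HasNormalPComplement p H ∧ Cfsg.IsPSolvable p G := by
  open Subgroup in
  have hp := (Fact.out : p.Prime)
  haveI := hP
  set P₀ := (P : Subgroup G) ⊓ H with hP₀
  obtain ⟨S, hS⟩ : ∃ S : Sylow p H, (S : Subgroup H) = (P : Subgroup G).subgroupOf H := by
    obtain ⟨S, hS⟩ := (P.isPGroup'.comap_of_injective H.subtype H.subtype_injective).exists_le_sylow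
    refine ⟨S, (eq_of_le_of_card_ge hS ?_).symm⟩
    obtain ⟨R, hR⟩ := (S.isPGroup'.map H.subtype).exists_le_sylow
    obtain ⟨t, ht⟩ := MulAction.exists_smul_eq G R P
    have hle : ((S : Subgroup H).map H.subtype).map (MulAut.conj t).toMonoidHom ≤ (P : Subgroup G) ⊓ H := by
      rintro _ ⟨x, hx, rfl⟩
      refine ⟨ht ▸ ?_, Normal.conj_mem inferInstance x (map_subtype_le _ hx) t⟩
      rw [Sylow.coe_subgroup_smul]
      exact ⟨x, hR hx, rfl⟩
    calc Nat.card (S : Subgroup H) = Nat.card ↥(((S : Subgroup H).map H.subtype).map (MulAut.conj t).toMonoidHom) := by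
          rw [card_map_of_injective (MulEquiv.injective _), card_map_of_injective H.subtype_injective]
      _ ≤ Nat.card ↥((P : Subgroup G) ⊓ H) := card_le_of_le hle
      _ = _ := by show _ = Nat.card ↥((P : Subgroup G).subgroupOf H); rw [← inf_subgroupOf_right]; exact (Nat.card_congr (subgroupOfEquivOfLe inf_le_right).toEquiv).symm
  have hScard : Nat.card (S : Subgroup H) = Nat.card P₀ := by
    rw [hS, ← inf_subgroupOf_right]
    exact Nat.card_congr (subgroupOfEquivOfLe inf_le_right).toEquiv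
  have h₁ : P₀ ≠ ⊥ := by
    intro e
    rw [e, card_bot] at hScard
    exact S.not_dvd_index (by
      have := (S : Subgroup H).card_mul_index
      rw [hScard, one_mul] at this
      rw [this]; exact h1)
  have hlt : P₀ ≠ (P : Subgroup G) := fun e =>
    P.not_dvd_index (h2.trans (index_dvd_of_le (e ▸ inf_le_right)))
  obtain ⟨g, hg⟩ := (Subgroup.isCyclic_iff_exists_zpowers_eq_top (P : Subgroup G)).1 hP
  have hgP : g ∈ (P : Subgroup G) := hg ▸ mem_zpowers g
  obtain ⟨n, hn'⟩ := IsPGroup.iff_orderOf.1 P.isPGroup' ⟨g, hgP⟩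
  rw [Subgroup.orderOf_mk] at hn'
  set C := centralizer (P₀ : Set G) with hC
  have hnpc : Cfsg.HasNormalPComplement p C := npc_centralizer P hP P₀ inf_le_left h₁
  have hPC : (P : Subgroup G) ≤ C := fun x hx => mem_centralizer_iff.2 fun z hz =>
    congrArg Subtype.val (mul_comm' (⟨z, hz.1⟩ : (P : Subgroup G)) ⟨x, hx⟩)
  set K := (Cfsg.pPrimeCore p C).map C.subtype with hK
  -- elements of order prime to `p` normalising `P₀` in `H` centralise it
  have key : ∀ y ∈ H, y ∈ normalizer (P₀ : Set G) → (orderOf y).Coprime p → y ∈ C := by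
    intro y hyH hyN hyo
    set N := normalizer (P₀ : Set G) with hN
    have hCN : C ≤ N := centralizer_le_normalizer _
    haveI hCn : (C.subgroupOf N).Normal := by
      constructor
      intro c hc t
      rw [mem_subgroupOf, hC, mem_centralizer_iff] at *
      intro z hz
      have hz' : (t : G)⁻¹ * z * t ∈ P₀ := by
        simpa using (mem_normalizer_iff.1 (N.inv_mem t.2) z).1 hz
      have := hc _ hz'
      simp only [Subgroup.coe_mul, Subgroup.coe_inv]
      calc z * ((t : G) * c * (t : G)⁻¹) = t * ((t : G)⁻¹ * z * t * c) * (t : G)⁻¹ := by group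
        _ = (t : G) * c * (t : G)⁻¹ * z := by rw [this]; group
    haveI hKn : (K.subgroupOf N).Normal := by
      constructor
      intro c hc t
      obtain ⟨d, hd, hdc⟩ := mem_subgroupOf.1 hc
      have hcC : (t * c * t⁻¹ : N) ∈ C.subgroupOf N := hCn.conj_mem c (mem_subgroupOf.2 (hdc ▸ d.2)) t
      refine mem_subgroupOf.2 ⟨⟨_, mem_subgroupOf.1 hcC⟩, (Cfsg.Agent.Solv.mem_pPrimeCore_iff hnpc).2 ?_, rfl⟩
      rw [← Subgroup.orderOf_coe, Subgroup.coe_mk]
      simp only [Subgroup.coe_mul, Subgroup.coe_inv]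
      rw [show orderOf ((t : G) * c * (t : G)⁻¹) = orderOf (c : G) from
        orderOf_injective (MulAut.conj (t : G)).toMonoidHom (MulEquiv.injective _) _, ← hdc, coe_subtype, Subgroup.orderOf_coe]
      exact (Cfsg.Agent.Solv.mem_pPrimeCore_iff hnpc).1 hd
    set f := QuotientGroup.mk' (K.subgroupOf N) with hf
    have hKP : ∀ x : G, x ∈ K → x ∈ (P : Subgroup G) → x = 1 := by
      rintro _ ⟨d, hd, rfl⟩ hx
      obtain ⟨i, hi⟩ := IsPGroup.iff_orderOf.1 P.isPGroup' ⟨_, hx⟩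
      rw [Subgroup.orderOf_mk, coe_subtype, Subgroup.orderOf_coe] at hi
      have := (Cfsg.Agent.Solv.mem_pPrimeCore_iff hnpc).1 hd
      rw [hi] at this
      rw [← orderOf_eq_one_iff, coe_subtype, Subgroup.orderOf_coe, hi]
      exact Nat.eq_one_of_dvd_coprimes (this.symm.pow_left i) dvd_rfl dvd_rfl |> fun h => by
        first | exact h | omega
    have hgN : g ∈ N := hCN (hPC hgP)
    have hgo : orderOf (f ⟨g, hgN⟩) = p ^ n := by
      refine Nat.dvd_antisymm ((orderOf_map_dvd f _).trans (by rw [Subgroup.orderOf_mk, hn'])) ?_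
      rw [← hn']
      refine orderOf_dvd_of_pow_eq_one (hKP _ ?_ (pow_mem hgP _))
      have h3 := pow_orderOf_eq_one (f ⟨g, hgN⟩)
      rw [← map_pow, hf, QuotientGroup.mk'_apply, QuotientGroup.eq_one_iff, mem_subgroupOf] at h3
      exact h3
    -- `y` acts on `C / K`
    obtain ⟨r, hr⟩ : ∃ r : ℤ, f ⟨y, hyN⟩ * f ⟨g, hgN⟩ * (f ⟨y, hyN⟩)⁻¹ = f ⟨g, hgN⟩ ^ r := by
      have hc : (⟨y, hyN⟩ * ⟨g, hgN⟩ * (⟨y, hyN⟩)⁻¹ : N) ∈ C.subgroupOf N :=
        hCn.conj_mem _ (mem_subgroupOf.2 (hPC hgP)) _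
      have h3 := (Cfsg.Agent.Solv.isComplement'_pPrimeCore hnpc (P.subtype hPC)).sup_eq_top.ge
        (mem_top (⟨_, mem_subgroupOf.1 hc⟩ : C))
      obtain ⟨d, hd, s, hs, hds⟩ := mem_sup_of_normal_left.1 h3
      have hs' : (s : G) ∈ (P : Subgroup G) := hs
      obtain ⟨r, hr⟩ := mem_zpowers_iff.1 (hg.symm ▸ hs' : (s : G) ∈ zpowers g)
      refine ⟨r, ?_⟩
      rw [← map_inv, ← map_mul, ← map_mul, ← map_zpow, hf, QuotientGroup.mk'_apply, QuotientGroup.mk'_apply,
        QuotientGroup.eq, mem_subgroupOf]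
      have e := congrArg Subtype.val hds
      simp only [Subgroup.coe_mul, Subgroup.coe_inv, Subgroup.coe_zpow] at e ⊢
      rw [← e, hr, mul_inv_rev, mul_assoc]
      have hdK : ((d : G)⁻¹) ∈ K := inv_mem ⟨d, hd, rfl⟩
      have := hKn.conj_mem ⟨(d : G)⁻¹, hCN (inv_mem d.2)⟩ (mem_subgroupOf.2 hdK) (⟨(s : G), hCN s.2⟩)⁻¹
      simpa [mem_subgroupOf, mul_assoc] using this
    have hpr : (p : ℤ) ∣ r - 1 := by
      by_contra hd
      have hm : (⟨y, hyN⟩ * ⟨g, hgN⟩ * (⟨y, hyN⟩)⁻¹ * (⟨g, hgN⟩)⁻¹ : N) ∈ (H ⊓ N).subgroupOf N := by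
        refine mem_subgroupOf.2 ⟨?_, SetLike.coe_mem _⟩
        simp only [Subgroup.coe_mul, Subgroup.coe_inv]
        rw [show y * g * y⁻¹ * g⁻¹ = y * (g * y⁻¹ * g⁻¹) by group]
        exact mul_mem hyH (Normal.conj_mem inferInstance _ (inv_mem hyH) g)
      set z : N := ⟨y, hyN⟩ * ⟨g, hgN⟩ * (⟨y, hyN⟩)⁻¹ * (⟨g, hgN⟩)⁻¹ with hz
      have h4 : p ^ n ∣ orderOf z := by
        refine dvd_trans ?_ (orderOf_map_dvd f z)
        have e : f z = f ⟨g, hgN⟩ ^ (r - 1) := by
          rw [hz, map_mul, map_mul, map_mul, map_inv, map_inv, hr, zpow_sub, zpow_one]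
        rw [e]
        have hcop : IsCoprime (r - 1) ((p : ℤ) ^ n) :=
          (((Nat.prime_iff_prime_int.1 hp).coprime_iff_not_dvd.2 hd).symm).pow_right
        obtain ⟨α, β, hab⟩ := hcop
        rw [← hgo]
        refine orderOf_dvd_of_mem_zpowers (mem_zpowers_iff.2 ⟨α, ?_⟩)
        rw [← zpow_mul, mul_comm, show α * (r - 1) = 1 - β * (p : ℤ) ^ n by linarith, zpow_sub, zpow_one,
          mul_comm β, zpow_mul, show ((p : ℤ) ^ n) = ((p ^ n : ℕ) : ℤ) by push_cast; ring, zpow_natCast, ← hgo,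
          pow_orderOf_eq_one, one_zpow, inv_one, mul_one]
      rw [← Subgroup.orderOf_coe] at h4
      have h5 : p ^ n ∣ Nat.card H := h4.trans (Subgroup.orderOf_dvd_natCard _ (mem_subgroupOf.1 hm).1)
      have h6 : Nat.card (P : Subgroup G) = p ^ n := by rw [← hg, Nat.card_zpowers, hn']
      rw [← (S : Subgroup H).card_mul_index, hScard] at h5
      have h7 := (Nat.Coprime.pow_left n (hp.coprime_iff_not_dvd.2 S.not_dvd_index)).dvd_of_dvd_mul_right h5
      exact hlt (eq_of_le_of_card_ge inf_le_left (h6 ▸ Nat.le_of_dvd Nat.card_pos h7))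
    have hcomm : Commute (f ⟨y, hyN⟩) (f ⟨g, hgN⟩) := commute_of_pow_conj hgo hr
      (hyo.coprime_dvd_left ((orderOf_map_dvd f _).trans (by rw [Subgroup.orderOf_mk]))) hpr
    rw [hC, mem_centralizer_iff]
    intro x hx
    obtain ⟨i, hi⟩ := mem_zpowers_iff.1 (hg.symm ▸ hx.1 : x ∈ zpowers g)
    have hxN : x ∈ N := hCN (hPC hx.1)
    have h3 : f (⟨y, hyN⟩ * ⟨x, hxN⟩ * (⟨y, hyN⟩)⁻¹ * (⟨x, hxN⟩)⁻¹) = 1 := by
      rw [show (⟨x, hxN⟩ : N) = ⟨g, hgN⟩ ^ i from Subtype.ext (by simp [hi]), map_mul, map_mul, map_mul,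
        map_inv, map_inv, map_zpow, (hcomm.zpow_right i).eq, mul_inv_cancel_right, mul_inv_cancel]
    rw [hf, QuotientGroup.mk'_apply, QuotientGroup.eq_one_iff, mem_subgroupOf] at h3
    have h4 : y * x * y⁻¹ * x⁻¹ = 1 := by
      refine hKP _ (by simpa using h3) ?_
      exact mul_mem ((mem_normalizer_iff.1 hyN x).1 hx).1 (inv_mem hx.1)
    have h4' : y * x * y⁻¹ = x := mul_inv_eq_one.1 h4
    calc x * y = y * x * y⁻¹ * y := by rw [h4']
      _ = y * x := inv_mul_cancel_right _ _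
  have hH : Cfsg.HasNormalPComplement p H := by
    refine Cfsg.Agent.Solv.hasNormalPComplement_of_burnside S fun y hy => ?_
    rw [mem_centralizer_iff]
    intro s hs
    obtain ⟨u, w, huw, -, ⟨i, hu⟩, hw, huy, hwy⟩ := Cfsg.Agent.Block.exists_isPPart hp y
    have hwn : w ∈ normalizer ((S : Subgroup H) : Set H) := zpowers_le.2 hy hwy
    have hwC : (w : G) ∈ C := by
      refine key _ w.2 ?_ ?_
      · rw [mem_normalizer_iff]
        intro x
        constructor
        · rintro ⟨hx1, hx2⟩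
          have h3 := (mem_normalizer_iff.1 hwn ⟨x, hx2⟩).1 (hS ▸ hx1)
          rw [hS] at h3
          exact ⟨h3, H.mul_mem (H.mul_mem w.2 hx2) (H.inv_mem w.2)⟩
        · rintro ⟨hx1, hx2⟩
          have hxH : x ∈ H := by
            have := mul_mem (mul_mem (inv_mem w.2) hx2) w.2
            simpa [mul_assoc] using this
          have h3 := (mem_normalizer_iff.1 hwn ⟨x, hxH⟩).2 (hS ▸ hx1)
          rw [hS] at h3
          exact ⟨h3, hxH⟩
      · rw [Subgroup.orderOf_coe]; exact (hp.coprime_iff_not_dvd.2 hw).symm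
    have huS : u ∈ (S : Subgroup H) :=
      (((IsPGroup.of_card (n := i) ((Nat.card_zpowers u).trans hu)).inf_normalizer_sylow S).le
        ⟨mem_zpowers u, zpowers_le.2 hy huy⟩).2
    rw [← huw]
    have hs' : (s : G) ∈ (P : Subgroup G) := by rw [hS] at hs; exact hs
    have hu' : (u : G) ∈ (P : Subgroup G) := by rw [hS] at huS; exact huS
    apply Subtype.ext
    simp only [Subgroup.coe_mul]
    exact (Commute.mul_right (show Commute (s : G) (u : G) from
      congrArg Subtype.val (mul_comm' (⟨(s : G), hs'⟩ : (P : Subgroup G)) ⟨(u : G), hu'⟩))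
      (show Commute (s : G) (w : G) from mem_centralizer_iff.1 hwC _ ⟨hs', s.2⟩)).eq
  refine ⟨hH, ?_⟩
  set KH := (Cfsg.pPrimeCore p H).map H.subtype with hKH
  haveI : KH.Normal := inferInstance
  have hK2 : Cfsg.IsPSolvable p KH := Cfsg.Agent.Solv.isPSolvable_of_coprime (by
    rw [hKH, card_map_of_injective H.subtype_injective]; exact Cfsg.Agent.Solv.card_pPrimeCore_coprime p H)
  refine Cfsg.Agent.Solv.isPSolvable_of_extension KH hK2 ?_
  have hq := QuotientGroup.mk'_surjective KH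
  haveI : (H.map (QuotientGroup.mk' KH)).Normal := Normal.map inferInstance _ hq
  have hHP : H ≤ KH ⊔ P₀ := by
    intro x hx
    have h3 := (Cfsg.Agent.Solv.isComplement'_pPrimeCore hH S).sup_eq_top.ge (mem_top (⟨x, hx⟩ : H))
    obtain ⟨d, hd, s, hs, hds⟩ := mem_sup_of_normal_left.1 h3
    rw [hS] at hs
    rw [show x = (d : G) * (s : G) from (congrArg Subtype.val hds).symm]
    exact mul_mem (mem_sup_left ⟨d, hd, rfl⟩) (mem_sup_right ⟨hs, s.2⟩)
  refine isPSolvable_of_normal_pSubgroup (P.mapSurjective hq) ?_ (H.map (QuotientGroup.mk' KH)) ?_ ?_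
  · rw [Sylow.coe_mapSurjective]
    exact isCyclic_of_surjective ((QuotientGroup.mk' KH).subgroupMap (P : Subgroup G)) (MonoidHom.subgroupMap_surjective _ _)
  · rw [Sylow.coe_mapSurjective]
    refine (map_mono hHP).trans ?_
    rw [Subgroup.map_sup, QuotientGroup.map_mk'_self, bot_sup_eq]
    exact map_mono inf_le_left
  · intro e
    rw [Subgroup.map_eq_bot_iff, QuotientGroup.ker_mk'] at e
    have h3 := card_dvd_of_le e
    rw [hKH, card_map_of_injective H.subtype_injective] at h3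
    exact (hp.coprime_iff_not_dvd.1 (Cfsg.Agent.Solv.card_pPrimeCore_coprime p H).symm) (h1.trans h3)

end Cfsg.Agent.S4145
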