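import Cfsg.Statements.S4150
import Cfsg.Agent.Lib.Perm.TwinCycle
import Cfsg.Agent.Lib.Perm.ThreePrimes

set_option autoImplicit false
open Cfsg

namespace Cfsg.Agent.S4150

open Equiv Equiv.Perm MulAction Subgroup
open scoped Pointwise

section
variable {α : Type*} [Fintype α] [DecidableEq α]

/-- transitive and primitive: two overlapping orbits, the second of prime size `> n/2` -/
theorem preprimitive_of_two (G : Subgroup (Perm α)) {x y : Perm α} (hx : x ∈ G) (hy : y ∈ G)
    (hxo : (orderOf x).Prime) (hyc : y.IsCycle) {q : ℕ} (hq : q.Prime) (hyq : y.support.card = q)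
    (hn : Fintype.card α < 2 * q) (hmeet : ∀ v, v ∈ y.support ∨ ∃ i : ℤ, (x ^ i) v ∈ y.support) :
    IsPreprimitive G α := by
  obtain ⟨w, hw⟩ : ∃ w, w ∈ y.support := Finset.card_pos.mp (hyq ▸ hq.pos)
  have hbase : ∀ v, ∃ f ∈ G, f v = w := by
    intro v
    rcases hmeet v with h | ⟨i, h⟩
    · obtain ⟨j, hj⟩ := hyc.sameCycle (mem_support.mp h) (mem_support.mp hw)
      exact ⟨y ^ j, G.zpow_mem hy j, hj⟩
    · obtain ⟨j, hj⟩ := hyc.sameCycle (mem_support.mp h) (mem_support.mp hw)
      exact ⟨y ^ j * x ^ i, G.mul_mem (G.zpow_mem hy j) (G.zpow_mem hx i), hj⟩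
  haveI : IsPretransitive G α := ⟨fun u v => by
    obtain ⟨f, hf, hfu⟩ := hbase u
    obtain ⟨f', hf', hfv⟩ := hbase v
    refine ⟨⟨f'⁻¹ * f, G.mul_mem (G.inv_mem hf') hf⟩, ?_⟩
    show f'⁻¹ (f u) = v
    rw [hfu, ← hfv]; exact Equiv.symm_apply_apply _ _⟩
  let Γ : Set α := ((y.support : Set α))ᶜ
  have htr := isPretransitive_of_isCycle_mem hyc hy
  haveI : IsPreprimitive (fixingSubgroup G Γ) (SubMulAction.ofFixingSubgroup G Γ) := by
    apply IsPreprimitive.of_prime_card
    classical
    convert! hq
    rw [Nat.card_eq_fintype_card, Fintype.card_subtype, ← hyq]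
    congr 1
    ext v
    simp [SubMulAction.mem_ofFixingSubgroup_iff, Γ]
  let f : SubMulAction.ofFixingSubgroup G Γ →ₑ[(fixingSubgroup G Γ).subtype] α :=
    { toFun := Subtype.val, map_smul' := fun _ _ => rfl }
  refine IsPreprimitive.of_card_lt (f := f) ?_
  have : Set.range f = (y.support : Set α) := by
    show Set.range (Subtype.val : SubMulAction.ofFixingSubgroup G Γ → α) = _
    ext v
    simp [SubMulAction.mem_ofFixingSubgroup_iff, Γ]
  rw [this, Set.ncard_coe_finset, hyq, Nat.card_eq_fintype_card]
  exact hn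

/-- a group of order thirty has a normal subgroup of order five -/
theorem exists_normal_five {X : Type*} [Group X] [Finite X] (h : Nat.card X = 30) :
    ∃ S : Subgroup X, S.Normal ∧ Nat.card S = 5 := by
  classical
  haveI : Fact (Nat.Prime 5) := ⟨by norm_num⟩
  haveI : Fact (Nat.Prime 3) := ⟨Nat.prime_three⟩
  haveI : Fintype X := Fintype.ofFinite X
  have hf5 : (Nat.card X).factorization 5 = 1 := by
    rw [h, show (30 : ℕ) = 5 * 6 by norm_num, Nat.factorization_mul (by norm_num) (by norm_num), Finsupp.add_apply,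
      (show Nat.Prime 5 by norm_num).factorization_self, Nat.factorization_eq_zero_of_not_dvd (by norm_num : ¬ 5 ∣ 6)]
  have hf3 : (Nat.card X).factorization 3 = 1 := by
    rw [h, show (30 : ℕ) = 3 * 10 by norm_num, Nat.factorization_mul (by norm_num) (by norm_num), Finsupp.add_apply,
      (show Nat.Prime 3 by norm_num).factorization_self, Nat.factorization_eq_zero_of_not_dvd (by norm_num : ¬ 3 ∣ 10)]
  obtain ⟨S⟩ : Nonempty (Sylow 5 X) := inferInstance
  obtain ⟨T⟩ : Nonempty (Sylow 3 X) := inferInstance
  have hS : Nat.card (S : Subgroup X) = 5 := by rw [S.card_eq_multiplicity, hf5, pow_one]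
  have hT : Nat.card (T : Subgroup X) = 3 := by rw [T.card_eq_multiplicity, hf3, pow_one]
  by_cases hn : Nat.card (Sylow 5 X) = 1
  · haveI : Subsingleton (Sylow 5 X) := (Nat.card_eq_one_iff_unique.mp hn).1
    exact ⟨S, Sylow.normal_of_subsingleton S, hS⟩
  exfalso
  have hidx : (S : Subgroup X).index = 6 := by
    have := (S : Subgroup X).card_mul_index
    rw [hS, h] at this; omega
  have h6 : Nat.card (Sylow 5 X) = 6 := by
    have h1 := card_sylow_modEq_one 5 X
    have h2 : Nat.card (Sylow 5 X) ∣ 6 := hidx ▸ S.card_dvd_index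
    have h3 := Nat.le_of_dvd (by norm_num) h2
    unfold Nat.ModEq at h1
    omega
  -- the Sylow normaliser is the Sylow subgroup
  have hNS : normalizer ((S : Subgroup X) : Set X) = (S : Subgroup X) := by
    refine (eq_of_le_of_card_ge le_normalizer ?_).symm
    have h4 := (normalizer ((S : Subgroup X) : Set X)).card_mul_index
    rw [show (normalizer ((S : Subgroup X) : Set X)).index = 6 from (S.card_eq_index_normalizer).symm.trans h6, h] at h4
    omega
  haveI : IsCyclic (S : Subgroup X) := isCyclic_of_prime_card hS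
  have hburn : normalizer ((S : Subgroup X) : Set X) ≤ centralizer ((S : Subgroup X) : Set X) := by
    rw [hNS]
    intro a ha
    refine mem_centralizer_iff.mpr fun b hb => ?_
    exact congrArg Subtype.val ((IsCyclic.commGroup (α := (S : Subgroup X))).mul_comm ⟨b, hb⟩ ⟨a, ha⟩)
  set K := (MonoidHom.transferSylow S hburn).ker
  haveI : K.Normal := MonoidHom.normal_ker _
  have hcompl := MonoidHom.ker_transferSylow_isComplement' S hburn
  have hK : Nat.card K = 6 := by
    have h5 : Nat.card K * Nat.card (S : Subgroup X) = Nat.card X := hcompl.card_mul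
    rw [hS, h] at h5; omega
  -- a characteristic subgroup of order three in `K`
  obtain ⟨R⟩ : Nonempty (Sylow 3 K) := inferInstance
  have hR : Nat.card (R : Subgroup K) = 3 := by
    rw [R.card_eq_multiplicity, hK, show (6 : ℕ) = 3 * 2 by norm_num, Nat.factorization_mul (by norm_num) (by norm_num),
      Finsupp.add_apply, (show Nat.Prime 3 by norm_num).factorization_self,
      Nat.factorization_eq_zero_of_not_dvd (by norm_num : ¬ 3 ∣ 2)]
    rfl
  haveI : (R : Subgroup K).Normal := normal_of_index_eq_two (by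
    have := (R : Subgroup K).card_mul_index
    rw [hR, hK] at this; omega)
  haveI := R.characteristic_of_normal inferInstance
  set R' := (R : Subgroup K).map K.subtype
  haveI : R'.Normal := inferInstance
  have hR' : Nat.card R' = 3 := by rw [card_map_of_injective K.subtype_injective, hR]
  obtain ⟨s, hs⟩ := exists_prime_orderOf_dvd_card' (G := (S : Subgroup X)) 5 (by rw [hS])
  let φ : MulAut R' := MulAut.conjNormal (s : X)
  have hφ5 : φ ^ 5 = 1 := by
    show (MulAut.conjNormal (s : X) : MulAut R') ^ 5 = 1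
    rw [← map_pow, ← Subgroup.coe_pow, orderOf_dvd_iff_pow_eq_one.mp (dvd_of_eq hs), Subgroup.coe_one, map_one]
  obtain ⟨t, ht⟩ := exists_prime_orderOf_dvd_card' (G := R') 3 (by rw [hR'])
  -- `φ` fixes the generator `t`, as it permutes the two generators with order dividing five
  haveI : Fintype R' := Fintype.ofFinite R'
  have hfixt : φ t = t := by
    by_contra hne
    have ht1 : t ≠ 1 := fun h => by simp [h] at ht
    have hφt1 : φ t ≠ 1 := fun h => ht1 (φ.injective (h.trans (map_one φ).symm))
    have hall : ∀ r : R', r = 1 ∨ r = t ∨ r = φ t := by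
      intro r
      by_contra hc
      push Not at hc
      have : ({1, t, φ t, r} : Finset R').card ≤ 3 := by
        refine (Finset.card_le_univ _).trans ?_
        rw [← Nat.card_eq_fintype_card, hR']
      rw [Finset.card_insert_of_notMem (by simp [Ne.symm ht1, Ne.symm hφt1, Ne.symm hc.1]),
        Finset.card_insert_of_notMem (by simp [Ne.symm hne, Ne.symm hc.2.1]),
        Finset.card_insert_of_notMem (by simp [Ne.symm hc.2.2]), Finset.card_singleton] at this
      omega
    have h2 : φ (φ t) = t := by
      rcases hall (φ (φ t)) with h | h | h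
      · exact absurd (φ.injective (h.trans (map_one φ).symm)) hφt1
      · exact h
      · exact absurd (φ.injective h) hne
    have h5 : φ (φ (φ (φ (φ t)))) = t := DFunLike.congr_fun hφ5 t
    rw [h2, h2] at h5
    exact hne h5
  have hc : Commute (s : X) (t : X) := mul_inv_eq_iff_eq_mul.mp (congrArg Subtype.val hfixt)
  have hgen : (S : Subgroup X) = zpowers (s : X) := (eq_of_le_of_card_ge (zpowers_le.mpr s.2) (by
    rw [hS, Nat.card_zpowers, Subgroup.orderOf_coe, hs])).symm
  have htS : (t : X) ∈ (S : Subgroup X) := by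
    rw [← hNS]
    refine centralizer_le_normalizer _ (mem_centralizer_iff.mpr fun b hb => ?_)
    rw [hgen] at hb
    obtain ⟨i, rfl⟩ := hb
    exact (hc.zpow_left i).eq
  have := Subgroup.orderOf_dvd_natCard _ htS
  rw [Subgroup.orderOf_coe, ht, hS] at this
  norm_num at this

theorem small_degree (G : Subgroup (Perm α)) (hG : G ≤ alternatingGroup α) (hprim : IsPreprimitive G α)
    (h6 : Fintype.card α = 6) (hd : 30 ∣ Nat.card G) :
    ∃ d : ℕ, 5 ≤ d ∧ Nonempty (G ≃* alternatingGroup (Fin d)) := by
  haveI : Nontrivial α := Fintype.one_lt_card_iff_nontrivial.mp (by omega)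
  haveI : IsSimpleGroup (alternatingGroup α) :=
    alternatingGroup.isSimpleGroup (by rw [Nat.card_eq_fintype_card, h6]; norm_num)
  set G' := G.subgroupOf (alternatingGroup α)
  have hA : Nat.card (alternatingGroup α) = 360 := by
    rw [nat_card_alternatingGroup, Nat.card_eq_fintype_card, h6]; rfl
  have hG' : Nat.card G' = Nat.card G := Nat.card_congr (subgroupOfEquivOfLe hG).toEquiv
  have hidx := G'.card_mul_index
  rw [hA, hG'] at hidx
  obtain ⟨k, hk⟩ := hd
  by_cases htop : G' = ⊤
  · refine ⟨6, by norm_num, ⟨?_⟩⟩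
    have he : G = alternatingGroup α := le_antisymm hG (subgroupOf_eq_top.mp htop)
    exact (MulEquiv.subgroupCongr he).trans ((Fintype.equivFinOfCardEq h6).altCongrHom)
  have hkey := Classical.SmallAlt.dvd_factorial_index G' htop
  rw [hA] at hkey
  have hk12 : k * G'.index = 12 := by
    have : 30 * (k * G'.index) = 30 * 12 := by rw [← mul_assoc, ← hk]; omega
    omega
  have hbig : 6 ≤ G'.index := by
    by_contra hlt
    have h5 := (Nat.factorial_dvd_factorial (show G'.index ≤ 5 by omega))
    have := Nat.le_of_dvd (by norm_num [Nat.factorial]) (hkey.trans h5)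
    norm_num [Nat.factorial] at this
  have hk2 : k = 1 ∨ k = 2 := by
    have : k ≤ 2 := by nlinarith
    interval_cases k <;> omega
  rcases hk2 with rfl | rfl
  · -- order thirty: impossible
    exfalso
    rw [mul_one] at hk
    obtain ⟨S, hSn, hS⟩ := exists_normal_five hk
    haveI : Fact (Nat.Prime 5) := ⟨by norm_num⟩
    obtain ⟨s, hs⟩ := exists_prime_orderOf_dvd_card' (G := S) 5 (by rw [hS])
    have hso : orderOf ((s : G) : Perm α) = 5 := by rw [Subgroup.orderOf_coe, Subgroup.orderOf_coe, hs]
    obtain ⟨v, hv⟩ : ∃ v, ((s : G) : Perm α) v = v := by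
      by_contra hno
      push Not at hno
      have hsu : ((s : G) : Perm α).support = Finset.univ := Finset.eq_univ_of_forall fun v => mem_support.mpr (hno v)
      obtain ⟨n, hn⟩ := cycleType_prime_order (hso ▸ (by norm_num) : (orderOf ((s : G) : Perm α)).Prime)
      have := sum_cycleType ((s : G) : Perm α)
      rw [hn, hsu, Finset.card_univ, h6, hso, Multiset.sum_replicate, smul_eq_mul] at this
      omega
    have hgen : S = zpowers (s : G) := (eq_of_le_of_card_ge (zpowers_le.mpr s.2) (by
      rw [hS, Nat.card_zpowers, Subgroup.orderOf_coe, hs])).symm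
    have hall : ((s : G) : Perm α) = 1 := Equiv.ext fun u => by
      haveI := hprim.toIsPretransitive
      obtain ⟨f, rfl⟩ := MulAction.exists_smul_eq G v u
      have hmem : f⁻¹ * (s : G) * f ∈ S := by simpa using hSn.conj_mem _ s.2 f⁻¹
      obtain ⟨i, hi⟩ := hgen.le hmem
      have he : (((s : G) : Perm α) ^ i) = (f : Perm α)⁻¹ * ((s : G) : Perm α) * (f : Perm α) :=
        congrArg (fun z : G => (z : Perm α)) hi
      have e2 := DFunLike.congr_fun he v
      rw [Equiv.Perm.zpow_apply_eq_self_of_apply_eq_self hv] at e2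
      show ((s : G) : Perm α) ((f : Perm α) v) = (f : Perm α) v
      have e3 := congrArg (f : Perm α) e2
      rw [Equiv.Perm.mul_apply, Equiv.Perm.mul_apply,
        show ∀ t, (f : Perm α) ((f : Perm α)⁻¹ t) = t from Equiv.apply_symm_apply _] at e3
      exact e3.symm
    rw [hall, orderOf_one] at hso
    norm_num at hso
  · -- order sixty
    refine ⟨5, le_rfl, ?_⟩
    have hi6 : G'.index = 6 := by omega
    have hGc : Nat.card G' = 60 := by rw [hG', hk]
    have hfaith : Function.Injective (MulAction.toPermHom (alternatingGroup α) (alternatingGroup α ⧸ G')) := by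
      rw [← MonoidHom.ker_eq_bot_iff, ← Subgroup.normalCore_eq_ker]
      rcases G'.normalCore_normal.eq_bot_or_eq_top with h | h
      · exact h
      · exact absurd (top_le_iff.1 (h ▸ G'.normalCore_le)) htop
    let X := {c : alternatingGroup α ⧸ G' // c ≠ ((1 : alternatingGroup α) : alternatingGroup α ⧸ G')}
    have hmem : ∀ (w : G'), ((w : alternatingGroup α) : alternatingGroup α ⧸ G') = ((1 : alternatingGroup α) : alternatingGroup α ⧸ G') :=
      fun w => QuotientGroup.eq.mpr (by simpa using w.2)
    let ψ : G' →* Perm X :=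
      { toFun := fun w => (MulAction.toPerm (w : alternatingGroup α)).subtypePerm fun c => by
          have h1 : (w : alternatingGroup α) • ((1 : alternatingGroup α) : alternatingGroup α ⧸ G') =
              ((1 : alternatingGroup α) : alternatingGroup α ⧸ G') := by
            rw [show (w : alternatingGroup α) • ((1 : alternatingGroup α) : alternatingGroup α ⧸ G') =
              (((w : alternatingGroup α) * 1 : alternatingGroup α) : alternatingGroup α ⧸ G') from rfl, mul_one]
            exact hmem w
          rw [MulAction.toPerm_apply]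
          exact not_congr ⟨fun h => MulAction.injective (w : alternatingGroup α) (h.trans h1.symm), fun h => by rw [h]; exact h1⟩
        map_one' := Equiv.ext fun c => Subtype.ext (one_smul _ _)
        map_mul' := fun a b => Equiv.ext fun c => Subtype.ext (mul_smul (a : alternatingGroup α) b _) }
    have hψ : Function.Injective ψ := fun a b hab => Subtype.ext (hfaith (Equiv.ext fun c => by
      by_cases hc : c = ((1 : alternatingGroup α) : alternatingGroup α ⧸ G')
      · subst hc
        rw [MulAction.toPermHom_apply, MulAction.toPermHom_apply, MulAction.toPerm_apply, MulAction.toPerm_apply]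
        show (((a : alternatingGroup α) * 1 : alternatingGroup α) : alternatingGroup α ⧸ G') = _
        rw [mul_one, hmem a]
        show _ = (((b : alternatingGroup α) * 1 : alternatingGroup α) : alternatingGroup α ⧸ G')
        rw [mul_one, hmem b]
      · exact congrArg Subtype.val (DFunLike.congr_fun hab ⟨c, hc⟩)))
    classical
    haveI : Fintype X := Fintype.ofFinite X
    have hX : Fintype.card X = 5 := by
      rw [Fintype.card_subtype_compl, Fintype.card_subtype_eq, ← Nat.card_eq_fintype_card, ← Subgroup.index_eq_card, hi6]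
    let e5 := Fintype.equivFinOfCardEq hX
    obtain ⟨e⟩ := Classical.SmallAlt.equiv_alternating (e5.permCongrHom.toMonoidHom.comp ψ)
      (e5.permCongrHom.injective.comp hψ) (by rw [hGc]; rfl)
    exact ⟨(subgroupOfEquivOfLe hG).symm.trans e⟩

/-- two prime cycles covering everything -/
theorem core {p q : ℕ} (hp : p.Prime) (hq : q.Prime) (hpq : p < q) (G : Subgroup (Perm α))
    (hev : G ≤ alternatingGroup α) {x y : Perm α} (hx : x ∈ G) (hy : y ∈ G) (hxo : orderOf x = p)
    (hyo : orderOf y = q) (hcover : ∀ v, v ∈ x.support ∨ v ∈ y.support)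
    (hnp : Fintype.card α ≤ 2 * p)
    (hstrict : Fintype.card α < 2 * p ∨ (p = 3 ∧ q = 5) ∨ (p = 5 ∧ q = 7)) (hgap : p + 3 ≤ q ∨ (p = 3 ∧ q = 5) ∨ (p = 5 ∧ q = 7) ∨ (p = 11 ∧ q = 13)) :
    ∃ d : ℕ, 5 ≤ d ∧ Nonempty (G ≃* alternatingGroup (Fin d)) := by
  haveI := Fact.mk hp
  have hyc : y.IsCycle := isCycle_of_prime_order' (hyo ▸ hq) (by omega)
  have hys : y.support.card = q := hyc.orderOf.symm.trans hyo
  have hqn : q ≤ Fintype.card α := hys ▸ y.support.card_le_univ
  have hmeet : ∀ v, v ∈ y.support ∨ ∃ i : ℤ, (x ^ i) v ∈ y.support := by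
    intro v
    by_cases hv : v ∈ y.support
    · exact Or.inl hv
    refine Or.inr ?_
    by_contra hno
    push Not at hno
    have hvx : x v ≠ v := mem_support.mp ((hcover v).resolve_right hv)
    let O : Fin p → α := fun i => (x ^ (i : ℕ)) v
    have hinj : Function.Injective O := by
      intro i j e
      by_contra hne
      wlog hlt : (i : ℕ) < j generalizing i j
      · exact this e.symm (Ne.symm hne) (lt_of_le_of_ne (not_lt.mp hlt) fun h => hne (Fin.ext h.symm))
      have e1 : (x ^ ((j : ℕ) - i)) v = v := by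
        apply (x ^ (i : ℕ)).injective
        rw [← Equiv.Perm.mul_apply, ← pow_add, Nat.add_sub_cancel' hlt.le]
        exact e.symm
      have hco : ((j : ℕ) - i).Coprime (orderOf x) := by
        rw [hxo]
        exact (hp.coprime_iff_not_dvd.mpr fun hd => by have := Nat.le_of_dvd (by omega) hd; omega).symm
      obtain ⟨m, hm⟩ := exists_pow_eq_self_of_coprime hco
      exact hvx (by
        conv_lhs => rw [← hm]
        exact Function.IsFixedPt.perm_pow e1 m)
    have hsub : Finset.univ.image O ⊆ Finset.univ \ y.support := fun u hu => by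
      obtain ⟨i, -, rfl⟩ := Finset.mem_image.mp hu
      simpa [O] using hno (i : ℕ)
    have h9 := Finset.card_le_card hsub
    rw [Finset.card_image_of_injective _ hinj, Finset.card_sdiff_of_subset (Finset.subset_univ _), Finset.card_univ,
      Finset.card_univ, Fintype.card_fin, hys] at h9
    omega
  have hprim := preprimitive_of_two G hx hy (hxo ▸ hp) hyc hq hys (by omega) hmeet
  by_cases hsix : Fintype.card α = 6 ∧ p = 3
  · obtain ⟨h6, rfl⟩ := hsix
    refine small_degree G hev hprim h6 ?_
    have h3 : 3 ∣ Nat.card G := hxo ▸ Subgroup.orderOf_dvd_natCard G hx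
    have h5 : 5 ∣ Nat.card G := by
      have : q = 5 := by omega
      exact this ▸ hyo ▸ Subgroup.orderOf_dvd_natCard G hy
    haveI := hprim.toIsPretransitive
    obtain ⟨w⟩ : Nonempty α := Fintype.card_pos_iff.mp (by omega)
    have h2 : 6 ∣ Nat.card G := by
      rw [← h6, ← Nat.card_eq_fintype_card, ← Nat.card_congr (Equiv.Set.univ α), ← MulAction.orbit_eq_univ G w,
        Nat.card_congr (MulAction.orbitEquivQuotientStabilizer G w)]
      exact Subgroup.card_quotient_dvd_card _
    exact Nat.Coprime.mul_dvd_of_dvd_of_dvd (by norm_num : Nat.Coprime 6 5) h2 h5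
  by_cases hten : q + 3 ≤ Fintype.card α ∧ p = 5
  · refine ⟨Fintype.card α, by omega, ⟨?_⟩⟩
    have hAlt : alternatingGroup α ≤ G := S0713.result G hprim hq (by omega) hten.1 hyc hys hy
    exact (MulEquiv.subgroupCongr (le_antisymm hev hAlt)).trans ((Fintype.equivFin α).altCongrHom)
  have hxc : x.IsCycle := by
    refine isCycle_of_prime_order' (hxo ▸ hp) ?_
    rw [hxo]
    rcases hstrict with h | ⟨rfl, rfl⟩ | ⟨rfl, rfl⟩
    · exact h
    · omega
    · omega
  have hxs : x.support.card = p := hxc.orderOf.symm.trans hxo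
  have hAlt : alternatingGroup α ≤ G := by
    by_cases h3 : p + 3 ≤ Fintype.card α
    · exact S0713.result G hprim hp (by omega) h3 hxc hxs hx
    rcases hgap with h | ⟨rfl, rfl⟩ | ⟨rfl, rfl⟩ | ⟨rfl, rfl⟩
    · omega
    · exact alternatingGroup_le_of_isPreprimitive_of_isThreeCycle_mem hprim (card_support_eq_three_iff.mp hxs) hx
    · exact Perm.alternating_le_of_twin (Or.inl rfl) G hprim hev (by omega) hxc hxs hx
    · exact Perm.alternating_le_of_twin (Or.inr rfl) G hprim hev (by omega) hxc hxs hx
  refine ⟨Fintype.card α, by have := hp.two_le; omega, ⟨?_⟩⟩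
  exact (MulEquiv.subgroupCongr (le_antisymm hev hAlt)).trans ((Fintype.equivFin α).altCongrHom)

end

theorem pick (m : ℕ) (hm : 5 ≤ m) : ∃ p q : ℕ, p.Prime ∧ q.Prime ∧ m ≤ 2 * p ∧ p < q ∧ q ≤ m ∧
    (m < 2 * p ∨ (p = 3 ∧ q = 5) ∨ (p = 5 ∧ q = 7)) ∧
    (p + 3 ≤ q ∨ (p = 3 ∧ q = 5) ∨ (p = 5 ∧ q = 7) ∨ (p = 11 ∧ q = 13)) := by
  rcases le_or_gt 18 m with h | h
  · obtain ⟨a, b, c, ha, hb, hc, h1, h2, h3, h4⟩ := Perm.exists_three_primes (n := m / 2) (by omega)
    refine ⟨a, c, ha, hc, by omega, by omega, by omega, Or.inl (by omega), Or.inl ?_⟩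
    have oa := ha.eq_two_or_odd
    have ob := hb.eq_two_or_odd
    have oc := hc.eq_two_or_odd
    omega
  · interval_cases m
    · exact ⟨3, 5, by norm_num⟩
    · exact ⟨3, 5, by norm_num⟩
    · exact ⟨5, 7, by norm_num⟩
    · exact ⟨5, 7, by norm_num⟩
    · exact ⟨5, 7, by norm_num⟩
    · exact ⟨5, 7, by norm_num⟩
    · exact ⟨7, 11, by norm_num⟩
    · exact ⟨7, 11, by norm_num⟩
    · exact ⟨7, 11, by norm_num⟩
    · exact ⟨11, 13, by norm_num⟩
    · exact ⟨11, 13, by norm_num⟩
    · exact ⟨11, 13, by norm_num⟩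
    · exact ⟨11, 17, by norm_num⟩

/-- Let m ≥ 5. Then there are primes p < q with m/2 ≤ p and q ≤ m such that any two elements x, y of the alternating group of degree m with x of order p and y of order q generate a subgroup isomorphic to an alternating group of some degree d ≥ 5. -/
theorem result (m : ℕ) (hm : 5 ≤ m) :
    ∃ p q : ℕ, p.Prime ∧ q.Prime ∧ m ≤ 2 * p ∧ p < q ∧ q ≤ m ∧
      ∀ x y : alternatingGroup (Fin m), orderOf x = p → orderOf y = q →
        ∃ d : ℕ, 5 ≤ d ∧ Nonempty (Subgroup.closure ({x, y} : Set (alternatingGroup (Fin m))) ≃* alternatingGroup (Fin d)) := by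
  obtain ⟨p, q, hp, hq, hmp, hpq, hqm, hstrict, hgap⟩ := pick m hm
  refine ⟨p, q, hp, hq, hmp, hpq, hqm, fun x y hx hy => ?_⟩
  classical
  let U := {v : Fin m // v ∈ (x : Equiv.Perm (Fin m)).support ∪ (y : Equiv.Perm (Fin m)).support}
  have pres : ∀ (z : Equiv.Perm (Fin m)), z = (x : Equiv.Perm (Fin m)) ∨ z = (y : Equiv.Perm (Fin m)) →
      (∀ v, z v ∈ (x : Equiv.Perm (Fin m)).support ∪ (y : Equiv.Perm (Fin m)).support ↔ v ∈ (x : Equiv.Perm (Fin m)).support ∪ (y : Equiv.Perm (Fin m)).support) ∧
      (∀ v, z v ≠ v → v ∈ (x : Equiv.Perm (Fin m)).support ∪ (y : Equiv.Perm (Fin m)).support) := by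
    intro z hz
    have h2 : ∀ v, z v ≠ v → v ∈ (x : Equiv.Perm (Fin m)).support ∪ (y : Equiv.Perm (Fin m)).support := by
      intro v hv
      rcases hz with rfl | rfl
      · exact Finset.mem_union_left _ (mem_support.mpr hv)
      · exact Finset.mem_union_right _ (mem_support.mpr hv)
    refine ⟨fun v => ?_, h2⟩
    by_cases hv : z v = v
    · rw [hv]
    · exact ⟨fun _ => h2 v hv, fun _ => h2 (z v) fun e => hv (z.injective e)⟩
  let x' : Equiv.Perm U := (x : Equiv.Perm (Fin m)).subtypePerm (pres _ (Or.inl rfl)).1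
  let y' : Equiv.Perm U := (y : Equiv.Perm (Fin m)).subtypePerm (pres _ (Or.inr rfl)).1
  have hx' : Equiv.Perm.ofSubtype x' = (x : Equiv.Perm (Fin m)) := Equiv.Perm.ofSubtype_subtypePerm (pres _ (Or.inl rfl)).1 (pres _ (Or.inl rfl)).2
  have hy' : Equiv.Perm.ofSubtype y' = (y : Equiv.Perm (Fin m)) := Equiv.Perm.ofSubtype_subtypePerm (pres _ (Or.inr rfl)).1 (pres _ (Or.inr rfl)).2
  have hxo : orderOf x' = p := by
    rw [← orderOf_injective _ Equiv.Perm.ofSubtype_injective x', hx', Subgroup.orderOf_coe, hx]
  have hyo : orderOf y' = q := by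
    rw [← orderOf_injective _ Equiv.Perm.ofSubtype_injective y', hy', Subgroup.orderOf_coe, hy]
  have hev : Subgroup.closure {x', y'} ≤ alternatingGroup U := by
    rw [Subgroup.closure_le]
    rintro z (rfl | rfl) <;> refine mem_alternatingGroup.mpr ?_
    · rw [← Equiv.Perm.sign_ofSubtype, hx']; exact mem_alternatingGroup.mp x.2
    · rw [← Equiv.Perm.sign_ofSubtype, hy']; exact mem_alternatingGroup.mp y.2
  have hcover : ∀ v : U, v ∈ x'.support ∨ v ∈ y'.support := fun v => by
    rcases Finset.mem_union.mp v.2 with h | h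
    · exact Or.inl (mem_support.mpr fun e => mem_support.mp h (congrArg Subtype.val e))
    · exact Or.inr (mem_support.mpr fun e => mem_support.mp h (congrArg Subtype.val e))
  have hcardU : Fintype.card U ≤ 2 * p := (Fintype.card_subtype_le _).trans (by rw [Fintype.card_fin]; exact hmp)
  obtain ⟨d, hd, ⟨e⟩⟩ := core hp hq hpq (Subgroup.closure {x', y'}) hev
    (Subgroup.subset_closure (by simp)) (Subgroup.subset_closure (by simp)) hxo hyo hcover hcardU (hstrict.imp_left fun h => lt_of_le_of_lt ((Fintype.card_subtype_le _).trans (le_of_eq (Fintype.card_fin m))) h) hgap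
  refine ⟨d, hd, ⟨?_⟩⟩
  have e1 : (Subgroup.closure ({x, y} : Set (alternatingGroup (Fin m)))).map (alternatingGroup (Fin m)).subtype =
      (Subgroup.closure {x', y'}).map Equiv.Perm.ofSubtype := by
    rw [MonoidHom.map_closure, MonoidHom.map_closure, Set.image_pair, Set.image_pair, hx', hy']
    rfl
  exact ((Subgroup.equivMapOfInjective _ _ (alternatingGroup (Fin m)).subtype_injective).trans
    ((MulEquiv.subgroupCongr e1).trans (Subgroup.equivMapOfInjective _ _ Equiv.Perm.ofSubtype_injective).symm)).trans e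

end Cfsg.Agent.S4150
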