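import Cfsg.Statements.S4151
import Cfsg.Agent.Lib.Perm.Kazarin
import Cfsg.Agent.Lib.Solv.NormalPComplement
import Cfsg.Agent.Lib.Solv.Coprime
import Cfsg.Agent.Lib.Solv.AbelianAction
import Cfsg.Agent.Lib.Struct.UniqueOrderP
import Cfsg.Agent.Lib.Local.CoprimeGeneration
import Mathlib.GroupTheory.SpecificGroups.ZGroup

set_option autoImplicit false
open Cfsg

namespace Cfsg.Agent.S4151

open Subgroup Cfsg Cfsg.Agent in
/-- a subgroup with a normal `p`-complement: `[X, Q]` avoids `p` when `Q` fixes the Sylow subgroup -/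
theorem comm_prime {G : Type*} [Group G] [Finite G] {p : ℕ} [Fact p.Prime] (X Q PG : Subgroup G)
    (hQX : Q ≤ normalizer (X : Set G)) (S : Sylow p X) (hS : (S : Subgroup X).map X.subtype = PG)
    (hc : HasNormalPComplement p X) (hPQ : PG ≤ centralizer (Q : Set G)) :
    ¬ p ∣ Nat.card ↥⁅X, Q⁆ := by
  haveI := Solv.pPrimeCore_characteristic p X
  set K := (pPrimeCore p X).map X.subtype
  have hKn : normalizer (X : Set G) ≤ normalizer (K : Set G) := fun g hg => by
    rw [mem_normalizer_iff]
    have key : ∀ g ∈ normalizer (X : Set G), ∀ y ∈ K, g * y * g⁻¹ ∈ K := by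
      intro g hg y hy
      let φ : MulAut X :=
        { toFun := fun u => ⟨g * u * g⁻¹, (mem_normalizer_iff.mp hg _).mp u.2⟩
          invFun := fun u => ⟨g⁻¹ * u * g, by simpa using (mem_normalizer_iff.mp (inv_mem hg) _).mp u.2⟩
          left_inv := fun u => Subtype.ext (by simp [mul_assoc])
          right_inv := fun u => Subtype.ext (by simp [mul_assoc])
          map_mul' := fun u v => Subtype.ext (by simp [mul_assoc]) }
      obtain ⟨u, hu, rfl⟩ := hy
      refine ⟨φ u, ?_, rfl⟩
      have h1 := Subgroup.characteristic_iff_map_le.mp (inferInstance : (pPrimeCore p X).Characteristic) φ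
      exact h1 (mem_map_of_mem φ.toMonoidHom hu)
    exact fun y => ⟨key g hg y, fun h => by simpa [mul_assoc] using key g⁻¹ (inv_mem hg) _ h⟩
  have hle : ⁅X, Q⁆ ≤ K := by
    rw [commutator_le]
    intro x hx q hq
    obtain ⟨m, hm, u, hu, hmu⟩ : ∃ m ∈ K, ∃ u ∈ PG, m * u = x := by
      obtain ⟨⟨m, u⟩, hmu⟩ := (Solv.isComplement'_pPrimeCore hc S).2 ⟨x, hx⟩
      exact ⟨(m : X), mem_map_of_mem X.subtype m.2, (u : X), hS ▸ mem_map_of_mem X.subtype u.2,
        congrArg Subtype.val hmu⟩
    have h1 : u * q = q * u := ((mem_centralizer_iff.mp (hPQ hu)) q hq).symm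
    have h2 : x * q * x⁻¹ * q⁻¹ = m * (q * m⁻¹ * q⁻¹) := by
      rw [← hmu, show m * u * q = m * q * u by rw [mul_assoc, h1, mul_assoc]]
      group
    rw [commutatorElement_def, h2]
    exact K.mul_mem hm ((mem_normalizer_iff.mp (hKn (hQX hq)) _).mp (K.inv_mem hm))
  intro hd
  have h3 : p ∣ Nat.card K := hd.trans (card_dvd_of_le hle)
  rw [Solv.card_map_subtype] at h3
  exact Nat.Prime.not_coprime_iff_dvd.mpr ⟨p, Fact.out, h3, dvd_rfl⟩ (Solv.card_pPrimeCore_coprime p X)

open Subgroup Cfsg Cfsg.Agent in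
open scoped Pointwise in
theorem main {G : Type*} [Group G] [Finite G] (H : Subgroup G)
    (hTI : Cfsg.IsTISubset (H : Set G)) (hnn : ¬ H.Normal)
    (hHall : (Nat.card H).Coprime (H.subgroupOf (normalizer (H : Set G))).index)
    (hsep : ∃ (n : ℕ) (M : Fin (n + 1) → Subgroup G), M 0 = ⊥ ∧ M (Fin.last n) = ⊤ ∧ Monotone M ∧ (∀ i, (M i).Normal) ∧
      ∀ i : Fin n, (∀ q : ℕ, q.Prime → q ∣ (M i.castSucc).relIndex (M i.succ) → q ∣ Nat.card H) ∨
        ((M i.castSucc).relIndex (M i.succ)).Coprime (Nat.card H))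
    (h2 : ∀ P : Sylow 2 H, IsMulCommutative (P : Subgroup H))
    (Q : Subgroup G) (hQ : Q ≤ normalizer (H : Set G)) (hQH : Q ⊓ H = ⊥) (hQH' : Q ⊔ H = normalizer (H : Set G)) :
    (Nat.card ↥(H ⊓ centralizer (Q : Set G))).Coprime (H ⊓ centralizer (Q : Set G)).index ∧
    ∃ N : Subgroup G, N.Normal ∧ N.IsComplement' (H ⊓ centralizer (Q : Set G)) := by
  classical
  set NH := normalizer (H : Set G)
  have hH1 : H ≠ ⊥ := fun e => hnn (by rw [e]; infer_instance)
  have hNne : NH ≠ ⊤ := fun e => hnn (normalizer_eq_top_iff.mp e)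
  have hTI' : ∀ g h : G, h ∈ H → h ≠ 1 → g * h * g⁻¹ ∈ H → g ∈ NH := fun g h hh h1 hc => by
    by_contra hg
    exact h1 (hTI g hg h hh hc)
  have hrel : (Nat.card H).Coprime (H.relIndex NH) := hHall
  -- `H` is a Hall subgroup
  have hHallG : (Nat.card H).Coprime H.index := by
    refine Nat.coprime_of_dvd fun p hp hpH hpi => ?_
    haveI := Fact.mk hp
    obtain ⟨S⟩ : Nonempty (Sylow p H) := inferInstance
    set PG := (S : Subgroup H).map H.subtype
    have hPH : PG ≤ H := map_subtype_le _
    have hPp : IsPGroup p PG := S.isPGroup'.map _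
    obtain ⟨c, hcpos, hc⟩ : ∃ c ∈ PG, c ≠ 1 := by
      refine (PG.ne_bot_iff_exists_ne_one.mp fun e => ?_).elim fun c hc => ⟨c, c.2, fun e => hc (Subtype.ext e)⟩
      have h1 := S.dvd_card_of_dvd_card hpH
      rw [← Solv.card_map_subtype, show (S : Subgroup H).map H.subtype = ⊥ from e, Subgroup.card_bot] at h1
      exact hp.ne_one (Nat.dvd_one.mp h1)
    have hNP : normalizer (PG : Set G) ≤ NH := fun g hg =>
      hTI' g c (hPH hcpos) hc (hPH ((mem_normalizer_iff.mp hg c).mp hcpos))
    obtain ⟨P, hP⟩ := hPp.exists_le_sylow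
    have hPle : (P : Subgroup G) ≤ PG := by
      by_contra hne
      haveI : Group.IsNilpotent (P : Subgroup G) := P.isPGroup'.isNilpotent
      have hlt : PG.subgroupOf (P : Subgroup G) < ⊤ := lt_top_iff_ne_top.mpr fun e => hne (subgroupOf_eq_top.mp e)
      obtain ⟨u, hu, hun⟩ := SetLike.exists_of_lt ((normalizerCondition_of_isNilpotent (G := (P : Subgroup G))) _ hlt)
      have huN : (u : G) ∈ normalizer (PG : Set G) := by
        rw [mem_normalizer_iff]
        intro y
        constructor
        · intro hy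
          exact ((mem_normalizer_iff.mp hu ⟨y, hP hy⟩).mp hy : _)
        · intro hy
          have := (mem_normalizer_iff.mp (inv_mem hu) ⟨(u : G) * y * (u : G)⁻¹, hP hy⟩).mp hy
          rw [mem_subgroupOf] at this
          simpa [mul_assoc] using this
      -- a bigger `p`-subgroup of `N(H)`
      have hPN : ¬ p ∣ PG.relIndex NH := by
        rw [← Subgroup.relIndex_mul_relIndex PG H NH hPH le_normalizer]
        intro hd
        rcases hp.dvd_mul.mp hd with h | h
        · refine S.not_dvd_index ?_
          rwa [relIndex, show PG.subgroupOf H = (S : Subgroup H) from comap_map_eq_self_of_injective H.subtype_injective _] at h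
        · exact (hp.coprime_iff_not_dvd.mp (hrel.coprime_dvd_left hpH)) h
      set PN := (P : Subgroup G) ⊓ NH
      have hPGN : PG ≤ PN := le_inf hP (hPH.trans le_normalizer)
      have hlt' : PG.relIndex PN = 1 := by
        obtain ⟨k, hk⟩ := IsPGroup.iff_card.mp (P.isPGroup'.to_le (inf_le_left : PN ≤ (P : Subgroup G)))
        have hd : PG.relIndex PN ∣ p ^ k := hk ▸ relIndex_dvd_card _ _
        obtain ⟨j, -, hj⟩ := (Nat.dvd_prime_pow hp).mp hd
        rcases j with _ | j
        · simpa using hj
        · exfalso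
          refine hPN (dvd_trans ?_ (Dvd.intro _ (Subgroup.relIndex_mul_relIndex PG PN NH hPGN inf_le_right)))
          rw [hj]; exact dvd_pow_self p j.succ_ne_zero
      exact hun (mem_subgroupOf.mpr ((relIndex_eq_one.mp hlt') ⟨u.2, hNP huN⟩))
    have hPeq : (P : Subgroup G) = PG := le_antisymm hPle hP
    have := P.not_dvd_index
    rw [hPeq] at this
    exact this (hpi.trans (Subgroup.index_dvd_of_le hPH))
  -- the largest normal subgroup of order prime to `H`
  obtain ⟨O, ⟨hOn, hOc⟩, hOmax⟩ := (Set.toFinite {K : Subgroup G | K.Normal ∧ (Nat.card K).Coprime (Nat.card H)}).exists_maximal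
    ⟨⊥, inferInstance, by simp⟩
  haveI := hOn
  have hOle : ∀ K : Subgroup G, K.Normal → (Nat.card K).Coprime (Nat.card H) → K ≤ O := fun K hK hKc => by
    haveI := hK
    exact le_sup_right.trans (hOmax ⟨inferInstance, Nat.Coprime.coprime_dvd_left (Solv.card_sup_dvd_of_normal O K)
      (hOc.mul_left hKc)⟩ (le_sup_left : O ≤ O ⊔ K))
  have hOH : O ⊓ H = ⊥ := Solv.inf_eq_bot_of_coprime_card _ _ hOc
  have hfix : ∀ x ∈ O, x ∈ NH → ∀ h ∈ H, x * h = h * x := fun x hx hxN h hh => by
    have h1 : x * h * x⁻¹ * h⁻¹ ∈ O ⊓ H := by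
      refine ⟨?_, H.mul_mem ((mem_normalizer_iff.mp hxN h).mp hh) (H.inv_mem hh)⟩
      rw [mul_assoc x h, mul_assoc x]
      exact O.mul_mem hx (hOn.conj_mem _ (O.inv_mem hx) h)
    rw [hOH, mem_bot, mul_inv_eq_one, mul_inv_eq_iff_eq_mul] at h1
    exact h1
  -- `G = O N(H)`
  have hON : O ⊔ NH = ⊤ := by
    obtain ⟨n, M, hM0, hMn, hMmono, hMnorm, hfac⟩ := hsep
    have hex : ∃ i : Fin n, M i.castSucc ≤ O ∧ ¬ M i.succ ≤ O := by
      by_contra hc
      push Not at hc
      have hall : ∀ i : Fin (n + 1), M i ≤ O := by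
        intro i
        induction i using Fin.induction with
        | zero => rw [hM0]; exact bot_le
        | succ i ih => exact hc i ih
      have htop : O = ⊤ := top_le_iff.mp (hMn ▸ hall (Fin.last n))
      exact hH1 (eq_bot_iff.mpr fun h hh => by rw [← hOH, htop, top_inf_eq]; exact hh)
    obtain ⟨i, hi, hi'⟩ := hex
    haveI := hMnorm i.castSucc
    haveI := hMnorm i.succ
    set O' := M i.castSucc
    set L := M i.succ
    have hO'L : O' ≤ L := hMmono (Fin.le_iff_val_le_val.mpr (by simp))
    have hO'c : (Nat.card O').Coprime (Nat.card H) := hOc.coprime_dvd_left (card_dvd_of_le hi)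
    have hmulL : Nat.card O' * O'.relIndex L = Nat.card L := by
      rw [← Subgroup.relIndex_bot_left, ← Subgroup.relIndex_bot_left, Subgroup.relIndex_mul_relIndex _ _ _ bot_le hO'L]
    have hpi : ∀ q : ℕ, q.Prime → q ∣ O'.relIndex L → q ∣ Nat.card H := by
      refine (hfac i).resolve_right fun hc => hi' (hOle L inferInstance ?_)
      rw [← hmulL]
      exact hO'c.mul_left hc
    obtain ⟨q, hq, hqd⟩ := Nat.exists_prime_and_dvd (n := O'.relIndex L) fun e => hi' (by
      exact ((relIndex_eq_one.mp e)).trans hi)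
    haveI := Fact.mk hq
    obtain ⟨S⟩ : Nonempty (Sylow q H) := inferInstance
    set PG := (S : Subgroup H).map H.subtype
    have hHL : ¬ q ∣ H.relIndex L := fun h => by
      have h1 : H.relIndex L ∣ H.index := by
        rw [← Perm.Kazarin.relIndex_sup_normal]
        exact relIndex_dvd_index_of_le le_sup_left
      exact (hq.coprime_iff_not_dvd.mp (hHallG.coprime_dvd_left (hpi q hq hqd))) (h.trans h1)
    have hle : L ≤ O ⊔ NH := by
      have hL : O' ⊔ (H ⊓ L) = L := by
        refine le_antisymm (sup_le hO'L inf_le_right) ?_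
        rw [← relIndex_eq_one]
        by_contra hne
        obtain ⟨t, ht, htd⟩ := Nat.exists_prime_and_dvd hne
        have h1 : t ∣ O'.relIndex L := htd.trans (relIndex_dvd_of_le_left L le_sup_left)
        have h3 : t ∣ (H ⊓ L).relIndex L := htd.trans (relIndex_dvd_of_le_left L le_sup_right)
        rw [Subgroup.inf_relIndex_right] at h3
        have h4 : H.relIndex L ∣ H.index := by
          rw [← Perm.Kazarin.relIndex_sup_normal]
          exact relIndex_dvd_index_of_le le_sup_left
        exact (ht.coprime_iff_not_dvd.mp (hHallG.coprime_dvd_left (hpi t ht h1))) (h3.trans h4)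
      rw [← hL]
      exact sup_le (hi.trans le_sup_left) ((inf_le_left.trans le_normalizer).trans le_sup_right)
    obtain ⟨T, hT⟩ : ∃ T : Sylow q L, (T : Subgroup L).map L.subtype ≤ H := by
      obtain ⟨R⟩ : Nonempty (Sylow q (H.subgroupOf L)) := inferInstance
      obtain ⟨T, hT⟩ := (R.isPGroup'.map (H.subgroupOf L).subtype).exists_le_sylow
      refine ⟨T, ?_⟩
      have heq : (T : Subgroup L) = (R : Subgroup (H.subgroupOf L)).map (H.subgroupOf L).subtype := by
        refine (eq_of_le_of_card_ge hT ?_).symm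
        rw [card_map_of_injective (H.subgroupOf L).subtype_injective, T.card_eq_multiplicity, R.card_eq_multiplicity]
        refine le_of_eq (congrArg (q ^ ·) ?_)
        rw [← (H.subgroupOf L).card_mul_index, Nat.factorization_mul Nat.card_pos.ne' index_ne_zero_of_finite,
          Finsupp.add_apply, Nat.factorization_eq_zero_of_not_dvd (show ¬ q ∣ (H.subgroupOf L).index from hHL), add_zero]
      rw [heq]
      rintro - ⟨u, hu, rfl⟩
      obtain ⟨v, -, rfl⟩ := hu
      exact mem_subgroupOf.mp v.2
    have hTne : (T : Subgroup L).map L.subtype ≠ ⊥ := fun e => by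
      have h1 := T.dvd_card_of_dvd_card (hqd.trans ⟨Nat.card O', by rw [mul_comm]; exact hmulL.symm⟩)
      rw [← Solv.card_map_subtype, e, Subgroup.card_bot] at h1
      exact hq.ne_one (Nat.dvd_one.mp h1)
    obtain ⟨⟨c, hc⟩, hc1⟩ := ((T : Subgroup L).map L.subtype).ne_bot_iff_exists_ne_one.mp hTne
    have hN : normalizer (((T : Subgroup L).map L.subtype : Subgroup G) : Set G) ≤ NH := fun g hg =>
      hTI' g c (hT hc) (fun e => hc1 (Subtype.ext e)) (hT ((mem_normalizer_iff.mp hg c).mp hc))
    rw [eq_top_iff, ← Sylow.normalizer_sup_eq_top T]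
    exact sup_le (hN.trans le_sup_right) hle
  have hnotcen : ∀ X : Subgroup G, X ≤ H → X ≠ ⊥ → ¬ O ≤ centralizer (X : Set G) := by
    intro X hX hX1 hc
    obtain ⟨⟨h, hh⟩, h1⟩ := X.ne_bot_iff_exists_ne_one.mp hX1
    refine hNne (top_le_iff.mp (hON ▸ sup_le (fun x hx => hTI' x h (hX hh) (fun e => h1 (Subtype.ext e)) ?_) le_rfl))
    rw [← (mem_centralizer_iff.mp (hc hx)) h hh]
    simpa using hX hh
  -- all Sylow subgroups of `H` are cyclic
  haveI hZ : IsZGroup H := by
    refine ⟨fun p hp S => ?_⟩
    haveI := Fact.mk hp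
    set PG := (S : Subgroup H).map H.subtype
    have hPp : IsPGroup p PG := S.isPGroup'.map _
    by_cases hS1 : PG = ⊥
    · haveI : Subsingleton (S : Subgroup H) := by
        rw [Subgroup.map_eq_bot_iff_of_injective _ H.subtype_injective] at hS1
        rw [hS1]; infer_instance
      infer_instance
    haveI : Group.IsNilpotent PG := hPp.isNilpotent
    have hPH : PG ≤ H := map_subtype_le _
    have hcop : (Nat.card PG).Coprime (Nat.card O) := hOc.symm.coprime_dvd_left (card_dvd_of_le hPH)
    obtain ⟨r, hr, R, hR, hRc⟩ : ∃ r : ℕ, ∃ _ : r.Prime, ∃ R : Sylow r O,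
        PG ≤ normalizer (((R : Subgroup O).map O.subtype : Subgroup G) : Set G) ∧
          ¬ (R : Subgroup O).map O.subtype ≤ centralizer (PG : Set G) := by
      by_contra hc
      push Not at hc
      refine hnotcen PG hPH hS1 (relIndex_eq_one.mp ?_)
      by_contra hne
      obtain ⟨r, hr, hrd⟩ := Nat.exists_prime_and_dvd hne
      haveI := Fact.mk hr
      obtain ⟨R, hR⟩ := Solv.exists_invariant_sylow PG O le_normalizer_of_normal hcop
        (Or.inl inferInstance) r
      exact R.not_dvd_index (hrd.trans (Subgroup.index_dvd_of_le fun u hu =>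
        mem_subgroupOf.mpr (hc r hr R hR (mem_map_of_mem O.subtype hu))))
    set RG := (R : Subgroup O).map O.subtype
    have hcomm : ∀ x y : PG, orderOf x = p → y ^ p = 1 → Commute x y → y ∈ zpowers x := by
      intro x y hx hy hxy
      by_contra hyx
      set E := (zpowers x ⊔ zpowers y).map PG.subtype
      have hEc : ∀ a ∈ zpowers x ⊔ zpowers y, ∀ b ∈ zpowers x ⊔ zpowers y, a * b = b * a := by
        have hle : zpowers x ⊔ zpowers y ≤ Subgroup.centralizer ((zpowers x ⊔ zpowers y : Subgroup PG) : Set PG) := by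
          rw [zpowers_eq_closure, zpowers_eq_closure, ← Subgroup.closure_union, Subgroup.centralizer_closure, Subgroup.closure_le]
          intro z hz
          refine mem_centralizer_iff.mpr fun w hw => ?_
          simp only [Set.union_singleton, Set.mem_insert_iff, Set.mem_singleton_iff] at hz hw
          rcases hz with rfl | rfl <;> rcases hw with rfl | rfl
          exacts [rfl, hxy.eq, hxy.eq.symm, rfl]
        exact fun a ha b hb => ((mem_centralizer_iff.mp (hle ha)) b hb).symm
      haveI : IsMulCommutative E := ⟨⟨fun a b => by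
        obtain ⟨a', ha', ea⟩ := a.2
        obtain ⟨b', hb', eb⟩ := b.2
        exact Subtype.ext (by
          show (a : G) * b = b * a
          rw [← ea, ← eb]
          exact congrArg Subtype.val (hEc a' ha' b' hb'))⟩⟩
      have hE : ¬ IsCyclic E := by
        intro hcyc
        haveI := hcyc
        haveI : IsCyclic ↥(zpowers x ⊔ zpowers y) :=
          isCyclic_of_injective (PG.subtype.subgroupMap (zpowers x ⊔ zpowers y)) fun a b e =>
            Subtype.ext (Subtype.ext (congrArg (fun t : E => (t : G)) e))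
        haveI : Fintype ↥(zpowers x ⊔ zpowers y) := Fintype.ofFinite _
        set W := zpowers x ⊔ zpowers y
        let xW : W := ⟨x, (le_sup_left : _ ≤ W) (mem_zpowers x)⟩
        let yW : W := ⟨y, (le_sup_right : _ ≤ W) (mem_zpowers y)⟩
        have h5 := IsCyclic.card_pow_eq_one_le (α := W) (n := p) hp.pos
        have hsub : (Finset.univ.filter fun u => u ∈ zpowers xW) ∪ {yW} ⊆ Finset.univ.filter fun u : W => u ^ p = 1 := by
          intro u hu
          rw [Finset.mem_union, Finset.mem_filter, Finset.mem_singleton] at hu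
          rw [Finset.mem_filter]
          refine ⟨Finset.mem_univ _, ?_⟩
          rcases hu with ⟨-, hu⟩ | rfl
          · obtain ⟨k, rfl⟩ := hu
            show (xW ^ k) ^ p = 1
            rw [← zpow_natCast, zpow_comm, zpow_natCast,
              show xW ^ p = 1 from Subtype.ext (orderOf_dvd_iff_pow_eq_one.mp (dvd_of_eq hx)), one_zpow]
          · exact Subtype.ext hy
        have hdisj : Disjoint (Finset.univ.filter fun u => u ∈ zpowers xW) {yW} := by
          rw [Finset.disjoint_singleton_right, Finset.mem_filter]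
          rintro ⟨-, k, hk⟩
          exact hyx ⟨k, congrArg Subtype.val hk⟩
        have hcard : (Finset.univ.filter fun u => u ∈ zpowers xW).card = p := by
          rw [← Fintype.card_subtype, Fintype.card_zpowers, ← hx, ← Subgroup.orderOf_coe xW]
        have h6 := (Finset.card_le_card hsub).trans h5
        rw [Finset.card_union_of_disjoint hdisj, hcard, Finset.card_singleton] at h6
        omega
      refine hRc (Local.CoprimeGen.le_of_centralizers E RG (centralizer (PG : Set G)) hE
        ((map_subtype_le _).trans hR) ?_ ?_)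
      · exact (hcop.coprime_dvd_left (card_dvd_of_le (map_subtype_le _))).coprime_dvd_right (card_dvd_of_le (map_subtype_le _))
      · rintro e he he1 u ⟨hu1, hu2⟩
        have huO : u ∈ O := map_subtype_le _ hu1
        have heH : e ∈ H := hPH (map_subtype_le _ he)
        have hue := mem_centralizer_singleton_iff.mp hu2
        have huN : u ∈ NH := hTI' u e heH he1 (by rw [hue]; simpa using heH)
        exact mem_centralizer_iff.mpr fun c hc => (hfix u huO huN c (hPH hc)).symm
    have huniq : ∀ x y : PG, orderOf x = p → y ^ p = 1 → y ∈ zpowers x := by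
      intro x y hx hy
      haveI : Nontrivial PG := (nontrivial_iff_ne_bot PG).mpr hS1
      haveI := hPp.center_nontrivial
      obtain ⟨k, hk⟩ := IsPGroup.iff_card.mp (hPp.to_subgroup (center PG))
      have hk0 : k ≠ 0 := fun e => by
        rw [e, pow_zero] at hk
        exact absurd hk (Finite.one_lt_card (α := center PG)).ne'
      obtain ⟨z, hz⟩ := exists_prime_orderOf_dvd_card' (G := center PG) p (hk ▸ dvd_pow_self p hk0)
      have hzo : orderOf (z : PG) = p := by rw [Subgroup.orderOf_coe, hz]
      have hxz : x ∈ zpowers (z : PG) := hcomm z x hzo (orderOf_dvd_iff_pow_eq_one.mp (dvd_of_eq hx))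
        (mem_center_iff.mp z.2 x).symm
      have hyz : y ∈ zpowers (z : PG) := hcomm z y hzo hy (mem_center_iff.mp z.2 y).symm
      rwa [eq_of_le_of_card_ge (zpowers_le.mpr hxz) (by rw [Nat.card_zpowers, Nat.card_zpowers, hx, hzo])]
    rcases Struct.cyclic_or_quaternion hPp huniq with hcyc | ⟨hp2, n, hn, ⟨e⟩⟩
    · haveI := hcyc
      exact isCyclic_of_injective (H.subtype.subgroupMap (S : Subgroup H)) fun a b e =>
        Subtype.ext (Subtype.ext (congrArg (fun t : PG => (t : G)) e))
    · exfalso
      subst hp2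
      haveI := h2 S
      obtain ⟨a, ha⟩ := (H.subtype.subgroupMap_surjective (S : Subgroup H)) (e.symm (QuaternionGroup.a 1))
      obtain ⟨b, hb⟩ := (H.subtype.subgroupMap_surjective (S : Subgroup H)) (e.symm (QuaternionGroup.xa 0))
      have h3 := congrArg (H.subtype.subgroupMap (S : Subgroup H)) (mul_comm' a b)
      rw [map_mul, map_mul, ha, hb, ← map_mul, ← map_mul] at h3
      have h4 := e.symm.injective h3
      rw [QuaternionGroup.a_mul_xa, QuaternionGroup.xa_mul_a, QuaternionGroup.xa.injEq, zero_sub, zero_add] at h4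
      have h5 : ((2 : ℕ) : ZMod (2 * 2 ^ n)) = 0 := by
        push_cast
        linear_combination -h4
      rw [ZMod.natCast_eq_zero_iff] at h5
      have := Nat.le_of_dvd two_pos h5
      have : 2 ≤ 2 ^ n := Nat.le_self_pow (by omega) 2
      omega
  -- coprime action of `Q` on `H`
  haveI : Group.IsSolvable H := inferInstance
  have hQc : (Nat.card Q).Coprime (Nat.card H) := by
    have h1 := Solv.card_sup_mul_card_inf H Q hQ
    rw [sup_comm, hQH', inf_comm, hQH, Subgroup.card_bot, mul_one] at h1
    have h3 : Nat.card H * H.relIndex NH = Nat.card NH := by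
      rw [← Subgroup.relIndex_bot_left, ← Subgroup.relIndex_bot_left, Subgroup.relIndex_mul_relIndex _ _ _ bot_le le_normalizer]
    rw [h1] at h3
    rw [← Nat.eq_of_mul_eq_mul_left Nat.card_pos h3]
    exact hrel.symm
  set C := H ⊓ centralizer (Q : Set G)
  set D := ⁅H, Q⁆
  have hDH : D ≤ H := Solv.commutator_normalizer_le Q H hQ
  have hDC : D ⊔ C = H := Solv.commutator_sup_centralizer Q H hQ hQc (Or.inr inferInstance)
  have hkey : ∀ p : ℕ, p.Prime → p ∣ Nat.card C → ¬ p ∣ C.relIndex H ∧ ¬ p ∣ Nat.card D := by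
    intro p hp hpC
    haveI := Fact.mk hp
    obtain ⟨c, hc⟩ := exists_prime_orderOf_dvd_card' (G := C) p hpC
    obtain ⟨S, hcS, hS⟩ := Solv.exists_invariant_sylow_ge Q H hQ hQc (Or.inr inferInstance) p (zpowers (c : G))
      (zpowers_le.mpr c.2.1) (IsPGroup.of_card (n := 1) (by rw [Nat.card_zpowers, Subgroup.orderOf_coe, hc, pow_one]))
      (fun q hq => centralizer_le_normalizer _ (mem_centralizer_iff.mpr fun u hu => by
        obtain ⟨k, rfl⟩ := hu
        exact ((show Commute (c : G) q from ((mem_centralizer_iff.mp c.2.2) q hq).symm).zpow_left k).eq))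
    set PG := (S : Subgroup H).map H.subtype
    have hPp : IsPGroup p PG := S.isPGroup'.map _
    have hPH : PG ≤ H := map_subtype_le _
    haveI : IsCyclic PG := isCyclic_of_surjective _ (H.subtype.subgroupMap_surjective (S : Subgroup H))
    have hcop : (Nat.card PG).Coprime (Nat.card Q) := hQc.symm.coprime_dvd_left (card_dvd_of_le hPH)
    have hPC : PG ≤ centralizer (Q : Set G) := by
      rcases IsPGroup.commutator_eq_bot_or_commutator_eq_self hPp hS hcop with h | h
      · rw [commutator_comm] at h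
        exact commutator_eq_bot_iff_le_centralizer.mp h
      · exfalso
        haveI : IsMulCommutative PG := ⟨⟨fun a b => (IsCyclic.commGroup (α := PG)).mul_comm a b⟩⟩
        have h1 := Solv.commutator_inf_centralizer_eq_bot Q PG hS hcop.symm
        rw [commutator_comm, h] at h1
        have h3 : (c : G) ∈ PG ⊓ centralizer (Q : Set G) := ⟨hcS (mem_zpowers _), c.2.2⟩
        rw [h1, mem_bot] at h3
        rw [← Subgroup.orderOf_coe, h3, orderOf_one] at hc
        exact hp.ne_one hc.symm
    refine ⟨fun hd => S.not_dvd_index ?_, ?_⟩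
    · refine hd.trans (Subgroup.index_dvd_of_le ?_)
      exact fun u hu => mem_subgroupOf.mpr ⟨u.2, hPC (mem_map_of_mem H.subtype hu)⟩
    rcases S.normalizer_le_centralizer_or_le_commutator with hN | hN
    · exact comm_prime H Q PG hQ S rfl (Solv.hasNormalPComplement_of_burnside S hN) hPC
    haveI hcc := IsZGroup.isCyclic_commutator (G := H)
    haveI : ((S : Subgroup H)).Normal := by
      refine ⟨fun u hu g => ?_⟩
      have hmem : g * u * g⁻¹ ∈ commutator H := (inferInstance : (commutator H).Normal).conj_mem u (hN hu) g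
      set T := ((S : Subgroup H).subgroupOf (commutator H))
      haveI : T.Normal := ⟨fun a ha b => by
        rw [(IsCyclic.commGroup (α := commutator H)).mul_comm b a, mul_inv_cancel_right]; exact ha⟩
      have hTs : ∀ v : commutator H, (∃ k, orderOf (v : H) = p ^ k) → (v : H) ∈ (S : Subgroup H) := by
        intro v ⟨k, hk⟩
        have hidx : ¬ p ∣ T.index := fun h => S.not_dvd_index (h.trans (relIndex_dvd_index_of_le hN))
        have h7 := Solv.mem_of_coprime_index T (x := v) (by
          rw [← Subgroup.orderOf_coe, hk]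
          exact (hp.coprime_iff_not_dvd.mpr hidx).pow_left k)
        exact mem_subgroupOf.mp h7
      refine hTs ⟨_, hmem⟩ ?_
      show ∃ k, orderOf (g * u * g⁻¹) = p ^ k
      rw [← MulAut.conj_apply, MulEquiv.orderOf_eq]
      obtain ⟨k, hk⟩ := IsPGroup.iff_orderOf.mp S.isPGroup' ⟨u, hu⟩
      exact ⟨k, (Subgroup.orderOf_coe (⟨u, hu⟩ : (S : Subgroup H))).trans hk⟩
    have hPnorm : ∀ h ∈ H, ∀ x ∈ PG, h⁻¹ * x * h ∈ PG := by
      rintro h hh - ⟨u, hu, rfl⟩
      exact ⟨(⟨h, hh⟩ : H)⁻¹ * u * ⟨h, hh⟩,
        show (⟨h, hh⟩ : H)⁻¹ * u * ⟨h, hh⟩ ∈ (S : Subgroup H) by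
          simpa using (inferInstance : (S : Subgroup H).Normal).conj_mem u hu (⟨h, hh⟩ : H)⁻¹, rfl⟩
    set X := H ⊓ centralizer (PG : Set G)
    have hDX : D ≤ X := le_inf hDH (by
      rw [commutator_le]
      intro h hh q hq
      refine mem_centralizer_iff.mpr fun x hx => ?_
      have h1 : q * (h⁻¹ * x * h) = (h⁻¹ * x * h) * q := (mem_centralizer_iff.mp (hPC (hPnorm h hh x hx))) q hq
      have h1q : q * x = x * q := (mem_centralizer_iff.mp (hPC hx)) q hq
      rw [commutatorElement_def]
      calc x * (h * q * h⁻¹ * q⁻¹) = h * ((h⁻¹ * x * h) * q) * h⁻¹ * q⁻¹ := by group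
        _ = h * (q * (h⁻¹ * x * h)) * h⁻¹ * q⁻¹ := by rw [h1]
        _ = h * q * h⁻¹ * (x * q⁻¹) := by group
        _ = h * q * h⁻¹ * (q⁻¹ * x) := by rw [((show Commute q x from h1q).inv_left).eq]
        _ = h * q * h⁻¹ * q⁻¹ * x := by group)
    have hQX : Q ≤ normalizer (X : Set G) := by
      intro q hq
      have key : ∀ q ∈ Q, ∀ u ∈ X, q * u * q⁻¹ ∈ X := by
        intro q hq u hu
        refine ⟨(mem_normalizer_iff.mp (hQ hq) u).mp hu.1, mem_centralizer_iff.mpr fun x hx => ?_⟩
        have h1q : q * x = x * q := (mem_centralizer_iff.mp (hPC hx)) q hq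
        have h1u : x * u = u * x := (mem_centralizer_iff.mp hu.2) x hx
        calc x * (q * u * q⁻¹) = x * q * u * q⁻¹ := by group
          _ = q * x * u * q⁻¹ := by rw [h1q]
          _ = q * (x * u) * q⁻¹ := by group
          _ = q * u * (x * q⁻¹) := by rw [h1u]; group
          _ = q * u * (q⁻¹ * x) := by rw [((show Commute q x from h1q).inv_left).eq]
          _ = q * u * q⁻¹ * x := by group
      exact mem_normalizer_iff.mpr fun u => ⟨key q hq u, fun h => by simpa [mul_assoc] using key q⁻¹ (inv_mem hq) _ h⟩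
    have hPX : PG ≤ X := le_inf hPH (fun x hx => mem_centralizer_iff.mpr fun y hy =>
      congrArg Subtype.val ((IsCyclic.commGroup (α := PG)).mul_comm ⟨y, hy⟩ ⟨x, hx⟩))
    obtain ⟨SX, hSX⟩ := (hPp.comap_subtype (K := X) : IsPGroup p (PG.subgroupOf X)).exists_le_sylow
    have hSXeq : (SX : Subgroup X) = PG.subgroupOf X := by
      refine (eq_of_le_of_card_ge hSX ?_).symm
      show Nat.card (SX : Subgroup X) ≤ Nat.card ↥(PG.subgroupOf X)
      rw [Nat.card_congr (subgroupOfEquivOfLe hPX).toEquiv, Solv.card_map_subtype, S.card_eq_multiplicity, SX.card_eq_multiplicity]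
      exact Nat.pow_le_pow_right hp.pos ((Nat.factorization_le_iff_dvd Nat.card_pos.ne' Nat.card_pos.ne').mpr
        (card_dvd_of_le inf_le_left) p)
    have hcX : HasNormalPComplement p X := by
      refine Solv.hasNormalPComplement_of_burnside SX fun g _ => mem_centralizer_iff.mpr fun u hu => ?_
      rw [SetLike.mem_coe, hSXeq, mem_subgroupOf] at hu
      exact Subtype.ext ((mem_centralizer_iff.mp g.2.2) _ hu)
    have h3 := comm_prime X Q PG hQX SX (by rw [hSXeq, subgroupOf_map_subtype, inf_eq_left.mpr hPX]) hcX hPC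
    intro hd
    refine h3 (hd.trans (card_dvd_of_le ?_))
    rw [show D = ⁅⁅H, Q⁆, Q⁆ from (Solv.commutator_commutator_eq Q H hQ hQc (Or.inr inferInstance)).symm]
    exact commutator_mono hDX le_rfl
  refine ⟨Nat.coprime_of_dvd fun p hp hpC hpi => ?_, ?_⟩
  · rw [← Subgroup.relIndex_mul_index (inf_le_left : C ≤ H)] at hpi
    rcases hp.dvd_mul.mp hpi with h | h
    · exact (hkey p hp hpC).1 h
    · exact (hp.coprime_iff_not_dvd.mp (hHallG.coprime_dvd_left (hpC.trans (card_dvd_of_le inf_le_left)))) h
  -- the normal complement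
  have hDn : ∀ g ∈ NH, ∀ d ∈ D ⊔ Q, g * d * g⁻¹ ∈ D ⊔ Q := by
    have hH' : H ≤ normalizer ((D ⊔ Q : Subgroup G) : Set G) := by
      intro h hh
      have key : ∀ h ∈ H, ∀ d ∈ D ⊔ Q, h * d * h⁻¹ ∈ D ⊔ Q := by
        intro h hh d hd
        have hle : D ⊔ Q ≤ (D ⊔ Q).comap (MulAut.conj h).toMonoidHom := by
          refine sup_le (fun x hx => mem_comap.mpr ((le_sup_left : D ≤ D ⊔ Q) ?_)) fun x hx => mem_comap.mpr ?_
          · exact (mem_normalizer_iff.mp (normalizer_commutator_ge_left H Q hh) x).mp hx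
          · show h * x * h⁻¹ ∈ D ⊔ Q
            have h1 : h * x * h⁻¹ = (h * x * h⁻¹ * x⁻¹) * x := by group
            rw [h1]
            exact mul_mem ((le_sup_left : D ≤ D ⊔ Q) (by simpa [commutatorElement_def] using commutator_mem_commutator hh hx)) ((le_sup_right : Q ≤ D ⊔ Q) hx)
        exact hle hd
      exact mem_normalizer_iff.mpr fun d => ⟨key h hh d, fun hd => by simpa [mul_assoc] using key h⁻¹ (inv_mem hh) _ hd⟩
    have hle : NH ≤ normalizer ((D ⊔ Q : Subgroup G) : Set G) :=
      hQH' ▸ sup_le ((le_sup_right : Q ≤ D ⊔ Q).trans le_normalizer) hH'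
    exact fun g hg d hd => (mem_normalizer_iff.mp (hle hg) d).mp hd
  set K := O ⊔ (D ⊔ Q)
  have hKn : K.Normal := by
    refine normalizer_eq_top_iff.mp (top_le_iff.mp (hON ▸ sup_le ((le_sup_left : O ≤ K).trans le_normalizer) ?_))
    intro g hg
    have key : ∀ g ∈ NH, ∀ d ∈ K, g * d * g⁻¹ ∈ K := by
      intro g hg d hd
      have hle : K ≤ K.comap (MulAut.conj g).toMonoidHom :=
        sup_le (fun x hx => mem_comap.mpr ((le_sup_left : O ≤ K) (hOn.conj_mem x hx g)))
          fun x hx => mem_comap.mpr ((le_sup_right : _ ≤ K) (hDn g hg x hx))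
      exact hle hd
    exact mem_normalizer_iff.mpr fun d => ⟨key g hg d, fun hd => by simpa [mul_assoc] using key g⁻¹ (inv_mem hg) _ hd⟩
  haveI := hKn
  refine ⟨K, hKn, Subgroup.isComplement'_of_disjoint_and_mul_eq_univ ?_ ?_⟩
  · refine Subgroup.disjoint_of_coprime_natCard (Nat.coprime_of_dvd fun p hp hpK hpC => ?_)
    have h1 : p ∣ Nat.card O * (Nat.card Q * Nat.card D) := hpK.trans ((Solv.card_sup_dvd_of_normal O (D ⊔ Q)).trans
      (Nat.mul_dvd_mul_left _ (by
        have hd := Solv.card_sup_dvd D Q fun q hq => mem_normalizer_iff.mpr fun d => ⟨fun h =>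
          (mem_normalizer_iff.mp (normalizer_commutator_ge_right H Q hq) d).mp h, fun h =>
          (mem_normalizer_iff.mp (normalizer_commutator_ge_right H Q hq) d).mpr h⟩
        rwa [mul_comm (Nat.card Q)])))
    have hpH : p ∣ Nat.card H := hpC.trans (card_dvd_of_le inf_le_left)
    rcases hp.dvd_mul.mp h1 with h | h
    · exact Nat.Prime.not_coprime_iff_dvd.mpr ⟨p, hp, h, hpH⟩ hOc
    rcases hp.dvd_mul.mp h with h | h
    · exact Nat.Prime.not_coprime_iff_dvd.mpr ⟨p, hp, h, hpH⟩ hQc
    · exact (hkey p hp hpC).2 h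
  · rw [← Subgroup.normal_mul]
    have htop : K ⊔ C = ⊤ := by
      refine top_le_iff.mp (hON ▸ sup_le ((le_sup_left : O ≤ K).trans le_sup_left) ?_)
      rw [← hQH']
      exact sup_le (((le_sup_right : Q ≤ D ⊔ Q).trans le_sup_right).trans le_sup_left)
        (hDC ▸ sup_le (((le_sup_left : D ≤ D ⊔ Q).trans le_sup_right).trans le_sup_left) le_sup_right)
    rw [htop, Subgroup.coe_top]

/-- Let G be a finite group and H a non-normal subgroup meeting each of its conjugates by elements outside N_G(H) trivially, with the order of H coprime to its index in N_G(H), such that G is π-separable for π the set of primes dividing the order of H (G has a chain of normal subgroups from 1 to G each of whose factors has order divisible only by primes dividing the order of H or coprime to it). Suppose a Sylow 2-subgroup of H is abelian and Q is a complement of H in N_G(H). Then C_H(Q), the subgroup of elements of H commuting with Q, has order coprime to its index in G and has a normal complement in G. -/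
theorem result {G : Type*} [Group G] [Finite G] (H : Subgroup G)
    (hTI : Cfsg.IsTISubset (H : Set G)) (hnn : ¬ H.Normal)
    (hHall : (Nat.card H).Coprime (H.subgroupOf (Subgroup.normalizer (H : Set G))).index)
    (hsep : ∃ (n : ℕ) (M : Fin (n + 1) → Subgroup G), M 0 = ⊥ ∧ M (Fin.last n) = ⊤ ∧ Monotone M ∧ (∀ i, (M i).Normal) ∧
      ∀ i : Fin n, (∀ q : ℕ, q.Prime → q ∣ (M i.castSucc).relIndex (M i.succ) → q ∣ Nat.card H) ∨
        ((M i.castSucc).relIndex (M i.succ)).Coprime (Nat.card H))
    (h2 : ∀ P : Sylow 2 H, IsMulCommutative (P : Subgroup H))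
    (Q : Subgroup G) (hQ : Q ≤ Subgroup.normalizer (H : Set G)) (hQH : Q ⊓ H = ⊥) (hQH' : Q ⊔ H = Subgroup.normalizer (H : Set G)) :
    (Nat.card ↥(H ⊓ Subgroup.centralizer (Q : Set G))).Coprime (H ⊓ Subgroup.centralizer (Q : Set G)).index ∧
    ∃ N : Subgroup G, N.Normal ∧ N.IsComplement' (H ⊓ Subgroup.centralizer (Q : Set G)) := by
  exact main H hTI hnn hHall hsep h2 Q hQ hQH hQH'

end Cfsg.Agent.S4151
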