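import Cfsg.Statements.S4152

set_option autoImplicit false
open Cfsg

namespace Cfsg.Agent.S4152

/-- Let G be a finite group, N a normal subgroup and π a set of primes. Then the number of conjugacy classes of π-elements of G (elements whose order is divisible only by primes in π) is at most the number of conjugacy classes of π-elements of N (under conjugation by N) times the number of conjugacy classes of π-elements of G/N. -/
theorem result {G : Type*} [Group G] [Finite G] (N : Subgroup G) [N.Normal] (π : Set ℕ) :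
    Nat.card {C : ConjClasses G // ∀ q : ℕ, q.Prime → (∃ g : G, ConjClasses.mk g = C ∧ q ∣ orderOf g) → q ∈ π} ≤ Nat.card {C : ConjClasses N // ∀ q : ℕ, q.Prime → (∃ g : N, ConjClasses.mk g = C ∧ q ∣ orderOf g) → q ∈ π} * Nat.card {C : ConjClasses (G ⧸ N) // ∀ q : ℕ, q.Prime → (∃ g : (G ⧸ N), ConjClasses.mk g = C ∧ q ∣ orderOf g) → q ∈ π} := by
  classical
  let P : G → Prop := fun x => ∀ q : ℕ, q.Prime → q ∣ orderOf x → q ∈ π
  -- the two parts of the group order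
  set n := Nat.card G with hn
  have hn0 : n ≠ 0 := Nat.card_pos.ne'
  let a := ∏ q ∈ n.primeFactors.filter (· ∈ π), q ^ n.factorization q
  let b := ∏ q ∈ n.primeFactors.filter (¬ · ∈ π), q ^ n.factorization q
  have hab : a * b = n := by
    rw [Finset.prod_filter_mul_prod_filter_not]
    conv_rhs => rw [← Nat.prod_factorization_pow_eq_self hn0]
    rfl
  have ha : ∀ q : ℕ, q.Prime → q ∣ a → q ∈ π := by
    intro q hq hqa
    obtain ⟨r, hr, hqr⟩ := (Prime.dvd_finset_prod_iff hq.prime _).mp hqa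
    rw [Finset.mem_filter] at hr
    rw [(Nat.prime_dvd_prime_iff_eq hq (Nat.prime_of_mem_primeFactors hr.1)).mp (hq.dvd_of_dvd_pow hqr)]
    exact hr.2
  have hb : ∀ q : ℕ, q.Prime → q ∣ b → q ∉ π := by
    intro q hq hqb
    obtain ⟨r, hr, hqr⟩ := (Prime.dvd_finset_prod_iff hq.prime _).mp hqb
    rw [Finset.mem_filter] at hr
    rw [(Nat.prime_dvd_prime_iff_eq hq (Nat.prime_of_mem_primeFactors hr.1)).mp (hq.dvd_of_dvd_pow hqr)]
    exact hr.2
  have hcop : Nat.Coprime a b := Nat.coprime_of_dvd fun q hq h1 h2 => hb q hq h2 (ha q hq h1)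
  have hPa : ∀ x : G, P x → orderOf x ∣ a := fun x hx =>
    (Nat.Coprime.dvd_of_dvd_mul_right (Nat.coprime_of_dvd fun q hq h1 h2 => hb q hq h2 (hx q hq h1))
      (hab ▸ orderOf_dvd_natCard x))
  obtain ⟨e, he1, he2⟩ := Nat.chineseRemainder hcop 1 0
  obtain ⟨f, hf1, hf2⟩ := Nat.chineseRemainder hcop 0 1
  have hxe : ∀ x : G, P x → x ^ e = x := fun x hx => by
    rw [pow_eq_pow_iff_modEq.mpr ((he1.of_dvd (hPa x hx)) : e ≡ 1 [MOD orderOf x]), pow_one]
  have hye : ∀ y : G, P (y ^ e) := by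
    intro y q hq hqy
    refine ha q hq (hqy.trans (orderOf_dvd_of_pow_eq_one ?_))
    rw [← pow_mul, ← orderOf_dvd_iff_pow_eq_one]
    refine (orderOf_dvd_natCard y).trans ?_
    rw [← hn, ← hab, mul_comm a b]
    exact Nat.mul_dvd_mul_right (Nat.modEq_zero_iff_dvd.mp he2) a
  have hfe : ∀ y : G, (y ^ f) ^ e = 1 := by
    intro y
    rw [← pow_mul, ← orderOf_dvd_iff_pow_eq_one]
    refine (orderOf_dvd_natCard y).trans ?_
    rw [← hn, ← hab]
    exact Nat.mul_dvd_mul (Nat.modEq_zero_iff_dvd.mp hf1) (Nat.modEq_zero_iff_dvd.mp he2)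
  have hdec : ∀ y : G, y ^ e * y ^ f = y := by
    intro y
    rw [← pow_add]
    nth_rw 2 [← pow_one y]
    rw [pow_eq_pow_iff_modEq]
    refine Nat.ModEq.of_dvd (orderOf_dvd_natCard y) ?_
    rw [← hn, ← hab]
    exact (Nat.modEq_and_modEq_iff_modEq_mul hcop).mp ⟨he1.add hf1, he2.add hf2⟩
  -- the key count in one coset
  have key : ∀ g : G, Nat.card {p : G × N // P p.1 ∧ g⁻¹ * p.1 ∈ N ∧ Commute p.1 (p.2 : G)} ≤
      Nat.card {p : N × N // P (p.1 : G) ∧ Commute (p.1 : G) (p.2 : G)} := by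
    intro g
    have step : Nat.card {p : G × N // P p.1 ∧ g⁻¹ * p.1 ∈ N ∧ Commute p.1 (p.2 : G)} ≤
        Nat.card {p : N × G // P (p.1 : G) ∧ g⁻¹ * p.2 ∈ N ∧ Commute (p.1 : G) p.2} := by
      refine Nat.card_le_card_of_injective
        (fun p => ⟨(p.1.2 ^ e, p.1.1 * (p.1.2 : G) ^ f), ?_, ?_, ?_⟩) ?_
      · simpa using hye (p.1.2 : G)
      · rw [← mul_assoc]; exact N.mul_mem p.2.2.1 (N.pow_mem p.1.2.2 f)
      · push_cast
        exact (p.2.2.2.symm.pow_left e).mul_right (Commute.pow_pow_self _ e f)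
      · intro p₁ p₂ heq
        simp only [Subtype.mk.injEq, Prod.mk.injEq] at heq
        obtain ⟨h1, h2⟩ := heq
        obtain ⟨⟨x, y⟩, hx, hgx, hxy⟩ := p₁
        obtain ⟨⟨x', y'⟩, hx', hgx', hxy'⟩ := p₂
        simp only at h1 h2 hx hx' hxy hxy'
        have hxx : x = x' := by
          have := congrArg (· ^ e) h2
          simp only [(hxy.pow_right f).mul_pow, (hxy'.pow_right f).mul_pow, hfe, mul_one] at this
          rwa [hxe x hx, hxe x' hx'] at this
        subst hxx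
        have h3 : (y : G) ^ f = (y' : G) ^ f := mul_left_cancel h2
        have h1' := congrArg Subtype.val h1
        push_cast at h1'
        have : (y : G) = y' := by rw [← hdec y, ← hdec y', h1', h3]
        rw [Subtype.mk.injEq, Prod.mk.injEq]
        exact ⟨rfl, Subtype.ext this⟩
    refine step.trans ?_
    -- a coset meets a centralizer in at most as many elements as the subgroup
    let A := {p : N × G // P (p.1 : G) ∧ g⁻¹ * p.2 ∈ N ∧ Commute (p.1 : G) p.2}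
    let w : N → G := fun u => if h : ∃ z, g⁻¹ * z ∈ N ∧ Commute (u : G) z then h.choose else 1
    have hw : ∀ p : A, g⁻¹ * w p.1.1 ∈ N ∧ Commute (p.1.1 : G) (w p.1.1) := fun p => by
      have h : ∃ z, g⁻¹ * z ∈ N ∧ Commute (p.1.1 : G) z := ⟨p.1.2, p.2.2⟩
      simp only [w, dif_pos h]
      exact h.choose_spec
    refine Nat.card_le_card_of_injective (fun p : A => ⟨(p.1.1, ⟨(w p.1.1)⁻¹ * p.1.2, ?_⟩), p.2.1,
      ((hw p).2.inv_right).mul_right p.2.2.2⟩) ?_
    · have := N.mul_mem (N.inv_mem (hw p).1) p.2.2.1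
      rwa [mul_inv_rev, inv_inv, mul_assoc, mul_inv_cancel_left] at this
    · rintro ⟨⟨u, z⟩, h⟩ ⟨⟨u', z'⟩, h'⟩ heq
      simp only [Subtype.mk.injEq, Prod.mk.injEq] at heq
      obtain ⟨rfl, h2⟩ := heq
      exact Subtype.ext (Prod.ext rfl (mul_left_cancel h2))
  set T : Set (ConjClasses G) := {C | ∀ q : ℕ, q.Prime → (∃ g : G, ConjClasses.mk g = C ∧ q ∣ orderOf g) → q ∈ π}
    with hT
  set TN : Set (ConjClasses N) := {C | ∀ q : ℕ, q.Prime → (∃ g : N, ConjClasses.mk g = C ∧ q ∣ orderOf g) → q ∈ π}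
    with hTN
  -- commuting pairs in the subgroup
  have hpairs : Nat.card {p : N × N // P (p.1 : G) ∧ Commute (p.1 : G) (p.2 : G)} ≤ Nat.card TN * Nat.card N := by
    rw [← Nat.card_prod]
    have ex : ∀ u : N, ∃ t : N, t * (ConjClasses.mk u).out * t⁻¹ = u := by
      intro u
      obtain ⟨t, ht⟩ := isConj_iff.mp (ConjClasses.mk_eq_mk_iff_isConj.mp (Quotient.out_eq (ConjClasses.mk u)))
      exact ⟨t, ht⟩
    choose t ht using ex
    refine Nat.card_le_card_of_injective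
      (fun p => (⟨ConjClasses.mk p.1.1, fun q hq ⟨v, hv, hqv⟩ => p.2.1 q hq ?_⟩, p.1.2 * t p.1.1)) ?_
    · obtain ⟨c, hc⟩ := isConj_iff.mp (ConjClasses.mk_eq_mk_iff_isConj.mp hv)
      rw [Subgroup.orderOf_coe, ← hc]
      rwa [show c * v * c⁻¹ = MulAut.conj c v from rfl, MulEquiv.orderOf_eq]
    · rintro ⟨⟨u, y⟩, hu, huy⟩ ⟨⟨u', y'⟩, hu', huy'⟩ h
      simp only [Prod.mk.injEq, Subtype.mk.injEq] at h
      obtain ⟨h1, h2⟩ := h
      have e1 : ∀ u y : N, Commute (u : G) (y : G) → (y * t u) * (ConjClasses.mk u).out * (y * t u)⁻¹ = u := by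
        intro u y h
        have h' : Commute u y := Subtype.ext h
        rw [show (y * t u) * (ConjClasses.mk u).out * (y * t u)⁻¹ = y * (t u * (ConjClasses.mk u).out * (t u)⁻¹) * y⁻¹ by group,
          ht, ← h'.eq, mul_inv_cancel_right]
      have hu_eq : u = u' := by rw [← e1 u y huy, ← e1 u' y' huy', h1, h2]
      subst hu_eq
      exact Subtype.ext (Prod.ext rfl (mul_right_cancel h2))
  -- the fibres
  let φ : T → {C : ConjClasses (G ⧸ N) // ∀ q : ℕ, q.Prime → (∃ g : (G ⧸ N), ConjClasses.mk g = C ∧ q ∣ orderOf g) → q ∈ π} :=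
    fun C => ⟨ConjClasses.map (QuotientGroup.mk' N) C.1, fun q hq ⟨v, hv, hqv⟩ => by
      obtain ⟨C, hC⟩ := C
      obtain ⟨x, rfl⟩ := ConjClasses.mk_surjective C
      obtain ⟨c, hc⟩ := isConj_iff.mp (ConjClasses.mk_eq_mk_iff_isConj.mp hv)
      refine hC q hq ⟨x, rfl, hqv.trans ?_⟩
      rw [← MulEquiv.orderOf_eq (MulAut.conj c) v, MulAut.conj_apply, hc]
      exact orderOf_map_dvd _ x⟩
  haveI := Fintype.ofFinite T
  haveI := Fintype.ofFinite {C : ConjClasses (G ⧸ N) // ∀ q : ℕ, q.Prime → (∃ g : (G ⧸ N), ConjClasses.mk g = C ∧ q ∣ orderOf g) → q ∈ π}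
  show Nat.card T ≤ Nat.card TN * _
  rw [← Nat.card_congr (Equiv.sigmaFiberEquiv φ), Nat.card_sigma, mul_comm, Nat.card_eq_fintype_card (α := {C : ConjClasses (G ⧸ N) // _})]
  refine (Finset.sum_le_card_nsmul Finset.univ _ (Nat.card TN) fun D _ => ?_).trans (le_of_eq (by rw [Finset.card_univ, smul_eq_mul]))
  obtain ⟨gN, hgN⟩ := ConjClasses.mk_surjective D.1
  obtain ⟨g, rfl⟩ := QuotientGroup.mk_surjective gN
  refine Nat.le_of_mul_le_mul_right ?_ (Nat.card_pos : 0 < Nat.card N)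
  refine le_trans ?_ ((key g).trans hpairs)
  rw [← Nat.card_prod]
  have ex : ∀ C : {C : T // φ C = D}, ∃ x : G, ConjClasses.mk x = C.1.1 ∧ g⁻¹ * x ∈ N := by
    rintro ⟨⟨C, hC⟩, hCD⟩
    obtain ⟨x, rfl⟩ := ConjClasses.mk_surjective C
    have h1 : ConjClasses.mk (QuotientGroup.mk' N x) = ConjClasses.mk (QuotientGroup.mk' N g) :=
      (congrArg Subtype.val hCD).trans hgN.symm
    obtain ⟨c, hc⟩ := isConj_iff.mp (ConjClasses.mk_eq_mk_iff_isConj.mp h1)
    obtain ⟨c, rfl⟩ := QuotientGroup.mk'_surjective N c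
    refine ⟨c * x * c⁻¹, ConjClasses.mk_eq_mk_iff_isConj.mpr (isConj_iff.mpr ⟨c⁻¹, by group⟩), ?_⟩
    refine (QuotientGroup.eq).mp (Eq.symm ?_)
    rw [← map_inv, ← map_mul, ← map_mul] at hc
    exact hc
  choose x hx1 hx2 using ex
  let R : {C : T // φ C = D} → G → N := fun C z =>
    if h : ∃ t : N, (t : G) * x C * (t : G)⁻¹ = z then h.choose else 1
  have hR : ∀ C (m : N), (R C ((m : G) * x C * (m : G)⁻¹) : G) * x C * (R C ((m : G) * x C * (m : G)⁻¹) : G)⁻¹ =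
      (m : G) * x C * (m : G)⁻¹ := fun C m => by
    have h : ∃ t : N, (t : G) * x C * (t : G)⁻¹ = (m : G) * x C * (m : G)⁻¹ := ⟨m, rfl⟩
    simp only [R, dif_pos h]
    exact h.choose_spec
  refine Nat.card_le_card_of_injective (fun p => ⟨((p.2 : G) * x p.1 * (p.2 : G)⁻¹,
    p.2 * (R p.1 ((p.2 : G) * x p.1 * (p.2 : G)⁻¹))⁻¹), ?_, ?_, ?_⟩) ?_
  · intro q hq hqx
    refine p.1.1.2 q hq ⟨x p.1, hx1 p.1, ?_⟩
    rwa [← MulAut.conj_apply, MulEquiv.orderOf_eq] at hqx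
  · have h1 : g⁻¹ * (p.2 : G) * g ∈ N := by
      simpa using Subgroup.Normal.conj_mem inferInstance (p.2 : G) p.2.2 g⁻¹
    have := N.mul_mem (N.mul_mem h1 (hx2 p.1)) (N.inv_mem p.2.2)
    simpa [mul_assoc] using this
  · push_cast
    have h := hR p.1 p.2
    set r : G := (R p.1 ((p.2 : G) * x p.1 * (p.2 : G)⁻¹) : G) with hr
    show ((p.2 : G) * x p.1 * (p.2 : G)⁻¹) * ((p.2 : G) * r⁻¹) = ((p.2 : G) * r⁻¹) * ((p.2 : G) * x p.1 * (p.2 : G)⁻¹)
    conv_rhs => rw [← h]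
    group
  · rintro ⟨C, m⟩ ⟨C', m'⟩ h
    simp only [Subtype.mk.injEq, Prod.mk.injEq] at h
    obtain ⟨h1, h2⟩ := h
    have hCC : C = C' := Subtype.ext (Subtype.ext (by
      rw [← hx1 C, ← hx1 C']
      exact ConjClasses.mk_eq_mk_iff_isConj.mpr (isConj_iff.mpr ⟨(m' : G)⁻¹ * m, by
        rw [show ((m' : G)⁻¹ * m) * x C * ((m' : G)⁻¹ * m)⁻¹ = (m' : G)⁻¹ * ((m : G) * x C * (m : G)⁻¹) * m' by group, h1]
        group⟩)))
    subst hCC
    rw [h1] at h2
    rw [mul_right_cancel h2]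

end Cfsg.Agent.S4152
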