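import Cfsg.Statements.S4153
import Mathlib

set_option autoImplicit false
open Cfsg

namespace Cfsg.Agent.S4153

/-- Let G be a finite group, p a prime, N a normal subgroup, P a Sylow p-subgroup of G and P̄ a Sylow p-subgroup of G/N. Count the elements of p-power order, the identity included. Then (number of such elements of G/N)/#P̄ ≤ (number of such elements of G)/#P, stated as a cross-multiplied inequality, with equality when N is central. -/
theorem result {G : Type*} [Group G] [Finite G] (p : ℕ) [Fact p.Prime] (N : Subgroup G) [N.Normal]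
    (P : Sylow p G) (Pbar : Sylow p (G ⧸ N)) :
    Nat.card {g : (G ⧸ N) // ∃ k : ℕ, orderOf g = p ^ k} * Nat.card (P : Subgroup G) ≤ Nat.card {g : G // ∃ k : ℕ, orderOf g = p ^ k} * Nat.card (Pbar : Subgroup (G ⧸ N)) ∧
    (N ≤ Subgroup.center G → Nat.card {g : (G ⧸ N) // ∃ k : ℕ, orderOf g = p ^ k} * Nat.card (P : Subgroup G) = Nat.card {g : G // ∃ k : ℕ, orderOf g = p ^ k} * Nat.card (Pbar : Subgroup (G ⧸ N))) := by
  classical
  have : Fintype G := Fintype.ofFinite G
  have : Fintype (G ⧸ N) := Fintype.ofFinite _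
  let K := (N : Subgroup G) ⊓ (P : Subgroup G)
  have hcardP : ∀ (S : Sylow p G) (T : Sylow p (G ⧸ N)),
      Nat.card (S : Subgroup G) = Nat.card (T : Subgroup (G ⧸ N)) * Nat.card ↥((S : Subgroup G) ⊓ N) := by
    intro S T
    have hs := QuotientGroup.mk'_surjective N
    let S' := S.mapSurjective hs
    rw [← Nat.card_congr (Sylow.equiv S' T).toEquiv]
    show _ = Nat.card ((S : Subgroup G).map (QuotientGroup.mk' N)) * _
    let f := (QuotientGroup.mk' N).subgroupMap (S : Subgroup G)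
    have hf : Function.Surjective f := (QuotientGroup.mk' N).subgroupMap_surjective _
    have h1 : Nat.card (S : Subgroup G) = Nat.card f.ker * f.ker.index := (f.ker.card_mul_index).symm
    have h2 : f.ker.index = Nat.card ((S : Subgroup G).map (QuotientGroup.mk' N)) := by
      rw [Subgroup.index_ker, MonoidHom.range_eq_top.2 hf, Subgroup.card_top]
    have h3 : f.ker = N.subgroupOf (S : Subgroup G) := by
      ext x
      simp [f, MonoidHom.mem_ker, Subtype.ext_iff, Subgroup.mem_subgroupOf]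
    rw [h1, h2, h3, mul_comm, ← Subgroup.inf_subgroupOf_left]
    congr 1
    exact Nat.card_congr (Subgroup.subgroupOfEquivOfLe inf_le_left).toEquiv
  let E := {g : G // ∃ k : ℕ, orderOf g = p ^ k}
  let F := {g : (G ⧸ N) // ∃ k : ℕ, orderOf g = p ^ k}
  have hπ : ∀ e : E, ∃ k : ℕ, orderOf (e.1 : G ⧸ N) = p ^ k := fun e => by
    obtain ⟨k, hk⟩ := e.2
    obtain ⟨j, -, hj⟩ := (Nat.dvd_prime_pow Fact.out).1 (hk ▸ orderOf_map_dvd (QuotientGroup.mk' N) e.1)
    exact ⟨j, hj⟩
  let π : E → F := fun e => ⟨(e.1 : G ⧸ N), hπ e⟩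
  have hzp : ∀ g : G, (∃ k : ℕ, orderOf g = p ^ k) → IsPGroup p (Subgroup.zpowers g) := by
    rintro g ⟨k, hk⟩; rw [IsPGroup.iff_card]; exact ⟨k, by rw [Nat.card_zpowers, hk]⟩
  have hmem : ∀ (S : Sylow p G) (g : G), g ∈ (S : Subgroup G) → ∃ k : ℕ, orderOf g = p ^ k := by
    intro S g hg
    obtain ⟨k, hk⟩ := IsPGroup.iff_orderOf.1 S.isPGroup' ⟨g, hg⟩
    exact ⟨k, by rw [← hk, Subgroup.orderOf_mk]⟩
  have hlift : ∀ a : F, ∃ g : G, (∃ k : ℕ, orderOf g = p ^ k) ∧ (g : G ⧸ N) = a.1 := by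
    rintro ⟨a, k, hk⟩
    obtain ⟨g, rfl⟩ := QuotientGroup.mk_surjective a
    obtain ⟨e, m, hm, hem⟩ := Nat.exists_eq_pow_mul_and_not_dvd (orderOf_pos g).ne' p (Fact.out (p := p.Prime)).ne_one
    have hcop : m.Coprime (orderOf (g : G ⧸ N)) := by
      rw [hk]
      exact Nat.Coprime.pow_right k (((Fact.out (p := p.Prime)).coprime_iff_not_dvd).2 hm).symm
    obtain ⟨j, hj⟩ := exists_pow_eq_self_of_coprime hcop
    refine ⟨(g ^ m) ^ j, ?_, by rw [QuotientGroup.mk_pow, QuotientGroup.mk_pow]; exact hj⟩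
    obtain ⟨i, -, hi⟩ := (Nat.dvd_prime_pow Fact.out).1 (orderOf_dvd_of_pow_eq_one
      (show ((g ^ m) ^ j) ^ (p ^ e) = 1 by
        rw [← pow_mul, ← pow_mul, show m * (j * p ^ e) = (p ^ e * m) * j by ring, pow_mul, ← hem,
          pow_orderOf_eq_one, one_pow]))
    exact ⟨i, hi⟩
  have hfib : ∀ a : F, Nat.card ↥((P : Subgroup G) ⊓ N) ≤ Nat.card {e : E // π e = a} := by
    intro a
    obtain ⟨g, hg, hga⟩ := hlift a
    obtain ⟨S, hS⟩ := (hzp g hg).exists_le_sylow
    have hgS : g ∈ (S : Subgroup G) := hS (Subgroup.mem_zpowers g)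
    have h1 : Nat.card ↥((P : Subgroup G) ⊓ N) = Nat.card ↥((S : Subgroup G) ⊓ N) := by
      have e1 := hcardP P Pbar
      have e2 := hcardP S Pbar
      rw [Nat.card_congr (Sylow.equiv S P).toEquiv, e1] at e2
      exact Nat.eq_of_mul_eq_mul_left Nat.card_pos e2
    rw [h1]
    refine Nat.card_le_card_of_injective
      (fun z => (⟨⟨g * z.1, hmem S _ (mul_mem hgS z.2.1)⟩, Subtype.ext (by
        show ((g * z.1 : G) : G ⧸ N) = a.1
        rw [QuotientGroup.mk_mul, (QuotientGroup.eq_one_iff _).2 z.2.2, mul_one, hga])⟩ :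
          {e : E // π e = a})) fun u v h => Subtype.ext ?_
    exact mul_left_cancel (congrArg (fun e : {e : E // π e = a} => e.1.1) h)
  have hsum : Nat.card E = ∑ a : F, Nat.card {e : E // π e = a} := by
    rw [← Nat.card_sigma]; exact (Nat.card_congr (Equiv.sigmaFiberEquiv π)).symm
  refine ⟨?_, fun hc => ?_⟩
  · rw [hcardP P Pbar, ← mul_assoc, mul_right_comm]
    refine Nat.mul_le_mul_right _ ?_
    show Nat.card F * _ ≤ Nat.card E
    rw [hsum, Nat.card_eq_fintype_card (α := F), ← Finset.card_univ, ← smul_eq_mul]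
    exact Finset.card_nsmul_le_sum _ _ _ fun a _ => hfib a
  · have hfib' : ∀ a : F, Nat.card {e : E // π e = a} ≤ Nat.card ↥((P : Subgroup G) ⊓ N) := by
      intro a
      obtain ⟨g, hg, hga⟩ := hlift a
      have hz : ∀ e : {e : E // π e = a}, g⁻¹ * e.1.1 ∈ (P : Subgroup G) ⊓ N := by
        intro e
        have hn : g⁻¹ * e.1.1 ∈ N := QuotientGroup.eq.1 (hga.trans (congrArg (fun a : F => a.1) e.2).symm)
        have hcomm : Commute g e.1.1 := by
          have h := Subgroup.mem_center_iff.1 (hc hn) g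
          show g * e.1.1 = e.1.1 * g
          calc g * e.1.1 = g * (g * (g⁻¹ * e.1.1)) := by group
            _ = g * ((g⁻¹ * e.1.1) * g) := by rw [h]
            _ = e.1.1 * g := by group
        obtain ⟨i, hi⟩ := hg
        obtain ⟨j, hj⟩ := e.1.2
        have hd : orderOf (g⁻¹ * e.1.1) ∣ p ^ (i + j) := by
          refine orderOf_dvd_of_pow_eq_one ?_
          have h1 : g ^ (p ^ (i + j)) = 1 := orderOf_dvd_iff_pow_eq_one.1 (hi ▸ pow_dvd_pow p (by omega))
          have h2 : e.1.1 ^ (p ^ (i + j)) = 1 := orderOf_dvd_iff_pow_eq_one.1 (hj ▸ pow_dvd_pow p (by omega))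
          rw [hcomm.inv_left.mul_pow, inv_pow, h1, h2, inv_one, one_mul]
        obtain ⟨k, -, hk⟩ := (Nat.dvd_prime_pow Fact.out).1 hd
        have hzn : (Subgroup.zpowers (g⁻¹ * e.1.1)).Normal := ⟨fun x hx y => by
          obtain ⟨t, rfl⟩ := hx
          have h := Subgroup.mem_center_iff.1 (zpow_mem (hc hn) t) y
          show y * (g⁻¹ * e.1.1) ^ t * y⁻¹ ∈ _
          rw [h, mul_inv_cancel_right]
          exact ⟨t, rfl⟩⟩
        exact ⟨(hzp _ ⟨k, hk⟩).le_sylow_of_normal P (Subgroup.mem_zpowers _), hn⟩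
      refine Nat.card_le_card_of_injective (fun e => (⟨_, hz e⟩ : ↥((P : Subgroup G) ⊓ N))) fun u v h => ?_
      exact Subtype.ext (Subtype.ext (mul_left_cancel (congrArg (fun z : ↥((P : Subgroup G) ⊓ N) => (z : G)) h)))
    rw [hcardP P Pbar]
    have hE : Nat.card E = Nat.card F * Nat.card ↥((P : Subgroup G) ⊓ N) := by
      rw [hsum, Finset.sum_congr rfl (fun a _ => le_antisymm (hfib' a) (hfib a)), Finset.sum_const,
        Finset.card_univ, smul_eq_mul, ← Nat.card_eq_fintype_card]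
    show Nat.card F * _ = Nat.card E * _
    rw [hE]; ring

end Cfsg.Agent.S4153
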