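import Cfsg.Statements.S4154
import Mathlib

set_option autoImplicit false
open Cfsg

namespace Cfsg.Agent.S4154

/-- Let G be a finite group and α an automorphism of G such that every element of G is the product of an element fixed by α and an element of the form g⁻¹α(g). If N is a normal α-invariant subgroup, then the automorphism ᾱ induced on G/N has the same property, and every coset fixed by ᾱ contains an element fixed by α (so the fixed points of ᾱ are the images of the fixed points of α). -/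
theorem result {G : Type*} [Group G] [Finite G] (α : MulAut G)
    (hccp : ∀ x : G, ∃ c g : G, α c = c ∧ x = c * (g⁻¹ * α g))
    (N : Subgroup G) [N.Normal] (hN : ∀ n ∈ N, α n ∈ N) :
    (∀ x : G, ∃ c g : G, c⁻¹ * α c ∈ N ∧ x⁻¹ * (c * (g⁻¹ * α g)) ∈ N) ∧
    (∀ x : G, x⁻¹ * α x ∈ N → ∃ c : G, α c = c ∧ c⁻¹ * x ∈ N) := by
  classical
  refine ⟨fun x => ?_, ?_⟩
  · obtain ⟨c, g, hc, rfl⟩ := hccp x
    exact ⟨c, g, by rw [hc, inv_mul_cancel]; exact one_mem N, by rw [inv_mul_cancel]; exact one_mem N⟩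
  have hNc : ∀ n ∈ N, ∀ y : G, y⁻¹ * n * y ∈ N := fun n hn y => by
    simpa using Subgroup.Normal.conj_mem (inferInstance : N.Normal) n hn y⁻¹
  let Cs : Subgroup G :=
    { carrier := {x | α x = x}
      mul_mem' := fun {a b} ha hb => by simp_all
      one_mem' := map_one α
      inv_mem' := fun {a} ha => by simp_all }
  let T : Subgroup G :=
    { carrier := {x | x⁻¹ * α x ∈ N}
      mul_mem' := fun {a b} ha hb => by
        show (a * b)⁻¹ * α (a * b) ∈ N
        have h := mul_mem (hNc _ ha b) hb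
        rw [map_mul]
        have e : (a * b)⁻¹ * (α a * α b) = b⁻¹ * (a⁻¹ * α a) * b * (b⁻¹ * α b) := by group
        rw [e]; exact h
      one_mem' := by simp [one_mem]
      inv_mem' := fun {a} ha => by
        show a⁻¹⁻¹ * α a⁻¹ ∈ N
        rw [map_inv]
        have e : a⁻¹⁻¹ * (α a)⁻¹ = a⁻¹⁻¹ * (a⁻¹ * α a)⁻¹ * a⁻¹ := by group
        rw [e]
        exact hNc _ (inv_mem ha) a⁻¹ }
  let U := Cs ⊔ N
  have hUT : U ≤ T := by
    refine sup_le (fun x hx => ?_) (fun x hx => ?_)
    · show x⁻¹ * α x ∈ N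
      rw [show α x = x from hx, inv_mul_cancel]; exact one_mem N
    · exact mul_mem (inv_mem hx) (hN x hx)
  let φ : G → G := fun g => g⁻¹ * α g
  let f : (G ⧸ T) × U → G := fun qu => (qu.2 : G) * φ (qu.1.out⁻¹)
  have hf : Function.Surjective f := by
    intro x
    obtain ⟨c, g, hc, rfl⟩ := hccp x
    let q : G ⧸ T := (g⁻¹ : G)
    have ht : q.out⁻¹ * g⁻¹ ∈ T := QuotientGroup.eq.1 (QuotientGroup.out_eq' q)
    set t := q.out⁻¹ * g⁻¹ with htdef
    have hr : q.out⁻¹ = t * g := by rw [htdef]; group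
    let n' := g⁻¹ * (t⁻¹ * α t) * g
    have hn' : n' ∈ N := hNc _ ht g
    refine ⟨(q, ⟨c * n'⁻¹, mul_mem (Subgroup.mem_sup_left (show c ∈ Cs from hc))
      (Subgroup.mem_sup_right (inv_mem hn'))⟩), ?_⟩
    show c * n'⁻¹ * ((q.out⁻¹)⁻¹ * α q.out⁻¹) = c * (g⁻¹ * α g)
    rw [hr, map_mul]
    simp only [n']
    group
  have hle := Nat.card_le_card_of_surjective f hf
  rw [Nat.card_prod, T.card_eq_card_quotient_mul_card_subgroup] at hle
  have hUT' : U = T := Subgroup.eq_of_le_of_card_ge hUT (Nat.le_of_mul_le_mul_left hle Nat.card_pos)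
  intro x hx
  have hxU : x ∈ (↑(Cs ⊔ N) : Set G) := by
    show x ∈ U
    rw [hUT']; exact hx
  rw [Subgroup.mul_normal] at hxU
  obtain ⟨c, hc, n, hn, rfl⟩ := hxU
  exact ⟨c, hc, by simpa using hn⟩

end Cfsg.Agent.S4154
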