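import Cfsg.Statements.S4155
import Cfsg.Agent.Lib.Solv.EqualOrder
import Cfsg.Agent.Lib.Struct.FpfComplement

set_option autoImplicit false
open scoped Pointwise
open Cfsg

namespace Cfsg.Agent.S4155

/-- Let G be a finite group and N a proper non-trivial normal nilpotent subgroup whose order is not a prime power, such that for every x outside N all elements of the coset xN have the same order as x. Then N is the Fitting subgroup of G, and for every prime q every Sylow q-subgroup of G/N is cyclic or generalized quaternion. -/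
theorem result {G : Type*} [Group G] [Finite G] (N : Subgroup G) [N.Normal] (hN1 : N ≠ ⊥) (hN2 : N ≠ ⊤)
    (heq : ∀ x : G, x ∉ N → ∀ n ∈ N, orderOf (x * n) = orderOf x)
    (hnil : Group.IsNilpotent N) (hnpp : ¬ IsPrimePow (Nat.card N)) :
    N = Cfsg.fittingSubgroup G ∧
    ∀ (q : ℕ) [Fact q.Prime] (Q : Sylow q (G ⧸ N)), IsCyclic (Q : Subgroup (G ⧸ N)) ∨ ∃ n : ℕ, Nonempty ((Q : Subgroup (G ⧸ N)) ≃* QuaternionGroup (2 ^ n)) := by
  open Subgroup Cfsg.Agent in
  have hNF : N ≤ Cfsg.fittingSubgroup G := Solv.le_fittingSubgroup hnil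
  have hNe : N = Cfsg.fittingSubgroup G := by
    refine le_antisymm hNF ?_
    by_contra h
    obtain ⟨q, hq, hF⟩ := Solv.EqualOrder.isPrimePow_fitting hN1 heq (lt_of_le_not_ge hNF h)
    haveI : Fact q.Prime := ⟨hq⟩
    haveI : Nontrivial N := (nontrivial_iff_ne_bot N).2 hN1
    obtain ⟨k, hk0, hk⟩ := (hF.to_le hNF).nontrivial_iff_card.1 inferInstance
    exact hnpp ⟨q, k, hq.prime, hk0, hk.symm⟩
  refine ⟨hNe, fun q hqf Q => ?_⟩
  have hq := hqf.out
  obtain ⟨r, hrq, hr⟩ : ∃ r : Nat.Primes, (r : ℕ) ≠ q ∧ Cfsg.pCore (r : ℕ) G ≠ ⊥ := by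
    by_contra h
    push Not at h
    have hle : N ≤ Cfsg.pCore q G := by
      rw [hNe, Solv.fittingSubgroup_eq_iSup_pCore]
      refine iSup_le fun r => ?_
      by_cases hr : (r : ℕ) = q
      · rw [hr]
      · rw [h r hr]; exact bot_le
    haveI : Nontrivial N := (nontrivial_iff_ne_bot N).2 hN1
    obtain ⟨k, hk0, hk⟩ := ((Solv.isPGroup_pCore q G).to_le hle).nontrivial_iff_card.1 inferInstance
    exact hnpp ⟨q, k, hq.prime, hk0, hk.symm⟩
  haveI : Fact (r : ℕ).Prime := ⟨r.2⟩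
  set M := Cfsg.pCore q G ⊓ N
  set R := Cfsg.pCore (r : ℕ) G
  have hRN : R ≤ N := hNe ▸ Solv.pCore_le_fittingSubgroup (r : ℕ)
  have hMR : M ⊓ R = ⊥ := by
    obtain ⟨i, hi⟩ := IsPGroup.iff_card.1 ((Solv.isPGroup_pCore q G).to_le (inf_le_left : M ≤ _))
    obtain ⟨j, hj⟩ := IsPGroup.iff_card.1 (Solv.isPGroup_pCore (r : ℕ) G)
    exact Solv.inf_eq_bot_of_coprime_card _ _ (by rw [hi, hj]; exact ((Nat.coprime_primes hq r.2).2 (Ne.symm hrq)).pow _ _)
  obtain ⟨Q0⟩ : Nonempty (Sylow q G) := inferInstance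
  set f := QuotientGroup.mk' M
  set A := (Q0 : Subgroup G).map f
  have hsame : ∀ x ∈ (Q0 : Subgroup G), x ∈ N → x ∈ M := by
    intro x hx hxN
    refine ⟨?_, hxN⟩
    haveI := hnil
    have hz : IsPGroup q (zpowers x) := Q0.isPGroup'.to_le (zpowers_le.2 hx)
    refine Solv.le_pCore_of_isSubnormal ?_ hz (mem_zpowers x)
    exact IsSubnormal.trans (zpowers_le.2 hxN) (Solv.isSubnormal_of_isNilpotent ((zpowers x).subgroupOf N)) (inferInstance : N.Normal).isSubnormal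
  have hK : R.map f ≠ ⊥ := by
    rw [Ne, Subgroup.map_eq_bot_iff, QuotientGroup.ker_mk']
    exact fun h => hr (le_bot_iff.1 (hMR ▸ le_inf h le_rfl))
  haveI : (R.map f).Normal := Normal.map inferInstance f (QuotientGroup.mk'_surjective M)
  have hA : IsPGroup q A := Q0.isPGroup'.map f
  have hcop : (Nat.card A).Coprime (Nat.card (R.map f)) := by
    obtain ⟨i, hi⟩ := IsPGroup.iff_card.1 hA
    obtain ⟨j, hj⟩ := IsPGroup.iff_card.1 ((Solv.isPGroup_pCore (r : ℕ) G).map f)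
    rw [hi, hj]
    exact ((Nat.coprime_primes hq r.2).2 (Ne.symm hrq)).pow _ _
  have hfpf : ∀ a ∈ A, a ≠ 1 → R.map f ⊓ centralizer {a} = ⊥ := by
    rintro _ ⟨x, hx, rfl⟩ hx1
    rw [eq_bot_iff]
    rintro _ ⟨⟨y, hy, rfl⟩, hc⟩
    have hc' := mem_centralizer_singleton_iff.1 hc
    have hm : y * x * y⁻¹ * x⁻¹ ∈ M := by
      refine (QuotientGroup.eq_one_iff _).1 ?_
      show f (y * x * y⁻¹ * x⁻¹) = 1
      rw [map_mul, map_mul, map_mul, map_inv, map_inv, hc', mul_inv_cancel_right, mul_inv_cancel]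
    have hR : y * x * y⁻¹ * x⁻¹ ∈ R := by
      rw [show y * x * y⁻¹ * x⁻¹ = y * (x * y⁻¹ * x⁻¹) by group]
      exact R.mul_mem hy (Normal.conj_mem (inferInstance : R.Normal) _ (R.inv_mem hy) x)
    have h1 : y * x * y⁻¹ * x⁻¹ = 1 := mem_bot.1 (hMR ▸ ⟨hm, hR⟩)
    have hxN : x ∉ N := fun h => hx1 ((QuotientGroup.eq_one_iff x).2 (hsame x hx h))
    obtain ⟨i, hi⟩ := IsPGroup.iff_orderOf.1 Q0.isPGroup' ⟨x, hx⟩
    obtain ⟨j, hj⟩ := IsPGroup.iff_orderOf.1 (Solv.isPGroup_pCore (r : ℕ) G) ⟨y, hy⟩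
    rw [Subgroup.orderOf_mk] at hi hj
    have hy1 := Solv.EqualOrder.eq_one_of_commute heq hxN (hRN hy)
      (show Commute x y from (mul_inv_eq_iff_eq_mul.1 (mul_inv_eq_one.1 h1)).symm)
      (by rw [hi, hj]; exact ((Nat.coprime_primes hq r.2).2 (Ne.symm hrq)).pow _ _)
    rw [hy1, map_one]
    exact one_mem _
  have hmain := Struct.Frobenius.sylow_cyclic_or_quaternion hK ((normalizer_eq_top (R.map f)).symm ▸ le_top) hcop hfpf hA
  -- `A` is isomorphic to a Sylow subgroup of `G ⧸ N`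
  set g := QuotientGroup.mk' N
  set φ := f.subgroupMap (Q0 : Subgroup G)
  set ψ := g.subgroupMap (Q0 : Subgroup G)
  have hker : φ.ker = ψ.ker := by
    ext ⟨x, hx⟩
    rw [MonoidHom.mem_ker, MonoidHom.mem_ker, ← Subtype.coe_inj, ← Subtype.coe_inj]
    show ((x : G) : G ⧸ M) = 1 ↔ ((x : G) : G ⧸ N) = 1
    rw [QuotientGroup.eq_one_iff, QuotientGroup.eq_one_iff]
    exact ⟨fun h => h.2, hsame x hx⟩
  have e1 : A ≃* (Q0 : Subgroup G).map g :=
    (QuotientGroup.quotientKerEquivOfSurjective φ (MonoidHom.subgroupMap_surjective _ _)).symm.trans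
      ((QuotientGroup.quotientMulEquivOfEq hker).trans (QuotientGroup.quotientKerEquivOfSurjective ψ (MonoidHom.subgroupMap_surjective _ _)))
  have e2 : (Q0 : Subgroup G).map g ≃* (Q : Subgroup (G ⧸ N)) :=
    (MulEquiv.subgroupCongr (Sylow.coe_mapSurjective (QuotientGroup.mk'_surjective N) Q0).symm).trans ((Q0.mapSurjective (QuotientGroup.mk'_surjective N)).equiv Q)
  rcases hmain with h | ⟨-, n, -, ⟨e⟩⟩
  · exact Or.inl ((e1.trans e2).isCyclic.1 h)
  · exact Or.inr ⟨n, ⟨(e1.trans e2).symm.trans e⟩⟩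

end Cfsg.Agent.S4155
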