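import Cfsg.Statements.S4156
import Mathlib

set_option autoImplicit false
open Cfsg

namespace Cfsg.Agent.S4156

/-- Let n ≥ 5 and F a finite field. Then the projective special linear group PSL_n(F) contains a subgroup isomorphic to the alternating group of degree n + 1. -/
theorem result (n : ℕ) (hn : 5 ≤ n) (F : Type*) [Field F] [Finite F] :
    ∃ f : alternatingGroup (Fin (n + 1)) →* Matrix.ProjectiveSpecialLinearGroup (Fin n) F, Function.Injective f := by
  classical
  -- the sum-zero hyperplane
  let V : Submodule F (Fin (n + 1) → F) := LinearMap.ker (∑ i, LinearMap.proj i)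
  have hmemV : ∀ v, v ∈ V ↔ ∑ i, v i = 0 := fun v => by simp [V]
  have hdim : Module.finrank F V = n := by
    have hs : Function.Surjective (∑ i, LinearMap.proj i : (Fin (n + 1) → F) →ₗ[F] F) := by
      intro c
      exact ⟨Pi.single 0 c, by simp [Fintype.sum_pi_single']⟩
    have h := LinearMap.finrank_range_add_finrank_ker (∑ i, LinearMap.proj i : (Fin (n + 1) → F) →ₗ[F] F)
    rw [LinearMap.range_eq_top.2 hs, finrank_top, Module.finrank_self, Module.finrank_fin_fun] at h
    show Module.finrank F (LinearMap.ker _) = n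
    omega
  let b : Module.Basis (Fin n) F V := Module.finBasisOfFinrankEq F V hdim
  let act : alternatingGroup (Fin (n + 1)) →* (V →ₗ[F] V) :=
    { toFun := fun σ =>
        { toFun := fun v => ⟨fun i => v.1 (σ.1.symm i), (hmemV _).2 (by
            rw [Equiv.sum_comp σ.1.symm]; exact (hmemV _).1 v.2)⟩
          map_add' := fun u v => rfl
          map_smul' := fun c v => rfl }
      map_one' := rfl
      map_mul' := fun σ τ => rfl }
  let M : alternatingGroup (Fin (n + 1)) →* Matrix (Fin n) (Fin n) F :=
    (LinearMap.toMatrixAlgEquiv b).toRingEquiv.toMonoidHom.comp act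
  have hsimple : IsSimpleGroup (alternatingGroup (Fin (n + 1))) :=
    alternatingGroup.isSimpleGroup (by simp; omega)
  obtain ⟨g, h, hgh⟩ : ∃ g h : alternatingGroup (Fin (n + 1)), g * h ≠ h * g := by
    by_contra hh
    push Not at hh
    have hcm : IsMulCommutative (alternatingGroup (Fin (n + 1))) := ⟨⟨hh⟩⟩
    have h1 := alternatingGroup.center_eq_bot (α := Fin (n + 1)) (by simp; omega)
    have h2 : Subgroup.center (alternatingGroup (Fin (n + 1))) = ⊤ := by
      rw [eq_top_iff]; intro x _; exact Subgroup.mem_center_iff.2 fun y => hh y x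
    have : Nontrivial (alternatingGroup (Fin (n + 1))) := alternatingGroup.nontrivial_of_three_le_card (by simp; omega)
    rw [h2] at h1
    exact top_ne_bot h1
  have hMdet : ∀ σ, (M σ).det = 1 := by
    let d : alternatingGroup (Fin (n + 1)) →* Fˣ :=
      (Matrix.detMonoidHom.comp M).toHomUnits
    have hd : d.ker = ⊤ := by
      rcases (MonoidHom.normal_ker d).eq_bot_or_eq_top with e | e
      · exfalso
        exact hgh ((MonoidHom.ker_eq_bot_iff d).1 e (by rw [map_mul, map_mul, mul_comm]))
      · exact e
    intro σ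
    have h1 : d σ = 1 := MonoidHom.mem_ker.1 (hd ▸ Subgroup.mem_top σ)
    exact congrArg Units.val h1
  let L : alternatingGroup (Fin (n + 1)) →* Matrix.SpecialLinearGroup (Fin n) F :=
    { toFun := fun σ => ⟨M σ, hMdet σ⟩
      map_one' := Subtype.ext (map_one M)
      map_mul' := fun σ τ => Subtype.ext (map_mul M σ τ) }
  have hL : Function.Injective L := by
    intro σ τ hst
    have h1 : act σ = act τ := (LinearMap.toMatrixAlgEquiv b).injective (congrArg Subtype.val hst)
    apply Subtype.ext
    apply Equiv.symm_bijective.injective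
    apply Equiv.ext
    intro i
    by_contra hne
    obtain ⟨k, hk⟩ : ∃ k : Fin (n + 1), k ∉ ({σ.1.symm i, τ.1.symm i} : Finset (Fin (n + 1))) := by
      by_contra hh
      push Not at hh
      have := Finset.card_le_card (fun x _ => hh x : (Finset.univ : Finset (Fin (n + 1))) ⊆ _)
      have h2 := Finset.card_le_two (a := σ.1.symm i) (b := τ.1.symm i)
      simp at this
      omega
    simp only [Finset.mem_insert, Finset.mem_singleton, not_or] at hk
    let v : V := ⟨Pi.single (σ.1.symm i) 1 - Pi.single k 1, (hmemV _).2 (by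
      simp [Finset.sum_sub_distrib, Fintype.sum_pi_single'])⟩
    have h3 : (act σ v).1 i = (act τ v).1 i := by rw [h1]
    change v.1 (σ.1.symm i) = v.1 (τ.1.symm i) at h3
    simp only [v, Pi.sub_apply, Pi.single_eq_same, Pi.single_eq_of_ne (Ne.symm hk.1),
      Pi.single_eq_of_ne (Ne.symm hk.2), Pi.single_eq_of_ne (fun e => hne e.symm), sub_zero] at h3
    exact one_ne_zero h3
  refine ⟨(QuotientGroup.mk' (Subgroup.center (Matrix.SpecialLinearGroup (Fin n) F))).comp L, ?_⟩
  rw [← MonoidHom.ker_eq_bot_iff]
  rcases (MonoidHom.normal_ker ((QuotientGroup.mk' (Subgroup.center (Matrix.SpecialLinearGroup (Fin n) F))).comp L)).eq_bot_or_eq_top with e | e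
  · exact e
  · exfalso
    have hz : L g ∈ Subgroup.center (Matrix.SpecialLinearGroup (Fin n) F) :=
      (QuotientGroup.eq_one_iff _).1 (MonoidHom.mem_ker.1 (e ▸ Subgroup.mem_top g))
    exact hgh (hL (by rw [map_mul, map_mul]; exact ((Subgroup.mem_center_iff.1 hz) (L h)).symm))

end Cfsg.Agent.S4156
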