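import Cfsg.Statements.S4160
import Mathlib

set_option autoImplicit false
open Cfsg

namespace Cfsg.Agent.S4160

/-- Let G be a finite group and p ≠ q primes each dividing the size of some conjugacy class of G, such that no conjugacy class size is divisible by pq. Then G has a normal p-complement or a normal q-complement. -/
theorem result {G : Type*} [Group G] [Finite G] (p q : ℕ) (hp : p.Prime) (hq : q.Prime) (hpq : p ≠ q)
    (hp' : ∃ x : G, p ∣ (Subgroup.centralizer ({x} : Set G)).index) (hq' : ∃ x : G, q ∣ (Subgroup.centralizer ({x} : Set G)).index) (h : ∀ x : G, ¬ p * q ∣ (Subgroup.centralizer ({x} : Set G)).index) :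
    Cfsg.HasNormalPComplement p G ∨ Cfsg.HasNormalPComplement q G := by
  classical
  haveI := Fact.mk hp
  haveI := Fact.mk hq
  haveI : Fintype G := Fintype.ofFinite G
  haveI : ∀ r, Fintype (Sylow r G) := fun r => Fintype.ofFinite _
  -- Burnside transfer for either prime
  have burn : ∀ (r : ℕ) [Fact r.Prime] (R : Sylow r G),
      Subgroup.normalizer (R : Set G) ≤ Subgroup.centralizer (R : Set G) → Cfsg.HasNormalPComplement r G :=
    fun r _ R hR => ⟨R, _, inferInstance, MonoidHom.ker_transferSylow_isComplement' R hR⟩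
  -- every element centralizes a Sylow subgroup for one of the primes
  have sy : ∀ (r : ℕ) [Fact r.Prime] (x : G), ¬ r ∣ (Subgroup.centralizer ({x} : Set G)).index →
      ∃ R : Sylow r G, x ∈ Subgroup.centralizer (R : Set G) := by
    intro r _ x hx
    obtain ⟨X⟩ : Nonempty (Sylow r ↥(Subgroup.centralizer ({x} : Set G))) := inferInstance
    have hi : ¬ r ∣ ((X : Subgroup _).map (Subgroup.centralizer ({x} : Set G)).subtype).index := by
      rw [Subgroup.index_map_subtype]
      exact fun hd => ((Fact.out : r.Prime).dvd_mul.mp hd).elim X.not_dvd_index hx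
    refine ⟨(X.isPGroup'.map _).toSylow hi, fun y hy => ?_⟩
    have hy' : y ∈ Subgroup.centralizer ({x} : Set G) := Subgroup.map_subtype_le (X : Subgroup _) (SetLike.mem_coe.mp (IsPGroup.toSylow_coe (X.isPGroup'.map _) hi ▸ hy))
    exact (Subgroup.mem_centralizer_singleton_iff.mp hy')
  -- the count of one family
  have count : ∀ (r : ℕ) [Fact r.Prime],
      (∀ R : Sylow r G, ¬ Subgroup.normalizer (R : Set G) ≤ Subgroup.centralizer (R : Set G)) →
      2 * ((Finset.univ.filter fun x : G => x ≠ 1 ∧ ∃ R : Sylow r G, x ∈ Subgroup.centralizer (R : Set G)).card + 1)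
        ≤ Nat.card G := by
    intro r _ hR
    obtain ⟨R₀⟩ : Nonempty (Sylow r G) := inferInstance
    have hsub : (Finset.univ.filter fun x : G => x ≠ 1 ∧ ∃ R : Sylow r G, x ∈ Subgroup.centralizer (R : Set G)) ⊆
        Finset.univ.biUnion fun R : Sylow r G =>
          (Finset.univ.filter fun x : G => x ∈ Subgroup.centralizer (R : Set G)).erase 1 := by
      intro x hx
      obtain ⟨-, hx1, R, hxR⟩ := Finset.mem_filter.mp hx
      exact Finset.mem_biUnion.mpr ⟨R, Finset.mem_univ _, Finset.mem_erase.mpr ⟨hx1,
        Finset.mem_filter.mpr ⟨Finset.mem_univ _, hxR⟩⟩⟩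
    have h1 := (Finset.card_le_card hsub).trans Finset.card_biUnion_le
    have hterm : ∀ R : Sylow r G,
        2 * (((Finset.univ.filter fun x : G => x ∈ Subgroup.centralizer (R : Set G)).erase 1).card + 1)
          ≤ Nat.card (Subgroup.normalizer (R : Set G)) := by
      intro R
      rw [Finset.card_erase_add_one (by simp [Subgroup.one_mem])]
      have e : (Finset.univ.filter fun x : G => x ∈ Subgroup.centralizer (R : Set G)).card =
          Nat.card (Subgroup.centralizer (R : Set G)) := by
        rw [Nat.card_eq_fintype_card, Fintype.card_subtype]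
      rw [e]
      have hle : Subgroup.centralizer (R : Set G) ≤ Subgroup.normalizer (R : Set G) :=
        Subgroup.centralizer_le_normalizer _
      rw [← Subgroup.relIndex_bot_left (H := Subgroup.normalizer (R : Set G)), ← Subgroup.relIndex_mul_relIndex ⊥ _ _ bot_le hle,
        Subgroup.relIndex_bot_left]
      refine (mul_comm 2 _).trans_le (Nat.mul_le_mul_left _ ?_)
      have h0 : (Subgroup.centralizer (R : Set G)).relIndex (Subgroup.normalizer (R : Set G)) ≠ 1 :=
        fun e => hR R (Subgroup.relIndex_eq_one.mp e)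
      have h0' : (Subgroup.centralizer (R : Set G)).relIndex (Subgroup.normalizer (R : Set G)) ≠ 0 :=
        Subgroup.index_ne_zero_of_finite
      omega
    have hN : ∀ R : Sylow r G, Nat.card (Subgroup.normalizer (R : Set G)) * Nat.card (Sylow r G) = Nat.card G :=
      fun R => by rw [R.card_eq_index_normalizer, Subgroup.card_mul_index]
    have h2 : 2 * (∑ R : Sylow r G,
        (((Finset.univ.filter fun x : G => x ∈ Subgroup.centralizer (R : Set G)).erase 1).card + 1))
        ≤ Nat.card G := by
      rw [Finset.mul_sum]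
      refine (Finset.sum_le_sum fun R _ => (hterm R).trans_eq (Nat.eq_div_of_mul_eq_left Nat.card_pos.ne' (hN R))).trans ?_
      rw [Finset.sum_const, Finset.card_univ, smul_eq_mul, ← Nat.card_eq_fintype_card]
      exact Nat.mul_div_le _ _
    rw [Finset.sum_add_distrib, Finset.sum_const, smul_eq_mul, mul_one, Finset.card_univ] at h2
    have : 0 < Fintype.card (Sylow r G) := Fintype.card_pos
    omega
  by_contra hcon
  rw [not_or] at hcon
  have hP := count p fun R hR => hcon.1 (burn p R hR)
  have hQ := count q fun R hR => hcon.2 (burn q R hR)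
  have hall : (Finset.univ : Finset G).erase 1 ⊆
      (Finset.univ.filter fun x : G => x ≠ 1 ∧ ∃ R : Sylow p G, x ∈ Subgroup.centralizer (R : Set G)) ∪
      (Finset.univ.filter fun x : G => x ≠ 1 ∧ ∃ R : Sylow q G, x ∈ Subgroup.centralizer (R : Set G)) := by
    intro x hx
    have hx1 := (Finset.mem_erase.mp hx).1
    rw [Finset.mem_union, Finset.mem_filter, Finset.mem_filter]
    by_cases hd : p ∣ (Subgroup.centralizer ({x} : Set G)).index
    · refine Or.inr ⟨Finset.mem_univ _, hx1, sy q x fun hd' => h x ?_⟩
      exact Nat.Coprime.mul_dvd_of_dvd_of_dvd ((Nat.coprime_primes hp hq).mpr hpq) hd hd'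
    · exact Or.inl ⟨Finset.mem_univ _, hx1, sy p x hd⟩
  have h3 := (Finset.card_le_card hall).trans (Finset.card_union_le _ _)
  rw [Finset.card_erase_of_mem (Finset.mem_univ _), Finset.card_univ, ← Nat.card_eq_fintype_card] at h3
  have := Nat.card_pos (α := G)
  omega

end Cfsg.Agent.S4160
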