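import Cfsg.Statements.S4168
import Mathlib.GroupTheory.Transfer

set_option autoImplicit false
open Cfsg

namespace Cfsg.Agent.S4168

/-- Let L be a finite quasisimple group (perfect with L/Z(L) simple). Then every prime dividing the order of the centre Z(L) also divides the order of L/Z(L). -/
theorem result {L : Type*} [Group L] [Finite L] (hL : Cfsg.IsQuasisimple L)
    (p : ℕ) (hp : p.Prime) (hdiv : p ∣ Nat.card (Subgroup.center L)) : p ∣ (Subgroup.center L).index := by
  haveI := Fact.mk hp
  obtain ⟨z, hz⟩ := exists_prime_orderOf_dvd_card' (G := Subgroup.center L) p hdiv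
  have hp' : Group.IsPerfect L := hL.1
  have h1 : (z : L) ∈ commutator L := by
    rw [hp'.commutator_eq_top]; trivial
  have key : ∀ f : L →* Subgroup.center L, f (z : L) = 1 := by
    intro f
    have hle : commutator L ≤ f.ker := by
      rw [commutator_def, Subgroup.commutator_le]
      intro a _ b _
      rw [MonoidHom.mem_ker, map_commutatorElement, commutatorElement_eq_one_iff_mul_comm]
      exact Subtype.ext (Subgroup.mem_center_iff.1 (f b).2 (f a : L))
    exact hle h1
  have h3 : (z : L) ^ (Subgroup.center L).index = 1 := by
    rw [← MonoidHom.transferCenterPow_apply, key, OneMemClass.coe_one]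
  have h4 := orderOf_dvd_of_pow_eq_one h3
  rwa [Subgroup.orderOf_coe, hz] at h4

end Cfsg.Agent.S4168
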