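import Cfsg.Statements.S4169
import Cfsg.Agent.Lib.Solv.SmallClass
import Cfsg.Agent.Lib.Struct.UniqueOrderP

set_option autoImplicit false
open scoped Pointwise
open Cfsg

namespace Cfsg.Agent.S4169

/-- Let P be a finite p-group whose conjugacy classes have exactly two sizes (1 and one other value). Then P has nilpotency class at most 3. -/
theorem result {P : Type*} [Group P] [Finite P] {p : ℕ} [Fact p.Prime] (hP : IsPGroup p P)
    (m : ℕ) (hm : 1 < m) (h : ∀ x : P, (Subgroup.centralizer ({x} : Set P)).index = 1 ∨ (Subgroup.centralizer ({x} : Set P)).index = m) :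
    upperCentralSeries P 3 = ⊤ := by
  open Subgroup in
  obtain ⟨A, hAn, hAc, hAs⟩ := Cfsg.Agent.Struct.exists_selfCentralizing_normal hP
  have hK : closure {x : P | (centralizer ({x} : Set P)).index = 1 ∨ (centralizer ({x} : Set P)).index = m} = ⊤ :=
    eq_top_iff.2 fun x _ => subset_closure (h x)
  have h1 := Cfsg.Agent.Solv.SmallClass.upperCentralSeries_three A (fun a ha b hb => (hAc a ha b hb).eq)
    (fun x hx => hAs x fun y hy => (mem_centralizer_iff.1 hx y hy).symm) (by omega : 0 < m)
    (fun x hx => by rcases h x with e | e <;> omega) ⊤ hK.symm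
  exact Subgroup.comap_injective (f := ((topEquiv : (⊤ : Subgroup P) ≃* P) : (⊤ : Subgroup P) →* P)) topEquiv.surjective
    ((_root_.comap_upperCentralSeries topEquiv 3).trans (h1.trans (comap_top _).symm))

end Cfsg.Agent.S4169
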