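import Cfsg.Statements.S4176
import Cfsg.Agent.Lib.Solv.PHall
import Cfsg.Agent.Lib.Solv.PIndexElement

set_option autoImplicit false
open scoped Pointwise
open Cfsg

namespace Cfsg.Agent.S4176

section Helpers

open Subgroup

universe w

variable {k V : Type*} [Field k] [AddCommGroup V] [Module k V]

theorem perm_orbit {B : Type w} [Group B] (σ : Representation k B V) (a : V) (O : Finset V)
    (hO : ∀ u, u ∈ O ↔ ∃ x, σ x a = u) (y : B) : σ y (∑ u ∈ O, u) = ∑ u ∈ O, u := by
  rw [map_sum]
  refine Finset.sum_nbij' (fun u => σ y u) (fun u => σ y⁻¹ u) ?_ ?_ ?_ ?_ (fun u _ => rfl)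
  · intro u hu
    obtain ⟨x, rfl⟩ := (hO u).1 hu
    exact (hO _).2 ⟨y * x, by rw [map_mul, Module.End.mul_apply]⟩
  · intro u hu
    obtain ⟨x, rfl⟩ := (hO u).1 hu
    exact (hO _).2 ⟨y⁻¹ * x, by rw [map_mul, Module.End.mul_apply]⟩
  · intro u _
    rw [← Module.End.mul_apply, ← map_mul, inv_mul_cancel, map_one, Module.End.one_apply]
  · intro u _
    rw [← Module.End.mul_apply, ← map_mul, mul_inv_cancel, map_one, Module.End.one_apply]

/-- An invariant vector is a multiple of the orbit sum of a spanning vector fixed by a Sylow subgroup. -/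
theorem invariant_eq_smul {B : Type w} [Group B] [Finite B] {p : ℕ} [Fact p.Prime] [CharP k p]
    (hsol : Cfsg.IsPSolvable p B) (σ : Representation k B V) (a : V) (P : Sylow p B)
    (hfix : ∀ x ∈ (P : Subgroup B), σ x a = a) (O : Finset V) (hO : ∀ u, u ∈ O ↔ ∃ x, σ x a = u)
    (hn : (O.card : k) ≠ 0) (hspan : Submodule.span k (O : Set V) = ⊤) {v : V} (hv : ∀ x, σ x v = v) :
    ∃ c : k, v = c • ∑ u ∈ O, u := by
  classical
  obtain ⟨K, hK, j, hj⟩ := Cfsg.Agent.Solv.exists_pPrime_hall _ B rfl hsol
  haveI := Fintype.ofFinite K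
  set T : V →ₗ[k] V := ∑ y : K, σ y with hT
  have hTy : ∀ (y : K) (u : V), T (σ y u) = T u := by
    intro y u
    rw [hT, LinearMap.sum_apply, LinearMap.sum_apply]
    exact Fintype.sum_equiv (Equiv.mulRight y) _ _ fun z => by
      rw [Equiv.coe_mulRight, Subgroup.coe_mul, map_mul, Module.End.mul_apply]
  have hTu : ∀ u ∈ O, T u = T a := by
    intro u hu
    obtain ⟨x, rfl⟩ := (hO u).1 hu
    obtain ⟨s, hs, h⟩ := Cfsg.Agent.Solv.PIndex.exists_mul_of_index K hj P x⁻¹
    have e : x = (s⁻¹ * x⁻¹)⁻¹ * s⁻¹ := by group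
    rw [e, map_mul, Module.End.mul_apply, hfix _ (inv_mem hs)]
    exact hTy ⟨_, inv_mem h⟩ a
  set S := ∑ u ∈ O, u with hS
  have hTa : (O.card : k) • T a = (Nat.card K : k) • S := by
    rw [Nat.card_eq_fintype_card, Nat.cast_smul_eq_nsmul, Nat.cast_smul_eq_nsmul]
    calc O.card • T a = T S := by
          rw [hS, map_sum, Finset.sum_congr rfl hTu, Finset.sum_const]
      _ = Fintype.card K • S := by
          rw [hT, LinearMap.sum_apply, Finset.sum_congr rfl (fun (y : K) _ => perm_orbit σ a O hO y),
            Finset.sum_const, Finset.card_univ]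
  have hK0 : (Nat.card K : k) ≠ 0 := fun h0 =>
    ((Fact.out : p.Prime).coprime_iff_not_dvd.1 hK.symm) ((CharP.cast_eq_zero_iff k p _).1 h0)
  have hTv : T v = (Nat.card K : k) • v := by
    rw [hT, LinearMap.sum_apply, Finset.sum_congr rfl (fun (y : K) _ => hv y), Finset.sum_const,
      Finset.card_univ, Nat.card_eq_fintype_card, Nat.cast_smul_eq_nsmul]
  have hmem : ∀ w : V, T w ∈ Submodule.span k {S} := by
    intro w
    have hw : w ∈ Submodule.span k (O : Set V) := hspan ▸ Submodule.mem_top
    induction hw using Submodule.span_induction with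
    | mem u hu =>
      rw [hTu u hu, ← inv_smul_smul₀ hn (T a), hTa]
      exact Submodule.smul_mem _ _ (Submodule.smul_mem _ _ (Submodule.mem_span_singleton_self S))
    | zero => rw [map_zero]; exact zero_mem _
    | add u u' _ _ h h' => rw [map_add]; exact add_mem h h'
    | smul c u _ h => rw [map_smul]; exact Submodule.smul_mem _ _ h
  obtain ⟨c, hc⟩ := Submodule.mem_span_singleton.1 (hmem v)
  exact ⟨(Nat.card K : k)⁻¹ * c, by rw [mul_smul, hc, hTv, inv_smul_smul₀ hK0]⟩

end Helpers

/-- Let k be a field of prime characteristic p, H a finite p-soluble group and ρ a k-linear representation of H on V. Let a be a vector that is fixed by some Sylow p-subgroup of H and whose H-orbit spans V. Then the space of H-fixed vectors has dimension at most 1, and every vector b whose H-orbit has size coprime to the size of the orbit of a is fixed by H. -/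
theorem result {k V H : Type*} [Field k] (p : ℕ) [Fact p.Prime] [CharP k p] [AddCommGroup V] [Module k V]
    [Group H] [Finite H] (hsol : Cfsg.IsPSolvable p H) (ρ : Representation k H V) (a : V)
    (hfix : ∃ P : Sylow p H, ∀ x : H, x ∈ (P : Subgroup H) → ρ x a = a)
    (hspan : Submodule.span k {u : V | ∃ h : H, ρ h a = u} = ⊤) :
    Module.finrank k ρ.invariants ≤ 1 ∧
    ∀ b : V, (Nat.card {u : V | ∃ h : H, ρ h a = u}).Coprime (Nat.card {u : V | ∃ h : H, ρ h b = u}) → ∀ h : H, ρ h b = b := by
  classical
  letI : MulAction H V :=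
    { smul := fun h v => ρ h v
      one_smul := fun v => by show ρ 1 v = v; simp
      mul_smul := fun g h v => by show ρ (g * h) v = ρ g (ρ h v); rw [map_mul, Module.End.mul_apply] }
  have horb : ∀ v : V, {u : V | ∃ h : H, ρ h v = u} = MulAction.orbit H v := fun v => rfl
  have hfin : ∀ v : V, (MulAction.orbit H v).Finite := fun v => Set.finite_range _
  have hcard : ∀ v : V, Nat.card (MulAction.orbit H v) = (MulAction.stabilizer H v).index := fun v => by
    rw [MulAction.index_stabilizer, Nat.card_coe_set_eq]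
  obtain ⟨P, hP⟩ := hfix
  set A := MulAction.stabilizer H a with hA
  have hPA : (P : Subgroup H) ≤ A := fun x hx => hP x hx
  have hAp : ¬ p ∣ A.index := fun h => P.not_dvd_index (h.trans (Subgroup.index_dvd_of_le hPA))
  set O := (hfin a).toFinset with hO
  have hOmem : ∀ u, u ∈ O ↔ ∃ x, ρ x a = u := fun u => (hfin a).mem_toFinset
  have hOn : O.card = A.index := by
    rw [hA, MulAction.index_stabilizer, Set.ncard_eq_toFinset_card _ (hfin a)]
  have hn : (O.card : k) ≠ 0 := by
    rw [hOn]; exact fun h => hAp ((CharP.cast_eq_zero_iff k p _).1 h)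
  have hspanO : Submodule.span k (O : Set V) = ⊤ := by rw [hO, Set.Finite.coe_toFinset, ← horb]; exact hspan
  constructor
  · have hle : ρ.invariants ≤ Submodule.span k {∑ u ∈ O, u} := fun v hv => by
      obtain ⟨c, hc⟩ := invariant_eq_smul hsol ρ a P hP O hOmem hn hspanO hv
      exact Submodule.mem_span_singleton.2 ⟨c, hc.symm⟩
    refine (Submodule.finrank_mono hle).trans ?_
    rcases eq_or_ne (∑ u ∈ O, u) 0 with h0 | h0
    · rw [h0, Submodule.span_zero_singleton]; simp
    · rw [finrank_span_singleton h0]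
  intro b hb h
  rw [horb, horb, hcard, hcard] at hb
  set B := MulAction.stabilizer H b with hB
  have hAB : A.index ≤ A.relIndex B := by
    refine Nat.le_of_dvd (Nat.pos_of_ne_zero ?_) ?_
    · exact fun h0 => (A.subgroupOf B).index_ne_zero_of_finite h0
    · refine hb.dvd_of_dvd_mul_right ?_
      rw [← Subgroup.inf_relIndex_right, Subgroup.relIndex_mul_index inf_le_right]
      exact Subgroup.index_dvd_of_le inf_le_left
  have hAB' : A.relIndex B = A.index := le_antisymm
    (Subgroup.relIndex_top_right A ▸ Subgroup.relIndex_le_of_le_right le_top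
      (by rw [Subgroup.relIndex_top_right]; exact A.index_ne_zero_of_finite)) hAB
  obtain ⟨Q⟩ : Nonempty (Sylow p (A.subgroupOf B)) := inferInstance
  obtain ⟨R, hR⟩ := (Q.isPGroup'.map (A.subgroupOf B).subtype).exists_le_sylow
  have hQR : (Q : Subgroup (A.subgroupOf B)).map (A.subgroupOf B).subtype = (R : Subgroup B) := by
    refine Subgroup.eq_of_le_of_card_ge hR ?_
    have he : (A.subgroupOf B).index = A.index := hAB'
    rw [Subgroup.card_map_of_injective (A.subgroupOf B).subtype_injective, R.card_eq_multiplicity,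
      Q.card_eq_multiplicity, ← (A.subgroupOf B).card_mul_index,
      Nat.factorization_mul Nat.card_pos.ne' (A.subgroupOf B).index_ne_zero_of_finite,
      Finsupp.add_apply, he, Nat.factorization_eq_zero_of_not_dvd hAp, add_zero]
  have hRfix : ∀ x ∈ (R : Subgroup B), (ρ.comp B.subtype) x a = a := by
    intro x hx
    rw [← hQR] at hx
    obtain ⟨y, -, rfl⟩ := hx
    exact y.2
  have hOB : ∀ u, u ∈ O ↔ ∃ x : B, (ρ.comp B.subtype) x a = u := by
    have hsub : MulAction.orbit B a ⊆ MulAction.orbit H a := by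
      rintro _ ⟨x, rfl⟩; exact ⟨(x : H), rfl⟩
    have hst : MulAction.stabilizer B a = A.subgroupOf B := rfl
    have heq : MulAction.orbit B a = MulAction.orbit H a := by
      refine Set.eq_of_subset_of_ncard_le hsub ?_ (hfin a)
      rw [← MulAction.index_stabilizer, ← MulAction.index_stabilizer, hst]
      exact hAB
    intro u
    rw [Set.Finite.mem_toFinset, ← heq]
    rfl
  obtain ⟨c, hc⟩ := invariant_eq_smul (Cfsg.Agent.Solv.isPSolvable_subgroup hsol B) (ρ.comp B.subtype) a R hRfix O hOB hn hspanO
    (v := b) (fun x => x.2)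
  rw [hc, map_smul, perm_orbit ρ a O hOmem h]

end Cfsg.Agent.S4176
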