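import Cfsg.Statements.S4177

set_option autoImplicit false
open Cfsg

namespace Cfsg.Agent.S4177

/-- Let k be a field whose characteristic does not divide the order of the finite group H (for instance a field of characteristic zero), and ρ a k-linear representation of H on V. Let a be a vector whose H-orbit spans V. Then the space of H-fixed vectors has dimension at most 1, and every vector b whose H-orbit has size coprime to the size of the orbit of a is fixed by H. -/
theorem result {k V H : Type*} [Field k] [AddCommGroup V] [Module k V] [Group H] [Finite H]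
    (hchar : ¬ ringChar k ∣ Nat.card H) (ρ : Representation k H V) (a : V)
    (hspan : Submodule.span k {u : V | ∃ h : H, ρ h a = u} = ⊤) :
    Module.finrank k ρ.invariants ≤ 1 ∧
    ∀ b : V, (Nat.card {u : V | ∃ h : H, ρ h a = u}).Coprime (Nat.card {u : V | ∃ h : H, ρ h b = u}) → ∀ h : H, ρ h b = b := by
  classical
  have : Fintype H := Fintype.ofFinite H
  have hH : (Nat.card H : k) ≠ 0 := by
    intro h
    exact hchar ((ringChar.spec k _).1 h)
  let S : V →ₗ[k] V := ∑ h : H, ρ h
  have hSg : ∀ (g : H) (v : V), ρ g (S v) = S v := by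
    intro g v
    simp only [S, LinearMap.sum_apply, map_sum]
    exact Fintype.sum_equiv (Equiv.mulLeft g) _ _ (fun h => by simp [map_mul])
  have hSg' : ∀ (g : H) (v : V), S (ρ g v) = S v := by
    intro g v
    simp only [S, LinearMap.sum_apply]
    exact Fintype.sum_equiv (Equiv.mulRight g) _ _ (fun h => by simp [map_mul])
  have hSfix : ∀ v : V, (∀ g, ρ g v = v) → S v = (Nat.card H : k) • v := by
    intro v hv
    simp [S, LinearMap.sum_apply, hv, Nat.cast_smul_eq_nsmul]
  have hspanS : ∀ v : V, ∃ c : k, S v = c • S a := by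
    intro v
    have hv : v ∈ Submodule.span k {u : V | ∃ h : H, ρ h a = u} := hspan ▸ Submodule.mem_top
    induction hv using Submodule.span_induction with
    | mem u hu => obtain ⟨h, rfl⟩ := hu; exact ⟨1, by simp [hSg']⟩
    | zero => exact ⟨0, by simp⟩
    | add u w _ _ hu hw =>
      obtain ⟨c, hc⟩ := hu; obtain ⟨d, hd⟩ := hw
      exact ⟨c + d, by rw [map_add, hc, hd, add_smul]⟩
    | smul r u _ hu =>
      obtain ⟨c, hc⟩ := hu
      exact ⟨r * c, by rw [map_smul, hc, smul_smul]⟩
  constructor
  · refine le_trans (Submodule.finrank_mono (t := Submodule.span k {S a}) ?_) ?_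
    · intro v hv
      rw [Representation.mem_invariants] at hv
      obtain ⟨c, hc⟩ := hspanS v
      rw [hSfix v hv] at hc
      rw [Submodule.mem_span_singleton]
      exact ⟨(Nat.card H : k)⁻¹ * c, by rw [mul_smul, ← hc, inv_smul_smul₀ hH]⟩
    · refine le_trans (finrank_span_le_card ({S a} : Set V)) ?_
      simp
  · intro b hcop g
    let Sb : Subgroup H :=
      { carrier := {h | ρ h b = b}
        one_mem' := by simp
        mul_mem' := fun {x y} hx hy => by simp only [Set.mem_ofPred_eq] at *; simp [map_mul, hy, hx]
        inv_mem' := fun {x} hx => by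
          simp only [Set.mem_ofPred_eq] at *
          calc ρ x⁻¹ b = ρ x⁻¹ (ρ x b) := by rw [hx]
            _ = b := ρ.inv_self_apply x b }
    let Sa : Subgroup H :=
      { carrier := {h | ρ h a = a}
        one_mem' := by simp
        mul_mem' := fun {x y} hx hy => by simp only [Set.mem_ofPred_eq] at *; simp [map_mul, hy, hx]
        inv_mem' := fun {x} hx => by
          simp only [Set.mem_ofPred_eq] at *
          calc ρ x⁻¹ a = ρ x⁻¹ (ρ x a) := by rw [hx]
            _ = a := ρ.inv_self_apply x a }
    have horb : ∀ (w : V) (S : Subgroup H), (∀ h, h ∈ S ↔ ρ h w = w) →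
        Nat.card {u : V | ∃ h : H, ρ h w = u} = S.index := by
      intro w S hS
      symm
      refine Nat.card_congr (Equiv.ofBijective
        (Quotient.lift (fun h => (⟨ρ h w, h, rfl⟩ : {u : V | ∃ h : H, ρ h w = u})) ?_) ⟨?_, ?_⟩)
      · intro x y hxy
        replace hxy : x⁻¹ * y ∈ S := QuotientGroup.leftRel_apply.1 hxy
        rw [hS] at hxy
        apply Subtype.ext
        calc ρ x w = ρ x (ρ (x⁻¹ * y) w) := by rw [hxy]
          _ = ρ y w := by rw [← Module.End.mul_apply, ← map_mul, mul_inv_cancel_left]
      · intro x y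
        induction x using Quotient.inductionOn with
        | _ x =>
        induction y using Quotient.inductionOn with
        | _ y =>
        intro h
        have h' : ρ x w = ρ y w := congrArg Subtype.val h
        apply Quotient.sound
        show QuotientGroup.leftRel S x y
        rw [QuotientGroup.leftRel_apply, hS, map_mul, Module.End.mul_apply, ← h']
        exact ρ.inv_self_apply x w
      · rintro ⟨u, h, rfl⟩; exact ⟨Quotient.mk'' h, rfl⟩
    rw [horb a Sa (fun h => Iff.rfl), horb b Sb (fun h => Iff.rfl)] at hcop
    have hfac : ∀ h : H, ∃ c ∈ Sb, ∃ s ∈ Sa, h = c * s := by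
      intro h
      let f : Sb ⧸ Sa.subgroupOf Sb → H ⧸ Sa :=
        Quotient.lift (fun c : Sb => ((c : H) : H ⧸ Sa)) (fun x y hxy => by
          replace hxy : x⁻¹ * y ∈ Sa.subgroupOf Sb := QuotientGroup.leftRel_apply.1 hxy
          rw [Subgroup.mem_subgroupOf] at hxy
          exact QuotientGroup.eq.2 (by simpa using hxy))
      have finj : Function.Injective f := by
        intro x y
        induction x using Quotient.inductionOn with
        | _ x =>
        induction y using Quotient.inductionOn with
        | _ y =>
        intro hxy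
        apply Quotient.sound
        show QuotientGroup.leftRel _ x y
        rw [QuotientGroup.leftRel_apply, Subgroup.mem_subgroupOf]
        simpa using QuotientGroup.eq.1 hxy
      have hcard : Sa.relIndex Sb = Sa.index := by
        refine le_antisymm (Nat.le_of_dvd (Nat.pos_of_ne_zero Sa.index_ne_zero_of_finite) ?_ ) ?_ |> fun h => h
        · have h2 : Sa.index * Sb.index ∣ Sa.relIndex Sb * Sb.index := by
            rw [← Subgroup.inf_relIndex_right, Subgroup.relIndex_mul_index inf_le_right]
            exact hcop.mul_dvd_of_dvd_of_dvd (Subgroup.index_dvd_of_le inf_le_left)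
              (Subgroup.index_dvd_of_le inf_le_right)
          have h3 : Sa.relIndex Sb ≤ Sa.index := Nat.card_le_card_of_injective f finj
          have h4 := Nat.dvd_of_mul_dvd_mul_right (Nat.pos_of_ne_zero Sb.index_ne_zero_of_finite) h2
          have h5 : 0 < Sa.relIndex Sb := Nat.pos_of_ne_zero (Subgroup.index_ne_zero_of_finite)
          exact (le_antisymm h3 (Nat.le_of_dvd h5 h4)).symm ▸ dvd_rfl
        · have h2 : Sa.index * Sb.index ∣ Sa.relIndex Sb * Sb.index := by
            rw [← Subgroup.inf_relIndex_right, Subgroup.relIndex_mul_index inf_le_right]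
            exact hcop.mul_dvd_of_dvd_of_dvd (Subgroup.index_dvd_of_le inf_le_left)
              (Subgroup.index_dvd_of_le inf_le_right)
          exact Nat.le_of_dvd (Nat.pos_of_ne_zero (Subgroup.index_ne_zero_of_finite))
            (Nat.dvd_of_mul_dvd_mul_right (Nat.pos_of_ne_zero Sb.index_ne_zero_of_finite) h2)
      obtain ⟨q, hq⟩ := (Nat.bijective_iff_injective_and_card f).2 ⟨finj, hcard⟩ |>.2 (h : H ⧸ Sa)
      induction q using Quotient.inductionOn with
      | _ c => exact ⟨c, c.2, (c : H)⁻¹ * h, QuotientGroup.eq.1 hq, by group⟩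
    let T : V →ₗ[k] V := ∑ c : Sb, ρ (c : H)
    have hTr : ∀ (c : Sb) (v : V), T (ρ (c : H) v) = T v := by
      intro c v
      simp only [T, LinearMap.sum_apply]
      exact Fintype.sum_equiv (Equiv.mulRight c) _ _ (fun h => by simp [map_mul])
    have hTconst : ∀ h : H, T (ρ h a) = T a := by
      intro h
      obtain ⟨c, hc, s, hs, rfl⟩ := hfac h
      rw [map_mul, Module.End.mul_apply, show ρ s a = a from hs]
      exact hTr ⟨c, hc⟩ a
    have hTspan : ∀ v : V, ∃ d : k, T v = d • T a := by
      intro v
      have hv : v ∈ Submodule.span k {u : V | ∃ h : H, ρ h a = u} := hspan ▸ Submodule.mem_top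
      induction hv using Submodule.span_induction with
      | mem u hu => obtain ⟨h, rfl⟩ := hu; exact ⟨1, by simp [hTconst]⟩
      | zero => exact ⟨0, by simp⟩
      | add u w _ _ hu hw =>
        obtain ⟨c, hc⟩ := hu; obtain ⟨d, hd⟩ := hw
        exact ⟨c + d, by rw [map_add, hc, hd, add_smul]⟩
      | smul r u _ hu =>
        obtain ⟨c, hc⟩ := hu
        exact ⟨r * c, by rw [map_smul, hc, smul_smul]⟩
    have e1 : T (S a) = (Nat.card Sb : k) • S a := by
      simp [T, LinearMap.sum_apply, hSg, Nat.cast_smul_eq_nsmul]
    have e2 : T (S a) = (Nat.card H : k) • T a := by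
      have : S a = ∑ h : H, ρ h a := by simp [S, LinearMap.sum_apply]
      rw [this, map_sum T]
      simp [hTconst, Nat.cast_smul_eq_nsmul]
    have hTa : ρ g (T a) = T a := by
      have : T a = (Nat.card H : k)⁻¹ • ((Nat.card Sb : k) • S a) := by
        rw [← e1, e2, inv_smul_smul₀ hH]
      rw [this, map_smul, map_smul, hSg]
    have hSb : (Nat.card Sb : k) ≠ 0 := by
      intro h0
      apply hH
      obtain ⟨m, hm⟩ := Sb.card_subgroup_dvd_card
      rw [hm, Nat.cast_mul, h0, zero_mul]
    obtain ⟨d, hd⟩ := hTspan b
    have e3 : T b = (Nat.card Sb : k) • b := by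
      have : ∀ c : Sb, ρ (c : H) b = b := fun c => c.2
      simp [T, LinearMap.sum_apply, this, Nat.cast_smul_eq_nsmul]
    have hb : b = (Nat.card Sb : k)⁻¹ • (d • T a) := by rw [← hd, e3, inv_smul_smul₀ hSb]
    rw [hb, map_smul, map_smul, hTa]

end Cfsg.Agent.S4177
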