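import Cfsg.Statements.S4178

set_option autoImplicit false
open Cfsg

namespace Cfsg.Agent.S4178

/-- Let F be a finite field with q elements, V a non-zero finite-dimensional F-space of dimension d, H a group of invertible linear maps of V, and R the subgroup of H generated by the elements of H that fix some non-zero vector (have eigenvalue 1). Then the index of R in H is at most q^d − 1; and if H leaves invariant some proper non-zero subspace, the index is at most q^(d/2) − 1. -/
theorem result {F V : Type*} [Field F] [Fintype F] [AddCommGroup V] [Module F V] [FiniteDimensional F V] [Nontrivial V]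
    (H : Subgroup (V ≃ₗ[F] V)) :
    (Subgroup.closure {h : ↥H | ∃ v : V, v ≠ 0 ∧ (h : V ≃ₗ[F] V) v = v}).index ≤ Fintype.card F ^ Module.finrank F V - 1 ∧
    ((∃ W : Submodule F V, W ≠ ⊥ ∧ W ≠ ⊤ ∧ ∀ h ∈ H, ∀ w ∈ W, h w ∈ W) →
      ((Subgroup.closure {h : ↥H | ∃ v : V, v ≠ 0 ∧ (h : V ≃ₗ[F] V) v = v}).index : ℝ) ≤ Real.sqrt ((Fintype.card F : ℝ) ^ Module.finrank F V) - 1) := by
  classical
  haveI : Finite V := Module.finite_of_finite F
  haveI : Finite (V ≃ₗ[F] V) := Finite.of_injective (fun e => (e : V → V)) DFunLike.coe_injective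
  set R := Subgroup.closure {h : ↥H | ∃ v : V, v ≠ 0 ∧ (h : V ≃ₗ[F] V) v = v} with hR
  have hq : 1 < Fintype.card F := Fintype.one_lt_card
  have hW : ∀ (W : Submodule F V) (v : V), v ∈ W → v ≠ 0 → (∀ h ∈ H, ∀ w ∈ W, h w ∈ W) →
      R.index ≤ Fintype.card F ^ Module.finrank F W - 1 := by
    intro W v hv hv0 hinv
    have hle : MulAction.stabilizer H v ≤ R := fun h hh => Subgroup.subset_closure ⟨v, hv0, hh⟩
    refine (Nat.le_of_dvd (Nat.pos_of_ne_zero Subgroup.index_ne_zero_of_finite) (Subgroup.index_dvd_of_le hle)).trans ?_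
    rw [MulAction.index_stabilizer]
    calc (MulAction.orbit H v).ncard ≤ ((W : Set V) \ {0}).ncard := by
          refine Set.ncard_le_ncard ?_ (Set.toFinite _)
          rintro _ ⟨h, rfl⟩
          refine ⟨hinv h h.2 v hv, fun e => hv0 ?_⟩
          exact (LinearEquiv.map_eq_zero_iff (h : V ≃ₗ[F] V)).1 e
      _ = _ := by
          rw [Set.ncard_diff_singleton_of_mem (zero_mem W), ← Nat.card_coe_set_eq,
            ← Nat.card_eq_fintype_card (α := F)]
          exact congrArg (· - 1) (Module.natCard_eq_pow_finrank (K := F) (V := W))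
  obtain ⟨v₀, hv₀⟩ := exists_ne (0 : V)
  have h1 : R.index ≤ Fintype.card F ^ Module.finrank F V - 1 := by
    have := hW ⊤ v₀ trivial hv₀ (fun _ _ _ _ => trivial)
    rwa [finrank_top] at this
  refine ⟨h1, ?_⟩
  rintro ⟨W, hW0, hWtop, hinv⟩
  have key : ∀ k, R.index ≤ Fintype.card F ^ k - 1 → 2 * k ≤ Module.finrank F V →
      (R.index : ℝ) ≤ Real.sqrt ((Fintype.card F : ℝ) ^ Module.finrank F V) - 1 := by
    intro k hk hk2
    have e1 : (R.index : ℝ) + 1 ≤ (Fintype.card F : ℝ) ^ k := by
      have : R.index + 1 ≤ Fintype.card F ^ k := by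
        have := Nat.one_le_pow k (Fintype.card F) (by omega)
        omega
      exact_mod_cast this
    have e2 : (Fintype.card F : ℝ) ^ k ≤ Real.sqrt ((Fintype.card F : ℝ) ^ Module.finrank F V) := by
      refine Real.le_sqrt_of_sq_le ?_
      rw [← pow_mul]
      exact pow_le_pow_right₀ (by exact_mod_cast hq.le) (by omega)
    linarith
  by_cases hdim : 2 * Module.finrank F W ≤ Module.finrank F V
  · obtain ⟨v, hv, hv0⟩ := Submodule.exists_mem_ne_zero_of_ne_bot hW0
    exact key _ (hW W v hv hv0 hinv) hdim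
  -- otherwise use the quotient
  haveI : Finite (V ⧸ W) := Finite.of_surjective _ (Submodule.Quotient.mk_surjective W)
  have hmk : ∀ (h : H) (a b : V), (Submodule.Quotient.mk a : V ⧸ W) = Submodule.Quotient.mk b →
      (Submodule.Quotient.mk ((h : V ≃ₗ[F] V) a) : V ⧸ W) = Submodule.Quotient.mk ((h : V ≃ₗ[F] V) b) := by
    intro h a b hab
    rw [Submodule.Quotient.eq] at hab ⊢
    rw [← map_sub]
    exact hinv h h.2 _ hab
  letI act : MulAction H (V ⧸ W) :=
    { smul := fun h x => Submodule.mapQ W W ((h : V ≃ₗ[F] V) : V →ₗ[F] V) (fun w hw => hinv h h.2 w hw) x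
      one_smul := fun x => Submodule.Quotient.induction_on _ x fun a => rfl
      mul_smul := fun g h x => Submodule.Quotient.induction_on _ x fun a => rfl }
  obtain ⟨v, -, hv⟩ := SetLike.exists_of_lt hWtop.lt_top
  set x : V ⧸ W := Submodule.Quotient.mk v
  have hx : x ≠ 0 := fun e => hv ((Submodule.Quotient.mk_eq_zero W).1 e)
  have hle : MulAction.stabilizer H x ≤ R := by
    intro h hh
    refine Subgroup.subset_closure ?_
    -- a fixed vector exists as `h - 1` is not surjective
    set f : V →ₗ[F] V := ((h : V ≃ₗ[F] V) : V →ₗ[F] V) - LinearMap.id with hf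
    have hnd : ¬ Function.Injective f := by
      intro hinj
      have hfW : W.map f = W := by
        refine Submodule.eq_of_le_of_finrank_le ?_ ?_
        · rintro _ ⟨w, hw, rfl⟩
          exact sub_mem (hinv h h.2 w hw) hw
        · exact (LinearEquiv.finrank_eq (Submodule.equivMapOfInjective f hinj W)).le
      have hfv : f v ∈ W := (Submodule.Quotient.eq W).1 (show (Submodule.Quotient.mk ((h : V ≃ₗ[F] V) v) : V ⧸ W) = _ from hh)
      rw [← hfW] at hfv
      obtain ⟨w, hw, hwv⟩ := hfv
      exact hv (hinj hwv ▸ hw)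
    rw [injective_iff_map_eq_zero] at hnd
    simp only [not_forall] at hnd
    obtain ⟨a, ha, ha0⟩ := hnd
    exact ⟨a, ha0, sub_eq_zero.1 ha⟩
  have h2 : R.index ≤ Fintype.card F ^ Module.finrank F (V ⧸ W) - 1 := by
    refine (Nat.le_of_dvd (Nat.pos_of_ne_zero Subgroup.index_ne_zero_of_finite) (Subgroup.index_dvd_of_le hle)).trans ?_
    rw [MulAction.index_stabilizer]
    calc (MulAction.orbit H x).ncard ≤ ((Set.univ : Set (V ⧸ W)) \ {0}).ncard := by
          refine Set.ncard_le_ncard ?_ (Set.toFinite _)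
          rintro _ ⟨h, rfl⟩
          refine ⟨trivial, fun e => hx ?_⟩
          exact (MulAction.injective h (e.trans (map_zero (Submodule.mapQ W W
            ((h : V ≃ₗ[F] V) : V →ₗ[F] V) (fun w hw => hinv h h.2 w hw))).symm))
      _ = _ := by
          rw [Set.ncard_diff_singleton_of_mem (Set.mem_univ _), Set.ncard_univ,
            Module.natCard_eq_pow_finrank (K := F), Nat.card_eq_fintype_card]
  refine key _ h2 ?_
  have := W.finrank_quotient_add_finrank
  omega

end Cfsg.Agent.S4178
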