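import Cfsg.Statements.S4182


set_option autoImplicit false
open scoped Pointwise
open scoped Pointwise
open Cfsg

namespace Cfsg.Agent.S4182

/-- Let p be a prime and G a finite group generated by its p-elements. If a finite family of proper subgroups of G covers the set of p-elements of G (every element of p-power order lies in one of them), then the family has at least p + 1 members. -/
theorem result {G : Type*} [Group G] [Finite G] (p : ℕ) [Fact p.Prime] (hgen : Subgroup.closure {g : G | ∃ k : ℕ, orderOf g = p ^ k} = ⊤)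
    {ι : Type*} [Fintype ι] (K : ι → Subgroup G) (hK : ∀ i, K i ≠ ⊤)
    (hcov : ∀ g : G, (∃ k : ℕ, orderOf g = p ^ k) → ∃ i, g ∈ K i) :
    p + 1 ≤ Fintype.card ι := by
  open Subgroup in
  classical
  have hp := (Fact.out : p.Prime)
  by_contra hlt
  have hcard : Fintype.card ι ≤ p := by omega
  let pel : G → Prop := fun g => ∃ k : ℕ, orderOf g = p ^ k
  let gen : Subgroup G → Subgroup G := fun L => closure {g | g ∈ L ∧ pel g}
  have gen_le : ∀ L, gen L ≤ L := fun L => (closure_le _).2 fun g hg => hg.1
  have gen_mono : ∀ L L', L ≤ L' → gen L ≤ gen L' := fun L L' h => closure_mono fun g hg => ⟨h hg.1, hg.2⟩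
  have mem_gen : ∀ L g, g ∈ L → pel g → g ∈ gen L := fun L g h h' => subset_closure ⟨h, h'⟩
  have key : ∀ H : Subgroup G, gen H = H → ∃ i, H ≤ K i := by
    intro H
    induction H using WellFoundedLT.induction with
    | _ H ih =>
      intro hH
      by_contra hno
      push Not at hno
      by_cases hHp : IsPGroup p H
      · -- a `p`-group is not covered by `p` proper subgroups
        haveI := Fintype.ofFinite G
        let S : Finset G := Finset.univ.filter (fun g => g ∈ H ∧ g ≠ 1)
        let T : ι → Finset G := fun i => Finset.univ.filter (fun g => g ∈ K i ⊓ H ∧ g ≠ 1)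
        have hS : S.card + 1 = Nat.card H := by
          have : S = (Finset.univ.filter (fun g => g ∈ H)).erase 1 := by
            ext g; simp [S, and_comm]
          rw [this, Finset.card_erase_add_one (by simp), Nat.card_eq_fintype_card, Fintype.card_subtype]
        have hT : ∀ i, p * ((T i).card + 1) ≤ Nat.card H := by
          intro i
          have : T i = (Finset.univ.filter (fun g => g ∈ K i ⊓ H)).erase 1 := by
            ext g; simp [T, and_comm]
          rw [this, Finset.card_erase_add_one (by simp), ← Fintype.card_subtype, ← Nat.card_eq_fintype_card]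
          obtain ⟨n, hn⟩ := IsPGroup.iff_card.1 hHp
          obtain ⟨j, hj⟩ := IsPGroup.iff_card.1 (hHp.to_le (inf_le_right : K i ⊓ H ≤ H))
          have hl : Nat.card ↥(K i ⊓ H) < Nat.card H := lt_of_le_of_ne (card_le_of_le inf_le_right)
            fun e => hno i (inf_eq_right.1 (eq_of_le_of_card_ge inf_le_right e.ge))
          rw [hn, hj] at hl ⊢
          rw [← pow_succ']
          exact Nat.pow_le_pow_right hp.pos ((Nat.pow_lt_pow_iff_right hp.one_lt).1 hl)
        have hsub : S ⊆ Finset.univ.biUnion T := by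
          intro g hg
          simp only [S, Finset.mem_filter, Finset.mem_univ, true_and] at hg
          obtain ⟨k, hk⟩ := IsPGroup.iff_orderOf.1 hHp ⟨g, hg.1⟩
          rw [Subgroup.orderOf_mk] at hk
          obtain ⟨i, hi⟩ := hcov g ⟨k, hk⟩
          exact Finset.mem_biUnion.2 ⟨i, Finset.mem_univ i, Finset.mem_filter.2 ⟨Finset.mem_univ g, ⟨hi, hg.1⟩, hg.2⟩⟩
        have h1 := (Finset.card_le_card hsub).trans Finset.card_biUnion_le
        obtain ⟨i0, hi0⟩ := hcov 1 ⟨0, by simp⟩
        have hpos : 0 < Fintype.card ι := Fintype.card_pos_iff.2 ⟨i0⟩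
        have hne : 1 < Nat.card H := by
          by_contra hc
          refine hno i0 fun g hg => ?_
          haveI := Finite.card_le_one_iff_subsingleton.1 (not_lt.1 hc)
          have := congrArg Subtype.val (Subsingleton.elim (⟨g, hg⟩ : H) 1)
          rw [show g = 1 from this]
          exact one_mem _
        have h2 : p * (∑ i, ((T i).card + 1)) ≤ Fintype.card ι * Nat.card H := by
          rw [Finset.mul_sum]
          refine (Finset.sum_le_sum fun i _ => hT i).trans ?_
          rw [Finset.sum_const, Finset.card_univ, smul_eq_mul]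
        rw [Finset.sum_add_distrib, Finset.sum_const, Finset.card_univ, smul_eq_mul, mul_one] at h2
        have h3 : p * (S.card + Fintype.card ι) ≤ p * Nat.card H :=
          ((Nat.mul_le_mul_left p (Nat.add_le_add_right h1 _)).trans h2).trans (Nat.mul_le_mul_right _ hcard)
        have h4 := Nat.le_of_mul_le_mul_left h3 hp.pos
        have h5 : Fintype.card ι = 1 := by omega
        have h6 := hT i0
        have hTS : S.card ≤ (T i0).card := by
          refine h1.trans (le_of_eq ?_)
          obtain ⟨u, hu⟩ := Fintype.card_eq_one_iff.1 h5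
          rw [Finset.sum_eq_single i0 (fun j _ hj => absurd ((hu j).trans (hu i0).symm) hj) (by simp)]
        have h7 : p * Nat.card H ≤ Nat.card H := (Nat.mul_le_mul_left p (by omega)).trans h6
        have := hp.two_le
        nlinarith
      -- maximal proper subgroups generated by `p`-elements
      let 𝓛 := {L : Subgroup G // L < H ∧ gen L = L ∧ ∀ L' : Subgroup G, L' < H → gen L' = L' → L ≤ L' → L' = L}
      have habove : ∀ L₀ : Subgroup G, L₀ < H → gen L₀ = L₀ → ∃ L : 𝓛, L₀ ≤ L.1 := by
        intro L₀ h0 h0'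
        obtain ⟨M, ⟨hM1, hM2, hM3⟩, hmax⟩ := (Set.toFinite {L : Subgroup G | L < H ∧ gen L = L ∧ L₀ ≤ L}).exists_maximal
          ⟨L₀, h0, h0', le_rfl⟩
        exact ⟨⟨M, hM1, hM2, fun L' a b c => le_antisymm (hmax ⟨a, b, hM3.trans c⟩ c) c⟩, hM3⟩
      have hidx : ∀ L : 𝓛, ∃ i, gen (K i ⊓ H) = L.1 := by
        intro L
        obtain ⟨i, hi⟩ := ih L.1 L.2.1 L.2.2.1
        refine ⟨i, L.2.2.2 _ ?_ ?_ ?_⟩
        · exact lt_of_le_of_lt (gen_le _) (lt_of_le_of_ne inf_le_right fun e => hno i (inf_eq_right.1 e))
        · refine le_antisymm (gen_le _) ((closure_le _).2 fun g hg => mem_gen _ g (subset_closure hg) hg.2)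
        · rw [← L.2.2.1]; exact gen_mono _ _ (le_inf hi L.2.1.le)
      choose idx hidx using hidx
      have hLcard : Nat.card 𝓛 ≤ p := (Nat.card_le_card_of_injective idx fun a b h =>
        Subtype.ext (by rw [← hidx a, ← hidx b, h])).trans (Nat.card_eq_fintype_card.le.trans hcard)
      have hconjgen : ∀ (h : G) (L : Subgroup G), gen L = L → gen (MulAut.conj h • L) = MulAut.conj h • L := by
        intro h L hL
        refine le_antisymm (gen_le _) ?_
        rintro _ ⟨x, hx, rfl⟩
        rw [← hL] at hx
        refine closure_induction (p := fun x _ => MulAut.conj h x ∈ gen (MulAut.conj h • L)) (fun y hy => ?_) (by simp) (fun a b _ _ ha hb => by rw [map_mul]; exact mul_mem ha hb) (fun a _ ha => by rw [map_inv]; exact inv_mem ha) hx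
        refine mem_gen _ _ ⟨y, hy.1, rfl⟩ ?_
        obtain ⟨k, hk⟩ := hy.2
        exact ⟨k, (orderOf_injective (MulAut.conj h).toMonoidHom (MulEquiv.injective _) y).trans hk⟩
      have hconjlt : ∀ h ∈ H, ∀ L : Subgroup G, L < H → MulAut.conj h • L < H := by
        intro h hh L hL
        refine lt_of_le_of_ne ?_ fun e => ?_
        · rintro _ ⟨x, hx, rfl⟩; exact mul_mem (mul_mem hh (hL.le hx)) (inv_mem hh)
        · have : Nat.card ↥(MulAut.conj h • L) = Nat.card L := (Nat.card_congr (Subgroup.equivSMul (MulAut.conj h) L).toEquiv).symm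
          rw [e] at this
          exact hL.ne (eq_of_le_of_card_ge hL.le this.le)
      let act : H → 𝓛 → 𝓛 := fun h L => ⟨MulAut.conj (h : G) • L.1, hconjlt h h.2 _ L.2.1, hconjgen _ _ L.2.2.1, fun L' a b c => by
        have c' : L.1 ≤ MulAut.conj (h : G)⁻¹ • L' := by
          rwa [map_inv, ← Subgroup.pointwise_smul_subset_iff]
        have := L.2.2.2 _ (hconjlt _ (inv_mem h.2) _ a) (hconjgen _ _ b) c'
        rw [← this, map_inv, smul_inv_smul]⟩
      letI : MulAction H 𝓛 :=
        { smul := act
          one_smul := fun L => Subtype.ext (by show MulAut.conj ((1 : H) : G) • L.1 = L.1; simp)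
          mul_smul := fun g h L => Subtype.ext (by
            show MulAut.conj ((g * h : H) : G) • L.1 = MulAut.conj (g : G) • (MulAut.conj (h : G) • L.1)
            rw [← mul_smul, Subgroup.coe_mul, map_mul]) }
      have hin : ∀ g ∈ H, pel g → ∃ L : 𝓛, g ∈ L.1 := by
        intro g hg hgp
        have hz : zpowers g ≤ H := zpowers_le.2 hg
        obtain ⟨k, hk⟩ := hgp
        obtain ⟨L, hL⟩ := habove (zpowers g) (lt_of_le_of_ne hz fun e => hHp (e ▸ IsPGroup.of_card (n := k) ((Nat.card_zpowers g).trans hk)))
          (le_antisymm (gen_le _) (zpowers_le.2 (mem_gen _ g (mem_zpowers g) ⟨k, hk⟩)))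
        exact ⟨L, hL (mem_zpowers g)⟩
      have hfix : ∀ L : 𝓛, H ≤ normalizer (L.1 : Set G) := by
        intro L
        refine hH.ge.trans ?_
        refine (closure_le _).2 fun g hg => ?_
        obtain ⟨L0, hL0⟩ := hin g hg.1 hg.2
        suffices hfix : (⟨g, hg.1⟩ : H) • L = L by
          have e : MulAut.conj g • L.1 = L.1 := congrArg Subtype.val hfix
          rw [SetLike.mem_coe, mem_normalizer_iff]
          intro x
          conv_rhs => rw [← e]
          rw [mem_pointwise_smul_iff_inv_smul_mem]
          simp [MulAut.smul_def, mul_assoc]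
        obtain ⟨k, hk⟩ := hg.2
        have hC : IsPGroup p (zpowers (⟨g, hg.1⟩ : H)) := IsPGroup.of_card (n := k) (by rw [Nat.card_zpowers, Subgroup.orderOf_mk, hk])
        by_contra hne
        obtain ⟨n, hn⟩ := hC.card_orbit L
        have horb : MulAction.orbit (zpowers (⟨g, hg.1⟩ : H)) L = Set.univ := by
          refine Set.eq_of_subset_of_ncard_le (Set.subset_univ _) ?_ (Set.toFinite _)
          rw [Set.ncard_univ, ← Nat.card_coe_set_eq, hn]
          refine hLcard.trans (Nat.le_self_pow ?_ p)
          rintro rfl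
          rw [pow_zero, Nat.card_eq_one_iff_unique] at hn
          haveI := hn.1
          exact hne (congrArg Subtype.val (Subsingleton.elim
            (⟨(⟨g, hg.1⟩ : H) • L, ⟨⟨_, mem_zpowers _⟩, rfl⟩⟩ : MulAction.orbit (zpowers (⟨g, hg.1⟩ : H)) L)
            ⟨L, MulAction.mem_orbit_self L⟩))
        have hst : (⟨g, hg.1⟩ : H) • L0 = L0 := by
          refine Subtype.ext ?_
          show MulAut.conj g • L0.1 = L0.1
          exact (Subgroup.conj_smul_eq_self_of_mem hL0)
        obtain ⟨⟨c, hc⟩, hcL⟩ := horb.ge (Set.mem_univ L0)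
        obtain ⟨j, rfl⟩ := mem_zpowers_iff.1 hc
        have hst' : L0 = (⟨g, hg.1⟩ : H) ^ (-j) • L0 :=
          (MulAction.mem_stabilizer_iff.1 (zpow_mem (MulAction.mem_stabilizer_iff.2 hst) (-j))).symm
        have hL : L = L0 := by
          rw [hst', zpow_neg, ← hcL]
          exact (inv_smul_smul _ _).symm
        exact hne (hL ▸ hst)
      obtain ⟨P⟩ : Nonempty (Sylow p H) := inferInstance
      set P' := (P : Subgroup H).map H.subtype
      have hP' : P' < H := lt_of_le_of_ne (map_subtype_le _) fun e => hHp (e ▸ P.isPGroup'.map _)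
      have hP'g : gen P' = P' := le_antisymm (gen_le _) fun g hg => by
        obtain ⟨k, hk⟩ := IsPGroup.iff_orderOf.1 (P.isPGroup'.map H.subtype) ⟨g, hg⟩
        exact mem_gen _ g hg ⟨k, by rwa [Subgroup.orderOf_mk] at hk⟩
      obtain ⟨L, hL⟩ := habove P' hP' hP'g
      refine L.2.1.not_ge ?_
      refine hH.ge.trans ?_
      refine (closure_le _).2 fun g hg => ?_
      obtain ⟨k, hk⟩ := hg.2
      obtain ⟨Q, hQ⟩ := (IsPGroup.of_card (p := p) (n := k) (G := zpowers (⟨g, hg.1⟩ : H)) (by rw [Nat.card_zpowers, Subgroup.orderOf_mk, hk])).exists_le_sylow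
      obtain ⟨t, ht⟩ := MulAction.exists_smul_eq H P Q
      have := hQ (mem_zpowers _)
      rw [← ht, Sylow.coe_subgroup_smul] at this
      obtain ⟨x, hx, e⟩ := this
      have hg' : (t : G) * x * (t : G)⁻¹ = g := congrArg Subtype.val e
      rw [← hg']
      exact (mem_normalizer_iff.1 (hfix L t.2) (x : G)).1 (hL ⟨x, hx, rfl⟩)
  obtain ⟨i, hi⟩ := key ⊤ (le_antisymm le_top (hgen.ge.trans ((closure_le _).2 fun g hg => mem_gen _ g (mem_top g) hg)))
  exact hK i (top_le_iff.1 hi)

end Cfsg.Agent.S4182
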