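import Cfsg.Statements.S4184
import Cfsg.Agent.Lib.Struct.ClassSize

set_option autoImplicit false
open Cfsg

namespace Cfsg.Agent.S4184

set_option linter.style.haveILetI false

open Subgroup

variable {G : Type*} [Group G] [Finite G]

/-- commuting elements of coprime order: the centralizer of the product -/
theorem mem_centralizer_of_mul {x y c : G} (hxy : Commute x y) (hcop : (orderOf x).Coprime (orderOf y))
    (hc : c ∈ centralizer ({x * y} : Set G)) : c ∈ centralizer ({x} : Set G) := by
  rw [mem_centralizer_singleton_iff] at hc ⊢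
  obtain ⟨m, hm1, hm2⟩ := Nat.chineseRemainder hcop 1 0
  have h1 : (x * y) ^ m = x := by
    rw [hxy.mul_pow, orderOf_dvd_iff_pow_eq_one.mp (Nat.modEq_zero_iff_dvd.mp hm2),
      pow_eq_pow_iff_modEq.mpr hm1, pow_one, mul_one]
  rw [← h1]
  exact Commute.pow_right (show Commute c (x * y) from hc) m

theorem index_ne_one_of_center (hZ : center G = ⊥) {x : G} (hx : x ≠ 1) :
    (centralizer ({x} : Set G)).index ≠ 1 := by
  intro h
  rw [index_eq_one] at h
  refine hx (mem_bot.mp (hZ ▸ mem_center_iff.mpr fun g => ?_))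
  exact mem_centralizer_singleton_iff.mp (h.symm ▸ mem_top g : g ∈ centralizer ({x} : Set G))

theorem fact_centralizer (x : G) (p : ℕ) : (Nat.card G).factorization p =
    (Nat.card (centralizer ({x} : Set G))).factorization p +
      (centralizer ({x} : Set G)).index.factorization p := by
  rw [← card_mul_index (centralizer ({x} : Set G)),
    Nat.factorization_mul Nat.card_pos.ne' index_ne_zero_of_finite]
  rfl

theorem exists_orderOf_prime_mem {H : Subgroup G} {r : ℕ} (hr : r.Prime) (h : r ∣ Nat.card H) :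
    ∃ w ∈ H, orderOf w = r := by
  haveI : Fact r.Prime := ⟨hr⟩
  obtain ⟨w, hw⟩ := exists_prime_orderOf_dvd_card' r h
  exact ⟨w, w.2, by rw [orderOf_coe, hw]⟩

section

variable {M : Type*} [Group M] [Finite M]

/-- `m` is the size of a class of a nontrivial element whose centralizer involves primes of one side. -/
def IsSide (M : Type*) [Group M] (P : ℕ → Prop) (m : ℕ) : Prop :=
  ∃ g : M, g ≠ 1 ∧ (centralizer ({g} : Set M)).index = m ∧
    ∀ r : ℕ, r.Prime → r ∣ Nat.card (centralizer ({g} : Set M)) → P r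

/-- Main local claim. -/
theorem factorization_eq (hZG : center G = ⊥) (hZM : center M = ⊥)
    (h : Set.range (fun g : G => (centralizer ({g} : Set G)).index) =
      Set.range (fun g : M => (centralizer ({g} : Set M)).index))
    (A : Set ℕ) (hA : ∃ a ∈ A, a.Prime ∧ a ∣ Nat.card M) (hB : ∃ b ∉ A, b.Prime ∧ b ∣ Nat.card M)
    (hno : ∀ a ∈ A, ∀ b ∉ A, a.Prime → b.Prime → a ∣ Nat.card M → b ∣ Nat.card M →
      ¬ ∃ x : M, orderOf x = a * b) (p : ℕ) (hp : p.Prime) :
    (Nat.card G).factorization p = (Nat.card M).factorization p := by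
  classical
  haveI := Fact.mk hp
  let cG : G → ℕ := fun x => (centralizer ({x} : Set G)).index
  let cM : M → ℕ := fun x => (centralizer ({x} : Set M)).index
  have hGM : ∀ x : G, ∃ g : M, cM g = cG x := fun x => by
    have : cG x ∈ Set.range cG := ⟨x, rfl⟩
    rw [show Set.range cG = Set.range cM from h] at this
    exact this
  have hMG : ∀ g : M, ∃ x : G, cG x = cM g := fun g => by
    have : cM g ∈ Set.range cM := ⟨g, rfl⟩
    rw [← show Set.range cG = Set.range cM from h] at this
    exact this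
  -- centralizers in `M` are one-sided
  have hside : ∀ g : M, g ≠ 1 → ∀ r t : ℕ, r.Prime → t.Prime →
      r ∣ Nat.card (centralizer ({g} : Set M)) → t ∣ Nat.card (centralizer ({g} : Set M)) →
      (r ∈ A ↔ t ∈ A) := by
    intro g hg
    suffices hs : ∀ t : ℕ, t.Prime → t ∣ orderOf g → ∀ r : ℕ, r.Prime →
        r ∣ Nat.card (centralizer ({g} : Set M)) → (r ∈ A ↔ t ∈ A) by
      obtain ⟨t₀, ht₀, hd₀⟩ := Nat.exists_prime_and_dvd (mt orderOf_eq_one_iff.mp hg)
      intro r t hr ht hrd htd
      exact (hs t₀ ht₀ hd₀ r hr hrd).trans (hs t₀ ht₀ hd₀ t ht htd).symm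
    intro t ht htd r hr hrd
    by_cases hrt : r = t
    · rw [hrt]
    obtain ⟨w, hw, hwo⟩ := exists_orderOf_prime_mem hr hrd
    have ho : orderOf (g ^ (orderOf g / t)) = t :=
      orderOf_pow_orderOf_div (orderOf_pos g).ne' htd
    have hc : Commute w (g ^ (orderOf g / t)) :=
      Commute.pow_right (show Commute w g from mem_centralizer_singleton_iff.mp hw) _
    have hmul : orderOf (w * g ^ (orderOf g / t)) = r * t := by
      rw [hc.orderOf_mul_eq_mul_orderOf_of_coprime (by rw [hwo, ho]; exact (Nat.coprime_primes hr ht).mpr hrt),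
        hwo, ho]
    have hrM : r ∣ Nat.card M := hwo ▸ orderOf_dvd_natCard w
    have htM : t ∣ Nat.card M := htd.trans (orderOf_dvd_natCard g)
    constructor
    · intro hrA
      by_contra htA
      exact hno r hrA t htA hr ht hrM htM ⟨_, hmul⟩
    · intro htA
      by_contra hrA
      exact hno t htA r hrA ht hr htM hrM ⟨_, hmul.trans (mul_comm r t)⟩
  -- comparable nontrivial class sizes are on the same side
  have hcomp : ∀ g g' : M, g ≠ 1 → g' ≠ 1 → cM g ∣ cM g' → ∀ r t : ℕ, r.Prime → t.Prime →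
      r ∣ Nat.card (centralizer ({g} : Set M)) → t ∣ Nat.card (centralizer ({g'} : Set M)) →
      (r ∈ A ↔ t ∈ A) := by
    intro g g' hg hg' hd r t hr ht hrd htd
    refine hside g hg r t hr ht hrd (htd.trans ?_)
    obtain ⟨c, hc⟩ := hd
    refine ⟨c, ?_⟩
    have e1 := card_mul_index (centralizer ({g} : Set M))
    have e2 := card_mul_index (centralizer ({g'} : Set M))
    simp only [cM] at hc
    rw [hc, ← e1] at e2
    exact (Nat.eq_of_mul_eq_mul_right (Nat.pos_of_ne_zero index_ne_zero_of_finite) (e2.symm.trans (by ring)))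
  have hcard : ∀ g : M, g ≠ 1 → ∃ r, r.Prime ∧ r ∣ Nat.card (centralizer ({g} : Set M)) := fun g hg => by
    obtain ⟨r, hr, hrd⟩ := Nat.exists_prime_and_dvd (mt orderOf_eq_one_iff.mp hg)
    refine ⟨r, hr, hrd.trans ?_⟩
    rw [← Subgroup.orderOf_mk g (mem_centralizer_singleton_iff.mpr rfl : g ∈ centralizer ({g} : Set M))]
    exact orderOf_dvd_natCard _
  let Far : ℕ → Prop := IsSide M (fun r => ¬ (r ∈ A ↔ p ∈ A))
  have hFar_full : ∀ m, Far m → m.factorization p = (Nat.card M).factorization p := by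
    rintro m ⟨g, -, rfl, hg⟩
    rw [fact_centralizer g p, Nat.factorization_eq_zero_of_not_dvd (fun hd => hg p hp hd Iff.rfl), zero_add]
  obtain ⟨b, hbA, hbp, hbd⟩ : ∃ b, ¬ (b ∈ A ↔ p ∈ A) ∧ b.Prime ∧ b ∣ Nat.card M := by
    obtain ⟨a, ha, hap, had⟩ := hA
    obtain ⟨b, hb, hbp, hbd⟩ := hB
    by_cases hpA : p ∈ A
    · exact ⟨b, fun h => hb (h.mpr hpA), hbp, hbd⟩
    · exact ⟨a, fun h => hpA (h.mp ha), hap, had⟩
  obtain ⟨g₀, hg₀⟩ : ∃ g₀ : M, orderOf g₀ = b := by
    haveI := Fact.mk hbp
    exact exists_prime_orderOf_dvd_card' b hbd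
  have hg₀1 : g₀ ≠ 1 := fun h => hbp.one_lt.ne' (by rw [← hg₀, h, orderOf_one])
  have hFar₀ : Far (cM g₀) := by
    refine ⟨g₀, hg₀1, rfl, fun r hr hrd hiff => hbA ?_⟩
    refine (hside g₀ hg₀1 b r hbp hr ?_ hrd).trans hiff
    exact hg₀ ▸ (Subgroup.orderOf_mk g₀ (mem_centralizer_singleton_iff.mpr rfl)) ▸ orderOf_dvd_natCard _
  obtain ⟨x₀, hx₀⟩ := hMG g₀
  have hle : (Nat.card M).factorization p ≤ (Nat.card G).factorization p := by
    rw [← hFar_full _ hFar₀, ← hx₀]
    exact (Nat.factorization_le_iff_dvd index_ne_zero_of_finite Nat.card_pos.ne').mpr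
      (index_dvd_card _) p
  refine le_antisymm ?_ hle
  by_contra hlt
  push Not at hlt
  obtain ⟨P⟩ := Sylow.nonempty (p := p) (G := G)
  have hPcard := P.card_eq_multiplicity
  haveI hPnt : Nontrivial (P : Subgroup G) := Finite.one_lt_card_iff_nontrivial.mp (by
    rw [hPcard]; exact Nat.one_lt_pow (by omega) hp.one_lt)
  by_cases hpM : (Nat.card M).factorization p = 0
  · -- all class sizes prime to `p`: a Sylow subgroup would be central
    have hCP : centralizer ((P : Subgroup G) : Set G) = ⊤ := by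
      by_contra hne
      obtain ⟨x, hx⟩ := Cfsg.Agent.Struct.exists_forall_conj_notMem hne
      obtain ⟨g, hg⟩ := hGM x
      have hpd : ¬ p ∣ cG x := fun hd => by
        have h1 := (Nat.factorization_le_iff_dvd index_ne_zero_of_finite Nat.card_pos.ne').mpr
          (index_dvd_card (centralizer ({g} : Set M))) p
        rw [hpM] at h1
        have h2 : 0 < (cG x).factorization p := hp.factorization_pos_of_dvd index_ne_zero_of_finite hd
        simp only [cM, cG] at hg h2
        rw [← hg] at h2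
        omega
      obtain ⟨Q⟩ := Sylow.nonempty (p := p) (G := centralizer ({x} : Set G))
      let Q' : Subgroup G := (Q : Subgroup _).map (centralizer ({x} : Set G)).subtype
      obtain ⟨R, hR⟩ := (Q.isPGroup'.map (centralizer ({x} : Set G)).subtype).exists_le_sylow
      have hRQ : Q' = R := by
        refine eq_of_le_of_card_ge hR (le_of_eq ?_)
        rw [card_map_of_injective (subtype_injective _), Q.card_eq_multiplicity, R.card_eq_multiplicity,
          fact_centralizer x p, Nat.factorization_eq_zero_of_not_dvd hpd, add_zero]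
      obtain ⟨g', hg'⟩ := MulAction.exists_smul_eq G P R
      have key : ∀ y ∈ (R : Subgroup G), x * y = y * x := by
        rw [← hRQ]
        rintro _ ⟨y, -, rfl⟩
        exact (mem_centralizer_singleton_iff.mp y.2).symm
      refine hx g'⁻¹ ?_
      rw [mem_centralizer_iff]
      intro y hy
      have hyR : g' * y * g'⁻¹ ∈ (R : Subgroup G) := by
        rw [← hg']
        exact ⟨y, hy, rfl⟩
      calc y * (g'⁻¹ * x * g'⁻¹⁻¹) = g'⁻¹ * ((g' * y * g'⁻¹) * x) * g' := by group
        _ = g'⁻¹ * x * g'⁻¹⁻¹ * y := by rw [← key _ hyR]; group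
    obtain ⟨z, hz⟩ := exists_ne (1 : (P : Subgroup G))
    refine hz (Subtype.ext (mem_bot.mp (hZG ▸ mem_center_iff.mpr fun g => ?_)))
    have : g ∈ centralizer ((P : Subgroup G) : Set G) := hCP.symm ▸ mem_top g
    exact ((mem_centralizer_iff.mp this) z z.2).symm
  -- types of elements of `G`
  let T : G → Prop := fun x => Far (cG x)
  have htype : ∀ x y : G, x ≠ 1 → y ≠ 1 → cG x ∣ cG y → (T x ↔ T y) := by
    intro x y hx hy hd
    obtain ⟨g, hg⟩ := hGM x
    obtain ⟨g', hg'⟩ := hGM y
    have hg1 : g ≠ 1 := fun h => index_ne_one_of_center hZG hx (by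
      have e : cG x = 1 := by rw [← hg, h]; simp [cM]
      exact e)
    have hg1' : g' ≠ 1 := fun h => index_ne_one_of_center hZG hy (by
      have e : cG y = 1 := by rw [← hg', h]; simp [cM]
      exact e)
    obtain ⟨r, hr, hrd⟩ := hcard g hg1
    obtain ⟨t, ht, htd⟩ := hcard g' hg1'
    have hrt := hcomp g g' hg1 hg1' (by rw [hg, hg']; exact hd) r t hr ht hrd htd
    constructor
    · rintro ⟨u, hu1, hu, hu'⟩
      refine ⟨g', hg1', hg', fun s hs hsd hiff => ?_⟩
      obtain ⟨r', hr', hrd'⟩ := hcard u hu1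
      refine hu' r' hr' hrd' ?_
      have e : (r' ∈ A ↔ t ∈ A) := hcomp u g' hu1 hg1' (by simp only [cM]; rw [hu]; exact hd.trans (dvd_of_eq hg'.symm)) r' t hr' ht hrd' htd
      exact e.trans ((hside g' hg1' t s ht hs htd hsd).trans hiff)
    · rintro ⟨u, hu1, hu, hu'⟩
      refine ⟨g, hg1, hg, fun s hs hsd hiff => ?_⟩
      obtain ⟨r', hr', hrd'⟩ := hcard u hu1
      refine hu' r' hr' hrd' ?_
      have e : (r ∈ A ↔ r' ∈ A) := hcomp g u hg1 hu1 (by simp only [cM] at hg ⊢; rw [hu, hg]; exact hd) r r' hr hr' hrd hrd'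
      exact e.symm.trans ((hside g hg1 r s hr hs hrd hsd).trans hiff)
  have hcomm : ∀ x y : G, x ≠ 1 → y ≠ 1 → Commute x y → (orderOf x).Coprime (orderOf y) → (T x ↔ T y) := by
    intro x y hx hy hxy hcop
    have hne : x * y ≠ 1 := fun h => by
      have := hxy.orderOf_mul_eq_mul_orderOf_of_coprime hcop
      rw [h, orderOf_one] at this
      exact hx (orderOf_eq_one_iff.mp (Nat.eq_one_of_mul_eq_one_right this.symm))
    have hyx : y * x ≠ 1 := hxy.eq ▸ hne
    exact ((htype x (x * y) hx hne (index_dvd_of_le fun c hc => mem_centralizer_of_mul hxy hcop hc))).trans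
      (htype y (x * y) hy hne (index_dvd_of_le fun c hc =>
        mem_centralizer_of_mul hxy.symm hcop.symm (by rwa [hxy.symm.eq]))).symm
  have hTp : ∀ x : G, T x → (Nat.card (centralizer ({x} : Set G))).factorization p =
      (Nat.card G).factorization p - (Nat.card M).factorization p := fun x hx => by
    have h1 := fact_centralizer x p
    have h2 : (centralizer ({x} : Set G)).index.factorization p = (Nat.card M).factorization p :=
      hFar_full _ hx
    omega
  have hx₀T : T x₀ := by change Far (cG x₀); rw [hx₀]; exact hFar₀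
  have hx₀1 : x₀ ≠ 1 := fun h => index_ne_one_of_center hZM hg₀1 (by
    have e : cM g₀ = 1 := by rw [← hx₀, h]; simp [cG]
    exact e)
  -- a Far element of prime order `≠ p`
  obtain ⟨w, hwT, hwp, hw1⟩ : ∃ w : G, T w ∧ (orderOf w).Coprime p ∧ w ≠ 1 := by
    obtain ⟨r, hr, hrd⟩ := Nat.exists_prime_and_dvd (mt orderOf_eq_one_iff.mp hx₀1)
    let y := x₀ ^ (orderOf x₀ / r)
    have hy : orderOf y = r := orderOf_pow_orderOf_div (orderOf_pos x₀).ne' hrd
    have hy1 : y ≠ 1 := fun h => hr.one_lt.ne' (by rw [← hy, h, orderOf_one])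
    have hyT : T y := by
      refine (htype y x₀ hy1 hx₀1 (index_dvd_of_le fun c hc => ?_)).mpr hx₀T
      rw [mem_centralizer_singleton_iff] at hc ⊢
      exact Commute.pow_right (show Commute c x₀ from hc) _
    by_cases hrp : r = p
    swap
    · exact ⟨y, hyT, hy ▸ (Nat.coprime_primes hr hp).mpr hrp, hy1⟩
    obtain ⟨u, hu1, hu, hu'⟩ := id hyT
    obtain ⟨s, hs, hsd⟩ := hcard u hu1
    haveI := Fact.mk hs
    have hsp : s ≠ p := fun h => hu' s hs hsd (by rw [h])
    have hsM : (Nat.card M).factorization s ≤ (Nat.card G).factorization s := by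
      obtain ⟨a', ha'⟩ : ∃ a' : M, a' ≠ 1 ∧ IsSide M (fun r => ¬ (r ∈ A ↔ s ∈ A)) (cM a') := by
        obtain ⟨a, ha, hap, had⟩ := hA
        obtain ⟨b, hb, hbp, hbd⟩ := hB
        obtain ⟨c, hc, hcp, hcd⟩ : ∃ c, ¬ (c ∈ A ↔ s ∈ A) ∧ c.Prime ∧ c ∣ Nat.card M := by
          by_cases hsA : s ∈ A
          · exact ⟨b, fun h => hb (h.mpr hsA), hbp, hbd⟩
          · exact ⟨a, fun h => hsA (h.mp ha), hap, had⟩
        haveI := Fact.mk hcp
        obtain ⟨a', ha'⟩ := exists_prime_orderOf_dvd_card' c hcd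
        have ha1 : a' ≠ 1 := fun h => hcp.one_lt.ne' (by rw [← ha', h, orderOf_one])
        refine ⟨a', ha1, a', ha1, rfl, fun r hr hrd hiff => hc ?_⟩
        refine (hside a' ha1 c r hcp hr ?_ hrd).trans hiff
        exact ha' ▸ (Subgroup.orderOf_mk a' (mem_centralizer_singleton_iff.mpr rfl)) ▸ orderOf_dvd_natCard _
      obtain ⟨-, g, -, hg, hg'⟩ := ha'
      obtain ⟨x, hx⟩ := hMG g
      have h1 := (Nat.factorization_le_iff_dvd index_ne_zero_of_finite Nat.card_pos.ne').mpr
        (index_dvd_card (centralizer ({x} : Set G))) s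
      have h2 := fact_centralizer g s
      rw [Nat.factorization_eq_zero_of_not_dvd (fun hd => hg' s hs hd Iff.rfl), zero_add] at h2
      simp only [cG, cM] at hx h1 h2
      rw [hx] at h1
      omega
    have hsy : s ∣ Nat.card (centralizer ({y} : Set G)) := by
      apply Nat.dvd_of_factorization_pos
      have h1 := fact_centralizer y s
      have h2 := fact_centralizer u s
      simp only [cG] at hu
      rw [hu] at h2
      have h3 : 0 < (Nat.card (centralizer ({u} : Set M))).factorization s :=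
        hs.factorization_pos_of_dvd Nat.card_pos.ne' hsd
      omega
    obtain ⟨w, hw, hwo⟩ := exists_orderOf_prime_mem hs hsy
    have hw1 : w ≠ 1 := fun h => hs.one_lt.ne' (by rw [← hwo, h, orderOf_one])
    refine ⟨w, (hcomm w y hw1 hy1 (mem_centralizer_singleton_iff.mp hw) ?_).mpr hyT,
      hwo ▸ (Nat.coprime_primes hs hp).mpr hsp, hw1⟩
    rw [hwo, hy, hrp]
    exact (Nat.coprime_primes hs hp).mpr hsp
  -- the contradiction
  obtain ⟨S₀⟩ := Sylow.nonempty (p := p) (G := centralizer ({w} : Set G))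
  let S : Subgroup G := (S₀ : Subgroup _).map (centralizer ({w} : Set G)).subtype
  have hScard : Nat.card S = p ^ ((Nat.card G).factorization p - (Nat.card M).factorization p) := by
    rw [card_map_of_injective (subtype_injective _), S₀.card_eq_multiplicity, hTp w hwT]
  have hSp : IsPGroup p S := S₀.isPGroup'.map _
  haveI : Nontrivial S := Finite.one_lt_card_iff_nontrivial.mp (by
    rw [hScard]; exact Nat.one_lt_pow (by omega) hp.one_lt)
  haveI := hSp.center_nontrivial
  obtain ⟨v, hv⟩ := exists_ne (1 : center S)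
  have hv1 : ((v : S) : G) ≠ 1 := fun h => hv (Subtype.ext (Subtype.ext h))
  have hcop_p : ∀ q : G, IsPGroup p (zpowers q) → (orderOf w).Coprime (orderOf q) := by
    intro q hq
    obtain ⟨n, hn⟩ := IsPGroup.iff_card.mp hq
    rw [Nat.card_zpowers] at hn
    rw [hn]
    exact Nat.Coprime.pow_right _ hwp
  have hwS : ∀ q ∈ S, Commute w q := by
    rintro _ ⟨q, -, rfl⟩
    exact (mem_centralizer_singleton_iff.mp q.2).symm
  have hvT : T (v : S) :=
    (hcomm w _ hw1 hv1 (hwS _ (v : S).2) (hcop_p _ (hSp.to_le (zpowers_le.mpr (v : S).2)))).mp hwT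
  obtain ⟨P, hSP⟩ := hSp.exists_le_sylow
  haveI : Nontrivial (P : Subgroup G) := Finite.one_lt_card_iff_nontrivial.mp (by
    rw [P.card_eq_multiplicity]; exact Nat.one_lt_pow (by omega) hp.one_lt)
  haveI := P.isPGroup'.center_nontrivial
  obtain ⟨z, hz⟩ := exists_ne (1 : center (P : Subgroup G))
  have hz1 : ((z : (P : Subgroup G)) : G) ≠ 1 := fun h => hz (Subtype.ext (Subtype.ext h))
  have hzP : ∀ q ∈ (P : Subgroup G), q * (z : (P : Subgroup G)) = (z : (P : Subgroup G)) * q := fun q hq =>
    congrArg Subtype.val (mem_center_iff.mp z.2 ⟨q, hq⟩)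
  have hSeq : S = (P : Subgroup G) ⊓ centralizer ({((v : S) : G)} : Set G) := by
    refine eq_of_le_of_card_ge (le_inf hSP fun q hq => mem_centralizer_singleton_iff.mpr
      (congrArg Subtype.val (mem_center_iff.mp v.2 ⟨q, hq⟩))) ?_
    obtain ⟨n, hn⟩ := IsPGroup.iff_card.mp (P.isPGroup'.to_le (inf_le_left : (P : Subgroup G) ⊓ centralizer ({((v : S) : G)} : Set G) ≤ P))
    rw [hn, hScard, ← hTp _ hvT]
    refine Nat.pow_le_pow_right hp.pos ?_
    rw [← hp.pow_dvd_iff_le_factorization Nat.card_pos.ne', ← hn]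
    exact card_dvd_of_le inf_le_right
  have hzS : ((z : (P : Subgroup G)) : G) ∈ S := by
    rw [hSeq]
    exact ⟨(z : (P : Subgroup G)).2, mem_centralizer_singleton_iff.mpr (hzP _ (hSP (v : S).2)).symm⟩
  have hzT : T (z : (P : Subgroup G)) :=
    (hcomm w _ hw1 hz1 (hwS _ hzS) (hcop_p _ (hSp.to_le (zpowers_le.mpr hzS)))).mp hwT
  have h1 := hTp _ hzT
  have h2 : (Nat.card G).factorization p ≤
      (Nat.card (centralizer ({((z : (P : Subgroup G)) : G)} : Set G))).factorization p := by
    rw [← hp.pow_dvd_iff_le_factorization Nat.card_pos.ne', ← P.card_eq_multiplicity]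
    exact card_dvd_of_le fun q hq => mem_centralizer_singleton_iff.mpr (hzP q hq)
  omega

end

/-- Let G and M be finite groups with trivial centres and the same set of conjugacy class sizes, and suppose the prime graph of M is disconnected: the prime divisors of #M split into two non-empty parts such that M has no element of order pq with p in one part and q in the other. Then #G = #M. -/
theorem result {G M : Type*}
    [Group G] [Finite G] [Group M] [Finite M] (hZG : Subgroup.center G = ⊥) (hZM : Subgroup.center M = ⊥)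
    (h : Set.range (fun g : G => (Subgroup.centralizer ({g} : Set G)).index) = Set.range (fun g : M => (Subgroup.centralizer ({g} : Set M)).index))
    (hdisc : ∃ A : Set ℕ, (∃ a ∈ A, a.Prime ∧ a ∣ Nat.card M) ∧ (∃ b ∉ A, b.Prime ∧ b ∣ Nat.card M) ∧
      ∀ a ∈ A, ∀ b ∉ A, a.Prime → b.Prime → a ∣ Nat.card M → b ∣ Nat.card M → ¬ ∃ x : M, orderOf x = a * b) :
    Nat.card G = Nat.card M := by
  obtain ⟨A, hA, hB, hno⟩ := hdisc
  refine Nat.eq_of_factorization_eq Nat.card_pos.ne' Nat.card_pos.ne' fun p => ?_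
  by_cases hp : p.Prime
  · exact factorization_eq hZG hZM h A hA hB hno p hp
  · rw [Nat.factorization_eq_zero_of_not_prime _ hp, Nat.factorization_eq_zero_of_not_prime _ hp]

end Cfsg.Agent.S4184
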