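import Cfsg.Statements.S4186

set_option autoImplicit false
open Cfsg

namespace Cfsg.Agent.S4186

/-- Let T and X be subgroups of a group with T a finite 2-group normalizing X but not centralizing it. Then some element of T inverts some non-identity element of X under conjugation. -/
theorem result {G : Type*} [Group G] (T X : Subgroup G) [Finite ↥T] (hT : IsPGroup 2 ↥T) (hTN : T ≤ Subgroup.normalizer (X : Set G)) (hTC : ¬ T ≤ Subgroup.centralizer (X : Set G)) : ∃ t ∈ T, ∃ x ∈ X, x ≠ 1 ∧ t * x * t⁻¹ = x⁻¹ := by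
  classical
  have h1 : ∃ t ∈ T, t ∉ Subgroup.centralizer (X : Set G) ∧
      t ^ 2 ∈ Subgroup.centralizer (X : Set G) := by
    by_contra hcon
    push Not at hcon
    obtain ⟨t, ht, htn⟩ := SetLike.not_le_iff_exists.1 hTC
    have key : ∀ k : ℕ, t ^ 2 ^ k ∉ Subgroup.centralizer (X : Set G) := by
      intro k
      induction k with
      | zero => simpa using htn
      | succ k ih => rw [pow_succ, pow_mul]; exact hcon _ (T.pow_mem ht _) ih
    obtain ⟨k, hk⟩ := hT ⟨t, ht⟩
    apply key k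
    have : t ^ 2 ^ k = 1 := by simpa using congrArg Subtype.val hk
    rw [this]; exact one_mem _
  obtain ⟨t, ht, htn, ht2⟩ := h1
  rw [Subgroup.mem_centralizer_iff] at htn ht2
  push Not at htn
  obtain ⟨y, hy, hyt⟩ := htn
  have hy' : t * y * t⁻¹ ∈ X := (Subgroup.mem_normalizer_iff.1 (hTN ht) y).1 hy
  refine ⟨t, ht, y⁻¹ * (t * y * t⁻¹), X.mul_mem (X.inv_mem hy) hy', ?_, ?_⟩
  · intro h
    apply hyt
    rw [inv_mul_eq_one] at h
    calc y * t = (t * y * t⁻¹) * t := by rw [← h]
      _ = t * y := by group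
  · have h2 := ht2 y hy
    have : t * (t * y * t⁻¹) * t⁻¹ = y := by
      calc t * (t * y * t⁻¹) * t⁻¹ = (t ^ 2 * y) * (t ^ 2)⁻¹ := by rw [pow_two]; group
        _ = (y * t ^ 2) * (t ^ 2)⁻¹ := by rw [h2]
        _ = y := by group
    calc t * (y⁻¹ * (t * y * t⁻¹)) * t⁻¹
        = (t * y * t⁻¹)⁻¹ * (t * (t * y * t⁻¹) * t⁻¹) := by group
      _ = (t * y * t⁻¹)⁻¹ * y := by rw [this]
      _ = _ := by group

end Cfsg.Agent.S4186
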