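import Cfsg.Statements.S4189
import Cfsg.Agent.Lib.Solv.MaxClassTwo
import Cfsg.Agent.Lib.Struct.UniqueOrderP
import Cfsg.Agent.Lib.Solv.CyclicIndexP

set_option autoImplicit false
open scoped Pointwise
open Cfsg

namespace Cfsg.Agent.S4189

/-- Let P be a finite non-abelian 2-group whose commutator subgroup has index 4 and whose automorphism group is not a 2-group (some automorphism has order that is not a power of 2). Then P is isomorphic to the quaternion group of order 8. -/
theorem result {P : Type*} [Group P] [Finite P] (hP : IsPGroup 2 P) (hna : ¬ IsMulCommutative P) (h4 : (commutator P).index = 4) (haut : ¬ IsPGroup 2 (MulAut P)) : Nonempty (P ≃* QuaternionGroup 2) := by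
  open Subgroup in
  haveI : Fact (Nat.Prime 2) := ⟨Nat.prime_two⟩
  obtain ⟨n, hG⟩ := IsPGroup.iff_card.1 hP
  have hD : commutator P ≠ ⊥ := fun h => hna ⟨⟨fun u v => by
    rw [_root_.commutator_def, commutator_eq_bot_iff_le_centralizer] at h
    exact mem_centralizer_iff.1 (h (mem_top v)) u (mem_top u)⟩⟩
  have hn : 3 ≤ n := by
    by_contra hn
    have h1 := (commutator P).card_mul_index
    rw [h4, hG] at h1
    have h2 : 2 ≤ Nat.card (commutator P) := by
      haveI := (nontrivial_iff_ne_bot _).2 hD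
      exact Finite.one_lt_card
    have : 2 ^ n ≤ 2 ^ 2 := Nat.pow_le_pow_right two_pos (by omega)
    omega
  obtain ⟨c, g, hc, hg, hZ, -, hinv, hsq⟩ := Cfsg.Agent.Solv.MaxClass.structure_two hn hG h4
  obtain ⟨k, rfl⟩ : ∃ k, n = k + 3 := ⟨n - 3, by omega⟩
  rw [show k + 3 - 1 = k + 2 from rfl] at hc
  rw [show k + 3 - 2 = k + 1 from rfl] at hZ
  have hci : (zpowers c).index = 2 := by
    have h1 := (zpowers c).card_mul_index
    rw [Nat.card_zpowers, hc, hG, pow_succ 2 (k + 2)] at h1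
    exact Nat.eq_of_mul_eq_mul_left (pow_pos two_pos _) h1
  have hcen : ∀ x : P, x ∈ center P → x ^ 2 = 1 := by
    intro x hx
    rw [hZ] at hx
    obtain ⟨i, rfl⟩ := mem_zpowers_iff.1 hx
    have h1 : (c ^ 2 ^ (k + 1)) ^ (2 : ℕ) = 1 := by
      rw [← pow_mul, ← pow_succ, ← hc]
      exact pow_orderOf_eq_one c
    rw [← zpow_natCast, zpow_comm, zpow_natCast, h1, one_zpow]
  obtain ⟨z, hz, hgc⟩ : ∃ z ∈ center P, g * c * g⁻¹ = z * c⁻¹ := ⟨_, hinv, by group⟩
  have hcz : ∀ (i : ℤ), g * c ^ i * g⁻¹ = z ^ i * (c ^ i)⁻¹ := fun i => by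
    rw [← conj_zpow, hgc, Commute.mul_zpow (mem_center_iff.1 hz c⁻¹).symm, inv_zpow]
  have hout : ∀ x : P, x ∉ zpowers c → ∃ i : ℤ, x = c ^ i * g := by
    intro x hx
    obtain ⟨i, hi⟩ := mem_zpowers_iff.1 ((mul_mem_iff_of_index_two hci).2
      ⟨fun h => absurd h hx, fun h => absurd ((inv_mem_iff).1 h) hg⟩ : x * g⁻¹ ∈ zpowers c)
    exact ⟨i, by rw [hi, inv_mul_cancel_right]⟩
  have hsqi : ∀ i : ℤ, (c ^ i * g) ^ 2 = z ^ i * g ^ 2 := by
    intro i
    rw [pow_two, show c ^ i * g * (c ^ i * g) = c ^ i * (g * c ^ i * g⁻¹) * g ^ 2 by rw [pow_two]; group,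
      hcz, ← mul_assoc (c ^ i), mem_center_iff.1 (zpow_mem hz i) (c ^ i), mul_inv_cancel_right]
  have hsqZ : ∀ i : ℤ, (c ^ i * g) ^ 2 ∈ center P := fun i => hsqi i ▸ mul_mem (zpow_mem hz i) hsq
  by_cases hchar : ∀ x : P, orderOf x = orderOf c → x ∈ zpowers c
  · exfalso
    refine haut fun α => ?_
    haveI := Fintype.ofFinite (MulAut P)
    obtain ⟨t, ht⟩ := Nat.exists_eq_pow_mul_and_not_dvd (orderOf_pos α).ne' 2 Nat.prime_two.ne_one
    obtain ⟨q, hqt, hq⟩ := ht
    refine ⟨t, ?_⟩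
    set β := α ^ 2 ^ t with hβ
    have hβq : β ^ q = 1 := by rw [hβ, ← pow_mul, ← hq, pow_orderOf_eq_one]
    have hodd : Odd q := Nat.odd_iff.2 (Nat.two_dvd_ne_zero.1 hqt)
    obtain ⟨r, hr⟩ := mem_zpowers_iff.1 (hchar (β c) (MulEquiv.orderOf_eq β c))
    have hpow : ∀ j : ℕ, (β ^ j) c = c ^ (r ^ j) := by
      intro j
      induction j with
      | zero => simp
      | succ j ih => rw [pow_succ', MulAut.mul_apply, ih, map_zpow, ← hr, ← zpow_mul, ← pow_succ']
    have h1 : ((2 : ℤ) ^ (k + 2)) ∣ r ^ q - 1 := by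
      have := hpow q
      rw [hβq, MulAut.one_apply] at this
      have h2 : c ^ (r ^ q - 1) = 1 := by rw [zpow_sub, ← this, zpow_one, mul_inv_cancel]
      rw [← orderOf_dvd_iff_zpow_eq_one, hc] at h2
      exact_mod_cast h2
    obtain ⟨w, hw | hw⟩ := Int.even_or_odd' r
    · exfalso
      have h2 : (2 : ℤ) ∣ r ^ q - 1 := (dvd_pow_self 2 (by omega)).trans h1
      have h3 : (2 : ℤ) ∣ r ^ q := dvd_pow ⟨w, hw⟩ hodd.pos.ne'
      have := dvd_sub h3 h2
      omega
    have hs : IsCoprime ((2 : ℤ) ^ (k + 2)) (∑ i ∈ Finset.range q, r ^ i) := by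
      refine IsCoprime.pow_left ?_
      rw [Int.isCoprime_iff_nat_coprime]
      refine (Nat.Prime.coprime_iff_not_dvd Nat.prime_two).2 ?_
      rw [← Int.natCast_dvd, ← ZMod.intCast_zmod_eq_zero_iff_dvd]
      push_cast
      rw [hw]
      push_cast
      rw [show (2 : ZMod 2) = 0 from rfl]
      simp [ZMod.natCast_eq_zero_iff_even, hodd]
    have hr1 : (2 : ℤ) ^ (k + 2) ∣ r - 1 := hs.dvd_of_dvd_mul_left (by rwa [geom_sum_mul])
    have hβc : β c = c := by
      rw [← hr, ← mul_inv_eq_one, show c ^ r * c⁻¹ = c ^ (r - 1) by rw [zpow_sub, zpow_one],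
        ← orderOf_dvd_iff_zpow_eq_one, hc]
      exact_mod_cast hr1
    have hg' : β g ∉ zpowers c := by
      intro h
      obtain ⟨i, hi⟩ := mem_zpowers_iff.1 h
      exact hg (mem_zpowers_iff.2 ⟨i, β.injective (by rw [map_zpow, hβc, hi])⟩)
    obtain ⟨i, hi⟩ := hout _ hg'
    have hpowg : ∀ j : ℕ, (β ^ j) g = c ^ (i * j) * g := by
      intro j
      induction j with
      | zero => simp
      | succ j ih =>
        rw [pow_succ', MulAut.mul_apply, ih, map_mul, map_zpow, hβc, hi, ← mul_assoc, ← zpow_add]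
        push_cast
        ring_nf
    have h5 := hpowg q
    rw [hβq, MulAut.one_apply, eq_comm, mul_eq_right, ← orderOf_dvd_iff_zpow_eq_one, hc] at h5
    have hcop : IsCoprime ((2 : ℤ) ^ (k + 2)) (q : ℤ) := by
      refine IsCoprime.pow_left ?_
      rw [Int.isCoprime_iff_nat_coprime]
      exact (Nat.Prime.coprime_iff_not_dvd Nat.prime_two).2 hqt
    have hci0 : c ^ i = 1 := by
      rw [← orderOf_dvd_iff_zpow_eq_one, hc]
      exact_mod_cast hcop.dvd_of_dvd_mul_right (by exact_mod_cast h5)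
    have hβg : β g = g := by rw [hi, hci0, one_mul]
    ext x
    rw [MulAut.one_apply]
    by_cases hx : x ∈ zpowers c
    · obtain ⟨j, rfl⟩ := mem_zpowers_iff.1 hx
      rw [map_zpow, hβc]
    · obtain ⟨j, rfl⟩ := hout x hx
      rw [map_mul, map_zpow, hβc, hβg]
  · simp only [not_forall] at hchar
    obtain ⟨x, hx, hxC⟩ := hchar
    obtain ⟨i, rfl⟩ := hout x hxC
    have hx4 : (c ^ i * g) ^ 4 = 1 := by
      rw [show 4 = 2 * 2 from rfl, pow_mul, hcen _ (hsqZ i)]
    have hk : k = 0 := by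
      have h1 := orderOf_dvd_of_pow_eq_one hx4
      rw [hx, hc] at h1
      by_contra hk
      have h2 : 2 ^ 3 ≤ 2 ^ (k + 2) := Nat.pow_le_pow_right two_pos (by omega)
      have := Nat.le_of_dvd (by norm_num) h1
      omega
    subst hk
    -- now the group has order eight and all outside elements share a nontrivial square
    have hzc : z = 1 := by
      by_contra hz1
      have h1 : z = c ^ 2 := by
        have := (hZ ▸ hz : z ∈ zpowers (c ^ 2 ^ (0 + 1)))
        rw [show 2 ^ (0 + 1) = 2 from rfl] at this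
        obtain ⟨j, hj⟩ := mem_zpowers_iff.1 this
        obtain ⟨w, hw | hw⟩ := Int.even_or_odd' j
        · exfalso
          apply hz1
          rw [← hj, hw, zpow_mul, zpow_ofNat, ← pow_mul, show 2 * 2 = 2 ^ (0 + 2) from rfl, ← hc, pow_orderOf_eq_one, one_zpow]
        · rw [← hj, hw, zpow_add, zpow_one, zpow_mul, zpow_ofNat, ← pow_mul, show 2 * 2 = 2 ^ (0 + 2) from rfl, ← hc, pow_orderOf_eq_one, one_zpow, one_mul]
      -- then `g` centralizes `c`
      have hgc' : Commute g c := by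
        refine mul_inv_eq_iff_eq_mul.1 ?_
        rw [hgc, h1]
        group
      apply hna
      have hcenC : c ∈ center P := by
        rw [mem_center_iff]
        intro y
        by_cases hy : y ∈ zpowers c
        · obtain ⟨j, rfl⟩ := mem_zpowers_iff.1 hy
          exact ((Commute.refl c).zpow_left j).eq
        · obtain ⟨j, rfl⟩ := hout y hy
          exact (((Commute.refl c).zpow_left j).mul_left hgc').eq
      exfalso
      have h2 := hcen c hcenC
      have := orderOf_dvd_of_pow_eq_one h2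
      rw [hc] at this
      exact absurd (Nat.le_of_dvd two_pos this) (by norm_num)
    have hg2 : ∀ j : ℤ, (c ^ j * g) ^ 2 = g ^ 2 := fun j => by rw [hsqi, hzc, one_zpow, one_mul]
    have hgne : g ^ 2 ≠ 1 := by
      intro h
      have h1 := orderOf_dvd_of_pow_eq_one ((hg2 i).trans h)
      rw [hx, hc] at h1
      exact absurd (Nat.le_of_dvd two_pos h1) (by norm_num)
    rcases Cfsg.Agent.Struct.cyclic_or_quaternion hP (fun x y hx hy => by
      by_cases hxc : x ∈ zpowers c
      swap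
      · obtain ⟨j, rfl⟩ := hout x hxc
        exact absurd ((hg2 j).symm.trans (hx ▸ pow_orderOf_eq_one _)) hgne
      by_cases hyc : y ∈ zpowers c
      swap
      · obtain ⟨j, rfl⟩ := hout y hyc
        exact absurd ((hg2 j).symm.trans hy) hgne
      have hc2 : orderOf (c ^ 2 ^ (0 + 1)) = 2 := by
        rw [orderOf_pow_of_dvd (by norm_num) (hc ▸ pow_dvd_pow 2 (by omega)), hc]; rfl
      have h2 : zpowers x = zpowers (c ^ 2 ^ (0 + 1)) :=
        eq_of_le_of_card_ge (zpowers_le.2 (Cfsg.Agent.Solv.CycP.root_mem (p := 2) hc hxc (hx ▸ pow_orderOf_eq_one x)))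
          (by rw [Nat.card_zpowers, Nat.card_zpowers, hx, hc2])
      rw [h2]
      exact Cfsg.Agent.Solv.CycP.root_mem (p := 2) hc hyc hy) with hcyc | ⟨-, l, hl, e⟩
    · exact absurd (inferInstance : IsMulCommutative P) hna
    · obtain ⟨e⟩ := e
      haveI : NeZero (2 ^ l) := ⟨pow_ne_zero _ two_ne_zero⟩
      have h1 := Nat.card_congr e.toEquiv
      rw [hG, Nat.card_eq_fintype_card, QuaternionGroup.card] at h1
      have : l = 1 := by
        rw [show 4 * 2 ^ l = 2 ^ (l + 2) by ring] at h1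
        have := Nat.pow_right_injective (le_refl 2) h1
        omega
      subst this
      exact ⟨e⟩

end Cfsg.Agent.S4189
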