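import Cfsg.Statements.S4195

set_option autoImplicit false
open Cfsg

namespace Cfsg.Agent.S4195

---pre
theorem two_elt_mem_sylow {G : Type*} [Group G] (P : Sylow 2 G) (u : G)
    (hu : u ∈ Subgroup.normalizer ((P : Subgroup G) : Set G)) (h2 : ∃ k, u ^ 2 ^ k = 1) :
    u ∈ (P : Subgroup G) := by
  obtain ⟨k, hk⟩ := h2
  have hz : IsPGroup 2 (Subgroup.zpowers u) := by
    rintro ⟨v, n, rfl⟩
    refine ⟨k, Subtype.ext ?_⟩
    simp only [SubmonoidClass.coe_pow, OneMemClass.coe_one]
    rw [← zpow_natCast (u ^ n), ← zpow_mul, mul_comm, zpow_mul, zpow_natCast, hk, one_zpow]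
  have h := P.is_maximal' (hz.to_sup_of_normal_right' P.isPGroup'
    (Subgroup.zpowers_le.2 hu)) le_sup_right
  rw [← h]
  exact Subgroup.mem_sup_left (Subgroup.mem_zpowers u)

/-- Let x be a non-identity element of a finite group G whose centralizer contains a Sylow 2-subgroup of G. If x is conjugate to its inverse, then x has order 2. -/
theorem result {G : Type*} [Group G] [Finite G] (x : G) (hx : x ≠ 1) (P : Sylow 2 G) (hP : (P : Subgroup G) ≤ Subgroup.centralizer ({x} : Set G)) (hreal : IsConj x x⁻¹) : orderOf x = 2 := by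
  obtain ⟨u, hu⟩ := isConj_iff.1 hreal
  have hc : ∀ y, y ∈ Subgroup.centralizer ({x} : Set G) → u * y * u⁻¹ ∈ Subgroup.centralizer ({x} : Set G) := by
    intro y hy
    rw [Subgroup.mem_centralizer_singleton_iff] at *
    have hy' : Commute y x⁻¹ := Commute.inv_right hy
    have e : x = u * x⁻¹ * u⁻¹ := by
      have := congrArg (fun t => t⁻¹) hu
      simp only [inv_inv] at this
      exact this.symm.trans (by group)
    calc u * y * u⁻¹ * x = u * y * u⁻¹ * (u * x⁻¹ * u⁻¹) := by rw [← e]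
      _ = u * (y * x⁻¹) * u⁻¹ := by group
      _ = u * (x⁻¹ * y) * u⁻¹ := by rw [hy'.eq]
      _ = (u * x⁻¹ * u⁻¹) * (u * y * u⁻¹) := by group
      _ = x * (u * y * u⁻¹) := by rw [← e]
  set C := Subgroup.centralizer ({x} : Set G)
  have hP' : ((u • P : Sylow 2 G) : Subgroup G) ≤ C := by
    intro y hy
    rw [Sylow.coe_subgroup_smul, Subgroup.mem_pointwise_smul_iff_inv_smul_mem] at hy
    have := hc _ (hP hy)
    simpa [MulAut.smul_def, mul_assoc] using this
  obtain ⟨c, hceq⟩ := MulAction.exists_smul_eq C ((u • P).subtype hP') (P.subtype hP)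
  rw [Sylow.smul_subtype] at hceq
  have hfix : ((c : G) * u) • P = P := by
    rw [mul_smul]
    exact Sylow.subtype_injective hceq
  rw [Sylow.smul_eq_iff_mem_normalizer] at hfix
  set w := (c : G) * u
  have hw : w * x * w⁻¹ = x⁻¹ := by
    have hcc := c.2
    rw [Subgroup.mem_centralizer_singleton_iff] at hcc
    calc w * x * w⁻¹ = (c : G) * (u * x * u⁻¹) * (c : G)⁻¹ := by simp only [w]; group
      _ = (c : G) * x⁻¹ * (c : G)⁻¹ := by rw [hu]
      _ = ((c : G) * x * (c : G)⁻¹)⁻¹ := by group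
      _ = x⁻¹ := by rw [hcc, mul_inv_cancel_right]
  obtain ⟨k, m, hm, hn⟩ := Nat.exists_eq_two_pow_mul_odd (orderOf_pos w).ne'
  have hmem : w ^ m ∈ C := by
    apply hP
    apply two_elt_mem_sylow P _ (Subgroup.pow_mem _ hfix _)
    exact ⟨k, by rw [← pow_mul, mul_comm, ← hn, pow_orderOf_eq_one]⟩
  have hp : ∀ j : ℕ, (w ^ j) * x * (w ^ j)⁻¹ = if Even j then x else x⁻¹ := by
    intro j
    induction j with
    | zero => simp
    | succ j ih =>
      have : w ^ (j + 1) * x * (w ^ (j + 1))⁻¹ = w * (w ^ j * x * (w ^ j)⁻¹) * w⁻¹ := by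
        rw [pow_succ']; group
      rw [this, ih]
      by_cases hj : Even j
      · rw [if_pos hj, hw, if_neg (by simp [Nat.even_add_one, hj])]
      · rw [if_neg hj, if_pos (Nat.even_add_one.2 hj),
          show w * x⁻¹ * w⁻¹ = (w * x * w⁻¹)⁻¹ by group, hw, inv_inv]
  have h1 := hp m
  rw [if_neg (Nat.not_even_iff_odd.2 hm)] at h1
  rw [Subgroup.mem_centralizer_singleton_iff] at hmem
  rw [show w ^ m * x * (w ^ m)⁻¹ = x by rw [hmem, mul_inv_cancel_right]] at h1
  apply orderOf_eq_prime ?_ hx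
  rw [pow_two]
  nth_rewrite 1 [h1]
  simp

end Cfsg.Agent.S4195
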