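import Cfsg.Statements.S4196
import Mathlib
import Cfsg.Agent.S4195

set_option autoImplicit false
open Cfsg

namespace Cfsg.Agent.S4196

/-- A finite group G has elementary abelian Sylow 2-subgroups (commutative with every element squaring to the identity) if and only if every 2-element of G has a Sylow 2-subgroup in its centralizer and is conjugate to its inverse. -/
theorem result {G : Type*} [Group G] [Finite G] (P : Sylow 2 G) :
    (IsMulCommutative (P : Subgroup G) ∧ ∀ x ∈ (P : Subgroup G), x ^ 2 = 1) ↔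
      ∀ x : G, (∃ k : ℕ, orderOf x = 2 ^ k) → (∃ Q : Sylow 2 G, (Q : Subgroup G) ≤ Subgroup.centralizer ({x} : Set G)) ∧ IsConj x x⁻¹ := by
  constructor
  · rintro ⟨hab, hsq⟩ x ⟨k, hk⟩
    have hX : IsPGroup 2 (Subgroup.zpowers x) := by
      rw [IsPGroup.iff_card]; exact ⟨k, by rw [Nat.card_zpowers, hk]⟩
    obtain ⟨Q, hQ⟩ := hX.exists_le_sylow
    have hxQ : x ∈ (Q : Subgroup G) := hQ (Subgroup.mem_zpowers x)
    obtain e := Sylow.equiv Q P
    refine ⟨⟨Q, fun y hy => Subgroup.mem_centralizer_iff.2 fun z hz => ?_⟩, ?_⟩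
    · rw [Set.mem_singleton_iff] at hz; subst hz
      have : (⟨z, hxQ⟩ : (Q : Subgroup G)) * ⟨y, hy⟩ = ⟨y, hy⟩ * ⟨z, hxQ⟩ := by
        apply e.injective
        rw [map_mul, map_mul]
        exact hab.is_comm.comm _ _
      exact congrArg Subtype.val this
    · have h2 : (⟨x, hxQ⟩ : (Q : Subgroup G)) ^ 2 = 1 := by
        apply e.injective
        rw [map_pow, map_one]
        exact Subtype.ext (hsq _ (e ⟨x, hxQ⟩).2)
      have h3 : x * x = 1 := by rw [← pow_two]; exact congrArg Subtype.val h2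
      rw [← eq_inv_of_mul_eq_one_left h3]
  · intro h
    have hsq : ∀ x ∈ (P : Subgroup G), x ^ 2 = 1 := by
      intro x hx
      obtain ⟨k, hk⟩ := IsPGroup.iff_orderOf.1 P.isPGroup' ⟨x, hx⟩
      obtain ⟨⟨Q, hQ⟩, hr⟩ := h x ⟨k, by rw [← hk, Subgroup.orderOf_mk]⟩
      by_cases h1 : x = 1
      · rw [h1, one_pow]
      · rw [← S4195.result x h1 Q hQ hr, pow_orderOf_eq_one]
    refine ⟨⟨⟨fun a b => ?_⟩⟩, hsq⟩
    have hi : ∀ c : (P : Subgroup G), c⁻¹ = c := fun c => by
      apply inv_eq_of_mul_eq_one_left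
      exact Subtype.ext (by rw [Subgroup.coe_mul, ← pow_two]; exact hsq _ c.2)
    calc a * b = (a * b)⁻¹ := (hi _).symm
      _ = b * a := by rw [mul_inv_rev, hi, hi]

end Cfsg.Agent.S4196
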