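import Cfsg.Statements.S4198
import Mathlib.GroupTheory.SpecificGroups.Alternating.Centralizer


set_option autoImplicit false
open scoped Pointwise
open Cfsg

namespace Cfsg.Agent.S4198

section Helpers

theorem card_partition_le : ∀ n, 5 ≤ n → Fintype.card (Nat.Partition n) ≤ 2 ^ (n - 2) := by
  intro n hn
  induction n, hn using Nat.le_induction with
  | base =>
    let T := {t : Fin 3 × Fin 2 × Fin 2 × Fin 2 //
      2 * (t.1 : ℕ) + 3 * (t.2.1 : ℕ) + 4 * (t.2.2.1 : ℕ) + 5 * (t.2.2.2 : ℕ) ≤ 5}
    have hT : Fintype.card T ≤ 8 := by decide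
    have hsum : ∀ P : Nat.Partition 5, P.parts.count 1 + 2 * P.parts.count 2 + 3 * P.parts.count 3 +
        4 * P.parts.count 4 + 5 * P.parts.count 5 = 5 := by
      intro P
      have h1 := P.parts_sum
      rw [Finset.sum_multiset_count_of_subset P.parts (Finset.range 6) (fun i hi => by
        rw [Multiset.mem_toFinset] at hi
        exact Finset.mem_range.2 (Nat.lt_succ_of_le (Nat.Partition.le_of_mem_parts hi)))] at h1
      simp only [Finset.sum_range_succ, Finset.sum_range_zero, smul_eq_mul] at h1
      omega
    let f : Nat.Partition 5 → T := fun P =>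
      ⟨(⟨P.parts.count 2, by have := hsum P; omega⟩, ⟨P.parts.count 3, by have := hsum P; omega⟩,
        ⟨P.parts.count 4, by have := hsum P; omega⟩, ⟨P.parts.count 5, by have := hsum P; omega⟩),
        by have := hsum P; simp only; omega⟩
    refine (Fintype.card_le_of_injective f fun P Q h => ?_).trans hT
    have h2 : P.parts.count 2 = Q.parts.count 2 := congrArg (fun t : T => (t.1.1 : ℕ)) h
    have h3 : P.parts.count 3 = Q.parts.count 3 := congrArg (fun t : T => (t.1.2.1 : ℕ)) h
    have h4 : P.parts.count 4 = Q.parts.count 4 := congrArg (fun t : T => (t.1.2.2.1 : ℕ)) h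
    have h5 : P.parts.count 5 = Q.parts.count 5 := congrArg (fun t : T => (t.1.2.2.2 : ℕ)) h
    refine Nat.Partition.ext (Multiset.ext.2 fun i => ?_)
    have hP := hsum P
    have hQ := hsum Q
    by_cases hi : 1 ≤ i ∧ i ≤ 5
    · obtain ⟨hi1, hi5⟩ := hi
      interval_cases i <;> omega
    · rw [Multiset.count_eq_zero_of_notMem (fun hm => hi ⟨P.parts_pos hm, Nat.Partition.le_of_mem_parts hm⟩),
        Multiset.count_eq_zero_of_notMem (fun hm => hi ⟨Q.parts_pos hm, Nat.Partition.le_of_mem_parts hm⟩)]
  | succ n hn ih =>
    classical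
    have hne : ∀ P : Nat.Partition (n + 1), P.parts.toFinset.Nonempty := fun P => by
      refine Multiset.toFinset_nonempty.2 fun e => ?_
      have := P.parts_sum
      rw [e, Multiset.sum_zero] at this
      omega
    -- lower the least part, or remove it when it is one
    have key : ∀ P : Nat.Partition (n + 1), ∃ Q : Nat.Partition n,
        (1 ∈ P.parts → Q.parts = P.parts.erase 1) ∧
        (1 ∉ P.parts → Q.parts = (P.parts.toFinset.min' (hne P) - 1) ::ₘ P.parts.erase (P.parts.toFinset.min' (hne P))) := by
      intro P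
      by_cases h1 : 1 ∈ P.parts
      · refine ⟨⟨P.parts.erase 1, fun hi => P.parts_pos (Multiset.mem_of_mem_erase hi), ?_⟩,
          fun _ => rfl, fun h => absurd h1 h⟩
        have := P.parts_sum
        rw [← Multiset.cons_erase h1, Multiset.sum_cons] at this
        omega
      · set s := P.parts.toFinset.min' (hne P)
        have hs : s ∈ P.parts := Multiset.mem_toFinset.1 (Finset.min'_mem _ _)
        have hs2 : 2 ≤ s := by
          have := P.parts_pos hs
          rcases Nat.lt_or_ge s 2 with h | h
          · exact absurd (by rwa [show s = 1 by omega] at hs) h1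
          · exact h
        refine ⟨⟨(s - 1) ::ₘ P.parts.erase s, fun hi => ?_, ?_⟩, fun h => absurd h h1, fun _ => rfl⟩
        · rcases Multiset.mem_cons.1 hi with rfl | hi
          · omega
          · exact P.parts_pos (Multiset.mem_of_mem_erase hi)
        · have := P.parts_sum
          rw [← Multiset.cons_erase hs, Multiset.sum_cons] at this
          rw [Multiset.sum_cons]
          omega
    choose Q hQ1 hQ2 using key
    let f : Nat.Partition (n + 1) → Nat.Partition n ⊕ Nat.Partition n := fun P =>
      if 1 ∈ P.parts then Sum.inl (Q P) else Sum.inr (Q P)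
    have hf : Function.Injective f := by
      intro P P' h
      by_cases h1 : 1 ∈ P.parts <;> by_cases h2 : 1 ∈ P'.parts <;>
        simp only [f, h1, h2, if_true, if_false, reduceCtorEq, Sum.inl.injEq, Sum.inr.injEq] at h
      · refine Nat.Partition.ext ?_
        rw [← Multiset.cons_erase h1, ← Multiset.cons_erase h2, ← hQ1 P h1, ← hQ1 P' h2, h]
      · have a := hQ2 P h1
        have b := hQ2 P' h2
        rw [h] at a
        rw [b] at a
        set s := P.parts.toFinset.min' (hne P)
        set t := P'.parts.toFinset.min' (hne P')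
        have hs : s ∈ P.parts := Multiset.mem_toFinset.1 (Finset.min'_mem _ _)
        have ht : t ∈ P'.parts := Multiset.mem_toFinset.1 (Finset.min'_mem _ _)
        have hs0 := P.parts_pos hs
        have ht0 := P'.parts_pos ht
        have hst : s = t := by
          have e1 : t - 1 ∈ (s - 1) ::ₘ P.parts.erase s := a ▸ Multiset.mem_cons_self _ _
          have e2 : s - 1 ∈ (t - 1) ::ₘ P'.parts.erase t := a.symm ▸ Multiset.mem_cons_self _ _
          rcases Multiset.mem_cons.1 e1 with e1 | e1
          · omega
          rcases Multiset.mem_cons.1 e2 with e2 | e2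
          · omega
          have l1 : s ≤ t - 1 := Finset.min'_le _ _ (Multiset.mem_toFinset.2 (Multiset.mem_of_mem_erase e1))
          have l2 : t ≤ s - 1 := Finset.min'_le _ _ (Multiset.mem_toFinset.2 (Multiset.mem_of_mem_erase e2))
          omega
        rw [hst, Multiset.cons_inj_right] at a
        refine Nat.Partition.ext ?_
        rw [← Multiset.cons_erase hs, ← Multiset.cons_erase ht, hst, a]
    have := Fintype.card_le_of_injective f hf
    rw [Fintype.card_sum] at this
    rw [show n + 1 - 2 = n - 2 + 1 by omega, pow_succ]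
    omega

end Helpers

/-- For n ≥ 5 the alternating group of degree n has strictly fewer conjugacy classes than the symmetric group of degree n, and the symmetric group of degree n (whose classes correspond to the partitions of n) has at most 2^(n−2) conjugacy classes. -/
theorem result (n : ℕ) (hn : 5 ≤ n) : Nat.card (ConjClasses (alternatingGroup (Fin n))) < Nat.card (ConjClasses (Equiv.Perm (Fin n))) ∧ Nat.card (ConjClasses (Equiv.Perm (Fin n))) ≤ 2 ^ (n - 2) := by
  open Equiv Equiv.Perm in
  classical
  constructor
  swap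
  · let F : ConjClasses (Perm (Fin n)) → Nat.Partition (Fintype.card (Fin n)) := fun C =>
      Quotient.liftOn C (fun g => g.partition) fun g h e => partition_eq_of_isConj.1 e
    have hF : Function.Injective F := by
      intro a b
      induction a using Quotient.inductionOn with
      | _ g => induction b using Quotient.inductionOn with
        | _ h => exact fun e => Quotient.sound (partition_eq_of_isConj.2 e)
    have h1 := Nat.card_le_card_of_injective F hF
    rw [Nat.card_eq_fintype_card (α := Nat.Partition _)] at h1
    exact h1.trans ((card_partition_le _ (by rw [Fintype.card_fin]; exact hn)).trans (by rw [Fintype.card_fin]))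
  -- the split classes
  let sp : Perm (Fin n) → Prop := fun g => Subgroup.centralizer {g} ≤ alternatingGroup (Fin n)
  have hodd : ∀ g : Perm (Fin n), sp g → ∃ h : Perm (Fin n), sign h = -1 ∧ h.cycleType ≠ {2} ∧
      ∃ m ∈ g.cycleType, 3 ≤ m ∧ h.cycleType = (m - 1) ::ₘ g.cycleType.erase m := by
    intro g hg
    obtain ⟨ho, hs, -⟩ := centralizer_le_alternating_iff.1 hg
    rw [Fintype.card_fin] at hs
    obtain ⟨m, hm⟩ := Multiset.exists_mem_of_ne_zero (s := g.cycleType) (fun e => by
      rw [e, Multiset.sum_zero] at hs; omega)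
    have hm2 := two_le_of_mem_cycleType hm
    obtain ⟨j, hj⟩ := ho m hm
    have hsum : g.cycleType.sum = m + (g.cycleType.erase m).sum := by
      rw [← Multiset.sum_cons, Multiset.cons_erase hm]
    have hle : g.cycleType.sum ≤ n := by
      have := g.support.card_le_univ
      rwa [← sum_cycleType, Fintype.card_fin] at this
    obtain ⟨h, hh⟩ := (exists_with_cycleType_iff (Fin n) (m := (m - 1) ::ₘ g.cycleType.erase m)).2 ⟨by
      rw [Multiset.sum_cons, Fintype.card_fin]; omega, fun a ha => by
      rcases Multiset.mem_cons.1 ha with rfl | ha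
      · omega
      · exact two_le_of_mem_cycleType (Multiset.mem_of_mem_erase ha)⟩
    refine ⟨h, ?_, ?_, m, hm, by omega, hh⟩
    · have hgs : sign g = 1 := mem_alternatingGroup.1 (hg (Subgroup.mem_centralizer_singleton_iff.2 rfl))
      rw [sign_of_cycleType] at hgs ⊢
      have hcard : g.cycleType.card = (g.cycleType.erase m).card + 1 := by
        rw [Multiset.card_erase_add_one hm]
      have e : h.cycleType.sum + h.cycleType.card + 1 = g.cycleType.sum + g.cycleType.card := by
        rw [hh, Multiset.sum_cons, Multiset.card_cons, hsum, hcard]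
        omega
      rw [← e, pow_succ] at hgs
      rcases Int.units_eq_one_or ((-1 : ℤˣ) ^ (h.cycleType.sum + h.cycleType.card)) with e' | e'
      · rw [e', one_mul] at hgs; exact absurd hgs (by decide)
      · exact e'
    · intro e2
      rw [hh] at e2
      have h2 := congrArg Multiset.sum e2
      rw [Multiset.sum_cons, Multiset.sum_singleton] at h2
      omega
  choose! od hod1 hod2 md hmd1 hmd2 hmd3 using hodd
  -- representatives
  let rep : ConjClasses (Perm (Fin n)) → Perm (Fin n) := fun C => C.out
  have hrep : ∀ C, ConjClasses.mk (rep C) = C := fun C => Quotient.out_eq C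
  have hconjA : ∀ g h : alternatingGroup (Fin n), IsConj (g : Perm (Fin n)) h →
      ¬ IsConj g h → sp g ∧ ∀ k : Perm (Fin n), k * g * k⁻¹ = h → sign k = -1 := by
    intro g h hc hn'
    have hk : ∀ k : Perm (Fin n), k * g * k⁻¹ = h → sign k = -1 := by
      intro k hk
      rcases Int.units_eq_one_or (sign k) with e | e
      · exact absurd (isConj_iff.2 ⟨⟨k, mem_alternatingGroup.2 e⟩, Subtype.ext hk⟩) hn'
      · exact e
    refine ⟨fun c hc' => mem_alternatingGroup.2 ?_, hk⟩
    obtain ⟨k, hk0⟩ := isConj_iff.1 hc
    have h2 : (k * c) * g * (k * c)⁻¹ = h := by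
      rw [mul_assoc k c, Subgroup.mem_centralizer_singleton_iff.1 hc', ← hk0]; group
    have a := hk _ hk0
    have b := hk _ h2
    rw [map_mul, a] at b
    exact mul_eq_left.1 b
  let ι : ConjClasses (alternatingGroup (Fin n)) → ConjClasses (Perm (Fin n)) := fun C =>
    ConjClasses.map (alternatingGroup (Fin n)).subtype C
  have hrA : ∀ C, rep (ι C) ∈ alternatingGroup (Fin n) := by
    intro C
    induction C using Quotient.inductionOn with
    | _ g =>
      have h1 : IsConj (g : Perm (Fin n)) (rep (ι (ConjClasses.mk g))) :=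
        ConjClasses.mk_eq_mk_iff_isConj.1 (hrep _).symm
      obtain ⟨k, hk⟩ := isConj_iff.1 h1
      show rep (ι (ConjClasses.mk g)) ∈ _
      rw [← hk]
      exact (inferInstance : (alternatingGroup (Fin n)).Normal).conj_mem _ g.2 k
  let F : ConjClasses (alternatingGroup (Fin n)) → ConjClasses (Perm (Fin n)) := fun C =>
    if ConjClasses.mk ⟨rep (ι C), hrA C⟩ = C then ι C else ConjClasses.mk (od (rep (ι C)))
  have hsp : ∀ C, ConjClasses.mk ⟨rep (ι C), hrA C⟩ ≠ C → sp (rep (ι C)) := by
    intro C hC
    induction C using Quotient.inductionOn with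
    | _ g =>
      exact (hconjA ⟨_, hrA _⟩ g (ConjClasses.mk_eq_mk_iff_isConj.1 (hrep (ι (ConjClasses.mk g))))
        (fun h => hC (ConjClasses.mk_eq_mk_iff_isConj.2 h))).1
  have hsgn : ∀ C g, ι C = ConjClasses.mk g → sign g = 1 := by
    intro C g h
    obtain ⟨k, hk⟩ := isConj_iff.1 (ConjClasses.mk_eq_mk_iff_isConj.1 ((hrep (ι C)).trans h))
    rw [← hk, map_mul, map_mul, mem_alternatingGroup.1 (hrA C), mul_one, ← map_mul, mul_inv_cancel, map_one]
  have hinj : Function.Injective F := by
    intro C D hCD
    by_cases hC : ConjClasses.mk ⟨rep (ι C), hrA C⟩ = C <;> by_cases hD : ConjClasses.mk ⟨rep (ι D), hrA D⟩ = D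
    · simp only [F, hC, hD, if_true] at hCD
      rw [← hC, ← hD]
      simp only [hCD]
    · simp only [F, hC, hD, if_true, if_false] at hCD
      exact absurd (hsgn C _ hCD) (by rw [hod1 _ (hsp D hD)]; decide)
    · simp only [F, hC, hD, if_true, if_false] at hCD
      exact absurd (hsgn D _ hCD.symm) (by rw [hod1 _ (hsp C hC)]; decide)
    · simp only [F, hC, hD, if_false] at hCD
      set g := rep (ι C) with hg
      set g' := rep (ι D) with hg'
      obtain ⟨ho, -, -⟩ := centralizer_le_alternating_iff.1 (hsp C hC)
      obtain ⟨ho', -, -⟩ := centralizer_le_alternating_iff.1 (hsp D hD)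
      have ht : (od g).cycleType = (od g').cycleType :=
        isConj_iff_cycleType_eq.1 (ConjClasses.mk_eq_mk_iff_isConj.1 hCD)
      rw [hmd3 _ (hsp C hC), hmd3 _ (hsp D hD)] at ht
      have hm : md g = md g' := by
        have h1 : md g - 1 ∈ (md g' - 1) ::ₘ g'.cycleType.erase (md g') := ht ▸ Multiset.mem_cons_self _ _
        rcases Multiset.mem_cons.1 h1 with e | e
        · have := hmd2 g (hsp C hC); have := hmd2 g' (hsp D hD); omega
        · exfalso
          obtain ⟨a, ha⟩ := ho' _ (Multiset.mem_of_mem_erase e)
          obtain ⟨b, hb⟩ := ho _ (hmd1 g (hsp C hC))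
          have := hmd2 g (hsp C hC)
          omega
      rw [hm, Multiset.cons_inj_right] at ht
      have hgt : g.cycleType = g'.cycleType := by
        rw [← Multiset.cons_erase (hmd1 _ (hsp C hC)), ← Multiset.cons_erase (hmd1 _ (hsp D hD)), hm, ht]
      have hι : ι C = ι D := by
        rw [← hrep (ι C), ← hrep (ι D)]
        exact ConjClasses.mk_eq_mk_iff_isConj.2 (isConj_iff_cycleType_eq.2 hgt)
      have hgg : g = g' := congrArg rep hι
      revert hC hD hι
      induction C using Quotient.inductionOn with
      | _ c => induction D using Quotient.inductionOn with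
        | _ d =>
          intro hC hD hι
          by_contra hne
          have h1 := hconjA ⟨g, hrA _⟩ c (ConjClasses.mk_eq_mk_iff_isConj.1 (hrep (ι (ConjClasses.mk c))))
            (fun h => hC (ConjClasses.mk_eq_mk_iff_isConj.2 h))
          have h2 := hconjA ⟨g', hrA _⟩ d (ConjClasses.mk_eq_mk_iff_isConj.1 (hrep (ι (ConjClasses.mk d))))
            (fun h => hD (ConjClasses.mk_eq_mk_iff_isConj.2 h))
          obtain ⟨k, hk⟩ := isConj_iff.1 (ConjClasses.mk_eq_mk_iff_isConj.1 hι : IsConj (c : Perm (Fin n)) d)
          have hk' : sign k = -1 := (hconjA c d (isConj_iff.2 ⟨k, hk⟩) (fun h => hne (ConjClasses.mk_eq_mk_iff_isConj.2 h))).2 k hk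
          obtain ⟨l, hl⟩ := isConj_iff.1 (ConjClasses.mk_eq_mk_iff_isConj.1 (hrep (ι (ConjClasses.mk c))) : IsConj g (c : Perm (Fin n)))
          have a := h1.2 l hl
          have b := h2.2 (k * l) (by
            show k * l * g' * (k * l)⁻¹ = d
            rw [← hgg, ← hk, ← hl]; group)
          rw [map_mul, hk', a] at b
          exact absurd b (by decide)
  let t : Perm (Fin n) := Equiv.swap ⟨0, by omega⟩ ⟨1, by omega⟩
  have hts : t.IsSwap := ⟨_, _, by simp [Fin.ext_iff], rfl⟩
  rw [Nat.card_eq_fintype_card, Nat.card_eq_fintype_card]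
  refine Fintype.card_lt_of_injective_of_notMem F hinj (b := ConjClasses.mk t) ?_
  rintro ⟨C, hC⟩
  by_cases hc : ConjClasses.mk ⟨rep (ι C), hrA C⟩ = C
  · simp only [F, hc, if_true] at hC
    have := hsgn C t hC
    rw [hts.sign_eq] at this
    exact absurd this (by decide)
  · simp only [F, hc, if_false] at hC
    refine hod2 _ (hsp C hc) ?_
    rw [isConj_iff_cycleType_eq.1 (ConjClasses.mk_eq_mk_iff_isConj.1 hC), hts.isCycle.cycleType,
      card_support_eq_two.2 hts]

end Cfsg.Agent.S4198
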