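import Cfsg.Statements.S4200
import Mathlib
import Cfsg.Agent.Lib.Perm.ConjCount

set_option autoImplicit false
open Cfsg

namespace Cfsg.Agent.S4200

/-- Let Y be a subgroup of the finite group X, of index m. Then the numbers of conjugacy classes satisfy k(Y) ≤ m·k(X) and k(X) ≤ m·k(Y), and the second inequality is strict unless Y is normal in X. -/
theorem result {X : Type*} [Group X] [Finite X] (Y : Subgroup X) : Nat.card (ConjClasses Y) ≤ Y.index * Nat.card (ConjClasses X) ∧ Nat.card (ConjClasses X) ≤ Y.index * Nat.card (ConjClasses Y) ∧ (¬ Y.Normal → Nat.card (ConjClasses X) < Y.index * Nat.card (ConjClasses Y)) := by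
  classical
  have : Fintype X := Fintype.ofFinite X
  have hm : Nat.card X = Y.index * Nat.card Y := by rw [mul_comm, Subgroup.card_mul_index]
  let cX := fun x : X => Nat.card ↥(Subgroup.centralizer ({x} : Set X))
  let cY := fun x : X => Nat.card ↥(Y ⊓ Subgroup.centralizer ({x} : Set X))
  have hle : ∀ x, cX x ≤ Y.index * cY x := by
    intro x
    show _ ≤ _
    have h1 := (Y.subgroupOf (Subgroup.centralizer ({x} : Set X))).card_mul_index
    have h2 : Nat.card (Y.subgroupOf (Subgroup.centralizer ({x} : Set X))) = cY x := by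
      rw [← Subgroup.inf_subgroupOf_right]
      exact Nat.card_congr (Subgroup.subgroupOfEquivOfLe inf_le_right).toEquiv
    rw [h2] at h1
    show cX x ≤ _
    rw [show cX x = cY x * (Y.subgroupOf (Subgroup.centralizer ({x} : Set X))).index from h1.symm,
      mul_comm]
    exact Nat.mul_le_mul_right _ ((Subgroup.relIndex_le_of_le_right (le_top : Subgroup.centralizer ({x} : Set X) ≤ ⊤)
      (by rw [Subgroup.relIndex_top_right]; exact Subgroup.index_ne_zero_of_finite)).trans_eq Y.relIndex_top_right)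
  have hYcount : Nat.card (ConjClasses Y) * Nat.card Y = ∑ y : Y, cY y := by
    rw [← card_comm_eq_card_conjClasses_mul_card, Perm.card_comm_eq_sum]
    refine Finset.sum_congr rfl fun y _ => ?_
    show _ = Nat.card ↥(Y ⊓ Subgroup.centralizer ({(y : X)} : Set X))
    rw [← Nat.card_congr (Subgroup.subgroupOfEquivOfLe (inf_le_left :
      Y ⊓ Subgroup.centralizer ({(y : X)} : Set X) ≤ Y)).toEquiv]
    apply Nat.card_congr
    exact Equiv.subtypeEquivRight fun z => by
      simp [Perm.mem_centralizer_singleton', Subgroup.mem_subgroupOf, Subtype.ext_iff]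
  have hXcount : Nat.card (ConjClasses X) * Nat.card X = ∑ x : X, cX x := by
    rw [← card_comm_eq_card_conjClasses_mul_card, Perm.card_comm_eq_sum]
  have hswap : ∑ x : X, cY x = ∑ y : Y, cX y := by
    show ∑ x : X, Nat.card ↥(Y ⊓ Subgroup.centralizer ({x} : Set X)) =
      ∑ y : Y, Nat.card ↥(Subgroup.centralizer ({(y : X)} : Set X))
    rw [← Nat.card_sigma, ← Nat.card_sigma]
    exact Nat.card_congr
      { toFun := fun s => ⟨⟨s.2.1, s.2.2.1⟩, s.1, Perm.mem_centralizer_singleton'.2
          (Perm.mem_centralizer_singleton'.1 s.2.2.2).symm⟩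
        invFun := fun s => ⟨s.2.1, s.1.1, s.1.2, Perm.mem_centralizer_singleton'.2
          (Perm.mem_centralizer_singleton'.1 s.2.2).symm⟩
        left_inv := fun _ => rfl
        right_inv := fun _ => rfl }
  have hsub : ∑ y : Y, cY y ≤ ∑ x : X, cX x := by
    calc ∑ y : Y, cY y ≤ ∑ y : Y, cX y :=
          Finset.sum_le_sum fun y _ => Subgroup.card_le_of_le inf_le_right
      _ = ∑ x : X, cY x := hswap.symm
      _ ≤ _ := Finset.sum_le_sum fun x _ => Subgroup.card_le_of_le inf_le_right
  have hup : ∑ x : X, cX x ≤ Y.index * ∑ y : Y, cX y := by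
    rw [← hswap, Finset.mul_sum]; exact Finset.sum_le_sum fun x _ => hle x
  have hup2 : ∑ y : Y, cX y ≤ Y.index * ∑ y : Y, cY y := by
    rw [Finset.mul_sum]; exact Finset.sum_le_sum fun x _ => hle x
  have hm0 : 0 < Y.index := Nat.pos_of_ne_zero Subgroup.index_ne_zero_of_finite
  have hY0 : 0 < Nat.card Y := Nat.card_pos
  refine ⟨?_, ?_, fun hn => ?_⟩
  · apply Nat.le_of_mul_le_mul_right _ hY0
    rw [hYcount, mul_comm Y.index, mul_assoc, ← hm]
    exact hsub.trans (le_of_eq hXcount.symm)
  · apply Nat.le_of_mul_le_mul_right _ (Nat.card_pos (α := X))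
    rw [hXcount]
    refine hup.trans ((Nat.mul_le_mul_left _ hup2).trans (le_of_eq ?_))
    rw [← hYcount, hm]; ring
  · apply Nat.lt_of_mul_lt_mul_right (a := Nat.card X)
    rw [hXcount]
    refine hup.trans_lt ?_
    rw [show Y.index * Nat.card (ConjClasses Y) * Nat.card X =
      Y.index * (Y.index * ∑ y : Y, cY y) by rw [← hYcount, hm]; ring]
    refine Nat.mul_lt_mul_of_pos_left ?_ hm0
    rw [Finset.mul_sum]
    obtain ⟨y, x, hxy⟩ : ∃ (y : Y) (x : X), x * y * x⁻¹ ∉ Y := by
      by_contra h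
      push Not at h
      exact hn ⟨fun n hn g => h ⟨n, hn⟩ g⟩
    refine Finset.sum_lt_sum (fun z _ => hle z) ⟨y, Finset.mem_univ _, ?_⟩
    have e1 := Perm.card_conjugates_mul Y (y : X)
    have e2 := Perm.card_conjugates_mul_centralizer (y : X)
    let f : {z : X // ∃ a ∈ Y, a * y * a⁻¹ = z} → {z : X // ∃ a, a * (y : X) * a⁻¹ = z} :=
      fun z => ⟨z.1, z.2.imp fun a h => h.2⟩
    have hf : Function.Injective f := fun a b h => Subtype.ext (congrArg (fun z => z.1) h)
    have hlt : Nat.card {z : X // ∃ a ∈ Y, a * y * a⁻¹ = z} <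
        Nat.card {z : X // ∃ a, a * (y : X) * a⁻¹ = z} := by
      refine lt_of_le_of_ne (Nat.card_le_card_of_injective f hf) fun e => ?_
      obtain ⟨⟨z, a, ha, hz⟩, he⟩ := ((Nat.bijective_iff_injective_and_card f).2 ⟨hf, e⟩).2 ⟨_, x, rfl⟩
      have he' : z = x * y * x⁻¹ := congrArg (fun z => z.1) he
      exact hxy (he' ▸ hz ▸ mul_mem (mul_mem ha y.2) (inv_mem ha))
    show cX y < Y.index * cY y
    by_contra hge
    push Not at hge
    have hXpos : 0 < cX y := Nat.card_pos
    have : Nat.card {z : X // ∃ a, a * (y : X) * a⁻¹ = z} * cX y ≤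
        Nat.card {z : X // ∃ a ∈ Y, a * y * a⁻¹ = z} * cX y := by
      calc _ = Nat.card X := e2
        _ = Y.index * Nat.card Y := hm
        _ = Nat.card {z : X // ∃ a ∈ Y, a * y * a⁻¹ = z} * (Y.index * cY y) := by rw [← e1]; ring
        _ ≤ _ := Nat.mul_le_mul_left _ hge
    exact hlt.not_ge (Nat.le_of_mul_le_mul_right this hXpos)

end Cfsg.Agent.S4200
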