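import Cfsg.Statements.S4201
import Mathlib
import Cfsg.Agent.Lib.Perm.ConjCount

set_option autoImplicit false
open Cfsg

namespace Cfsg.Agent.S4201

/-- If N is a normal subgroup of the finite group X then k(X) ≤ k(N)·k(X ⧸ N), where k denotes the number of conjugacy classes. -/
theorem result {X : Type*} [Group X] [Finite X] (N : Subgroup X) [N.Normal] : Nat.card (ConjClasses X) ≤ Nat.card (ConjClasses N) * Nat.card (ConjClasses (X ⧸ N)) := by
  classical
  have : Fintype X := Fintype.ofFinite X
  have : Fintype N := Fintype.ofFinite N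
  have : Fintype (X ⧸ N) := Fintype.ofFinite _
  let PX := {p : X × X // Commute p.1 p.2}
  let PN := {p : N × N // Commute p.1 p.2}
  let PQ := {p : (X ⧸ N) × (X ⧸ N) // Commute p.1 p.2}
  have key : Nat.card PX ≤ Nat.card PN * Nat.card PQ := by
    let π : PX → PQ := fun p => ⟨((p.1.1 : X ⧸ N), (p.1.2 : X ⧸ N)), p.2.map (QuotientGroup.mk' N)⟩
    rw [← Nat.card_congr (Equiv.sigmaFiberEquiv π), Nat.card_sigma, mul_comm]
    refine (Finset.sum_le_card_nsmul _ _ (Nat.card PN) fun q _ => ?_).trans (le_of_eq ?_)
    · obtain ⟨⟨a, b⟩, hq⟩ := q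
      -- pairs in a fixed pair of cosets
      let A := fun y : X => {x : X // (x : X ⧸ N) = a ∧ Commute x y}
      have h1 : Nat.card {p : PX // π p = ⟨(a, b), hq⟩} =
          ∑ y : {y : X // (y : X ⧸ N) = b}, Nat.card (A y) := by
        rw [← Nat.card_sigma]
        exact Nat.card_congr
          { toFun := fun p => ⟨⟨p.1.1.2, congrArg (fun q : PQ => q.1.2) p.2⟩,
              p.1.1.1, congrArg (fun q : PQ => q.1.1) p.2, p.1.2⟩
            invFun := fun s => ⟨⟨(s.2.1, s.1.1), s.2.2.2⟩, Subtype.ext (Prod.ext s.2.2.1 s.1.2)⟩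
            left_inv := fun _ => rfl
            right_inv := fun _ => rfl }
      have h2 : ∀ y : X, Nat.card (A y) ≤ Nat.card {n : N // Commute (n : X) y} := by
        intro y
        by_cases he : IsEmpty (A y)
        · simp
        rw [not_isEmpty_iff] at he
        obtain ⟨x0, hx0, hc0⟩ := he
        refine Nat.card_le_card_of_injective
          (fun x : A y => ⟨⟨x0⁻¹ * x.1, QuotientGroup.eq.1 (hx0.trans x.2.1.symm)⟩,
            hc0.inv_left.mul_left x.2.2⟩) fun u v h => Subtype.ext ?_
        exact mul_left_cancel (congrArg (fun n : {n : N // Commute (n : X) y} => ((n.1 : N) : X)) h)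
      have h3 : ∀ n : N, Nat.card {y : {y : X // (y : X ⧸ N) = b} // Commute (n : X) y.1} ≤
          Nat.card {m : N // Commute n m} := by
        intro n
        by_cases he : IsEmpty {y : {y : X // (y : X ⧸ N) = b} // Commute (n : X) y.1}
        · simp
        rw [not_isEmpty_iff] at he
        obtain ⟨⟨y0, hy0⟩, hc0⟩ := he
        refine Nat.card_le_card_of_injective
          (fun y => (⟨⟨y0⁻¹ * y.1.1, QuotientGroup.eq.1 (hy0.trans y.1.2.symm)⟩,
            Subtype.ext (hc0.inv_right.mul_right y.2).eq⟩ : {m : N // Commute n m})) fun u v h => ?_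
        exact Subtype.ext (Subtype.ext (mul_left_cancel
          (congrArg (fun m : {m : N // Commute n m} => ((m.1 : N) : X)) h)))
      rw [h1]
      refine (Finset.sum_le_sum fun y _ => h2 y.1).trans ?_
      rw [← Nat.card_sigma]
      calc _ = Nat.card (Σ n : N, {y : {y : X // (y : X ⧸ N) = b} // Commute (n : X) y.1}) :=
            Nat.card_congr
              { toFun := fun s => ⟨s.2.1, s.1, s.2.2⟩
                invFun := fun s => ⟨s.2.1, s.1, s.2.2⟩
                left_inv := fun _ => rfl
                right_inv := fun _ => rfl }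
        _ ≤ Nat.card (Σ n : N, {m : N // Commute n m}) := by
            rw [Nat.card_sigma, Nat.card_sigma]; exact Finset.sum_le_sum fun n _ => h3 n
        _ = _ := Nat.card_congr
              { toFun := fun s => ⟨(s.1, s.2.1), s.2.2⟩
                invFun := fun p => ⟨p.1.1, p.1.2, p.2⟩
                left_inv := fun _ => rfl
                right_inv := fun _ => rfl }
    · rw [Finset.card_univ, smul_eq_mul, ← Nat.card_eq_fintype_card]
  have hc := fun (H : Type _) [Group H] => card_comm_eq_card_conjClasses_mul_card H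
  have hX : Nat.card PX = Nat.card (ConjClasses X) * Nat.card X := hc X
  have hN : Nat.card PN = Nat.card (ConjClasses N) * Nat.card N := hc N
  have hQ : Nat.card PQ = Nat.card (ConjClasses (X ⧸ N)) * Nat.card (X ⧸ N) := hc _
  apply Nat.le_of_mul_le_mul_right _ (Nat.card_pos (α := X))
  rw [← hX]
  refine key.trans (le_of_eq ?_)
  rw [hN, hQ, N.card_eq_card_quotient_mul_card_subgroup]; ring

end Cfsg.Agent.S4201
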