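import Cfsg.Statements.S4203
import Cfsg.Agent.Lib.Char.Burnside

set_option autoImplicit false
open Cfsg

namespace Cfsg.Agent.S4203

---pre
universe u

theorem aux : ∀ (n : ℕ) (G : Type u) [Group G] [Finite G], Nat.card G = n →
    (∀ M : Subgroup G, IsCoatom M → ∃ p : ℕ, p.Prime ∧ (M.index = p ∨ M.index = p ^ 2)) →
    Group.IsSolvable G := by
  classical
  intro n
  induction n using Nat.strong_induction_on with
  | _ n ih =>
    intro G _ _ hn h
    rcases subsingleton_or_nontrivial G with hs | hs
    · exact isSolvable_of_comm (fun a b => Subsingleton.elim _ _)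
    have hcard : 1 < Nat.card G := Finite.one_lt_card_iff_nontrivial.2 hs
    obtain ⟨q, hq, hqmax⟩ : ∃ q ∈ (Nat.card G).primeFactors, ∀ r ∈ (Nat.card G).primeFactors, r ≤ q :=
      ⟨_, Finset.max'_mem _ (Nat.nonempty_primeFactors.2 hcard), fun r hr => Finset.le_max' _ r hr⟩
    obtain ⟨hqp, hqd, -⟩ := Nat.mem_primeFactors.1 hq
    haveI := Fact.mk hqp
    obtain ⟨Q⟩ : Nonempty (Sylow q G) := inferInstance
    by_cases hQn : (Q : Subgroup G).Normal
    · haveI := hQn
      haveI := Q.isPGroup'.isNilpotent
      haveI : Group.IsSolvable (Q : Subgroup G) := inferInstance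
      have hlt : Nat.card (G ⧸ (Q : Subgroup G)) < n := by
        rw [← hn, Subgroup.card_eq_card_quotient_mul_card_subgroup (Q : Subgroup G)]
        exact lt_mul_of_one_lt_right Nat.card_pos
          ((Subgroup.one_lt_card_iff_ne_bot _).2 (Q.ne_bot_of_dvd_card hqd))
      haveI := ih _ hlt (G ⧸ (Q : Subgroup G)) rfl (fun M hM => by
        have hπ := QuotientGroup.mk'_surjective (Q : Subgroup G)
        obtain ⟨p, hp, hidx⟩ := h (M.comap (QuotientGroup.mk' (Q : Subgroup G)))
          (by
            refine ⟨fun e => hM.1 ?_, fun B hB => ?_⟩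
            · rw [← Subgroup.map_comap_eq_self_of_surjective hπ M, e, Subgroup.map_top_of_surjective _ hπ]
            · have hker : (Q : Subgroup G) ≤ B := le_trans
                (fun x hx => show QuotientGroup.mk' (Q : Subgroup G) x ∈ M by
                  rw [show QuotientGroup.mk' (Q : Subgroup G) x = 1 from (QuotientGroup.eq_one_iff x).2 hx]
                  exact one_mem M) hB.le
              have hBeq : (B.map (QuotientGroup.mk' (Q : Subgroup G))).comap (QuotientGroup.mk' _) = B :=
                Subgroup.comap_map_eq_self (by rwa [QuotientGroup.ker_mk'])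
              have hlt' : M < B.map (QuotientGroup.mk' (Q : Subgroup G)) := by
                refine lt_of_le_of_ne ?_ fun e => hB.ne (by rw [e, hBeq])
                rw [← Subgroup.map_comap_eq_self_of_surjective hπ M]
                exact Subgroup.map_mono hB.le
              rw [← hBeq, hM.2 _ hlt', Subgroup.comap_top])
        rw [Subgroup.index_comap_of_surjective _ hπ] at hidx
        exact ⟨p, hp, hidx⟩)
      exact solvable_of_ker_le_range (Q : Subgroup G).subtype (QuotientGroup.mk' (Q : Subgroup G))
        (by rw [QuotientGroup.ker_mk', Subgroup.range_subtype])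
    · have hne : Subgroup.normalizer ((Q : Subgroup G) : Set G) ≠ ⊤ := fun e =>
        hQn (Subgroup.normalizer_eq_top_iff.1 e)
      obtain ⟨M, hM, hNM⟩ := ((IsCoatomic.eq_top_or_exists_le_coatom _).resolve_left hne)
      obtain ⟨p, hp, hidx⟩ := h M hM
      have hQM : (Q : Subgroup G) ≤ M := Subgroup.le_normalizer.trans hNM
      have e1 : Nat.card (Sylow q G) = Nat.card (Sylow q M) * M.index := by
        rw [Q.card_eq_index_normalizer, (Q.subtype hQM).card_eq_index_normalizer]
        show (Subgroup.normalizer ((Q : Subgroup G) : Set G)).index = (Subgroup.normalizer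
          (((Q.subtype hQM : Sylow q M) : Subgroup M) : Set M)).index * _
        rw [Sylow.coe_subtype, ← Subgroup.subgroupOf_normalizer_eq hQM]
        exact (Subgroup.relIndex_mul_index hNM).symm
      have h1 := card_sylow_modEq_one q G
      have h2 := card_sylow_modEq_one q M
      rw [e1] at h1
      have h3 : M.index ≡ 1 [MOD q] := ((h2.mul_right M.index).symm.trans h1 |> fun t => by simpa using t)
      have hpd : p ∣ Nat.card G := by
        refine dvd_trans ?_ (Subgroup.index_dvd_card M)
        rcases hidx with e | e <;> rw [e]
        exact dvd_pow_self p two_ne_zero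
      have hpq : p ≤ q := hqmax p (Nat.mem_primeFactors.2 ⟨hp, hpd, Nat.card_pos.ne'⟩)
      have hidx1 : 1 ≤ M.index := Nat.one_le_iff_ne_zero.2 Subgroup.index_ne_zero_of_finite
      have hd : q ∣ M.index - 1 := (Nat.modEq_iff_dvd' hidx1).1 h3.symm
      have hpne : p ≠ q := by
        rintro rfl
        have hdq : p ∣ M.index := by rcases hidx with e | e <;> rw [e]; exact dvd_pow_self p two_ne_zero
        have := Nat.dvd_sub hdq hd
        rw [Nat.sub_sub_self hidx1] at this
        exact hp.one_lt.ne' (Nat.dvd_one.1 this)
      have h23 : p = 2 ∧ q = 3 := by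
        have hp2 := hp.two_le
        have hsmall : ¬ q ∣ p - 1 := fun hh => by
          have := Nat.le_of_dvd (by omega) hh
          omega
        rcases hidx with e | e <;> rw [e] at hd
        · exact absurd hd hsmall
        · rw [show p ^ 2 - 1 = (p + 1) * (p - 1) by rw [← Nat.sq_sub_sq, one_pow]] at hd
          rcases (Nat.Prime.dvd_mul hqp).1 hd with hh | hh
          · have := Nat.le_of_dvd (by omega) hh
            have hqe : q = p + 1 := by omega
            rcases hp.eq_two_or_odd with e2 | e2
            · exact ⟨e2, by omega⟩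
            · rcases hqp.eq_two_or_odd with e3 | e3 <;> omega
          · exact absurd hh hsmall
      obtain ⟨-, rfl⟩ := h23
      have hfac : ∃ a b, Nat.card G = 2 ^ a * 3 ^ b := by
        have hsub : (Nat.card G).primeFactors ⊆ {2, 3} := by
          intro r hr
          have hr1 := hqmax r hr
          have hr2 := (Nat.mem_primeFactors.1 hr).1.two_le
          simp only [Finset.mem_insert, Finset.mem_singleton]
          omega
        refine ⟨(Nat.card G).factorization 2, (Nat.card G).factorization 3, ?_⟩
        conv_lhs => rw [← Nat.prod_factorization_pow_eq_self (n := Nat.card G) Nat.card_pos.ne']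
        rw [Finsupp.prod_of_support_subset _ (s := ({2, 3} : Finset ℕ))
          (by rw [Nat.support_factorization]; exact hsub) _ (fun i _ => pow_zero i)]
        rw [Finset.prod_pair (by norm_num)]
      exact Cfsg.Agent.Char.solvable_of_card_prime_pow_mul 2 3 Nat.prime_two Nat.prime_three _ G rfl hfac

/-- A finite group in which every maximal subgroup has index a prime or the square of a prime is solvable. -/
theorem result {G : Type*} [Group G] [Finite G] (h : ∀ M : Subgroup G, IsCoatom M → ∃ p : ℕ, p.Prime ∧ (M.index = p ∨ M.index = p ^ 2)) : Group.IsSolvable G := by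
  exact aux _ G rfl h

end Cfsg.Agent.S4203
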