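import Cfsg.Statements.S4204

set_option autoImplicit false
open Cfsg

namespace Cfsg.Agent.S4204

---pre
theorem commutator_le_iff_centralizer {G : Type*} [Group G] (A B R : Subgroup G) [R.Normal] :
    ⁅A, B⁆ ≤ R ↔ A.map (QuotientGroup.mk' R) ≤
      Subgroup.centralizer ((B.map (QuotientGroup.mk' R) : Subgroup (G ⧸ R)) : Set (G ⧸ R)) := by
  rw [← Subgroup.commutator_eq_bot_iff_le_centralizer, ← Subgroup.map_commutator,
    Subgroup.map_eq_bot_iff, QuotientGroup.ker_mk']

/-- the lower central series, shifted by one and starting with the whole group -/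
def shifted {G : Type*} [Group G] (H : Subgroup G) : ℕ → Subgroup G
  | 0 => ⊤
  | i + 1 => H.lowerCentralSeries i

theorem lcs_normal {G : Type*} [Group G] (H : Subgroup G) [H.Normal] : ∀ i, (H.lowerCentralSeries i).Normal
  | 0 => by rw [Subgroup.lowerCentralSeries_zero]; infer_instance
  | i + 1 => by
    haveI := lcs_normal H i
    rw [Subgroup.lowerCentralSeries_succ]; infer_instance

theorem shifted_normal {G : Type*} [Group G] (H : Subgroup G) [H.Normal] : ∀ i, (shifted H i).Normal
  | 0 => by rw [shifted]; infer_instance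
  | i + 1 => lcs_normal H i

theorem shifted_comm {G : Type*} [Group G] (H : Subgroup G) [H.Normal] :
    ∀ i, ⁅shifted H i, H⁆ ≤ shifted H (i + 1)
  | 0 => Subgroup.commutator_le_right _ _
  | _ + 1 => le_rfl

/-- If `H` and `K` are normal subgroups of a finite group with `H` nilpotent of class at most `c` and `K` nilpotent of class at most `d` (the terms with index `c`, respectively `d`, of their lower central series are trivial, indices starting at `0`), then `HK` is nilpotent of class at most `c + d`. -/
theorem result {G : Type*} [Group G] [Finite G] (H K : Subgroup G) [H.Normal] [K.Normal] (c d : ℕ) (hH : H.lowerCentralSeries c = ⊥) (hK : K.lowerCentralSeries d = ⊥) : (H ⊔ K).lowerCentralSeries (c + d) = ⊥ := by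
  haveI := shifted_normal H
  haveI := shifted_normal K
  let T : ℕ → Subgroup G := fun n => ⨆ i : Fin (n + 2), shifted H i ⊓ shifted K (n + 1 - i)
  have hle : ∀ (n i : ℕ), i ≤ n + 1 → shifted H i ⊓ shifted K (n + 1 - i) ≤ T n := fun n i hi =>
    le_iSup (fun i : Fin (n + 2) => shifted H i ⊓ shifted K (n + 1 - i)) ⟨i, by omega⟩
  have key : ∀ n, (H ⊔ K).lowerCentralSeries n ≤ T n := by
    intro n
    induction n with
    | zero =>
      rw [Subgroup.lowerCentralSeries_zero]
      refine sup_le ((le_inf le_rfl le_top).trans (hle 0 1 le_rfl)) ((le_inf le_top le_rfl).trans (hle 0 0 (by omega)))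
    | succ n ih =>
      rw [Subgroup.lowerCentralSeries_succ]
      refine (Subgroup.commutator_mono ih le_rfl).trans ?_
      haveI : (T (n + 1)).Normal := Subgroup.iSup_normal _
      rw [commutator_le_iff_centralizer, Subgroup.map_iSup, iSup_le_iff]
      intro i
      rw [← commutator_le_iff_centralizer]
      have hH : ⁅shifted H i ⊓ shifted K (n + 1 - i), H⁆ ≤ T (n + 1) := by
        refine le_trans (le_inf ?_ ?_) (hle (n + 1) (i + 1) (by omega))
        · exact (Subgroup.commutator_mono inf_le_left le_rfl).trans (shifted_comm H i)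
        · rw [show n + 1 + 1 - (i + 1) = n + 1 - i by omega]
          exact (Subgroup.commutator_mono inf_le_right le_rfl).trans (Subgroup.commutator_le_left _ _)
      have hK : ⁅shifted H i ⊓ shifted K (n + 1 - i), K⁆ ≤ T (n + 1) := by
        refine le_trans (le_inf ?_ ?_) (hle (n + 1) i (by omega))
        · exact (Subgroup.commutator_mono inf_le_left le_rfl).trans (Subgroup.commutator_le_left _ _)
        · rw [show n + 1 + 1 - (i : ℕ) = n + 1 - i + 1 by omega]
          exact (Subgroup.commutator_mono inf_le_right le_rfl).trans (shifted_comm K _)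
      rw [Subgroup.commutator_comm, commutator_le_iff_centralizer, Subgroup.map_sup, sup_le_iff,
        ← commutator_le_iff_centralizer, ← commutator_le_iff_centralizer, Subgroup.commutator_comm H,
        Subgroup.commutator_comm K]
      exact ⟨hH, hK⟩
  refine le_bot_iff.1 ((key (c + d)).trans (iSup_le fun i => ?_))
  by_cases hi : c + 1 ≤ (i : ℕ)
  · refine inf_le_left.trans ?_
    obtain ⟨j, hj⟩ : ∃ j, (i : ℕ) = j + 1 := ⟨i - 1, by omega⟩
    rw [hj, shifted, ← hH]
    exact H.lowerCentralSeries_antitone (by omega)
  · refine inf_le_right.trans ?_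
    obtain ⟨j, hj⟩ : ∃ j, c + d + 1 - (i : ℕ) = j + 1 := ⟨c + d - i, by omega⟩
    rw [hj, shifted, ← hK]
    exact K.lowerCentralSeries_antitone (by omega)

end Cfsg.Agent.S4204
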