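import Cfsg.Statements.S4207
import Cfsg.Agent.Lib.Perm.GeneratingTuples

set_option autoImplicit false
open Cfsg

namespace Cfsg.Agent.S4207

/-- Let `P` be a group of order `p^n` whose Frattini subgroup has index `p^r`. Then any group of automorphisms of `P` each of which induces the identity on the Frattini quotient has order dividing `p^(r(n-r))`; in particular it is a `p`-group. -/
theorem result {P : Type*} [Group P] [Finite P] {p n r : ℕ} [Fact p.Prime] (hP : Nat.card P = p ^ n) (hr : (frattini P).index = p ^ r) (A : Subgroup (MulAut P)) (hA : ∀ α ∈ A, ∀ x : P, α x * x⁻¹ ∈ frattini P) : Nat.card A ∣ p ^ (r * (n - r)) := by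
  classical
  have hpg : IsPGroup p P := IsPGroup.of_card hP
  have hrn := Cfsg.Agent.Perm.rank_le hP hr
  obtain ⟨x, hx⟩ : ∃ x : Fin r → P, Cfsg.Agent.Perm.GoodTuple x := by
    have h := Cfsg.Agent.Perm.card_goodTuple hpg hP hr r
    have hpos : 0 < ∏ i ∈ Finset.range r, (p ^ n - p ^ (n - r + i)) := Finset.prod_pos fun i hi => by
      rw [Finset.mem_range] at hi
      exact Nat.sub_pos_of_lt (Nat.pow_lt_pow_right (Fact.out : p.Prime).one_lt (by omega))
    rw [← h] at hpos
    obtain ⟨f, hf⟩ := (Nat.card_pos_iff.1 hpos).1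
    exact ⟨f, hf⟩
  let X := {f : Fin r → P // ∀ i, f i * (x i)⁻¹ ∈ frattini P}
  letI act : MulAction A X :=
    { smul := fun α f => ⟨fun i => (α : MulAut P) (f.1 i), fun i => by
        have := mul_mem (hA α α.2 (f.1 i)) (f.2 i)
        simpa [mul_assoc] using this⟩
      one_smul := fun f => rfl
      mul_smul := fun α β f => rfl }
  have hd := Cfsg.Agent.Perm.card_dvd_of_free (A := A) (X := X) (fun α f hf => by
    have hgen : Subgroup.closure (Set.range f.1) = ⊤ := by
      refine frattini_nongenerating (top_le_iff.1 ?_)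
      rw [← Cfsg.Agent.Perm.goodTuple_generates hpg hP hr x hx, Subgroup.closure_le]
      rintro _ ⟨i, rfl⟩
      rw [show x i = (f.1 i * (x i)⁻¹)⁻¹ * f.1 i by group]
      exact mul_mem (Subgroup.mem_sup_right (inv_mem (f.2 i)))
        (Subgroup.mem_sup_left (Subgroup.subset_closure ⟨i, rfl⟩))
    refine Subtype.ext (MulEquiv.toMonoidHom_injective (MonoidHom.eq_of_eqOn_dense hgen ?_))
    rintro _ ⟨i, rfl⟩
    exact congrFun (congrArg Subtype.val hf) i)
  have hcard : Nat.card X = p ^ (r * (n - r)) := by
    let e : X ≃ (Fin r → frattini P) :=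
      { toFun := fun f i => ⟨f.1 i * (x i)⁻¹, f.2 i⟩
        invFun := fun g => ⟨fun i => (g i : P) * x i, fun i => by simp⟩
        left_inv := fun f => Subtype.ext (funext fun i => by simp)
        right_inv := fun g => funext fun i => Subtype.ext (by simp) }
    have hF : Nat.card (frattini P) = p ^ (n - r) := by
      have := (frattini P).card_mul_index
      rw [hP, hr] at this
      refine Nat.eq_of_mul_eq_mul_right (Nat.pow_pos (n := r) (Fact.out : p.Prime).pos) ?_
      rw [this, ← pow_add, Nat.sub_add_cancel hrn]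
    rw [Nat.card_congr e, Nat.card_fun, hF, Nat.card_fin, ← pow_mul, mul_comm]
  rwa [hcard] at hd

end Cfsg.Agent.S4207
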