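import Cfsg.Statements.S4208
import Cfsg.Agent.Lib.Perm.GeneratingTuples

set_option autoImplicit false
open Cfsg

namespace Cfsg.Agent.S4208

/-- Let `P` be a group of order `p^n` whose Frattini subgroup has index `p^r`. Then the order of the automorphism group of `P` divides `p^(r(n-r)) · (p^r - 1)(p^r - p) ⋯ (p^r - p^(r-1))`. -/
theorem result {P : Type*} [Group P] [Finite P] {p n r : ℕ} [Fact p.Prime] (hP : Nat.card P = p ^ n) (hr : (frattini P).index = p ^ r) : Nat.card (MulAut P) ∣ p ^ (r * (n - r)) * ∏ i ∈ Finset.range r, (p ^ r - p ^ i) := by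
  classical
  have hpg : IsPGroup p P := IsPGroup.of_card hP
  letI act : MulAction (MulAut P) {f : Fin r → P // Cfsg.Agent.Perm.GoodTuple f} :=
    { smul := fun α f => ⟨fun i => α (f.1 i), Cfsg.Agent.Perm.goodTuple_map α f.1 f.2⟩
      one_smul := fun f => rfl
      mul_smul := fun α β f => rfl }
  have hd := Cfsg.Agent.Perm.card_dvd_of_free (A := MulAut P)
    (X := {f : Fin r → P // Cfsg.Agent.Perm.GoodTuple f}) (fun α f hf => by
      refine MulEquiv.toMonoidHom_injective (MonoidHom.eq_of_eqOn_dense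
        (Cfsg.Agent.Perm.goodTuple_generates hpg hP hr f.1 f.2) ?_)
      rintro _ ⟨i, rfl⟩
      exact congrFun (congrArg Subtype.val hf) i)
  rw [Cfsg.Agent.Perm.card_goodTuple hpg hP hr r] at hd
  have hrn := Cfsg.Agent.Perm.rank_le hP hr
  refine hd.trans (dvd_of_eq ?_)
  rw [mul_comm r, pow_mul, show (p ^ (n - r)) ^ r = ∏ _i ∈ Finset.range r, p ^ (n - r) by
      rw [Finset.prod_const, Finset.card_range], ← Finset.prod_mul_distrib]
  refine Finset.prod_congr rfl fun i _ => ?_
  rw [Nat.mul_sub, ← pow_add, ← pow_add, Nat.sub_add_cancel hrn]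

end Cfsg.Agent.S4208
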