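import Cfsg.Statements.S4211
import Cfsg.Agent.Lib.Solv.Hamiltonian

set_option autoImplicit false
open scoped Pointwise
open Cfsg

namespace Cfsg.Agent.S4211

/-- A finite non-abelian group in which every subgroup is normal is the internal direct product of a subgroup isomorphic to the quaternion group of order `8`, an elementary abelian `2`-subgroup and an abelian subgroup of odd order. -/
theorem result {G : Type*} [Group G] [Finite G] (hna : ¬ IsMulCommutative G) (hn : ∀ H : Subgroup G, H.Normal) : ∃ Q E A : Subgroup G, Nonempty (Q ≃* QuaternionGroup 2) ∧ Cfsg.IsElementaryAbelian 2 E ∧ IsMulCommutative A ∧ Odd (Nat.card A) ∧ E ⊓ A = ⊥ ∧ Q ⊓ (E ⊔ A) = ⊥ ∧ Q ⊔ (E ⊔ A) = ⊤ := by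
  open Subgroup in
  haveI : Fact (Nat.Prime 2) := ⟨Nat.prime_two⟩
  obtain ⟨a, -, b, -, ha, hb, hab, hba⟩ := Cfsg.Agent.Solv.Hamilton.exists_quaternion_pair hn ⊤ (by
    by_contra h
    push Not at h
    exact hna ⟨⟨fun u v => h u (mem_top u) v (mem_top v)⟩⟩)
  set c := a ^ 2 with hc
  have hc2 : orderOf c = 2 := by rw [hc, orderOf_pow_of_dvd two_ne_zero (ha ▸ ⟨2, rfl⟩), ha]
  have ha4 : a ^ 4 = 1 := ha ▸ pow_orderOf_eq_one a
  have hb4 : b ^ 4 = 1 := hb ▸ pow_orderOf_eq_one b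
  have hnb : ¬ Commute b a := fun e => by
    rw [e.eq, mul_inv_cancel_right, ← mul_eq_one_iff_eq_inv, ← sq] at hba
    rw [hc, hba, orderOf_one] at hc2
    exact absurd hc2 (by norm_num)
  set Q : Subgroup G := zpowers a ⊔ zpowers b with hQ
  have haQ : a ∈ Q := mem_sup_left (mem_zpowers a)
  have hbQ : b ∈ Q := mem_sup_right (mem_zpowers b)
  have hQ8 : Nat.card Q = 8 := by
    have h1 := Cfsg.Agent.Solv.card_sup_mul_card_inf (zpowers a) (zpowers b)
      (by rw [normalizer_eq_top_iff.2 (hn _)]; exact le_top)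
    rw [Nat.card_zpowers, Nat.card_zpowers, ha, hb, ← hQ] at h1
    have h2 : zpowers c ≤ zpowers a ⊓ zpowers b :=
      zpowers_le.2 ⟨pow_mem (mem_zpowers a) 2, hab ▸ pow_mem (mem_zpowers b) 2⟩
    have h3 : zpowers a ⊓ zpowers b ≠ zpowers a := fun e => by
      have h4 : zpowers a = zpowers b := eq_of_le_of_card_ge (inf_eq_left.1 e)
        (by rw [Nat.card_zpowers, Nat.card_zpowers, ha, hb])
      obtain ⟨i, hi⟩ := mem_zpowers_iff.1 (h4 ▸ mem_zpowers b : b ∈ zpowers a)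
      exact hnb (hi ▸ (Commute.refl a).zpow_left i)
    have h5 : Nat.card (zpowers a ⊓ zpowers b : Subgroup G) ∣ 4 := by
      have := card_dvd_of_le (inf_le_left : zpowers a ⊓ zpowers b ≤ zpowers a)
      rwa [Nat.card_zpowers, ha] at this
    have h6 := card_dvd_of_le h2
    rw [Nat.card_zpowers, hc2] at h6
    have h7 : Nat.card (zpowers a ⊓ zpowers b : Subgroup G) ≠ 4 := fun e => h3
      (eq_of_le_of_card_ge inf_le_left (by rw [Nat.card_zpowers, ha, e]))
    have h8 : Nat.card (zpowers a ⊓ zpowers b : Subgroup G) = 2 := by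
      have := Nat.le_of_dvd (by norm_num) h5
      interval_cases hk : Nat.card (zpowers a ⊓ zpowers b : Subgroup G) <;> simp_all (config := { decide := true })
    rw [h8] at h1
    omega
  have hform : ∀ x ∈ Q, ∃ i j : ℤ, x = a ^ i * b ^ j := by
    intro x hx
    haveI := hn (zpowers a)
    obtain ⟨u, hu, v, hv, rfl⟩ := mem_sup_of_normal_left.1 hx
    obtain ⟨i, rfl⟩ := mem_zpowers_iff.1 hu
    obtain ⟨j, rfl⟩ := mem_zpowers_iff.1 hv
    exact ⟨i, j, rfl⟩
  have hcent : ∀ i : ℤ, b * a ^ i * b⁻¹ = (a ^ i)⁻¹ := fun i => by rw [← conj_zpow, hba, inv_zpow]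
  have hbc : Commute b c := hab.symm ▸ (Commute.refl b).pow_right 2
  -- the involutions of `Q`
  have hinv : ∀ x ∈ Q, x ^ 2 = 1 → x ∈ zpowers c := by
    intro x hx hx2
    obtain ⟨i, j, rfl⟩ := hform x hx
    obtain ⟨t, ht | ht⟩ := Int.even_or_odd' j
    · have e : b ^ j = c ^ t := by rw [ht, zpow_mul, zpow_ofNat, ← hab]
      rw [e] at hx2 ⊢
      refine mul_mem ?_ (zpow_mem (mem_zpowers c) t)
      have h1 : (a ^ i) ^ 2 = 1 := by
        rw [(((Commute.refl a).zpow_left i).pow_right 2).zpow_right t |>.mul_pow] at hx2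
        rwa [show (c ^ t) ^ 2 = 1 by rw [← zpow_natCast, zpow_comm, zpow_natCast, show c ^ 2 = 1 from hc2 ▸ pow_orderOf_eq_one c, one_zpow], mul_one] at hx2
      exact Cfsg.Agent.Solv.CycP.root_mem (p := 2) (k := 1) ha (zpow_mem (mem_zpowers a) i) h1
    · exfalso
      have e : b ^ j = c ^ t * b := by rw [ht, zpow_add, zpow_one, zpow_mul, zpow_ofNat, ← hab]
      have hca : Commute (a ^ i) (c ^ t) := (((Commute.refl a).zpow_left i).pow_right 2).zpow_right t
      rw [e, ← mul_assoc, pow_two, show a ^ i * c ^ t * b * (a ^ i * c ^ t * b) =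
        a ^ i * c ^ t * (b * a ^ i * b⁻¹) * (b * c ^ t * b⁻¹) * b ^ 2 by rw [pow_two]; group,
        hcent, (hbc.zpow_right t).eq, mul_inv_cancel_right, hca.eq, mul_inv_cancel_right, ← hab,
        ← zpow_add] at hx2
      nth_rewrite 2 [← zpow_one c] at hx2
      rw [← zpow_add, ← orderOf_dvd_iff_zpow_eq_one, hc2] at hx2
      omega
  have hQp : IsPGroup 2 Q := IsPGroup.of_card (n := 3) hQ8
  have hQiso : Nonempty (Q ≃* QuaternionGroup 2) := by
    rcases Cfsg.Agent.Struct.cyclic_or_quaternion hQp (fun x y hx hy => by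
      have hx2 := hinv x x.2 (by rw [← SubgroupClass.coe_pow, ← hx, pow_orderOf_eq_one]; rfl)
      have hy2 := hinv y y.2 (by rw [← SubgroupClass.coe_pow, hy]; rfl)
      have e : zpowers (x : G) = zpowers c := eq_of_le_of_card_ge (zpowers_le.2 hx2)
        (by rw [Nat.card_zpowers, Nat.card_zpowers, hc2, orderOf_coe, hx])
      obtain ⟨k, hk⟩ := mem_zpowers_iff.1 (e ▸ hy2)
      exact mem_zpowers_iff.2 ⟨k, Subtype.ext (by simpa using hk)⟩) with hcyc | ⟨-, l, hl, ⟨e⟩⟩
    · exact absurd (congrArg Subtype.val (mul_comm' (⟨b, hbQ⟩ : Q) ⟨a, haQ⟩)) hnb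
    · haveI : NeZero (2 ^ l) := ⟨pow_ne_zero _ two_ne_zero⟩
      have h1 := Nat.card_congr e.toEquiv
      rw [hQ8, Nat.card_eq_fintype_card, QuaternionGroup.card, show 4 * 2 ^ l = 2 ^ (l + 2) by ring] at h1
      have := Nat.pow_right_injective (le_refl 2) ((show (2 : ℕ) ^ 3 = 8 from rfl).trans h1)
      obtain rfl : l = 1 := by omega
      exact ⟨e⟩
  set C := centralizer ({a, b} : Set G) with hC
  have hCa : ∀ x ∈ C, Commute x a := fun x hx => (mem_centralizer_iff.1 hx a (by simp)).symm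
  have hCb : ∀ x ∈ C, Commute x b := fun x hx => (mem_centralizer_iff.1 hx b (by simp)).symm
  have hsq : ∀ x ∈ C, x ^ 4 = 1 → x ^ 2 = 1 := by
    intro x hx hx4
    have h1 : b * (a * x) * b⁻¹ = (a * x)⁻¹ * x ^ 2 := by
      rw [← mul_assoc, mul_assoc (b * a), ((hCb x hx).inv_right).eq, ← mul_assoc, hba, mul_inv_rev, pow_two,
        (hCa x hx).inv_left.inv_right.eq, mul_assoc, inv_mul_cancel_left]
    have h2 : x ^ 2 ∈ zpowers (a * x) := by
      have := mul_mem (mem_zpowers (a * x)) (h1 ▸ Cfsg.Agent.Solv.Hamilton.conj_mem_zpowers hn b (a * x))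
      rwa [mul_inv_cancel_left] at this
    obtain ⟨i, hi⟩ := mem_zpowers_iff.1 h2
    rw [(hCa x hx).symm.mul_zpow] at hi
    obtain ⟨t, ht | ht⟩ := Int.even_or_odd' i
    · rw [ht, zpow_mul, zpow_mul, zpow_ofNat, zpow_ofNat, ← hc] at hi
      obtain ⟨w, hw | hw⟩ := Int.even_or_odd' t
      · rw [hw, zpow_mul, zpow_mul, zpow_ofNat, zpow_ofNat, ← pow_mul, ← pow_mul, show 2 * 2 = 4 from rfl, ha4, hx4, one_zpow, one_mul] at hi
        exact hi.symm
      · exfalso
        rw [hw, zpow_add, zpow_one, zpow_mul, zpow_ofNat, zpow_add, zpow_one, zpow_mul, zpow_ofNat, ← pow_mul, ← pow_mul, show 2 * 2 = 4 from rfl, ha4, hx4, one_zpow, one_mul, one_mul, mul_eq_right] at hi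
        rw [hi, orderOf_one] at hc2
        exact absurd hc2 (by norm_num)
    · exfalso
      -- `a` would commute with `b`
      have h3 : Commute b (a ^ i) := by
        have e : a ^ i = x ^ 2 * (x ^ i)⁻¹ := eq_mul_inv_of_mul_eq hi
        rw [e]
        exact ((hCb x hx).symm.pow_right 2).mul_right ((hCb x hx).symm.zpow_right i).inv_right
      have h4 := hcent i
      rw [h3.eq, mul_inv_cancel_right, ← mul_eq_one_iff_eq_inv, ← zpow_add, ← orderOf_dvd_iff_zpow_eq_one, ha] at h4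
      omega
  have hCab : ∀ x ∈ C, ∀ y ∈ C, Commute x y := by
    by_contra h
    push Not at h
    obtain ⟨x, hx, y, -, hx4, -, -, -⟩ := Cfsg.Agent.Solv.Hamilton.exists_quaternion_pair hn C h
    have h1 := orderOf_dvd_of_pow_eq_one (hsq x hx (hx4 ▸ pow_orderOf_eq_one x))
    rw [hx4] at h1
    exact absurd (Nat.le_of_dvd two_pos h1) (by norm_num)
  have hcC : c ∈ C := by
    rw [hC, mem_centralizer_iff]
    rintro z (rfl | rfl)
    · exact ((Commute.refl z).pow_right 2).eq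
    · exact hbc.eq
  -- choose the complement of `c`
  let C2 : Subgroup G :=
    { carrier := {x | x ∈ C ∧ x ^ 2 = 1}
      one_mem' := ⟨one_mem _, one_pow 2⟩
      mul_mem' := fun {x y} hx hy => ⟨mul_mem hx.1 hy.1, by rw [(hCab x hx.1 y hy.1).mul_pow, hx.2, hy.2, one_mul]⟩
      inv_mem' := fun {x} hx => ⟨inv_mem hx.1, by rw [inv_pow, hx.2, inv_one]⟩ }
  obtain ⟨E, ⟨hEC, hcE⟩, hmax⟩ := Set.Finite.exists_maximalFor id {E : Subgroup G | E ≤ C2 ∧ c ∉ E} (Set.toFinite _)
    ⟨⊥, bot_le, fun h => by rw [mem_bot.1 h, orderOf_one] at hc2; exact absurd hc2 (by norm_num)⟩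
  let A : Subgroup G :=
    { carrier := {x | x ∈ C ∧ Odd (orderOf x)}
      one_mem' := ⟨one_mem _, by simp⟩
      mul_mem' := fun {x y} hx hy => ⟨mul_mem hx.1 hy.1,
        (Odd.of_dvd_nat (hx.2.mul hy.2) (hCab x hx.1 y hy.1).orderOf_mul_dvd_mul_orderOf)⟩
      inv_mem' := fun {x} hx => ⟨inv_mem hx.1, by rw [orderOf_inv]; exact hx.2⟩ }
  have hE2 : ∀ x ∈ E, x ^ 2 = 1 := fun x hx => (hEC hx).2
  have hAodd : ∀ x ∈ A, x ^ 2 = 1 → x = 1 := fun x hx h2 => by
    have h1 := orderOf_dvd_of_pow_eq_one h2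
    rcases (Nat.dvd_prime Nat.prime_two).1 h1 with e | e
    · exact orderOf_eq_one_iff.1 e
    · exact absurd (e ▸ hx.2) (by decide)
  refine ⟨Q, E, A, hQiso, ⟨⟨⟨fun u v => Subtype.ext (hCab u (hEC u.2).1 v (hEC v.2).1).eq⟩⟩, fun x hx => hE2 x hx⟩,
    ⟨⟨fun u v => Subtype.ext (hCab u u.2.1 v v.2.1).eq⟩⟩, ?_, ?_, ?_, ?_⟩
  · by_contra h
    rw [Nat.not_odd_iff_even] at h
    obtain ⟨x, hx⟩ := exists_prime_orderOf_dvd_card' 2 h.two_dvd
    have h1 := x.2.2
    rw [orderOf_coe, hx] at h1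
    exact absurd h1 (by decide)
  · rw [eq_bot_iff]
    exact fun x hx => mem_bot.2 (hAodd x hx.2 (hE2 x hx.1))
  · rw [eq_bot_iff]
    rintro x ⟨hxQ, hxEA⟩
    haveI := hn E
    obtain ⟨e, he, o, ho, rfl⟩ := mem_sup_of_normal_left.1 hxEA
    have heo := hCab e (hEC he).1 o ho.1
    -- the odd part is an eighth root of unity, hence trivial
    have h8 : (e * o) ^ 8 = 1 := by
      have h := pow_card_eq_one' (x := (⟨e * o, hxQ⟩ : Q))
      rw [hQ8] at h
      exact congrArg Subtype.val h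
    rw [heo.mul_pow, show 8 = 2 * 4 from rfl, pow_mul e, hE2 e he, one_pow, one_mul] at h8
    have ho1 : o = 1 := orderOf_eq_one_iff.1 (Nat.eq_one_of_dvd_coprimes
      (show Nat.Coprime (orderOf o) (2 * 4) from Nat.Coprime.mul_right ho.2.coprime_two_right (Nat.Coprime.pow_right 2 ho.2.coprime_two_right))
      dvd_rfl (orderOf_dvd_of_pow_eq_one h8))
    subst ho1
    rw [mul_one] at hxQ ⊢
    obtain ⟨t, rfl⟩ := mem_zpowers_iff.1 (hinv e hxQ (hE2 e he))
    obtain ⟨w, hw | hw⟩ := Int.even_or_odd' t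
    · rw [mem_bot, hw, zpow_mul, zpow_ofNat, show c ^ 2 = 1 from hc2 ▸ pow_orderOf_eq_one c, one_zpow]
    · exfalso
      rw [hw, zpow_add, zpow_one, zpow_mul, zpow_ofNat, show c ^ 2 = 1 from hc2 ▸ pow_orderOf_eq_one c, one_zpow, one_mul] at he
      exact hcE he
  · rw [eq_top_iff]
    intro g _
    -- adjust by an element of `Q` into the centralizer
    have hconj : ∀ z : G, orderOf z = 4 → g * z * g⁻¹ = z ∨ g * z * g⁻¹ = z⁻¹ := by
      intro z hz
      obtain ⟨i, hi⟩ := mem_zpowers_iff.1 (Cfsg.Agent.Solv.Hamilton.conj_mem_zpowers hn g z)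
      obtain ⟨t, ht | ht⟩ := Int.even_or_odd' i
      · exfalso
        have h1 : (g * z * g⁻¹) ^ 2 = 1 := by
          rw [← hi, ← zpow_natCast, ← zpow_mul, ← orderOf_dvd_iff_zpow_eq_one, hz, ht]
          exact ⟨t, by push_cast; ring⟩
        rw [conj_pow, conj_eq_one_iff] at h1
        have h2 := orderOf_dvd_of_pow_eq_one h1
        rw [hz] at h2
        exact absurd (Nat.le_of_dvd two_pos h2) (by norm_num)
      · obtain ⟨w, hw | hw⟩ := Int.even_or_odd' t
        · left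
          rw [← hi]
          conv_rhs => rw [← zpow_one z]
          rw [← mul_inv_eq_one, ← zpow_neg, ← zpow_add, ← orderOf_dvd_iff_zpow_eq_one, hz, ht, hw]
          exact ⟨w, by push_cast; ring⟩
        · right
          rw [← hi, ← zpow_neg_one, ← mul_inv_eq_one, ← zpow_neg, ← zpow_add, ← orderOf_dvd_iff_zpow_eq_one, hz, ht, hw]
          exact ⟨w + 1, by push_cast; ring⟩
    have hba' : b⁻¹ * a * b = a⁻¹ := by
      have := hcent (-1)
      rw [zpow_neg_one, inv_inv] at this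
      conv_lhs => rw [← this]
      group
    have hab' : a * b * a⁻¹ = b⁻¹ := by
      rw [show a * b * a⁻¹ = b * (b⁻¹ * a * b) * a⁻¹ by group, hba', mul_assoc,
        show a⁻¹ * a⁻¹ = (a ^ 2)⁻¹ by group, show a ^ 2 = b ^ 2 from hab]
      group
    obtain ⟨q, hq, hqa, hqb⟩ : ∃ q ∈ Q, q * a * q⁻¹ = g * a * g⁻¹ ∧ q * b * q⁻¹ = g * b * g⁻¹ := by
      rcases hconj a ha with h1 | h1 <;> rcases hconj b hb with h2 | h2
      · exact ⟨1, one_mem _, by rw [h1]; group, by rw [h2]; group⟩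
      · exact ⟨a, haQ, by rw [h1]; group, by rw [h2, hab']⟩
      · exact ⟨b, hbQ, by rw [h1, hba], by rw [h2]; group⟩
      · refine ⟨b * a, mul_mem hbQ haQ, ?_, ?_⟩
        · rw [h1, show b * a * a * (b * a)⁻¹ = b * a * b⁻¹ by group, hba]
        · rw [h2, show b * a * b * (b * a)⁻¹ = b * (a * b * a⁻¹) * b⁻¹ by group, hab']; group
    have hk : q⁻¹ * g ∈ C := by
      rw [hC, mem_centralizer_iff]
      rintro z (rfl | rfl)
      · rw [show z * (q⁻¹ * g) = q⁻¹ * (q * z * q⁻¹) * g by group, hqa]; group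
      · rw [show z * (q⁻¹ * g) = q⁻¹ * (q * z * q⁻¹) * g by group, hqb]; group
    suffices hCle : C ≤ Q ⊔ (E ⊔ A) by
      have := mul_mem (mem_sup_left hq : q ∈ Q ⊔ (E ⊔ A)) (hCle hk)
      rwa [mul_inv_cancel_left] at this
    intro x hx
    obtain ⟨t, m, hm, hxm⟩ := Nat.exists_eq_pow_mul_and_not_dvd (orderOf_pos x).ne' 2 Nat.prime_two.ne_one
    -- `x ^ (2 * m) = 1`
    have hx2m : (x ^ m) ^ 2 = 1 := by
      clear hk hqa hqb hconj
      have key : ∀ (t : ℕ) (y : G), y ∈ C → y ^ 2 ^ t = 1 → y ^ 2 = 1 := by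
        intro t
        induction t with
        | zero => intro y _ hy; rw [pow_zero, pow_one] at hy; rw [hy, one_pow]
        | succ t ih =>
          intro y hy hy2
          refine hsq y hy ?_
          rw [show 4 = 2 * 2 from rfl, pow_mul]
          exact ih _ (pow_mem hy 2) (by rw [← pow_mul, ← pow_succ']; exact hy2)
      exact key t _ (pow_mem hx m) (by rw [← pow_mul, mul_comm, ← hxm, pow_orderOf_eq_one])
    have hm' : Odd m := Nat.odd_iff.2 (Nat.two_dvd_ne_zero.1 hm)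
    obtain ⟨w, hw⟩ := hm'
    have hA : (x ^ 2) ∈ A := by
      refine ⟨pow_mem hx 2, Odd.of_dvd_nat ⟨w, hw⟩ (orderOf_dvd_of_pow_eq_one ?_)⟩
      rw [← pow_mul, mul_comm, pow_mul, hx2m]
    have he : x ^ m ∈ Q ⊔ (E ⊔ A) := by
      by_cases hxE : x ^ m ∈ E
      · exact mem_sup_right (mem_sup_left hxE)
      by_cases hcx : c ∈ E ⊔ zpowers (x ^ m)
      · haveI := hn E
        obtain ⟨e, he, z, hz, hez⟩ := mem_sup_of_normal_left.1 hcx
        obtain ⟨i, rfl⟩ := mem_zpowers_iff.1 hz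
        obtain ⟨r, hr | hr⟩ := Int.even_or_odd' i
        · exfalso
          rw [hr, zpow_mul, zpow_ofNat, hx2m, one_zpow, mul_one] at hez
          exact hcE (hez ▸ he)
        · rw [hr, zpow_add, zpow_one, zpow_mul, zpow_ofNat, hx2m, one_zpow, one_mul] at hez
          rw [show x ^ m = e⁻¹ * c by rw [← hez, inv_mul_cancel_left]]
          exact mul_mem (mem_sup_right (mem_sup_left (inv_mem he))) (mem_sup_left (pow_mem haQ 2))
      · exfalso
        refine hxE (hmax (j := E ⊔ zpowers (x ^ m)) ⟨sup_le hEC (zpowers_le.2 ⟨pow_mem hx m, hx2m⟩), hcx⟩ le_sup_left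
          (mem_sup_right (mem_zpowers _)))
    rw [show x = x ^ m * ((x ^ 2) ^ w)⁻¹ by rw [← pow_mul, hw, pow_succ]; group]
    exact mul_mem he (inv_mem (mem_sup_right (mem_sup_right (pow_mem hA w))))

end Cfsg.Agent.S4211
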