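import Cfsg.Statements.S4214
import Cfsg.Agent.Lib.Solv.Hall
import Mathlib

set_option autoImplicit false
open Cfsg

namespace Cfsg.Agent.S4214

open Cfsg.Agent.Solv
open scoped Pointwise

universe u

section act

variable {V : Type u} [CommGroup V] [Finite V] {H : Type u} [Group H] [Finite H] (φ : H →* MulAut V)

/-- Averaging: a coset fixed by a coprime group meets the fixed points. -/
theorem mem_of_fixed {q : ℕ} (hexp : ∀ v : V, v ^ q = 1) (hcop : (Nat.card H).Coprime q)
    (A : Subgroup V) (hA : ∀ v : V, (∀ h : H, φ h v = v) → v ∈ A)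
    (b : V) (hb : ∀ h : H, b⁻¹ * φ h b ∈ A) : b ∈ A := by
  haveI := Fintype.ofFinite H
  set c : V := ∏ h : H, φ h b with hc
  have hcfix : c ∈ A := by
    refine hA c fun k => ?_
    rw [hc, map_prod]
    refine Fintype.prod_equiv (Equiv.mulLeft k) _ _ fun h => ?_
    rw [Equiv.coe_mulLeft, map_mul, MulAut.mul_apply]
  have h1 : ∏ h : H, (b⁻¹ * φ h b) ∈ A := Subgroup.prod_mem A fun h _ => hb h
  rw [Finset.prod_mul_distrib, ← hc, Finset.prod_const, inv_pow, Finset.card_univ,
    ← Nat.card_eq_fintype_card] at h1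
  have h2 : b ^ Nat.card H ∈ A := by
    have := A.mul_mem hcfix (A.inv_mem h1)
    simpa using this
  obtain ⟨j, hj⟩ := exists_pow_eq_self_of_coprime
    (hcop.coprime_dvd_right (orderOf_dvd_of_pow_eq_one (hexp b)))
  rw [← hj]
  exact A.pow_mem h2 _

/-- An irreducible piece has order `1` modulo a prime divisor of the acting group. -/
theorem piece_modEq [Group.IsSolvable H] {q : ℕ} (hexp : ∀ v : V, v ^ q = 1)
    (hcop : (Nat.card H).Coprime q) (A B : Subgroup V)
    (hfixA : ∀ v : V, (∀ h : H, φ h v = v) → v ∈ A)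
    (hA : ∀ h : H, ∀ v ∈ A, φ h v ∈ A) (hB : ∀ h : H, ∀ v ∈ B, φ h v ∈ B) (hAB : A < B)
    (hmin : ∀ F : Subgroup V, (∀ h : H, ∀ v ∈ F, φ h v ∈ F) → A ≤ F → F ≤ B → F = A ∨ F = B) :
    ∃ r : ℕ, r.Prime ∧ r ∣ Nat.card H ∧ A.relIndex B ≡ 1 [MOD r] := by
  classical
  have wd : ∀ (h : H) (a b : B), QuotientGroup.leftRel (A.subgroupOf B) a b →
      QuotientGroup.leftRel (A.subgroupOf B) (⟨φ h a, hB h a a.2⟩ : B) ⟨φ h b, hB h b b.2⟩ := by
    intro h a b hab
    rw [QuotientGroup.leftRel_apply, Subgroup.mem_subgroupOf] at hab ⊢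
    simpa using hA h _ hab
  letI act : MulAction H (B ⧸ A.subgroupOf B) :=
    { smul := fun h => Quotient.map' (fun b : B => (⟨φ h b, hB h b b.2⟩ : B)) (fun a b => wd h a b)
      one_smul := fun x => QuotientGroup.induction_on x fun b => by
        show QuotientGroup.mk (⟨φ 1 b, _⟩ : B) = _
        congr 1
        exact Subtype.ext (by simp)
      mul_smul := fun g h x => QuotientGroup.induction_on x fun b => by
        show QuotientGroup.mk (⟨φ (g * h) b, _⟩ : B) = QuotientGroup.mk (⟨φ g (φ h b), _⟩ : B)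
        congr 1
        exact Subtype.ext (by simp) }
  set ψ := MulAction.toPermHom H (B ⧸ A.subgroupOf B) with hψ
  have hfix : ∀ (h : H) (b : B), h • (QuotientGroup.mk b : B ⧸ A.subgroupOf B) = QuotientGroup.mk b ↔
      (b : V)⁻¹ * φ h b ∈ A := by
    intro h b
    show (QuotientGroup.mk (⟨φ h b, hB h b b.2⟩ : B) : B ⧸ A.subgroupOf B) = _ ↔ _
    rw [eq_comm, QuotientGroup.eq, Subgroup.mem_subgroupOf]
    simp
  set K := ψ.ker with hK
  have hKtop : K ≠ ⊤ := by
    intro htop
    obtain ⟨b, hbB, hbA⟩ := SetLike.exists_of_lt hAB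
    refine hbA (mem_of_fixed φ hexp hcop A hfixA b fun h => (hfix h ⟨b, hbB⟩).1 ?_)
    have hh : h ∈ K := htop ▸ Subgroup.mem_top h
    show ψ h (QuotientGroup.mk _) = _
    rw [show ψ h = 1 from hh]
    rfl
  haveI : Nontrivial (H ⧸ K) := QuotientGroup.nontrivial_iff.2 hKtop
  obtain ⟨M, hMn, -, hM0, hMmin⟩ :=
    exists_minimal_normal_le (N := (⊤ : Subgroup (H ⧸ K))) top_ne_bot
  haveI := hMn
  obtain ⟨-, r, hr, hrexp⟩ := minimal_normal_elementary M hM0 hMmin
  haveI : Fact r.Prime := ⟨hr⟩
  set R := M.comap (QuotientGroup.mk' K) with hR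
  have hS : IsPGroup r (R.map ψ) := by
    rintro ⟨s, hs⟩
    refine ⟨1, ?_⟩
    obtain ⟨y, hy, rfl⟩ := hs
    apply Subtype.ext
    have hy1 : y ^ r ∈ K := by
      rw [← QuotientGroup.eq_one_iff, QuotientGroup.mk_pow]
      exact hrexp _ hy
    simp only [pow_one, SubgroupClass.coe_pow, OneMemClass.coe_one]
    rw [← map_pow]
    exact hy1
  let D : H → (V →* V) := fun y =>
    { toFun := fun v => v⁻¹ * φ y v
      map_one' := by simp
      map_mul' := fun v w => by rw [map_mul, mul_inv, mul_mul_mul_comm] }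
  let F : Subgroup V := B ⊓ ⨅ y : R, A.comap (D (y : H))
  have memF : ∀ v : V, v ∈ F ↔ v ∈ B ∧ ∀ y ∈ R, v⁻¹ * φ y v ∈ A := by
    intro v
    simp only [F, Subgroup.mem_inf, Subgroup.mem_iInf, Subgroup.mem_comap, Subtype.forall]
    exact Iff.rfl
  have hFA : F = A := by
    have hR' : R.Normal := hMn.comap _
    rcases hmin F (fun h v hv => by
        rw [memF] at hv ⊢
        refine ⟨hB h v hv.1, fun y hy => ?_⟩
        have hy' : h⁻¹ * y * h ∈ R := by simpa using hR'.conj_mem y hy h⁻¹
        have := hA h _ (hv.2 _ hy')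
        rw [map_mul, map_inv, ← MulAut.mul_apply, ← map_mul φ, show h * (h⁻¹ * y * h) = y * h by group,
          map_mul, MulAut.mul_apply] at this
        exact this)
      (fun v hv => (memF v).2 ⟨hAB.le hv, fun y _ => A.mul_mem (A.inv_mem hv) (hA y v hv)⟩)
      inf_le_left with e | e
    · exact e
    · refine absurd (eq_bot_iff.2 fun z hz => ?_) hM0
      obtain ⟨y, rfl⟩ := QuotientGroup.mk'_surjective K z
      rw [Subgroup.mem_bot, QuotientGroup.mk'_apply, QuotientGroup.eq_one_iff]
      show ψ y = 1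
      refine Equiv.ext fun x => ?_
      obtain ⟨b, rfl⟩ := QuotientGroup.mk_surjective x
      have hbF : (b : V) ∈ F := le_of_eq e.symm b.2
      exact (hfix y b).2 (((memF b).1 hbF).2 y hz)
  refine ⟨r, hr, ?_, ?_⟩
  · obtain ⟨⟨z, hz⟩, hz1'⟩ := Subgroup.ne_bot_iff_exists_ne_one.1 hM0
    have hz1 : z ≠ 1 := fun h0 => hz1' (Subtype.ext h0)
    rw [← orderOf_eq_prime (hrexp z hz) hz1]
    exact (orderOf_dvd_natCard z).trans (Subgroup.card_quotient_dvd_card K)
  · have h1 := hS.card_modEq_card_fixedPoints (B ⧸ A.subgroupOf B)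
    have h2 : Nat.card (MulAction.fixedPoints (R.map ψ) (B ⧸ A.subgroupOf B)) = 1 := by
      rw [Nat.card_eq_one_iff_unique]
      refine ⟨⟨fun x y => Subtype.ext ?_⟩, ⟨⟨QuotientGroup.mk 1, ?_⟩⟩⟩
      · have key : ∀ x : MulAction.fixedPoints (R.map ψ) (B ⧸ A.subgroupOf B),
            (x : B ⧸ A.subgroupOf B) = QuotientGroup.mk 1 := by
          rintro ⟨x, hx⟩
          obtain ⟨b, rfl⟩ := QuotientGroup.mk_surjective x
          · have hbA : (b : V) ∈ A := by
              rw [← hFA, memF]
              exact ⟨b.2, fun y hy => (hfix y b).1 (hx ⟨ψ y, Subgroup.mem_map_of_mem _ hy⟩)⟩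
            exact QuotientGroup.eq.2 (by simpa [Subgroup.mem_subgroupOf] using hbA)
        rw [key x, key y]
      · rintro ⟨s, hs⟩
        obtain ⟨y, -, rfl⟩ := hs
        exact (hfix y 1).2 (by simp)
    rw [h2] at h1
    exact h1

/-- Factorisation of the index of an invariant subgroup containing the fixed points. -/
theorem index_factor [Group.IsSolvable H] {q : ℕ} (hexp : ∀ v : V, v ^ q = 1)
    (hcop : (Nat.card H).Coprime q) :
    ∀ (c : ℕ) (A : Subgroup V), A.index = c → (∀ v : V, (∀ h : H, φ h v = v) → v ∈ A) →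
      (∀ h : H, ∀ v ∈ A, φ h v ∈ A) →
      ∃ l : List ℕ, A.index = l.prod ∧
        ∀ f ∈ l, f ∣ Nat.card V ∧ ∃ r : ℕ, r.Prime ∧ r ∣ Nat.card H ∧ f ≡ 1 [MOD r] := by
  intro c
  induction c using Nat.strong_induction_on with
  | _ c ih =>
    intro A hc hfixA hA
    rcases eq_or_ne A ⊤ with rfl | hne
    · exact ⟨[], by simp, by simp⟩
    obtain ⟨B, hB⟩ :=
      (Set.toFinite {B : Subgroup V | A < B ∧ ∀ h : H, ∀ v ∈ B, φ h v ∈ B}).exists_minimal
        ⟨⊤, lt_of_le_of_ne le_top hne, fun _ _ _ => Subgroup.mem_top _⟩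
    obtain ⟨hAB, hBinv⟩ := hB.1
    obtain ⟨r, hr, hrd, hr1⟩ := piece_modEq φ hexp hcop A B hfixA hA hBinv hAB (fun F hF hAF hFB => by
      rcases hAF.lt_or_eq with hlt | heq
      · exact Or.inr (le_antisymm hFB (hB.2 ⟨hlt, hF⟩ hFB))
      · exact Or.inl heq.symm)
    have hmul := Subgroup.relIndex_mul_index hAB.le
    have hlt : B.index < c := hc ▸ Subgroup.index_strictAnti hAB
    obtain ⟨l, hl, hl'⟩ := ih _ hlt B rfl (fun v hv => hAB.le (hfixA v hv)) hBinv
    refine ⟨A.relIndex B :: l, by rw [List.prod_cons, ← hl, hmul], ?_⟩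
    intro f hf
    rcases List.mem_cons.1 hf with rfl | hf
    · exact ⟨(Subgroup.relIndex_dvd_card A B).trans B.card_subgroup_dvd_card, r, hr, hrd, hr1⟩
    · exact hl' f hf

end act

/-- The admissible factors. -/
def IsGood (G : Type u) [Group G] (m f : ℕ) : Prop :=
  (∃ q e : ℕ, q.Prime ∧ f = q ^ e) ∧ (∃ K L : Subgroup G, K.Normal ∧ L.Normal ∧ K < L ∧
    (∀ M : Subgroup G, M.Normal → K ≤ M → M ≤ L → M = K ∨ M = L) ∧ f ∣ K.relIndex L) ∧
    (∃ q : ℕ, q.Prime ∧ q ∣ m ∧ f ≡ 1 [MOD q])

section grp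

variable {G : Type u} [Group G] [Finite G]

theorem mem_normalizer_iff_conj (H : Subgroup G) (g : G) :
    g ∈ Subgroup.normalizer (H : Set G) ↔ MulAut.conj g • H = H := by
  rw [Subgroup.mem_normalizer_iff]
  constructor
  · intro h
    ext x
    rw [mem_conj_smul, h, show g * (g⁻¹ * x * g) * g⁻¹ = x by group]
  · intro h y
    conv_rhs => rw [← h, mem_conj_smul, show g⁻¹ * (g * y * g⁻¹) * g = y by group]

/-- The Hall subgroups are counted by the index of a normalizer. -/
theorem count_eq_index [Group.IsSolvable G] {m n : ℕ} (hG : Nat.card G = m * n) (hmn : m.Coprime n)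
    (H : Subgroup G) (hH : Nat.card H = m) :
    Nat.card {K : Subgroup G // Nat.card K = m} = (Subgroup.normalizer (H : Set G)).index := by
  let f : G ⧸ Subgroup.normalizer (H : Set G) → {K : Subgroup G // Nat.card K = m} :=
    fun x => Quotient.liftOn' x (fun g => ⟨MulAut.conj g • H, by rw [card_conj_smul, hH]⟩)
      (fun a b hab => Subtype.ext (by
        rw [QuotientGroup.leftRel_apply, mem_normalizer_iff_conj] at hab
        show MulAut.conj a • H = MulAut.conj b • H
        conv_lhs => rw [← hab, conj_smul_conj_smul, mul_inv_cancel_left]))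
  symm
  refine Nat.card_eq_of_bijective f ⟨fun x y => ?_, fun K => ?_⟩
  · refine Quotient.inductionOn₂' x y fun a b hab => QuotientGroup.eq.2 ?_
    have e : MulAut.conj a • H = MulAut.conj b • H := congrArg Subtype.val hab
    rw [mem_normalizer_iff_conj, ← conj_smul_conj_smul, ← e, conj_smul_conj_smul, inv_mul_cancel,
      map_one, one_smul]
  · obtain ⟨g, hg⟩ := hall_conj hG hmn H K.1 hH K.2
    exact ⟨QuotientGroup.mk g, Subtype.ext hg⟩

/-- Lifting the admissible factors from a quotient. -/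
theorem IsGood.lift (N : Subgroup G) [N.Normal] {m m' f : ℕ} (hm : m' ∣ m)
    (h : IsGood (G ⧸ N) m' f) : IsGood G m f := by
  obtain ⟨h1, ⟨K, L, hK, hL, hlt, hmin, hdvd⟩, ⟨q, hq, hqm, hq1⟩⟩ := h
  have hsurj := QuotientGroup.mk'_surjective N
  refine ⟨h1, ⟨K.comap (QuotientGroup.mk' N), L.comap (QuotientGroup.mk' N), hK.comap _, hL.comap _,
    (Subgroup.comap_lt_comap_of_surjective hsurj).2 hlt, fun M hM hKM hML => ?_, ?_⟩,
    q, hq, hqm.trans hm, hq1⟩
  · have hNM : (QuotientGroup.mk' N).ker ≤ M :=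
      le_trans (fun x hx => by rw [Subgroup.mem_comap, (MonoidHom.mem_ker.1 hx)]; exact K.one_mem) hKM
    have e := Subgroup.comap_map_eq_self hNM
    rcases hmin (M.map (QuotientGroup.mk' N)) (hM.map _ hsurj)
      ((Subgroup.map_comap_eq_self_of_surjective hsurj K).ge.trans (Subgroup.map_mono hKM))
      ((Subgroup.map_mono hML).trans (Subgroup.map_comap_eq_self_of_surjective hsurj L).le) with e' | e'
    · exact Or.inl (by rw [← e, e'])
    · exact Or.inr (by rw [← e, e'])
  · rwa [Subgroup.relIndex_comap, Subgroup.map_comap_eq_self_of_surjective hsurj]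

end grp

open scoped IsMulCommutative in
theorem aux : ∀ (c : ℕ) (G : Type u) [Group G] [Finite G] [Group.IsSolvable G],
    Nat.card G = c → ∀ m n : ℕ, Nat.card G = m * n → m.Coprime n →
      ∃ l : List ℕ, Nat.card {H : Subgroup G // Nat.card H = m} = l.prod ∧ ∀ f ∈ l, IsGood G m f := by
  intro c
  induction c using Nat.strong_induction_on with
  | _ c ih =>
    intro G _ _ _ hc m n hG hmn
    obtain ⟨H0, hH0⟩ := hall_exists hG hmn
    rcases subsingleton_or_nontrivial G with hs | hs
    · refine ⟨[], ?_, by simp⟩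
      rw [count_eq_index hG hmn H0 hH0, List.prod_nil, Subgroup.index_eq_one]
      exact eq_top_iff.2 fun x _ => by rw [Subsingleton.elim x 1]; exact Subgroup.one_mem _
    obtain ⟨N, hNn, -, hN0, hNmin⟩ := exists_minimal_normal_le (N := (⊤ : Subgroup G)) top_ne_bot
    haveI := hNn
    obtain ⟨hcomm, p, hp, hexp⟩ := minimal_normal_elementary N hN0 hNmin
    haveI := hcomm
    haveI : Fact p.Prime := ⟨hp⟩
    obtain ⟨a, ha⟩ := IsPGroup.iff_card.mp
      (fun x => ⟨1, by rw [pow_one]; exact Subtype.ext (hexp _ x.2)⟩ : IsPGroup p N)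
    have ha0 : a ≠ 0 := by
      rintro rfl
      rw [pow_zero] at ha
      exact ((Subgroup.one_lt_card_iff_ne_bot N).mpr hN0).ne' ha
    have hNG : Nat.card N * Nat.card (G ⧸ N) = Nat.card G := by
      rw [← Subgroup.index_eq_card, Subgroup.card_mul_index]
    have hlt : Nat.card (G ⧸ N) < c := by
      rw [← hc, ← hNG]
      exact lt_mul_of_one_lt_left Nat.card_pos ((Subgroup.one_lt_card_iff_ne_bot N).mpr hN0)
    set f := QuotientGroup.mk' N with hf
    have hsurj : Function.Surjective f := QuotientGroup.mk'_surjective N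
    have hdiv : Nat.card N ∣ m ∨ Nat.card N ∣ n := by
      have h1 : p ^ a ∣ m * n := by rw [← ha, ← hG, ← hNG]; exact Dvd.intro _ rfl
      rw [ha]
      exact (Nat.Coprime.isPrimePow_dvd_mul hmn (n := p ^ a) (hp.isPrimePow.pow ha0)).mp h1
    rcases hdiv with ⟨m', hm'⟩ | ⟨n', hn'⟩
    · have hq : Nat.card (G ⧸ N) = m' * n := by
        refine Nat.eq_of_mul_eq_mul_left (Nat.card_pos (α := N)) ?_
        rw [hNG, hG, hm', mul_assoc]
      obtain ⟨l, hl, hl'⟩ := ih _ hlt (G ⧸ N) rfl m' n hq
        (hmn.coprime_dvd_left (Dvd.intro_left _ hm'.symm))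
      refine ⟨l, ?_, fun x hx => (hl' x hx).lift N (Dvd.intro_left _ hm'.symm)⟩
      have hNH : ∀ H : Subgroup G, Nat.card H = m → N ≤ H := by
        intro H hH
        have h1 := card_sup_dvd_of_normal N H
        have h2 := Subgroup.card_subgroup_dvd_card (N ⊔ H)
        rw [hG] at h2
        have h3 : (Nat.card ↥(N ⊔ H)).Coprime n :=
          Nat.Coprime.coprime_dvd_left h1 (Nat.Coprime.mul_left
            (hmn.coprime_dvd_left (Dvd.intro _ hm'.symm)) (by rwa [hH]))
        exact le_sup_left.trans (Subgroup.eq_of_le_of_card_ge (le_sup_right : H ≤ N ⊔ H)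
          (hH ▸ Nat.le_of_dvd (Nat.pos_of_ne_zero (by
            intro h0; rw [h0, zero_mul] at hG; exact Nat.card_pos.ne' hG))
            (h3.dvd_of_dvd_mul_right h2))).ge
      rw [← hl]
      exact Nat.card_congr
        { toFun := fun H => ⟨H.1.map f, Nat.eq_of_mul_eq_mul_left (Nat.card_pos (α := N))
            (by rw [hf, card_map_mk'_mul N H.1 (hNH _ H.2), H.2, hm'])⟩
          invFun := fun H => ⟨H.1.comap f, by rw [hf, card_comap_mk', H.2, hm']⟩
          left_inv := fun H => Subtype.ext (Subgroup.comap_map_eq_self (by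
            rw [hf, QuotientGroup.ker_mk']; exact hNH _ H.2))
          right_inv := fun H => Subtype.ext (Subgroup.map_comap_eq_self_of_surjective hsurj _) }
    · have hcopN : (Nat.card N).Coprime m := (hmn.coprime_dvd_right (Dvd.intro _ hn'.symm)).symm
      have hq : Nat.card (G ⧸ N) = m * n' := by
        refine Nat.eq_of_mul_eq_mul_left (Nat.card_pos (α := N)) ?_
        rw [hNG, hG, hn']; ring
      have hmn' : m.Coprime n' := hmn.coprime_dvd_right (Dvd.intro_left _ hn'.symm)
      obtain ⟨l, hl, hl'⟩ := ih _ hlt (G ⧸ N) rfl m n' hq hmn'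
      have hbot : H0 ⊓ N = ⊥ := inf_eq_bot_of_coprime_card H0 N (by rw [hH0]; exact hcopN.symm)
      have hHq : Nat.card (H0.map f) = m := by
        rw [card_map_of_inf_ker, hH0]
        rwa [hf, QuotientGroup.ker_mk']
      set NH := Subgroup.normalizer (H0 : Set G) with hNHdef
      set X := (Subgroup.normalizer ((H0.map f : Subgroup (G ⧸ N)) : Set (G ⧸ N))).comap f with hX
      have hNX : N ≤ X := fun x hx => by
        rw [hX, Subgroup.mem_comap, hf, QuotientGroup.mk'_apply, (QuotientGroup.eq_one_iff x).2 hx]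
        exact Subgroup.one_mem _
      have hNHX : NH ≤ X := fun g hg => by
        rw [hX, Subgroup.mem_comap, mem_normalizer_iff_conj, ← map_conj_smul,
          (mem_normalizer_iff_conj H0 g).1 hg]
      have hsup : X = NH ⊔ N := by
        refine le_antisymm (fun g hg => ?_) (sup_le hNHX hNX)
        rw [hX, Subgroup.mem_comap, mem_normalizer_iff_conj, ← map_conj_smul] at hg
        have hle : MulAut.conj g • H0 ≤ N ⊔ H0 := by
          have := (Subgroup.map_le_iff_le_comap).1 hg.le
          rwa [Subgroup.comap_map_eq, hf, QuotientGroup.ker_mk', sup_comm] at this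
        obtain ⟨w, hw, hwe⟩ := conj_of_card_eq N H0 (MulAut.conj g • H0) (Or.inl inferInstance)
          Subgroup.le_normalizer_of_normal hle (card_conj_smul g H0) (by rw [hH0]; exact hcopN)
        have hmem : w⁻¹ * g ∈ NH := by
          rw [hNHdef, mem_normalizer_iff_conj, ← conj_smul_conj_smul, ← hwe, conj_smul_conj_smul,
            inv_mul_cancel, map_one, one_smul]
        have := mul_mem (Subgroup.mem_sup_right hw : w ∈ NH ⊔ N) (Subgroup.mem_sup_left hmem)
        rwa [mul_inv_cancel_left] at this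
      set C := N ⊓ Subgroup.centralizer (H0 : Set G) with hC
      have hinf : N ⊓ NH = C := by
        refine le_antisymm (fun x hx => ?_) (fun x hx => ?_)
        · obtain ⟨hxN, hxH⟩ := Subgroup.mem_inf.1 hx
          refine Subgroup.mem_inf.2 ⟨hxN, Subgroup.mem_centralizer_iff.2 fun h hh => ?_⟩
          have h1 : x * h * x⁻¹ * h⁻¹ ∈ H0 ⊓ N := Subgroup.mem_inf.2
            ⟨H0.mul_mem ((Subgroup.mem_normalizer_iff.1 hxH h).1 hh) (H0.inv_mem hh), by
              rw [show x * h * x⁻¹ * h⁻¹ = x * (h * x⁻¹ * h⁻¹) by group]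
              exact N.mul_mem hxN (hNn.conj_mem _ (N.inv_mem hxN) h)⟩
          rw [hbot, Subgroup.mem_bot, mul_inv_eq_one] at h1
          calc h * x = x * h * x⁻¹ * x := by rw [h1]
            _ = x * h := by group
        · obtain ⟨hxN, hxC⟩ := Subgroup.mem_inf.1 hx
          refine Subgroup.mem_inf.2 ⟨hxN, (mem_normalizer_iff_conj H0 x).2 ?_⟩
          ext y
          rw [mem_conj_smul]
          constructor
          · intro hy
            have e := Subgroup.mem_centralizer_iff.1 hxC _ hy
            have e' : x⁻¹ * y * x * x = y * x := e.trans (by group)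
            rwa [mul_right_cancel e'] at hy
          · intro hy
            rwa [show x⁻¹ * y * x = y by rw [mul_assoc, Subgroup.mem_centralizer_iff.1 hxC y hy, inv_mul_cancel_left]]
      have hcount : Nat.card {H : Subgroup G // Nat.card H = m} = C.relIndex N * l.prod := by
        have e1 : N.relIndex X = N.relIndex NH := by rw [hsup, Subgroup.relIndex_sup_right]
        have e2 := Subgroup.relIndex_mul_relIndex (N ⊓ NH) NH X inf_le_right hNHX
        have e3 := Subgroup.relIndex_mul_relIndex (N ⊓ NH) N X inf_le_left hNX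
        rw [Subgroup.inf_relIndex_right, ← e3, e1, mul_comm ((N ⊓ NH).relIndex N)] at e2
        have e4 : NH.relIndex X = C.relIndex N := by
          rw [← hinf]; exact Nat.eq_of_mul_eq_mul_left (Nat.pos_of_ne_zero Subgroup.index_ne_zero_of_finite) e2
        rw [count_eq_index hG hmn H0 hH0, ← hl, count_eq_index hq hmn' _ hHq, ← e4,
          ← Subgroup.index_comap_of_surjective _ hsurj, ← hX]
        exact (Subgroup.relIndex_mul_index hNHX).symm
      let φ : H0 →* MulAut N := (MulAut.conjNormal (H := N)).comp H0.subtype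
      have hcop' : (Nat.card H0).Coprime p := by
        rw [hH0]
        exact hcopN.symm.coprime_dvd_right (by rw [ha]; exact dvd_pow_self p ha0)
      obtain ⟨l', hl1, hl2⟩ := index_factor φ (q := p) (fun v => Subtype.ext (hexp _ v.2)) hcop'
        _ (C.subgroupOf N) rfl
        (fun v hv => by
          rw [Subgroup.mem_subgroupOf, hC, Subgroup.mem_inf]
          refine ⟨v.2, Subgroup.mem_centralizer_iff.2 fun h hh => ?_⟩
          have e := congrArg (fun z : N => (z : G)) (hv ⟨h, hh⟩)
          simp only [φ, MonoidHom.comp_apply, Subgroup.coe_subtype, MulAut.conjNormal_apply] at e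
          exact mul_inv_eq_iff_eq_mul.1 e)
        (fun h v hv => by
          rw [Subgroup.mem_subgroupOf] at hv ⊢
          have e : ((φ h v : N) : G) = v := by
            simp only [φ, MonoidHom.comp_apply, Subgroup.coe_subtype, MulAut.conjNormal_apply]
            exact mul_inv_eq_iff_eq_mul.2 (Subgroup.mem_centralizer_iff.1 (Subgroup.mem_inf.1 hv).2 h h.2)
          rwa [e])
      refine ⟨l' ++ l, by rw [hcount, List.prod_append, ← hl1]; rfl, fun x hx => ?_⟩
      rcases List.mem_append.1 hx with hx | hx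
      · obtain ⟨hxd, r, hr, hrd, hr1⟩ := hl2 x hx
        obtain ⟨e, -, he⟩ := (Nat.dvd_prime_pow hp).1 (ha ▸ hxd)
        exact ⟨⟨p, e, hp, he⟩, ⟨⊥, N, inferInstance, hNn, bot_lt_iff_ne_bot.2 hN0,
          fun M hM _ hMN => hNmin M hM hMN, by rwa [Subgroup.relIndex_bot_left]⟩,
          r, hr, hH0 ▸ hrd, hr1⟩
      · exact (hl' x hx).lift N dvd_rfl

/-- Let `G` be a finite solvable group of order `mn` with `gcd(m, n) = 1`. Then the number of subgroups of order `m` is a product of natural numbers each of which is a power of a prime, divides the order of some chief factor of `G` (a quotient `L/K` of normal subgroups `K < L` of `G` with no normal subgroup of `G` strictly between them), and is congruent to `1` modulo some prime divisor of `m`. -/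
theorem result {G : Type*} [Group G] [Finite G] [Group.IsSolvable G] (m n : ℕ) (hG : Nat.card G = m * n) (hmn : Nat.Coprime m n) : ∃ (k : ℕ) (f : Fin k → ℕ), Nat.card {H : Subgroup G // Nat.card H = m} = ∏ i, f i ∧ ∀ i, (∃ q e : ℕ, q.Prime ∧ f i = q ^ e) ∧ (∃ K L : Subgroup G, K.Normal ∧ L.Normal ∧ K < L ∧ (∀ M : Subgroup G, M.Normal → K ≤ M → M ≤ L → M = K ∨ M = L) ∧ f i ∣ K.relIndex L) ∧ (∃ q : ℕ, q.Prime ∧ q ∣ m ∧ f i ≡ 1 [MOD q]) := by
  obtain ⟨l, hl, hl'⟩ := aux (Nat.card G) G rfl m n hG hmn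
  refine ⟨l.length, fun i => l.get i, ?_, fun i => hl' _ (List.get_mem l i)⟩
  rw [hl]
  conv_lhs => rw [← List.ofFn_get l]
  rw [List.prod_ofFn]

end Cfsg.Agent.S4214
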