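import Cfsg.Statements.S4216
import Cfsg.Agent.Lib.Solv.Gruen

set_option autoImplicit false
open scoped Pointwise
open Cfsg

namespace Cfsg.Agent.S4216

/-- Grün's first Theorem: if `P` is a Sylow `p`-subgroup of the finite group `G`, then `P ∩ G'` is the subgroup generated by `P ∩ N_G(P)'` together with the subgroups `P ∩ z P' z⁻¹` for all `z ∈ G`, where `'` denotes the derived subgroup and `N_G(P)` the normalizer of `P`. -/
theorem result {G : Type*} [Group G] [Finite G] {p : ℕ} [Fact p.Prime] (P : Sylow p G) : (P : Subgroup G) ⊓ commutator G = ((P : Subgroup G) ⊓ ⁅Subgroup.normalizer ((P : Subgroup G) : Set G), Subgroup.normalizer ((P : Subgroup G) : Set G)⁆) ⊔ ⨆ z : G, (P : Subgroup G) ⊓ (⁅(P : Subgroup G), (P : Subgroup G)⁆).map (MulAut.conj z).toMonoidHom := by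
  open Subgroup in
  refine le_antisymm (Cfsg.Agent.Solv.Gruen.inf_commutator_le P _ le_sup_left
    (fun z => le_sup_of_le_right (le_iSup_of_le z le_rfl)) (sup_le inf_le_left (iSup_le fun z => inf_le_left))) ?_
  refine sup_le (inf_le_inf_left _ (commutator_mono le_top le_top)) (iSup_le fun z => inf_le_inf_left _ ?_)
  rw [Subgroup.map_le_iff_le_comap]
  intro v hv
  exact (inferInstance : (_root_.commutator G).Normal).conj_mem v (commutator_mono le_top le_top hv) z

end Cfsg.Agent.S4216
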