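import Cfsg.Statements.S4217
import Cfsg.Agent.Lib.Solv.Gaschutz

set_option autoImplicit false
open Cfsg

namespace Cfsg.Agent.S4217

open Subgroup in
/-- the subgroup of elements of an abelian `A` killed by `n` -/
def torsPart {G : Type*} [Group G] (A : Subgroup G) (hA : IsMulCommutative A) (n : ℕ) : Subgroup G where
  carrier := {x | x ∈ A ∧ x ^ n = 1}
  one_mem' := ⟨A.one_mem, one_pow n⟩
  inv_mem' := fun {x} hx => ⟨A.inv_mem hx.1, by rw [inv_pow, hx.2, inv_one]⟩
  mul_mem' := fun {x y} hx hy => ⟨A.mul_mem hx.1 hy.1, by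
    have hc : Commute x y := congrArg Subtype.val (hA.is_comm.comm ⟨x, hx.1⟩ ⟨y, hy.1⟩)
    rw [hc.mul_pow, hx.2, hy.2, one_mul]⟩

theorem torsPart_normal {G : Type*} [Group G] (A : Subgroup G) [A.Normal] (hA : IsMulCommutative A) (n : ℕ) :
    (torsPart A hA n).Normal :=
  ⟨fun x hx g => ⟨‹A.Normal›.conj_mem x hx.1 g, by rw [conj_pow, hx.2]; group⟩⟩

theorem torsPart_inf {G : Type*} [Group G] (A : Subgroup G) (hA : IsMulCommutative A) {m n : ℕ}
    (h : m.Coprime n) {x : G} (h1 : x ∈ torsPart A hA m) (h2 : x ∈ torsPart A hA n) : x = 1 := by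
  have h3 : orderOf x ∣ Nat.gcd m n :=
    Nat.dvd_gcd (orderOf_dvd_of_pow_eq_one h1.2) (orderOf_dvd_of_pow_eq_one h2.2)
  rw [h.gcd_eq_one, Nat.dvd_one, orderOf_eq_one_iff] at h3
  exact h3

theorem local_complement {G : Type*} [Group G] [Finite G] (A : Subgroup G) [A.Normal]
    (hA : IsMulCommutative A) (p : ℕ) (hp : p.Prime)
    (U K : Subgroup G) (hKA : K ⊓ A = ⊥) (hU : K ⊔ A = U) (hUi : ¬ p ∣ U.index) :
    ∃ H : Subgroup G, ¬ p ∣ Nat.card ↥(H ⊓ A) ∧ H.index ∣ Nat.card A ∧ ∃ k, H.index = p ^ k := by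
  haveI := Fact.mk hp
  have hA0 : Nat.card A ≠ 0 := Nat.card_pos.ne'
  set a := (Nat.card A).factorization p
  set m := Nat.card A / p ^ a
  have hpm : (p ^ a).Coprime m := Nat.Coprime.pow_left _ (Nat.coprime_ordCompl hp hA0)
  have hmul : p ^ a * m = Nat.card A := Nat.ordProj_mul_ordCompl_eq_self _ _
  set T := torsPart A hA (p ^ a) with hT
  set B := torsPart A hA m with hB
  haveI : T.Normal := torsPart_normal A hA _
  haveI : B.Normal := torsPart_normal A hA _
  haveI : IsMulCommutative T := ⟨⟨fun x y => Subtype.ext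
    (congrArg (fun z : A => (z : G)) (hA.is_comm.comm ⟨x, x.2.1⟩ ⟨y, y.2.1⟩))⟩⟩
  have hAU : A ≤ U := hU ▸ le_sup_right
  have hTU : T ≤ U := fun x hx => hAU hx.1
  have hTp : IsPGroup p T := fun x => ⟨a, Subtype.ext (by simpa using x.2.2)⟩
  have hcop : (Nat.card T).Coprime U.index := by
    obtain ⟨k, hk⟩ := hTp.exists_card_eq
    rw [hk]; exact Nat.Coprime.pow_left _ ((hp.coprime_iff_not_dvd).mpr hUi)
  have hsup : A ≤ T ⊔ B := fun x hx => by
    have hcard : x ^ (p ^ a * m) = 1 := by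
      rw [hmul]; exact congrArg Subtype.val (pow_card_eq_one' (x := (⟨x, hx⟩ : A)))
    have hb := Nat.gcd_eq_gcd_ab (p ^ a) m
    rw [hpm.gcd_eq_one] at hb
    have hx1 : x ^ (m : ℤ) ∈ T := ⟨A.zpow_mem hx _, by
      rw [zpow_natCast, ← pow_mul, mul_comm m]; exact hcard⟩
    have hx2 : x ^ ((p ^ a : ℕ) : ℤ) ∈ B := ⟨A.zpow_mem hx _, by
      rw [zpow_natCast, ← pow_mul]; exact hcard⟩
    have h3 := (T ⊔ B).mul_mem
      (le_sup_right (a := T) ((B.zpow_mem hx2 (Nat.gcdA (p ^ a) m))))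
      (le_sup_left (b := B) ((T.zpow_mem hx1 (Nat.gcdB (p ^ a) m))))
    rw [← zpow_mul, ← zpow_mul, ← zpow_add, ← hb] at h3
    simpa using h3
  have hL1 : (K ⊔ B) ⊓ T = ⊥ := by
    rw [eq_bot_iff]
    rintro x ⟨h1, h2⟩
    have h1' : x ∈ ((K ⊔ B : Subgroup G) : Set G) := h1
    rw [Subgroup.mul_normal] at h1'
    obtain ⟨k, hk, b, hb, rfl⟩ := h1'
    have hkA : k ∈ K ⊓ A := ⟨hk, by
      simpa using A.mul_mem (show k * b ∈ A from h2.1) (A.inv_mem hb.1)⟩
    rw [hKA, Subgroup.mem_bot] at hkA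
    subst hkA
    simp only [one_mul] at h2 ⊢
    exact torsPart_inf A hA hpm h2 hb
  have hL2 : T ⊔ (K ⊔ B) = U := by
    refine le_antisymm (sup_le hTU (sup_le (hU ▸ le_sup_left) fun x hx => hAU hx.1)) ?_
    rw [← hU]
    exact sup_le (le_sup_left.trans le_sup_right) (hsup.trans (sup_le le_sup_left (le_sup_right.trans le_sup_right)))
  obtain ⟨H, hH⟩ := Solv.gaschutz_exists T U hTU hcop (K ⊔ B)
    (hL2 ▸ le_sup_right) hL1 hL2
  refine ⟨H, fun hd => ?_, ?_, ?_⟩
  · obtain ⟨x, hx⟩ := exists_prime_orderOf_dvd_card' p hd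
    have hx' : orderOf (x : G) = p := by rw [Subgroup.orderOf_coe]; exact hx
    have hxT : (x : G) ∈ T := ⟨x.2.2, by
      have hdA : p ∣ Nat.card A := hx' ▸ Subgroup.orderOf_dvd_natCard A x.2.2
      have : p ∣ p ^ a := dvd_pow_self p (Nat.Prime.factorization_pos_of_dvd hp hA0 hdA).ne'
      exact orderOf_dvd_iff_pow_eq_one.mp (hx'.symm ▸ this)⟩
    have : (x : G) ∈ T ⊓ H := ⟨hxT, x.2.1⟩
    rw [hH.disjoint.eq_bot, Subgroup.mem_bot] at this
    rw [this, orderOf_one] at hx'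
    exact hp.one_lt.ne hx'
  · rw [hH.index_eq_card]
    exact Subgroup.card_dvd_of_le (fun x hx => hx.1)
  · obtain ⟨k, hk⟩ := hTp.exists_card_eq
    exact ⟨k, hH.index_eq_card ▸ hk⟩

/-- Let `A` be an abelian normal subgroup of the finite group `G`. Then `A` has a complement in `G` if and only if, for every prime `p` dividing the index of `A`, there are a Sylow `p`-subgroup `S` of `G/A` and a subgroup `K` of `G` with `K ∩ A = 1` and `KA` equal to the preimage of `S` (that is, `A` has a complement in the preimage of a Sylow `p`-subgroup of `G/A`). -/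
theorem result {G : Type*} [Group G] [Finite G] (A : Subgroup G) [A.Normal] (hA : IsMulCommutative A) : (∃ K : Subgroup G, K.IsComplement' A) ↔ ∀ p : ℕ, p.Prime → p ∣ A.index → ∃ (S : Sylow p (G ⧸ A)) (K : Subgroup G), K ⊓ A = ⊥ ∧ K ⊔ A = (S : Subgroup (G ⧸ A)).comap (QuotientGroup.mk' A) := by
  constructor
  · rintro ⟨K, hK⟩ p hp -
    obtain ⟨S⟩ : Nonempty (Sylow p (G ⧸ A)) := inferInstance
    refine ⟨S, K ⊓ (S : Subgroup (G ⧸ A)).comap (QuotientGroup.mk' A), ?_, le_antisymm (sup_le inf_le_right fun x hx => ?_) fun x hx => ?_⟩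
    · rw [eq_bot_iff, ← hK.disjoint.eq_bot]; exact inf_le_inf_right _ inf_le_left
    · show QuotientGroup.mk' A x ∈ (S : Subgroup (G ⧸ A))
      rw [QuotientGroup.mk'_apply, (QuotientGroup.eq_one_iff x).mpr hx]; exact one_mem _
    · obtain ⟨k, hk, a, ha, rfl⟩ : ∃ k ∈ K, ∃ a ∈ A, x = k * a := by
        have h1 : x ∈ ((K ⊔ A : Subgroup G) : Set G) := by rw [hK.sup_eq_top]; trivial
        rw [Subgroup.mul_normal] at h1
        obtain ⟨k, hk, a, ha, rfl⟩ := h1
        exact ⟨k, hk, a, ha, rfl⟩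
      refine Subgroup.mul_mem _ (Subgroup.mem_sup_left ⟨hk, ?_⟩) (Subgroup.mem_sup_right ha)
      have h2 : QuotientGroup.mk' A (k * a) ∈ (S : Subgroup (G ⧸ A)) := hx
      rw [map_mul, QuotientGroup.mk'_apply A a, (QuotientGroup.eq_one_iff a).mpr ha, mul_one] at h2
      exact h2
  · intro h
    have key : ∀ p : ℕ, p.Prime → ∃ H : Subgroup G,
        ¬ p ∣ Nat.card ↥(H ⊓ A) ∧ H.index ∣ Nat.card A ∧ ∃ k, H.index = p ^ k := by
      intro p hp
      haveI := Fact.mk hp
      by_cases hd : p ∣ A.index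
      · obtain ⟨S, K, h1, h2⟩ := h p hp hd
        refine local_complement A hA p hp _ K h1 h2 ?_
        rw [Subgroup.index_comap_of_surjective _ (QuotientGroup.mk'_surjective A)]
        exact S.not_dvd_index
      · exact local_complement A hA p hp A ⊥ (bot_inf_eq _) (bot_sup_eq _) hd
    choose H hH1 hH2 k hk using key
    let s := (Nat.card A).primeFactors
    let K : Subgroup G := ⨅ p : s, H p (Nat.prime_of_mem_primeFactors p.2)
    have hbot : K ⊓ A = ⊥ := by
      rw [← Subgroup.card_eq_one]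
      by_contra hne
      obtain ⟨p, hp, hd⟩ := Nat.exists_prime_and_dvd hne
      have hps : p ∈ s := Nat.mem_primeFactors.mpr
        ⟨hp, hd.trans (Subgroup.card_dvd_of_le inf_le_right), Nat.card_pos.ne'⟩
      exact hH1 p hp (hd.trans (Subgroup.card_dvd_of_le
        (inf_le_inf_right _ (iInf_le (fun q : s => H q (Nat.prime_of_mem_primeFactors q.2)) ⟨p, hps⟩))))
    have hprod : (∏ p : s, (H p (Nat.prime_of_mem_primeFactors p.2)).index) ∣ Nat.card A := by
      refine Fintype.prod_dvd_of_isRelPrime (fun p q hpq => ?_) fun p => hH2 _ _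
      show IsRelPrime (H p _).index (H q _).index
      rw [← Nat.coprime_iff_isRelPrime]
      rw [hk, hk]
      exact Nat.Coprime.pow _ _ ((Nat.coprime_primes (Nat.prime_of_mem_primeFactors p.2)
        (Nat.prime_of_mem_primeFactors q.2)).mpr fun e => hpq (Subtype.ext e))
    have hle : K.index ≤ Nat.card A :=
      (Subgroup.index_iInf_le _).trans (Nat.le_of_dvd Nat.card_pos hprod)
    have hdis : Disjoint K A := disjoint_iff.mpr hbot
    have hge : Nat.card K * Nat.card A ≤ Nat.card G := by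
      rw [← Nat.card_prod]
      exact Nat.card_le_card_of_injective _ (Subgroup.mul_injective_of_disjoint hdis)
    refine ⟨K, Subgroup.isComplement'_of_card_mul_and_disjoint (le_antisymm hge ?_) hdis⟩
    rw [← K.card_mul_index]
    exact Nat.mul_le_mul_left _ hle

end Cfsg.Agent.S4217
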