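import Cfsg.Statements.S4218
import Cfsg.Agent.Lib.Solv.PSolvable
import Cfsg.Agent.Lib.Solv.Coprime
import Cfsg.Agent.Lib.Solv.StructMisc

set_option autoImplicit false
open scoped Pointwise
open Cfsg

namespace Cfsg.Agent.S4218

/-- Let `G` be a finite `p`-solvable group, `N₀ = O_{p'}(G)`, `P₁ = O_{p',p}(G)`, and let `F ≤ P₁` be the preimage of the Frattini subgroup of `P₁/N₀`. Then an element `g` of `G` induces the identity on `P₁/F` by conjugation (that is, `g x g⁻¹ x⁻¹ ∈ F` for all `x ∈ P₁`) if and only if `g ∈ P₁`: the group `G/P₁` acts faithfully on `P₁/F`. -/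
theorem result {G : Type*} [Group G] [Finite G] {p : ℕ} [Fact p.Prime] (hG : Cfsg.IsPSolvable p G) (g : G) : (∀ x ∈ Cfsg.pPrimePCore p G, g * x * g⁻¹ * x⁻¹ ∈ ((frattini (↥(Cfsg.pPrimePCore p G) ⧸ (Cfsg.pPrimeCore p G).subgroupOf (Cfsg.pPrimePCore p G))).comap (QuotientGroup.mk' ((Cfsg.pPrimeCore p G).subgroupOf (Cfsg.pPrimePCore p G)))).map (Cfsg.pPrimePCore p G).subtype) ↔ g ∈ Cfsg.pPrimePCore p G := by
  open Subgroup in
  haveI hO := Cfsg.Agent.Solv.pPrimeCore_characteristic p G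
  set O := Cfsg.pPrimeCore p G with hOdef
  set Q := Cfsg.pCore p (G ⧸ O) with hQdef
  haveI hQc : Q.Characteristic := Cfsg.Agent.Solv.pCore_characteristic p (G ⧸ O)
  haveI hQn : Q.Normal := inferInstance
  set K := Cfsg.pPrimePCore p G with hKdef
  have hKQ : K = Q.comap (QuotientGroup.mk' O) := rfl
  let φ : ↥K →* ↥Q := ((QuotientGroup.mk' O).comp K.subtype).codRestrict Q fun x => x.2
  have hφ : Function.Surjective φ := by
    rintro ⟨y, hy⟩
    obtain ⟨x, rfl⟩ := QuotientGroup.mk'_surjective O y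
    exact ⟨⟨x, hy⟩, rfl⟩
  have hker : φ.ker = O.subgroupOf K := by
    ext x
    rw [MonoidHom.mem_ker, mem_subgroupOf, ← QuotientGroup.eq_one_iff, Subtype.ext_iff]
    rfl
  let e : ↥K ⧸ O.subgroupOf K ≃* ↥Q :=
    (QuotientGroup.quotientMulEquivOfEq hker.symm).trans (QuotientGroup.quotientKerEquivOfSurjective φ hφ)
  have he : ∀ x : ↥K, e (QuotientGroup.mk' _ x) = φ x := fun x => rfl
  have hmem : ∀ x : ↥K, QuotientGroup.mk' (O.subgroupOf K) x ∈ frattini (↥K ⧸ O.subgroupOf K) ↔ φ x ∈ frattini ↥Q := by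
    intro x
    constructor
    · intro h
      rw [← he]
      exact frattini_le_comap_frattini_of_surjective (φ := e.toMonoidHom) e.surjective h
    · intro h
      have h1 := frattini_le_comap_frattini_of_surjective (φ := e.symm.toMonoidHom) e.symm.surjective h
      rw [mem_comap, MulEquiv.coe_toMonoidHom, ← he, MulEquiv.symm_apply_apply] at h1
      exact h1
  have hQp : IsPGroup p ↥Q := Cfsg.Agent.Solv.isPGroup_pCore p _
  haveI := hQp.isNilpotent
  set F := (frattini ↥Q).map Q.subtype with hF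
  haveI hFn : F.Normal := inferInstance
  constructor
  · intro h
    let N : Subgroup (G ⧸ O) :=
      { carrier := {a | ∀ x ∈ Q, a * x * a⁻¹ * x⁻¹ ∈ F}
        one_mem' := fun x _ => by simp
        mul_mem' := fun {a b} ha hb x hx => by
          have := mul_mem (hFn.conj_mem _ (hb x hx) a) (ha x hx)
          simpa [mul_assoc] using this
        inv_mem' := fun {a} ha x hx => by
          have := hFn.conj_mem _ (inv_mem (ha x hx)) a⁻¹
          rw [inv_inv] at this
          have h2 := mul_mem (mul_mem (one_mem F) this) (one_mem F)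
          simpa [mul_assoc] using h2 }
    haveI : N.Normal := ⟨fun a ha g x hx => by
      have h1 := hFn.conj_mem _ (ha (g⁻¹ * x * g) (by simpa using hQn.conj_mem x hx g⁻¹)) g
      simpa [mul_assoc] using h1⟩
    have hsep' : Cfsg.IsPSolvable p (G ⧸ O) := Cfsg.Agent.Solv.isPSolvable_quotient hG O
    have hC : centralizer (Q : Set (G ⧸ O)) ≤ Q :=
      Cfsg.Agent.Solv.centralizer_pCore_le_of_isPSolvable hsep' (Cfsg.Agent.Solv.pPrimeCore_quotient_pPrimeCore p)
    have hN : IsPGroup p ↥N := by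
      rw [IsPGroup.iff_card]
      refine ⟨_, Nat.eq_prime_pow_of_unique_prime_dvd Nat.card_pos.ne' fun {q} hq hd => ?_⟩
      by_contra hqp
      haveI := Fact.mk hq
      obtain ⟨a, ha⟩ := exists_prime_orderOf_dvd_card' q hd
      have hA : Subgroup.zpowers (a : G ⧸ O) ≤ centralizer (Q : Set (G ⧸ O)) := by
        refine Cfsg.Agent.Solv.centralizes_of_trivial_on_frattini_quotient _ Q
          (by rw [normalizer_eq_top_iff.2 hQn]; exact le_top) ?_ fun b hb x hx => ?_
        · obtain ⟨n, hn⟩ := IsPGroup.iff_card.1 (hQp.to_subgroup (frattini ↥Q))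
          rw [Nat.card_zpowers, orderOf_coe, ha, hn]
          exact Nat.Coprime.pow_right _ ((Nat.coprime_primes hq Fact.out).2 hqp)
        · exact zpowers_le.2 a.2 hb x hx
      have h1 : (a : G ⧸ O) ∈ Q := hC (hA (mem_zpowers _))
      obtain ⟨n, hn⟩ := IsPGroup.iff_orderOf.1 hQp ⟨_, h1⟩
      rw [orderOf_mk, orderOf_coe, ha] at hn
      exact hqp ((Nat.prime_dvd_prime_iff_eq hq Fact.out).1 (hq.dvd_of_dvd_pow (dvd_of_eq hn)))
    refine Cfsg.Agent.Solv.le_pCore hN (show QuotientGroup.mk' O g ∈ N from ?_)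
    intro x hx
    obtain ⟨y, rfl⟩ := QuotientGroup.mk'_surjective O x
    obtain ⟨z, hz, hzy⟩ := h y hx
    refine ⟨φ z, (hmem z).1 hz, ?_⟩
    show QuotientGroup.mk' O (z : G) = _
    rw [show (z : G) = g * y * g⁻¹ * y⁻¹ from hzy]
    simp
  · intro hg x hx
    refine ⟨⟨g, hg⟩ * ⟨x, hx⟩ * ⟨g, hg⟩⁻¹ * ⟨x, hx⟩⁻¹, ?_, rfl⟩
    refine (hmem _).2 (Cfsg.Agent.Solv.commutator_le_frattini ?_)
    rw [map_mul, map_mul, map_mul, map_inv, map_inv, _root_.commutator_def]
    exact Subgroup.commutator_mem_commutator (mem_top _) (mem_top _)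

end Cfsg.Agent.S4218
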