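import Cfsg.Statements.S4219
import Mathlib

set_option autoImplicit false
open Cfsg

namespace Cfsg.Agent.S4219

/-- Let a finite group `G` act `t`-fold transitively on a finite set, let `H` be the stabilizer of `t` distinct points and `P` a Sylow `p`-subgroup of `H`. Then the normalizer of `P` in `G` is `t`-fold transitive on the fixed points of `P`: any `t` distinct fixed points of `P` can be carried to any other `t` distinct fixed points of `P` by an element normalizing `P`. -/
theorem result {G : Type*} [Group G] [Finite G] {α : Type*} [Fintype α] [MulAction G α] {t : ℕ} (hG : MulAction.IsMultiplyPretransitive G α t) (x : Fin t ↪ α) {p : ℕ} [Fact p.Prime] (P : Sylow p (MulAction.stabilizer G x)) (a b : Fin t ↪ α) (ha : ∀ i, a i ∈ MulAction.fixedPoints ((P : Subgroup (MulAction.stabilizer G x)).map (MulAction.stabilizer G x).subtype) α) (hb : ∀ i, b i ∈ MulAction.fixedPoints ((P : Subgroup (MulAction.stabilizer G x)).map (MulAction.stabilizer G x).subtype) α) : ∃ g ∈ Subgroup.normalizer ((((P : Subgroup (MulAction.stabilizer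 G x)).map (MulAction.stabilizer G x).subtype) : Subgroup G) : Set G), g • a = b := by
  classical
  have hGf : Finite G := inferInstance
  set Q : Subgroup G := (P : Subgroup (MulAction.stabilizer G x)).map (MulAction.stabilizer G x).subtype with hQ
  obtain ⟨g, hg⟩ := MulAction.exists_smul_eq G x a
  obtain ⟨h, hh⟩ := MulAction.exists_smul_eq G x b
  have hQa : ∀ q ∈ Q, q • a = a := fun q hq => Function.Embedding.ext fun i => by
    rw [Function.Embedding.smul_apply]; exact ha i ⟨q, hq⟩
  have hQb : ∀ q ∈ Q, q • b = b := fun q hq => Function.Embedding.ext fun i => by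
    rw [Function.Embedding.smul_apply]; exact hb i ⟨q, hq⟩
  have key : ∀ (g : G) (a : Fin t ↪ α), g • x = a → (∀ q ∈ Q, q • a = a) →
      ∃ R : Sylow p (MulAction.stabilizer G x), ∀ y : G, y ∈ (R : Subgroup (MulAction.stabilizer G x)).map (MulAction.stabilizer G x).subtype ↔ g * y * g⁻¹ ∈ Q := by
    intro g a hg hQa
    let T : Subgroup G := Q.map (MulAut.conj g⁻¹).toMonoidHom
    have hmem : ∀ y, y ∈ T ↔ g * y * g⁻¹ ∈ Q := by
      intro y
      constructor
      · rintro ⟨q, hq, rfl⟩; simpa [mul_assoc] using hq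
      · intro hy; exact ⟨g * y * g⁻¹, hy, by simp [mul_assoc]⟩
    have hTS : T ≤ (MulAction.stabilizer G x) := by
      intro y hy
      have h1 := hQa _ ((hmem y).1 hy)
      rw [← hg, mul_smul, mul_smul, inv_smul_smul] at h1
      exact MulAction.injective g h1
    have hcard : Nat.card T = Nat.card (P : Subgroup (MulAction.stabilizer G x)) := by
      rw [Nat.card_congr (Q.equivMapOfInjective _ (MulAut.conj g⁻¹).injective).symm.toEquiv, hQ,
        Nat.card_congr ((P : Subgroup (MulAction.stabilizer G x)).equivMapOfInjective _ (MulAction.stabilizer G x).subtype_injective).symm.toEquiv]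
    let R0 : Subgroup (MulAction.stabilizer G x) := T.subgroupOf (MulAction.stabilizer G x)
    have hR0c : Nat.card R0 = Nat.card (P : Subgroup (MulAction.stabilizer G x)) :=
      (Nat.card_congr (Subgroup.subgroupOfEquivOfLe hTS).toEquiv).trans hcard
    refine ⟨Sylow.ofCard R0 (by rw [hR0c, P.card_eq_multiplicity]), fun y => ?_⟩
    rw [show ((Sylow.ofCard R0 (by rw [hR0c, P.card_eq_multiplicity]) : Sylow p (MulAction.stabilizer G x)) : Subgroup (MulAction.stabilizer G x)) = R0 from rfl,
      Subgroup.map_subgroupOf_eq_of_le hTS, hmem]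
  obtain ⟨A, hA⟩ := key g a hg hQa
  obtain ⟨B, hB⟩ := key h b hh hQb
  obtain ⟨k, hk⟩ := MulAction.exists_smul_eq (MulAction.stabilizer G x) A B
  refine ⟨h * (k : G) * g⁻¹, ?_, ?_⟩
  · rw [Subgroup.mem_normalizer_iff]
    intro q
    have hAB : ∀ y : G, y ∈ (A : Subgroup (MulAction.stabilizer G x)).map (MulAction.stabilizer G x).subtype ↔
        (k : G) * y * (k : G)⁻¹ ∈ (B : Subgroup (MulAction.stabilizer G x)).map (MulAction.stabilizer G x).subtype := by
      intro y
      rw [← hk, Sylow.coe_subgroup_smul]
      constructor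
      · rintro ⟨z, hz, rfl⟩
        exact ⟨k * z * k⁻¹, ⟨z, hz, rfl⟩, by simp⟩
      · rintro ⟨z, ⟨w, hw, rfl⟩, hz⟩
        refine ⟨w, hw, ?_⟩
        simpa using congrArg (fun t => (k : G)⁻¹ * t * (k : G)) hz
    have h1 := hA (g⁻¹ * q * g)
    rw [show g * (g⁻¹ * q * g) * g⁻¹ = q by group] at h1
    rw [← h1, hAB, hB]
    constructor <;> intro h2 <;> simpa [mul_assoc] using h2
  · rw [mul_smul, mul_smul, ← hg, inv_smul_smul,
      show (k : G) • x = x from k.2, hh]

end Cfsg.Agent.S4219
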