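import Cfsg.Statements.S4222

set_option autoImplicit false
open Cfsg

namespace Cfsg.Agent.S4222

/-- If a normal subgroup `N` of a finite group is complete (its centre is trivial and every automorphism of `N` is inner), then the group is the internal direct product of `N` and the centralizer of `N`: the centralizer is a complement to `N`. -/
theorem result {T : Type*} [Group T] [Finite T] (N : Subgroup T) [N.Normal] (hz : Subgroup.center ↥N = ⊥) (ha : Function.Surjective (MulAut.conj : ↥N →* MulAut ↥N)) : (Subgroup.centralizer (N : Set T)).IsComplement' N := by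
  apply Subgroup.isComplement'_of_disjoint_and_mul_eq_univ
  · rw [disjoint_iff, eq_bot_iff]
    rintro x ⟨hc, hn⟩
    have : (⟨x, hn⟩ : N) ∈ Subgroup.center N := by
      rw [Subgroup.mem_center_iff]
      intro y
      apply Subtype.ext
      exact Subgroup.mem_centralizer_iff.1 hc y y.2
    rw [hz, Subgroup.mem_bot] at this
    simpa using congrArg Subtype.val this
  · ext t
    simp only [Set.mem_univ, iff_true]
    obtain ⟨n, hn⟩ := ha (MulAut.conjNormal (H := N) t)
    refine Set.mem_mul.2 ⟨t * (n : T)⁻¹, ?_, n, n.2, by group⟩
    rw [SetLike.mem_coe, Subgroup.mem_centralizer_iff]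
    intro y hy
    have := congrArg (fun α : MulAut N => ((α (MulAut.conj n⁻¹ ⟨y, hy⟩)) : T)) hn
    simp [MulAut.conjNormal_apply, MulAut.conj_apply, mul_assoc] at this
    calc y * (t * (n : T)⁻¹) = (t * ((n : T)⁻¹ * (y * (n * t⁻¹)))) * (t * (n : T)⁻¹) := by rw [← this]
      _ = t * (n : T)⁻¹ * y := by group

end Cfsg.Agent.S4222
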