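import Cfsg.Statements.S4225
import Cfsg.Agent.Lib.Solv.Regular

set_option autoImplicit false
open scoped Pointwise
open Cfsg

namespace Cfsg.Agent.S4225

/-- In a regular `p`-group, for every `k` the elements whose `p^k`-th power is `1` form a characteristic subgroup. -/
theorem result {G : Type*} [Group G] [Finite G] {p : ℕ} [Fact p.Prime] (hG : Cfsg.IsRegularPGroup p G) (k : ℕ) : ∃ H : Subgroup G, H.Characteristic ∧ (H : Set G) = {x : G | x ^ p ^ k = 1} := by
  have hw := Cfsg.Agent.Solv.Reg.weak_of_regular hG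
  let H : Subgroup G :=
    { carrier := {x : G | x ^ p ^ k = 1}
      mul_mem' := fun {x y} hx hy => by
        have := (Cfsg.Agent.Solv.Reg.pow_eq_iff k hw x⁻¹ y).1
          (by rw [inv_pow, hx, inv_one]; exact hy.symm)
        rwa [inv_inv] at this
      one_mem' := one_pow _
      inv_mem' := fun {x} hx => by
        show _ ^ p ^ k = 1
        rw [inv_pow, hx, inv_one] }
  refine ⟨H, Subgroup.characteristic_iff_comap_eq.2 fun φ => ?_, rfl⟩
  ext x
  show (φ x) ^ p ^ k = 1 ↔ x ^ p ^ k = 1
  rw [← map_pow, map_eq_one_iff _ φ.injective]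

end Cfsg.Agent.S4225
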