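import Cfsg.Statements.S4227
import Cfsg.Agent.Lib.Solv.ExponentSix
import Cfsg.Agent.Lib.Char.Burnside

set_option autoImplicit false
open scoped Pointwise
open Cfsg

namespace Cfsg.Agent.S4227

/-- A finite group in which every element has order dividing `6` has `2`-length at most `1` and `3`-length at most `1`. -/
theorem result {G : Type*} [Group G] [Finite G] (h : ∀ x : G, x ^ 6 = 1) : Cfsg.PLengthLE 2 1 G ∧ Cfsg.PLengthLE 3 1 G := by
  open Subgroup in
  haveI : Fact (Nat.Prime 2) := ⟨Nat.prime_two⟩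
  haveI : Fact (Nat.Prime 3) := ⟨Nat.prime_three⟩
  have hexp : ∀ (r : ℕ) [Fact r.Prime] (m : ℕ), r * m = 6 → ¬ r ∣ m → ∀ {K : Type _} [Group K] [Finite K],
      IsPGroup r K → (∀ y : K, y ^ 6 = 1) → ∀ y : K, y ^ r = 1 := by
    intro r _ m hr hrm K _ _ hK h6 y
    obtain ⟨k, hk⟩ := IsPGroup.iff_orderOf.1 hK y
    refine orderOf_dvd_iff_pow_eq_one.1 ?_
    have hc : Nat.Coprime (orderOf y) m := by
      rw [hk]; exact Nat.Coprime.pow_left k ((Nat.Prime.coprime_iff_not_dvd Fact.out).2 hrm)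
    exact hc.dvd_of_dvd_mul_right (hr.symm ▸ orderOf_dvd_of_pow_eq_one (h6 y))
  have hprimes : ∀ q : ℕ, q.Prime → q ∣ Nat.card G → q = 2 ∨ q = 3 := by
    intro q hq hd
    haveI := Fact.mk hq
    obtain ⟨x, hx⟩ := exists_prime_orderOf_dvd_card' q hd
    have h1 : q ∣ 6 := hx ▸ orderOf_dvd_of_pow_eq_one (h x)
    have := Nat.le_of_dvd (by norm_num) h1
    interval_cases q <;> simp_all (config := { decide := true })
  obtain ⟨T⟩ : Nonempty (Sylow 2 G) := inferInstance
  have hTc : IsMulCommutative T := by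
    have h2 := hexp 2 3 rfl (by norm_num) T.isPGroup' (fun y => Subtype.ext (by simpa using h (y : G)))
    refine ⟨⟨fun a b => ?_⟩⟩
    have hab := h2 (a * b)
    have hinv : ∀ y : ↥(T : Subgroup G), y⁻¹ = y := fun y => inv_eq_of_mul_eq_one_right (by rw [← sq, h2])
    calc a * b = (a * b)⁻¹ := (hinv _).symm
      _ = b * a := by rw [mul_inv_rev, hinv, hinv]
  have hsolG : Group.IsSolvable G := by
    obtain ⟨a, ha⟩ := IsPGroup.iff_card.1 T.isPGroup'
    have hidx : ∃ j, (T : Subgroup G).index = 3 ^ j :=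
      ⟨_, Nat.eq_prime_pow_of_unique_prime_dvd index_ne_zero_of_finite fun {q} hq hd => by
        rcases hprimes q hq (hd.trans (index_dvd_card _)) with h2 | h3
        · exact absurd (h2 ▸ hd) T.not_dvd_index
        · exact h3⟩
    obtain ⟨j, hj⟩ := hidx
    exact Cfsg.Agent.Char.solvable_of_card_prime_pow_mul 2 3 Nat.prime_two Nat.prime_three _ G rfl
      ⟨a, j, ((T : Subgroup G).card_mul_index).symm.trans (by rw [ha, hj])⟩
  refine ⟨?_, ?_⟩
  · refine Cfsg.Agent.Solv.pLengthLE_mono (Cfsg.Agent.Solv.pLengthLE_nilpotencyClass (Cfsg.Agent.Solv.isPSolvable_of_isSolvable (p := 2)) T) ?_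
    haveI := T.isPGroup'.isNilpotent
    refine Subgroup.lowerCentralSeries_eq_bot_iff_nilpotencyClass_le.1 ?_
    rw [Subgroup.top_lowerCentralSeries_one, _root_.commutator_def, commutator_eq_bot_iff_le_centralizer]
    exact fun y _ => mem_centralizer_iff.2 fun z _ => mul_comm' z y
  -- three-length
  refine Cfsg.Agent.Solv.pLengthLE_of_quotient_pPrimeCore (Cfsg.pPrimeCore 3 G)
    (Cfsg.Agent.Solv.card_pPrimeCore_coprime 3 G) ?_
  have hO : Cfsg.pPrimeCore 3 (G ⧸ Cfsg.pPrimeCore 3 G) = ⊥ := Cfsg.Agent.Solv.pPrimeCore_quotient_pPrimeCore 3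
  have h6 : ∀ x : G ⧸ Cfsg.pPrimeCore 3 G, x ^ 6 = 1 := fun x => by
    obtain ⟨y, rfl⟩ := QuotientGroup.mk'_surjective _ x
    rw [← map_pow, h, map_one]
  have hfree : ¬ Cfsg.Agent.Solv.Quad.InvSL 3 (G ⧸ Cfsg.pPrimeCore 3 G) := fun hi =>
    (Cfsg.Agent.Solv.Quad.InvSL.of_surjective (QuotientGroup.mk' _) (QuotientGroup.mk'_surjective _) hi).not_comm_sylow
      (by norm_num) T hTc
  exact Cfsg.Agent.Solv.ExpSix.pLengthLE_one h6
    (Cfsg.Agent.Solv.isPSolvable_quotient (Cfsg.Agent.Solv.isPSolvable_of_isSolvable (p := 3)) _) hO hfree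

end Cfsg.Agent.S4227
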