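import Cfsg.Statements.S4230
import Mathlib

set_option autoImplicit false
open Cfsg

namespace Cfsg.Agent.S4230

/-- Let p be an odd prime, q a natural number not divisible by p, and e the multiplicative order of q modulo p. For a natural number f, p divides the value at q of the f-th cyclotomic polynomial if and only if f = e·p^j for some j ≥ 0. -/
theorem result (p q f : ℕ) (hp : p.Prime) (hp2 : p ≠ 2) (hpq : ¬ p ∣ q) :
    ((p : ℤ) ∣ (Polynomial.cyclotomic f ℤ).eval (q : ℤ)) ↔ ∃ j : ℕ, f = orderOf (q : ZMod p) * p ^ j := by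
  have : Fact p.Prime := ⟨hp⟩
  have hq0 : (q : ZMod p) ≠ 0 := by rwa [ne_eq, ZMod.natCast_eq_zero_iff] 
  rw [← ZMod.intCast_zmod_eq_zero_iff_dvd]
  have heval : (((Polynomial.cyclotomic f ℤ).eval (q : ℤ) : ℤ) : ZMod p) =
      (Polynomial.cyclotomic f (ZMod p)).eval (q : ZMod p) := by
    rw [← Polynomial.map_cyclotomic f (Int.castRingHom (ZMod p)), Polynomial.eval_natCast_map]
    simp
  rw [heval]
  rcases Nat.eq_zero_or_pos f with rfl | hf
  · simp only [Polynomial.cyclotomic_zero, Polynomial.eval_one, one_ne_zero, false_iff, not_exists]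
    intro j h
    have h1 : orderOf (q : ZMod p) ≠ 0 := by
      have h2 : orderOf (q : ZMod p) = orderOf (Units.mk0 _ hq0) := orderOf_units (y := Units.mk0 _ hq0)
      rw [h2]; exact (orderOf_pos _).ne'
    exact (Nat.mul_ne_zero h1 (pow_ne_zero j hp.ne_zero)) h.symm
  obtain ⟨k, m, hm, rfl⟩ := Nat.exists_eq_pow_mul_and_not_dvd hf.ne' p hp.ne_one
  have : NeZero (m : ZMod p) := ⟨by rwa [ne_eq, ZMod.natCast_eq_zero_iff]⟩
  rw [← Polynomial.IsRoot.def, Polynomial.isRoot_cyclotomic_prime_pow_mul_iff_of_charP]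
  constructor
  · intro h
    exact ⟨k, by rw [← h.eq_orderOf, mul_comm]⟩
  · rintro ⟨j, hj⟩
    have hd : orderOf (q : ZMod p) ∣ p - 1 := ZMod.orderOf_dvd_card_sub_one hq0
    have hcop : (orderOf (q : ZMod p)).Coprime p :=
      Nat.Coprime.coprime_dvd_left hd
        ((hp.coprime_iff_not_dvd.2 fun h => by
          have h3 := Nat.le_of_dvd (show 0 < p - 1 by have := hp.two_le; omega) h
          have := hp.two_le
          omega).symm)
    have hmp : m.Coprime p := (hp.coprime_iff_not_dvd.2 hm).symm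
    have h1 : m ∣ orderOf (q : ZMod p) :=
      (hmp.pow_right j).dvd_of_dvd_mul_right (hj ▸ Dvd.intro_left _ rfl)
    have h2 : orderOf (q : ZMod p) ∣ m :=
      (hcop.pow_right k).dvd_of_dvd_mul_left (hj ▸ Dvd.intro _ rfl)
    rw [Nat.dvd_antisymm h1 h2]
    exact IsPrimitiveRoot.orderOf _

end Cfsg.Agent.S4230
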