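import Cfsg.Statements.S4231
import Cfsg.Agent.Lib.Perm.AltSixAut

set_option autoImplicit false
open Cfsg

namespace Cfsg.Agent.S4231

/-- Let n ≥ 5 and let G be a group of automorphisms of the alternating group of degree n containing all inner automorphisms. If p ≠ q are primes and G has no element of order pq, then every Sylow p-subgroup of G is abelian or every Sylow q-subgroup of G is abelian. -/
theorem result (n : ℕ) (hn : 5 ≤ n) (G : Subgroup (MulAut (alternatingGroup (Fin n))))
    (hG : (MulAut.conj : alternatingGroup (Fin n) →* MulAut (alternatingGroup (Fin n))).range ≤ G)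
    (p q : ℕ) [Fact p.Prime] [Fact q.Prime] (hpq : p ≠ q) (h : ∀ g : G, orderOf g ≠ p * q) :
    (∀ P : Sylow p G, IsMulCommutative (P : Subgroup G)) ∨ (∀ Q : Sylow q G, IsMulCommutative (Q : Subgroup G)) := by
  classical
  have h4 : 4 ≤ Nat.card (Fin n) := by rw [Nat.card_fin]; omega
  -- an even permutation of order `p * q` gives an element of `G`
  have bad : ∀ {r : ℕ} (m : Multiset ℕ), m.sum ≤ n → (∀ a ∈ m, 2 ≤ a) → Even (m.sum + Multiset.card m) →
      m.lcm = r → ∃ g : G, orderOf g = r := by
    intro r m hm h2 hev hl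
    obtain ⟨π, hπ⟩ := (Equiv.Perm.exists_with_cycleType_iff (α := Fin n) (m := m)).mpr
      ⟨by rw [Fintype.card_fin]; exact hm, h2⟩
    have hmem : π ∈ alternatingGroup (Fin n) := by
      rw [Equiv.Perm.mem_alternatingGroup, Equiv.Perm.sign_of_cycleType, hπ, hev.neg_one_pow]
    refine ⟨⟨MulAut.conj ⟨π, hmem⟩, hG ⟨_, rfl⟩⟩, ?_⟩
    have hinj : Function.Injective (MulAut.conj : alternatingGroup (Fin n) →* MulAut (alternatingGroup (Fin n))) := by
      rw [← MonoidHom.ker_eq_bot_iff, eq_bot_iff, ← alternatingGroup.center_eq_bot h4]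
      intro a ha
      rw [Subgroup.mem_center_iff]
      intro b
      have := congrArg (fun ψ : MulAut (alternatingGroup (Fin n)) => ψ b) (MonoidHom.mem_ker.mp ha)
      simp only [MulAut.conj_apply, MulAut.one_apply] at this
      exact (mul_inv_eq_iff_eq_mul.mp this).symm
    rw [← Subgroup.orderOf_coe, orderOf_injective _ hinj, ← Subgroup.orderOf_coe, ← Equiv.Perm.lcm_cycleType]
    show (Equiv.Perm.cycleType π).lcm = r
    rw [hπ, hl]
  -- a Sylow subgroup for an odd prime is induced by permutations
  have small : ∀ (r : ℕ) [Fact r.Prime], r ≠ 2 → (n < 3 * (r - 1) ∨ (r = 3 ∧ n ≤ 6)) →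
      ∀ P : Sylow r G, IsMulCommutative (P : Subgroup G) := by
    intro r hr hr2 hn' P
    have hodd : ∀ x ∈ (P : Subgroup G), ∃ e, Odd e ∧ (x : MulAut (alternatingGroup (Fin n))) ^ e = 1 := by
      intro x hx
      obtain ⟨k, hk⟩ := P.isPGroup' ⟨x, hx⟩
      refine ⟨r ^ k, (hr.out.odd_of_ne_two hr2).pow, ?_⟩
      exact congrArg Subtype.val (congrArg Subtype.val hk)
    have hle : (P : Subgroup G).map G.subtype ≤
        (MulAut.conjNormal : Equiv.Perm (Fin n) →* MulAut (alternatingGroup (Fin n))).range := by
      rintro _ ⟨x, hx, rfl⟩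
      by_cases h6 : n = 6
      · subst h6
        obtain ⟨e, he, he'⟩ := hodd x hx
        obtain ⟨π, hπ⟩ := Cfsg.Agent.Perm.exists_perm_of_maps_three_cycles (by simp) (x : MulAut _)
          (Cfsg.Agent.Perm.maps_three_cycles_of_odd _ he he')
        exact ⟨π, hπ⟩
      · exact (Cfsg.Agent.Perm.conjNormal_alternating_bijective (by rw [Fintype.card_fin]; omega)
          (by rw [Fintype.card_fin]; exact h6)).2 _
    have hdvd : Nat.card (P : Subgroup G) ∣ n.factorial := by
      have h1 := Subgroup.card_dvd_of_le hle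
      rw [Subgroup.card_map_of_injective G.subtype_injective] at h1
      refine h1.trans ((Subgroup.card_range_dvd _).trans ?_)
      rw [Nat.card_eq_fintype_card, Fintype.card_perm, Fintype.card_fin]
    obtain ⟨k, hk⟩ := P.isPGroup'.exists_card_eq
    rw [hk] at hdvd
    have hk2 : k ≤ 2 := by
      by_contra hk3
      have h3 : r ^ 3 ∣ n.factorial := (pow_dvd_pow r (by omega)).trans hdvd
      rcases hn' with hn' | ⟨rfl, hn'⟩
      · have h1 := (padicValNat_dvd_iff_le (Nat.factorial_ne_zero n)).mp h3
        have h2 := sub_one_mul_padicValNat_factorial (p := r) n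
        have h4' : (r - 1) * 3 ≤ (r - 1) * padicValNat r n.factorial := Nat.mul_le_mul_left _ h1
        have : n - (r.digits n).sum ≤ n := Nat.sub_le _ _
        omega
      · have h1 := h3.trans (Nat.factorial_dvd_factorial hn')
        norm_num [Nat.factorial] at h1
    refine ⟨⟨fun a b => ?_⟩⟩
    interval_cases k
    · haveI : Subsingleton (P : Subgroup G) := (Nat.card_eq_one_iff_unique.mp (hk.trans (pow_zero r))).1
      exact Subsingleton.elim _ _
    · haveI : IsCyclic ↥(P : Subgroup G) := isCyclic_of_prime_card (p := r) (hk.trans (pow_one r))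
      obtain ⟨c, hc⟩ := IsCyclic.exists_generator (α := ↥(P : Subgroup G))
      obtain ⟨i, rfl⟩ := Subgroup.mem_zpowers_iff.mp (hc a)
      obtain ⟨j, rfl⟩ := Subgroup.mem_zpowers_iff.mp (hc b)
      rw [← zpow_add, ← zpow_add, add_comm]
    · exact IsPGroup.commutative_of_card_eq_prime_sq hk a b
  -- the two cases
  have odd_case : ∀ (a b : ℕ) [Fact a.Prime] [Fact b.Prime], a ≠ 2 → b ≠ 2 → a < b → (∀ g : G, orderOf g ≠ a * b) →
      ∀ P : Sylow b G, IsMulCommutative (P : Subgroup G) := by
    intro a b ha hb ha2 hb2 hab hno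
    refine small b hb2 (Or.inl ?_)
    by_contra hlt
    have hoa : Odd a := ha.out.odd_of_ne_two ha2
    have hob : Odd b := hb.out.odd_of_ne_two hb2
    have := hb.out.two_le
    obtain ⟨g, hg⟩ := bad (r := a * b) {a, b} (by simp; omega)
      (by intro c hc; simp at hc; rcases hc with rfl | rfl; exacts [ha.out.two_le, hb.out.two_le])
      (by simp only [Multiset.insert_eq_cons, Multiset.sum_cons, Multiset.sum_singleton, Multiset.card_cons,
            Multiset.card_singleton]; exact (hoa.add_odd hob).add (by decide))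
      (by simp only [Multiset.insert_eq_cons, Multiset.lcm_cons, Multiset.lcm_singleton, normalize_eq]
          exact ((Nat.coprime_primes ha.out hb.out).mpr (by omega)).lcm_eq_mul)
    exact hno g hg
  have two_case : ∀ (b : ℕ) [Fact b.Prime], b ≠ 2 → (∀ g : G, orderOf g ≠ 2 * b) →
      ∀ P : Sylow b G, IsMulCommutative (P : Subgroup G) := by
    intro b hb hb2 hno
    have hlt : n < b + 4 := by
      by_contra hge
      have hob : Odd b := hb.out.odd_of_ne_two hb2
      obtain ⟨g, hg⟩ := bad (r := 2 * b) {2, 2, b} (by simp; omega)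
        (by intro c hc; simp at hc; rcases hc with rfl | rfl; exacts [le_rfl, hb.out.two_le])
        (by obtain ⟨c, rfl⟩ := hob
            simp only [Multiset.insert_eq_cons, Multiset.sum_cons, Multiset.sum_singleton, Multiset.card_cons,
              Multiset.card_singleton]
            exact ⟨c + 4, by omega⟩)
        (by simp only [Multiset.insert_eq_cons, Multiset.lcm_cons, Multiset.lcm_singleton, normalize_eq]
            show Nat.lcm 2 (Nat.lcm 2 b) = 2 * b
            rw [← Nat.lcm_assoc, Nat.lcm_self]
            exact ((Nat.coprime_primes Nat.prime_two hb.out).mpr (Ne.symm hb2)).lcm_eq_mul)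
      exact hno g hg
    refine small b hb2 ?_
    have := hb.out.two_le
    by_cases h3 : b = 3
    · exact Or.inr ⟨h3, by omega⟩
    · have : b ≠ 4 := fun e => by have := hb.out; rw [e] at this; norm_num at this
      exact Or.inl (by omega)
  have hp' := Fact.out (p := p.Prime)
  have hq' := Fact.out (p := q.Prime)
  by_cases hp2 : p = 2
  · subst hp2
    exact Or.inr (two_case q (Ne.symm hpq) h)
  by_cases hq2 : q = 2
  · subst hq2
    exact Or.inl (two_case p hp2 fun g => by rw [mul_comm]; exact h g)
  rcases lt_or_gt_of_ne hpq with hlt | hlt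
  · exact Or.inr (odd_case p q hp2 hq2 hlt h)
  · exact Or.inl (odd_case q p hq2 hp2 hlt fun g => by rw [mul_comm]; exact h g)

end Cfsg.Agent.S4231
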