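import Cfsg.Statements.S4236
import Mathlib
import Cfsg.Agent.Lib.Perm.TwoPrimeDegree

set_option autoImplicit false
open Cfsg

namespace Cfsg.Agent.S4236

/-- No finite group has exactly 35 Sylow 17-subgroups. -/
theorem result {G : Type*} [Group G] [Finite G] : Nat.card (Sylow 17 G) ≠ 35 := by
  intro hn
  have : Fact (Nat.Prime 17) := ⟨by norm_num⟩
  have : Fact (Nat.Prime 5) := ⟨by norm_num⟩
  obtain ⟨M, _, _, hnM, ⟨k, hkodd, hk16, hcard⟩, hP⟩ :=
    Perm.two_prime_degree_reduction (p := 17) (by norm_num) G hn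
  have hk : k = 1 := by
    obtain ⟨i, -, rfl⟩ := (Nat.dvd_prime_pow Nat.prime_two).1 (show k ∣ 2 ^ 4 from hk16)
    rcases Nat.eq_zero_or_pos i with rfl | h
    · rfl
    · exact absurd hkodd (Nat.not_odd_iff_even.2 ((Nat.even_pow).2 ⟨even_two, h.ne'⟩))
  subst hk
  obtain ⟨Q⟩ := Sylow.nonempty (p := 5) (G := M)
  have hQ : Nat.card (Q : Subgroup M) = 5 := by
    have h1 := Sylow.card_eq_multiplicity Q
    rw [h1, hcard, show ((2 * 17 + 1) * (17 * 1) : ℕ) = 5 ^ 1 * 119 by norm_num,
      Nat.factorization_mul (by norm_num) (by norm_num)]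
    simp [Nat.Prime.factorization_self (show Nat.Prime 5 by norm_num),
      Nat.factorization_eq_zero_of_not_dvd (show ¬ 5 ∣ 119 by norm_num)]
  have hi : (Q : Subgroup M).index = 119 := by
    have h1 := (Q : Subgroup M).card_mul_index
    rw [hQ, hcard] at h1
    omega
  have hd : Nat.card (Sylow 5 M) ∣ 119 := hi ▸ Q.card_dvd_index
  have hmod := card_sylow_modEq_one 5 M
  have hs : Nat.card (Sylow 5 M) = 1 := by
    have := Nat.mem_divisors.2 ⟨hd, by norm_num⟩
    rw [show Nat.divisors 119 = {1, 7, 17, 119} by decide] at this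
    simp only [Finset.mem_insert, Finset.mem_singleton] at this
    rcases this with e | e | e | e <;> simp_all [Nat.ModEq]
  have : Subsingleton (Sylow 5 M) := (Nat.card_eq_one_iff_unique.1 hs).1
  have hQn : (Q : Subgroup M).Normal := Q.normal_of_subsingleton
  obtain ⟨P⟩ := Sylow.nonempty (p := 17) (G := M)
  have hcyc : IsCyclic (Q : Subgroup M) := isCyclic_of_prime_card hQ
  let φ := (MulAut.conjNormal (H := (Q : Subgroup M))).comp (P : Subgroup M).subtype
  have hφ : φ.range = ⊥ := by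
    rw [← Subgroup.card_eq_one]
    have h1 : Nat.card φ.range ∣ 17 := (Subgroup.card_range_dvd φ).trans (dvd_of_eq (hP P).1)
    have h2 : Nat.card φ.range ∣ 4 := by
      have h3 : Nat.card (MulAut (Q : Subgroup M)) = 4 := by
        rw [IsCyclic.card_mulAut, hQ, Nat.totient_prime (by norm_num)]
      exact h3 ▸ φ.range.card_subgroup_dvd_card
    exact Nat.dvd_one.1 (Nat.dvd_gcd h1 h2)
  have hle : (Q : Subgroup M) ≤ (P : Subgroup M) := fun q hq =>
    (hP P).2 (Subgroup.mem_centralizer_iff.2 fun x hx => by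
      have h1 : φ ⟨x, hx⟩ = 1 := by
        have h4 : φ ⟨x, hx⟩ ∈ φ.range := ⟨_, rfl⟩
        rwa [hφ, Subgroup.mem_bot] at h4
      have h2 := congrArg (fun e : MulAut (Q : Subgroup M) => ((e ⟨q, hq⟩ : (Q : Subgroup M)) : M)) h1
      simp only [φ, MonoidHom.comp_apply, Subgroup.subtype_apply, MulAut.conjNormal_apply,
        MulAut.one_apply] at h2
      exact mul_inv_eq_iff_eq_mul.1 h2)
  have := Subgroup.card_dvd_of_le hle
  rw [hQ, (hP P).1] at this
  omega

end Cfsg.Agent.S4236
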