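import Cfsg.Statements.S4238
import Cfsg.Agent.Lib.Solv.NormalPComplement
import Cfsg.Agent.Lib.Solv.AbelianAction
import Cfsg.Agent.Lib.Solv.StructMisc
import Cfsg.Agent.Lib.Struct.CoprimeMinimal
import Cfsg.Agent.Lib.Solv.Coprime

set_option autoImplicit false
open scoped Pointwise
open scoped commutatorElement
open scoped Pointwise commutatorElement
open Cfsg

namespace Cfsg.Agent.S4238

/-- Let G be a finite group and p a prime. Then G has a normal p-complement if and only if every section K = H/N of G (N a normal subgroup of a subgroup H) whose largest normal subgroup of order prime to p is trivial contains an element whose order equals the exponent of K. -/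
theorem result {G : Type*} [Group G] [Finite G] (p : ℕ) [Fact p.Prime] :
    Cfsg.HasNormalPComplement p G ↔
      ∀ (H : Subgroup G) (N : Subgroup H) [N.Normal], Cfsg.pPrimeCore p (H ⧸ N) = ⊥ →
        ∃ k : H ⧸ N, orderOf k = Monoid.exponent (H ⧸ N) := by
  open Subgroup Cfsg.Agent in
  have hp := (Fact.out : p.Prime)
  constructor
  · intro h H N _ hO
    classical
    have hK : Cfsg.HasNormalPComplement p (H ⧸ N) :=
      Solv.hasNormalPComplement_of_surjective (QuotientGroup.mk' N) (QuotientGroup.mk'_surjective N) (Solv.hasNormalPComplement_subgroup h H)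
    obtain ⟨n, hn⟩ := Solv.hasNormalPComplement_iff_index.1 hK
    rw [hO, index_bot] at hn
    have hK' : IsPGroup p (H ⧸ N) := IsPGroup.of_card hn
    obtain ⟨j, -, hj⟩ := (Nat.dvd_prime_pow hp).1 (hn ▸ Group.exponent_dvd_nat_card : Monoid.exponent (H ⧸ N) ∣ p ^ n)
    rcases Nat.eq_zero_or_pos j with rfl | hj0
    · exact ⟨1, by rw [orderOf_one, hj, pow_zero]⟩
    obtain ⟨x, hx⟩ : ∃ x : H ⧸ N, x ^ p ^ (j - 1) ≠ 1 := by
      by_contra hc
      push Not at hc
      have := Monoid.exponent_dvd_of_forall_pow_eq_one hc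
      rw [hj, Nat.pow_dvd_pow_iff_le_right hp.one_lt] at this
      omega
    refine ⟨x, ?_⟩
    rw [hj, show j = j - 1 + 1 by omega]
    exact orderOf_eq_prime_pow hx (by rw [show j - 1 + 1 = j by omega, ← hj, Monoid.pow_exponent_eq_one])
  intro h
  refine Solv.FrobeniusCond.hasNormalPComplement fun Q hQ g hgn hgo => ?_
  by_contra hgc
  -- a minimal bad subgroup with a minimal `q`-element
  let bad : Subgroup G → Prop := fun Q => IsPGroup p Q ∧ ∃ (g : G) (q : ℕ), q.Prime ∧ q ≠ p ∧ (∃ k, orderOf g = q ^ k) ∧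
    g ∈ normalizer (Q : Set G) ∧ g ∉ centralizer (Q : Set G) ∧ g ^ q ∈ centralizer (Q : Set G)
  have hbad : bad Q := by
    refine ⟨hQ, ?_⟩
    obtain ⟨q, R, hq, hR, hRg, hRc⟩ : ∃ (q : ℕ) (R : Subgroup G), q.Prime ∧ IsPGroup q R ∧ R ≤ zpowers g ∧ ¬ R ≤ centralizer (Q : Set G) := by
      by_contra hno
      push Not at hno
      exact hgc (((Solv.sup_sylow_eq (zpowers g)).trans (sSup_le fun R ⟨q, hq, hR, hRg⟩ => hno q R hq hR hRg)) (mem_zpowers g))
    obtain ⟨y, hyR, hyc⟩ := SetLike.not_le_iff_exists.1 hRc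
    haveI : Fact q.Prime := ⟨hq⟩
    obtain ⟨k, hk⟩ := IsPGroup.iff_orderOf.1 hR ⟨y, hyR⟩
    rw [Subgroup.orderOf_mk] at hk
    have hd : orderOf y ∣ orderOf g := orderOf_dvd_of_mem_zpowers (hRg hyR)
    classical
    have hex : ∃ i, y ^ q ^ i ∈ centralizer (Q : Set G) := ⟨k, by rw [← hk, pow_orderOf_eq_one]; exact one_mem _⟩
    have h0 : Nat.find hex ≠ 0 := fun e => hyc (by simpa [e] using Nat.find_spec hex)
    refine ⟨y ^ q ^ (Nat.find hex - 1), q, hq, ?_, ?_, pow_mem (zpowers_le.2 hgn (hRg hyR)) _, Nat.find_min hex (by omega), ?_⟩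
    · rintro rfl
      refine hyc ?_
      have : orderOf y = 1 := Nat.eq_one_of_dvd_coprimes (hgo.pow_right k) hd (by rw [hk])
      rw [orderOf_eq_one_iff.1 this]
      exact one_mem _
    · have hd' := orderOf_pow_dvd (x := y) (q ^ (Nat.find hex - 1))
      rw [hk] at hd'
      obtain ⟨i, -, hi⟩ := (Nat.dvd_prime_pow hq).1 hd'
      exact ⟨i, hi⟩
    · rw [← pow_mul, ← pow_succ, show Nat.find hex - 1 + 1 = Nat.find hex by omega]
      exact Nat.find_spec hex
  obtain ⟨Q, ⟨hQ, g, q, hq, hqp, ⟨k, hk⟩, hgn, hgc, hgq⟩, hmin⟩ := (Set.toFinite {Q | bad Q}).exists_minimal ⟨Q, hbad⟩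
  haveI : Fact q.Prime := ⟨hq⟩
  haveI := hQ.isNilpotent
  have hgn' : zpowers g ≤ normalizer (Q : Set G) := zpowers_le.2 hgn
  have hcopG : (Nat.card (zpowers g)).Coprime (Nat.card Q) := by
    obtain ⟨i, hi⟩ := IsPGroup.iff_card.1 hQ
    rw [Nat.card_zpowers, hk, hi]
    exact ((Nat.coprime_primes hq hp).2 hqp).pow _ _
  have hQg : ⁅Q, zpowers g⁆ = Q := by
    refine le_antisymm (Solv.commutator_normalizer_le _ _ hgn') ?_
    by_contra hle
    set Q₁ := ⁅Q, zpowers g⁆ with hQ₁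
    have hle' : Q₁ ≤ Q := Solv.commutator_normalizer_le _ _ hgn'
    have h0 : ⁅Q₁, zpowers g⁆ = ⊥ := by
      rw [commutator_comm, commutator_eq_bot_iff_le_centralizer, zpowers_le]
      by_contra hc
      refine hle (hmin ⟨hQ.to_le hle', g, q, hq, hqp, ⟨k, hk⟩, ?_, hc, centralizer_le hle' hgq⟩ hle')
      exact (le_inf hgn' le_normalizer).trans (Solv.normalizer_le_normalizer_commutator Q (zpowers g)) (mem_zpowers g)
    have := Solv.commutator_eq_bot_of_commutator_commutator_eq_bot (zpowers g) Q hgn' hcopG (Or.inl inferInstance) h0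
    rw [commutator_comm, commutator_eq_bot_iff_le_centralizer, zpowers_le] at this
    exact hgc this
  -- the section
  set H := Q ⊔ zpowers g
  have hgH : g ∈ H := mem_sup_right (mem_zpowers g)
  set Φ := (frattini Q).map Q.subtype
  set N₀ := Φ ⊔ zpowers (g ^ q)
  have hN₀H : N₀ ≤ H := sup_le ((map_subtype_le _).trans le_sup_left) (zpowers_le.2 (pow_mem hgH q))
  have hQnΦ : Q ≤ normalizer (Φ : Set G) := by
    refine Solv.le_normalizer_of_conj_mem fun a ha x hx => ?_
    obtain ⟨y, hy, rfl⟩ := hx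
    exact ⟨⟨a, ha⟩ * y * ⟨a, ha⟩⁻¹, Normal.conj_mem inferInstance y hy _, rfl⟩
  have hgnΦ : zpowers g ≤ normalizer (Φ : Set G) := by
    refine Solv.le_normalizer_of_conj_mem fun a ha x hx => ?_
    obtain ⟨y, hy, rfl⟩ := hx
    exact ⟨(normalizerMonoidHom Q ⟨a, hgn' ha⟩) y, Subgroup.characteristic_iff_le_comap.1 inferInstance _ hy, rfl⟩
  haveI hNn : (N₀.subgroupOf H).Normal := by
    refine (normal_subgroupOf_iff_le_normalizer hN₀H).2 (sup_le ?_ ?_)
    · refine Solv.le_normalizer_of_conj_mem fun a ha x hx => ?_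
      have : N₀ ≤ N₀.comap (MulAut.conj a).toMonoidHom := by
        refine sup_le (fun z hz => mem_sup_left ((mem_normalizer_iff.1 (hQnΦ ha) z).1 hz)) (zpowers_le.2 ?_)
        show a * g ^ q * a⁻¹ ∈ N₀
        rw [mem_centralizer_iff.1 hgq a ha, mul_inv_cancel_right]
        exact mem_sup_right (mem_zpowers _)
      exact this hx
    · refine Solv.le_normalizer_of_conj_mem fun a ha x hx => ?_
      obtain ⟨i, rfl⟩ := mem_zpowers_iff.1 ha
      have : N₀ ≤ N₀.comap (MulAut.conj (g ^ i)).toMonoidHom := by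
        refine sup_le (fun z hz => mem_sup_left ((mem_normalizer_iff.1 (hgnΦ (zpow_mem (mem_zpowers g) i)) z).1 hz)) (zpowers_le.2 ?_)
        show g ^ i * g ^ q * (g ^ i)⁻¹ ∈ N₀
        rw [((Commute.refl g).zpow_left i).pow_right q |>.eq, mul_inv_cancel_right]
        exact mem_sup_right (mem_zpowers _)
      exact this hx
  set f := QuotientGroup.mk' (N₀.subgroupOf H)
  set a := f ⟨g, hgH⟩ with ha
  set V := (Q.subgroupOf H).map f
  have hf1 : ∀ z : H, (z : G) ∈ N₀ → f z = 1 := fun z hz => (QuotientGroup.eq_one_iff z).2 hz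
  haveI : (Q.subgroupOf H).Normal := (normal_subgroupOf_iff_le_normalizer le_sup_left).2 (sup_le le_normalizer hgn')
  haveI hVn : V.Normal := Normal.map inferInstance f (QuotientGroup.mk'_surjective _)
  have hVp : IsPGroup p V := (hQ.comap_of_injective H.subtype H.subtype_injective).map f
  haveI hVc : IsMulCommutative V := ⟨⟨by
    rintro ⟨_, x, hx, rfl⟩ ⟨_, y, hy, rfl⟩
    refine Subtype.ext ?_
    show f x * f y = f y * f x
    rw [← commutatorElement_eq_one_iff_mul_comm, ← map_commutatorElement]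
    refine hf1 _ (mem_sup_left ⟨⁅(⟨(x : G), hx⟩ : Q), (⟨(y : G), hy⟩ : Q)⁆, Solv.commutator_le_frattini (G := Q) ?_, rfl⟩)
    rw [_root_.commutator_def]
    exact commutator_mem_commutator (mem_top _) (mem_top _)⟩⟩
  have hVpow : ∀ v ∈ V, v ^ p = 1 := by
    rintro _ ⟨x, hx, rfl⟩
    rw [← map_pow]
    exact hf1 _ (mem_sup_left ⟨_, Struct.CoprimeMinimal.pow_mem_frattini hQ ⟨(x : G), hx⟩, rfl⟩)
  have haq : a ^ q = 1 := by rw [ha, ← map_pow]; exact hf1 _ (mem_sup_right (mem_zpowers _))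
  have hgen : V ⊔ zpowers a = ⊤ := by
    rw [eq_top_iff]
    intro z _
    obtain ⟨w, rfl⟩ := QuotientGroup.mk'_surjective (N₀.subgroupOf H) z
    have : (⊤ : Subgroup H) ≤ Q.subgroupOf H ⊔ zpowers ⟨g, hgH⟩ := by
      intro u _
      have hu : (u : G) ∈ ((Q ⊔ zpowers g : Subgroup G) : Set G) := u.2
      rw [coe_mul_of_right_le_normalizer_left Q (zpowers g) hgn'] at hu
      obtain ⟨x, hx, w, hw, hxw⟩ := hu
      obtain ⟨i, rfl⟩ := mem_zpowers_iff.1 hw
      rw [show u = (⟨x, mem_sup_left hx⟩ : H) * ⟨g, hgH⟩ ^ i from Subtype.ext (by simpa using hxw.symm)]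
      exact mul_mem (mem_sup_left (mem_subgroupOf.2 hx)) (mem_sup_right (zpow_mem (mem_zpowers _) i))
    have h2 := mem_map_of_mem f (this (mem_top w))
    rw [Subgroup.map_sup, MonoidHom.map_zpowers] at h2
    exact h2
  have hVA : V ≤ ⁅V, zpowers a⁆ := by
    have e : ⁅Q.subgroupOf H, zpowers (⟨g, hgH⟩ : H)⁆.map H.subtype = Q := by
      rw [map_commutator, MonoidHom.map_zpowers, subgroupOf_map_subtype, inf_eq_left.2 le_sup_left]
      exact hQg
    have h2 : Q.subgroupOf H ≤ ⁅Q.subgroupOf H, zpowers (⟨g, hgH⟩ : H)⁆ := by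
      refine (map_le_map_iff_of_injective H.subtype_injective).1 ?_
      rw [e]; exact (subgroupOf_map_subtype _ _).le.trans inf_le_left
    refine (map_mono h2).trans ?_
    rw [map_commutator, MonoidHom.map_zpowers]
  have hVne : V ≠ ⊥ := by
    intro e
    have hQN : Q ≤ N₀ := fun x hx => by
      have := e.le ⟨⟨x, mem_sup_left hx⟩, hx, rfl⟩
      exact (QuotientGroup.eq_one_iff (⟨x, mem_sup_left hx⟩ : H)).1 (mem_bot.1 this)
    refine hgc ((Solv.centralizes_of_trivial_on_frattini_quotient (zpowers g) Q hgn'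
      (hcopG.coprime_dvd_right (card_subgroup_dvd_card (frattini Q))) (fun b hb x hx => ?_)) (mem_zpowers g))
    have hy : b * x * b⁻¹ * x⁻¹ ∈ Q := Q.mul_mem ((mem_normalizer_iff.1 (hgn' hb) x).1 hx) (Q.inv_mem hx)
    have hxn : zpowers (g ^ q) ≤ normalizer (Φ : Set G) := (zpowers_le.2 (pow_mem (mem_zpowers g) q)).trans hgnΦ
    obtain ⟨u, hu, w, hw, huw⟩ : ∃ u ∈ Φ, ∃ w ∈ zpowers (g ^ q), u * w = b * x * b⁻¹ * x⁻¹ := by
      have hy' := hQN hy
      rw [← SetLike.mem_coe, coe_mul_of_right_le_normalizer_left Φ (zpowers (g ^ q)) hxn] at hy'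
      exact hy'
    have hwQ : w ∈ Q := by
      have := Q.mul_mem (Q.inv_mem (map_subtype_le _ hu)) hy
      rwa [← huw, inv_mul_cancel_left] at this
    have hw1 : w = 1 := mem_bot.1 ((Solv.inf_eq_bot_of_coprime_card (zpowers g) Q hcopG) ▸
      ⟨zpowers_le.2 (pow_mem (mem_zpowers g) q) hw, hwQ⟩)
    rw [← huw, hw1, mul_one]
    exact hu
  have ha1 : a ≠ 1 := by
    intro e
    refine hVne (eq_bot_iff.2 (hVA.trans ?_))
    rw [e, zpowers_one_eq_bot, commutator_bot_right]
  have hao : orderOf a = q := orderOf_eq_prime haq ha1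
  have hcopV : (Nat.card (zpowers a)).Coprime (Nat.card V) := by
    obtain ⟨i, hi⟩ := IsPGroup.iff_card.1 hVp
    rw [Nat.card_zpowers, hao, hi]
    exact ((Nat.coprime_primes hq hp).2 hqp).pow_right i
  have haV : zpowers a ≤ normalizer (V : Set (H ⧸ N₀.subgroupOf H)) := (normalizer_eq_top V).symm ▸ le_top
  have hfix : V ⊓ centralizer (zpowers a : Set (H ⧸ N₀.subgroupOf H)) = ⊥ := by
    rw [eq_bot_iff, ← Solv.commutator_inf_centralizer_eq_bot (zpowers a) V haV hcopV]
    exact inf_le_inf_right _ hVA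
  have hpel : ∀ z : H ⧸ N₀.subgroupOf H, (orderOf z).Coprime q → z ∈ V := by
    intro z hz
    refine Solv.mem_of_coprime_index V (Nat.Coprime.coprime_dvd_right ?_ hz)
    rw [← relIndex_top_right, ← hgen, relIndex_sup_left]
    exact ((relIndex_dvd_card (H := V) (K := zpowers a))).trans (by rw [Nat.card_zpowers, hao])
  -- the section has trivial `p'`-core
  have hO : Cfsg.pPrimeCore p (H ⧸ N₀.subgroupOf H) = ⊥ := by
    set O := Cfsg.pPrimeCore p (H ⧸ N₀.subgroupOf H)
    have hOc := Solv.card_pPrimeCore_coprime p (H ⧸ N₀.subgroupOf H)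
    have hOV : O ⊓ V = ⊥ := by
      obtain ⟨i, hi⟩ := IsPGroup.iff_card.1 hVp
      exact Solv.inf_eq_bot_of_coprime_card _ _ (by rw [hi]; exact hOc.pow_right i)
    have hOc' : O ≤ centralizer (V : Set (H ⧸ N₀.subgroupOf H)) := by
      rw [← commutator_eq_bot_iff_le_centralizer, eq_bot_iff, ← hOV]
      exact commutator_le_inf _ _
    rw [eq_bot_iff]
    intro z hz
    have h3 := hgen.ge (mem_top z)
    obtain ⟨v, hv, w, hw, rfl⟩ := mem_sup_of_normal_left.1 h3
    by_cases hw1 : w = 1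
    · subst hw1
      exact hOV ▸ ⟨hz, by rwa [mul_one]⟩
    exfalso
    obtain ⟨i, rfl⟩ := mem_zpowers_iff.1 hw
    have hcw : a ^ i ∈ centralizer (V : Set (H ⧸ N₀.subgroupOf H)) := by
      have h4 := hOc' hz
      rw [mem_centralizer_iff] at h4 ⊢
      intro y hy
      have hvy : v * y = y * v := congrArg Subtype.val (mul_comm' (⟨v, hv⟩ : V) ⟨y, hy⟩)
      have := h4 y hy
      rw [← mul_assoc, ← hvy, mul_assoc, mul_assoc] at this
      exact mul_left_cancel this
    have hz1 : zpowers (a ^ i) = zpowers a := by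
      refine eq_of_le_of_card_ge (zpowers_le.2 (zpow_mem (mem_zpowers a) i)) ?_
      rw [Nat.card_zpowers, Nat.card_zpowers, hao]
      exact le_of_eq (orderOf_eq_prime (by rw [← zpow_natCast, ← zpow_mul, mul_comm, zpow_mul, zpow_natCast, haq, one_zpow]) hw1).symm
    refine hVne (eq_bot_iff.2 (hfix ▸ le_inf le_rfl ?_))
    rw [le_centralizer_iff, ← hz1, zpowers_le]
    exact hcw
  obtain ⟨z, hz⟩ := h H (N₀.subgroupOf H) hO
  -- it has an element of order `p * q`
  obtain ⟨v, hv, hv1⟩ : ∃ v ∈ V, v ≠ 1 := by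
    by_contra hc
    push Not at hc
    exact hVne ((eq_bot_iff_forall V).2 hc)
  have hpd : p ∣ orderOf z := hz ▸ orderOf_eq_prime (hVpow v hv) hv1 ▸ Monoid.order_dvd_exponent v
  have hqd : q ∣ orderOf z := hz ▸ hao ▸ Monoid.order_dvd_exponent a
  obtain ⟨S, hS⟩ := (IsPGroup.of_card (p := q) (n := 1) (G := zpowers a) (by rw [Nat.card_zpowers, hao, pow_one])).exists_le_sylow
  have hSeq : (S : Subgroup (H ⧸ N₀.subgroupOf H)) = zpowers a := by
    refine le_antisymm ?_ hS
    intro s hs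
    obtain ⟨u, hu, w, hw, rfl⟩ := mem_sup_of_normal_left.1 (hgen.ge (mem_top s))
    have huS : u ∈ (S : Subgroup (H ⧸ N₀.subgroupOf H)) := by
      have := (S : Subgroup (H ⧸ N₀.subgroupOf H)).mul_mem hs ((S : Subgroup (H ⧸ N₀.subgroupOf H)).inv_mem (hS hw))
      rwa [mul_inv_cancel_right] at this
    have : u = 1 := mem_bot.1 ((Solv.inf_eq_bot_of_coprime_card (S : Subgroup (H ⧸ N₀.subgroupOf H)) V (by
      obtain ⟨i, hi⟩ := IsPGroup.iff_card.1 hVp
      obtain ⟨j, hj⟩ := IsPGroup.iff_card.1 S.isPGroup'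
      rw [hi, hj]; exact ((Nat.coprime_primes hq hp).2 hqp).pow _ _)) ▸ ⟨huS, hu⟩)
    rw [this, one_mul]; exact hw
  set y := z ^ (orderOf z / q) with hy
  have hyo : orderOf y = q := orderOf_pow_orderOf_div (orderOf_pos z).ne' hqd
  set u := z ^ (orderOf z / p) with hu
  have huo : orderOf u = p := orderOf_pow_orderOf_div (orderOf_pos z).ne' hpd
  obtain ⟨R, hR⟩ := (IsPGroup.of_card (p := q) (n := 1) (G := zpowers y) (by rw [Nat.card_zpowers, hyo, pow_one])).exists_le_sylow
  obtain ⟨t, ht⟩ := MulAction.exists_smul_eq (H ⧸ N₀.subgroupOf H) R S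
  have hty : t * y * t⁻¹ ∈ zpowers a := by
    rw [← hSeq, ← ht, Sylow.coe_subgroup_smul]
    exact ⟨y, hR (mem_zpowers y), rfl⟩
  have hye : zpowers (t * y * t⁻¹) = zpowers a := by
    refine eq_of_le_of_card_ge (zpowers_le.2 hty) ?_
    rw [Nat.card_zpowers, Nat.card_zpowers, hao, show orderOf (t * y * t⁻¹) = orderOf y from
      orderOf_injective (MulAut.conj t).toMonoidHom (MulEquiv.injective _) y, hyo]
  have htu : t * u * t⁻¹ ∈ V := hpel _ (by
    rw [show orderOf (t * u * t⁻¹) = orderOf u from orderOf_injective (MulAut.conj t).toMonoidHom (MulEquiv.injective _) u, huo]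
    exact (Nat.coprime_primes hp hq).2 hqp.symm)
  have hone : t * u * t⁻¹ = 1 := by
    refine mem_bot.1 (hfix ▸ ⟨htu, ?_⟩)
    rw [← hye]
    show _ ∈ centralizer _
    rw [mem_centralizer_iff]
    intro w hw
    obtain ⟨i, rfl⟩ := mem_zpowers_iff.1 hw
    have hc : Commute (t * y * t⁻¹) (t * u * t⁻¹) := by
      show MulAut.conj t y * MulAut.conj t u = MulAut.conj t u * MulAut.conj t y
      rw [← map_mul, ← map_mul, hy, hu, ← pow_add, ← pow_add, add_comm]
    exact (hc.zpow_left i).eq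
  have : u = 1 := by simpa using hone
  rw [this, orderOf_one] at huo
  exact hp.ne_one huo.symm

end Cfsg.Agent.S4238
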