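import Cfsg.Statements.S4242
import Cfsg.Agent.Lib.Solv.NormalPComplement
import Cfsg.Agent.Lib.Solv.MinimalNonNilpotent
import Cfsg.Agent.Lib.Solv.Coprime

set_option autoImplicit false
open Cfsg

namespace Cfsg.Agent.S4242

universe u

open Subgroup Cfsg Cfsg.Agent in
open scoped Pointwise in
theorem forward {G : Type u} [Group G] [Finite G] (p : ℕ) (hp : p.Prime) (hpG : p ∣ Nat.card G)
    (h : ∀ M : Subgroup G, IsCoatom M → p ∣ Nat.card M → Group.IsNilpotent M)
    (hnn : ¬ Group.IsNilpotent G) (hnm : ¬ IsMinimalNonNilpotent G) :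
    ∃ Z K : Subgroup G, Z.Normal ∧ K.Normal ∧ Z ⊓ K = ⊥ ∧ Z ⊔ K = ⊤ ∧ Nat.card Z = p ∧
      IsMinimalNonNilpotent K ∧ ¬ p ∣ Nat.card K := by
  haveI := Fact.mk hp
  have hprop : ∀ H : Subgroup G, H ≠ ⊤ → p ∣ Nat.card H → Group.IsNilpotent H := by
    intro H hH hpH
    obtain ⟨M, hM, hHM⟩ := (eq_top_or_exists_le_coatom H).resolve_left hH
    haveI := h M hM (hpH.trans (card_dvd_of_le hHM))
    exact Group.nilpotent_of_mulEquiv (subgroupOfEquivOfLe hHM)
  obtain ⟨H0, hH0, hH0n⟩ : ∃ H : Subgroup G, H ≠ ⊤ ∧ ¬ Group.IsNilpotent H := by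
    by_contra hc
    push Not at hc
    exact hnm ⟨hnn, hc⟩
  obtain ⟨M0, hM0, hHM0⟩ := (eq_top_or_exists_le_coatom H0).resolve_left hH0
  have hM0n : ¬ Group.IsNilpotent M0 := fun hn => hH0n (by
    haveI := hn
    exact Group.nilpotent_of_mulEquiv (subgroupOfEquivOfLe hHM0))
  have hpM0 : ¬ p ∣ Nat.card M0 := fun hd => hM0n (h M0 hM0 hd)
  obtain ⟨P⟩ : Nonempty (Sylow p G) := inferInstance
  have hPp : p ∣ Nat.card (P : Subgroup G) := P.dvd_card_of_dvd_card hpG
  have hP1 : (P : Subgroup G) ≠ ⊥ := fun e => hp.ne_one (Nat.dvd_one.mp (by rwa [e, Subgroup.card_bot] at hPp))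
  have hPnt : (P : Subgroup G) ≠ ⊤ := fun e => hnn (by
    haveI : Group.IsNilpotent (P : Subgroup G) := P.isPGroup'.isNilpotent
    rw [e] at this
    exact Group.nilpotent_of_mulEquiv Subgroup.topEquiv)
  by_cases hPn : (P : Subgroup G).Normal
  swap
  · exfalso
    have hF : Solv.FrobeniusCond p G := by
      intro Q hQ g hg hgc
      rcases eq_or_ne Q ⊥ with rfl | hQ1
      · simp [mem_centralizer_iff]
      by_cases htop : Q ⊔ zpowers g = ⊤
      · exfalso
        apply hPn
        haveI : Q.Normal := normalizer_eq_top_iff.mp (top_le_iff.mp (htop ▸ sup_le le_normalizer (zpowers_le.mpr hg)))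
        obtain ⟨R, hR⟩ := hQ.exists_le_sylow
        have hcard : Nat.card G ∣ Nat.card Q * orderOf g := by
          rw [← Subgroup.card_top (G := G), ← htop, ← Nat.card_zpowers]
          exact Solv.card_sup_dvd_of_normal Q (zpowers g)
        have hdP : Nat.card (P : Subgroup G) ∣ Nat.card Q := by
          obtain ⟨k, hk⟩ := IsPGroup.iff_card.mp P.isPGroup'
          refine Nat.Coprime.dvd_of_dvd_mul_right ?_ ((Subgroup.card_subgroup_dvd_card _).trans hcard)
          rw [hk]
          exact (hgc.symm).pow_left k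
        obtain ⟨a, ha⟩ := MulAction.exists_smul_eq G R P
        have hQP : Q ≤ (P : Subgroup G) := fun x hx => by
          rw [← ha]
          show x ∈ MulAut.conj a • (R : Subgroup G)
          rw [Subgroup.mem_pointwise_smul_iff_inv_smul_mem]
          refine hR ?_
          simpa using ‹Q.Normal›.conj_mem x hx a⁻¹
        rw [← eq_of_le_of_card_ge hQP (Nat.le_of_dvd Nat.card_pos hdP)]
        infer_instance
      · have hpd : p ∣ Nat.card ↥(Q ⊔ zpowers g) := by
          obtain ⟨k, hk⟩ := IsPGroup.iff_card.mp hQ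
          rcases k with _ | k
          · exact absurd (Subgroup.card_eq_one.mp (by rw [hk, pow_zero])) hQ1
          · exact (hk ▸ dvd_pow_self p k.succ_ne_zero : p ∣ Nat.card Q).trans (card_dvd_of_le le_sup_left)
        have hn := hprop _ htop hpd
        refine mem_centralizer_iff.mpr fun x hx => (Solv.commute_of_sylow hn ((le_sup_left : Q ≤ _) hx)
          ((le_sup_right : _ ≤ Q ⊔ zpowers g) (mem_zpowers g)) ?_).eq
        obtain ⟨k, hk⟩ := IsPGroup.iff_orderOf.mp hQ ⟨x, hx⟩
        rw [← Subgroup.orderOf_coe] at hk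
        rw [show orderOf x = p ^ k from hk]
        exact (hgc.symm).pow_left k
    have hc := hF.hasNormalPComplement
    set K := pPrimeCore p G
    have hKc : (Nat.card K).Coprime p := Solv.card_pPrimeCore_coprime p G
    have hMK : M0 = K := by
      have hle : M0 ≤ K := fun x hx => Solv.mem_pPrimeCore_of_orderOf_coprime hc
        (((hp.coprime_iff_not_dvd.mpr hpM0).symm).coprime_dvd_left (Subgroup.orderOf_dvd_natCard _ hx))
      refine (hM0.le_iff.mp hle).elim (fun e => absurd hpG ?_) Eq.symm
      rw [← Subgroup.card_top (G := G), ← e]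
      exact hp.coprime_iff_not_dvd.mp hKc.symm
    subst hMK
    haveI : Group.IsSolvable (P : Subgroup G) := by
      haveI : Group.IsNilpotent (P : Subgroup G) := P.isPGroup'.isNilpotent
      infer_instance
    have hcop : (Nat.card (P : Subgroup G)).Coprime (Nat.card K) := by
      obtain ⟨k, hk⟩ := IsPGroup.iff_card.mp P.isPGroup'
      rw [hk]; exact hKc.symm.pow_left k
    have hcompl := Solv.isComplement'_pPrimeCore hc P
    have hle : K ≤ centralizer ((P : Subgroup G) : Set G) := by
      rw [← relIndex_eq_one]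
      by_contra hne1
      obtain ⟨q, hq, hqd⟩ := Nat.exists_prime_and_dvd hne1
      haveI := Fact.mk hq
      obtain ⟨Q, hQ⟩ := Solv.exists_invariant_sylow (P : Subgroup G) K le_normalizer_of_normal hcop
        (Or.inl inferInstance) q
      set QG := (Q : Subgroup K).map K.subtype
      have hne : QG ⊔ (P : Subgroup G) ≠ ⊤ := by
        intro htop
        apply hM0n
        have hd : Nat.card G ∣ Nat.card QG * Nat.card (P : Subgroup G) := by
          rw [← Subgroup.card_top (G := G), ← htop]
          exact Solv.card_sup_dvd _ _ hQ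
        rw [← hcompl.card_mul, Solv.card_map_subtype] at hd
        obtain ⟨k, hk⟩ := IsPGroup.iff_card.mp Q.isPGroup'
        have := Nat.dvd_of_mul_dvd_mul_right Nat.card_pos hd
        rw [hk] at this
        obtain ⟨j, -, hj⟩ := (Nat.dvd_prime_pow hq).mp this
        exact (IsPGroup.of_card hj).isNilpotent
      have hn := hprop _ hne (hPp.trans (card_dvd_of_le le_sup_right))
      have hPQ : (Q : Subgroup K) ≤ (centralizer ((P : Subgroup G) : Set G)).subgroupOf K := fun y hy =>
        mem_subgroupOf.mpr (mem_centralizer_iff.mpr fun c hc' => (Solv.commute_of_sylow hn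
          ((le_sup_right : _ ≤ QG ⊔ (P : Subgroup G)) hc') ((le_sup_left : QG ≤ _) (mem_map_of_mem K.subtype hy))
          (Nat.Coprime.coprime_dvd_left (Subgroup.orderOf_dvd_natCard _ hc')
            (Nat.Coprime.coprime_dvd_right (Subgroup.orderOf_dvd_natCard _ y.2) hcop))).eq)
      exact Q.not_dvd_index (hqd.trans (Subgroup.index_dvd_of_le hPQ))
    exact hPn (normalizer_eq_top_iff.mp (top_le_iff.mp (hcompl.sup_eq_top ▸ sup_le
      (hle.trans (centralizer_le_normalizer _)) le_normalizer)))
  · -- `P` normal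
    have hsup : (P : Subgroup G) ⊔ M0 = ⊤ := (hM0.le_iff.mp le_sup_right).resolve_right fun e => hpM0
      (hPp.trans (card_dvd_of_le (le_sup_left.trans e.le)))
    have hinf : (P : Subgroup G) ⊓ M0 = ⊥ := by
      refine Solv.inf_eq_bot_of_coprime_card _ _ ?_
      obtain ⟨k, hk⟩ := IsPGroup.iff_card.mp P.isPGroup'
      rw [hk]
      exact (hp.coprime_iff_not_dvd.mpr hpM0).pow_left k
    have hcardG : Nat.card G = Nat.card (P : Subgroup G) * Nat.card M0 := by
      have := Solv.card_sup_mul_card_inf (P : Subgroup G) M0 le_normalizer_of_normal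
      rwa [hsup, hinf, Subgroup.card_bot, Subgroup.card_top, mul_one] at this
    have hsmall : ∀ H : Subgroup G, H ≤ M0 → H ≠ M0 →
        Group.IsNilpotent H ∧ ∀ x ∈ H, ∀ c ∈ (P : Subgroup G), x * c = c * x := by
      intro H hH hne
      have hlt : Nat.card H < Nat.card M0 := lt_of_le_of_ne (Nat.le_of_dvd Nat.card_pos (card_dvd_of_le hH))
        fun e => hne (eq_of_le_of_card_ge hH e.ge)
      have hne' : (P : Subgroup G) ⊔ H ≠ ⊤ := fun e => by
        have := Nat.le_of_dvd (Nat.mul_pos Nat.card_pos Nat.card_pos) (Solv.card_sup_dvd_of_normal (P : Subgroup G) H)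
        rw [e, Subgroup.card_top, hcardG] at this
        exact absurd (Nat.le_of_mul_le_mul_left this Nat.card_pos) (not_le.mpr hlt)
      haveI hn := hprop _ hne' (hPp.trans (card_dvd_of_le le_sup_left))
      refine ⟨Group.nilpotent_of_mulEquiv (subgroupOfEquivOfLe (le_sup_right : H ≤ (P : Subgroup G) ⊔ H)), fun x hx c hc => ?_⟩
      refine (Solv.commute_of_sylow hn ((le_sup_right : H ≤ _) hx) ((le_sup_left : _ ≤ (P : Subgroup G) ⊔ H) hc) ?_).eq
      refine Nat.Coprime.coprime_dvd_right (Subgroup.orderOf_dvd_natCard _ hc) ?_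
      obtain ⟨k, hk⟩ := IsPGroup.iff_card.mp P.isPGroup'
      rw [hk]
      refine Nat.Coprime.coprime_dvd_left (Subgroup.orderOf_dvd_natCard _ (hH hx)) ?_
      exact ((hp.coprime_iff_not_dvd.mpr hpM0).pow_left k).symm
    have hcomm : ∀ x ∈ M0, ∀ c ∈ (P : Subgroup G), x * c = c * x := fun x hx =>
      (hsmall (zpowers x) (zpowers_le.mpr hx) fun e => hM0n (by
        rw [← e]
        letI := IsCyclic.commGroup (α := zpowers x)
        infer_instance)).2 x (mem_zpowers x)
    haveI hM0normal : M0.Normal := normalizer_eq_top_iff.mp (top_le_iff.mp (hsup ▸ sup_le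
      ((show (P : Subgroup G) ≤ centralizer (M0 : Set G) from fun c hc =>
        mem_centralizer_iff.mpr fun x hx => hcomm x hx c hc).trans (centralizer_le_normalizer _)) le_normalizer))
    refine ⟨P, M0, hPn, hM0normal, hinf, hsup, ?_, ⟨hM0n, fun H hH => ?_⟩, hpM0⟩
    · obtain ⟨z, hz⟩ := exists_prime_orderOf_dvd_card' (G := (P : Subgroup G)) p hPp
      have hzM : (z : G) ∉ M0 := fun hzM => by
        have h1 : (z : G) = 1 := by
          have h2 : (z : G) ∈ (P : Subgroup G) ⊓ M0 := ⟨z.2, hzM⟩
          rwa [hinf, mem_bot] at h2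
        rw [← Subgroup.orderOf_coe, h1, orderOf_one] at hz
        exact hp.ne_one hz.symm
      have htop : M0 ⊔ zpowers (z : G) = ⊤ := (hM0.le_iff.mp le_sup_left).resolve_right fun e =>
        hzM ((le_sup_right.trans e.le) (mem_zpowers _))
      have := Nat.le_of_dvd (Nat.mul_pos Nat.card_pos Nat.card_pos) (Solv.card_sup_dvd_of_normal M0 (zpowers (z : G)))
      rw [htop, Subgroup.card_top, hcardG, Nat.card_zpowers, Subgroup.orderOf_coe, hz, mul_comm] at this
      exact le_antisymm (Nat.le_of_mul_le_mul_left this Nat.card_pos) (Nat.le_of_dvd Nat.card_pos hPp)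
    · have hne : H.map M0.subtype ≠ M0 := fun e => hH (by
        apply map_injective M0.subtype_injective
        rw [e, ← MonoidHom.range_eq_map, range_subtype])
      haveI := (hsmall _ (map_subtype_le H) hne).1
      exact Group.nilpotent_of_mulEquiv (equivMapOfInjective H M0.subtype M0.subtype_injective).symm

/-- Let G be a finite group and p a prime dividing its order. Every maximal subgroup of G of order divisible by p is nilpotent if and only if G is nilpotent, or G is a minimal non-nilpotent group, or G is the internal direct product of a normal subgroup of order p and a normal minimal non-nilpotent subgroup of order prime to p. -/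
theorem result {G : Type*} [Group G] [Finite G] (p : ℕ) (hp : p.Prime) (hpG : p ∣ Nat.card G) :
    (∀ M : Subgroup G, IsCoatom M → p ∣ Nat.card M → Group.IsNilpotent M) ↔
      (Group.IsNilpotent G ∨ Cfsg.IsMinimalNonNilpotent G ∨
        ∃ Z K : Subgroup G, Z.Normal ∧ K.Normal ∧ Z ⊓ K = ⊥ ∧ Z ⊔ K = ⊤ ∧ Nat.card Z = p ∧
          Cfsg.IsMinimalNonNilpotent K ∧ ¬ p ∣ Nat.card K) := by
  refine ⟨fun h => ?_, ?_⟩
  · by_cases hnn : Group.IsNilpotent G
    · exact Or.inl hnn
    by_cases hnm : Cfsg.IsMinimalNonNilpotent G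
    · exact Or.inr (Or.inl hnm)
    exact Or.inr (Or.inr (forward p hp hpG h hnn hnm))
  · rintro (hn | hm | ⟨Z, K, hZn, hKn, hinf, hsup, hZ, hK, hpK⟩) M hM hpM
    · haveI := hn; infer_instance
    · exact hm.2 M hM.1
    · haveI := Fact.mk hp
      haveI := hZn
      haveI := hKn
      have hcomm : ∀ a ∈ Z, ∀ b ∈ K, Commute a b := fun a ha b hb =>
        Subgroup.commute_of_normal_of_disjoint _ _ hZn hKn (disjoint_iff.mpr hinf) a b ha hb
      have hmem : ∀ g : G, ∃ a ∈ Z, ∃ b ∈ K, a * b = g := fun g => by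
        have hg : g ∈ ((Z ⊔ K : Subgroup G) : Set G) := by rw [hsup]; exact Subgroup.mem_top g
        rw [Subgroup.normal_mul] at hg
        exact Set.mem_mul.mp hg
      obtain ⟨m, hm⟩ := exists_prime_orderOf_dvd_card' (G := M) p hpM
      obtain ⟨a, ha, b, hb, hab⟩ := hmem m
      have hb1 : b = 1 := by
        have h1 : (m : G) ^ p = 1 := by
          rw [← Subgroup.coe_pow, orderOf_dvd_iff_pow_eq_one.mp (dvd_of_eq hm), Subgroup.coe_one]
        have ha1 : a ^ p = 1 := by
          rw [← hZ]
          exact congrArg Subtype.val (pow_card_eq_one' (x := (⟨a, ha⟩ : Z)))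
        rw [← hab, (hcomm a ha b hb).mul_pow, ha1, one_mul] at h1
        have h2 : orderOf b ∣ p := orderOf_dvd_of_pow_eq_one h1
        rcases (Nat.dvd_prime hp).mp h2 with h3 | h3
        · exact orderOf_eq_one_iff.mp h3
        · exact absurd (h3 ▸ Subgroup.orderOf_dvd_natCard _ hb) hpK
      have hmZ : Z ≤ M := by
        rw [hb1, mul_one] at hab
        have : Subgroup.zpowers (m : G) = Z := Subgroup.eq_of_le_of_card_ge (Subgroup.zpowers_le.mpr (hab ▸ ha)) (by
          rw [hZ, Nat.card_zpowers, Subgroup.orderOf_coe, hm])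
        rw [← this]
        exact Subgroup.zpowers_le.mpr m.2
      have hMK : M.subgroupOf K ≠ ⊤ := fun e => hM.1 (eq_top_iff.mpr (hsup ▸ sup_le hmZ (Subgroup.subgroupOf_eq_top.mp e)))
      haveI := hK.2 _ hMK
      haveI : Group.IsNilpotent Z := (IsPGroup.of_card (n := 1) (by rw [pow_one, hZ])).isNilpotent
      let f : Z × (M.subgroupOf K) →* M :=
        { toFun := fun c => ⟨(c.1 : G) * ((c.2 : K) : G), M.mul_mem (hmZ c.1.2) (Subgroup.mem_subgroupOf.mp c.2.2)⟩
          map_one' := Subtype.ext (by simp)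
          map_mul' := fun c d => Subtype.ext (by
            show ((c.1 : G) * d.1) * (((c.2 : K) : G) * ((d.2 : K) : G)) = ((c.1 : G) * ((c.2 : K) : G)) * ((d.1 : G) * ((d.2 : K) : G))
            exact (hcomm (d.1 : G) d.1.2 ((c.2 : K) : G) (c.2 : K).2).mul_mul_mul_comm _ _) }
      refine Group.nilpotent_of_surjective f fun x => ?_
      obtain ⟨u, hu, v, hv, huv⟩ := hmem x
      have hvM : v ∈ M := by
        have := M.mul_mem (M.inv_mem (hmZ hu)) x.2
        rwa [← huv, inv_mul_cancel_left] at this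
      exact ⟨(⟨u, hu⟩, ⟨⟨v, hv⟩, Subgroup.mem_subgroupOf.mpr hvM⟩), Subtype.ext huv⟩

end Cfsg.Agent.S4242
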