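import Cfsg.Statements.S4244
import Mathlib

set_option autoImplicit false
open Cfsg

namespace Cfsg.Agent.S4244

/-- Let H be a subnormal subgroup of a finite group G. Then for every subgroup K of G the index of H ∩ K in H divides the index of K in G. -/
theorem result {G : Type*} [Group G] [Finite G] (H : Subgroup G) (hH : H.IsSubnormal) (K : Subgroup G) :
    (H ⊓ K).relIndex H ∣ K.index := by
  induction hH with
  | top => rw [Subgroup.relIndex_top_right, top_inf_eq]
  | step A B hAB hB hN ih =>
    refine dvd_trans ?_ ih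
    rw [Subgroup.inf_relIndex_left, Subgroup.inf_relIndex_left]
    -- work inside `B`
    set A' := A.subgroupOf B
    set K' := K.subgroupOf B
    have e1 : K.relIndex A = K'.relIndex A' := (Subgroup.relIndex_subgroupOf hAB).symm
    have e2 : K.relIndex B = K'.index := rfl
    rw [e1, e2]
    have h1 := Subgroup.relIndex_sup_right K' A'
    have hpos : 0 < Nat.card ↥(K' ⊓ A') := Nat.card_pos
    have hS : K' ≤ K' ⊔ A' := le_sup_left
    refine dvd_trans (dvd_of_eq ?_) (Dvd.intro _ (Subgroup.relIndex_mul_index hS))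
    -- both count cosets
    have cA : Nat.card ↥(K' ⊓ A') * K'.relIndex A' = Nat.card A' := by
      have := ((K' ⊓ A').subgroupOf A').card_mul_index
      rw [Nat.card_congr (Subgroup.subgroupOfEquivOfLe (inf_le_right : K' ⊓ A' ≤ A')).toEquiv] at this
      rw [← Subgroup.inf_relIndex_right]; exact this
    have cK : Nat.card ↥(K' ⊓ A') * A'.relIndex K' = Nat.card K' := by
      have := ((K' ⊓ A').subgroupOf K').card_mul_index
      rw [Nat.card_congr (Subgroup.subgroupOfEquivOfLe (inf_le_left : K' ⊓ A' ≤ K')).toEquiv] at this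
      rw [← Subgroup.inf_relIndex_left]; exact this
    have cSA : Nat.card A' * A'.relIndex (K' ⊔ A') = Nat.card ↥(K' ⊔ A') := by
      have := (A'.subgroupOf (K' ⊔ A')).card_mul_index
      rwa [Nat.card_congr (Subgroup.subgroupOfEquivOfLe (le_sup_right : A' ≤ K' ⊔ A')).toEquiv] at this
    have cSK : Nat.card K' * K'.relIndex (K' ⊔ A') = Nat.card ↥(K' ⊔ A') := by
      have := (K'.subgroupOf (K' ⊔ A')).card_mul_index
      rwa [Nat.card_congr (Subgroup.subgroupOfEquivOfLe hS).toEquiv] at this
    rw [h1] at cSA
    apply Nat.eq_of_mul_eq_mul_left (Nat.card_pos (α := K'))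
    rw [cSK, ← cSA, ← cA, ← cK]; ring

end Cfsg.Agent.S4244
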