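import Cfsg.Statements.S4245
import Cfsg.Agent.Lib.Perm.Kazarin
import Cfsg.Agent.Lib.Inv.CyclicSylow

set_option autoImplicit false
open Cfsg

namespace Cfsg.Agent.S4245

universe u

open Subgroup Cfsg Cfsg.Agent in
theorem main : ∀ (n : ℕ) (G : Type u) [Group G] [Finite G], Nat.card G = n → ∀ (A B : Subgroup G) (p s r : ℕ) (t : G),
    p.Prime → A.index = p ^ s → B ≤ A → A ≤ normalizer (B : Set G) → IsCyclic B → t ∈ A → A ≤ B ⊔ zpowers t →
      (∀ a ∈ A, a ^ 2 ^ r ∈ B) → Group.IsSolvable G := by
  intro n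
  induction n using Nat.strong_induction_on with
  | _ n ih =>
    intro G _ _ hn A B p s r t hp hA hBA hAB hB ht hgen hpow
    haveI := Fact.mk hp
    haveI : Fact (Nat.Prime 2) := ⟨Nat.prime_two⟩
    by_cases hR : ∃ R : Subgroup G, R.Normal ∧ Group.IsSolvable R ∧ R ≠ ⊥
    · obtain ⟨R, hRn, hRs, hR1⟩ := hR
      haveI := hRn
      haveI := hRs
      have hlt : Nat.card (G ⧸ R) < n := by
        rw [← hn, Subgroup.card_eq_card_quotient_mul_card_subgroup R]
        exact lt_mul_of_one_lt_right Nat.card_pos (R.one_lt_card_iff_ne_bot.mpr hR1)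
      set π := QuotientGroup.mk' R
      obtain ⟨s', -, hs'⟩ := (Nat.dvd_prime_pow hp).mp (hA ▸ Subgroup.index_map_dvd A (QuotientGroup.mk'_surjective R))
      haveI := hB
      haveI : Group.IsSolvable (G ⧸ R) := by
        refine ih _ hlt _ rfl (A.map π) (B.map π) p s' r (π t) hp hs' (map_mono hBA) ?_
          (isCyclic_of_surjective (π.subgroupMap B) (π.subgroupMap_surjective B)) (mem_map_of_mem π ht) ?_ ?_
        · exact (map_mono hAB).trans (le_normalizer_map π)
        · refine (map_mono hgen).trans ?_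
          rw [Subgroup.map_sup, MonoidHom.map_zpowers]
        · rintro - ⟨a, ha, rfl⟩
          exact ⟨a ^ 2 ^ r, hpow a ha, map_pow π a _⟩
      exact Group.isSolvable_of_ker_le_range R.subtype π (by rw [QuotientGroup.ker_mk', Subgroup.range_subtype])
    push Not at hR
    have hsmall : ∀ (z : G) (q k : ℕ), q.Prime → (centralizer ({z} : Set G)).index = q ^ k → z = 1 := by
      intro z q k hq hk
      have h := hR _ normalClosure_normal (Perm.Kazarin.solvable_normalClosure hq z hk)
      exact mem_bot.mp (h ▸ subset_normalClosure (Set.mem_singleton z))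
    have hcenA : ∀ z : G, (∀ a ∈ A, a * z = z * a) → z = 1 := by
      intro z hz
      obtain ⟨k, -, hk⟩ := (Nat.dvd_prime_pow hp).mp (hA ▸ Subgroup.index_dvd_of_le
        (show A ≤ centralizer ({z} : Set G) from fun a ha => mem_centralizer_singleton_iff.mpr (hz a ha)))
      exact hsmall z p k hp hk
    haveI := hB
    -- `B` has odd order
    have hBodd : ¬ 2 ∣ Nat.card B := by
      intro hd
      obtain ⟨z, hz⟩ := exists_prime_orderOf_dvd_card' (G := B) 2 hd
      have hz1 : (z : G) = 1 := by
        refine hcenA z fun a ha => ?_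
        have hcj : a * (z : G) * a⁻¹ ∈ B := (mem_normalizer_iff.mp (hAB ha) _).mp z.2
        have ho : orderOf (⟨_, hcj⟩ : B) = 2 := by
          rw [← Subgroup.orderOf_coe]
          show orderOf (a * (z : G) * a⁻¹) = 2
          rw [← MulAut.conj_apply, MulEquiv.orderOf_eq, Subgroup.orderOf_coe, hz]
        have hmem : (⟨_, hcj⟩ : B) ∈ zpowers z := by
          haveI : IsCyclic B := hB
          classical
          haveI : Fintype B := Fintype.ofFinite B
          by_contra hne
          have h2 := IsCyclic.card_pow_eq_one_le (α := B) (n := 2) (by norm_num)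
          have hsub : ({1, z, ⟨_, hcj⟩} : Finset B) ⊆ Finset.univ.filter fun u => u ^ 2 = 1 := by
            intro u hu
            simp only [Finset.mem_insert, Finset.mem_singleton] at hu
            rcases hu with rfl | rfl | rfl <;> simp only [Finset.mem_filter, Finset.mem_univ, true_and]
            · exact one_pow 2
            · exact orderOf_dvd_iff_pow_eq_one.mp (dvd_of_eq hz)
            · exact orderOf_dvd_iff_pow_eq_one.mp (dvd_of_eq ho)
          have h3 := (Finset.card_le_card hsub).trans h2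
          have e1 : (1 : B) ≠ z := fun e => by rw [← e, orderOf_one] at hz; norm_num at hz
          have e2 : (1 : B) ≠ ⟨_, hcj⟩ := fun e => by rw [← e, orderOf_one] at ho; norm_num at ho
          have e3 : z ≠ ⟨_, hcj⟩ := fun e => hne (by rw [← e]; exact mem_zpowers z)
          rw [Finset.card_insert_of_notMem (by simp [e1, e2]), Finset.card_insert_of_notMem (by simp [e3]),
            Finset.card_singleton] at h3
          omega
        obtain ⟨i, hi⟩ := hmem
        have hi' : ((z : G)) ^ i = a * (z : G) * a⁻¹ := by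
          have := congrArg (fun u : B => (u : G)) hi
          simpa using this
        rcases Int.even_or_odd i with ⟨j, rfl⟩ | ⟨j, rfl⟩
        · rw [← two_mul, zpow_mul, zpow_ofNat,
            show ((z : G)) ^ 2 = 1 from orderOf_dvd_iff_pow_eq_one.mp (dvd_of_eq ((Subgroup.orderOf_coe z).trans hz)),
            one_zpow] at hi'
          exact absurd (congrArg orderOf hi'.symm) (by
            rw [orderOf_one, ← MulAut.conj_apply, MulEquiv.orderOf_eq, Subgroup.orderOf_coe, hz]; norm_num)
        · rw [zpow_add, zpow_mul, zpow_ofNat,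
            show ((z : G)) ^ 2 = 1 from orderOf_dvd_iff_pow_eq_one.mp (dvd_of_eq ((Subgroup.orderOf_coe z).trans hz)),
            one_zpow, one_mul, zpow_one] at hi'
          exact (eq_mul_inv_iff_mul_eq.mp hi').symm
      rw [Subgroup.orderOf_coe z |>.symm, hz1, orderOf_one] at hz
      norm_num at hz
    have hodd : ∀ a ∈ A, ¬ 2 ∣ orderOf a → a ∈ B := fun a ha hna => by
      obtain ⟨k, hk⟩ := exists_pow_eq_self_of_coprime
        ((Nat.prime_two.coprime_iff_not_dvd.mpr hna).pow_left r)
      rw [← hk]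
      exact B.pow_mem (hpow a ha) k
    -- `A / B` is a `2`-group
    haveI : (B.subgroupOf A).Normal := normal_subgroupOf_of_le_normalizer hAB
    have hq2 : IsPGroup 2 (A ⧸ B.subgroupOf A) := fun c => by
      induction c using QuotientGroup.induction_on with | _ c => ?_
      exact ⟨r, by rw [← QuotientGroup.mk_pow, QuotientGroup.eq_one_iff, mem_subgroupOf]; exact hpow _ c.2⟩
    obtain ⟨r', hr'⟩ := hq2.exists_card_eq
    have hrel : B.relIndex A = 2 ^ r' := (Subgroup.index_eq_card _).trans hr'
    have hpgroup : (∃ k, Nat.card G = p ^ k) → Group.IsSolvable G := fun ⟨k, hk⟩ => by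
      haveI := (IsPGroup.of_card hk).isNilpotent
      infer_instance
    by_cases hp2 : p = 2
    · subst hp2
      have hB1 : B = ⊥ := (eq_bot_iff_forall _).mpr fun b hb => by
        have hd : (centralizer ({b} : Set G)).index ∣ 2 ^ (r' + s) := by
          rw [pow_add, ← hrel, ← hA, Subgroup.relIndex_mul_index hBA]
          refine Subgroup.index_dvd_of_le fun c hc => mem_centralizer_singleton_iff.mpr ?_
          exact congrArg Subtype.val ((IsCyclic.commGroup (α := B)).mul_comm ⟨c, hc⟩ ⟨b, hb⟩)
        obtain ⟨k, -, hk⟩ := (Nat.dvd_prime_pow Nat.prime_two).mp hd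
        exact hsmall b 2 k Nat.prime_two hk
      refine hpgroup ⟨r' + s, ?_⟩
      rw [← Subgroup.index_bot, ← hB1, ← Subgroup.relIndex_mul_index hBA, hrel, hA, pow_add]
    -- cyclic Sylow `2`-subgroup
    obtain ⟨T0⟩ : Nonempty (Sylow 2 A) := inferInstance
    have hT0B : ∀ u : A, u ∈ (T0 : Subgroup A) → u ∈ B.subgroupOf A → u = 1 := by
      intro u hu hb
      obtain ⟨k, hk⟩ := IsPGroup.iff_orderOf.mp T0.isPGroup' ⟨u, hu⟩
      rw [← Subgroup.orderOf_coe] at hk
      have h2 : orderOf (⟨(u : G), mem_subgroupOf.mp hb⟩ : B) ∣ Nat.card B := orderOf_dvd_natCard _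
      rw [← Subgroup.orderOf_coe] at h2
      simp only [Subgroup.orderOf_coe, hk] at h2
      rcases k with _ | k
      · rwa [pow_zero, orderOf_eq_one_iff] at hk
      · exact absurd ((dvd_pow_self 2 (Nat.succ_ne_zero k)).trans h2) hBodd
    have hcycQ : IsCyclic (A ⧸ B.subgroupOf A) := by
      refine ⟨⟨((⟨t, ht⟩ : A) : A ⧸ B.subgroupOf A), fun c => ?_⟩⟩
      induction c using QuotientGroup.induction_on with | _ c => ?_
      have hmap : A ≤ ((zpowers (QuotientGroup.mk' (B.subgroupOf A) ⟨t, ht⟩)).comap (QuotientGroup.mk' (B.subgroupOf A))).map A.subtype := by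
        refine hgen.trans (sup_le (fun b hb => ⟨⟨b, hBA hb⟩, ?_, rfl⟩) (zpowers_le.mpr ⟨⟨t, ht⟩, ?_, rfl⟩))
        · show QuotientGroup.mk' (B.subgroupOf A) ⟨b, hBA hb⟩ ∈ zpowers _
          rw [show QuotientGroup.mk' (B.subgroupOf A) ⟨b, hBA hb⟩ = 1 from (QuotientGroup.eq_one_iff _).mpr (mem_subgroupOf.mpr hb)]
          exact one_mem _
        · exact mem_zpowers _
      obtain ⟨d, hd, hdc⟩ := hmap c.2
      rw [show d = c from Subtype.ext hdc] at hd
      exact hd
    haveI hT0c : IsCyclic (T0 : Subgroup A) :=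
      isCyclic_of_injective ((QuotientGroup.mk' (B.subgroupOf A)).comp (T0 : Subgroup A).subtype) (by
        rw [← MonoidHom.ker_eq_bot_iff, eq_bot_iff]
        intro u hu
        exact mem_bot.mpr (Subtype.ext (hT0B _ u.2 ((QuotientGroup.eq_one_iff _).mp hu))))
    obtain ⟨T, hT⟩ : ∃ T : Sylow 2 G, (T : Subgroup G) = (T0 : Subgroup A).map A.subtype := by
      obtain ⟨T, hT⟩ := (T0.isPGroup'.map A.subtype).exists_le_sylow
      refine ⟨T, (eq_of_le_of_card_ge hT ?_).symm⟩
      rw [card_map_of_injective A.subtype_injective, T.card_eq_multiplicity, T0.card_eq_multiplicity]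
      refine le_of_eq (congrArg (2 ^ ·) ?_)
      rw [← A.card_mul_index, hA, Nat.factorization_mul Nat.card_pos.ne' (pow_ne_zero _ hp.ne_zero),
        Finsupp.add_apply, Nat.factorization_eq_zero_of_not_dvd (fun h => hp2 ((Nat.prime_dvd_prime_iff_eq Nat.prime_two hp).mp
          (Nat.prime_two.dvd_of_dvd_pow h)).symm), add_zero]
    have hTc : IsCyclic (T : Subgroup G) := by
      rw [hT]
      exact isCyclic_of_surjective (A.subtype.subgroupMap (T0 : Subgroup A)) (A.subtype.subgroupMap_surjective _)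
    by_cases heven : Even (Nat.card G)
    swap
    · -- odd order: `A = B` is cyclic, so trivial
      refine hpgroup ⟨s, ?_⟩
      have hA1 : A = ⊥ := (eq_bot_iff_forall _).mpr fun z hz => hcenA z fun a ha => by
        have hAB' : ∀ c ∈ A, c ∈ B := fun c hc => hodd c hc fun h =>
          heven (even_iff_two_dvd.mpr (h.trans (orderOf_dvd_natCard c)))
        exact congrArg Subtype.val ((IsCyclic.commGroup (α := B)).mul_comm ⟨a, hAB' a ha⟩ ⟨z, hAB' z hz⟩)
      rw [← Subgroup.index_bot, ← hA1, hA]
    have hm := Inv.minFac_card_eq_two heven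
    have hc : (MonoidHom.transferSylow T (hTc.normalizer_le_centralizer hm)).ker.IsComplement' T := hTc.isComplement' hm
    set K := (MonoidHom.transferSylow T (hTc.normalizer_le_centralizer hm)).ker
    haveI : K.Normal := MonoidHom.normal_ker _
    have hKT := hc.card_mul_card
    have hK2 : ¬ 2 ∣ Nat.card K := by
      intro hd
      have h1 : 2 ^ ((Nat.card G).factorization 2 + 1) ∣ Nat.card G := by
        rw [pow_succ']
        conv_rhs => rw [← hKT, show Nat.card (T : Subgroup G) = 2 ^ _ from T.card_eq_multiplicity]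
        exact Nat.mul_dvd_mul_right hd _
      exact absurd ((Nat.Prime.pow_dvd_iff_le_factorization Nat.prime_two Nat.card_pos.ne').mp h1) (by omega)
    have hKtop : K ≠ ⊤ := fun h => hK2 (by rw [h, Subgroup.card_top]; exact heven.two_dvd)
    have hKsol : Group.IsSolvable K := by
      have hle : A.relIndex K ∣ p ^ s := by
        rw [← Perm.Kazarin.relIndex_sup_normal, ← hA]
        exact Subgroup.relIndex_dvd_index_of_le le_sup_left
      obtain ⟨s', -, hs'⟩ := (Nat.dvd_prime_pow hp).mp hle
      have hcycAK : IsCyclic (A.subgroupOf K) := by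
        have hsub : ∀ c : A.subgroupOf K, ((c : K) : G) ∈ B := fun c => hodd _ (mem_subgroupOf.mp c.2) fun h =>
          hK2 (h.trans (by rw [Subgroup.orderOf_coe]; exact orderOf_dvd_natCard _))
        let f : A.subgroupOf K →* B :=
          { toFun := fun c => ⟨((c : K) : G), hsub c⟩, map_one' := rfl, map_mul' := fun _ _ => rfl }
        exact isCyclic_of_injective f fun a b e => Subtype.ext (Subtype.ext (congrArg (fun u : B => (u : G)) e))
      exact ih _ (hn ▸ lt_of_le_of_ne (Subgroup.card_le_card_group K) (fun e => hKtop (Subgroup.eq_top_of_card_eq K e)))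
        K rfl (A.subgroupOf K) (A.subgroupOf K) p s' 0 1 hp hs' le_rfl le_normalizer hcycAK (one_mem _) le_sup_left
        (fun a ha => by simpa using ha)
    have hK1 := hR K inferInstance hKsol
    haveI : Group.IsNilpotent (T : Subgroup G) := T.isPGroup'.isNilpotent
    have hTtop : (T : Subgroup G) = ⊤ := by
      have := hc.sup_eq_top
      rwa [hK1, bot_sup_eq] at this
    exact Group.isSolvable_of_surjective (f := (T : Subgroup G).subtype) fun g => ⟨⟨g, hTtop ▸ mem_top g⟩, rfl⟩

/-- Let G be a finite group with a subgroup A of prime-power index. Suppose A has a normal cyclic subgroup B such that A/B is cyclic of order a power of 2. Then G is solvable. -/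
theorem result {G : Type*} [Group G] [Finite G] (A : Subgroup G) (p s : ℕ) (hp : p.Prime) (hA : A.index = p ^ s)
    (B : Subgroup A) [B.Normal] (hB : IsCyclic B) (hAB : IsCyclic (A ⧸ B)) (r : ℕ) (hr : Nat.card (A ⧸ B) = 2 ^ r) :
    Group.IsSolvable G := by
  obtain ⟨g, hg⟩ := hAB.exists_generator
  obtain ⟨t, rfl⟩ := QuotientGroup.mk_surjective g
  haveI := hB
  have hBmap : IsCyclic (B.map A.subtype) :=
    isCyclic_of_surjective (A.subtype.subgroupMap B) (A.subtype.subgroupMap_surjective B)
  refine main _ G rfl A (B.map A.subtype) p s r (t : G) hp hA (Subgroup.map_subtype_le B) ?_ hBmap t.2 ?_ ?_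
  · intro a ha
    refine Subgroup.mem_normalizer_iff.mpr fun c => ⟨?_, fun h => ?_⟩
    · rintro ⟨b, hb, rfl⟩
      exact ⟨⟨a, ha⟩ * b * ⟨a, ha⟩⁻¹, ‹B.Normal›.conj_mem b hb _, rfl⟩
    · obtain ⟨b, hb, he⟩ := h
      refine ⟨(⟨a, ha⟩ : A)⁻¹ * b * ⟨a, ha⟩, by simpa using ‹B.Normal›.conj_mem b hb (⟨a, ha⟩ : A)⁻¹, ?_⟩
      simp only [Subgroup.coe_subtype, Subgroup.coe_mul, Subgroup.coe_inv] at he ⊢
      rw [he]; group
  · intro a ha
    obtain ⟨i, hi⟩ := Subgroup.mem_zpowers_iff.mp (hg ((⟨a, ha⟩ : A) : A ⧸ B))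
    rw [← QuotientGroup.mk_zpow, QuotientGroup.eq] at hi
    have : a = (t : G) ^ i * ((t ^ i)⁻¹ * ⟨a, ha⟩ : A) := by simp
    rw [this]
    exact Subgroup.mul_mem _ (Subgroup.zpow_mem _ ((le_sup_right : _ ≤ B.map A.subtype ⊔ Subgroup.zpowers (t : G)) (Subgroup.mem_zpowers _)) i)
      ((le_sup_left : _ ≤ B.map A.subtype ⊔ Subgroup.zpowers (t : G)) (Subgroup.mem_map_of_mem A.subtype hi))
  · intro a ha
    refine ⟨(⟨a, ha⟩ : A) ^ 2 ^ r, (QuotientGroup.eq_one_iff _).mp ?_, by simp⟩
    rw [QuotientGroup.mk_pow, ← hr]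
    exact pow_card_eq_one'

end Cfsg.Agent.S4245
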