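import Cfsg.Statements.S4250
import Cfsg.Agent.Lib.Solv.AlperinTame

set_option autoImplicit false
open scoped Pointwise
open scoped commutatorElement
open Cfsg

namespace Cfsg.Agent.S4250

/-- Let P be a Sylow p-subgroup of a finite group G. Call an intersection H = P ∩ Q with a Sylow p-subgroup Q tame when N_P(H) and N_Q(H) are Sylow p-subgroups of N_G(H). Then P ∩ G′ is generated by [P, N_G(P)] together with the commutator subgroups [P ∩ Q, ⟨x⟩] for all tame intersections P ∩ Q and all p-elements x of N_G(P ∩ Q). -/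
theorem result {G : Type*} [Group G] [Finite G] (p : ℕ) [Fact p.Prime] (P : Sylow p G) :
    (P : Subgroup G) ⊓ commutator G =
      ⁅(P : Subgroup G), Subgroup.normalizer ((P : Subgroup G) : Set G)⁆ ⊔
        ⨆ (Q : Sylow p G) (_ : (¬ p ∣ ((P : Subgroup G) ⊓ Subgroup.normalizer (((P : Subgroup G) ⊓ (Q : Subgroup G) : Subgroup G) : Set G)).relIndex (Subgroup.normalizer (((P : Subgroup G) ⊓ (Q : Subgroup G) : Subgroup G) : Set G)) ∧ ¬ p ∣ ((Q : Subgroup G) ⊓ Subgroup.normalizer (((P : Subgroup G) ⊓ (Q : Subgroup G) : Subgroup G) : Set G)).relIndex (Subgroup.normalizer (((P : Subgroup G) ⊓ (Q : Subgroup G) : Subgroup G) : Set G))))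
          (x : G) (_ : x ∈ Subgroup.normalizer (((P : Subgroup G) ⊓ (Q : Subgroup G) : Subgroup G) : Set G) ∧ ∃ k : ℕ, orderOf x = p ^ k),
          ⁅(P : Subgroup G) ⊓ (Q : Subgroup G), Subgroup.zpowers x⁆ := by
  open Cfsg.Agent.Solv.AlperinTame Subgroup in
  apply le_antisymm
  · rw [inf_comm, commutator_inf_eq_focalSubgroup, focalSubgroup_def, closure_le]
    rintro _ ⟨hg, a, ha, u, rfl⟩
    have hu : u * a * u⁻¹ ∈ (P : Subgroup G) := by
      have := mul_mem (inv_mem hg) ha
      simpa [commutatorElement_def, mul_assoc] using this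
    obtain ⟨x, n, hxn, hn, hch, hcA⟩ := fusion P (A := {a}) (g := u⁻¹) (Set.singleton_subset_iff.2 ha)
      (by simp only [cimg, Set.image_singleton, inv_inv, Set.singleton_subset_iff, SetLike.mem_coe]; exact hu)
    rw [SetLike.mem_coe]
    have hx : x⁻¹ * a * x ∈ (P : Subgroup G) := hcA ⟨a, rfl, rfl⟩
    have e : ⁅a, u⁆ = a * (x⁻¹ * a * x)⁻¹ * ⁅x⁻¹ * a * x, n⁻¹⁆ := by
      have hu' : u = n⁻¹ * x⁻¹ := by rw [← mul_inv_rev, ← hxn, inv_inv]
      subst hu'
      simp only [commutatorElement_def]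
      group
    rw [e]
    refine mul_mem ?_ (mem_sup_left (commutator_mem_commutator hx (inv_mem hn)))
    have key : ∀ (A : Set G) (g : G), Chain P A g → ∀ b ∈ A, b * (g⁻¹ * b * g)⁻¹ ∈
        ⁅(P : Subgroup G), normalizer ((P : Subgroup G) : Set G)⁆ ⊔
          ⨆ (Q : Sylow p G) (_ : Tame P Q) (x : G) (_ : x ∈ normalizer (((P : Subgroup G) ⊓ (Q : Subgroup G) : Subgroup G) : Set G) ∧ ∃ k : ℕ, orderOf x = p ^ k),
            ⁅(P : Subgroup G) ⊓ (Q : Subgroup G), zpowers x⁆ := by
      intro A g h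
      induction h with
      | nil A =>
        intro b _
        simp
      | step Q z g hT hz hp' hsub _ ih =>
        intro b hb
        have h2 := ih (z⁻¹ * b * z) ⟨b, hb, rfl⟩
        have h1 : ⁅b, z⁻¹⁆ ∈ ⁅(P : Subgroup G) ⊓ (Q : Subgroup G), zpowers z⁆ :=
          commutator_mem_commutator (hsub hb) (inv_mem (mem_zpowers z))
        rw [show b * ((z * g)⁻¹ * b * (z * g))⁻¹ =
          ⁅b, z⁻¹⁆ * (z⁻¹ * b * z * (g⁻¹ * (z⁻¹ * b * z) * g)⁻¹) by
            simp only [commutatorElement_def]; group]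
        refine mul_mem (mem_sup_right ?_) h2
        exact mem_iSup_of_mem Q (mem_iSup_of_mem hT (mem_iSup_of_mem z (mem_iSup_of_mem ⟨hz, hp'⟩ h1)))
    exact key _ _ hch a rfl
  · refine sup_le (le_inf ?_ (commutator_mono le_top le_top)) (iSup_le fun Q => iSup_le fun _ =>
      iSup_le fun x => iSup_le fun hx => le_inf ?_ (commutator_mono le_top le_top))
    · rw [commutator_le]
      intro a ha n hn
      rw [commutatorElement_def, mul_assoc, mul_assoc]
      refine mul_mem ha ?_
      rw [← mul_assoc]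
      exact (mem_normalizer_iff.1 hn _).1 (inv_mem ha)
    · rw [commutator_le]
      intro a ha n hn
      rw [commutatorElement_def, mul_assoc, mul_assoc]
      refine mul_mem ha.1 ?_
      rw [← mul_assoc]
      exact ((mem_normalizer_iff.1 (zpowers_le.2 hx.1 hn) _).1 (inv_mem ha)).1

end Cfsg.Agent.S4250
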