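import Cfsg.Statements.S4251
import Cfsg.Agent.Lib.Solv.AlperinTame
import Cfsg.Agent.Lib.Solv.NormalPComplement

set_option autoImplicit false
open scoped Pointwise
open Cfsg

namespace Cfsg.Agent.S4251

/-- Let P be a Sylow p-subgroup of a finite group G. Call an intersection H = P ∩ Q with a Sylow p-subgroup Q tame when N_P(H) and N_Q(H) are Sylow p-subgroups of N_G(H). If N_G(H)/C_G(H) is a p-group for every nontrivial tame intersection H = P ∩ Q, then G has a normal p-complement. -/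
theorem result {G : Type*} [Group G] [Finite G] (p : ℕ) [Fact p.Prime] (P : Sylow p G)
    (h : ∀ Q : Sylow p G, (P : Subgroup G) ⊓ (Q : Subgroup G) ≠ ⊥ → (¬ p ∣ ((P : Subgroup G) ⊓ Subgroup.normalizer (((P : Subgroup G) ⊓ (Q : Subgroup G) : Subgroup G) : Set G)).relIndex (Subgroup.normalizer (((P : Subgroup G) ⊓ (Q : Subgroup G) : Subgroup G) : Set G)) ∧ ¬ p ∣ ((Q : Subgroup G) ⊓ Subgroup.normalizer (((P : Subgroup G) ⊓ (Q : Subgroup G) : Subgroup G) : Set G)).relIndex (Subgroup.normalizer (((P : Subgroup G) ⊓ (Q : Subgroup G) : Subgroup G) : Set G))) →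
      IsPGroup p (Subgroup.normalizer (((P : Subgroup G) ⊓ (Q : Subgroup G) : Subgroup G) : Set G) ⧸
        (Subgroup.centralizer (((P : Subgroup G) ⊓ (Q : Subgroup G) : Subgroup G) : Set G)).subgroupOf
          (Subgroup.normalizer (((P : Subgroup G) ⊓ (Q : Subgroup G) : Subgroup G) : Set G)))) :
    Cfsg.HasNormalPComplement p G := by
  open Cfsg.Agent.Solv.AlperinTame Subgroup in
  refine Cfsg.Agent.Solv.hasNormalPComplement_of_fusion P fun x hx g hg => ?_
  have step : ∀ Q : Sylow p G, Tame P Q →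
      ∀ n ∈ normalizer (((P : Subgroup G) ⊓ (Q : Subgroup G) : Subgroup G) : Set G),
      ∀ a ∈ (P : Subgroup G) ⊓ (Q : Subgroup G), ∃ u ∈ (P : Subgroup G), u⁻¹ * a * u = n⁻¹ * a * n := by
    intro Q hT n hn a ha
    set H := (P : Subgroup G) ⊓ (Q : Subgroup G) with hH
    set M := normalizer (H : Set G) with hM
    by_cases hb : H = ⊥
    · refine ⟨1, one_mem _, ?_⟩
      rw [hb, mem_bot] at ha
      simp [ha]
    have hpg := h Q hb hT
    set U := ((P : Subgroup G) ⊓ M).subgroupOf M with hU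
    set C := (centralizer (H : Set G)).subgroupOf M with hC
    have htop : U ⊔ C = ⊤ := by
      rw [← index_eq_one]
      have h1 : (U ⊔ C).index ∣ U.index := index_dvd_of_le le_sup_left
      have h2 : (U ⊔ C).index ∣ C.index := index_dvd_of_le le_sup_right
      obtain ⟨k, hk⟩ := IsPGroup.iff_card.1 hpg
      rw [show C.index = p ^ k from hk] at h2
      obtain ⟨j, -, hj⟩ := (Nat.dvd_prime_pow (Fact.out : p.Prime)).1 h2
      rcases Nat.eq_zero_or_pos j with rfl | hj0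
      · rw [hj, pow_zero]
      · exact absurd (((dvd_pow_self p hj0.ne').trans (hj ▸ dvd_rfl)).trans h1) hT.1
    obtain ⟨u, hu, c, hc, huc⟩ := mem_sup_of_normal_right.1 (htop.ge (mem_top (⟨n, hn⟩ : M)))
    refine ⟨u, (mem_subgroupOf.1 hu).1, ?_⟩
    have huc' : (u : G) * c = n := congrArg Subtype.val huc
    have hua : (u : G)⁻¹ * a * u ∈ H := by
      have := (mem_normalizer_iff.1 (inv_mem u.2) a).1 ha
      rwa [inv_inv] at this
    have hcc := mem_centralizer_iff.1 (mem_subgroupOf.1 hc) _ hua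
    rw [← huc', show ((u : G) * c)⁻¹ * a * (u * c) = (c : G)⁻¹ * ((u : G)⁻¹ * a * u * c) by group,
      hcc, inv_mul_cancel_left]
  obtain ⟨y, n, hyn, hn, hch, hcA⟩ := fusion P (A := {x}) (g := g⁻¹) (by simpa using hx)
    (by simpa [cimg, mul_assoc] using hg)
  have key : ∀ (A : Set G) (z : G), Chain P A z → ∀ b ∈ A,
      ∃ u ∈ (P : Subgroup G), u⁻¹ * b * u = z⁻¹ * b * z := by
    intro A z hz
    induction hz with
    | nil A => exact fun b _ => ⟨1, one_mem _, rfl⟩
    | step Q w z hT hw hp' hsub _ ih =>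
      intro b hb
      obtain ⟨u, hu, e⟩ := step Q hT w hw b (hsub hb)
      obtain ⟨v, hv, e'⟩ := ih (w⁻¹ * b * w) ⟨b, hb, rfl⟩
      refine ⟨u * v, mul_mem hu hv, ?_⟩
      rw [show (u * v)⁻¹ * b * (u * v) = v⁻¹ * (u⁻¹ * b * u) * v by group, e, e']
      group
  obtain ⟨u, hu, e⟩ := key _ _ hch x rfl
  obtain ⟨v, hv, e'⟩ := step P (tame_self P) n (by rwa [inf_idem]) (y⁻¹ * x * y)
    ⟨hcA ⟨x, rfl, rfl⟩, hcA ⟨x, rfl, rfl⟩⟩
  refine ⟨(u * v)⁻¹, inv_mem (mul_mem hu hv), ?_⟩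
  rw [inv_inv, show (u * v)⁻¹ * x * (u * v) = v⁻¹ * (u⁻¹ * x * u) * v by group, e, e',
    show n⁻¹ * (y⁻¹ * x * y) * n = (y * n)⁻¹ * x * (y * n) by group, ← hyn, inv_inv]

end Cfsg.Agent.S4251
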