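import Cfsg.Statements.S4252
import Mathlib

set_option autoImplicit false
open Cfsg

namespace Cfsg.Agent.S4252

---pre
open scoped Pointwise

/-- Let a finite group G act on a finite set Ω with more than one point, transitively but not regularly, so that no non-identity element of G fixes two distinct points. Then the stabilizer H of any point is a Frobenius complement in G (nontrivial, proper, meeting its other conjugates trivially), and the Frobenius kernel of G with respect to H (the identity together with the elements lying in no conjugate of H) is exactly the set consisting of the identity and the elements fixing no point. -/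
theorem result {G Ω : Type*} [Group G] [Finite G] [Fintype Ω] [MulAction G Ω] (hΩ : 1 < Fintype.card Ω)
    (htrans : ∀ α β : Ω, ∃ g : G, g • α = β) (hnreg : ∃ g : G, g ≠ 1 ∧ ∃ α : Ω, g • α = α)
    (hfix : ∀ g : G, g ≠ 1 → ∀ α β : Ω, g • α = α → g • β = β → α = β) (α : Ω) :
    Cfsg.IsFrobeniusComplement (MulAction.stabilizer G α) ∧
      Cfsg.frobeniusKernel (MulAction.stabilizer G α) = {g : G | g = 1 ∨ ∀ ω : Ω, g • ω ≠ ω} := by
  have : MulAction.IsPretransitive G Ω := ⟨htrans⟩
  set H := MulAction.stabilizer G α with hH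
  have hconj : ∀ (g x : G), x ∈ MulAut.conj g • H ↔ x • (g • α) = g • α := by
    intro g x
    rw [Subgroup.mem_pointwise_smul_iff_inv_smul_mem]
    simp only [H, MulAction.mem_stabilizer_iff, MulAut.smul_def, MulAut.conj_inv_apply, mul_smul]
    exact inv_smul_eq_iff
  refine ⟨⟨fun e => ?_, fun e => ?_, fun g hg => ?_⟩, ?_⟩
  · obtain ⟨g, hg1, β, hgβ⟩ := hnreg
    obtain ⟨k, rfl⟩ := htrans α β
    apply hg1
    have h1 : k⁻¹ * g * k ∈ H := by
      simp [H, mul_smul, hgβ]
    rw [e, Subgroup.mem_bot] at h1
    calc g = k * (k⁻¹ * g * k) * k⁻¹ := by group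
      _ = 1 := by rw [h1]; group
  · obtain ⟨β, hβ⟩ := Fintype.exists_ne_of_one_lt_card hΩ α
    obtain ⟨k, rfl⟩ := htrans α β
    exact hβ (MulAction.mem_stabilizer_iff.1 (show k ∈ H from e ▸ Subgroup.mem_top k))
  · rw [Subgroup.eq_bot_iff_forall]
    rintro x ⟨hx1, hx2⟩
    by_contra hx
    exact hg (hfix x hx α (g • α) hx1 ((hconj g x).1 hx2)).symm
  · ext x
    simp only [Cfsg.frobeniusKernel, Set.mem_ofPred_eq]
    refine or_congr Iff.rfl ⟨fun h ω hω => ?_, fun h g hg => h _ ((hconj g x).1 hg)⟩
    obtain ⟨k, rfl⟩ := htrans α ω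
    exact h k ((hconj k x).2 hω)

end Cfsg.Agent.S4252
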