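import Cfsg.Statements.S4261
import Cfsg.Agent.S0048
import Mathlib.GroupTheory.Nilpotent

set_option autoImplicit false
open Cfsg

namespace Cfsg.Agent.S4261

/-- Let M be a maximal subgroup of a finite solvable group G such that x^[G : M] lies in M for every x in G. Then M is normal in G. -/
theorem result {G : Type*} [Group G] [Finite G] (hG : Group.IsSolvable G) (M : Subgroup G) (hM : IsCoatom M)
    (hexp : ∀ x : G, x ^ M.index ∈ M) : M.Normal := by
  haveI := hG
  obtain ⟨q, a, hq, -, hidx⟩ := (isPrimePow_nat_iff _).1 (Cfsg.Agent.S0048.result M hM)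
  haveI := Fact.mk hq
  set D := Subgroup.closure (Set.range fun x : G => x ^ M.index) with hD
  have hDM : D ≤ M := (Subgroup.closure_le M).2 (by rintro _ ⟨x, rfl⟩; exact hexp x)
  haveI : D.Normal := ⟨fun d hd g => by
    have h : D.map (MulAut.conj g).toMonoidHom ≤ D := by
      rw [hD, MonoidHom.map_closure, Subgroup.closure_le]
      rintro _ ⟨_, ⟨y, rfl⟩, rfl⟩
      exact Subgroup.subset_closure ⟨g * y * g⁻¹, by simp [conj_pow]⟩
    simpa using h (Subgroup.mem_map_of_mem _ hd)⟩
  have hp : IsPGroup q (G ⧸ D) := by
    intro x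
    induction x using QuotientGroup.induction_on with
    | _ y =>
      refine ⟨a, ?_⟩
      rw [← QuotientGroup.mk_pow, QuotientGroup.eq_one_iff]
      exact Subgroup.subset_closure ⟨y, by show y ^ M.index = y ^ q ^ a; rw [hidx]⟩
  haveI := hp.isNilpotent
  have hback : (M.map (QuotientGroup.mk' D)).comap (QuotientGroup.mk' D) = M :=
    Subgroup.comap_map_eq_self (by rwa [QuotientGroup.ker_mk'])
  have hco : IsCoatom (M.map (QuotientGroup.mk' D)) := by
    refine ⟨fun h => hM.1 (by rw [← hback, h, Subgroup.comap_top]), fun H hH => ?_⟩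
    have h2 : M < H.comap (QuotientGroup.mk' D) := by
      refine lt_of_le_of_ne (hback.ge.trans (Subgroup.comap_mono hH.le)) fun he => hH.ne ?_
      rw [← Subgroup.map_comap_eq_self_of_surjective (QuotientGroup.mk'_surjective D) H, ← he]
    rw [← Subgroup.map_comap_eq_self_of_surjective (QuotientGroup.mk'_surjective D) H, hM.2 _ h2,
      Subgroup.map_top_of_surjective _ (QuotientGroup.mk'_surjective D)]
  have hn := Subgroup.NormalizerCondition.normal_of_coatom _ Group.normalizerCondition_of_isNilpotent hco
  rw [← hback]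
  exact hn.comap _

end Cfsg.Agent.S4261
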