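import Cfsg.Statements.S4262
import Cfsg.Agent.Lib.Perm.NilpotentMaximal

set_option autoImplicit false
open Cfsg

namespace Cfsg.Agent.S4262

theorem mem_center_of_prime_powers {G : Type*} [Group G]
    (h : ∀ (x : G) (r k : ℕ), r.Prime → r ≠ 2 → orderOf x = r ^ k → x ∈ Subgroup.center G) :
    ∀ (m : ℕ) (z : G), orderOf z = m → Odd m → z ∈ Subgroup.center G := by
  intro m
  induction m using Nat.recOnPosPrimePosCoprime with
  | prime_pow p n hp hn =>
    intro z hz hodd
    refine h z p n hp (fun e => ?_) hz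
    subst e
    exact (Nat.not_odd_iff_even.mpr (Nat.even_pow.mpr ⟨even_two, hn.ne'⟩)) hodd
  | zero => intro z _ hodd; simp at hodd
  | one => intro z hz _; rw [orderOf_eq_one_iff.mp hz]; exact one_mem _
  | coprime a b ha hb hab iha ihb =>
    intro z hz hodd
    obtain ⟨hoa, hob⟩ := Nat.odd_mul.mp hodd
    have h1 := ihb (z ^ a) (by rw [orderOf_pow' z (by omega), hz, Nat.gcd_eq_right (dvd_mul_right a b),
      Nat.mul_div_cancel_left b (by omega)]) hob
    have h2 := iha (z ^ b) (by rw [orderOf_pow' z (by omega), hz, Nat.gcd_eq_right (dvd_mul_left b a),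
      Nat.mul_div_cancel _ (by omega)]) hoa
    have hb' := Nat.gcd_eq_gcd_ab a b
    rw [hab.gcd_eq_one] at hb'
    have h3 := mul_mem ((Subgroup.center G).zpow_mem h1 (Nat.gcdA a b))
      ((Subgroup.center G).zpow_mem h2 (Nat.gcdB a b))
    rw [← zpow_natCast z a, ← zpow_natCast z b, ← zpow_mul, ← zpow_mul, ← zpow_add, ← hb'] at h3
    simpa using h3

/-- Let G be a finite group in which the centralizer of every non-central element is a maximal subgroup of G. Then G is solvable. -/
theorem result {G : Type*} [Group G] [Finite G]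
    (h : ∀ g : G, g ∉ Subgroup.center G → IsCoatom (Subgroup.centralizer ({g} : Set G))) :
    Group.IsSolvable G := by
  by_cases hex : ∀ (x : G) (r k : ℕ), r.Prime → r ≠ 2 → orderOf x = r ^ k → x ∈ Subgroup.center G
  · haveI : Fact (Nat.Prime 2) := ⟨Nat.prime_two⟩
    have h2 : IsPGroup 2 (G ⧸ Subgroup.center G) := fun a => by
      obtain ⟨g, rfl⟩ := QuotientGroup.mk_surjective a
      refine ⟨(orderOf g).factorization 2, ?_⟩
      rw [← QuotientGroup.mk_pow]
      refine (QuotientGroup.eq_one_iff _).mpr (mem_center_of_prime_powers hex _ _ rfl ?_)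
      rw [orderOf_pow' g (pow_ne_zero _ two_ne_zero), Nat.gcd_eq_right (Nat.ordProj_dvd _ _)]
      rw [← Nat.not_even_iff_odd, even_iff_two_dvd]
      exact Nat.not_dvd_ordCompl Nat.prime_two (orderOf_pos g).ne'
    haveI := h2.isNilpotent
    haveI : Group.IsSolvable (Subgroup.center G) := Group.isSolvable_of_comm fun a b => Subtype.ext (Subgroup.mem_center_iff.mp b.2 a)
    exact Group.isSolvable_of_ker_le_range (Subgroup.center G).subtype (QuotientGroup.mk' (Subgroup.center G))
      (by rw [QuotientGroup.ker_mk', Subgroup.range_subtype])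
  push Not at hex
  obtain ⟨x, r, k, hr, hr2, hx, hxc⟩ := hex
  haveI := Fact.mk hr
  set M := Subgroup.centralizer ({x} : Set G) with hMdef
  have hcent : ∀ w : M, (orderOf w).Coprime r → w ∈ Subgroup.center M := fun w hw => by
    have hcm : Commute x (w : G) := (Subgroup.mem_centralizer_singleton_iff.mp w.2).symm
    have hxw : (orderOf x).Coprime (orderOf (w : G)) := by
      rw [hx, Subgroup.orderOf_coe]; exact Nat.Coprime.pow_left _ hw.symm
    have hle : Subgroup.centralizer ({x * (w : G)} : Set G) ≤ M := fun c hc => by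
      rw [Subgroup.mem_centralizer_singleton_iff] at hc ⊢
      have e : (x * (w : G)) ^ orderOf (w : G) = x ^ orderOf (w : G) := by
        rw [hcm.mul_pow, pow_orderOf_eq_one, mul_one]
      have h1 : Commute c (x ^ orderOf (w : G)) := e ▸ (show Commute c (x * w) from hc).pow_right _
      obtain ⟨j, hj⟩ := exists_pow_eq_self_of_coprime hxw.symm
      exact (hj ▸ h1.pow_right j).eq
    have hxwc : x * (w : G) ∉ Subgroup.center G := fun hc => hxc <| by
      refine Subgroup.mem_center_iff.mpr fun g => ?_
      exact Subgroup.mem_centralizer_singleton_iff.mp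
        (hle (Subgroup.mem_centralizer_singleton_iff.mpr (Subgroup.mem_center_iff.mp hc g)))
    have heq : Subgroup.centralizer ({x * (w : G)} : Set G) = M :=
      hle.lt_or_eq.resolve_left fun hlt => (h x hxc).1 ((h _ hxwc).2 _ hlt)
    refine Subgroup.mem_center_iff.mpr fun g => Subtype.ext ?_
    have h1 : (g : G) * (x * w) = x * w * g := Subgroup.mem_centralizer_singleton_iff.mp (heq.ge g.2)
    have h2 : (g : G) * x = x * g := Subgroup.mem_centralizer_singleton_iff.mp g.2
    rw [← mul_assoc, h2, mul_assoc, mul_assoc] at h1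
    exact mul_left_cancel h1
  have hq : IsPGroup r (M ⧸ Subgroup.center M) := fun a => by
    obtain ⟨g, rfl⟩ := QuotientGroup.mk_surjective a
    refine ⟨(orderOf g).factorization r, ?_⟩
    rw [← QuotientGroup.mk_pow]
    refine (QuotientGroup.eq_one_iff _).mpr (hcent _ ?_)
    rw [orderOf_pow' g (pow_ne_zero _ hr.ne_zero), Nat.gcd_eq_right (Nat.ordProj_dvd _ _)]
    exact (Nat.coprime_ordCompl hr (orderOf_pos g).ne').symm
  have hnil : Group.IsNilpotent M := by
    haveI := hq.isNilpotent
    exact Subgroup.isNilpotent_of_ker_le_center (QuotientGroup.mk' (Subgroup.center M)) (QuotientGroup.ker_mk' _).le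
  refine Perm.isSolvable_of_nilpotent_coatom M (h x hxc) hnil fun P => ⟨⟨fun a b => Subtype.ext ?_⟩⟩
  obtain ⟨i, hi⟩ := IsPGroup.iff_orderOf.mp P.isPGroup' a
  have := hcent (a : M) (by
    rw [Subgroup.orderOf_coe, hi]
    exact Nat.Coprime.pow_left _ ((Nat.coprime_primes Nat.prime_two hr).mpr (Ne.symm hr2)))
  exact (Subgroup.mem_center_iff.mp this b).symm

end Cfsg.Agent.S4262
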