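import Cfsg.Statements.S4263
import Cfsg.Agent.Lib.Perm.Fitting

set_option autoImplicit false
open Cfsg

namespace Cfsg.Agent.S4263

open scoped Pointwise

variable {G : Type*} [Group G] [Finite G]

/-- A subgroup `S` of a finite p-group: index powers land in S. -/
theorem pow_index_mem_pgroup {p : ℕ} [Fact p.Prime] {R : Type*} [Group R] [Finite R]
    (hR : IsPGroup p R) (S : Subgroup R) (y : R) : y ^ S.index ∈ S := by
  induction hn : S.index using Nat.strong_induction_on generalizing S with
  | _ n ih =>
    subst hn
    by_cases htop : S = ⊤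
    · subst htop; trivial
    · have hnc : NormalizerCondition R := by
        have := hR.isNilpotent
        exact normalizerCondition_of_isNilpotent
      have hlt := hnc S (lt_top_iff_ne_top.2 htop)
      set T := Subgroup.normalizer (S : Set R)
      have hmul : S.relIndex T * T.index = S.index := Subgroup.relIndex_mul_index hlt.le
      have h2 : 1 < S.relIndex T := by
        have h0 : S.relIndex T ≠ 0 := by
          intro h; rw [h, zero_mul] at hmul; exact S.index_ne_zero_of_finite hmul.symm
        have h1 : S.relIndex T ≠ 1 := by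
          intro h; exact absurd (Subgroup.relIndex_eq_one.1 h) (not_le_of_gt hlt)
        omega
      have hT : y ^ T.index ∈ T := by
        refine ih _ ?_ T rfl
        rw [← hmul]
        exact lt_mul_of_one_lt_left (Nat.pos_of_ne_zero T.index_ne_zero_of_finite) h2
      have hn : (S.subgroupOf T).Normal := Subgroup.normal_in_normalizer
      have := Subgroup.pow_index_mem (S.subgroupOf T) (⟨y ^ T.index, hT⟩ : T)
      rw [Subgroup.mem_subgroupOf] at this
      rw [← hmul, mul_comm, pow_mul]
      simpa [Subgroup.relIndex] using this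

theorem pow_index_mem_pCore {p : ℕ} [Fact p.Prime] {x : G} (hx : x ∈ Cfsg.pCore p G)
    (H : Subgroup G) : x ^ H.index ∈ H := by
  have hn := Perm.pCore_normal' (G := G) p
  set R := Cfsg.pCore p G
  have h1 : H.relIndex R ∣ H.index := by
    have e1 := Subgroup.relIndex_mul_relIndex (H ⊓ R) R (H ⊔ R) inf_le_right le_sup_right
    have e2 := Subgroup.relIndex_mul_relIndex (H ⊓ R) H (H ⊔ R) inf_le_left le_sup_left
    rw [Subgroup.inf_relIndex_right, Subgroup.relIndex_sup_right] at e1
    rw [Subgroup.inf_relIndex_left, ← e1, mul_comm] at e2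
    have e3 : H.relIndex (H ⊔ R) = H.relIndex R :=
      Nat.eq_of_mul_eq_mul_right (Nat.pos_of_ne_zero (Subgroup.index_ne_zero_of_finite (H := R.subgroupOf H))) e2
    exact e3 ▸ Dvd.intro _ (Subgroup.relIndex_mul_index le_sup_left)
  have := pow_index_mem_pgroup (Perm.pCore_isPGroup' (G := G) p) (H.subgroupOf R) ⟨x, hx⟩
  rw [Subgroup.mem_subgroupOf] at this
  obtain ⟨k, hk⟩ := h1
  rw [hk, pow_mul]
  exact H.pow_mem (by simpa [Subgroup.relIndex] using this) k

theorem prop_of_mem_finsetSup (s : Finset ℕ) (hs : ∀ p ∈ s, p.Prime) :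
    ∀ x ∈ ⨆ p ∈ s, Cfsg.pCore p G, ∀ H : Subgroup G, x ^ H.index ∈ H := by
  classical
  induction s using Finset.induction with
  | empty => intro x hx H; simp only [Finset.notMem_empty, iSup_false, iSup_bot, Subgroup.mem_bot] at hx
             simp [hx]
  | @insert a s ha ih =>
    intro x hx H
    have hap : Fact a.Prime := ⟨hs a (Finset.mem_insert_self _ _)⟩
    rw [Finset.iSup_insert] at hx
    have hn := Perm.pCore_normal' (G := G) a
    obtain ⟨u, hu, v, hv, rfl⟩ := Subgroup.mem_sup_of_normal_left.1 hx
    have hc : ∀ w ∈ ⨆ p ∈ s, Cfsg.pCore p G, Commute u w := by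
      intro w hw
      have hle : (⨆ p ∈ s, Cfsg.pCore p G) ≤ Subgroup.centralizer ({u} : Set G) := by
        refine iSup₂_le fun r hr => ?_
        have hrp : Fact r.Prime := ⟨hs r (Finset.mem_insert_of_mem hr)⟩
        have hne : a ≠ r := fun h => ha (h ▸ hr)
        intro w hw
        rw [Subgroup.mem_centralizer_singleton_iff]
        exact (Subgroup.commute_of_normal_of_disjoint _ _ hn (Perm.pCore_normal' r)
          ((Perm.pCore_isPGroup' a).disjoint_of_ne _ _ hne _ _ (Perm.pCore_isPGroup' r))
          u w hu hw).symm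
      exact (Subgroup.mem_centralizer_singleton_iff.1 (hle hw)).symm
    rw [(hc v hv).mul_pow]
    exact H.mul_mem (pow_index_mem_pCore hu H)
      (ih (fun p hp => hs p (Finset.mem_insert_of_mem hp)) v hv H)

/-- Let G be a finite group. An element x lies in the Fitting subgroup F(G) if and only if, for every subgroup H of G, the power x^[G : H] lies in H. -/
theorem result {G : Type*} [Group G] [Finite G] (x : G) :
    x ∈ Cfsg.fittingSubgroup G ↔ ∀ H : Subgroup G, x ^ H.index ∈ H := by
  constructor
  · intro hx
    exact prop_of_mem_finsetSup _ (fun p hp => Nat.prime_of_mem_primeFactors hp) x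
      (Perm.fitting_le_iSup_pCore hx)
  · intro h
    have hF := Perm.fitting_normal (G := G)
    rw [← QuotientGroup.eq_one_iff, ← orderOf_eq_one_iff]
    set d := orderOf (x : G ⧸ Cfsg.fittingSubgroup G)
    by_contra hd
    obtain ⟨p, hp, hpd⟩ := Nat.exists_prime_and_dvd hd
    have hpf : Fact p.Prime := ⟨hp⟩
    obtain ⟨P⟩ := (inferInstance : Nonempty (Sylow p G))
    have hm : x ^ (P : Subgroup G).index ∈ Cfsg.pCore p G := by
      refine Perm.mem_pCore_of_forall_sylow fun Q => ?_
      have : (Q : Subgroup G).index = (P : Subgroup G).index := by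
        have h1 := (Q : Subgroup G).card_mul_index
        rw [← (P : Subgroup G).card_mul_index, Q.card_eq_multiplicity, P.card_eq_multiplicity] at h1
        exact Nat.eq_of_mul_eq_mul_left (pow_pos hp.pos _) h1
      exact this ▸ h Q
    have : d ∣ (P : Subgroup G).index := by
      rw [orderOf_dvd_iff_pow_eq_one, ← QuotientGroup.mk_pow, QuotientGroup.eq_one_iff]
      exact Perm.pCore_le_fitting p hm
    exact P.not_dvd_index (hpd.trans this)

end Cfsg.Agent.S4263
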