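import Cfsg.Statements.S4269
import Cfsg.Agent.Lib.Solv.SchurZassenhaus


set_option autoImplicit false
open scoped Pointwise
open scoped commutatorElement
open scoped commutatorElement
open Cfsg

namespace Cfsg.Agent.S4269

/-- Let G be a finite group, V an abelian normal subgroup and H a subgroup with HV = G. Then H is pronormal in G (H and gHg⁻¹ are conjugate inside the subgroup they generate, for every g) if and only if every H-invariant subgroup U of V satisfies U = N_U(H)·[H, U], that is, U is the join of U ∩ N_G(H) and the commutator subgroup [H, U]. -/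
theorem result {G : Type*} [Group G] [Finite G]
    (V : Subgroup G) [V.Normal] (hV : IsMulCommutative ↥V) (H : Subgroup G) (hHV : H ⊔ V = ⊤) :
    Cfsg.IsPronormal H ↔
      ∀ U : Subgroup G, U ≤ V → (∀ h ∈ H, U.map (MulAut.conj h).toMonoidHom = U) →
        U = (U ⊓ Subgroup.normalizer (H : Set G)) ⊔ ⁅H, U⁆ := by
  open Subgroup in
  have hVc : ∀ a ∈ V, ∀ b ∈ V, a * b = b * a := fun a ha b hb =>
    haveI := hV; congrArg Subtype.val (mul_comm' (⟨a, ha⟩ : V) ⟨b, hb⟩)
  constructor
  · intro hp U hUV hUi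
    have hnU : H ≤ normalizer (U : Set G) := by
      intro h hh
      rw [mem_normalizer_iff_map_conj_eq]
      exact hUi h hh
    set K := ⁅H, U⁆
    have hKU : K ≤ U := le_normalizer_iff_commutator_le_right.1 hnU
    have hnK : H ≤ normalizer (K : Set G) := (le_inf le_normalizer hnU).trans (Cfsg.Agent.Solv.normalizer_le_normalizer_commutator H U)
    refine le_antisymm (fun u hu => ?_) (sup_le inf_le_left hKU)
    obtain ⟨x, hx, hxe⟩ := hp u
    have hJ : H ⊔ H.map (MulAut.conj u).toMonoidHom ≤ H ⊔ K := by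
      refine sup_le le_sup_left ?_
      rintro _ ⟨h, hh, rfl⟩
      show u * h * u⁻¹ ∈ H ⊔ K
      rw [show u * h * u⁻¹ = h * ⁅h⁻¹, u⁆ by rw [commutatorElement_def]; group]
      exact mul_mem (mem_sup_left hh) (mem_sup_right (commutator_mem_commutator (inv_mem hh) hu))
    have hx' : x ∈ ((H ⊔ K : Subgroup G) : Set G) := hJ hx
    rw [coe_mul_of_left_le_normalizer_right H K hnK] at hx'
    obtain ⟨h, hh, k, hk, rfl⟩ := hx'
    have hk' : h * k * h⁻¹ ∈ K := (mem_normalizer_iff.1 (hnK hh) k).1 hk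
    have hn : (h * k * h⁻¹)⁻¹ * u ∈ normalizer (H : Set G) := by
      rw [mem_normalizer_iff_map_conj_eq]
      have e : H.map (MulAut.conj h).toMonoidHom = H := mem_normalizer_iff_map_conj_eq.1 (le_normalizer hh)
      have e2 : H.map (MulAut.conj u).toMonoidHom = H.map (MulAut.conj (h * k * h⁻¹)).toMonoidHom := by
        rw [hxe]
        conv_rhs => rw [← e]
        rw [Subgroup.map_map]
        congr 1
        ext t
        simp [mul_assoc]
      have e3 := congrArg (fun L : Subgroup G => L.map (MulAut.conj (h * k * h⁻¹)⁻¹).toMonoidHom) e2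
      simp only [Subgroup.map_map] at e3
      convert e3 using 2
      · ext t; simp [mul_assoc]
      · rw [← Subgroup.map_id H]
        simp only [Subgroup.map_map]
        congr 1
        ext t; simp [mul_assoc]
    rw [show u = (h * k * h⁻¹) * ((h * k * h⁻¹)⁻¹ * u) by group]
    exact mul_mem (mem_sup_right hk') (mem_sup_left ⟨U.mul_mem (U.inv_mem (hKU hk')) hu, hn⟩)
  intro hU g
  obtain ⟨v, hv, h₀, hh₀, hg⟩ := mem_sup_of_normal_left.1 (show g ∈ V ⊔ H by rw [sup_comm, hHV]; exact mem_top g)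
  have hgv : H.map (MulAut.conj g).toMonoidHom = H.map (MulAut.conj v).toMonoidHom := by
    conv_rhs => rw [← mem_normalizer_iff_map_conj_eq.1 (le_normalizer hh₀ : h₀ ∈ normalizer (H : Set G))]
    rw [Subgroup.map_map, ← hg]
    congr 1
    ext t; simp [mul_assoc]
  rw [hgv]
  set J := H ⊔ H.map (MulAut.conj v).toMonoidHom
  set W := closure {w : G | ∃ c ∈ H, w = c * v * c⁻¹}
  have hWV : W ≤ V := (closure_le _).2 (by rintro _ ⟨c, -, rfl⟩; exact Normal.conj_mem inferInstance v hv c)
  have hWi : ∀ h ∈ H, W.map (MulAut.conj h).toMonoidHom = W := by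
    intro h hh
    refine eq_of_le_of_card_ge ?_ (card_map_of_injective (MulAut.conj h).injective).ge
    rw [MonoidHom.map_closure, closure_le]
    rintro _ ⟨_, ⟨c, hc, rfl⟩, rfl⟩
    exact subset_closure ⟨h * c, mul_mem hh hc, by simp [mul_assoc]⟩
  have hcom : ⁅H, W⁆ ≤ J := by
    have key : ∀ w ∈ W, ∀ h ∈ H, ⁅h, w⁆ ∈ J := by
      intro w hw
      induction hw using closure_induction with
      | mem w hw =>
        obtain ⟨c, hc, rfl⟩ := hw
        intro h hh
        rw [show ⁅h, c * v * c⁻¹⁆ = c * ((c⁻¹ * h * c) * (v * (c⁻¹ * h * c)⁻¹ * v⁻¹)) * c⁻¹ by rw [commutatorElement_def]; group]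
        have hh' : c⁻¹ * h * c ∈ H := mul_mem (mul_mem (inv_mem hc) hh) hc
        exact mul_mem (mul_mem (mem_sup_left hc) (mul_mem (mem_sup_left hh') (mem_sup_right ⟨_, inv_mem hh', rfl⟩))) (inv_mem (mem_sup_left hc))
      | one => intro h _; rw [commutatorElement_one_right]; exact one_mem _
      | mul a b ha hb iha ihb =>
        intro h hh
        have hca : ∀ a ∈ V, ⁅h, a⁆ ∈ V := fun a ha => by
          rw [commutatorElement_def, show h * a * h⁻¹ * a⁻¹ = (h * a * h⁻¹) * a⁻¹ from rfl]
          exact mul_mem (Normal.conj_mem inferInstance a ha h) (inv_mem ha)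
        rw [show ⁅h, a * b⁆ = ⁅h, a⁆ * (a * ⁅h, b⁆ * a⁻¹) by rw [commutatorElement_def, commutatorElement_def, commutatorElement_def]; group,
          hVc a (hWV ha) _ (hca b (hWV hb)), mul_inv_cancel_right]
        exact mul_mem (iha h hh) (ihb h hh)
      | inv a ha iha =>
        intro h hh
        have hca : ⁅h, a⁆ ∈ V := by
          rw [commutatorElement_def]
          exact mul_mem (Normal.conj_mem inferInstance a (hWV ha) h) (inv_mem (hWV ha))
        rw [show ⁅h, a⁻¹⁆ = a⁻¹ * ⁅h, a⁆⁻¹ * a by rw [commutatorElement_def, commutatorElement_def]; group,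
          hVc a⁻¹ (inv_mem (hWV ha)) _ (inv_mem hca), inv_mul_cancel_right]
        exact inv_mem (iha h hh)
    exact commutator_le.2 fun h hh w hw => key w hw h hh
  have hvW : v ∈ W := subset_closure ⟨1, one_mem H, by group⟩
  obtain ⟨n, hn, k, hk, hnk⟩ : ∃ n ∈ W ⊓ normalizer (H : Set G), ∃ k ∈ ⁅H, W⁆, n * k = v := by
    have hKW : ⁅H, W⁆ ≤ W := le_normalizer_iff_commutator_le_right.1 fun h hh => mem_normalizer_iff_map_conj_eq.2 (hWi h hh)
    have h1 : v ∈ (((W ⊓ normalizer (H : Set G)) ⊔ ⁅H, W⁆ : Subgroup G) : Set G) := (hU W hWV hWi).le hvW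
    rw [coe_mul_of_left_le_normalizer_right _ _ (fun a (ha : a ∈ W ⊓ normalizer (H : Set G)) => centralizer_le_normalizer _ (mem_centralizer_iff.2 fun b hb => hVc b (hWV (hKW hb)) a (hWV ha.1)))] at h1
    exact h1
  refine ⟨k, hcom hk, ?_⟩
  have hk2 : k ∈ V := hWV ((le_normalizer_iff_commutator_le_right.1 fun h hh => mem_normalizer_iff_map_conj_eq.2 (hWi h hh)) hk)
  conv_rhs => rw [← mem_normalizer_iff_map_conj_eq.1 hn.2]
  rw [Subgroup.map_map, ← hnk, hVc n (hWV hn.1) k hk2]
  congr 1
  ext t; simp [mul_assoc]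

end Cfsg.Agent.S4269
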