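import Cfsg.Statements.S4270
import Cfsg.Agent.Lib.Solv.PronormalExtension

set_option autoImplicit false
open scoped Pointwise
open Cfsg

namespace Cfsg.Agent.S4270

/-- Let p be a prime and G a finite group with a normal subgroup A such that, both in A and in G/A, every subgroup containing a Sylow p-subgroup of that group is pronormal in that group. Let T be a Sylow p-subgroup of A. Then every subgroup of G containing a Sylow p-subgroup of G is pronormal in G if and only if (i) every subgroup of N_G(T)/T containing a Sylow p-subgroup of N_G(T)/T is pronormal there, and (ii) for every subgroup H of G containing a Sylow p-subgroup of G, the image of N_G(H) in G/A is the full normalizer of the image of H. (Pronormal: H and gHg⁻¹ are conjugate inside the subgroup they generate, for every g.) -/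
theorem result {G : Type*} [Group G] [Finite G] {p : ℕ} [Fact p.Prime]
    (A : Subgroup G) [A.Normal] (hA : (∀ K : Subgroup ↥A, (∃ P : Sylow p ↥A, (P : Subgroup ↥A) ≤ K) → Cfsg.IsPronormal K)) (hQ : (∀ K : Subgroup (G ⧸ A), (∃ P : Sylow p (G ⧸ A), (P : Subgroup (G ⧸ A)) ≤ K) → Cfsg.IsPronormal K))
    (T : Subgroup G) (hT : ∃ P : Sylow p ↥A, (P : Subgroup ↥A).map A.subtype = T) [(T.subgroupOf (Subgroup.normalizer (T : Set G))).Normal] :
    (∀ K : Subgroup G, (∃ P : Sylow p G, (P : Subgroup G) ≤ K) → Cfsg.IsPronormal K) ↔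
      ((∀ K : Subgroup (↥(Subgroup.normalizer (T : Set G)) ⧸ T.subgroupOf (Subgroup.normalizer (T : Set G))), (∃ P : Sylow p (↥(Subgroup.normalizer (T : Set G)) ⧸ T.subgroupOf (Subgroup.normalizer (T : Set G))), (P : Subgroup (↥(Subgroup.normalizer (T : Set G)) ⧸ T.subgroupOf (Subgroup.normalizer (T : Set G)))) ≤ K) → Cfsg.IsPronormal K) ∧
        ∀ K : Subgroup G, (∃ P : Sylow p G, (P : Subgroup G) ≤ K) →
          (Subgroup.normalizer (K : Set G)).map (QuotientGroup.mk' A) = Subgroup.normalizer ((K.map (QuotientGroup.mk' A) : Subgroup (G ⧸ A)) : Set (G ⧸ A))) := by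
  open Subgroup in
  open Cfsg.Agent.Solv.ProExt in
  obtain ⟨S, hS⟩ := hT
  have hTp : IsPGroup p T := hS ▸ S.isPGroup'.map _
  have hTA : T ≤ A := hS ▸ map_subtype_le _
  obtain ⟨S1, hS1⟩ := hTp.exists_le_sylow
  have hP0 : ∃ P : Sylow p G, (P : Subgroup G) ≤ normalizer (T : Set G) := by
    refine ⟨S1, fun u hu => ?_⟩
    have hSA : (S1 : Subgroup G) ⊓ A = T := by
      refine (eq_of_le_of_card_ge (le_inf hS1 hTA) ?_).symm
      obtain ⟨R, hR⟩ := ((S1.isPGroup'.to_le (inf_le_left : (S1 : Subgroup G) ⊓ A ≤ S1)).comap_subtype (K := A)).exists_le_sylow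
      refine le_trans (le_of_eq (Nat.card_congr (subgroupOfEquivOfLe inf_le_right).toEquiv.symm)) ?_
      rw [← hS, Nat.card_congr ((S : Subgroup A).equivMapOfInjective A.subtype A.subtype_injective).symm.toEquiv,
        S.card_eq_multiplicity, ← R.card_eq_multiplicity]
      exact Nat.le_of_dvd Nat.card_pos (card_dvd_of_le hR)
    rw [mem_normalizer_iff_cj, ← hSA, cj_inf, cj_normal u A, mem_normalizer_iff_cj.1 (le_normalizer hu)]
  rw [← rel_iff T hTp hP0]
  constructor
  · intro hall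
    refine ⟨fun L hL _ g _ => hall L hL g, fun K hK => le_antisymm (le_normalizer_map _) ?_⟩
    intro gq hgq
    obtain ⟨g, rfl⟩ := QuotientGroup.mk'_surjective A gq
    obtain ⟨x, hx, hxe⟩ := hall K hK g
    have he : (K.map (MulAut.conj g).toMonoidHom).map (QuotientGroup.mk' A) = K.map (QuotientGroup.mk' A) := by
      refine Eq.trans ?_ (mem_normalizer_iff_map_conj_eq.1 hgq)
      rw [Subgroup.map_map, Subgroup.map_map]
      congr 1
    have hxK : QuotientGroup.mk' A x ∈ K.map (QuotientGroup.mk' A) := by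
      have := mem_map_of_mem (QuotientGroup.mk' A) hx
      rwa [Subgroup.map_sup, he, sup_idem] at this
    rw [show g = x * (x⁻¹ * g) by group, map_mul]
    refine mul_mem (map_mono le_normalizer hxK) (mem_map_of_mem _ (mem_normalizer_iff_cj.2 ?_))
    rw [← cj_mul]
    show cj x⁻¹ (K.map (MulAut.conj g).toMonoidHom) = K
    rw [hxe]
    exact cj_inv_cancel x K
  rintro ⟨hrel, hnorm⟩ K ⟨P, hP⟩
  refine pronormal_of_rel A hA T ⟨S, hS⟩ hrel K ⟨P, hP⟩ fun g => ?_
  obtain ⟨xq, hxq, hxe⟩ := hQ (K.map (QuotientGroup.mk' A)) ⟨P.mapSurjective (QuotientGroup.mk'_surjective A), map_mono hP⟩ (QuotientGroup.mk' A g)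
  have hm : (K.map (QuotientGroup.mk' A)).map (MulAut.conj (QuotientGroup.mk' A g)).toMonoidHom = (cj g K).map (QuotientGroup.mk' A) := by
    rw [cj, Subgroup.map_map, Subgroup.map_map]
    congr 1
  rw [hm, ← Subgroup.map_sup] at hxq
  obtain ⟨x, hx, rfl⟩ := hxq
  have hn : QuotientGroup.mk' A (x⁻¹ * g) ∈ normalizer ((K.map (QuotientGroup.mk' A) : Subgroup (G ⧸ A)) : Set (G ⧸ A)) := by
    rw [mem_normalizer_iff_cj, map_mul, map_inv, ← cj_mul]
    show cj _ ((K.map (QuotientGroup.mk' A)).map (MulAut.conj (QuotientGroup.mk' A g)).toMonoidHom) = _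
    rw [hxe]
    exact cj_inv_cancel _ _
  rw [← hnorm K ⟨P, hP⟩] at hn
  obtain ⟨w, hw, hwe⟩ := hn
  refine ⟨x, hx, x⁻¹ * g * w⁻¹, ?_, ?_⟩
  · rw [← QuotientGroup.eq_one_iff, ← QuotientGroup.mk'_apply, map_mul, map_inv, hwe, mul_inv_cancel]
  · rw [cj_mul]
    conv_rhs => rw [show x * (x⁻¹ * g * w⁻¹) = g * w⁻¹ by group, ← cj_mul, mem_normalizer_iff_cj.1 (inv_mem hw)]

end Cfsg.Agent.S4270
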