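import Cfsg.Statements.S4271
import Cfsg.Agent.Lib.Solv.PronormalExtension

set_option autoImplicit false
open scoped Pointwise
open Cfsg

namespace Cfsg.Agent.S4271

/-- Let p be a prime and G a finite group with a normal subgroup A such that every subgroup of A containing a Sylow p-subgroup of A is pronormal in A, and the Sylow p-subgroups of G/A are self-normalizing. Let T be a Sylow p-subgroup of A. Then every subgroup of G containing a Sylow p-subgroup of G is pronormal in G if and only if every subgroup of N_G(T)/T containing a Sylow p-subgroup of N_G(T)/T is pronormal in N_G(T)/T. (Pronormal: H and gHg⁻¹ are conjugate inside the subgroup they generate, for every g.) -/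
theorem result {G : Type*} [Group G] [Finite G] {p : ℕ} [Fact p.Prime]
    (A : Subgroup G) [A.Normal] (hA : (∀ K : Subgroup ↥A, (∃ P : Sylow p ↥A, (P : Subgroup ↥A) ≤ K) → Cfsg.IsPronormal K))
    (hQ : ∀ P : Sylow p (G ⧸ A), Subgroup.normalizer ((P : Subgroup (G ⧸ A)) : Set (G ⧸ A)) = P)
    (T : Subgroup G) (hT : ∃ P : Sylow p ↥A, (P : Subgroup ↥A).map A.subtype = T) [(T.subgroupOf (Subgroup.normalizer (T : Set G))).Normal] :
    (∀ K : Subgroup G, (∃ P : Sylow p G, (P : Subgroup G) ≤ K) → Cfsg.IsPronormal K) ↔ (∀ K : Subgroup (↥(Subgroup.normalizer (T : Set G)) ⧸ T.subgroupOf (Subgroup.normalizer (T : Set G))), (∃ P : Sylow p (↥(Subgroup.normalizer (T : Set G)) ⧸ T.subgroupOf (Subgroup.normalizer (T : Set G))), (P : Subgroup (↥(Subgroup.normalizer (T : Set G)) ⧸ T.subgroupOf (Subgroup.normalizer (T : Set G)))) ≤ K) → Cfsg.IsPronormal K) := by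
  open Subgroup in
  open Cfsg.Agent.Solv.ProExt in
  obtain ⟨S, hS⟩ := hT
  have hTp : IsPGroup p T := hS ▸ S.isPGroup'.map _
  have hTA : T ≤ A := hS ▸ map_subtype_le _
  obtain ⟨S1, hS1⟩ := hTp.exists_le_sylow
  have hP0 : ∃ P : Sylow p G, (P : Subgroup G) ≤ normalizer (T : Set G) := by
    refine ⟨S1, fun u hu => ?_⟩
    have hSA : (S1 : Subgroup G) ⊓ A = T := by
      refine (eq_of_le_of_card_ge (le_inf hS1 hTA) ?_).symm
      obtain ⟨R, hR⟩ := ((S1.isPGroup'.to_le (inf_le_left : (S1 : Subgroup G) ⊓ A ≤ S1)).comap_subtype (K := A)).exists_le_sylow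
      refine le_trans (le_of_eq (Nat.card_congr (subgroupOfEquivOfLe inf_le_right).toEquiv.symm)) ?_
      rw [← hS, Nat.card_congr ((S : Subgroup A).equivMapOfInjective A.subtype A.subtype_injective).symm.toEquiv,
        S.card_eq_multiplicity, ← R.card_eq_multiplicity]
      exact Nat.le_of_dvd Nat.card_pos (card_dvd_of_le hR)
    rw [mem_normalizer_iff_cj, ← hSA, cj_inf, cj_normal u A, mem_normalizer_iff_cj.1 (le_normalizer hu)]
  rw [← rel_iff T hTp hP0]
  refine ⟨fun hall L hL _ g _ => hall L hL g, ?_⟩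
  rintro hrel K ⟨P, hP⟩
  refine pronormal_of_rel A hA T ⟨S, hS⟩ hrel K ⟨P, hP⟩ fun g => ?_
  set J := K ⊔ cj g K
  have hPg : ((g • P : Sylow p G) : Subgroup G) ≤ J := by
    rw [Sylow.coe_subgroup_smul]
    rintro _ ⟨z, hz, rfl⟩
    exact mem_sup_right ⟨z, hP hz, rfl⟩
  obtain ⟨x, hx⟩ := MulAction.exists_smul_eq J (P.subtype (hP.trans le_sup_left)) ((g • P : Sylow p G).subtype hPg)
  have hx' : (x : G) • P = g • P := by
    apply Sylow.ext
    have h := congrArg (fun R : Sylow p J => (R : Subgroup J).map J.subtype) hx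
    refine Eq.trans ?_ (h.trans (map_subgroupOf_eq_of_le hPg))
    rw [Sylow.coe_subgroup_smul, Sylow.coe_subgroup_smul]
    ext z
    constructor
    · rintro ⟨w, hw, rfl⟩
      exact ⟨x * ⟨w, (hP.trans le_sup_left) hw⟩ * x⁻¹, ⟨⟨w, (hP.trans le_sup_left) hw⟩, hw, rfl⟩, rfl⟩
    · rintro ⟨_, ⟨w, hw, rfl⟩, rfl⟩
      exact ⟨(w : G), hw, rfl⟩
  have hn : (x : G)⁻¹ * g ∈ normalizer ((P : Subgroup G) : Set G) := by
    exact Sylow.smul_eq_iff_mem_normalizer.1 (by rw [mul_smul, ← hx', inv_smul_smul])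
  have hn2 : QuotientGroup.mk' A ((x : G)⁻¹ * g) ∈ normalizer (((P.mapSurjective (QuotientGroup.mk'_surjective A) : Sylow p (G ⧸ A)) : Subgroup (G ⧸ A)) : Set (G ⧸ A)) :=
    le_normalizer_map _ (mem_map_of_mem _ hn)
  rw [hQ] at hn2
  obtain ⟨u, hu, hue⟩ := hn2
  refine ⟨x, x.2, (x : G)⁻¹ * g * u⁻¹, ?_, ?_⟩
  · rw [← QuotientGroup.eq_one_iff, ← QuotientGroup.mk'_apply, map_mul, map_inv, hue, mul_inv_cancel]
  · rw [cj_mul]
    conv_rhs => rw [show (x : G) * ((x : G)⁻¹ * g * u⁻¹) = g * u⁻¹ by group, ← cj_mul, mem_normalizer_iff_cj.1 (le_normalizer (inv_mem (hP hu)))]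

end Cfsg.Agent.S4271
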