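import Cfsg.Statements.S4275
import Mathlib

set_option autoImplicit false
open Cfsg

namespace Cfsg.Agent.S4275

/-- Let G be a transitive group of permutations of a finite set Ω, let o ∈ Ω, and let α be an automorphism of G. Then α is induced by conjugation by a permutation of Ω normalizing G if and only if the image under α of the stabilizer of o fixes some point of Ω. -/
theorem result {Ω : Type*} [Fintype Ω] (G : Subgroup (Equiv.Perm Ω)) (htr : MulAction.IsPretransitive G Ω) (o : Ω) (α : G ≃* G) : (∃ σ : Equiv.Perm Ω, σ ∈ Subgroup.normalizer (G : Set (Equiv.Perm Ω)) ∧ ∀ g : G, ((α g : G) : Equiv.Perm Ω) = σ * (g : Equiv.Perm Ω) * σ⁻¹) ↔ ∃ ω : Ω, ∀ g ∈ (MulAction.stabilizer G o).map α.toMonoidHom, g • ω = ω := by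
  constructor
  · rintro ⟨σ, -, hσ⟩
    refine ⟨σ o, ?_⟩
    rintro g ⟨h, hh, rfl⟩
    show ((α h : G) : Equiv.Perm Ω) (σ o) = σ o
    rw [hσ]
    simp only [Equiv.Perm.mul_apply, Equiv.Perm.inv_def, Equiv.symm_apply_apply]
    exact congrArg σ hh
  · rintro ⟨ω, hω⟩
    classical
    have hwd : ∀ g h : G, g • o = h • o → α g • ω = α h • ω := by
      intro g h e
      have h1 : h⁻¹ * g ∈ MulAction.stabilizer G o := by
        rw [MulAction.mem_stabilizer_iff, mul_smul, e, inv_smul_smul]
      have h2 := hω (α (h⁻¹ * g)) ⟨_, h1, rfl⟩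
      rw [map_mul, map_inv, mul_smul, inv_smul_eq_iff] at h2
      exact h2
    choose c hc using fun x : Ω => MulAction.exists_smul_eq G o x
    let s : Ω → Ω := fun x => α (c x) • ω
    have hs : Function.Surjective s := by
      intro y
      obtain ⟨g, rfl⟩ := MulAction.exists_smul_eq G ω y
      refine ⟨α.symm g • o, ?_⟩
      show α (c _) • ω = _
      rw [hwd (c _) (α.symm g) (hc _), MulEquiv.apply_symm_apply]
    let σ : Equiv.Perm Ω := Equiv.ofBijective s ((Finite.injective_iff_bijective).1 (Finite.injective_iff_surjective.2 hs))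
    have hσ : ∀ (g : G) (x : Ω), σ (g • x) = α g • σ x := by
      intro g x
      show α (c _) • ω = α g • α (c x) • ω
      rw [← mul_smul, ← map_mul]
      exact hwd _ _ (by rw [hc, mul_smul, hc])
    have heq : ∀ g : G, ((α g : G) : Equiv.Perm Ω) = σ * (g : Equiv.Perm Ω) * σ⁻¹ := by
      intro g
      ext y
      obtain ⟨x, rfl⟩ := σ.surjective y
      simp only [Equiv.Perm.mul_apply, Equiv.Perm.inv_def, Equiv.symm_apply_apply]
      exact (hσ g x).symm
    refine ⟨σ, ?_, heq⟩
    rw [Subgroup.mem_normalizer_iff]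
    intro x
    constructor
    · intro hx
      have := heq ⟨x, hx⟩
      exact this ▸ (α ⟨x, hx⟩).2
    · intro hx
      have := heq (α.symm ⟨_, hx⟩)
      rw [MulEquiv.apply_symm_apply] at this
      have h2 : x = ((α.symm ⟨_, hx⟩ : G) : Equiv.Perm Ω) :=
        mul_left_cancel (mul_right_cancel this)
      exact h2 ▸ (α.symm ⟨_, hx⟩).2

end Cfsg.Agent.S4275
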