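import Cfsg.Statements.S4283
import Cfsg.Agent.Lib.Struct.Frobenius
import Cfsg.Agent.Lib.Struct.FrobeniusConj

set_option autoImplicit false
open Cfsg

namespace Cfsg.Agent.S4283

/-- Let G be a finite group with centre Z and let K, H be abelian subgroups of G containing Z such that G/Z is a Frobenius group with complement H/Z and kernel K/Z. Then the conjugacy class sizes of G are exactly 1, [G : K] and [G : H], and these two indices are coprime. (This is the converse half of the characterization of finite groups whose conjugacy class sizes are exactly 1, m and n with m and n coprime.) -/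
theorem result {G : Type*} [Group G] [Finite G] (K H : Subgroup G) (hZK : Subgroup.center G ≤ K) (hZH : Subgroup.center G ≤ H) (hK : IsMulCommutative K) (hH : IsMulCommutative H) (hFrob : Cfsg.IsFrobeniusComplement (H.map (QuotientGroup.mk' (Subgroup.center G)))) (hker : Cfsg.frobeniusKernel (H.map (QuotientGroup.mk' (Subgroup.center G))) = (K.map (QuotientGroup.mk' (Subgroup.center G)) : Set (G ⧸ Subgroup.center G))) : Set.range (fun x : G => (Subgroup.centralizer ({x} : Set G)).index) = ({1, K.index, H.index} : Set ℕ) ∧ K.index.Coprime H.index := by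
  set π := QuotientGroup.mk' (Subgroup.center G) with hπ
  have hπs : Function.Surjective π := QuotientGroup.mk'_surjective _
  obtain ⟨N, hNset, hNn, hNc⟩ := Cfsg.Agent.Struct.Frobenius.exists_kernel hFrob
  have hNK : N = K.map π := SetLike.coe_injective (hNset.trans hker)
  subst hNK
  haveI := hNn
  have hd := hNc.disjoint
  have hiH : (H.map π).index = H.index :=
    Subgroup.index_map_eq H hπs (by rw [hπ, QuotientGroup.ker_mk']; exact hZH)
  have hiK : (K.map π).index = K.index :=
    Subgroup.index_map_eq K hπs (by rw [hπ, QuotientGroup.ker_mk']; exact hZK)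
  have hcardK : Nat.card (K.map π) = H.index := by
    rw [← hiH, ← Cfsg.Agent.Struct.Frobenius.card_kernel hFrob, hker]; rfl
  have hindK : K.index = Nat.card (H.map π) := by
    rw [← hiK]
    refine Nat.eq_of_mul_eq_mul_right (Nat.card_pos (α := K.map π)) ?_
    rw [Subgroup.index_mul_card, ← hNc.card_mul_card, mul_comm]
  have hcop : K.index.Coprime H.index := by
    rw [hindK, ← hiH]; exact Cfsg.Agent.Struct.Frobenius.coprime_card_index hFrob
  have hmemK : ∀ x : G, π x ∈ K.map π → x ∈ K := by
    intro x hx
    have h2 : x ∈ (K.map π).comap π := hx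
    rwa [Subgroup.comap_map_eq_self (by rw [hπ, QuotientGroup.ker_mk']; exact hZK)] at h2
  have hmemH : ∀ x : G, π x ∈ H.map π → x ∈ H := by
    intro x hx
    have h2 : x ∈ (H.map π).comap π := hx
    rwa [Subgroup.comap_map_eq_self (by rw [hπ, QuotientGroup.ker_mk']; exact hZH)] at h2
  have hcommπ : ∀ {x y : G}, y * x = x * y → π y * π x = π x * π y := fun h => by
    rw [← map_mul, h, map_mul]
  have hne : ∀ x : G, x ∉ Subgroup.center G → π x ≠ 1 := fun x hx e =>
    hx ((QuotientGroup.eq_one_iff x).1 e)
  have hCK : ∀ x : G, x ∈ K → x ∉ Subgroup.center G → Subgroup.centralizer ({x} : Set G) = K := by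
    intro x hxK hxZ
    refine le_antisymm (fun y hy => ?_) (fun y hy => ?_)
    · have hc := Subgroup.mem_centralizer_singleton_iff.1 hy
      by_contra hyK
      have hyk : π y ∉ Cfsg.frobeniusKernel (H.map π) := by
        rw [hker]; exact fun h => hyK (hmemK y h)
      obtain ⟨hy1, g, hg⟩ := Cfsg.Agent.Struct.Frobenius.notMem_kernel.1 hyk
      have h2 := Cfsg.Agent.Struct.Frobenius.fpf_of_conj_complement hFrob hNn hd hg hy1
      have h3 : π x ∈ K.map π ⊓ Subgroup.centralizer {π y} :=
        Subgroup.mem_inf.2 ⟨Subgroup.mem_map_of_mem _ hxK,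
          Subgroup.mem_centralizer_singleton_iff.2 (hcommπ hc.symm)⟩
      rw [h2, Subgroup.mem_bot] at h3
      exact hne x hxZ h3
    · exact Subgroup.mem_centralizer_singleton_iff.2
        (congrArg Subtype.val (hK.is_comm.comm (⟨y, hy⟩ : K) ⟨x, hxK⟩))
  have hCH : ∀ x : G, x ∈ H → x ∉ Subgroup.center G → Subgroup.centralizer ({x} : Set G) = H := by
    intro x hxH hxZ
    refine le_antisymm (fun y hy => ?_) (fun y hy => ?_)
    · have hc := Subgroup.mem_centralizer_singleton_iff.1 hy
      exact hmemH y (Cfsg.Agent.Struct.Frobenius.centralizer_le hFrob (Subgroup.mem_map_of_mem _ hxH)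
        (hne x hxZ) (hcommπ hc))
    · exact Subgroup.mem_centralizer_singleton_iff.2
        (congrArg Subtype.val (hH.is_comm.comm (⟨y, hy⟩ : H) ⟨x, hxH⟩))
  have hZtop : ∀ x : G, x ∈ Subgroup.center G → Subgroup.centralizer ({x} : Set G) = ⊤ :=
    fun x hx => top_le_iff.1 fun y _ =>
      Subgroup.mem_centralizer_singleton_iff.2 (Subgroup.mem_center_iff.1 hx y)
  refine ⟨?_, hcop⟩
  ext m
  simp only [Set.mem_range, Set.mem_insert_iff, Set.mem_singleton_iff]
  constructor
  · rintro ⟨x, rfl⟩
    by_cases hxZ : x ∈ Subgroup.center G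
    · exact Or.inl (by rw [hZtop x hxZ, Subgroup.index_top])
    by_cases hxK : x ∈ K
    · exact Or.inr (Or.inl (by rw [hCK x hxK hxZ]))
    · have hxk : π x ∉ Cfsg.frobeniusKernel (H.map π) := by
        rw [hker]; exact fun h => hxK (hmemK x h)
      obtain ⟨-, g, hg⟩ := Cfsg.Agent.Struct.Frobenius.notMem_kernel.1 hxk
      obtain ⟨g, rfl⟩ := hπs g
      rw [← map_inv, ← map_mul, ← map_mul] at hg
      have hx' : g⁻¹ * x * g ∉ Subgroup.center G := fun h => hxZ (by
        have := (inferInstance : (Subgroup.center G).Normal).conj_mem _ h g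
        simpa [mul_assoc] using this)
      have h1 := hCH _ (hmemH _ hg) hx'
      have h2 : Subgroup.centralizer ({x} : Set G) =
          (Subgroup.centralizer ({g⁻¹ * x * g} : Set G)).comap (MulAut.conj g⁻¹).toMonoidHom := by
        ext y
        simp only [Subgroup.mem_comap, Subgroup.mem_centralizer_singleton_iff, MulEquiv.coe_toMonoidHom,
          MulAut.conj_apply, inv_inv]
        constructor
        · intro h
          calc g⁻¹ * y * g * (g⁻¹ * x * g) = g⁻¹ * (y * x) * g := by group
            _ = g⁻¹ * (x * y) * g := by rw [h]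
            _ = g⁻¹ * x * g * (g⁻¹ * y * g) := by group
        · intro h
          calc y * x = g * (g⁻¹ * y * g * (g⁻¹ * x * g)) * g⁻¹ := by group
            _ = g * (g⁻¹ * x * g * (g⁻¹ * y * g)) * g⁻¹ := by rw [h]
            _ = x * y := by group
      refine Or.inr (Or.inr ?_)
      rw [h2, h1, Subgroup.index_comap_of_surjective]
      exact (MulAut.conj g⁻¹).surjective
  · rintro (rfl | rfl | rfl)
    · exact ⟨1, by rw [hZtop 1 (one_mem _), Subgroup.index_top]⟩
    · obtain ⟨y, hy, hy1⟩ := (Subgroup.bot_or_exists_ne_one (K.map π)).resolve_left (by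
        intro e
        rw [e, Subgroup.card_bot, ← hiH] at hcardK
        exact hFrob.2.1 (Subgroup.index_eq_one.1 hcardK.symm))
      obtain ⟨x, hx, rfl⟩ := hy
      exact ⟨x, by rw [hCK x hx (fun h => hy1 ((QuotientGroup.eq_one_iff x).2 h))]⟩
    · obtain ⟨y, hy, hy1⟩ := (Subgroup.bot_or_exists_ne_one (H.map π)).resolve_left hFrob.1
      obtain ⟨x, hx, rfl⟩ := hy
      exact ⟨x, by rw [hCH x hx (fun h => hy1 ((QuotientGroup.eq_one_iff x).2 h))]⟩

end Cfsg.Agent.S4283
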