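import Cfsg.Statements.S4292
import Cfsg.Agent.Lib.Char.FpfProduct

set_option autoImplicit false
open Cfsg

namespace Cfsg.Agent.S4292

/-- Let A and B be nontrivial finite groups. Then the direct product A × B occurs as a Frobenius complement if and only if A and B both occur as Frobenius complements and the orders of A and B are coprime. -/
theorem result {A B : Type*} [Group A] [Finite A] [Nontrivial A] [Group B] [Finite B] [Nontrivial B] :
    (∃ (L : Type) (_ : Group L) (_ : Finite L) (H : Subgroup L), Cfsg.IsFrobeniusComplement H ∧ Nonempty ((A × B) ≃* H)) ↔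
    ((∃ (L : Type) (_ : Group L) (_ : Finite L) (H : Subgroup L), Cfsg.IsFrobeniusComplement H ∧ Nonempty (A ≃* H)) ∧
     (∃ (L : Type) (_ : Group L) (_ : Finite L) (H : Subgroup L), Cfsg.IsFrobeniusComplement H ∧ Nonempty (B ≃* H)) ∧
     (Nat.card A).Coprime (Nat.card B)) := by
  open Cfsg.Agent.Char.FpfLift in
  constructor
  · rintro ⟨L, hL1, hL2, H, hH, ⟨e⟩⟩
    have hAB : FpfData (A × B) := fpfData_of_complement hH (H.subtype.comp e.toMonoidHom)
      (H.subtype_injective.comp e.injective) (fun g => (e g).2)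
    obtain ⟨A', hA1, hA2, ⟨eA⟩⟩ := Finite.exists_type_univ_nonempty_mulEquiv.{_, 0} A
    obtain ⟨B', hB1, hB2, ⟨eB⟩⟩ := Finite.exists_type_univ_nonempty_mulEquiv.{_, 0} B
    letI := hA1
    letI := hB1
    haveI : Finite A' := Finite.of_equiv _ eA.toEquiv
    haveI : Finite B' := Finite.of_equiv _ eB.toEquiv
    haveI : Nontrivial A' := eA.symm.toEquiv.nontrivial
    haveI : Nontrivial B' := eB.symm.toEquiv.nontrivial
    refine ⟨?_, ?_, coprime_of_prod hAB⟩
    · obtain ⟨L', i1, i2, K, hK, ⟨f⟩⟩ := exists_complement_prod (A := A') (B := Unit)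
        (fpfData_of_injective hAB ((MonoidHom.inl A B).comp eA.symm.toMonoidHom)
          (fun x y h => eA.symm.injective (congrArg Prod.fst h)))
        (fpfData_of_injective hAB 1 (Function.injective_of_subsingleton _)) (by simp)
      exact ⟨L', i1, i2, K, hK, ⟨eA.trans (MulEquiv.prodUnique (M := A') (N := Unit)).symm |>.trans f⟩⟩
    · obtain ⟨L', i1, i2, K, hK, ⟨f⟩⟩ := exists_complement_prod (A := B') (B := Unit)
        (fpfData_of_injective hAB ((MonoidHom.inr A B).comp eB.symm.toMonoidHom)
          (fun x y h => eB.symm.injective (congrArg Prod.snd h)))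
        (fpfData_of_injective hAB 1 (Function.injective_of_subsingleton _)) (by simp)
      exact ⟨L', i1, i2, K, hK, ⟨eB.trans (MulEquiv.prodUnique (M := B') (N := Unit)).symm |>.trans f⟩⟩
  · rintro ⟨⟨L, hL1, hL2, H, hH, ⟨e⟩⟩, ⟨M, hM1, hM2, K, hK, ⟨f⟩⟩, hco⟩
    haveI : Nontrivial H := e.symm.toEquiv.nontrivial
    obtain ⟨N, i1, i2, C, hC, ⟨k⟩⟩ := exists_complement_prod (A := H) (B := K)
      (fpfData_of_complement hH H.subtype H.subtype_injective (fun g => g.2))
      (fpfData_of_complement hK K.subtype K.subtype_injective (fun g => g.2))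
      (by rwa [← Nat.card_congr e.toEquiv, ← Nat.card_congr f.toEquiv])
    exact ⟨N, i1, i2, C, hC, ⟨(e.prodCongr f).trans k⟩⟩

end Cfsg.Agent.S4292
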