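import Cfsg.Statements.S4293
import Cfsg.Agent.Lib.Perm.Frobenius

set_option autoImplicit false
open scoped Pointwise
open scoped Pointwise
open Cfsg

namespace Cfsg.Agent.S4293

/-- A nontrivial finite subgroup of the multiplicative group of a division ring occurs as a Frobenius complement of some finite Frobenius group. -/
theorem result {D : Type*} [DivisionRing D] (H : Subgroup Dˣ) [Finite H] (hH : H ≠ ⊥) :
    ∃ (L : Type) (_ : Group L) (_ : Finite L) (C : Subgroup L), Cfsg.IsFrobeniusComplement C ∧ Nonempty (H ≃* C) := by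
  classical
  haveI := Fintype.ofFinite H
  -- `q` and the lattice
  set c : H → D := fun h => ((h : Dˣ) : D) with hc
  have hc1 : c 1 = 1 := by simp [c]
  have hcm : ∀ g h : H, c (g * h) = c g * c h := fun g h => by simp [c]
  set M : Submodule ℤ D := Submodule.span ℤ (Set.range c) with hM
  have hMfg : M.FG := Submodule.fg_span (Set.finite_range c)
  have h1M : (1 : D) ∈ M := hc1 ▸ Submodule.subset_span ⟨1, rfl⟩
  have hmul : ∀ (h : H) (v : D), v ∈ M → c h * v ∈ M := by
    intro h v hv
    induction hv using Submodule.span_induction with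
    | mem x hx => obtain ⟨g, rfl⟩ := hx; rw [← hcm]; exact Submodule.subset_span ⟨_, rfl⟩
    | zero => rw [mul_zero]; exact zero_mem _
    | add x y _ _ hx hy => rw [mul_add]; exact add_mem hx hy
    | smul a x _ hx => rw [mul_smul_comm]; exact Submodule.smul_mem _ a hx
  obtain ⟨p, hchar⟩ := CharP.exists D
  obtain ⟨q, hq, hqH, hqM⟩ : ∃ q : ℕ, q.Prime ∧ ¬ q ∣ Nat.card H ∧
      ¬ ∀ v ∈ M, ∃ w ∈ M, v = (q : D) * w := by
    rcases CharP.char_is_prime_or_zero D p with hp | rfl
    · refine ⟨p, hp, fun hd => ?_, fun hall => ?_⟩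
      · haveI : Fact p.Prime := ⟨hp⟩
        obtain ⟨h, hh⟩ := exists_prime_orderOf_dvd_card' (G := H) p hd
        have h1 : (c h - 1) ^ p = 0 := by
          rw [sub_pow_char_of_commute p (Commute.one_right (c h)), one_pow]
          have := pow_orderOf_eq_one h
          rw [hh] at this
          rw [show c h ^ p = c (h ^ p) by simp [c], this, hc1, sub_self]
        have h2 : h = 1 := Subtype.ext (Units.ext (by
          have := sub_eq_zero.1 (eq_zero_of_pow_eq_zero h1)
          simpa [c] using this))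
        rw [h2, orderOf_one] at hh
        exact hp.ne_one hh.symm
      · obtain ⟨w, -, hw⟩ := hall 1 h1M
        rw [CharP.cast_eq_zero, zero_mul] at hw
        exact one_ne_zero hw
    · obtain ⟨q, hq1, hq⟩ := Nat.exists_infinite_primes (Nat.card H + 1)
      refine ⟨q, hq, fun hd => by have := Nat.le_of_dvd Nat.card_pos hd; omega, fun hall => ?_⟩
      obtain ⟨r, hr, hrM⟩ := Submodule.exists_sub_one_mem_and_smul_eq_zero_of_fg_of_le_smul
        (Ideal.span {(q : ℤ)}) M hMfg (fun v hv => by
          obtain ⟨w, hw, rfl⟩ := hall v hv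
          rw [show (q : D) * w = (q : ℤ) • w by simp]
          exact Submodule.smul_mem_smul (Ideal.mem_span_singleton_self _) hw)
      have h0 := hrM 1 h1M
      rw [zsmul_eq_mul, mul_one] at h0
      haveI := CharP.charP_to_charZero D
      rw [Int.cast_eq_zero] at h0
      rw [h0, zero_sub, Ideal.mem_span_singleton, dvd_neg] at hr
      have := Int.eq_one_of_dvd_one (by positivity) hr
      exact hq.ne_one (by exact_mod_cast this)
  -- the module `V = M / qM`
  let μ : M →ₗ[ℤ] M := (q : ℤ) • LinearMap.id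
  let W : Submodule ℤ M := LinearMap.range μ
  let ℓ : H → M →ₗ[ℤ] M := fun h =>
    ((LinearMap.mulLeft ℤ (c h)).comp M.subtype).codRestrict M (fun v => hmul h v v.2)
  have hℓW : ∀ h, W ≤ W.comap (ℓ h) := by
    rintro h _ ⟨w, rfl⟩
    refine ⟨ℓ h w, ?_⟩
    show (q : ℤ) • ℓ h w = ℓ h ((q : ℤ) • w)
    rw [map_smul]
  let β : H → (M ⧸ W) →ₗ[ℤ] (M ⧸ W) := fun h => W.mapQ W (ℓ h) (hℓW h)
  have hβm : ∀ g h v, β (g * h) v = β g (β h v) := by
    intro g h v
    obtain ⟨v, rfl⟩ := W.mkQ_surjective v
    show W.mkQ (ℓ (g * h) v) = W.mkQ (ℓ g (ℓ h v))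
    congr 1
    exact Subtype.ext (show c (g * h) * (v : D) = c g * (c h * v) by rw [hcm, mul_assoc])
  have hβ1 : ∀ v, β 1 v = v := by
    intro v
    obtain ⟨v, rfl⟩ := W.mkQ_surjective v
    show W.mkQ (ℓ 1 v) = W.mkQ v
    congr 1
    exact Subtype.ext (show c 1 * (v : D) = v by rw [hc1, one_mul])
  let α : H → (M ⧸ W) ≃+ (M ⧸ W) := fun h =>
    { toFun := β h
      invFun := β h⁻¹
      left_inv := fun v => by show β h⁻¹ (β h v) = v; rw [← hβm, inv_mul_cancel, hβ1]
      right_inv := fun v => by show β h (β h⁻¹ v) = v; rw [← hβm, mul_inv_cancel, hβ1]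
      map_add' := fun u v => map_add (β h) u v }
  let φ : H →* MulAut (Multiplicative (M ⧸ W)) :=
    { toFun := fun h => AddEquiv.toMultiplicative (α h)
      map_one' := MulEquiv.ext fun v => congrArg Multiplicative.ofAdd (hβ1 v.toAdd)
      map_mul' := fun g h => MulEquiv.ext fun v => congrArg Multiplicative.ofAdd (hβm g h v.toAdd) }
  haveI : Module.Finite ℤ M := Module.Finite.iff_fg.2 hMfg
  haveI : Module.Finite ℤ (M ⧸ W) := inferInstance
  haveI hfin : Finite (M ⧸ W) := by
    refine Module.finite_of_fg_torsion _ fun v => ?_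
    refine ⟨⟨(q : ℤ), mem_nonZeroDivisors_of_ne_zero (by exact_mod_cast hq.ne_zero)⟩, ?_⟩
    obtain ⟨v, rfl⟩ := W.mkQ_surjective v
    show (q : ℤ) • W.mkQ v = 0
    rw [← map_smul, Submodule.mkQ_apply, Submodule.Quotient.mk_eq_zero]
    exact ⟨v, rfl⟩
  let L := SemidirectProduct (Multiplicative (M ⧸ W)) H φ
  haveI : Finite (Multiplicative (M ⧸ W)) := hfin
  haveI : Finite L := Finite.of_equiv _ SemidirectProduct.equivProd.symm
  set N : Subgroup L := (SemidirectProduct.inl : Multiplicative (M ⧸ W) →* L).range with hN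
  set C : Subgroup L := (SemidirectProduct.inr : H →* L).range with hC
  haveI : N.Normal := by
    rw [hN, SemidirectProduct.range_inl_eq_ker_rightHom]; infer_instance
  have hfr : Cfsg.IsFrobeniusComplement C := by
    refine (Cfsg.Agent.Perm.isFrobeniusComplement_of_fpf N C ?_ ?_ ?_ ?_).1
    · rw [eq_top_iff]
      intro x _
      rw [← SemidirectProduct.inl_left_mul_inr_right x]
      exact mul_mem (Subgroup.mem_sup_left ⟨_, rfl⟩) (Subgroup.mem_sup_right ⟨_, rfl⟩)
    · intro hb
      refine hqM fun v hv => ?_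
      have : (SemidirectProduct.inl (Multiplicative.ofAdd (W.mkQ ⟨v, hv⟩)) : L) = 1 :=
        Subgroup.mem_bot.1 (hb.le ⟨_, rfl⟩)
      have h0 : W.mkQ ⟨v, hv⟩ = 0 := by
        have := congrArg SemidirectProduct.left this
        simpa using this
      rw [Submodule.mkQ_apply, Submodule.Quotient.mk_eq_zero] at h0
      obtain ⟨w, hw⟩ := h0
      exact ⟨w, w.2, by have := congrArg Subtype.val hw; simpa [μ] using this.symm⟩
    · intro hb
      refine hH (eq_bot_iff.2 fun x hx => ?_)
      have : (SemidirectProduct.inr (⟨x, hx⟩ : H) : L) = 1 := Subgroup.mem_bot.1 (hb.le ⟨_, rfl⟩)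
      have h0 := congrArg SemidirectProduct.right this
      simpa [Subgroup.mem_bot] using congrArg Subtype.val h0
    · rintro _ ⟨h, rfl⟩ _ ⟨n, rfl⟩ hcom
      by_cases hh : h = 1
      · exact Or.inl (by rw [hh, map_one])
      right
      have hfix : β h n.toAdd = n.toAdd := by
        have := congrArg SemidirectProduct.left hcom.eq
        rw [SemidirectProduct.mul_left, SemidirectProduct.mul_left, SemidirectProduct.left_inr, SemidirectProduct.right_inr,
          SemidirectProduct.left_inl, SemidirectProduct.right_inl, map_one, one_mul, mul_one] at this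
        exact congrArg Multiplicative.toAdd this
      obtain ⟨v, hv⟩ := W.mkQ_surjective n.toAdd
      set d := orderOf h with hd
      have hpow : ∀ i : ℕ, W.mkQ (ℓ (h ^ i) v) = W.mkQ v := by
        intro i
        induction i with
        | zero => rw [pow_zero]; exact hβ1 (W.mkQ v)
        | succ i ih =>
          show β (h ^ (i + 1)) (W.mkQ v) = W.mkQ v
          rw [pow_succ, hβm, hv, hfix, ← hv]
          exact ih
      have hsum : ∑ i ∈ Finset.range d, ℓ (h ^ i) v = 0 := by
        refine Subtype.ext ?_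
        rw [AddSubmonoidClass.coe_finsetSum, ZeroMemClass.coe_zero]
        show ∑ i ∈ Finset.range d, c (h ^ i) * (v : D) = 0
        rw [← Finset.sum_mul]
        have h1 : (∑ i ∈ Finset.range d, c (h ^ i)) * (c h - 1) = 0 := by
          simp only [show ∀ i : ℕ, c (h ^ i) = c h ^ i from fun i => by simp [c]]
          rw [geom_sum_mul, show c h ^ d = c (h ^ d) by simp [c], hd, pow_orderOf_eq_one, hc1, sub_self]
        rcases mul_eq_zero.1 h1 with h2 | h2
        · rw [h2, zero_mul]
        · exact absurd (Subtype.ext (Units.ext (by simpa [c] using sub_eq_zero.1 h2))) hh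
      have h3 : (d : ℤ) • W.mkQ v = 0 := by
        have := congrArg W.mkQ hsum
        rw [map_sum, map_zero, Finset.sum_congr rfl (fun i _ => hpow i), Finset.sum_const, Finset.card_range] at this
        rwa [natCast_zsmul]
      have h4 : (q : ℤ) • W.mkQ v = 0 := by
        rw [← map_smul, Submodule.mkQ_apply, Submodule.Quotient.mk_eq_zero]; exact ⟨v, rfl⟩
      obtain ⟨a, b, hab⟩ := (hq.coprime_iff_not_dvd.2 fun hdd => hqH (hdd.trans (orderOf_dvd_natCard h))).isCoprime
      have h5 : W.mkQ v = 0 := by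
        calc W.mkQ v = (a * q + b * d) • W.mkQ v := by rw [hab, one_smul]
          _ = 0 := by rw [add_smul, mul_smul, mul_smul, h3, h4, smul_zero, smul_zero, add_zero]
      rw [show n = 1 from Multiplicative.toAdd.injective (by rw [← hv, h5]; rfl), map_one]
  have eH : H ≃* C := MonoidHom.ofInjective SemidirectProduct.inr_injective
  -- move to `Type`
  let f : Shrink.{0} L ≃* L := Shrink.mulEquiv
  refine ⟨Shrink.{0} L, inferInstance, Finite.of_equiv L (equivShrink.{0} L), C.map f.symm.toMonoidHom, ?_,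
    ⟨eH.trans (C.equivMapOfInjective _ f.symm.injective)⟩⟩
  obtain ⟨h1, h2, h3⟩ := hfr
  refine ⟨?_, ?_, ?_⟩
  · rwa [Ne, Subgroup.map_eq_bot_iff_of_injective _ f.symm.injective]
  · intro ht
    refine h2 (eq_top_iff.2 fun x _ => ?_)
    obtain ⟨y, hy, hyx⟩ := ht.ge (Subgroup.mem_top (f.symm x))
    rwa [← f.symm.injective hyx]
  · intro g hg
    rw [eq_bot_iff]
    rintro x ⟨hx1, hx2⟩
    obtain ⟨a, ha, rfl⟩ := hx1
    have hg' : f g ∉ C := fun h => hg ⟨f g, h, f.symm_apply_apply g⟩
    have h4 : a ∈ MulAut.conj (f g) • C := by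
      obtain ⟨_, ⟨b, hb, rfl⟩, hb'⟩ := hx2
      refine ⟨b, hb, ?_⟩
      have h5 := congrArg f hb'
      simp at h5 ⊢
      exact h5
    have h6 : a ∈ C ⊓ MulAut.conj (f g) • C := ⟨ha, h4⟩
    rw [h3 _ hg', Subgroup.mem_bot] at h6
    rw [h6, map_one]
    exact one_mem _

end Cfsg.Agent.S4293
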