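import Cfsg.Statements.S4295
import Cfsg.Agent.Lib.Solv.QuaternionKernel
import Cfsg.Agent.Lib.Perm.SemidirectFrobenius
import Mathlib.Data.Nat.Factors

set_option autoImplicit false
open scoped Pointwise
open Cfsg

namespace Cfsg.Agent.S4295

/-- For a natural number m the following are equivalent: (a) some finite group has a Frobenius complement isomorphic to the quaternion group of order 8 whose Frobenius kernel (the identity together with the elements lying in no conjugate of the complement) has exactly m elements; (b) m is an odd perfect square greater than 1. -/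
theorem result (m : ℕ) :
    (∃ (L : Type) (_ : Group L) (_ : Finite L) (H : Subgroup L), Cfsg.IsFrobeniusComplement H ∧
        Nonempty (H ≃* QuaternionGroup 2) ∧ Nat.card (Cfsg.frobeniusKernel H) = m) ↔
    (Odd m ∧ IsSquare m ∧ 1 < m) := by
  open Subgroup in
  constructor
  · rintro ⟨L, _, _, H, hF, ⟨e⟩, rfl⟩
    haveI : Fact (Nat.Prime 2) := ⟨Nat.prime_two⟩
    have hH : IsPGroup 2 H := IsPGroup.of_card (n := 3) (by
      rw [Nat.card_congr e.toEquiv, Nat.card_eq_fintype_card, QuaternionGroup.card]; rfl)
    have hnc : ∀ P : Sylow 2 H, ¬ IsCyclic P := by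
      intro P hc
      obtain ⟨Q, hQ⟩ := (hH.to_subgroup ⊤).exists_le_sylow
      have hPt : (P : Subgroup H) = ⊤ := by
        refine eq_top_of_card_eq _ ?_
        rw [show Nat.card (P : Subgroup H) = Nat.card (Q : Subgroup H) by
          rw [Sylow.card_eq_multiplicity, Sylow.card_eq_multiplicity], top_le_iff.1 hQ, card_top]
      have hcH : IsCyclic (QuaternionGroup 2) := by
        haveI := hc
        refine isCyclic_of_surjective ((e : H →* QuaternionGroup 2).comp (P : Subgroup H).subtype) ?_
        intro q
        exact ⟨⟨e.symm q, hPt.ge (mem_top _)⟩, e.apply_symm_apply q⟩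
      obtain ⟨q, hq⟩ := hcH.exists_generator
      obtain ⟨i, hi⟩ := mem_zpowers_iff.1 (hq (QuaternionGroup.a 1))
      obtain ⟨j, hj⟩ := mem_zpowers_iff.1 (hq (QuaternionGroup.xa 0))
      exact absurd (show (QuaternionGroup.a 1 : QuaternionGroup 2) * QuaternionGroup.xa 0 = QuaternionGroup.xa 0 * QuaternionGroup.a 1 by
        rw [← hi, ← hj]; exact ((Commute.refl q).zpow_zpow i j).eq) (by decide)
    obtain ⟨P⟩ : Nonempty (Sylow 2 H) := inferInstance
    obtain ⟨h1, h2⟩ := Cfsg.Agent.Solv.odd_square_kernel hF ⟨2, inferInstance, P, hnc P⟩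
    refine ⟨h1, h2, ?_⟩
    rw [Cfsg.Agent.Struct.Frobenius.card_kernel hF]
    exact one_lt_index_of_ne_top hF.2.1
  rintro ⟨hodd, ⟨t, rfl⟩, hm⟩
  have ht : 1 < t := by
    rcases Nat.lt_or_ge 1 t with h | h
    · exact h
    · interval_cases t <;> simp at hm
  let l := t.primeFactorsList
  let R : Fin l.length → Type := fun k => ZMod (l.get k)
  haveI hpr : ∀ k : Fin l.length, Fact (l.get k).Prime := fun k => ⟨Nat.prime_of_mem_primeFactorsList (List.get_mem l k)⟩
  have h2 : ∀ k : Fin l.length, ∀ x : ZMod (l.get k), -x = x → x = 0 := fun k x hx => by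
    have hne : (2 : ZMod (l.get k)) ≠ 0 := by
      intro h
      have h' : ((2 : ℕ) : ZMod (l.get k)) = 0 := by exact_mod_cast h
      rw [ZMod.natCast_eq_zero_iff, Nat.prime_dvd_prime_iff_eq (hpr k).out Nat.prime_two] at h'
      have hd : l.get k ∣ t := Nat.dvd_of_mem_primeFactorsList (List.get_mem l k)
      rw [h'] at hd
      have := (Nat.not_even_iff_odd.2 hodd)
      exact this (even_iff_two_dvd.2 (hd.mul_right t))
    exact (mul_eq_zero.1 (show (2 : ZMod (l.get k)) * x = 0 by linear_combination (-1 : ZMod (l.get k)) * hx)).resolve_left hne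
  choose ca cb hab using fun k : Fin l.length => ZMod.sq_add_sq (l.get k) (-1 : ZMod (l.get k))
  let c : ZMod (2 * 2) → ℤ := fun i => if i = 0 then 1 else if i = 2 then -1 else 0
  let s : ZMod (2 * 2) → ℤ := fun i => if i = 1 then 1 else if i = 3 then -1 else 0
  have cadd : ∀ i j, c (i + j) = c i * c j - s i * s j := by decide
  have sadd : ∀ i j, s (i + j) = s i * c j + c i * s j := by decide
  have csub : ∀ i j, c (j - i) = c j * c i + s j * s i := by decide
  have ssub : ∀ i j, s (j - i) = s j * c i - c j * s i := by decide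
  have ctwo : ∀ i j, c (((2 : ℕ) : ZMod (2 * 2)) + j - i) = -(c j * c i + s j * s i) := by decide
  have stwo : ∀ i j, s (((2 : ℕ) : ZMod (2 * 2)) + j - i) = -(s j * c i - c j * s i) := by decide
  let V := (k : Fin l.length) → ZMod (l.get k) × ZMod (l.get k)
  let rot : ZMod (2 * 2) → V → V := fun i v k => ((c i : ZMod (l.get k)) * (v k).1 - (s i : ZMod (l.get k)) * (v k).2, (s i : ZMod (l.get k)) * (v k).1 + (c i : ZMod (l.get k)) * (v k).2)
  let J : V → V := fun v k => (ca k * (v k).1 + cb k * (v k).2, cb k * (v k).1 - ca k * (v k).2)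
  let f : QuaternionGroup 2 → V → V := fun g v => match g with
    | .a i => rot i v
    | .xa i => J (rot i v)
  have hone : ∀ v, f 1 v = v := fun v => by
    show rot 0 v = v
    funext k
    simp (config := { decide := true }) [rot, c, s]
  have hmul : ∀ g h v, f (g * h) v = f g (f h v) := by
    rintro (i | i) (j | j) v <;> funext k <;> refine Prod.ext ?_ ?_
    · show (rot (i + j) v k).1 = _
      simp only [f, rot, cadd, sadd]; push_cast; ring
    · show (rot (i + j) v k).2 = _
      simp only [f, rot, cadd, sadd]; push_cast; ring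
    · show (J (rot (j - i) v) k).1 = _
      simp only [f, rot, J, csub, ssub]; push_cast; ring
    · show (J (rot (j - i) v) k).2 = _
      simp only [f, rot, J, csub, ssub]; push_cast; ring
    · show (J (rot (i + j) v) k).1 = _
      simp only [f, rot, J, cadd, sadd]; push_cast; ring
    · show (J (rot (i + j) v) k).2 = _
      simp only [f, rot, J, cadd, sadd]; push_cast; ring
    · show (rot (((2 : ℕ) : ZMod (2 * 2)) + j - i) v k).1 = _
      simp only [f, rot, J, ctwo, stwo]; push_cast
      linear_combination -(((c j : ZMod (l.get k)) * c i + s j * s i) * (v k).1 + ((c j : ZMod (l.get k)) * s i - s j * c i) * (v k).2) * hab k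
    · show (rot (((2 : ℕ) : ZMod (2 * 2)) + j - i) v k).2 = _
      simp only [f, rot, J, ctwo, stwo]; push_cast
      linear_combination -(((s j : ZMod (l.get k)) * c i - c j * s i) * (v k).1 + ((c j : ZMod (l.get k)) * c i + s j * s i) * (v k).2) * hab k
  have hadd : ∀ g v w, f g (v + w) = f g v + f g w := by
    rintro (i | i) v w <;> funext k
    · show rot i (fun k => v k + w k) k = rot i v k + rot i w k
      refine Prod.ext ?_ ?_ <;> simp [rot] <;> ring
    · show J (rot i (fun k => v k + w k)) k = J (rot i v) k + J (rot i w) k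
      refine Prod.ext ?_ ?_ <;> simp [rot, J] <;> ring
  have hfpf : ∀ g v, f g v = v → g = 1 ∨ v = 0 := by
    intro g v hv
    rcases (show ∀ g : QuaternionGroup 2, g = 1 ∨ g = .a 2 ∨ g * g = .a 2 by decide) g with h | h | h
    · exact Or.inl h
    all_goals
      right
      have hz : f (.a 2) v = v := by
        first
          | exact h ▸ hv
          | rw [← h, hmul, hv, hv]
      funext k
      have hk : rot 2 v k = v k := congrFun hz k
      have e1 := congrArg Prod.fst hk
      have e2 := congrArg Prod.snd hk
      have hc2 : c 2 = -1 := by decide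
      have hs2 : s 2 = 0 := by decide
      simp only [rot, hc2, hs2] at e1 e2
      push_cast at e1 e2
      exact Prod.ext (h2 k _ (by linear_combination e1)) (h2 k _ (by linear_combination e2))
  let φ : QuaternionGroup 2 →* MulAut (Multiplicative V) :=
    { toFun := fun g =>
        { toFun := fun v => Multiplicative.ofAdd (f g (Multiplicative.toAdd v))
          invFun := fun v => Multiplicative.ofAdd (f g⁻¹ (Multiplicative.toAdd v))
          left_inv := fun v => by simp [← hmul, hone]
          right_inv := fun v => by simp [← hmul, hone]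
          map_mul' := fun v w => by simp [hadd] }
      map_one' := MulEquiv.ext fun v => by simp [hone]
      map_mul' := fun g h => MulEquiv.ext fun v => by simp [hmul] }
  haveI : ∀ k : Fin l.length, NeZero (l.get k) := fun k => ⟨(hpr k).out.ne_zero⟩
  haveI : Finite (Multiplicative V) := Finite.of_equiv V Multiplicative.ofAdd
  haveI : Finite (Multiplicative V ⋊[φ] QuaternionGroup 2) := Finite.of_equiv _ SemidirectProduct.equivProd.symm
  have hprod : (∏ k : Fin l.length, l.get k) = t := by
    rw [← List.prod_ofFn, List.ofFn_get, Nat.prod_primeFactorsList (by omega)]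
  have hcardV : Nat.card (Multiplicative V) = t * t := by
    rw [Nat.card_congr Multiplicative.toAdd, Nat.card_pi]
    simp only [Nat.card_prod, Nat.card_zmod, Finset.prod_mul_distrib, hprod]
  haveI : Nontrivial (Multiplicative V) := Finite.one_lt_card_iff_nontrivial.1 (by rw [hcardV]; exact hm)
  haveI : (SemidirectProduct.inl : Multiplicative V →* Multiplicative V ⋊[φ] QuaternionGroup 2).range.Normal := by
    rw [SemidirectProduct.range_inl_eq_ker_rightHom]; infer_instance
  set H := (SemidirectProduct.inr : QuaternionGroup 2 →* Multiplicative V ⋊[φ] QuaternionGroup 2).range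
  have hF : Cfsg.IsFrobeniusComplement H := by
    refine (Cfsg.Agent.Perm.isFrobeniusComplement_of_fpf (SemidirectProduct.inl : Multiplicative V →* Multiplicative V ⋊[φ] QuaternionGroup 2).range _ ?_ ?_ ?_ ?_).1
    · rw [eq_top_iff]
      intro x _
      rw [← SemidirectProduct.inl_left_mul_inr_right x]
      exact mul_mem_sup ⟨_, rfl⟩ ⟨_, rfl⟩
    · rw [Ne, MonoidHom.range_eq_bot_iff]
      intro h
      obtain ⟨n, hn⟩ := exists_ne (1 : Multiplicative V)
      exact hn (SemidirectProduct.inl_injective (by rw [h]; simp))
    · rw [Ne, MonoidHom.range_eq_bot_iff]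
      intro h
      exact absurd (SemidirectProduct.inr_injective (by rw [h]; simp : (SemidirectProduct.inr (.a 2) : Multiplicative V ⋊[φ] QuaternionGroup 2) = SemidirectProduct.inr 1)) (by decide)
    · rintro _ ⟨g, rfl⟩ _ ⟨n, rfl⟩ hc
      have : φ g n = n := by simpa using congrArg SemidirectProduct.left hc.eq
      rcases hfpf g (Multiplicative.toAdd n) (congrArg Multiplicative.toAdd this) with h | h
      · exact Or.inl (by rw [h, map_one])
      · exact Or.inr (by rw [show n = 1 from Multiplicative.toAdd.injective (by simpa using h), map_one])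
  refine ⟨_, inferInstance, inferInstance, H, hF, ⟨(MonoidHom.ofInjective SemidirectProduct.inr_injective).symm⟩, ?_⟩
  rw [Cfsg.Agent.Struct.Frobenius.card_kernel hF]
  have h := H.index_mul_card
  rw [SemidirectProduct.card, hcardV, ← Nat.card_congr (MonoidHom.ofInjective (f := (SemidirectProduct.inr : QuaternionGroup 2 →* Multiplicative V ⋊[φ] QuaternionGroup 2)) SemidirectProduct.inr_injective).toEquiv] at h
  exact Nat.eq_of_mul_eq_mul_right Nat.card_pos h

end Cfsg.Agent.S4295
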