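import Cfsg.Statements.S4297
import Cfsg.Agent.Lib.Perm.FpfMatrixAction
import Mathlib.NumberTheory.PrimesCongruentOne
import Mathlib.Tactic.Ring
import Mathlib.Tactic.LinearCombination
import Mathlib.GroupTheory.SpecificGroups.Cyclic
import Mathlib.RingTheory.IntegralDomain

set_option autoImplicit false
open Cfsg

namespace Cfsg.Agent.S4297

---pre
theorem exists_root (m : ℕ) (hm : m ≠ 0) : ∃ q : ℕ, q.Prime ∧ 2 < q ∧ ∃ u : (ZMod q)ˣ, orderOf u = m := by
  obtain ⟨q, hq, hq2, hqn⟩ := Nat.exists_prime_gt_modEq_one (k := m) 2 hm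
  haveI := Fact.mk hq
  obtain ⟨c, hc⟩ : m ∣ Nat.card (ZMod q)ˣ := by
    rw [Nat.card_eq_fintype_card, ZMod.card_units]
    exact (Nat.modEq_iff_dvd' hq.one_le).1 hqn.symm
  obtain ⟨g, hg⟩ := IsCyclic.exists_generator (α := (ZMod q)ˣ)
  have hord : orderOf g = Nat.card (ZMod q)ˣ := orderOf_eq_card_of_forall_mem_zpowers hg
  have hpos : 0 < Nat.card (ZMod q)ˣ := Nat.card_pos
  have hc0 : c ≠ 0 := by rintro rfl; rw [mul_zero] at hc; omega
  exact ⟨q, hq, hq2, g ^ c, by
    rw [orderOf_pow_of_dvd hc0 ⟨m, by rw [hord, hc, mul_comm]⟩, hord, hc,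
      Nat.mul_div_cancel _ (Nat.pos_of_ne_zero hc0)]⟩

/-- the standard monomial action of a dicyclic group -/
def act {F : Type*} [Neg F] [Mul F] {n : ℕ} (z : ZMod (2 * n) → F) : QuaternionGroup n → F × F → F × F
  | .a i, v => (z i * v.1, z (-i) * v.2)
  | .xa i, v => (z (-i) * v.2, -(z i * v.1))

/-- For every n ≥ 2 the dicyclic group of order 4n (generated by an element a of order 2n and an element x with x² = aⁿ and x a x⁻¹ = a⁻¹) occurs as a Frobenius complement of some finite Frobenius group. -/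
theorem result (n : ℕ) (hn : 2 ≤ n) :
    ∃ (L : Type) (_ : Group L) (_ : Finite L) (H : Subgroup L), Cfsg.IsFrobeniusComplement H ∧ Nonempty (H ≃* QuaternionGroup n) := by
  obtain ⟨q, hq, hq2, u, hu⟩ := exists_root (2 * n) (by omega)
  haveI := Fact.mk hq
  haveI : NeZero n := ⟨by omega⟩
  haveI : NeZero (2 * n) := ⟨by omega⟩
  let z : ZMod (2 * n) → ZMod q := fun i => ((u ^ i.val : (ZMod q)ˣ) : ZMod q)
  have hz : ∀ i j, z (i + j) = z i * z j := fun i j => by
    simp only [z, ← Units.val_mul, ← pow_add]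
    congr 1
    rw [ZMod.val_add]
    conv_rhs => rw [← pow_mod_orderOf, hu]
  have h0 : z 0 = 1 := by simp [z]
  have hinj : ∀ i, z i = 1 → i = 0 := fun i hi => by
    have h2 : u ^ i.val = 1 := Units.ext hi
    have h3 : orderOf u ∣ i.val := orderOf_dvd_of_pow_eq_one h2
    rw [hu] at h3
    exact (ZMod.val_eq_zero i).1 (Nat.eq_zero_of_dvd_of_lt h3 i.val_lt)
  have hn' : z (n : ZMod (2 * n)) = -1 := by
    have h2 : z (n : ZMod (2 * n)) * z (n : ZMod (2 * n)) = 1 := by
      rw [← hz, ← h0]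
      congr 1
      rw [← Nat.cast_add, ← two_mul, ZMod.natCast_self]
    rcases mul_self_eq_one_iff.1 h2 with h | h
    · exfalso
      have h3 := congrArg ZMod.val (hinj _ h)
      rw [ZMod.val_natCast, ZMod.val_zero, Nat.mod_eq_of_lt (by omega)] at h3
      omega
    · exact h
  have hnn : z (-(n : ZMod (2 * n))) = -1 := by
    have h2 : z (n : ZMod (2 * n)) * z (-(n : ZMod (2 * n))) = 1 := by rw [← hz, add_neg_cancel, h0]
    rw [hn'] at h2
    linear_combination -h2
  have hinv : ∀ i, z i * z (-i) = 1 := fun i => by rw [← hz, add_neg_cancel, h0]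
  haveI : Nontrivial (QuaternionGroup n) := Finite.one_lt_card_iff_nontrivial.1 (by
    rw [Nat.card_eq_fintype_card, QuaternionGroup.card]; omega)
  obtain ⟨L, h1, h2, K, hK, ⟨e⟩⟩ := Cfsg.Agent.Perm.exists_frobenius_of_fpf_fun (act z)
    (fun v => by rw [QuaternionGroup.one_def]; simp [act, h0])
    (fun g h v => by
      rcases g with i | i <;> rcases h with j | j <;>
        simp only [QuaternionGroup.a_mul_a, QuaternionGroup.a_mul_xa, QuaternionGroup.xa_mul_a,
          QuaternionGroup.xa_mul_xa, act]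
      · refine Prod.ext ?_ ?_ <;> simp only [neg_add, hz] <;> ring
      · refine Prod.ext ?_ ?_ <;> simp only [sub_eq_add_neg, neg_add, neg_neg, hz] <;> ring
      · refine Prod.ext ?_ ?_ <;> simp only [neg_add, hz] <;> ring
      · refine Prod.ext ?_ ?_ <;> simp only [sub_eq_add_neg, neg_add, neg_neg, hz, hn', hnn] <;> ring)
    (fun g v w => by rcases g with i | i <;> refine Prod.ext ?_ ?_ <;> simp [act] <;> ring)
    (fun g v hv => by
      rcases g with i | i <;> simp only [act, Prod.ext_iff] at hv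
      · by_cases hi : i = 0
        · exact Or.inl (by rw [hi]; exact QuaternionGroup.one_def.symm)
        refine Or.inr (Prod.ext ?_ ?_)
        · by_contra hv1; exact hi (hinj i ((mul_eq_right₀ hv1).1 hv.1))
        · by_contra hv2; exact hi (neg_eq_zero.1 (hinj _ ((mul_eq_right₀ hv2).1 hv.2)))
      · refine Or.inr ?_
        have h3 : (2 : ZMod q) * v.1 = 0 := by
          linear_combination (-1) * hv.1 - z (-i) * hv.2 - v.1 * hinv i
        have h4 : (2 : ZMod q) ≠ 0 := fun h => by
          rw [show (2 : ZMod q) = ((2 : ℕ) : ZMod q) by norm_num, ZMod.natCast_eq_zero_iff] at h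
          exact absurd (Nat.le_of_dvd two_pos h) (by omega)
        have h5 : v.1 = 0 := (mul_eq_zero.1 h3).resolve_left h4
        exact Prod.ext h5 (by rw [← hv.2, h5]; simp))
  exact ⟨L, h1, h2, K, hK, ⟨e.symm⟩⟩

end Cfsg.Agent.S4297
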