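import Cfsg.Statements.S4298
import Cfsg.Agent.Lib.Perm.FpfMatrixAction
import Mathlib.LinearAlgebra.Matrix.Determinant.Basic
import Mathlib.Data.ZMod.Basic
import Mathlib.Data.Fintype.Prod
import Mathlib.Tactic.Ring

set_option autoImplicit false
open Cfsg

namespace Cfsg.Agent.S4298

---pre
/-- an embedding of `SL(2,3)` into `SL(2,5)` as a table -/
def table : List (ℕ × ℕ × ℕ × ℕ) :=
  [(1, 0, 0, 1), (1, 0, 0, 1), (1, 0, 0, 1), (1, 0, 0, 1), (1, 0, 0, 1), (1, 0, 0, 1), (1, 0, 0, 1), (1, 0, 0, 1), (1, 0, 0, 1), (1, 0, 0, 1), (1, 0, 0, 1), (1, 0, 0, 1), (1, 0, 0, 1), (1, 0, 0, 1), (1, 0, 0, 1), (0, 4, 1, 0), (2, 4, 3, 4), (3, 2, 1, 1), (1, 0, 0, 1), (1, 0, 0, 1), (1, 0, 0, 1), (0, 1, 4, 0), (2, 3, 4, 4), (3, 1, 2, 1), (1, 0, 0, 1), (1, 0, 0, 1), (1, 0, 0, 1), (1, 0, 0, 1), (1, 0, 0, 1), (1, 0, 0, 1), (1, 0, 0, 1), (1, 2, 1, 3), (1, 0, 0, 1), (1, 0, 0, 1),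 (3, 3, 4, 1), (1, 0, 0, 1), (1, 0, 0, 1), (1, 1, 2, 3), (1, 0, 0, 1), (1, 0, 0, 1), (1, 0, 0, 1), (0, 2, 2, 0), (4, 2, 1, 2), (1, 0, 0, 1), (1, 0, 0, 1), (1, 0, 0, 1), (3, 4, 3, 1), (1, 0, 0, 1), (4, 1, 2, 2), (1, 0, 0, 1), (1, 0, 0, 1), (1, 0, 0, 1), (1, 0, 0, 1), (3, 0, 0, 2), (1, 0, 0, 1), (1, 0, 0, 1), (4, 0, 0, 4), (1, 0, 0, 1), (1, 0, 0, 1), (2, 2, 1, 4), (1, 0, 0, 1), (1, 0, 0, 1), (4, 3, 4, 2), (1, 0, 0, 1), (1, 0, 0, 1), (2, 1, 2, 4), (1, 0, 0, 1), (2, 0, 0, 3), (1, 0, 0, 1), (1, 4, 3, 3), (1, 0, 0, 1), (1, 0, 0, 1), (1, 0, 0, 1), (1, 0, 0, 1), (4, 4, 3, 2), (1, 3, 4, 3), (1, 0, 0, 1), (1, 0, 0, 1), (1, 0, 0, 1), (0, 3, 3, 0), (1, 0, 0, 1)]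

def img (a b c d : ZMod 3) : ℕ × ℕ × ℕ × ℕ :=
  table.getD (27 * a.val + 9 * b.val + 3 * c.val + d.val) (1, 0, 0, 1)

def act (m : ℕ × ℕ × ℕ × ℕ) (v : ZMod 5 × ZMod 5) : ZMod 5 × ZMod 5 :=
  ((m.1 : ZMod 5) * v.1 + (m.2.1 : ZMod 5) * v.2, (m.2.2.1 : ZMod 5) * v.1 + (m.2.2.2 : ZMod 5) * v.2)

theorem act_mul : ∀ a b c d a' b' c' d' : ZMod 3, a * d - b * c = 1 → a' * d' - b' * c' = 1 →
    ∀ v : ZMod 5 × ZMod 5, v = (1, 0) ∨ v = (0, 1) →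
      act (img (a * a' + b * c') (a * b' + b * d') (c * a' + d * c') (c * b' + d * d')) v =
        act (img a b c d) (act (img a' b' c' d') v) := by
  decide +kernel

set_option synthInstance.maxSize 4000 in
set_option synthInstance.maxHeartbeats 200000 in
theorem act_fpf : ∀ a b c d : ZMod 3, a * d - b * c = 1 → ∀ s t : ZMod 5,
    act (img a b c d) (s, t) = (s, t) → (a = 1 ∧ b = 0 ∧ c = 0 ∧ d = 1) ∨ (s = 0 ∧ t = 0) := by
  decide +kernel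

/-- The group SL(2,3) of order 24 (the binary tetrahedral group) occurs as a Frobenius complement of some finite Frobenius group. -/
theorem result :
    ∃ (L : Type) (_ : Group L) (_ : Finite L) (H : Subgroup L), Cfsg.IsFrobeniusComplement H ∧ Nonempty (H ≃* Matrix.SpecialLinearGroup (Fin 2) (ZMod 3)) := by
  have hdet : ∀ g : Matrix.SpecialLinearGroup (Fin 2) (ZMod 3), g.1 0 0 * g.1 1 1 - g.1 0 1 * g.1 1 0 = 1 :=
    fun g => by rw [← Matrix.det_fin_two]; exact g.2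
  haveI : Nontrivial (Matrix.SpecialLinearGroup (Fin 2) (ZMod 3)) :=
    ⟨⟨!![1, 1; 0, 1], by simp [Matrix.det_fin_two]⟩, 1, fun h => by
      have := congrArg (fun m : Matrix.SpecialLinearGroup (Fin 2) (ZMod 3) => m.1 0 1) h
      simp at this⟩
  haveI : Fact (1 < 5) := ⟨by norm_num⟩
  obtain ⟨L, h1, h2, K, hK, ⟨e⟩⟩ := Cfsg.Agent.Perm.exists_frobenius_of_fpf_fun
    (H := Matrix.SpecialLinearGroup (Fin 2) (ZMod 3)) (V := ZMod 5 × ZMod 5)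
    (fun g v => act (img (g.1 0 0) (g.1 0 1) (g.1 1 0) (g.1 1 1)) v)
    (fun v => by
      have h0 : img 1 0 0 1 = (1, 0, 0, 1) := by decide +kernel
      simp [h0, act])
    (fun g h v => by
      have hb : ∀ (m : ℕ × ℕ × ℕ × ℕ) (v : ZMod 5 × ZMod 5),
          act m v = (v.1 * (act m (1, 0)).1 + v.2 * (act m (0, 1)).1,
            v.1 * (act m (1, 0)).2 + v.2 * (act m (0, 1)).2) := fun m v => by
        simp [act]; constructor <;> ring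
      have e1 := act_mul _ _ _ _ _ _ _ _ (hdet g) (hdet h) _ (Or.inl rfl)
      have e2 := act_mul _ _ _ _ _ _ _ _ (hdet g) (hdet h) _ (Or.inr rfl)
      simp only [Matrix.SpecialLinearGroup.coe_mul, Matrix.mul_apply, Fin.sum_univ_two]
      rw [hb, e1, e2]
      simp [act]; constructor <;> ring)
    (fun g v w => by simp [act]; constructor <;> ring)
    (fun g v hv => by
      rcases act_fpf _ _ _ _ (hdet g) v.1 v.2 hv with ⟨ha, hb, hc, hd⟩ | hv0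
      · refine Or.inl (Subtype.ext ?_)
        rw [Matrix.eta_fin_two g.1, ha, hb, hc, hd, Matrix.SpecialLinearGroup.coe_one, Matrix.one_fin_two]
      · exact Or.inr (Prod.ext hv0.1 hv0.2))
  exact ⟨L, h1, h2, K, hK, ⟨e.symm⟩⟩

end Cfsg.Agent.S4298
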