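import Cfsg.Statements.S4299
import Cfsg.Agent.Lib.Perm.SemidirectFrobenius
import Mathlib.NumberTheory.PrimesCongruentOne

set_option autoImplicit false
open Cfsg

namespace Cfsg.Agent.S4299

/-- Every nontrivial finite cyclic group occurs as a Frobenius complement of some finite Frobenius group. -/
theorem result {C : Type*} [Group C] [Finite C] [IsCyclic C] [Nontrivial C] :
    ∃ (L : Type) (_ : Group L) (_ : Finite L) (H : Subgroup L), Cfsg.IsFrobeniusComplement H ∧ Nonempty (C ≃* H) := by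
  set n := Nat.card C with hn
  have hn1 : 1 < n := Finite.one_lt_card_iff_nontrivial.2 inferInstance
  obtain ⟨q, hq, -, hqn⟩ := Nat.exists_prime_gt_modEq_one (k := n) 0 (by omega)
  haveI := Fact.mk hq
  have hdvd : n ∣ Nat.card (ZMod q)ˣ := by
    rw [Nat.card_eq_fintype_card, ZMod.card_units]
    exact (Nat.modEq_iff_dvd' hq.one_le).1 hqn.symm
  obtain ⟨g, hg⟩ := IsCyclic.exists_generator (α := (ZMod q)ˣ)
  have hord : orderOf g = Nat.card (ZMod q)ˣ := orderOf_eq_card_of_forall_mem_zpowers hg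
  obtain ⟨c, hc⟩ := hdvd
  set u := g ^ c with hu
  have hu' : orderOf u = n := by
    have hpos : 0 < Nat.card (ZMod q)ˣ := Nat.card_pos
    have hc0 : c ≠ 0 := by rintro rfl; rw [mul_zero] at hc; omega
    rw [hu, orderOf_pow_of_dvd hc0 ⟨n, by rw [hord, hc, mul_comm]⟩, hord, hc,
      Nat.mul_div_cancel _ (Nat.pos_of_ne_zero hc0)]
  haveI : Nontrivial (Subgroup.zpowers u) := Finite.one_lt_card_iff_nontrivial.1 (by
    rw [Nat.card_zpowers, hu']; exact hn1)
  let φ : Subgroup.zpowers u →* MulAut (Multiplicative (ZMod q)) :=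
    ((MulAutMultiplicative (ZMod q)).symm.toMonoidHom.comp
      (DistribMulAction.toAddAut (ZMod q)ˣ (ZMod q))).comp (Subgroup.zpowers u).subtype
  obtain ⟨L, hL1, hL2, K, hK, ⟨e⟩⟩ := Cfsg.Agent.Perm.exists_frobenius_of_fpf_action φ (by
    intro h m hm
    have h2 : ((h : (ZMod q)ˣ) : ZMod q) * Multiplicative.toAdd m = Multiplicative.toAdd m :=
      congrArg Multiplicative.toAdd hm
    rw [← sub_eq_zero, ← sub_one_mul, mul_eq_zero, sub_eq_zero] at h2
    rcases h2 with h2 | h2
    · exact Or.inl (Subtype.ext (Units.ext h2))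
    · exact Or.inr (Multiplicative.toAdd.injective h2))
  exact ⟨L, hL1, hL2, K, hK,
    ⟨(mulEquivOfCyclicCardEq (by rw [Nat.card_zpowers, hu'])).trans e⟩⟩

end Cfsg.Agent.S4299
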