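import Cfsg.Statements.S4300

set_option autoImplicit false
open Cfsg

namespace Cfsg.Agent.S4300

/-- Let G act faithfully and primitively on a set X, and suppose the stabilizer of some point is a simple group. Then either G is simple, or G has a normal subgroup, neither trivial nor the whole group, that acts regularly on X (transitively with trivial point stabilizers). -/
theorem result {G : Type*} [Group G] {X : Type*} [MulAction G X] [FaithfulSMul G X]
    (hprim : MulAction.IsPreprimitive G X) (x : X) (hsimple : IsSimpleGroup (MulAction.stabilizer G x)) :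
    IsSimpleGroup G ∨ ∃ N : Subgroup G, N.Normal ∧ N ≠ ⊥ ∧ N ≠ ⊤ ∧
      MulAction.IsPretransitive N X ∧ ∀ y : X, MulAction.stabilizer N y = ⊥ := by
  haveI := hprim
  haveI : Nontrivial (MulAction.stabilizer G x) := hsimple.toNontrivial
  haveI : Nontrivial G := (MulAction.stabilizer G x).subtype_injective.nontrivial
  by_cases hs : IsSimpleGroup G
  · exact Or.inl hs
  obtain ⟨N, hN, hNbot, hNtop⟩ : ∃ N : Subgroup G, N.Normal ∧ N ≠ ⊥ ∧ N ≠ ⊤ := by
    by_contra h
    refine hs ⟨fun N hN => ?_⟩
    by_contra h2
    rw [not_or] at h2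
    exact h ⟨N, hN, h2.1, h2.2⟩
  have hfix : MulAction.fixedPoints N X ≠ Set.univ := by
    intro h
    refine hNbot ((Subgroup.eq_bot_iff_forall N).2 fun n hn => eq_of_smul_eq_smul (α := X) fun y => ?_)
    rw [one_smul]
    exact (MulAction.mem_fixedPoints.1 (h ▸ Set.mem_univ y : y ∈ MulAction.fixedPoints N X)) ⟨n, hn⟩
  haveI htr : MulAction.IsPretransitive N X :=
    MulAction.IsQuasiPreprimitive.isPretransitive_of_normal hfix
  have hstab : MulAction.stabilizer N x = ⊥ := by
    rcases (inferInstance : (N.subgroupOf (MulAction.stabilizer G x)).Normal).eq_bot_or_eq_top with h | h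
    · refine (Subgroup.eq_bot_iff_forall _).2 fun n hn => ?_
      have h2 : (⟨(n : G), hn⟩ : MulAction.stabilizer G x) ∈ N.subgroupOf (MulAction.stabilizer G x) := n.2
      rw [h, Subgroup.mem_bot] at h2
      exact Subtype.ext (congrArg Subtype.val h2 :)
    · exfalso
      rw [Subgroup.subgroupOf_eq_top] at h
      refine hNtop (top_le_iff.1 fun g _ => ?_)
      obtain ⟨n, hn⟩ := htr.exists_smul_eq x (g • x)
      have h2 : (n : G)⁻¹ * g ∈ MulAction.stabilizer G x := by
        rw [MulAction.mem_stabilizer_iff, mul_smul, ← hn, Subgroup.smul_def, inv_smul_smul]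
      have := mul_mem n.2 (h h2)
      rwa [mul_inv_cancel_left] at this
  refine Or.inr ⟨N, hN, hNbot, hNtop, htr, fun y => ?_⟩
  obtain ⟨n, rfl⟩ := htr.exists_smul_eq x y
  rw [MulAction.stabilizer_smul_eq_stabilizer_map_conj, hstab, Subgroup.map_bot]

end Cfsg.Agent.S4300
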