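import Cfsg.Statements.S4301

set_option autoImplicit false
open Cfsg

namespace Cfsg.Agent.S4301

/-- One-point extension of a multiply transitive group. Let X be a set and G a group of permutations of Option X (the set X with one extra point ∗ = none) all of whose elements fix ∗, such that G is k-transitive on the points of X for some k ≥ 2, X having at least k points. Suppose a permutation h of Option X and an element g of G satisfy: h interchanges ∗ with a point x of X and fixes a point y of X; g interchanges x and y; (g h)³ and h² lie in G; and for every f in G fixing x, the product h f h lies in G and fixes x. Then an element of the group generated by G and h fixes ∗ exactly when it lies in G, and that group acts (k+1)-transitively on Option X. -/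
theorem result {X : Type*} (G : Subgroup (Equiv.Perm (Option X))) (hfix : ∀ f ∈ G, f none = none)
    (k : ℕ) (hk : 2 ≤ k) (hkX : Nonempty (Fin k ↪ X))
    (htrans : ∀ a b : Fin k ↪ X, ∃ f ∈ G, ∀ i, f (some (a i)) = some (b i))
    (h g : Equiv.Perm (Option X)) (hg : g ∈ G) (x y : X)
    (h1 : h none = some x) (h2 : h (some x) = none) (h3 : h (some y) = some y)
    (h4 : g (some x) = some y) (h5 : g (some y) = some x)
    (h6 : (g * h) ^ 3 ∈ G) (h7 : h ^ 2 ∈ G)
    (h8 : ∀ f ∈ G, f (some x) = some x → h * f * h ∈ G ∧ (h * f * h) (some x) = some x) :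
    (∀ f ∈ Subgroup.closure ((G : Set (Equiv.Perm (Option X))) ∪ {h}), f none = none ↔ f ∈ G) ∧
      MulAction.IsMultiplyPretransitive (Subgroup.closure ((G : Set (Equiv.Perm (Option X))) ∪ {h})) (Option X) (k + 1) := by
  classical
  have hext : ∀ a b : X, a ≠ b → ∃ e : Fin k ↪ X, e ⟨0, by omega⟩ = a ∧ e ⟨1, by omega⟩ = b := by
    intro a b hab
    obtain ⟨e⟩ := hkX
    set e1 := e.trans (Equiv.swap (e ⟨0, by omega⟩) a).toEmbedding with he1
    have h0 : e1 ⟨0, by omega⟩ = a := by simp [he1]
    have h01 : e1 ⟨1, by omega⟩ ≠ a := fun h => by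
      have := e1.injective (h.trans h0.symm)
      simp [Fin.ext_iff] at this
    refine ⟨e1.trans (Equiv.swap (e1 ⟨1, by omega⟩) b).toEmbedding, ?_, by simp⟩
    simp [h0, Equiv.swap_apply_of_ne_of_ne (Ne.symm h01) hab]
  have htwo : ∀ a b c d : X, a ≠ b → c ≠ d → ∃ f ∈ G, f (some a) = some c ∧ f (some b) = some d := by
    intro a b c d hab hcd
    obtain ⟨e, e0, e1⟩ := hext a b hab
    obtain ⟨e', e0', e1'⟩ := hext c d hcd
    obtain ⟨f, hf, hfe⟩ := htrans e e'
    exact ⟨f, hf, by rw [← e0, hfe, e0'], by rw [← e1, hfe, e1']⟩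
  have hxy : x ≠ y := fun e => by rw [← e] at h3; rw [h3] at h2; exact Option.some_ne_none _ h2
  set c := h ^ 2 with hc
  have hcx : c (some x) = some x := by
    rw [hc, pow_two, Equiv.Perm.mul_apply, h2, h1]
  have hcy : c (some y) = some y := by rw [hc, pow_two, Equiv.Perm.mul_apply, h3, h3]
  have hci : ∀ z, c z = z → c⁻¹ z = z := fun z hz => by
    conv_lhs => rw [← hz]
    exact Equiv.symm_apply_apply c z
  let S : Set (Equiv.Perm (Option X)) := {u | u ∈ G ∨ ∃ a ∈ G, ∃ b ∈ G, u = a * h * b}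
  have hSl : ∀ a ∈ G, ∀ u ∈ S, a * u ∈ S := by
    rintro a ha u (hu | ⟨b, hb, d, hd, rfl⟩)
    · exact Or.inl (mul_mem ha hu)
    · exact Or.inr ⟨a * b, mul_mem ha hb, d, hd, by simp [mul_assoc]⟩
  have hSr : ∀ a ∈ G, ∀ u ∈ S, u * a ∈ S := by
    rintro a ha u (hu | ⟨b, hb, d, hd, rfl⟩)
    · exact Or.inl (mul_mem hu ha)
    · exact Or.inr ⟨b, hb, d * a, mul_mem hd ha, by simp [mul_assoc]⟩
  have hhgh : h * g * h ∈ S := by
    refine Or.inr ⟨g⁻¹ * ((g * h) ^ 3) * (h ^ 2)⁻¹, mul_mem (mul_mem (inv_mem hg) h6) (inv_mem h7),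
      g⁻¹, inv_mem hg, ?_⟩
    simp [pow_succ, mul_assoc]
  have hkey : ∀ f ∈ G, h * f * h ∈ S := by
    intro f hf
    by_cases hfx : f (some x) = some x
    · exact Or.inl (h8 f hf hfx).1
    obtain ⟨z, hz⟩ : ∃ z, f (some x) = some z := by
      cases hfz : f (some x) with
      | none => exact absurd (f.injective (hfz.trans (hfix f hf).symm)) (Option.some_ne_none _)
      | some z => exact ⟨z, rfl⟩
    have hzx : z ≠ x := fun e => hfx (by rw [hz, e])
    obtain ⟨a, ha, hax, hay⟩ := htwo x y x z hxy (Ne.symm hzx)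
    set b := g⁻¹ * a⁻¹ * f with hb
    have hbG : b ∈ G := mul_mem (mul_mem (inv_mem hg) (inv_mem ha)) hf
    have hbx : b (some x) = some x := by
      rw [hb, Equiv.Perm.mul_apply, Equiv.Perm.mul_apply, hz, ← hay]
      show g⁻¹ (a⁻¹ (a (some y))) = _
      rw [show a⁻¹ (a (some y)) = some y from a.symm_apply_apply _, ← h4]
      exact g.symm_apply_apply _
    set d := g⁻¹ * (c⁻¹ * g * c⁻¹) with hd
    have hdG : d ∈ G := mul_mem (inv_mem hg) (mul_mem (mul_mem (inv_mem h7) hg) (inv_mem h7))
    have hdx : d (some x) = some x := by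
      rw [hd]
      simp only [Equiv.Perm.mul_apply]
      rw [hci _ hcx, h4, hci _ hcy, ← h4]
      exact g.symm_apply_apply _
    have e : h * f * h = (h * a * h) * ((h * g * h) * (c⁻¹ * (h * d * h))) * (h * b * h) := by
      rw [hb, hd, hc]
      simp [pow_two, mul_assoc]
    rw [e]
    exact hSr _ (h8 b hbG hbx).1 _ (hSl _ (h8 a ha hax).1 _ (hSr _ (mul_mem (inv_mem h7) (h8 d hdG hdx).1) _ hhgh))
  let U : Subgroup (Equiv.Perm (Option X)) :=
    { carrier := S
      one_mem' := Or.inl (one_mem G)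
      mul_mem' := by
        rintro u v hu (hv | ⟨a', ha', b', hb', rfl⟩)
        · exact hSr v hv u hu
        rcases hu with hu | ⟨a, ha, b, hb, rfl⟩
        · exact hSl u hu _ (Or.inr ⟨a', ha', b', hb', rfl⟩)
        · have := hSl a ha _ (hSr b' hb' _ (hkey (b * a') (mul_mem hb ha')))
          simpa [mul_assoc] using this
      inv_mem' := by
        rintro u (hu | ⟨a, ha, b, hb, rfl⟩)
        · exact Or.inl (inv_mem hu)
        · exact Or.inr ⟨b⁻¹ * c⁻¹, mul_mem (inv_mem hb) (inv_mem h7), a⁻¹, inv_mem ha, by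
            simp [hc, pow_two, mul_assoc]⟩ }
  set W := Subgroup.closure ((G : Set (Equiv.Perm (Option X))) ∪ {h}) with hW
  have hWU : W ≤ U := (Subgroup.closure_le U).2 (by
    rintro u (hu | rfl)
    · exact Or.inl hu
    · exact Or.inr ⟨1, one_mem G, 1, one_mem G, by simp⟩)
  have hGW : G ≤ W := fun u hu => Subgroup.subset_closure (Or.inl hu)
  have hhW : h ∈ W := Subgroup.subset_closure (Or.inr rfl)
  refine ⟨fun f hf => ⟨fun hfn => ?_, hfix f⟩, ?_⟩
  · rcases hWU hf with hu | ⟨a, ha, b, hb, rfl⟩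
    · exact hu
    · rw [Equiv.Perm.mul_apply, Equiv.Perm.mul_apply, hfix b hb, h1] at hfn
      exact absurd (a.injective (hfn.trans (hfix a ha).symm)) (Option.some_ne_none x)
  · have hmove : ∀ z : Option X, ∃ u ∈ W, u z = none := by
      intro z
      cases z with
      | none => exact ⟨1, one_mem W, rfl⟩
      | some z =>
        by_cases hzx : z = x
        · exact ⟨h, hhW, by rw [hzx, h2]⟩
        · obtain ⟨f, hf, hf1, -⟩ := htwo z x x z hzx (Ne.symm hzx)
          exact ⟨h * f, mul_mem hhW (hGW hf), by rw [Equiv.Perm.mul_apply, hf1, h2]⟩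
    have hstd : ∀ a : Fin (k + 1) ↪ Option X, ∃ u ∈ W, ∃ a' : Fin k ↪ X,
        u (a 0) = none ∧ ∀ i, u (a i.succ) = some (a' i) := by
      intro a
      obtain ⟨u, hu, hu0⟩ := hmove (a 0)
      have hs : ∀ i : Fin k, ∃ w, u (a i.succ) = some w := fun i => by
        cases hw : u (a i.succ) with
        | none => exact absurd (a.injective (u.injective (hw.trans hu0.symm))) (Fin.succ_ne_zero i)
        | some w => exact ⟨w, rfl⟩
      choose w hw using hs
      refine ⟨u, hu, ⟨w, fun i j hij => ?_⟩, hu0, hw⟩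
      exact Fin.succ_injective _ (a.injective (u.injective (by rw [hw, hw, hij])))
    rw [MulAction.isMultiplyPretransitive_iff]
    intro a b
    obtain ⟨u, hu, a', hu0, hua⟩ := hstd a
    obtain ⟨v, hv, b', hv0, hvb⟩ := hstd b
    obtain ⟨f, hf, hfab⟩ := htrans a' b'
    refine ⟨⟨v⁻¹ * f * u, mul_mem (mul_mem (inv_mem hv) (hGW hf)) hu⟩, Function.Embedding.ext fun i => ?_⟩
    show v⁻¹ (f (u (a i))) = b i
    induction i using Fin.cases with
    | zero => rw [hu0, hfix f hf, ← hv0]; exact v.symm_apply_apply _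
    | succ i => rw [hua, hfab, ← hvb]; exact v.symm_apply_apply _

end Cfsg.Agent.S4301
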