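import Cfsg.Statements.S4341
import Cfsg.Agent.Lib.Perm.TwoPrimeDegree

set_option autoImplicit false
open Cfsg

namespace Cfsg.Agent.S4341

open Subgroup in
/-- the Sylow number of a subgroup, read off inside the ambient group -/
theorem card_sylow_eq_relIndex {G : Type*} [Group G] [Finite G] (p : ℕ) [Fact p.Prime]
    (Q H : Subgroup G) (hQH : Q ≤ H) (hQ : IsPGroup p Q) (hi : ¬ p ∣ Q.relIndex H) :
    Nat.card (Sylow p H) = (normalizer (Q : Set G)).relIndex H := by
  have h1 : IsPGroup p (Q.subgroupOf H) := hQ.comap_subtype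
  rw [Sylow.card_eq_index_normalizer (h1.toSylow hi)]
  show (normalizer ((Q.subgroupOf H : Subgroup H) : Set H)).index = _
  rw [← subgroupOf_normalizer_eq hQH]
  rfl

open Subgroup in
theorem card_sylow_mul {G : Type*} [Group G] [Finite G] (p : ℕ) [Fact p.Prime]
    (K : Subgroup G) [K.Normal] (P : Sylow p G) :
    Nat.card (Sylow p G) =
      Nat.card (Sylow p (G ⧸ K)) * (normalizer ((P : Subgroup G) : Set G)).relIndex ((P : Subgroup G) ⊔ K) := by
  set NP := normalizer ((P : Subgroup G) : Set G) with hNP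
  set L := normalizer (((P : Subgroup G) ⊔ K : Subgroup G) : Set G) with hL
  have hq : Nat.card (Sylow p (G ⧸ K)) = L.index := by
    rw [Sylow.card_eq_index_normalizer (P.mapSurjective (QuotientGroup.mk'_surjective K))]
    show (normalizer (((P : Subgroup G).map (QuotientGroup.mk' K) : Subgroup _) : Set (G ⧸ K))).index = _
    rw [← index_comap_of_surjective _ (QuotientGroup.mk'_surjective K),
      comap_normalizer_eq_of_surjective _ (QuotientGroup.mk'_surjective K),
      comap_map_eq, QuotientGroup.ker_mk']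
  have hle : NP ≤ L := fun g hg => by
    rw [hL, mem_normalizer_iff_map_conj_eq, Subgroup.map_sup, mem_normalizer_iff_map_conj_eq.mp hg]
    rw [mem_normalizer_iff_map_conj_eq.mp (show g ∈ normalizer (K : Set G) by rw [normalizer_eq_top]; trivial)]
  have hPK : (P : Subgroup G) ⊔ K ≤ L := le_normalizer
  have hPL : (P : Subgroup G) ≤ L := le_sup_left.trans hPK
  have hn : (((P : Subgroup G) ⊔ K).subgroupOf L).Normal := normal_subgroupOf_of_le_normalizer le_rfl
  have hall : ∀ Q : Sylow p L, (Q : Subgroup L) ≤ ((P : Subgroup G) ⊔ K).subgroupOf L := by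
    intro Q
    obtain ⟨g, rfl⟩ := MulAction.exists_smul_eq L (P.subtype hPL) Q
    intro x hx
    rw [Sylow.coe_subgroup_smul, mem_pointwise_smul_iff_inv_smul_mem] at hx
    have h2 : g⁻¹ * x * g ∈ ((P : Subgroup G) ⊔ K).subgroupOf L := by
      refine mem_sup_left (S := (P : Subgroup G)) (T := K) ?_
      simpa [MulAut.smul_def, mem_subgroupOf] using hx
    simpa [mul_assoc] using hn.conj_mem _ h2 g
  have h3 := Perm.sylow_subtype_card _ hall
  have hi : ¬ p ∣ (P : Subgroup G).relIndex L := fun h =>
    P.not_dvd_index (h.trans (relIndex_dvd_index_of_le hPL))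
  have hQ : IsPGroup p ((P : Subgroup G).subgroupOf L) := P.isPGroup'.comap_subtype
  rw [card_sylow_eq_relIndex p ((P : Subgroup G).subgroupOf L) _
    (fun x hx => mem_sup_left (S := (P : Subgroup G)) (T := K) hx) hQ (fun h =>
      hi (h.trans (relIndex_dvd_index_of_le fun x hx => mem_sup_left (S := (P : Subgroup G)) (T := K) hx))),
    card_sylow_eq_relIndex p _ L hPL P.isPGroup' hi, ← subgroupOf_normalizer_eq hPL,
    relIndex_subgroupOf hPK] at h3
  rw [hq, Sylow.card_eq_index_normalizer P, h3, mul_comm, relIndex_mul_index hle]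
  rfl

open Subgroup in
theorem relIndex_sup_of_normal {G : Type*} [Group G] [Finite G] (H K : Subgroup G) [K.Normal] :
    H.relIndex (H ⊔ K) = H.relIndex K := by
  have h1 := relIndex_sup_right H K
  have hH := Subgroup.card_mul_index (K.subgroupOf H)
  have hK := Subgroup.card_mul_index (H.subgroupOf K)
  have hX := Subgroup.card_mul_index (H.subgroupOf (H ⊔ K))
  have hY := Subgroup.card_mul_index (K.subgroupOf (H ⊔ K))
  have e1 : Nat.card (K.subgroupOf H) = Nat.card (H ⊓ K : Subgroup G) := by
    rw [← inf_subgroupOf_left, Nat.card_congr (subgroupOfEquivOfLe inf_le_left).toEquiv]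
  have e2 : Nat.card (H.subgroupOf K) = Nat.card (H ⊓ K : Subgroup G) := by
    rw [← inf_subgroupOf_right, Nat.card_congr (subgroupOfEquivOfLe inf_le_right).toEquiv]
  rw [Nat.card_congr (subgroupOfEquivOfLe le_sup_left).toEquiv] at hX
  rw [Nat.card_congr (subgroupOfEquivOfLe le_sup_right).toEquiv] at hY
  simp only [relIndex] at h1 ⊢
  rw [e1] at hH; rw [e2] at hK
  rw [h1] at hY
  refine Nat.eq_of_mul_eq_mul_left (Nat.card_pos (α := H)) ?_
  calc Nat.card H * _ = Nat.card ↥(H ⊔ K) := hX
    _ = Nat.card K * (K.subgroupOf H).index := hY.symm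
    _ = _ := by rw [← hH, ← hK]; ring

/-- Let K be a normal subgroup of a finite group G, p a prime and P a Sylow p-subgroup of G; let N be the normalizer of P ∩ K inside the subgroup PK. Then the number of Sylow p-subgroups of G equals the product of the numbers of Sylow p-subgroups of G/K, of K, and of N/(P ∩ K). (The normality of P ∩ K in N, which always holds, is assumed as a hypothesis so that the quotient can be formed.) -/
theorem result {G : Type*} [Group G] [Finite G]
    (p : ℕ) [Fact p.Prime] (K : Subgroup G) [K.Normal] (P : Sylow p G) (N : Subgroup G)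
    (hN : N = ((P : Subgroup G) ⊔ K) ⊓ Subgroup.normalizer (((P : Subgroup G) ⊓ K : Subgroup G) : Set G))
    [hn : (((P : Subgroup G) ⊓ K).subgroupOf N).Normal] :
    Nat.card (Sylow p G) =
      Nat.card (Sylow p (G ⧸ K)) * Nat.card (Sylow p K) * Nat.card (Sylow p (N ⧸ ((P : Subgroup G) ⊓ K).subgroupOf N)) := by
  classical
  have hPK : (P : Subgroup G) ≤ Subgroup.normalizer (((P : Subgroup G) ⊓ K : Subgroup G) : Set G) := fun g hg => by
    rw [Subgroup.mem_normalizer_iff]
    intro x
    constructor
    · rintro ⟨h1, h2⟩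
      exact ⟨(P : Subgroup G).mul_mem ((P : Subgroup G).mul_mem hg h1) ((P : Subgroup G).inv_mem hg), ‹K.Normal›.conj_mem x h2 g⟩
    · rintro ⟨h1, h2⟩
      refine ⟨?_, ?_⟩
      · have := (P : Subgroup G).mul_mem ((P : Subgroup G).mul_mem ((P : Subgroup G).inv_mem hg) h1) hg
        rwa [show g⁻¹ * (g * x * g⁻¹) * g = x by group] at this
      · simpa [mul_assoc] using ‹K.Normal›.conj_mem _ h2 g⁻¹
  have hPN : (P : Subgroup G) ≤ N := hN ▸ le_inf le_sup_left hPK
  have hNle : N ≤ (P : Subgroup G) ⊔ K := hN ▸ inf_le_left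
  have hRN : (P : Subgroup G) ⊓ K ≤ N := inf_le_left.trans hPN
  rw [card_sylow_mul p K P, mul_assoc]
  congr 1
  have hRi : ¬ p ∣ ((P : Subgroup G) ⊓ K).relIndex K := fun h => P.not_dvd_index <| by
    rw [Subgroup.inf_relIndex_right] at h
    rw [← relIndex_sup_of_normal] at h
    exact h.trans (Subgroup.relIndex_dvd_index_of_le le_sup_left)
  have hK : Nat.card (Sylow p K) = N.relIndex ((P : Subgroup G) ⊔ K) := by
    rw [card_sylow_eq_relIndex p _ K inf_le_right P.isPGroup'.to_inf_left hRi]
    have hsup : N ⊔ K = (P : Subgroup G) ⊔ K :=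
      le_antisymm (sup_le hNle le_sup_right) (sup_le (hPN.trans le_sup_left) le_sup_right)
    have hNK : N ⊓ K = Subgroup.normalizer (((P : Subgroup G) ⊓ K : Subgroup G) : Set G) ⊓ K := by
      rw [hN, inf_assoc]
      exact inf_of_le_right (inf_le_right.trans le_sup_right)
    rw [← hsup, relIndex_sup_of_normal, ← Subgroup.inf_relIndex_right, ← hNK, Subgroup.inf_relIndex_right]
  have hiN : ¬ p ∣ (P : Subgroup G).relIndex N := fun h =>
    P.not_dvd_index (h.trans (Subgroup.relIndex_dvd_index_of_le hPN))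
  have hQ : IsPGroup p ((P : Subgroup G).subgroupOf N) := P.isPGroup'.comap_subtype
  have hNN : Nat.card (Sylow p (N ⧸ ((P : Subgroup G) ⊓ K).subgroupOf N)) =
      (Subgroup.normalizer ((P : Subgroup G) : Set G)).relIndex N := by
    have h1 := card_sylow_mul p (((P : Subgroup G) ⊓ K).subgroupOf N) (hQ.toSylow hiN)
    rw [card_sylow_eq_relIndex p _ N hPN P.isPGroup' hiN] at h1
    rw [h1, Subgroup.relIndex_eq_one.mpr ?_, mul_one]
    refine sup_le Subgroup.le_normalizer (le_trans ?_ Subgroup.le_normalizer)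
    show ((P : Subgroup G) ⊓ K).subgroupOf N ≤ (P : Subgroup G).subgroupOf N
    exact fun x hx => hx.1
  have hNP : Subgroup.normalizer ((P : Subgroup G) : Set G) ⊓ ((P : Subgroup G) ⊔ K) ≤ N := by
    rw [hN]
    refine le_inf inf_le_right fun g hg => ?_
    rw [Subgroup.mem_normalizer_iff_map_conj_eq, Subgroup.map_inf _ _ _ (MulAut.conj g).injective,
      Subgroup.mem_normalizer_iff_map_conj_eq.mp hg.1,
      Subgroup.mem_normalizer_iff_map_conj_eq.mp (show g ∈ Subgroup.normalizer (K : Set G) by rw [Subgroup.normalizer_eq_top]; trivial)]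
  rw [hK, hNN, mul_comm, ← Subgroup.inf_relIndex_right, ← Subgroup.relIndex_mul_relIndex _ _ _ hNP hNle]
  congr 1
  rw [← Subgroup.inf_relIndex_right _ N, inf_assoc, inf_of_le_right hNle, Subgroup.inf_relIndex_right]

end Cfsg.Agent.S4341
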