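import Cfsg.Statements.S4303
import Cfsg.Agent.S4341
import Cfsg.Agent.Lib.Solv.Coprime

set_option autoImplicit false
open Cfsg

namespace Cfsg.Agent.S4303

universe u

open Subgroup in
/-- a prime power dividing `[K : C_K(P)]` exactly is `1` mod `p` -/
theorem index_centralizer_part {G : Type u} [Group G] [Finite G] (p : ℕ) [Fact p.Prime]
    (P K : Subgroup G) [K.Normal] (hP : IsPGroup p P) (hK : ¬ p ∣ Nat.card K)
    (q : ℕ) (hq : q.Prime) (hqn : q ∣ (centralizer (P : Set G)).relIndex K) :
    q ^ ((centralizer (P : Set G)).relIndex K).factorization q % p = 1 := by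
  classical
  haveI := Fact.mk hq
  set n := (centralizer (P : Set G)).relIndex K with hn
  set C := (centralizer (P : Set G)).subgroupOf K with hC
  have hcop : (Nat.card P).Coprime (Nat.card K) := by
    obtain ⟨k, hk⟩ := hP.exists_card_eq
    rw [hk]; exact Nat.Coprime.pow_left _ ((Fact.out (p := p.Prime)).coprime_iff_not_dvd.mpr hK)
  have hqp : q ≠ p := by rintro rfl; exact hK (hqn.trans (Subgroup.index_dvd_card _))
  obtain ⟨R⟩ : Nonempty (Sylow q C) := inferInstance
  set U := ((R : Subgroup C).map C.subtype).map K.subtype with hU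
  have hUK : U ≤ K := map_subtype_le _
  have hUC : U ≤ centralizer (P : Set G) := by
    rintro x ⟨y, ⟨z, -, rfl⟩, rfl⟩; exact z.2
  have hAK : P ≤ normalizer (K : Set G) := by rw [normalizer_eq_top]; exact le_top
  have hPU : P ≤ normalizer (U : Set G) :=
    le_trans (fun a ha => by
      rw [mem_centralizer_iff]; exact fun u hu => ((mem_centralizer_iff.mp (hUC hu)) a ha).symm)
      (centralizer_le_normalizer (s := (U : Set G)))
  obtain ⟨Q, hUQ, hQP⟩ := Solv.exists_invariant_sylow_ge P K hAK hcop
    (Or.inl (by haveI := hP.isNilpotent; infer_instance)) q U hUK ((R.isPGroup'.map _).map _) hPU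
  set W := (Q : Subgroup K).map K.subtype with hW
  have hconj : ∀ (a : P) (w : W), (a : G) * w * (a : G)⁻¹ ∈ W := fun a w =>
    (mem_normalizer_iff.mp (hQP a.2) w).mp w.2
  letI : MulAction P W :=
    { smul := fun a w => ⟨(a : G) * w * (a : G)⁻¹, hconj a w⟩
      one_smul := fun w => Subtype.ext (by show ((1 : P) : G) * w * ((1 : P) : G)⁻¹ = w; simp)
      mul_smul := fun a b w => Subtype.ext (by
        show ((a * b : P) : G) * w * ((a * b : P) : G)⁻¹ = a * ((b : G) * w * (b : G)⁻¹) * (a : G)⁻¹
        rw [Subgroup.coe_mul]; group) }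
  have hfix : Nat.card (MulAction.fixedPoints P W) = Nat.card R := by
    have e1 : Nat.card U = Nat.card R := by
      rw [hU, Subgroup.card_map_of_injective K.subtype_injective, Subgroup.card_map_of_injective C.subtype_injective]
    rw [← e1]
    have hle : W ⊓ centralizer (P : Set G) = U := by
      refine le_antisymm ?_ (le_inf hUQ hUC)
      intro x ⟨hxW, hxC⟩
      have hxK : x ∈ K := map_subtype_le _ hxW
      let c : C := ⟨⟨x, hxK⟩, hxC⟩
      let S : Subgroup C := (Q : Subgroup K).comap C.subtype
      have hS : IsPGroup q S := Q.isPGroup'.comap_of_injective _ C.subtype_injective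
      have hRS : (R : Subgroup C) ≤ S := fun z hz => by
        obtain ⟨y, hy, hyz⟩ := hUQ (mem_map_of_mem _ (mem_map_of_mem _ hz))
        rw [mem_comap, ← show y = C.subtype z from Subtype.ext hyz]; exact hy
      have : c ∈ (R : Subgroup C) := by
        rw [← R.is_maximal' hS hRS]
        obtain ⟨y, hy, hyx⟩ := hxW
        show (⟨x, hxK⟩ : K) ∈ (Q : Subgroup K)
        rw [show (⟨x, hxK⟩ : K) = y from Subtype.ext hyx.symm]; exact hy
      exact ⟨⟨x, hxK⟩, ⟨c, this, rfl⟩, rfl⟩
    rw [← hle]
    refine Nat.card_congr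
      { toFun := fun w => ⟨(w : W), (w : W).2, mem_centralizer_iff.mpr fun a ha => ?_⟩
        invFun := fun w => ⟨⟨w, w.2.1⟩, fun a => Subtype.ext ?_⟩
        left_inv := fun _ => rfl
        right_inv := fun _ => rfl }
    · have := congrArg Subtype.val (w.2 ⟨a, ha⟩)
      change a * (w : W) * a⁻¹ = ((w : W) : G) at this
      exact mul_inv_eq_iff_eq_mul.mp this
    · show (a : G) * w * (a : G)⁻¹ = w
      rw [mem_centralizer_iff.mp w.2.2 a a.2]; group
  have hmod := hP.card_modEq_card_fixedPoints W
  rw [hfix, hW, Subgroup.card_map_of_injective K.subtype_injective, Q.card_eq_multiplicity,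
    R.card_eq_multiplicity] at hmod
  have hvK : (Nat.card K).factorization q = (Nat.card C).factorization q + n.factorization q := by
    rw [← C.card_mul_index, Nat.factorization_mul Nat.card_pos.ne' Subgroup.index_ne_zero_of_finite]
    rfl
  rw [hvK, pow_add] at hmod
  nth_rw 2 [← mul_one (q ^ (Nat.card C).factorization q)] at hmod
  have h1 : q ^ n.factorization q ≡ 1 [MOD p] := hmod.cancel_left_of_coprime (by
    rw [Nat.gcd_comm]; exact Nat.Coprime.pow_left _ ((Nat.coprime_primes hq Fact.out).mpr hqp))
  rw [h1, Nat.one_mod_eq_one]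
  exact (Fact.out (p := p.Prime)).one_lt.ne'

/-- `n` is a product of prime powers congruent to `1` and Sylow numbers of simple groups -/
def SylowProduct (p : ℕ) (n : ℕ) : Prop :=
  ∃ l : List ℕ, l.prod = n ∧
    ∀ m ∈ l, (IsPrimePow m ∧ m % p = 1) ∨
      ∃ (S : Type u) (_ : Group S) (_ : Finite S), IsSimpleGroup S ∧ m = Nat.card (Sylow p S)

theorem SylowProduct.mul {p a b : ℕ} (ha : SylowProduct.{u} p a) (hb : SylowProduct.{u} p b) :
    SylowProduct.{u} p (a * b) := by
  obtain ⟨l, rfl, hl⟩ := ha
  obtain ⟨l', rfl, hl'⟩ := hb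
  exact ⟨l ++ l', List.prod_append, fun m hm => (List.mem_append.mp hm).elim (hl m) (hl' m)⟩

open Subgroup in
theorem sylowProduct_card (p : ℕ) [Fact p.Prime] : ∀ (n : ℕ) (G : Type u) [Group G] [Finite G],
    Nat.card G = n → SylowProduct.{u} p (Nat.card (Sylow p G)) := by
  intro n
  induction n using Nat.strong_induction_on with
  | _ n ih =>
  intro G _ _ hGn
  subst hGn
  by_cases hex : ∃ K : Subgroup G, K.Normal ∧ K ≠ ⊥ ∧ K ≠ ⊤
  swap
  · rcases subsingleton_or_nontrivial G with hs | hs
    · refine ⟨[], ?_, by simp⟩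
      haveI : Subsingleton (Sylow p G) := ⟨fun P Q => Sylow.ext (Subsingleton.elim _ _)⟩
      simp
    · push_neg at hex
      exact ⟨[_], List.prod_singleton, fun m hm => Or.inr ⟨G, inferInstance, inferInstance,
        ⟨fun H hH => or_iff_not_imp_left.mpr (hex H hH)⟩, List.mem_singleton.mp hm⟩⟩
  obtain ⟨K, hKn, hK0, hK1⟩ := hex
  obtain ⟨P⟩ : Nonempty (Sylow p G) := inferInstance
  have hlt : ∀ H : Subgroup G, H ≠ ⊤ → Nat.card H < Nat.card G := fun H hH =>
    lt_of_le_of_ne (Nat.le_of_dvd Nat.card_pos H.card_subgroup_dvd_card) fun e => hH (eq_top_of_card_eq H e)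
  have hqlt : ∀ (H : Type u) [Group H] [Finite H] (M : Subgroup H) [M.Normal], M ≠ ⊥ → Nat.card (H ⧸ M) < Nat.card H := by
    intro H _ _ M _ hM
    rw [M.card_eq_card_quotient_mul_card_subgroup]
    exact lt_mul_of_one_lt_right Nat.card_pos (M.one_lt_card_iff_ne_bot.mpr hM)
  by_cases hPK : (P : Subgroup G) ⊔ K = ⊤
  · have hq1 : Nat.card (Sylow p (G ⧸ K)) = 1 := by
      haveI : Subsingleton (Sylow p (G ⧸ K)) := ⟨fun A B => by
        have htop : ∀ S : Sylow p (G ⧸ K), (S : Subgroup (G ⧸ K)) = ⊤ := fun S => by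
          have h1 : IsPGroup p (G ⧸ K) := by
            have h2 := P.isPGroup'.map (QuotientGroup.mk' K)
            rw [← sup_bot_eq ((P : Subgroup G).map _), ← (map_eq_bot_iff K).mpr (QuotientGroup.ker_mk' K).ge,
              ← Subgroup.map_sup, hPK, map_top_of_surjective _ (QuotientGroup.mk'_surjective K)] at h2
            exact h2.of_equiv Subgroup.topEquiv
          exact S.is_maximal' (h1.to_subgroup ⊤) le_top |>.symm
        exact Sylow.ext ((htop A).trans (htop B).symm)⟩
      exact Nat.card_unique
    by_cases hR : (P : Subgroup G) ⊓ K = ⊥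
    · have hd := S4341.card_sylow_mul p K P
      rw [hq1, one_mul, hPK, relIndex_top_right] at hd
      have hpK : ¬ p ∣ Nat.card K := by
        rw [← relIndex_bot_left]
        refine fun h => P.not_dvd_index ?_
        rw [← hR, inf_relIndex_right, ← S4341.relIndex_sup_of_normal, hPK, relIndex_top_right] at h
        exact h
      set NP := normalizer ((P : Subgroup G) : Set G) with hNP
      have hNK : NP ⊔ K = ⊤ := top_le_iff.mp (hPK ▸ sup_le_sup_right le_normalizer K)
      have hNC : NP ⊓ K = centralizer ((P : Subgroup G) : Set G) ⊓ K := by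
        refine le_antisymm (fun x hx => ⟨mem_centralizer_iff.mpr fun a ha => ?_, hx.2⟩)
          (inf_le_inf_right _ (centralizer_le_normalizer _))
        have h1 : x * a * x⁻¹ * a⁻¹ ∈ (P : Subgroup G) ⊓ K := by
          refine ⟨(P : Subgroup G).mul_mem ((mem_normalizer_iff.mp hx.1 a).mp ha) ((P : Subgroup G).inv_mem ha), ?_⟩
          have := K.mul_mem hx.2 (hKn.conj_mem _ (K.inv_mem hx.2) a)
          rwa [← mul_assoc, ← mul_assoc] at this
        rw [hR, mem_bot] at h1
        have := mul_inv_eq_one.mp h1
        calc a * x = x * a * x⁻¹ * x := by rw [this]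
          _ = x * a := by group
      have hidx : NP.index = (centralizer ((P : Subgroup G) : Set G)).relIndex K := by
        rw [← relIndex_top_right, ← hNK, S4341.relIndex_sup_of_normal, ← inf_relIndex_right, hNC, inf_relIndex_right]
      rw [hd, hidx]
      set m := (centralizer ((P : Subgroup G) : Set G)).relIndex K with hm
      have hm0 : m ≠ 0 := Subgroup.index_ne_zero_of_finite
      refine ⟨m.primeFactors.toList.map (fun q => q ^ m.factorization q), ?_, fun x hx => ?_⟩
      · rw [Finset.prod_map_toList]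
        conv_rhs => rw [← Nat.prod_factorization_pow_eq_self hm0]
        rw [Nat.prod_factorization_eq_prod_primeFactors]
      · simp only [List.mem_map, Finset.mem_toList] at hx
        obtain ⟨q, hq, rfl⟩ := hx
        obtain ⟨hq1, hq2, -⟩ := Nat.mem_primeFactors.mp hq
        exact Or.inl ⟨⟨q, m.factorization q, hq1.prime, hq1.factorization_pos_of_dvd hm0 hq2, rfl⟩,
          index_centralizer_part p _ K P.isPGroup' hpK q hq1 hq2⟩
    · set N := ((P : Subgroup G) ⊔ K) ⊓ normalizer (((P : Subgroup G) ⊓ K : Subgroup G) : Set G) with hN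
      haveI : (((P : Subgroup G) ⊓ K).subgroupOf N).Normal :=
        normal_subgroupOf_of_le_normalizer inf_le_right
      rw [S4341.result p K P N hN, hq1, one_mul]
      have hRN : (P : Subgroup G) ⊓ K ≤ N := le_inf (inf_le_left.trans le_sup_left) le_normalizer
      refine SylowProduct.mul (ih _ (hlt K hK1) K rfl) (ih _ ?_ _ rfl)
      refine (hqlt N _ ?_).trans_le (Nat.card_le_card_of_injective _ N.subtype_injective)
      rw [Ne, subgroupOf_eq_bot, disjoint_iff, inf_of_le_left hRN]
      exact hR
  · have hd := S4341.card_sylow_mul p K P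
    rw [← S4341.card_sylow_eq_relIndex p _ _ le_sup_left P.isPGroup'
      (fun h => P.not_dvd_index (h.trans (relIndex_dvd_index_of_le le_sup_left)))] at hd
    rw [hd]
    exact SylowProduct.mul (ih _ (hqlt G K hK0) _ rfl) (ih _ (hlt _ hPK) _ rfl)

/-- For a finite group `G` and a prime `p`, the number of Sylow `p`-subgroups of `G` is a product of natural numbers each of which is either a prime power congruent to 1 modulo `p` or the number of Sylow `p`-subgroups of some finite simple group. -/
theorem result {G : Type u} [Group G] [Finite G]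
    (p : ℕ) [Fact p.Prime] :
    ∃ l : List ℕ, l.prod = Nat.card (Sylow p G) ∧
      ∀ m ∈ l, (IsPrimePow m ∧ m % p = 1) ∨
        ∃ (S : Type u) (_ : Group S) (_ : Finite S), IsSimpleGroup S ∧ m = Nat.card (Sylow p S) := by
  exact sylowProduct_card p _ G rfl

end Cfsg.Agent.S4303
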