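import Cfsg.Statements.S4304
import Mathlib
import Cfsg.Agent.Lib.Perm.TwoPrimeDegree

set_option autoImplicit false
open Cfsg

namespace Cfsg.Agent.S4304

---pre
open Subgroup

theorem no_normal_five {M : Type*} [Group M] [Finite M] [Fact (Nat.Prime 7)] (P : Sylow 7 M)
    (hP : Nat.card (P : Subgroup M) = 7) (hC : centralizer ((P : Subgroup M) : Set M) ≤ P)
    (Q : Subgroup M) [Q.Normal] (hQ : Nat.card Q = 5) : False := by
  have hcyc : IsCyclic Q := by
    have : Fact (Nat.Prime 5) := ⟨by norm_num⟩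
    exact isCyclic_of_prime_card hQ
  let φ := (MulAut.conjNormal (H := Q)).comp (P : Subgroup M).subtype
  have hφ : φ.range = ⊥ := by
    rw [← Subgroup.card_eq_one]
    have h1 : Nat.card φ.range ∣ 7 := (Subgroup.card_range_dvd φ).trans (dvd_of_eq hP)
    have h2 : Nat.card φ.range ∣ 4 := by
      have h3 : Nat.card (MulAut Q) = 4 := by
        rw [IsCyclic.card_mulAut, hQ, Nat.totient_prime (by norm_num)]
      exact h3 ▸ φ.range.card_subgroup_dvd_card
    exact Nat.dvd_one.1 (Nat.dvd_gcd h1 h2)
  have hle : Q ≤ (P : Subgroup M) := fun q hq => hC (mem_centralizer_iff.2 fun x hx => by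
    have h1 : φ ⟨x, hx⟩ = 1 := by
      have h4 : φ ⟨x, hx⟩ ∈ φ.range := ⟨_, rfl⟩
      rwa [hφ, mem_bot] at h4
    have h2 := congrArg (fun e : MulAut Q => ((e ⟨q, hq⟩ : Q) : M)) h1
    simp only [φ, MonoidHom.comp_apply, Subgroup.subtype_apply, MulAut.conjNormal_apply,
      MulAut.one_apply] at h2
    exact mul_inv_eq_iff_eq_mul.1 h2)
  have := Subgroup.card_dvd_of_le hle
  rw [hQ, hP] at this
  omega

/-- No finite group has exactly 15 Sylow 7-subgroups. -/
theorem result {G : Type*} [Group G] [Finite G] : Nat.card (Sylow 7 G) ≠ 15 := by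
  intro hn
  have : Fact (Nat.Prime 7) := ⟨by norm_num⟩
  have : Fact (Nat.Prime 5) := ⟨by norm_num⟩
  obtain ⟨M, _, _, hnM, ⟨k, hkodd, hk6, hcard⟩, hP⟩ :=
    Perm.two_prime_degree_reduction (p := 7) (by norm_num) G hn
  have hk : k = 1 ∨ k = 3 := by
    have h1 := Nat.le_of_dvd (by norm_num) hk6
    rcases hkodd with ⟨j, rfl⟩
    rcases (by omega : j = 0 ∨ j = 1 ∨ j = 2) with rfl | rfl | rfl
    · exact Or.inl rfl
    · exact Or.inr rfl
    · norm_num at hk6
  obtain ⟨Q⟩ := Sylow.nonempty (p := 5) (G := M)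
  have hQ : Nat.card (Q : Subgroup M) = 5 := by
    obtain ⟨e, he⟩ := IsPGroup.iff_card.1 Q.isPGroup'
    have h1 := Sylow.card_eq_multiplicity Q
    rw [hcard] at h1
    rcases hk with rfl | rfl
    · rw [h1, show ((2 * 7 + 1) * (7 * 1) : ℕ) = 5 ^ 1 * 21 by norm_num,
        Nat.factorization_mul (by norm_num) (by norm_num)]
      simp [Nat.Prime.factorization_self (show Nat.Prime 5 by norm_num),
        Nat.factorization_eq_zero_of_not_dvd (show ¬ 5 ∣ 21 by norm_num)]
    · rw [h1, show ((2 * 7 + 1) * (7 * 3) : ℕ) = 5 ^ 1 * 63 by norm_num,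
        Nat.factorization_mul (by norm_num) (by norm_num)]
      simp [Nat.Prime.factorization_self (show Nat.Prime 5 by norm_num),
        Nat.factorization_eq_zero_of_not_dvd (show ¬ 5 ∣ 63 by norm_num)]
  obtain ⟨P⟩ := Sylow.nonempty (p := 7) (G := M)
  have hidx : Nat.card M = 5 * (Q : Subgroup M).index := by
    rw [← (Q : Subgroup M).card_mul_index, hQ]
  have hi : (Q : Subgroup M).index = 3 * (7 * k) := by omega
  have hd : Nat.card (Sylow 5 M) ∣ 3 * (7 * k) := hi ▸ Q.card_dvd_index
  have hmod := card_sylow_modEq_one 5 M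
  have hs : Nat.card (Sylow 5 M) = 1 ∨ Nat.card (Sylow 5 M) = 21 := by
    rcases hk with rfl | rfl
    · have := Nat.mem_divisors.2 ⟨hd, by norm_num⟩
      rw [show Nat.divisors (3 * (7 * 1)) = {1, 3, 7, 21} by decide] at this
      simp only [Finset.mem_insert, Finset.mem_singleton] at this
      rcases this with e | e | e | e <;> simp_all [Nat.ModEq]
    · have := Nat.mem_divisors.2 ⟨hd, by norm_num⟩
      rw [show Nat.divisors (3 * (7 * 3)) = {1, 3, 7, 9, 21, 63} by decide] at this
      simp only [Finset.mem_insert, Finset.mem_singleton] at this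
      rcases this with e | e | e | e | e | e <;> simp_all [Nat.ModEq]
  rcases hs with hs | hs
  · have : Subsingleton (Sylow 5 M) := (Nat.card_eq_one_iff_unique.1 hs).1
    have : (Q : Subgroup M).Normal := Q.normal_of_subsingleton
    exact no_normal_five P (hP P).1 (hP P).2 (Q : Subgroup M) hQ
  · have hcyc : IsCyclic (Q : Subgroup M) := isCyclic_of_prime_card hQ
    set N := normalizer ((Q : Subgroup M) : Set M) with hN
    have hNi : N.index = 21 := (Q.card_eq_index_normalizer.symm.trans hs :)
    have hNc : Nat.card N = 5 * k := by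
      have h1 := N.card_mul_index
      rw [hNi, hcard] at h1
      omega
    have hle : N ≤ centralizer ((Q : Subgroup M) : Set M) := by
      let ψ := (Q : Subgroup M).normalizerMonoidHom
      have hψ : ψ.range = ⊥ := by
        rw [← Subgroup.card_eq_one]
        have h1 : Nat.card ψ.range ∣ 5 * k := hNc ▸ Subgroup.card_range_dvd ψ
        have h2 : Nat.card ψ.range ∣ 4 := by
          have h3 : Nat.card (MulAut (Q : Subgroup M)) = 4 := by
            rw [IsCyclic.card_mulAut, hQ, Nat.totient_prime (by norm_num)]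
          exact h3 ▸ ψ.range.card_subgroup_dvd_card
        have := Nat.dvd_gcd h1 h2
        rcases hk with rfl | rfl <;> simpa using this
      intro x hx
      have h1 : (⟨x, hx⟩ : N) ∈ ψ.ker := by
        rw [MonoidHom.mem_ker]
        have h4 : ψ ⟨x, hx⟩ ∈ ψ.range := ⟨_, rfl⟩
        rwa [hψ, mem_bot] at h4
      rw [Subgroup.normalizerMonoidHom_ker] at h1
      exact h1
    set K := (MonoidHom.transferSylow Q hle).ker
    have hK := MonoidHom.ker_transferSylow_isComplement' Q hle
    have hKc : Nat.card K * 5 = Nat.card M := by rw [← hQ]; exact hK.card_mul_card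
    have hKi : K.index = 5 := hK.symm.index_eq_card.trans hQ
    have hKP : ∀ R : Sylow 7 M, (R : Subgroup M) ≤ K := by
      intro R y hy
      have h1 : orderOf ((y : M ⧸ K)) ∣ 5 := by
        have h3 := orderOf_dvd_natCard ((y : M ⧸ K))
        rwa [← Subgroup.index_eq_card, hKi] at h3
      have h2 : orderOf ((y : M ⧸ K)) ∣ 7 := by
        refine (orderOf_map_dvd (QuotientGroup.mk' K) y).trans ?_
        have h3 := orderOf_dvd_natCard (⟨y, hy⟩ : (R : Subgroup M))
        rwa [(hP R).1, Subgroup.orderOf_mk] at h3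
      exact (QuotientGroup.eq_one_iff y).1
        (orderOf_eq_one_iff.1 (Nat.dvd_one.1 (Nat.dvd_gcd h1 h2)))
    obtain ⟨R⟩ := Sylow.nonempty (p := 7) (G := K)
    have h4 := R.card_dvd_index.trans (R : Subgroup K).index_dvd_card
    rw [Perm.sylow_subtype_card K hKP, hnM] at h4
    rcases hk with rfl | rfl <;> omega

end Cfsg.Agent.S4304
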