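import Cfsg.Statements.S4305
import Cfsg.Agent.Lib.Struct.SymThree
import Cfsg.Agent.Lib.Solv.Basic
import Cfsg.Agent.Lib.Solv.Coprime

set_option autoImplicit false
open Cfsg
open scoped commutatorElement

namespace Cfsg.Agent.S4305

open Cfsg.Agent.Struct in
/-- The transposition. -/
def s3 : Equiv.Perm (Fin 3) := Equiv.swap 0 1

/-- The three-cycle. -/
def t3 : Equiv.Perm (Fin 3) := Equiv.swap 0 1 * Equiv.swap 1 2

theorem s3_sq : s3 * s3 = 1 := by decide

theorem t3_cube : t3 ^ 3 = 1 := by decide

theorem s3_t3 : s3 * t3 * s3 = t3⁻¹ := by decide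

theorem gen3 : ∀ a : Equiv.Perm (Fin 3), ∃ i : Fin 3, a = t3 ^ (i : ℕ) ∨ a = s3 * t3 ^ (i : ℕ) := by decide

universe u

theorem main : ∀ (n : ℕ) (G : Type u) [Group G] [Finite G], Nat.card G = n → Group.IsSolvable G →
    ∀ φ : Equiv.Perm (Fin 3) →* MulAut G, (Nat.card G).Coprime 6 →
      (∀ g, φ s3 g = g → φ t3 g = g → g = 1) → Group.IsNilpotent ↥(commutator G) := by
  intro n
  induction n using Nat.strong_induction_on with
  | _ n ih =>
    intro G _ _ hn hsolv φ hcop hfpf
    classical
    rcases subsingleton_or_nontrivial G with hG | hG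
    · exact inferInstance
    let A := Equiv.Perm (Fin 3)
    haveI : Finite (G ⋊[φ] A) := Finite.of_equiv (G × A) SemidirectProduct.equivProd.symm
    let Ĝ : Subgroup (G ⋊[φ] A) := (SemidirectProduct.inl : G →* G ⋊[φ] A).range
    haveI hĜn : Ĝ.Normal := by
      rw [show Ĝ = (SemidirectProduct.rightHom : G ⋊[φ] A →* A).ker from
        SemidirectProduct.range_inl_eq_ker_rightHom]
      infer_instance
    have hĜcard : Nat.card Ĝ = Nat.card G :=
      (Nat.card_congr (MonoidHom.ofInjective SemidirectProduct.inl_injective).toEquiv).symm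
    have hĜsolv : Group.IsSolvable Ĝ :=
      Group.isSolvable_of_surjective (f := (SemidirectProduct.inl : G →* G ⋊[φ] A).rangeRestrict)
        (MonoidHom.rangeRestrict_surjective _)
    have hĜne : Ĝ ≠ ⊥ := by
      intro h
      rw [h, Subgroup.card_bot] at hĜcard
      exact Finite.one_lt_card.ne hĜcard
    obtain ⟨V, hVn, hVG, hV1, hVmin⟩ := Cfsg.Agent.Solv.exists_minimal_normal_le hĜne
    haveI := hVn
    haveI : Group.IsSolvable V := Cfsg.Agent.Solv.isSolvable_of_le hVG hĜsolv
    obtain ⟨hVc, p, hp, hVp⟩ := Cfsg.Agent.Solv.minimal_normal_elementary V hV1 hVmin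
    haveI := Fact.mk hp
    let sA : G ⋊[φ] A := SemidirectProduct.inr s3
    let tA : G ⋊[φ] A := SemidirectProduct.inr t3
    have hss : sA * sA = 1 := by rw [← map_mul, s3_sq, map_one]
    have htt : tA ^ 3 = 1 := by rw [← map_pow, t3_cube, map_one]
    have hst : sA * tA * sA = tA⁻¹ := by rw [← map_mul, ← map_mul, s3_t3, map_inv]
    have hfix : ∀ x ∈ Ĝ, sA * x = x * sA → tA * x = x * tA → x = 1 := by
      rintro _ ⟨g, rfl⟩ h1 h2
      have e : ∀ a, SemidirectProduct.inr a * SemidirectProduct.inl g =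
          (SemidirectProduct.inl g : G ⋊[φ] A) * SemidirectProduct.inr a → φ a g = g := by
        intro a h
        refine SemidirectProduct.inl_injective (φ := φ) ?_
        rw [SemidirectProduct.inl_aut, h, mul_assoc, ← map_mul, mul_inv_cancel, map_one, mul_one]
      rw [hfpf g (e _ h1) (e _ h2), map_one]
    let Γ₀ := Cfsg.Agent.Struct.SymThree.dihedralSub sA tA hss htt hst
    have hΓcop : ∀ {k : ℕ}, k.Coprime 6 → (Nat.card Γ₀).Coprime k := fun hk =>
      Cfsg.Agent.Struct.SymThree.coprime_dihedralSub sA tA hss htt hst hk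
    have lift : ∀ N : Subgroup (G ⋊[φ] A), N.Normal → N ≤ Ĝ → ∀ x ∈ Ĝ,
        x⁻¹ * (sA * x * sA⁻¹) ∈ N → x⁻¹ * (tA * x * tA⁻¹) ∈ N → x ∈ N := by
      intro N hN hNG x hx h1 h2
      have hnorm : Γ₀ ≤ Subgroup.normalizer (N : Set (G ⋊[φ] A)) := by
        rw [Subgroup.normalizer_eq_top]; exact le_top
      let Z : Subgroup (G ⋊[φ] A) :=
        { carrier := {g | x⁻¹ * g * x * g⁻¹ ∈ N}
          one_mem' := by simp
          mul_mem' := fun {g h} hg hh => by
            show x⁻¹ * (g * h) * x * (g * h)⁻¹ ∈ N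
            rw [show x⁻¹ * (g * h) * x * (g * h)⁻¹ =
              (x⁻¹ * g * x * g⁻¹) * (g * (x⁻¹ * h * x * h⁻¹) * g⁻¹) by group]
            exact mul_mem hg (hN.conj_mem _ hh g)
          inv_mem' := fun {g} hg => by
            show x⁻¹ * g⁻¹ * x * g⁻¹⁻¹ ∈ N
            rw [show x⁻¹ * g⁻¹ * x * g⁻¹⁻¹ = g⁻¹ * (x⁻¹ * g * x * g⁻¹)⁻¹ * g⁻¹⁻¹ by group]
            exact hN.conj_mem _ (inv_mem hg) _ }
      have hsZ : sA ∈ Z := by show _ ∈ N; rwa [show x⁻¹ * sA * x * sA⁻¹ = x⁻¹ * (sA * x * sA⁻¹) by group]
      have htZ : tA ∈ Z := by show _ ∈ N; rwa [show x⁻¹ * tA * x * tA⁻¹ = x⁻¹ * (tA * x * tA⁻¹) by group]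
      obtain ⟨c, hc, hcN⟩ := Cfsg.Agent.Solv.exists_centralizing_in_coset Γ₀ Ĝ N
        (by rw [Subgroup.normalizer_eq_top]; exact le_top)
        (Cfsg.Agent.Solv.inf_eq_bot_of_coprime_card _ _ (hΓcop (hĜcard ▸ hcop))) hNG hnorm
        (hΓcop ((hĜcard ▸ hcop).coprime_dvd_left (Subgroup.card_dvd_of_le hNG)))
        (Or.inr (Cfsg.Agent.Solv.isSolvable_of_le hNG hĜsolv)) x hx
        (fun g hg => by
          obtain ⟨i, rfl | rfl⟩ := hg
          · exact Z.pow_mem htZ i
          · exact Z.mul_mem hsZ (Z.pow_mem htZ i))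
      have hc1 : c = 1 := hfix c hc.1 (hc.2 sA ⟨0, Or.inr (by rw [pow_zero, mul_one])⟩)
        (hc.2 tA ⟨1, Or.inl (pow_one tA).symm⟩)
      rw [hc1, mul_one] at hcN
      simpa using inv_mem hcN
    -- the quotient by `V`
    let V₀ : Subgroup G := V.comap SemidirectProduct.inl
    haveI hV₀n : V₀.Normal := hVn.comap _
    have hV₀mem : ∀ a g, g ∈ V₀ → φ a g ∈ V₀ := fun a g hg => by
      show SemidirectProduct.inl (φ a g) ∈ V
      rw [SemidirectProduct.inl_aut]
      have := hVn.conj_mem _ hg (SemidirectProduct.inr a)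
      rwa [← map_inv] at this
    have hV₀map : ∀ a, V₀.map (φ a : G →* G) = V₀ := by
      intro a
      refine le_antisymm ?_ fun g hg => ⟨φ a⁻¹ g, hV₀mem _ g hg, ?_⟩
      · rintro _ ⟨g, hg, rfl⟩; exact hV₀mem a g hg
      · show φ a (φ a⁻¹ g) = g
        rw [← MulAut.mul_apply, ← map_mul, mul_inv_cancel, map_one, MulAut.one_apply]
    let ψ : A →* MulAut (G ⧸ V₀) :=
      { toFun := fun a => QuotientGroup.congr V₀ V₀ (φ a) (hV₀map a)
        map_one' := MulEquiv.ext fun x => by
          induction x using QuotientGroup.induction_on with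
          | _ g => simp
        map_mul' := fun a b => MulEquiv.ext fun x => by
          induction x using QuotientGroup.induction_on with
          | _ g => simp }
    have hV₀ne : V₀ ≠ ⊥ := by
      intro h
      refine hV1 (eq_bot_iff.2 fun v hv => ?_)
      obtain ⟨g, rfl⟩ := hVG hv
      have : g ∈ V₀ := hv
      rw [h, Subgroup.mem_bot] at this
      simp [this]
    have hquot : Group.IsNilpotent ↥(commutator (G ⧸ V₀)) := by
      refine ih (Nat.card (G ⧸ V₀)) ?_ (G ⧸ V₀) rfl ?_ ψ
        (hcop.coprime_dvd_left (Subgroup.card_quotient_dvd_card V₀)) ?_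
      · rw [← hn, Subgroup.card_eq_card_quotient_mul_card_subgroup V₀]
        have h1 := (Subgroup.one_lt_card_iff_ne_bot V₀).2 hV₀ne
        have h2 : 0 < Nat.card (G ⧸ V₀) := Nat.card_pos
        exact lt_mul_of_one_lt_right h2 h1
      · exact Group.isSolvable_of_surjective (f := QuotientGroup.mk' V₀) (QuotientGroup.mk'_surjective _)
      · intro x h1 h2
        induction x using QuotientGroup.induction_on with
        | _ g =>
          refine (QuotientGroup.eq_one_iff g).2 (lift V hVn hVG _ ⟨g, rfl⟩ ?_ ?_)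
          · have h1' : ((φ s3 g : G) : G ⧸ V₀) = g := h1
            have := QuotientGroup.eq.1 h1'.symm
            rw [show sA * SemidirectProduct.inl g * sA⁻¹ = SemidirectProduct.inl (φ s3 g) by
              rw [SemidirectProduct.inl_aut, map_inv], ← map_inv, ← map_mul]
            exact this
          · have h2' : ((φ t3 g : G) : G ⧸ V₀) = g := h2
            have := QuotientGroup.eq.1 h2'.symm
            rw [show tA * SemidirectProduct.inl g * tA⁻¹ = SemidirectProduct.inl (φ t3 g) by
              rw [SemidirectProduct.inl_aut, map_inv], ← map_inv, ← map_mul]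
            exact this
    -- the image in the automorphisms of `V`
    let c : G ⋊[φ] A →* MulAut V := MulAut.conjNormal
    let f : G →* c.range := c.rangeRestrict.comp SemidirectProduct.inl
    let H : Subgroup c.range := Ĝ.map c.rangeRestrict
    haveI hHn : H.Normal := hĜn.map _ c.rangeRestrict_surjective
    have hfH : f.range = H := by rw [MonoidHom.range_comp]
    have hfker : V₀ ≤ f.ker := by
      intro g hg
      refine Subtype.ext (MulEquiv.ext fun v => Subtype.ext ?_)
      show (SemidirectProduct.inl g : G ⋊[φ] A) * (v : G ⋊[φ] A) * (SemidirectProduct.inl g : G ⋊[φ] A)⁻¹ = v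
      have : (SemidirectProduct.inl g : G ⋊[φ] A) * (v : G ⋊[φ] A) = (v : G ⋊[φ] A) * (SemidirectProduct.inl g : G ⋊[φ] A) := by
        haveI := hVc
        exact congrArg Subtype.val (mul_comm' (⟨_, hg⟩ : V) v)
      rw [this, mul_inv_cancel_right]
    have hHnil : Group.IsNilpotent ↥(⁅H, H⁆ : Subgroup c.range) := by
      let F : G ⧸ V₀ →* c.range := QuotientGroup.lift V₀ f hfker
      have hF : (commutator (G ⧸ V₀)).map F = ⁅H, H⁆ := by
        rw [commutator_def, Subgroup.map_commutator, ← MonoidHom.range_eq_map]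
        have : F.range = H := by
          rw [← hfH]
          ext x
          constructor
          · rintro ⟨y, rfl⟩
            induction y using QuotientGroup.induction_on with
            | _ g => exact ⟨g, rfl⟩
          · rintro ⟨g, rfl⟩; exact ⟨(g : G ⧸ V₀), rfl⟩
        rw [this]
      haveI := hquot
      rw [← hF]
      exact Group.nilpotent_of_surjective (F.subgroupMap (commutator (G ⧸ V₀))) (F.subgroupMap_surjective _)
    have hp3 : p ≠ 3 := by
      intro h
      obtain ⟨⟨v, hv⟩, hvne⟩ := Subgroup.ne_bot_iff_exists_ne_one.1 hV1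
      have hv1 : v ≠ 1 := fun e => hvne (Subtype.ext e)
      have h1 : p ∣ Nat.card V := by
        rw [← orderOf_eq_prime (hVp v hv) hv1, ← Subgroup.orderOf_mk v hv]
        exact orderOf_dvd_natCard _
      have h3 := Nat.eq_one_of_dvd_coprimes (hcop.coprime_dvd_right (by norm_num : (3 : ℕ) ∣ 6))
        (h ▸ h1.trans (hĜcard ▸ Subgroup.card_dvd_of_le hVG)) dvd_rfl
      norm_num at h3
    letI : CommGroup V :=
      { (inferInstance : Group V) with mul_comm := fun a b => by haveI := hVc; exact mul_comm' a b }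
    have hab : ∀ a ∈ H, ∀ b ∈ H, a * b = b * a := by
      refine Cfsg.Agent.Struct.SymThree.abelian_of_faithful (p := p) (fun v => Subtype.ext (by simpa using hVp v v.2))
        c.range.subtype c.range.subtype_injective (c.rangeRestrict sA) (c.rangeRestrict tA)
        (by rw [← map_mul, hss, map_one]) (by rw [← map_pow, htt, map_one])
        (by rw [← map_mul, ← map_mul, hst, map_inv]) ?_ hp3 H ?_ ?_ ?_ ?_ hHnil
      · intro v h1 h2
        refine Subtype.ext (hfix v (hVG v.2) ?_ ?_)
        · exact mul_inv_eq_iff_eq_mul.1 (congrArg Subtype.val h1)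
        · exact mul_inv_eq_iff_eq_mul.1 (congrArg Subtype.val h2)
      · exact hcop.coprime_dvd_left (hĜcard ▸ Subgroup.card_dvd_of_surjective (c.rangeRestrict.subgroupMap Ĝ)
          (c.rangeRestrict.subgroupMap_surjective Ĝ))
      · exact Group.isSolvable_of_surjective (f := c.rangeRestrict.subgroupMap Ĝ) (c.rangeRestrict.subgroupMap_surjective Ĝ)
      · rintro _ ⟨x, hx, rfl⟩ h1 h2
        have hN : (c.rangeRestrict.ker ⊓ Ĝ).Normal := Subgroup.normal_inf_normal _ _
        refine (lift _ hN inf_le_right x hx (Subgroup.mem_inf.2 ⟨?_, mul_mem (inv_mem hx) (hĜn.conj_mem x hx _)⟩)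
          (Subgroup.mem_inf.2 ⟨?_, mul_mem (inv_mem hx) (hĜn.conj_mem x hx _)⟩)).1
        · rw [MonoidHom.mem_ker, map_mul, map_mul, map_mul, map_inv, map_inv, h1, mul_inv_cancel_right, inv_mul_cancel]
        · rw [MonoidHom.mem_ker, map_mul, map_mul, map_mul, map_inv, map_inv, h2, mul_inv_cancel_right, inv_mul_cancel]
      · intro W hW
        have hn : (W.map V.subtype).Normal := by
          refine ⟨fun x hx g => ?_⟩
          obtain ⟨w, hw, rfl⟩ := hx
          exact ⟨c g w, hW (c.rangeRestrict g) w hw, rfl⟩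
        rcases hVmin _ hn (Subgroup.map_subtype_le W) with h | h
        · exact Or.inl ((Subgroup.map_eq_bot_iff_of_injective _ V.subtype_injective).1 h)
        · refine Or.inr (eq_top_iff.2 fun v _ => ?_)
          have hv' : (v : G ⋊[φ] A) ∈ W.map V.subtype := by rw [h]; exact v.2
          obtain ⟨w, hw, hwv⟩ := hv'
          rwa [← Subtype.ext hwv]
    -- conclusion
    have hcomker : commutator G ≤ f.ker := by
      rw [commutator_def, Subgroup.commutator_le]
      intro a _ b _
      rw [MonoidHom.mem_ker, map_commutatorElement, commutatorElement_eq_one_iff_mul_comm]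
      exact hab _ (hfH ▸ ⟨a, rfl⟩) _ (hfH ▸ ⟨b, rfl⟩)
    haveI := hquot
    refine Subgroup.isNilpotent_of_ker_le_center
      (((QuotientGroup.mk' V₀).comp (commutator G).subtype).codRestrict (commutator (G ⧸ V₀)) fun x => ?_)
      (fun x hx => ?_)
    · have : (commutator G).map (QuotientGroup.mk' V₀) ≤ commutator (G ⧸ V₀) := by
        rw [commutator_def, commutator_def, Subgroup.map_commutator]
        exact Subgroup.commutator_mono le_top le_top
      exact this ⟨x, x.2, rfl⟩
    · have hx' : (x : G) ∈ V₀ := (QuotientGroup.eq_one_iff _).1 (congrArg Subtype.val hx)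
      refine Subgroup.mem_center_iff.2 fun y => Subtype.ext (SemidirectProduct.inl_injective (φ := φ) ?_)
      have h1 := congrArg Subtype.val (DFunLike.congr_fun (congrArg Subtype.val
        ((MonoidHom.mem_ker).1 (hcomker y.2))) (⟨_, hx'⟩ : V))
      have h2 : SemidirectProduct.inl (y : G) * SemidirectProduct.inl (x : G) * (SemidirectProduct.inl (y : G))⁻¹ =
          (SemidirectProduct.inl (x : G) : G ⋊[φ] A) := h1
      rw [Subgroup.coe_mul, Subgroup.coe_mul, map_mul, map_mul]
      exact mul_inv_eq_iff_eq_mul.1 h2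

/-- Let the symmetric group of degree 3 act by automorphisms on a finite solvable group `G` of order prime to 6, so that only the identity of `G` is fixed by all of it. Then the derived subgroup of `G` is nilpotent. -/
theorem result {G : Type*} [Group G] [Finite G] [Group.IsSolvable G]
    [MulDistribMulAction (Equiv.Perm (Fin 3)) G] (hcop : (Nat.card G).Coprime 6)
    (hfpf : ∀ g : G, (∀ a : Equiv.Perm (Fin 3), a • g = g) → g = 1) :
    Group.IsNilpotent ↥(commutator G) := by
  refine main (Nat.card G) G rfl inferInstance (MulDistribMulAction.toMulAut (Equiv.Perm (Fin 3)) G) hcop ?_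
  intro g h1 h2
  refine hfpf g fun a => ?_
  have h1' : s3 • g = g := h1
  have h2' : t3 • g = g := h2
  have ht : ∀ i : ℕ, t3 ^ i • g = g := by
    intro i
    induction i with
    | zero => rw [pow_zero, one_smul]
    | succ i ih => rw [pow_succ, mul_smul, h2', ih]
  obtain ⟨i, rfl | rfl⟩ := gen3 a
  · exact ht _
  · rw [mul_smul, ht, h1']

end Cfsg.Agent.S4305
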