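import Cfsg.Statements.S4309

set_option autoImplicit false
open Cfsg

namespace Cfsg.Agent.S4309

/-- Let `π` be a set of primes, `G` a finite group with a Hall `π`-subgroup `H` (every prime divisor of the order of `H` lies in `π` and no prime of `π` divides its index), and `A` a normal subgroup of `G`. Then `H ∩ A` is a Hall `π`-subgroup of `A` and the image of `H` in `G/A` is a Hall `π`-subgroup of `G/A`. -/
theorem result {G : Type*} [Group G] [Finite G] (π : Set ℕ)
    (H A : Subgroup G) [A.Normal] (hH : Cfsg.IsPiHall π H) :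
    Cfsg.IsPiHall π ((H ⊓ A).subgroupOf A) ∧ Cfsg.IsPiHall π (H.map (QuotientGroup.mk' A)) := by
  refine ⟨⟨fun p hp hd => hH.1 p hp ?_, fun p hp hpπ hd => hH.2 p hp hpπ ?_⟩,
    ⟨fun p hp hd => hH.1 p hp (hd.trans (Subgroup.card_map_dvd _ _)),
      fun p hp hpπ hd => hH.2 p hp hpπ (hd.trans (H.index_map_dvd (QuotientGroup.mk'_surjective A)))⟩⟩
  · rw [Nat.card_congr (Subgroup.subgroupOfEquivOfLe inf_le_right).toEquiv] at hd
    exact hd.trans (Subgroup.card_dvd_of_le inf_le_left)
  · have e1 : (H ⊓ A).relIndex A * Nat.card ↥(H ⊓ A) = Nat.card A := by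
      rw [← Subgroup.index_mul_card ((H ⊓ A).subgroupOf A),
        Nat.card_congr (Subgroup.subgroupOfEquivOfLe inf_le_right).toEquiv]
      rfl
    have e2 : A.relIndex H * Nat.card ↥(H ⊓ A) = Nat.card H := by
      rw [← Subgroup.index_mul_card (A.subgroupOf H),
        ← Subgroup.card_map_of_injective H.subtype_injective, Subgroup.subgroupOf_map_subtype, inf_comm H A]
      rfl
    have e3 : A.relIndex H * Nat.card A = Nat.card ↥(H ⊔ A) := by
      rw [← Subgroup.relIndex_sup_right H A, ← Subgroup.index_mul_card (A.subgroupOf (H ⊔ A)),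
        Nat.card_congr (Subgroup.subgroupOfEquivOfLe le_sup_right).toEquiv]
      rfl
    have e4 : H.relIndex (H ⊔ A) * Nat.card H = Nat.card ↥(H ⊔ A) := by
      rw [← Subgroup.index_mul_card (H.subgroupOf (H ⊔ A)),
        Nat.card_congr (Subgroup.subgroupOfEquivOfLe le_sup_left).toEquiv]
      rfl
    have e5 : (H ⊓ A).relIndex A = H.relIndex (H ⊔ A) := by
      have : (H ⊓ A).relIndex A * Nat.card H = H.relIndex (H ⊔ A) * Nat.card H := by
        rw [e4, ← e3, ← e1, ← e2]; ac_rfl
      exact Nat.eq_of_mul_eq_mul_right Nat.card_pos this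
    change p ∣ (H ⊓ A).relIndex A at hd
    rw [e5] at hd
    exact hd.trans ⟨(H ⊔ A).index, (Subgroup.relIndex_mul_index le_sup_left).symm⟩

end Cfsg.Agent.S4309
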