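import Cfsg.Statements.S4314
import Cfsg.Agent.Lib.Struct.ClassSize
import Mathlib.GroupTheory.Sylow
import Mathlib.GroupTheory.Nilpotent

set_option autoImplicit false
open Cfsg

namespace Cfsg.Agent.S4314

open scoped Pointwise

/-- The conjugation orbit has the size of the index of the centralizer. -/
theorem card_conjRange {G : Type*} [Group G] (x : G) :
    Nat.card (Set.range fun g : G => g * x * g⁻¹) = (Subgroup.centralizer ({x} : Set G)).index := by
  rw [Subgroup.index_eq_card]
  symm
  refine Nat.card_congr (Equiv.ofBijective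
    (Quotient.lift (fun g : G => (⟨g * x * g⁻¹, ⟨g, rfl⟩⟩ : Set.range fun g : G => g * x * g⁻¹)) ?_) ⟨?_, ?_⟩)
  · intro a b hab
    have h := Subgroup.mem_centralizer_singleton_iff.1 (QuotientGroup.leftRel_apply.1 hab)
    refine Subtype.ext ?_
    show a * x * a⁻¹ = b * x * b⁻¹
    calc a * x * a⁻¹ = a * (x * (a⁻¹ * b)) * b⁻¹ := by group
      _ = a * ((a⁻¹ * b) * x) * b⁻¹ := by rw [h]
      _ = b * x * b⁻¹ := by group
  · intro a b hab
    induction a using QuotientGroup.induction_on with | H a => ?_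
    induction b using QuotientGroup.induction_on with | H b => ?_
    have h : a * x * a⁻¹ = b * x * b⁻¹ := congrArg Subtype.val hab
    refine QuotientGroup.eq.2 (Subgroup.mem_centralizer_singleton_iff.2 ?_)
    calc a⁻¹ * b * x = a⁻¹ * (b * x * b⁻¹) * b := by group
      _ = x * (a⁻¹ * b) := by rw [← h]; group
  · rintro ⟨_, g, rfl⟩
    exact ⟨QuotientGroup.mk g, rfl⟩

theorem index_eq_one_iff {G : Type*} [Group G] (x : G) :
    (Subgroup.centralizer ({x} : Set G)).index = 1 ↔ x ∈ Subgroup.center G := by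
  rw [Subgroup.index_eq_one, Subgroup.mem_center_iff]
  constructor
  · intro h g
    exact Subgroup.mem_centralizer_singleton_iff.1 (h ▸ Subgroup.mem_top g)
  · intro h
    exact eq_top_iff.2 fun g _ => Subgroup.mem_centralizer_singleton_iff.2 (h g)

/-- The index of the intersection of two subgroups of coprime prime indices. -/
theorem index_inf_eq {G : Type*} [Group G] [Finite G] {H K : Subgroup G} {p q : ℕ} (hp : p.Prime) (hq : q.Prime)
    (hpq : p ≠ q) (hH : H.index = p) (hK : K.index = q) : (H ⊓ K).index = p * q :=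
  le_antisymm (hH ▸ hK ▸ Subgroup.index_inf_le) (Nat.le_of_dvd (Nat.pos_of_ne_zero Subgroup.index_ne_zero_of_finite)
    (((Nat.coprime_primes hp hq).2 hpq).mul_dvd_of_dvd_of_dvd (hH ▸ Subgroup.index_dvd_of_le inf_le_left)
      (hK ▸ Subgroup.index_dvd_of_le inf_le_right)))

theorem exists_simultaneous {G : Type*} [Group G] [Finite G] {x y : G} {p q : ℕ} (hp : p.Prime) (hq : q.Prime)
    (hpq : p ≠ q) (hx : (Subgroup.centralizer ({x} : Set G)).index = p)
    (hy : (Subgroup.centralizer ({y} : Set G)).index = q) (g h : G) :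
    ∃ k : G, k * x * k⁻¹ = g * x * g⁻¹ ∧ k * y * k⁻¹ = h * y * h⁻¹ := by
  let H := Subgroup.centralizer ({x} : Set G)
  let K := Subgroup.centralizer ({y} : Set G)
  let F : G ⧸ (H ⊓ K) → (G ⧸ H) × (G ⧸ K) := fun z =>
    (Subgroup.quotientMapOfLE inf_le_left z, Subgroup.quotientMapOfLE inf_le_right z)
  have hinj : Function.Injective F := by
    intro a b hab
    induction a using QuotientGroup.induction_on with | H a => ?_
    induction b using QuotientGroup.induction_on with | H b => ?_
    exact QuotientGroup.eq.2 ⟨QuotientGroup.eq.1 (congrArg Prod.fst hab), QuotientGroup.eq.1 (congrArg Prod.snd hab)⟩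
  have hsurj : Function.Surjective F :=
    ((Nat.bijective_iff_injective_and_card F).2 ⟨hinj, by
      rw [Nat.card_prod, ← Subgroup.index_eq_card, ← Subgroup.index_eq_card, ← Subgroup.index_eq_card,
        index_inf_eq hp hq hpq hx hy, hx, hy]⟩).2
  obtain ⟨k, hk⟩ := hsurj (QuotientGroup.mk g, QuotientGroup.mk h)
  induction k using QuotientGroup.induction_on with | H k => ?_
  have e : ∀ (z a b : G), a⁻¹ * b ∈ Subgroup.centralizer ({z} : Set G) → a * z * a⁻¹ = b * z * b⁻¹ := by
    intro z a b hab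
    calc a * z * a⁻¹ = a * (z * (a⁻¹ * b)) * b⁻¹ := by group
      _ = a * ((a⁻¹ * b) * z) * b⁻¹ := by rw [Subgroup.mem_centralizer_singleton_iff.1 hab]
      _ = b * z * b⁻¹ := by group
  exact ⟨k, e x k g (QuotientGroup.eq.1 (congrArg Prod.fst hk)), e y k h (QuotientGroup.eq.1 (congrArg Prod.snd hk))⟩

/-- Two elements of class sizes `p < q` produce a normal subgroup of order `q` absorbing their commutators. -/
theorem key {G : Type*} [Group G] [Finite G]
    (h : ∀ x : G, (Subgroup.centralizer ({x} : Set G)).index = 1 ∨ ((Subgroup.centralizer ({x} : Set G)).index).Prime)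
    {x y : G} {p q : ℕ} (hp : p.Prime) (hq : q.Prime) (hpq : p < q)
    (hx : (Subgroup.centralizer ({x} : Set G)).index = p)
    (hy : (Subgroup.centralizer ({y} : Set G)).index = q) :
    ∃ M : Subgroup G, M.Normal ∧ Nat.card M = q ∧ (∀ g : G, g * x * g⁻¹ * x⁻¹ ∈ M) ∧ (∀ g : G, g * y * g⁻¹ * y⁻¹ ∈ M) := by
  classical
  let B : Set G := Set.range fun g : G => g * y * g⁻¹
  have hB : Nat.card B = q := (card_conjRange y).trans hy
  let D : Set G := Set.range fun g : G => g * (x * y) * g⁻¹
  have hmem : ∀ g k : G, (g * x * g⁻¹) * (k * y * k⁻¹) ∈ D := by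
    intro g k
    obtain ⟨w, h1, h2⟩ := exists_simultaneous hp hq hpq.ne hx hy g k
    refine ⟨w, ?_⟩
    show w * (x * y) * w⁻¹ = _
    rw [← h1, ← h2]
    group
  have hsub : ∀ g : G, (g * x * g⁻¹) • B ⊆ D := by
    rintro g _ ⟨_, ⟨k, rfl⟩, rfl⟩
    exact hmem g k
  have hcard : ∀ g : G, Nat.card ↥((g * x * g⁻¹) • B) = q := by
    intro g
    rw [← hB, ← Set.image_smul]
    exact Nat.card_image_of_injective (MulAction.injective (g * x * g⁻¹)) B
  have hD : Nat.card D ≤ q := by
    show Nat.card (Set.range fun g : G => g * (x * y) * g⁻¹) ≤ q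
    rw [card_conjRange]
    rcases h (x * y) with e | e
    · rw [e]; exact hq.one_lt.le
    · obtain ⟨k, hk⟩ : ∃ k, (Subgroup.centralizer ({x * y} : Set G)).index = k := ⟨_, rfl⟩
      have hle : (Subgroup.centralizer ({x * y} : Set G)).index ∣ Nat.card G := Subgroup.index_dvd_card _
      have h1 : (Subgroup.centralizer ({x * y} : Set G)).index ≤ p * q := by
        rw [← index_inf_eq hp hq hpq.ne hx hy]
        refine Nat.le_of_dvd (Nat.pos_of_ne_zero Subgroup.index_ne_zero_of_finite) (Subgroup.index_dvd_of_le fun w hw => ?_)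
        refine Subgroup.mem_centralizer_singleton_iff.2 ?_
        rw [← mul_assoc, Subgroup.mem_centralizer_singleton_iff.1 hw.1, mul_assoc,
          Subgroup.mem_centralizer_singleton_iff.1 hw.2, mul_assoc]
      have h2 : (Subgroup.centralizer ({x * y} : Set G)).index ∣ p * q := by
        rw [← index_inf_eq hp hq hpq.ne hx hy]
        refine Subgroup.index_dvd_of_le fun w hw => Subgroup.mem_centralizer_singleton_iff.2 ?_
        rw [← mul_assoc, Subgroup.mem_centralizer_singleton_iff.1 hw.1, mul_assoc,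
          Subgroup.mem_centralizer_singleton_iff.1 hw.2, mul_assoc]
      rcases e.dvd_mul.1 h2 with d | d
      · exact ((Nat.prime_dvd_prime_iff_eq e hp).1 d).le.trans hpq.le
      · exact ((Nat.prime_dvd_prime_iff_eq e hq).1 d).le
  have heq : ∀ g : G, (g * x * g⁻¹) • B = D := fun g =>
    Set.eq_of_subset_of_ncard_le (hsub g) (by rw [← Nat.card_coe_set_eq, ← Nat.card_coe_set_eq, hcard]; exact hD) (Set.toFinite _)
  let M : Subgroup G := MulAction.stabilizer G B
  have hconjB : ∀ g : G, ∀ b ∈ B, g * b * g⁻¹ ∈ B := by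
    rintro g _ ⟨k, rfl⟩
    exact ⟨g * k, by show g * k * y * (g * k)⁻¹ = g * (k * y * k⁻¹) * g⁻¹; group⟩
  have hmemM : ∀ m : G, m ∈ M ↔ ∀ b ∈ B, m * b ∈ B := by
    intro m
    constructor
    · intro hm b hb
      have : m • B = B := hm
      rw [← this]
      exact ⟨b, hb, rfl⟩
    · intro hm
      show m • B = B
      refine Set.eq_of_subset_of_ncard_le ?_ ?_ (Set.toFinite _)
      · rintro _ ⟨b, hb, rfl⟩
        exact hm b hb
      · rw [← Nat.card_coe_set_eq, ← Nat.card_coe_set_eq, ← Set.image_smul]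
        exact (Nat.card_image_of_injective (MulAction.injective m) B).ge
  haveI hMn : M.Normal := ⟨fun m hm g => (hmemM _).2 fun b hb => by
    have h1 := hconjB g _ ((hmemM m).1 hm _ (hconjB g⁻¹ b hb))
    rwa [show g * (m * (g⁻¹ * b * g⁻¹⁻¹)) * g⁻¹ = g * m * g⁻¹ * b by group] at h1⟩
  have hxM : ∀ g : G, g * x * g⁻¹ * x⁻¹ ∈ M := by
    intro g
    have h1 : ((x⁻¹ * (g * x * g⁻¹)) • B : Set G) = B := by
      rw [mul_smul, heq g, ← heq 1, one_mul, inv_one, mul_one, inv_smul_smul]
    have h2 := hMn.conj_mem (x⁻¹ * (g * x * g⁻¹)) (h1 : x⁻¹ * (g * x * g⁻¹) ∈ M) x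
    rwa [show x * (x⁻¹ * (g * x * g⁻¹)) * x⁻¹ = g * x * g⁻¹ * x⁻¹ by group] at h2
  have hyB : y ∈ B := ⟨1, by simp⟩
  have hdvd : Nat.card M ∣ q := by
    have hpre : (QuotientGroup.mk : G → G ⧸ M) ⁻¹' (QuotientGroup.mk '' B) = B := by
      refine Set.Subset.antisymm ?_ (Set.subset_preimage_image _ _)
      rintro w ⟨b, hb, hbw⟩
      have hm : b⁻¹ * w ∈ M := QuotientGroup.eq.1 hbw
      have hm' := hMn.conj_mem _ hm b
      have := (hmemM _).1 hm' b hb
      rwa [show b * (b⁻¹ * w) * b⁻¹ * b = w by group] at this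
    have e := QuotientGroup.card_preimage_mk M (QuotientGroup.mk '' B)
    rw [hpre, hB] at e
    exact Dvd.intro _ e.symm
  have hMq : Nat.card M = q := by
    rcases hq.eq_one_or_self_of_dvd _ hdvd with e | e
    · exfalso
      have hbot := Subgroup.card_eq_one.1 e
      have : x ∈ Subgroup.center G := Subgroup.mem_center_iff.2 fun g => by
        have h1 := hxM g
        rw [hbot, Subgroup.mem_bot] at h1
        calc g * x = (g * x * g⁻¹ * x⁻¹) * (x * g) := by group
          _ = x * g := by rw [h1, one_mul]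
      rw [(index_eq_one_iff x).2 this] at hx
      exact hp.ne_one hx.symm
    · exact e
  refine ⟨M, hMn, hMq, hxM, fun g => ?_⟩
  have hcos : (fun m : M => (⟨(m : G) * y, (hmemM _).1 m.2 y hyB⟩ : B)).Surjective :=
    ((Nat.bijective_iff_injective_and_card _).2 ⟨fun a b e => Subtype.ext (mul_right_cancel (congrArg Subtype.val e)),
      hMq.trans hB.symm⟩).2
  obtain ⟨m, hm⟩ := hcos ⟨g * y * g⁻¹, g, rfl⟩
  rw [show g * y * g⁻¹ = (m : G) * y from (congrArg Subtype.val hm).symm, mul_inv_cancel_right]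
  exact m.2

theorem one_prime {G : Type*} [Group G] [Finite G] {p : ℕ} (hp : p.Prime)
    (hall : ∀ x : G, x ∉ Subgroup.center G → (Subgroup.centralizer ({x} : Set G)).index = p) :
    ∀ a b : G, a * b * a⁻¹ * b⁻¹ ∈ Subgroup.center G := by
  classical
  haveI := Fact.mk hp
  have hsyl : ∀ q : ℕ, q.Prime → q ≠ p → ∀ Q : Sylow q G, (Q : Subgroup G) ≤ Subgroup.center G := by
    intro q hq hqp Q
    haveI := Fact.mk hq
    have htop : Subgroup.centralizer ((Q : Subgroup G) : Set G) = ⊤ := by
      by_contra hne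
      obtain ⟨x, hx⟩ := Cfsg.Agent.Struct.exists_forall_conj_notMem hne
      by_cases hxZ : x ∈ Subgroup.center G
      · exact hx 1 (Subgroup.center_le_centralizer _ (by simpa using hxZ))
      let H := Subgroup.centralizer ({x} : Set G)
      obtain ⟨S⟩ := Sylow.nonempty (p := q) (G := H)
      let T : Sylow q G := Sylow.ofCard ((S : Subgroup H).map H.subtype) (by
        rw [Subgroup.card_map_of_injective H.subtype_injective, S.card_eq_multiplicity, ← H.card_mul_index,
          hall x hxZ, Nat.factorization_mul Nat.card_pos.ne' hp.ne_zero, Finsupp.add_apply, hp.factorization,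
          Finsupp.single_eq_of_ne' hqp.symm, add_zero])
      obtain ⟨g, hg⟩ := MulAction.exists_smul_eq G T Q
      refine hx g (Subgroup.mem_centralizer_iff.2 fun w hw => ?_)
      rw [← hg] at hw
      obtain ⟨v, hv, rfl⟩ := hw
      have hvH : v ∈ H := by
        obtain ⟨u, -, rfl⟩ := hv
        exact u.2
      show MulAut.conj g v * (g * x * g⁻¹) = g * x * g⁻¹ * MulAut.conj g v
      rw [← MulAut.conj_apply, ← map_mul, ← map_mul, Subgroup.mem_centralizer_singleton_iff.1 hvH]
    intro w hw
    rw [Subgroup.mem_center_iff]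
    intro g
    exact (Subgroup.mem_centralizer_iff.1 (htop ▸ Subgroup.mem_top g) w hw).symm
  obtain ⟨k, hk⟩ : ∃ k, (Subgroup.center G).index = p ^ k := by
    refine ⟨(Subgroup.center G).index.primeFactorsList.length, Nat.eq_prime_pow_of_unique_prime_dvd
      Subgroup.index_ne_zero_of_finite fun {q} hq hqd => ?_⟩
    by_contra hne
    haveI := Fact.mk hq
    obtain ⟨Q⟩ := Sylow.nonempty (p := q) (G := G)
    exact Q.not_dvd_index (hqd.trans (Subgroup.index_dvd_of_le (hsyl q hq hne Q)))
  haveI : Group.IsNilpotent (G ⧸ Subgroup.center G) := (IsPGroup.of_card (p := p) (n := k) (by rw [← Subgroup.index_eq_card, hk])).isNilpotent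
  haveI : Group.IsNilpotent G := Group.of_quotient_center_nilpotent inferInstance
  intro a b
  rw [Subgroup.mem_center_iff]
  intro g
  by_cases hgZ : g ∈ Subgroup.center G
  · exact (Subgroup.mem_center_iff.1 hgZ _).symm
  let H := Subgroup.centralizer ({g} : Set G)
  have hH : H.index = p := hall g hgZ
  haveI hn : H.Normal := by
    have hlt : H < Subgroup.normalizer (H : Set G) := Group.normalizerCondition_of_isNilpotent H (lt_top_iff_ne_top.2 fun e => hp.ne_one (by rw [← hH, e, Subgroup.index_top]))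
    refine Subgroup.normalizer_eq_top_iff.1 (Subgroup.index_eq_one.1 ?_)
    rcases hp.eq_one_or_self_of_dvd _ (hH ▸ Subgroup.index_dvd_of_le hlt.le) with e | e
    · exact e
    · exact absurd (Subgroup.eq_of_le_of_card_ge hlt.le (le_of_eq (Nat.eq_of_mul_eq_mul_right hp.pos
        (by conv_lhs => rw [← e, Subgroup.card_mul_index]
            rw [← hH, Subgroup.card_mul_index])))) hlt.ne
  haveI : IsCyclic (G ⧸ H) := isCyclic_of_prime_card (by rw [← Subgroup.index_eq_card, hH])
  have hab : a * b * a⁻¹ * b⁻¹ ∈ H := by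
    rw [← QuotientGroup.eq_one_iff, QuotientGroup.mk_mul, QuotientGroup.mk_mul, QuotientGroup.mk_mul,
      QuotientGroup.mk_inv, QuotientGroup.mk_inv, IsCyclic.commutative.is_comm.comm (a : G ⧸ H) (b : G ⧸ H)]
    simp
  exact (Subgroup.mem_centralizer_singleton_iff.1 hab).symm

/-- Let `G` be a finite group every conjugacy class of which has size 1 or a prime. Then either `G` is nilpotent of class at most 2, or `G/Z(G)` is a non-abelian group of order `pq` for distinct primes `p, q` (a Frobenius group of order `pq`). -/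
theorem result {G : Type*} [Group G] [Finite G]
    (h : ∀ x : G, (Subgroup.centralizer ({x} : Set G)).index = 1 ∨ ((Subgroup.centralizer ({x} : Set G)).index).Prime) :
    Subgroup.upperCentralSeries G 2 = ⊤ ∨
      ∃ p q : ℕ, p.Prime ∧ q.Prime ∧ p ≠ q ∧ Nat.card (G ⧸ Subgroup.center G) = p * q ∧ ¬ IsMulCommutative (G ⧸ Subgroup.center G) := by
  classical
  by_cases hmany : ∃ (x y : G) (p q : ℕ), p.Prime ∧ q.Prime ∧ p < q ∧ (Subgroup.centralizer ({x} : Set G)).index = p ∧
      (Subgroup.centralizer ({y} : Set G)).index = q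
  · right
    obtain ⟨x, y, p, q, hp, hq, hpq, hx, hy⟩ := hmany
    obtain ⟨M, hMn, hMq, hxM, hyM⟩ := key h hp hq hpq hx hy
    haveI := hMn
    have hsame : ∀ (r : ℕ) (M' : Subgroup G), r.Prime → Nat.card M' = r → ∀ a ∈ M, a ∈ M' → a ≠ 1 → r = q ∧ M' = M := by
      intro r M' hr hM' a ha ha' ha1
      have e1 : Subgroup.zpowers a ≤ M := Subgroup.zpowers_le.2 ha
      have e2 : Subgroup.zpowers a ≤ M' := Subgroup.zpowers_le.2 ha'
      have hne : Nat.card (Subgroup.zpowers a) ≠ 1 := fun e =>
        ha1 (Subgroup.zpowers_eq_bot.1 (Subgroup.card_eq_one.1 e))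
      have c1 := (hq.eq_one_or_self_of_dvd _ (hMq ▸ Subgroup.card_dvd_of_le e1)).resolve_left hne
      have c2 := (hr.eq_one_or_self_of_dvd _ (hM' ▸ Subgroup.card_dvd_of_le e2)).resolve_left hne
      exact ⟨c2.symm.trans c1, (Subgroup.eq_of_le_of_card_ge e2 (by rw [hM', c2])).symm.trans
        (Subgroup.eq_of_le_of_card_ge e1 (by rw [hMq, c1]))⟩
    have hnt : ∀ z : G, z ∉ Subgroup.center G → ∃ g : G, g * z * g⁻¹ * z⁻¹ ≠ 1 := by
      intro z hz
      by_contra hcon
      push Not at hcon
      refine hz (Subgroup.mem_center_iff.2 fun g => ?_)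
      calc g * z = (g * z * g⁻¹ * z⁻¹) * (z * g) := by group
        _ = z * g := by rw [hcon g, one_mul]
    have hxZ : x ∉ Subgroup.center G := fun e => hp.ne_one (hx.symm.trans ((index_eq_one_iff x).2 e))
    have hyZ : y ∉ Subgroup.center G := fun e => hq.ne_one (hy.symm.trans ((index_eq_one_iff y).2 e))
    have hcomm : ∀ u g : G, g * u * g⁻¹ * u⁻¹ ∈ M := by
      intro u g
      rcases h u with e | e
      · have hu := Subgroup.mem_center_iff.1 ((index_eq_one_iff u).1 e) g
        rw [hu, mul_inv_cancel_right, mul_inv_cancel]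
        exact M.one_mem
      obtain ⟨r, hr⟩ : ∃ r, (Subgroup.centralizer ({u} : Set G)).index = r := ⟨_, rfl⟩
      rw [hr] at e
      rcases lt_trichotomy r q with hlt | rfl | hgt
      · obtain ⟨M', -, hM', hu', hy'⟩ := key h e hq hlt hr hy
        obtain ⟨k, hk⟩ := hnt y hyZ
        rw [← (hsame q M' hq hM' _ (hyM k) (hy' k) hk).2]
        exact hu' g
      · obtain ⟨M', -, hM', hx', hu'⟩ := key h hp e hpq hx hr
        obtain ⟨k, hk⟩ := hnt x hxZ
        rw [← (hsame r M' e hM' _ (hxM k) (hx' k) hk).2]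
        exact hu' g
      · obtain ⟨M', -, hM', hy', -⟩ := key h hq e hgt hy hr
        obtain ⟨k, hk⟩ := hnt y hyZ
        exact absurd (hsame r M' e hM' _ (hyM k) (hy' k) hk).1 hgt.ne'
    have hncen : ∃ m ∈ M, m ∉ Subgroup.center G := by
      by_contra hcon
      push Not at hcon
      let ψ : G →* M :=
        { toFun := fun g => ⟨g * x * g⁻¹ * x⁻¹, hxM g⟩
          map_one' := Subtype.ext (by simp)
          map_mul' := fun a b => Subtype.ext (by
            show a * b * x * (a * b)⁻¹ * x⁻¹ = (a * x * a⁻¹ * x⁻¹) * (b * x * b⁻¹ * x⁻¹)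
            have hc := Subgroup.mem_center_iff.1 (hcon _ (hxM b))
            calc a * b * x * (a * b)⁻¹ * x⁻¹ = (a * (b * x * b⁻¹ * x⁻¹)) * (x * a⁻¹ * x⁻¹) := by group
              _ = ((b * x * b⁻¹ * x⁻¹) * a) * (x * a⁻¹ * x⁻¹) := by rw [hc a]
              _ = (b * x * b⁻¹ * x⁻¹) * (a * x * a⁻¹ * x⁻¹) := by group
              _ = (a * x * a⁻¹ * x⁻¹) * (b * x * b⁻¹ * x⁻¹) := (hc _).symm) }
      have hker : ψ.ker = Subgroup.centralizer ({x} : Set G) := by
        ext g
        rw [MonoidHom.mem_ker, Subgroup.mem_centralizer_singleton_iff, Subtype.ext_iff]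
        show g * x * g⁻¹ * x⁻¹ = 1 ↔ _
        rw [mul_inv_eq_one, mul_inv_eq_iff_eq_mul]
      have hd : ψ.ker.index ∣ q := by
        rw [Subgroup.index_ker, ← hMq]
        exact Subgroup.card_subgroup_dvd_card _
      rw [hker, hx] at hd
      exact hpq.ne ((Nat.prime_dvd_prime_iff_eq hp hq).1 hd)
    obtain ⟨m, hm, hmZ⟩ := hncen
    obtain ⟨g, hgC⟩ : ∃ g : G, g * m ≠ m * g := by
      by_contra hcon
      push Not at hcon
      exact hmZ (Subgroup.mem_center_iff.2 hcon)
    have hm1 : m ≠ 1 := fun e => hmZ (e ▸ Subgroup.one_mem _)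
    have hzm : Subgroup.zpowers m = M := by
      refine Subgroup.eq_of_le_of_card_ge (Subgroup.zpowers_le.2 hm) ?_
      rw [hMq, (hq.eq_one_or_self_of_dvd _ (hMq ▸ Subgroup.card_dvd_of_le (Subgroup.zpowers_le.2 hm))).resolve_left
        fun e => hm1 (Subgroup.zpowers_eq_bot.1 (Subgroup.card_eq_one.1 e))]
    obtain ⟨r, hr⟩ : ∃ r, (Subgroup.centralizer ({m} : Set G)).index = r := ⟨_, rfl⟩
    have hrp : r.Prime := hr ▸ (h m).resolve_left fun e => hmZ ((index_eq_one_iff m).1 e)
    have hrq : r < q := by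
      rw [← hr, ← card_conjRange m, ← hMq]
      show Nat.card (Set.range fun k : G => k * m * k⁻¹) < Nat.card M
      have hss : (Set.range fun k : G => k * m * k⁻¹) ⊂ (M : Set G) := by
        refine Set.ssubset_iff_of_subset ?_ |>.2 ⟨1, M.one_mem, ?_⟩
        · rintro _ ⟨k, rfl⟩
          exact hMn.conj_mem m hm k
        · rintro ⟨k, hk⟩
          exact hm1 (conj_eq_one_iff.1 hk)
      have hcc := Set.ncard_lt_ncard hss (Set.toFinite _)
      rwa [← Nat.card_coe_set_eq, ← Nat.card_coe_set_eq] at hcc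
    have hfpf : ∀ z ∈ M, z * g = g * z → z = 1 := by
      intro z hz hcz
      by_contra hz1
      have hzz : Subgroup.zpowers z = M := by
        refine Subgroup.eq_of_le_of_card_ge (Subgroup.zpowers_le.2 hz) ?_
        rw [hMq, (hq.eq_one_or_self_of_dvd _ (hMq ▸ Subgroup.card_dvd_of_le (Subgroup.zpowers_le.2 hz))).resolve_left
          fun e => hz1 (Subgroup.zpowers_eq_bot.1 (Subgroup.card_eq_one.1 e))]
      have hmz : m ∈ Subgroup.centralizer ({g} : Set G) :=
        (hzz ▸ Subgroup.zpowers_le.2 (Subgroup.mem_centralizer_singleton_iff.2 hcz) : M ≤ _) hm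
      exact hgC (Subgroup.mem_centralizer_singleton_iff.1 hmz).symm
    let Cg := Subgroup.centralizer ({g} : Set G)
    have hCgq : Cg.index = q := by
      refine le_antisymm ?_ ?_
      · show (Subgroup.centralizer ({g} : Set G)).index ≤ q
        rw [← card_conjRange g, ← hMq]
        refine Nat.card_le_card_of_injective (fun w => (⟨(w : G) * g⁻¹, ?_⟩ : M)) fun a b e =>
          Subtype.ext (mul_right_cancel (congrArg Subtype.val e))
        obtain ⟨_, k, rfl⟩ := w
        exact hcomm g k
      · show q ≤ (Subgroup.centralizer ({g} : Set G)).index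
        rw [← card_conjRange g, ← hMq]
        refine Nat.card_le_card_of_injective (fun z : M => (⟨(z : G) * g * (z : G)⁻¹, z, rfl⟩ :
          Set.range fun k : G => k * g * k⁻¹)) fun a b e => Subtype.ext ?_
        have e' : (a : G) * g * (a : G)⁻¹ = (b : G) * g * (b : G)⁻¹ := congrArg Subtype.val e
        have := hfpf ((b : G)⁻¹ * a) (M.mul_mem (M.inv_mem b.2) a.2) (by
          calc (b : G)⁻¹ * a * g = (b : G)⁻¹ * ((a : G) * g * (a : G)⁻¹) * a := by group
            _ = g * ((b : G)⁻¹ * a) := by rw [e']; group)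
        exact (inv_mul_eq_one.1 this).symm
    have habel : ∀ a ∈ Cg, ∀ b ∈ Cg, a * b = b * a := by
      intro a ha b hb
      have h1 : a * b * a⁻¹ * b⁻¹ ∈ Cg := Cg.mul_mem (Cg.mul_mem (Cg.mul_mem ha hb) (Cg.inv_mem ha)) (Cg.inv_mem hb)
      have h2 := hfpf _ (hcomm b a) (Subgroup.mem_centralizer_singleton_iff.1 h1)
      calc a * b = (a * b * a⁻¹ * b⁻¹) * (b * a) := by group
        _ = b * a := by rw [h2, one_mul]
    have hZ : Subgroup.center G = Subgroup.centralizer ({m} : Set G) ⊓ Cg := by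
      refine le_antisymm (fun z hz => ⟨Subgroup.mem_centralizer_singleton_iff.2 (Subgroup.mem_center_iff.1 hz m).symm,
        Subgroup.mem_centralizer_singleton_iff.2 (Subgroup.mem_center_iff.1 hz g).symm⟩) fun z hz => ?_
      have hdisj : Disjoint M Cg := disjoint_iff.2 ((Subgroup.eq_bot_iff_forall _).2 fun w hw =>
        hfpf w hw.1 (Subgroup.mem_centralizer_singleton_iff.1 hw.2))
      have hcompl : M.IsComplement' Cg := Subgroup.isComplement'_of_disjoint_and_mul_eq_univ hdisj (by
        refine Set.eq_univ_of_forall fun w => ?_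
        have hbij : Function.Bijective fun v : M × Cg => (v.1 : G) * v.2 := by
          refine (Nat.bijective_iff_injective_and_card _).2 ⟨Subgroup.mul_injective_of_disjoint hdisj, ?_⟩
          rw [Nat.card_prod, hMq, ← hCgq, mul_comm, Subgroup.card_mul_index]
        obtain ⟨v, hv⟩ := hbij.2 w
        exact ⟨v.1, v.1.2, v.2, v.2.2, hv⟩)
      rw [Subgroup.mem_center_iff]
      intro w
      obtain ⟨⟨⟨a, ha⟩, ⟨b, hb⟩⟩, hab⟩ := hcompl.2 w
      have haz : a * z = z * a := by
        have hle : M ≤ Subgroup.centralizer ({z} : Set G) := hzm ▸ Subgroup.zpowers_le.2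
          (Subgroup.mem_centralizer_singleton_iff.2 (Subgroup.mem_centralizer_singleton_iff.1 hz.1).symm)
        exact Subgroup.mem_centralizer_singleton_iff.1 (hle ha)
      rw [← hab]
      show a * b * z = z * (a * b)
      rw [mul_assoc, habel b hb z hz.2, ← mul_assoc, haz, mul_assoc]
    refine ⟨r, q, hrp, hq, hrq.ne, ?_, fun hc => ?_⟩
    · rw [← Subgroup.index_eq_card, hZ, index_inf_eq hrp hq hrq.ne hr hCgq]
    · have hcz : g * m * g⁻¹ * m⁻¹ ∈ Subgroup.center G := by
        rw [← QuotientGroup.eq_one_iff, QuotientGroup.mk_mul, QuotientGroup.mk_mul, QuotientGroup.mk_mul,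
          QuotientGroup.mk_inv, QuotientGroup.mk_inv, hc.is_comm.comm (g : G ⧸ Subgroup.center G) (m : G ⧸ Subgroup.center G)]
        simp
      have := hfpf _ (hcomm m g) (Subgroup.mem_center_iff.1 hcz g).symm
      exact hgC (by
        calc g * m = (g * m * g⁻¹ * m⁻¹) * (m * g) := by group
          _ = m * g := by rw [this, one_mul])
  · left
    have hc : ∀ a b : G, a * b * a⁻¹ * b⁻¹ ∈ Subgroup.center G := by
      by_cases hab : ∀ x : G, x ∈ Subgroup.center G
      · exact fun a b => hab _
      push Not at hab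
      obtain ⟨x₀, hx₀⟩ := hab
      have hp := (h x₀).resolve_left fun e => hx₀ ((index_eq_one_iff x₀).1 e)
      refine one_prime hp fun x hx => ?_
      have hq := (h x).resolve_left fun e => hx ((index_eq_one_iff x).1 e)
      rcases lt_trichotomy (Subgroup.centralizer ({x} : Set G)).index (Subgroup.centralizer ({x₀} : Set G)).index with e | e | e
      · exact absurd ⟨x, x₀, _, _, hq, hp, e, rfl, rfl⟩ hmany
      · exact e
      · exact absurd ⟨x₀, x, _, _, hp, hq, e, rfl, rfl⟩ hmany
    rw [eq_top_iff]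
    intro a _
    rw [Subgroup.mem_upperCentralSeries_succ_iff]
    intro b
    rw [Subgroup.upperCentralSeries_one]
    exact hc a b

end Cfsg.Agent.S4314
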