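import Cfsg.Statements.S4325
import Cfsg.Agent.Lib.Perm.Transpositions

set_option autoImplicit false
open Cfsg

namespace Cfsg.Agent.S4325

/-- Let r be a prime and m a natural number with m + 1 < r, and let π be a set of primes containing every prime below r but not r itself. Then in the symmetric group of degree r any m transpositions generate a π-subgroup, while O_π of the symmetric group is trivial. (So no bound on the number of conjugates that works for all π exists in the π-radical analogue of the Baer–Suzuki Theorem.) -/
theorem result (r m : ℕ) (hr : r.Prime)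
    (hm : m + 1 < r) (π : Set ℕ) (hπ : ∀ q : ℕ, q.Prime → q < r → q ∈ π) (hrπ : r ∉ π)
    (t : Fin m → Equiv.Perm (Fin r)) (ht : ∀ i, (t i).IsSwap) :
    Cfsg.IsPiSubgroup π (Subgroup.closure (Set.range t)) ∧ Cfsg.piCore π (Equiv.Perm (Fin r)) = ⊥ := by
  classical
  haveI := Fact.mk hr
  haveI : NeZero r := ⟨hr.ne_zero⟩
  constructor
  · intro q hq hqd
    have hqr : q ≤ r := by
      have h2 := hqd.trans (Subgroup.card_subgroup_dvd_card _)
      rw [Nat.card_perm, Nat.card_fin] at h2
      exact hq.dvd_factorial.1 h2
    refine hπ q hq (lt_of_le_of_ne hqr ?_)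
    rintro rfl
    -- the transpositions leave at least two classes
    have key : ∀ s : Finset (Fin m), ∃ f : Fin q → Fin q, (∀ i ∈ s, ∀ z, f (t i z) = f z) ∧
        q ≤ (Finset.univ.image f).card + s.card := by
      intro s
      induction s using Finset.induction_on with
      | empty => exact ⟨id, by simp, by simp⟩
      | @insert i s hi ih =>
        obtain ⟨f, hf, hc⟩ := ih
        obtain ⟨u, v, -, huv⟩ := ht i
        refine ⟨fun z => if f z = f v then f u else f z, fun j hj z => ?_, ?_⟩
        · show (if f (t j z) = f v then f u else f (t j z)) = _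
          rcases Finset.mem_insert.1 hj with rfl | hj
          · rw [huv]
            by_cases z1 : z = u
            · subst z1; rw [Equiv.swap_apply_left]; simp
            by_cases z2 : z = v
            · subst z2; rw [Equiv.swap_apply_right]; simp
            rw [Equiv.swap_apply_of_ne_of_ne z1 z2]
          · rw [hf j hj z]
        · rw [Finset.card_insert_of_notMem hi]
          have hsub : (Finset.univ.image f).erase (f v) ⊆
              Finset.univ.image fun z => if f z = f v then f u else f z := by
            intro w hw
            obtain ⟨hne, hw⟩ := Finset.mem_erase.1 hw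
            obtain ⟨z, -, rfl⟩ := Finset.mem_image.1 hw
            exact Finset.mem_image.2 ⟨z, Finset.mem_univ _, by rw [if_neg hne]⟩
          have := Finset.card_le_card hsub
          rw [Finset.card_erase_of_mem (Finset.mem_image.2 ⟨v, Finset.mem_univ _, rfl⟩)] at this
          omega
    obtain ⟨f, hf, hc⟩ := key Finset.univ
    rw [Finset.card_univ, Fintype.card_fin] at hc
    obtain ⟨g, hg⟩ := exists_prime_orderOf_dvd_card' (G := Subgroup.closure (Set.range t)) q hqd
    rw [← Subgroup.orderOf_coe] at hg
    have hinv : ∀ w ∈ Subgroup.closure (Set.range t), ∀ z, f (w z) = f z := by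
      intro w hw
      induction hw using Subgroup.closure_induction with
      | mem w hw => obtain ⟨i, rfl⟩ := hw; exact hf i (Finset.mem_univ i)
      | one => intro z; rfl
      | mul a b _ _ iha ihb => intro z; rw [Equiv.Perm.mul_apply, iha, ihb]
      | inv a _ iha => intro z; rw [← iha (a⁻¹ z), show a (a⁻¹ z) = z from a.apply_symm_apply z]
    have hcyc : (g : Equiv.Perm (Fin q)).IsCycle :=
      Equiv.Perm.isCycle_of_prime_order'' (by simpa using hr) (by simpa using hg)
    have hsupp : (g : Equiv.Perm (Fin q)).support = Finset.univ := by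
      apply Finset.eq_univ_of_card
      rw [← hcyc.orderOf, hg, Fintype.card_fin]
    have hone : (Finset.univ.image f).card ≤ 1 := by
      rw [Finset.card_le_one]
      simp only [Finset.mem_image, Finset.mem_univ, true_and]
      rintro _ ⟨a, rfl⟩ _ ⟨b, rfl⟩
      obtain ⟨i, hi⟩ := hcyc.exists_zpow_eq
        (Equiv.Perm.mem_support.1 (hsupp ▸ Finset.mem_univ a))
        (Equiv.Perm.mem_support.1 (hsupp ▸ Finset.mem_univ b))
      rw [← hi, hinv _ (zpow_mem g.2 i)]
    omega
  · by_contra hne
    rw [Cfsg.piCore] at hne
    obtain ⟨N, ⟨hN, hNπ⟩, hNne⟩ : ∃ N ∈ {N : Subgroup (Equiv.Perm (Fin r)) | N.Normal ∧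
        ∀ p : ℕ, p.Prime → p ∣ Nat.card N → p ∈ π}, N ≠ ⊥ := by
      by_contra h
      simp only [not_exists, not_and, not_not] at h
      exact hne (sSup_eq_bot.2 h)
    haveI := hN
    have := Cfsg.Agent.Perm.card_dvd_of_transitive N (Cfsg.Agent.Perm.normal_transitive N hNne)
    rw [Nat.card_fin] at this
    exact hrπ (hNπ r hr this)

end Cfsg.Agent.S4325
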