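import Cfsg.Statements.S4326

set_option autoImplicit false
open Pointwise
open Cfsg

namespace Cfsg.Agent.S4326

/-- Let G be a finite group, p a prime, x an automorphism of G of p-power order and M the subgroup of fixed points of x. Suppose that p divides the index of M and that either M is self-normalizing or M has trivial center. Then some conjugate of M is mapped onto itself by x but is not fixed elementwise by x. -/
theorem result {G : Type*} [Group G] [Finite G]
    (p : ℕ) [Fact p.Prime] (x : MulAut G) (hx : ∃ k : ℕ, orderOf x = p ^ k) (M : Subgroup G)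
    (hM : ∀ g : G, g ∈ M ↔ x g = g) (hp : p ∣ M.index)
    (hself : Subgroup.normalizer (M : Set G) = M ∨ Subgroup.center M = ⊥) :
    ∃ g : G, (∀ y ∈ MulAut.conj g • M, x y ∈ MulAut.conj g • M) ∧ ∃ y ∈ MulAut.conj g • M, x y ≠ y := by
  classical
  set A := Subgroup.zpowers x with hA
  have hxM : ∀ m, m ∈ M → x m = m := fun m hm => (hM m).1 hm
  have hMsmul : ∀ (u : A), ∀ m ∈ M, (u : MulAut G) m = m := by
    rintro ⟨u, hu⟩ m hm
    have : u ∈ MulAction.stabilizer (MulAut G) m := by
      refine (Subgroup.zpowers_le.2 ?_ : Subgroup.zpowers x ≤ _) hu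
      exact hxM m hm
    exact this
  have hwd : ∀ (u : A) (a b : G), (a : G ⧸ M) = b → (((u : MulAut G) a : G) : G ⧸ M) = ((u : MulAut G) b : G) := by
    intro u a b hab
    rw [QuotientGroup.eq] at hab ⊢
    rw [← map_inv, ← map_mul, hMsmul u _ hab]; exact hab
  letI act : MulAction A (G ⧸ M) :=
    { smul := fun u q => Quotient.liftOn' q (fun a => (((u : MulAut G) a : G) : G ⧸ M))
        (fun a b hab => hwd u a b (Quotient.sound' hab))
      mul_smul := fun u v q => Quotient.inductionOn' q fun a => rfl
      one_smul := fun q => Quotient.inductionOn' q fun a => rfl }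
  have hA' : IsPGroup p A := by
    obtain ⟨k, hk⟩ := hx
    exact IsPGroup.of_card (n := k) (by rw [Nat.card_zpowers, hk])
  have h1 : ((1 : G) : G ⧸ M) ∈ MulAction.fixedPoints A (G ⧸ M) := fun u =>
    congrArg ((↑) : G → G ⧸ M) (map_one (u : MulAut G))
  obtain ⟨q, hq, hq1⟩ := hA'.exists_fixed_point_of_prime_dvd_card_of_fixed_point (G ⧸ M) hp h1
  induction q using QuotientGroup.induction_on with
  | _ g =>
    have hgM : g ∉ M := fun h => hq1 (QuotientGroup.eq.2 (by simpa using h))
    have hm : g⁻¹ * x g ∈ M := QuotientGroup.eq.1 (hq ⟨x, Subgroup.mem_zpowers x⟩).symm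
    have hmem : ∀ y, y ∈ MulAut.conj g • M ↔ g⁻¹ * y * g ∈ M := fun y => by
      rw [Subgroup.mem_pointwise_smul_iff_inv_smul_mem]
      simp [MulAut.smul_def, mul_assoc]
    refine ⟨g, fun y hy => ?_, ?_⟩
    · rw [hmem] at hy ⊢
      have h2 : x y = x g * (g⁻¹ * y * g) * (x g)⁻¹ := by
        calc x y = x (g * (g⁻¹ * y * g) * g⁻¹) := by group
          _ = _ := by rw [map_mul, map_mul, hxM _ hy, map_inv]
      rw [h2]
      have := mul_mem (mul_mem hm hy) (inv_mem hm)
      simpa [mul_assoc] using this
    · by_contra hno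
      simp only [not_exists, not_and, not_not] at hno
      have hle : MulAut.conj g • M ≤ M := fun y hy => (hM y).2 (hno y hy)
      have heq : MulAut.conj g • M = M :=
        Subgroup.eq_of_le_of_card_ge hle (Nat.card_congr (Subgroup.equivSMul (MulAut.conj g) M).toEquiv).le
      rcases hself with hN | hZ
      · refine hgM (hN ▸ Subgroup.mem_normalizer_iff.2 fun y => ?_)
        constructor
        · intro hy
          have : g * y * g⁻¹ ∈ MulAut.conj g • M := (hmem _).2 (by simpa [mul_assoc] using hy)
          rwa [heq] at this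
        · intro hy
          rw [← heq, hmem] at hy
          simpa [mul_assoc] using hy
      · have hmc : (⟨g⁻¹ * x g, hm⟩ : M) ∈ Subgroup.center M := by
          refine Subgroup.mem_center_iff.2 fun y => Subtype.ext ?_
          show (y : G) * (g⁻¹ * x g) = g⁻¹ * x g * y
          have hy : g * (y : G) * g⁻¹ ∈ MulAut.conj g • M := (hmem _).2 (by simp [mul_assoc])
          have h2 := hno _ hy
          rw [map_mul, map_mul, map_inv, hxM _ y.2] at h2
          have h3 := congrArg (fun z => g⁻¹ * z * x g) h2
          simp [mul_assoc] at h3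
          rw [mul_assoc, h3]
        rw [hZ, Subgroup.mem_bot] at hmc
        have h4 : g⁻¹ * x g = 1 := congrArg Subtype.val hmc
        exact hgM ((hM g).2 (inv_mul_eq_one.1 h4).symm)

end Cfsg.Agent.S4326
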