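import Cfsg.Statements.S4331
import Cfsg.Agent.Lib.Char.Burnside
import Cfsg.Agent.Lib.Solv.Subnormal

set_option autoImplicit false
open Cfsg

namespace Cfsg.Agent.S4331

---pre
abbrev V := ZMod 3 × ZMod 3

/-- multiplication by a generator of the nonzero elements of the field with nine elements -/
def zmul : ℕ → V → V
  | 0, x => x
  | k + 1, x => ((zmul k x).1 - (zmul k x).2, (zmul k x).1 + (zmul k x).2)

/-- the sixteen semilinear maps -/
def lin (m : Fin 16) (x : V) : V :=
  if m.val < 8 then zmul m.val x else zmul (m.val - 8) (x.1, -x.2)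

theorem lin_add : ∀ m x y, lin m (x + y) = lin m x + lin m y := by decide +kernel
theorem lin_comp : ∀ m n, ∃ k, ∀ x, lin m (lin n x) = lin k x := by decide +kernel
theorem lin_zero : ∀ x, lin 0 x = x := by decide +kernel
theorem lin_inj : ∀ m n, (∀ x, lin m x = lin n x) → m = n := by decide +kernel

set_option synthInstance.maxSize 4000 in
theorem classes : ∀ m v, (∃ u, v + lin m u = u) ∨
    ∃ k u, lin 8 (lin k (v + u - lin m u)) = lin k (v + u - lin m u) ∧
      ∃ n, (∀ x, lin k (lin m x) = lin n (lin k x)) ∧ ∀ x, lin 8 (lin n x) = lin n (lin 8 x) := by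
  decide +kernel

/-- the semilinear affine group of the field with nine elements -/
def AG : Subgroup (Equiv.Perm V) :=
  { carrier := {g | ∃ v m, ∀ x, g x = v + lin m x}
    one_mem' := ⟨0, 0, fun x => by rw [Equiv.Perm.one_apply, zero_add, lin_zero]⟩
    mul_mem' := by
      rintro g h ⟨v, m, hg⟩ ⟨w, n, hh⟩
      obtain ⟨k, hk⟩ := lin_comp m n
      exact ⟨v + lin m w, k, fun x => by rw [Equiv.Perm.mul_apply, hh, hg, lin_add, hk, add_assoc]⟩
    inv_mem' := by
      intro g hg
      rw [show g⁻¹ = g ^ (orderOf g - 1) from inv_eq_of_mul_eq_one_right (by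
        rw [← pow_succ', Nat.sub_add_cancel (orderOf_pos g), pow_orderOf_eq_one])]
      induction orderOf g - 1 with
      | zero => rw [pow_zero]; exact ⟨0, 0, fun x => by rw [Equiv.Perm.one_apply, zero_add, lin_zero]⟩
      | succ j ih =>
        obtain ⟨v, m, hm⟩ := ih
        obtain ⟨w, n, hn⟩ := hg
        obtain ⟨k, hk⟩ := lin_comp m n
        exact ⟨v + lin m w, k, fun x => by rw [pow_succ, Equiv.Perm.mul_apply, hn, hm, lin_add, hk, add_assoc]⟩ }

theorem mk_mem (v : V) (m : Fin 16) : ∃ g ∈ AG, ∀ x, g x = v + lin m x := by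
  have hinj : Function.Injective (lin m) := by
    revert m; decide +kernel
  exact ⟨Equiv.ofBijective (fun x => v + lin m x)
    (Finite.injective_iff_bijective.1 fun x y e => hinj (add_left_cancel e)), ⟨v, m, fun x => rfl⟩, fun x => rfl⟩

/-- There is a finite solvable group G with a subgroup A of order 2 such that every conjugacy class of G contains an element g for which A is subnormal in the subgroup generated by A and g, and yet A is not contained in O_2(G). (So the corresponding criteria for odd primes fail at the prime 2, even for solvable groups.) -/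
theorem result :
    ∃ (G : Type) (_ : Group G) (_ : Finite G) (A : Subgroup G), Group.IsSolvable G ∧ Nat.card A = 2 ∧
      (∀ c : G, ∃ g : G, IsConj c g ∧ (A.subgroupOf (A ⊔ Subgroup.zpowers g)).IsSubnormal) ∧
      ¬ A ≤ Cfsg.pCore 2 G := by
  classical
  obtain ⟨a0, ha0, ha⟩ := mk_mem 0 8
  set a : AG := ⟨a0, ha0⟩
  have hax : ∀ x, (a : Equiv.Perm V) x = lin 8 x := fun x => by rw [ha, zero_add]
  have ha2 : orderOf a = 2 := by
    rw [orderOf_eq_prime_iff]
    refine ⟨Subtype.ext (Equiv.Perm.ext fun x => ?_), fun e => ?_⟩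
    · rw [Subgroup.coe_pow, pow_two, Equiv.Perm.mul_apply, hax, hax]
      show lin 8 (lin 8 x) = x
      revert x; decide +kernel
    · have := hax (0, 1)
      rw [e] at this
      revert this; decide +kernel
  have hcard : Nat.card AG = 2 ^ 4 * 3 ^ 2 := by
    choose g hg hgx using mk_mem
    let f : V × Fin 16 → AG := fun p => ⟨g p.1 p.2, hg p.1 p.2⟩
    have hfb : Function.Bijective f := by
      constructor
      · intro p q e
        have he : ∀ x, p.1 + lin p.2 x = q.1 + lin q.2 x := fun x => by
          rw [← hgx, ← hgx, show g p.1 p.2 = g q.1 q.2 from congrArg Subtype.val e]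
        have hz : ∀ m, lin m 0 = 0 := by decide +kernel
        have h0 := he 0
        rw [hz, hz, add_zero, add_zero] at h0
        exact Prod.ext h0 (lin_inj _ _ fun x => add_left_cancel (h0 ▸ he x : q.1 + lin p.2 x = q.1 + lin q.2 x))
      · intro y
        obtain ⟨v, m, hm⟩ := y.2
        exact ⟨(v, m), Subtype.ext (Equiv.Perm.ext fun x => by rw [hm]; exact hgx v m x)⟩
    rw [← Nat.card_eq_of_bijective f hfb, Nat.card_prod, Nat.card_prod, Nat.card_zmod, Nat.card_fin]
    norm_num
  refine ⟨AG, inferInstance, inferInstance, Subgroup.zpowers a, ?_, by rw [Nat.card_zpowers, ha2], ?_, ?_⟩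
  · exact Cfsg.Agent.Char.solvable_of_card_prime_pow_mul 2 3 Nat.prime_two Nat.prime_three _ _ rfl
      ⟨4, 2, hcard⟩
  · intro c
    obtain ⟨v, m, hc⟩ := c.2
    -- the point stabiliser is a `2`-group
    have key : ∀ g : AG, (g : Equiv.Perm V) 0 = 0 ∨ a * g = g * a →
        ((Subgroup.zpowers a).subgroupOf (Subgroup.zpowers a ⊔ Subgroup.zpowers g)).IsSubnormal := by
      rintro g (h0 | hcm)
      · let S : Subgroup AG := MulAction.stabilizer AG (0 : V)
        haveI : Fact (Nat.Prime 2) := ⟨Nat.prime_two⟩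
        have hS : IsPGroup 2 S := by
          refine IsPGroup.of_card (n := 4) ?_
          haveI : MulAction.IsPretransitive AG V := ⟨fun x y => by
            obtain ⟨g, hg, hgx⟩ := mk_mem (y - x) 0
            exact ⟨⟨g, hg⟩, by show g x = y; rw [hgx, lin_zero, sub_add_cancel]⟩⟩
          have := S.index_mul_card
          rw [MulAction.index_stabilizer_of_transitive, hcard, Nat.card_prod, Nat.card_zmod] at this
          omega
        have hle : Subgroup.zpowers a ⊔ Subgroup.zpowers g ≤ S :=
          sup_le (Subgroup.zpowers_le.2 (by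
            show (a : Equiv.Perm V) 0 = 0; rw [hax]; decide +kernel)) (Subgroup.zpowers_le.2 h0)
        have hJ : IsPGroup 2 ↥(Subgroup.zpowers a ⊔ Subgroup.zpowers g) :=
          hS.to_le hle
        haveI := hJ.isNilpotent
        exact Cfsg.Agent.Solv.isSubnormal_of_isNilpotent _
      · refine Subgroup.Normal.isSubnormal ?_
        refine Subgroup.normal_subgroupOf_iff_le_normalizer le_sup_left |>.2 (sup_le Subgroup.le_normalizer ?_)
        refine le_trans (Subgroup.zpowers_le.2 ?_) (Subgroup.centralizer_le_normalizer _)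
        rw [Subgroup.mem_centralizer_iff]
        intro y hy
        obtain ⟨i, rfl⟩ := Subgroup.mem_zpowers_iff.1 hy
        exact ((show Commute a g from hcm).zpow_left i).eq
    rcases classes m v with ⟨u, hu⟩ | ⟨k, u, hw, n, hn, hn8⟩
    · obtain ⟨h, hh, hhx⟩ := mk_mem (-u) 0
      refine ⟨⟨h, hh⟩ * c * ⟨h, hh⟩⁻¹, isConj_iff.2 ⟨_, rfl⟩, key _ (Or.inl ?_)⟩
      have hu0 : h u = 0 := by rw [hhx, lin_zero, neg_add_cancel]
      show h ((c : Equiv.Perm V) (h⁻¹ 0)) = 0
      rw [show h⁻¹ 0 = u by rw [← hu0]; exact h.symm_apply_apply u, hc, hu, hu0]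
    · obtain ⟨h, hh, hhx⟩ := mk_mem (lin k u) k
      refine ⟨⟨h, hh⟩ * c * ⟨h, hh⟩⁻¹, isConj_iff.2 ⟨_, rfl⟩, key _ (Or.inr ?_)⟩
      set g : AG := ⟨h, hh⟩ * c * ⟨h, hh⟩⁻¹
      have hgx : ∀ y, (g : Equiv.Perm V) y = lin k (v + u - lin m u) + lin n y := by
        intro y
        obtain ⟨x, rfl⟩ := h.surjective y
        show h ((c : Equiv.Perm V) (h⁻¹ (h x))) = _
        rw [show h⁻¹ (h x) = x from h.symm_apply_apply x, hc, hhx, hhx, lin_add n, ← hn, ← hn,
          ← lin_add, ← lin_add, ← lin_add]
        congr 1; abel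
      refine Subtype.ext (Equiv.Perm.ext fun y => ?_)
      show (a : Equiv.Perm V) ((g : Equiv.Perm V) y) = (g : Equiv.Perm V) ((a : Equiv.Perm V) y)
      rw [hgx, hgx, hax, hax, lin_add, hw, hn8]
  · -- the `2`-core is trivial
    intro hle
    have hbot : Cfsg.pCore 2 AG = ⊥ := by
      refine sSup_eq_bot.2 fun N ⟨hN, hN2⟩ => (Subgroup.eq_bot_iff_forall N).2 fun g hg => ?_
      obtain ⟨v, m, hgx⟩ := g.2
      have hm : ∀ u, lin m u = u := by
        intro u
        obtain ⟨t, ht, htx⟩ := mk_mem u 0
        set T : AG := ⟨t, ht⟩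
        have hz : g * T * g⁻¹ * T⁻¹ ∈ N := by
          have := mul_mem hg (hN.conj_mem _ (inv_mem hg) T)
          simpa [mul_assoc] using this
        have hzx : ∀ y, ((g * T * g⁻¹ * T⁻¹ : AG) : Equiv.Perm V) y = y + (lin m u - u) := by
          intro y
          obtain ⟨x, hx⟩ := (g : Equiv.Perm V).surjective (t⁻¹ y)
          have hy : y = u + (v + lin m x) := by
            have := congrArg t hx
            rw [show t (t⁻¹ y) = y from t.apply_symm_apply y, htx, lin_zero, hgx] at this
            exact this.symm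
          show (g : Equiv.Perm V) (t ((g : Equiv.Perm V)⁻¹ (t⁻¹ y))) = _
          rw [← hx, show (g : Equiv.Perm V)⁻¹ ((g : Equiv.Perm V) x) = x from
            (g : Equiv.Perm V).symm_apply_apply x, htx, lin_zero, hgx, hy, lin_add]
          abel
        obtain ⟨i, hi⟩ := hN2 ⟨_, hz⟩
        have hi' : ((g * T * g⁻¹ * T⁻¹ : AG) : Equiv.Perm V) ^ 2 ^ i = 1 := by
          have := congrArg (fun z : N => ((z : AG) : Equiv.Perm V)) hi
          simpa using this
        have hpow : ∀ (j : ℕ) y, (((g * T * g⁻¹ * T⁻¹ : AG) : Equiv.Perm V) ^ j) y = y + j • (lin m u - u) := by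
          intro j
          induction j with
          | zero => intro y; simp
          | succ j ih => intro y; rw [pow_succ', Equiv.Perm.mul_apply, ih, hzx, succ_nsmul, add_assoc]
        have h3 := hpow (2 ^ i) 0
        rw [hi', Equiv.Perm.one_apply, zero_add] at h3
        have h4 : 3 • (lin m u - u) = 0 := by
          generalize lin m u - u = z; revert z; decide +kernel
        rcases eq_or_ne (lin m u - u) 0 with e | e
        · exact sub_eq_zero.1 e
        exfalso
        have o3 : addOrderOf (lin m u - u) = 3 := by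
          haveI : Fact (Nat.Prime 3) := ⟨Nat.prime_three⟩
          exact addOrderOf_eq_prime h4 e
        have := addOrderOf_dvd_of_nsmul_eq_zero h3.symm
        rw [o3] at this
        exact absurd (Nat.prime_three.dvd_of_dvd_pow this) (by norm_num)
      obtain ⟨i, hi⟩ := hN2 ⟨g, hg⟩
      have hg3 : g ^ 3 = 1 := Subtype.ext (Equiv.Perm.ext fun y => by
        rw [Subgroup.coe_pow, pow_succ, pow_two]
        simp only [Equiv.Perm.mul_apply, hgx, hm, Subgroup.coe_one, Equiv.Perm.one_apply]
        have hz : ∀ z : V, z + z + z = 0 := by decide +kernel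
        have := hz v
        rw [← add_assoc, ← add_assoc, this, zero_add])
      have hi2 : g ^ 2 ^ i = 1 := congrArg Subtype.val hi
      have h1 := orderOf_dvd_of_pow_eq_one hg3
      have h2 := orderOf_dvd_of_pow_eq_one hi2
      exact orderOf_eq_one_iff.1 (Nat.eq_one_of_dvd_coprimes ((by norm_num : Nat.Coprime 3 2).pow_right i) h1 h2)
    rw [hbot] at hle
    have := hle (Subgroup.mem_zpowers a)
    rw [Subgroup.mem_bot] at this
    rw [this, orderOf_one] at ha2
    omega

end Cfsg.Agent.S4331
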