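import Cfsg.Statements.S4332
import Cfsg.Agent.Lib.Perm.Transpositions
import Cfsg.Agent.Lib.Perm.AlternatingAut

set_option autoImplicit false
open Pointwise
open Cfsg

namespace Cfsg.Agent.S4332

---pre
open scoped Pointwise

theorem exists_three_set (c : Equiv.Perm (Fin 8)) : ∃ S : Finset (Fin 8), S.card = 3 ∧
    ((∀ z, z ∈ S ↔ c z ∈ S) ∨ ∀ z ∈ S, c z ∉ S) := by
  by_cases hfix : 3 ≤ (Finset.univ.filter fun z => c z = z).card
  · obtain ⟨S, hS, hS3⟩ := Finset.exists_subset_card_eq hfix
    refine ⟨S, hS3, Or.inl fun z => ⟨fun hz => ?_, fun hz => ?_⟩⟩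
    · rw [(Finset.mem_filter.1 (hS hz)).2]; exact hz
    · have h1 := (Finset.mem_filter.1 (hS hz)).2
      rwa [c.injective h1] at hz
  have hmoved : ∀ s : Finset (Fin 8), s.card ≤ 5 → ∃ z, z ∉ s ∧ c z ≠ z := by
    intro s hs
    obtain ⟨z, -, hz⟩ := Finset.exists_mem_notMem_of_card_lt_card
      (s := s ∪ Finset.univ.filter fun z => c z = z) (t := Finset.univ) (by
        refine (Finset.card_union_le _ _).trans_lt ?_
        simp only [Finset.card_univ, Fintype.card_fin]; omega)
    simp only [Finset.mem_union, Finset.mem_filter, Finset.mem_univ, true_and, not_or] at hz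
    exact ⟨z, hz⟩
  obtain ⟨a, -, ha⟩ := hmoved ∅ (by simp)
  have hci : ∀ z, c (c.symm z) = z := c.apply_symm_apply
  have third : ∀ b, b ≠ a → c a ≠ b → c b ≠ a → c b ≠ b →
      (({a, c a, c.symm a, b, c b, c.symm b} : Finset (Fin 8)).card ≤ 5) →
      ∃ S : Finset (Fin 8), S.card = 3 ∧ ((∀ z, z ∈ S ↔ c z ∈ S) ∨ ∀ z ∈ S, c z ∉ S) := by
    intro b hba hab hba' hb h5
    obtain ⟨d, hd, hd'⟩ := hmoved _ h5
    simp only [Finset.mem_insert, Finset.mem_singleton, not_or] at hd
    obtain ⟨d1, d2, d3, d4, d5, d6⟩ := hd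
    refine ⟨{a, b, d}, by simp [Ne.symm hba, Ne.symm d1, Ne.symm d4], Or.inr fun z hz => ?_⟩
    have e1 : c d ≠ a := fun e => d3 (by rw [← e, Equiv.symm_apply_apply])
    have e2 : c d ≠ b := fun e => d6 (by rw [← e, Equiv.symm_apply_apply])
    simp only [Finset.mem_insert, Finset.mem_singleton] at hz ⊢
    rcases hz with rfl | rfl | rfl
    · simp [ha, hab, Ne.symm d2]
    · simp [hba', hb, Ne.symm d5]
    · simp [e1, e2, hd']
  by_cases h2 : c (c a) = a
  · obtain ⟨b, hb, hb'⟩ := hmoved {a, c a} ((Finset.card_le_two).trans (by norm_num))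
    simp only [Finset.mem_insert, Finset.mem_singleton, not_or] at hb
    have hinv : c.symm a = c a := by rw [Equiv.symm_apply_eq, h2]
    refine third b hb.1 (Ne.symm hb.2) (fun e => hb.2 (by
      apply c.injective; rw [e, h2])) hb' ?_
    rw [hinv]
    have : ({a, c a, c a, b, c b, c.symm b} : Finset (Fin 8)) = {a, c a, b, c b, c.symm b} := by
      ext z; simp
    rw [this]
    exact Finset.card_le_five
  · by_cases h3 : c (c (c a)) = a
    · have hne1 : c a ≠ c (c a) := fun e => ha (c.injective e).symm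
      refine ⟨{a, c a, c (c a)}, by simp [Ne.symm ha, Ne.symm h2, hne1], Or.inl fun z => ?_⟩
      simp only [Finset.mem_insert, Finset.mem_singleton]
      constructor
      · rintro (rfl | rfl | rfl) <;> simp [h3]
      · rintro (h | h | h)
        · exact Or.inr (Or.inr (c.injective (h.trans h3.symm)))
        · exact Or.inl (c.injective h)
        · exact Or.inr (Or.inl (c.injective h))
    · refine third (c (c a)) h2 (fun e => ha (c.injective e).symm) h3
        (fun e => ha (c.injective (c.injective e))) ?_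
      rw [Equiv.symm_apply_apply]
      have : ({a, c a, c.symm a, c (c a), c (c (c a)), c a} : Finset (Fin 8)) =
          {a, c a, c.symm a, c (c a), c (c (c a))} := by
        ext z; simp; tauto
      rw [this]
      exact Finset.card_le_five

/-- In the symmetric group of degree 8, let A be the subgroup generated by a 3-cycle. Then every conjugacy class contains an element g for which A is subnormal in the subgroup generated by A and its conjugate by g, although O_3 of the symmetric group of degree 8 is trivial. -/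
theorem result
    (σ : Equiv.Perm (Fin 8)) (hσ : σ.IsThreeCycle) :
    (∀ c : Equiv.Perm (Fin 8), ∃ g : Equiv.Perm (Fin 8), IsConj c g ∧
      ((Subgroup.zpowers σ).subgroupOf (Subgroup.zpowers σ ⊔ MulAut.conj g • Subgroup.zpowers σ)).IsSubnormal) ∧
    Cfsg.pCore 3 (Equiv.Perm (Fin 8)) = ⊥ := by
  classical
  constructor
  · intro c
    obtain ⟨S, hS3, hS⟩ := exists_three_set c
    let e : {z // z ∈ S} ≃ {z // z ∈ σ.support} :=
      Fintype.equivOfCardEq (by rw [Fintype.card_coe, Fintype.card_coe, hS3, hσ.card_support])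
    set π := e.extendSubtype with hπ
    have hmem : ∀ z, π z ∈ σ.support ↔ z ∈ S := fun z =>
      ⟨fun h => by_contra fun hz => e.extendSubtype_not_mem z hz h, e.extendSubtype_mem z⟩
    refine ⟨π * c * π⁻¹, isConj_iff.2 ⟨π, rfl⟩, ?_⟩
    set g := π * c * π⁻¹ with hg
    set τ := g * σ * g⁻¹ with hτ
    have hcomm : Commute σ τ := by
      rcases hS with hS | hS
      · have hτs : τ.support = σ.support := by
          ext z
          rw [hτ, Equiv.Perm.support_conj, Finset.mem_map_equiv]
          have hz : g.symm z = π (c.symm (π.symm z)) := rfl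
          rw [hz, hmem, hS, Equiv.apply_symm_apply, ← hmem, Equiv.apply_symm_apply]
        have hτ3 : τ.IsThreeCycle := by rw [Equiv.Perm.IsThreeCycle, hτ, Equiv.Perm.cycleType_conj]; exact hσ
        obtain ⟨a, ha⟩ := Finset.card_pos.1 (by rw [hσ.card_support]; norm_num : 0 < σ.support.card)
        obtain ⟨s1, s2, s3, s4, s5⟩ := Cfsg.Agent.Perm.eq_cyc_of_isThreeCycle hσ (Equiv.Perm.mem_support.1 ha)
        have hτa : τ a ≠ a := Equiv.Perm.mem_support.1 (hτs ▸ ha)
        obtain ⟨t1, t2, t3, t4, t5⟩ := Cfsg.Agent.Perm.eq_cyc_of_isThreeCycle hτ3 hτa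
        have hsupp : ∀ z, z ∈ σ.support → z = a ∨ z = σ a ∨ z = σ (σ a) := fun z hz => by
          by_contra h; simp only [not_or] at h
          exact Equiv.Perm.mem_support.1 hz (by rw [s5]; exact Cfsg.Agent.Perm.cyc_apply_other h.1 h.2.1 h.2.2)
        have m1 : τ a ∈ σ.support := hτs ▸ Cfsg.Agent.Perm.mem_support_of_apply (hτs.symm ▸ ha)
        have m2 : τ (τ a) ∈ σ.support := hτs ▸ Cfsg.Agent.Perm.mem_support_of_apply (hτs.symm ▸ m1)
        rcases (hsupp _ m1).resolve_left hτa with h | h
        · have h2 : τ (τ a) = σ (σ a) :=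
            ((hsupp _ m2).resolve_left t2.symm).resolve_left (fun e => t3 (h.trans e.symm))
          have : τ = σ := by rw [t5, h2, h, ← s5]
          rw [this]
        · have h2 : τ (τ a) = σ a := by
            rcases (hsupp _ m2).resolve_left t2.symm with e | e
            · exact e
            · exact absurd (h.trans e.symm) t3
          have : τ = σ⁻¹ := by
            rw [t5, h2, h]
            conv_rhs => rw [s5, Cfsg.Agent.Perm.cyc_inv _ _ _ s1 s2 s3]
          rw [this]; exact (Commute.refl σ).inv_right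
      · refine (Equiv.Perm.Disjoint.commute ?_)
        rw [Equiv.Perm.disjoint_iff_disjoint_support, Finset.disjoint_left]
        intro z hz hz'
        rw [hτ, Equiv.Perm.support_conj, Finset.mem_map_equiv] at hz'
        have hgz : g.symm z = π (c.symm (π.symm z)) := rfl
        rw [hgz, hmem] at hz'
        refine hS _ hz' ?_
        rw [Equiv.apply_symm_apply, ← hmem, Equiv.apply_symm_apply]
        exact hz
    refine Subgroup.Normal.isSubnormal ?_
    refine Subgroup.normal_subgroupOf_iff_le_normalizer le_sup_left |>.2 (sup_le Subgroup.le_normalizer ?_)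
    refine le_trans ?_ (Subgroup.centralizer_le_normalizer _)
    intro x hx
    rw [Subgroup.mem_pointwise_smul_iff_inv_smul_mem] at hx
    obtain ⟨i, hi⟩ := Subgroup.mem_zpowers_iff.1 hx
    have hx' : x = τ ^ i := by
      rw [hτ, conj_zpow, hi]; simp [MulAut.smul_def, mul_assoc]
    rw [Subgroup.mem_centralizer_iff]
    intro y hy
    obtain ⟨j, rfl⟩ := Subgroup.mem_zpowers_iff.1 hy
    rw [hx']
    exact (hcomm.zpow_zpow j i).eq
  · rw [Cfsg.pCore]
    refine sSup_eq_bot.2 fun N hN => ?_
    by_contra hne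
    haveI := hN.1
    haveI : Fact (Nat.Prime 3) := ⟨Nat.prime_three⟩
    obtain ⟨k, hk⟩ := IsPGroup.iff_card.1 hN.2
    have := Cfsg.Agent.Perm.card_dvd_of_transitive N (Cfsg.Agent.Perm.normal_transitive N hne)
    rw [Nat.card_fin, hk] at this
    have h2 : (2 : ℕ) ∣ 3 ^ k := dvd_trans (by norm_num) this
    exact absurd (Nat.prime_two.dvd_of_dvd_pow h2) (by norm_num)

end Cfsg.Agent.S4332
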