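import Cfsg.Statements.S4333
import Cfsg.Agent.Lib.Solv.Subnormal

set_option autoImplicit false
open Pointwise
open Cfsg

namespace Cfsg.Agent.S4333

open scoped Pointwise

universe u

open Subgroup in
theorem aux : ∀ (n : ℕ) (G : Type u) [Group G] [Finite G],
    Nat.card G ≤ n → ∀ A : Subgroup G,
    (∀ a ∈ A, ∀ g : G, (A.subgroupOf (A ⊔ MulAut.conj (g⁻¹ * a * g) • A)).IsSubnormal) → A.IsSubnormal := by
  intro n
  induction n with
  | zero => intro G _ _ hn; exact absurd hn (not_le.mpr Nat.card_pos)
  | succ n ih =>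
    intro G _ _ hn A h
    by_contra hns
    have hprop : ∀ H : Subgroup G, A ≤ H → H ≠ ⊤ → (A.subgroupOf H).IsSubnormal := by
      intro H hAH hH
      have hcard : Nat.card H < Nat.card G :=
        lt_of_le_of_ne (card_le_card_group _) fun h' => hH (eq_top_of_card_eq _ h')
      refine ih H (by omega) _ fun a ha g => ?_
      set x : H := g⁻¹ * a * g with hx
      set T := A.subgroupOf H ⊔ MulAut.conj x • A.subgroupOf H
      have hT : ∀ y ∈ T, (y : G) ∈ A ⊔ MulAut.conj (x : G) • A := fun y hy => by
        have : T ≤ (A ⊔ MulAut.conj (x : G) • A).comap H.subtype := by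
          refine sup_le (fun z hz => mem_sup_left hz) fun z hz => mem_sup_right ?_
          rw [Cfsg.Agent.Solv.mem_conj_smul] at hz
          rw [Subgroup.coe_subtype, Cfsg.Agent.Solv.mem_conj_smul]
          exact hz
        exact this hy
      let f : ↥T →* ↥(A ⊔ MulAut.conj (x : G) • A : Subgroup G) :=
        (H.subtype.comp T.subtype).codRestrict _ (fun y => hT y y.2)
      have e : (A.subgroupOf H).subgroupOf T =
          (A.subgroupOf (A ⊔ MulAut.conj (x : G) • A)).comap f := rfl
      rw [e]
      exact (h _ ha (g : G)).comap f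
    have hA : A ≠ ⊤ := fun h0 => hns (h0 ▸ IsSubnormal.top)
    obtain ⟨M, hM, hAM⟩ := Cfsg.Agent.Solv.exists_coatom_ge hA
    obtain ⟨a, ha, g, hg⟩ : ∃ a ∈ A, ∃ g : G, g⁻¹ * a * g ∉ M := by
      by_contra hcon
      push Not at hcon
      have hN : normalClosure (A : Set G) ≤ M := by
        rw [normalClosure, closure_le]
        intro x hx
        obtain ⟨a, ha, hax⟩ := Group.mem_conjugatesOfSet_iff.mp hx
        obtain ⟨g, rfl⟩ := isConj_iff.mp hax
        simpa using hcon a ha g⁻¹
      exact hns (IsSubnormal.trans le_normalClosure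
        (hprop _ le_normalClosure fun h0 => hM.1 (top_le_iff.mp (h0 ▸ hN)))
        (normalClosure_normal (s := (A : Set G))).isSubnormal)
    set x := g⁻¹ * a * g with hx
    have hT : A ⊔ MulAut.conj x • A ≠ ⊤ := fun h0 => hns (by
      have h1 := (h a ha g).trans' (h0 ▸ IsSubnormal.top)
      rwa [map_subgroupOf_eq_of_le le_sup_left] at h1)
    obtain ⟨M', hM', hTM'⟩ := Cfsg.Agent.Solv.exists_coatom_ge hT
    have hxA : MulAut.conj x • A ≤ M := by
      rw [Cfsg.Agent.Solv.zipper_aux A hns hprop M M' hM hM' hAM (le_sup_left.trans hTM')]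
      exact le_sup_right.trans hTM'
    -- `x` normalises `M`
    have hle : A ≤ MulAut.conj x⁻¹ • M := fun y hy => by
      rw [Cfsg.Agent.Solv.mem_conj_smul, inv_inv]
      exact hxA (by rw [Cfsg.Agent.Solv.mem_conj_smul]; simpa [mul_assoc] using hy)
    have hco : IsCoatom (MulAut.conj x⁻¹ • M) := by
      show IsCoatom ((MulEquiv.mapSubgroup (MulAut.conj x⁻¹)) M)
      exact (OrderIso.isCoatom_iff _ M).2 hM
    have heq := Cfsg.Agent.Solv.zipper_aux A hns hprop M _ hM hco hAM hle
    have hxN : x⁻¹ ∈ normalizer (M : Set G) := by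
      rw [mem_normalizer_iff]
      intro y
      conv_rhs => rw [heq]
      rw [Cfsg.Agent.Solv.mem_conj_smul]
      simp [mul_assoc]
    rcases (le_normalizer (H := M)).eq_or_lt with h1 | h1
    · exact hg (by simpa using inv_mem (h1.symm ▸ hxN : x⁻¹ ∈ M))
    · haveI : M.Normal := normalizer_eq_top_iff.1 (hM.2 _ h1)
      exact hns (IsSubnormal.trans hAM (hprop M hAM hM.1) (inferInstance : M.Normal).isSubnormal)

/-- Let A be a subgroup of a finite group G. If A is subnormal in the subgroup generated by A and its conjugate by g⁻¹ a g, for every a ∈ A and every g ∈ G, then A is subnormal in G. (A sharpening of Wielandt's subnormality criterion: only conjugates of A by conjugates of elements of A are needed.) -/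
theorem result {G : Type*} [Group G] [Finite G]
    (A : Subgroup G)
    (h : ∀ a ∈ A, ∀ g : G, (A.subgroupOf (A ⊔ MulAut.conj (g⁻¹ * a * g) • A)).IsSubnormal) :
    A.IsSubnormal := by
  exact aux _ G le_rfl A h

end Cfsg.Agent.S4333
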