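import Cfsg.Statements.S4334
import Cfsg.Agent.Lib.Solv.NilpotentHall
import Cfsg.Agent.Lib.Solv.Misc

set_option autoImplicit false
set_option linter.style.haveILetI false
open Cfsg

namespace Cfsg.Agent.S4334

open Subgroup Cfsg.Agent.Solv
open scoped Pointwise

variable {G : Type*} [Group G] [Finite G]

theorem coprime_index {ρ : Set ℕ} {A K : Subgroup G} (hA : ∀ r : ℕ, r.Prime → r ∈ ρ → ¬ r ∣ A.index)
    (hK : IsPiSubgroup ρ K) : (Nat.card K).Coprime A.index :=
  Nat.coprime_of_dvd fun r hr h1 h2 => hA r hr (hK r hr h1) h2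

/-- An element whose primes avoid the index of the centralizer centralizes what it normalizes. -/
theorem centralizes {ρ : Set ℕ} {A B Q : Subgroup G} (hcomm : ∀ a ∈ A, ∀ b ∈ B, a * b = b * a)
    (hB : ∀ r : ℕ, r.Prime → r ∈ ρ → ¬ r ∣ B.index) (c : G) (hQ : Q ≤ MulAut.conj c • A)
    {x : G} (hx : x ∈ normalizer (Q : Set G)) (hxo : ∀ r : ℕ, r.Prime → r ∣ orderOf x → r ∈ ρ) :
    x ∈ centralizer (Q : Set G) := by
  have hle : (MulAut.conj c • B : Subgroup G) ≤ centralizer (Q : Set G) := by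
    intro b hb
    rw [mem_centralizer_iff]
    intro q hq
    have h1 := mem_conj_smul.mp (hQ hq)
    have h2 := mem_conj_smul.mp hb
    have h3 := congrArg (fun t => c * t * c⁻¹) (hcomm _ h1 _ h2)
    simpa [mul_assoc] using h3
  set N := normalizer (Q : Set G)
  haveI : ((centralizer (Q : Set G)).subgroupOf N).Normal := by
    refine ⟨fun n hn g => ?_⟩
    rw [mem_subgroupOf, mem_centralizer_iff] at hn ⊢
    intro u hu
    have := hn ((g : G)⁻¹ * u * g) (by
      simpa using (mem_normalizer_iff.mp (inv_mem g.2) u).mp hu)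
    have h2 := congrArg (fun t => (g : G) * t * (g : G)⁻¹) this
    simpa [mul_assoc] using h2
  have hidx : ((centralizer (Q : Set G)).subgroupOf N).index ∣ B.index := by
    have h1 : (centralizer (Q : Set G)).relIndex N ∣ (centralizer (Q : Set G)).index :=
      Dvd.intro _ (relIndex_mul_index (centralizer_le_normalizer _))
    refine h1.trans ((index_dvd_of_le hle).trans ?_)
    have e1 := (MulAut.conj c • B : Subgroup G).index_mul_card
    rw [card_conj_smul, ← B.index_mul_card] at e1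
    rw [Nat.eq_of_mul_eq_mul_right Nat.card_pos e1]
  exact mem_subgroupOf.mp (mem_of_coprime_index _ (x := (⟨x, hx⟩ : N)) (by
    rw [Subgroup.orderOf_mk]
    exact (Nat.coprime_of_dvd fun r hr h1 h2 =>
      hB r hr (hxo r hr h1) h2).coprime_dvd_right hidx))

theorem main (σ τ π : Set ℕ) (hπ : π = σ ∪ τ) (hd : Disjoint σ τ) (H Hs Ht : Subgroup G)
    (hH : IsPiHall π H) (hs : IsPiSubgroup σ Hs) (ht : IsPiSubgroup τ Ht)
    (hsn : Group.IsNilpotent Hs) (hjoin : Hs ⊔ Ht = H)
    (hcomm : ∀ a ∈ Hs, ∀ b ∈ Ht, a * b = b * a) (hD : IsDPiGroup τ G) : IsDPiGroup π G := by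
  subst hπ
  have hdis : ∀ r, r ∈ σ → r ∈ τ → False := fun r a b => Set.disjoint_left.mp hd a b
  have hnorm : Ht ≤ normalizer (Hs : Set G) := by
    intro b hb
    rw [mem_normalizer_iff]
    intro a
    constructor
    · intro ha; rw [← hcomm a ha b hb, mul_inv_cancel_right]; exact ha
    · intro ha
      have := hcomm _ ha b hb
      have e : b * a = b * (b * a * b⁻¹) := by rw [← this]; group
      rwa [← mul_left_cancel e] at ha
  have hdvd : Nat.card H ∣ Nat.card Hs * Nat.card Ht := hjoin ▸ card_sup_dvd Hs Ht hnorm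
  have hsI : ∀ r : ℕ, r.Prime → r ∈ σ → ¬ r ∣ Hs.index := by
    intro r hr hrσ hd'
    rw [← relIndex_mul_index (hjoin ▸ le_sup_left : Hs ≤ H)] at hd'
    rcases hr.dvd_mul.mp hd' with h1 | h1
    · have e : Hs.relIndex H * Nat.card Hs = Nat.card H := by
        rw [← Nat.card_congr (subgroupOfEquivOfLe (hjoin ▸ le_sup_left : Hs ≤ H)).toEquiv]
        exact index_mul_card _
      have h2 : Hs.relIndex H ∣ Nat.card Ht := by
        rw [← e, mul_comm (Nat.card Hs)] at hdvd
        exact Nat.dvd_of_mul_dvd_mul_right Nat.card_pos hdvd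
      exact hdis r hrσ (ht r hr (h1.trans h2))
    · exact hH.2 r hr (Or.inl hrσ) h1
  have htI : ∀ r : ℕ, r.Prime → r ∈ τ → ¬ r ∣ Ht.index := by
    intro r hr hrτ hd'
    rw [← relIndex_mul_index (hjoin ▸ le_sup_right : Ht ≤ H)] at hd'
    rcases hr.dvd_mul.mp hd' with h1 | h1
    · have e : Ht.relIndex H * Nat.card Ht = Nat.card H := by
        rw [← Nat.card_congr (subgroupOfEquivOfLe (hjoin ▸ le_sup_right : Ht ≤ H)).toEquiv]
        exact index_mul_card _
      have h2 : Ht.relIndex H ∣ Nat.card Hs := by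
        rw [← e] at hdvd
        exact Nat.dvd_of_mul_dvd_mul_right Nat.card_pos hdvd
      exact hdis r (hs r hr (h1.trans h2)) hrτ
    · exact hH.2 r hr (Or.inr hrτ) h1
  have hsc : (Nat.card Hs).Coprime Hs.index := coprime_index hsI hs
  have hσ : ∀ K : Subgroup G, IsPiSubgroup σ K → ∃ c : G, K ≤ MulAut.conj c • Hs :=
    fun K hK => wielandt_nilpotent_hall hsn hsc (coprime_index hsI hK)
  have hτ : ∀ K : Subgroup G, IsPiSubgroup τ K → ∃ c : G, K ≤ MulAut.conj c • Ht := by
    intro K hK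
    obtain ⟨L, hKL, hL⟩ := Finite.exists_le_maximal (p := IsPiSubgroup τ) hK
    have hmax : Maximal (IsPiSubgroup τ) Ht := by
      refine ⟨ht, fun L hL hle => ?_⟩
      have h1 : Ht.relIndex L = 1 := Nat.eq_one_of_dvd_coprimes (coprime_index htI hL)
        ((Ht.subgroupOf L).index_dvd_card) (Dvd.intro _ (relIndex_mul_index hle))
      exact relIndex_eq_one.mp h1
    obtain ⟨g, hg⟩ := hD Ht L hmax hL
    exact ⟨g, hKL.trans hg.le⟩
  suffices hall : ∀ U : Subgroup G, IsPiSubgroup (σ ∪ τ) U → ∃ c : G, U ≤ MulAut.conj c • H by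
    intro A B hA hB
    have hHc : ∀ c : G, IsPiSubgroup (σ ∪ τ) (MulAut.conj c • H : Subgroup G) := fun c r hr hrd =>
      hH.1 r hr (by rwa [card_conj_smul] at hrd)
    obtain ⟨a, ha⟩ := hall A hA.1
    obtain ⟨b, hb⟩ := hall B hB.1
    refine ⟨b * a⁻¹, ?_⟩
    rw [le_antisymm hb (hB.2 (hHc b) hb), le_antisymm ha (hA.2 (hHc a) ha)]
    change MulAut.conj b • H = MulAut.conj (b * a⁻¹) • MulAut.conj a • H
    rw [← mul_smul, ← map_mul, inv_mul_cancel_right]
  intro U hU
  have hnpc : ∀ q : ℕ, q.Prime → q ∈ σ → HasNormalPComplement q U := by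
    intro q hq hqσ
    haveI := Fact.mk hq
    refine FrobeniusCond.hasNormalPComplement fun Q hQ g hg hgc => ?_
    by_contra hcon
    have hnle : ¬ zpowers g ≤ centralizer (Q : Set U) := fun h => hcon (h (mem_zpowers g))
    obtain ⟨a, ha, hanot, r, k, hr, hk⟩ := exists_mem_prime_pow hnle
    have hk0 : k ≠ 0 := fun e => hanot (by
      have h1 : a = 1 := orderOf_eq_one_iff.mp (by rw [hk, e, pow_zero])
      rw [h1]; exact one_mem _)
    have hrg : r ∣ orderOf g := by
      rw [← Nat.card_zpowers]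
      exact (dvd_pow_self r hk0).trans (hk ▸ Subgroup.orderOf_dvd_natCard _ ha)
    have hrq : r ≠ q := fun e => hq.one_lt.ne'
      (Nat.eq_one_of_dvd_coprimes hgc (e ▸ hrg) dvd_rfl)
    have haN : a ∈ normalizer (Q : Set U) := zpowers_le.mpr hg ha
    have haN' : (a : G) ∈ normalizer ((Q.map U.subtype : Subgroup G) : Set G) :=
      le_normalizer_map U.subtype ⟨a, haN, rfl⟩
    have hQ' : IsPGroup q (Q.map U.subtype) := hQ.map _
    have hQσ : IsPiSubgroup σ (Q.map U.subtype) := by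
      intro s hs' hsd
      obtain ⟨i, hi⟩ := IsPGroup.iff_card.mp hQ'
      rw [hi] at hsd
      rwa [(Nat.prime_dvd_prime_iff_eq hs' hq).mp (hs'.dvd_of_dvd_pow hsd)]
    have hrU : r ∈ σ ∪ τ := hU r hr (hrg.trans (orderOf_dvd_natCard g))
    refine hanot ?_
    rw [mem_centralizer_iff]
    intro u hu
    refine Subtype.ext ?_
    rcases hrU with hrσ | hrτ
    · set W := Q.map U.subtype ⊔ zpowers (a : G)
      have hW : IsPiSubgroup σ W := by
        intro s hs' hsd
        rcases hs'.dvd_mul.mp (hsd.trans (card_sup_dvd _ _ (zpowers_le.mpr haN'))) with h1 | h1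
        · exact hQσ s hs' h1
        · rw [Nat.card_zpowers, Subgroup.orderOf_coe, hk] at h1
          rwa [(Nat.prime_dvd_prime_iff_eq hs' hr).mp (hs'.dvd_of_dvd_pow h1)]
      obtain ⟨c, hc⟩ := hσ W hW
      have hWn : Group.IsNilpotent W := nilpotent_of_le (nilpotent_conj hsn c) hc
      obtain ⟨i, hi⟩ := IsPGroup.iff_orderOf.mp hQ ⟨u, hu⟩
      rw [Subgroup.orderOf_mk] at hi
      have hcm := commute_of_coprime_orderOf_of_isNilpotent hWn
        (x := (⟨(u : G), mem_sup_left (mem_map_of_mem _ hu)⟩ : W))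
        (g := (⟨(a : G), mem_sup_right (mem_zpowers _)⟩ : W)) (by
          rw [Subgroup.orderOf_mk, Subgroup.orderOf_mk, Subgroup.orderOf_coe, Subgroup.orderOf_coe, hk, hi]
          exact (((Nat.coprime_primes hq hr).mpr (Ne.symm hrq)).pow_left i).pow_right k)
      have h9 := congrArg Subtype.val hcm.eq
      exact h9
    · obtain ⟨c, hc⟩ := hσ _ hQσ
      have := centralizes hcomm htI c hc haN' (fun s hs' hsd => by
        rw [Subgroup.orderOf_coe, hk] at hsd
        rwa [(Nat.prime_dvd_prime_iff_eq hs' hr).mp (hs'.dvd_of_dvd_pow hsd)])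
      exact mem_centralizer_iff.mp this _ (mem_map_of_mem _ hu)
  set T0 : Subgroup U := ⨅ q : {q : ℕ // q.Prime ∧ q ∈ σ}, pPrimeCore (q : ℕ) U with hT0
  haveI : T0.Normal := Subgroup.normal_iInf_normal fun q => inferInstance
  have hTτ : ∀ r : ℕ, r.Prime → r ∣ Nat.card T0 → r ∈ τ := by
    intro r hr hrd
    rcases hU r hr (hrd.trans T0.card_subgroup_dvd_card) with h | h
    · haveI := Fact.mk hr
      exact absurd (Nat.eq_one_of_dvd_coprimes (card_pPrimeCore_coprime r U)
        (hrd.trans (card_dvd_of_le (iInf_le (fun q : {q : ℕ // q.Prime ∧ q ∈ σ} => pPrimeCore (q : ℕ) U) ⟨r, hr, h⟩))) dvd_rfl) hr.one_lt.ne'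
    · exact h
  have hTidx : ∀ r : ℕ, r.Prime → r ∣ T0.index → r ∈ σ := by
    intro r hr hrd
    haveI := Fact.mk hr
    rcases hU r hr (hrd.trans T0.index_dvd_card) with h | h
    · exact h
    · exfalso
      obtain ⟨R⟩ : Nonempty (Sylow r U) := inferInstance
      refine R.not_dvd_index (hrd.trans (index_dvd_of_le ?_))
      intro x hx
      rw [hT0, mem_iInf]
      intro q
      haveI := Fact.mk q.2.1
      refine mem_pPrimeCore_of_orderOf_coprime (hnpc q q.2.1 q.2.2) ?_
      obtain ⟨i, hi⟩ := IsPGroup.iff_orderOf.mp R.isPGroup' ⟨x, hx⟩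
      rw [Subgroup.orderOf_mk] at hi
      rw [hi]
      exact ((Nat.coprime_primes hr q.2.1).mpr fun e => hdis r (e ▸ q.2.2) h).pow_left i
  obtain ⟨S0, hS0⟩ := exists_right_complement'_of_coprime (N := T0)
    (Nat.coprime_of_dvd fun r hr h1 h2 => hdis r (hTidx r hr h2) (hTτ r hr h1))
  set T := T0.map U.subtype
  set S := S0.map U.subtype
  have hTπ : IsPiSubgroup τ T := fun r hr hrd => hTτ r hr (by rwa [card_map_subtype] at hrd)
  have hSπ : IsPiSubgroup σ S := fun r hr hrd => hTidx r hr (by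
    rw [card_map_subtype] at hrd
    rwa [hS0.symm.index_eq_card])
  obtain ⟨a, ha⟩ := hτ T hTπ
  have hST : S ≤ centralizer (T : Set G) := by
    intro s hs'
    have hsN : s ∈ normalizer (T : Set G) := by
      obtain ⟨s0, -, rfl⟩ := hs'
      refine le_normalizer_map U.subtype ⟨s0, ?_, rfl⟩
      rw [normalizer_eq_top]; trivial
    exact centralizes (fun b hb a' ha' => (hcomm a' ha' b hb).symm) hsI a ha hsN
      fun r hr hrd => hSπ r hr (hrd.trans (Subgroup.orderOf_dvd_natCard S hs'))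
  set C := centralizer (T : Set G)
  have hsC : (MulAut.conj a • Hs : Subgroup G) ≤ C := by
    intro b hb
    rw [mem_centralizer_iff]
    intro t htm
    have h1 := mem_conj_smul.mp (ha htm)
    have h2 := mem_conj_smul.mp hb
    have h3 := congrArg (fun t => a * t * a⁻¹) (hcomm _ h2 _ h1).symm
    simpa [mul_assoc] using h3
  set Hc := (MulAut.conj a • Hs : Subgroup G).subgroupOf C
  have hHcI : ∀ r : ℕ, r.Prime → r ∈ σ → ¬ r ∣ Hc.index := by
    intro r hr hrσ hd'
    refine hsI r hr hrσ (hd'.trans ?_)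
    show (MulAut.conj a • Hs : Subgroup G).relIndex C ∣ Hs.index
    have e1 := (MulAut.conj a • Hs : Subgroup G).index_mul_card
    rw [card_conj_smul, ← Hs.index_mul_card] at e1
    rw [← Nat.eq_of_mul_eq_mul_right Nat.card_pos e1]
    exact Dvd.intro _ (relIndex_mul_index hsC)
  have hcHc : Nat.card Hc = Nat.card Hs := by
    rw [card_subgroupOf hsC, card_conj_smul]
  have hHcπ : IsPiSubgroup σ Hc := fun r hr hrd => hs r hr (hcHc ▸ hrd)
  have hSC : IsPiSubgroup σ (S.subgroupOf C) := fun r hr hrd => hSπ r hr (by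
    rwa [card_subgroupOf hST] at hrd)
  obtain ⟨x, hx⟩ := wielandt_nilpotent_hall (H := Hc)
    ((Group.isNilpotent_congr (subgroupOfEquivOfLe hsC).symm).mp (nilpotent_conj hsn a))
    (coprime_index hHcI hHcπ) (coprime_index hHcI hSC)
  refine ⟨(x : G) * a, fun u hu => ?_⟩
  obtain ⟨⟨t, s⟩, he⟩ := hS0.2 ⟨u, hu⟩
  have e : u = ((t : U) : G) * ((s : U) : G) := (congrArg Subtype.val he).symm
  rw [e, map_mul, mul_smul]
  refine mul_mem ?_ ?_
  · rw [mem_conj_smul, mem_conj_smul, ← hjoin]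
    refine mem_sup_right (mem_conj_smul.mp (ha ?_))
    have hm : ((t : U) : G) ∈ T := mem_map_of_mem _ t.2
    have hxc := mem_centralizer_iff.mp x.2 _ hm
    rwa [show (x : G)⁻¹ * ((t : U) : G) * (x : G) = ((t : U) : G) by rw [mul_assoc, hxc]; group]
  · rw [mem_conj_smul, mem_conj_smul, ← hjoin]
    have hm : ((s : U) : G) ∈ S := mem_map_of_mem _ s.2
    have := mem_conj_smul.mp (hx (show (⟨_, hST hm⟩ : C) ∈ S.subgroupOf C from hm))
    exact mem_sup_left (mem_conj_smul.mp this)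

/-- A Hall theorem. -/
theorem result {G : Type*} [Group G] [Finite G]
    (σ τ π : Set ℕ) (hπ : π = σ ∪ τ) (hd : Disjoint σ τ) (H Hs Ht : Subgroup G) (hH : Cfsg.IsPiHall π H)
    (hs : Cfsg.IsPiSubgroup σ Hs) (ht : Cfsg.IsPiSubgroup τ Ht) (hsn : Group.IsNilpotent Hs)
    (hjoin : Hs ⊔ Ht = H) (hcomm : ∀ a ∈ Hs, ∀ b ∈ Ht, a * b = b * a) (hD : Cfsg.IsDPiGroup τ G) :
    Cfsg.IsDPiGroup π G :=
  main σ τ π hπ hd H Hs Ht hH hs ht hsn hjoin hcomm hD

end Cfsg.Agent.S4334
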