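import Cfsg.Statements.S4337
import Cfsg.Agent.Lib.Perm.Transpositions

set_option autoImplicit false
open Cfsg

namespace Cfsg.Agent.S4337

/-- In a finite symmetric group, any three transpositions generate a solvable subgroup. -/
theorem result (n : ℕ) (a b c : Equiv.Perm (Fin n))
    (ha : a.IsSwap) (hb : b.IsSwap) (hc : c.IsSwap) :
    Group.IsSolvable (Subgroup.closure ({a, b, c} : Set (Equiv.Perm (Fin n)))) := by
  classical
  have small : ∀ s : Finset (Fin n), s.card ≤ 4 → ∀ T : Set (Equiv.Perm (Fin n)),
      (∀ g ∈ T, g.support ⊆ s) → Group.IsSolvable (Subgroup.closure T) := by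
    intro s hs T hT
    haveI := Cfsg.Agent.Perm.isSolvable_perm_of_card_le_four (α := {x // x ∈ s}) (by simpa using hs)
    let φ : Equiv.Perm {x // x ∈ s} →* Equiv.Perm (Fin n) := Equiv.Perm.ofSubtype
    haveI : Group.IsSolvable φ.range := solvable_of_surjective φ.rangeRestrict_surjective
    have hle : Subgroup.closure T ≤ φ.range := (Subgroup.closure_le _).2 fun g hg =>
      Equiv.Perm.mem_range_ofSubtype_iff.2 (fun z hz => hT g hg hz)
    exact solvable_of_solvable_injective (Subgroup.inclusion_injective hle)
  have key : ∀ x y z : Equiv.Perm (Fin n), x.IsSwap → y.IsSwap → z.IsSwap →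
      Disjoint x.support y.support → Disjoint x.support z.support →
      Group.IsSolvable (Subgroup.closure ({x, y, z} : Set (Equiv.Perm (Fin n)))) := by
    intro x y z hx hy hz hd1 hd2
    have c1 : Commute x y := (Equiv.Perm.disjoint_iff_disjoint_support.2 hd1).commute
    have c2 : Commute x z := (Equiv.Perm.disjoint_iff_disjoint_support.2 hd2).commute
    set X := Subgroup.zpowers x
    set Y := Subgroup.closure ({y, z} : Set (Equiv.Perm (Fin n)))
    haveI : Group.IsSolvable Y := small (y.support ∪ z.support)
      ((Finset.card_union_le _ _).trans (by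
        rw [Equiv.Perm.card_support_eq_two.2 hy, Equiv.Perm.card_support_eq_two.2 hz])) _ (by
        rintro g (rfl | rfl)
        · exact Finset.subset_union_left
        · exact Finset.subset_union_right)
    haveI : IsMulCommutative X := inferInstance
    have hYc : Y ≤ Subgroup.centralizer {x} := (Subgroup.closure_le _).2 (by
      rintro g (rfl | rfl) <;> exact Subgroup.mem_centralizer_singleton_iff.2 (by
        first | exact c1.eq.symm | exact c2.eq.symm))
    have hcomm : ∀ (a : X) (b : Y), Commute (X.subtype a) (Y.subtype b) := fun a b => by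
      obtain ⟨i, hi⟩ := Subgroup.mem_zpowers_iff.1 a.2
      show Commute (a : Equiv.Perm (Fin n)) b
      rw [← hi]
      exact (Commute.symm (Subgroup.mem_centralizer_singleton_iff.1 (hYc b.2))).zpow_left i
    let ψ := MonoidHom.noncommCoprod X.subtype Y.subtype hcomm
    haveI : Group.IsSolvable X := isSolvable_of_comm (fun a b => mul_comm' a b)
    haveI : Group.IsSolvable ψ.range := solvable_of_surjective ψ.rangeRestrict_surjective
    have hle : Subgroup.closure ({x, y, z} : Set (Equiv.Perm (Fin n))) ≤ ψ.range :=
      (Subgroup.closure_le _).2 (by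
        rintro g (rfl | rfl | rfl)
        · exact ⟨(⟨g, Subgroup.mem_zpowers g⟩, 1), by simp [ψ]⟩
        · exact ⟨(1, ⟨g, Subgroup.subset_closure (Or.inl rfl)⟩), by simp [ψ]⟩
        · exact ⟨(1, ⟨g, Subgroup.subset_closure (Or.inr rfl)⟩), by simp [ψ]⟩)
    exact solvable_of_solvable_injective (Subgroup.inclusion_injective hle)
  by_cases h4 : (a.support ∪ b.support ∪ c.support).card ≤ 4
  · refine small _ h4 _ ?_
    rintro g (rfl | rfl | rfl)
    · exact Finset.subset_union_left.trans Finset.subset_union_left
    · exact Finset.subset_union_right.trans Finset.subset_union_left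
    · exact Finset.subset_union_right
  -- one transposition is disjoint from the other two
  have two : ∀ g : Equiv.Perm (Fin n), g.IsSwap → g.support.card = 2 := fun g hg =>
    Equiv.Perm.card_support_eq_two.2 hg
  have hinter : ∀ u v w : Finset (Fin n), u.card = 2 → v.card = 2 → w.card = 2 → 4 < (u ∪ v ∪ w).card →
      ¬ Disjoint u v → Disjoint w u ∧ Disjoint w v := by
    intro u v w hu hv hw h hduv
    have h1 : (u ∪ v).card ≤ 3 := by
      have := Finset.card_union_add_card_inter u v
      have h0 : 0 < (u ∩ v).card := Finset.card_pos.2 (Finset.not_disjoint_iff_nonempty_inter.1 hduv)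
      omega
    have h2 : Disjoint (u ∪ v) w := by
      rw [Finset.disjoint_iff_inter_eq_empty, ← Finset.card_eq_zero]
      have := Finset.card_union_add_card_inter (u ∪ v) w
      omega
    exact ⟨((Finset.disjoint_union_left.1 h2).1).symm, ((Finset.disjoint_union_left.1 h2).2).symm⟩
  have h4' : 4 < (a.support ∪ b.support ∪ c.support).card := by omega
  by_cases dab : Disjoint a.support b.support
  · by_cases dac : Disjoint a.support c.support
    · exact key a b c ha hb hc dab dac
    · have := hinter a.support c.support b.support (two a ha) (two c hc) (two b hb)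
        (by rwa [Finset.union_right_comm]) dac
      rw [show ({a, b, c} : Set (Equiv.Perm (Fin n))) = {b, a, c} from Set.insert_comm a b {c}]
      exact key b a c hb ha hc this.1 this.2
  · have := hinter a.support b.support c.support (two a ha) (two b hb) (two c hc) h4' dab
    rw [show ({a, b, c} : Set (Equiv.Perm (Fin n))) = {c, a, b} by
      ext g; simp; tauto]
    exact key c a b hc ha hb this.1 this.2

end Cfsg.Agent.S4337
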