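import Cfsg.Statements.S4342

set_option autoImplicit false
open Cfsg

namespace Cfsg.Agent.S4342

/-- Let H be a normal subgroup of a finite group G and p a prime not dividing the index of H. Then the number of Sylow p-subgroups of H/Z(H) equals the number of Sylow p-subgroups of G. -/
theorem result {G : Type*} [Group G] [Finite G]
    (p : ℕ) [Fact p.Prime] (H : Subgroup G) [H.Normal] (hp : ¬ p ∣ H.index) :
    Nat.card (Sylow p (H ⧸ Subgroup.center H)) = Nat.card (Sylow p G) := by
  have hp' := (Fact.out : p.Prime)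
  have hle : ∀ Q : Sylow p G, (Q : Subgroup G) ≤ H := fun Q => by
    intro g hg
    obtain ⟨k, hk⟩ := Q.isPGroup' ⟨g, hg⟩
    have hk' : g ^ p ^ k = 1 := congrArg Subtype.val hk
    rw [← QuotientGroup.eq_one_iff]
    have h1 : orderOf (g : G ⧸ H) ∣ p ^ k :=
      orderOf_dvd_of_pow_eq_one (by rw [← QuotientGroup.mk_pow, hk']; rfl)
    have h2 : orderOf (g : G ⧸ H) ∣ H.index := orderOf_dvd_natCard _
    exact orderOf_eq_one_iff.1 (Nat.eq_one_of_dvd_coprimes
      (((hp'.coprime_iff_not_dvd).2 hp).pow_left k) h1 h2)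
  refine Eq.trans ?_ (Nat.card_eq_of_bijective (fun Q : Sylow p G => Q.subtype (hle Q)) ⟨?_, ?_⟩).symm
  · refine (Nat.card_eq_of_bijective
      (Sylow.mapSurjective (QuotientGroup.mk'_surjective (Subgroup.center H))) ⟨?_, ?_⟩).symm
    · intro P P' h
      have h2 : (P : Subgroup H).map (QuotientGroup.mk' (Subgroup.center H)) =
          (P' : Subgroup H).map (QuotientGroup.mk' (Subgroup.center H)) := congrArg Sylow.toSubgroup h
      have h3 : (P' : Subgroup H) ≤ Subgroup.normalizer ((P : Subgroup H) : Set H) := by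
        intro y hy
        obtain ⟨z, hz, hzy⟩ : QuotientGroup.mk' (Subgroup.center H) y ∈
            (P : Subgroup H).map (QuotientGroup.mk' (Subgroup.center H)) := h2 ▸ Subgroup.mem_map_of_mem _ hy
        have hc : z⁻¹ * y ∈ Subgroup.center H := QuotientGroup.eq.1 hzy
        have : y = z * (z⁻¹ * y) := by group
        rw [this]
        exact mul_mem (Subgroup.le_normalizer hz) (Subgroup.center_le_normalizer _ hc)
      have h4 := IsPGroup.to_sup_of_normal_right' P'.isPGroup' P.isPGroup' h3
      have e1 := P.is_maximal' h4 le_sup_right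
      have e2 := P'.is_maximal' h4 le_sup_left
      exact Sylow.ext (e1.symm.trans e2)
    · exact Sylow.mapSurjective_surjective _ p
  · intro Q Q' h; exact Sylow.subtype_injective h
  · intro R
    obtain ⟨Q, hQ⟩ := (R.isPGroup'.map H.subtype).exists_le_sylow
    refine ⟨Q, Sylow.ext (R.is_maximal' (Q.subtype (hle Q)).isPGroup' ?_)⟩
    intro y hy
    exact hQ (Subgroup.mem_map_of_mem _ hy)

end Cfsg.Agent.S4342
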