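import Cfsg.Statements.S4343
import Cfsg.Agent.Lib.Solv.CyclicIndexP

set_option autoImplicit false
open Cfsg

namespace Cfsg.Agent.S4343

/-- Let S be a finite non-abelian simple group and p a prime dividing its order. If S has fewer than p² Sylow p-subgroups, then its Sylow p-subgroups have order p. -/
theorem result {S : Type*} [Group S] [Finite S]
    [IsSimpleGroup S] (hS : ¬ IsMulCommutative S) (p : ℕ) [Fact p.Prime] (hp : p ∣ Nat.card S)
    (hn : Nat.card (Sylow p S) < p ^ 2) (P : Sylow p S) : Nat.card P = p := by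
  open Subgroup in
  open scoped Pointwise in
  have hp1 := (Fact.out : p.Prime)
  have hcardeq : ∀ Q R : Sylow p S, Nat.card (Q : Subgroup S) = Nat.card (R : Subgroup S) := fun Q R => by
    rw [Sylow.card_eq_multiplicity, Sylow.card_eq_multiplicity]
  have hint : ∀ Q R : Sylow p S, Q ≠ R → Nat.card ↥((Q : Subgroup S) ⊓ R) * p = Nat.card (Q : Subgroup S) := by
    intro Q R hne
    have hstab : MulAction.stabilizer (Q : Subgroup S) R = ((Q : Subgroup S) ⊓ R).subgroupOf Q := by
      ext g
      rw [MulAction.mem_stabilizer_iff, mem_subgroupOf, mem_inf]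
      constructor
      · intro h
        refine ⟨g.2, ?_⟩
        have h' : (g : S) ∈ (Q : Subgroup S) ⊓ normalizer (R : Set S) :=
          ⟨g.2, Sylow.smul_eq_iff_mem_normalizer.1 h⟩
        rw [Q.isPGroup'.inf_normalizer_sylow] at h'
        exact h'.2
      · exact fun h => Sylow.smul_eq_iff_mem_normalizer.2 (le_normalizer h.2)
    obtain ⟨k, hk⟩ := Q.isPGroup'.index (MulAction.stabilizer (Q : Subgroup S) R)
    have hlt : p ^ k < p ^ 2 := by
      rw [← hk, MulAction.index_stabilizer]
      exact lt_of_le_of_lt ((Set.ncard_le_card _)) hn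
    have hk2 : k < 2 := (pow_lt_pow_iff_right₀ hp1.one_lt).1 hlt
    have hk0 : k ≠ 0 := by
      intro h
      rw [h, pow_zero, hstab, index_eq_one, subgroupOf_eq_top, le_inf_iff] at hk
      exact hne (Sylow.ext (eq_of_le_of_card_ge hk.2 (hcardeq _ _).ge))
    have h := card_mul_index (MulAction.stabilizer (Q : Subgroup S) R)
    rw [hk, show k = 1 by omega, pow_one, hstab, Nat.card_congr (subgroupOfEquivOfLe (inf_le_left : (Q : Subgroup S) ⊓ R ≤ Q)).toEquiv] at h
    exact h
  have hPp : ∀ Q : Sylow p S, (Q : Subgroup S) ≠ ⊥ := fun Q h => by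
    have := Q.dvd_card_of_dvd_card hp
    rw [h, card_bot] at this
    exact hp1.not_dvd_one this
  by_cases hsub : ∀ Q : Sylow p S, Q = P
  · exfalso
    have hPn : (P : Subgroup S).Normal := normalizer_eq_top_iff.1 (eq_top_iff.2 fun g _ =>
      Sylow.smul_eq_iff_mem_normalizer.1 (hsub _))
    rcases IsSimpleGroup.eq_bot_or_eq_top_of_normal _ hPn with h | h
    · exact hPp P h
    · have hpS : IsPGroup p S := IsPGroup.of_equiv (h ▸ P.isPGroup') topEquiv
      haveI := hpS.isNilpotent
      haveI : Nontrivial S := IsSimpleGroup.toNontrivial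
      rcases IsSimpleGroup.eq_bot_or_eq_top_of_normal (center S) inferInstance with hc | hc
      · exact (nontrivial_iff_ne_bot _).1 hpS.center_nontrivial hc
      · exact hS ⟨⟨fun a b => (mem_center_iff.1 (hc.ge (mem_top a)) b).symm⟩⟩
  push_neg at hsub
  obtain ⟨Q, hQ⟩ := hsub
  set D := (P : Subgroup S) ⊓ Q
  have hD : ∀ R : Sylow p S, D ≤ R := by
    intro R
    by_contra hDR
    obtain ⟨d, hd, hdR⟩ := SetLike.not_le_iff_exists.1 hDR
    have key : ∀ T : Sylow p S, d ∈ (T : Subgroup S) →
        (T : Subgroup S) ⊓ R = (R : Subgroup S) ⊓ ((d • R : Sylow p S) : Subgroup S) := by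
      intro T hT
      have hTR : T ≠ R := fun h => hdR (h ▸ hT)
      have hidx : (((T : Subgroup S) ⊓ R).subgroupOf T).index = p := by
        have h := card_mul_index (((T : Subgroup S) ⊓ R).subgroupOf T)
        rw [Nat.card_congr (subgroupOfEquivOfLe (inf_le_left : (T : Subgroup S) ⊓ R ≤ T)).toEquiv, ← hint T R hTR] at h
        exact Nat.eq_of_mul_eq_mul_left Nat.card_pos h
      haveI := Cfsg.Agent.Solv.CycP.normal_of_index_prime T.isPGroup' _ hidx
      have hne : R ≠ d • R := by
        intro h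
        apply hdR
        have h' : d ∈ (T : Subgroup S) ⊓ normalizer (R : Set S) := ⟨hT, Sylow.smul_eq_iff_mem_normalizer.1 h.symm⟩
        rw [T.isPGroup'.inf_normalizer_sylow] at h'
        exact h'.2
      refine eq_of_le_of_card_ge (le_inf inf_le_right fun x hx => ?_) (Nat.le_of_mul_le_mul_right (le_of_eq ?_) hp1.pos)
      · have h1 := (inferInstance : (((T : Subgroup S) ⊓ R).subgroupOf (T : Subgroup S)).Normal).conj_mem ⟨x, hx.1⟩ hx (⟨d, hT⟩ : (T : Subgroup S))⁻¹
        have h2 : d⁻¹ * x * d ∈ R := by simpa using h1.2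
        rw [Sylow.coe_subgroup_smul]
        exact ⟨_, h2, by simp [mul_assoc]⟩
      · rw [hint R _ hne, hint T R hTR]; exact hcardeq _ _
    have e1 := key P hd.1
    have e2 := key Q hd.2
    have hle : (P : Subgroup S) ⊓ R ≤ D := le_inf inf_le_left ((e1.trans e2.symm).le.trans inf_le_left)
    have hPR : P ≠ R := fun h => hdR (h ▸ hd.1)
    have heq := eq_of_le_of_card_ge hle (Nat.le_of_mul_le_mul_right (le_of_eq (by rw [hint P Q (Ne.symm hQ), hint P R hPR])) hp1.pos)
    exact hdR (heq.ge hd).2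
  have hDn : D.Normal := by
    refine ⟨fun x hx g => ⟨?_, ?_⟩⟩
    · have := hD (g⁻¹ • P) hx
      rw [Sylow.coe_subgroup_smul] at this
      obtain ⟨y, hy, rfl⟩ := this
      simpa [mul_assoc] using hy
    · have := hD (g⁻¹ • Q) hx
      rw [Sylow.coe_subgroup_smul] at this
      obtain ⟨y, hy, rfl⟩ := this
      simpa [mul_assoc] using hy
  rw [← hint P Q (Ne.symm hQ)]
  rcases IsSimpleGroup.eq_bot_or_eq_top_of_normal D hDn with h | h
  · rw [show (P : Subgroup S) ⊓ Q = ⊥ from h, card_bot, one_mul]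
  · exfalso
    have h1 := hint P Q (Ne.symm hQ)
    have h2 : Nat.card (P : Subgroup S) ≤ Nat.card ↥((P : Subgroup S) ⊓ Q) := by
      rw [show (P : Subgroup S) ⊓ Q = ⊤ from h, card_top]; exact Nat.le_of_dvd Nat.card_pos (card_subgroup_dvd_card _)
    have h3 : 0 < Nat.card ↥((P : Subgroup S) ⊓ Q) := Nat.card_pos
    have h4 := hp1.two_le
    nlinarith

end Cfsg.Agent.S4343
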