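import Cfsg.Statements.S4344
import Mathlib

set_option autoImplicit false
open Cfsg

namespace Cfsg.Agent.S4344

---pre
open Subgroup

/-- Let S be a finite non-abelian simple group, M a maximal subgroup of S and C a cyclic normal subgroup of M. If a Sylow p-subgroup P of S (for a prime p dividing the order of S) is contained in C, then the number of Sylow p-subgroups of S equals the index of M. -/
theorem result {S : Type*} [Group S] [Finite S]
    [IsSimpleGroup S] (hS : ¬ IsMulCommutative S) (p : ℕ) [Fact p.Prime] (hp : p ∣ Nat.card S)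
    (M : Subgroup S) (hM : IsCoatom M) (C : Subgroup S) (hCM : C ≤ M) (hCn : (C.subgroupOf M).Normal)
    (hC : IsCyclic C) (P : Sylow p S) (hP : (P : Subgroup S) ≤ C) :
    Nat.card (Sylow p S) = M.index := by
  rw [Sylow.card_eq_index_normalizer P]
  congr 1
  have hPne : (P : Subgroup S) ≠ ⊥ := P.ne_bot_of_dvd_card hp
  have hMle : M ≤ Subgroup.normalizer ((P : Subgroup S) : Set S) := by
    have := hC
    intro m hm
    rw [mem_normalizer_iff_map_conj_eq]
    have hmC : C.map (MulAut.conj m).toMonoidHom = C :=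
      mem_normalizer_iff_map_conj_eq.1 ((Subgroup.normal_subgroupOf_iff_le_normalizer hCM).1 hCn hm)
    apply Subgroup.eq_of_le_of_card_ge
    · have hle : (P : Subgroup S).map (MulAut.conj m).toMonoidHom ≤ C := hmC ▸ Subgroup.map_mono hP
      intro z hz
      obtain ⟨w, hw, rfl⟩ := hz
      obtain ⟨c, hc⟩ := IsCyclic.exists_generator (α := C)
      obtain ⟨a, ha⟩ := hc ⟨w, hP hw⟩
      obtain ⟨b, hb⟩ := hc ⟨MulAut.conj m w, hle ⟨w, hw, rfl⟩⟩
      have hQ : IsPGroup p ((P : Subgroup S) ⊔ (P : Subgroup S).map (MulAut.conj m).toMonoidHom : Subgroup S) := by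
        refine IsPGroup.to_sup_of_normal_right' (P.isPGroup') (P.isPGroup'.map _) ?_
        intro u hu
        rw [mem_normalizer_iff_map_conj_eq]
        ext v
        have hcomm : ∀ v ∈ (P : Subgroup S).map (MulAut.conj m).toMonoidHom, MulAut.conj u v = v := by
          intro v hv
          have h1 : (⟨u, hP hu⟩ : C) * ⟨v, hle hv⟩ = ⟨v, hle hv⟩ * ⟨u, hP hu⟩ :=
            (IsCyclic.isMulCommutative (α := C)).is_comm.comm _ _
          have h2 : u * v = v * u := congrArg Subtype.val h1
          rw [MulAut.conj_apply, h2, mul_assoc, mul_inv_cancel, mul_one]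
        constructor
        · rintro ⟨t, ht, rfl⟩
          show MulAut.conj u t ∈ _
          rw [hcomm t ht]; exact ht
        · intro hv
          exact ⟨v, hv, hcomm v hv⟩
      have := P.is_maximal' hQ le_sup_left
      exact this ▸ (le_sup_right (a := (P : Subgroup S)) ⟨w, hw, rfl⟩)
    · exact (Nat.card_congr ((P : Subgroup S).equivMapOfInjective _ (MulEquiv.injective _)).toEquiv).le
  refine ((hM.le_iff_eq ?_).1 hMle)
  intro htop
  have hn : (P : Subgroup S).Normal := Subgroup.normalizer_eq_top_iff.1 htop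
  rcases hn.eq_bot_or_eq_top with h1 | h1
  · exact hPne h1
  · apply hS
    have htopC : C = ⊤ := top_le_iff.1 (h1 ▸ hP)
    exact absurd (top_le_iff.1 (htopC ▸ hCM)) hM.1

end Cfsg.Agent.S4344
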