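import Cfsg.Statements.S4345
import Cfsg.Agent.Lib.Solv.Basic

set_option autoImplicit false
open Cfsg

namespace Cfsg.Agent.S4345

---pre
universe u

theorem aux (p ℓ : ℕ) [Fact p.Prime] (hℓ : ℓ.Prime) : ∀ (n : ℕ) (G : Type u) [Group G] [Finite G],
    Nat.card G = n → Group.IsSolvable G →
      ℓ ^ (Nat.card (Sylow p G)).factorization ℓ ≡ 1 [MOD p] := by
  intro n
  induction n using Nat.strong_induction_on with
  | _ n ih =>
    intro G _ _ hn hG
    haveI := hG
    rcases subsingleton_or_nontrivial G with hs | hs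
    · have : Nat.card (Sylow p G) = 1 := by
        haveI : Subsingleton (Sylow p G) := ⟨fun P Q => Sylow.ext (Subsingleton.elim _ _)⟩
        exact Nat.card_eq_one_iff_unique.2 ⟨inferInstance, inferInstance⟩
      rw [this, Nat.factorization_one]; simp; rfl
    obtain ⟨N, hNn, -, hN0, hNmin⟩ :=
      Cfsg.Agent.Solv.exists_minimal_normal_le (G := G) (N := ⊤) top_ne_bot
    haveI := hNn
    obtain ⟨-, r, hr, hexp⟩ := Cfsg.Agent.Solv.minimal_normal_elementary N hN0 hNmin
    haveI : Fact r.Prime := ⟨hr⟩
    obtain ⟨k, hk⟩ := IsPGroup.iff_card.1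
      (fun x => ⟨1, by rw [pow_one]; exact Subtype.ext (hexp _ x.2)⟩ : IsPGroup r N)
    obtain ⟨P⟩ : Nonempty (Sylow p G) := inferInstance
    set M := (P : Subgroup G) ⊔ N with hM
    set L := Subgroup.normalizer ((P : Subgroup G) : Set G) with hL
    set K := Subgroup.normalizer (M : Set G) with hK
    have hMK : M ≤ K := Subgroup.le_normalizer
    have hπs := QuotientGroup.mk'_surjective N
    set Pb := P.mapSurjective hπs with hPb
    have hcomap : (Pb : Subgroup (G ⧸ N)).comap (QuotientGroup.mk' N) = M := by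
      rw [hPb, Sylow.coe_mapSurjective, Subgroup.comap_map_eq, QuotientGroup.ker_mk']
    have hKidx : K.index = Nat.card (Sylow p (G ⧸ N)) := by
      rw [Pb.card_eq_index_normalizer]
      show K.index = (Subgroup.normalizer ((Pb : Subgroup (G ⧸ N)) : Set (G ⧸ N))).index
      rw [hK, ← hcomap, ← Subgroup.comap_normalizer_eq_of_surjective _ hπs,
        Subgroup.index_comap_of_surjective _ hπs]
    have hLK : L ≤ K := by
      intro g hg
      rw [hK, Subgroup.mem_normalizer_iff_map_conj_eq, hM, Subgroup.map_sup,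
        Subgroup.mem_normalizer_iff_map_conj_eq.1 hg,
        Subgroup.mem_normalizer_iff_map_conj_eq.1 (Subgroup.le_normalizer_of_normal (Subgroup.mem_top g))]
    have hcount : L.relIndex K = Nat.card (Sylow p K) := by
      rw [(P.subtype (le_sup_left.trans hMK)).card_eq_index_normalizer]
      show _ = (Subgroup.normalizer (((P.subtype (le_sup_left.trans hMK) : Sylow p K) : Subgroup K) : Set K)).index
      rw [Sylow.coe_subtype, ← Subgroup.subgroupOf_normalizer_eq (le_sup_left.trans hMK)]
      rfl
    have hfr : K ≤ N ⊔ L := by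
      intro g hg
      have hgP : ((g • P : Sylow p G) : Subgroup G) ≤ M := by
        intro y hy
        rw [Sylow.coe_subgroup_smul, Subgroup.mem_pointwise_smul_iff_inv_smul_mem] at hy
        have h2 : g⁻¹ * y * g ∈ M := Subgroup.mem_sup_left (by simpa [MulAut.smul_def] using hy)
        have h3 := (Subgroup.mem_normalizer_iff.1 hg _).1 h2
        simpa [mul_assoc] using h3
      obtain ⟨m, hm⟩ := MulAction.exists_smul_eq ↥M ((g • P).subtype hgP) (P.subtype le_sup_left)
      rw [Sylow.smul_subtype] at hm
      have hmg : (m : G) • g • P = P := Sylow.subtype_injective hm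
      rw [smul_smul, Sylow.smul_eq_iff_mem_normalizer] at hmg
      have : g = (m : G)⁻¹ * ((m : G) * g) := by group
      rw [this]
      refine mul_mem ?_ (Subgroup.mem_sup_right hmg)
      exact (sup_le (Subgroup.le_normalizer.trans le_sup_right) le_sup_left : M ≤ N ⊔ L) (inv_mem m.2)
    have hdvd : L.relIndex K ∣ Nat.card N := by
      have hKeq : K = N ⊔ L :=
        le_antisymm hfr (sup_le (le_sup_right.trans hMK) hLK)
      have e1 := Cfsg.Agent.Solv.card_sup_mul_card_inf N L Subgroup.le_normalizer_of_normal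
      rw [← hKeq] at e1
      have e2 : L.relIndex K * Nat.card L = Nat.card K := by
        rw [← Subgroup.index_mul_card (L.subgroupOf K), Cfsg.Agent.Solv.card_subgroupOf hLK]; rfl
      rw [← e2] at e1
      refine ⟨Nat.card ↥(N ⊓ L), Nat.eq_of_mul_eq_mul_right (Nat.card_pos (α := L)) ?_⟩
      rw [← e1]; ring
    obtain ⟨j, -, hj⟩ := (Nat.dvd_prime_pow hr).1 (hk ▸ hdvd)
    have h1 : L.relIndex K ≡ 1 [MOD p] := hcount ▸ card_sylow_modEq_one p K
    have h2 : ℓ ^ (L.relIndex K).factorization ℓ ≡ 1 [MOD p] := by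
      by_cases hrl : r = ℓ
      · subst hrl
        have : (r ^ j).factorization r = j := by rw [hr.factorization_pow, Finsupp.single_eq_same]
        rw [hj, this, ← hj]; exact h1
      · have : (r ^ j).factorization ℓ = 0 := by
          rw [hr.factorization_pow, Finsupp.single_eq_of_ne (Ne.symm hrl)]
        rw [hj, this, pow_zero]
    have hlt : Nat.card (G ⧸ N) < n := by
      rw [← hn, Subgroup.card_eq_card_quotient_mul_card_subgroup N]
      exact lt_mul_of_one_lt_right Nat.card_pos ((Subgroup.one_lt_card_iff_ne_bot N).2 hN0)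
    have h3 := ih _ hlt (G ⧸ N) rfl (solvable_of_surjective hπs)
    rw [P.card_eq_index_normalizer]
    show ℓ ^ L.index.factorization ℓ ≡ 1 [MOD p]
    rw [← Subgroup.relIndex_mul_index hLK,
      Nat.factorization_mul (show L.relIndex K ≠ 0 from Subgroup.index_ne_zero_of_finite (H := L.subgroupOf K))
        Subgroup.index_ne_zero_of_finite, Finsupp.add_apply, pow_add, hKidx]
    exact (h2.mul h3).trans (by rw [one_mul])

/-- Let G be a finite solvable group and p, ℓ primes. Then the largest power of ℓ dividing the number of Sylow p-subgroups of G is congruent to 1 modulo p. -/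
theorem result {G : Type*} [Group G] [Finite G]
    (hG : Group.IsSolvable G) (p ℓ : ℕ) [Fact p.Prime] (hℓ : ℓ.Prime) :
    ℓ ^ (Nat.card (Sylow p G)).factorization ℓ ≡ 1 [MOD p] := by
  exact aux p ℓ hℓ _ G rfl hG

end Cfsg.Agent.S4345
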