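import Cfsg.Statements.S4346
import Cfsg.Agent.Lib.Perm.SylowTwentyTwo

set_option autoImplicit false
open Cfsg

namespace Cfsg.Agent.S4346

/-- No finite group has exactly 22 Sylow 3-subgroups. -/
theorem result {G : Type*} [Group G] [Finite G] : Nat.card (Sylow 3 G) ≠ 22 := by
  intro hn
  have : Fact (Nat.Prime 3) := ⟨Nat.prime_three⟩
  have : Fact (Nat.Prime 11) := ⟨by norm_num⟩
  obtain ⟨H, _, _, _, _, hF, hcard, hsgn⟩ := Perm.N22.exists_even G hn
  exact Perm.N22.false_of_twentytwo (H := H) hcard hsgn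

end Cfsg.Agent.S4346
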