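import Cfsg.Statements.S4347
import Mathlib

set_option autoImplicit false
open Cfsg

namespace Cfsg.Agent.S4347

---pre
open Subgroup

/-- Let G be a finite group and p a prime. Say a Sylow p-subgroup Q is redundant when every element of p-power order lies in some Sylow p-subgroup other than Q. Then G has no redundant Sylow p-subgroup if and only if some element of p-power order lies in exactly one Sylow p-subgroup. -/
theorem result {G : Type*} [Group G] [Finite G]
    (p : ℕ) [Fact p.Prime] :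
    (¬ ∃ Q : Sylow p G, ∀ x : G, (∃ k : ℕ, orderOf x = p ^ k) → ∃ P : Sylow p G, P ≠ Q ∧ x ∈ P) ↔
      ∃ x : G, (∃ k : ℕ, orderOf x = p ^ k) ∧ ∃! P : Sylow p G, x ∈ P := by
  constructor
  · intro h
    obtain ⟨Q⟩ := (inferInstance : Nonempty (Sylow p G))
    have h1 : ¬ ∀ x : G, (∃ k : ℕ, orderOf x = p ^ k) → ∃ P : Sylow p G, P ≠ Q ∧ x ∈ P :=
      fun e => h ⟨Q, e⟩
    push Not at h1
    obtain ⟨x, hx, hu⟩ := h1
    have hpx : IsPGroup p (zpowers x) := by
      obtain ⟨k, hk⟩ := hx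
      exact IsPGroup.of_card (n := k) (by rw [Nat.card_zpowers, hk])
    obtain ⟨P, hP⟩ := hpx.exists_le_sylow
    refine ⟨x, hx, P, hP (mem_zpowers x), fun R hR => ?_⟩
    have hPQ : P = Q := by by_contra hne; exact hu P hne (hP (mem_zpowers x))
    by_contra hne
    exact hu R (fun e => hne (e.trans hPQ.symm)) hR
  · rintro ⟨x, ⟨k, hk⟩, P, hxP, hu⟩ ⟨Q, hQ⟩
    obtain ⟨g, rfl⟩ := MulAction.exists_smul_eq G P Q
    obtain ⟨R, hR, hxR⟩ := hQ (g * x * g⁻¹) ⟨k, by rw [← hk, ← MulAut.conj_apply, MulEquiv.orderOf_eq]⟩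
    apply hR
    have h1 : x ∈ (g⁻¹ • R : Sylow p G) :=
      ⟨g * x * g⁻¹, hxR, show g⁻¹ * (g * x * g⁻¹) * g⁻¹⁻¹ = x by group⟩
    rw [← hu _ h1, smul_inv_smul]

end Cfsg.Agent.S4347
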