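import Cfsg.Statements.S4348

set_option autoImplicit false
open Cfsg

namespace Cfsg.Agent.S4348

/-- Let G be a finite group, p a prime and P a Sylow p-subgroup of G, and let O_p(G) be the largest normal p-subgroup of G. If P/O_p(G) is cyclic, then some element of p-power order of G lies in exactly one Sylow p-subgroup. -/
theorem result {G : Type*} [Group G] [Finite G]
    (p : ℕ) [Fact p.Prime] (P : Sylow p G)
    [hn : ((Cfsg.pCore p G).subgroupOf (P : Subgroup G)).Normal]
    (hc : IsCyclic ((P : Subgroup G) ⧸ (Cfsg.pCore p G).subgroupOf (P : Subgroup G))) :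
    ∃ x : G, (∃ k : ℕ, orderOf x = p ^ k) ∧ ∃! Q : Sylow p G, x ∈ Q := by
  set O := (Cfsg.pCore p G).subgroupOf (P : Subgroup G)
  obtain ⟨q, hq⟩ := hc.exists_generator
  induction q using QuotientGroup.induction_on with
  | _ x =>
    refine ⟨x, ?_, P, x.2, fun Q hxQ => ?_⟩
    · obtain ⟨k, hk⟩ := IsPGroup.iff_orderOf.1 P.isPGroup' x
      exact ⟨k, by rw [Subgroup.orderOf_coe, hk]⟩
    refine Sylow.ext (P.isPGroup'.toSylow ?_ |>.is_maximal' Q.isPGroup' ?_)
    · exact P.not_dvd_index
    intro y hy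
    obtain ⟨n, hn⟩ := Subgroup.mem_zpowers_iff.1 (hq (QuotientGroup.mk (⟨y, hy⟩ : (P : Subgroup G))))
    rw [← QuotientGroup.mk_zpow, QuotientGroup.eq] at hn
    have h2 : (x : G) ^ n ∈ (Q : Subgroup G) := zpow_mem hxQ n
    have h3 : ((x : G) ^ n)⁻¹ * y ∈ Cfsg.pCore p G := hn
    have hcore : Cfsg.pCore p G ≤ (Q : Subgroup G) := by
      refine sSup_le fun N hN => ?_
      haveI := hN.1
      exact hN.2.le_sylow_of_normal Q
    simpa using mul_mem h2 (hcore h3)

end Cfsg.Agent.S4348
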